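import Cfsg.Statements.S0675
import Cfsg.Agent.Lib.Helper19.PrimeDegree2

set_option autoImplicit false
open Cfsg

namespace Cfsg.Agent.S0675

open Cfsg.Agent.Lib.Helper19.PrimeDegree

section ZModSide
variable {p : ℕ} [Fact p.Prime]

/-- subgroups of the affine group are solvable -/
theorem solvable_of_le_affine (H : Subgroup (Equiv.Perm (ZMod p)))
    (hH : H ≤ Cfsg.affineGroup (ZMod p)) : Group.IsSolvable H := by
  have hne : ∀ h : H, (h : Equiv.Perm (ZMod p)) 1 - (h : Equiv.Perm (ZMod p)) 0 ≠ 0 := by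
    intro h h0
    exact one_ne_zero ((h : Equiv.Perm (ZMod p)).injective (sub_eq_zero.mp h0))
  let lin : H →* (ZMod p)ˣ :=
    { toFun := fun h => Units.mk0 _ (hne h)
      map_one' := by
        apply Units.ext
        simp
      map_mul' := by
        intro h h'
        apply Units.ext
        obtain ⟨a, b, hab⟩ := hH h.2
        simp only [Units.val_mk0, Units.val_mul, Subgroup.coe_mul, Equiv.Perm.mul_apply]
        rw [hab, hab, hab 1, hab 0]
        ring }
  have hker : ∀ h : H, h ∈ lin.ker → ∀ x, (h : Equiv.Perm (ZMod p)) x = x + (h : Equiv.Perm (ZMod p)) 0 := by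
    intro h hh x
    obtain ⟨a, b, hab⟩ := hH h.2
    have h1 : (h : Equiv.Perm (ZMod p)) 1 - (h : Equiv.Perm (ZMod p)) 0 = 1 := by
      have := congrArg Units.val (MonoidHom.mem_ker.mp hh)
      simpa [lin] using this
    rw [hab 1, hab 0] at h1
    have ha : (a : ZMod p) = 1 := by linear_combination h1
    rw [hab x, hab 0, ha]
    ring
  haveI : Group.IsSolvable lin.ker := by
    apply Group.isSolvable_of_comm
    intro u v
    apply Subtype.ext
    apply Subtype.ext
    ext x
    show ((u : H) : Equiv.Perm (ZMod p)) (((v : H) : Equiv.Perm (ZMod p)) x)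
      = ((v : H) : Equiv.Perm (ZMod p)) (((u : H) : Equiv.Perm (ZMod p)) x)
    have e1 := hker u u.2 (((v : H) : Equiv.Perm (ZMod p)) x)
    have e2 := hker v v.2 x
    have e3 := hker v v.2 (((u : H) : Equiv.Perm (ZMod p)) x)
    have e4 := hker u u.2 x
    rw [e1, e2, e3, e4]
    ring
  exact Group.isSolvable_of_ker_le_range lin.ker.subtype lin (by rw [Subgroup.range_subtype])

theorem translation_mem (G : Subgroup (Equiv.Perm (ZMod p))) (ht : Equiv.addRight (1 : ZMod p) ∈ G)
    (k : ZMod p) : Equiv.addRight k ∈ G := by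
  have h : ∀ n : ℕ, Equiv.addRight ((n : ℕ) : ZMod p) ∈ G := by
    intro n
    induction n with
    | zero =>
      have : Equiv.addRight ((0 : ℕ) : ZMod p) = 1 := by ext x; simp
      rw [this]; exact G.one_mem
    | succ n ih =>
      have : Equiv.addRight ((n + 1 : ℕ) : ZMod p) = Equiv.addRight 1 * Equiv.addRight (n : ZMod p) := by
        ext x
        simp only [Equiv.Perm.mul_apply, Equiv.coe_addRight]
        push_cast
        ring
      rw [this]; exact G.mul_mem ht ih
  have := h k.val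
  rwa [ZMod.natCast_zmod_val] at this

/-- **Burnside** for groups on `ZMod p` containing the translation `x ↦ x + 1`. -/
theorem burnside_zmod (G : Subgroup (Equiv.Perm (ZMod p))) (ht : Equiv.addRight (1 : ZMod p) ∈ G) :
    G ≤ Cfsg.affineGroup (ZMod p) ∨
      (∀ a b c d : ZMod p, a ≠ b → c ≠ d → ∃ g ∈ G, g a = c ∧ g b = d) := by
  classical
  have htr := translation_mem G ht
  by_cases h : ∀ u : ZMod p, u ≠ 0 → ∃ g ∈ G, g 0 = 0 ∧ g 1 = u
  · right
    have key : ∀ a b : ZMod p, a ≠ b → ∃ g ∈ G, g 0 = a ∧ g 1 = b := by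
      intro a b hab
      obtain ⟨g, hgG, hg0, hg1⟩ := h (b - a) (sub_ne_zero.mpr hab.symm)
      refine ⟨Equiv.addRight a * g, G.mul_mem (htr a) hgG, ?_, ?_⟩
      · rw [Equiv.Perm.mul_apply, hg0]; simp
      · rw [Equiv.Perm.mul_apply, hg1]; simp
    intro a b c d hab hcd
    obtain ⟨g₁, hg₁G, h10, h11⟩ := key a b hab
    obtain ⟨g₂, hg₂G, h20, h21⟩ := key c d hcd
    refine ⟨g₂ * g₁⁻¹, G.mul_mem hg₂G (G.inv_mem hg₁G), ?_, ?_⟩
    · rw [Equiv.Perm.mul_apply, ← h10, Equiv.Perm.coe_inv, Equiv.symm_apply_apply, h20]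
    · rw [Equiv.Perm.mul_apply, ← h11, Equiv.Perm.coe_inv, Equiv.symm_apply_apply, h21]
  · left
    push Not at h
    obtain ⟨u, hu0, hu⟩ := h
    set A : Finset (ZMod p) := Finset.univ.filter (fun a => ∃ g ∈ G, g 1 - g 0 = a) with hA
    have memA : ∀ a, a ∈ A ↔ ∃ g ∈ G, g 1 - g 0 = a := by
      intro a; simp [hA]
    have h0 : (0 : ZMod p) ∉ A := by
      rw [memA]
      rintro ⟨g, -, hg⟩
      exact one_ne_zero (g.injective (sub_eq_zero.mp hg))
    have h1 : (1 : ZMod p) ∈ A := (memA 1).mpr ⟨1, G.one_mem, by simp⟩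
    have huA : u ∉ A := by
      rw [memA]
      rintro ⟨g, hgG, hg⟩
      apply hu (Equiv.addRight (-(g 0)) * g) (G.mul_mem (htr _) hgG)
      · rw [Equiv.Perm.mul_apply]; simp
      · rw [Equiv.Perm.mul_apply, ← hg]; simp [sub_eq_add_neg]
    intro π hπG
    apply affine_of_preserves A h0 ⟨1, h1⟩ ⟨u, hu0, huA⟩ π
    intro x y hxy
    obtain ⟨g, hgG, hg⟩ := (memA _).mp hxy
    rw [memA]
    refine ⟨π * (Equiv.addRight (x - g 0) * g), G.mul_mem hπG (G.mul_mem (htr _) hgG), ?_⟩
    simp only [Equiv.Perm.mul_apply, Equiv.coe_addRight]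
    have e1 : g 1 + (x - g 0) = y := by linear_combination hg
    have e0 : g 0 + (x - g 0) = x := by ring
    rw [e1, e0]

end ZModSide

theorem two_pretransitive_of {α : Type*} (G : Subgroup (Equiv.Perm α))
    (h : ∀ a b c d : α, a ≠ b → c ≠ d → ∃ g ∈ G, g a = c ∧ g b = d) :
    MulAction.IsMultiplyPretransitive G α 2 := by
  constructor
  intro x y
  obtain ⟨g, hgG, h0, h1⟩ := h (x 0) (x 1) (y 0) (y 1) (x.injective.ne (by decide))
    (y.injective.ne (by decide))
  refine ⟨⟨g, hgG⟩, ?_⟩
  ext i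
  fin_cases i
  · exact h0
  · exact h1

/-- Burnside's Theorem on permutation groups of prime degree: a transitive permutation group of prime degree that is not solvable is doubly transitive. -/
theorem result {α : Type*} [Fintype α] [DecidableEq α] (hα : (Fintype.card α).Prime) (G : Subgroup (Equiv.Perm α)) [MulAction.IsPretransitive G α] : Group.IsSolvable G ∨ MulAction.IsMultiplyPretransitive G α 2 := by
  classical
  obtain ⟨p, hp⟩ : ∃ p, p = Fintype.card α := ⟨_, rfl⟩
  haveI : Fact p.Prime := ⟨hp ▸ hα⟩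
  haveI : Nonempty α := Fintype.card_pos_iff.mp hα.pos
  obtain ⟨a₀⟩ := ‹Nonempty α›
  -- an element of order `p`
  have hdvd : p ∣ Nat.card G := by
    have h1 := MulAction.index_stabilizer_of_transitive G a₀
    rw [hp, ← Nat.card_eq_fintype_card, ← h1]
    exact Subgroup.index_dvd_card _
  obtain ⟨c, hc⟩ := exists_prime_orderOf_dvd_card' p hdvd
  have hc' : orderOf (c : Equiv.Perm α) = p := by rw [Subgroup.orderOf_coe]; exact hc
  have hcyc : (c : Equiv.Perm α).IsCycle :=
    Equiv.Perm.isCycle_of_prime_order'' hα (by rw [hc', hp])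
  have hsupp : ∀ x : α, (c : Equiv.Perm α) x ≠ x := by
    have hs : (c : Equiv.Perm α).support = Finset.univ := by
      apply Finset.eq_univ_of_card
      rw [← hcyc.orderOf, hc', hp]
    intro x
    exact Equiv.Perm.mem_support.mp (hs ▸ Finset.mem_univ x)
  have hcp : (c : Equiv.Perm α) ^ p = 1 := by rw [← hc']; exact pow_orderOf_eq_one _
  -- the labelling
  set φ : ZMod p → α := fun k => ((c : Equiv.Perm α) ^ k.val) a₀ with hφ
  have hφn : ∀ n : ℕ, φ (n : ZMod p) = ((c : Equiv.Perm α) ^ n) a₀ := by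
    intro n
    show ((c : Equiv.Perm α) ^ ((n : ZMod p).val)) a₀ = _
    rw [ZMod.val_natCast, ← hc', pow_mod_orderOf]
  have hsurj : Function.Surjective φ := by
    intro y
    obtain ⟨i, hi⟩ := hcyc.exists_pow_eq (hsupp a₀) (hsupp y)
    exact ⟨(i : ZMod p), by rw [hφn, hi]⟩
  have hbij : Function.Bijective φ :=
    (Fintype.bijective_iff_surjective_and_card φ).mpr ⟨hsurj, by rw [ZMod.card, hp]⟩
  let e : ZMod p ≃ α := Equiv.ofBijective φ hbij
  have he : ∀ k, e k = φ k := fun k => rfl
  have hce : ∀ k : ZMod p, (c : Equiv.Perm α) (e k) = e (k + 1) := by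
    intro k
    have h1 : e k = ((c : Equiv.Perm α) ^ k.val) a₀ := rfl
    have h2 : e (k + 1) = ((c : Equiv.Perm α) ^ (k.val + 1)) a₀ := by
      rw [he, ← hφn]
      congr 1
      push_cast
      rw [ZMod.natCast_zmod_val]
    rw [h1, h2, pow_succ', Equiv.Perm.mul_apply]
  -- transport
  let Φ : Equiv.Perm α ≃* Equiv.Perm (ZMod p) := e.symm.permCongrHom
  have hΦ : ∀ (σ : Equiv.Perm α) (k : ZMod p), Φ σ k = e.symm (σ (e k)) := fun σ k => rfl
  set G' : Subgroup (Equiv.Perm (ZMod p)) := G.map Φ.toMonoidHom with hG'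
  have ht : Equiv.addRight (1 : ZMod p) ∈ G' := by
    refine ⟨(c : Equiv.Perm α), c.2, ?_⟩
    ext k
    show Φ (c : Equiv.Perm α) k = k + 1
    rw [hΦ, hce, Equiv.symm_apply_apply]
  rcases burnside_zmod G' ht with h | h
  · left
    haveI : Group.IsSolvable G' := solvable_of_le_affine G' h
    let ι := G.equivMapOfInjective Φ.toMonoidHom Φ.injective
    exact Group.isSolvable_of_isSolvable_injective (f := ι.toMonoidHom) ι.injective
  · right
    apply two_pretransitive_of
    intro a b c' d hab hcd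
    obtain ⟨g', ⟨g, hgG, rfl⟩, h0, h1⟩ := h (e.symm a) (e.symm b) (e.symm c') (e.symm d)
      (fun h' => hab (e.symm.injective h')) (fun h' => hcd (e.symm.injective h'))
    refine ⟨g, hgG, ?_, ?_⟩
    · have : Φ g (e.symm a) = e.symm c' := h0
      rw [hΦ, Equiv.apply_symm_apply] at this
      exact e.symm.injective this
    · have : Φ g (e.symm b) = e.symm d := h1
      rw [hΦ, Equiv.apply_symm_apply] at this
      exact e.symm.injective this

end Cfsg.Agent.S0675
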