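import Mathlib
import Cfsg.Statements.S0672

set_option autoImplicit false
open Cfsg

namespace Cfsg.Agent.S0672

open MulAction
open scoped Pointwise

section Combinatorics
variable {G : Type*} [Group G] {Ω : Type*} [DecidableEq Ω] [MulAction G Ω]

/-- the unordered pair `{b, c}` -/
def mkPair (b c : Ω) (h : b ≠ c) : Set.powersetCard Ω 2 := ⟨{b, c}, Finset.card_pair h⟩

theorem mem_mkPair {b c : Ω} (h : b ≠ c) (x : Ω) : x ∈ mkPair b c h ↔ x = b ∨ x = c := by
  show x ∈ ({b, c} : Finset Ω) ↔ _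
  simp

theorem smul_mem_smul_iff (g : G) (π : Set.powersetCard Ω 2) (a : Ω) :
    g • a ∈ g • π ↔ a ∈ π := by
  show g • a ∈ ((g • π : Set.powersetCard Ω 2) : Finset Ω) ↔ a ∈ (π : Finset Ω)
  rw [Set.powersetCard.coe_smul, Finset.smul_mem_smul_finset_iff]

theorem mem_smul_iff (g : G) (π : Set.powersetCard Ω 2) (a : Ω) :
    a ∈ g • π ↔ g⁻¹ • a ∈ π := by
  rw [← smul_mem_smul_iff g π (g⁻¹ • a), smul_inv_smul]

theorem smul_mkPair (g : G) {b c : Ω} (h : b ≠ c) :
    g • mkPair b c h = mkPair (g • b) (g • c) (fun e => h (MulAction.injective g e)) := by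
  apply Subtype.ext
  rw [Set.powersetCard.coe_smul]
  show g • ({b, c} : Finset Ω) = {g • b, g • c}
  rw [Finset.smul_finset_insert, Finset.smul_finset_singleton]

/-- an involution in a point stabiliser swapping two points -/
theorem exists_swap [FaithfulSMul G Ω] (a₀ : Ω) (heven : Even (Nat.card (stabilizer G a₀)))
    [Finite G] : ∃ (t : G) (u w : Ω), t • a₀ = a₀ ∧ u ≠ w ∧ u ≠ a₀ ∧ w ≠ a₀ ∧ t • u = w ∧ t • w = u := by
  haveI : Fact (Nat.Prime 2) := ⟨Nat.prime_two⟩
  obtain ⟨t, ht⟩ := exists_prime_orderOf_dvd_card' (G := stabilizer G a₀) 2 heven.two_dvd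
  have ht1 : (t : G) ≠ 1 := by
    intro h
    have : t = 1 := Subtype.ext h
    rw [this, orderOf_one] at ht
    omega
  have ht2 : (t : G) * (t : G) = 1 := by
    have := pow_orderOf_eq_one t
    rw [ht, sq] at this
    exact congrArg Subtype.val this
  have hta : (t : G) • a₀ = a₀ := t.2
  obtain ⟨u, hu⟩ : ∃ u : Ω, (t : G) • u ≠ u := by
    by_contra hcon
    push Not at hcon
    apply ht1
    apply FaithfulSMul.eq_of_smul_eq_smul (α := Ω)
    intro x
    rw [hcon x, one_smul]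
  refine ⟨t, u, (t : G) • u, hta, fun h => hu h.symm, ?_, ?_, rfl, ?_⟩
  · intro h; apply hu; rw [h, hta]
  · intro h
    apply hu
    have : (t : G) • u = (t : G) • a₀ := by rw [h, hta]
    have := MulAction.injective (t : G) this
    rw [this, hta]
  · rw [← mul_smul, ht2, one_smul]

/-- Step A: if the stabiliser of `a₀` is transitive on the pairs avoiding `a₀`, then `G` is triply transitive. -/
theorem three_trans_of_pairs [FaithfulSMul G Ω] [Finite G] [IsPretransitive G Ω] (a₀ : Ω)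
    (heven : Even (Nat.card (stabilizer G a₀)))
    (hpairs : ∀ π₁ π₂ : Set.powersetCard Ω 2, a₀ ∉ π₁ → a₀ ∉ π₂ → ∃ g : G, g • a₀ = a₀ ∧ g • π₁ = π₂) :
    IsMultiplyPretransitive G Ω 3 := by
  obtain ⟨t, u, w, hta, huw, hua, hwa, htu, htw⟩ := exists_swap (G := G) a₀ heven
  -- every ordered pair avoiding `a₀` is an image of `(u, w)`
  have key : ∀ b c : Ω, b ≠ c → b ≠ a₀ → c ≠ a₀ → ∃ h : G, h • a₀ = a₀ ∧ h • u = b ∧ h • w = c := by
    intro b c hbc hba hca
    have h1 : a₀ ∉ mkPair u w huw := by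
      rw [mem_mkPair]; rintro (h | h)
      · exact hua h.symm
      · exact hwa h.symm
    have h2 : a₀ ∉ mkPair b c hbc := by
      rw [mem_mkPair]; rintro (h | h)
      · exact hba h.symm
      · exact hca h.symm
    obtain ⟨g, hga, hg⟩ := hpairs _ _ h1 h2
    rw [smul_mkPair] at hg
    have hgu : g • u ∈ mkPair b c hbc := by
      rw [← hg, mem_mkPair]; left; rfl
    have hgw : g • w ∈ mkPair b c hbc := by
      rw [← hg, mem_mkPair]; right; rfl
    rw [mem_mkPair] at hgu hgw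
    have hne : g • u ≠ g • w := fun e => huw (MulAction.injective g e)
    rcases hgu with hgu | hgu
    · rcases hgw with hgw | hgw
      · exact absurd (hgu.trans hgw.symm) hne
      · exact ⟨g, hga, hgu, hgw⟩
    · rcases hgw with hgw | hgw
      · refine ⟨g * t, ?_, ?_, ?_⟩
        · rw [mul_smul, hta, hga]
        · rw [mul_smul, htu, hgw]
        · rw [mul_smul, htw, hgu]
      · exact absurd (hgu.trans hgw.symm) hne
  constructor
  intro x y
  obtain ⟨g₁, hg₁⟩ := exists_smul_eq G (x 0) a₀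
  obtain ⟨g₂, hg₂⟩ := exists_smul_eq G (y 0) a₀
  have hx01 : x 0 ≠ x 1 := x.injective.ne (by decide)
  have hx02 : x 0 ≠ x 2 := x.injective.ne (by decide)
  have hx12 : x 1 ≠ x 2 := x.injective.ne (by decide)
  have hy01 : y 0 ≠ y 1 := y.injective.ne (by decide)
  have hy02 : y 0 ≠ y 2 := y.injective.ne (by decide)
  have hy12 : y 1 ≠ y 2 := y.injective.ne (by decide)
  have inj : ∀ (g : G) {r s : Ω}, r ≠ s → g • r ≠ g • s := fun g r s h e => h (MulAction.injective g e)
  obtain ⟨h₁, h₁a, h₁u, h₁w⟩ := key (g₁ • x 1) (g₁ • x 2) (inj g₁ hx12)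
    (by rw [← hg₁]; exact inj g₁ hx01.symm) (by rw [← hg₁]; exact inj g₁ hx02.symm)
  obtain ⟨h₂, h₂a, h₂u, h₂w⟩ := key (g₂ • y 1) (g₂ • y 2) (inj g₂ hy12)
    (by rw [← hg₂]; exact inj g₂ hy01.symm) (by rw [← hg₂]; exact inj g₂ hy02.symm)
  refine ⟨g₂⁻¹ * h₂ * h₁⁻¹ * g₁, ?_⟩
  ext i
  have e0 : (g₂⁻¹ * h₂ * h₁⁻¹ * g₁) • x 0 = y 0 := by
    rw [mul_smul, mul_smul, mul_smul, hg₁, inv_smul_eq_iff.mpr h₁a.symm, h₂a, inv_smul_eq_iff, hg₂]
  have e1 : (g₂⁻¹ * h₂ * h₁⁻¹ * g₁) • x 1 = y 1 := by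
    rw [mul_smul, mul_smul, mul_smul, inv_smul_eq_iff.mpr h₁u.symm, h₂u, inv_smul_smul]
  have e2 : (g₂⁻¹ * h₂ * h₁⁻¹ * g₁) • x 2 = y 2 := by
    rw [mul_smul, mul_smul, mul_smul, inv_smul_eq_iff.mpr h₁w.symm, h₂w, inv_smul_smul]
  fin_cases i
  · exact e0
  · exact e1
  · exact e2

end Combinatorics

section Linear
open Classical

variable {G : Type*} [Group G] {Ω : Type*} [Fintype Ω] [DecidableEq Ω] [MulAction G Ω]
variable (K : Type*) [Field K]

/-- the incidence map of a relation between points and pairs -/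
noncomputable def theta (R : Ω → Set.powersetCard Ω 2 → Prop) :
    (Ω → K) →ₗ[K] (Set.powersetCard Ω 2 → K) where
  toFun φ π := ∑ a, if R a π then φ a else 0
  map_add' φ ψ := by
    funext π
    simp only [Pi.add_apply]
    rw [← Finset.sum_add_distrib]
    apply Finset.sum_congr rfl
    intro a _
    split_ifs <;> simp
  map_smul' c φ := by
    funext π
    simp only [Pi.smul_apply, smul_eq_mul, RingHom.id_apply]
    rw [Finset.mul_sum]
    apply Finset.sum_congr rfl
    intro a _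
    split_ifs <;> simp

theorem theta_apply (R : Ω → Set.powersetCard Ω 2 → Prop) (φ : Ω → K) (π : Set.powersetCard Ω 2) :
    theta K R φ π = ∑ a, if R a π then φ a else 0 := rfl

/-- the number of points related to a pair -/
noncomputable def countR (R : Ω → Set.powersetCard Ω 2 → Prop) (π : Set.powersetCard Ω 2) : ℕ :=
  (Finset.univ.filter (fun a => R a π)).card

theorem countR_smul (R : Ω → Set.powersetCard Ω 2 → Prop)
    (hinv : ∀ (g : G) a π, R (g • a) (g • π) ↔ R a π) (g : G) (π : Set.powersetCard Ω 2) :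
    countR R (g • π) = countR R π := by
  unfold countR
  symm
  apply Finset.card_equiv (MulAction.toPerm g)
  intro a
  simp only [Finset.mem_filter, Finset.mem_univ, true_and, MulAction.toPerm_apply]
  exact (hinv g a π).symm

theorem theta_const (R : Ω → Set.powersetCard Ω 2 → Prop) (c : K) (π : Set.powersetCard Ω 2) :
    theta K R (fun _ => c) π = c * (countR R π : K) := by
  rw [theta_apply, ← Finset.sum_filter, Finset.sum_const, nsmul_eq_mul, mul_comm]
  rfl

theorem theta_single (R : Ω → Set.powersetCard Ω 2 → Prop) (a : Ω) (π : Set.powersetCard Ω 2) :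
    theta K R (Pi.single a 1) π = if R a π then 1 else 0 := by
  rw [theta_apply, Finset.sum_eq_single a]
  · rw [Pi.single_eq_same]
  · intro b _ hb
    rw [Pi.single_eq_of_ne hb]; simp
  · intro h; exact absurd (Finset.mem_univ a) h

theorem theta_equivariant (R : Ω → Set.powersetCard Ω 2 → Prop)
    (hinv : ∀ (g : G) a π, R (g • a) (g • π) ↔ R a π) (g : G) (φ : Ω → K) :
    theta K R (Cfsg.permRep K G Ω g φ) = Cfsg.permRep K G (Set.powersetCard Ω 2) g (theta K R φ) := by
  funext π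
  show (∑ a, if R a π then φ (g⁻¹ • a) else 0) = ∑ a, if R a (g⁻¹ • π) then φ a else 0
  apply Fintype.sum_equiv (MulAction.toPerm g⁻¹)
  intro a
  simp only [MulAction.toPerm_apply]
  have : R a π ↔ R (g⁻¹ • a) (g⁻¹ • π) := (hinv g⁻¹ a π).symm
  simp only [this]

/-- Step B: two disjoint invariant relations give a non-zero intertwiner killing the constants -/
theorem exists_intertwiner [IsPretransitive G (Set.powersetCard Ω 2)]
    (R₁ R₂ : Ω → Set.powersetCard Ω 2 → Prop)
    (hinv₁ : ∀ (g : G) a π, R₁ (g • a) (g • π) ↔ R₁ a π)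
    (hinv₂ : ∀ (g : G) a π, R₂ (g • a) (g • π) ↔ R₂ a π)
    (hdisj : ∀ a π, R₁ a π → R₂ a π → False)
    (hnotin₁ : ∀ a π, R₁ a π → a ∉ π) (hnotin₂ : ∀ a π, R₂ a π → a ∉ π)
    (a₁ : Ω) (π₁ : Set.powersetCard Ω 2) (h₁ : R₁ a₁ π₁)
    (c₁ c₂ : K) (hc₁ : c₁ ≠ 0) (hc : c₁ * (countR R₁ π₁ : K) + c₂ * (countR R₂ π₁ : K) = 0) :
    ∃ f : Representation.IntertwiningMap (Cfsg.permSumZero K G Ω).toRepresentation
        (Cfsg.permRep K G (Set.powersetCard Ω 2)),
      (∀ v : (Cfsg.permSumZero K G Ω).toSubmodule,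
        (v : Ω → K) ∈ (Cfsg.permConstants K G Ω).toSubmodule → f v = 0) ∧ f ≠ 0 := by
  have hcount : ∀ (R : Ω → Set.powersetCard Ω 2 → Prop),
      (∀ (g : G) a π, R (g • a) (g • π) ↔ R a π) → ∀ π, countR R π = countR R π₁ := by
    intro R hinv π
    obtain ⟨g, rfl⟩ := exists_smul_eq G π₁ π
    exact countR_smul R hinv g π₁
  set Θ : (Ω → K) →ₗ[K] (Set.powersetCard Ω 2 → K) := c₁ • theta K R₁ + c₂ • theta K R₂ with hΘ
  have hΘeq : ∀ (g : G) (φ : Ω → K),
      Θ (Cfsg.permRep K G Ω g φ) = Cfsg.permRep K G (Set.powersetCard Ω 2) g (Θ φ) := by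
    intro g φ
    rw [hΘ]
    simp only [LinearMap.add_apply, LinearMap.smul_apply, theta_equivariant K R₁ hinv₁,
      theta_equivariant K R₂ hinv₂, map_add, map_smul]
  let f : Representation.IntertwiningMap (Cfsg.permSumZero K G Ω).toRepresentation
      (Cfsg.permRep K G (Set.powersetCard Ω 2)) :=
    ⟨Θ.comp (Cfsg.permSumZero K G Ω).toSubmodule.subtype, by
      intro g
      ext v : 1
      exact hΘeq g v.1⟩
  have hf : ∀ v : (Cfsg.permSumZero K G Ω).toSubmodule, f v = Θ v.1 := fun v => rfl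
  refine ⟨f, ?_, ?_⟩
  · intro v hv
    rw [hf]
    have hv' : (v : Ω → K) ∈ Submodule.span K {fun _ : Ω => (1 : K)} := hv
    rw [Submodule.mem_span_singleton] at hv'
    obtain ⟨c, hcv⟩ := hv'
    have hv2 : (v : Ω → K) = fun _ => c := by
      rw [← hcv]; funext x; simp
    rw [hv2, hΘ]
    funext π
    simp only [LinearMap.add_apply, LinearMap.smul_apply, Pi.add_apply, Pi.smul_apply, smul_eq_mul,
      theta_const, hcount R₁ hinv₁ π, hcount R₂ hinv₂ π, Pi.zero_apply]
    linear_combination c * hc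
  · intro hf0
    -- a point of `π₁`
    obtain ⟨b, hb⟩ : ∃ b : Ω, b ∈ π₁ := by
      have : (π₁ : Finset Ω).Nonempty := by
        rw [← Finset.card_pos, π₁.2]; norm_num
      exact this
    have hsum : (Pi.single a₁ 1 - Pi.single b 1 : Ω → K) ∈ (Cfsg.permSumZero K G Ω).toSubmodule := by
      show ∑ x, (Pi.single a₁ 1 - Pi.single b 1 : Ω → K) x = 0
      simp only [Pi.sub_apply, Finset.sum_sub_distrib]
      rw [Finset.sum_pi_single' a₁ (1 : K) Finset.univ, Finset.sum_pi_single' b (1 : K) Finset.univ]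
      simp
    have h0 := hf ⟨_, hsum⟩
    rw [hf0] at h0
    have h1 := congrFun h0.symm π₁
    simp only [hΘ, LinearMap.add_apply, LinearMap.smul_apply, map_sub, Pi.add_apply, Pi.smul_apply,
      Pi.sub_apply, smul_eq_mul, theta_single] at h1
    have e1 : R₁ a₁ π₁ := h₁
    have e2 : ¬ R₂ a₁ π₁ := fun h => hdisj _ _ h₁ h
    have e3 : ¬ R₁ b π₁ := fun h => hnotin₁ _ _ h hb
    have e4 : ¬ R₂ b π₁ := fun h => hnotin₂ _ _ h hb
    rw [if_pos e1, if_neg e2, if_neg e3, if_neg e4] at h1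
    apply hc₁
    have h2 : (0 : Representation.IntertwiningMap (Cfsg.permSumZero K G Ω).toRepresentation
      (Cfsg.permRep K G (Set.powersetCard Ω 2))) ⟨_, hsum⟩ π₁ = 0 := rfl
    rw [h2] at h1
    linear_combination h1

end Linear

/-- Let a finite group act faithfully and doubly transitively with point stabilisers of even order, and let `K` have characteristic `p` dividing the degree. If the heart of the permutation module admits no non-zero equivariant map to the permutation module on unordered pairs (phrased: every intertwining map from the sum-zero functions vanishing on the constants is zero), the action is triply transitive. -/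
theorem result {G : Type*} [Group G] [Finite G] {K : Type*} [Field K] {p : ℕ} [Fact p.Prime] [CharP K p] {Ω : Type*} [Fintype Ω] [DecidableEq Ω] [MulAction G Ω] [FaithfulSMul G Ω] (h2 : MulAction.IsMultiplyPretransitive G Ω 2) (hp : p ∣ Fintype.card Ω) (heven : ∀ a : Ω, Even (Nat.card (MulAction.stabilizer G a))) (h : ∀ f : Representation.IntertwiningMap (Cfsg.permSumZero K G Ω).toRepresentation (Cfsg.permRep K G (Set.powersetCard Ω 2)), (∀ v : (Cfsg.permSumZero K G Ω).toSubmodule, (v : Ω → K) ∈ (Cfsg.permConstants K G Ω).toSubmodule → f v = 0) → f = 0) : MulAction.IsMultiplyPretransitive G Ω 3 := by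
  classical
  by_cases hne : Nonempty Ω
  swap
  · constructor
    intro x
    exact absurd ⟨x 0⟩ hne
  obtain ⟨a₀⟩ := hne
  haveI : IsPretransitive G Ω := MulAction.isPretransitive_of_is_two_pretransitive
  haveI : IsPretransitive G (Set.powersetCard Ω 2) :=
    Set.powersetCard.isPretransitive_of_isMultiplyPretransitive G h2
  by_contra h3
  have hA : ¬ ∀ π₁ π₂ : Set.powersetCard Ω 2, a₀ ∉ π₁ → a₀ ∉ π₂ →
      ∃ g : G, g • a₀ = a₀ ∧ g • π₁ = π₂ :=
    fun hpairs => h3 (three_trans_of_pairs a₀ (heven a₀) hpairs)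
  push Not at hA
  obtain ⟨π₁, π₂, hπ₁, hπ₂, hno⟩ := hA
  -- the two relations
  let R : Set.powersetCard Ω 2 → Ω → Set.powersetCard Ω 2 → Prop :=
    fun π₀ a π => ∃ g : G, g • a₀ = a ∧ g • π₀ = π
  have hinv : ∀ π₀ (g : G) a π, R π₀ (g • a) (g • π) ↔ R π₀ a π := by
    intro π₀ g a π
    constructor
    · rintro ⟨k, hka, hkπ⟩
      refine ⟨g⁻¹ * k, ?_, ?_⟩
      · rw [mul_smul, hka, inv_smul_smul]
      · rw [mul_smul, hkπ, inv_smul_smul]
    · rintro ⟨k, hka, hkπ⟩
      exact ⟨g * k, by rw [mul_smul, hka], by rw [mul_smul, hkπ]⟩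
  have hnotin : ∀ π₀, a₀ ∉ π₀ → ∀ a π, R π₀ a π → a ∉ π := by
    rintro π₀ hπ₀ a π ⟨g, rfl, rfl⟩
    rw [smul_mem_smul_iff]; exact hπ₀
  have hdisj : ∀ a π, R π₁ a π → R π₂ a π → False := by
    rintro a π ⟨g, hga, hgπ⟩ ⟨k, hka, hkπ⟩
    apply hno (k⁻¹ * g)
    · rw [mul_smul, hga, ← hka, inv_smul_smul]
    · rw [mul_smul, hgπ, ← hkπ, inv_smul_smul]
  have hR₁ : R π₁ a₀ π₁ := ⟨1, one_smul _ _, one_smul _ _⟩
  have hR₂ : R π₂ a₀ π₂ := ⟨1, one_smul _ _, one_smul _ _⟩
  by_cases hM : (countR (R π₁) π₁ : K) = 0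
  · obtain ⟨f, hf1, hf2⟩ := exists_intertwiner (G := G) K (R π₁) (R π₂) (hinv π₁) (hinv π₂) hdisj
      (hnotin π₁ hπ₁) (hnotin π₂ hπ₂) a₀ π₁ hR₁ 1 0 one_ne_zero (by rw [hM]; ring)
    exact hf2 (h f hf1)
  · have hcount : countR (R π₁) π₂ = countR (R π₁) π₁ := by
      obtain ⟨g, hg⟩ := exists_smul_eq G π₁ π₂
      rw [← hg]
      exact countR_smul (R π₁) (hinv π₁) g π₁
    obtain ⟨f, hf1, hf2⟩ := exists_intertwiner (G := G) K (R π₂) (R π₁) (hinv π₂) (hinv π₁)
      (fun a π h1 h2 => hdisj a π h2 h1)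
      (hnotin π₂ hπ₂) (hnotin π₁ hπ₁) a₀ π₂ hR₂ (countR (R π₁) π₂ : K) (-(countR (R π₂) π₂ : K))
      (by rw [hcount]; exact hM) (by ring)
    exact hf2 (h f hf1)

end Cfsg.Agent.S0672
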