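import Cfsg.Statements.S0674
import Cfsg.Agent.Lib.Helper19.PrimeDegree3
import Cfsg.Agent.S0675

set_option autoImplicit false
open Cfsg

namespace Cfsg.Agent.S0674

open Cfsg.Agent.Lib.Helper19.PrimeDegree Module

/-- a cyclic labelling of the points by `ZMod p` -/
theorem exists_labelling {α : Type*} [Fintype α] [DecidableEq α] {p : ℕ} [Fact p.Prime]
    (hα : Fintype.card α = p) (G : Subgroup (Equiv.Perm α)) [MulAction.IsPretransitive G α] :
    ∃ (e : ZMod p ≃ α) (c : Equiv.Perm α), c ∈ G ∧ ∀ k, c (e k) = e (k + 1) := by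
  classical
  have hp : p.Prime := Fact.out
  haveI : Nonempty α := Fintype.card_pos_iff.mp (hα ▸ hp.pos)
  obtain ⟨a₀⟩ := ‹Nonempty α›
  have hdvd : p ∣ Nat.card G := by
    have h1 := MulAction.index_stabilizer_of_transitive G a₀
    rw [← hα, ← Nat.card_eq_fintype_card, ← h1]
    exact Subgroup.index_dvd_card _
  obtain ⟨c, hc⟩ := exists_prime_orderOf_dvd_card' p hdvd
  have hc' : orderOf (c : Equiv.Perm α) = p := by rw [Subgroup.orderOf_coe]; exact hc
  have hcyc : (c : Equiv.Perm α).IsCycle :=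
    Equiv.Perm.isCycle_of_prime_order'' (hα ▸ hp) (by rw [hc', hα])
  have hsupp : ∀ x : α, (c : Equiv.Perm α) x ≠ x := by
    have hs : (c : Equiv.Perm α).support = Finset.univ := by
      apply Finset.eq_univ_of_card
      rw [← hcyc.orderOf, hc', hα]
    intro x
    exact Equiv.Perm.mem_support.mp (hs ▸ Finset.mem_univ x)
  set φ : ZMod p → α := fun k => ((c : Equiv.Perm α) ^ k.val) a₀ with hφ
  have hφn : ∀ n : ℕ, φ (n : ZMod p) = ((c : Equiv.Perm α) ^ n) a₀ := by
    intro n
    show ((c : Equiv.Perm α) ^ ((n : ZMod p).val)) a₀ = _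
    rw [ZMod.val_natCast, ← hc', pow_mod_orderOf]
  have hsurj : Function.Surjective φ := by
    intro y
    obtain ⟨i, hi⟩ := hcyc.exists_pow_eq (hsupp a₀) (hsupp y)
    exact ⟨(i : ZMod p), by rw [hφn, hi]⟩
  have hbij : Function.Bijective φ :=
    (Fintype.bijective_iff_surjective_and_card φ).mpr ⟨hsurj, by rw [ZMod.card, hα]⟩
  let e : ZMod p ≃ α := Equiv.ofBijective φ hbij
  have he : ∀ k, e k = φ k := fun k => rfl
  refine ⟨e, c, c.2, fun k => ?_⟩
  have h1 : e k = ((c : Equiv.Perm α) ^ k.val) a₀ := rfl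
  have h2 : e (k + 1) = ((c : Equiv.Perm α) ^ (k.val + 1)) a₀ := by
    rw [he, ← hφn]
    congr 1
    push_cast
    rw [ZMod.natCast_zmod_val]
  rw [h1, h2, pow_succ', Equiv.Perm.mul_apply]

/-- Let `G` be a non-solvable transitive permutation group of prime degree `p` and `K` a field of characteristic `p`. Then the heart of the permutation module is irreducible: an invariant subspace containing the constants and contained in the sum-zero functions is one or the other. -/
theorem result {α : Type*} [Fintype α] [DecidableEq α] {p : ℕ} [Fact p.Prime] (hα : Fintype.card α = p) (G : Subgroup (Equiv.Perm α)) [MulAction.IsPretransitive G α] (hG : ¬ Group.IsSolvable G) {K : Type*} [Field K] [CharP K p] (W : Subrepresentation (Cfsg.permRep K G α)) (h₁ : (Cfsg.permConstants K G α).toSubmodule ≤ W.toSubmodule) (h₂ : W.toSubmodule ≤ (Cfsg.permSumZero K G α).toSubmodule) : W = Cfsg.permConstants K G α ∨ W = Cfsg.permSumZero K G α := by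
  classical
  have hp : p.Prime := Fact.out
  haveI : Nonempty α := Fintype.card_pos_iff.mp (hα ▸ hp.pos)
  obtain ⟨a₀⟩ := ‹Nonempty α›
  set r := finrank K W.toSubmodule with hr
  have hfr : finrank K (α → K) = p := by rw [Module.finrank_fintype_fun_eq_card, hα]
  -- constants
  have hconst : finrank K (Cfsg.permConstants K G α).toSubmodule = 1 := by
    show finrank K (Submodule.span K {fun _ : α => (1 : K)}) = 1
    apply finrank_span_singleton
    intro h
    exact one_ne_zero (congrFun h a₀)
  have hr1 : 1 ≤ r := by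
    rw [← hconst]; exact Submodule.finrank_mono h₁
  -- sum zero
  have hsz : finrank K (Cfsg.permSumZero K G α).toSubmodule + 1 ≤ p := by
    have hlt : (Cfsg.permSumZero K G α).toSubmodule ≠ ⊤ := by
      intro htop
      have hmem : (Pi.single a₀ (1 : K) : α → K) ∈ (Cfsg.permSumZero K G α).toSubmodule := by
        rw [htop]; exact Submodule.mem_top
      have hsum : ∑ x, (Pi.single a₀ (1 : K) : α → K) x = 0 := hmem
      rw [Finset.sum_pi_single' a₀ (1 : K) Finset.univ, if_pos (Finset.mem_univ _)] at hsum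
      exact one_ne_zero hsum
    have := Submodule.finrank_lt hlt
    rw [hfr] at this
    omega
  by_cases hr_one : r = 1
  · left
    apply Subrepresentation.toSubmodule_injective
    symm
    apply Submodule.eq_of_le_of_finrank_le h₁
    rw [hconst, ← hr, hr_one]
  by_cases hr_big : p ≤ r + 1
  · right
    apply Subrepresentation.toSubmodule_injective
    apply Submodule.eq_of_le_of_finrank_le h₂
    rw [← hr]
    omega
  -- the middle range is impossible
  exfalso
  apply hG
  obtain ⟨e, c, hcG, hce⟩ := exists_labelling hα G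
  let Φ : Equiv.Perm α ≃* Equiv.Perm (ZMod p) := e.symm.permCongrHom
  have hΦ : ∀ (σ : Equiv.Perm α) (k : ZMod p), Φ σ k = e.symm (σ (e k)) := fun σ k => rfl
  set G' : Subgroup (Equiv.Perm (ZMod p)) := G.map Φ.toMonoidHom with hG'
  have ht : Equiv.addRight (1 : ZMod p) ∈ G' := by
    refine ⟨c, hcG, ?_⟩
    ext k
    show Φ c k = k + 1
    rw [hΦ, hce, Equiv.symm_apply_apply]
  let L : (α → K) ≃ₗ[K] (ZMod p → K) := LinearEquiv.funCongrLeft K K e
  have hL : ∀ (f : α → K) (k : ZMod p), L f k = f (e k) := fun f k => rfl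
  set U : Submodule K (ZMod p → K) := W.toSubmodule.map L.toLinearMap with hUdef
  have hUfr : finrank K U = r := LinearEquiv.finrank_map_eq L W.toSubmodule
  have hU : ∀ π ∈ G', ∀ f ∈ U, compR K π f ∈ U := by
    rintro _ ⟨g, hgG, rfl⟩ _ ⟨f₀, hf₀, rfl⟩
    refine ⟨Cfsg.permRep K G α (⟨g, hgG⟩ : G)⁻¹ f₀, W.apply_mem_toSubmodule _ hf₀, ?_⟩
    ext k
    show L (Cfsg.permRep K G α (⟨g, hgG⟩ : G)⁻¹ f₀) k = compR K (Φ g) (L f₀) k
    rw [hL, compR_apply, hL, hΦ, Equiv.apply_symm_apply]
    show f₀ (((⟨g, hgG⟩ : G)⁻¹)⁻¹ • e k) = f₀ (g (e k))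
    rw [inv_inv]
    rfl
  have hle : G' ≤ Cfsg.affineGroup (ZMod p) :=
    affine_of_invariant (K := K) G' ht U hU (by rw [hUfr]; omega) (by rw [hUfr]; omega)
  haveI : Group.IsSolvable G' := Cfsg.Agent.S0675.solvable_of_le_affine G' hle
  let ι := G.equivMapOfInjective Φ.toMonoidHom Φ.injective
  exact Group.isSolvable_of_isSolvable_injective (f := ι.toMonoidHom) ι.injective

end Cfsg.Agent.S0674
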