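import Cfsg.Statements.S0677
import Cfsg.Agent.S0675

set_option autoImplicit false
open Cfsg

namespace Cfsg.Agent.S0677

section ZModSide
variable {p : ℕ} [Fact p.Prime]

theorem two_ne_zero_of (hp2 : p ≠ 2) : (2 : ZMod p) ≠ 0 := by
  have hp : p.Prime := Fact.out
  intro h
  have h' : ((2 : ℕ) : ZMod p) = 0 := by exact_mod_cast h
  rw [ZMod.natCast_eq_zero_iff] at h'
  exact hp2 ((Nat.prime_dvd_prime_iff_eq hp Nat.prime_two).mp h')

/-- a subset invariant under a nonzero translation is trivial -/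
theorem transl_inv (D : Finset (ZMod p)) (k : ZMod p) (hk : k ≠ 0)
    (h : ∀ y, y ∈ D ↔ y + k ∈ D) (y z : ZMod p) : y ∈ D ↔ z ∈ D := by
  have hn : ∀ n : ℕ, ∀ y, y ∈ D ↔ y + n • k ∈ D := by
    intro n
    induction n with
    | zero => intro y; simp
    | succ n ih =>
      intro y
      rw [ih y, h (y + n • k), add_assoc, succ_nsmul]
  have hz : z = y + ((z - y) * k⁻¹).val • k := by
    rw [nsmul_eq_mul, ZMod.natCast_zmod_val, mul_assoc, inv_mul_cancel₀ hk]
    ring
  rw [hz]
  exact hn _ y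

theorem transl_inj (D : Finset (ZMod p)) (h0 : ∃ x, x ∈ D) (h1 : ∃ x, x ∉ D) (i₁ i₂ : ZMod p)
    (h : ∀ y, y + i₁ ∈ D ↔ y + i₂ ∈ D) : i₁ = i₂ := by
  by_contra hne
  have hk : i₂ - i₁ ≠ 0 := sub_ne_zero.mpr (Ne.symm hne)
  have h' : ∀ y, y ∈ D ↔ y + (i₂ - i₁) ∈ D := by
    intro y
    have h2 := h (y - i₁)
    rw [sub_add_cancel] at h2
    rw [h2]
    have e : y - i₁ + i₂ = y + (i₂ - i₁) := by ring
    rw [e]
  obtain ⟨x, hx⟩ := h0
  obtain ⟨z, hz⟩ := h1
  exact hz ((transl_inv D _ hk h' x z).mp hx)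

/-- the number of translates of `D` containing two given points -/
def M (D : Finset (ZMod p)) (u v : ZMod p) : ℕ :=
  (Finset.univ.filter (fun y => u + y ∈ D ∧ v + y ∈ D)).card

theorem M_le (D : Finset (ZMod p)) (h0 : ∃ x, x ∈ D) (h1 : ∃ x, x ∉ D)
    (g : Equiv.Perm (ZMod p)) (hg : ∀ i, ∃ j, ∀ x, x + i ∈ D ↔ g x + j ∈ D) (u v : ZMod p) :
    M D u v ≤ M D (g u) (g v) := by
  choose β hβ using hg
  apply Finset.card_le_card_of_injOn β
  · intro i hi
    simp only [Finset.coe_filter, Finset.mem_univ, true_and, Set.mem_ofPred_eq] at hi ⊢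
    exact ⟨(hβ i u).mp hi.1, (hβ i v).mp hi.2⟩
  · intro i₁ _ i₂ _ hi
    apply transl_inj D h0 h1
    intro y
    rw [hβ i₁ y, hβ i₂ y, hi]

theorem parity (hp2 : p ≠ 2) (D : Finset (ZMod p)) (b : ZMod p)
    (hsym : ∀ x, x ∈ D ↔ b - x ∈ D) (x : ZMod p) : Odd (M D 0 (b - 2 * x)) ↔ x ∈ D := by
  classical
  have h2 := two_ne_zero_of hp2
  set S : Finset (ZMod p) := Finset.univ.filter (fun y => 0 + y ∈ D ∧ (b - 2 * x) + y ∈ D) with hS
  have hmemS : ∀ y, y ∈ S ↔ y ∈ D ∧ b - 2 * x + y ∈ D := by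
    intro y; simp [hS]
  have hι : ∀ y ∈ S, 2 * x - y ∈ S := by
    intro y hy
    rw [hmemS] at hy ⊢
    constructor
    · rw [hsym]
      have e : b - (2 * x - y) = b - 2 * x + y := by ring
      rw [e]; exact hy.2
    · have e : b - 2 * x + (2 * x - y) = b - y := by ring
      rw [e, ← hsym]; exact hy.1
  have hx : x ∈ S ↔ x ∈ D := by
    rw [hmemS]
    have e : b - 2 * x + x = b - x := by ring
    rw [e, ← hsym]
    exact and_self_iff
  have heven : Even (S.erase x).card := by
    have hsum : ∑ _y ∈ S.erase x, (1 : ZMod 2) = 0 := by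
      apply Finset.sum_involution (fun y _ => 2 * x - y)
      · intro y _; decide
      · intro y hy _ heq
        have hyx : y ≠ x := (Finset.mem_erase.mp hy).1
        apply hyx
        have e : 2 * (x - y) = 0 := by linear_combination heq
        rcases mul_eq_zero.mp e with e | e
        · exact absurd e h2
        · exact (sub_eq_zero.mp e).symm
      · intro y hy
        rw [Finset.mem_erase] at hy ⊢
        refine ⟨?_, hι y hy.2⟩
        intro heq
        apply hy.1
        linear_combination -heq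
      · intro y _
        ring
    rw [Finset.sum_const, nsmul_eq_mul, mul_one] at hsum
    exact ZMod.natCast_eq_zero_iff_even.mp hsum
  show Odd S.card ↔ x ∈ D
  rw [← hx]
  by_cases hxS : x ∈ S
  · simp only [hxS, iff_true]
    rw [← Finset.card_erase_add_one hxS]
    exact heven.add_one
  · simp only [hxS, iff_false]
    rw [Finset.erase_eq_of_notMem hxS] at heven
    exact Nat.not_odd_iff_even.mpr heven

theorem addRight_order (i : ZMod p) (hi : i ≠ 0) : orderOf (Equiv.addRight i) = p := by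
  apply orderOf_eq_prime
  · rw [Equiv.nsmul_addRight]
    ext x
    simp
  · intro h
    apply hi
    have := congrArg (fun σ : Equiv.Perm (ZMod p) => σ 0) h
    simpa using this

theorem no_transl (H' : Subgroup (Equiv.Perm (ZMod p))) (hB : ¬ p ∣ Nat.card H') (i : ZMod p)
    (hi : Equiv.addRight i ∈ H') : i = 0 := by
  by_contra h0
  apply hB
  have h1 : orderOf (⟨Equiv.addRight i, hi⟩ : H') = p := by
    rw [Subgroup.orderOf_mk]; exact addRight_order i h0
  have h3 := orderOf_dvd_natCard (⟨Equiv.addRight i, hi⟩ : H')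
  rwa [h1] at h3

/-- form of an involution normalising the translations -/
theorem invol_form (hp2 : p ≠ 2) (t : Equiv.Perm (ZMod p)) (ht1 : t ≠ 1) (ht2 : t * t = 1)
    (k : ZMod p) (htk : ∀ x, t (x + 1) = t x + k) : ∀ x, t x = t 0 - x := by
  have h2 := two_ne_zero_of hp2
  have hn : ∀ n : ℕ, t (n : ZMod p) = t 0 + k * n := by
    intro n
    induction n with
    | zero => simp
    | succ n ih =>
      push_cast
      rw [htk, ih]; ring
  have hlin : ∀ x, t x = t 0 + k * x := by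
    intro x
    have := hn x.val
    rwa [ZMod.natCast_zmod_val] at this
  have htt : ∀ x, t (t x) = x := by
    intro x
    have := congrArg (fun σ : Equiv.Perm (ZMod p) => σ x) ht2
    simpa using this
  have e0 : t 0 + k * t 0 = 0 := by
    have := htt 0
    rwa [hlin (t 0)] at this
  have e1 : t 0 + k * (t 0 + k) = 1 := by
    have := htt 1
    rw [hlin (t 1), hlin 1, mul_one] at this
    exact this
  have hk : (k - 1) * (k + 1) = 0 := by linear_combination e1 - e0
  rcases mul_eq_zero.mp hk with hk | hk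
  · exfalso
    have hk1 : k = 1 := by linear_combination hk
    rw [hk1, one_mul] at e0
    have ht0 : t 0 = 0 := by
      have : 2 * t 0 = 0 := by linear_combination e0
      rcases mul_eq_zero.mp this with h | h
      · exact absurd h h2
      · exact h
    apply ht1
    ext x
    rw [hlin, ht0, hk1]; simp
  · intro x
    have hk1 : k = -1 := by linear_combination hk
    rw [hlin, hk1]; ring

/-- the affine case -/
theorem fixed_of_affine (H' : Subgroup (Equiv.Perm (ZMod p)))
    (hH : H' ≤ Cfsg.affineGroup (ZMod p)) (hB : ∀ i, Equiv.addRight i ∈ H' → i = 0) :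
    ∃ x₀ : ZMod p, ∀ h ∈ H', h x₀ = x₀ := by
  by_cases hall : ∀ h ∈ H', h = 1
  · exact ⟨0, fun h hh => by rw [hall h hh]; rfl⟩
  push Not at hall
  obtain ⟨h₀, hh₀, hne⟩ := hall
  obtain ⟨a₀, b₀, hab₀⟩ := hH hh₀
  have ha₀ : (a₀ : ZMod p) ≠ 1 := by
    intro ha
    have h1 : h₀ = Equiv.addRight b₀ := by
      ext x
      rw [hab₀, ha]; simp
    have h2 : b₀ = 0 := hB b₀ (h1 ▸ hh₀)
    apply hne
    rw [h1, h2]
    ext x; simp
  have ha₀' : (1 - (a₀ : ZMod p)) ≠ 0 := sub_ne_zero.mpr (Ne.symm ha₀)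
  refine ⟨b₀ / (1 - (a₀ : ZMod p)), ?_⟩
  set x₀ := b₀ / (1 - (a₀ : ZMod p)) with hx₀
  have hfix : h₀ x₀ = x₀ := by
    rw [hab₀, hx₀]
    field_simp
    ring
  have huniq : ∀ y, h₀ y = y → y = x₀ := by
    intro y hy
    rw [hab₀] at hy
    rw [hx₀, eq_div_iff ha₀']
    linear_combination -hy
  intro h hh
  apply huniq
  obtain ⟨a, b, hab⟩ := hH hh
  set δ : ZMod p := (a₀ : ZMod p) * b + b₀ - (a : ZMod p) * b₀ - b with hδ
  have hcomm : Equiv.addRight δ * (h * h₀) = h₀ * h := by
    ext x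
    simp only [Equiv.Perm.mul_apply, Equiv.coe_addRight]
    rw [hab₀ x, hab, hab x, hab₀, hδ]
    ring
  have hmem : Equiv.addRight δ ∈ H' := by
    have : Equiv.addRight δ = (h₀ * h) * (h * h₀)⁻¹ := eq_mul_inv_of_mul_eq hcomm
    rw [this]
    exact H'.mul_mem (H'.mul_mem hh₀ hh) (H'.inv_mem (H'.mul_mem hh hh₀))
  have hδ0 := hB δ hmem
  rw [hδ0] at hcomm
  have hc : h * h₀ = h₀ * h := by
    rw [← hcomm]
    ext x; simp
  have := congrArg (fun σ : Equiv.Perm (ZMod p) => σ x₀) hc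
  simp only [Equiv.Perm.mul_apply] at this
  rw [hfix] at this
  exact this.symm

/-- the doubly transitive case -/
theorem fixed_of_two_trans (hp2 : p ≠ 2) (G' H' : Subgroup (Equiv.Perm (ZMod p)))
    (ht : Equiv.addRight (1 : ZMod p) ∈ G')
    (hA : ∀ g ∈ G', ∃ i, ∃ h ∈ H', g = Equiv.addRight i * h) (hB : ¬ p ∣ Nat.card H')
    (h2t : ∀ a b c d : ZMod p, a ≠ b → c ≠ d → ∃ g ∈ G', g a = c ∧ g b = d)
    (b : ZMod p) (t : Equiv.Perm (ZMod p)) (htG : t ∈ G') (htb : ∀ x, t x = b - x) :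
    ∃ x₀ : ZMod p, ∀ h ∈ H', h x₀ = x₀ := by
  classical
  have hp : p.Prime := Fact.out
  have h2 := two_ne_zero_of hp2
  set D : Finset (ZMod p) := Finset.univ.filter (fun x => ∃ h ∈ H', h 0 = x) with hD
  have memD : ∀ x, x ∈ D ↔ ∃ h ∈ H', h 0 = x := by intro x; simp [hD]
  have hD0 : (0 : ZMod p) ∈ D := (memD 0).mpr ⟨1, H'.one_mem, rfl⟩
  have hDinv : ∀ h ∈ H', ∀ x, x ∈ D ↔ h x ∈ D := by
    intro h hh x
    rw [memD, memD]
    constructor
    · rintro ⟨h', hh', rfl⟩
      exact ⟨h * h', H'.mul_mem hh hh', rfl⟩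
    · rintro ⟨h', hh', hx⟩
      refine ⟨h⁻¹ * h', H'.mul_mem (H'.inv_mem hh) hh', ?_⟩
      rw [Equiv.Perm.mul_apply, hx, Equiv.Perm.coe_inv, Equiv.symm_apply_apply]
  have hDproper : ∃ x, x ∉ D := by
    by_contra hcon
    push Not at hcon
    apply hB
    haveI : MulAction.IsPretransitive H' (ZMod p) := by
      constructor
      intro x y
      obtain ⟨h₁, hh₁, rfl⟩ := (memD x).mp (hcon x)
      obtain ⟨h₂, hh₂, rfl⟩ := (memD y).mp (hcon y)
      refine ⟨⟨h₂ * h₁⁻¹, H'.mul_mem hh₂ (H'.inv_mem hh₁)⟩, ?_⟩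
      show (h₂ * h₁⁻¹) (h₁ 0) = h₂ 0
      rw [Equiv.Perm.mul_apply, Equiv.Perm.coe_inv, Equiv.symm_apply_apply]
    have h1 := MulAction.index_stabilizer_of_transitive H' (0 : ZMod p)
    rw [Nat.card_eq_fintype_card, ZMod.card] at h1
    have h3 := Subgroup.index_dvd_card (MulAction.stabilizer H' (0 : ZMod p))
    rwa [h1] at h3
  have htr := Cfsg.Agent.S0675.translation_mem G' ht
  have h1' : ∀ g ∈ G', ∀ i, ∃ j, ∀ x, x + i ∈ D ↔ g x + j ∈ D := by
    intro g hg i
    obtain ⟨k, h, hh, hgk⟩ := hA (g * Equiv.addRight (-i)) (G'.mul_mem hg (htr _))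
    refine ⟨-k, fun x => ?_⟩
    have e : g x = h (x + i) + k := by
      have := congrArg (fun σ : Equiv.Perm (ZMod p) => σ (x + i)) hgk
      simp only [Equiv.Perm.mul_apply, Equiv.coe_addRight] at this
      rw [add_neg_cancel_right] at this
      exact this
    rw [e, add_neg_cancel_right]
    exact hDinv h hh _
  have hM : ∀ d d' : ZMod p, d ≠ 0 → d' ≠ 0 → M D 0 d ≤ M D 0 d' := by
    intro d d' hd hd'
    obtain ⟨g, hg, hg0, hgd⟩ := h2t 0 d 0 d' (Ne.symm hd) (Ne.symm hd')
    have := M_le D ⟨0, hD0⟩ hDproper g (h1' g hg) 0 d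
    rwa [hg0, hgd] at this
  obtain ⟨j, hj⟩ := h1' t htG 0
  set b' := b + j with hb'
  have hsym : ∀ x, x ∈ D ↔ b' - x ∈ D := by
    intro x
    have := hj x
    rw [add_zero, htb] at this
    rw [this]
    have e : b - x + j = b' - x := by rw [hb']; ring
    rw [e]
  set c := b' / 2 with hc
  have hcb : 2 * c = b' := by rw [hc]; field_simp
  have hsame : ∀ x x', x ≠ c → x' ≠ c → (x ∈ D ↔ x' ∈ D) := by
    intro x x' hx hx'
    have hd : b' - 2 * x ≠ 0 := by
      intro h
      apply hx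
      have : 2 * (c - x) = 0 := by rw [mul_sub, hcb]; exact h
      rcases mul_eq_zero.mp this with h | h
      · exact absurd h h2
      · exact (sub_eq_zero.mp h).symm
    have hd' : b' - 2 * x' ≠ 0 := by
      intro h
      apply hx'
      have : 2 * (c - x') = 0 := by rw [mul_sub, hcb]; exact h
      rcases mul_eq_zero.mp this with h | h
      · exact absurd h h2
      · exact (sub_eq_zero.mp h).symm
    have heq : M D 0 (b' - 2 * x) = M D 0 (b' - 2 * x') :=
      le_antisymm (hM _ _ hd hd') (hM _ _ hd' hd)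
    rw [← parity hp2 D b' hsym x, ← parity hp2 D b' hsym x', heq]
  refine ⟨c, fun h hh => ?_⟩
  by_contra hne
  by_cases hcase : ∀ x, x ≠ c → x ∈ D
  · have hcD : c ∉ D := by
      intro hcD
      obtain ⟨z, hz⟩ := hDproper
      by_cases hzc : z = c
      · exact hz (hzc ▸ hcD)
      · exact hz (hcase z hzc)
    exact hcD ((hDinv h hh c).mpr (hcase _ hne))
  · push Not at hcase
    obtain ⟨x, hxc, hxD⟩ := hcase
    have hnot : ∀ x', x' ≠ c → x' ∉ D := fun x' hx' hx'D => hxD ((hsame x x' hxc hx').mpr hx'D)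
    have h0c : (0 : ZMod p) = c := by
      by_contra h0c
      exact hnot 0 h0c hD0
    have hcD : c ∈ D := h0c ▸ hD0
    exact hnot _ hne ((hDinv h hh c).mp hcD)

/-- the `ZMod p` core -/
theorem core (hp2 : p ≠ 2) (G' H' : Subgroup (Equiv.Perm (ZMod p))) (hHG : H' ≤ G')
    (ht : Equiv.addRight (1 : ZMod p) ∈ G')
    (hA : ∀ g ∈ G', ∃ i, ∃ h ∈ H', g = Equiv.addRight i * h) (hB : ¬ p ∣ Nat.card H')
    (t : Equiv.Perm (ZMod p)) (htG : t ∈ G') (ht1 : t ≠ 1) (ht2 : t * t = 1)
    (k : ZMod p) (htk : ∀ x, t (x + 1) = t x + k) :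
    ∃ x₀ : ZMod p, ∀ h ∈ H', h x₀ = x₀ := by
  rcases Cfsg.Agent.S0675.burnside_zmod G' ht with h | h
  · exact fixed_of_affine H' (hHG.trans h) (no_transl H' hB)
  · exact fixed_of_two_trans hp2 G' H' ht hA hB h (t 0) t htG (invol_form hp2 t ht1 ht2 k htk)

end ZModSide

/-- a cyclic labelling of the points by `ZMod p` relative to a given element of order `p` -/
theorem exists_labelling_of {α : Type*} [Fintype α] [DecidableEq α] {p : ℕ} [Fact p.Prime]
    (hα : Fintype.card α = p) (c : Equiv.Perm α) (hc' : orderOf c = p) :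
    ∃ (e : ZMod p ≃ α), ∀ k, c (e k) = e (k + 1) := by
  classical
  have hp : p.Prime := Fact.out
  haveI : Nonempty α := Fintype.card_pos_iff.mp (hα ▸ hp.pos)
  obtain ⟨a₀⟩ := ‹Nonempty α›
  have hcyc : c.IsCycle :=
    Equiv.Perm.isCycle_of_prime_order'' (hα ▸ hp) (by rw [hc', hα])
  have hsupp : ∀ x : α, c x ≠ x := by
    have hs : c.support = Finset.univ := by
      apply Finset.eq_univ_of_card
      rw [← hcyc.orderOf, hc', hα]
    intro x
    exact Equiv.Perm.mem_support.mp (hs ▸ Finset.mem_univ x)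
  set φ : ZMod p → α := fun k => (c ^ k.val) a₀ with hφ
  have hφn : ∀ n : ℕ, φ (n : ZMod p) = (c ^ n) a₀ := by
    intro n
    show (c ^ ((n : ZMod p).val)) a₀ = _
    rw [ZMod.val_natCast, ← hc', pow_mod_orderOf]
  have hsurj : Function.Surjective φ := by
    intro y
    obtain ⟨i, hi⟩ := hcyc.exists_pow_eq (hsupp a₀) (hsupp y)
    exact ⟨(i : ZMod p), by rw [hφn, hi]⟩
  have hbij : Function.Bijective φ :=
    (Fintype.bijective_iff_surjective_and_card φ).mpr ⟨hsurj, by rw [ZMod.card, hα]⟩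
  let e : ZMod p ≃ α := Equiv.ofBijective φ hbij
  have he : ∀ k, e k = φ k := fun k => rfl
  refine ⟨e, fun k => ?_⟩
  have h1 : e k = (c ^ k.val) a₀ := rfl
  have h2 : e (k + 1) = (c ^ (k.val + 1)) a₀ := by
    rw [he, ← hφn]
    congr 1
    push_cast
    rw [ZMod.natCast_zmod_val]
  rw [h1, h2, pow_succ', Equiv.Perm.mul_apply]

/-- In a transitive permutation group of prime degree `p` whose Sylow `p`-normaliser has even order, the point stabilisers are the only subgroups of index `p`. -/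
theorem result {α : Type*} [Fintype α] [DecidableEq α] {p : ℕ} [Fact p.Prime] (hα : Fintype.card α = p) (G : Subgroup (Equiv.Perm α)) [MulAction.IsPretransitive G α] (P : Sylow p G) (heven : Even (Nat.card (Subgroup.normalizer ((P : Subgroup G) : Set G)))) (H : Subgroup G) (hH : H.index = p) : ∃ a : α, H = MulAction.stabilizer G a := by
  classical
  have hp : p.Prime := Fact.out
  haveI : Nonempty α := Fintype.card_pos_iff.mp (hα ▸ hp.pos)
  obtain ⟨a₀⟩ := ‹Nonempty α›
  -- the final step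
  have hfinal : ∀ a : α, H ≤ MulAction.stabilizer G a → H = MulAction.stabilizer G a := by
    intro a hle
    have h1 : (MulAction.stabilizer G a).index = p := by
      rw [MulAction.index_stabilizer_of_transitive G a, Nat.card_eq_fintype_card, hα]
    have h2 := Subgroup.relIndex_mul_index hle
    rw [h1, hH] at h2
    have h3 : H.relIndex (MulAction.stabilizer G a) = 1 := by
      have h4 : H.relIndex (MulAction.stabilizer G a) * p = 1 * p := by rw [h2, one_mul]
      exact Nat.eq_of_mul_eq_mul_right hp.pos h4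
    exact le_antisymm hle (Subgroup.relIndex_eq_one.mp h3)
  -- orders
  have hGH : Nat.card H * p = Nat.card G := by rw [← hH]; exact H.card_mul_index
  have hGdvd : Nat.card G ∣ p.factorial := by
    have := Subgroup.card_subgroup_dvd_card G
    rwa [Nat.card_eq_fintype_card (α := Equiv.Perm α), Fintype.card_perm, hα] at this
  have hHdvd : Nat.card H ∣ (p - 1).factorial := by
    rw [← hGH, ← Nat.mul_factorial_pred hp.ne_zero, mul_comm] at hGdvd
    exact Nat.dvd_of_mul_dvd_mul_left hp.pos hGdvd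
  have hpH : ¬ p ∣ Nat.card H := by
    intro hdvd
    have := (hp.dvd_factorial).mp (hdvd.trans hHdvd)
    have := hp.pos
    omega
  by_cases hp2 : p = 2
  · refine ⟨a₀, hfinal a₀ ?_⟩
    have h1 : Nat.card H = 1 := by
      rw [hp2] at hHdvd
      simpa using hHdvd
    rw [Subgroup.card_eq_one.mp h1]
    exact bot_le
  -- the Sylow subgroup has order `p`
  have hPcard : Nat.card P = p := by
    rw [P.card_eq_multiplicity, ← hGH, Nat.factorization_mul Nat.card_pos.ne' hp.ne_zero,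
      Finsupp.add_apply, Nat.factorization_eq_zero_of_not_dvd hpH, hp.factorization_self, zero_add,
      pow_one]
  obtain ⟨c₁, hc₁⟩ := exists_prime_orderOf_dvd_card' (G := P) p (by rw [hPcard])
  set c₀ : G := (c₁ : G) with hc₀
  have hc₀P : c₀ ∈ (P : Subgroup G) := c₁.2
  have hc₀ord : orderOf c₀ = p := by rw [hc₀, Subgroup.orderOf_coe]; exact hc₁
  have hc₀ord' : orderOf (c₀ : Equiv.Perm α) = p := by rw [Subgroup.orderOf_coe]; exact hc₀ord
  have hPz : Subgroup.zpowers c₀ = (P : Subgroup G) := by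
    apply Subgroup.eq_of_le_of_card_ge (Subgroup.zpowers_le.mpr hc₀P)
    rw [Nat.card_zpowers, hc₀ord, hPcard]
  -- the labelling
  obtain ⟨e, hce⟩ := exists_labelling_of hα (c₀ : Equiv.Perm α) hc₀ord'
  let Φ : Equiv.Perm α ≃* Equiv.Perm (ZMod p) := e.symm.permCongrHom
  have hΦ : ∀ (σ : Equiv.Perm α) (k : ZMod p), Φ σ k = e.symm (σ (e k)) := fun σ k => rfl
  let ψ : G →* Equiv.Perm (ZMod p) := Φ.toMonoidHom.comp G.subtype
  have hψ : ∀ (g : G) (k : ZMod p), ψ g k = e.symm ((g : Equiv.Perm α) (e k)) := fun g k => rfl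
  have hψinj : Function.Injective ψ := by
    intro g₁ g₂ h
    apply Subtype.ext
    exact Φ.injective h
  have hψc : ψ c₀ = Equiv.addRight (1 : ZMod p) := by
    ext k
    rw [hψ, hce, Equiv.symm_apply_apply]; rfl
  have hψP : ∀ x ∈ (P : Subgroup G), ∃ i : ZMod p, ψ x = Equiv.addRight i := by
    intro x hx
    rw [← hPz] at hx
    obtain ⟨m, rfl⟩ := Subgroup.mem_zpowers_iff.mp hx
    refine ⟨m • (1 : ZMod p), ?_⟩
    rw [map_zpow, hψc, Equiv.zsmul_addRight]
  -- the involution
  haveI : Fact (Nat.Prime 2) := ⟨Nat.prime_two⟩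
  obtain ⟨t, ht⟩ := exists_prime_orderOf_dvd_card'
    (G := Subgroup.normalizer ((P : Subgroup G) : Set G)) 2 heven.two_dvd
  have htne : (t : G) ≠ 1 := by
    intro h
    have : t = 1 := Subtype.ext h
    rw [this, orderOf_one] at ht
    omega
  have htsq : (t : G) * (t : G) = 1 := by
    have := pow_orderOf_eq_one t
    rw [ht, sq] at this
    exact congrArg Subtype.val this
  have htnorm : (t : G) * c₀ * (t : G)⁻¹ ∈ (P : Subgroup G) :=
    (Subgroup.mem_set_normalizer_iff.mp t.2 c₀).mp hc₀P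
  obtain ⟨k, hk⟩ := hψP _ htnorm
  -- apply the core
  obtain ⟨x₀, hx₀⟩ := core hp2 ψ.range (H.map ψ) (Subgroup.map_le_range ψ H)
    ⟨c₀, hψc⟩
    (by
      rintro g' ⟨g, rfl⟩
      have hcompl : Subgroup.IsComplement' (P : Subgroup G) H := by
        apply Subgroup.isComplement'_of_coprime
        · rw [hPcard, mul_comm]; exact hGH
        · rw [hPcard]; exact (Nat.Prime.coprime_iff_not_dvd hp).mpr hpH
      obtain ⟨⟨x, h⟩, hxh, -⟩ := hcompl.existsUnique g
      obtain ⟨i, hi⟩ := hψP x.1 x.2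
      refine ⟨i, ψ h.1, ⟨h.1, h.2, rfl⟩, ?_⟩
      rw [← hi, ← map_mul]
      exact congrArg ψ hxh.symm)
    (by rw [Subgroup.card_map_of_injective hψinj]; exact hpH)
    (ψ t) ⟨t, rfl⟩
    (by
      intro h
      apply htne
      apply hψinj
      rw [h, map_one])
    (by rw [← map_mul, htsq, map_one])
    k
    (by
      intro x
      have h1 : ψ ((t : G) * c₀ * (t : G)⁻¹) * ψ t = ψ t * ψ c₀ := by
        rw [← map_mul, ← map_mul]
        congr 1
        group
      rw [hk, hψc] at h1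
      have := congrArg (fun σ : Equiv.Perm (ZMod p) => σ x) h1
      simp only [Equiv.Perm.mul_apply, Equiv.coe_addRight] at this
      exact this.symm)
  refine ⟨e x₀, hfinal _ ?_⟩
  intro h hh
  rw [MulAction.mem_stabilizer_iff]
  have h1 := hx₀ (ψ h) ⟨h, hh, rfl⟩
  rw [hψ] at h1
  show (h : Equiv.Perm α) (e x₀) = e x₀
  rw [← e.apply_symm_apply ((h : Equiv.Perm α) (e x₀)), h1]

end Cfsg.Agent.S0677
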