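import Mathlib
import Cfsg.Statements.S0676
import Cfsg.Agent.S0672
import Cfsg.Agent.S0674
import Cfsg.Agent.S0675
import Cfsg.Agent.S0677

set_option autoImplicit false
open Cfsg

namespace Cfsg.Agent.S0676

open MulAction
open scoped Pointwise

/-- a dihedral subgroup in standard form -/
theorem exists_dihedral {α : Type*} [Fintype α] [DecidableEq α] {p : ℕ} [Fact p.Prime]
    (hα : Fintype.card α = p) (G : Subgroup (Equiv.Perm α)) [MulAction.IsPretransitive G α]
    (P : Sylow p G) (heven : Even (Nat.card (Subgroup.normalizer ((P : Subgroup G) : Set G))))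
    (hp2 : p ≠ 2) :
    ∃ (e : ZMod p ≃ α) (c t : Equiv.Perm α) (b : ZMod p), c ∈ G ∧ t ∈ G ∧
      (∀ k, c (e k) = e (k + 1)) ∧ (∀ x, t (e x) = e (b - x)) := by
  classical
  have hp : p.Prime := Fact.out
  haveI : Nonempty α := Fintype.card_pos_iff.mp (hα ▸ hp.pos)
  obtain ⟨a₀⟩ := ‹Nonempty α›
  set H : Subgroup G := MulAction.stabilizer G a₀ with hHdef
  have hH : H.index = p := by
    rw [MulAction.index_stabilizer_of_transitive G a₀, Nat.card_eq_fintype_card, hα]
  have hGH : Nat.card H * p = Nat.card G := by rw [← hH]; exact H.card_mul_index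
  have hGdvd : Nat.card G ∣ p.factorial := by
    have := Subgroup.card_subgroup_dvd_card G
    rwa [Nat.card_eq_fintype_card (α := Equiv.Perm α), Fintype.card_perm, hα] at this
  have hHdvd : Nat.card H ∣ (p - 1).factorial := by
    rw [← hGH, ← Nat.mul_factorial_pred hp.ne_zero, mul_comm] at hGdvd
    exact Nat.dvd_of_mul_dvd_mul_left hp.pos hGdvd
  have hpH : ¬ p ∣ Nat.card H := by
    intro hdvd
    have := (hp.dvd_factorial).mp (hdvd.trans hHdvd)
    have := hp.pos
    omega
  have hPcard : Nat.card P = p := by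
    rw [P.card_eq_multiplicity, ← hGH, Nat.factorization_mul Nat.card_pos.ne' hp.ne_zero,
      Finsupp.add_apply, Nat.factorization_eq_zero_of_not_dvd hpH, hp.factorization_self, zero_add,
      pow_one]
  obtain ⟨c₁, hc₁⟩ := exists_prime_orderOf_dvd_card' (G := P) p (by rw [hPcard])
  set c₀ : G := (c₁ : G) with hc₀
  have hc₀P : c₀ ∈ (P : Subgroup G) := c₁.2
  have hc₀ord : orderOf c₀ = p := by rw [hc₀, Subgroup.orderOf_coe]; exact hc₁
  have hc₀ord' : orderOf (c₀ : Equiv.Perm α) = p := by rw [Subgroup.orderOf_coe]; exact hc₀ord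
  have hPz : Subgroup.zpowers c₀ = (P : Subgroup G) := by
    apply Subgroup.eq_of_le_of_card_ge (Subgroup.zpowers_le.mpr hc₀P)
    rw [Nat.card_zpowers, hc₀ord, hPcard]
  obtain ⟨e, hce⟩ := Cfsg.Agent.S0677.exists_labelling_of hα (c₀ : Equiv.Perm α) hc₀ord'
  let Φ : Equiv.Perm α ≃* Equiv.Perm (ZMod p) := e.symm.permCongrHom
  have hΦ : ∀ (σ : Equiv.Perm α) (k : ZMod p), Φ σ k = e.symm (σ (e k)) := fun σ k => rfl
  let ψ : G →* Equiv.Perm (ZMod p) := Φ.toMonoidHom.comp G.subtype
  have hψ : ∀ (g : G) (k : ZMod p), ψ g k = e.symm ((g : Equiv.Perm α) (e k)) := fun g k => rfl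
  have hψinj : Function.Injective ψ := by
    intro g₁ g₂ h
    apply Subtype.ext
    exact Φ.injective h
  have hψc : ψ c₀ = Equiv.addRight (1 : ZMod p) := by
    ext k
    rw [hψ, hce, Equiv.symm_apply_apply]; rfl
  have hψP : ∀ x ∈ (P : Subgroup G), ∃ i : ZMod p, ψ x = Equiv.addRight i := by
    intro x hx
    rw [← hPz] at hx
    obtain ⟨m, rfl⟩ := Subgroup.mem_zpowers_iff.mp hx
    refine ⟨m • (1 : ZMod p), ?_⟩
    rw [map_zpow, hψc, Equiv.zsmul_addRight]
  haveI : Fact (Nat.Prime 2) := ⟨Nat.prime_two⟩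
  obtain ⟨t, ht⟩ := exists_prime_orderOf_dvd_card'
    (G := Subgroup.normalizer ((P : Subgroup G) : Set G)) 2 heven.two_dvd
  have htne : (t : G) ≠ 1 := by
    intro h
    have : t = 1 := Subtype.ext h
    rw [this, orderOf_one] at ht
    omega
  have htsq : (t : G) * (t : G) = 1 := by
    have := pow_orderOf_eq_one t
    rw [ht, sq] at this
    exact congrArg Subtype.val this
  have htnorm : (t : G) * c₀ * (t : G)⁻¹ ∈ (P : Subgroup G) :=
    (Subgroup.mem_set_normalizer_iff.mp t.2 c₀).mp hc₀P
  obtain ⟨k, hk⟩ := hψP _ htnorm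
  have hform := Cfsg.Agent.S0677.invol_form hp2 (ψ t)
    (by
      intro h
      apply htne
      apply hψinj
      rw [h, map_one])
    (by rw [← map_mul, htsq, map_one])
    k
    (by
      intro x
      have h1 : ψ ((t : G) * c₀ * (t : G)⁻¹) * ψ t = ψ t * ψ c₀ := by
        rw [← map_mul, ← map_mul]
        congr 1
        group
      rw [hk, hψc] at h1
      have := congrArg (fun σ : Equiv.Perm (ZMod p) => σ x) h1
      simp only [Equiv.Perm.mul_apply, Equiv.coe_addRight] at this
      exact this.symm)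
  refine ⟨e, (c₀ : Equiv.Perm α), ((t : G) : Equiv.Perm α), ψ t 0, c₀.2, (t : G).2, hce, ?_⟩
  intro x
  have := hform x
  rw [hψ] at this
  rw [← this, Equiv.apply_symm_apply]

theorem sum_zmod_eq_zero {p : ℕ} [Fact p.Prime] (hp2 : p ≠ 2) : ∑ x : ZMod p, x = 0 := by
  have h2 := Cfsg.Agent.S0677.two_ne_zero_of hp2
  have h1 : ∑ x : ZMod p, x = ∑ x : ZMod p, -x := (Equiv.sum_comp (Equiv.neg (ZMod p)) (fun x => x)).symm
  rw [Finset.sum_neg_distrib] at h1
  have h3 : 2 * ∑ x : ZMod p, x = 0 := by linear_combination h1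
  rcases mul_eq_zero.mp h3 with h | h
  · exact absurd h h2
  · exact h

/-- A non-solvable transitive permutation group of prime degree `p` whose Sylow `p`-normaliser has even order is triply transitive. -/
theorem result {α : Type*} [Fintype α] [DecidableEq α] {p : ℕ} [Fact p.Prime] (hα : Fintype.card α = p) (G : Subgroup (Equiv.Perm α)) [MulAction.IsPretransitive G α] (hG : ¬ Group.IsSolvable G) (P : Sylow p G) (heven : Even (Nat.card (Subgroup.normalizer ((P : Subgroup G) : Set G)))) : MulAction.IsMultiplyPretransitive G α 3 := by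
  classical
  have hp : p.Prime := Fact.out
  haveI : Nonempty α := Fintype.card_pos_iff.mp (hα ▸ hp.pos)
  have hp2 : p ≠ 2 := by
    intro h2
    apply hG
    have hGdvd : Nat.card G ∣ 2 := by
      have := Subgroup.card_subgroup_dvd_card G
      rwa [Nat.card_eq_fintype_card (α := Equiv.Perm α), Fintype.card_perm, hα, h2] at this
    haveI : Fact (Nat.Prime 2) := ⟨Nat.prime_two⟩
    haveI : IsCyclic G := isCyclic_of_card_dvd_prime (p := 2) hGdvd
    letI := IsCyclic.commGroup (α := G)
    exact Group.isSolvable_of_comm (fun a b => mul_comm a b)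
  have h2ne := Cfsg.Agent.S0677.two_ne_zero_of hp2
  have hα' : (Fintype.card α).Prime := hα ▸ hp
  have h2 : IsMultiplyPretransitive G α 2 := (Cfsg.Agent.S0675.result hα' G).resolve_left hG
  obtain ⟨e, c, t, b, hcG, htG, hce, hte⟩ := exists_dihedral hα G P heven hp2
  set cG : G := ⟨c, hcG⟩ with hcGdef
  set tG : G := ⟨t, htG⟩ with htGdef
  have hsmul : ∀ (g : G) (a : α), g • a = (g : Equiv.Perm α) a := fun g a => rfl
  -- inverse actions
  have hcinv : ∀ x : ZMod p, cG⁻¹ • e x = e (x - 1) := by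
    intro x
    rw [inv_smul_eq_iff, hsmul]
    show e x = c (e (x - 1))
    rw [hce, sub_add_cancel]
  have htinv : ∀ x : ZMod p, tG⁻¹ • e x = e (b - x) := by
    intro x
    rw [inv_smul_eq_iff, hsmul]
    show e x = t (e (b - x))
    rw [hte, sub_sub_cancel]
  have hcpow : ∀ (n : ℕ) (x : ZMod p), (cG⁻¹) ^ n • e x = e (x - n) := by
    intro n
    induction n with
    | zero => intro x; simp
    | succ n ih =>
      intro x
      rw [pow_succ', mul_smul, ih, hcinv]
      congr 1
      push_cast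
      ring
  -- stabilisers have even order
  have heven' : ∀ a : α, Even (Nat.card (stabilizer G a)) := by
    have hcard : ∀ a : α, Nat.card (stabilizer G a) * p = Nat.card G := by
      intro a
      have h1 : (stabilizer G a).index = p := by
        rw [MulAction.index_stabilizer_of_transitive G a, Nat.card_eq_fintype_card, hα]
      rw [← h1]; exact (stabilizer G a).card_mul_index
    set x₁ : ZMod p := b * 2⁻¹ with hx₁
    have hx₁b : b - x₁ = x₁ := by
      rw [hx₁]
      field_simp
      ring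
    have htfix : tG ∈ stabilizer G (e x₁) := by
      rw [MulAction.mem_stabilizer_iff, hsmul]
      show t (e x₁) = e x₁
      rw [hte, hx₁b]
    have htt : tG * tG = 1 := by
      apply Subtype.ext
      show t * t = 1
      ext a
      obtain ⟨x, rfl⟩ := e.surjective a
      rw [Equiv.Perm.mul_apply, hte, hte, sub_sub_cancel]; rfl
    have ht1 : tG ≠ 1 := by
      intro h
      have h0 : t (e 0) = e 0 := by
        have := congrArg (fun g : G => (g : Equiv.Perm α) (e 0)) h
        exact this
      have h1 : t (e 1) = e 1 := by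
        have := congrArg (fun g : G => (g : Equiv.Perm α) (e 1)) h
        exact this
      rw [hte] at h0 h1
      have hb0 : b - 0 = 0 := e.injective h0
      have hb1 : b - 1 = 1 := e.injective h1
      apply h2ne
      linear_combination hb0 - hb1
    have hord : orderOf (⟨tG, htfix⟩ : stabilizer G (e x₁)) = 2 := by
      haveI : Fact (Nat.Prime 2) := ⟨Nat.prime_two⟩
      apply orderOf_eq_prime
      · apply Subtype.ext
        show tG ^ 2 = 1
        rw [sq, htt]
      · intro h
        exact ht1 (congrArg Subtype.val h)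
    have h2dvd : 2 ∣ Nat.card (stabilizer G (e x₁)) := by
      rw [← hord]; exact orderOf_dvd_natCard _
    intro a
    have e1 : Nat.card (stabilizer G a) = Nat.card (stabilizer G (e x₁)) := by
      have := (hcard a).trans (hcard (e x₁)).symm
      exact Nat.eq_of_mul_eq_mul_right hp.pos this
    rw [e1]
    exact even_iff_two_dvd.mpr h2dvd
  apply Cfsg.Agent.S0672.result (K := ZMod p) (p := p) h2 (by rw [hα]) heven'
  intro f hf
  -- notation
  set SZ := (Cfsg.permSumZero (ZMod p) G α).toSubmodule with hSZ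
  have memSZ : ∀ v : α → ZMod p, v ∈ SZ ↔ ∑ a, v a = 0 := fun v => Iff.rfl
  have hconstSZ : ∀ k : ZMod p, (fun _ : α => k) ∈ SZ := by
    intro k
    rw [memSZ, Finset.sum_const, Finset.card_univ, hα, nsmul_eq_mul, ZMod.natCast_self, zero_mul]
  have hfconst : ∀ k : ZMod p, f ⟨fun _ : α => k, hconstSZ k⟩ = 0 := by
    intro k
    apply hf
    show (fun _ : α => k) ∈ Submodule.span (ZMod p) {fun _ : α => (1 : ZMod p)}
    rw [Submodule.mem_span_singleton]
    exact ⟨k, by funext a; simp⟩
  set φ₁ : α → ZMod p := fun a => e.symm a with hφ₁def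
  have hφ₁ : φ₁ ∈ SZ := by
    rw [memSZ]
    show ∑ a, e.symm a = 0
    rw [Equiv.sum_comp e.symm (fun x => x)]
    exact sum_zmod_eq_zero hp2
  set F := f ⟨φ₁, hφ₁⟩ with hF
  -- invariance under `c`
  have hFc : ∀ π : Set.powersetCard α 2, F (cG⁻¹ • π) = F π := by
    intro π
    have h1 := Representation.IntertwiningMap.isIntertwining _ _ f cG ⟨φ₁, hφ₁⟩
    have h3 : (Cfsg.permSumZero (ZMod p) G α).toRepresentation cG ⟨φ₁, hφ₁⟩
        = ⟨φ₁, hφ₁⟩ - ⟨fun _ : α => (1 : ZMod p), hconstSZ 1⟩ := by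
      apply Subtype.ext
      funext a
      obtain ⟨x, rfl⟩ := e.surjective a
      show φ₁ (cG⁻¹ • e x) = φ₁ (e x) - 1
      rw [hcinv]
      simp [hφ₁def]
    rw [h3, map_sub, hfconst, sub_zero] at h1
    have h4 := congrFun h1 π
    exact h4.symm
  have hFcn : ∀ (n : ℕ) (π : Set.powersetCard α 2), F ((cG⁻¹) ^ n • π) = F π := by
    intro n
    induction n with
    | zero => intro π; simp
    | succ n ih =>
      intro π
      rw [pow_succ', mul_smul, hFc, ih]
  -- anti-invariance under `t`
  have hFt : ∀ π : Set.powersetCard α 2, F (tG⁻¹ • π) = - F π := by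
    intro π
    have h1 := Representation.IntertwiningMap.isIntertwining _ _ f tG ⟨φ₁, hφ₁⟩
    have h3 : (Cfsg.permSumZero (ZMod p) G α).toRepresentation tG ⟨φ₁, hφ₁⟩
        = ⟨fun _ : α => b, hconstSZ b⟩ - ⟨φ₁, hφ₁⟩ := by
      apply Subtype.ext
      funext a
      obtain ⟨x, rfl⟩ := e.surjective a
      show φ₁ (tG⁻¹ • e x) = b - φ₁ (e x)
      rw [htinv]
      simp [hφ₁def]
    rw [h3, map_sub, hfconst, zero_sub] at h1
    have h4 := congrFun h1 π
    exact h4.symm
  -- hence `F = 0`
  have hF0 : F = 0 := by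
    funext π
    obtain ⟨u, w, huw, hπ⟩ := Finset.card_eq_two.mp π.2
    have hπ' : π = Cfsg.Agent.S0672.mkPair u w huw := Subtype.ext hπ
    obtain ⟨x, rfl⟩ := e.surjective u
    obtain ⟨y, rfl⟩ := e.surjective w
    have hsm : ∀ (g : G) (u w : α) (h : u ≠ w), g • Cfsg.Agent.S0672.mkPair u w h
        = Cfsg.Agent.S0672.mkPair (g • u) (g • w) (fun e => h (MulAction.injective g e)) :=
      fun g u w h => Cfsg.Agent.S0672.smul_mkPair g h
    have h1 : tG⁻¹ • π = (cG⁻¹) ^ (x + y - b).val • π := by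
      rw [hπ', hsm, hsm]
      apply Subtype.ext
      show ({tG⁻¹ • e x, tG⁻¹ • e y} : Finset α) = {(cG⁻¹) ^ (x + y - b).val • e x, (cG⁻¹) ^ (x + y - b).val • e y}
      rw [htinv, htinv, hcpow, hcpow, ZMod.natCast_zmod_val, Finset.pair_comm]
      have e1 : x - (x + y - b) = b - y := by ring
      have e2 : y - (x + y - b) = b - x := by ring
      rw [e1, e2]
    have h2 := hFt π
    rw [h1, hFcn] at h2
    have h3 : 2 * F π = 0 := by linear_combination h2
    rcases mul_eq_zero.mp h3 with h | h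
    · exact absurd h h2ne
    · exact h
  -- the kernel as a subrepresentation
  let W : Subrepresentation (Cfsg.permRep (ZMod p) G α) :=
    { toSubmodule := (LinearMap.ker f.toLinearMap).map SZ.subtype
      apply_mem_toSubmodule := by
        intro g v hv
        rw [Submodule.mem_map] at hv ⊢
        obtain ⟨x, hx, rfl⟩ := hv
        refine ⟨(Cfsg.permSumZero (ZMod p) G α).toRepresentation g x, ?_, rfl⟩
        rw [LinearMap.mem_ker] at hx ⊢
        have := Representation.IntertwiningMap.isIntertwining _ _ f g x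
        rw [Representation.IntertwiningMap.toLinearMap_apply] at hx ⊢
        rw [this, hx, map_zero] }
  have memW : ∀ v : α → ZMod p, v ∈ W.toSubmodule ↔ ∃ hv : v ∈ SZ, f ⟨v, hv⟩ = 0 := by
    intro v
    show v ∈ (LinearMap.ker f.toLinearMap).map SZ.subtype ↔ _
    rw [Submodule.mem_map]
    constructor
    · rintro ⟨x, hx, rfl⟩
      exact ⟨x.2, hx⟩
    · rintro ⟨hv, hfv⟩
      exact ⟨⟨v, hv⟩, hfv, rfl⟩
  have hW₁ : (Cfsg.permConstants (ZMod p) G α).toSubmodule ≤ W.toSubmodule := by
    intro v hv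
    have hv' : v ∈ Submodule.span (ZMod p) {fun _ : α => (1 : ZMod p)} := hv
    rw [Submodule.mem_span_singleton] at hv'
    obtain ⟨k, rfl⟩ := hv'
    have e1 : (k • fun _ : α => (1 : ZMod p)) = fun _ : α => k := by funext a; simp
    rw [memW]
    have hmem : (k • fun _ : α => (1 : ZMod p)) ∈ SZ := by rw [e1]; exact hconstSZ k
    refine ⟨hmem, ?_⟩
    exact hf ⟨_, hmem⟩ hv
  have hW₂ : W.toSubmodule ≤ (Cfsg.permSumZero (ZMod p) G α).toSubmodule := by
    intro v hv
    rw [memW] at hv
    exact hv.1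
  have hφW : φ₁ ∈ W.toSubmodule := (memW φ₁).mpr ⟨hφ₁, hF0⟩
  have hφC : φ₁ ∉ (Cfsg.permConstants (ZMod p) G α).toSubmodule := by
    intro hv
    have hv' : φ₁ ∈ Submodule.span (ZMod p) {fun _ : α => (1 : ZMod p)} := hv
    rw [Submodule.mem_span_singleton] at hv'
    obtain ⟨k, hk⟩ := hv'
    have h0 := congrFun hk (e 0)
    have h1 := congrFun hk (e 1)
    simp [hφ₁def] at h0 h1
    rw [h0] at h1
    exact zero_ne_one h1
  rcases Cfsg.Agent.S0674.result hα G hG W hW₁ hW₂ with hW | hW
  · exfalso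
    apply hφC
    rw [← hW]; exact hφW
  · ext v : 2
    have hv : (v : α → ZMod p) ∈ W.toSubmodule := by rw [hW]; exact v.2
    rw [memW] at hv
    obtain ⟨hv1, hv2⟩ := hv
    exact hv2

end Cfsg.Agent.S0676
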