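import Mathlib
import Cfsg.Statements.S0678
import Cfsg.Agent.S0675
import Cfsg.Agent.S0676

set_option autoImplicit false
open Cfsg

namespace Cfsg.Agent.S0678

open MulAction Equiv

theorem fact7 : Fact (Nat.Prime 7) := ⟨by norm_num⟩

theorem arith (s t m n : ℕ) (hs1 : 1 ≤ s) (hs5 : s ≤ 5) (ht1 : 1 ≤ t) (ht4 : t ≤ 4)
    (ht3 : t ≠ 3) (hm : m ∣ 6) (hn : n % 7 = 1) (h : 42 * (s * t) = 7 * m * n) (hm1 : m ≠ 1)
    (heven : m % 2 = 1 ∨ (s * t) % 5 = 0) :
    (s * t = 4 ∧ m = 3) ∨ (s * t = 5 ∧ m = 2) := by
  have hm6 : m ≤ 6 := Nat.le_of_dvd (by norm_num) hm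
  interval_cases s <;> interval_cases t <;> interval_cases m <;> omega

theorem card_eq_relIndex_mul {G : Type*} [Group G] [Finite G] (H K : Subgroup G) (h : H ≤ K) :
    Nat.card K = H.relIndex K * Nat.card H := by
  have h1 := Subgroup.relIndex_mul_index h
  have h2 := K.index_mul_card
  have h3 := H.index_mul_card
  have h0 : K.index ≠ 0 := Subgroup.index_ne_zero_of_finite
  have : K.index * Nat.card K = K.index * (H.relIndex K * Nat.card H) := by
    rw [h2, ← h3, ← h1]; ring
  exact Nat.eq_of_mul_eq_mul_left (Nat.pos_of_ne_zero h0) this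

variable {α : Type*} [Fintype α] [DecidableEq α]

theorem exists_not_mem (hα : Fintype.card α = 7) (S : Finset α) (hS : S.card < 7) :
    ∃ x, x ∉ S := by
  by_contra h
  push Not at h
  have : S = Finset.univ := Finset.eq_univ_iff_forall.mpr h
  rw [this, Finset.card_univ, hα] at hS
  omega

theorem card_four {a b c d : α} (hab : a ≠ b) (hac : a ≠ c) (had : a ≠ d) (hbc : b ≠ c)
    (hbd : b ≠ d) (hcd : c ≠ d) : ({a, b, c, d} : Finset α).card = 4 := by
  rw [Finset.card_insert_of_notMem, Finset.card_eq_three.mpr ⟨b, c, d, hbc, hbd, hcd, rfl⟩]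
  simp only [Finset.mem_insert, Finset.mem_singleton, not_or]
  exact ⟨hab, hac, had⟩

theorem support_le_of_fix (hα : Fintype.card α = 7) {g : Perm α} (S : Finset α)
    (hfix : ∀ x ∈ S, g x = x) : g.support.card + S.card ≤ 7 := by
  have hsub : g.support ⊆ Sᶜ := by
    intro x hx
    rw [Finset.mem_compl]
    intro hxS
    exact (Perm.mem_support.mp hx) (hfix x hxS)
  have hc := Finset.card_le_card hsub
  rw [Finset.card_compl, hα] at hc
  have h7 := Finset.card_le_univ S
  rw [hα] at h7
  omega

theorem four_le_support (hα : Fintype.card α = 7) (X : Subgroup (Perm α)) [IsPretransitive X α]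
    (hA : ¬ alternatingGroup α ≤ X) {g : Perm α} (hg : g ∈ X) (hg1 : g ≠ 1) :
    4 ≤ g.support.card := by
  have hprim : IsPreprimitive X α := by
    apply IsPreprimitive.of_prime_card
    rw [Nat.card_eq_fintype_card, hα]; norm_num
  by_contra hlt
  push Not at hlt
  have h0 : g.support.card ≠ 0 := fun h => hg1 (Perm.card_support_eq_zero.mp h)
  have h1 := Perm.card_support_ne_one g
  have h23 : g.support.card = 2 ∨ g.support.card = 3 := by omega
  rcases h23 with h2 | h3
  · have htop := Perm.subgroup_eq_top_of_isPreprimitive_of_isSwap_mem hprim g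
      (Perm.card_support_eq_two.mp h2) hg
    apply hA; rw [htop]; exact le_top
  · exact hA (Perm.alternatingGroup_le_of_isPreprimitive_of_isThreeCycle_mem hprim
      (card_support_eq_three_iff.mp h3) hg)

theorem eq_one_of_fix (hα : Fintype.card α = 7) (X : Subgroup (Perm α)) [IsPretransitive X α]
    (hA : ¬ alternatingGroup α ≤ X) {g : Perm α} (hg : g ∈ X)
    (S : Finset α) (hS : 4 ≤ S.card) (hfix : ∀ x ∈ S, g x = x) : g = 1 := by
  by_contra hg1
  have h4 := four_le_support hα X hA hg hg1
  have := support_le_of_fix hα S hfix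
  omega

theorem card_eq_of_two (hα : Fintype.card α = 7) (X : Subgroup (Perm α))
    (h2 : IsMultiplyPretransitive X α 2) {a b : α} (hab : a ≠ b) :
    Nat.card X = 42 * Nat.card (fixingSubgroup (↥X) ({a, b} : Set α)) := by
  have h := h2.index_of_fixingSubgroup_mul (s := ({a, b} : Set α)) (Set.ncard_pair hab)
  rw [Nat.card_eq_fintype_card, hα] at h
  have h5 : (7 - 2).factorial = 120 := by decide
  have h7 : (7).factorial = 5040 := by decide
  rw [h5, h7] at h
  have hidx : (fixingSubgroup (↥X) ({a, b} : Set α)).index = 42 := by omega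
  rw [← (fixingSubgroup (↥X) ({a, b} : Set α)).index_mul_card, hidx]

theorem dvd_of_three (hα : Fintype.card α = 7) (X : Subgroup (Perm α))
    (h3 : IsMultiplyPretransitive X α 3) : 210 ∣ Nat.card X := by
  obtain ⟨s, -, hs⟩ := Set.exists_subset_card_eq (s := (Set.univ : Set α)) (n := 3)
    (by rw [Set.ncard_univ, Nat.card_eq_fintype_card, hα]; norm_num)
  have h := h3.index_of_fixingSubgroup_mul hs
  rw [Nat.card_eq_fintype_card, hα] at h
  have h4 : (7 - 3).factorial = 24 := by decide
  have h7 : (7).factorial = 5040 := by decide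
  rw [h4, h7] at h
  have hidx : (fixingSubgroup (↥X) s).index = 210 := by omega
  rw [← (fixingSubgroup (↥X) s).index_mul_card, hidx]
  exact Dvd.intro _ rfl

theorem fix_two_card (hα : Fintype.card α = 7) (X : Subgroup (Perm α)) [IsPretransitive X α]
    (hA : ¬ alternatingGroup α ≤ X) {a b : α} (hab : a ≠ b) :
    ∃ s t : ℕ, 1 ≤ s ∧ s ≤ 5 ∧ 1 ≤ t ∧ t ≤ 4 ∧ t ≠ 3 ∧
      Nat.card (fixingSubgroup (↥X) ({a, b} : Set α)) = s * t := by
  obtain ⟨c, hc⟩ := exists_not_mem hα {a, b} (by
    have := Finset.card_le_two (a := a) (b := b); omega)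
  obtain ⟨d, hd⟩ := exists_not_mem hα {a, b, c} (by
    have := Finset.card_le_three (a := a) (b := b) (c := c); omega)
  simp only [Finset.mem_insert, Finset.mem_singleton, not_or] at hc hd
  obtain ⟨hca, hcb⟩ := hc
  obtain ⟨hda, hdb, hdc⟩ := hd
  have hKa : ∀ k : fixingSubgroup (↥X) ({a, b} : Set α), ((k : X) : Perm α) a = a := by
    intro k
    exact (mem_fixingSubgroup_iff (↥X)).mp k.2 a (by simp)
  have hKb : ∀ k : fixingSubgroup (↥X) ({a, b} : Set α), ((k : X) : Perm α) b = b := by
    intro k
    exact (mem_fixingSubgroup_iff (↥X)).mp k.2 b (by simp)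
  have hKc : ∀ k : stabilizer (fixingSubgroup (↥X) ({a, b} : Set α)) c,
      (((k : fixingSubgroup (↥X) ({a, b} : Set α)) : X) : Perm α) c = c := by
    intro k
    exact mem_stabilizer_iff.mp k.2
  have hKcd : Nat.card (stabilizer (stabilizer (fixingSubgroup (↥X) ({a, b} : Set α)) c) d) = 1 := by
    rw [Subgroup.card_eq_one, Subgroup.eq_bot_iff_forall]
    intro k hk
    have hkd : (((k : fixingSubgroup (↥X) ({a, b} : Set α)) : X) : Perm α) d = d :=
      mem_stabilizer_iff.mp hk
    have h1 : (((k : fixingSubgroup (↥X) ({a, b} : Set α)) : X) : Perm α) = 1 := by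
      apply eq_one_of_fix hα X hA ((k : fixingSubgroup (↥X) ({a, b} : Set α)) : X).2 {a, b, c, d}
      · rw [card_four hab (Ne.symm hca) (Ne.symm hda) (Ne.symm hcb) (Ne.symm hdb) (Ne.symm hdc)]
      · intro x hx
        simp only [Finset.mem_insert, Finset.mem_singleton] at hx
        rcases hx with h | h | h | h
        · rw [h]; exact hKa k
        · rw [h]; exact hKb k
        · rw [h]; exact hKc k
        · rw [h]; exact hkd
    apply Subtype.ext; apply Subtype.ext; apply Subtype.ext; exact h1
  have e1 : Nat.card (fixingSubgroup (↥X) ({a, b} : Set α))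
      = (orbit (fixingSubgroup (↥X) ({a, b} : Set α)) c).ncard
        * Nat.card (stabilizer (fixingSubgroup (↥X) ({a, b} : Set α)) c) := by
    rw [← index_stabilizer (fixingSubgroup (↥X) ({a, b} : Set α)) c]
    exact (Subgroup.index_mul_card _).symm
  have e2 : Nat.card (stabilizer (fixingSubgroup (↥X) ({a, b} : Set α)) c)
      = (orbit (stabilizer (fixingSubgroup (↥X) ({a, b} : Set α)) c) d).ncard
        * Nat.card (stabilizer (stabilizer (fixingSubgroup (↥X) ({a, b} : Set α)) c) d) := by
    rw [← index_stabilizer (stabilizer (fixingSubgroup (↥X) ({a, b} : Set α)) c) d]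
    exact (Subgroup.index_mul_card _).symm
  rw [hKcd, mul_one] at e2
  have hs5 : (orbit (fixingSubgroup (↥X) ({a, b} : Set α)) c).ncard ≤ 5 := by
    have hsub : orbit (fixingSubgroup (↥X) ({a, b} : Set α)) c ⊆ ({a, b} : Set α)ᶜ := by
      rintro _ ⟨k, rfl⟩
      show k • c ∉ ({a, b} : Set α)
      intro hmem
      rcases hmem with h | h
      · have : ((k : X) : Perm α) c = ((k : X) : Perm α) a := by rw [hKa k]; exact h
        exact hca (((k : X) : Perm α).injective this)
      · have : ((k : X) : Perm α) c = ((k : X) : Perm α) b := by rw [hKb k]; exact h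
        exact hcb (((k : X) : Perm α).injective this)
    have h1 := Set.ncard_le_ncard hsub (Set.toFinite _)
    have h2 := Set.ncard_add_ncard_compl ({a, b} : Set α)
    rw [Set.ncard_pair hab, Nat.card_eq_fintype_card, hα] at h2
    omega
  have habc : ({a, b, c} : Set α).ncard = 3 := by
    rw [Set.ncard_insert_of_notMem, Set.ncard_pair (Ne.symm hcb)]
    simp only [Set.mem_insert_iff, Set.mem_singleton_iff, not_or]
    exact ⟨hab, Ne.symm hca⟩
  have ht4 : (orbit (stabilizer (fixingSubgroup (↥X) ({a, b} : Set α)) c) d).ncard ≤ 4 := by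
    have hsub : orbit (stabilizer (fixingSubgroup (↥X) ({a, b} : Set α)) c) d
        ⊆ ({a, b, c} : Set α)ᶜ := by
      rintro _ ⟨k, rfl⟩
      show k • d ∉ ({a, b, c} : Set α)
      intro hmem
      rcases hmem with h | h | h
      · have : (((k : fixingSubgroup (↥X) ({a, b} : Set α)) : X) : Perm α) d
            = (((k : fixingSubgroup (↥X) ({a, b} : Set α)) : X) : Perm α) a := by
          rw [hKa k]; exact h
        exact hda ((((k : fixingSubgroup (↥X) ({a, b} : Set α)) : X) : Perm α).injective this)
      · have : (((k : fixingSubgroup (↥X) ({a, b} : Set α)) : X) : Perm α) d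
            = (((k : fixingSubgroup (↥X) ({a, b} : Set α)) : X) : Perm α) b := by
          rw [hKb k]; exact h
        exact hdb ((((k : fixingSubgroup (↥X) ({a, b} : Set α)) : X) : Perm α).injective this)
      · have : (((k : fixingSubgroup (↥X) ({a, b} : Set α)) : X) : Perm α) d
            = (((k : fixingSubgroup (↥X) ({a, b} : Set α)) : X) : Perm α) c := by
          rw [hKc k]; exact h
        exact hdc ((((k : fixingSubgroup (↥X) ({a, b} : Set α)) : X) : Perm α).injective this)
    have h1 := Set.ncard_le_ncard hsub (Set.toFinite _)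
    have h2 := Set.ncard_add_ncard_compl ({a, b, c} : Set α)
    rw [habc, Nat.card_eq_fintype_card, hα] at h2
    omega
  have hKpos : 0 < Nat.card (fixingSubgroup (↥X) ({a, b} : Set α)) := Nat.card_pos
  have hKcpos : 0 < Nat.card (stabilizer (fixingSubgroup (↥X) ({a, b} : Set α)) c) :=
    Nat.card_pos
  have ht3 : (orbit (stabilizer (fixingSubgroup (↥X) ({a, b} : Set α)) c) d).ncard ≠ 3 := by
    intro h3
    have hKc3 : Nat.card (stabilizer (fixingSubgroup (↥X) ({a, b} : Set α)) c) = 3 := by
      rw [e2, h3]
    haveI : Fact (Nat.Prime 3) := ⟨by norm_num⟩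
    obtain ⟨g, hg⟩ := exists_prime_orderOf_dvd_card'
      (G := stabilizer (fixingSubgroup (↥X) ({a, b} : Set α)) c) 3 (by rw [hKc3])
    have hg' : orderOf (((g : fixingSubgroup (↥X) ({a, b} : Set α)) : X) : Perm α) = 3 := by
      rw [Subgroup.orderOf_coe, Subgroup.orderOf_coe, Subgroup.orderOf_coe]; exact hg
    obtain ⟨n, hn⟩ := Perm.cycleType_prime_order
      (σ := (((g : fixingSubgroup (↥X) ({a, b} : Set α)) : X) : Perm α)) (by rw [hg']; norm_num)
    rw [hg'] at hn
    have hsum := Perm.sum_cycleType (((g : fixingSubgroup (↥X) ({a, b} : Set α)) : X) : Perm α)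
    rw [hn, Multiset.sum_replicate, smul_eq_mul] at hsum
    have hfix := support_le_of_fix hα
      (g := (((g : fixingSubgroup (↥X) ({a, b} : Set α)) : X) : Perm α)) {a, b, c} (by
        intro x hx
        simp only [Finset.mem_insert, Finset.mem_singleton] at hx
        rcases hx with h | h | h
        · rw [h]; exact hKa g
        · rw [h]; exact hKb g
        · rw [h]; exact hKc g)
    rw [Finset.card_eq_three.mpr ⟨a, b, c, hab, Ne.symm hca, Ne.symm hcb, rfl⟩] at hfix
    have h4 := four_le_support hα X hA ((g : fixingSubgroup (↥X) ({a, b} : Set α)) : X).2 (by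
      intro h1
      rw [h1, orderOf_one] at hg'
      omega)
    omega
  refine ⟨_, _, ?_, hs5, ?_, ht4, ht3, ?_⟩
  · rcases Nat.eq_zero_or_pos (orbit (fixingSubgroup (↥X) ({a, b} : Set α)) c).ncard with h | h
    · rw [h, zero_mul] at e1; omega
    · exact h
  · rcases Nat.eq_zero_or_pos
      (orbit (stabilizer (fixingSubgroup (↥X) ({a, b} : Set α)) c) d).ncard with h | h
    · rw [h] at e2; omega
    · exact h
  · rw [e1, e2]

theorem card_dvd_5040 (hα : Fintype.card α = 7) (X : Subgroup (Perm α)) : Nat.card X ∣ 5040 := by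
  have h := Subgroup.card_subgroup_dvd_card X
  rw [Nat.card_perm, Nat.card_eq_fintype_card (α := α), hα] at h
  have h7 : (7).factorial = 5040 := by decide
  rw [h7] at h
  exact h

theorem seven_dvd_of_transitive (hα : Fintype.card α = 7) (M : Type*) [Group M] [Finite M]
    [MulAction M α] [IsPretransitive M α] : 7 ∣ Nat.card M := by
  haveI : Nonempty α := Fintype.card_pos_iff.mp (by omega)
  obtain ⟨a⟩ := ‹Nonempty α›
  have h1 := index_stabilizer_of_transitive M a
  rw [Nat.card_eq_fintype_card, hα] at h1
  rw [← h1]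
  exact Subgroup.index_dvd_card _

theorem cycleType_of_order_seven (hα : Fintype.card α = 7) {σ : Perm α} (hσ : orderOf σ = 7) :
    σ.cycleType = Multiset.replicate 1 7 := by
  obtain ⟨n, hn⟩ := Perm.cycleType_prime_order (σ := σ) (by rw [hσ]; norm_num)
  rw [hσ] at hn
  have h1 := Perm.sum_cycleType_le σ
  rw [hn, Multiset.sum_replicate, smul_eq_mul, hα] at h1
  have : n = 0 := by omega
  rw [hn, this]

theorem card_centralizer_seven (hα : Fintype.card α = 7) {σ : Perm α} (hσ : orderOf σ = 7) :
    Nat.card (Subgroup.centralizer ({σ} : Set (Perm α))) = 7 := by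
  rw [Perm.nat_card_centralizer, cycleType_of_order_seven hα hσ, hα]
  decide

theorem pretransitive_of_order_seven (hα : Fintype.card α = 7) (Y : Subgroup (Perm α))
    {c : Perm α} (hc : c ∈ Y) (hc7 : orderOf c = 7) : IsPretransitive Y α := by
  have hprime : (Fintype.card α).Prime := by rw [hα]; norm_num
  have hcyc : c.IsCycle := Perm.isCycle_of_prime_order'' hprime (by rw [hc7, hα])
  have hsupp : ∀ x : α, c x ≠ x := by
    have hs : c.support = Finset.univ := by
      apply Finset.eq_univ_of_card
      rw [← hcyc.orderOf, hc7, hα]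
    intro x
    exact Perm.mem_support.mp (hs ▸ Finset.mem_univ x)
  constructor
  intro x y
  obtain ⟨i, hi⟩ := hcyc.exists_pow_eq (hsupp x) (hsupp y)
  exact ⟨⟨c ^ i, Y.pow_mem hc i⟩, hi⟩

theorem normal_transitive (hα : Fintype.card α = 7) (X : Subgroup (Perm α)) [IsPretransitive X α]
    (K : Subgroup X) [K.Normal] (hK : K ≠ ⊥) : IsPretransitive K α := by
  haveI hprim : IsPreprimitive X α := by
    apply IsPreprimitive.of_prime_card
    rw [Nat.card_eq_fintype_card, hα]; norm_num
  have hfix : fixedPoints K α ≠ Set.univ := by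
    intro hfp
    apply hK
    rw [Subgroup.eq_bot_iff_forall]
    intro k hk
    apply Subtype.ext
    apply Perm.ext
    intro x
    have hx : x ∈ fixedPoints K α := by rw [hfp]; exact Set.mem_univ x
    exact hx ⟨k, hk⟩
  exact IsQuasiPreprimitive.isPretransitive_of_normal hfix

theorem sylow_data [Fact (Nat.Prime 7)] (hα : Fintype.card α = 7) (X : Subgroup (Perm α))
    [IsPretransitive X α] (P : Sylow 7 X) :
    Nat.card P = 7 ∧
    (Subgroup.centralizer ((P : Subgroup X) : Set X)).relIndex
      (Subgroup.normalizer ((P : Subgroup X) : Set X)) ∣ 6 ∧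
    Nat.card (Subgroup.normalizer ((P : Subgroup X) : Set X)) =
      7 * (Subgroup.centralizer ((P : Subgroup X) : Set X)).relIndex
        (Subgroup.normalizer ((P : Subgroup X) : Set X)) ∧
    Nat.card X = Nat.card (Subgroup.normalizer ((P : Subgroup X) : Set X)) * Nat.card (Sylow 7 X) ∧
    Nat.card (Sylow 7 X) % 7 = 1 := by
  have h5040 := card_dvd_5040 hα X
  have h7 := seven_dvd_of_transitive hα X
  have hXpos : 0 < Nat.card X := Nat.card_pos
  have hP7 : Nat.card P = 7 := by
    have h := P.card_eq_multiplicity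
    have hj1 : 1 ≤ (Nat.card X).factorization 7 :=
      Nat.Prime.factorization_pos_of_dvd (by norm_num) hXpos.ne' h7
    have hj2 : (Nat.card X).factorization 7 ≤ 1 := by
      by_contra hcon
      push Not at hcon
      have hd : 7 ^ 2 ∣ Nat.card X := (pow_dvd_pow 7 hcon).trans (Nat.ordProj_dvd _ 7)
      have := hd.trans h5040
      norm_num at this
    have : (Nat.card X).factorization 7 = 1 := le_antisymm hj2 hj1
    rw [h, this, pow_one]
  haveI hcyc : IsCyclic P := isCyclic_of_prime_card hP7
  obtain ⟨c, hcP, hc1⟩ : ∃ c : X, c ∈ (P : Subgroup X) ∧ c ≠ 1 := by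
    by_contra hcon
    push Not at hcon
    have hbot : (P : Subgroup X) = ⊥ := (Subgroup.eq_bot_iff_forall _).mpr hcon
    have h1 : Nat.card (P : Subgroup X) = 1 := by rw [hbot]; exact Subgroup.card_bot
    rw [hP7] at h1; omega
  have hc7 : orderOf c = 7 := by
    have hpow : (⟨c, hcP⟩ : (P : Subgroup X)) ^ 7 = 1 := by
      have := pow_card_eq_one' (G := (P : Subgroup X)) (x := ⟨c, hcP⟩)
      rwa [hP7] at this
    have hpow' : c ^ 7 = 1 := by
      have := congrArg Subtype.val hpow
      simpa using this
    exact orderOf_eq_prime hpow' hc1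
  have hc7' : orderOf (c : Perm α) = 7 := by rw [Subgroup.orderOf_coe]; exact hc7
  have hPC : (P : Subgroup X) ≤ Subgroup.centralizer ((P : Subgroup X) : Set X) :=
    Subgroup.le_centralizer _
  have hC7 : Nat.card (Subgroup.centralizer ((P : Subgroup X) : Set X)) = 7 := by
    apply le_antisymm
    · let f : Subgroup.centralizer ((P : Subgroup X) : Set X) →
          Subgroup.centralizer ({(c : Perm α)} : Set (Perm α)) :=
        fun g => ⟨((g : X) : Perm α), by
          rw [Subgroup.mem_centralizer_iff]
          intro h hh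
          rw [Set.mem_singleton_iff] at hh
          subst hh
          have := (Subgroup.mem_centralizer_iff.mp g.2) c hcP
          exact congrArg Subtype.val this⟩
      have hf : Function.Injective f := by
        intro g g' hgg
        apply Subtype.ext; apply Subtype.ext
        have hv := congrArg Subtype.val hgg
        exact hv
      have := Nat.card_le_card_of_injective f hf
      rwa [card_centralizer_seven hα hc7'] at this
    · have := Subgroup.card_dvd_of_le hPC
      rw [hP7] at this
      exact Nat.le_of_dvd Nat.card_pos this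
  have key : (Subgroup.centralizer ((P : Subgroup X) : Set X)).relIndex
      (Subgroup.normalizer ((P : Subgroup X) : Set X)) ∣ 6 := by
    have key := Subgroup.card_dvd_of_injective _
      (QuotientGroup.kerLift_injective (P : Subgroup X).normalizerMonoidHom)
    rw [Subgroup.normalizerMonoidHom_ker, ← Subgroup.index, ← Subgroup.relIndex] at key
    have hAut : Nat.card (MulAut (P : Subgroup X)) = 6 := by
      rw [IsCyclic.card_mulAut, hP7]; decide
    rwa [hAut] at key
  have hCN : Subgroup.centralizer ((P : Subgroup X) : Set X)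
      ≤ Subgroup.normalizer ((P : Subgroup X) : Set X) := Subgroup.centralizer_le_normalizer _
  have hN := card_eq_relIndex_mul _ _ hCN
  have hidx := (Subgroup.normalizer ((P : Subgroup X) : Set X)).index_mul_card
  have hsyl : Nat.card (Sylow 7 X) = (Subgroup.normalizer ((P : Subgroup X) : Set X)).index :=
    P.card_eq_index_normalizer
  have hmod := card_sylow_modEq_one 7 X
  refine ⟨hP7, key, ?_, ?_, ?_⟩
  · rw [hN, hC7, mul_comm]
  · rw [hsyl, ← hidx, mul_comm]
  · rw [Nat.ModEq] at hmod
    omega

theorem no_normal_complement (hα : Fintype.card α = 7) (X : Subgroup (Perm α))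
    [IsPretransitive X α] (K : Subgroup X) [K.Normal] (hcard : Nat.card K * 7 = Nat.card X) :
    Group.IsSolvable X := by
  by_cases hKbot : K = ⊥
  · rw [hKbot, Subgroup.card_bot, one_mul] at hcard
    haveI := fact7
    haveI : IsCyclic X := isCyclic_of_prime_card hcard.symm
    exact Group.isSolvable_of_comm
      (fun a b => (IsCyclic.isMulCommutative (α := X)).is_comm.comm a b)
  · exfalso
    haveI : IsPretransitive K α := normal_transitive hα X K hKbot
    have h7K : 7 ∣ Nat.card K := seven_dvd_of_transitive hα K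
    have h49 : 49 ∣ Nat.card X := by
      rw [← hcard]; exact Nat.mul_dvd_mul h7K (dvd_refl 7)
    have := h49.trans (card_dvd_5040 hα X)
    omega

theorem solvable_of_normalizer_le [Fact (Nat.Prime 7)] (hα : Fintype.card α = 7)
    (X : Subgroup (Perm α)) [IsPretransitive X α] (P : Sylow 7 X) (hP7 : Nat.card P = 7)
    (hP : Subgroup.normalizer ((P : Subgroup X) : Set X)
      ≤ Subgroup.centralizer ((P : Subgroup X) : Set X)) :
    Group.IsSolvable X := by
  have hcomp := MonoidHom.ker_transferSylow_isComplement' P hP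
  have hcard := hcomp.card_mul_card
  rw [hP7] at hcard
  exact no_normal_complement hα X _ hcard

theorem card_cases [Fact (Nat.Prime 7)] (hα : Fintype.card α = 7) (X : Subgroup (Perm α))
    [IsPretransitive X α] (hX : ¬ Group.IsSolvable X) (hA : ¬ alternatingGroup α ≤ X) :
    Nat.card X = 168 ∨ Nat.card X = 210 := by
  have hprime : (Fintype.card α).Prime := by rw [hα]; norm_num
  have h2 : IsMultiplyPretransitive X α 2 :=
    (Cfsg.Agent.S0675.result hprime X).resolve_left hX
  obtain ⟨a, -⟩ := exists_not_mem hα ∅ (by simp)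
  obtain ⟨b, hb⟩ := exists_not_mem hα {a} (by simp)
  have hab : a ≠ b := by
    intro h; apply hb; rw [h]; exact Finset.mem_singleton_self b
  have hcard := card_eq_of_two hα X h2 hab
  obtain ⟨s, t, hs1, hs5, ht1, ht4, ht3, hst⟩ := fix_two_card hα X hA hab
  obtain ⟨P⟩ : Nonempty (Sylow 7 X) := inferInstance
  obtain ⟨hP7, hm6, hN, hXN, hmod⟩ := sylow_data hα X P
  have hm1 : (Subgroup.centralizer ((P : Subgroup X) : Set X)).relIndex
      (Subgroup.normalizer ((P : Subgroup X) : Set X)) ≠ 1 := by
    intro h1
    apply hX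
    exact solvable_of_normalizer_le hα X P hP7 (Subgroup.relIndex_eq_one.mp h1)
  have heven : (Subgroup.centralizer ((P : Subgroup X) : Set X)).relIndex
      (Subgroup.normalizer ((P : Subgroup X) : Set X)) % 2 = 1 ∨ (s * t) % 5 = 0 := by
    rcases Nat.mod_two_eq_zero_or_one ((Subgroup.centralizer ((P : Subgroup X) : Set X)).relIndex
      (Subgroup.normalizer ((P : Subgroup X) : Set X))) with hm2 | hm2
    · right
      have hev : Even (Nat.card (Subgroup.normalizer ((P : Subgroup X) : Set X))) := by
        rw [hN]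
        exact ⟨7 * ((Subgroup.centralizer ((P : Subgroup X) : Set X)).relIndex
          (Subgroup.normalizer ((P : Subgroup X) : Set X)) / 2), by omega⟩
      have h3 := Cfsg.Agent.S0676.result hα X hX P hev
      have h210 := dvd_of_three hα X h3
      rw [hcard, hst] at h210
      omega
    · left; exact hm2
  have := arith s t _ (Nat.card (Sylow 7 X)) hs1 hs5 ht1 ht4 ht3 hm6 hmod
    (by rw [← hst, ← hcard, hXN, hN]) hm1 heven
  rcases this with ⟨h4, -⟩ | ⟨h5, -⟩
  · left; rw [hcard, hst, h4]
  · right; rw [hcard, hst, h5]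

theorem not_card_210 [Fact (Nat.Prime 7)] (hα : Fintype.card α = 7) (X : Subgroup (Perm α))
    [IsPretransitive X α] (hX : ¬ Group.IsSolvable X) (hA : ¬ alternatingGroup α ≤ X)
    (h210 : Nat.card X = 210) : False := by
  have hprime : (Fintype.card α).Prime := by rw [hα]; norm_num
  have h2 : IsMultiplyPretransitive X α 2 :=
    (Cfsg.Agent.S0675.result hprime X).resolve_left hX
  obtain ⟨τ, hτ⟩ := exists_prime_orderOf_dvd_card' (G := X) 2 (by rw [h210]; norm_num)
  have hτ' : orderOf (τ : Perm α) = 2 := by rw [Subgroup.orderOf_coe]; exact hτ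
  have hfix1 : ∀ a b : α, (τ : Perm α) a = a → (τ : Perm α) b = b → a = b := by
    intro a b ha hb
    by_contra hab
    have hc := card_eq_of_two hα X h2 hab
    rw [h210] at hc
    have hK5 : Nat.card (fixingSubgroup (↥X) ({a, b} : Set α)) = 5 := by omega
    have hmem : τ ∈ fixingSubgroup (↥X) ({a, b} : Set α) := by
      rw [mem_fixingSubgroup_iff]
      intro y hy
      rcases hy with h | h
      · rw [h]; exact ha
      · rw [h]; exact hb
    have hdvd : orderOf (⟨τ, hmem⟩ : fixingSubgroup (↥X) ({a, b} : Set α)) ∣ 5 := by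
      rw [← hK5]; exact orderOf_dvd_natCard _
    rw [Subgroup.orderOf_mk, hτ] at hdvd
    omega
  have hsupp : 6 ≤ (τ : Perm α).support.card := by
    have hle : ((τ : Perm α).support)ᶜ.card ≤ 1 := by
      rw [Finset.card_le_one]
      intro a ha b hb
      rw [Finset.mem_compl, Perm.mem_support, not_not] at ha hb
      exact hfix1 a b ha hb
    rw [Finset.card_compl, hα] at hle
    omega
  obtain ⟨n, hn⟩ := Perm.cycleType_prime_order (σ := (τ : Perm α)) (by rw [hτ']; norm_num)
  rw [hτ'] at hn
  have hsum := Perm.sum_cycleType (τ : Perm α)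
  rw [hn, Multiset.sum_replicate, smul_eq_mul] at hsum
  have hle7 := (τ : Perm α).support.card_le_univ
  rw [hα] at hle7
  have hn2 : n = 2 := by omega
  have hsign : Perm.sign (τ : Perm α) = -1 := by
    rw [Perm.sign_of_cycleType, hn, hn2, Multiset.sum_replicate, Multiset.card_replicate]
    decide
  haveI : Nontrivial α := Fintype.one_lt_card_iff_nontrivial.mp (by omega)
  have hrel2 : (alternatingGroup α).relIndex X = 2 := by
    have hd : (alternatingGroup α).relIndex X ∣ 2 := by
      have := Subgroup.relIndex_dvd_index_of_normal (H := alternatingGroup α) (K := X)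
      rwa [alternatingGroup.index_eq_two] at this
    have hne1 : (alternatingGroup α).relIndex X ≠ 1 := by
      intro h1
      have hle := Subgroup.relIndex_eq_one.mp h1
      have := hle τ.2
      rw [Perm.mem_alternatingGroup, hsign] at this
      exact absurd this (by decide)
    rcases (Nat.dvd_prime Nat.prime_two).mp hd with h | h
    · exact absurd h hne1
    · exact h
  have hG₀X : X ⊓ alternatingGroup α ≤ X := inf_le_left
  have hcard0 : Nat.card (X ⊓ alternatingGroup α : Subgroup (Perm α)) = 105 := by
    have h := card_eq_relIndex_mul (X ⊓ alternatingGroup α) X hG₀X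
    have : (X ⊓ alternatingGroup α).relIndex X = 2 := by
      rw [inf_comm, Subgroup.inf_relIndex_right]; exact hrel2
    rw [this, h210] at h
    omega
  obtain ⟨c, hc⟩ := exists_prime_orderOf_dvd_card' (G := X) 7 (seven_dvd_of_transitive hα X)
  have hc' : orderOf (c : Perm α) = 7 := by rw [Subgroup.orderOf_coe]; exact hc
  have hcA : (c : Perm α) ∈ alternatingGroup α := by
    rw [Perm.mem_alternatingGroup]
    have h7 : (Perm.sign (c : Perm α)) ^ 7 = 1 := by
      rw [← map_pow, ← hc', pow_orderOf_eq_one, map_one]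
    rcases Int.units_eq_one_or (Perm.sign (c : Perm α)) with h | h
    · exact h
    · rw [h] at h7; exact absurd h7 (by decide)
  have hcG₀ : (c : Perm α) ∈ X ⊓ alternatingGroup α := ⟨c.2, hcA⟩
  haveI : IsPretransitive (X ⊓ alternatingGroup α : Subgroup (Perm α)) α :=
    pretransitive_of_order_seven hα _ hcG₀ hc'
  have hG₀ns : ¬ Group.IsSolvable (X ⊓ alternatingGroup α : Subgroup (Perm α)) := by
    intro hsol
    apply hX
    haveI := hsol
    refine Group.isSolvable_of_ker_le_range (Subgroup.inclusion hG₀X)
      (Perm.sign.comp X.subtype) ?_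
    intro x hx
    rw [MonoidHom.mem_ker] at hx
    have hxA : (x : Perm α) ∈ alternatingGroup α := by
      rw [Perm.mem_alternatingGroup]; exact hx
    exact ⟨⟨(x : Perm α), ⟨x.2, hxA⟩⟩, Subtype.ext rfl⟩
  have hA₀ : ¬ alternatingGroup α ≤ X ⊓ alternatingGroup α := fun h => hA (h.trans hG₀X)
  rcases card_cases hα (X ⊓ alternatingGroup α) hG₀ns hA₀ with h | h <;> omega

theorem solvable_or_card [Fact (Nat.Prime 7)] (hα : Fintype.card α = 7) (X : Subgroup (Perm α))
    [IsPretransitive X α] (hA : ¬ alternatingGroup α ≤ X) :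
    Group.IsSolvable X ∨ Nat.card X = 168 := by
  by_cases hX : Group.IsSolvable X
  · exact Or.inl hX
  · right
    rcases card_cases hα X hX hA with h | h
    · exact h
    · exact (not_card_210 hα X hX hA h).elim

/-- A non-solvable transitive permutation group of degree 7 not containing the alternating group is simple of order 168 (it is PSL(3,2) in one of its two actions on 7 points). -/
theorem result {α : Type*} [Fintype α] [DecidableEq α] (hα : Fintype.card α = 7) (G : Subgroup (Equiv.Perm α)) [MulAction.IsPretransitive G α] (hG : ¬ Group.IsSolvable G) (hA : ¬ alternatingGroup α ≤ G) : Nat.card G = 168 ∧ IsSimpleGroup G := by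
  haveI := fact7
  have h168 : Nat.card G = 168 := (solvable_or_card hα G hA).resolve_left hG
  refine ⟨h168, ?_⟩
  haveI hnt : Nontrivial G := Finite.one_lt_card_iff_nontrivial.mp (by rw [h168]; norm_num)
  refine { toNontrivial := hnt, eq_bot_or_eq_top_of_normal := ?_ }
  intro K hKn
  by_cases hKbot : K = ⊥
  · exact Or.inl hKbot
  right
  haveI := hKn
  haveI hKt : IsPretransitive K α := normal_transitive hα G K hKbot
  haveI : IsPretransitive (K.map G.subtype : Subgroup (Perm α)) α := by
    constructor
    intro x y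
    obtain ⟨k, hk⟩ := exists_smul_eq K x y
    exact ⟨⟨((k : G) : Perm α), ⟨(k : G), k.2, rfl⟩⟩, hk⟩
  have hK'G : K.map G.subtype ≤ G := by
    rintro _ ⟨k, -, rfl⟩; exact k.2
  have hA' : ¬ alternatingGroup α ≤ K.map G.subtype := fun h => hA (h.trans hK'G)
  have hcardK' : Nat.card (K.map G.subtype : Subgroup (Perm α)) = Nat.card K :=
    Subgroup.card_map_of_injective G.subtype_injective
  rcases solvable_or_card hα (K.map G.subtype) hA' with hsol | h168'
  · exfalso
    apply hG
    -- K is solvable
    haveI := hsol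
    haveI hKsol : Group.IsSolvable K := by
      let ι := K.equivMapOfInjective G.subtype G.subtype_injective
      exact Group.isSolvable_of_isSolvable_injective (f := ι.toMonoidHom) ι.injective
    -- a Sylow 7-subgroup of G inside K
    have h7K : 7 ∣ Nat.card K := seven_dvd_of_transitive hα K
    obtain ⟨c, hc⟩ := exists_prime_orderOf_dvd_card' (G := K) 7 h7K
    have hcG : orderOf (c : G) = 7 := by rw [Subgroup.orderOf_coe]; exact hc
    obtain ⟨P₀⟩ : Nonempty (Sylow 7 G) := inferInstance
    obtain ⟨hP₀7, -, -, -, -⟩ := sylow_data hα G P₀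
    let Q : Sylow 7 G := Sylow.ofCard (Subgroup.zpowers (c : G)) (by
      rw [← P₀.card_eq_multiplicity, hP₀7, Nat.card_zpowers, hcG])
    have hQK : (Q : Subgroup G) ≤ K := by
      show Subgroup.zpowers (c : G) ≤ K
      rw [Subgroup.zpowers_le]; exact c.2
    have hfrat : Subgroup.normalizer ((Q : Subgroup G) : Set G) ⊔ K = ⊤ :=
      Sylow.normalizer_sup_eq_top' Q hQK
    obtain ⟨hQ7, hm6, hN, hXN, hmod⟩ := sylow_data hα G Q
    have hm3 : (Subgroup.centralizer ((Q : Subgroup G) : Set G)).relIndex
        (Subgroup.normalizer ((Q : Subgroup G) : Set G)) = 3 := by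
      rw [h168, hN] at hXN
      have hle : (Subgroup.centralizer ((Q : Subgroup G) : Set G)).relIndex
          (Subgroup.normalizer ((Q : Subgroup G) : Set G)) ≤ 6 := Nat.le_of_dvd (by norm_num) hm6
      generalize (Subgroup.centralizer ((Q : Subgroup G) : Set G)).relIndex
          (Subgroup.normalizer ((Q : Subgroup G) : Set G)) = m at hXN hle hm6
      interval_cases m <;> omega
    have hN21 : Nat.card (Subgroup.normalizer ((Q : Subgroup G) : Set G)) = 21 := by
      rw [hN, hm3]
    have hidx : K.index ∣ 3 := by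
      have e1 : K.index = K.relIndex (Subgroup.normalizer ((Q : Subgroup G) : Set G)) := by
        rw [← Subgroup.relIndex_top_right, ← hfrat, Subgroup.relIndex_sup_right]
      rw [e1, ← Subgroup.inf_relIndex_right]
      have hQle : (Q : Subgroup G) ≤ K ⊓ Subgroup.normalizer ((Q : Subgroup G) : Set G) :=
        le_inf hQK Subgroup.le_normalizer
      have hd := Subgroup.relIndex_dvd_of_le_left
        (Subgroup.normalizer ((Q : Subgroup G) : Set G)) hQle
      have hQN := card_eq_relIndex_mul (Q : Subgroup G) _
        (Subgroup.le_normalizer (H := (Q : Subgroup G)))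
      rw [hN21, hQ7] at hQN
      have h3 : (Q : Subgroup G).relIndex (Subgroup.normalizer ((Q : Subgroup G) : Set G)) = 3 := by
        omega
      rwa [h3] at hd
    haveI : Group.IsSolvable (G ⧸ K) := by
      rcases (Nat.dvd_prime Nat.prime_three).mp hidx with h1 | h3
      · have hsub : Subsingleton (G ⧸ K) := by
          rw [← Finite.card_le_one_iff_subsingleton]
          exact le_of_eq h1
        exact Group.isSolvable_of_comm (fun a b => Subsingleton.elim _ _)
      · haveI : Fact (Nat.Prime 3) := ⟨Nat.prime_three⟩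
        haveI : IsCyclic (G ⧸ K) := isCyclic_of_prime_card (p := 3) h3
        exact Group.isSolvable_of_comm
          (fun a b => (IsCyclic.isMulCommutative (α := G ⧸ K)).is_comm.comm a b)
    exact Group.isSolvable_of_ker_le_range K.subtype (QuotientGroup.mk' K)
      (by rw [QuotientGroup.ker_mk', Subgroup.range_subtype])
  · apply Subgroup.eq_top_of_card_eq
    rw [← hcardK', h168', h168]

end Cfsg.Agent.S0678
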