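import Mathlib
import Cfsg.Statements.S0991

set_option autoImplicit false
open Cfsg

namespace Cfsg.Agent.S0991

/-- Embedding Theorem: if a non-abelian finite simple group has a proper subgroup of index n, then it is isomorphic to a subgroup of the alternating group of degree n. -/
theorem result {G : Type*} [Group G] [Finite G] [IsSimpleGroup G] (hG : ¬ IsMulCommutative G) (H : Subgroup G) (hH : H ≠ ⊤) : ∃ f : G →* ↥(alternatingGroup (Fin H.index)), Function.Injective f := by
  classical
  haveI : Fintype (G ⧸ H) := Fintype.ofFinite _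
  have hcard : Fintype.card (G ⧸ H) = H.index := by
    rw [Subgroup.index_eq_card, Nat.card_eq_fintype_card]
  let e : (G ⧸ H) ≃ Fin H.index := Fintype.equivFinOfCardEq hcard
  let ψ : G →* Equiv.Perm (Fin H.index) :=
    (Equiv.permCongrHom e).toMonoidHom.comp (MulAction.toPermHom G (G ⧸ H))
  -- ψ is injective
  have hψinj : Function.Injective ψ := by
    rw [← MonoidHom.ker_eq_bot_iff]
    rcases (Subgroup.Normal.eq_bot_or_eq_top (H := ψ.ker) inferInstance) with h | h
    · exact h
    · exfalso
      apply hH
      rw [eq_top_iff]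
      intro g _
      have hg : g ∈ ψ.ker := by rw [h]; trivial
      rw [MonoidHom.mem_ker] at hg
      have h1 : (Equiv.permCongrHom e) (MulAction.toPermHom G (G ⧸ H) g) = 1 := hg
      have h2 : MulAction.toPermHom G (G ⧸ H) g = 1 := by
        have := (Equiv.permCongrHom e).injective (a₁ := MulAction.toPermHom G (G ⧸ H) g) (a₂ := 1)
        apply this
        rw [h1, map_one]
      have h3 : g • ((1 : G) : G ⧸ H) = ((1 : G) : G ⧸ H) := by
        have := congrArg (fun σ : Equiv.Perm (G ⧸ H) => σ ((1 : G) : G ⧸ H)) h2
        simpa using this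
      rw [MulAction.Quotient.smul_mk, QuotientGroup.eq] at h3
      simpa using h3
  -- sign ∘ ψ is trivial
  have hsign : ∀ g : G, Equiv.Perm.sign (ψ g) = 1 := by
    let s : G →* ℤˣ := (Equiv.Perm.sign).comp ψ
    rcases (Subgroup.Normal.eq_bot_or_eq_top (H := s.ker) inferInstance) with h | h
    · exfalso
      apply hG
      have hinj : Function.Injective s := (MonoidHom.ker_eq_bot_iff s).mp h
      refine ⟨⟨fun a b => ?_⟩⟩
      apply hinj
      rw [map_mul, map_mul, mul_comm]
    · intro g
      have : g ∈ s.ker := by rw [h]; trivial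
      exact this
  refine ⟨ψ.codRestrict (alternatingGroup (Fin H.index)) (fun g => Equiv.Perm.mem_alternatingGroup.mpr (hsign g)), ?_⟩
  intro a b hab
  apply hψinj
  have := congrArg Subtype.val hab
  simpa using this

end Cfsg.Agent.S0991
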