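import Cfsg.Statements.S3867
import Mathlib
import Cfsg.Agent.Lib.Helper17.SylowLemmas
import Cfsg.Agent.Lib.Helper18.ProductFormula
import Cfsg.Agent.Lib.Helper10.Basic
import Cfsg.Agent.Lib.Helper21.BaerSuzuki

set_option autoImplicit false
open Cfsg

namespace Cfsg.Agent.S3867

open Cfsg.Agent.Lib.Helper21

/-- product formula for `K` normal -/
theorem card_mul_card_eq {G : Type*} [Group G] [Finite G] (H K : Subgroup G) [K.Normal] :
    Nat.card H * Nat.card K = Nat.card ↥(H ⊔ K) * Nat.card ↥(H ⊓ K) := by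
  rw [Cfsg.Agent.Lib.Helper18.card_eq_card_inf_mul_relIndex H K,
    Cfsg.Agent.Lib.Helper18.card_sup_eq_card_mul_relIndex H K, Subgroup.relIndex_sup_right]
  ring

/-- elements of `P ⊔ M` have a `p`-power power in `M`. -/
theorem exists_pow_mem {G : Type*} [Group G] {p : ℕ} (P M : Subgroup G) [M.Normal] (hP : IsPGroup p P)
    (x : G) (hx : x ∈ P ⊔ M) : ∃ a : ℕ, x ^ p ^ a ∈ M := by
  obtain ⟨y, hy, m, hm, rfl⟩ := Subgroup.mem_sup_of_normal_right.mp hx
  obtain ⟨a, ha⟩ := hP ⟨y, hy⟩
  have ha' : y ^ p ^ a = 1 := congrArg Subtype.val ha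
  refine ⟨a, ?_⟩
  rw [← QuotientGroup.ker_mk' M, MonoidHom.mem_ker, map_pow, map_mul]
  have : QuotientGroup.mk' M m = 1 := by
    rw [← MonoidHom.mem_ker, QuotientGroup.ker_mk']; exact hm
  rw [this, mul_one, ← map_pow, ha', map_one]

/-- `(P ⊔ M) ⊓ (P ⊔ N) = P` for a Sylow subgroup `P` and normal `M`, `N` with `M ⊓ N = ⊥`. -/
theorem sup_inf_sup_eq {G : Type*} [Group G] {p : ℕ} (P : Sylow p G) (M N : Subgroup G) [M.Normal]
    [N.Normal] (hMN : M ⊓ N = ⊥) : ((P : Subgroup G) ⊔ M) ⊓ ((P : Subgroup G) ⊔ N) = (P : Subgroup G) := by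
  have hpg : IsPGroup p ↥(((P : Subgroup G) ⊔ M) ⊓ ((P : Subgroup G) ⊔ N) : Subgroup G) := by
    rintro ⟨x, hx⟩
    obtain ⟨a, ha⟩ := exists_pow_mem (P : Subgroup G) M P.2 x hx.1
    obtain ⟨b, hb⟩ := exists_pow_mem (P : Subgroup G) N P.2 x hx.2
    refine ⟨a + b, ?_⟩
    apply Subtype.ext
    simp only [SubgroupClass.coe_pow, Subgroup.coe_one]
    have h1 : x ^ p ^ (a + b) ∈ M := by
      rw [pow_add, pow_mul]; exact M.pow_mem ha _
    have h2 : x ^ p ^ (a + b) ∈ N := by
      rw [pow_add, mul_comm, pow_mul]; exact N.pow_mem hb _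
    have : x ^ p ^ (a + b) ∈ M ⊓ N := ⟨h1, h2⟩
    rw [hMN, Subgroup.mem_bot] at this
    exact this
  exact P.3 hpg (le_inf le_sup_left le_sup_left)

/-- Frattini: `N_G(P ⊔ K) = N_G(P) ⊔ K`. -/
theorem normalizer_sup_eq {G : Type*} [Group G] [Finite G] {p : ℕ} [Fact p.Prime] (P : Sylow p G)
    (K : Subgroup G) [K.Normal] :
    Subgroup.normalizer (((P : Subgroup G) ⊔ K : Subgroup G) : Set G) =
      Subgroup.normalizer ((P : Subgroup G) : Set G) ⊔ K := by
  apply le_antisymm
  · intro g hg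
    set L := (P : Subgroup G) ⊔ K with hL
    have hPL : (P : Subgroup G) ≤ L := le_sup_left
    have hidx : ¬ p ∣ ((P : Subgroup G).subgroupOf L).index := by
      intro hdvd
      exact P.not_dvd_index (hdvd.trans (Subgroup.relIndex_dvd_index_of_le hPL))
    let PL : Sylow p L := (P.2.comap_subtype (K := L)).toSylow hidx
    obtain ⟨n, hn, hm⟩ := Cfsg.Agent.Lib.Helper17.frattini_internal PL g hg
    have hmap : ((PL : Subgroup L).map L.subtype : Subgroup G) = (P : Subgroup G) := by
      change ((P : Subgroup G).subgroupOf L).map L.subtype = _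
      rw [Subgroup.subgroupOf_map_subtype]
      exact inf_eq_left.mpr hPL
    rw [hmap] at hm
    have hnL : n ∈ Subgroup.normalizer ((P : Subgroup G) : Set G) ⊔ K := by
      have : L ≤ Subgroup.normalizer ((P : Subgroup G) : Set G) ⊔ K :=
        sup_le_sup_right Subgroup.le_normalizer K
      exact this hn
    have : g = n * (n⁻¹ * g) := by group
    rw [this]
    exact Subgroup.mul_mem _ hnL (Subgroup.mem_sup_left hm)
  · apply sup_le
    · intro g hg
      rw [Subgroup.mem_normalizer_iff] at hg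
      apply mem_normalizer_of_conj_mem
      · intro e he
        obtain ⟨y, hy, k, hk, rfl⟩ := Subgroup.mem_sup_of_normal_right.mp he
        have : g * (y * k) * g⁻¹ = (g * y * g⁻¹) * (g * k * g⁻¹) := by group
        rw [this]
        exact Subgroup.mul_mem _ (Subgroup.mem_sup_left ((hg y).mp hy))
          (Subgroup.mem_sup_right (‹K.Normal›.conj_mem k hk g))
      · intro e he
        obtain ⟨y, hy, k, hk, rfl⟩ := Subgroup.mem_sup_of_normal_right.mp he
        have : g⁻¹ * (y * k) * g = (g⁻¹ * y * g) * (g⁻¹ * k * g) := by group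
        rw [this]
        refine Subgroup.mul_mem _ (Subgroup.mem_sup_left ?_) (Subgroup.mem_sup_right ?_)
        · rw [hg (g⁻¹ * y * g)]
          convert hy using 1; group
        · have := ‹K.Normal›.conj_mem k hk g⁻¹
          simpa using this
    · exact le_sup_right.trans Subgroup.le_normalizer

/-- the number of Sylow subgroups of `G ⧸ K`. -/
theorem card_sylow_quotient {G : Type*} [Group G] [Finite G] {p : ℕ} [Fact p.Prime] (P : Sylow p G)
    (K : Subgroup G) [K.Normal] :
    Nat.card (Sylow p (G ⧸ K)) * Nat.card ↥(Subgroup.normalizer ((P : Subgroup G) : Set G) ⊔ K) =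
      Nat.card G := by
  have hsurj : Function.Surjective (QuotientGroup.mk' K) := QuotientGroup.mk'_surjective K
  have e2 : Subgroup.normalizer ((P.mapSurjective hsurj : Sylow p (G ⧸ K)) : Set (G ⧸ K)) =
      Subgroup.normalizer (((P : Subgroup G).map (QuotientGroup.mk' K) : Subgroup (G ⧸ K)) : Set (G ⧸ K)) := rfl
  rw [Sylow.card_eq_index_normalizer (P.mapSurjective hsurj), e2,
    ← Subgroup.index_comap_of_surjective _ hsurj, Subgroup.comap_normalizer_eq_of_surjective _ hsurj,
    Subgroup.comap_map_eq, QuotientGroup.ker_mk', normalizer_sup_eq]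
  exact Subgroup.index_mul_card _

/-- Let M and N be nontrivial normal subgroups of the finite group G with M ⊓ N trivial, and let p be a prime. Writing n(X) for the number of Sylow p-subgroups of a group X, one has n(G) · n(G/MN) = n(G/M) · n(G/N). -/
theorem result {G : Type*} [Group G] [Finite G] (p : ℕ) [Fact p.Prime] (M N : Subgroup G) [M.Normal] [N.Normal] (hM : M ≠ ⊥) (hN : N ≠ ⊥) (hMN : M ⊓ N = ⊥) : Nat.card (Sylow p G) * Nat.card (Sylow p (G ⧸ (M ⊔ N))) = Nat.card (Sylow p (G ⧸ M)) * Nat.card (Sylow p (G ⧸ N)) := by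
  obtain ⟨P⟩ : Nonempty (Sylow p G) := inferInstance
  set A := Subgroup.normalizer ((P : Subgroup G) : Set G) with hA
  have h0 : Nat.card (Sylow p G) * Nat.card A = Nat.card G := by
    rw [Sylow.card_eq_index_normalizer P]; exact Subgroup.index_mul_card _
  have h1 := card_sylow_quotient P M
  have h2 := card_sylow_quotient P N
  have h3 := card_sylow_quotient P (M ⊔ N)
  rw [← hA] at h1 h2 h3
  -- M and N commute elementwise
  have hcomm : ∀ m ∈ M, ∀ n ∈ N, m * n = n * m := fun m hm n hn =>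
    Subgroup.commute_of_normal_of_disjoint M N inferInstance inferInstance (disjoint_iff.mpr hMN) m n hm hn
  -- (4) A ⊓ (M ⊔ N) = (A ⊓ M) ⊔ (A ⊓ N)
  have h4 : A ⊓ (M ⊔ N) = (A ⊓ M) ⊔ (A ⊓ N) := by
    apply le_antisymm
    · rintro x ⟨hxA, hxMN⟩
      obtain ⟨m, hm, n, hn, rfl⟩ := Subgroup.mem_sup_of_normal_right.mp hxMN
      -- m normalizes P ⊔ M and P ⊔ N
      have hm1 : m ∈ Subgroup.normalizer (((P : Subgroup G) ⊔ M : Subgroup G) : Set G) :=
        Subgroup.le_normalizer (Subgroup.mem_sup_right hm)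
      have hx2 : m * n ∈ Subgroup.normalizer (((P : Subgroup G) ⊔ N : Subgroup G) : Set G) := by
        rw [normalizer_sup_eq]; exact Subgroup.mem_sup_left hxA
      have hn2 : n ∈ Subgroup.normalizer (((P : Subgroup G) ⊔ N : Subgroup G) : Set G) :=
        Subgroup.le_normalizer (Subgroup.mem_sup_right hn)
      have hm2 : m ∈ Subgroup.normalizer (((P : Subgroup G) ⊔ N : Subgroup G) : Set G) := by
        have : m = (m * n) * n⁻¹ := by group
        rw [this]
        exact Subgroup.mul_mem _ hx2 (Subgroup.inv_mem _ hn2)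
      have hmA : m ∈ A := by
        rw [hA, ← sup_inf_sup_eq P M N hMN]
        rw [Subgroup.mem_normalizer_iff] at hm1 hm2 ⊢
        intro h
        rw [Subgroup.mem_inf, Subgroup.mem_inf, ← hm1 h, ← hm2 h]
      have hnA : n ∈ A := by
        have : n = m⁻¹ * (m * n) := by group
        rw [this]
        exact A.mul_mem (A.inv_mem hmA) hxA
      exact Subgroup.mul_mem _ (Subgroup.mem_sup_left ⟨hmA, hm⟩) (Subgroup.mem_sup_right ⟨hnA, hn⟩)
    · exact sup_le (inf_le_inf_left A le_sup_left) (inf_le_inf_left A le_sup_right)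
  -- cardinalities
  have c1 := card_mul_card_eq A M
  have c2 := card_mul_card_eq A N
  have c3 := card_mul_card_eq A (M ⊔ N)
  have c4 : Nat.card ↥(M ⊔ N) = Nat.card M * Nat.card N := by
    have := card_mul_card_eq M N
    rw [hMN, Subgroup.card_bot, mul_one] at this
    exact this.symm
  have c5 : Nat.card ↥(A ⊓ (M ⊔ N)) = Nat.card ↥(A ⊓ M) * Nat.card ↥(A ⊓ N) := by
    rw [h4]
    have hcomm' : ∀ a ∈ A ⊓ M, ∀ b ∈ A ⊓ N, a * b = b * a := fun a ha b hb => hcomm a ha.2 b hb.2
    have hdisj : (A ⊓ M) ⊓ (A ⊓ N) = ⊥ := by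
      rw [eq_bot_iff, ← hMN]
      exact inf_le_inf inf_le_right inf_le_right
    have hinj := Cfsg.Agent.Lib.Helper10.prodHom_injective (A ⊓ M) (A ⊓ N) hcomm' hdisj
    have hrange := Cfsg.Agent.Lib.Helper10.prodHom_range (A ⊓ M) (A ⊓ N) hcomm'
    rw [← hrange, ← Nat.card_prod]
    exact (Nat.card_congr (Equiv.ofInjective _ hinj)).symm
  -- arithmetic
  set a := Nat.card A
  set x := Nat.card ↥(A ⊔ M)
  set y := Nat.card ↥(A ⊔ N)
  set z := Nat.card ↥(A ⊔ (M ⊔ N))
  set u := Nat.card ↥(A ⊓ M)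
  set v := Nat.card ↥(A ⊓ N)
  set m := Nat.card M
  set n := Nat.card N
  set g := Nat.card G
  set n0 := Nat.card (Sylow p G)
  set n1 := Nat.card (Sylow p (G ⧸ M))
  set n2 := Nat.card (Sylow p (G ⧸ N))
  set n3 := Nat.card (Sylow p (G ⧸ (M ⊔ N)))
  rw [c5, c4] at c3
  have hu : 0 < u := Nat.card_pos
  have hv : 0 < v := Nat.card_pos
  have ha : 0 < a := Nat.card_pos
  have hz : 0 < z := Nat.card_pos
  have haz : a * z = x * y := by
    have e1 : (a * z) * (u * v) = (x * y) * (u * v) := by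
      calc (a * z) * (u * v) = a * (z * (u * v)) := by ring
        _ = a * (a * (m * n)) := by rw [← c3]
        _ = (a * m) * (a * n) := by ring
        _ = (x * u) * (y * v) := by rw [c1, c2]
        _ = (x * y) * (u * v) := by ring
    exact Nat.eq_of_mul_eq_mul_right (Nat.mul_pos hu hv) e1
  have e2 : (n0 * n3) * (a * z) = (n1 * n2) * (a * z) := by
    calc (n0 * n3) * (a * z) = (n0 * a) * (n3 * z) := by ring
      _ = g * g := by rw [h0, h3]
      _ = (n1 * x) * (n2 * y) := by rw [h1, h2]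
      _ = (n1 * n2) * (x * y) := by ring
      _ = (n1 * n2) * (a * z) := by rw [haz]
  exact Nat.eq_of_mul_eq_mul_right (Nat.mul_pos ha hz) e2

end Cfsg.Agent.S3867
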