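import Cfsg.Statements.S4304
import Mathlib
import Cfsg.Agent.Lib.Helper20.SylowCount

set_option autoImplicit false
open Cfsg

namespace Cfsg.Agent.S4304

open Subgroup MulAction Cfsg.Agent.Lib.Helper20.SylowCount

universe u

instance fact7 : Fact (Nat.Prime 7) := ⟨by norm_num⟩

variable {G : Type u} [Group G] [Finite G]

/-- In a minimal counterexample the conjugation action on the Sylow 7-subgroups is faithful. -/
theorem faithful (h15 : Nat.card (Sylow 7 G) = 15)
    (hmin : ∀ (H : Type u) [Group H] [Finite H], Nat.card H < Nat.card G →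
      Nat.card (Sylow 7 H) ≠ 15)
    (g : G) (hg : ∀ ω : Sylow 7 G, g • ω = ω) : g = 1 := by
  by_contra hne
  let K : Subgroup G := (MulAction.toPermHom G (Sylow 7 G)).ker
  have hgK : g ∈ K := by
    rw [MonoidHom.mem_ker]
    ext ω
    simp [hg ω]
  obtain ⟨P⟩ : Nonempty (Sylow 7 G) := inferInstance
  have hK : K ≤ normalizer ((P : Subgroup G) : Set G) := by
    intro k hk
    have h1 : k • P = P := by
      have := congrArg (fun σ : Equiv.Perm (Sylow 7 G) => σ P) (MonoidHom.mem_ker.mp hk)
      simpa using this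
    exact Sylow.smul_eq_iff_mem_normalizer.mp h1
  have hq := card_sylow_quotient_eq K P hK
  rw [h15] at hq
  refine hmin (G ⧸ K) ?_ hq
  have h1 : Nat.card G = Nat.card (G ⧸ K) * Nat.card K :=
    Subgroup.card_eq_card_quotient_mul_card_subgroup K
  have h2 : 1 < Nat.card K := by
    rw [Subgroup.one_lt_card_iff_ne_bot]
    intro hb
    rw [hb, Subgroup.mem_bot] at hgK
    exact hne hgK
  have h3 : 0 < Nat.card (G ⧸ K) := Nat.card_pos
  nlinarith

/-- In a minimal counterexample every element acts as an even permutation. -/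
theorem even_perm [Fintype (Sylow 7 G)] [DecidableEq (Sylow 7 G)]
    (h15 : Nat.card (Sylow 7 G) = 15)
    (hmin : ∀ (H : Type u) [Group H] [Finite H], Nat.card H < Nat.card G →
      Nat.card (Sylow 7 H) ≠ 15)
    (g : G) : Equiv.Perm.sign (MulAction.toPerm g : Equiv.Perm (Sylow 7 G)) = 1 := by
  let φ : G →* ℤˣ := Equiv.Perm.sign.comp (MulAction.toPermHom G (Sylow 7 G))
  have hidx : φ.ker.index ∣ 2 := by
    rw [Subgroup.index_ker]
    have : Nat.card φ.range ∣ Nat.card ℤˣ := Subgroup.card_subgroup_dvd_card _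
    have h2 : Nat.card ℤˣ = 2 := by rw [Nat.card_eq_fintype_card, Fintype.card_units_int]
    rwa [h2] at this
  have h7 : ¬ 7 ∣ φ.ker.index := fun h => by
    have := Nat.le_of_dvd (by norm_num) (h.trans hidx)
    omega
  have hK := card_sylow_of_normal φ.ker h7
  by_contra hne
  have hnt : φ.ker ≠ ⊤ := by
    intro h
    apply hne
    have : g ∈ φ.ker := h ▸ Subgroup.mem_top g
    exact MonoidHom.mem_ker.mp this
  have hidx2 : φ.ker.index = 2 := by
    have h1 : φ.ker.index ≠ 1 := fun h => hnt (Subgroup.index_eq_one.mp h)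
    have h2 : φ.ker.index ≤ 2 := Nat.le_of_dvd (by norm_num) hidx
    have h3 : φ.ker.index ≠ 0 := Subgroup.index_ne_zero_of_finite
    omega
  have hlt : Nat.card φ.ker < Nat.card G := by
    have := Subgroup.index_mul_card φ.ker
    rw [hidx2] at this
    have hpos : 0 < Nat.card φ.ker := Nat.card_pos
    omega
  exact hmin φ.ker hlt (hK.trans h15)

theorem card_dvd_factorial (h15 : Nat.card (Sylow 7 G) = 15)
    (hfaith : ∀ g : G, (∀ ω : Sylow 7 G, g • ω = ω) → g = 1) :
    Nat.card G ∣ Nat.factorial 15 := by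
  have hinj : Function.Injective (MulAction.toPermHom G (Sylow 7 G)) := by
    rw [injective_iff_map_eq_one]
    intro g hg
    apply hfaith
    intro ω
    have := congrArg (fun σ : Equiv.Perm (Sylow 7 G) => σ ω) hg
    simpa using this
  have := Subgroup.card_dvd_of_injective _ hinj
  rwa [Nat.card_perm, h15] at this

theorem sylow_card (h15 : Nat.card (Sylow 7 G) = 15)
    (hfaith : ∀ g : G, (∀ ω : Sylow 7 G, g • ω = ω) → g = 1) (P : Sylow 7 G) :
    Nat.card P = 7 ∨ Nat.card P = 49 := by
  obtain ⟨k, hk⟩ := P.2.exists_card_eq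
  have hdvd : 7 ^ k ∣ Nat.factorial 15 :=
    hk ▸ (Subgroup.card_subgroup_dvd_card _).trans (card_dvd_factorial h15 hfaith)
  have hk2 : k ≤ 2 := by
    by_contra h
    push Not at h
    have h3 : 7 ^ 3 ∣ Nat.factorial 15 := (pow_dvd_pow 7 h).trans hdvd
    revert h3
    decide
  have hk0 : k ≠ 0 := by
    rintro rfl
    rw [pow_zero] at hk
    have hbot : (P : Subgroup G) = ⊥ := Subgroup.eq_bot_of_card_eq _ hk
    have h1 := Sylow.card_eq_index_normalizer P
    rw [h15] at h1
    have hN : normalizer ((P : Subgroup G) : Set G) = ⊤ := by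
      rw [hbot]
      exact Subgroup.normalizer_eq_top_iff.mpr inferInstance
    have h2 : (normalizer ((P : Subgroup G) : Set G)).index = 15 := h1.symm
    rw [hN, Subgroup.index_top] at h2
    omega
  interval_cases k
  · exact absurd rfl hk0
  · left; rw [hk]; norm_num
  · right; rw [hk]; norm_num

/-- the case of Sylow 7-subgroups of order 49 -/
theorem caseB (h15 : Nat.card (Sylow 7 G) = 15)
    (hfaith : ∀ g : G, (∀ ω : Sylow 7 G, g • ω = ω) → g = 1)
    (hcard : ∀ ω : Sylow 7 G, Nat.card ω = 49) : False := by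
  have hcomm : ∀ ω : Sylow 7 G, ∀ a ∈ (ω : Subgroup G), ∀ b ∈ (ω : Subgroup G),
      a * b = b * a := by
    intro ω a ha b hb
    have h2 : Nat.card ↥(ω : Subgroup G) = 7 ^ 2 := by rw [hcard ω]; norm_num
    have := (IsPGroup.isMulCommutative_of_card_eq_prime_sq h2).is_comm.comm ⟨a, ha⟩ ⟨b, hb⟩
    exact congrArg Subtype.val this
  have hstab : ∀ β γ : Sylow 7 G, ∃ c ∈ (β : Subgroup G), c ≠ 1 ∧ c • γ = γ := by
    intro β γ
    by_contra hcon
    push Not at hcon
    have hbot : stabilizer ↥(β : Subgroup G) γ = ⊥ := by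
      rw [eq_bot_iff]
      intro c hc
      rw [Subgroup.mem_bot]
      by_contra hne
      have h1 : (c : G) ≠ 1 := fun h => hne (Subtype.ext h)
      exact hcon c c.2 h1 (MulAction.mem_stabilizer_iff.mp hc)
    have h1 := MulAction.index_stabilizer ↥(β : Subgroup G) γ
    rw [hbot, Subgroup.index_bot, hcard β] at h1
    have h2 : (orbit ↥(β : Subgroup G) γ).ncard ≤ Nat.card (Sylow 7 G) := Set.ncard_le_card _
    omega
  have hfix : ∀ (β : Sylow 7 G) (c : G), c ∈ (β : Subgroup G) → c ≠ 1 →
      Inv β (fixedBy (Sylow 7 G) c) ∧ β ∈ fixedBy (Sylow 7 G) c ∧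
      ((fixedBy (Sylow 7 G) c).ncard = 1 ∨ (fixedBy (Sylow 7 G) c).ncard = 8) := by
    intro β c hc hc1
    have hinv : Inv β (fixedBy (Sylow 7 G) c) :=
      inv_fixedBy c (fun u hu => hcomm β u hu c hc)
    have hmem : β ∈ fixedBy (Sylow 7 G) c := smul_self_eq β c hc
    refine ⟨hinv, hmem, ?_⟩
    have hmod := ncard_modEq_one β _ hinv hmem
    have hle : (fixedBy (Sylow 7 G) c).ncard ≤ 15 := h15 ▸ Set.ncard_le_card _
    have hne : (fixedBy (Sylow 7 G) c).ncard ≠ 15 := by
      intro h
      apply hc1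
      apply hfaith
      intro ω
      have hcompl : (fixedBy (Sylow 7 G) c)ᶜ.ncard = 0 := by
        rw [Set.ncard_compl, h15, h]
      have hempty : (fixedBy (Sylow 7 G) c)ᶜ = ∅ := by
        rwa [Set.ncard_eq_zero] at hcompl
      by_contra hω
      have : ω ∈ (fixedBy (Sylow 7 G) c)ᶜ := hω
      rw [hempty] at this
      exact this
    have h7 : (fixedBy (Sylow 7 G) c).ncard % 7 = 1 := hmod
    omega
  obtain ⟨α⟩ : Nonempty (Sylow 7 G) := inferInstance
  obtain ⟨ω, hω⟩ : ∃ ω : Sylow 7 G, ω ≠ α := by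
    by_contra hcon
    push Not at hcon
    have : Nat.card (Sylow 7 G) ≤ 1 := by
      haveI : Subsingleton (Sylow 7 G) := ⟨fun a b => (hcon a).trans (hcon b).symm⟩
      exact Finite.card_le_one_iff_subsingleton.mpr inferInstance
    omega
  obtain ⟨c, hcα, hc1, hcω⟩ := hstab α ω
  obtain ⟨hS0inv, hαS0, hS0card⟩ := hfix α c hcα hc1
  set S0 := fixedBy (Sylow 7 G) c with hS0
  have hωS0 : ω ∈ S0 := hcω
  have hS08 : S0.ncard = 8 := by
    rcases hS0card with h | h
    · exfalso
      have : 1 < S0.ncard := (Set.one_lt_ncard_iff).mpr ⟨ω, α, hωS0, hαS0, hω⟩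
      omega
    · exact h
  have hcS0 : ∀ β ∈ S0, c ∈ (β : Subgroup G) := fun β hβ => mem_of_smul_eq α β c hcα hβ
  have hS0invβ : ∀ β ∈ S0, Inv β S0 := fun β hβ =>
    inv_fixedBy c (fun u hu => hcomm β u hu c (hcS0 β hβ))
  obtain ⟨γ0, hγ0⟩ : ∃ γ0 : Sylow 7 G, γ0 ∉ S0 := by
    by_contra hcon
    push Not at hcon
    have : S0 = Set.univ := Set.eq_univ_of_forall hcon
    rw [this, Set.ncard_univ, h15] at hS08
    omega
  have key : ∀ β ∈ S0, ∃ cβ : G, cβ ∈ (β : Subgroup G) ∧ cβ • γ0 = γ0 ∧
      fixedBy (Sylow 7 G) cβ ∩ S0 = {β} ∧ S0ᶜ ⊆ fixedBy (Sylow 7 G) cβ := by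
    intro β hβ
    obtain ⟨cβ, hcβ, hcβ1, hcβγ⟩ := hstab β γ0
    obtain ⟨hTinv, hβT, hTcard⟩ := hfix β cβ hcβ hcβ1
    set T := fixedBy (Sylow 7 G) cβ with hT
    have hγT : γ0 ∈ T := hcβγ
    have hβγ : γ0 ≠ β := fun h => hγ0 (h ▸ hβ)
    have hT8 : T.ncard = 8 := by
      rcases hTcard with h | h
      · exfalso
        have : 1 < T.ncard := (Set.one_lt_ncard_iff).mpr ⟨γ0, β, hγT, hβT, hβγ⟩
        omega
      · exact h
    have hI : Inv β (T ∩ S0) := hTinv.inter (hS0invβ β hβ)
    have hImod := ncard_modEq_one β _ hI ⟨hβT, hβ⟩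
    have hIle : (T ∩ S0).ncard ≤ 8 := hS08 ▸ Set.ncard_le_ncard Set.inter_subset_right
    have hIne : (T ∩ S0).ncard ≠ 8 := by
      intro h
      have hsub : S0 ⊆ T := by
        have hEq : T ∩ S0 = S0 :=
          Set.eq_of_subset_of_ncard_le Set.inter_subset_right (by rw [h, hS08])
        intro x hx
        have hx' : x ∈ T ∩ S0 := by rw [hEq]; exact hx
        exact hx'.1
      have h9 : (insert γ0 S0).ncard ≤ T.ncard :=
        Set.ncard_le_ncard (Set.insert_subset hγT hsub)
      rw [Set.ncard_insert_of_notMem hγ0, hS08, hT8] at h9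
      omega
    have hI1 : (T ∩ S0).ncard = 1 := by
      have h7 : (T ∩ S0).ncard % 7 = 1 := hImod
      omega
    have hIeq : T ∩ S0 = {β} := by
      obtain ⟨a, ha⟩ := Set.ncard_eq_one.mp hI1
      have hmem : β ∈ T ∩ S0 := ⟨hβT, hβ⟩
      rw [ha] at hmem ⊢
      rw [Set.mem_singleton_iff.mp hmem]
    refine ⟨cβ, hcβ, hcβγ, hIeq, ?_⟩
    have hdiff : (T \ S0).ncard = 7 := by
      have := Set.ncard_inter_add_ncard_sdiff_eq_ncard T S0
      rw [hI1, hT8] at this
      omega
    have hcompl : S0ᶜ.ncard = 7 := by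
      rw [Set.ncard_compl, h15, hS08]
    have hEq : T \ S0 = S0ᶜ :=
      Set.eq_of_subset_of_ncard_le (fun x hx => hx.2) (by rw [hdiff, hcompl])
    intro x hx
    have hx' : x ∈ T \ S0 := by rw [hEq]; exact hx
    exact hx'.1
  obtain ⟨c1, hc1α, hc1γ, hT1, _⟩ := key α hαS0
  obtain ⟨c2, hc2ω, hc2γ, hT2, hT2c⟩ := key ω hωS0
  have hc1γ0 : c1 ∈ (γ0 : Subgroup G) := mem_of_smul_eq α γ0 c1 hc1α hc1γ
  have hc2γ0 : c2 ∈ (γ0 : Subgroup G) := mem_of_smul_eq ω γ0 c2 hc2ω hc2γ
  have hI1 : Inv γ0 (fixedBy (Sylow 7 G) c1) :=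
    inv_fixedBy c1 (fun u hu => hcomm γ0 u hu c1 hc1γ0)
  have hI2 : Inv γ0 (fixedBy (Sylow 7 G) c2) :=
    inv_fixedBy c2 (fun u hu => hcomm γ0 u hu c2 hc2γ0)
  have hD : fixedBy (Sylow 7 G) c1 \ fixedBy (Sylow 7 G) c2 = {α} := by
    ext t
    constructor
    · rintro ⟨ht1, ht2⟩
      by_cases htS : t ∈ S0
      · have : t ∈ fixedBy (Sylow 7 G) c1 ∩ S0 := ⟨ht1, htS⟩
        rw [hT1] at this
        exact this
      · exact absurd (hT2c htS) ht2
    · intro ht
      rw [Set.mem_singleton_iff] at ht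
      rw [ht]
      refine ⟨smul_self_eq α c1 hc1α, fun h => ?_⟩
      have : α ∈ fixedBy (Sylow 7 G) c2 ∩ S0 := ⟨h, hαS0⟩
      rw [hT2] at this
      exact hω (Set.mem_singleton_iff.mp this).symm
  have hγ0D : γ0 ∉ fixedBy (Sylow 7 G) c1 \ fixedBy (Sylow 7 G) c2 := fun h => h.2 hc2γ
  have hdvd := dvd_ncard_of_inv γ0 _ (hI1.diff hI2) hγ0D
  rw [hD, Set.ncard_singleton] at hdvd
  omega


/-- the case of Sylow 7-subgroups of order 7 -/
theorem caseA [Fintype (Sylow 7 G)] [DecidableEq (Sylow 7 G)]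
    (h15 : Nat.card (Sylow 7 G) = 15)
    (hfaith : ∀ g : G, (∀ ω : Sylow 7 G, g • ω = ω) → g = 1)
    (heven : ∀ g : G, Equiv.Perm.sign (MulAction.toPerm g : Equiv.Perm (Sylow 7 G)) = 1)
    (P : Sylow 7 G) (hP : Nat.card P = 7) : ∃ e, e ∣ 6 ∧ Nat.card G = 105 * e := by
  set C := centralizer ((P : Subgroup G) : Set G) with hC
  set Nm := normalizer ((P : Subgroup G) : Set G) with hNm
  have hcyc : IsCyclic P := isCyclic_of_prime_card hP
  have hPC : (P : Subgroup G) ≤ C := by
    haveI : IsCyclic (P : Subgroup G) := hcyc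
    exact Subgroup.le_centralizer (P : Subgroup G)
  have hCN : C ≤ Nm := Subgroup.centralizer_le_normalizer _
  -- (a)
  have ha : Nat.card G = 15 * Nat.card Nm := by
    have h1 := Sylow.card_eq_index_normalizer P
    rw [h15] at h1
    have h2 := Subgroup.index_mul_card Nm
    rw [← h2]
    congr 1
    exact h1.symm
  -- (b)
  have hb : C.relIndex Nm ∣ 6 := by
    have key := Subgroup.card_dvd_of_injective _
      (QuotientGroup.kerLift_injective (P : Subgroup G).normalizerMonoidHom)
    rw [Subgroup.normalizerMonoidHom_ker, ← Subgroup.index, ← Subgroup.relIndex] at key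
    rw [hcyc.card_mulAut, hP, Nat.totient_prime (by norm_num)] at key
    exact key
  -- (c)
  have hc : Nat.card Nm = Nat.card C * C.relIndex Nm := by
    have := Cfsg.Agent.Lib.Helper18.card_eq_card_inf_mul_relIndex Nm C
    rwa [inf_of_le_right hCN] at this
  -- (d)
  have hC7 : Nat.card C = 7 := by
    by_contra hne
    have h7 : 7 ∣ Nat.card C := hP ▸ Subgroup.card_dvd_of_le hPC
    obtain ⟨m, hm⟩ := h7
    have hm1 : m ≠ 1 := fun h => hne (by rw [hm, h])
    have hm0 : m ≠ 0 := by
      rintro rfl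
      have : 0 < Nat.card C := Nat.card_pos
      omega
    have hrp : (m.minFac).Prime := Nat.minFac_prime hm1
    have hrm : m.minFac ∣ m := Nat.minFac_dvd m
    have hr7 : m.minFac ≠ 7 := by
      intro h
      have h49 : 7 ^ 2 ∣ Nat.card G := by
        have h1 : 7 ^ 2 ∣ Nat.card C := by
          rw [hm, pow_two]
          exact Nat.mul_dvd_mul_left 7 (h ▸ hrm)
        exact h1.trans (Subgroup.card_subgroup_dvd_card C)
      have := P.pow_dvd_card_of_pow_dvd_card h49
      rw [hP] at this
      norm_num at this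
    haveI : Fact (m.minFac).Prime := ⟨hrp⟩
    have hrC : m.minFac ∣ Nat.card C := hm ▸ Dvd.dvd.mul_left hrm 7
    obtain ⟨g, hg⟩ := exists_prime_orderOf_dvd_card' (G := ↥C) m.minFac hrC
    have hg'o : orderOf (g : G) = m.minFac := by rw [Subgroup.orderOf_coe, hg]
    have hg'C : (g : G) ∈ C := g.2
    have hinv : Inv P (fixedBy (Sylow 7 G) (g : G)) :=
      inv_fixedBy (g : G) (fun u hu => (Subgroup.mem_centralizer_iff.mp hg'C) u hu)
    have hPfix : P ∈ fixedBy (Sylow 7 G) (g : G) :=
      Sylow.smul_eq_iff_mem_normalizer.mpr (hCN hg'C)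
    have hmod7 := ncard_modEq_one P _ hinv hPfix
    have hle : (fixedBy (Sylow 7 G) (g : G)).ncard ≤ 15 := h15 ▸ Set.ncard_le_card _
    have hz : IsPGroup m.minFac (zpowers (g : G)) :=
      IsPGroup.of_card (n := 1) (by rw [Nat.card_zpowers, hg'o, pow_one])
    have hmodr := hz.card_modEq_card_fixedPoints (Sylow 7 G)
    have hfp : (fixedPoints (zpowers (g : G)) (Sylow 7 G)) = fixedBy (Sylow 7 G) (g : G) := by
      ext t
      constructor
      · intro h
        exact h ⟨(g : G), mem_zpowers (g : G)⟩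
      · intro h x
        obtain ⟨j, hj⟩ := mem_zpowers_iff.mp x.2
        have := MulAction.mem_fixedBy_zpow h j
        rw [mem_fixedBy, hj] at this
        exact this
    rw [hfp, Nat.card_coe_set_eq, h15] at hmodr
    have hne15 : (fixedBy (Sylow 7 G) (g : G)).ncard ≠ 15 := by
      intro h
      have hg1 : (g : G) = 1 := by
        apply hfaith
        intro ω
        have hcompl : (fixedBy (Sylow 7 G) (g : G))ᶜ.ncard = 0 := by
          rw [Set.ncard_compl, h15, h]
        have hempty : (fixedBy (Sylow 7 G) (g : G))ᶜ = ∅ := by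
          rwa [Set.ncard_eq_zero] at hcompl
        by_contra hω
        have : ω ∈ (fixedBy (Sylow 7 G) (g : G))ᶜ := hω
        rw [hempty] at this
        exact this
      rw [hg1, orderOf_one] at hg'o
      exact hrp.one_lt.ne hg'o
    have h7' : (fixedBy (Sylow 7 G) (g : G)).ncard % 7 = 1 := hmod7
    have hcases : (fixedBy (Sylow 7 G) (g : G)).ncard = 1 ∨
        (fixedBy (Sylow 7 G) (g : G)).ncard = 8 := by omega
    rcases hcases with h1 | h8
    · -- one fixed point: the prime is 2 and the element is an odd permutation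
      rw [h1] at hmodr
      have hd : m.minFac ∣ 14 := (Nat.modEq_iff_dvd' (by norm_num)).mp hmodr.symm
      have hr2 : m.minFac = 2 := by
        have h14 : (14 : ℕ) = 2 * 7 := by norm_num
        rw [h14] at hd
        rcases (Nat.Prime.dvd_mul hrp).mp hd with h | h
        · exact (Nat.prime_dvd_prime_iff_eq hrp Nat.prime_two).mp h
        · exact absurd ((Nat.prime_dvd_prime_iff_eq hrp (by norm_num)).mp h) hr7
      let σ : Equiv.Perm (Sylow 7 G) := MulAction.toPerm (g : G)
      have hinj : Function.Injective (MulAction.toPermHom G (Sylow 7 G)) := by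
        rw [injective_iff_map_eq_one]
        intro x hx
        apply hfaith
        intro ω
        have := congrArg (fun τ : Equiv.Perm (Sylow 7 G) => τ ω) hx
        simpa using this
      have hσo : orderOf σ = 2 := by
        have := orderOf_injective (MulAction.toPermHom G (Sylow 7 G)) hinj (g : G)
        rw [hg'o, hr2] at this
        exact this
      have hσfix : Fintype.card (Function.fixedPoints σ) = 1 := by
        rw [← Nat.card_eq_fintype_card]
        have hset : Function.fixedPoints σ = fixedBy (Sylow 7 G) (g : G) := by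
          ext t
          rfl
        rw [hset, Nat.card_coe_set_eq, h1]
      have hsum : σ.cycleType.sum = 14 := by
        have h2 := Equiv.Perm.card_fixedPoints σ
        have hle2 := Equiv.Perm.sum_cycleType_le σ
        rw [hσfix, ← Nat.card_eq_fintype_card, h15] at h2
        rw [← Nat.card_eq_fintype_card, h15] at hle2
        omega
      obtain ⟨n, hn⟩ := Equiv.Perm.cycleType_prime_order (σ := σ) (by rw [hσo]; exact Nat.prime_two)
      rw [hσo] at hn
      have hsign := Equiv.Perm.sign_of_cycleType σ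
      rw [hn] at hsum hsign
      simp only [Multiset.sum_replicate, Multiset.card_replicate, smul_eq_mul] at hsum hsign
      have hn6 : n = 6 := by omega
      subst hn6
      have hev := heven (g : G)
      rw [hev] at hsign
      revert hsign
      decide
    · rw [h8] at hmodr
      have hd : m.minFac ∣ 7 := (Nat.modEq_iff_dvd' (by norm_num)).mp hmodr.symm
      exact hr7 ((Nat.prime_dvd_prime_iff_eq hrp (by norm_num)).mp hd)
  refine ⟨C.relIndex Nm, hb, ?_⟩
  rw [ha, hc, hC7]
  ring

/-- the final step: a normal subgroup of index 2 or 5 -/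
theorem final (h15 : Nat.card (Sylow 7 G) = 15)
    (hmin : ∀ (H : Type u) [Group H] [Finite H], Nat.card H < Nat.card G →
      Nat.card (Sylow 7 H) ≠ 15)
    (e : ℕ) (he : e ∣ 6) (hG : Nat.card G = 105 * e) : False := by
  have he6 : e ≤ 6 := Nat.le_of_dvd (by norm_num) he
  have he0 : 1 ≤ e := by
    rcases Nat.eq_zero_or_pos e with rfl | h
    · simp at he
    · exact h
  have key : ∀ (q : ℕ) [Fact q.Prime], q ∣ Nat.card G → ¬ q ^ 2 ∣ Nat.card G → q ≠ 7 →
      (Nat.card G).Coprime (q - 1) → False := by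
    intro q _ hq hq2 hq7 hcop
    obtain ⟨Q⟩ : Nonempty (Sylow q G) := inferInstance
    have hq1 : 1 < q := (Fact.out : q.Prime).one_lt
    have hQ : Nat.card Q = q := by
      obtain ⟨j, hj⟩ := Q.2.exists_card_eq
      have h1 : q ∣ Nat.card Q := Q.dvd_card_of_dvd_card hq
      have h2 : Nat.card Q ∣ Nat.card G := Subgroup.card_subgroup_dvd_card _
      rw [hj] at h1 h2 ⊢
      have hj0 : j ≠ 0 := by
        rintro rfl
        rw [pow_zero, Nat.dvd_one] at h1
        omega
      have hj2 : j < 2 := by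
        by_contra h
        push Not at h
        exact hq2 ((pow_dvd_pow q h).trans h2)
      have : j = 1 := by omega
      rw [this, pow_one]
    obtain ⟨K, hKn, hKc⟩ := exists_normal_card_mul q Q hQ hcop
    haveI := hKn
    have hpos : 0 < Nat.card K := Nat.card_pos
    have hidx : K.index = q := by
      have h1 := Subgroup.index_mul_card K
      rw [← hKc, mul_comm (Nat.card K) q] at h1
      exact Nat.eq_of_mul_eq_mul_right hpos h1
    have h7 : ¬ 7 ∣ K.index := by
      rw [hidx]
      intro h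
      exact hq7 ((Nat.prime_dvd_prime_iff_eq (by norm_num) Fact.out).mp h).symm
    have hK := card_sylow_of_normal K h7
    refine hmin K ?_ (hK.trans h15)
    nlinarith
  interval_cases e
  · haveI : Fact (Nat.Prime 5) := ⟨by norm_num⟩
    exact key 5 (by rw [hG]; norm_num) (by rw [hG]; norm_num) (by norm_num)
      (by rw [hG]; norm_num)
  · haveI : Fact (Nat.Prime 2) := ⟨by norm_num⟩
    exact key 2 (by rw [hG]; norm_num) (by rw [hG]; norm_num) (by norm_num)
      (by rw [hG]; norm_num)
  · haveI : Fact (Nat.Prime 5) := ⟨by norm_num⟩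
    exact key 5 (by rw [hG]; norm_num) (by rw [hG]; norm_num) (by norm_num)
      (by rw [hG]; norm_num)
  · norm_num at he
  · norm_num at he
  · haveI : Fact (Nat.Prime 2) := ⟨by norm_num⟩
    exact key 2 (by rw [hG]; norm_num) (by rw [hG]; norm_num) (by norm_num)
      (by rw [hG]; norm_num)

theorem main : ∀ n : ℕ, ∀ (G : Type u) [Group G] [Finite G], Nat.card G = n →
    Nat.card (Sylow 7 G) ≠ 15 := by
  intro n
  induction n using Nat.strong_induction_on with
  | _ n IH =>
  intro G _ _ hn h15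
  classical
  haveI : Fintype (Sylow 7 G) := Fintype.ofFinite _
  have hmin : ∀ (H : Type u) [Group H] [Finite H], Nat.card H < Nat.card G →
      Nat.card (Sylow 7 H) ≠ 15 :=
    fun H _ _ hlt => IH (Nat.card H) (hn ▸ hlt) H rfl
  have hfaith := faithful h15 hmin
  have heven := even_perm h15 hmin
  obtain ⟨P⟩ : Nonempty (Sylow 7 G) := inferInstance
  rcases sylow_card h15 hfaith P with h7 | h49
  · obtain ⟨e, he6, heG⟩ := caseA h15 hfaith heven P h7
    exact final h15 hmin e he6 heG
  · refine caseB h15 hfaith (fun ω => ?_)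
    rw [Sylow.card_eq_multiplicity ω, ← Sylow.card_eq_multiplicity P, h49]

/-- No finite group has exactly 15 Sylow 7-subgroups. -/
theorem result {G : Type*} [Group G] [Finite G] : Nat.card (Sylow 7 G) ≠ 15 :=
  main _ G rfl

end Cfsg.Agent.S4304
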