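import Cfsg.Statements.S1010
import Mathlib
import Cfsg.Agent.Lib.Helper20.SylowCount
import Cfsg.Agent.Lib.Helper17.SignKernel
import Cfsg.Agent.S4304
import Cfsg.Agent.S4236

set_option autoImplicit false
open Cfsg

namespace Cfsg.Agent.S1010

open Subgroup MulAction Cfsg.Agent.Lib.Helper20.SylowCount

universe u

instance fact5 : Fact (Nat.Prime 5) := ⟨by norm_num⟩

section Perm

variable {α : Type*} [Fintype α] [DecidableEq α]

/-- an even involution on 21 points has `1 mod 4` fixed points -/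
theorem perm_invol (hα : Fintype.card α = 21)
    (σ : Equiv.Perm α) (hσ : orderOf σ = 2) (hs : Equiv.Perm.sign σ = 1) :
    Fintype.card (Function.fixedPoints σ) % 4 = 1 := by
  obtain ⟨n, hn⟩ := Equiv.Perm.cycleType_prime_order (σ := σ) (by rw [hσ]; exact Nat.prime_two)
  rw [hσ] at hn
  have h2 := Equiv.Perm.card_fixedPoints σ
  have hle2 := Equiv.Perm.sum_cycleType_le σ
  have hsign := Equiv.Perm.sign_of_cycleType σ
  rw [hn] at h2 hle2 hsign
  simp only [Multiset.sum_replicate, Multiset.card_replicate, smul_eq_mul] at h2 hle2 hsign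
  rw [hα] at h2 hle2
  rw [hs] at hsign
  have hev : Even ((n + 1) * 2 + (n + 1)) := by
    rw [← neg_one_pow_eq_one_iff_even (R := ℤˣ) (by decide)]
    exact hsign.symm
  have hev' : Even (n + 1) := by
    rcases hev with ⟨t, ht⟩
    exact ⟨t - (n + 1), by omega⟩
  rcases hev' with ⟨t, ht⟩
  omega

/-- an even permutation of order 4 on 21 points: its square does not have exactly one fixed
point -/
theorem perm_order_four (hα : Fintype.card α = 21)
    (σ : Equiv.Perm α) (hσ : orderOf σ = 4) (hs : Equiv.Perm.sign σ = 1) :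
    Fintype.card (Function.fixedPoints (⇑(σ ^ 2 : Equiv.Perm α))) ≠ 1 := by
  intro h1
  have hsub : ∀ a b : α, (σ ^ 2 : Equiv.Perm α) a = a → (σ ^ 2 : Equiv.Perm α) b = b → a = b := by
    intro a b ha hb
    have hss : Subsingleton (Function.fixedPoints (⇑(σ ^ 2 : Equiv.Perm α))) :=
      Fintype.card_le_one_iff_subsingleton.mp h1.le
    have := hss.elim ⟨a, ha⟩ ⟨b, hb⟩
    exact congrArg Subtype.val this
  have hcyc : ∀ n ∈ σ.cycleType, n = 4 := by
    intro n hn
    have h1' : n ∣ 4 := hσ ▸ Equiv.Perm.dvd_of_mem_cycleType hn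
    have h2' : 2 ≤ n := Equiv.Perm.two_le_of_mem_cycleType hn
    have h3' : n ≤ 4 := Nat.le_of_dvd (by norm_num) h1'
    interval_cases n
    · exfalso
      obtain ⟨τ₁, τ₂, hστ, hdisj, hcycle, hcard⟩ := Equiv.Perm.mem_cycleType_iff.mp hn
      obtain ⟨q, hq⟩ := hcycle.nonempty_support
      have hq' : τ₁ q ≠ q := Equiv.Perm.mem_support.mp hq
      have hτ₁2 : τ₁ ^ 2 = 1 := by
        rw [← hcard, ← hcycle.orderOf]; exact pow_orderOf_eq_one τ₁
      have hσ2 : σ ^ 2 = τ₂ ^ 2 := by
        rw [hστ, hdisj.commute.mul_pow, hτ₁2, one_mul]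
      have hτ₂q : τ₂ q = q := (hdisj q).resolve_left hq'
      have hq2 : τ₁ (τ₁ q) = q := by
        have := congrArg (fun τ : Equiv.Perm α => τ q) hτ₁2
        simpa [pow_two] using this
      have hq'' : τ₁ (τ₁ q) ≠ τ₁ q := by rw [hq2]; exact fun h => hq' h.symm
      have hτ₂q' : τ₂ (τ₁ q) = τ₁ q := (hdisj (τ₁ q)).resolve_left hq''
      have e1 : (σ ^ 2 : Equiv.Perm α) q = q := by
        rw [hσ2]; exact Equiv.Perm.pow_apply_eq_self_of_apply_eq_self hτ₂q 2
      have e2 : (σ ^ 2 : Equiv.Perm α) (τ₁ q) = τ₁ q := by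
        rw [hσ2]; exact Equiv.Perm.pow_apply_eq_self_of_apply_eq_self hτ₂q' 2
      exact hq' (hsub _ _ e2 e1)
    · exfalso; norm_num at h1'
    · rfl
  obtain ⟨N, hN⟩ : ∃ N, Multiset.card σ.cycleType = N := ⟨_, rfl⟩
  have hrep : σ.cycleType = Multiset.replicate N 4 := Multiset.eq_replicate.mpr ⟨hN, hcyc⟩
  have h2 := Equiv.Perm.card_fixedPoints σ
  have hle2 := Equiv.Perm.sum_cycleType_le σ
  have hsign := Equiv.Perm.sign_of_cycleType σ
  rw [hrep] at h2 hle2 hsign
  simp only [Multiset.sum_replicate, Multiset.card_replicate, smul_eq_mul] at h2 hle2 hsign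
  rw [hα] at h2 hle2
  rw [hs] at hsign
  have hfle : Fintype.card (Function.fixedPoints σ) ≤
      Fintype.card (Function.fixedPoints (⇑(σ ^ 2 : Equiv.Perm α))) := by
    apply Set.card_le_card
    intro x hx
    exact Equiv.Perm.pow_apply_eq_self_of_apply_eq_self hx 2
  have hN5 : N = 5 := by omega
  subst hN5
  revert hsign
  decide

end Perm

variable {G : Type u} [Group G] [Finite G]

/-- In a minimal counterexample the conjugation action on the Sylow 5-subgroups is faithful. -/
theorem faithful (h21 : Nat.card (Sylow 5 G) = 21)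
    (hmin : ∀ (H : Type u) [Group H] [Finite H], Nat.card H < Nat.card G →
      Nat.card (Sylow 5 H) ≠ 21)
    (g : G) (hg : ∀ ω : Sylow 5 G, g • ω = ω) : g = 1 := by
  by_contra hne
  let K : Subgroup G := (MulAction.toPermHom G (Sylow 5 G)).ker
  have hgK : g ∈ K := by
    rw [MonoidHom.mem_ker]
    ext ω
    simp [hg ω]
  obtain ⟨P⟩ : Nonempty (Sylow 5 G) := inferInstance
  have hK : K ≤ normalizer ((P : Subgroup G) : Set G) := by
    intro k hk
    have h1 : k • P = P := by
      have := congrArg (fun σ : Equiv.Perm (Sylow 5 G) => σ P) (MonoidHom.mem_ker.mp hk)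
      simpa using this
    exact Sylow.smul_eq_iff_mem_normalizer.mp h1
  have hq := card_sylow_quotient_eq K P hK
  rw [h21] at hq
  refine hmin (G ⧸ K) ?_ hq
  have h1 : Nat.card G = Nat.card (G ⧸ K) * Nat.card K :=
    Subgroup.card_eq_card_quotient_mul_card_subgroup K
  have h2 : 1 < Nat.card K := by
    rw [Subgroup.one_lt_card_iff_ne_bot]
    intro hb
    rw [hb, Subgroup.mem_bot] at hgK
    exact hne hgK
  have h3 : 0 < Nat.card (G ⧸ K) := Nat.card_pos
  nlinarith

/-- a minimal counterexample has no normal subgroup of index 2 -/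
theorem no_normal (h21 : Nat.card (Sylow 5 G) = 21)
    (hmin : ∀ (H : Type u) [Group H] [Finite H], Nat.card H < Nat.card G →
      Nat.card (Sylow 5 H) ≠ 21)
    (K : Subgroup G) [K.Normal] (hidx : K.index = 2) : False := by
  have h5 : ¬ 5 ∣ K.index := by rw [hidx]; norm_num
  have hK := card_sylow_of_normal K h5
  have hlt : Nat.card K < Nat.card G := by
    have := Subgroup.index_mul_card K
    rw [hidx] at this
    have hpos : 0 < Nat.card K := Nat.card_pos
    omega
  exact hmin K hlt (hK.trans h21)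

/-- In a minimal counterexample every element acts as an even permutation. -/
theorem even_perm [Fintype (Sylow 5 G)] [DecidableEq (Sylow 5 G)]
    (h21 : Nat.card (Sylow 5 G) = 21)
    (hmin : ∀ (H : Type u) [Group H] [Finite H], Nat.card H < Nat.card G →
      Nat.card (Sylow 5 H) ≠ 21)
    (g : G) : Equiv.Perm.sign (MulAction.toPerm g : Equiv.Perm (Sylow 5 G)) = 1 := by
  let φ : G →* ℤˣ := Equiv.Perm.sign.comp (MulAction.toPermHom G (Sylow 5 G))
  have hidx : φ.ker.index ∣ 2 := by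
    rw [Subgroup.index_ker]
    have : Nat.card φ.range ∣ Nat.card ℤˣ := Subgroup.card_subgroup_dvd_card _
    have h2 : Nat.card ℤˣ = 2 := by rw [Nat.card_eq_fintype_card, Fintype.card_units_int]
    rwa [h2] at this
  by_contra hne
  have hnt : φ.ker ≠ ⊤ := by
    intro h
    apply hne
    have : g ∈ φ.ker := h ▸ Subgroup.mem_top g
    exact MonoidHom.mem_ker.mp this
  have hidx2 : φ.ker.index = 2 := by
    have h1 : φ.ker.index ≠ 1 := fun h => hnt (Subgroup.index_eq_one.mp h)
    have h2 : φ.ker.index ≤ 2 := Nat.le_of_dvd (by norm_num) hidx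
    have h3 : φ.ker.index ≠ 0 := Subgroup.index_ne_zero_of_finite
    omega
  exact no_normal h21 hmin φ.ker hidx2

theorem toPerm_inj (hfaith : ∀ g : G, (∀ ω : Sylow 5 G, g • ω = ω) → g = 1) :
    Function.Injective (MulAction.toPermHom G (Sylow 5 G)) := by
  rw [injective_iff_map_eq_one]
  intro x hx
  apply hfaith
  intro ω
  have := congrArg (fun τ : Equiv.Perm (Sylow 5 G) => τ ω) hx
  simpa using this

theorem sylow_card_ne_one (h21 : Nat.card (Sylow 5 G) = 21) (P : Sylow 5 G) (k : ℕ)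
    (hk : Nat.card P = 5 ^ k) : k ≠ 0 := by
  rintro rfl
  rw [pow_zero] at hk
  have hbot : (P : Subgroup G) = ⊥ := Subgroup.eq_bot_of_card_eq _ hk
  have h1 := Sylow.card_eq_index_normalizer P
  rw [h21] at h1
  have hN : normalizer ((P : Subgroup G) : Set G) = ⊤ := by
    rw [hbot]
    exact Subgroup.normalizer_eq_top_iff.mpr inferInstance
  have h2 : (normalizer ((P : Subgroup G) : Set G)).index = 21 := h1.symm
  rw [hN, Subgroup.index_top] at h2
  omega

omit [Finite G] in
theorem mem_smul_iff (g : G) (P : Sylow 5 G) (x : G) :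
    x ∈ ((g • P : Sylow 5 G) : Subgroup G) ↔ g⁻¹ * x * g ∈ (P : Subgroup G) := by
  rw [Sylow.smul_def, Sylow.pointwise_smul_def, Subgroup.mem_pointwise_smul_iff_inv_smul_mem]
  simp [MulAut.smul_def]

/-! ### Sylow 5-subgroups of order at least 25 -/

/-- distinct Sylow 5-subgroups among 21 intersect in a subgroup of index 5 -/
theorem relIndex_eq_five (h21 : Nat.card (Sylow 5 G) = 21) (Q R : Sylow 5 G) (hne : R ≠ Q) :
    (R : Subgroup G).relIndex (Q : Subgroup G) = 5 := by
  have hstab : stabilizer ↥(Q : Subgroup G) R =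
      (R : Subgroup G).subgroupOf (Q : Subgroup G) := by
    ext u
    rw [MulAction.mem_stabilizer_iff, Subgroup.mem_subgroupOf]
    constructor
    · intro h
      exact mem_of_smul_eq Q R (u : G) u.2 h
    · intro h
      exact smul_self_eq R (u : G) h
  have h1 := MulAction.index_stabilizer ↥(Q : Subgroup G) R
  rw [hstab] at h1
  have h2 : (orbit ↥(Q : Subgroup G) R).ncard ≤ 21 := h21 ▸ Set.ncard_le_card _
  have h3 : (R : Subgroup G).relIndex (Q : Subgroup G) ∣ Nat.card (Q : Subgroup G) :=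
    Subgroup.relIndex_dvd_card _ _
  obtain ⟨k, hk⟩ := Q.2.exists_card_eq
  rw [hk] at h3
  obtain ⟨j, _, hj⟩ := (Nat.dvd_prime_pow (by norm_num : Nat.Prime 5)).mp h3
  have h4 : (R : Subgroup G).relIndex (Q : Subgroup G) ≤ 21 := by
    change ((R : Subgroup G).subgroupOf (Q : Subgroup G)).index ≤ 21
    rw [h1]; exact h2
  have hj1 : j ≤ 1 := by
    by_contra hcon
    push Not at hcon
    have : 5 ^ 2 ≤ 5 ^ j := Nat.pow_le_pow_right (by norm_num) hcon
    rw [hj] at h4
    omega
  interval_cases j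
  · exfalso
    rw [pow_zero] at hj
    have hle : (Q : Subgroup G) ≤ R := Subgroup.relIndex_eq_one.mp hj
    exact hne (Sylow.ext (Q.3 R.2 hle))
  · rw [hj]; norm_num

/-- the intersection of two distinct Sylow 5-subgroups is normalized by both -/
theorem inf_normalized (h21 : Nat.card (Sylow 5 G) = 21) (Q R : Sylow 5 G) (hne : R ≠ Q)
    (u x : G) (hu : u ∈ (Q : Subgroup G)) (hxQ : x ∈ (Q : Subgroup G))
    (hxR : x ∈ (R : Subgroup G)) : u * x * u⁻¹ ∈ (R : Subgroup G) := by
  have hidx := relIndex_eq_five h21 Q R hne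
  obtain ⟨k, hk⟩ := Q.2.exists_card_eq
  have hk0 : k ≠ 0 := by
    rintro rfl
    have := Subgroup.relIndex_dvd_card (R : Subgroup G) (Q : Subgroup G)
    rw [hk, hidx] at this
    norm_num at this
  have hnormal : ((R : Subgroup G).subgroupOf (Q : Subgroup G)).Normal := by
    apply Subgroup.normal_of_index_eq_minFac_card
    change (R : Subgroup G).relIndex (Q : Subgroup G) = _
    rw [hidx, hk, Nat.pow_minFac hk0]
    norm_num
  have := hnormal.conj_mem ⟨x, hxQ⟩ (Subgroup.mem_subgroupOf.mpr hxR) ⟨u, hu⟩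
  rw [Subgroup.mem_subgroupOf] at this
  simpa using this

/-- the case of Sylow 5-subgroups of order at least 25 -/
theorem caseB (h21 : Nat.card (Sylow 5 G) = 21)
    (hfaith : ∀ g : G, (∀ ω : Sylow 5 G, g • ω = ω) → g = 1)
    (k : ℕ) (hk : 2 ≤ k) (hcard : ∀ ω : Sylow 5 G, Nat.card ω = 5 ^ k) : False := by
  classical
  haveI : Fintype (Sylow 5 G) := Fintype.ofFinite _
  have hinf : ∀ Q R : Sylow 5 G, R ≠ Q →
      Nat.card ↥((Q : Subgroup G) ⊓ R) * 5 = 5 ^ k := by
    intro Q R hne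
    have := Cfsg.Agent.Lib.Helper18.card_eq_card_inf_mul_relIndex (Q : Subgroup G)
      (R : Subgroup G)
    rw [relIndex_eq_five h21 Q R hne] at this
    rw [← this]; exact hcard Q
  have hFixInv : ∀ (Γ Λ : Sylow 5 G), Λ ≠ Γ →
      Inv Γ {Λ' : Sylow 5 G | (Γ : Subgroup G) ⊓ Λ ≤ Λ'} := by
    intro Γ Λ hne u hu Λ' hΛ'
    show (Γ : Subgroup G) ⊓ Λ ≤ ((u • Λ' : Sylow 5 G) : Subgroup G)
    intro x hx
    rw [mem_smul_iff]
    apply hΛ'
    have hx1 : x ∈ (Γ : Subgroup G) := (Subgroup.mem_inf.mp hx).1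
    have hx2 : x ∈ (Λ : Subgroup G) := (Subgroup.mem_inf.mp hx).2
    refine Subgroup.mem_inf.mpr ⟨?_, ?_⟩
    · exact mul_mem (mul_mem (inv_mem hu) hx1) hu
    · have := inf_normalized h21 Γ Λ hne u⁻¹ x (inv_mem hu) hx1 hx2
      simpa using this
  -- the size of such a fixed set
  have hFixCard : ∀ (Γ Λ : Sylow 5 G), Λ ≠ Γ →
      6 ≤ {Λ' : Sylow 5 G | (Γ : Subgroup G) ⊓ Λ ≤ Λ'}.ncard := by
    intro Γ Λ hne
    have hΓmem : Γ ∈ {Λ' : Sylow 5 G | (Γ : Subgroup G) ⊓ Λ ≤ Λ'} := by
      show (Γ : Subgroup G) ⊓ Λ ≤ Γ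
      exact inf_le_left
    have hΛmem : Λ ∈ {Λ' : Sylow 5 G | (Γ : Subgroup G) ⊓ Λ ≤ Λ'} := by
      show (Γ : Subgroup G) ⊓ Λ ≤ Λ
      exact inf_le_right
    have hmod := ncard_modEq_one Γ _ (hFixInv Γ Λ hne) hΓmem
    have h2 : 1 < {Λ' : Sylow 5 G | (Γ : Subgroup G) ⊓ Λ ≤ Λ'}.ncard :=
      (Set.one_lt_ncard_iff).mpr ⟨Λ, Γ, hΛmem, hΓmem, hne⟩
    have h5 : {Λ' : Sylow 5 G | (Γ : Subgroup G) ⊓ Λ ≤ Λ'}.ncard % 5 = 1 := hmod
    omega
  -- two subgroups with the same intersection
  have hinfeq : ∀ (Γ Λ Λ' : Sylow 5 G), Λ ≠ Γ → Λ' ≠ Γ → (Γ : Subgroup G) ⊓ Λ ≤ Λ' →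
      (Γ : Subgroup G) ⊓ Λ' = (Γ : Subgroup G) ⊓ Λ := by
    intro Γ Λ Λ' hne hne' hle
    symm
    apply Subgroup.eq_of_le_of_card_ge (le_inf inf_le_left hle)
    have h1 := hinf Γ Λ hne
    have h2 := hinf Γ Λ' hne'
    omega
  obtain ⟨Q⟩ : Nonempty (Sylow 5 G) := inferInstance
  obtain ⟨R, hRQ⟩ : ∃ R : Sylow 5 G, R ≠ Q := by
    by_contra hcon
    push Not at hcon
    have : Nat.card (Sylow 5 G) ≤ 1 := by
      haveI : Subsingleton (Sylow 5 G) := ⟨fun a b => (hcon a).trans (hcon b).symm⟩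
      exact Finite.card_le_one_iff_subsingleton.mpr inferInstance
    omega
  set D : Subgroup G := (Q : Subgroup G) ⊓ R with hD
  have hDcard : Nat.card D * 5 = 5 ^ k := hinf Q R hRQ
  have hDne : D ≠ ⊥ := by
    intro hbot
    rw [hbot, Subgroup.card_bot] at hDcard
    have : 5 ^ 2 ≤ 5 ^ k := Nat.pow_le_pow_right (by norm_num) hk
    omega
  obtain ⟨d, hd1⟩ := (Subgroup.ne_bot_iff_exists_ne_one).mp hDne
  have hdG : (d : G) ≠ 1 := fun h => hd1 (Subtype.ext h)
  obtain ⟨Γ, hΓ⟩ : ∃ Γ : Sylow 5 G, (d : G) • Γ ≠ Γ := by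
    by_contra hcon
    push Not at hcon
    exact hdG (hfaith _ hcon)
  have hDΓ : ¬ D ≤ Γ := by
    intro hle
    exact hΓ (smul_self_eq Γ (d : G) (hle d.2))
  set f : Sylow 5 G → Subgroup G := fun Λ => (Γ : Subgroup G) ⊓ Λ with hf
  set s : Finset (Sylow 5 G) := Finset.univ.erase Γ with hs
  have hscard : s.card = 20 := by
    rw [hs, Finset.card_erase_of_mem (Finset.mem_univ _), Finset.card_univ,
      ← Nat.card_eq_fintype_card, h21]
  have hfib : ∀ b ∈ s.image f, 5 ≤ (s.filter (fun a => f a = b)).card := by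
    intro b hb
    obtain ⟨Λ, hΛs, rfl⟩ := Finset.mem_image.mp hb
    have hΛΓ : Λ ≠ Γ := Finset.ne_of_mem_erase hΛs
    have h6 := hFixCard Γ Λ hΛΓ
    have hsub : {Λ' : Sylow 5 G | (Γ : Subgroup G) ⊓ Λ ≤ Λ'} \ {Γ} ⊆
        ((s.filter (fun a => f a = f Λ) : Finset (Sylow 5 G)) : Set (Sylow 5 G)) := by
      rintro Λ' ⟨h1, h2⟩
      have hne' : Λ' ≠ Γ := h2
      rw [Finset.mem_coe, Finset.mem_filter]
      exact ⟨Finset.mem_erase.mpr ⟨hne', Finset.mem_univ _⟩, hinfeq Γ Λ Λ' hΛΓ hne' h1⟩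
    have hle := Set.ncard_le_ncard hsub (Finset.finite_toSet _)
    have hΓmem : Γ ∈ {Λ' : Sylow 5 G | (Γ : Subgroup G) ⊓ Λ ≤ Λ'} := by
      show (Γ : Subgroup G) ⊓ Λ ≤ Γ
      exact inf_le_left
    rw [Set.ncard_coe_finset, Set.ncard_diff_singleton_of_mem hΓmem] at hle
    omega
  have h5 := Finset.mul_card_image_le_card s 5 hfib
  set t : Finset (Sylow 5 G) := Finset.univ.filter (fun Λ => D ≤ (Λ : Subgroup G)) with ht
  have htcard : 6 ≤ t.card := by
    have h6 := hFixCard Q R hRQ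
    have : ((t : Finset (Sylow 5 G)) : Set (Sylow 5 G)) =
        {Λ' : Sylow 5 G | (Q : Subgroup G) ⊓ R ≤ Λ'} := by
      ext Λ
      simp [ht, hD]
    rw [← this, Set.ncard_coe_finset] at h6
    exact h6
  have hle : t.card ≤ (s.image f).card := by
    apply Finset.card_le_card_of_injOn f
    · intro Λ hΛ
      have hDΛ : D ≤ (Λ : Subgroup G) := (Finset.mem_filter.mp hΛ).2
      apply Finset.mem_image_of_mem
      apply Finset.mem_erase.mpr
      refine ⟨?_, Finset.mem_univ _⟩
      rintro rfl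
      exact hDΓ hDΛ
    · intro Λ hΛ Λ' hΛ' heq
      have hDΛ : D ≤ (Λ : Subgroup G) := (Finset.mem_filter.mp (Finset.mem_coe.mp hΛ)).2
      have hDΛ' : D ≤ (Λ' : Subgroup G) := (Finset.mem_filter.mp (Finset.mem_coe.mp hΛ')).2
      by_contra hne
      have hΛΓ : Λ ≠ Γ := by rintro rfl; exact hDΓ hDΛ
      have hΛ'Γ : Λ' ≠ Γ := by rintro rfl; exact hDΓ hDΛ'
      have heq' : (Γ : Subgroup G) ⊓ Λ = (Γ : Subgroup G) ⊓ Λ' := heq
      have hE : (Γ : Subgroup G) ⊓ Λ = (Λ : Subgroup G) ⊓ Λ' := by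
        apply Subgroup.eq_of_le_of_card_ge
        · exact le_inf inf_le_right (heq'.le.trans inf_le_right)
        · have h1 := hinf Γ Λ hΛΓ
          have h2 := hinf Λ Λ' (fun h => hne h.symm)
          omega
      apply hDΓ
      calc D ≤ (Λ : Subgroup G) ⊓ Λ' := le_inf hDΛ hDΛ'
        _ = (Γ : Subgroup G) ⊓ Λ := hE.symm
        _ ≤ Γ := inf_le_left
  omega

/-! ### Fixed point counts -/

/-- the number of Sylow 5-subgroups fixed by an element -/
noncomputable def fx (g : G) : ℕ := (fixedBy (Sylow 5 G) g).ncard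

theorem fx_le (h21 : Nat.card (Sylow 5 G) = 21) (g : G) : fx g ≤ 21 :=
  h21 ▸ Set.ncard_le_card _

theorem fx_ne (h21 : Nat.card (Sylow 5 G) = 21)
    (hfaith : ∀ g : G, (∀ ω : Sylow 5 G, g • ω = ω) → g = 1) (g : G) (hg : g ≠ 1) :
    fx g ≠ 21 := by
  intro h
  apply hg
  apply hfaith
  intro ω
  have hcompl : (fixedBy (Sylow 5 G) g)ᶜ.ncard = 0 := by
    unfold fx at h
    rw [Set.ncard_compl, h21, h]
  have hempty : (fixedBy (Sylow 5 G) g)ᶜ = ∅ := by
    rwa [Set.ncard_eq_zero] at hcompl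
  by_contra hω
  have : ω ∈ (fixedBy (Sylow 5 G) g)ᶜ := hω
  rw [hempty] at this
  exact this

theorem fx_mod_five (Q : Sylow 5 G) (g : G)
    (hg : g ∈ centralizer ((Q : Subgroup G) : Set G)) : fx g % 5 = 1 := by
  have hinv : Inv Q (fixedBy (Sylow 5 G) g) :=
    inv_fixedBy g (fun u hu => (Subgroup.mem_centralizer_iff.mp hg) u hu)
  have hfix : Q ∈ fixedBy (Sylow 5 G) g :=
    Sylow.smul_eq_iff_mem_normalizer.mpr (Subgroup.centralizer_le_normalizer _ hg)
  exact ncard_modEq_one Q _ hinv hfix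

theorem fx_modEq (h21 : Nat.card (Sylow 5 G) = 21) (r : ℕ) [Fact r.Prime] (g : G)
    (hz : IsPGroup r (zpowers g)) : 21 % r = fx g % r := by
  have hmodr := hz.card_modEq_card_fixedPoints (Sylow 5 G)
  have hfp : (fixedPoints (zpowers g) (Sylow 5 G)) = fixedBy (Sylow 5 G) g := by
    ext t
    constructor
    · intro h
      exact h ⟨g, mem_zpowers g⟩
    · intro h x
      obtain ⟨j, hj⟩ := mem_zpowers_iff.mp x.2
      have := MulAction.mem_fixedBy_zpow h j
      rw [mem_fixedBy, hj] at this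
      exact this
  rw [hfp, Nat.card_coe_set_eq, h21] at hmodr
  exact hmodr

omit [Finite G] in
theorem fx_pow_le [Finite (Sylow 5 G)] (g : G) (j : ℕ) : fx g ≤ fx (g ^ j) := by
  have := MulAction.fixedBy_subset_fixedBy_zpow (Sylow 5 G) g (j : ℤ)
  rw [zpow_natCast] at this
  exact Set.ncard_le_ncard this (Set.toFinite _)

theorem fx_eq_card [Fintype (Sylow 5 G)] [DecidableEq (Sylow 5 G)] (g : G) :
    fx g = Fintype.card
      (Function.fixedPoints (⇑(MulAction.toPerm g : Equiv.Perm (Sylow 5 G)))) := by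
  rw [← Nat.card_eq_fintype_card]
  have hset : Function.fixedPoints (⇑(MulAction.toPerm g : Equiv.Perm (Sylow 5 G))) =
      fixedBy (Sylow 5 G) g := by
    ext t
    rfl
  rw [hset, Nat.card_coe_set_eq]
  rfl

theorem fx_invol [Fintype (Sylow 5 G)] [DecidableEq (Sylow 5 G)]
    (h21 : Nat.card (Sylow 5 G) = 21)
    (hfaith : ∀ g : G, (∀ ω : Sylow 5 G, g • ω = ω) → g = 1)
    (heven : ∀ g : G, Equiv.Perm.sign (MulAction.toPerm g : Equiv.Perm (Sylow 5 G)) = 1)
    (g : G) (hg : orderOf g = 2) : fx g % 4 = 1 := by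
  have hinj := toPerm_inj hfaith
  have hσo : orderOf (MulAction.toPerm g : Equiv.Perm (Sylow 5 G)) = 2 := by
    have := orderOf_injective (MulAction.toPermHom G (Sylow 5 G)) hinj g
    rw [hg] at this
    exact this
  rw [fx_eq_card]
  exact perm_invol (by rw [← Nat.card_eq_fintype_card, h21]) _ hσo (heven g)

theorem fx_sq_ne_one [Fintype (Sylow 5 G)] [DecidableEq (Sylow 5 G)]
    (h21 : Nat.card (Sylow 5 G) = 21)
    (hfaith : ∀ g : G, (∀ ω : Sylow 5 G, g • ω = ω) → g = 1)
    (heven : ∀ g : G, Equiv.Perm.sign (MulAction.toPerm g : Equiv.Perm (Sylow 5 G)) = 1)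
    (g : G) (hg : orderOf g = 4) : fx (g ^ 2) ≠ 1 := by
  have hinj := toPerm_inj hfaith
  have hσo : orderOf (MulAction.toPerm g : Equiv.Perm (Sylow 5 G)) = 4 := by
    have := orderOf_injective (MulAction.toPermHom G (Sylow 5 G)) hinj g
    rw [hg] at this
    exact this
  rw [fx_eq_card]
  have e : (MulAction.toPerm (g ^ 2) : Equiv.Perm (Sylow 5 G)) = (MulAction.toPerm g) ^ 2 :=
    map_pow (MulAction.toPermHom G (Sylow 5 G)) g 2
  rw [e]
  exact perm_order_four (by rw [← Nat.card_eq_fintype_card, h21]) _ hσo (heven g)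

/-- Burnside's counting lemma for a subgroup all of whose nonidentity elements have the same
number of fixed points -/
theorem burnside (h21 : Nat.card (Sylow 5 G) = 21) (S : Subgroup G) (f : ℕ)
    (hf : ∀ s ∈ S, s ≠ 1 → fx s = f) : Nat.card S ∣ 21 + (Nat.card S - 1) * f := by
  classical
  haveI : Fintype (Sylow 5 G) := Fintype.ofFinite _
  haveI : Fintype S := Fintype.ofFinite _
  have h := MulAction.sum_card_fixedBy_eq_card_orbits_mul_card_group ↥S (Sylow 5 G)
  have hsum : ∑ s : S, Fintype.card (fixedBy (Sylow 5 G) s) = 21 + (Nat.card S - 1) * f := by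
    rw [← Finset.add_sum_erase Finset.univ _ (Finset.mem_univ (1 : S))]
    congr 1
    · rw [← Nat.card_eq_fintype_card, Nat.card_coe_set_eq, MulAction.fixedBy_one_eq_univ,
        Set.ncard_univ, h21]
    · rw [Finset.sum_const_nat (m := f)]
      · rw [Finset.card_erase_of_mem (Finset.mem_univ _), Finset.card_univ,
          Nat.card_eq_fintype_card]
      · intro s hs
        have hs1 : s ≠ 1 := Finset.ne_of_mem_erase hs
        rw [← Nat.card_eq_fintype_card, Nat.card_coe_set_eq]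
        exact hf (s : G) s.2 (fun h => hs1 (Subtype.ext h))
  rw [← hsum, h, Nat.card_eq_fintype_card]
  exact Dvd.intro_left _ rfl

/-- the involution in the cyclic group generated by a nontrivial 2-element -/
theorem exists_invol_pow (g : G) (a : ℕ) (ha : 1 ≤ a) (ho : orderOf g = 2 ^ a) :
    ∃ j : ℕ, orderOf (g ^ j) = 2 := by
  refine ⟨orderOf g / 2, orderOf_pow_orderOf_div (orderOf_pos g).ne' ?_⟩
  rw [ho]
  exact dvd_pow_self 2 (by omega)

theorem isPGroup_two_zpowers (g : G) (a : ℕ) (ho : orderOf g = 2 ^ a) :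
    IsPGroup 2 (zpowers g) :=
  IsPGroup.of_card (n := a) (by rw [Nat.card_zpowers, ho])

/-- 2-elements have an odd number of fixed points -/
theorem fx_odd (h21 : Nat.card (Sylow 5 G) = 21) (g : G) (a : ℕ) (ho : orderOf g = 2 ^ a) :
    fx g % 2 = 1 := by
  haveI : Fact (Nat.Prime 2) := ⟨Nat.prime_two⟩
  have := fx_modEq h21 2 g (isPGroup_two_zpowers g a ho)
  omega

theorem prime_dvd_sixty {r : ℕ} (hr : r.Prime) (h : r ∣ 60) : r = 2 ∨ r = 3 ∨ r = 5 := by
  have h60 : (60 : ℕ) = 2 * (2 * (3 * 5)) := by norm_num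
  rw [h60] at h
  rcases (Nat.Prime.dvd_mul hr).mp h with h | h
  · left; exact (Nat.prime_dvd_prime_iff_eq hr Nat.prime_two).mp h
  rcases (Nat.Prime.dvd_mul hr).mp h with h | h
  · left; exact (Nat.prime_dvd_prime_iff_eq hr Nat.prime_two).mp h
  rcases (Nat.Prime.dvd_mul hr).mp h with h | h
  · right; left; exact (Nat.prime_dvd_prime_iff_eq hr Nat.prime_three).mp h
  · right; right; exact (Nat.prime_dvd_prime_iff_eq hr (by norm_num)).mp h

theorem dvd_sixty_of (n : ℕ) (hn : n ≠ 0)
    (hp : ∀ r : ℕ, r.Prime → r ∣ n → r = 2 ∨ r = 3 ∨ r = 5)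
    (h8 : ¬ 8 ∣ n) (h9 : ¬ 9 ∣ n) (h25 : ¬ 25 ∣ n) : n ∣ 60 := by
  obtain ⟨a, n1, h2n1, rfl⟩ := Nat.exists_eq_pow_mul_and_not_dvd hn 2 (by norm_num)
  have hn1 : n1 ≠ 0 := by rintro rfl; simp at hn
  obtain ⟨b, n2, h3n2, rfl⟩ := Nat.exists_eq_pow_mul_and_not_dvd hn1 3 (by norm_num)
  have hn2 : n2 ≠ 0 := by rintro rfl; simp at hn1
  obtain ⟨d, n3, h5n3, rfl⟩ := Nat.exists_eq_pow_mul_and_not_dvd hn2 5 (by norm_num)
  have hn3 : n3 = 1 := by
    by_contra hne
    have hq := Nat.minFac_prime hne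
    have hqd : n3.minFac ∣ n3 := Nat.minFac_dvd n3
    have hqn : n3.minFac ∣ 2 ^ a * (3 ^ b * (5 ^ d * n3)) :=
      hqd.trans ((Dvd.intro_left _ rfl).trans ((Dvd.intro_left _ rfl).trans
        (Dvd.intro_left _ rfl)))
    rcases hp _ hq hqn with h | h | h
    · rw [h] at hqd
      exact h2n1 (hqd.trans ((Dvd.intro_left _ rfl).trans (Dvd.intro_left _ rfl)))
    · rw [h] at hqd
      exact h3n2 (hqd.trans (Dvd.intro_left _ rfl))
    · rw [h] at hqd
      exact h5n3 hqd
  subst hn3
  have ha : a ≤ 2 := by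
    by_contra hcon
    push Not at hcon
    exact h8 ((pow_dvd_pow 2 hcon : 2 ^ 3 ∣ 2 ^ a).trans (Dvd.intro _ rfl))
  have hb : b ≤ 1 := by
    by_contra hcon
    push Not at hcon
    exact h9 ((pow_dvd_pow 3 hcon : 3 ^ 2 ∣ 3 ^ b).trans
      ((Dvd.intro _ rfl).trans (Dvd.intro_left _ rfl)))
  have hd : d ≤ 1 := by
    by_contra hcon
    push Not at hcon
    exact h25 ((pow_dvd_pow 5 hcon : 5 ^ 2 ∣ 5 ^ d).trans
      ((Dvd.intro _ rfl).trans ((Dvd.intro_left _ rfl).trans (Dvd.intro_left _ rfl))))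
  interval_cases a <;> interval_cases b <;> interval_cases d <;> norm_num

section Cent

variable [Fintype (Sylow 5 G)] [DecidableEq (Sylow 5 G)]
  (h21 : Nat.card (Sylow 5 G) = 21)
  (hfaith : ∀ g : G, (∀ ω : Sylow 5 G, g • ω = ω) → g = 1)
  (heven : ∀ g : G, Equiv.Perm.sign (MulAction.toPerm g : Equiv.Perm (Sylow 5 G)) = 1)

include h21 hfaith heven

/-- involutions centralizing a Sylow 5-subgroup fix exactly one Sylow 5-subgroup -/
theorem invol_centralizer (Q : Sylow 5 G) (u : G)
    (hu : u ∈ centralizer ((Q : Subgroup G) : Set G)) (ho : orderOf u = 2) : fx u = 1 := by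
  have h5 := fx_mod_five Q u hu
  have h4 := fx_invol h21 hfaith heven u ho
  have hle := fx_le h21 u
  have hne := fx_ne h21 hfaith u (by intro h; rw [h, orderOf_one] at ho; omega)
  omega

/-- nontrivial 2-elements centralizing a Sylow 5-subgroup fix exactly one Sylow 5-subgroup -/
theorem two_elt_centralizer (Q : Sylow 5 G) (g : G)
    (hg : g ∈ centralizer ((Q : Subgroup G) : Set G)) (a : ℕ) (ha : 1 ≤ a)
    (ho : orderOf g = 2 ^ a) : fx g = 1 := by
  obtain ⟨j, hj⟩ := exists_invol_pow g a ha ho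
  have h1 := invol_centralizer h21 hfaith heven Q (g ^ j) (pow_mem hg j) hj
  have h2 := fx_pow_le g j
  have h3 := fx_odd h21 g a ho
  omega

/-- primes dividing the order of the centralizer of a Sylow 5-subgroup -/
theorem prime_dvd_centralizer (Q : Sylow 5 G) (r : ℕ) (hr : r.Prime)
    (hdvd : r ∣ Nat.card (centralizer ((Q : Subgroup G) : Set G))) :
    r = 2 ∨ r = 3 ∨ r = 5 := by
  haveI : Fact r.Prime := ⟨hr⟩
  obtain ⟨g, hg⟩ := exists_prime_orderOf_dvd_card'
    (G := ↥(centralizer ((Q : Subgroup G) : Set G))) r hdvd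
  have hgo : orderOf (g : G) = r := by rw [Subgroup.orderOf_coe, hg]
  have h5 := fx_mod_five Q (g : G) g.2
  have hle := fx_le h21 (g : G)
  have hne := fx_ne h21 hfaith (g : G)
    (by intro h; rw [h, orderOf_one] at hgo; exact hr.one_lt.ne hgo)
  have hz : IsPGroup r (zpowers (g : G)) :=
    IsPGroup.of_card (n := 1) (by rw [Nat.card_zpowers, hgo, pow_one])
  have hmod := fx_modEq h21 r (g : G) hz
  have hd : r ∣ 21 - fx (g : G) := (Nat.modEq_iff_dvd' hle).mp hmod.symm
  apply prime_dvd_sixty hr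
  have hcases : fx (g : G) = 1 ∨ fx (g : G) = 6 ∨ fx (g : G) = 11 ∨ fx (g : G) = 16 := by omega
  rcases hcases with h | h | h | h <;> rw [h] at hd
  · exact hd.trans (by norm_num)
  · exact hd.trans (by norm_num)
  · exact hd.trans (by norm_num)
  · exact hd.trans (by norm_num)

/-- the order of the centralizer of a Sylow 5-subgroup of order 5 divides 60 -/
theorem centralizer_card_dvd (hall : ∀ Q : Sylow 5 G, Nat.card Q = 5) (Q : Sylow 5 G) :
    Nat.card (centralizer ((Q : Subgroup G) : Set G)) ∣ 60 := by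
  set C := centralizer ((Q : Subgroup G) : Set G) with hC
  apply dvd_sixty_of _ Nat.card_pos.ne'
  · exact fun r hr hd => prime_dvd_centralizer h21 hfaith heven Q r hr hd
  · -- no subgroup of order 8
    intro h8
    obtain ⟨K, hK⟩ := Sylow.exists_subgroup_card_pow_prime 2 (n := 3)
      (show 2 ^ 3 ∣ Nat.card ↥C from h8)
    have hS : Nat.card (K.map C.subtype) = 8 := by
      rw [Subgroup.card_map_of_injective (Subgroup.subtype_injective C), hK]; norm_num
    have hSC : K.map C.subtype ≤ C := Subgroup.map_subtype_le K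
    have hb := burnside h21 (K.map C.subtype) 1 (fun s hs hs1 => by
      have ho : orderOf s ∣ 2 ^ 3 := by
        have := Subgroup.orderOf_dvd_natCard (K.map C.subtype) hs
        rwa [hS] at this
      obtain ⟨a, _, ha⟩ := (Nat.dvd_prime_pow Nat.prime_two).mp ho
      have ha1 : 1 ≤ a := by
        rcases Nat.eq_zero_or_pos a with rfl | h
        · rw [pow_zero, orderOf_eq_one_iff] at ha
          exact absurd ha hs1
        · exact h
      exact two_elt_centralizer h21 hfaith heven Q s (hSC hs) a ha1 ha)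
    rw [hS] at hb
    norm_num at hb
  · -- no subgroup of order 9
    intro h9
    haveI : Fact (Nat.Prime 3) := ⟨Nat.prime_three⟩
    obtain ⟨K, hK⟩ := Sylow.exists_subgroup_card_pow_prime 3 (n := 2)
      (show 3 ^ 2 ∣ Nat.card ↥C from h9)
    have hS : Nat.card (K.map C.subtype) = 9 := by
      rw [Subgroup.card_map_of_injective (Subgroup.subtype_injective C), hK]; norm_num
    have hSC : K.map C.subtype ≤ C := Subgroup.map_subtype_le K
    have hb := burnside h21 (K.map C.subtype) 6 (fun s hs hs1 => by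
      have h5 := fx_mod_five Q s (hSC hs)
      have hS3 : IsPGroup 3 (K.map C.subtype) := IsPGroup.of_card (n := 2) (by rw [hS]; norm_num)
      have hz : IsPGroup 3 (zpowers s) := hS3.to_le (zpowers_le.mpr hs)
      have h3 := fx_modEq h21 3 s hz
      have hle := fx_le h21 s
      have hne := fx_ne h21 hfaith s hs1
      omega)
    rw [hS] at hb
    norm_num at hb
  · -- 25 does not divide
    intro h25
    have h25G : 5 ^ 2 ∣ Nat.card G :=
      (show 5 ^ 2 ∣ Nat.card ↥C from h25).trans (Subgroup.card_subgroup_dvd_card C)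
    have := Q.pow_dvd_card_of_pow_dvd_card h25G
    rw [hall Q] at this
    norm_num at this

end Cent

/-! ### Sylow 5-subgroups of order 5 -/

omit [Finite G] in
theorem conj_mem_centralizer (g a : G) (P : Sylow 5 G)
    (h : g⁻¹ * a * g ∈ centralizer ((P : Subgroup G) : Set G)) :
    a ∈ centralizer (((g • P : Sylow 5 G) : Subgroup G) : Set G) := by
  rw [Subgroup.mem_centralizer_iff]
  intro w hw
  have hw' : g⁻¹ * w * g ∈ (P : Subgroup G) := (mem_smul_iff g P w).mp hw
  have := (Subgroup.mem_centralizer_iff.mp h) _ hw'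
  have e1 : w * a = g * (g⁻¹ * w * g * (g⁻¹ * a * g)) * g⁻¹ := by group
  rw [e1, this]
  group

/-- Thompson transfer: the contradiction from an element of order `2 ^ k` acting
semiregularly on the cosets of a subgroup of index `2 ^ k * 21` -/
theorem transfer_contra (h21 : Nat.card (Sylow 5 G) = 21)
    (hmin : ∀ (H : Type u) [Group H] [Finite H], Nat.card H < Nat.card G →
      Nat.card (Sylow 5 H) ≠ 21)
    (M : Subgroup G) (c : G) (k : ℕ) (hk : 1 ≤ k) (hc : orderOf c = 2 ^ k)
    (hsemi : ∀ g : G, ∀ j : ℕ, g⁻¹ * c ^ j * g ∈ M → c ^ j = 1)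
    (hidx : M.index = 2 ^ k * 21) : False := by
  have h := Cfsg.Agent.Lib.Helper17.sgnHom_eq_neg_one M c k 21 hk hc hsemi hidx ⟨10, by norm_num⟩
  have hi := Cfsg.Agent.Lib.Helper17.index_ker_of_eq_neg_one h
  exact no_normal h21 hmin _ hi

/-- the arithmetic of the normalizer of a Sylow 5-subgroup of order 5 -/
theorem caseA_counts (h21 : Nat.card (Sylow 5 G) = 21) (P : Sylow 5 G) (hP : Nat.card P = 5)
    (hC60 : Nat.card (centralizer ((P : Subgroup G) : Set G)) ∣ 60) :
    ∃ c e : ℕ, c ∣ 12 ∧ e ∣ 4 ∧ Nat.card G = 105 * (c * e) ∧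
      (centralizer ((P : Subgroup G) : Set G)).index = 21 * e ∧ ∃ y : G, orderOf y = e := by
  set C := centralizer ((P : Subgroup G) : Set G) with hC
  set Nm := normalizer ((P : Subgroup G) : Set G) with hNm
  have hcyc : IsCyclic P := isCyclic_of_prime_card hP
  have hPC : (P : Subgroup G) ≤ C := by
    haveI : IsCyclic (P : Subgroup G) := hcyc
    exact Subgroup.le_centralizer (P : Subgroup G)
  have hCN : C ≤ Nm := Subgroup.centralizer_le_normalizer _
  have ha : Nat.card G = 21 * Nat.card Nm := by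
    have h1 := Sylow.card_eq_index_normalizer P
    rw [h21] at h1
    have h2 := Subgroup.index_mul_card Nm
    rw [← h2]
    congr 1
    exact h1.symm
  have hb : C.relIndex Nm ∣ 4 := by
    have key := Subgroup.card_dvd_of_injective _
      (QuotientGroup.kerLift_injective (P : Subgroup G).normalizerMonoidHom)
    rw [Subgroup.normalizerMonoidHom_ker, ← Subgroup.index, ← Subgroup.relIndex] at key
    rw [hcyc.card_mulAut, hP, Nat.totient_prime (by norm_num)] at key
    exact key
  have hc : Nat.card Nm = Nat.card C * C.relIndex Nm := by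
    have := Cfsg.Agent.Lib.Helper18.card_eq_card_inf_mul_relIndex Nm C
    rwa [inf_of_le_right hCN] at this
  obtain ⟨c, hcc⟩ : 5 ∣ Nat.card C := hP ▸ Subgroup.card_dvd_of_le hPC
  have hc12 : c ∣ 12 := by
    apply Nat.dvd_of_mul_dvd_mul_left (by norm_num : 0 < 5)
    rw [← hcc]
    exact hC60
  refine ⟨c, C.relIndex Nm, hc12, hb, ?_, ?_, ?_⟩
  · rw [ha, hc, hcc]; ring
  · have h1 := Subgroup.index_mul_card C
    rw [ha, hc] at h1
    have hpos : 0 < Nat.card C := Nat.card_pos
    apply Nat.eq_of_mul_eq_mul_right hpos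
    rw [h1]; ring
  · let f := (P : Subgroup G).normalizerMonoidHom
    have hker : f.ker = C.subgroupOf Nm := Subgroup.normalizerMonoidHom_ker _
    have hrange : Nat.card f.range = C.relIndex Nm := by
      rw [← Subgroup.index_ker, hker]
      rfl
    haveI : IsCyclic (MulAut ↥(P : Subgroup G)) := Cfsg.Agent.S4236.mulAut_cyclic _ 5 hP
    obtain ⟨r, hr⟩ := IsCyclic.exists_generator (α := ↥f.range)
    have hro : orderOf r = C.relIndex Nm := by
      rw [orderOf_eq_card_of_forall_mem_zpowers hr, hrange]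
    obtain ⟨x, hx⟩ := r.2
    have hfx : orderOf (f x) = C.relIndex Nm := by
      rw [hx, ← hro, Subgroup.orderOf_coe]
    have hdvd : C.relIndex Nm ∣ orderOf x := by
      rw [← hfx]
      exact orderOf_map_dvd f x
    refine ⟨((x ^ (orderOf x / C.relIndex Nm) : ↥Nm) : G), ?_⟩
    rw [Subgroup.orderOf_coe]
    exact orderOf_pow_orderOf_div (orderOf_pos x).ne' hdvd

/-- the analysis of the Sylow 7-subgroups: `8` divides the `5'`-part of the normalizer -/
theorem eight_dvd (hall : ∀ Q : Sylow 5 G, Nat.card Q = 5)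
    (hcent : ∀ Q : Sylow 5 G, Nat.card (centralizer ((Q : Subgroup G) : Set G)) ∣ 60)
    (w : ℕ) (hw : w ∣ 48) (hG : Nat.card G = 105 * w) : 8 ∣ w := by
  obtain ⟨Y⟩ : Nonempty (Sylow 7 G) := inferInstance
  have hG5040 : Nat.card G ∣ 5040 := by
    rw [hG]
    exact (Nat.mul_dvd_mul_left 105 hw).trans (by norm_num)
  have h7G : 7 ∣ Nat.card G := by rw [hG]; exact ⟨15 * w, by ring⟩
  have h5G : 5 ∣ Nat.card G := by rw [hG]; exact ⟨21 * w, by ring⟩
  have hY : Nat.card Y = 7 := by
    obtain ⟨j, hj⟩ := Y.2.exists_card_eq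
    have h1 : 7 ∣ Nat.card Y := Y.dvd_card_of_dvd_card h7G
    have h2 : Nat.card Y ∣ 5040 := (Subgroup.card_subgroup_dvd_card _).trans hG5040
    rw [hj] at h1 h2 ⊢
    have hj0 : j ≠ 0 := by
      rintro rfl
      norm_num at h1
    have hj2 : j < 2 := by
      by_contra h
      push Not at h
      have : 7 ^ 2 ∣ 5040 := (pow_dvd_pow 7 h).trans h2
      norm_num at this
    have : j = 1 := by omega
    rw [this, pow_one]
  set NY := normalizer ((Y : Subgroup G) : Set G) with hNY
  set CY := centralizer ((Y : Subgroup G) : Set G) with hCY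
  have hcycY : IsCyclic Y := isCyclic_of_prime_card hY
  have hCNY : CY ≤ NY := Subgroup.centralizer_le_normalizer _
  have hbY : CY.relIndex NY ∣ 6 := by
    have key := Subgroup.card_dvd_of_injective _
      (QuotientGroup.kerLift_injective (Y : Subgroup G).normalizerMonoidHom)
    rw [Subgroup.normalizerMonoidHom_ker, ← Subgroup.index, ← Subgroup.relIndex] at key
    rw [hcycY.card_mulAut, hY, Nat.totient_prime (by norm_num)] at key
    exact key
  have hcY : Nat.card NY = Nat.card CY * CY.relIndex NY := by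
    have := Cfsg.Agent.Lib.Helper18.card_eq_card_inf_mul_relIndex NY CY
    rwa [inf_of_le_right hCNY] at this
  have h5N : ¬ 5 ∣ Nat.card NY := by
    intro h5
    rw [hcY] at h5
    have h5C : 5 ∣ Nat.card CY := by
      rcases (Nat.Prime.dvd_mul (by norm_num)).mp h5 with h | h
      · exact h
      · exfalso
        have := Nat.le_of_dvd (by norm_num) (h.trans hbY)
        have h56 := h.trans hbY
        norm_num at h56
    obtain ⟨x, hx⟩ := exists_prime_orderOf_dvd_card' (G := ↥CY) 5 h5C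
    have hxo : orderOf (x : G) = 5 := by rw [Subgroup.orderOf_coe, hx]
    have hz : IsPGroup 5 (zpowers (x : G)) :=
      IsPGroup.of_card (n := 1) (by rw [Nat.card_zpowers, hxo, pow_one])
    obtain ⟨P', hP'⟩ := hz.exists_le_sylow
    have hP'eq : zpowers (x : G) = (P' : Subgroup G) := by
      apply Subgroup.eq_of_le_of_card_ge hP'
      rw [Nat.card_zpowers, hxo]
      exact (hall P').le
    have hYle : (Y : Subgroup G) ≤ centralizer ((P' : Subgroup G) : Set G) := by
      intro y hy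
      rw [Subgroup.mem_centralizer_iff]
      intro v hv
      have hv' : v ∈ zpowers (x : G) := by rw [hP'eq]; exact hv
      obtain ⟨i, rfl⟩ := Subgroup.mem_zpowers_iff.mp hv'
      have hxy : y * (x : G) = (x : G) * y := (Subgroup.mem_centralizer_iff.mp x.2) y hy
      exact ((show Commute y (x : G) from hxy).zpow_right i).symm.eq
    have h7 : 7 ∣ 60 := by
      have := (Subgroup.card_dvd_of_le hYle).trans (hcent P')
      rwa [hY] at this
    norm_num at h7
  have hn7 : Nat.card (Sylow 7 G) = NY.index := Sylow.card_eq_index_normalizer Y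
  have hmul : Nat.card (Sylow 7 G) * Nat.card NY = Nat.card G := by
    rw [hn7]; exact Subgroup.index_mul_card NY
  have h5n7 : 5 ∣ Nat.card (Sylow 7 G) := by
    rw [← hmul] at h5G
    rcases (Nat.Prime.dvd_mul (by norm_num)).mp h5G with h | h
    · exact h
    · exact absurd h h5N
  have h7N : 7 ∣ Nat.card NY := by
    have : (Y : Subgroup G) ≤ NY := Subgroup.le_normalizer
    have := Subgroup.card_dvd_of_le this
    rwa [hY] at this
  obtain ⟨m, hm⟩ := h5n7
  obtain ⟨t, ht⟩ := h7N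
  have hmt : m * t = 3 * w := by
    rw [hm, ht, hG] at hmul
    nlinarith
  have hmod : Nat.card (Sylow 7 G) % 7 = 1 := card_sylow_modEq_one 7 G
  have hm144 : m ∣ 144 := by
    have h1 : m ∣ 3 * w := Dvd.intro _ hmt
    exact h1.trans ((Nat.mul_dvd_mul_left 3 hw).trans (by norm_num))
  have key : ∀ m ∈ Nat.divisors 144, (5 * m) % 7 = 1 → m = 3 ∨ m = 24 := by decide
  rw [hm] at hmod
  rcases key m (Nat.mem_divisors.mpr ⟨hm144, by norm_num⟩) hmod with h | h
  · exfalso
    rw [h] at hm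
    exact Cfsg.Agent.S4304.result hm
  · rw [h] at hmt
    exact ⟨t, by omega⟩

/-- the case of Sylow 5-subgroups of order 5 -/
theorem caseA [Fintype (Sylow 5 G)] [DecidableEq (Sylow 5 G)]
    (h21 : Nat.card (Sylow 5 G) = 21)
    (hmin : ∀ (H : Type u) [Group H] [Finite H], Nat.card H < Nat.card G →
      Nat.card (Sylow 5 H) ≠ 21)
    (hfaith : ∀ g : G, (∀ ω : Sylow 5 G, g • ω = ω) → g = 1)
    (heven : ∀ g : G, Equiv.Perm.sign (MulAction.toPerm g : Equiv.Perm (Sylow 5 G)) = 1)
    (hall : ∀ Q : Sylow 5 G, Nat.card Q = 5) : False := by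
  have hcent := centralizer_card_dvd h21 hfaith heven hall
  obtain ⟨P⟩ : Nonempty (Sylow 5 G) := inferInstance
  obtain ⟨c, e, hc12, he4, hG, hidx, y, hy⟩ := caseA_counts h21 P (hall P) (hcent P)
  have h8 : 8 ∣ c * e := eight_dvd hall hcent (c * e) (Nat.mul_dvd_mul hc12 he4) hG
  -- involutions not centralizing any Sylow 5-subgroup
  have hinv : ∀ u : G, orderOf u = 2 → fx u ≠ 1 →
      ∀ g : G, ∀ j : ℕ, g⁻¹ * u ^ j * g ∈ centralizer ((P : Subgroup G) : Set G) → u ^ j = 1 := by
    intro u hu hfx g j hmem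
    by_contra hne
    have hj : u ^ j = u := by
      rw [← pow_mod_orderOf, hu]
      rcases Nat.mod_two_eq_zero_or_one j with h | h
      · exfalso
        apply hne
        rw [← pow_mod_orderOf, hu, h, pow_zero]
      · rw [h, pow_one]
    rw [hj] at hmem
    exact hfx (invol_centralizer h21 hfaith heven (g • P) u (conj_mem_centralizer g u P hmem) hu)
  have he : e = 1 ∨ e = 2 ∨ e = 4 := by
    have hle : e ≤ 4 := Nat.le_of_dvd (by norm_num) he4
    interval_cases e
    · simp at he4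
    · left; rfl
    · right; left; rfl
    · norm_num at he4
    · right; right; rfl
  rcases he with rfl | rfl | rfl
  · -- e = 1
    rw [mul_one] at h8
    have := h8.trans hc12
    norm_num at this
  · -- e = 2: an involution with more than one fixed point
    have h8G : 2 ^ 3 ∣ Nat.card G := by
      rw [hG]
      exact (show 2 ^ 3 ∣ c * 2 from h8).trans (Dvd.intro_left _ rfl)
    obtain ⟨S, hS⟩ := Sylow.exists_subgroup_card_pow_prime 2 h8G
    have hS8 : Nat.card S = 8 := by rw [hS]; norm_num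
    have hex : ∃ s ∈ S, s ≠ 1 ∧ fx s ≠ 1 := by
      by_contra hcon
      push Not at hcon
      have hb := burnside h21 S 1 hcon
      rw [hS8] at hb
      norm_num at hb
    obtain ⟨s, hsS, hs1, hsfx⟩ := hex
    have ho : orderOf s ∣ 2 ^ 3 := by
      have := Subgroup.orderOf_dvd_natCard S hsS
      rwa [hS] at this
    obtain ⟨a, _, ha⟩ := (Nat.dvd_prime_pow Nat.prime_two).mp ho
    have ha1 : 1 ≤ a := by
      rcases Nat.eq_zero_or_pos a with rfl | h
      · rw [pow_zero, orderOf_eq_one_iff] at ha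
        exact absurd ha hs1
      · exact h
    obtain ⟨j, hj⟩ := exists_invol_pow s a ha1 ha
    have hfxu : fx (s ^ j) ≠ 1 := by
      have h2 := fx_pow_le s j
      have h3 := fx_odd h21 s a ha
      omega
    exact transfer_contra h21 hmin _ (s ^ j) 1 le_rfl (by rw [hj, pow_one])
      (hinv (s ^ j) hj hfxu) (by rw [hidx]; norm_num)
  · -- e = 4: an element of order 4
    have hy2 : orderOf (y ^ 2) = 2 := by
      rw [orderOf_pow_of_dvd two_ne_zero (by rw [hy]; norm_num), hy]
    have hfx2 : fx (y ^ 2) ≠ 1 := fx_sq_ne_one h21 hfaith heven y hy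
    have hy4 : y ^ 4 = 1 := by rw [← hy]; exact pow_orderOf_eq_one y
    refine transfer_contra h21 hmin _ y 2 (by norm_num) (by rw [hy]; norm_num) ?_
      (by rw [hidx]; norm_num)
    intro g j hmem
    by_contra hne
    -- some power of `y ^ j` equals `y ^ 2`
    have hpow : ∃ i : ℕ, (y ^ j) ^ i = y ^ 2 := by
      have hjm : y ^ j = y ^ (j % 4) := by rw [← hy, pow_mod_orderOf]
      have hlt : j % 4 < 4 := Nat.mod_lt _ (by norm_num)
      rw [hjm] at hne ⊢
      interval_cases (j % 4)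
      · exact absurd (pow_zero y) hne
      · exact ⟨2, by rw [pow_one]⟩
      · exact ⟨1, by rw [pow_one]⟩
      · refine ⟨2, ?_⟩
        rw [← pow_mul]
        calc y ^ (3 * 2) = y ^ 4 * y ^ 2 := by rw [← pow_add]
          _ = y ^ 2 := by rw [hy4, one_mul]
    obtain ⟨i, hi⟩ := hpow
    have hmem2 : g⁻¹ * y ^ 2 * g ∈ centralizer ((P : Subgroup G) : Set G) := by
      have := pow_mem hmem i
      have e1 : (g⁻¹ * y ^ j * g) ^ i = g⁻¹ * (y ^ j) ^ i * g := by
        have h := conj_pow (i := i) (a := g⁻¹) (b := y ^ j)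
        rwa [inv_inv] at h
      rw [e1, hi] at this
      exact this
    have := hinv (y ^ 2) hy2 hfx2 g 1 (by rw [pow_one]; exact hmem2)
    rw [pow_one] at this
    rw [this, orderOf_one] at hy2
    omega

theorem main : ∀ n : ℕ, ∀ (G : Type u) [Group G] [Finite G], Nat.card G = n →
    Nat.card (Sylow 5 G) ≠ 21 := by
  intro n
  induction n using Nat.strong_induction_on with
  | _ n IH =>
  intro G _ _ hn h21
  classical
  haveI : Fintype (Sylow 5 G) := Fintype.ofFinite _
  have hmin : ∀ (H : Type u) [Group H] [Finite H], Nat.card H < Nat.card G →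
      Nat.card (Sylow 5 H) ≠ 21 :=
    fun H _ _ hlt => IH (Nat.card H) (hn ▸ hlt) H rfl
  have hfaith := faithful h21 hmin
  have heven := even_perm h21 hmin
  obtain ⟨P⟩ : Nonempty (Sylow 5 G) := inferInstance
  obtain ⟨k, hk⟩ := P.2.exists_card_eq
  have hall : ∀ ω : Sylow 5 G, Nat.card ω = 5 ^ k := fun ω => by
    rw [Sylow.card_eq_multiplicity ω, ← Sylow.card_eq_multiplicity P, hk]
  have hk0 : k ≠ 0 := sylow_card_ne_one h21 P k hk
  rcases Nat.lt_or_ge k 2 with h | h
  · have hk1 : k = 1 := by omega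
    subst hk1
    exact caseA h21 hmin hfaith heven (fun ω => by rw [hall ω, pow_one])
  · exact caseB h21 hfaith k h hall

/-- No finite group has exactly twenty-one Sylow 5-subgroups. -/
theorem result {G : Type*} [Group G] [Finite G] : Nat.card (Sylow 5 G) ≠ 21 :=
  main _ G rfl

end Cfsg.Agent.S1010
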