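import Cfsg.Statements.S4346
import Mathlib
import Cfsg.Agent.Lib.Helper20.SylowCount
import Cfsg.Agent.Lib.Helper19.Syl22A
import Cfsg.Agent.Lib.Helper19.Syl22B

set_option autoImplicit false
open Cfsg

namespace Cfsg.Agent.S4346

open Subgroup MulAction Cfsg.Agent.Lib.Helper20.SylowCount

universe u

variable {G : Type u} [Group G] [Finite G]

/-- In a minimal counterexample the conjugation action on the Sylow 3-subgroups is faithful. -/
theorem faithful (h22 : Nat.card (Sylow 3 G) = 22)
    (hmin : ∀ (H : Type u) [Group H] [Finite H], Nat.card H < Nat.card G →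
      Nat.card (Sylow 3 H) ≠ 22)
    (g : G) (hg : ∀ ω : Sylow 3 G, g • ω = ω) : g = 1 := by
  by_contra hne
  let K : Subgroup G := (MulAction.toPermHom G (Sylow 3 G)).ker
  have hgK : g ∈ K := by
    rw [MonoidHom.mem_ker]
    ext ω
    simp [hg ω]
  obtain ⟨P⟩ : Nonempty (Sylow 3 G) := inferInstance
  have hK : K ≤ normalizer ((P : Subgroup G) : Set G) := by
    intro k hk
    have h1 : k • P = P := by
      have := congrArg (fun σ : Equiv.Perm (Sylow 3 G) => σ P) (MonoidHom.mem_ker.mp hk)
      simpa using this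
    exact Sylow.smul_eq_iff_mem_normalizer.mp h1
  have hq := card_sylow_quotient_eq K P hK
  rw [h22] at hq
  refine hmin (G ⧸ K) ?_ hq
  have h1 : Nat.card G = Nat.card (G ⧸ K) * Nat.card K :=
    Subgroup.card_eq_card_quotient_mul_card_subgroup K
  have h2 : 1 < Nat.card K := by
    rw [Subgroup.one_lt_card_iff_ne_bot]
    intro hb
    rw [hb, Subgroup.mem_bot] at hgK
    exact hne hgK
  have h3 : 0 < Nat.card (G ⧸ K) := Nat.card_pos
  nlinarith

/-- A minimal counterexample has no proper normal subgroup of index prime to 3. -/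
theorem normal_top (h22 : Nat.card (Sylow 3 G) = 22)
    (hmin : ∀ (H : Type u) [Group H] [Finite H], Nat.card H < Nat.card G →
      Nat.card (Sylow 3 H) ≠ 22)
    (N : Subgroup G) (hN : N.Normal) (h3 : ¬ 3 ∣ N.index) : N = ⊤ := by
  haveI := hN
  have hK := card_sylow_of_normal (p := 3) N h3
  by_contra hne
  refine hmin N ?_ (hK.trans h22)
  have h1 := Subgroup.index_mul_card N
  have h2 : N.index ≠ 1 := fun h => hne (Subgroup.index_eq_one.mp h)
  have h0 : N.index ≠ 0 := Subgroup.index_ne_zero_of_finite
  have hpos : 0 < Nat.card N := Nat.card_pos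
  have h2' : 2 ≤ N.index := by omega
  nlinarith

/-- In a minimal counterexample every element acts as an even permutation. -/
theorem even_perm [Fintype (Sylow 3 G)] [DecidableEq (Sylow 3 G)]
    (hnormal : ∀ N : Subgroup G, N.Normal → ¬ 3 ∣ N.index → N = ⊤) (g : G) :
    Equiv.Perm.sign (MulAction.toPerm g : Equiv.Perm (Sylow 3 G)) = 1 := by
  let φ : G →* ℤˣ := Equiv.Perm.sign.comp (MulAction.toPermHom G (Sylow 3 G))
  have hidx : φ.ker.index ∣ 2 := by
    rw [Subgroup.index_ker]
    have : Nat.card φ.range ∣ Nat.card ℤˣ := Subgroup.card_subgroup_dvd_card _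
    have h2 : Nat.card ℤˣ = 2 := by rw [Nat.card_eq_fintype_card, Fintype.card_units_int]
    rwa [h2] at this
  have h3 : ¬ 3 ∣ φ.ker.index := fun h => by
    have := Nat.le_of_dvd (by norm_num) (h.trans hidx)
    omega
  have htop := hnormal φ.ker inferInstance h3
  have hmem : g ∈ φ.ker := by rw [htop]; exact Subgroup.mem_top g
  exact MonoidHom.mem_ker.mp hmem

theorem main : ∀ n : ℕ, ∀ (G : Type u) [Group G] [Finite G], Nat.card G = n →
    Nat.card (Sylow 3 G) ≠ 22 := by
  intro n
  induction n using Nat.strong_induction_on with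
  | _ n IH =>
  intro G _ _ hn h22
  classical
  haveI : Fintype (Sylow 3 G) := Fintype.ofFinite _
  have hmin : ∀ (H : Type u) [Group H] [Finite H], Nat.card H < Nat.card G →
      Nat.card (Sylow 3 H) ≠ 22 :=
    fun H _ _ hlt => IH (Nat.card H) (hn ▸ hlt) H rfl
  have hfaith := faithful h22 hmin
  have hnormal := normal_top h22 hmin
  have heven := even_perm hnormal
  have h3 := fun P : Sylow 3 G =>
    Cfsg.Agent.Lib.Helper19.Syl22A.card_sylow_eq_three h22 hfaith P
  exact Cfsg.Agent.Lib.Helper19.Syl22B.ti_contra h22 hfaith heven hnormal h3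

/-- No finite group has exactly 22 Sylow 3-subgroups. -/
theorem result {G : Type*} [Group G] [Finite G] : Nat.card (Sylow 3 G) ≠ 22 :=
  main _ G rfl

end Cfsg.Agent.S4346
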