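import Mathlib
import Cfsg.Statements.S0912
import Cfsg.Agent.Lib.Helper24.Osima
import Cfsg.Agent.Lib.Helper24.NormalPCentral
import Cfsg.Agent.Lib.Helper13.Cores

set_option autoImplicit false
open Cfsg

namespace Cfsg.Agent.S0912

open Cfsg.Agent.Lib.Helper24 Cfsg.Agent.Lib.Helper13

theorem result {G : Type*} [Group G] [Finite G] (p : ℕ) [Fact p.Prime] (M : Ideal Cfsg.AlgInt) (hM : Cfsg.IsPModular p M) (B : Set (Cfsg.IrrCharacter G)) (hB : Cfsg.IsPBlock M B) (D : Subgroup G) (hD : Cfsg.IsDefectGroup p M B D) : Cfsg.pCore p G ≤ D := by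
  have : Fintype G := Fintype.ofFinite G
  obtain ⟨g, hg, P, rfl⟩ := hD
  obtain ⟨χ₀, rfl⟩ := hB
  have hχ₀ : χ₀ ∈ Cfsg.blockOf M (χ₀ : G → ℂ) := sameBlock_refl hM _
  have hQn : (Cfsg.pCore p G).Normal := pCore_normal p G
  have hQp : IsPGroup p (Cfsg.pCore p G) := pCore_isPGroup p
  have hgC : g ∈ Subgroup.centralizer ((Cfsg.pCore p G : Subgroup G) : Set G) := by
    by_contra hcon
    exact hg.2.2 χ₀ hχ₀
      (centralChar_memLocalIdeal_of_notMem_centralizer hM (Cfsg.pCore p G) hQp g hcon χ₀)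
  have hQC : Cfsg.pCore p G ≤ Subgroup.centralizer ({g} : Set G) := by
    intro q hq
    rw [Subgroup.mem_centralizer_singleton_iff]
    exact ((Subgroup.mem_centralizer_iff.mp hgC) q hq)
  -- the core inside the centralizer
  have hQ'n : ((Cfsg.pCore p G).subgroupOf (Subgroup.centralizer ({g} : Set G))).Normal :=
    inferInstance
  have hQ'p : IsPGroup p ((Cfsg.pCore p G).subgroupOf (Subgroup.centralizer ({g} : Set G))) :=
    hQp.comap_subtype
  have hle : (Cfsg.pCore p G).subgroupOf (Subgroup.centralizer ({g} : Set G))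
      ≤ (P : Subgroup (Subgroup.centralizer ({g} : Set G))) := hQ'p.le_sylow_of_normal P
  intro q hq
  rw [Subgroup.mem_map]
  refine ⟨⟨q, hQC hq⟩, ?_, rfl⟩
  apply hle
  rw [Subgroup.mem_subgroupOf]
  exact hq

end Cfsg.Agent.S0912
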