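import Mathlib
import Cfsg.Statements.S0917
import Cfsg.Agent.Lib.Helper7.MinMax
import Cfsg.Agent.Lib.Helper7.DefectClass
import Cfsg.Agent.Lib.Helper7.InducedBlock

set_option autoImplicit false
open Cfsg

namespace Cfsg.Agent.S0917

open Cfsg.Agent.Lib.Helper7 Cfsg.Agent.Lib.Helper24 Cfsg.Agent.Lib.Helper2

/-- Let H be a subgroup of the finite group G, p a prime and M a maximal ideal of the algebraic integers containing p. If the block b of H induces the block B of G relative to M, then every defect group of b (a subgroup of H, viewed in G) is contained in some defect group of B. -/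
theorem result {G : Type*} [Group G] [Finite G] (p : ℕ) [Fact p.Prime] (M : Ideal Cfsg.AlgInt) (hM : Cfsg.IsPModular p M) (H : Subgroup G) (b : Set (Cfsg.IrrCharacter H)) (hb : Cfsg.IsPBlock M b) (B : Set (Cfsg.IrrCharacter G)) (hB : Cfsg.IsPBlock M B) (hind : Cfsg.IsInducedBlock M H b B) (D : Subgroup H) (hD : Cfsg.IsDefectGroup p M b D) : ∃ E : Subgroup G, Cfsg.IsDefectGroup p M B E ∧ D.map H.subtype ≤ E := by
  classical
  letI : Fintype G := Fintype.ofFinite G
  letI : Fintype H := Fintype.ofFinite H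
  obtain ⟨k, hk, Q, rfl⟩ := hD
  obtain ⟨g, hg⟩ := Cfsg.Agent.Lib.Helper24.exists_isDefectClass hM B hB
  obtain ⟨ξ, hξ⟩ := isPBlock_nonempty hM hb
  obtain ⟨χ, hχ⟩ := isPBlock_nonempty hM hB
  -- the induced central character at g is a unit
  have h1 : ¬ Cfsg.MemLocalIdeal M (Cfsg.inducedCentralChar H (ξ : H → ℂ) g) := by
    intro hcon
    apply hg.2.2 χ hχ
    have := hind.2.2 ξ hξ χ hχ g
    have h2 := memLocalIdeal_sub hM hcon this
    rwa [sub_sub_cancel] at h2
  rw [inducedCentralChar_eq_omega] at h1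
  obtain ⟨l, hl1, hl2⟩ := exists_not_memLocalIdeal_of_omega hM ξ (classIndicatorOn H g)
    (classIndicatorOn_isClassFunction H g) (classIndicatorOn_memLocalRing H hM g) h1
  have hconj : IsConj g (l : G) := by
    by_contra hn
    apply hl1
    unfold classIndicatorOn classIndicator
    rw [if_neg hn]
    exact memLocalIdeal_zero hM
  -- min-max in H
  obtain ⟨Ql⟩ : Nonempty (Sylow p (Subgroup.centralizer ({l} : Set H))) := inferInstance
  have hmm := minmax hM b hb l k Ql ξ hξ hl2 hk.2.1
  obtain ⟨x, hx⟩ := hmm.forall Q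
  -- the element x l x⁻¹ of G is a defect class of B
  obtain ⟨c, hc⟩ := isConj_iff.mp hconj
  have hdc : Cfsg.IsDefectClass M B ((x : G) * (l : G) * (x : G)⁻¹) := by
    rw [← hc]
    have := isDefectClass_conj (isDefectClass_conj hg c) (x : G)
    exact this
  -- the p-subgroup
  have hPle : (((Ql : Subgroup (Subgroup.centralizer ({l} : Set H))).map
      (Subgroup.centralizer ({l} : Set H)).subtype).map (MulAut.conj x).toMonoidHom).map H.subtype
      ≤ Subgroup.centralizer ({(x : G) * (l : G) * (x : G)⁻¹} : Set G) := by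
    rintro _ ⟨_, ⟨_, ⟨v, _, rfl⟩, rfl⟩, rfl⟩
    have hv := v.2
    rw [Subgroup.mem_centralizer_singleton_iff] at hv ⊢
    have hv' : ((v : H) : G) * (l : G) = (l : G) * ((v : H) : G) := by
      have := congrArg (Subtype.val : H → G) hv
      simpa using this
    simp only [MulEquiv.coe_toMonoidHom, MulAut.conj_apply, Subgroup.coe_subtype,
      Subgroup.coe_mul, Subgroup.coe_inv]
    calc (x : G) * ((v : H) : G) * (x : G)⁻¹ * ((x : G) * (l : G) * (x : G)⁻¹)
        = (x : G) * (((v : H) : G) * (l : G)) * (x : G)⁻¹ := by group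
      _ = (x : G) * ((l : G) * ((v : H) : G)) * (x : G)⁻¹ := by rw [hv']
      _ = (x : G) * (l : G) * (x : G)⁻¹ * ((x : G) * ((v : H) : G) * (x : G)⁻¹) := by group
  have hPp : IsPGroup p ((((Ql : Subgroup (Subgroup.centralizer ({l} : Set H))).map
      (Subgroup.centralizer ({l} : Set H)).subtype).map (MulAut.conj x).toMonoidHom).map
      H.subtype) := ((Ql.2.map _).map _).map _
  have hPp' : IsPGroup p (((((Ql : Subgroup (Subgroup.centralizer ({l} : Set H))).map
      (Subgroup.centralizer ({l} : Set H)).subtype).map (MulAut.conj x).toMonoidHom).map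
      H.subtype).subgroupOf (Subgroup.centralizer ({(x : G) * (l : G) * (x : G)⁻¹} : Set G))) :=
    hPp.comap_of_injective _ (Subgroup.subtype_injective _)
  obtain ⟨S, hS⟩ := hPp'.exists_le_sylow
  refine ⟨_, ⟨_, hdc, S, rfl⟩, ?_⟩
  rintro _ ⟨u, hu, rfl⟩
  have hu1 : u ∈ ((Ql : Subgroup (Subgroup.centralizer ({l} : Set H))).map
      (Subgroup.centralizer ({l} : Set H)).subtype).map (MulAut.conj x).toMonoidHom := hx hu
  have hu2 : H.subtype u ∈ (((Ql : Subgroup (Subgroup.centralizer ({l} : Set H))).map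
      (Subgroup.centralizer ({l} : Set H)).subtype).map (MulAut.conj x).toMonoidHom).map
      H.subtype := ⟨u, hu1, rfl⟩
  have hu3 := hPle hu2
  refine ⟨⟨H.subtype u, hu3⟩, ?_, rfl⟩
  apply hS
  rw [Subgroup.mem_subgroupOf]
  exact hu2

end Cfsg.Agent.S0917
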