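import Mathlib
import Cfsg.Statements.S0914
import Cfsg.Agent.Lib.Helper24.BlockOrtho
import Cfsg.Agent.Lib.Helper24.Defect
import Cfsg.Agent.Lib.Helper7.DefectClass
import Cfsg.Agent.Lib.Helper25.Codegree
import Cfsg.Agent.Lib.Helper2.Linear
import Cfsg.Agent.Lib.Helper7.PPrimeNormal

set_option autoImplicit false
open Cfsg

namespace Cfsg.Agent.S0914

open Cfsg.Agent.Lib.Helper7 Cfsg.Agent.Lib.Helper24 Cfsg.Agent.Lib.Helper2
open scoped ComplexConjugate

/-- Let χ be an irreducible character of the finite group G, p a prime and M a maximal ideal of the algebraic integers containing p. Then p does not divide the integer (Nat.card G) / χ(1) if and only if the block of χ relative to M consists of χ alone. -/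
theorem result {G : Type*} [Group G] [Finite G] (p : ℕ) [Fact p.Prime] (M : Ideal Cfsg.AlgInt) (hM : Cfsg.IsPModular p M) (χ : Cfsg.IrrCharacter G) : ¬ p ∣ Nat.card G / Cfsg.charDegree (χ : G → ℂ) ↔ Cfsg.blockOf M (χ : G → ℂ) = {χ} := by
  classical
  letI : Fintype G := Fintype.ofFinite G
  have hp : p.Prime := Fact.out
  have hdvd : Cfsg.charDegree (χ : G → ℂ) ∣ Nat.card G :=
    Cfsg.Agent.Lib.Helper25.charDegree_dvd_card χ.2
  have hχ1 : (χ : G → ℂ) 1 = (Cfsg.charDegree (χ : G → ℂ) : ℂ) :=
    Cfsg.Agent.Lib.Helper25.char_one_eq_charDegree (Cfsg.Agent.Lib.Helper25.isCharacter_of_irr χ.2)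
  have hne : (χ : G → ℂ) 1 ≠ 0 := Cfsg.Agent.Lib.Helper25.irr_one_ne_zero χ.2
  have hdpos : 0 < Cfsg.charDegree (χ : G → ℂ) := by
    rcases Nat.eq_zero_or_pos (Cfsg.charDegree (χ : G → ℂ)) with h | h
    · rw [h, Nat.cast_zero] at hχ1; exact absurd hχ1 hne
    · exact h
  have hself : χ ∈ Cfsg.blockOf M (χ : G → ℂ) := sameBlock_refl hM _
  constructor
  · intro hnd
    have hA : ∀ g : G, Cfsg.MemLocalRing M (Cfsg.blockCoeff ({χ} : Set (Cfsg.IrrCharacter G)) g) := by
      intro g
      unfold Cfsg.blockCoeff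
      rw [finsum_mem_singleton]
      obtain ⟨m, hm⟩ := hdvd
      have hm' : Nat.card G / Cfsg.charDegree (χ : G → ℂ) = m := by
        rw [hm]; exact Nat.mul_div_cancel_left m hdpos
      rw [hm'] at hnd
      have hmne : (m : ℂ) ≠ 0 := by
        intro h0
        have : m = 0 := by exact_mod_cast h0
        rw [this] at hnd
        exact hnd (dvd_zero p)
      have hdne : (Cfsg.charDegree (χ : G → ℂ) : ℂ) ≠ 0 := by rw [← hχ1]; exact hne
      have e : (Nat.card G : ℂ)⁻¹ * ((χ : G → ℂ) 1 * conj ((χ : G → ℂ) g))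
          = (m : ℂ)⁻¹ * conj ((χ : G → ℂ) g) := by
        rw [hm, hχ1]; push_cast; field_simp
      rw [e]
      apply memLocalRing_mul hM (memLocalRing_natCast_inv hM hnd)
      exact memLocalRing_of_isIntegral hM (irr_value_conj_isIntegral χ g)
    have hsub := blockOf_subset_of_memLocalRing hM {χ} hA χ rfl
    apply Set.Subset.antisymm hsub
    intro ψ hψ
    rw [Set.mem_singleton_iff] at hψ
    rw [hψ]; exact hself
  · intro hB
    have hBl : Cfsg.IsPBlock M ({χ} : Set (Cfsg.IrrCharacter G)) := ⟨χ, hB.symm⟩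
    have hvan : ∀ y : G, p ∣ orderOf y → (χ : G → ℂ) y = 0 := by
      intro y hy
      have := blockCoeff_eq_zero_of_singular hM _ hBl y hy
      unfold Cfsg.blockCoeff at this
      rw [finsum_mem_singleton] at this
      have hG : (Nat.card G : ℂ)⁻¹ ≠ 0 := inv_ne_zero card_ne_zero_complex
      rcases mul_eq_zero.mp this with h | h
      · exact absurd h hG
      · rcases mul_eq_zero.mp h with h | h
        · exact absurd h hne
        · simpa using h
    obtain ⟨P⟩ : Nonempty (Sylow p G) := inferInstance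
    obtain ⟨k, hk⟩ := card_dvd_degree_of_vanish (P : Subgroup G) (χ : G → ℂ)
      (IsIrrCharacter.isCharacter χ.2) (by
        intro g hg hg1
        apply hvan
        obtain ⟨j, hj⟩ := (IsPGroup.iff_orderOf.mp P.2) ⟨g, hg⟩
        have hj' : orderOf g = p ^ j := by
          rw [← hj]; exact (Subgroup.orderOf_mk g hg).symm
        rw [hj']
        rcases Nat.eq_zero_or_pos j with h0 | hpos
        · rw [h0, pow_zero, orderOf_eq_one_iff] at hj'
          exact absurd hj' hg1
        · exact dvd_pow_self p hpos.ne')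
    rw [hχ1] at hk
    have hk' : Cfsg.charDegree (χ : G → ℂ) = Nat.card (P : Subgroup G) * k := by exact_mod_cast hk
    have hPcard : Nat.card (P : Subgroup G) = p ^ (Nat.card G).factorization p :=
      P.card_eq_multiplicity
    intro hdiv
    obtain ⟨m, hm⟩ := hdvd
    have hm' : Nat.card G / Cfsg.charDegree (χ : G → ℂ) = m := by
      rw [hm]; exact Nat.mul_div_cancel_left m hdpos
    rw [hm'] at hdiv
    obtain ⟨a, ha⟩ : ∃ a, a = (Nat.card G).factorization p := ⟨_, rfl⟩
    rw [← ha] at hPcard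
    have h1 : p ^ (a + 1) ∣ Nat.card G := by
      rw [hm, hk', hPcard, pow_succ]
      obtain ⟨m', rfl⟩ := hdiv
      exact ⟨k * m', by ring⟩
    have hG0 : Nat.card G ≠ 0 := Nat.card_pos.ne'
    have := (hp.pow_dvd_iff_le_factorization hG0).mp h1
    omega

end Cfsg.Agent.S0914
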