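import Cfsg.Statements.S0910
import Cfsg.Agent.Lib.Helper2.Burnside
import Cfsg.Agent.Lib.Helper2.BurnsidePQ
import Cfsg.Agent.Lib.Helper24.Loc
import Cfsg.Agent.Lib.Helper25.Codegree

set_option autoImplicit false
open Cfsg
open Cfsg.Agent.Lib.Helper2 Cfsg.Agent.Lib.Helper24
open Module

namespace Cfsg.Agent.S0910

/-- Let G be a non-abelian finite simple group and p a prime. If an irreducible character χ lies in the principal block (relative to a maximal ideal of the algebraic integers containing p) and χ 1 is a power of p, then χ is the principal character. -/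
theorem result {G : Type*} [Group G] [Finite G] (p : ℕ) [Fact p.Prime] (M : Ideal Cfsg.AlgInt) (hM : Cfsg.IsPModular p M) [IsSimpleGroup G] (hna : ∃ a b : G, a * b ≠ b * a) (χ : Cfsg.IrrCharacter G) (hχ : χ ∈ Cfsg.principalBlock M G) (k : ℕ) (hdeg : (χ : G → ℂ) 1 = (p : ℂ) ^ k) : (χ : G → ℂ) = fun _ => 1 := by
  classical
  letI : Fintype G := Fintype.ofFinite G
  have hp : p.Prime := Fact.out
  by_contra hne
  obtain ⟨n, ρ, hρ, hρχ⟩ := χ.2
  haveI := hρ
  have hnt : ρ.character ≠ fun _ => 1 := by rw [hρχ]; exact hne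
  have hab : ¬ ∀ a b : G, a * b = b * a := by
    obtain ⟨a, b, h⟩ := hna
    intro h'
    exact h (h' a b)
  have hsc := scalarSubgroup_eq_bot_of_simple hab ρ hnt
  have hfr : finrank ℂ (Fin n → ℂ) = n := Module.finrank_fin_fun ℂ
  have hdeg' : (n : ℂ) = (p : ℂ) ^ k := by
    rw [← hdeg, ← hρχ, Representation.char_one, hfr]
  have hn : n = p ^ k := by exact_mod_cast hdeg'
  -- a nontrivial element with class size prime to `p`
  have hex : ∃ g : G, g ≠ 1 ∧ ¬ p ∣ (Subgroup.centralizer ({g} : Set G)).index := by
    obtain ⟨P⟩ : Nonempty (Sylow p G) := inferInstance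
    by_cases hP : (P : Subgroup G) = ⊥
    · -- then `p ∤ |G|`
      obtain ⟨a, b, hab'⟩ := hna
      have ha1 : a ≠ 1 := by
        rintro rfl
        apply hab'; simp
      refine ⟨a, ha1, ?_⟩
      intro hd
      have h1 : p ∣ Nat.card G := hd.trans (Subgroup.index_dvd_card _)
      have h2 := P.dvd_card_of_dvd_card h1
      rw [hP, Subgroup.card_bot] at h2
      exact hp.one_lt.ne' (Nat.dvd_one.mp h2)
    · haveI : Nontrivial (P : Subgroup G) := (Subgroup.nontrivial_iff_ne_bot _).mpr hP
      haveI : Nontrivial (Subgroup.center (P : Subgroup G)) :=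
        IsPGroup.center_nontrivial P.isPGroup'
      obtain ⟨z, hz⟩ := exists_ne (1 : Subgroup.center (P : Subgroup G))
      refine ⟨((z : (P : Subgroup G)) : G), ?_, ?_⟩
      · intro h1
        apply hz
        apply Subtype.ext
        apply Subtype.ext
        exact h1
      · have hle : (P : Subgroup G) ≤ Subgroup.centralizer ({((z : (P : Subgroup G)) : G)} : Set G) := by
          intro x hx
          rw [Subgroup.mem_centralizer_iff]
          intro y hy
          rw [Set.mem_singleton_iff] at hy
          subst hy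
          have := Subgroup.mem_center_iff.mp z.2 ⟨x, hx⟩
          have h2 := congrArg (fun w : (P : Subgroup G) => (w : G)) this
          exact h2.symm
        intro hd
        exact P.not_dvd_index (hd.trans (Subgroup.index_dvd_of_le hle))
  obtain ⟨g, hg1, hgp⟩ := hex
  have hcop : Nat.Coprime (finrank ℂ (Fin n → ℂ)) (Subgroup.centralizer ({g} : Set G)).index := by
    rw [hfr, hn]
    apply Nat.Coprime.pow_left
    exact (Nat.Prime.coprime_iff_not_dvd hp).mpr hgp
  have hχg : (χ : G → ℂ) g = 0 := by
    rcases char_eq_zero_or_norm_eq_of_coprime ρ g hcop with h0 | h0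
    · rw [← hρχ]; exact h0
    · exfalso
      have hmem : g ∈ scalarSubgroup ρ := (norm_char_eq_finrank_iff ρ g).mp h0
      rw [hsc, Subgroup.mem_bot] at hmem
      exact hg1 hmem
  have hblock := hχ g
  unfold Cfsg.centralChar at hblock
  rw [hχg] at hblock
  simp only [mul_one, div_one, mul_zero, zero_div, sub_zero] at hblock
  exact hgp ((memLocalIdeal_natCast_iff hM _).mp hblock)

end Cfsg.Agent.S0910
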