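import Cfsg.Statements.S0904
import Cfsg.Agent.S0907
import Cfsg.Agent.S0910
import Cfsg.Agent.Lib.Helper7.NormalDefect
import Cfsg.Agent.Lib.Helper25.EvenDegree
import Cfsg.Agent.Lib.Helper25.Codegree
import Cfsg.Agent.Lib.Helper24.Defect
import Cfsg.Agent.Lib.Helper24.BlockBasic
import Cfsg.Agent.Lib.Helper2.Integrality

set_option autoImplicit false
open Cfsg
open Cfsg.Agent.Lib.Helper7 Cfsg.Agent.Lib.Helper2 Cfsg.Agent.Lib.Helper24
open scoped ComplexConjugate

namespace Cfsg.Agent.S0904

/-- In a nonabelian simple group of order `p ^ a * q ^ b * r` no element has order divisible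
by both `p` and `r`. -/
theorem no_mixed_element {G : Type*} [Group G] [Finite G] [IsSimpleGroup G]
    (hna : ∃ a b : G, a * b ≠ b * a) (p q r a b : ℕ) (hp : p.Prime) (hq : q.Prime)
    (hr : r.Prime) (hpr : p ≠ r) (hqr : q ≠ r)
    (hcard : Nat.card G = p ^ a * q ^ b * r) (y : G) (hpy : p ∣ orderOf y) (hry : r ∣ orderOf y) :
    False := by
  classical
  letI : Fintype G := Fintype.ofFinite G
  letI : Fintype (Cfsg.IrrCharacter G) := Fintype.ofFinite _
  haveI : Fact p.Prime := ⟨hp⟩
  haveI : Fact r.Prime := ⟨hr⟩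
  obtain ⟨M, hM⟩ := Cfsg.Agent.Lib.Helper25.exists_isPModular p hp
  obtain ⟨M', hM'⟩ := Cfsg.Agent.Lib.Helper25.exists_isPModular r hr
  set B := Cfsg.principalBlock M G with hBdef
  have hB : Cfsg.IsPBlock M B := ⟨trivialIrr G, rfl⟩
  have h0 := Cfsg.Agent.S0907.result p M hM B hB 1 y
    (by rw [orderOf_one]; exact fun h => hp.one_lt.ne' (Nat.dvd_one.mp h)) hpy
  rw [finsum_mem_eq_sum_ite] at h0
  have htriv : trivialIrr G ∈ B := mem_blockOf_self hM (trivialIrr G)
  -- the nontrivial members contribute multiples of `q`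
  have key : ∀ χ : Cfsg.IrrCharacter G, χ ≠ trivialIrr G →
      ∃ β : ℂ, IsIntegral ℤ β ∧
        (if χ ∈ B then (χ : G → ℂ) 1 * conj ((χ : G → ℂ) y) else 0) = (q : ℂ) * β := by
    intro χ hχ
    by_cases hχB : χ ∈ B
    · rw [if_pos hχB]
      have hdeg := Cfsg.Agent.Lib.Helper25.char_one_eq_charDegree (IsIrrCharacter.isCharacter χ.2)
      have hdvd := Cfsg.Agent.Lib.Helper25.charDegree_dvd_card χ.2
      set d := Cfsg.charDegree (χ : G → ℂ) with hd
      by_cases hrd : r ∣ d
      · -- defect zero for `r`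
        have hnd : ¬ r ∣ Nat.card G / d := by
          obtain ⟨d', hd'⟩ := hrd
          have hdpos : 0 < d := Cfsg.Agent.Lib.Helper25.irr_degree_pos χ.2
          have hd'pos : 0 < d' := by
            rcases Nat.eq_zero_or_pos d' with h | h
            · rw [h, mul_zero] at hd'; omega
            · exact h
          intro hdiv
          have h1 : r * d ∣ Nat.card G := by
            have := Nat.mul_dvd_of_dvd_div hdvd hdiv
            rwa [mul_comm] at this
          rw [hcard, hd', ← mul_assoc, mul_comm (r * r) d', mul_comm (p ^ a * q ^ b) r] at h1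
          have h2 : d' * (r * r) ∣ r * (p ^ a * q ^ b) := h1
          have h3 : r * r ∣ r * (p ^ a * q ^ b) := (dvd_mul_left _ _).trans h2
          have h4 : r ∣ p ^ a * q ^ b := (Nat.mul_dvd_mul_iff_left hr.pos).mp h3
          rcases (Nat.Prime.dvd_mul hr).mp h4 with h5 | h5
          · exact hpr ((Nat.prime_dvd_prime_iff_eq hr hp).mp (hr.dvd_of_dvd_pow h5)).symm
          · exact hqr ((Nat.prime_dvd_prime_iff_eq hr hq).mp (hr.dvd_of_dvd_pow h5)).symm
        have hz := irr_eq_zero_of_singular_of_not_dvd hM' χ hnd y hry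
        refine ⟨0, isIntegral_zero, ?_⟩
        rw [hz]; simp
      · -- degree `p ^ i * q ^ j`
        have h1 : d ∣ p ^ a * q ^ b := by
          have hcop : Nat.Coprime d r := ((Nat.Prime.coprime_iff_not_dvd hr).mpr hrd).symm
          rw [hcard] at hdvd
          exact Nat.Coprime.dvd_of_dvd_mul_right hcop hdvd
        obtain ⟨i, j, _, _, hij⟩ := dvd_prime_pow_mul_prime_pow hp hq h1
        have hj : j ≠ 0 := by
          rintro rfl
          apply hχ
          apply Subtype.ext
          have := Cfsg.Agent.S0910.result p M hM hna χ hχB i (by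
            rw [hdeg, hij]; push_cast; ring)
          rw [this]; rfl
        obtain ⟨j', rfl⟩ := Nat.exists_eq_succ_of_ne_zero hj
        refine ⟨((p ^ i * q ^ j' : ℕ) : ℂ) * conj ((χ : G → ℂ) y), ?_, ?_⟩
        · apply IsIntegral.mul isIntegral_algebraMap
          obtain ⟨n, ρ, _, hρ⟩ := χ.2
          rw [← hρ]
          exact (char_isIntegral ρ y).map (starRingEnd ℂ : ℂ →+* ℂ).toIntAlgHom
        · rw [hdeg, hij, pow_succ]; push_cast; ring
    · rw [if_neg hχB]
      exact ⟨0, isIntegral_zero, by simp⟩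
  choose! β hβint hβ using key
  rw [← Finset.add_sum_erase Finset.univ _ (Finset.mem_univ (trivialIrr G))] at h0
  rw [if_pos htriv] at h0
  have h1 : ((trivialIrr G : Cfsg.IrrCharacter G) : G → ℂ) 1
      * conj (((trivialIrr G : Cfsg.IrrCharacter G) : G → ℂ) y) = 1 := by
    simp [trivialIrr]
  rw [h1] at h0
  have h2 : ∑ χ ∈ Finset.univ.erase (trivialIrr G),
      (if χ ∈ B then (χ : G → ℂ) 1 * conj ((χ : G → ℂ) y) else 0)
      = (q : ℂ) * ∑ χ ∈ Finset.univ.erase (trivialIrr G), β χ := by
    rw [Finset.mul_sum]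
    apply Finset.sum_congr rfl
    intro χ hχ
    exact hβ χ (Finset.ne_of_mem_erase hχ)
  rw [h2] at h0
  have hBint : IsIntegral ℤ (∑ χ ∈ Finset.univ.erase (trivialIrr G), β χ) := by
    apply IsIntegral.sum
    intro χ hχ
    exact hβint χ (Finset.ne_of_mem_erase hχ)
  set S := ∑ χ ∈ Finset.univ.erase (trivialIrr G), β χ with hSdef
  have hqne : (q : ℂ) ≠ 0 := by exact_mod_cast hq.ne_zero
  have hSval : S = ((-1 / q : ℚ) : ℂ) := by
    push_cast
    field_simp
    linear_combination h0
  obtain ⟨z, hz⟩ := exists_int_of_isIntegral_of_rat (-1 / q : ℚ) hSval hBint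
  rw [hSval] at hz
  have h3 : (-1 : ℚ) / q = z := by exact_mod_cast hz
  have hqq : (q : ℚ) ≠ 0 := by exact_mod_cast hq.ne_zero
  have h4 : (-1 : ℚ) = z * q := by
    rw [← h3]; field_simp
  have h5 : (-1 : ℤ) = z * q := by exact_mod_cast h4
  have h6 : (q : ℤ) ∣ 1 := ⟨-z, by linarith⟩
  have h7 : q ∣ 1 := by exact_mod_cast h6
  exact hq.one_lt.ne' (Nat.dvd_one.mp h7)

/-- Let G be a finite simple group of order p ^ a * q ^ b * r with p, q, r distinct primes. Then every Sylow r-subgroup S of G satisfies C_G(S) = S. -/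
theorem result {G : Type*} [Group G] [Finite G] [IsSimpleGroup G] (p q r a b : ℕ) (hp : p.Prime) (hq : q.Prime) [Fact r.Prime] (hpq : p ≠ q) (hpr : p ≠ r) (hqr : q ≠ r) (hcard : Nat.card G = p ^ a * q ^ b * r) (S : Sylow r G) : Subgroup.centralizer (S : Set G) = (S : Subgroup G) := by
  classical
  show Subgroup.centralizer ((S : Subgroup G) : Set G) = (S : Subgroup G)
  have hr : r.Prime := Fact.out
  have hcop : Nat.Coprime r (p ^ a * q ^ b) := by
    apply Nat.Coprime.mul_right
    · exact Nat.Coprime.pow_right _ ((Nat.coprime_primes hr hp).mpr (Ne.symm hpr))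
    · exact Nat.Coprime.pow_right _ ((Nat.coprime_primes hr hq).mpr (Ne.symm hqr))
  -- `|S| = r`
  have hSr : Nat.card (S : Subgroup G) = r := by
    obtain ⟨k, hk⟩ := IsPGroup.iff_card.mp S.isPGroup'
    have h1 : r ∣ Nat.card (S : Subgroup G) :=
      S.dvd_card_of_dvd_card (by rw [hcard]; exact dvd_mul_left _ _)
    have h2 : Nat.card (S : Subgroup G) ∣ p ^ a * q ^ b * r :=
      hcard ▸ Subgroup.card_subgroup_dvd_card _
    rw [hk] at h1 h2 ⊢
    have h3 : r ^ k ∣ r := by
      have : Nat.Coprime (r ^ k) (p ^ a * q ^ b) := Nat.Coprime.pow_left _ hcop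
      exact Nat.Coprime.dvd_of_dvd_mul_left this h2
    have h4 : k ≤ 1 := by
      by_contra hk2
      push Not at hk2
      have : r ^ 2 ∣ r := (pow_dvd_pow r hk2).trans h3
      have h5 : r ^ 2 ≤ r := Nat.le_of_dvd hr.pos this
      have := hr.one_lt
      nlinarith
    have h5 : k ≠ 0 := by
      rintro rfl
      rw [pow_zero] at h1
      exact hr.one_lt.ne' (Nat.dvd_one.mp h1)
    have : k = 1 := by omega
    rw [this, pow_one]
  by_cases hab : ∀ x y : G, x * y = y * x
  · have hcent : Subgroup.centralizer ((S : Subgroup G) : Set G) = ⊤ := by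
      rw [eq_top_iff]
      intro x _
      rw [Subgroup.mem_centralizer_iff]
      intro y _
      exact hab y x
    have hprime : (Nat.card G).Prime := by
      let _ : CommGroup G := { ‹Group G› with mul_comm := hab }
      exact IsSimpleGroup.prime_card
    have h1 : r = Nat.card G :=
      (Nat.prime_dvd_prime_iff_eq hr hprime).mp (by rw [hcard]; exact dvd_mul_left _ _)
    have h2 : (S : Subgroup G) = ⊤ := by
      rw [← Subgroup.card_eq_iff_eq_top, hSr, h1]
    rw [hcent, h2]
  · have hna : ∃ x y : G, x * y ≠ y * x := by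
      push Not at hab
      exact hab
    haveI : Fact (Nat.card (S : Subgroup G)).Prime := ⟨by rw [hSr]; exact hr⟩
    haveI hcyc : IsCyclic (S : Subgroup G) := isCyclic_of_prime_card rfl
    have hScomm : ∀ s ∈ (S : Subgroup G), ∀ t ∈ (S : Subgroup G), s * t = t * s := by
      intro s hs t ht
      have := IsCyclic.commGroup.mul_comm (⟨s, hs⟩ : (S : Subgroup G)) ⟨t, ht⟩
      exact congrArg Subtype.val this
    have hSle : (S : Subgroup G) ≤ Subgroup.centralizer ((S : Subgroup G) : Set G) := by
      intro s hs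
      rw [Subgroup.mem_centralizer_iff]
      intro t ht
      exact hScomm t ht s hs
    by_contra hne
    set C := Subgroup.centralizer ((S : Subgroup G) : Set G) with hC
    have hk1 : (S : Subgroup G).relIndex C ≠ 1 := by
      intro h1
      rw [Subgroup.relIndex_eq_one] at h1
      exact hne (le_antisymm h1 hSle)
    have hcardC : Nat.card C = r * (S : Subgroup G).relIndex C := by
      have h1 := Subgroup.card_mul_index ((S : Subgroup G).subgroupOf C)
      rw [Nat.card_congr (Subgroup.subgroupOfEquivOfLe hSle).toEquiv, hSr] at h1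
      exact h1.symm
    have hkdvd : (S : Subgroup G).relIndex C ∣ p ^ a * q ^ b := by
      have h1 : Nat.card C ∣ p ^ a * q ^ b * r := hcard ▸ Subgroup.card_subgroup_dvd_card _
      rw [hcardC, mul_comm (p ^ a * q ^ b) r] at h1
      exact (Nat.mul_dvd_mul_iff_left hr.pos).mp h1
    obtain ⟨l, hl, hlk⟩ := Nat.exists_prime_and_dvd hk1
    haveI : Fact l.Prime := ⟨hl⟩
    have hlC : l ∣ Nat.card C := by rw [hcardC]; exact hlk.trans (dvd_mul_left _ _)
    obtain ⟨x, hx⟩ := exists_prime_orderOf_dvd_card' l hlC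
    obtain ⟨s, hs⟩ := exists_prime_orderOf_dvd_card' (G := (S : Subgroup G)) r (by rw [hSr])
    have hxs : Commute ((x : G)) ((s : G)) := by
      have := (Subgroup.mem_centralizer_iff.mp x.2) (s : G) s.2
      exact this.symm
    have hox : orderOf (x : G) = l := by rw [Subgroup.orderOf_coe]; exact hx
    have hos : orderOf (s : G) = r := by rw [Subgroup.orderOf_coe]; exact hs
    have hlpq : l = p ∨ l = q := by
      rcases (Nat.Prime.dvd_mul hl).mp (hlk.trans hkdvd) with h | h
      · left; exact (Nat.prime_dvd_prime_iff_eq hl hp).mp (hl.dvd_of_dvd_pow h)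
      · right; exact (Nat.prime_dvd_prime_iff_eq hl hq).mp (hl.dvd_of_dvd_pow h)
    have hlr : Nat.Coprime l r := by
      rcases hlpq with rfl | rfl
      · exact (Nat.coprime_primes hl hr).mpr hpr
      · exact (Nat.coprime_primes hl hr).mpr hqr
    have hord : orderOf ((x : G) * (s : G)) = l * r := by
      rw [hxs.orderOf_mul_eq_mul_orderOf_of_coprime (by rw [hox, hos]; exact hlr), hox, hos]
    rcases hlpq with rfl | rfl
    · exact no_mixed_element hna l q r a b hl hq hr hpr hqr hcard _
        (by rw [hord]; exact dvd_mul_right _ _) (by rw [hord]; exact dvd_mul_left _ _)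
    · exact no_mixed_element hna l p r b a hl hp hr hqr hpr (by rw [hcard]; ring) _
        (by rw [hord]; exact dvd_mul_right _ _) (by rw [hord]; exact dvd_mul_left _ _)

end Cfsg.Agent.S0904
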