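import Mathlib
import Cfsg.Statements.S0989
import Cfsg.Agent.Lib.Helper7.SylowBasic
import Cfsg.Agent.Lib.Helper7.PrimeSylowCount

set_option autoImplicit false
open Cfsg

namespace Cfsg.Agent.S0989

open Cfsg.Agent.Lib.Helper7

/-- In the symmetric group on p or p + 1 letters, p a prime, the normalizer of a Sylow p-subgroup has order p * (p - 1). -/
theorem result {α : Type*} [Fintype α] [DecidableEq α] (p : ℕ) [Fact p.Prime] (hα : Fintype.card α = p ∨ Fintype.card α = p + 1) (P : Sylow p (Equiv.Perm α)) : Nat.card ↥(Subgroup.normalizer ((P : Subgroup (Equiv.Perm α)) : Set (Equiv.Perm α))) = p * (p - 1) := by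
  have hp : p.Prime := Fact.out
  have hp2 : 2 ≤ p := hp.two_le
  have hcardG : Nat.card (Equiv.Perm α) = (Fintype.card α).factorial := by
    rw [Nat.card_eq_fintype_card, Fintype.card_perm]
  -- the p-part
  have hcardP : Nat.card (P : Subgroup (Equiv.Perm α)) = p := by
    obtain ⟨j, hj⟩ : ∃ j, p = j + 1 := ⟨p - 1, by omega⟩
    have hnd : ¬ p ∣ (j).factorial := by
      rw [hp.dvd_factorial]; omega
    rcases hα with h | h
    · have := card_sylow_subgroup_eq P 1 (j.factorial) (by
        rw [hcardG, h, pow_one]
        conv_lhs => rw [hj]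
        rw [Nat.factorial_succ, ← hj]) hnd
      rwa [pow_one] at this
    · have := card_sylow_subgroup_eq P 1 ((p + 1) * j.factorial) (by
        rw [hcardG, h, pow_one, Nat.factorial_succ]
        conv_lhs => rw [hj]
        rw [Nat.factorial_succ, ← hj]; ring) (by
          intro hd
          rcases (hp.dvd_mul).mp hd with h1 | h1
          · have : p ∣ 1 := (Nat.dvd_add_right (dvd_refl p)).mp h1
            have := Nat.le_of_dvd one_pos this
            omega
          · exact hnd h1)
      rwa [pow_one] at this
  have hX := card_orderOf_eq_prime_of_card_sylow_eq_prime P hcardP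
  -- elements of order p are the p-cycles
  have hiff : ∀ g : Equiv.Perm α, orderOf g = p ↔ g.cycleType = {p} := by
    intro g
    constructor
    · intro hg
      obtain ⟨k, hk⟩ := Equiv.Perm.cycleType_prime_order (σ := g) (hg ▸ hp)
      rw [hg] at hk
      have hsum := Equiv.Perm.sum_cycleType_le g
      rw [hk, Multiset.sum_replicate, smul_eq_mul] at hsum
      have hk0 : k = 0 := by
        by_contra hne
        have h2 : 2 ≤ k + 1 := by omega
        have h3 : 2 * p ≤ (k + 1) * p := Nat.mul_le_mul_right p h2
        rcases hα with h | h <;> omega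
      rw [hk, hk0]; rfl
    · intro hg
      rw [← Equiv.Perm.lcm_cycleType, hg]
      simp
  have hX2 : Nat.card {x : Equiv.Perm α // orderOf x = p} =
      (Finset.univ.filter (fun g : Equiv.Perm α => g.cycleType = {p})).card := by
    rw [Nat.card_eq_fintype_card, Fintype.card_subtype]
    congr 1
    ext g
    simp only [Finset.mem_filter, Finset.mem_univ, true_and]
    exact hiff g
  have hcount := Equiv.Perm.card_of_cycleType_mul_eq α ({p} : Multiset ℕ)
  have hcond : (({p} : Multiset ℕ).sum ≤ Fintype.card α ∧ ∀ a ∈ ({p} : Multiset ℕ), 2 ≤ a) := by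
    refine ⟨?_, ?_⟩
    · rw [Multiset.sum_singleton]; rcases hα with h | h <;> omega
    · intro a ha
      rw [Multiset.mem_singleton] at ha
      omega
  rw [if_pos hcond] at hcount
  have hfac : (Fintype.card α - ({p} : Multiset ℕ).sum).factorial = 1 := by
    rw [Multiset.sum_singleton]
    rcases hα with h | h
    · rw [h, Nat.sub_self]; rfl
    · rw [h, Nat.add_sub_cancel_left]; rfl
  have hprod : (∏ n ∈ ({p} : Multiset ℕ).toFinset, (({p} : Multiset ℕ).count n).factorial) = 1 := by
    simp
  rw [hfac, hprod, Multiset.prod_singleton, one_mul, mul_one, ← hX2, hX] at hcount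
  -- |N| * n_p = |G|
  have hN : Nat.card ↥(Subgroup.normalizer ((P : Subgroup (Equiv.Perm α)) : Set (Equiv.Perm α))) *
      Nat.card (Sylow p (Equiv.Perm α)) = (Fintype.card α).factorial := by
    rw [← hcardG]
    have h1 : Nat.card (Sylow p (Equiv.Perm α)) =
        (Subgroup.normalizer ((P : Subgroup (Equiv.Perm α)) : Set (Equiv.Perm α))).index :=
      Sylow.card_eq_index_normalizer P
    rw [h1]
    exact Subgroup.card_mul_index _
  have hnp : 0 < Nat.card (Sylow p (Equiv.Perm α)) := Nat.card_pos
  have : Nat.card (Sylow p (Equiv.Perm α)) *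
      Nat.card ↥(Subgroup.normalizer ((P : Subgroup (Equiv.Perm α)) : Set (Equiv.Perm α))) =
      Nat.card (Sylow p (Equiv.Perm α)) * (p * (p - 1)) := by
    rw [mul_comm, hN, ← hcount]; ring
  exact Nat.eq_of_mul_eq_mul_left hnp this

end Cfsg.Agent.S0989
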