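import Mathlib
import Cfsg.Statements.S0990
import Cfsg.Agent.Lib.Helper7.SylowBasic

set_option autoImplicit false
open Cfsg

namespace Cfsg.Agent.S0990

/-- Let p be an odd prime and P a Sylow p-subgroup of the symmetric group on a finite set with at least two elements. Then P is contained in the alternating group, and twice the order of the normalizer of P inside the alternating group equals the order of the normalizer of P in the symmetric group. -/
theorem result {α : Type*} [Fintype α] [DecidableEq α] (hα : 2 ≤ Fintype.card α) (p : ℕ) [Fact p.Prime] (hp : p ≠ 2) (P : Sylow p (Equiv.Perm α)) : (P : Subgroup (Equiv.Perm α)) ≤ alternatingGroup α ∧ 2 * Nat.card ↥(Subgroup.normalizer ((((P : Subgroup (Equiv.Perm α)).subgroupOf (alternatingGroup α) : Subgroup ↥(alternatingGroup α)) : Set ↥(alternatingGroup α)))) = Nat.card ↥(Subgroup.normalizer ((P : Subgroup (Equiv.Perm α)) : Set (Equiv.Perm α))) := by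
  have hpp : p.Prime := Fact.out
  have hnt : Nontrivial α := Fintype.one_lt_card_iff_nontrivial.mp (by omega)
  have hPA : (P : Subgroup (Equiv.Perm α)) ≤ alternatingGroup α := by
    intro σ hσ
    rw [Equiv.Perm.mem_alternatingGroup]
    obtain ⟨k, hk⟩ := P.2 ⟨σ, hσ⟩
    have hk' : σ ^ p ^ k = 1 := congrArg Subtype.val hk
    have h1 : (Equiv.Perm.sign σ) ^ p ^ k = 1 := by rw [← map_pow, hk', map_one]
    have h2 : (Equiv.Perm.sign σ) ^ 2 = 1 := by
      rcases Int.units_eq_one_or (Equiv.Perm.sign σ) with h | h <;> rw [h] <;> decide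
    have hodd : Odd (p ^ k) := (hpp.odd_of_ne_two hp).pow
    obtain ⟨j, hj⟩ := hodd
    rw [hj, pow_succ, pow_mul, h2, one_pow, one_mul] at h1
    exact h1
  refine ⟨hPA, ?_⟩
  have hfrat : Subgroup.normalizer ((P : Subgroup (Equiv.Perm α)) : Set (Equiv.Perm α)) ⊔ alternatingGroup α = ⊤ :=
    Sylow.normalizer_sup_eq_top' (N := alternatingGroup α) P hPA
  rw [← Subgroup.subgroupOf_normalizer_eq hPA]
  have h1 : (alternatingGroup α).relIndex (Subgroup.normalizer ((P : Subgroup (Equiv.Perm α)) : Set (Equiv.Perm α)) ⊔ alternatingGroup α) =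
      (alternatingGroup α).relIndex (Subgroup.normalizer ((P : Subgroup (Equiv.Perm α)) : Set (Equiv.Perm α))) :=
    Subgroup.relIndex_sup_right _ _
  rw [hfrat, Subgroup.relIndex_top_right, alternatingGroup.index_eq_two] at h1
  -- relIndex = 2
  have h2 : (alternatingGroup α ⊓ Subgroup.normalizer ((P : Subgroup (Equiv.Perm α)) : Set (Equiv.Perm α))).relIndex
      (Subgroup.normalizer ((P : Subgroup (Equiv.Perm α)) : Set (Equiv.Perm α))) = 2 := by
    rw [Subgroup.inf_relIndex_right]; exact h1.symm
  have h3 := Cfsg.Agent.Lib.Helper7.card_mul_relIndex (H := alternatingGroup α ⊓ Subgroup.normalizer ((P : Subgroup (Equiv.Perm α)) : Set (Equiv.Perm α)))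
    (K := Subgroup.normalizer ((P : Subgroup (Equiv.Perm α)) : Set (Equiv.Perm α))) inf_le_right
  rw [h2] at h3
  rw [← h3, mul_comm]
  congr 1
  have h4 : (Subgroup.normalizer ((P : Subgroup (Equiv.Perm α)) : Set (Equiv.Perm α))).subgroupOf (alternatingGroup α) =
      (alternatingGroup α ⊓ Subgroup.normalizer ((P : Subgroup (Equiv.Perm α)) : Set (Equiv.Perm α))).subgroupOf (alternatingGroup α) := by
    rw [Subgroup.inf_subgroupOf_left]
  rw [h4]
  exact Nat.card_congr (Subgroup.subgroupOfEquivOfLe inf_le_left).toEquiv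

end Cfsg.Agent.S0990
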