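import Cfsg.Statements.S5096
import Cfsg.Agent.H26.FusionNormal

set_option autoImplicit false
open Cfsg

namespace Cfsg.Agent.S5096

open Cfsg.Agent.H26 Cfsg.FusionSystem

/-- A homomorphism defined on `P ⊔ Q` mapping `P` into `R` and `Q` into `Q` maps `P ⊔ Q` into `R ⊔ Q`. -/
theorem map_sup_le {Ω : Type*} [Group Ω] {P Q R : Subgroup Ω} (ψ : ↥(P ⊔ Q) →* Ω)
    (hP : ∀ x : P, ψ (Subgroup.inclusion le_sup_left x) ∈ R)
    (hQ : ∀ x : Q, ψ (Subgroup.inclusion le_sup_right x) ∈ Q) : ∀ x : ↥(P ⊔ Q), ψ x ∈ R ⊔ Q := by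
  have key : P ⊔ Q ≤ ((R ⊔ Q).comap ψ).map (Subgroup.subtype _) := by
    rw [sup_le_iff]
    constructor
    · intro x hx
      exact ⟨⟨x, (le_sup_left : P ≤ P ⊔ Q) hx⟩, Subgroup.mem_sup_left (hP ⟨x, hx⟩), rfl⟩
    · intro x hx
      exact ⟨⟨x, (le_sup_right : Q ≤ P ⊔ Q) hx⟩, Subgroup.mem_sup_right (hQ ⟨x, hx⟩), rfl⟩
  intro x
  obtain ⟨z, hz, hzx⟩ := key x.2
  have : z = x := Subtype.ext hzx
  rw [this] at hz
  exact hz

theorem normalizerHom_le {Ω : Type*} [Group Ω] {S : Subgroup Ω} (F : Cfsg.FusionSystem S) {Q P : Subgroup Ω}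
    {φ : P →* Ω} (h : φ ∈ F.normalizerHom Q P) :
    P ≤ normalizerIn S Q ∧ ∀ x : P, φ x ∈ normalizerIn S Q := ⟨h.2.1, h.2.2.1⟩

/-- The normalizer system as a fusion system. -/
def normalizerSystem {Ω : Type*} [Group Ω] {S : Subgroup Ω} (F : Cfsg.FusionSystem S) (Q : Subgroup Ω) (hQ : Q ≤ S) :
    Cfsg.FusionSystem (normalizerIn S Q) where
  Hom P := F.normalizerHom Q P
  le_of_mem h := normalizerHom_le F h
  injective_of_mem h := F.injective_of_mem h.1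
  conj_mem := by
    intro P g hP hg
    have hPS : P ≤ S := le_trans hP inf_le_left
    have hgS : g ∈ S := hg.1
    have hgN : g ∈ Subgroup.normalizer (Q : Set Ω) := hg.2
    refine ⟨F.conj_mem hPS hgS, hP, ?_, Cfsg.conjHom (P ⊔ Q) g, F.conj_mem (sup_le hPS hQ) hgS, fun x => rfl, ?_⟩
    · intro x
      exact Subgroup.mul_mem _ (Subgroup.mul_mem _ hg (hP x.2)) (Subgroup.inv_mem _ hg)
    · ext y
      rw [mem_map_subgroupOf]
      constructor
      · rintro ⟨x, hx, rfl⟩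
        exact (Subgroup.mem_normalizer_iff.mp hgN x).mp hx
      · intro hy
        have hy' : g⁻¹ * y * g⁻¹⁻¹ ∈ Q :=
          (Subgroup.mem_normalizer_iff.mp (Subgroup.inv_mem _ hgN) y).mp hy
        refine ⟨⟨g⁻¹ * y * g⁻¹⁻¹, (le_sup_right : Q ≤ P ⊔ Q) hy'⟩, hy', ?_⟩
        show g * (g⁻¹ * y * g⁻¹⁻¹) * g⁻¹ = y
        group
  comp_mem := by
    rintro P R φ ψ ⟨hφ, hPN, hφN, φ', hφ', hφe, hφQ⟩ ⟨hψ, hRN, hψN, ψ', hψ', hψe, hψQ⟩ h
    refine ⟨F.comp_mem hφ hψ h, hPN, fun x => hψN _, ?_⟩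
    have hφ'Q : ∀ x : Q, φ' (Subgroup.inclusion le_sup_right x) ∈ Q := by
      intro x
      apply le_of_eq hφQ
      exact (mem_map_subgroupOf φ').mpr ⟨_, x.2, rfl⟩
    have h' : ∀ x : ↥(P ⊔ Q), φ' x ∈ R ⊔ Q :=
      map_sup_le φ' (fun x => by rw [hφe x]; exact h x) hφ'Q
    refine ⟨ψ'.comp (φ'.codRestrict (R ⊔ Q) h'), F.comp_mem hφ' hψ' h', ?_, ?_⟩
    · intro x
      show ψ' ⟨φ' (Subgroup.inclusion le_sup_left x), _⟩ = ψ ⟨φ x, h x⟩
      rw [← hψe ⟨φ x, h x⟩]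
      congr 1
      apply Subtype.ext
      exact hφe x
    · ext y
      rw [mem_map_subgroupOf]
      constructor
      · rintro ⟨x, hx, rfl⟩
        show ψ' ⟨φ' x, h' x⟩ ∈ Q
        have h1 : φ' x ∈ Q := by
          apply le_of_eq hφQ
          exact (mem_map_subgroupOf φ').mpr ⟨x, hx, rfl⟩
        apply le_of_eq hψQ
        exact (mem_map_subgroupOf ψ').mpr ⟨⟨φ' x, h' x⟩, h1, rfl⟩
      · intro hy
        have hy' : y ∈ (Q.subgroupOf (R ⊔ Q)).map ψ' := by rw [hψQ]; exact hy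
        rw [mem_map_subgroupOf] at hy'
        obtain ⟨z, hz, rfl⟩ := hy'
        have hz' : (z : Ω) ∈ (Q.subgroupOf (P ⊔ Q)).map φ' := by rw [hφQ]; exact hz
        rw [mem_map_subgroupOf] at hz'
        obtain ⟨x, hx, hxz⟩ := hz'
        refine ⟨x, hx, ?_⟩
        show ψ' ⟨φ' x, h' x⟩ = ψ' z
        congr 1
        exact Subtype.ext hxz
  inv_mem := by
    rintro P φ ⟨hφ, hPN, hφN, φ', hφ', hφe, hφQ⟩
    obtain ⟨ψ₀, hψ₀, hinv⟩ := F.inv_mem hφ
    obtain ⟨θ, hθ, hθinv⟩ := F.inv_mem hφ'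
    have hle : φ.range ⊔ Q ≤ φ'.range := by
      rw [sup_le_iff]
      constructor
      · rintro _ ⟨x, rfl⟩
        exact ⟨_, hφe x⟩
      · intro q hq
        have hq' : q ∈ (Q.subgroupOf (P ⊔ Q)).map φ' := by rw [hφQ]; exact hq
        obtain ⟨x, -, hx⟩ := hq'
        exact ⟨x, hx⟩
    refine ⟨ψ₀, ⟨hψ₀, ?_, ?_, θ.comp (Subgroup.inclusion hle), Fus.restrict_mem F hle hθ, ?_, ?_⟩, hinv⟩
    · rintro _ ⟨x, rfl⟩
      exact hφN x
    · rintro ⟨_, x, rfl⟩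
      rw [hinv x]
      exact hPN x.2
    · rintro ⟨_, x, rfl⟩
      rw [hinv x]
      have : (Subgroup.inclusion hle (Subgroup.inclusion le_sup_left ⟨φ x, ⟨x, rfl⟩⟩) : φ'.range) =
          ⟨φ' (Subgroup.inclusion le_sup_left x), ⟨_, rfl⟩⟩ := by
        apply Subtype.ext
        exact (hφe x).symm
      show θ _ = _
      rw [this, hθinv]
      rfl
    · ext y
      rw [mem_map_subgroupOf]
      constructor
      · rintro ⟨x, hx, rfl⟩
        have hx' : (x : Ω) ∈ (Q.subgroupOf (P ⊔ Q)).map φ' := by rw [hφQ]; exact hx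
        rw [mem_map_subgroupOf] at hx'
        obtain ⟨z, hz, hzx⟩ := hx'
        have : (Subgroup.inclusion hle x : φ'.range) = ⟨φ' z, ⟨z, rfl⟩⟩ := by
          apply Subtype.ext
          exact hzx.symm
        show θ _ ∈ Q
        rw [this, hθinv]
        exact hz
      · intro hy
        have hyQ : φ' ⟨y, (le_sup_right : Q ≤ P ⊔ Q) hy⟩ ∈ Q := by
          apply le_of_eq hφQ
          exact (mem_map_subgroupOf φ').mpr ⟨_, hy, rfl⟩
        refine ⟨⟨φ' ⟨y, (le_sup_right : Q ≤ P ⊔ Q) hy⟩, (le_sup_right : Q ≤ φ.range ⊔ Q) hyQ⟩, hyQ, ?_⟩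
        have : (Subgroup.inclusion hle ⟨φ' ⟨y, (le_sup_right : Q ≤ P ⊔ Q) hy⟩,
            (le_sup_right : Q ≤ φ.range ⊔ Q) hyQ⟩ : φ'.range) =
            ⟨φ' ⟨y, (le_sup_right : Q ≤ P ⊔ Q) hy⟩, ⟨_, rfl⟩⟩ := Subtype.ext rfl
        show θ _ = _
        rw [this, hθinv]

/-- For any fusion system over a subgroup S and any Q ≤ S, the maps of the normalizer system N_F(Q) — those maps between subgroups of N_S(Q) that extend to the subgroup generated with Q carrying Q onto Q — form a fusion system over N_S(Q). -/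
theorem result {Ω : Type*} [Group Ω] {S : Subgroup Ω} (F : Cfsg.FusionSystem S) (Q : Subgroup Ω) (hQ : Q ≤ S) : ∃ E : Cfsg.FusionSystem (Cfsg.FusionSystem.normalizerIn S Q), F.IsNormalizerSystem Q E := by
  exact ⟨normalizerSystem F Q hQ, fun P => rfl⟩

end Cfsg.Agent.S5096
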