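import Cfsg.Statements.S5097
import Cfsg.Agent.H26.FusionNormal
import Cfsg.Agent.S5096

set_option autoImplicit false
open Cfsg

namespace Cfsg.Agent.S5097

open Cfsg.Agent.H26 Cfsg.FusionSystem

/-- The centralizer system as a fusion system. -/
def centralizerSystem {Ω : Type*} [Group Ω] {S : Subgroup Ω} (F : Cfsg.FusionSystem S) (Q : Subgroup Ω) (hQ : Q ≤ S) :
    Cfsg.FusionSystem (centralizerIn S Q) where
  Hom P := F.centralizerHom Q P
  le_of_mem h := ⟨h.2.1, h.2.2.1⟩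
  injective_of_mem h := F.injective_of_mem h.1
  conj_mem := by
    intro P g hP hg
    have hPS : P ≤ S := le_trans hP inf_le_left
    have hgS : g ∈ S := hg.1
    have hgC : g ∈ Subgroup.centralizer (Q : Set Ω) := hg.2
    refine ⟨F.conj_mem hPS hgS, hP, ?_, Cfsg.conjHom (P ⊔ Q) g, F.conj_mem (sup_le hPS hQ) hgS, fun x => rfl, ?_⟩
    · intro x
      exact Subgroup.mul_mem _ (Subgroup.mul_mem _ hg (hP x.2)) (Subgroup.inv_mem _ hg)
    · intro x
      show g * (x : Ω) * g⁻¹ = x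
      have := hgC (x : Ω) x.2
      rw [← this, mul_inv_cancel_right]
  comp_mem := by
    rintro P R φ ψ ⟨hφ, hPN, hφN, φ', hφ', hφe, hφQ⟩ ⟨hψ, hRN, hψN, ψ', hψ', hψe, hψQ⟩ h
    refine ⟨F.comp_mem hφ hψ h, hPN, fun x => hψN _, ?_⟩
    have hφ'Q : ∀ x : Q, φ' (Subgroup.inclusion le_sup_right x) ∈ Q := by
      intro x
      rw [hφQ x]
      exact x.2
    have h' : ∀ x : ↥(P ⊔ Q), φ' x ∈ R ⊔ Q :=
      Cfsg.Agent.S5096.map_sup_le φ' (fun x => by rw [hφe x]; exact h x) hφ'Q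
    refine ⟨ψ'.comp (φ'.codRestrict (R ⊔ Q) h'), F.comp_mem hφ' hψ' h', ?_, ?_⟩
    · intro x
      show ψ' ⟨φ' (Subgroup.inclusion le_sup_left x), _⟩ = ψ ⟨φ x, h x⟩
      rw [← hψe ⟨φ x, h x⟩]
      congr 1
      apply Subtype.ext
      exact hφe x
    · intro x
      show ψ' ⟨φ' (Subgroup.inclusion le_sup_right x), _⟩ = x
      rw [← hψQ x]
      congr 1
      apply Subtype.ext
      exact hφQ x
  inv_mem := by
    rintro P φ ⟨hφ, hPN, hφN, φ', hφ', hφe, hφQ⟩
    obtain ⟨ψ₀, hψ₀, hinv⟩ := F.inv_mem hφ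
    obtain ⟨θ, hθ, hθinv⟩ := F.inv_mem hφ'
    have hle : φ.range ⊔ Q ≤ φ'.range := by
      rw [sup_le_iff]
      constructor
      · rintro _ ⟨x, rfl⟩
        exact ⟨_, hφe x⟩
      · intro q hq
        exact ⟨_, hφQ ⟨q, hq⟩⟩
    refine ⟨ψ₀, ⟨hψ₀, ?_, ?_, θ.comp (Subgroup.inclusion hle), Fus.restrict_mem F hle hθ, ?_, ?_⟩, hinv⟩
    · rintro _ ⟨x, rfl⟩
      exact hφN x
    · rintro ⟨_, x, rfl⟩
      rw [hinv x]
      exact hPN x.2
    · rintro ⟨_, x, rfl⟩
      rw [hinv x]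
      have : (Subgroup.inclusion hle (Subgroup.inclusion le_sup_left ⟨φ x, ⟨x, rfl⟩⟩) : φ'.range) =
          ⟨φ' (Subgroup.inclusion le_sup_left x), ⟨_, rfl⟩⟩ := by
        apply Subtype.ext
        exact (hφe x).symm
      show θ _ = _
      rw [this, hθinv]
      rfl
    · intro x
      have : (Subgroup.inclusion hle (Subgroup.inclusion le_sup_right x) : φ'.range) =
          ⟨φ' (Subgroup.inclusion le_sup_right x), ⟨_, rfl⟩⟩ := by
        apply Subtype.ext
        exact (hφQ x).symm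
      show θ _ = _
      rw [this, hθinv]
      rfl

/-- For any fusion system over a subgroup S and any Q ≤ S, the maps of the centralizer system C_F(Q) — those maps between subgroups of C_S(Q) that extend to the subgroup generated with Q fixing Q elementwise — form a fusion system over C_S(Q). -/
theorem result {Ω : Type*} [Group Ω] {S : Subgroup Ω} (F : Cfsg.FusionSystem S) (Q : Subgroup Ω) (hQ : Q ≤ S) : ∃ E : Cfsg.FusionSystem (Cfsg.FusionSystem.centralizerIn S Q), F.IsCentralizerSystem Q E := by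
  exact ⟨centralizerSystem F Q hQ, fun P => rfl⟩

end Cfsg.Agent.S5097
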