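import Cfsg.Statements.S5123
import Cfsg.Agent.H26.GroupFusion2

set_option autoImplicit false
open Cfsg

namespace Cfsg.Agent.S5123

open Cfsg.Agent.H26

theorem normalizerIn_le {G : Type*} [Group G] (S P : Subgroup G) :
    Cfsg.FusionSystem.normalizerIn S P ≤ Subgroup.normalizer (P : Set G) := inf_le_right

/-- If `A` normalizes `C` then every element of `A ⊔ C` is a product `a * c`. -/
theorem mem_sup_of_le_normalizer {G : Type*} [Group G] {A C : Subgroup G}
    (hAC : A ≤ Subgroup.normalizer (C : Set G)) {x : G} (hx : x ∈ A ⊔ C) :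
    ∃ a ∈ A, ∃ c ∈ C, x = a * c := by
  rw [Subgroup.sup_eq_closure] at hx
  induction hx using Subgroup.closure_induction with
  | mem y hy =>
    rcases hy with hy | hy
    · exact ⟨y, hy, 1, C.one_mem, by simp⟩
    · exact ⟨1, A.one_mem, y, hy, by simp⟩
  | one => exact ⟨1, A.one_mem, 1, C.one_mem, by simp⟩
  | mul y z _ _ hy hz =>
    obtain ⟨a, ha, c, hc, rfl⟩ := hy
    obtain ⟨a', ha', c', hc', rfl⟩ := hz
    refine ⟨a * a', A.mul_mem ha ha', (a'⁻¹ * c * a') * c', C.mul_mem ?_ hc', by group⟩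
    have hn : a'⁻¹ ∈ Subgroup.normalizer (C : Set G) := Subgroup.inv_mem _ (hAC ha')
    have := (Subgroup.mem_normalizer_iff.mp hn c).mp hc
    simpa using this
  | inv y _ hy =>
    obtain ⟨a, ha, c, hc, rfl⟩ := hy
    refine ⟨a⁻¹, A.inv_mem ha, a * c⁻¹ * a⁻¹, ?_, by group⟩
    exact (Subgroup.mem_normalizer_iff.mp (hAC ha) c⁻¹).mp (C.inv_mem hc)

/-- Let G be a finite group with Sylow p-subgroup S, P, Q ≤ S and g ∈ G with gPg⁻¹ = Q, and suppose N_S(Q) is a Sylow p-subgroup of N_G(Q). Let N be the set of x ∈ N_S(P) with gxg⁻¹ ∈ N_S(Q)C_G(Q). Then some h ∈ C_G(Q) satisfies (hg)N(hg)⁻¹ ≤ S. -/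
theorem result {G : Type*} [Group G] [Finite G] (p : ℕ) [Fact p.Prime] (S : Sylow p G) (P Q : Subgroup G) (hP : P ≤ S) (hQ : Q ≤ S) (g : G) (hg : P.map (MulAut.conj g).toMonoidHom = Q) (hN : (∃ R : Sylow p ↥(Subgroup.normalizer (Q : Set G)), (R : Subgroup ↥(Subgroup.normalizer (Q : Set G))) = (Cfsg.FusionSystem.normalizerIn (S : Subgroup G) Q).subgroupOf (Subgroup.normalizer (Q : Set G)))) : ∃ h ∈ Subgroup.centralizer (Q : Set G), ((Cfsg.FusionSystem.normalizerIn (S : Subgroup G) P) ⊓ (Cfsg.FusionSystem.normalizerIn (S : Subgroup G) Q ⊔ Subgroup.centralizer (Q : Set G)).comap (MulAut.conj g).toMonoidHom).map (MulAut.conj (h * g)).toMonoidHom ≤ S := by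
  set R := Cfsg.FusionSystem.normalizerIn (S : Subgroup G) Q with hR
  set C := Subgroup.centralizer (Q : Set G) with hC
  set K := Subgroup.normalizer (Q : Set G) with hK
  set M := R ⊔ C with hM
  set Nφ := Cfsg.FusionSystem.normalizerIn (S : Subgroup G) P ⊓ M.comap (MulAut.conj g).toMonoidHom with hNφ
  have hRK : R ≤ K := normalizerIn_le _ _
  have hCK : C ≤ K := Subgroup.centralizer_le_normalizer _
  have hMK : M ≤ K := sup_le hRK hCK
  have hRM : R ≤ M := le_sup_left
  have hRcardK : Nat.card R = p ^ (Nat.card K).factorization p :=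
    (exists_sylow_eq_subgroupOf_iff hRK).mp hN
  have hRcardM : Nat.card R = p ^ (Nat.card M).factorization p := by
    rw [hRcardK]
    congr 1
    have hK0 : Nat.card K ≠ 0 := Nat.card_pos.ne'
    have hM0 : Nat.card M ≠ 0 := Nat.card_pos.ne'
    have hp : p.Prime := Fact.out
    apply le_antisymm
    · have h1 : p ^ (Nat.card K).factorization p ∣ Nat.card M := by
        rw [← hRcardK]; exact Subgroup.card_dvd_of_le hRM
      exact (hp.pow_dvd_iff_le_factorization hM0).mp h1
    · have h1 : Nat.card M ∣ Nat.card K := Subgroup.card_dvd_of_le hMK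
      exact (Nat.factorization_le_iff_dvd hM0 hK0).mpr h1 p
  set H := Cfsg.conjBy Nφ g with hH
  have hHp : IsPGroup p H := isPGroup_conjBy (S.isPGroup'.to_le (le_trans inf_le_left inf_le_left)) g
  have hHM : H ≤ M := by
    intro x hx
    rw [hH, mem_conjBy] at hx
    have : g⁻¹ * x * g ∈ M.comap (MulAut.conj g).toMonoidHom := hx.2
    rw [Subgroup.mem_comap] at this
    have e : (MulAut.conj g).toMonoidHom (g⁻¹ * x * g) = x := by
      simp [MulAut.conj_apply, mul_assoc]
    rwa [e] at this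
  obtain ⟨m, hm, hmR⟩ := exists_mem_conjBy_le hRM hRcardM hHM hHp
  -- R normalizes C
  have hRC : R ≤ Subgroup.normalizer (C : Set G) := by
    intro s hs
    have hsK : s ∈ K := hRK hs
    rw [← conjBy_eq_self_iff, hC, ← centralizer_conjBy, conjBy_eq_self_iff.mpr hsK]
  obtain ⟨s, hs, c, hc, rfl⟩ := mem_sup_of_le_normalizer hRC hm
  refine ⟨c, hc, ?_⟩
  have h1 : Cfsg.conjBy Nφ (c * g) ≤ R := by
    rw [← conjBy_conjBy, ← hH]
    have h2 : Cfsg.conjBy (Cfsg.conjBy H c) s ≤ R := by rw [conjBy_conjBy]; exact hmR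
    have h3 := conjBy_mono h2 s⁻¹
    rw [conjBy_conjBy, inv_mul_cancel, conjBy_one, conjBy_self_of_mem (R.inv_mem hs)] at h3
    exact h3
  exact le_trans h1 inf_le_left

end Cfsg.Agent.S5123
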