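import Cfsg.Statements.S5133
import Cfsg.Agent.H26.MorphismSat

set_option autoImplicit false
open Cfsg

namespace Cfsg.Agent.S5133

open Cfsg.Agent.H26 Cfsg.FusionSystem Cfsg.Agent.Lib.Helper27

/-- Let F be a saturated fusion system over a finite p-group S, F' a fusion system over S', and α : S → S' a surjective morphism of fusion systems from F to F' (α maps S onto S' and every map of F' with source P' ≤ S' is induced along α by a map of F on the full preimage of P'). Then F' is saturated. -/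
theorem result {Ω : Type*} [Group Ω] {S : Subgroup Ω} [Finite S] (p : ℕ) [Fact p.Prime] (hS : IsPGroup p S) (F : Cfsg.FusionSystem S) (hF : F.IsSaturated p) {Ω' : Type*} [Group Ω'] {S' : Subgroup Ω'} (F' : Cfsg.FusionSystem S') (α : S →* Ω') (hα : F.IsSurjectiveMorphism F' α) : F'.IsSaturated p := by
  intro P' hP'S'
  have hP'r : P' ≤ α.range := hα.2.1 ▸ hP'S'
  have hPS : preimageAlong α P' ≤ S := preimageAlong_le α P'
  obtain ⟨Q, hPQ, hfa, hrec⟩ := hF _ hPS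
  obtain ⟨φ₀, hφ₀, hφ₀r⟩ := hPQ
  have hQS : Q ≤ S := hfa.1
  have hT := ker_stronglyClosed hα.1
  have hkerQ : preimageAlong α ⊥ ≤ Q := by
    rw [← hφ₀r]
    exact Fus.stronglyClosed_le_range F hT hφ₀ (ker_le_preimageAlong α P')
  have hpre : preimageAlong α (imageAlong α Q) = Q := preimageAlong_imageAlong_of_ker_le hQS hkerQ
  have hQ'S' : imageAlong α Q ≤ S' := by
    rintro y ⟨s, -, rfl⟩
    exact hα.1.1 s
  refine ⟨imageAlong α Q, ?_, fullyAutomized_image hα hQ'S' (hpre.symm ▸ hfa),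
    receptive_image hS hα hQ'S' (hpre.symm ▸ hfa) (hpre.symm ▸ hrec)⟩
  apply isConj_symm F'
  obtain ⟨e, he, hev⟩ := exists_isIso_of_hom F hφ₀ hφ₀r
  have hψ₀ : IsIso F e.symm := he.symm
  obtain ⟨ψ', hψ', hP, hψS, hP', H⟩ := hα.1.2 Q _ hψ₀
  refine ⟨ψ', hψ', ?_⟩
  ext y
  constructor
  · rintro ⟨z, rfl⟩
    obtain ⟨s, hs, hsz⟩ := z.2
    have hsQ : (s : Ω) ∈ Q := Subgroup.mem_subgroupOf.mp hs
    have hz : z = ⟨α ⟨(⟨s, hsQ⟩ : Q), hP hsQ⟩, hP' ⟨s, hsQ⟩⟩ := Subtype.ext hsz.symm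
    rw [hz, H]
    exact (mem_preimageAlong.mp (e.symm ⟨s, hsQ⟩).2).2
  · intro hy
    obtain ⟨a, ha⟩ := exists_preimageAlong hP'r ⟨y, hy⟩
    refine ⟨⟨α ⟨e a, hQS (e a).2⟩, hP' (e a)⟩, ?_⟩
    rw [H (e a)]
    simp only [MonoidHom.coe_comp, Subgroup.coe_subtype, Function.comp_apply, MulEquiv.coe_toMonoidHom,
      MulEquiv.symm_apply_apply]
    exact ha

end Cfsg.Agent.S5133
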