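import Cfsg.Statements.S5134
import Cfsg.Agent.Lib.Helper27.FusionLift
import Cfsg.Agent.Lib.Helper27.FusionInduced
import Cfsg.Agent.H26.FusionFactor

set_option autoImplicit false
open Cfsg

namespace Cfsg.Agent.S5134

open Cfsg.Agent.H26 Cfsg.FusionSystem Cfsg.Agent.Lib.Helper27

/-- Let F be a saturated fusion system over a finite p-group S, S₀ a subgroup strongly closed in F, and E the factor system of F modulo S₀ read through θ (a homomorphism on S with kernel S₀ and image the group of E). Then θ is a surjective morphism of fusion systems from F onto E: in particular every map of F, and not only the maps whose source contains S₀, induces along θ a map of E. -/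
theorem result {Ω : Type*} [Group Ω] {S : Subgroup Ω} [Finite S] (p : ℕ) [Fact p.Prime] (hS : IsPGroup p S) (F : Cfsg.FusionSystem S) (hF : F.IsSaturated p) (S₀ : Subgroup Ω) (hS₀ : F.StronglyClosed S₀) {Ω' : Type*} [Group Ω'] {S' : Subgroup Ω'} (θ : S →* Ω') (E : Cfsg.FusionSystem S') (hE : F.IsFactorSystem S₀ θ E) : F.IsSurjectiveMorphism E θ := by
  obtain ⟨hS₀S, hker, hrange, hHom⟩ := hE
  refine ⟨⟨fun s => hrange ▸ ⟨s, rfl⟩, fun P φ hφ => ?_⟩, hrange,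
    fun P' hP' φ' hφ' => ((hHom P' φ').mp hφ').2⟩
  have hPS : P ≤ S := hom_le F hφ
  obtain ⟨ψ, hψ, hψφ⟩ := exists_lift hS hF hS₀ hφ
  have hP₁S : P ⊔ S₀ ≤ S := sup_le hPS hS₀S
  have hψS : ∀ z : ↥(P ⊔ S₀), ψ z ∈ S := (F.le_of_mem hψ).2
  have hkerψ : ∀ z : ↥(P ⊔ S₀), θ ⟨z, hP₁S z.2⟩ = 1 → θ ⟨ψ z, hψS z⟩ = 1 := by
    intro z hz
    have h1 : (z : Ω) ∈ S₀ := (hker _).mp hz
    exact (hker _).mpr (stronglyClosed_hom_mem hS₀ hψ h1)
  have hle : P ⊔ S₀ ≤ preimageAlong θ (imageAlong θ P) := by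
    apply sup_le
    · intro x hx
      exact mem_preimageAlong.mpr ⟨hPS hx, ⟨⟨x, hPS hx⟩, Subgroup.mem_subgroupOf.mpr hx, rfl⟩⟩
    · intro x hx
      refine mem_preimageAlong.mpr ⟨hS₀S hx, ?_⟩
      rw [(hker _).mpr hx]
      exact Subgroup.one_mem _
  have hP'mem : ∀ z : ↥(P ⊔ S₀), θ ⟨z, hP₁S z.2⟩ ∈ imageAlong θ P := by
    intro z
    exact (mem_preimageAlong.mp (hle z.2)).2
  have hsurj : ∀ y ∈ imageAlong θ P, ∃ z : ↥(P ⊔ S₀), θ ⟨z, hP₁S z.2⟩ = y := by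
    rintro y ⟨s, hs, rfl⟩
    exact ⟨⟨s, Subgroup.mem_sup_left (Subgroup.mem_subgroupOf.mp hs)⟩, rfl⟩
  obtain ⟨ψ', hψ'⟩ := exists_induced_hom θ hP₁S ψ hψS hkerψ hP'mem hsurj
  have hpre : preimageAlong θ (imageAlong θ P) ≤ P ⊔ S₀ := by
    intro x hx
    obtain ⟨hxS, y, hy, hyx⟩ := mem_preimageAlong.mp hx
    have hy' : (y : Ω) ∈ P := Subgroup.mem_subgroupOf.mp hy
    have h1 : θ (y⁻¹ * ⟨x, hxS⟩) = 1 := by
      rw [map_mul, map_inv, hyx, inv_mul_cancel]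
    have h2 := (hker _).mp h1
    have h3 : x = (y : Ω) * ((y : Ω)⁻¹ * x) := by group
    rw [h3]
    exact Subgroup.mul_mem _ (Subgroup.mem_sup_left hy') (Subgroup.mem_sup_right h2)
  have himS' : imageAlong θ P ≤ S' := by
    rintro y ⟨s, -, rfl⟩
    rw [← hrange]
    exact ⟨s, rfl⟩
  refine ⟨ψ', ?_, hPS, (F.le_of_mem hφ).2,
    fun x => ⟨⟨x, hPS x.2⟩, Subgroup.mem_subgroupOf.mpr x.2, rfl⟩, fun x => ?_⟩
  · rw [hHom]
    refine ⟨himS', ψ.comp (Subgroup.inclusion hpre), hom_restrict F hpre hψ, preimageAlong_le θ _,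
      fun z => hψS _, fun z => (mem_preimageAlong.mp z.2).2, fun z => ?_⟩
    exact hψ' (Subgroup.inclusion hpre z)
  · have h1 := hψ' (Subgroup.inclusion le_sup_left x)
    have h2 := hψφ x
    have h3 : θ ⟨ψ (Subgroup.inclusion le_sup_left x), hψS _⟩ = θ ⟨φ x, (F.le_of_mem hφ).2 x⟩ := by
      have h4 : (⟨ψ (Subgroup.inclusion le_sup_left x), hψS _⟩ : S) =
          ⟨φ x, (F.le_of_mem hφ).2 x⟩ * ⟨(φ x)⁻¹ * ψ (Subgroup.inclusion le_sup_left x), hS₀S h2⟩ := by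
        apply Subtype.ext
        simp
      rw [h4, map_mul, (hker ⟨(φ x)⁻¹ * ψ (Subgroup.inclusion le_sup_left x), hS₀S h2⟩).mpr h2, mul_one]
    rw [← h3, ← h1]
    rfl

end Cfsg.Agent.S5134
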