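import Cfsg.Statements.S5086
import Cfsg.Agent.Lib.Helper27.FusionNormal
import Cfsg.Agent.Lib.Helper27.FusionNormalCrit

set_option autoImplicit false
open Cfsg

namespace Cfsg.Agent.S5086

open Cfsg.FusionSystem Cfsg.Agent.Lib.Helper27

theorem normal_le_centric_radical {Ω : Type*} [Group Ω] {S : Subgroup Ω} [Finite S] {p : ℕ} [Fact p.Prime]
    (hS : IsPGroup p S) {F : Cfsg.FusionSystem S} {Q P : Subgroup Ω} (hQ : F.IsNormal Q)
    (hc : F.IsCentric P) (hr : F.IsRadical p P) : Q ≤ P := by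
  have hPS := hc.1
  have hQS := hQ.1
  haveI : Finite Q := Finite.of_injective (Subgroup.inclusion hQS) (Subgroup.inclusion_injective hQS)
  apply le_of_inf_normalizer_le hS hPS hQS (fun s hs d hd => normal_conj_mem hQ hs hd)
  intro d hd hdN
  have hdNS : d ∈ normalizerIn S P := ⟨hQS hd, hdN⟩
  apply mem_of_conjAutHom_mem_inn hc hdNS
  have hmono : Cfsg.autInducedBy Q P ≤ Cfsg.autInducedBy S P := by
    intro α hα
    rw [mem_autInducedBy_iff] at hα ⊢
    obtain ⟨g, hg, h⟩ := hα
    exact ⟨g, hQS hg, h⟩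
  have hA_le : Cfsg.autInducedBy Q P ≤ F.autGroup P := le_trans hmono (autInducedBy_le_autGroup F hPS)
  have hAp : IsPGroup p ((Cfsg.autInducedBy Q P).subgroupOf (F.autGroup P)) :=
    ((isPGroup_autInducedBy hS P).to_le hmono).comap_of_injective (F.autGroup P).subtype Subtype.coe_injective
  have hAn : ((Cfsg.autInducedBy Q P).subgroupOf (F.autGroup P)).Normal := by
    constructor
    intro β hβ α
    rw [Subgroup.mem_subgroupOf] at hβ ⊢
    rw [mem_autInducedBy_iff] at hβ ⊢
    obtain ⟨g, hg, hβg⟩ := hβ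
    have hα : IsIso F ((α : MulAut P) : P ≃* P) := (mem_autGroup_iff F hPS _).mp α.2
    obtain ⟨ψ, -, hψφ, α', -, hα'ψ⟩ := normal_exists_extension hQ hα
    refine ⟨ψ (Subgroup.inclusion le_sup_right ⟨g, hg⟩), ?_, fun x => ?_⟩
    · rw [← hα'ψ]; exact (α' _).2
    · show (((α : MulAut P) ((β : MulAut P) ((α : MulAut P)⁻¹ x)) : P) : Ω) = _
      have h1 := hψφ ((β : MulAut P) ((α : MulAut P)⁻¹ x))
      have h2 := hψφ ((α : MulAut P)⁻¹ x)
      have h3 : (Subgroup.inclusion (le_sup_left : P ≤ P ⊔ Q) ((β : MulAut P) ((α : MulAut P)⁻¹ x))) =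
          Subgroup.inclusion le_sup_right ⟨g, hg⟩ *
            Subgroup.inclusion le_sup_left ((α : MulAut P)⁻¹ x) *
            (Subgroup.inclusion le_sup_right ⟨g, hg⟩)⁻¹ := by
        apply Subtype.ext
        exact hβg _
      rw [h3, map_mul, map_mul, map_inv, h2] at h1
      have h4 : (P.subtype.comp ((α : MulAut P) : P ≃* P).toMonoidHom) ((α : MulAut P)⁻¹ x) = (x : Ω) := by
        show (((α : MulAut P) ((α : MulAut P)⁻¹ x) : P) : Ω) = x
        rw [MulAut.apply_inv_self]
      rw [h4] at h1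
      exact h1.symm
  have h1 : (Cfsg.autInducedBy Q P).subgroupOf (F.autGroup P) ≤ Cfsg.pCore p (F.autGroup P) :=
    le_sSup ⟨hAn, hAp⟩
  have h2 : Cfsg.autInducedBy Q P ≤ Cfsg.Inn P := by
    rw [← hr.2]
    intro α hα
    exact ⟨⟨α, hA_le hα⟩, h1 hα, rfl⟩
  apply h2
  rw [mem_autInducedBy_iff]
  exact ⟨d, hd, fun x => rfl⟩

/-- In a saturated fusion system over a finite p-group, a subgroup Q is normal in the system if and only if Q is strongly closed in the system and is contained in every centric-radical subgroup. -/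
theorem result {Ω : Type*} [Group Ω] {S : Subgroup Ω} [Finite S] (p : ℕ) [Fact p.Prime] (hS : IsPGroup p S) (F : Cfsg.FusionSystem S) (hF : F.IsSaturated p) (Q : Subgroup Ω) : F.IsNormal Q ↔ (F.StronglyClosed Q ∧ ∀ P : Subgroup Ω, F.IsCentric P → F.IsRadical p P → Q ≤ P) := by
  constructor
  · intro hQ
    exact ⟨normal_stronglyClosed hQ, fun P hc hr => normal_le_centric_radical hS hQ hc hr⟩
  · rintro ⟨hsc, h⟩
    exact isNormal_of_le_frc hS hF hsc (fun R _ _ hc hr => h R hc hr)

end Cfsg.Agent.S5086
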