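import Cfsg.Statements.S5092
import Cfsg.Agent.H26.Hyperfocal

set_option autoImplicit false
open Cfsg

namespace Cfsg.Agent.S5092

open Cfsg.Agent.H26 Cfsg.FusionSystem Cfsg.Agent.Lib.Helper27 Cfsg.Agent.Lib.Helper17
open scoped commutatorElement

/-- The subsystem of maps `φ` with `x⁻¹ φ(x) ∈ U` for all `x`. -/
def diffSystem {Ω : Type*} [Group Ω] {S : Subgroup Ω} (F : Cfsg.FusionSystem S) (U : Subgroup Ω)
    (hU : ∀ g ∈ S, ∀ x ∈ S, x⁻¹ * (g * x * g⁻¹) ∈ U) : Cfsg.FusionSystem S where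
  Hom P := {φ | φ ∈ F.Hom P ∧ ∀ x : P, (x : Ω)⁻¹ * φ x ∈ U}
  le_of_mem h := F.le_of_mem h.1
  injective_of_mem h := F.injective_of_mem h.1
  conj_mem := by
    intro P g hP hg
    exact ⟨F.conj_mem hP hg, fun x => hU g hg x (hP x.2)⟩
  comp_mem := by
    rintro P P' φ φ' ⟨hφ, hφQ⟩ ⟨hφ', hφ'Q⟩ h
    refine ⟨F.comp_mem hφ hφ' h, fun x => ?_⟩
    have h1 := hφQ x
    have h2 := hφ'Q ⟨φ x, h x⟩
    have := U.mul_mem h1 h2
    simp only [mul_assoc, mul_inv_cancel_left] at this
    exact this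
  inv_mem := by
    rintro P φ ⟨hφ, hφQ⟩
    obtain ⟨ψ, hψ, hinv⟩ := F.inv_mem hφ
    refine ⟨ψ, ⟨hψ, ?_⟩, hinv⟩
    rintro ⟨_, x, rfl⟩
    rw [hinv x]
    have := U.inv_mem (hφQ x)
    rw [mul_inv_rev, inv_inv] at this
    exact this

/-- For a saturated fusion system over a finite p-group S, the focal subgroup is the product of the hyperfocal subgroup and the derived subgroup of S. -/
theorem result {Ω : Type*} [Group Ω] {S : Subgroup Ω} [Finite S] (p : ℕ) [Fact p.Prime] (hS : IsPGroup p S) (F : Cfsg.FusionSystem S) (hF : F.IsSaturated p) : F.focalSubgroup = F.hyperfocalSubgroup p ⊔ ⁅(S : Subgroup Ω), (S : Subgroup Ω)⁆ := by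
  have hU : ∀ g ∈ S, ∀ x ∈ S, x⁻¹ * (g * x * g⁻¹) ∈
      F.hyperfocalSubgroup p ⊔ ⁅(S : Subgroup Ω), (S : Subgroup Ω)⁆ := by
    intro g hg x hx
    apply Subgroup.mem_sup_right
    have : x⁻¹ * (g * x * g⁻¹) = ⁅x⁻¹, g⁆ := by
      rw [commutatorElement_def]; group
    rw [this]
    exact Subgroup.commutator_mem_commutator (S.inv_mem hx) hg
  apply le_antisymm
  · let K : ∀ R : Subgroup Ω, Subgroup (MulAut R) := fun R =>
      { carrier := {β | ∀ x : R, (x : Ω)⁻¹ * ((β x : R) : Ω) ∈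
          F.hyperfocalSubgroup p ⊔ ⁅(S : Subgroup Ω), (S : Subgroup Ω)⁆}
        one_mem' := fun x => by simp
        mul_mem' := by
          intro a b ha hb x
          rw [MulAut.mul_apply]
          have := Subgroup.mul_mem _ (hb x) (ha (b x))
          simp only [mul_assoc, mul_inv_cancel_left] at this
          exact this
        inv_mem' := by
          intro a ha x
          have := Subgroup.inv_mem _ (ha (a⁻¹ x))
          rw [MulAut.apply_inv_self, mul_inv_rev, inv_inv] at this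
          exact this }
    have hFE := le_of_autInduced_pResidual hS hF
      (diffSystem F (F.hyperfocalSubgroup p ⊔ ⁅(S : Subgroup Ω), (S : Subgroup Ω)⁆) hU) K
      (fun R α hα hαK => ⟨hα, hαK⟩)
      (by
        intro R hR
        unfold autInducedBy
        rw [Subgroup.closure_le]
        rintro β ⟨g, hg, hβ⟩ x
        show _ * ((β x : R) : Ω) ∈ _
        rw [hβ x]
        exact hU g hg x (hR x.2))
      (by
        intro R hR α hα x
        exact Subgroup.mem_sup_left (mem_hyperfocal F p hR α hα x))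
    unfold focalSubgroup
    rw [Subgroup.closure_le]
    rintro y ⟨P, φ, x, hφ, rfl⟩
    exact (hFE P hφ).2 x
  · apply sup_le
    · unfold hyperfocalSubgroup focalSubgroup
      apply Subgroup.closure_mono
      rintro y ⟨P, α, x, hP, hα, rfl⟩
      refine ⟨P, P.subtype.comp (α : MulAut P).toMonoidHom, x, ?_, rfl⟩
      exact (mem_autGroup_iff F hP _).mp α.2
    · rw [Subgroup.commutator_le]
      intro a ha b hb
      apply Subgroup.subset_closure
      refine ⟨S, conjHom S b, ⟨a⁻¹, S.inv_mem ha⟩, F.conj_mem le_rfl hb, ?_⟩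
      rw [commutatorElement_def]
      show _ = (a⁻¹)⁻¹ * (b * a⁻¹ * b⁻¹)
      group

end Cfsg.Agent.S5092
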