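import Mathlib
import Cfsg.Statements.S1137

set_option autoImplicit false
open Cfsg

namespace Cfsg.Agent.S1137

noncomputable section

universe u

/-! ### an alternating equivariant pairing on a "one-dimensional" module vanishes -/
section Vanish

variable {Z K : Type*} [Group Z] [Group K] [MulDistribMulAction K Z]

theorem bilin_vanish [Finite Z]
    (hexp : ∀ u : Z, u * u = 1) (hK : ∀ a b : K, a * b = b * a)
    (htr : ∀ u v : Z, u ≠ 1 → v ≠ 1 → ∃ k : K, k • u = v)
    (β : Z → Z → Z) (hadd : ∀ u u' v : Z, β (u * u') v = β u v * β u' v)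
    (hsymm : ∀ u v : Z, β u v = β v u) (halt : ∀ u : Z, β u u = 1)
    (heq : ∀ (k : K) (u v : Z), β (k • u) (k • v) = k • β u v) : ∀ u v : Z, β u v = 1 := by
  have hinv : ∀ u : Z, u⁻¹ = u := fun u => inv_eq_of_mul_eq_one_right (hexp u)
  have hcomm : ∀ u v : Z, u * v = v * u := by
    intro u v
    calc u * v = (u * v)⁻¹ := (hinv (u * v)).symm
      _ = v⁻¹ * u⁻¹ := mul_inv_rev u v
      _ = v * u := by rw [hinv, hinv]
  have hone : ∀ v : Z, β 1 v = 1 := by
    intro v
    have h := hadd 1 1 v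
    rw [one_mul, hexp] at h
    exact h
  have hsc : ∀ (a b : K) (u : Z), a • b • u = b • a • u := by
    intro a b u
    rw [← mul_smul, ← mul_smul, hK a b]
  have key : ∀ e : Z, e ≠ 1 → ∀ w : Z, β w e = 1 := by
    intro e he
    have hR1 : ∀ k : K, β (k • e) e = k • β (k⁻¹ • e) e := by
      intro k
      calc β (k • e) e = β (k • e) (k • k⁻¹ • e) := by rw [smul_inv_smul]
        _ = k • β e (k⁻¹ • e) := heq k e (k⁻¹ • e)
        _ = k • β (k⁻¹ • e) e := by rw [hsymm e (k⁻¹ • e)]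
    have hR1' : ∀ k : K, β (k⁻¹ • e) e = k⁻¹ • β (k • e) e := by
      intro k
      rw [hR1 k, inv_smul_smul]
    have hR2 : ∀ k : K, k • e ≠ e → ∃ s : K, ∀ u : Z, s • u = k • u * u := by
      intro k hk
      have hw : k • e * e ≠ 1 := by
        intro h
        apply hk
        rw [mul_eq_one_iff_eq_inv, hinv] at h
        exact h
      obtain ⟨s, hs⟩ := htr e (k • e * e) he hw
      refine ⟨s, fun u => ?_⟩
      by_cases hu : u = 1
      · rw [hu, smul_one, smul_one, mul_one]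
      · obtain ⟨t, ht⟩ := htr e u he hu
        rw [← ht, hsc s t e, hs, smul_mul', hsc t k e]
    have hR3 : ∀ k s : K, (∀ u : Z, s • u = k • u * u) →
        ∀ u : Z, k⁻¹ • u * s⁻¹ • u = (k * s)⁻¹ • u := by
      intro k s hs u
      rw [eq_inv_smul_iff, smul_mul']
      have h1 : (k * s) • k⁻¹ • u = s • u := by
        rw [← mul_smul, hK k s, mul_assoc, mul_inv_cancel, mul_one]
      have h2 : (k * s) • s⁻¹ • u = k • u := by
        rw [← mul_smul, mul_assoc, mul_inv_cancel, mul_one]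
      rw [h1, h2, hs u, hcomm (k • u) u, mul_assoc, hexp, mul_one]
    have hR4 : ∀ k : K, k • e ≠ e → β ((k * k) • e) e = 1 := by
      intro k hk
      obtain ⟨s, hs⟩ := hR2 k hk
      have h1 : β (s • e) e = β (k • e) e := by
        rw [hs e, hadd, halt, mul_one]
      have h2 : β ((k * s)⁻¹ • e) e = (k * s)⁻¹ • β (k • e) e := by
        rw [← hR3 k s hs e, hadd, hR1' k, hR1' s, h1, hR3 k s hs]
      have h3 : β ((k * s)⁻¹ • e) e = (k * s)⁻¹ • β ((k * s) • e) e := hR1' (k * s)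
      have h4 : β ((k * s) • e) e = β (k • e) e :=
        MulAction.injective ((k * s)⁻¹) (h3.symm.trans h2)
      have h5 : (k * s) • e = (k * k) • e * k • e := by
        rw [mul_smul k s e, hs e, smul_mul', ← mul_smul]
      rw [h5, hadd] at h4
      have h6 : β ((k * k) • e) e * β (k • e) e = 1 * β (k • e) e := by
        rw [one_mul]
        exact h4
      exact mul_right_cancel h6
    have hR5 : ∀ k : K, β ((k * k) • e) e = 1 := by
      intro k
      by_cases hk : k • e = e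
      · rw [mul_smul, hk, hk, halt]
      · exact hR4 k hk
    have hR6 : ∀ k : K, ∃ l : K, (l * l) • e = k • e := by
      intro k
      haveI hN : (MulAction.stabilizer K e).Normal :=
        ⟨fun n hn g => by rw [hK g n, mul_inv_cancel_right]; exact hn⟩
      have horb : MulAction.orbit K e = ({1} : Set Z)ᶜ := by
        ext w
        rw [Set.mem_compl_iff, Set.mem_singleton_iff, MulAction.mem_orbit_iff]
        constructor
        · rintro ⟨t, ht⟩ h
          apply he
          rw [h] at ht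
          have h2 : t⁻¹ • t • e = t⁻¹ • (1 : Z) := by rw [ht]
          rwa [inv_smul_smul, smul_one] at h2
        · intro hw
          exact htr e w he hw
      obtain ⟨n, hn⟩ := (show IsPGroup 2 Z from
        fun g => ⟨1, by rw [pow_one, pow_two]; exact hexp g⟩).exists_card_eq
      have hn0 : n ≠ 0 := by
        intro h0
        rw [h0, pow_zero] at hn
        have hsub := (Nat.card_eq_one_iff_unique.mp hn).1
        exact he (Subsingleton.elim e 1)
      have hc1 := Set.ncard_add_ncard_compl ({1} : Set Z)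
      rw [Set.ncard_singleton, ← horb, ← Nat.card_coe_set_eq, hn] at hc1
      have hc2 : Nat.card (K ⧸ MulAction.stabilizer K e) = Nat.card (MulAction.orbit K e) :=
        Nat.card_congr (MulAction.orbitEquivQuotientStabilizer K e).symm
      obtain ⟨j, hj⟩ : ∃ j, Nat.card (K ⧸ MulAction.stabilizer K e) = 2 * j + 1 := by
        rw [hc2]
        obtain ⟨n', hn'⟩ : ∃ n', n = n' + 1 := ⟨n - 1, by omega⟩
        rw [hn', pow_succ] at hc1
        have hpos : 1 ≤ 2 ^ n' := Nat.one_le_two_pow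
        generalize 2 ^ n' = M at hc1 hpos
        exact ⟨M - 1, by omega⟩
      have hpow : k ^ (2 * j + 1) ∈ MulAction.stabilizer K e := by
        have h := pow_card_eq_one' (G := K ⧸ MulAction.stabilizer K e)
          (x := (k : K ⧸ MulAction.stabilizer K e))
        rw [hj, ← QuotientGroup.mk_pow, QuotientGroup.eq_one_iff] at h
        exact h
      refine ⟨k ^ (j + 1), ?_⟩
      have h1 : k ^ (j + 1) * k ^ (j + 1) = k * k ^ (2 * j + 1) := by
        rw [← pow_add, ← pow_succ']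
        congr 1
        omega
      rw [h1, mul_smul, MulAction.mem_stabilizer_iff.mp hpow]
    intro w
    by_cases hw : w = 1
    · rw [hw, hone]
    · obtain ⟨k, hk⟩ := htr e w he hw
      obtain ⟨l, hl⟩ := hR6 k
      rw [← hk, ← hl]
      exact hR5 l
  intro u v
  by_cases hv : v = 1
  · rw [hv, hsymm, hone]
  · exact key v hv u

end Vanish

/-! ### group-theoretic preliminaries -/
section Grp

variable {P : Type u} [Group P]

/-- the central elements of square one -/
def Om (P : Type u) [Group P] : Subgroup P where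
  carrier := {x | x ∈ Subgroup.center P ∧ x * x = 1}
  one_mem' := ⟨Subgroup.one_mem _, mul_one 1⟩
  mul_mem' := by
    rintro a b ⟨ha, ha2⟩ ⟨hb, hb2⟩
    refine ⟨Subgroup.mul_mem _ ha hb, ?_⟩
    have hba : b * a = a * b := Subgroup.mem_center_iff.mp ha b
    calc a * b * (a * b) = a * (b * a) * b := by group
      _ = a * (a * b) * b := by rw [hba]
      _ = (a * a) * (b * b) := by group
      _ = 1 := by rw [ha2, hb2, mul_one]
  inv_mem' := by
    rintro a ⟨ha, ha2⟩
    refine ⟨Subgroup.inv_mem _ ha, ?_⟩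
    rw [← mul_inv_rev, ha2, inv_one]

instance Om_normal : (Om P).Normal :=
  ⟨fun n hn g => by
    have h : g * n = n * g := Subgroup.mem_center_iff.mp hn.1 g
    rw [h, mul_inv_cancel_right]
    exact hn⟩

theorem aut_center (k : MulAut P) {a : P} (ha : a ∈ Subgroup.center P) :
    k a ∈ Subgroup.center P := by
  rw [Subgroup.mem_center_iff] at ha ⊢
  intro g
  have h := ha (k.symm g)
  have h2 := congrArg k h
  rw [map_mul, map_mul, MulEquiv.apply_symm_apply] at h2
  exact h2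

theorem aut_Om (k : MulAut P) {x : P} (hx : x ∈ Om P) : k x ∈ Om P :=
  ⟨aut_center k hx.1, by rw [← map_mul, hx.2, map_one]⟩

theorem map_Om (k : MulAut P) : (Om P).map ((k : P ≃* P) : P →* P) = Om P := by
  ext y
  constructor
  · rintro ⟨x, hx, rfl⟩
    exact aut_Om k hx
  · intro hy
    exact ⟨k.symm y, aut_Om k.symm hy, k.apply_symm_apply y⟩

/-- the automorphism induced on the quotient -/
def quotAut (k : MulAut P) : MulAut (P ⧸ Om P) :=
  QuotientGroup.congr (Om P) (Om P) k (map_Om k)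

theorem quotAut_mk (k : MulAut P) (x : P) :
    quotAut k (x : P ⧸ Om P) = ((k x : P) : P ⧸ Om P) :=
  QuotientGroup.congr_mk (Om P) (Om P) k (map_Om k) x

/-- the automorphisms of the quotient induced by members of `K` -/
def Kbar (K : Subgroup (MulAut P)) : Subgroup (MulAut (P ⧸ Om P)) where
  carrier := {σ | ∃ k ∈ K, ∀ x : P, σ (x : P ⧸ Om P) = ((k x : P) : P ⧸ Om P)}
  one_mem' := ⟨1, K.one_mem, fun _ => rfl⟩
  mul_mem' := by
    rintro σ τ ⟨k, hk, hσ⟩ ⟨l, hl, hτ⟩
    refine ⟨k * l, K.mul_mem hk hl, fun x => ?_⟩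
    simp only [MulAut.mul_apply, hσ, hτ]
  inv_mem' := by
    rintro σ ⟨k, hk, hσ⟩
    refine ⟨k⁻¹, K.inv_mem hk, fun x => ?_⟩
    have h := hσ (k⁻¹ x)
    rw [MulAut.apply_inv_self] at h
    rw [← h, MulAut.inv_apply_self]

theorem mem_Kbar {K : Subgroup (MulAut P)} {σ : MulAut (P ⧸ Om P)} :
    σ ∈ Kbar K ↔ ∃ k ∈ K, ∀ x : P, σ (x : P ⧸ Om P) = ((k x : P) : P ⧸ Om P) := Iff.rfl

/-- the action of a group of automorphisms on `Om P` -/
@[instance_reducible] def actOm (K : Subgroup (MulAut P)) : MulDistribMulAction ↥K ↥(Om P) where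
  smul k u := ⟨(k : MulAut P) (u : P), aut_Om (k : MulAut P) u.2⟩
  one_smul _ := Subtype.ext rfl
  mul_smul _ _ _ := Subtype.ext rfl
  smul_mul k u v := Subtype.ext (map_mul (k : MulAut P) (u : P) (v : P))
  smul_one k := Subtype.ext (map_one (k : MulAut P))

/-- the standing hypothesis: a commutative group of automorphisms transitive on the
involutions, of which there are at least two -/
structure Hyp (P : Type u) [Group P] (K : Subgroup (MulAut P)) : Prop where
  comm : ∀ a ∈ K, ∀ b ∈ K, a * b = b * a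
  two : ∃ x y : P, x ≠ y ∧ x ≠ 1 ∧ x * x = 1 ∧ y ≠ 1 ∧ y * y = 1
  trans : ∀ x y : P, x ≠ 1 → x * x = 1 → y ≠ 1 → y * y = 1 → ∃ k ∈ K, k x = y

theorem exists_central_invol {G : Type*} [Group G] [Finite G] [Nontrivial G]
    (hG : IsPGroup 2 G) : ∃ z ∈ Subgroup.center G, z ≠ 1 ∧ z * z = 1 := by
  haveI hnt : Nontrivial (Subgroup.center G) := hG.center_nontrivial
  have hd : 2 ∣ Nat.card (Subgroup.center G) := by
    rcases (hG.to_subgroup (Subgroup.center G)).card_eq_or_dvd with h | h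
    · exfalso
      have h1 := Finite.one_lt_card_iff_nontrivial.mpr hnt
      omega
    · exact h
  obtain ⟨z, hz⟩ := exists_prime_orderOf_dvd_card' 2 hd
  refine ⟨z, z.2, ?_, ?_⟩
  · intro h
    have h1 : z = 1 := Subtype.ext h
    rw [h1, orderOf_one] at hz
    omega
  · have h := pow_orderOf_eq_one z
    rw [hz, pow_two] at h
    exact congrArg Subtype.val h

theorem invol_central [Finite P] (hP : IsPGroup 2 P) {K : Subgroup (MulAut P)} (hK : Hyp P K) :
    ∀ x : P, x * x = 1 → x ∈ Subgroup.center P := by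
  intro x hx
  by_cases hx1 : x = 1
  · rw [hx1]
    exact Subgroup.one_mem _
  obtain ⟨a, b, -, ha1, -, -, -⟩ := hK.two
  haveI : Nontrivial P := ⟨⟨a, 1, ha1⟩⟩
  obtain ⟨z, hzc, hz1, hz2⟩ := exists_central_invol hP
  obtain ⟨k, -, hk⟩ := hK.trans z x hz1 hz2 hx1 hx
  rw [← hk]
  exact aut_center k hzc

theorem central_of_sq_eq (hI : ∀ x : P, x * x = 1 → x ∈ Subgroup.center P) {x d : P}
    (hd : d ∈ Subgroup.center P) (h : d * d = x * x) : x ∈ Subgroup.center P := by
  have hdinv : d⁻¹ ∈ Subgroup.center P := Subgroup.inv_mem _ hd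
  have hcomm : x * d⁻¹ = d⁻¹ * x := Subgroup.mem_center_iff.mp hdinv x
  have h2 : (x * d⁻¹) * (x * d⁻¹) = 1 := by
    calc (x * d⁻¹) * (x * d⁻¹) = x * (d⁻¹ * x) * d⁻¹ := by group
      _ = x * (x * d⁻¹) * d⁻¹ := by rw [← hcomm]
      _ = (x * x) * (d * d)⁻¹ := by group
      _ = 1 := by rw [h, mul_inv_cancel]
  have h3 := hI _ h2
  have h4 : x = (x * d⁻¹) * d := by group
  rw [h4]
  exact Subgroup.mul_mem _ h3 hd

theorem exists_sqrt [Finite P] (hP : IsPGroup 2 P) {K : Subgroup (MulAut P)} (hK : Hyp P K)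
    (ha : ∃ a ∈ Subgroup.center P, a * a ≠ 1) :
    ∀ z : P, z ≠ 1 → z * z = 1 → ∃ a ∈ Subgroup.center P, a * a = z := by
  obtain ⟨a₀, ha₀c, ha₀⟩ := ha
  have hex : ∃ k, a₀ ^ 2 ^ k = 1 := hP a₀
  classical
  obtain ⟨k, hk, hmin⟩ : ∃ k, a₀ ^ 2 ^ k = 1 ∧ ∀ j < k, a₀ ^ 2 ^ j ≠ 1 :=
    ⟨Nat.find hex, Nat.find_spec hex, fun j hj => Nat.find_min hex hj⟩
  have hk2 : 2 ≤ k := by
    by_contra hlt
    push Not at hlt
    interval_cases k
    · apply ha₀
      rw [pow_zero, pow_one] at hk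
      rw [hk, mul_one]
    · apply ha₀
      rw [pow_one, pow_two] at hk
      exact hk
  obtain ⟨k', hk'⟩ : ∃ k', k = k' + 2 := ⟨k - 2, by omega⟩
  rw [hk'] at hk hmin
  have h1 : a₀ ^ 2 ^ k' * a₀ ^ 2 ^ k' = a₀ ^ 2 ^ (k' + 1) := by
    rw [← pow_add, pow_succ 2 k', mul_two]
  have h2 : a₀ ^ 2 ^ (k' + 1) * a₀ ^ 2 ^ (k' + 1) = a₀ ^ 2 ^ (k' + 2) := by
    rw [← pow_add, pow_succ 2 (k' + 1), mul_two]
  have hz01 : a₀ ^ 2 ^ (k' + 1) ≠ 1 := hmin (k' + 1) (by omega)
  have hz02 : a₀ ^ 2 ^ (k' + 1) * a₀ ^ 2 ^ (k' + 1) = 1 := by rw [h2, hk]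
  intro z hz1 hz2
  obtain ⟨κ, -, hκ⟩ := hK.trans _ _ hz01 hz02 hz1 hz2
  refine ⟨κ (a₀ ^ 2 ^ k'), aut_center κ (Subgroup.pow_mem _ ha₀c _), ?_⟩
  rw [← map_mul, h1, hκ]

theorem central_of_pow_four [Finite P] (hP : IsPGroup 2 P) {K : Subgroup (MulAut P)}
    (hK : Hyp P K) (ha : ∃ a ∈ Subgroup.center P, a * a ≠ 1) :
    ∀ x : P, (x * x) * (x * x) = 1 → x ∈ Subgroup.center P := by
  intro x hx
  have hI := invol_central hP hK
  by_cases h1 : x * x = 1
  · exact hI x h1
  obtain ⟨a, hac, haz⟩ := exists_sqrt hP hK ha (x * x) h1 hx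
  exact central_of_sq_eq hI hac haz

/-! ### the case where the centre of the quotient has exponent two -/
theorem case2 [Finite P] (hP : IsPGroup 2 P)
    (hC : ∀ x : P, (∀ g : P, x * g * x⁻¹ * g⁻¹ ∈ Om P) → x ∈ Subgroup.center P) :
    ∀ x y : P, x * y = y * x := by
  by_contra hnc
  push Not at hnc
  obtain ⟨x₀, y₀, hxy⟩ := hnc
  haveI : Nontrivial (P ⧸ Subgroup.center P) := by
    by_contra hnt
    rw [not_nontrivial_iff_subsingleton] at hnt
    apply hxy
    have h1 : ((x₀ : P) : P ⧸ Subgroup.center P) = 1 := Subsingleton.elim _ _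
    rw [QuotientGroup.eq_one_iff] at h1
    exact (Subgroup.mem_center_iff.mp h1 y₀).symm
  have hQ : IsPGroup 2 (P ⧸ Subgroup.center P) := hP.to_quotient _
  obtain ⟨q, hqc, hq1, hq2⟩ := exists_central_invol hQ
  obtain ⟨x, rfl⟩ := QuotientGroup.mk_surjective q
  have hxA : x ∉ Subgroup.center P := fun h => hq1 ((QuotientGroup.eq_one_iff x).mpr h)
  have hxx : x * x ∈ Subgroup.center P := by
    rw [← QuotientGroup.eq_one_iff, QuotientGroup.mk_mul]
    exact hq2
  have hcg : ∀ g : P, x * g * x⁻¹ * g⁻¹ ∈ Subgroup.center P := by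
    intro g
    rw [← QuotientGroup.eq_one_iff]
    simp only [QuotientGroup.mk_mul, QuotientGroup.mk_inv]
    have h := Subgroup.mem_center_iff.mp hqc (g : P ⧸ Subgroup.center P)
    rw [← h]
    group
  apply hxA
  apply hC
  intro g
  obtain ⟨c, hcdef⟩ : ∃ c : P, c = x * g * x⁻¹ * g⁻¹ := ⟨_, rfl⟩
  rw [← hcdef]
  have hcc : c ∈ Subgroup.center P := by
    rw [hcdef]
    exact hcg g
  refine ⟨hcc, ?_⟩
  have hcr : ∀ r : P, r * c = c * r := Subgroup.mem_center_iff.mp hcc
  have e1 : x * g = c * g * x := by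
    rw [hcdef]
    group
  have e2 : x * x * g = c * c * g * (x * x) := by
    calc x * x * g = x * (x * g) := by group
      _ = x * (c * g * x) := by rw [e1]
      _ = (x * c) * g * x := by group
      _ = (c * x) * g * x := by rw [hcr x]
      _ = c * (x * g) * x := by group
      _ = c * (c * g * x) * x := by rw [e1]
      _ = c * c * g * (x * x) := by group
  have e3 : x * x * g = g * (x * x) := (Subgroup.mem_center_iff.mp hxx g).symm
  have e4 : c * c * g * (x * x) = g * (x * x) := e2.symm.trans e3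
  have e5 : c * c * g = g := mul_right_cancel e4
  exact mul_right_cancel (e5.trans (one_mul g).symm)

/-! ### the case where the quotient is commutative -/
theorem case1 [Finite P] (hP : IsPGroup 2 P) {K : Subgroup (MulAut P)} (hK : Hyp P K)
    (ha : ∃ a ∈ Subgroup.center P, a * a ≠ 1)
    (hcm : ∀ x y : P, x * y * x⁻¹ * y⁻¹ ∈ Om P) : ∀ x y : P, x * y = y * x := by
  have hI := invol_central hP hK
  obtain ⟨cm, hcmdef⟩ : ∃ cm : P → P → P, ∀ x y, cm x y = x * y * x⁻¹ * y⁻¹ :=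
    ⟨fun x y => x * y * x⁻¹ * y⁻¹, fun _ _ => rfl⟩
  have hcen : ∀ x y r : P, r * cm x y = cm x y * r := fun x y r => by
    rw [hcmdef]
    exact Subgroup.mem_center_iff.mp (hcm x y).1 r
  have hsq : ∀ x y : P, cm x y * cm x y = 1 := fun x y => by
    rw [hcmdef]
    exact (hcm x y).2
  have hK1 : ∀ x y : P, x * y = cm x y * y * x := fun x y => by
    rw [hcmdef]
    group
  have hK3 : ∀ x x' y : P, cm (x * x') y = cm x y * cm x' y := by
    intro x x' y
    have h1 : cm (x * x') y = x * cm x' y * x⁻¹ * cm x y := by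
      simp only [hcmdef]
      group
    rw [h1, hcen x' y x, mul_inv_cancel_right]
    exact hcen x y (cm x' y)
  have hK4 : ∀ x y : P, cm y x = cm x y := by
    intro x y
    have h1 : cm y x = (cm x y)⁻¹ := by
      simp only [hcmdef]
      group
    rw [h1]
    exact inv_eq_of_mul_eq_one_right (hsq x y)
  have hK5 : ∀ x : P, x * x ∈ Subgroup.center P := by
    intro x
    rw [Subgroup.mem_center_iff]
    intro y
    have h1 : cm (x * x) y = 1 := by rw [hK3, hsq]
    have h2 := hK1 (x * x) y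
    rw [h1, one_mul] at h2
    exact h2.symm
  have hK6 : ∀ x y : P, (x * y) * (x * y) = cm x y * ((x * x) * (y * y)) := by
    intro x y
    calc (x * y) * (x * y) = x * (y * x) * y := by group
      _ = x * (cm x y * x * y) * y := by rw [hK1 y x, hK4 x y]
      _ = (x * cm x y) * x * y * y := by group
      _ = (cm x y * x) * x * y * y := by rw [hcen x y x]
      _ = cm x y * ((x * x) * (y * y)) := by group
  have p4 : ∀ a : P, a ^ 4 = (a * a) * (a * a) := fun a => by
    rw [show (4 : ℕ) = 2 + 2 from rfl, pow_add, pow_two]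
  have hK7 : ∀ x y : P, (x * y) ^ 4 = x ^ 4 * y ^ 4 := by
    intro x y
    have hxx := Subgroup.mem_center_iff.mp (hK5 x)
    rw [p4 (x * y), p4 x, p4 y, hK6 x y]
    calc cm x y * (x * x * (y * y)) * (cm x y * (x * x * (y * y)))
        = cm x y * ((x * x * (y * y)) * cm x y) * (x * x * (y * y)) := by group
      _ = cm x y * (cm x y * (x * x * (y * y))) * (x * x * (y * y)) := by
          rw [hcen x y (x * x * (y * y))]
      _ = (cm x y * cm x y) * ((x * x) * ((y * y) * (x * x)) * (y * y)) := by group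
      _ = (x * x) * ((x * x) * (y * y)) * (y * y) := by rw [hsq, one_mul, hxx (y * y)]
      _ = x * x * (x * x) * (y * y * (y * y)) := by group
  have hp4c : ∀ x : P, x ^ 4 ∈ Subgroup.center P := fun x => by
    rw [p4]
    exact Subgroup.mul_mem _ (hK5 x) (hK5 x)
  -- the exponent of the centre
  have hexm : ∃ m : ℕ, ∀ a ∈ Subgroup.center P, a ^ 2 ^ m = 1 := by
    obtain ⟨n, hn⟩ := hP.exists_card_eq
    exact ⟨n, fun a _ => by rw [← hn]; exact pow_card_eq_one'⟩
  classical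
  obtain ⟨m, hm, hmmin⟩ : ∃ m, (∀ a ∈ Subgroup.center P, a ^ 2 ^ m = 1) ∧
      ∀ j < m, ¬ ∀ a ∈ Subgroup.center P, a ^ 2 ^ j = 1 :=
    ⟨Nat.find hexm, Nat.find_spec hexm, fun j hj => Nat.find_min hexm hj⟩
  obtain ⟨a₀, ha₀c, ha₀⟩ := ha
  have hm2 : 2 ≤ m := by
    by_contra hlt
    push Not at hlt
    have h := hm a₀ ha₀c
    interval_cases m
    · apply ha₀
      rw [pow_zero, pow_one] at h
      rw [h, mul_one]
    · apply ha₀
      rw [pow_one, pow_two] at h
      exact h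
  obtain ⟨m', hm'⟩ : ∃ m', m = m' + 2 := ⟨m - 2, by omega⟩
  rw [hm'] at hm hmmin
  have hb : ∃ b ∈ Subgroup.center P, b ^ 2 ^ (m' + 1) ≠ 1 := by
    have h := hmmin (m' + 1) (by omega)
    push Not at h
    exact h
  have hθ : ∀ x : P, x ^ 2 ^ (m' + 2) = (x ^ 4) ^ 2 ^ m' := by
    intro x
    rw [← pow_mul]
    congr 1
    ring
  have hθmul : ∀ x y : P,
      (x * y) ^ 2 ^ (m' + 2) = x ^ 2 ^ (m' + 2) * y ^ 2 ^ (m' + 2) := by
    intro x y
    rw [hθ (x * y), hθ x, hθ y, hK7 x y]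
    have hc : Commute (x ^ 4) (y ^ 4) := (Subgroup.mem_center_iff.mp (hp4c x) (y ^ 4)).symm
    exact hc.mul_pow _
  have hθsq : ∀ x : P, x ^ 2 ^ (m' + 2) * x ^ 2 ^ (m' + 2) = 1 := by
    intro x
    have h := hm (x * x) (hK5 x)
    rw [← pow_two, ← pow_mul] at h
    rw [← pow_add, ← two_mul]
    exact h
  -- squares in the centre
  have hD : ∀ j : ℕ, j ≤ m' + 1 → ∀ a ∈ Subgroup.center P, a ^ 2 ^ j = 1 →
      ∃ d ∈ Subgroup.center P, d * d = a := by
    intro j
    induction j with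
    | zero =>
      intro _ a _ h
      rw [pow_zero, pow_one] at h
      exact ⟨1, Subgroup.one_mem _, by rw [h, mul_one]⟩
    | succ j ih =>
      intro hj a hac h
      have ih' := ih (by omega)
      by_cases hz : a ^ 2 ^ j = 1
      · exact ih' a hac hz
      have hz2 : a ^ 2 ^ j * a ^ 2 ^ j = 1 := by
        rw [← pow_add, ← two_mul, ← pow_succ']
        exact h
      obtain ⟨b, hbc, hb1⟩ := hb
      have hb2 : b ^ 2 ^ (m' + 1) * b ^ 2 ^ (m' + 1) = 1 := by
        rw [← pow_add, ← two_mul, ← pow_succ']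
        exact hm b hbc
      obtain ⟨κ, -, hκ⟩ := hK.trans _ _ hb1 hb2 hz hz2
      have hb'c : κ b ∈ Subgroup.center P := aut_center κ hbc
      have hb' : (κ b) ^ 2 ^ (m' + 1) = a ^ 2 ^ j := by
        rw [← map_pow]
        exact hκ
      obtain ⟨i, hi⟩ : ∃ i, m' = j + i := ⟨m' - j, by omega⟩
      have hc : ((κ b) ^ 2 ^ i * (κ b) ^ 2 ^ i) ^ 2 ^ j = a ^ 2 ^ j := by
        rw [← hb', ← pow_add, ← pow_mul]
        congr 1
        rw [hi]
        ring
      obtain ⟨c₀, hc₀c, hc₀⟩ : ∃ c₀ ∈ Subgroup.center P, (c₀ * c₀) ^ 2 ^ j = a ^ 2 ^ j :=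
        ⟨(κ b) ^ 2 ^ i, Subgroup.pow_mem _ hb'c _, hc⟩
      have hcc : c₀ * c₀ ∈ Subgroup.center P := Subgroup.mul_mem _ hc₀c hc₀c
      have hcomm : Commute a (c₀ * c₀)⁻¹ :=
        Subgroup.mem_center_iff.mp (Subgroup.inv_mem _ hcc) a
      have h1 : (a * (c₀ * c₀)⁻¹) ^ 2 ^ j = 1 := by
        rw [hcomm.mul_pow, inv_pow, hc₀, mul_inv_cancel]
      obtain ⟨d, hdc, hd⟩ := ih' _ (Subgroup.mul_mem _ hac (Subgroup.inv_mem _ hcc)) h1
      refine ⟨d * c₀, Subgroup.mul_mem _ hdc hc₀c, ?_⟩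
      have hdcomm : c₀ * d = d * c₀ := Subgroup.mem_center_iff.mp hdc c₀
      calc d * c₀ * (d * c₀) = d * (c₀ * d) * c₀ := by group
        _ = d * (d * c₀) * c₀ := by rw [hdcomm]
        _ = (d * d) * (c₀ * c₀) := by group
        _ = a := by
            rw [hd]
            group
  have hker : ∀ x : P, x ^ 2 ^ (m' + 2) = 1 → x ∈ Subgroup.center P := by
    intro x hx
    have h1 : (x * x) ^ 2 ^ (m' + 1) = 1 := by
      rw [← pow_two, ← pow_mul, ← pow_succ']
      exact hx
    obtain ⟨d, hdc, hd⟩ := hD (m' + 1) le_rfl (x * x) (hK5 x) h1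
    exact central_of_sq_eq hI hdc hd
  have hsurj : (∃ x : P, x ∉ Subgroup.center P) → ∀ z : P, z * z = 1 →
      ∃ x : P, x ^ 2 ^ (m' + 2) = z := by
    rintro ⟨x₀, hx₀⟩ z hz
    by_cases hz1 : z = 1
    · exact ⟨1, by rw [one_pow, hz1]⟩
    have h1 : x₀ ^ 2 ^ (m' + 2) ≠ 1 := fun h => hx₀ (hker x₀ h)
    obtain ⟨κ, -, hκ⟩ := hK.trans _ _ h1 (hθsq x₀) hz1 hz
    exact ⟨κ x₀, by rw [← map_pow]; exact hκ⟩
  have hdep : ∀ x x' y : P, x ^ 2 ^ (m' + 2) = x' ^ 2 ^ (m' + 2) → cm x y = cm x' y := by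
    intro x x' y h
    have h1 : (x⁻¹ * x') ^ 2 ^ (m' + 2) = 1 := by
      rw [hθmul, inv_pow, h, inv_mul_cancel]
    have h2 := hker _ h1
    have h3 : cm (x⁻¹ * x') y = 1 := by
      rw [hcmdef]
      have h4 := Subgroup.mem_center_iff.mp h2 y
      rw [← h4]
      group
    have h5 : cm x' y = cm (x * (x⁻¹ * x')) y := by
      rw [mul_inv_cancel_left]
    rw [h5, hK3, h3, mul_one]
  have hdep' : ∀ x y y' : P, y ^ 2 ^ (m' + 2) = y' ^ 2 ^ (m' + 2) → cm x y = cm x y' := by
    intro x y y' h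
    rw [hK4 y x, hK4 y' x]
    exact hdep y y' x h
  intro x y
  by_cases hxc : x ∈ Subgroup.center P
  · exact (Subgroup.mem_center_iff.mp hxc y).symm
  have hsurj' : ∀ z : ↥(Om P), ∃ w : P, w ^ 2 ^ (m' + 2) = (z : P) :=
    fun z => hsurj ⟨x, hxc⟩ z.1 z.2.2
  choose s hs using hsurj'
  letI := actOm K
  have hOm : ∀ w : P, w ^ 2 ^ (m' + 2) ∈ Om P := fun w => ⟨hI _ (hθsq w), hθsq w⟩
  have hcmOm : ∀ a b : P, cm a b ∈ Om P := fun a b => by
    rw [hcmdef]
    exact hcm a b
  obtain ⟨β, hβ⟩ : ∃ β : ↥(Om P) → ↥(Om P) → ↥(Om P),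
      ∀ u v, ((β u v : ↥(Om P)) : P) = cm (s u) (s v) :=
    ⟨fun u v => ⟨cm (s u) (s v), hcmOm _ _⟩, fun _ _ => rfl⟩
  have hsmul : ∀ (k : ↥K) (u : ↥(Om P)), ((k • u : ↥(Om P)) : P) = (k : MulAut P) (u : P) :=
    fun _ _ => rfl
  have hexp : ∀ u : ↥(Om P), u * u = 1 := fun u => Subtype.ext u.2.2
  have hKc : ∀ a b : ↥K, a * b = b * a := fun a b => Subtype.ext (hK.comm a a.2 b b.2)
  have htr : ∀ u v : ↥(Om P), u ≠ 1 → v ≠ 1 → ∃ k : ↥K, k • u = v := by
    intro u v hu hv
    have hu' : (u : P) ≠ 1 := fun h => hu (Subtype.ext h)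
    have hv' : (v : P) ≠ 1 := fun h => hv (Subtype.ext h)
    obtain ⟨κ, hκ, hκuv⟩ := hK.trans u v hu' u.2.2 hv' v.2.2
    exact ⟨⟨κ, hκ⟩, Subtype.ext hκuv⟩
  have hadd : ∀ u u' v : ↥(Om P), β (u * u') v = β u v * β u' v := by
    intro u u' v
    apply Subtype.ext
    rw [Subgroup.coe_mul, hβ, hβ, hβ, ← hK3]
    apply hdep
    rw [hs, hθmul, hs, hs, Subgroup.coe_mul]
  have hsymm : ∀ u v : ↥(Om P), β u v = β v u := by
    intro u v
    apply Subtype.ext
    rw [hβ, hβ]
    exact hK4 (s v) (s u)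
  have halt : ∀ u : ↥(Om P), β u u = 1 := by
    intro u
    apply Subtype.ext
    rw [hβ, hcmdef, Subgroup.coe_one]
    group
  have heq : ∀ (k : ↥K) (u v : ↥(Om P)), β (k • u) (k • v) = k • β u v := by
    intro k u v
    apply Subtype.ext
    rw [hsmul, hβ, hβ]
    have h1 : (s (k • u)) ^ 2 ^ (m' + 2) = ((k : MulAut P) (s u)) ^ 2 ^ (m' + 2) := by
      rw [hs, hsmul, ← map_pow, hs]
    have h2 : (s (k • v)) ^ 2 ^ (m' + 2) = ((k : MulAut P) (s v)) ^ 2 ^ (m' + 2) := by
      rw [hs, hsmul, ← map_pow, hs]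
    rw [hdep _ _ _ h1, hdep' _ _ _ h2, hcmdef, hcmdef]
    simp only [map_mul, map_inv]
  have hv := bilin_vanish hexp hKc htr β hadd hsymm halt heq
  have h1 : cm x y = cm (s ⟨x ^ 2 ^ (m' + 2), hOm x⟩) (s ⟨y ^ 2 ^ (m' + 2), hOm y⟩) := by
    rw [hdep x (s ⟨x ^ 2 ^ (m' + 2), hOm x⟩) y (by rw [hs]),
      hdep' _ y (s ⟨y ^ 2 ^ (m' + 2), hOm y⟩) (by rw [hs])]
  have h2 : cm x y = 1 := by
    rw [h1]
    have h3 := congrArg Subtype.val
      (hv ⟨x ^ 2 ^ (m' + 2), hOm x⟩ ⟨y ^ 2 ^ (m' + 2), hOm y⟩)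
    rw [hβ] at h3
    exact h3
  have h3 := hK1 x y
  rw [h2, one_mul] at h3
  exact h3

/-! ### the main induction -/
theorem main : ∀ (n : ℕ) (P : Type u) [Group P] [Finite P], Nat.card P = n → IsPGroup 2 P →
    ∀ K : Subgroup (MulAut P), Hyp P K → (∃ a ∈ Subgroup.center P, a * a ≠ 1) →
    ∀ x y : P, x * y = y * x := by
  intro n
  induction n using Nat.strong_induction_on with
  | _ n ih =>
    intro P _ _ hn hP K hK ha
    have hI := invol_central hP hK
    have hS1 := exists_sqrt hP hK ha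
    have hS2 := central_of_pow_four hP hK ha
    have hmemOm : ∀ x : P, x ∈ Om P ↔ x * x = 1 :=
      fun x => ⟨fun h => h.2, fun h => ⟨hI x h, h⟩⟩
    obtain ⟨za, zb, hzab, hza1, hza2, hzb1, hzb2⟩ := hK.two
    have hlt : Nat.card (P ⧸ Om P) < n := by
      have h1 : n = Nat.card (P ⧸ Om P) * Nat.card (Om P) := by
        rw [← hn]
        exact Subgroup.card_eq_card_quotient_mul_card_subgroup (Om P)
      have h2 : 1 < Nat.card (Om P) := by
        rw [Finite.one_lt_card_iff_nontrivial]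
        exact ⟨⟨⟨za, (hmemOm za).mpr hza2⟩, 1, fun h => hza1 (congrArg Subtype.val h)⟩⟩
      have h3 : 0 < Nat.card (P ⧸ Om P) := Nat.card_pos
      rw [h1]
      exact lt_mul_of_one_lt_right h3 h2
    have hbar : Hyp (P ⧸ Om P) (Kbar K) := by
      refine ⟨?_, ?_, ?_⟩
      · intro σ hσ' τ hτ'
        obtain ⟨k, hk, hσ⟩ := mem_Kbar.mp hσ'
        obtain ⟨l, hl, hτ⟩ := mem_Kbar.mp hτ'
        apply MulEquiv.ext
        intro q
        obtain ⟨x, rfl⟩ := QuotientGroup.mk_surjective q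
        have hkl : k (l x) = l (k x) := by
          calc k (l x) = (k * l) x := rfl
            _ = (l * k) x := by rw [hK.comm k hk l hl]
            _ = l (k x) := rfl
        simp only [MulAut.mul_apply, hσ, hτ, hkl]
      · obtain ⟨a, hac, haz⟩ := hS1 za hza1 hza2
        obtain ⟨b, hbc, hbz⟩ := hS1 zb hzb1 hzb2
        refine ⟨(a : P ⧸ Om P), (b : P ⧸ Om P), ?_, ?_, ?_, ?_, ?_⟩
        · intro h
          rw [QuotientGroup.eq, hmemOm] at h
          apply hzab
          have hcomm : b * a⁻¹ = a⁻¹ * b :=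
            Subgroup.mem_center_iff.mp (Subgroup.inv_mem _ hac) b
          have h2 : (a * a)⁻¹ * (b * b) = 1 := by
            calc (a * a)⁻¹ * (b * b) = a⁻¹ * (a⁻¹ * b) * b := by group
              _ = a⁻¹ * (b * a⁻¹) * b := by rw [hcomm]
              _ = a⁻¹ * b * (a⁻¹ * b) := by group
              _ = 1 := h
          rw [← haz, ← hbz]
          exact inv_mul_eq_one.mp h2
        · intro h
          rw [QuotientGroup.eq_one_iff, hmemOm, haz] at h
          exact hza1 h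
        · rw [← QuotientGroup.mk_mul, QuotientGroup.eq_one_iff, haz, hmemOm]
          exact hza2
        · intro h
          rw [QuotientGroup.eq_one_iff, hmemOm, hbz] at h
          exact hzb1 h
        · rw [← QuotientGroup.mk_mul, QuotientGroup.eq_one_iff, hbz, hmemOm]
          exact hzb2
      · intro q r hq1 hq2 hr1 hr2
        obtain ⟨x, rfl⟩ := QuotientGroup.mk_surjective q
        obtain ⟨y, rfl⟩ := QuotientGroup.mk_surjective r
        have hx2 : x * x ≠ 1 :=
          fun h => hq1 ((QuotientGroup.eq_one_iff x).mpr ((hmemOm x).mpr h))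
        have hx4 : (x * x) * (x * x) = 1 := by
          rw [← QuotientGroup.mk_mul, QuotientGroup.eq_one_iff, hmemOm] at hq2
          exact hq2
        have hy2 : y * y ≠ 1 :=
          fun h => hr1 ((QuotientGroup.eq_one_iff y).mpr ((hmemOm y).mpr h))
        have hy4 : (y * y) * (y * y) = 1 := by
          rw [← QuotientGroup.mk_mul, QuotientGroup.eq_one_iff, hmemOm] at hr2
          exact hr2
        obtain ⟨k, hk, hkxy⟩ := hK.trans (x * x) (y * y) hx2 hx4 hy2 hy4
        refine ⟨quotAut k, mem_Kbar.mpr ⟨k, hk, quotAut_mk k⟩, ?_⟩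
        rw [quotAut_mk, QuotientGroup.eq, hmemOm]
        have hkx4 : (k x * k x) * (k x * k x) = 1 := by
          rw [← map_mul, ← map_mul, hx4, map_one]
        have hkxc : k x ∈ Subgroup.center P := hS2 _ hkx4
        have hkxy' : k x * k x = y * y := by
          rw [← map_mul]
          exact hkxy
        have hcomm : y * (k x)⁻¹ = (k x)⁻¹ * y :=
          Subgroup.mem_center_iff.mp (Subgroup.inv_mem _ hkxc) y
        calc (k x)⁻¹ * y * ((k x)⁻¹ * y) = (k x)⁻¹ * (y * (k x)⁻¹) * y := by group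
          _ = (k x)⁻¹ * ((k x)⁻¹ * y) * y := by rw [hcomm]
          _ = (k x * k x)⁻¹ * (y * y) := by group
          _ = 1 := by rw [hkxy', inv_mul_cancel]
    by_cases hc : ∃ a ∈ Subgroup.center (P ⧸ Om P), a * a ≠ 1
    · have hcommQ := ih _ hlt (P ⧸ Om P) rfl (hP.to_quotient (Om P)) (Kbar K) hbar hc
      apply case1 hP hK ha
      intro x y
      rw [← QuotientGroup.eq_one_iff]
      simp only [QuotientGroup.mk_mul, QuotientGroup.mk_inv]
      rw [hcommQ (x : P ⧸ Om P) (y : P ⧸ Om P)]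
      group
    · push Not at hc
      apply case2 hP
      intro x hx
      apply hS2
      have hxc : (x : P ⧸ Om P) ∈ Subgroup.center (P ⧸ Om P) := by
        rw [Subgroup.mem_center_iff]
        intro q
        obtain ⟨g, rfl⟩ := QuotientGroup.mk_surjective q
        have h := hx g
        rw [← QuotientGroup.eq_one_iff] at h
        simp only [QuotientGroup.mk_mul, QuotientGroup.mk_inv] at h
        have h2 : (x : P ⧸ Om P) * (g : P ⧸ Om P) = (g : P ⧸ Om P) * (x : P ⧸ Om P) := by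
          calc (x : P ⧸ Om P) * (g : P ⧸ Om P)
              = ((x : P ⧸ Om P) * (g : P ⧸ Om P) * (x : P ⧸ Om P)⁻¹ * (g : P ⧸ Om P)⁻¹) *
                  ((g : P ⧸ Om P) * (x : P ⧸ Om P)) := by group
            _ = (g : P ⧸ Om P) * (x : P ⧸ Om P) := by rw [h, one_mul]
        exact h2.symm
      have h4 := hc _ hxc
      rw [← QuotientGroup.mk_mul, QuotientGroup.eq_one_iff, hmemOm] at h4
      exact h4

end Grp

end

/-- In a Suzuki 2-group `P` (a finite non-abelian 2-group with more than one involution admitting a cyclic group of automorphisms regular on its involutions) the involutions are exactly the non-identity central elements, and `Z(P)` is elementary abelian. -/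
theorem result {P : Type*} [Group P] (hP : Cfsg.IsSuzukiTwoGroup P) :
    (∀ x : P, (x ≠ 1 ∧ x * x = 1) ↔ (x ∈ Subgroup.center P ∧ x ≠ 1)) ∧
      ∀ z ∈ Subgroup.center P, z * z = 1 := by
  obtain ⟨hfin, h2, ⟨x₀, y₀, hxy⟩, htwo, K, hKc, hKr⟩ := hP
  haveI := hfin
  haveI := hKc
  have hK : Hyp P K := by
    refine ⟨?_, htwo, ?_⟩
    · intro a ha b hb
      obtain ⟨g, hg⟩ := IsCyclic.exists_generator (α := ↥K)
      obtain ⟨i, hi⟩ := Subgroup.mem_zpowers_iff.mp (hg ⟨a, ha⟩)
      obtain ⟨j, hj⟩ := Subgroup.mem_zpowers_iff.mp (hg ⟨b, hb⟩)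
      have h : (⟨a, ha⟩ : ↥K) * ⟨b, hb⟩ = ⟨b, hb⟩ * ⟨a, ha⟩ := by
        rw [← hi, ← hj]
        exact zpow_mul_comm g i j
      exact congrArg Subtype.val h
    · intro x y hx1 hx2 hy1 hy2
      obtain ⟨k, hk, -⟩ := hKr x y hx1 hx2 hy1 hy2
      exact ⟨k, k.2, hk⟩
  have hI := invol_central h2 hK
  have hexp2 : ∀ z ∈ Subgroup.center P, z * z = 1 := by
    intro z hz
    by_contra hne
    exact hxy (main (Nat.card P) P rfl h2 K hK ⟨z, hz, hne⟩ x₀ y₀)
  exact ⟨fun x => ⟨fun ⟨h1, h2'⟩ => ⟨hI x h2', h1⟩, fun ⟨hc, h1⟩ => ⟨h1, hexp2 x hc⟩⟩, hexp2⟩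

end Cfsg.Agent.S1137
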