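import Cfsg.Statements.S0784
import Cfsg.Agent.Lib.Helper6.Quad

set_option autoImplicit false
open Cfsg

namespace Cfsg.Agent.S0784

open Matrix Cfsg.Agent.Lib.Helper6

theorem result {F : Type*} [Field F] {n : ℕ} (Q : QuadraticForm F (Fin n → F)) (v : Fin n → F) (hv : Q v ≠ 0) : (∀ x, Q ((Cfsg.reflectionMatrix ⇑Q v).mulVec x) = Q x) ∧ (Cfsg.reflectionMatrix ⇑Q v).mulVec v = -v ∧ (∀ x, QuadraticMap.polar ⇑Q v x = 0 → (Cfsg.reflectionMatrix ⇑Q v).mulVec x = x) ∧ (Cfsg.reflectionMatrix ⇑Q v).det = -1 := by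
  refine ⟨?_, ?_, ?_, ?_⟩
  · intro x
    rw [reflectionMatrix_mulVec, Q_sub, Q_smul, QuadraticMap.polar_smul_right, smul_eq_mul,
      QuadraticMap.polar_comm ⇑Q x v]
    field_simp
    ring
  · rw [reflectionMatrix_mulVec, QuadraticMap.polar_self, nsmul_eq_mul]
    have : (Q v)⁻¹ * ((2 : ℕ) * Q v) = 2 := by
      push_cast
      field_simp
    rw [this, two_smul]
    abel
  · intro x hx
    rw [reflectionMatrix_mulVec, hx, mul_zero, zero_smul, sub_zero]
  · unfold Cfsg.reflectionMatrix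
    rw [sub_eq_add_neg, ← neg_smul, det_one_add_smul_vecMulVec, polarVec_dot, QuadraticMap.polar_self,
      nsmul_eq_mul]
    push_cast
    field_simp
    ring

end Cfsg.Agent.S0784
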