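import Cfsg.Statements.S0785
import Cfsg.Agent.Lib.Helper6.Quad

set_option autoImplicit false
open Cfsg

namespace Cfsg.Agent.S0785

open Matrix Cfsg.Agent.Lib.Helper6

theorem mem_isometryGroup_iff {F : Type*} [Field F] {n : ℕ} (Q : (Fin n → F) → F)
    (g : Matrix.GeneralLinearGroup (Fin n) F) :
    g ∈ Cfsg.isometryGroup F Q ↔ ∀ u, Q ((g : Matrix (Fin n) (Fin n) F) *ᵥ u) = Q u := by
  constructor
  · intro h u
    exact h u u
  · intro h u v
    exact h u

theorem det_sq_eq_one {F : Type*} [Field F] {n : ℕ} (Q : QuadraticForm F (Fin n → F))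
    (hQ : (QuadraticMap.polarBilin Q).Nondegenerate) (M : Matrix (Fin n) (Fin n) F)
    (hM : ∀ u, Q (M *ᵥ u) = Q u) : M.det = 1 ∨ M.det = -1 := by
  set B : LinearMap.BilinForm F (Fin n → F) := QuadraticMap.polarBilin Q with hB
  have hcomp : B.comp (Matrix.toLin' M) (Matrix.toLin' M) = B := by
    refine LinearMap.ext₂ fun x y => ?_
    simp only [LinearMap.BilinForm.comp_apply, Matrix.toLin'_apply, hB, QuadraticMap.polarBilin_apply_apply]
    unfold QuadraticMap.polar
    rw [← mulVec_add, hM, hM, hM]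
  have h1 := congrArg LinearMap.BilinForm.toMatrix' hcomp
  rw [LinearMap.BilinForm.toMatrix'_comp, LinearMap.toMatrix'_toLin'] at h1
  have h2 := congrArg Matrix.det h1
  rw [det_mul, det_mul, det_transpose] at h2
  have hdet : (LinearMap.BilinForm.toMatrix' B).det ≠ 0 := by
    have := (LinearMap.BilinForm.nondegenerate_iff_det_ne_zero (Pi.basisFun F (Fin n))).mp hQ
    rwa [LinearMap.BilinForm.toMatrix_basisFun] at this
  have h3 : (M.det * M.det - 1) * (LinearMap.BilinForm.toMatrix' B).det = 0 := by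
    linear_combination h2
  rcases mul_eq_zero.mp h3 with h | h
  · have : (M.det - 1) * (M.det + 1) = 0 := by linear_combination h
    rcases mul_eq_zero.mp this with h' | h'
    · left; exact sub_eq_zero.mp h'
    · right; exact eq_neg_of_add_eq_zero_left h'
  · exact absurd h hdet

theorem result {F : Type*} [Field F] {n : ℕ} (Q : QuadraticForm F (Fin n → F)) (hQ : (QuadraticMap.polarBilin Q).Nondegenerate) : (∀ g : ↥(Cfsg.isometryGroup F ⇑Q), ((g : Matrix.GeneralLinearGroup (Fin n) F) : Matrix (Fin n) (Fin n) F).det = 1 ∨ ((g : Matrix.GeneralLinearGroup (Fin n) F) : Matrix (Fin n) (Fin n) F).det = -1) ∧ ((∃ v, Q v ≠ 0) → ∃ g : ↥(Cfsg.isometryGroup F ⇑Q), ((g : Matrix.GeneralLinearGroup (Fin n) F) : Matrix (Fin n) (Fin n) F).det = -1) := by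
  constructor
  · intro g
    apply det_sq_eq_one Q hQ
    exact (mem_isometryGroup_iff _ _).mp g.2
  · rintro ⟨v, hv⟩
    have hdet : (Cfsg.reflectionMatrix ⇑Q v).det = -1 := by
      unfold Cfsg.reflectionMatrix
      rw [sub_eq_add_neg, ← neg_smul, det_one_add_smul_vecMulVec, polarVec_dot, QuadraticMap.polar_self,
        nsmul_eq_mul]
      push_cast
      field_simp
      ring
    have hunit : IsUnit (Cfsg.reflectionMatrix ⇑Q v).det := by
      rw [hdet]; exact isUnit_one.neg
    let g : Matrix.GeneralLinearGroup (Fin n) F := Matrix.GeneralLinearGroup.mk'' _ hunit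
    have hg : (g : Matrix (Fin n) (Fin n) F) = Cfsg.reflectionMatrix ⇑Q v := rfl
    refine ⟨⟨g, ?_⟩, ?_⟩
    · rw [mem_isometryGroup_iff]
      intro x
      rw [hg, reflectionMatrix_mulVec, Q_sub, Q_smul, QuadraticMap.polar_smul_right, smul_eq_mul,
        QuadraticMap.polar_comm ⇑Q x v]
      field_simp
      ring
    · change (g : Matrix (Fin n) (Fin n) F).det = -1
      rw [hg, hdet]

end Cfsg.Agent.S0785
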