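-- Statement S0792
import Cfsg.Statements.S0792
import Mathlib
import Cfsg.Agent.S0784
import Cfsg.Agent.S0785
import Cfsg.Agent.Lib.Helper6.Symp

set_option autoImplicit false
open Cfsg

namespace Cfsg.Agent.S0792

open Matrix Cfsg.Agent.Lib.Helper6

section
variable {F : Type*} [Field F] {n : ℕ} (Q : QuadraticForm F (Fin n → F))

local notation "Mat" => Matrix (Fin n) (Fin n) F
local notation "GLn" => Matrix.GeneralLinearGroup (Fin n) F

theorem refl_refl (a : Fin n → F) (ha : Q a ≠ 0) :
    Cfsg.reflectionMatrix ⇑Q a * Cfsg.reflectionMatrix ⇑Q a = 1 := by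
  apply matrix_ext_mulVec
  intro x
  rw [← Matrix.mulVec_mulVec, Matrix.one_mulVec, reflectionMatrix_mulVec, reflectionMatrix_mulVec,
    QuadraticMap.polar_sub_right, QuadraticMap.polar_smul_right, QuadraticMap.polar_self]
  have : (Q a)⁻¹ * (QuadraticMap.polar ⇑Q a x - ((Q a)⁻¹ * QuadraticMap.polar ⇑Q a x) • (2 • Q a))
      = - ((Q a)⁻¹ * QuadraticMap.polar ⇑Q a x) := by
    rw [smul_eq_mul, nsmul_eq_mul]
    push_cast
    field_simp
    ring
  rw [this, neg_smul]
  abel

/-- reflections as elements of the isometry group -/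
theorem exists_refl (a : Fin n → F) (ha : Q a ≠ 0) :
    ∃ r : ↥(Cfsg.isometryGroup F ⇑Q),
      ((r : GLn) : Mat) = Cfsg.reflectionMatrix ⇑Q a ∧ r * r = 1 := by
  refine ⟨⟨⟨Cfsg.reflectionMatrix ⇑Q a, Cfsg.reflectionMatrix ⇑Q a, refl_refl Q a ha,
    refl_refl Q a ha⟩, ?_⟩, rfl, ?_⟩
  · rw [Cfsg.Agent.S0785.mem_isometryGroup_iff]
    exact (Cfsg.Agent.S0784.result Q a ha).1
  · apply Subtype.ext
    apply Units.ext
    exact refl_refl Q a ha

theorem pres (g : ↥(Cfsg.isometryGroup F ⇑Q)) (x : Fin n → F) :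
    Q (((g : GLn) : Mat) *ᵥ x) = Q x :=
  (Cfsg.Agent.S0785.mem_isometryGroup_iff _ _).mp g.2 x

theorem pres_polar (g : ↥(Cfsg.isometryGroup F ⇑Q)) (x y : Fin n → F) :
    QuadraticMap.polar ⇑Q (((g : GLn) : Mat) *ᵥ x) (((g : GLn) : Mat) *ᵥ y) =
      QuadraticMap.polar ⇑Q x y := by
  unfold QuadraticMap.polar
  rw [← Matrix.mulVec_add, pres, pres, pres]

theorem refl_fix (a x : Fin n → F) (h : QuadraticMap.polar ⇑Q a x = 0) :
    Cfsg.reflectionMatrix ⇑Q a *ᵥ x = x := by
  rw [reflectionMatrix_mulVec, h, mul_zero, zero_smul, sub_zero]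

theorem refl_move1 (x y : Fin n → F) (hxy : Q x = Q y) (h : Q (x - y) ≠ 0) :
    Cfsg.reflectionMatrix ⇑Q (x - y) *ᵥ x = y := by
  rw [reflectionMatrix_mulVec]
  have h1 : QuadraticMap.polar ⇑Q (x - y) x = Q (x - y) := by
    rw [QuadraticMap.polar_sub_left, QuadraticMap.polar_self, Q_sub, hxy,
      QuadraticMap.polar_comm ⇑Q y x, nsmul_eq_mul]
    push_cast
    ring
  rw [h1, inv_mul_cancel₀ h, one_smul]
  abel

theorem refl_move2 (x y : Fin n → F) (hxy : Q x = Q y) (h : Q (x + y) ≠ 0) :
    Cfsg.reflectionMatrix ⇑Q (x + y) *ᵥ x = -y := by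
  rw [reflectionMatrix_mulVec]
  have h1 : QuadraticMap.polar ⇑Q (x + y) x = Q (x + y) := by
    rw [QuadraticMap.polar_add_left, QuadraticMap.polar_self, Q_add, hxy,
      QuadraticMap.polar_comm ⇑Q y x, nsmul_eq_mul]
    push_cast
    ring
  rw [h1, inv_mul_cancel₀ h, one_smul]
  abel

/-- the set of reflections -/
def Rset : Set ↥(Cfsg.isometryGroup F ⇑Q) :=
  {g | ∃ u : Fin n → F, Q u ≠ 0 ∧ ((g : GLn) : Mat) = Cfsg.reflectionMatrix ⇑Q u}

theorem exists_aniso (h2 : (2 : F) ≠ 0) (hQ : (QuadraticMap.polarBilin Q).Nondegenerate)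
    (j : ℕ) (hj : j < n) (v : Fin j → (Fin n → F))
    (horth : ∀ i i', i ≠ i' → QuadraticMap.polar ⇑Q (v i) (v i') = 0)
    (hani : ∀ i, Q (v i) ≠ 0) :
    ∃ w, Q w ≠ 0 ∧ ∀ i, QuadraticMap.polar ⇑Q (v i) w = 0 := by
  classical
  set B : LinearMap.BilinForm F (Fin n → F) := QuadraticMap.polarBilin Q with hB
  have hBp : ∀ x y, B x y = QuadraticMap.polar ⇑Q x y := fun x y => rfl
  let T : (Fin n → F) →ₗ[F] (Fin j → F) := LinearMap.pi (fun i => B (v i))
  have hker : LinearMap.ker T ≠ ⊥ := by
    apply LinearMap.ker_ne_bot_of_finrank_lt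
    rw [Module.finrank_pi, Module.finrank_pi, Fintype.card_fin, Fintype.card_fin]
    exact hj
  obtain ⟨x, hxk, hx0⟩ := Submodule.exists_mem_ne_zero_of_ne_bot hker
  have hx : ∀ i, QuadraticMap.polar ⇑Q (v i) x = 0 := by
    intro i
    have := congrFun (LinearMap.mem_ker.mp hxk) i
    exact this
  by_contra hcon
  push Not at hcon
  have hcon' : ∀ w, (∀ i, QuadraticMap.polar ⇑Q (v i) w = 0) → Q w = 0 := by
    intro w hw
    by_contra hne
    obtain ⟨i, hi⟩ := hcon w hne
    exact hi (hw i)
  apply hx0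
  apply hQ.1 x
  intro y
  let P : Fin n → F := ∑ i, ((B (v i) (v i))⁻¹ * B (v i) y) • v i
  have hvv : ∀ i, B (v i) (v i) ≠ 0 := by
    intro i
    rw [hBp, QuadraticMap.polar_self, nsmul_eq_mul]
    push_cast
    exact mul_ne_zero h2 (hani i)
  have hyP : ∀ k, QuadraticMap.polar ⇑Q (v k) (y - P) = 0 := by
    intro k
    rw [← hBp, map_sub]
    simp only [P, map_sum, map_smul, smul_eq_mul]
    rw [Finset.sum_eq_single k]
    · have := hvv k
      field_simp
      ring
    · intro i _ hik
      rw [hBp (v k) (v i), horth k i (Ne.symm hik), mul_zero]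
    · intro h; exact absurd (Finset.mem_univ k) h
  have h1 : B x P = 0 := by
    simp only [P, map_sum, map_smul, smul_eq_mul]
    apply Finset.sum_eq_zero
    intro i _
    rw [hBp x (v i), QuadraticMap.polar_comm, hx i, mul_zero]
  have h3 : B x (y - P) = 0 := by
    rw [hBp]
    unfold QuadraticMap.polar
    rw [hcon' x hx, hcon' (y - P) hyP, hcon' (x + (y - P))]
    · ring
    · intro i
      rw [QuadraticMap.polar_add_right, hx i, hyP i, add_zero]
  have : y = P + (y - P) := by abel
  rw [this, map_add, h1, h3, add_zero]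

theorem refl_mem_closure (a : Fin n → F) (ha : Q a ≠ 0) (r : ↥(Cfsg.isometryGroup F ⇑Q))
    (hr : ((r : GLn) : Mat) = Cfsg.reflectionMatrix ⇑Q a) :
    r ∈ Subgroup.closure (Rset Q) :=
  Subgroup.subset_closure ⟨a, ha, hr⟩

theorem cd_aux (h2 : (2 : F) ≠ 0) (hQ : (QuadraticMap.polarBilin Q).Nondegenerate) :
    ∀ (d j : ℕ) (v : Fin j → (Fin n → F)), j + d = n →
      (∀ i i', i ≠ i' → QuadraticMap.polar ⇑Q (v i) (v i') = 0) → (∀ i, Q (v i) ≠ 0) →
      ∀ g : ↥(Cfsg.isometryGroup F ⇑Q), (∀ i, ((g : GLn) : Mat) *ᵥ v i = v i) →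
        g ∈ Subgroup.closure (Rset Q) := by
  classical
  intro d
  induction d with
  | zero =>
    intro j v hjn horth hani g hg
    have hj : j = n := by omega
    subst hj
    set B : LinearMap.BilinForm F (Fin j → F) := QuadraticMap.polarBilin Q with hB
    have hli : LinearIndependent F v := by
      apply LinearMap.BilinForm.linearIndependent_of_iIsOrtho (B := B)
      · intro i i' hii'
        exact horth i i' hii'
      · intro i
        change QuadraticMap.polar ⇑Q (v i) (v i) ≠ 0
        rw [QuadraticMap.polar_self, nsmul_eq_mul]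
        push_cast
        exact mul_ne_zero h2 (hani i)
    have hspan : Submodule.span F (Set.range v) = ⊤ :=
      hli.span_eq_top_of_card_eq_finrank' (by simp)
    have hone : g = 1 := by
      apply Subtype.ext
      apply Units.ext
      change ((g : Matrix.GeneralLinearGroup (Fin j) F) : Matrix (Fin j) (Fin j) F) = 1
      apply matrix_ext_mulVec
      intro x
      rw [Matrix.one_mulVec]
      have hx : x ∈ Submodule.span F (Set.range v) := by rw [hspan]; trivial
      induction hx using Submodule.span_induction with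
      | mem y hy =>
        obtain ⟨i, rfl⟩ := hy
        exact hg i
      | zero => exact Matrix.mulVec_zero _
      | add y z _ _ hy hz => rw [Matrix.mulVec_add, hy, hz]
      | smul c y _ hy => rw [Matrix.mulVec_smul, hy]
    rw [hone]
    exact Subgroup.one_mem _
  | succ d ih =>
    intro j v hjn horth hani g hg
    obtain ⟨w, hw, hwv⟩ := exists_aniso Q h2 hQ j (by omega) v horth hani
    -- the image of w
    obtain ⟨gw, hgw⟩ : ∃ gw, gw = ((g : GLn) : Mat) *ᵥ w := ⟨_, rfl⟩
    have hQgw : Q gw = Q w := by rw [hgw]; exact pres Q g w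
    have hgwv : ∀ i, QuadraticMap.polar ⇑Q (v i) gw = 0 := by
      intro i
      rw [hgw, ← hg i, pres_polar, hwv i]
    -- the extended family
    have key : ∀ g' : ↥(Cfsg.isometryGroup F ⇑Q), (∀ i, ((g' : GLn) : Mat) *ᵥ v i = v i) →
        ((g' : GLn) : Mat) *ᵥ w = w → g' ∈ Subgroup.closure (Rset Q) := by
      intro g' hg'v hg'w
      apply ih (j + 1) (Fin.snoc v w) (by omega)
      · intro i i' hii'
        induction i using Fin.lastCases with
        | last =>
          induction i' using Fin.lastCases with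
          | last => exact absurd rfl hii'
          | cast i' =>
            rw [Fin.snoc_last, Fin.snoc_castSucc, QuadraticMap.polar_comm]
            exact hwv i'
        | cast i =>
          induction i' using Fin.lastCases with
          | last =>
            rw [Fin.snoc_last, Fin.snoc_castSucc]
            exact hwv i
          | cast i' =>
            rw [Fin.snoc_castSucc, Fin.snoc_castSucc]
            exact horth i i' (fun h => hii' (by rw [h]))
      · intro i
        induction i using Fin.lastCases with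
        | last => rw [Fin.snoc_last]; exact hw
        | cast i => rw [Fin.snoc_castSucc]; exact hani i
      · intro i
        induction i using Fin.lastCases with
        | last => rw [Fin.snoc_last]; exact hg'w
        | cast i => rw [Fin.snoc_castSucc]; exact hg'v i
    by_cases hcase : Q (gw - w) ≠ 0
    · obtain ⟨r, hr, hrr⟩ := exists_refl Q (gw - w) hcase
      have hrg : r * g ∈ Subgroup.closure (Rset Q) := by
        apply key
        · intro i
          change (((r : GLn) : Mat) * ((g : GLn) : Mat)) *ᵥ v i = v i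
          rw [← Matrix.mulVec_mulVec, hg i, hr]
          apply refl_fix
          rw [QuadraticMap.polar_sub_left, QuadraticMap.polar_comm ⇑Q gw, hgwv i,
            QuadraticMap.polar_comm ⇑Q w, hwv i, sub_zero]
        · change (((r : GLn) : Mat) * ((g : GLn) : Mat)) *ᵥ w = w
          rw [← Matrix.mulVec_mulVec, ← hgw, hr]
          exact refl_move1 Q gw w hQgw hcase
      have : g = r * (r * g) := by rw [← mul_assoc, hrr, one_mul]
      rw [this]
      exact Subgroup.mul_mem _ (refl_mem_closure Q _ hcase r hr) hrg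
    · push Not at hcase
      have hplus : Q (gw + w) ≠ 0 := by
        intro h0
        have h1 : Q (gw + w) + Q (gw - w) = 2 * Q gw + 2 * Q w := by
          rw [Q_add, Q_sub]; ring
        rw [h0, hcase, hQgw] at h1
        have : (2 * 2) * Q w = 0 := by linear_combination -h1
        rcases mul_eq_zero.mp this with h | h
        · exact mul_ne_zero h2 h2 h
        · exact hw h
      obtain ⟨r, hr, hrr⟩ := exists_refl Q (gw + w) hplus
      obtain ⟨s, hs, hss⟩ := exists_refl Q w hw
      have hsrg : s * (r * g) ∈ Subgroup.closure (Rset Q) := by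
        apply key
        · intro i
          change (((s : GLn) : Mat) * (((r : GLn) : Mat) * ((g : GLn) : Mat))) *ᵥ v i = v i
          rw [← Matrix.mulVec_mulVec, ← Matrix.mulVec_mulVec, hg i, hr, hs]
          rw [refl_fix Q (gw + w) (v i) (by
            rw [QuadraticMap.polar_add_left, QuadraticMap.polar_comm ⇑Q gw, hgwv i,
              QuadraticMap.polar_comm ⇑Q w, hwv i, add_zero])]
          apply refl_fix
          rw [QuadraticMap.polar_comm]; exact hwv i
        · change (((s : GLn) : Mat) * (((r : GLn) : Mat) * ((g : GLn) : Mat))) *ᵥ w = w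
          rw [← Matrix.mulVec_mulVec, ← Matrix.mulVec_mulVec, ← hgw, hr, hs,
            refl_move2 Q gw w hQgw hplus, Matrix.mulVec_neg,
            (Cfsg.Agent.S0784.result Q w hw).2.1, neg_neg]
      have : g = r * (s * (s * (r * g))) := by
        rw [← mul_assoc s, hss, one_mul, ← mul_assoc, hrr, one_mul]
      rw [this]
      exact Subgroup.mul_mem _ (refl_mem_closure Q _ hplus r hr)
        (Subgroup.mul_mem _ (refl_mem_closure Q _ hw s hs) hsrg)

end

theorem result {F : Type*} [Field F] [Fintype F] (h2 : (2 : F) ≠ 0) {n : ℕ} (Q : QuadraticForm F (Fin n → F)) (hQ : (QuadraticMap.polarBilin Q).Nondegenerate) : Cfsg.specialIsometryGroup F ⇑Q = Subgroup.closure {g : ↥(Cfsg.isometryGroup F ⇑Q) | ∃ u v : Fin n → F, Q u ≠ 0 ∧ Q v ≠ 0 ∧ ((g : Matrix.GeneralLinearGroup (Fin n) F) : Matrix (Fin n) (Fin n) F) = Cfsg.reflectionMatrix ⇑Q u * Cfsg.reflectionMatrix ⇑Q v} := by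
  classical
  have hCD : ∀ g : ↥(Cfsg.isometryGroup F ⇑Q), g ∈ Subgroup.closure (Rset Q) := fun g =>
    cd_aux Q h2 hQ n 0 Fin.elim0 (by omega) (fun i => i.elim0) (fun i => i.elim0) g
      (fun i => i.elim0)
  obtain ⟨T, hT⟩ : ∃ T : Set ↥(Cfsg.isometryGroup F ⇑Q), T = {g : ↥(Cfsg.isometryGroup F ⇑Q) | ∃ u v : Fin n → F, Q u ≠ 0 ∧ Q v ≠ 0 ∧ ((g : Matrix.GeneralLinearGroup (Fin n) F) : Matrix (Fin n) (Fin n) F) = Cfsg.reflectionMatrix ⇑Q u * Cfsg.reflectionMatrix ⇑Q v} := ⟨_, rfl⟩
  rw [← hT]
  have hdetmem : ∀ g : ↥(Cfsg.isometryGroup F ⇑Q), g ∈ Cfsg.specialIsometryGroup F ⇑Q ↔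
      ((g : Matrix.GeneralLinearGroup (Fin n) F) : Matrix (Fin n) (Fin n) F).det = 1 := by
    intro g
    change g ∈ (Matrix.GeneralLinearGroup.det.comp (Cfsg.isometryGroup F ⇑Q).subtype).ker ↔ _
    rw [MonoidHom.mem_ker]
    constructor
    · intro h
      exact congrArg Units.val h
    · intro h
      exact Units.ext h
  have hle : Subgroup.closure T ≤ Cfsg.specialIsometryGroup F ⇑Q := by
    rw [Subgroup.closure_le]
    intro g hg
    rw [hT] at hg
    obtain ⟨u, v, hu, hv, hg⟩ := hg
    rw [SetLike.mem_coe, hdetmem, hg, Matrix.det_mul, (Cfsg.Agent.S0784.result Q u hu).2.2.2,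
      (Cfsg.Agent.S0784.result Q v hv).2.2.2]
    ring
  apply le_antisymm
  · intro g hg
    have hP : ∀ g ∈ Subgroup.closure (Rset Q),
        g ∈ Subgroup.closure T ∨ ∀ r ∈ Rset Q, r * g ∈ Subgroup.closure T := by
      intro g hg
      have hstep : ∀ x ∈ Rset Q, ∀ y : ↥(Cfsg.isometryGroup F ⇑Q),
          (y ∈ Subgroup.closure T ∨ ∀ r ∈ Rset Q, r * y ∈ Subgroup.closure T) →
          (x * y ∈ Subgroup.closure T ∨ ∀ r ∈ Rset Q, r * (x * y) ∈ Subgroup.closure T) := by
        intro x hx y hy
        rcases hy with hy | hy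
        · right
          intro r hr
          rw [← mul_assoc]
          apply Subgroup.mul_mem _ _ hy
          apply Subgroup.subset_closure
          rw [hT]
          obtain ⟨u, hu, hru⟩ := hr
          obtain ⟨v, hv, hxv⟩ := hx
          refine ⟨u, v, hu, hv, ?_⟩
          change ((r : Matrix.GeneralLinearGroup (Fin n) F) : Matrix (Fin n) (Fin n) F) *
            ((x : Matrix.GeneralLinearGroup (Fin n) F) : Matrix (Fin n) (Fin n) F) = _
          rw [hru, hxv]
        · left
          exact hy x hx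
      induction hg using Subgroup.closure_induction_left with
      | one => left; exact Subgroup.one_mem _
      | mul_left x hx y hy ih => exact hstep x hx y ih
      | inv_mul_cancel x hx y hy ih =>
        have hxinv : x⁻¹ = x := by
          obtain ⟨u, hu, hxu⟩ := hx
          rw [inv_eq_iff_mul_eq_one]
          apply Subtype.ext
          apply Units.ext
          change ((x : Matrix.GeneralLinearGroup (Fin n) F) : Matrix (Fin n) (Fin n) F) *
            ((x : Matrix.GeneralLinearGroup (Fin n) F) : Matrix (Fin n) (Fin n) F) = 1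
          rw [hxu]
          exact refl_refl Q u hu
        rw [hxinv]
        exact hstep x hx y ih
    rcases hP g (hCD g) with h | h
    · exact h
    · by_cases hR : ∃ r, r ∈ Rset Q
      · obtain ⟨r, hr⟩ := hR
        exfalso
        have h1 := (hdetmem _).mp (hle (h r hr))
        have h3 := (hdetmem g).mp hg
        obtain ⟨u, hu, hru⟩ := hr
        change (((r : Matrix.GeneralLinearGroup (Fin n) F) : Matrix (Fin n) (Fin n) F) *
            ((g : Matrix.GeneralLinearGroup (Fin n) F) : Matrix (Fin n) (Fin n) F)).det = 1 at h1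
        rw [Matrix.det_mul, h3, hru, (Cfsg.Agent.S0784.result Q u hu).2.2.2] at h1
        have : (2 : F) = 0 := by linear_combination -h1
        exact h2 this
      · push Not at hR
        have hempty : Rset Q = ∅ := Set.eq_empty_of_forall_notMem hR
        have hg1 := hCD g
        rw [hempty, Subgroup.closure_empty, Subgroup.mem_bot] at hg1
        rw [hg1]
        exact Subgroup.one_mem _
  · exact hle

end Cfsg.Agent.S0792
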