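import Cfsg.Statements.S2250
import Cfsg.Agent.Lib.Helper14.SpWreath
import Cfsg.Agent.Lib.Helper14.SL2
import Cfsg.Agent.Lib.Helper15.SympOrder
import Cfsg.Agent.S2234

set_option autoImplicit false
open Cfsg

namespace Cfsg.Agent.S2250

open Cfsg.Agent.Lib.Helper14
open scoped Pointwise

/-- If a `p`-subgroup `D` is normalised by a subgroup `K ≥ D` whose order has full `p`-part, then
every Sylow `p`-subgroup has a normal subgroup isomorphic to `D`. -/
theorem exists_normal_in_sylow {G : Type*} [Group G] [Finite G] (p : ℕ) [Fact p.Prime]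
    (K D : Subgroup G) (hDK : D ≤ K) (hnorm : ∀ x ∈ K, ∀ d ∈ D, x * d * x⁻¹ ∈ D)
    (hD : IsPGroup p D)
    (hval : (Nat.card K).factorization p = (Nat.card G).factorization p) (S : Sylow p G) :
    ∃ E : Subgroup ↥(S : Subgroup G), E.Normal ∧ Nonempty (E ≃* D) := by
  -- a Sylow subgroup of K
  obtain ⟨T₀⟩ : Nonempty (Sylow p K) := inferInstance
  have hT₀card := T₀.card_eq_multiplicity
  set T : Subgroup G := (T₀ : Subgroup K).map K.subtype with hT
  have hTcard : Nat.card T = p ^ (Nat.card G).factorization p := by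
    rw [hT, Subgroup.card_map_of_injective K.subtype_injective, hT₀card, hval]
  let T' : Sylow p G := Sylow.ofCard T hTcard
  have hTK : T ≤ K := by
    rintro x ⟨y, -, rfl⟩
    exact y.2
  -- D ≤ T
  have hDT : D ≤ T := by
    have hDn : (D.subgroupOf K).Normal := by
      constructor
      intro n hn g
      rw [Subgroup.mem_subgroupOf] at hn ⊢
      exact hnorm g.1 g.2 n.1 hn
    have hDp : IsPGroup p (D.subgroupOf K) :=
      hD.of_equiv (Subgroup.subgroupOfEquivOfLe hDK).symm
    have h1 : IsPGroup p ((T₀ : Subgroup K) ⊔ D.subgroupOf K : Subgroup K) :=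
      IsPGroup.to_sup_of_normal_right T₀.isPGroup' hDp
    have h2 := T₀.is_maximal' h1 le_sup_left
    intro d hd
    have h3 : (⟨d, hDK hd⟩ : K) ∈ (T₀ : Subgroup K) := by
      rw [← h2]
      apply Subgroup.mem_sup_right
      rw [Subgroup.mem_subgroupOf]
      exact hd
    exact ⟨⟨d, hDK hd⟩, h3, rfl⟩
  obtain ⟨g, hg⟩ := MulAction.exists_smul_eq G T' S
  have hS : (S : Subgroup G) = T.map (MulAut.conj g).toMonoidHom := by
    rw [← hg]
    rw [Sylow.smul_def, Sylow.pointwise_smul_def, Subgroup.pointwise_smul_def]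
    rfl
  set D₂ : Subgroup G := D.map (MulAut.conj g).toMonoidHom with hD₂
  have hD₂S : D₂ ≤ (S : Subgroup G) := by
    rw [hS]
    exact Subgroup.map_mono hDT
  have hnorm₂ : ∀ s ∈ (S : Subgroup G), ∀ d ∈ D₂, s * d * s⁻¹ ∈ D₂ := by
    intro s hs d hd
    rw [hS] at hs
    obtain ⟨t, ht, rfl⟩ := hs
    obtain ⟨d₀, hd₀, rfl⟩ := hd
    refine ⟨t * d₀ * t⁻¹, hnorm t (hTK ht) d₀ hd₀, ?_⟩
    simp only [MulEquiv.coe_toMonoidHom, MulAut.conj_apply]
    group
  refine ⟨D₂.subgroupOf S, ?_, ?_⟩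
  · constructor
    intro n hn s
    rw [Subgroup.mem_subgroupOf] at hn ⊢
    exact hnorm₂ s.1 s.2 n.1 hn
  · exact ⟨(Subgroup.subgroupOfEquivOfLe hD₂S).trans
      (Subgroup.equivMapOfInjective D _ (MulAut.conj g).injective).symm⟩

theorem val_key (q : ℕ) (hq : Odd q) (hq1 : 1 < q) (i : ℕ) :
    padicValNat 2 (q ^ (2 * (i + 1)) - 1) = padicValNat 2 (q ^ 2 - 1) + padicValNat 2 (i + 1) := by
  have h2 : ¬ 2 ∣ q := by
    rw [← even_iff_two_dvd, Nat.not_even_iff_odd]
    exact hq
  have h3 : 2 ∣ q - 1 := by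
    obtain ⟨k, hk⟩ := hq
    exact ⟨k, by omega⟩
  have e1 := padicValNat.pow_two_sub_pow (x := q) (y := 1) hq1 h3 h2 (n := 2 * (i + 1))
    (by omega) ⟨i + 1, by ring⟩
  have e2 := padicValNat.pow_two_sub_pow (x := q) (y := 1) hq1 h3 h2 (n := 2)
    (by omega) ⟨1, by ring⟩
  rw [one_pow] at e1 e2
  have e3 : padicValNat 2 (2 * (i + 1)) = 1 + padicValNat 2 (i + 1) := by
    rw [padicValNat.mul (by omega) (by omega), padicValNat_self]
  have e4 : padicValNat 2 2 = 1 := padicValNat_self
  omega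

theorem fact2_prod (f : ℕ → ℕ) (hf : ∀ i, f i ≠ 0) (n : ℕ) :
    (∏ i ∈ Finset.range n, f i).factorization 2 = ∑ i ∈ Finset.range n, (f i).factorization 2 := by
  rw [Nat.factorization_prod fun i _ => hf i, Finsupp.finset_sum_apply]

theorem val_eq {F : Type*} [Field F] [Fintype F] (hF : Odd (Fintype.card F)) (n : ℕ) :
    (Nat.card (wreathSp F (Fin n))).factorization 2 =
      (Nat.card (Matrix.symplecticGroup (Fin n) F)).factorization 2 := by
  have hq1 : 1 < Fintype.card F := Fintype.one_lt_card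
  rw [card_wreathSp, card_SL2, Cfsg.Agent.Lib.Helper15.card_symplecticGroup, Fintype.card_fin]
  generalize Fintype.card F = q at hF hq1
  have hq0 : q ≠ 0 := by omega
  have hpow : ∀ m : ℕ, m ≠ 0 → q ^ m - 1 ≠ 0 := by
    intro m hm
    have : 1 < q ^ m := Nat.one_lt_pow hm hq1
    omega
  have hvq : q.factorization 2 = 0 := by
    apply Nat.factorization_eq_zero_of_not_dvd
    rw [← even_iff_two_dvd, Nat.not_even_iff_odd]
    exact hF
  have hfact : n.factorial.factorization 2 = ∑ i ∈ Finset.range n, (i + 1).factorization 2 := by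
    rw [← Finset.prod_range_add_one_eq_factorial, fact2_prod _ (fun i => by omega)]
  have hprod : (∏ i ∈ Finset.range n, (q ^ (2 * (i + 1)) - 1)).factorization 2 =
      ∑ i ∈ Finset.range n, ((q ^ 2 - 1).factorization 2 + (i + 1).factorization 2) := by
    rw [fact2_prod _ (fun i => hpow _ (by omega))]
    apply Finset.sum_congr rfl
    intro i _
    rw [Nat.factorization_def _ Nat.prime_two, Nat.factorization_def _ Nat.prime_two,
      Nat.factorization_def _ Nat.prime_two]
    exact val_key q hF hq1 i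
  rw [Nat.factorization_mul (pow_ne_zero _ (mul_ne_zero hq0 (hpow 2 (by omega))))
      (Nat.factorial_ne_zero n),
    Nat.factorization_pow, Nat.factorization_mul hq0 (hpow 2 (by omega)),
    Nat.factorization_mul (pow_ne_zero _ hq0)
      (Finset.prod_ne_zero_iff.mpr fun i _ => hpow _ (by omega)),
    Nat.factorization_pow]
  simp only [Finsupp.coe_add, Finsupp.coe_smul, Pi.add_apply, Pi.smul_apply, smul_eq_mul]
  rw [hvq, hfact, hprod, Finset.sum_add_distrib, Finset.sum_const, Finset.card_range, smul_eq_mul]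
  ring

/-- The normal 2-rank of the symplectic group over a finite field of odd order: for n ≥ 1 and S a Sylow 2-subgroup of Sp_{2n}(F), the largest rank of an elementary abelian subgroup of S that is normal in S equals n. -/
theorem result {F : Type*} [Field F] [Fintype F] (hF : Odd (Fintype.card F)) (n : ℕ) (hn : 1 ≤ n) (S : Sylow 2 ↥(Matrix.symplecticGroup (Fin n) F)) :
    ((∃ E : Subgroup ↥(S : Subgroup ↥(Matrix.symplecticGroup (Fin n) F)), E.Normal ∧ Cfsg.IsElementaryAbelian 2 E ∧ 2 ^ (n) ≤ Nat.card ↥E) ∧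
      ∀ E : Subgroup ↥(S : Subgroup ↥(Matrix.symplecticGroup (Fin n) F)), E.Normal → Cfsg.IsElementaryAbelian 2 E → Nat.card ↥E ≤ 2 ^ (n)) := by
  classical
  have h2 : (2 : F) ≠ 0 := Cfsg.Agent.S2234.two_ne_zero_of_odd hF
  constructor
  · have hDp : IsPGroup 2 (signSp F (Fin n)) :=
      IsPGroup.of_card (n := n) (by rw [card_signSp h2, Fintype.card_fin])
    obtain ⟨E, hEn, ⟨φ⟩⟩ := exists_normal_in_sylow 2 (wreathSp F (Fin n)) (signSp F (Fin n))
      signSp_le_wreathSp (fun x hx d hd => wreathSp_conj_signSp x d hx hd) hDp (val_eq hF n) S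
    refine ⟨E, hEn, ⟨⟨⟨?_⟩⟩, ?_⟩, ?_⟩
    · intro a b
      apply φ.injective
      rw [map_mul, map_mul]
      apply Subtype.ext
      exact signSp_comm _ _ (φ a).2 (φ b).2
    · intro a ha
      have h3 : φ (⟨a, ha⟩ ^ 2) = 1 := by
        rw [map_pow]
        apply Subtype.ext
        exact signSp_sq _ (φ ⟨a, ha⟩).2
      have h4 : (⟨a, ha⟩ : E) ^ 2 = 1 := φ.injective (by rw [h3, map_one])
      exact congrArg Subtype.val h4
    · rw [Nat.card_congr φ.toEquiv, card_signSp h2, Fintype.card_fin]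
  · intro E _ hE
    have hup := Cfsg.Agent.S2234.upper hF n
    let E' : Subgroup ↥(Matrix.symplecticGroup (Fin n) F) :=
      E.map (S : Subgroup ↥(Matrix.symplecticGroup (Fin n) F)).subtype
    have hcard : Nat.card E' = Nat.card E :=
      Subgroup.card_map_of_injective (Subgroup.subtype_injective _)
    rw [← hcard]
    apply hup E'
    · refine ⟨⟨?_⟩⟩
      rintro ⟨_, a, ha, rfl⟩ ⟨_, b, hb, rfl⟩
      apply Subtype.ext
      have := hE.1.is_comm.comm ⟨a, ha⟩ ⟨b, hb⟩
      have h5 := congrArg (fun x : E => ((x : (S : Subgroup ↥(Matrix.symplecticGroup (Fin n) F))) :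
        ↥(Matrix.symplecticGroup (Fin n) F))) this
      exact h5
    · rintro _ ⟨a, ha, rfl⟩
      have := hE.2 a ha
      rw [← map_pow, this, map_one]

end Cfsg.Agent.S2250
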