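import Mathlib
import Cfsg.Statements.S4623

set_option autoImplicit false
open Cfsg

namespace Cfsg.Agent.S4623

open Equiv Equiv.Perm

/-- `G` is generated by elements killed by `p`. -/
def GenBy (p : ℕ) (G : Type*) [Group G] : Prop :=
  Subgroup.closure {g : G | g ^ p = 1} = ⊤

theorem genBy_of_subsingleton (p : ℕ) (G : Type*) [Group G] [Subsingleton G] : GenBy p G := by
  unfold GenBy
  rw [eq_top_iff]
  intro x _
  have : x = 1 := Subsingleton.elim _ _
  rw [this]; exact one_mem _

theorem GenBy.range_le {p : ℕ} {G H : Type*} [Group G] [Group H] (h : GenBy p G) (f : G →* H) :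
    f.range ≤ Subgroup.closure {x : H | x ^ p = 1} := by
  rw [MonoidHom.range_eq_map, ← h, MonoidHom.map_closure]
  apply Subgroup.closure_mono
  rintro _ ⟨g, hg, rfl⟩
  show f g ^ p = 1
  rw [← map_pow, show g ^ p = 1 from hg, map_one]

theorem GenBy.of_surjective {p : ℕ} {G H : Type*} [Group G] [Group H] (h : GenBy p G) (f : G →* H)
    (hf : Function.Surjective f) : GenBy p H := by
  unfold GenBy
  rw [eq_top_iff, ← MonoidHom.range_eq_top.mpr hf]
  exact h.range_le f

theorem GenBy.of_mulEquiv {p : ℕ} {G H : Type*} [Group G] [Group H] (h : GenBy p G) (e : G ≃* H) :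
    GenBy p H :=
  h.of_surjective e.toMonoidHom e.surjective

theorem GenBy.pow_mem_commutator {p : ℕ} {G : Type*} [Group G] (h : GenBy p G) (x : G) :
    x ^ p ∈ commutator G := by
  have key : ∀ y : G, (Abelianization.of y) ^ p = 1 := by
    intro y
    have hy : y ∈ Subgroup.closure {g : G | g ^ p = 1} := by rw [h]; exact Subgroup.mem_top y
    induction hy using Subgroup.closure_induction with
    | mem z hz => rw [← map_pow, show z ^ p = 1 from hz, map_one]
    | one => rw [map_one, one_pow]
    | mul a b _ _ ha hb => rw [map_mul, mul_pow, ha, hb, one_mul]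
    | inv a _ ha => rw [map_inv, inv_pow, ha, inv_one]
  have hx := key x
  rw [← map_pow] at hx
  rw [← Abelianization.ker_of]
  exact MonoidHom.mem_ker.mpr hx

theorem genBy_semidirect {p : ℕ} {N G : Type*} [Group N] [Group G] (φ : G →* MulAut N)
    (hN : GenBy p N) (hG : GenBy p G) : GenBy p (N ⋊[φ] G) := by
  unfold GenBy
  rw [eq_top_iff]
  intro w _
  rw [← SemidirectProduct.inl_left_mul_inr_right w]
  apply Subgroup.mul_mem
  · exact hN.range_le SemidirectProduct.inl ⟨w.left, rfl⟩
  · exact hG.range_le SemidirectProduct.inr ⟨w.right, rfl⟩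

theorem zmod_pow (p : ℕ) (a : Multiplicative (ZMod p)) : a ^ p = 1 := by
  apply Multiplicative.toAdd.injective
  rw [toAdd_pow, toAdd_one, nsmul_eq_mul, CharP.cast_eq_zero, zero_mul]

theorem pi_zmod_pow (p : ℕ) (M : Type*) (f : M → Multiplicative (ZMod p)) : f ^ p = 1 := by
  funext i
  rw [Pi.pow_apply, zmod_pow, Pi.one_apply]

theorem genBy_pi_zmod (p : ℕ) (M : Type*) : GenBy p (M → Multiplicative (ZMod p)) := by
  unfold GenBy
  rw [eq_top_iff]
  intro f _
  apply Subgroup.subset_closure
  exact pi_zmod_pow p M f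

theorem genBy_ker {p : ℕ} {N G : Type*} [Group N] [Group G] (φ : G →* MulAut N) {A : Type*} [Group A]
    (ε : N ⋊[φ] G →* A) (hε : ∀ g, ε (SemidirectProduct.inr g) = 1) (hN : ∀ a : N, a ^ p = 1)
    (hG : GenBy p G) : GenBy p ε.ker := by
  unfold GenBy
  rw [eq_top_iff]
  rintro ⟨w, hw⟩ -
  have hr : SemidirectProduct.inr w.right ∈ ε.ker := MonoidHom.mem_ker.mpr (hε _)
  have hl : SemidirectProduct.inl w.left ∈ ε.ker := by
    have : SemidirectProduct.inl w.left = w * (SemidirectProduct.inr w.right)⁻¹ := by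
      rw [eq_mul_inv_iff_mul_eq, SemidirectProduct.inl_left_mul_inr_right]
    rw [this]; exact mul_mem hw (inv_mem hr)
  have hdecomp : (⟨w, hw⟩ : ε.ker) = ⟨_, hl⟩ * ⟨_, hr⟩ :=
    Subtype.ext (SemidirectProduct.inl_left_mul_inr_right w).symm
  rw [hdecomp]
  apply Subgroup.mul_mem
  · apply Subgroup.subset_closure
    show (⟨_, hl⟩ : ε.ker) ^ p = 1
    apply Subtype.ext
    show (SemidirectProduct.inl w.left : N ⋊[φ] G) ^ p = 1
    rw [← map_pow, hN, map_one]
  · let j : G →* ε.ker :=
      (SemidirectProduct.inr).codRestrict ε.ker (fun g => MonoidHom.mem_ker.mpr (hε g))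
    exact hG.range_le j ⟨w.right, rfl⟩

theorem genBy_sylow_of_model {p : ℕ} [Fact p.Prime] {G W : Type*} [Group G] [Finite G] [Group W]
    (Φ : W →* G) (hΦ : Function.Injective Φ)
    (hcard : Nat.card W = p ^ (Nat.card G).factorization p) (hW : GenBy p W) (P : Sylow p G) :
    GenBy p P := by
  have hr : Nat.card Φ.range = p ^ (Nat.card G).factorization p := by
    rw [← hcard]; exact Nat.card_congr (MonoidHom.ofInjective hΦ).toEquiv.symm
  let P0 : Sylow p G := Sylow.ofCard Φ.range hr
  have e1 : W ≃* (P0 : Subgroup G) := MonoidHom.ofInjective hΦ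
  exact (hW.of_mulEquiv e1).of_mulEquiv (Sylow.equiv P0 P)

/-- permutation action on functions -/
def actAut (M A : Type*) [Group A] : Equiv.Perm M →* MulAut (M → A) where
  toFun σ :=
    { toFun := fun f => f ∘ σ.symm
      invFun := fun f => f ∘ σ
      left_inv := fun f => by funext i; simp
      right_inv := fun f => by funext i; simp
      map_mul' := fun _ _ => rfl }
  map_one' := rfl
  map_mul' _ _ := rfl

/-- base group action -/
def beta (M : Type*) (p : ℕ) : (M → Multiplicative (ZMod p)) →* Equiv.Perm (M × ZMod p) where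
  toFun f :=
    { toFun := fun x => (x.1, x.2 + Multiplicative.toAdd (f x.1))
      invFun := fun x => (x.1, x.2 - Multiplicative.toAdd (f x.1))
      left_inv := fun x => by simp
      right_inv := fun x => by simp }
  map_one' := by
    apply Equiv.ext; intro x
    show (x.1, x.2 + Multiplicative.toAdd ((1 : M → Multiplicative (ZMod p)) x.1)) = x
    simp
  map_mul' f g := by
    apply Equiv.ext; intro x
    show (x.1, x.2 + Multiplicative.toAdd ((f * g) x.1)) =
      (x.1, x.2 + Multiplicative.toAdd (g x.1) + Multiplicative.toAdd (f x.1))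
    rw [Pi.mul_apply, toAdd_mul]
    congr 1
    abel

/-- top group action -/
def tau (M : Type*) (p : ℕ) : Equiv.Perm M →* Equiv.Perm (M × ZMod p) where
  toFun σ := Equiv.prodCongrLeft (fun _ => σ)
  map_one' := by apply Equiv.ext; intro x; rfl
  map_mul' σ τ := by apply Equiv.ext; intro x; rfl

theorem beta_tau (M : Type*) (p : ℕ) (σ : Equiv.Perm M) (f : M → Multiplicative (ZMod p)) :
    beta M p (actAut M _ σ f) = tau M p σ * beta M p f * (tau M p σ)⁻¹ := by
  apply Equiv.ext; intro x
  show (x.1, x.2 + Multiplicative.toAdd (f (σ.symm x.1))) =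
    (σ (σ.symm x.1), x.2 + Multiplicative.toAdd (f (σ.symm x.1)))
  rw [Equiv.apply_symm_apply]

/-- the wreath-type group -/
abbrev Wr (p m : ℕ) (Pm : Subgroup (Perm (Fin m))) :=
  (Fin m → Multiplicative (ZMod p)) ⋊[(actAut (Fin m) (Multiplicative (ZMod p))).comp Pm.subtype] Pm

def Phi0 (p m : ℕ) (Pm : Subgroup (Perm (Fin m))) : Wr p m Pm →* Perm (Fin m × ZMod p) :=
  SemidirectProduct.lift (beta (Fin m) p) ((tau (Fin m) p).comp Pm.subtype) (by
    intro g
    apply MonoidHom.ext
    intro f
    exact beta_tau (Fin m) p g f)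

theorem Phi0_apply (p m : ℕ) (Pm : Subgroup (Perm (Fin m))) (w : Wr p m Pm) (x : Fin m × ZMod p) :
    Phi0 p m Pm w x = ((w.right : Perm (Fin m)) x.1,
      x.2 + Multiplicative.toAdd (w.left ((w.right : Perm (Fin m)) x.1))) := rfl

theorem Phi0_injective (p m : ℕ) (Pm : Subgroup (Perm (Fin m))) :
    Function.Injective (Phi0 p m Pm) := by
  rw [injective_iff_map_eq_one]
  intro w hw
  have h : ∀ x : Fin m × ZMod p, ((w.right : Perm (Fin m)) x.1,
      x.2 + Multiplicative.toAdd (w.left ((w.right : Perm (Fin m)) x.1))) = x := by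
    intro x
    rw [← Phi0_apply, hw]; rfl
  have h1 : ∀ i, (w.right : Perm (Fin m)) i = i := fun i => congrArg Prod.fst (h (i, 0))
  have h2 : ∀ i, w.left i = 1 := by
    intro i
    have := congrArg Prod.snd (h (i, 0))
    simp only [h1, zero_add] at this
    exact Multiplicative.toAdd.injective this
  apply SemidirectProduct.ext
  · funext i; exact h2 i
  · apply Subtype.ext; apply Equiv.ext; exact h1

/-- extension to a bigger set -/
def Psi {α : Type*} (R : Type*) {n : ℕ} (e : α ⊕ R ≃ Fin n) : Perm α →* Perm (Fin n) :=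
  e.permCongrHom.toMonoidHom.comp ((sumCongrHom α R).comp (MonoidHom.inl (Perm α) (Perm R)))

theorem Psi_injective {α : Type*} (R : Type*) {n : ℕ} (e : α ⊕ R ≃ Fin n) :
    Function.Injective (Psi R e) := by
  intro a b h
  have h1 := e.permCongrHom.injective h
  have h2 := sumCongrHom_injective h1
  exact (Prod.mk.inj h2).1

theorem sign_Psi {α : Type*} (R : Type*) {n : ℕ} (e : α ⊕ R ≃ Fin n) [Fintype α] [DecidableEq α]
    [Fintype R] [DecidableEq R] (σ : Perm α) : sign (Psi R e σ) = sign σ := by
  show sign (e.permCongrHom (Equiv.Perm.sumCongr σ 1)) = _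
  rw [Equiv.permCongrHom_coe, sign_permCongr, sign_sumCongr, Equiv.Perm.sign_one, mul_one]

theorem model (p : ℕ) [Fact p.Prime] (n : ℕ) (Pm : Sylow p (Perm (Fin (n / p)))) :
    ∃ Φ : Wr p (n / p) Pm →* Perm (Fin n), Function.Injective Φ ∧
      (∀ g : (Pm : Subgroup (Perm (Fin (n / p)))),
        sign (Φ (SemidirectProduct.inr g)) = sign (g : Perm (Fin (n / p))) ^ p) ∧
      Nat.card (Wr p (n / p) Pm) = p ^ (Nat.card (Perm (Fin n))).factorization p := by
  have hp : p.Prime := Fact.out
  have hcard : Fintype.card ((Fin (n / p) × ZMod p) ⊕ Fin (n % p)) = n := by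
    simp [ZMod.card, Nat.div_add_mod']
  let e := Fintype.equivFinOfCardEq hcard
  refine ⟨(Psi (Fin (n % p)) e).comp (Phi0 p (n / p) (Pm : Subgroup (Perm (Fin (n / p))))), ?_, ?_, ?_⟩
  · rw [MonoidHom.coe_comp]
    exact (Psi_injective _ e).comp (Phi0_injective p (n / p) (Pm : Subgroup (Perm (Fin (n / p)))))
  · intro g
    rw [MonoidHom.comp_apply, sign_Psi]
    have : Phi0 p (n / p) Pm (SemidirectProduct.inr g)
        = Equiv.prodCongrLeft (fun _ : ZMod p => (g : Perm (Fin (n / p)))) := by
      unfold Phi0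
      rw [SemidirectProduct.lift_inr]
      rfl
    rw [this, sign_prodCongrLeft, Finset.prod_const, Finset.card_univ, ZMod.card]
  · rw [SemidirectProduct.card, Nat.card_fun, Sylow.card_eq_multiplicity, Nat.card_perm, Nat.card_perm,
      Nat.card_fin, Nat.card_fin, Nat.card_eq_fintype_card, Fintype.card_multiplicative, ZMod.card,
      ← pow_add]
    congr 1
    rw [Nat.factorization_def _ hp, Nat.factorization_def _ hp, ← padicValNat_mul_div_factorial n,
      padicValNat_factorial_mul, add_comm]

theorem sylow_perm_genBy (p : ℕ) [Fact p.Prime] :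
    ∀ (n : ℕ) (P : Sylow p (Perm (Fin n))), GenBy p P := by
  intro n
  induction n using Nat.strong_induction_on with
  | _ n ih =>
    intro P
    rcases Nat.eq_zero_or_pos n with rfl | hn
    · exact genBy_of_subsingleton p _
    · have hm : n / p < n := Nat.div_lt_self hn (Fact.out : p.Prime).one_lt
      obtain ⟨Pm⟩ : Nonempty (Sylow p (Perm (Fin (n / p)))) := inferInstance
      obtain ⟨Φ, hΦ, -, hcard⟩ := model p n Pm
      have hW : GenBy p (Wr p (n / p) Pm) :=
        genBy_semidirect _ (genBy_pi_zmod p _) (ih _ hm Pm)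
      exact genBy_sylow_of_model Φ hΦ hcard hW P

theorem sign_eq_one_of_odd_pgroup {p : ℕ} [Fact p.Prime] (hp2 : p ≠ 2) {n : ℕ}
    (P : Sylow p (Perm (Fin n))) (g : Perm (Fin n)) (hg : g ∈ P) : sign g = 1 := by
  have hp : p.Prime := Fact.out
  obtain ⟨k, hk⟩ := P.isPGroup' ⟨g, hg⟩
  have hk' : g ^ (p ^ k) = 1 := by simpa using congrArg Subtype.val hk
  have h1 : (sign g) ^ (p ^ k) = 1 := by rw [← map_pow, hk', map_one]
  have hodd : Odd (p ^ k) := (hp.odd_of_ne_two hp2).pow
  obtain ⟨j, hj⟩ := hodd
  rw [hj, pow_succ, pow_mul, Int.units_sq, one_pow, one_mul] at h1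
  exact h1

theorem sylow_alt_genBy (p : ℕ) [Fact p.Prime] (n : ℕ) (Q : Sylow p (alternatingGroup (Fin n))) :
    GenBy p Q := by
  have hp : p.Prime := Fact.out
  by_cases hn : n < 2
  · have : Subsingleton (Perm (Fin n)) := by
      interval_cases n <;> infer_instance
    exact genBy_of_subsingleton p _
  push Not at hn
  have hnt : Nontrivial (Fin n) := Fin.nontrivial_iff_two_le.mpr hn
  by_cases hp2 : p = 2
  · subst hp2
    obtain ⟨Pm⟩ : Nonempty (Sylow 2 (Perm (Fin (n / 2)))) := inferInstance
    obtain ⟨Φ, hΦ, hsign, hcard⟩ := model 2 n Pm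
    have hPm : GenBy 2 Pm := sylow_perm_genBy 2 _ Pm
    let ε : Wr 2 (n / 2) Pm →* ℤˣ := (sign).comp Φ
    have hε : ∀ g, ε (SemidirectProduct.inr g) = 1 := by
      intro g
      show sign (Φ (SemidirectProduct.inr g)) = 1
      rw [hsign, Int.units_sq]
    have hK : GenBy 2 ε.ker := genBy_ker _ ε hε (pi_zmod_pow 2 _) hPm
    let Φ' : ε.ker →* alternatingGroup (Fin n) :=
      (Φ.comp ε.ker.subtype).codRestrict (alternatingGroup (Fin n))
        (fun k => mem_alternatingGroup.mpr (MonoidHom.mem_ker.mp k.2))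
    have hΦ' : Function.Injective Φ' := by
      intro a b h
      have := congrArg Subtype.val h
      exact Subtype.ext (hΦ this)
    have hv : (Nat.card (Perm (Fin n))).factorization 2
        = (Nat.card (alternatingGroup (Fin n))).factorization 2 + 1 := by
      rw [← two_mul_nat_card_alternatingGroup, Nat.factorization_mul two_ne_zero Nat.card_pos.ne',
        Finsupp.add_apply, Nat.Prime.factorization_self Nat.prime_two, add_comm]
    have hidx : ε.ker.index = 2 := by
      have h1 : ε.ker.index ∣ 2 := by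
        rw [Subgroup.index_ker]
        have h2 : Nat.card ℤˣ = 2 := by rw [Nat.card_eq_fintype_card, Fintype.card_units_int]
        have := Subgroup.card_subgroup_dvd_card ε.range
        rwa [h2] at this
      rcases (Nat.dvd_prime Nat.prime_two).mp h1 with h | h
      · exfalso
        rw [Subgroup.index_eq_one] at h
        have hall : ∀ w, sign (Φ w) = 1 := by
          intro w
          have : w ∈ ε.ker := by rw [h]; exact Subgroup.mem_top w
          exact MonoidHom.mem_ker.mp this
        have hle : Φ.range ≤ alternatingGroup (Fin n) := by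
          rintro _ ⟨w, rfl⟩
          exact mem_alternatingGroup.mpr (hall w)
        have hd := Subgroup.card_dvd_of_le hle
        have hr : Nat.card Φ.range = Nat.card (Wr 2 (n / 2) Pm) :=
          Nat.card_congr (MonoidHom.ofInjective hΦ).toEquiv.symm
        rw [hr, hcard, hv] at hd
        exact Nat.pow_succ_factorization_not_dvd Nat.card_pos.ne' Nat.prime_two hd
      · exact h
    have hcK : Nat.card ε.ker = 2 ^ (Nat.card (alternatingGroup (Fin n))).factorization 2 := by
      have h3 := Subgroup.card_mul_index ε.ker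
      rw [hidx, hcard, hv, pow_succ] at h3
      exact Nat.eq_of_mul_eq_mul_right (by norm_num) h3
    exact genBy_sylow_of_model Φ' hΦ' hcK hK Q
  · obtain ⟨P⟩ : Nonempty (Sylow p (Perm (Fin n))) := inferInstance
    have hP : GenBy p P := sylow_perm_genBy p n P
    let Φ : (P : Subgroup (Perm (Fin n))) →* alternatingGroup (Fin n) :=
      ((P : Subgroup (Perm (Fin n))).subtype).codRestrict (alternatingGroup (Fin n))
        (fun g => mem_alternatingGroup.mpr (sign_eq_one_of_odd_pgroup hp2 P g g.2))
    have hΦ : Function.Injective Φ := by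
      intro a b h
      have := congrArg Subtype.val h
      exact Subtype.ext this
    have hc : Nat.card P = p ^ (Nat.card (alternatingGroup (Fin n))).factorization p := by
      rw [Sylow.card_eq_multiplicity, ← two_mul_nat_card_alternatingGroup (α := Fin n),
        Nat.factorization_mul two_ne_zero Nat.card_pos.ne', Finsupp.add_apply,
        Nat.factorization_eq_zero_of_not_dvd
          (fun h => hp2 ((Nat.prime_dvd_prime_iff_eq hp Nat.prime_two).mp h)), zero_add]
    exact genBy_sylow_of_model Φ hΦ hc hP Q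

theorem result (p : ℕ) [Fact p.Prime] (n : ℕ) (P : Sylow p (Equiv.Perm (Fin n))) (Q : Sylow p (alternatingGroup (Fin n))) :
    (∀ x : (P : Subgroup (Equiv.Perm (Fin n))), x ^ p ∈ commutator (P : Subgroup (Equiv.Perm (Fin n)))) ∧
    (∀ x : (Q : Subgroup (alternatingGroup (Fin n))), x ^ p ∈ commutator (Q : Subgroup (alternatingGroup (Fin n)))) :=
  ⟨fun x => (sylow_perm_genBy p n P).pow_mem_commutator x,
   fun x => (sylow_alt_genBy p n Q).pow_mem_commutator x⟩

end Cfsg.Agent.S4623
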