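import Mathlib
import Cfsg.Statements.S4624
import Cfsg.Agent.S4623
import Cfsg.Agent.S2250

set_option autoImplicit false
open Cfsg

namespace Cfsg.Agent.S4624

open Matrix Cfsg.Agent.Lib.Helper14
open scoped commutatorElement

/-! ### squares in the commutator subgroup -/

/-- elements whose square lies in the commutator subgroup -/
def sqKer (G : Type*) [Group G] : Subgroup G :=
  ((powMonoidHom 2 : Abelianization G →* Abelianization G).comp Abelianization.of).ker

theorem mem_sqKer {G : Type*} [Group G] (x : G) : x ∈ sqKer G ↔ x ^ 2 ∈ commutator G := by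
  have h1 : x ∈ sqKer G ↔ (Abelianization.of x) ^ 2 = 1 := Iff.rfl
  have h2 : x ^ 2 ∈ commutator G ↔ Abelianization.of (x ^ 2) = 1 := by
    rw [← Abelianization.ker_of]; exact MonoidHom.mem_ker
  rw [h1, h2, map_pow]

theorem map_mem_commutator {G H : Type*} [Group G] [Group H] (f : G →* H) {x : G}
    (hx : x ∈ commutator G) : f x ∈ commutator H := by
  rw [← Abelianization.ker_of, MonoidHom.mem_ker] at hx ⊢
  rw [← Abelianization.map_of f x, hx, map_one]

theorem map_sqKer {G H : Type*} [Group G] [Group H] (f : G →* H) {x : G} (hx : x ∈ sqKer G) :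
    f x ∈ sqKer H := by
  rw [mem_sqKer] at hx ⊢
  rw [← map_pow]
  exact map_mem_commutator f hx

theorem sqComm_of_closure {G : Type*} [Group G] {S : Set G} (hS : Subgroup.closure S = ⊤)
    (h : ∀ s ∈ S, s ^ 2 ∈ commutator G) : ∀ x : G, x ^ 2 ∈ commutator G := by
  intro x
  rw [← mem_sqKer]
  have h1 : Subgroup.closure S ≤ sqKer G :=
    (Subgroup.closure_le _).mpr (fun s hs => (mem_sqKer s).mpr (h s hs))
  apply h1
  rw [hS]
  exact Subgroup.mem_top x

theorem sqComm_of_mulEquiv {G H : Type*} [Group G] [Group H] (e : G ≃* H)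
    (h : ∀ x : G, x ^ 2 ∈ commutator G) : ∀ y : H, y ^ 2 ∈ commutator H := by
  intro y
  have h1 := map_mem_commutator e.toMonoidHom (h (e.symm y))
  rw [map_pow] at h1
  simpa using h1

theorem sqComm_semidirect {N G : Type*} [Group N] [Group G] (φ : G →* MulAut N)
    (hN : ∀ x : N, x ^ 2 ∈ commutator N) (hG : ∀ x : G, x ^ 2 ∈ commutator G) :
    ∀ w : N ⋊[φ] G, w ^ 2 ∈ commutator (N ⋊[φ] G) := by
  intro w
  rw [← mem_sqKer, ← SemidirectProduct.inl_left_mul_inr_right w]
  exact mul_mem (map_sqKer SemidirectProduct.inl ((mem_sqKer _).mpr (hN _)))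
    (map_sqKer SemidirectProduct.inr ((mem_sqKer _).mpr (hG _)))

theorem sqComm_pi {ι : Type*} [Finite ι] [DecidableEq ι] {A : ι → Type*} [∀ i, Group (A i)]
    (h : ∀ i, ∀ x : A i, x ^ 2 ∈ commutator (A i)) :
    ∀ f : (∀ i, A i), f ^ 2 ∈ commutator (∀ i, A i) := by
  intro f
  rw [← mem_sqKer]
  have key : Subgroup.pi Set.univ (fun i => (⊤ : Subgroup (A i))) ≤ sqKer (∀ i, A i) := by
    rw [Subgroup.pi_le_iff]
    rintro i _ ⟨a, -, rfl⟩
    exact map_sqKer (MonoidHom.mulSingle A i) ((mem_sqKer a).mpr (h i a))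
  apply key
  rw [Subgroup.mem_pi]
  intro i _
  exact Subgroup.mem_top _

/-! ### a quaternion-like subgroup -/

theorem conj_inv_of {G : Type*} [Group G] (g h v : G) (h1 : v * g = h * v) (h2 : h * g = 1) :
    v * g * v⁻¹ = g⁻¹ := by
  rw [h1, mul_inv_cancel_right]
  exact eq_inv_of_mul_eq_one_left h2

theorem sqComm_pair {G : Type*} [Group G] (Q : Subgroup G) (g v : G) (j : ℕ) (hgQ : g ∈ Q)
    (hvQ : v ∈ Q) (hgen : Subgroup.closure (((↑) : Q → G) ⁻¹' {v, g}) = ⊤)
    (hvg : v * g⁻¹ * v⁻¹ = g) (hv2 : v ^ 2 = g ^ (2 ^ (j + 1))) :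
    ∀ x : Q, x ^ 2 ∈ commutator Q := by
  have hg2 : (⟨g, hgQ⟩ : Q) ^ 2 ∈ commutator Q := by
    have e : (⟨g, hgQ⟩ : Q) ^ 2 = ⁅(⟨g, hgQ⟩ : Q), ⟨v, hvQ⟩⁆ := by
      apply Subtype.ext
      show g ^ 2 = g * v * g⁻¹ * v⁻¹
      calc g ^ 2 = g * (v * g⁻¹ * v⁻¹) := by rw [hvg, pow_two]
        _ = g * v * g⁻¹ * v⁻¹ := by group
    rw [e, commutator_def]
    exact Subgroup.commutator_mem_commutator (Subgroup.mem_top _) (Subgroup.mem_top _)
  apply sqComm_of_closure hgen
  rintro ⟨x, hx⟩ hxS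
  have hxS' : x = v ∨ x = g := hxS
  rcases hxS' with h | h
  · have e : (⟨x, hx⟩ : Q) ^ 2 = ((⟨g, hgQ⟩ : Q) ^ 2) ^ (2 ^ j) := by
      apply Subtype.ext
      show x ^ 2 = (g ^ 2) ^ (2 ^ j)
      rw [h, hv2, ← pow_mul]
      congr 1
      ring
    rw [e]
    exact pow_mem hg2 _
  · have e : (⟨x, hx⟩ : Q) = ⟨g, hgQ⟩ := Subtype.ext h
    rw [e]
    exact hg2

theorem quat_sub {G : Type*} [Group G] [Finite G] (g v : G) (j : ℕ)
    (hg : orderOf g = 2 ^ (j + 2)) (hv : v * g * v⁻¹ = g⁻¹) (hv2 : v ^ 2 = g ^ (2 ^ (j + 1))) :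
    ∃ Q : Subgroup G, IsPGroup 2 Q ∧ 2 ^ (j + 3) ≤ Nat.card Q ∧ ∀ x : Q, x ^ 2 ∈ commutator Q := by
  have hQsup : Subgroup.closure ({v, g} : Set G) = Subgroup.zpowers v ⊔ Subgroup.zpowers g := by
    rw [Subgroup.zpowers_eq_closure, Subgroup.zpowers_eq_closure, ← Subgroup.closure_union,
      Set.singleton_union]
  have key : ∀ x ∈ Subgroup.zpowers g, v * x * v⁻¹ = x⁻¹ := by
    intro x hx
    obtain ⟨i, rfl⟩ := Subgroup.mem_zpowers_iff.mp hx
    have h := map_zpow (MulAut.conj v) g i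
    rw [MulAut.conj_apply, MulAut.conj_apply, hv, _root_.inv_zpow] at h
    exact h
  have hvN : v ∈ Subgroup.normalizer (Subgroup.zpowers g : Set G) := by
    rw [Subgroup.mem_normalizer_iff_map_conj_eq, MonoidHom.map_zpowers, MonoidHom.coe_coe,
      MulAut.conj_apply, hv, Subgroup.zpowers_inv]
  have hZp : IsPGroup 2 (Subgroup.zpowers g) :=
    IsPGroup.of_card (n := j + 2) (by rw [Nat.card_zpowers, hg])
  have he : 2 ^ (j + 1) * 2 = orderOf g := by rw [hg]; ring
  have hv4 : v ^ 4 = 1 := by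
    have h : v ^ 4 = (v ^ 2) ^ 2 := by rw [← pow_mul]
    rw [h, hv2, ← pow_mul, he, pow_orderOf_eq_one]
  have hVp : IsPGroup 2 (Subgroup.zpowers v) := by
    have hd : orderOf v ∣ 2 ^ 2 := orderOf_dvd_of_pow_eq_one (by norm_num [hv4])
    obtain ⟨i, -, hi⟩ := (Nat.dvd_prime_pow Nat.prime_two).mp hd
    exact IsPGroup.of_card (n := i) (by rw [Nat.card_zpowers, hi])
  have hQ2 : IsPGroup 2 (Subgroup.closure ({v, g} : Set G)) := by
    rw [hQsup]
    exact IsPGroup.to_sup_of_normal_right' hVp hZp (Subgroup.zpowers_le.mpr hvN)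
  have hvZ : v ∉ Subgroup.zpowers g := by
    intro hvz
    have h1 := key v hvz
    rw [mul_inv_cancel_right] at h1
    have h2 : v ^ 2 = 1 := by
      calc v ^ 2 = v * v := pow_two v
        _ = v * v⁻¹ := by rw [← h1]
        _ = 1 := mul_inv_cancel v
    rw [hv2] at h2
    have h3 := orderOf_dvd_of_pow_eq_one h2
    rw [hg, Nat.pow_dvd_pow_iff_le_right (by norm_num)] at h3
    omega
  have hvQ : v ∈ Subgroup.closure ({v, g} : Set G) := Subgroup.subset_closure (by simp)
  have hgQ : g ∈ Subgroup.closure ({v, g} : Set G) := Subgroup.subset_closure (by simp)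
  have hZQ : Subgroup.zpowers g ≤ Subgroup.closure ({v, g} : Set G) :=
    Subgroup.zpowers_le.mpr hgQ
  obtain ⟨a, ha⟩ := IsPGroup.iff_card.mp hQ2
  have hZc : Nat.card (Subgroup.zpowers g) = 2 ^ (j + 2) := by rw [Nat.card_zpowers, hg]
  have hdvd : 2 ^ (j + 2) ∣ 2 ^ a := by
    rw [← hZc, ← ha]
    exact Subgroup.card_dvd_of_le hZQ
  have hle : j + 2 ≤ a := (Nat.pow_dvd_pow_iff_le_right (by norm_num)).mp hdvd
  have hne : a ≠ j + 2 := by
    intro h
    have h1 : Subgroup.zpowers g = Subgroup.closure ({v, g} : Set G) :=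
      Subgroup.eq_of_le_of_card_ge hZQ (by rw [ha, hZc, h])
    exact hvZ (h1 ▸ hvQ)
  have hcard : 2 ^ (j + 3) ≤ Nat.card (Subgroup.closure ({v, g} : Set G)) := by
    rw [ha]
    exact Nat.pow_le_pow_right (by norm_num) (by omega)
  have hvg : v * g⁻¹ * v⁻¹ = g := by
    have h := key g⁻¹ (inv_mem (Subgroup.mem_zpowers g))
    rw [inv_inv] at h
    exact h
  exact ⟨_, hQ2, hcard,
    sqComm_pair _ g v j hgQ hvQ Subgroup.closure_closure_coe_preimage hvg hv2⟩

theorem two_part {G : Type*} [Group G] (g₀ v : G) (m : ℕ) (hm : orderOf g₀ = m) (h4 : 4 ∣ m)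
    (hm0 : m ≠ 0) (hv : v * g₀ * v⁻¹ = g₀⁻¹) :
    ∃ (j : ℕ) (g : G), m.factorization 2 = j + 2 ∧ orderOf g = 2 ^ (j + 2) ∧
      v * g * v⁻¹ = g⁻¹ := by
  have hk : 2 ≤ m.factorization 2 := by
    apply (Nat.prime_two.pow_dvd_iff_le_factorization hm0).mp
    have : (2 : ℕ) ^ 2 = 4 := by norm_num
    rw [this]
    exact h4
  refine ⟨m.factorization 2 - 2, g₀ ^ (ordCompl[2] m), by omega, ?_, ?_⟩
  · have hc0 : ordCompl[2] m ≠ 0 := (Nat.ordCompl_pos 2 hm0).ne'
    rw [orderOf_pow_of_dvd hc0 (by rw [hm]; exact Nat.ordCompl_dvd m 2), hm,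
      show m.factorization 2 - 2 + 2 = m.factorization 2 by omega]
    exact Nat.div_eq_of_eq_mul_left (Nat.ordCompl_pos 2 hm0)
      (Nat.ordProj_mul_ordCompl_eq_self m 2).symm
  · have h := map_pow (MulAut.conj v) g₀ (ordCompl[2] m)
    rw [MulAut.conj_apply, MulAut.conj_apply, hv, _root_.inv_pow] at h
    exact h

/-! ### arithmetic -/

theorem sq_sub_one_fac (q : ℕ) (hq : 1 ≤ q) : q ^ 2 - 1 = (q - 1) * (q + 1) := by
  obtain ⟨r, rfl⟩ : ∃ r, q = r + 1 := ⟨q - 1, by omega⟩
  rw [Nat.add_sub_cancel]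
  exact Nat.sub_eq_of_eq_add (by ring)

theorem val2_of_mod4 (t : ℕ) (h : t % 4 = 2) : t.factorization 2 = 1 := by
  obtain ⟨s, rfl⟩ : ∃ s, t = 2 * s := ⟨t / 2, by omega⟩
  have hs : ¬ 2 ∣ s := by omega
  have hs0 : s ≠ 0 := by rintro rfl; omega
  rw [Nat.factorization_mul (by norm_num) hs0]
  simp only [Finsupp.coe_add, Pi.add_apply]
  rw [Nat.Prime.factorization_self Nat.prime_two, Nat.factorization_eq_zero_of_not_dvd hs]

theorem val2_sl2 (q m : ℕ) (hq : Odd q) (hq1 : 1 < q) (h4 : 4 ∣ m)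
    (hmq : m = q - 1 ∨ m = q + 1) :
    (q * (q ^ 2 - 1)).factorization 2 = m.factorization 2 + 1 := by
  have hfac := sq_sub_one_fac q (by omega)
  have hq0 : q ≠ 0 := by omega
  have hvq : q.factorization 2 = 0 := by
    apply Nat.factorization_eq_zero_of_not_dvd
    rw [← even_iff_two_dvd, Nat.not_even_iff_odd]
    exact hq
  have h1 : q - 1 ≠ 0 := by omega
  have h2 : q + 1 ≠ 0 := by omega
  rw [hfac, Nat.factorization_mul hq0 (mul_ne_zero h1 h2), Nat.factorization_mul h1 h2]
  simp only [Finsupp.coe_add, Pi.add_apply]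
  rw [hvq]
  rcases hmq with rfl | rfl
  · rw [val2_of_mod4 (q + 1) (by omega)]
    omega
  · rw [val2_of_mod4 (q - 1) (by omega)]
    omega

theorem card_eq_of_pgroup_ge {G : Type*} [Group G] [Finite G] {p : ℕ} [Fact p.Prime]
    (H : Subgroup G) (hH : IsPGroup p H) (hge : p ^ (Nat.card G).factorization p ≤ Nat.card H) :
    Nat.card H = p ^ (Nat.card G).factorization p := by
  have hp : p.Prime := Fact.out
  obtain ⟨a, ha⟩ := IsPGroup.iff_card.mp hH
  have hdvd : p ^ a ∣ Nat.card G := ha ▸ Subgroup.card_subgroup_dvd_card H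
  have h1 : a ≤ (Nat.card G).factorization p :=
    (hp.pow_dvd_iff_le_factorization Nat.card_pos.ne').mp hdvd
  have h2 : (Nat.card G).factorization p ≤ a := by
    rw [ha] at hge
    exact (Nat.pow_le_pow_iff_right hp.one_lt).mp hge
  rw [ha, le_antisymm h1 h2]

/-! ### explicit elements of `SL₂(F)` -/

section SL2
variable {F : Type*} [Field F]

/-- a `2 × 2` matrix of determinant one -/
def mk2 (a b c d : F) (h : a * d - b * c = 1) : SpecialLinearGroup (Fin 2) F :=
  ⟨!![a, b; c, d], by rw [det_fin_two_of]; exact h⟩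

theorem mk2_congr {a b c d a' b' c' d' : F} {h : a * d - b * c = 1}
    {h' : a' * d' - b' * c' = 1} (ha : a = a') (hb : b = b') (hc : c = c') (hd : d = d') :
    mk2 a b c d h = mk2 a' b' c' d' h' := by
  subst ha hb hc hd
  rfl

theorem mk2_inj {a b c d a' b' c' d' : F} {h : a * d - b * c = 1}
    {h' : a' * d' - b' * c' = 1} (H : mk2 a b c d h = mk2 a' b' c' d' h') :
    a = a' ∧ b = b' ∧ c = c' ∧ d = d' := by
  have H' : (!![a, b; c, d] : Matrix (Fin 2) (Fin 2) F) = !![a', b'; c', d'] :=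
    congrArg Subtype.val H
  refine ⟨?_, ?_, ?_, ?_⟩
  · simpa using congrFun (congrFun H' 0) 0
  · simpa using congrFun (congrFun H' 0) 1
  · simpa using congrFun (congrFun H' 1) 0
  · simpa using congrFun (congrFun H' 1) 1

theorem mk2_mul_aux {a b c d a' b' c' d' : F} (h : a * d - b * c = 1)
    (h' : a' * d' - b' * c' = 1) :
    (a * a' + b * c') * (c * b' + d * d') - (a * b' + b * d') * (c * a' + d * c') = 1 := by
  linear_combination (a' * d' - b' * c') * h + h'

theorem mk2_mul (a b c d a' b' c' d' : F) (h : a * d - b * c = 1)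
    (h' : a' * d' - b' * c' = 1) :
    mk2 a b c d h * mk2 a' b' c' d' h' =
      mk2 (a * a' + b * c') (a * b' + b * d') (c * a' + d * c') (c * b' + d * d')
        (mk2_mul_aux h h') := by
  apply Subtype.ext
  show !![a, b; c, d] * !![a', b'; c', d'] = _
  rw [Matrix.mul_fin_two]
  rfl

theorem mk2_one : mk2 (1 : F) 0 0 1 (by ring) = 1 := Subtype.ext Matrix.one_fin_two.symm

theorem eq_mk2 (x : SpecialLinearGroup (Fin 2) F) :
    x = mk2 (x.1 0 0) (x.1 0 1) (x.1 1 0) (x.1 1 1)
      (by have := x.2; rwa [det_fin_two] at this) :=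
  Subtype.ext (Matrix.eta_fin_two x.1)

/-- the central involution -/
def negOne : SpecialLinearGroup (Fin 2) F := mk2 (-1 : F) 0 0 (-1) (by ring)

theorem sl2_sq_eq_one (h2 : (2 : F) ≠ 0) (x : SpecialLinearGroup (Fin 2) F) (hx : x ^ 2 = 1) :
    x = 1 ∨ x = negOne := by
  obtain ⟨a, b, c, d, h, rfl⟩ : ∃ a b c d h, x = mk2 a b c d h := ⟨_, _, _, _, _, eq_mk2 x⟩
  rw [pow_two, mk2_mul, ← mk2_one] at hx
  obtain ⟨e1, e2, e3, e4⟩ := mk2_inj hx
  by_cases ht : a + d = 0
  · exfalso
    apply h2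
    have hd : d = -a := by linear_combination ht
    subst hd
    linear_combination (-1 : F) * h - e1
  · have hb : b = 0 := by
      have : b * (a + d) = 0 := by linear_combination e2
      rcases mul_eq_zero.mp this with h' | h'
      · exact h'
      · exact absurd h' ht
    have hc : c = 0 := by
      have : c * (a + d) = 0 := by linear_combination e3
      rcases mul_eq_zero.mp this with h' | h'
      · exact h'
      · exact absurd h' ht
    subst hb hc
    have haa : a * a = 1 := by linear_combination e1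
    have had : a * d = 1 := by linear_combination h
    have hdd : d * d = 1 := by linear_combination e4
    have hda : d = a := by linear_combination a * hdd - d * had
    subst hda
    rcases mul_self_eq_one_iff.mp haa with h' | h'
    · left
      rw [← mk2_one]
      exact mk2_congr h' rfl rfl h'
    · right
      rw [negOne]
      exact mk2_congr h' rfl rfl h'

/-- the split torus -/
def dg : Fˣ →* SpecialLinearGroup (Fin 2) F where
  toFun a := mk2 (a : F) 0 0 ((a⁻¹ : Fˣ) : F) (by rw [mul_zero, sub_zero, Units.mul_inv])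
  map_one' := by
    rw [← mk2_one]
    apply mk2_congr <;> simp
  map_mul' a b := by
    show mk2 _ _ _ _ _ = mk2 _ _ _ _ _ * mk2 _ _ _ _ _
    rw [mk2_mul]
    apply mk2_congr <;> simp [mul_comm]

theorem dg_apply (a : Fˣ) :
    dg a = mk2 (a : F) 0 0 ((a⁻¹ : Fˣ) : F) (by rw [mul_zero, sub_zero, Units.mul_inv]) := rfl

theorem dg_injective : Function.Injective (dg (F := F)) := by
  intro a b h
  rw [dg_apply, dg_apply] at h
  obtain ⟨h1, -, -, -⟩ := mk2_inj h
  exact Units.ext h1

/-- the Weyl element -/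
def vA : SpecialLinearGroup (Fin 2) F := mk2 (0 : F) 1 (-1) 0 (by ring)

theorem vA_mul_dg (a : Fˣ) : (vA : SpecialLinearGroup (Fin 2) F) * dg a = dg a⁻¹ * vA := by
  rw [dg_apply, dg_apply, vA, mk2_mul, mk2_mul]
  apply mk2_congr <;> simp

theorem vA_sq : (vA : SpecialLinearGroup (Fin 2) F) ^ 2 = negOne := by
  rw [pow_two, vA, mk2_mul, negOne]
  apply mk2_congr <;> ring

/-- `F[i]` -/
abbrev KQ (F : Type*) [Field F] := QuadraticAlgebra F (-1 : F) 0

/-- regular representation of the norm-one elements of `F[i]` -/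
def rho : MonoidHom.mker (QuadraticAlgebra.norm : KQ F →* F) →* SpecialLinearGroup (Fin 2) F where
  toFun z := mk2 (z : KQ F).re (-(z : KQ F).im) (z : KQ F).im (z : KQ F).re (by
    have h := z.2
    rw [MonoidHom.mem_mker, QuadraticAlgebra.norm_def] at h
    linear_combination h)
  map_one' := by
    rw [← mk2_one]
    apply mk2_congr <;> simp [QuadraticAlgebra.re_one, QuadraticAlgebra.im_one]
  map_mul' z w := by
    show mk2 _ _ _ _ _ = mk2 _ _ _ _ _ * mk2 _ _ _ _ _
    rw [mk2_mul]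
    apply mk2_congr <;> simp [QuadraticAlgebra.re_mul, QuadraticAlgebra.im_mul] <;> ring

theorem rho_injective : Function.Injective (rho (F := F)) := by
  intro z w h
  have H : (!![(z : KQ F).re, -(z : KQ F).im; (z : KQ F).im, (z : KQ F).re] :
      Matrix (Fin 2) (Fin 2) F) =
      !![(w : KQ F).re, -(w : KQ F).im; (w : KQ F).im, (w : KQ F).re] := congrArg Subtype.val h
  have h1 : (z : KQ F).re = (w : KQ F).re := by simpa using congrFun (congrFun H 0) 0
  have h3 : (z : KQ F).im = (w : KQ F).im := by simpa using congrFun (congrFun H 1) 0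
  exact Subtype.ext (QuadraticAlgebra.ext h1 h3)

theorem vB_mul_rot (x y r i : F) (hxy : x * x + y * y = -1) (h : r * r + i * i = 1) :
    mk2 x y y (-x) (by linear_combination (-1 : F) * hxy) *
        mk2 r (-i) i r (by linear_combination h) =
      mk2 r i (-i) r (by linear_combination h) *
        mk2 x y y (-x) (by linear_combination (-1 : F) * hxy) := by
  rw [mk2_mul, mk2_mul]
  apply mk2_congr <;> ring

theorem rot_inv_mul (r i : F) (h : r * r + i * i = 1) :
    mk2 r i (-i) r (by linear_combination h) * mk2 r (-i) i r (by linear_combination h) = 1 := by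
  rw [mk2_mul, ← mk2_one]
  apply mk2_congr
  · linear_combination h
  · ring
  · ring
  · linear_combination h

theorem vB_sq (x y : F) (hxy : x * x + y * y = -1) :
    (mk2 x y y (-x) (by linear_combination (-1 : F) * hxy)) ^ 2 = negOne := by
  rw [pow_two, mk2_mul, negOne]
  apply mk2_congr
  · linear_combination hxy
  · ring
  · ring
  · linear_combination hxy

theorem exists_sq_add_sq [Fintype F] (hF : Odd (Fintype.card F)) :
    ∃ x y : F, x * x + y * y = -1 := by
  obtain ⟨a, b, hab⟩ := FiniteField.exists_root_sum_quadratic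
    (f := (Polynomial.X : Polynomial F) ^ 2) (g := Polynomial.X ^ 2 + Polynomial.C 1)
    (Polynomial.degree_X_pow 2) (Polynomial.degree_X_pow_add_C (by norm_num) 1)
    (Nat.odd_iff.mp hF)
  refine ⟨a, b, ?_⟩
  simp only [Polynomial.eval_add, Polynomial.eval_pow, Polynomial.eval_X,
    Polynomial.eval_C] at hab
  linear_combination hab

theorem exists_sl2_data [Fintype F] (hF : Odd (Fintype.card F)) :
    ∃ (m : ℕ) (g₀ v : SpecialLinearGroup (Fin 2) F), orderOf g₀ = m ∧ 4 ∣ m ∧
      (m = Fintype.card F - 1 ∨ m = Fintype.card F + 1) ∧ v * g₀ * v⁻¹ = g₀⁻¹ ∧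
      v ^ 2 = negOne := by
  classical
  have hq1 : 1 < Fintype.card F := Fintype.one_lt_card
  have hmod : Fintype.card F % 4 = 1 ∨ Fintype.card F % 4 = 3 := by
    obtain ⟨k, hk⟩ := hF
    omega
  rcases hmod with h4 | h4
  · obtain ⟨a, ha⟩ := IsCyclic.exists_ofOrder_eq_natCard (α := Fˣ)
    rw [Nat.card_units, Nat.card_eq_fintype_card] at ha
    refine ⟨Fintype.card F - 1, dg a, vA, ?_, ?_, Or.inl rfl, ?_, vA_sq⟩
    · rw [orderOf_injective dg dg_injective, ha]
    · omega
    · exact conj_inv_of _ (dg a⁻¹) _ (vA_mul_dg a)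
        (by rw [← map_mul, inv_mul_cancel, map_one])
  · have hns : ¬ IsSquare (-1 : F) := by
      rw [FiniteField.isSquare_neg_one_iff]
      exact fun h => h h4
    have : Fact (∀ r : F, r ^ 2 ≠ (-1 : F) + 0 * r) :=
      ⟨fun r hr => hns ⟨r, by rw [← pow_two, hr]; ring⟩⟩
    have : Finite (KQ F) :=
      Finite.of_equiv (F × F) (QuadraticAlgebra.equivProd (-1 : F) 0).symm
    have hcK : Nat.card (KQ F) = Fintype.card F ^ 2 := by
      rw [Nat.card_congr (QuadraticAlgebra.equivProd (-1 : F) 0), Nat.card_prod,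
        Nat.card_eq_fintype_card, pow_two]
    obtain ⟨θ, hθ⟩ := IsCyclic.exists_ofOrder_eq_natCard (α := (KQ F)ˣ)
    rw [Nat.card_units, hcK, sq_sub_one_fac _ hq1.le] at hθ
    have hq0 : Fintype.card F - 1 ≠ 0 := by omega
    have hu : orderOf (θ ^ (Fintype.card F - 1)) = Fintype.card F + 1 := by
      rw [orderOf_pow_of_dvd hq0 (by rw [hθ]; exact Dvd.intro _ rfl), hθ,
        Nat.mul_div_cancel_left _ (by omega)]
    have hnu : QuadraticAlgebra.norm (((θ ^ (Fintype.card F - 1) : (KQ F)ˣ)) : KQ F) = 1 := by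
      rw [Units.val_pow_eq_pow_val, map_pow]
      apply FiniteField.pow_card_sub_one_eq_one
      rw [Ne, QuadraticAlgebra.norm_eq_zero_iff_eq_zero]
      exact θ.ne_zero
    obtain ⟨x, y, hxy⟩ := exists_sq_add_sq hF
    generalize (θ ^ (Fintype.card F - 1) : (KQ F)ˣ) = u at hu hnu
    have hn1 : (u : KQ F).re * (u : KQ F).re + (u : KQ F).im * (u : KQ F).im = 1 := by
      have h := hnu
      rw [QuadraticAlgebra.norm_def] at h
      linear_combination h
    have hrho : rho ⟨(u : KQ F), MonoidHom.mem_mker.mpr hnu⟩ =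
        mk2 (u : KQ F).re (-(u : KQ F).im) (u : KQ F).im (u : KQ F).re
          (by linear_combination hn1) := rfl
    refine ⟨Fintype.card F + 1, rho ⟨(u : KQ F), MonoidHom.mem_mker.mpr hnu⟩,
      mk2 x y y (-x) (by linear_combination (-1 : F) * hxy), ?_, ?_, Or.inr rfl, ?_,
      vB_sq x y hxy⟩
    · rw [orderOf_injective rho rho_injective, ← hu, ← orderOf_units]
      exact (orderOf_submonoid (⟨(u : KQ F), MonoidHom.mem_mker.mpr hnu⟩ :
        MonoidHom.mker (QuadraticAlgebra.norm : KQ F →* F))).symm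
    · omega
    · rw [hrho]
      exact conj_inv_of _ _ _ (vB_mul_rot x y _ _ hxy hn1) (rot_inv_mul _ _ hn1)

theorem exists_sl2_sub [Fintype F] (hF : Odd (Fintype.card F)) :
    ∃ Q : Subgroup (SpecialLinearGroup (Fin 2) F), IsPGroup 2 Q ∧
      2 ^ (Nat.card (SpecialLinearGroup (Fin 2) F)).factorization 2 ≤ Nat.card Q ∧
      ∀ x : Q, x ^ 2 ∈ commutator Q := by
  have h2 : (2 : F) ≠ 0 := Cfsg.Agent.S2234.two_ne_zero_of_odd hF
  have hq1 : 1 < Fintype.card F := Fintype.one_lt_card
  obtain ⟨m, g₀, v, hm, h4, hmq, hv, hv2⟩ := exists_sl2_data hF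
  have hm0 : m ≠ 0 := by rcases hmq with rfl | rfl <;> omega
  obtain ⟨j, g, hj, hg, hvg⟩ := two_part g₀ v m hm h4 hm0 hv
  have he : 2 ^ (j + 1) * 2 = orderOf g := by rw [hg]; ring
  have hvv : v ^ 2 = g ^ (2 ^ (j + 1)) := by
    have h1 : (g ^ (2 ^ (j + 1))) ^ 2 = 1 := by
      rw [← pow_mul, he]
      exact pow_orderOf_eq_one g
    rcases sl2_sq_eq_one h2 _ h1 with h | h
    · exfalso
      have h3 := orderOf_dvd_of_pow_eq_one h
      rw [hg, Nat.pow_dvd_pow_iff_le_right (by norm_num)] at h3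
      omega
    · rw [hv2, h]
  obtain ⟨Q, hQ2, hQc, hQE⟩ := quat_sub g v j hg hvg hvv
  refine ⟨Q, hQ2, ?_, hQE⟩
  rw [card_SL2, val2_sl2 _ m hF hq1 h4 hmq, hj]
  exact hQc

end SL2

/-! ### the wreath product inside `Sp` -/

section Wreath
variable {F : Type*} [Field F] {n : ℕ}

/-- the permutation action of a subgroup of `S_n` on functions -/
def actT (A : Type*) [Group A] (T : Subgroup (Equiv.Perm (Fin n))) :
    T →* MulAut (Fin n → A) :=
  (Cfsg.Agent.S4623.actAut (Fin n) A).comp T.subtype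

/-- coordinatewise inclusion -/
def inclPi (Q : Subgroup (SpecialLinearGroup (Fin 2) F)) :
    (Fin n → Q) →* (Fin n → SpecialLinearGroup (Fin 2) F) where
  toFun f i := (f i : SpecialLinearGroup (Fin 2) F)
  map_one' := rfl
  map_mul' _ _ := rfl

theorem inclPi_injective (Q : Subgroup (SpecialLinearGroup (Fin 2) F)) :
    Function.Injective (inclPi (n := n) Q) := by
  intro f g h
  funext i
  exact Subtype.ext (congrFun h i)

theorem PhiW_compat (Q : Subgroup (SpecialLinearGroup (Fin 2) F))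
    (T : Subgroup (Equiv.Perm (Fin n))) (t : T) :
    ((sl2ToSp (F := F) (l := Fin n)).comp (inclPi Q)).comp (MulEquiv.toMonoidHom (actT Q T t)) =
      (MulEquiv.toMonoidHom (MulAut.conj (((permSp (F := F) (l := Fin n)).comp T.subtype) t))).comp
        ((sl2ToSp (F := F) (l := Fin n)).comp (inclPi Q)) := by
  refine MonoidHom.ext fun f => ?_
  show sl2ToSp (inclPi Q (f ∘ ⇑(t : Equiv.Perm (Fin n)).symm)) =
    permSp (t : Equiv.Perm (Fin n)) * sl2ToSp (inclPi Q f) * (permSp (t : Equiv.Perm (Fin n)))⁻¹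
  rw [permSp_mul_sl2ToSp, mul_inv_cancel_right]
  rfl

/-- the embedding of `Q ≀ T` into `Sp` -/
def PhiW (Q : Subgroup (SpecialLinearGroup (Fin 2) F)) (T : Subgroup (Equiv.Perm (Fin n))) :
    (Fin n → Q) ⋊[actT Q T] T →* symplecticGroup (Fin n) F :=
  SemidirectProduct.lift ((sl2ToSp (F := F) (l := Fin n)).comp (inclPi Q))
    ((permSp (F := F) (l := Fin n)).comp T.subtype) (PhiW_compat Q T)

theorem PhiW_injective (Q : Subgroup (SpecialLinearGroup (Fin 2) F))
    (T : Subgroup (Equiv.Perm (Fin n))) : Function.Injective (PhiW Q T) := by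
  rw [injective_iff_map_eq_one]
  intro w hw
  rw [← SemidirectProduct.inl_left_mul_inr_right w, map_mul, PhiW, SemidirectProduct.lift_inl,
    SemidirectProduct.lift_inr] at hw
  have h1 : sl2ToSp (inclPi Q w.left) = permSp ((w.right : Equiv.Perm (Fin n))⁻¹) := by
    rw [map_inv]
    exact eq_inv_of_mul_eq_one_left hw
  obtain ⟨h2, h3⟩ := sl2ToSp_eq_permSp _ _ h1
  apply SemidirectProduct.ext
  · show w.left = 1
    apply inclPi_injective Q
    rw [h2, map_one]
  · show w.right = 1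
    apply Subtype.ext
    rw [inv_eq_one] at h3
    exact h3

end Wreath

/-- Let F be a finite field of odd order and n ≥ 1. A Sylow 2-subgroup P of the symplectic group Sp_{2n}(F) has P/P' elementary abelian: the square of every element of P lies in the derived subgroup of P. -/
theorem result {F : Type*} [Field F] [Fintype F] (hF : Odd (Fintype.card F)) (n : ℕ) (hn : 1 ≤ n) (P : Sylow 2 (Matrix.symplecticGroup (Fin n) F)) :
    ∀ x : (P : Subgroup (Matrix.symplecticGroup (Fin n) F)), x ^ 2 ∈ commutator (P : Subgroup (Matrix.symplecticGroup (Fin n) F)) := by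
  classical
  obtain ⟨Q, hQ2, hQc, hQE⟩ := exists_sl2_sub hF
  obtain ⟨T⟩ : Nonempty (Sylow 2 (Equiv.Perm (Fin n))) := inferInstance
  obtain ⟨a, ha⟩ := IsPGroup.iff_card.mp hQ2
  have hle : (Nat.card (SpecialLinearGroup (Fin 2) F)).factorization 2 ≤ a := by
    rw [ha] at hQc
    exact (Nat.pow_le_pow_iff_right (by norm_num)).mp hQc
  have hcardW : Nat.card ((Fin n → Q) ⋊[actT Q (T : Subgroup (Equiv.Perm (Fin n)))] T) =
      2 ^ (a * n + (n.factorial).factorization 2) := by
    rw [SemidirectProduct.card, Nat.card_fun, Nat.card_fin, ha, Sylow.card_eq_multiplicity,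
      Nat.card_perm, Nat.card_fin, ← pow_mul, ← pow_add]
  have hSL0 : Nat.card (SpecialLinearGroup (Fin 2) F) ≠ 0 := Nat.card_pos.ne'
  have hval : (Nat.card (symplecticGroup (Fin n) F)).factorization 2 =
      n * (Nat.card (SpecialLinearGroup (Fin 2) F)).factorization 2 +
        (n.factorial).factorization 2 := by
    rw [← Cfsg.Agent.S2250.val_eq hF n, card_wreathSp, Fintype.card_fin,
      Nat.factorization_mul (pow_ne_zero _ hSL0) (Nat.factorial_ne_zero n),
      Nat.factorization_pow]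
    simp only [Finsupp.coe_add, Finsupp.coe_smul, Pi.add_apply, Pi.smul_apply, smul_eq_mul]
  have hΦ := PhiW_injective (F := F) Q (T : Subgroup (Equiv.Perm (Fin n)))
  have hr : Nat.card (PhiW Q (T : Subgroup (Equiv.Perm (Fin n)))).range =
      2 ^ (a * n + (n.factorial).factorization 2) := by
    rw [← hcardW]
    exact Nat.card_congr (MonoidHom.ofInjective hΦ).toEquiv.symm
  have hrp : IsPGroup 2 (PhiW Q (T : Subgroup (Equiv.Perm (Fin n)))).range :=
    IsPGroup.of_card hr
  have hge : 2 ^ (Nat.card (symplecticGroup (Fin n) F)).factorization 2 ≤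
      Nat.card (PhiW Q (T : Subgroup (Equiv.Perm (Fin n)))).range := by
    rw [hr, hval]
    apply Nat.pow_le_pow_right (by norm_num)
    apply Nat.add_le_add_right
    rw [mul_comm a n]
    exact Nat.mul_le_mul_left n hle
  have hcard := card_eq_of_pgroup_ge _ hrp hge
  let P0 : Sylow 2 (symplecticGroup (Fin n) F) := Sylow.ofCard _ hcard
  have e1 : ((Fin n → Q) ⋊[actT Q (T : Subgroup (Equiv.Perm (Fin n)))] T) ≃*
      (P0 : Subgroup (symplecticGroup (Fin n) F)) := MonoidHom.ofInjective hΦ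
  have hW : ∀ w : (Fin n → Q) ⋊[actT Q (T : Subgroup (Equiv.Perm (Fin n)))] T,
      w ^ 2 ∈ commutator ((Fin n → Q) ⋊[actT Q (T : Subgroup (Equiv.Perm (Fin n)))] T) :=
    sqComm_semidirect _ (sqComm_pi (A := fun _ : Fin n => Q) (fun _ => hQE))
      (fun x => (Cfsg.Agent.S4623.sylow_perm_genBy 2 n T).pow_mem_commutator x)
  exact sqComm_of_mulEquiv (e1.trans (Sylow.equiv P0 P)) hW

end Cfsg.Agent.S4624
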