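import Cfsg.Statements.S0753
import Mathlib

set_option autoImplicit false
open Cfsg

namespace Cfsg.Agent.S0753

theorem result {F V : Type*} [Field F] [AddCommGroup V] [Module F V] (σ : F →+* F) (hσ : σ ≠ RingHom.id F) (B : V →ₛₗ[σ] V →ₗ[F] F) (hS : B.IsSymm) (h0 : ∀ v : V, B v v = 0) : B = 0 := by
  have hskew : ∀ u v : V, B v u = -B u v := by
    intro u v
    have h := h0 (u + v)
    simp only [map_add, LinearMap.add_apply, h0, zero_add, add_zero] at h
    exact eq_neg_of_add_eq_zero_left h
  have hc : ∃ c : F, σ c ≠ c := by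
    by_contra hne
    push Not at hne
    apply hσ
    ext c
    exact hne c
  obtain ⟨c, hc⟩ := hc
  ext u v
  simp only [LinearMap.zero_apply]
  have h1 : σ (B u v) = -B u v := by rw [hS.eq, hskew]
  have h2 : σ (B u (c • v)) = -B u (c • v) := by rw [hS.eq, hskew]
  rw [map_smul, smul_eq_mul, map_mul, h1] at h2
  have h3 : (σ c - c) * B u v = 0 := by
    have : σ c * -B u v = -(c * B u v) := h2
    linear_combination -this
  rcases mul_eq_zero.mp h3 with h | h
  · exact absurd (sub_eq_zero.mp h) hc
  · exact h

end Cfsg.Agent.S0753
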