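-- Statement S0755
import Cfsg.Statements.S0755
import Mathlib
import Cfsg.Agent.Lib.Helper6.Hermitian

set_option autoImplicit false
open Cfsg

namespace Cfsg.Agent.S0755

open Module Cfsg.Agent.Lib.Helper6

universe u

/-- orthonormal families by induction on the dimension -/
theorem families {F : Type*} [Field F] [Finite F] (σ : F →+* F) (hσ : σ ≠ RingHom.id F)
    (hσ2 : ∀ a : F, σ (σ a) = a) :
    ∀ (n : ℕ) (V : Type u) [AddCommGroup V] [Module F V] [FiniteDimensional F V]
      (B : V →ₛₗ[σ] V →ₗ[F] F), B.IsSymm → B.Nondegenerate → finrank F V = n →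
      ∃ b : Fin n → V, ∀ i j, B (b i) (b j) = if i = j then 1 else 0 := by
  intro n
  induction n with
  | zero =>
    intro V _ _ _ B _ _ _
    exact ⟨Fin.elim0, fun i => Fin.elim0 i⟩
  | succ n ih =>
    intro V _ _ _ B hS hB hdim
    haveI : Nontrivial V := Module.nontrivial_of_finrank_pos (R := F) (by omega)
    have hB0 : B ≠ 0 := by
      intro h
      obtain ⟨x, hx⟩ := exists_ne (0 : V)
      apply hx
      apply hB.1 x
      intro y
      rw [h]; rfl
    obtain ⟨u, hu⟩ := herm_exists_norm_one σ hσ hσ2 B hS hB0
    set W : Submodule F V := LinearMap.ker (B u) with hW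
    have hWmem : ∀ w : V, w ∈ W ↔ B u w = 0 := fun w => LinearMap.mem_ker
    have hWu : ∀ w ∈ W, B w u = 0 := by
      intro w hw
      rw [← hS.eq, (hWmem w).mp hw, map_zero]
    have hdec : ∀ x : V, x - (B u x) • u ∈ W := by
      intro x
      rw [hWmem, map_sub, map_smul, hu, smul_eq_mul, mul_one, sub_self]
    have hWdim : finrank F W = n := by
      have h1 : finrank F (LinearMap.range (B u)) + finrank F W = finrank F V :=
        LinearMap.finrank_range_add_finrank_ker (B u)
      have h2 : LinearMap.range (B u) = ⊤ := by
        rw [LinearMap.range_eq_top]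
        intro c
        exact ⟨c • u, by rw [map_smul, hu, smul_eq_mul, mul_one]⟩
      rw [h2, finrank_top, Module.finrank_self] at h1
      omega
    let BW : W →ₛₗ[σ] W →ₗ[F] F := B.domRestrict₁₂ W W
    have hBW : ∀ x y : W, BW x y = B (x : V) (y : V) := fun x y => rfl
    have hBWS : BW.IsSymm := ⟨fun x y => hS.eq (x : V) (y : V)⟩
    have hBWnd : BW.Nondegenerate := by
      constructor
      · intro w hw
        apply Subtype.ext
        apply hB.1 (w : V)
        intro x
        have h1 : x = (x - (B u x) • u) + (B u x) • u := by abel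
        rw [h1, map_add, map_smul, hWu w w.2, smul_zero, add_zero]
        exact hw ⟨_, hdec x⟩
      · intro w hw
        apply Subtype.ext
        apply hB.2 (w : V)
        intro x
        have h1 : x = (x - (B u x) • u) + (B u x) • u := by abel
        rw [h1, map_add, LinearMap.add_apply, map_smulₛₗ, LinearMap.smul_apply,
          (hWmem w).mp w.2, smul_zero, add_zero]
        exact hw ⟨_, hdec x⟩
    obtain ⟨b', hb'⟩ := ih W BW hBWS hBWnd hWdim
    refine ⟨Fin.cons u (fun i => (b' i : V)), ?_⟩
    intro i j
    induction i using Fin.cases with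
    | zero =>
      induction j using Fin.cases with
      | zero => simp [hu]
      | succ j =>
        simp only [Fin.cons_zero, Fin.cons_succ]
        rw [(hWmem _).mp (b' j).2]
        simp [Fin.succ_ne_zero, eq_comm]
    | succ i =>
      induction j using Fin.cases with
      | zero =>
        simp only [Fin.cons_zero, Fin.cons_succ]
        rw [hWu _ (b' i).2]
        simp [Fin.succ_ne_zero]
      | succ j =>
        simp only [Fin.cons_succ, Fin.succ_inj]
        exact hb' i j

/-- Classification of Hermitian forms over finite fields: if σ is a non-identity involutive automorphism of the finite field F and B is a non-degenerate conjugate-symmetric σ-sesquilinear form on the finite-dimensional space V, then V has a B-orthonormal basis. -/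
theorem result {F V : Type*} [Field F] [Finite F] [AddCommGroup V] [Module F V] [FiniteDimensional F V] (σ : F →+* F) (hσ : σ ≠ RingHom.id F) (hσ2 : ∀ a : F, σ (σ a) = a) (B : V →ₛₗ[σ] V →ₗ[F] F) (hS : B.IsSymm) (hB : B.Nondegenerate) : ∃ b : Module.Basis (Fin (Module.finrank F V)) F V, ∀ i j, B (b i) (b j) = if i = j then 1 else 0 := by
  classical
  obtain ⟨b, hb⟩ := families σ hσ hσ2 (finrank F V) V B hS hB rfl
  have hli : LinearIndependent F b := by
    rw [Fintype.linearIndependent_iff]
    intro g hg j
    have := congrArg (B (b j)) hg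
    simp only [map_sum, map_smul, hb, smul_eq_mul, mul_ite, mul_one, mul_zero, map_zero,
      Finset.sum_ite_eq, Finset.mem_univ, if_true] at this
    exact this
  have hspan := hli.span_eq_top_of_card_eq_finrank' (by simp)
  refine ⟨Module.Basis.mk hli hspan.ge, ?_⟩
  intro i j
  simp only [Module.Basis.mk_apply]
  exact hb i j

end Cfsg.Agent.S0755
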