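import Cfsg.Statements.S0779
import Mathlib

set_option autoImplicit false
open Cfsg

namespace Cfsg.Agent.S0779

open Matrix

section
variable {F : Type*} [Field F] [Fintype F] {q : ℕ}

set_option linter.unusedSectionVars false

theorem exists_char_pow (hF : Fintype.card F = q ^ 2) :
    ∃ (p : ℕ) (m : ℕ), p.Prime ∧ CharP F p ∧ q = p ^ m := by
  obtain ⟨p, hp⟩ := CharP.exists F
  haveI := hp
  haveI hpp : Fact p.Prime := ⟨CharP.char_is_prime F p⟩
  obtain ⟨k, hk⟩ := FiniteField.card F p
  have hk1 : Fintype.card F = p ^ (k : ℕ) := hk.2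
  have hdvd : q ∣ p ^ (k : ℕ) := by
    rw [← hk1, hF]; exact Dvd.intro_left (q ^ 1) (by ring)
  obtain ⟨m, _, hm⟩ := (Nat.dvd_prime_pow hpp.out).mp hdvd
  exact ⟨p, m, hpp.out, hp, hm⟩

theorem add_pow_q (hF : Fintype.card F = q ^ 2) (a b : F) : (a + b) ^ q = a ^ q + b ^ q := by
  obtain ⟨p, m, hp, hc, rfl⟩ := exists_char_pow hF
  haveI := hc
  haveI : Fact p.Prime := ⟨hp⟩
  exact add_pow_char_pow a b p m

theorem sum_pow_q (hF : Fintype.card F = q ^ 2) {ι : Type*} (s : Finset ι) (f : ι → F) :
    (∑ i ∈ s, f i) ^ q = ∑ i ∈ s, (f i) ^ q := by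
  obtain ⟨p, m, hp, hc, rfl⟩ := exists_char_pow hF
  haveI := hc
  haveI : Fact p.Prime := ⟨hp⟩
  exact sum_pow_char_pow p m s f

theorem pow_q_q (hF : Fintype.card F = q ^ 2) (a : F) : (a ^ q) ^ q = a := by
  rw [← pow_mul, ← sq, ← hF, FiniteField.pow_card]

theorem q_pos (hF : Fintype.card F = q ^ 2) : 0 < q := by
  rcases Nat.eq_zero_or_pos q with h | h
  · subst h
    have : 0 < Fintype.card F := Fintype.card_pos
    omega
  · exact h

variable {n : ℕ}

theorem herm_add_left (x y z : Fin n → F) :
    hermForm n F q (x + y) z = hermForm n F q x z + hermForm n F q y z := by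
  simp only [hermForm, Pi.add_apply, add_mul, Finset.sum_add_distrib]

theorem herm_smul_left (a : F) (x z : Fin n → F) :
    hermForm n F q (a • x) z = a * hermForm n F q x z := by
  simp only [hermForm, Pi.smul_apply, smul_eq_mul, Finset.mul_sum, mul_assoc]

theorem herm_add_right (hF : Fintype.card F = q ^ 2) (x y z : Fin n → F) :
    hermForm n F q x (y + z) = hermForm n F q x y + hermForm n F q x z := by
  simp only [hermForm, Pi.add_apply, add_pow_q hF, mul_add, Finset.sum_add_distrib]

theorem herm_smul_right (a : F) (x z : Fin n → F) :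
    hermForm n F q x (a • z) = a ^ q * hermForm n F q x z := by
  simp only [hermForm, Pi.smul_apply, smul_eq_mul, Finset.mul_sum, mul_pow]
  apply Finset.sum_congr rfl
  intro i _
  ring

theorem herm_conj (hF : Fintype.card F = q ^ 2) (x y : Fin n → F) :
    (hermForm n F q x y) ^ q = hermForm n F q y x := by
  simp only [hermForm]
  rw [sum_pow_q hF]
  apply Finset.sum_congr rfl
  intro i _
  rw [mul_pow, pow_q_q hF, mul_comm]

theorem transvection_mulVec (v : Fin n → F) (c : F) (x : Fin n → F) :
    (Cfsg.unitaryTransvection n q v c) *ᵥ x = x + (c * hermForm n F q x v) • v := by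
  unfold Cfsg.unitaryTransvection
  rw [add_mulVec, one_mulVec, smul_mulVec, vecMulVec_mulVec]
  congr 1
  ext i
  simp only [Pi.smul_apply, MulOpposite.smul_eq_mul_unop, MulOpposite.unop_op, smul_eq_mul, hermForm,
    dotProduct]
  have : ∑ j, v j ^ q * x j = ∑ j, x j * v j ^ q := by
    apply Finset.sum_congr rfl; intro j _; ring
  rw [this]
  ring

end

theorem result {F : Type*} [Field F] [Fintype F] {q : ℕ} (hF : Fintype.card F = q ^ 2) (n : ℕ) (v : Fin n → F) (hv : v ≠ 0) (hv0 : Cfsg.hermForm n F q v v = 0) (c : F) : (∀ x y : Fin n → F, Cfsg.hermForm n F q ((Cfsg.unitaryTransvection n q v c).mulVec x) ((Cfsg.unitaryTransvection n q v c).mulVec y) = Cfsg.hermForm n F q x y) ↔ (c = 0 ∨ c ^ (q - 1) = -1) := by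
  have hq := q_pos hF
  have key : ∀ x y : Fin n → F, Cfsg.hermForm n F q ((Cfsg.unitaryTransvection n q v c).mulVec x)
      ((Cfsg.unitaryTransvection n q v c).mulVec y) = Cfsg.hermForm n F q x y +
        (c + c ^ q) * (hermForm n F q x v * hermForm n F q v y) := by
    intro x y
    rw [transvection_mulVec, transvection_mulVec, herm_add_left, herm_add_right hF, herm_add_right hF,
      herm_smul_left, herm_smul_left, herm_smul_right, herm_smul_right, hv0, mul_pow, herm_conj hF]
    ring
  have hcq : c + c ^ q = 0 ↔ (c = 0 ∨ c ^ (q - 1) = -1) := by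
    have : c ^ q = c * c ^ (q - 1) := by
      rw [← pow_succ']
      congr 1
      omega
    rw [this]
    constructor
    · intro h
      by_cases hc : c = 0
      · left; exact hc
      · right
        have h2 : c * (1 + c ^ (q - 1)) = 0 := by linear_combination h
        rcases mul_eq_zero.mp h2 with h3 | h3
        · exact absurd h3 hc
        · exact eq_neg_of_add_eq_zero_right h3
    · rintro (h | h)
      · rw [h]; simp
      · rw [h]; ring
  rw [← hcq]
  constructor
  · intro h
    obtain ⟨i, hi⟩ : ∃ i, v i ≠ 0 := by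
      by_contra hcon
      push Not at hcon
      exact hv (funext hcon)
    have h1 := h (Pi.single i 1) (Pi.single i 1)
    rw [key] at h1
    have h2 : (c + c ^ q) * (hermForm n F q (Pi.single i 1) v * hermForm n F q v (Pi.single i 1)) = 0 := by
      linear_combination h1
    have e1 : hermForm n F q (Pi.single i 1) v = v i ^ q := by
      simp only [hermForm]
      rw [Finset.sum_eq_single i]
      · simp
      · intro j _ hj
        simp [hj]
      · intro h; exact absurd (Finset.mem_univ i) h
    have e2 : hermForm n F q v (Pi.single i 1) = v i := by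
      simp only [hermForm]
      rw [Finset.sum_eq_single i]
      · simp
      · intro j _ hj
        simp [hj, hq.ne']
      · intro h; exact absurd (Finset.mem_univ i) h
    rw [e1, e2] at h2
    rcases mul_eq_zero.mp h2 with h3 | h3
    · exact h3
    · exfalso
      rcases mul_eq_zero.mp h3 with h4 | h4
      · exact hi (pow_eq_zero_iff hq.ne' |>.mp h4)
      · exact hi h4
  · intro h x y
    rw [key, h, zero_mul, add_zero]

end Cfsg.Agent.S0779
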