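import Mathlib
import Cfsg.Statements.S4628
import Cfsg.Agent.S4624
import Cfsg.Agent.Lib.Helper9.Syl2.GL2QD
import Cfsg.Agent.Lib.Helper6.PerfectCentral

set_option autoImplicit false
open Cfsg

namespace Cfsg.Agent.S4628

open Matrix Cfsg.Agent.Lib.Helper14 Cfsg.Agent.Lib.Helper9.Syl2
open scoped commutatorElement

/-! ### quasi-dihedral groups -/

theorem sqComm_of_quasiDihedral {S : Type*} [Group S] [Finite S] (h : Cfsg.IsQuasiDihedral S) :
    ∀ x : S, x ^ 2 ∈ commutator S := by
  obtain ⟨n, hn, hcard, x, y, hx, hy, hrel⟩ := h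
  obtain ⟨k, rfl⟩ : ∃ k, n = k + 3 := ⟨n - 3, by omega⟩
  have hyy : y ^ 2 = 1 := by rw [← hy]; exact pow_orderOf_eq_one y
  have hp1 : 1 ≤ 2 ^ k := Nat.one_le_two_pow
  have hp2 : 2 ^ (k + 1) = 2 * 2 ^ k := by rw [pow_succ]; ring
  have hp3 : 2 ^ (k + 3 - 1) = 4 * 2 ^ k := by
    rw [show k + 3 - 1 = k + 2 by omega, pow_add]; ring
  have hp4 : 2 ^ (k + 3) = 8 * 2 ^ k := by rw [pow_add]; ring
  have he : 2 ^ (k + 3 - 1) - 1 = 2 * (2 ^ (k + 1) - 1) + 1 := by omega
  have hκ : ⁅y, x⁆ = (x ^ 2) ^ (2 ^ (k + 1) - 1) := by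
    rw [commutatorElement_def, hrel, he, pow_succ, mul_inv_cancel_right, pow_mul]
  have hκmem : ⁅y, x⁆ ∈ commutator S := by
    rw [commutator_def]
    exact Subgroup.commutator_mem_commutator (Subgroup.mem_top _) (Subgroup.mem_top _)
  have hx2 : orderOf (x ^ 2) = 2 ^ (k + 2) := by
    rw [orderOf_pow_of_dvd (by norm_num) (by rw [hx]; exact dvd_pow_self 2 (by omega)), hx,
      pow_succ, Nat.mul_div_cancel _ (by norm_num)]
  have hcop : Nat.Coprime (orderOf (x ^ 2)) (2 ^ (k + 1) - 1) := by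
    rw [hx2]
    apply Nat.Coprime.pow_left
    rw [Nat.prime_two.coprime_iff_not_dvd]
    omega
  have hz : Subgroup.zpowers ((x ^ 2) ^ (2 ^ (k + 1) - 1)) = Subgroup.zpowers (x ^ 2) :=
    Subgroup.eq_of_le_of_card_ge
      (Subgroup.zpowers_le.mpr (pow_mem (Subgroup.mem_zpowers _) _))
      (by rw [Nat.card_zpowers, Nat.card_zpowers, hcop.orderOf_pow])
  have hx2c : x ^ 2 ∈ commutator S := by
    have h1 : Subgroup.zpowers ((x ^ 2) ^ (2 ^ (k + 1) - 1)) ≤ commutator S :=
      Subgroup.zpowers_le.mpr (hκ ▸ hκmem)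
    apply h1
    rw [hz]
    exact Subgroup.mem_zpowers _
  have hyx : y ∉ Subgroup.zpowers x := by
    intro hyz
    obtain ⟨i, hi⟩ := Subgroup.mem_zpowers_iff.mp hyz
    have hc : y * x = x * y := by
      rw [← hi]
      exact ((Commute.refl x).zpow_left i).eq
    have h1 : y * x * y⁻¹ = x := by rw [hc, mul_inv_cancel_right]
    rw [hrel, he, pow_succ] at h1
    have h2 : x ^ (2 * (2 ^ (k + 1) - 1)) = 1 := by
      have := congrArg (· * x⁻¹) h1
      simpa using this
    have h3 := orderOf_dvd_of_pow_eq_one h2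
    rw [hx] at h3
    have h4 := Nat.le_of_dvd (by omega) h3
    omega
  have hgen : Subgroup.closure ({x, y} : Set S) = ⊤ := by
    have hxR : x ∈ Subgroup.closure ({x, y} : Set S) := Subgroup.subset_closure (by simp)
    have hyR : y ∈ Subgroup.closure ({x, y} : Set S) := Subgroup.subset_closure (by simp)
    have hle : Subgroup.zpowers x ≤ Subgroup.closure ({x, y} : Set S) :=
      Subgroup.zpowers_le.mpr hxR
    have hdvd1 : Nat.card (Subgroup.zpowers x) ∣ Nat.card (Subgroup.closure ({x, y} : Set S)) :=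
      Subgroup.card_dvd_of_le hle
    have hdvd2 : Nat.card (Subgroup.closure ({x, y} : Set S)) ∣ Nat.card S :=
      Subgroup.card_subgroup_dvd_card _
    rw [Nat.card_zpowers, hx] at hdvd1
    rw [hcard] at hdvd2
    obtain ⟨i, hi, hci⟩ := (Nat.dvd_prime_pow Nat.prime_two).mp hdvd2
    rw [hci, Nat.pow_dvd_pow_iff_le_right (by norm_num)] at hdvd1
    have hne : i ≠ k + 3 := by
      intro h
      have h1 : Subgroup.zpowers x = Subgroup.closure ({x, y} : Set S) :=
        Subgroup.eq_of_le_of_card_ge hle (by rw [Nat.card_zpowers, hx, hci, h])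
      exact hyx (h1 ▸ hyR)
    have hi' : i = k + 3 + 1 := by omega
    apply Subgroup.eq_top_of_card_eq
    rw [hci, hcard, hi']
  apply S4624.sqComm_of_closure hgen
  intro s hs
  have hs' : s = x ∨ s = y := hs
  rcases hs' with h | h
  · rw [h]; exact hx2c
  · rw [h, hyy]; exact one_mem _

/-! ### arithmetic -/

theorem pow_odd_mod4 (q k : ℕ) (h : q % 4 = 3) : q ^ (2 * k + 1) % 4 = 3 := by
  induction k with
  | zero => simpa using h
  | succ k ih =>
    have e : q ^ (2 * (k + 1) + 1) = q ^ (2 * k + 1) * q * q := by ring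
    rw [e, Nat.mul_mod, Nat.mul_mod (q ^ (2 * k + 1)) q, ih, h]

theorem prod_val (q N : ℕ) (hq : Odd q) (hq1 : 1 < q) :
    (∏ i ∈ Finset.range N, (q ^ N - q ^ i)).factorization 2 =
      ∑ j ∈ Finset.range N, (q ^ (j + 1) - 1).factorization 2 := by
  have hq0 : q ≠ 0 := by omega
  have hvq : ∀ i, (q ^ i).factorization 2 = 0 := by
    intro i
    apply Nat.factorization_eq_zero_of_not_dvd
    rw [← even_iff_two_dvd, Nat.not_even_iff_odd]
    exact hq.pow
  have hpow : ∀ k : ℕ, k ≠ 0 → q ^ k - 1 ≠ 0 := by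
    intro k hk
    have : 1 < q ^ k := Nat.one_lt_pow hk hq1
    omega
  rw [Nat.factorization_prod, Finsupp.finsetSum_apply]
  · rw [← Finset.sum_range_reflect (fun j => (q ^ (j + 1) - 1).factorization 2) N]
    apply Finset.sum_congr rfl
    intro i hi
    rw [Finset.mem_range] at hi
    have h1 : q ^ N - q ^ i = q ^ i * (q ^ (N - 1 - i + 1) - 1) := by
      rw [Nat.mul_sub_one, ← pow_add]
      congr 2
      omega
    rw [h1, Nat.factorization_mul (pow_ne_zero _ hq0) (hpow _ (by omega))]
    simp only [Finsupp.coe_add, Pi.add_apply]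
    rw [hvq, zero_add]
  · intro i hi
    rw [Finset.mem_range] at hi
    have : q ^ i < q ^ N := Nat.pow_lt_pow_right hq1 hi
    omega

theorem sum_val (q : ℕ) (h43 : q % 4 = 3) (m : ℕ) :
    ∑ j ∈ Finset.range (2 * m + 1), (q ^ (j + 1) - 1).factorization 2 =
      (m + 1) + m * (q ^ 2 - 1).factorization 2 + (m.factorial).factorization 2 := by
  have hodd : Odd q := Nat.odd_iff.mpr (by omega)
  have hq1 : 1 < q := by omega
  induction m with
  | zero =>
    have h1 : (q - 1).factorization 2 = 1 := fact2_eq_one_of_mod4 (by omega)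
    simp [h1]
  | succ m ih =>
    rw [show 2 * (m + 1) + 1 = 2 * m + 1 + 1 + 1 by ring, Finset.sum_range_succ,
      Finset.sum_range_succ, ih]
    have h1 : (q ^ (2 * m + 1 + 1) - 1).factorization 2 =
        (q ^ 2 - 1).factorization 2 + (m + 1).factorization 2 := by
      rw [Nat.factorization_def _ Nat.prime_two, Nat.factorization_def _ Nat.prime_two,
        Nat.factorization_def _ Nat.prime_two, show 2 * m + 1 + 1 = 2 * (m + 1) by ring]
      exact Cfsg.Agent.S2250.val_key q hodd hq1 m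
    have h2 : (q ^ (2 * m + 1 + 1 + 1) - 1).factorization 2 = 1 := by
      apply fact2_eq_one_of_mod4
      have := pow_odd_mod4 q (m + 1) h43
      rw [show 2 * (m + 1) + 1 = 2 * m + 1 + 1 + 1 by ring] at this
      omega
    rw [h1, h2, Nat.factorial_succ, Nat.factorization_mul (by omega) (Nat.factorial_ne_zero m)]
    simp only [Finsupp.coe_add, Pi.add_apply]
    ring

theorem val_SL_odd {F : Type*} [Field F] [Fintype F] (h43 : Fintype.card F % 4 = 3) (m : ℕ) :
    (Nat.card (SpecialLinearGroup (Fin (2 * m + 1)) F)).factorization 2 =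
      m * (Nat.card (GL (Fin 2) F)).factorization 2 + (m.factorial).factorization 2 := by
  have hq1 : 1 < Fintype.card F := Fintype.one_lt_card
  have hodd : Odd (Fintype.card F) := Nat.odd_iff.mpr (by omega)
  have h1 := Cfsg.Agent.Lib.Helper6.card_SL_mul (F := F) (2 * m + 1)
  rw [Fin.prod_univ_eq_prod_range (fun i => Fintype.card F ^ (2 * m + 1) - Fintype.card F ^ i)]
    at h1
  have h2 : (Nat.card (SpecialLinearGroup (Fin (2 * m + 1)) F) * (Fintype.card F - 1)).factorization 2
      = (∏ i ∈ Finset.range (2 * m + 1),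
        (Fintype.card F ^ (2 * m + 1) - Fintype.card F ^ i)).factorization 2 := by rw [h1]
  rw [Nat.factorization_mul Nat.card_pos.ne' (by omega), prod_val _ _ hodd hq1,
    sum_val _ h43 m] at h2
  simp only [Finsupp.coe_add, Pi.add_apply] at h2
  have h3 : (Fintype.card F - 1).factorization 2 = 1 := fact2_eq_one_of_mod4 (by omega)
  have h4 : (Fintype.card F ^ 2 - 1).factorization 2 = 1 + (Fintype.card F + 1).factorization 2 := by
    rw [S4624.sq_sub_one_fac _ hq1.le, Nat.factorization_mul (by omega) (by omega)]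
    simp only [Finsupp.coe_add, Pi.add_apply]
    rw [h3]
  rw [card_GL2, fact2_card_GL2 (by omega) hq1, h3]
  rw [h3, h4] at h2
  have h5 : m * (2 * 1 + (Fintype.card F + 1).factorization 2) =
      m * (1 + (Fintype.card F + 1).factorization 2) + m := by ring
  rw [h5]
  omega

/-! ### the embedding of `GL₂ ≀ S_l` into `SL_{2l+1}` -/

section Embed
variable {F : Type*} [Field F] {l : Type*} [Fintype l] [DecidableEq l]

/-- block matrix of a family of `2 × 2` matrices -/
def blkMat (s : l → Matrix (Fin 2) (Fin 2) F) : Matrix (l ⊕ l) (l ⊕ l) F :=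
  fromBlocks (diagonal fun i => s i 0 0) (diagonal fun i => s i 0 1)
    (diagonal fun i => s i 1 0) (diagonal fun i => s i 1 1)

theorem blkMat_mul (s t : l → Matrix (Fin 2) (Fin 2) F) :
    blkMat (s * t) = blkMat s * blkMat t := by
  simp only [blkMat, fromBlocks_multiply, diagonal_mul_diagonal, diagonal_add]
  congr 1 <;>
  · congr 1
    funext i
    simp [Pi.mul_apply, Matrix.mul_apply, Fin.sum_univ_two]

theorem blkMat_one : blkMat (1 : l → Matrix (Fin 2) (Fin 2) F) = 1 := by
  simp only [blkMat, Pi.one_apply]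
  rw [← fromBlocks_one]
  congr 1 <;> simp

theorem blkMat_injective : Function.Injective (blkMat (F := F) (l := l)) := by
  intro s t h
  simp only [blkMat, fromBlocks_inj] at h
  obtain ⟨h1, h2, h3, h4⟩ := h
  funext i
  have e1 := congrFun (diagonal_injective h1) i
  have e2 := congrFun (diagonal_injective h2) i
  have e3 := congrFun (diagonal_injective h3) i
  have e4 := congrFun (diagonal_injective h4) i
  ext a b
  fin_cases a <;> fin_cases b
  · exact e1
  · exact e2
  · exact e3
  · exact e4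

theorem permMat_mul_blkMat (σ : Equiv.Perm l) (s : l → Matrix (Fin 2) (Fin 2) F) :
    permMat F σ * blkMat s = blkMat (fun i => s (σ⁻¹ i)) * permMat F σ := by
  simp only [permMat, blkMat, fromBlocks_multiply, permMatrixHom_mul_diagonal, zero_mul, mul_zero,
    add_zero, zero_add]

/-- block embedding of `GL₂^l` -/
def blkGL : (l → GL (Fin 2) F) →* GL (l ⊕ l) F where
  toFun s :=
    { val := blkMat fun i => ((s i : GL (Fin 2) F) : Matrix (Fin 2) (Fin 2) F)
      inv := blkMat fun i => (((s i)⁻¹ : GL (Fin 2) F) : Matrix (Fin 2) (Fin 2) F)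
      val_inv := by
        rw [← blkMat_mul, ← blkMat_one]
        congr 1
        funext i
        exact Units.mul_inv (s i)
      inv_val := by
        rw [← blkMat_mul, ← blkMat_one]
        congr 1
        funext i
        exact Units.inv_mul (s i) }
  map_one' := by
    apply Units.ext
    show blkMat (fun i => (((1 : l → GL (Fin 2) F) i : GL (Fin 2) F) :
      Matrix (Fin 2) (Fin 2) F)) = 1
    rw [← blkMat_one]
    rfl
  map_mul' s t := by
    apply Units.ext
    show blkMat (fun i => (((s * t) i : GL (Fin 2) F) : Matrix (Fin 2) (Fin 2) F)) =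
      blkMat (fun i => ((s i : GL (Fin 2) F) : Matrix (Fin 2) (Fin 2) F)) *
        blkMat (fun i => ((t i : GL (Fin 2) F) : Matrix (Fin 2) (Fin 2) F))
    rw [← blkMat_mul]
    rfl

theorem blkGL_val (s : l → GL (Fin 2) F) :
    ((blkGL s : GL (l ⊕ l) F) : Matrix (l ⊕ l) (l ⊕ l) F) =
      blkMat fun i => ((s i : GL (Fin 2) F) : Matrix (Fin 2) (Fin 2) F) := rfl

/-- permutation matrices in `GL` -/
def permGL : Equiv.Perm l →* GL (l ⊕ l) F :=
  (((symplecticGroup l F).subtype).comp permSp).toHomUnits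

theorem permGL_val (σ : Equiv.Perm l) :
    ((permGL σ : GL (l ⊕ l) F) : Matrix (l ⊕ l) (l ⊕ l) F) = permMat F σ := rfl

theorem permGL_mul_blkGL (σ : Equiv.Perm l) (s : l → GL (Fin 2) F) :
    permGL σ * blkGL s = blkGL (fun i => s (σ⁻¹ i)) * permGL σ := by
  apply Units.ext
  exact permMat_mul_blkMat σ _

theorem blkGL_eq_permGL (s : l → GL (Fin 2) F) (σ : Equiv.Perm l) (h : blkGL s = permGL σ) :
    s = 1 ∧ σ = 1 := by
  have h1 : blkMat (fun i => ((s i : GL (Fin 2) F) : Matrix (Fin 2) (Fin 2) F)) = permMat F σ :=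
    congrArg Units.val h
  have hσ : σ = 1 := by
    simp only [blkMat, permMat, fromBlocks_inj] at h1
    obtain ⟨h2, -, -, -⟩ := h1
    have h3 : σ⁻¹ = 1 := by
      ext i
      by_contra hne
      have hne' : i ≠ σ⁻¹ i := fun hh => hne hh.symm
      have h4 := congrFun (congrFun h2 i) (σ⁻¹ i)
      rw [permMatrixHom_apply_apply, if_pos rfl, diagonal_apply_ne _ hne'] at h4
      exact zero_ne_one h4
    rw [← inv_inv σ, h3, inv_one]
  refine ⟨?_, hσ⟩
  subst hσ
  have h5 : blkMat (fun i => ((s i : GL (Fin 2) F) : Matrix (Fin 2) (Fin 2) F)) = blkMat 1 := by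
    rw [h1, blkMat_one]
    exact congrArg Units.val (map_one (permGL (F := F) (l := l)))
  have h6 := blkMat_injective h5
  funext i
  apply Units.ext
  exact congrFun h6 i

end Embed

section Ext
variable {F : Type*} [Field F] {ι κ : Type*} [Fintype ι] [DecidableEq ι] [Fintype κ]
  [DecidableEq κ]

/-- `A ↦ diag(A, det A⁻¹)` -/
def extSL : GL ι F →* SpecialLinearGroup (ι ⊕ Unit) F where
  toFun A := ⟨fromBlocks (A : Matrix ι ι F) 0 0
      (diagonal fun _ : Unit => (det (A : Matrix ι ι F))⁻¹), by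
    rw [det_fromBlocks_zero₂₁, det_diagonal, Finset.prod_const, Finset.card_univ,
      Fintype.card_unit, pow_one]
    exact mul_inv_cancel₀ (Matrix.isUnits_det_units A).ne_zero⟩
  map_one' := by
    apply Subtype.ext
    show fromBlocks (((1 : GL ι F)) : Matrix ι ι F) 0 0
      (diagonal fun _ : Unit => (det (((1 : GL ι F)) : Matrix ι ι F))⁻¹) = 1
    rw [Units.val_one, det_one, inv_one, diagonal_one, fromBlocks_one]
  map_mul' A B := by
    apply Subtype.ext
    show fromBlocks (((A * B : GL ι F)) : Matrix ι ι F) 0 0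
        (diagonal fun _ : Unit => (det (((A * B : GL ι F)) : Matrix ι ι F))⁻¹) =
      fromBlocks (A : Matrix ι ι F) 0 0 (diagonal fun _ : Unit => (det (A : Matrix ι ι F))⁻¹) *
        fromBlocks (B : Matrix ι ι F) 0 0 (diagonal fun _ : Unit => (det (B : Matrix ι ι F))⁻¹)
    rw [fromBlocks_multiply, Units.val_mul, det_mul, mul_inv, diagonal_mul_diagonal]
    simp

theorem extSL_injective : Function.Injective (extSL (F := F) (ι := ι)) := by
  intro A B h
  have h1 : fromBlocks (A : Matrix ι ι F) 0 0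
      (diagonal fun _ : Unit => (det (A : Matrix ι ι F))⁻¹) =
      fromBlocks (B : Matrix ι ι F) 0 0 (diagonal fun _ : Unit => (det (B : Matrix ι ι F))⁻¹) :=
    congrArg Subtype.val h
  rw [fromBlocks_inj] at h1
  exact Units.ext h1.1

/-- reindexing `SL` -/
def slReindex (e : ι ≃ κ) : SpecialLinearGroup ι F →* SpecialLinearGroup κ F where
  toFun A := ⟨Matrix.reindex e e A.1, by rw [Matrix.det_reindex_self]; exact A.2⟩
  map_one' := by
    apply Subtype.ext
    show Matrix.reindex e e (1 : Matrix ι ι F) = 1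
    rw [Matrix.reindex_apply, Matrix.submatrix_one_equiv]
  map_mul' A B := by
    apply Subtype.ext
    show Matrix.reindex e e (A.1 * B.1) = Matrix.reindex e e A.1 * Matrix.reindex e e B.1
    rw [Matrix.reindex_apply, Matrix.reindex_apply, Matrix.reindex_apply,
      Matrix.submatrix_mul_equiv]

theorem slReindex_injective (e : ι ≃ κ) : Function.Injective (slReindex (F := F) e) := by
  intro A B h
  have h1 : Matrix.reindex e e A.1 = Matrix.reindex e e B.1 := congrArg Subtype.val h
  exact Subtype.ext ((Matrix.reindex e e).injective h1)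

end Ext

section Wreath
variable {F : Type*} [Field F] {n : ℕ}

/-- coordinatewise inclusion -/
def inclPiG {G : Type*} [Group G] (Q : Subgroup G) : (Fin n → Q) →* (Fin n → G) where
  toFun f i := (f i : G)
  map_one' := rfl
  map_mul' _ _ := rfl

theorem inclPiG_injective {G : Type*} [Group G] (Q : Subgroup G) :
    Function.Injective (inclPiG (n := n) Q) := by
  intro f g h
  funext i
  exact Subtype.ext (congrFun h i)

theorem PsiW_compat (Q : Subgroup (GL (Fin 2) F)) (T : Subgroup (Equiv.Perm (Fin n))) (t : T) :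
    ((blkGL (F := F) (l := Fin n)).comp (inclPiG Q)).comp
        (MulEquiv.toMonoidHom (S4624.actT Q T t)) =
      (MulEquiv.toMonoidHom
        (MulAut.conj (((permGL (F := F) (l := Fin n)).comp T.subtype) t))).comp
        ((blkGL (F := F) (l := Fin n)).comp (inclPiG Q)) := by
  refine MonoidHom.ext fun f => ?_
  show blkGL (inclPiG Q (f ∘ ⇑(t : Equiv.Perm (Fin n)).symm)) =
    permGL (t : Equiv.Perm (Fin n)) * blkGL (inclPiG Q f) * (permGL (t : Equiv.Perm (Fin n)))⁻¹
  rw [permGL_mul_blkGL, mul_inv_cancel_right]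
  rfl

/-- the embedding of `Q ≀ T` into `GL` -/
def PsiW (Q : Subgroup (GL (Fin 2) F)) (T : Subgroup (Equiv.Perm (Fin n))) :
    (Fin n → Q) ⋊[S4624.actT Q T] T →* GL (Fin n ⊕ Fin n) F :=
  SemidirectProduct.lift ((blkGL (F := F) (l := Fin n)).comp (inclPiG Q))
    ((permGL (F := F) (l := Fin n)).comp T.subtype) (PsiW_compat Q T)

theorem PsiW_injective (Q : Subgroup (GL (Fin 2) F)) (T : Subgroup (Equiv.Perm (Fin n))) :
    Function.Injective (PsiW Q T) := by
  rw [injective_iff_map_eq_one]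
  intro w hw
  rw [← SemidirectProduct.inl_left_mul_inr_right w, map_mul, PsiW, SemidirectProduct.lift_inl,
    SemidirectProduct.lift_inr] at hw
  have h1 : blkGL (inclPiG Q w.left) = permGL ((w.right : Equiv.Perm (Fin n))⁻¹) := by
    rw [map_inv]
    exact eq_inv_of_mul_eq_one_left hw
  obtain ⟨h2, h3⟩ := blkGL_eq_permGL _ _ h1
  apply SemidirectProduct.ext
  · show w.left = 1
    apply inclPiG_injective Q
    rw [h2, map_one]
  · show w.right = 1
    apply Subtype.ext
    rw [inv_eq_one] at h3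
    exact h3

/-- the embedding of `Q ≀ T` into `SL_{2n+1}` -/
def ThetaW (Q : Subgroup (GL (Fin 2) F)) (T : Subgroup (Equiv.Perm (Fin n)))
    (e : (Fin n ⊕ Fin n) ⊕ Unit ≃ Fin (2 * n + 1)) :
    (Fin n → Q) ⋊[S4624.actT Q T] T →* SpecialLinearGroup (Fin (2 * n + 1)) F :=
  (slReindex e).comp (extSL.comp (PsiW Q T))

theorem ThetaW_injective (Q : Subgroup (GL (Fin 2) F)) (T : Subgroup (Equiv.Perm (Fin n)))
    (e : (Fin n ⊕ Fin n) ⊕ Unit ≃ Fin (2 * n + 1)) : Function.Injective (ThetaW Q T e) := by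
  unfold ThetaW
  rw [MonoidHom.coe_comp, MonoidHom.coe_comp]
  exact (slReindex_injective e).comp (extSL_injective.comp (PsiW_injective Q T))

end Wreath

/-- Let F be a finite field of odd order q with 4 dividing q + 1, and m ≥ 1. Then a Sylow 2-subgroup P of SL_{2m+1}(F) has P/P' elementary abelian: the square of every element of P lies in the derived subgroup of P. -/
theorem result {F : Type*} [Field F] [Fintype F] (hF : Odd (Fintype.card F)) (hq : 4 ∣ Fintype.card F + 1) (m : ℕ) (hm : 1 ≤ m) (P : Sylow 2 (Matrix.SpecialLinearGroup (Fin (2 * m + 1)) F)) :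
    ∀ x : (P : Subgroup (Matrix.SpecialLinearGroup (Fin (2 * m + 1)) F)), x ^ 2 ∈ commutator (P : Subgroup (Matrix.SpecialLinearGroup (Fin (2 * m + 1)) F)) := by
  classical
  have h43 : Fintype.card F % 4 = 3 := by omega
  obtain ⟨Pq⟩ : Nonempty (Sylow 2 (GL (Fin 2) F)) := inferInstance
  have hQE : ∀ x : (Pq : Subgroup (GL (Fin 2) F)),
      x ^ 2 ∈ commutator (Pq : Subgroup (GL (Fin 2) F)) :=
    sqComm_of_quasiDihedral (gl2_quasiDihedral h43 Pq)
  obtain ⟨T⟩ : Nonempty (Sylow 2 (Equiv.Perm (Fin m))) := inferInstance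
  have ha : Nat.card (Pq : Subgroup (GL (Fin 2) F)) =
      2 ^ (Nat.card (GL (Fin 2) F)).factorization 2 := Pq.card_eq_multiplicity
  let e : (Fin m ⊕ Fin m) ⊕ Unit ≃ Fin (2 * m + 1) :=
    Fintype.equivFinOfCardEq (by
      simp only [Fintype.card_sum, Fintype.card_fin, Fintype.card_unit]
      ring)
  have hΦ := ThetaW_injective (F := F) (Pq : Subgroup (GL (Fin 2) F))
    (T : Subgroup (Equiv.Perm (Fin m))) e
  have hcardW : Nat.card ((Fin m → (Pq : Subgroup (GL (Fin 2) F)))
      ⋊[S4624.actT (Pq : Subgroup (GL (Fin 2) F)) (T : Subgroup (Equiv.Perm (Fin m)))] T) =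
      2 ^ (Nat.card (SpecialLinearGroup (Fin (2 * m + 1)) F)).factorization 2 := by
    rw [SemidirectProduct.card, Nat.card_fun, Nat.card_fin, ha, Sylow.card_eq_multiplicity,
      Nat.card_perm, Nat.card_fin, ← pow_mul, ← pow_add, val_SL_odd h43 m]
    congr 1
    ring
  have hr : Nat.card (ThetaW (Pq : Subgroup (GL (Fin 2) F))
      (T : Subgroup (Equiv.Perm (Fin m))) e).range =
      2 ^ (Nat.card (SpecialLinearGroup (Fin (2 * m + 1)) F)).factorization 2 := by
    rw [← hcardW]
    exact Nat.card_congr (MonoidHom.ofInjective hΦ).toEquiv.symm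
  let P0 : Sylow 2 (SpecialLinearGroup (Fin (2 * m + 1)) F) := Sylow.ofCard _ hr
  have e1 : ((Fin m → (Pq : Subgroup (GL (Fin 2) F)))
      ⋊[S4624.actT (Pq : Subgroup (GL (Fin 2) F)) (T : Subgroup (Equiv.Perm (Fin m)))] T) ≃*
      (P0 : Subgroup (SpecialLinearGroup (Fin (2 * m + 1)) F)) := MonoidHom.ofInjective hΦ
  have hW : ∀ w : (Fin m → (Pq : Subgroup (GL (Fin 2) F)))
      ⋊[S4624.actT (Pq : Subgroup (GL (Fin 2) F)) (T : Subgroup (Equiv.Perm (Fin m)))] T,
      w ^ 2 ∈ commutator ((Fin m → (Pq : Subgroup (GL (Fin 2) F)))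
      ⋊[S4624.actT (Pq : Subgroup (GL (Fin 2) F)) (T : Subgroup (Equiv.Perm (Fin m)))] T) :=
    S4624.sqComm_semidirect _
      (S4624.sqComm_pi (A := fun _ : Fin m => (Pq : Subgroup (GL (Fin 2) F))) (fun _ => hQE))
      (fun x => (Cfsg.Agent.S4623.sylow_perm_genBy 2 m T).pow_mem_commutator x)
  exact S4624.sqComm_of_mulEquiv (e1.trans (Sylow.equiv P0 P)) hW

end Cfsg.Agent.S4628
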