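import Mathlib
import Cfsg.Statements.S4627
import Cfsg.Agent.S4628
import Cfsg.Agent.Lib.Helper17.SqCommKer

set_option autoImplicit false
open Cfsg

namespace Cfsg.Agent.S4627

open Matrix Cfsg.Agent.Lib.Helper14 Cfsg.Agent.Lib.Helper9.Syl2
  Cfsg.Agent.Lib.Helper17.SqCommKer
open scoped commutatorElement

/-! ### arithmetic -/

theorem geom_odd (q : ℕ) (hq : Odd q) (i : ℕ) :
    Odd (∑ k ∈ Finset.range (2 * i + 1), q ^ k) := by
  induction i with
  | zero => simp
  | succ i ih =>
    rw [show 2 * (i + 1) + 1 = 2 * i + 1 + 1 + 1 by ring, Finset.sum_range_succ,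
      Finset.sum_range_succ, add_assoc]
    exact ih.add_even (hq.pow.add_odd hq.pow)

theorem val_odd_pow (q : ℕ) (hq : Odd q) (hq1 : 1 < q) (i : ℕ) :
    (q ^ (2 * i + 1) - 1).factorization 2 = (q - 1).factorization 2 := by
  have h := geom_sum_mul_of_one_le (x := q) hq1.le (2 * i + 1)
  have hodd := geom_odd q hq i
  have h0 : (∑ k ∈ Finset.range (2 * i + 1), q ^ k) ≠ 0 := hodd.pos.ne'
  rw [← h, Nat.factorization_mul h0 (by omega)]
  simp only [Finsupp.coe_add, Pi.add_apply]
  rw [Nat.factorization_eq_zero_of_not_dvd, zero_add]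
  rw [← even_iff_two_dvd, Nat.not_even_iff_odd]
  exact hodd

theorem sum_val_even (q : ℕ) (hodd : Odd q) (hq1 : 1 < q) (m : ℕ) :
    ∑ j ∈ Finset.range (2 * m), (q ^ (j + 1) - 1).factorization 2 =
      m * (q - 1).factorization 2 + m * (q ^ 2 - 1).factorization 2 +
        (m.factorial).factorization 2 := by
  induction m with
  | zero => simp
  | succ m ih =>
    rw [show 2 * (m + 1) = 2 * m + 1 + 1 by ring, Finset.sum_range_succ,
      Finset.sum_range_succ, ih]
    have h1 : (q ^ (2 * m + 1 + 1) - 1).factorization 2 =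
        (q ^ 2 - 1).factorization 2 + (m + 1).factorization 2 := by
      rw [Nat.factorization_def _ Nat.prime_two, Nat.factorization_def _ Nat.prime_two,
        Nat.factorization_def _ Nat.prime_two, show 2 * m + 1 + 1 = 2 * (m + 1) by ring]
      exact Cfsg.Agent.S2250.val_key q hodd hq1 m
    have h2 : (q ^ (2 * m + 1) - 1).factorization 2 = (q - 1).factorization 2 :=
      val_odd_pow q hodd hq1 m
    rw [h1, h2, Nat.factorial_succ, Nat.factorization_mul (by omega) (Nat.factorial_ne_zero m)]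
    simp only [Finsupp.coe_add, Pi.add_apply]
    ring

theorem val_SL_even {F : Type*} [Field F] [Fintype F] (hodd : Odd (Fintype.card F)) (m : ℕ)
    (hm : 1 ≤ m) :
    (Nat.card (SpecialLinearGroup (Fin (2 * m)) F)).factorization 2 +
        (Fintype.card F - 1).factorization 2 =
      m * (Fintype.card F - 1).factorization 2 + m * (Fintype.card F ^ 2 - 1).factorization 2 +
        (m.factorial).factorization 2 := by
  have hq1 : 1 < Fintype.card F := Fintype.one_lt_card
  have : NeZero (2 * m) := ⟨by omega⟩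
  have h1 := Cfsg.Agent.Lib.Helper6.card_SL_mul (F := F) (2 * m)
  rw [Fin.prod_univ_eq_prod_range (fun i => Fintype.card F ^ (2 * m) - Fintype.card F ^ i)]
    at h1
  have h2 : (Nat.card (SpecialLinearGroup (Fin (2 * m)) F) *
      (Fintype.card F - 1)).factorization 2
      = (∏ i ∈ Finset.range (2 * m),
        (Fintype.card F ^ (2 * m) - Fintype.card F ^ i)).factorization 2 := by rw [h1]
  rw [Nat.factorization_mul Nat.card_pos.ne' (by omega), S4628.prod_val _ _ hodd hq1,
    sum_val_even _ hodd hq1 m] at h2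
  simp only [Finsupp.coe_add, Pi.add_apply] at h2
  exact h2

/-! ### generalities -/

theorem isPGroup_zpowers_of_sq {G : Type*} [Group G] (d : G) (hd : d ^ 2 = 1) :
    IsPGroup 2 (Subgroup.zpowers d) := by
  rintro ⟨g, hg⟩
  obtain ⟨z, rfl⟩ := Subgroup.mem_zpowers_iff.mp hg
  refine ⟨1, Subtype.ext ?_⟩
  show (d ^ z) ^ (2 ^ 1) = 1
  rw [pow_one, ← zpow_natCast, ← _root_.zpow_mul, mul_comm, _root_.zpow_mul, zpow_natCast, hd,
    _root_.one_zpow]

theorem card_ker_ge {W D : Type*} [Group W] [Group D] (ε : W →* D) (v r : ℕ)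
    (hW : Nat.card W = 2 ^ (v + r)) (hr : Nat.card ε.range ≤ 2 ^ r) :
    2 ^ v ≤ Nat.card ε.ker := by
  have h1 := Subgroup.card_mul_index ε.ker
  rw [Subgroup.index_ker, hW, pow_add] at h1
  by_contra hlt
  push Not at hlt
  have h2 : Nat.card ε.ker * Nat.card ε.range < 2 ^ v * 2 ^ r :=
    calc Nat.card ε.ker * Nat.card ε.range ≤ Nat.card ε.ker * 2 ^ r := Nat.mul_le_mul_left _ hr
      _ < 2 ^ v * 2 ^ r := mul_lt_mul_of_pos_right hlt (by positivity)
  exact absurd h1 h2.ne

theorem sqComm_sylow_of_model {G K : Type*} [Group G] [Finite G] [Group K] (Ψ : K →* G)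
    (hΨ : Function.Injective Ψ) (hK2 : IsPGroup 2 K)
    (hge : 2 ^ (Nat.card G).factorization 2 ≤ Nat.card K)
    (hK : ∀ x : K, x ^ 2 ∈ commutator K) (P : Sylow 2 G) :
    ∀ x : (P : Subgroup G), x ^ 2 ∈ commutator (P : Subgroup G) := by
  have hr : Nat.card Ψ.range = Nat.card K :=
    Nat.card_congr (MonoidHom.ofInjective hΨ).toEquiv.symm
  have hrp : IsPGroup 2 Ψ.range := hK2.of_equiv (MonoidHom.ofInjective hΨ)
  have hcard := S4624.card_eq_of_pgroup_ge Ψ.range hrp (by rw [hr]; exact hge)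
  let P0 : Sylow 2 G := Sylow.ofCard _ hcard
  have e1 : K ≃* (P0 : Subgroup G) := MonoidHom.ofInjective hΨ
  exact S4624.sqComm_of_mulEquiv (e1.trans (Sylow.equiv P0 P)) hK

section Field
variable {F : Type*} [Field F]

theorem units_sq_eq_one (u : Fˣ) (hu : u ^ 2 = 1) : u = 1 ∨ u = -1 := by
  have h : (u : F) * (u : F) = 1 := by
    have h1 := congrArg Units.val hu
    rw [Units.val_pow_eq_pow_val, pow_two, Units.val_one] at h1
    exact h1
  rcases mul_self_eq_one_iff.mp h with h1 | h1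
  · left
    exact Units.ext h1
  · right
    apply Units.ext
    rw [h1, Units.val_neg, Units.val_one]

theorem sq_eq_one_of_two_pow [Fintype F] (h43 : Fintype.card F % 4 = 3) (u : Fˣ) (k : ℕ)
    (hu : u ^ (2 ^ k) = 1) : u ^ 2 = 1 := by
  have h1 : orderOf u ∣ 2 ^ k := orderOf_dvd_of_pow_eq_one hu
  have h2 : orderOf u ∣ Fintype.card F - 1 := by
    have h := orderOf_dvd_natCard u
    rwa [Nat.card_units, Nat.card_eq_fintype_card] at h
  obtain ⟨i, -, hoi⟩ := (Nat.dvd_prime_pow Nat.prime_two).mp h1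
  rw [hoi] at h2
  have hi1 : i ≤ 1 := by
    by_contra hlt
    push Not at hlt
    have h4 : 2 ^ 2 ∣ Fintype.card F - 1 := dvd_trans (pow_dvd_pow 2 (Nat.succ_le_of_lt hlt)) h2
    omega
  apply orderOf_dvd_iff_pow_eq_one.mp
  rw [hoi]
  have h5 : 2 ^ i ∣ 2 ^ 1 := pow_dvd_pow 2 hi1
  simpa using h5

end Field

/-! ### maps to `SL` -/

section ToSL
variable {F : Type*} [Field F] {l : Type*} [Fintype l] [DecidableEq l]

/-- restriction of a map to `GL` to a subgroup of determinant one elements -/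
def toSL {W : Type*} [Group W] (Φ : W →* GL l F) (K : Subgroup W)
    (hK : ∀ k ∈ K, Matrix.det ((Φ k : GL l F) : Matrix l l F) = 1) :
    K →* SpecialLinearGroup l F where
  toFun k := ⟨((Φ (k : W) : GL l F) : Matrix l l F), hK k k.2⟩
  map_one' := by
    apply Subtype.ext
    show ((Φ ((1 : K) : W) : GL l F) : Matrix l l F) = 1
    rw [Subgroup.coe_one, map_one, Units.val_one]
  map_mul' a b := by
    apply Subtype.ext
    show ((Φ ((a * b : K) : W) : GL l F) : Matrix l l F) =
      ((Φ (a : W) : GL l F) : Matrix l l F) * ((Φ (b : W) : GL l F) : Matrix l l F)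
    rw [Subgroup.coe_mul, map_mul, Units.val_mul]

theorem toSL_injective {W : Type*} [Group W] (Φ : W →* GL l F) (hΦ : Function.Injective Φ)
    (K : Subgroup W) (hK : ∀ k ∈ K, Matrix.det ((Φ k : GL l F) : Matrix l l F) = 1) :
    Function.Injective (toSL Φ K hK) := by
  intro a b h
  have h1 : ((Φ (a : W) : GL l F) : Matrix l l F) = ((Φ (b : W) : GL l F) : Matrix l l F) :=
    congrArg Subtype.val h
  exact Subtype.ext (hΦ (Units.ext h1))

/-- `l ⊕ l ≃ Fin 2 × l` -/
def sumEquiv (l : Type*) : l ⊕ l ≃ Fin 2 × l where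
  toFun := Sum.elim (fun i => (0, i)) (fun i => (1, i))
  invFun p := if p.1 = 0 then Sum.inl p.2 else Sum.inr p.2
  left_inv := by rintro (i | i) <;> simp
  right_inv := by
    rintro ⟨a, i⟩
    fin_cases a <;> simp

theorem blkMat_eq (s : l → Matrix (Fin 2) (Fin 2) F) :
    S4628.blkMat s = (Matrix.blockDiagonal s).submatrix (sumEquiv l) (sumEquiv l) := by
  ext (i | i) (j | j) <;>
    simp [S4628.blkMat, sumEquiv, Matrix.blockDiagonal_apply, Matrix.diagonal_apply]

theorem det_blkMat (s : l → Matrix (Fin 2) (Fin 2) F) :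
    Matrix.det (S4628.blkMat s) = ∏ i, Matrix.det (s i) := by
  rw [blkMat_eq, Matrix.det_submatrix_equiv_self, Matrix.det_blockDiagonal]

theorem det_permMat (σ : Equiv.Perm l) : Matrix.det (permMat F σ) = 1 := by
  rw [permMat, Matrix.det_fromBlocks_zero₂₁, Matrix.permMatrixHom_apply,
    Matrix.det_permutation]
  rcases Int.units_eq_one_or (Equiv.Perm.sign σ⁻¹) with h | h <;> simp [h]

/-- diagonal embedding -/
def diagGL : (l → Fˣ) →* GL l F where
  toFun u :=
    { val := diagonal fun i => ((u i : Fˣ) : F)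
      inv := diagonal fun i => (((u i)⁻¹ : Fˣ) : F)
      val_inv := by
        rw [diagonal_mul_diagonal, ← diagonal_one]
        congr 1
        funext i
        exact Units.mul_inv (u i)
      inv_val := by
        rw [diagonal_mul_diagonal, ← diagonal_one]
        congr 1
        funext i
        exact Units.inv_mul (u i) }
  map_one' := by
    apply Units.ext
    show diagonal (fun i => (((1 : l → Fˣ) i : Fˣ) : F)) = 1
    simp
  map_mul' u v := by
    apply Units.ext
    show diagonal (fun i => (((u * v) i : Fˣ) : F)) =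
      diagonal (fun i => ((u i : Fˣ) : F)) * diagonal (fun i => ((v i : Fˣ) : F))
    rw [diagonal_mul_diagonal]
    rfl

theorem diagGL_val (u : l → Fˣ) :
    ((diagGL u : GL l F) : Matrix l l F) = diagonal fun i => ((u i : Fˣ) : F) := rfl

theorem det_diagGL (u : l → Fˣ) : Matrix.GeneralLinearGroup.det (diagGL u) = ∏ i, u i := by
  apply Units.ext
  rw [Matrix.GeneralLinearGroup.val_det_apply, diagGL_val, det_diagonal, Units.coe_prod]

/-- permutation matrices -/
def permGL₁ : Equiv.Perm l →* GL l F := (Matrix.permMatrixHom (n := l) (R := F)).toHomUnits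

theorem permGL₁_val (σ : Equiv.Perm l) :
    ((permGL₁ σ : GL l F) : Matrix l l F) = permMatrixHom (R := F) σ := rfl

theorem permGL₁_mul_diagGL (σ : Equiv.Perm l) (u : l → Fˣ) :
    permGL₁ σ * diagGL u = diagGL (F := F) (fun i => u (σ⁻¹ i)) * permGL₁ σ := by
  apply Units.ext
  show permMatrixHom (R := F) σ * diagonal (fun i => ((u i : Fˣ) : F)) =
    diagonal (fun i => ((u (σ⁻¹ i) : Fˣ) : F)) * permMatrixHom σ
  exact permMatrixHom_mul_diagonal σ _

theorem diagGL_eq_permGL₁ (u : l → Fˣ) (σ : Equiv.Perm l)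
    (h : diagGL u = permGL₁ (F := F) σ) : u = 1 ∧ σ = 1 := by
  have h1 : diagonal (fun i => ((u i : Fˣ) : F)) = permMatrixHom (R := F) σ :=
    congrArg Units.val h
  have hσ : σ = 1 := by
    have h3 : σ⁻¹ = 1 := by
      ext i
      by_contra hne
      have hne' : i ≠ σ⁻¹ i := fun hh => hne hh.symm
      have h4 := congrFun (congrFun h1 i) (σ⁻¹ i)
      rw [permMatrixHom_apply_apply, if_pos rfl, diagonal_apply_ne _ hne'] at h4
      exact zero_ne_one h4
    rw [← inv_inv σ, h3, inv_one]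
  refine ⟨?_, hσ⟩
  subst hσ
  funext i
  apply Units.ext
  have h4 := congrFun (congrFun h1 i) i
  rw [diagonal_apply_eq, map_one, one_apply_eq] at h4
  exact h4

end ToSL

/-! ### the case `m = 1` -/

theorem caseOne {F : Type*} [Field F] [Fintype F] (hF : Odd (Fintype.card F))
    (P : Sylow 2 (SpecialLinearGroup (Fin 2) F)) :
    ∀ x : (P : Subgroup (SpecialLinearGroup (Fin 2) F)),
      x ^ 2 ∈ commutator (P : Subgroup (SpecialLinearGroup (Fin 2) F)) := by
  obtain ⟨Q, hQ2, hQc, hQE⟩ := S4624.exists_sl2_sub hF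
  exact sqComm_sylow_of_model Q.subtype Q.subtype_injective hQ2 hQc hQE P

/-! ### case A: `q ≡ 3 mod 4` -/

section CaseA
variable {F : Type*} [Field F] {n : ℕ}

/-- determinant on the wreath product -/
def detW (Q : Subgroup (GL (Fin 2) F)) (T : Subgroup (Equiv.Perm (Fin n))) :
    (Fin n → Q) ⋊[S4624.actT Q T] T →* Fˣ :=
  (Matrix.GeneralLinearGroup.det).comp (S4628.PsiW Q T)

theorem detW_inr (Q : Subgroup (GL (Fin 2) F)) (T : Subgroup (Equiv.Perm (Fin n))) (t : T) :
    detW Q T (SemidirectProduct.inr t) = 1 := by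
  show Matrix.GeneralLinearGroup.det (S4628.PsiW Q T (SemidirectProduct.inr t)) = 1
  rw [S4628.PsiW, SemidirectProduct.lift_inr]
  apply Units.ext
  rw [Matrix.GeneralLinearGroup.val_det_apply]
  show Matrix.det (permMat F (t : Equiv.Perm (Fin n))) = 1
  exact det_permMat _

theorem detW_inl_single (Q : Subgroup (GL (Fin 2) F)) (T : Subgroup (Equiv.Perm (Fin n)))
    (i : Fin n) (a : Q) :
    detW Q T (SemidirectProduct.inl (Pi.mulSingle i a)) =
      Matrix.GeneralLinearGroup.det (a : GL (Fin 2) F) := by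
  show Matrix.GeneralLinearGroup.det
    (S4628.PsiW Q T (SemidirectProduct.inl (Pi.mulSingle i a))) = _
  rw [S4628.PsiW, SemidirectProduct.lift_inl]
  apply Units.ext
  rw [Matrix.GeneralLinearGroup.val_det_apply, Matrix.GeneralLinearGroup.val_det_apply]
  show Matrix.det (S4628.blkMat fun k =>
    (((Pi.mulSingle i a : Fin n → Q) k : GL (Fin 2) F) : Matrix (Fin 2) (Fin 2) F)) =
    Matrix.det ((a : GL (Fin 2) F) : Matrix (Fin 2) (Fin 2) F)
  rw [det_blkMat, Finset.prod_eq_single i]
  · rw [Pi.mulSingle_eq_same]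
  · intro k _ hk
    rw [Pi.mulSingle_eq_of_ne hk]
    show Matrix.det (((1 : Q) : GL (Fin 2) F) : Matrix (Fin 2) (Fin 2) F) = 1
    rw [Subgroup.coe_one, Units.val_one, Matrix.det_one]
  · intro h
    exact absurd (Finset.mem_univ i) h

theorem caseA_ker [Fintype F] (h43 : Fintype.card F % 4 = 3) (hn : 2 ≤ n)
    (Q : Subgroup (GL (Fin 2) F)) (T : Subgroup (Equiv.Perm (Fin n))) (hQ2 : IsPGroup 2 Q)
    (w₀ : Q) (hw₀ : Matrix.GeneralLinearGroup.det (w₀ : GL (Fin 2) F) = -1)
    (hQE : ∀ x : Q, x ^ 2 ∈ commutator Q) (hT : ∀ t : T, t ^ 2 ∈ commutator T) :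
    ∀ x : (detW Q T).ker, x ^ 2 ∈ commutator (detW Q T).ker := by
  classical
  let χ : Q →* Fˣ := (Matrix.GeneralLinearGroup.det).comp Q.subtype
  have hχ2 : ∀ a : Q, χ a ^ 2 = 1 := by
    intro a
    obtain ⟨k, hk⟩ := hQ2 a
    apply sq_eq_one_of_two_pow h43 _ k
    rw [← map_pow, hk, map_one]
  have hχw : χ w₀ = -1 := hw₀
  let τ : Q → Q := fun a => if χ a = 1 then 1 else w₀
  have hτ : ∀ a, χ (τ a) = (χ a)⁻¹ := by
    intro a
    show χ (if χ a = 1 then 1 else w₀) = (χ a)⁻¹
    by_cases h : χ a = 1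
    · rw [if_pos h, map_one, h, inv_one]
    · rcases units_sq_eq_one _ (hχ2 a) with h1 | h1
      · exact absurd h1 h
      · rw [if_neg h, hχw, h1]
        exact eq_inv_of_mul_eq_one_left (by rw [neg_mul_neg, one_mul])
  have hτc : ∀ a b, Commute (τ a) (τ b) := by
    intro a b
    show Commute (if χ a = 1 then 1 else w₀) (if χ b = 1 then 1 else w₀)
    split_ifs
    · exact Commute.one_left _
    · exact Commute.one_left _
    · exact Commute.one_right _
    · exact Commute.refl _
  have hι : ∀ i : Fin n, ∃ j, j ≠ i := by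
    have : Nontrivial (Fin n) := Fin.nontrivial_iff_two_le.mpr hn
    exact fun i => exists_ne i
  exact sqComm_ker_A (S4624.actT Q T) χ (detW Q T) hι (detW_inr Q T)
    (fun i a => detW_inl_single Q T i a) τ hτ hτc hQE hT

theorem caseA_main [Fintype F] (h43 : Fintype.card F % 4 = 3) (hn : 2 ≤ n)
    (Q : Subgroup (GL (Fin 2) F)) (T : Subgroup (Equiv.Perm (Fin n)))
    (hQc : Nat.card Q = 2 ^ (Nat.card (GL (Fin 2) F)).factorization 2)
    (hTc : Nat.card T = 2 ^ (n.factorial).factorization 2)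
    (w₀ : Q) (hw₀ : Matrix.GeneralLinearGroup.det (w₀ : GL (Fin 2) F) = -1)
    (hQE : ∀ x : Q, x ^ 2 ∈ commutator Q) (hT : ∀ t : T, t ^ 2 ∈ commutator T)
    (P : Sylow 2 (SpecialLinearGroup (Fin (2 * n)) F)) :
    ∀ x : (P : Subgroup (SpecialLinearGroup (Fin (2 * n)) F)),
      x ^ 2 ∈ commutator (P : Subgroup (SpecialLinearGroup (Fin (2 * n)) F)) := by
  classical
  have hodd : Odd (Fintype.card F) := Nat.odd_iff.mpr (by omega)
  have hq1 : 1 < Fintype.card F := Fintype.one_lt_card
  have hQ2 : IsPGroup 2 Q := IsPGroup.of_card hQc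
  have hK := caseA_ker h43 hn Q T hQ2 w₀ hw₀ hQE hT
  have h3 : (Fintype.card F - 1).factorization 2 = 1 := fact2_eq_one_of_mod4 (by omega)
  have hvGL : (Nat.card (GL (Fin 2) F)).factorization 2 =
      1 + (Fintype.card F ^ 2 - 1).factorization 2 := by
    rw [card_GL2, fact2_card_GL2 (by omega) hq1, S4624.sq_sub_one_fac _ hq1.le,
      Nat.factorization_mul (by omega) (by omega)]
    simp only [Finsupp.coe_add, Pi.add_apply]
    rw [h3]
    omega
  have hvSL := val_SL_even hodd n (by omega)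
  rw [h3] at hvSL
  have hcardW : Nat.card ((Fin n → Q) ⋊[S4624.actT Q T] T) =
      2 ^ ((Nat.card (SpecialLinearGroup (Fin (2 * n)) F)).factorization 2 + 1) := by
    rw [SemidirectProduct.card, Nat.card_fun, Nat.card_fin, hQc, hTc, ← pow_mul, ← pow_add,
      hvSL, hvGL]
    congr 1
    ring
  have hW2 : IsPGroup 2 ((Fin n → Q) ⋊[S4624.actT Q T] T) := IsPGroup.of_card hcardW
  have hrange : Nat.card (detW Q T).range ≤ 2 ^ 1 := by
    have hle : (detW Q T).range ≤ Subgroup.zpowers (-1 : Fˣ) := by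
      rintro _ ⟨w, rfl⟩
      obtain ⟨k, hk⟩ := hW2 w
      have h1 : detW Q T w ^ 2 = 1 := by
        apply sq_eq_one_of_two_pow h43 _ k
        rw [← map_pow, hk, map_one]
      rcases units_sq_eq_one _ h1 with h | h
      · rw [h]
        exact one_mem _
      · rw [h]
        exact Subgroup.mem_zpowers _
    calc Nat.card (detW Q T).range ≤ Nat.card (Subgroup.zpowers (-1 : Fˣ)) :=
          Subgroup.card_le_of_le hle
      _ = orderOf (-1 : Fˣ) := Nat.card_zpowers _
      _ ≤ 2 ^ 1 := orderOf_le_of_pow_eq_one (by norm_num) (by rw [pow_one, neg_one_sq])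
  have hge := card_ker_ge (detW Q T) _ 1 hcardW hrange
  have hdetK : ∀ k ∈ (detW Q T).ker,
      Matrix.det ((S4628.PsiW Q T k : GL (Fin n ⊕ Fin n) F) :
        Matrix (Fin n ⊕ Fin n) (Fin n ⊕ Fin n) F) = 1 := by
    intro k hk
    have h : Matrix.GeneralLinearGroup.det (S4628.PsiW Q T k) = 1 := MonoidHom.mem_ker.mp hk
    have h' := congrArg Units.val h
    rw [Matrix.GeneralLinearGroup.val_det_apply, Units.val_one] at h'
    exact h'
  let e : Fin n ⊕ Fin n ≃ Fin (2 * n) :=
    Fintype.equivFinOfCardEq (by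
      simp only [Fintype.card_sum, Fintype.card_fin]
      ring)
  have hΨ : Function.Injective
      ((S4628.slReindex (F := F) e).comp (toSL (S4628.PsiW Q T) (detW Q T).ker hdetK)) := by
    rw [MonoidHom.coe_comp]
    exact (S4628.slReindex_injective e).comp
      (toSL_injective _ (S4628.PsiW_injective Q T) _ _)
  exact sqComm_sylow_of_model _ hΨ (hW2.to_subgroup _) hge hK P

end CaseA

theorem caseA {F : Type*} [Field F] [Fintype F] (h43 : Fintype.card F % 4 = 3) (m : ℕ)
    (hm : 2 ≤ m) (P : Sylow 2 (SpecialLinearGroup (Fin (2 * m)) F)) :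
    ∀ x : (P : Subgroup (SpecialLinearGroup (Fin (2 * m)) F)),
      x ^ 2 ∈ commutator (P : Subgroup (SpecialLinearGroup (Fin (2 * m)) F)) := by
  classical
  let δ : Fˣ →* GL (Fin 2) F :=
    (diagGL (F := F) (l := Fin 2)).comp (MonoidHom.mulSingle (fun _ : Fin 2 => Fˣ) 1)
  have hd2 : (δ (-1)) ^ 2 = 1 := by rw [← map_pow, neg_one_sq, map_one]
  have hdet_d : Matrix.GeneralLinearGroup.det (δ (-1)) = -1 := by
    show Matrix.GeneralLinearGroup.det (diagGL (Pi.mulSingle 1 (-1))) = -1
    rw [det_diagGL, Fintype.prod_pi_mulSingle']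
  obtain ⟨Pq, hPq⟩ := (isPGroup_zpowers_of_sq (δ (-1)) hd2).exists_le_sylow
  have hdP : δ (-1) ∈ (Pq : Subgroup (GL (Fin 2) F)) := hPq (Subgroup.mem_zpowers _)
  obtain ⟨T⟩ : Nonempty (Sylow 2 (Equiv.Perm (Fin m))) := inferInstance
  have hQE : ∀ x : (Pq : Subgroup (GL (Fin 2) F)),
      x ^ 2 ∈ commutator (Pq : Subgroup (GL (Fin 2) F)) :=
    S4628.sqComm_of_quasiDihedral (gl2_quasiDihedral h43 Pq)
  have hTc : Nat.card (T : Subgroup (Equiv.Perm (Fin m))) =
      2 ^ (m.factorial).factorization 2 := by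
    rw [Sylow.card_eq_multiplicity, Nat.card_perm, Nat.card_fin]
  exact caseA_main h43 hm (Pq : Subgroup (GL (Fin 2) F)) (T : Subgroup (Equiv.Perm (Fin m)))
    Pq.card_eq_multiplicity hTc ⟨δ (-1), hdP⟩ hdet_d hQE
    (fun x => (Cfsg.Agent.S4623.sylow_perm_genBy 2 m T).pow_mem_commutator x) P

/-! ### case B: `q ≡ 1 mod 4`, `m` a power of two -/

theorem exists_fixed_of_odd_involution {n : ℕ} (h4 : 4 ∣ n) (σ : Equiv.Perm (Fin n))
    (hσ : σ ^ 2 = 1) (hs : Equiv.Perm.sign σ ≠ 1) : ∃ p, σ p = p := by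
  by_contra hno
  push Not at hno
  have hne : σ ≠ 1 := by
    rintro rfl
    exact hs (map_one _)
  have ho : orderOf σ = 2 := orderOf_eq_prime hσ hne
  obtain ⟨r, hr⟩ := Equiv.Perm.cycleType_prime_order (σ := σ) (by rw [ho]; exact Nat.prime_two)
  rw [ho] at hr
  have hsupp : σ.support = Finset.univ := by
    ext p
    simp [Equiv.Perm.mem_support, hno p]
  have hsum : σ.cycleType.sum = n := by
    rw [Equiv.Perm.sum_cycleType, hsupp, Finset.card_univ, Fintype.card_fin]
  rw [hr, Multiset.sum_replicate, smul_eq_mul] at hsum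
  have hsign := Equiv.Perm.sign_of_cycleType σ
  rw [hr, Multiset.sum_replicate, Multiset.card_replicate, smul_eq_mul] at hsign
  apply hs
  rw [hsign]
  have hev : Even ((r + 1) * 2 + (r + 1)) := by
    obtain ⟨k, hk⟩ := h4
    have h1 : r + 1 = 2 * k := by omega
    rw [h1]
    exact ⟨3 * k, by ring⟩
  exact hev.neg_one_pow

/-- rotations of `Fin n` -/
def rot (n : ℕ) [NeZero n] : Multiplicative (Fin n) →* Equiv.Perm (Fin n) where
  toFun a := Equiv.addLeft (Multiplicative.toAdd a)
  map_one' := by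
    apply Equiv.ext
    intro x
    simp
  map_mul' a b := by
    apply Equiv.ext
    intro x
    simp

/-- signs in the field -/
def signU (F : Type*) [Field F] : ℤˣ →* Fˣ :=
  Units.map ((Int.castRingHom F : ℤ →+* F) : ℤ →* F)

theorem signU_val {F : Type*} [Field F] (u : ℤˣ) :
    ((signU F u : Fˣ) : F) = (((u : ℤˣ) : ℤ) : F) := rfl

theorem signU_neg_one {F : Type*} [Field F] : signU F (-1) = -1 := by
  apply Units.ext
  rw [signU_val]
  simp

/-- the product of the coordinates -/
def prodHom (ι C : Type*) [Fintype ι] [CommGroup C] : (ι → C) →* C where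
  toFun f := ∏ i, f i
  map_one' := by simp
  map_mul' f g := by simp [Finset.prod_mul_distrib]

section CaseB
variable {F : Type*} [Field F] {n : ℕ}

theorem PhiB_compat (C : Subgroup Fˣ) (T : Subgroup (Equiv.Perm (Fin n))) (t : T) :
    ((diagGL (F := F) (l := Fin n)).comp (S4628.inclPiG C)).comp
        (MulEquiv.toMonoidHom (S4624.actT C T t)) =
      (MulEquiv.toMonoidHom
        (MulAut.conj (((permGL₁ (F := F) (l := Fin n)).comp T.subtype) t))).comp
        ((diagGL (F := F) (l := Fin n)).comp (S4628.inclPiG C)) := by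
  refine MonoidHom.ext fun f => ?_
  show diagGL (S4628.inclPiG C (f ∘ ⇑(t : Equiv.Perm (Fin n)).symm)) =
    permGL₁ (t : Equiv.Perm (Fin n)) * diagGL (S4628.inclPiG C f) *
      (permGL₁ (t : Equiv.Perm (Fin n)))⁻¹
  rw [permGL₁_mul_diagGL, mul_inv_cancel_right]
  rfl

/-- the monomial embedding -/
def PhiB (C : Subgroup Fˣ) (T : Subgroup (Equiv.Perm (Fin n))) :
    (Fin n → C) ⋊[S4624.actT C T] T →* GL (Fin n) F :=
  SemidirectProduct.lift ((diagGL (F := F) (l := Fin n)).comp (S4628.inclPiG C))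
    ((permGL₁ (F := F) (l := Fin n)).comp T.subtype) (PhiB_compat C T)

theorem PhiB_injective (C : Subgroup Fˣ) (T : Subgroup (Equiv.Perm (Fin n))) :
    Function.Injective (PhiB C T) := by
  rw [injective_iff_map_eq_one]
  intro w hw
  rw [← SemidirectProduct.inl_left_mul_inr_right w, map_mul, PhiB, SemidirectProduct.lift_inl,
    SemidirectProduct.lift_inr] at hw
  have h1 : diagGL (S4628.inclPiG C w.left) =
      permGL₁ (F := F) ((w.right : Equiv.Perm (Fin n))⁻¹) := by
    rw [map_inv]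
    exact eq_inv_of_mul_eq_one_left hw
  obtain ⟨h2, h3⟩ := diagGL_eq_permGL₁ _ _ h1
  apply SemidirectProduct.ext
  · show w.left = 1
    apply S4628.inclPiG_injective C
    rw [h2, map_one]
  · show w.right = 1
    apply Subtype.ext
    rw [inv_eq_one] at h3
    exact h3

/-- the sign, with values in `C` -/
def sgnC (C : Subgroup Fˣ) (hC : (-1 : Fˣ) ∈ C) (T : Subgroup (Equiv.Perm (Fin n))) : T →* C :=
  ((signU F).comp ((Equiv.Perm.sign).comp T.subtype)).codRestrict C (fun t => by
    show signU F (Equiv.Perm.sign (t : Equiv.Perm (Fin n))) ∈ C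
    rcases Int.units_eq_one_or (Equiv.Perm.sign (t : Equiv.Perm (Fin n))) with h | h
    · rw [h, map_one]
      exact one_mem _
    · rw [h, signU_neg_one]
      exact hC)

theorem sgnC_val (C : Subgroup Fˣ) (hC : (-1 : Fˣ) ∈ C) (T : Subgroup (Equiv.Perm (Fin n)))
    (t : T) :
    ((sgnC C hC T t : C) : Fˣ) = signU F (Equiv.Perm.sign (t : Equiv.Perm (Fin n))) := rfl

/-- determinant on the monomial group, with values in `C` -/
def epsB (C : Subgroup Fˣ) (hC : (-1 : Fˣ) ∈ C) (T : Subgroup (Equiv.Perm (Fin n))) :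
    (Fin n → C) ⋊[S4624.actT C T] T →* C :=
  SemidirectProduct.lift (prodHom (Fin n) C) (sgnC C hC T) (fun t => by
    refine MonoidHom.ext fun f => ?_
    show ∏ i, f ((t : Equiv.Perm (Fin n)).symm i) =
      sgnC C hC T t * (∏ i, f i) * (sgnC C hC T t)⁻¹
    rw [Equiv.prod_comp (t : Equiv.Perm (Fin n)).symm f, mul_comm, inv_mul_cancel_left])

theorem det_PhiB (C : Subgroup Fˣ) (hC : (-1 : Fˣ) ∈ C) (T : Subgroup (Equiv.Perm (Fin n)))
    (w : (Fin n → C) ⋊[S4624.actT C T] T) :
    Matrix.GeneralLinearGroup.det (PhiB C T w) = ((epsB C hC T w : C) : Fˣ) := by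
  have h : (Matrix.GeneralLinearGroup.det).comp (PhiB (F := F) C T) =
      C.subtype.comp (epsB C hC T) := by
    apply SemidirectProduct.hom_ext
    · refine MonoidHom.ext fun f => ?_
      show Matrix.GeneralLinearGroup.det (PhiB C T (SemidirectProduct.inl f)) =
        ((epsB C hC T (SemidirectProduct.inl f) : C) : Fˣ)
      rw [PhiB, epsB, SemidirectProduct.lift_inl, SemidirectProduct.lift_inl]
      show Matrix.GeneralLinearGroup.det (diagGL (S4628.inclPiG C f)) = ((∏ i, f i : C) : Fˣ)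
      rw [det_diagGL]
      exact (map_prod C.subtype f Finset.univ).symm
    · refine MonoidHom.ext fun t => ?_
      show Matrix.GeneralLinearGroup.det (PhiB C T (SemidirectProduct.inr t)) =
        ((epsB C hC T (SemidirectProduct.inr t) : C) : Fˣ)
      rw [PhiB, epsB, SemidirectProduct.lift_inr, SemidirectProduct.lift_inr]
      apply Units.ext
      rw [Matrix.GeneralLinearGroup.val_det_apply, sgnC_val, signU_val]
      show Matrix.det (permMatrixHom (R := F) (t : Equiv.Perm (Fin n))) = _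
      rw [Matrix.permMatrixHom_apply, Matrix.det_permutation, Equiv.Perm.sign_inv]
  exact DFunLike.congr_fun h w

theorem caseB_ker [NeZero n] (h4 : 4 ∣ n) (C : Subgroup Fˣ) (hC : (-1 : Fˣ) ∈ C)
    (T : Subgroup (Equiv.Perm (Fin n))) (hRT : (rot n).range ≤ T)
    (hgen : Cfsg.Agent.S4623.GenBy 2 T) :
    ∀ x : (epsB C hC T).ker, x ^ 2 ∈ commutator (epsB C hC T).ker := by
  apply sqComm_ker_B T (S4624.actT C T) (fun _ _ => rfl) (sgnC C hC T) ?_ (epsB C hC T) ?_ ?_
    (0 : Fin n) hgen ?_ ?_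
  · intro t
    apply Subtype.ext
    show (signU F (Equiv.Perm.sign (t : Equiv.Perm (Fin n)))) ^ 2 = 1
    rw [← map_pow, Int.units_sq, map_one]
  · intro f
    rw [epsB, SemidirectProduct.lift_inl]
    rfl
  · intro t
    rw [epsB, SemidirectProduct.lift_inr]
  · intro i
    refine ⟨⟨rot n (Multiplicative.ofAdd i), hRT ⟨_, rfl⟩⟩, ?_⟩
    show Equiv.addLeft (Multiplicative.toAdd (Multiplicative.ofAdd i)) 0 = i
    simp
  · intro t ht hst
    apply exists_fixed_of_odd_involution h4 (t : Equiv.Perm (Fin n))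
    · have h := congrArg Subtype.val ht
      rw [Subgroup.coe_pow] at h
      exact h
    · intro hsign
      apply hst
      apply Subtype.ext
      rw [sgnC_val, hsign, map_one]
      rfl

end CaseB

theorem caseB {F : Type*} [Field F] [Fintype F] (h41 : Fintype.card F % 4 = 1) (m j : ℕ)
    (hmj : m = 2 ^ j) (hm : 2 ≤ m) (P : Sylow 2 (SpecialLinearGroup (Fin (2 * m)) F)) :
    ∀ x : (P : Subgroup (SpecialLinearGroup (Fin (2 * m)) F)),
      x ^ 2 ∈ commutator (P : Subgroup (SpecialLinearGroup (Fin (2 * m)) F)) := by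
  classical
  have hodd : Odd (Fintype.card F) := Nat.odd_iff.mpr (by omega)
  have hq1 : 1 < Fintype.card F := Fintype.one_lt_card
  have : NeZero (2 * m) := ⟨by omega⟩
  have hj : j ≠ 0 := by
    rintro rfl
    rw [pow_zero] at hmj
    omega
  have h4 : 4 ∣ 2 * m := by
    have h2m : 2 ∣ m := by
      rw [hmj]
      exact dvd_pow_self 2 hj
    obtain ⟨k, hk⟩ := h2m
    exact ⟨k, by rw [hk]; ring⟩
  obtain ⟨C, hCle⟩ := (isPGroup_zpowers_of_sq (-1 : Fˣ) neg_one_sq).exists_le_sylow
  have hC : (-1 : Fˣ) ∈ (C : Subgroup Fˣ) := hCle (Subgroup.mem_zpowers _)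
  have hRp : IsPGroup 2 (rot (2 * m)).range := by
    have h1 : IsPGroup 2 (Multiplicative (Fin (2 * m))) := IsPGroup.of_card (n := j + 1) (by
      rw [Nat.card_eq_fintype_card, Fintype.card_multiplicative, Fintype.card_fin, hmj, pow_succ]
      ring)
    exact h1.of_surjective (rot (2 * m)).rangeRestrict (rot (2 * m)).rangeRestrict_surjective
  obtain ⟨T, hRT⟩ := hRp.exists_le_sylow
  have hK := caseB_ker (F := F) h4 (C : Subgroup Fˣ) hC (T : Subgroup (Equiv.Perm (Fin (2 * m))))
    hRT (Cfsg.Agent.S4623.sylow_perm_genBy 2 (2 * m) T)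
  have hCc : Nat.card (C : Subgroup Fˣ) = 2 ^ (Fintype.card F - 1).factorization 2 := by
    rw [Sylow.card_eq_multiplicity, Nat.card_units, Nat.card_eq_fintype_card]
  have hTc : Nat.card (T : Subgroup (Equiv.Perm (Fin (2 * m)))) =
      2 ^ (m + (m.factorial).factorization 2) := by
    rw [Sylow.card_eq_multiplicity, Nat.card_perm, Nat.card_fin,
      Nat.factorization_def _ Nat.prime_two, padicValNat_factorial_mul,
      ← Nat.factorization_def _ Nat.prime_two, add_comm]
  have h5 : (Fintype.card F ^ 2 - 1).factorization 2 =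
      (Fintype.card F - 1).factorization 2 + 1 := by
    rw [S4624.sq_sub_one_fac _ hq1.le, Nat.factorization_mul (by omega) (by omega)]
    simp only [Finsupp.coe_add, Pi.add_apply]
    rw [fact2_eq_one_of_mod4 (show (Fintype.card F + 1) % 4 = 2 by omega)]
  have hvSL := val_SL_even hodd m (by omega)
  rw [h5] at hvSL
  have hcardW : Nat.card ((Fin (2 * m) → (C : Subgroup Fˣ)) ⋊[S4624.actT (C : Subgroup Fˣ)
      (T : Subgroup (Equiv.Perm (Fin (2 * m))))] T) =
      2 ^ ((Nat.card (SpecialLinearGroup (Fin (2 * m)) F)).factorization 2 +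
        (Fintype.card F - 1).factorization 2) := by
    rw [SemidirectProduct.card, Nat.card_fun, Nat.card_fin, hCc, hTc, ← pow_mul, ← pow_add,
      hvSL]
    congr 1
    ring
  have hW2 : IsPGroup 2 ((Fin (2 * m) → (C : Subgroup Fˣ)) ⋊[S4624.actT (C : Subgroup Fˣ)
      (T : Subgroup (Equiv.Perm (Fin (2 * m))))] T) := IsPGroup.of_card hcardW
  have hrange : Nat.card (epsB (C : Subgroup Fˣ) hC
      (T : Subgroup (Equiv.Perm (Fin (2 * m))))).range ≤
      2 ^ (Fintype.card F - 1).factorization 2 :=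
    (Subgroup.card_le_card_group _).trans_eq hCc
  have hge := card_ker_ge (epsB (C : Subgroup Fˣ) hC (T : Subgroup (Equiv.Perm (Fin (2 * m)))))
    _ _ hcardW hrange
  have hdetK : ∀ k ∈ (epsB (C : Subgroup Fˣ) hC (T : Subgroup (Equiv.Perm (Fin (2 * m))))).ker,
      Matrix.det ((PhiB (C : Subgroup Fˣ) (T : Subgroup (Equiv.Perm (Fin (2 * m)))) k :
        GL (Fin (2 * m)) F) : Matrix (Fin (2 * m)) (Fin (2 * m)) F) = 1 := by
    intro k hk
    have h := det_PhiB (C : Subgroup Fˣ) hC (T : Subgroup (Equiv.Perm (Fin (2 * m)))) k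
    rw [MonoidHom.mem_ker.mp hk] at h
    have h' := congrArg Units.val h
    rw [Matrix.GeneralLinearGroup.val_det_apply, Subgroup.coe_one, Units.val_one] at h'
    exact h'
  exact sqComm_sylow_of_model
    (toSL (PhiB (C : Subgroup Fˣ) (T : Subgroup (Equiv.Perm (Fin (2 * m))))) _ hdetK)
    (toSL_injective _ (PhiB_injective _ _) _ _) (hW2.to_subgroup _) hge hK P

/-- Let F be a finite field of odd order q and m ≥ 1. If 4 divides q + 1, or if 4 divides q − 1 and m is a power of 2, then a Sylow 2-subgroup P of SL_{2m}(F) has P/P' elementary abelian: the square of every element of P lies in the derived subgroup of P. -/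
theorem result {F : Type*} [Field F] [Fintype F] (hF : Odd (Fintype.card F)) (m : ℕ) (hm : 1 ≤ m)
    (hq : 4 ∣ Fintype.card F + 1 ∨ (4 ∣ Fintype.card F - 1 ∧ ∃ j : ℕ, m = 2 ^ j)) (P : Sylow 2 (Matrix.SpecialLinearGroup (Fin (2 * m)) F)) :
    ∀ x : (P : Subgroup (Matrix.SpecialLinearGroup (Fin (2 * m)) F)), x ^ 2 ∈ commutator (P : Subgroup (Matrix.SpecialLinearGroup (Fin (2 * m)) F)) := by
  have hq1 : 1 < Fintype.card F := Fintype.one_lt_card
  obtain ⟨r, hr⟩ := hF
  rcases Nat.lt_or_ge m 2 with hm2 | hm2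
  · obtain rfl : m = 1 := by omega
    exact caseOne ⟨r, hr⟩ P
  · rcases hq with h | ⟨h, j, hj⟩
    · exact caseA (by omega) m hm2 P
    · exact caseB (by omega) m j hj hm2 P

end Cfsg.Agent.S4627
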