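import Cfsg.Statements.S0756
import Mathlib

set_option autoImplicit false
open Cfsg

namespace Cfsg.Agent.S0756

open LinearMap LinearMap.BilinForm Module

section
variable {F : Type*} [Field F]

theorem exists_self_ne_zero {V : Type*} [AddCommGroup V] [Module F V] [Nontrivial V] (h2 : (2 : F) ≠ 0)
    (B : LinearMap.BilinForm F V) (hS : B.IsSymm) (hB : B.Nondegenerate) : ∃ v, B v v ≠ 0 := by
  by_contra hcon
  push Not at hcon
  obtain ⟨x, hx⟩ := exists_ne (0 : V)
  apply hx
  apply hB.1 x
  intro y
  have h1 := hcon (x + y)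
  simp only [map_add, LinearMap.add_apply, hcon x, hcon y, zero_add, add_zero] at h1
  rw [hS.eq y x, ← two_mul] at h1
  rcases mul_eq_zero.mp h1 with h | h
  · exact absurd h h2
  · exact h

theorem prod_nonsquare [Fintype F] (h2 : (2 : F) ≠ 0) {d α : F} (hd : ¬ IsSquare d) (hα : ¬ IsSquare α) :
    IsSquare (d * α) := by
  classical
  have hd0 : d ≠ 0 := by rintro rfl; exact hd (IsSquare.zero)
  have hα0 : α ≠ 0 := by rintro rfl; exact hα (IsSquare.zero)
  rw [← quadraticChar_one_iff_isSquare (mul_ne_zero hd0 hα0), map_mul,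
    quadraticChar_neg_one_iff_not_isSquare.mpr hd, quadraticChar_neg_one_iff_not_isSquare.mpr hα]
  norm_num

/-- normalising a vector of non-zero norm -/
theorem exists_normalised [Fintype F] (h2 : (2 : F) ≠ 0) {V : Type*} [AddCommGroup V] [Module F V]
    (B : LinearMap.BilinForm F V) (v : V) (hv : B v v ≠ 0) (α : F) (hα : ¬ IsSquare α) :
    ∃ s : F, B (s • v) (s • v) = 1 ∨ B (s • v) (s • v) = α := by
  set d := B v v with hd
  have hα0 : α ≠ 0 := by rintro rfl; exact hα (IsSquare.zero)
  by_cases hsq : IsSquare d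
  · obtain ⟨c, hc⟩ := hsq
    have hc0 : c ≠ 0 := by
      rintro rfl; rw [mul_zero] at hc; exact hv hc
    refine ⟨c⁻¹, Or.inl ?_⟩
    simp only [map_smul, LinearMap.smul_apply, smul_eq_mul, ← hd, hc]
    field_simp
  · obtain ⟨c, hc⟩ := prod_nonsquare h2 hsq hα
    refine ⟨c / d, Or.inr ?_⟩
    simp only [map_smul, LinearMap.smul_apply, smul_eq_mul, ← hd]
    field_simp
    rw [hc]; ring

theorem exists_norm_one [Fintype F] (h2 : (2 : F) ≠ 0) {V : Type*} [AddCommGroup V] [Module F V]
    [FiniteDimensional F V] (B : LinearMap.BilinForm F V) (hS : B.IsSymm) (hB : B.Nondegenerate)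
    (hdim : 2 ≤ finrank F V) : ∃ u, B u u = 1 := by
  haveI : Nontrivial V := Module.nontrivial_of_finrank_pos (R := F) (by omega)
  obtain ⟨v, hv⟩ := exists_self_ne_zero h2 B hS hB
  have hv0 : v ≠ 0 := by
    rintro rfl; simp at hv
  set W := B.orthogonal (F ∙ v) with hW
  have hWnd : (B.restrict W).Nondegenerate :=
    restrict_nondegenerate_orthogonal_spanSingleton B hB hS.isRefl hv
  have hWdim : finrank F W = finrank F V - 1 := by
    rw [hW, finrank_orthogonal hB, finrank_span_singleton hv0]
  haveI : Nontrivial W := Module.nontrivial_of_finrank_pos (R := F) (by omega)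
  have hWS : (B.restrict W).IsSymm := ⟨fun x y => hS.eq x y⟩
  obtain ⟨w, hw⟩ := exists_self_ne_zero h2 (B.restrict W) hWS hWnd
  have hw' : B (w : V) (w : V) ≠ 0 := hw
  have hvw : B v (w : V) = 0 := by
    have : (w : V) ∈ B.orthogonal (F ∙ v) := w.2
    rw [mem_orthogonal_iff] at this
    exact this v (Submodule.mem_span_singleton_self v)
  set a := B v v with ha
  set b := B (w : V) (w : V) with hb
  -- solve a x² + b y² = 1
  have hcard : Fintype.card F % 2 = 1 := FiniteField.odd_card_of_char_ne_two (by
    intro h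
    haveI : CharP F 2 := ringChar.of_eq h
    exact h2 (CharTwo.two_eq_zero))
  obtain ⟨x, y, hxy⟩ := FiniteField.exists_root_sum_quadratic
    (f := Polynomial.C a * Polynomial.X ^ 2) (g := Polynomial.C b * Polynomial.X ^ 2 - Polynomial.C 1)
    (by rw [Polynomial.degree_C_mul_X_pow 2 hv]; rfl)
    (by
      rw [Polynomial.degree_sub_eq_left_of_degree_lt]
      · rw [Polynomial.degree_C_mul_X_pow 2 hw']; rfl
      · rw [Polynomial.degree_C_mul_X_pow 2 hw']
        exact lt_of_le_of_lt Polynomial.degree_C_le (by norm_num))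
    hcard
  simp only [Polynomial.eval_mul, Polynomial.eval_C, Polynomial.eval_pow, Polynomial.eval_X,
    Polynomial.eval_sub] at hxy
  refine ⟨x • v + y • (w : V), ?_⟩
  simp only [map_add, map_smul, LinearMap.add_apply, LinearMap.smul_apply, smul_eq_mul, hvw,
    hS.eq (w : V) v, ← ha, ← hb]
  linear_combination hxy

end

/-- the classification at the level of families of vectors -/
theorem families {F : Type*} [Field F] [Fintype F] (h2 : (2 : F) ≠ 0) (α : F) (hα : ¬ IsSquare α) :
    ∀ (n : ℕ) (V : Type*) [AddCommGroup V] [Module F V] [FiniteDimensional F V]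
      (B : LinearMap.BilinForm F V), B.IsSymm → B.Nondegenerate → finrank F V = n + 1 →
      ∃ b : Fin (n + 1) → V, (∀ i j, i ≠ j → B (b i) (b j) = 0) ∧ (∀ i, i ≠ Fin.last n → B (b i) (b i) = 1) ∧
        (B (b (Fin.last n)) (b (Fin.last n)) = 1 ∨ B (b (Fin.last n)) (b (Fin.last n)) = α) := by
  intro n
  induction n with
  | zero =>
    intro V _ _ _ B hS hB hdim
    haveI : Nontrivial V := Module.nontrivial_of_finrank_pos (R := F) (by omega)
    obtain ⟨v, hv⟩ := exists_self_ne_zero h2 B hS hB
    obtain ⟨s, hs⟩ := exists_normalised h2 B v hv α hα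
    haveI : Subsingleton (Fin (0 + 1)) := (inferInstance : Subsingleton (Fin 1))
    refine ⟨fun _ => s • v, ?_, ?_, ?_⟩
    · intro i j hij
      exact absurd (Subsingleton.elim i j) hij
    · intro i hi
      exact absurd (Subsingleton.elim i _) hi
    · exact hs
  | succ n ih =>
    intro V _ _ _ B hS hB hdim
    obtain ⟨u, hu⟩ := exists_norm_one h2 B hS hB (by omega)
    have hu' : B u u ≠ 0 := by rw [hu]; exact one_ne_zero
    have hu0 : u ≠ 0 := by
      rintro rfl; simp at hu'
    set W := B.orthogonal (F ∙ u) with hW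
    have hWnd : (B.restrict W).Nondegenerate :=
      restrict_nondegenerate_orthogonal_spanSingleton B hB hS.isRefl hu'
    have hWdim : finrank F W = n + 1 := by
      rw [hW, finrank_orthogonal hB, finrank_span_singleton hu0, hdim]; omega
    have hWS : (B.restrict W).IsSymm := ⟨fun x y => hS.eq x y⟩
    obtain ⟨b', hb1, hb2, hb3⟩ := ih W (B.restrict W) hWS hWnd hWdim
    have huW : ∀ w : W, B u (w : V) = 0 := by
      intro w
      have : (w : V) ∈ B.orthogonal (F ∙ u) := w.2
      rw [mem_orthogonal_iff] at this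
      exact this u (Submodule.mem_span_singleton_self u)
    refine ⟨Fin.cons u (fun i => (b' i : V)), ?_, ?_, ?_⟩
    · intro i j hij
      induction i using Fin.cases with
      | zero =>
        induction j using Fin.cases with
        | zero => exact absurd rfl hij
        | succ j => simp only [Fin.cons_zero, Fin.cons_succ]; exact huW _
      | succ i =>
        induction j using Fin.cases with
        | zero => simp only [Fin.cons_zero, Fin.cons_succ]; rw [hS.eq]; exact huW _
        | succ j =>
          simp only [Fin.cons_succ]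
          exact hb1 i j (fun h => hij (by rw [h]))
    · intro i hi
      induction i using Fin.cases with
      | zero => simpa using hu
      | succ i =>
        simp only [Fin.cons_succ]
        apply hb2 i
        intro h
        apply hi
        rw [h, Fin.succ_last]
    · rw [← Fin.succ_last]
      simp only [Fin.cons_succ]
      exact hb3

theorem result {F V : Type*} [Field F] [Finite F] [AddCommGroup V] [Module F V] [FiniteDimensional F V] (h2 : (2 : F) ≠ 0) (B : LinearMap.BilinForm F V) (hS : B.IsSymm) (hB : B.Nondegenerate) {n : ℕ} (hn : Module.finrank F V = n + 1) (α : F) (hα : ¬ IsSquare α) : ∃ b : Module.Basis (Fin (n + 1)) F V, (∀ i j, i ≠ j → B (b i) (b j) = 0) ∧ (∀ i, i ≠ Fin.last n → B (b i) (b i) = 1) ∧ (B (b (Fin.last n)) (b (Fin.last n)) = 1 ∨ B (b (Fin.last n)) (b (Fin.last n)) = α) := by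
  classical
  haveI : Fintype F := Fintype.ofFinite F
  obtain ⟨b, hb1, hb2, hb3⟩ := families h2 α hα n V B hS hB hn
  have hα0 : α ≠ 0 := by rintro rfl; exact hα (IsSquare.zero)
  have hnorm : ∀ i, B (b i) (b i) ≠ 0 := by
    intro i
    by_cases hi : i = Fin.last n
    · rw [hi]
      rcases hb3 with h | h
      · rw [h]; exact one_ne_zero
      · rw [h]; exact hα0
    · rw [hb2 i hi]; exact one_ne_zero
  have hli : LinearIndependent F b := by
    apply linearIndependent_of_iIsOrtho _ hnorm
    intro i j hij
    exact hb1 i j hij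
  have hcard : Fintype.card (Fin (n + 1)) = finrank F V := by
    rw [Fintype.card_fin, hn]
  refine ⟨basisOfLinearIndependentOfCardEqFinrank hli hcard, ?_⟩
  rw [coe_basisOfLinearIndependentOfCardEqFinrank]
  exact ⟨hb1, hb2, hb3⟩

end Cfsg.Agent.S0756
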