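-- Statement S0790
import Cfsg.Statements.S0790
import Mathlib
import Cfsg.Agent.Lib.Helper14.OrthoLevel

set_option autoImplicit false
open Cfsg

namespace Cfsg.Agent.S0790

open Matrix Cfsg.Agent.Lib.Helper14 Cfsg.Agent.S2235

/-- transfer of `-1 ∈ Ω` along an isometry of coordinate spaces -/
theorem neg_one_transfer {F : Type*} [Field F] {ι ι' : Type} [Fintype ι] [DecidableEq ι]
    [Fintype ι'] [DecidableEq ι'] (Q : (ι → F) → F) (Q' : (ι' → F) → F)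
    (L : (ι → F) ≃ₗ[F] (ι' → F)) (hL : ∀ w, Q' (L w) = 1 * Q w)
    (x : Cfsg.isometryGroup F Q) (hx : ((x.1 : GL ι F) : Matrix ι ι F) = -1)
    (hxmem : x ∈ Cfsg.Omega F Q) :
    ∃ y : Cfsg.isometryGroup F Q', y ∈ Cfsg.Omega F Q' ∧
      ((y.1 : GL ι' F) : Matrix ι' ι' F) = -1 := by
  refine ⟨isoCongr Q Q' L 1 hL x, ?_, ?_⟩
  · exact (commMap (isoCongr Q Q' L 1 hL) ⟨x, hxmem⟩).2
  · change (matCongr L ((x.1 : GL ι F) : Matrix ι ι F)) = -1
    rw [hx, map_neg, map_one]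

/-- −1 ∈ Ω⁺_2m(q) iff q^m ≡ 1 (mod 4), for q odd and m ≥ 1 (so that in the other case SO⁺_2m(q) = 2 × Ω⁺_2m(q)). -/
theorem result {F : Type*} [Field F] [Fintype F] {q : ℕ} (hF : Fintype.card F = q) (hodd : Odd q) (m : ℕ) (hm : 1 ≤ m) : (∃ g : ↥(Cfsg.isometryGroup F (Cfsg.quadFormPlus m F)), g ∈ Cfsg.Omega F (Cfsg.quadFormPlus m F) ∧ ((g : Matrix.GeneralLinearGroup (Fin m ⊕ Fin m) F) : Matrix (Fin m ⊕ Fin m) (Fin m ⊕ Fin m) F) = -1) ↔ q ^ m % 4 = 1 := by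
  classical
  subst hF
  have h2 := two_ne_zero_of_odd hodd
  have hqm : Odd (Fintype.card F ^ m) := hodd.pow
  constructor
  · rintro ⟨g, hgmem, hg⟩
    by_contra hne
    have hq3 : Fintype.card F ^ m % 4 = 3 := by
      rcases Nat.odd_iff.mp hqm with h
      omega
    exact neg_one_not_mem_Omega h2 _ (by unfold Cfsg.quadFormPlus; simp) 1 one_ne_zero
      (card_level_plus m hodd hq3 1 one_ne_zero) g hg hgmem
  · intro hq
    obtain ⟨L, hL⟩ := exists_Nf_plus (F := F) m hm hodd hq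
    obtain ⟨x, hx, hxmem⟩ := neg_one_mem_Omega_Nf (F := F) (κ := Fin (2 * m - 1))
      (by rw [Fintype.card_fin, Nat.odd_iff]; omega)
    exact neg_one_transfer _ _ L (fun w => by rw [one_mul, hL w]) x hx hxmem

end Cfsg.Agent.S0790
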