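-- Statement S2610
import Cfsg.Statements.S2610
import Mathlib
import Cfsg.Agent.Lib.Helper6.Spinor3

set_option autoImplicit false
open Cfsg

namespace Cfsg.Agent.S2610

open Cfsg.Agent.Lib.Helper6 Matrix

section
variable {F : Type*} [Field F] {n : ℕ} (Q : QuadraticForm F (Fin n → F))

theorem polarBilin_isSymm : LinearMap.IsSymm (QuadraticMap.polarBilin Q) := by
  constructor
  intro x y
  simp only [QuadraticMap.polarBilin_apply_apply, RingHom.id_apply]
  exact QuadraticMap.polar_comm _ _ _

/-- an orthogonal basis -/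
theorem exists_orth_basis (h2 : (2 : F) ≠ 0) (hQ : (QuadraticMap.polarBilin Q).Nondegenerate) :
    ∃ v : Module.Basis (Fin n) F (Fin n → F),
      (∀ i j, i ≠ j → QuadraticMap.polar ⇑Q (v i) (v j) = 0) ∧ ∀ i, Q (v i) ≠ 0 := by
  haveI : Invertible (2 : F) := invertibleOfNonzero h2
  obtain ⟨v, hv⟩ := LinearMap.BilinForm.exists_orthogonal_basis (polarBilin_isSymm Q)
  rw [LinearMap.isOrthoᵢ_def] at hv
  have hfr : Module.finrank F (Fin n → F) = n := Module.finrank_fin_fun F
  set w : Module.Basis (Fin n) F (Fin n → F) := v.reindex (finCongr hfr) with hw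
  have hw1 : ∀ i j, i ≠ j → QuadraticMap.polar ⇑Q (w i) (w j) = 0 := by
    intro i j hij
    rw [hw, Module.Basis.reindex_apply, Module.Basis.reindex_apply]
    exact hv _ _ (fun h => hij ((finCongr hfr).symm.injective h))
  refine ⟨w, hw1, ?_⟩
  intro i hi
  have h0 : QuadraticMap.polarBilin Q (w i) = 0 := by
    apply w.ext
    intro j
    rw [QuadraticMap.polarBilin_apply_apply, LinearMap.zero_apply]
    by_cases hij : i = j
    · subst hij
      rw [QuadraticMap.polar_self, hi, smul_zero]
    · exact hw1 i j hij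
  have : w i = 0 := by
    apply hQ.1
    intro y
    rw [h0, LinearMap.zero_apply]
  exact w.ne_zero i this

/-- the product of the reflections in an orthogonal basis is `-1` -/
theorem prod_refl_basis (h2 : (2 : F) ≠ 0) (v : Module.Basis (Fin n) F (Fin n → F))
    (hv : ∀ i j, i ≠ j → QuadraticMap.polar ⇑Q (v i) (v j) = 0) (hQv : ∀ i, Q (v i) ≠ 0) :
    ((List.finRange n).map (fun i => Cfsg.reflectionMatrix ⇑Q (v i))).prod = -1 := by
  have key : ∀ l : List (Fin n), l.Nodup → ∀ j,
      (l.map (fun i => Cfsg.reflectionMatrix ⇑Q (v i))).prod *ᵥ (v j) =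
        if j ∈ l then -v j else v j := by
    intro l
    induction l with
    | nil => intro _ j; simp
    | cons i l ih =>
      intro hnd j
      rw [List.nodup_cons] at hnd
      rw [List.map_cons, List.prod_cons, ← Matrix.mulVec_mulVec, ih hnd.2 j]
      by_cases hji : j = i
      · subst hji
        rw [if_neg hnd.1, if_pos List.mem_cons_self, reflectionMatrix_mulVec,
          QuadraticMap.polar_self]
        have : (Q (v j))⁻¹ * (2 • Q (v j)) = 2 := by
          rw [nsmul_eq_mul]
          field_simp [hQv j]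
          norm_num
        rw [this, two_smul]
        abel
      · have hmem : j ∈ i :: l ↔ j ∈ l := by
          rw [List.mem_cons]
          exact ⟨fun h => h.resolve_left hji, Or.inr⟩
        by_cases hjl : j ∈ l
        · rw [if_pos hjl, if_pos (hmem.mpr hjl), reflectionMatrix_mulVec,
            QuadraticMap.polar_neg_right, hv i j (Ne.symm hji)]
          simp
        · rw [if_neg hjl, if_neg (fun h => hjl (hmem.mp h)), reflectionMatrix_mulVec,
            hv i j (Ne.symm hji)]
          simp
  apply Matrix.toLin'.injective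
  apply v.ext
  intro j
  rw [Matrix.toLin'_apply, Matrix.toLin'_apply, key _ (List.nodup_finRange n) j,
    if_pos (List.mem_finRange j), Matrix.neg_mulVec, Matrix.one_mulVec]

/-- the discriminant in terms of an orthogonal basis -/
theorem disc_eq (v : Module.Basis (Fin n) F (Fin n → F))
    (hv : ∀ i j, i ≠ j → QuadraticMap.polar ⇑Q (v i) (v j) = 0) :
    ∃ d : F, d ≠ 0 ∧ d ^ 2 * (Matrix.of (fun i j : Fin n =>
      QuadraticMap.polar ⇑Q (Pi.single i 1) (Pi.single j 1))).det = 2 ^ n * ∏ i, Q (v i) := by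
  classical
  set P := (Pi.basisFun F (Fin n)).toMatrix ⇑v with hP
  have h1 := LinearMap.BilinForm.toMatrix_mul_basis_toMatrix (Pi.basisFun F (Fin n)) v
    (QuadraticMap.polarBilin Q)
  rw [LinearMap.BilinForm.toMatrix_basisFun] at h1
  have h3 : LinearMap.BilinForm.toMatrix' (QuadraticMap.polarBilin Q) = Matrix.of (fun i j : Fin n =>
      QuadraticMap.polar ⇑Q (Pi.single i 1) (Pi.single j 1)) := by
    ext i j
    rw [LinearMap.BilinForm.toMatrix'_apply, QuadraticMap.polarBilin_apply_apply]
    rfl
  have h4 : LinearMap.BilinForm.toMatrix v (QuadraticMap.polarBilin Q) =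
      Matrix.diagonal (fun i => 2 * Q (v i)) := by
    ext i j
    rw [LinearMap.BilinForm.toMatrix_apply, QuadraticMap.polarBilin_apply_apply]
    by_cases hij : i = j
    · subst hij
      rw [Matrix.diagonal_apply_eq, QuadraticMap.polar_self, nsmul_eq_mul]
      norm_num
    · rw [Matrix.diagonal_apply_ne _ hij]
      exact hv i j hij
  rw [h3, h4] at h1
  have h5 := congrArg Matrix.det h1
  rw [Matrix.det_mul, Matrix.det_mul, Matrix.det_transpose, Matrix.det_diagonal,
    Finset.prod_mul_distrib, Finset.prod_const, Finset.card_univ, Fintype.card_fin] at h5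
  refine ⟨P.det, ?_, ?_⟩
  · intro h0
    have h6 := congrArg Matrix.det (Module.Basis.toMatrix_mul_toMatrix_flip (Pi.basisFun F (Fin n)) v)
    rw [Matrix.det_mul, Matrix.det_one, ← hP, h0, zero_mul] at h6
    exact zero_ne_one h6
  · rw [← h5]
    ring

end

/-- For a quadratic form Q on F^n with non-degenerate polar form, F finite of odd order and n ≥ 2 even, the isometry −1 lies in Ω (the commutator subgroup of the orthogonal group) if and only if the discriminant of Q (the determinant of the Gram matrix of its polar form) is a square. -/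
theorem result {F : Type*} [Field F] [Fintype F] (h2 : (2 : F) ≠ 0) {n : ℕ} (hn : 2 ≤ n) (he : Even n) (Q : QuadraticForm F (Fin n → F)) (hQ : (QuadraticMap.polarBilin Q).Nondegenerate) : (∃ g : ↥(Cfsg.isometryGroup F ⇑Q), g ∈ Cfsg.Omega F ⇑Q ∧ ((g : Matrix.GeneralLinearGroup (Fin n) F) : Matrix (Fin n) (Fin n) F) = -1) ↔ IsSquare (Matrix.of (fun i j : Fin n => QuadraticMap.polar ⇑Q (Pi.single i 1) (Pi.single j 1))).det := by
  classical
  obtain ⟨v, hv, hQv⟩ := exists_orth_basis Q h2 hQ
  obtain ⟨d, hd, hdisc⟩ := disc_eq Q v hv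
  have hprod := prod_refl_basis Q h2 v hv hQv
  set vs : List (Fin n → F) := (List.finRange n).map v with hvs
  have hvs0 : ∀ w ∈ vs, Q w ≠ 0 := by
    intro w hw
    obtain ⟨i, -, rfl⟩ := List.mem_map.mp hw
    exact hQv i
  have hmat : (vs.map (fun w => Cfsg.reflectionMatrix ⇑Q w)).prod = -1 := by
    rw [hvs, List.map_map]
    exact hprod
  have hlen : vs.length = n := by rw [hvs, List.length_map, List.length_finRange]
  have hnorm : (vs.map (fun w => Q w)).prod = ∏ i, Q (v i) := by
    rw [hvs, List.map_map, Fin.prod_univ_def]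
    rfl
  obtain ⟨k, hk⟩ := he
  have hsq : IsSquare (∏ i, Q (v i)) ↔ IsSquare (Matrix.of (fun i j : Fin n =>
      QuadraticMap.polar ⇑Q (Pi.single i 1) (Pi.single j 1))).det := by
    have h2k : (2 : F) ^ k ≠ 0 := pow_ne_zero _ h2
    constructor
    · rintro ⟨r, hr⟩
      refine ⟨2 ^ k * r / d, ?_⟩
      field_simp
      rw [mul_comm, hdisc, hr, hk]
      ring
    · rintro ⟨r, hr⟩
      refine ⟨r * d / 2 ^ k, ?_⟩
      field_simp
      have : (2 : F) ^ n = (2 ^ k) ^ 2 := by rw [hk]; ring
      rw [mul_comm, ← this, ← hdisc, hr]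
      ring
  rw [← hsq, ← hnorm]
  constructor
  · rintro ⟨g, hgmem, hg⟩
    exact ((mem_Omega_iff_list Q h2 hQ hn g vs hvs0 (by rw [hmat]; exact hg)).mp hgmem).2
  · intro h
    obtain ⟨g, hg⟩ := exists_of_list' Q vs hvs0
    refine ⟨g, ?_, by rw [hg, hmat]⟩
    rw [mem_Omega_iff_list Q h2 hQ hn g vs hvs0 hg, hlen]
    exact ⟨⟨k, hk⟩, h⟩

end Cfsg.Agent.S2610
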