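import Cfsg.Statements.S5080
import Cfsg.Agent.H26.Fusion
import Cfsg.Agent.H26.StronglyEmbedded

set_option autoImplicit false
open Cfsg

namespace Cfsg.Agent.S5080

open Cfsg.Agent.H26

/-- In a saturated fusion system over a finite p-group, every essential subgroup is radical (it is centric and fully normalized by definition, so it is centric-radical and fully normalized). -/
theorem result {Ω : Type*} [Group Ω] {S : Subgroup Ω} [Finite S] (p : ℕ) [Fact p.Prime] (hS : IsPGroup p S) (F : Cfsg.FusionSystem S) (hF : F.IsSaturated p) (P : Subgroup Ω) (hP : F.IsEssential p P) : F.IsRadical p P := by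
  obtain ⟨hcen, hfn, hnorm, E, hE⟩ := hP
  have hPS : P ≤ S := hcen.1
  refine ⟨hPS, ?_⟩
  set A := F.autGroup P with hA
  set I := (Cfsg.Inn P).subgroupOf A with hI
  -- Inn P ≤ A
  have hInnA : Cfsg.Inn P ≤ A := by
    rintro _ ⟨g, rfl⟩
    apply Subgroup.subset_closure
    show P.subtype.comp (MulAut.conj g).toMonoidHom ∈ F.Hom P
    have h1 : Cfsg.conjHom P (g : Ω) ∈ F.Hom P := F.conj_mem hPS (hPS g.2)
    convert h1 using 1
    ext x
    simp [Cfsg.conjHom, MulAut.conj_apply]
  have hPp : IsPGroup p P := hS.to_le hPS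
  have hInnp : IsPGroup p (Cfsg.Inn P) :=
    hPp.of_surjective (MulAut.conj : P →* MulAut P).rangeRestrict (MonoidHom.rangeRestrict_surjective _)
  have hIp : IsPGroup p I := hInnp.comap_of_injective A.subtype Subtype.coe_injective
  have hImap : I.map A.subtype = Cfsg.Inn P := by
    rw [hI, Subgroup.subgroupOf_map_subtype, inf_eq_left.mpr hInnA]
  apply le_antisymm
  · -- pCore ≤ I
    have hcore : Cfsg.pCore p A ≤ I := by
      apply sSup_le
      rintro N ⟨hN, hNp⟩
      have hbar : N.map (QuotientGroup.mk' I) = ⊥ := by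
        apply normal_pSubgroup_eq_bot_of_stronglyPEmbedded hE
        · exact hN.map _ (QuotientGroup.mk'_surjective I)
        · exact hNp.map _
      intro n hn
      have : QuotientGroup.mk' I n ∈ N.map (QuotientGroup.mk' I) := ⟨n, hn, rfl⟩
      rw [hbar, Subgroup.mem_bot, QuotientGroup.mk'_apply, QuotientGroup.eq_one_iff] at this
      exact this
    rw [← hImap]
    exact Subgroup.map_mono hcore
  · rw [← hImap]
    apply Subgroup.map_mono
    exact le_sSup ⟨hnorm, hIp⟩

end Cfsg.Agent.S5080
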