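import Cfsg.Statements.S5082
import Cfsg.Agent.H26.Essential

set_option autoImplicit false
open Cfsg

namespace Cfsg.Agent.S5082

open Cfsg.Agent.H26 Cfsg.FusionSystem Cfsg.Agent.Lib.Helper27

/-- Alperin–Goldschmidt fusion Theorem for fusion systems: a saturated fusion system F over a finite p-group S is generated by the automorphism groups Aut_F(P) for P = S and for P essential — every fusion system over S whose automorphism groups of these subgroups contain those of F contains every map of F. -/
theorem result {Ω : Type*} [Group Ω] {S : Subgroup Ω} [Finite S] (p : ℕ) [Fact p.Prime] (hS : IsPGroup p S) (F : Cfsg.FusionSystem S) (hF : F.IsSaturated p) (E : Cfsg.FusionSystem S) (hE : ∀ P : Subgroup Ω, (P = S ∨ F.IsEssential p P) → F.autGroup P ≤ E.autGroup P) : F ≤ E := by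
  show ∀ P : Subgroup Ω, F.Hom P ⊆ E.Hom P
  apply alperin_strong hS hF E
  · intro α hα
    have := hE S (Or.inl rfl) ((mem_autGroup_iff F le_rfl α).mpr hα)
    exact (mem_autGroup_iff E le_rfl α).mp this
  · intro R hRlt hfn hc hr IH α hα
    by_cases hess : F.IsEssential p R
    · have := hE R (Or.inr hess) ((mem_autGroup_iff F hRlt.le α).mpr hα)
      exact (mem_autGroup_iff E hRlt.le α).mp this
    · have hI := inn_subgroupOf_normal F R
      refine isIso_of_no_spe hS hF hRlt hfn hc IH hI ?_ α hα
      intro Y hY
      exact hess ⟨hc, hfn, hI, Y, hY⟩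

end Cfsg.Agent.S5082
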