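import Cfsg.Statements.S5087
import Cfsg.Agent.H26.Essential
import Cfsg.Agent.S5080
import Cfsg.Agent.S5082
import Cfsg.Agent.S5086

set_option autoImplicit false
open Cfsg

namespace Cfsg.Agent.S5087

open Cfsg.Agent.H26 Cfsg.FusionSystem Cfsg.Agent.Lib.Helper27

/-- The subsystem of maps preserving membership in `Q` (in both directions). -/
def preservingSystem {Ω : Type*} [Group Ω] {S : Subgroup Ω} (F : Cfsg.FusionSystem S) (Q : Subgroup Ω)
    (hQn : ∀ g ∈ S, ∀ x : Ω, x ∈ Q ↔ g * x * g⁻¹ ∈ Q) : Cfsg.FusionSystem S where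
  Hom P := {φ | φ ∈ F.Hom P ∧ ∀ x : P, (x : Ω) ∈ Q ↔ φ x ∈ Q}
  le_of_mem h := F.le_of_mem h.1
  injective_of_mem h := F.injective_of_mem h.1
  conj_mem := by
    intro P g hP hg
    exact ⟨F.conj_mem hP hg, fun x => hQn g hg x⟩
  comp_mem := by
    rintro P P' φ φ' ⟨hφ, hφQ⟩ ⟨hφ', hφ'Q⟩ h
    refine ⟨F.comp_mem hφ hφ' h, fun x => ?_⟩
    rw [hφQ x]
    exact hφ'Q ⟨φ x, h x⟩
  inv_mem := by
    rintro P φ ⟨hφ, hφQ⟩
    obtain ⟨ψ, hψ, hinv⟩ := F.inv_mem hφ
    refine ⟨ψ, ⟨hψ, ?_⟩, hinv⟩
    rintro ⟨_, x, rfl⟩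
    rw [hinv x]
    exact (hφQ x).symm

theorem map_eq_iff_mem {Ω : Type*} [Group Ω] {P Q : Subgroup Ω} [Finite P] (α : MulAut P)
    (h : (Q.subgroupOf P).map α.toMonoidHom = Q.subgroupOf P) (x : P) :
    (x : Ω) ∈ Q ↔ ((α x : P) : Ω) ∈ Q := by
  constructor
  · intro hx
    have : α x ∈ (Q.subgroupOf P).map α.toMonoidHom := ⟨x, Subgroup.mem_subgroupOf.mpr hx, rfl⟩
    rw [h] at this
    exact Subgroup.mem_subgroupOf.mp this
  · intro hx
    have h1 : α x ∈ Q.subgroupOf P := Subgroup.mem_subgroupOf.mpr hx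
    rw [← h] at h1
    obtain ⟨y, hy, hyx⟩ := h1
    have : y = x := α.injective hyx
    rw [← this]
    exact Subgroup.mem_subgroupOf.mp hy

/-- In a saturated fusion system over a finite p-group S, a subgroup Q is normal in the system if and only if every subgroup P that equals S or is essential contains Q and every element of Aut_F(P) maps Q onto itself. -/
theorem result {Ω : Type*} [Group Ω] {S : Subgroup Ω} [Finite S] (p : ℕ) [Fact p.Prime] (hS : IsPGroup p S) (F : Cfsg.FusionSystem S) (hF : F.IsSaturated p) (Q : Subgroup Ω) : F.IsNormal Q ↔ ∀ P : Subgroup Ω, (P = S ∨ F.IsEssential p P) → (Q ≤ P ∧ ∀ α ∈ F.autGroup P, (Q.subgroupOf P).map α.toMonoidHom = Q.subgroupOf P) := by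
  constructor
  · intro hQ P hP
    have hsc := normal_stronglyClosed hQ
    have hQP : Q ≤ P := by
      rcases hP with rfl | hess
      · exact hQ.1
      · exact Cfsg.Agent.S5086.normal_le_centric_radical hS hQ hess.1
          (Cfsg.Agent.S5080.result p hS F hF P hess)
    have hPS : P ≤ S := by
      rcases hP with rfl | hess
      · exact le_rfl
      · exact hess.1.1
    refine ⟨hQP, fun α hα => ?_⟩
    have hiso : IsIso F (α : P ≃* P) := (mem_autGroup_iff F hPS α).mp hα
    have h1 := stronglyClosed_map_eq' hsc hQP hiso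
    apply Subgroup.map_injective P.subtype_injective
    rw [Subgroup.map_map, Subgroup.subgroupOf_map_subtype, inf_eq_left.mpr hQP]
    exact h1
  · intro H
    have hQS : Q ≤ S := (H S (Or.inl rfl)).1
    -- Q is normalized by S
    have hQn : ∀ g ∈ S, ∀ x : Ω, x ∈ Q ↔ g * x * g⁻¹ ∈ Q := by
      intro g hg x
      have hcg : conjAutHom S S ⟨g, ⟨hg, Subgroup.le_normalizer hg⟩⟩ ∈ F.autGroup S := by
        apply autInducedBy_le_autGroup F le_rfl
        rw [← conjAutHom_range]; exact ⟨_, rfl⟩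
      have h1 := (H S (Or.inl rfl)).2 _ hcg
      constructor
      · intro hx
        exact (map_eq_iff_mem _ h1 ⟨x, hQS hx⟩).mp hx
      · intro hx
        have hxS : x ∈ S := by
          have h2 : g⁻¹ * (g * x * g⁻¹) * g ∈ S :=
            S.mul_mem (S.mul_mem (S.inv_mem hg) (hQS hx)) hg
          have e : g⁻¹ * (g * x * g⁻¹) * g = x := by group
          rwa [e] at h2
        exact (map_eq_iff_mem _ h1 ⟨x, hxS⟩).mpr hx
    -- Step 1: strongly closed
    have hFE₁ : F ≤ preservingSystem F Q hQn := by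
      apply Cfsg.Agent.S5082.result p hS F hF
      intro P hP α hα
      have hPS : P ≤ S := by
        rcases hP with rfl | hess
        · exact le_rfl
        · exact hess.1.1
      haveI : Finite P := Finite.of_injective (Subgroup.inclusion hPS) (Subgroup.inclusion_injective hPS)
      rw [mem_autGroup_iff _ hPS]
      have hiso : IsIso F (α : P ≃* P) := (mem_autGroup_iff F hPS α).mp hα
      exact ⟨hiso, fun x => map_eq_iff_mem α ((H P hP).2 α hα) x⟩
    have hsc : F.StronglyClosed Q := by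
      refine ⟨hQS, fun R hR φ hφ x => ?_⟩
      exact ((hFE₁ R hφ).2 x).mp (hR x.2)
    -- Step 2
    apply isNormal_of_le_normalizerSystemTop hsc
    apply Cfsg.Agent.S5082.result p hS F hF
    intro P hP α hα
    have hPS : P ≤ S := by
      rcases hP with rfl | hess
      · exact le_rfl
      · exact hess.1.1
    rw [mem_autGroup_iff _ hPS]
    have hiso : IsIso F (α : P ≃* P) := (mem_autGroup_iff F hPS α).mp hα
    have hle : P ⊔ Q ≤ P := sup_le le_rfl (H P hP).1
    exact ⟨hiso, _, hom_restrict F hle hiso, fun x => rfl⟩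

end Cfsg.Agent.S5087
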