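import Mathlib
import Cfsg.Statements.S3660

set_option autoImplicit false
open Cfsg

namespace Cfsg.Agent.S3660

open Matrix

universe u

section Construction

variable (F : Type u) [Field F] (k : ℕ)

/-- The normal subgroup: `k` copies of the natural module, written multiplicatively. -/
abbrev EV := Multiplicative (Fin k → Fin 2 → F)

/-- Diagonal action of a matrix on `k` vectors. -/
def act (A : Matrix (Fin 2) (Fin 2) F) (w : Fin k → Fin 2 → F) : Fin k → Fin 2 → F :=
  fun i => A *ᵥ w i

variable {F k}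

theorem act_one (w : Fin k → Fin 2 → F) : act F k 1 w = w := by
  funext i; simp [act]

theorem act_mul (A B : Matrix (Fin 2) (Fin 2) F) (w : Fin k → Fin 2 → F) :
    act F k (A * B) w = act F k A (act F k B w) := by
  funext i; simp only [act, Matrix.mulVec_mulVec]

theorem act_add (A : Matrix (Fin 2) (Fin 2) F) (w w' : Fin k → Fin 2 → F) :
    act F k A (w + w') = act F k A w + act F k A w' := by
  funext i; simp [act, Matrix.mulVec_add]

theorem act_zero_left (w : Fin k → Fin 2 → F) : act F k 0 w = 0 := by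
  funext i; simp [act]

theorem act_add_left (A B : Matrix (Fin 2) (Fin 2) F) (w : Fin k → Fin 2 → F) :
    act F k (A + B) w = act F k A w + act F k B w := by
  funext i; simp [act, Matrix.add_mulVec]

variable (F k)

/-- The action of `SL₂(F)` on `EV` by automorphisms. -/
def phi : SpecialLinearGroup (Fin 2) F →* MulAut (EV F k) where
  toFun A :=
    { toFun := fun w => Multiplicative.ofAdd (act F k (A : Matrix (Fin 2) (Fin 2) F) (Multiplicative.toAdd w))
      invFun := fun w => Multiplicative.ofAdd (act F k ((A⁻¹ : SpecialLinearGroup (Fin 2) F) : Matrix (Fin 2) (Fin 2) F) (Multiplicative.toAdd w))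
      left_inv := by
        intro w
        show Multiplicative.ofAdd (act F k ((A⁻¹ : SpecialLinearGroup (Fin 2) F) : Matrix (Fin 2) (Fin 2) F) (act F k (A : Matrix (Fin 2) (Fin 2) F) (Multiplicative.toAdd w))) = w
        rw [← act_mul, ← Matrix.SpecialLinearGroup.coe_mul, inv_mul_cancel, Matrix.SpecialLinearGroup.coe_one,
          act_one]
        rfl
      right_inv := by
        intro w
        show Multiplicative.ofAdd (act F k (A : Matrix (Fin 2) (Fin 2) F) (act F k ((A⁻¹ : SpecialLinearGroup (Fin 2) F) : Matrix (Fin 2) (Fin 2) F) (Multiplicative.toAdd w))) = w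
        rw [← act_mul, ← Matrix.SpecialLinearGroup.coe_mul, mul_inv_cancel, Matrix.SpecialLinearGroup.coe_one,
          act_one]
        rfl
      map_mul' := by
        intro w w'
        show Multiplicative.ofAdd (act F k (A : Matrix (Fin 2) (Fin 2) F) (Multiplicative.toAdd w + Multiplicative.toAdd w'))
          = _
        rw [act_add]
        rfl }
  map_one' := by
    apply MulEquiv.ext
    intro w
    show Multiplicative.ofAdd (act F k ((1 : SpecialLinearGroup (Fin 2) F) : Matrix (Fin 2) (Fin 2) F)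
      (Multiplicative.toAdd w)) = w
    rw [Matrix.SpecialLinearGroup.coe_one, act_one]
    rfl
  map_mul' := by
    intro A B
    apply MulEquiv.ext
    intro w
    show Multiplicative.ofAdd (act F k ((A * B : SpecialLinearGroup (Fin 2) F) : Matrix (Fin 2) (Fin 2) F) (Multiplicative.toAdd w)) =
      Multiplicative.ofAdd (act F k (A : Matrix (Fin 2) (Fin 2) F) (act F k (B : Matrix (Fin 2) (Fin 2) F) (Multiplicative.toAdd w)))
    rw [Matrix.SpecialLinearGroup.coe_mul, act_mul]

/-- The group `V^k ⋊ SL₂(F)`. -/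
abbrev HG := EV F k ⋊[phi F k] SpecialLinearGroup (Fin 2) F

variable {F k}

theorem phi_apply (A : SpecialLinearGroup (Fin 2) F) (w : EV F k) :
    phi F k A w = Multiplicative.ofAdd (act F k (A : Matrix (Fin 2) (Fin 2) F) (Multiplicative.toAdd w)) := rfl

/-- Powers in the semidirect product. -/
theorem pow_eq (w : EV F k) (A : SpecialLinearGroup (Fin 2) F) (m : ℕ) :
    ((⟨w, A⟩ : HG F k) ^ m) =
      ⟨Multiplicative.ofAdd (act F k (∑ j ∈ Finset.range m, (A : Matrix (Fin 2) (Fin 2) F) ^ j) (Multiplicative.toAdd w)),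
        A ^ m⟩ := by
  induction m with
  | zero =>
    simp only [pow_zero, Finset.range_zero, Finset.sum_empty, act_zero_left]
    rfl
  | succ m ih =>
    rw [pow_succ, ih]
    apply SemidirectProduct.ext
    · rw [SemidirectProduct.mul_left]
      show Multiplicative.ofAdd _ * phi F k (A ^ m) w = _
      rw [phi_apply, Finset.sum_range_succ, act_add_left, Matrix.SpecialLinearGroup.coe_pow]
      rfl
    · rw [SemidirectProduct.mul_right, pow_succ]

end Construction

section Char2

variable {F : Type u} [Field F] [CharP F 2]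

/-- In characteristic `2`, an element of `SL₂` with trace zero squares to the identity. -/
theorem sq_eq_one_of_trace_eq_zero (A : SpecialLinearGroup (Fin 2) F)
    (ht : (A : Matrix (Fin 2) (Fin 2) F) 0 0 + (A : Matrix (Fin 2) (Fin 2) F) 1 1 = 0) :
    A ^ 2 = 1 := by
  have hdet := A.2
  rw [Matrix.det_fin_two] at hdet
  have h2 : (2 : F) = 0 := by
    have := CharP.cast_eq_zero F 2
    exact_mod_cast this
  apply Subtype.ext
  rw [Matrix.SpecialLinearGroup.coe_pow, Matrix.SpecialLinearGroup.coe_one, pow_two]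
  ext i j
  fin_cases i <;> fin_cases j <;>
    simp only [Matrix.mul_apply, Fin.sum_univ_two, Matrix.one_apply_eq, Matrix.one_apply_ne,
      Fin.zero_eta, Fin.mk_one, ne_eq, zero_ne_one, one_ne_zero, not_false_eq_true, Fin.isValue]
  · linear_combination ((A : Matrix (Fin 2) (Fin 2) F) 0 0) * ht - hdet - h2
  · linear_combination ((A : Matrix (Fin 2) (Fin 2) F) 0 1) * ht
  · linear_combination ((A : Matrix (Fin 2) (Fin 2) F) 1 0) * ht
  · linear_combination ((A : Matrix (Fin 2) (Fin 2) F) 1 1) * ht - hdet - h2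

/-- In characteristic `2`, `det (A - 1)` is the trace of `A ∈ SL₂`. -/
theorem det_sub_one (A : SpecialLinearGroup (Fin 2) F) :
    ((A : Matrix (Fin 2) (Fin 2) F) - 1).det =
      (A : Matrix (Fin 2) (Fin 2) F) 0 0 + (A : Matrix (Fin 2) (Fin 2) F) 1 1 := by
  have hdet := A.2
  rw [Matrix.det_fin_two] at hdet
  have h2 : (2 : F) = 0 := by
    have := CharP.cast_eq_zero F 2
    exact_mod_cast this
  rw [Matrix.det_fin_two]
  simp only [Matrix.sub_apply, Matrix.one_apply_eq, Matrix.one_apply_ne, ne_eq, zero_ne_one,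
    one_ne_zero, not_false_eq_true, sub_zero, Fin.isValue]
  linear_combination hdet + (1 - (A : Matrix (Fin 2) (Fin 2) F) 0 0 -
    (A : Matrix (Fin 2) (Fin 2) F) 1 1) * h2

/-- The geometric sum of a nontrivial element of odd prime order vanishes. -/
theorem geom_sum_eq_zero (A : SpecialLinearGroup (Fin 2) F) (hA : A ≠ 1) {p : ℕ} (hp : p.Prime)
    (hp2 : p ≠ 2) (hAp : A ^ p = 1) :
    ∑ j ∈ Finset.range p, (A : Matrix (Fin 2) (Fin 2) F) ^ j = 0 := by
  have ht : (A : Matrix (Fin 2) (Fin 2) F) 0 0 + (A : Matrix (Fin 2) (Fin 2) F) 1 1 ≠ 0 := by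
    intro ht
    have h2 := sq_eq_one_of_trace_eq_zero A ht
    have h3 : orderOf A ∣ Nat.gcd 2 p :=
      Nat.dvd_gcd (orderOf_dvd_of_pow_eq_one h2) (orderOf_dvd_of_pow_eq_one hAp)
    have h4 : Nat.gcd 2 p = 1 := by
      rw [Nat.gcd_comm]
      exact (Nat.coprime_primes hp Nat.prime_two).mpr hp2
    rw [h4, Nat.dvd_one, orderOf_eq_one_iff] at h3
    exact hA h3
  have hunit : IsUnit ((A : Matrix (Fin 2) (Fin 2) F) - 1).det := by
    rw [det_sub_one]; exact isUnit_iff_ne_zero.mpr ht
  have h1 := geom_sum_mul (A : Matrix (Fin 2) (Fin 2) F) p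
  have h5 : (A : Matrix (Fin 2) (Fin 2) F) ^ p = 1 := by
    rw [← Matrix.SpecialLinearGroup.coe_pow, hAp, Matrix.SpecialLinearGroup.coe_one]
  rw [h5, sub_self] at h1
  have h6 := congrArg (fun M => M * ((A : Matrix (Fin 2) (Fin 2) F) - 1)⁻¹) h1
  simp only [zero_mul] at h6
  rwa [Matrix.mul_nonsing_inv_cancel_right _ _ hunit] at h6

end Char2

section Props

variable {F : Type u} [Field F] [CharP F 2] {k : ℕ}

theorem char_two : (2 : F) = 0 := by
  have := CharP.cast_eq_zero F 2
  exact_mod_cast this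

theorem eta (h : HG F k) : h = ⟨h.left, h.right⟩ := rfl

/-- If the `SL₂`-part squares to one then the fourth power is trivial. -/
theorem pow_four_eq_one (h : HG F k) (hA : h.right ^ 2 = 1) : h ^ 4 = 1 := by
  rw [eta h, pow_eq]
  have hA' : (h.right : Matrix (Fin 2) (Fin 2) F) ^ 2 = 1 := by
    rw [← Matrix.SpecialLinearGroup.coe_pow, hA, Matrix.SpecialLinearGroup.coe_one]
  have hsum : ∑ j ∈ Finset.range 4, (h.right : Matrix (Fin 2) (Fin 2) F) ^ j = 0 := by
    have h3 : (h.right : Matrix (Fin 2) (Fin 2) F) ^ 3 = (h.right : Matrix (Fin 2) (Fin 2) F) := by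
      rw [pow_succ, hA', one_mul]
    simp only [Finset.sum_range_succ, Finset.range_zero, Finset.sum_empty, pow_zero, pow_one,
      zero_add, hA', h3]
    have h2 : (2 : Matrix (Fin 2) (Fin 2) F) = 0 := by
      have h4 : ((2 : F) • (1 : Matrix (Fin 2) (Fin 2) F)) = 0 := by rw [char_two, zero_smul]
      rw [← h4]
      ext i j
      simp [Matrix.smul_apply, Matrix.one_apply, Matrix.ofNat_apply]
    have h5 : (1 : Matrix (Fin 2) (Fin 2) F) + (h.right : Matrix (Fin 2) (Fin 2) F) + 1 +
        (h.right : Matrix (Fin 2) (Fin 2) F) = 2 * (1 + (h.right : Matrix (Fin 2) (Fin 2) F)) := by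
      rw [two_mul]; abel
    rw [h5, h2, zero_mul]
  rw [hsum, act_zero_left]
  have h4 : h.right ^ 4 = 1 := by
    have : h.right ^ 4 = (h.right ^ 2) ^ 2 := by rw [← pow_mul]
    rw [this, hA, one_pow]
  rw [h4]
  rfl

/-- If the `SL₂`-part has odd prime order `p` then the `p`-th power is trivial. -/
theorem pow_prime_eq_one (h : HG F k) {p : ℕ} (hp : p.Prime) (hp2 : p ≠ 2)
    (hA : orderOf h.right = p) : h ^ p = 1 := by
  have hAp : h.right ^ p = 1 := by rw [← hA]; exact pow_orderOf_eq_one _
  have hA1 : h.right ≠ 1 := by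
    intro h1
    rw [h1, orderOf_one] at hA
    exact hp.one_lt.ne hA
  rw [eta h, pow_eq, geom_sum_eq_zero h.right hA1 hp hp2 hAp, act_zero_left, hAp]
  rfl

theorem pow_four_or_pow_prime (h : HG F k) {r : ℕ} (hr : r.Prime) (hA : orderOf h.right = r) :
    h ^ 4 = 1 ∨ h ^ r = 1 := by
  by_cases hr2 : r = 2
  · left
    apply pow_four_eq_one
    have h2 : orderOf h.right = 2 := hA.trans hr2
    have h3 := pow_orderOf_eq_one h.right
    rwa [h2] at h3
  · right
    exact pow_prime_eq_one h hr hr2 hA

theorem not_mul_dvd_four {p q : ℕ} (hp : p.Prime) (hq : q.Prime) (hpq : p ≠ q) : ¬ p * q ∣ 4 := by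
  intro h
  have h4 : (4 : ℕ) = 2 ^ 2 := by norm_num
  have hp2 : p = 2 := by
    have : p ∣ 2 ^ 2 := h4 ▸ (Dvd.intro _ rfl : p ∣ p * q).trans h
    exact (Nat.prime_dvd_prime_iff_eq hp Nat.prime_two).mp (hp.dvd_of_dvd_pow this)
  have hq2 : q = 2 := by
    have : q ∣ 2 ^ 2 := h4 ▸ (Dvd.intro_left _ rfl : q ∣ p * q).trans h
    exact (Nat.prime_dvd_prime_iff_eq hq Nat.prime_two).mp (hq.dvd_of_dvd_pow this)
  exact hpq (hp2.trans hq2.symm)

/-- An element of order `p * q` in the semidirect product projects to one of order `p * q`. -/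
theorem orderOf_right_eq (h : HG F k) {p q : ℕ} (hp : p.Prime) (hq : q.Prime) (hpq : p ≠ q)
    (hh : orderOf h = p * q) : orderOf h.right = p * q := by
  have hApq : h.right ^ (p * q) = 1 := by
    have h1 : h ^ (p * q) = 1 := by rw [← hh]; exact pow_orderOf_eq_one _
    have h2 := congrArg SemidirectProduct.rightHom h1
    rwa [map_pow, map_one] at h2
  have hm : orderOf h.right ∣ p * q := orderOf_dvd_of_pow_eq_one hApq
  obtain ⟨m₁, m₂, hm₁, hm₂, hm12⟩ := Nat.dvd_mul.mp hm
  have hno4 : ¬ h ^ 4 = 1 := by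
    intro h4
    have := orderOf_dvd_of_pow_eq_one h4
    rw [hh] at this
    exact not_mul_dvd_four hp hq hpq this
  have hnop : ¬ h ^ p = 1 := by
    intro h4
    have := orderOf_dvd_of_pow_eq_one h4
    rw [hh] at this
    have h5 : q ∣ 1 := by
      have : p * q ∣ p * 1 := by rwa [mul_one]
      exact (Nat.mul_dvd_mul_iff_left hp.pos).mp this
    exact hq.one_lt.ne' (Nat.dvd_one.mp h5)
  have hnoq : ¬ h ^ q = 1 := by
    intro h4
    have := orderOf_dvd_of_pow_eq_one h4
    rw [hh] at this
    have h5 : p ∣ 1 := by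
      have : p * q ∣ 1 * q := by rwa [one_mul]
      exact (Nat.mul_dvd_mul_iff_right hq.pos).mp this
    exact hp.one_lt.ne' (Nat.dvd_one.mp h5)
  rcases (Nat.dvd_prime hp).mp hm₁ with h1 | h1 <;> rcases (Nat.dvd_prime hq).mp hm₂ with h2 | h2
  · exfalso
    rw [h1, h2, one_mul] at hm12
    apply hno4
    apply pow_four_eq_one
    rw [orderOf_eq_one_iff.mp hm12.symm, one_pow]
  · exfalso
    rw [h1, h2, one_mul] at hm12
    rcases pow_four_or_pow_prime h hq hm12.symm with h3 | h3
    · exact hno4 h3
    · exact hnoq h3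
  · exfalso
    rw [h1, h2, mul_one] at hm12
    rcases pow_four_or_pow_prime h hp hm12.symm with h3 | h3
    · exact hno4 h3
    · exact hnop h3
  · rw [← hm12, h1, h2]

end Props

section PSL

variable {F : Type u} [Field F] [CharP F 2]

theorem center_eq_bot : Subgroup.center (SpecialLinearGroup (Fin 2) F) = ⊥ := by
  rw [eq_bot_iff]
  intro A hA
  rw [Matrix.SpecialLinearGroup.mem_center_iff] at hA
  obtain ⟨r, hr, hrA⟩ := hA
  have hr1 : r = 1 := by
    have h2 : (r - 1) ^ 2 = 0 := by
      rw [Fintype.card_fin] at hr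
      linear_combination hr + (1 - r) * (char_two (F := F))
    exact sub_eq_zero.mp (pow_eq_zero_iff two_ne_zero |>.mp h2)
  rw [Subgroup.mem_bot]
  apply Subtype.ext
  rw [← hrA, hr1, map_one, Matrix.SpecialLinearGroup.coe_one]

theorem mk_bijective : Function.Bijective
    (QuotientGroup.mk' (Subgroup.center (SpecialLinearGroup (Fin 2) F))) := by
  refine ⟨?_, QuotientGroup.mk'_surjective _⟩
  rw [← MonoidHom.ker_eq_bot_iff, QuotientGroup.ker_mk', center_eq_bot]

theorem exists_orderOf_iff (n : ℕ) :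
    (∃ g : ProjectiveSpecialLinearGroup (Fin 2) F, orderOf g = n) ↔
      ∃ A : SpecialLinearGroup (Fin 2) F, orderOf A = n := by
  constructor
  · rintro ⟨g, hg⟩
    obtain ⟨A, rfl⟩ := mk_bijective.2 g
    exact ⟨A, by rw [← hg]; exact (orderOf_injective _ mk_bijective.1 A).symm⟩
  · rintro ⟨A, hA⟩
    exact ⟨QuotientGroup.mk' _ A, by rw [← hA]; exact orderOf_injective _ mk_bijective.1 A⟩

theorem card_psl : Nat.card (ProjectiveSpecialLinearGroup (Fin 2) F) =
    Nat.card (SpecialLinearGroup (Fin 2) F) :=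
  (Nat.card_congr (Equiv.ofBijective _ mk_bijective)).symm

/-- `SL₂(F)` has an element of order two. -/
theorem exists_orderOf_two : ∃ A : SpecialLinearGroup (Fin 2) F, orderOf A = 2 := by
  let U : SpecialLinearGroup (Fin 2) F := ⟨!![1, 1; 0, 1], by simp [Matrix.det_fin_two]⟩
  haveI : Fact (Nat.Prime 2) := ⟨Nat.prime_two⟩
  refine ⟨U, orderOf_eq_prime ?_ ?_⟩
  · apply sq_eq_one_of_trace_eq_zero
    show (!![1, 1; 0, 1] : Matrix (Fin 2) (Fin 2) F) 0 0 +
      (!![1, 1; 0, 1] : Matrix (Fin 2) (Fin 2) F) 1 1 = 0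
    simp
    linear_combination (char_two (F := F))
  · intro h
    have h1 := congrArg (fun X : SpecialLinearGroup (Fin 2) F =>
      (X : Matrix (Fin 2) (Fin 2) F) 0 1) h
    simp [U] at h1

end PSL

/-- A copy of `Fin n` carrying no algebraic instances. -/
structure Box (n : ℕ) : Type where
  /-- the underlying index -/
  val : Fin n

/-- `Box n` is equivalent to `Fin n`. -/
def Box.equivFin (n : ℕ) : Box n ≃ Fin n where
  toFun := Box.val
  invFun := Box.mk
  left_inv := fun _ => rfl
  right_inv := fun _ => rfl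

instance (n : ℕ) : Finite (Box n) := Finite.of_equiv _ (Box.equivFin n).symm

/-- Transport a finite group to the lowest universe, keeping its order and element orders. -/
theorem transport (H₀ : Type u) [Group H₀] [Finite H₀] :
    ∃ (H : Type) (_ : Group H) (_ : Finite H), Nat.card H = Nat.card H₀ ∧
      ∀ m, (∃ g : H, orderOf g = m) ↔ (∃ g : H₀, orderOf g = m) := by
  let e : Box (Nat.card H₀) ≃ H₀ := (Box.equivFin _).trans (Finite.equivFin H₀).symm
  letI : Group (Box (Nat.card H₀)) := e.group
  let E : Box (Nat.card H₀) ≃* H₀ := e.mulEquiv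
  refine ⟨Box (Nat.card H₀), e.group, inferInstance, ?_, fun m => ?_⟩
  · rw [Nat.card_congr (Box.equivFin _), Nat.card_fin]
  constructor
  · rintro ⟨g, hg⟩
    exact ⟨E g, by rw [← hg]; exact E.orderOf_eq g⟩
  · rintro ⟨g, hg⟩
    exact ⟨E.symm g, by rw [← hg]; exact E.symm.orderOf_eq g⟩

theorem card_ev (F : Type u) [Field F] [Finite F] (k : ℕ) :
    Nat.card (EV F k) = (Nat.card F ^ 2) ^ k := by
  rw [Nat.card_congr (Multiplicative.toAdd : EV F k ≃ (Fin k → Fin 2 → F)), Nat.card_fun,
    Nat.card_fun, Nat.card_fin, Nat.card_fin]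

/-- The common part of the construction: the group `V^k ⋊ SL₂(F)` transported to `Type`. -/
theorem exists_family (F : Type u) [Field F] [Fintype F] [CharP F 2] (N : ℕ) :
    ∃ (H : Type) (_ : Group H) (_ : Finite H), N < Nat.card H ∧
      (∀ p : ℕ, p.Prime → (p ∣ Nat.card (SpecialLinearGroup (Fin 2) F) ↔ p ∣ Nat.card H)) ∧
      (∀ p q : ℕ, p.Prime → q.Prime → p ≠ q →
        ((∃ A : SpecialLinearGroup (Fin 2) F, orderOf A = p * q) ↔
          (∃ g : H, orderOf g = p * q))) := by
  classical
  haveI : Finite (HG F N) := Finite.of_equiv _ SemidirectProduct.equivProd.symm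
  obtain ⟨H, hGrp, hFin, hcard, hord⟩ := transport (HG F N)
  have hcardF : 2 ≤ Nat.card F := by
    rw [Nat.card_eq_fintype_card]
    exact Fintype.one_lt_card
  refine ⟨H, hGrp, hFin, ?_, ?_, ?_⟩
  · rw [hcard, SemidirectProduct.card, card_ev]
    have h1 : N < 2 ^ N := Nat.lt_two_pow_self
    have h2 : 2 ^ N ≤ (Nat.card F ^ 2) ^ N := by
      apply Nat.pow_le_pow_left
      nlinarith
    have h3 : 0 < Nat.card (SpecialLinearGroup (Fin 2) F) := Nat.card_pos
    nlinarith
  · intro p hp
    rw [hcard, SemidirectProduct.card]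
    constructor
    · exact fun h => Dvd.dvd.mul_left h _
    · intro h
      rcases (Nat.Prime.dvd_mul hp).mp h with h1 | h1
      · rw [card_ev] at h1
        have h2 : p ∣ Nat.card F := hp.dvd_of_dvd_pow (hp.dvd_of_dvd_pow h1)
        obtain ⟨n, -, hn⟩ := FiniteField.card F 2
        rw [Nat.card_eq_fintype_card, hn] at h2
        have h3 : p = 2 := (Nat.prime_dvd_prime_iff_eq hp Nat.prime_two).mp (hp.dvd_of_dvd_pow h2)
        obtain ⟨A, hA⟩ := exists_orderOf_two (F := F)
        have h4 := orderOf_dvd_natCard A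
        rw [hA] at h4
        rw [h3]
        exact h4
      · exact h1
  · intro p q hp hq hpq
    rw [hord]
    constructor
    · rintro ⟨A, hA⟩
      exact ⟨SemidirectProduct.inr A, by
        rw [← hA]; exact orderOf_injective _ SemidirectProduct.inr_injective A⟩
    · rintro ⟨h, hh⟩
      exact ⟨h.right, orderOf_right_eq h hp hq hpq hh⟩

/-- The prime graph of a finite group has the prime divisors of its order as vertices, two distinct primes p, q being joined when the group has an element of order pq; two groups have the same prime graph when they have the same prime divisors and the same joined pairs. Let F be a finite field of characteristic 2 with at least 4 elements. Then there are finite groups of arbitrarily large order with the same prime graph as PSL(2,F); in particular PSL(2,F) is not determined by its prime graph. -/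
theorem result {F : Type*} [Field F] [Fintype F] [CharP F 2] (hF : 4 ≤ Fintype.card F) (N : ℕ) :
    ∃ (H : Type) (_ : Group H) (_ : Finite H), N < Nat.card H ∧
      ((∀ p : ℕ, p.Prime → (p ∣ Nat.card (Matrix.ProjectiveSpecialLinearGroup (Fin 2) F) ↔ p ∣ Nat.card H)) ∧
      (∀ p q : ℕ, p.Prime → q.Prime → p ≠ q → ((∃ g : (Matrix.ProjectiveSpecialLinearGroup (Fin 2) F), orderOf g = p * q) ↔ (∃ g : H, orderOf g = p * q)))) := by
  obtain ⟨H, hGrp, hFin, hN, h1, h2⟩ := exists_family F N
  refine ⟨H, hGrp, hFin, hN, ?_, ?_⟩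
  · intro p hp
    rw [card_psl]
    exact h1 p hp
  · intro p q hp hq hpq
    rw [exists_orderOf_iff]
    exact h2 p q hp hq hpq

end Cfsg.Agent.S3660
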