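import Cfsg.Statements.S0809
import Cfsg.Agent.Lib.Helper15.Order4
import Cfsg.Agent.Lib.Helper15.PSL2ClassOdd2

set_option autoImplicit false
open Cfsg

namespace Cfsg.Agent.S0809

/-- In SL_2(q), q odd: any two subgroups of order 4 are conjugate, and the normaliser of a subgroup of order 4 has order 2(q − 1) if q ≡ 1 (mod 4) and 2(q + 1) if q ≡ 3 (mod 4); consequently all involutions of PSL_2(q) are conjugate. -/
theorem result {F : Type*} [Field F] [Fintype F] {q : ℕ} (hF : Fintype.card F = q) (hodd : Odd q) (A : Subgroup (Matrix.SpecialLinearGroup (Fin 2) F)) (hA : Nat.card A = 4) : (∀ B : Subgroup (Matrix.SpecialLinearGroup (Fin 2) F), Nat.card B = 4 → ∃ g : Matrix.SpecialLinearGroup (Fin 2) F, B = A.map (MulAut.conj g).toMonoidHom) ∧ (q % 4 = 1 → Nat.card ↥(Subgroup.normalizer (A : Set (Matrix.SpecialLinearGroup (Fin 2) F))) = 2 * (q - 1)) ∧ (q % 4 = 3 → Nat.card ↥(Subgroup.normalizer (A : Set (Matrix.SpecialLinearGroup (Fin 2) F))) = 2 * (q + 1)) ∧ (∀ x y : Matrix.ProjectiveSpecialLinearGroup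 (Fin 2) F, orderOf x = 2 → orderOf y = 2 → IsConj x y) := by

  subst hF
  have h2 : (2 : F) ≠ 0 := by
    intro h
    have := (Cfsg.Agent.Lib.Helper15.two_dvd_card_iff (F := F)).2 h
    rw [Nat.odd_iff] at hodd
    omega
  obtain ⟨x, hx, hAx⟩ := Cfsg.Agent.Lib.Helper15.exists_gen_of_card_four h2 A hA
  have hns := Cfsg.Agent.Lib.Helper15.not_isScalar2_of_sq h2 x hx
  have ht := Cfsg.Agent.Lib.Helper15.trace_sq_ne_four_of_sq h2 x hx
  have htr := Cfsg.Agent.Lib.Helper15.trace_eq_zero_of_sq x hx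
  have hN : Nat.card ↥(Subgroup.normalizer (A : Set (Matrix.SpecialLinearGroup (Fin 2) F))) =
      2 * Nat.card (Subgroup.centralizer ({x} : Set (Matrix.SpecialLinearGroup (Fin 2) F))) := by
    rw [hAx, Cfsg.Agent.Lib.Helper15.normalizer_zpowers_of_sq h2 x hx]
    exact Cfsg.Agent.Lib.Helper15.card_torus_normalizer h2 x hns ht
  refine ⟨?_, ?_, ?_, ?_⟩
  · intro B hB
    obtain ⟨y, hy, hBy⟩ := Cfsg.Agent.Lib.Helper15.exists_gen_of_card_four h2 B hB
    obtain ⟨g, hg⟩ := isConj_iff.1 (Cfsg.Agent.Lib.Helper15.isConj_of_sq h2 x y hx hy)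
    refine ⟨g, ?_⟩
    rw [hBy, hAx, MonoidHom.map_zpowers]
    show Subgroup.zpowers y = Subgroup.zpowers (g * x * g⁻¹)
    rw [hg]
  · intro hq
    rw [hN]
    have hs : Cfsg.Agent.Lib.Helper15.IsSplitTrace (x : Matrix (Fin 2) (Fin 2) F).trace := by
      rw [htr, Cfsg.Agent.Lib.Helper15.split_zero_iff, FiniteField.isSquare_neg_one_iff]
      omega
    rw [Cfsg.Agent.Lib.Helper15.card_centralizer_split_odd x hns ht hs]
  · intro hq
    rw [hN]
    have hs : ¬ Cfsg.Agent.Lib.Helper15.IsSplitTrace (x : Matrix (Fin 2) (Fin 2) F).trace := by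
      rw [htr, Cfsg.Agent.Lib.Helper15.split_zero_iff, FiniteField.isSquare_neg_one_iff]
      omega
    rw [Cfsg.Agent.Lib.Helper15.card_centralizer_nonsplit_odd x hns hs]
  · have key : ∀ a : Matrix.SpecialLinearGroup (Fin 2) F,
        orderOf (QuotientGroup.mk' (Subgroup.center (Matrix.SpecialLinearGroup (Fin 2) F)) a) = 2 → a * a = -1 := by
      intro a ha
      have h1 : (QuotientGroup.mk' (Subgroup.center (Matrix.SpecialLinearGroup (Fin 2) F)) a) ^ 2 = 1 := by
        have := pow_orderOf_eq_one (QuotientGroup.mk' (Subgroup.center (Matrix.SpecialLinearGroup (Fin 2) F)) a)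
        rw [ha] at this
        exact this
      rw [Cfsg.Agent.Lib.Helper15.mk_pow_eq_one_iff, pow_two] at h1
      have h3 := Cfsg.Agent.Lib.Helper15.center_mul_self _ h1
      rcases Cfsg.Agent.Lib.Helper15.eq_one_or_neg_one_of_mul_self h2 (a * a) h3 with h | h
      · exfalso
        have hc : a ∈ Subgroup.center (Matrix.SpecialLinearGroup (Fin 2) F) := by
          rcases Cfsg.Agent.Lib.Helper15.eq_one_or_neg_one_of_mul_self h2 a h with h' | h'
          · rw [h']; exact Subgroup.one_mem _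
          · rw [h']; exact Cfsg.Agent.Lib.Helper15.neg_one_mem_center_SL2
        have h4 : QuotientGroup.mk' (Subgroup.center (Matrix.SpecialLinearGroup (Fin 2) F)) a = 1 := by
          rw [QuotientGroup.mk'_apply, QuotientGroup.eq_one_iff]
          exact hc
        rw [h4, orderOf_one] at ha
        omega
      · exact h
    intro u v hu hv
    obtain ⟨a, rfl⟩ := QuotientGroup.mk'_surjective (Subgroup.center (Matrix.SpecialLinearGroup (Fin 2) F)) u
    obtain ⟨b, rfl⟩ := QuotientGroup.mk'_surjective (Subgroup.center (Matrix.SpecialLinearGroup (Fin 2) F)) v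
    exact MonoidHom.map_isConj _ (Cfsg.Agent.Lib.Helper15.isConj_of_sq h2 a b (key a hu) (key b hv))

end Cfsg.Agent.S0809
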