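import Cfsg.Statements.S0111

set_option autoImplicit false
open Pointwise
open Cfsg

namespace Cfsg.Agent.S0111

open Subgroup MulAction

open Classical in
/-- the sign-like homomorphism attached to a subgroup of relative index two -/
noncomputable def signHom {G : Type*} [Group G] (H Q : Subgroup G) (hQi : Q.relIndex H = 2) : H →* ℤˣ where
  toFun h := if (h : G) ∈ Q then 1 else -1
  map_one' := by simp [Q.one_mem]
  map_mul' := by
    intro a b
    have key : (a * b : H) ∈ Q.subgroupOf H ↔ (a ∈ Q.subgroupOf H ↔ b ∈ Q.subgroupOf H) :=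
      Subgroup.mul_mem_iff_of_index_two hQi
    simp only [mem_subgroupOf, coe_mul] at key
    by_cases ha : (a : G) ∈ Q <;> by_cases hb : (b : G) ∈ Q <;> simp [ha, hb, key]

open Classical in
lemma signHom_apply {G : Type*} [Group G] (H Q : Subgroup G) (hQi : Q.relIndex H = 2) (h : H) :
    signHom H Q hQi h = if (h : G) ∈ Q then 1 else -1 := rfl

/-- The Thompson transfer lemma states that an involution of a Sylow 2-subgroup P lying outside a subgroup Q of index 2 in P either lies outside some normal subgroup of index 2 in G or is conjugate to an element of Q. -/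
theorem result {G : Type*} [Group G] [Finite G] (P : Sylow 2 G) (Q : Subgroup G) (hQP : Q ≤ (P : Subgroup G)) (hQi : Q.relIndex (P : Subgroup G) = 2) (u : G) (hu : orderOf u = 2) (huP : u ∈ (P : Subgroup G)) (huQ : u ∉ Q) : (∃ M : Subgroup G, M.Normal ∧ M.index = 2 ∧ u ∉ M) ∨ ∃ g : G, g * u * g⁻¹ ∈ Q := by
  classical
  haveI : Fact (Nat.Prime 2) := ⟨Nat.prime_two⟩
  by_cases hconj : ∃ g : G, g * u * g⁻¹ ∈ Q
  · exact Or.inr hconj
  left
  push_neg at hconj
  set H : Subgroup G := (P : Subgroup G) with hH
  let ϕ : H →* ℤˣ := signHom H Q hQi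
  let V : G →* ℤˣ := MonoidHom.transfer ϕ
  have hu2 : u ^ 2 = 1 := by rw [← hu]; exact pow_orderOf_eq_one u
  haveI : Fintype (Quotient (orbitRel (zpowers u) (G ⧸ H))) := Fintype.ofFinite _
  -- evaluate the transfer at u
  have hV : V u = (-1 : ℤˣ) ^ H.index := by
    change MonoidHom.transfer ϕ u = _
    rw [MonoidHom.transfer_eq_prod_quotient_orbitRel_zpowers_quot, index_eq_sum_minimalPeriod H u,
      ← Finset.prod_pow_eq_pow_sum]
    apply Finset.prod_congr rfl
    intro q _
    -- the minimal period divides 2
    have hper : Function.minimalPeriod (u • · : G ⧸ H → G ⧸ H) q.out ∣ 2 := by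
      apply Function.IsPeriodicPt.minimalPeriod_dvd
      change (u • · : G ⧸ H → G ⧸ H)^[2] q.out = q.out
      rw [smul_iterate, hu2]; simp only [one_smul]
    have hpos : 0 < Function.minimalPeriod (u • · : G ⧸ H → G ⧸ H) q.out := by
      apply Function.IsPeriodicPt.minimalPeriod_pos (n := 2) (by norm_num)
      change (u • · : G ⧸ H → G ⧸ H)^[2] q.out = q.out
      rw [smul_iterate, hu2]; simp only [one_smul]
    have hle : Function.minimalPeriod (u • · : G ⧸ H → G ⧸ H) q.out ≤ 2 := Nat.le_of_dvd (by norm_num) hper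
    rw [signHom_apply]
    have hcases : Function.minimalPeriod (u • · : G ⧸ H → G ⧸ H) q.out = 1 ∨
        Function.minimalPeriod (u • · : G ⧸ H → G ⧸ H) q.out = 2 := by omega
    rcases hcases with hm | hm
    · -- period one: a conjugate of u, not in Q
      have h1 : q.out.out⁻¹ * u ^ Function.minimalPeriod (u • · : G ⧸ H → G ⧸ H) q.out * q.out.out ∉ Q := by
        rw [hm, pow_one]
        have := hconj (q.out.out⁻¹)
        simpa using this
      rw [if_neg h1, hm, pow_one]
    · -- period two: the identity
      have h1 : q.out.out⁻¹ * u ^ Function.minimalPeriod (u • · : G ⧸ H → G ⧸ H) q.out * q.out.out ∈ Q := by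
        rw [hm, hu2]; simp [Q.one_mem]
      rw [if_pos h1, hm]
      norm_num
  have hodd : ¬ 2 ∣ H.index := P.not_dvd_index
  have hV' : V u = -1 := by
    rw [hV]
    have : Odd H.index := Nat.odd_iff.2 (by omega)
    exact this.neg_one_pow
  refine ⟨V.ker, inferInstance, ?_, ?_⟩
  · rw [index_ker]
    have hr : V.range = ⊤ := by
      rw [eq_top_iff]
      intro x _
      rcases Int.units_eq_one_or x with h | h
      · rw [h]; exact one_mem _
      · rw [h, ← hV']; exact ⟨u, rfl⟩
    rw [hr, card_top]
    simp
  · rw [MonoidHom.mem_ker, hV']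
    decide

end Cfsg.Agent.S0111
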