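-- Statement S0781
import Cfsg.Statements.S0781
import Mathlib
import Cfsg.Agent.Lib.Helper6.UnitaryCount

set_option autoImplicit false
open Cfsg

namespace Cfsg.Agent.S0781

open Matrix Module Cfsg.Agent.Lib.Helper6 Cfsg.Agent.S0779

section
variable {F : Type*} [Field F] [Fintype F] {q n : ℕ}

theorem neg_pow_q (hF : Fintype.card F = q ^ 2) (a : F) : (-a) ^ q = -(a ^ q) := by
  have h1 := add_pow_q hF a (-a)
  rw [add_neg_cancel, zero_pow (q_pos hF).ne'] at h1
  exact (neg_eq_of_add_eq_zero_right h1.symm).symm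

theorem sub_pow_q (hF : Fintype.card F = q ^ 2) (a b : F) : (a - b) ^ q = a ^ q - b ^ q := by
  rw [sub_eq_add_neg, add_pow_q hF, neg_pow_q hF, ← sub_eq_add_neg]

theorem mat_ext {M N : Matrix (Fin n) (Fin n) F} (h : ∀ x, M *ᵥ x = N *ᵥ x) : M = N := by
  ext i j
  have := congrFun (h (Pi.single j 1)) i
  rw [mulVec_single_one, mulVec_single_one] at this
  exact this

/-- the matrix of `x ↦ x + a h(x, w) u` -/
def P (q : ℕ) (a : F) (u w : Fin n → F) : Matrix (Fin n) (Fin n) F :=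
  1 + a • Matrix.vecMulVec u (fun j => (w j) ^ q)

theorem P_mulVec (a : F) (u w x : Fin n → F) :
    P q a u w *ᵥ x = x + (a * hermForm n F q x w) • u := by
  unfold P
  rw [add_mulVec, one_mulVec, smul_mulVec, vecMulVec_mulVec]
  congr 1
  ext i
  simp only [Pi.smul_apply, MulOpposite.smul_eq_mul_unop, MulOpposite.unop_op, smul_eq_mul,
    hermForm, dotProduct]
  have : ∑ j, w j ^ q * x j = ∑ j, x j * w j ^ q := by
    apply Finset.sum_congr rfl; intro j _; ring
  rw [this]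
  ring

theorem P_det (a : F) (u w : Fin n → F) : (P q a u w).det = 1 + a * hermForm n F q u w := by
  unfold P
  rw [← Matrix.smul_vecMulVec, Matrix.vecMulVec_eq Unit, det_one_add_replicateCol_mul_replicateRow]
  simp only [hermForm, dotProduct, Pi.smul_apply, smul_eq_mul, Finset.mul_sum]
  congr 1
  apply Finset.sum_congr rfl; intro j _; ring

/-- `x ↦ x + a h(x,u₂) u₁ - a^q h(x,u₁) u₂` -/
def Em (q : ℕ) (a : F) (u₁ u₂ : Fin n → F) : Matrix (Fin n) (Fin n) F :=
  P q a u₁ u₂ * P q (-(a ^ q)) u₂ u₁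

theorem Em_mulVec (a : F) (u₁ u₂ x : Fin n → F) (h22 : hermForm n F q u₂ u₂ = 0) :
    Em q a u₁ u₂ *ᵥ x = x + (a * hermForm n F q x u₂) • u₁ +
      (-(a ^ q) * hermForm n F q x u₁) • u₂ := by
  unfold Em
  rw [← mulVec_mulVec, P_mulVec, P_mulVec, herm_add_left, herm_smul_left, h22, mul_zero, add_zero]
  abel

theorem Em_det (a : F) (u₁ u₂ : Fin n → F) (h12 : hermForm n F q u₁ u₂ = 0)
    (h21 : hermForm n F q u₂ u₁ = 0) : (Em q a u₁ u₂).det = 1 := by
  unfold Em
  rw [det_mul, P_det, P_det, h12, h21]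
  ring

theorem herm_Em_left (a : F) (u₁ u₂ x z : Fin n → F)
    (h22 : hermForm n F q u₂ u₂ = 0) :
    hermForm n F q (Em q a u₁ u₂ *ᵥ x) z = hermForm n F q x z +
      a * hermForm n F q x u₂ * hermForm n F q u₁ z -
      a ^ q * hermForm n F q x u₁ * hermForm n F q u₂ z := by
  rw [Em_mulVec a u₁ u₂ x h22, herm_add_left, herm_add_left, herm_smul_left, herm_smul_left]
  ring

theorem Em_pres (hF : Fintype.card F = q ^ 2) (a : F) (u₁ u₂ : Fin n → F)
    (h11 : hermForm n F q u₁ u₁ = 0) (h22 : hermForm n F q u₂ u₂ = 0)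
    (h12 : hermForm n F q u₁ u₂ = 0) (h21 : hermForm n F q u₂ u₁ = 0) (x y : Fin n → F) :
    hermForm n F q (Em q a u₁ u₂ *ᵥ x) (Em q a u₁ u₂ *ᵥ y) = hermForm n F q x y := by
  rw [herm_Em_left a u₁ u₂ x _ h22, Em_mulVec a u₁ u₂ y h22]
  simp only [herm_add_right hF, herm_smul_right, h11, h22, h12, h21, mul_pow, neg_pow_q hF,
    pow_q_q hF, herm_conj hF]
  ring

theorem comm_ge4 (hF : Fintype.card F = q ^ 2) (v w w' : Fin n → F) (c s : F)
    (hvv : hermForm n F q v v = 0) (hww : hermForm n F q w w = 0)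
    (hw'w' : hermForm n F q w' w' = 0) (hwv : hermForm n F q w v = 0)
    (hw'v : hermForm n F q w' v = 0) (hww' : hermForm n F q w w' = 1) (hs : s - s ^ q = c) :
    Em q 1 v w' * Em q s v w =
      Cfsg.unitaryTransvection n q v c * (Em q s v w * Em q 1 v w') := by
  have hvw := herm_swap_zero hF hwv
  have hvw' := herm_swap_zero hF hw'v
  have hw'w : hermForm n F q w' w = 1 := by rw [← herm_conj hF, hww', one_pow]
  apply mat_ext
  intro x
  rw [← mulVec_mulVec, ← mulVec_mulVec, ← mulVec_mulVec, transvection_mulVec]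
  have e1 : hermForm n F q (Em q s v w *ᵥ x) w' =
      hermForm n F q x w' - s ^ q * hermForm n F q x v := by
    rw [herm_Em_left s v w x w' hww, hvw', hww']; ring
  have e2 : hermForm n F q (Em q s v w *ᵥ x) v = hermForm n F q x v := by
    rw [herm_Em_left s v w x v hww, hvv, hwv]; ring
  have e3 : hermForm n F q (Em q 1 v w' *ᵥ x) w =
      hermForm n F q x w - hermForm n F q x v := by
    rw [herm_Em_left 1 v w' x w hw'w', hvw, hw'w]; ring
  have e4 : hermForm n F q (Em q 1 v w' *ᵥ x) v = hermForm n F q x v := by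
    rw [herm_Em_left 1 v w' x v hw'w', hvv, hw'v]; ring
  have e5 : hermForm n F q (Em q s v w *ᵥ (Em q 1 v w' *ᵥ x)) v = hermForm n F q x v := by
    rw [herm_Em_left s v w _ v hww, hvv, hwv, e4]; ring
  rw [e5, Em_mulVec 1 v w' (Em q s v w *ᵥ x) hw'w', e1, e2,
    Em_mulVec s v w (Em q 1 v w' *ᵥ x) hww, e3, e4, Em_mulVec s v w x hww,
    Em_mulVec 1 v w' x hw'w', ← hs]
  ext i
  simp only [Pi.add_apply, Pi.smul_apply, smul_eq_mul, one_pow]
  ring

theorem exists_sub_conj (hF : Fintype.card F = q ^ 2) (c : F) (hc : c ^ q = -c) :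
    ∃ s : F, s - s ^ q = c := by
  obtain ⟨θ, hθ⟩ : ∃ θ : F, θ ^ q ≠ θ := by
    by_contra hcon
    push Not at hcon
    exact conjQ_ne_id hF (RingHom.ext fun a => by rw [conjQ_apply, hcon]; rfl)
  have hδ : θ - θ ^ q ≠ 0 := fun h => hθ (sub_eq_zero.mp h).symm
  refine ⟨c / (θ - θ ^ q) * θ, ?_⟩
  have h1 : (θ - θ ^ q) ^ q = θ ^ q - θ := by rw [sub_pow_q hF, pow_q_q hF]
  have e : (-c) / (θ ^ q - θ) = c / (θ - θ ^ q) := by
    rw [neg_div, ← div_neg, neg_sub]
  rw [mul_pow, div_pow, h1, hc, e, ← mul_sub, div_mul_cancel₀ _ hδ]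

theorem exists_perp_iso (hF : Fintype.card F = q ^ 2) (x x' : Fin n → F)
    (hxx : hermForm n F q x x = 0) (hx'x : hermForm n F q x' x = 1)
    (hxx' : hermForm n F q x x' = 1) (hx'x' : hermForm n F q x' x' = 0) :
    ∃ (U : Submodule F (Fin n → F)) (φ : U ≃ₗ[F] (Fin (n - 2) → F)),
      (∀ y, y ∈ U ↔ hermForm n F q y x = 0 ∧ hermForm n F q y x' = 0) ∧
      ∀ a b : U, hermForm (n - 2) F q (φ a) (φ b) =
        hermForm n F q (a : Fin n → F) (b : Fin n → F) := by
  classical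
  let T : (Fin n → F) →ₗ[F] F × F := (hermB n hF x).prod (hermB n hF x')
  have hT : ∀ y, T y = (hermForm n F q y x, hermForm n F q y x') := fun y => rfl
  obtain ⟨U, hU⟩ : ∃ U : Submodule F (Fin n → F), U = LinearMap.ker T := ⟨_, rfl⟩
  have hmemU : ∀ y, y ∈ U ↔ hermForm n F q y x = 0 ∧ hermForm n F q y x' = 0 := by
    intro y
    rw [hU, LinearMap.mem_ker, hT, Prod.mk_eq_zero]
  have hsurj : LinearMap.range T = ⊤ := by
    rw [LinearMap.range_eq_top]
    rintro ⟨a, b⟩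
    refine ⟨a • x' + b • x, ?_⟩
    rw [hT, herm_add_left, herm_add_left, herm_smul_left, herm_smul_left, herm_smul_left,
      herm_smul_left, hx'x, hxx, hx'x', hxx']
    simp
  have hdim : finrank F U = n - 2 := by
    have h1 := LinearMap.finrank_range_add_finrank_ker T
    rw [hsurj, ← hU, finrank_top, Module.finrank_prod, Module.finrank_self, Module.finrank_pi,
      Fintype.card_fin] at h1
    omega
  have hdec : ∀ y : Fin n → F,
      y - hermForm n F q y x' • x - hermForm n F q y x • x' ∈ U := by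
    intro y
    rw [hmemU]
    constructor
    · rw [herm_sub_left', herm_sub_left', herm_smul_left, herm_smul_left, hxx, hx'x]; ring
    · rw [herm_sub_left', herm_sub_left', herm_smul_left, herm_smul_left, hxx', hx'x']; ring
  obtain ⟨φ, hφ⟩ := exists_std_herm hF ((hermB n hF).domRestrict₁₂ U U)
    ⟨fun a b => (hermB_isSymm hF).eq (a : Fin n → F) (b : Fin n → F)⟩
    (by
      intro u hu
      apply Subtype.ext
      apply herm_nondeg hF
      intro y
      have h1 : y = (y - hermForm n F q y x' • x - hermForm n F q y x • x') +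
          (hermForm n F q y x' • x + hermForm n F q y x • x') := by abel
      rw [h1, herm_add_right hF, herm_add_right hF, herm_smul_right, herm_smul_right,
        ((hmemU u).mp u.2).1, ((hmemU u).mp u.2).2, mul_zero, mul_zero, add_zero, add_zero]
      exact herm_swap_zero hF (hu ⟨_, hdec y⟩))
    (n - 2) hdim
  exact ⟨U, φ, hmemU, hφ⟩

theorem exists_iso_vec (hF : Fintype.card F = q ^ 2) {k : ℕ} (hk : 2 ≤ k) :
    ∃ z : Fin k → F, z ≠ 0 ∧ hermForm k F q z z = 0 := by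
  classical
  obtain ⟨ω, hω⟩ := exists_norm (conjQ hF) (conjQ_ne_id hF) (conjQ_conjQ hF) (-1 : F)
    (neg_ne_zero.mpr one_ne_zero) (by rw [map_neg, map_one])
  rw [conjQ_apply] at hω
  obtain ⟨i0, hi0⟩ : ∃ i0 : Fin k, i0 = ⟨0, by omega⟩ := ⟨_, rfl⟩
  obtain ⟨i1, hi1⟩ : ∃ i1 : Fin k, i1 = ⟨1, by omega⟩ := ⟨_, rfl⟩
  have h01 : i0 ≠ i1 := by
    intro h
    have := congrArg Fin.val h
    rw [hi0, hi1] at this
    simp at this
  refine ⟨Pi.single i0 1 + ω • Pi.single i1 1, ?_, ?_⟩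
  · intro h
    have := congrFun h i0
    simp [h01] at this
  · rw [herm_add_right hF, herm_smul_right, herm_single_right hF, herm_single_right hF]
    simp only [Pi.add_apply, Pi.smul_apply, Pi.single_eq_same, smul_eq_mul, ne_eq, h01,
      not_false_eq_true, Pi.single_eq_of_ne, h01.symm, mul_zero, add_zero, zero_add, mul_one]
    linear_combination hω

theorem exists_pair (hF : Fintype.card F = q ^ 2) (hn : 4 ≤ n) (v : Fin n → F) (hv : v ≠ 0)
    (hvv : hermForm n F q v v = 0) :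
    ∃ w w' : Fin n → F, hermForm n F q w w = 0 ∧ hermForm n F q w' w' = 0 ∧
      hermForm n F q w v = 0 ∧ hermForm n F q w' v = 0 ∧ hermForm n F q w w' = 1 := by
  obtain ⟨v', hv'v, hvv', hv'v'⟩ := exists_herm_partner hF v hv hvv
  obtain ⟨U, φ, hmemU, hφ⟩ := exists_perp_iso hF v v' hvv hv'v hvv' hv'v'
  obtain ⟨z, hz0, hzz⟩ := exists_iso_vec hF (k := n - 2) (by omega)
  obtain ⟨z', hz'z, hzz', hz'z'⟩ := exists_herm_partner hF z hz0 hzz
  refine ⟨((φ.symm z : U) : Fin n → F), ((φ.symm z' : U) : Fin n → F), ?_, ?_, ?_, ?_, ?_⟩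
  · rw [← hφ, LinearEquiv.apply_symm_apply]; exact hzz
  · rw [← hφ, LinearEquiv.apply_symm_apply]; exact hz'z'
  · exact ((hmemU _).mp (φ.symm z).2).1
  · exact ((hmemU _).mp (φ.symm z').2).1
  · rw [← hφ, LinearEquiv.apply_symm_apply, LinearEquiv.apply_symm_apply]; exact hzz'

theorem T_pres (hF : Fintype.card F = q ^ 2) (v : Fin n → F) (c : F)
    (hvv : hermForm n F q v v = 0) (hc : c ^ q = -c) (x y : Fin n → F) :
    hermForm n F q (Cfsg.unitaryTransvection n q v c *ᵥ x)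
      (Cfsg.unitaryTransvection n q v c *ᵥ y) = hermForm n F q x y := by
  rw [transvection_mulVec, transvection_mulVec]
  simp only [herm_add_left, herm_add_right hF, herm_smul_left, herm_smul_right, hvv, mul_pow,
    herm_conj hF, hc]
  ring

theorem T_det (v : Fin n → F) (c : F) (hvv : hermForm n F q v v = 0) :
    (Cfsg.unitaryTransvection n q v c).det = 1 := by
  have h1 : (P q c v v).det = 1 + c * hermForm n F q v v := P_det c v v
  rw [hvv, mul_zero, add_zero] at h1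
  exact h1

theorem case4 (hF : Fintype.card F = q ^ 2) (hn : 4 ≤ n) (v : Fin n → F) (hv : v ≠ 0)
    (hvv : hermForm n F q v v = 0) (c : F) (hc : c ^ q = -c) :
    ∃ B C : Matrix (Fin n) (Fin n) F, B.det = 1 ∧ C.det = 1 ∧
      (∀ x y, hermForm n F q (B *ᵥ x) (B *ᵥ y) = hermForm n F q x y) ∧
      (∀ x y, hermForm n F q (C *ᵥ x) (C *ᵥ y) = hermForm n F q x y) ∧
      B * C = Cfsg.unitaryTransvection n q v c * (C * B) := by
  obtain ⟨w, w', hww, hw'w', hwv, hw'v, hww'⟩ := exists_pair hF hn v hv hvv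
  obtain ⟨s, hs⟩ := exists_sub_conj hF c hc
  have hvw := herm_swap_zero hF hwv
  have hvw' := herm_swap_zero hF hw'v
  exact ⟨Em q 1 v w', Em q s v w, Em_det _ _ _ hvw' hw'v, Em_det _ _ _ hvw hwv,
    Em_pres hF 1 v w' hvv hw'w' hvw' hw'v, Em_pres hF s v w hvv hww hvw hwv,
    comm_ge4 hF v w w' c s hvv hww hw'w' hwv hw'v hww' hs⟩

/-- the torus-like matrix `v ↦ μ(1+a₁) v`, `v' ↦ μ(1+a₂) v'`, `z ↦ μ z` on the complement -/
def Bm (q : ℕ) (μ a₁ a₂ : F) (v v' : Fin n → F) : Matrix (Fin n) (Fin n) F :=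
  μ • (P q a₁ v v' * P q a₂ v' v)

theorem Bm_mulVec (μ a₁ a₂ : F) (v v' x : Fin n → F) (hv'v' : hermForm n F q v' v' = 0) :
    Bm q μ a₁ a₂ v v' *ᵥ x =
      μ • (x + (a₂ * hermForm n F q x v) • v' + (a₁ * hermForm n F q x v') • v) := by
  unfold Bm
  rw [smul_mulVec, ← mulVec_mulVec, P_mulVec, P_mulVec, herm_add_left, herm_smul_left, hv'v',
    mul_zero, add_zero]

theorem Bm_pres (hF : Fintype.card F = q ^ 2) (μ a₁ a₂ : F) (v v' : Fin n → F)
    (hvv : hermForm n F q v v = 0) (hv'v' : hermForm n F q v' v' = 0)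
    (hvv' : hermForm n F q v v' = 1) (hv'v : hermForm n F q v' v = 1)
    (hμ : μ * μ ^ q = 1) (hC1 : a₁ ^ q + a₂ + a₂ * a₁ ^ q = 0)
    (hC2 : a₂ ^ q + a₁ + a₁ * a₂ ^ q = 0) (x y : Fin n → F) :
    hermForm n F q (Bm q μ a₁ a₂ v v' *ᵥ x) (Bm q μ a₁ a₂ v v' *ᵥ y) = hermForm n F q x y := by
  rw [Bm_mulVec _ _ _ _ _ x hv'v', Bm_mulVec _ _ _ _ _ y hv'v']
  simp only [herm_add_left, herm_add_right hF, herm_smul_left, herm_smul_right, hvv, hv'v', hvv',
    hv'v, mul_pow, herm_conj hF]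
  linear_combination (hermForm n F q x y) * hμ +
    (μ * μ ^ q * (hermForm n F q x v * hermForm n F q v' y)) * hC1 +
    (μ * μ ^ q * (hermForm n F q x v' * hermForm n F q v y)) * hC2

theorem Bm_det (μ a₁ a₂ : F) (v v' : Fin n → F) (hvv' : hermForm n F q v v' = 1)
    (hv'v : hermForm n F q v' v = 1) :
    (Bm q μ a₁ a₂ v v').det = μ ^ n * ((1 + a₁) * (1 + a₂)) := by
  unfold Bm
  rw [det_smul, Fintype.card_fin, det_mul, P_det, P_det, hvv', hv'v, mul_one, mul_one]

theorem Bm_comm (μ a₁ a₂ c₀ c : F) (v v' : Fin n → F)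
    (hvv : hermForm n F q v v = 0) (hv'v' : hermForm n F q v' v' = 0)
    (hvv' : hermForm n F q v v' = 1) (hv'v : hermForm n F q v' v = 1)
    (hcomm : c₀ * (1 + a₁) = (c₀ + c) * (1 + a₂)) :
    Bm q μ a₁ a₂ v v' * Cfsg.unitaryTransvection n q v c₀ =
      Cfsg.unitaryTransvection n q v c *
        (Cfsg.unitaryTransvection n q v c₀ * Bm q μ a₁ a₂ v v') := by
  apply mat_ext
  intro x
  rw [← mulVec_mulVec, ← mulVec_mulVec, ← mulVec_mulVec]
  have e1 : hermForm n F q (Bm q μ a₁ a₂ v v' *ᵥ x) v = μ * ((1 + a₂) * hermForm n F q x v) := by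
    rw [Bm_mulVec _ _ _ _ _ x hv'v', herm_smul_left, herm_add_left, herm_add_left, herm_smul_left,
      herm_smul_left, hv'v, hvv]
    ring
  have e2 : Bm q μ a₁ a₂ v v' *ᵥ v = (μ * (1 + a₁)) • v := by
    rw [Bm_mulVec _ _ _ _ _ v hv'v', hvv, hvv']
    ext i
    simp only [Pi.smul_apply, Pi.add_apply, smul_eq_mul]
    ring
  simp only [transvection_mulVec, mulVec_add, mulVec_smul, e2, herm_add_left, herm_smul_left, e1,
    hvv]
  ext i
  simp only [Pi.add_apply, Pi.smul_apply, smul_eq_mul]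
  linear_combination (μ * hermForm n F q x v * v i) * hcomm

theorem exists_norm_ne_one (hF : Fintype.card F = q ^ 2) (hq : 3 ≤ q) :
    ∃ L : F, L ≠ 0 ∧ L * L ^ q ≠ 1 := by
  classical
  obtain ⟨γ, hγ⟩ := IsCyclic.exists_generator (α := Fˣ)
  have hord : orderOf γ = q ^ 2 - 1 := by
    rw [orderOf_eq_card_of_forall_mem_zpowers hγ, Nat.card_eq_fintype_card, Fintype.card_units, hF]
  refine ⟨(γ : F), γ.ne_zero, ?_⟩
  intro h
  have h1 : γ ^ (q + 1) = 1 := by
    apply Units.ext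
    rw [Units.val_pow_eq_pow_val, Units.val_one, pow_succ']
    exact h
  have h2 := orderOf_dvd_of_pow_eq_one h1
  rw [hord] at h2
  have h3 := Nat.le_of_dvd (by omega) h2
  have h4 : q ^ 2 ≥ 3 * q := by nlinarith
  omega

theorem case3 (hF : Fintype.card F = q ^ 2) (hq : 3 ≤ q) (v : Fin 3 → F) (hv : v ≠ 0)
    (hvv : hermForm 3 F q v v = 0) (c : F) (hc : c ^ q = -c) :
    ∃ B C : Matrix (Fin 3) (Fin 3) F, B.det = 1 ∧ C.det = 1 ∧
      (∀ x y, hermForm 3 F q (B *ᵥ x) (B *ᵥ y) = hermForm 3 F q x y) ∧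
      (∀ x y, hermForm 3 F q (C *ᵥ x) (C *ᵥ y) = hermForm 3 F q x y) ∧
      B * C = Cfsg.unitaryTransvection 3 q v c * (C * B) := by
  obtain ⟨v', hv'v, hvv', hv'v'⟩ := exists_herm_partner hF v hv hvv
  obtain ⟨L, hL0, hLN⟩ := exists_norm_ne_one hF hq
  obtain ⟨K, hK⟩ : ∃ K : F, K = L ^ q := ⟨_, rfl⟩
  have hK0 : K ≠ 0 := by rw [hK]; exact pow_ne_zero _ hL0
  have hKq : K ^ q = L := by rw [hK, pow_q_q hF]
  have hLq : L ^ q = K := hK.symm
  have hD : L * K - 1 ≠ 0 := by rw [hK]; exact sub_ne_zero.mpr hLN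
  have hL2 : (L ^ 2) ^ q = K ^ 2 := by rw [← pow_mul, mul_comm, pow_mul, hLq]
  have hK2 : (K ^ 2) ^ q = L ^ 2 := by rw [← pow_mul, mul_comm, pow_mul, hKq]
  refine ⟨Bm q (K / L) (L ^ 2 / K - 1) (L / K ^ 2 - 1) v v',
    Cfsg.unitaryTransvection 3 q v (c / (L * K - 1)), ?_, T_det _ _ hvv, ?_, ?_, ?_⟩
  · rw [Bm_det _ _ _ _ _ hvv' hv'v]
    field_simp
    ring
  · apply Bm_pres hF _ _ _ _ _ hvv hv'v' hvv' hv'v
    · rw [div_pow, hKq, hLq]
      field_simp
    · rw [sub_pow_q hF, div_pow, one_pow, hL2, hKq]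
      field_simp
      ring
    · rw [sub_pow_q hF, div_pow, one_pow, hK2, hLq]
      field_simp
      ring
  · apply T_pres hF _ _ hvv
    rw [div_pow, sub_pow_q hF, mul_pow, hLq, hKq, one_pow, hc, mul_comm K L, neg_div]
  · apply Bm_comm _ _ _ _ _ _ _ hvv hv'v' hvv' hv'v
    field_simp
    ring

/-- an element of `SU` from a matrix -/
def mkSU (M : Matrix (Fin n) (Fin n) F) (hdet : M.det = 1)
    (hpres : ∀ x y, hermForm n F q (M *ᵥ x) (M *ᵥ y) = hermForm n F q x y) :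
    ↥(Cfsg.SU n F q) :=
  ⟨⟨M, hdet⟩, fun x y => hpres x y⟩

end

/-- In SU_n(q) with n ≥ 4, or n = 3 and q > 2, every element whose matrix is a unitary transvection x ↦ x + c h(x, v) v (v isotropic) is a commutator ⁅B, C⁆ of two elements of SU_n(q). -/
theorem result {F : Type*} [Field F] [Fintype F] {q : ℕ} (hF : Fintype.card F = q ^ 2) (n : ℕ) (hn : 4 ≤ n ∨ (n = 3 ∧ 3 ≤ q)) (A : ↥(Cfsg.SU n F q)) (v : Fin n → F) (c : F) (hv0 : Cfsg.hermForm n F q v v = 0) (hA : ((A : Matrix.SpecialLinearGroup (Fin n) F) : Matrix (Fin n) (Fin n) F) = Cfsg.unitaryTransvection n q v c) : A ∈ commutatorSet ↥(Cfsg.SU n F q) := by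
  classical
  rw [mem_commutatorSet_iff]
  by_cases hv : v = 0
  · refine ⟨1, 1, ?_⟩
    rw [commutatorElement_one_right]
    apply Subtype.ext
    apply Subtype.ext
    rw [hA, hv]
    simp [Cfsg.unitaryTransvection]
  · have hpres : ∀ x y, hermForm n F q (Cfsg.unitaryTransvection n q v c *ᵥ x)
        (Cfsg.unitaryTransvection n q v c *ᵥ y) = hermForm n F q x y := by
      intro x y
      have := A.2 x y
      rw [← hA]
      exact this
    have hc : c ^ q = -c := by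
      rcases (Cfsg.Agent.S0779.result hF n v hv hv0 c).mp hpres with h | h
      · rw [h, zero_pow (q_pos hF).ne', neg_zero]
      · have hq1 : q = (q - 1) + 1 := by have := q_pos hF; omega
        rw [hq1, pow_succ, h]
        ring
    obtain ⟨B, C, hBd, hCd, hBp, hCp, hBC⟩ : ∃ B C : Matrix (Fin n) (Fin n) F, B.det = 1 ∧
        C.det = 1 ∧
        (∀ x y, hermForm n F q (B *ᵥ x) (B *ᵥ y) = hermForm n F q x y) ∧
        (∀ x y, hermForm n F q (C *ᵥ x) (C *ᵥ y) = hermForm n F q x y) ∧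
        B * C = Cfsg.unitaryTransvection n q v c * (C * B) := by
      rcases hn with hn | ⟨rfl, hq⟩
      · exact case4 hF hn v hv hv0 c hc
      · exact case3 hF hq v hv hv0 c hc
    refine ⟨mkSU B hBd hBp, mkSU C hCd hCp, ?_⟩
    have key : mkSU B hBd hBp * mkSU C hCd hCp = A * (mkSU C hCd hCp * mkSU B hBd hBp) := by
      apply Subtype.ext
      apply Subtype.ext
      change B * C = (A : Matrix.SpecialLinearGroup (Fin n) F).1 * (C * B)
      rw [hA]
      exact hBC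
    rw [commutatorElement_def, key]
    group

end Cfsg.Agent.S0781

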