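import Cfsg.Statements.S5128
import Cfsg.Agent.Lib.Helper27.FusionLift

set_option autoImplicit false
open Cfsg

namespace Cfsg.Agent.S5128

open Cfsg.FusionSystem Cfsg.Agent.Lib.Helper27
open scoped Pointwise

/-- In a saturated fusion system over a finite p-group S, the product of two strongly closed subgroups is strongly closed. -/
theorem result {Ω : Type*} [Group Ω] {S : Subgroup Ω} [Finite S] (p : ℕ) [Fact p.Prime] (hS : IsPGroup p S) (F : Cfsg.FusionSystem S) (hF : F.IsSaturated p) (T₁ T₂ : Subgroup Ω) (h₁ : F.StronglyClosed T₁) (h₂ : F.StronglyClosed T₂) : F.StronglyClosed (T₁ ⊔ T₂) := by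
  refine ⟨sup_le h₁.1 h₂.1, fun R hR φ hφ x => ?_⟩
  obtain ⟨ψ, hψ, hψφ⟩ := exists_lift hS hF h₁ hφ
  have hx : (x : Ω) ∈ ((T₁ ⊔ T₂ : Subgroup Ω) : Set Ω) := hR x.2
  rw [Subgroup.coe_mul_of_left_le_normalizer_right T₁ T₂
    (h₁.1.trans (le_normalizer_of_stronglyClosed h₂))] at hx
  obtain ⟨t₁, ht₁, t₂, ht₂, hxt⟩ := hx
  have ht₁' : t₁ ∈ R ⊔ T₁ := Subgroup.mem_sup_right ht₁
  have ht₂' : t₂ ∈ R ⊔ T₁ := by
    have : t₂ = t₁⁻¹ * (x : Ω) := by rw [← hxt]; group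
    rw [this]
    exact Subgroup.mul_mem _ (Subgroup.inv_mem _ ht₁') (Subgroup.mem_sup_left x.2)
  have hsplit : Subgroup.inclusion (le_sup_left : R ≤ R ⊔ T₁) x = ⟨t₁, ht₁'⟩ * ⟨t₂, ht₂'⟩ :=
    Subtype.ext hxt.symm
  have h3 : ψ (Subgroup.inclusion (le_sup_left : R ≤ R ⊔ T₁) x) ∈ T₁ ⊔ T₂ := by
    rw [hsplit, map_mul]
    exact Subgroup.mul_mem _
      (Subgroup.mem_sup_left (stronglyClosed_hom_mem h₁ hψ (x := ⟨t₁, ht₁'⟩) ht₁))
      (Subgroup.mem_sup_right (stronglyClosed_hom_mem h₂ hψ (x := ⟨t₂, ht₂'⟩) ht₂))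
  have h4 : (φ x)⁻¹ * ψ (Subgroup.inclusion (le_sup_left : R ≤ R ⊔ T₁) x) ∈ T₁ ⊔ T₂ :=
    Subgroup.mem_sup_left (hψφ x)
  have h5 := Subgroup.mul_mem _ h3 (Subgroup.inv_mem _ h4)
  have h6 : ψ (Subgroup.inclusion (le_sup_left : R ≤ R ⊔ T₁) x) *
      ((φ x)⁻¹ * ψ (Subgroup.inclusion (le_sup_left : R ≤ R ⊔ T₁) x))⁻¹ = φ x := by group
  rw [h6] at h5
  exact h5

end Cfsg.Agent.S5128
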