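import Mathlib
import Cfsg.Statements.S0544
import Cfsg.Agent.Lib.Helper4.ComplementSystem
import Cfsg.Agent.Lib.Helper10.CNGroup

set_option autoImplicit false
open Cfsg

namespace Cfsg.Agent.S0544

open Cfsg.Agent.Lib.Helper4

theorem systemNormalizer_le_normalizer {G : Type*} [Group G] (K : Nat.Primes → Subgroup G)
    (r : Nat.Primes) : Cfsg.systemNormalizer K ≤ Subgroup.normalizer (K r : Set G) := by
  unfold Cfsg.systemNormalizer
  exact iInf_le _ r

/-- a `p`-element of the system normalizer lies in every `K r`, `r ≠ p` -/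
theorem mem_of_orderOf {G : Type*} [Group G] [Finite G] (K : Nat.Primes → Subgroup G)
    (hK : Cfsg.IsComplementSystem K) (z : G) (hz : z ∈ Cfsg.systemNormalizer K) (p k : ℕ)
    (hp : p.Prime) (hzo : orderOf z = p ^ k) (r : Nat.Primes) (hr : (r : ℕ) ≠ p) : z ∈ K r := by
  have h1 : Subgroup.zpowers z ≤ Subgroup.normalizer (K r : Set G) := by
    rw [Subgroup.zpowers_le]
    exact systemNormalizer_le_normalizer K r hz
  have h2 : (Nat.card (Subgroup.zpowers z)).Coprime (K r).index := by
    rw [Nat.card_zpowers, hzo, hK r]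
    apply Nat.Coprime.pow
    rw [Nat.coprime_primes hp r.2]
    exact fun h => hr h.symm
  exact le_of_le_normalizer_of_coprime _ _ h1 h2 (Subgroup.mem_zpowers z)

theorem iInf_eq_bot {G : Type*} [Group G] [Finite G] (K : Nat.Primes → Subgroup G)
    (hK : Cfsg.IsComplementSystem K) : (⨅ r, K r) = ⊥ := by
  rw [← Subgroup.card_eq_one, Nat.eq_one_iff_not_exists_prime_dvd]
  intro r hr hd
  apply not_dvd_card_of_complement r hr (K ⟨r, hr⟩) (hK ⟨r, hr⟩)
  exact hd.trans (Subgroup.card_dvd_of_le (iInf_le _ _))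

/-- In a finite solvable group the intersection of the normalizers of the members of a Hall complement system is a nilpotent subgroup. -/
theorem result {G : Type*} [Group G] [Finite G] [Group.IsSolvable G] (K : Nat.Primes → Subgroup G) (hK : Cfsg.IsComplementSystem K) : Group.IsNilpotent (Cfsg.systemNormalizer K) := by
  apply Cfsg.Agent.Lib.Helper10.isNilpotent_of_commute_coprime
  intro x y hx hy hcop
  rw [isPrimePow_nat_iff] at hx hy
  obtain ⟨p, k, hp, hk, hpk⟩ := hx
  obtain ⟨q, l, hq, hl, hql⟩ := hy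
  have hpq : p ≠ q := by
    rintro rfl
    rw [← hpk, ← hql] at hcop
    have : p ∣ Nat.gcd (p ^ k) (p ^ l) := Nat.dvd_gcd (dvd_pow_self p hk.ne') (dvd_pow_self p hl.ne')
    rw [hcop] at this
    exact hp.one_lt.ne' (Nat.dvd_one.mp this)
  have hxo : orderOf (x : G) = p ^ k := by rw [Subgroup.orderOf_coe, hpk]
  have hyo : orderOf (y : G) = q ^ l := by rw [Subgroup.orderOf_coe, hql]
  have hmem : (x : G) * y * (x : G)⁻¹ * (y : G)⁻¹ ∈ ⨅ r, K r := by
    rw [Subgroup.mem_iInf]
    intro r
    have hxn := systemNormalizer_le_normalizer K r x.2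
    have hyn := systemNormalizer_le_normalizer K r y.2
    by_cases hr : (r : ℕ) = p
    · have hy' : (y : G) ∈ K r :=
        mem_of_orderOf K hK y y.2 q l hq hyo r (by rw [hr]; exact hpq)
      have h1 : (x : G) * y * (x : G)⁻¹ ∈ K r := (Subgroup.mem_normalizer_iff.mp hxn _).mp hy'
      exact (K r).mul_mem h1 ((K r).inv_mem hy')
    · have hx' : (x : G) ∈ K r := mem_of_orderOf K hK x x.2 p k hp hxo r hr
      have h1 : (y : G) * (x : G)⁻¹ * (y : G)⁻¹ ∈ K r :=
        (Subgroup.mem_normalizer_iff.mp hyn _).mp ((K r).inv_mem hx')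
      have h2 : (x : G) * y * (x : G)⁻¹ * (y : G)⁻¹ = (x : G) * ((y : G) * (x : G)⁻¹ * (y : G)⁻¹) := by
        group
      rw [h2]
      exact (K r).mul_mem hx' h1
  rw [iInf_eq_bot K hK, Subgroup.mem_bot] at hmem
  apply Subtype.ext
  rw [Subgroup.coe_mul, Subgroup.coe_mul]
  have h3 : (x : G) * y = ((x : G) * y * (x : G)⁻¹ * (y : G)⁻¹) * (y * x) := by group
  rw [h3, hmem, one_mul]

end Cfsg.Agent.S0544
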