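import Cfsg.Statements.S0538
import Cfsg.Agent.Lib.Helper20.Subnormal
import Mathlib

set_option autoImplicit false
open Cfsg
open scoped Pointwise

namespace Cfsg.Agent.S0538

universe u

theorem conj_smul_eq_self_iff {G : Type*} [Group G] (g : G) (X : Subgroup G) :
    MulAut.conj g • X = X ↔ g ∈ Subgroup.normalizer (X : Set G) := by
  rw [Subgroup.mem_normalizer_iff_map_conj_eq]; rfl

/-- an element normalizing every member of a family normalizes its join -/
theorem mem_normalizer_sSup {G : Type*} [Group G] (S : Set (Subgroup G)) (x : G)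
    (h : ∀ A ∈ S, x ∈ Subgroup.normalizer (A : Set G)) :
    x ∈ Subgroup.normalizer ((sSup S : Subgroup G) : Set G) := by
  have hmap : ∀ y : G, (∀ A ∈ S, y ∈ Subgroup.normalizer (A : Set G)) →
      ∀ z ∈ sSup S, y * z * y⁻¹ ∈ sSup S := by
    intro y hy z hz
    rw [sSup_eq_iSup'] at hz
    refine Subgroup.iSup_induction (fun a : S => (a : Subgroup G))
      (C := fun z => y * z * y⁻¹ ∈ sSup S) hz ?_ ?_ ?_
    · rintro ⟨A, hA⟩ z hz
      exact (le_sSup hA : A ≤ sSup S) ((Subgroup.mem_normalizer_iff.mp (hy A hA) z).mp hz)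
    · simp
    · intro a b iha ihb
      have : y * (a * b) * y⁻¹ = (y * a * y⁻¹) * (y * b * y⁻¹) := by group
      rw [this]; exact Subgroup.mul_mem _ iha ihb
  rw [Subgroup.mem_normalizer_iff]
  intro z
  refine ⟨hmap x h z, fun hz => ?_⟩
  have := hmap x⁻¹ (fun A hA => Subgroup.inv_mem _ (h A hA)) _ hz
  have e : x⁻¹ * (x * z * x⁻¹) * x⁻¹⁻¹ = z := by group
  rwa [e] at this

theorem mem_normalizer_sup {G : Type*} [Group G] (A B : Subgroup G) (x : G)
    (hA : x ∈ Subgroup.normalizer (A : Set G)) (hB : x ∈ Subgroup.normalizer (B : Set G)) :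
    x ∈ Subgroup.normalizer ((A ⊔ B : Subgroup G) : Set G) := by
  have := mem_normalizer_sSup {A, B} x (by
    intro C hC
    rcases hC with rfl | rfl
    · exact hA
    · exact hB)
  rwa [sSup_pair] at this

theorem main (n : ℕ) : ∀ (G : Type u) [Group G] [Finite G], Nat.card G = n →
    ∀ A B : Subgroup G, A.IsSubnormal → B.IsSubnormal → (A ⊔ B).IsSubnormal := by
  induction n using Nat.strong_induction_on with
  | _ n ih =>
    intro G _ _ hcard A B hA hB
    rcases subsingleton_or_nontrivial G with hs | hnt
    · have : A ⊔ B = ⊤ := Subsingleton.elim _ _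
      rw [this]; exact Subgroup.IsSubnormal.top
    · obtain ⟨M, hM, -⟩ := Cfsg.Agent.Lib.Helper20.exists_isMinNormal_le
        (inferInstance : (⊤ : Subgroup G).Normal) top_ne_bot
      have hMn : M.Normal := hM.1
      have hlt : Nat.card (G ⧸ M) < n := by
        rw [← hcard, Subgroup.card_eq_card_quotient_mul_card_subgroup M]
        have h0 : 0 < Nat.card (G ⧸ M) := Nat.card_pos
        have h1 : 1 < Nat.card M := by
          rw [Subgroup.one_lt_card_iff_ne_bot]; exact hM.2.1
        nlinarith
      set π := QuotientGroup.mk' M with hπ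
      have hsurj : Function.Surjective π := QuotientGroup.mk'_surjective M
      have h1 := ih _ hlt (G ⧸ M) rfl (A.map π) (B.map π) (hA.map hsurj) (hB.map hsurj)
      rw [← Subgroup.map_sup] at h1
      have h2 := h1.comap π
      rw [Subgroup.comap_map_eq, hπ, QuotientGroup.ker_mk'] at h2
      have hMA := hM.le_normalizer_of_isSubnormal hA
      have hMB := hM.le_normalizer_of_isSubnormal hB
      have hMAB : M ≤ Subgroup.normalizer ((A ⊔ B : Subgroup G) : Set G) := fun x hx =>
        mem_normalizer_sup A B x (hMA hx) (hMB hx)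
      refine Subgroup.IsSubnormal.step (A ⊔ B) (A ⊔ B ⊔ M) le_sup_left h2 ?_
      rw [Subgroup.normal_subgroupOf_iff_le_normalizer le_sup_left]
      exact sup_le Subgroup.le_normalizer hMAB

/-- The join of two subnormal subgroups of a finite group is subnormal. -/
theorem result {G : Type*} [Group G] [Finite G] (A B : Subgroup G) (hA : A.IsSubnormal) (hB : B.IsSubnormal) : (A ⊔ B).IsSubnormal := by
  exact main _ G rfl A B hA hB

end Cfsg.Agent.S0538
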