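import Mathlib
import Cfsg.Statements.S0545
import Cfsg.Agent.Lib.Helper4.ComplementSystem
import Cfsg.Agent.S0538

set_option autoImplicit false
open Cfsg

namespace Cfsg.Agent.S0545

open Pointwise
open Cfsg.Agent.Lib.Helper4 Cfsg.Agent.Lib.Helper1

theorem index_conj_smul {G : Type*} [Group G] [Finite G] (x : G) (H : Subgroup G) :
    (MulAut.conj x • H).index = H.index := by
  have h1 := Subgroup.card_mul_index (MulAut.conj x • H)
  have h2 := Subgroup.card_mul_index H
  rw [card_conj_smul, ← h2] at h1
  exact Nat.eq_of_mul_eq_mul_left Nat.card_pos h1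

/-- a conjugate of a complement system is a complement system -/
theorem isComplementSystem_conj {G : Type*} [Group G] [Finite G] (K : Nat.Primes → Subgroup G)
    (hK : Cfsg.IsComplementSystem K) (x : G) :
    Cfsg.IsComplementSystem (fun p => MulAut.conj x • K p) := by
  intro p
  rw [index_conj_smul]; exact hK p

theorem mem_systemNormalizer_iff {G : Type*} [Group G] (K : Nat.Primes → Subgroup G) (x : G) :
    x ∈ Cfsg.systemNormalizer K ↔ ∀ p, MulAut.conj x • K p = K p := by
  unfold Cfsg.systemNormalizer
  rw [Subgroup.mem_iInf]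
  exact forall_congr' fun p => (Cfsg.Agent.S0538.conj_smul_eq_self_iff x (K p)).symm

/-- the image of a complement system in a quotient is a complement system -/
theorem isComplementSystem_map {G : Type*} [Group G] [Finite G] (K : Nat.Primes → Subgroup G)
    (hK : Cfsg.IsComplementSystem K) (N : Subgroup G) [N.Normal] :
    Cfsg.IsComplementSystem (fun p => (K p).map (QuotientGroup.mk' N)) := by
  intro p
  have hp : (p : ℕ).Prime := p.2
  have hsurj : Function.Surjective (QuotientGroup.mk' N) := QuotientGroup.mk'_surjective N
  show ((K p).map (QuotientGroup.mk' N)).index = _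
  set Kb := (K p).map (QuotientGroup.mk' N) with hKb
  have hidx : Kb.index ∣ (p : ℕ) ^ (Nat.card G).factorization p := by
    rw [← hK p, ← Subgroup.index_comap_of_surjective Kb hsurj, hKb, Subgroup.comap_map_eq]
    exact Subgroup.index_dvd_of_le le_sup_left
  obtain ⟨b, _, hb⟩ := (Nat.dvd_prime_pow hp).mp hidx
  have hnd : ¬ (p : ℕ) ∣ Nat.card Kb := by
    intro hd
    apply not_dvd_card_of_complement p hp (K p) (hK p)
    refine hd.trans ?_
    rw [← card_map_mul_card_inf_ker (QuotientGroup.mk' N) (K p)]
    exact Dvd.intro _ rfl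
  have hcard := Subgroup.card_mul_index Kb
  rw [hb] at hcard
  rw [hb, ← hcard]
  have hKb0 : Nat.card Kb ≠ 0 := Nat.card_pos.ne'
  rw [Nat.factorization_mul hKb0 (pow_ne_zero _ hp.ne_zero), Finsupp.add_apply,
    Nat.factorization_eq_zero_of_not_dvd hnd, zero_add, Nat.Prime.factorization_pow hp,
    Finsupp.single_eq_same]

theorem main {G : Type*} [Group G] [Finite G] [Group.IsSolvable G] (K : Nat.Primes → Subgroup G)
    (hK : Cfsg.IsComplementSystem K) (N : Subgroup G) [N.Normal] :
    Cfsg.systemNormalizer (fun p => (K p).map (QuotientGroup.mk' N)) =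
      (Cfsg.systemNormalizer K).map (QuotientGroup.mk' N) := by
  apply le_antisymm
  · intro y hy
    obtain ⟨x, rfl⟩ := QuotientGroup.mk'_surjective N y
    rw [mem_systemNormalizer_iff] at hy
    have hL := isComplementSystem_conj K hK x
    have hKL : ∀ p, K p ⊔ N = (fun p => MulAut.conj x • K p) p ⊔ N := by
      intro p
      have h1 := hy p
      rw [← map_conj_smul] at h1
      have h2 := congrArg (Subgroup.comap (QuotientGroup.mk' N)) h1
      rw [Subgroup.comap_map_eq, Subgroup.comap_map_eq, QuotientGroup.ker_mk'] at h2
      exact h2.symm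
    obtain ⟨n, hn, hn'⟩ := exists_conj_system N K _ hK hL hKL
    refine ⟨n⁻¹ * x, ?_, ?_⟩
    · show n⁻¹ * x ∈ Cfsg.systemNormalizer K
      rw [mem_systemNormalizer_iff]
      intro p
      rw [map_mul, mul_smul]
      have := hn' p
      rw [← this, map_inv, inv_smul_smul]
    · rw [map_mul, map_inv]
      have : (QuotientGroup.mk' N) n = 1 := by
        rw [QuotientGroup.mk'_apply, QuotientGroup.eq_one_iff]; exact hn
      rw [this, inv_one, one_mul]
  · rintro _ ⟨x, hx, rfl⟩
    have hx' : x ∈ Cfsg.systemNormalizer K := hx
    rw [mem_systemNormalizer_iff] at hx' ⊢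
    intro p
    rw [← map_conj_smul, hx' p]

/-- Let K be a Hall complement system of a finite solvable group G and N a normal subgroup. Then the images of the K p in G modulo N form a Hall complement system of the quotient, and its system normalizer is the image of the system normalizer of K. -/
theorem result {G : Type*} [Group G] [Finite G] [Group.IsSolvable G] (K : Nat.Primes → Subgroup G) (hK : Cfsg.IsComplementSystem K) (N : Subgroup G) [N.Normal] : Cfsg.IsComplementSystem (fun p => (K p).map (QuotientGroup.mk' N)) ∧ Cfsg.systemNormalizer (fun p => (K p).map (QuotientGroup.mk' N)) = (Cfsg.systemNormalizer K).map (QuotientGroup.mk' N) :=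
  ⟨isComplementSystem_map K hK N, main K hK N⟩

end Cfsg.Agent.S0545
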