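import Cfsg.Statements.S3061
import Mathlib.GroupTheory.Nilpotent
import Mathlib.GroupTheory.Commutator.Basic
import Mathlib.Tactic.Group
import Cfsg.Agent.Lib.Helper18.CentrallyLarge

set_option autoImplicit false
open Cfsg
open scoped commutatorElement
open Cfsg.Agent.Lib.Helper18

namespace Cfsg.Agent.S3061

/-- If `Z₂ ≤ Z₁` in a nilpotent group, the group is its own centre. -/
theorem ucs_le_one {G : Type*} [Group G]
    (h : Subgroup.upperCentralSeries G 2 ≤ Subgroup.upperCentralSeries G 1) :
    ∀ n, Subgroup.upperCentralSeries G n ≤ Subgroup.upperCentralSeries G 1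
  | 0 => by rw [Subgroup.upperCentralSeries_zero]; exact bot_le
  | n + 1 => by
    intro x hx
    apply h
    rw [Subgroup.mem_upperCentralSeries_succ_iff] at hx ⊢
    intro y
    exact ucs_le_one h n (hx y)

theorem center_eq_top_of_ucs {G : Type*} [Group G] [Group.IsNilpotent G]
    (h : Subgroup.upperCentralSeries G 2 ≤ Subgroup.upperCentralSeries G 1) :
    Subgroup.center G = ⊤ := by
  obtain ⟨n, hn⟩ := Group.IsNilpotent.nilpotent G
  have := ucs_le_one h n
  rw [hn, Subgroup.upperCentralSeries_one] at this
  exact top_le_iff.mp this

/-- An abelian subgroup together with an element of the second centre generates a subgroup of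
class at most two. -/
theorem class_two_of_mem_ucs_two {G : Type*} [Group G] (A : Subgroup G) (hA : IsMulCommutative A)
    (x : G) (hx : x ∈ Subgroup.upperCentralSeries G 2) :
    ⁅⁅A ⊔ Subgroup.zpowers x, A ⊔ Subgroup.zpowers x⁆, A ⊔ Subgroup.zpowers x⁆ = ⊥ := by
  set H := A ⊔ Subgroup.zpowers x with hH
  have hle : ⁅H, H⁆ ≤ Subgroup.center G := by
    have hπx : (QuotientGroup.mk' (Subgroup.center G)) x ∈ Subgroup.center (G ⧸ Subgroup.center G) := by
      have := Subgroup.comap_upperCentralSeries_quotient_center (G := G) 1
      rw [Subgroup.upperCentralSeries_one] at this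
      have hx' : x ∈ Subgroup.comap (QuotientGroup.mk' (Subgroup.center G))
          (Subgroup.center (G ⧸ Subgroup.center G)) := by rw [this]; exact hx
      exact hx'
    have hmap : Subgroup.map (QuotientGroup.mk' (Subgroup.center G)) H =
        Subgroup.map (QuotientGroup.mk' (Subgroup.center G)) A ⊔
          Subgroup.zpowers ((QuotientGroup.mk' (Subgroup.center G)) x) := by
      rw [hH, Subgroup.map_sup, MonoidHom.map_zpowers]
    have hcomm : IsMulCommutative ↥(Subgroup.map (QuotientGroup.mk' (Subgroup.center G)) H) := by
      rw [hmap]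
      apply isMulCommutative_sup
      · apply le_centralizer_of_isMulCommutative
        exact Subgroup.map_isMulCommutative A _
      · exact le_centralizer_of_isMulCommutative _ inferInstance
      · intro a _
        rw [Subgroup.mem_centralizer_iff]
        intro y hy
        obtain ⟨k, rfl⟩ := Subgroup.mem_zpowers_iff.mp hy
        have : (QuotientGroup.mk' (Subgroup.center G)) x ^ k ∈
            Subgroup.center (G ⧸ Subgroup.center G) := Subgroup.zpow_mem _ hπx k
        exact (Subgroup.mem_center_iff.mp this a).symm
    have h0 : Subgroup.map (QuotientGroup.mk' (Subgroup.center G)) ⁅H, H⁆ = ⊥ := by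
      rw [Subgroup.map_commutator, Subgroup.commutator_self_eq_bot_iff]
      exact hcomm
    rw [← QuotientGroup.ker_mk' (Subgroup.center G)]
    exact (Subgroup.map_eq_bot_iff _).mp h0
  have := Subgroup.commutator_mono hle (le_refl H)
  rw [Subgroup.commutator_center_left] at this
  exact le_bot_iff.mp this


/-- Let S be a finite p-group. Then D*(S) itself belongs to the family that generates it: D*(S) is abelian, and every x ∈ S with ⟨D*(S), x⟩ of class at most two centralizes D*(S). Hence D*(S) is the unique maximal member of that family. -/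
theorem result {S : Type*} [Group S] [Finite S] {p : ℕ} [Fact p.Prime] (hS : IsPGroup p S) :
    Cfsg.dStar S ∈ Cfsg.dStarFamily S := by
  have hnil : Group.IsNilpotent S := hS.isNilpotent
  set T := Cfsg.dStar S with hT
  -- members of the family centralize anything generating class two with them
  have hmem : ∀ A ∈ Cfsg.dStarFamily S, ∀ x : S,
      ⁅⁅T ⊔ Subgroup.zpowers x, T ⊔ Subgroup.zpowers x⁆, T ⊔ Subgroup.zpowers x⁆ = ⊥ →
      A ≤ Subgroup.centralizer ({x} : Set S) := by
    intro A hA x hx a ha
    have hAT : A ≤ T := le_sSup hA
    have hle : A ⊔ Subgroup.zpowers x ≤ T ⊔ Subgroup.zpowers x := sup_le_sup_right hAT _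
    have h3 : ⁅⁅A ⊔ Subgroup.zpowers x, A ⊔ Subgroup.zpowers x⁆, A ⊔ Subgroup.zpowers x⁆ = ⊥ := by
      have := Subgroup.commutator_mono (Subgroup.commutator_mono hle hle) hle
      rw [hx] at this
      exact le_bot_iff.mp this
    rw [Subgroup.mem_centralizer_singleton_iff]
    exact hA.2 x h3 a ha
  -- second centre of T is central
  have hucs : Subgroup.upperCentralSeries ↥T 2 ≤ Subgroup.upperCentralSeries ↥T 1 := by
    intro x hx
    rw [Subgroup.upperCentralSeries_one, Subgroup.mem_center_iff]
    have hcent : T ≤ Subgroup.centralizer ({(x : S)} : Set S) := by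
      apply sSup_le
      intro A hA
      have hAT : A ≤ T := le_sSup hA
      intro a ha
      rw [Subgroup.mem_centralizer_singleton_iff]
      apply hA.2 (x : S) _ a ha
      have hA' : IsMulCommutative ↥(A.subgroupOf T) := by
        have := hA.1
        rw [← Subgroup.le_centralizer_iff_isMulCommutative] at this ⊢
        intro u hu v hv
        apply Subtype.ext
        exact this hu v hv
      have h1 := class_two_of_mem_ucs_two (A.subgroupOf T) hA' x hx
      have h2 : (A.subgroupOf T ⊔ Subgroup.zpowers x).map T.subtype =
          A ⊔ Subgroup.zpowers (x : S) := by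
        rw [Subgroup.map_sup, Subgroup.map_subgroupOf_eq_of_le hAT, MonoidHom.map_zpowers]
        rfl
      rw [← h2, ← Subgroup.map_commutator, ← Subgroup.map_commutator, h1, Subgroup.map_bot]
    intro g
    have := hcent g.2
    rw [Subgroup.mem_centralizer_singleton_iff] at this
    apply Subtype.ext
    exact this
  have hcenter := center_eq_top_of_ucs hucs
  refine ⟨?_, ?_⟩
  · rw [← Subgroup.le_centralizer_iff_isMulCommutative]
    intro g hg h hh
    have h1 : (⟨g, hg⟩ : ↥T) ∈ Subgroup.center ↥T := by rw [hcenter]; trivial
    have h2 := Subgroup.mem_center_iff.mp h1 ⟨h, hh⟩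
    exact congrArg Subtype.val h2
  · intro x hx a ha
    have hle : T ≤ Subgroup.centralizer ({x} : Set S) := by
      apply sSup_le
      intro A hA
      exact hmem A hA x hx
    have := hle ha
    rw [Subgroup.mem_centralizer_singleton_iff] at this
    exact this

end Cfsg.Agent.S3061
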