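import Cfsg.Statements.S0086

set_option autoImplicit false
open Pointwise
open Cfsg

namespace Cfsg.Agent.S0086

/-- A normal complement to a Sylow p-subgroup is exactly the set of elements of order prime to p. -/
theorem result {G : Type*} [Group G] [Finite G] {p : ℕ} [Fact p.Prime] (P : Sylow p G) (N : Subgroup G) [N.Normal] (hN : N.IsComplement' (P : Subgroup G)) (x : G) : x ∈ N ↔ Nat.Coprime (orderOf x) p := by
  have hp : p.Prime := Fact.out
  have hcard : Nat.card N * Nat.card (P : Subgroup G) = Nat.card G := hN.card_mul_card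
  have hidx : Nat.card N = (P : Subgroup G).index := by
    have h1 := (P : Subgroup G).card_mul_index
    have hpos : 0 < Nat.card (P : Subgroup G) := Nat.card_pos
    nlinarith [h1, hcard]
  constructor
  · intro hx
    have h1 : orderOf x ∣ Nat.card N := by
      have := orderOf_dvd_natCard (⟨x, hx⟩ : N)
      rwa [Subgroup.orderOf_mk] at this
    have h2 : ¬ p ∣ Nat.card N := by
      rw [hidx]; exact P.not_dvd_index
    have h3 : Nat.Coprime (Nat.card N) p := ((Nat.Prime.coprime_iff_not_dvd hp).2 h2).symm
    exact Nat.Coprime.coprime_dvd_left h1 h3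
  · intro hx
    -- the image of x in G ⧸ N has order dividing a power of p and coprime to p
    have hq : Nat.card (G ⧸ N) = Nat.card (P : Subgroup G) := by
      have h1 := N.card_mul_index
      rw [Subgroup.index_eq_card] at h1
      have hpos : 0 < Nat.card N := Nat.card_pos
      nlinarith [h1, hcard]
    obtain ⟨n, hn⟩ := (P.isPGroup').exists_card_eq
    have h1 : orderOf (x : G ⧸ N) ∣ p ^ n := by
      rw [← hn, ← hq]; exact orderOf_dvd_natCard _
    have h2 : orderOf (x : G ⧸ N) ∣ orderOf x := orderOf_map_dvd (QuotientGroup.mk' N) x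
    have h3 : Nat.Coprime (orderOf (x : G ⧸ N)) (p ^ n) :=
      Nat.Coprime.pow_right n (Nat.Coprime.coprime_dvd_left h2 hx)
    have h4 : orderOf (x : G ⧸ N) = 1 := Nat.Coprime.eq_one_of_dvd h3 h1
    rw [orderOf_eq_one_iff, QuotientGroup.eq_one_iff] at h4
    exact h4

end Cfsg.Agent.S0086
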