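import Cfsg.Statements.S1965
import Cfsg.Agent.Lib.Helper13.Conj
import Cfsg.Agent.Lib.Helper13.Sylow
import Cfsg.Agent.Lib.Helper13.PGroup

set_option autoImplicit false
open Cfsg

namespace Cfsg.Agent.S1965

open Cfsg.Agent.Lib.Helper13

variable {G : Type*} [Group G]

/-- A chain of conjugations inside normalizers of members of `𝓕`, starting from the set `A`. -/
def Valid (𝓕 : Set (Subgroup G)) : Set G → List (Subgroup G × G) → Prop
  | _, [] => True
  | A, (T, x) :: L => T ∈ 𝓕 ∧ x ∈ Subgroup.normalizer (T : Set G) ∧ A ⊆ T ∧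
      Valid 𝓕 ((fun a => x⁻¹ * a * x) '' A) L

theorem rconj_rconj (A : Set G) (x y : G) :
    (fun a => y⁻¹ * a * y) '' ((fun a => x⁻¹ * a * x) '' A) = (fun a => (x * y)⁻¹ * a * (x * y)) '' A := by
  rw [Set.image_image]
  congr 1
  funext a
  group

theorem rconj_one (A : Set G) : (fun a => (1 : G)⁻¹ * a * 1) '' A = A := by
  simp

theorem valid_mono (𝓕 : Set (Subgroup G)) {A A' : Set G} (h : A' ⊆ A) (L : List (Subgroup G × G)) :
    Valid 𝓕 A L → Valid 𝓕 A' L := by
  induction L generalizing A A' with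
  | nil => intro _; trivial
  | cons Tx L ih =>
    obtain ⟨T, x⟩ := Tx
    rintro ⟨h1, h2, h3, h4⟩
    exact ⟨h1, h2, h.trans h3, ih (Set.image_mono h) h4⟩

theorem valid_append (𝓕 : Set (Subgroup G)) (A : Set G) (L1 L2 : List (Subgroup G × G)) :
    Valid 𝓕 A L1 → Valid 𝓕 ((fun a => ((L1.map Prod.snd).prod)⁻¹ * a * (L1.map Prod.snd).prod) '' A) L2 →
    Valid 𝓕 A (L1 ++ L2) := by
  induction L1 generalizing A with
  | nil =>
    intro _ h
    simpa using h
  | cons Tx L ih =>
    obtain ⟨T, x⟩ := Tx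
    rintro ⟨h1, h2, h3, h4⟩ h5
    refine ⟨h1, h2, h3, ih _ h4 ?_⟩
    rw [rconj_rconj]
    simpa using h5

theorem valid_index (𝓕 : Set (Subgroup G)) (A : Set G) (L : List (Subgroup G × G)) (hL : Valid 𝓕 A L) :
    ∀ (i : ℕ) (hi : i < L.length), (L[i]).1 ∈ 𝓕 ∧ (L[i]).2 ∈ Subgroup.normalizer (((L[i]).1 : Subgroup G) : Set G) ∧
      (fun a => (((L.map Prod.snd).take i).prod)⁻¹ * a * ((L.map Prod.snd).take i).prod) '' A ⊆ (L[i]).1 := by
  induction L generalizing A with
  | nil => intro i hi; simp at hi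
  | cons Tx L ih =>
    obtain ⟨T, x⟩ := Tx
    obtain ⟨h1, h2, h3, h4⟩ := hL
    intro i hi
    cases i with
    | zero =>
      refine ⟨h1, h2, ?_⟩
      simpa using h3
    | succ j =>
      have hj : j < L.length := by simpa using hi
      obtain ⟨k1, k2, k3⟩ := ih _ h4 j hj
      refine ⟨by simpa using k1, by simpa using k2, ?_⟩
      rw [rconj_rconj] at k3
      simpa using k3

/-- The relation: `g` is a product of a valid chain starting at `A`. -/
def Reach (𝓕 : Set (Subgroup G)) (A : Set G) (g : G) : Prop :=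
  ∃ L : List (Subgroup G × G), Valid 𝓕 A L ∧ (L.map Prod.snd).prod = g

theorem reach_mono (𝓕 : Set (Subgroup G)) {A A' : Set G} (h : A' ⊆ A) {g : G} :
    Reach 𝓕 A g → Reach 𝓕 A' g := by
  rintro ⟨L, hL, hg⟩
  exact ⟨L, valid_mono 𝓕 h L hL, hg⟩

theorem reach_mul (𝓕 : Set (Subgroup G)) {A : Set G} {g h : G}
    (h1 : Reach 𝓕 A g) (h2 : Reach 𝓕 ((fun a => g⁻¹ * a * g) '' A) h) : Reach 𝓕 A (g * h) := by
  obtain ⟨L1, hL1, rfl⟩ := h1
  obtain ⟨L2, hL2, rfl⟩ := h2
  exact ⟨L1 ++ L2, valid_append 𝓕 A L1 L2 hL1 hL2, by simp⟩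

theorem reach_single (𝓕 : Set (Subgroup G)) {A : Set G} {T : Subgroup G} {x : G} (hT : T ∈ 𝓕)
    (hx : x ∈ Subgroup.normalizer (T : Set G)) (hA : A ⊆ T) : Reach 𝓕 A x :=
  ⟨[(T, x)], ⟨hT, hx, hA, trivial⟩, by simp⟩

/-- Conversion to the form used in `IsConjugationFamily`. -/
theorem reach_to_family (𝓕 : Set (Subgroup G)) {A : Set G} {g : G} (h : Reach 𝓕 A g) :
    ∃ (n : ℕ) (T : Fin n → Subgroup G) (x : Fin n → G), (List.ofFn x).prod = g ∧
      (∀ i, T i ∈ 𝓕) ∧ (∀ i, x i ∈ Subgroup.normalizer ((T i : Subgroup G) : Set G)) ∧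
      (∀ h : 0 < n, A ⊆ T ⟨0, h⟩) ∧
      ∀ (i : Fin n) (h : i.val + 1 < n),
        (fun a => (((List.ofFn x).take (i.val + 1)).prod)⁻¹ * a * ((List.ofFn x).take (i.val + 1)).prod) '' A ⊆
          T ⟨i.val + 1, h⟩ := by
  obtain ⟨L, hL, hg⟩ := h
  have key := valid_index 𝓕 A L hL
  have hofFn : List.ofFn (fun i : Fin L.length => (L[i]).2) = L.map Prod.snd :=
    List.ofFn_getElem_eq_map L Prod.snd
  refine ⟨L.length, fun i => (L[i]).1, fun i => (L[i]).2, ?_, ?_, ?_, ?_, ?_⟩
  · rw [hofFn]; exact hg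
  · intro i; exact (key i i.2).1
  · intro i; exact (key i i.2).2.1
  · intro h
    have := (key 0 h).2.2
    simpa using this
  · intro i h
    rw [hofFn]
    exact (key (i.val + 1) h).2.2


/-- image of a subgroup under right conjugation, as a set -/
theorem rconj_image_eq (T : Subgroup G) (b : G) :
    (fun a => b⁻¹ * a * b) '' (T : Set G) = ((T.map (MulAut.conj b⁻¹).toMonoidHom : Subgroup G) : Set G) := by
  ext y
  constructor
  · rintro ⟨t, ht, rfl⟩
    have := conj_mem_map_conj T b⁻¹ ht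
    simpa using this
  · intro hy
    have hy' : y ∈ T.map (MulAut.conj b⁻¹).toMonoidHom := hy
    rw [mem_map_conj_iff] at hy'
    refine ⟨b⁻¹⁻¹ * y * b⁻¹, hy', ?_⟩
    group

variable [Finite G] {p : ℕ} [Fact p.Prime]

theorem step_X (S : Sylow p G) (U T' : Subgroup G) (a : G)
    (hU : ¬ p ∣ ((S : Subgroup G) ⊓ Subgroup.normalizer ((U : Subgroup G) : Set G)).relIndex (Subgroup.normalizer ((U : Subgroup G) : Set G)))
    (ha : T'.map (MulAut.conj a).toMonoidHom = U) :
    ∃ a' : G, T'.map (MulAut.conj a').toMonoidHom = U ∧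
      ∀ q ∈ (S : Subgroup G) ⊓ Subgroup.normalizer (T' : Set G),
        a' * q * a'⁻¹ ∈ (S : Subgroup G) ⊓ Subgroup.normalizer (U : Set G) := by
  set Q : Subgroup G := ((S : Subgroup G) ⊓ Subgroup.normalizer (T' : Set G)).map (MulAut.conj a).toMonoidHom with hQ
  have hQp : IsPGroup p Q := (S.isPGroup'.to_le inf_le_left).map _
  have hQN : Q ≤ Subgroup.normalizer (U : Set G) := by
    rw [hQ, map_conj_le_iff]
    intro q hq
    have hqN : q ∈ Subgroup.normalizer (T' : Set G) := (Subgroup.mem_inf.mp hq).2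
    rw [← map_conj_eq_self_iff_mem_normalizer] at hqN ⊢
    rw [← ha, ← map_conj_mul]
    have : a * q * a⁻¹ * a = a * q := by group
    rw [this, map_conj_mul, hqN]
  have hSp : IsPGroup p ((S : Subgroup G) ⊓ Subgroup.normalizer (U : Set G) : Subgroup G) :=
    S.isPGroup'.to_le inf_le_left
  obtain ⟨n, hn, hnQ⟩ := exists_conj_le_of_relIndex (Subgroup.normalizer (U : Set G))
    ((S : Subgroup G) ⊓ Subgroup.normalizer (U : Set G)) Q hSp hU hQN hQp
  refine ⟨n * a, ?_, ?_⟩
  · rw [map_conj_mul, ha]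
    exact (map_conj_eq_self_iff_mem_normalizer U n).mpr hn
  · intro q hq
    have h1 : a * q * a⁻¹ ∈ Q := conj_mem_map_conj _ a hq
    have h2 := hnQ _ h1
    have : n * a * q * (n * a)⁻¹ = n * (a * q * a⁻¹) * n⁻¹ := by group
    rw [this]; exact h2

theorem main (S : Sylow p G) (𝓕 : Set (Subgroup G)) (h𝓕 : ∀ U ∈ 𝓕, U ≤ (S : Subgroup G))
    (h : ∀ T : Subgroup G, T ≤ (S : Subgroup G) → ∃ U ∈ 𝓕, (∃ g : G, T.map (MulAut.conj g).toMonoidHom = U) ∧
      ¬ p ∣ ((S : Subgroup G) ⊓ Subgroup.normalizer ((U : Subgroup G) : Set G)).relIndex (Subgroup.normalizer ((U : Subgroup G) : Set G))) :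
    ∀ (m : ℕ) (T : Subgroup G) (g : G), T ≤ (S : Subgroup G) → (∀ t ∈ T, g⁻¹ * t * g ∈ (S : Subgroup G)) →
      Nat.card (S : Subgroup G) - Nat.card T = m → Reach 𝓕 (T : Set G) g := by
  intro m
  induction m using Nat.strong_induction_on with
  | _ m ih =>
    intro T g hTS hTg hm
    by_cases hT : T = (S : Subgroup G)
    · -- top case
      subst hT
      have hS𝓕 : (S : Subgroup G) ∈ 𝓕 := by
        obtain ⟨U, hU, ⟨g0, hg0⟩, -⟩ := h (S : Subgroup G) le_rfl
        have hUS := h𝓕 U hU
        have hc : Nat.card U = Nat.card (S : Subgroup G) := by rw [← hg0, card_map_conj]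
        have : U = (S : Subgroup G) := Subgroup.eq_of_le_of_card_ge hUS hc.ge
        rw [← this]; exact hU
      have hgN : g ∈ Subgroup.normalizer ((S : Subgroup G) : Set G) := by
        have h1 : (S : Subgroup G).map (MulAut.conj g⁻¹).toMonoidHom ≤ (S : Subgroup G) := by
          rw [map_conj_le_iff]
          intro y hy
          have := hTg y hy
          simpa using this
        have h2 : (S : Subgroup G).map (MulAut.conj g⁻¹).toMonoidHom = (S : Subgroup G) :=
          Subgroup.eq_of_le_of_card_ge h1 (card_map_conj _ _).ge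
        have := (map_conj_eq_self_iff_mem_normalizer _ _).mp h2
        simpa using Subgroup.inv_mem _ this
      exact reach_single 𝓕 hS𝓕 hgN le_rfl
    · -- proper case
      have hTlt : T < (S : Subgroup G) := lt_of_le_of_ne hTS hT
      obtain ⟨U, hU𝓕, ⟨h0, hh0⟩, hUsyl⟩ := h T hTS
      -- general consequence of the induction hypothesis
      have IH : ∀ (V : Subgroup G) (b : G), V ≤ (S : Subgroup G) → (∀ v ∈ V, b⁻¹ * v * b ∈ (S : Subgroup G)) →
          Nat.card T < Nat.card V → Reach 𝓕 (V : Set G) b := by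
        intro V b hVS hVb hcard
        have hVle : Nat.card V ≤ Nat.card (S : Subgroup G) := Subgroup.card_le_of_le hVS
        have hTle : Nat.card T ≤ Nat.card (S : Subgroup G) := Subgroup.card_le_of_le hTS
        exact ih (Nat.card (S : Subgroup G) - Nat.card V) (by omega) V b hVS hVb rfl
      -- first leg: from T to U
      obtain ⟨a1, ha1, ha1N⟩ := step_X S U T h0 hUsyl hh0
      have hNT : T < (S : Subgroup G) ⊓ Subgroup.normalizer (T : Set G) :=
        lt_inf_normalizer_of_lt (S : Subgroup G) T S.isPGroup' hTlt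
      have leg1 : Reach 𝓕 (T : Set G) a1⁻¹ := by
        have : Reach 𝓕 (((S : Subgroup G) ⊓ Subgroup.normalizer (T : Set G) : Subgroup G) : Set G) a1⁻¹ := by
          apply IH _ _ inf_le_left
          · intro v hv
            have := (Subgroup.mem_inf.mp (ha1N v hv)).1
            simpa using this
          · exact card_lt_card_of_lt hNT
        exact reach_mono 𝓕 hNT.le this
      -- the second subgroup T2 = g⁻¹ T g
      set T2 : Subgroup G := T.map (MulAut.conj g⁻¹).toMonoidHom with hT2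
      have hT2S : T2 ≤ (S : Subgroup G) := by
        rw [hT2, map_conj_le_iff]
        intro t ht
        simpa using hTg t ht
      have hT2card : Nat.card T2 = Nat.card T := card_map_conj _ _
      have hT2ne : T2 ≠ (S : Subgroup G) := by
        intro heq
        have h1 : Nat.card T < Nat.card (S : Subgroup G) := card_lt_card_of_lt hTlt
        rw [← heq, hT2card] at h1
        exact lt_irrefl _ h1
      have hT2lt : T2 < (S : Subgroup G) := lt_of_le_of_ne hT2S hT2ne
      have hT2U : T2.map (MulAut.conj (h0 * g)).toMonoidHom = U := by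
        rw [hT2, ← map_conj_mul]
        have : h0 * g * g⁻¹ = h0 := by group
        rw [this, hh0]
      obtain ⟨a2, ha2, ha2N⟩ := step_X S U T2 (h0 * g) hUsyl hT2U
      have hNT2 : T2 < (S : Subgroup G) ⊓ Subgroup.normalizer (T2 : Set G) :=
        lt_inf_normalizer_of_lt (S : Subgroup G) T2 S.isPGroup' hT2lt
      set V : Subgroup G := ((S : Subgroup G) ⊓ Subgroup.normalizer (T2 : Set G)).map (MulAut.conj a2).toMonoidHom with hV
      have hVS : V ≤ (S : Subgroup G) := by
        rw [hV, map_conj_le_iff]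
        intro q hq
        exact (Subgroup.mem_inf.mp (ha2N q hq)).1
      have hUV : U ≤ V := by
        rw [← ha2, hV]
        exact Subgroup.map_mono hNT2.le
      have leg3 : Reach 𝓕 (U : Set G) a2 := by
        have : Reach 𝓕 (V : Set G) a2 := by
          apply IH V a2 hVS
          · intro v hv
            rw [hV, mem_map_conj_iff] at hv
            exact (Subgroup.mem_inf.mp hv).1
          · rw [hV, card_map_conj, ← hT2card]
            exact card_lt_card_of_lt hNT2
        exact reach_mono 𝓕 hUV this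
      -- the middle element
      set mid : G := a1 * g * a2⁻¹ with hmid
      have hmidN : mid ∈ Subgroup.normalizer (U : Set G) := by
        rw [← map_conj_eq_self_iff_mem_normalizer]
        -- mid U mid⁻¹ = a1 g a2⁻¹ U a2 g⁻¹ a1⁻¹
        have e1 : U.map (MulAut.conj a2⁻¹).toMonoidHom = T2 := by
          rw [← ha2, map_conj_inv_map_conj]
        have e2 : T2.map (MulAut.conj g).toMonoidHom = T := by
          rw [hT2, map_conj_map_conj_inv]
        rw [hmid, map_conj_mul, map_conj_mul, e1, e2, ha1]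
      have leg2 : Reach 𝓕 (U : Set G) mid := reach_single 𝓕 hU𝓕 hmidN le_rfl
      -- compose
      have hset1 : (fun a => (a1⁻¹)⁻¹ * a * a1⁻¹) '' (T : Set G) = (U : Set G) := by
        rw [rconj_image_eq, inv_inv, ha1]
      have hset2 : (fun a => mid⁻¹ * a * mid) '' (U : Set G) = (U : Set G) := by
        rw [rconj_image_eq]
        have := (map_conj_eq_self_iff_mem_normalizer U mid⁻¹).mpr (Subgroup.inv_mem _ hmidN)
        rw [this]
      have c1 : Reach 𝓕 (T : Set G) (a1⁻¹ * mid) := by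
        apply reach_mul 𝓕 leg1
        rw [hset1]; exact leg2
      have c2 : Reach 𝓕 (T : Set G) (a1⁻¹ * mid * a2) := by
        apply reach_mul 𝓕 c1
        rw [← rconj_rconj, hset1, hset2]; exact leg3
      have : a1⁻¹ * mid * a2 = g := by rw [hmid]; group
      rw [this] at c2
      exact c2

/-- Let p be a prime, G a finite group with Sylow p-subgroup S and 𝓕 a set of subgroups of S. Suppose that every subgroup T of S is G-conjugate to some member U of 𝓕 for which N_S(U) is a Sylow p-subgroup of N_G(U). Then 𝓕 is a conjugation family for S in G. -/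
theorem result {G : Type*} [Group G] [Finite G] {p : ℕ} [Fact p.Prime] (S : Sylow p G) (𝓕 : Set (Subgroup G)) (h𝓕 : ∀ U ∈ 𝓕, U ≤ (S : Subgroup G)) (h : ∀ T : Subgroup G, T ≤ (S : Subgroup G) → ∃ U ∈ 𝓕, (∃ g : G, T.map (MulAut.conj g).toMonoidHom = U) ∧ ¬ p ∣ ((S : Subgroup G) ⊓ Subgroup.normalizer ((U : Subgroup G) : Set G)).relIndex (Subgroup.normalizer ((U : Subgroup G) : Set G))) : Cfsg.IsConjugationFamily 𝓕 (S : Subgroup G) := by
  refine ⟨h𝓕, ?_⟩
  intro A g _ hAS hAg
  apply reach_to_family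
  have hcl : Subgroup.closure A ≤ (S : Subgroup G) := (Subgroup.closure_le _).mpr hAS
  have hclg : ∀ t ∈ Subgroup.closure A, g⁻¹ * t * g ∈ (S : Subgroup G) := by
    intro t ht
    induction ht using Subgroup.closure_induction with
    | mem y hy => exact hAg ⟨y, hy, rfl⟩
    | one => simp
    | mul a b _ _ iha ihb =>
      have : g⁻¹ * (a * b) * g = (g⁻¹ * a * g) * (g⁻¹ * b * g) := by group
      rw [this]; exact Subgroup.mul_mem _ iha ihb
    | inv a _ iha =>
      have : g⁻¹ * a⁻¹ * g = (g⁻¹ * a * g)⁻¹ := by group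
      rw [this]; exact Subgroup.inv_mem _ iha
  have := main S 𝓕 h𝓕 h _ (Subgroup.closure A) g hcl hclg rfl
  exact reach_mono 𝓕 Subgroup.subset_closure this

end Cfsg.Agent.S1965
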