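import Cfsg.Statements.S1959
import Cfsg.Agent.S1965
import Cfsg.Agent.Lib.Helper13.SylowRel

set_option autoImplicit false
open Cfsg

namespace Cfsg.Agent.S1959

open Cfsg.Agent.Lib.Helper13

variable {G : Type*} [Group G]

theorem lc_lc (A : Set G) (g h : G) :
    (fun a => h * a * h⁻¹) '' ((fun a => g * a * g⁻¹) '' A) = (fun a => (h * g) * a * (h * g)⁻¹) '' A := by
  rw [Set.image_image]
  congr 1
  funext a
  group

theorem lc_one (A : Set G) : (fun a => (1 : G) * a * 1⁻¹) '' A = A := by simp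

theorem lc_congr (A : Set G) {g g' : G} (h : ∀ a ∈ A, g' * a * g'⁻¹ = g * a * g⁻¹) :
    (fun a => g' * a * g'⁻¹) '' A = (fun a => g * a * g⁻¹) '' A :=
  Set.image_congr h

/-- chains of conjugations inside `H`, through normalizers of `W T`, `W ∈ 𝓦`, keeping the set inside `T` -/
inductive Rz (𝓦 : Set (Subgroup G → Subgroup G)) (H T : Subgroup G) : Set G → G → Prop
  | base (A : Set G) : A ⊆ T → Rz 𝓦 H T A 1
  | step (A : Set G) (g d : G) : Rz 𝓦 H T A g →
      (∃ W ∈ 𝓦, d ∈ H ⊓ Subgroup.normalizer ((W T : Subgroup G) : Set G)) →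
      (fun a => (d * g) * a * (d * g)⁻¹) '' A ⊆ T → Rz 𝓦 H T A (d * g)

variable {𝓦 : Set (Subgroup G → Subgroup G)} {H T : Subgroup G}

theorem Rz.subset {A : Set G} {g : G} (h : Rz 𝓦 H T A g) : A ⊆ T := by
  induction h with
  | base hA => exact hA
  | step g d _ _ _ ih => exact ih

theorem Rz.image_subset {A : Set G} {g : G} (h : Rz 𝓦 H T A g) : (fun a => g * a * g⁻¹) '' A ⊆ T := by
  cases h with
  | base hA => rw [lc_one]; exact hA
  | step g d _ _ hs => exact hs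

theorem Rz.mono {A A' : Set G} {g : G} (hA : A' ⊆ A) (h : Rz 𝓦 H T A g) : Rz 𝓦 H T A' g := by
  induction h with
  | base hAT => exact Rz.base A' (hA.trans hAT)
  | step g d _ hd hs ih => exact Rz.step A' g d ih hd ((Set.image_mono hA).trans hs)

theorem Rz.trans {A : Set G} {g h : G} (h1 : Rz 𝓦 H T A g)
    (h2 : Rz 𝓦 H T ((fun a => g * a * g⁻¹) '' A) h) : Rz 𝓦 H T A (h * g) := by
  generalize hB : (fun a => g * a * g⁻¹) '' A = B at h2
  induction h2 with
  | base hBT => rw [one_mul]; exact h1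
  | step h d _ hd hs ih =>
    have := ih
    rw [mul_assoc]
    refine Rz.step A (h * g) d this hd ?_
    rw [← hB, lc_lc] at hs
    have e : d * (h * g) = d * h * g := (mul_assoc d h g).symm
    rw [e]; exact hs

theorem Rz.single {A : Set G} {d : G} (hA : A ⊆ T)
    (hd : ∃ W ∈ 𝓦, d ∈ H ⊓ Subgroup.normalizer ((W T : Subgroup G) : Set G))
    (hs : (fun a => d * a * d⁻¹) '' A ⊆ T) : Rz 𝓦 H T A d := by
  have := Rz.step A 1 d (Rz.base A hA) hd (by rw [mul_one]; exact hs)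
  rwa [mul_one] at this

theorem Rz.symm {A : Set G} {g : G} (h : Rz 𝓦 H T A g) :
    Rz 𝓦 H T ((fun a => g * a * g⁻¹) '' A) g⁻¹ := by
  induction h with
  | base hA => rw [lc_one, inv_one]; exact Rz.base _ hA
  | step g d hg hd hs ih =>
    -- first go back by d⁻¹
    have hd' : ∃ W ∈ 𝓦, d⁻¹ ∈ H ⊓ Subgroup.normalizer ((W T : Subgroup G) : Set G) := by
      obtain ⟨W, hW, hdW⟩ := hd
      exact ⟨W, hW, Subgroup.inv_mem _ hdW⟩
    have hset : (fun a => d⁻¹ * a * d⁻¹⁻¹) '' ((fun a => (d * g) * a * (d * g)⁻¹) '' A) =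
        (fun a => g * a * g⁻¹) '' A := by
      rw [lc_lc]
      congr 1
      funext a
      group
    have s1 : Rz 𝓦 H T ((fun a => (d * g) * a * (d * g)⁻¹) '' A) d⁻¹ :=
      Rz.single hs hd' (by rw [hset]; exact hg.image_subset)
    have s2 := Rz.trans s1 (by rw [hset]; exact ih)
    have : (d * g)⁻¹ = g⁻¹ * d⁻¹ := by group
    exact this ▸ s2

/-- realized up to agreement on `A` -/
def Real (𝓦 : Set (Subgroup G → Subgroup G)) (H T : Subgroup G) (A : Set G) (h : G) : Prop :=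
  ∃ g, Rz 𝓦 H T A g ∧ ∀ a ∈ A, g * a * g⁻¹ = h * a * h⁻¹

theorem Real.mono {A A' : Set G} {h : G} (hA : A' ⊆ A) (hr : Real 𝓦 H T A h) : Real 𝓦 H T A' h := by
  obtain ⟨g, hg, hag⟩ := hr
  exact ⟨g, hg.mono hA, fun a ha => hag a (hA ha)⟩

theorem Real.trans {A : Set G} {g h : G} (h1 : Real 𝓦 H T A g)
    (h2 : Real 𝓦 H T ((fun a => g * a * g⁻¹) '' A) h) : Real 𝓦 H T A (h * g) := by
  obtain ⟨g', hg', hag⟩ := h1
  obtain ⟨h', hh', hah⟩ := h2
  refine ⟨h' * g', Rz.trans hg' (by rw [lc_congr A hag]; exact hh'), ?_⟩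
  intro a ha
  have e1 := hag a ha
  have e2 := hah (g * a * g⁻¹) ⟨a, ha, rfl⟩
  calc h' * g' * a * (h' * g')⁻¹ = h' * (g' * a * g'⁻¹) * h'⁻¹ := by group
    _ = h' * (g * a * g⁻¹) * h'⁻¹ := by rw [e1]
    _ = h * (g * a * g⁻¹) * h⁻¹ := e2
    _ = h * g * a * (h * g)⁻¹ := by group

theorem Real.symm {A : Set G} {g : G} (h1 : Real 𝓦 H T A g) :
    Real 𝓦 H T ((fun a => g * a * g⁻¹) '' A) g⁻¹ := by
  obtain ⟨g', hg', hag⟩ := h1
  refine ⟨g'⁻¹, by rw [← lc_congr A hag]; exact hg'.symm, ?_⟩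
  rintro _ ⟨a, ha, rfl⟩
  have e1 := hag a ha
  calc g'⁻¹ * (g * a * g⁻¹) * g'⁻¹⁻¹ = g'⁻¹ * (g' * a * g'⁻¹) * g'⁻¹⁻¹ := by rw [e1]
    _ = g⁻¹ * (g * a * g⁻¹) * g⁻¹⁻¹ := by group

theorem Real.congr {A : Set G} {g g' : G} (h1 : Real 𝓦 H T A g)
    (hag : ∀ a ∈ A, g' * a * g'⁻¹ = g * a * g⁻¹) : Real 𝓦 H T A g' := by
  obtain ⟨g0, hg0, h0⟩ := h1
  exact ⟨g0, hg0, fun a ha => (h0 a ha).trans (hag a ha).symm⟩

theorem Real.of_trivial {A : Set G} (hA : ∀ a ∈ A, a = 1) (g : G) : Real 𝓦 H T A g := by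
  refine ⟨1, Rz.base A ?_, ?_⟩
  · intro a ha; rw [hA a ha]; exact T.one_mem
  · intro a ha; rw [hA a ha]; group


/-- from the inductive chain to the indexed chain of the definition -/
theorem Rz.to_fin {A : Set G} {g : G} (h : Rz 𝓦 H T A g) :
    ∃ (n : ℕ) (c : Fin (n + 1) → G), c 0 = 1 ∧
      (∀ i : Fin n, ∃ W ∈ 𝓦, c i.succ * (c i.castSucc)⁻¹ ∈ H ⊓ Subgroup.normalizer ((W T : Subgroup G) : Set G)) ∧
      (∀ i : Fin (n + 1), (fun a => c i * a * (c i)⁻¹) '' A ⊆ T) ∧ c (Fin.last n) = g := by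
  induction h with
  | base hA =>
    refine ⟨0, fun _ => 1, rfl, fun i => i.elim0, fun i => ?_, rfl⟩
    rw [lc_one]; exact hA
  | step g d _ hd hs ih =>
    obtain ⟨n, c, hc0, hcstep, hcset, hclast⟩ := ih
    refine ⟨n + 1, Fin.snoc c (d * g), ?_, ?_, ?_, ?_⟩
    · have : (0 : Fin (n + 2)) = Fin.castSucc (0 : Fin (n + 1)) := rfl
      rw [this, Fin.snoc_castSucc]; exact hc0
    · intro i
      induction i using Fin.lastCases with
      | last =>
        have e1 : (Fin.last n).succ = Fin.last (n + 1) := rfl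
        rw [e1, Fin.snoc_last, Fin.snoc_castSucc, hclast]
        have : d * g * g⁻¹ = d := by group
        rw [this]; exact hd
      | cast j =>
        have e1 : (Fin.castSucc j).succ = Fin.castSucc j.succ := rfl
        rw [e1, Fin.snoc_castSucc, Fin.snoc_castSucc]
        exact hcstep j
    · intro i
      induction i using Fin.lastCases with
      | last => rw [Fin.snoc_last]; exact hs
      | cast j => rw [Fin.snoc_castSucc]; exact hcset j
    · rw [Fin.snoc_last]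

/-- from the indexed chain of the definition to the inductive chain -/
theorem Rz.of_fin {A : Set G} : ∀ (n : ℕ) (c : Fin (n + 1) → G), c 0 = 1 →
      (∀ i : Fin n, ∃ W ∈ 𝓦, c i.succ * (c i.castSucc)⁻¹ ∈ H ⊓ Subgroup.normalizer ((W T : Subgroup G) : Set G)) →
      (∀ i : Fin (n + 1), (fun a => c i * a * (c i)⁻¹) '' A ⊆ T) → Rz 𝓦 H T A (c (Fin.last n)) := by
  intro n
  induction n with
  | zero =>
    intro c hc0 _ hcset
    have : c (Fin.last 0) = 1 := hc0
    rw [this]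
    have := hcset 0
    rw [hc0, lc_one] at this
    exact Rz.base A this
  | succ n ih =>
    intro c hc0 hcstep hcset
    have h1 : Rz 𝓦 H T A (c (Fin.castSucc (Fin.last n))) := by
      have := ih (fun i => c (Fin.castSucc i)) hc0 (fun i => hcstep (Fin.castSucc i)) (fun i => hcset (Fin.castSucc i))
      exact this
    have h2 := hcstep (Fin.last n)
    have e1 : (Fin.last n).succ = Fin.last (n + 1) := rfl
    rw [e1] at h2
    have h3 := Rz.step A _ _ h1 h2 (by
      have : c (Fin.last (n + 1)) * (c (Fin.castSucc (Fin.last n)))⁻¹ * c (Fin.castSucc (Fin.last n)) = c (Fin.last (n + 1)) := by group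
      rw [this]; exact hcset _)
    have : c (Fin.last (n + 1)) * (c (Fin.castSucc (Fin.last n)))⁻¹ * c (Fin.castSucc (Fin.last n)) = c (Fin.last (n + 1)) := by group
    rw [this] at h3
    exact h3

theorem fam_iff (p : ℕ) (𝓦 : Set (Subgroup G → Subgroup G)) (H : Subgroup G) :
    Cfsg.FamilyControlsStrongFusionIn p 𝓦 H ↔
      ∃ T : Subgroup G, T ≤ H ∧ IsPGroup p ↥T ∧ ¬ p ∣ T.relIndex H ∧
        ∀ (A : Set G) (h : G), h ∈ H → A ⊆ T → (fun a => h * a * h⁻¹) '' A ⊆ T → Real 𝓦 H T A h := by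
  constructor
  · rintro ⟨T, h1, h2, h3, h4⟩
    refine ⟨T, h1, h2, h3, ?_⟩
    intro A h hh hA hAh
    obtain ⟨n, c, hc0, hcstep, hcset, hclast⟩ := h4 A h hh hA hAh
    exact ⟨c (Fin.last n), Rz.of_fin n c hc0 hcstep hcset, hclast⟩
  · rintro ⟨T, h1, h2, h3, h4⟩
    refine ⟨T, h1, h2, h3, ?_⟩
    intro A h hh hA hAh
    obtain ⟨g, hg, hag⟩ := h4 A h hh hA hAh
    obtain ⟨n, c, hc0, hcstep, hcset, hclast⟩ := hg.to_fin
    exact ⟨n, c, hc0, hcstep, hcset, by rw [hclast]; exact hag⟩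

/-- conjugating a chain by an element of `H` -/
theorem Rz.conj {p : ℕ} (h𝓦 : ∀ W ∈ 𝓦, Cfsg.IsConjugacyFunctor p W) (hT : IsPGroup p T)
    {A : Set G} {g : G} (h : Rz 𝓦 H T A g) (k : G) (hk : k ∈ H) :
    Rz 𝓦 H (T.map (MulAut.conj k).toMonoidHom) ((fun a => k * a * k⁻¹) '' A) (k * g * k⁻¹) := by
  have hsub : ∀ B : Set G, B ⊆ T → (fun a => k * a * k⁻¹) '' B ⊆ (T.map (MulAut.conj k).toMonoidHom : Subgroup G) := by
    rintro B hB _ ⟨b, hb, rfl⟩
    exact conj_mem_map_conj T k (hB hb)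
  induction h with
  | base hA =>
    have : k * 1 * k⁻¹ = 1 := by group
    rw [this]
    exact Rz.base _ (hsub A hA)
  | step g d _ hd hs ih =>
    have e : k * (d * g) * k⁻¹ = (k * d * k⁻¹) * (k * g * k⁻¹) := by group
    rw [e]
    refine Rz.step _ _ _ ih ?_ ?_
    · obtain ⟨W, hW, hdW⟩ := hd
      obtain ⟨hdH, hdN⟩ := Subgroup.mem_inf.mp hdW
      refine ⟨W, hW, Subgroup.mem_inf.mpr ⟨H.mul_mem (H.mul_mem hk hdH) (H.inv_mem hk), ?_⟩⟩
      rw [(h𝓦 W hW T hT).2.2 k, normalizer_map_conj]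
      exact conj_mem_map_conj _ k hdN
    · rw [lc_lc]
      have := hsub _ hs
      rw [lc_lc] at this
      convert this using 3
      group


section Main
variable [Finite G] {p : ℕ} [Fact p.Prime]

theorem fam_any_sylow (h𝓦 : ∀ W ∈ 𝓦, Cfsg.IsConjugacyFunctor p W) (H : Subgroup G)
    (hc : Cfsg.FamilyControlsStrongFusionIn p 𝓦 H) (T' : Subgroup G) (hT'H : T' ≤ H) (hT'p : IsPGroup p T')
    (hT'i : ¬ p ∣ T'.relIndex H) :
    ∀ (A : Set G) (g : G), g ∈ H → A ⊆ T' → (fun a => g * a * g⁻¹) '' A ⊆ T' → Real 𝓦 H T' A g := by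
  obtain ⟨T, hTH, hTp, hTi, hT⟩ := (fam_iff p 𝓦 H).mp hc
  obtain ⟨h, hhH, hh⟩ := exists_conj_le_of_relIndex H T T' hTp hTi hT'H hT'p
  have hmapH : H.map (MulAut.conj h).toMonoidHom = H :=
    (map_conj_eq_self_iff_mem_normalizer H h).mpr (Subgroup.le_normalizer hhH)
  have hTeq : T = T'.map (MulAut.conj h).toMonoidHom := by
    apply eq_of_le_of_not_dvd_relIndex (p := p) H
    · rw [map_conj_le_iff]; exact hh
    · exact hTH
    · exact hTp
    · have := relIndex_map_conj T' H h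
      rw [hmapH] at this
      rw [this]; exact hT'i
  intro A g hgH hAT' hAg
  have hA1 : (fun a => h * a * h⁻¹) '' A ⊆ T := by
    rintro _ ⟨a, ha, rfl⟩
    exact hh a (hAT' ha)
  have hg1 : h * g * h⁻¹ ∈ H := H.mul_mem (H.mul_mem hhH hgH) (H.inv_mem hhH)
  have hA1g : (fun a => (h * g * h⁻¹) * a * (h * g * h⁻¹)⁻¹) '' ((fun a => h * a * h⁻¹) '' A) ⊆ T := by
    rintro _ ⟨_, ⟨a, ha, rfl⟩, rfl⟩
    have h1 : g * a * g⁻¹ ∈ T' := hAg ⟨a, ha, rfl⟩
    have h2 := hh _ h1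
    have : (h * g * h⁻¹) * (h * a * h⁻¹) * (h * g * h⁻¹)⁻¹ = h * (g * a * g⁻¹) * h⁻¹ := by group
    show (h * g * h⁻¹) * (h * a * h⁻¹) * (h * g * h⁻¹)⁻¹ ∈ T
    rw [this]; exact h2
  obtain ⟨g1', hRz, hag⟩ := hT _ (h * g * h⁻¹) hg1 hA1 hA1g
  have hconj := Rz.conj h𝓦 hTp hRz h⁻¹ (H.inv_mem hhH)
  have eT : T.map (MulAut.conj h⁻¹).toMonoidHom = T' := by rw [hTeq, map_conj_inv_map_conj]
  have eA : (fun a => h⁻¹ * a * h⁻¹⁻¹) '' ((fun a => h * a * h⁻¹) '' A) = A := by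
    rw [lc_lc]; simp
  rw [eT, eA] at hconj
  refine ⟨_, hconj, ?_⟩
  intro a ha
  have h3 := hag (h * a * h⁻¹) ⟨a, ha, rfl⟩
  calc h⁻¹ * g1' * h⁻¹⁻¹ * a * (h⁻¹ * g1' * h⁻¹⁻¹)⁻¹ = h⁻¹ * (g1' * (h * a * h⁻¹) * g1'⁻¹) * h := by group
    _ = h⁻¹ * ((h * g * h⁻¹) * (h * a * h⁻¹) * (h * g * h⁻¹)⁻¹) * h := by rw [h3]
    _ = g * a * g⁻¹ := by group

theorem lift (S NU N' : Subgroup G) (hNUS : NU ≤ S)
    (hP : ∀ W ∈ 𝓦, ∀ d ∈ Subgroup.normalizer ((W NU : Subgroup G) : Set G), ∀ B : Set G, B ⊆ NU →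
      (fun a => d * a * d⁻¹) '' B ⊆ NU → Real 𝓦 ⊤ S B d)
    {A : Set G} {g : G} (h : Rz 𝓦 N' NU A g) : Real 𝓦 ⊤ S A g := by
  induction h with
  | base hA => exact ⟨1, Rz.base A (hA.trans hNUS), fun _ _ => rfl⟩
  | step g d hg hd hs ih =>
    obtain ⟨W, hW, hdW⟩ := hd
    have hB := hg.image_subset
    have hdB : (fun a => d * a * d⁻¹) '' ((fun a => g * a * g⁻¹) '' A) ⊆ NU := by
      rw [lc_lc]; exact hs
    exact Real.trans ih (hP W hW d (Subgroup.mem_inf.mp hdW).2 _ hB hdB)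

/-- the family of "tame" subgroups of `S` -/
def tame (p : ℕ) (S : Subgroup G) : Set (Subgroup G) :=
  {U | U ≤ S ∧ ¬ p ∣ (S ⊓ Subgroup.normalizer ((U : Subgroup G) : Set G)).relIndex (Subgroup.normalizer ((U : Subgroup G) : Set G))}

theorem Q_of_P (S : Sylow p G) (h𝓦 : ∀ W ∈ 𝓦, Cfsg.IsConjugacyFunctor p W)
    (hloc : ∀ T : Subgroup G, T ≤ (S : Subgroup G) → T ≠ ⊥ →
      ¬ p ∣ ((S : Subgroup G) ⊓ Subgroup.normalizer ((T : Subgroup G) : Set G)).relIndex (Subgroup.normalizer ((T : Subgroup G) : Set G)) →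
      Cfsg.FamilyControlsStrongFusionIn p 𝓦 (Subgroup.normalizer ((T : Subgroup G) : Set G)))
    (t : ℕ) (ht : 1 ≤ t)
    (hP : ∀ R' : Subgroup G, R' ≤ (S : Subgroup G) → t < Nat.card R' → ∀ W ∈ 𝓦,
      ∀ d ∈ Subgroup.normalizer ((W R' : Subgroup G) : Set G), ∀ B : Set G, B ⊆ R' →
      (fun a => d * a * d⁻¹) '' B ⊆ R' → Real 𝓦 ⊤ (S : Subgroup G) B d) :
    ∀ T : Subgroup G, T ≤ (S : Subgroup G) → t < Nat.card T → ∀ g : G, (∀ x ∈ T, g * x * g⁻¹ ∈ (S : Subgroup G)) →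
      Real 𝓦 ⊤ (S : Subgroup G) (T : Set G) g := by
  have hS := S.isPGroup'
  -- the list lemma
  have key : ∀ (L : List (Subgroup G × G)) (A : Set G), Cfsg.Agent.S1965.Valid (tame p (S : Subgroup G)) A L →
      t < A.ncard → A ⊆ (S : Subgroup G) → Real 𝓦 ⊤ (S : Subgroup G) A ((L.map Prod.snd).prod)⁻¹ := by
    intro L
    induction L with
    | nil =>
      intro A _ _ hAS
      simp only [List.map_nil, List.prod_nil, inv_one]
      exact ⟨1, Rz.base A hAS, fun _ _ => rfl⟩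
    | cons Ux L ih =>
      obtain ⟨U, x⟩ := Ux
      rintro A ⟨hU, hx, hAU, hrest⟩ hcard hAS
      obtain ⟨a0, ha0, ha01⟩ := Set.exists_ne_of_one_lt_ncard (lt_of_le_of_lt ht hcard) 1
      have hUne : U ≠ ⊥ := by
        intro h
        have := hAU ha0
        rw [h] at this
        exact ha01 (Subgroup.mem_bot.mp this)
      set NU : Subgroup G := (S : Subgroup G) ⊓ Subgroup.normalizer (U : Set G) with hNU
      have hUNU : U ≤ NU := le_inf hU.1 Subgroup.le_normalizer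
      have hctl := hloc U hU.1 hUne hU.2
      have hxinv : x⁻¹ ∈ Subgroup.normalizer (U : Set G) := Subgroup.inv_mem _ hx
      have hAx : (fun a => x⁻¹ * a * x⁻¹⁻¹) '' A ⊆ U := by
        rintro _ ⟨a, ha, rfl⟩
        exact (Subgroup.mem_normalizer_iff.mp hxinv a).mp (hAU ha)
      obtain ⟨g', hRz, hag⟩ := fam_any_sylow h𝓦 _ hctl NU inf_le_right (hS.to_le inf_le_left) hU.2 A x⁻¹ hxinv
        (hAU.trans hUNU) (hAx.trans hUNU)
      have hcardNU : t < Nat.card NU := by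
        have h1 : A.ncard ≤ (U : Set G).ncard := Set.ncard_le_ncard hAU (Set.toFinite _)
        have h2 : (U : Set G).ncard = Nat.card U := (Nat.card_coe_set_eq (U : Set G)).symm
        have h3 : Nat.card U ≤ Nat.card NU := Subgroup.card_le_of_le hUNU
        omega
      have hlift : Real 𝓦 ⊤ (S : Subgroup G) A g' :=
        lift (S : Subgroup G) NU _ inf_le_left (hP NU inf_le_left hcardNU) hRz
      have hstep : Real 𝓦 ⊤ (S : Subgroup G) A x⁻¹ := hlift.congr (fun a ha => (hag a ha).symm ▸ rfl)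
      have hset : (fun a => x⁻¹ * a * x⁻¹⁻¹) '' A = (fun a => x⁻¹ * a * x) '' A := by
        simp only [inv_inv]
      have hcard' : t < ((fun a => x⁻¹ * a * x) '' A).ncard := by
        rw [Set.ncard_image_of_injective]
        · exact hcard
        · intro a b hab
          simpa using hab
      have hrestS : (fun a => x⁻¹ * a * x) '' A ⊆ (S : Subgroup G) := by
        rw [← hset]; exact hAx.trans hU.1
      have hIH := ih _ hrest hcard' hrestS
      rw [← hset] at hIH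
      have := Real.trans hstep hIH
      simp only [List.map_cons, List.prod_cons, mul_inv_rev]
      exact this
  intro T hTS hTcard g hTg
  -- Alperin
  have h𝓕S : ∀ U ∈ tame p (S : Subgroup G), U ≤ (S : Subgroup G) := fun U hU => hU.1
  have hfam : ∀ T : Subgroup G, T ≤ (S : Subgroup G) → ∃ U ∈ tame p (S : Subgroup G),
      (∃ g : G, T.map (MulAut.conj g).toMonoidHom = U) ∧
      ¬ p ∣ ((S : Subgroup G) ⊓ Subgroup.normalizer ((U : Subgroup G) : Set G)).relIndex (Subgroup.normalizer ((U : Subgroup G) : Set G)) := by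
    intro T hT
    obtain ⟨n, hn1, hn2⟩ := exists_conj_normalizer_sylow S T
    have hTn : T.map (MulAut.conj n).toMonoidHom ≤ (S : Subgroup G) :=
      (Subgroup.map_mono (le_inf hT Subgroup.le_normalizer)).trans hn1
    exact ⟨_, ⟨hTn, hn2⟩, ⟨n, rfl⟩, hn2⟩
  have hTg' : ∀ x ∈ T, (g⁻¹)⁻¹ * x * g⁻¹ ∈ (S : Subgroup G) := by
    intro x hx; rw [inv_inv]; exact hTg x hx
  obtain ⟨L, hL, hLprod⟩ := Cfsg.Agent.S1965.main S (tame p (S : Subgroup G)) h𝓕S hfam _ T g⁻¹ hTS hTg' rfl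
  have hncard : t < (T : Set G).ncard := by
    rw [← Nat.card_coe_set_eq]; exact hTcard
  have := key L (T : Set G) hL hncard hTS
  rw [hLprod, inv_inv] at this
  exact this


theorem mainP (S : Sylow p G) (h𝓦 : ∀ W ∈ 𝓦, Cfsg.IsConjugacyFunctor p W)
    (hloc : ∀ T : Subgroup G, T ≤ (S : Subgroup G) → T ≠ ⊥ →
      ¬ p ∣ ((S : Subgroup G) ⊓ Subgroup.normalizer ((T : Subgroup G) : Set G)).relIndex (Subgroup.normalizer ((T : Subgroup G) : Set G)) →
      Cfsg.FamilyControlsStrongFusionIn p 𝓦 (Subgroup.normalizer ((T : Subgroup G) : Set G))) :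
    ∀ (m : ℕ) (R : Subgroup G), R ≤ (S : Subgroup G) → Nat.card (S : Subgroup G) - Nat.card R = m →
      ∀ W ∈ 𝓦, ∀ d ∈ Subgroup.normalizer ((W R : Subgroup G) : Set G), ∀ B : Set G, B ⊆ R →
      (fun a => d * a * d⁻¹) '' B ⊆ R → Real 𝓦 ⊤ (S : Subgroup G) B d := by
  intro m
  induction m using Nat.strong_induction_on with
  | _ m ih =>
    intro R hRS hm W hW d hd B hBR hdB
    have hS := S.isPGroup'
    have hRp : IsPGroup p R := hS.to_le hRS
    by_cases htriv : ∀ b ∈ B, b = 1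
    · exact Real.of_trivial htriv d
    push Not at htriv
    obtain ⟨b0, hb0, hb01⟩ := htriv
    have hRne : R ≠ ⊥ := by
      intro h
      have := hBR hb0
      rw [h] at this
      exact hb01 (Subgroup.mem_bot.mp this)
    by_cases hRtop : R = (S : Subgroup G)
    · subst hRtop
      exact ⟨d, Rz.single hBR ⟨W, hW, Subgroup.mem_inf.mpr ⟨Subgroup.mem_top _, hd⟩⟩ hdB, fun _ _ => rfl⟩
    have hRlt : R < (S : Subgroup G) := lt_of_le_of_ne hRS hRtop
    have hcardRS : Nat.card R ≤ Nat.card (S : Subgroup G) := Subgroup.card_le_of_le hRS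
    -- induction hypothesis in convenient form
    have IH : ∀ R' : Subgroup G, R' ≤ (S : Subgroup G) → Nat.card R < Nat.card R' → ∀ W ∈ 𝓦,
        ∀ d ∈ Subgroup.normalizer ((W R' : Subgroup G) : Set G), ∀ B : Set G, B ⊆ R' →
        (fun a => d * a * d⁻¹) '' B ⊆ R' → Real 𝓦 ⊤ (S : Subgroup G) B d := by
      intro R' hR'S hcard
      have hR'le : Nat.card R' ≤ Nat.card (S : Subgroup G) := Subgroup.card_le_of_le hR'S
      exact ih (Nat.card (S : Subgroup G) - Nat.card R') (by omega) R' hR'S rfl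
    have hQ := Q_of_P S h𝓦 hloc (Nat.card R) Nat.card_pos IH
    -- V = W R
    set V : Subgroup G := W R with hV
    have hVR : V ≤ R := (h𝓦 W hW R hRp).1
    have hVne : V ≠ ⊥ := (h𝓦 W hW R hRp).2.1 hRne
    set NV : Subgroup G := (S : Subgroup G) ⊓ Subgroup.normalizer (V : Set G) with hNV
    have hNRNV : (S : Subgroup G) ⊓ Subgroup.normalizer (R : Set G) ≤ NV := by
      apply inf_le_inf_left
      intro y hy
      rw [← map_conj_eq_self_iff_mem_normalizer] at hy ⊢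
      rw [hV, ← (h𝓦 W hW R hRp).2.2 y, hy]
    have hRNV : R < NV := lt_of_lt_of_le (lt_inf_normalizer_of_lt (S : Subgroup G) R hS hRlt) hNRNV
    have hcardNV : Nat.card R < Nat.card NV := card_lt_card_of_lt hRNV
    obtain ⟨k, hk1, hk2⟩ := exists_conj_normalizer_sylow S V
    set V' : Subgroup G := V.map (MulAut.conj k).toMonoidHom with hV'
    set NV' : Subgroup G := (S : Subgroup G) ⊓ Subgroup.normalizer (V' : Set G) with hNV'
    -- (1) conjugation by k on NV is realized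
    have hkNV : ∀ x ∈ NV, k * x * k⁻¹ ∈ (S : Subgroup G) := fun x hx => hk1 (conj_mem_map_conj NV k hx)
    have r1 : Real 𝓦 ⊤ (S : Subgroup G) (NV : Set G) k := hQ NV inf_le_left hcardNV k hkNV
    have hBNV : B ⊆ NV := hBR.trans hRNV.le
    have hdBNV : (fun a => d * a * d⁻¹) '' B ⊆ NV := hdB.trans hRNV.le
    have r1B : Real 𝓦 ⊤ (S : Subgroup G) B k := r1.mono hBNV
    have r1dB : Real 𝓦 ⊤ (S : Subgroup G) ((fun a => d * a * d⁻¹) '' B) k := r1.mono hdBNV
    -- (2) the middle step inside N(V')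
    have hmapNV : NV.map (MulAut.conj k).toMonoidHom ≤ NV' := by
      apply le_inf hk1
      rw [hV', normalizer_map_conj]
      exact Subgroup.map_mono inf_le_right
    have hV'S : V' ≤ (S : Subgroup G) := by
      have : V ≤ NV := hVR.trans hRNV.le
      exact ((Subgroup.map_mono this).trans hmapNV).trans inf_le_left
    have hV'ne : V' ≠ ⊥ := by
      intro h
      apply hVne
      rw [hV'] at h
      exact (Subgroup.map_eq_bot_iff_of_injective V (MulAut.conj k).injective).mp h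
    have hctl := hloc V' hV'S hV'ne hk2
    have hd'N : k * d * k⁻¹ ∈ Subgroup.normalizer (V' : Set G) := by
      rw [hV', normalizer_map_conj]
      exact conj_mem_map_conj _ k hd
    have hB1 : (fun a => k * a * k⁻¹) '' B ⊆ NV' := by
      rintro _ ⟨b, hb, rfl⟩
      exact hmapNV (conj_mem_map_conj NV k (hBNV hb))
    have hB1d : (fun a => (k * d * k⁻¹) * a * (k * d * k⁻¹)⁻¹) '' ((fun a => k * a * k⁻¹) '' B) ⊆ NV' := by
      rintro _ ⟨_, ⟨b, hb, rfl⟩, rfl⟩
      have h1 : d * b * d⁻¹ ∈ NV := hdBNV ⟨b, hb, rfl⟩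
      have h2 := hmapNV (conj_mem_map_conj NV k h1)
      have : (k * d * k⁻¹) * (k * b * k⁻¹) * (k * d * k⁻¹)⁻¹ = k * (d * b * d⁻¹) * k⁻¹ := by group
      show (k * d * k⁻¹) * (k * b * k⁻¹) * (k * d * k⁻¹)⁻¹ ∈ NV'
      rw [this]; exact h2
    obtain ⟨g', hRz, hag⟩ := fam_any_sylow h𝓦 _ hctl NV' inf_le_right (hS.to_le inf_le_left) hk2 _ (k * d * k⁻¹) hd'N hB1 hB1d
    have hcardNV' : Nat.card R < Nat.card NV' := by
      have h1 : Nat.card (NV.map (MulAut.conj k).toMonoidHom) ≤ Nat.card NV' := Subgroup.card_le_of_le hmapNV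
      rw [card_map_conj] at h1
      omega
    have r2' : Real 𝓦 ⊤ (S : Subgroup G) ((fun a => k * a * k⁻¹) '' B) g' :=
      lift (S : Subgroup G) NV' _ inf_le_left (IH NV' inf_le_left hcardNV') hRz
    have r2 : Real 𝓦 ⊤ (S : Subgroup G) ((fun a => k * a * k⁻¹) '' B) (k * d * k⁻¹) :=
      r2'.congr (fun a ha => (hag a ha).symm ▸ rfl)
    -- (3) back by k⁻¹
    have r3 := r1dB.symm
    -- compose
    have c1 := Real.trans r1B r2
    have hset : (fun a => k * a * k⁻¹) '' ((fun a => d * a * d⁻¹) '' B) =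
        (fun a => (k * d * k⁻¹ * k) * a * (k * d * k⁻¹ * k)⁻¹) '' B := by
      rw [lc_lc]
      congr 1
      funext a
      group
    rw [hset] at r3
    have c2 := Real.trans c1 r3
    have : k⁻¹ * (k * d * k⁻¹ * k) = d := by group
    rw [this] at c2
    exact c2

end Main

/-- Let p be a prime, G a finite group with Sylow p-subgroup S, and 𝓦 a set of conjugacy functors for p on G. Suppose that 𝓦 controls strong fusion in N_G(T) for every nonidentity subgroup T of S for which N_S(T) is a Sylow p-subgroup of N_G(T). Then 𝓦 controls strong fusion in G. (A set of functors controls strong fusion in a subgroup H when, for a Sylow p-subgroup T' of H, every conjugation of a tuple of elements of T' into T' by an element of H is a composite of conjugations inside the normalizers N_H(W(T')), W ∈ 𝓦, all intermediate tuples staying in T'.) -/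
theorem result {G : Type*} [Group G] [Finite G] {p : ℕ} [Fact p.Prime] (S : Sylow p G) (𝓦 : Set (Subgroup G → Subgroup G)) (h𝓦 : ∀ W ∈ 𝓦, Cfsg.IsConjugacyFunctor p W) (hloc : ∀ T : Subgroup G, T ≤ (S : Subgroup G) → T ≠ ⊥ → ¬ p ∣ ((S : Subgroup G) ⊓ Subgroup.normalizer ((T : Subgroup G) : Set G)).relIndex (Subgroup.normalizer ((T : Subgroup G) : Set G)) → Cfsg.FamilyControlsStrongFusionIn p 𝓦 (Subgroup.normalizer ((T : Subgroup G) : Set G))) : Cfsg.FamilyControlsStrongFusionIn p 𝓦 ⊤ := by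
  rw [fam_iff]
  refine ⟨(S : Subgroup G), le_top, S.isPGroup', ?_, ?_⟩
  · rw [Subgroup.relIndex_top_right]; exact S.not_dvd_index
  · intro A h _ hAS hAh
    by_cases htriv : ∀ a ∈ A, a = 1
    · exact Real.of_trivial htriv h
    push Not at htriv
    obtain ⟨a0, ha0, ha01⟩ := htriv
    have hP : ∀ R' : Subgroup G, R' ≤ (S : Subgroup G) → 1 < Nat.card R' → ∀ W ∈ 𝓦,
        ∀ d ∈ Subgroup.normalizer ((W R' : Subgroup G) : Set G), ∀ B : Set G, B ⊆ R' →
        (fun a => d * a * d⁻¹) '' B ⊆ R' → Real 𝓦 ⊤ (S : Subgroup G) B d :=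
      fun R' hR'S _ => mainP S h𝓦 hloc _ R' hR'S rfl
    have hcl : Subgroup.closure A ≤ (S : Subgroup G) := (Subgroup.closure_le _).mpr hAS
    have hclcard : 1 < Nat.card (Subgroup.closure A) := by
      rw [Finite.one_lt_card_iff_nontrivial]
      exact ⟨⟨⟨a0, Subgroup.subset_closure ha0⟩, 1, fun h => ha01 (congrArg Subtype.val h)⟩⟩
    have hclg : ∀ t ∈ Subgroup.closure A, h * t * h⁻¹ ∈ (S : Subgroup G) := by
      intro t ht
      induction ht using Subgroup.closure_induction with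
      | mem y hy => exact hAh ⟨y, hy, rfl⟩
      | one => simp
      | mul a b _ _ iha ihb =>
        have : h * (a * b) * h⁻¹ = (h * a * h⁻¹) * (h * b * h⁻¹) := by group
        rw [this]; exact Subgroup.mul_mem _ iha ihb
      | inv a _ iha =>
        have : h * a⁻¹ * h⁻¹ = (h * a * h⁻¹)⁻¹ := by group
        rw [this]; exact Subgroup.inv_mem _ iha
    have := Q_of_P S h𝓦 hloc 1 le_rfl hP (Subgroup.closure A) hcl hclcard h hclg
    exact this.mono Subgroup.subset_closure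

end Cfsg.Agent.S1959
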