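import Mathlib
import Cfsg.Statements.S0593
import Cfsg.Agent.H5.QuadPair
import Cfsg.Agent.H5.SL2Core
import Cfsg.Agent.H5.Linearize
import Cfsg.Agent.H5.Quadratic

set_option autoImplicit false
set_option linter.style.haveILetI false
open Cfsg

namespace Cfsg.Agent.S0593

/-- quadratic action in elementwise form -/
theorem quad_elementwise {G : Type*} [Group G] {V : Subgroup G} {a : G}
    (ha : ⁅⁅V, Subgroup.zpowers a⁆, Subgroup.zpowers a⁆ = ⊥) :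
    ∀ v ∈ V, a * (a * v * a⁻¹ * v⁻¹) = (a * v * a⁻¹ * v⁻¹) * a := by
  intro v hv
  have h1 := Cfsg.H5.quadratic_comm ha (V.inv_mem hv) (Subgroup.mem_zpowers a)
    (Subgroup.mem_zpowers a)
  rw [inv_inv] at h1
  -- `h1 : a * (v * a * v⁻¹ * a⁻¹) = (v * a * v⁻¹ * a⁻¹) * a`
  have h2 : a * v * a⁻¹ * v⁻¹ = (v * a * v⁻¹ * a⁻¹)⁻¹ := by group
  rw [h2]
  have h3 : Commute a (v * a * v⁻¹ * a⁻¹) := h1
  exact h3.inv_right.eq

/-- existence of a field of characteristic `p` containing the `k`-th roots of unity -/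
theorem exists_dvd_pow_sub_one {p k : ℕ} (hp : 0 < p) (hk : k.Coprime p) (hk0 : 0 < k) :
    ∃ d : ℕ, d ≠ 0 ∧ k ∣ p ^ d - 1 := by
  refine ⟨k.totient, (Nat.totient_pos.2 hk0).ne', ?_⟩
  have h1 : p ^ k.totient ≡ 1 [MOD k] := Nat.ModEq.pow_totient hk.symm
  exact (Nat.modEq_iff_dvd' (Nat.one_le_pow _ _ hp)).1 h1.symm

/-- the core argument, over an abstract finite field `K` of characteristic `p` -/
theorem core {Γ : Type*} [Group Γ] [Finite Γ] {p : ℕ} [Fact p.Prime] (hp : p ≠ 2)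
    (K : Type) [Field K] [Finite K] [CharP K p] [Algebra (ZMod p) K]
    (a b : Γ) (hgen : Subgroup.closure ({a, b} : Set Γ) = ⊤) (n : ℕ)
    (ρ₀ : Representation (ZMod p) Γ (Fin n → ZMod p)) (hfaith : ∀ h, ρ₀ h = 1 → h = 1)
    (hA₀ : (ρ₀ a - 1) * (ρ₀ a - 1) = 0) (hB₀ : (ρ₀ b - 1) * (ρ₀ b - 1) = 0)
    (hnp : ¬ IsPGroup p Γ) (e k : ℕ) (hk0 : 0 < k) (hab : (a * b) ^ (p ^ e * k) = 1)
    (hkK : k ∣ Nat.card K - 1) (T : Sylow 2 Γ) : ¬ IsMulCommutative T := by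
  intro hT
  letI : Fintype K := Fintype.ofFinite K
  rw [Nat.card_eq_fintype_card] at hkK
  have hap : a ^ p = 1 := hfaith _ (by rw [map_pow]; exact Cfsg.H5.QP.quad_pow_char hA₀)
  have hbp : b ^ p = 1 := hfaith _ (by rw [map_pow]; exact Cfsg.H5.QP.quad_pow_char hB₀)
  obtain ⟨Φ, hΦ⟩ := Cfsg.H5.Lin.exists_extend (ZMod p) K n
  let ρ : Representation K Γ (Fin n → K) := (Φ : _ →* _).comp ρ₀
  have hρ : ∀ g, ρ g = Φ (ρ₀ g) := fun g => rfl
  have hA : (ρ a - 1) * (ρ a - 1) = 0 := by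
    rw [hρ, ← map_one Φ, ← map_sub, ← map_mul, hA₀, map_zero]
  have hB : (ρ b - 1) * (ρ b - 1) = 0 := by
    rw [hρ, ← map_one Φ, ← map_sub, ← map_mul, hB₀, map_zero]
  have hnp' : ¬ Cfsg.H5.QP.PG p ρ := by
    intro hPG
    apply hnp
    intro g
    obtain ⟨j, hj⟩ := hPG g
    refine ⟨j, hfaith _ ?_⟩
    apply hΦ
    rw [map_one, map_pow ρ₀, map_pow Φ, ← hρ]
    exact hj
  obtain ⟨φ, hφ⟩ := Cfsg.H5.QP.exists_sl2 (K := K) (p := p) a b hgen e k hkK hk0 hab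
    (Module.finrank K (Fin n → K)) (Fin n → K) ρ rfl hA hB hnp'
  apply hφ
  refine Cfsg.H5.SL2.isPGroup_range hp φ _ hgen ?_ T ?_
  · intro g hg
    rcases hg with rfl | rfl
    · exact ⟨1, by rw [pow_one]; exact hap⟩
    · exact ⟨1, by rw [pow_one]; exact hbp⟩
  · intro x hx y hy
    have := hT.is_comm.comm (⟨x, hx⟩ : T) ⟨y, hy⟩
    exact congrArg Subtype.val this

/-- For odd p, a faithful group on an elementary abelian p-group generated by two quadratically acting elements is a p-group or has non-abelian Sylow 2-subgroups. -/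
theorem result {G : Type*} [Group G] [Finite G] {p : ℕ} [Fact p.Prime] (hp : p ≠ 2) (V H : Subgroup G) (hV : Cfsg.IsElementaryAbelian p V) (hHV : H ≤ Subgroup.normalizer (V : Set G)) (hf : H ⊓ Subgroup.centralizer (V : Set G) = ⊥) (a b : G) (hab : H = Subgroup.closure {a, b}) (ha : ⁅⁅V, Subgroup.zpowers a⁆, Subgroup.zpowers a⁆ = ⊥) (hb : ⁅⁅V, Subgroup.zpowers b⁆, Subgroup.zpowers b⁆ = ⊥) (hnp : ¬ IsPGroup p H) (T : Sylow 2 H) : ¬ IsMulCommutative T := by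
  have hpp : p.Prime := Fact.out
  have haH : a ∈ H := by rw [hab]; exact Subgroup.subset_closure (by simp)
  have hbH : b ∈ H := by rw [hab]; exact Subgroup.subset_closure (by simp)
  have hgen : Subgroup.closure ({⟨a, haH⟩, ⟨b, hbH⟩} : Set H) = ⊤ := by
    have key : ∀ (H : Subgroup G) (_ : H = Subgroup.closure {a, b}) (haH : a ∈ H) (hbH : b ∈ H),
        Subgroup.closure ({⟨a, haH⟩, ⟨b, hbH⟩} : Set H) = ⊤ := by
      intro H hab haH hbH
      subst hab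
      have h := Subgroup.closure_closure_coe_preimage (k := ({a, b} : Set G))
      rw [← h]
      congr 1
      ext x
      simp only [Set.mem_insert_iff, Set.mem_singleton_iff, Set.mem_preimage, Subtype.ext_iff]
    exact key H hab haH hbH
  obtain ⟨n, θ, ρ₀, hρ₀⟩ := Cfsg.H5.Lin.exists_rep V H hV hHV
  have hfaith : ∀ h : H, ρ₀ h = 1 → h = 1 := by
    intro h hh
    have h1 := (Cfsg.H5.Lin.rep_eq_one_iff θ ρ₀ hρ₀ hHV h).1 hh
    have h2 : (h : G) ∈ H ⊓ Subgroup.centralizer (V : Set G) := ⟨h.2, h1⟩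
    rw [hf, Subgroup.mem_bot] at h2
    exact Subtype.ext h2
  have hA₀ : (ρ₀ ⟨a, haH⟩ - 1) * (ρ₀ ⟨a, haH⟩ - 1) = 0 :=
    Cfsg.H5.Lin.rep_quadratic θ ρ₀ hρ₀ hHV ⟨a, haH⟩ (quad_elementwise ha)
  have hB₀ : (ρ₀ ⟨b, hbH⟩ - 1) * (ρ₀ ⟨b, hbH⟩ - 1) = 0 :=
    Cfsg.H5.Lin.rep_quadratic θ ρ₀ hρ₀ hHV ⟨b, hbH⟩ (quad_elementwise hb)
  -- the order of `a b`
  obtain ⟨e, k, hkp, hek⟩ := Nat.exists_eq_pow_mul_and_not_dvd
    (orderOf_pos ((⟨a, haH⟩ : H) * ⟨b, hbH⟩)).ne' p hpp.ne_one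
  have hk0 : 0 < k := by
    rcases Nat.eq_zero_or_pos k with h | h
    · exfalso; exact hkp (h ▸ dvd_zero p)
    · exact h
  have hkc : k.Coprime p := ((Nat.Prime.coprime_iff_not_dvd hpp).2 hkp).symm
  obtain ⟨d, hd0, hkd⟩ := exists_dvd_pow_sub_one hpp.pos hkc hk0
  have hab' : ((⟨a, haH⟩ : H) * ⟨b, hbH⟩) ^ (p ^ e * k) = 1 := by
    rw [← hek]
    exact pow_orderOf_eq_one _
  exact core hp (GaloisField p d) (⟨a, haH⟩ : H) ⟨b, hbH⟩ hgen n ρ₀
    hfaith hA₀ hB₀ hnp e k hk0 hab' (by rw [GaloisField.card p d hd0]; exact hkd) T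

end Cfsg.Agent.S0593
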