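import Mathlib
import Cfsg.Statements.S0595
import Cfsg.Agent.S0593
import Cfsg.Agent.Lib.Helper1.BaerSuzuki

set_option autoImplicit false
set_option linter.style.haveILetI false
open Cfsg
open Pointwise

namespace Cfsg.Agent.S0595

/-- conjugates of a quadratically acting element by elements of `N(V)` act quadratically -/
theorem quad_conj {G : Type*} [Group G] {V : Subgroup G} {a h : G}
    (hh : h ∈ Subgroup.normalizer (V : Set G))
    (ha : ⁅⁅V, Subgroup.zpowers a⁆, Subgroup.zpowers a⁆ = ⊥) :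
    ⁅⁅V, Subgroup.zpowers (h * a * h⁻¹)⁆, Subgroup.zpowers (h * a * h⁻¹)⁆ = ⊥ := by
  have hV : V.map (MulAut.conj h).toMonoidHom = V := by
    have := Cfsg.Agent.Lib.Helper1.conj_smul_eq_self_iff_mem_normalizer.2 hh
    exact this
  have hA : (Subgroup.zpowers a).map (MulAut.conj h).toMonoidHom =
      Subgroup.zpowers (h * a * h⁻¹) := by
    rw [MonoidHom.map_zpowers]
    rfl
  have h1 := congrArg (Subgroup.map (MulAut.conj h).toMonoidHom) ha
  rw [Subgroup.map_commutator, Subgroup.map_commutator, hV, hA, Subgroup.map_bot] at h1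
  exact h1

/-- if a Sylow `2`-subgroup is abelian, so is every `2`-subgroup -/
theorem comm_of_two_subgroup {Γ : Type*} [Group Γ] [Finite Γ] (T : Sylow 2 Γ)
    (hT : IsMulCommutative T) (P : Subgroup Γ) (hP : IsPGroup 2 P) :
    ∀ x ∈ P, ∀ y ∈ P, x * y = y * x := by
  obtain ⟨Q, hPQ⟩ := hP.exists_le_sylow
  obtain ⟨g, rfl⟩ := MulAction.exists_smul_eq Γ T Q
  intro x hx y hy
  have hx1 : x ∈ ((g • T : Sylow 2 Γ) : Subgroup Γ) := hPQ hx
  have hy1 : y ∈ ((g • T : Sylow 2 Γ) : Subgroup Γ) := hPQ hy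
  rw [Sylow.coe_subgroup_smul, Subgroup.mem_smul_pointwise_iff_exists] at hx1 hy1
  obtain ⟨s, hs, rfl⟩ := hx1
  obtain ⟨t, ht, rfl⟩ := hy1
  have h1 : s * t = t * s := congrArg Subtype.val (hT.is_comm.comm (⟨s, hs⟩ : T) ⟨t, ht⟩)
  rw [← smul_mul', ← smul_mul', h1]

/-- For odd p, a faithful action on an elementary abelian p-group that is not p-stable forces non-abelian Sylow 2-subgroups. -/
theorem result {G : Type*} [Group G] [Finite G] {p : ℕ} [Fact p.Prime] (hp : p ≠ 2) (V H : Subgroup G) (hV : Cfsg.IsElementaryAbelian p V) (hHV : H ≤ Subgroup.normalizer (V : Set G)) (hf : H ⊓ Subgroup.centralizer (V : Set G) = ⊥) (a : G) (haH : a ∈ H) (hq : ⁅⁅V, Subgroup.zpowers a⁆, Subgroup.zpowers a⁆ = ⊥) (hna : a ∉ (Cfsg.pCore p H).map H.subtype) (T : Sylow 2 H) : ¬ IsMulCommutative T := by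
  intro hT
  have hna' : (⟨a, haH⟩ : H) ∉ Cfsg.pCore p H := by
    intro h
    exact hna ⟨⟨a, haH⟩, h, rfl⟩
  -- Baer–Suzuki
  have hBS : ∃ x y : H, (∃ h : H, x = h * ⟨a, haH⟩ * h⁻¹) ∧ (∃ h : H, y = h * ⟨a, haH⟩ * h⁻¹) ∧
      ¬ IsPGroup p (Subgroup.closure ({x, y} : Set H)) := by
    by_contra hcon
    push Not at hcon
    apply hna'
    refine Cfsg.Agent.Lib.Helper1.baer_suzuki (p := p)
      {x : H | ∃ h : H, x = h * ⟨a, haH⟩ * h⁻¹} ?_ ?_ _ ⟨1, by simp⟩
    · rintro g x ⟨h, rfl⟩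
      exact ⟨g * h, by group⟩
    · intro x hx y hy
      exact hcon x y hx hy
  obtain ⟨x, y, ⟨h₁, hx⟩, ⟨h₂, hy⟩, hnp⟩ := hBS
  -- the subgroup generated by the two conjugates
  obtain ⟨H', hH'⟩ : ∃ H' : Subgroup G, H' = Subgroup.closure {(x : G), (y : G)} := ⟨_, rfl⟩
  have hH'H : H' ≤ H := by
    rw [hH', Subgroup.closure_le]
    rintro z (rfl | rfl)
    · exact x.2
    · exact y.2
  have hqx : ⁅⁅V, Subgroup.zpowers (x : G)⁆, Subgroup.zpowers (x : G)⁆ = ⊥ := by
    have : (x : G) = (h₁ : G) * a * (h₁ : G)⁻¹ := by rw [hx]; rfl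
    rw [this]
    exact quad_conj (hHV h₁.2) hq
  have hqy : ⁅⁅V, Subgroup.zpowers (y : G)⁆, Subgroup.zpowers (y : G)⁆ = ⊥ := by
    have : (y : G) = (h₂ : G) * a * (h₂ : G)⁻¹ := by rw [hy]; rfl
    rw [this]
    exact quad_conj (hHV h₂.2) hq
  have hf' : H' ⊓ Subgroup.centralizer (V : Set G) = ⊥ := by
    rw [eq_bot_iff, ← hf]
    exact inf_le_inf_right _ hH'H
  have hnp' : ¬ IsPGroup p H' := by
    intro hP
    apply hnp
    intro g
    have hg : ((g : H) : G) ∈ H' := by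
      have h1 : (Subgroup.closure ({x, y} : Set H)).map H.subtype = H' := by
        rw [MonoidHom.map_closure, hH']
        congr 1
        ext z
        simp only [Set.mem_image, Set.mem_insert_iff, Set.mem_singleton_iff, Subgroup.coe_subtype]
        constructor
        · rintro ⟨w, rfl | rfl, rfl⟩
          · left; rfl
          · right; rfl
        · rintro (rfl | rfl)
          · exact ⟨x, Or.inl rfl, rfl⟩
          · exact ⟨y, Or.inr rfl, rfl⟩
      rw [← h1]
      exact ⟨g, g.2, rfl⟩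
    obtain ⟨k, hk⟩ := hP ⟨_, hg⟩
    refine ⟨k, ?_⟩
    apply Subtype.ext
    apply Subtype.ext
    have := congrArg Subtype.val hk
    simpa using this
  obtain ⟨T'⟩ : Nonempty (Sylow 2 H') := inferInstance
  apply Cfsg.Agent.S0593.result hp V H' hV (hH'H.trans hHV) hf' (x : G) (y : G) hH' hqx hqy hnp' T'
  -- `T'` is abelian
  have hP : IsPGroup 2 ((T' : Subgroup H').map (Subgroup.inclusion hH'H)) := T'.2.map _
  have hcomm := comm_of_two_subgroup T hT _ hP
  refine ⟨⟨fun u v => ?_⟩⟩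
  have h1 := hcomm _ ⟨u, u.2, rfl⟩ _ ⟨v, v.2, rfl⟩
  rw [← map_mul, ← map_mul] at h1
  have h2 := Subgroup.inclusion_injective hH'H h1
  exact Subtype.ext h2

end Cfsg.Agent.S0595
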