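import Cfsg.Statements.S1963
import Cfsg.Agent.Lib.Helper13.Conj
import Cfsg.Agent.Lib.Helper13.Sylow
import Cfsg.Agent.Lib.Helper13.PGroup
import Cfsg.Agent.Lib.Helper13.SylowRel

set_option autoImplicit false
open Cfsg

namespace Cfsg.Agent.S1963

open Cfsg.Agent.Lib.Helper13

variable {G : Type*} [Group G]

theorem map_conj_eq_self_of_mem (P : Subgroup G) {x : G} (hx : x ∈ P) :
    P.map (MulAut.conj x).toMonoidHom = P :=
  (map_conj_eq_self_iff_mem_normalizer P x).mpr (Subgroup.le_normalizer hx)

/-- "good up to k": the first `k` terms of the tower have `N_S` Sylow in `N_G`. -/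
def GoodUpTo (p : ℕ) (W : Subgroup G → Subgroup G) (S T : Subgroup G) (k : ℕ) : Prop :=
  ∀ i < k, ¬ p ∣ (S ⊓ Subgroup.normalizer ((functorTower W S T i : Subgroup G) : Set G)).relIndex
      (Subgroup.normalizer ((functorTower W S T i : Subgroup G) : Set G))

section
variable {p : ℕ} (W : Subgroup G → Subgroup G) (hW : Cfsg.IsConjugacyFunctor p W)
  (S : Subgroup G) (hS : IsPGroup p S)
include hW hS

theorem tower_le (T : Subgroup G) (hT : T ≤ S) : ∀ i, functorTower W S T i ≤ S := by
  intro i
  cases i with
  | zero => exact hT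
  | succ i =>
    show W (S ⊓ Subgroup.normalizer ((functorTower W S T i : Subgroup G) : Set G)) ≤ S
    exact ((hW _ (hS.to_le inf_le_left)).1).trans inf_le_left

theorem NS_le_succ (T : Subgroup G) (i : ℕ) :
    S ⊓ Subgroup.normalizer ((functorTower W S T i : Subgroup G) : Set G) ≤
      S ⊓ Subgroup.normalizer ((functorTower W S T (i + 1) : Subgroup G) : Set G) := by
  refine le_inf inf_le_left ?_
  intro x hx
  show x ∈ Subgroup.normalizer ((W (S ⊓ Subgroup.normalizer ((functorTower W S T i : Subgroup G) : Set G)) : Subgroup G) : Set G)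
  rw [← map_conj_eq_self_iff_mem_normalizer]
  have hp := hS.to_le (inf_le_left : S ⊓ Subgroup.normalizer ((functorTower W S T i : Subgroup G) : Set G) ≤ S)
  rw [← (hW _ hp).2.2 x, map_conj_eq_self_of_mem _ hx]

theorem NS_mono (T : Subgroup G) {i j : ℕ} (hij : i ≤ j) :
    S ⊓ Subgroup.normalizer ((functorTower W S T i : Subgroup G) : Set G) ≤
      S ⊓ Subgroup.normalizer ((functorTower W S T j : Subgroup G) : Set G) := by
  induction hij with
  | refl => exact le_rfl
  | step _ ih => exact ih.trans (NS_le_succ W hW S hS T _)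

end

section
variable [Finite G] {p : ℕ} [Fact p.Prime] (W : Subgroup G → Subgroup G) (hW : Cfsg.IsConjugacyFunctor p W)
  (S : Subgroup G) (hS : IsPGroup p S)
include hW hS

theorem conj_tower (T : Subgroup G) (n : G) (k : ℕ)
    (hn : (S ⊓ Subgroup.normalizer ((functorTower W S T k : Subgroup G) : Set G)).map (MulAut.conj n).toMonoidHom ≤ S)
    (hgood : GoodUpTo p W S T k) :
    ∀ i ≤ k, functorTower W S (T.map (MulAut.conj n).toMonoidHom) i = (functorTower W S T i).map (MulAut.conj n).toMonoidHom ∧
      (i < k → S ⊓ Subgroup.normalizer ((functorTower W S (T.map (MulAut.conj n).toMonoidHom) i : Subgroup G) : Set G) =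
        (S ⊓ Subgroup.normalizer ((functorTower W S T i : Subgroup G) : Set G)).map (MulAut.conj n).toMonoidHom) := by
  -- second part from first part
  have second : ∀ i, i < k →
      functorTower W S (T.map (MulAut.conj n).toMonoidHom) i = (functorTower W S T i).map (MulAut.conj n).toMonoidHom →
      S ⊓ Subgroup.normalizer ((functorTower W S (T.map (MulAut.conj n).toMonoidHom) i : Subgroup G) : Set G) =
        (S ⊓ Subgroup.normalizer ((functorTower W S T i : Subgroup G) : Set G)).map (MulAut.conj n).toMonoidHom := by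
    intro i hik h1
    rw [h1, normalizer_map_conj]
    apply eq_of_le_of_not_dvd_relIndex (p := p)
      ((Subgroup.normalizer ((functorTower W S T i : Subgroup G) : Set G)).map (MulAut.conj n).toMonoidHom)
    · -- Q ≤ Q'
      apply le_inf
      · exact (Subgroup.map_mono (NS_mono W hW S hS T hik.le)).trans hn
      · exact Subgroup.map_mono inf_le_right
    · exact inf_le_right
    · exact hS.to_le inf_le_left
    · rw [relIndex_map_conj]; exact hgood i hik
  intro i
  induction i with
  | zero =>
    intro _
    refine ⟨rfl, fun h0 => second 0 h0 rfl⟩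
  | succ i ih =>
    intro hik
    have hik' : i < k := hik
    obtain ⟨h1, h2⟩ := ih hik'.le
    have h3 := h2 hik'
    have first : functorTower W S (T.map (MulAut.conj n).toMonoidHom) (i + 1) =
        (functorTower W S T (i + 1)).map (MulAut.conj n).toMonoidHom := by
      show W (S ⊓ Subgroup.normalizer ((functorTower W S (T.map (MulAut.conj n).toMonoidHom) i : Subgroup G) : Set G)) =
        (W (S ⊓ Subgroup.normalizer ((functorTower W S T i : Subgroup G) : Set G))).map (MulAut.conj n).toMonoidHom
      rw [h3]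
      exact (hW _ (hS.to_le inf_le_left)).2.2 n
    exact ⟨first, fun h => second (i + 1) h first⟩

theorem conj_good (T : Subgroup G) (n : G) (k : ℕ)
    (hn : (S ⊓ Subgroup.normalizer ((functorTower W S T k : Subgroup G) : Set G)).map (MulAut.conj n).toMonoidHom ≤ S)
    (hgood : GoodUpTo p W S T k) : GoodUpTo p W S (T.map (MulAut.conj n).toMonoidHom) k := by
  intro i hik
  obtain ⟨h1, h2⟩ := conj_tower W hW S hS T n k hn hgood i hik.le
  rw [h2 hik, h1, normalizer_map_conj, relIndex_map_conj]
  exact hgood i hik

end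

section
variable [Finite G] {p : ℕ} [Fact p.Prime] (W : Subgroup G → Subgroup G) (hW : Cfsg.IsConjugacyFunctor p W)
  (S : Sylow p G)
include hW

theorem step (T : Subgroup G) (hT : T ≤ (S : Subgroup G)) (k : ℕ) (hgood : GoodUpTo p W (S : Subgroup G) T k) :
    ∃ n : G, T.map (MulAut.conj n).toMonoidHom ≤ (S : Subgroup G) ∧
      GoodUpTo p W (S : Subgroup G) (T.map (MulAut.conj n).toMonoidHom) (k + 1) := by
  have hS := S.isPGroup'
  obtain ⟨n, hn1, hn2⟩ := exists_conj_normalizer_sylow S (functorTower W (S : Subgroup G) T k)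
  refine ⟨n, ?_, ?_⟩
  · have h0 : T ≤ (S : Subgroup G) ⊓ Subgroup.normalizer ((functorTower W (S : Subgroup G) T 0 : Subgroup G) : Set G) :=
      le_inf hT Subgroup.le_normalizer
    have h1 := h0.trans (NS_mono W hW (S : Subgroup G) hS T (Nat.zero_le k))
    exact (Subgroup.map_mono h1).trans hn1
  · intro i hi
    rcases Nat.lt_succ_iff_lt_or_eq.mp hi with hlt | heq
    · exact conj_good W hW (S : Subgroup G) hS T n k hn1 hgood i hlt
    · subst heq
      obtain ⟨h1, -⟩ := conj_tower W hW (S : Subgroup G) hS T n i hn1 hgood i le_rfl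
      rw [h1]; exact hn2

theorem exists_good (T : Subgroup G) (hT : T ≤ (S : Subgroup G)) (k : ℕ) :
    ∃ g : G, T.map (MulAut.conj g).toMonoidHom ≤ (S : Subgroup G) ∧
      GoodUpTo p W (S : Subgroup G) (T.map (MulAut.conj g).toMonoidHom) k := by
  induction k with
  | zero =>
    refine ⟨1, ?_, ?_⟩
    · rw [map_conj_one]; exact hT
    · intro i hi; exact absurd hi (Nat.not_lt_zero i)
  | succ k ih =>
    obtain ⟨g, hg1, hg2⟩ := ih
    obtain ⟨n, hn1, hn2⟩ := step W hW S _ hg1 k hg2
    refine ⟨n * g, ?_, ?_⟩
    · rw [map_conj_mul]; exact hn1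
    · rw [map_conj_mul]; exact hn2

/-- stabilization of the tower -/
theorem good_all (T : Subgroup G) (hT : T ≤ (S : Subgroup G))
    (hgood : GoodUpTo p W (S : Subgroup G) T (Nat.card (S : Subgroup G) + 2)) :
    ∀ i, ¬ p ∣ ((S : Subgroup G) ⊓ Subgroup.normalizer ((functorTower W (S : Subgroup G) T i : Subgroup G) : Set G)).relIndex
      (Subgroup.normalizer ((functorTower W (S : Subgroup G) T i : Subgroup G) : Set G)) := by
  have hS := S.isPGroup'
  set c : ℕ → ℕ := fun i => Nat.card ((S : Subgroup G) ⊓ Subgroup.normalizer ((functorTower W (S : Subgroup G) T i : Subgroup G) : Set G) : Subgroup G) with hc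
  have hcmono : ∀ i, c i ≤ c (i + 1) := fun i => Subgroup.card_le_of_le (NS_le_succ W hW (S : Subgroup G) hS T i)
  have hcle : ∀ i, c i ≤ Nat.card (S : Subgroup G) := fun i => Subgroup.card_le_of_le inf_le_left
  have hcpos : ∀ i, 1 ≤ c i := fun i => Nat.card_pos
  -- there is a repetition
  have hrep : ∃ i ≤ Nat.card (S : Subgroup G), c i = c (i + 1) := by
    by_contra hcon
    push Not at hcon
    have hstrict : ∀ i ≤ Nat.card (S : Subgroup G) + 1, i + 1 ≤ c i := by
      intro i
      induction i with
      | zero => intro _; exact hcpos 0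
      | succ i ih =>
        intro hi
        have h1 := ih (by omega)
        have h2 := hcon i (by omega)
        have h3 := hcmono i
        omega
    have := hstrict (Nat.card (S : Subgroup G)) (by omega)
    have := hcle (Nat.card (S : Subgroup G))
    omega
  obtain ⟨i0, hi0, hci0⟩ := hrep
  have heqNS : (S : Subgroup G) ⊓ Subgroup.normalizer ((functorTower W (S : Subgroup G) T i0 : Subgroup G) : Set G) =
      (S : Subgroup G) ⊓ Subgroup.normalizer ((functorTower W (S : Subgroup G) T (i0 + 1) : Subgroup G) : Set G) :=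
    Subgroup.eq_of_le_of_card_ge (NS_le_succ W hW (S : Subgroup G) hS T i0) hci0.ge
  have hconst : ∀ j, functorTower W (S : Subgroup G) T (i0 + 1 + j) = functorTower W (S : Subgroup G) T (i0 + 1) := by
    intro j
    induction j with
    | zero => rfl
    | succ j ih =>
      show W ((S : Subgroup G) ⊓ Subgroup.normalizer ((functorTower W (S : Subgroup G) T (i0 + 1 + j) : Subgroup G) : Set G)) =
        W ((S : Subgroup G) ⊓ Subgroup.normalizer ((functorTower W (S : Subgroup G) T i0 : Subgroup G) : Set G))
      rw [ih, heqNS]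
  intro i
  rcases Nat.lt_or_ge i (i0 + 1) with hlt | hge
  · exact hgood i (by omega)
  · obtain ⟨j, rfl⟩ := Nat.exists_eq_add_of_le hge
    rw [hconst j]
    exact hgood (i0 + 1) (by omega)

end

/-- Let p be a prime, G a finite group with Sylow p-subgroup S, W a conjugacy functor for p on G and T a subgroup of S. Then some G-conjugate of T is well placed in S with respect to W. -/
theorem result {G : Type*} [Group G] [Finite G] {p : ℕ} [Fact p.Prime] (S : Sylow p G) (W : Subgroup G → Subgroup G) (hW : Cfsg.IsConjugacyFunctor p W) (T : Subgroup G) (hT : T ≤ (S : Subgroup G)) : ∃ g : G, Cfsg.IsWellPlaced p W (S : Subgroup G) (T.map (MulAut.conj g).toMonoidHom) := by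
  obtain ⟨g, hg1, hg2⟩ := exists_good W hW S T hT (Nat.card (S : Subgroup G) + 2)
  exact ⟨g, hg1, good_all W hW S _ hg1 hg2⟩

end Cfsg.Agent.S1963
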