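import Cfsg.Statements.S1961
import Cfsg.Agent.S1963
import Cfsg.Agent.S1965

set_option autoImplicit false
open Cfsg

namespace Cfsg.Agent.S1961

open Cfsg.Agent.Lib.Helper13

variable {G : Type*} [Group G]

/-- `N(P) ≤ N(W P)` for a conjugacy functor. -/
theorem normalizer_le_normalizer_functor {p : ℕ} (W : Subgroup G → Subgroup G) (hW : Cfsg.IsConjugacyFunctor p W)
    (P : Subgroup G) (hP : IsPGroup p P) :
    Subgroup.normalizer (P : Set G) ≤ Subgroup.normalizer ((W P : Subgroup G) : Set G) := by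
  intro y hy
  rw [← map_conj_eq_self_iff_mem_normalizer] at hy ⊢
  rw [← (hW P hP).2.2 y, hy]

theorem tower_shift (W : Subgroup G → Subgroup G) (S U : Subgroup G) (i : ℕ) :
    functorTower W S (W (S ⊓ Subgroup.normalizer (U : Set G))) i = functorTower W S U (i + 1) := by
  induction i with
  | zero => rfl
  | succ i ih =>
    show W (S ⊓ Subgroup.normalizer ((functorTower W S (W (S ⊓ Subgroup.normalizer (U : Set G))) i : Subgroup G) : Set G)) =
      W (S ⊓ Subgroup.normalizer ((functorTower W S U (i + 1) : Subgroup G) : Set G))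
    rw [ih]

theorem wellPlaced_shift {p : ℕ} (W : Subgroup G → Subgroup G) (hW : Cfsg.IsConjugacyFunctor p W)
    (S U : Subgroup G) (hS : IsPGroup p S) (hU : IsWellPlaced p W S U) :
    IsWellPlaced p W S (W (S ⊓ Subgroup.normalizer (U : Set G))) := by
  refine ⟨((hW _ (hS.to_le inf_le_left)).1).trans inf_le_left, ?_⟩
  intro i
  rw [tower_shift]
  exact hU.2 (i + 1)

section
variable [Finite G] {p : ℕ} [Fact p.Prime]

/-- the control property holds for every Sylow subgroup of `H` -/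
theorem control_any_sylow (W : Subgroup G → Subgroup G) (hW : Cfsg.IsConjugacyFunctor p W) (H : Subgroup G)
    (hc : Cfsg.ControlsStrongFusionIn p W H) (T' : Subgroup G) (hT'H : T' ≤ H) (hT'p : IsPGroup p T')
    (hT'i : ¬ p ∣ T'.relIndex H) :
    ∀ (A : Set G) (g : G), g ∈ H → A ⊆ T' → (fun a => g * a * g⁻¹) '' A ⊆ T' →
      ∃ x ∈ H ⊓ Subgroup.normalizer ((W T' : Subgroup G) : Set G), ∀ a ∈ A, x * a * x⁻¹ = g * a * g⁻¹ := by
  obtain ⟨T, hTH, hTp, hTi, hT⟩ := hc
  obtain ⟨h, hhH, hh⟩ := exists_conj_le_of_relIndex H T T' hTp hTi hT'H hT'p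
  -- T = h T' h⁻¹
  have hmapH : H.map (MulAut.conj h).toMonoidHom = H :=
    (map_conj_eq_self_iff_mem_normalizer H h).mpr (Subgroup.le_normalizer hhH)
  have hTeq : T = T'.map (MulAut.conj h).toMonoidHom := by
    apply eq_of_le_of_not_dvd_relIndex (p := p) H
    · rw [map_conj_le_iff]; exact hh
    · exact hTH
    · exact hTp
    · have := relIndex_map_conj T' H h
      rw [hmapH] at this
      rw [this]; exact hT'i
  intro A g hgH hAT' hAg
  have hA1 : (fun a => h * a * h⁻¹) '' A ⊆ T := by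
    rintro _ ⟨a, ha, rfl⟩
    exact hh a (hAT' ha)
  have hg1 : h * g * h⁻¹ ∈ H := H.mul_mem (H.mul_mem hhH hgH) (H.inv_mem hhH)
  have hA1g : (fun a => (h * g * h⁻¹) * a * (h * g * h⁻¹)⁻¹) '' ((fun a => h * a * h⁻¹) '' A) ⊆ T := by
    rintro _ ⟨_, ⟨a, ha, rfl⟩, rfl⟩
    have h1 : g * a * g⁻¹ ∈ T' := hAg ⟨a, ha, rfl⟩
    have h2 := hh _ h1
    have : (h * g * h⁻¹) * (h * a * h⁻¹) * (h * g * h⁻¹)⁻¹ = h * (g * a * g⁻¹) * h⁻¹ := by group
    show (h * g * h⁻¹) * (h * a * h⁻¹) * (h * g * h⁻¹)⁻¹ ∈ T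
    rw [this]; exact h2
  obtain ⟨x, hx, hxA⟩ := hT _ (h * g * h⁻¹) hg1 hA1 hA1g
  obtain ⟨hxH, hxN⟩ := Subgroup.mem_inf.mp hx
  have hWT : W T = (W T').map (MulAut.conj h).toMonoidHom := by
    rw [hTeq]; exact (hW T' hT'p).2.2 h
  refine ⟨h⁻¹ * x * h, Subgroup.mem_inf.mpr ⟨H.mul_mem (H.mul_mem (H.inv_mem hhH) hxH) hhH, ?_⟩, ?_⟩
  · rw [← map_conj_eq_self_iff_mem_normalizer] at hxN ⊢
    have e1 : (W T').map (MulAut.conj (h⁻¹ * x * h)).toMonoidHom =
        (((W T').map (MulAut.conj h).toMonoidHom).map (MulAut.conj x).toMonoidHom).map (MulAut.conj h⁻¹).toMonoidHom := by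
      rw [← map_conj_mul, ← map_conj_mul, mul_assoc]
    rw [e1, ← hWT, hxN, hWT, map_conj_inv_map_conj]
  · intro a ha
    have h3 := hxA (h * a * h⁻¹) ⟨a, ha, rfl⟩
    calc h⁻¹ * x * h * a * (h⁻¹ * x * h)⁻¹ = h⁻¹ * (x * (h * a * h⁻¹) * x⁻¹) * h := by group
      _ = h⁻¹ * ((h * g * h⁻¹) * (h * a * h⁻¹) * (h * g * h⁻¹)⁻¹) * h := by rw [h3]
      _ = g * a * g⁻¹ := by group

/-- the climbing claim -/
theorem climb (S : Sylow p G) (W : Subgroup G → Subgroup G) (hW : Cfsg.IsConjugacyFunctor p W)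
    (hloc : ∀ T : Subgroup G, T ≠ ⊥ → Cfsg.IsWellPlaced p W (S : Subgroup G) T →
      Cfsg.ControlsStrongFusionIn p W (Subgroup.normalizer ((T : Subgroup G) : Set G))) :
    ∀ (m : ℕ) (U : Subgroup G), U ≠ ⊥ → Cfsg.IsWellPlaced p W (S : Subgroup G) U →
      Nat.card (S : Subgroup G) - Nat.card ((S : Subgroup G) ⊓ Subgroup.normalizer (U : Set G) : Subgroup G) = m →
      ∀ (A : Set G) (x : G), A ⊆ ((S : Subgroup G) ⊓ Subgroup.normalizer (U : Set G) : Subgroup G) →
        x ∈ Subgroup.normalizer (U : Set G) →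
        (fun a => x * a * x⁻¹) '' A ⊆ ((S : Subgroup G) ⊓ Subgroup.normalizer (U : Set G) : Subgroup G) →
        ∃ y ∈ Subgroup.normalizer ((W (S : Subgroup G) : Subgroup G) : Set G), ∀ a ∈ A, y * a * y⁻¹ = x * a * x⁻¹ := by
  intro m
  induction m using Nat.strong_induction_on with
  | _ m ih =>
    intro U hU1 hUwp hm A x hA hx hAx
    have hS := S.isPGroup'
    set NU : Subgroup G := (S : Subgroup G) ⊓ Subgroup.normalizer (U : Set G) with hNU
    have hNUp : IsPGroup p NU := hS.to_le inf_le_left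
    have hctl := hloc U hU1 hUwp
    obtain ⟨x1, hx1, hx1A⟩ := control_any_sylow W hW _ hctl NU inf_le_right hNUp (hUwp.2 0) A x hx hA hAx
    obtain ⟨-, hx1N⟩ := Subgroup.mem_inf.mp hx1
    by_cases hNUS : NU = (S : Subgroup G)
    · refine ⟨x1, ?_, hx1A⟩
      rw [← hNUS]; exact hx1N
    · have hlt : NU < (S : Subgroup G) := lt_of_le_of_ne inf_le_left hNUS
      set U1 : Subgroup G := W NU with hU1def
      have hU1wp : IsWellPlaced p W (S : Subgroup G) U1 := wellPlaced_shift W hW _ U hS hUwp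
      have hNUne : NU ≠ ⊥ := by
        intro h
        apply hU1
        have : U ≤ NU := le_inf hUwp.1 Subgroup.le_normalizer
        rw [h] at this
        exact le_bot_iff.mp this
      have hU1ne : U1 ≠ ⊥ := (hW NU hNUp).2.1 hNUne
      have hgrow : NU < (S : Subgroup G) ⊓ Subgroup.normalizer (NU : Set G) :=
        lt_inf_normalizer_of_lt (S : Subgroup G) NU hS hlt
      have hle : (S : Subgroup G) ⊓ Subgroup.normalizer (NU : Set G) ≤ (S : Subgroup G) ⊓ Subgroup.normalizer (U1 : Set G) :=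
        inf_le_inf_left _ (normalizer_le_normalizer_functor W hW NU hNUp)
      have hlt2 : NU < (S : Subgroup G) ⊓ Subgroup.normalizer (U1 : Set G) := lt_of_lt_of_le hgrow hle
      have hcard : Nat.card NU < Nat.card ((S : Subgroup G) ⊓ Subgroup.normalizer (U1 : Set G) : Subgroup G) :=
        card_lt_card_of_lt hlt2
      have hcardS : Nat.card ((S : Subgroup G) ⊓ Subgroup.normalizer (U1 : Set G) : Subgroup G) ≤ Nat.card (S : Subgroup G) :=
        Subgroup.card_le_of_le inf_le_left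
      have hAx1 : (fun a => x1 * a * x1⁻¹) '' A ⊆ ((S : Subgroup G) ⊓ Subgroup.normalizer (U1 : Set G) : Subgroup G) := by
        rintro _ ⟨a, ha, rfl⟩
        show x1 * a * x1⁻¹ ∈ ((S : Subgroup G) ⊓ Subgroup.normalizer (U1 : Set G) : Subgroup G)
        rw [hx1A a ha]
        exact hlt2.le (hAx ⟨a, ha, rfl⟩)
      obtain ⟨y, hy, hyA⟩ := ih _ (by omega) U1 hU1ne hU1wp rfl A x1 (fun a ha => hlt2.le (hA ha)) hx1N hAx1
      exact ⟨y, hy, fun a ha => (hyA a ha).trans (hx1A a ha)⟩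

end

/-- Local-to-global control of strong fusion through well-placed subgroups. Let p be a prime, G a finite group with Sylow p-subgroup S, and W a conjugacy functor for p on G. If W controls strong fusion in N_G(T) for every nonidentity subgroup T of S that is well placed in S with respect to W, then W controls strong fusion in G. -/
theorem result {G : Type*} [Group G] [Finite G] {p : ℕ} [Fact p.Prime] (S : Sylow p G) (W : Subgroup G → Subgroup G) (hW : Cfsg.IsConjugacyFunctor p W) (hloc : ∀ T : Subgroup G, T ≠ ⊥ → Cfsg.IsWellPlaced p W (S : Subgroup G) T → Cfsg.ControlsStrongFusionIn p W (Subgroup.normalizer ((T : Subgroup G) : Set G))) : Cfsg.ControlsStrongFusionIn p W ⊤ := by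
  have hS := S.isPGroup'
  set 𝓕 : Set (Subgroup G) := {T : Subgroup G | Cfsg.IsWellPlaced p W (S : Subgroup G) T} with h𝓕def
  -- chain lemma
  have chain : ∀ (L : List (Subgroup G × G)) (A : Set G), Cfsg.Agent.S1965.Valid 𝓕 A L → (∃ a ∈ A, a ≠ 1) →
      ∃ y ∈ Subgroup.normalizer ((W (S : Subgroup G) : Subgroup G) : Set G),
        ∀ a ∈ A, y⁻¹ * a * y = ((L.map Prod.snd).prod)⁻¹ * a * (L.map Prod.snd).prod := by
    intro L
    induction L with
    | nil =>
      intro A _ _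
      exact ⟨1, Subgroup.one_mem _, fun a _ => by simp⟩
    | cons Tx L ih =>
      obtain ⟨T, x⟩ := Tx
      rintro A ⟨hT𝓕, hxN, hAT, hrest⟩ ⟨a0, ha0, ha01⟩
      have hTne : T ≠ ⊥ := by
        intro h
        have := hAT ha0
        rw [h] at this
        exact ha01 (Subgroup.mem_bot.mp this)
      have hTN : T ≤ (S : Subgroup G) ⊓ Subgroup.normalizer (T : Set G) := le_inf hT𝓕.1 Subgroup.le_normalizer
      have hAx : (fun a => x⁻¹ * a * x⁻¹⁻¹) '' A ⊆ ((S : Subgroup G) ⊓ Subgroup.normalizer (T : Set G) : Subgroup G) := by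
        rintro _ ⟨a, ha, rfl⟩
        apply hTN
        have := (Subgroup.mem_normalizer_iff.mp (Subgroup.inv_mem _ hxN) a).mp (hAT ha)
        exact this
      obtain ⟨y1, hy1, hy1A⟩ := climb S W hW hloc _ T hTne hT𝓕 rfl A x⁻¹ (fun a ha => hTN (hAT ha))
        (Subgroup.inv_mem _ hxN) hAx
      have hne' : ∃ b ∈ (fun a => x⁻¹ * a * x) '' A, b ≠ 1 := by
        refine ⟨x⁻¹ * a0 * x, ⟨a0, ha0, rfl⟩, ?_⟩
        intro h
        apply ha01
        calc a0 = x * (x⁻¹ * a0 * x) * x⁻¹ := by group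
          _ = 1 := by rw [h]; group
      obtain ⟨y2, hy2, hy2A⟩ := ih _ hrest hne'
      refine ⟨y1⁻¹ * y2, Subgroup.mul_mem _ (Subgroup.inv_mem _ hy1) hy2, ?_⟩
      intro a ha
      have h1 := hy1A a ha
      rw [inv_inv] at h1
      have h2 := hy2A (x⁻¹ * a * x) ⟨a, ha, rfl⟩
      simp only [List.map_cons, List.prod_cons]
      calc (y1⁻¹ * y2)⁻¹ * a * (y1⁻¹ * y2) = y2⁻¹ * (y1 * a * y1⁻¹) * y2 := by group
        _ = y2⁻¹ * (x⁻¹ * a * x) * y2 := by rw [h1]
        _ = ((L.map Prod.snd).prod)⁻¹ * (x⁻¹ * a * x) * (L.map Prod.snd).prod := h2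
        _ = (x * (L.map Prod.snd).prod)⁻¹ * a * (x * (L.map Prod.snd).prod) := by group
  refine ⟨(S : Subgroup G), le_top, hS, ?_, ?_⟩
  · rw [Subgroup.relIndex_top_right]; exact S.not_dvd_index
  · intro A h _ hAS hAh
    by_cases hne : ∃ a ∈ A, a ≠ 1
    · -- use the conjugation family of well-placed subgroups, with g = h⁻¹
      have h𝓕S : ∀ U ∈ 𝓕, U ≤ (S : Subgroup G) := fun U hU => hU.1
      have hfam : ∀ T : Subgroup G, T ≤ (S : Subgroup G) → ∃ U ∈ 𝓕, (∃ g : G, T.map (MulAut.conj g).toMonoidHom = U) ∧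
          ¬ p ∣ ((S : Subgroup G) ⊓ Subgroup.normalizer ((U : Subgroup G) : Set G)).relIndex (Subgroup.normalizer ((U : Subgroup G) : Set G)) := by
        intro T hT
        obtain ⟨g, hg⟩ := Cfsg.Agent.S1963.result S W hW T hT
        exact ⟨T.map (MulAut.conj g).toMonoidHom, hg, ⟨g, rfl⟩, hg.2 0⟩
      have hcl : Subgroup.closure A ≤ (S : Subgroup G) := (Subgroup.closure_le _).mpr hAS
      have hclg : ∀ t ∈ Subgroup.closure A, (h⁻¹)⁻¹ * t * h⁻¹ ∈ (S : Subgroup G) := by
        intro t ht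
        rw [inv_inv]
        induction ht using Subgroup.closure_induction with
        | mem y hy => exact hAh ⟨y, hy, rfl⟩
        | one => simp
        | mul a b _ _ iha ihb =>
          have : h * (a * b) * h⁻¹ = (h * a * h⁻¹) * (h * b * h⁻¹) := by group
          rw [this]; exact Subgroup.mul_mem _ iha ihb
        | inv a _ iha =>
          have : h * a⁻¹ * h⁻¹ = (h * a * h⁻¹)⁻¹ := by group
          rw [this]; exact Subgroup.inv_mem _ iha
      have hreach := Cfsg.Agent.S1965.main S 𝓕 h𝓕S hfam _ (Subgroup.closure A) h⁻¹ hcl hclg rfl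
      obtain ⟨L, hL, hLprod⟩ := Cfsg.Agent.S1965.reach_mono 𝓕 Subgroup.subset_closure hreach
      obtain ⟨y, hy, hyA⟩ := chain L A hL hne
      refine ⟨y⁻¹, Subgroup.mem_inf.mpr ⟨Subgroup.mem_top _, Subgroup.inv_mem _ hy⟩, ?_⟩
      intro a ha
      have := hyA a ha
      rw [hLprod, inv_inv] at this
      rw [inv_inv]; exact this
    · push Not at hne
      refine ⟨1, Subgroup.one_mem _, ?_⟩
      intro a ha
      rw [hne a ha]; group

end Cfsg.Agent.S1961
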