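import Mathlib
import Cfsg.Prelude.Def_Blocks
import Cfsg.Prelude.Def_Solvable
import Cfsg.Agent.Lib.Helper24.CentralPow
import Cfsg.Agent.Lib.Helper24.OrbitSum
import Cfsg.Agent.Lib.Helper24.LocalRing
import Cfsg.Agent.Lib.Helper1.Cores
import Cfsg.Agent.Lib.Helper2.Integrality

set_option autoImplicit false

namespace Cfsg

namespace Agent.S4487

open Cfsg.Agent.Lib.Helper24

section ClassSum

variable {G : Type*} [Group G] [Fintype G] (p : ℕ) [Fact p.Prime] (Q : Subgroup G) [Q.Normal]

/-- conjugation action of `Q` on a conjugacy class -/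
def conjAction (g : G) : MulAction Q {x : G // IsConj g x} where
  smul u x := ⟨u * x * (u : G)⁻¹, x.2.trans (isConj_iff.mpr ⟨u, rfl⟩)⟩
  one_smul x := by
    apply Subtype.ext
    show ((1 : Q) : G) * x * ((1 : Q) : G)⁻¹ = x
    simp
  mul_smul u v x := by
    apply Subtype.ext
    show ((u * v : Q) : G) * x * ((u * v : Q) : G)⁻¹ = u * (v * x * (v : G)⁻¹) * (u : G)⁻¹
    rw [Subgroup.coe_mul]; group

open Classical in
/-- the class sum minus the class size, written as `∑ (x - 1)` -/
noncomputable def classX (g : G) : MonoidAlgebra ℤ G :=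
  ∑ x : {x : G // IsConj g x}, (MonoidAlgebra.of ℤ G (x : G) - 1)

open Classical in
theorem classX_central (g : G) (a : MonoidAlgebra ℤ G) : classX g * a = a * classX g := by
  induction a using MonoidAlgebra.induction_on with
  | of y =>
    unfold classX
    rw [Finset.sum_mul, Finset.mul_sum]
    -- reindex by conjugation with y
    let e : {x : G // IsConj g x} ≃ {x : G // IsConj g x} :=
      { toFun := fun x => ⟨y * x * y⁻¹, x.2.trans (isConj_iff.mpr ⟨y, rfl⟩)⟩
        invFun := fun x => ⟨y⁻¹ * x * y, x.2.trans (isConj_iff.mpr ⟨y⁻¹, by simp⟩)⟩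
        left_inv := fun x => Subtype.ext (by simp; group)
        right_inv := fun x => Subtype.ext (by simp; group) }
    symm
    apply Fintype.sum_equiv e
    intro x
    show MonoidAlgebra.of ℤ G y * (MonoidAlgebra.of ℤ G (x : G) - 1)
      = (MonoidAlgebra.of ℤ G (y * x * y⁻¹) - 1) * MonoidAlgebra.of ℤ G y
    rw [mul_sub, sub_mul, mul_one, one_mul, ← map_mul, ← map_mul]
    congr 2
    group
  | add a b ha hb => rw [mul_add, add_mul, ha, hb]
  | smul r a ha => rw [mul_smul_comm, smul_mul_assoc, ha]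

open Classical in
theorem classX_mem (hQ : IsPGroup p Q)
    (hC : Subgroup.centralizer (Q : Set G) ≤ Q) (g : G) : classX g ∈ augJ p Q 1 := by
  by_cases hg : g ∈ Subgroup.centralizer (Q : Set G)
  · -- all conjugates lie in Q
    unfold classX
    apply Ideal.sum_mem
    intro x _
    have hxQ : (x : G) ∈ Q := by
      obtain ⟨c, hc⟩ := isConj_iff.mp x.2
      rw [← hc]
      exact (inferInstance : Q.Normal).conj_mem g (hC hg) c
    have := mul_augD_mem p Q 1 ⟨(x : G), hxQ⟩
    rw [one_mul] at this
    exact this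
  · letI := conjAction Q g
    unfold classX
    apply sum_mem_of_no_fixed hQ (augJ p Q 1).toAddSubgroup
    · intro a
      show p • a ∈ augJ p Q 1
      rw [nsmul_eq_mul]
      exact natCast_mul_mem p Q a
    · intro u x
      show (MonoidAlgebra.of ℤ G (u * x * (u : G)⁻¹) - 1) - (MonoidAlgebra.of ℤ G (x : G) - 1)
        ∈ augJ p Q 1
      have hmem : (x : G)⁻¹ * u * x * (u : G)⁻¹ ∈ Q := by
        apply Q.mul_mem
        · have := (inferInstance : Q.Normal).conj_mem u u.2 (x : G)⁻¹
          simpa [mul_assoc] using this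
        · exact Q.inv_mem u.2
      have h1 : (MonoidAlgebra.of ℤ G (u * x * (u : G)⁻¹) - 1) - (MonoidAlgebra.of ℤ G (x : G) - 1)
          = MonoidAlgebra.of ℤ G (x : G) * augD Q ⟨_, hmem⟩ := by
        unfold augD
        rw [mul_sub, mul_one, ← map_mul]
        have : (x : G) * ((x : G)⁻¹ * u * x * (u : G)⁻¹) = u * x * (u : G)⁻¹ := by group
        rw [this]; abel
      rw [h1]
      exact mul_augD_mem p Q _ _
    · intro x
      by_contra hcon
      push Not at hcon
      apply hg
      -- x centralizes Q, hence so does g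
      obtain ⟨c, hc⟩ := isConj_iff.mp x.2
      rw [Subgroup.mem_centralizer_iff]
      intro v hv
      -- c v c⁻¹ ∈ Q commutes with x = c g c⁻¹
      have hv' : c * v * c⁻¹ ∈ Q := (inferInstance : Q.Normal).conj_mem v hv c
      have h1 := hcon ⟨c * v * c⁻¹, hv'⟩
      have h2 : (c * v * c⁻¹) * (x : G) * (c * v * c⁻¹)⁻¹ = x := congrArg Subtype.val h1
      rw [← hc] at h2
      -- (c v c⁻¹)(c g c⁻¹)(c v c⁻¹)⁻¹ = c g c⁻¹  ⇒  v g v⁻¹ = g
      have h3 : v * g * v⁻¹ = g := by
        have : c * (v * g * v⁻¹) * c⁻¹ = c * g * c⁻¹ := by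
          rw [← h2]; group
        exact mul_left_cancel (mul_right_cancel this)
      calc v * g = (v * g * v⁻¹) * v := by group
        _ = g * v := by rw [h3]

end ClassSum

section Rep

variable {G : Type*} [Group G] [Fintype G]
variable {V : Type*} [AddCommGroup V] [Module ℂ V] [FiniteDimensional ℂ V]

open Classical in
theorem card_class (g : G) :
    Fintype.card {x : G // IsConj g x} = (Subgroup.centralizer ({g} : Set G)).index := by
  rw [Cfsg.Agent.Lib.Helper2.index_centralizer_eq_card_conj, Nat.card_eq_fintype_card]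

open Classical in
theorem sum_class_rep (ρ : Representation ℂ G V) [ρ.IsIrreducible] (g : G) :
    ∑ x : {x : G // IsConj g x}, ρ (x : G)
      = (((Subgroup.centralizer ({g} : Set G)).index : ℂ) * ρ.character g
          / (Module.finrank ℂ V : ℂ)) • LinearMap.id := by
  have h1 : ∑ x : {x : G // IsConj g x}, ρ (x : G)
      = Cfsg.Agent.Lib.Helper2.repSum ρ (Cfsg.Agent.Lib.Helper2.classIndicator g) := by
    unfold Cfsg.Agent.Lib.Helper2.repSum Cfsg.Agent.Lib.Helper2.classIndicator
    rw [← Finset.sum_subtype (Finset.univ.filter (fun x => IsConj g x)) (by simp)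
      (fun x : G => ρ x), Finset.sum_filter]
    apply Finset.sum_congr rfl
    intro x _
    split_ifs with h
    · rw [one_smul]
    · rw [zero_smul]
  rw [h1, Cfsg.Agent.Lib.Helper2.repSum_irreducible ρ _
    (Cfsg.Agent.Lib.Helper2.classIndicator_isClassFunction g)]
  congr 1
  have h2 : ∑ x : G, Cfsg.Agent.Lib.Helper2.classIndicator g x * ρ.character x
      = ((Subgroup.centralizer ({g} : Set G)).index : ℂ) * ρ.character g := by
    have : ∀ x : G, Cfsg.Agent.Lib.Helper2.classIndicator g x * ρ.character x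
        = if IsConj g x then ρ.character g else 0 := by
      intro x
      unfold Cfsg.Agent.Lib.Helper2.classIndicator
      split_ifs with hx
      · obtain ⟨y, hy⟩ := isConj_iff.mp hx
        rw [← hy, Representation.char_conj, one_mul]
      · rw [zero_mul]
    rw [Finset.sum_congr rfl (fun x _ => this x), ← Finset.sum_filter, Finset.sum_const,
      nsmul_eq_mul, ← card_class, Fintype.card_subtype]
  rw [h2]
  field_simp

open Classical in
theorem lift_classX (ρ : Representation ℂ G V) [ρ.IsIrreducible] (g : G) :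
    MonoidAlgebra.lift ℤ (Module.End ℂ V) G ρ (classX g)
      = (((Subgroup.centralizer ({g} : Set G)).index : ℂ) * ρ.character g
          / (Module.finrank ℂ V : ℂ) - ((Subgroup.centralizer ({g} : Set G)).index : ℂ))
        • LinearMap.id := by
  unfold classX
  rw [map_sum]
  have : ∀ x : {x : G // IsConj g x},
      MonoidAlgebra.lift ℤ (Module.End ℂ V) G ρ (MonoidAlgebra.of ℤ G (x : G) - 1)
        = ρ (x : G) - 1 := by
    intro x
    rw [map_sub, map_one, MonoidAlgebra.of_apply, MonoidAlgebra.lift_single, one_smul]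
  rw [Finset.sum_congr rfl (fun x _ => this x), Finset.sum_sub_distrib, sum_class_rep,
    Finset.sum_const, Finset.card_univ, card_class, sub_smul]
  congr 1
  rw [← Nat.cast_smul_eq_nsmul ℂ]
  rfl

open Classical in
theorem key_integral (p : ℕ) [Fact p.Prime] (Q : Subgroup G) [Q.Normal] (hQ : IsPGroup p Q)
    (hC : Subgroup.centralizer (Q : Set G) ≤ Q) (ρ : Representation ℂ G V) [ρ.IsIrreducible]
    (g : G) :
    IsIntegral ℤ (((Subgroup.centralizer ({g} : Set G)).index : ℂ) * ρ.character g
          / (Module.finrank ℂ V : ℂ) - ((Subgroup.centralizer ({g} : Set G)).index : ℂ)) ∧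
    IsIntegral ℤ ((((Subgroup.centralizer ({g} : Set G)).index : ℂ) * ρ.character g
          / (Module.finrank ℂ V : ℂ) - ((Subgroup.centralizer ({g} : Set G)).index : ℂ))
            ^ Nat.card G / (p : ℂ)) := by
  set c : ℂ := ((Subgroup.centralizer ({g} : Set G)).index : ℂ) * ρ.character g
          / (Module.finrank ℂ V : ℂ) - ((Subgroup.centralizer ({g} : Set G)).index : ℂ) with hc
  have hV : Nontrivial V := Cfsg.Agent.Lib.Helper2.nontrivial_of_isIrreducible ρ
  constructor
  · apply IsIntegral.sub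
    · exact Cfsg.Agent.Lib.Helper2.isIntegral_index_centralizer_mul_char_div ρ g
    · have h := isIntegral_algebraMap (R := ℤ) (A := ℂ)
        (x := ((Subgroup.centralizer ({g} : Set G)).index : ℤ))
      rw [eq_intCast, Int.cast_natCast] at h
      exact h
  · obtain ⟨Y, hY⟩ := central_pow_mem p Q hQ (classX g) (classX_central g) (classX_mem p Q hQ hC g)
    set φ := MonoidAlgebra.lift ℤ (Module.End ℂ V) G ρ with hφ
    have h1 := congrArg φ hY
    rw [map_pow, map_mul, map_natCast, lift_classX, ← hc] at h1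
    have hYint : IsIntegral ℤ (φ Y) := (IsIntegral.of_finite ℤ Y).map φ
    have hp0 : (p : ℂ) ≠ 0 := by
      exact_mod_cast (Fact.out : p.Prime).ne_zero
    have h2 : φ Y = (c ^ Nat.card G / (p : ℂ)) • LinearMap.id := by
      have h3 : (c • (LinearMap.id : V →ₗ[ℂ] V)) ^ Nat.card G
          = (c ^ Nat.card G) • LinearMap.id := by
        rw [smul_pow]
        congr 1
        exact one_pow _
      rw [h3] at h1
      have h4 : ((p : Module.End ℂ V)) * φ Y = (p : ℂ) • φ Y := by
        rw [Nat.cast_smul_eq_nsmul ℂ, nsmul_eq_mul]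
      rw [h4] at h1
      rw [div_eq_mul_inv, mul_comm, mul_smul, h1, smul_smul, inv_mul_cancel₀ hp0, one_smul]
    rw [h2] at hYint
    exact Cfsg.Agent.Lib.Helper2.isIntegral_of_smul_id _ hYint

end Rep

theorem result {G : Type*} [Group G] [Finite G] (p : ℕ) [Fact p.Prime] (M : Ideal Cfsg.AlgInt) (hM : Cfsg.IsPModular p M) (hcore : Cfsg.pPrimeCore p G = ⊥) (hconstr : Subgroup.centralizer ((Cfsg.pCore p G) : Set G) ≤ Cfsg.pCore p G) (χ ψ : Cfsg.IrrCharacter G) : Cfsg.SameBlock M (χ : G → ℂ) (ψ : G → ℂ) := by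
  classical
  haveI : Fintype G := Fintype.ofFinite G
  haveI : (Cfsg.pCore p G).Normal := Cfsg.Agent.Lib.Helper1.pCore_normal p
  have hQ : IsPGroup p (Cfsg.pCore p G) := Cfsg.Agent.Lib.Helper1.pCore_isPGroup p
  have key : ∀ (χ : Cfsg.IrrCharacter G) (g : G), ∃ a : Cfsg.AlgInt, a ∈ M ∧
      (a : ℂ) = Cfsg.centralChar (χ : G → ℂ) g
        - ((Subgroup.centralizer ({g} : Set G)).index : ℂ) := by
    intro χ g
    obtain ⟨χ, n, ρ, hirr, rfl⟩ := χ
    haveI := hirr
    obtain ⟨h1, h2⟩ := key_integral p (Cfsg.pCore p G) hQ hconstr ρ g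
    simp only
    unfold Cfsg.centralChar
    rw [Representation.char_one]
    set c : ℂ := ((Subgroup.centralizer ({g} : Set G)).index : ℂ) * ρ.character g
          / (Module.finrank ℂ (Fin n → ℂ) : ℂ) - ((Subgroup.centralizer ({g} : Set G)).index : ℂ)
      with hc
    let a : Cfsg.AlgInt := ⟨c, h1⟩
    let b : Cfsg.AlgInt := ⟨c ^ Nat.card G / (p : ℂ), h2⟩
    have hp0 : (p : ℂ) ≠ 0 := by
      exact_mod_cast (Fact.out : p.Prime).ne_zero
    have hab : a ^ Nat.card G = (p : Cfsg.AlgInt) * b := by
      apply Subtype.ext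
      simp only [a, b]
      push_cast
      field_simp
    have hmem : a ^ Nat.card G ∈ M := by
      rw [hab]
      exact Ideal.mul_mem_right _ _ hM.2.2
    exact ⟨a, hM.2.1.isPrime.mem_of_pow_mem _ hmem, rfl⟩
  intro g
  obtain ⟨a, ha, hac⟩ := key χ g
  obtain ⟨b, hb, hbc⟩ := key ψ g
  refine ⟨a - b, 1, M.sub_mem ha hb, one_notMem hM, ?_⟩
  push_cast
  rw [hac, hbc]
  ring

end Agent.S4487

end Cfsg
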