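-- Statement S5191. The statement below is byte-identical to the frozen statement the frozen statement.
import Cfsg.Statements.S5191

set_option autoImplicit false
open Cfsg

namespace Cfsg.Agent.S5191

open scoped Pointwise in
/-- Fusion in a finite group G and in its quotient by O_{p'}(G) agree. Let S be a Sylow p-subgroup of G, N = O_{p'}(G) and P ≤ S. If an element of G/N conjugates the image of P into the image of S, then some element g of G conjugates P into S and induces the same map on P modulo N. (Together with the injectivity of S → G/N this says that g ↦ gN induces an isomorphism of the fusion system of G on S with that of G/N on SN/N.) -/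
theorem result {G : Type*} [Group G] [Finite G] {p : ℕ} [Fact p.Prime]
    [hN : (Cfsg.pPrimeCore p G).Normal] (S : Sylow p G) (P : Subgroup G) (hP : P ≤ (S : Subgroup G))
    (γ : G ⧸ Cfsg.pPrimeCore p G)
    (hγ : ∀ x ∈ P, γ * QuotientGroup.mk x * γ⁻¹ ∈ ((S : Subgroup G).map (QuotientGroup.mk' (Cfsg.pPrimeCore p G)))) :
    ∃ g : G, ∀ x ∈ P, g * x * g⁻¹ ∈ S ∧
      (QuotientGroup.mk (g * x * g⁻¹) : G ⧸ Cfsg.pPrimeCore p G) = γ * QuotientGroup.mk x * γ⁻¹ := by
  classical
  obtain ⟨g, rfl⟩ := QuotientGroup.mk_surjective γ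
  set N := Cfsg.pPrimeCore p G with hNdef
  set H : Subgroup G := (S : Subgroup G) ⊔ N with hHdef
  have hSH : (S : Subgroup G) ≤ H := le_sup_left
  have hNH : N ≤ H := le_sup_right
  have hQH : ∀ x ∈ P, g * x * g⁻¹ ∈ H := by
    intro x hx
    obtain ⟨s, hs, hsx⟩ := hγ x hx
    have h1 : (s⁻¹ * (g * x * g⁻¹)) ∈ N := by
      rw [← QuotientGroup.eq]
      simpa using hsx
    have h2 : g * x * g⁻¹ = s * (s⁻¹ * (g * x * g⁻¹)) := by group
    rw [h2]; exact H.mul_mem (hSH hs) (hNH h1)
  set Q : Subgroup G := P.map (MulAut.conj g).toMonoidHom with hQdef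
  have hQle : Q ≤ H := by
    rintro _ ⟨x, hx, rfl⟩
    exact hQH x hx
  have hQp : IsPGroup p Q := (S.isPGroup'.to_le hP).map _
  have hQ' : IsPGroup p (Q.subgroupOf H) := hQp.comap_subtype
  obtain ⟨R, hR⟩ := hQ'.exists_le_sylow
  let S' : Sylow p H := S.subtype hSH
  obtain ⟨h, hh⟩ := MulAction.exists_smul_eq H R S'
  -- decompose h = s * n
  have hmem : (h : G) ∈ ((S : Subgroup G) ⊔ N : Subgroup G) := h.2
  rw [← SetLike.mem_coe, Subgroup.mul_normal] at hmem
  obtain ⟨s, hs, n, hn, hsn⟩ := hmem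
  refine ⟨n * g, fun x hx => ⟨?_, ?_⟩⟩
  · -- membership in S
    have hy : (⟨g * x * g⁻¹, hQH x hx⟩ : H) ∈ (R : Subgroup H) := by
      apply hR
      rw [Subgroup.mem_subgroupOf]
      exact ⟨x, hx, rfl⟩
    have h3 : MulAut.conj h • (⟨g * x * g⁻¹, hQH x hx⟩ : H) ∈ ((h • R : Sylow p H) : Subgroup H) := by
      rw [Sylow.coe_subgroup_smul]
      exact Subgroup.smul_mem_pointwise_smul _ _ _ hy
    rw [hh] at h3
    have h4 : ((h : G) * (g * x * g⁻¹) * (h : G)⁻¹) ∈ (S : Subgroup G) := by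
      have : (MulAut.conj h • (⟨g * x * g⁻¹, hQH x hx⟩ : H) : H) ∈ ((S : Subgroup G).subgroupOf H) := h3
      rw [Subgroup.mem_subgroupOf] at this
      simpa [MulAut.smul_def, MulAut.conj_apply] using this
    have h5 : n * g * x * (n * g)⁻¹ = s⁻¹ * ((h : G) * (g * x * g⁻¹) * (h : G)⁻¹) * s := by
      rw [← hsn]; group
    rw [h5]
    exact (S : Subgroup G).mul_mem ((S : Subgroup G).mul_mem ((S : Subgroup G).inv_mem hs) h4) hs
  · have hn1 : (QuotientGroup.mk n : G ⧸ N) = 1 := (QuotientGroup.eq_one_iff n).mpr hn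
    rw [QuotientGroup.mk_mul, QuotientGroup.mk_mul, QuotientGroup.mk_mul, QuotientGroup.mk_inv, QuotientGroup.mk_mul, hn1, one_mul]

end Cfsg.Agent.S5191
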