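import Cfsg.Statements.S4207

set_option autoImplicit false
open Cfsg

namespace Cfsg.Agent.S4207

open Subgroup

/-- a group of order `p^r` is generated by `r` elements -/
theorem exists_generators (p : ℕ) [hp : Fact p.Prime] : ∀ (r : ℕ) (Q : Type*) [Group Q] [Finite Q],
    Nat.card Q = p ^ r → ∃ y : Fin r → Q, closure (Set.range y) = ⊤ := by
  intro r
  induction r with
  | zero =>
    intro Q _ _ h
    rw [pow_zero] at h
    have : Subsingleton Q := (Nat.card_eq_one_iff_unique.mp h).1
    exact ⟨Fin.elim0, Subsingleton.elim _ _⟩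
  | succ r ih =>
    intro Q _ _ h
    obtain ⟨M, hM⟩ := Sylow.exists_subgroup_card_pow_prime p (n := r) (by
      rw [h]; exact pow_dvd_pow p (Nat.le_succ r))
    obtain ⟨y', hy'⟩ := ih M hM
    have hMtop : M ≠ ⊤ := by
      intro hMt
      rw [hMt, Subgroup.card_top, h] at hM
      have := Nat.pow_right_injective hp.out.two_le hM
      omega
    obtain ⟨z, hz⟩ : ∃ z : Q, z ∉ M := by
      by_contra hcon
      push Not at hcon
      exact hMtop (eq_top_iff.mpr fun x _ => hcon x)
    refine ⟨Fin.cons z (fun i => (y' i : Q)), ?_⟩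
    set C := closure (Set.range (Fin.cons z (fun i => (y' i : Q)) : Fin (r + 1) → Q)) with hC
    have hMC : M ≤ C := by
      have h1 : M = (closure (Set.range y')).map M.subtype := by
        rw [hy', ← MonoidHom.range_eq_map, Subgroup.range_subtype]
      rw [h1, MonoidHom.map_closure, closure_le]
      rintro _ ⟨_, ⟨i, rfl⟩, rfl⟩
      apply Subgroup.subset_closure
      exact ⟨i.succ, by simp⟩
    have hzC : z ∈ C := Subgroup.subset_closure ⟨0, by simp⟩
    have hlt : M < C := lt_of_le_of_ne hMC (fun h => hz (h ▸ hzC))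
    have hcardlt : Nat.card M < Nat.card C := by
      apply lt_of_le_of_ne (Subgroup.card_le_of_le hMC)
      intro he
      exact hlt.ne (Subgroup.eq_of_le_of_card_ge hMC he.ge)
    have hdvd : Nat.card C ∣ p ^ (r + 1) := h ▸ Subgroup.card_subgroup_dvd_card C
    obtain ⟨j, hj, hjc⟩ := (Nat.dvd_prime_pow hp.out).mp hdvd
    rw [hM, hjc] at hcardlt
    have hrj : r < j := (Nat.pow_lt_pow_iff_right hp.out.one_lt).mp hcardlt
    have hj' : j = r + 1 := by omega
    rw [hj'] at hjc
    exact (Subgroup.card_eq_iff_eq_top C).mp (by rw [hjc, h])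


/-- twisted action of `A` on families of elements of the Frattini subgroup -/
@[instance_reducible]
def famAct {P : Type*} [Group P] (A : Subgroup (MulAut P)) {r : ℕ} (x : Fin r → P)
    (hA : ∀ α ∈ A, ∀ x : P, α x * x⁻¹ ∈ frattini P) : MulAction A (Fin r → frattini P) where
  smul α g := fun i => ⟨(α : MulAut P) ((g i : P) * x i) * (x i)⁻¹, by
    have h1 := hA α α.2 ((g i : P) * x i)
    have h2 : (α : MulAut P) ((g i : P) * x i) * (x i)⁻¹ =
        ((α : MulAut P) ((g i : P) * x i) * ((g i : P) * x i)⁻¹) * (g i : P) := by group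
    rw [h2]
    exact (frattini P).mul_mem h1 (g i).2⟩
  one_smul g := by
    funext i
    apply Subtype.ext
    show ((1 : A) : MulAut P) ((g i : P) * x i) * (x i)⁻¹ = g i
    simp
  mul_smul α β g := by
    funext i
    apply Subtype.ext
    show ((α * β : A) : MulAut P) ((g i : P) * x i) * (x i)⁻¹ =
      (α : MulAut P) (((β : MulAut P) ((g i : P) * x i) * (x i)⁻¹) * x i) * (x i)⁻¹
    simp [MulAut.mul_apply]

/-- Let `P` be a group of order `p^n` whose Frattini subgroup has index `p^r`. Then any group of automorphisms of `P` each of which induces the identity on the Frattini quotient has order dividing `p^(r(n-r))`; in particular it is a `p`-group. -/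
theorem result {P : Type*} [Group P] [Finite P] {p n r : ℕ} [Fact p.Prime] (hP : Nat.card P = p ^ n) (hr : (frattini P).index = p ^ r) (A : Subgroup (MulAut P)) (hA : ∀ α ∈ A, ∀ x : P, α x * x⁻¹ ∈ frattini P) : Nat.card A ∣ p ^ (r * (n - r)) := by
  classical
  have hp : p.Prime := Fact.out
  have hΦn : (frattini P).Normal := inferInstance
  have hcardΦ : Nat.card (frattini P) = p ^ (n - r) := by
    have h1 : (frattini P).index * Nat.card (frattini P) = Nat.card P := Subgroup.index_mul_card _
    rw [hr, hP] at h1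
    have hrn : r ≤ n := by
      have : p ^ r ∣ p ^ n := Dvd.intro _ h1
      exact (Nat.pow_dvd_pow_iff_le_right hp.one_lt).mp this
    have : p ^ r * Nat.card (frattini P) = p ^ r * p ^ (n - r) := by
      rw [h1, ← pow_add, Nat.add_sub_cancel' hrn]
    exact Nat.eq_of_mul_eq_mul_left (pow_pos hp.pos r) this
  have hcardQ : Nat.card (P ⧸ frattini P) = p ^ r := by rw [← Subgroup.index_eq_card, hr]
  obtain ⟨y, hy⟩ := exists_generators p r (P ⧸ frattini P) hcardQ
  choose x hx using fun i => QuotientGroup.mk_surjective (y i)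
  have hgen : ∀ z : Fin r → P, (∀ i, z i * (x i)⁻¹ ∈ frattini P) → closure (Set.range z) = ⊤ := by
    intro z hz
    apply frattini_nongenerating
    have h1 : (closure (Set.range z) ⊔ frattini P).map (QuotientGroup.mk' (frattini P)) = ⊤ := by
      rw [eq_top_iff, ← hy, closure_le]
      rintro _ ⟨i, rfl⟩
      refine ⟨z i, mem_sup_left (Subgroup.subset_closure ⟨i, rfl⟩), ?_⟩
      rw [← hx i]
      apply QuotientGroup.eq.mpr
      have h2 := (frattini P).inv_mem (hz i)
      have h3 : (z i * (x i)⁻¹)⁻¹ = x i * (z i)⁻¹ := by group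
      rw [h3] at h2
      have h4 := hΦn.conj_mem _ h2 (z i)⁻¹
      have h5 : (z i)⁻¹ * (x i * (z i)⁻¹) * (z i)⁻¹⁻¹ = (z i)⁻¹ * x i := by group
      rwa [h5] at h4
    rw [eq_top_iff]
    intro g _
    have hg : QuotientGroup.mk' (frattini P) g ∈
        (closure (Set.range z) ⊔ frattini P).map (QuotientGroup.mk' (frattini P)) := by
      rw [h1]; trivial
    obtain ⟨g', hg', hgg'⟩ := hg
    have h2 : g'⁻¹ * g ∈ frattini P := QuotientGroup.eq.mp hgg'
    have h3 : g = g' * (g'⁻¹ * g) := by group
    rw [h3]
    exact mul_mem hg' (mem_sup_right h2)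
  let _ := famAct A x hA
  have hfree : ∀ g : Fin r → frattini P, MulAction.stabilizer A g = ⊥ := by
    intro g
    rw [eq_bot_iff]
    intro α hα
    rw [MulAction.mem_stabilizer_iff] at hα
    rw [mem_bot]
    apply Subtype.ext
    have hfix : ∀ i, (α : MulAut P) ((g i : P) * x i) = (g i : P) * x i := by
      intro i
      have h1 := congrFun hα i
      have h2 : (α : MulAut P) ((g i : P) * x i) * (x i)⁻¹ = g i := congrArg Subtype.val h1
      calc (α : MulAut P) ((g i : P) * x i) = ((α : MulAut P) ((g i : P) * x i) * (x i)⁻¹) * x i := by group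
        _ = (g i : P) * x i := by rw [h2]
    have hz : closure (Set.range fun i => (g i : P) * x i) = ⊤ := by
      apply hgen
      intro i
      have : (g i : P) * x i * (x i)⁻¹ = g i := by group
      rw [this]; exact (g i).2
    have heq : ((α : MulAut P) : P →* P) = MonoidHom.id P := by
      apply MonoidHom.eq_of_eqOn_dense hz
      rintro _ ⟨i, rfl⟩
      exact hfix i
    ext w
    exact DFunLike.congr_fun heq w
  have e := MulAction.selfEquivOrbitsQuotientProd hfree
  have hcard : Nat.card (Fin r → frattini P) =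
      Nat.card (Quotient (MulAction.orbitRel A (Fin r → frattini P))) * Nat.card A := by
    rw [Nat.card_congr e, Nat.card_prod]
  have hcard2 : Nat.card (Fin r → frattini P) = p ^ (r * (n - r)) := by
    rw [Nat.card_fun, Nat.card_fin, hcardΦ, ← pow_mul, mul_comm]
  rw [← hcard2, hcard]
  exact Dvd.intro_left _ rfl

end Cfsg.Agent.S4207
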