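import Cfsg.Statements.S4208
import Cfsg.Agent.S4207
import Cfsg.Agent.Lib.Helper22.AutElemAb
import Cfsg.Agent.Lib.Helper1.Frattini

set_option autoImplicit false
open Cfsg

namespace Cfsg.Agent.S4208

open Subgroup
open scoped commutatorElement

/-- the induced automorphism on the Frattini quotient -/
noncomputable def frattiniHom (P : Type*) [Group P] : MulAut P →* MulAut (P ⧸ frattini P) where
  toFun α := QuotientGroup.congr (frattini P) (frattini P) α
    ((Subgroup.characteristic_iff_map_eq.mp inferInstance) α)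
  map_one' := by
    ext q
    obtain ⟨x, rfl⟩ := QuotientGroup.mk_surjective q
    rfl
  map_mul' α β := by
    ext q
    obtain ⟨x, rfl⟩ := QuotientGroup.mk_surjective q
    rfl

theorem frattiniHom_mk (P : Type*) [Group P] (α : MulAut P) (x : P) :
    frattiniHom P α (QuotientGroup.mk x) = QuotientGroup.mk (α x) := rfl

/-- The automorphism group of a group of order `p^n` whose Frattini quotient has order `p^r` has order dividing `p^(r(n-r)) · |GL(r,p)|`, where `|GL(r,p)| = ∏_{i<r} (p^r - p^i)`. -/
theorem result {P : Type*} [Group P] [Finite P] {p n r : ℕ} [Fact p.Prime] (hP : Nat.card P = p ^ n) (hr : (frattini P).index = p ^ r) : Nat.card (MulAut P) ∣ p ^ (r * (n - r)) * ∏ i ∈ Finset.range r, (p ^ r - p ^ i) := by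
  have hPp : IsPGroup p P := IsPGroup.of_card hP
  have hcomm : ∀ a b : P ⧸ frattini P, a * b = b * a := by
    intro a b
    obtain ⟨x, rfl⟩ := QuotientGroup.mk_surjective a
    obtain ⟨y, rfl⟩ := QuotientGroup.mk_surjective b
    rw [← QuotientGroup.mk_mul, ← QuotientGroup.mk_mul, QuotientGroup.eq]
    apply Cfsg.Agent.Lib.Helper1.IsPGroup.commutator_le_frattini hPp
    have : (x * y)⁻¹ * (y * x) = ⁅y⁻¹, x⁻¹⁆ := by
      rw [commutatorElement_def]; group
    rw [this]
    exact Subgroup.commutator_mem_commutator (mem_top _) (mem_top _)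
  have hexp : ∀ a : P ⧸ frattini P, a ^ p = 1 := by
    intro a
    obtain ⟨x, rfl⟩ := QuotientGroup.mk_surjective a
    rw [← QuotientGroup.mk_pow, QuotientGroup.eq_one_iff]
    exact Cfsg.Agent.Lib.Helper1.IsPGroup.pow_mem_frattini hPp x
  have hcardQ : Nat.card (P ⧸ frattini P) = p ^ r := by rw [← Subgroup.index_eq_card, hr]
  let _ : CommGroup (P ⧸ frattini P) :=
    { (inferInstance : Group (P ⧸ frattini P)) with mul_comm := hcomm }
  have h1 : Nat.card (frattiniHom P).ker ∣ p ^ (r * (n - r)) := by
    apply Cfsg.Agent.S4207.result hP hr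
    intro α hα x
    rw [MonoidHom.mem_ker] at hα
    have h2 : frattiniHom P α (QuotientGroup.mk x) = QuotientGroup.mk x := by rw [hα]; rfl
    rw [frattiniHom_mk, QuotientGroup.eq_iff_div_mem, div_eq_mul_inv] at h2
    exact h2
  have h2 : Nat.card (frattiniHom P).range ∣ ∏ i ∈ Finset.range r, (p ^ r - p ^ i) :=
    Cfsg.Agent.Lib.Helper22.card_mulAut_subgroup_dvd (P ⧸ frattini P) p r hexp hcardQ _
  have h3 : Nat.card (MulAut P) = Nat.card (frattiniHom P).ker * Nat.card (frattiniHom P).range := by
    rw [← Subgroup.index_ker, mul_comm, Subgroup.index_mul_card]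
  rw [h3]
  exact Nat.mul_dvd_mul h1 h2

end Cfsg.Agent.S4208
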