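import Cfsg.Statements.S1443
import Cfsg.Agent.Lib.Helper10.OmegaCentralize
import Cfsg.Agent.Lib.Helper1.ThompsonPQ

set_option autoImplicit false
open Cfsg

namespace Cfsg.Agent.S1443

open Cfsg.Agent.Lib.Helper10 Cfsg.Agent.Lib.Helper1

/-- Let G be a finite group, p an odd prime, H a p-subgroup, E an elementary abelian subgroup of H, and A a subgroup of order coprime to p normalizing H. If A centralizes every element of order p in H ∩ C_G(E), then A centralizes H. -/
theorem result {G : Type*} [Group G] [Finite G] (p : ℕ) [Fact p.Prime] (hp : p ≠ 2) (H E A : Subgroup G) (hH : IsPGroup p H) (hE : E ≤ H) (hEe : Cfsg.IsElementaryAbelian p E)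
    (hA : (A ≤ Subgroup.normalizer (H : Set G))) (hcop : (Nat.card A).Coprime p)
    (hfix : ∀ x ∈ (H ⊓ Subgroup.centralizer (E : Set G)), orderOf x = p → A ≤ Subgroup.centralizer ({x} : Set G)) :
    A ≤ Subgroup.centralizer (H : Set G) := by
  have hpp : p.Prime := Fact.out
  have hEcomm : ∀ x ∈ E, ∀ y ∈ E, x * y = y * x := by
    intro x hx y hy
    have := hEe.1
    have h1 := this.is_comm.comm (⟨x, hx⟩ : ↥E) ⟨y, hy⟩
    exact congrArg Subtype.val h1
  have hED : E ≤ H ⊓ Subgroup.centralizer (E : Set G) := by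
    intro e he
    refine Subgroup.mem_inf.mpr ⟨hE he, ?_⟩
    rw [Subgroup.mem_centralizer_iff]
    intro y hy
    exact hEcomm y hy e he
  -- (1) `A` centralizes `E`
  have hAE : ∀ a ∈ A, ∀ e ∈ E, a * e = e * a := by
    intro a ha e he
    by_cases he1 : e = 1
    · rw [he1, one_mul, mul_one]
    · have hoe : orderOf e = p := by
        rcases (Nat.dvd_prime hpp).mp (orderOf_dvd_of_pow_eq_one (hEe.2 e he)) with h | h
        · exact absurd (orderOf_eq_one_iff.mp h) he1
        · exact h
      have := hfix e (hED he) hoe ha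
      rw [Subgroup.mem_centralizer_iff] at this
      exact (this e (Set.mem_singleton e)).symm
  have hEcA : E ≤ Subgroup.centralizer (A : Set G) := by
    intro e he
    rw [Subgroup.mem_centralizer_iff]
    intro a ha
    exact hAE a ha e he
  -- (2) `A` normalizes `D = C_H(E)`
  have hAD : A ≤ Subgroup.normalizer ((H ⊓ Subgroup.centralizer (E : Set G) : Subgroup G) : Set G) := by
    apply le_normalizer_of_forall_conj_mem
    intro a ha n hn
    obtain ⟨hnH, hnC⟩ := Subgroup.mem_inf.mp hn
    refine Subgroup.mem_inf.mpr ⟨(Subgroup.mem_normalizer_iff.mp (hA ha) n).mp hnH, ?_⟩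
    rw [Subgroup.mem_centralizer_iff]
    intro e he
    have h1 := hAE a ha e he
    have h2 : e * n = n * e := (Subgroup.mem_centralizer_iff.mp hnC) e he
    calc e * (a * n * a⁻¹) = (e * a) * n * a⁻¹ := by group
      _ = (a * e) * n * a⁻¹ := by rw [h1]
      _ = a * (e * n) * a⁻¹ := by group
      _ = a * (n * e) * a⁻¹ := by rw [h2]
      _ = a * n * (e * a⁻¹) := by group
      _ = a * n * (a⁻¹ * e) := by
          have : e * a⁻¹ = a⁻¹ * e := by
            have h3 : a⁻¹ * (a * e) * a⁻¹ = a⁻¹ * (e * a) * a⁻¹ := by rw [h1]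
            calc e * a⁻¹ = a⁻¹ * (a * e) * a⁻¹ := by group
              _ = a⁻¹ * (e * a) * a⁻¹ := h3
              _ = a⁻¹ * e := by group
          rw [this]
      _ = a * n * a⁻¹ * e := by group
  -- (3) `A` centralizes `D`
  have hAcD : A ≤ Subgroup.centralizer ((H ⊓ Subgroup.centralizer (E : Set G) : Subgroup G) : Set G) := by
    apply le_centralizer_of_centralizes_order_p p hp A _ hcop (hH.to_le inf_le_left) hAD
    intro x hx hox a ha
    have := hfix x hx hox ha
    rw [Subgroup.mem_centralizer_iff] at this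
    exact (this x (Set.mem_singleton x)).symm
  -- (4) Thompson's `P × Q` lemma
  have hEp : IsPGroup p E := hH.to_le hE
  refine thompson_PxQ p E A hEp hcop hEcA _ H rfl hH (hE.trans Subgroup.le_normalizer) hA ?_
  rw [Subgroup.le_centralizer_iff]
  exact hAcD

end Cfsg.Agent.S1443
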