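import Mathlib
import Cfsg.Statements.S0636
import Cfsg.Agent.H5.CyclicMaxOmega
import Cfsg.Agent.H5.PNormalChain
import Cfsg.Agent.H5.Thompson

set_option autoImplicit false
open Cfsg

namespace Cfsg.Agent.S0636

open Cfsg.H5

/-- a noncyclic normal subgroup with a cyclic maximal subgroup normal in the whole group -/
theorem exists_of_cyclic_maximal {R : Type*} [Group R] [Finite R] {p : ℕ} [Fact p.Prime]
    (hp : p ≠ 2) (hR : IsPGroup p R) (T U : Subgroup R) (hTn : T.Normal) (hUT : U ≤ T)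
    (hcard : Nat.card T = p * Nat.card U) (hU : IsCyclic U) (hT : ¬ IsCyclic T) :
    ∃ A : Subgroup R, A ≤ T ∧ A.Normal ∧ Cfsg.IsElementaryAbelian p A ∧ Nat.card A = p ^ 2 ∧
      ∀ x : R, x ∈ A ↔ x ∈ T ∧ x ^ p = 1 := by
  have hpp : p.Prime := Fact.out
  obtain ⟨n, hn⟩ := IsPGroup.iff_card.mp (hR.to_subgroup T)
  have hn2 : 2 ≤ n := by
    by_contra hlt
    push Not at hlt
    apply hT
    interval_cases n
    · rw [pow_zero] at hn
      have : Subsingleton T := (Nat.card_eq_one_iff_unique.mp hn).1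
      infer_instance
    · rw [pow_one] at hn
      exact isCyclic_of_prime_card hn
  have hMc : IsCyclic (U.subgroupOf T) :=
    (Subgroup.subgroupOfEquivOfLe hUT).symm.isCyclic.mp hU
  have hMi : (U.subgroupOf T).index = p := by
    have h1 := card_mul_relIndex_of_le hUT
    rw [hcard] at h1
    have h2 : U.relIndex T = p := by
      have hpos : 0 < Nat.card U := Nat.card_pos
      have : Nat.card U * U.relIndex T = Nat.card U * p := by rw [h1, mul_comm]
      exact Nat.eq_of_mul_eq_mul_left hpos this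
    exact h2
  obtain ⟨A₀, hmem, hE, hcardA⟩ := omega_of_cyclic_index hp hn2 hn (U.subgroupOf T) hMc hMi hT
  have hmemA : ∀ x : R, x ∈ A₀.map T.subtype ↔ x ∈ T ∧ x ^ p = 1 := by
    intro x
    constructor
    · rintro ⟨a, ha, rfl⟩
      refine ⟨a.2, ?_⟩
      have := (hmem a).mp ha
      have h2 := congrArg Subtype.val this
      simpa using h2
    · rintro ⟨hxT, hxp⟩
      refine ⟨⟨x, hxT⟩, ?_, rfl⟩
      apply (hmem ⟨x, hxT⟩).mpr
      apply Subtype.ext
      simpa using hxp
  refine ⟨A₀.map T.subtype, Subgroup.map_subtype_le _, ?_, isElementaryAbelian_map _ hE, ?_, hmemA⟩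
  · constructor
    intro a ha g
    rw [hmemA] at ha ⊢
    refine ⟨hTn.conj_mem a ha.1 g, ?_⟩
    rw [conj_pow, ha.2]
    group
  · rw [Subgroup.card_map_of_injective T.subtype_injective, hcardA]

/-- For odd p, every non-cyclic normal subgroup of a p-group contains a normal elementary abelian subgroup of the whole group of order p². -/
theorem result {R : Type*} [Group R] [Finite R] {p : ℕ} [Fact p.Prime] (hp : p ≠ 2) (hR : IsPGroup p R) (S : Subgroup R) [S.Normal] (hS : ¬ IsCyclic S) : ∃ A : Subgroup R, A ≤ S ∧ A.Normal ∧ Cfsg.IsElementaryAbelian p A ∧ Nat.card A = p ^ 2 := by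
  classical
  obtain ⟨T, hT, hmin⟩ := Set.exists_min_image
    {T : Subgroup R | T.Normal ∧ T ≤ S ∧ ¬ IsCyclic T} (fun T => Nat.card T) (Set.toFinite _)
    ⟨S, inferInstance, le_rfl, hS⟩
  obtain ⟨hTn, hTS, hTc⟩ := hT
  have hT1 : T ≠ ⊥ := by
    intro h
    apply hTc
    rw [h]
    infer_instance
  obtain ⟨U, hUn, hUT, hcard⟩ := exists_normal_maximal hR hTn hT1
  have hpp : p.Prime := Fact.out
  have hUc : IsCyclic U := by
    by_contra hUc
    have := hmin U ⟨hUn, hUT.trans hTS, hUc⟩
    rw [hcard] at this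
    have hpos : 0 < Nat.card U := Nat.card_pos
    have := hpp.one_lt
    nlinarith
  obtain ⟨A, hAT, hAn, hAE, hAc, -⟩ := exists_of_cyclic_maximal hp hR T U hTn hUT hcard hUc hTc
  exact ⟨A, hAT.trans hTS, hAn, hAE, hAc⟩

end Cfsg.Agent.S0636
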