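import Mathlib
import Cfsg.Statements.S0638
import Cfsg.Agent.S0636
import Cfsg.Agent.Lib.Helper10.UniqueOrderP

set_option autoImplicit false
open Cfsg

namespace Cfsg.Agent.S0638

open Cfsg.H5

/-- in a finite cyclic group, the elements of order dividing a prime `p` lie in `⟨x⟩` for any
nontrivial such `x` -/
theorem mem_zpowers_of_isCyclic {K : Type*} [Group K] [Finite K] [IsCyclic K] {p : ℕ}
    (hp : p.Prime) {x y : K} (hx : x ^ p = 1) (hx1 : x ≠ 1) (hy : y ^ p = 1) :
    y ∈ Subgroup.zpowers x := by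
  classical
  have : Fintype K := Fintype.ofFinite K
  have h1 : (Finset.univ.filter (fun a : K => a ^ p = 1)).card ≤ p :=
    IsCyclic.card_pow_eq_one_le hp.pos
  have hsub : (Subgroup.zpowers x : Set K).toFinset ⊆ Finset.univ.filter (fun a : K => a ^ p = 1) := by
    intro a ha
    rw [Set.mem_toFinset] at ha
    rw [Finset.mem_filter]
    refine ⟨Finset.mem_univ _, ?_⟩
    obtain ⟨k, rfl⟩ := Subgroup.mem_zpowers_iff.mp ha
    rw [← zpow_natCast, ← zpow_mul, mul_comm, zpow_mul, zpow_natCast, hx, one_zpow]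
  have hcard : (Subgroup.zpowers x : Set K).toFinset.card = p := by
    rw [Set.toFinset_card, ← Nat.card_eq_fintype_card]
    have : Nat.card (Subgroup.zpowers x) = p := by
      have := Fact.mk hp
      rw [Nat.card_zpowers, orderOf_eq_prime hx hx1]
    exact this
  have heq := Finset.eq_of_subset_of_card_le hsub (by rw [hcard]; exact h1)
  have hyF : y ∈ Finset.univ.filter (fun a : K => a ^ p = 1) := by
    rw [Finset.mem_filter]
    exact ⟨Finset.mem_univ _, hy⟩
  rw [← heq, Set.mem_toFinset] at hyF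
  exact hyF

/-- if all elements of order dividing `p` lie in a cyclic subgroup, then the `p`-group is cyclic
(`p` odd) -/
theorem isCyclic_of_le_cyclic {R : Type*} [Group R] [Finite R] {p : ℕ} [Fact p.Prime]
    (hp : p ≠ 2) (hR : IsPGroup p R) (K : Subgroup R) (hK : IsCyclic K)
    (hE : ∀ x : R, x ^ p = 1 → x ∈ K) : IsCyclic R := by
  have hpp : p.Prime := Fact.out
  have hu : Cfsg.Agent.Lib.Helper10.UniqueOrderP p R := by
    intro x y hx hx1 hy
    have h1 : (⟨y, hE y hy⟩ : K) ∈ Subgroup.zpowers (⟨x, hE x hx⟩ : K) := by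
      apply mem_zpowers_of_isCyclic hpp
      · apply Subtype.ext
        simpa using hx
      · intro h
        exact hx1 (congrArg Subtype.val h)
      · apply Subtype.ext
        simpa using hy
    obtain ⟨k, hk⟩ := Subgroup.mem_zpowers_iff.mp h1
    rw [Subgroup.mem_zpowers_iff]
    refine ⟨k, ?_⟩
    have := congrArg Subtype.val hk
    simpa using this
  rcases Cfsg.Agent.Lib.Helper10.isCyclic_or_quaternion_of_uniqueOrderP hR hu with h | ⟨h, -⟩
  · exact h
  · exact absurd h hp

/-- For odd p, in a non-cyclic metacyclic p-group the elements of order dividing p generate an elementary abelian subgroup of order p². -/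
theorem result {R : Type*} [Group R] [Finite R] {p : ℕ} [Fact p.Prime] (hp : p ≠ 2) (hR : IsPGroup p R) (hm : Cfsg.IsMetacyclic R) (hnc : ¬ IsCyclic R) : Cfsg.IsElementaryAbelian p (Cfsg.omegaOne p (⊤ : Subgroup R)) ∧ Nat.card ↥(Cfsg.omegaOne p (⊤ : Subgroup R)) = p ^ 2 := by
  classical
  have hpp : p.Prime := Fact.out
  obtain ⟨N, hNn, hNc, hQc⟩ := hm
  -- the subgroup `M = {g | g ^ p ∈ N}`
  let _ : CommGroup (R ⧸ N) := IsCyclic.commGroup
  set Ω : Subgroup (R ⧸ N) := (powMonoidHom p : (R ⧸ N) →* (R ⧸ N)).ker with hΩ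
  have hΩmem : ∀ y : R ⧸ N, y ∈ Ω ↔ y ^ p = 1 := by
    intro y
    rw [hΩ, MonoidHom.mem_ker, powMonoidHom_apply]
  set M : Subgroup R := Ω.comap (QuotientGroup.mk' N) with hM
  have hMn : M.Normal := by
    have : Ω.Normal := inferInstance
    exact this.comap _
  have hMmem : ∀ g : R, g ∈ M ↔ g ^ p ∈ N := by
    intro g
    rw [hM, Subgroup.mem_comap, hΩmem, QuotientGroup.mk'_apply, ← QuotientGroup.mk_pow,
      QuotientGroup.eq_one_iff]
  have hNM : N ≤ M := by
    intro g hg
    rw [hMmem]
    exact N.pow_mem hg p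
  have hEM : ∀ x : R, x ^ p = 1 → x ∈ M := by
    intro x hx
    rw [hMmem, hx]
    exact N.one_mem
  -- the order of `Ω`
  have : Fintype (R ⧸ N) := Fintype.ofFinite _
  have hΩle : Nat.card Ω ≤ p := by
    have h1 : (Finset.univ.filter (fun a : R ⧸ N => a ^ p = 1)).card ≤ p :=
      IsCyclic.card_pow_eq_one_le hpp.pos
    have h2 : Nat.card Ω = (Finset.univ.filter (fun a : R ⧸ N => a ^ p = 1)).card := by
      apply Nat.subtype_card
      intro y
      rw [Finset.mem_filter]
      exact ⟨fun h => (hΩmem y).mpr h.2, fun h => ⟨Finset.mem_univ _, (hΩmem y).mp h⟩⟩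
    rw [h2]
    exact h1
  have hΩp : IsPGroup p Ω := (hR.to_quotient N).to_subgroup Ω
  obtain ⟨k, hk⟩ := IsPGroup.iff_card.mp hΩp
  have hk1 : k ≤ 1 := by
    by_contra hlt
    push Not at hlt
    have : p ^ 2 ≤ p ^ k := Nat.pow_le_pow_right hpp.pos hlt
    have : p < p ^ 2 := by
      have := hpp.one_lt
      nlinarith
    omega
  have hcardM : Nat.card M = Nat.card N * Nat.card Ω := by
    have h1 := card_map_mk' N M
    rw [hM, Subgroup.map_comap_eq_self_of_surjective (QuotientGroup.mk'_surjective N)] at h1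
    have h2 := card_mul_relIndex_of_le hNM
    rw [← h2, hM, ← h1]
  by_cases hMc : IsCyclic M
  · exact absurd (isCyclic_of_le_cyclic hp hR M hMc hEM) hnc
  · have hk' : k = 1 := by
      by_contra hne
      have hk0 : k = 0 := by omega
      rw [hk0, pow_zero] at hk
      rw [hk, mul_one] at hcardM
      have hMN : M = N := (Subgroup.eq_of_le_of_card_ge hNM (le_of_eq hcardM)).symm
      apply hMc
      rw [hMN]
      exact hNc
    rw [hk', pow_one] at hk
    rw [hk, mul_comm] at hcardM
    obtain ⟨A, hAT, hAn, hAE, hAc, hAmem⟩ :=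
      Cfsg.Agent.S0636.exists_of_cyclic_maximal hp hR M N hMn hNM hcardM hNc hMc
    have hΩA : Cfsg.omegaOne p (⊤ : Subgroup R) = A := by
      unfold Cfsg.omegaOne
      apply le_antisymm
      · rw [Subgroup.closure_le]
        rintro x ⟨-, hx⟩
        exact (hAmem x).mpr ⟨hEM x hx, hx⟩
      · intro x hx
        apply Subgroup.subset_closure
        exact ⟨Subgroup.mem_top x, ((hAmem x).mp hx).2⟩
    rw [hΩA]
    exact ⟨hAE, hAc⟩

end Cfsg.Agent.S0638
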