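import Cfsg.Statements.S1447
import Cfsg.Agent.Lib.Helper10.MetaAut

set_option autoImplicit false
open Cfsg

namespace Cfsg.Agent.S1447

open scoped commutatorElement
open Cfsg.Agent.Lib.Helper10

/-- elements of order dividing `p` of a metacyclic `p`-group lie in every noncyclic subgroup -/
theorem pow_eq_one_mem_of_not_isCyclic {G : Type*} [Group G] [Finite G] {p : ℕ} [Fact p.Prime]
    (hp : p ≠ 2) (R U : Subgroup G) (hR : IsPGroup p R) (hRm : Cfsg.IsMetacyclic R) (hUR : U ≤ R)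
    (hUnc : ¬ IsCyclic U) {x : G} (hx : x ∈ R) (hxp : x ^ p = 1) : x ∈ U := by
  have hUm : Cfsg.IsMetacyclic U :=
    isMetacyclic_of_injective (Subgroup.inclusion hUR) (Subgroup.inclusion_injective hUR) hRm
  have hUp : IsPGroup p U := hR.to_le hUR
  have hRnc : ¬ IsCyclic R := by
    intro h
    haveI := h
    exact hUnc (isCyclic_of_injective (Subgroup.inclusion hUR) (Subgroup.inclusion_injective hUR))
  obtain ⟨-, hcU⟩ := Cfsg.Agent.S0638.result hp hUp hUm hUnc
  obtain ⟨-, hcR⟩ := Cfsg.Agent.S0638.result hp hR hRm hRnc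
  have hle : (Cfsg.omegaOne p (⊤ : Subgroup U)).map U.subtype ≤
      (Cfsg.omegaOne p (⊤ : Subgroup R)).map R.subtype := by
    rw [Subgroup.map_le_iff_le_comap]
    unfold Cfsg.omegaOne
    rw [Subgroup.closure_le]
    rintro y ⟨-, hy⟩
    rw [SetLike.mem_coe, Subgroup.mem_comap]
    refine ⟨⟨y.1, hUR y.2⟩, Subgroup.subset_closure ⟨Subgroup.mem_top _, ?_⟩, rfl⟩
    apply Subtype.ext
    have h3 := congrArg Subtype.val hy
    simpa using h3
  have h1 : Nat.card ((Cfsg.omegaOne p (⊤ : Subgroup U)).map U.subtype) = p ^ 2 := by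
    rw [Subgroup.card_map_of_injective (Subgroup.subtype_injective U)]; exact hcU
  have h2 : Nat.card ((Cfsg.omegaOne p (⊤ : Subgroup R)).map R.subtype) = p ^ 2 := by
    rw [Subgroup.card_map_of_injective (Subgroup.subtype_injective R)]; exact hcR
  have heq := Subgroup.eq_of_le_of_card_ge hle (by rw [h1, h2])
  have hxR : x ∈ (Cfsg.omegaOne p (⊤ : Subgroup R)).map R.subtype :=
    ⟨⟨x, hx⟩, Subgroup.subset_closure ⟨Subgroup.mem_top _, Subtype.ext (by simpa using hxp)⟩, rfl⟩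
  rw [← heq] at hxR
  exact Subgroup.map_subtype_le _ hxR

/-- Let G be a finite group, p an odd prime, R a metacyclic p-subgroup and A a subgroup of order coprime to p normalizing R. Then [R, A] is abelian; R is generated by [R, A] and R ∩ C_G(A), which meet trivially; and if R is non-abelian and A does not centralize R, then [R, A] and R ∩ C_G(A) are nontrivial cyclic groups and [R, R] ≤ [R, A]. -/
theorem result {G : Type*} [Group G] [Finite G] (p : ℕ) [Fact p.Prime] (hp : p ≠ 2) (R A : Subgroup G) (hR : IsPGroup p R) (hRm : Cfsg.IsMetacyclic R)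
    (hA : (A ≤ Subgroup.normalizer (R : Set G))) (hcop : (Nat.card A).Coprime p) :
    IsMulCommutative ↥⁅R, A⁆ ∧ ⁅R, A⁆ ⊔ (R ⊓ Subgroup.centralizer (A : Set G)) = R ∧ ⁅R, A⁆ ⊓ (R ⊓ Subgroup.centralizer (A : Set G)) = ⊥ ∧
      (¬ IsMulCommutative R → ¬ A ≤ Subgroup.centralizer (R : Set G) →
        ⁅R, A⁆ ≠ ⊥ ∧ IsCyclic ↥⁅R, A⁆ ∧ (R ⊓ Subgroup.centralizer (A : Set G)) ≠ ⊥ ∧ IsCyclic ↥(R ⊓ Subgroup.centralizer (A : Set G)) ∧ ⁅R, R⁆ ≤ ⁅R, A⁆) := by
  have hpp : p.Prime := Fact.out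
  have hcopR : (Nat.card A).Coprime (Nat.card R) := by
    obtain ⟨n, hn⟩ := hR.exists_card_eq
    rw [hn]; exact hcop.pow_right n
  have hsolv : Group.IsSolvable R := by
    haveI : Group.IsNilpotent R := hR.isNilpotent
    infer_instance
  have hact : Cfsg.Agent.Lib.Helper1.CoprimeAct A R := ⟨hA, hcopR, Or.inr hsolv⟩
  have hsup0 := hact.commutator_sup_centralizer
  have hKA0 := hact.commutator_commutator_eq
  obtain ⟨K, hKdef⟩ : ∃ K : Subgroup G, K = ⁅R, A⁆ := ⟨_, rfl⟩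
  rw [← hKdef] at hsup0 hKA0 ⊢
  have hKR : K ≤ R := hKdef ▸ Cfsg.Agent.Lib.Helper1.commutator_le_of_le_normalizer hA
  have hAK : A ≤ Subgroup.normalizer (K : Set G) :=
    hKdef ▸ Cfsg.Agent.Lib.Helper1.le_normalizer_commutator_right
  have hRK : R ≤ Subgroup.normalizer (K : Set G) :=
    hKdef ▸ Cfsg.Agent.Lib.Helper1.le_normalizer_commutator_left
  have hKp : IsPGroup p K := hR.to_le hKR
  have hKm : Cfsg.IsMetacyclic K :=
    isMetacyclic_of_injective (Subgroup.inclusion hKR) (Subgroup.inclusion_injective hKR) hRm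
  have hKab := commute_of_metacyclic_commutator_eq hp K A hKp hKm hAK hcop hKA0
  haveI hKmc : IsMulCommutative K := ⟨⟨fun a b => Subtype.ext (hKab a.1 a.2 b.1 b.2)⟩⟩
  obtain ⟨C, hC⟩ : ∃ C : Subgroup G, C = R ⊓ Subgroup.centralizer (A : Set G) := ⟨_, rfl⟩
  rw [← hC] at hsup0 ⊢
  have hCR : C ≤ R := hC ▸ inf_le_left
  have hinf : K ⊓ C = ⊥ := by
    have hcopK : (Nat.card A).Coprime (Nat.card K) :=
      Nat.Coprime.coprime_dvd_right (Subgroup.card_dvd_of_le hKR) hcopR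
    have h1 := Cfsg.Agent.Lib.Helper1.abelian_centralizer_inf_commutator_eq_bot A K hAK hcopK
    rw [hKA0] at h1
    rw [eq_bot_iff]
    intro x hx
    rw [← h1]
    obtain ⟨hxK, hxC⟩ := Subgroup.mem_inf.mp hx
    rw [hC] at hxC
    exact Subgroup.mem_inf.mpr ⟨Subgroup.mem_inf.mpr ⟨hxK, (Subgroup.mem_inf.mp hxC).2⟩, hxK⟩
  refine ⟨hKmc, hsup0, hinf, ?_⟩
  intro hRna hAnc
  have hKne : K ≠ ⊥ := by
    intro h
    apply hAnc
    rw [hKdef, Subgroup.commutator_comm] at h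
    exact Subgroup.commutator_eq_bot_iff_le_centralizer.mp h
  have hCne : C ≠ ⊥ := by
    intro h
    apply hRna
    rw [h, sup_bot_eq] at hsup0
    refine ⟨⟨fun a b => Subtype.ext ?_⟩⟩
    have haK : a.1 ∈ K := by rw [hsup0]; exact a.2
    have hbK : b.1 ∈ K := by rw [hsup0]; exact b.2
    exact hKab a.1 haK b.1 hbK
  have hexist : ∀ U : Subgroup G, U ≤ R → U ≠ ⊥ → ∃ x ∈ U, x ≠ 1 ∧ x ^ p = 1 := by
    intro U hUR hUne
    have hUp : IsPGroup p U := hR.to_le hUR
    have hdvd : p ∣ Nat.card U := by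
      rcases hUp.card_eq_or_dvd with h | h
      · exact absurd (Subgroup.card_eq_one.mp h) hUne
      · exact h
    obtain ⟨c, hc⟩ := exists_prime_orderOf_dvd_card' p hdvd
    refine ⟨c.1, c.2, ?_, ?_⟩
    · intro h1
      have h2 : c = 1 := Subtype.ext h1
      rw [h2, orderOf_one] at hc
      exact hpp.one_lt.ne hc
    · have hcp : c ^ p = 1 := by rw [← hc]; exact pow_orderOf_eq_one c
      have h3 := congrArg Subtype.val hcp
      simpa using h3
  have hKcyc : IsCyclic K := by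
    by_contra hnc
    obtain ⟨x, hxC, hx1, hxp⟩ := hexist C hCR hCne
    have hxK : x ∈ K := pow_eq_one_mem_of_not_isCyclic hp R K hR hRm hKR hnc (hCR hxC) hxp
    have h1 : x ∈ K ⊓ C := Subgroup.mem_inf.mpr ⟨hxK, hxC⟩
    rw [hinf, Subgroup.mem_bot] at h1
    exact hx1 h1
  have hCcyc : IsCyclic C := by
    by_contra hnc
    obtain ⟨x, hxK, hx1, hxp⟩ := hexist K hKR hKne
    have hxC : x ∈ C := pow_eq_one_mem_of_not_isCyclic hp R C hR hRm hCR hnc (hKR hxK) hxp
    have h1 : x ∈ K ⊓ C := Subgroup.mem_inf.mpr ⟨hxK, hxC⟩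
    rw [hinf, Subgroup.mem_bot] at h1
    exact hx1 h1
  refine ⟨hKne, hKcyc, hCne, hCcyc, ?_⟩
  -- `R / K` is a quotient of `C`, hence cyclic
  haveI hKn : (K.subgroupOf R).Normal := Subgroup.normal_subgroupOf_of_le_normalizer hRK
  have htop : K.subgroupOf R ⊔ C.subgroupOf R = ⊤ := by
    rw [← Subgroup.subgroupOf_sup hKR hCR, hsup0, Subgroup.subgroupOf_self]
  obtain ⟨φ, hφdef⟩ : ∃ φ : ↥C →* ↥R ⧸ K.subgroupOf R,
      ∀ c, φ c = QuotientGroup.mk' (K.subgroupOf R) (Subgroup.inclusion hCR c) :=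
    ⟨(QuotientGroup.mk' _).comp (Subgroup.inclusion hCR), fun c => rfl⟩
  have hφ : Function.Surjective φ := by
    intro q
    obtain ⟨r, rfl⟩ := QuotientGroup.mk'_surjective (K.subgroupOf R) q
    have hr : r ∈ K.subgroupOf R ⊔ C.subgroupOf R := by rw [htop]; exact Subgroup.mem_top r
    obtain ⟨k, hk, c, hc, rfl⟩ := Subgroup.mem_sup_of_normal_left.mp hr
    refine ⟨⟨(c : G), Subgroup.mem_subgroupOf.mp hc⟩, ?_⟩
    have h2 : Subgroup.inclusion hCR ⟨(c : G), Subgroup.mem_subgroupOf.mp hc⟩ = c := Subtype.ext rfl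
    have h1 : QuotientGroup.mk' (K.subgroupOf R) k = 1 := (QuotientGroup.eq_one_iff k).mpr hk
    rw [hφdef, h2, map_mul, h1, one_mul]
  haveI : IsCyclic C := hCcyc
  haveI : IsCyclic (↥R ⧸ K.subgroupOf R) := isCyclic_of_surjective φ hφ
  have hcomm : IsMulCommutative (↥R ⧸ K.subgroupOf R) := IsCyclic.isMulCommutative
  have hle : commutator ↥R ≤ K.subgroupOf R :=
    (Subgroup.Normal.quotient_commutative_iff_commutator_le (N := K.subgroupOf R)).mp hcomm
  rw [← Subgroup.map_subtype_commutator]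
  calc (commutator ↥R).map R.subtype ≤ (K.subgroupOf R).map R.subtype := Subgroup.map_mono hle
    _ = K := Subgroup.map_subgroupOf_eq_of_le hKR

end Cfsg.Agent.S1447
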