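import Cfsg.Statements.S1896
import Cfsg.Agent.Lib.Helper12.QuatFpf
import Cfsg.Agent.Lib.Helper12.OddAut
import Cfsg.Agent.Lib.Helper1.Frattini
import Cfsg.Agent.Lib.Helper1.ClassTwo
import Cfsg.Agent.Lib.Helper1.MaxClassTwo

set_option autoImplicit false
open Cfsg

namespace Cfsg.Agent.S1896

open Cfsg.Agent.Lib.Helper1
open scoped commutatorElement

section General

variable {X : Type*} [Group X] [Finite X]

/-- If `|X : Φ(X)| = 4` and `u`, `v`, `u⁻¹ v` all lie outside `Φ(X)`, every subgroup containing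
`u` and `v` is the whole group. -/
theorem eq_top_of_two (h4 : (frattini X).index = 4) {u v : X} (hu : u ∉ frattini X)
    (hv : v ∉ frattini X) (huv : u⁻¹ * v ∉ frattini X) (K : Subgroup X) (huK : u ∈ K)
    (hvK : v ∈ K) : K = ⊤ := by
  apply frattini_nongenerating
  by_contra hL
  set L := K ⊔ frattini X with hLdef
  have hΦL : frattini X ≤ L := le_sup_right
  have huL : u ∈ L := Subgroup.mem_sup_left huK
  have hvL : v ∈ L := Subgroup.mem_sup_left hvK
  have hmul := Subgroup.relIndex_mul_index hΦL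
  rw [h4] at hmul
  have h1 : L.index ≠ 1 := fun h => hL (Subgroup.index_eq_one.mp h)
  have h2 : (frattini X).relIndex L ≠ 1 := by
    intro h
    exact hu (Subgroup.relIndex_eq_one.mp h huL)
  have h3 : (frattini X).relIndex L = 2 := by
    have hdvd : (frattini X).relIndex L ∣ 4 := Dvd.intro _ hmul
    have hle : (frattini X).relIndex L ≤ 4 := Nat.le_of_dvd (by norm_num) hdvd
    have hne4 : (frattini X).relIndex L ≠ 4 := by
      intro h
      rw [h] at hmul
      omega
    interval_cases h : (frattini X).relIndex L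
    · simp at hmul
    · exact absurd rfl h2
    · rfl
    · omega
    · exact absurd rfl hne4
  have h5 : ((frattini X).subgroupOf L).index = 2 := h3
  have h6 := Subgroup.mul_mem_iff_of_index_two h5 (a := (⟨u⁻¹, L.inv_mem huL⟩ : L))
    (b := (⟨v, hvL⟩ : L))
  have h7 : (⟨u⁻¹, L.inv_mem huL⟩ : L) * ⟨v, hvL⟩ ∈ (frattini X).subgroupOf L := by
    rw [h6]
    constructor
    · intro h
      exfalso
      rw [Subgroup.mem_subgroupOf] at h
      exact hu (by simpa using h)
    · intro h
      exfalso
      rw [Subgroup.mem_subgroupOf] at h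
      exact hv h
  rw [Subgroup.mem_subgroupOf] at h7
  exact huv h7

/-- the fixed-point-freeness condition on `X / Φ(X)` -/
def FPF (α : MulAut X) : Prop := ∀ x : X, x ∉ frattini X → x⁻¹ * α x ∉ frattini X

omit [Finite X] in
theorem apply_mem_frattini_iff (α : MulAut X) (x : X) : α x ∈ frattini X ↔ x ∈ frattini X := by
  have hchar : (frattini X).Characteristic := inferInstance
  have h := Subgroup.characteristic_iff_comap_eq.mp hchar α
  constructor
  · intro hx
    have : x ∈ (frattini X).comap α.toMonoidHom := hx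
    rwa [h] at this
  · intro hx
    have : x ∈ (frattini X).comap α.toMonoidHom := by rwa [h]
    exact this

/-- an invariant subgroup not inside `Φ(X)` is everything -/
theorem eq_top_of_invariant (h4 : (frattini X).index = 4) {α : MulAut X} (hα : FPF α)
    (K : Subgroup X) (hK : ∀ x ∈ K, α x ∈ K) {x : X} (hxK : x ∈ K) (hx : x ∉ frattini X) :
    K = ⊤ :=
  eq_top_of_two h4 hx (fun h => hx ((apply_mem_frattini_iff α x).mp h)) (hα x hx) K hxK
    (hK x hxK)

end General

section Quot

variable {X : Type*} [Group X] [Finite X] {p : ℕ} [Fact p.Prime]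

/-- for a normal subgroup `E ≤ Φ(X)` of a `p`-group, `Φ(X / E)` is the image of `Φ(X)` -/
theorem comap_frattini_quotient (hX : IsPGroup p X) (E : Subgroup X) [E.Normal]
    (hE : E ≤ frattini X) :
    (frattini (X ⧸ E)).comap (QuotientGroup.mk' E) = frattini X := by
  apply le_antisymm
  · rw [le_frattini_iff]
    intro M hM
    have hEM : E ≤ M := hE.trans (frattini_le_coatom hM)
    have hidx : M.index = p := IsPGroup.index_of_isCoatom hX hM
    have hidx' : (M.map (QuotientGroup.mk' E)).index = p := by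
      rw [Subgroup.index_map, QuotientGroup.ker_mk', sup_eq_left.mpr hEM,
        MonoidHom.range_eq_top.mpr (QuotientGroup.mk'_surjective E), Subgroup.index_top, mul_one,
        hidx]
    have hco : IsCoatom (M.map (QuotientGroup.mk' E)) :=
      isCoatom_of_index_prime (by rw [hidx']; exact Fact.out)
    have h1 : (frattini (X ⧸ E)).comap (QuotientGroup.mk' E) ≤
        (M.map (QuotientGroup.mk' E)).comap (QuotientGroup.mk' E) :=
      Subgroup.comap_mono (frattini_le_coatom hco)
    rw [Subgroup.comap_map_eq, QuotientGroup.ker_mk', sup_eq_left.mpr hEM] at h1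
    exact h1
  · exact frattini_le_comap_frattini_of_surjective (QuotientGroup.mk'_surjective E)

theorem mk_mem_frattini_iff (hX : IsPGroup p X) (E : Subgroup X) [E.Normal]
    (hE : E ≤ frattini X) (x : X) :
    (QuotientGroup.mk x : X ⧸ E) ∈ frattini (X ⧸ E) ↔ x ∈ frattini X := by
  rw [← comap_frattini_quotient hX E hE]
  rfl

theorem index_frattini_quotient (hX : IsPGroup p X) (E : Subgroup X) [E.Normal]
    (hE : E ≤ frattini X) : (frattini (X ⧸ E)).index = (frattini X).index := by
  rw [← comap_frattini_quotient hX E hE,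
    Subgroup.index_comap_of_surjective _ (QuotientGroup.mk'_surjective E)]

/-- the FPF condition passes to quotients by invariant subgroups of `Φ(X)` -/
theorem fpf_quotient (hX : IsPGroup p X) (E : Subgroup X) [E.Normal]
    (hE : E ≤ frattini X) (α : MulAut X) (hα : FPF α)
    (hEα : E.map ((α : X ≃* X) : X →* X) = E) :
    FPF (QuotientGroup.congr E E α hEα : MulAut (X ⧸ E)) := by
  intro y hy
  obtain ⟨x, rfl⟩ := QuotientGroup.mk_surjective y
  rw [mk_mem_frattini_iff hX E hE] at hy
  have h1 := hα x hy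
  rw [QuotientGroup.congr_mk, ← QuotientGroup.mk_inv, ← QuotientGroup.mk_mul,
    mk_mem_frattini_iff hX E hE]
  exact h1

end Quot

section Prod

variable {A : Type*} [CommGroup A]

/-- internal direct product of two cyclic subgroups of the same order `M` -/
theorem nonempty_mulEquiv_prod_zmod {M : ℕ} (hM : 0 < M) {a b : A} (ha : orderOf a = M)
    (hb : orderOf b = M) (hinf : Subgroup.zpowers a ⊓ Subgroup.zpowers b = ⊥)
    (hsup : Subgroup.zpowers a ⊔ Subgroup.zpowers b = ⊤) :
    Nonempty (A ≃* Multiplicative (ZMod M) × Multiplicative (ZMod M)) := by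
  haveI : NeZero M := ⟨hM.ne'⟩
  set φ : ↥(Subgroup.zpowers a) × ↥(Subgroup.zpowers b) →* A :=
    (Subgroup.zpowers a).subtype.coprod (Subgroup.zpowers b).subtype with hφ
  have hφapp : ∀ z, φ z = (z.1 : A) * (z.2 : A) := fun z => rfl
  have hinj : Function.Injective φ := by
    rw [injective_iff_map_eq_one]
    rintro ⟨x, y⟩ hxy
    rw [hφapp] at hxy
    simp only at hxy
    have hx : (x : A) = (y : A)⁻¹ := eq_inv_of_mul_eq_one_left hxy
    have hxmem : (x : A) ∈ Subgroup.zpowers a ⊓ Subgroup.zpowers b :=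
      Subgroup.mem_inf.mpr ⟨x.2, by rw [hx]; exact inv_mem y.2⟩
    rw [hinf, Subgroup.mem_bot] at hxmem
    have hy : (y : A) = 1 := by
      rw [hxmem] at hx
      have := congrArg (fun t => t⁻¹) hx
      simpa using this.symm
    ext
    · exact hxmem
    · exact hy
  have hsurj : Function.Surjective φ := by
    intro z
    have hz : z ∈ Subgroup.zpowers a ⊔ Subgroup.zpowers b := by rw [hsup]; trivial
    rw [Subgroup.mem_sup] at hz
    obtain ⟨x, hx, y, hy, hxy⟩ := hz
    exact ⟨(⟨x, hx⟩, ⟨y, hy⟩), hxy⟩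
  have e0 : ↥(Subgroup.zpowers a) × ↥(Subgroup.zpowers b) ≃* A :=
    MulEquiv.ofBijective φ ⟨hinj, hsurj⟩
  have hcZ : Nat.card (Multiplicative (ZMod M)) = M := by
    rw [Nat.card_congr Multiplicative.toAdd, Nat.card_zmod]
  have e1 : ↥(Subgroup.zpowers a) ≃* Multiplicative (ZMod M) :=
    mulEquivOfCyclicCardEq (by rw [Nat.card_zpowers, ha, hcZ])
  have e2 : ↥(Subgroup.zpowers b) ≃* Multiplicative (ZMod M) :=
    mulEquivOfCyclicCardEq (by rw [Nat.card_zpowers, hb, hcZ])
  exact ⟨e0.symm.trans (MulEquiv.prodCongr e1 e2)⟩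

end Prod

section Ab

/-- the unique involution of a cyclic group of even order -/
theorem eq_pow_of_sq_eq_one {G : Type*} [Group G] {a w : G} {m : ℕ} (hm : 0 < m)
    (ha : orderOf a = 2 * m) (hw : w ∈ Subgroup.zpowers a) (hw2 : w ^ 2 = 1) (hw1 : w ≠ 1) :
    w = a ^ m := by
  have hfin : IsOfFinOrder a := by
    rw [← orderOf_pos_iff, ha]; omega
  rw [← hfin.mem_powers_iff_mem_zpowers, Submonoid.mem_powers_iff] at hw
  obtain ⟨i, rfl⟩ := hw
  rw [← pow_mul] at hw2
  have h1 : 2 * m ∣ i * 2 := by rw [← ha]; exact orderOf_dvd_of_pow_eq_one hw2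
  have h2 : m ∣ i := by
    rw [mul_comm i 2] at h1
    exact (Nat.mul_dvd_mul_iff_left (by norm_num)).mp h1
  obtain ⟨j, rfl⟩ := h2
  have h3 : (a ^ m) ^ 2 = 1 := by
    rw [← pow_mul, mul_comm, ← ha]; exact pow_orderOf_eq_one a
  rw [pow_mul] at hw1 ⊢
  rcases Nat.even_or_odd' j with ⟨t, rfl | rfl⟩
  · exfalso; apply hw1
    rw [pow_mul, h3, one_pow]
  · rw [pow_succ, pow_mul, h3, one_pow, one_mul]

variable {A : Type*} [Group A] [Finite A]

/-- a commutative `2`-group with `|A : Φ(A)| = 4` and an FPF automorphism is homocyclic -/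
theorem homocyclic_of_fpf (hA : IsPGroup 2 A) (hcomm : ∀ x y : A, x * y = y * x)
    (h4 : (frattini A).index = 4) (β : MulAut A) (hβ : FPF β) :
    ∃ n : ℕ, 1 ≤ n ∧
      Nonempty (A ≃* Multiplicative (ZMod (2 ^ n)) × Multiplicative (ZMod (2 ^ n))) := by
  have : Fact (2 : ℕ).Prime := ⟨Nat.prime_two⟩
  let _ : CommGroup A := { (inferInstance : Group A) with mul_comm := hcomm }
  obtain ⟨a, ha⟩ := Finite.exists_max (fun x : A => orderOf x)
  obtain ⟨n, hn⟩ := (IsPGroup.iff_orderOf.mp hA) a
  have hexp : ∀ x : A, x ^ (2 ^ n) = 1 := by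
    intro x
    obtain ⟨k, hk⟩ := (IsPGroup.iff_orderOf.mp hA) x
    have h1 : orderOf x ≤ orderOf a := ha x
    rw [hk, hn] at h1
    have hkn : k ≤ n := (Nat.pow_le_pow_iff_right (by norm_num)).mp h1
    rw [← orderOf_dvd_iff_pow_eq_one, hk]
    exact pow_dvd_pow 2 hkn
  have hn1 : 1 ≤ n := by
    by_contra hcon
    have hn0 : n = 0 := by omega
    have hall : ∀ x : A, x = 1 := by
      intro x
      have := hexp x
      rwa [hn0, pow_zero, pow_one] at this
    have htop : frattini A = ⊤ := by
      rw [eq_top_iff]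
      intro x _
      rw [hall x]; exact one_mem _
    rw [htop, Subgroup.index_top] at h4
    omega
  set m := 2 ^ (n - 1) with hm
  have hmpos : 0 < m := by positivity
  have h2m : 2 ^ n = 2 * m := by
    rw [hm, ← pow_succ']
    congr 1
    omega
  -- `Φ(A)` consists of squares
  have hΦsq : ∀ x ∈ frattini A, ∃ c : A, c ^ 2 = x := by
    have h1 : frattini A ≤ (powMonoidHom 2 : A →* A).range := by
      apply frattini_le_of_commutator_le_of_pow_mem (p := 2)
      · rw [commutator_eq_bot A]
        exact bot_le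
      · intro x
        exact ⟨x, rfl⟩
    intro x hx
    obtain ⟨c, hc⟩ := h1 hx
    exact ⟨c, hc⟩
  have hΦm : ∀ x ∈ frattini A, x ^ m = 1 := by
    intro x hx
    obtain ⟨c, rfl⟩ := hΦsq x hx
    rw [← pow_mul, ← h2m]
    exact hexp c
  have ham : a ^ m ≠ 1 := by
    intro h
    have h1 := orderOf_dvd_of_pow_eq_one h
    rw [hn, h2m] at h1
    have := Nat.le_of_dvd hmpos h1
    omega
  have haΦ : a ∉ frattini A := fun h => ham (hΦm a h)
  have hb : orderOf (β a) = 2 ^ n := by
    rw [← hn]
    exact MulEquiv.orderOf_eq β a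
  have hbΦ : β a ∉ frattini A := fun h => haΦ ((apply_mem_frattini_iff β a).mp h)
  refine ⟨n, hn1, ?_⟩
  apply nonempty_mulEquiv_prod_zmod (by positivity) hn hb
  · -- trivial intersection
    by_contra hne
    obtain ⟨⟨z, hz⟩, hz1⟩ := Subgroup.ne_bot_iff_exists_ne_one.mp hne
    have hz1' : z ≠ 1 := fun h => hz1 (Subtype.ext h)
    obtain ⟨k, hk⟩ := (IsPGroup.iff_orderOf.mp hA) z
    have hk1 : 1 ≤ k := by
      by_contra hcon
      have hk0 : k = 0 := by omega
      rw [hk0, pow_zero, orderOf_eq_one_iff] at hk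
      exact hz1' hk
    set w := z ^ (2 ^ (k - 1)) with hw
    have hkk : 2 ^ k = 2 * 2 ^ (k - 1) := by
      rw [← pow_succ']
      congr 1
      omega
    have hw2 : w ^ 2 = 1 := by
      rw [hw, ← pow_mul, mul_comm, ← hkk, ← hk]
      exact pow_orderOf_eq_one z
    have hw1 : w ≠ 1 := by
      intro h
      have h1 := orderOf_dvd_of_pow_eq_one h
      rw [hk, hkk] at h1
      have := Nat.le_of_dvd (by positivity) h1
      have : 0 < 2 ^ (k - 1) := by positivity
      omega
    have hwmem := (Subgroup.zpowers a ⊓ Subgroup.zpowers (β a)).pow_mem hz (2 ^ (k - 1))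
    rw [Subgroup.mem_inf] at hwmem
    have e1 : w = a ^ m := eq_pow_of_sq_eq_one hmpos (hn.trans h2m) hwmem.1 hw2 hw1
    have e2 : w = (β a) ^ m := eq_pow_of_sq_eq_one hmpos (hb.trans h2m) hwmem.2 hw2 hw1
    have e3 : (a⁻¹ * β a) ^ m = 1 := by
      rw [mul_pow, inv_pow, ← e1, ← e2, inv_mul_cancel]
    have hK : (powMonoidHom m : A →* A).ker = ⊤ := by
      apply eq_top_of_invariant h4 hβ _ _ (x := a⁻¹ * β a)
      · exact e3
      · exact hβ a haΦ
      · intro x hx
        rw [MonoidHom.mem_ker, powMonoidHom_apply] at hx ⊢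
        rw [← map_pow, hx, map_one]
    have : a ∈ (powMonoidHom m : A →* A).ker := by rw [hK]; trivial
    exact ham this
  · exact eq_top_of_two h4 haΦ hbΦ (hβ a haΦ) _
      (Subgroup.mem_sup_left (Subgroup.mem_zpowers a))
      (Subgroup.mem_sup_right (Subgroup.mem_zpowers (β a)))

end Ab

section Meta

variable {X : Type*} [Group X]

/-- quotients of metacyclic groups are metacyclic -/
theorem isMetacyclic_quotient (hm : Cfsg.IsMetacyclic X) (E : Subgroup X) [E.Normal] :
    Cfsg.IsMetacyclic (X ⧸ E) := by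
  obtain ⟨N, hN, hNc, hQc⟩ := hm
  have hsurj := QuotientGroup.mk'_surjective E
  have hNn : (N.map (QuotientGroup.mk' E)).Normal := hN.map _ hsurj
  refine ⟨N.map (QuotientGroup.mk' E), hNn, ?_, ?_⟩
  · exact isCyclic_of_surjective ((QuotientGroup.mk' E).subgroupMap N)
      ((QuotientGroup.mk' E).subgroupMap_surjective N)
  · have hle : N ≤ (N.map (QuotientGroup.mk' E)).comap (QuotientGroup.mk' E) :=
      Subgroup.le_comap_map _ _
    refine isCyclic_of_surjective
      (QuotientGroup.map N (N.map (QuotientGroup.mk' E)) (QuotientGroup.mk' E) hle) ?_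
    intro y
    obtain ⟨y', rfl⟩ := QuotientGroup.mk_surjective y
    obtain ⟨x, rfl⟩ := QuotientGroup.mk_surjective y'
    exact ⟨QuotientGroup.mk x, rfl⟩

/-- the commutator subgroup of a metacyclic group is cyclic -/
theorem isCyclic_commutator (hm : Cfsg.IsMetacyclic X) : IsCyclic (commutator X) := by
  obtain ⟨N, hN, hNc, hQc⟩ := hm
  have h1 : IsMulCommutative (X ⧸ N) := IsCyclic.isMulCommutative
  have h2 : commutator X ≤ N := Subgroup.Normal.quotient_commutative_iff_commutator_le.mp h1
  exact Subgroup.isCyclic_of_le h2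

/-- a finite metacyclic group of exponent dividing `M` has order at most `M * M` -/
theorem card_le_of_isMetacyclic [Finite X] (hm : Cfsg.IsMetacyclic X) {M : ℕ} (hM : 0 < M)
    (hexp : ∀ x : X, x ^ M = 1) : Nat.card X ≤ M * M := by
  obtain ⟨N, hN, hNc, hQc⟩ := hm
  have key : ∀ (C : Type _) [Group C] [Finite C] [IsCyclic C], (∀ c : C, c ^ M = 1) →
      Nat.card C ≤ M := by
    intro C _ _ _ hC
    obtain ⟨g, hg⟩ := IsCyclic.exists_generator (α := C)
    rw [← orderOf_eq_card_of_forall_mem_zpowers hg]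
    exact orderOf_le_of_pow_eq_one hM (hC g)
  rw [Subgroup.card_eq_card_quotient_mul_card_subgroup N]
  apply Nat.mul_le_mul
  · apply key
    intro c
    obtain ⟨x, rfl⟩ := QuotientGroup.mk_surjective c
    rw [← QuotientGroup.mk_pow, hexp, QuotientGroup.mk_one]
  · apply key
    intro c
    apply Subtype.ext
    rw [Subgroup.coe_pow, hexp, Subgroup.coe_one]

end Meta

section Small

variable {Y : Type*} [Group Y] [Finite Y]

theorem card_mult_zmod (M : ℕ) : Nat.card (Multiplicative (ZMod M)) = M := by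
  rw [Nat.card_congr Multiplicative.toAdd, Nat.card_zmod]

/-- if `|Y'| = 2` then `|Y : Y'| = 4` -/
theorem index_commutator_eq_four (hY : IsPGroup 2 Y) (hm : Cfsg.IsMetacyclic Y)
    (h4 : (frattini Y).index = 4) (β : MulAut Y) (hβ : FPF β)
    (hD : Nat.card (commutator Y) = 2) : (commutator Y).index = 4 := by
  have : Fact (2 : ℕ).Prime := ⟨Nat.prime_two⟩
  set D := commutator Y with hDdef
  have hDn : D.Normal := inferInstance
  have hDΦ : D ≤ frattini Y := IsPGroup.commutator_le_frattini hY
  have hsq : ∀ d ∈ D, d ^ 2 = 1 := by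
    intro d hd
    have h1 := pow_card_eq_one' (G := D) (x := ⟨d, hd⟩)
    rw [hD] at h1
    have h2 := congrArg Subtype.val h1
    simpa using h2
  have hcen : ∀ d ∈ D, ∀ y : Y, d * y = y * d := by
    intro d hd y
    by_cases hd1 : d = 1
    · rw [hd1, one_mul, mul_one]
    have h1 : y * d * y⁻¹ ∈ D := hDn.conj_mem d hd y
    rcases MaxClassTwo.eq_one_or_eq_of_card_two hD h1 hd hd1 with h | h
    · exfalso
      apply hd1
      have h2 : y * d = y := by
        have := congrArg (fun t => t * y) h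
        simpa using this
      exact mul_eq_left.mp h2
    · have := congrArg (fun t => t * y) h
      simpa using this.symm
  have hcommA : ∀ x y : Y ⧸ D, x * y = y * x := by
    have h1 : IsMulCommutative (Y ⧸ D) :=
      Subgroup.Normal.quotient_commutative_iff_commutator_le.mpr le_rfl
    intro x y
    exact h1.is_comm.comm x y
  have hDβ : D.map ((β : Y ≃* Y) : Y →* Y) = D := by
    have hchar : D.Characteristic := inferInstance
    exact Subgroup.characteristic_iff_map_eq.mp hchar β
  have hA2 : IsPGroup 2 (Y ⧸ D) := hY.to_quotient D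
  have hA4 : (frattini (Y ⧸ D)).index = 4 := by rw [index_frattini_quotient hY D hDΦ, h4]
  have hβ' := fpf_quotient hY D hDΦ β hβ hDβ
  obtain ⟨n, hn1, ⟨e⟩⟩ := homocyclic_of_fpf hA2 hcommA hA4 _ hβ'
  set M := 2 ^ n with hMdef
  have hMpos : 0 < M := by positivity
  have hcardA : Nat.card (Y ⧸ D) = M * M := by
    rw [Nat.card_congr e.toEquiv, Nat.card_prod, card_mult_zmod]
  have hexpZ : ∀ z : Multiplicative (ZMod M), z ^ M = 1 := by
    intro z
    have h1 := pow_card_eq_one' (x := z)
    rwa [card_mult_zmod] at h1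
  have hexpA : ∀ x : Y ⧸ D, x ^ M = 1 := by
    intro x
    apply e.injective
    rw [map_pow, map_one]
    ext
    · rw [Prod.pow_fst, hexpZ]; rfl
    · rw [Prod.pow_snd, hexpZ]; rfl
  have hpowD : ∀ y : Y, y ^ M ∈ D := by
    intro y
    rw [← QuotientGroup.eq_one_iff, QuotientGroup.mk_pow]
    exact hexpA _
  have hidx : D.index = M * M := by rw [Subgroup.index_eq_card, hcardA]
  by_cases hn2 : n = 1
  · rw [hidx, hMdef, hn2]; norm_num
  exfalso
  have hn2' : 2 ≤ n := by omega
  have hchoose : 2 ∣ M.choose 2 := by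
    rw [Nat.choose_two_right]
    obtain ⟨t, ht⟩ : ∃ t, M = 4 * t := by
      refine ⟨2 ^ (n - 2), ?_⟩
      rw [hMdef, show (4 : ℕ) = 2 ^ 2 by norm_num, ← pow_add]
      congr 1
      omega
    rw [ht]
    have h1 : 4 * t * (4 * t - 1) / 2 = 2 * (t * (4 * t - 1)) := by
      rw [show 4 * t * (4 * t - 1) = 2 * (2 * (t * (4 * t - 1))) by ring]
      exact Nat.mul_div_cancel_left _ (by norm_num)
    rw [h1]
    exact dvd_mul_right _ _
  have hmulpow : ∀ x y : Y, (x * y) ^ M = x ^ M * y ^ M := by
    intro x y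
    have hc : ⁅y, x⁆ ∈ D := by
      rw [hDdef, commutator_def]
      exact Subgroup.commutator_mem_commutator (Subgroup.mem_top y) (Subgroup.mem_top x)
    rw [mul_pow_of_commutator_central (hcen _ hc x) (hcen _ hc y) M]
    obtain ⟨t, ht⟩ := hchoose
    rw [ht, pow_mul, hsq _ hc, one_pow, mul_one]
  set ψ : Y →* Y := MonoidHom.mk' (fun y => y ^ M) hmulpow with hψ
  have hψapp : ∀ y, ψ y = y ^ M := fun y => rfl
  have hrange : ψ.range ≤ D := by
    rintro _ ⟨y, rfl⟩
    exact hpowD y
  have hkidx : ψ.ker.index ≤ 2 := by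
    rw [Subgroup.index_ker]
    calc Nat.card ψ.range ≤ Nat.card D := Subgroup.card_le_of_le hrange
      _ = 2 := hD
  have hkinv : ∀ x ∈ ψ.ker, β x ∈ ψ.ker := by
    intro x hx
    rw [MonoidHom.mem_ker, hψapp] at hx ⊢
    rw [← map_pow, hx, map_one]
  have hktop : ψ.ker = ⊤ := by
    by_contra hne
    have hnle : ¬ ψ.ker ≤ frattini Y := by
      intro hle
      have h1 := Subgroup.index_dvd_of_le hle
      rw [h4] at h1
      have hpos : 0 < ψ.ker.index := Nat.pos_of_ne_zero Subgroup.index_ne_zero_of_finite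
      have := Nat.le_of_dvd hpos h1
      omega
    obtain ⟨x, hxK, hxΦ⟩ := SetLike.not_le_iff_exists.mp hnle
    exact hne (eq_top_of_invariant h4 hβ _ hkinv hxK hxΦ)
  have hexpY : ∀ y : Y, y ^ M = 1 := by
    intro y
    have h1 : y ∈ ψ.ker := by rw [hktop]; trivial
    exact h1
  have hle := card_le_of_isMetacyclic hm hMpos hexpY
  have hcardY : Nat.card Y = M * M * 2 := by
    rw [Subgroup.card_eq_card_quotient_mul_card_subgroup D, hcardA, hD]
  have hMM : 0 < M * M := Nat.mul_pos hMpos hMpos
  rw [hcardY] at hle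
  omega

end Small

section Main

variable {X : Type*} [Group X] [Finite X]

theorem main_of_fpf (hX : IsPGroup 2 X) (hm : Cfsg.IsMetacyclic X)
    (h4 : (frattini X).index = 4) (α : MulAut X) (hα : FPF α) :
    Nonempty (X ≃* QuaternionGroup 2) ∨
      ∃ n : ℕ, Nonempty (X ≃* Multiplicative (ZMod (2 ^ n)) × Multiplicative (ZMod (2 ^ n))) := by
  have : Fact (2 : ℕ).Prime := ⟨Nat.prime_two⟩
  by_cases hc : IsMulCommutative X
  · right
    obtain ⟨n, _, h⟩ := homocyclic_of_fpf hX (fun x y => hc.is_comm.comm x y) h4 α hα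
    exact ⟨n, h⟩
  left
  have hDcyc : IsCyclic (commutator X) := isCyclic_commutator hm
  obtain ⟨⟨g, hgD⟩, hgen⟩ := IsCyclic.exists_generator (α := commutator X)
  have hDeq : commutator X = Subgroup.zpowers g := by
    apply le_antisymm
    · intro d hd
      obtain ⟨k, hk⟩ := Subgroup.mem_zpowers_iff.mp (hgen ⟨d, hd⟩)
      refine Subgroup.mem_zpowers_iff.mpr ⟨k, ?_⟩
      have := congrArg Subtype.val hk
      simpa using this
    · rw [Subgroup.zpowers_le]; exact hgD
  have hg1 : g ≠ 1 := by
    intro h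
    apply MaxClassTwo.commutator_ne_bot_of_not_comm hc
    rw [hDeq, h, Subgroup.zpowers_one_eq_bot]
  set E := Subgroup.zpowers (g ^ 2) with hEdef
  have hEchar : E.Characteristic := by
    rw [Subgroup.characteristic_iff_map_le]
    intro φ
    rw [hEdef, MonoidHom.map_zpowers, Subgroup.zpowers_le]
    have hDchar : (commutator X).Characteristic := inferInstance
    have h1 : φ g ∈ commutator X :=
      Subgroup.characteristic_iff_map_le.mp hDchar φ (Subgroup.mem_map_of_mem _ hgD)
    rw [hDeq] at h1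
    obtain ⟨k, hk⟩ := Subgroup.mem_zpowers_iff.mp h1
    refine Subgroup.mem_zpowers_iff.mpr ⟨k, ?_⟩
    show (g ^ 2) ^ k = φ (g ^ 2)
    rw [map_pow, ← hk]
    group
  have hEn : E.Normal := inferInstance
  have hED : E ≤ commutator X := by
    rw [hDeq, hEdef, Subgroup.zpowers_le]
    exact Subgroup.pow_mem _ (Subgroup.mem_zpowers g) 2
  have hEΦ : E ≤ frattini X := hED.trans (IsPGroup.commutator_le_frattini hX)
  have hEα : E.map ((α : X ≃* X) : X →* X) = E :=
    Subgroup.characteristic_iff_map_eq.mp hEchar α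
  have hgE : g ∉ E := by
    intro h
    have hle : Subgroup.zpowers g ≤ E := Subgroup.zpowers_le.mpr h
    have hcard := Subgroup.card_le_of_le hle
    rw [Nat.card_zpowers, hEdef, Nat.card_zpowers] at hcard
    obtain ⟨k, hk⟩ := (IsPGroup.iff_orderOf.mp hX) g
    have hk1 : 1 ≤ k := by
      by_contra hcon
      have hk0 : k = 0 := by omega
      rw [hk0, pow_zero, orderOf_eq_one_iff] at hk
      exact hg1 hk
    rw [orderOf_pow' g (by norm_num : 2 ≠ 0), hk] at hcard
    have hgcd : Nat.gcd (2 ^ k) 2 = 2 := Nat.gcd_eq_right (dvd_pow_self 2 (by omega))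
    rw [hgcd] at hcard
    have : 0 < 2 ^ k := by positivity
    omega
  have hY2 : IsPGroup 2 (X ⧸ E) := hX.to_quotient E
  have hYm := isMetacyclic_quotient hm E
  have hY4 : (frattini (X ⧸ E)).index = 4 := by rw [index_frattini_quotient hX E hEΦ, h4]
  have hYβ := fpf_quotient hX E hEΦ α hα hEα
  have hmapD : (commutator X).map (QuotientGroup.mk' E) = commutator (X ⧸ E) := by
    rw [commutator_def, Subgroup.map_commutator,
      Subgroup.map_top_of_surjective (QuotientGroup.mk' E) (QuotientGroup.mk'_surjective E),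
      ← commutator_def]
  have hcomY : commutator (X ⧸ E) = Subgroup.zpowers (QuotientGroup.mk g : X ⧸ E) := by
    rw [← hmapD, hDeq, MonoidHom.map_zpowers]
    rfl
  have hord : orderOf (QuotientGroup.mk g : X ⧸ E) = 2 := by
    apply orderOf_eq_prime
    · rw [← QuotientGroup.mk_pow, QuotientGroup.eq_one_iff]
      exact Subgroup.mem_zpowers _
    · rw [Ne, QuotientGroup.eq_one_iff]
      exact hgE
  have hcardD : Nat.card (commutator (X ⧸ E)) = 2 := by
    rw [hcomY, Nat.card_zpowers, hord]
  have hidxY := index_commutator_eq_four hY2 hYm hY4 _ hYβ hcardD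
  have hidxX : (commutator X).index = 4 := by
    have h1 : (commutator (X ⧸ E)).comap (QuotientGroup.mk' E) = commutator X := by
      rw [← hmapD, Subgroup.comap_map_eq, QuotientGroup.ker_mk', sup_eq_left.mpr hED]
    rw [← h1, Subgroup.index_comap_of_surjective _ (QuotientGroup.mk'_surjective E), hidxY]
  exact Cfsg.Agent.Lib.Helper12.QuatFpf.quaternion_of_fpf hX hc hidxX α hα

end Main

/-- A finite metacyclic 2-group whose automorphism group is not a 2-group is isomorphic to the quaternion group of order 8 or to a homocyclic abelian group Z_{2^n} × Z_{2^n}. -/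
theorem result {X : Type*} [Group X] [Finite X] (hX : IsPGroup 2 X)
    (hm : Cfsg.IsMetacyclic X) (hA : ¬ IsPGroup 2 (MulAut X)) :
    Nonempty (X ≃* QuaternionGroup 2) ∨
      ∃ n : ℕ, Nonempty (X ≃* Multiplicative (ZMod (2 ^ n)) × Multiplicative (ZMod (2 ^ n))) := by
  have : Fact (2 : ℕ).Prime := ⟨Nat.prime_two⟩
  obtain ⟨q, α, hq, hq2, hαq⟩ := Cfsg.Agent.Lib.Helper12.exists_prime_orderOf_mulAut hA
  haveI : Fact q.Prime := ⟨hq⟩
  have hexp2 : ∀ y : X ⧸ frattini X, y ^ 2 = 1 := by
    intro y
    obtain ⟨x, rfl⟩ := QuotientGroup.mk_surjective y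
    rw [← QuotientGroup.mk_pow, QuotientGroup.eq_one_iff]
    exact IsPGroup.pow_mem_frattini hX x
  have hle4 : (frattini X).index ≤ 4 := by
    rw [Subgroup.index_eq_card]
    exact card_le_of_isMetacyclic (isMetacyclic_quotient hm _) (by norm_num) hexp2
  obtain ⟨k, hk⟩ : ∃ k, (frattini X).index = 2 ^ k := by
    have h1 := (hX.to_quotient (frattini X)).exists_card_eq
    rwa [← Subgroup.index_eq_card] at h1
  have hk2 : k ≤ 2 := by
    by_contra hcon
    have h3 : 3 ≤ k := by omega
    have : 2 ^ 3 ≤ 2 ^ k := Nat.pow_le_pow_right (by norm_num) h3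
    rw [← hk] at this
    omega
  have hburn := Cfsg.Agent.Lib.Helper12.not_forall_mem_frattini hX hq2 hαq
  interval_cases k
  · -- index 1
    exfalso
    apply hburn
    intro x
    have htop : frattini X = ⊤ := Subgroup.index_eq_one.mp (by simpa using hk)
    rw [htop]
    trivial
  · -- index 2
    exfalso
    apply hburn
    intro x
    have h2 : (frattini X).index = 2 := by simpa using hk
    rw [Subgroup.mul_mem_iff_of_index_two h2, inv_mem_iff, apply_mem_frattini_iff]
  · -- index 4
    have h4 : (frattini X).index = 4 := by simpa using hk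
    apply main_of_fpf hX hm h4 α
    intro x hx
    exact Cfsg.Agent.Lib.Helper12.inv_mul_apply_not_mem_frattini hX hq2 h4 hαq hx

end Cfsg.Agent.S1896
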