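import Cfsg.Statements.S3494
import Mathlib

set_option autoImplicit false
open Cfsg

namespace Cfsg.Agent.S3494

open MulAction

section
variable (G : Type*) [Group G] {Ω : Type*} [MulAction G Ω] (α ω : Ω)

/-- The orbital relation determined by the pair `(α, ω)`. -/
def Rel (δ ε : Ω) : Prop := ∃ g : G, g • α = δ ∧ g • ω = ε

variable {G α ω}

lemma rel_smul {δ ε : Ω} (g : G) (h : Rel G α ω δ ε) : Rel G α ω (g • δ) (g • ε) := by
  obtain ⟨k, h1, h2⟩ := h
  exact ⟨g * k, by rw [mul_smul, h1], by rw [mul_smul, h2]⟩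

lemma rel_of_smul {δ ε : Ω} (g : G) (h : Rel G α ω (g • δ) (g • ε)) : Rel G α ω δ ε := by
  have := rel_smul g⁻¹ h
  simpa using this

lemma rel_smul_iff {δ ε : Ω} (g : G) : Rel G α ω (g • δ) (g • ε) ↔ Rel G α ω δ ε :=
  ⟨rel_of_smul g, rel_smul g⟩

lemma rel_irrefl (hω : ω ≠ α) (δ : Ω) : ¬ Rel G α ω δ δ := by
  rintro ⟨g, h1, h2⟩
  apply hω
  have : g • ω = g • α := by rw [h1, h2]
  exact smul_left_cancel g this

lemma rel_self : Rel G α ω α ω := ⟨1, one_smul _ _, one_smul _ _⟩

lemma rel_stab {δ ε ε' : Ω} (h : Rel G α ω δ ε) (h' : Rel G α ω δ ε') :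
    ∃ k : G, k • δ = δ ∧ k • ε = ε' := by
  obtain ⟨g, h1, h2⟩ := h
  obtain ⟨g', h1', h2'⟩ := h'
  refine ⟨g' * g⁻¹, ?_, ?_⟩
  · rw [← h1, mul_smul, inv_smul_smul, h1', h1]
  · rw [← h2, mul_smul, inv_smul_smul, h2']

variable (G α ω)

/-- The pointwise stabilizer of `δ` together with its out-neighbours. -/
def K (δ : Ω) : Subgroup G where
  carrier := {x | x • δ = δ ∧ ∀ ε, Rel G α ω δ ε → x • ε = ε}
  one_mem' := ⟨one_smul _ _, fun _ _ => one_smul _ _⟩
  mul_mem' := by
    rintro x y ⟨hx1, hx2⟩ ⟨hy1, hy2⟩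
    refine ⟨by rw [mul_smul, hy1, hx1], fun ε hε => by rw [mul_smul, hy2 ε hε, hx2 ε hε]⟩
  inv_mem' := by
    rintro x ⟨hx1, hx2⟩
    refine ⟨by rw [inv_smul_eq_iff, hx1], fun ε hε => by rw [inv_smul_eq_iff, hx2 ε hε]⟩

variable {G α ω}

lemma mem_K {δ : Ω} {x : G} :
    x ∈ K G α ω δ ↔ x • δ = δ ∧ ∀ ε, Rel G α ω δ ε → x • ε = ε := Iff.rfl

lemma K_smul (g : G) (δ : Ω) :
    K G α ω (g • δ) = (K G α ω δ).map (MulAut.conj g).toMonoidHom := by
  ext x
  rw [Subgroup.mem_map_equiv]
  simp only [mem_K, MulAut.conj_symm_apply]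
  constructor
  · rintro ⟨h1, h2⟩
    refine ⟨?_, fun ε hε => ?_⟩
    · rw [mul_smul, mul_smul, h1, inv_smul_smul]
    · rw [mul_smul, mul_smul, h2 _ (rel_smul g hε), inv_smul_smul]
  · rintro ⟨h1, h2⟩
    refine ⟨?_, fun ε hε => ?_⟩
    · have := h1
      rw [mul_smul, mul_smul, inv_smul_eq_iff] at this
      exact this
    · have hε' : Rel G α ω δ (g⁻¹ • ε) := by
        apply rel_of_smul g
        simpa using hε
      have := h2 _ hε'
      rw [mul_smul, mul_smul, smul_inv_smul, inv_smul_eq_iff, smul_inv_smul] at this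
      exact this

lemma card_K_smul (g : G) (δ : Ω) :
    Nat.card (K G α ω (g • δ)) = Nat.card (K G α ω δ) := by
  rw [K_smul]
  exact Subgroup.card_map_of_injective (MulAut.conj g).injective

open Classical in
lemma card_out_eq_card_in [Fintype Ω] [IsPretransitive G Ω] (δ σ : Ω) :
    (Finset.univ.filter (fun ε => Rel G α ω δ ε)).card =
      (Finset.univ.filter (fun ε' => Rel G α ω ε' σ)).card := by
  have h1 : ∀ δ : Ω, (Finset.univ.filter (fun ε => Rel G α ω δ ε)).card =
      (Finset.univ.filter (fun ε => Rel G α ω α ε)).card := by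
    intro δ
    obtain ⟨g, rfl⟩ := exists_smul_eq G α δ
    symm
    apply Finset.card_bij (fun ε _ => g • ε)
    · intro ε hε
      simp only [Finset.mem_filter, Finset.mem_univ, true_and] at hε ⊢
      exact rel_smul g hε
    · intro a _ b _ hab
      exact smul_left_cancel g hab
    · intro ε hε
      simp only [Finset.mem_filter, Finset.mem_univ, true_and] at hε ⊢
      refine ⟨g⁻¹ • ε, ?_, smul_inv_smul g ε⟩
      apply rel_of_smul g
      simpa using hε
  have h2 : ∀ σ : Ω, (Finset.univ.filter (fun ε => Rel G α ω ε σ)).card =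
      (Finset.univ.filter (fun ε => Rel G α ω ε α)).card := by
    intro σ
    obtain ⟨g, rfl⟩ := exists_smul_eq G α σ
    symm
    apply Finset.card_bij (fun ε _ => g • ε)
    · intro ε hε
      simp only [Finset.mem_filter, Finset.mem_univ, true_and] at hε ⊢
      exact rel_smul g hε
    · intro a _ b _ hab
      exact smul_left_cancel g hab
    · intro ε hε
      simp only [Finset.mem_filter, Finset.mem_univ, true_and] at hε ⊢
      refine ⟨g⁻¹ • ε, ?_, smul_inv_smul g ε⟩
      apply rel_of_smul g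
      simpa using hε
  have h3 := Finset.sum_card_bipartiteAbove_eq_sum_card_bipartiteBelow
    (s := (Finset.univ : Finset Ω)) (t := (Finset.univ : Finset Ω)) (Rel G α ω)
  simp only [Finset.bipartiteAbove, Finset.bipartiteBelow] at h3
  rw [Finset.sum_congr rfl (fun δ _ => h1 δ), Finset.sum_congr rfl (fun σ _ => h2 σ)] at h3
  simp only [Finset.sum_const, smul_eq_mul] at h3
  have hpos : 0 < (Finset.univ : Finset Ω).card := Finset.card_pos.mpr ⟨α, Finset.mem_univ _⟩
  rw [h1 δ, h2 σ]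
  exact Nat.eq_of_mul_eq_mul_left hpos h3

/-- If the out-neighbourhood of `δ` is contained in the in-neighbourhood of `σ`, they are equal. -/
lemma in_eq_out [Fintype Ω] [IsPretransitive G Ω] {δ σ : Ω}
    (h : ∀ ε, Rel G α ω δ ε → Rel G α ω ε σ) (ε : Ω) (hε : Rel G α ω ε σ) : Rel G α ω δ ε := by
  classical
  have hsub : (Finset.univ.filter (fun ε => Rel G α ω δ ε)) ⊆
      (Finset.univ.filter (fun ε' => Rel G α ω ε' σ)) := by
    intro x hx
    simp only [Finset.mem_filter, Finset.mem_univ, true_and] at hx ⊢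
    exact h x hx
  have heq := Finset.eq_of_subset_of_card_le hsub (card_out_eq_card_in (α := α) (ω := ω) δ σ).ge
  have : ε ∈ (Finset.univ.filter (fun ε' => Rel G α ω ε' σ)) := by
    simp only [Finset.mem_filter, Finset.mem_univ, true_and]
    exact hε
  rw [← heq] at this
  simpa using this

/-- The set of points whose in-neighbourhood contains the out-neighbourhood of `δ` is a block. -/
lemma isBlock_B [Fintype Ω] [IsPretransitive G Ω] (δ : Ω) :
    IsBlock G {σ : Ω | ∀ ε, Rel G α ω δ ε → Rel G α ω ε σ} := by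
  rw [isBlock_iff_smul_eq_of_mem]
  intro g σ hσ hgσ
  simp only [Set.mem_setOf_eq] at hσ hgσ
  have key : ∀ ε, Rel G α ω δ ε ↔ Rel G α ω δ (g • ε) := by
    intro ε
    constructor
    · intro h
      exact in_eq_out hgσ _ (rel_smul g (hσ ε h))
    · intro h
      exact in_eq_out hσ _ (rel_of_smul g (hgσ _ h))
  ext τ
  rw [Set.mem_smul_set_iff_inv_smul_mem]
  simp only [Set.mem_setOf_eq]
  constructor
  · intro h ε hε
    have h1 : Rel G α ω δ (g⁻¹ • ε) := by
      rw [key]; simpa using hε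
    have h2 := rel_smul g (h _ h1)
    simpa using h2
  · intro h ε hε
    apply rel_of_smul g
    rw [smul_inv_smul]
    exact h _ ((key ε).mp hε)

/-- A normal subgroup of `H` acting nontrivially on a primitive orbit of `H` is transitive on it. -/
lemma normal_transitive_on_orbit {H : Subgroup G} (γ : Ω) [IsPreprimitive H (orbit H γ)]
    (N : Subgroup G) (hNH : N ≤ H) (hnorm : ∀ h ∈ H, ∀ n ∈ N, h * n * h⁻¹ ∈ N)
    (x : G) (hx : x ∈ N) (hxγ : x • γ ≠ γ) : ∀ σ ∈ orbit H γ, ∃ n ∈ N, n • γ = σ := by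
  intro σ hσ
  haveI : (N.subgroupOf H).Normal := by
    constructor
    intro n hn h
    rw [Subgroup.mem_subgroupOf] at hn ⊢
    exact hnorm h.1 h.2 n.1 hn
  have hfix : fixedPoints (N.subgroupOf H) (orbit H γ) ≠ Set.univ := by
    intro h
    have h1 : (⟨γ, mem_orbit_self γ⟩ : orbit H γ) ∈ fixedPoints (N.subgroupOf H) (orbit H γ) := by
      rw [h]; trivial
    rw [mem_fixedPoints] at h1
    have h2 := h1 ⟨⟨x, hNH hx⟩, by rw [Subgroup.mem_subgroupOf]; exact hx⟩
    apply hxγ
    have h3 := congrArg Subtype.val h2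
    exact h3
  haveI : IsPretransitive (N.subgroupOf H) (orbit H γ) :=
    IsQuasiPreprimitive.isPretransitive_of_normal hfix
  obtain ⟨n, hn⟩ := exists_smul_eq (N.subgroupOf H) (⟨γ, mem_orbit_self γ⟩ : orbit H γ) ⟨σ, hσ⟩
  refine ⟨n.1.1, ?_, ?_⟩
  · have := n.2
    rw [Subgroup.mem_subgroupOf] at this
    exact this
  · have h3 := congrArg Subtype.val hn
    exact h3

lemma K_le_of_rel [Fintype Ω] (hprim : IsPreprimitive G Ω)
    (hep : ∀ (α ω : Ω), IsPreprimitive (stabilizer G α) (orbit (stabilizer G α) ω))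
    (hω : ω ≠ α) {δ ε : Ω} (hδε : Rel G α ω δ ε) : K G α ω δ ≤ K G α ω ε := by
  intro x hx
  rw [mem_K]
  refine ⟨hx.2 ε hδε, ?_⟩
  intro γ hγ
  by_contra hne
  haveI := hep δ γ
  have hKH : K G α ω δ ≤ stabilizer G δ := fun y hy => hy.1
  have hnorm : ∀ h ∈ stabilizer G δ, ∀ n ∈ K G α ω δ, h * n * h⁻¹ ∈ K G α ω δ := by
    intro h hh n hn
    have h1 : K G α ω (h • δ) = K G α ω δ := by rw [mem_stabilizer_iff.mp hh]
    rw [← h1, K_smul, Subgroup.mem_map_equiv]
    simp only [MulAut.conj_symm_apply]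
    convert hn using 1
    group
  have htrans := normal_transitive_on_orbit (H := stabilizer G δ) γ (K G α ω δ) hKH hnorm x hx hne
  -- every point of the orbit is an out-neighbour of ε
  have h1 : ∀ σ ∈ orbit (stabilizer G δ) γ, Rel G α ω ε σ := by
    intro σ hσ
    obtain ⟨n, hn, rfl⟩ := htrans σ hσ
    have := rel_smul n hγ
    rwa [hn.2 ε hδε] at this
  -- hence it lies in the block
  have h2 : ∀ σ ∈ orbit (stabilizer G δ) γ, ∀ ε', Rel G α ω δ ε' → Rel G α ω ε' σ := by
    intro σ hσ ε' hε'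
    obtain ⟨k, hk1, hk2⟩ := rel_stab hδε hε'
    have hk : k ∈ stabilizer G δ := hk1
    have hσ' : k⁻¹ • σ ∈ orbit (stabilizer G δ) γ := by
      obtain ⟨m, rfl⟩ := hσ
      exact ⟨⟨k, hk⟩⁻¹ * m, by simp [mul_smul, Subgroup.smul_def]⟩
    have := rel_smul k (h1 _ hσ')
    rwa [hk2, smul_inv_smul] at this
  haveI : IsPretransitive G Ω := hprim.toIsPretransitive
  have hB := isBlock_B (G := G) (α := α) (ω := ω) δ
  rcases hB.subsingleton_or_eq_univ with hsub | huniv
  · apply hne
    apply hsub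
    · exact h2 _ ⟨⟨x, hKH hx⟩, rfl⟩
    · exact h2 _ (mem_orbit_self γ)
  · have : ε ∈ {σ : Ω | ∀ ε, Rel G α ω δ ε → Rel G α ω ε σ} := by rw [huniv]; trivial
    exact rel_irrefl hω ε (this ε hδε)

lemma K_eq_of_rel [Finite G] [Fintype Ω] (hprim : IsPreprimitive G Ω)
    (hep : ∀ (α ω : Ω), IsPreprimitive (stabilizer G α) (orbit (stabilizer G α) ω))
    (hω : ω ≠ α) {δ ε : Ω} (hδε : Rel G α ω δ ε) : K G α ω δ = K G α ω ε := by
  haveI : IsPretransitive G Ω := hprim.toIsPretransitive
  apply Subgroup.eq_of_le_of_card_ge (K_le_of_rel hprim hep hω hδε)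
  obtain ⟨g, rfl⟩ := exists_smul_eq G δ ε
  rw [card_K_smul]

lemma isBlock_K : IsBlock G {δ : Ω | K G α ω δ = K G α ω α} := by
  rw [isBlock_iff_smul_eq_of_mem]
  intro g δ hδ hgδ
  simp only [Set.mem_setOf_eq] at hδ hgδ
  rw [K_smul, hδ] at hgδ
  ext τ
  rw [Set.mem_smul_set_iff_inv_smul_mem]
  simp only [Set.mem_setOf_eq]
  have h1 : K G α ω τ = (K G α ω (g⁻¹ • τ)).map (MulAut.conj g).toMonoidHom := by
    rw [← K_smul, smul_inv_smul]
  constructor
  · intro h
    rw [h1, h, hgδ]
  · intro h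
    rw [h1, ← hgδ] at h
    exact Subgroup.map_injective (MulAut.conj g).injective h

lemma K_eq_bot [Finite G] [Fintype Ω] [FaithfulSMul G Ω] (hprim : IsPreprimitive G Ω)
    (hep : ∀ (α ω : Ω), IsPreprimitive (stabilizer G α) (orbit (stabilizer G α) ω))
    (hω : ω ≠ α) : K G α ω α = ⊥ := by
  have hB := isBlock_K (G := G) (α := α) (ω := ω)
  have huniv : {δ : Ω | K G α ω δ = K G α ω α} = Set.univ := by
    rcases hB.subsingleton_or_eq_univ with hsub | huniv
    · exfalso
      apply hω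
      apply hsub
      · simp only [Set.mem_setOf_eq]
        exact (K_eq_of_rel hprim hep hω rel_self).symm
      · simp only [Set.mem_setOf_eq]
    · exact huniv
  rw [eq_bot_iff]
  intro x hx
  rw [Subgroup.mem_bot]
  apply FaithfulSMul.eq_of_smul_eq_smul (α := Ω)
  intro δ
  rw [one_smul]
  have : δ ∈ {δ : Ω | K G α ω δ = K G α ω α} := by rw [huniv]; trivial
  simp only [Set.mem_setOf_eq] at this
  rw [← this] at hx
  exact hx.1

end

/-- Manning's Theorem on extremely primitive groups. Let a finite group G act faithfully and primitively on a finite set Ω with non-trivial point stabilizers, and suppose every point stabilizer G_α acts primitively on each of its orbits. Then G_α acts faithfully on each of its orbits other than {α}: an element of G_α fixing every point of one such orbit is the identity. -/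
theorem result {G : Type*} [Group G] [Finite G] {Ω : Type*} [Fintype Ω] [MulAction G Ω] [FaithfulSMul G Ω] (hprim : MulAction.IsPreprimitive G Ω) (hH : ∀ α : Ω, MulAction.stabilizer G α ≠ ⊥) (hep : ∀ (α : Ω) (ω : Ω), MulAction.IsPreprimitive (MulAction.stabilizer G α) (MulAction.orbit (MulAction.stabilizer G α) ω))
    (α ω : Ω) (hω : ω ≠ α) (h : MulAction.stabilizer G α) (hfix : ∀ x ∈ MulAction.orbit (MulAction.stabilizer G α) ω, h • x = x) : h = 1 := by
  have hK := K_eq_bot (G := G) (α := α) (ω := ω) hprim hep hω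
  have hh : h.1 ∈ K G α ω α := by
    rw [mem_K]
    refine ⟨h.2, fun ε hε => ?_⟩
    obtain ⟨g, hg1, hg2⟩ := hε
    have : ε ∈ MulAction.orbit (MulAction.stabilizer G α) ω := ⟨⟨g, hg1⟩, hg2⟩
    exact hfix ε this
  rw [hK, Subgroup.mem_bot] at hh
  exact Subtype.ext hh

end Cfsg.Agent.S3494
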