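import Cfsg.Statements.S3497
import Cfsg.Agent.S3494
import Cfsg.Agent.Lib.Helper19.Derangement
import Cfsg.Agent.Lib.Helper1.Cores
import Mathlib

set_option autoImplicit false
open Cfsg

namespace Cfsg.Agent.S3497

open MulAction

section PartA
variable {H : Type*} [Group H] {X : Type*} [MulAction H X] [FaithfulSMul H X]

/-- a subgroup acting trivially is trivial -/
lemma eq_one_of_forall_smul {a : H} (h : ∀ x : X, a • x = x) : a = 1 := by
  apply FaithfulSMul.eq_of_smul_eq_smul (α := X)
  intro x
  rw [h x, one_smul]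

variable [IsPreprimitive H X]

/-- An abelian normal nontrivial subgroup of a faithful primitive group is transitive. -/
lemma abelian_normal_transitive (A : Subgroup H) [hn : A.Normal] (hA : A ≠ ⊥) (x y : X) :
    ∃ a ∈ A, a • x = y := by
  have hfix : fixedPoints A X ≠ Set.univ := by
    intro h
    apply hA
    rw [eq_bot_iff]
    intro a ha
    rw [Subgroup.mem_bot]
    apply eq_one_of_forall_smul (X := X)
    intro x
    have : x ∈ fixedPoints A X := by rw [h]; trivial
    rw [mem_fixedPoints] at this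
    exact this ⟨a, ha⟩
  haveI : IsPretransitive A X := IsQuasiPreprimitive.isPretransitive_of_normal hfix
  obtain ⟨a, ha⟩ := exists_smul_eq A x y
  exact ⟨a.1, a.2, ha⟩

/-- An abelian normal nontrivial subgroup of a faithful primitive group is semiregular. -/
lemma abelian_normal_free (A : Subgroup H) [hn : A.Normal] (hA : A ≠ ⊥)
    (hc : ∀ a ∈ A, ∀ b ∈ A, a * b = b * a) {a : H} (ha : a ∈ A) {x : X} (hx : a • x = x) : a = 1 := by
  apply eq_one_of_forall_smul (X := X)
  intro y
  obtain ⟨b, hb, rfl⟩ := abelian_normal_transitive A hA x y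
  rw [← mul_smul, hc a ha b hb, mul_smul, hx]

/-- An abelian normal nontrivial subgroup of a faithful primitive group is self-centralizing. -/
lemma centralizer_le_of_abelian_normal {H : Type*} [Group H] (X : Type*) [MulAction H X]
    [FaithfulSMul H X] [IsPreprimitive H X] (A : Subgroup H) [hn : A.Normal] (hA : A ≠ ⊥)
    (hcomm : ∀ a ∈ A, ∀ b ∈ A, a * b = b * a)
    {c : H} (hc : ∀ a ∈ A, c * a = a * c) : c ∈ A := by
  have hne : Nonempty X := by
    by_contra h
    rw [not_nonempty_iff] at h
    apply hA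
    rw [eq_bot_iff]
    intro a _
    rw [Subgroup.mem_bot]
    apply eq_one_of_forall_smul (X := X)
    intro x
    exact (h.false x).elim
  obtain ⟨x⟩ := hne
  obtain ⟨a, ha, hax⟩ := abelian_normal_transitive A hA x (c • x)
  have h1 : a⁻¹ * c = 1 := by
    apply eq_one_of_forall_smul (X := X)
    intro y
    obtain ⟨b, hb, rfl⟩ := abelian_normal_transitive A hA x y
    have h2 : a⁻¹ * c * b = b * (a⁻¹ * c) := by
      rw [mul_assoc, hc b hb, ← mul_assoc, ← mul_assoc, hcomm a⁻¹ (A.inv_mem ha) b hb]
    rw [← mul_smul, h2, mul_smul, mul_smul, ← hax, inv_smul_smul]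
  rw [inv_mul_eq_one] at h1
  rw [← h1]
  exact ha

/-- A faithful primitive group with nontrivial center has prime order. -/
lemma prime_card_of_center_ne_bot {H : Type*} [Group H] (X : Type*) [MulAction H X]
    [FaithfulSMul H X] [IsPreprimitive H X] [Finite H] (hZ : Subgroup.center H ≠ ⊥) : (Nat.card H).Prime := by
  have hcomm : ∀ a ∈ Subgroup.center H, ∀ b ∈ Subgroup.center H, a * b = b * a := by
    intro a ha b _
    exact (Subgroup.mem_center_iff.mp ha b).symm
  have hall : ∀ c : H, c ∈ Subgroup.center H := by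
    intro c
    apply centralizer_le_of_abelian_normal X (Subgroup.center H) hZ hcomm
    intro a ha
    exact Subgroup.mem_center_iff.mp ha c
  -- every stabilizer is trivial
  have hstab : ∀ x : X, stabilizer H x = ⊥ := by
    intro x
    rw [eq_bot_iff]
    intro a ha
    rw [Subgroup.mem_bot]
    exact abelian_normal_free (Subgroup.center H) hZ hcomm (hall a) (mem_stabilizer_iff.mp ha)
  have hnt : Nontrivial H := by
    rw [← not_subsingleton_iff_nontrivial]
    intro hs
    apply hZ
    exact Subsingleton.elim _ _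
  -- a prime order element generates
  obtain ⟨p, hp, hpd⟩ := Nat.exists_prime_and_dvd (Finite.one_lt_card (α := H)).ne'
  haveI : Fact p.Prime := ⟨hp⟩
  obtain ⟨z, hz⟩ := exists_prime_orderOf_dvd_card' p hpd
  have hz1 : z ≠ 1 := by
    rintro rfl
    rw [orderOf_one] at hz
    exact hp.one_lt.ne hz
  -- X is nontrivial
  have hX : Nontrivial X := by
    by_contra h
    rw [not_nontrivial_iff_subsingleton] at h
    apply hz1
    apply eq_one_of_forall_smul (X := X)
    intro x
    exact Subsingleton.elim _ _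
  obtain ⟨x⟩ := (inferInstance : Nonempty X)
  have hco := IsPreprimitive.isCoatom_stabilizer_of_isPreprimitive (G := H) x
  rw [hstab x] at hco
  have htop : Subgroup.zpowers z = ⊤ := by
    by_contra hne
    have := hco.2 (Subgroup.zpowers z) (bot_lt_iff_ne_bot.mpr (by
      rw [Ne, Subgroup.zpowers_eq_bot]; exact hz1))
    exact hne this
  have : Nat.card (Subgroup.zpowers z) = Nat.card H := by
    rw [htop, Subgroup.card_top]
  rw [← this, Nat.card_zpowers, hz]
  exact hp

end PartA

section Fitting
open Cfsg.Agent.Lib.Helper1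

/-- the subgroup of elements of order dividing `p` in an abelian subgroup -/
def omegaSub {H : Type*} [Group H] (F : Subgroup H) (hcomm : ∀ a ∈ F, ∀ b ∈ F, a * b = b * a)
    (p : ℕ) : Subgroup H where
  carrier := {x | x ∈ F ∧ x ^ p = 1}
  one_mem' := ⟨F.one_mem, one_pow _⟩
  mul_mem' := by
    rintro x y ⟨hx, hx'⟩ ⟨hy, hy'⟩
    refine ⟨F.mul_mem hx hy, ?_⟩
    have hc : Commute x y := hcomm x hx y hy
    rw [hc.mul_pow, hx', hy', one_mul]
  inv_mem' := by
    rintro x ⟨hx, hx'⟩
    exact ⟨F.inv_mem hx, by rw [inv_pow, hx', inv_one]⟩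

lemma fitting_facts {H : Type*} [Group H] [Finite H] (X : Type*) [MulAction H X]
    [FaithfulSMul H X] [IsPreprimitive H X] (hF : fittingSubgroup H ≠ ⊥) :
    (∀ a ∈ fittingSubgroup H, ∀ b ∈ fittingSubgroup H, a * b = b * a) ∧
    (∀ c : H, (∀ a ∈ fittingSubgroup H, c * a = a * c) → c ∈ fittingSubgroup H) ∧
    ∃ p : ℕ, p.Prime ∧ ∀ x ∈ fittingSubgroup H, x ^ p = 1 := by
  set F := fittingSubgroup H with hFdef
  haveI hFn : F.Normal := fittingSubgroup_normal
  haveI hFnil : Group.IsNilpotent F := fittingSubgroup_isNilpotent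
  haveI hFnt : Nontrivial F := by
    rw [Subgroup.nontrivial_iff_ne_bot]
    exact hF
  -- the centre
  set Z : Subgroup H := F ⊓ Subgroup.centralizer (F : Set H) with hZdef
  haveI hZn : Z.Normal := by
    rw [hZdef]
    infer_instance
  have hZ : Z ≠ ⊥ := by
    have h1 := Group.IsNilpotent.center_ne_bot (G := F)
    rw [Ne, Subgroup.eq_bot_iff_forall, not_forall] at h1
    obtain ⟨z, hz⟩ := h1
    rw [Classical.not_imp] at hz
    intro hZ
    apply hz.2
    have : z.1 ∈ Z := by
      rw [hZdef, Subgroup.mem_inf]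
      refine ⟨z.2, ?_⟩
      rw [Subgroup.mem_centralizer_iff]
      intro f hf
      have := Subgroup.mem_center_iff.mp hz.1 ⟨f, hf⟩
      exact congrArg Subtype.val this
    rw [hZ, Subgroup.mem_bot] at this
    exact Subtype.ext this
  have hZcomm : ∀ a ∈ Z, ∀ b ∈ Z, a * b = b * a := by
    intro a ha b hb
    rw [hZdef, Subgroup.mem_inf] at ha hb
    exact (Subgroup.mem_centralizer_iff.mp hb.2 a ha.1)
  have hFZ : F ≤ Z := by
    intro f hf
    apply centralizer_le_of_abelian_normal X Z hZ hZcomm
    intro z hz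
    rw [hZdef, Subgroup.mem_inf] at hz
    exact (Subgroup.mem_centralizer_iff.mp hz.2 f hf)
  have hcomm : ∀ a ∈ F, ∀ b ∈ F, a * b = b * a := fun a ha b hb => hZcomm a (hFZ ha) b (hFZ hb)
  refine ⟨hcomm, ?_, ?_⟩
  · intro c hc
    exact centralizer_le_of_abelian_normal X F hF hcomm hc
  · have hcard : Nat.card F ≠ 1 := by
      intro h
      rw [Subgroup.card_eq_one] at h
      exact hF h
    obtain ⟨p, hp, hpd⟩ := Nat.exists_prime_and_dvd hcard
    haveI : Fact p.Prime := ⟨hp⟩
    refine ⟨p, hp, ?_⟩
    set P := omegaSub F hcomm p with hPdef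
    have hPmem : ∀ x, x ∈ P ↔ x ∈ F ∧ x ^ p = 1 := fun x => Iff.rfl
    haveI hPn : P.Normal := by
      constructor
      intro x hx h
      rw [hPmem] at hx ⊢
      refine ⟨hFn.conj_mem x hx.1 h, ?_⟩
      rw [conj_pow, hx.2, mul_one, mul_inv_cancel]
    have hP : P ≠ ⊥ := by
      obtain ⟨z, hz⟩ := exists_prime_orderOf_dvd_card' (G := F) p hpd
      intro hP
      have : z.1 ∈ P := by
        rw [hPmem]
        refine ⟨z.2, ?_⟩
        have := pow_orderOf_eq_one z
        rw [hz] at this
        exact congrArg Subtype.val this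
      rw [hP, Subgroup.mem_bot] at this
      have hz1 : z = 1 := Subtype.ext this
      rw [hz1, orderOf_one] at hz
      exact hp.one_lt.ne hz
    have hPcomm : ∀ a ∈ P, ∀ b ∈ P, a * b = b * a := fun a ha b hb =>
      hcomm a ((hPmem a).mp ha).1 b ((hPmem b).mp hb).1
    intro x hx
    have : x ∈ P := by
      apply centralizer_le_of_abelian_normal X P hP hPcomm
      intro a ha
      exact hcomm x hx a ((hPmem a).mp ha).1
    exact ((hPmem x).mp this).2

end Fitting

section Counting
open Cfsg.Agent.Lib.Helper19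

lemma card_dvd_card_sub_one_of_free {A X : Type*} [Group A] [Finite A] [MulAction A X] [Finite X]
    (x₀ : X) (hfix : ∀ a : A, a • x₀ = x₀)
    (hfree : ∀ a : A, ∀ x : X, x ≠ x₀ → a • x = x → a = 1) :
    Nat.card A ∣ Nat.card X - 1 := by
  classical
  haveI := Fintype.ofFinite A
  have hB := burnside_natCard A X
  have h1 : Nat.card (fixedBy X (1 : A)) = Nat.card X := by
    have : fixedBy X (1 : A) = Set.univ := by
      ext x; simp
    rw [this, Nat.card_coe_set_eq, Set.ncard_univ]
  have h2 : ∀ a : A, a ≠ 1 → Nat.card (fixedBy X a) = 1 := by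
    intro a ha
    have : fixedBy X a = {x₀} := by
      ext x
      simp only [mem_fixedBy, Set.mem_singleton_iff]
      constructor
      · intro hx
        by_contra hne
        exact ha (hfree a x hne hx)
      · rintro rfl
        exact hfix a
    rw [this, Nat.card_coe_set_eq, Set.ncard_singleton]
  rw [← Finset.add_sum_erase Finset.univ _ (Finset.mem_univ (1 : A)), h1] at hB
  have h3 : ∑ a ∈ Finset.univ.erase (1 : A), Nat.card (fixedBy X a) = Nat.card A - 1 := by
    rw [Finset.sum_congr rfl (fun a ha => h2 a (Finset.ne_of_mem_erase ha))]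
    simp [Nat.card_eq_fintype_card]
  rw [h3] at hB
  have hApos : 0 < Nat.card A := Nat.card_pos
  have hXpos : 0 < Nat.card X := Nat.card_pos_iff.mpr ⟨⟨x₀⟩, inferInstance⟩
  have h4 : Nat.card X - 1 = Nat.card (orbitRel.Quotient A X) * Nat.card A - Nat.card A := by
    omega
  rw [h4]
  exact Nat.dvd_sub (Dvd.intro_left _ rfl) (dvd_refl _)

end Counting

section GLhom

theorem exists_hom_GL_aux (p : ℕ) [Fact p.Prime] {H A : Type*} [Group H] [CommGroup A] [Finite A]
    [Module (ZMod p) (Additive A)] (e : ℕ) (hcard : Nat.card A = p ^ e) (c : H →* MulAut A) :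
    ∃ φ : H →* GL (Fin e) (ZMod p), φ.ker = c.ker := by
  have hfr : Module.finrank (ZMod p) (Additive A) = e := by
    have h1 := Module.natCard_eq_pow_finrank (K := ZMod p) (V := Additive A)
    rw [Nat.card_zmod] at h1
    have h2 : Nat.card (Additive A) = Nat.card A := rfl
    rw [h2, hcard] at h1
    exact (Nat.pow_right_injective (Fact.out : p.Prime).two_le h1).symm
  let b := Module.finBasisOfFinrankEq (ZMod p) (Additive A) hfr
  let ψ0 : MulAut A →* Module.End (ZMod p) (Additive A) :=
    { toFun := fun σ => (MonoidHom.toAdditive σ.toMonoidHom).toZModLinearMap p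
      map_one' := by ext; rfl
      map_mul' := by intros; ext; rfl }
  have hψ0 : Function.Injective ψ0 := by
    intro σ τ h
    ext a
    have := LinearMap.congr_fun h (Additive.ofMul a)
    exact this
  let ψ : MulAut A →* GL (Fin e) (ZMod p) :=
    (Units.map (LinearMap.toMatrixAlgEquiv b).toMonoidHom).comp ψ0.toHomUnits
  have hψ : Function.Injective ψ := by
    intro σ τ h
    have h1 : (ψ σ : Matrix (Fin e) (Fin e) (ZMod p)) = ψ τ := by rw [h]
    have h2 : LinearMap.toMatrixAlgEquiv b (ψ0 σ) = LinearMap.toMatrixAlgEquiv b (ψ0 τ) := h1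
    exact hψ0 ((LinearMap.toMatrixAlgEquiv b).injective h2)
  refine ⟨ψ.comp c, ?_⟩
  rw [← MonoidHom.comap_ker, (MonoidHom.ker_eq_bot_iff ψ).mpr hψ, MonoidHom.comap_bot]

lemma exists_hom_GL {H : Type*} [Group H] (F : Subgroup H) [hn : F.Normal] [Finite F] (p e : ℕ)
    (hp : p.Prime) (hcomm : ∀ a ∈ F, ∀ b ∈ F, a * b = b * a) (hexp : ∀ x ∈ F, x ^ p = 1)
    (hcard : Nat.card F = p ^ e) :
    ∃ φ : H →* GL (Fin e) (ZMod p), φ.ker = Subgroup.centralizer (F : Set H) := by
  haveI : Fact p.Prime := ⟨hp⟩
  letI : CommGroup F :=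
    { (inferInstance : Group F) with mul_comm := fun a b => Subtype.ext (hcomm a a.2 b b.2) }
  have hV : ∀ x : Additive F, p • x = 0 := by
    intro x
    have h1 := hexp (Additive.toMul x).1 (Additive.toMul x).2
    have h2 : (Additive.toMul x) ^ p = 1 := Subtype.ext h1
    exact congrArg Additive.ofMul h2
  obtain ⟨φ, hφ⟩ := @exists_hom_GL_aux p _ H F _ _ _ (AddCommGroup.zmodModule hV) e hcard
    (MulAut.conjNormal)
  refine ⟨φ, ?_⟩
  rw [hφ]
  ext x
  rw [MonoidHom.mem_ker, Subgroup.mem_centralizer_iff]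
  constructor
  · intro hx f hf
    have h1 := MulEquiv.congr_fun hx ⟨f, hf⟩
    have h2 : x * f * x⁻¹ = f := by
      have := congrArg Subtype.val h1
      simpa [MulAut.conjNormal_apply] using this
    exact (mul_inv_eq_iff_eq_mul.mp h2).symm
  · intro hx
    ext f
    rw [MulAut.conjNormal_apply]
    simp only [MulAut.one_apply]
    rw [← hx f.1 f.2]
    group

end GLhom

section Main

lemma manning {G : Type*} [Group G] [Finite G] {Ω : Type*} [Fintype Ω] [MulAction G Ω]
    [FaithfulSMul G Ω] (hprim : IsPreprimitive G Ω)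
    (hep : ∀ (α : Ω) (ω : Ω), IsPreprimitive (stabilizer G α) (orbit (stabilizer G α) ω))
    (α ω : Ω) (hω : ω ≠ α) (h : stabilizer G α)
    (hfix : ∀ x ∈ orbit (stabilizer G α) ω, h • x = x) : h = 1 := by
  have hK := Cfsg.Agent.S3494.K_eq_bot (G := G) (α := α) (ω := ω) hprim hep hω
  have hh : h.1 ∈ Cfsg.Agent.S3494.K G α ω α := by
    rw [Cfsg.Agent.S3494.mem_K]
    refine ⟨h.2, fun ε hε => ?_⟩
    obtain ⟨g, hg1, hg2⟩ := hε
    have : ε ∈ orbit (stabilizer G α) ω := ⟨⟨g, hg1⟩, hg2⟩
    exact hfix ε this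
  rw [hK, Subgroup.mem_bot] at hh
  exact Subtype.ext hh

end Main

/-- Restrictions on the point stabilizer of an extremely primitive group. Let a finite group G act faithfully and primitively on a finite set Ω with point stabilizers H = G_α whose order is neither 1 nor a prime, each acting primitively on every one of its orbits. Then H has trivial center, the Fitting subgroup F(H) is an elementary abelian p-group for some prime p, and if F(H) ≠ 1 has order p ^ e then p ^ e divides the number of points minus one and H / F(H) embeds in GL_e(p) (there is a homomorphism from H to GL_e(p) with kernel exactly F(H)). -/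
theorem result {G : Type*} [Group G] [Finite G] {Ω : Type*} [Fintype Ω] [MulAction G Ω] [FaithfulSMul G Ω] (hprim : MulAction.IsPreprimitive G Ω) (hep : ∀ (α : Ω) (ω : Ω), MulAction.IsPreprimitive (MulAction.stabilizer G α) (MulAction.orbit (MulAction.stabilizer G α) ω)) (α : Ω)
    (hH1 : MulAction.stabilizer G α ≠ ⊥) (hHp : ¬ (Nat.card (MulAction.stabilizer G α)).Prime) :
    Subgroup.center (MulAction.stabilizer G α) = ⊥ ∧
    IsMulCommutative (Cfsg.fittingSubgroup (MulAction.stabilizer G α)) ∧
    ∃ p e : ℕ, p.Prime ∧ Nat.card (Cfsg.fittingSubgroup (MulAction.stabilizer G α)) = p ^ e ∧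
      (∀ x ∈ Cfsg.fittingSubgroup (MulAction.stabilizer G α), x ^ p = 1) ∧
      (Cfsg.fittingSubgroup (MulAction.stabilizer G α) ≠ ⊥ →
        p ^ e ∣ Fintype.card Ω - 1 ∧
        ∃ φ : MulAction.stabilizer G α →* GL (Fin e) (ZMod p), φ.ker = Cfsg.fittingSubgroup (MulAction.stabilizer G α)) := by
  -- a point different from α
  obtain ⟨ω, hω⟩ : ∃ ω : Ω, ω ≠ α := by
    by_contra hcon
    push Not at hcon
    apply hH1
    rw [eq_bot_iff]
    intro g hg
    rw [Subgroup.mem_bot]
    apply FaithfulSMul.eq_of_smul_eq_smul (α := Ω)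
    intro x
    rw [hcon x, one_smul]
    exact hg
  have hfaith : ∀ ω' : Ω, ω' ≠ α →
      FaithfulSMul (stabilizer G α) (orbit (stabilizer G α) ω') := by
    intro ω' hω'
    constructor
    intro h₁ h₂ hh
    have : h₂⁻¹ * h₁ = 1 := by
      apply manning hprim hep α ω' hω' (h₂⁻¹ * h₁)
      intro x hx
      have h3 : h₁ • x = h₂ • x := congrArg Subtype.val (hh ⟨x, hx⟩)
      rw [mul_smul, h3, inv_smul_smul]
    exact (inv_mul_eq_one.mp this).symm
  haveI := hfaith ω hω
  haveI := hep α ω
  refine ⟨?_, ?_⟩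
  · by_contra hZ
    exact hHp (prime_card_of_center_ne_bot (orbit (stabilizer G α) ω) hZ)
  · by_cases hF : fittingSubgroup (stabilizer G α) = ⊥
    · refine ⟨⟨⟨fun a b => ?_⟩⟩, 2, 0, Nat.prime_two, ?_, ?_, fun h => (h hF).elim⟩
      · have ha : (a : stabilizer G α) = 1 := Subgroup.mem_bot.mp (hF.le a.2)
        have hb : (b : stabilizer G α) = 1 := Subgroup.mem_bot.mp (hF.le b.2)
        apply Subtype.ext
        rw [Subgroup.coe_mul, Subgroup.coe_mul, ha, hb]
      · rw [hF]; simp
      · intro x hx
        rw [hF, Subgroup.mem_bot] at hx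
        rw [hx, one_pow]
    · obtain ⟨hcomm, hcent, p, hp, hexp⟩ := fitting_facts (orbit (stabilizer G α) ω) hF
      refine ⟨⟨⟨fun a b => Subtype.ext (hcomm a a.2 b b.2)⟩⟩, ?_⟩
      haveI : Fact p.Prime := ⟨hp⟩
      have hPG : IsPGroup p (fittingSubgroup (stabilizer G α)) := by
        intro x
        refine ⟨1, ?_⟩
        rw [pow_one]
        exact Subtype.ext (hexp x.1 x.2)
      obtain ⟨e, he⟩ := IsPGroup.iff_card.mp hPG
      haveI hFn : (fittingSubgroup (stabilizer G α)).Normal :=
        Cfsg.Agent.Lib.Helper1.fittingSubgroup_normal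
      refine ⟨p, e, hp, he, hexp, fun _ => ⟨?_, ?_⟩⟩
      · rw [← he, ← Nat.card_eq_fintype_card]
        apply card_dvd_card_sub_one_of_free (A := fittingSubgroup (stabilizer G α)) (X := Ω) α
        · intro a
          exact a.1.2
        · intro a x hx hax
          haveI := hfaith x hx
          haveI := hep α x
          have hax' : a.1 • (⟨x, mem_orbit_self x⟩ : orbit (stabilizer G α) x) =
              ⟨x, mem_orbit_self x⟩ := Subtype.ext hax
          have := abelian_normal_free (fittingSubgroup (stabilizer G α)) hF hcomm a.2 hax'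
          exact Subtype.ext this
      · obtain ⟨φ, hφ⟩ := exists_hom_GL (fittingSubgroup (stabilizer G α)) p e hp hcomm hexp he
        refine ⟨φ, ?_⟩
        rw [hφ]
        apply le_antisymm
        · intro c hc
          apply hcent c
          intro a ha
          exact (Subgroup.mem_centralizer_iff.mp hc a ha).symm
        · intro c hc
          rw [Subgroup.mem_centralizer_iff]
          intro a ha
          exact hcomm a ha c hc

end Cfsg.Agent.S3497
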