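import Cfsg.Statements.S0684
import Cfsg.Agent.Lib.Helper19.FpfAbelian2
import Cfsg.Agent.S3497

set_option autoImplicit false
open Cfsg

namespace Cfsg.Agent.S0684

open Cfsg.Agent.Lib.Helper19 Module

variable {p : ℕ} [Fact p.Prime] {V : Type*} [AddCommGroup V] [Module (ZMod p) V]

/-- a linear automorphism as an automorphism of the multiplicative version of `V` -/
def toMulAut (H : Subgroup (V ≃ₗ[ZMod p] V)) (A : Subgroup H) : A →* MulAut (Multiplicative V) where
  toFun a := AddEquiv.toMultiplicative (((a : H) : V ≃ₗ[ZMod p] V).toAddEquiv)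
  map_one' := by ext v; rfl
  map_mul' a b := by ext v; rfl

theorem toMulAut_apply (H : Subgroup (V ≃ₗ[ZMod p] V)) (A : Subgroup H) (a : A) (v : V) :
    toMulAut H A a (Multiplicative.ofAdd v) = Multiplicative.ofAdd (((a : H) : V ≃ₗ[ZMod p] V) v) :=
  rfl

/-- an abelian group of linear maps acting semiregularly on the non-zero vectors is cyclic -/
theorem isCyclic_of_semiregular [Finite V] [Nontrivial V] (H : Subgroup (V ≃ₗ[ZMod p] V))
    (hfree : ∀ h : H, ∀ v : V, v ≠ 0 → (h : V ≃ₗ[ZMod p] V) v = v → h = 1)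
    (A : Subgroup H) (hAc : IsMulCommutative A) : IsCyclic A := by
  classical
  have hp : p.Prime := Fact.out
  haveI : Finite H := by
    apply Finite.of_injective (fun h : H => ((h : V ≃ₗ[ZMod p] V) : V → V))
    intro h h' hh
    apply Subtype.ext
    apply DFunLike.coe_injective
    exact hh
  letI : CommGroup A := { (inferInstance : Group A) with mul_comm := hAc.is_comm.comm }
  -- `|A|` divides `|V| - 1`
  have hdvd : Nat.card A ∣ Nat.card V - 1 := by
    letI : MulAction A V :=
      { smul := fun a v => ((a : H) : V ≃ₗ[ZMod p] V) v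
        one_smul := fun v => rfl
        mul_smul := fun a b v => rfl }
    apply Cfsg.Agent.S3497.card_dvd_card_sub_one_of_free (0 : V)
    · intro a
      exact map_zero _
    · intro a v hv hav
      have := hfree (a : H) v hv hav
      exact Subtype.ext this
  have hVcard : Nat.card V = p ^ finrank (ZMod p) V := by
    rw [Module.natCard_eq_pow_finrank (K := ZMod p) (V := V), Nat.card_zmod]
  have hcop : ¬ p ∣ Nat.card A := by
    intro hpd
    have h1 : p ∣ Nat.card V - 1 := hpd.trans hdvd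
    have hpos : 0 < finrank (ZMod p) V := Module.finrank_pos
    have h2 : p ∣ Nat.card V := by
      rw [hVcard]; exact dvd_pow_self p hpos.ne'
    have h3 : 1 ≤ Nat.card V := Nat.card_pos
    have h4 : p ∣ 1 := by
      have := Nat.dvd_sub h2 h1
      rwa [Nat.sub_sub_self h3] at this
    exact hp.one_lt.ne' (Nat.dvd_one.mp h4)
  apply isCyclic_of_prime_torsion
  intro q hq a b ha hb ha1
  haveI : Fact q.Prime := ⟨hq⟩
  have hqp : q ≠ p := by
    rintro rfl
    apply hcop
    have hord := orderOf_eq_prime ha ha1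
    have hd := orderOf_dvd_natCard a
    rw [hord] at hd
    exact hd
  refine fpf_abelian_cyclic (toMulAut H A) q ?_ ?_ a b (mul_comm a b) ha hb ha1
  · intro t v htv
    by_cases hv : v = 1
    · right; exact hv
    · left
      have hv0 : Multiplicative.toAdd v ≠ 0 := fun h0 => hv (by
        rw [← ofAdd_toAdd v, h0]; rfl)
      have := hfree (t : H) (Multiplicative.toAdd v) hv0 (by
        have h1 := toMulAut_apply H A t (Multiplicative.toAdd v)
        rw [ofAdd_toAdd, htv] at h1
        exact (Multiplicative.ofAdd.injective h1).symm)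
      exact Subtype.ext this
  · intro v hv
    have h1 : q • Multiplicative.toAdd v = 0 := by
      have := congrArg Multiplicative.toAdd hv
      rwa [toAdd_pow, toAdd_one] at this
    have h2 : ((q : ℕ) : ZMod p) • Multiplicative.toAdd v = 0 := by
      rw [Nat.cast_smul_eq_nsmul]; exact h1
    have hq0 : ((q : ℕ) : ZMod p) ≠ 0 := by
      rw [Ne, ZMod.natCast_eq_zero_iff]
      intro hd
      exact hqp ((Nat.prime_dvd_prime_iff_eq hp hq).mp hd).symm
    have h3 := (smul_eq_zero.mp h2).resolve_left hq0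
    rw [← ofAdd_toAdd v, h3]; rfl

/-- Point stabiliser of a sharply doubly transitive group not of semilinear type: a maximal normal abelian subgroup `A` of a linear group `H` that is regular on non-zero vectors and has no irreducible cyclic normal subgroup is cyclic and reducible, and the order of `A` divides `p ^ k - 1` for `k` the dimension of a minimal `A`-invariant subspace. -/
theorem result {p : ℕ} [Fact p.Prime] {V : Type*} [AddCommGroup V] [Module (ZMod p) V] [Finite V] (H : Subgroup (V ≃ₗ[ZMod p] V)) (hreg : ∀ v w : V, v ≠ 0 → w ≠ 0 → ∃! h : H, (h : V ≃ₗ[ZMod p] V) v = w) (hI : ∀ A : Subgroup H, A.Normal → IsCyclic A → ∃ W : Submodule (ZMod p) V, W ≠ ⊥ ∧ W ≠ ⊤ ∧ ∀ a ∈ A, ∀ v ∈ W, ((a : H) : V ≃ₗ[ZMod p] V) v ∈ W) (A : Subgroup H) (hAn : A.Normal) (hAc : IsMulCommutative A) (hAmax : ∀ B : Subgroup H, B.Normal → IsMulCommutative B → A ≤ B → B = A) : IsCyclic A ∧ ∃ W : Submodule (ZMod p) V, W ≠ ⊥ ∧ W ≠ ⊤ ∧ (∀ a ∈ A, ∀ v ∈ W, ((a : H) : V ≃ₗ[ZMod p] V) v ∈ W) ∧ (∀ W' : Submodule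 (ZMod p) V, W' ≤ W → (∀ a ∈ A, ∀ v ∈ W', ((a : H) : V ≃ₗ[ZMod p] V) v ∈ W') → W' = ⊥ ∨ W' = W) ∧ Nat.card A ∣ p ^ Module.finrank (ZMod p) W - 1 := by
  classical
  have hfree : ∀ h : H, ∀ v : V, v ≠ 0 → (h : V ≃ₗ[ZMod p] V) v = v → h = 1 := by
    intro h v hv hhv
    obtain ⟨h₀, -, huniq⟩ := hreg v v hv hv
    rw [huniq h hhv, huniq 1 rfl]
  -- `V` is non-trivial, since the bottom cyclic subgroup is reducible
  obtain ⟨Wb, hWb, hWt, -⟩ := hI ⊥ inferInstance inferInstance
  haveI : Nontrivial V := by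
    by_contra hnt
    rw [not_nontrivial_iff_subsingleton] at hnt
    exact hWb (Subsingleton.elim _ _)
  have hcyc : IsCyclic A := isCyclic_of_semiregular H hfree A hAc
  refine ⟨hcyc, ?_⟩
  obtain ⟨W₀, hW₀b, hW₀t, hW₀inv⟩ := hI A hAn hcyc
  -- a minimal invariant subspace inside `W₀`
  let S : Set ℕ := {n | ∃ W : Submodule (ZMod p) V, W ≠ ⊥ ∧ W ≤ W₀ ∧
    (∀ a ∈ A, ∀ v ∈ W, ((a : H) : V ≃ₗ[ZMod p] V) v ∈ W) ∧ finrank (ZMod p) W = n}
  have hS : S.Nonempty := ⟨_, W₀, hW₀b, le_rfl, hW₀inv, rfl⟩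
  obtain ⟨W, hWb', hWle, hWinv, hWn⟩ := Nat.sInf_mem hS
  have hmin : ∀ W' : Submodule (ZMod p) V, W' ≤ W →
      (∀ a ∈ A, ∀ v ∈ W', ((a : H) : V ≃ₗ[ZMod p] V) v ∈ W') → W' = ⊥ ∨ W' = W := by
    intro W' hle hinv
    by_cases hb : W' = ⊥
    · left; exact hb
    · right
      apply Submodule.eq_of_le_of_finrank_le hle
      rw [hWn]
      exact Nat.sInf_le ⟨W', hb, hle.trans hWle, hinv, rfl⟩
  refine ⟨W, hWb', ?_, hWinv, hmin, ?_⟩
  · intro htop
    apply hW₀t
    rw [eq_top_iff, ← htop]
    exact hWle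
  · -- counting on `W`
    haveI : Finite H := by
      apply Finite.of_injective (fun h : H => ((h : V ≃ₗ[ZMod p] V) : V → V))
      intro h h' hh
      apply Subtype.ext
      apply DFunLike.coe_injective
      exact hh
    letI : MulAction A W :=
      { smul := fun a w => ⟨((a : H) : V ≃ₗ[ZMod p] V) w.1, hWinv a a.2 w.1 w.2⟩
        one_smul := fun w => rfl
        mul_smul := fun a b w => rfl }
    have hcard : Nat.card W = p ^ finrank (ZMod p) W := by
      rw [Module.natCard_eq_pow_finrank (K := ZMod p) (V := W), Nat.card_zmod]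
    rw [← hcard]
    apply Cfsg.Agent.S3497.card_dvd_card_sub_one_of_free (0 : W)
    · intro a
      apply Subtype.ext
      exact map_zero _
    · intro a w hw haw
      have hw0 : (w : V) ≠ 0 := fun h0 => hw (Subtype.ext h0)
      have := hfree (a : H) w.1 hw0 (congrArg Subtype.val haw)
      exact Subtype.ext this

end Cfsg.Agent.S0684
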