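import Cfsg.Statements.S3380
import Mathlib
import Cfsg.Agent.Lib.Helper4.CSC9
import Cfsg.Agent.Lib.Helper10.UniqueOrderP
import Cfsg.Agent.Lib.Helper1.NoncyclicAbelian

set_option autoImplicit false
open Cfsg

namespace Cfsg.Agent.S3380

/-! ### Group theory: a normal `C_p × C_p` -/

section grp

variable {G : Type*} [Group G]

/-- `Ω₁` of an abelian subgroup. -/
def omega (A : Subgroup G) (hA : ∀ a ∈ A, ∀ b ∈ A, a * b = b * a) (p : ℕ) : Subgroup G where
  carrier := {a | a ∈ A ∧ a ^ p = 1}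
  mul_mem' := by
    rintro a b ⟨ha, ha'⟩ ⟨hb, hb'⟩
    refine ⟨A.mul_mem ha hb, ?_⟩
    have hc : Commute a b := hA a ha b hb
    rw [hc.mul_pow, ha', hb', one_mul]
  one_mem' := ⟨A.one_mem, one_pow p⟩
  inv_mem' := by
    rintro a ⟨ha, ha'⟩
    exact ⟨A.inv_mem ha, by rw [inv_pow, ha', inv_one]⟩

theorem uniqueOrderP_of_abelian_cyclic [Finite G] (p : ℕ) [Fact p.Prime] (hG : IsPGroup p G)
    (hm : ∀ B : Subgroup G, IsMulCommutative B → IsCyclic B) :
    Cfsg.Agent.Lib.Helper10.UniqueOrderP p G := by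
  have hp := (Fact.out : p.Prime)
  intro x y hx hx1 hy
  haveI : Nontrivial G := ⟨⟨x, 1, hx1⟩⟩
  haveI := hG.center_nontrivial
  obtain ⟨⟨c, hc⟩, hc1'⟩ := exists_ne (1 : Subgroup.center G)
  have hc1 : c ≠ 1 := fun h => hc1' (Subtype.ext h)
  obtain ⟨k, hk⟩ := IsPGroup.iff_orderOf.mp hG c
  have hk0 : k ≠ 0 := by
    intro h0
    rw [h0, pow_zero, orderOf_eq_one_iff] at hk
    exact hc1 hk
  obtain ⟨j, rfl⟩ : ∃ j, k = j + 1 := ⟨k - 1, by omega⟩
  -- z0 of order p
  have hz0c : c ^ p ^ j ∈ Subgroup.center G := Subgroup.pow_mem _ hc _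
  have hz0p : (c ^ p ^ j) ^ p = 1 := by
    rw [← pow_mul, ← pow_succ, ← hk, pow_orderOf_eq_one]
  have hz01 : c ^ p ^ j ≠ 1 := by
    apply pow_ne_one_of_lt_orderOf (pow_pos hp.pos j).ne'
    rw [hk]
    exact Nat.pow_lt_pow_right hp.one_lt (Nat.lt_succ_self j)
  have hoz : orderOf (c ^ p ^ j) = p := orderOf_eq_prime hz0p hz01
  have hox : orderOf x = p := orderOf_eq_prime hx hx1
  -- abelian subgroups generated with the central element
  have key : ∀ u : G, ∃ B : Subgroup G, IsCyclic B ∧ c ^ p ^ j ∈ B ∧ u ∈ B := by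
    intro u
    have hcomm : ∀ a ∈ ({c ^ p ^ j, u} : Set G), ∀ b ∈ ({c ^ p ^ j, u} : Set G), a * b = b * a := by
      have hcz : ∀ g : G, g * c ^ p ^ j = c ^ p ^ j * g := Subgroup.mem_center_iff.mp hz0c
      intro a ha b hb
      rcases ha with rfl | rfl <;> rcases hb with rfl | rfl
      · rfl
      · exact (hcz _).symm
      · exact hcz _
      · rfl
    refine ⟨Subgroup.closure {c ^ p ^ j, u}, hm _ ?_, Subgroup.subset_closure (by simp),
      Subgroup.subset_closure (by simp)⟩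
    exact isMulCommutative_iff.mpr
      (fun a b => (Subgroup.closureCommGroupOfComm hcomm).mul_comm a b)
  obtain ⟨Bx, hBx, hzBx, hxBx⟩ := key x
  obtain ⟨By, hBy, hzBy, hyBy⟩ := key y
  have h1 : c ^ p ^ j ∈ Subgroup.zpowers x :=
    Cfsg.Agent.Lib.Helper10.mem_zpowers_of_orderOf_dvd' Bx hBx hzBx hxBx (by rw [hoz, hox])
  have h2 : y ∈ Subgroup.zpowers (c ^ p ^ j) :=
    Cfsg.Agent.Lib.Helper10.mem_zpowers_of_orderOf_dvd' By hBy hyBy hzBy
      (by rw [hoz]; exact orderOf_dvd_of_pow_eq_one hy)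
  exact (Subgroup.zpowers_le.mpr h1) h2

theorem exists_data [Finite G] (p : ℕ) [Fact p.Prime] (hG : IsPGroup p G)
    (hnc : ¬ IsCyclic G) (hnq : ∀ n : ℕ, ¬ Nonempty (G ≃* QuaternionGroup n))
    (hnd : ∀ n : ℕ, ¬ Nonempty (G ≃* DihedralGroup n)) (hnsd : ¬ Cfsg.IsQuasiDihedral G) :
    ∃ z e : G, z ∈ Subgroup.center G ∧ z ≠ 1 ∧ z ^ p = 1 ∧ e ^ p = 1 ∧ e ∉ Subgroup.zpowers z ∧
      ∀ g : G, g * e * g⁻¹ * e⁻¹ ∈ Subgroup.zpowers z := by
  have hp := (Fact.out : p.Prime)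
  obtain ⟨A, hAn, hAc, hAnc⟩ : ∃ A : Subgroup G, A.Normal ∧ IsMulCommutative A ∧ ¬ IsCyclic A := by
    by_contra hno
    have hn : ∀ A : Subgroup G, A.Normal → IsMulCommutative A → IsCyclic A := by
      intro A h1 h2
      by_contra h3
      exact hno ⟨A, h1, h2, h3⟩
    by_cases hm : ∃ B : Subgroup G, IsMulCommutative B ∧ ¬ IsCyclic B
    · obtain ⟨-, h | h | h⟩ := Cfsg.Agent.Helper4.CSC.pgroup_normal_abelian_cyclic p hG hn hm
      · obtain ⟨n, hn'⟩ := h
        exact hnq n hn'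
      · obtain ⟨n, -, hn'⟩ := h
        exact hnd n hn'
      · exact hnsd h
    · push Not at hm
      have hu := uniqueOrderP_of_abelian_cyclic p hG hm
      rcases Cfsg.Agent.Lib.Helper10.isCyclic_or_quaternion_of_uniqueOrderP hG hu with
        h | ⟨-, n, hn'⟩
      · exact hnc h
      · exact hnq _ hn'
  have hAcomm : ∀ a ∈ A, ∀ b ∈ A, a * b = b * a := fun a ha b hb =>
    congrArg Subtype.val (mul_comm' (⟨a, ha⟩ : A) ⟨b, hb⟩)
  haveI := hAc
  obtain ⟨p', hp', E0, hE0A, hE0exp, hE0card⟩ :=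
    Cfsg.Agent.Lib.Helper1.exists_exponent_prime_subgroup_of_not_isCyclic A hAnc
  have hpp : p' = p := by
    have h1lt : 1 < Nat.card E0 := lt_of_le_of_lt hp'.one_le hE0card
    haveI : Nontrivial E0 := (Finite.one_lt_card_iff_nontrivial).mp h1lt
    obtain ⟨⟨x, hx⟩, hx1'⟩ := exists_ne (1 : E0)
    have hx1 : x ≠ 1 := fun h => hx1' (Subtype.ext h)
    have h1 : x ^ p' = 1 := hE0exp x hx
    obtain ⟨k, hk⟩ := hG x
    haveI := Fact.mk hp'
    have hord : orderOf x = p' := orderOf_eq_prime h1 hx1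
    have hdvd : p' ∣ p ^ k := hord ▸ orderOf_dvd_of_pow_eq_one hk
    exact (Nat.prime_dvd_prime_iff_eq hp' hp).mp (hp'.dvd_of_dvd_pow hdvd)
  rw [hpp] at hE0exp hE0card
  haveI hΩn : (omega A hAcomm p).Normal := ⟨by
    rintro a ⟨ha, ha'⟩ g
    exact ⟨hAn.conj_mem a ha g, by rw [conj_pow, ha', mul_one, mul_inv_cancel]⟩⟩
  have hE0Ω : E0 ≤ omega A hAcomm p := fun x hx => ⟨hE0A hx, hE0exp x hx⟩
  have hΩcard : p < Nat.card (omega A hAcomm p) :=
    lt_of_lt_of_le hE0card (Subgroup.card_le_of_le hE0Ω)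
  have hΩ1 : omega A hAcomm p ≠ ⊥ := by
    intro h
    rw [h, Subgroup.card_bot] at hΩcard
    have := hp.one_lt
    omega
  obtain ⟨⟨z, hz⟩, hz1⟩ := (Subgroup.ne_bot_iff_exists_ne_one).mp
    (Cfsg.Agent.Lib.Helper10.normal_inf_center_ne_bot hG (omega A hAcomm p) hΩ1)
  obtain ⟨hzΩ, hzc⟩ := Subgroup.mem_inf.mp hz
  have hz1' : z ≠ 1 := fun h => hz1 (Subtype.ext h)
  have hzp : z ^ p = 1 := hzΩ.2
  haveI hZn : (Subgroup.zpowers z).Normal := ⟨fun n hn g => by
    have hncen : n ∈ Subgroup.center G := (Subgroup.zpowers_le.mpr hzc) hn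
    rw [Subgroup.mem_center_iff] at hncen
    have : g * n * g⁻¹ = n := by rw [hncen g, mul_inv_cancel_right]
    rw [this]
    exact hn⟩
  have hZcard : Nat.card (Subgroup.zpowers z) = p := by
    rw [Nat.card_zpowers, orderOf_eq_prime hzp hz1']
  have hΩZ : ¬ omega A hAcomm p ≤ Subgroup.zpowers z := fun h => by
    have := Subgroup.card_le_of_le h
    omega
  haveI : ((omega A hAcomm p).map (QuotientGroup.mk' (Subgroup.zpowers z))).Normal :=
    hΩn.map _ (QuotientGroup.mk'_surjective _)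
  have hΩbar : (omega A hAcomm p).map (QuotientGroup.mk' (Subgroup.zpowers z)) ≠ ⊥ := by
    intro h
    apply hΩZ
    intro x hx
    have hmem : QuotientGroup.mk' (Subgroup.zpowers z) x ∈
        (omega A hAcomm p).map (QuotientGroup.mk' (Subgroup.zpowers z)) :=
      Subgroup.mem_map_of_mem _ hx
    rw [h, Subgroup.mem_bot] at hmem
    exact (QuotientGroup.eq_one_iff x).mp hmem
  obtain ⟨⟨ebar, hebar⟩, hebar1⟩ := (Subgroup.ne_bot_iff_exists_ne_one).mp
    (Cfsg.Agent.Lib.Helper10.normal_inf_center_ne_bot (hG.to_quotient (Subgroup.zpowers z))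
      ((omega A hAcomm p).map (QuotientGroup.mk' (Subgroup.zpowers z))) hΩbar)
  obtain ⟨hebΩ, hebc⟩ := Subgroup.mem_inf.mp hebar
  obtain ⟨e, heΩ, rfl⟩ := Subgroup.mem_map.mp hebΩ
  refine ⟨z, e, hzc, hz1', hzp, heΩ.2, ?_, ?_⟩
  · intro he
    apply hebar1
    apply Subtype.ext
    exact (QuotientGroup.eq_one_iff e).mpr he
  · intro g
    rw [← QuotientGroup.eq_one_iff]
    have hcomm := (Subgroup.mem_center_iff.mp hebc) (QuotientGroup.mk' (Subgroup.zpowers z) g)
    show QuotientGroup.mk' (Subgroup.zpowers z) (g * e * g⁻¹ * e⁻¹) = 1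
    rw [map_mul, map_mul, map_mul, map_inv, map_inv, hcomm, mul_inv_cancel_right, mul_inv_cancel]

end grp


/-! ### Linear algebra -/

section lin

variable {q : ℕ} [Fact q.Prime] {V : Type*} [AddCommGroup V] [Module (ZMod q) V]
  {G : Type*} [Group G] (ρ : G →* (V ≃ₗ[ZMod q] V))

theorem rho_mul (x y : G) (v : V) : ρ (x * y) v = ρ x (ρ y v) := by rw [map_mul]; rfl

theorem rho_one (v : V) : ρ 1 v = v := by rw [map_one]; rfl

/-- fixed space of `x` -/
def fix (x : G) : Submodule (ZMod q) V :=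
  LinearMap.eqLocus ((ρ x : V ≃ₗ[ZMod q] V) : V →ₗ[ZMod q] V) LinearMap.id

theorem mem_fix {x : G} {v : V} : v ∈ fix ρ x ↔ ρ x v = v := by
  unfold fix
  rw [LinearMap.mem_eqLocus]
  rfl

theorem fix_pow {x : G} {v : V} (hv : v ∈ fix ρ x) (n : ℕ) : ρ (x ^ n) v = v := by
  rw [mem_fix] at hv
  induction n with
  | zero => rw [pow_zero, rho_one]
  | succ n ih => rw [pow_succ, rho_mul, hv, ih]

theorem fix_conj {x g : G} {v : V} (hv : v ∈ fix ρ x) : ρ g v ∈ fix ρ (g * x * g⁻¹) := by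
  rw [mem_fix] at hv ⊢
  rw [← rho_mul, inv_mul_cancel_right, rho_mul, hv]

theorem map_fix (x g : G) :
    (fix ρ x).map ((ρ g : V ≃ₗ[ZMod q] V) : V →ₗ[ZMod q] V) = fix ρ (g * x * g⁻¹) := by
  ext w
  constructor
  · rintro ⟨v, hv, rfl⟩
    exact fix_conj ρ hv
  · intro hw
    refine ⟨ρ g⁻¹ w, ?_, ?_⟩
    · have h1 := fix_conj ρ (g := g⁻¹) hw
      have h2 : g⁻¹ * (g * x * g⁻¹) * g⁻¹⁻¹ = x := by group
      rw [h2] at h1
      exact h1
    · show ρ g (ρ g⁻¹ w) = w
      rw [← rho_mul, mul_inv_cancel, rho_one]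

/-- powers indexed by `ZMod p` -/
def zpw {p : ℕ} (x : G) (a : ZMod p) : G := x ^ a.val

theorem zpw_zero (p : ℕ) (x : G) : zpw x (0 : ZMod p) = 1 := by
  unfold zpw
  rw [ZMod.val_zero, pow_zero]

theorem zpw_one (p : ℕ) [Fact p.Prime] (x : G) : zpw x (1 : ZMod p) = x := by
  unfold zpw
  rw [ZMod.val_one, pow_one]

theorem zpw_add {p : ℕ} [NeZero p] {x : G} (hx : x ^ p = 1) (a b : ZMod p) :
    zpw x (a + b) = zpw x a * zpw x b := by
  unfold zpw
  rw [ZMod.val_add, ← pow_add, ← pow_eq_pow_mod _ hx]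

theorem zpw_mul {p : ℕ} {x : G} (hx : x ^ p = 1) (a b : ZMod p) :
    zpw x (a * b) = (zpw x a) ^ b.val := by
  unfold zpw
  rw [ZMod.val_mul, ← pow_mul, ← pow_eq_pow_mod _ hx]

theorem zpw_pow_p {p : ℕ} {x : G} (hx : x ^ p = 1) (a : ZMod p) : (zpw x a) ^ p = 1 := by
  unfold zpw
  rw [← pow_mul, mul_comm, pow_mul, hx, one_pow]

variable (p : ℕ) [Fact p.Prime]

instance neZero_of_fact : NeZero p := ⟨(Fact.out : p.Prime).ne_zero⟩

/-- the norm operator of `⟨x⟩` -/
noncomputable def nrm (x : G) : V →ₗ[ZMod q] V :=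
  ∑ i : ZMod p, ((ρ (zpw x i) : V ≃ₗ[ZMod q] V) : V →ₗ[ZMod q] V)

theorem nrm_apply (x : G) (v : V) : nrm ρ p x v = ∑ i : ZMod p, ρ (zpw x i) v := by
  unfold nrm
  rw [LinearMap.sum_apply]
  rfl

theorem nrm_mem_fix {x : G} (hx : x ^ p = 1) (v : V) : nrm ρ p x v ∈ fix ρ x := by
  rw [mem_fix, nrm_apply, map_sum]
  have h1 : ∀ i : ZMod p, ρ x (ρ (zpw x i) v) = ρ (zpw x (i + 1)) v := by
    intro i
    have h2 : x * zpw x i = zpw x (i + 1) := by
      rw [zpw_add hx, zpw_one]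
      exact ((Commute.refl x).pow_right _).eq
    rw [← rho_mul, h2]
  simp_rw [h1]
  exact Equiv.sum_comp (Equiv.addRight (1 : ZMod p)) (fun j => ρ (zpw x j) v)

theorem nrm_of_fix {x : G} {v : V} (hv : v ∈ fix ρ x) : nrm ρ p x v = p • v := by
  rw [nrm_apply]
  have h : ∀ i : ZMod p, ρ (zpw x i) v = v := fun i => fix_pow ρ hv _
  simp_rw [h]
  rw [Finset.sum_const, Finset.card_univ, ZMod.card]

theorem sum_nrm {e z : G} (hez : Commute e z) (hzp : z ^ p = 1) (hfz : fix ρ z = ⊥) (v : V) :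
    ∑ k : ZMod p, nrm ρ p (e * zpw z k) v = p • v := by
  have hnz : nrm ρ p z v = 0 := by
    have := nrm_mem_fix ρ p hzp v
    rw [hfz] at this
    exact (Submodule.mem_bot _).mp this
  have hterm : ∀ k i : ZMod p, zpw (e * zpw z k) i = zpw e i * zpw z (k * i) := by
    intro k i
    rw [zpw_mul hzp]
    exact (hez.pow_right _).mul_pow _
  simp only [nrm_apply, hterm]
  rw [Finset.sum_comm, Finset.sum_eq_single (0 : ZMod p)]
  · simp only [mul_zero, zpw_zero, mul_one, rho_one ρ]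
    rw [Finset.sum_const, Finset.card_univ, ZMod.card]
  · intro i _ hi
    have h1 : ∑ k : ZMod p, ρ (zpw e i * zpw z (k * i)) v =
        ∑ j : ZMod p, ρ (zpw e i * zpw z j) v :=
      Equiv.sum_comp (Equiv.mulRight₀ i hi) (fun j => ρ (zpw e i * zpw z j) v)
    rw [h1]
    have h2 : ∀ j : ZMod p, ρ (zpw e i * zpw z j) v = ρ (zpw e i) (ρ (zpw z j) v) :=
      fun j => rho_mul ρ _ _ _
    simp_rw [h2]
    rw [← map_sum, ← nrm_apply, hnz, map_zero]
  · intro h
    exact absurd (Finset.mem_univ _) h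

theorem nrm_other {e z : G} (hez : Commute e z) (hzp : z ^ p = 1) (hfz : fix ρ z = ⊥)
    {j k : ZMod p} (hjk : k ≠ j) {w : V} (hw : w ∈ fix ρ (e * zpw z j)) :
    nrm ρ p (e * zpw z k) w = 0 := by
  have hnz : nrm ρ p z w = 0 := by
    have := nrm_mem_fix ρ p hzp w
    rw [hfz] at this
    exact (Submodule.mem_bot _).mp this
  have hce : Commute e (zpw z (k - j)) := hez.pow_right _
  have hsplit : e * zpw z k = zpw z (k - j) * (e * zpw z j) := by
    have h1 : zpw z k = zpw z (k - j) * zpw z j := by rw [← zpw_add hzp, sub_add_cancel]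
    rw [h1, ← mul_assoc, hce.eq, mul_assoc]
  have hcomm : Commute (zpw z (k - j)) (e * zpw z j) := by
    have h1 : Commute (zpw z (k - j)) e := hce.symm
    have h2 : Commute (zpw z (k - j)) (zpw z j) := (Commute.refl z).pow_pow _ _
    exact h1.mul_right h2
  have hterm : ∀ i : ZMod p, ρ (zpw (e * zpw z k) i) w = ρ (zpw z ((k - j) * i)) w := by
    intro i
    have e1 : zpw (e * zpw z k) i = (zpw z (k - j)) ^ i.val * (e * zpw z j) ^ i.val := by
      show (e * zpw z k) ^ i.val = _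
      rw [hsplit, hcomm.mul_pow]
    rw [e1, rho_mul, fix_pow ρ hw, ← zpw_mul hzp]
  rw [nrm_apply]
  simp_rw [hterm]
  have h1 : ∑ i : ZMod p, ρ (zpw z ((k - j) * i)) w = ∑ m : ZMod p, ρ (zpw z m) w :=
    Equiv.sum_comp (Equiv.mulLeft₀ (k - j) (sub_ne_zero.mpr hjk)) (fun m => ρ (zpw z m) w)
  rw [h1, ← nrm_apply, hnz]

theorem decomposition (hpq : p ≠ q) {e z : G} (hez : Commute e z) (hep : e ^ p = 1)
    (hzp : z ^ p = 1) (hfz : fix ρ z = ⊥) :
    (⨆ k : ZMod p, fix ρ (e * zpw z k)) = ⊤ ∧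
      iSupIndep (fun k : ZMod p => fix ρ (e * zpw z k)) := by
  have hp := (Fact.out : p.Prime)
  have hq := (Fact.out : q.Prime)
  have hpunit : (p : ZMod q) ≠ 0 := by
    intro h0
    rw [ZMod.natCast_eq_zero_iff] at h0
    exact hpq ((Nat.prime_dvd_prime_iff_eq hq hp).mp h0).symm
  have hxp : ∀ k : ZMod p, (e * zpw z k) ^ p = 1 := by
    intro k
    have hc : Commute e (zpw z k) := hez.pow_right _
    rw [hc.mul_pow, hep, zpw_pow_p hzp, one_mul]
  constructor
  · rw [eq_top_iff]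
    intro v _
    have hsum := sum_nrm ρ p hez hzp hfz v
    have hv : v = (p : ZMod q)⁻¹ • ∑ k : ZMod p, nrm ρ p (e * zpw z k) v := by
      rw [hsum, ← Nat.cast_smul_eq_nsmul (ZMod q) p v, inv_smul_smul₀ hpunit]
    rw [hv]
    exact Submodule.smul_mem _ _ (Submodule.sum_mem _ (fun k _ =>
      Submodule.mem_iSup_of_mem k (nrm_mem_fix ρ p (hxp k) v)))
  · intro k
    rw [Submodule.disjoint_def]
    intro w hwk hws
    have hker : (⨆ j, ⨆ (_ : j ≠ k), fix ρ (e * zpw z j)) ≤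
        LinearMap.ker (nrm ρ p (e * zpw z k)) :=
      iSup₂_le (fun j hj u hu => LinearMap.mem_ker.mpr (nrm_other ρ p hez hzp hfz hj.symm hu))
    have h0 : nrm ρ p (e * zpw z k) w = 0 := LinearMap.mem_ker.mp (hker hws)
    have h1 : nrm ρ p (e * zpw z k) w = p • w := nrm_of_fix ρ p hwk
    rw [h1, ← Nat.cast_smul_eq_nsmul (ZMod q) p w, smul_eq_zero] at h0
    exact h0.resolve_left hpunit

theorem fix_central_eq_bot (hρ : Function.Injective ρ)
    (hirr : ∀ W : Submodule (ZMod q) V, (∀ g : G, ∀ w ∈ W, ρ g w ∈ W) → W = ⊥ ∨ W = ⊤)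
    {x : G} (hx : x ∈ Subgroup.center G) (hx1 : x ≠ 1) : fix ρ x = ⊥ := by
  have hinv : ∀ g : G, ∀ w ∈ fix ρ x, ρ g w ∈ fix ρ x := by
    intro g w hw
    rw [mem_fix] at hw ⊢
    rw [← rho_mul, ← (Subgroup.mem_center_iff.mp hx g), rho_mul, hw]
  rcases hirr (fix ρ x) hinv with h | h
  · exact h
  · exfalso
    apply hx1
    apply hρ
    ext v
    have hv : v ∈ fix ρ x := h ▸ Submodule.mem_top
    rw [mem_fix] at hv
    rw [hv, map_one]
    rfl

end lin


section final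

theorem p_ne_q (q : ℕ) [Fact q.Prime] {V : Type*} [AddCommGroup V] [Module (ZMod q) V] [Finite V]
    [Nontrivial V] {G : Type*} [Group G] [Finite G] (p : ℕ) [Fact p.Prime] (hG : IsPGroup p G)
    (ρ : G →* (V ≃ₗ[ZMod q] V)) (hρ : Function.Injective ρ)
    (hirr : ∀ W : Submodule (ZMod q) V, (∀ g : G, ∀ w ∈ W, ρ g w ∈ W) → W = ⊥ ∨ W = ⊤)
    (hnc : ¬ IsCyclic G) : p ≠ q := by
  intro hpq
  subst hpq
  have hp := (Fact.out : p.Prime)
  letI : MulAction G V := MulAction.compHom V ρ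
  have hsmul : ∀ (g : G) (v : V), g • v = ρ g v := fun g v => rfl
  have hmod := hG.card_modEq_card_fixedPoints V
  obtain ⟨v, hv⟩ := exists_ne (0 : V)
  have hpv : p • v = 0 := by
    rw [← Nat.cast_smul_eq_nsmul (ZMod p), ZMod.natCast_self, zero_smul]
  have hord : addOrderOf v = p := addOrderOf_eq_prime hpv hv
  have hdvd : p ∣ Nat.card V := hord ▸ addOrderOf_dvd_natCard v
  have hdvd2 : p ∣ Nat.card (MulAction.fixedPoints G V) :=
    (Nat.modEq_zero_iff_dvd.mp ((hmod.symm).trans (Nat.modEq_zero_iff_dvd.mpr hdvd)))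
  have h0 : (0 : V) ∈ MulAction.fixedPoints G V := fun g => by
    rw [hsmul]
    exact map_zero _
  have hcard : 1 < Nat.card (MulAction.fixedPoints G V) := by
    have hpos : 0 < Nat.card (MulAction.fixedPoints G V) :=
      Nat.card_pos_iff.mpr ⟨⟨⟨0, h0⟩⟩, inferInstance⟩
    have h1 := Nat.le_of_dvd hpos hdvd2
    have h2 := hp.two_le
    omega
  haveI : Nontrivial (MulAction.fixedPoints G V) := (Finite.one_lt_card_iff_nontrivial).mp hcard
  obtain ⟨⟨w, hw⟩, hw0'⟩ := exists_ne (⟨0, h0⟩ : MulAction.fixedPoints G V)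
  have hw0 : w ≠ 0 := fun h => hw0' (Subtype.ext h)
  have hwfix : ∀ g : G, ρ g w = w := fun g => by
    rw [← hsmul]
    exact hw g
  -- the submodule of fixed vectors
  have hinv : ∀ g : G, ∀ u ∈ (⨅ g : G, fix ρ g), ρ g u ∈ (⨅ g : G, fix ρ g) := by
    intro g u hu
    rw [Submodule.mem_iInf] at hu
    have := (mem_fix ρ).mp (hu g)
    rw [this]
    exact (Submodule.mem_iInf _).mpr hu
  have hwW : w ∈ (⨅ g : G, fix ρ g) :=
    (Submodule.mem_iInf _).mpr (fun g => (mem_fix ρ).mpr (hwfix g))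
  rcases hirr _ hinv with h | h
  · rw [h, Submodule.mem_bot] at hwW
    exact hw0 hwW
  · apply hnc
    have hall : ∀ g : G, g = 1 := by
      intro g
      apply hρ
      ext u
      have hu : u ∈ (⨅ g : G, fix ρ g) := h ▸ Submodule.mem_top
      rw [Submodule.mem_iInf] at hu
      rw [(mem_fix ρ).mp (hu g), map_one]
      rfl
    haveI : Subsingleton G := ⟨fun a b => (hall a).trans (hall b).symm⟩
    exact isCyclic_of_subsingleton

end final

/-- Let a finite p-group G act faithfully and irreducibly on a non-trivial finite vector space V over the field with q elements (q prime), and suppose G is not cyclic, generalized quaternion, dihedral or semidihedral. Then G has a subgroup H of index p and V is the direct sum of p subspaces, each invariant under H, on none of which H acts faithfully, and which every element of G outside H permutes in a single p-cycle. -/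
theorem result
    (q : ℕ) [Fact q.Prime] {V : Type*} [AddCommGroup V] [Module (ZMod q) V] [Finite V] [Nontrivial V]
    {G : Type*} [Group G] [Finite G] (p : ℕ) [Fact p.Prime] (hG : IsPGroup p G)
    (ρ : G →* (V ≃ₗ[ZMod q] V)) (hρ : Function.Injective ρ)
    (hirr : ∀ W : Submodule (ZMod q) V, (∀ g : G, ∀ w ∈ W, ρ g w ∈ W) → W = ⊥ ∨ W = ⊤)
    (hnc : ¬ IsCyclic G) (hnq : ∀ n : ℕ, ¬ Nonempty (G ≃* QuaternionGroup n))
    (hnd : ∀ n : ℕ, ¬ Nonempty (G ≃* DihedralGroup n)) (hnsd : ¬ Cfsg.IsQuasiDihedral G) :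
    ∃ (H : Subgroup G) (W : Fin p → Submodule (ZMod q) V), H.index = p ∧
      iSup W = ⊤ ∧ iSupIndep W ∧
      (∀ h ∈ H, ∀ i, ∀ w ∈ W i, ρ h w ∈ W i) ∧
      (∀ i, ∃ h ∈ H, h ≠ 1 ∧ ∀ w ∈ W i, ρ h w = w) ∧
      ∀ g : G, g ∉ H → ∃ σ : Equiv.Perm (Fin p), orderOf σ = p ∧ ∀ i, (W i).map (ρ g : V →ₗ[ZMod q] V) = W (σ i) := by
  classical
  have hp := (Fact.out : p.Prime)
  have hpq : p ≠ q := p_ne_q q p hG ρ hρ hirr hnc
  obtain ⟨z, e, hzc, hz1, hzp, hep, hez', hcomm⟩ := exists_data p hG hnc hnq hnd hnsd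
  have hzcomm : ∀ g : G, Commute g z := fun g => Subgroup.mem_center_iff.mp hzc g
  have hez : Commute e z := hzcomm e
  have hzk : ∀ (k : ZMod p) (g : G), Commute g (zpw z k) := fun k g => (hzcomm g).pow_right _
  have hfz : fix ρ z = ⊥ := fix_central_eq_bot ρ hρ hirr hzc hz1
  obtain ⟨htop, hind⟩ := decomposition ρ p hpq hez hep hzp hfz
  have hx1 : ∀ k : ZMod p, e * zpw z k ≠ 1 := by
    intro k h
    apply hez'
    have h2 : e = (zpw z k)⁻¹ := eq_inv_of_mul_eq_one_left h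
    rw [h2]
    exact Subgroup.inv_mem _ (Subgroup.pow_mem _ (Subgroup.mem_zpowers z) _)
  -- `e` is not central
  have hne : ∃ g : G, g * e ≠ e * g := by
    by_contra hall
    push Not at hall
    have hfx : ∀ k : ZMod p, fix ρ (e * zpw z k) = ⊥ := by
      intro k
      apply fix_central_eq_bot ρ hρ hirr _ (hx1 k)
      rw [Subgroup.mem_center_iff]
      intro g
      rw [← mul_assoc, hall g, mul_assoc, (hzk k g).eq, ← mul_assoc]
    simp only [hfx, iSup_bot] at htop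
    exact bot_ne_top htop
  -- the commutator homomorphism
  have hcen : ∀ (c : G), c ∈ Subgroup.zpowers z → ∀ g : G, g * c = c * g := by
    intro c hc g
    exact Subgroup.mem_center_iff.mp ((Subgroup.zpowers_le.mpr hzc) hc) g
  have hmul : ∀ a b : G, (⟨(a * b) * e * (a * b)⁻¹ * e⁻¹, hcomm (a * b)⟩ : Subgroup.zpowers z) =
      ⟨a * e * a⁻¹ * e⁻¹, hcomm a⟩ * ⟨b * e * b⁻¹ * e⁻¹, hcomm b⟩ := by
    intro a b
    apply Subtype.ext
    show (a * b) * e * (a * b)⁻¹ * e⁻¹ = (a * e * a⁻¹ * e⁻¹) * (b * e * b⁻¹ * e⁻¹)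
    have hc := hcen _ (hcomm b)
    calc (a * b) * e * (a * b)⁻¹ * e⁻¹ = a * ((b * e * b⁻¹ * e⁻¹) * e) * a⁻¹ * e⁻¹ := by group
      _ = (b * e * b⁻¹ * e⁻¹) * (a * e * a⁻¹ * e⁻¹) := by
          rw [← mul_assoc a _ e, hc a]
          group
      _ = (a * e * a⁻¹ * e⁻¹) * (b * e * b⁻¹ * e⁻¹) := (hc _).symm
  have hker : (MonoidHom.mk' (fun g => (⟨g * e * g⁻¹ * e⁻¹, hcomm g⟩ : Subgroup.zpowers z)) hmul).ker =
      Subgroup.centralizer {e} := by
    ext g
    rw [MonoidHom.mem_ker, Subgroup.mem_centralizer_iff]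
    constructor
    · intro h t ht
      rw [Set.mem_singleton_iff] at ht
      subst ht
      have h2 : g * t * g⁻¹ * t⁻¹ = 1 := congrArg Subtype.val h
      rw [mul_inv_eq_one, mul_inv_eq_iff_eq_mul] at h2
      exact h2.symm
    · intro h
      apply Subtype.ext
      show g * e * g⁻¹ * e⁻¹ = 1
      rw [← h e rfl]
      group
  have hoz : orderOf z = p := orderOf_eq_prime hzp hz1
  have hindex : (Subgroup.centralizer ({e} : Set G)).index = p := by
    rw [← hker, Subgroup.index_ker]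
    haveI : Fact (Nat.card ↥(Subgroup.zpowers z)).Prime := ⟨by rw [Nat.card_zpowers, hoz]; exact hp⟩
    rcases (MonoidHom.mk' (fun g => (⟨g * e * g⁻¹ * e⁻¹, hcomm g⟩ : Subgroup.zpowers z))
      hmul).range.eq_bot_or_eq_top_of_prime_card with h | h
    · exfalso
      obtain ⟨g, hg⟩ := hne
      apply hg
      have hmem : (MonoidHom.mk' (fun g => (⟨g * e * g⁻¹ * e⁻¹, hcomm g⟩ : Subgroup.zpowers z))
          hmul) g ∈ (MonoidHom.mk' (fun g => (⟨g * e * g⁻¹ * e⁻¹, hcomm g⟩ : Subgroup.zpowers z))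
          hmul).range := ⟨g, rfl⟩
      rw [h, Subgroup.mem_bot] at hmem
      have h2 : g * e * g⁻¹ * e⁻¹ = 1 := congrArg Subtype.val hmem
      rw [mul_inv_eq_one, mul_inv_eq_iff_eq_mul] at h2
      exact h2
    · rw [h, Subgroup.card_top, Nat.card_zpowers, hoz]
  -- the index equivalence
  let e₀ : Fin p ≃ ZMod p := (ZMod.finEquiv p).toEquiv
  refine ⟨Subgroup.centralizer {e}, fun i => fix ρ (e * zpw z (e₀ i)), hindex, ?_, ?_, ?_, ?_, ?_⟩
  · exact (Equiv.iSup_comp (g := fun k : ZMod p => fix ρ (e * zpw z k)) e₀).trans htop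
  · exact hind.comp e₀.injective
  · intro h hh i w hw
    have h1 := fix_conj ρ (g := h) hw
    have hce : Commute h e := by
      rw [Subgroup.mem_centralizer_iff] at hh
      exact (hh e rfl).symm
    have hc : Commute h (e * zpw z (e₀ i)) := hce.mul_right (hzk _ h)
    have h2 : h * (e * zpw z (e₀ i)) * h⁻¹ = e * zpw z (e₀ i) := by
      rw [hc.eq, mul_inv_cancel_right]
    rw [h2] at h1
    exact h1
  · intro i
    refine ⟨e * zpw z (e₀ i), ?_, hx1 _, fun w hw => (mem_fix ρ).mp hw⟩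
    rw [Subgroup.mem_centralizer_iff]
    intro t ht
    rw [Set.mem_singleton_iff] at ht
    subst ht
    exact ((Commute.refl t).mul_right (hzk _ t)).eq
  · intro g hg
    -- the shift
    obtain ⟨κ, hκ⟩ : ∃ κ : ZMod p, g * e * g⁻¹ * e⁻¹ = zpw z κ := by
      obtain ⟨n, hn⟩ := Subgroup.mem_zpowers_iff.mp (hcomm g)
      refine ⟨(n : ZMod p), ?_⟩
      rw [← hn]
      unfold zpw
      rw [← zpow_natCast, ZMod.val_intCast, ← hoz, zpow_mod_orderOf]
    have hκ0 : κ ≠ 0 := by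
      intro h0
      apply hg
      rw [h0, zpw_zero, mul_inv_eq_one, mul_inv_eq_iff_eq_mul] at hκ
      rw [Subgroup.mem_centralizer_iff]
      intro t ht
      rw [Set.mem_singleton_iff] at ht
      subst ht
      exact hκ.symm
    have hconj : ∀ k : ZMod p, g * (e * zpw z k) * g⁻¹ = e * zpw z (k + κ) := by
      intro k
      have h1 : g * e * g⁻¹ = zpw z κ * e := by
        rw [← hκ]
        group
      have h2 : g * zpw z k * g⁻¹ = zpw z k := by
        rw [(hzk k g).eq, mul_inv_cancel_right]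
      calc g * (e * zpw z k) * g⁻¹ = (g * e * g⁻¹) * (g * zpw z k * g⁻¹) := by group
        _ = zpw z κ * e * zpw z k := by rw [h1, h2]
        _ = e * (zpw z k * zpw z κ) := by
            rw [← (hzk κ e).eq, mul_assoc, (hzk k (zpw z κ)).eq]
        _ = e * zpw z (k + κ) := by rw [zpw_add hzp]
    have hpow : ∀ (n : ℕ) (k : ZMod p), ((Equiv.addRight κ) ^ n) k = k + n • κ := by
      intro n
      induction n with
      | zero => intro k; simp
      | succ n ih =>
        intro k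
        have h1 : (Equiv.addRight κ) k = k + κ := rfl
        rw [pow_succ, Equiv.Perm.mul_apply, ih, h1, succ_nsmul]
        abel
    have hτ : orderOf (Equiv.addRight κ) = p := by
      apply orderOf_eq_prime
      · ext k
        rw [hpow, nsmul_eq_mul, CharP.cast_eq_zero (ZMod p) p, zero_mul, add_zero]
        rfl
      · intro h1
        have := congrArg (fun f : Equiv.Perm (ZMod p) => f 0) h1
        simp at this
        exact hκ0 this
    refine ⟨e₀.symm.permCongrHom (Equiv.addRight κ), ?_, ?_⟩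
    · rw [MulEquiv.orderOf_eq, hτ]
    · intro i
      show (fix ρ (e * zpw z (e₀ i))).map ((ρ g : V ≃ₗ[ZMod q] V) : V →ₗ[ZMod q] V) = _
      rw [map_fix, hconj]
      show fix ρ (e * zpw z (e₀ i + κ)) =
        fix ρ (e * zpw z (e₀ ((e₀.symm.permCongrHom (Equiv.addRight κ)) i)))
      congr 3
      simp [Equiv.permCongrHom, Equiv.permCongr_apply]

end Cfsg.Agent.S3380
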