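import Mathlib
import Cfsg.Statements.S0685
import Cfsg.Agent.S0684

set_option autoImplicit false
open Cfsg

namespace Cfsg.Agent.S0685

/-- In a linear group over the prime field that is regular on non-zero vectors and has no irreducible cyclic normal subgroup, a maximal normal abelian subgroup is properly contained in its centraliser, which is non-abelian. -/
theorem result {p : ℕ} [Fact p.Prime] {V : Type*} [AddCommGroup V] [Module (ZMod p) V] [Finite V] (H : Subgroup (V ≃ₗ[ZMod p] V)) (hreg : ∀ v w : V, v ≠ 0 → w ≠ 0 → ∃! h : H, (h : V ≃ₗ[ZMod p] V) v = w) (hI : ∀ A : Subgroup H, A.Normal → IsCyclic A → ∃ W : Submodule (ZMod p) V, W ≠ ⊥ ∧ W ≠ ⊤ ∧ ∀ a ∈ A, ∀ v ∈ W, ((a : H) : V ≃ₗ[ZMod p] V) v ∈ W) (A : Subgroup H) (hAn : A.Normal) (hAc : IsMulCommutative A) (hAmax : ∀ B : Subgroup H, B.Normal → IsMulCommutative B → A ≤ B → B = A) : A < Subgroup.centralizer (A : Set H) ∧ ¬ IsMulCommutative (Subgroup.centralizer (A : Set H)) := by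
  classical
  have hp : p.Prime := Fact.out
  obtain ⟨hcyc, W, hW0, hWtop, hWinv, hWmin, hdvd⟩ :=
    Cfsg.Agent.S0684.result H hreg hI A hAn hAc hAmax
  haveI : Finite H := by
    apply Finite.of_injective (fun h : H => ((h : V ≃ₗ[ZMod p] V) : V → V))
    intro h h' hh
    apply Subtype.ext
    apply DFunLike.coe_injective
    exact hh
  haveI := hAn
  have hAle : A ≤ Subgroup.centralizer (A : Set H) := by
    intro a ha
    rw [Subgroup.mem_centralizer_iff]
    intro b hb
    have := hAc.is_comm.comm (⟨b, hb⟩ : A) ⟨a, ha⟩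
    exact congrArg Subtype.val this
  have hCn : (Subgroup.centralizer (A : Set H)).Normal := inferInstance
  -- the first claim
  have hlt : A < Subgroup.centralizer (A : Set H) := by
    refine lt_of_le_of_ne hAle ?_
    intro hCA
    -- `2 * dim W ≤ dim V`
    obtain ⟨w, hwW, hw0⟩ := (Submodule.ne_bot_iff W).1 hW0
    obtain ⟨v, hvW⟩ : ∃ v : V, v ∉ W := by
      by_contra hcon
      push Not at hcon
      exact hWtop (eq_top_iff.2 fun x _ => hcon x)
    have hv0 : v ≠ 0 := fun h => hvW (h ▸ W.zero_mem)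
    obtain ⟨h, hh, -⟩ := hreg w v hw0 hv0
    obtain ⟨W₂, hW₂⟩ : ∃ W₂ : Submodule (ZMod p) V,
        W₂ = W.map ((h : V ≃ₗ[ZMod p] V) : V →ₗ[ZMod p] V) := ⟨_, rfl⟩
    have hW₂inv : ∀ a ∈ A, ∀ x ∈ W₂, ((a : H) : V ≃ₗ[ZMod p] V) x ∈ W₂ := by
      intro a ha x hx
      rw [hW₂] at hx ⊢
      obtain ⟨y, hy, rfl⟩ := hx
      have h1 : h⁻¹ * a * h ∈ A := by
        have := hAn.conj_mem a ha h⁻¹
        simpa using this
      refine ⟨((h⁻¹ * a * h : H) : V ≃ₗ[ZMod p] V) y, hWinv _ h1 y hy, ?_⟩
      have e : (h : V ≃ₗ[ZMod p] V) * ((h⁻¹ * a * h : H) : V ≃ₗ[ZMod p] V) =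
          ((a : H) : V ≃ₗ[ZMod p] V) * (h : V ≃ₗ[ZMod p] V) := by
        rw [← Subgroup.coe_mul, ← Subgroup.coe_mul]
        congr 1
        group
      have := congrArg (fun f : V ≃ₗ[ZMod p] V => f y) e
      simpa using this
    have hinter : W ⊓ W₂ = ⊥ := by
      rcases hWmin (W ⊓ W₂) inf_le_left (fun a ha x hx =>
        ⟨hWinv a ha x hx.1, hW₂inv a ha x hx.2⟩) with h1 | h1
      · exact h1
      · exfalso
        have hle : W ≤ W₂ := by rw [← h1]; exact inf_le_right
        have hfr : Module.finrank (ZMod p) W₂ = Module.finrank (ZMod p) W := by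
          rw [hW₂]
          exact LinearEquiv.finrank_map_eq (h : V ≃ₗ[ZMod p] V) W
        have heq : W = W₂ := Submodule.eq_of_le_of_finrank_le hle hfr.le
        apply hvW
        rw [heq, hW₂]
        exact ⟨w, hwW, hh⟩
    have hdim : 2 * Module.finrank (ZMod p) W ≤ Module.finrank (ZMod p) V := by
      have h1 := Submodule.finrank_sup_add_finrank_inf_eq W W₂
      have hfr : Module.finrank (ZMod p) W₂ = Module.finrank (ZMod p) W := by
        rw [hW₂]
        exact LinearEquiv.finrank_map_eq (h : V ≃ₗ[ZMod p] V) W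
      rw [hinter, finrank_bot, add_zero, hfr] at h1
      have h2 := Submodule.finrank_le (W ⊔ W₂)
      omega
    have hk1 : 1 ≤ Module.finrank (ZMod p) W := by
      rw [Nat.one_le_iff_ne_zero]
      intro h0
      exact hW0 (Submodule.finrank_eq_zero.1 h0)
    -- `|V| - 1 ≤ |H|`
    have hcardV : Nat.card V = p ^ Module.finrank (ZMod p) V := by
      rw [Module.natCard_eq_pow_finrank (K := ZMod p), Nat.card_zmod]
    have hHge : Nat.card V ≤ Nat.card H + 1 := by
      have hinj : Function.Injective (fun x : H => ((x : V ≃ₗ[ZMod p] V) w)) := by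
        intro x y hxy
        obtain ⟨z, -, huniq⟩ := hreg w ((x : V ≃ₗ[ZMod p] V) w) hw0
          (by simpa using hw0)
        rw [huniq x rfl, huniq y hxy.symm]
      have hrange : ∀ u : V, u ≠ 0 → u ∈ Set.range (fun x : H => ((x : V ≃ₗ[ZMod p] V) w)) := by
        intro u hu
        obtain ⟨x, hx, -⟩ := hreg w u hw0 hu
        exact ⟨x, hx⟩
      have h1 : (Set.univ : Set V) ⊆ insert 0 (Set.range (fun x : H => ((x : V ≃ₗ[ZMod p] V) w))) := by
        intro u _
        by_cases hu : u = 0
        · left; exact hu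
        · right; exact hrange u hu
      have h2 := Set.ncard_le_ncard h1 (Set.toFinite _)
      rw [Set.ncard_univ] at h2
      have h3 := Set.ncard_insert_le (0 : V) (Set.range (fun x : H => ((x : V ≃ₗ[ZMod p] V) w)))
      have h4 : (Set.range (fun x : H => ((x : V ≃ₗ[ZMod p] V) w))).ncard = Nat.card H := by
        rw [← Set.image_univ, Set.ncard_image_of_injective _ hinj, Set.ncard_univ]
      omega
    -- `|H| ≤ |A|^2`
    have hHle : Nat.card H ≤ Nat.card A * Nat.card A := by
      have h1 := Subgroup.card_eq_card_quotient_mul_card_subgroup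
        (MulAut.conjNormal (H := A)).ker
      have h2 : Nat.card (H ⧸ (MulAut.conjNormal (H := A)).ker) ≤ Nat.card (MulAut A) := by
        have e := QuotientGroup.quotientKerEquivRange (MulAut.conjNormal (H := A))
        rw [Nat.card_congr e.toEquiv]
        exact Nat.card_le_card_of_injective _ Subtype.val_injective
      have h3 : Nat.card (MulAut A) ≤ Nat.card A := by
        rw [IsCyclic.card_mulAut]
        exact Nat.totient_le _
      have h4 : (MulAut.conjNormal (H := A)).ker = Subgroup.centralizer (A : Set H) := by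
        ext x
        rw [MonoidHom.mem_ker, Subgroup.mem_centralizer_iff]
        constructor
        · intro hx a ha
          have := congrArg (fun f : MulAut A => ((f ⟨a, ha⟩ : A) : H)) hx
          simp only [MulAut.conjNormal_apply, MulAut.one_apply] at this
          calc a * x = (x * a * x⁻¹) * x := by rw [this]
            _ = x * a := by group
        · intro hx
          ext a
          rw [MulAut.conjNormal_apply, MulAut.one_apply, ← hx a a.2]
          group
      have h5 : Nat.card (MulAut.conjNormal (H := A)).ker = Nat.card A := by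
        rw [h4]
        exact congrArg (fun S : Subgroup H => Nat.card S) hCA.symm
      rw [h1, h5]
      exact Nat.mul_le_mul_right _ (h2.trans h3)
    -- arithmetic
    obtain ⟨k, hk⟩ : ∃ k, k = Module.finrank (ZMod p) W := ⟨_, rfl⟩
    rw [← hk] at hdvd hdim hk1
    have hx2 : 2 ≤ p ^ k := by
      calc 2 ≤ p := hp.two_le
        _ = p ^ 1 := (pow_one p).symm
        _ ≤ p ^ k := Nat.pow_le_pow_right hp.pos hk1
    have hAle' : Nat.card A ≤ p ^ k - 1 := Nat.le_of_dvd (by omega) hdvd
    have hpow : p ^ k * p ^ k ≤ Nat.card V := by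
      rw [hcardV, ← pow_add, ← two_mul]
      exact Nat.pow_le_pow_right hp.pos hdim
    obtain ⟨y, hy⟩ : ∃ y, p ^ k = y + 2 := ⟨p ^ k - 2, by omega⟩
    rw [hy] at hAle' hpow
    have h5 : Nat.card A * Nat.card A ≤ (y + 1) * (y + 1) :=
      Nat.mul_le_mul (by omega) (by omega)
    nlinarith
  refine ⟨hlt, ?_⟩
  intro hcomm
  exact hlt.ne (hAmax _ hCn hcomm hAle).symm

end Cfsg.Agent.S0685
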