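import Cfsg.Statements.S0688
import Mathlib
import Cfsg.Agent.S0685
import Cfsg.Agent.H5.NearGalois
import Cfsg.Agent.H5.NearQ8
import Cfsg.Agent.H5.NearArith
import Cfsg.Agent.H5.NearFinal

set_option autoImplicit false
open Cfsg

namespace Cfsg.Agent.S0688

/-- Degrees of the soluble exceptional sharply doubly transitive groups: if a solvable linear group over the prime field is regular on the non-zero vectors of `V` and has no irreducible cyclic normal subgroup, then `V` has 25, 49, 121 or 529 elements. -/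
theorem result {p : ℕ} [Fact p.Prime] {V : Type*} [AddCommGroup V] [Module (ZMod p) V] [Finite V] (H : Subgroup (V ≃ₗ[ZMod p] V)) (hreg : ∀ v w : V, v ≠ 0 → w ≠ 0 → ∃! h : H, (h : V ≃ₗ[ZMod p] V) v = w) (hI : ∀ A : Subgroup H, A.Normal → IsCyclic A → ∃ W : Submodule (ZMod p) V, W ≠ ⊥ ∧ W ≠ ⊤ ∧ ∀ a ∈ A, ∀ v ∈ W, ((a : H) : V ≃ₗ[ZMod p] V) v ∈ W) (hsolv : Group.IsSolvable H) : Nat.card V = 25 ∨ Nat.card V = 49 ∨ Nat.card V = 121 ∨ Nat.card V = 529 := by
  classical
  have hp : p.Prime := Fact.out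
  have hfree : ∀ h : H, ∀ v : V, v ≠ 0 → (h : V ≃ₗ[ZMod p] V) v = v → h = 1 := by
    intro h v hv hhv
    obtain ⟨h₀, -, huniq⟩ := hreg v v hv hv
    rw [huniq h hhv, huniq 1 rfl]
  obtain ⟨Wb, hWb, hWt, -⟩ := hI ⊥ inferInstance inferInstance
  haveI : Nontrivial V := by
    by_contra hnt
    rw [not_nontrivial_iff_subsingleton] at hnt
    exact hWb (Subsingleton.elim _ _)
  haveI : Finite H := Cfsg.H5.NearFinal.finite_H
  have htrans : ∀ v w : V, v ≠ 0 → w ≠ 0 → ∃ h : H, (h : V ≃ₗ[ZMod p] V) v = w :=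
    fun v w hv hw => (hreg v w hv hw).exists
  have hAC : Cfsg.H5.NearQ8.AbCyc H :=
    fun B hB => Cfsg.Agent.S0684.isCyclic_of_semiregular H hfree B hB
  obtain ⟨A, hAn, hAc, hAmax⟩ := Cfsg.Agent.Lib.Helper10.exists_maximal_normal_abelian H
  obtain ⟨hcyc, W, hW0, hWtop, hWinv, hWmin, hdvd⟩ :=
    Cfsg.Agent.S0684.result H hreg hI A hAn hAc hAmax
  obtain ⟨hlt, -⟩ := Cfsg.Agent.S0685.result H hreg hI A hAn hAc hAmax
  haveI : Group.IsSolvable H := hsolv
  obtain ⟨h2, h4, h8, hCdvd⟩ := Cfsg.H5.NearQ8.card_centralizer_dvd hAC A hAn hAc hAmax hlt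
  have hWm : Cfsg.H5.NearSpread.IsMinInv H A W := ⟨hW0, hWinv, hWmin⟩
  obtain ⟨g, hg⟩ := hcyc.exists_generator
  have hpow : ∀ b ∈ A, ∃ k : ℕ, b = (g : H) ^ k := by
    intro b hb
    have h1 : (⟨b, hb⟩ : A) ∈ Subgroup.zpowers g := hg _
    rw [← (isOfFinOrder_of_finite g).mem_powers_iff_mem_zpowers] at h1
    obtain ⟨k, hk⟩ := h1
    refine ⟨k, ?_⟩
    have := congrArg Subtype.val hk
    simpa using this.symm
  have hgal := Cfsg.H5.NearGalois.card_le_finrank_mul_card_centralizer htrans hAn hWm g.2 hpow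
  have hdim := Cfsg.H5.NearFinal.two_mul_finrank_le htrans hAn hWm hWtop
  have hHV := Cfsg.H5.NearFinal.card_add_one hreg
  have hcardV : Nat.card V = p ^ Module.finrank (ZMod p) V := by
    rw [Module.natCard_eq_pow_finrank (K := ZMod p), Nat.card_zmod]
  obtain ⟨m, hm⟩ : ∃ m, m = Module.finrank (ZMod p) W := ⟨_, rfl⟩
  obtain ⟨n, hn⟩ : ∃ n, n = Module.finrank (ZMod p) V := ⟨_, rfl⟩
  rw [← hm] at hdvd hgal hdim
  rw [← hn] at hdim hcardV
  have hm1 : 1 ≤ m := by
    rw [hm, Nat.one_le_iff_ne_zero]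
    intro h0
    exact hW0 (Submodule.finrank_eq_zero.1 h0)
  obtain ⟨c, hc⟩ := Subgroup.card_dvd_of_le hlt.le
  obtain ⟨k, hk⟩ := Subgroup.card_subgroup_dvd_card (Subgroup.centralizer (A : Set H))
  have hApos : 0 < Nat.card A := Nat.card_pos
  have hc24 : c ∣ 24 := by
    rw [hc, mul_comm 24] at hCdvd
    exact Nat.dvd_of_mul_dvd_mul_left hApos hCdvd
  have hCpos : 0 < Nat.card (Subgroup.centralizer (A : Set H)) := Nat.card_pos
  have hHpos : 0 < Nat.card H := Nat.card_pos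
  have hk1 : 1 ≤ k := by
    rcases Nat.eq_zero_or_pos k with h | h
    · rw [h, mul_zero] at hk; omega
    · exact h
  have hkm : k ≤ m := by
    rw [hk, mul_comm] at hgal
    exact Nat.le_of_mul_le_mul_right hgal hCpos
  have hH : Nat.card H = p ^ n - 1 := by omega
  have hh : p ^ n - 1 = k * c * Nat.card A := by
    rw [← hH, hk, hc]; ring
  rw [hH] at h8
  have hmain := Cfsg.H5.NearArith.main p m n (Nat.card A) c k hp hm1 hdim hdvd h2 h4 hc24 hk1 hkm
    h8 hh
  rw [hcardV]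
  rcases hmain with h9 | hmain
  swap
  · exact hmain
  -- the case `|V| = 9`
  exfalso
  have hH8 : Nat.card H = 8 := by omega
  haveI : Fact (Nat.Prime 2) := ⟨Nat.prime_two⟩
  obtain ⟨B, hB⟩ := Sylow.exists_subgroup_card_pow_prime (G := H) 2 (n := 2)
    (by rw [hH8]; norm_num)
  have hBidx : B.index = 2 := by
    have := Subgroup.card_mul_index B
    rw [hB, hH8] at this
    omega
  have hBn : B.Normal := Subgroup.normal_of_index_eq_two hBidx
  have hBc : IsMulCommutative B :=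
    IsPGroup.isMulCommutative_of_card_eq_prime_sq hB
  obtain ⟨U, hU0, hUtop, hUinv⟩ := hI B hBn (hAC B hBc)
  have h1 := Cfsg.H5.NearFinal.card_dvd_card_sub_one hfree B U hUinv
  have hcardU : Nat.card U = p ^ Module.finrank (ZMod p) U := by
    rw [Module.natCard_eq_pow_finrank (K := ZMod p), Nat.card_zmod]
  have hd0 : 0 < Module.finrank (ZMod p) U := by
    rw [Nat.pos_iff_ne_zero]
    intro h0
    exact hU0 (Submodule.finrank_eq_zero.1 h0)
  have hdn : Module.finrank (ZMod p) U < n := by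
    rw [hn]
    exact Submodule.finrank_lt hUtop
  have hx1 : 1 < p ^ Module.finrank (ZMod p) U := Nat.one_lt_pow hd0.ne' hp.one_lt
  have hx2 : p ^ Module.finrank (ZMod p) U < p ^ n := Nat.pow_lt_pow_right hp.one_lt hdn
  have hx3 : p ^ Module.finrank (ZMod p) U ∣ p ^ n := pow_dvd_pow p hdn.le
  rw [hcardU, hB] at h1
  rw [h9] at hx2 hx3
  obtain ⟨x, hx⟩ : ∃ x, x = p ^ Module.finrank (ZMod p) U := ⟨_, rfl⟩
  rw [← hx] at h1 hx1 hx2 hx3
  interval_cases x <;> omega

end Cfsg.Agent.S0688
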