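-- Statement S2904.
import Cfsg.Statements.S2904
import Mathlib

set_option autoImplicit false
open Cfsg Polynomial

namespace Cfsg.Agent.S2904

/-- the integer value `Φ_n(a)` -/
noncomputable def Phi (n a : ℕ) : ℤ := eval (a : ℤ) (cyclotomic n ℤ)

theorem Phi_pos (n a : ℕ) (ha : 1 < a) : 0 < Phi n a := by
  unfold Phi
  exact cyclotomic_pos' n (by exact_mod_cast ha)

theorem Phi_dvd (n a : ℕ) : Phi n a ∣ (a : ℤ) ^ n - 1 := by
  have h := eval_dvd (x := (a : ℤ)) (cyclotomic.dvd_X_pow_sub_one n ℤ)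
  simpa [Phi] using h

theorem Phi_mul_dvd (n d a : ℕ) (hd : d ∈ n.properDivisors) :
    ((a : ℤ) ^ d - 1) * Phi n a ∣ (a : ℤ) ^ n - 1 := by
  have h := eval_dvd (x := (a : ℤ))
    (X_pow_sub_one_mul_cyclotomic_dvd_X_pow_sub_one_of_dvd ℤ hd)
  simpa [Phi] using h

theorem Phi_dvd_geom (n d a : ℕ) (ha : 1 < a) (hd : d ∈ n.properDivisors) :
    Phi n a ∣ ∑ i ∈ Finset.range (n / d), ((a : ℤ) ^ d) ^ i := by
  have h := Phi_mul_dvd n d a hd
  rw [Nat.mem_properDivisors] at hd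
  have hnpos : 0 < n := by omega
  have hdpos : 0 < d := Nat.pos_of_dvd_of_pos hd.1 hnpos
  have hn : d * (n / d) = n := Nat.mul_div_cancel' hd.1
  have h1 : (a : ℤ) ^ n - 1 =
      ((a : ℤ) ^ d - 1) * ∑ i ∈ Finset.range (n / d), ((a : ℤ) ^ d) ^ i := by
    rw [mul_geom_sum, ← pow_mul, hn]
  rw [h1] at h
  have hne : (a : ℤ) ^ d - 1 ≠ 0 := by
    have h2 : (1 : ℤ) < (a : ℤ) ^ d := one_lt_pow₀ (by exact_mod_cast ha) hdpos.ne'
    omega
  exact (mul_dvd_mul_iff_left hne).mp h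

theorem key (n d a q : ℕ) [Fact q.Prime] (ha : 1 < a) (hd : d ∈ n.properDivisors)
    (hq : (q : ℤ) ∣ Phi n a) (hx : ((a : ZMod q)) ^ d = 1) : q ∣ n / d := by
  have h := hq.trans (Phi_dvd_geom n d a ha hd)
  rw [← ZMod.intCast_zmod_eq_zero_iff_dvd] at h
  push_cast at h
  rw [hx] at h
  simp only [one_pow, Finset.sum_const, Finset.card_range, nsmul_eq_mul, mul_one] at h
  exact (ZMod.natCast_eq_zero_iff _ _).1 h

theorem pow_eq_one_of_dvd (n a q : ℕ) [Fact q.Prime] (hq : (q : ℤ) ∣ Phi n a) :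
    ((a : ZMod q)) ^ n = 1 := by
  have h := hq.trans (Phi_dvd n a)
  rw [← ZMod.intCast_zmod_eq_zero_iff_dvd] at h
  push_cast at h
  exact sub_eq_zero.mp h

theorem structure_lemma (n a q : ℕ) [hqF : Fact q.Prime] (hn : 0 < n) (ha : 1 < a)
    (hq : (q : ℤ) ∣ Phi n a) (hne : orderOf (a : ZMod q) ≠ n) :
    ∃ e s : ℕ, n = e * q ^ (s + 1) ∧ e < q ∧ orderOf (a : ZMod q) = e ∧ 0 < e := by
  have hxn := pow_eq_one_of_dvd n a q hq
  have he : orderOf (a : ZMod q) ∣ n := orderOf_dvd_of_pow_eq_one hxn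
  obtain ⟨e, hedef⟩ : ∃ e, e = orderOf (a : ZMod q) := ⟨_, rfl⟩
  rw [← hedef] at he hne
  have hepos : 0 < e := Nat.pos_of_dvd_of_pos he hn
  have helt : e < n := lt_of_le_of_ne (Nat.le_of_dvd hn he) hne
  have hed : e ∈ n.properDivisors := Nat.mem_properDivisors.2 ⟨he, helt⟩
  have hxe : ((a : ZMod q)) ^ e = 1 := by rw [hedef]; exact pow_orderOf_eq_one _
  have h1 : q ∣ n / e := key n e a q ha hed hq hxe
  have hx0 : (a : ZMod q) ≠ 0 := by
    intro h0
    rw [h0, zero_pow hn.ne'] at hxn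
    exact zero_ne_one hxn
  have h2 : e ∣ q - 1 := by
    rw [hedef]; exact orderOf_dvd_of_pow_eq_one (ZMod.pow_card_sub_one_eq_one hx0)
  have hq2 : 2 ≤ q := hqF.out.two_le
  have h3 : e < q := by
    have := Nat.le_of_dvd (by omega) h2
    omega
  have hne' : n = e * (n / e) := (Nat.mul_div_cancel' he).symm
  have h4 : ∀ {ℓ : ℕ}, ℓ.Prime → ℓ ∣ n / e → ℓ = q := by
    intro ℓ hℓ hdvd
    obtain ⟨m, hm⟩ := hdvd
    have hnl : n = ℓ * (e * m) := by
      calc n = e * (n / e) := hne'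
        _ = e * (ℓ * m) := by rw [hm]
        _ = ℓ * (e * m) := by ring
    have hmpos : 0 < e * m := by
      rcases Nat.eq_zero_or_pos (e * m) with h | h
      · rw [h, mul_zero] at hnl; omega
      · exact h
    have hd' : e * m ∈ n.properDivisors := by
      rw [Nat.mem_properDivisors]
      refine ⟨⟨ℓ, by rw [hnl]; ring⟩, ?_⟩
      calc e * m < ℓ * (e * m) := lt_mul_of_one_lt_left hmpos hℓ.one_lt
        _ = n := hnl.symm
    have hx' : ((a : ZMod q)) ^ (e * m) = 1 := by rw [pow_mul, hxe, one_pow]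
    have h5 := key n (e * m) a q ha hd' hq hx'
    rw [Nat.div_eq_of_eq_mul_left hmpos hnl] at h5
    exact ((Nat.prime_dvd_prime_iff_eq hqF.out hℓ).1 h5).symm
  have hne0 : n / e ≠ 0 := (Nat.div_pos (Nat.le_of_dvd hn he) hepos).ne'
  have h5 := Nat.eq_prime_pow_of_unique_prime_dvd hne0 h4
  obtain ⟨k, hk⟩ : ∃ k, k = (n / e).primeFactorsList.length := ⟨_, rfl⟩
  rw [← hk] at h5
  have hk0 : k ≠ 0 := by
    rintro rfl
    rw [pow_zero] at h5
    rw [h5] at h1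
    have := Nat.le_of_dvd one_pos h1
    omega
  obtain ⟨s, hs⟩ : ∃ s, k = s + 1 := ⟨k - 1, by omega⟩
  subst hs
  refine ⟨e, s, ?_, h3, hedef.symm, hepos⟩
  calc n = e * (n / e) := hne'
    _ = e * q ^ (s + 1) := by rw [h5]

theorem prime_le (n e s q ℓ : ℕ) (hq : q.Prime) (hℓ : ℓ.Prime) (hn : n = e * q ^ (s + 1))
    (he : e < q) (hepos : 0 < e) (h : ℓ ∣ n) : ℓ ≤ q := by
  rw [hn] at h
  rcases (Nat.Prime.dvd_mul hℓ).1 h with h1 | h1
  · have := Nat.le_of_dvd hepos h1; omega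
  · have := hℓ.dvd_of_dvd_pow h1
    exact Nat.le_of_dvd hq.pos this

theorem not_sq_dvd (n a q e s : ℕ) [hqF : Fact q.Prime] (hn : 3 ≤ n) (ha : 1 < a)
    (hnes : n = e * q ^ (s + 1)) (heq : e < q) (hepos : 0 < e)
    (hord : orderOf (a : ZMod q) = e) : ¬ (q : ℤ) ^ 2 ∣ Phi n a := by
  intro hdvd
  have hq2 : 2 ≤ q := hqF.out.two_le
  obtain ⟨d, hd⟩ : ∃ d, d = e * q ^ s := ⟨_, rfl⟩
  have hnd : n = d * q := by rw [hnes, hd, pow_succ]; ring
  have hdpos : 0 < d := by rw [hd]; exact Nat.mul_pos hepos (pow_pos (by omega) s)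
  have hdmem : d ∈ n.properDivisors := by
    rw [Nat.mem_properDivisors]
    refine ⟨⟨q, hnd⟩, ?_⟩
    rw [hnd]; nlinarith
  have hndq : n / d = q := Nat.div_eq_of_eq_mul_right hdpos hnd
  have hxe : ((a : ZMod q)) ^ e = 1 := by rw [← hord]; exact pow_orderOf_eq_one _
  have hxd : ((a : ZMod q)) ^ d = 1 := by rw [hd, pow_mul, hxe, one_pow]
  have hS := Phi_dvd_geom n d a ha hdmem
  rw [hndq] at hS
  have hS2 : (q : ℤ) ^ 2 ∣ ∑ i ∈ Finset.range q, ((a : ℤ) ^ d) ^ i := hdvd.trans hS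
  have hc : (q : ℤ) ∣ (a : ℤ) ^ d - 1 := by
    rw [← ZMod.intCast_zmod_eq_zero_iff_dvd]
    push_cast
    rw [hxd, sub_self]
  rcases hqF.out.eq_two_or_odd' with h2 | hodd
  · -- q = 2
    subst h2
    have he1 : e = 1 := by omega
    subst he1
    rw [pow_one] at hxe
    have hodda : Odd a := ZMod.natCast_eq_one_iff_odd.1 hxe
    have hs : s ≠ 0 := by
      rintro rfl
      simp at hnes
      omega
    obtain ⟨s', hs'⟩ : ∃ s', s = s' + 1 := ⟨s - 1, by omega⟩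
    subst hs'
    have hd2 : d = 2 ^ s' * 2 := by rw [hd, pow_succ]; ring
    have hoddb : Odd ((a : ℤ) ^ (2 ^ s')) := Odd.pow (by exact_mod_cast hodda)
    have hsq := Int.sq_mod_four_eq_one_of_odd hoddb
    have hcd : (a : ℤ) ^ d = ((a : ℤ) ^ (2 ^ s')) ^ 2 := by rw [hd2, pow_mul]
    rw [Finset.sum_range_succ, Finset.sum_range_one, pow_zero, pow_one, hcd] at hS2
    have h4 : (4 : ℤ) ∣ 1 + ((a : ℤ) ^ (2 ^ s')) ^ 2 := by
      have : ((2 : ℕ) : ℤ) ^ 2 = 4 := by norm_num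
      rw [this] at hS2
      exact hS2
    omega
  · obtain ⟨m, hm⟩ := hc
    have hcm : (a : ℤ) ^ d = 1 + q * m := by linarith
    have h := odd_sq_dvd_geom_sum₂_sub (R := ℤ) (1 : ℤ) m hodd
    simp only [one_pow, mul_one] at h
    rw [← hcm] at h
    have h3 : (q : ℤ) ^ 2 ∣ (q : ℤ) := by
      have := dvd_sub hS2 h
      simpa using this
    have h4 : (q : ℤ) * q ∣ q * 1 := by simpa [pow_two] using h3
    have hq0 : (q : ℤ) ≠ 0 := by exact_mod_cast (by omega : q ≠ 0)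
    have h5 := (mul_dvd_mul_iff_left hq0).mp h4
    have h6 := Int.eq_one_of_dvd_one (by positivity) h5
    omega

theorem size1 (a m q : ℕ) (ha : 1 < a) (hq : q.Prime) (hqm : q ∣ m) (hm : 0 < m) :
    (q : ℤ) < Phi (m * q) a := by
  have hid := congrArg (eval (a : ℤ)) (cyclotomic_expand_eq_cyclotomic hq hqm ℤ)
  rw [expand_eval] at hid
  have hm1 : 1 < m := lt_of_lt_of_le hq.one_lt (Nat.le_of_dvd hm hqm)
  have haq : a ^ q ≠ 1 := by
    have : 1 < a ^ q := Nat.one_lt_pow hq.ne_zero ha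
    omega
  have h := sub_one_lt_natAbs_cyclotomic_eval hm1 haq
  have hcast : ((a ^ q : ℕ) : ℤ) = (a : ℤ) ^ q := by push_cast; rfl
  rw [hcast, hid] at h
  have hpos := Phi_pos (m * q) a ha
  have h2 : q < a ^ q :=
    calc q < 2 ^ q := Nat.lt_two_pow_self
      _ ≤ a ^ q := Nat.pow_le_pow_left ha q
  have h3 : ((Phi (m * q) a).natAbs : ℤ) = Phi (m * q) a := Int.natAbs_of_nonneg hpos.le
  have h4 : q < (Phi (m * q) a).natAbs := by
    unfold Phi
    omega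
  rw [← h3]
  exact_mod_cast h4

theorem size2 (a e q : ℕ) (ha : 1 < a) (hepos : 0 < e) (hq : q.Prime) (hqe : ¬ q ∣ e)
    (hΦ : Phi (e * q) a = q) : a ^ q ≤ q * (a + 1) + 1 := by
  have hA : (1 : ℝ) < (a : ℝ) := by exact_mod_cast ha
  have hAq : (1 : ℝ) < (a : ℝ) ^ q := one_lt_pow₀ hA hq.ne_zero
  have hid := congrArg (eval (a : ℝ)) (cyclotomic_expand_eq_cyclotomic_mul hq hqe ℝ)
  rw [expand_eval, eval_mul] at hid
  have hcast : eval (a : ℝ) (cyclotomic (e * q) ℝ) = (q : ℝ) := by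
    have h := cyclotomic.eval_apply (a : ℤ) (e * q) (Int.castRingHom ℝ)
    simp only [eq_intCast, Int.cast_natCast] at h
    rw [h]
    have h' : eval (a : ℤ) (cyclotomic (e * q) ℤ) = (q : ℤ) := hΦ
    rw [h']; simp
  rw [hcast] at hid
  have hlow := sub_one_pow_totient_le_cyclotomic_eval hAq e
  have hup := cyclotomic_eval_le_add_one_pow_totient hA e
  have hφ : Nat.totient e ≠ 0 := (Nat.totient_pos.2 hepos).ne'
  by_contra hcon
  push Not at hcon
  have hcon' : (q : ℝ) * ((a : ℝ) + 1) < (a : ℝ) ^ q - 1 := by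
    have h : ((q * (a + 1) + 1 : ℕ) : ℝ) < ((a ^ q : ℕ) : ℝ) := by exact_mod_cast hcon
    push_cast at h
    linarith
  have hq1 : (1 : ℝ) ≤ (q : ℝ) := by exact_mod_cast hq.one_le
  have h1 : ((q : ℝ) * ((a : ℝ) + 1)) ^ e.totient < ((a : ℝ) ^ q - 1) ^ e.totient :=
    pow_lt_pow_left₀ hcon' (by positivity) hφ
  have h2 : (q : ℝ) * ((a : ℝ) + 1) ^ e.totient ≤ ((q : ℝ) * ((a : ℝ) + 1)) ^ e.totient := by
    rw [mul_pow]
    exact mul_le_mul_of_nonneg_right (le_self_pow₀ hq1 hφ) (by positivity)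
  have h3 : (q : ℝ) * eval (a : ℝ) (cyclotomic e ℝ) ≤ (q : ℝ) * ((a : ℝ) + 1) ^ e.totient :=
    mul_le_mul_of_nonneg_left hup (by positivity)
  linarith

theorem size_aux (a : ℕ) (ha : 2 ≤ a) : ∀ q : ℕ, 4 ≤ q → q * (a + 1) + 1 < a ^ q := by
  intro q hq
  induction q, hq using Nat.le_induction with
  | base =>
    have h1 : 4 ≤ a * a := by nlinarith
    have h2 : 8 ≤ a * a * a := by nlinarith
    have h3 : 8 * a ≤ a * a * a * a := Nat.mul_le_mul h2 le_rfl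
    have h4 : a ^ 4 = a * a * a * a := by ring
    rw [h4]; linarith
  | succ q hq ih =>
    have h1 : (q * (a + 1) + 1) * 2 ≤ a ^ q * a := Nat.mul_le_mul ih.le ha
    rw [pow_succ]
    nlinarith

theorem size3 (a q : ℕ) (ha : 2 ≤ a) (hq : 3 ≤ q) (h : a ^ q ≤ q * (a + 1) + 1) :
    a = 2 ∧ q = 3 := by
  rcases Nat.lt_or_ge q 4 with h4 | h4
  · have hq3 : q = 3 := by omega
    subst hq3
    refine ⟨?_, rfl⟩
    by_contra hne
    have ha3 : 3 ≤ a := by omega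
    have h1 : 9 ≤ a * a := by nlinarith
    have h2 : 9 * a ≤ a * a * a := Nat.mul_le_mul h1 le_rfl
    have h3 : a ^ 3 = a * a * a := by ring
    rw [h3] at h
    linarith
  · have := size_aux a ha q h4
    omega

theorem dvd_pow_sub_one_iff (r a k : ℕ) (ha : 0 < a) :
    r ∣ a ^ k - 1 ↔ ((a : ZMod r)) ^ k = 1 := by
  rw [← ZMod.natCast_eq_zero_iff, Nat.cast_sub (Nat.one_le_pow _ _ ha)]
  push_cast
  exact sub_eq_zero

theorem main_ge3 (a n : ℕ) (ha : 1 < a) (hn : 3 ≤ n) (h6 : ¬ (a = 2 ∧ n = 6)) :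
    ∃ r : ℕ, r.Prime ∧ orderOf (a : ZMod r) = n := by
  by_contra hcon
  push Not at hcon
  obtain ⟨N, hN⟩ : ∃ N, N = (Phi n a).natAbs := ⟨_, rfl⟩
  have hΦpos := Phi_pos n a ha
  have hNΦ : (N : ℤ) = Phi n a := by rw [hN]; exact Int.natAbs_of_nonneg hΦpos.le
  have hN2 : a - 1 < N := by
    rw [hN]; exact sub_one_lt_natAbs_cyclotomic_eval (by omega) (by omega)
  have hN1 : N ≠ 1 := by omega
  obtain ⟨q, hq⟩ : ∃ q, q = N.minFac := ⟨_, rfl⟩
  have hqp : q.Prime := by rw [hq]; exact Nat.minFac_prime hN1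
  have : Fact q.Prime := ⟨hqp⟩
  have hqN : q ∣ N := by rw [hq]; exact Nat.minFac_dvd N
  have hqΦ : (q : ℤ) ∣ Phi n a := by rw [← hNΦ]; exact_mod_cast hqN
  obtain ⟨e, s, hnes, heq, hord, hepos⟩ :=
    structure_lemma n a q (by omega) ha hqΦ (hcon q hqp)
  have hqn : q ∣ n := by
    rw [hnes, pow_succ]; exact ⟨e * q ^ s, by ring⟩
  have huniq : ∀ {ℓ : ℕ}, ℓ.Prime → ℓ ∣ N → ℓ = q := by
    intro ℓ hℓ hℓN
    have : Fact ℓ.Prime := ⟨hℓ⟩
    have hℓΦ : (ℓ : ℤ) ∣ Phi n a := by rw [← hNΦ]; exact_mod_cast hℓN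
    obtain ⟨e', s', hnes', heq', hord', hepos'⟩ :=
      structure_lemma n a ℓ (by omega) ha hℓΦ (hcon ℓ hℓ)
    have hℓn : ℓ ∣ n := by
      rw [hnes', pow_succ]; exact ⟨e' * ℓ ^ s', by ring⟩
    have h1 : ℓ ≤ q := prime_le n e s q ℓ hqp hℓ hnes heq hepos hℓn
    have h2 : q ≤ ℓ := prime_le n e' s' ℓ q hℓ hqp hnes' heq' hepos' hqn
    omega
  have hNpow := Nat.eq_prime_pow_of_unique_prime_dvd (by omega : N ≠ 0) huniq
  obtain ⟨t, ht⟩ : ∃ t, t = N.primeFactorsList.length := ⟨_, rfl⟩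
  rw [← ht] at hNpow
  have hnsq : ¬ (q : ℤ) ^ 2 ∣ Phi n a := not_sq_dvd n a q e s hn ha hnes heq hepos hord
  have ht1 : t = 1 := by
    rcases Nat.lt_or_ge t 2 with h | h
    · rcases Nat.eq_zero_or_pos t with h0 | h0
      · rw [h0, pow_zero] at hNpow; exact absurd hNpow hN1
      · omega
    · exfalso; apply hnsq
      rw [← hNΦ, hNpow]; push_cast
      exact pow_dvd_pow _ h
  have hNq : N = q := by rw [hNpow, ht1, pow_one]
  have hΦq : Phi n a = q := by rw [← hNΦ, hNq]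
  rcases Nat.eq_zero_or_pos s with hs | hs
  · subst hs
    rw [zero_add, pow_one] at hnes
    have hqe : ¬ q ∣ e := fun h => by
      have := Nat.le_of_dvd hepos h; omega
    have hsz := size2 a e q ha hepos hqp hqe (by rw [← hnes]; exact hΦq)
    rcases Nat.lt_or_ge q 3 with hq3 | hq3
    · have hq2 : q = 2 := by have := hqp.two_le; omega
      subst hq2
      have he1 : e = 1 := by omega
      omega
    · obtain ⟨ha2, hq3'⟩ := size3 a q ha hq3 hsz
      subst ha2 hq3'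
      have he12 : e = 1 ∨ e = 2 := by omega
      rcases he12 with rfl | rfl
      · -- n = 3
        norm_num at hnes
        subst hnes
        unfold Phi at hΦq
        rw [cyclotomic_three] at hΦq
        norm_num at hΦq
      · exact h6 ⟨rfl, by omega⟩
  · have hm : 0 < e * q ^ s := Nat.mul_pos hepos (pow_pos hqp.pos s)
    have h := size1 a (e * q ^ s) q ha hqp (dvd_mul_of_dvd_right (dvd_pow_self q hs.ne') e) hm
    have hn' : e * q ^ s * q = n := by rw [hnes, pow_succ]; ring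
    rw [hn', hΦq] at h
    exact lt_irrefl _ h

/-- Zsigmondy's Theorem: for natural numbers a > 1 and n > 1 there is a prime dividing aⁿ − 1 that divides aᵏ − 1 for no natural number 0 < k < n, unless a = 2 and n = 6, or n = 2 and a + 1 is a power of two. -/
theorem result (a n : ℕ) (ha : 1 < a) (hn : 1 < n) (h6 : ¬ (a = 2 ∧ n = 6)) (h2 : ¬ (n = 2 ∧ ∃ m : ℕ, a + 1 = 2 ^ m)) : ∃ r : ℕ, r.Prime ∧ r ∣ a ^ n - 1 ∧ ∀ k : ℕ, 0 < k → k < n → ¬ r ∣ a ^ k - 1 := by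
  rcases Nat.lt_or_ge n 3 with h | h
  · have hn2 : n = 2 := by omega
    subst hn2
    have hpow : ¬ ∃ m, a + 1 = 2 ^ m := fun hm => h2 ⟨rfl, hm⟩
    rcases Nat.eq_two_pow_or_exists_odd_prime_and_dvd (a + 1) with hm | ⟨p, hp, hpd, hodd⟩
    · exact absurd hm hpow
    · refine ⟨p, hp, ?_, ?_⟩
      · have h1 : a ^ 2 - 1 = (a - 1) * (a + 1) := by
          obtain ⟨b, rfl⟩ : ∃ b, a = b + 1 := ⟨a - 1, by omega⟩
          have : (b + 1) ^ 2 = (b + 1 - 1) * (b + 1 + 1) + 1 := by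
            simp only [Nat.add_sub_cancel]; ring
          omega
        rw [h1]; exact dvd_mul_of_dvd_right hpd _
      · intro k hk0 hk2 hdiv
        have hk1 : k = 1 := by omega
        subst hk1
        rw [pow_one] at hdiv
        have h3 : p ∣ (a + 1) - (a - 1) := Nat.dvd_sub hpd hdiv
        have h4 : (a + 1) - (a - 1) = 2 := by omega
        rw [h4] at h3
        have h5 := (Nat.prime_dvd_prime_iff_eq hp Nat.prime_two).1 h3
        subst h5
        exact absurd hodd (by decide)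
  · obtain ⟨r, hr, hord⟩ := main_ge3 a n ha h h6
    refine ⟨r, hr, ?_, ?_⟩
    · rw [dvd_pow_sub_one_iff r a n (by omega), ← hord]; exact pow_orderOf_eq_one _
    · intro k hk0 hkn hdiv
      rw [dvd_pow_sub_one_iff r a k (by omega)] at hdiv
      have := orderOf_le_of_pow_eq_one hk0 hdiv
      omega

end Cfsg.Agent.S2904
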