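import Cfsg.Statements.S0622
import Cfsg.Agent.H5.Stable

set_option autoImplicit false
open Cfsg

namespace Cfsg.Agent.S0622

universe u

theorem omegaOne_center_le_omegaCenterThompson {S : Type u} [Group S] [Finite S] (p : ℕ) :
    Cfsg.omegaOne p (Subgroup.center S) ≤ Cfsg.omegaCenterThompson p S := by
  unfold Cfsg.omegaCenterThompson Cfsg.omegaOne
  apply Subgroup.closure_mono
  rintro x ⟨hx, hxp⟩
  have hxc : x ∈ Subgroup.centralizer (Cfsg.thompsonSubgroup p S : Set S) := by
    rw [Subgroup.mem_centralizer_iff]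
    intro y _
    exact Subgroup.mem_center_iff.mp hx y
  exact ⟨⟨Cfsg.H5.mem_thompson_of_mem_centralizer_thompson hxc hxp, hxc⟩, hxp⟩

theorem omegaCenterThompson_mem_stableFamily {S : Type u} [Group S] [Finite S] (p : ℕ) :
    Cfsg.omegaCenterThompson p S ∈ Cfsg.H5.stableFamily p S := by
  refine ⟨omegaOne_center_le_omegaCenterThompson p, ?_⟩
  intro H _ τ hτ
  have h5 : ((Cfsg.thompsonSubgroup p S).map τ).Normal := hτ.2.2.2.2.1
  have := Cfsg.H5.omegaZ_map_injective p τ hτ.1 (Cfsg.thompsonSubgroup p S)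
  show ((Cfsg.H5.omegaZ p (Cfsg.thompsonSubgroup p S)).map τ).Normal
  rw [this]
  exact Cfsg.H5.omegaZ_normal p _

/-- Basic properties of the stable normal closure W(S) of Ω₁(Z(S)) in a finite p-group: characteristic, squeezed between Ω₁(Z(S)) and Ω₁(Z(J(S))), nontrivial for S ≠ 1, and transported by group isomorphisms. -/
theorem result {S : Type u} [Group S] [Finite S] {p : ℕ} [Fact p.Prime] (hS : IsPGroup p S) : (Cfsg.stableNormalClosure p S).Characteristic ∧ Cfsg.omegaOne p (Subgroup.center S) ≤ Cfsg.stableNormalClosure p S ∧ Cfsg.stableNormalClosure p S ≤ Cfsg.omegaCenterThompson p S ∧ (Nontrivial S → Cfsg.stableNormalClosure p S ≠ ⊥) ∧ ∀ (S' : Type u) [Group S'] (η : S ≃* S'), (Cfsg.stableNormalClosure p S).map η.toMonoidHom = Cfsg.stableNormalClosure p S' := by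
  have hle : Cfsg.omegaOne p (Subgroup.center S) ≤ Cfsg.stableNormalClosure p S := by
    rw [Cfsg.H5.stableNormalClosure_eq]
    apply le_sInf
    intro W hW
    exact hW.1
  refine ⟨?_, hle, ?_, ?_, ?_⟩
  · rw [Subgroup.characteristic_iff_map_eq]
    intro φ
    exact Cfsg.H5.stableNormalClosure_map_equiv p φ
  · rw [Cfsg.H5.stableNormalClosure_eq]
    exact sInf_le (omegaCenterThompson_mem_stableFamily p)
  · intro hnt hbot
    have hZ := hS.center_nontrivial
    have hdvd : p ∣ Nat.card (Subgroup.center S) := by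
      rcases (hS.to_subgroup (Subgroup.center S)).card_eq_or_dvd with h | h
      · exfalso
        have : Subsingleton (Subgroup.center S) := (Nat.card_eq_one_iff_unique.mp h).1
        exact not_subsingleton _ this
      · exact h
    obtain ⟨⟨z, hz⟩, hzo⟩ := exists_prime_orderOf_dvd_card' (G := Subgroup.center S) p hdvd
    have hzo' : orderOf z = p := by
      rw [← hzo]; exact (Subgroup.orderOf_mk z hz).symm
    have hzp : z ^ p = 1 := by rw [← hzo']; exact pow_orderOf_eq_one z
    have hmem : z ∈ Cfsg.omegaOne p (Subgroup.center S) := Subgroup.subset_closure ⟨hz, hzp⟩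
    have := hle hmem
    rw [hbot, Subgroup.mem_bot] at this
    rw [this, orderOf_one] at hzo'
    exact (Fact.out : p.Prime).one_lt.ne hzo'
  · intro S' _ η
    exact Cfsg.H5.stableNormalClosure_map_equiv p η

end Cfsg.Agent.S0622
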