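import Cfsg.Statements.S0623
import Cfsg.Agent.S0622
import Cfsg.Agent.H5.Cores
import Cfsg.Agent.H5.Stable

set_option autoImplicit false
open Cfsg
open scoped commutatorElement

namespace Cfsg.Agent.S0623

universe u

/-- quadratic action, elementwise -/
theorem quad_iff {H : Type*} [Group H] (V : Subgroup H) (a : H) :
    ⁅⁅V, Subgroup.zpowers a⁆, Subgroup.zpowers a⁆ = ⊥ ↔
      ∀ v ∈ V, ∀ g ∈ Subgroup.zpowers a, ∀ g' ∈ Subgroup.zpowers a, ⁅⁅v, g⁆, g'⁆ = 1 := by
  constructor
  · intro h v hv g hg g' hg'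
    have h1 : ⁅⁅v, g⁆, g'⁆ ∈ ⁅⁅V, Subgroup.zpowers a⁆, Subgroup.zpowers a⁆ :=
      Subgroup.commutator_mem_commutator (Subgroup.commutator_mem_commutator hv hg) hg'
    rw [h] at h1
    exact Subgroup.mem_bot.mp h1
  · intro h
    rw [eq_bot_iff, Subgroup.commutator_le]
    intro u hu g' hg'
    rw [Subgroup.mem_bot]
    have hle : ⁅V, Subgroup.zpowers a⁆ ≤ Subgroup.centralizer ({g'} : Set H) := by
      rw [Subgroup.commutator_le]
      intro v hv g hg
      rw [Subgroup.mem_centralizer_iff]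
      intro k hk
      rw [Set.mem_singleton_iff] at hk
      rw [hk]
      exact ((commutatorElement_eq_one_iff_mul_comm).mp (h v hv g hg g' hg')).symm
    have h3 := hle hu
    rw [Subgroup.mem_centralizer_iff] at h3
    have h2 := h3 g' (Set.mem_singleton g')
    exact commutatorElement_eq_one_iff_mul_comm.mpr h2.symm

theorem comm_eq_of_mem_centralizer {H : Type*} [Group H] {V : Subgroup H} {v g g' : H} (hv : v ∈ V)
    (hc : g⁻¹ * g' ∈ Subgroup.centralizer (V : Set H)) : ⁅v, g'⁆ = ⁅v, g⁆ := by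
  have h1 : v⁻¹ * (g⁻¹ * g') = (g⁻¹ * g') * v⁻¹ :=
    (Subgroup.mem_centralizer_iff.mp hc) v⁻¹ (V.inv_mem hv)
  simp only [commutatorElement_def]
  calc v * g' * v⁻¹ * g'⁻¹ = v * (g * ((g⁻¹ * g') * v⁻¹) * g'⁻¹) := by group
    _ = v * (g * (v⁻¹ * (g⁻¹ * g')) * g'⁻¹) := by rw [h1]
    _ = v * g * v⁻¹ * g⁻¹ := by group

theorem quad_of_mk_eq {H : Type*} [Group H] (V : Subgroup H) [hVn : V.Normal] {a s : H}
    (ha : ⁅⁅V, Subgroup.zpowers a⁆, Subgroup.zpowers a⁆ = ⊥)
    (h : s⁻¹ * a ∈ Subgroup.centralizer (V : Set H)) :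
    ⁅⁅V, Subgroup.zpowers s⁆, Subgroup.zpowers s⁆ = ⊥ := by
  rw [quad_iff] at ha ⊢
  have key : ∀ i : ℤ, (a ^ i)⁻¹ * s ^ i ∈ Subgroup.centralizer (V : Set H) := by
    intro i
    have h1 : (QuotientGroup.mk s : H ⧸ Subgroup.centralizer (V : Set H)) = QuotientGroup.mk a :=
      QuotientGroup.eq.mpr h
    have h2 : (QuotientGroup.mk (a ^ i) : H ⧸ Subgroup.centralizer (V : Set H)) =
        QuotientGroup.mk (s ^ i) := by
      rw [QuotientGroup.mk_zpow, QuotientGroup.mk_zpow, h1]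
    exact QuotientGroup.eq.mp h2
  intro v hv g hg g' hg'
  obtain ⟨i, rfl⟩ := Subgroup.mem_zpowers_iff.mp hg
  obtain ⟨j, rfl⟩ := Subgroup.mem_zpowers_iff.mp hg'
  have hu : ⁅v, a ^ i⁆ ∈ V := by
    rw [commutatorElement_def]
    have h3 := hVn.conj_mem v⁻¹ (V.inv_mem hv) (a ^ i)
    have e : v * a ^ i * v⁻¹ * (a ^ i)⁻¹ = v * (a ^ i * v⁻¹ * (a ^ i)⁻¹) := by group
    rw [e]; exact V.mul_mem hv h3
  have e1 : ⁅v, s ^ i⁆ = ⁅v, a ^ i⁆ := comm_eq_of_mem_centralizer hv (key i)
  have e2 : ⁅⁅v, a ^ i⁆, s ^ j⁆ = ⁅⁅v, a ^ i⁆, a ^ j⁆ := comm_eq_of_mem_centralizer hu (key j)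
  rw [e1, e2]
  exact ha v hv _ (Subgroup.zpow_mem_zpowers a i) _ (Subgroup.zpow_mem_zpowers a j)

/-- the stable normal closure is itself a member of its defining family: its image under a stable
embedding is normal. -/
theorem map_normal {S : Type u} [Group S] [Finite S] (p : ℕ) {H : Type u} [Group H] (τ : S →* H)
    (hτ : Cfsg.IsStableEmbedding p τ) : ((Cfsg.stableNormalClosure p S).map τ).Normal := by
  have hinj := hτ.1
  constructor
  intro n hn h
  obtain ⟨w, hw, rfl⟩ := hn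
  have h0 := Cfsg.Agent.S0622.omegaCenterThompson_mem_stableFamily (S := S) p
  have hn0 := h0.2 H τ hτ
  have hw0 : w ∈ Cfsg.omegaCenterThompson p S :=
    (sInf_le h0 : Cfsg.stableNormalClosure p S ≤ Cfsg.omegaCenterThompson p S) hw
  obtain ⟨w₀, hw₀, hw₀e⟩ := hn0.conj_mem (τ w) (Subgroup.mem_map_of_mem τ hw0) h
  refine ⟨w₀, ?_, hw₀e⟩
  show w₀ ∈ sInf (Cfsg.H5.stableFamily p S)
  rw [Subgroup.mem_sInf]
  intro W' hW'
  have hn' := hW'.2 H τ hτ
  have hwW' : w ∈ W' := (sInf_le hW' : Cfsg.stableNormalClosure p S ≤ W') hw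
  obtain ⟨w', hw', hw'e⟩ := hn'.conj_mem (τ w) (Subgroup.mem_map_of_mem τ hwW') h
  have hww : w' = w₀ := hinj (hw'e.trans hw₀e.symm)
  rw [← hww]; exact hw'

/-- No element of a finite p-group acts quadratically and nontrivially on the stable normal closure W(S). -/
theorem result {S : Type*} [Group S] [Finite S] {p : ℕ} [Fact p.Prime] (hS : IsPGroup p S) (x : S) (hq : ⁅⁅Cfsg.stableNormalClosure p S, Subgroup.zpowers x⁆, Subgroup.zpowers x⁆ = ⊥) : ⁅Cfsg.stableNormalClosure p S, Subgroup.zpowers x⁆ = ⊥ := by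
  obtain ⟨-, hle, hWJ, -, -⟩ := Cfsg.Agent.S0622.result hS
  -- the set of elements acting quadratically on W
  obtain ⟨Qset, hQset⟩ : ∃ Q : Set S, Q = {y : S | ⁅⁅Cfsg.stableNormalClosure p S, Subgroup.zpowers y⁆,
      Subgroup.zpowers y⁆ = ⊥} := ⟨_, rfl⟩
  have hmem : Cfsg.stableNormalClosure p S ⊓ Subgroup.centralizer Qset ∈ Cfsg.H5.stableFamily p S := by
    refine ⟨le_inf hle ?_, ?_⟩
    · unfold Cfsg.omegaOne
      rw [Subgroup.closure_le]
      intro z hz
      exact Subgroup.center_le_centralizer _ hz.1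
    · intro H _ τ hτ
      have hVn := map_normal p τ hτ
      obtain ⟨hinj, hfin, ⟨P, hP⟩, -, -, hst⟩ := hτ
      haveI := hfin
      have hVle : (Cfsg.stableNormalClosure p S).map τ ≤ (Cfsg.omegaCenterThompson p S).map τ :=
        Subgroup.map_mono hWJ
      have hstV := hst ((Cfsg.stableNormalClosure p S).map τ) hVle
      constructor
      intro n hn h
      obtain ⟨w, hw, rfl⟩ := hn
      obtain ⟨hwW, hwC⟩ := Subgroup.mem_inf.mp hw
      obtain ⟨w', hw'W, hw'e⟩ := hVn.conj_mem (τ w) (Subgroup.mem_map_of_mem τ hwW) h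
      refine ⟨w', Subgroup.mem_inf.mpr ⟨hw'W, ?_⟩, hw'e⟩
      rw [Subgroup.mem_centralizer_iff]
      intro y hy
      apply hinj
      rw [map_mul, map_mul, hw'e]
      rw [hQset] at hy
      have hy' : ⁅⁅Cfsg.stableNormalClosure p S, Subgroup.zpowers y⁆, Subgroup.zpowers y⁆ = ⊥ := hy
      -- the image of y acts quadratically on V
      have hyτ : ⁅⁅(Cfsg.stableNormalClosure p S).map τ, Subgroup.zpowers (τ y)⁆,
          Subgroup.zpowers (τ y)⁆ = ⊥ := by
        have h1 := congrArg (Subgroup.map τ) hy'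
        rwa [Subgroup.map_bot, Subgroup.map_commutator, Subgroup.map_commutator,
          MonoidHom.map_zpowers] at h1
      -- so does its conjugate a
      obtain ⟨a, ha⟩ : ∃ a, a = h⁻¹ * τ y * h := ⟨_, rfl⟩
      have haq : ⁅⁅(Cfsg.stableNormalClosure p S).map τ, Subgroup.zpowers a⁆,
          Subgroup.zpowers a⁆ = ⊥ := by
        have h1 := congrArg (Subgroup.map (MulAut.conj h⁻¹).toMonoidHom) hyτ
        have hVφ : ((Cfsg.stableNormalClosure p S).map τ).map (MulAut.conj h⁻¹).toMonoidHom =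
            (Cfsg.stableNormalClosure p S).map τ :=
          Subgroup.Normal.conj_smul_eq_self h⁻¹ ((Cfsg.stableNormalClosure p S).map τ)
        have hae : (MulAut.conj h⁻¹).toMonoidHom (τ y) = a := by
          rw [ha]
          simp
        rwa [Subgroup.map_bot, Subgroup.map_commutator, Subgroup.map_commutator,
          MonoidHom.map_zpowers, hVφ, hae] at h1
      -- stability puts a in O_p modulo the centralizer
      have hmk := hstV a haq
      have hn := Cfsg.H5.pCore_normal p (H ⧸ Subgroup.centralizer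
        (((Cfsg.stableNormalClosure p S).map τ : Subgroup H) : Set H))
      have hD := (Cfsg.H5.pCore_isPGroup p (H ⧸ Subgroup.centralizer
        (((Cfsg.stableNormalClosure p S).map τ : Subgroup H) : Set H))).le_sylow_of_normal
          (P.mapSurjective (QuotientGroup.mk'_surjective (Subgroup.centralizer
            (((Cfsg.stableNormalClosure p S).map τ : Subgroup H) : Set H))))
      have hy2 := hD hmk
      rw [← SetLike.mem_coe, Sylow.coe_mapSurjective] at hy2
      obtain ⟨s, hs, hsx⟩ := hy2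
      have hc : s⁻¹ * a ∈ Subgroup.centralizer
          (((Cfsg.stableNormalClosure p S).map τ : Subgroup H) : Set H) := by
        rw [← QuotientGroup.eq]; exact hsx
      have hs' : s ∈ (P : Subgroup H) := hs
      rw [hP] at hs'
      obtain ⟨y', hy'e⟩ := hs'
      have hsq := quad_of_mk_eq ((Cfsg.stableNormalClosure p S).map τ) haq hc
      have hy'Q : y' ∈ Qset := by
        rw [hQset]
        show ⁅⁅Cfsg.stableNormalClosure p S, Subgroup.zpowers y'⁆, Subgroup.zpowers y'⁆ = ⊥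
        apply Subgroup.map_injective hinj
        rw [Subgroup.map_bot, Subgroup.map_commutator, Subgroup.map_commutator,
          MonoidHom.map_zpowers, hy'e]
        exact hsq
      have h5 : y' * w = w * y' := (Subgroup.mem_centralizer_iff.mp hwC) y' hy'Q
      have h6 : s * τ w = τ w * s := by
        rw [← hy'e, ← map_mul, ← map_mul, h5]
      have h7 : τ w * (s⁻¹ * a) = (s⁻¹ * a) * τ w :=
        (Subgroup.mem_centralizer_iff.mp hc) (τ w) (Subgroup.mem_map_of_mem τ hwW)
      have hcomm : a * τ w = τ w * a := by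
        calc a * τ w = s * ((s⁻¹ * a) * τ w) := by group
          _ = s * (τ w * (s⁻¹ * a)) := by rw [h7]
          _ = (s * τ w) * (s⁻¹ * a) := by group
          _ = (τ w * s) * (s⁻¹ * a) := by rw [h6]
          _ = τ w * a := by group
      calc τ y * (h * τ w * h⁻¹) = h * ((h⁻¹ * τ y * h) * τ w) * h⁻¹ := by group
        _ = h * (a * τ w) * h⁻¹ := by rw [ha]
        _ = h * (τ w * a) * h⁻¹ := by rw [hcomm]
        _ = h * (τ w * (h⁻¹ * τ y * h)) * h⁻¹ := by rw [ha]
        _ = h * τ w * h⁻¹ * τ y := by group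
  have hWle : Cfsg.stableNormalClosure p S ≤
      Cfsg.stableNormalClosure p S ⊓ Subgroup.centralizer Qset := by
    conv_lhs => rw [Cfsg.H5.stableNormalClosure_eq]
    exact sInf_le hmem
  have hxQ : x ∈ Qset := by rw [hQset]; exact hq
  rw [eq_bot_iff, Subgroup.commutator_le]
  intro w hw g hg
  rw [Subgroup.mem_bot]
  obtain ⟨i, rfl⟩ := Subgroup.mem_zpowers_iff.mp hg
  have hwc := (Subgroup.mem_inf.mp (hWle hw)).2
  have h1 : x * w = w * x := (Subgroup.mem_centralizer_iff.mp hwc) x hxQ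
  have h2 : Commute x w := h1
  rw [commutatorElement_eq_one_iff_mul_comm]
  exact ((h2.zpow_left i).eq).symm

end Cfsg.Agent.S0623
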