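import Mathlib
import Cfsg.Statements.S3766
import Cfsg.Agent.Lib.Helper1.Basic
import Cfsg.Agent.Lib.Helper1.Cores

set_option autoImplicit false
open Cfsg

namespace Cfsg.Agent.S3766

open Subgroup Cfsg.Agent.Lib.Helper1
open scoped commutatorElement

variable {G : Type*} [Group G]

/-- `U / V` is a chief factor of `G`. -/
def Chief (U V : Subgroup G) : Prop :=
  U.Normal ∧ V.Normal ∧ V < U ∧ ∀ W : Subgroup G, W.Normal → V ≤ W → W ≤ U → W = V ∨ W = U

/-- The elements whose commutators with `K` land in the normal subgroup `T`. -/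
def commSub (K T : Subgroup G) [hT : T.Normal] : Subgroup G where
  carrier := {x | ∀ k ∈ K, ⁅x, k⁆ ∈ T}
  one_mem' := fun k _ => by simp
  mul_mem' := by
    intro x y hx hy k hk
    have h1 : ⁅x * y, k⁆ = x * ⁅y, k⁆ * x⁻¹ * ⁅x, k⁆ := by
      simp only [commutatorElement_def]; group
    rw [h1]; exact mul_mem (hT.conj_mem _ (hy k hk) x) (hx k hk)
  inv_mem' := by
    intro x hx k hk
    have h1 : ⁅x⁻¹, k⁆ = x⁻¹ * ⁅x, k⁆⁻¹ * x⁻¹⁻¹ := by
      simp only [commutatorElement_def]; group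
    rw [h1]; exact hT.conj_mem _ (inv_mem (hx k hk)) x⁻¹

theorem mem_commSub {K T : Subgroup G} [T.Normal] {x : G} :
    x ∈ commSub K T ↔ ∀ k ∈ K, ⁅x, k⁆ ∈ T := Iff.rfl

instance commSub_normal (K T : Subgroup G) [hK : K.Normal] [hT : T.Normal] :
    (commSub K T).Normal := by
  refine ⟨fun x hx t => ?_⟩
  rw [mem_commSub] at hx ⊢
  intro k hk
  have h1 : ⁅t * x * t⁻¹, k⁆ = t * ⁅x, t⁻¹ * k * t⁻¹⁻¹⁆ * t⁻¹ := by
    simp only [commutatorElement_def]; group
  rw [h1]
  exact hT.conj_mem _ (hx _ (hK.conj_mem _ hk t⁻¹)) t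

theorem sup_commutator_le {V C K T : Subgroup G} [T.Normal] (h1 : ⁅V, K⁆ ≤ T)
    (h2 : ⁅C, K⁆ ≤ T) : ⁅V ⊔ C, K⁆ ≤ T := by
  have hV : V ≤ commSub K T := fun v hv k hk => h1 (commutator_mem_commutator hv hk)
  have hC : C ≤ commSub K T := fun c hc k hk => h2 (commutator_mem_commutator hc hk)
  rw [commutator_le]
  intro x hx k hk
  exact (sup_le hV hC hx) k hk

theorem lcs_normal (K : Subgroup G) [K.Normal] : ∀ n, (K.lowerCentralSeries n).Normal
  | 0 => by rw [Subgroup.lowerCentralSeries_zero]; infer_instance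
  | n + 1 => by
    haveI := lcs_normal K n
    rw [Subgroup.lowerCentralSeries_succ]; infer_instance

theorem le_sup_lcs {U V K : Subgroup G} [U.Normal] [V.Normal] [K.Normal]
    (hU : U ≤ V ⊔ ⁅U, K⁆) : ∀ n, U ≤ V ⊔ K.lowerCentralSeries n
  | 0 => hU.trans (sup_le_sup_left (commutator_le_right U K) V)
  | n + 1 => by
    haveI := lcs_normal K n
    have ih := le_sup_lcs hU n
    refine hU.trans (sup_le le_sup_left ?_)
    refine (commutator_mono ih le_rfl).trans ?_
    rw [Subgroup.lowerCentralSeries_succ]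
    exact sup_commutator_le ((commutator_le_left V K).trans le_sup_left) le_sup_right

/-- A nilpotent normal subgroup centralizes every chief factor. -/
theorem centralizes_chief {K U V : Subgroup G} [K.Normal]
    (hK : ∃ n, K.lowerCentralSeries n = ⊥) (hc : Chief U V) : ⁅U, K⁆ ≤ V := by
  obtain ⟨hUn, hVn, hlt, hmax⟩ := hc
  haveI := hUn
  haveI := hVn
  rcases hmax (V ⊔ ⁅U, K⁆) inferInstance le_sup_left
    (sup_le hlt.le (commutator_le_left U K)) with h | h
  · exact le_sup_right.trans h.le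
  · exfalso
    obtain ⟨n, hn⟩ := hK
    have h1 := le_sup_lcs (U := U) (V := V) (K := K) h.ge n
    rw [hn, sup_bot_eq] at h1
    exact not_le_of_gt hlt h1

theorem exists_iterate_eq_bot [Finite G] {E F : Subgroup G}
    (hE : ∀ U V, Chief U V → U ≤ F → ⁅U, E⁆ ≤ V) :
    ∀ (n : ℕ) (M : Subgroup G), Nat.card M = n → M.Normal → M ≤ F →
      ∃ j, (fun H : Subgroup G => ⁅H, E⁆)^[j] M = ⊥ := by
  intro n
  induction n using Nat.strong_induction_on with
  | _ n ih =>
  intro M hcard hMn hMF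
  by_cases hM : M = ⊥
  · exact ⟨0, hM⟩
  have hfin : {V : Subgroup G | V.Normal ∧ V < M}.Finite := Set.toFinite _
  have hne : {V : Subgroup G | V.Normal ∧ V < M}.Nonempty :=
    ⟨⊥, inferInstance, bot_lt_iff_ne_bot.mpr hM⟩
  obtain ⟨V, ⟨hVn, hVlt⟩, hVmax⟩ := hfin.exists_maximal hne
  have hchief : Chief M V := ⟨hMn, hVn, hVlt, fun W hWn hVW hWM => by
    by_cases hW : W = M
    · exact Or.inr hW
    · left
      exact le_antisymm (hVmax ⟨hWn, lt_of_le_of_ne hWM hW⟩ hVW) hVW⟩
  have h1 := hE M V hchief hMF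
  obtain ⟨j, hj⟩ := ih (Nat.card V) (hcard ▸ card_lt_of_lt hVlt) V rfl hVn (hVlt.le.trans hMF)
  refine ⟨j + 1, ?_⟩
  rw [Function.iterate_succ_apply]
  have hmono : Monotone (fun H : Subgroup G => ⁅H, E⁆) :=
    fun A B hAB => commutator_mono hAB le_rfl
  exact le_bot_iff.mp ((hmono.iterate j h1).trans hj.le)

theorem lcs_le_iterate {E F : Subgroup G} (h : ⁅E, E⁆ ≤ F) :
    ∀ j, E.lowerCentralSeries (j + 1) ≤ (fun H : Subgroup G => ⁅H, E⁆)^[j] F
  | 0 => h
  | j + 1 => by
    rw [Function.iterate_succ_apply', Subgroup.lowerCentralSeries_succ]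
    exact commutator_mono (lcs_le_iterate h j) le_rfl

section Final

variable [Finite G]

/-- `F(N)` as a subgroup of `G`. -/
abbrev FN (N : Subgroup G) : Subgroup G := (Cfsg.fittingSubgroup ↥N).map N.subtype

theorem FN_normal (N : Subgroup G) [N.Normal] : (FN N).Normal := by
  haveI := fittingSubgroup_characteristic (G := ↥N)
  exact ConjAct.normal_of_characteristic_of_normal

theorem FN_nilpotent (N : Subgroup G) : ∃ n, (FN N).lowerCentralSeries n = ⊥ := by
  have h := fittingSubgroup_isNilpotent (G := ↥N)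
  obtain ⟨n, hn⟩ := (Subgroup.isNilpotent_iff_lowerCentralSeries _).mp h
  refine ⟨n, ?_⟩
  rw [FN, ← Subgroup.map_lowerCentralSeries, hn, Subgroup.map_bot]

theorem le_FN_of_nilpotent (N : Subgroup G) {A : Subgroup G} [A.Normal] (hAN : A ≤ N)
    (hA : ∃ n, A.lowerCentralSeries n = ⊥) : A ≤ FN N := by
  have hnil : Group.IsNilpotent ↥A := (Subgroup.isNilpotent_iff_lowerCentralSeries A).mpr hA
  have hnil' : Group.IsNilpotent ↥(A.subgroupOf N) :=
    (Group.isNilpotent_congr (Subgroup.subgroupOfEquivOfLe hAN)).mpr hnil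
  have hnorm : (A.subgroupOf N).Normal := inferInstance
  have h1 := le_fittingSubgroup hnorm hnil'
  have h2 := Subgroup.map_mono (f := N.subtype) h1
  rwa [Subgroup.map_subgroupOf_eq_of_le hAN] at h2

theorem le_FN_aux [Group.IsSolvable G] (N : Subgroup G) [N.Normal] :
    ∀ (n : ℕ) (A : Subgroup G), Nat.card A = n → A.Normal → A ≤ N →
      (∀ U V, Chief U V → U ≤ FN N → ⁅U, A⁆ ≤ V) → A ≤ FN N := by
  intro n
  induction n using Nat.strong_induction_on with
  | _ n ih =>
  intro A hcard hAn hAN hA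
  haveI := hAn
  by_cases hA1 : A = ⊥
  · rw [hA1]; exact bot_le
  have hlt : ⁅A, A⁆ < A := Group.IsSolvable.commutator_lt_of_ne_bot hA1
  have hDF : ⁅A, A⁆ ≤ FN N :=
    ih _ (hcard ▸ card_lt_of_lt hlt) ⁅A, A⁆ rfl inferInstance (hlt.le.trans hAN)
      (fun U V hc hU => (commutator_mono le_rfl hlt.le).trans (hA U V hc hU))
  haveI := FN_normal N
  obtain ⟨j, hj⟩ := exists_iterate_eq_bot hA _ (FN N) rfl inferInstance le_rfl
  apply le_FN_of_nilpotent N hAN
  exact ⟨j + 1, le_bot_iff.mp ((lcs_le_iterate hDF j).trans hj.le)⟩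

end Final

/-- Let G be a finite solvable group and N a normal subgroup of G. Call a pair V < U of normal subgroups of G a chief factor of G when no normal subgroup of G lies strictly between them; an element g centralizes the chief factor U/V when u g u⁻¹ g⁻¹ ∈ V for all u ∈ U. Then an element of G lies in the Fitting subgroup F(N) if and only if it lies in N and centralizes every chief factor of G; and also if and only if it lies in N and centralizes every chief factor U/V of G with U ≤ F(N). -/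
theorem result {G : Type*} [Group G] [Finite G] (hG : Group.IsSolvable G) (N : Subgroup G) [N.Normal] (g : G) : (g ∈ (Cfsg.fittingSubgroup ↥N).map N.subtype ↔ g ∈ N ∧ ∀ U V : Subgroup G, (U.Normal ∧ V.Normal ∧ V < U ∧ ∀ W : Subgroup G, W.Normal → V ≤ W → W ≤ U → W = V ∨ W = U) → ∀ u ∈ U, u * g * u⁻¹ * g⁻¹ ∈ V) ∧ (g ∈ (Cfsg.fittingSubgroup ↥N).map N.subtype ↔ g ∈ N ∧ ∀ U V : Subgroup G, (U.Normal ∧ V.Normal ∧ V < U ∧ ∀ W : Subgroup G, W.Normal → V ≤ W → W ≤ U → W = V ∨ W = U) → U ≤ (Cfsg.fittingSubgroup ↥N).map N.subtype → ∀ u ∈ U, u * g * u⁻¹ * g⁻¹ ∈ V) := by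
  haveI := hG
  have hA : g ∈ FN N → g ∈ N ∧ ∀ U V, Chief U V → ∀ u ∈ U, u * g * u⁻¹ * g⁻¹ ∈ V := by
    intro hg
    refine ⟨map_subtype_le _ hg, fun U V hc u hu => ?_⟩
    haveI := FN_normal N
    have h1 := centralizes_chief (FN_nilpotent N) hc
    have h2 := h1 (commutator_mem_commutator hu hg)
    rwa [commutatorElement_def] at h2
  have hB : (g ∈ N ∧ ∀ U V, Chief U V → U ≤ FN N → ∀ u ∈ U, u * g * u⁻¹ * g⁻¹ ∈ V) →
      g ∈ FN N := by
    rintro ⟨hgN, hg⟩
    set A := normalClosure ({g} : Set G) with hAdef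
    have hAN : A ≤ N := normalClosure_le_normal (by simpa using hgN)
    have hAc : ∀ U V, Chief U V → U ≤ FN N → ⁅U, A⁆ ≤ V := by
      intro U V hc hU
      obtain ⟨hUn, hVn, -, -⟩ := id hc
      haveI := hUn
      haveI := hVn
      have h1 : A ≤ commSub U V := by
        apply normalClosure_le_normal
        rw [Set.singleton_subset_iff]
        show g ∈ commSub U V
        rw [mem_commSub]
        intro u hu
        have h2 := hg U V hc hU u hu
        have h3 : ⁅g, u⁆ = (u * g * u⁻¹ * g⁻¹)⁻¹ := by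
          simp only [commutatorElement_def]; group
        rw [h3]; exact inv_mem h2
      rw [commutator_le]
      intro u hu a ha
      have h2 := mem_commSub.mp (h1 ha) u hu
      have h3 : ⁅u, a⁆ = ⁅a, u⁆⁻¹ := by
        simp only [commutatorElement_def]; group
      rw [h3]; exact inv_mem h2
    exact le_FN_aux N _ A rfl inferInstance hAN hAc (subset_normalClosure (Set.mem_singleton g))
  exact ⟨⟨hA, fun h => hB ⟨h.1, fun U V hc _ => h.2 U V hc⟩⟩,
    ⟨fun h => ⟨(hA h).1, fun U V hc _ => (hA h).2 U V hc⟩, hB⟩⟩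

end Cfsg.Agent.S3766
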