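import Mathlib
import Cfsg.Statements.S2003
import Cfsg.Agent.S3766
import Cfsg.Agent.Lib.Helper1.Basic
import Cfsg.Agent.Lib.Helper20.IterComm

set_option autoImplicit false
open Cfsg

namespace Cfsg.Agent.S2003

open Subgroup Cfsg.Agent.Lib.Helper20.IterComm
open scoped commutatorElement

section Aux

variable {G : Type*} [Group G]

theorem le_normalizer_of_normal (N K : Subgroup G) [hN : N.Normal] :
    K ≤ normalizer (N : Set G) := by
  intro k _
  rw [mem_normalizer_iff]
  intro u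
  refine ⟨fun h => hN.conj_mem _ h k, fun h => ?_⟩
  have := hN.conj_mem _ h k⁻¹
  have e : k⁻¹ * (k * u * k⁻¹) * k⁻¹⁻¹ = u := by group
  rwa [e] at this

theorem exists_next [Finite G] (Z X : Subgroup G) (hX : X.Normal) (hZ : Z.Normal)
    (hc : Z ≤ X ∨ X ≤ Z) :
    ∃ Y : Subgroup G, Y.Normal ∧ Y ≤ X ∧ (Y = X ∨ Cfsg.IsChiefFactor X Y) ∧ (X ≤ Z ∨ Z ≤ Y) ∧
      (Z ≤ Y ∨ Y ≤ Z) ∧ (X ≠ ⊥ → Nat.card Y < Nat.card X) := by
  by_cases h1 : Z < X
  · obtain ⟨Y, ⟨hYn, hZY, hYX⟩, hYmax⟩ := Set.exists_max_image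
      {Y : Subgroup G | Y.Normal ∧ Z ≤ Y ∧ Y < X} (fun Y => Nat.card Y) (Set.toFinite _)
      ⟨Z, hZ, le_rfl, h1⟩
    refine ⟨Y, hYn, hYX.le, Or.inr ⟨hYX, hX, hYn, ?_⟩, Or.inr hZY, Or.inl hZY,
      fun _ => Cfsg.Agent.Lib.Helper1.card_lt_of_lt hYX⟩
    intro N hN hYN hNX
    by_cases hNe : N = X
    · exact Or.inr hNe
    · left
      have := hYmax N ⟨hN, hZY.trans hYN, lt_of_le_of_ne hNX hNe⟩
      exact (Subgroup.eq_of_le_of_card_ge hYN this).symm
  · have hXZ : X ≤ Z := by
      rcases hc with h | h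
      · by_contra hne
        exact h1 (lt_of_le_of_ne h (fun he => hne (he ▸ le_rfl)))
      · exact h
    by_cases h2 : X = ⊥
    · exact ⟨X, hX, le_rfl, Or.inl rfl, Or.inl hXZ, Or.inr hXZ, fun h => absurd h2 h⟩
    · obtain ⟨Y, ⟨hYn, hYX⟩, hYmax⟩ := Set.exists_max_image
        {Y : Subgroup G | Y.Normal ∧ Y < X} (fun Y => Nat.card Y) (Set.toFinite _)
        ⟨⊥, inferInstance, bot_lt_iff_ne_bot.mpr h2⟩
      refine ⟨Y, hYn, hYX.le, Or.inr ⟨hYX, hX, hYn, ?_⟩, Or.inl hXZ, Or.inr (hYX.le.trans hXZ),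
        fun _ => Cfsg.Agent.Lib.Helper1.card_lt_of_lt hYX⟩
      intro N hN hYN hNX
      by_cases hNe : N = X
      · exact Or.inr hNe
      · left
        have := hYmax N ⟨hN, lt_of_le_of_ne hNX hNe⟩
        exact (Subgroup.eq_of_le_of_card_ge hYN this).symm

theorem exists_chain [Finite G] (Z Q : Subgroup G) (hZ : Z.Normal) (hQ : Q.Normal) (hZQ : Z ≤ Q) :
    ∃ C : ℕ → Subgroup G, C 0 = Q ∧ (∀ a, (C a).Normal) ∧ (∀ a, C (a + 1) ≤ C a) ∧
      (∀ a, C (a + 1) = C a ∨ Cfsg.IsChiefFactor (C a) (C (a + 1))) ∧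
      (∀ a, C a ≤ Z ∨ Z ≤ C (a + 1)) ∧ ∃ N, C N = ⊥ := by
  classical
  let T := {X : Subgroup G // X.Normal ∧ (Z ≤ X ∨ X ≤ Z)}
  let f : T → T := fun X =>
    ⟨Classical.choose (exists_next Z X.1 X.2.1 hZ X.2.2),
      (Classical.choose_spec (exists_next Z X.1 X.2.1 hZ X.2.2)).1,
      (Classical.choose_spec (exists_next Z X.1 X.2.1 hZ X.2.2)).2.2.2.2.1⟩
  have hf : ∀ X : T, (f X).1 ≤ X.1 ∧ ((f X).1 = X.1 ∨ Cfsg.IsChiefFactor X.1 (f X).1) ∧
      (X.1 ≤ Z ∨ Z ≤ (f X).1) ∧ (X.1 ≠ ⊥ → Nat.card (f X).1 < Nat.card X.1) := by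
    intro X
    have h := Classical.choose_spec (exists_next Z X.1 X.2.1 hZ X.2.2)
    exact ⟨h.2.1, h.2.2.1, h.2.2.2.1, h.2.2.2.2.2⟩
  let x₀ : T := ⟨Q, hQ, Or.inl hZQ⟩
  let C : ℕ → Subgroup G := fun a => (f^[a] x₀).1
  have hsucc : ∀ a, C (a + 1) = (f (f^[a] x₀)).1 := by
    intro a
    show (f^[a + 1] x₀).1 = _
    rw [Function.iterate_succ_apply']
  have hle : ∀ a, C (a + 1) ≤ C a := fun a => by rw [hsucc]; exact (hf _).1
  refine ⟨C, rfl, fun a => (f^[a] x₀).2.1, hle, fun a => ?_, fun a => ?_, ?_⟩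
  · rw [hsucc]; exact (hf _).2.1
  · rw [hsucc]; exact (hf _).2.2.1
  · have hcard : ∀ a, C a = ⊥ ∨ Nat.card (C a) + a ≤ Nat.card Q := by
      intro a
      induction a with
      | zero => right; exact le_rfl
      | succ a ih =>
        by_cases h0 : C a = ⊥
        · left
          exact le_bot_iff.mp (h0 ▸ hle a)
        · right
          have h1 : Nat.card (C (a + 1)) < Nat.card (C a) := by
            rw [hsucc]; exact (hf _).2.2.2 h0
          rcases ih with h | h
          · exact absurd h h0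
          · omega
    refine ⟨Nat.card Q + 1, ?_⟩
    rcases hcard (Nat.card Q + 1) with h | h
    · exact h
    · have : 0 < Nat.card (C (Nat.card Q + 1)) := Nat.card_pos
      omega

end Aux

/-- Let p be a prime, G a finite group, P a normal p-subgroup of G and Q a critical subgroup of P: a characteristic subgroup with Q/Z(Q) elementary abelian, [P, Q] ≤ Z(Q), C_P(Q) = Z(Q), and such that every automorphism of P of order prime to p fixing Q elementwise is trivial. Let g ∈ G and i, j ≥ 1, and suppose that [X, g, …, g] ≤ Y with i entries g for every chief factor X/Y of G with X ≤ Q, and with j entries g for every chief factor X/Y of G with X ≤ Z(Q). Then [X, g, …, g] ≤ Y with i + j − 1 entries g for every chief factor X/Y of G with X ≤ P. -/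
theorem result {G : Type*} [Group G] [Finite G] {p : ℕ} [Fact p.Prime] (P : Subgroup G) [P.Normal] (hP : IsPGroup p ↥P) (Q : Subgroup G) (hQP : Q ≤ P) (hQchar : (Q.subgroupOf P).Characteristic) (hQ1 : ∀ a ∈ Q, a ^ p ∈ Q ⊓ Subgroup.centralizer ((Q : Subgroup G) : Set G)) (hQ2 : ⁅Q, Q⁆ ≤ Subgroup.centralizer ((Q : Subgroup G) : Set G)) (hQ3 : ⁅P, Q⁆ ≤ Q ⊓ Subgroup.centralizer ((Q : Subgroup G) : Set G)) (hQ4 : P ⊓ Subgroup.centralizer ((Q : Subgroup G) : Set G) = Q ⊓ Subgroup.centralizer ((Q : Subgroup G) : Set G)) (hQ5 : ∀ φ : MulAut ↥P, (orderOf φ).Coprime p → (∀ a : ↥P, (a : G) ∈ Q → φ a = a) → φ = 1) (g : G) (i j : ℕ) (hi : 1 ≤ i) (hj : 1 ≤ j) (hQi : ∀ U V : Subgroup G, Cfsg.IsChiefFactor U V → U ≤ Q → Cfsg.iterCommutator U (Subgroup.zpowers g) i ≤ V) (hZj : ∀ U V : Subgroup G, Cfsg.IsChiefFactor U V → U ≤ Q ⊓ Subgroup.centralizer ((Q : Subgroup G) : Set G) → Cfsg.iterCommutator U (Subgroup.zpowers g) j ≤ V) : ∀ U V : Subgroup G, Cfsg.IsChiefFactor U V → U ≤ P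 → Cfsg.iterCommutator U (Subgroup.zpowers g) (i + j - 1) ≤ V := by
  classical
  haveI hQn : Q.Normal := by
    haveI := hQchar
    have h : ((Q.subgroupOf P).map P.subtype).Normal := ConjAct.normal_of_characteristic_of_normal
    rwa [Subgroup.map_subgroupOf_eq_of_le hQP] at h
  set Z : Subgroup G := Q ⊓ Subgroup.centralizer ((Q : Subgroup G) : Set G) with hZdef
  haveI hZn : Z.Normal := by
    refine ⟨fun z hz h => Subgroup.mem_inf.mpr ⟨hQn.conj_mem _ hz.1 h, ?_⟩⟩
    rw [Subgroup.mem_centralizer_iff]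
    intro q hq
    have hq' : h⁻¹ * q * h ∈ Q := by
      have := hQn.conj_mem _ hq h⁻¹
      simpa using this
    have h1 := (Subgroup.mem_centralizer_iff.mp hz.2) (h⁻¹ * q * h) hq'
    calc q * (h * z * h⁻¹) = h * ((h⁻¹ * q * h) * z) * h⁻¹ := by group
      _ = h * (z * (h⁻¹ * q * h)) * h⁻¹ := by rw [h1]
      _ = h * z * h⁻¹ * q := by group
  have hZQ : Z ≤ Q := inf_le_left
  have hPnil : ∃ n, P.lowerCentralSeries n = ⊥ :=
    (Subgroup.isNilpotent_iff_lowerCentralSeries P).mp hP.isNilpotent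
  obtain ⟨C, hC0, hCn, hCle, hCch, hCZ, N₀, hN₀⟩ := exists_chain Z Q hZn hQn hZQ
  set K := Subgroup.zpowers g with hK
  have hCanti : ∀ a b, a ≤ b → C b ≤ C a := by
    intro a b hab
    induction b, hab using Nat.le_induction with
    | base => exact le_rfl
    | succ b _ ih => exact (hCle b).trans ih
  have hCQ : ∀ a, C a ≤ Q := fun a => hC0 ▸ hCanti 0 a (Nat.zero_le a)
  have hCP : ∀ a, ⁅C a, P⁆ ≤ C (a + 1) := by
    intro a
    rcases hCch a with h | h
    · rw [h]
      haveI := hCn a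
      exact commutator_le_left (C a) P
    · exact Cfsg.Agent.S3766.centralizes_chief hPnil ⟨h.2.1, h.2.2.1, h.1, h.2.2.2⟩
  have hCi : ∀ a, iterCommutator (C a) K i ≤ C (a + 1) := by
    intro a
    rcases hCch a with h | h
    · rw [h]
      haveI := hCn a
      exact iter_le_of_normal K le_rfl i
    · exact hQi _ _ h (hCQ a)
  have hCj : ∀ a, C a ≤ Z → iterCommutator (C a) K j ≤ C (a + 1) := by
    intro a haZ
    rcases hCch a with h | h
    · rw [h]
      haveI := hCn a
      exact iter_le_of_normal K le_rfl j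
    · exact hZj _ _ h haZ
  -- the filtration
  let F : ℕ → Subgroup G := fun d =>
    P ⊓ ⨅ a, @Cfsg.Agent.S3766.commSub G _ (C a) (C (a + d)) (hCn (a + d))
  have hFmem : ∀ d x, x ∈ F d ↔ x ∈ P ∧ ∀ a, ∀ q ∈ C a, ⁅x, q⁆ ∈ C (a + d) := by
    intro d x
    show x ∈ P ⊓ ⨅ a, @Cfsg.Agent.S3766.commSub G _ (C a) (C (a + d)) (hCn (a + d)) ↔ _
    rw [Subgroup.mem_inf, Subgroup.mem_iInf]
    exact Iff.rfl
  have hFn : ∀ d, (F d).Normal := by
    intro d
    haveI : (⨅ a, @Cfsg.Agent.S3766.commSub G _ (C a) (C (a + d)) (hCn (a + d))).Normal :=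
      Subgroup.normal_iInf_normal
        (fun a => @Cfsg.Agent.S3766.commSub_normal G _ (C a) (C (a + d)) (hCn a) (hCn (a + d)))
    exact Subgroup.normal_inf_normal P _
  have hFP : ∀ d, F d ≤ P := fun d => inf_le_left
  have hCF : ∀ a d, ⁅C a, F d⁆ ≤ C (a + d) := by
    intro a d
    rw [Subgroup.commutator_le]
    intro q hq x hx
    have := ((hFmem d x).mp hx).2 a q hq
    have e : ⁅q, x⁆ = ⁅x, q⁆⁻¹ := (commutatorElement_inv x q).symm
    rw [e]
    exact inv_mem this
  have hF1 : P ≤ F 1 := by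
    intro x hx
    rw [hFmem]
    refine ⟨hx, fun a q hq => ?_⟩
    have h1 : ⁅q, x⁆ ∈ C (a + 1) := hCP a (commutator_mem_commutator hq hx)
    have e : ⁅x, q⁆ = ⁅q, x⁆⁻¹ := (commutatorElement_inv q x).symm
    rw [e]
    exact inv_mem h1
  have hFZ : ∀ d, N₀ ≤ d → F d ≤ Z := by
    intro d hd x hx
    rw [hFmem] at hx
    have hx' : x ∈ P ⊓ Subgroup.centralizer ((Q : Subgroup G) : Set G) := by
      refine Subgroup.mem_inf.mpr ⟨hx.1, ?_⟩
      rw [Subgroup.mem_centralizer_iff]
      intro q hq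
      have h1 : ⁅x, q⁆ ∈ C (0 + d) := hx.2 0 q (hC0 ▸ hq)
      have h2 : C (0 + d) ≤ ⊥ := hN₀ ▸ hCanti N₀ (0 + d) (by omega)
      have h3 : ⁅x, q⁆ = 1 := (Subgroup.mem_bot.mp (h2 h1))
      exact (commutatorElement_eq_one_iff_mul_comm.mp h3).symm
    rw [hQ4] at hx'
    exact hx'
  -- the key estimate
  have key : ∀ d, 1 ≤ d → iterCommutator (F d) K (i + j - 1) ≤ F (d + 1) := by
    intro d hd
    have hXP : ∀ k, iterCommutator (F d) K k ≤ P := fun k => iter_le_of_normal K (hFP d) k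
    intro x hx
    rw [hFmem]
    refine ⟨hXP _ hx, fun a q hq => ?_⟩
    haveI hBn : (C (a + d)).Normal := hCn (a + d)
    haveI hCn' : (C (a + d + 1)).Normal := hCn (a + d + 1)
    have hCB : C (a + d + 1) ≤ C (a + d) := hCle (a + d)
    have hBP : ⁅C (a + d), P⁆ ≤ C (a + d + 1) := hCP (a + d)
    have hBB : ⁅C (a + d), C (a + d)⁆ ≤ C (a + d + 1) :=
      (commutator_mono le_rfl ((hCQ _).trans hQP)).trans hBP
    have hPE : ∀ n, P ≤ normalizer ((Efil g (C (a + d)) (C (a + d + 1)) hBB n : Subgroup G) : Set G) :=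
      fun n => le_normalizer_Efil hBB hCB (by rw [commutator_comm]; exact hBP) n
    have hKE : ∀ n, K ≤ normalizer ((Efil g (C (a + d)) (C (a + d + 1)) hBB n : Subgroup G) : Set G) :=
      fun n => zpowers_le_normalizer_Efil hBB n
    haveI hCan : (C a).Normal := hCn a
    have hAQ : ∀ m, iterCommutator (C a) K m ≤ C a := fun m => iter_le_of_normal K le_rfl m
    have hKA : K ≤ normalizer ((C a : Subgroup G) : Set G) := le_normalizer_of_normal (C a) K
    have V : ∀ k m n, i + j ≤ m + n + k + 1 →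
        ⁅iterCommutator (C a) K m, iterCommutator (F d) K k⁆ ≤
          Efil g (C (a + d)) (C (a + d + 1)) hBB n := by
      intro k
      induction k with
      | zero =>
        intro m n h
        show ⁅iterCommutator (C a) K m, F d⁆ ≤ Efil g (C (a + d)) (C (a + d + 1)) hBB n
        by_cases hjn : j ≤ n
        · rcases hCZ (a + d) with hBZ | hZC
          · have h1 : C (a + d) ≤ Efil g (C (a + d)) (C (a + d + 1)) hBB j :=
              le_Efil_of_iter hBB le_rfl (hCj (a + d) hBZ)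
            have h2 : ⁅iterCommutator (C a) K m, F d⁆ ≤ C (a + d) :=
              (commutator_mono (hAQ m) le_rfl).trans (hCF a d)
            exact h2.trans (h1.trans (Efil_mono' hBB hjn))
          · have h2 : ⁅iterCommutator (C a) K m, F d⁆ ≤ Z := by
              refine (commutator_mono ((hAQ m).trans (hCQ a)) (hFP d)).trans ?_
              rw [commutator_comm]
              exact hQ3
            exact h2.trans (hZC.trans (le_Efil hBB hCB n))
        · have hm : i ≤ m := by omega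
          have h1 : iterCommutator (C a) K m ≤ C (a + 1) := (iter_antitone hKA hm).trans (hCi a)
          have h2 : ⁅iterCommutator (C a) K m, F d⁆ ≤ C (a + 1 + d) :=
            (commutator_mono h1 le_rfl).trans (hCF (a + 1) d)
          have e : a + 1 + d = a + d + 1 := by omega
          rw [e] at h2
          exact h2.trans (le_Efil hBB hCB n)
      | succ k ih =>
        intro m n h
        show ⁅iterCommutator (C a) K m, ⁅iterCommutator (F d) K k, K⁆⁆ ≤
          Efil g (C (a + d)) (C (a + d + 1)) hBB n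
        rw [commutator_comm]
        apply three_subgroups_le (H₁ := iterCommutator (F d) K k) (H₂ := K)
          (H₃ := iterCommutator (C a) K m)
        · exact (hXP k).trans (hPE n)
        · exact hKE n
        · exact ((hAQ m).trans ((hCQ a).trans hQP)).trans (hPE n)
        · rw [commutator_comm K]
          exact ih (m + 1) n (by omega)
        · exact (commutator_mono (ih m (n + 1) (by omega)) le_rfl).trans
            (commutator_Efil_le hBB n)
    have h0 := V (i + j - 1) 0 0 (by omega)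
    rw [Efil_zero hBB hCB] at h0
    have h1 : ⁅q, x⁆ ∈ C (a + d + 1) := h0 (commutator_mem_commutator hq hx)
    have e : ⁅x, q⁆ = ⁅q, x⁆⁻¹ := (commutatorElement_inv q x).symm
    rw [e]
    exact inv_mem h1
  -- assembly
  intro U V hUV hUP
  obtain ⟨hVU, hUn, hVn, hmax⟩ := hUV
  haveI := hUn
  haveI := hVn
  have hKU : K ≤ normalizer ((U : Subgroup G) : Set G) := le_normalizer_of_normal U K
  have caseA : U ≤ V ⊔ (U ⊓ Z) → iterCommutator U K (i + j - 1) ≤ V := by
    intro h
    have hch : Cfsg.IsChiefFactor (U ⊓ Z) (V ⊓ Z) := by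
      refine ⟨lt_of_le_of_ne (inf_le_inf_right Z hVU.le) (fun he => ?_), inferInstance,
        inferInstance, ?_⟩
      · have h1 : U ⊓ Z ≤ V := he ▸ inf_le_left
        exact not_le_of_gt hVU (h.trans (sup_le le_rfl h1))
      · intro N hN hVN hNU
        haveI := hN
        rcases hmax (V ⊔ N) inferInstance le_sup_left (sup_le hVU.le (hNU.trans inf_le_left))
          with h' | h'
        · left
          exact le_antisymm (le_inf (le_sup_right.trans h'.le) (hNU.trans inf_le_right)) hVN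
        · right
          refine le_antisymm hNU (fun x hx => ?_)
          have hxU : x ∈ V ⊔ N := h'.symm ▸ hx.1
          obtain ⟨v, hv, n, hn, rfl⟩ := mem_sup_of_normal_left.mp hxU
          have hnZ : n ∈ Z := (hNU hn).2
          have hvZ : v ∈ Z := by
            have := Z.mul_mem hx.2 (Z.inv_mem hnZ)
            simpa using this
          exact N.mul_mem (hVN ⟨hv, hvZ⟩) hn
    have h1 := hZj _ _ hch inf_le_right
    have h2 : iterCommutator U K j ≤ V :=
      ((iter_mono K h j).trans (iter_sup_le j)).trans (sup_le le_rfl (h1.trans inf_le_left))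
    exact (iter_antitone hKU (by omega)).trans h2
  have main : ∀ t d, d + t = N₀ + 1 → 1 ≤ d → U ≤ V ⊔ (U ⊓ F d) →
      iterCommutator U K (i + j - 1) ≤ V := by
    intro t
    induction t with
    | zero =>
      intro d hd _ hR
      apply caseA
      exact hR.trans (sup_le_sup_left (inf_le_inf_left U (hFZ d (by omega))) V)
    | succ t ih =>
      intro d hd h1 hR
      by_cases hR' : U ≤ V ⊔ (U ⊓ F (d + 1))
      · exact ih (d + 1) (by omega) (by omega) hR'
      · haveI := hFn (d + 1)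
        rcases hmax (V ⊔ (U ⊓ F (d + 1))) inferInstance le_sup_left (sup_le hVU.le inf_le_left)
          with h' | h'
        · have h3 : U ⊓ F (d + 1) ≤ V := le_sup_right.trans h'.le
          have h4 : iterCommutator (U ⊓ F d) K (i + j - 1) ≤ U ⊓ F (d + 1) :=
            le_inf (iter_le_of_normal K inf_le_left _)
              ((iter_mono K inf_le_right _).trans (key d h1))
          exact ((iter_mono K hR _).trans (iter_sup_le _)).trans (sup_le le_rfl (h4.trans h3))
        · exact absurd h'.ge hR'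
  exact main N₀ 1 (by omega) le_rfl (le_sup_of_le_right (le_inf le_rfl (hUP.trans hF1)))

end Cfsg.Agent.S2003
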