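import Cfsg.Statements.S1962
import Cfsg.Agent.S1961
import Cfsg.Agent.S1963
import Cfsg.Agent.S1965

set_option autoImplicit false
open Cfsg

namespace Cfsg.Agent.S1962

open Cfsg.Agent.Lib.Helper13 Cfsg.Agent.S1965
open scoped commutatorElement

variable {G : Type*} [Group G]

section
variable [Finite G] {p : ℕ} [Fact p.Prime]

/-- the transfer control equation holds for every Sylow subgroup of `H` -/
theorem transfer_any_sylow (W : Subgroup G → Subgroup G) (hW : Cfsg.IsConjugacyFunctor p W) (H : Subgroup G)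
    (hc : Cfsg.ControlsTransferIn p W H) (T' : Subgroup G) (hT'H : T' ≤ H) (hT'p : IsPGroup p T')
    (hT'i : ¬ p ∣ T'.relIndex H) :
    T' ⊓ ⁅H, H⁆ = T' ⊓ ⁅H ⊓ Subgroup.normalizer ((W T' : Subgroup G) : Set G),
      H ⊓ Subgroup.normalizer ((W T' : Subgroup G) : Set G)⁆ := by
  obtain ⟨T, hTH, hTp, hTi, hT⟩ := hc
  obtain ⟨h, hhH, hh⟩ := exists_conj_le_of_relIndex H T T' hTp hTi hT'H hT'p
  have hmapH : H.map (MulAut.conj h).toMonoidHom = H :=
    (map_conj_eq_self_iff_mem_normalizer H h).mpr (Subgroup.le_normalizer hhH)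
  have hTeq : T = T'.map (MulAut.conj h).toMonoidHom := by
    apply eq_of_le_of_not_dvd_relIndex (p := p) H
    · rw [map_conj_le_iff]; exact hh
    · exact hTH
    · exact hTp
    · have := relIndex_map_conj T' H h
      rw [hmapH] at this
      rw [this]; exact hT'i
  have hWT : W T = (W T').map (MulAut.conj h).toMonoidHom := by
    rw [hTeq]; exact (hW T' hT'p).2.2 h
  have hinj : Function.Injective (MulAut.conj h).toMonoidHom := (MulAut.conj h).injective
  apply Subgroup.map_injective hinj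
  rw [Subgroup.map_inf _ _ _ hinj, Subgroup.map_inf _ _ _ hinj, Subgroup.map_commutator,
    Subgroup.map_commutator, Subgroup.map_inf _ _ _ hinj, hmapH, ← hTeq, ← normalizer_map_conj, ← hWT]
  exact hT

/-- the climbing claim for transfer -/
theorem climb (S : Sylow p G) (W : Subgroup G → Subgroup G) (hW : Cfsg.IsConjugacyFunctor p W)
    (hloc : ∀ T : Subgroup G, T ≠ ⊥ → Cfsg.IsWellPlaced p W (S : Subgroup G) T →
      Cfsg.ControlsTransferIn p W (Subgroup.normalizer ((T : Subgroup G) : Set G))) :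
    ∀ (m : ℕ) (T : Subgroup G), T ≠ ⊥ → Cfsg.IsWellPlaced p W (S : Subgroup G) T →
      Nat.card (S : Subgroup G) - Nat.card ((S : Subgroup G) ⊓ Subgroup.normalizer (T : Set G) : Subgroup G) = m →
      ((S : Subgroup G) ⊓ Subgroup.normalizer (T : Set G)) ⊓
        ⁅Subgroup.normalizer (T : Set G), Subgroup.normalizer (T : Set G)⁆ ≤
      (S : Subgroup G) ⊓ ⁅Subgroup.normalizer ((W (S : Subgroup G) : Subgroup G) : Set G),
        Subgroup.normalizer ((W (S : Subgroup G) : Subgroup G) : Set G)⁆ := by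
  intro m
  induction m using Nat.strong_induction_on with
  | _ m ih =>
    intro T hTne hTwp hm
    set H : Subgroup G := Subgroup.normalizer (T : Set G) with hH
    set S1 : Subgroup G := (S : Subgroup G) ⊓ H with hS1
    have hS1p : IsPGroup p S1 := S.isPGroup'.to_le inf_le_left
    have hS1i : ¬ p ∣ S1.relIndex H := hTwp.2 0
    have heq := transfer_any_sylow W hW H (hloc T hTne hTwp) S1 inf_le_right hS1p hS1i
    rw [heq]
    set T1 : Subgroup G := W S1 with hT1
    have hstep : S1 ⊓ ⁅H ⊓ Subgroup.normalizer ((T1 : Subgroup G) : Set G),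
        H ⊓ Subgroup.normalizer ((T1 : Subgroup G) : Set G)⁆ ≤
        S1 ⊓ ⁅Subgroup.normalizer ((T1 : Subgroup G) : Set G),
          Subgroup.normalizer ((T1 : Subgroup G) : Set G)⁆ :=
      inf_le_inf_left _ (Subgroup.commutator_mono inf_le_right inf_le_right)
    refine hstep.trans ?_
    by_cases hS1S : S1 = (S : Subgroup G)
    · rw [hT1, hS1S]
    · have hS1lt : S1 < (S : Subgroup G) := lt_of_le_of_ne inf_le_left hS1S
      have hT1wp : Cfsg.IsWellPlaced p W (S : Subgroup G) T1 :=
        Cfsg.Agent.S1961.wellPlaced_shift W hW (S : Subgroup G) T S.isPGroup' hTwp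
      have hTS1 : T ≤ S1 := le_inf hTwp.1 Subgroup.le_normalizer
      have hS1ne : S1 ≠ ⊥ := fun h => hTne (le_bot_iff.mp (h ▸ hTS1))
      have hT1ne : T1 ≠ ⊥ := (hW S1 hS1p).2.1 hS1ne
      have hlt1 : S1 < (S : Subgroup G) ⊓ Subgroup.normalizer ((S1 : Subgroup G) : Set G) :=
        lt_inf_normalizer_of_lt (S : Subgroup G) S1 S.isPGroup' hS1lt
      have hle2 : (S : Subgroup G) ⊓ Subgroup.normalizer ((S1 : Subgroup G) : Set G) ≤
          (S : Subgroup G) ⊓ Subgroup.normalizer ((T1 : Subgroup G) : Set G) :=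
        inf_le_inf_left _ (Cfsg.Agent.S1961.normalizer_le_normalizer_functor W hW S1 hS1p)
      have hc1 : Nat.card S1 < Nat.card ((S : Subgroup G) ⊓ Subgroup.normalizer ((T1 : Subgroup G) : Set G) : Subgroup G) :=
        lt_of_lt_of_le (card_lt_card_of_lt hlt1) (Subgroup.card_le_of_le hle2)
      have hc2 : Nat.card ((S : Subgroup G) ⊓ Subgroup.normalizer ((T1 : Subgroup G) : Set G) : Subgroup G) ≤
          Nat.card (S : Subgroup G) := Subgroup.card_le_of_le inf_le_left
      have := ih (Nat.card (S : Subgroup G) -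
          Nat.card ((S : Subgroup G) ⊓ Subgroup.normalizer ((T1 : Subgroup G) : Set G) : Subgroup G))
        (by omega) T1 hT1ne hT1wp rfl
      exact (inf_le_inf_right _ (hlt1.le.trans hle2)).trans this

end

/-- chains of conjugations in normalizers change an element only by elements of `F` -/
theorem chain_mem (𝓕 : Set (Subgroup G)) (F : Subgroup G)
    (hF : ∀ T ∈ 𝓕, ∀ y ∈ T, ∀ g ∈ Subgroup.normalizer (T : Set G), y * (g⁻¹ * y * g)⁻¹ ∈ F) :
    ∀ (L : List (Subgroup G × G)) (x : G), Valid 𝓕 {x} L →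
      x * (((L.map Prod.snd).prod)⁻¹ * x * (L.map Prod.snd).prod)⁻¹ ∈ F := by
  intro L
  induction L with
  | nil => intro x _; simp
  | cons Tg L ih =>
    obtain ⟨T, g⟩ := Tg
    rintro x ⟨h1, h2, h3, h4⟩
    rw [Set.image_singleton] at h4
    have h5 := ih _ h4
    have h6 := hF T h1 x (h3 (Set.mem_singleton x)) g h2
    have : x * (((((T, g) :: L).map Prod.snd).prod)⁻¹ * x * (((T, g) :: L).map Prod.snd).prod)⁻¹ =
        (x * (g⁻¹ * x * g)⁻¹) * ((g⁻¹ * x * g) * (((L.map Prod.snd).prod)⁻¹ * (g⁻¹ * x * g) *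
          (L.map Prod.snd).prod)⁻¹) := by
      simp only [List.map_cons, List.prod_cons]
      group
    rw [this]
    exact F.mul_mem h6 h5

/-- Let p be a prime, G a finite group with Sylow p-subgroup S and W a conjugacy functor for p on G. Suppose W controls transfer in N_G(T) for every nonidentity subgroup T of S that is well placed in S with respect to W. Then W controls transfer in G. -/
theorem result {G : Type*} [Group G] [Finite G] {p : ℕ} [Fact p.Prime] (S : Sylow p G) (W : Subgroup G → Subgroup G) (hW : Cfsg.IsConjugacyFunctor p W) (hloc : ∀ T : Subgroup G, T ≠ ⊥ → Cfsg.IsWellPlaced p W (S : Subgroup G) T → Cfsg.ControlsTransferIn p W (Subgroup.normalizer ((T : Subgroup G) : Set G))) : Cfsg.ControlsTransferIn p W ⊤ := by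
  classical
  refine ⟨S, le_top, S.isPGroup', ?_, ?_⟩
  · rw [Subgroup.relIndex_top_right]; exact S.not_dvd_index
  · rw [top_inf_eq]
    apply le_antisymm
    · set F0 : Subgroup G := (S : Subgroup G) ⊓ ⁅Subgroup.normalizer ((W (S : Subgroup G) : Subgroup G) : Set G),
        Subgroup.normalizer ((W (S : Subgroup G) : Subgroup G) : Set G)⁆ with hF0
      set 𝓕 : Set (Subgroup G) := {T : Subgroup G | Cfsg.IsWellPlaced p W (S : Subgroup G) T} with h𝓕def
      have h𝓕 : ∀ U ∈ 𝓕, U ≤ (S : Subgroup G) := fun U hU => hU.1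
      have hfam : ∀ T : Subgroup G, T ≤ (S : Subgroup G) → ∃ U ∈ 𝓕,
          (∃ g : G, T.map (MulAut.conj g).toMonoidHom = U) ∧
          ¬ p ∣ ((S : Subgroup G) ⊓ Subgroup.normalizer ((U : Subgroup G) : Set G)).relIndex
            (Subgroup.normalizer ((U : Subgroup G) : Set G)) := by
        intro T hT
        obtain ⟨g, hg⟩ := Cfsg.Agent.S1963.result S W hW T hT
        exact ⟨T.map (MulAut.conj g).toMonoidHom, hg, ⟨g, rfl⟩, hg.2 0⟩
      have hF : ∀ T ∈ 𝓕, ∀ y ∈ T, ∀ g ∈ Subgroup.normalizer (T : Set G), y * (g⁻¹ * y * g)⁻¹ ∈ F0 := by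
        intro T hT y hy g hg
        by_cases hTb : T = ⊥
        · rw [hTb, Subgroup.mem_bot] at hy
          rw [hy]; simp
        · have hginv : g⁻¹ ∈ Subgroup.normalizer (T : Set G) := Subgroup.inv_mem _ hg
          have hgy : g⁻¹ * y * g ∈ T := by
            have := (Subgroup.mem_normalizer_iff.mp hginv y).mp hy
            simpa using this
          apply climb S W hW hloc _ T hTb hT rfl
          refine Subgroup.mem_inf.mpr ⟨?_, ?_⟩
          · exact (le_inf (h𝓕 T hT) Subgroup.le_normalizer) (T.mul_mem hy (T.inv_mem hgy))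
          · have : y * (g⁻¹ * y * g)⁻¹ = ⁅y, g⁻¹⁆ := by rw [commutatorElement_def]; group
            rw [this]
            exact Subgroup.commutator_mem_commutator (Subgroup.le_normalizer hy) hginv
      have hfocal : (S : Subgroup G) ⊓ ⁅(⊤ : Subgroup G), ⊤⁆ = (S : Subgroup G).focalSubgroup := by
        rw [inf_comm, ← commutator_def]
        exact Subgroup.commutator_inf_eq_focalSubgroup S
      rw [hfocal, Subgroup.focalSubgroup_def, Subgroup.closure_le]
      rintro g ⟨hgS, x, hxS, u, rfl⟩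
      have hux : u * x * u⁻¹ ∈ (S : Subgroup G) := by
        have : u * x * u⁻¹ = (⁅x, u⁆)⁻¹ * x := by rw [commutatorElement_def]; group
        rw [this]; exact Subgroup.mul_mem _ (Subgroup.inv_mem _ hgS) hxS
      have hreach : Reach 𝓕 ({x} : Set G) u⁻¹ := by
        apply reach_mono 𝓕 (A := ((Subgroup.zpowers x : Subgroup G) : Set G))
        · intro a ha
          rw [Set.mem_singleton_iff.mp ha]
          exact Subgroup.mem_zpowers x
        · apply Cfsg.Agent.S1965.main S 𝓕 h𝓕 hfam _ (Subgroup.zpowers x) u⁻¹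
            (Subgroup.zpowers_le.mpr hxS) _ rfl
          intro t ht
          obtain ⟨k, rfl⟩ := Subgroup.mem_zpowers_iff.mp ht
          have : (u⁻¹)⁻¹ * x ^ k * u⁻¹ = (u * x * u⁻¹) ^ k := by
            rw [conj_zpow, inv_inv]
          rw [this]
          exact Subgroup.zpow_mem _ hux k
      obtain ⟨L, hL, hLg⟩ := hreach
      have := chain_mem 𝓕 F0 hF L x hL
      rw [hLg] at this
      have h2 : ⁅x, u⁆ = x * ((u⁻¹)⁻¹ * x * u⁻¹)⁻¹ := by rw [commutatorElement_def]; group
      show ⁅x, u⁆ ∈ F0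
      rw [h2]; exact this
    · exact inf_le_inf_left _ (Subgroup.commutator_mono le_top le_top)

end Cfsg.Agent.S1962
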