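import Cfsg.Statements.S1960
import Cfsg.Agent.S1962

set_option autoImplicit false
open Cfsg

namespace Cfsg.Agent.S1960

open Cfsg.Agent.Lib.Helper13 Cfsg.Agent.S1965
open scoped commutatorElement

variable {G : Type*} [Group G]

/-- the target subgroup -/
def F0 (𝓦 : Set (Subgroup G → Subgroup G)) (S : Subgroup G) : Subgroup G :=
  ⨆ W ∈ 𝓦, S ⊓ ⁅(⊤ : Subgroup G) ⊓ Subgroup.normalizer ((W S : Subgroup G) : Set G),
    (⊤ : Subgroup G) ⊓ Subgroup.normalizer ((W S : Subgroup G) : Set G)⁆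

section
variable [Finite G] {p : ℕ} [Fact p.Prime]

/-- the family transfer control equation holds for every Sylow subgroup of `H` -/
theorem famtransfer_any_sylow (𝓦 : Set (Subgroup G → Subgroup G))
    (h𝓦 : ∀ W ∈ 𝓦, Cfsg.IsConjugacyFunctor p W) (H : Subgroup G)
    (hc : Cfsg.FamilyControlsTransferIn p 𝓦 H) (T' : Subgroup G) (hT'H : T' ≤ H) (hT'p : IsPGroup p T')
    (hT'i : ¬ p ∣ T'.relIndex H) :
    T' ⊓ ⁅H, H⁆ = ⨆ W ∈ 𝓦, T' ⊓ ⁅H ⊓ Subgroup.normalizer ((W T' : Subgroup G) : Set G),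
      H ⊓ Subgroup.normalizer ((W T' : Subgroup G) : Set G)⁆ := by
  obtain ⟨T, hTH, hTp, hTi, hT⟩ := hc
  obtain ⟨h, hhH, hh⟩ := exists_conj_le_of_relIndex H T T' hTp hTi hT'H hT'p
  have hmapH : H.map (MulAut.conj h).toMonoidHom = H :=
    (map_conj_eq_self_iff_mem_normalizer H h).mpr (Subgroup.le_normalizer hhH)
  have hTeq : T = T'.map (MulAut.conj h).toMonoidHom := by
    apply eq_of_le_of_not_dvd_relIndex (p := p) H
    · rw [map_conj_le_iff]; exact hh
    · exact hTH
    · exact hTp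
    · have := relIndex_map_conj T' H h
      rw [hmapH] at this
      rw [this]; exact hT'i
  have hinj : Function.Injective (MulAut.conj h).toMonoidHom := (MulAut.conj h).injective
  apply Subgroup.map_injective hinj
  rw [Subgroup.map_inf _ _ _ hinj, Subgroup.map_commutator, hmapH, ← hTeq, hT, Subgroup.map_iSup]
  apply iSup_congr
  intro W
  rw [Subgroup.map_iSup]
  apply iSup_congr
  intro hW
  have hWT : W T = (W T').map (MulAut.conj h).toMonoidHom := by
    rw [hTeq]; exact (h𝓦 W hW T' hT'p).2.2 h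
  rw [Subgroup.map_inf _ _ _ hinj, Subgroup.map_commutator, Subgroup.map_inf _ _ _ hinj, hmapH,
    ← hTeq, ← normalizer_map_conj, ← hWT]

/-- the local step -/
theorem localF (S : Sylow p G) (𝓦 : Set (Subgroup G → Subgroup G))
    (h𝓦 : ∀ W ∈ 𝓦, Cfsg.IsConjugacyFunctor p W)
    (hloc : ∀ T : Subgroup G, T ≤ (S : Subgroup G) → T ≠ ⊥ →
      ¬ p ∣ ((S : Subgroup G) ⊓ Subgroup.normalizer ((T : Subgroup G) : Set G)).relIndex (Subgroup.normalizer ((T : Subgroup G) : Set G)) →
      Cfsg.FamilyControlsTransferIn p 𝓦 (Subgroup.normalizer ((T : Subgroup G) : Set G)))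
    (U : Subgroup G) (hUS : U ≤ (S : Subgroup G)) (hUne : U ≠ ⊥)
    (hUt : ¬ p ∣ ((S : Subgroup G) ⊓ Subgroup.normalizer ((U : Subgroup G) : Set G)).relIndex (Subgroup.normalizer ((U : Subgroup G) : Set G)))
    (hP : ∀ W ∈ 𝓦, ((S : Subgroup G) ⊓ Subgroup.normalizer ((U : Subgroup G) : Set G)) ⊓
      ⁅Subgroup.normalizer ((W ((S : Subgroup G) ⊓ Subgroup.normalizer ((U : Subgroup G) : Set G)) : Subgroup G) : Set G),
       Subgroup.normalizer ((W ((S : Subgroup G) ⊓ Subgroup.normalizer ((U : Subgroup G) : Set G)) : Subgroup G) : Set G)⁆ ≤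
      F0 𝓦 (S : Subgroup G)) :
    ((S : Subgroup G) ⊓ Subgroup.normalizer ((U : Subgroup G) : Set G)) ⊓
      ⁅Subgroup.normalizer ((U : Subgroup G) : Set G), Subgroup.normalizer ((U : Subgroup G) : Set G)⁆ ≤
      F0 𝓦 (S : Subgroup G) := by
  rw [famtransfer_any_sylow 𝓦 h𝓦 _ (hloc U hUS hUne hUt) _ inf_le_right (S.isPGroup'.to_le inf_le_left) hUt]
  apply iSup_le
  intro W
  apply iSup_le
  intro hW
  exact (inf_le_inf_left _ (Subgroup.commutator_mono inf_le_right inf_le_right)).trans (hP W hW)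

theorem Q_of_P (S : Sylow p G) (𝓦 : Set (Subgroup G → Subgroup G))
    (h𝓦 : ∀ W ∈ 𝓦, Cfsg.IsConjugacyFunctor p W)
    (hloc : ∀ T : Subgroup G, T ≤ (S : Subgroup G) → T ≠ ⊥ →
      ¬ p ∣ ((S : Subgroup G) ⊓ Subgroup.normalizer ((T : Subgroup G) : Set G)).relIndex (Subgroup.normalizer ((T : Subgroup G) : Set G)) →
      Cfsg.FamilyControlsTransferIn p 𝓦 (Subgroup.normalizer ((T : Subgroup G) : Set G)))
    (t : ℕ)
    (hP : ∀ R' : Subgroup G, R' ≤ (S : Subgroup G) → t < Nat.card R' → ∀ W ∈ 𝓦,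
      R' ⊓ ⁅Subgroup.normalizer ((W R' : Subgroup G) : Set G), Subgroup.normalizer ((W R' : Subgroup G) : Set G)⁆ ≤
        F0 𝓦 (S : Subgroup G)) :
    ∀ T : Subgroup G, T ≤ (S : Subgroup G) → t < Nat.card T → ∀ g : G, (∀ x ∈ T, g * x * g⁻¹ ∈ (S : Subgroup G)) →
      ∀ x ∈ T, x * (g * x * g⁻¹)⁻¹ ∈ F0 𝓦 (S : Subgroup G) := by
  intro T hTS hTcard g hTg x hxT
  set 𝓕 : Set (Subgroup G) := {U | t < Nat.card U ∧ U ≤ (S : Subgroup G) ∧
    ¬ p ∣ ((S : Subgroup G) ⊓ Subgroup.normalizer ((U : Subgroup G) : Set G)).relIndex (Subgroup.normalizer ((U : Subgroup G) : Set G))} with h𝓕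
  -- chain lemma for lists whose sets stay large: we use the family of tame subgroups and check sizes on the fly
  set 𝓣 : Set (Subgroup G) := {U | U ≤ (S : Subgroup G) ∧
    ¬ p ∣ ((S : Subgroup G) ⊓ Subgroup.normalizer ((U : Subgroup G) : Set G)).relIndex (Subgroup.normalizer ((U : Subgroup G) : Set G))} with h𝓣
  have h𝓣S : ∀ U ∈ 𝓣, U ≤ (S : Subgroup G) := fun U hU => hU.1
  have hfam : ∀ T : Subgroup G, T ≤ (S : Subgroup G) → ∃ U ∈ 𝓣,
      (∃ g : G, T.map (MulAut.conj g).toMonoidHom = U) ∧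
      ¬ p ∣ ((S : Subgroup G) ⊓ Subgroup.normalizer ((U : Subgroup G) : Set G)).relIndex (Subgroup.normalizer ((U : Subgroup G) : Set G)) := by
    intro T hT
    obtain ⟨n, hn1, hn2⟩ := exists_conj_normalizer_sylow S T
    have hTn : T.map (MulAut.conj n).toMonoidHom ≤ (S : Subgroup G) :=
      (Subgroup.map_mono (le_inf hT Subgroup.le_normalizer)).trans hn1
    exact ⟨_, ⟨hTn, hn2⟩, ⟨n, rfl⟩, hn2⟩
  have hTg' : ∀ x ∈ T, (g⁻¹)⁻¹ * x * g⁻¹ ∈ (S : Subgroup G) := by
    intro x hx; rw [inv_inv]; exact hTg x hx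
  obtain ⟨L, hL, hLprod⟩ := Cfsg.Agent.S1965.main S 𝓣 h𝓣S hfam _ T g⁻¹ hTS hTg' rfl
  -- key: induction over the list with a large set
  have key : ∀ (L : List (Subgroup G × G)) (A : Set G), Valid 𝓣 A L → t < A.ncard →
      ∀ x ∈ A, x * (((L.map Prod.snd).prod)⁻¹ * x * (L.map Prod.snd).prod)⁻¹ ∈ F0 𝓦 (S : Subgroup G) := by
    intro L
    induction L with
    | nil => intro A _ _ x _; simp
    | cons Ug L ih =>
      obtain ⟨U, c⟩ := Ug
      rintro A ⟨hU, hc, hAU, hrest⟩ hcard x hxA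
      have hcardU : t < Nat.card U := by
        have h1 : A.ncard ≤ (U : Set G).ncard := Set.ncard_le_ncard hAU (Set.toFinite _)
        have h2 : (U : Set G).ncard = Nat.card U := (Nat.card_coe_set_eq (U : Set G)).symm
        rw [h2] at h1
        exact lt_of_lt_of_le hcard h1
      have hxU : x ∈ U := hAU hxA
      have h6 : x * (c⁻¹ * x * c)⁻¹ ∈ F0 𝓦 (S : Subgroup G) := by
        by_cases hUne : U = ⊥
        · rw [hUne, Subgroup.mem_bot] at hxU
          rw [hxU]; simp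
        set NU : Subgroup G := (S : Subgroup G) ⊓ Subgroup.normalizer (U : Set G) with hNU
        have hUNU : U ≤ NU := le_inf hU.1 Subgroup.le_normalizer
        have hcardNU : t < Nat.card NU := lt_of_lt_of_le hcardU (Subgroup.card_le_of_le hUNU)
        have hloc' := localF S 𝓦 h𝓦 hloc U hU.1 hUne hU.2 (fun W hW => hP NU inf_le_left hcardNU W hW)
        have hcinv : c⁻¹ ∈ Subgroup.normalizer (U : Set G) := Subgroup.inv_mem _ hc
        have hcx : c⁻¹ * x * c ∈ U := by
          have := (Subgroup.mem_normalizer_iff.mp hcinv x).mp hxU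
          simpa using this
        apply hloc'
        refine Subgroup.mem_inf.mpr ⟨hUNU (U.mul_mem hxU (U.inv_mem hcx)), ?_⟩
        have : x * (c⁻¹ * x * c)⁻¹ = ⁅x, c⁻¹⁆ := by rw [commutatorElement_def]; group
        rw [this]
        exact Subgroup.commutator_mem_commutator (Subgroup.le_normalizer hxU) hcinv
      have hcard' : t < ((fun a => c⁻¹ * a * c) '' A).ncard := by
        rw [Set.ncard_image_of_injective]
        · exact hcard
        · intro a b hab
          simpa using hab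
      have h5 := ih _ hrest hcard' (c⁻¹ * x * c) ⟨x, hxA, rfl⟩
      have : x * (((((U, c) :: L).map Prod.snd).prod)⁻¹ * x * (((U, c) :: L).map Prod.snd).prod)⁻¹ =
          (x * (c⁻¹ * x * c)⁻¹) * ((c⁻¹ * x * c) * (((L.map Prod.snd).prod)⁻¹ * (c⁻¹ * x * c) *
            (L.map Prod.snd).prod)⁻¹) := by
        simp only [List.map_cons, List.prod_cons]
        group
      rw [this]
      exact Subgroup.mul_mem _ h6 h5
  have hncard : t < (T : Set G).ncard := by
    rw [← Nat.card_coe_set_eq]; exact hTcard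
  have := key L (T : Set G) hL hncard x hxT
  rw [hLprod, inv_inv] at this
  exact this

theorem mainP (S : Sylow p G) (𝓦 : Set (Subgroup G → Subgroup G))
    (h𝓦 : ∀ W ∈ 𝓦, Cfsg.IsConjugacyFunctor p W)
    (hloc : ∀ T : Subgroup G, T ≤ (S : Subgroup G) → T ≠ ⊥ →
      ¬ p ∣ ((S : Subgroup G) ⊓ Subgroup.normalizer ((T : Subgroup G) : Set G)).relIndex (Subgroup.normalizer ((T : Subgroup G) : Set G)) →
      Cfsg.FamilyControlsTransferIn p 𝓦 (Subgroup.normalizer ((T : Subgroup G) : Set G))) :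
    ∀ (m : ℕ) (R : Subgroup G), R ≤ (S : Subgroup G) → Nat.card (S : Subgroup G) - Nat.card R = m →
      ∀ W ∈ 𝓦, R ⊓ ⁅Subgroup.normalizer ((W R : Subgroup G) : Set G),
        Subgroup.normalizer ((W R : Subgroup G) : Set G)⁆ ≤ F0 𝓦 (S : Subgroup G) := by
  intro m
  induction m using Nat.strong_induction_on with
  | _ m ih =>
    intro R hRS hm W hW
    have hS := S.isPGroup'
    have hRp : IsPGroup p R := hS.to_le hRS
    by_cases hRtop : R = (S : Subgroup G)
    · rw [hRtop]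
      unfold F0
      refine le_trans ?_ (le_iSup₂ (f := fun (W : Subgroup G → Subgroup G) (_ : W ∈ 𝓦) =>
        (S : Subgroup G) ⊓ ⁅(⊤ : Subgroup G) ⊓ Subgroup.normalizer ((W (S : Subgroup G) : Subgroup G) : Set G),
          (⊤ : Subgroup G) ⊓ Subgroup.normalizer ((W (S : Subgroup G) : Subgroup G) : Set G)⁆) W hW)
      rw [top_inf_eq]
    by_cases hRbot : R = ⊥
    · rw [hRbot]; exact inf_le_left.trans bot_le
    have hRlt : R < (S : Subgroup G) := lt_of_le_of_ne hRS hRtop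
    have hcardRS : Nat.card R ≤ Nat.card (S : Subgroup G) := Subgroup.card_le_of_le hRS
    have IH : ∀ R' : Subgroup G, R' ≤ (S : Subgroup G) → Nat.card R < Nat.card R' → ∀ W ∈ 𝓦,
        R' ⊓ ⁅Subgroup.normalizer ((W R' : Subgroup G) : Set G),
          Subgroup.normalizer ((W R' : Subgroup G) : Set G)⁆ ≤ F0 𝓦 (S : Subgroup G) := by
      intro R' hR'S hcard
      have hR'le : Nat.card R' ≤ Nat.card (S : Subgroup G) := Subgroup.card_le_of_le hR'S
      exact ih (Nat.card (S : Subgroup G) - Nat.card R') (by omega) R' hR'S rfl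
    have hQ := Q_of_P S 𝓦 h𝓦 hloc (Nat.card R) IH
    set V : Subgroup G := W R with hV
    have hVR : V ≤ R := (h𝓦 W hW R hRp).1
    have hVne : V ≠ ⊥ := (h𝓦 W hW R hRp).2.1 hRbot
    set NV : Subgroup G := (S : Subgroup G) ⊓ Subgroup.normalizer (V : Set G) with hNV
    have hNRNV : (S : Subgroup G) ⊓ Subgroup.normalizer (R : Set G) ≤ NV := by
      apply inf_le_inf_left
      intro y hy
      rw [← map_conj_eq_self_iff_mem_normalizer] at hy ⊢
      rw [hV, ← (h𝓦 W hW R hRp).2.2 y, hy]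
    have hRNV : R < NV := lt_of_lt_of_le (lt_inf_normalizer_of_lt (S : Subgroup G) R hS hRlt) hNRNV
    have hcardNV : Nat.card R < Nat.card NV := card_lt_card_of_lt hRNV
    obtain ⟨k, hk1, hk2⟩ := exists_conj_normalizer_sylow S V
    set V' : Subgroup G := V.map (MulAut.conj k).toMonoidHom with hV'
    set NV' : Subgroup G := (S : Subgroup G) ⊓ Subgroup.normalizer (V' : Set G) with hNV'
    have hkNV : ∀ x ∈ NV, k * x * k⁻¹ ∈ (S : Subgroup G) := fun x hx => hk1 (conj_mem_map_conj NV k hx)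
    have hmapNV : NV.map (MulAut.conj k).toMonoidHom ≤ NV' := by
      apply le_inf hk1
      rw [hV', normalizer_map_conj]
      exact Subgroup.map_mono inf_le_right
    have hV'S : V' ≤ (S : Subgroup G) := by
      have : V ≤ NV := hVR.trans hRNV.le
      exact ((Subgroup.map_mono this).trans hmapNV).trans inf_le_left
    have hV'ne : V' ≠ ⊥ := by
      intro h
      apply hVne
      rw [hV'] at h
      exact (Subgroup.map_eq_bot_iff_of_injective V (MulAut.conj k).injective).mp h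
    have hcardNV' : Nat.card R < Nat.card NV' := by
      have h1 : Nat.card (NV.map (MulAut.conj k).toMonoidHom) ≤ Nat.card NV' := Subgroup.card_le_of_le hmapNV
      rw [card_map_conj] at h1
      omega
    have hlocal := localF S 𝓦 h𝓦 hloc V' hV'S hV'ne hk2 (fun W hW => IH NV' inf_le_left hcardNV' W hW)
    intro u hu
    obtain ⟨huR, huC⟩ := Subgroup.mem_inf.mp hu
    have h1 : u * (k * u * k⁻¹)⁻¹ ∈ F0 𝓦 (S : Subgroup G) :=
      hQ NV inf_le_left hcardNV k hkNV u (hRNV.le huR)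
    have h2 : k * u * k⁻¹ ∈ F0 𝓦 (S : Subgroup G) := by
      apply hlocal
      refine Subgroup.mem_inf.mpr ⟨hmapNV (conj_mem_map_conj NV k (hRNV.le huR)), ?_⟩
      rw [hV', normalizer_map_conj, ← Subgroup.map_commutator]
      exact conj_mem_map_conj _ k huC
    have : u = (u * (k * u * k⁻¹)⁻¹) * (k * u * k⁻¹) := by group
    rw [this]
    exact Subgroup.mul_mem _ h1 h2

end

/-- Let p be a prime, G a finite group with Sylow p-subgroup S, and 𝓦 a set of conjugacy functors for p on G. Suppose that 𝓦 controls transfer in N_G(T) for every nonidentity subgroup T of S for which N_S(T) is a Sylow p-subgroup of N_G(T). Then 𝓦 controls transfer in G. -/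
theorem result {G : Type*} [Group G] [Finite G] {p : ℕ} [Fact p.Prime] (S : Sylow p G) (𝓦 : Set (Subgroup G → Subgroup G)) (h𝓦 : ∀ W ∈ 𝓦, Cfsg.IsConjugacyFunctor p W) (hloc : ∀ T : Subgroup G, T ≤ (S : Subgroup G) → T ≠ ⊥ → ¬ p ∣ ((S : Subgroup G) ⊓ Subgroup.normalizer ((T : Subgroup G) : Set G)).relIndex (Subgroup.normalizer ((T : Subgroup G) : Set G)) → Cfsg.FamilyControlsTransferIn p 𝓦 (Subgroup.normalizer ((T : Subgroup G) : Set G))) : Cfsg.FamilyControlsTransferIn p 𝓦 ⊤ := by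
  classical
  refine ⟨S, le_top, S.isPGroup', ?_, ?_⟩
  · rw [Subgroup.relIndex_top_right]; exact S.not_dvd_index
  · apply le_antisymm
    · have hP : ∀ R' : Subgroup G, R' ≤ (S : Subgroup G) → 0 < Nat.card R' → ∀ W ∈ 𝓦,
          R' ⊓ ⁅Subgroup.normalizer ((W R' : Subgroup G) : Set G),
            Subgroup.normalizer ((W R' : Subgroup G) : Set G)⁆ ≤ F0 𝓦 (S : Subgroup G) :=
        fun R' hR'S _ => mainP S 𝓦 h𝓦 hloc _ R' hR'S rfl
      have hQ := Q_of_P S 𝓦 h𝓦 hloc 0 hP
      have hfocal : (S : Subgroup G) ⊓ ⁅(⊤ : Subgroup G), ⊤⁆ = (S : Subgroup G).focalSubgroup := by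
        rw [inf_comm, ← commutator_def]
        exact Subgroup.commutator_inf_eq_focalSubgroup S
      show (S : Subgroup G) ⊓ ⁅(⊤ : Subgroup G), ⊤⁆ ≤ F0 𝓦 (S : Subgroup G)
      rw [hfocal, Subgroup.focalSubgroup_def, Subgroup.closure_le]
      rintro g ⟨hgS, x, hxS, u, rfl⟩
      have hux : u * x * u⁻¹ ∈ (S : Subgroup G) := by
        have : u * x * u⁻¹ = (⁅x, u⁆)⁻¹ * x := by rw [commutatorElement_def]; group
        rw [this]; exact Subgroup.mul_mem _ (Subgroup.inv_mem _ hgS) hxS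
      have := hQ (Subgroup.zpowers x) (Subgroup.zpowers_le.mpr hxS) Nat.card_pos u (by
        intro t ht
        obtain ⟨k, rfl⟩ := Subgroup.mem_zpowers_iff.mp ht
        rw [← conj_zpow]
        exact Subgroup.zpow_mem _ hux k) x (Subgroup.mem_zpowers x)
      have h2 : ⁅x, u⁆ = x * (u * x * u⁻¹)⁻¹ := by rw [commutatorElement_def]; group
      show ⁅x, u⁆ ∈ F0 𝓦 (S : Subgroup G)
      rw [h2]; exact this
    · apply iSup_le
      intro W
      apply iSup_le
      intro _
      exact inf_le_inf_left _ (Subgroup.commutator_mono le_top le_top)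

end Cfsg.Agent.S1960
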