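import Cfsg.Statements.S2005
import Cfsg.Agent.Lib.Helper13.Sections
import Cfsg.Agent.Lib.Helper13.CharFunctor
import Cfsg.Agent.Lib.Helper13.CharFunctor2
import Cfsg.Agent.Lib.Helper13.PNilpotent
import Cfsg.Agent.Lib.Helper13.PGroup
import Cfsg.Agent.Lib.Helper13.Cores
import Cfsg.Agent.Lib.Helper16.Amalgam2
import Cfsg.Agent.Lib.Helper9.Frattini
import Cfsg.Agent.H5.PSolvable

set_option autoImplicit false
universe u
open Cfsg

namespace Cfsg.Agent.S2005

open Cfsg.Agent.Lib.Helper13

/-- the predicate imposed on all sections -/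
def Φ (p : ℕ) (W : ∀ (Q : Type u) [Group Q], Subgroup Q) (X : Type u) [Group X] : Prop :=
  Finite X → Subgroup.centralizer ((pCore p X : Subgroup X) : Set X) ≤ pCore p X →
    HasNormalPComplement p (X ⧸ pCore p X) → ∀ T : Sylow p X, IsCoatom (T : Subgroup X) →
      (inducedFunctor (G := X) W (T : Subgroup X)).Normal

theorem isoInv_Φ {p : ℕ} [Fact p.Prime] {W : ∀ (Q : Type u) [Group Q], Subgroup Q}
    (hW : IsCharPFunctor.{u} p W) : IsoInv (Φ p W) := by
  intro X Y _ _ e h hfin hC hQ T hT
  have hfX : Finite X := Finite.of_equiv Y e.symm.toEquiv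
  have hCX : Subgroup.centralizer ((pCore p X : Subgroup X) : Set X) ≤ pCore p X :=
    Cfsg.Agent.Lib.Helper16.charp_of_equiv e.symm hC
  have hmapP : (pCore p Y).map e.symm.toMonoidHom = pCore p X :=
    Cfsg.Agent.Lib.Helper16.pCore_map_equiv e.symm
  have hQX : HasNormalPComplement p (X ⧸ pCore p X) :=
    hasNormalPComplement_of_equiv (QuotientGroup.congr (pCore p Y) (pCore p X) e.symm hmapP) hQ
  set T' : Sylow p X := T.mapSurjective (f := e.symm.toMonoidHom) e.symm.surjective with hT'
  have hT'coe : (T' : Subgroup X) = (T : Subgroup Y).map e.symm.toMonoidHom := Sylow.coe_mapSurjective _ T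
  have hT'co : IsCoatom (T' : Subgroup X) := by
    rw [hT'coe]
    exact (OrderIso.isCoatom_iff (e.symm.mapSubgroup) (T : Subgroup Y)).mpr hT
  have hn := h hfX hCX hQX T' hT'co
  have hback : (T : Subgroup Y) = (T' : Subgroup X).map e.toMonoidHom := by
    rw [hT'coe]
    have := Cfsg.Agent.Lib.Helper10.map_symm_map e.symm (T : Subgroup Y)
    simpa using this.symm
  rw [hback, inducedFunctor_map_equiv hW e _ T'.isPGroup']
  exact hn.map _ e.surjective

section
variable {G : Type u} [Group G] [Finite G] {p : ℕ} [Fact p.Prime]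
  {W : ∀ (Q : Type u) [Group Q], Subgroup Q}

/-- a subgroup that is the whole group -/
theorem hasNPC_of_eq_top (M : Subgroup G) (hM : M = ⊤) (h : HasNormalPComplement p ↥M) :
    HasNormalPComplement p G := by
  apply hasNormalPComplement_of_surjective M.subtype _ h
  intro x
  exact ⟨⟨x, hM ▸ Subgroup.mem_top x⟩, rfl⟩

/-- the local hypothesis passes to the quotient by a normal `p'`-subgroup -/
theorem quotient_pPrime_hN (hW : IsCharPFunctor.{u} p W) (O : Subgroup G) [O.Normal]
    (hO : (Nat.card O).Coprime p)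
    (hN : ∀ S : Sylow p G, HasNormalPComplement p
      ↥(Subgroup.normalizer ((inducedFunctor (G := G) W (S : Subgroup G) : Subgroup G) : Set G))) :
    ∀ T : Sylow p (G ⧸ O), HasNormalPComplement p
      ↥(Subgroup.normalizer ((inducedFunctor (G := G ⧸ O) W (T : Subgroup (G ⧸ O)) : Subgroup (G ⧸ O)) : Set (G ⧸ O))) := by
  intro T
  obtain ⟨S, rfl⟩ := Sylow.mapSurjective_surjective (QuotientGroup.mk'_surjective O) p T
  rw [Sylow.coe_mapSurjective]
  have hinj : ∀ t ∈ (S : Subgroup G), (QuotientGroup.mk' O) t = 1 → t = 1 := by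
    intro t ht h1
    have htO : t ∈ O := (QuotientGroup.eq_one_iff t).mp h1
    have hbot : (S : Subgroup G) ⊓ O = ⊥ := by
      apply disjoint_iff.mp
      apply Subgroup.disjoint_of_coprime_natCard
      obtain ⟨k, hk⟩ := S.isPGroup'.exists_card_eq
      rw [hk]
      exact (Nat.Coprime.pow_right k hO).symm
    have : t ∈ (S : Subgroup G) ⊓ O := ⟨ht, htO⟩
    rw [hbot] at this
    exact Subgroup.mem_bot.mp this
  rw [inducedFunctor_map_of_injOn hW (QuotientGroup.mk' O) (S : Subgroup G) S.isPGroup' hinj]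
  have hWp : IsPGroup p ↥(inducedFunctor (G := G) W (S : Subgroup G)) :=
    S.isPGroup'.to_le (inducedFunctor_le _)
  rw [← Cfsg.Agent.Lib.Helper9.map_normalizer_eq_normalizer_map hO hWp]
  exact hasNormalPComplement_of_surjective
    ((QuotientGroup.mk' O).subgroupMap _) ((QuotientGroup.mk' O).subgroupMap_surjective _) (hN S)

/-- normal `p`-complements of normalizers pass to the quotient group -/
theorem quotient_normalizer (P : Subgroup G) [P.Normal] (Y : Subgroup (G ⧸ P))
    (h : HasNormalPComplement p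
      ↥(Subgroup.normalizer ((Y.comap (QuotientGroup.mk' P) : Subgroup G) : Set G))) :
    HasNormalPComplement p ↥(Subgroup.normalizer (Y : Set (G ⧸ P))) := by
  have hs : Function.Surjective (QuotientGroup.mk' P) := QuotientGroup.mk'_surjective P
  have heq : Subgroup.normalizer ((Y.comap (QuotientGroup.mk' P) : Subgroup G) : Set G) =
      (Subgroup.normalizer (Y : Set (G ⧸ P))).comap (QuotientGroup.mk' P) :=
    (Subgroup.comap_normalizer_eq_of_surjective Y hs).symm
  rw [heq] at h
  exact hasNormalPComplement_of_surjective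
    ((QuotientGroup.mk' P).subgroupComap (Subgroup.normalizer (Y : Set (G ⧸ P))))
    (MonoidHom.subgroupComap_surjective_of_surjective _ _ hs) h

/-- a subgroup with a normal `p`-complement containing a Sylow subgroup and a self-centralizing normal
`p`-subgroup is a `p`-group -/
theorem eq_sylow_of_hasNPC (S : Sylow p G) (M : Subgroup G) (hSM : (S : Subgroup G) ≤ M) (P : Subgroup G)
    (hPn : P.Normal) (hPS : P ≤ (S : Subgroup G))
    (hC : Subgroup.centralizer (P : Set G) ≤ P) (h : HasNormalPComplement p ↥M) :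
    M = (S : Subgroup G) := by
  obtain ⟨K, hKn, hcop, k, hk⟩ := hasNormalPComplement_iff_exists.mp h
  have hPp : IsPGroup p ↥P := S.isPGroup'.to_le hPS
  set K' : Subgroup G := K.map M.subtype with hK'
  have hK'card : Nat.card K' = Nat.card K := Subgroup.card_map_of_injective M.subtype_injective
  have hbot : K' ⊓ P = ⊥ := by
    apply disjoint_iff.mp
    apply Subgroup.disjoint_of_coprime_natCard
    obtain ⟨j, hj⟩ := hPp.exists_card_eq
    rw [hj, hK'card]
    exact Nat.Coprime.pow_right j hcop
  have hK'C : K' ≤ Subgroup.centralizer (P : Set G) := by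
    rintro _ ⟨c, hc, rfl⟩
    rw [Subgroup.mem_centralizer_iff]
    intro x hx
    have hxM : x ∈ M := hSM (hPS hx)
    have h1 : (c : G) * x * (c : G)⁻¹ * x⁻¹ ∈ P :=
      P.mul_mem (hPn.conj_mem x hx _) (P.inv_mem hx)
    have h2 : (c : G) * x * (c : G)⁻¹ * x⁻¹ ∈ K' := by
      have h3 : (⟨x, hxM⟩ : ↥M) * c⁻¹ * (⟨x, hxM⟩ : ↥M)⁻¹ ∈ K := hKn.conj_mem _ (K.inv_mem hc) _
      have h4 : c * ((⟨x, hxM⟩ : ↥M) * c⁻¹ * (⟨x, hxM⟩ : ↥M)⁻¹) ∈ K := K.mul_mem hc h3
      refine ⟨_, h4, ?_⟩
      simp only [Subgroup.subtype_apply, Subgroup.coe_mul, Subgroup.coe_inv]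
      group
    have h5 : (c : G) * x * (c : G)⁻¹ * x⁻¹ ∈ K' ⊓ P := ⟨h2, h1⟩
    rw [hbot, Subgroup.mem_bot] at h5
    have : x * (c : G) = ((c : G) * x * (c : G)⁻¹ * x⁻¹)⁻¹ * ((c : G) * x) := by group
    show x * (c : G) = (c : G) * x
    rw [this, h5]; simp
  have hK'bot : K' = ⊥ := by
    rw [eq_bot_iff, ← hbot]
    exact le_inf le_rfl (hK'C.trans hC)
  have hKbot : K = ⊥ := (Subgroup.map_eq_bot_iff_of_injective _ M.subtype_injective).mp hK'bot
  have hMp : IsPGroup p ↥M := by
    apply IsPGroup.of_card (n := k)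
    rw [← hk, hKbot, Subgroup.index_bot]
  exact S.is_maximal' hMp hSM

end

/-- the main induction -/
theorem main {p : ℕ} [Fact p.Prime] {W : ∀ (Q : Type u) [Group Q], Subgroup Q} (hW : IsCharPFunctor.{u} p W) :
    ∀ n : ℕ, ∀ (G : Type u) [Group G] [Finite G], Nat.card G = n → SecAll (Φ p W) G →
      (∀ S : Sylow p G, HasNormalPComplement p
        ↥(Subgroup.normalizer ((inducedFunctor (G := G) W (S : Subgroup G) : Subgroup G) : Set G))) →
      HasNormalPComplement p G := by
  intro n
  induction n using Nat.strong_induction_on with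
  | _ n ih =>
  intro G _ _ hn hsec hN
  have hp : p.Prime := Fact.out
  by_contra hGnot
  -- Step 0: the `p'`-core is trivial
  have hOn : (pPrimeCore p G).Normal := Cfsg.Agent.Lib.Helper1.pPrimeCore_normal p
  have hOcop : (Nat.card (pPrimeCore p G)).Coprime p := Cfsg.Agent.Lib.Helper1.pPrimeCore_coprime p
  have hcard_quot : ∀ V : Subgroup G, V ≠ ⊥ → Nat.card (G ⧸ V) < n := by
    intro V hVne
    rw [← hn, ← Subgroup.index_eq_card, ← Subgroup.card_mul_index V]
    have h1 : 1 < Nat.card V := by
      rw [Finite.one_lt_card_iff_nontrivial]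
      exact (Subgroup.nontrivial_iff_ne_bot V).mpr hVne
    have h2 : 0 < V.index := Nat.pos_of_ne_zero Subgroup.index_ne_zero_of_finite
    nlinarith
  have hcard_sub : ∀ M : Subgroup G, M ≠ ⊤ → Nat.card ↥M < n := by
    intro M hM
    rw [← hn, ← Subgroup.card_top (G := G)]
    exact card_lt_card_of_lt (lt_top_iff_ne_top.mpr hM)
  have hO : pPrimeCore p G = ⊥ := by
    by_contra hne
    have := ih _ (hcard_quot _ hne) (G ⧸ pPrimeCore p G) rfl (secAll_quotient (isoInv_Φ hW) hsec _)
      (quotient_pPrime_hN hW _ hOcop hN)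
    exact hGnot (hasNormalPComplement_of_quotient _ hOcop this)
  -- the bad `p`-subgroups
  obtain ⟨Q₀, hQ₀p, hQ₀ne, hQ₀⟩ : ∃ Q : Subgroup G, IsPGroup p ↥Q ∧ Q ≠ ⊥ ∧
      ¬ HasNormalPComplement p ↥(Subgroup.normalizer (Q : Set G)) := by
    by_contra hcon
    push Not at hcon
    exact hGnot (hasNormalPComplement_iff_local.mpr hcon)
  set μ : Subgroup G → ℕ := fun H =>
    (Nat.card ↥(Subgroup.normalizer (H : Set G))).factorization p * (Nat.card G + 1) + Nat.card ↥H with hμ
  set 𝓗 : Set (Subgroup G) := {H | IsPGroup p ↥H ∧ H ≠ ⊥ ∧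
      ¬ HasNormalPComplement p ↥(Subgroup.normalizer (H : Set G))} with h𝓗
  obtain ⟨H, ⟨hHp, hHne, hHbad⟩, hHmax⟩ :=
    Set.exists_max_image 𝓗 μ (Set.toFinite 𝓗) ⟨Q₀, hQ₀p, hQ₀ne, hQ₀⟩
  have key : ∀ X : Subgroup G, IsPGroup p ↥X → X ≠ ⊥ → μ H < μ X →
      HasNormalPComplement p ↥(Subgroup.normalizer (X : Set G)) := by
    intro X hXp hXne hlt
    by_contra hbad
    exact absurd (hHmax X ⟨hXp, hXne, hbad⟩) (not_le.mpr hlt)
  have hHG : Nat.card ↥H ≤ Nat.card G := Subgroup.card_le_card_group H
  have key1 : ∀ X : Subgroup G, IsPGroup p ↥X → X ≠ ⊥ →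
      (Nat.card ↥(Subgroup.normalizer (H : Set G))).factorization p <
        (Nat.card ↥(Subgroup.normalizer (X : Set G))).factorization p →
      HasNormalPComplement p ↥(Subgroup.normalizer (X : Set G)) := by
    intro X hXp hXne hlt
    apply key X hXp hXne
    show (Nat.card ↥(Subgroup.normalizer (H : Set G))).factorization p * (Nat.card G + 1) + Nat.card ↥H <
      (Nat.card ↥(Subgroup.normalizer (X : Set G))).factorization p * (Nat.card G + 1) + Nat.card ↥X
    have h1 : ((Nat.card ↥(Subgroup.normalizer (H : Set G))).factorization p + 1) * (Nat.card G + 1) ≤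
        (Nat.card ↥(Subgroup.normalizer (X : Set G))).factorization p * (Nat.card G + 1) :=
      Nat.mul_le_mul_right _ hlt
    nlinarith
  have key2 : ∀ X : Subgroup G, IsPGroup p ↥X → X ≠ ⊥ →
      (Nat.card ↥(Subgroup.normalizer (H : Set G))).factorization p ≤
        (Nat.card ↥(Subgroup.normalizer (X : Set G))).factorization p →
      Nat.card ↥H < Nat.card ↥X →
      HasNormalPComplement p ↥(Subgroup.normalizer (X : Set G)) := by
    intro X hXp hXne hle hlt
    apply key X hXp hXne
    show (Nat.card ↥(Subgroup.normalizer (H : Set G))).factorization p * (Nat.card G + 1) + Nat.card ↥H <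
      (Nat.card ↥(Subgroup.normalizer (X : Set G))).factorization p * (Nat.card G + 1) + Nat.card ↥X
    have h1 : (Nat.card ↥(Subgroup.normalizer (H : Set G))).factorization p * (Nat.card G + 1) ≤
        (Nat.card ↥(Subgroup.normalizer (X : Set G))).factorization p * (Nat.card G + 1) :=
      Nat.mul_le_mul_right _ hle
    omega
  set N : Subgroup G := Subgroup.normalizer (H : Set G) with hNdef
  by_cases hNtop : N = ⊤
  · -- `H` is normal in `G`
    have hHn : H.Normal := Subgroup.normalizer_eq_top_iff.mp hNtop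
    set P : Subgroup G := pCore p G with hP
    have hPn : P.Normal := inferInstance
    have hPp : IsPGroup p ↥P := Cfsg.Agent.Lib.Helper13.pCore_isPGroup p
    have hHP : H ≤ P := Cfsg.Agent.Lib.Helper13.le_pCore H hHn hHp
    have hPne : P ≠ ⊥ := fun h => hHne (eq_bot_iff.mpr (h ▸ hHP))
    have hfacH : (Nat.card ↥N).factorization p = (Nat.card G).factorization p := by
      rw [hNtop, Subgroup.card_top]
    have hsurj : Function.Surjective (QuotientGroup.mk' P) := QuotientGroup.mk'_surjective P
    have claimA : ∀ X : Subgroup G, IsPGroup p ↥X → Nat.card ↥H < Nat.card ↥X →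
        (∃ S' : Sylow p G, (S' : Subgroup G) ≤ Subgroup.normalizer (X : Set G)) →
        HasNormalPComplement p ↥(Subgroup.normalizer (X : Set G)) := by
      rintro X hXp hlt ⟨S', hS'⟩
      have hXne : X ≠ ⊥ := by
        rintro rfl
        rw [Subgroup.card_bot] at hlt
        have := Nat.card_pos (α := ↥H)
        omega
      apply key2 X hXp hXne _ hlt
      rw [hfacH]
      have h3 : p ^ (Nat.card G).factorization p ∣ Nat.card ↥(Subgroup.normalizer (X : Set G)) := by
        rw [← S'.card_eq_multiplicity]; exact Subgroup.card_dvd_of_le hS'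
      exact (hp.pow_dvd_iff_le_factorization Nat.card_pos.ne').mp h3
    have hPH : P = H := by
      by_contra hne
      have hlt : Nat.card ↥H < Nat.card ↥P := card_lt_card_of_lt (lt_of_le_of_ne hHP (Ne.symm hne))
      obtain ⟨S'⟩ : Nonempty (Sylow p G) := inferInstance
      have hNP : Subgroup.normalizer (P : Set G) = ⊤ := Subgroup.normalizer_eq_top_iff.mpr hPn
      have := claimA P hPp hlt ⟨S', by rw [hNP]; exact le_top⟩
      exact hGnot (hasNPC_of_eq_top _ hNP this)
    have hSP : ∀ S' : Sylow p G, (S' : Subgroup G) ≠ P := by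
      intro S' h
      have hSn : (S' : Subgroup G).Normal := h ▸ hPn
      have hWn := inducedFunctor_normal hW (S' : Subgroup G) S'.isPGroup' hSn
      exact hGnot (hasNPC_of_eq_top _ (Subgroup.normalizer_eq_top_iff.mpr hWn) (hN S'))
    -- the quotient by `P`
    have hGP : HasNormalPComplement p (G ⧸ P) := by
      apply ih _ (hcard_quot P hPne) (G ⧸ P) rfl (secAll_quotient (isoInv_Φ hW) hsec P)
      intro T
      obtain ⟨S₁, rfl⟩ := Sylow.mapSurjective_surjective hsurj p T
      set T : Sylow p (G ⧸ P) := S₁.mapSurjective hsurj with hT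
      have hTcoe : (T : Subgroup (G ⧸ P)) = (S₁ : Subgroup G).map (QuotientGroup.mk' P) :=
        Sylow.coe_mapSurjective _ S₁
      apply quotient_normalizer P
      set Y : Subgroup (G ⧸ P) := inducedFunctor (G := G ⧸ P) W (T : Subgroup (G ⧸ P)) with hY
      set X : Subgroup G := Y.comap (QuotientGroup.mk' P) with hX
      have hTne : (T : Subgroup (G ⧸ P)) ≠ ⊥ := by
        rw [hTcoe]
        intro h
        have h1 : (S₁ : Subgroup G) ≤ P := by
          rw [Subgroup.map_eq_bot_iff, QuotientGroup.ker_mk'] at h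
          exact h
        exact hSP S₁ (le_antisymm h1 (Cfsg.Agent.Lib.Helper13.pCore_le_sylow S₁))
      have hYne : Y ≠ ⊥ := inducedFunctor_ne_bot hW _ T.isPGroup' hTne
      have hYp : IsPGroup p ↥Y := T.isPGroup'.to_le (inducedFunctor_le _)
      have hXp : IsPGroup p ↥X :=
        hYp.comap_of_ker_isPGroup _ (by rw [QuotientGroup.ker_mk']; exact hPp)
      have hPX : P ≤ X := by
        intro x hx
        rw [hX, Subgroup.mem_comap]
        have : QuotientGroup.mk' P x = 1 := (QuotientGroup.eq_one_iff x).mpr hx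
        rw [this]; exact Y.one_mem
      have hPXne : P ≠ X := by
        intro h
        apply hYne
        rw [eq_bot_iff]
        intro y hy
        obtain ⟨x, rfl⟩ := hsurj y
        have hx : x ∈ X := hy
        rw [← h] at hx
        exact Subgroup.mem_bot.mpr ((QuotientGroup.eq_one_iff x).mpr hx)
      have hlt : Nat.card ↥H < Nat.card ↥X := by
        rw [← hPH]; exact card_lt_card_of_lt (lt_of_le_of_ne hPX hPXne)
      apply claimA X hXp hlt
      refine ⟨S₁, ?_⟩
      intro s hs
      have h1 : QuotientGroup.mk' P s ∈ Subgroup.normalizer (Y : Set (G ⧸ P)) := by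
        apply (Subgroup.le_normalizer.trans (normalizer_le_normalizer_inducedFunctor hW _ T.isPGroup'))
        rw [hTcoe]
        exact Subgroup.mem_map_of_mem _ hs
      rw [hX, ← Subgroup.comap_normalizer_eq_of_surjective Y hsurj]
      exact h1
    -- `P` contains its centralizer
    have hC : Subgroup.centralizer (P : Set G) ≤ P := by
      obtain ⟨Kb, hKbn, hKbcop, k, hk⟩ := hasNormalPComplement_iff_exists.mp hGP
      set L : Subgroup G := Kb.comap (QuotientGroup.mk' P) with hL
      have hLn : L.Normal := hKbn.comap _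
      have hPL : P ≤ L := by
        intro x hx
        rw [hL, Subgroup.mem_comap]
        have : QuotientGroup.mk' P x = 1 := (QuotientGroup.eq_one_iff x).mpr hx
        rw [this]; exact Kb.one_mem
      have hrel : (P.relIndex L).Coprime p := by
        rw [← Cfsg.H5.card_map_mk' P L, hL, Subgroup.map_comap_eq_self_of_surjective hsurj]
        exact hKbcop
      have hidx : L.index = p ^ k := by
        rw [hL, Subgroup.index_comap_of_surjective Kb hsurj]; exact hk
      have hsol : IsPSolvable p G := isPSolvable_of_series P L hPn hLn hPL hPp hrel ⟨k, hidx⟩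
      exact Cfsg.H5.centralizer_pCore_le_of_isPSolvable hsol hO
    -- a Sylow subgroup is maximal
    obtain ⟨S⟩ : Nonempty (Sylow p G) := inferInstance
    have hPS : P ≤ (S : Subgroup G) := Cfsg.Agent.Lib.Helper13.pCore_le_sylow S
    have hSco : IsCoatom (S : Subgroup G) := by
      constructor
      · intro htop
        exact hGnot (hasNPC_of_eq_top _ htop (hasNormalPComplement_of_isPGroup S.isPGroup'))
      · intro M hSM
        by_contra hMtop
        have hM : HasNormalPComplement p ↥M := by
          apply ih _ (hcard_sub M hMtop) ↥M rfl (secAll_subgroup (isoInv_Φ hW) hsec M)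
          intro Q
          apply hasNormalPComplement_normalizer_inducedFunctor_subgroup hW M (Q : Subgroup ↥M) Q.isPGroup'
          have hQ'p : IsPGroup p ↥((Q : Subgroup ↥M).map M.subtype) := Q.isPGroup'.map _
          have hidx : ¬ p ∣ ((Q : Subgroup ↥M).map M.subtype).index := by
            rw [Subgroup.index_map_subtype]
            exact hp.not_dvd_mul Q.not_dvd_index
              (fun h => S.not_dvd_index (dvd_trans h (Subgroup.index_dvd_of_le hSM.le)))
          exact hN (hQ'p.toSylow hidx)
        have := eq_sylow_of_hasNPC S M hSM.le P hPn hPS hC hM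
        exact hSM.ne this.symm
    have hΦ := secAll_self (isoInv_Φ hW) hsec
    have hWn := hΦ inferInstance hC hGP S hSco
    exact hGnot (hasNPC_of_eq_top _ (Subgroup.normalizer_eq_top_iff.mpr hWn) (hN S))
  · -- `N` is a proper subgroup
    apply hHbad
    apply ih _ (hcard_sub N hNtop) ↥N rfl (secAll_subgroup (isoInv_Φ hW) hsec N)
    intro Q
    apply hasNormalPComplement_normalizer_inducedFunctor_subgroup hW N (Q : Subgroup ↥N) Q.isPGroup'
    set Q' : Subgroup G := (Q : Subgroup ↥N).map N.subtype with hQ'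
    have hQ'p : IsPGroup p ↥Q' := Q.isPGroup'.map _
    have hHQ' : H ≤ Q' := by
      have h1 : H.subgroupOf N ≤ (Q : Subgroup ↥N) := by
        have hn : (H.subgroupOf N).Normal := Subgroup.normal_in_normalizer
        have hpH : IsPGroup p ↥(H.subgroupOf N) := hHp.comap_subtype
        exact (Cfsg.Agent.Lib.Helper13.le_pCore _ hn hpH).trans (Cfsg.Agent.Lib.Helper13.pCore_le_sylow Q)
      intro x hx
      exact ⟨⟨x, Subgroup.le_normalizer hx⟩, h1 (Subgroup.mem_subgroupOf.mpr hx), rfl⟩
    have hQ'ne : Q' ≠ ⊥ := fun h => hHne (eq_bot_iff.mpr (h ▸ hHQ'))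
    have hWne : inducedFunctor (G := G) W Q' ≠ ⊥ := inducedFunctor_ne_bot hW Q' hQ'p hQ'ne
    have hWp : IsPGroup p ↥(inducedFunctor (G := G) W Q') := hQ'p.to_le (inducedFunctor_le _)
    by_cases hidx : p ∣ Q'.index
    · obtain ⟨S, hQ'S⟩ := hQ'p.exists_le_sylow
      have hlt : Q' < (S : Subgroup G) :=
        lt_of_le_of_ne hQ'S (fun h => S.not_dvd_index (h ▸ hidx))
      have hlt2 := lt_inf_normalizer_of_lt (S : Subgroup G) Q' S.isPGroup' hlt
      set R : Subgroup G := (S : Subgroup G) ⊓ Subgroup.normalizer (Q' : Set G) with hR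
      have hRp : IsPGroup p ↥R := S.isPGroup'.to_le inf_le_left
      have hRN : R ≤ Subgroup.normalizer ((inducedFunctor (G := G) W Q' : Subgroup G) : Set G) :=
        inf_le_right.trans (normalizer_le_normalizer_inducedFunctor hW Q' hQ'p)
      apply key1 _ hWp hWne
      obtain ⟨r, hr⟩ := hRp.exists_card_eq
      have hQ'card : Nat.card ↥Q' = p ^ (Nat.card ↥N).factorization p := by
        rw [hQ', Subgroup.card_map_of_injective N.subtype_injective]; exact Q.card_eq_multiplicity
      have h1 : Nat.card ↥Q' < Nat.card ↥R := card_lt_card_of_lt hlt2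
      have h2 : (Nat.card ↥N).factorization p < r := by
        rw [hQ'card, hr] at h1
        exact (Nat.pow_lt_pow_iff_right hp.one_lt).mp h1
      have h3 : p ^ r ∣ Nat.card ↥(Subgroup.normalizer ((inducedFunctor (G := G) W Q' : Subgroup G) : Set G)) := by
        rw [← hr]; exact Subgroup.card_dvd_of_le hRN
      have h4 := (hp.pow_dvd_iff_le_factorization Nat.card_pos.ne').mp h3
      exact lt_of_lt_of_le h2 h4
    · exact hN (hQ'p.toSylow hidx)

/-- Thompson's normal p-complement criterion in functor form. Let p be a prime, G a finite group with Sylow p-subgroup S, and W an isomorphism-invariant p-group functor (W assigns to every group Q a subgroup W(Q), nontrivial whenever Q is a nontrivial finite p-group, and every isomorphism from a finite p-group Q onto a group R carries W(Q) onto W(R)). Suppose N_G(W(S)) has a normal p-complement, and that W(S*) is normal in G* whenever G* = K/R is a section of G with C_{G*}(O_p(G*)) ≤ O_p(G*) such that G*/O_p(G*) has a normal p-complement, and S* is a Sylow p-subgroup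 of G* that is a maximal subgroup of G*. Then G has a normal p-complement. -/
theorem result {G : Type u} [Group G] [Finite G] {p : ℕ} [Fact p.Prime] (W : ∀ (Q : Type u) [Group Q], Subgroup Q) (hW : Cfsg.IsCharPFunctor.{u} p W) (S : Sylow p G) (hN : Cfsg.HasNormalPComplement p ↥(Subgroup.normalizer ((Cfsg.inducedFunctor (G := G) W (S : Subgroup G) : Subgroup G) : Set G))) (hloc : ∀ (K R : Subgroup G) [hR : (R.subgroupOf K).Normal], Subgroup.centralizer ((Cfsg.pCore p (↥K ⧸ R.subgroupOf K) : Subgroup (↥K ⧸ R.subgroupOf K)) : Set (↥K ⧸ R.subgroupOf K)) ≤ Cfsg.pCore p (↥K ⧸ R.subgroupOf K) → Cfsg.HasNormalPComplement p ((↥K ⧸ R.subgroupOf K) ⧸ Cfsg.pCore p (↥K ⧸ R.subgroupOf K)) → ∀ T : Sylow p (↥K ⧸ R.subgroupOf K), IsCoatom (T : Subgroup (↥K ⧸ R.subgroupOf K)) → (Cfsg.inducedFunctor (G := (↥K ⧸ R.subgroupOf K)) W ((T : Subgroup (↥K ⧸ R.subgroupOf K)))).Normal) : Cfsg.HasNormalPComplement p G := by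
  apply main hW _ G rfl (fun K R _ _ => hloc K R)
  intro S'
  exact hasNormalPComplement_normalizer_inducedFunctor_sylow hW S S' hN

end Cfsg.Agent.S2005
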