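import Cfsg.Statements.S2006
import Cfsg.Agent.S2005
import Cfsg.Agent.Lib.Helper13.HallHigmanLite
import Cfsg.Agent.Lib.Helper13.MaximalSylow
import Cfsg.Agent.Lib.Helper4.MinNormal
import Cfsg.Agent.H5.NilAct

set_option autoImplicit false
universe u
open Cfsg

namespace Cfsg.Agent.S2006

open Cfsg.Agent.Lib.Helper13
open scoped commutatorElement

section
variable {X : Type u} [Group X] {p : ℕ} [Fact p.Prime]

/-- the image of a maximal Sylow subgroup in the quotient by a normal subgroup it contains is maximal -/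
theorem isCoatom_map_mk' (P : Subgroup X) [P.Normal] (T : Subgroup X) (hPT : P ≤ T) (hT : IsCoatom T) :
    IsCoatom (T.map (QuotientGroup.mk' P)) := by
  have hs : Function.Surjective (QuotientGroup.mk' P) := QuotientGroup.mk'_surjective P
  have hker : (QuotientGroup.mk' P).ker ≤ T := by rw [QuotientGroup.ker_mk']; exact hPT
  have hcm : (T.map (QuotientGroup.mk' P)).comap (QuotientGroup.mk' P) = T :=
    Subgroup.comap_map_eq_self hker
  constructor
  · intro h
    apply hT.1
    rw [← hcm, h, Subgroup.comap_top]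
  · intro B hB
    have h1 : T ≤ B.comap (QuotientGroup.mk' P) := by
      rw [← hcm]; exact Subgroup.comap_mono hB.le
    have h2 : T ≠ B.comap (QuotientGroup.mk' P) := by
      intro h
      apply hB.ne
      rw [h, Subgroup.map_comap_eq_self_of_surjective hs]
    have h3 := hT.2 _ (lt_of_le_of_ne h1 h2)
    rw [← Subgroup.map_comap_eq_self_of_surjective hs B, h3]
    exact Subgroup.map_top_of_surjective _ hs

/-- a normal `p`-subgroup of `X / O_p(X)` is trivial -/
theorem eq_bot_of_normal_isPGroup_quotient_pCore [Finite X] (Z : Subgroup (X ⧸ pCore p X)) (hZn : Z.Normal)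
    (hZp : IsPGroup p ↥Z) : Z = ⊥ := by
  have hs : Function.Surjective (QuotientGroup.mk' (pCore p X)) := QuotientGroup.mk'_surjective _
  have hPp : IsPGroup p ↥(pCore p X) := Cfsg.Agent.Lib.Helper13.pCore_isPGroup p
  have h1 : IsPGroup p ↥(Z.comap (QuotientGroup.mk' (pCore p X))) :=
    hZp.comap_of_ker_isPGroup _ (by rw [QuotientGroup.ker_mk']; exact hPp)
  have h2 : Z.comap (QuotientGroup.mk' (pCore p X)) ≤ pCore p X :=
    Cfsg.Agent.Lib.Helper13.le_pCore _ (hZn.comap _) h1
  rw [← Subgroup.map_comap_eq_self_of_surjective hs Z, eq_bot_iff]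
  refine (Subgroup.map_mono h2).trans ?_
  rw [QuotientGroup.map_mk'_self]

end

section Chief
variable {X : Type u} [Group X] {p : ℕ} [Fact p.Prime]
  (U V : Subgroup X) [hVn : V.Normal] (hUn : U.Normal) (hlt : V < U)
  (hchief : ∀ N : Subgroup X, N.Normal → V ≤ N → N ≤ U → N = V ∨ N = U) (hUp : IsPGroup p ↥U)

include hUn in
theorem chief_map_normal : (U.map (QuotientGroup.mk' V)).Normal :=
  hUn.map _ (QuotientGroup.mk'_surjective V)

include hlt in
theorem chief_map_ne_bot : U.map (QuotientGroup.mk' V) ≠ ⊥ := by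
  intro h
  rw [Subgroup.map_eq_bot_iff, QuotientGroup.ker_mk'] at h
  exact hlt.not_ge h

include hlt hchief in
theorem chief_map_min (N : Subgroup (X ⧸ V)) (hNn : N.Normal) (hNM : N ≤ U.map (QuotientGroup.mk' V)) :
    N = ⊥ ∨ N = U.map (QuotientGroup.mk' V) := by
  have hs : Function.Surjective (QuotientGroup.mk' V) := QuotientGroup.mk'_surjective V
  have hker : (QuotientGroup.mk' V).ker ≤ U := by rw [QuotientGroup.ker_mk']; exact hlt.le
  have h1 : V ≤ N.comap (QuotientGroup.mk' V) := by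
    intro v hv
    rw [Subgroup.mem_comap]
    have : QuotientGroup.mk' V v = 1 := (QuotientGroup.eq_one_iff v).mpr hv
    rw [this]; exact N.one_mem
  have h2 : N.comap (QuotientGroup.mk' V) ≤ U := by
    calc N.comap (QuotientGroup.mk' V) ≤ (U.map (QuotientGroup.mk' V)).comap (QuotientGroup.mk' V) :=
          Subgroup.comap_mono hNM
      _ = U := Subgroup.comap_map_eq_self hker
  rcases hchief _ (hNn.comap _) h1 h2 with h | h
  · left
    rw [← Subgroup.map_comap_eq_self_of_surjective hs N, h]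
    exact QuotientGroup.map_mk'_self V
  · right
    rw [← Subgroup.map_comap_eq_self_of_surjective hs N, h]

include hUn hlt hUp in
/-- no `p`-subgroup `B` satisfies `M ≤ [M, B]` -/
theorem chief_not_le_commutator [Finite X] (B : Subgroup (X ⧸ V)) (hB : IsPGroup p ↥B) :
    ¬ U.map (QuotientGroup.mk' V) ≤ ⁅U.map (QuotientGroup.mk' V), B⁆ := by
  intro h
  have hMn := chief_map_normal U V hUn
  have hMp : IsPGroup p ↥(U.map (QuotientGroup.mk' V)) := hUp.map _
  have hBN : B ≤ Subgroup.normalizer ((U.map (QuotientGroup.mk' V) : Subgroup (X ⧸ V)) : Set (X ⧸ V)) := by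
    rw [Subgroup.normalizer_eq_top_iff.mpr hMn]; exact le_top
  exact chief_map_ne_bot U V hlt (Cfsg.H5.eq_bot_of_le_commutator_pgroups' hMp hB hBN h)

include hUn hlt hchief hUp in
/-- a normal subgroup contained in `[M, B]`, `B` a `p`-group, is trivial -/
theorem chief_commutator_eq_bot [Finite X] (B : Subgroup (X ⧸ V)) (hB : IsPGroup p ↥B) (D : Subgroup (X ⧸ V))
    (hDn : D.Normal) (hDM : D ≤ U.map (QuotientGroup.mk' V)) (hDB : D ≤ ⁅U.map (QuotientGroup.mk' V), B⁆) :
    D = ⊥ := by
  rcases chief_map_min U V hlt hchief D hDn hDM with h | h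
  · exact h
  · exfalso
    exact chief_not_le_commutator U V hUn hlt hUp B hB (h ▸ hDB)

include hUn hlt hchief hUp in
/-- normal `p`-subgroups centralize `M` -/
theorem chief_centralized [Finite X] (Y : Subgroup X) (hYn : Y.Normal) (hYp : IsPGroup p ↥Y) :
    ∀ y ∈ Y, ∀ m ∈ U.map (QuotientGroup.mk' V), QuotientGroup.mk' V y * m = m * QuotientGroup.mk' V y := by
  have hMn := chief_map_normal U V hUn
  have hYtn : (Y.map (QuotientGroup.mk' V)).Normal := hYn.map _ (QuotientGroup.mk'_surjective V)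
  have hD := chief_commutator_eq_bot U V hUn hlt hchief hUp (Y.map (QuotientGroup.mk' V)) (hYp.map _)
    ⁅U.map (QuotientGroup.mk' V), Y.map (QuotientGroup.mk' V)⁆ (Subgroup.commutator_normal _ _)
    (Subgroup.commutator_le_left _ _) le_rfl
  intro y hy m hm
  have h1 : ⁅m, QuotientGroup.mk' V y⁆ ∈ ⁅U.map (QuotientGroup.mk' V), Y.map (QuotientGroup.mk' V)⁆ :=
    Subgroup.commutator_mem_commutator hm (Subgroup.mem_map_of_mem _ hy)
  rw [hD, Subgroup.mem_bot, commutatorElement_def] at h1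
  calc QuotientGroup.mk' V y * m = (m * QuotientGroup.mk' V y * m⁻¹ * (QuotientGroup.mk' V y)⁻¹)⁻¹ *
        (m * QuotientGroup.mk' V y) := by group
    _ = m * QuotientGroup.mk' V y := by rw [h1, inv_one, one_mul]

include hUn hlt hchief hUp in
/-- `M` is abelian -/
theorem chief_comm [Finite X] : ∀ a ∈ U.map (QuotientGroup.mk' V), ∀ b ∈ U.map (QuotientGroup.mk' V), a * b = b * a := by
  rintro _ ⟨a, ha, rfl⟩ b hb
  exact chief_centralized U V hUn hlt hchief hUp U hUn hUp a ha b hb

include hUn hlt hchief hUp in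
/-- `M` has exponent `p` -/
theorem chief_exp [Finite X] : ∀ m ∈ U.map (QuotientGroup.mk' V), m ^ p = 1 := by
  have hp : p.Prime := Fact.out
  have hMn := chief_map_normal U V hUn
  have hMne := chief_map_ne_bot U V hlt
  have hmin : Cfsg.Agent.Lib.Helper4.IsMinNormal (U.map (QuotientGroup.mk' V)) :=
    ⟨hMn, hMne, fun K hK hKM => chief_map_min U V hlt hchief K hK hKM⟩
  have hcomm : U.map (QuotientGroup.mk' V) ≤
      Subgroup.centralizer ((U.map (QuotientGroup.mk' V) : Subgroup (X ⧸ V)) : Set (X ⧸ V)) := by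
    intro a ha
    rw [Subgroup.mem_centralizer_iff]
    intro b hb
    exact chief_comm U V hUn hlt hchief hUp b hb a ha
  obtain ⟨q, hq, hexp⟩ := hmin.exists_prime_pow_eq_one hcomm
  obtain ⟨⟨m, hm⟩, hm1⟩ := (Subgroup.ne_bot_iff_exists_ne_one).mp hMne
  have hm1' : m ≠ 1 := fun h => hm1 (Subtype.ext h)
  have h1 : orderOf m ∣ q := orderOf_dvd_of_pow_eq_one (hexp m hm)
  have h2 : orderOf m = q := by
    rcases (Nat.dvd_prime hq).mp h1 with h | h
    · exact absurd (orderOf_eq_one_iff.mp h) hm1'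
    · exact h
  have hMp : IsPGroup p ↥(U.map (QuotientGroup.mk' V)) := hUp.map _
  obtain ⟨j, hj⟩ := hMp ⟨m, hm⟩
  have h3 : m ^ (p ^ j) = 1 := congrArg Subtype.val hj
  have h4 : q ∣ p ^ j := h2 ▸ orderOf_dvd_of_pow_eq_one h3
  have h5 : q = p := (Nat.prime_dvd_prime_iff_eq hq hp).mp (hq.dvd_of_dvd_pow h4)
  intro x hx
  rw [← h5]; exact hexp x hx

end Chief

section Key
variable {X : Type u} [Group X] {p : ℕ} [Fact p.Prime]

/-- the iterated commutators with `g` computed in the quotient by `V` -/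
theorem iterate_mem_map_iterCommutator (U V : Subgroup X) [V.Normal] (g : X)
    [hMn : (U.map (QuotientGroup.mk' V)).Normal] (k : ℕ) (m : ↥(U.map (QuotientGroup.mk' V))) :
    (((fun m : ↥(U.map (QuotientGroup.mk' V)) =>
        (MulAut.conjNormal (H := U.map (QuotientGroup.mk' V)) (QuotientGroup.mk' V g)) m / m)^[k] m :
        ↥(U.map (QuotientGroup.mk' V))) : X ⧸ V) ∈
      (iterCommutator U (Subgroup.zpowers g) k).map (QuotientGroup.mk' V) := by
  induction k with
  | zero =>
    show (m : X ⧸ V) ∈ U.map (QuotientGroup.mk' V)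
    exact m.2
  | succ k ih =>
    rw [Function.iterate_succ_apply']
    obtain ⟨w, hw, hwy⟩ := ih
    set y := (fun m : ↥(U.map (QuotientGroup.mk' V)) =>
        (MulAut.conjNormal (H := U.map (QuotientGroup.mk' V)) (QuotientGroup.mk' V g)) m / m)^[k] m with hy
    have h1 : ((((MulAut.conjNormal (H := U.map (QuotientGroup.mk' V)) (QuotientGroup.mk' V g)) y / y :
        ↥(U.map (QuotientGroup.mk' V))) : X ⧸ V)) = QuotientGroup.mk' V (⁅g, w⁆) := by
      rw [Subgroup.coe_div, MulAut.conjNormal_apply, div_eq_mul_inv, ← hwy, commutatorElement_def]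
      simp only [map_mul, map_inv]
    show (((MulAut.conjNormal (H := U.map (QuotientGroup.mk' V)) (QuotientGroup.mk' V g)) y / y :
        ↥(U.map (QuotientGroup.mk' V))) : X ⧸ V) ∈ _
    rw [h1]
    apply Subgroup.mem_map_of_mem
    show ⁅g, w⁆ ∈ ⁅iterCommutator U (Subgroup.zpowers g) k, Subgroup.zpowers g⁆
    rw [Subgroup.commutator_comm]
    exact Subgroup.commutator_mem_commutator (Subgroup.mem_zpowers g) hw

end Key

section Main
variable {X : Type u} [Group X] [Finite X] {p : ℕ} [Fact p.Prime]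

/-- the configuration of the hypothesis is impossible in a group whose quotient by `O_p` has a normal
`p`-complement and a maximal Sylow `p`-subgroup -/
theorem key (hGP : HasNormalPComplement p (X ⧸ pCore p X)) (T : Sylow p X)
    (hT : IsCoatom (T : Subgroup X)) (g : X) (hgT : g ∈ (T : Subgroup X)) (hgP : g ∉ pCore p X)
    (U V : Subgroup X) (hUV : IsChiefFactor U V) (hUP : U ≤ pCore p X)
    (hi : iterCommutator U (Subgroup.zpowers g) (p - 1) ≤ V)
    (hn : ¬ ⁅U, Subgroup.zpowers g⁆ ≤ V) : False := by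
  have hp : p.Prime := Fact.out
  obtain ⟨hlt, hUn, hVn, hchief⟩ := hUV
  have := hVn
  have hPp : IsPGroup p ↥(pCore p X) := Cfsg.Agent.Lib.Helper13.pCore_isPGroup p
  have hPT : pCore p X ≤ (T : Subgroup X) := Cfsg.Agent.Lib.Helper13.pCore_le_sylow T
  have hUp : IsPGroup p ↥U := hPp.to_le hUP
  have hsP : Function.Surjective (QuotientGroup.mk' (pCore p X)) := QuotientGroup.mk'_surjective _
  have hsV : Function.Surjective (QuotientGroup.mk' V) := QuotientGroup.mk'_surjective _
  -- the quotient by `O_p`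
  obtain ⟨Kb, hKbn, hKbcop, k, hk⟩ := hasNormalPComplement_iff_exists.mp hGP
  have := hKbn
  set Tb : Sylow p (X ⧸ pCore p X) := T.mapSurjective hsP with hTb
  have hTbcoe : (Tb : Subgroup (X ⧸ pCore p X)) = (T : Subgroup X).map (QuotientGroup.mk' (pCore p X)) :=
    Sylow.coe_mapSurjective _ T
  have hTbco : IsCoatom (Tb : Subgroup (X ⧸ pCore p X)) := by
    rw [hTbcoe]; exact isCoatom_map_mk' _ _ hPT hT
  have hsup : (Tb : Subgroup (X ⧸ pCore p X)) ⊔ Kb = ⊤ := sylow_sup_eq_top_of_index_pow Kb hk Tb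
  have hirr := eq_bot_or_eq_of_le_normalizer Kb hKbcop Tb hTbco
  have hab := commute_of_isCoatom_sylow Kb hKbcop Tb hTbco
  -- the module
  have hMn : (U.map (QuotientGroup.mk' V)).Normal := chief_map_normal U V hUn
  have := hMn
  have hMcomm := chief_comm U V hUn hlt hchief hUp
  have hMexp := chief_exp U V hUn hlt hchief hUp
  letI : CommGroup ↥(U.map (QuotientGroup.mk' V)) :=
    { (inferInstance : Group ↥(U.map (QuotientGroup.mk' V))) with
      mul_comm := fun a b => Subtype.ext (hMcomm a a.2 b b.2) }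
  have hMexp' : ∀ m : ↥(U.map (QuotientGroup.mk' V)), m ^ p = 1 := by
    intro m
    apply Subtype.ext
    rw [Subgroup.coe_pow]
    exact hMexp m m.2
  -- the action
  set ρ : X →* MulAut ↥(U.map (QuotientGroup.mk' V)) :=
    (MulAut.conjNormal (H := U.map (QuotientGroup.mk' V))).comp (QuotientGroup.mk' V) with hρ
  have hρ_apply : ∀ (x : X) (m : ↥(U.map (QuotientGroup.mk' V))),
      ((ρ x m : ↥(U.map (QuotientGroup.mk' V))) : X ⧸ V) =
        QuotientGroup.mk' V x * m * (QuotientGroup.mk' V x)⁻¹ := by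
    intro x m
    rw [hρ, MonoidHom.comp_apply, MulAut.conjNormal_apply]
  have hρP : pCore p X ≤ ρ.ker := by
    intro x hx
    rw [MonoidHom.mem_ker]
    apply MulEquiv.ext
    intro m
    apply Subtype.ext
    rw [hρ_apply, chief_centralized U V hUn hlt hchief hUp (pCore p X) inferInstance hPp x hx m m.2]
    simp
  set ρb : X ⧸ pCore p X →* MulAut ↥(U.map (QuotientGroup.mk' V)) :=
    QuotientGroup.lift (pCore p X) ρ hρP with hρb
  have hρb_mk : ∀ x : X, ρb (QuotientGroup.mk' (pCore p X) x) = ρ x := fun x => rfl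
  -- the Hall-Higman argument
  have hD : ∀ m : ↥(U.map (QuotientGroup.mk' V)),
      (fun m => ρb (QuotientGroup.mk' (pCore p X) g) m / m)^[p - 1] m = 1 := by
    intro m
    have h1 := iterate_mem_map_iterCommutator U V g (p - 1) m
    have h2 : (iterCommutator U (Subgroup.zpowers g) (p - 1)).map (QuotientGroup.mk' V) ≤ ⊥ := by
      rw [← QuotientGroup.map_mk'_self V]
      exact Subgroup.map_mono hi
    apply Subtype.ext
    exact Subgroup.mem_bot.mp (h2 h1)
  have hcomm_g := mulAut_commutator_eq_one hp hMexp' ρb Kb hab hKbcop (QuotientGroup.mk' (pCore p X) g)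
    (fun a ha => hKbn.conj_mem a ha _) hD
  -- the kernel of the action meets `Kb` trivially or contains it
  have hkern : (ρb.ker).Normal := inferInstance
  have hNn : (Kb ⊓ ρb.ker).Normal := inferInstance
  have hTbN : (Tb : Subgroup (X ⧸ pCore p X)) ≤
      Subgroup.normalizer ((Kb ⊓ ρb.ker : Subgroup (X ⧸ pCore p X)) : Set (X ⧸ pCore p X)) := by
    rw [Subgroup.normalizer_eq_top_iff.mpr hNn]; exact le_top
  have hdecomp : ∀ x : X ⧸ pCore p X, ∃ t ∈ (T : Subgroup X), ∃ c ∈ Kb,
      x = QuotientGroup.mk' (pCore p X) t * c := by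
    intro x
    have hx : x ∈ (Tb : Subgroup (X ⧸ pCore p X)) ⊔ Kb := by rw [hsup]; exact Subgroup.mem_top x
    rw [Subgroup.mem_sup_of_normal_right] at hx
    obtain ⟨y, hy, c, hc, rfl⟩ := hx
    rw [hTbcoe] at hy
    obtain ⟨t, ht, rfl⟩ := hy
    exact ⟨t, ht, c, hc, rfl⟩
  rcases hirr (Kb ⊓ ρb.ker) inf_le_left hTbN with hcase | hcase
  · -- `g` centralizes `Kb` modulo `O_p`
    have hgc : ∀ a ∈ Kb, QuotientGroup.mk' (pCore p X) g * a = a * QuotientGroup.mk' (pCore p X) g := by
      intro a ha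
      have h1 : QuotientGroup.mk' (pCore p X) g * a * (QuotientGroup.mk' (pCore p X) g)⁻¹ * a⁻¹ ∈
          Kb ⊓ ρb.ker := by
        refine Subgroup.mem_inf.mpr ⟨Kb.mul_mem (hKbn.conj_mem a ha _) (Kb.inv_mem ha), ?_⟩
        rw [MonoidHom.mem_ker]
        exact hcomm_g a ha
      rw [hcase, Subgroup.mem_bot] at h1
      calc QuotientGroup.mk' (pCore p X) g * a =
            (QuotientGroup.mk' (pCore p X) g * a * (QuotientGroup.mk' (pCore p X) g)⁻¹ * a⁻¹) *
              (a * QuotientGroup.mk' (pCore p X) g) := by group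
        _ = a * QuotientGroup.mk' (pCore p X) g := by rw [h1, one_mul]
    set Z : Subgroup (X ⧸ pCore p X) :=
      Subgroup.centralizer ((Kb : Subgroup (X ⧸ pCore p X)) : Set (X ⧸ pCore p X)) ⊓
        (Tb : Subgroup (X ⧸ pCore p X)) with hZ
    have hCn : (Subgroup.centralizer ((Kb : Subgroup (X ⧸ pCore p X)) : Set (X ⧸ pCore p X))).Normal :=
      inferInstance
    have hZn : Z.Normal := by
      constructor
      intro z hz x
      obtain ⟨t, ht, c, hc, rfl⟩ := hdecomp x
      have hz1 := (Subgroup.mem_inf.mp hz).1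
      have hz2 := (Subgroup.mem_inf.mp hz).2
      have hzc : c * z * c⁻¹ = z := by
        have := Subgroup.mem_centralizer_iff.mp hz1 c hc
        rw [this]; group
      have e : QuotientGroup.mk' (pCore p X) t * c * z * (QuotientGroup.mk' (pCore p X) t * c)⁻¹ =
          QuotientGroup.mk' (pCore p X) t * (c * z * c⁻¹) * (QuotientGroup.mk' (pCore p X) t)⁻¹ := by
        group
      rw [e, hzc]
      refine Subgroup.mem_inf.mpr ⟨hCn.conj_mem z hz1 _, ?_⟩
      have htb : QuotientGroup.mk' (pCore p X) t ∈ (Tb : Subgroup (X ⧸ pCore p X)) := by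
        rw [hTbcoe]; exact Subgroup.mem_map_of_mem _ ht
      exact Subgroup.mul_mem _ (Subgroup.mul_mem _ htb hz2) (Subgroup.inv_mem _ htb)
    have hZp : IsPGroup p ↥Z := Tb.isPGroup'.to_le inf_le_right
    have hZbot := eq_bot_of_normal_isPGroup_quotient_pCore Z hZn hZp
    have hgZ : QuotientGroup.mk' (pCore p X) g ∈ Z := by
      refine Subgroup.mem_inf.mpr ⟨?_, ?_⟩
      · rw [Subgroup.mem_centralizer_iff]
        intro a ha
        exact (hgc a ha).symm
      · rw [hTbcoe]; exact Subgroup.mem_map_of_mem _ hgT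
    rw [hZbot, Subgroup.mem_bot] at hgZ
    exact hgP ((QuotientGroup.eq_one_iff g).mp hgZ)
  · -- `Kb` acts trivially
    have hKker : Kb ≤ ρb.ker := by rw [← hcase]; exact inf_le_right
    have hact : ∀ x : X, ∃ t ∈ (T : Subgroup X), ρ x = ρ t := by
      intro x
      obtain ⟨t, ht, c, hc, hx⟩ := hdecomp (QuotientGroup.mk' (pCore p X) x)
      refine ⟨t, ht, ?_⟩
      rw [← hρb_mk x, hx, map_mul, hρb_mk, MonoidHom.mem_ker.mp (hKker hc), mul_one]
    have hTp : IsPGroup p ↥((T : Subgroup X).map (QuotientGroup.mk' V)) := T.isPGroup'.map _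
    have hle : ⁅U.map (QuotientGroup.mk' V), (⊤ : Subgroup (X ⧸ V))⁆ ≤
        ⁅U.map (QuotientGroup.mk' V), (T : Subgroup X).map (QuotientGroup.mk' V)⁆ := by
      rw [Subgroup.commutator_le]
      intro m hm y _
      obtain ⟨x, rfl⟩ := hsV y
      obtain ⟨t, ht, hxt⟩ := hact x
      have h1 := hρ_apply x ⟨m⁻¹, Subgroup.inv_mem _ hm⟩
      have h2 := hρ_apply t ⟨m⁻¹, Subgroup.inv_mem _ hm⟩
      rw [hxt] at h1
      have h3 : QuotientGroup.mk' V x * m⁻¹ * (QuotientGroup.mk' V x)⁻¹ =
          QuotientGroup.mk' V t * m⁻¹ * (QuotientGroup.mk' V t)⁻¹ := h1.symm.trans h2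
      have h4 : ⁅m, QuotientGroup.mk' V x⁆ = ⁅m, QuotientGroup.mk' V t⁆ := by
        rw [commutatorElement_def, commutatorElement_def, mul_assoc m, mul_assoc m, h3, ← mul_assoc, ← mul_assoc]
      rw [h4]
      exact Subgroup.commutator_mem_commutator hm (Subgroup.mem_map_of_mem _ ht)
    have hDbot := chief_commutator_eq_bot U V hUn hlt hchief hUp _ hTp
      ⁅U.map (QuotientGroup.mk' V), (⊤ : Subgroup (X ⧸ V))⁆ (Subgroup.commutator_normal _ _)
      (Subgroup.commutator_le_left _ _) hle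
    apply hn
    rw [Subgroup.commutator_le]
    intro u hu z _
    have h1 : ⁅QuotientGroup.mk' V u, QuotientGroup.mk' V z⁆ ∈
        ⁅U.map (QuotientGroup.mk' V), (⊤ : Subgroup (X ⧸ V))⁆ :=
      Subgroup.commutator_mem_commutator (Subgroup.mem_map_of_mem _ hu) (Subgroup.mem_top _)
    rw [hDbot, Subgroup.mem_bot, ← map_commutatorElement] at h1
    exact (QuotientGroup.eq_one_iff _).mp h1

end Main

/-- Let p be a prime, G a finite group with Sylow p-subgroup S, and W an isomorphism-invariant p-group functor (W assigns to every group Q a subgroup W(Q), nontrivial whenever Q is a nontrivial finite p-group, and every isomorphism from a finite p-group Q onto a group R carries W(Q) onto W(R)). Suppose N_G(W(S)) has a normal p-complement, and that whenever G* = K/R is a section of G with C_{G*}(O_p(G*)) ≤ O_p(G*) and S* is a Sylow p-subgroup of G* with W(S*) not normal in G*, there are an element g of S* outside O_p(G*) and a chief factor X/Y of G* with X ≤ O_p(G*) such that [X,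 g, …, g] ≤ Y with p − 1 entries g but [X, g] ≰ Y. Then G has a normal p-complement. -/
theorem result {G : Type u} [Group G] [Finite G] {p : ℕ} [Fact p.Prime] (W : ∀ (Q : Type u) [Group Q], Subgroup Q) (hW : Cfsg.IsCharPFunctor.{u} p W) (S : Sylow p G) (hN : Cfsg.HasNormalPComplement p ↥(Subgroup.normalizer ((Cfsg.inducedFunctor (G := G) W (S : Subgroup G) : Subgroup G) : Set G))) (hloc : ∀ (K R : Subgroup G) [hR : (R.subgroupOf K).Normal], Subgroup.centralizer ((Cfsg.pCore p (↥K ⧸ R.subgroupOf K) : Subgroup (↥K ⧸ R.subgroupOf K)) : Set (↥K ⧸ R.subgroupOf K)) ≤ Cfsg.pCore p (↥K ⧸ R.subgroupOf K) → ∀ T : Sylow p (↥K ⧸ R.subgroupOf K), ¬ (Cfsg.inducedFunctor (G := (↥K ⧸ R.subgroupOf K)) W ((T : Subgroup (↥K ⧸ R.subgroupOf K)))).Normal → ∃ g : (↥K ⧸ R.subgroupOf K), g ∈ (T : Subgroup (↥K ⧸ R.subgroupOf K)) ∧ g ∉ Cfsg.pCore p (↥K ⧸ R.subgroupOf K) ∧ ∃ U V : Subgroup (↥K ⧸ R.subgroupOf K), Cfsg.IsChiefFactor U V ∧ U ≤ Cfsg.pCore p (↥K ⧸ R.subgroupOf K) ∧ Cfsg.iterCommutator U (Subgroup.zpowers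 g) (p - 1) ≤ V ∧ ¬ ⁅U, Subgroup.zpowers g⁆ ≤ V) : Cfsg.HasNormalPComplement p G := by
  apply Cfsg.Agent.S2005.result W hW S hN
  intro K R hR hC hQ T hT
  by_contra hnn
  obtain ⟨g, hgT, hgP, U, V, hUV, hUP, hi, hn⟩ := hloc K R hC T hnn
  exact key hQ T hT g hgT hgP U V hUV hUP hi hn

end Cfsg.Agent.S2006
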