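import Cfsg.Statements.S1972
import Cfsg.Agent.Lib.Helper18.TransferMinC

set_option autoImplicit false
universe u
open Cfsg

namespace Cfsg.Agent.S1972

open Cfsg.Agent.Lib.Helper13 Cfsg.Agent.Lib.Helper18.Transfer Cfsg.Agent.Lib.Helper18.TransferMin

/-- Let p be a prime, G a finite group and W an isomorphism-invariant p-group functor (W assigns to every group Q a subgroup W(Q), nontrivial whenever Q is a nontrivial finite p-group, and every isomorphism from a finite p-group Q onto a group R carries W(Q) onto W(R)). Suppose that whenever G* = K/R is a section of G with C_{G*}(O_p(G*)) ≤ O_p(G*) and S* is a Sylow p-subgroup of G* with W(S*) not normal in G*, there is an element g of S* outside O_p(G*) such that [X, g, …, g] ≤ Y with p − 1 entries g, for every chief factor X/Y of G* with X ≤ O_p(G*). Then W controls transfer in every section of G. -/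
theorem result {G : Type u} [Group G] [Finite G] {p : ℕ} [Fact p.Prime] (W : ∀ (Q : Type u) [Group Q], Subgroup Q) (hW : Cfsg.IsCharPFunctor.{u} p W) (hloc : ∀ (K R : Subgroup G) [hR : (R.subgroupOf K).Normal], Subgroup.centralizer ((Cfsg.pCore p (↥K ⧸ R.subgroupOf K) : Subgroup (↥K ⧸ R.subgroupOf K)) : Set (↥K ⧸ R.subgroupOf K)) ≤ Cfsg.pCore p (↥K ⧸ R.subgroupOf K) → ∀ T : Sylow p (↥K ⧸ R.subgroupOf K), ¬ (Cfsg.inducedFunctor (G := (↥K ⧸ R.subgroupOf K)) W ((T : Subgroup (↥K ⧸ R.subgroupOf K)))).Normal → ∃ g : (↥K ⧸ R.subgroupOf K), g ∈ (T : Subgroup (↥K ⧸ R.subgroupOf K)) ∧ g ∉ Cfsg.pCore p (↥K ⧸ R.subgroupOf K) ∧ ∀ U V : Subgroup (↥K ⧸ R.subgroupOf K), Cfsg.IsChiefFactor U V → U ≤ Cfsg.pCore p (↥K ⧸ R.subgroupOf K) → Cfsg.iterCommutator U (Subgroup.zpowers g) (p - 1) ≤ V) : ∀ (K R : Subgroup G) [hR : (R.subgroupOf K).Normal], Cfsg.ControlsTransferIn p (Cfsg.inducedFunctor (G := (↥K ⧸ R.subgroupOf K)) W) ⊤ := by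
  obtain ⟨𝓦, h𝓦def⟩ : ∃ 𝓦 : Set (∀ (Q : Type u) [Group Q], Subgroup Q), 𝓦 = {W} := ⟨_, rfl⟩
  have hW𝓦 : W ∈ 𝓦 := by rw [h𝓦def]; rfl
  have h𝓦 : ∀ W' ∈ 𝓦, Cfsg.IsCharPFunctor.{u} p W' := by
    intro W' hW'
    rw [h𝓦def] at hW'
    rw [Set.mem_singleton_iff.mp hW']; exact hW
  have hne : 𝓦.Nonempty := ⟨W, hW𝓦⟩
  have key : ∀ n : ℕ, SecAll (TrLt p 𝓦 n) G := by
    intro n
    induction n with
    | zero =>
      intro K R hR hfin hcard
      exact absurd hcard (Nat.not_lt_zero _)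
    | succ n ih =>
      intro K R hR hfin hcard
      by_cases hlt : Nat.card (↥K ⧸ R.subgroupOf K) < n
      · exact ih K R hfin hlt
      have hcn : Nat.card (↥K ⧸ R.subgroupOf K) = n := by omega
      have hiso := isoInv_TrLt (p := p) h𝓦 n
      have hsecX : SecAll (TrLt p 𝓦 (Nat.card (↥K ⧸ R.subgroupOf K))) (↥K ⧸ R.subgroupOf K) := by
        rw [hcn]; exact secAll_quotient hiso (secAll_subgroup hiso ih K) (R.subgroupOf K)
      intro S
      by_contra hnot
      have hm : MinFail p 𝓦 S := ⟨hsub_of_secAll h𝓦 hsecX, hquot_of_secAll h𝓦 hsecX, hnot⟩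
      have hcon := hm.constrained h𝓦
      have hWnn : ¬ (Cfsg.inducedFunctor (G := (↥K ⧸ R.subgroupOf K)) W
          ((S : Subgroup (↥K ⧸ R.subgroupOf K)))).Normal := by
        intro hn
        apply hm.nw_ne_top hW𝓦
        unfold NW
        exact Subgroup.normalizer_eq_top_iff.mpr hn
      obtain ⟨g, hgS, hgP, hgood⟩ := hloc K R hcon S hWnn
      obtain ⟨U, V, hc, hUP, hUV⟩ := hm.exists_chief h𝓦 hne g hgS hgP
      exact hUV (hgood U V hc hUP)
  intro K R hR
  have hTr : Tr p 𝓦 (↥K ⧸ R.subgroupOf K) :=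
    key (Nat.card (↥K ⧸ R.subgroupOf K) + 1) K R inferInstance (Nat.lt_succ_self _)
  obtain ⟨S⟩ : Nonempty (Sylow p (↥K ⧸ R.subgroupOf K)) := inferInstance
  refine ⟨S, le_top, S.isPGroup', by rw [Subgroup.relIndex_top_right]; exact S.not_dvd_index, ?_⟩
  have h1 := hTr S
  apply le_antisymm
  · refine h1.trans ?_
    unfold FocIn
    rw [h𝓦def, iSup_singleton]
    exact le_rfl
  · exact inf_le_inf_left _ (Subgroup.commutator_mono inf_le_left inf_le_left)

end Cfsg.Agent.S1972
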