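import Mathlib
import Cfsg.Statements.S0249

set_option autoImplicit false
open Cfsg

namespace Cfsg.Agent.S0249

open Matrix Matrix.SpecialLinearGroup
open scoped MatrixGroups LinearAlgebra.Projectivization commutatorElement

variable {F : Type*} [Field F] {ι : Type*} [DecidableEq ι] [Fintype ι]

lemma diag2n_decompose {i j : ι} (hij : i ≠ j) (a : F) (ha : a ≠ 0) :
    diag2n hij a ha = SpecialLinearGroup.transvection hij a *
      SpecialLinearGroup.transvection hij.symm (- a⁻¹) *
      SpecialLinearGroup.transvection hij a *
      SpecialLinearGroup.transvection hij (-1) *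
      SpecialLinearGroup.transvection hij.symm 1 *
      SpecialLinearGroup.transvection hij (-1) := by
  have hji := hij.symm
  have key : (diagonal (fun k ↦ if k = i then a else if k = j then a⁻¹ else 1) : Matrix ι ι F) =
      ((1 : Matrix ι ι F) + single i j a) * (1 + single j i (-a⁻¹)) * (1 + single i j a) *
      (1 + single i j (-1)) * (1 + single j i 1) * (1 + single i j (-1)) := by
    simp only [mul_add, add_mul, mul_one, one_mul, single_mul_single_same,
      single_mul_single_of_ne _ _ _ _ hij, single_mul_single_of_ne _ _ _ _ hji, add_zero]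
    ext k l
    simp only [Matrix.add_apply, Matrix.single_apply, Matrix.one_apply, Matrix.diagonal_apply]
    by_cases hki : i = k <;> by_cases hkj : j = k <;> by_cases hli : i = l <;>
      by_cases hlj : j = l <;> simp_all [eq_comm]
  apply Subtype.ext
  exact key

/-- Induction principle: transvections generate `SL(ι, F)`. -/
theorem transvection_induction [Nontrivial ι] (P : SpecialLinearGroup ι F → Prop)
    (htransvec : ∀ (i j : ι) (h : i ≠ j) (c : F), P (SpecialLinearGroup.transvection h c))
    (hmul : ∀ A B, P A → P B → P (A * B)) (A : SpecialLinearGroup ι F) : P A := by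
  refine diagonal_transvection_induction' P _ (fun i j hij c hc ↦ ?_) htransvec hmul
  rw [diag2n_decompose hij c hc]
  refine hmul _ _ (hmul _ _ (hmul _ _ (hmul _ _ (hmul _ _ ?_ ?_) ?_) ?_) ?_) ?_
  all_goals exact htransvec _ _ _ _

/-- For three distinct indices, a transvection is a commutator of transvections. -/
lemma transvection_eq_commutator {i j k : ι} (hij : i ≠ j) (hik : i ≠ k) (hkj : k ≠ j) (c : F) :
    SpecialLinearGroup.transvection hij c =
      ⁅SpecialLinearGroup.transvection hik c, SpecialLinearGroup.transvection hkj 1⁆ := by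
  rw [commutatorElement_def, SpecialLinearGroup.transvection_inv, SpecialLinearGroup.transvection_inv]
  have hki := hik.symm
  have hjk := hkj.symm
  have hji := hij.symm
  have key : ((1 : Matrix ι ι F) + single i j c) =
      ((1 : Matrix ι ι F) + single i k c) * (1 + single k j 1) * (1 + single i k (-c)) *
        (1 + single k j (-1)) := by
    simp only [mul_add, add_mul, mul_one, one_mul, single_mul_single_same,
      single_mul_single_of_ne _ _ _ _ hij, single_mul_single_of_ne _ _ _ _ hji,
      single_mul_single_of_ne _ _ _ _ hik, single_mul_single_of_ne _ _ _ _ hki,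
      single_mul_single_of_ne _ _ _ _ hkj, single_mul_single_of_ne _ _ _ _ hjk, add_zero,
      zero_mul, mul_zero, single_zero]
    ext a b
    simp only [Matrix.add_apply, Matrix.single_apply, Matrix.one_apply]
    by_cases h1 : i = a <;> by_cases h2 : j = b <;> by_cases h3 : k = a <;>
      by_cases h4 : k = b <;> simp_all [eq_comm]
  apply Subtype.ext
  exact key

lemma exists_third {n : ℕ} (hn : 3 ≤ n) (i j : Fin n) : ∃ k : Fin n, i ≠ k ∧ k ≠ j := by
  by_contra h
  push Not at h
  have h0 := h ⟨0, by omega⟩
  have h1 := h ⟨1, by omega⟩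
  have h2 := h ⟨2, by omega⟩
  rcases i with ⟨i, hi⟩
  rcases j with ⟨j, hj⟩
  simp only [ne_eq, Fin.mk.injEq] at h0 h1 h2
  omega

theorem SL_commutator_eq_top {n : ℕ} (hn : 3 ≤ n) :
    commutator (SpecialLinearGroup (Fin n) F) = ⊤ := by
  have : Nontrivial (Fin n) := Fin.nontrivial_iff_two_le.2 (by omega)
  refine le_antisymm le_top (fun A _ ↦ transvection_induction _ (fun i j hij c ↦ ?_)
    (fun _ _ ↦ mul_mem) A)
  obtain ⟨k, hik, hkj⟩ := exists_third hn i j
  rw [transvection_eq_commutator hij hik hkj c]
  exact Subgroup.commutator_mem_commutator (Subgroup.mem_top _) (Subgroup.mem_top _)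

lemma iSup_lineStab_eq_top [Nontrivial ι] :
    (⨆ p : ℙ F (ι → F), lineStab p.submodule) = (⊤ : Subgroup (SpecialLinearGroup ι F)) := by
  refine le_antisymm le_top (fun A _ ↦ transvection_induction _ (fun i j hij c ↦ ?_)
    (fun _ _ ↦ mul_mem) A)
  have h := SL2Gen.transvection_mem_lineStab (F := F) hij c
  rw [← Projectivization.submodule_mk (K := F) _ (Pi.single_ne_zero_iff.2 one_ne_zero)] at h
  exact Subgroup.mem_iSup_of_mem _ h

lemma iSup_iwasawaT_eq_top [Nontrivial ι] :
    iSup (PSL.iwasawaT (F := F) (ι := ι)) = ⊤ := by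
  have step1 : iSup (PSL.iwasawaT (F := F) (ι := ι)) =
      Subgroup.map (QuotientGroup.mk' (Subgroup.center (Matrix.SpecialLinearGroup ι F)))
        (⨆ p : ℙ F (ι → F),
          Matrix.SpecialLinearGroup.lineStab (F := F) (ι := ι) p.submodule) := by
    rw [Subgroup.map_iSup]
  rw [step1, iSup_lineStab_eq_top]
  exact Subgroup.map_top_of_surjective _ (QuotientGroup.mk'_surjective _)

/-- The Iwasawa structure on PSL(ι, F). -/
noncomputable def iwasawa [Nontrivial ι] :
    MulAction.IwasawaStructure (Matrix.ProjectiveSpecialLinearGroup ι F) (ℙ F (ι → F)) where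
  T := PSL.iwasawaT
  is_comm p := by
    have hSL : IsMulCommutative (lineStab (F := F) (ι := ι) p.submodule) := by
      rw [← Projectivization.mk_rep p, Projectivization.submodule_mk]
      exact lineStab_isMulCommutative_of_span p.rep p.rep_nonzero
    exact Subgroup.map_isMulCommutative _ _
  is_conj g p := by
    obtain ⟨g_SL, rfl⟩ := QuotientGroup.mk_surjective g
    rw [Matrix.ProjectiveSpecialLinearGroup.smul_proj_mk]
    change Subgroup.map _ _ = _
    rw [PSL.smul_submodule, Matrix.SpecialLinearGroup.lineStab_smul,
      PSL.iwasawaT_map_conj]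
  is_generator := iSup_iwasawaT_eq_top

/-- PSL_n(F) is simple for n at least 3, over any field F. -/
theorem result {F : Type*} [Field F] (n : ℕ) (hn : 3 ≤ n) : IsSimpleGroup (Matrix.ProjectiveSpecialLinearGroup (Fin n) F) := by
  have : Nontrivial (Fin n) := Fin.nontrivial_iff_two_le.2 (by omega)
  have hperf : Group.IsPerfect (SpecialLinearGroup (Fin n) F) := ⟨SL_commutator_eq_top hn⟩
  have hperf' : Group.IsPerfect (Matrix.ProjectiveSpecialLinearGroup (Fin n) F) := inferInstance
  exact MulAction.IwasawaStructure.isSimpleGroup hperf'.commutator_eq_top iwasawa inferInstance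

end Cfsg.Agent.S0249
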