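import Mathlib
import Cfsg.Statements.S0268

set_option autoImplicit false
open Cfsg

namespace Cfsg.Agent.S0268

/-- For q odd, -1 is the unique involution of SL_2(q). -/
theorem result {F : Type*} [Field F] [Fintype F] (hF : Odd (Fintype.card F)) (g : Matrix.SpecialLinearGroup (Fin 2) F) (h1 : g ≠ 1) (h2 : g * g = 1) : (g : Matrix (Fin 2) (Fin 2) F) = -1 := by
  -- characteristic is not 2
  have h2ne : (2 : F) ≠ 0 := by
    intro h
    have hchar : ringChar F = 2 := by
      have : ringChar F ∣ 2 := by
        have := (ringChar.spec F 2).1 (by exact_mod_cast h)
        exact this
      rcases (Nat.dvd_prime Nat.prime_two).1 this with h | h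
      · exact absurd h (CharP.ringChar_ne_one)
      · exact h
    have := FiniteField.even_card_of_char_two hchar
    rcases hF with ⟨k, hk⟩
    omega
  have hdet : g.1 0 0 * g.1 1 1 - g.1 0 1 * g.1 1 0 = 1 := by
    have := g.2
    rw [Matrix.det_fin_two] at this
    exact this
  have hmul : g.1 * g.1 = 1 := by
    have := congrArg Subtype.val h2
    simpa using this
  have e00 := congrFun (congrFun hmul 0) 0
  have e01 := congrFun (congrFun hmul 0) 1
  have e10 := congrFun (congrFun hmul 1) 0
  have e11 := congrFun (congrFun hmul 1) 1
  simp [Matrix.mul_apply, Fin.sum_univ_two] at e00 e01 e10 e11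
  set a := g.1 0 0
  set b := g.1 0 1
  set c := g.1 1 0
  set d := g.1 1 1
  by_cases hs : a + d = 0
  · -- then -1 = 1
    exfalso
    have hd : d = -a := by linear_combination hs
    have : (2 : F) = 0 := by
      rw [hd] at hdet e11
      linear_combination (-1 : F) * hdet - e00
    exact h2ne this
  · have hb : b = 0 := by
      have : b * (a + d) = 0 := by linear_combination e01
      rcases mul_eq_zero.1 this with h | h
      · exact h
      · exact absurd h hs
    have hc : c = 0 := by
      have : c * (a + d) = 0 := by linear_combination e10
      rcases mul_eq_zero.1 this with h | h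
      · exact h
      · exact absurd h hs
    have ha2 : a * a = 1 := by rw [hb] at e00; linear_combination e00
    have had : a * d = 1 := by rw [hb] at hdet; linear_combination hdet
    have hda : d = a := by
      have : a * (d - a) = 0 := by linear_combination had - ha2
      rcases mul_eq_zero.1 this with h | h
      · rw [h] at ha2; simp at ha2
      · linear_combination h
    have ha : a = 1 ∨ a = -1 := by
      have : (a - 1) * (a + 1) = 0 := by linear_combination ha2
      rcases mul_eq_zero.1 this with h | h
      · left; linear_combination h
      · right; linear_combination h
    rcases ha with ha | ha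
    · exfalso
      apply h1
      ext i j
      fin_cases i <;> fin_cases j <;> simp
      · exact ha
      · exact hb
      · exact hc
      · exact hda.trans ha
    · ext i j
      fin_cases i <;> fin_cases j <;> simp
      · exact ha
      · exact hb
      · exact hc
      · change d = -1
        rw [hda, ha]

end Cfsg.Agent.S0268
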