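import Mathlib
import Cfsg.Statements.S0261
import Cfsg.Agent.S0268
import Cfsg.Agent.Lib.Helper3.QuatHom
import Cfsg.Agent.Lib.Helper3.SL2Sylow
import Cfsg.Agent.Lib.Helper10.UniqueOrderP

set_option autoImplicit false
open Cfsg

namespace Cfsg.Agent.S0261

open Cfsg.Agent.Lib.Helper3 Cfsg.Agent.Lib.Helper10

variable {F : Type*} [Field F]

lemma two_ne_zero_of_odd [Fintype F] (hF : Odd (Fintype.card F)) : (2 : F) ≠ 0 := by
  intro h
  have h2 : ringChar F ∣ 2 := by
    have : ((2 : ℕ) : F) = 0 := by exact_mod_cast h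
    exact (ringChar.spec F 2).1 this
  have hp : (ringChar F).Prime := CharP.char_is_prime F (ringChar F)
  have h22 : ringChar F = 2 := (Nat.prime_dvd_prime_iff_eq hp Nat.prime_two).1 h2
  have hdvd : ringChar F ∣ Fintype.card F := by
    obtain ⟨n, -, hn⟩ := FiniteField.card F (ringChar F)
    rw [hn]
    exact dvd_pow_self _ n.ne_zero
  rw [h22] at hdvd
  exact (Nat.not_even_iff_odd.2 hF) (even_iff_two_dvd.2 hdvd)

lemma uniqueOrderP [Fintype F] (hF : Odd (Fintype.card F)) :
    UniqueOrderP 2 (Matrix.SpecialLinearGroup (Fin 2) F) := by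
  intro x y hx hx1 hy
  have hx' : (x : Matrix (Fin 2) (Fin 2) F) = -1 :=
    Cfsg.Agent.S0268.result hF x hx1 (by rw [← pow_two]; exact hx)
  by_cases hy1 : y = 1
  · rw [hy1]; exact Subgroup.one_mem _
  · have hy' : (y : Matrix (Fin 2) (Fin 2) F) = -1 :=
      Cfsg.Agent.S0268.result hF y hy1 (by rw [← pow_two]; exact hy)
    have : y = x := Subtype.ext (by rw [hx', hy'])
    rw [this]
    exact Subgroup.mem_zpowers x

/-- the matrix `[[0,-1],[1,0]]` -/
def matA : Matrix.SpecialLinearGroup (Fin 2) F :=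
  ⟨!![0, -1; 1, 0], by rw [Matrix.det_fin_two_of]; ring⟩

/-- the matrix `[[x,y],[y,-x]]` with `x^2+y^2 = -1` -/
def matX (x y : F) (h : x ^ 2 + y ^ 2 = -1) : Matrix.SpecialLinearGroup (Fin 2) F :=
  ⟨!![x, y; y, -x], by rw [Matrix.det_fin_two_of]; linear_combination (-1 : F) * h⟩

lemma matA_mul_self :
    ((matA * matA : Matrix.SpecialLinearGroup (Fin 2) F) : Matrix (Fin 2) (Fin 2) F) = -1 := by
  rw [Matrix.SpecialLinearGroup.coe_mul]
  ext i j
  fin_cases i <;> fin_cases j <;> simp [matA, Matrix.mul_apply, Fin.sum_univ_two]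

lemma matX_mul_self (x y : F) (h : x ^ 2 + y ^ 2 = -1) :
    ((matX x y h * matX x y h : Matrix.SpecialLinearGroup (Fin 2) F) :
      Matrix (Fin 2) (Fin 2) F) = -1 := by
  rw [Matrix.SpecialLinearGroup.coe_mul]
  ext i j
  fin_cases i <;> fin_cases j <;> simp [matX, Matrix.mul_apply, Fin.sum_univ_two] <;>
    first | ring1 | linear_combination h

lemma matA_matX_matA (x y : F) (h : x ^ 2 + y ^ 2 = -1) :
    matA * matX x y h * matA = matX x y h := by
  apply Subtype.ext
  rw [Matrix.SpecialLinearGroup.coe_mul, Matrix.SpecialLinearGroup.coe_mul]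
  ext i j
  fin_cases i <;> fin_cases j <;> simp [matA, matX, Matrix.mul_apply, Fin.sum_univ_two]

lemma exists_not_cyclic [Fintype F] (hF : Odd (Fintype.card F)) :
    ∃ P : Sylow 2 (Matrix.SpecialLinearGroup (Fin 2) F), ¬ IsCyclic P := by
  have h2 := two_ne_zero_of_odd hF
  have hchar : CharP F (ringChar F) := ringChar.charP F
  have hne : NeZero (ringChar F) := ⟨(CharP.char_is_prime F (ringChar F)).ne_zero⟩
  obtain ⟨a, b, hab⟩ := CharP.sq_add_sq F (ringChar F) (-1)
  have hab' : (a : F) ^ 2 + (b : F) ^ 2 = -1 := by simpa using hab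
  refine QuatHom.exists_sylow_not_cyclic matA (matX (a : F) (b : F) hab') ?_ ?_ ?_ ?_
  · have : (matA : Matrix.SpecialLinearGroup (Fin 2) F) ^ 4 = matA * matA * (matA * matA) := by
      rw [show (4 : ℕ) = 2 + 2 from rfl, pow_add, pow_two]
    rw [this]
    apply Subtype.ext
    rw [Matrix.SpecialLinearGroup.coe_mul, matA_mul_self]
    simp
  · rw [pow_two, pow_two]
    apply Subtype.ext
    rw [matA_mul_self, matX_mul_self]
  · have h := matA_matX_matA (a : F) (b : F) hab'
    rw [mul_inv_eq_iff_eq_mul, eq_inv_mul_iff_mul_eq, ← mul_assoc]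
    exact h
  · intro h
    have h00 := congrArg (fun g : Matrix.SpecialLinearGroup (Fin 2) F => g.1 0 0) h
    have h01 := congrArg (fun g : Matrix.SpecialLinearGroup (Fin 2) F => g.1 0 1) h
    simp only [(SL2.mul_entries _ _).1, (SL2.mul_entries _ _).2.1] at h00 h01
    simp [matA, matX] at h00 h01
    have hb0 : (b : F) = 0 := by
      have : (2 : F) * b = 0 := by linear_combination (-1 : F) * h00
      rcases mul_eq_zero.1 this with h' | h'
      · exact absurd h' h2
      · exact h'
    have ha0 : (a : F) = 0 := by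
      have : (2 : F) * a = 0 := by linear_combination h01
      rcases mul_eq_zero.1 this with h' | h'
      · exact absurd h' h2
      · exact h'
    rw [ha0, hb0] at hab'
    have : (1 : F) = 0 := by linear_combination hab'
    exact one_ne_zero this

/-- For q odd, the Sylow 2-subgroups of SL_2(q) are generalised quaternion. -/
theorem result {F : Type*} [Field F] [Fintype F] (hF : Odd (Fintype.card F)) (P : Sylow 2 (Matrix.SpecialLinearGroup (Fin 2) F)) : ∃ k : ℕ, 1 ≤ k ∧ Nonempty ((P : Subgroup (Matrix.SpecialLinearGroup (Fin 2) F)) ≃* QuaternionGroup (2 ^ k)) := by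
  classical
  obtain ⟨P₀, hP₀⟩ := exists_not_cyclic hF
  have hncyc : ¬ IsCyclic P := by
    intro hcyc
    apply hP₀
    exact isCyclic_of_surjective (Sylow.equiv P P₀).toMonoidHom (Sylow.equiv P P₀).surjective
  have hu : UniqueOrderP 2 P := (uniqueOrderP hF).subgroup P
  rcases isCyclic_or_quaternion_of_uniqueOrderP P.isPGroup' hu with h | ⟨-, n, ⟨e⟩⟩
  · exact absurd h hncyc
  · refine ⟨n, ?_, ⟨e⟩⟩
    by_contra hn
    have hn0 : n = 0 := by omega
    subst hn0
    apply hncyc
    have : IsCyclic (QuaternionGroup (2 ^ 0)) := by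
      rw [pow_zero]; exact QuaternionGroup.quaternionGroup_one_isCyclic
    exact isCyclic_of_surjective e.symm.toMonoidHom e.symm.surjective

end Cfsg.Agent.S0261
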