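import Cfsg.Statements.S3963
import Cfsg.Agent.Lib.Helper21.StemExt

set_option autoImplicit false
open Cfsg

namespace Cfsg.Agent.S3963

open Cfsg.Agent.Lib.Helper21

/-- the cyclic subgroup of index two -/
def rotQ (n : ℕ) : Subgroup (QuaternionGroup n) := Subgroup.zpowers (QuaternionGroup.a 1)

theorem a_one_zpow {n : ℕ} (k : ℤ) : (QuaternionGroup.a 1 : QuaternionGroup n) ^ k = QuaternionGroup.a k := by
  obtain ⟨m, rfl | rfl⟩ := Int.eq_nat_or_neg k
  · simp [QuaternionGroup.a_one_pow]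
  · rw [zpow_neg, zpow_natCast, QuaternionGroup.a_one_pow, inv_eq_iff_mul_eq_one,
      QuaternionGroup.a_mul_a, ← QuaternionGroup.a_zero]
    congr 1
    push_cast
    ring

theorem mem_rotQ {n : ℕ} (x : QuaternionGroup n) : x ∈ rotQ n ↔ ∃ i, x = QuaternionGroup.a i := by
  rw [rotQ, Subgroup.mem_zpowers_iff]
  constructor
  · rintro ⟨k, rfl⟩
    exact ⟨k, a_one_zpow k⟩
  · rintro ⟨i, rfl⟩
    obtain ⟨k, rfl⟩ := ZMod.intCast_surjective i
    exact ⟨k, a_one_zpow k⟩

theorem inv_xa {n : ℕ} (j : ZMod (2 * n)) :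
    (QuaternionGroup.xa j : QuaternionGroup n)⁻¹ = QuaternionGroup.xa ((n : ZMod (2 * n)) + j) := by
  rw [inv_eq_iff_mul_eq_one, QuaternionGroup.xa_mul_xa, ← QuaternionGroup.a_zero]
  congr 1
  have : ((2 * n : ℕ) : ZMod (2 * n)) = 0 := ZMod.natCast_self _
  push_cast at this
  linear_combination this

theorem inv_a {n : ℕ} (j : ZMod (2 * n)) :
    (QuaternionGroup.a j : QuaternionGroup n)⁻¹ = QuaternionGroup.a (-j) := by
  rw [inv_eq_iff_mul_eq_one, QuaternionGroup.a_mul_a, add_neg_cancel, QuaternionGroup.a_zero]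

instance rotQ_normal (n : ℕ) : (rotQ n).Normal := by
  constructor
  intro x hx g
  obtain ⟨i, rfl⟩ := (mem_rotQ x).mp hx
  rw [mem_rotQ]
  rcases g with j | j
  · exact ⟨j + i + -j, by rw [inv_a]; simp⟩
  · exact ⟨(n : ZMod (2 * n)) + ((n : ZMod (2 * n)) + j) - (j + i), by rw [inv_xa]; simp⟩

theorem rotQ_isCyclic (n : ℕ) : IsCyclic (rotQ n) := by
  rw [rotQ]; infer_instance

theorem rotQ_sup (n : ℕ) : rotQ n ⊔ Subgroup.zpowers (QuaternionGroup.xa (0 : ZMod (2 * n))) = ⊤ := by
  rw [eq_top_iff]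
  intro x _
  rcases x with i | i
  · exact Subgroup.mem_sup_left ((mem_rotQ _).mpr ⟨i, rfl⟩)
  · have : (QuaternionGroup.xa i : QuaternionGroup n) = QuaternionGroup.a (-i) * QuaternionGroup.xa 0 := by simp
    rw [this]
    exact Subgroup.mul_mem_sup ((mem_rotQ _).mpr ⟨-i, rfl⟩) (Subgroup.mem_zpowers _)

theorem mem_rotQ_inf_centralizer {n : ℕ} (x : QuaternionGroup n)
    (hx : x ∈ rotQ n ⊓ Subgroup.centralizer ({QuaternionGroup.xa (0 : ZMod (2 * n))} : Set (QuaternionGroup n))) :
      ∃ i : ZMod (2 * n), x = QuaternionGroup.a i ∧ i + i = 0 := by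
  rw [Subgroup.mem_inf, mem_rotQ, Subgroup.mem_centralizer_iff] at hx
  obtain ⟨⟨i, rfl⟩, h⟩ := hx
  refine ⟨i, rfl, ?_⟩
  have := h (QuaternionGroup.xa 0) rfl
  simp only [QuaternionGroup.xa_mul_a, QuaternionGroup.a_mul_xa, zero_add, zero_sub] at this
  injection this with this
  nth_rewrite 1 [this]
  exact neg_add_cancel i

theorem card_rotQ_inf_centralizer_le (n : ℕ) [NeZero n] :
    Nat.card ↥(rotQ n ⊓ Subgroup.centralizer ({QuaternionGroup.xa (0 : ZMod (2 * n))} : Set (QuaternionGroup n))) ≤ 2 := by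
  classical
  have hsub : ((rotQ n ⊓ Subgroup.centralizer ({QuaternionGroup.xa (0 : ZMod (2 * n))} : Set (QuaternionGroup n)) :
      Subgroup (QuaternionGroup n)) : Set (QuaternionGroup n)) ⊆
      {QuaternionGroup.a 0, QuaternionGroup.a ((n : ℕ) : ZMod (2 * n))} := by
    intro x hx
    obtain ⟨i, rfl, hi⟩ := mem_rotQ_inf_centralizer x hx
    have hn : 0 < n := Nat.pos_of_ne_zero (NeZero.ne n)
    have hv : (i.val + i.val) % (2 * n) = 0 := by
      have := congrArg ZMod.val hi
      rw [ZMod.val_add, ZMod.val_zero] at this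
      exact this
    have hlt : i.val < 2 * n := ZMod.val_lt i
    have hcases : i.val = 0 ∨ i.val = n := by
      have hdvd : 2 * n ∣ i.val + i.val := Nat.dvd_of_mod_eq_zero hv
      obtain ⟨k, hk⟩ := hdvd
      have hk2 : k < 2 := by
        by_contra hk2
        push Not at hk2
        have : 2 * n * 2 ≤ 2 * n * k := Nat.mul_le_mul_left (2 * n) hk2
        omega
      interval_cases k
      · left; omega
      · right; omega
    rcases hcases with h0 | h1
    · left
      congr 1
      exact (ZMod.val_eq_zero i).mp h0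
    · right
      rw [Set.mem_singleton_iff]
      congr 1
      have h3 : ((i.val : ℕ) : ZMod (2 * n)) = i := ZMod.natCast_zmod_val i
      rw [← h3]
      exact congrArg _ h1
  calc Nat.card ↥(rotQ n ⊓ Subgroup.centralizer ({QuaternionGroup.xa (0 : ZMod (2 * n))} : Set (QuaternionGroup n)))
      = ((rotQ n ⊓ Subgroup.centralizer ({QuaternionGroup.xa (0 : ZMod (2 * n))} : Set (QuaternionGroup n)) :
      Subgroup (QuaternionGroup n)) : Set (QuaternionGroup n)).ncard := by
        rw [← Nat.card_coe_set_eq]; rfl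
    _ ≤ ({QuaternionGroup.a 0, QuaternionGroup.a ((n : ℕ) : ZMod (2 * n))} : Set (QuaternionGroup n)).ncard :=
        Set.ncard_le_ncard hsub (Set.toFinite _)
    _ ≤ 2 := by
        refine (Set.ncard_insert_le _ _).trans ?_
        rw [Set.ncard_singleton]

theorem an_ne_one (n : ℕ) [NeZero n] : QuaternionGroup.a (n : ZMod (2 * n)) ≠ (1 : QuaternionGroup n) := by
  rw [QuaternionGroup.one_def]
  intro h
  injection h with h
  rw [ZMod.natCast_eq_zero_iff] at h
  have hn : 0 < n := Nat.pos_of_ne_zero (NeZero.ne n)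
  have := Nat.le_of_dvd hn h
  omega

/-- For every `n ≥ 1` the dicyclic (generalized quaternion) group of order `4 n` has trivial Schur multiplier. -/
theorem result (n : ℕ) [NeZero n] : Cfsg.HasCyclicSchurMultiplier (QuaternionGroup n) 1 := by
  apply hasCyclicSchurMultiplier_one_of
  intro Γ _ _ σ hσ
  obtain ⟨t, ht⟩ := hσ.1 (QuaternionGroup.xa 0)
  have hcard := stem_card_centralizer σ hσ (rotQ n) (rotQ_isCyclic n) (QuaternionGroup.xa 0) (rotQ_sup n) t ht
  have hle := ker_le_comap_inf_centralizer σ hσ (rotQ n) t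
  have h2 := card_rotQ_inf_centralizer_le n
  rw [← hcard] at h2
  set C := (rotQ n).comap σ ⊓ Subgroup.centralizer ({t} : Set Γ) with hC
  -- t^2 ∈ C but not in the kernel
  have ht2 : t ^ 2 ∈ C := by
    rw [hC, Subgroup.mem_inf]
    constructor
    · rw [Subgroup.mem_comap, map_pow, ht, QuaternionGroup.xa_sq, mem_rotQ]
      exact ⟨_, rfl⟩
    · rw [Subgroup.mem_centralizer_iff]
      intro y hy
      rw [Set.mem_singleton_iff] at hy
      subst hy
      rw [pow_two, mul_assoc]
  have ht2k : t ^ 2 ∉ σ.ker := by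
    rw [MonoidHom.mem_ker, map_pow, ht, QuaternionGroup.xa_sq]
    exact an_ne_one n
  have hlt : σ.ker < C := lt_of_le_of_ne hle (fun h => ht2k (h ▸ ht2))
  have hcardlt : Nat.card σ.ker < Nat.card C := by
    have : Nat.card σ.ker = (σ.ker : Set Γ).ncard := by rw [← Nat.card_coe_set_eq]; rfl
    have h3 : Nat.card C = (C : Set Γ).ncard := by rw [← Nat.card_coe_set_eq]; rfl
    rw [this, h3]
    exact Set.ncard_lt_ncard (SetLike.coe_ssubset_coe.mpr hlt) (Set.toFinite _)
  have hpos : 0 < Nat.card σ.ker := Nat.card_pos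
  have h1 : Nat.card σ.ker = 1 := by omega
  exact (Subgroup.card_eq_one).mp h1

end Cfsg.Agent.S3963
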