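import Cfsg.Statements.S2117
import Mathlib
import Cfsg.Agent.S0261
import Cfsg.Agent.S0262
import Cfsg.Agent.S3963
import Cfsg.Agent.Lib.Helper3.CardSL
import Cfsg.Agent.Lib.Helper3.SL2Sylow
import Cfsg.Agent.Lib.Helper12.SchurMore
import Cfsg.Agent.Lib.Helper21.StemExt

set_option autoImplicit false
set_option linter.deprecated false
set_option linter.style.haveILetI false
open Cfsg

namespace Cfsg.Agent.S2117

open Matrix Cfsg.Agent.Lib.Helper21 Cfsg.Agent.Lib.Helper3.SL2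
open scoped commutatorElement

/-! ### commutators and central elements -/

section comm
variable {Γ : Type*} [Group Γ]

theorem comm_mul_central_left {x y z : Γ} (hz : z ∈ Subgroup.center Γ) :
    ⁅x * z, y⁆ = ⁅x, y⁆ := by
  have h1 : z * y = y * z := (Subgroup.mem_center_iff.mp hz y).symm
  rw [commutatorElement_def, commutatorElement_def]
  calc x * z * y * (x * z)⁻¹ * y⁻¹ = x * (z * y) * z⁻¹ * x⁻¹ * y⁻¹ := by group
    _ = x * (y * z) * z⁻¹ * x⁻¹ * y⁻¹ := by rw [h1]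
    _ = x * y * x⁻¹ * y⁻¹ := by group

theorem comm_mul_central_right {x y z : Γ} (hz : z ∈ Subgroup.center Γ) :
    ⁅x, y * z⁆ = ⁅x, y⁆ := by
  have h1 : z * x⁻¹ = x⁻¹ * z := (Subgroup.mem_center_iff.mp hz x⁻¹).symm
  rw [commutatorElement_def, commutatorElement_def]
  calc x * (y * z) * x⁻¹ * (y * z)⁻¹ = x * y * (z * x⁻¹) * z⁻¹ * y⁻¹ := by group
    _ = x * y * (x⁻¹ * z) * z⁻¹ * y⁻¹ := by rw [h1]
    _ = x * y * x⁻¹ * y⁻¹ := by group

theorem comm_congr {G : Type*} [Group G] (σ : Γ →* G) (hcen : σ.ker ≤ Subgroup.center Γ)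
    {x x' y y' : Γ} (hx : σ x = σ x') (hy : σ y = σ y') : ⁅x, y⁆ = ⁅x', y'⁆ := by
  have hz : x⁻¹ * x' ∈ Subgroup.center Γ :=
    hcen (by rw [MonoidHom.mem_ker, map_mul, map_inv, hx, inv_mul_cancel])
  have hw : y⁻¹ * y' ∈ Subgroup.center Γ :=
    hcen (by rw [MonoidHom.mem_ker, map_mul, map_inv, hy, inv_mul_cancel])
  have e1 : ⁅x', y'⁆ = ⁅x * (x⁻¹ * x'), y * (y⁻¹ * y')⁆ := by
    rw [mul_inv_cancel_left, mul_inv_cancel_left]
  rw [e1, comm_mul_central_left hz, comm_mul_central_right hw]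

theorem comm_mul_left' {x x' y : Γ} (h : ⁅x', y⁆ ∈ Subgroup.center Γ) :
    ⁅x * x', y⁆ = ⁅x, y⁆ * ⁅x', y⁆ := by
  have hc : ∀ g, g * ⁅x', y⁆ = ⁅x', y⁆ * g := Subgroup.mem_center_iff.mp h
  calc ⁅x * x', y⁆ = x * ⁅x', y⁆ * y * x⁻¹ * y⁻¹ := by
        simp only [commutatorElement_def]; group
    _ = ⁅x', y⁆ * x * y * x⁻¹ * y⁻¹ := by rw [hc x]
    _ = ⁅x', y⁆ * ⁅x, y⁆ := by simp only [commutatorElement_def]; group
    _ = ⁅x, y⁆ * ⁅x', y⁆ := (hc _).symm

theorem comm_mul_right' {x y y' : Γ} (h : ⁅x, y'⁆ ∈ Subgroup.center Γ) :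
    ⁅x, y * y'⁆ = ⁅x, y⁆ * ⁅x, y'⁆ := by
  have hc : ∀ g, g * ⁅x, y'⁆ = ⁅x, y'⁆ * g := Subgroup.mem_center_iff.mp h
  calc ⁅x, y * y'⁆ = x * y * x⁻¹ * (⁅x, y'⁆ * y⁻¹) := by
        simp only [commutatorElement_def]; group
    _ = x * y * x⁻¹ * (y⁻¹ * ⁅x, y'⁆) := by rw [← hc y⁻¹]
    _ = ⁅x, y⁆ * ⁅x, y'⁆ := by simp only [commutatorElement_def]; group

theorem comm_conj {x y h : Γ} (hc : ⁅x, y⁆ ∈ Subgroup.center Γ) :
    ⁅h * x * h⁻¹, h * y * h⁻¹⁆ = ⁅x, y⁆ := by
  have e : ⁅h * x * h⁻¹, h * y * h⁻¹⁆ = h * ⁅x, y⁆ * h⁻¹ := by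
    simp only [commutatorElement_def]; group
  rw [e, Subgroup.mem_center_iff.mp hc h, mul_inv_cancel_right]

end comm

/-! ### the abstract pairing argument -/

theorem pairing_trivial {F : Type*} [Field F] {Γ : Type*} [Group Γ] (β : F → F → Γ)
    (h1 : ∀ a a' b, β (a + a') b = β a b * β a' b)
    (h2 : ∀ a b b', β a (b + b') = β a b * β a b')
    (h3 : ∀ s : F, s ≠ 0 → ∀ a b, β (s ^ 2 * a) (s ^ 2 * b) = β a b)
    (u v : F) (hu : u ≠ 0) (hv : v ≠ 0) (huv : u ^ 2 + 1 = v ^ 2)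
    (hc : u ^ 4 + u ^ 2 + 1 ≠ 0) : ∀ a b, β a b = 1 := by
  have hmove : ∀ s : F, s ≠ 0 → ∀ a b, β (s ^ 2 * a) b = β a ((s ^ 2)⁻¹ * b) := by
    intro s hs a b
    have h := h3 s⁻¹ (inv_ne_zero hs) (s ^ 2 * a) b
    have e1 : s⁻¹ ^ 2 * (s ^ 2 * a) = a := by field_simp
    have e2 : s⁻¹ ^ 2 = (s ^ 2)⁻¹ := inv_pow s 2
    rw [e1, e2] at h
    exact h.symm
  have hu2 : u ^ 2 ≠ 0 := pow_ne_zero 2 hu
  have hv2 : v ^ 2 ≠ 0 := pow_ne_zero 2 hv
  have hc' : (u ^ 2)⁻¹ + 1 - (v ^ 2)⁻¹ ≠ 0 := by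
    intro h0
    apply hc
    have e : ((u ^ 2)⁻¹ + 1 - (v ^ 2)⁻¹) * (u ^ 2 * v ^ 2) = v ^ 2 + u ^ 2 * v ^ 2 - u ^ 2 := by
      field_simp
    rw [h0, zero_mul, ← huv] at e
    linear_combination e.symm
  have key : ∀ a b, β a (((u ^ 2)⁻¹ + 1 - (v ^ 2)⁻¹) * b) = 1 := by
    intro a b
    have e1 : β (v ^ 2 * a) b = β a ((v ^ 2)⁻¹ * b) := hmove v hv a b
    have e2 : β (v ^ 2 * a) b = β a ((u ^ 2)⁻¹ * b) * β a b := by
      have : v ^ 2 * a = u ^ 2 * a + a := by rw [← huv]; ring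
      rw [this, h1, hmove u hu]
    have e3 : (u ^ 2)⁻¹ * b + b = (v ^ 2)⁻¹ * b + ((u ^ 2)⁻¹ + 1 - (v ^ 2)⁻¹) * b := by ring
    rw [← h2, e3, h2, ← e1] at e2
    exact left_eq_mul.mp e2
  intro a b
  have := key a (((u ^ 2)⁻¹ + 1 - (v ^ 2)⁻¹)⁻¹ * b)
  rwa [mul_inv_cancel_left₀ hc'] at this

/-! ### existence of good pairs -/

open Polynomial in
theorem exists_pair_even {F : Type*} [Field F] [Fintype F] (h2 : (2 : F) = 0)
    (hq : 8 ≤ Fintype.card F) :
    ∃ u v : F, u ≠ 0 ∧ v ≠ 0 ∧ u ^ 2 + 1 = v ^ 2 ∧ u ^ 4 + u ^ 2 + 1 ≠ 0 := by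
  classical
  have hP0 : (X * (X + 1) * (X ^ 4 + X ^ 2 + 1) : F[X]) ≠ 0 := by
    have hm : (X * (X + 1) * (X ^ 4 + X ^ 2 + 1) : F[X]).Monic := by monicity!
    exact hm.ne_zero
  have hdeg : (X * (X + 1) * (X ^ 4 + X ^ 2 + 1) : F[X]).natDegree ≤ 6 := by compute_degree
  obtain ⟨t, ht⟩ : ∃ t : F, (X * (X + 1) * (X ^ 4 + X ^ 2 + 1) : F[X]).eval t ≠ 0 := by
    by_contra hall
    push Not at hall
    apply hP0
    apply Polynomial.eq_zero_of_natDegree_lt_card_of_eval_eq_zero' _ Finset.univ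
      (fun i _ => hall i)
    rw [Finset.card_univ]; omega
  have ht' : t * (t + 1) * (t ^ 4 + t ^ 2 + 1) ≠ 0 := by simpa using ht
  refine ⟨t, t + 1, ?_, ?_, ?_, ?_⟩
  · intro h; apply ht'; rw [h]; ring
  · intro h; apply ht'; rw [h]; ring
  · linear_combination (-t) * h2
  · intro h; apply ht'; rw [h]; ring

open Polynomial in
theorem exists_pair_odd {F : Type*} [Field F] [Fintype F] (h2 : (2 : F) ≠ 0)
    (hq : 14 ≤ Fintype.card F) :
    ∃ u v : F, u ≠ 0 ∧ v ≠ 0 ∧ u ^ 2 + 1 = v ^ 2 ∧ u ^ 4 + u ^ 2 + 1 ≠ 0 := by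
  classical
  have hP0 : ((X ^ 5 - X) * (X ^ 8 + C 14 * X ^ 4 + 1) : F[X]) ≠ 0 := by
    have hm : ((X ^ 5 - X) * (X ^ 8 + C 14 * X ^ 4 + 1) : F[X]).Monic := by monicity!
    exact hm.ne_zero
  have hdeg : ((X ^ 5 - X) * (X ^ 8 + C 14 * X ^ 4 + 1) : F[X]).natDegree ≤ 13 := by
    compute_degree
  obtain ⟨t, ht⟩ : ∃ t : F, ((X ^ 5 - X) * (X ^ 8 + C 14 * X ^ 4 + 1) : F[X]).eval t ≠ 0 := by
    by_contra hall
    push Not at hall
    apply hP0
    apply Polynomial.eq_zero_of_natDegree_lt_card_of_eval_eq_zero' _ Finset.univ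
      (fun i _ => hall i)
    rw [Finset.card_univ]; omega
  have ht' : (t ^ 5 - t) * (t ^ 8 + 14 * t ^ 4 + 1) ≠ 0 := by simpa using ht
  have ht0 : t ≠ 0 := by
    intro h; apply ht'; rw [h]; ring
  have h2t : 2 * t ≠ 0 := mul_ne_zero h2 ht0
  have hm : 1 - t ^ 2 ≠ 0 := by
    intro h; apply ht'
    have : t ^ 5 - t = -(t * (1 + t ^ 2)) * (1 - t ^ 2) := by ring
    rw [this, h]; ring
  have hp : 1 + t ^ 2 ≠ 0 := by
    intro h; apply ht'
    have : t ^ 5 - t = -(t * (1 - t ^ 2)) * (1 + t ^ 2) := by ring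
    rw [this, h]; ring
  have h8 : t ^ 8 + 14 * t ^ 4 + 1 ≠ 0 := by
    intro h; apply ht'; rw [h]; ring
  refine ⟨(1 - t ^ 2) / (2 * t), (1 + t ^ 2) / (2 * t), div_ne_zero hm h2t, div_ne_zero hp h2t,
    ?_, ?_⟩
  · field_simp
    ring
  · intro h
    apply h8
    have e : t ^ 8 + 14 * t ^ 4 + 1 =
        (((1 - t ^ 2) / (2 * t)) ^ 4 + ((1 - t ^ 2) / (2 * t)) ^ 2 + 1) * (2 * t) ^ 4 := by
      field_simp
      ring
    rw [e, h, zero_mul]

/-! ### stem extensions of cyclic and quaternion groups, Sylow restriction -/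

theorem ker_eq_bot_of_cyclic {Γ : Type*} {Q : Type*} [Group Γ] [Group Q] [IsCyclic Q]
    (σ : Γ →* Q) (hσ : IsStemExtension σ) : σ.ker = ⊥ := by
  have hcomm : ∀ a b : Γ, a * b = b * a := commutative_of_cyclic_center_quotient σ hσ.2.1
  have hbot : commutator Γ = ⊥ := by
    rw [commutator_def, Subgroup.commutator_eq_bot_iff_le_centralizer]
    intro a _
    rw [Subgroup.mem_centralizer_iff]
    intro b _
    exact hcomm b a
  rw [eq_bot_iff, ← hbot]
  exact hσ.2.2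

theorem ker_eq_bot_of_quaternion {Γ : Type*} [Group Γ] [Finite Γ] (n : ℕ) [NeZero n]
    (σ : Γ →* QuaternionGroup n) (hσ : IsStemExtension σ) : σ.ker = ⊥ := by
  obtain ⟨t, ht⟩ := hσ.1 (QuaternionGroup.xa 0)
  have hcard := stem_card_centralizer σ hσ (Cfsg.Agent.S3963.rotQ n)
    (Cfsg.Agent.S3963.rotQ_isCyclic n) (QuaternionGroup.xa 0) (Cfsg.Agent.S3963.rotQ_sup n) t ht
  have hle := ker_le_comap_inf_centralizer σ hσ (Cfsg.Agent.S3963.rotQ n) t
  have h2 := Cfsg.Agent.S3963.card_rotQ_inf_centralizer_le n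
  rw [← hcard] at h2
  set C := (Cfsg.Agent.S3963.rotQ n).comap σ ⊓ Subgroup.centralizer ({t} : Set Γ) with hC
  have ht2 : t ^ 2 ∈ C := by
    rw [hC, Subgroup.mem_inf]
    constructor
    · rw [Subgroup.mem_comap, map_pow, ht, QuaternionGroup.xa_sq, Cfsg.Agent.S3963.mem_rotQ]
      exact ⟨_, rfl⟩
    · rw [Subgroup.mem_centralizer_iff]
      intro y hy
      rw [Set.mem_singleton_iff] at hy
      subst hy
      rw [pow_two, mul_assoc]
  have ht2k : t ^ 2 ∉ σ.ker := by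
    rw [MonoidHom.mem_ker, map_pow, ht, QuaternionGroup.xa_sq]
    exact Cfsg.Agent.S3963.an_ne_one n
  have hlt : σ.ker < C := lt_of_le_of_ne hle (fun h => ht2k (h ▸ ht2))
  have hcardlt : Nat.card σ.ker < Nat.card C := by
    have : Nat.card σ.ker = (σ.ker : Set Γ).ncard := by rw [← Nat.card_coe_set_eq]; rfl
    have h3 : Nat.card C = (C : Set Γ).ncard := by rw [← Nat.card_coe_set_eq]; rfl
    rw [this, h3]
    exact Set.ncard_lt_ncard (SetLike.coe_ssubset_coe.mpr hlt) (Set.toFinite _)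
  have hpos : 0 < Nat.card σ.ker := Nat.card_pos
  have h1 : Nat.card σ.ker = 1 := by omega
  exact (Subgroup.card_eq_one).mp h1

/-- restricting a finite stem extension to a Sylow subgroup gives a stem extension of its image -/
theorem sylow_stem {Γ : Type*} {G : Type*} [Group Γ] [Finite Γ] [Group G] (σ : Γ →* G)
    (hσ : IsStemExtension σ) (r : ℕ) [Fact r.Prime] (R : Sylow r Γ) {Q : Type*} [Group Q]
    (e : ((R : Subgroup Γ).map σ) ≃* Q) :
    ∃ τ : (R : Subgroup Γ) →* Q, IsStemExtension τ ∧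
      ∀ a : (R : Subgroup Γ), a ∈ τ.ker ↔ (a : Γ) ∈ σ.ker := by
  obtain ⟨hsurj, hcen, hcomm⟩ := hσ
  let τ₀ : (R : Subgroup Γ) →* ((R : Subgroup Γ).map σ) := σ.subgroupMap (R : Subgroup Γ)
  have hτ₀ : Function.Surjective τ₀ := σ.subgroupMap_surjective (R : Subgroup Γ)
  let τ : (R : Subgroup Γ) →* Q := e.toMonoidHom.comp τ₀
  have hτker : ∀ a : (R : Subgroup Γ), a ∈ τ.ker ↔ (a : Γ) ∈ σ.ker := by
    intro a
    rw [MonoidHom.mem_ker, MonoidHom.mem_ker]
    show e (τ₀ a) = 1 ↔ _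
    rw [EmbeddingLike.map_eq_one_iff]
    constructor
    · intro h; exact congrArg Subtype.val h
    · intro h; exact Subtype.ext h
  refine ⟨τ, ⟨e.surjective.comp hτ₀, ?_, ?_⟩, hτker⟩
  · intro a ha
    have hac : (a : Γ) ∈ Subgroup.center Γ := hcen ((hτker a).mp ha)
    rw [Subgroup.mem_center_iff]
    intro b
    apply Subtype.ext
    simp only [Subgroup.coe_mul]
    exact Subgroup.mem_center_iff.mp hac b
  · intro a ha
    have haZ := (hτker a).mp ha
    obtain ⟨h, hmem⟩ := Cfsg.Agent.Lib.Helper12.Schur.pow_index_mem_commutator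
      (R : Subgroup Γ) (hcen haZ) (hcomm haZ)
    have hpow : (⟨(a : Γ) ^ (R : Subgroup Γ).index, h⟩ : (R : Subgroup Γ)) =
        a ^ (R : Subgroup Γ).index := by
      apply Subtype.ext; simp
    rw [hpow] at hmem
    have hcop : ((R : Subgroup Γ).index).Coprime (orderOf a) := by
      have h1 := R.card_coprime_index
      exact (Nat.Coprime.coprime_dvd_left (orderOf_dvd_natCard a) h1).symm
    obtain ⟨m, hm⟩ := exists_pow_eq_self_of_coprime hcop
    rw [← hm]
    exact pow_mem hmem m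

theorem not_dvd_of_sylow_trivial {Γ : Type*} {G : Type*} [Group Γ] [Finite Γ] [Group G]
    (σ : Γ →* G) (r : ℕ) [Fact r.Prime]
    (h : ∀ R : Sylow r Γ, ∀ a ∈ (R : Subgroup Γ), a ∈ σ.ker → a = 1) :
    ¬ r ∣ Nat.card σ.ker := by
  intro hdvd
  obtain ⟨z, hz⟩ := exists_prime_orderOf_dvd_card' r hdvd
  have hzo : orderOf (z : Γ) = r := by rw [Subgroup.orderOf_coe]; exact hz
  have hP : IsPGroup r (Subgroup.zpowers (z : Γ)) := by
    apply IsPGroup.of_card (n := 1)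
    rw [Nat.card_zpowers, hzo, pow_one]
  obtain ⟨R, hR⟩ := hP.exists_le_sylow
  have h1 := h R (z : Γ) (hR (Subgroup.mem_zpowers _)) z.2
  rw [h1, orderOf_one] at hzo
  exact (Fact.out : r.Prime).one_lt.ne hzo

/-! ### the unipotent preimage -/

section unip
variable {F : Type*} [Field F]

/-- diagonal element -/
def dg (s : F) (hs : s ≠ 0) : Matrix.SpecialLinearGroup (Fin 2) F :=
  ⟨!![s, 0; 0, s⁻¹], by rw [Matrix.det_fin_two_of]; field_simp; ring⟩

theorem dg_mul_upper (s : F) (hs : s ≠ 0) (a : F) :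
    dg s hs * upper a = upper (s ^ 2 * a) * dg s hs := by
  obtain ⟨h00, h01, h10, h11⟩ := mul_entries (dg s hs) (upper a)
  obtain ⟨k00, k01, k10, k11⟩ := mul_entries (upper (s ^ 2 * a)) (dg s hs)
  apply ext2
  · rw [h00, k00]; simp [dg]
  · rw [h01, k01]; simp [dg]; field_simp
  · rw [h10, k10]; simp [dg]
  · rw [h11, k11]; simp [dg]

theorem mem_U_iff (g : Matrix.SpecialLinearGroup (Fin 2) F) :
    g ∈ (U : Subgroup (Matrix.SpecialLinearGroup (Fin 2) F)) ↔ ∃ a, g = upper a := by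
  constructor
  · rintro ⟨a, rfl⟩
    exact ⟨Multiplicative.toAdd a, rfl⟩
  · rintro ⟨a, rfl⟩
    exact upper_mem_U a

theorem upper_comm (a b : F) : upper a * upper b = upper b * upper a := by
  rw [← upper_add, ← upper_add, add_comm]

theorem unip_comm [Fintype F] {Γ : Type*} [Group Γ]
    (σ : Γ →* Matrix.SpecialLinearGroup (Fin 2) F) (hsurj : Function.Surjective σ)
    (hcen : σ.ker ≤ Subgroup.center Γ)
    (hgood : (Fintype.card F).Prime ∨
      ∃ u v : F, u ≠ 0 ∧ v ≠ 0 ∧ u ^ 2 + 1 = v ^ 2 ∧ u ^ 4 + u ^ 2 + 1 ≠ 0) :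
    ∀ x y : Γ, σ x ∈ (U : Subgroup (Matrix.SpecialLinearGroup (Fin 2) F)) →
      σ y ∈ (U : Subgroup (Matrix.SpecialLinearGroup (Fin 2) F)) → x * y = y * x := by
  rcases hgood with hprime | ⟨u, v, hu, hv, huv, hc⟩
  · haveI : Fact (Fintype.card F).Prime := ⟨hprime⟩
    haveI : IsCyclic (U : Subgroup (Matrix.SpecialLinearGroup (Fin 2) F)) := by
      apply isCyclic_of_prime_card (p := Fintype.card F)
      rw [card_U, Nat.card_eq_fintype_card]
    let f := σ.subgroupComap (U : Subgroup (Matrix.SpecialLinearGroup (Fin 2) F))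
    have hker : f.ker ≤ Subgroup.center _ := by
      intro a ha
      have ha1 : σ (a : Γ) = 1 := by
        have h1 := MonoidHom.mem_ker.mp ha
        exact congrArg Subtype.val h1
      have hac : (a : Γ) ∈ Subgroup.center Γ := hcen (MonoidHom.mem_ker.mpr ha1)
      rw [Subgroup.mem_center_iff]
      intro b
      apply Subtype.ext
      simp only [Subgroup.coe_mul]
      exact Subgroup.mem_center_iff.mp hac b
    intro x y hx hy
    have := commutative_of_cyclic_center_quotient f hker ⟨x, hx⟩ ⟨y, hy⟩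
    exact congrArg Subtype.val this
  · choose X hX using fun a : F => hsurj (upper a)
    have hkerc : ∀ a b, ⁅X a, X b⁆ ∈ Subgroup.center Γ := by
      intro a b
      apply hcen
      rw [MonoidHom.mem_ker, map_commutatorElement, hX, hX,
        commutatorElement_eq_one_iff_mul_comm]
      exact upper_comm a b
    have h1 : ∀ a a' b, ⁅X (a + a'), X b⁆ = ⁅X a, X b⁆ * ⁅X a', X b⁆ := by
      intro a a' b
      have e : ⁅X (a + a'), X b⁆ = ⁅X a * X a', X b⁆ := by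
        apply comm_congr σ hcen _ rfl
        rw [map_mul, hX, hX, hX, upper_add]
      rw [e, comm_mul_left' (hkerc a' b)]
    have h2 : ∀ a b b', ⁅X a, X (b + b')⁆ = ⁅X a, X b⁆ * ⁅X a, X b'⁆ := by
      intro a b b'
      have e : ⁅X a, X (b + b')⁆ = ⁅X a, X b * X b'⁆ := by
        apply comm_congr σ hcen rfl
        rw [map_mul, hX, hX, hX, upper_add]
      rw [e, comm_mul_right' (hkerc a b')]
    have h3 : ∀ s : F, s ≠ 0 → ∀ a b, ⁅X (s ^ 2 * a), X (s ^ 2 * b)⁆ = ⁅X a, X b⁆ := by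
      intro s hs a b
      obtain ⟨h, hh⟩ := hsurj (dg s hs)
      have hconj : ∀ c : F, σ (X (s ^ 2 * c)) = σ (h * X c * h⁻¹) := by
        intro c
        rw [map_mul, map_mul, map_inv, hX, hX, hh, dg_mul_upper, mul_inv_cancel_right]
      rw [comm_congr σ hcen (hconj a) (hconj b), comm_conj (hkerc a b)]
    have hall := pairing_trivial (fun a b => ⁅X a, X b⁆) h1 h2 h3 u v hu hv huv hc
    intro x y hx hy
    obtain ⟨a, ha⟩ := (mem_U_iff _).mp hx
    obtain ⟨b, hb⟩ := (mem_U_iff _).mp hy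
    have e : ⁅x, y⁆ = ⁅X a, X b⁆ := comm_congr σ hcen (by rw [ha, hX]) (by rw [hb, hX])
    rw [← commutatorElement_eq_one_iff_mul_comm, e]
    exact hall a b

theorem char_not_dvd [Fintype F] (p : ℕ) [Fact p.Prime] [CharP F p] {Γ : Type*} [Group Γ]
    [Finite Γ] (σ : Γ →* Matrix.SpecialLinearGroup (Fin 2) F) (hσ : IsStemExtension σ)
    (hgood : (Fintype.card F).Prime ∨
      ∃ u v : F, u ≠ 0 ∧ v ≠ 0 ∧ u ^ 2 + 1 = v ^ 2 ∧ u ^ 4 + u ^ 2 + 1 ≠ 0) :
    ¬ p ∣ Nat.card σ.ker := by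
  classical
  intro hdvd
  obtain ⟨hsurj, hcen, hcomm⟩ := hσ
  obtain ⟨z, hz⟩ := exists_prime_orderOf_dvd_card' p hdvd
  have hzo : orderOf (z : Γ) = p := by rw [Subgroup.orderOf_coe]; exact hz
  set V : Subgroup Γ := (U : Subgroup (Matrix.SpecialLinearGroup (Fin 2) F)).comap σ with hV
  have hVcomm : ∀ a b : V, a * b = b * a := by
    intro a b
    apply Subtype.ext
    simp only [Subgroup.coe_mul]
    exact unip_comm σ hsurj hcen hgood a b a.2 b.2
  have hbot : commutator V = ⊥ := by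
    rw [commutator_def, Subgroup.commutator_eq_bot_iff_le_centralizer]
    intro a _
    rw [Subgroup.mem_centralizer_iff]
    intro b _
    exact hVcomm b a
  obtain ⟨h, hmem⟩ := Cfsg.Agent.Lib.Helper12.Schur.pow_index_mem_commutator V
    (hcen z.2) (hcomm z.2)
  rw [hbot, Subgroup.mem_bot] at hmem
  have h1 : (z : Γ) ^ V.index = 1 := by
    have := congrArg Subtype.val hmem
    simpa using this
  have hd : p ∣ V.index := by
    have h3 := orderOf_dvd_of_pow_eq_one h1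
    rwa [hzo] at h3
  have hidx : V.index = (U : Subgroup (Matrix.SpecialLinearGroup (Fin 2) F)).index :=
    Subgroup.index_comap_of_surjective _ hsurj
  have hmul := Subgroup.index_mul_card (U : Subgroup (Matrix.SpecialLinearGroup (Fin 2) F))
  rw [card_U, Cfsg.Agent.Lib.Helper3.CardSL.card_SL2, Nat.card_eq_fintype_card] at hmul
  have hqpos : 0 < Fintype.card F := Fintype.card_pos
  have hidx2 : (U : Subgroup (Matrix.SpecialLinearGroup (Fin 2) F)).index =
      Fintype.card F ^ 2 - 1 := by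
    apply Nat.eq_of_mul_eq_mul_right hqpos
    rw [hmul, mul_comm]
  have hpq : p ∣ Fintype.card F := by
    rw [← CharP.cast_eq_zero_iff F p]
    exact Nat.cast_card_eq_zero F
  rw [hidx, hidx2] at hd
  have hq1 : 1 ≤ Fintype.card F ^ 2 := Nat.one_le_pow _ _ hqpos
  have hpq2 : p ∣ Fintype.card F ^ 2 := dvd_pow hpq (by norm_num)
  have hp1 : p ∣ 1 := by
    have := (Nat.dvd_sub hpq2 hd)
    have e : Fintype.card F ^ 2 - (Fintype.card F ^ 2 - 1) = 1 := by omega
    rwa [e] at this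
  exact (Fact.out : p.Prime).one_lt.ne' (Nat.dvd_one.mp hp1)

theorem good_of_card [Fintype F] (p : ℕ) [Fact p.Prime] [CharP F p]
    (h4 : Fintype.card F ≠ 4) (h9 : Fintype.card F ≠ 9) :
    (Fintype.card F).Prime ∨
      ∃ u v : F, u ≠ 0 ∧ v ≠ 0 ∧ u ^ 2 + 1 = v ^ 2 ∧ u ^ 4 + u ^ 2 + 1 ≠ 0 := by
  obtain ⟨n, hp, hn⟩ := FiniteField.card F p
  have hn1 : 1 ≤ (n : ℕ) := n.pos
  by_cases hn' : (n : ℕ) = 1
  · left
    rw [hn, hn', pow_one]; exact hp
  right
  have hn2 : 2 ≤ (n : ℕ) := by omega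
  by_cases hp2 : p = 2
  · have h20 : (2 : F) = 0 := by
      have := CharP.cast_eq_zero F p
      rw [hp2] at this
      exact_mod_cast this
    apply exists_pair_even h20
    rw [hn, hp2]
    have hn3 : 3 ≤ (n : ℕ) := by
      by_contra h
      have : (n : ℕ) = 2 := by omega
      apply h4
      rw [hn, hp2, this]
      norm_num
    calc 8 = 2 ^ 3 := by norm_num
      _ ≤ 2 ^ (n : ℕ) := Nat.pow_le_pow_right (by norm_num) hn3
  · have h20 : (2 : F) ≠ 0 := by
      intro h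
      have h' : ((2 : ℕ) : F) = 0 := by exact_mod_cast h
      rw [CharP.cast_eq_zero_iff F p] at h'
      exact hp2 ((Nat.prime_dvd_prime_iff_eq hp Nat.prime_two).mp h')
    apply exists_pair_odd h20
    rw [hn]
    have hp3 : 3 ≤ p := by
      have := hp.two_le
      omega
    by_cases hp3' : p = 3
    · have hn3 : 3 ≤ (n : ℕ) := by
        by_contra h
        have : (n : ℕ) = 2 := by omega
        apply h9
        rw [hn, hp3', this]
        norm_num
      rw [hp3']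
      calc 14 ≤ 3 ^ 3 := by norm_num
        _ ≤ 3 ^ (n : ℕ) := Nat.pow_le_pow_right (by norm_num) hn3
    · have hp5 : 5 ≤ p := by
        by_contra h
        have : p = 4 := by omega
        rw [this] at hp
        norm_num at hp
      calc 14 ≤ p ^ 2 := by nlinarith
        _ ≤ p ^ (n : ℕ) := Nat.pow_le_pow_right (by omega) hn2

end unip

/-- For a finite field with q elements, q ≠ 4 and q ≠ 9, the special linear group SL₂ has trivial Schur multiplier (here the Schur multiplier is described through stem extensions, as in the definitions). -/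
theorem result {F : Type*} [Field F] [Fintype F] (h4 : Fintype.card F ≠ 4) (h9 : Fintype.card F ≠ 9) : Cfsg.HasCyclicSchurMultiplier (Matrix.SpecialLinearGroup (Fin 2) F) 1 := by
  classical
  apply hasCyclicSchurMultiplier_one_of
  intro Γ _ _ σ hσ
  by_contra hne
  have hcard : Nat.card σ.ker ≠ 1 := fun h => hne (Subgroup.card_eq_one.mp h)
  obtain ⟨r, hr, hrdvd⟩ := Nat.exists_prime_and_dvd hcard
  haveI : Fact r.Prime := ⟨hr⟩
  obtain ⟨p, hcharp⟩ := CharP.exists F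
  haveI := hcharp
  haveI hpf : Fact p.Prime := ⟨CharP.char_is_prime F p⟩
  have hsurj := hσ.1
  by_cases hrp : r = p
  · subst hrp
    exact char_not_dvd r σ hσ (good_of_card r h4 h9) hrdvd
  · refine not_dvd_of_sylow_trivial σ r ?_ hrdvd
    intro R a haR haker
    have hT : ((R.mapSurjective hsurj : Sylow r (Matrix.SpecialLinearGroup (Fin 2) F)) :
        Subgroup (Matrix.SpecialLinearGroup (Fin 2) F)) = (R : Subgroup Γ).map σ :=
      Sylow.coe_mapSurjective hsurj R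
    by_cases hr2 : r = 2
    · -- quaternion Sylow 2-subgroup
      have hodd : Odd (Fintype.card F) := by
        obtain ⟨n, hp, hn⟩ := FiniteField.card F p
        rw [hn]
        apply Odd.pow
        rcases hp.eq_two_or_odd' with h | h
        · exact absurd (hr2.trans h.symm) hrp
        · exact h
      subst hr2
      obtain ⟨k, hk, ⟨e₀⟩⟩ := Cfsg.Agent.S0261.result hodd (R.mapSurjective hsurj)
      obtain ⟨τ, hτ, hτker⟩ := sylow_stem σ hσ 2 R
        ((MulEquiv.subgroupCongr hT.symm).trans e₀)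
      have hbot := ker_eq_bot_of_quaternion (2 ^ k) τ hτ
      have hmem : (⟨a, haR⟩ : (R : Subgroup Γ)) ∈ τ.ker := (hτker _).mpr haker
      rw [hbot, Subgroup.mem_bot] at hmem
      exact congrArg Subtype.val hmem
    · have hcyc : IsCyclic ((R : Subgroup Γ).map σ) := by
        rw [← hT]
        exact Cfsg.Agent.S0262.result p r hr2 hrp (R.mapSurjective hsurj)
      obtain ⟨τ, hτ, hτker⟩ := sylow_stem σ hσ r R (MulEquiv.refl _)
      have hbot := ker_eq_bot_of_cyclic τ hτ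
      have hmem : (⟨a, haR⟩ : (R : Subgroup Γ)) ∈ τ.ker := (hτker _).mpr haker
      rw [hbot, Subgroup.mem_bot] at hmem
      exact congrArg Subtype.val hmem

end Cfsg.Agent.S2117
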