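import Cfsg.Statements.S2034
import Mathlib
import Cfsg.Agent.S2117
import Cfsg.Agent.Lib.Helper12.SchurMore
import Cfsg.Agent.Lib.Helper21.StemExt
import Cfsg.Agent.Lib.Helper28.OutM11
import Cfsg.Agent.Lib.Helper28.M9Struct
import Cfsg.Agent.Lib.Helper28.ElemModel

set_option autoImplicit false
set_option linter.deprecated false
set_option linter.style.haveILetI false
open Cfsg

namespace Cfsg.Agent.S2034

open Cfsg.Agent.Lib.Helper21 Cfsg.Agent.Lib.Helper28
open Cfsg.Agent.S2117 (comm_congr comm_conj comm_mul_left' comm_mul_right' sylow_stem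
  not_dvd_of_sylow_trivial ker_eq_bot_of_cyclic)
open scoped commutatorElement

/-! ### general group lemmas -/

theorem isPGroup_zpowers {G : Type*} [Group G] (p k : ℕ) (x : G) (hx : x ^ p ^ k = 1) :
    IsPGroup p (Subgroup.zpowers x) := by
  rintro ⟨g, hg⟩
  obtain ⟨m, rfl⟩ := Subgroup.mem_zpowers_iff.mp hg
  refine ⟨k, Subtype.ext ?_⟩
  rw [Subgroup.coe_pow, Subgroup.coe_one]
  show (x ^ m) ^ p ^ k = 1
  rw [← zpow_natCast, ← zpow_mul, mul_comm, zpow_mul, zpow_natCast, hx, one_zpow]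

theorem mem_normalizer_zpowers {G : Type*} [Group G] {a b : G}
    (h1 : b * a * b⁻¹ ∈ Subgroup.zpowers a) (h2 : b⁻¹ * a * b ∈ Subgroup.zpowers a) :
    b ∈ Subgroup.normalizer (Subgroup.zpowers a : Set G) := by
  rw [Subgroup.mem_normalizer_iff]
  intro h
  constructor
  · intro hh
    obtain ⟨m, rfl⟩ := Subgroup.mem_zpowers_iff.mp hh
    rw [← conj_zpow]
    exact Subgroup.zpow_mem _ h1 m
  · intro hh
    obtain ⟨m, hm⟩ := Subgroup.mem_zpowers_iff.mp hh
    have e : h = (b⁻¹ * a * b) ^ m := by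
      have e1 : b⁻¹ * a * b = b⁻¹ * a * b⁻¹⁻¹ := by rw [inv_inv]
      rw [e1, conj_zpow, hm]
      group
    rw [e]
    exact Subgroup.zpow_mem _ h2 m

/-! ### stem extensions of a semidihedral group of order 16 -/

theorem ker_eq_bot_of_sd16 {Γ : Type*} {Q : Type*} [Group Γ] [Finite Γ] [Group Q]
    (hQ : Nat.card Q = 16) (a b : Q) (ha8 : a ^ 8 = 1) (ha4 : a ^ 4 ≠ 1) (hb : b ^ 2 = 1)
    (hab : b * a * b⁻¹ = a ^ 3) (σ : Γ →* Q) (hσ : IsStemExtension σ) : σ.ker = ⊥ := by
  haveI : Finite Q := Nat.finite_of_card_ne_zero (by rw [hQ]; norm_num)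
  have hoa : orderOf a = 8 := by
    have h := orderOf_eq_prime_pow (x := a) (p := 2) (n := 2)
      (by rw [show (2 : ℕ) ^ 2 = 4 by norm_num]; exact ha4)
      (by rw [show (2 : ℕ) ^ (2 + 1) = 8 by norm_num]; exact ha8)
    rw [h]; norm_num
  set R : Subgroup Q := Subgroup.zpowers a with hR
  have hRcard : Nat.card R = 8 := by rw [hR, Nat.card_zpowers, hoa]
  have hRidx : R.index = 2 := by
    have := R.card_mul_index
    rw [hRcard, hQ] at this
    omega
  haveI hRn : R.Normal := Subgroup.normal_of_index_eq_two hRidx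
  have hRcyc : IsCyclic R := by rw [hR]; infer_instance
  have hconj : ∀ k : ℕ, b * a ^ k * b⁻¹ = (a ^ 3) ^ k := by
    intro k
    rw [← hab, conj_pow]
  set s : Q := a * b with hs
  have hs2 : s ^ 2 = a ^ 4 := by
    rw [hs, pow_two]
    calc a * b * (a * b) = a * (b * a * b⁻¹) * (b * b) := by group
      _ = a * a ^ 3 * (b * b) := by rw [hab]
      _ = a ^ 4 := by rw [← pow_two, hb, mul_one]; exact (pow_succ' a 3).symm
  have ha2 : a ^ 2 ≠ 1 := by
    intro h
    apply ha4
    rw [show 4 = 2 * 2 by norm_num, pow_mul, h, one_pow]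
  have hbR : b ∉ R := by
    intro hbR
    obtain ⟨k, hk⟩ := Subgroup.mem_zpowers_iff.mp hbR
    have hcomm : b * a = a * b := by rw [← hk]; exact (Commute.zpow_self a k).eq
    apply ha2
    have h3 : a ^ 3 = a := by rw [← hab, hcomm, mul_inv_cancel_right]
    have h4 : a ^ 2 * a = 1 * a := by rw [← pow_succ, one_mul]; exact h3
    exact mul_right_cancel h4
  have hsR : s ∉ R := by
    intro h
    apply hbR
    have e : b = a⁻¹ * s := by rw [hs]; group
    rw [e]
    exact R.mul_mem (R.inv_mem (Subgroup.mem_zpowers a)) h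
  have hgen : R ⊔ Subgroup.zpowers s = ⊤ := by
    set H := R ⊔ Subgroup.zpowers s with hH
    have hRH : R ≤ H := le_sup_left
    have hsH : s ∈ H := (le_sup_right : Subgroup.zpowers s ≤ H) (Subgroup.mem_zpowers s)
    have h8 : 8 ∣ Nat.card H := by rw [← hRcard]; exact Subgroup.card_dvd_of_le hRH
    have h16 : Nat.card H ∣ 16 := by rw [← hQ]; exact Subgroup.card_subgroup_dvd_card H
    have hne : Nat.card H ≠ 8 := by
      intro h
      have e : R = H := Subgroup.eq_of_le_of_card_ge hRH (by rw [h, hRcard])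
      exact hsR (e ▸ hsH)
    have h16' : Nat.card H = 16 := by
      obtain ⟨m, hm⟩ := h8
      have hpos : 0 < Nat.card H := Nat.card_pos
      have hle := Nat.le_of_dvd (by norm_num) h16
      have hm12 : m = 1 ∨ m = 2 := by omega
      rcases hm12 with rfl | rfl
      · exact absurd hm (by simpa using hne)
      · omega
    exact (Subgroup.card_eq_iff_eq_top H).mp (by rw [h16', hQ])
  have hC : Nat.card ↥(R ⊓ Subgroup.centralizer ({s} : Set Q)) ≤ 2 := by
    have hle : R ⊓ Subgroup.centralizer ({s} : Set Q) ≤ Subgroup.zpowers (a ^ 4) := by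
      intro g hg
      obtain ⟨hgR, hgc⟩ := Subgroup.mem_inf.mp hg
      obtain ⟨k, hk⟩ := (Submonoid.mem_powers_iff _ _).mp (mem_powers_iff_mem_zpowers.mpr hgR)
      have h1 : s * g = g * s := Subgroup.mem_centralizer_iff.mp hgc s (Set.mem_singleton s)
      have hcomm_ak : a ^ k * a = a * a ^ k := (Commute.pow_self a k).eq
      have h2 : b * a ^ k * b⁻¹ = a ^ k := by
        have e : a * (b * a ^ k) = a * (a ^ k * b) := by
          calc a * (b * a ^ k) = s * g := by rw [hs, ← hk, mul_assoc]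
            _ = g * s := h1
            _ = a ^ k * a * b := by rw [hs, ← hk, mul_assoc]
            _ = a * a ^ k * b := by rw [hcomm_ak]
            _ = a * (a ^ k * b) := by rw [mul_assoc]
        have h3 := mul_left_cancel e
        rw [h3, mul_inv_cancel_right]
      rw [hconj k, ← pow_mul] at h2
      have h4 : a ^ (2 * k) = 1 := by
        have e : a ^ k * a ^ (2 * k) = a ^ k * 1 := by
          rw [← pow_add, mul_one]
          have e3 : k + 2 * k = 3 * k := by ring
          rw [e3, h2]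
        exact mul_left_cancel e
      have h5 : 8 ∣ 2 * k := by rw [← hoa]; exact orderOf_dvd_of_pow_eq_one h4
      obtain ⟨m, hm⟩ : 4 ∣ k := by omega
      rw [Subgroup.mem_zpowers_iff]
      exact ⟨m, by rw [zpow_natCast, ← pow_mul, ← hm, hk]⟩
    have h2 : Nat.card (Subgroup.zpowers (a ^ 4)) = 2 := by
      rw [Nat.card_zpowers]
      exact orderOf_eq_prime (by rw [← pow_mul]; exact ha8) ha4
    calc _ ≤ Nat.card (Subgroup.zpowers (a ^ 4)) := Subgroup.card_le_of_le hle
      _ = 2 := h2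
  obtain ⟨t, ht⟩ := hσ.1 s
  have hcard := stem_card_centralizer σ hσ R hRcyc s hgen t ht
  have hle := ker_le_comap_inf_centralizer σ hσ R t
  rw [← hcard] at hC
  set C := R.comap σ ⊓ Subgroup.centralizer ({t} : Set Γ) with hCdef
  have ht2 : t ^ 2 ∈ C := by
    rw [hCdef, Subgroup.mem_inf]
    constructor
    · rw [Subgroup.mem_comap, map_pow, ht, hs2]
      exact Subgroup.pow_mem _ (Subgroup.mem_zpowers a) 4
    · rw [Subgroup.mem_centralizer_iff]
      intro y hy
      rw [Set.mem_singleton_iff] at hy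
      subst hy
      rw [pow_two, mul_assoc]
  have ht2k : t ^ 2 ∉ σ.ker := by
    rw [MonoidHom.mem_ker, map_pow, ht, hs2]
    exact ha4
  have hlt : σ.ker < C := lt_of_le_of_ne hle (fun h => ht2k (h ▸ ht2))
  have hcardlt : Nat.card σ.ker < Nat.card C := by
    have e1 : Nat.card σ.ker = (σ.ker : Set Γ).ncard := by rw [← Nat.card_coe_set_eq]; rfl
    have e3 : Nat.card C = (C : Set Γ).ncard := by rw [← Nat.card_coe_set_eq]; rfl
    rw [e1, e3]
    exact Set.ncard_lt_ncard (SetLike.coe_ssubset_coe.mpr hlt) (Set.toFinite _)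
  have hpos : 0 < Nat.card σ.ker := Nat.card_pos
  have h1 : Nat.card σ.ker = 1 := by omega
  exact (Subgroup.card_eq_one).mp h1

/-- a Sylow 2-subgroup contains a conjugate of any given semidihedral pair -/
theorem sd16_in_sylow {G : Type*} [Group G] [Finite G] (a₀ b₀ : G) (ha8 : a₀ ^ 8 = 1)
    (ha4 : a₀ ^ 4 ≠ 1) (hb : b₀ ^ 2 = 1) (hab : b₀ * a₀ * b₀⁻¹ = a₀ ^ 3) (T : Sylow 2 G) :
    ∃ a b : ↥(T : Subgroup G), a ^ 8 = 1 ∧ a ^ 4 ≠ 1 ∧ b ^ 2 = 1 ∧ b * a * b⁻¹ = a ^ 3 := by
  have hbinv : b₀⁻¹ = b₀ := by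
    rw [inv_eq_iff_mul_eq_one, ← pow_two]; exact hb
  have hPa : IsPGroup 2 (Subgroup.zpowers a₀) :=
    isPGroup_zpowers 2 3 a₀ (by rw [show (2 : ℕ) ^ 3 = 8 by norm_num]; exact ha8)
  have hPb : IsPGroup 2 (Subgroup.zpowers b₀) :=
    isPGroup_zpowers 2 1 b₀ (by rw [pow_one]; exact hb)
  have hnorm : Subgroup.zpowers b₀ ≤ Subgroup.normalizer (Subgroup.zpowers a₀ : Set G) := by
    rw [Subgroup.zpowers_le]
    apply mem_normalizer_zpowers
    · rw [hab]; exact Subgroup.pow_mem _ (Subgroup.mem_zpowers a₀) 3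
    · have e : b₀⁻¹ * a₀ * b₀ = a₀ ^ 3 := by
        rw [← hab]
        nth_rewrite 3 [← hbinv]
        rw [hbinv]
      rw [e]; exact Subgroup.pow_mem _ (Subgroup.mem_zpowers a₀) 3
  have hP : IsPGroup 2 ↥(Subgroup.zpowers b₀ ⊔ Subgroup.zpowers a₀) :=
    IsPGroup.to_sup_of_normal_right' hPb hPa hnorm
  obtain ⟨Q, hQ⟩ := hP.exists_le_sylow
  obtain ⟨g, hg⟩ := MulAction.exists_smul_eq G Q T
  have hmem : ∀ w ∈ (Q : Subgroup G), MulAut.conj g w ∈ (T : Subgroup G) := by
    intro w hw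
    rw [← hg, Sylow.coe_subgroup_smul]
    have h := Subgroup.smul_mem_pointwise_smul w (MulAut.conj g) (Q : Subgroup G) hw
    rwa [MulAut.smul_def] at h
  have haQ : a₀ ∈ (Q : Subgroup G) :=
    hQ ((le_sup_right : Subgroup.zpowers a₀ ≤ _) (Subgroup.mem_zpowers a₀))
  have hbQ : b₀ ∈ (Q : Subgroup G) :=
    hQ ((le_sup_left : Subgroup.zpowers b₀ ≤ _) (Subgroup.mem_zpowers b₀))
  refine ⟨⟨MulAut.conj g a₀, hmem a₀ haQ⟩, ⟨MulAut.conj g b₀, hmem b₀ hbQ⟩, ?_, ?_, ?_, ?_⟩
  · apply Subtype.ext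
    rw [Subgroup.coe_pow, Subgroup.coe_one]
    show (MulAut.conj g a₀) ^ 8 = 1
    rw [← map_pow, ha8, map_one]
  · intro h
    apply ha4
    have h' := congrArg Subtype.val h
    rw [Subgroup.coe_pow, Subgroup.coe_one] at h'
    have h'' : (MulAut.conj g) (a₀ ^ 4) = 1 := by rw [map_pow]; exact h'
    exact (EmbeddingLike.map_eq_one_iff (f := MulAut.conj g)).mp h''
  · apply Subtype.ext
    rw [Subgroup.coe_pow, Subgroup.coe_one]
    show (MulAut.conj g b₀) ^ 2 = 1
    rw [← map_pow, hb, map_one]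
  · apply Subtype.ext
    rw [Subgroup.coe_mul, Subgroup.coe_mul, Subgroup.coe_inv, Subgroup.coe_pow]
    show MulAut.conj g b₀ * MulAut.conj g a₀ * (MulAut.conj g b₀)⁻¹ = (MulAut.conj g a₀) ^ 3
    rw [← map_inv, ← map_mul, ← map_mul, hab, map_pow]

/-! ### lifts of a commuting pair inverted by a third element -/

theorem lifts_commute {Γ G : Type*} [Group Γ] [Group G] (σ : Γ →* G)
    (hsurj : Function.Surjective σ) (hcen : σ.ker ≤ Subgroup.center Γ) {x y n : G}
    (hx3 : x ^ 3 = 1) (hxy : x * y = y * x) (hnx : n * x * n⁻¹ = x) (hny : n * y * n⁻¹ = y⁻¹)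
    {u v : Γ} (hu : σ u = x) (hv : σ v = y) : u * v = v * u := by
  obtain ⟨m, hm⟩ := hsurj n
  have hker : ∀ u' v' : Γ, σ u' * σ v' = σ v' * σ u' → ⁅u', v'⁆ ∈ Subgroup.center Γ := by
    intro u' v' h
    apply hcen
    rw [MonoidHom.mem_ker, map_commutatorElement, commutatorElement_eq_one_iff_mul_comm]
    exact h
  have hcc : ⁅u, v⁆ ∈ Subgroup.center Γ := hker u v (by rw [hu, hv, hxy])
  have hu3 : u * (u * u) ∈ Subgroup.center Γ := by
    apply hcen
    rw [MonoidHom.mem_ker, map_mul, map_mul, hu]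
    calc x * (x * x) = x ^ 3 := by rw [pow_succ, pow_two, mul_assoc]
      _ = 1 := hx3
  have h3 : ⁅u, v⁆ * (⁅u, v⁆ * ⁅u, v⁆) = 1 := by
    have e1 : ⁅u * u, v⁆ = ⁅u, v⁆ * ⁅u, v⁆ := comm_mul_left' hcc
    have e2 : ⁅u * (u * u), v⁆ = ⁅u, v⁆ * ⁅u * u, v⁆ :=
      comm_mul_left' (by rw [e1]; exact Subgroup.mul_mem _ hcc hcc)
    rw [e1] at e2
    rw [← e2, commutatorElement_eq_one_iff_mul_comm]
    exact (Subgroup.mem_center_iff.mp hu3 v).symm
  have hinv : ⁅u, v⁻¹⁆ = ⁅u, v⁆⁻¹ := by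
    have hxy' : x * y⁻¹ = y⁻¹ * x := (Commute.inv_right (show Commute x y from hxy)).eq
    have hc' : ⁅u, v⁻¹⁆ ∈ Subgroup.center Γ := hker u v⁻¹ (by rw [map_inv, hu, hv, hxy'])
    have e : ⁅u, v * v⁻¹⁆ = ⁅u, v⁆ * ⁅u, v⁻¹⁆ := comm_mul_right' hc'
    rw [mul_inv_cancel, commutatorElement_one_right] at e
    exact eq_inv_of_mul_eq_one_right e.symm
  have hconj : ⁅m * u * m⁻¹, m * v * m⁻¹⁆ = ⁅u, v⁆ := comm_conj hcc
  have hcongr : ⁅m * u * m⁻¹, m * v * m⁻¹⁆ = ⁅u, v⁻¹⁆ := by
    apply comm_congr σ hcen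
    · rw [map_mul, map_mul, map_inv, hm, hu, hnx]
    · rw [map_mul, map_mul, map_inv, map_inv, hm, hv, hny]
  have h2 : ⁅u, v⁆ * ⁅u, v⁆ = 1 := by
    have e : ⁅u, v⁆ = ⁅u, v⁆⁻¹ := by rw [← hinv, ← hcongr, hconj]
    calc ⁅u, v⁆ * ⁅u, v⁆ = ⁅u, v⁆ * ⁅u, v⁆⁻¹ := by rw [← e]
      _ = 1 := mul_inv_cancel _
  have h1 : ⁅u, v⁆ = 1 := by
    rw [h2, mul_one] at h3
    exact h3
  exact commutatorElement_eq_one_iff_mul_comm.mp h1

/-- transfer: if the preimage of a subgroup of index prime to `p` is abelian, `p` does not divide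
the order of the kernel of a stem extension -/
theorem not_dvd_of_abelian_comap {Γ G : Type*} [Group Γ] [Finite Γ] [Group G] (σ : Γ →* G)
    (hσ : IsStemExtension σ) (p : ℕ) [Fact p.Prime] (P : Subgroup G) (hidx : ¬ p ∣ P.index)
    (hab : ∀ u v : Γ, σ u ∈ P → σ v ∈ P → u * v = v * u) : ¬ p ∣ Nat.card σ.ker := by
  intro hdvd
  obtain ⟨hsurj, hcen, hcomm⟩ := hσ
  obtain ⟨z, hz⟩ := exists_prime_orderOf_dvd_card' p hdvd
  have hzo : orderOf (z : Γ) = p := by rw [Subgroup.orderOf_coe]; exact hz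
  set V : Subgroup Γ := P.comap σ with hV
  have hVcomm : ∀ a b : V, a * b = b * a := by
    intro a b
    apply Subtype.ext
    simp only [Subgroup.coe_mul]
    exact hab a b a.2 b.2
  have hbot : commutator V = ⊥ := by
    rw [commutator_def, Subgroup.commutator_eq_bot_iff_le_centralizer]
    intro a _
    rw [Subgroup.mem_centralizer_iff]
    intro b _
    exact hVcomm b a
  obtain ⟨h, hmem⟩ := Cfsg.Agent.Lib.Helper12.Schur.pow_index_mem_commutator V
    (hcen z.2) (hcomm z.2)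
  rw [hbot, Subgroup.mem_bot] at hmem
  have h1 : (z : Γ) ^ V.index = 1 := by
    have := congrArg Subtype.val hmem
    simpa using this
  have hd : p ∣ V.index := by
    have h3 := orderOf_dvd_of_pow_eq_one h1
    rwa [hzo] at h3
  have hidx' : V.index = P.index := Subgroup.index_comap_of_surjective _ hsurj
  rw [hidx'] at hd
  exact hidx hd

/-! ### explicit elements of `M11` -/

/-- image lists of elements of the stabilizer of the dodecad of squares and of its point 0 -/
def ListM11 (l : List ℕ) : Prop :=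
  ListM24 l ∧ (∀ a : Fin 24, sqMask.testBit a.val = true →
    sqMask.testBit (tabOfList l a).val = true) ∧ l.getD 0 0 = 0

instance (l : List ℕ) : Decidable (ListM11 l) := by unfold ListM11; infer_instance

theorem ListM11.mem {l : List ℕ} (h : ListM11 l) : permOfList l ∈ Spor.M11 := by
  rw [mem_sporM11]
  refine ⟨h.1.mem, smul_sq_of_tab (t := tabOfList l) ?_ h.2.1, ?_⟩
  · intro a
    rw [← ptN_val a, permOfList_ptN h.1.1 a.2]
    rfl
  · have h0 := permOfList_ptN h.1.1 (show 0 < 24 by norm_num)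
    rw [h.2.2] at h0
    have e : ptN 0 = (some 0 : GolayPt) := by decide
    rwa [e] at h0

def la : List ℕ :=
  [0, 18, 12, 8, 9, 22, 2, 14, 3, 1, 7, 23, 4, 6, 15, 21, 16, 19, 13, 10, 17, 20, 11, 5]

def lb : List ℕ :=
  [0, 2, 1, 8, 4, 5, 12, 20, 3, 18, 14, 11, 6, 13, 10, 15, 16, 21, 9, 19, 7, 17, 23, 22]

def lx : List ℕ :=
  [0, 6, 1, 8, 13, 11, 2, 23, 12, 4, 10, 14, 3, 9, 5, 22, 16, 17, 18, 7, 15, 21, 20, 19]

def ly : List ℕ :=
  [0, 9, 13, 1, 8, 11, 4, 7, 6, 3, 17, 14, 2, 12, 5, 20, 16, 21, 18, 19, 22, 10, 15, 23]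

def ln : List ℕ :=
  [0, 13, 4, 12, 1, 22, 9, 19, 3, 2, 21, 20, 8, 6, 15, 5, 18, 17, 16, 23, 14, 10, 11, 7]

set_option maxRecDepth 100000 in
set_option maxHeartbeats 4000000 in
theorem la_mem : ListM11 la := by decide +kernel

set_option maxRecDepth 100000 in
set_option maxHeartbeats 4000000 in
theorem lb_mem : ListM11 lb := by decide +kernel

set_option maxRecDepth 100000 in
set_option maxHeartbeats 4000000 in
theorem lx_mem : ListM11 lx := by decide +kernel

set_option maxRecDepth 100000 in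
set_option maxHeartbeats 4000000 in
theorem ly_mem : ListM11 ly := by decide +kernel

set_option maxRecDepth 100000 in
set_option maxHeartbeats 4000000 in
theorem ln_mem : ListM11 ln := by decide +kernel

set_option maxRecDepth 100000 in
theorem rel_a8 : powL la 8 = idList := by decide +kernel

set_option maxRecDepth 100000 in
theorem rel_a4 : powL la 4 ≠ idList := by decide +kernel

set_option maxRecDepth 100000 in
theorem rel_b2 : compL lb lb = idList := by decide +kernel

set_option maxRecDepth 100000 in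
theorem rel_ba : compL lb la = compL (powL la 3) lb := by decide +kernel

set_option maxRecDepth 100000 in
theorem rel_x3 : powL lx 3 = idList := by decide +kernel

set_option maxRecDepth 100000 in
theorem rel_y3 : powL ly 3 = idList := by decide +kernel

set_option maxRecDepth 100000 in
theorem rel_xy : compL lx ly = compL ly lx := by decide +kernel

set_option maxRecDepth 100000 in
theorem rel_nx : compL ln lx = compL lx ln := by decide +kernel

set_option maxRecDepth 100000 in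
theorem rel_ny : compL ly (compL ln ly) = ln := by decide +kernel

set_option maxRecDepth 100000 in
theorem rel_ne : lx ≠ idList ∧ ly ≠ idList ∧ ly ≠ lx ∧ ly ≠ compL lx lx := by decide +kernel

noncomputable def ea : ↥Spor.M11 := ⟨permOfList la, la_mem.mem⟩
noncomputable def eb : ↥Spor.M11 := ⟨permOfList lb, lb_mem.mem⟩
noncomputable def ex : ↥Spor.M11 := ⟨permOfList lx, lx_mem.mem⟩
noncomputable def ey : ↥Spor.M11 := ⟨permOfList ly, ly_mem.mem⟩
noncomputable def en : ↥Spor.M11 := ⟨permOfList ln, ln_mem.mem⟩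

theorem ea_pow8 : ea ^ 8 = 1 := by
  apply Subtype.ext
  rw [Subgroup.coe_pow, Subgroup.coe_one]
  show permOfList la ^ 8 = 1
  rw [← (powL_spec la_mem.1.1 8).2, rel_a8, permOfList_idList]

theorem ea_pow4 : ea ^ 4 ≠ 1 := by
  intro h
  have h' := congrArg Subtype.val h
  rw [Subgroup.coe_pow, Subgroup.coe_one] at h'
  have h2 : permOfList la ^ 4 = 1 := h'
  rw [← (powL_spec la_mem.1.1 4).2, ← permOfList_idList] at h2
  exact rel_a4 (permOfList_injective (powL_spec la_mem.1.1 4).1 goodPerm_idList h2)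

theorem eb_sq : eb ^ 2 = 1 := by
  apply Subtype.ext
  rw [pow_two, Subgroup.coe_mul, Subgroup.coe_one]
  show permOfList lb * permOfList lb = 1
  rw [permOfList_compL lb_mem.1.1 lb_mem.1.1, rel_b2, permOfList_idList]

theorem eb_conj : eb * ea * eb⁻¹ = ea ^ 3 := by
  rw [mul_inv_eq_iff_eq_mul]
  apply Subtype.ext
  rw [Subgroup.coe_mul, Subgroup.coe_mul, Subgroup.coe_pow]
  show permOfList lb * permOfList la = permOfList la ^ 3 * permOfList lb
  rw [← (powL_spec la_mem.1.1 3).2, permOfList_compL lb_mem.1.1 la_mem.1.1,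
    permOfList_compL (powL_spec la_mem.1.1 3).1 lb_mem.1.1, rel_ba]

theorem ex_pow3 : ex ^ 3 = 1 := by
  apply Subtype.ext
  rw [Subgroup.coe_pow, Subgroup.coe_one]
  show permOfList lx ^ 3 = 1
  rw [← (powL_spec lx_mem.1.1 3).2, rel_x3, permOfList_idList]

theorem ey_pow3 : ey ^ 3 = 1 := by
  apply Subtype.ext
  rw [Subgroup.coe_pow, Subgroup.coe_one]
  show permOfList ly ^ 3 = 1
  rw [← (powL_spec ly_mem.1.1 3).2, rel_y3, permOfList_idList]

theorem ex_ey_comm : ex * ey = ey * ex := by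
  apply Subtype.ext
  rw [Subgroup.coe_mul, Subgroup.coe_mul]
  show permOfList lx * permOfList ly = permOfList ly * permOfList lx
  rw [permOfList_compL lx_mem.1.1 ly_mem.1.1, permOfList_compL ly_mem.1.1 lx_mem.1.1, rel_xy]

theorem en_ex : en * ex * en⁻¹ = ex := by
  rw [mul_inv_eq_iff_eq_mul]
  apply Subtype.ext
  rw [Subgroup.coe_mul, Subgroup.coe_mul]
  show permOfList ln * permOfList lx = permOfList lx * permOfList ln
  rw [permOfList_compL ln_mem.1.1 lx_mem.1.1, permOfList_compL lx_mem.1.1 ln_mem.1.1, rel_nx]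

theorem en_ey : en * ey * en⁻¹ = ey⁻¹ := by
  have h : ey * en * ey = en := by
    apply Subtype.ext
    rw [Subgroup.coe_mul, Subgroup.coe_mul]
    show permOfList ly * permOfList ln * permOfList ly = permOfList ln
    rw [mul_assoc, permOfList_compL ln_mem.1.1 ly_mem.1.1,
      permOfList_compL ly_mem.1.1 (goodPerm_compL ln_mem.1.1 ly_mem.1.1), rel_ny]
  calc en * ey * en⁻¹ = ey⁻¹ * (ey * en * ey) * en⁻¹ := by group
    _ = ey⁻¹ * en * en⁻¹ := by rw [h]
    _ = ey⁻¹ := by group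

theorem val_ne_of_list_ne {l₁ l₂ : List ℕ} (h₁ : GoodPerm l₁) (h₂ : GoodPerm l₂) (h : l₁ ≠ l₂) :
    permOfList l₁ ≠ permOfList l₂ := fun he => h (permOfList_injective h₁ h₂ he)

theorem ex_ne_one : ex ≠ 1 := by
  intro h
  have h' := congrArg Subtype.val h
  rw [Subgroup.coe_one] at h'
  have h2 : permOfList lx = permOfList idList := by rw [permOfList_idList]; exact h'
  exact val_ne_of_list_ne lx_mem.1.1 goodPerm_idList rel_ne.1 h2

theorem ey_not_mem : ey ∉ Subgroup.zpowers ex := by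
  intro h
  obtain ⟨k, hk⟩ := Subgroup.mem_zpowers_iff.mp h
  rw [zpow_eq_zpow_emod' k ex_pow3] at hk
  have h0 : 0 ≤ k % ((3 : ℕ) : ℤ) := Int.emod_nonneg _ (by norm_num)
  have h3 : k % ((3 : ℕ) : ℤ) < 3 := Int.emod_lt_of_pos _ (by norm_num)
  obtain ⟨m, hm⟩ : ∃ m : ℕ, k % ((3 : ℕ) : ℤ) = m :=
    ⟨(k % ((3 : ℕ) : ℤ)).toNat, (Int.toNat_of_nonneg h0).symm⟩
  rw [hm, zpow_natCast] at hk
  have hm3 : m < 3 := by omega
  have hk' := congrArg Subtype.val hk
  rw [Subgroup.coe_pow] at hk'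
  have hk2 : permOfList lx ^ m = permOfList ly := hk'
  interval_cases m
  · rw [pow_zero, ← permOfList_idList] at hk2
    exact val_ne_of_list_ne ly_mem.1.1 goodPerm_idList rel_ne.2.1 hk2.symm
  · rw [pow_one] at hk2
    exact val_ne_of_list_ne ly_mem.1.1 lx_mem.1.1 rel_ne.2.2.1 hk2.symm
  · rw [pow_two, permOfList_compL lx_mem.1.1 lx_mem.1.1] at hk2
    exact val_ne_of_list_ne ly_mem.1.1 (goodPerm_compL lx_mem.1.1 lx_mem.1.1) rel_ne.2.2.2
      hk2.symm

/-! ### orders of Sylow subgroups -/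

theorem card_sylow_two (T : Sylow 2 ↥Spor.M11) : Nat.card (T : Subgroup ↥Spor.M11) = 16 := by
  rw [T.card_eq_multiplicity, card_sporM11]
  have h4 : 4 ≤ (7920 : ℕ).factorization 2 :=
    (Nat.prime_two.pow_dvd_iff_le_factorization (by norm_num)).mp (by norm_num)
  have h5 : ¬ 5 ≤ (7920 : ℕ).factorization 2 := fun h =>
    absurd ((Nat.prime_two.pow_dvd_iff_le_factorization (by norm_num)).mpr h) (by norm_num)
  have h : (7920 : ℕ).factorization 2 = 4 := by omega
  rw [h]; norm_num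

theorem factorization_le_one {r : ℕ} (hr : r.Prime) (h2 : r ≠ 2) (h3 : r ≠ 3) :
    (7920 : ℕ).factorization r ≤ 1 := by
  by_contra h
  have h2' : 2 ≤ (7920 : ℕ).factorization r := by omega
  have hd : r ^ 2 ∣ 7920 := (hr.pow_dvd_iff_le_factorization (by norm_num)).mpr h2'
  have hc2 : Nat.Coprime r 2 := (Nat.coprime_primes hr Nat.prime_two).mpr h2
  have hc3 : Nat.Coprime r 3 := (Nat.coprime_primes hr Nat.prime_three).mpr h3
  have hc : Nat.Coprime (r ^ 2) (2 ^ 4 * 3 ^ 2) :=
    Nat.Coprime.mul_right (Nat.Coprime.pow _ _ hc2) (Nat.Coprime.pow _ _ hc3)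
  have hd' : r ^ 2 ∣ 55 := by
    have e : (7920 : ℕ) = (2 ^ 4 * 3 ^ 2) * 55 := by norm_num
    rw [e] at hd
    exact hc.dvd_of_dvd_mul_left hd
  have hle : r ^ 2 ≤ 55 := Nat.le_of_dvd (by norm_num) hd'
  have hr7 : r ≤ 7 := by nlinarith
  have hr2 := hr.two_le
  interval_cases r
  all_goals first | omega | (norm_num at hr) | (norm_num at hd')

theorem three_index :
    ¬ 3 ∣ (Subgroup.closure ({ex, ey} : Set ↥Spor.M11)).index := by
  set P := Subgroup.closure ({ex, ey} : Set ↥Spor.M11) with hP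
  have hPeq : P = Subgroup.zpowers ey ⊔ Subgroup.zpowers ex := by
    rw [hP, Subgroup.zpowers_eq_closure, Subgroup.zpowers_eq_closure, ← Subgroup.closure_union]
    congr 1
    ext w
    simp [or_comm]
  have hpg : IsPGroup 3 P := by
    rw [hPeq]
    apply IsPGroup.to_sup_of_normal_right'
      (isPGroup_zpowers 3 1 ey (by rw [pow_one]; exact ey_pow3))
      (isPGroup_zpowers 3 1 ex (by rw [pow_one]; exact ex_pow3))
    rw [Subgroup.zpowers_le]
    apply mem_normalizer_zpowers
    · have e : ey * ex * ey⁻¹ = ex := by rw [← ex_ey_comm, mul_inv_cancel_right]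
      rw [e]; exact Subgroup.mem_zpowers ex
    · have e : ey⁻¹ * ex * ey = ex := by rw [mul_assoc, ex_ey_comm, inv_mul_cancel_left]
      rw [e]; exact Subgroup.mem_zpowers ex
  obtain ⟨k, hk⟩ := hpg.exists_card_eq
  have hx : Subgroup.zpowers ex ≤ P := by
    rw [hP, Subgroup.zpowers_le]; exact Subgroup.subset_closure (by simp)
  have hy : ey ∈ P := Subgroup.subset_closure (by simp)
  have hlt : 3 < Nat.card P := by
    have h3 : Nat.card (Subgroup.zpowers ex) = 3 := by
      rw [Nat.card_zpowers]; exact orderOf_eq_prime ex_pow3 ex_ne_one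
    by_contra hle
    have e : Subgroup.zpowers ex = P := Subgroup.eq_of_le_of_card_ge hx (by rw [h3]; omega)
    exact ey_not_mem (e ▸ hy)
  have hk2 : 2 ≤ k := by
    by_contra h
    have h01 : k = 0 ∨ k = 1 := by omega
    rcases h01 with rfl | rfl
    · rw [pow_zero] at hk; omega
    · rw [pow_one] at hk; omega
  intro hdvd
  have hmul := P.card_mul_index
  rw [hk, card_sporM11] at hmul
  obtain ⟨m, hm⟩ := hdvd
  have h27 : 27 ∣ 7920 := by
    rw [← hmul, hm]
    obtain ⟨j, rfl⟩ := Nat.exists_eq_add_of_le hk2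
    exact ⟨3 ^ j * m, by ring⟩
  omega

/-! ### the three cases -/

theorem three_case {Γ : Type} [Group Γ] [Finite Γ] (σ : Γ →* ↥Spor.M11)
    (hσ : IsStemExtension σ) : ¬ 3 ∣ Nat.card σ.ker := by
  apply not_dvd_of_abelian_comap σ hσ 3 (Subgroup.closure ({ex, ey} : Set ↥Spor.M11)) three_index
  intro u v hu hv
  obtain ⟨hsurj, hcen, -⟩ := hσ
  obtain ⟨xt, hxt⟩ := hsurj ex
  obtain ⟨yt, hyt⟩ := hsurj ey
  have hxy : xt * yt = yt * xt :=
    lifts_commute σ hsurj hcen ex_pow3 ex_ey_comm en_ex en_ey hxt hyt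
  let S : Set Γ := ({xt, yt} : Set Γ) ∪ (σ.ker : Set Γ)
  have hScomm : ∀ p ∈ S, ∀ q ∈ S, p * q = q * p := by
    intro p hp q hq
    rcases hp with hp | hp
    · rcases hq with hq | hq
      · rcases hp with rfl | rfl <;> rcases hq with rfl | rfl
        · rfl
        · exact hxy
        · exact hxy.symm
        · rfl
      · exact Subgroup.mem_center_iff.mp (hcen hq) p
    · exact (Subgroup.mem_center_iff.mp (hcen hp) q).symm
  have hcl := Subgroup.isMulCommutative_closure hScomm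
  have hmemcl : ∀ w : Γ, σ w ∈ Subgroup.closure ({ex, ey} : Set ↥Spor.M11) →
      w ∈ Subgroup.closure S := by
    intro w hw
    have hmap : Subgroup.closure ({ex, ey} : Set ↥Spor.M11) =
        (Subgroup.closure ({xt, yt} : Set Γ)).map σ := by
      rw [MonoidHom.map_closure, Set.image_pair, hxt, hyt]
    rw [hmap] at hw
    obtain ⟨w', hw', hww⟩ := Subgroup.mem_map.mp hw
    have h1 : w' ∈ Subgroup.closure S := Subgroup.closure_mono Set.subset_union_left hw'
    have h2 : w'⁻¹ * w ∈ Subgroup.closure S := by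
      apply Subgroup.subset_closure
      right
      show w'⁻¹ * w ∈ σ.ker
      rw [MonoidHom.mem_ker, map_mul, map_inv, hww, inv_mul_cancel]
    have e : w = w' * (w'⁻¹ * w) := by group
    rw [e]; exact Subgroup.mul_mem _ h1 h2
  have h := hcl.is_comm.comm (⟨u, hmemcl u hu⟩ : Subgroup.closure S) ⟨v, hmemcl v hv⟩
  exact congrArg Subtype.val h

theorem two_case {Γ : Type} [Group Γ] [Finite Γ] (σ : Γ →* ↥Spor.M11) (hσ : IsStemExtension σ)
    (R : Sylow 2 Γ) (z : Γ) (hzR : z ∈ (R : Subgroup Γ)) (hzk : z ∈ σ.ker) : z = 1 := by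
  have hsurj := hσ.1
  have hT : ((R.mapSurjective hsurj : Sylow 2 ↥Spor.M11) : Subgroup ↥Spor.M11) =
      (R : Subgroup Γ).map σ := Sylow.coe_mapSurjective hsurj R
  have hTcard := card_sylow_two (R.mapSurjective hsurj)
  obtain ⟨a, b, ha8, ha4, hb, hab⟩ :=
    sd16_in_sylow ea eb ea_pow8 ea_pow4 eb_sq eb_conj (R.mapSurjective hsurj)
  obtain ⟨τ, hτ, hτker⟩ := sylow_stem σ hσ 2 R (MulEquiv.subgroupCongr hT.symm)
  have hbot := ker_eq_bot_of_sd16 hTcard a b ha8 ha4 hb hab τ hτ
  have hmem : (⟨z, hzR⟩ : (R : Subgroup Γ)) ∈ τ.ker := (hτker _).mpr hzk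
  rw [hbot, Subgroup.mem_bot] at hmem
  exact congrArg Subtype.val hmem

theorem other_case {Γ : Type} [Group Γ] [Finite Γ] (σ : Γ →* ↥Spor.M11) (hσ : IsStemExtension σ)
    (r : ℕ) [Fact r.Prime] (h2 : r ≠ 2) (h3 : r ≠ 3)
    (R : Sylow r Γ) (z : Γ) (hzR : z ∈ (R : Subgroup Γ)) (hzk : z ∈ σ.ker) : z = 1 := by
  have hr : r.Prime := Fact.out
  have hsurj := hσ.1
  have hT : ((R.mapSurjective hsurj : Sylow r ↥Spor.M11) : Subgroup ↥Spor.M11) =
      (R : Subgroup Γ).map σ := Sylow.coe_mapSurjective hsurj R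
  have hTcard := (R.mapSurjective hsurj).card_eq_multiplicity
  rw [card_sporM11] at hTcard
  have hf := factorization_le_one hr h2 h3
  have hcyc : IsCyclic ((R : Subgroup Γ).map σ) := by
    rw [← hT]
    have h01 : (7920 : ℕ).factorization r = 0 ∨ (7920 : ℕ).factorization r = 1 := by omega
    rcases h01 with h0 | h1
    · rw [h0, pow_zero] at hTcard
      haveI : Subsingleton ↥((R.mapSurjective hsurj : Sylow r ↥Spor.M11) : Subgroup ↥Spor.M11) :=
        (Nat.card_eq_one_iff_unique.mp hTcard).1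
      exact isCyclic_of_subsingleton
    · rw [h1, pow_one] at hTcard
      exact isCyclic_of_prime_card hTcard
  obtain ⟨τ, hτ, hτker⟩ := sylow_stem σ hσ r R (MulEquiv.refl _)
  have hbot := ker_eq_bot_of_cyclic τ hτ
  have hmem : (⟨z, hzR⟩ : (R : Subgroup Γ)) ∈ τ.ker := (hτker _).mpr hzk
  rw [hbot, Subgroup.mem_bot] at hmem
  exact congrArg Subtype.val hmem

/-- The Schur multiplier of the Mathieu group M₁₁ (the stabiliser of a dodecad and one of its points in the automorphism group of the length-24 binary code) is trivial; here the Schur multiplier is described through stem extensions, as in the definitions: surjective homomorphisms onto the group from a finite group, whose kernel is central in that finite group and contained in that finite group's commutator subgroup. -/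
theorem result : Cfsg.HasCyclicSchurMultiplier ↥Cfsg.Spor.M11 1 := by
  classical
  apply hasCyclicSchurMultiplier_one_of
  intro Γ _ _ σ hσ
  by_contra hne
  have hcard : Nat.card σ.ker ≠ 1 := fun h => hne (Subgroup.card_eq_one.mp h)
  obtain ⟨r, hr, hrdvd⟩ := Nat.exists_prime_and_dvd hcard
  haveI : Fact r.Prime := ⟨hr⟩
  by_cases h3 : r = 3
  · subst h3
    exact three_case σ hσ hrdvd
  · refine not_dvd_of_sylow_trivial σ r ?_ hrdvd
    intro R a haR haker
    by_cases h2 : r = 2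
    · subst h2
      exact two_case σ hσ R a haR haker
    · exact other_case σ hσ r h2 h3 R a haR haker

end Cfsg.Agent.S2034
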