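-- Statement S0749
import Cfsg.Statements.S0749
import Mathlib

set_option autoImplicit false
open Cfsg

namespace Cfsg.Agent.S0749

open Module LinearMap.BilinForm Function

universe uF uV

section
variable {F : Type uF} {V : Type uV} [Field F] [AddCommGroup V] [Module F V] [FiniteDimensional F V]

/-- One extension step when the image of `f` contains its own orthogonal. -/
theorem step_aux (B : LinearMap.BilinForm F V) (hB : B.Nondegenerate) (hA : B.IsAlt)
    {E : Type*} [AddCommGroup E] [Module F E]
    (f f' : E →ₗ[F] V) (hf' : Injective f')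
    (hiso : ∀ a b, B (f a) (f b) = B (f' a) (f' b))
    (hsub : B.orthogonal (LinearMap.range f) ≤ LinearMap.range f)
    (hne : LinearMap.range f ≠ ⊤) :
    ∃ x y, x ∉ LinearMap.range f ∧ y ∉ LinearMap.range f' ∧ ∀ a, B x (f a) = B y (f' a) := by
  have hx : ∃ x, x ∉ LinearMap.range f := by
    by_contra h
    push Not at h
    exact hne (eq_top_iff.mpr fun v _ => h v)
  obtain ⟨x, hx⟩ := hx
  obtain ⟨ψ, hψ⟩ := LinearMap.dualMap_surjective_of_injective hf' ((B x).comp f)
  have hψ' : ∀ a, ψ (f' a) = B x (f a) := fun a => by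
    have := congrArg (fun l => l a) hψ
    simpa using this
  refine ⟨x, (B.toDual hB).symm ψ, hx, ?_, ?_⟩
  · rintro ⟨a', ha'⟩
    apply hx
    have h1 : x - f a' ∈ B.orthogonal (LinearMap.range f) := by
      rw [mem_orthogonal_iff]
      rintro _ ⟨a, rfl⟩
      rw [hA.eq_iff, map_sub, LinearMap.sub_apply, sub_eq_zero, hiso, ha',
        apply_toDual_symm_apply, hψ']
    have h2 := hsub h1
    have h3 : x = (x - f a') + f a' := by abel
    rw [h3]
    exact (LinearMap.range f).add_mem h2 ⟨a', rfl⟩
  · intro a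
    rw [apply_toDual_symm_apply, hψ']

/-- One extension step. -/
theorem step (B : LinearMap.BilinForm F V) (hB : B.Nondegenerate) (hA : B.IsAlt)
    {E : Type*} [AddCommGroup E] [Module F E] [FiniteDimensional F E]
    (f f' : E →ₗ[F] V) (hf : Injective f) (hf' : Injective f')
    (hiso : ∀ a b, B (f a) (f b) = B (f' a) (f' b))
    (hne : finrank F E < finrank F V) :
    ∃ x y, x ∉ LinearMap.range f ∧ y ∉ LinearMap.range f' ∧ ∀ a, B x (f a) = B y (f' a) := by
  have hr : ∀ g : E →ₗ[F] V, Injective g → LinearMap.range g ≠ ⊤ := by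
    intro g hg h
    have h1 := LinearMap.finrank_range_of_inj hg
    rw [h, finrank_top] at h1
    omega
  by_cases h1 : B.orthogonal (LinearMap.range f) ≤ LinearMap.range f
  · exact step_aux B hB hA f f' hf' hiso h1 (hr f hf)
  by_cases h2 : B.orthogonal (LinearMap.range f') ≤ LinearMap.range f'
  · obtain ⟨y, x, hy, hx, h⟩ := step_aux B hB hA f' f hf (fun a b => (hiso a b).symm) h2 (hr f' hf')
    exact ⟨x, y, hx, hy, fun a => (h a).symm⟩
  obtain ⟨x, hx1, hx2⟩ := SetLike.not_le_iff_exists.mp h1
  obtain ⟨y, hy1, hy2⟩ := SetLike.not_le_iff_exists.mp h2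
  refine ⟨x, y, hx2, hy2, ?_⟩
  intro a
  rw [mem_orthogonal_iff] at hx1 hy1
  rw [hA.eq_iff.mp (hx1 _ ⟨a, rfl⟩), hA.eq_iff.mp (hy1 _ ⟨a, rfl⟩)]

/-- Witt's lemma for alternating forms, for embeddings of an abstract space. -/
theorem witt_alt (B : LinearMap.BilinForm F V) (hB : B.Nondegenerate) (hA : B.IsAlt) :
    ∀ (k : ℕ) (E : Type (max uF uV)) [AddCommGroup E] [Module F E] [FiniteDimensional F E]
      (f f' : E →ₗ[F] V), Injective f → Injective f' →
      (∀ a b, B (f a) (f b) = B (f' a) (f' b)) → finrank F E + k = finrank F V →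
      ∃ g : V ≃ₗ[F] V, (∀ u v, B (g u) (g v) = B u v) ∧ ∀ a, g (f a) = f' a := by
  intro k
  induction k with
  | zero =>
    intro E _ _ _ f f' hf hf' hiso hdim
    let e := f.linearEquivOfInjective hf (by omega)
    let e' := f'.linearEquivOfInjective hf' (by omega)
    refine ⟨e.symm.trans e', ?_, ?_⟩
    · intro u v
      obtain ⟨a, rfl⟩ := e.surjective u
      obtain ⟨b, rfl⟩ := e.surjective v
      simp only [LinearEquiv.trans_apply, LinearEquiv.symm_apply_apply]
      exact (hiso a b).symm
    · intro a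
      have : f a = e a := rfl
      rw [this]
      simp only [LinearEquiv.trans_apply, LinearEquiv.symm_apply_apply]
      rfl
  | succ k ih =>
    intro E _ _ _ f f' hf hf' hiso hdim
    obtain ⟨x, y, hx, hy, hxy⟩ := step B hB hA f f' hf hf' hiso (by omega)
    let f₁ : E × F →ₗ[F] V := f.coprod (LinearMap.toSpanSingleton F V x)
    let f₁' : E × F →ₗ[F] V := f'.coprod (LinearMap.toSpanSingleton F V y)
    have hinj : ∀ (g : E →ₗ[F] V) (z : V), Injective g → z ∉ LinearMap.range g →
        Injective (g.coprod (LinearMap.toSpanSingleton F V z)) := by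
      intro g z hg hz
      rw [injective_iff_map_eq_zero]
      rintro ⟨a, c⟩ hac
      simp only [LinearMap.coprod_apply, LinearMap.toSpanSingleton_apply] at hac
      have hc : c = 0 := by
        by_contra hc
        apply hz
        refine ⟨-(c⁻¹ • a), ?_⟩
        have h1 : c • z = -g a := by
          rw [eq_neg_iff_add_eq_zero, add_comm]; exact hac
        calc g (-(c⁻¹ • a)) = c⁻¹ • (-g a) := by rw [map_neg, map_smul, smul_neg]
          _ = c⁻¹ • (c • z) := by rw [h1]
          _ = z := by rw [smul_smul, inv_mul_cancel₀ hc, one_smul]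
      rw [hc, zero_smul, add_zero] at hac
      have ha : a = 0 := hg (by rw [hac, map_zero])
      rw [ha, hc]
      rfl
    obtain ⟨g, hg1, hg2⟩ := ih (E × F) f₁ f₁' (hinj f x hf hx) (hinj f' y hf' hy) (by
      rintro ⟨a, c⟩ ⟨b, d⟩
      simp only [f₁, f₁', LinearMap.coprod_apply, LinearMap.toSpanSingleton_apply, map_add,
        map_smul, LinearMap.add_apply, LinearMap.smul_apply, smul_eq_mul, hiso a b, hA x, hA y,
        ← hxy b]
      rw [← hA.neg_eq x (f a), ← hA.neg_eq y (f' a), hxy a]) (by
      rw [Module.finrank_prod, Module.finrank_self]; omega)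
    refine ⟨g, hg1, ?_⟩
    intro a
    have := hg2 (a, 0)
    simpa [f₁, f₁'] using this

/-- The statement with explicit universes. -/
theorem result' (B : LinearMap.BilinForm F V) (hB : B.Nondegenerate) (hA : B.IsAlt)
    (X Y : Submodule F V) (φ : X ≃ₗ[F] Y)
    (hφ : ∀ x x' : X, B (φ x : V) (φ x' : V) = B (x : V) (x' : V)) :
    ∃ g : V ≃ₗ[F] V, (∀ u v : V, B (g u) (g v) = B u v) ∧ ∀ x : X, g (x : V) = (φ x : V) := by
  let u : ULift.{uF} X ≃ₗ[F] X := ULift.moduleEquiv
  let f : ULift.{uF} X →ₗ[F] V := X.subtype.comp u.toLinearMap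
  let f' : ULift.{uF} X →ₗ[F] V := (Y.subtype.comp φ.toLinearMap).comp u.toLinearMap
  have hf : Injective f := X.subtype_injective.comp u.injective
  have hf' : Injective f' := (Y.subtype_injective.comp φ.injective).comp u.injective
  have hdim : finrank F (ULift.{uF} X) ≤ finrank F V := by
    rw [u.finrank_eq]; exact Submodule.finrank_le X
  obtain ⟨g, hg1, hg2⟩ := witt_alt B hB hA (finrank F V - finrank F (ULift.{uF} X))
    (ULift.{uF} X) f f' hf hf' (fun a b => (hφ (u a) (u b)).symm) (by omega)
  refine ⟨g, hg1, ?_⟩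
  intro x
  have := hg2 (u.symm x)
  simpa [f, f'] using this

end

/-- Witt's Lemma for alternating forms. If B is a non-degenerate alternating bilinear form on a finite-dimensional vector space V (over any field) and φ is a linear equivalence between subspaces X and Y of V preserving B, then φ extends to a B-preserving linear automorphism of V. -/
theorem result {F V : Type*} [Field F] [AddCommGroup V] [Module F V] [FiniteDimensional F V] (B : LinearMap.BilinForm F V) (hB : B.Nondegenerate) (hA : B.IsAlt) (X Y : Submodule F V) (φ : X ≃ₗ[F] Y) (hφ : ∀ x x' : X, B (φ x : V) (φ x' : V) = B (x : V) (x' : V)) : ∃ g : V ≃ₗ[F] V, (∀ u v : V, B (g u) (g v) = B u v) ∧ ∀ x : X, g (x : V) = (φ x : V) :=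
  result' B hB hA X Y φ hφ

end Cfsg.Agent.S0749
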