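-- Statement S0750
import Cfsg.Statements.S0750
import Mathlib
import Cfsg.Agent.Lib.Helper6.WittCount

set_option autoImplicit false
open Cfsg

namespace Cfsg.Agent.S0750

open Module Function QuadraticMap Cfsg.Agent.Lib.Helper6

universe uF uV

section
variable {F : Type uF} {V : Type uV} [Field F] [Finite F] [AddCommGroup V] [Module F V]
  [FiniteDimensional F V]

/-- existence of a non-trivial additive character with values in a field of characteristic 0 -/
theorem exists_char : ∃ (K : Type) (_ : Field K) (_ : CharZero K) (ψ : AddChar F K), ψ ≠ 1 := by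
  have h : ringChar ℂ ≠ ringChar F := by
    rw [ringChar.eq_zero]
    exact (CharP.ringChar_ne_zero_of_finite F).symm
  let P := AddChar.FiniteField.primitiveChar F ℂ h
  refine ⟨CyclotomicField P.n ℂ, inferInstance, inferInstance, P.char, ?_⟩
  have := P.prim (one_ne_zero)
  rwa [AddChar.mulShift_one] at this

/-- One extension step. -/
theorem step (Q : QuadraticForm F V) (hQ : (polarBilin Q).Nondegenerate)
    {E : Type*} [AddCommGroup E] [Module F E] [FiniteDimensional F E]
    (f f' : E →ₗ[F] V) (hf : Injective f) (hf' : Injective f')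
    (hiso : ∀ a, Q (f a) = Q (f' a)) (hne : finrank F E < finrank F V) :
    ∃ x y, x ∉ LinearMap.range f ∧ y ∉ LinearMap.range f' ∧
      (∀ a, polar Q x (f a) = polar Q y (f' a)) ∧ Q x = Q y := by
  classical
  haveI : Fintype F := Fintype.ofFinite F
  haveI : Finite V := Module.finite_of_finite F
  haveI : Fintype V := Fintype.ofFinite V
  haveI : Finite E := Module.finite_of_finite F
  haveI : Fintype E := Fintype.ofFinite E
  obtain ⟨K, _, _, ψ, hψ⟩ := exists_char (F := F)
  have hx : ∃ x, x ∉ LinearMap.range f := by
    by_contra h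
    push Not at h
    have h1 := LinearMap.finrank_range_of_inj hf
    have h2 : LinearMap.range f = ⊤ := eq_top_iff.mpr fun v _ => h v
    rw [h2, finrank_top] at h1
    omega
  obtain ⟨x, hx⟩ := hx
  let lam : E →ₗ[F] F := (polarBilin Q x).comp f
  have hlam : ∀ a, lam a = polar Q x (f a) := fun a => rfl
  have hpol : ∀ a b, polar Q (f a) (f b) = polar Q (f' a) (f' b) := by
    intro a b
    unfold polar
    rw [← map_add, ← map_add, hiso, hiso, hiso]
  -- the types realised inside the images
  let S : Finset E := Finset.univ.filter fun a => (∀ b, polar Q (f a) (f b) = lam b) ∧ Q (f a) = Q x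
  let A : Finset V := Finset.univ.filter fun z => (∀ b, polar Q z (f b) = lam b) ∧ Q z = Q x
  let A' : Finset V := Finset.univ.filter fun z => (∀ b, polar Q z (f' b) = lam b) ∧ Q z = Q x
  have hcount : A.card = A'.card := by
    have := witt_count ψ hψ Q hQ f f' hf hf' hiso lam (Q x)
    rw [Nat.card_eq_fintype_card, Nat.card_eq_fintype_card, Fintype.card_subtype,
      Fintype.card_subtype] at this
    exact this
  have hSA : S.image f ⊆ A := by
    intro z hz
    obtain ⟨a, ha, rfl⟩ := Finset.mem_image.mp hz
    have := (Finset.mem_filter.mp ha).2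
    exact Finset.mem_filter.mpr ⟨Finset.mem_univ _, this⟩
  have hSA' : S.image f' ⊆ A' := by
    intro z hz
    obtain ⟨a, ha, rfl⟩ := Finset.mem_image.mp hz
    have := (Finset.mem_filter.mp ha).2
    refine Finset.mem_filter.mpr ⟨Finset.mem_univ _, ?_, ?_⟩
    · intro b
      rw [← hpol]; exact this.1 b
    · rw [← hiso]; exact this.2
  have hxA : x ∈ A := Finset.mem_filter.mpr ⟨Finset.mem_univ _, fun b => rfl, rfl⟩
  have hxS : x ∉ S.image f := by
    intro h
    obtain ⟨a, _, rfl⟩ := Finset.mem_image.mp h
    exact hx ⟨a, rfl⟩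
  have hlt : (S.image f).card < A.card :=
    Finset.card_lt_card (Finset.ssubset_iff_of_subset hSA |>.mpr ⟨x, hxA, hxS⟩)
  rw [Finset.card_image_of_injective _ hf] at hlt
  have hlt' : (S.image f').card < A'.card := by
    rw [Finset.card_image_of_injective _ hf', ← hcount]; exact hlt
  obtain ⟨y, hyA, hyS⟩ := Finset.exists_mem_notMem_of_card_lt_card hlt'
  have hy := (Finset.mem_filter.mp hyA).2
  refine ⟨x, y, hx, ?_, ?_, hy.2.symm⟩
  · rintro ⟨a, rfl⟩
    apply hyS
    refine Finset.mem_image.mpr ⟨a, Finset.mem_filter.mpr ⟨Finset.mem_univ _, ?_, ?_⟩, rfl⟩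
    · intro b
      rw [hpol]; exact hy.1 b
    · rw [hiso]; exact hy.2
  · intro a
    rw [hy.1 a, hlam]

/-- Witt's lemma for quadratic forms over finite fields, for embeddings of an abstract space. -/
theorem witt_quad (Q : QuadraticForm F V) (hQ : (polarBilin Q).Nondegenerate) :
    ∀ (k : ℕ) (E : Type (max uF uV)) [AddCommGroup E] [Module F E] [FiniteDimensional F E]
      (f f' : E →ₗ[F] V), Injective f → Injective f' →
      (∀ a, Q (f a) = Q (f' a)) → finrank F E + k = finrank F V →
      ∃ g : V ≃ₗ[F] V, (∀ v, Q (g v) = Q v) ∧ ∀ a, g (f a) = f' a := by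
  intro k
  induction k with
  | zero =>
    intro E _ _ _ f f' hf hf' hiso hdim
    let e := f.linearEquivOfInjective hf (by omega)
    let e' := f'.linearEquivOfInjective hf' (by omega)
    refine ⟨e.symm.trans e', ?_, ?_⟩
    · intro v
      obtain ⟨a, rfl⟩ := e.surjective v
      simp only [LinearEquiv.trans_apply, LinearEquiv.symm_apply_apply]
      exact (hiso a).symm
    · intro a
      have : f a = e a := rfl
      rw [this]
      simp only [LinearEquiv.trans_apply, LinearEquiv.symm_apply_apply]
      rfl
  | succ k ih =>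
    intro E _ _ _ f f' hf hf' hiso hdim
    obtain ⟨x, y, hx, hy, hxy, hQxy⟩ := step Q hQ f f' hf hf' hiso (by omega)
    let f₁ : E × F →ₗ[F] V := f.coprod (LinearMap.toSpanSingleton F V x)
    let f₁' : E × F →ₗ[F] V := f'.coprod (LinearMap.toSpanSingleton F V y)
    have hinj : ∀ (g : E →ₗ[F] V) (z : V), Injective g → z ∉ LinearMap.range g →
        Injective (g.coprod (LinearMap.toSpanSingleton F V z)) := by
      intro g z hg hz
      rw [injective_iff_map_eq_zero]
      rintro ⟨a, c⟩ hac
      simp only [LinearMap.coprod_apply, LinearMap.toSpanSingleton_apply] at hac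
      have hc : c = 0 := by
        by_contra hc
        apply hz
        refine ⟨-(c⁻¹ • a), ?_⟩
        have h1 : c • z = -g a := by
          rw [eq_neg_iff_add_eq_zero, add_comm]; exact hac
        calc g (-(c⁻¹ • a)) = c⁻¹ • (-g a) := by rw [map_neg, map_smul, smul_neg]
          _ = c⁻¹ • (c • z) := by rw [h1]
          _ = z := by rw [smul_smul, inv_mul_cancel₀ hc, one_smul]
      rw [hc, zero_smul, add_zero] at hac
      have ha : a = 0 := hg (by rw [hac, map_zero])
      rw [ha, hc]
      rfl
    obtain ⟨g, hg1, hg2⟩ := ih (E × F) f₁ f₁' (hinj f x hf hx) (hinj f' y hf' hy) (by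
      rintro ⟨a, c⟩
      simp only [f₁, f₁', LinearMap.coprod_apply, LinearMap.toSpanSingleton_apply]
      rw [QuadraticMap.map_add Q, QuadraticMap.map_add Q, QuadraticMap.map_smul,
        QuadraticMap.map_smul, polar_smul_right, polar_smul_right, polar_comm Q (f a),
        polar_comm Q (f' a), hxy a, hQxy, hiso a]) (by
      rw [Module.finrank_prod, Module.finrank_self]; omega)
    refine ⟨g, hg1, ?_⟩
    intro a
    have := hg2 (a, 0)
    simpa [f₁, f₁'] using this

/-- The statement with explicit universes. -/
theorem result' (Q : QuadraticForm F V) (hQ : (polarBilin Q).Nondegenerate)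
    (X Y : Submodule F V) (φ : X ≃ₗ[F] Y) (hφ : ∀ x : X, Q (φ x : V) = Q (x : V)) :
    ∃ g : V ≃ₗ[F] V, (∀ v : V, Q (g v) = Q v) ∧ ∀ x : X, g (x : V) = (φ x : V) := by
  let u : ULift.{uF} X ≃ₗ[F] X := ULift.moduleEquiv
  let f : ULift.{uF} X →ₗ[F] V := X.subtype.comp u.toLinearMap
  let f' : ULift.{uF} X →ₗ[F] V := (Y.subtype.comp φ.toLinearMap).comp u.toLinearMap
  have hf : Injective f := X.subtype_injective.comp u.injective
  have hf' : Injective f' := (Y.subtype_injective.comp φ.injective).comp u.injective
  have hdim : finrank F (ULift.{uF} X) ≤ finrank F V := by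
    rw [u.finrank_eq]; exact Submodule.finrank_le X
  obtain ⟨g, hg1, hg2⟩ := witt_quad Q hQ (finrank F V - finrank F (ULift.{uF} X))
    (ULift.{uF} X) f f' hf hf' (fun a => (hφ (u a)).symm) (by omega)
  refine ⟨g, hg1, ?_⟩
  intro x
  have := hg2 (u.symm x)
  simpa [f, f'] using this

end

/-- Witt's Lemma for quadratic forms over a finite field, in any characteristic: if Q is a quadratic form on a finite-dimensional space V whose polar bilinear form is non-degenerate, then every linear equivalence between subspaces X, Y of V that preserves Q extends to a Q-preserving linear automorphism of V. (In odd characteristic this is the symmetric-bilinear case; in characteristic two it is the statement for non-degenerate quadratic forms.) -/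
theorem result {F V : Type*} [Field F] [Finite F] [AddCommGroup V] [Module F V] [FiniteDimensional F V] (Q : QuadraticForm F V) (hQ : (QuadraticMap.polarBilin Q).Nondegenerate) (X Y : Submodule F V) (φ : X ≃ₗ[F] Y) (hφ : ∀ x : X, Q (φ x : V) = Q (x : V)) : ∃ g : V ≃ₗ[F] V, (∀ v : V, Q (g v) = Q v) ∧ ∀ x : X, g (x : V) = (φ x : V) :=
  result' Q hQ X Y φ hφ

end Cfsg.Agent.S0750
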