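import Cfsg.Statements.S2169
import Cfsg.Agent.Lib.Helper13.OrthCharTwoMat
import Cfsg.Agent.Lib.Helper13.DicksonPlus
import Cfsg.Agent.Lib.Helper15.QuadF2a

set_option autoImplicit false
open Cfsg

namespace Cfsg.Agent.S2169

open Cfsg.Agent.Lib.Helper13 Cfsg.Agent.Lib.Helper15 Matrix QuadraticMap

/-- the Dickson invariant of a reflection is one -/
theorem dk_refl {F : Type*} [Field F] [CharP F 2] {m : ℕ}
    (M : Matrix (Fin m ⊕ Fin m) (Fin m ⊕ Fin m) F) (a : Fin m ⊕ Fin m → F)
    (ha : Cfsg.quadFormPlus m F a = 1)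
    (hM : ∀ x, M *ᵥ x = x + polar (QPlus F m) a x • a) : dk M = 1 := by
  have hentry : ∀ i j, M i j = (Pi.single j (1 : F) : Fin m ⊕ Fin m → F) i +
      polar (QPlus F m) a (Pi.single j 1) * a i := by
    intro i j
    have := congrFun (hM (Pi.single j 1)) i
    rw [Matrix.mulVec_single_one] at this
    simpa using this
  have hB : ∀ i j, M.toBlocks₁₂ i j = a (Sum.inl j) * a (Sum.inl i) := by
    intro i j
    change M (Sum.inl i) (Sum.inr j) = _
    rw [hentry, polar_QPlus]
    simp [Pi.single_apply]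
  have hC : ∀ i j, M.toBlocks₂₁ i j = a (Sum.inr j) * a (Sum.inr i) := by
    intro i j
    change M (Sum.inr i) (Sum.inl j) = _
    rw [hentry, polar_QPlus]
    simp [Pi.single_apply]
  unfold dk
  simp only [Matrix.trace, Matrix.diag, Matrix.mul_apply, Matrix.transpose_apply, hB, hC]
  have : ∀ i j : Fin m, a (Sum.inl j) * a (Sum.inl i) * (a (Sum.inr j) * a (Sum.inr i)) =
      (a (Sum.inl i) * a (Sum.inr i)) * (a (Sum.inl j) * a (Sum.inr j)) := by
    intro i j; ring
  simp only [this]
  rw [← Finset.sum_mul_sum]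
  unfold Cfsg.quadFormPlus at ha
  rw [ha, mul_one]

/-- For the hyperbolic quadratic form Σ x_i y_i in dimension 2m over a finite field F of characteristic two, m ≥ 4 (plus type): an element of order 2 of the full isometry group O lies in the commutator subgroup Ω of O exactly when t − 1 has even rank. -/
theorem result {F : Type*} [Field F] [Fintype F] [CharP F 2] {m : ℕ} (hm : 4 ≤ m) (t : ↥(Cfsg.isometryGroup F (Cfsg.quadFormPlus m F))) (ht : orderOf t = 2) :
    t ∈ Cfsg.Omega F (Cfsg.quadFormPlus m F) ↔ Even ((((t : ↥(Cfsg.isometryGroup F (Cfsg.quadFormPlus m F))) : GL (Fin m ⊕ Fin m) F) : Matrix (Fin m ⊕ Fin m) (Fin m ⊕ Fin m) F) - 1).rank := by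
  have hcard : 5 ≤ Fintype.card (Fin m ⊕ Fin m) := by
    rw [Fintype.card_sum, Fintype.card_fin]; omega
  exact isometryGroup_involution_mem_Omega_iff (Cfsg.quadFormPlus m F) (QPlus F m)
    (QPlus_apply F m) (nondegenerate_QPlus F m) hcard dicksonHom
    (fun g a ha hg => by
      rw [dicksonHom_apply, dk_refl _ a ha hg]) t ht

end Cfsg.Agent.S2169
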