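-- Statement S0786
import Cfsg.Statements.S0786
import Mathlib
import Cfsg.Agent.Lib.Helper6.CDTwo

set_option autoImplicit false
open Cfsg

namespace Cfsg.Agent.S0786

open Cfsg.Agent.Lib.Helper6 Cfsg.Agent.S0792

/-- generation by reflections, in terms of `Rset` -/
theorem closure_Rset_eq_top {F : Type*} [Field F] [Fintype F] {n : ℕ}
    (Q : QuadraticForm F (Fin n → F)) (hQ : (QuadraticMap.polarBilin Q).Nondegenerate)
    (h : Fintype.card F ≠ 2 ∨ n ≠ 4) : Subgroup.closure (Rset Q) = ⊤ := by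
  by_cases h2 : (2 : F) = 0
  · exact cd_two h2 hQ h
  · rw [eq_top_iff]
    intro g _
    exact cd_aux Q h2 hQ n 0 Fin.elim0 (by omega) (fun i => i.elim0) (fun i => i.elim0) g
      (fun i => i.elim0)

/-- Generation by reflections: if F is finite, Q is a quadratic form on F^n with non-degenerate polar form, and (|F|, n) ≠ (2, 4), then the isometry group of Q is generated by the reflections r_v, Q(v) ≠ 0. -/
theorem result {F : Type*} [Field F] [Fintype F] {n : ℕ} (Q : QuadraticForm F (Fin n → F)) (hQ : (QuadraticMap.polarBilin Q).Nondegenerate) (h : Fintype.card F ≠ 2 ∨ n ≠ 4) : Subgroup.closure {g : ↥(Cfsg.isometryGroup F ⇑Q) | ∃ v : Fin n → F, Q v ≠ 0 ∧ ((g : Matrix.GeneralLinearGroup (Fin n) F) : Matrix (Fin n) (Fin n) F) = Cfsg.reflectionMatrix ⇑Q v} = ⊤ := by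
  exact closure_Rset_eq_top Q hQ h

end Cfsg.Agent.S0786
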