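-- Statement S0760
import Cfsg.Statements.S0760
import Mathlib

set_option autoImplicit false
open Cfsg

namespace Cfsg.Agent.S0760

open Module QuadraticMap LinearMap.BilinForm

theorem le_of_max {F V : Type*} [Field F] [AddCommGroup V] [Module F V] [FiniteDimensional F V]
    (Q : QuadraticForm F V) (hQ : (QuadraticMap.polarBilin Q).Nondegenerate)
    (W₁ W₂ : Submodule F V) (h₁ : ∀ w ∈ W₁, Q w = 0) (h₂ : ∀ w ∈ W₂, Q w = 0)
    (hmax₁ : ∀ W : Submodule F V, W₁ ≤ W → (∀ w ∈ W, Q w = 0) → W = W₁) :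
    finrank F W₂ ≤ finrank F W₁ := by
  set P : LinearMap.BilinForm F V := QuadraticMap.polarBilin Q with hP
  have hPapp : ∀ x y, P x y = polar Q x y := fun x y => rfl
  have hts : ∀ W : Submodule F V, (∀ w ∈ W, Q w = 0) → W ≤ P.orthogonal W := by
    intro W hW x hx
    rw [mem_orthogonal_iff]
    intro n hn
    rw [hPapp, polar, hW _ (W.add_mem hn hx), hW n hn, hW x hx]
    simp
  have hU : W₂ ⊓ P.orthogonal W₁ ≤ W₁ := by
    rintro x ⟨hx2, hx1⟩
    have hx1' : ∀ w ∈ W₁, polar Q w x = 0 := fun w hw => hx1 w hw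
    have hWeq := hmax₁ (W₁ ⊔ Submodule.span F {x}) le_sup_left (by
      intro y hy
      obtain ⟨w, hw, z, hz, rfl⟩ := Submodule.mem_sup.mp hy
      obtain ⟨c, rfl⟩ := Submodule.mem_span_singleton.mp hz
      rw [QuadraticMap.map_add Q, h₁ w hw, QuadraticMap.map_smul, h₂ x hx2, polar_smul_right,
        hx1' w hw]
      simp)
    rw [← hWeq]
    exact Submodule.mem_sup_right (Submodule.mem_span_singleton_self x)
  set D := W₁ ⊓ W₂ with hD
  have hUD : W₂ ⊓ P.orthogonal W₁ ≤ D := le_inf hU inf_le_left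
  have hsup : P.orthogonal W₁ ⊔ W₂ ≤ P.orthogonal D := by
    apply sup_le
    · exact orthogonal_le inf_le_left
    · exact le_trans (hts W₂ h₂) (orthogonal_le inf_le_right)
  have e1 := finrank_orthogonal hQ W₁
  have e2 := finrank_orthogonal hQ D
  have e3 := Submodule.finrank_sup_add_finrank_inf_eq (P.orthogonal W₁) W₂
  have e4 := Submodule.finrank_mono hsup
  have e5 := Submodule.finrank_mono hUD
  have e6 : P.orthogonal W₁ ⊓ W₂ = W₂ ⊓ P.orthogonal W₁ := inf_comm _ _
  rw [e6] at e3
  have e7 := Submodule.finrank_le W₁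
  have e8 := Submodule.finrank_le D
  have e9 : finrank F D ≤ finrank F W₁ := Submodule.finrank_mono inf_le_left
  omega

/-- Witt index is well defined: if Q is a quadratic form on a finite-dimensional space V over a finite field with non-degenerate polar form, and W₁, W₂ are subspaces on which Q vanishes that are maximal with this property, then W₁ and W₂ have the same dimension, and twice this dimension is at most dim V. -/
theorem result {F V : Type*} [Field F] [Finite F] [AddCommGroup V] [Module F V] [FiniteDimensional F V] (Q : QuadraticForm F V) (hQ : (QuadraticMap.polarBilin Q).Nondegenerate) (W₁ W₂ : Submodule F V) (h₁ : ∀ w ∈ W₁, Q w = 0) (h₂ : ∀ w ∈ W₂, Q w = 0) (hmax₁ : ∀ W : Submodule F V, W₁ ≤ W → (∀ w ∈ W, Q w = 0) → W = W₁) (hmax₂ : ∀ W : Submodule F V, W₂ ≤ W → (∀ w ∈ W, Q w = 0) → W = W₂) : Module.finrank F W₁ = Module.finrank F W₂ ∧ 2 * Module.finrank F W₁ ≤ Module.finrank F V := by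
  refine ⟨le_antisymm (le_of_max Q hQ W₂ W₁ h₂ h₁ hmax₂) (le_of_max Q hQ W₁ W₂ h₁ h₂ hmax₁), ?_⟩
  have hts : W₁ ≤ LinearMap.BilinForm.orthogonal (QuadraticMap.polarBilin Q) W₁ := by
    intro x hx
    rw [mem_orthogonal_iff]
    intro n hn
    change polar Q n x = 0
    rw [polar, h₁ _ (W₁.add_mem hn hx), h₁ n hn, h₁ x hx]
    simp
  have e1 := finrank_orthogonal hQ W₁
  have e2 := Submodule.finrank_mono hts
  have e3 := Submodule.finrank_le W₁
  omega

end Cfsg.Agent.S0760
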