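import Cfsg.Statements.S0766
import Cfsg.Agent.Lib.Helper6.Symp

set_option autoImplicit false
open Cfsg

namespace Cfsg.Agent.S0766

open Matrix Cfsg.Agent.Lib.Helper6

variable {F : Type*} [Field F] {m : ℕ}

/-- the subgroup generated by transvections -/
abbrev T (m : ℕ) (F : Type*) [Field F] : Subgroup (Matrix.symplecticGroup (Fin m) F) :=
  Subgroup.closure {A : Matrix.symplecticGroup (Fin m) F | ∃ (w : Fin m ⊕ Fin m → F) (c : F), (A : Matrix (Fin m ⊕ Fin m) (Fin m ⊕ Fin m) F) = Cfsg.sympTransvection m w c}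

/-- moving `x` to `y` by a transvection when `f(x,y) ≠ 0`, fixing any `z` with `f(z,x) = f(z,y)` -/
theorem move (x y : Fin m ⊕ Fin m → F) (hxy : Cfsg.sympForm m F x y ≠ 0) :
    ∃ A ∈ T m F, (A : Matrix (Fin m ⊕ Fin m) (Fin m ⊕ Fin m) F).mulVec x = y ∧
      ∀ z, Cfsg.sympForm m F z x = Cfsg.sympForm m F z y →
        (A : Matrix (Fin m ⊕ Fin m) (Fin m ⊕ Fin m) F).mulVec z = z := by
  refine ⟨⟨Cfsg.sympTransvection m (x - y) (Cfsg.sympForm m F x y)⁻¹, sympTransvection_mem _ _⟩,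
    Subgroup.subset_closure ⟨x - y, _, rfl⟩, ?_, ?_⟩
  · change (Cfsg.sympTransvection m (x - y) (Cfsg.sympForm m F x y)⁻¹) *ᵥ x = y
    rw [sympTransvection_mulVec, sympForm_sub_right, sympForm_self, zero_sub, mul_neg,
      inv_mul_cancel₀ hxy]
    simp
  · intro z hz
    change (Cfsg.sympTransvection m (x - y) (Cfsg.sympForm m F x y)⁻¹) *ᵥ z = z
    rw [sympTransvection_mulVec, sympForm_sub_right, hz, sub_self, mul_zero, zero_smul, add_zero]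

theorem result {F : Type*} [Field F] (m : ℕ) (u v u' v' : Fin m ⊕ Fin m → F) (h : Cfsg.sympForm m F u v = 1) (h' : Cfsg.sympForm m F u' v' = 1) : ∃ A ∈ Subgroup.closure {A : Matrix.symplecticGroup (Fin m) F | ∃ (w : Fin m ⊕ Fin m → F) (c : F), (A : Matrix (Fin m ⊕ Fin m) (Fin m ⊕ Fin m) F) = Cfsg.sympTransvection m w c}, (A : Matrix (Fin m ⊕ Fin m) (Fin m ⊕ Fin m) F).mulVec u = u' ∧ (A : Matrix (Fin m ⊕ Fin m) (Fin m ⊕ Fin m) F).mulVec v = v' := by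
  classical
  -- Step 1: move u to u'
  have step1 : ∃ A ∈ T m F, (A : Matrix (Fin m ⊕ Fin m) (Fin m ⊕ Fin m) F).mulVec u = u' := by
    by_cases huu : u = u'
    · exact ⟨1, (T m F).one_mem, by simp [huu]⟩
    by_cases hf : Cfsg.sympForm m F u u' ≠ 0
    · obtain ⟨A, hA, hAu, _⟩ := move u u' hf
      exact ⟨A, hA, hAu⟩
    push Not at hf
    -- find w with f(u,w) ≠ 0 and f(w,u') ≠ 0
    have : ∃ w, Cfsg.sympForm m F u w ≠ 0 ∧ Cfsg.sympForm m F w u' ≠ 0 := by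
      by_cases h1 : Cfsg.sympForm m F v u' ≠ 0
      · exact ⟨v, by rw [h]; exact one_ne_zero, h1⟩
      push Not at h1
      by_cases h2 : Cfsg.sympForm m F u v' ≠ 0
      · refine ⟨v', h2, ?_⟩
        rw [sympForm_swap, h']; simp
      push Not at h2
      refine ⟨v + v', ?_, ?_⟩
      · rw [sympForm_add_right, h, h2]; simp
      · rw [sympForm_add_left, h1, sympForm_swap v' u', h']; simp
    obtain ⟨w, hw1, hw2⟩ := this
    obtain ⟨A, hA, hAu, _⟩ := move u w hw1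
    obtain ⟨B, hB, hBw, _⟩ := move w u' hw2
    refine ⟨B * A, (T m F).mul_mem hB hA, ?_⟩
    change ((B : Matrix (Fin m ⊕ Fin m) (Fin m ⊕ Fin m) F) * (A : Matrix (Fin m ⊕ Fin m) (Fin m ⊕ Fin m) F)) *ᵥ u = u'
    rw [← mulVec_mulVec]
    change (B : Matrix (Fin m ⊕ Fin m) (Fin m ⊕ Fin m) F) *ᵥ ((A : Matrix (Fin m ⊕ Fin m) (Fin m ⊕ Fin m) F).mulVec u) = u'
    rw [hAu]; exact hBw
  obtain ⟨A₁, hA₁, hA₁u⟩ := step1
  set v₁ := (A₁ : Matrix (Fin m ⊕ Fin m) (Fin m ⊕ Fin m) F).mulVec v with hv₁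
  have hu'v₁ : Cfsg.sympForm m F u' v₁ = 1 := by
    have := (mem_symplecticGroup_iff_preserves (A₁ : Matrix (Fin m ⊕ Fin m) (Fin m ⊕ Fin m) F)).mp A₁.2 u v
    rw [h] at this
    rw [← hA₁u]; exact this
  -- Step 2: fix u', move v₁ to v'
  have step2 : ∃ A ∈ T m F, (A : Matrix (Fin m ⊕ Fin m) (Fin m ⊕ Fin m) F).mulVec u' = u' ∧
      (A : Matrix (Fin m ⊕ Fin m) (Fin m ⊕ Fin m) F).mulVec v₁ = v' := by
    by_cases hvv : v₁ = v'
    · exact ⟨1, (T m F).one_mem, by simp, by simp [hvv]⟩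
    by_cases hf : Cfsg.sympForm m F v₁ v' ≠ 0
    · obtain ⟨A, hA, hAv, hAz⟩ := move v₁ v' hf
      exact ⟨A, hA, hAz u' (by rw [hu'v₁, h']), hAv⟩
    push Not at hf
    set w := u' + v₁ with hw
    have hf1 : Cfsg.sympForm m F v₁ w ≠ 0 := by
      rw [hw, sympForm_add_right, sympForm_self, add_zero, sympForm_swap, hu'v₁]; simp
    have hf2 : Cfsg.sympForm m F w v' ≠ 0 := by
      rw [hw, sympForm_add_left, h', hf]; simp
    have hu'w : Cfsg.sympForm m F u' w = 1 := by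
      rw [hw, sympForm_add_right, sympForm_self, zero_add, hu'v₁]
    obtain ⟨A, hA, hAv, hAz⟩ := move v₁ w hf1
    obtain ⟨B, hB, hBw, hBz⟩ := move w v' hf2
    have hAu' := hAz u' (by rw [hu'v₁, hu'w])
    have hBu' := hBz u' (by rw [hu'w, h'])
    refine ⟨B * A, (T m F).mul_mem hB hA, ?_, ?_⟩
    · change ((B : Matrix (Fin m ⊕ Fin m) (Fin m ⊕ Fin m) F) * (A : Matrix (Fin m ⊕ Fin m) (Fin m ⊕ Fin m) F)) *ᵥ u' = u'
      rw [← mulVec_mulVec]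
      change (B : Matrix (Fin m ⊕ Fin m) (Fin m ⊕ Fin m) F) *ᵥ ((A : Matrix (Fin m ⊕ Fin m) (Fin m ⊕ Fin m) F).mulVec u') = u'
      rw [hAu']; exact hBu'
    · change ((B : Matrix (Fin m ⊕ Fin m) (Fin m ⊕ Fin m) F) * (A : Matrix (Fin m ⊕ Fin m) (Fin m ⊕ Fin m) F)) *ᵥ v₁ = v'
      rw [← mulVec_mulVec]
      change (B : Matrix (Fin m ⊕ Fin m) (Fin m ⊕ Fin m) F) *ᵥ ((A : Matrix (Fin m ⊕ Fin m) (Fin m ⊕ Fin m) F).mulVec v₁) = v'
      rw [hAv]; exact hBw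
  obtain ⟨A₂, hA₂, hA₂u, hA₂v⟩ := step2
  refine ⟨A₂ * A₁, (T m F).mul_mem hA₂ hA₁, ?_, ?_⟩
  · change ((A₂ : Matrix (Fin m ⊕ Fin m) (Fin m ⊕ Fin m) F) * (A₁ : Matrix (Fin m ⊕ Fin m) (Fin m ⊕ Fin m) F)) *ᵥ u = u'
    rw [← mulVec_mulVec]
    change (A₂ : Matrix (Fin m ⊕ Fin m) (Fin m ⊕ Fin m) F) *ᵥ ((A₁ : Matrix (Fin m ⊕ Fin m) (Fin m ⊕ Fin m) F).mulVec u) = u'
    rw [hA₁u]; exact hA₂u
  · change ((A₂ : Matrix (Fin m ⊕ Fin m) (Fin m ⊕ Fin m) F) * (A₁ : Matrix (Fin m ⊕ Fin m) (Fin m ⊕ Fin m) F)) *ᵥ v = v'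
    rw [← mulVec_mulVec]
    exact hA₂v

end Cfsg.Agent.S0766
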