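-- Statement S0765
import Cfsg.Statements.S0765
import Mathlib
import Cfsg.Agent.S0766

set_option autoImplicit false
open Cfsg

namespace Cfsg.Agent.S0765

open Matrix Cfsg.Agent.Lib.Helper6 Cfsg.Agent.S0766

variable {F : Type*} [Field F] {m : ℕ}

local notation "Mat" => Matrix (Fin m ⊕ Fin m) (Fin m ⊕ Fin m) F

theorem mul_mulVec' (B A : Matrix.symplecticGroup (Fin m) F) (x : Fin m ⊕ Fin m → F) :
    ((B * A : Matrix.symplecticGroup (Fin m) F) : Mat) *ᵥ x = (B : Mat) *ᵥ ((A : Mat) *ᵥ x) := by
  change ((B : Mat) * (A : Mat)) *ᵥ x = _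
  rw [mulVec_mulVec]

theorem preserves (A : Matrix.symplecticGroup (Fin m) F) (x y : Fin m ⊕ Fin m → F) :
    Cfsg.sympForm m F ((A : Mat) *ᵥ x) ((A : Mat) *ᵥ y) = Cfsg.sympForm m F x y :=
  (mem_symplecticGroup_iff_preserves (A : Mat)).mp A.2 x y

/-- transitivity on hyperbolic pairs, fixing everything orthogonal to the four vectors -/
theorem trans_pairs (u v u' v' : Fin m ⊕ Fin m → F) (h : Cfsg.sympForm m F u v = 1)
    (h' : Cfsg.sympForm m F u' v' = 1) :
    ∃ A ∈ T m F, (A : Mat) *ᵥ u = u' ∧ (A : Mat) *ᵥ v = v' ∧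
      ∀ z, Cfsg.sympForm m F z u = 0 → Cfsg.sympForm m F z v = 0 → Cfsg.sympForm m F z u' = 0 →
        Cfsg.sympForm m F z v' = 0 → (A : Mat) *ᵥ z = z := by
  classical
  -- Step 1: move u to u'
  have step1 : ∃ A ∈ T m F, (A : Mat) *ᵥ u = u' ∧
      ∀ z, Cfsg.sympForm m F z u = 0 → Cfsg.sympForm m F z v = 0 → Cfsg.sympForm m F z u' = 0 →
        Cfsg.sympForm m F z v' = 0 → (A : Mat) *ᵥ z = z := by
    by_cases huu : u = u'
    · exact ⟨1, (T m F).one_mem, by simp [huu], fun z _ _ _ _ => by simp⟩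
    by_cases hf : Cfsg.sympForm m F u u' ≠ 0
    · obtain ⟨A, hA, hAu, hAz⟩ := move u u' hf
      exact ⟨A, hA, hAu, fun z h1 _ h3 _ => hAz z (by rw [h1, h3])⟩
    push Not at hf
    have : ∃ w, Cfsg.sympForm m F u w ≠ 0 ∧ Cfsg.sympForm m F w u' ≠ 0 ∧
        ∀ z, Cfsg.sympForm m F z v = 0 → Cfsg.sympForm m F z v' = 0 →
          Cfsg.sympForm m F z w = 0 := by
      by_cases h1 : Cfsg.sympForm m F v u' ≠ 0
      · exact ⟨v, by rw [h]; exact one_ne_zero, h1, fun z hz _ => hz⟩
      push Not at h1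
      by_cases h2 : Cfsg.sympForm m F u v' ≠ 0
      · refine ⟨v', h2, ?_, fun z _ hz => hz⟩
        rw [sympForm_swap, h']; simp
      push Not at h2
      refine ⟨v + v', ?_, ?_, ?_⟩
      · rw [sympForm_add_right, h, h2]; simp
      · rw [sympForm_add_left, h1, sympForm_swap v' u', h']; simp
      · intro z hz1 hz2
        rw [sympForm_add_right, hz1, hz2, add_zero]
    obtain ⟨w, hw1, hw2, hwz⟩ := this
    obtain ⟨A, hA, hAu, hAz⟩ := move u w hw1
    obtain ⟨B, hB, hBw, hBz⟩ := move w u' hw2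
    refine ⟨B * A, (T m F).mul_mem hB hA, ?_, ?_⟩
    · rw [mul_mulVec', hAu]; exact hBw
    · intro z h1 h2 h3 h4
      have hzw := hwz z h2 h4
      rw [mul_mulVec', hAz z (by rw [h1, hzw]), hBz z (by rw [hzw, h3])]
  obtain ⟨A₁, hA₁, hA₁u, hA₁z⟩ := step1
  set v₁ := (A₁ : Mat) *ᵥ v with hv₁
  have hu'v₁ : Cfsg.sympForm m F u' v₁ = 1 := by
    have := preserves A₁ u v
    rw [h] at this
    rw [← hA₁u]; exact this
  -- Step 2: fix u', move v₁ to v'
  have step2 : ∃ A ∈ T m F, (A : Mat) *ᵥ u' = u' ∧ (A : Mat) *ᵥ v₁ = v' ∧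
      ∀ z, Cfsg.sympForm m F z u' = 0 → Cfsg.sympForm m F z v₁ = 0 →
        Cfsg.sympForm m F z v' = 0 → (A : Mat) *ᵥ z = z := by
    by_cases hvv : v₁ = v'
    · exact ⟨1, (T m F).one_mem, by simp, by simp [hvv], fun z _ _ _ => by simp⟩
    by_cases hf : Cfsg.sympForm m F v₁ v' ≠ 0
    · obtain ⟨A, hA, hAv, hAz⟩ := move v₁ v' hf
      exact ⟨A, hA, hAz u' (by rw [hu'v₁, h']), hAv, fun z _ h2 h3 => hAz z (by rw [h2, h3])⟩
    push Not at hf
    set w := u' + v₁ with hw
    have hf1 : Cfsg.sympForm m F v₁ w ≠ 0 := by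
      rw [hw, sympForm_add_right, sympForm_self, add_zero, sympForm_swap, hu'v₁]; simp
    have hf2 : Cfsg.sympForm m F w v' ≠ 0 := by
      rw [hw, sympForm_add_left, h', hf]; simp
    have hu'w : Cfsg.sympForm m F u' w = 1 := by
      rw [hw, sympForm_add_right, sympForm_self, zero_add, hu'v₁]
    obtain ⟨A, hA, hAv, hAz⟩ := move v₁ w hf1
    obtain ⟨B, hB, hBw, hBz⟩ := move w v' hf2
    have hAu' := hAz u' (by rw [hu'v₁, hu'w])
    have hBu' := hBz u' (by rw [hu'w, h'])
    refine ⟨B * A, (T m F).mul_mem hB hA, ?_, ?_, ?_⟩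
    · rw [mul_mulVec', hAu']; exact hBu'
    · rw [mul_mulVec', hAv]; exact hBw
    · intro z h1 h2 h3
      have hzw : Cfsg.sympForm m F z w = 0 := by
        rw [hw, sympForm_add_right, h1, h2, add_zero]
      rw [mul_mulVec', hAz z (by rw [h2, hzw]), hBz z (by rw [hzw, h3])]
  obtain ⟨A₂, hA₂, hA₂u, hA₂v, hA₂z⟩ := step2
  refine ⟨A₂ * A₁, (T m F).mul_mem hA₂ hA₁, ?_, ?_, ?_⟩
  · rw [mul_mulVec', hA₁u]; exact hA₂u
  · rw [mul_mulVec']; exact hA₂v
  · intro z h1 h2 h3 h4
    have hz1 := hA₁z z h1 h2 h3 h4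
    have hzv₁ : Cfsg.sympForm m F z v₁ = 0 := by
      have := preserves A₁ z v
      rw [hz1, h2] at this
      exact this
    rw [mul_mulVec', hz1, hA₂z z h3 hzv₁ h4]

/-- value of the form against basis vectors -/
theorem sympForm_single_inl (x : Fin m ⊕ Fin m → F) (i : Fin m) :
    Cfsg.sympForm m F x (Pi.single (Sum.inl i) 1) = x (Sum.inr i) := by
  classical
  rw [sympForm_eq_sum]
  simp [Pi.single_apply, Finset.sum_ite_eq]

theorem sympForm_single_inr (x : Fin m ⊕ Fin m → F) (i : Fin m) :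
    Cfsg.sympForm m F x (Pi.single (Sum.inr i) 1) = -x (Sum.inl i) := by
  classical
  rw [sympForm_eq_sum]
  simp [Pi.single_apply, Finset.sum_ite_eq]

/-- the inductive claim -/
theorem claim : ∀ (j : ℕ) (g : Matrix.symplecticGroup (Fin m) F),
    (∀ i : Fin m, j ≤ (i : ℕ) → (g : Mat) *ᵥ (Pi.single (Sum.inl i) 1) = Pi.single (Sum.inl i) 1 ∧
      (g : Mat) *ᵥ (Pi.single (Sum.inr i) 1) = Pi.single (Sum.inr i) 1) → g ∈ T m F := by
  classical
  intro j
  induction j with
  | zero =>
    intro g hg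
    have : g = 1 := by
      apply Subtype.ext
      ext a b
      have hcol : (g : Mat) *ᵥ (Pi.single b 1) = Pi.single b 1 := by
        rcases b with b | b
        · exact (hg b (Nat.zero_le _)).1
        · exact (hg b (Nat.zero_le _)).2
      have := congrFun hcol a
      rw [Matrix.mulVec_single_one] at this
      change (g : Mat) a b = (1 : Mat) a b
      rw [Matrix.one_apply]
      change (g : Mat) a b = _ at this
      rw [this, Pi.single_apply]
    rw [this]
    exact (T m F).one_mem
  | succ j ih =>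
    intro g hg
    by_cases hj : j < m
    · let i₀ : Fin m := ⟨j, hj⟩
      set e₀ : Fin m ⊕ Fin m → F := Pi.single (Sum.inl i₀) 1 with he₀
      set f₀ : Fin m ⊕ Fin m → F := Pi.single (Sum.inr i₀) 1 with hf₀
      have hfe : Cfsg.sympForm m F f₀ e₀ = 1 := by
        rw [he₀, sympForm_single_inl, hf₀]; simp
      have hgfe : Cfsg.sympForm m F ((g : Mat) *ᵥ f₀) ((g : Mat) *ᵥ e₀) = 1 := by
        rw [preserves]; exact hfe
      obtain ⟨A, hA, hAu, hAv, hAz⟩ := trans_pairs _ _ f₀ e₀ hgfe hfe
      have hAg : A * g ∈ T m F := by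
        apply ih
        intro i hi
        by_cases hii : (i : ℕ) = j
        · have : i = i₀ := Fin.ext hii
          subst this
          exact ⟨by rw [mul_mulVec']; exact hAv, by rw [mul_mulVec']; exact hAu⟩
        · have hi' : j + 1 ≤ (i : ℕ) := by omega
          have hne : i ≠ i₀ := fun e => hii (congrArg Fin.val e)
          have hgi := hg i hi'
          -- both basis vectors are orthogonal to the four vectors
          have ho : ∀ z : Fin m ⊕ Fin m → F, (g : Mat) *ᵥ z = z →
              Cfsg.sympForm m F z f₀ = 0 → Cfsg.sympForm m F z e₀ = 0 → (A : Mat) *ᵥ z = z := by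
            intro z hgz hzf hze
            apply hAz z
            · have := preserves g z f₀
              rw [hgz] at this
              rw [this]; exact hzf
            · have := preserves g z e₀
              rw [hgz] at this
              rw [this]; exact hze
            · exact hzf
            · exact hze
          constructor
          · rw [mul_mulVec', hgi.1]
            apply ho _ hgi.1
            · rw [hf₀, sympForm_single_inr]
              simp [Pi.single_apply, hne.symm]
            · rw [he₀, sympForm_single_inl]; simp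
          · rw [mul_mulVec', hgi.2]
            apply ho _ hgi.2
            · rw [hf₀, sympForm_single_inr]
              simp
            · rw [he₀, sympForm_single_inl]
              simp [Pi.single_apply, hne.symm]
      have : g = A⁻¹ * (A * g) := by group
      rw [this]
      exact (T m F).mul_mem ((T m F).inv_mem hA) hAg
    · apply ih
      intro i hi
      exfalso
      have := i.2
      omega

/-- Generation of the symplectic group by symplectic transvections: the subgroup of Sp_2m(F) generated by all matrices of maps x ↦ x + c f(x, w) w is the whole group. -/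
theorem result {F : Type*} [Field F] (m : ℕ) : Subgroup.closure {A : Matrix.symplecticGroup (Fin m) F | ∃ (w : Fin m ⊕ Fin m → F) (c : F), (A : Matrix (Fin m ⊕ Fin m) (Fin m ⊕ Fin m) F) = Cfsg.sympTransvection m w c} = ⊤ := by
  rw [eq_top_iff]
  intro g _
  apply claim m g
  intro i hi
  exfalso
  have := i.2
  omega

end Cfsg.Agent.S0765
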