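-- Statement S3377.
import Cfsg.Statements.S3377

set_option autoImplicit false
open Cfsg

namespace Cfsg.Agent.S3377

section Generic

variable {Γ : Type*} [Group Γ] (a b : Γ)

/-- the generator attached to a letter -/
def gen (x : Bool) : Γ := cond x b a

/-- evaluation of a word -/
def ev (l : List Bool) : Γ := (l.map (gen a b)).prod

theorem ev_append (l1 l2 : List Bool) : ev a b (l1 ++ l2) = ev a b l1 * ev a b l2 := by
  simp [ev]

theorem ev_step (P L R Q : List Bool) (h : ev a b L = ev a b R) :
    ev a b (P ++ L ++ Q) = ev a b (P ++ R ++ Q) := by
  simp only [ev_append, h]

/-- the defining relations, in word form -/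
structure Rel : Prop where
  h3 : ev a b [false, false, false] = ev a b []
  h5 : ev a b [true, true, true, true, true] = ev a b []
  h2 : ev a b [false, true, false, true] = ev a b []

theorem rel_of (h3 : a ^ 3 = 1) (h5 : b ^ 5 = 1) (h2 : (a * b) ^ 2 = 1) : Rel a b where
  h3 := by
    have e : ev a b [false, false, false] = a ^ 3 := by
      simp [ev, gen, pow_succ, mul_assoc]
    rw [e, h3]; simp [ev]
  h5 := by
    have e : ev a b [true, true, true, true, true] = b ^ 5 := by
      simp [ev, gen, pow_succ, mul_assoc]
    rw [e, h5]; simp [ev]
  h2 := by
    have e : ev a b [false, true, false, true] = (a * b) ^ 2 := by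
      simp [ev, gen, pow_succ, mul_assoc]
    rw [e, h2]; simp [ev]

theorem tbl_of (l l' : List Bool) (x : Bool) (k : ℕ)
    (h : ev a b (l ++ [x]) = ev a b (List.replicate k true ++ l')) :
    ev a b l * gen a b x = b ^ k * ev a b l' := by
  rw [ev_append, ev_append] at h
  have h1 : ev a b [x] = gen a b x := by simp [ev]
  have h2 : ev a b (List.replicate k true) = b ^ k := by simp [ev, gen]
  rw [h1, h2] at h
  exact h

/-- coset representatives of `⟨b⟩` -/
def wl : ℕ → List Bool
  | 0 => []
  | 1 => [false]
  | 2 => [false, false]
  | 3 => [false, false, true]
  | 4 => [false, false, true, false]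
  | 5 => [false, false, true, true]
  | 6 => [false, false, true, false, false]
  | 7 => [false, false, true, true, false]
  | 8 => [false, false, true, false, false, true]
  | 9 => [false, false, true, false, false, true, true]
  | 10 => [false, false, true, false, false, true, true, false]
  | 11 => [false, false, true, false, false, true, true, false, false]
  | _ => []

theorem r_bab (R : Rel a b) : ev a b [true, false, true] = ev a b [false, false] := by
  have s0 : ev a b [true, false, true] = ev a b [false, false, false, true, false, true] := ev_step a b [] [] [false, false, false] [true, false, true] R.h3.symm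
  have s1 : ev a b [false, false, false, true, false, true] = ev a b [false, false] := ev_step a b [false, false] [false, true, false, true] [] [] R.h2
  exact s0.trans s1

theorem r_aba (R : Rel a b) : ev a b [false, true, false] = ev a b [true, true, true, true] := by
  have s0 : ev a b [false, true, false] = ev a b [false, true, false, true, true, true, true, true] := ev_step a b [false, true, false] [] [true, true, true, true, true] [] R.h5.symm
  have s1 : ev a b [false, true, false, true, true, true, true, true] = ev a b [true, true, true, true] := ev_step a b [] [false, true, false, true] [] [true, true, true, true] R.h2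
  exact s0.trans s1

theorem r_baba (R : Rel a b) : ev a b [true, false, true, false] = ev a b [] := by
  have s0 : ev a b [true, false, true, false] = ev a b [false, false, false] := ev_step a b [] [true, false, true] [false, false] [false] (r_bab a b R)
  have s1 : ev a b [false, false, false] = ev a b [] := ev_step a b [] [false, false, false] [] [] R.h3
  exact s0.trans s1

theorem r_ab (R : Rel a b) : ev a b [false, true] = ev a b [true, true, true, true, false, false] := by
  have s0 : ev a b [false, true] = ev a b [false, true, false, false, false] := ev_step a b [false, true] [] [false, false, false] [] R.h3.symm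
  have s1 : ev a b [false, true, false, false, false] = ev a b [true, true, true, true, false, false] := ev_step a b [] [false, true, false] [true, true, true, true] [false, false] (r_aba a b R)
  exact s0.trans s1

theorem r_ba (R : Rel a b) : ev a b [true, false] = ev a b [false, false, true, true, true, true] := by
  have s0 : ev a b [true, false] = ev a b [false, false, false, true, false] := ev_step a b [] [] [false, false, false] [true, false] R.h3.symm
  have s1 : ev a b [false, false, false, true, false] = ev a b [false, false, true, true, true, true] := ev_step a b [false, false] [false, true, false] [true, true, true, true] [] (r_aba a b R)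
  exact s0.trans s1

theorem t_0_a : ev a b [false] = ev a b [false] := rfl

theorem t_0_b : ev a b [true] = ev a b [true] := rfl

theorem t_1_a : ev a b [false, false] = ev a b [false, false] := rfl

theorem t_1_b (R : Rel a b) : ev a b [false, true] = ev a b [true, true, true, true, false, false] := by
  have s0 : ev a b [false, true] = ev a b [true, true, true, true, false, false] := ev_step a b [] [false, true] [true, true, true, true, false, false] [] (r_ab a b R)
  exact s0

theorem t_2_a (R : Rel a b) : ev a b [false, false, false] = ev a b [] := by
  have s0 : ev a b [false, false, false] = ev a b [] := ev_step a b [] [false, false, false] [] [] R.h3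
  exact s0

theorem t_2_b : ev a b [false, false, true] = ev a b [false, false, true] := rfl

theorem t_3_a : ev a b [false, false, true, false] = ev a b [false, false, true, false] := rfl

theorem t_3_b : ev a b [false, false, true, true] = ev a b [false, false, true, true] := rfl

theorem t_4_a : ev a b [false, false, true, false, false] = ev a b [false, false, true, false, false] := rfl

theorem t_4_b (R : Rel a b) : ev a b [false, false, true, false, true] = ev a b [false] := by
  have s0 : ev a b [false, false, true, false, true] = ev a b [false] := ev_step a b [false] [false, true, false, true] [] [] R.h2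
  exact s0

theorem t_5_a : ev a b [false, false, true, true, false] = ev a b [false, false, true, true, false] := rfl

theorem t_5_b (R : Rel a b) : ev a b [false, false, true, true, true] = ev a b [true, false, false, true, false] := by
  have s0 : ev a b [false, false, true, true, true] = ev a b [true, false, true, true, true, true] := ev_step a b [] [false, false] [true, false, true] [true, true, true] (r_bab a b R).symm
  have s1 : ev a b [true, false, true, true, true, true] = ev a b [true, false, false, true, false] := ev_step a b [true, false] [true, true, true, true] [false, true, false] [] (r_aba a b R).symm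
  exact s0.trans s1

theorem t_6_a (R : Rel a b) : ev a b [false, false, true, false, false, false] = ev a b [false, false, true] := by
  have s0 : ev a b [false, false, true, false, false, false] = ev a b [false, false, true] := ev_step a b [false, false, true] [false, false, false] [] [] R.h3
  exact s0

theorem t_6_b : ev a b [false, false, true, false, false, true] = ev a b [false, false, true, false, false, true] := rfl

theorem t_7_a (R : Rel a b) : ev a b [false, false, true, true, false, false] = ev a b [true, false, false, true, false, false, true] := by
  have s0 : ev a b [false, false, true, true, false, false] = ev a b [true, false, true, true, true, false, false] := ev_step a b [] [false, false] [true, false, true] [true, true, false, false] (r_bab a b R).symm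
  have s1 : ev a b [true, false, true, true, true, false, false] = ev a b [true, false, false, true, false, true, true, true, true, false, false] := ev_step a b [true, false] [] [false, true, false, true] [true, true, true, false, false] R.h2.symm
  have s2 : ev a b [true, false, false, true, false, true, true, true, true, false, false] = ev a b [true, false, false, true, false, false, true] := ev_step a b [true, false, false, true, false] [true, true, true, true, false, false] [false, true] [] (r_ab a b R).symm
  exact s0.trans (s1.trans s2)

theorem t_7_b (R : Rel a b) : ev a b [false, false, true, true, false, true] = ev a b [false, false, true, false, false] := by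
  have s0 : ev a b [false, false, true, true, false, true] = ev a b [false, false, true, false, false] := ev_step a b [false, false, true] [true, false, true] [false, false] [] (r_bab a b R)
  exact s0

theorem t_8_a (R : Rel a b) : ev a b [false, false, true, false, false, true, false] = ev a b [true, true, true, true, false, false, true, true] := by
  have s0 : ev a b [false, false, true, false, false, true, false] = ev a b [false, true, true, true, true, false, true, false] := ev_step a b [false] [false, true, false] [true, true, true, true] [false, true, false] (r_aba a b R)
  have s1 : ev a b [false, true, true, true, true, false, true, false] = ev a b [false, true, true, true] := ev_step a b [false, true, true, true] [true, false, true, false] [] [] (r_baba a b R)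
  have s2 : ev a b [false, true, true, true] = ev a b [true, true, true, true, false, false, true, true] := ev_step a b [] [false, true] [true, true, true, true, false, false] [true, true] (r_ab a b R)
  exact s0.trans (s1.trans s2)

theorem t_8_b : ev a b [false, false, true, false, false, true, true] = ev a b [false, false, true, false, false, true, true] := rfl

theorem t_9_a : ev a b [false, false, true, false, false, true, true, false] = ev a b [false, false, true, false, false, true, true, false] := rfl

theorem t_9_b (R : Rel a b) : ev a b [false, false, true, false, false, true, true, true] = ev a b [true, false, false, true, false, false, true, true, false] := by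
  have s0 : ev a b [false, false, true, false, false, true, true, true] = ev a b [true, false, true, true, false, false, true, true, true] := ev_step a b [] [false, false] [true, false, true] [true, false, false, true, true, true] (r_bab a b R).symm
  have s1 : ev a b [true, false, true, true, false, false, true, true, true] = ev a b [true, false, false, true, false, true, true, true, false, false, true, true, true] := ev_step a b [true, false] [] [false, true, false, true] [true, true, false, false, true, true, true] R.h2.symm
  have s2 : ev a b [true, false, false, true, false, true, true, true, false, false, true, true, true] = ev a b [true, false, false, true, false, true, true, true, true, false, true, true, true, true] := ev_step a b [true, false, false, true, false, true, true, true] [false, false] [true, false, true] [true, true, true] (r_bab a b R).symm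
  have s3 : ev a b [true, false, false, true, false, true, true, true, true, false, true, true, true, true] = ev a b [true, false, false, true, false, false, true, false, false, true, true, true, true] := ev_step a b [true, false, false, true, false] [true, true, true, true] [false, true, false] [false, true, true, true, true] (r_aba a b R).symm
  have s4 : ev a b [true, false, false, true, false, false, true, false, false, true, true, true, true] = ev a b [true, false, false, true, false, false, true, true, false] := ev_step a b [true, false, false, true, false, false, true] [false, false, true, true, true, true] [true, false] [] (r_ba a b R).symm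
  exact s0.trans (s1.trans (s2.trans (s3.trans s4)))

theorem t_10_a : ev a b [false, false, true, false, false, true, true, false, false] = ev a b [false, false, true, false, false, true, true, false, false] := rfl

theorem t_10_b (R : Rel a b) : ev a b [false, false, true, false, false, true, true, false, true] = ev a b [true, true, true, true, false, false, true, true, false] := by
  have s0 : ev a b [false, false, true, false, false, true, true, false, true] = ev a b [false, false, true, false, false, true, false, false] := ev_step a b [false, false, true, false, false, true] [true, false, true] [false, false] [] (r_bab a b R)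
  have s1 : ev a b [false, false, true, false, false, true, false, false] = ev a b [false, true, true, true, true, false, true, false, false] := ev_step a b [false] [false, true, false] [true, true, true, true] [false, true, false, false] (r_aba a b R)
  have s2 : ev a b [false, true, true, true, true, false, true, false, false] = ev a b [false, true, true, true, false] := ev_step a b [false, true, true, true] [true, false, true, false] [] [false] (r_baba a b R)
  have s3 : ev a b [false, true, true, true, false] = ev a b [true, true, true, true, false, false, true, true, false] := ev_step a b [] [false, true] [true, true, true, true, false, false] [true, true, false] (r_ab a b R)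
  exact s0.trans (s1.trans (s2.trans s3))

theorem t_11_a (R : Rel a b) : ev a b [false, false, true, false, false, true, true, false, false, false] = ev a b [false, false, true, false, false, true, true] := by
  have s0 : ev a b [false, false, true, false, false, true, true, false, false, false] = ev a b [false, false, true, false, false, true, true] := ev_step a b [false, false, true, false, false, true, true] [false, false, false] [] [] R.h3
  exact s0

theorem t_11_b (R : Rel a b) : ev a b [false, false, true, false, false, true, true, false, false, true] = ev a b [true, true, true, true, false, false, true, false, false, true, true, false, false] := by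
  have s0 : ev a b [false, false, true, false, false, true, true, false, false, true] = ev a b [false, true, true, true, true, false, true, true, false, false, true] := ev_step a b [false] [false, true, false] [true, true, true, true] [false, true, true, false, false, true] (r_aba a b R)
  have s1 : ev a b [false, true, true, true, true, false, true, true, false, false, true] = ev a b [false, true, true, true, false, false, true, false, false, true] := ev_step a b [false, true, true, true] [true, false, true] [false, false] [true, false, false, true] (r_bab a b R)
  have s2 : ev a b [false, true, true, true, false, false, true, false, false, true] = ev a b [false, true, true, true, false, true, true, true, true, false, true] := ev_step a b [false, true, true, true, false] [false, true, false] [true, true, true, true] [false, true] (r_aba a b R)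
  have s3 : ev a b [false, true, true, true, false, true, true, true, true, false, true] = ev a b [false, true, true, false, false, true, true, true, false, true] := ev_step a b [false, true, true] [true, false, true] [false, false] [true, true, true, false, true] (r_bab a b R)
  have s4 : ev a b [false, true, true, false, false, true, true, true, false, true] = ev a b [false, true, true, false, false, true, true, false, false] := ev_step a b [false, true, true, false, false, true, true] [true, false, true] [false, false] [] (r_bab a b R)
  have s5 : ev a b [false, true, true, false, false, true, true, false, false] = ev a b [true, true, true, true, false, false, true, false, false, true, true, false, false] := ev_step a b [] [false, true] [true, true, true, true, false, false] [true, false, false, true, true, false, false] (r_ab a b R)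
  exact s0.trans (s1.trans (s2.trans (s3.trans (s4.trans s5))))

theorem key (R : Rel a b) (i : ℕ) (hi : i < 12) (x : Bool) :
    ∃ k i' : ℕ, i' < 12 ∧ ev a b (wl i) * gen a b x = b ^ k * ev a b (wl i') := by
  interval_cases i <;> cases x
  · exact ⟨0, 1, by norm_num, tbl_of a b _ _ false 0 (t_0_a a b)⟩
  · exact ⟨1, 0, by norm_num, tbl_of a b _ _ true 1 (t_0_b a b)⟩
  · exact ⟨0, 2, by norm_num, tbl_of a b _ _ false 0 (t_1_a a b)⟩
  · exact ⟨4, 2, by norm_num, tbl_of a b _ _ true 4 (t_1_b a b R)⟩
  · exact ⟨0, 0, by norm_num, tbl_of a b _ _ false 0 (t_2_a a b R)⟩
  · exact ⟨0, 3, by norm_num, tbl_of a b _ _ true 0 (t_2_b a b)⟩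
  · exact ⟨0, 4, by norm_num, tbl_of a b _ _ false 0 (t_3_a a b)⟩
  · exact ⟨0, 5, by norm_num, tbl_of a b _ _ true 0 (t_3_b a b)⟩
  · exact ⟨0, 6, by norm_num, tbl_of a b _ _ false 0 (t_4_a a b)⟩
  · exact ⟨0, 1, by norm_num, tbl_of a b _ _ true 0 (t_4_b a b R)⟩
  · exact ⟨0, 7, by norm_num, tbl_of a b _ _ false 0 (t_5_a a b)⟩
  · exact ⟨1, 4, by norm_num, tbl_of a b _ _ true 1 (t_5_b a b R)⟩
  · exact ⟨0, 3, by norm_num, tbl_of a b _ _ false 0 (t_6_a a b R)⟩
  · exact ⟨0, 8, by norm_num, tbl_of a b _ _ true 0 (t_6_b a b)⟩
  · exact ⟨1, 8, by norm_num, tbl_of a b _ _ false 1 (t_7_a a b R)⟩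
  · exact ⟨0, 6, by norm_num, tbl_of a b _ _ true 0 (t_7_b a b R)⟩
  · exact ⟨4, 5, by norm_num, tbl_of a b _ _ false 4 (t_8_a a b R)⟩
  · exact ⟨0, 9, by norm_num, tbl_of a b _ _ true 0 (t_8_b a b)⟩
  · exact ⟨0, 10, by norm_num, tbl_of a b _ _ false 0 (t_9_a a b)⟩
  · exact ⟨1, 10, by norm_num, tbl_of a b _ _ true 1 (t_9_b a b R)⟩
  · exact ⟨0, 11, by norm_num, tbl_of a b _ _ false 0 (t_10_a a b)⟩
  · exact ⟨4, 7, by norm_num, tbl_of a b _ _ true 4 (t_10_b a b R)⟩
  · exact ⟨0, 9, by norm_num, tbl_of a b _ _ false 0 (t_11_a a b R)⟩
  · exact ⟨4, 11, by norm_num, tbl_of a b _ _ true 4 (t_11_b a b R)⟩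

/-- the set of elements `b ^ j * w_i` -/
def T (g : Γ) : Prop := ∃ j i : ℕ, i < 12 ∧ g = b ^ j * ev a b (wl i)

theorem T_one : T a b 1 := ⟨0, 0, by norm_num, by simp [ev, wl]⟩

theorem T_mul_gen (R : Rel a b) (g : Γ) (hg : T a b g) (x : Bool) : T a b (g * gen a b x) := by
  obtain ⟨j, i, hi, rfl⟩ := hg
  obtain ⟨k, i', hi', h⟩ := key a b R i hi x
  exact ⟨j + k, i', hi', by rw [mul_assoc, h, ← mul_assoc, ← pow_add]⟩

theorem T_mul_a (R : Rel a b) (g : Γ) (hg : T a b g) : T a b (g * a) :=
  T_mul_gen a b R g hg false

theorem T_mul_b (R : Rel a b) (g : Γ) (hg : T a b g) : T a b (g * b) :=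
  T_mul_gen a b R g hg true

end Generic

/-- the relators -/
abbrev rels : Set (FreeGroup (Fin 2)) :=
  {FreeGroup.of (0 : Fin 2) ^ 3, FreeGroup.of (1 : Fin 2) ^ 5,
        (FreeGroup.of (0 : Fin 2) * FreeGroup.of 1) ^ 2}

/-- the presented group -/
abbrev G : Type := PresentedGroup rels

/-- first generator -/
abbrev ga : G := PresentedGroup.of 0

/-- second generator -/
abbrev gb : G := PresentedGroup.of 1

theorem ga3 : ga ^ 3 = 1 := by
  have h : PresentedGroup.mk rels (FreeGroup.of 0 ^ 3) = 1 :=
    PresentedGroup.one_of_mem (Set.mem_insert _ _)
  rw [map_pow] at h
  exact h

theorem gb5 : gb ^ 5 = 1 := by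
  have h : PresentedGroup.mk rels (FreeGroup.of 1 ^ 5) = 1 :=
    PresentedGroup.one_of_mem (Set.mem_insert_of_mem _ (Set.mem_insert _ _))
  rw [map_pow] at h
  exact h

theorem gab2 : (ga * gb) ^ 2 = 1 := by
  have h : PresentedGroup.mk rels ((FreeGroup.of 0 * FreeGroup.of 1) ^ 2) = 1 :=
    PresentedGroup.one_of_mem
      (Set.mem_insert_of_mem _ (Set.mem_insert_of_mem _ (Set.mem_singleton _)))
  rw [map_pow, map_mul] at h
  exact h

theorem relG : Rel ga gb := rel_of ga gb ga3 gb5 gab2

theorem all_T (g : G) : T ga gb g := by
  have R := relG
  have hinv_a : ga⁻¹ = ga * ga := by
    have h := ga3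
    rw [pow_succ, pow_succ, pow_one] at h
    exact inv_eq_of_mul_eq_one_left h
  have hinv_b : gb⁻¹ = gb * gb * gb * gb := by
    have h := gb5
    rw [pow_succ, pow_succ, pow_succ, pow_succ, pow_one] at h
    exact inv_eq_of_mul_eq_one_left h
  suffices h : ∀ z : FreeGroup (Fin 2), ∀ t, T ga gb t → T ga gb (t * PresentedGroup.mk rels z) by
    induction g using PresentedGroup.induction_on with
    | H z => simpa using h z 1 (T_one ga gb)
  intro z
  refine FreeGroup.induction_on z ?_ ?_ ?_ ?_
  · intro t ht
    simpa using ht
  · intro i t ht
    fin_cases i
    · exact T_mul_a ga gb R t ht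
    · exact T_mul_b ga gb R t ht
  · intro i _ t ht
    fin_cases i
    · have e : t * PresentedGroup.mk rels (FreeGroup.of (0 : Fin 2))⁻¹ = t * ga * ga := by
        rw [map_inv, mul_assoc]
        exact congrArg (t * ·) hinv_a
      change T ga gb (t * PresentedGroup.mk rels (FreeGroup.of (0 : Fin 2))⁻¹)
      rw [e]
      exact T_mul_a ga gb R _ (T_mul_a ga gb R _ ht)
    · have e : t * PresentedGroup.mk rels (FreeGroup.of (1 : Fin 2))⁻¹
          = t * gb * gb * gb * gb := by
        rw [map_inv]
        have : (PresentedGroup.mk rels (FreeGroup.of (1 : Fin 2)))⁻¹ = gb * gb * gb * gb := hinv_b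
        rw [this]
        simp only [mul_assoc]
      change T ga gb (t * PresentedGroup.mk rels (FreeGroup.of (1 : Fin 2))⁻¹)
      rw [e]
      exact T_mul_b ga gb R _ (T_mul_b ga gb R _ (T_mul_b ga gb R _ (T_mul_b ga gb R _ ht)))
  · intro x y hx hy t ht
    rw [map_mul, ← mul_assoc]
    exact hy _ (hx _ ht)

theorem surj_fin : Function.Surjective
    (fun p : Fin 5 × Fin 12 => (gb ^ (p.1 : ℕ) * ev ga gb (wl (p.2 : ℕ)) : G)) := by
  intro g
  obtain ⟨j, i, hi, rfl⟩ := all_T g
  refine ⟨(⟨j % 5, Nat.mod_lt _ (by norm_num)⟩, ⟨i, hi⟩), ?_⟩
  change gb ^ (j % 5) * ev ga gb (wl i) = gb ^ j * ev ga gb (wl i)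
  rw [← pow_eq_pow_mod j gb5]

instance finiteG : Finite G := Finite.of_surjective _ surj_fin

theorem card_le : Nat.card G ≤ 60 := by
  have h := Nat.card_le_card_of_surjective _ surj_fin
  simpa using h

/-- the 3-cycle `(0 4 2)` -/
def pa : Equiv.Perm (Fin 5) := Equiv.swap 0 2 * Equiv.swap 0 4

/-- the 5-cycle `i ↦ i + 1` -/
def pb : Equiv.Perm (Fin 5) := Equiv.swap 0 1 * Equiv.swap 1 2 * Equiv.swap 2 3 * Equiv.swap 3 4

theorem pa_mem : pa ∈ alternatingGroup (Fin 5) := by
  rw [Equiv.Perm.mem_alternatingGroup]; decide

theorem pb_mem : pb ∈ alternatingGroup (Fin 5) := by
  rw [Equiv.Perm.mem_alternatingGroup]; decide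

/-- `pa` in `A₅` -/
def qa : alternatingGroup (Fin 5) := ⟨pa, pa_mem⟩

/-- `pb` in `A₅` -/
def qb : alternatingGroup (Fin 5) := ⟨pb, pb_mem⟩

theorem qa3 : qa ^ 3 = 1 := by
  apply Subtype.ext; simp only [qa, Subgroup.coe_pow, Subgroup.coe_one]; decide

theorem qb5 : qb ^ 5 = 1 := by
  apply Subtype.ext; simp only [qb, Subgroup.coe_pow, Subgroup.coe_one]; decide

theorem qab2 : (qa * qb) ^ 2 = 1 := by
  apply Subtype.ext
  simp only [qa, qb, Subgroup.coe_pow, Subgroup.coe_one, Subgroup.coe_mul]; decide

theorem qa_ne : qa ≠ 1 := by
  intro h
  have := congrArg Subtype.val h
  simp only [qa, Subgroup.coe_one] at this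
  revert this; decide

theorem qb_ne : qb ≠ 1 := by
  intro h
  have := congrArg Subtype.val h
  simp only [qb, Subgroup.coe_one] at this
  revert this; decide

theorem qab_ne : qa * qb ≠ 1 := by
  intro h
  have := congrArg Subtype.val h
  simp only [qa, qb, Subgroup.coe_one, Subgroup.coe_mul] at this
  revert this; decide

theorem lift_rels : ∀ r ∈ rels, FreeGroup.lift (fun i : Fin 2 => if i = 0 then qa else qb) r = 1 := by
  intro r hr
  simp only [rels, Set.mem_insert_iff, Set.mem_singleton_iff] at hr
  rcases hr with rfl | rfl | rfl
  · rw [map_pow, FreeGroup.lift_apply_of]; exact qa3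
  · rw [map_pow, FreeGroup.lift_apply_of]; exact qb5
  · rw [map_pow, map_mul, FreeGroup.lift_apply_of, FreeGroup.lift_apply_of]; exact qab2

/-- the homomorphism onto `A₅` -/
def φ : G →* alternatingGroup (Fin 5) := PresentedGroup.toGroup lift_rels

theorem φ_a : φ ga = qa := by
  simp [φ, ga]

theorem φ_b : φ gb = qb := by
  simp [φ, gb]

theorem card_A5 : Nat.card (alternatingGroup (Fin 5)) = 60 := by
  rw [nat_card_alternatingGroup]; simp [Nat.factorial]

theorem φ_surj : Function.Surjective φ := by
  rw [← MonoidHom.range_eq_top]
  set K := φ.range with hK
  have ha : qa ∈ K := ⟨ga, φ_a⟩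
  have hb : qb ∈ K := ⟨gb, φ_b⟩
  have hab : qa * qb ∈ K := K.mul_mem ha hb
  have o3 : orderOf qa = 3 := orderOf_eq_prime qa3 qa_ne
  have o5 : orderOf qb = 5 := by
    have : Fact (Nat.Prime 5) := ⟨by norm_num⟩
    exact orderOf_eq_prime qb5 qb_ne
  have o2 : orderOf (qa * qb) = 2 := orderOf_eq_prime qab2 qab_ne
  have d3 : 3 ∣ Nat.card K := by
    have := Subgroup.orderOf_dvd_natCard K ha
    rwa [o3] at this
  have d5 : 5 ∣ Nat.card K := by
    have := Subgroup.orderOf_dvd_natCard K hb
    rwa [o5] at this
  have d2 : 2 ∣ Nat.card K := by
    have := Subgroup.orderOf_dvd_natCard K hab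
    rwa [o2] at this
  have d30 : 30 ∣ Nat.card K := by
    have h6 : 6 ∣ Nat.card K := Nat.Coprime.mul_dvd_of_dvd_of_dvd (by norm_num) d2 d3
    exact Nat.Coprime.mul_dvd_of_dvd_of_dvd (by norm_num) h6 d5
  have hidx : K.index * Nat.card K = 60 := by
    rw [Subgroup.index_mul_card, card_A5]
  have hpos : 0 < Nat.card K := Nat.card_pos
  obtain ⟨c, hc⟩ := d30
  have hc12 : c = 1 ∨ c = 2 := by
    have : K.index * c = 2 := by
      have : K.index * c * 30 = 2 * 30 := by rw [mul_assoc, mul_comm c 30, ← hc]; exact hidx
      exact Nat.eq_of_mul_eq_mul_right (by norm_num) this
    have hcd : c ∣ 2 := Dvd.intro_left _ this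
    have := (Nat.dvd_prime Nat.prime_two).mp hcd
    exact this
  rcases hc12 with rfl | rfl
  · -- index 2
    have hi2 : K.index = 2 := by
      rw [hc] at hidx
      omega
    have hn : K.Normal := Subgroup.normal_of_index_eq_two hi2
    rcases hn.eq_bot_or_eq_top with h | h
    · exfalso
      rw [h, Subgroup.card_bot] at hc
      omega
    · exact h
  · have hi1 : K.index = 1 := by
      rw [hc] at hidx
      omega
    exact Subgroup.index_eq_one.mp hi1

/-- The alternating group of degree 5 has the presentation ⟨x, y | x³ = 1, y⁵ = 1, (xy)² = 1⟩: the group so presented is isomorphic to Alt(5). -/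
theorem result :
    Nonempty (PresentedGroup ({FreeGroup.of (0 : Fin 2) ^ 3, FreeGroup.of (1 : Fin 2) ^ 5,
        (FreeGroup.of (0 : Fin 2) * FreeGroup.of 1) ^ 2} : Set (FreeGroup (Fin 2))) ≃* alternatingGroup (Fin 5)) := by
  have hbij : Function.Bijective φ :=
    φ_surj.bijective_of_nat_card_le (by rw [card_A5]; exact card_le)
  exact ⟨MulEquiv.ofBijective φ hbij⟩

end Cfsg.Agent.S3377
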