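import Cfsg.Statements.S2330
import Cfsg.Agent.Lib.Helper14.GL2

set_option autoImplicit false
open Cfsg

namespace Cfsg.Agent.S2330

open Cfsg.Agent.Lib.Helper14 Matrix

variable {F : Type*} [Field F]

/-- scalar matrix in `GL₂` -/
noncomputable def scalarGL (a : Fˣ) : GL (Fin 2) F :=
  Matrix.GeneralLinearGroup.mkOfDetNeZero ((a : F) • (1 : Matrix (Fin 2) (Fin 2) F))
    (by simp)

theorem scalarGL_coe (a : Fˣ) :
    ((scalarGL a : GL (Fin 2) F) : Matrix (Fin 2) (Fin 2) F) = (a : F) • 1 := rfl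

/-- class representatives -/
noncomputable def rep : Fˣ ⊕ (F × Fˣ) → GL (Fin 2) F
  | Sum.inl a => scalarGL a
  | Sum.inr (t, δ) => comp2GL t δ

theorem rep_injective (x y : Fˣ ⊕ (F × Fˣ)) (h : IsConj (rep x) (rep y)) : x = y := by
  rcases x with a | ⟨t, δ⟩ <;> rcases y with b | ⟨t', δ'⟩
  · -- scalar vs scalar
    obtain ⟨c, hc⟩ := isConj_iff.mp h
    have h1 : ((c * scalarGL a * c⁻¹ : GL (Fin 2) F) : Matrix (Fin 2) (Fin 2) F) = (a : F) • 1 := by
      simp only [Units.val_mul, scalarGL_coe, Matrix.mul_smul, Matrix.mul_one, Matrix.smul_mul]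
      rw [← Units.val_mul, mul_inv_cancel, Units.val_one]
    simp only [rep] at hc
    rw [hc, scalarGL_coe] at h1
    have := congrFun (congrFun h1 0) 0
    simp at this
    congr 1
    exact Units.ext this.symm
  · exfalso
    have := isScalar2_conj h (by simp [rep, scalarGL_coe, IsScalar2])
    exact comp2_not_isScalar2 _ _ this
  · exfalso
    have := isScalar2_conj h.symm (by simp [rep, scalarGL_coe, IsScalar2])
    exact comp2_not_isScalar2 _ _ this
  · have h1 := trace_conj h
    have h2 := det_conj h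
    simp only [rep, comp2GL_coe, comp2_trace, comp2_det] at h1 h2
    rw [h1, Units.ext h2]

theorem rep_surjective (g : GL (Fin 2) F) : ∃ x, IsConj (rep x) g := by
  by_cases hg : IsScalar2 (g : Matrix (Fin 2) (Fin 2) F)
  · obtain ⟨a, ha⟩ := (isScalar2_iff _).mp hg
    have ha0 : a ≠ 0 := by
      rintro rfl
      have h1 := (Matrix.isUnit_iff_isUnit_det _).mp g.isUnit
      rw [ha] at h1
      simp at h1
    refine ⟨Sum.inl (Units.mk0 a ha0), ?_⟩
    have : rep (Sum.inl (Units.mk0 a ha0)) = g := by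
      apply Units.ext
      rw [ha]; rfl
    rw [this]
  · have hdet : (g : Matrix (Fin 2) (Fin 2) F).det ≠ 0 :=
      ((Matrix.isUnit_iff_isUnit_det _).mp g.isUnit).ne_zero
    refine ⟨Sum.inr ((g : Matrix (Fin 2) (Fin 2) F).trace, Units.mk0 _ hdet), ?_⟩
    exact (isConj_comp2GL g hg (Units.mk0 _ hdet) rfl).symm

/-- Over a finite field with q elements, the general linear group GL₂ has exactly q² − 1 conjugacy classes. -/
theorem result {F : Type*} [Field F] [Fintype F] :
    Nat.card (ConjClasses (Matrix.GeneralLinearGroup (Fin 2) F)) = Fintype.card F ^ 2 - 1 := by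
  classical
  have hbij : Function.Bijective (fun x : Fˣ ⊕ (F × Fˣ) => ConjClasses.mk (rep x)) := by
    constructor
    · intro x y h
      exact rep_injective x y (ConjClasses.mk_eq_mk_iff_isConj.mp h)
    · intro c
      obtain ⟨g, rfl⟩ := ConjClasses.exists_rep c
      obtain ⟨x, hx⟩ := rep_surjective g
      exact ⟨x, ConjClasses.mk_eq_mk_iff_isConj.mpr hx⟩
  rw [← Nat.card_eq_of_bijective _ hbij]
  rw [Nat.card_eq_fintype_card, Fintype.card_sum, Fintype.card_prod, Fintype.card_units]
  have hq : 1 ≤ Fintype.card F := Fintype.card_pos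
  obtain ⟨k, hk⟩ : ∃ k, Fintype.card F = k + 1 := ⟨Fintype.card F - 1, by omega⟩
  rw [hk]
  simp only [Nat.add_sub_cancel]
  have : (k + 1) ^ 2 = k + (k + 1) * k + 1 := by ring
  omega

end Cfsg.Agent.S2330
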