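import Mathlib
import Cfsg.Statements.S0494
import Cfsg.Agent.S0493

set_option autoImplicit false
open Cfsg

namespace Cfsg.Agent.S0494

open Cfsg.Agent.S0493

/-- in a simple group, the action on the cosets of a proper subgroup is faithful -/
theorem toPermHom_injective {G : Type*} [Group G] [IsSimpleGroup G] (H : Subgroup G)
    (hH : H ≠ ⊤) : Function.Injective (MulAction.toPermHom G (G ⧸ H)) := by
  rw [← MonoidHom.ker_eq_bot_iff, ← Subgroup.normalCore_eq_ker]
  have hn : H.normalCore.Normal := Subgroup.normalCore_normal H
  rcases hn.eq_bot_or_eq_top with h | h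
  · exact h
  · exfalso
    apply hH
    rw [eq_top_iff, ← h]
    exact Subgroup.normalCore_le H

/-- the order of a simple group divides the factorial of the index of any proper subgroup -/
theorem card_dvd_factorial_index {G : Type*} [Group G] [Finite G] [IsSimpleGroup G]
    (H : Subgroup G) (hH : H ≠ ⊤) : Nat.card G ∣ (H.index).factorial := by
  have hinj := toPermHom_injective H hH
  have h1 : Nat.card G = Nat.card (MulAction.toPermHom G (G ⧸ H)).range :=
    Nat.card_congr (Equiv.ofInjective _ hinj)
  rw [h1, Subgroup.index_eq_card, ← Nat.card_perm]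
  exact Subgroup.card_subgroup_dvd_card _

/-- a simple group of order 60 has a subgroup of index 5 -/
theorem exists_index_five {G : Type*} [Group G] [Finite G] [IsSimpleGroup G]
    (h : Nat.card G = 60) : ∃ H : Subgroup G, H.index = 5 := by
  have : Fact (Nat.Prime 2) := ⟨Nat.prime_two⟩
  obtain ⟨P⟩ : Nonempty (Sylow 2 G) := inferInstance
  have hP : Nat.card (P : Subgroup G) = 4 := by
    rw [P.card_eq_multiplicity, h]
    have : (60 : ℕ) = 2 ^ 2 * 15 := by norm_num
    rw [this, Nat.factorization_mul (by norm_num) (by norm_num),
      Finsupp.add_apply, Nat.Prime.factorization_pow Nat.prime_two, Finsupp.single_eq_same,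
      Nat.factorization_eq_zero_of_not_dvd (by norm_num)]
    norm_num
  have hidx : (P : Subgroup G).index = 15 := by
    have := Subgroup.card_mul_index (P : Subgroup G)
    rw [hP, h] at this
    omega
  set N := Subgroup.normalizer ((P : Subgroup G) : Set G) with hN
  have hNidx : N.index ∣ 15 := by
    rw [← hidx]
    exact Subgroup.index_dvd_of_le Subgroup.le_normalizer
  have hNcard := Subgroup.card_mul_index N
  rw [h] at hNcard
  have hle : N.index ≤ 15 := Nat.le_of_dvd (by norm_num) hNidx
  have hpos : 0 < N.index := Nat.pos_of_ne_zero Subgroup.index_ne_zero_of_finite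
  have hcases : N.index = 1 ∨ N.index = 3 ∨ N.index = 5 ∨ N.index = 15 := by
    interval_cases (N.index) <;> simp_all
  rcases hcases with h1 | h3 | h5 | h15
  · -- P normal
    exfalso
    have hNtop : N = ⊤ := Subgroup.index_eq_one.mp h1
    have hn : (P : Subgroup G).Normal := Subgroup.normalizer_eq_top_iff.mp hNtop
    apply false_of_normal _ hn
    · intro hb
      rw [hb, Subgroup.card_bot] at hP
      omega
    · intro ht
      rw [ht, Subgroup.card_top, h] at hP
      omega
  · exfalso
    have hNtop : N ≠ ⊤ := by
      intro ht
      rw [ht, Subgroup.index_top] at h3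
      omega
    have := card_dvd_factorial_index N hNtop
    rw [h, h3] at this
    norm_num [Nat.factorial] at this
  · exact ⟨N, h5⟩
  · -- Burnside transfer
    exfalso
    have hNc : Nat.card N = 4 := by
      rw [h15] at hNcard
      omega
    have hNP : N = (P : Subgroup G) :=
      (Subgroup.eq_of_le_of_card_ge Subgroup.le_normalizer (by rw [hNc, hP])).symm
    have hcomm : ∀ a b : (P : Subgroup G), a * b = b * a :=
      (IsPGroup.isMulCommutative_of_card_eq_prime_sq (p := 2) (by rw [hP]; norm_num)).is_comm.comm
    have hPC : Subgroup.normalizer ((P : Subgroup G) : Set G) ≤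
        Subgroup.centralizer ((P : Subgroup G) : Set G) := by
      rw [← hN, hNP]
      intro x hx
      rw [Subgroup.mem_centralizer_iff]
      intro y hy
      have := hcomm ⟨y, hy⟩ ⟨x, hx⟩
      exact congrArg Subtype.val this
    have hcompl := MonoidHom.ker_transferSylow_isComplement' P hPC
    have hker : (MonoidHom.transferSylow P hPC).ker.Normal := inferInstance
    have hcard := hcompl.card_mul_card
    rw [hP, h] at hcard
    apply false_of_normal _ hker
    · intro hb
      rw [hb, Subgroup.card_bot] at hcard
      omega
    · intro ht
      rw [ht, Subgroup.card_top, h] at hcard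
      omega


/-- a simple group of order 60 with a subgroup of index 5 is `A₅` -/
theorem equiv_of_index_five {G : Type*} [Group G] [Finite G] [IsSimpleGroup G]
    (h : Nat.card G = 60) (H : Subgroup G) (hH : H.index = 5) :
    Nonempty (G ≃* alternatingGroup (Fin 5)) := by
  have hHtop : H ≠ ⊤ := by
    intro ht
    rw [ht, Subgroup.index_top] at hH
    omega
  have hinj := toPermHom_injective H hHtop
  have hcard5 : Nat.card (G ⧸ H) = 5 := by
    rw [← Subgroup.index_eq_card, hH]
  let e : (G ⧸ H) ≃ Fin 5 := Finite.equivFinOfCardEq hcard5
  let f : G →* Equiv.Perm (Fin 5) :=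
    (e.permCongrHom.toMonoidHom).comp (MulAction.toPermHom G (G ⧸ H))
  have hf : Function.Injective f := by
    intro a b hab
    apply hinj
    exact e.permCongrHom.injective hab
  -- the sign is trivial on the image
  have hsign : ∀ g : G, Equiv.Perm.sign (f g) = 1 := by
    let s : G →* ℤˣ := Equiv.Perm.sign.comp f
    have hn : s.ker.Normal := inferInstance
    rcases hn.eq_bot_or_eq_top with hb | ht
    · exfalso
      have hsinj : Function.Injective s := (MonoidHom.ker_eq_bot_iff s).mp hb
      have hle : Nat.card G ≤ Nat.card ℤˣ := Nat.card_le_card_of_injective s hsinj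
      have h2 : Nat.card ℤˣ = 2 := by
        rw [Nat.card_eq_fintype_card]; rfl
      rw [h, h2] at hle
      omega
    · intro g
      have : g ∈ s.ker := by rw [ht]; exact Subgroup.mem_top g
      exact this
  let F : G →* alternatingGroup (Fin 5) :=
    f.codRestrict (alternatingGroup (Fin 5)) (fun g => Equiv.Perm.mem_alternatingGroup.mpr (hsign g))
  have hF : Function.Injective F := by
    intro a b hab
    apply hf
    exact congrArg Subtype.val hab
  have hcardA : Nat.card (alternatingGroup (Fin 5)) = 60 := by
    rw [nat_card_alternatingGroup, Nat.card_fin]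
    norm_num [Nat.factorial]
  have hbij : Function.Bijective F := by
    apply Function.Injective.bijective_of_nat_card_le hF
    rw [hcardA, h]
  exact ⟨MulEquiv.ofBijective F hbij⟩

/-- A simple group of order 60 is isomorphic to the alternating group of degree 5. -/
theorem result {G : Type*} [Group G] [Finite G] [IsSimpleGroup G]
    (h : Nat.card G = 60) : Nonempty (G ≃* alternatingGroup (Fin 5)) := by
  obtain ⟨H, hH⟩ := exists_index_five h
  exact equiv_of_index_five h H hH

end Cfsg.Agent.S0494
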