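import Mathlib
import Cfsg.Statements.S0265

set_option autoImplicit false
open Cfsg

namespace Cfsg.Agent.S0265

open Matrix

lemma scalar_injective {F : Type*} [Field F] (n : ℕ) (hn : 0 < n) :
    Function.Injective (GeneralLinearGroup.scalar (Fin n) : Fˣ →* GL (Fin n) F) := by
  intro a b h
  have h' := congrArg (fun g : GL (Fin n) F => (g : Matrix (Fin n) (Fin n) F) ⟨0, hn⟩ ⟨0, hn⟩) h
  simp [GeneralLinearGroup.coe_scalar] at h'
  exact Units.ext h'

lemma range_toGL {F : Type*} [Field F] (n : ℕ) :
    (SpecialLinearGroup.toGL : SpecialLinearGroup (Fin n) F →* GL (Fin n) F).range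
      = (GeneralLinearGroup.det : GL (Fin n) F →* Fˣ).ker := by
  ext g
  constructor
  · rintro ⟨s, rfl⟩
    rw [MonoidHom.mem_ker]
    apply Units.ext
    simp
  · intro hg
    rw [MonoidHom.mem_ker] at hg
    have hd : (g : Matrix (Fin n) (Fin n) F).det = 1 := by
      have := congrArg Units.val hg
      simpa using this
    refine ⟨⟨g, hd⟩, ?_⟩
    apply Units.ext
    rfl

/-- |PGL_n(q)| = |SL_n(q)|: GL_n modulo its centre (the q-1 non-zero scalars) has the same order as the kernel of det. -/
theorem result {F : Type*} [Field F] [Fintype F] (n : ℕ) : Nat.card (Matrix.ProjGenLinGroup (Fin n) F) = Nat.card (Matrix.SpecialLinearGroup (Fin n) F) := by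
  classical
  rcases Nat.eq_zero_or_pos n with rfl | hn
  · have : Subsingleton (Matrix.ProjGenLinGroup (Fin 0) F) :=
      Matrix.ProjGenLinGroup.mk_surjective.subsingleton
    have : Subsingleton (Matrix.SpecialLinearGroup (Fin 0) F) :=
      ⟨fun a b => by ext i; exact i.elim0⟩
    rw [Nat.card_unique, Nat.card_unique]
  · have : Nonempty (Fin n) := ⟨⟨0, hn⟩⟩
    have h1 : Nat.card (GL (Fin n) F)
        = Nat.card (Matrix.ProjGenLinGroup (Fin n) F) * Nat.card (Subgroup.center (GL (Fin n) F)) :=
      Subgroup.card_eq_card_quotient_mul_card_subgroup _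
    have h2 : Nat.card (GL (Fin n) F)
        = Nat.card (GL (Fin n) F ⧸ (GeneralLinearGroup.det : GL (Fin n) F →* Fˣ).ker)
          * Nat.card (GeneralLinearGroup.det : GL (Fin n) F →* Fˣ).ker :=
      Subgroup.card_eq_card_quotient_mul_card_subgroup _
    have h3 : Nat.card (GL (Fin n) F ⧸ (GeneralLinearGroup.det : GL (Fin n) F →* Fˣ).ker)
        = Nat.card Fˣ :=
      Nat.card_congr (QuotientGroup.quotientKerEquivOfSurjective _
        GeneralLinearGroup.det_surjective).toEquiv
    have h4 : Nat.card (Subgroup.center (GL (Fin n) F)) = Nat.card Fˣ := by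
      rw [GeneralLinearGroup.center_eq_range_scalar]
      exact (Nat.card_congr
        (MonoidHom.ofInjective (scalar_injective n hn)).toEquiv).symm
    have h5 : Nat.card (GeneralLinearGroup.det : GL (Fin n) F →* Fˣ).ker
        = Nat.card (SpecialLinearGroup (Fin n) F) := by
      rw [← range_toGL]
      exact (Nat.card_congr
        (MonoidHom.ofInjective SpecialLinearGroup.toGL_injective).toEquiv).symm
    rw [h3, h5] at h2
    rw [h4, h2, mul_comm] at h1
    have hpos : 0 < Nat.card Fˣ := Nat.card_pos
    exact (Nat.eq_of_mul_eq_mul_right hpos h1).symm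

end Cfsg.Agent.S0265
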