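import Cfsg.Statements.S0802
import Cfsg.Agent.Lib.Helper15.A4Conv
import Cfsg.Agent.Lib.Helper15.PSL2Orders2

set_option autoImplicit false
open Cfsg

namespace Cfsg.Agent.S0802

/-- PSL_2(p^n) has a subgroup isomorphic to A_4 if and only if it is not the case that p = 2 and n is odd. -/
theorem result {F : Type*} [Field F] [Fintype F] (p n : ℕ) [Fact p.Prime] [CharP F p] (hF : Fintype.card F = p ^ n) : (∃ H : Subgroup (Matrix.ProjectiveSpecialLinearGroup (Fin 2) F), Nonempty (H ≃* alternatingGroup (Fin 4))) ↔ ¬ (p = 2 ∧ Odd n) := by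
  open Cfsg.Agent.Lib.Helper15 in
  constructor
  · rintro ⟨H, ⟨e⟩⟩ ⟨rfl, hn⟩
    have h2 : (2 : F) = 0 := by
      have := CharP.cast_eq_zero F 2
      exact_mod_cast this
    have h3 : Nat.Coprime 3 (Fintype.card F - 1) := by
      rw [hF, Nat.Prime.coprime_iff_not_dvd Nat.prime_three]
      obtain ⟨k, rfl⟩ := hn
      have h4 : (2 ^ (2 * k + 1)) % 3 = 2 := by
        rw [pow_succ, pow_mul, Nat.mul_mod, Nat.pow_mod]
        norm_num
      have hpos : 0 < 2 ^ (2 * k + 1) := by positivity
      generalize 2 ^ (2 * k + 1) = m at *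
      omega
    exact no_A4_char_two h2 h3 H e
  · intro hnot
    by_cases hp : p = 2
    · subst hp
      have h2 : (2 : F) = 0 := by
        have := CharP.cast_eq_zero F 2
        exact_mod_cast this
      have hn : Even n := by
        rw [← Nat.not_odd_iff_even]
        exact fun h => hnot ⟨rfl, h⟩
      obtain ⟨k, rfl⟩ := hn
      have h3 : 3 ∣ Nat.card Fˣ := by
        rw [Nat.card_units, Nat.card_eq_fintype_card, hF, ← two_mul, pow_mul]
        have h4 : ((2 ^ 2) ^ k) % 3 = 1 := by
          rw [Nat.pow_mod]
          norm_num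
        have hpos : 0 < (2 ^ 2) ^ k := by positivity
        generalize (2 ^ 2) ^ k = m at *
        omega
      have : Fact (Nat.Prime 3) := ⟨Nat.prime_three⟩
      obtain ⟨x, hx⟩ := exists_prime_orderOf_dvd_card' 3 h3
      have hx3 : (x : F) ^ 3 = 1 := by
        have := pow_orderOf_eq_one x
        rw [hx] at this
        have := congrArg Units.val this
        rwa [Units.val_pow_eq_pow_val, Units.val_one] at this
      have hx1 : (x : F) ≠ 1 := by
        intro h
        have : x = 1 := Units.ext h
        rw [this, orderOf_one] at hx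
        omega
      have hc : (x : F) ^ 2 + (x : F) + 1 = 0 := by
        have : ((x : F) - 1) * ((x : F) ^ 2 + (x : F) + 1) = 0 := by linear_combination hx3
        rcases mul_eq_zero.1 this with h | h
        · exact absurd (sub_eq_zero.1 h) hx1
        · exact h
      exact exists_A4_even h2 (x : F) hc
    · have h2 : (2 : F) ≠ 0 := by
        intro h
        have := (two_dvd_card_iff (F := F)).2 h
        rw [hF] at this
        have h3 := (Nat.Prime.dvd_of_dvd_pow Nat.prime_two this)
        have hpp : p.Prime := Fact.out
        rcases (Nat.dvd_prime hpp).1 h3 with h4 | h4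
        · omega
        · exact hp h4.symm
      exact exists_A4_odd h2

end Cfsg.Agent.S0802
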