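import Cfsg.Statements.S0803
import Cfsg.Agent.Lib.Helper15.S4Odd
import Cfsg.Agent.Lib.Helper15.A4Conv

set_option autoImplicit false
open Cfsg

namespace Cfsg.Agent.S0803

open Matrix
open Cfsg.Agent.Lib.Helper14
open Cfsg.Agent.Lib.Helper15

/-- in characteristic `2`, an element of `SL₂` with `g⁴ = 1` satisfies `g² = 1` -/
theorem sq_eq_one_of_pow_four {F : Type*} [Field F] (h2 : (2 : F) = 0) (g : SpecialLinearGroup (Fin 2) F)
    (hg : g ^ 4 = 1) : g * g = 1 := by
  have hcay := cayley2 (g : Matrix (Fin 2) (Fin 2) F)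
  rw [g.det_coe, one_smul] at hcay
  set G := (g : Matrix (Fin 2) (Fin 2) F) with hG
  set t := G.trace with ht
  have hN : (G * G) * (G * G) = 1 := by
    have : (g * g) * (g * g) = 1 := by
      rw [← hg, show (4 : ℕ) = 2 + 2 from rfl, pow_add, pow_two]
    have := congrArg Subtype.val this
    rw [Matrix.SpecialLinearGroup.coe_mul, Matrix.SpecialLinearGroup.coe_mul, Matrix.SpecialLinearGroup.coe_one] at this
    exact this
  have h2M : (1 : Matrix (Fin 2) (Fin 2) F) + 1 = 0 := by
    rw [← two_smul F (1 : Matrix (Fin 2) (Fin 2) F), h2, zero_smul]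
  have e1 : (t • G - 1) * (t • G - 1) = (t * t) • (G * G) + 1 - (2 * t) • G := by
    rw [Matrix.sub_mul, Matrix.mul_sub, Matrix.mul_sub, Matrix.smul_mul, Matrix.mul_smul, smul_smul,
      Matrix.mul_one, Matrix.one_mul, Matrix.one_mul, two_mul, add_smul]
    abel
  have e2 : (t * t) • (G * G) = 0 := by
    have h3 := hN
    rw [hcay, e1, h2, zero_mul, zero_smul, sub_zero] at h3
    exact add_eq_right.1 h3
  have e3 : t * t = 0 := by
    have h4 : (t * t) • ((G * G) * (G * G)) = 0 := by
      rw [← Matrix.smul_mul, e2, Matrix.zero_mul]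
    rw [hN] at h4
    have := congrFun (congrFun h4 0) 0
    simpa using this
  have e4 : t = 0 := mul_self_eq_zero.1 e3
  apply Subtype.ext
  rw [Matrix.SpecialLinearGroup.coe_mul, Matrix.SpecialLinearGroup.coe_one]
  show G * G = 1
  rw [hcay, e4, zero_smul, zero_sub]
  exact neg_eq_of_add_eq_zero_left h2M

theorem s4c_pow_four : (finRotate 4 : Equiv.Perm (Fin 4)) ^ 4 = 1 := by decide

theorem s4c_sq_ne : (finRotate 4 : Equiv.Perm (Fin 4)) * finRotate 4 ≠ 1 := by decide

/-- `PSL₂(F)` has no subgroup `S₄` in characteristic `2` -/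
theorem no_S4_char_two {F : Type*} [Field F] (h2 : (2 : F) = 0)
    (H : Subgroup (ProjectiveSpecialLinearGroup (Fin 2) F)) (e : H ≃* Equiv.Perm (Fin 4)) : False := by
  let πe : SpecialLinearGroup (Fin 2) F ≃* ProjectiveSpecialLinearGroup (Fin 2) F :=
    MulEquiv.ofBijective (toPSL2 F) ⟨toPSL2_injective_of_two h2, toPSL2_surjective⟩
  let θ : Equiv.Perm (Fin 4) →* SpecialLinearGroup (Fin 2) F :=
    πe.symm.toMonoidHom.comp (H.subtype.comp e.symm.toMonoidHom)
  have hθ : Function.Injective θ := by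
    intro a b hab
    have h1 : H.subtype (e.symm a) = H.subtype (e.symm b) := πe.symm.injective hab
    exact e.symm.injective (Subgroup.subtype_injective H h1)
  have h4 : θ (finRotate 4) ^ 4 = 1 := by rw [← map_pow, s4c_pow_four, map_one]
  have := sq_eq_one_of_pow_four h2 _ h4
  rw [← map_mul] at this
  exact s4c_sq_ne (hθ (this.trans (map_one θ).symm))

/-- PSL_2(q) has a subgroup isomorphic to S_4 iff q² ≡ 1 (mod 16). -/
theorem result {F : Type*} [Field F] [Fintype F] {q : ℕ} (hF : Fintype.card F = q) : (∃ H : Subgroup (Matrix.ProjectiveSpecialLinearGroup (Fin 2) F), Nonempty (H ≃* Equiv.Perm (Fin 4))) ↔ q ^ 2 % 16 = 1 := by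
  constructor
  · rintro ⟨H, ⟨e⟩⟩
    by_cases h2 : (2 : F) = 0
    · exact (no_S4_char_two h2 H e).elim
    · have hodd : ¬ 2 ∣ q := by
        rw [← hF, two_dvd_card_iff]; exact h2
      have hH : Nat.card H = 24 := by
        rw [Nat.card_congr e.toEquiv, Nat.card_perm, Nat.card_fin]
        rfl
      have hdvd : 24 ∣ Nat.card (ProjectiveSpecialLinearGroup (Fin 2) F) := by
        rw [← hH]; exact Subgroup.card_subgroup_dvd_card H
      have hcard : Nat.card (SpecialLinearGroup (Fin 2) F) =
          Nat.card (ProjectiveSpecialLinearGroup (Fin 2) F) * 2 := by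
        have := Subgroup.card_eq_card_quotient_mul_card_subgroup (Subgroup.center (SpecialLinearGroup (Fin 2) F))
        rw [card_center_SL2 h2] at this
        exact this
      rw [card_SL2, hF] at hcard
      have h16 : 16 ∣ q * (q ^ 2 - 1) := by
        rw [hcard]
        obtain ⟨k, hk⟩ := hdvd
        rw [hk]
        exact ⟨3 * k, by ring⟩
      have hcop : Nat.Coprime 16 q := by
        have : Nat.Coprime 2 q := (Nat.Prime.coprime_iff_not_dvd Nat.prime_two).2 hodd
        exact Nat.Coprime.pow_left 4 this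
      have h16' : 16 ∣ q ^ 2 - 1 := hcop.dvd_of_dvd_mul_left h16
      have hq1 : 1 ≤ q ^ 2 := by
        have : 0 < q := by rw [← hF]; exact Fintype.card_pos
        exact Nat.one_le_pow _ _ this
      omega
  · intro hq
    have hr : q % 16 < 16 := Nat.mod_lt _ (by norm_num)
    have hq' : (q % 16) ^ 2 % 16 = 1 := by rw [← Nat.pow_mod]; exact hq
    have h8 : q % 8 = 1 ∨ q % 8 = 7 := by
      have h16 : q % 8 = (q % 16) % 8 := (Nat.mod_mod_of_dvd q (by norm_num : 8 ∣ 16)).symm
      rw [h16]
      generalize q % 16 = r at hr hq'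
      interval_cases r <;> simp_all
    have h2 : (2 : F) ≠ 0 := by
      rw [Ne, ← two_dvd_card_iff, hF]
      omega
    apply exists_S4_odd h2
    obtain ⟨c1, c3⟩ := card_torus_of_sq h2 (w0 F) w0_sq
    rw [hF] at c1 c3
    rcases h8 with h | h
    · rw [c1 (by omega)]; omega
    · rw [c3 (by omega)]; omega

end Cfsg.Agent.S0803
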