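import Cfsg.Statements.S0804
import Cfsg.Agent.Lib.Helper15.A5PSL

set_option autoImplicit false
open Cfsg

namespace Cfsg.Agent.S0804

/-- PSL_2(q) has a subgroup isomorphic to A_5 iff 5 ∣ q(q² − 1). -/
theorem result {F : Type*} [Field F] [Fintype F] {q : ℕ} (hF : Fintype.card F = q) : (∃ H : Subgroup (Matrix.ProjectiveSpecialLinearGroup (Fin 2) F), Nonempty (H ≃* alternatingGroup (Fin 5))) ↔ 5 ∣ q * (q ^ 2 - 1) := by
  open Cfsg.Agent.Lib.Helper15 Cfsg.Agent.Lib.Helper14 in
  subst hF
  have hG : Nat.card (Matrix.SpecialLinearGroup (Fin 2) F) = Fintype.card F * (Fintype.card F ^ 2 - 1) := card_SL2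
  constructor
  · rintro ⟨H, ⟨e⟩⟩
    have h60 : Nat.card H = 60 := by
      rw [Nat.card_congr e.toEquiv]
      have h1 := two_mul_nat_card_alternatingGroup (α := Fin 5)
      rw [Nat.card_perm, Nat.card_fin] at h1
      have : (5 : ℕ).factorial = 120 := by decide
      omega
    have h1 := Subgroup.card_subgroup_dvd_card H
    rw [h60] at h1
    have h3 := Subgroup.card_eq_card_quotient_mul_card_subgroup
      (Subgroup.center (Matrix.SpecialLinearGroup (Fin 2) F))
    have h4 : Nat.card (Matrix.ProjectiveSpecialLinearGroup (Fin 2) F) ∣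
        Nat.card (Matrix.SpecialLinearGroup (Fin 2) F) := ⟨_, h3⟩
    rw [hG] at h4
    exact dvd_trans (dvd_trans ⟨12, by norm_num⟩ h1) h4
  · intro h5
    rw [← hG] at h5
    have : Fact (Nat.Prime 5) := ⟨by norm_num⟩
    obtain ⟨g, hg⟩ := exists_prime_orderOf_dvd_card' 5 h5
    have hg5 : g ^ 5 = 1 := by rw [← hg]; exact pow_orderOf_eq_one g
    have hg1 : g ≠ 1 := by
      rintro rfl
      rw [orderOf_one] at hg
      omega
    exact exists_A5 g hg5 hg1

end Cfsg.Agent.S0804
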