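import Cfsg.Statements.S0805
import Cfsg.Agent.Lib.Helper15.SubfieldPSL
import Cfsg.Agent.Lib.Helper16.FieldEmbed

set_option autoImplicit false
open Cfsg

namespace Cfsg.Agent.S0805

open Cfsg.Agent.Lib.Helper15

/-- For q = r^m odd, PSL_2(q) contains a copy of PSL_2(r), and contains a copy of PGL_2(r) if and only if m is even. -/
theorem result {F K : Type*} [Field F] [Fintype F] [Field K] [Fintype K] {q : ℕ} (hF : Fintype.card F = q) (hodd : Odd q) (m : ℕ) (hm : 1 ≤ m) (hK : Fintype.card K ^ m = q) : (∃ H : Subgroup (Matrix.ProjectiveSpecialLinearGroup (Fin 2) F), Nonempty (H ≃* Matrix.ProjectiveSpecialLinearGroup (Fin 2) K)) ∧ ((∃ H : Subgroup (Matrix.ProjectiveSpecialLinearGroup (Fin 2) F), Nonempty (H ≃* Matrix.ProjGenLinGroup (Fin 2) K)) ↔ Even m) := by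
  obtain ⟨f⟩ := Cfsg.Agent.Lib.Helper16.exists_ringHom_of_card_pow (F := K) (K := F) (q := Fintype.card K)
    (n := m) (by omega) rfl (by rw [hF, hK])
  have hodd' : Odd (Fintype.card F) := by rw [hF]; exact hodd
  have hK' : Fintype.card K ^ m = Fintype.card F := by rw [hF, hK]
  refine ⟨exists_PSL2_subfield f, ?_, ?_⟩
  · rintro ⟨H, ⟨e⟩⟩
    exact even_of_PGL2_subfield hodd' m hK' H e
  · intro hev
    exact exists_PGL2_subfield f hodd' m hev hK'

end Cfsg.Agent.S0805
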