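import Mathlib
import Cfsg.Statements.S0985
import Cfsg.Agent.Lib.Helper7.Orbits

set_option autoImplicit false
open Cfsg

namespace Cfsg.Agent.S0985

open Cfsg.Agent.Lib.Helper7

/-- If the number of Sylow p-subgroups of a finite group is not congruent to 1 modulo p^k, then there are two distinct Sylow p-subgroups P and R such that the index of P ∩ R in P is at most p^(k-1). -/
theorem result {G : Type*} [Group G] [Finite G] (p k : ℕ) [Fact p.Prime] (h : ¬ Nat.card (Sylow p G) ≡ 1 [MOD p ^ k]) : ∃ P R : Sylow p G, P ≠ R ∧ ((R : Subgroup G).subgroupOf (P : Subgroup G)).index ≤ p ^ (k - 1) := by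
  by_contra hcon
  push Not at hcon
  apply h
  obtain ⟨P⟩ := (Sylow.nonempty : Nonempty (Sylow p G))
  have hp : p.Prime := Fact.out
  apply card_modEq_one_of_orbits (P := ↥(P : Subgroup G)) (p ^ k) P
  · intro g
    rw [Subgroup.smul_def, Sylow.smul_eq_iff_mem_normalizer]
    exact Subgroup.le_normalizer g.2
  · intro R hR
    have hstab : MulAction.stabilizer ↥(P : Subgroup G) R = (R : Subgroup G).subgroupOf (P : Subgroup G) := by
      have h1 : MulAction.stabilizer ↥(P : Subgroup G) R = (Subgroup.normalizer (R : Set G)).subgroupOf (P : Subgroup G) := by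
        ext g
        rw [MulAction.mem_stabilizer_iff, Subgroup.smul_def, Sylow.smul_eq_iff_mem_normalizer,
          Subgroup.mem_subgroupOf]
      rw [h1, ← Subgroup.inf_subgroupOf_left, P.2.inf_normalizer_sylow R, Subgroup.inf_subgroupOf_left]
    have hidx : Nat.card (MulAction.orbit ↥(P : Subgroup G) R) = ((R : Subgroup G).subgroupOf (P : Subgroup G)).index := by
      rw [← hstab, MulAction.index_stabilizer, Nat.card_coe_set_eq]
    rw [hidx]
    have hlt := hcon P R (Ne.symm hR)
    obtain ⟨j, hj⟩ := (P.2 : IsPGroup p ↥(P : Subgroup G)).index ((R : Subgroup G).subgroupOf (P : Subgroup G))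
    rw [hj] at hlt ⊢
    have hkj : k ≤ j := by
      by_contra hkj
      push Not at hkj
      have : p ^ j ≤ p ^ (k - 1) := Nat.pow_le_pow_right hp.pos (by omega)
      omega
    exact pow_dvd_pow p hkj

end Cfsg.Agent.S0985
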