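import Cfsg.Statements.S2012
import Cfsg.Agent.Lib.Helper13.RelSylow
import Cfsg.Agent.Lib.Helper13.PGroup

set_option autoImplicit false
open Cfsg

namespace Cfsg.Agent.S2012

open Cfsg.Agent.Lib.Helper13

variable {G : Type*} [Group G]

/-- right conjugate of a set -/
def cj (x : G) (A : Set G) : Set G := (fun a => x⁻¹ * a * x) '' A

theorem cj_one (A : Set G) : cj 1 A = A := by
  simp [cj]

theorem cj_mul (x y : G) (A : Set G) : cj (x * y) A = cj y (cj x A) := by
  unfold cj
  rw [Set.image_image]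
  congr 1
  funext a
  group

theorem cj_mono (x : G) {A B : Set G} (h : A ⊆ B) : cj x A ⊆ cj x B := Set.image_mono h

theorem mem_cj {x a : G} {A : Set G} (ha : a ∈ A) : x⁻¹ * a * x ∈ cj x A := ⟨a, ha, rfl⟩

theorem cj_normalizer (D : Subgroup G) {x : G} (hx : x ∈ Subgroup.normalizer (D : Set G)) :
    cj x (D : Set G) = (D : Set G) := by
  have hx' : x⁻¹ ∈ Subgroup.normalizer (D : Set G) := Subgroup.inv_mem _ hx
  ext b
  constructor
  · rintro ⟨a, ha, rfl⟩
    have := (Subgroup.mem_normalizer_iff.mp hx' a).mp ha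
    simpa using this
  · intro hb
    refine ⟨x * b * x⁻¹, (Subgroup.mem_normalizer_iff.mp hx b).mp hb, ?_⟩
    group

variable {p : ℕ}

/-- admissible step -/
def Adm (P Q : Sylow p G) (x : G) : Prop :=
  x ∈ Subgroup.normalizer ((((P : Subgroup G) ⊓ (Q : Subgroup G)) : Subgroup G) : Set G) ∧
  ¬ p ∣ ((P : Subgroup G) ⊓ Subgroup.normalizer ((((P : Subgroup G) ⊓ (Q : Subgroup G)) : Subgroup G) : Set G)).relIndex
      (Subgroup.normalizer ((((P : Subgroup G) ⊓ (Q : Subgroup G)) : Subgroup G) : Set G)) ∧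
  ¬ p ∣ ((Q : Subgroup G) ⊓ Subgroup.normalizer ((((P : Subgroup G) ⊓ (Q : Subgroup G)) : Subgroup G) : Set G)).relIndex
      (Subgroup.normalizer ((((P : Subgroup G) ⊓ (Q : Subgroup G)) : Subgroup G) : Set G)) ∧
  ((Q : Subgroup G) = (P : Subgroup G) ∨ ∃ k : ℕ, orderOf x = p ^ k)

/-- chains of admissible steps starting from the set `A` -/
inductive Chain (P : Sylow p G) : Set G → List (Sylow p G × G) → Prop
  | nil (A : Set G) : A ⊆ ((P : Subgroup G) : Set G) → Chain P A []
  | cons (A : Set G) (Q : Sylow p G) (x : G) (l : List (Sylow p G × G)) :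
      Adm P Q x → A ⊆ ((((P : Subgroup G) ⊓ (Q : Subgroup G)) : Subgroup G) : Set G) →
      Chain P (cj x A) l → Chain P A ((Q, x) :: l)

/-- product of the elements of a chain -/
def lprod (l : List (Sylow p G × G)) : G := (l.map Prod.snd).prod

@[simp] theorem lprod_nil : lprod ([] : List (Sylow p G × G)) = 1 := rfl

@[simp] theorem lprod_cons (Q : Sylow p G) (x : G) (l : List (Sylow p G × G)) :
    lprod ((Q, x) :: l) = x * lprod l := by
  simp [lprod]

theorem lprod_append (l₁ l₂ : List (Sylow p G × G)) :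
    lprod (l₁ ++ l₂) = lprod l₁ * lprod l₂ := by
  simp [lprod]

variable {P : Sylow p G}

theorem Chain.mono {A B : Set G} {l : List (Sylow p G × G)} (hBA : B ⊆ A) (h : Chain P A l) :
    Chain P B l := by
  induction h generalizing B with
  | nil A hA => exact Chain.nil B (hBA.trans hA)
  | cons A Q x l hadm hA _ ih =>
    exact Chain.cons B Q x l hadm (hBA.trans hA) (ih (cj_mono x hBA))

theorem Chain.end_sub {A : Set G} {l : List (Sylow p G × G)} (h : Chain P A l) :
    cj (lprod l) A ⊆ ((P : Subgroup G) : Set G) := by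
  induction h with
  | nil A hA => simpa [cj_one] using hA
  | cons A Q x l hadm hA _ ih =>
    rw [lprod_cons, cj_mul]; exact ih

theorem Chain.start_sub {A : Set G} {l : List (Sylow p G × G)} (h : Chain P A l) :
    A ⊆ ((P : Subgroup G) : Set G) := by
  cases h with
  | nil A hA => exact hA
  | cons A Q x l hadm hA _ =>
    intro a ha
    exact (Subgroup.mem_inf.mp (hA ha)).1

theorem Chain.append {A : Set G} {l₁ l₂ : List (Sylow p G × G)} (h₁ : Chain P A l₁)
    (h₂ : Chain P (cj (lprod l₁) A) l₂) : Chain P A (l₁ ++ l₂) := by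
  induction h₁ with
  | nil A hA => simpa [cj_one] using h₂
  | cons A Q x l hadm hA _ ih =>
    rw [lprod_cons, cj_mul] at h₂
    exact Chain.cons A Q x (l ++ l₂) hadm hA (ih h₂)

theorem cj_mem_smul (R : Sylow p G) (u a : G) (ha : a ∈ (R : Subgroup G)) :
    u⁻¹ * a * u ∈ ((u⁻¹ • R : Sylow p G) : Subgroup G) := by
  rw [mem_smul_sylow_iff]
  have : (u⁻¹)⁻¹ * (u⁻¹ * a * u) * u⁻¹ = a := by group
  rw [this]; exact ha

/-- `Q` is connected to `x⁻¹ Q x` via `x` -/
def Conn (P Q : Sylow p G) (x : G) : Prop :=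
  ∃ l, Chain P ((((P : Subgroup G) ⊓ (Q : Subgroup G)) : Subgroup G) : Set G) l ∧ lprod l = x

def Good (P Q : Sylow p G) : Prop := ∃ x, Conn P Q x ∧ x⁻¹ • Q = P

theorem conn_mono {Q R : Sylow p G} {x : G} (h : Conn P R x)
    (hle : (P : Subgroup G) ⊓ (Q : Subgroup G) ≤ (P : Subgroup G) ⊓ (R : Subgroup G)) : Conn P Q x := by
  obtain ⟨l, hl, hx⟩ := h
  exact ⟨l, hl.mono (fun a ha => hle ha), hx⟩

theorem conn_trans {Q : Sylow p G} {x y : G} (h₁ : Conn P Q x) (h₂ : Conn P (x⁻¹ • Q) y) :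
    Conn P Q (x * y) := by
  obtain ⟨l₁, hl₁, hx⟩ := h₁
  obtain ⟨l₂, hl₂, hy⟩ := h₂
  refine ⟨l₁ ++ l₂, hl₁.append (hl₂.mono ?_), by rw [lprod_append, hx, hy]⟩
  intro b hb
  refine Subgroup.mem_inf.mpr ⟨hl₁.end_sub hb, ?_⟩
  rw [hx] at hb
  obtain ⟨a, ha, rfl⟩ := hb
  exact cj_mem_smul Q x a (Subgroup.mem_inf.mp ha).2

theorem good_of_conn_good {Q : Sylow p G} {x : G} (h₁ : Conn P Q x) (h₂ : Good P (x⁻¹ • Q)) :
    Good P Q := by
  obtain ⟨y, hy, hyP⟩ := h₂
  refine ⟨x * y, conn_trans h₁ hy, ?_⟩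
  rw [mul_inv_rev, mul_smul]; exact hyP

theorem card_le_of_cj_sub [Finite G] (B : Subgroup G) (z : G) (C : Subgroup G)
    (h : cj z (B : Set G) ⊆ (C : Set G)) : Nat.card B ≤ Nat.card C := by
  have h1 : B.map (MulAut.conj z⁻¹).toMonoidHom ≤ C := by
    rw [map_conj_le_iff]
    intro y hy
    have := h (mem_cj (x := z) hy)
    simpa using this
  calc Nat.card B = Nat.card (B.map (MulAut.conj z⁻¹).toMonoidHom) := (card_map_conj B z⁻¹).symm
    _ ≤ Nat.card C := Subgroup.card_le_of_le h1

/-- elements of the closure of an inverse-closed set are products of lists of its elements -/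
theorem exists_list_of_mem_closure_inv {S : Set G} (hS : ∀ e ∈ S, e⁻¹ ∈ S) {y : G}
    (hy : y ∈ Subgroup.closure S) : ∃ L : List G, (∀ e ∈ L, e ∈ S) ∧ L.prod = y := by
  induction hy using Subgroup.closure_induction with
  | mem y hy => exact ⟨[y], by simpa using hy, by simp⟩
  | one => exact ⟨[], by simp, by simp⟩
  | mul y z _ _ ihy ihz =>
    obtain ⟨L₁, h₁, rfl⟩ := ihy
    obtain ⟨L₂, h₂, rfl⟩ := ihz
    refine ⟨L₁ ++ L₂, ?_, by simp⟩
    intro e he
    rcases List.mem_append.mp he with h | h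
    · exact h₁ e h
    · exact h₂ e h
  | inv y _ ih =>
    obtain ⟨L, h, rfl⟩ := ih
    refine ⟨(L.map (·⁻¹)).reverse, ?_, (List.prod_inv_reverse L).symm⟩
    intro e he
    rw [List.mem_reverse, List.mem_map] at he
    obtain ⟨e', he', rfl⟩ := he
    exact hS e' (h e' he')

theorem step1 [Finite G] [Fact p.Prime] (P Q : Sylow p G)
    (IH : ∀ Q' : Sylow p G, Nat.card ((P : Subgroup G) ⊓ (Q : Subgroup G) : Subgroup G) <
      Nat.card ((P : Subgroup G) ⊓ (Q' : Subgroup G) : Subgroup G) → Good P Q')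
    (hne : (Q : Subgroup G) ≠ (P : Subgroup G))
    (hNP : ¬ p ∣ ((P : Subgroup G) ⊓ Subgroup.normalizer ((((P : Subgroup G) ⊓ (Q : Subgroup G)) : Subgroup G) : Set G)).relIndex
      (Subgroup.normalizer ((((P : Subgroup G) ⊓ (Q : Subgroup G)) : Subgroup G) : Set G))) : Good P Q := by
  set D : Subgroup G := (P : Subgroup G) ⊓ (Q : Subgroup G) with hD
  set N : Subgroup G := Subgroup.normalizer (D : Set G) with hN
  have hDQ : D < (Q : Subgroup G) := by
    refine lt_of_le_of_ne inf_le_right (fun h => hne ?_)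
    have hQP : (Q : Subgroup G) ≤ P := by rw [← h]; exact inf_le_left
    exact (Q.is_maximal' P.isPGroup' hQP).symm
  set NQ : Subgroup G := (Q : Subgroup G) ⊓ N with hNQ
  have hDNQ : D < NQ := lt_inf_normalizer_of_lt (Q : Subgroup G) D Q.isPGroup' hDQ
  obtain ⟨T1, hNQT1, hT1N, hT1p, hT1i⟩ :=
    exists_relSylow_ge N NQ (Q.isPGroup'.to_le inf_le_left) inf_le_right
  obtain ⟨Q0, hQ0⟩ := hT1p.exists_le_sylow
  have hDQ0 : D ≤ (P : Subgroup G) ⊓ (Q0 : Subgroup G) :=
    le_inf inf_le_left (hDNQ.le.trans (hNQT1.trans hQ0))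
  by_cases hcase : Nat.card D < Nat.card ((P : Subgroup G) ⊓ (Q0 : Subgroup G) : Subgroup G)
  · obtain ⟨z, hz, hzP⟩ := IH Q0 hcase
    have hQz : Conn P Q z := conn_mono hz hDQ0
    apply good_of_conn_good hQz
    apply IH
    calc Nat.card D < Nat.card NQ := card_lt_card_of_lt hDNQ
      _ ≤ _ := card_le_of_cj_sub NQ z _ (by
          rintro _ ⟨a, ha, rfl⟩
          refine Subgroup.mem_inf.mpr ⟨?_, ?_⟩
          · have := cj_mem_smul Q0 z a (hQ0 (hNQT1 ha))
            rw [hzP] at this; exact this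
          · exact cj_mem_smul Q z a (Subgroup.mem_inf.mp ha).1)
  · have hDeq : (P : Subgroup G) ⊓ (Q0 : Subgroup G) = D :=
      (Subgroup.eq_of_le_of_card_ge hDQ0 (not_lt.mp hcase)).symm
    set S : Set G := {y | y ∈ N ∧ ∃ k : ℕ, orderOf y = p ^ k} with hS
    set K := Subgroup.closure S with hK
    have hKN : K ≤ N := (Subgroup.closure_le _).mpr (fun y hy => hy.1)
    have hSinv : ∀ e ∈ S, e⁻¹ ∈ S := by
      intro e he
      exact ⟨N.inv_mem he.1, by simpa using he.2⟩
    have hpK : ∀ R : Subgroup G, IsPGroup p R → R ≤ N → R ≤ K := by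
      intro R hR hRN y hy
      apply Subgroup.subset_closure
      refine ⟨hRN hy, ?_⟩
      obtain ⟨k, hk⟩ := (IsPGroup.iff_orderOf.mp hR) ⟨y, hy⟩
      exact ⟨k, by rw [← hk]; simp⟩
    set NP : Subgroup G := (P : Subgroup G) ⊓ N with hNPdef
    have hNPK : NP ≤ K := hpK NP (P.isPGroup'.to_le inf_le_left) inf_le_right
    have hT1K : T1 ≤ K := hpK T1 hT1p hT1N
    have hNPi : ¬ p ∣ NP.relIndex K := not_dvd_relIndex_of_le_right N K NP hNPK hKN hNP
    obtain ⟨h, hhK, hh⟩ := exists_conj_le_of_relIndex K NP T1 (P.isPGroup'.to_le inf_le_left)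
      hNPi hT1K hT1p
    obtain ⟨L, hL, hLprod⟩ := exists_list_of_mem_closure_inv hSinv (K.inv_mem hhK)
    have hchain : ∀ L : List G, (∀ e ∈ L, e ∈ S) →
        Chain P (D : Set G) (L.map (fun e => (Q0, e))) := by
      intro L
      induction L with
      | nil => intro _; exact Chain.nil _ (fun a ha => (Subgroup.mem_inf.mp ha).1)
      | cons e L ih =>
        intro hL
        have heS : e ∈ N ∧ ∃ k : ℕ, orderOf e = p ^ k := hL e List.mem_cons_self
        rw [List.map_cons]
        refine Chain.cons _ Q0 e _ ⟨?_, ?_, ?_, Or.inr heS.2⟩ ?_ ?_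
        · rw [hDeq]; exact heS.1
        · rw [hDeq]; exact hNP
        · rw [hDeq]
          exact not_dvd_relIndex_of_le N T1 ((Q0 : Subgroup G) ⊓ N) (le_inf hQ0 hT1N) hT1i
        · rw [hDeq]
        · rw [cj_normalizer D heS.1]
          exact ih (fun e' he' => hL e' (List.mem_cons_of_mem _ he'))
    have hlp : ∀ L : List G, lprod (L.map (fun e => (Q0, e))) = L.prod := by
      intro L
      simp [lprod, Function.comp_def]
    have hQy : Conn P Q h⁻¹ := ⟨_, hchain L hL, by rw [hlp, hLprod]⟩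
    apply good_of_conn_good hQy
    apply IH
    calc Nat.card D < Nat.card NQ := card_lt_card_of_lt hDNQ
      _ ≤ _ := card_le_of_cj_sub NQ h⁻¹ _ (by
          rintro _ ⟨a, ha, rfl⟩
          refine Subgroup.mem_inf.mpr ⟨?_, ?_⟩
          · have := hh a (hNQT1 ha)
            have h2 := (Subgroup.mem_inf.mp this).1
            simpa using h2
          · exact cj_mem_smul Q h⁻¹ a (Subgroup.mem_inf.mp ha).1)

theorem main [Finite G] [Fact p.Prime] (P : Sylow p G) : ∀ (n : ℕ) (Q : Sylow p G),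
    Nat.card (P : Subgroup G) - Nat.card ((P : Subgroup G) ⊓ (Q : Subgroup G) : Subgroup G) = n →
    Good P Q := by
  intro n
  induction n using Nat.strong_induction_on with
  | _ n ih =>
    intro Q hn
    have IH : ∀ Q' : Sylow p G, Nat.card ((P : Subgroup G) ⊓ (Q : Subgroup G) : Subgroup G) <
        Nat.card ((P : Subgroup G) ⊓ (Q' : Subgroup G) : Subgroup G) → Good P Q' := by
      intro Q' hlt
      have : Nat.card ((P : Subgroup G) ⊓ (Q' : Subgroup G) : Subgroup G) ≤ Nat.card (P : Subgroup G) :=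
        Subgroup.card_le_of_le inf_le_left
      exact ih (Nat.card (P : Subgroup G) - Nat.card ((P : Subgroup G) ⊓ (Q' : Subgroup G) : Subgroup G))
        (by omega) Q' rfl
    by_cases hQP : (Q : Subgroup G) = (P : Subgroup G)
    · refine ⟨1, ⟨[], Chain.nil _ (fun a ha => (Subgroup.mem_inf.mp ha).1), rfl⟩, ?_⟩
      rw [inv_one, one_smul]; exact Sylow.ext hQP
    · set D : Subgroup G := (P : Subgroup G) ⊓ (Q : Subgroup G) with hD
      set N : Subgroup G := Subgroup.normalizer (D : Set G) with hN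
      have hDP : D < (P : Subgroup G) := by
        refine lt_of_le_of_ne inf_le_left (fun h => hQP ?_)
        have hPQ : (P : Subgroup G) ≤ Q := by rw [← h]; exact inf_le_right
        exact P.is_maximal' Q.isPGroup' hPQ
      set NP : Subgroup G := (P : Subgroup G) ⊓ N with hNPdef
      have hDNP : D < NP := lt_inf_normalizer_of_lt (P : Subgroup G) D P.isPGroup' hDP
      obtain ⟨T0, hNPT0, hT0N, hT0p, hT0i⟩ :=
        exists_relSylow_ge N NP (P.isPGroup'.to_le inf_le_left) inf_le_right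
      obtain ⟨R, hR⟩ := hT0p.exists_le_sylow
      have hDR : D ≤ (P : Subgroup G) ⊓ (R : Subgroup G) :=
        le_inf inf_le_left (hDNP.le.trans (hNPT0.trans hR))
      have hlt : Nat.card D < Nat.card ((P : Subgroup G) ⊓ (R : Subgroup G) : Subgroup G) :=
        lt_of_lt_of_le (card_lt_card_of_lt hDNP)
          (Subgroup.card_le_of_le (le_inf inf_le_left (hNPT0.trans hR)))
      obtain ⟨u, hu, huP⟩ := IH R hlt
      have hQu : Conn P Q u := conn_mono hu hDR
      apply good_of_conn_good hQu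
      set Q' : Sylow p G := u⁻¹ • Q with hQ'
      have hRu : ∀ a ∈ (R : Subgroup G), u⁻¹ * a * u ∈ (P : Subgroup G) := by
        intro a ha
        have := cj_mem_smul R u a ha
        rw [huP] at this; exact this
      have hDu : cj u (D : Set G) ⊆ (((P : Subgroup G) ⊓ (Q' : Subgroup G) : Subgroup G) : Set G) := by
        rintro _ ⟨a, ha, rfl⟩
        refine Subgroup.mem_inf.mpr ⟨hRu a (Subgroup.mem_inf.mp (hDR ha)).2, ?_⟩
        exact cj_mem_smul Q u a (Subgroup.mem_inf.mp ha).2
      have hle : Nat.card D ≤ Nat.card ((P : Subgroup G) ⊓ (Q' : Subgroup G) : Subgroup G) :=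
        card_le_of_cj_sub D u _ hDu
      rcases hle.lt_or_eq with hlt' | heq
      · exact IH Q' hlt'
      · apply step1 P Q'
        · intro Q'' h
          apply IH
          rw [← heq] at h; exact h
        · intro hQ'P
          have h1 : (P : Subgroup G) ⊓ (Q' : Subgroup G) = P := by rw [hQ'P]; exact inf_idem _
          rw [h1] at heq
          exact absurd heq (ne_of_lt (card_lt_card_of_lt hDP))
        · have hmaple : D.map (MulAut.conj u⁻¹).toMonoidHom ≤ (P : Subgroup G) ⊓ (Q' : Subgroup G) := by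
            rw [map_conj_le_iff]
            intro y hy
            have := hDu (mem_cj (x := u) hy)
            rw [inv_inv]
            exact this
          have hD' : (P : Subgroup G) ⊓ (Q' : Subgroup G) = D.map (MulAut.conj u⁻¹).toMonoidHom := by
            symm
            apply Subgroup.eq_of_le_of_card_ge hmaple
            rw [card_map_conj, heq]
          rw [hD', normalizer_map_conj]
          have h1 : T0.map (MulAut.conj u⁻¹).toMonoidHom ≤
              (P : Subgroup G) ⊓ N.map (MulAut.conj u⁻¹).toMonoidHom := by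
            refine le_inf ?_ (Subgroup.map_mono hT0N)
            rw [map_conj_le_iff]
            intro y hy
            have := hRu y (hR hy)
            simpa using this
          have h2 : ¬ p ∣ (T0.map (MulAut.conj u⁻¹).toMonoidHom).relIndex
              (N.map (MulAut.conj u⁻¹).toMonoidHom) := by
            rw [relIndex_map_conj]; exact hT0i
          exact not_dvd_relIndex_of_le _ _ _ h1 h2

theorem Chain.spec {A : Set G} {L : List (Sylow p G × G)} (h : Chain P A L) :
    (∀ e ∈ L, Adm P e.1 e.2) ∧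
    (∀ (i : ℕ) (hi : i < L.length), cj (lprod (L.take i)) A ⊆
      (((P : Subgroup G) ⊓ ((L.get ⟨i, hi⟩).1 : Subgroup G) : Subgroup G) : Set G)) := by
  induction h with
  | nil A hA =>
    refine ⟨by simp, ?_⟩
    intro i hi
    simp at hi
  | cons A Q x l hadm hA _ ih =>
    refine ⟨?_, ?_⟩
    · intro e he
      rcases List.mem_cons.mp he with rfl | he
      · exact hadm
      · exact ih.1 e he
    · intro i hi
      cases i with
      | zero =>
        simp only [List.take_zero, lprod_nil, cj_one]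
        exact hA
      | succ j =>
        simp only [List.take_succ_cons, lprod_cons, cj_mul]
        have hj : j < l.length := by simpa using hi
        exact ih.2 j hj

/-- Alperin's fusion Theorem with the factors taken to be p-elements: let P be a Sylow p-subgroup of a finite group G, A a subset of P and g an element with g⁻¹Ag ⊆ P. Then g = x_1 ⋯ x_n where, for each i, Q_i is a Sylow p-subgroup with P ∩ Q_i a tame intersection (the normalizers in P and in Q_i of P ∩ Q_i are Sylow in N_G(P ∩ Q_i)), x_i normalizes P ∩ Q_i, x_i has p-power order unless Q_i = P, A ⊆ P ∩ Q_1, and (x_1 ⋯ x_i)⁻¹ A (x_1 ⋯ x_i) lies in P ∩ Q_{i+1} for i < n. -/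
theorem result {G : Type*} [Group G] [Finite G] {p : ℕ} [Fact p.Prime] (P : Sylow p G) (A : Set G) (g : G) (hA : A ⊆ (P : Set G)) (hAg : (fun a => g⁻¹ * a * g) '' A ⊆ (P : Set G)) : ∃ (n : ℕ) (Q : Fin n → Sylow p G) (x : Fin n → G), (List.ofFn x).prod = g ∧ (∀ i : Fin n, x i ∈ Subgroup.normalizer ((((P : Subgroup G) ⊓ (Q i : Subgroup G)) : Subgroup G) : Set G) ∧ ¬ p ∣ ((P : Subgroup G) ⊓ Subgroup.normalizer ((((P : Subgroup G) ⊓ (Q i : Subgroup G)) : Subgroup G) : Set G)).relIndex (Subgroup.normalizer ((((P : Subgroup G) ⊓ (Q i : Subgroup G)) : Subgroup G) : Set G)) ∧ ¬ p ∣ ((Q i : Subgroup G) ⊓ Subgroup.normalizer ((((P : Subgroup G) ⊓ (Q i : Subgroup G)) : Subgroup G) : Set G)).relIndex (Subgroup.normalizer ((((P : Subgroup G) ⊓ (Q i : Subgroup G)) : Subgroup G) : Set G)) ∧ ((Q i : Subgroup G) = (P : Subgroup G) ∨ ∃ k : ℕ, orderOf (x i) = p ^ k)) ∧ (∀ h : 0 < n, A ⊆ (((P : Subgroup G) ⊓ (Q ⟨0, h⟩ : Subgroup G) : Subgroup G) : Set G)) ∧ ∀ i : Fin n, ∀ h : i.val + 1 < n,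 (fun a => (((List.ofFn x).take (i.val + 1)).prod)⁻¹ * a * ((List.ofFn x).take (i.val + 1)).prod) '' A ⊆ (((P : Subgroup G) ⊓ (Q ⟨i.val + 1, h⟩ : Subgroup G) : Subgroup G) : Set G) := by
  obtain ⟨x, ⟨l, hl, hlx⟩, hxP⟩ := main P _ (g • P) rfl
  have hy : x⁻¹ * g ∈ Subgroup.normalizer ((P : Subgroup G) : Set G) :=
    Sylow.smul_eq_iff_mem_normalizer.mp (by rw [mul_smul]; exact hxP)
  set y := x⁻¹ * g with hydef
  have hxy : x * y = g := by rw [hydef]; group
  have hAsub : A ⊆ ((((P : Subgroup G) ⊓ ((g • P : Sylow p G) : Subgroup G)) : Subgroup G) : Set G) := by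
    intro a ha
    exact Subgroup.mem_inf.mpr ⟨hA ha, (mem_smul_sylow_iff P g a).mpr (hAg ⟨a, ha, rfl⟩)⟩
  have hchA : Chain P A l := hl.mono hAsub
  have hPN : (P : Subgroup G) ≤ Subgroup.normalizer ((P : Subgroup G) : Set G) := Subgroup.le_normalizer
  have hlast : Chain P (cj (lprod l) A) [(P, y)] := by
    refine Chain.cons _ P y [] ⟨?_, ?_, ?_, Or.inl rfl⟩ ?_ (Chain.nil _ ?_)
    · rw [inf_idem]; exact hy
    · rw [inf_idem, inf_of_le_left hPN]; exact sylow_not_dvd_relIndex P _ hPN
    · rw [inf_idem, inf_of_le_left hPN]; exact sylow_not_dvd_relIndex P _ hPN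
    · rw [inf_idem]; exact hchA.end_sub
    · rw [← cj_mul, hlx, hxy]; exact hAg
  have hL := hchA.append hlast
  set L := l ++ [(P, y)] with hLdef
  have hLprod : lprod L = g := by
    rw [hLdef, lprod_append, hlx, lprod_cons, lprod_nil, mul_one, hxy]
  obtain ⟨hadm, hsub⟩ := hL.spec
  have hofn : List.ofFn (fun i : Fin L.length => (L.get i).2) = L.map Prod.snd := by
    simp
  refine ⟨L.length, fun i => (L.get i).1, fun i => (L.get i).2, ?_, ?_, ?_, ?_⟩
  · rw [hofn]; exact hLprod
  · intro i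
    exact hadm (L.get i) (List.get_mem L i)
  · intro h
    have := hsub 0 h
    simpa [cj_one] using this
  · intro i h
    have := hsub (i.val + 1) h
    rw [hofn, ← List.map_take]
    exact this

end Cfsg.Agent.S2012
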