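import Cfsg.Statements.S4216
import Cfsg.Agent.S2012

set_option autoImplicit false
open Cfsg

namespace Cfsg.Agent.S4216

open scoped commutatorElement

section aux

variable {G : Type*} [Group G] [Finite G] {p : ℕ} [Fact p.Prime]

omit [Finite G] in
/-- a `p`-subgroup can be conjugated into a subgroup of index prime to `p` -/
theorem exists_conj_mem (M K : Subgroup G) (hM : IsPGroup p M) (hK : ¬ p ∣ K.index) :
    ∃ g : G, ∀ m ∈ M, g⁻¹ * m * g ∈ K := by
  obtain ⟨a, ha⟩ := hM.nonempty_fixed_point_of_prime_not_dvd_card (G ⧸ K) (by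
    rwa [← Subgroup.index_eq_card])
  induction a using QuotientGroup.induction_on with | _ g => ?_
  refine ⟨g, fun m hm => ?_⟩
  have h1 := ha ⟨m, hm⟩
  have h2 : ((m * g : G) : G ⧸ K) = (g : G ⧸ K) := h1
  rw [QuotientGroup.eq] at h2
  have h3 := K.inv_mem h2
  have h4 : ((m * g)⁻¹ * g)⁻¹ = g⁻¹ * m * g := by group
  rwa [h4] at h3

/-- the local step in Grün's theorem: for a tame intersection `H ≤ P`, a `p`-element `y` of
`N_G(H)` and `a ∈ H`, the commutator `[a, y]` lies in `P ∩ (P')^z` for some `z`. -/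
theorem local_step (P : Sylow p G) (H : Subgroup G) (hHP : H ≤ (P : Subgroup G))
    (hH : ¬ p ∣ ((P : Subgroup G) ⊓ Subgroup.normalizer (H : Set G)).relIndex
      (Subgroup.normalizer (H : Set G)))
    (y : G) (hy : y ∈ Subgroup.normalizer (H : Set G)) (k : ℕ) (hk : orderOf y = p ^ k)
    (a : G) (ha : a ∈ H) :
    ∃ z : G, ⁅a, y⁆ ∈ (P : Subgroup G) ⊓
      (⁅(P : Subgroup G), (P : Subgroup G)⁆).map (MulAut.conj z).toMonoidHom := by
  set N : Subgroup G := Subgroup.normalizer (H : Set G) with hN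
  -- the cyclic `p`-subgroup generated by `y` inside `N`
  have hYp : IsPGroup p (Subgroup.zpowers (⟨y, hy⟩ : N)) := by
    apply IsPGroup.of_card (n := k)
    rw [Nat.card_zpowers, ← hk]
    exact Subgroup.orderOf_mk y hy
  obtain ⟨n, hn⟩ := exists_conj_mem (Subgroup.zpowers (⟨y, hy⟩ : N))
    (((P : Subgroup G) ⊓ N).subgroupOf N) hYp hH
  have hs : (n : G)⁻¹ * y * (n : G) ∈ (P : Subgroup G) := by
    have := hn ⟨y, hy⟩ (Subgroup.mem_zpowers _)
    rw [Subgroup.mem_subgroupOf] at this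
    exact this.1
  have hnN : (n : G)⁻¹ ∈ N := N.inv_mem n.2
  have ha' : (n : G)⁻¹ * a * (n : G) ∈ (P : Subgroup G) := by
    have := (Subgroup.mem_normalizer_iff.mp hnN a).mp ha
    rw [inv_inv] at this
    exact hHP this
  refine ⟨(n : G), ?_, ?_⟩
  · -- `[a, y] ∈ H ≤ P`
    have h1 : y * a⁻¹ * y⁻¹ ∈ H := (Subgroup.mem_normalizer_iff.mp hy a⁻¹).mp (H.inv_mem ha)
    have : ⁅a, y⁆ = a * (y * a⁻¹ * y⁻¹) := by rw [commutatorElement_def]; group
    rw [this]; exact hHP (H.mul_mem ha h1)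
  · refine ⟨⁅(n : G)⁻¹ * a * (n : G), (n : G)⁻¹ * y * (n : G)⁆,
      Subgroup.commutator_mem_commutator ha' hs, ?_⟩
    simp only [MulEquiv.coe_toMonoidHom, MulAut.conj_apply, commutatorElement_def]
    group

end aux

/-- Grün's first Theorem: if `P` is a Sylow `p`-subgroup of the finite group `G`, then `P ∩ G'` is the subgroup generated by `P ∩ N_G(P)'` together with the subgroups `P ∩ z P' z⁻¹` for all `z ∈ G`, where `'` denotes the derived subgroup and `N_G(P)` the normalizer of `P`. -/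
theorem result {G : Type*} [Group G] [Finite G] {p : ℕ} [Fact p.Prime] (P : Sylow p G) : (P : Subgroup G) ⊓ commutator G = ((P : Subgroup G) ⊓ ⁅Subgroup.normalizer ((P : Subgroup G) : Set G), Subgroup.normalizer ((P : Subgroup G) : Set G)⁆) ⊔ ⨆ z : G, (P : Subgroup G) ⊓ (⁅(P : Subgroup G), (P : Subgroup G)⁆).map (MulAut.conj z).toMonoidHom := by
  have hGc : ∀ (H K : Subgroup G), ⁅H, K⁆ ≤ commutator G := by
    intro H K
    rw [commutator_def]
    exact Subgroup.commutator_mono le_top le_top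
  apply le_antisymm
  · rw [inf_comm, Subgroup.commutator_inf_eq_focalSubgroup, Subgroup.focalSubgroup_def,
      Subgroup.closure_le]
    rintro g ⟨hgP, x, hxP, u, rfl⟩
    set R : Subgroup G := ((P : Subgroup G) ⊓ ⁅Subgroup.normalizer ((P : Subgroup G) : Set G), Subgroup.normalizer ((P : Subgroup G) : Set G)⁆) ⊔ ⨆ z : G, (P : Subgroup G) ⊓ (⁅(P : Subgroup G), (P : Subgroup G)⁆).map (MulAut.conj z).toMonoidHom with hR
    show ⁅x, u⁆ ∈ R
    have huxP : u * x * u⁻¹ ∈ (P : Subgroup G) := by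
      have h1 : x⁻¹ * ⁅x, u⁆ ∈ (P : Subgroup G) :=
        Subgroup.mul_mem _ (Subgroup.inv_mem _ hxP) hgP
      have h2 : u * x * u⁻¹ = (x⁻¹ * ⁅x, u⁆)⁻¹ := by rw [commutatorElement_def]; group
      rw [h2]; exact Subgroup.inv_mem _ h1
    obtain ⟨n, Q, y, hprod, hy, h0, hstep⟩ := Cfsg.Agent.S2012.result P ({x} : Set G) u⁻¹
      (by intro a ha; rw [Set.mem_singleton_iff] at ha; subst ha; exact hxP)
      (by
        rintro _ ⟨a, ha, rfl⟩
        rw [Set.mem_singleton_iff] at ha; subst ha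
        show u⁻¹⁻¹ * a * u⁻¹ ∈ (P : Subgroup G)
        rw [inv_inv]; exact huxP)
    set L := List.ofFn y with hL
    have hlen : L.length = n := by simp [hL]
    have hmem : ∀ (i : ℕ) (hi : i < n),
        ((L.take i).prod)⁻¹ * x * (L.take i).prod ∈ (P : Subgroup G) ⊓ (Q ⟨i, hi⟩ : Subgroup G) := by
      intro i hi
      cases i with
      | zero =>
        simp only [List.take_zero, List.prod_nil, inv_one, one_mul, mul_one]
        exact h0 hi (Set.mem_singleton x)
      | succ j =>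
        exact hstep ⟨j, by omega⟩ hi ⟨x, Set.mem_singleton x, rfl⟩
    have key : ∀ i : ℕ, i ≤ n →
        x * (((L.take i).prod)⁻¹ * x * (L.take i).prod)⁻¹ ∈ R := by
      intro i
      induction i with
      | zero => intro _; simp
      | succ i ih =>
        intro hi
        have hi' : i < n := hi
        have ih' := ih (by omega)
        obtain ⟨hyN, ht1, ht2, hcase⟩ := hy ⟨i, hi'⟩
        have htake : L.take (i + 1) = L.take i ++ [y ⟨i, hi'⟩] := by
          rw [List.take_succ_eq_append_getElem (by rw [hlen]; exact hi')]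
          simp [hL]
        rw [htake, List.prod_append, List.prod_singleton]
        set w := (L.take i).prod with hw
        set a := w⁻¹ * x * w with ha
        have haH : a ∈ (P : Subgroup G) ⊓ (Q ⟨i, hi'⟩ : Subgroup G) := hmem i hi'
        have hsplit : x * ((w * y ⟨i, hi'⟩)⁻¹ * x * (w * y ⟨i, hi'⟩))⁻¹ =
            (x * a⁻¹) * ⁅a, (y ⟨i, hi'⟩)⁻¹⁆ := by
          rw [commutatorElement_def, ha]; group
        rw [hsplit]
        refine R.mul_mem ih' ?_
        rcases hcase with hQP | ⟨k, hk⟩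
        · -- `Q i = P`
          have hHP : (P : Subgroup G) ⊓ (Q ⟨i, hi'⟩ : Subgroup G) = (P : Subgroup G) := by
            rw [hQP, inf_idem]
          rw [hHP] at hyN haH
          have h1 : ⁅a, (y ⟨i, hi'⟩)⁻¹⁆ ∈
              ⁅Subgroup.normalizer ((P : Subgroup G) : Set G),
                Subgroup.normalizer ((P : Subgroup G) : Set G)⁆ :=
            Subgroup.commutator_mem_commutator (Subgroup.le_normalizer haH)
              (Subgroup.inv_mem _ hyN)
          have h2 : ⁅a, (y ⟨i, hi'⟩)⁻¹⁆ ∈ (P : Subgroup G) := by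
            have hyN' : (y ⟨i, hi'⟩)⁻¹ ∈ Subgroup.normalizer ((P : Subgroup G) : Set G) :=
              Subgroup.inv_mem _ hyN
            have h3 := (Subgroup.mem_normalizer_iff.mp hyN' a⁻¹).mp (Subgroup.inv_mem _ haH)
            have : ⁅a, (y ⟨i, hi'⟩)⁻¹⁆ = a * ((y ⟨i, hi'⟩)⁻¹ * a⁻¹ * ((y ⟨i, hi'⟩)⁻¹)⁻¹) := by
              rw [commutatorElement_def]; group
            rw [this]; exact Subgroup.mul_mem _ haH h3
          exact (le_sup_left : _ ≤ R) ⟨h2, h1⟩
        · have hk' : orderOf (y ⟨i, hi'⟩)⁻¹ = p ^ k := by rw [orderOf_inv, hk]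
          obtain ⟨z, hz⟩ := local_step P _ inf_le_left ht1 (y ⟨i, hi'⟩)⁻¹
            (Subgroup.inv_mem _ hyN) k hk' a haH
          refine (le_sup_right : _ ≤ R) ?_
          exact (le_iSup (fun z : G => (P : Subgroup G) ⊓
            (⁅(P : Subgroup G), (P : Subgroup G)⁆).map (MulAut.conj z).toMonoidHom) z) hz
    have hfin := key n le_rfl
    have htn : L.take n = L := by rw [← hlen]; exact List.take_length
    rw [htn, hprod] at hfin
    have : ⁅x, u⁆ = x * (u⁻¹⁻¹ * x * u⁻¹)⁻¹ := by rw [commutatorElement_def]; group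
    rw [this]; exact hfin
  · apply sup_le
    · exact inf_le_inf_left _ (hGc _ _)
    · refine iSup_le fun z => inf_le_inf_left _ ?_
      rw [Subgroup.map_commutator]
      exact hGc _ _

end Cfsg.Agent.S4216
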