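import Mathlib
import Cfsg.Prelude.Def_Characters
import Cfsg.Agent.Lib.Helper2.Orthogonality

set_option autoImplicit false

namespace Cfsg

namespace Agent.S4475

open Matrix
open scoped ComplexConjugate

theorem trace_eq_sum_entries (n : ℕ)
    (f : Matrix (Fin n) (Fin n) ℂ →ₗ[ℂ] Matrix (Fin n) (Fin n) ℂ) :
    LinearMap.trace ℂ _ f = ∑ i, ∑ j, (f (Matrix.single i j 1)) i j := by
  classical
  rw [LinearMap.trace_eq_matrix_trace ℂ (Matrix.stdBasis ℂ (Fin n) (Fin n)), Matrix.trace,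
    Fintype.sum_prod_type]
  apply Finset.sum_congr rfl; intro i _
  apply Finset.sum_congr rfl; intro j _
  rw [Matrix.diag_apply, LinearMap.toMatrix_apply, Matrix.stdBasis_eq_single]
  rfl

theorem sandwich_entry (n : ℕ) (B C : Matrix (Fin n) (Fin n) ℂ) (i j k l : Fin n) :
    (B * Matrix.single i j (1:ℂ) * C) k l = B k i * C j l := by
  rw [Matrix.mul_apply]
  rw [Finset.sum_eq_single j]
  · rw [Matrix.mul_single_apply_same, mul_one]
  · intro b _ hb
    rw [Matrix.mul_single_apply_of_ne _ _ _ _ _ hb, zero_mul]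
  · intro h; exact absurd (Finset.mem_univ _) h

section

variable {G : Type*} [Group G] [Fintype G] {n : ℕ} (ρ : Representation ℂ G (Fin n → ℂ))

/-- the matrix of `ρ g` -/
noncomputable def X (g : G) : Matrix (Fin n) (Fin n) ℂ := LinearMap.toMatrix' (ρ g)

theorem X_mul (g h : G) : X ρ (g * h) = X ρ g * X ρ h := by
  unfold X
  rw [map_mul, LinearMap.toMatrix'_mul]

theorem trace_X (g : G) : (X ρ g).trace = ρ.character g := by
  unfold X
  rw [Representation.character, ← LinearMap.toMatrix_eq_toMatrix',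
    ← LinearMap.trace_eq_matrix_trace]

/-- the invariant forms -/
def Inv : Submodule ℂ (Matrix (Fin n) (Fin n) ℂ) where
  carrier := {A | ∀ g : G, (X ρ g)ᵀ * A * X ρ g = A}
  add_mem' := by
    intro A B hA hB g
    rw [Matrix.mul_add, Matrix.add_mul, hA g, hB g]
  zero_mem' := by
    intro g
    rw [Matrix.mul_zero, Matrix.zero_mul]
  smul_mem' := by
    intro c A hA g
    rw [Matrix.mul_smul, Matrix.smul_mul, hA g]

theorem mem_Inv (A : Matrix (Fin n) (Fin n) ℂ) :
    A ∈ Inv ρ ↔ ∀ g : G, (X ρ g)ᵀ * A * X ρ g = A := Iff.rfl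

/-- the averaging operator -/
noncomputable def P : Matrix (Fin n) (Fin n) ℂ →ₗ[ℂ] Matrix (Fin n) (Fin n) ℂ where
  toFun A := (Nat.card G : ℂ)⁻¹ • ∑ s : G, (X ρ s)ᵀ * A * X ρ s
  map_add' := by
    intro A B
    rw [← smul_add, ← Finset.sum_add_distrib]
    congr 1
    apply Finset.sum_congr rfl; intro s _
    rw [Matrix.mul_add, Matrix.add_mul]
  map_smul' := by
    intro c A
    simp only [Matrix.mul_smul, Matrix.smul_mul, ← Finset.smul_sum, RingHom.id_apply]
    rw [smul_comm]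

theorem P_apply (A : Matrix (Fin n) (Fin n) ℂ) :
    P ρ A = (Nat.card G : ℂ)⁻¹ • ∑ s : G, (X ρ s)ᵀ * A * X ρ s := rfl

theorem P_mem (A : Matrix (Fin n) (Fin n) ℂ) : P ρ A ∈ Inv ρ := by
  intro g
  rw [P_apply, Matrix.mul_smul, Matrix.smul_mul, Finset.mul_sum, Finset.sum_mul]
  congr 1
  apply Fintype.sum_equiv (Equiv.mulRight g)
  intro s
  rw [Equiv.coe_mulRight, X_mul, Matrix.transpose_mul]
  simp only [Matrix.mul_assoc]

theorem card_ne : (Nat.card G : ℂ) ≠ 0 := by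
  exact_mod_cast Nat.card_pos.ne'

theorem P_id (A : Matrix (Fin n) (Fin n) ℂ) (hA : A ∈ Inv ρ) : P ρ A = A := by
  rw [P_apply, Finset.sum_congr rfl (fun s _ => hA s), Finset.sum_const, Finset.card_univ,
    ← Nat.card_eq_fintype_card, ← Nat.cast_smul_eq_nsmul ℂ, smul_smul,
    inv_mul_cancel₀ (card_ne (G := G)), one_smul]

theorem P_isProj : LinearMap.IsProj (Inv ρ) (P ρ) :=
  ⟨P_mem ρ, P_id ρ⟩

theorem trace_P : LinearMap.trace ℂ _ (P ρ)
    = (Nat.card G : ℂ)⁻¹ * ∑ s : G, ρ.character s * ρ.character s := by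
  rw [trace_eq_sum_entries]
  have h1 : ∀ i j : Fin n, (P ρ (Matrix.single i j 1)) i j
      = (Nat.card G : ℂ)⁻¹ * ∑ s : G, (X ρ s) i i * (X ρ s) j j := by
    intro i j
    rw [P_apply, Matrix.smul_apply, Matrix.sum_apply, smul_eq_mul]
    congr 1
    apply Finset.sum_congr rfl; intro s _
    rw [sandwich_entry, Matrix.transpose_apply]
  simp only [h1, ← Finset.mul_sum]
  congr 1
  calc ∑ i : Fin n, ∑ j : Fin n, ∑ s : G, (X ρ s) i i * (X ρ s) j j
      = ∑ i : Fin n, ∑ s : G, ∑ j : Fin n, (X ρ s) i i * (X ρ s) j j := by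
        apply Finset.sum_congr rfl; intro i _; exact Finset.sum_comm
    _ = ∑ s : G, ∑ i : Fin n, ∑ j : Fin n, (X ρ s) i i * (X ρ s) j j := Finset.sum_comm
    _ = ∑ s : G, ρ.character s * ρ.character s := by
        apply Finset.sum_congr rfl; intro s _
        rw [← trace_X, Matrix.trace, Finset.sum_mul_sum]
        rfl

/-- transpose as a linear map -/
noncomputable def T : Matrix (Fin n) (Fin n) ℂ →ₗ[ℂ] Matrix (Fin n) (Fin n) ℂ :=
  (Matrix.transposeLinearEquiv (Fin n) (Fin n) ℂ ℂ).toLinearMap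

theorem T_apply (A : Matrix (Fin n) (Fin n) ℂ) : T (n := n) A = Aᵀ := rfl

theorem trace_TP : LinearMap.trace ℂ _ (T ∘ₗ P ρ)
    = (Nat.card G : ℂ)⁻¹ * ∑ s : G, ρ.character (s * s) := by
  rw [trace_eq_sum_entries]
  have h1 : ∀ i j : Fin n, ((T ∘ₗ P ρ) (Matrix.single i j 1)) i j
      = (Nat.card G : ℂ)⁻¹ * ∑ s : G, (X ρ s) i j * (X ρ s) j i := by
    intro i j
    rw [LinearMap.comp_apply, T_apply, Matrix.transpose_apply, P_apply, Matrix.smul_apply,
      Matrix.sum_apply, smul_eq_mul]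
    congr 1
    apply Finset.sum_congr rfl; intro s _
    rw [sandwich_entry, Matrix.transpose_apply]
  simp only [h1, ← Finset.mul_sum]
  congr 1
  calc ∑ i : Fin n, ∑ j : Fin n, ∑ s : G, (X ρ s) i j * (X ρ s) j i
      = ∑ i : Fin n, ∑ s : G, ∑ j : Fin n, (X ρ s) i j * (X ρ s) j i := by
        apply Finset.sum_congr rfl; intro i _; exact Finset.sum_comm
    _ = ∑ s : G, ∑ i : Fin n, ∑ j : Fin n, (X ρ s) i j * (X ρ s) j i := Finset.sum_comm
    _ = ∑ s : G, ρ.character (s * s) := by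
        apply Finset.sum_congr rfl; intro s _
        rw [← trace_X, X_mul, Matrix.trace]
        apply Finset.sum_congr rfl; intro i _
        rw [Matrix.diag_apply, Matrix.mul_apply]

theorem transpose_mem (A : Matrix (Fin n) (Fin n) ℂ) (hA : A ∈ Inv ρ) : Aᵀ ∈ Inv ρ := by
  intro g
  have := congrArg Matrix.transpose (hA g)
  rw [Matrix.transpose_mul, Matrix.transpose_mul, Matrix.transpose_transpose] at this
  rw [Matrix.mul_assoc]
  exact this

theorem char_sq_sum (hirr : ρ.IsIrreducible) (hreal : ∀ g : G, (ρ.character g).im = 0) :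
    (Nat.card G : ℂ)⁻¹ * ∑ s : G, ρ.character s * ρ.character s = 1 := by
  have h := Cfsg.Agent.Lib.Helper2.classInner_irr_self ρ
  rw [Cfsg.Agent.Lib.Helper2.classInner_def] at h
  rw [← h]
  congr 1
  apply Finset.sum_congr rfl; intro s _
  congr 1
  exact (Complex.conj_eq_iff_im.mpr (hreal s)).symm

theorem finrank_Inv (hirr : ρ.IsIrreducible) (hreal : ∀ g : G, (ρ.character g).im = 0) :
    Module.finrank ℂ (Inv ρ) = 1 := by
  have h := (P_isProj ρ).trace
  rw [trace_P, char_sq_sum ρ hirr hreal] at h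
  exact_mod_cast h.symm

end

theorem result {G : Type*} [Group G] [Fintype G] (n : ℕ) (ρ : Representation ℂ G (Fin n → ℂ)) (hirr : ρ.IsIrreducible) (hreal : ∀ g : G, (ρ.character g).im = 0) : (∃ M : Matrix (Fin n) (Fin n) ℂ, M ≠ 0 ∧ ∀ g : G, (LinearMap.toMatrix' (ρ g)).transpose * M * LinearMap.toMatrix' (ρ g) = M) ∧ ∀ M : Matrix (Fin n) (Fin n) ℂ, (∀ g : G, (LinearMap.toMatrix' (ρ g)).transpose * M * LinearMap.toMatrix' (ρ g) = M) → M.transpose = ((Nat.card G : ℂ)⁻¹ * ∑ s : G, ρ.character (s * s)) • M := by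
  obtain ⟨⟨M₀, hM₀mem⟩, hM₀ne, hM₀span⟩ := finrank_eq_one_iff'.mp (finrank_Inv ρ hirr hreal)
  have hM₀ne' : M₀ ≠ 0 := by
    intro h; apply hM₀ne; exact Subtype.ext h
  -- every element of Inv is a multiple of M₀
  have hspan : ∀ A ∈ Inv ρ, ∃ c : ℂ, c • M₀ = A := by
    intro A hA
    obtain ⟨c, hc⟩ := hM₀span ⟨A, hA⟩
    exact ⟨c, congrArg Subtype.val hc⟩
  obtain ⟨ε, hε⟩ := hspan _ (transpose_mem ρ M₀ hM₀mem)
  have hall : ∀ A ∈ Inv ρ, Aᵀ = ε • A := by
    intro A hA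
    obtain ⟨c, rfl⟩ := hspan A hA
    rw [Matrix.transpose_smul, ← hε, smul_comm]
  have hTP : T ∘ₗ P ρ = ε • P ρ := by
    apply LinearMap.ext; intro A
    rw [LinearMap.comp_apply, T_apply, LinearMap.smul_apply]
    exact hall _ (P_mem ρ A)
  have hε' : ε = (Nat.card G : ℂ)⁻¹ * ∑ s : G, ρ.character (s * s) := by
    have h := trace_TP ρ
    rw [hTP, map_smul, trace_P, char_sq_sum ρ hirr hreal, smul_eq_mul, mul_one] at h
    exact h
  refine ⟨⟨M₀, hM₀ne', hM₀mem⟩, ?_⟩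
  intro M hM
  rw [← hε']
  exact hall M hM

end Agent.S4475

end Cfsg
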