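import Mathlib
import Cfsg.Statements.S0923
import Cfsg.Agent.Lib.Helper7.SecondMain
import Cfsg.Agent.Lib.Helper25.GenOrtho
import Cfsg.Agent.S0919

set_option autoImplicit false
open scoped ComplexConjugate
open Cfsg

namespace Cfsg.Agent.S0923

open Cfsg.Agent.Lib.Helper7 Cfsg.Agent.Lib.Helper24 Cfsg.Agent.Lib.Helper2

/-- the `b`-part of a class function through the idempotent coefficients of `b` -/
theorem sum_blockCoeff_mul_eq_blockPart {K : Type*} [Group K] [Fintype K]
    (b : Set (Cfsg.IrrCharacter K)) (ϑ : K → ℂ) (hϑ : Cfsg.IsClassFunction K ϑ) (z : K) :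
    ∑ k : K, Cfsg.blockCoeff b k * ϑ (k * z) = Cfsg.blockPart b ϑ z := by
  classical
  haveI : Fintype (Cfsg.IrrCharacter K) := Fintype.ofFinite _
  have hK : (Nat.card K : ℂ) ≠ 0 := by exact_mod_cast Nat.card_pos.ne'
  have hbp : Cfsg.blockPart b ϑ z
      = ∑ᶠ ψ ∈ b, Cfsg.classInner ϑ (ψ : K → ℂ) * (ψ : K → ℂ) z := by
    unfold Cfsg.blockPart
    congr!
  rw [hbp, finsum_mem_eq_sum_ite]
  -- expand `ϑ`
  have hexp := classFunction_expansion ϑ hϑ
  have h1 : ∀ k : K, ϑ (k * z)
      = ∑ ψ' : Cfsg.IrrCharacter K, Cfsg.classInner ϑ (ψ' : K → ℂ) * (ψ' : K → ℂ) (z * k) := by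
    intro k
    have e : ϑ (k * z) = ϑ (z * k) := by
      have := hϑ (k * z) z
      rw [← this]; congr 1; group
    rw [e]
    conv_lhs => rw [hexp]
    simp only [Finset.sum_apply, Pi.smul_apply, smul_eq_mul]
  have h2 : ∀ k : K, Cfsg.blockCoeff b k
      = (Nat.card K : ℂ)⁻¹ * ∑ ψ : Cfsg.IrrCharacter K,
          if ψ ∈ b then (ψ : K → ℂ) 1 * (ψ : K → ℂ) k⁻¹ else 0 := by
    intro k
    unfold Cfsg.blockCoeff
    rw [finsum_mem_eq_sum_ite]
    congr 1
    apply Finset.sum_congr rfl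
    intro ψ _
    by_cases hψ : ψ ∈ b
    · rw [if_pos hψ, if_pos hψ, IrrCharacter.apply_inv]
    · rw [if_neg hψ, if_neg hψ]
  simp only [h1, h2]
  -- exchange the sums
  have h3 : ∀ k : K, ((Nat.card K : ℂ)⁻¹ * ∑ ψ : Cfsg.IrrCharacter K,
        if ψ ∈ b then (ψ : K → ℂ) 1 * (ψ : K → ℂ) k⁻¹ else 0)
      * ∑ ψ' : Cfsg.IrrCharacter K, Cfsg.classInner ϑ (ψ' : K → ℂ) * (ψ' : K → ℂ) (z * k)
      = ∑ ψ : Cfsg.IrrCharacter K, ∑ ψ' : Cfsg.IrrCharacter K,
          (Nat.card K : ℂ)⁻¹ * ((if ψ ∈ b then (ψ : K → ℂ) 1 else 0)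
            * Cfsg.classInner ϑ (ψ' : K → ℂ))
            * ((ψ' : K → ℂ) (z * k) * (ψ : K → ℂ) k⁻¹) := by
    intro k
    rw [mul_assoc, Finset.sum_mul_sum, Finset.mul_sum]
    apply Finset.sum_congr rfl
    intro ψ _
    rw [Finset.mul_sum]
    apply Finset.sum_congr rfl
    intro ψ' _
    by_cases hψ : ψ ∈ b
    · simp only [if_pos hψ]; ring
    · simp only [if_neg hψ]; ring
  rw [Finset.sum_congr rfl (fun k _ => h3 k), Finset.sum_comm]
  apply Finset.sum_congr rfl
  intro ψ _
  rw [Finset.sum_comm]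
  have h4 : ∀ ψ' : Cfsg.IrrCharacter K, ∑ k : K,
      (Nat.card K : ℂ)⁻¹ * ((if ψ ∈ b then (ψ : K → ℂ) 1 else 0)
            * Cfsg.classInner ϑ (ψ' : K → ℂ))
            * ((ψ' : K → ℂ) (z * k) * (ψ : K → ℂ) k⁻¹)
      = (Nat.card K : ℂ)⁻¹ * ((if ψ ∈ b then (ψ : K → ℂ) 1 else 0)
            * Cfsg.classInner ϑ (ψ' : K → ℂ))
          * (if (ψ' : K → ℂ) = (ψ : K → ℂ) then (Nat.card K : ℂ) * (ψ' : K → ℂ) z / (ψ' : K → ℂ) 1
              else 0) := by
    intro ψ'
    rw [← Finset.mul_sum, Cfsg.Agent.Lib.Helper25.sum_char_mul_char_inv ψ'.2 ψ.2 z]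
  rw [Finset.sum_congr rfl (fun ψ' _ => h4 ψ')]
  rw [Finset.sum_eq_single ψ]
  · rw [if_pos rfl]
    have hne : (ψ : K → ℂ) 1 ≠ 0 := Cfsg.Agent.Lib.Helper25.irr_one_ne_zero ψ.2
    by_cases hψ : ψ ∈ b
    · simp only [if_pos hψ]
      field_simp
    · simp only [if_neg hψ]
      simp
  · intro ψ' _ hne
    rw [if_neg (fun h => hne (Subtype.ext h)), mul_zero]
  · intro h; exact absurd (Finset.mem_univ _) h

/-- Brauer's Second Main Theorem, in terms of ordinary characters. Let x be a p-element of the finite group G with centralizer C, let χ lie in the block B of G and let b be a block of C that does not induce B (relative to a maximal ideal M of the algebraic integers containing p). Form the class function ϑ(c) = χ(x c) on C and its b-part (the sum over ψ ∈ b of the inner product of ϑ with ψ, times ψ). Then the b-part of ϑ vanishes at every p-regular element of C. (Equivalently, the generalized decomposition numbers of χ with respect to b are zero.) -/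
theorem result {G : Type*} [Group G] [Finite G] (p : ℕ) [Fact p.Prime] (M : Ideal Cfsg.AlgInt) (hM : Cfsg.IsPModular p M) (x : G) (hx : ∃ k : ℕ, orderOf x = p ^ k) (B : Set (Cfsg.IrrCharacter G)) (hB : Cfsg.IsPBlock M B) (χ : Cfsg.IrrCharacter G) (hχ : χ ∈ B) (b : Set (Cfsg.IrrCharacter (Subgroup.centralizer ({x} : Set G)))) (hb : Cfsg.IsPBlock M b) (hnot : ¬ Cfsg.IsInducedBlock M (Subgroup.centralizer ({x} : Set G)) b B) (y : Subgroup.centralizer ({x} : Set G)) (hy : ¬ p ∣ orderOf y) : Cfsg.blockPart b (fun c : Subgroup.centralizer ({x} : Set G) => (χ : G → ℂ) (x * (c : G))) y = 0 := by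
  classical
  letI : Fintype G := Fintype.ofFinite G
  letI : Fintype (Subgroup.centralizer ({x} : Set G)) := Fintype.ofFinite _
  obtain ⟨s, hs⟩ := hx
  -- the induced block is defined
  have hCP : Subgroup.centralizer ((Subgroup.zpowers x : Subgroup G) : Set G)
      = Subgroup.centralizer ({x} : Set G) := by
    rw [Subgroup.zpowers_eq_closure, Subgroup.centralizer_closure]
  have hxC : x ∈ Subgroup.centralizer ({x} : Set G) := by
    rw [Subgroup.mem_centralizer_singleton_iff]
  have hP : IsPGroup p (Subgroup.zpowers x) := by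
    apply IsPGroup.of_card (n := s)
    rw [Nat.card_zpowers, hs]
  obtain ⟨B₁, hind₁⟩ := Cfsg.Agent.S0919.result p M hM (Subgroup.zpowers x)
    (Subgroup.centralizer ({x} : Set G)) hP
    ((Subgroup.zpowers_le).mpr hxC) (le_of_eq hCP)
    (by rw [← hCP]; exact Subgroup.centralizer_le_normalizer _) b hb
  have hχB₁ : χ ∉ B₁ := by
    intro hχ₁
    apply hnot
    have e1 := eq_blockOf_of_mem hM hB hχ
    have e2 := eq_blockOf_of_mem hM hind₁.2.1 hχ₁
    rw [e1, ← e2]
    exact hind₁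
  -- the element `x * y`
  have hcomm : ∀ t : Subgroup.centralizer ({x} : Set G), Commute x (t : G) := by
    intro t
    exact (Subgroup.mem_centralizer_singleton_iff.mp t.2).symm
  have hycomm : Commute x (y : G) := hcomm y
  have hyord : ¬ p ∣ orderOf (y : G) := by rw [Subgroup.orderOf_coe]; exact hy
  have hpp : Cfsg.IsPPart p (x * (y : G)) x := ⟨(y : G), rfl, hycomm, ⟨s, hs⟩, hyord⟩
  have hmain := sum_blockCoeff_mul_irr_eq_zero hM (Subgroup.centralizer ({x} : Set G)) b B₁ hind₁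
    (⟨x * (y : G), (Subgroup.centralizer ({x} : Set G)).mul_mem hxC y.2⟩ :
      Subgroup.centralizer ({x} : Set G)) x hpp (le_refl _) χ hχB₁
  -- the class function
  have hϑcf : Cfsg.IsClassFunction (Subgroup.centralizer ({x} : Set G))
      (fun c : Subgroup.centralizer ({x} : Set G) => (χ : G → ℂ) (x * (c : G))) := by
    intro g t
    have ht : Commute x (t : G) := hcomm t
    have e : x * ((t * g * t⁻¹ : Subgroup.centralizer ({x} : Set G)) : G)
        = (t : G) * (x * (g : G)) * (t : G)⁻¹ := by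
      push_cast
      calc x * ((t : G) * (g : G) * (t : G)⁻¹) = (x * (t : G)) * (g : G) * (t : G)⁻¹ := by group
        _ = ((t : G) * x) * (g : G) * (t : G)⁻¹ := by rw [ht.eq]
        _ = (t : G) * (x * (g : G)) * (t : G)⁻¹ := by group
    show (χ : G → ℂ) (x * ((t * g * t⁻¹ : Subgroup.centralizer ({x} : Set G)) : G))
      = (χ : G → ℂ) (x * (g : G))
    rw [e]
    exact IrrCharacter.isClassFunction χ _ _
  rw [← sum_blockCoeff_mul_eq_blockPart b _ hϑcf y, ← hmain]
  apply Finset.sum_congr rfl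
  intro k _
  congr 1
  show (χ : G → ℂ) (x * ((k * y : Subgroup.centralizer ({x} : Set G)) : G))
    = (χ : G → ℂ) (((k * ⟨x * (y : G), _⟩ : Subgroup.centralizer ({x} : Set G)) : G))
  have e : x * ((k : G) * (y : G)) = (k : G) * (x * (y : G)) := by
    calc x * ((k : G) * (y : G)) = (x * (k : G)) * (y : G) := by group
      _ = ((k : G) * x) * (y : G) := by rw [(hcomm k).eq]
      _ = (k : G) * (x * (y : G)) := by group
  push_cast
  rw [e]

end Cfsg.Agent.S0923
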