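import Mathlib
import Cfsg.Statements.S0924
import Cfsg.Agent.S0923
import Cfsg.Agent.S0917
import Cfsg.Agent.S0912

set_option autoImplicit false
open scoped ComplexConjugate
open Cfsg

namespace Cfsg.Agent.S0924

open Cfsg.Agent.Lib.Helper7 Cfsg.Agent.Lib.Helper24 Cfsg.Agent.Lib.Helper2

/-- a function summing to zero over every block sums to zero -/
theorem sum_eq_zero_of_block_sums {K : Type*} [Group K] [Finite K] {p : ℕ}
    (M : Ideal Cfsg.AlgInt) (hM : Cfsg.IsPModular p M)
    [Fintype (Cfsg.IrrCharacter K)] (f : Cfsg.IrrCharacter K → ℂ)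
    (h : ∀ ψ₀ : Cfsg.IrrCharacter K,
      ∑ᶠ ψ ∈ Cfsg.blockOf M (ψ₀ : K → ℂ), f ψ = 0) :
    ∑ ψ : Cfsg.IrrCharacter K, f ψ = 0 := by
  classical
  letI : Fintype K := Fintype.ofFinite K
  rw [← Finset.sum_fiberwise_of_maps_to (s := Finset.univ)
    (t := Finset.univ.image (fun ψ : Cfsg.IrrCharacter K => Cfsg.blockOf M (ψ : K → ℂ)))
    (g := fun ψ : Cfsg.IrrCharacter K => Cfsg.blockOf M (ψ : K → ℂ))
    (fun ψ _ => Finset.mem_image_of_mem _ (Finset.mem_univ ψ))]
  apply Finset.sum_eq_zero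
  intro b hb
  obtain ⟨ψ₀, _, rfl⟩ := Finset.mem_image.mp hb
  rw [← h ψ₀, finsum_mem_eq_sum_ite, Finset.sum_filter]
  apply Finset.sum_congr rfl
  intro ψ _
  have hiff : Cfsg.blockOf M (ψ : K → ℂ) = Cfsg.blockOf M (ψ₀ : K → ℂ)
      ↔ ψ ∈ Cfsg.blockOf M (ψ₀ : K → ℂ) := by
    constructor
    · intro e
      rw [← e]
      exact mem_blockOf_self hM ψ
    · intro hmem
      exact (eq_blockOf_of_mem hM ⟨ψ₀, rfl⟩ hmem).symm
  by_cases hψ : ψ ∈ Cfsg.blockOf M (ψ₀ : K → ℂ)
  · rw [if_pos hψ, if_pos (hiff.mpr hψ)]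
  · rw [if_neg hψ, if_neg (fun e => hψ (hiff.mp e))]

/-- Let χ be an irreducible character of the finite group G and g ∈ G, and fix a maximal ideal M of the algebraic integers containing the prime p. If the p-part of g is contained in no defect group of the block of χ, then χ g = 0. -/
theorem result {G : Type*} [Group G] [Finite G] (p : ℕ) [Fact p.Prime] (M : Ideal Cfsg.AlgInt) (hM : Cfsg.IsPModular p M) (χ : Cfsg.IrrCharacter G) (g x : G) (hx : Cfsg.IsPPart p g x) (hD : ∀ D : Subgroup G, Cfsg.IsDefectGroup p M (Cfsg.blockOf M (χ : G → ℂ)) D → x ∉ D) : (χ : G → ℂ) g = 0 := by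
  classical
  letI : Fintype G := Fintype.ofFinite G
  letI : Fintype (Subgroup.centralizer ({x} : Set G)) := Fintype.ofFinite _
  haveI : Fintype (Cfsg.IrrCharacter (Subgroup.centralizer ({x} : Set G))) := Fintype.ofFinite _
  obtain ⟨y, rfl, hxy, ⟨s, hs⟩, hyord⟩ := hx
  have hxC : x ∈ Subgroup.centralizer ({x} : Set G) := by
    rw [Subgroup.mem_centralizer_singleton_iff]
  have hyC : y ∈ Subgroup.centralizer ({x} : Set G) := by
    rw [Subgroup.mem_centralizer_singleton_iff]
    exact hxy.eq.symm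
  have hcomm : ∀ t : Subgroup.centralizer ({x} : Set G), Commute x (t : G) := by
    intro t
    exact (Subgroup.mem_centralizer_singleton_iff.mp t.2).symm
  -- the class function
  have hϑcf : Cfsg.IsClassFunction (Subgroup.centralizer ({x} : Set G))
      (fun c : Subgroup.centralizer ({x} : Set G) => (χ : G → ℂ) (x * (c : G))) := by
    intro g t
    have ht : Commute x (t : G) := hcomm t
    have e : x * ((t * g * t⁻¹ : Subgroup.centralizer ({x} : Set G)) : G)
        = (t : G) * (x * (g : G)) * (t : G)⁻¹ := by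
      push_cast
      calc x * ((t : G) * (g : G) * (t : G)⁻¹) = (x * (t : G)) * (g : G) * (t : G)⁻¹ := by group
        _ = ((t : G) * x) * (g : G) * (t : G)⁻¹ := by rw [ht.eq]
        _ = (t : G) * (x * (g : G)) * (t : G)⁻¹ := by group
    show (χ : G → ℂ) (x * ((t * g * t⁻¹ : Subgroup.centralizer ({x} : Set G)) : G))
      = (χ : G → ℂ) (x * (g : G))
    rw [e]
    exact IrrCharacter.isClassFunction χ _ _
  have hexp := classFunction_expansion
    (fun c : Subgroup.centralizer ({x} : Set G) => (χ : G → ℂ) (x * (c : G))) hϑcf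
  have hval : (χ : G → ℂ) (x * y)
      = ∑ ψ : Cfsg.IrrCharacter (Subgroup.centralizer ({x} : Set G)),
        Cfsg.classInner (fun c : Subgroup.centralizer ({x} : Set G) => (χ : G → ℂ) (x * (c : G)))
          (ψ : Subgroup.centralizer ({x} : Set G) → ℂ)
          * (ψ : Subgroup.centralizer ({x} : Set G) → ℂ) ⟨y, hyC⟩ := by
    have := congrFun hexp ⟨y, hyC⟩
    simp only [Finset.sum_apply, Pi.smul_apply, smul_eq_mul] at this
    rw [← this]
  rw [hval]
  apply sum_eq_zero_of_block_sums M hM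
  intro ψ₀
  -- the block of ψ₀ does not induce the block of χ
  have hb : Cfsg.IsPBlock M (Cfsg.blockOf M (ψ₀ : Subgroup.centralizer ({x} : Set G) → ℂ)) :=
    ⟨ψ₀, rfl⟩
  have hB : Cfsg.IsPBlock M (Cfsg.blockOf M (χ : G → ℂ)) := ⟨χ, rfl⟩
  have hnot : ¬ Cfsg.IsInducedBlock M (Subgroup.centralizer ({x} : Set G))
      (Cfsg.blockOf M (ψ₀ : Subgroup.centralizer ({x} : Set G) → ℂ))
      (Cfsg.blockOf M (χ : G → ℂ)) := by
    intro hind
    obtain ⟨Db, hDb⟩ := Cfsg.Agent.Lib.Helper24.exists_isDefectGroup hM _ hb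
    have hcore := Cfsg.Agent.S0912.result p M hM _ hb Db hDb
    obtain ⟨E, hE, hDE⟩ := Cfsg.Agent.S0917.result p M hM _ _ hb _ hB hind Db hDb
    apply hD E hE
    apply hDE
    refine ⟨⟨x, hxC⟩, ?_, rfl⟩
    apply hcore
    -- ⟨x⟩ is a normal p-subgroup of the centralizer
    have hle : Subgroup.zpowers (⟨x, hxC⟩ : Subgroup.centralizer ({x} : Set G))
        ≤ Cfsg.pCore p (Subgroup.centralizer ({x} : Set G)) := by
      apply Cfsg.Agent.Lib.Helper13.le_pCore
      · constructor
        intro n hn t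
        have hcen : t * (⟨x, hxC⟩ : Subgroup.centralizer ({x} : Set G))
            = (⟨x, hxC⟩ : Subgroup.centralizer ({x} : Set G)) * t := by
          apply Subtype.ext
          push_cast
          exact (hcomm t).eq.symm
        obtain ⟨k, rfl⟩ := Subgroup.mem_zpowers_iff.mp hn
        have : t * (⟨x, hxC⟩ : Subgroup.centralizer ({x} : Set G)) ^ k * t⁻¹
            = (⟨x, hxC⟩ : Subgroup.centralizer ({x} : Set G)) ^ k := by
          have hc : Commute t ((⟨x, hxC⟩ : Subgroup.centralizer ({x} : Set G)) ^ k) :=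
            (Commute.zpow_right hcen k)
          rw [hc.eq]; group
        rw [this]
        exact Subgroup.zpow_mem_zpowers _ k
      · apply IsPGroup.of_card (n := s)
        rw [Nat.card_zpowers, ← hs]
        exact Subgroup.orderOf_mk x hxC
    exact hle (Subgroup.mem_zpowers _)
  have h23 := Cfsg.Agent.S0923.result p M hM x ⟨s, hs⟩ (Cfsg.blockOf M (χ : G → ℂ)) hB χ
    (mem_blockOf_self hM χ) (Cfsg.blockOf M (ψ₀ : Subgroup.centralizer ({x} : Set G) → ℂ)) hb hnot
    ⟨y, hyC⟩ (by rw [Subgroup.orderOf_mk]; exact hyord)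
  rw [← h23]
  unfold Cfsg.blockPart
  congr!

end Cfsg.Agent.S0924
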