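import Mathlib
import Cfsg.Statements.S0953
import Cfsg.Agent.Lib.Helper7.NormalSylow
import Cfsg.Agent.Lib.Helper7.FirstMain

set_option autoImplicit false
open Cfsg

namespace Cfsg.Agent.S0953

open Cfsg.Agent.Lib.Helper7 Cfsg.Agent.Lib.Helper24

/-- the block induced by a given block is unique -/
theorem isInducedBlock_unique {G : Type*} [Group G] [Finite G] {p : ℕ} {M : Ideal Cfsg.AlgInt}
    (hM : Cfsg.IsPModular p M) (H : Subgroup G) (b : Set (Cfsg.IrrCharacter H))
    (B₁ B₂ : Set (Cfsg.IrrCharacter G)) (h₁ : Cfsg.IsInducedBlock M H b B₁)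
    (h₂ : Cfsg.IsInducedBlock M H b B₂) : B₁ = B₂ := by
  obtain ⟨ξ, hξ⟩ := isPBlock_nonempty hM h₁.1
  obtain ⟨χ₁, hχ₁⟩ := isPBlock_nonempty hM h₁.2.1
  obtain ⟨χ₂, hχ₂⟩ := isPBlock_nonempty hM h₂.2.1
  have hsame : Cfsg.SameBlock M (χ₁ : G → ℂ) (χ₂ : G → ℂ) := by
    intro g
    have e1 := h₁.2.2 ξ hξ χ₁ hχ₁ g
    have e2 := h₂.2.2 ξ hξ χ₂ hχ₂ g
    have := memLocalIdeal_sub hM e2 e1
    have h3 : Cfsg.inducedCentralChar H (ξ : H → ℂ) g - Cfsg.centralChar (χ₂ : G → ℂ) g -
        (Cfsg.inducedCentralChar H (ξ : H → ℂ) g - Cfsg.centralChar (χ₁ : G → ℂ) g)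
        = Cfsg.centralChar (χ₁ : G → ℂ) g - Cfsg.centralChar (χ₂ : G → ℂ) g := by ring
    rwa [h3] at this
  have h4 : χ₂ ∈ B₁ := by
    rw [eq_blockOf_of_mem hM h₁.2.1 hχ₁]
    exact hsame
  rw [eq_blockOf_of_mem hM h₁.2.1 h4, eq_blockOf_of_mem hM h₂.2.1 hχ₂]

/-- Let P be a Sylow p-subgroup of the finite group G with normalizer N, and fix a maximal ideal M of the algebraic integers containing p. The number of blocks of G having P as a defect group equals the number of conjugacy classes of N consisting of elements of order prime to p that centralize P. -/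
theorem result {G : Type*} [Group G] [Finite G] (p : ℕ) [Fact p.Prime] (M : Ideal Cfsg.AlgInt) (hM : Cfsg.IsPModular p M) (P : Sylow p G) : Nat.card {B : Set (Cfsg.IrrCharacter G) // Cfsg.IsPBlock M B ∧ Cfsg.IsDefectGroup p M B (P : Subgroup G)} = Nat.card {C : ConjClasses (Subgroup.normalizer ((P : Subgroup G) : Set G)) // ∀ n : Subgroup.normalizer ((P : Subgroup G) : Set G), ConjClasses.mk n = C → ¬ p ∣ orderOf n ∧ (n : G) ∈ Subgroup.centralizer ((P : Subgroup G) : Set G)} := by
  classical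
  letI : Fintype G := Fintype.ofFinite G
  letI : Fintype (Subgroup.normalizer ((P : Subgroup G) : Set G)) := Fintype.ofFinite _
  have hDp : IsPGroup p (P : Subgroup G) := P.isPGroup'
  haveI hQn : ((P : Subgroup G).subgroupOf (Subgroup.normalizer ((P : Subgroup G) : Set G))).Normal :=
    Subgroup.normal_subgroupOf_of_le_normalizer le_rfl
  have hQp : IsPGroup p ((P : Subgroup G).subgroupOf (Subgroup.normalizer ((P : Subgroup G) : Set G))) :=
    hDp.comap_of_injective _ (Subgroup.subtype_injective _)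
  have hQi : ¬ p ∣ ((P : Subgroup G).subgroupOf
      (Subgroup.normalizer ((P : Subgroup G) : Set G))).index := by
    intro hdvd
    apply P.not_dvd_index
    have h1 : (P : Subgroup G).relIndex (Subgroup.normalizer ((P : Subgroup G) : Set G))
        * (Subgroup.normalizer ((P : Subgroup G) : Set G)).index = (P : Subgroup G).index :=
      Subgroup.relIndex_mul_index Subgroup.le_normalizer
    rw [← h1]
    exact Dvd.dvd.mul_right hdvd _
  -- all blocks of the normalizer have defect group `P`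
  have hdefN : ∀ b : Set (Cfsg.IrrCharacter (Subgroup.normalizer ((P : Subgroup G) : Set G))),
      Cfsg.IsPBlock M b → Cfsg.IsDefectGroup p M b
        ((P : Subgroup G).subgroupOf (Subgroup.normalizer ((P : Subgroup G) : Set G))) :=
    fun b hb => isDefectGroup_of_normal_sylow hM _ hQp hQi b hb
  -- the first main theorem bijection
  have hex : ∀ b : {b : Set (Cfsg.IrrCharacter (Subgroup.normalizer ((P : Subgroup G) : Set G)))
      // Cfsg.IsPBlock M b}, ∃ B : Set (Cfsg.IrrCharacter G), Cfsg.IsPBlock M B ∧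
      Cfsg.IsDefectGroup p M B (P : Subgroup G) ∧
      Cfsg.IsInducedBlock M (Subgroup.normalizer ((P : Subgroup G) : Set G)) b.1 B :=
    fun b => first_main_induced hM (P : Subgroup G) hDp b.1 b.2 (hdefN b.1 b.2)
  choose f hf using hex
  have hbij : Function.Bijective (fun b : {b : Set (Cfsg.IrrCharacter
      (Subgroup.normalizer ((P : Subgroup G) : Set G))) // Cfsg.IsPBlock M b} =>
      (⟨f b, (hf b).1, (hf b).2.1⟩ : {B : Set (Cfsg.IrrCharacter G) //
        Cfsg.IsPBlock M B ∧ Cfsg.IsDefectGroup p M B (P : Subgroup G)})) := by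
    constructor
    · intro b₁ b₂ h
      have h' : f b₁ = f b₂ := congrArg Subtype.val h
      apply Subtype.ext
      have i1 := (hf b₁).2.2
      have i2 := (hf b₂).2.2
      rw [h'] at i1
      exact first_main_unique hM (P : Subgroup G) hDp (f b₂) b₁.1 b₂.1 (hdefN b₂.1 b₂.2) i1 i2
    · rintro ⟨B, hB, hBdef⟩
      obtain ⟨b, hb, _, hind⟩ := first_main_exists hM (P : Subgroup G) B hB hBdef
      refine ⟨⟨b, hb⟩, ?_⟩
      apply Subtype.ext
      exact isInducedBlock_unique hM _ b _ _ (hf ⟨b, hb⟩).2.2 hind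
  rw [← Nat.card_congr (Equiv.ofBijective _ hbij)]
  rw [card_blocks_eq_of_normal_sylow hM _ hQp hQi]
  apply Nat.card_congr
  apply Equiv.subtypeEquivRight
  intro C
  constructor
  · intro h n hn
    obtain ⟨h1, h2⟩ := h n hn
    exact ⟨h1, (mem_centralizer_subgroupOf_iff _ _ Subgroup.le_normalizer n).mp h2⟩
  · intro h n hn
    obtain ⟨h1, h2⟩ := h n hn
    exact ⟨h1, (mem_centralizer_subgroupOf_iff _ _ Subgroup.le_normalizer n).mpr h2⟩

end Cfsg.Agent.S0953
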