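import Mathlib
import Cfsg.Statements.S0936
import Cfsg.Agent.Lib.Helper24.Principal
import Cfsg.Agent.Lib.Helper7.InducedBlock

set_option autoImplicit false
open Cfsg

namespace Cfsg.Agent.S0936

open Cfsg.Agent.Lib.Helper2 Cfsg.Agent.Lib.Helper7 Cfsg.Agent.Lib.Helper24

/-- Brauer's Third Main Theorem. Let H be a subgroup of the finite group G and b a block of H (relative to a maximal ideal M of the algebraic integers containing the prime p) whose induced block in G is defined. Then b induces the principal block of G if and only if b is the principal block of H. -/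
theorem result {G : Type*} [Group G] [Finite G] (p : ℕ) [Fact p.Prime] (M : Ideal Cfsg.AlgInt) (hM : Cfsg.IsPModular p M) (H : Subgroup G) (b : Set (Cfsg.IrrCharacter H)) (hdef : Cfsg.InducedBlockDefined M H b) : Cfsg.IsInducedBlock M H b (Cfsg.principalBlock M G) ↔ b = Cfsg.principalBlock M H := by
  classical
  haveI : Fintype G := Fintype.ofFinite G
  haveI : Fintype H := Fintype.ofFinite H
  have hnG : ¬ Cfsg.MemLocalIdeal M ((Nat.card {g : G // ¬ p ∣ orderOf g} : ℕ) : ℂ) := by
    rw [memLocalIdeal_natCast_iff hM]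
    exact not_dvd_card_pRegular G p
  have hnH : ¬ Cfsg.MemLocalIdeal M ((Nat.card {g : H // ¬ p ∣ orderOf g} : ℕ) : ℂ) := by
    rw [memLocalIdeal_natCast_iff hM]
    exact not_dvd_card_pRegular H p
  have key : ∀ (B : Set (Cfsg.IrrCharacter G)), Cfsg.IsInducedBlock M H b B → ∀ ξ ∈ b, ∀ χ ∈ B,
      Cfsg.MemLocalIdeal M (omega ξ.1 (Cfsg.pRegularPart p (fun _ : H => (1 : ℂ)))
        - omega χ.1 (Cfsg.pRegularPart p (fun _ : G => (1 : ℂ)))) := by
    intro B hI ξ hξ χ hχ
    have h := omega_restrict_sub_memLocalIdeal H hM ξ.1 χ (hI.2.2 ξ hξ χ hχ)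
      (Cfsg.pRegularPart p (fun _ : G => (1 : ℂ))) isClassFunction_regInd (isRCF_regInd hM).2
    have e : (fun h : H => Cfsg.pRegularPart p (fun _ : G => (1 : ℂ)) h)
        = Cfsg.pRegularPart p (fun _ : H => (1 : ℂ)) := restrictTo_regInd H
    rw [e] at h
    exact h
  constructor
  · intro hI
    obtain ⟨ξ, hξ⟩ := isPBlock_nonempty hM hI.1
    have h := key _ hI ξ hξ (trivIrr G) (trivIrr_mem_principalBlock hM)
    rw [omega_trivIrr, sum_regInd] at h
    have hne : omega ξ.1 (Cfsg.pRegularPart p (fun _ : H => (1 : ℂ))) ≠ 0 := by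
      intro h0
      rw [h0, zero_sub] at h
      apply hnG
      have := memLocalIdeal_neg h
      rwa [neg_neg] at this
    have hmem := mem_principalBlock_of_omega_regInd_ne_zero hM ξ hne
    rw [eq_blockOf_of_mem hM hI.1 hξ]
    exact (eq_blockOf_of_mem hM isPBlock_principalBlock hmem).symm
  · intro hb
    obtain ⟨B, hI⟩ := hdef
    obtain ⟨χ, hχ⟩ := isPBlock_nonempty hM hI.2.1
    have hξ : trivIrr H ∈ b := by
      rw [hb]
      exact trivIrr_mem_principalBlock hM
    have h := key B hI (trivIrr H) hξ χ hχ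
    rw [omega_trivIrr, sum_regInd] at h
    have hne : omega χ.1 (Cfsg.pRegularPart p (fun _ : G => (1 : ℂ))) ≠ 0 := by
      intro h0
      rw [h0, sub_zero] at h
      exact hnH h
    have hmem := mem_principalBlock_of_omega_regInd_ne_zero hM χ hne
    have hB : B = Cfsg.principalBlock M G := by
      rw [eq_blockOf_of_mem hM hI.2.1 hχ]
      exact (eq_blockOf_of_mem hM isPBlock_principalBlock hmem).symm
    rw [← hB]
    exact hI

end Cfsg.Agent.S0936
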