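import Mathlib
import Cfsg.Statements.S0939
import Cfsg.Agent.Lib.Helper7.RegularDetermines
import Cfsg.Agent.Lib.Helper7.QuotientBlock
import Cfsg.Agent.Lib.Helper1.Cores
import Cfsg.Agent.Lib.Helper2.BurnsidePQ

set_option autoImplicit false
open Cfsg

namespace Cfsg.Agent.S0939

open Cfsg.Agent.Lib.Helper7 Cfsg.Agent.Lib.Helper24 Cfsg.Agent.Lib.Helper2
open scoped ComplexConjugate

/-- Let G be a finite group with a normal p-complement (the largest normal subgroup O_p'(G) of order prime to p has p-power index). Then, relative to any maximal ideal M of the algebraic integers containing p, the principal block of G is the set of irreducible characters χ with χ n = χ 1 for every n ∈ O_p'(G). -/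
theorem result {G : Type*} [Group G] [Finite G] (p : ℕ) [Fact p.Prime] (M : Ideal Cfsg.AlgInt) (hM : Cfsg.IsPModular p M) (hnc : ∃ k : ℕ, (Cfsg.pPrimeCore p G).index = p ^ k) : Cfsg.principalBlock M G = {χ : Cfsg.IrrCharacter G | ∀ n ∈ Cfsg.pPrimeCore p G, (χ : G → ℂ) n = (χ : G → ℂ) 1} := by
  classical
  letI : Fintype G := Fintype.ofFinite G
  haveI hKn : (Cfsg.pPrimeCore p G).Normal := Cfsg.Agent.Lib.Helper1.pPrimeCore_normal p
  letI : Fintype (Cfsg.pPrimeCore p G) := Fintype.ofFinite _
  have hKp : ¬ p ∣ Nat.card (Cfsg.pPrimeCore p G) := by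
    have h1 := Cfsg.Agent.Lib.Helper1.pPrimeCore_coprime (G := G) p
    intro h
    exact (Nat.Prime.coprime_iff_not_dvd (Fact.out : p.Prime)).mp h1.symm h
  ext χ
  constructor
  · intro hχ
    have hχ' : Cfsg.SameBlock M ((trivialIrr G : Cfsg.IrrCharacter G) : G → ℂ) (χ : G → ℂ) := hχ
    exact kernel_of_sameBlock (Cfsg.pPrimeCore p G) hM hKp (trivialIrr G) χ (fun n _ => rfl) hχ'
  · intro hker
    have hKne : (Nat.card (Cfsg.pPrimeCore p G) : ℂ) ≠ 0 := by
      exact_mod_cast Nat.card_pos.ne'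
    have h1 : Cfsg.classInner (fun n : Cfsg.pPrimeCore p G =>
        ((trivialIrr G : Cfsg.IrrCharacter G) : G → ℂ) n)
        ((trivialIrr (Cfsg.pPrimeCore p G) : Cfsg.IrrCharacter (Cfsg.pPrimeCore p G)) :
          Cfsg.pPrimeCore p G → ℂ) ≠ 0 := by
      unfold Cfsg.classInner
      simp only [trivialIrr, map_one, mul_one, Finset.sum_const, Finset.card_univ, nsmul_eq_mul]
      rw [← Nat.card_eq_fintype_card, inv_mul_cancel₀ hKne]
      exact one_ne_zero
    have h2 : Cfsg.classInner (fun n : Cfsg.pPrimeCore p G => (χ : G → ℂ) n)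
        ((trivialIrr (Cfsg.pPrimeCore p G) : Cfsg.IrrCharacter (Cfsg.pPrimeCore p G)) :
          Cfsg.pPrimeCore p G → ℂ) ≠ 0 := by
      unfold Cfsg.classInner
      have h3 : ∀ n : Cfsg.pPrimeCore p G, (χ : G → ℂ) n *
          conj (((trivialIrr (Cfsg.pPrimeCore p G) : Cfsg.IrrCharacter (Cfsg.pPrimeCore p G)) :
          Cfsg.pPrimeCore p G → ℂ) n) = (χ : G → ℂ) 1 := by
        intro n
        simp only [trivialIrr, map_one, mul_one]
        exact hker n n.2
      rw [Finset.sum_congr rfl (fun n _ => h3 n)]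
      simp only [Finset.sum_const, Finset.card_univ, nsmul_eq_mul]
      rw [← Nat.card_eq_fintype_card, ← mul_assoc, inv_mul_cancel₀ hKne, one_mul]
      exact IsIrrCharacter.apply_one_ne_zero χ.2
    exact mem_blockOf_of_covering_of_index_pow (Cfsg.pPrimeCore p G) hM hnc (trivialIrr G) χ
      (trivialIrr (Cfsg.pPrimeCore p G)) (trivialIrr (Cfsg.pPrimeCore p G)) h1 h2
      (sameBlock_refl hM _)

end Cfsg.Agent.S0939
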