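import Mathlib
import Cfsg.Statements.S0942
import Cfsg.Agent.Lib.Helper7.SectionPrincipal
import Cfsg.Agent.S0939

set_option autoImplicit false
open scoped ComplexConjugate
open Cfsg

namespace Cfsg.Agent.S0942

open Cfsg.Agent.Lib.Helper7 Cfsg.Agent.Lib.Helper24 Cfsg.Agent.Lib.Helper2

/-- Let u be a p-element of the finite group G, let v lie in the largest normal subgroup of C_G(u) of order prime to p, and let χ belong to the principal block (relative to a maximal ideal M of the algebraic integers containing p). Then χ (u * v) = χ u. -/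
theorem result {G : Type*} [Group G] [Finite G] (p : ℕ) [Fact p.Prime] (M : Ideal Cfsg.AlgInt) (hM : Cfsg.IsPModular p M) (u : G) (hu : ∃ k : ℕ, orderOf u = p ^ k) (v : G) (hv : v ∈ Cfsg.centralizerPPrimeCore p u) (χ : Cfsg.IrrCharacter G) (hχ : χ ∈ Cfsg.principalBlock M G) : (χ : G → ℂ) (u * v) = (χ : G → ℂ) u := by
  classical
  letI : Fintype G := Fintype.ofFinite G
  letI : Fintype (Subgroup.centralizer ({u} : Set G)) := Fintype.ofFinite _
  haveI : Fintype (Cfsg.IrrCharacter (Subgroup.centralizer ({u} : Set G))) := Fintype.ofFinite _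
  have hp : p.Prime := Fact.out
  obtain ⟨v', hv', rfl⟩ := hv
  haveI hKn : (Cfsg.pPrimeCore p (Subgroup.centralizer ({u} : Set G))).Normal :=
    Cfsg.Agent.Lib.Helper1.pPrimeCore_normal p
  have hKp : ¬ p ∣ Nat.card (Cfsg.pPrimeCore p (Subgroup.centralizer ({u} : Set G))) := by
    have h1 := Cfsg.Agent.Lib.Helper1.pPrimeCore_coprime
      (G := Subgroup.centralizer ({u} : Set G)) p
    intro h
    exact (Nat.Prime.coprime_iff_not_dvd hp).mp h1.symm h
  -- `v'` is `p`-regular
  have hv'reg : ¬ p ∣ orderOf v' := by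
    intro h
    apply hKp
    have h1 : orderOf (⟨v', hv'⟩ : Cfsg.pPrimeCore p (Subgroup.centralizer ({u} : Set G)))
        = orderOf v' := Subgroup.orderOf_mk v' hv'
    have h2 := orderOf_dvd_natCard
      (⟨v', hv'⟩ : Cfsg.pPrimeCore p (Subgroup.centralizer ({u} : Set G)))
    rw [h1] at h2
    exact h.trans h2
  have h1reg : ¬ p ∣ orderOf (1 : Subgroup.centralizer ({u} : Set G)) := by
    rw [orderOf_one]
    exact hp.one_lt.ne' ∘ Nat.dvd_one.mp
  have e1 := section_principal_expansion hM u hu χ hχ v' hv'reg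
  have e2 := section_principal_expansion hM u hu χ hχ 1 h1reg
  have hu1 : u * ((1 : Subgroup.centralizer ({u} : Set G)) : G) = u := by
    push_cast; rw [mul_one]
  rw [hu1] at e2
  show (χ : G → ℂ) (u * (v' : G)) = (χ : G → ℂ) u
  rw [e1, e2]
  apply Finset.sum_congr rfl
  intro ψ _
  by_cases hψ : ψ ∈ Cfsg.principalBlock M (Subgroup.centralizer ({u} : Set G))
  · rw [if_pos hψ, if_pos hψ]
    have hψ' : Cfsg.SameBlock M
        ((trivialIrr (Subgroup.centralizer ({u} : Set G))
          : Cfsg.IrrCharacter (Subgroup.centralizer ({u} : Set G)))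
          : Subgroup.centralizer ({u} : Set G) → ℂ)
        (ψ : Subgroup.centralizer ({u} : Set G) → ℂ) := hψ
    have hk := kernel_of_sameBlock (Cfsg.pPrimeCore p (Subgroup.centralizer ({u} : Set G)))
      hM hKp (trivialIrr _) ψ (fun n _ => rfl) hψ'
    rw [hk v' hv']
  · rw [if_neg hψ, if_neg hψ]

end Cfsg.Agent.S0942
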