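import Mathlib
import Cfsg.Statements.S4720
import Cfsg.Agent.Lib.Helper24.BlockOrtho
import Cfsg.Agent.Lib.Helper24.Principal
import Cfsg.Agent.Lib.Helper7.SectionPrincipal
import Cfsg.Agent.Lib.Helper7.PPart
import Cfsg.Agent.Lib.Helper25.CharBasic
import Cfsg.Agent.Lib.Helper25.InvertSylow

set_option autoImplicit false
open Cfsg

namespace Cfsg.Agent.S4720

open Cfsg.Agent.Lib.Helper2 Cfsg.Agent.Lib.Helper7 Cfsg.Agent.Lib.Helper24 Cfsg.Agent.Lib.Helper25
open scoped ComplexConjugate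

section

variable {G : Type*} [Group G] [Fintype G] {p : ℕ} [Fact p.Prime] {M : Ideal Cfsg.AlgInt}

/-- A `p`-element is its own `p`-part. -/
theorem isPPart_self (z : G) (hz : ∃ k : ℕ, orderOf z = p ^ k) : Cfsg.IsPPart p z z := by
  refine ⟨1, mul_one z, Commute.one_right z, hz, ?_⟩
  rw [orderOf_one]
  exact fun h => (Fact.out : p.Prime).one_lt.ne' (Nat.dvd_one.mp h)

/-- The block sum vanishes for non-conjugate `p`-elements. -/
theorem kernel_nonconj (hM : Cfsg.IsPModular p M) (z y : G) (hz : ∃ k : ℕ, orderOf z = p ^ k)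
    (hy : ∃ k : ℕ, orderOf y = p ^ k) (hne : ¬ ∃ g : G, z = g * y * g⁻¹) :
    ∑ χ ∈ (Set.toFinite (Cfsg.principalBlock M G)).toFinset,
      (χ : G → ℂ) z * conj ((χ : G → ℂ) y) = 0 := by
  have h := block_orthogonality hM (Cfsg.principalBlock M G) isPBlock_principalBlock z y (by
    intro g k hk
    by_contra hpk
    apply hne
    exact ⟨g, pPart_conj_of_pow_conj p (isPPart_self z hz) (isPPart_self y hy) hpk hk⟩)
  rw [finsum_mem_eq_finite_toFinset_sum _ (Set.toFinite (Cfsg.principalBlock M G))] at h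
  exact h

/-- The block sum at a `p`-element is the sum of squares of the degrees in the principal block of
the centralizer. -/
theorem kernel_self (hM : Cfsg.IsPModular p M) (y : G) (hy : ∃ k : ℕ, orderOf y = p ^ k) :
    ∑ χ ∈ (Set.toFinite (Cfsg.principalBlock M G)).toFinset,
      (χ : G → ℂ) y * conj ((χ : G → ℂ) y) =
    ∑ ψ ∈ (Set.toFinite (Cfsg.principalBlock M (Subgroup.centralizer ({y} : Set G)))).toFinset,
      ((Cfsg.charDegree (ψ : Subgroup.centralizer ({y} : Set G) → ℂ) : ℕ) : ℂ) ^ 2 := by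
  classical
  have : Fintype (Cfsg.IrrCharacter G) := Fintype.ofFinite _
  have : Fintype (Cfsg.IrrCharacter (Subgroup.centralizer ({y} : Set G))) := Fintype.ofFinite _
  have hp1 : ¬ p ∣ orderOf (1 : Subgroup.centralizer ({y} : Set G)) := by
    rw [orderOf_one]
    exact fun h => (Fact.out : p.Prime).one_lt.ne' (Nat.dvd_one.mp h)
  have h := section_principal_orthogonality hM y hy 1 1 hp1 hp1
  simp only [OneMemClass.coe_one, mul_one] at h
  have e1 : (Set.toFinite (Cfsg.principalBlock M G)).toFinset =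
      Finset.univ.filter (· ∈ Cfsg.principalBlock M G) := by
    ext χ; simp
  have e2 : (Set.toFinite (Cfsg.principalBlock M (Subgroup.centralizer ({y} : Set G)))).toFinset =
      Finset.univ.filter (· ∈ Cfsg.principalBlock M (Subgroup.centralizer ({y} : Set G))) := by
    ext χ; simp
  rw [e1, e2, Finset.sum_filter, Finset.sum_filter, h]
  apply Finset.sum_congr rfl
  intro ψ _
  by_cases hψ : ψ ∈ Cfsg.principalBlock M (Subgroup.centralizer ({y} : Set G))
  · rw [if_pos hψ, if_pos hψ, char_one_eq_charDegree (isCharacter_of_irr ψ.2),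
      Complex.conj_natCast, pow_two]
  · rw [if_neg hψ, if_neg hψ]


/-- The number of elements of `N` conjugating `y` to a given `N`-conjugate `z`. -/
theorem fiber_card (N : Subgroup G) [Fintype N] [DecidableEq G] (y z : G) (n₀ : N)
    (hn₀ : (n₀ : G) * y * (n₀ : G)⁻¹ = z) :
    (Finset.univ.filter (fun x : N => (x : G) * y * (x : G)⁻¹ = z)).card =
      Nat.card ↥(N ⊓ Subgroup.centralizer ({y} : Set G)) := by
  classical
  rw [← Fintype.card_subtype, ← Nat.card_eq_fintype_card]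
  apply Nat.card_congr
  refine ⟨fun x => ⟨(n₀ : G)⁻¹ * (x.1 : G), ?_⟩, fun c => ⟨⟨(n₀ : G) * (c : G), ?_⟩, ?_⟩, ?_, ?_⟩
  · rw [Subgroup.mem_inf]
    refine ⟨N.mul_mem (N.inv_mem n₀.2) x.1.2, ?_⟩
    rw [mem_centralizer_singleton]
    have h1 : (x.1 : G) * y * (x.1 : G)⁻¹ = (n₀ : G) * y * (n₀ : G)⁻¹ := by rw [x.2, hn₀]
    have h2 : y * ((n₀ : G)⁻¹ * (x.1 : G)) = (n₀ : G)⁻¹ * ((n₀ : G) * y * (n₀ : G)⁻¹) * (x.1 : G) := by
      group
    rw [h2, ← h1]
    group
  · exact N.mul_mem n₀.2 (Subgroup.mem_inf.1 c.2).1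
  · show (n₀ : G) * (c : G) * y * ((n₀ : G) * (c : G))⁻¹ = z
    have hc := (mem_centralizer_singleton).1 (Subgroup.mem_inf.1 c.2).2
    rw [← hn₀]
    have h2 : (n₀ : G) * (c : G) * y * ((n₀ : G) * (c : G))⁻¹ =
        (n₀ : G) * ((c : G) * y) * (c : G)⁻¹ * (n₀ : G)⁻¹ := by group
    rw [h2, ← hc]
    group
  · intro x
    apply Subtype.ext
    apply Subtype.ext
    show (n₀ : G) * ((n₀ : G)⁻¹ * (x.1 : G)) = (x.1 : G)
    group
  · intro c
    apply Subtype.ext
    show (n₀ : G)⁻¹ * ((n₀ : G) * (c : G)) = (c : G)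
    group

variable (hM : Cfsg.IsPModular p M) (P : Subgroup G) [Fintype P] (hP : IsPGroup p P)
  (N : Subgroup G) [Fintype N] (hNN : N ≤ Subgroup.normalizer (P : Set G)) (U : Set G)
  (hfus : ∀ u ∈ U, ∀ g : G, g * u * g⁻¹ ∈ (P : Set G) → ∃ n ∈ N, n * u * n⁻¹ = g * u * g⁻¹)
  (w : ℂ)
  (hw : ∀ y ∈ U, ∑ ψ ∈ (Set.toFinite (Cfsg.principalBlock M
      (Subgroup.centralizer ({y} : Set G)))).toFinset,
      ((Cfsg.charDegree (ψ : Subgroup.centralizer ({y} : Set G) → ℂ) : ℕ) : ℂ) ^ 2 =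
        w * (Nat.card ↥(N ⊓ Subgroup.centralizer ({y} : Set G)) : ℂ))
  (η : P → ℂ)

include hM hP hNN hfus hw in
theorem per_y (y : P) (hyU : (y : G) ∈ U) :
    ∑ z : P, conj (η z) * ∑ χ ∈ (Set.toFinite (Cfsg.principalBlock M G)).toFinset,
      (χ : G → ℂ) (z : G) * conj ((χ : G → ℂ) (y : G)) =
    w * ∑ x : N, conj (Cfsg.extendByZero P η ((x : G) * (y : G) * (x : G)⁻¹)) := by
  classical
  have hpel : ∀ z : P, ∃ k : ℕ, orderOf (z : G) = p ^ k := by
    intro z
    obtain ⟨k, hk⟩ := IsPGroup.iff_orderOf.1 hP z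
    exact ⟨k, by rw [Subgroup.orderOf_coe, hk]⟩
  -- the kernel
  have hK : ∀ z : P, ∑ χ ∈ (Set.toFinite (Cfsg.principalBlock M G)).toFinset,
      (χ : G → ℂ) (z : G) * conj ((χ : G → ℂ) (y : G)) =
      w * ∑ x : N, if (x : G) * (y : G) * (x : G)⁻¹ = (z : G) then (1 : ℂ) else 0 := by
    intro z
    by_cases hconj : ∃ g : G, (z : G) = g * (y : G) * g⁻¹
    · obtain ⟨g, hg⟩ := hconj
      have h1 : ∀ χ : Cfsg.IrrCharacter G, (χ : G → ℂ) (z : G) = (χ : G → ℂ) (y : G) := by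
        intro χ
        rw [hg]
        exact isClassFunction_of_char (isCharacter_of_irr χ.2) _ _
      simp only [h1]
      rw [kernel_self hM (y : G) (hpel y), hw (y : G) hyU]
      congr 1
      obtain ⟨n₀, hn₀N, hn₀⟩ := hfus (y : G) hyU g (by rw [← hg]; exact z.2)
      rw [Finset.sum_boole]
      have := fiber_card N (y : G) (z : G) ⟨n₀, hn₀N⟩ (by rw [hg]; exact hn₀)
      rw [this]
    · rw [kernel_nonconj hM (z : G) (y : G) (hpel z) (hpel y) hconj]
      have h2 : ∀ x : N, ¬ ((x : G) * (y : G) * (x : G)⁻¹ = (z : G)) := by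
        intro x hx
        exact hconj ⟨(x : G), hx.symm⟩
      simp only [h2, if_false, Finset.sum_const_zero, mul_zero]
  simp only [hK]
  have h3 : ∀ z : P, conj (η z) * (w * ∑ x : N,
      if (x : G) * (y : G) * (x : G)⁻¹ = (z : G) then (1 : ℂ) else 0) =
      w * ∑ x : N, if (x : G) * (y : G) * (x : G)⁻¹ = (z : G) then conj (η z) else 0 := by
    intro z
    rw [mul_left_comm, Finset.mul_sum]
    congr 1
    apply Finset.sum_congr rfl
    intro x _
    split_ifs <;> simp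
  simp only [h3]
  rw [← Finset.mul_sum, Finset.sum_comm]
  congr 1
  apply Finset.sum_congr rfl
  intro x _
  have hmem : (x : G) * (y : G) * (x : G)⁻¹ ∈ P :=
    (Subgroup.mem_normalizer_iff.1 (hNN x.2) (y : G)).1 y.2
  rw [extendByZero_of_mem P η hmem]
  rw [Finset.sum_eq_single ⟨(x : G) * (y : G) * (x : G)⁻¹, hmem⟩]
  · rw [if_pos rfl]
  · intro z _ hz
    rw [if_neg]
    intro h
    apply hz
    apply Subtype.ext
    exact h.symm
  · intro h
    exact absurd (Finset.mem_univ _) h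


include hM hP hNN hfus hw in
theorem main (θ : P → ℂ) (hθU : ∀ y : P, (y : G) ∉ U → θ y = 0) :
    ∑ χ ∈ (Set.toFinite (Cfsg.principalBlock M G)).toFinset,
      ((Nat.card P : ℂ)⁻¹ * ∑ y : P, (χ : G → ℂ) (y : G) * θ y⁻¹) *
        conj ((Nat.card P : ℂ)⁻¹ * ∑ y : P, (χ : G → ℂ) (y : G) * η y⁻¹) =
    (w / ((Nat.card P : ℂ) ^ 2)) * ∑ y : P, θ y *
      conj (∑ x : N, Cfsg.extendByZero P η ((x : G) * (y : G) * (x : G)⁻¹)) := by
  classical
  -- expand each term
  have h1 : ∀ χ : Cfsg.IrrCharacter G,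
      ((Nat.card P : ℂ)⁻¹ * ∑ y : P, (χ : G → ℂ) (y : G) * θ y⁻¹) *
        conj ((Nat.card P : ℂ)⁻¹ * ∑ y : P, (χ : G → ℂ) (y : G) * η y⁻¹) =
      ((Nat.card P : ℂ) ^ 2)⁻¹ * ∑ y : P, ∑ z : P,
        θ y * (conj (η z) * ((χ : G → ℂ) (z : G) * conj ((χ : G → ℂ) (y : G)))) := by
    intro χ
    have hinvχ : ∀ g : G, (χ : G → ℂ) g⁻¹ = conj ((χ : G → ℂ) g) :=
      fun g => char_inv (isCharacter_of_irr χ.2) g
    have e1 : ∑ y : P, (χ : G → ℂ) (y : G) * θ y⁻¹ =
        ∑ y : P, conj ((χ : G → ℂ) (y : G)) * θ y := by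
      rw [← Equiv.sum_comp (Equiv.inv P)]
      apply Finset.sum_congr rfl
      intro y _
      simp only [Equiv.inv_apply, inv_inv, Subgroup.coe_inv, hinvχ]
    have e2 : conj (∑ y : P, (χ : G → ℂ) (y : G) * η y⁻¹) =
        ∑ z : P, (χ : G → ℂ) (z : G) * conj (η z) := by
      rw [map_sum, ← Equiv.sum_comp (Equiv.inv P)]
      apply Finset.sum_congr rfl
      intro y _
      simp only [Equiv.inv_apply, inv_inv, Subgroup.coe_inv, hinvχ, map_mul, Complex.conj_conj]
    rw [map_mul, map_inv₀, Complex.conj_natCast, e1, e2]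
    rw [mul_mul_mul_comm, Finset.sum_mul_sum, pow_two, mul_inv]
    congr 1
    apply Finset.sum_congr rfl
    intro y _
    apply Finset.sum_congr rfl
    intro z _
    ring
  simp only [h1]
  rw [← Finset.mul_sum, Finset.sum_comm]
  have h2 : ∀ y : P, ∑ χ ∈ (Set.toFinite (Cfsg.principalBlock M G)).toFinset, ∑ z : P,
      θ y * (conj (η z) * ((χ : G → ℂ) (z : G) * conj ((χ : G → ℂ) (y : G)))) =
      θ y * (w * ∑ x : N, conj (Cfsg.extendByZero P η ((x : G) * (y : G) * (x : G)⁻¹))) := by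
    intro y
    by_cases hyU : (y : G) ∈ U
    · rw [← per_y hM P hP N hNN U hfus w hw η y hyU]
      rw [Finset.sum_comm, Finset.mul_sum]
      apply Finset.sum_congr rfl
      intro z _
      rw [← Finset.mul_sum, ← Finset.mul_sum]
    · rw [hθU y hyU]
      simp
  simp only [h2]
  rw [div_eq_mul_inv]
  simp only [Finset.mul_sum, map_sum]
  apply Finset.sum_congr rfl
  intro y _
  apply Finset.sum_congr rfl
  intro x _
  ring

end

/-- Let p be a prime, M a maximal ideal of the algebraic integers containing p, P a p-subgroup of the finite group G, N a subgroup with P ≤ N ≤ N_G(P), and U a nonempty subset of P normalized by N such that an element of U and an element of P that are conjugate in G are already conjugate in N, and such that λ(C_G(y)) = w·#C_N(y) for every y ∈ U with one rational number w, where λ(X) denotes the sum of the squares of the degrees of the irreducible characters in the principal p-block of X. For a complex function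 θ on P and χ in the principal block of G put a_χ(θ) = #P⁻¹ Σ_{y ∈ P} χ(y) θ(y⁻¹). Then for generalized characters θ, η of P with θ vanishing outside U, Σ_χ a_χ(θ)·conj(a_χ(η)) = (w/#P²)·Σ_{y ∈ P} θ(y)·conj(Σ_{x ∈ N} η(x y x⁻¹)) (η extended by zero off P; the conjugates lie in P), the first sum over the principal p-block of G. -/
theorem result {G : Type*} [Group G] [Finite G] (p : ℕ) [Fact p.Prime] (M : Ideal Cfsg.AlgInt) (hM : Cfsg.IsPModular p M) (P : Subgroup G) (hP : IsPGroup p P) (N : Subgroup G) (hPN : P ≤ N) (hNN : N ≤ Subgroup.normalizer (P : Set G)) (U : Set G) (hUne : U.Nonempty) (hUP : U ⊆ (P : Set G)) (hUN : ∀ n ∈ N, ∀ u ∈ U, n * u * n⁻¹ ∈ U) (hfus : ∀ u ∈ U, ∀ g : G, g * u * g⁻¹ ∈ (P : Set G) → ∃ n ∈ N, n * u * n⁻¹ = g * u * g⁻¹) (w : ℚ) (hw : ∀ y ∈ U, ((∑ᶠ ψ ∈ Cfsg.principalBlock M ↥(Subgroup.centralizer ({y} : Set G)), Cfsg.charDegree (ψ : ↥(Subgroup.centralizer ({y} : Set G)) → ℂ) ^ 2) : ℚ) = w * Nat.card ↥(N ⊓ Subgroup.centralizer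 ({y} : Set G))) (θ η : ↥P → ℂ) (hθ : Cfsg.IsGeneralizedCharacter ↥P θ) (hη : Cfsg.IsGeneralizedCharacter ↥P η) (hθU : ∀ y : ↥P, (y : G) ∉ U → θ y = 0) : ∑ᶠ χ ∈ Cfsg.principalBlock M G, ((Nat.card ↥P : ℂ)⁻¹ * ∑ᶠ y : ↥P, (χ : G → ℂ) (y : G) * θ y⁻¹) * (starRingEnd ℂ) ((Nat.card ↥P : ℂ)⁻¹ * ∑ᶠ y : ↥P, (χ : G → ℂ) (y : G) * η y⁻¹) = ((w : ℂ) / ((Nat.card ↥P : ℂ) ^ 2)) * ∑ᶠ y : ↥P, θ y * (starRingEnd ℂ) (∑ᶠ x : ↥N, Cfsg.extendByZero P η ((x : G) * (y : G) * (x : G)⁻¹)) := by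
  classical
  have : Fintype G := Fintype.ofFinite G
  have : Fintype P := Fintype.ofFinite P
  have : Fintype N := Fintype.ofFinite N
  simp only [finsum_eq_sum_of_fintype]
  rw [finsum_mem_eq_finite_toFinset_sum _ (Set.toFinite (Cfsg.principalBlock M G))]
  apply main hM P hP N hNN U hfus (w : ℂ) _ η θ hθU
  intro y hy
  have h := hw y hy
  rw [finsum_mem_eq_finite_toFinset_sum _ (Set.toFinite _)] at h
  have h2 := congrArg (fun q : ℚ => (q : ℂ)) h
  simp only [Rat.cast_sum, Rat.cast_pow, Rat.cast_natCast, Rat.cast_mul] at h2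
  exact h2

end Cfsg.Agent.S4720


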