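import Mathlib
import Cfsg.Statements.S4722
import Cfsg.Agent.Lib.Helper24.BlockOrtho
import Cfsg.Agent.Lib.Helper24.Principal
import Cfsg.Agent.Lib.Helper7.QuotientBlock
import Cfsg.Agent.Lib.Helper25.GenOrtho
import Cfsg.Agent.Lib.Helper25.Kernel
import Cfsg.Agent.Lib.Helper25.CharBasic

set_option autoImplicit false
open Cfsg

namespace Cfsg.Agent.S4722

open Cfsg.Agent.Lib.Helper2 Cfsg.Agent.Lib.Helper7 Cfsg.Agent.Lib.Helper24 Cfsg.Agent.Lib.Helper25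
open scoped ComplexConjugate

/-- The real-variable core of the argument. -/
theorem real_aux {ι : Type*} (S : Finset ι) (r d τ : ι → ℝ) (hd : ∀ i ∈ S, 0 < d i)
    (h1 : ∑ i ∈ S, r i * d i = 0) (h2 : ∑ i ∈ S, r i * τ i = 0)
    (h3 : ∑ i ∈ S, r i * τ i ^ 2 / d i = 0)
    (huniq : ∀ i ∈ S, ∀ j ∈ S, 0 < r i → 0 < r j → i = j)
    (i₁ : ι) (hi₁ : i₁ ∈ S) (hr₁ : r i₁ ≠ 0) :
    (∀ i ∈ S, r i ≠ 0 → τ i * d i₁ = τ i₁ * d i) ∧ ∃ j ∈ S, j ≠ i₁ ∧ r j ≠ 0 := by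
  classical
  -- some `r i₀` is positive
  have hex : ∃ i₀ ∈ S, 0 < r i₀ := by
    by_contra hcon
    push Not at hcon
    have hnp : ∀ i ∈ S, r i * d i ≤ 0 := fun i hi =>
      mul_nonpos_of_nonpos_of_nonneg (hcon i hi) (hd i hi).le
    have h0 := (Finset.sum_eq_zero_iff_of_nonpos hnp).1 h1 i₁ hi₁
    rcases mul_eq_zero.1 h0 with h | h
    · exact hr₁ h
    · exact (hd i₁ hi₁).ne' h
  obtain ⟨i₀, hi₀, hpos⟩ := hex
  set lam : ℝ := τ i₀ / d i₀ with hlam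
  have hd0 : d i₀ ≠ 0 := (hd i₀ hi₀).ne'
  have hQ : ∑ i ∈ S, r i * (τ i - lam * d i) ^ 2 / d i = 0 := by
    have hterm : ∀ i ∈ S, r i * (τ i - lam * d i) ^ 2 / d i =
        r i * τ i ^ 2 / d i - 2 * lam * (r i * τ i) + lam ^ 2 * (r i * d i) := by
      intro i hi
      have hdi : d i ≠ 0 := (hd i hi).ne'
      field_simp
      ring
    rw [Finset.sum_congr rfl hterm, Finset.sum_add_distrib, Finset.sum_sub_distrib,
      ← Finset.mul_sum, ← Finset.mul_sum, h1, h2, h3]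
    ring
  have hnp : ∀ i ∈ S, r i * (τ i - lam * d i) ^ 2 / d i ≤ 0 := by
    intro i hi
    by_cases hii : i = i₀
    · subst hii
      have : τ i - lam * d i = 0 := by
        rw [hlam]; field_simp; ring
      rw [this]; simp
    · have hri : r i ≤ 0 := by
        by_contra hcon
        push Not at hcon
        exact hii (huniq i hi i₀ hi₀ hcon hpos)
      apply div_nonpos_of_nonpos_of_nonneg _ (hd i hi).le
      exact mul_nonpos_of_nonpos_of_nonneg hri (sq_nonneg _)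
  have hzero := (Finset.sum_eq_zero_iff_of_nonpos hnp).1 hQ
  have hratio : ∀ i ∈ S, r i ≠ 0 → τ i = lam * d i := by
    intro i hi hri
    have h0 := hzero i hi
    have hdi : d i ≠ 0 := (hd i hi).ne'
    rw [div_eq_zero_iff] at h0
    rcases h0 with h0 | h0
    · rcases mul_eq_zero.1 h0 with h | h
      · exact absurd h hri
      · have := pow_eq_zero_iff (two_ne_zero) |>.1 h
        linarith
    · exact absurd h0 hdi
  constructor
  · intro i hi hri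
    rw [hratio i hi hri, hratio i₁ hi₁ hr₁]
    ring
  · by_contra hcon
    push Not at hcon
    have h4 : ∑ i ∈ S, r i * d i = r i₁ * d i₁ := by
      apply Finset.sum_eq_single_of_mem i₁ hi₁
      intro j hj hne
      rw [hcon j hj hne, zero_mul]
    rw [h1] at h4
    rcases mul_eq_zero.1 h4.symm with h | h
    · exact hr₁ h
    · exact (hd i₁ hi₁).ne' h

section

variable {G : Type*} [Group G] [Fintype G] (M : Ideal Cfsg.AlgInt) (hM : Cfsg.IsPModular 2 M)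
  (P : Subgroup G) [Fintype P] (hP : IsPGroup 2 P) (U : Set G) (t : G) (ht : orderOf t = 2)
  (hinv : ∀ u ∈ U, ∀ g : G, (g * t * g⁻¹) * u * (g * t * g⁻¹)⁻¹ ≠ u⁻¹)
  (θ : P → ℂ) (hθU : ∀ y : P, (y : G) ∉ U → θ y = 0)

include hP hinv in
/-- The block orthogonality condition for elements inverted by `t`. -/
theorem orth_cond (g : G) (hg : t * g * t⁻¹ = g⁻¹) (y : P) (hyU : ((y : G))⁻¹ ∈ U) (c : G)
    (k : ℕ) (hk : (y : G) ^ k * c = c * g ^ k) : 2 ∣ k := by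
  by_contra hodd
  -- `z = y ^ k` is inverted by `t' = c t c⁻¹`
  have hz : (y : G) ^ k = c * g ^ k * c⁻¹ := by
    rw [← hk]; group
  have hinvz : (c * t * c⁻¹) * ((y : G) ^ k) * (c * t * c⁻¹)⁻¹ = ((y : G) ^ k)⁻¹ := by
    rw [hz]
    have h1 : (c * t * c⁻¹) * (c * g ^ k * c⁻¹) * (c * t * c⁻¹)⁻¹ = c * (t * g * t⁻¹) ^ k * c⁻¹ := by
      rw [conj_pow]; group
    rw [h1, hg, inv_pow]
    group
  -- `y` is a power of `z`
  obtain ⟨n, hn⟩ := IsPGroup.iff_orderOf.1 hP y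
  have hcop : Nat.Coprime k (orderOf (y : G)) := by
    rw [Subgroup.orderOf_coe, hn]
    apply Nat.Coprime.pow_right
    exact ((Nat.Prime.coprime_iff_not_dvd Nat.prime_two).2 hodd).symm
  obtain ⟨j, hj⟩ := exists_pow_eq_self_of_coprime hcop
  have hinvy : (c * t * c⁻¹) * (y : G) * (c * t * c⁻¹)⁻¹ = ((y : G))⁻¹ := by
    rw [← hj, ← conj_pow, hinvz, inv_pow]
  apply hinv _ hyU c
  rw [inv_inv]
  have h2 : (c * t * c⁻¹) * ((y : G))⁻¹ * (c * t * c⁻¹)⁻¹ =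
      ((c * t * c⁻¹) * (y : G) * (c * t * c⁻¹)⁻¹)⁻¹ := by group
  rw [h2, hinvy, inv_inv]

include hM hθU in
theorem ortho_aux (g : G)
    (hg : ∀ y : P, ((y : G))⁻¹ ∈ U → ∀ (c : G) (k : ℕ), (y : G) ^ k * c = c * g ^ k → 2 ∣ k) :
    ∑ χ ∈ (Set.toFinite (Cfsg.principalBlock M G)).toFinset,
      ((Nat.card P : ℂ)⁻¹ * ∑ y : P, (χ : G → ℂ) (y : G) * θ y⁻¹) * conj ((χ : G → ℂ) g) = 0 := by
  have h1 : ∀ χ : Cfsg.IrrCharacter G,
      ((Nat.card P : ℂ)⁻¹ * ∑ y : P, (χ : G → ℂ) (y : G) * θ y⁻¹) * conj ((χ : G → ℂ) g)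
      = ∑ y : P, (Nat.card P : ℂ)⁻¹ * θ y⁻¹ * ((χ : G → ℂ) (y : G) * conj ((χ : G → ℂ) g)) := by
    intro χ
    rw [Finset.mul_sum, Finset.sum_mul]
    apply Finset.sum_congr rfl
    intro y _
    ring
  simp only [h1]
  rw [Finset.sum_comm]
  apply Finset.sum_eq_zero
  intro y _
  rw [← Finset.mul_sum]
  by_cases hy : ((y : G))⁻¹ ∈ U
  · have h2 := block_orthogonality hM (Cfsg.principalBlock M G) isPBlock_principalBlock (y : G) g
      (hg y hy)
    rw [finsum_mem_eq_finite_toFinset_sum _ (Set.toFinite (Cfsg.principalBlock M G))] at h2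
    rw [h2, mul_zero]
  · have h3 : θ y⁻¹ = 0 := by
      apply hθU
      rw [Subgroup.coe_inv]
      exact hy
    rw [h3, mul_zero, zero_mul]


include hM hP ht hinv hθU in
theorem relations :
    (∑ χ ∈ (Set.toFinite (Cfsg.principalBlock M G)).toFinset,
      ((Nat.card P : ℂ)⁻¹ * ∑ y : P, (χ : G → ℂ) (y : G) * θ y⁻¹) * (χ : G → ℂ) t ^ 2 /
        (χ : G → ℂ) 1 = 0) ∧
    (∑ χ ∈ (Set.toFinite (Cfsg.principalBlock M G)).toFinset,
      ((Nat.card P : ℂ)⁻¹ * ∑ y : P, (χ : G → ℂ) (y : G) * θ y⁻¹) * (χ : G → ℂ) 1 = 0) ∧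
    (∑ χ ∈ (Set.toFinite (Cfsg.principalBlock M G)).toFinset,
      ((Nat.card P : ℂ)⁻¹ * ∑ y : P, (χ : G → ℂ) (y : G) * θ y⁻¹) * (χ : G → ℂ) t = 0) := by
  have ht2 : t * t = 1 := by
    have := pow_orderOf_eq_one t
    rwa [ht, pow_two] at this
  have htinv : t⁻¹ = t := inv_eq_of_mul_eq_one_right ht2
  refine ⟨?_, ?_, ?_⟩
  · -- the class multiplication relation
    have hGne : (Nat.card G : ℂ) ≠ 0 := by exact_mod_cast Nat.card_pos.ne'
    have h1 : ∀ h : G, ∑ χ ∈ (Set.toFinite (Cfsg.principalBlock M G)).toFinset,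
        ((Nat.card P : ℂ)⁻¹ * ∑ y : P, (χ : G → ℂ) (y : G) * θ y⁻¹) *
          (χ : G → ℂ) (t * (h * t * h⁻¹)) = 0 := by
      intro h
      have hs : (h * t * h⁻¹)⁻¹ = h * t * h⁻¹ := by
        rw [mul_inv_rev, mul_inv_rev, inv_inv, htinv, mul_assoc]
      have hg : t * (t * (h * t * h⁻¹))⁻¹ * t⁻¹ = ((t * (h * t * h⁻¹))⁻¹)⁻¹ := by
        rw [inv_inv, mul_inv_rev, hs, htinv, mul_assoc, mul_assoc, ht2, mul_one]
      have h2 := ortho_aux M hM P U θ hθU (t * (h * t * h⁻¹))⁻¹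
        (fun y hy c k hk => orth_cond P hP U t hinv _ hg y hy c k hk)
      rw [← h2]
      apply Finset.sum_congr rfl
      intro χ _
      rw [← char_inv (isCharacter_of_irr χ.2), inv_inv]
    have h3 : ∑ h : G, ∑ χ ∈ (Set.toFinite (Cfsg.principalBlock M G)).toFinset,
        ((Nat.card P : ℂ)⁻¹ * ∑ y : P, (χ : G → ℂ) (y : G) * θ y⁻¹) *
          (χ : G → ℂ) (t * (h * t * h⁻¹)) = 0 :=
      Finset.sum_eq_zero (fun h _ => h1 h)
    rw [Finset.sum_comm] at h3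
    have h4 : ∀ χ : Cfsg.IrrCharacter G,
        ∑ h : G, ((Nat.card P : ℂ)⁻¹ * ∑ y : P, (χ : G → ℂ) (y : G) * θ y⁻¹) *
          (χ : G → ℂ) (t * (h * t * h⁻¹)) =
        (Nat.card G : ℂ) * (((Nat.card P : ℂ)⁻¹ * ∑ y : P, (χ : G → ℂ) (y : G) * θ y⁻¹) *
          (χ : G → ℂ) t ^ 2 / (χ : G → ℂ) 1) := by
      intro χ
      rw [← Finset.mul_sum, sum_char_mul_conj χ.2]
      ring
    simp only [h4] at h3
    rw [← Finset.mul_sum] at h3
    rcases mul_eq_zero.1 h3 with h | h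
    · exact absurd h hGne
    · exact h
  · have hg : t * (1 : G) * t⁻¹ = (1 : G)⁻¹ := by simp
    have h2 := ortho_aux M hM P U θ hθU 1
      (fun y hy c k hk => orth_cond P hP U t hinv _ hg y hy c k hk)
    rw [← h2]
    apply Finset.sum_congr rfl
    intro χ _
    rw [char_one_eq_charDegree (isCharacter_of_irr χ.2), Complex.conj_natCast]
  · have hg : t * t * t⁻¹ = t⁻¹ := by rw [mul_inv_cancel_right, htinv]
    have h2 := ortho_aux M hM P U θ hθU t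
      (fun y hy c k hk => orth_cond P hP U t hinv _ hg y hy c k hk)
    rw [← h2]
    apply Finset.sum_congr rfl
    intro χ _
    rw [← char_inv (isCharacter_of_irr χ.2), htinv]


include hM in
/-- From the real relations and uniqueness of the positive coefficient, produce the normal
subgroup. -/
theorem exists_K (r : Cfsg.IrrCharacter G → ℝ)
    (R1 : ∑ χ ∈ (Set.toFinite (Cfsg.principalBlock M G)).toFinset,
      r χ * ((χ : G → ℂ) 1).re = 0)
    (R2 : ∑ χ ∈ (Set.toFinite (Cfsg.principalBlock M G)).toFinset,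
      r χ * ((χ : G → ℂ) t).re = 0)
    (R3 : ∑ χ ∈ (Set.toFinite (Cfsg.principalBlock M G)).toFinset,
      r χ * ((χ : G → ℂ) t).re ^ 2 / ((χ : G → ℂ) 1).re = 0)
    (huniq : ∀ χ ∈ Cfsg.principalBlock M G, ∀ χ' ∈ Cfsg.principalBlock M G,
      0 < r χ → 0 < r χ' → χ = χ')
    (hr₁ : r (trivIrr G) ≠ 0)
    (hreal : ∀ χ : Cfsg.IrrCharacter G, (((χ : G → ℂ) t).re : ℂ) = (χ : G → ℂ) t) :
    ∃ K : Subgroup G, K.Normal ∧ K ≠ ⊤ ∧ Cfsg.pPrimeCore 2 G ≤ K ∧ t ∈ K := by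
  classical
  set S := (Set.toFinite (Cfsg.principalBlock M G)).toFinset with hS
  have hmem : ∀ χ, χ ∈ S ↔ χ ∈ Cfsg.principalBlock M G := fun χ => Set.Finite.mem_toFinset _
  have hd1 : ∀ χ : Cfsg.IrrCharacter G, (χ : G → ℂ) 1 = ((Cfsg.charDegree (χ : G → ℂ) : ℝ) : ℂ) := by
    intro χ
    rw [char_one_eq_charDegree (isCharacter_of_irr χ.2)]
    simp
  have hdre : ∀ χ : Cfsg.IrrCharacter G,
      ((χ : G → ℂ) 1).re = (Cfsg.charDegree (χ : G → ℂ) : ℝ) := by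
    intro χ
    rw [hd1 χ, Complex.ofReal_re]
  have hdpos : ∀ χ ∈ S, 0 < ((χ : G → ℂ) 1).re := by
    intro χ _
    rw [hdre]
    exact_mod_cast irr_degree_pos χ.2
  have h := real_aux S r (fun χ => ((χ : G → ℂ) 1).re) (fun χ => ((χ : G → ℂ) t).re) hdpos R1 R2 R3
    (fun χ hχ χ' hχ' => huniq χ ((hmem χ).1 hχ) χ' ((hmem χ').1 hχ')) (trivIrr G)
    ((hmem _).2 (trivIrr_mem_principalBlock hM)) hr₁
  obtain ⟨hprop, χj, hjS, hjne, hrj⟩ := h
  have h1 := hprop χj hjS hrj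
  simp only [trivIrr_apply, Complex.one_re, mul_one, one_mul] at h1
  have htj : (χj : G → ℂ) t = (χj : G → ℂ) 1 := by
    rw [← hreal χj, h1, hdre, ← hd1]
  obtain ⟨K, hKn, hK⟩ := exists_kernel (isCharacter_of_irr χj.2)
  refine ⟨K, hKn, ?_, ?_, (hK t).2 htj⟩
  · intro htop
    apply hjne
    have hall : ∀ g : G, (χj : G → ℂ) g = (χj : G → ℂ) 1 := by
      intro g
      rw [← hK, htop]
      exact Subgroup.mem_top g
    have hci : Cfsg.classInner (χj : G → ℂ) (trivIrr G : G → ℂ) = (χj : G → ℂ) 1 := by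
      rw [classInner_def]
      simp only [trivIrr_apply, map_one, mul_one, hall, Finset.sum_const, Finset.card_univ,
        nsmul_eq_mul]
      rw [← Nat.card_eq_fintype_card]
      have hGne : (Nat.card G : ℂ) ≠ 0 := by exact_mod_cast Nat.card_pos.ne'
      field_simp
    by_contra hne
    rw [classInner_irrCharacter_ne hne] at hci
    exact irr_one_ne_zero χj.2 hci.symm
  · unfold Cfsg.pPrimeCore
    apply sSup_le
    rintro N ⟨hNn, hNc⟩
    intro n hn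
    rw [hK]
    have : Fintype N := Fintype.ofFinite _
    have : Fintype (G ⧸ N) := Fintype.ofFinite _
    have hpN : ¬ 2 ∣ Nat.card N := (Nat.Prime.coprime_iff_not_dvd Nat.prime_two).1 hNc.symm
    exact kernel_of_sameBlock N hM hpN (trivIrr G) χj (fun _ _ => rfl) ((hmem χj).1 hjS) n hn


include hM hP ht hinv hθU in
theorem part4 (hθ : Cfsg.IsGeneralizedCharacter P θ)
    (hne : (Nat.card P : ℂ)⁻¹ * ∑ y : P, θ y ≠ 0) :
    (2 ≤ Nat.card {χ : Cfsg.IrrCharacter G // χ ∈ Cfsg.principalBlock M G ∧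
        0 < (((Nat.card P : ℂ)⁻¹ * ∑ y : P, (χ : G → ℂ) (y : G) * θ y⁻¹)).re} ∧
      2 ≤ Nat.card {χ : Cfsg.IrrCharacter G // χ ∈ Cfsg.principalBlock M G ∧
        (((Nat.card P : ℂ)⁻¹ * ∑ y : P, (χ : G → ℂ) (y : G) * θ y⁻¹)).re < 0}) ∨
    ∃ K : Subgroup G, K.Normal ∧ K ≠ ⊤ ∧ Cfsg.pPrimeCore 2 G ≤ K ∧ t ∈ K := by
  classical
  obtain ⟨rel1, rel2, rel3⟩ := relations M hM P hP U t ht hinv θ hθU
  set a : Cfsg.IrrCharacter G → ℂ :=
    fun χ => (Nat.card P : ℂ)⁻¹ * ∑ y : P, (χ : G → ℂ) (y : G) * θ y⁻¹ with ha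
  have ht2 : t * t = 1 := by
    have := pow_orderOf_eq_one t
    rwa [ht, pow_two] at this
  have htinv : t⁻¹ = t := inv_eq_of_mul_eq_one_right ht2
  have hreal : ∀ χ : Cfsg.IrrCharacter G, (((χ : G → ℂ) t).re : ℂ) = (χ : G → ℂ) t := by
    intro χ
    apply Complex.conj_eq_iff_re.1
    rw [← char_inv (isCharacter_of_irr χ.2), htinv]
  have hd1 : ∀ χ : Cfsg.IrrCharacter G, (((χ : G → ℂ) 1).re : ℂ) = (χ : G → ℂ) 1 := by
    intro χ
    rw [char_one_eq_charDegree (isCharacter_of_irr χ.2)]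
    simp
  -- the real relations
  have R2 : ∑ χ ∈ (Set.toFinite (Cfsg.principalBlock M G)).toFinset,
      (a χ).re * ((χ : G → ℂ) 1).re = 0 := by
    have h := congrArg Complex.re rel2
    rw [Complex.re_sum, Complex.zero_re] at h
    rw [← h]
    apply Finset.sum_congr rfl
    intro χ _
    conv_rhs => rw [← hd1 χ]
    rw [Complex.re_mul_ofReal]
  have R3 : ∑ χ ∈ (Set.toFinite (Cfsg.principalBlock M G)).toFinset,
      (a χ).re * ((χ : G → ℂ) t).re = 0 := by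
    have h := congrArg Complex.re rel3
    rw [Complex.re_sum, Complex.zero_re] at h
    rw [← h]
    apply Finset.sum_congr rfl
    intro χ _
    conv_rhs => rw [← hreal χ]
    rw [Complex.re_mul_ofReal]
  have R1 : ∑ χ ∈ (Set.toFinite (Cfsg.principalBlock M G)).toFinset,
      (a χ).re * ((χ : G → ℂ) t).re ^ 2 / ((χ : G → ℂ) 1).re = 0 := by
    have h := congrArg Complex.re rel1
    rw [Complex.re_sum, Complex.zero_re] at h
    rw [← h]
    apply Finset.sum_congr rfl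
    intro χ _
    have h2 : a χ * (χ : G → ℂ) t ^ 2 / (χ : G → ℂ) 1 =
        a χ * ((((χ : G → ℂ) t).re ^ 2 / ((χ : G → ℂ) 1).re : ℝ) : ℂ) := by
      push_cast
      rw [hreal χ, hd1 χ, mul_div_assoc]
    rw [h2, Complex.re_mul_ofReal, mul_div_assoc]
  -- the coefficient of the trivial character
  have ha1 : a (trivIrr G) = (Nat.card P : ℂ)⁻¹ * ∑ y : P, θ y := by
    simp only [ha, trivIrr_apply, one_mul]
    congr 1
    exact Equiv.sum_comp (Equiv.inv P) θ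
  have hreal1 : ∃ z : ℤ, a (trivIrr G) = (z : ℂ) := by
    obtain ⟨ψ₁, ψ₂, h1, h2, rfl⟩ := hθ
    obtain ⟨n1, hn1⟩ := classInner_isCharacter_nat h1 (isCharacter_of_irr (trivIrr P).2)
    obtain ⟨n2, hn2⟩ := classInner_isCharacter_nat h2 (isCharacter_of_irr (trivIrr P).2)
    refine ⟨(n1 : ℤ) - (n2 : ℤ), ?_⟩
    rw [ha1]
    push_cast
    rw [← hn1, ← hn2, classInner_def, classInner_def]
    simp only [trivIrr_apply, map_one, mul_one, Pi.sub_apply, Finset.sum_sub_distrib, mul_sub]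
  have hr1 : (a (trivIrr G)).re ≠ 0 := by
    obtain ⟨z, hz⟩ := hreal1
    rw [hz, Complex.intCast_re]
    intro h0
    apply hne
    rw [← ha1, hz]
    have : z = 0 := by exact_mod_cast h0
    rw [this]; simp
  by_contra hcon
  rw [not_or] at hcon
  obtain ⟨hc, hK⟩ := hcon
  rcases not_and_or.1 hc with h | h
  · have hsub : Subsingleton {χ : Cfsg.IrrCharacter G // χ ∈ Cfsg.principalBlock M G ∧
        0 < (a χ).re} := Finite.card_le_one_iff_subsingleton.1 (Nat.lt_succ_iff.1 (Nat.not_le.1 h))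
    apply hK
    apply exists_K M hM t (fun χ => (a χ).re) R2 R3 R1 _ hr1 hreal
    intro χ hχ χ' hχ' hp hp'
    have := hsub.elim ⟨χ, hχ, hp⟩ ⟨χ', hχ', hp'⟩
    exact congrArg Subtype.val this
  · have hsub : Subsingleton {χ : Cfsg.IrrCharacter G // χ ∈ Cfsg.principalBlock M G ∧
        (a χ).re < 0} := Finite.card_le_one_iff_subsingleton.1 (Nat.lt_succ_iff.1 (Nat.not_le.1 h))
    apply hK
    apply exists_K M hM t (fun χ => -(a χ).re) _ _ _ _ (neg_ne_zero.2 hr1) hreal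
    · simp only [neg_mul, Finset.sum_neg_distrib, R2, neg_zero]
    · simp only [neg_mul, Finset.sum_neg_distrib, R3, neg_zero]
    · simp only [neg_mul, neg_div, Finset.sum_neg_distrib, R1, neg_zero]
    · intro χ hχ χ' hχ' hp hp'
      have := hsub.elim ⟨χ, hχ, neg_pos.1 hp⟩ ⟨χ', hχ', neg_pos.1 hp'⟩
      exact congrArg Subtype.val this

end

/-- Let M be a maximal ideal of the algebraic integers containing 2, P a 2-subgroup of the finite group G, U a subset of P, and t an involution of G such that no element of U is inverted by any conjugate of t. Let θ be a generalized character of P vanishing outside U, and for χ in the principal 2-block B₀ put a_χ = #P⁻¹ Σ_{y ∈ P} χ(y) θ(y⁻¹). Then Σ_{χ ∈ B₀} a_χ χ(t)^2/χ(1) = 0, Σ_{χ ∈ B₀} a_χ χ(1) = 0 and Σ_{χ ∈ B₀} a_χ χ(t) = 0. If moreover #P⁻¹ Σ_{y ∈ P} θ(y) ≠ 0, then either at least two of the a_χ have positive real part and at least two have negative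 real part, or G has a proper normal subgroup containing O_2'(G) and t. -/
theorem result {G : Type*} [Group G] [Finite G] (M : Ideal Cfsg.AlgInt) (hM : Cfsg.IsPModular 2 M) (P : Subgroup G) (hP : IsPGroup 2 P) (U : Set G) (hUP : U ⊆ (P : Set G)) (t : G) (ht : orderOf t = 2) (hinv : ∀ u ∈ U, ∀ g : G, (g * t * g⁻¹) * u * (g * t * g⁻¹)⁻¹ ≠ u⁻¹) (θ : ↥P → ℂ) (hθ : Cfsg.IsGeneralizedCharacter ↥P θ) (hθU : ∀ y : ↥P, (y : G) ∉ U → θ y = 0) : (∑ᶠ χ ∈ Cfsg.principalBlock M G, ((Nat.card ↥P : ℂ)⁻¹ * ∑ᶠ y : ↥P, (χ : G → ℂ) (y : G) * θ y⁻¹) * (χ : G → ℂ) t ^ 2 / (χ : G → ℂ) 1 = 0) ∧ (∑ᶠ χ ∈ Cfsg.principalBlock M G, ((Nat.card ↥P : ℂ)⁻¹ * ∑ᶠ y : ↥P, (χ : G → ℂ) (y : G) * θ y⁻¹) * (χ : G → ℂ) 1 = 0) ∧ (∑ᶠ χ ∈ Cfsg.principalBlock M G, ((Nat.card ↥P : ℂ)⁻¹ * ∑ᶠ y : ↥P, (χ : G → ℂ) (y : G) * θ y⁻¹) * (χ : G → ℂ) t = 0) ∧ ((Nat.card ↥P : ℂ)⁻¹ * ∑ᶠ y : ↥P, θ y ≠ 0 → (2 ≤ Nat.card {χ : Cfsg.IrrCharacter G // χ ∈ Cfsg.principalBlock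 M G ∧ 0 < (((Nat.card ↥P : ℂ)⁻¹ * ∑ᶠ y : ↥P, (χ : G → ℂ) (y : G) * θ y⁻¹)).re} ∧ 2 ≤ Nat.card {χ : Cfsg.IrrCharacter G // χ ∈ Cfsg.principalBlock M G ∧ (((Nat.card ↥P : ℂ)⁻¹ * ∑ᶠ y : ↥P, (χ : G → ℂ) (y : G) * θ y⁻¹)).re < 0}) ∨ ∃ K : Subgroup G, K.Normal ∧ K ≠ ⊤ ∧ Cfsg.pPrimeCore 2 G ≤ K ∧ t ∈ K) := by
  classical
  have : Fintype G := Fintype.ofFinite G
  have : Fintype P := Fintype.ofFinite P
  simp only [finsum_eq_sum_of_fintype]
  obtain ⟨rel1, rel2, rel3⟩ := relations M hM P hP U t ht hinv θ hθU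
  refine ⟨?_, ?_, ?_, ?_⟩
  · rw [finsum_mem_eq_finite_toFinset_sum _ (Set.toFinite (Cfsg.principalBlock M G))]
    exact rel1
  · rw [finsum_mem_eq_finite_toFinset_sum _ (Set.toFinite (Cfsg.principalBlock M G))]
    exact rel2
  · rw [finsum_mem_eq_finite_toFinset_sum _ (Set.toFinite (Cfsg.principalBlock M G))]
    exact rel3
  · intro hne
    exact part4 M hM P hP U t ht hinv θ hθU hθ hne

end Cfsg.Agent.S4722



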