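import Cfsg.Statements.S0845
import Mathlib
import Cfsg.Agent.Lib.Helper17.BSKer

set_option autoImplicit false
open Cfsg

namespace Cfsg.Agent.S0845

open Cfsg.Agent.Lib.Helper17 Cfsg.Agent.Lib.Helper2 in
open scoped commutatorElement in
/-- Suppose a Sylow 2-subgroup S of the finite group G is generalized quaternion of order at least 16. Then G has a normal subgroup M of even order such that G / M is non-abelian, that is, M does not contain the commutator subgroup of G. -/
theorem result {G : Type*} [Group G] [Finite G] (S : Sylow 2 G) (n : ℕ) (e : (S : Subgroup G) ≃* QuaternionGroup (2 ^ (n + 2))) : ∃ M : Subgroup G, M.Normal ∧ Even (Nat.card M) ∧ ¬ commutator G ≤ M := by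
  classical
  have : Fintype G := Fintype.ofFinite G
  have : NeZero (2 ^ (n + 2)) := ⟨by positivity⟩
  obtain ⟨χ₁, χ₂, -, -, hdeg, hval⟩ := bs_quat S n e
  obtain ⟨t, -, ht, -⟩ := quat_unique_inv (S : Subgroup G) _ e
  have hP : ∀ h g : G, IsConj (t * (h * t * h⁻¹)) g → ¬ 2 ∣ orderOf g := by
    intro h g hc
    have ho : orderOf (h * t * h⁻¹) = 2 := by
      rw [Cfsg.Agent.Lib.Helper23.QuatSylow.orderOf_conj']; exact ht
    have h3 := prod_inv_odd S _ e ht ho
    obtain ⟨c, hc⟩ := isConj_iff.mp hc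
    rw [← hc, Cfsg.Agent.Lib.Helper23.QuatSylow.orderOf_conj']
    exact h3
  have hker := bs_kernel t ht hP χ₁ χ₂ hdeg hval
  obtain ⟨M, hMn, hM⟩ := Cfsg.Agent.Lib.Helper25.exists_kernel (IsIrrCharacter.isCharacter χ₁.2)
  refine ⟨M, hMn, ?_, ?_⟩
  · have htM : t ∈ M := (hM t).mpr hker
    have := Subgroup.orderOf_dvd_natCard M htM
    rw [ht] at this
    exact even_iff_two_dvd.mpr this
  · intro hcomm
    have := hMn
    obtain ⟨ψ, hψ, hψχ⟩ := Cfsg.Agent.Lib.Helper25.exists_deflation M χ₁.2
      (fun n hn => (hM n).mp hn)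
    have hab : ∀ a b : G ⧸ M, a * b = b * a := by
      intro a b
      obtain ⟨a, rfl⟩ := QuotientGroup.mk_surjective a
      obtain ⟨b, rfl⟩ := QuotientGroup.mk_surjective b
      rw [← QuotientGroup.mk_mul, ← QuotientGroup.mk_mul, QuotientGroup.eq]
      apply hcomm
      have : (a * b)⁻¹ * (b * a) = ⁅b⁻¹, a⁻¹⁆ := by rw [commutatorElement_def]; group
      rw [this, commutator_def]
      exact Subgroup.commutator_mem_commutator (Subgroup.mem_top _) (Subgroup.mem_top _)
    have h1' := IsIrrCharacter.apply_one_of_comm hab hψ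
    have h1 : (χ₁ : G → ℂ) 1 = 1 := by rw [hψχ 1]; exact h1'
    obtain ⟨d, hdpos, hd⟩ := IsIrrCharacter.apply_one χ₂.2
    rw [hdeg, hd] at h1
    have : (d : ℂ) = 0 := by linear_combination h1
    exact hdpos.ne' (by exact_mod_cast this)

end Cfsg.Agent.S0845
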