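import Mathlib
import Cfsg.Statements.S0992
import Cfsg.Agent.Lib.Helper7.SylowBasic
import Cfsg.Agent.Lib.Helper7.Aut

set_option autoImplicit false
open Cfsg

namespace Cfsg.Agent.S0992

open Cfsg.Agent.Lib.Helper7

/-- Let G be a non-abelian finite simple group of even order not divisible by 8, and T a Sylow 2-subgroup. Then T is a Klein four-group and the centralizer of T has index 3 in the normalizer of T. -/
theorem result {G : Type*} [Group G] [Finite G] [IsSimpleGroup G] (hG : ¬ IsMulCommutative G) (h2 : Even (Nat.card G)) (h8 : ¬ 8 ∣ Nat.card G) (T : Sylow 2 G) : IsKleinFour ↥(T : Subgroup G) ∧ (Subgroup.centralizer ((T : Subgroup G) : Set G)).relIndex (Subgroup.normalizer ((T : Subgroup G) : Set G)) = 3 := by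
  have h2dvd : 2 ∣ Nat.card G := h2.two_dvd
  have hp2 : Nat.Prime 2 := Nat.prime_two
  have hne2 : Nat.card G ≠ 2 := by
    intro h
    have : Fact (Nat.Prime 2) := ⟨hp2⟩
    have hc : IsCyclic G := isCyclic_of_prime_card h
    exact hG hc.isMulCommutative
  have hNC : ¬ Subgroup.normalizer ((T : Subgroup G) : Set G) ≤
      Subgroup.centralizer ((T : Subgroup G) : Set G) := fun h =>
    hne2 (card_eq_prime_of_simple_of_normalizer_le_centralizer T h2dvd h)
  have hncyc : ¬ IsCyclic (T : Subgroup G) := fun h =>
    hNC (IsCyclic.normalizer_le_centralizer ((Nat.minFac_eq_two_iff _).mpr h2dvd) h)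
  have hG0 : Nat.card G ≠ 0 := Nat.card_pos.ne'
  have hcT : Nat.card (T : Subgroup G) = 4 := by
    have h1 := Sylow.card_eq_multiplicity T
    have hk1 : 1 ≤ (Nat.card G).factorization 2 :=
      (hp2.dvd_iff_one_le_factorization hG0).mp h2dvd
    have hk2 : (Nat.card G).factorization 2 < 3 := by
      by_contra hge
      push Not at hge
      exact h8 ((hp2.pow_dvd_iff_le_factorization hG0).mpr hge)
    have hk : (Nat.card G).factorization 2 = 1 ∨ (Nat.card G).factorization 2 = 2 := by omega
    rcases hk with hk | hk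
    · exfalso
      rw [hk, pow_one] at h1
      have : Fact (Nat.Prime 2) := ⟨hp2⟩
      exact hncyc (isCyclic_of_prime_card h1)
    · rw [hk] at h1; rw [h1]; norm_num
  have hord : ∀ x : (T : Subgroup G), x ^ 2 = 1 := by
    intro x
    have h1 : orderOf x ∣ 4 := hcT ▸ orderOf_dvd_natCard x
    have h4 : orderOf x ≠ 4 := fun h => hncyc (isCyclic_of_orderOf_eq_card x (h.trans hcT.symm))
    have hle : orderOf x ≤ 4 := Nat.le_of_dvd (by norm_num) h1
    have h3 : orderOf x ∣ 2 := by
      interval_cases h : orderOf x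
      · simp at h1
      · norm_num
      · norm_num
      · norm_num at h1
      · exact absurd rfl h4
    exact orderOf_dvd_iff_pow_eq_one.mp h3
  have hexp : Monoid.exponent (T : Subgroup G) = 2 := by
    have h1 : Monoid.exponent (T : Subgroup G) ∣ 2 := Monoid.exponent_dvd_of_forall_pow_eq_one hord
    rcases (Nat.dvd_prime hp2).mp h1 with h | h
    · exfalso
      rw [Monoid.exp_eq_one_iff] at h
      have : Nat.card (T : Subgroup G) = 1 := Nat.card_eq_one_iff_unique.mpr ⟨h, ⟨1⟩⟩
      omega
    · exact h
  have hK : IsKleinFour (T : Subgroup G) := ⟨hcT, hexp⟩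
  refine ⟨hK, ?_⟩
  have hd1 := relIndex_centralizer_normalizer_dvd (T : Subgroup G)
  have hd2 := card_mulAut_dvd_factorial (T : Subgroup G)
  rw [hcT] at hd2
  have hd3 : (Subgroup.centralizer ((T : Subgroup G) : Set G)).relIndex
      (Subgroup.normalizer ((T : Subgroup G) : Set G)) ∣ 6 := hd1.trans hd2
  have hTC : (T : Subgroup G) ≤ Subgroup.centralizer ((T : Subgroup G) : Set G) := by
    rw [Subgroup.le_centralizer_iff_isMulCommutative]
    exact ⟨⟨fun a b => mul_comm_of_exponent_two hexp a b⟩⟩
  have hodd : ¬ 2 ∣ (Subgroup.centralizer ((T : Subgroup G) : Set G)).relIndex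
      (Subgroup.normalizer ((T : Subgroup G) : Set G)) := by
    intro h
    have h1 : (Subgroup.centralizer ((T : Subgroup G) : Set G)).relIndex
      (Subgroup.normalizer ((T : Subgroup G) : Set G)) ∣ (T : Subgroup G).relIndex
      (Subgroup.normalizer ((T : Subgroup G) : Set G)) := Subgroup.relIndex_dvd_of_le_left _ hTC
    have h3 : (T : Subgroup G).relIndex
      (Subgroup.normalizer ((T : Subgroup G) : Set G)) ∣ (T : Subgroup G).index :=
      Subgroup.relIndex_dvd_index_of_le Subgroup.le_normalizer
    have : Fact (Nat.Prime 2) := ⟨hp2⟩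
    exact T.not_dvd_index (h.trans (h1.trans h3))
  have hne1 : (Subgroup.centralizer ((T : Subgroup G) : Set G)).relIndex
      (Subgroup.normalizer ((T : Subgroup G) : Set G)) ≠ 1 := by
    intro h
    exact hNC (Subgroup.relIndex_eq_one.mp h)
  have hle : (Subgroup.centralizer ((T : Subgroup G) : Set G)).relIndex
      (Subgroup.normalizer ((T : Subgroup G) : Set G)) ≤ 6 := Nat.le_of_dvd (by norm_num) hd3
  generalize (Subgroup.centralizer ((T : Subgroup G) : Set G)).relIndex
      (Subgroup.normalizer ((T : Subgroup G) : Set G)) = n at *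
  interval_cases n <;> omega

end Cfsg.Agent.S0992
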