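import Cfsg.Statements.S2530
import Cfsg.Agent.Lib.Helper15.CoxA

set_option autoImplicit false
open Cfsg

namespace Cfsg.Agent.S2530

open Cfsg.Agent.Lib.Helper15

/-- The Coxeter presentation of the symmetric group: for every n, the symmetric group on n+1 letters is the Coxeter group of type A_n with the adjacent transpositions (i, i+1) as simple reflections; that is, it is presented by generators r_1, …, r_n subject to r_i² = 1, (r_i r_j)² = 1 for |i − j| > 1 and (r_i r_{i+1})³ = 1, with r_i mapping to (i, i+1). -/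
theorem result (n : ℕ) :
    ∃ cs : CoxeterSystem (CoxeterMatrix.A n) (Equiv.Perm (Fin (n + 1))), ∀ i : Fin n, cs.simple i = Equiv.swap i.castSucc i.succ := by
  classical
  let cs₀ := (CoxeterMatrix.A n).toCoxeterSystem
  let t : ℕ → (CoxeterMatrix.A n).Group := fun i => if h : i < n then cs₀.simple ⟨i, h⟩ else 1
  have R1 : ∀ i, t i * t i = 1 := by
    intro i
    simp only [t]
    split_ifs with h
    · exact cs₀.simple_mul_simple_self _
    · simp
  have R2 : ∀ i j, i + 2 ≤ j → t i * t j = t j * t i := by
    intro i j hij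
    simp only [t]
    split_ifs with h1 h2 h2
    · apply comm_of_sq _ _ (cs₀.simple_mul_simple_self _) (cs₀.simple_mul_simple_self _)
      have h := cs₀.simple_mul_simple_pow ⟨i, h1⟩ ⟨j, h2⟩
      rw [coxA_apply, if_neg (by intro h'; have := congrArg Fin.val h'; simp at this; omega),
        if_neg (by simp; omega)] at h
      exact h
    all_goals simp
  have R3 : ∀ i, i + 1 < n → t i * t (i + 1) * t i = t (i + 1) * t i * t (i + 1) := by
    intro i hi
    simp only [t]
    rw [dif_pos (by omega : i < n), dif_pos hi]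
    apply braid_of_cube _ _ (cs₀.simple_mul_simple_self _) (cs₀.simple_mul_simple_self _)
    have h := cs₀.simple_mul_simple_pow ⟨i, by omega⟩ ⟨i + 1, hi⟩
    rw [coxA_apply, if_neg (by intro h'; have := congrArg Fin.val h'; simp at this),
      if_pos (by simp)] at h
    exact h
  obtain ⟨S, hS, hcard⟩ := genSub_finset t R1 R2 n R3 n le_rfl
  have htop : genSub t n = ⊤ := by
    rw [eq_top_iff, ← cs₀.subgroup_closure_range_simple]
    apply Subgroup.closure_mono
    rintro _ ⟨i, rfl⟩
    exact ⟨i.val, i.isLt, by simp [t]⟩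
  letI : Fintype (CoxeterMatrix.A n).Group := ⟨S, fun w => hS w (by rw [htop]; trivial)⟩
  have hcardW : Fintype.card (CoxeterMatrix.A n).Group ≤ (n + 1).factorial := hcard
  let φ : (CoxeterMatrix.A n).Group →* Equiv.Perm (Fin (n + 1)) := cs₀.lift ⟨_, isLiftable_swap n⟩
  have hφ : ∀ i, φ (cs₀.simple i) = Equiv.swap i.castSucc i.succ :=
    fun i => cs₀.lift_apply_simple (isLiftable_swap n) i
  have hsurj : Function.Surjective φ := by
    rw [← MonoidHom.mrange_eq_top, eq_top_iff, ← Equiv.Perm.mclosure_swap_castSucc_succ n, Submonoid.closure_le]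
    rintro _ ⟨i, rfl⟩
    exact ⟨cs₀.simple i, hφ i⟩
  have hbij : Function.Bijective φ := by
    rw [Fintype.bijective_iff_surjective_and_card]
    refine ⟨hsurj, le_antisymm ?_ (Fintype.card_le_of_surjective φ hsurj)⟩
    rw [Fintype.card_perm, Fintype.card_fin]
    exact hcardW
  refine ⟨cs₀.map (MulEquiv.ofBijective φ hbij), fun i => ?_⟩
  rw [CoxeterSystem.map_simple]
  exact hφ i

end Cfsg.Agent.S2530
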