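import Cfsg.Statements.S0600
import Cfsg.Agent.H5.Cores

set_option autoImplicit false
open Cfsg

namespace Cfsg.Agent.S0600

/-- A normal elementary abelian p-subgroup generated by the fixed points of the Sylow p-subgroups admits no nontrivial normal p-subgroup of G modulo its centralizer. -/
theorem result {G : Type*} [Group G] [Finite G] {p : ℕ} [Fact p.Prime] (V : Subgroup G) [V.Normal] (hV : Cfsg.IsElementaryAbelian p V) (hgen : V = ⨆ S : Sylow p G, V ⊓ Subgroup.centralizer ((S : Subgroup G) : Set G)) : Cfsg.pCore p (G ⧸ Subgroup.centralizer (V : Set G)) = ⊥ := by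
  rw [eq_bot_iff]
  intro y hy
  obtain ⟨x, rfl⟩ := QuotientGroup.mk_surjective y
  rw [Subgroup.mem_bot, QuotientGroup.eq_one_iff]
  have hVx : V ≤ Subgroup.centralizer ({x} : Set G) := by
    calc V = ⨆ S : Sylow p G, V ⊓ Subgroup.centralizer ((S : Subgroup G) : Set G) := hgen
      _ ≤ Subgroup.centralizer ({x} : Set G) := by
        apply iSup_le
        intro S w hw
        have hn := Cfsg.H5.pCore_normal p (G ⧸ Subgroup.centralizer (V : Set G))
        have hD := (Cfsg.H5.pCore_isPGroup p (G ⧸ Subgroup.centralizer (V : Set G))).le_sylow_of_normal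
          (S.mapSurjective (QuotientGroup.mk'_surjective (Subgroup.centralizer (V : Set G))))
        have hy' := hD hy
        rw [← SetLike.mem_coe, Sylow.coe_mapSurjective] at hy'
        obtain ⟨s, hs, hsx⟩ := hy'
        have hc : s⁻¹ * x ∈ Subgroup.centralizer (V : Set G) := by
          rw [← QuotientGroup.eq]; exact hsx
        rw [Subgroup.mem_centralizer_iff]
        intro h hh
        rw [Set.mem_singleton_iff] at hh
        subst hh
        have h1 : s * w = w * s := (Subgroup.mem_centralizer_iff.mp hw.2) s hs
        have h2 : w * (s⁻¹ * h) = (s⁻¹ * h) * w := (Subgroup.mem_centralizer_iff.mp hc) w hw.1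
        calc h * w = s * ((s⁻¹ * h) * w) := by group
          _ = s * (w * (s⁻¹ * h)) := by rw [h2]
          _ = (s * w) * (s⁻¹ * h) := by group
          _ = (w * s) * (s⁻¹ * h) := by rw [h1]
          _ = w * h := by group
  rw [Subgroup.mem_centralizer_iff]
  intro v hv
  have := (Subgroup.mem_centralizer_iff.mp (hVx hv)) x rfl
  exact this.symm

end Cfsg.Agent.S0600
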