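import Cfsg.Statements.S0601
import Cfsg.Agent.H5.Omega
import Cfsg.Agent.S0600

set_option autoImplicit false
open Cfsg

namespace Cfsg.Agent.S0601

/-- When O_p(G) contains its centralizer, the normal closure of Ω₁(Z(S)) is elementary abelian and G has no nontrivial normal p-subgroup modulo its centralizer. -/
theorem result {G : Type*} [Group G] [Finite G] {p : ℕ} [Fact p.Prime] (hc : Subgroup.centralizer (Cfsg.pCore p G : Set G) ≤ Cfsg.pCore p G) : (⨆ S : Sylow p G, Cfsg.omegaOne p (((S : Subgroup G)) ⊓ Subgroup.centralizer ((S : Subgroup G) : Set G))).Normal ∧ Cfsg.IsElementaryAbelian p (⨆ S : Sylow p G, Cfsg.omegaOne p (((S : Subgroup G)) ⊓ Subgroup.centralizer ((S : Subgroup G) : Set G))) ∧ ∀ D : Subgroup G, D.Normal → Subgroup.centralizer ((⨆ S : Sylow p G, Cfsg.omegaOne p (((S : Subgroup G)) ⊓ Subgroup.centralizer ((S : Subgroup G) : Set G)) : Subgroup G) : Set G) ≤ D → (∃ k : ℕ, (Subgroup.centralizer ((⨆ S : Sylow p G, Cfsg.omegaOne p (((S : Subgroup G)) ⊓ Subgroup.centralizer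 ((S : Subgroup G) : Set G)) : Subgroup G) : Set G)).relIndex D = p ^ k) → D = Subgroup.centralizer ((⨆ S : Sylow p G, Cfsg.omegaOne p (((S : Subgroup G)) ⊓ Subgroup.centralizer ((S : Subgroup G) : Set G)) : Subgroup G) : Set G) := by
  have hWn : (⨆ S : Sylow p G, Cfsg.H5.omegaZ p (S : Subgroup G)).Normal :=
    Cfsg.H5.iSup_omegaZ_sylow_normal p
  have hWe : Cfsg.IsElementaryAbelian p (⨆ S : Sylow p G, Cfsg.H5.omegaZ p (S : Subgroup G)) :=
    Cfsg.H5.iSup_omegaZ_sylow_isElementaryAbelian p hc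
  set W : Subgroup G := ⨆ S : Sylow p G, Cfsg.H5.omegaZ p (S : Subgroup G) with hW
  refine ⟨hWn, hWe, ?_⟩
  intro D hDn hCD ⟨k, hk⟩
  -- hypothesis of S0600
  have hgen : W = ⨆ S : Sylow p G, W ⊓ Subgroup.centralizer ((S : Subgroup G) : Set G) := by
    apply le_antisymm
    · rw [hW]
      apply iSup_le
      intro S
      refine le_trans ?_ (le_iSup _ S)
      apply le_inf (le_iSup (fun S : Sylow p G => Cfsg.H5.omegaZ p (S : Subgroup G)) S)
      exact (Cfsg.H5.omegaOne_le p _).trans inf_le_right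
    · exact iSup_le fun S => inf_le_left
  have h600 := Cfsg.Agent.S0600.result W hWe hgen
  apply le_antisymm _ hCD
  -- the image of `D` is a normal `p`-subgroup of the quotient
  have hDbar : D.map (QuotientGroup.mk' (Subgroup.centralizer (W : Set G))) ≤
      Cfsg.pCore p (G ⧸ Subgroup.centralizer (W : Set G)) := by
    apply Cfsg.H5.le_pCore
    · exact hDn.map _ (QuotientGroup.mk'_surjective _)
    · apply IsPGroup.of_card (n := k)
      rw [← hk, ← Subgroup.relIndex_ker, QuotientGroup.ker_mk']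
  rw [h600, le_bot_iff] at hDbar
  intro x hx
  have : (QuotientGroup.mk' (Subgroup.centralizer (W : Set G))) x ∈
      D.map (QuotientGroup.mk' (Subgroup.centralizer (W : Set G))) := Subgroup.mem_map_of_mem _ hx
  rw [hDbar, Subgroup.mem_bot, QuotientGroup.mk'_apply, QuotientGroup.eq_one_iff] at this
  exact this

end Cfsg.Agent.S0601
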