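-- Statement S0607: the replacement theorem for the Thompson subgroup.
import Mathlib
import Cfsg.Statements.S0607
import Cfsg.Agent.H5.Replacement
import Cfsg.Agent.H5.NilAct
import Cfsg.Agent.H5.Thompson
import Cfsg.Agent.H5.Basic

set_option autoImplicit false
open Cfsg

namespace Cfsg.Agent.S0607

open Subgroup Cfsg.H5
open scoped commutatorElement

/-- The replacement Theorem for the Thompson subgroup: from A of maximal order among elementary abelian p-subgroups one obtains A₀ = [V, A] C_A([V, A]) of the same kind, quadratic on V and nontrivial on V when A is. -/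
theorem result {G : Type*} [Group G] [Finite G] {p : ℕ} [Fact p.Prime] (V : Subgroup G) [V.Normal] (hV : Cfsg.IsElementaryAbelian p V) (A : Subgroup G) (hA : A ∈ Cfsg.maxElementaryAbelianSubgroups p G) : (⁅V, A⁆ ⊔ (A ⊓ Subgroup.centralizer ((⁅V, A⁆ : Subgroup G) : Set G))) ∈ Cfsg.maxElementaryAbelianSubgroups p G ∧ ⁅⁅V, ⁅V, A⁆ ⊔ (A ⊓ Subgroup.centralizer ((⁅V, A⁆ : Subgroup G) : Set G))⁆, ⁅V, A⁆ ⊔ (A ⊓ Subgroup.centralizer ((⁅V, A⁆ : Subgroup G) : Set G))⁆ = ⊥ ∧ (⁅V, A⁆ ≠ ⊥ → ⁅V, ⁅V, A⁆ ⊔ (A ⊓ Subgroup.centralizer ((⁅V, A⁆ : Subgroup G) : Set G))⁆ ≠ ⊥) := by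
  classical
  have hVc : IsMulCommutative V := hV.1
  have hAc : IsMulCommutative A := hA.1.1
  have hAV : A ≤ normalizer (V : Set G) := by
    rw [normalizer_eq_top]; exact le_top
  have hVcomm : ∀ x ∈ V, ∀ y ∈ V, x * y = y * x := fun x hx y hy =>
    congrArg Subtype.val (hVc.is_comm.comm ⟨x, hx⟩ ⟨y, hy⟩)
  have hAcomm : ∀ x ∈ A, ∀ y ∈ A, x * y = y * x := fun x hx y hy =>
    congrArg Subtype.val (hAc.is_comm.comm ⟨x, hx⟩ ⟨y, hy⟩)
  have hVcent : V ≤ centralizer (V : Set G) := fun x hx =>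
    mem_centralizer_iff.mpr fun y hy => hVcomm y hy x hx
  have hAcent : A ≤ centralizer (A : Set G) := fun x hx =>
    mem_centralizer_iff.mpr fun y hy => hAcomm y hy x hx
  have hab : ⁅A, A⁆ ≤ centralizer (V : Set G) := by
    have : ⁅A, A⁆ = ⊥ := commutator_eq_bot_iff_le_centralizer.mpr hAcent
    rw [this]; exact bot_le
  have hpow : ∀ a ∈ A, a ^ p ∈ centralizer (V : Set G) := by
    intro a ha
    rw [hA.1.2 a ha]; exact Subgroup.one_mem _
  have hAVfix : A ⊓ V ≤ fix V A := le_inf inf_le_right (inf_le_left.trans hAcent)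
  -- `A` is a best offender
  have hgen : ∀ B : Subgroup G, B ≤ A →
      Cfsg.IsElementaryAbelian p (B ⊔ fix V B) ∧
      Nat.card ↥(B ⊔ fix V B) * Nat.card ↥(B ⊓ fix V B) = mm V B ∧ B ⊓ fix V B ≤ A ⊓ V := by
    intro B hB
    have hBF : B ≤ centralizer ((fix V B : Subgroup G) : Set G) :=
      le_centralizer_iff.mp inf_le_right
    refine ⟨isElementaryAbelian_sup (isElementaryAbelian_mono hA.1 hB)
      (isElementaryAbelian_mono hV inf_le_left) hBF, ?_, ?_⟩
    · exact card_sup_mul_card_inf (le_normalizer_of_le_centralizer hBF)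
    · exact inf_le_inf hB inf_le_left
  have hmax : ∀ B : Subgroup G, B ≤ A → mm V B ≤ mm V A := by
    intro B hB
    obtain ⟨h1, h2, h3⟩ := hgen B hB
    rw [← h2]
    have h4 : Nat.card ↥(B ⊔ fix V B) ≤ Nat.card A := hA.2 _ h1
    have h5 : Nat.card ↥(B ⊓ fix V B) ≤ Nat.card (fix V A) :=
      Subgroup.card_le_of_le (h3.trans hAVfix)
    exact Nat.mul_le_mul h4 h5
  obtain ⟨r1, r2⟩ := replacement V A hAV hab hmax V le_rfl
  set X := ⁅V, A⁆ with hX
  set B := A ⊓ centralizer (X : Set G) with hB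
  have hXV : X ≤ V := by
    rw [hX, Subgroup.commutator_le]
    intro v hv a ha
    have h1 : a * v⁻¹ * a⁻¹ ∈ V := (inferInstance : V.Normal).conj_mem v⁻¹ (V.inv_mem hv) a
    have : ⁅v, a⁆ = v * (a * v⁻¹ * a⁻¹) := by rw [commutatorElement_def]; group
    rw [this]; exact V.mul_mem hv h1
  have hBA : B ≤ A := inf_le_left
  -- `C_V(A) = A ∩ V`
  have hfixA : fix V A = A ⊓ V := by
    apply le_antisymm _ hAVfix
    obtain ⟨h1, -, -⟩ := hgen A le_rfl
    have := eq_of_mem_maxElementaryAbelianSubgroups_of_le hA h1 le_sup_left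
    refine le_inf ?_ inf_le_left
    calc fix V A ≤ A ⊔ fix V A := le_sup_right
      _ = A := this
  have hAVB : A ⊓ V ≤ B := le_inf inf_le_left
    (inf_le_right.trans (hVcent.trans (centralizer_le (by exact_mod_cast hXV))))
  have hinf : B ⊓ fix V B = A ⊓ V := by
    apply le_antisymm (hgen B hBA).2.2
    refine le_inf hAVB (le_inf inf_le_right ?_)
    exact inf_le_left.trans (hAcent.trans (centralizer_le (by exact_mod_cast hBA)))
  have hsupeq : B ⊔ fix V B = X ⊔ B := by
    rw [r2, hfixA]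
    apply le_antisymm
    · exact sup_le le_sup_right (sup_le le_sup_left (hAVB.trans le_sup_right))
    · exact sup_le (le_sup_left.trans le_sup_right) le_sup_left
  have hEA : Cfsg.IsElementaryAbelian p (X ⊔ B) := by
    rw [← hsupeq]; exact (hgen B hBA).1
  have hcard : Nat.card ↥(X ⊔ B) = Nat.card A := by
    have h1 := (hgen B hBA).2.1
    rw [hsupeq, hinf, r1] at h1
    unfold mm at h1
    rw [hfixA] at h1
    exact Nat.eq_of_mul_eq_mul_right Nat.card_pos h1
  have hmem : (X ⊔ B) ∈ Cfsg.maxElementaryAbelianSubgroups p G :=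
    ⟨hEA, fun C hC => (hA.2 C hC).trans (le_of_eq hcard.symm)⟩
  -- `[V, A₀] ≤ X`
  have hXnorm : ∀ k ∈ X ⊔ B, k ∈ normalizer (X : Set G) ∧ ∀ v ∈ V, ⁅v, k⁆ ∈ X := by
    intro k hk
    rw [Subgroup.sup_eq_closure] at hk
    induction hk using Subgroup.closure_induction with
    | mem x hx =>
      rcases hx with hx | hx
      · refine ⟨le_normalizer hx, fun v hv => ?_⟩
        have : ⁅v, x⁆ = 1 := by
          rw [commutatorElement_def, hVcomm v hv x (hXV hx)]; group
        rw [this]; exact X.one_mem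
      · exact ⟨le_normalizer_commutator hAV (hBA hx),
          fun v hv => Subgroup.commutator_mem_commutator hv (hBA hx)⟩
    | one =>
      refine ⟨Subgroup.one_mem _, fun v _ => ?_⟩
      have : ⁅v, (1 : G)⁆ = 1 := by rw [commutatorElement_def]; group
      rw [this]; exact X.one_mem
    | mul x y _ _ hx hy =>
      refine ⟨Subgroup.mul_mem _ hx.1 hy.1, fun v hv => ?_⟩
      have e1 : ⁅v, x * y⁆ = ⁅v, x⁆ * (x * ⁅v, y⁆ * x⁻¹) := by
        simp only [commutatorElement_def]; group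
      rw [e1]
      exact X.mul_mem (hx.2 v hv) ((mem_set_normalizer_iff.mp hx.1 _).mp (hy.2 v hv))
    | inv x _ hx =>
      refine ⟨Subgroup.inv_mem _ hx.1, fun v hv => ?_⟩
      have e1 : ⁅v, x⁻¹⁆ = x⁻¹ * (⁅v, x⁆)⁻¹ * (x⁻¹)⁻¹ := by
        simp only [commutatorElement_def]; group
      rw [e1]
      exact (mem_set_normalizer_iff.mp (Subgroup.inv_mem _ hx.1) _).mp (X.inv_mem (hx.2 v hv))
  have hVA0 : ⁅V, X ⊔ B⁆ ≤ X := by
    rw [Subgroup.commutator_le]
    intro v hv k hk
    exact (hXnorm k hk).2 v hv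
  have hA0c : IsMulCommutative ↥(X ⊔ B) := hEA.1
  have hA0cent : X ⊔ B ≤ centralizer ((X ⊔ B : Subgroup G) : Set G) := fun x hx =>
    mem_centralizer_iff.mpr fun y hy =>
      congrArg Subtype.val (hA0c.is_comm.comm ⟨y, hy⟩ ⟨x, hx⟩)
  refine ⟨hmem, ?_, ?_⟩
  · rw [commutator_eq_bot_iff_le_centralizer]
    exact hVA0.trans (le_sup_left.trans hA0cent)
  · intro hne hbot
    apply hne
    have hVB : ⁅V, B⁆ = ⊥ := by
      rw [eq_bot_iff, ← hbot]
      exact Subgroup.commutator_mono le_rfl le_sup_right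
    rw [commutator_eq_bot_iff_le_centralizer] at hVB
    have hfix : fix V B = V := inf_eq_left.mpr hVB
    rw [hfix] at r2
    exact commutator_eq_bot_of_sup_eq hVc (isPGroup_of_isElementaryAbelian hV) hAV hpow
      le_rfl (inf_le_left : fix V A ≤ V) (inf_le_right : fix V A ≤ _) (le_of_eq r2)

end Cfsg.Agent.S0607
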