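import Mathlib
import Cfsg.Statements.S0608
import Cfsg.Agent.H5.Thompson
import Cfsg.Agent.H5.Omega
import Cfsg.Agent.H5.NilAct
import Cfsg.Agent.Lib.Helper27.Thompson
import Cfsg.Agent.Lib.Helper16.SylowInf

set_option autoImplicit false
open Cfsg

namespace Cfsg.Agent.S0608

open Cfsg.H5 Subgroup
open scoped Pointwise

variable {G : Type*} [Group G]

theorem thompsonOf_le_centralizer_omegaZ (p : ℕ) (S : Subgroup G) :
    thompsonSubgroupOf p S ≤ centralizer (omegaZ p S : Set G) := by
  refine (Cfsg.Agent.Lib.Helper27.thompsonSubgroupOf_le p S).trans ?_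
  rw [le_centralizer_iff]
  exact (omegaOne_le p _).trans inf_le_right

theorem thompsonSubgroup_le_iff [Finite G] {p : ℕ} [Fact p.Prime] (K : Subgroup G) :
    thompsonSubgroup p G ≤ K ↔ ∀ S : Sylow p G, thompsonSubgroupOf p (S : Subgroup G) ≤ K := by
  constructor
  · intro h S
    obtain ⟨A₀, hA₀, hA₀S⟩ := exists_max_le_sylow S
    rw [thompsonSubgroupOf_eq_sSup hA₀ hA₀S]
    refine le_trans (sSup_le ?_) h
    rintro A ⟨hA, -⟩
    exact le_sSup hA
  · intro h
    unfold thompsonSubgroup
    apply sSup_le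
    intro A hA
    obtain ⟨S, hS⟩ := (isPGroup_of_isElementaryAbelian hA.1).exists_le_sylow
    refine le_trans ?_ (h S)
    rw [thompsonSubgroupOf_eq_sSup hA hS]
    exact le_sSup ⟨hA, hS⟩

/-- With trivial p'-core, Thompson factorizability is equivalent to J(G) centralizing the subgroup generated by all Ω₁(Z(S)), S Sylow. -/
theorem result {G : Type*} [Group G] [Finite G] {p : ℕ} [Fact p.Prime] (hO : Cfsg.pPrimeCore p G = ⊥) : Cfsg.IsThompsonFactorizable p G ↔ Cfsg.thompsonSubgroup p G ≤ Subgroup.centralizer ((⨆ S : Sylow p G, Cfsg.omegaOne p (((S : Subgroup G)) ⊓ Subgroup.centralizer ((S : Subgroup G) : Set G)) : Subgroup G) : Set G) := by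
  constructor
  · intro hF
    rw [thompsonSubgroup_le_iff]
    intro S
    rw [le_centralizer_iff]
    apply iSup_le
    intro S'
    rw [← le_centralizer_iff]
    obtain ⟨g, hg⟩ := MulAction.exists_smul_eq G S S'
    obtain ⟨x, hx, c, hc, n, hn, hgn⟩ := hF S g⁻¹
    rw [hO, Subgroup.mem_bot] at hx
    subst hx
    rw [one_mul] at hgn
    have hg' : g = n⁻¹ * c⁻¹ := by
      rw [← inv_inv g, hgn, mul_inv_rev]
    have hS' : (S' : Subgroup G) = (S : Subgroup G).map (MulAut.conj g).toMonoidHom := by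
      rw [← hg, Sylow.smul_def, Sylow.pointwise_smul_def, Subgroup.pointwise_smul_def]
      rfl
    have hZ' : omegaZ p (S' : Subgroup G) = (omegaZ p (S : Subgroup G)).map (MulAut.conj g).toMonoidHom := by
      rw [omegaZ_map_equiv, hS']
    show thompsonSubgroupOf p (S : Subgroup G) ≤ centralizer (omegaZ p (S' : Subgroup G) : Set G)
    rw [hZ']
    intro j hj
    rw [mem_centralizer_iff]
    rintro _ ⟨z, hz, rfl⟩
    show g * z * g⁻¹ * j = j * (g * z * g⁻¹)
    have hcz : c⁻¹ * z * c = z := by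
      have := mem_centralizer_iff.mp hc z hz
      rw [mul_assoc, this, ← mul_assoc, inv_mul_cancel, one_mul]
    have hj' : n * j * n⁻¹ ∈ thompsonSubgroupOf p (S : Subgroup G) :=
      (mem_set_normalizer_iff.mp hn j).mp hj
    have hcomm : z * (n * j * n⁻¹) = (n * j * n⁻¹) * z :=
      mem_centralizer_iff.mp (thompsonOf_le_centralizer_omegaZ p _ hj') z hz
    have e1 : g * z * g⁻¹ = n⁻¹ * z * n := by
      rw [hg']
      simp only [mul_inv_rev, inv_inv]
      calc n⁻¹ * c⁻¹ * z * (c * n) = n⁻¹ * (c⁻¹ * z * c) * n := by group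
        _ = n⁻¹ * z * n := by rw [hcz]
    rw [e1]
    calc n⁻¹ * z * n * j = n⁻¹ * (z * (n * j * n⁻¹)) * n := by group
      _ = n⁻¹ * ((n * j * n⁻¹) * z) * n := by rw [hcomm]
      _ = j * (n⁻¹ * z * n) := by group
  · intro hJ S g
    set W : Subgroup G := ⨆ S : Sylow p G, omegaZ p (S : Subgroup G) with hW
    have hWn : W.Normal := iSup_omegaZ_sylow_normal p
    have hCn : (centralizer (W : Set G)).Normal := inferInstance
    have hJS : thompsonSubgroupOf p (S : Subgroup G) ≤ (S : Subgroup G) ⊓ centralizer (W : Set G) :=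
      le_inf (Cfsg.Agent.Lib.Helper27.thompsonSubgroupOf_le p _)
        ((thompsonSubgroup_le_iff _).mp hJ S)
    obtain ⟨a, ha, c, hc, hgac⟩ :=
      Cfsg.Agent.Lib.Helper16.frattini_inf_normal S (centralizer (W : Set G)) g⁻¹
    refine ⟨1, one_mem _, c⁻¹, ?_, a⁻¹, ?_, ?_⟩
    · apply inv_mem
      refine centralizer_le ?_ hc
      exact_mod_cast le_iSup (fun S : Sylow p G => omegaZ p (S : Subgroup G)) S
    · apply inv_mem
      apply mem_normalizer_of_map_conj_eq
      have h1 := map_conj_eq_of_mem_normalizer ha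
      have h2 : thompsonSubgroupOf p (S : Subgroup G) ≤
          (S : Subgroup G).map (MulAut.conj a).toMonoidHom := by
        refine hJS.trans ?_
        rw [← h1]
        exact Subgroup.map_mono inf_le_left
      have h3 := Cfsg.Agent.Lib.Helper27.thompsonSubgroupOf_eq_of_le p (MulAut.conj a)
        (S : Subgroup G) _ rfl h2
      rw [Cfsg.Agent.Lib.Helper27.thompsonSubgroupOf_map] at h3
      exact h3.symm
    · rw [one_mul, ← mul_inv_rev, ← hgac, inv_inv]

end Cfsg.Agent.S0608
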