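import Cfsg.Statements.S0444
import Mathlib

set_option autoImplicit false
open Cfsg

namespace Cfsg.Agent.S0444

theorem inv_sq {G : Type*} [Group G] {d : G} (h : orderOf d = 2) : d * d = 1 := by
  have := pow_orderOf_eq_one d
  rw [h, pow_two] at this
  exact this

theorem comm_of_sq {G : Type*} [Group G] {d e : G} (hd : d * d = 1) (he : e * e = 1)
    (h : (d * e) ^ 2 = 1) : Commute d e := by
  unfold Commute SemiconjBy
  rw [pow_two] at h
  have hdi : d⁻¹ = d := inv_eq_of_mul_eq_one_left hd
  have hei : e⁻¹ = e := inv_eq_of_mul_eq_one_left he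
  have h3 : (d * e)⁻¹ = d * e := inv_eq_of_mul_eq_one_left h
  rw [mul_inv_rev, hdi, hei] at h3
  exact h3.symm

theorem braid {G : Type*} [Group G] {a e : G} (ha : a * a = 1) (he : e * e = 1)
    (h : (e * a) ^ 3 = 1) : e * a * e = a * e * a := by
  have hai : a⁻¹ = a := inv_eq_of_mul_eq_one_left ha
  have hei : e⁻¹ = e := inv_eq_of_mul_eq_one_left he
  have h1 : (e * a * e) * (a * e * a) = 1 := by
    rw [← h]; simp only [pow_succ, pow_zero, one_mul, mul_assoc]
  have h2 : (a * e * a)⁻¹ = e * a * e := inv_eq_of_mul_eq_one_left h1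
  rw [← h2, mul_inv_rev, mul_inv_rev, hai, hei, mul_assoc]

/-- the closure of two involutions with braid relation is contained in a six-element set -/
theorem closure_sub {G : Type*} [Group G] {d e : G} (hd : d * d = 1) (he : e * e = 1)
    (hb : d * e * d = e * d * e) :
    ∀ x ∈ Subgroup.closure ({d, e} : Set G),
      x = 1 ∨ x = d ∨ x = e ∨ x = d * e ∨ x = e * d ∨ x = d * e * d := by
  have hdi : d⁻¹ = d := inv_eq_of_mul_eq_one_left hd
  have hei : e⁻¹ = e := inv_eq_of_mul_eq_one_left he
  have step : ∀ y : G, (y = 1 ∨ y = d ∨ y = e ∨ y = d * e ∨ y = e * d ∨ y = d * e * d) →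
      ∀ x ∈ ({d, e} : Set G),
      (x * y = 1 ∨ x * y = d ∨ x * y = e ∨ x * y = d * e ∨ x * y = e * d ∨ x * y = d * e * d) := by
    intro y hy x hx
    rcases hx with rfl | hx
    · rcases hy with rfl | rfl | rfl | rfl | rfl | rfl
      · right; left; rw [mul_one]
      · left; exact hd
      · right; right; right; left; rfl
      · right; right; left; rw [← mul_assoc, hd, one_mul]
      · right; right; right; right; right; exact (mul_assoc _ _ _).symm
      · right; right; right; right; left
        rw [← mul_assoc, ← mul_assoc, hd, one_mul]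
    · rw [Set.mem_singleton_iff] at hx
      subst hx
      rcases hy with rfl | rfl | rfl | rfl | rfl | rfl
      · right; right; left; rw [mul_one]
      · right; right; right; right; left; rfl
      · left; exact he
      · right; right; right; right; right; rw [hb, mul_assoc]
      · right; left; rw [← mul_assoc, he, one_mul]
      · right; right; right; left
        rw [hb, ← mul_assoc, ← mul_assoc, he, one_mul]
  intro x hx
  induction hx using Subgroup.closure_induction_left with
  | one => left; rfl
  | mul_left x hx y _ ih => exact step y ih x hx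
  | inv_mul_cancel x hx y _ ih =>
    have : x⁻¹ = x := by
      rcases hx with rfl | hx
      · exact hdi
      · rw [Set.mem_singleton_iff] at hx; subst hx; exact hei
    rw [this]
    exact step y ih x hx

/-- Two members of a set of 3-transpositions which do not commute generate a subgroup isomorphic to the symmetric group on three letters. -/
theorem result {G : Type*} [Group G] {E : Set G} (hE : Cfsg.IsThreeTranspositionSet E) {d e : G} (hd : d ∈ E) (he : e ∈ E) (h : ¬ Commute d e) : Nonempty (Subgroup.closure ({d, e} : Set G) ≃* Equiv.Perm (Fin 3)) := by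
  classical
  have d2 := inv_sq (hE.1 d hd)
  have e2 := inv_sq (hE.1 e he)
  have r3 : (d * e) ^ 3 = 1 := (hE.2 d hd e he).resolve_left (fun h' => h (comm_of_sq d2 e2 h'))
  have hb : d * e * d = e * d * e := braid e2 d2 r3
  have hsub := closure_sub d2 e2 hb
  set H := Subgroup.closure ({d, e} : Set G) with hH
  have hdH : d ∈ H := Subgroup.subset_closure (by simp)
  have heH : e ∈ H := Subgroup.subset_closure (by simp)
  let S : Finset G := {1, d, e, d * e, e * d, d * e * d}
  have hHS : (H : Set G) ⊆ (S : Set G) := by
    intro x hx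
    have := hsub x hx
    simp only [S, Finset.coe_insert, Finset.coe_singleton, Set.mem_insert_iff, Set.mem_singleton_iff]
    exact this
  have hfin : (H : Set G).Finite := S.finite_toSet.subset hHS
  have : Finite H := hfin.to_subtype
  have hcard_le : Nat.card H ≤ 6 := by
    have h1 : Nat.card H = (H : Set G).ncard := (Nat.card_coe_set_eq (H : Set G))
    rw [h1]
    calc (H : Set G).ncard ≤ (S : Set G).ncard := Set.ncard_le_ncard hHS S.finite_toSet
      _ = S.card := Set.ncard_coe_finset S
      _ ≤ 6 := Finset.card_le_six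
  let d' : H := ⟨d, hdH⟩
  let e' : H := ⟨e, heH⟩
  have od : orderOf d' = 2 := by
    rw [← Subgroup.orderOf_coe]; exact hE.1 d hd
  have hde1 : d * e ≠ 1 := by
    intro h1
    apply h
    have : e = d := by
      have h2 : d⁻¹ = e := inv_eq_of_mul_eq_one_right h1
      rw [← h2]; exact inv_eq_of_mul_eq_one_left d2
    rw [this]
  have ode : orderOf (d' * e') = 3 := by
    rw [← Subgroup.orderOf_coe]
    have : Fact (Nat.Prime 3) := ⟨Nat.prime_three⟩
    exact orderOf_eq_prime r3 hde1
  have h2 : 2 ∣ Nat.card H := od ▸ orderOf_dvd_natCard d'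
  have h3 : 3 ∣ Nat.card H := ode ▸ orderOf_dvd_natCard (d' * e')
  have hcard : Nat.card H = 6 := by
    have hpos : 0 < Nat.card H := Nat.card_pos
    have h6 : 6 ∣ Nat.card H := by
      have : Nat.Coprime 2 3 := by norm_num
      exact this.mul_dvd_of_dvd_of_dvd h2 h3
    obtain ⟨k, hk⟩ := h6
    have : k = 1 := by
      rcases k with _ | _ | k
      · omega
      · rfl
      · omega
    omega
  let K : Subgroup H := Subgroup.zpowers d'
  have hKcard : Nat.card K = 2 := by rw [Nat.card_zpowers, od]
  have hKindex : K.index = 3 := by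
    have := Subgroup.card_mul_index K
    rw [hKcard, hcard] at this
    omega
  have hKmem : ∀ x : H, x ∈ K → x = 1 ∨ x = d' := by
    intro x hx
    rw [Subgroup.mem_zpowers_iff] at hx
    obtain ⟨k, rfl⟩ := hx
    rw [← zpow_mod_orderOf, od]
    rcases Int.emod_two_eq_zero_or_one k with h0 | h1
    · left; rw [show (k % ((2 : ℕ) : ℤ)) = 0 from h0, zpow_zero]
    · right; rw [show (k % ((2 : ℕ) : ℤ)) = 1 from h1, zpow_one]
  have hcore : K.normalCore = ⊥ := by
    rw [eq_bot_iff]
    intro x hx
    have hxK : x ∈ K := Subgroup.normalCore_le K hx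
    rcases hKmem x hxK with rfl | rfl
    · exact Subgroup.mem_bot.mpr rfl
    · exfalso
      have hn : (K.normalCore).Normal := Subgroup.normalCore_normal K
      have h5 : e' * d' * e'⁻¹ ∈ K.normalCore := hn.conj_mem d' hx e'
      have h6 := hKmem _ (Subgroup.normalCore_le K h5)
      rcases h6 with h6 | h6
      · have h7 := congrArg Subtype.val h6
        simp only [Subgroup.coe_mul, Subgroup.coe_inv, Subgroup.coe_one, d', e'] at h7
        have : d = 1 := by
          have : e⁻¹ * (e * d * e⁻¹) * e = d := by group
          rw [← this, h7]; group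
        apply h; rw [this]; exact Commute.one_left e
      · have h7 := congrArg Subtype.val h6
        simp only [Subgroup.coe_mul, Subgroup.coe_inv, d', e'] at h7
        apply h
        unfold Commute SemiconjBy
        have : e * d = d * e := by
          calc e * d = (e * d * e⁻¹) * e := by group
            _ = d * e := by rw [h7]
        exact this.symm
  let φ : H →* Equiv.Perm (H ⧸ K) := MulAction.toPermHom H (H ⧸ K)
  have hker : φ.ker = ⊥ := by rw [← hcore, Subgroup.normalCore_eq_ker]
  have hinj : Function.Injective φ := (MonoidHom.ker_eq_bot_iff φ).mp hker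
  have hq : Nat.card (H ⧸ K) = 3 := by rw [← Subgroup.index_eq_card]; exact hKindex
  have : Finite (H ⧸ K) := Nat.finite_of_card_ne_zero (by rw [hq]; norm_num)
  have hpc : Nat.card (Equiv.Perm (H ⧸ K)) = 6 := by
    rw [Nat.card_perm, hq]; rfl
  have hbij : Function.Bijective φ := by
    rw [Nat.bijective_iff_injective_and_card]
    exact ⟨hinj, by rw [hcard, hpc]⟩
  let ψ : H ≃* Equiv.Perm (H ⧸ K) := MulEquiv.ofBijective φ hbij
  have hq' : Nat.card (H ⧸ K) = Nat.card (Fin 3) := by rw [hq, Nat.card_fin]
  obtain ⟨eq⟩ : Nonempty ((H ⧸ K) ≃ Fin 3) := by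
    exact Finite.card_eq.mp hq'
  exact ⟨ψ.trans eq.permCongrHom⟩

end Cfsg.Agent.S0444
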