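import Cfsg.Statements.S2759
import Cfsg.Agent.Lib.Helper18.S4SectionB
import Cfsg.Agent.Lib.Helper18.S3Section
import Cfsg.Agent.Lib.Helper18.OffenderTwoB
import Cfsg.Agent.Lib.Helper1.Coprime
import Cfsg.Agent.Lib.Helper1.Frattini
import Cfsg.Agent.Lib.Helper10.PGroup
import Cfsg.Agent.Lib.Helper10.Basic
import Cfsg.Agent.Lib.Helper17.Conj
import Cfsg.Agent.Lib.Helper27.Involves

set_option autoImplicit false
open Cfsg

namespace Cfsg.Agent.S2759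

open Subgroup
open scoped commutatorElement

section LemmaE

variable {G : Type*} [Group G] [Finite G]

/-- The elementary abelian case: `z` acts nontrivially on the elementary abelian `2`-group `W`
with `z ^ 3` acting trivially, and the `2`-element `d` inverts `z`. -/
theorem involves_s4_of_elementary (W : Subgroup G) (hWc : ∀ a ∈ W, ∀ b ∈ W, a * b = b * a)
    (hW2 : ∀ a ∈ W, a * a = 1) (z d : G) (hzW : z ∈ normalizer (W : Set G))
    (hdW : d ∈ normalizer (W : Set G)) (k : ℕ) (hd2 : d ^ 2 ^ k = 1) (hdz : d * z * d⁻¹ = z⁻¹)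
    (hz3 : z ^ 3 ∈ centralizer (W : Set G)) (hzC : z ∉ centralizer (W : Set G)) :
    Cfsg.Involves (Equiv.Perm (Fin 4)) G := by
  classical
  have hp2 : Fact (Nat.Prime 2) := ⟨by norm_num⟩
  have hWcomm : IsMulCommutative ↥W := ⟨⟨fun a b => Subtype.ext (hWc a a.2 b b.2)⟩⟩
  have hsq : ∀ w : ↥W, w * w = 1 := fun w => Subtype.ext (hW2 w w.2)
  -- conjugation by `z` and `d` on `W`
  let ζ : ↥W →* ↥W :=
    { toFun := fun w => ⟨z * w * z⁻¹, (mem_normalizer_iff.mp hzW w).mp w.2⟩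
      map_one' := Subtype.ext (by simp)
      map_mul' := fun a b => Subtype.ext (by simp only [Subgroup.coe_mul]; group) }
  let δ : ↥W →* ↥W :=
    { toFun := fun w => ⟨d * w * d⁻¹, (mem_normalizer_iff.mp hdW w).mp w.2⟩
      map_one' := Subtype.ext (by simp)
      map_mul' := fun a b => Subtype.ext (by simp only [Subgroup.coe_mul]; group) }
  have hζv : ∀ w : ↥W, ((ζ w : ↥W) : G) = z * w * z⁻¹ := fun w => rfl
  have hδv : ∀ w : ↥W, ((δ w : ↥W) : G) = d * w * d⁻¹ := fun w => rfl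
  have hζ3 : ∀ w : ↥W, ζ (ζ (ζ w)) = w := by
    intro w
    apply Subtype.ext
    rw [hζv, hζv, hζv]
    have h1 := mem_centralizer_iff.mp hz3 (w : G) w.2
    have e : z * (z * (z * (w : G) * z⁻¹) * z⁻¹) * z⁻¹ = z ^ 3 * (w : G) * (z ^ 3)⁻¹ := by
      simp only [pow_succ, pow_zero, one_mul, mul_inv_rev, mul_assoc]
    rw [e, ← h1, mul_inv_cancel_right]
  have hzdz : z * d * z = d := by
    have h1 : d * z = z⁻¹ * d := by rw [← hdz]; group
    calc z * d * z = z * (d * z) := by group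
      _ = z * (z⁻¹ * d) := by rw [h1]
      _ = d := by group
  have hδζ : ∀ w : ↥W, ζ (δ (ζ w)) = δ w := by
    intro w
    apply Subtype.ext
    rw [hζv, hδv, hζv, hδv]
    have e : z * (d * (z * (w : G) * z⁻¹) * d⁻¹) * z⁻¹ =
        (z * d * z) * (w : G) * (z * d * z)⁻¹ := by group
    rw [e, hzdz]
  -- the trace map and its kernel
  let τ : ↥W →* ↥W :=
    { toFun := fun w => w * ζ w * ζ (ζ w)
      map_one' := by simp
      map_mul' := fun a b => by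
        simp only [map_mul]
        ac_rfl }
  have hτv : ∀ w : ↥W, τ w = w * ζ w * ζ (ζ w) := fun w => rfl
  obtain ⟨M, hM⟩ : ∃ M : Subgroup G, M = τ.ker.map W.subtype := ⟨_, rfl⟩
  have hMW : M ≤ W := by rw [hM]; exact Subgroup.map_subtype_le _
  have hMmem : ∀ w : ↥W, τ w = 1 → (w : G) ∈ M := by
    intro w hw
    rw [hM]
    exact ⟨w, MonoidHom.mem_ker.mpr hw, rfl⟩
  have hMex : ∀ m ∈ M, ∃ w : ↥W, τ w = 1 ∧ (w : G) = m := by
    intro m hm
    rw [hM] at hm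
    obtain ⟨w, hw, rfl⟩ := hm
    exact ⟨w, MonoidHom.mem_ker.mp hw, rfl⟩
  -- `M` is nontrivial
  obtain ⟨w₀, hw₀W, hw₀⟩ : ∃ w ∈ W, z * w * z⁻¹ ≠ w := by
    by_contra hcon
    push Not at hcon
    apply hzC
    rw [mem_centralizer_iff]
    intro w hw
    have h1 := hcon w hw
    calc w * z = (z * w * z⁻¹) * z := by rw [h1]
      _ = z * w := by group
  have hMne : M ≠ ⊥ := by
    intro hbot
    have h1 : τ (⟨w₀, hw₀W⟩ * ζ ⟨w₀, hw₀W⟩) = 1 := by
      rw [hτv]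
      simp only [map_mul, hζ3]
      calc (⟨w₀, hw₀W⟩ : ↥W) * ζ ⟨w₀, hw₀W⟩ * (ζ ⟨w₀, hw₀W⟩ * ζ (ζ ⟨w₀, hw₀W⟩)) *
            (ζ (ζ ⟨w₀, hw₀W⟩) * ⟨w₀, hw₀W⟩)
          = ((⟨w₀, hw₀W⟩ : ↥W) * ⟨w₀, hw₀W⟩) * (ζ ⟨w₀, hw₀W⟩ * ζ ⟨w₀, hw₀W⟩) *
            (ζ (ζ ⟨w₀, hw₀W⟩) * ζ (ζ ⟨w₀, hw₀W⟩)) := by ac_rfl
        _ = 1 := by simp only [hsq, mul_one, one_mul]
    have h2 := hMmem _ h1
    rw [hbot, Subgroup.mem_bot] at h2
    -- w₀ * (z w₀ z⁻¹) = 1
    have h3 : w₀ * (z * w₀ * z⁻¹) = 1 := h2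
    apply hw₀
    have h4 : z * w₀ * z⁻¹ = w₀⁻¹ := (eq_inv_of_mul_eq_one_right h3)
    rw [h4]
    exact inv_eq_of_mul_eq_one_right (hW2 w₀ hw₀W)
  -- `z` has no fixed points on `M`
  have hfpfM : ∀ m ∈ M, z * m * z⁻¹ = m → m = 1 := by
    intro m hm hfix
    obtain ⟨w, hw, rfl⟩ := hMex m hm
    have h1 : ζ w = w := Subtype.ext hfix
    rw [hτv, h1, h1, hsq, one_mul] at hw
    rw [hw]; rfl
  -- invariance of `M`
  have hzM : ∀ m ∈ M, z * m * z⁻¹ ∈ M := by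
    intro m hm
    obtain ⟨w, hw, rfl⟩ := hMex m hm
    have h1 : τ (ζ w) = 1 := by
      rw [hτv, ← map_mul, ← map_mul, ← hτv, hw, map_one]
    exact hMmem _ h1
  have hdM : ∀ m ∈ M, d * m * d⁻¹ ∈ M := by
    intro m hm
    obtain ⟨w, hw, rfl⟩ := hMex m hm
    have h1 : ζ (δ w) = δ (ζ (ζ w)) := by
      have := hδζ (ζ (ζ w))
      rw [hζ3] at this
      exact this
    have h2 : ζ (ζ (δ w)) = δ (ζ w) := by
      rw [h1]; exact hδζ (ζ w)
    have h3 : τ (δ w) = 1 := by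
      rw [hτv, h2, h1, ← map_mul, ← map_mul]
      have e : w * ζ (ζ w) * ζ w = w * ζ w * ζ (ζ w) := by ac_rfl
      rw [e, ← hτv, hw, map_one]
    exact hMmem _ h3
  -- a nontrivial element of `M` centralized by `d`
  have hM2 : IsPGroup 2 M := fun m => ⟨1, Subtype.ext (by
    rw [pow_one, Subgroup.coe_pow, pow_two]; exact hW2 m (hMW m.2))⟩
  have hD2 : IsPGroup 2 (zpowers d) := by
    rintro ⟨g, hg⟩
    obtain ⟨i, rfl⟩ := mem_zpowers_iff.mp hg
    refine ⟨k, Subtype.ext ?_⟩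
    rw [Subgroup.coe_pow, Subgroup.coe_one]
    show (d ^ i) ^ 2 ^ k = 1
    rw [← zpow_natCast, ← zpow_mul, mul_comm, zpow_mul, zpow_natCast, hd2, one_zpow]
  have hdN : d ∈ normalizer (M : Set G) :=
    Cfsg.Agent.Lib.Helper18.mem_normalizer_of_forall_conj_mem d M hdM
  have hzN : z ∈ normalizer (M : Set G) :=
    Cfsg.Agent.Lib.Helper18.mem_normalizer_of_forall_conj_mem z M hzM
  obtain ⟨S, hS⟩ : ∃ S : Subgroup G, S = M ⊔ zpowers d := ⟨_, rfl⟩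
  have hSp : IsPGroup 2 S := by
    rw [hS]; exact hM2.to_sup_of_normal_left' hD2 (zpowers_le.mpr hdN)
  have hMS : M ≤ S := by rw [hS]; exact le_sup_left
  have hdS : d ∈ S := by rw [hS]; exact (le_sup_right : zpowers d ≤ _) (mem_zpowers d)
  have hSN : S ≤ normalizer (M : Set G) := by
    rw [hS]; exact sup_le le_normalizer (zpowers_le.mpr hdN)
  have hNn : (M.subgroupOf S).Normal := Subgroup.normal_subgroupOf_of_le_normalizer hSN
  have hNne : M.subgroupOf S ≠ ⊥ := by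
    intro h
    rw [Subgroup.subgroupOf_eq_bot] at h
    apply hMne
    have := h.eq_bot
    rwa [inf_of_le_left hMS] at this
  have hcen := Cfsg.Agent.Lib.Helper10.normal_inf_center_ne_bot (G := ↥S) hSp (M.subgroupOf S) hNne
  obtain ⟨s, hsN, hs1⟩ : ∃ s ∈ (M.subgroupOf S ⊓ center ↥S), s ≠ 1 := by
    by_contra hcon
    push Not at hcon
    exact hcen ((Subgroup.eq_bot_iff_forall _).mpr hcon)
  obtain ⟨hsM, hsZ⟩ := Subgroup.mem_inf.mp hsN
  obtain ⟨v, hv⟩ : ∃ v : G, v = (s : G) := ⟨_, rfl⟩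
  have hvM : v ∈ M := by rw [hv]; exact Subgroup.mem_subgroupOf.mp hsM
  have hv1 : v ≠ 1 := by
    intro h
    apply hs1
    apply Subtype.ext
    rw [← hv, h]; rfl
  have hdv : d * v * d⁻¹ = v := by
    have h1 := Subgroup.mem_center_iff.mp hsZ ⟨d, hdS⟩
    have h2 : d * v = v * d := by
      have := congrArg Subtype.val h1
      rw [hv]
      simpa using this
    rw [h2, mul_inv_cancel_right]
  -- the four-group
  have hvW : v ∈ W := hMW hvM
  have hv2 : v * v = 1 := hW2 v hvW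
  obtain ⟨v', hv'⟩ : ∃ v', v' = z * v * z⁻¹ := ⟨_, rfl⟩
  have hv'M : v' ∈ M := by rw [hv']; exact hzM v hvM
  have hv'W : v' ∈ W := hMW hv'M
  have hv'2 : v' * v' = 1 := hW2 v' hv'W
  have hvv' : v * v' = v' * v := hWc v hvW v' hv'W
  have hne : v' ≠ v := by
    intro h
    exact hv1 (hfpfM v hvM (by rw [← hv', h]))
  have hτvv : v * v' * (z * v' * z⁻¹) = 1 := by
    obtain ⟨w, hw, hwv⟩ := hMex v hvM
    have h1 := congrArg Subtype.val hw
    rw [hτv] at h1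
    simp only [Subgroup.coe_mul, hζv, Subgroup.coe_one] at h1
    rw [hwv] at h1
    rw [hv']; exact h1
  have hsq' : (v * v') * (v * v') = 1 := by
    calc (v * v') * (v * v') = v * (v' * v) * v' := by group
      _ = v * (v * v') * v' := by rw [hvv']
      _ = (v * v) * (v' * v') := by group
      _ = 1 := by rw [hv2, hv'2, one_mul]
  have hv'' : z * v' * z⁻¹ = v * v' := by
    have h1 : z * v' * z⁻¹ = (v * v')⁻¹ := eq_inv_of_mul_eq_one_right hτvv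
    rw [h1]
    exact inv_eq_of_mul_eq_one_right hsq'
  obtain ⟨U, hU⟩ : ∃ U : Subgroup G, U = zpowers v ⊔ zpowers v' := ⟨_, rfl⟩
  have hvU : v ∈ U := by rw [hU]; exact (le_sup_left : zpowers v ≤ _) (mem_zpowers v)
  have hv'U : v' ∈ U := by rw [hU]; exact (le_sup_right : zpowers v' ≤ _) (mem_zpowers v')
  have hUM : U ≤ M := by
    rw [hU]; exact sup_le (zpowers_le.mpr hvM) (zpowers_le.mpr hv'M)
  have hUW : U ≤ W := hUM.trans hMW
  have hcommU : ∀ a ∈ zpowers v, ∀ b ∈ zpowers v', a * b = b * a := fun a ha b hb =>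
    hWc a ((zpowers_le.mpr hvW) ha) b ((zpowers_le.mpr hv'W) hb)
  have hdisj : zpowers v ⊓ zpowers v' = ⊥ := by
    rw [eq_bot_iff]
    intro x hx
    rw [Subgroup.mem_bot]
    obtain ⟨hx1, hx2⟩ := Subgroup.mem_inf.mp hx
    rcases Cfsg.Agent.Lib.Helper18.OffenderTwoB.mem_zpowers_of_mul_self' hv2 hx1 with h | h
    · exact h
    · rcases Cfsg.Agent.Lib.Helper18.OffenderTwoB.mem_zpowers_of_mul_self' hv'2 hx2 with h' | h'
      · exact h'
      · exact absurd (h'.symm.trans h) hne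
  have hv'1 : v' ≠ 1 := by
    intro h
    apply hv1
    rw [hv'] at h
    calc v = z⁻¹ * (z * v * z⁻¹) * z := by group
      _ = 1 := by rw [h]; group
  have hUcard : Nat.card U = 4 := by
    rw [hU, Cfsg.Agent.Lib.Helper10.card_sup_of_commute_of_disjoint _ _ hcommU hdisj,
      Nat.card_zpowers, Nat.card_zpowers,
      orderOf_eq_prime (by rw [pow_two]; exact hv2) hv1,
      orderOf_eq_prime (by rw [pow_two]; exact hv'2) hv'1]
  have hnorm : ∀ g : G, g * v * g⁻¹ ∈ U → g * v' * g⁻¹ ∈ U → g ∈ normalizer (U : Set G) := by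
    intro g h1 h2
    apply Cfsg.Agent.Lib.Helper17.mem_normalizer_of_map_conj_le
    rw [hU, Subgroup.map_sup, sup_le_iff, MonoidHom.map_zpowers, MonoidHom.map_zpowers,
      Subgroup.zpowers_le, Subgroup.zpowers_le, ← hU]
    exact ⟨h1, h2⟩
  have hvv'U : v * v' ∈ U := U.mul_mem hvU hv'U
  have hzU : z ∈ normalizer (U : Set G) :=
    hnorm z (by rw [← hv']; exact hv'U) (by rw [hv'']; exact hvv'U)
  have hz3v : z ^ 3 * v = v * z ^ 3 := (mem_centralizer_iff.mp hz3 v hvW).symm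
  have hd' : d * v' * d⁻¹ = v * v' := by
    rw [← hv'']
    calc d * v' * d⁻¹ = (d * z * d⁻¹) * (d * v * d⁻¹) * (d * z * d⁻¹)⁻¹ := by rw [hv']; group
      _ = z⁻¹ * v * z := by rw [hdz, hdv, inv_inv]
      _ = z⁻¹ * (v * z ^ 3) * (z ^ 2)⁻¹ := by
        simp only [pow_succ, pow_zero, one_mul, mul_inv_rev, mul_assoc, inv_mul_cancel_left,
          mul_inv_cancel_left, mul_inv_cancel, inv_mul_cancel, mul_one]
      _ = z⁻¹ * (z ^ 3 * v) * (z ^ 2)⁻¹ := by rw [hz3v]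
      _ = z * (z * v * z⁻¹) * z⁻¹ := by
        simp only [pow_succ, pow_zero, one_mul, mul_inv_rev, mul_assoc, inv_mul_cancel_left,
          mul_inv_cancel_left, mul_inv_cancel, inv_mul_cancel, mul_one]
      _ = z * v' * z⁻¹ := by rw [hv']
  have hdU : d ∈ normalizer (U : Set G) :=
    hnorm d (by rw [hdv]; exact hvU) (by rw [hd']; exact hvv'U)
  have hz3U : z ^ 3 ∈ centralizer (U : Set G) :=
    (Subgroup.centralizer_le (SetLike.coe_subset_coe.mpr hUW)) hz3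
  exact Cfsg.Agent.Lib.Helper18.involves_s4_of_klein' U z d hzU hdU hUcard hz3U hdz
    (fun u hu => hfpfM u (hUM hu))

end LemmaE

section LemmaQ

variable {G : Type*} [Group G] [Finite G]

omit [Finite G] in
theorem eq_one_of_pow_three_of_two_pow {g : G} (h3 : g ^ 3 = 1) {j : ℕ} (h2 : g ^ 2 ^ j = 1) :
    g = 1 := by
  have h3' : orderOf g ∣ 3 := orderOf_dvd_of_pow_eq_one h3
  have h2' : orderOf g ∣ 2 ^ j := orderOf_dvd_of_pow_eq_one h2
  have hc : Nat.Coprime 3 (2 ^ j) := Nat.Coprime.pow_right j (by norm_num)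
  have h1 : orderOf g ∣ Nat.gcd 3 (2 ^ j) := Nat.dvd_gcd h3' h2'
  rw [Nat.Coprime.gcd_eq_one hc] at h1
  exact orderOf_eq_one_iff.mp (Nat.dvd_one.mp h1)

/-- A `3`-element-like `z` acting nontrivially on the `2`-group `T` with `z ^ 3` acting trivially,
inverted by the `2`-element `d` normalizing `T`: then `S₄` is involved. -/
theorem involves_s4_of_two_group (T : Subgroup G) (hT : IsPGroup 2 T) (z d : G)
    (hzT : z ∈ normalizer (T : Set G)) (hdT : d ∈ normalizer (T : Set G)) (k : ℕ)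
    (hd2 : d ^ 2 ^ k = 1) (hdz : d * z * d⁻¹ = z⁻¹) (hz3 : z ^ 3 ∈ centralizer (T : Set G))
    (hzC : z ∉ centralizer (T : Set G)) : Cfsg.Involves (Equiv.Perm (Fin 4)) G := by
  classical
  have hp2 : Fact (Nat.Prime 2) := ⟨by norm_num⟩
  obtain ⟨𝒮, h𝒮⟩ : ∃ 𝒮 : Set (Subgroup G), 𝒮 = {X | X ≤ T ∧ z ∈ normalizer (X : Set G) ∧
      d ∈ normalizer (X : Set G) ∧ z ∉ centralizer (X : Set G)} := ⟨_, rfl⟩
  have hT𝒮 : T ∈ 𝒮 := by rw [h𝒮]; exact ⟨le_rfl, hzT, hdT, hzC⟩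
  obtain ⟨T₁, hT₁𝒮, hmin⟩ := Set.exists_min_image 𝒮 (fun X => Nat.card X) (Set.toFinite _)
    ⟨T, hT𝒮⟩
  have hT₁𝒮' := hT₁𝒮
  rw [h𝒮] at hT₁𝒮'
  obtain ⟨hT₁T, hzT₁, hdT₁, hzC₁⟩ := hT₁𝒮'
  obtain ⟨T₀, hT₀⟩ : ∃ T₀ : Subgroup G, T₀ = (frattini ↥T₁).map T₁.subtype := ⟨_, rfl⟩
  have hT₀T₁ : T₀ ≤ T₁ := by rw [hT₀]; exact Subgroup.map_subtype_le _
  have hNN : normalizer (T₁ : Set G) ≤ normalizer (T₀ : Set G) := by
    rw [hT₀]
    exact Cfsg.Agent.Lib.Helper1.normalizer_le_normalizer_map_of_characteristic T₁ (frattini ↥T₁)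
  have hzT₀ := hNN hzT₁
  have hdT₀ := hNN hdT₁
  have hT₁p : IsPGroup 2 T₁ := hT.to_le hT₁T
  have hne : T₀ ≠ T₁ := by
    intro h
    have h1 : frattini ↥T₁ = ⊤ := by
      apply Subgroup.map_injective T₁.subtype_injective
      rw [← hT₀, h, ← MonoidHom.range_eq_map, Subgroup.range_subtype]
    have h2 : (⊥ : Subgroup ↥T₁) = ⊤ := frattini_nongenerating (by rw [h1, bot_sup_eq])
    apply hzC₁
    rw [mem_centralizer_iff]
    intro t ht
    have h3 : (⟨t, ht⟩ : ↥T₁) ∈ (⊥ : Subgroup ↥T₁) := by rw [h2]; exact Subgroup.mem_top _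
    have h4 : t = 1 := congrArg Subtype.val (Subgroup.mem_bot.mp h3)
    rw [h4, one_mul, mul_one]
  have hzT₀C : z ∈ centralizer (T₀ : Set G) := by
    by_contra hcon
    have hmem : T₀ ∈ 𝒮 := by rw [h𝒮]; exact ⟨hT₀T₁.trans hT₁T, hzT₀, hdT₀, hcon⟩
    have hle := hmin T₀ hmem
    exact hne (Subgroup.eq_of_le_of_card_ge hT₀T₁ hle)
  have hcomm₀ : ∀ a ∈ T₁, ∀ b ∈ T₁, ⁅a, b⁆ ∈ T₀ := by
    intro a ha b hb
    rw [hT₀]
    have h1 : ⁅(⟨a, ha⟩ : ↥T₁), ⟨b, hb⟩⁆ ∈ frattini ↥T₁ := by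
      apply Cfsg.Agent.Lib.Helper1.IsPGroup.commutator_le_frattini hT₁p
      rw [commutator_def]
      exact Subgroup.commutator_mem_commutator (Subgroup.mem_top _) (Subgroup.mem_top _)
    exact ⟨_, h1, rfl⟩
  have hsq₀ : ∀ a ∈ T₁, a * a ∈ T₀ := by
    intro a ha
    rw [hT₀]
    have h1 : (⟨a, ha⟩ : ↥T₁) ^ 2 ∈ frattini ↥T₁ :=
      Cfsg.Agent.Lib.Helper1.IsPGroup.pow_mem_frattini hT₁p _
    refine ⟨_, h1, ?_⟩
    simp [pow_two]
  -- the quotient `N(T₀) / T₀`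
  obtain ⟨Gs, hGs⟩ : ∃ Gs : Subgroup G, Gs = normalizer (T₀ : Set G) := ⟨_, rfl⟩
  have hT₁Gs : T₁ ≤ Gs := by rw [hGs]; exact le_normalizer.trans hNN
  have hzGs : z ∈ Gs := by rw [hGs]; exact hzT₀
  have hdGs : d ∈ Gs := by rw [hGs]; exact hdT₀
  have hn : (T₀.subgroupOf Gs).Normal := by subst hGs; exact Subgroup.normal_in_normalizer
  obtain ⟨π, hπ⟩ : ∃ π : ↥Gs →* ↥Gs ⧸ T₀.subgroupOf Gs, π = QuotientGroup.mk' _ := ⟨_, rfl⟩
  have hπ1 : ∀ g : ↥Gs, π g = 1 ↔ (g : G) ∈ T₀ := by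
    intro g
    rw [hπ, QuotientGroup.mk'_apply, QuotientGroup.eq_one_iff, Subgroup.mem_subgroupOf]
  have hπs : Function.Surjective π := by rw [hπ]; exact QuotientGroup.mk'_surjective _
  have hπeq : ∀ a b : ↥Gs, (a : G)⁻¹ * (b : G) ∈ T₀ → π a = π b := by
    intro a b h
    have h1 : π (a⁻¹ * b) = 1 := (hπ1 _).mpr (by simpa using h)
    rw [map_mul, map_inv] at h1
    exact (inv_mul_eq_one.mp h1)
  obtain ⟨W, hW⟩ : ∃ W : Subgroup (↥Gs ⧸ T₀.subgroupOf Gs), W = (T₁.subgroupOf Gs).map π :=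
    ⟨_, rfl⟩
  have hWmem : ∀ x ∈ W, ∃ t : ↥Gs, (t : G) ∈ T₁ ∧ π t = x := by
    intro x hx
    rw [hW] at hx
    obtain ⟨t, ht, rfl⟩ := hx
    exact ⟨t, Subgroup.mem_subgroupOf.mp ht, rfl⟩
  have hWin : ∀ t : ↥Gs, (t : G) ∈ T₁ → π t ∈ W := by
    intro t ht
    rw [hW]
    exact ⟨t, Subgroup.mem_subgroupOf.mpr ht, rfl⟩
  have hWc : ∀ a ∈ W, ∀ b ∈ W, a * b = b * a := by
    intro a ha b hb
    obtain ⟨s, hs, rfl⟩ := hWmem a ha
    obtain ⟨t, ht, rfl⟩ := hWmem b hb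
    rw [← map_mul, ← map_mul]
    apply hπeq
    have e : ((s * t : ↥Gs) : G)⁻¹ * ((t * s : ↥Gs) : G) = ⁅(t : G)⁻¹, (s : G)⁻¹⁆ := by
      rw [commutatorElement_def]
      simp only [Subgroup.coe_mul, inv_inv, mul_inv_rev, mul_assoc]
    rw [e]
    exact hcomm₀ _ (T₁.inv_mem ht) _ (T₁.inv_mem hs)
  have hW2 : ∀ a ∈ W, a * a = 1 := by
    intro a ha
    obtain ⟨s, hs, rfl⟩ := hWmem a ha
    rw [← map_mul, hπ1]
    exact hsq₀ _ hs
  have hconjW : ∀ g : ↥Gs, (g : G) ∈ normalizer (T₁ : Set G) → π g ∈ normalizer (W : Set _) := by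
    intro g hg
    apply Cfsg.Agent.Lib.Helper18.mem_normalizer_of_forall_conj_mem
    intro x hx
    obtain ⟨t, ht, rfl⟩ := hWmem x hx
    rw [← map_inv, ← map_mul, ← map_mul]
    apply hWin
    exact (mem_normalizer_iff.mp hg (t : G)).mp ht
  have hzbW := hconjW ⟨z, hzGs⟩ hzT₁
  have hdbW := hconjW ⟨d, hdGs⟩ hdT₁
  have hdb2 : (π ⟨d, hdGs⟩) ^ 2 ^ k = 1 := by
    rw [← map_pow]
    have e : (⟨d, hdGs⟩ : ↥Gs) ^ 2 ^ k = 1 := Subtype.ext (by simpa using hd2)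
    rw [e, map_one]
  have hdbzb : π ⟨d, hdGs⟩ * π ⟨z, hzGs⟩ * (π ⟨d, hdGs⟩)⁻¹ = (π ⟨z, hzGs⟩)⁻¹ := by
    rw [← map_inv, ← map_mul, ← map_mul, ← map_inv]
    congr 1
    exact Subtype.ext (by simpa using hdz)
  have hzb3 : (π ⟨z, hzGs⟩) ^ 3 ∈ centralizer (W : Set _) := by
    rw [mem_centralizer_iff]
    intro x hx
    obtain ⟨t, ht, rfl⟩ := hWmem x hx
    rw [← map_pow, ← map_mul, ← map_mul]
    congr 1
    apply Subtype.ext
    have := mem_centralizer_iff.mp hz3 (t : G) (hT₁T ht)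
    simpa using this
  have hzbC : π ⟨z, hzGs⟩ ∉ centralizer (W : Set _) := by
    intro h
    have key : ∀ t ∈ T₁, z * t * z⁻¹ * t⁻¹ ∈ T₀ := by
      intro t ht
      have h1 := mem_centralizer_iff.mp h (π ⟨t, hT₁Gs ht⟩) (hWin _ ht)
      have h2 : π (⟨z, hzGs⟩ * ⟨t, hT₁Gs ht⟩ * ⟨z, hzGs⟩⁻¹ * ⟨t, hT₁Gs ht⟩⁻¹) = 1 := by
        rw [map_mul, map_mul, map_mul, map_inv, map_inv, ← h1]
        group
      exact (hπ1 _).mp h2
    apply hzC₁
    rw [mem_centralizer_iff]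
    intro t ht
    obtain ⟨n, hn⟩ : ∃ n, n = z * t * z⁻¹ * t⁻¹ := ⟨_, rfl⟩
    have hnT₀ : n ∈ T₀ := by rw [hn]; exact key t ht
    have hzn : z * n * z⁻¹ = n := by
      have := mem_centralizer_iff.mp hzT₀C n hnT₀
      rw [← this, mul_inv_cancel_right]
    have h1 : z * t * z⁻¹ = n * t := by rw [hn]; group
    have h2 : z ^ 3 * t * (z ^ 3)⁻¹ = n ^ 3 * t := by
      calc z ^ 3 * t * (z ^ 3)⁻¹ = z * (z * (z * t * z⁻¹) * z⁻¹) * z⁻¹ := by
            simp only [pow_succ, pow_zero, one_mul, mul_inv_rev, mul_assoc]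
        _ = z * (z * (n * t) * z⁻¹) * z⁻¹ := by rw [h1]
        _ = z * ((z * n * z⁻¹) * (z * t * z⁻¹)) * z⁻¹ := by group
        _ = z * (n * (n * t)) * z⁻¹ := by rw [hzn, h1]
        _ = (z * n * z⁻¹) * (z * n * z⁻¹) * (z * t * z⁻¹) := by group
        _ = n * n * (n * t) := by rw [hzn, h1]
        _ = n ^ 3 * t := by simp only [pow_succ, pow_zero, one_mul, mul_assoc]
    have h3 : z ^ 3 * t * (z ^ 3)⁻¹ = t := by
      have := mem_centralizer_iff.mp hz3 t (hT₁T ht)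
      rw [← this, mul_inv_cancel_right]
    have hn3 : n ^ 3 = 1 := by
      have h4 : n ^ 3 * t = 1 * t := by rw [one_mul]; exact h2.symm.trans h3
      exact mul_right_cancel h4
    obtain ⟨j, hj⟩ := (hT.to_le (hT₀T₁.trans hT₁T)) ⟨n, hnT₀⟩
    have hnj : n ^ 2 ^ j = 1 := by simpa using congrArg Subtype.val hj
    have hn1 : n = 1 := eq_one_of_pow_three_of_two_pow hn3 hnj
    have h4 : z * t * z⁻¹ = t := by rw [h1, hn1, one_mul]
    calc t * z = (z * t * z⁻¹) * z := by rw [h4]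
      _ = z * t := by group
  have hE := involves_s4_of_elementary W hWc hW2 (π ⟨z, hzGs⟩) (π ⟨d, hdGs⟩) hzbW hdbW k hdb2
    hdbzb hzb3 hzbC
  have h1 : Cfsg.Involves (Equiv.Perm (Fin 4)) ↥Gs :=
    Cfsg.Agent.Lib.Helper27.involves_trans hE
      (Cfsg.Agent.Lib.Helper27.involves_of_surjective π hπs)
  exact Cfsg.Agent.Lib.Helper27.involves_of_injective Gs.subtype Gs.subtype_injective h1

end LemmaQ

section LemmaR

theorem s3_odd_sq : ∀ σ : Equiv.Perm (Fin 3), Equiv.Perm.sign σ = -1 → σ * σ = 1 := by decide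

theorem s3_odd_conj : ∀ σ ρ : Equiv.Perm (Fin 3), Equiv.Perm.sign σ = -1 →
    Equiv.Perm.sign ρ = 1 → σ * ρ * σ⁻¹ = ρ⁻¹ := by decide

theorem s3_even_cube : ∀ ρ : Equiv.Perm (Fin 3), Equiv.Perm.sign ρ = 1 → ρ ^ 3 = 1 := by decide

theorem sylow_map_eq_top {p : ℕ} [Fact p.Prime] {A B : Type*} [Group A] [Group B] [Finite A]
    (g : A →* B) (hg : Function.Surjective g) (hB : IsPGroup p B) (Q : Sylow p A) :
    (Q : Subgroup A).map g = ⊤ := by
  have h1 : ((Q.mapSurjective hg : Sylow p B) : Subgroup B) = (Q : Subgroup A).map g := rfl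
  rw [← h1]
  exact ((Q.mapSurjective hg).is_maximal' (hB.to_subgroup _) le_top).symm

/-- A group mapping onto `S₃` contains a `2`-element inverting a `3`-element which is not in the
kernel. -/
theorem exists_inverted_of_surjective {H : Type*} [Group H] [Finite H]
    (f : H →* Equiv.Perm (Fin 3)) (hf : Function.Surjective f) :
    ∃ x y : H, x * y * x⁻¹ = y⁻¹ ∧ (∃ k : ℕ, x ^ 2 ^ k = 1) ∧ (∃ j : ℕ, y ^ 3 ^ j = 1) ∧
      f y ≠ 1 := by
  classical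
  have hp3 : Fact (Nat.Prime 3) := ⟨by norm_num⟩
  have hp2 : Fact (Nat.Prime 2) := ⟨by norm_num⟩
  obtain ⟨A₃, hA₃⟩ : ∃ A : Subgroup (Equiv.Perm (Fin 3)), A = alternatingGroup (Fin 3) :=
    ⟨_, rfl⟩
  have hA₃mem : ∀ σ, σ ∈ A₃ ↔ Equiv.Perm.sign σ = 1 := by
    intro σ; rw [hA₃]; exact Equiv.Perm.mem_alternatingGroup
  have hA₃n : A₃.Normal := by rw [hA₃]; infer_instance
  have hA₃p : IsPGroup 3 A₃ := fun σ => ⟨1, Subtype.ext (by
    rw [pow_one, Subgroup.coe_pow, Subgroup.coe_one]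
    exact s3_even_cube σ ((hA₃mem σ).mp σ.2))⟩
  obtain ⟨R, hR⟩ : ∃ R : Subgroup H, R = A₃.comap f := ⟨_, rfl⟩
  have hRn : R.Normal := by rw [hR]; infer_instance
  have hRmem : ∀ h : H, h ∈ R ↔ Equiv.Perm.sign (f h) = 1 := by
    intro h; rw [hR, Subgroup.mem_comap, hA₃mem]
  obtain ⟨Q⟩ : Nonempty (Sylow 3 ↥R) := inferInstance
  obtain ⟨Q', hQ'⟩ : ∃ Q' : Subgroup H, Q' = (Q : Subgroup R).map R.subtype := ⟨_, rfl⟩
  have hFr : normalizer (Q' : Set H) ⊔ R = ⊤ := by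
    rw [hQ']; exact Sylow.normalizer_sup_eq_top Q
  have hQ'p : IsPGroup 3 Q' := by rw [hQ']; exact Q.isPGroup'.map _
  have hQ'R : Q' ≤ R := by rw [hQ']; exact Subgroup.map_subtype_le _
  -- `Q'` maps onto `A₃`
  have hQ'onto : ∀ ρ ∈ A₃, ∃ q ∈ Q', f q = ρ := by
    intro ρ hρ
    have hg : Function.Surjective ((f.subgroupComap A₃).comp
        (MulEquiv.subgroupCongr hR).toMonoidHom) :=
      (f.subgroupComap_surjective_of_surjective A₃ hf).comp (MulEquiv.subgroupCongr hR).surjective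
    have htop := sylow_map_eq_top _ hg hA₃p Q
    have hmem : (⟨ρ, hρ⟩ : ↥A₃) ∈ (Q : Subgroup R).map ((f.subgroupComap A₃).comp
        (MulEquiv.subgroupCongr hR).toMonoidHom) := by rw [htop]; exact Subgroup.mem_top _
    obtain ⟨q, hq, hqρ⟩ := hmem
    refine ⟨(q : H), ?_, ?_⟩
    · rw [hQ']; exact ⟨q, hq, rfl⟩
    · exact congrArg Subtype.val hqρ
  -- an element of the normalizer of `Q'` with odd image
  obtain ⟨h₀, hh₀⟩ := hf (Equiv.swap 0 1)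
  have hh₀top : h₀ ∈ normalizer (Q' : Set H) ⊔ R := by rw [hFr]; exact Subgroup.mem_top _
  obtain ⟨n, hnN, r, hrR, hnr⟩ := Subgroup.mem_sup_of_normal_right.mp hh₀top
  have hsn : Equiv.Perm.sign (f n) = -1 := by
    have h1 : f n * f r = Equiv.swap 0 1 := by rw [← map_mul, hnr, hh₀]
    have h2 := congrArg Equiv.Perm.sign h1
    rw [map_mul, (hRmem r).mp hrR, mul_one] at h2
    rw [h2]
    exact Equiv.Perm.sign_swap (by decide)
  obtain ⟨a, m, hm, ham⟩ := Nat.exists_eq_two_pow_mul_odd (orderOf_pos n).ne'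
  obtain ⟨d, hd⟩ : ∃ d : H, d = n ^ m := ⟨_, rfl⟩
  have hd2 : d ^ 2 ^ a = 1 := by
    rw [hd, ← pow_mul, mul_comm, ← ham, pow_orderOf_eq_one]
  have hdN : d ∈ normalizer (Q' : Set H) := by rw [hd]; exact Subgroup.pow_mem _ hnN m
  have hsd : Equiv.Perm.sign (f d) = -1 := by
    rw [hd, map_pow, map_pow, hsn, Odd.neg_one_pow hm]
  have hσ2 : f d * f d = 1 := s3_odd_sq _ hsd
  -- coprime action of `⟨d²⟩` on `Q'`
  obtain ⟨A, hA⟩ : ∃ A : Subgroup H, A = zpowers (d * d) := ⟨_, rfl⟩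
  have hddN : d * d ∈ normalizer (Q' : Set H) := Subgroup.mul_mem _ hdN hdN
  have hAN : A ≤ normalizer (Q' : Set H) := by rw [hA]; exact zpowers_le.mpr hddN
  have hfA : ∀ a ∈ A, f a = 1 := by
    intro a ha
    rw [hA] at ha
    obtain ⟨i, rfl⟩ := mem_zpowers_iff.mp ha
    rw [map_zpow, map_mul, hσ2, one_zpow]
  have hcop : (Nat.card A).Coprime (Nat.card Q') := by
    have h1 : (d * d) ^ 2 ^ a = 1 := by
      rw [(Commute.refl d).mul_pow, hd2, one_mul]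
    have h2 : orderOf (d * d) ∣ 2 ^ a := orderOf_dvd_of_pow_eq_one h1
    obtain ⟨b, -, hb⟩ := (Nat.dvd_prime_pow Nat.prime_two).mp h2
    obtain ⟨c, hc⟩ := IsPGroup.iff_card.mp hQ'p
    rw [hA, Nat.card_zpowers, hb, hc]
    exact Nat.Coprime.pow _ _ (by norm_num)
  have hAct : Cfsg.Agent.Lib.Helper1.CoprimeAct A Q' :=
    { norm := hAN
      cop := hcop
      solv := Or.inl (by
        rw [hA]
        exact Group.isSolvable_of_comm (fun x y => mul_comm' x y)) }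
  obtain ⟨N₁, hN₁⟩ : ∃ N₁ : Subgroup H, N₁ = Q' ⊓ f.ker := ⟨_, rfl⟩
  have hN₁Q : N₁ ≤ Q' := by rw [hN₁]; exact inf_le_left
  have hN₁A : A ≤ normalizer (N₁ : Set H) := by
    intro a ha
    apply Cfsg.Agent.Lib.Helper18.mem_normalizer_of_forall_conj_mem
    intro x hx
    rw [hN₁] at hx ⊢
    obtain ⟨hx1, hx2⟩ := Subgroup.mem_inf.mp hx
    refine Subgroup.mem_inf.mpr ⟨(mem_normalizer_iff.mp (hAN ha) x).mp hx1, ?_⟩
    exact (MonoidHom.normal_ker f).conj_mem x hx2 a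
  obtain ⟨ρ₀, hρ₀⟩ : ∃ ρ₀ : Equiv.Perm (Fin 3), ρ₀ = Equiv.swap 0 1 * Equiv.swap 1 2 := ⟨_, rfl⟩
  have hρ₀s : Equiv.Perm.sign ρ₀ = 1 := by rw [hρ₀]; decide
  have hρ₀ne : ρ₀⁻¹ * ρ₀⁻¹ ≠ 1 := by rw [hρ₀]; decide
  obtain ⟨q₀, hq₀Q, hq₀⟩ := hQ'onto ρ₀ ((hA₃mem ρ₀).mpr hρ₀s)
  have hx : ∀ a ∈ A, q₀⁻¹ * (a * q₀ * a⁻¹) ∈ N₁ := by
    intro a ha
    rw [hN₁]
    refine Subgroup.mem_inf.mpr ⟨Q'.mul_mem (Q'.inv_mem hq₀Q)
      ((mem_normalizer_iff.mp (hAN ha) q₀).mp hq₀Q), ?_⟩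
    rw [MonoidHom.mem_ker, map_mul, map_mul, map_mul, map_inv, map_inv, hfA a ha, one_mul,
      inv_one, mul_one, inv_mul_cancel]
  obtain ⟨u, hu, hqu⟩ := hAct.exists_mul_mem_centralizer hN₁Q hN₁A q₀ hq₀Q hx
  obtain ⟨q, hq⟩ : ∃ q : H, q = q₀ * u := ⟨_, rfl⟩
  rw [← hq] at hqu
  obtain ⟨hqQ, hqc⟩ := Subgroup.mem_inf.mp hqu
  have hfq : f q = ρ₀ := by
    rw [hN₁] at hu
    have hu' : f u = 1 := MonoidHom.mem_ker.mp (Subgroup.mem_inf.mp hu).2
    rw [hq, map_mul, hq₀, hu', mul_one]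
  have hdd : (d * d) * q = q * (d * d) := by
    have hddA : d * d ∈ A := by rw [hA]; exact mem_zpowers _
    exact mem_centralizer_iff.mp hqc (d * d) hddA
  refine ⟨d, q⁻¹ * (d * q * d⁻¹), ?_, ⟨a, hd2⟩, ?_, ?_⟩
  · calc d * (q⁻¹ * (d * q * d⁻¹)) * d⁻¹
        = (d * q * d⁻¹)⁻¹ * ((d * d) * q * (d * d)⁻¹) := by group
      _ = (d * q * d⁻¹)⁻¹ * (q * (d * d) * (d * d)⁻¹) := by rw [hdd]
      _ = (q⁻¹ * (d * q * d⁻¹))⁻¹ := by group
  · have hyQ : q⁻¹ * (d * q * d⁻¹) ∈ Q' :=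
      Q'.mul_mem (Q'.inv_mem hqQ) ((mem_normalizer_iff.mp hdN q).mp hqQ)
    obtain ⟨j, hj⟩ := hQ'p ⟨_, hyQ⟩
    exact ⟨j, by simpa using congrArg Subtype.val hj⟩
  · rw [map_mul, map_mul, map_mul, map_inv, map_inv, hfq, s3_odd_conj _ _ hsd hρ₀s]
    exact hρ₀ne

end LemmaR

section Forward

/-- The Klein four-group in `S₄`. -/
def V4 : Subgroup (Equiv.Perm (Fin 4)) where
  carrier := {σ | σ = 1 ∨ σ = Equiv.swap 0 1 * Equiv.swap 2 3 ∨
    σ = Equiv.swap 0 2 * Equiv.swap 1 3 ∨ σ = Equiv.swap 0 3 * Equiv.swap 1 2}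
  one_mem' := Or.inl rfl
  mul_mem' := by
    rintro _ _ (rfl | rfl | rfl | rfl) (rfl | rfl | rfl | rfl) <;> decide
  inv_mem' := by
    rintro _ (rfl | rfl | rfl | rfl) <;> decide

instance V4_decidable : DecidablePred (· ∈ V4) := fun σ =>
  inferInstanceAs (Decidable (σ = 1 ∨ σ = Equiv.swap 0 1 * Equiv.swap 2 3 ∨
    σ = Equiv.swap 0 2 * Equiv.swap 1 3 ∨ σ = Equiv.swap 0 3 * Equiv.swap 1 2))

set_option maxRecDepth 100000 in
theorem V4_conj_mem : ∀ g n : Equiv.Perm (Fin 4), n ∈ V4 → g * n * g⁻¹ ∈ V4 := by decide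

set_option maxRecDepth 100000 in
theorem V4_centralizer : ∀ g : Equiv.Perm (Fin 4),
    (∀ n : Equiv.Perm (Fin 4), n ∈ V4 → n * g = g * n) → g ∈ V4 := by decide

theorem V4_sq : ∀ n : Equiv.Perm (Fin 4), n ∈ V4 → n * n = 1 := by decide

instance V4_normal : V4.Normal := ⟨fun n hn g => V4_conj_mem g n hn⟩

theorem V4_isPGroup : IsPGroup 2 V4 := fun σ => ⟨1, Subtype.ext (by
  rw [pow_one, Subgroup.coe_pow, Subgroup.coe_one, pow_two]
  exact V4_sq σ σ.2)⟩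

/-- `S₃` is involved in `S₄ / V₄`. -/
theorem involves_s3_quotient_V4 :
    Cfsg.Involves (Equiv.Perm (Fin 3)) (Equiv.Perm (Fin 4) ⧸ V4) := by
  apply Cfsg.Agent.Lib.Helper18.S3Section.involves_s3_of_inverted
    (QuotientGroup.mk' V4 (Equiv.swap 0 1)) (QuotientGroup.mk' V4 (Equiv.swap 0 1 * Equiv.swap 1 2))
  · rw [← map_pow]
    have : (Equiv.swap 0 1 : Equiv.Perm (Fin 4)) ^ 2 = 1 := by decide
    rw [this, map_one]
  · intro h
    rw [QuotientGroup.mk'_apply, QuotientGroup.eq_one_iff] at h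
    revert h
    decide
  · rw [← map_pow]
    have : (Equiv.swap 0 1 * Equiv.swap 1 2 : Equiv.Perm (Fin 4)) ^ 3 = 1 := by decide
    rw [this, map_one]
  · rw [← map_inv, ← map_mul, ← map_mul, ← map_inv]
    congr 1
    decide

variable {G : Type*} [Group G] [Finite G]

theorem forward (h : Cfsg.Involves (Equiv.Perm (Fin 4)) G) :
    ∃ T : Subgroup G, IsPGroup 2 ↥T ∧ Cfsg.Involves (Equiv.Perm (Fin 3))
      (↥(Subgroup.normalizer (T : Set G)) ⧸
        (Subgroup.centralizer (T : Set G)).subgroupOf (Subgroup.normalizer (T : Set G))) := by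
  classical
  have hp2 : Fact (Nat.Prime 2) := ⟨by norm_num⟩
  obtain ⟨K, f, hf⟩ := Cfsg.Agent.Lib.Helper27.involves_iff.mp h
  obtain ⟨V, hV⟩ : ∃ V : Subgroup ↥K, V = V4.comap f := ⟨_, rfl⟩
  have hVn : V.Normal := by rw [hV]; infer_instance
  have hVmem : ∀ x : ↥K, x ∈ V ↔ f x ∈ V4 := by intro x; rw [hV, Subgroup.mem_comap]
  obtain ⟨P⟩ : Nonempty (Sylow 2 ↥V) := inferInstance
  obtain ⟨T₀, hT₀⟩ : ∃ T₀ : Subgroup ↥K, T₀ = (P : Subgroup V).map V.subtype := ⟨_, rfl⟩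
  have hFr : normalizer (T₀ : Set ↥K) ⊔ V = ⊤ := by
    rw [hT₀]; exact Sylow.normalizer_sup_eq_top P
  have hT₀p : IsPGroup 2 T₀ := by rw [hT₀]; exact P.isPGroup'.map _
  have hT₀V : T₀ ≤ V := by rw [hT₀]; exact Subgroup.map_subtype_le _
  -- `T₀` maps onto `V4`
  have hK1 : ∀ σ ∈ V4, ∃ t ∈ T₀, f t = σ := by
    intro σ hσ
    have hg : Function.Surjective ((f.subgroupComap V4).comp
        (MulEquiv.subgroupCongr hV).toMonoidHom) :=
      (f.subgroupComap_surjective_of_surjective V4 hf).comp (MulEquiv.subgroupCongr hV).surjective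
    have htop := sylow_map_eq_top _ hg V4_isPGroup P
    have hmem : (⟨σ, hσ⟩ : ↥V4) ∈ (P : Subgroup V).map ((f.subgroupComap V4).comp
        (MulEquiv.subgroupCongr hV).toMonoidHom) := by rw [htop]; exact Subgroup.mem_top _
    obtain ⟨q, hq, hqσ⟩ := hmem
    refine ⟨(q : ↥K), ?_, ?_⟩
    · rw [hT₀]; exact ⟨q, hq, rfl⟩
    · exact congrArg Subtype.val hqσ
  -- the normalizer of `T₀` maps onto `S₄`
  have hK3 : ∀ σ : Equiv.Perm (Fin 4), ∃ n ∈ normalizer (T₀ : Set ↥K), f n = σ := by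
    intro σ
    obtain ⟨k, hk⟩ := hf σ
    have hktop : k ∈ normalizer (T₀ : Set ↥K) ⊔ V := by rw [hFr]; exact Subgroup.mem_top _
    obtain ⟨n, hn, v, hv, hnv⟩ := Subgroup.mem_sup_of_normal_right.mp hktop
    obtain ⟨t, ht, hft⟩ := hK1 (f v) ((hVmem v).mp hv)
    refine ⟨n * t, Subgroup.mul_mem _ hn (le_normalizer ht), ?_⟩
    rw [map_mul, hft, ← map_mul, hnv, hk]
  -- the centralizer of `T₀` maps into `V4`
  have hK4 : ∀ c ∈ centralizer (T₀ : Set ↥K), f c ∈ V4 := by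
    intro c hc
    apply V4_centralizer
    intro σ hσ
    obtain ⟨t, ht, rfl⟩ := hK1 σ hσ
    rw [← map_mul, ← map_mul, mem_centralizer_iff.mp hc t ht]
  obtain ⟨T, hT⟩ : ∃ T : Subgroup G, T = T₀.map K.subtype := ⟨_, rfl⟩
  have hTp : IsPGroup 2 T := by rw [hT]; exact hT₀p.map _
  refine ⟨T, hTp, ?_⟩
  obtain ⟨N₀, hN₀⟩ : ∃ N₀ : Subgroup ↥K, N₀ = normalizer (T₀ : Set ↥K) := ⟨_, rfl⟩
  have hN₀norm : ∀ n : ↥N₀, ((n : ↥K) : G) ∈ normalizer (T : Set G) := by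
    intro n
    apply Cfsg.Agent.Lib.Helper18.mem_normalizer_of_forall_conj_mem
    intro x hx
    rw [hT] at hx ⊢
    obtain ⟨t, ht, rfl⟩ := hx
    have hn : (n : ↥K) ∈ normalizer (T₀ : Set ↥K) := by rw [← hN₀]; exact n.2
    exact ⟨(n : ↥K) * t * (n : ↥K)⁻¹, (mem_normalizer_iff.mp hn t).mp ht, by simp⟩
  let ι : ↥N₀ →* ↥(normalizer (T : Set G)) :=
    MonoidHom.codRestrict (K.subtype.comp N₀.subtype) _ hN₀norm
  obtain ⟨ψ, hψ⟩ : ∃ ψ : ↥N₀ →* ↥(normalizer (T : Set G)) ⧸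
      (centralizer (T : Set G)).subgroupOf (normalizer (T : Set G)),
      ψ = (QuotientGroup.mk' _).comp ι := ⟨_, rfl⟩
  obtain ⟨g₂, hg₂⟩ : ∃ g₂ : ↥N₀ →* Equiv.Perm (Fin 4) ⧸ V4,
      g₂ = (QuotientGroup.mk' V4).comp (f.comp N₀.subtype) := ⟨_, rfl⟩
  have hg₂s : Function.Surjective g₂ := by
    intro y
    obtain ⟨σ, rfl⟩ := QuotientGroup.mk'_surjective V4 y
    obtain ⟨n, hn, rfl⟩ := hK3 σ
    refine ⟨⟨n, by rw [hN₀]; exact hn⟩, ?_⟩
    rw [hg₂]; rfl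
  have hker : ψ.ker ≤ g₂.ker := by
    intro n hn
    rw [MonoidHom.mem_ker, hψ, MonoidHom.comp_apply, QuotientGroup.mk'_apply,
      QuotientGroup.eq_one_iff, Subgroup.mem_subgroupOf] at hn
    have hn' : ((n : ↥K) : G) ∈ centralizer (T : Set G) := hn
    have hc : (n : ↥K) ∈ centralizer (T₀ : Set ↥K) := by
      rw [mem_centralizer_iff]
      intro t ht
      apply Subtype.ext
      have htT : (t : G) ∈ T := by rw [hT]; exact ⟨t, ht, rfl⟩
      have := mem_centralizer_iff.mp hn' (t : G) htT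
      simpa using this
    rw [MonoidHom.mem_ker, hg₂, MonoidHom.comp_apply, QuotientGroup.mk'_apply,
      QuotientGroup.eq_one_iff]
    exact hK4 _ hc
  have h1 : Cfsg.Involves (Equiv.Perm (Fin 4) ⧸ V4) (↥N₀ ⧸ ψ.ker) := by
    apply Cfsg.Agent.Lib.Helper27.involves_of_surjective (QuotientGroup.lift ψ.ker g₂ hker)
    intro y
    obtain ⟨n, rfl⟩ := hg₂s y
    exact ⟨QuotientGroup.mk n, QuotientGroup.lift_mk _ _ _⟩
  have h2 := Cfsg.Agent.Lib.Helper27.involves_of_injective (QuotientGroup.kerLift ψ)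
    (QuotientGroup.kerLift_injective ψ) h1
  exact Cfsg.Agent.Lib.Helper27.involves_trans involves_s3_quotient_V4 h2

end Forward

section Backward

variable {G : Type*} [Group G] [Finite G]

theorem backward (T : Subgroup G) (hT : IsPGroup 2 ↥T)
    (h : Cfsg.Involves (Equiv.Perm (Fin 3)) (↥(Subgroup.normalizer (T : Set G)) ⧸
      (Subgroup.centralizer (T : Set G)).subgroupOf (Subgroup.normalizer (T : Set G)))) :
    Cfsg.Involves (Equiv.Perm (Fin 4)) G := by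
  classical
  obtain ⟨Hb, fb, hfb⟩ := Cfsg.Agent.Lib.Helper27.involves_iff.mp h
  obtain ⟨π, hπ⟩ : ∃ π : ↥(normalizer (T : Set G)) →* ↥(normalizer (T : Set G)) ⧸
      (centralizer (T : Set G)).subgroupOf (normalizer (T : Set G)),
      π = QuotientGroup.mk' _ := ⟨_, rfl⟩
  have hπs : Function.Surjective π := by rw [hπ]; exact QuotientGroup.mk'_surjective _
  have hπ1 : ∀ g : ↥(normalizer (T : Set G)), π g = 1 ↔ (g : G) ∈ centralizer (T : Set G) := by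
    intro g
    rw [hπ, QuotientGroup.mk'_apply, QuotientGroup.eq_one_iff, Subgroup.mem_subgroupOf]
  obtain ⟨f, hf⟩ : ∃ f : ↥(Hb.comap π) →* Equiv.Perm (Fin 3),
      f = fb.comp (π.subgroupComap Hb) := ⟨_, rfl⟩
  have hfs : Function.Surjective f := by
    rw [hf]
    exact hfb.comp (π.subgroupComap_surjective_of_surjective Hb hπs)
  obtain ⟨x, y, hxy, ⟨k, hxk⟩, ⟨j, hyj⟩, hfy⟩ := exists_inverted_of_surjective f hfs
  obtain ⟨x₀, hx₀⟩ : ∃ x₀ : G, x₀ = ((x : ↥(normalizer (T : Set G))) : G) := ⟨_, rfl⟩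
  obtain ⟨y₀, hy₀⟩ : ∃ y₀ : G, y₀ = ((y : ↥(normalizer (T : Set G))) : G) := ⟨_, rfl⟩
  have hx₀N : x₀ ∈ normalizer (T : Set G) := by rw [hx₀]; exact (x : ↥(normalizer (T : Set G))).2
  have hy₀N : y₀ ∈ normalizer (T : Set G) := by rw [hy₀]; exact (y : ↥(normalizer (T : Set G))).2
  have hxy₀ : x₀ * y₀ * x₀⁻¹ = y₀⁻¹ := by
    have := congrArg (fun w : ↥(Hb.comap π) => ((w : ↥(normalizer (T : Set G))) : G)) hxy
    rw [hx₀, hy₀]
    simpa using this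
  have hx₀k : x₀ ^ 2 ^ k = 1 := by
    have := congrArg (fun w : ↥(Hb.comap π) => ((w : ↥(normalizer (T : Set G))) : G)) hxk
    rw [hx₀]
    simpa using this
  have hy₀j : y₀ ^ 3 ^ j = 1 := by
    have := congrArg (fun w : ↥(Hb.comap π) => ((w : ↥(normalizer (T : Set G))) : G)) hyj
    rw [hy₀]
    simpa using this
  have hy₀C : y₀ ∉ centralizer (T : Set G) := by
    intro hc
    apply hfy
    have h1 : π (y : ↥(normalizer (T : Set G))) = 1 := (hπ1 _).mpr (by rw [← hy₀]; exact hc)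
    have h2 : (π.subgroupComap Hb) y = 1 := Subtype.ext h1
    rw [hf, MonoidHom.comp_apply, h2, map_one]
  -- the power of `y₀` acting with order `3`
  have hex : ∃ i : ℕ, y₀ ^ 3 ^ i ∈ centralizer (T : Set G) :=
    ⟨j, by rw [hy₀j]; exact Subgroup.one_mem _⟩
  obtain ⟨i₀, hi₀⟩ : ∃ i₀, i₀ = Nat.find hex := ⟨_, rfl⟩
  have hi₀spec : y₀ ^ 3 ^ i₀ ∈ centralizer (T : Set G) := by rw [hi₀]; exact Nat.find_spec hex
  have hi₀pos : i₀ ≠ 0 := by
    intro h0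
    rw [h0, pow_zero, pow_one] at hi₀spec
    exact hy₀C hi₀spec
  obtain ⟨i, hi⟩ : ∃ i, i₀ = i + 1 := Nat.exists_eq_succ_of_ne_zero hi₀pos
  obtain ⟨z, hz⟩ : ∃ z : G, z = y₀ ^ 3 ^ i := ⟨_, rfl⟩
  have hzC : z ∉ centralizer (T : Set G) := by
    rw [hz]
    have : i < Nat.find hex := by rw [← hi₀, hi]; exact Nat.lt_succ_self i
    exact Nat.find_min hex this
  have hz3 : z ^ 3 ∈ centralizer (T : Set G) := by
    rw [hz, ← pow_mul, ← pow_succ, ← hi]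
    exact hi₀spec
  have hzN : z ∈ normalizer (T : Set G) := by rw [hz]; exact Subgroup.pow_mem _ hy₀N _
  have hxz : x₀ * z * x₀⁻¹ = z⁻¹ := by
    rw [hz, ← conj_pow, hxy₀, inv_pow]
  exact involves_s4_of_two_group T hT z x₀ hzN hx₀N k hx₀k hxz hz3 hzC

end Backward

/-- For a finite group G, the symmetric group of degree 4 is involved in G if and only if there is a 2-subgroup T of G such that the symmetric group of degree 3 is involved in N(T)/C(T). -/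
theorem result {G : Type*} [Group G] [Finite G] : Cfsg.Involves (Equiv.Perm (Fin 4)) G ↔ ∃ T : Subgroup G, IsPGroup 2 ↥T ∧ Cfsg.Involves (Equiv.Perm (Fin 3)) (↥(Subgroup.normalizer (T : Set G)) ⧸ (Subgroup.centralizer (T : Set G)).subgroupOf (Subgroup.normalizer (T : Set G))) := by
  constructor
  · exact forward
  · rintro ⟨T, hT, h⟩
    exact backward T hT h

end Cfsg.Agent.S2759
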