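import Cfsg.Statements.S1445
import Cfsg.Agent.S3766
import Cfsg.Agent.Lib.Helper10.XRepChief
import Cfsg.Agent.Lib.Helper10.CNGroup
import Cfsg.Agent.Lib.Helper1.Coprime

set_option autoImplicit false
open Cfsg

namespace Cfsg.Agent.S1445

open Cfsg.Agent.Lib.Helper10 Cfsg.Agent.Lib.Helper10.XRep
open scoped commutatorElement

/-- the fixed cosets of `x` in `U / V` contain fixed elements. -/
theorem fixed_coset {G : Type*} [Group G] [Finite G] [Group.IsSolvable G]
    (x : G) (U V : Subgroup G) [U.Normal] [V.Normal] (hVU : V ≤ U)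
    (hcop : (orderOf x).Coprime (Nat.card U)) (u : G) (hu : u ∈ U)
    (h : u⁻¹ * (x * u * x⁻¹) ∈ V) :
    ∃ v ∈ V, x * (u * v) = (u * v) * x := by
  have hact : Cfsg.Agent.Lib.Helper1.CoprimeAct (Subgroup.zpowers x) U := by
    refine ⟨?_, ?_, Or.inr inferInstance⟩
    · rw [Subgroup.normalizer_eq_top]
      exact le_top
    · rw [Nat.card_zpowers]
      exact hcop
  have hVn : Subgroup.zpowers x ≤ Subgroup.normalizer (V : Set G) := by
    rw [Subgroup.normalizer_eq_top]
    exact le_top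
  have hx : ∀ a ∈ Subgroup.zpowers x, u⁻¹ * (a * u * a⁻¹) ∈ V := by
    intro a ha
    obtain ⟨j, rfl⟩ := Subgroup.mem_zpowers_iff.mp ha
    have h1 : Commute (QuotientGroup.mk' V x) (QuotientGroup.mk' V u) := by
      show QuotientGroup.mk' V x * QuotientGroup.mk' V u = QuotientGroup.mk' V u * QuotientGroup.mk' V x
      rw [← map_mul, ← map_mul]
      apply QuotientGroup.eq.mpr
      have e : (x * u)⁻¹ * (u * x) = x⁻¹ * (u⁻¹ * (x * u * x⁻¹))⁻¹ * x⁻¹⁻¹ := by group
      rw [e]
      exact Subgroup.Normal.conj_mem inferInstance _ (inv_mem h) x⁻¹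
    have h2 := h1.zpow_left j
    rw [← map_zpow] at h2
    have h3 : QuotientGroup.mk' V (u * x ^ j) = QuotientGroup.mk' V (x ^ j * u) := by
      rw [map_mul, map_mul]
      exact h2.eq.symm
    have h4 := QuotientGroup.eq.mp h3
    have e : u⁻¹ * (x ^ j * u * (x ^ j)⁻¹) = x ^ j * ((u * x ^ j)⁻¹ * (x ^ j * u)) * (x ^ j)⁻¹ := by
      group
    rw [e]
    exact Subgroup.Normal.conj_mem inferInstance _ h4 _
  obtain ⟨v, hv, hc⟩ := hact.exists_mul_mem_centralizer hVU hVn u hu hx
  refine ⟨v, hv, ?_⟩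
  have := Subgroup.mem_centralizer_iff.mp (Subgroup.mem_inf.mp hc).2 x (Subgroup.mem_zpowers x)
  exact this

/-- Let G be a solvable group of odd order, K a normal subgroup and R a subgroup with G = KR and the orders of K and R coprime. Suppose K ∩ C_G(x) = K ∩ C_G(R) for every non-identity x ∈ R, and F(K) ∩ C_G(R) = 1. Then [K, R] is contained in the Fitting subgroup of K. -/
theorem result {G : Type*} [Group G] [Finite G] [Group.IsSolvable G] (hodd : Odd (Nat.card G)) (K R : Subgroup G) [K.Normal] (hKR : K ⊔ R = ⊤) (hcop : (Nat.card K).Coprime (Nat.card R))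
    (hprime : ∀ x ∈ R, x ≠ 1 → K ⊓ Subgroup.centralizer ({x} : Set G) = (K ⊓ Subgroup.centralizer (R : Set G)))
    (hF : Cfsg.fittingOf K ⊓ Subgroup.centralizer (R : Set G) = ⊥) :
    ⁅K, R⁆ ≤ Cfsg.fittingOf K := by
  classical
  have hchar : (fittingSubgroup ↥K).Characteristic :=
    Cfsg.Agent.Lib.Helper1.fittingSubgroup_characteristic
  have hFn : (Cfsg.fittingOf K).Normal := by
    unfold Cfsg.fittingOf
    infer_instance
  have hFK : Cfsg.fittingOf K ≤ K := Subgroup.map_subtype_le _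
  have hFnil : Group.IsNilpotent (Cfsg.fittingOf K) := by
    unfold Cfsg.fittingOf
    exact isNilpotent_map _ _ Cfsg.Agent.Lib.Helper1.fittingSubgroup_isNilpotent
  -- step A
  have hA : ∀ x ∈ R, x ≠ 1 → ∀ r : ℕ, r.Prime → x ^ r = 1 →
      ∀ k ∈ K, k * x * k⁻¹ * x⁻¹ ∈ Cfsg.fittingOf K := by
    intro x hxR hx1 r hr hxr k hk
    have hord : orderOf x = r := by
      rcases (Nat.dvd_prime hr).mp (orderOf_dvd_of_pow_eq_one hxr) with h | h
      · exact absurd (orderOf_eq_one_iff.mp h) hx1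
      · exact h
    have hrR : r ∣ Nat.card R := by
      have := orderOf_dvd_natCard (⟨x, hxR⟩ : R)
      rwa [Subgroup.orderOf_mk, hord] at this
    have hrK : ¬ r ∣ Nat.card K := by
      intro h
      have := Nat.eq_one_of_dvd_coprimes hcop h hrR
      exact hr.one_lt.ne' this
    have hcK : k * x * k⁻¹ * x⁻¹ ∈ K := by
      have h4 : x * k⁻¹ * x⁻¹ ∈ K := Subgroup.Normal.conj_mem inferInstance _ (inv_mem hk) x
      have e : k * x * k⁻¹ * x⁻¹ = k * (x * k⁻¹ * x⁻¹) := by group
      rw [e]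
      exact mul_mem hk h4
    have hS := (Cfsg.Agent.S3766.result (inferInstance : Group.IsSolvable G) K
      (k * x * k⁻¹ * x⁻¹)).2
    show k * x * k⁻¹ * x⁻¹ ∈ (Cfsg.fittingSubgroup ↥K).map K.subtype
    rw [hS]
    refine ⟨hcK, ?_⟩
    rintro U V ⟨hUn, hVn, hVU, hchief⟩ hUF u hu
    have hUFK : U ≤ Cfsg.fittingOf K := hUF
    have hUK : U ≤ K := hUFK.trans hFK
    have hUnil : Group.IsNilpotent U := isNilpotent_of_le hUFK hFnil
    have hfpf : ∀ u ∈ U, u⁻¹ * (x * u * x⁻¹) ∈ V → u ∈ V := by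
      intro u hu h
      have hcopU : (orderOf x).Coprime (Nat.card U) := by
        rw [hord]
        have h1 : ¬ r ∣ Nat.card U := fun h2 => hrK (h2.trans (Subgroup.card_dvd_of_le hUK))
        exact (Nat.Prime.coprime_iff_not_dvd hr).mpr h1
      obtain ⟨v, hv, hc⟩ := fixed_coset x U V hVU.le hcopU u hu h
      have huv : u * v ∈ U := mul_mem hu (hVU.le hv)
      have h1 : u * v ∈ K ⊓ Subgroup.centralizer ({x} : Set G) := by
        refine Subgroup.mem_inf.mpr ⟨hUK huv, ?_⟩
        rw [Subgroup.mem_centralizer_iff]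
        intro y hy
        rw [Set.mem_singleton_iff] at hy
        rw [hy]
        exact hc
      rw [hprime x hxR hx1] at h1
      have h2 : u * v ∈ Cfsg.fittingOf K ⊓ Subgroup.centralizer (R : Set G) :=
        Subgroup.mem_inf.mpr ⟨hUFK huv, (Subgroup.mem_inf.mp h1).2⟩
      rw [hF, Subgroup.mem_bot] at h2
      have h3 : u = v⁻¹ := eq_inv_of_mul_eq_one_left h2
      rw [h3]
      exact inv_mem hv
    exact chief_centralize inferInstance hodd K hr hrK x hxr U V hVU hUK hUnil hchief hfpf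
      k hk u hu
  -- step B
  rw [Subgroup.commutator_le]
  intro k hk y hy
  by_cases hy1 : y = 1
  · rw [hy1, commutatorElement_one_right]
    exact one_mem _
  -- an element of prime order
  have hord1 : orderOf y ≠ 1 := fun h => hy1 (orderOf_eq_one_iff.mp h)
  obtain ⟨r, hr, hrd⟩ := Nat.exists_prime_and_dvd hord1
  obtain ⟨m, hm⟩ := hrd
  obtain ⟨x, hxdef⟩ : ∃ x, x = y ^ m := ⟨_, rfl⟩
  have hxR : x ∈ R := hxdef ▸ pow_mem hy m
  have hxr : x ^ r = 1 := by
    rw [hxdef, ← pow_mul, mul_comm, ← hm, pow_orderOf_eq_one]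
  have hx1 : x ≠ 1 := by
    intro h
    rw [hxdef] at h
    have h1 : orderOf y ∣ m := orderOf_dvd_of_pow_eq_one h
    rw [hm] at h1
    have hm0 : m ≠ 0 := by
      rintro rfl
      rw [mul_zero] at hm
      exact (orderOf_pos y).ne' hm
    have h2 : r * m ≤ m := Nat.le_of_dvd (Nat.pos_of_ne_zero hm0) h1
    have h3 : 2 * m ≤ r * m := Nat.mul_le_mul_right m hr.two_le
    omega
  have hxy : x * y = y * x := by
    rw [hxdef]
    exact ((Commute.refl y).pow_left m).eq
  -- commutators with `x`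
  have hAx := hA x hxR hx1 r hr hxr
  -- `zpowers x` centralizes `K` modulo the Fitting subgroup
  let π : G →* G ⧸ Cfsg.fittingOf K := QuotientGroup.mk' (Cfsg.fittingOf K)
  have hπ : ∀ k ∈ K, Commute (π x) (π k) := by
    intro k hk
    have h1 : π (k * x * k⁻¹ * x⁻¹) = 1 := (QuotientGroup.eq_one_iff _).mpr (hAx k hk)
    rw [map_mul, map_mul, map_mul, map_inv, map_inv] at h1
    show π x * π k = π k * π x
    have h2 : π k * π x = (π k * π x * (π k)⁻¹ * (π x)⁻¹) * (π x * π k) := by group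
    rw [h2, h1, one_mul]
  have hcomA : ⁅K, Subgroup.zpowers x⁆ ≤ Cfsg.fittingOf K := by
    rw [Subgroup.commutator_le]
    intro k hk a ha
    obtain ⟨j, rfl⟩ := Subgroup.mem_zpowers_iff.mp ha
    have h1 : Commute (π (x ^ j)) (π k) := by
      rw [map_zpow]
      exact (hπ k hk).zpow_left j
    rw [← QuotientGroup.eq_one_iff]
    show π ⁅k, x ^ j⁆ = 1
    rw [map_commutatorElement, commutatorElement_eq_one_iff_commute]
    exact h1.symm
  -- coprime action of `zpowers x`
  have hact : Cfsg.Agent.Lib.Helper1.CoprimeAct (Subgroup.zpowers x) K := by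
    refine ⟨?_, ?_, Or.inr inferInstance⟩
    · rw [Subgroup.normalizer_eq_top]
      exact le_top
    · have h1 : Nat.card (Subgroup.zpowers x) ∣ Nat.card R :=
        Subgroup.card_dvd_of_le (by
          rw [Subgroup.zpowers_le]
          exact hxR)
      exact (Nat.Coprime.coprime_dvd_right h1 hcop).symm
  have hsup := hact.commutator_sup_centralizer
  have hk2 : k ∈ Cfsg.fittingOf K ⊔ (K ⊓ Subgroup.centralizer (Subgroup.zpowers x : Set G)) := by
    have h1 : k ∈ ⁅K, Subgroup.zpowers x⁆ ⊔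
        (K ⊓ Subgroup.centralizer (Subgroup.zpowers x : Set G)) := by
      rw [hsup]
      exact hk
    exact (sup_le_sup_right hcomA _) h1
  have hk3 : k ∈ ((Cfsg.fittingOf K ⊔
      (K ⊓ Subgroup.centralizer (Subgroup.zpowers x : Set G)) : Subgroup G) : Set G) := hk2
  rw [Subgroup.normal_mul] at hk3
  obtain ⟨f, hf, c, hc, hfc⟩ := Set.mem_mul.mp hk3
  have hc1 : c ∈ K ⊓ Subgroup.centralizer ({x} : Set G) := by
    refine Subgroup.mem_inf.mpr ⟨(Subgroup.mem_inf.mp hc).1, ?_⟩
    rw [Subgroup.mem_centralizer_iff]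
    intro z hz
    rw [Set.mem_singleton_iff] at hz
    rw [hz]
    exact Subgroup.mem_centralizer_iff.mp (Subgroup.mem_inf.mp hc).2 x (Subgroup.mem_zpowers x)
  rw [hprime x hxR hx1] at hc1
  have hcy : y * c = c * y := Subgroup.mem_centralizer_iff.mp (Subgroup.mem_inf.mp hc1).2 y hy
  rw [← hfc, commutatorElement_def]
  have e : f * c * y * (f * c)⁻¹ * y⁻¹ = f * (c * y) * c⁻¹ * f⁻¹ * y⁻¹ := by group
  rw [e, ← hcy]
  have e2 : f * (y * c) * c⁻¹ * f⁻¹ * y⁻¹ = f * (y * f⁻¹ * y⁻¹) := by group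
  rw [e2]
  exact mul_mem hf (hFn.conj_mem _ (inv_mem hf) y)

end Cfsg.Agent.S1445
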