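-- Statement S1467
import Cfsg.Statements.S1467

set_option autoImplicit false
open Cfsg

namespace Cfsg.Agent.S1467

theorem puigStep_antitone {G : Type*} [Group G] {X Y : Subgroup G} (h : X ≤ Y) :
    Cfsg.puigStep Y ≤ Cfsg.puigStep X := by
  unfold Cfsg.puigStep
  apply sSup_le_sSup
  intro A hA
  exact ⟨hA.1, le_trans h hA.2⟩

theorem puigStep_bot {G : Type*} [Group G] : Cfsg.puigStep (⊥ : Subgroup G) = ⊤ := by
  rw [eq_top_iff]
  intro g _
  have h1 : Subgroup.zpowers g ≤ Cfsg.puigStep (⊥ : Subgroup G) := by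
    unfold Cfsg.puigStep
    apply le_sSup
    refine ⟨?_, bot_le⟩
    infer_instance
  exact h1 (Subgroup.mem_zpowers g)

theorem puigSeq_succ {G : Type*} [Group G] (n : ℕ) :
    Cfsg.puigSeq G (n + 1) = Cfsg.puigStep (Cfsg.puigSeq G n) := rfl

/-- Let G be a finite group with Puig series L_n(G). Then L_0 = 1, L_1 = G; L_{2n} ≤ L_{2n+2} ≤ L_{2m+3} ≤ L_{2m+1} for all n, m; there is k with L_{2n}(G) = L_*(G) and L_{2n+1}(G) = L(G) for all n ≥ k; L_*(G) ≤ L(G); and applying one Puig step to L_*(G) gives L(G) and to L(G) gives L_*(G). -/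
theorem result {G : Type*} [Group G] [Finite G] :
    Cfsg.puigSeq G 0 = ⊥ ∧ Cfsg.puigSeq G 1 = ⊤ ∧
      (∀ n m : ℕ, Cfsg.puigSeq G (2 * n) ≤ Cfsg.puigSeq G (2 * n + 2) ∧ Cfsg.puigSeq G (2 * n) ≤ Cfsg.puigSeq G (2 * m + 1) ∧
        Cfsg.puigSeq G (2 * m + 3) ≤ Cfsg.puigSeq G (2 * m + 1)) ∧
      (∃ k : ℕ, ∀ n : ℕ, k ≤ n → Cfsg.puigSeq G (2 * n) = Cfsg.puigLower G ∧ Cfsg.puigSeq G (2 * n + 1) = Cfsg.puigSubgroup G) ∧
      Cfsg.puigLower G ≤ Cfsg.puigSubgroup G ∧
      Cfsg.puigStep (Cfsg.puigLower G) = Cfsg.puigSubgroup G ∧ Cfsg.puigStep (Cfsg.puigSubgroup G) = Cfsg.puigLower G := by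
  have h0 : Cfsg.puigSeq G 0 = ⊥ := rfl
  have h1 : Cfsg.puigSeq G 1 = ⊤ := by
    rw [puigSeq_succ, h0, puigStep_bot]
  -- even terms increase, odd terms decrease
  have hEO : ∀ n : ℕ, Cfsg.puigSeq G (2 * n) ≤ Cfsg.puigSeq G (2 * n + 2) ∧
      Cfsg.puigSeq G (2 * n + 3) ≤ Cfsg.puigSeq G (2 * n + 1) := by
    intro n
    induction n with
    | zero =>
      refine ⟨by rw [h0]; exact bot_le, ?_⟩
      simp only [Nat.mul_zero, Nat.zero_add]
      rw [h1]; exact le_top
    | succ n ih =>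
      have e1 : Cfsg.puigSeq G (2 * (n + 1)) ≤ Cfsg.puigSeq G (2 * (n + 1) + 2) := by
        have : 2 * (n + 1) = (2 * n + 1) + 1 := by ring
        rw [this]
        have : 2 * n + 1 + 1 + 2 = (2 * n + 3) + 1 := by ring
        rw [this, puigSeq_succ, puigSeq_succ]
        exact puigStep_antitone ih.2
      refine ⟨e1, ?_⟩
      have : 2 * (n + 1) + 3 = (2 * (n + 1) + 2) + 1 := by ring
      rw [this, puigSeq_succ, puigSeq_succ]
      exact puigStep_antitone e1
  -- every even term lies below every odd term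
  have hcross : ∀ n m : ℕ, Cfsg.puigSeq G (2 * n) ≤ Cfsg.puigSeq G (2 * m + 1) := by
    intro n
    induction n with
    | zero => intro m; rw [Nat.mul_zero, h0]; exact bot_le
    | succ n ih =>
      have h2 : ∀ m : ℕ, Cfsg.puigSeq G (2 * m) ≤ Cfsg.puigSeq G (2 * n + 1) := by
        intro m
        cases m with
        | zero => rw [Nat.mul_zero, h0]; exact bot_le
        | succ m =>
          have : 2 * (m + 1) = (2 * m + 1) + 1 := by ring
          rw [this, puigSeq_succ, puigSeq_succ]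
          exact puigStep_antitone (ih m)
      intro m
      have : 2 * (n + 1) = (2 * n + 1) + 1 := by ring
      rw [this, puigSeq_succ, puigSeq_succ]
      exact puigStep_antitone (h2 m)
  -- monotone / antitone packaged
  have hEmono : Monotone (fun n : ℕ => Cfsg.puigSeq G (2 * n)) := by
    apply monotone_nat_of_le_succ
    intro n
    exact (hEO n).1
  have hOanti : Antitone (fun n : ℕ => Cfsg.puigSeq G (2 * n + 1)) := by
    apply antitone_nat_of_succ_le
    intro n
    exact (hEO n).2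
  -- stabilization of the even terms
  obtain ⟨k, hk⟩ : ∃ k : ℕ, ∀ m : ℕ, k ≤ m → Cfsg.puigSeq G (2 * k) = Cfsg.puigSeq G (2 * m) := by
    have := WellFoundedGT.monotone_chain_condition (α := Subgroup G)
      ⟨fun n : ℕ => Cfsg.puigSeq G (2 * n), hEmono⟩
    simpa using this
  have hkO : ∀ m : ℕ, k ≤ m → Cfsg.puigSeq G (2 * k + 1) = Cfsg.puigSeq G (2 * m + 1) := by
    intro m hm
    rw [puigSeq_succ, puigSeq_succ, hk m hm]
  have hlower : Cfsg.puigLower G = Cfsg.puigSeq G (2 * k) := by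
    unfold Cfsg.puigLower
    apply le_antisymm
    · apply iSup_le
      intro n
      rcases le_total n k with h | h
      · exact hEmono h
      · exact (hk n h).ge
    · exact le_iSup (fun n : ℕ => Cfsg.puigSeq G (2 * n)) k
  have hupper : Cfsg.puigSubgroup G = Cfsg.puigSeq G (2 * k + 1) := by
    unfold Cfsg.puigSubgroup
    apply le_antisymm
    · exact iInf_le (fun n : ℕ => Cfsg.puigSeq G (2 * n + 1)) k
    · apply le_iInf
      intro n
      rcases le_total n k with h | h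
      · exact hOanti h
      · exact (hkO n h).le
  refine ⟨h0, h1, ?_, ⟨k, ?_⟩, ?_, ?_, ?_⟩
  · intro n m
    refine ⟨(hEO n).1, hcross n m, (hEO m).2⟩
  · intro n hn
    rw [hlower, hupper]
    exact ⟨(hk n hn).symm, (hkO n hn).symm⟩
  · rw [hlower, hupper]
    exact hcross k k
  · rw [hlower, hupper, puigSeq_succ]
  · rw [hlower, hupper, ← puigSeq_succ]
    have : 2 * k + 1 + 1 = 2 * (k + 1) := by ring
    rw [this]
    exact (hk (k + 1) (Nat.le_succ k)).symm

end Cfsg.Agent.S1467
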