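import Mathlib
import Cfsg.Statements.S0629
import Cfsg.Agent.H5.PSolvable
import Cfsg.Agent.Lib.Helper10.PComponent
import Cfsg.Agent.Lib.Helper16.SPE2
import Cfsg.Agent.Lib.Helper13.Sylow

set_option autoImplicit false
open Cfsg

namespace Cfsg.Agent.S0629

open Cfsg.H5 Subgroup
open scoped Pointwise

variable {G : Type*} [Group G]

/-- `C_{G/R}(PR/R) ≤ C_G(P)R/R` for a `p`-subgroup `P` and a normal `p'`-subgroup `R`. -/
theorem centralizer_map_mk_le [Finite G] {p : ℕ} [Fact p.Prime] (P R : Subgroup G) [R.Normal]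
    (hP : IsPGroup p P) (hR : (Nat.card R).Coprime p) :
    centralizer ((P.map (QuotientGroup.mk' R) : Subgroup (G ⧸ R)) : Set (G ⧸ R)) ≤
      (centralizer (P : Set G)).map (QuotientGroup.mk' R) := by
  intro z hz
  have hzn : z ∈ normalizer ((P.map (QuotientGroup.mk' R) : Subgroup (G ⧸ R)) : Set (G ⧸ R)) :=
    Subgroup.centralizer_le_normalizer _ hz
  obtain ⟨y, hyN, rfl⟩ := Cfsg.Agent.Lib.Helper16.normalizer_map_mk_le P R hP hR hzn
  refine ⟨y, ?_, rfl⟩
  show y ∈ centralizer (P : Set G)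
  rw [mem_centralizer_iff]
  intro u hu
  have h1 : y * u * y⁻¹ * u⁻¹ ∈ P :=
    mul_mem ((mem_set_normalizer_iff.mp hyN u).mp hu) (inv_mem hu)
  have h2 : y * u * y⁻¹ * u⁻¹ ∈ R := by
    rw [← QuotientGroup.eq_one_iff]
    have hc := mem_centralizer_iff.mp hz (QuotientGroup.mk' R u) (Subgroup.mem_map_of_mem _ hu)
    have : (QuotientGroup.mk' R) (y * u * y⁻¹ * u⁻¹) = 1 := by
      simp only [map_mul, map_inv]
      rw [← hc]
      group
    exact this
  have h3 : y * u * y⁻¹ * u⁻¹ = 1 :=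
    eq_one_of_coprime_of_mem_pgroup (coprime_orderOf_of_mem hR h2) hP h1
  calc u * y = (y * u * y⁻¹ * u⁻¹)⁻¹ * (y * u) := by group
    _ = y * u := by rw [h3, inv_one, one_mul]

theorem key [Finite G] {p : ℕ} [Fact p.Prime] (P : Sylow p ↥(Cfsg.pPrimePCore p G))
    (hsol : Cfsg.IsPSolvable p ↥(Subgroup.centralizer (((P : Subgroup ↥(Cfsg.pPrimePCore p G)).map (Cfsg.pPrimePCore p G).subtype : Subgroup G) : Set G))) :
    Subgroup.centralizer (((P : Subgroup ↥(Cfsg.pPrimePCore p G)).map (Cfsg.pPrimePCore p G).subtype : Subgroup G) : Set G) ≤ Cfsg.pPrimePCore p G := by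
  set P₀ : Subgroup G := (P : Subgroup ↥(Cfsg.pPrimePCore p G)).map (Cfsg.pPrimePCore p G).subtype with hP₀
  have hRn : (pPrimeCore p G).Normal := pPrimeCore_normal p G
  have hRcop : (Nat.card (pPrimeCore p G)).Coprime p := coprime_card_pPrimeCore p G
  set π := QuotientGroup.mk' (pPrimeCore p G) with hπ
  set Qb := pCore p (G ⧸ pPrimeCore p G) with hQb
  have hQbn : Qb.Normal := pCore_normal p _
  have hQbp : IsPGroup p Qb := pCore_isPGroup p _
  have hP₀p : IsPGroup p P₀ := P.2.map _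
  have hPmap : P₀.map π = Qb := Cfsg.Agent.Lib.Helper10.map_mk_sylow_pPrimePCore p P
  -- image of the centralizer is the centralizer of the image
  have hCmap : (centralizer (P₀ : Set G)).map π = centralizer (Qb : Set (G ⧸ pPrimeCore p G)) := by
    apply le_antisymm
    · rintro _ ⟨c, hc, rfl⟩
      rw [← hPmap, mem_centralizer_iff]
      rintro _ ⟨u, hu, rfl⟩
      rw [← map_mul, ← map_mul, mem_centralizer_iff.mp hc u hu]
    · rw [← hPmap]
      exact centralizer_map_mk_le P₀ (pPrimeCore p G) hP₀p hRcop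
  set Cb := centralizer (Qb : Set (G ⧸ pPrimeCore p G)) with hCb
  have hCbn : Cb.Normal := inferInstance
  -- the centralizer of Qb is p-solvable
  have hsolb : Cfsg.IsPSolvable p ↥Cb := by
    have h1 : Cfsg.IsPSolvable p ↥((centralizer (P₀ : Set G)).map π) :=
      isPSolvable_of_surjective (π.subgroupMap (centralizer (P₀ : Set G)))
        (MonoidHom.subgroupMap_surjective _ _) hsol
    rw [hCmap] at h1
    exact h1
  -- its p'-core is trivial
  have hOb : Cfsg.pPrimeCore p ↥Cb = ⊥ := by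
    have hchar := pPrimeCore_characteristic' p ↥Cb
    have hnorm : ((Cfsg.pPrimeCore p ↥Cb).map Cb.subtype).Normal :=
      ConjAct.normal_of_characteristic_of_normal
    have hc2 : (Nat.card ((Cfsg.pPrimeCore p ↥Cb).map Cb.subtype)).Coprime p := by
      rw [Subgroup.card_map_of_injective Cb.subtype_injective]
      exact coprime_card_pPrimeCore p ↥Cb
    have hle := le_pPrimeCore hnorm hc2
    rw [Cfsg.Agent.Lib.Helper10.pPrimeCore_quotient_eq_bot, le_bot_iff] at hle
    exact (Subgroup.map_eq_bot_iff_of_injective _ Cb.subtype_injective).mp hle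
  have hHH := centralizer_pCore_le_of_isPSolvable hsolb hOb
  -- the p-core of Cb is central in Cb
  have hcen : centralizer (Cfsg.pCore p ↥Cb : Set ↥Cb) = ⊤ := by
    have hchar := pCore_characteristic p ↥Cb
    have hnorm : ((Cfsg.pCore p ↥Cb).map Cb.subtype).Normal :=
      ConjAct.normal_of_characteristic_of_normal
    have hle : (Cfsg.pCore p ↥Cb).map Cb.subtype ≤ Qb :=
      le_pCore hnorm ((pCore_isPGroup p ↥Cb).map _)
    rw [eq_top_iff]
    intro c _
    rw [mem_centralizer_iff]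
    intro x hx
    apply Subtype.ext
    have hxQ : (x : G ⧸ pPrimeCore p G) ∈ Qb := hle ⟨x, hx, rfl⟩
    have := mem_centralizer_iff.mp c.2 (x : G ⧸ pPrimeCore p G) hxQ
    simpa using this
  rw [hcen, top_le_iff] at hHH
  -- so Cb is a normal p-subgroup
  have hCbp : IsPGroup p ↥Cb := by
    have := pCore_isPGroup p ↥Cb
    rw [hHH] at this
    exact IsPGroup.of_equiv this Subgroup.topEquiv
  have hCbQ : Cb ≤ Qb := le_pCore hCbn hCbp
  intro c hc
  show π c ∈ Qb
  apply hCbQ
  rw [← hCmap]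
  exact Subgroup.mem_map_of_mem _ hc

/-- A group in which the centralizer of a Sylow p-subgroup of O_{p',p}(G) is p-solvable is p-constrained. -/
theorem result {G : Type*} [Group G] [Finite G] {p : ℕ} [Fact p.Prime] (P : Sylow p ↥(Cfsg.pPrimePCore p G)) (hsol : Cfsg.IsPSolvable p ↥(Subgroup.centralizer (((P : Subgroup ↥(Cfsg.pPrimePCore p G)).map (Cfsg.pPrimePCore p G).subtype : Subgroup G) : Set G))) : Cfsg.IsPConstrained p G := by
  intro P'
  have hk := key P hsol
  obtain ⟨g, hg⟩ := MulAction.exists_smul_eq ↥(Cfsg.pPrimePCore p G) P P'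
  intro c hc
  have hWn : (Cfsg.pPrimePCore p G).Normal := by
    unfold Cfsg.pPrimePCore
    have : (pCore p (G ⧸ pPrimeCore p G)).Normal := pCore_normal p _
    infer_instance
  -- g⁻¹ c g centralizes P
  have h1 : (g : G)⁻¹ * c * g ∈ Subgroup.centralizer (((P : Subgroup ↥(Cfsg.pPrimePCore p G)).map (Cfsg.pPrimePCore p G).subtype : Subgroup G) : Set G) := by
    rw [mem_centralizer_iff]
    rintro _ ⟨u, hu, rfl⟩
    have hu' : g * u * g⁻¹ ∈ ((P' : Sylow p ↥(Cfsg.pPrimePCore p G)) : Subgroup ↥(Cfsg.pPrimePCore p G)) := by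
      rw [← hg, Cfsg.Agent.Lib.Helper13.mem_smul_sylow_iff]
      have e : g⁻¹ * (g * u * g⁻¹) * g = u := by group
      rw [e]
      exact hu
    have h2 := mem_centralizer_iff.mp hc ((Cfsg.pPrimePCore p G).subtype (g * u * g⁻¹))
      (Subgroup.mem_map_of_mem _ hu')
    simp only [Subgroup.subtype_apply, Subgroup.coe_mul, Subgroup.coe_inv] at h2 ⊢
    calc (u : G) * ((g : G)⁻¹ * c * g) = (g : G)⁻¹ * ((g : G) * u * (g : G)⁻¹ * c) * g := by group
      _ = (g : G)⁻¹ * (c * ((g : G) * u * (g : G)⁻¹)) * g := by rw [h2]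
      _ = (g : G)⁻¹ * c * g * u := by group
  have h3 := hk h1
  have h4 := hWn.conj_mem _ h3 (g : G)
  convert h4 using 1
  group

end Cfsg.Agent.S0629
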