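import Cfsg.Statements.S1453
import Cfsg.Agent.Lib.Helper10.NormalEpSq
import Cfsg.Agent.Lib.Helper10.NarrowFit
import Cfsg.Agent.Lib.Helper10.PGroup
import Cfsg.Agent.Lib.Helper1.ClassTwo

set_option autoImplicit false
open Cfsg

universe u

namespace Cfsg.Agent.S1453

open Cfsg.Agent.Lib.Helper10 Cfsg.Agent.Lib.Helper1
open scoped commutatorElement

/-- a normal subgroup of order at most `p ^ k` of a finite `p`-group lies in the `k`-th centre -/
theorem normal_le_upperCentralSeries {p : ℕ} [Fact p.Prime] :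
    ∀ (k : ℕ) {P : Type u} [Group P] [Finite P], IsPGroup p P → ∀ (N : Subgroup P) [N.Normal],
      Nat.card ↥N ≤ p ^ k → N ≤ Subgroup.upperCentralSeries P k := by
  have hp : p.Prime := Fact.out
  intro k
  induction k with
  | zero =>
    intro P _ _ hP N _ hN
    have h1 : Nat.card ↥N = 1 := by
      have := Nat.card_pos (α := ↥N)
      simp only [pow_zero] at hN
      omega
    rw [Subgroup.card_eq_one] at h1
    rw [h1]; exact bot_le
  | succ k ih =>
    intro P _ _ hP N hNn hN
    by_cases hbot : N = ⊥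
    · rw [hbot]; exact bot_le
    have h1 := normal_inf_center_ne_bot hP N hbot
    have hfs : Function.Surjective (QuotientGroup.mk' (Subgroup.center P)) :=
      QuotientGroup.mk'_surjective _
    have hQ : IsPGroup p (P ⧸ Subgroup.center P) := hP.to_quotient _
    have hNbar : (N.map (QuotientGroup.mk' (Subgroup.center P))).Normal := hNn.map _ hfs
    have hcard : Nat.card ↥(N.map (QuotientGroup.mk' (Subgroup.center P))) ≤ p ^ k := by
      obtain ⟨g, hg⟩ : ∃ g : ↥N →* P ⧸ Subgroup.center P,
          g = (QuotientGroup.mk' (Subgroup.center P)).comp N.subtype := ⟨_, rfl⟩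
      have hrange : g.range = N.map (QuotientGroup.mk' (Subgroup.center P)) := by
        rw [hg, MonoidHom.range_comp, Subgroup.range_subtype]
      have h2 : Nat.card ↥g.ker * Nat.card ↥g.range = Nat.card ↥N := by
        rw [← Subgroup.index_ker]
        exact Subgroup.card_mul_index _
      have h3 : g.ker ≠ ⊥ := by
        obtain ⟨⟨c, hc⟩, hc1⟩ := (Subgroup.ne_bot_iff_exists_ne_one).mp h1
        rw [Subgroup.mem_inf] at hc
        intro hker
        have hmem : (⟨c, hc.1⟩ : ↥N) ∈ g.ker := by
          rw [MonoidHom.mem_ker, hg]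
          simp only [MonoidHom.coe_comp, Function.comp_apply, Subgroup.coe_subtype,
            QuotientGroup.mk'_apply, QuotientGroup.eq_one_iff]
          exact hc.2
        rw [hker, Subgroup.mem_bot] at hmem
        apply hc1
        apply Subtype.ext
        have h7 : ((⟨c, hc.1⟩ : ↥N) : P) = ((1 : ↥N) : P) := congrArg Subtype.val hmem
        exact h7
      have h4 : p ∣ Nat.card ↥g.ker := by
        have hkp : IsPGroup p ↥g.ker := (hP.to_subgroup N).to_subgroup _
        obtain ⟨j, hj⟩ := hkp.exists_card_eq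
        have hj0 : j ≠ 0 := by
          rintro rfl
          rw [pow_zero, Subgroup.card_eq_one] at hj
          exact h3 hj
        rw [hj]
        exact dvd_pow_self p hj0
      obtain ⟨m, hm⟩ := h4
      rw [← hrange]
      have h5 : p * (m * Nat.card ↥g.range) ≤ p * p ^ k := by
        rw [← mul_assoc, ← hm, h2, ← pow_succ']
        exact hN
      have h6 := Nat.le_of_mul_le_mul_left h5 hp.pos
      have hm0 : 0 < m := by
        rcases Nat.eq_zero_or_pos m with h | h
        · subst h
          have := Nat.card_pos (α := ↥g.ker)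
          omega
        · exact h
      calc Nat.card ↥g.range ≤ m * Nat.card ↥g.range := Nat.le_mul_of_pos_left _ hm0
        _ ≤ p ^ k := h6
    have h2 := ih hQ (N.map (QuotientGroup.mk' (Subgroup.center P))) hcard
    rw [← Subgroup.comap_upperCentralSeries_quotient_center]
    exact (Subgroup.le_comap_map _ N).trans (Subgroup.comap_mono h2)


/-- Let p be an odd prime and R a finite p-group with an elementary abelian subgroup of order p ^ 3 and an elementary abelian subgroup E of order p ^ 2 contained in no larger elementary abelian subgroup. Let Z₂ be the second centre of R, W the subgroup generated by the elements of Z₂ of order dividing p, and T = C_R(W). Then E is not contained in T; the elements of order dividing p of the centre of R generate a group of order p; W is elementary abelian of order p ^ 2; and T is characteristic in R of index p. -/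
theorem result {R : Type*} [Group R] [Finite R] (p : ℕ) [Fact p.Prime] (hp : p ≠ 2) (hR : IsPGroup p R) (hr : ¬ Cfsg.PRankLE p 2 R)
    (E : Subgroup R) (hE : Cfsg.IsElementaryAbelian p E) (hE2 : Nat.card E = p ^ 2)
    (hEmax : ∀ B : Subgroup R, Cfsg.IsElementaryAbelian p B → E ≤ B → B = E) :
    ¬ E ≤ Subgroup.centralizer ((Subgroup.closure {x : R | x ∈ Subgroup.upperCentralSeries R 2 ∧ x ^ p = 1} : Subgroup R) : Set R) ∧
      Nat.card ↥(Subgroup.closure {x : R | x ∈ Subgroup.center R ∧ x ^ p = 1}) = p ∧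
      (Cfsg.IsElementaryAbelian p (Subgroup.closure {x : R | x ∈ Subgroup.upperCentralSeries R 2 ∧ x ^ p = 1}) ∧
        Nat.card ↥(Subgroup.closure {x : R | x ∈ Subgroup.upperCentralSeries R 2 ∧ x ^ p = 1}) = p ^ 2) ∧
      (Subgroup.centralizer ((Subgroup.closure {x : R | x ∈ Subgroup.upperCentralSeries R 2 ∧ x ^ p = 1} : Subgroup R) : Set R)).Characteristic ∧
      (Subgroup.centralizer ((Subgroup.closure {x : R | x ∈ Subgroup.upperCentralSeries R 2 ∧ x ^ p = 1} : Subgroup R) : Set R)).index = p := by
  have hpp : p.Prime := Fact.out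
  obtain ⟨B0, hB0c, hB0p, hB0card⟩ : ∃ B0 : Subgroup R, IsMulCommutative ↥B0 ∧
      (∀ a ∈ B0, a ^ p = 1) ∧ p ^ 2 < Nat.card ↥B0 := by
    unfold Cfsg.PRankLE at hr
    push Not at hr
    exact hr
  -- absorbing elementary abelian subgroups centralizing `E`
  have hM : ∀ D : Subgroup R, IsMulCommutative ↥D → (∀ a ∈ D, a ^ p = 1) →
      (∀ e ∈ E, ∀ d ∈ D, e * d = d * e) → D ≤ E := by
    intro D hDc hDp hcomm
    have h1 := elemAb_sup E D hE.1 hDc hE.2 hDp hcomm
    have h2 := hEmax (E ⊔ D) ⟨h1.1, h1.2⟩ le_sup_left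
    rw [← h2]
    exact le_sup_right
  obtain ⟨C2, hC2def⟩ : ∃ C2 : Subgroup R, C2 = Subgroup.upperCentralSeries R 2 := ⟨_, rfl⟩
  have hC2 : ∀ x ∈ C2, ∀ g : R, ⁅x, g⁆ ∈ Subgroup.center R := by
    intro x hx g
    rw [hC2def] at hx
    have := (Subgroup.mem_upperCentralSeries_succ_iff (n := 1)).mp hx g
    rwa [Subgroup.upperCentralSeries_one] at this
  have hcenC2 : Subgroup.center R ≤ C2 := by
    rw [hC2def, ← Subgroup.upperCentralSeries_one]
    exact Subgroup.upperCentralSeries_mono R (by norm_num)
  rw [← hC2def]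
  obtain ⟨W, hWdef⟩ : ∃ W : Subgroup R, W = Subgroup.closure {x : R | x ∈ C2 ∧ x ^ p = 1} :=
    ⟨_, rfl⟩
  obtain ⟨Z, hZdef⟩ : ∃ Z : Subgroup R,
      Z = Subgroup.closure {x : R | x ∈ Subgroup.center R ∧ x ^ p = 1} := ⟨_, rfl⟩
  rw [← hWdef, ← hZdef]
  -- elements of `W` lie in the second centre and have order dividing `p`
  have hWmem : ∀ x ∈ W, x ∈ C2 ∧ x ^ p = 1 := by
    intro x hx
    rw [hWdef] at hx
    induction hx using Subgroup.closure_induction with
    | mem y hy => exact hy
    | one => exact ⟨one_mem _, one_pow _⟩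
    | mul a b _ _ iha ihb =>
      refine ⟨mul_mem iha.1 ihb.1, ?_⟩
      have hc : ⁅b, a⁆ ∈ Subgroup.center R := hC2 b ihb.1 a
      have hca := ((Subgroup.mem_center_iff.mp hc) a).symm
      have hcb := ((Subgroup.mem_center_iff.mp hc) b).symm
      rw [Cfsg.Agent.Lib.Helper1.mul_pow_of_commutator_central hca hcb p, iha.2, ihb.2, one_mul, one_mul]
      have h1 : ⁅b, a⁆ ^ p = 1 := by
        rw [← Cfsg.Agent.Lib.Helper1.commutatorElement_pow_left hcb p, ihb.2, commutatorElement_one_left]
      have h2 : p ∣ p.choose 2 := by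
        apply hpp.dvd_choose_self (by norm_num)
        have := hpp.two_le
        omega
      obtain ⟨m, hm⟩ := h2
      rw [hm, pow_mul, h1, one_pow]
    | inv a _ iha =>
      refine ⟨inv_mem iha.1, ?_⟩
      rw [inv_pow, iha.2, inv_one]
  have hZmem : ∀ x ∈ Z, x ∈ Subgroup.center R ∧ x ^ p = 1 := by
    intro x hx
    rw [hZdef] at hx
    induction hx using Subgroup.closure_induction with
    | mem y hy => exact hy
    | one => exact ⟨one_mem _, one_pow _⟩
    | mul a b _ _ iha ihb =>
      refine ⟨mul_mem iha.1 ihb.1, ?_⟩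
      have hcomm : Commute a b := ((Subgroup.mem_center_iff.mp ihb.1) a)
      rw [hcomm.mul_pow, iha.2, ihb.2, one_mul]
    | inv a _ iha =>
      refine ⟨inv_mem iha.1, ?_⟩
      rw [inv_pow, iha.2, inv_one]
  have hZW : Z ≤ W := by
    rw [hZdef, hWdef]
    apply Subgroup.closure_mono
    rintro y ⟨hy1, hy2⟩
    exact ⟨hcenC2 hy1, hy2⟩
  have hZc : IsMulCommutative ↥Z := by
    refine ⟨⟨?_⟩⟩
    rintro ⟨a, ha⟩ ⟨b, hb⟩
    apply Subtype.ext
    exact (Subgroup.mem_center_iff.mp (hZmem b hb).1) a
  have hZE : Z ≤ E := by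
    apply hM Z hZc (fun a ha => (hZmem a ha).2)
    intro e _ d hd
    exact (Subgroup.mem_center_iff.mp (hZmem d hd).1) e
  -- a central element of order `p`
  have hcardR : p ^ 2 < Nat.card R := lt_of_lt_of_le hB0card (Subgroup.card_le_card_group B0)
  have hnt : Nontrivial R := by
    rw [← Finite.one_lt_card_iff_nontrivial]
    have : 1 ≤ p ^ 2 := Nat.one_le_pow _ _ hpp.pos
    omega
  obtain ⟨z, -, hz1, hzp, hzcomm⟩ := exists_central_order_p (p := p) (⊤ : Subgroup R)
    (hR.to_subgroup _) (by
      intro h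
      exact top_ne_bot h)
  have hzcen : z ∈ Subgroup.center R := by
    rw [Subgroup.mem_center_iff]
    intro g
    exact (hzcomm g (Subgroup.mem_top g)).symm
  have hzZ : z ∈ Z := by
    rw [hZdef]
    exact Subgroup.subset_closure ⟨hzcen, hzp⟩
  have hZbot : Z ≠ ⊥ := by
    intro h
    rw [h, Subgroup.mem_bot] at hzZ
    exact hz1 hzZ
  have hZneE : Z ≠ E := by
    intro h
    have h1 : B0 ≤ E := by
      apply hM B0 hB0c hB0p
      intro e he d _
      rw [← h] at he
      exact ((Subgroup.mem_center_iff.mp (hZmem e he).1) d).symm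
    have h2 := Subgroup.card_le_of_le h1
    omega
  have hZcard : Nat.card ↥Z = p := by
    have h1 : Nat.card ↥Z ∣ p ^ 2 := by
      rw [← hE2]
      exact Subgroup.card_dvd_of_le hZE
    obtain ⟨j, hj2, hj⟩ := (Nat.dvd_prime_pow hpp).mp h1
    interval_cases j
    · exfalso
      rw [pow_zero, Subgroup.card_eq_one] at hj
      exact hZbot hj
    · rw [hj, pow_one]
    · exfalso
      apply hZneE
      apply Subgroup.eq_of_le_of_card_ge hZE
      rw [hj, hE2]
  have hZz : ∀ c ∈ Z, c ∈ Subgroup.zpowers z := by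
    have h1 : Subgroup.zpowers z ≤ Z := Subgroup.zpowers_le.mpr hzZ
    have h2 : Subgroup.zpowers z = Z := by
      apply Subgroup.eq_of_le_of_card_ge h1
      rw [hZcard, Nat.card_zpowers, orderOf_eq_prime hzp hz1]
    intro c hc
    rw [h2]
    exact hc
  -- commutators with elements of `W` land in `Z`
  have hWZ : ∀ w ∈ W, ∀ g : R, ⁅w, g⁆ ∈ Z := by
    intro w hw g
    obtain ⟨hw2, hwp⟩ := hWmem w hw
    have hc : ⁅w, g⁆ ∈ Subgroup.center R := hC2 w hw2 g
    have hcw := ((Subgroup.mem_center_iff.mp hc) w).symm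
    have h1 : ⁅w, g⁆ ^ p = 1 := by
      rw [← Cfsg.Agent.Lib.Helper1.commutatorElement_pow_left hcw p, hwp,
        commutatorElement_one_left]
    rw [hZdef]
    exact Subgroup.subset_closure ⟨hc, h1⟩
  -- the normal elementary abelian subgroup of order `p ^ 2`
  obtain ⟨U, hUn, hUe, hUcard, hUidx⟩ := exists_goodEpSq hR hr
  have hUC2 : U ≤ C2 := by
    rw [hC2def]
    exact normal_le_upperCentralSeries 2 hR U (le_of_eq hUcard)
  have hUW : U ≤ W := by
    intro u hu
    rw [hWdef]
    exact Subgroup.subset_closure ⟨hUC2 hu, hUe.2 u hu⟩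
  -- the centralizer of `E` cannot have index at most `p`
  have hK : ¬ Nat.card ↥B0 ≤ p * Nat.card ↥(B0 ⊓ Subgroup.centralizer (E : Set R)) := by
    intro h
    have hDc : IsMulCommutative ↥(B0 ⊓ Subgroup.centralizer (E : Set R)) := by
      refine ⟨⟨?_⟩⟩
      rintro ⟨a, ha⟩ ⟨b, hb⟩
      apply Subtype.ext
      rw [Subgroup.mem_inf] at ha hb
      have h7 : ((⟨a, ha.1⟩ * ⟨b, hb.1⟩ : ↥B0) : R) = ((⟨b, hb.1⟩ * ⟨a, ha.1⟩ : ↥B0) : R) :=
        congrArg Subtype.val (hB0c.is_comm.comm ⟨a, ha.1⟩ ⟨b, hb.1⟩)
      exact h7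
    have hDE : B0 ⊓ Subgroup.centralizer (E : Set R) ≤ E := by
      apply hM _ hDc
      · intro a ha
        rw [Subgroup.mem_inf] at ha
        exact hB0p a ha.1
      · intro e he d hd
        rw [Subgroup.mem_inf] at hd
        exact (Subgroup.mem_centralizer_iff.mp hd.2) e he
    have h1 : p < Nat.card ↥(B0 ⊓ Subgroup.centralizer (E : Set R)) := by
      have h2 : p * p < p * Nat.card ↥(B0 ⊓ Subgroup.centralizer (E : Set R)) := by
        rw [← sq]
        omega
      exact lt_of_mul_lt_mul_left h2 (Nat.zero_le _)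
    have h3 := sq_le_card_of_lt_card (hR.to_subgroup _) h1
    have h4 : B0 ⊓ Subgroup.centralizer (E : Set R) = E := by
      apply Subgroup.eq_of_le_of_card_ge hDE
      rw [hE2]
      exact h3
    have h5 : E ≤ B0 := by
      rw [← h4]
      exact inf_le_left
    have h6 := hEmax B0 ⟨hB0c, hB0p⟩ h5
    rw [h6, hE2] at hB0card
    exact lt_irrefl _ hB0card
  have hEU : ¬ E ≤ Subgroup.centralizer (U : Set R) := by
    intro h
    have h1 : U ≤ E := by
      apply hM U hUe.1 hUe.2
      intro e he d hd
      exact ((Subgroup.mem_centralizer_iff.mp (h he)) d hd).symm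
    have h2 : U = E := by
      apply Subgroup.eq_of_le_of_card_ge h1
      rw [hE2, hUcard]
    apply hK
    have h3 := hUidx B0
    rwa [h2] at h3
  obtain ⟨x, hxE, hxU⟩ := SetLike.not_le_iff_exists.mp hEU
  have hxcen : x ∉ Subgroup.center R := by
    intro h
    apply hxU
    rw [Subgroup.mem_centralizer_iff]
    intro u _
    exact (Subgroup.mem_center_iff.mp h) u
  have hxZ : x ∉ Z := fun h => hxcen (hZmem x h).1
  -- `E` is generated by `x` and `Z`
  have hEgen : Subgroup.zpowers x ⊔ Z = E := by
    have h1 : Subgroup.zpowers x ⊔ Z ≤ E := sup_le (Subgroup.zpowers_le.mpr hxE) hZE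
    have h2 : Z < Subgroup.zpowers x ⊔ Z := by
      refine lt_of_le_of_ne le_sup_right ?_
      intro h
      apply hxZ
      rw [h]
      exact le_sup_left (a := Subgroup.zpowers x) (Subgroup.mem_zpowers x)
    have h3 : p < Nat.card ↥(Subgroup.zpowers x ⊔ Z) := by
      rw [← hZcard]
      exact Cfsg.Agent.Lib.Helper1.card_lt_of_lt h2
    have h4 := sq_le_card_of_lt_card (hR.to_subgroup _) h3
    apply Subgroup.eq_of_le_of_card_ge h1
    rw [hE2]
    exact h4
  have hcentE : ∀ g : R, g * x = x * g → ∀ e ∈ E, e * g = g * e := by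
    intro g hg
    have h1 : E ≤ Subgroup.centralizer ({g} : Set R) := by
      rw [← hEgen]
      apply sup_le
      · rw [Subgroup.zpowers_le, Subgroup.mem_centralizer_iff]
        intro y hy
        rw [Set.mem_singleton_iff] at hy
        subst hy
        exact hg
      · intro c hc
        rw [Subgroup.mem_centralizer_iff]
        intro y _
        exact (Subgroup.mem_center_iff.mp (hZmem c hc).1) y
    intro e he
    have := (Subgroup.mem_centralizer_iff.mp (h1 he)) g rfl
    exact this.symm
  -- elements of `W` commuting with `x` lie in `E`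
  have hCWx : W ⊓ Subgroup.centralizer ({x} : Set R) ≤ E := by
    intro w hw
    rw [Subgroup.mem_inf] at hw
    have hwx : w * x = x * w := ((Subgroup.mem_centralizer_iff.mp hw.2) x rfl).symm
    have h1 := elemAb_zpowers (p := p) w (hWmem w hw.1).2
    have h2 : Subgroup.zpowers w ≤ E := by
      apply hM _ h1.1 h1.2
      intro e he d hd
      have h3 : Subgroup.zpowers w ≤ Subgroup.centralizer ({e} : Set R) := by
        rw [Subgroup.zpowers_le, Subgroup.mem_centralizer_iff]
        intro y hy
        rw [Set.mem_singleton_iff] at hy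
        subst hy
        exact hcentE w hwx y he
      exact (Subgroup.mem_centralizer_iff.mp (h3 hd)) e rfl
    exact h2 (Subgroup.mem_zpowers w)
  -- the kernel lemma for elements whose commutators lie in `Z`
  have hker : ∀ (y : R) (Y : Subgroup R), (∀ g ∈ Y, ⁅g, y⁆ ∈ Z) →
      Nat.card ↥Y ≤ p * Nat.card ↥(Y ⊓ Subgroup.centralizer ({y} : Set R)) := by
    intro y Y hy
    apply card_le_mul_card_inf_centralizer z y hzcen hzp Y
    intro g hg
    have := hZz _ (hy g hg)
    rwa [commutatorElement_def] at this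
  have hxW : x ∉ W := by
    intro hxW
    apply hK
    have h1 := hker x B0 (fun g _ => by
      have := hWZ x hxW g
      rw [← commutatorElement_inv]
      exact inv_mem this)
    refine le_trans h1 (Nat.mul_le_mul_left _ ?_)
    apply Subgroup.card_le_of_le
    apply inf_le_inf_left
    intro g hg
    rw [Subgroup.mem_centralizer_iff]
    intro e he
    have hgx : g * x = x * g := ((Subgroup.mem_centralizer_iff.mp hg) x rfl).symm
    exact hcentE g hgx e he
  have hD'card : Nat.card ↥(W ⊓ Subgroup.centralizer ({x} : Set R)) ≤ p := by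
    have h1 : Nat.card ↥(W ⊓ Subgroup.centralizer ({x} : Set R)) ∣ p ^ 2 := by
      rw [← hE2]
      exact Subgroup.card_dvd_of_le hCWx
    obtain ⟨j, hj2, hj⟩ := (Nat.dvd_prime_pow hpp).mp h1
    have hj1 : j ≠ 2 := by
      rintro rfl
      have h2 : W ⊓ Subgroup.centralizer ({x} : Set R) = E := by
        apply Subgroup.eq_of_le_of_card_ge hCWx
        rw [hj, hE2]
      apply hxW
      have h3 : x ∈ W ⊓ Subgroup.centralizer ({x} : Set R) := by
        rw [h2]
        exact hxE
      exact (Subgroup.mem_inf.mp h3).1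
    rw [hj]
    calc p ^ j ≤ p ^ 1 := Nat.pow_le_pow_right hpp.pos (by omega)
      _ = p := pow_one p
  have hWcard : Nat.card ↥W ≤ p ^ 2 := by
    have h1 := hker x W (fun g hg => hWZ g hg x)
    calc Nat.card ↥W ≤ p * Nat.card ↥(W ⊓ Subgroup.centralizer ({x} : Set R)) := h1
      _ ≤ p * p := Nat.mul_le_mul_left _ hD'card
      _ = p ^ 2 := (sq p).symm
  have hWU : U = W := by
    apply Subgroup.eq_of_le_of_card_ge hUW
    rw [hUcard]
    exact hWcard
  rw [← hWU]
  refine ⟨hEU, hZcard, ⟨hUe, hUcard⟩, ?_, ?_⟩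
  · have hWchar : W.Characteristic := by
      rw [Subgroup.characteristic_iff_map_le]
      intro φ
      rw [hWdef, MonoidHom.map_closure]
      apply Subgroup.closure_mono
      rintro _ ⟨y, ⟨hy1, hy2⟩, rfl⟩
      refine ⟨?_, ?_⟩
      · have hchar : C2.Characteristic := by
          rw [hC2def]
          infer_instance
        have := (Subgroup.characteristic_iff_map_le.mp hchar) φ
        exact this (Subgroup.mem_map_of_mem _ hy1)
      · show (φ y) ^ p = 1
        rw [← map_pow, hy2, map_one]
    rw [hWU]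
    infer_instance
  · have h1 := hUidx ⊤
    have h2 : Nat.card ↥((⊤ : Subgroup R) ⊓ Subgroup.centralizer (U : Set R)) =
        Nat.card ↥(Subgroup.centralizer (U : Set R)) := by
      rw [top_inf_eq]
    rw [h2, Subgroup.card_top] at h1
    have h3 := Subgroup.card_mul_index (Subgroup.centralizer (U : Set R))
    have hpos : 0 < Nat.card ↥(Subgroup.centralizer (U : Set R)) := Nat.card_pos
    have h4 : (Subgroup.centralizer (U : Set R)).index ≤ p := by
      rw [← h3, mul_comm p] at h1
      exact Nat.le_of_mul_le_mul_left h1 hpos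
    have h5 : (Subgroup.centralizer (U : Set R)).index ≠ 1 := by
      intro h
      rw [Subgroup.index_eq_one] at h
      apply hxU
      rw [h]
      exact Subgroup.mem_top x
    obtain ⟨n, hn⟩ := hR.exists_card_eq
    have h6 : (Subgroup.centralizer (U : Set R)).index ∣ p ^ n := by
      rw [← hn]
      exact Subgroup.index_dvd_card _
    obtain ⟨j, -, hj⟩ := (Nat.dvd_prime_pow hpp).mp h6
    rw [hj] at h4 h5 ⊢
    have hj1 : j ≠ 0 := by
      rintro rfl
      exact h5 (pow_zero p)
    have hj2 : j < 2 := by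
      by_contra hcon
      push Not at hcon
      have h7 : p ^ 2 ≤ p ^ j := Nat.pow_le_pow_right hpp.pos hcon
      have h8 : p < p ^ 2 := by
        have := hpp.one_lt
        nlinarith
      omega
    have hj3 : j = 1 := by omega
    rw [hj3, pow_one]

end Cfsg.Agent.S1453
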