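import Cfsg.Statements.S1452
import Cfsg.Agent.Lib.Helper10.NormalEpSq
import Cfsg.Agent.Lib.Helper10.NormalEpCube
import Cfsg.Agent.S1453

set_option autoImplicit false
open Cfsg

namespace Cfsg.Agent.S1452

open Cfsg.Agent.Lib.Helper10
open scoped commutatorElement

/-- Let p be an odd prime and R a finite p-group containing an elementary abelian subgroup of order p ^ 3. If E is a normal elementary abelian subgroup of R of order p ^ 2, then E ≤ A for some normal subgroup A of R with C_R(A) = A that contains an elementary abelian subgroup of order p ^ 3. -/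
theorem result {R : Type*} [Group R] [Finite R] (p : ℕ) [Fact p.Prime] (hp : p ≠ 2) (hR : IsPGroup p R) (hr : ¬ Cfsg.PRankLE p 2 R)
    (E : Subgroup R) [E.Normal] (hE : Cfsg.IsElementaryAbelian p E) (hE2 : Nat.card E = p ^ 2) :
    ∃ A : Subgroup R, E ≤ A ∧ A.Normal ∧ Subgroup.centralizer (A : Set R) = A ∧ ¬ Cfsg.PRankLE p 2 A := by
  have hpp : p.Prime := Fact.out
  have hEn : E.Normal := inferInstance
  obtain ⟨B0, hB0c, hB0p, hB0card⟩ : ∃ B0 : Subgroup R, IsMulCommutative ↥B0 ∧
      (∀ a ∈ B0, a ^ p = 1) ∧ p ^ 2 < Nat.card ↥B0 := by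
    unfold Cfsg.PRankLE at hr
    push Not at hr
    exact hr
  have hp2 : p < p ^ 2 := by
    have := hpp.one_lt
    nlinarith
  -- the centralizer of `E` has index at most `p`
  have hidx : ∀ Y : Subgroup R,
      Nat.card ↥Y ≤ p * Nat.card ↥(Y ⊓ Subgroup.centralizer (E : Set R)) := by
    have hEne : E ≠ ⊥ := by
      intro h
      rw [h, Subgroup.card_bot] at hE2
      have := hpp.one_lt
      omega
    have hN := normal_inf_center_ne_bot hR E hEne
    obtain ⟨⟨z, hz⟩, hz1⟩ := (Subgroup.ne_bot_iff_exists_ne_one).mp hN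
    have hz1' : z ≠ 1 := fun h => hz1 (Subtype.ext h)
    rw [Subgroup.mem_inf] at hz
    have hzp : z ^ p = 1 := hE.2 z hz.1
    have hzcard : Nat.card ↥(Subgroup.zpowers z) = p := by
      rw [Nat.card_zpowers, orderOf_eq_prime hzp hz1']
    have hzE : Subgroup.zpowers z ≤ E := Subgroup.zpowers_le.mpr hz.1
    obtain ⟨y, hyE, hyz⟩ : ∃ y ∈ E, y ∉ Subgroup.zpowers z := by
      by_contra hcon
      push Not at hcon
      have h1 : E ≤ Subgroup.zpowers z := fun e he => hcon e he
      have h2 := Subgroup.card_le_of_le h1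
      omega
    have hEC2 : E ≤ Subgroup.upperCentralSeries R 2 :=
      Cfsg.Agent.S1453.normal_le_upperCentralSeries 2 hR E (le_of_eq hE2)
    have hcomm : ∀ g : R, g * y * g⁻¹ * y⁻¹ ∈ Subgroup.zpowers z := by
      intro g
      by_cases hyc : y ∈ Subgroup.center R
      · have h1 : g * y = y * g := (Subgroup.mem_center_iff.mp hyc) g
        rw [h1, mul_inv_cancel_right, mul_inv_cancel]
        exact one_mem _
      · have h1 : g * y * g⁻¹ * y⁻¹ ∈ E := mul_mem (hEn.conj_mem y hyE g) (inv_mem hyE)
        have h2 : g * y * g⁻¹ * y⁻¹ ∈ Subgroup.center R := by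
          have h3 := (Subgroup.mem_upperCentralSeries_succ_iff (n := 1)).mp (hEC2 hyE) g
          rw [Subgroup.upperCentralSeries_one] at h3
          have h4 : g * y * g⁻¹ * y⁻¹ = (⁅y, g⁆)⁻¹ := by
            simp only [commutatorElement_def]
            group
          rw [h4]
          exact inv_mem h3
        have h5 : Subgroup.zpowers z ≤ E ⊓ Subgroup.center R :=
          Subgroup.zpowers_le.mpr (Subgroup.mem_inf.mpr hz)
        have h6 : Nat.card ↥(E ⊓ Subgroup.center R) ≤ p := by
          have h7 : Nat.card ↥(E ⊓ Subgroup.center R) ∣ p ^ 2 := by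
            rw [← hE2]
            exact Subgroup.card_dvd_of_le inf_le_left
          obtain ⟨j, hj2, hj⟩ := (Nat.dvd_prime_pow hpp).mp h7
          have hj1 : j ≠ 2 := by
            rintro rfl
            have h8 : E ⊓ Subgroup.center R = E := by
              apply Subgroup.eq_of_le_of_card_ge inf_le_left
              rw [hj, hE2]
            apply hyc
            have h9 : y ∈ E ⊓ Subgroup.center R := by
              rw [h8]
              exact hyE
            exact (Subgroup.mem_inf.mp h9).2
          rw [hj]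
          calc p ^ j ≤ p ^ 1 := Nat.pow_le_pow_right hpp.pos (by omega)
            _ = p := pow_one p
        have h10 : Subgroup.zpowers z = E ⊓ Subgroup.center R := by
          apply Subgroup.eq_of_le_of_card_ge h5
          rw [hzcard]
          exact h6
        rw [h10]
        exact Subgroup.mem_inf.mpr ⟨h1, h2⟩
    obtain ⟨-, -, hUcard, hUidx⟩ := goodEpSq_of_central_mod hR z y hz.2 hzp hz1' (hE.2 y hyE) hyz hcomm
    have hUE : Subgroup.zpowers z ⊔ Subgroup.zpowers y = E := by
      apply Subgroup.eq_of_le_of_card_ge (sup_le hzE (Subgroup.zpowers_le.mpr hyE))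
      rw [hUcard, hE2]
    rw [hUE] at hUidx
    exact hUidx
  -- an element of order `p` of the centralizer of `E` outside `E`
  have hx : ∃ x ∈ Subgroup.centralizer (E : Set R), x ∉ E ∧ x ^ p = 1 := by
    by_contra hcon
    push Not at hcon
    have h1 : B0 ⊓ Subgroup.centralizer (E : Set R) ≤ E := by
      intro b hb
      rw [Subgroup.mem_inf] at hb
      by_contra hbE
      exact hcon b hb.2 hbE (hB0p b hb.1)
    have h2 := hidx B0
    have h3 : p < Nat.card ↥(B0 ⊓ Subgroup.centralizer (E : Set R)) := by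
      have h4 : p * p < p * Nat.card ↥(B0 ⊓ Subgroup.centralizer (E : Set R)) := by
        rw [← sq]
        omega
      exact lt_of_mul_lt_mul_left h4 (Nat.zero_le _)
    have h5 := sq_le_card_of_lt_card (hR.to_subgroup _) h3
    have h6 : B0 ⊓ Subgroup.centralizer (E : Set R) = E := by
      apply Subgroup.eq_of_le_of_card_ge h1
      rw [hE2]
      exact h5
    have h7 : E ≤ B0 := by
      rw [← h6]
      exact inf_le_left
    have h8 : B0 ≤ Subgroup.centralizer (E : Set R) := by
      intro b hb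
      rw [Subgroup.mem_centralizer_iff]
      intro e he
      have h9 : ((⟨e, h7 he⟩ * ⟨b, hb⟩ : ↥B0) : R) = ((⟨b, hb⟩ * ⟨e, h7 he⟩ : ↥B0) : R) :=
        congrArg Subtype.val (hB0c.is_comm.comm ⟨e, h7 he⟩ ⟨b, hb⟩)
      exact h9
    have h10 : B0 ⊓ Subgroup.centralizer (E : Set R) = B0 := inf_eq_left.mpr h8
    rw [h10] at h6
    rw [h6, hE2] at hB0card
    exact lt_irrefl _ hB0card
  obtain ⟨F, hFn, hFe, hEF⟩ := exists_normal_elemAb_gt hp hR E hE hx
  obtain ⟨A, hFA, hAn, hAc, hAmax⟩ := exists_maximal_normal_abelian_ge F hFn hFe.1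
  refine ⟨A, hEF.le.trans hFA, hAn, ?_, ?_⟩
  · apply le_antisymm (centralizer_le_of_maximal_normal_abelian hR A hAc hAmax)
    intro a ha
    rw [Subgroup.mem_centralizer_iff]
    intro b hb
    have h9 : ((⟨b, hb⟩ * ⟨a, ha⟩ : ↥A) : R) = ((⟨a, ha⟩ * ⟨b, hb⟩ : ↥A) : R) :=
      congrArg Subtype.val (hAc.is_comm.comm ⟨b, hb⟩ ⟨a, ha⟩)
    exact h9
  · intro hrank
    have h1 := hrank (F.subgroupOf A) (by
      refine ⟨⟨?_⟩⟩
      rintro ⟨a, ha⟩ ⟨b, hb⟩
      apply Subtype.ext
      exact hAc.is_comm.comm a b) (by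
      intro a ha
      rw [Subgroup.mem_subgroupOf] at ha
      apply Subtype.ext
      exact hFe.2 _ ha)
    have h2 : Nat.card ↥(F.subgroupOf A) = Nat.card ↥F :=
      Nat.card_congr (Subgroup.subgroupOfEquivOfLe hFA).toEquiv
    have h3 := Cfsg.Agent.Lib.Helper1.card_lt_of_lt hEF
    omega

end Cfsg.Agent.S1452
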