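import Cfsg.Statements.S1457
import Cfsg.Agent.Lib.Helper10.PStableNormal
import Cfsg.Agent.Lib.Helper10.PComponent

set_option autoImplicit false
open Cfsg

namespace Cfsg.Agent.S1457

/-- Let G be a solvable group of odd order, p a prime, S a Sylow p-subgroup of G and A an abelian subgroup of S normal in S. Then A ≤ O_{p',p}(G). -/
theorem result {G : Type*} [Group G] [Finite G] [Group.IsSolvable G] (hodd : Odd (Nat.card G)) (p : ℕ) [Fact p.Prime] (S : Sylow p G) (A : Subgroup G) (hA : A ≤ (S : Subgroup G)) (hAc : IsMulCommutative A)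
    (hAn : (S : Subgroup G) ≤ Subgroup.normalizer (A : Set G)) :
    A ≤ Cfsg.pPrimePCore p G := by
  have hpp : p.Prime := Fact.out
  by_cases hp2 : p = 2
  · -- the Sylow 2-subgroup of a group of odd order is trivial
    subst hp2
    have h1 : Nat.card (S : Subgroup G) = 1 := by
      obtain ⟨k, hk⟩ := S.2.exists_card_eq
      have hodd' : Odd (Nat.card (S : Subgroup G)) :=
        Odd.of_dvd_nat hodd (Subgroup.card_subgroup_dvd_card _)
      rw [hk] at hodd' ⊢
      rcases Nat.eq_zero_or_pos k with h0 | h0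
      · rw [h0, pow_zero]
      · exfalso
        have : Even (2 ^ k) := (Nat.even_pow.mpr ⟨even_two, h0.ne'⟩)
        exact (Nat.not_even_iff_odd.mpr hodd') this
    have h2 : (S : Subgroup G) = ⊥ := Subgroup.card_eq_one.mp h1
    rw [h2] at hA
    exact hA.trans bot_le
  · set π := QuotientGroup.mk' (Cfsg.pPrimeCore p G) with hπ
    have hπs : Function.Surjective π := QuotientGroup.mk'_surjective _
    have hodd' : Odd (Nat.card (G ⧸ Cfsg.pPrimeCore p G)) :=
      Odd.of_dvd_nat hodd (Subgroup.card_quotient_dvd_card _)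
    have hbot := Cfsg.Agent.Lib.Helper10.pPrimeCore_quotient_eq_bot (G := G) p
    have hRn : (Cfsg.pCore p (G ⧸ Cfsg.pPrimeCore p G)).Normal :=
      Cfsg.Agent.Lib.Helper1.pCore_normal p
    have hRp : IsPGroup p (Cfsg.pCore p (G ⧸ Cfsg.pPrimeCore p G)) :=
      Cfsg.Agent.Lib.Helper1.pCore_isPGroup p
    have hRS : Cfsg.pCore p (G ⧸ Cfsg.pPrimeCore p G) ≤ (S : Subgroup G).map π := by
      have := Cfsg.Agent.Lib.Helper1.pCore_le_sylow (S.mapSurjective hπs)
      rwa [Sylow.coe_mapSurjective] at this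
    have hSN : (S : Subgroup G).map π ≤ Subgroup.normalizer ((A.map π : Subgroup _) : Set _) := by
      refine (Subgroup.map_mono hAn).trans ?_
      exact Subgroup.le_normalizer_map π
    have hAc' : IsMulCommutative (A.map π) := by
      refine ⟨⟨?_⟩⟩
      rintro ⟨_, x, hx, rfl⟩ ⟨_, y, hy, rfl⟩
      apply Subtype.ext
      show π x * π y = π y * π x
      rw [← map_mul, ← map_mul]
      exact congrArg π (congrArg Subtype.val (hAc.is_comm.comm ⟨x, hx⟩ ⟨y, hy⟩))
    have key := Cfsg.Agent.Lib.Helper10.abelian_family_le_pCore' hodd' hp2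
      (Cfsg.pCore p (G ⧸ Cfsg.pPrimeCore p G)) hRp {A.map π}
      (by
        intro B hB
        rw [Set.mem_singleton_iff] at hB
        subst hB
        exact ⟨hAc', hRS.trans hSN⟩) hbot inf_le_left
    rw [sSup_singleton] at key
    intro a ha
    show a ∈ (Cfsg.pCore p (G ⧸ Cfsg.pPrimeCore p G)).comap (QuotientGroup.mk' (Cfsg.pPrimeCore p G))
    rw [Subgroup.mem_comap]
    exact key ⟨a, ha, rfl⟩

end Cfsg.Agent.S1457
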