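import Cfsg.Statements.S1324
import Cfsg.Agent.Lib.Helper12.Generation
import Cfsg.Agent.Lib.Helper1.Cores

set_option autoImplicit false
open Cfsg

namespace Cfsg.Agent.S1324

open Cfsg.Agent.Lib.Helper12

/-- a cohyperplane has relative index at most `p` -/
theorem relIndex_le_of_isCohyper {H : Type*} [Group H] [Finite H] (p : ℕ) [Fact p.Prime]
    {A D : Subgroup H} (hA : Cfsg.IsElementaryAbelian p A) (hD : IsCohyper A D) :
    D ≤ A ∧ D.relIndex A ≤ p := by
  have hp : p.Prime := Fact.out
  refine ⟨hD.1, ?_⟩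
  have h1 := card_le_of_isCohyper (isElementaryAbelian_comm hA) hA.2 hp.pos hD
  have h2 := Cfsg.Agent.Lib.Helper1.card_mul_relIndex_of_le hD.1
  rw [← h2, mul_comm p] at h1
  exact Nat.le_of_mul_le_mul_left h1 Nat.card_pos

/-- If H is a p'-group and A an elementary abelian p-group of rank at least 2 acting on it, then H is generated by the fixed-point subgroups C_H(B), B ranging over the subgroups of A of index at most p. -/
theorem result {H : Type*} [Group H] [Finite H] (p : ℕ) [Fact p.Prime] (A X : Subgroup H) (hA : Cfsg.IsElementaryAbelian p A) (hA2 : p ^ 2 ≤ Nat.card ↥A) (hX : ¬ p ∣ Nat.card ↥X) (hAX : A ≤ Subgroup.normalizer (X : Set H)) : X = ⨆ B : {B : Subgroup H // B ≤ A ∧ B.relIndex A ≤ p}, X ⊓ Subgroup.centralizer ((B : Subgroup H) : Set H) := by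
  apply le_antisymm
  · refine (le_iSup_cohyper_of_isElementaryAbelian hA hAX hX).trans ?_
    apply iSup_le
    rintro ⟨D, hD⟩
    exact le_iSup (fun B : {B : Subgroup H // B ≤ A ∧ B.relIndex A ≤ p} =>
      X ⊓ Subgroup.centralizer ((B : Subgroup H) : Set H)) ⟨D, relIndex_le_of_isCohyper p hA hD⟩
  · apply iSup_le
    intro B
    exact inf_le_left

end Cfsg.Agent.S1324
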