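import Cfsg.Statements.S1398
import Cfsg.Agent.Lib.Helper10.BGNine
import Cfsg.Agent.S1324

set_option autoImplicit false
open Cfsg

namespace Cfsg.Agent.S1398

open Cfsg.Agent.Lib.Helper10.BG

theorem sq_le_card_of_not_isCyclic {G : Type*} [Group G] [Finite G] {p : ℕ} [Fact p.Prime]
    {B : Subgroup G} (hBp : IsPGroup p B) (hBnc : ¬ IsCyclic B) : p ^ 2 ≤ Nat.card B := by
  have hp : p.Prime := Fact.out
  obtain ⟨k, hk⟩ := hBp.exists_card_eq
  rw [hk]
  apply Nat.pow_le_pow_right hp.pos
  by_contra hlt
  push Not at hlt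
  apply hBnc
  interval_cases k
  · rw [pow_zero] at hk
    have : Subsingleton B := (Nat.card_eq_one_iff_unique.mp hk).1
    exact isCyclic_of_subsingleton
  · rw [pow_one] at hk
    exact isCyclic_of_prime_card hk

/-- Let G be a minimal simple group of odd order, M a maximal subgroup, p a prime, and B a noncyclic elementary abelian p-subgroup of M. If C_G(b) ≤ M for every non-identity b ∈ B, or if every subgroup of G of order coprime to p normalized by B is contained in M, then M is the only maximal subgroup of G containing B. -/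
theorem result {G : Type*} [Group G] [Finite G] (hG : Cfsg.IsMinSimpleOddOrder G)
    (M : Subgroup G) (hM : IsCoatom M) (p : ℕ) [Fact p.Prime] (B : Subgroup G) (hBM : B ≤ M)
    (hBe : Cfsg.IsElementaryAbelian p B) (hBnc : ¬ IsCyclic B)
    (h : (∀ b ∈ B, b ≠ 1 → Subgroup.centralizer ({b} : Set G) ≤ M) ∨
      ∀ Y ∈ Cfsg.invSubgroups ⊤ B (Cfsg.primesNotDvd p), Y ≤ M) :
    Cfsg.InUniqueMaximal B := by
  have hp : p.Prime := Fact.out
  have hBp : IsPGroup p B := Cfsg.Agent.Lib.Lead.BGTrans.isPGroup_of_pow_eq_one hBe.2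
  have hB2 : p ^ 2 ≤ Nat.card B := sq_le_card_of_not_isCyclic hBp hBnc
  have hB1 : B ≠ ⊥ := by
    intro hbot
    rw [hbot, Subgroup.card_bot] at hB2
    have : 1 < p ^ 2 := Nat.one_lt_pow (by norm_num) hp.one_lt
    omega
  have hinv : ∀ Y : Subgroup G, (Nat.card Y).Coprime p →
      B ≤ Subgroup.normalizer (Y : Set G) → Y ≤ M := by
    intro Y hY hBY
    have hpY : ¬ p ∣ Nat.card Y := by
      intro hd
      exact hp.one_lt.ne' (Nat.eq_one_of_dvd_coprimes hY hd (dvd_refl p))
    rcases h with h | h
    · have key := Cfsg.Agent.S1324.result p B Y hBe hB2 hpY hBY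
      rw [key]
      apply iSup_le
      rintro ⟨B', hB'B, hB'i⟩
      have hcard : Nat.card B' * B'.relIndex B = Nat.card B :=
        Cfsg.Agent.Lib.Helper1.card_mul_relIndex_of_le hB'B
      have hB'1 : B' ≠ ⊥ := by
        intro hbot
        rw [hbot] at hB'i
        rw [hbot, Subgroup.card_bot, one_mul] at hcard
        have : p < p ^ 2 := by
          have := hp.one_lt
          nlinarith
        omega
      obtain ⟨⟨b, hb⟩, hb1'⟩ := Subgroup.ne_bot_iff_exists_ne_one.mp hB'1
      have hb1 : b ≠ 1 := fun h1 => hb1' (Subtype.ext h1)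
      refine le_trans ?_ (h b (hB'B hb) hb1)
      refine inf_le_right.trans ?_
      apply Subgroup.centralizer_le
      intro x hx
      rw [Set.mem_singleton_iff] at hx
      rw [hx]
      exact hb
    · apply h
      refine ⟨le_top, ?_, hBY⟩
      intro r hr hrY
      refine ⟨hr, ?_⟩
      intro hrp
      have hrp' : r = p := (Nat.prime_dvd_prime_iff_eq hr hp).mp hrp
      rw [hrp'] at hrY
      exact hpY hrY
  apply inUniqueMaximal_of hM hBM
  intro L hL hBL
  exact eq_of_isCoatom_of_invariant_le hG hM hB1 hBp hBM hinv hL hBL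

end Cfsg.Agent.S1398
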