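import Cfsg.Statements.S1399
import Cfsg.Agent.Lib.Helper10.BGNine
import Cfsg.Agent.S1398

set_option autoImplicit false
open Cfsg

namespace Cfsg.Agent.S1399

open Cfsg.Agent.Lib.Helper10.BG

/-- Let G be a minimal simple group of odd order, L a subgroup contained in exactly one maximal subgroup of G, and K a subgroup of C_G(L) having, for some prime p, an elementary abelian subgroup of order p ^ 2. Then K is contained in exactly one maximal subgroup of G. -/
theorem result {G : Type*} [Group G] [Finite G] (hG : Cfsg.IsMinSimpleOddOrder G)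
    (L K : Subgroup G) (hL : Cfsg.InUniqueMaximal L) (hK : K ≤ Subgroup.centralizer (L : Set G)) (hKr : ¬ Cfsg.RankLE 1 K) :
    Cfsg.InUniqueMaximal K := by
  obtain ⟨M, hM, hLM, huniq⟩ := inUniqueMaximal_exists hL
  unfold Cfsg.RankLE Cfsg.PRankLE at hKr
  push Not at hKr
  obtain ⟨p, hp, V, hVc, hVp, hVcard⟩ := hKr
  have : Fact p.Prime := ⟨hp⟩
  rw [pow_one] at hVcard
  have hVe : Cfsg.IsElementaryAbelian p V := ⟨hVc, hVp⟩
  obtain ⟨B, hB⟩ : ∃ B : Subgroup G, B = V.map K.subtype := ⟨_, rfl⟩
  have hBe : Cfsg.IsElementaryAbelian p B := by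
    rw [hB]
    exact isElementaryAbelian_map _ hVe
  have hBK : B ≤ K := by
    rw [hB]
    exact Subgroup.map_subtype_le V
  have hBcard : p < Nat.card B := by
    rw [hB, Subgroup.card_map_of_injective K.subtype_injective]
    exact hVcard
  have hBnc : ¬ IsCyclic B := by
    intro hcyc
    obtain ⟨g, hg⟩ := hcyc.exists_generator
    have h1 : Nat.card B = orderOf g := by
      rw [← Nat.card_zpowers g]
      have : Subgroup.zpowers g = ⊤ := by
        rw [eq_top_iff]
        intro x _
        exact hg x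
      rw [this, Subgroup.card_top]
    have h2 : g ^ p = 1 := by
      apply Subtype.ext
      rw [Subgroup.coe_pow, Subgroup.coe_one]
      exact hBe.2 g g.2
    have h3 : orderOf g ≤ p := orderOf_le_of_pow_eq_one hp.pos h2
    omega
  have hB1 : B ≠ ⊥ := by
    intro hbot
    rw [hbot, Subgroup.card_bot] at hBcard
    have := hp.one_lt
    omega
  have hcent : ∀ b ∈ B, b ≠ 1 → Subgroup.centralizer ({b} : Set G) ≤ M := by
    intro b hb hb1
    apply le_of_unique_isCoatom huniq _
      (Cfsg.Agent.Lib.Lead.BGTrans.centralizer_singleton_ne_top hG.2 hb1)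
    intro l hl
    rw [Subgroup.mem_centralizer_iff]
    intro x hx
    rw [Set.mem_singleton_iff] at hx
    rw [hx]
    exact (Subgroup.mem_centralizer_iff.mp (hK (hBK hb)) l hl).symm
  have hBM : B ≤ M := by
    obtain ⟨⟨b, hb⟩, hb1'⟩ := Subgroup.ne_bot_iff_exists_ne_one.mp hB1
    have hb1 : b ≠ 1 := fun h1 => hb1' (Subtype.ext h1)
    refine le_trans ?_ (hcent b hb hb1)
    intro x hx
    rw [Subgroup.mem_centralizer_iff]
    intro y hy
    rw [Set.mem_singleton_iff] at hy
    rw [hy]
    have := hBe.1.is_comm.comm ⟨b, hb⟩ ⟨x, hx⟩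
    exact congrArg Subtype.val this
  have hBU : Cfsg.InUniqueMaximal B :=
    Cfsg.Agent.S1398.result hG M hM p B hBM hBe hBnc (Or.inl hcent)
  apply inUniqueMaximal_mono hBU hBK
  -- `K` is a proper subgroup
  intro hKtop
  have hLbot : L = ⊥ := by
    rw [eq_bot_iff, ← Cfsg.Agent.Lib.Lead.BGTrans.center_eq_bot hG.2]
    intro l hl
    rw [Subgroup.mem_center_iff]
    intro g
    have hg : g ∈ Subgroup.centralizer (L : Set G) := hK (by rw [hKtop]; exact Subgroup.mem_top g)
    exact (Subgroup.mem_centralizer_iff.mp hg l hl).symm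
  apply hM.1
  rw [eq_top_iff]
  intro g _
  by_cases hz : Subgroup.zpowers g = ⊤
  · exfalso
    apply hBnc
    have hcyc : IsCyclic G := by
      rw [isCyclic_iff_exists_zpowers_eq_top]
      exact ⟨g, hz⟩
    infer_instance
  · obtain ⟨L', hL', hgL'⟩ := exists_isCoatom_ge hz
    have : L' = M := huniq L' hL' (by rw [hLbot]; exact bot_le)
    rw [← this]
    exact hgL' (Subgroup.mem_zpowers g)

end Cfsg.Agent.S1399
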