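import Cfsg.Statements.S1400
import Cfsg.Agent.Lib.Helper10.BGNine2
import Cfsg.Agent.S1399

set_option autoImplicit false
open Cfsg

namespace Cfsg.Agent.S1400

open Cfsg.Agent.Lib.Helper10.BG Cfsg.Agent.Lib.Helper10

/-- unpack a failure of the rank bound as a subgroup of the ambient group. -/
theorem exists_elementary_of_not_pRankLE {G : Type*} [Group G] {p k : ℕ} {X : Subgroup G}
    (h : ¬ PRankLE p k ↥X) :
    ∃ V : Subgroup G, V ≤ X ∧ IsElementaryAbelian p V ∧ p ^ k < Nat.card V := by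
  unfold PRankLE at h
  push Not at h
  obtain ⟨V, hVc, hVp, hVcard⟩ := h
  refine ⟨V.map X.subtype, Subgroup.map_subtype_le V, isElementaryAbelian_map _ ⟨hVc, hVp⟩, ?_⟩
  rw [Subgroup.card_map_of_injective X.subtype_injective]
  exact hVcard

theorem isElementaryAbelian_of_le {G : Type*} [Group G] {p : ℕ} {V W : Subgroup G}
    (hV : IsElementaryAbelian p V) (hWV : W ≤ V) : IsElementaryAbelian p W := by
  refine ⟨⟨⟨?_⟩⟩, fun a ha => hV.2 a (hWV ha)⟩
  rintro ⟨a, ha⟩ ⟨b, hb⟩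
  apply Subtype.ext
  have := hV.1.is_comm.comm ⟨a, hWV ha⟩ ⟨b, hWV hb⟩
  show a * b = b * a
  exact congrArg Subtype.val this

theorem le_centralizer_self_of_comm {G : Type*} [Group G] {V : Subgroup G}
    (hV : IsMulCommutative V) : V ≤ Subgroup.centralizer (V : Set G) := by
  intro a ha
  rw [Subgroup.mem_centralizer_iff]
  intro b hb
  have := hV.is_comm.comm ⟨b, hb⟩ ⟨a, ha⟩
  exact congrArg Subtype.val this

theorem lt_of_sq_lt_le_mul {p a c : ℕ} (h1 : p ^ 2 < a) (h2 : a ≤ p * c) : p ^ 1 < c := by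
  rw [pow_one]
  by_contra hc
  push Not at hc
  have : p * c ≤ p * p := Nat.mul_le_mul_left p hc
  have h3 : p ^ 2 = p * p := sq p
  omega

/-- Let G be a minimal simple group of odd order, p a prime, A an abelian p-subgroup containing an elementary abelian subgroup of order p ^ 3 and lying in exactly one maximal subgroup, and B a noncyclic p-subgroup whose centralizer contains an elementary abelian subgroup of order p ^ 3. Then B lies in exactly one maximal subgroup of G. -/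
theorem result {G : Type*} [Group G] [Finite G] (hG : Cfsg.IsMinSimpleOddOrder G)
    (p : ℕ) [Fact p.Prime] (A B : Subgroup G) (hAp : IsPGroup p A) (hAc : IsMulCommutative A) (hA3 : ¬ Cfsg.PRankLE p 2 ↥A)
    (hAU : Cfsg.InUniqueMaximal A) (hBp : IsPGroup p B) (hBnc : ¬ IsCyclic B) (hB3 : ¬ Cfsg.PRankLE p 2 ↥(Subgroup.centralizer (B : Set G))) :
    Cfsg.InUniqueMaximal B := by
  have hp : p.Prime := Fact.out
  have hpow : p ^ 1 < p ^ 2 := Nat.pow_lt_pow_right hp.one_lt (by norm_num)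
  -- the rank three subgroup of `C(B)`
  obtain ⟨X, hXC, hXe, hXcard⟩ := exists_elementary_of_not_pRankLE hB3
  -- the rank three subgroup of `A`
  obtain ⟨A₁, hA₁A, hA₁e, hA₁card⟩ := exists_elementary_of_not_pRankLE hA3
  have hA₁U : InUniqueMaximal A₁ := by
    apply Cfsg.Agent.S1399.result hG A A₁ hAU (hA₁A.trans (le_centralizer_self_of_comm hAc))
    exact not_rankLE_of_le hp le_rfl hA₁e (hpow.trans hA₁card)
  -- `B` is nontrivial and `p` is odd
  have hB1 : B ≠ ⊥ := by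
    rintro rfl
    apply hBnc
    exact isCyclic_of_subsingleton
  have hp2 : p ≠ 2 := prime_ne_two_of_pgroup hG hBp hB1
  -- a Sylow subgroup containing `X` and `B`
  have hXp : IsPGroup p X := Cfsg.Agent.Lib.Lead.BGTrans.isPGroup_of_pow_eq_one hXe.2
  have hXNB : X ≤ Subgroup.normalizer (B : Set G) :=
    hXC.trans (Subgroup.centralizer_le_normalizer _)
  have hXBp : IsPGroup p (X ⊔ B : Subgroup G) := IsPGroup.to_sup_of_normal_right' hXp hBp hXNB
  obtain ⟨P, hP, hXBP⟩ := exists_isSylowIn_ge (le_top : X ⊔ B ≤ ⊤) hXBp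
  have hXP : X ≤ P := le_sup_left.trans hXBP
  -- move `A₁` into `P`
  have hA₁p : IsPGroup p A₁ := Cfsg.Agent.Lib.Lead.BGTrans.isPGroup_of_pow_eq_one hA₁e.2
  obtain ⟨P', hP', hA₁P'⟩ := exists_isSylowIn_ge (le_top : A₁ ≤ ⊤) hA₁p
  obtain ⟨x, -, hx⟩ := hP'.exists_conj hP
  obtain ⟨A₂, hA₂⟩ : ∃ A₂ : Subgroup G, A₂ = A₁.map (MulAut.conj x).toMonoidHom := ⟨_, rfl⟩
  have hA₂P : A₂ ≤ P := by
    rw [hA₂, hx]
    exact Subgroup.map_mono hA₁P'
  have hA₂U : InUniqueMaximal A₂ := by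
    rw [hA₂]
    exact inUniqueMaximal_map_conj x hA₁U
  have hA₂e : IsElementaryAbelian p A₂ := by
    rw [hA₂]
    exact isElementaryAbelian_map _ hA₁e
  have hA₂card : p ^ 2 < Nat.card A₂ := by
    rw [hA₂, Subgroup.card_map_of_injective (MulAut.conj x).injective]
    exact hA₁card
  -- the normal `E_{p^2}` of `P`
  have hPr : ¬ PRankLE p 2 ↥P := not_pRankLE_of_le hXP hXe hXcard
  obtain ⟨U, hU⟩ := exists_goodEpSq hP.isPGroup hPr
  obtain ⟨E, hE⟩ : ∃ E : Subgroup G, E = U.map P.subtype := ⟨_, rfl⟩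
  have hEe : IsElementaryAbelian p E := by
    rw [hE]
    exact isElementaryAbelian_map _ hU.2.1
  have hEcard : Nat.card E = p ^ 2 := by
    rw [hE, Subgroup.card_map_of_injective P.subtype_injective]
    exact hU.2.2.1
  -- `A₃ = C_{A₂}(E)`
  obtain ⟨A₃, hA₃⟩ : ∃ A₃ : Subgroup G, A₃ = A₂ ⊓ Subgroup.centralizer (E : Set G) := ⟨_, rfl⟩
  have hA₃A₂ : A₃ ≤ A₂ := by rw [hA₃]; exact inf_le_left
  have hA₃E : A₃ ≤ Subgroup.centralizer (E : Set G) := by rw [hA₃]; exact inf_le_right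
  have hA₃card : p ^ 1 < Nat.card A₃ := by
    have h1 := card_le_mul_card_inf_centralizer_map hU hA₂P
    rw [← hE, ← hA₃] at h1
    exact lt_of_sq_lt_le_mul hA₂card h1
  have hA₃e : IsElementaryAbelian p A₃ := isElementaryAbelian_of_le hA₂e hA₃A₂
  have hA₃U : InUniqueMaximal A₃ := by
    apply Cfsg.Agent.S1399.result hG A₂ A₃ hA₂U
      (hA₃A₂.trans (le_centralizer_self_of_comm hA₂e.1))
    exact not_rankLE_of_le hp le_rfl hA₃e hA₃card
  -- `E`
  have hEU : InUniqueMaximal E := by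
    apply Cfsg.Agent.S1399.result hG A₃ E hA₃U (le_centralizer_symm hA₃E)
    apply not_rankLE_of_le hp le_rfl hEe
    rw [hEcard]
    exact hpow
  -- `X₃ = C_X(E)`
  obtain ⟨X₃, hX₃⟩ : ∃ X₃ : Subgroup G, X₃ = X ⊓ Subgroup.centralizer (E : Set G) := ⟨_, rfl⟩
  have hX₃X : X₃ ≤ X := by rw [hX₃]; exact inf_le_left
  have hX₃E : X₃ ≤ Subgroup.centralizer (E : Set G) := by rw [hX₃]; exact inf_le_right
  have hX₃card : p ^ 1 < Nat.card X₃ := by
    have h1 := card_le_mul_card_inf_centralizer_map hU hXP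
    rw [← hE, ← hX₃] at h1
    exact lt_of_sq_lt_le_mul hXcard h1
  have hX₃e : IsElementaryAbelian p X₃ := isElementaryAbelian_of_le hXe hX₃X
  have hX₃U : InUniqueMaximal X₃ := by
    apply Cfsg.Agent.S1399.result hG E X₃ hEU hX₃E
    exact not_rankLE_of_le hp le_rfl hX₃e hX₃card
  -- finally `B`
  apply Cfsg.Agent.S1399.result hG X₃ B hX₃U (le_centralizer_symm (hX₃X.trans hXC))
  intro h
  exact not_pRankLE_one_of_not_isCyclic hp2 hBp hBnc (h p hp)

end Cfsg.Agent.S1400
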