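import Cfsg.Statements.S1397
import Cfsg.Agent.Lib.Helper10.BGUniq3

set_option autoImplicit false
open Cfsg

namespace Cfsg.Agent.S1397

open Cfsg.Agent.Lib.Helper10.BG

theorem part_a {G : Type*} [Group G] [Finite G] (hG : Cfsg.IsMinSimpleOddOrder G)
    (M : Subgroup G) (hM : IsCoatom M) (p : ℕ) [Fact p.Prime] (A₀ : Subgroup G)
    (hA₀ : A₀ ≤ Cfsg.fittingOf M) (hA₀e : Cfsg.IsElementaryAbelian p A₀)
    (hA₀3 : p ^ 3 ≤ Nat.card A₀) (hnp : ¬ IsPGroup p ↥(Cfsg.fittingOf M)) :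
    Cfsg.InUniqueMaximal (Cfsg.fittingOf M ⊓ Subgroup.centralizer (A₀ : Set G)) := by
  have hp : p.Prime := Fact.out
  have hA₀p : IsPGroup p A₀ := Cfsg.Agent.Lib.Lead.BGTrans.isPGroup_of_pow_eq_one hA₀e.2
  have hA₀F : A₀ ≤ pCoreOf p M := pgroup_le_pCoreOf_of_le_fittingOf hp hA₀ hA₀p
  have hA₀C : A₀ ≤ Subgroup.centralizer (A₀ : Set G) := by
    intro x hx
    rw [Subgroup.mem_centralizer_iff]
    intro y hy
    have := hA₀e.1.is_comm.comm ⟨y, hy⟩ ⟨x, hx⟩
    exact congrArg Subtype.val this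
  have hp23 : p ^ 2 < p ^ 3 := Nat.pow_lt_pow_right hp.one_lt (by norm_num)
  have hA₀1 : A₀ ≠ ⊥ := by
    intro h
    rw [h, Subgroup.card_bot] at hA₀3
    have : 1 < p ^ 3 := Nat.one_lt_pow (by norm_num) hp.one_lt
    omega
  have hFp1 : pCoreOf p M ≠ ⊥ := by
    intro h
    apply hA₀1
    rw [eq_bot_iff, ← h]
    exact hA₀F
  have hfc : fitCompl p M ≠ ⊥ := by
    intro h
    apply hnp
    rw [fittingOf_eq_pCoreOf_of_fitCompl_eq_bot hp h]
    exact isPGroup_pCoreOf p M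
  obtain ⟨q₂, hq₂, hq₂p, hFq₂⟩ : ∃ q : ℕ, q.Prime ∧ q ≠ p ∧ pCoreOf q M ≠ ⊥ := by
    by_contra hcon
    push Not at hcon
    apply hfc
    rw [eq_bot_iff]
    apply fitCompl_le_of
    intro q hq hqp
    rw [hcon q hq hqp]
  obtain ⟨a, hap, haq⟩ : ∃ a : ℕ → Subgroup G,
      a p = pCoreOf p M ⊓ Subgroup.centralizer (A₀ : Set G) ∧
      ∀ q : ℕ, q ≠ p → a q = pCoreOf q M :=
    ⟨fun q => if q = p then pCoreOf p M ⊓ Subgroup.centralizer (A₀ : Set G) else pCoreOf q M,
      if_pos rfl, fun q hq => if_neg hq⟩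
  have ha1 : ∀ q : ℕ, q.Prime → a q ≤ pCoreOf q M := by
    intro q _
    by_cases hqp : q = p
    · rw [hqp, hap]
      exact inf_le_left
    · rw [haq q hqp]
  have ha2 : ∀ q : ℕ, q.Prime → pCoreOf q M ⊓ Subgroup.centralizer (a q : Set G) ≤ a q := by
    intro q _
    by_cases hqp : q = p
    · rw [hqp, hap]
      intro x hx
      refine ⟨hx.1, ?_⟩
      exact Subgroup.centralizer_le (SetLike.coe_subset_coe.mpr (le_inf hA₀F hA₀C)) hx.2
    · rw [haq q hqp]
      exact inf_le_left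
  have hπ : ∃ q₁ q₂ : ℕ, q₁.Prime ∧ q₂.Prime ∧ q₁ ≠ q₂ ∧ pCoreOf q₁ M ≠ ⊥ ∧ pCoreOf q₂ M ≠ ⊥ :=
    ⟨p, q₂, hp, hq₂, Ne.symm hq₂p, hFp1, hFq₂⟩
  have hA : Cfsg.fittingOf M ⊓ Subgroup.centralizer (A₀ : Set G) =
      ⨆ q : Nat.Primes, a (q : ℕ) := by
    apply le_antisymm
    · rintro x ⟨hxF, hxC⟩
      have hxF' : x ∈ pCoreOf p M ⊔ fitCompl p M := by
        rw [← fittingOf_eq_sup hp]
        exact hxF
      obtain ⟨y, hy, z, hz, hxyz⟩ := mem_sup_of_commute'
        (fun a ha b hb => commute_pCoreOf_fitCompl hp M ha hb) hxF'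
      have hzC : z ∈ Subgroup.centralizer (A₀ : Set G) := by
        rw [Subgroup.mem_centralizer_iff]
        intro w hw
        exact commute_pCoreOf_fitCompl hp M (hA₀F hw) hz
      have hyC : y ∈ Subgroup.centralizer (A₀ : Set G) := by
        have : y = x * z⁻¹ := by rw [hxyz]; group
        rw [this]
        exact Subgroup.mul_mem _ hxC (Subgroup.inv_mem _ hzC)
      rw [hxyz]
      apply Subgroup.mul_mem
      · have h1 : a p ≤ ⨆ q : Nat.Primes, a (q : ℕ) :=
          le_iSup (fun r : Nat.Primes => a (r : ℕ)) ⟨p, hp⟩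
        apply h1
        rw [hap]
        exact ⟨hy, hyC⟩
      · have h2 : fitCompl p M ≤ ⨆ q : Nat.Primes, a (q : ℕ) := by
          apply fitCompl_le_of
          intro q hq hqp
          rw [← haq q hqp]
          exact le_iSup (fun r : Nat.Primes => a (r : ℕ)) ⟨q, hq⟩
        exact h2 hz
    · apply iSup_le
      intro q
      apply le_inf ((ha1 q q.2).trans (pCoreOf_le_fittingOf q.2 M))
      by_cases hqp : (q : ℕ) = p
      · rw [hqp, hap]
        exact inf_le_right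
      · rw [haq q hqp]
        apply le_centralizer_of_commute
        intro x hx w hw
        exact commute_pCoreOf q.2 hp hqp M hx (hA₀F hw)
  have hZ : ¬ Cfsg.RankLE 2 ↥((Cfsg.fittingOf M ⊓ Subgroup.centralizer (A₀ : Set G)) ⊓
      Subgroup.centralizer ((Cfsg.fittingOf M ⊓ Subgroup.centralizer (A₀ : Set G) :
        Subgroup G) : Set G)) := by
    apply not_rankLE_of_le hp _ hA₀e (lt_of_lt_of_le hp23 hA₀3)
    apply le_inf (le_inf hA₀ hA₀C)
    apply le_centralizer_symm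
    exact inf_le_right
  apply inUniqueMaximal_of hM (inf_le_left.trans (fittingOf_le M))
  intro L hL hAL
  exact eq_of_isCoatom_of_family hG hM a ha1 ha2 hπ hA hZ hL hAL

/-- Let G be a minimal simple group of odd order, M a maximal subgroup, p a prime and A₀ an elementary abelian p-subgroup of F(M) of order at least p ^ 3 that is maximal among elementary abelian p-subgroups of F(M). (a) If F(M) is not a p-group, then F(M) ∩ C_G(A₀) lies in exactly one maximal subgroup of G. (b) If F(M) is a p-group and P is a Sylow p-subgroup of M, then p does not divide the index of P in G, and every normal self-centralizing subgroup A of P containing an elementary abelian subgroup of order p ^ 3 is contained in F(M) and lies in exactly one maximal subgroup of G. -/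
theorem result {G : Type*} [Group G] [Finite G] (hG : Cfsg.IsMinSimpleOddOrder G)
    (M : Subgroup G) (hM : IsCoatom M) (p : ℕ) [Fact p.Prime] (A₀ : Subgroup G)
    (hA₀ : A₀ ≤ Cfsg.fittingOf M) (hA₀e : Cfsg.IsElementaryAbelian p A₀) (hA₀3 : p ^ 3 ≤ Nat.card A₀)
    (hA₀max : ∀ B : Subgroup G, B ≤ Cfsg.fittingOf M → Cfsg.IsElementaryAbelian p B → A₀ ≤ B → B = A₀) :
    (¬ IsPGroup p ↥(Cfsg.fittingOf M) → Cfsg.InUniqueMaximal (Cfsg.fittingOf M ⊓ Subgroup.centralizer (A₀ : Set G))) ∧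
      (IsPGroup p ↥(Cfsg.fittingOf M) → ∀ P : Sylow p M,
        ¬ p ∣ ((P : Subgroup M).map M.subtype).index ∧
        ∀ A : Subgroup G, Cfsg.IsSCN ((P : Subgroup M).map M.subtype) A → ¬ Cfsg.PRankLE p 2 ↥A →
          A ≤ Cfsg.fittingOf M ∧ Cfsg.InUniqueMaximal A) := by
  refine ⟨part_a hG M hM p A₀ hA₀ hA₀e hA₀3, ?_⟩
  intro hFp P
  have hp : p.Prime := Fact.out
  have hS : IsSylowIn p ((P : Subgroup M).map M.subtype) M := isSylowIn_of_sylow P
  have hM1 : M ≠ ⊥ := by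
    intro h
    have h1 : A₀ = ⊥ := by
      rw [eq_bot_iff, ← h]
      exact hA₀.trans (fittingOf_le M)
    rw [h1, Subgroup.card_bot] at hA₀3
    have : 1 < p ^ 3 := Nat.one_lt_pow (by norm_num) hp.one_lt
    omega
  refine ⟨(sylow_of_fitting_pgroup hG hM hFp hM1 hS).not_dvd_index, ?_⟩
  intro A hSCN hA3
  obtain ⟨h1, h2⟩ := scn_of_fitting_pgroup hG hM hFp hS hSCN hA3
  exact ⟨h1, inUniqueMaximal_of hM (h1.trans (fittingOf_le M)) h2⟩

end Cfsg.Agent.S1397
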