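import Cfsg.Statements.S1401
import Cfsg.Agent.Lib.Helper10.BGNine2
import Cfsg.Agent.S1397
import Cfsg.Agent.S1399
import Cfsg.Agent.S1400

set_option autoImplicit false
open Cfsg

namespace Cfsg.Agent.S1401

open Cfsg.Agent.Lib.Helper10.BG Cfsg.Agent.Lib.Helper10 Cfsg.Agent.S1400

theorem not_isCyclic_of_elementary {G : Type*} [Group G] {p : ℕ} (hp : p.Prime) {V : Subgroup G}
    (hVe : IsElementaryAbelian p V) (hcard : p < Nat.card V) : ¬ IsCyclic V := by
  intro hcyc
  obtain ⟨g, hg⟩ := hcyc.exists_generator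
  have h1 : Nat.card V = orderOf g := by
    rw [← Nat.card_zpowers g]
    have : Subgroup.zpowers g = ⊤ := by
      rw [eq_top_iff]
      intro x _
      exact hg x
    rw [this, Subgroup.card_top]
  have h2 : g ^ p = 1 := by
    apply Subtype.ext
    rw [Subgroup.coe_pow, Subgroup.coe_one]
    exact hVe.2 g g.2
  have h3 : orderOf g ≤ p := orderOf_le_of_pow_eq_one hp.pos h2
  omega

theorem not_isCyclic_of_not_pRankLE {G : Type*} [Group G] {p k : ℕ} (hp : p.Prime) (hk : 1 ≤ k)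
    {A : Subgroup G} (h : ¬ PRankLE p k ↥A) : ¬ IsCyclic A := by
  obtain ⟨V, hVA, hVe, hVcard⟩ := exists_elementary_of_not_pRankLE h
  intro hcyc
  have h1 : IsCyclic (V.subgroupOf A) := inferInstance
  have h2 : IsCyclic V := by
    have e := Subgroup.subgroupOfEquivOfLe hVA
    exact isCyclic_of_surjective e e.surjective
  apply not_isCyclic_of_elementary hp hVe _ h2
  calc p = p ^ 1 := (pow_one p).symm
    _ ≤ p ^ k := Nat.pow_le_pow_right hp.pos hk
    _ < Nat.card V := hVcard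

theorem isMulCommutative_of_le_centralizer {G : Type*} [Group G] {A : Subgroup G}
    (h : A ≤ Subgroup.centralizer (A : Set G)) : IsMulCommutative A := by
  refine ⟨⟨?_⟩⟩
  rintro ⟨a, ha⟩ ⟨b, hb⟩
  apply Subtype.ext
  show a * b = b * a
  exact (Subgroup.mem_centralizer_iff.mp (h hb) a ha)

/-- Let G be a minimal simple group of odd order, p a prime, and M a maximal subgroup whose Fitting subgroup contains an elementary abelian subgroup of order p ^ 3. Then every abelian p-subgroup of G containing an elementary abelian subgroup of order p ^ 3 lies in exactly one maximal subgroup of G. -/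
theorem result {G : Type*} [Group G] [Finite G] (hG : Cfsg.IsMinSimpleOddOrder G)
    (M : Subgroup G) (hM : IsCoatom M) (p : ℕ) [Fact p.Prime] (hF : ¬ Cfsg.PRankLE p 2 ↥(Cfsg.fittingOf M))
    (A : Subgroup G) (hAp : IsPGroup p A) (hAc : IsMulCommutative A) (hA3 : ¬ Cfsg.PRankLE p 2 ↥A) :
    Cfsg.InUniqueMaximal A := by
  have hp : p.Prime := Fact.out
  have hpow : p ^ 1 < p ^ 2 := Nat.pow_lt_pow_right hp.one_lt (by norm_num)
  obtain ⟨V, hVF, hVe, hVcard⟩ := exists_elementary_of_not_pRankLE hF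
  have hVp : IsPGroup p V := Cfsg.Agent.Lib.Lead.BGTrans.isPGroup_of_pow_eq_one hVe.2
  have hV3 : p ^ 3 ≤ Nat.card V := by
    obtain ⟨k, hk⟩ := hVp.exists_card_eq
    rw [hk] at hVcard ⊢
    have : 2 < k := (Nat.pow_lt_pow_iff_right hp.one_lt).mp hVcard
    exact Nat.pow_le_pow_right hp.pos this
  obtain ⟨A₀, hVA₀, hA₀max⟩ := Finite.exists_le_maximal
    (p := fun R : Subgroup G => R ≤ fittingOf M ∧ IsElementaryAbelian p R) (a := V) ⟨hVF, hVe⟩
  have hA₀F : A₀ ≤ fittingOf M := hA₀max.prop.1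
  have hA₀e : IsElementaryAbelian p A₀ := hA₀max.prop.2
  have hA₀3 : p ^ 3 ≤ Nat.card A₀ := hV3.trans (Subgroup.card_le_of_le hVA₀)
  have hA₀max' : ∀ B : Subgroup G, B ≤ fittingOf M → IsElementaryAbelian p B → A₀ ≤ B → B = A₀ :=
    fun B hB hBe hle => le_antisymm (hA₀max.le_of_ge ⟨hB, hBe⟩ hle) hle
  obtain ⟨ha, hb⟩ := Cfsg.Agent.S1397.result hG M hM p A₀ hA₀F hA₀e hA₀3 hA₀max'
  -- data on `A`
  have hAnc : ¬ IsCyclic A := not_isCyclic_of_not_pRankLE hp (by norm_num) hA3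
  have hCA3 : ¬ PRankLE p 2 ↥(Subgroup.centralizer (A : Set G)) := by
    obtain ⟨W, hWA, hWe, hWcard⟩ := exists_elementary_of_not_pRankLE hA3
    exact not_pRankLE_of_le (hWA.trans (le_centralizer_self_of_comm hAc)) hWe hWcard
  -- it suffices to find one abelian `p`-subgroup of rank three in a unique maximal subgroup
  suffices h : ∃ A₁ : Subgroup G, IsPGroup p A₁ ∧ IsMulCommutative A₁ ∧ ¬ PRankLE p 2 ↥A₁ ∧
      InUniqueMaximal A₁ by
    obtain ⟨A₁, h1, h2, h3, h4⟩ := h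
    exact Cfsg.Agent.S1400.result hG p A₁ A h1 h2 h3 h4 hAp hAnc hCA3
  have hA₀p : IsPGroup p A₀ := Cfsg.Agent.Lib.Lead.BGTrans.isPGroup_of_pow_eq_one hA₀e.2
  have hA₀r : ¬ PRankLE p 2 ↥A₀ := not_pRankLE_of_le hVA₀ hVe hVcard
  by_cases hFp : IsPGroup p ↥(fittingOf M)
  · -- `F(M)` is a `p`-group
    obtain ⟨P⟩ : Nonempty (Sylow p ↥M) := inferInstance
    obtain ⟨-, hscn⟩ := hb hFp P
    have hS : IsSylowIn p ((P : Subgroup M).map M.subtype) M := isSylowIn_of_sylow P
    have hFS : fittingOf M ≤ (P : Subgroup M).map M.subtype :=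
      hS.normal_le (fittingOf_le M) hFp (le_normalizer_fittingOf M)
    have hSr : ¬ PRankLE p 2 ↥((P : Subgroup M).map M.subtype) :=
      not_pRankLE_of_le (hVF.trans hFS) hVe hVcard
    have hV1 : V ≠ ⊥ := by
      rintro rfl
      rw [Subgroup.card_bot] at hVcard
      have := Nat.one_le_pow 2 p hp.pos
      omega
    have hp2 : p ≠ 2 := prime_ne_two_of_pgroup hG hVp hV1
    obtain ⟨A₁, hA₁scn, hA₁r⟩ := exists_isSCN_of_not_pRankLE hp2 hS.isPGroup hSr
    refine ⟨A₁, hS.isPGroup.to_le hA₁scn.1, ?_, hA₁r, (hscn A₁ hA₁scn hA₁r).2⟩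
    apply isMulCommutative_of_le_centralizer
    have h1 : A₁ ≤ (P : Subgroup M).map M.subtype ⊓ Subgroup.centralizer (A₁ : Set G) := by
      rw [hA₁scn.2.2]
    exact h1.trans inf_le_right
  · -- `F(M)` is not a `p`-group
    refine ⟨A₀, hA₀p, hA₀e.1, hA₀r, ?_⟩
    apply Cfsg.Agent.S1399.result hG _ A₀ (ha hFp) (le_centralizer_symm inf_le_right)
    apply not_rankLE_of_le hp le_rfl hA₀e
    calc p ^ 1 < p ^ 2 := hpow
      _ < Nat.card V := hVcard
      _ ≤ Nat.card A₀ := Subgroup.card_le_of_le hVA₀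

end Cfsg.Agent.S1401
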