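import Cfsg.Statements.S1396
import Cfsg.Agent.Lib.Lead.BGTransHyp

set_option autoImplicit false
open Cfsg

namespace Cfsg.Agent.S1396

/-- Let G be a minimal simple group of odd order, p a prime dividing the order of G and A an abelian p-subgroup. Suppose either (1) A consists exactly of the elements x of C_G(A) with x^p = 1, and every proper subgroup of G has p-length at most one, or (2) A is normal and self-centralizing in some Sylow p-subgroup of G and has rank at least 2. Then A satisfies the transitivity hypothesis. -/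
theorem result {G : Type*} [Group G] [Finite G] (hG : Cfsg.IsMinSimpleOddOrder G)
    (p : ℕ) [Fact p.Prime] (hp : p ∣ Nat.card G) (A : Subgroup G) (hAp : IsPGroup p A) (hAc : IsMulCommutative A)
    (h : (∀ x ∈ Subgroup.centralizer (A : Set G), x ^ p = 1 ↔ x ∈ A) ∧ (∀ H : Subgroup G, H ≠ ⊤ → Cfsg.PLengthLE p 1 H) ∨
      ∃ P : Sylow p G, Cfsg.IsSCN (P : Subgroup G) A ∧ ¬ Cfsg.PRankLE p 1 A) :
    Cfsg.TransitivityHypothesis A := by
  rcases h with ⟨hΩ, -⟩ | ⟨P, hscn, hrk⟩
  · have hA1 : A ≠ ⊥ := by
      rintro rfl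
      obtain ⟨x, hx⟩ := exists_prime_orderOf_dvd_card' p hp
      have hxc : x ∈ Subgroup.centralizer (((⊥ : Subgroup G) : Subgroup G) : Set G) := by
        rw [Subgroup.mem_centralizer_iff]
        intro y hy
        have hy1 : y = 1 := Subgroup.mem_bot.mp hy
        rw [hy1, one_mul, mul_one]
      have hx1 : x ∈ (⊥ : Subgroup G) :=
        (hΩ x hxc).mp (by rw [← hx]; exact pow_orderOf_eq_one x)
      rw [Subgroup.mem_bot] at hx1
      rw [hx1, orderOf_one] at hx
      exact (Fact.out : p.Prime).one_lt.ne hx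
    exact Cfsg.Agent.Lib.Lead.BGTransHyp.transitivityHypothesis_of_omega hG p hp A hAp hA1
      (fun y hy hyo => (hΩ y hy).mp (by rw [← hyo]; exact pow_orderOf_eq_one y))
  · have hA1 : A ≠ ⊥ := by
      rintro rfl
      apply hrk
      intro B _ _
      calc Nat.card B ≤ Nat.card (⊥ : Subgroup G) := Subgroup.card_le_card_group B
        _ = 1 := Subgroup.card_bot
        _ ≤ p ^ 1 := Nat.one_le_pow _ _ (Fact.out : p.Prime).pos
    exact Cfsg.Agent.Lib.Lead.BGTransHyp.transitivityHypothesis_of_omega hG p hp A hAp hA1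
      (fun y hy hyo => Cfsg.Agent.Lib.Lead.BGTransHyp.mem_of_scn P hscn hy hyo)

end Cfsg.Agent.S1396
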