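import Cfsg.Statements.S1451
import Cfsg.Agent.Lib.Helper10.Rank2Tower

set_option autoImplicit false
open Cfsg

namespace Cfsg.Agent.S1451

/-- Let G be a solvable group of odd order such that G, or its Fitting subgroup, has no elementary abelian subgroup of order q ^ 3 for any prime q. Then G' is nilpotent; for every Sylow subgroup S of G, every characteristic subgroup T of S with T ≤ [S, S] is normal in G; and for every prime p, G has a characteristic subgroup that is a Hall subgroup for the set of primes greater than p. -/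
theorem result {G : Type*} [Group G] [Finite G] [Group.IsSolvable G] (hodd : Odd (Nat.card G)) (hr : Cfsg.RankLE 2 G ∨ Cfsg.RankLE 2 (Cfsg.fittingSubgroup G)) :
    Group.IsNilpotent ↥(commutator G) ∧
      (∀ (q : ℕ) [Fact q.Prime] (S : Sylow q G) (T : Subgroup ↥(S : Subgroup G)), T.Characteristic → T.map (S : Subgroup G).subtype ≤ ⁅(S : Subgroup G), (S : Subgroup G)⁆ →
        (T.map (S : Subgroup G).subtype).Normal) ∧
      ∀ p : ℕ, ∃ N : Subgroup G, N.Characteristic ∧ Cfsg.IsPiHall {q | q.Prime ∧ p < q} N := by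
  have hrk : Cfsg.RankLE 2 ↥(Cfsg.fittingSubgroup G) := by
    rcases hr with h | h
    · intro q hq
      exact Cfsg.Agent.Lib.Helper9.pRankLE_of_injective (Cfsg.fittingSubgroup G).subtype
        (Cfsg.fittingSubgroup G).subtype_injective (h q hq)
    · exact h
  have hn : ∀ q : ℕ, q.Prime → q ≠ 2 →
      Cfsg.Agent.Lib.Helper10.IsNarrowSub q (Cfsg.pCore q G) := by
    intro q hq _
    have : Fact q.Prime := ⟨hq⟩
    exact Or.inl (Cfsg.Agent.Lib.Helper9.pRankLE_of_le
      (Cfsg.Agent.Lib.Helper1.pCore_le_fittingSubgroup q) (hrk q hq))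
  have hF := Cfsg.Agent.Lib.Helper10.commutator_le_fittingSubgroup_of_narrow hodd hn
  refine ⟨Cfsg.Agent.Lib.Helper10.isNilpotent_of_le_fittingSubgroup _ hF, ?_, ?_⟩
  · intro q _ S T hT hle
    exact Cfsg.Agent.Lib.Helper10.normal_map_of_characteristic_of_le_commutator hF q S T hT hle
  · exact Cfsg.Agent.Lib.Helper10.exists_char_hall_tower (Nat.card G) G rfl hodd hrk

end Cfsg.Agent.S1451
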