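-- Statement S1403.
import Cfsg.Statements.S1403
import Cfsg.Agent.Lib.Helper10.BGNine2
import Cfsg.Agent.S1399
import Cfsg.Agent.S1400
import Cfsg.Agent.S1401
import Cfsg.Agent.S1402

set_option autoImplicit false
open Cfsg

namespace Cfsg.Agent.S1403

open Cfsg.Agent.Lib.Helper10.BG Cfsg.Agent.Lib.Helper10

/-- an elementary abelian subgroup of rank at least three lies in a unique maximal subgroup
(Bender--Glauberman, Theorem 9.6, the basic case). -/
theorem inUniqueMaximal_of_elementary {G : Type*} [Group G] [Finite G]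
    (hG : Cfsg.IsMinSimpleOddOrder G) {q : ℕ} (hq : q.Prime) {B : Subgroup G}
    (hBe : IsElementaryAbelian q B) (hcard : q ^ 2 < Nat.card ↥B) : InUniqueMaximal B := by
  have : Fact q.Prime := ⟨hq⟩
  have hBq : IsPGroup q ↥B := by
    intro b
    refine ⟨1, ?_⟩
    rw [pow_one]
    exact Subtype.ext (by simpa using hBe.2 b.1 b.2)
  have hB3 : ¬ PRankLE q 2 ↥B := not_pRankLE_of_le le_rfl hBe hcard
  have hB1 : B ≠ ⊥ := ne_bot_of_not_pRankLE hq hB3
  have hq2 : q ≠ 2 := prime_ne_two_of_pgroup hG hBq hB1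
  obtain ⟨Q, hBQ⟩ := hBq.exists_le_sylow
  have hQ3 : ¬ PRankLE q 2 ↥(Q : Subgroup G) := not_pRankLE_of_le hBQ hBe hcard
  obtain ⟨A, hSCN, hA3⟩ := exists_isSCN_of_not_pRankLE hq2 Q.isPGroup' hQ3
  have hAU : InUniqueMaximal A := Cfsg.Agent.S1402.result hG q Q A hSCN hA3
  have hAC : A ≤ Subgroup.centralizer (A : Set G) := by
    intro a ha
    have h1 : a ∈ (Q : Subgroup G) ⊓ Subgroup.centralizer (A : Set G) := by
      rw [hSCN.2.2]; exact ha
    exact h1.2
  have hAc : IsMulCommutative ↥A := Cfsg.Agent.S1401.isMulCommutative_of_le_centralizer hAC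
  have hAq : IsPGroup q ↥A := Q.isPGroup'.to_le hSCN.1
  have hqlt : q < Nat.card ↥B := lt_of_le_of_lt (Nat.le_self_pow two_ne_zero q) hcard
  have hBnc : ¬ IsCyclic ↥B := Cfsg.Agent.S1401.not_isCyclic_of_elementary hq hBe hqlt
  have hCB3 : ¬ PRankLE q 2 ↥(Subgroup.centralizer (B : Set G)) :=
    not_pRankLE_of_le (Cfsg.Agent.S1400.le_centralizer_self_of_comm hBe.1) hBe hcard
  exact Cfsg.Agent.S1400.result hG q A B hAq hAc hA3 hAU hBq hBnc hCB3

/-- Let G be a minimal simple group of odd order and K a proper subgroup having an elementary abelian subgroup of order p ^ 2 for some prime p. If K, or its centralizer C_G(K), has an elementary abelian subgroup of order q ^ 3 for some prime q, then K lies in exactly one maximal subgroup of G. -/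
theorem result {G : Type*} [Group G] [Finite G] (hG : Cfsg.IsMinSimpleOddOrder G)
    (K : Subgroup G) (hK : K ≠ ⊤) (hK2 : ¬ Cfsg.RankLE 1 K)
    (hK3 : ¬ Cfsg.RankLE 2 K ∨ ¬ Cfsg.RankLE 2 (Subgroup.centralizer (K : Set G))) :
    Cfsg.InUniqueMaximal K := by
  rcases hK3 with h | h
  · unfold RankLE at h
    push Not at h
    obtain ⟨q, hq, hqK⟩ := h
    obtain ⟨B, hBK, hBe, hcard⟩ := Cfsg.Agent.S1400.exists_elementary_of_not_pRankLE hqK
    exact inUniqueMaximal_mono (inUniqueMaximal_of_elementary hG hq hBe hcard) hBK hK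
  · unfold RankLE at h
    push Not at h
    obtain ⟨q, hq, hqK⟩ := h
    obtain ⟨B, hBK, hBe, hcard⟩ := Cfsg.Agent.S1400.exists_elementary_of_not_pRankLE hqK
    have hBU : InUniqueMaximal B := inUniqueMaximal_of_elementary hG hq hBe hcard
    exact Cfsg.Agent.S1399.result hG B K hBU (le_centralizer_symm hBK) hK2

end Cfsg.Agent.S1403
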