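import Cfsg.Statements.S1405
import Cfsg.Agent.Lib.Helper10.BGTen2

set_option autoImplicit false
open Cfsg

namespace Cfsg.Agent.S1405

open Cfsg.Agent.Lib.Helper10.BG Cfsg.Agent.Lib.Helper10
open scoped commutatorElement

/-- In a minimal simple group of odd order, for a maximal subgroup M: M_α = O_α(M)(M) is a Hall α(M)-subgroup of M and of G contained in M_σ, M/M_α has rank at most 2, and M'/M_α is nilpotent. -/
theorem result {G : Type*} [Group G] [Finite G] (hG : Cfsg.IsMinSimpleOddOrder G)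
    (M : Subgroup G) (hM : IsCoatom M) :
    Cfsg.IsPiHallOf (Cfsg.alpha M) (Cfsg.alphaCore M) M ∧ Cfsg.IsPiHall (Cfsg.alpha M) (Cfsg.alphaCore M) ∧
      Cfsg.alphaCore M ≤ Cfsg.sigmaCore M ∧ Cfsg.RankLE 2 (↥M ⧸ Cfsg.piCore (Cfsg.alpha M) ↥M) ∧
      Group.IsNilpotent ↥((commutator ↥M).map (QuotientGroup.mk' (Cfsg.piCore (Cfsg.alpha M) ↥M))) := by
  have hMsolv : Group.IsSolvable M := isSolvable_of_ne_top hG hM.1
  have hodd := odd_card_subgroup hG M
  have hασ := alpha_subset_sigma hG hM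
  have hrank : ∀ q : ℕ, q.Prime → q ∉ alpha M → PRankLE q 2 ↥M := by
    intro q hq hqα
    by_contra h
    exact hqα ⟨hq, h⟩
  have hder : ∀ (p : ℕ) [Fact p.Prime], p ∈ alpha M → ∀ P : Sylow p ↥M,
      (P : Subgroup ↥M) ≤ commutator ↥M := by
    intro p _ hp P
    have hσ := sigmaProp_of_mem_sigma hM (hασ hp)
    have h1 := sylow_le_commutator_of_sigmaProp hG hσ (isSylowIn_of_sylow P)
    intro x hx
    have h2 : (x : G) ∈ ⁅M, M⁆ := h1 ⟨x, hx, rfl⟩
    rw [← Subgroup.map_subtype_commutator] at h2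
    obtain ⟨y, hy, hyx⟩ := h2
    have : y = x := Subtype.ext hyx
    rwa [← this]
  obtain ⟨hindex, hr2, hnil⟩ := piCore_hall_of_rank (X := ↥M) (alpha M) hodd hrank hder
  have hpi := Cfsg.Agent.Lib.Helper12.piCore_isPiNat (G := ↥M) (alpha M)
  have hcard : Nat.card (alphaCore M) = Nat.card (piCore (alpha M) ↥M) := by
    unfold alphaCore
    exact Subgroup.card_map_of_injective M.subtype_injective
  have hle : alphaCore M ≤ M := by
    unfold alphaCore
    exact Subgroup.map_subtype_le _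
  have hrel : (alphaCore M).relIndex M = (piCore (alpha M) ↥M).index := by
    unfold alphaCore Subgroup.relIndex Subgroup.subgroupOf
    rw [Subgroup.comap_map_eq_self_of_injective M.subtype_injective]
  have hrelnd : ∀ p : ℕ, p.Prime → p ∈ alpha M → ¬ p ∣ (alphaCore M).relIndex M := by
    intro p hp hpα
    rw [hrel]
    exact hindex p hp hpα
  refine ⟨⟨hle, ?_, hrelnd⟩, ⟨?_, ?_⟩, ?_, hr2, hnil⟩
  · intro p hp hd
    rw [hcard] at hd
    exact hpi p hp hd
  · intro p hp hd
    rw [hcard] at hd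
    exact hpi p hp hd
  · intro p hp hpα hd
    have : Fact p.Prime := ⟨hp⟩
    rw [← Subgroup.relIndex_mul_index hle] at hd
    rcases (Nat.Prime.dvd_mul hp).mp hd with h | h
    · exact hrelnd p hp hpα h
    · have hσ := sigmaProp_of_mem_sigma hM (hασ hpα)
      obtain ⟨P, hP⟩ := exists_isSylowIn p M
      have hPtop := hσ.isSylowIn_top hP
      apply hPtop.not_dvd_index
      rw [← Subgroup.relIndex_mul_index hP.le]
      exact Dvd.dvd.mul_left h _
  · unfold alphaCore sigmaCore
    apply Subgroup.map_mono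
    unfold piCore
    apply sSup_le_sSup
    rintro N ⟨hN, hNπ⟩
    exact ⟨hN, fun p hp hd => hασ (hNπ p hp hd)⟩

end Cfsg.Agent.S1405
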