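import Cfsg.Statements.S1350
import Cfsg.Agent.Lib.Helper10.BGTen2

set_option autoImplicit false
open Cfsg

namespace Cfsg.Agent.S1350

open Cfsg.Agent.Lib.Helper10.BG Cfsg.Agent.Lib.Helper10
open scoped commutatorElement

/-- Let G be a minimal simple group of odd order and M a maximal subgroup. Then M_σ (the largest normal σ(M)-subgroup of M) is a Hall σ(M)-subgroup of M and also of G, and every Hall σ(M)-subgroup of M that is normal in M equals M_σ. -/
theorem result {G : Type*} [Group G] [Finite G] (hG : Cfsg.IsMinSimpleOddOrder G)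
    (M : Subgroup G) (hM : IsCoatom M) :
    Cfsg.IsPiHallOf (Cfsg.sigma M) (Cfsg.sigmaCore M) M ∧ Cfsg.IsPiHall (Cfsg.sigma M) (Cfsg.sigmaCore M) ∧
      ∀ N : Subgroup G, M ≤ Subgroup.normalizer (N : Set G) → Cfsg.IsPiHallOf (Cfsg.sigma M) N M →
        N = Cfsg.sigmaCore M := by
  have hMsolv : Group.IsSolvable M := isSolvable_of_ne_top hG hM.1
  have hodd := odd_card_subgroup hG M
  have hασ := alpha_subset_sigma hG hM
  have hindex := piCore_hall_of_rank_of_subset (X := ↥M) (alpha M) (sigma M) hασ hodd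
    (alpha_rank M) (fun p _ hp P => sylow_le_commutator_of_mem_sigma hG hM hp P)
  have hpi := Cfsg.Agent.Lib.Helper12.piCore_isPiNat (G := ↥M) (sigma M)
  have hcard : Nat.card (sigmaCore M) = Nat.card (piCore (sigma M) ↥M) := by
    unfold sigmaCore
    exact Subgroup.card_map_of_injective M.subtype_injective
  have hle : sigmaCore M ≤ M := by
    unfold sigmaCore
    exact Subgroup.map_subtype_le _
  have hrel : (sigmaCore M).relIndex M = (piCore (sigma M) ↥M).index := by
    unfold sigmaCore Subgroup.relIndex Subgroup.subgroupOf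
    rw [Subgroup.comap_map_eq_self_of_injective M.subtype_injective]
  have hrelnd : ∀ p : ℕ, p.Prime → p ∈ sigma M → ¬ p ∣ (sigmaCore M).relIndex M := by
    intro p hp hpσ
    rw [hrel]
    exact hindex p hp hpσ
  have hcardpi : ∀ p : ℕ, p.Prime → p ∣ Nat.card (sigmaCore M) → p ∈ sigma M := by
    intro p hp hd
    rw [hcard] at hd
    exact hpi p hp hd
  refine ⟨⟨hle, hcardpi, hrelnd⟩, ⟨hcardpi, ?_⟩, ?_⟩
  · intro p hp hpσ hd
    have : Fact p.Prime := ⟨hp⟩
    rw [← Subgroup.relIndex_mul_index hle] at hd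
    rcases (Nat.Prime.dvd_mul hp).mp hd with h | h
    · exact hrelnd p hp hpσ h
    · exact not_dvd_index_of_mem_sigma hM hpσ h
  · rintro N hMN ⟨hNM, hNpi, hNrel⟩
    have h1 : N ≤ sigmaCore M := by
      apply Cfsg.Agent.Lib.Lead.BGTrans.le_piCoreOf hNM
      · intro x hx w hw
        exact conj_mem_of_mem_normalizer (hMN hx) hw
      · exact hNpi
    apply Subgroup.eq_of_le_of_card_ge h1
    apply Nat.le_of_dvd Nat.card_pos
    have h2 : Nat.card (sigmaCore M) ∣ Nat.card N * N.relIndex M := by
      rw [Cfsg.Agent.Lib.Helper12.card_mul_relIndex_eq hNM]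
      exact Subgroup.card_dvd_of_le hle
    apply Nat.Coprime.dvd_of_dvd_mul_right _ h2
    apply Nat.coprime_of_dvd
    intro r hr hr1 hr2
    exact hNrel r hr (hcardpi r hr hr1) hr2

end Cfsg.Agent.S1350
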