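-- Statement S1404.
import Cfsg.Statements.S1404
import Cfsg.Agent.Lib.Helper29.BG101

set_option autoImplicit false
open Cfsg
open scoped Pointwise

namespace Cfsg.Agent.S1404

open Cfsg.Agent.Lib.Helper29.BG10 Cfsg.Agent.Lib.Helper10.BG

/-- Let G be a minimal simple group of odd order, M a maximal subgroup, p a prime in σ(M), and X a nontrivial p-subgroup of M. If gXg⁻¹ ≤ M for some g ∈ G then g = m c with m ∈ M and c ∈ C_G(X); and the normalizer of X is generated by N_M(X) and C_G(X). -/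
theorem result {G : Type*} [Group G] [Finite G] (hG : Cfsg.IsMinSimpleOddOrder G)
    (M : Subgroup G) (hM : IsCoatom M) (p : ℕ) [Fact p.Prime] (hp : p ∈ Cfsg.sigma M)
    (X : Subgroup G) (hXp : IsPGroup p X) (hX1 : X ≠ ⊥) (hXM : X ≤ M) :
    (∀ g : G, X.map (MulAut.conj g).toMonoidHom ≤ M → ∃ m ∈ M, ∃ c ∈ Subgroup.centralizer (X : Set G), g = m * c) ∧
      Subgroup.normalizer (X : Set G) = (M ⊓ Subgroup.normalizer (X : Set G)) ⊔ Subgroup.centralizer (X : Set G) := by
  have hσ : SylowNormalizerLE p M := sylowNormalizerLE_of_mem_sigma hp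
  have hMN : Subgroup.normalizer (M : Set G) = M :=
    normalizer_eq_of_isCoatom hG hM (ne_bot_of_le_ne_bot hX1 hXM) hM.1 Subgroup.le_normalizer
  have key : ∀ g : G, X.map (MulAut.conj g).toMonoidHom ≤ M →
      ∃ m ∈ M, ∃ c ∈ Subgroup.centralizer (X : Set G), g = m * c := by
    intro g hg
    have hg' : MulAut.conj g • X ≤ M := hg
    have hX2 : X ≤ MulAut.conj g⁻¹ • M := by
      rw [map_inv]
      exact Subgroup.pointwise_smul_subset_iff.mp hg'
    obtain ⟨c, hc, hcM⟩ := exists_centralizer_conj hG hM hσ X hXp hX1 M (isConjOf_self M) _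
      ((isConjOf_self M).smul g⁻¹) hXM hX2
    have h1 : c⁻¹ * g⁻¹ ∈ M := mem_of_conj_smul_eq hMN hcM
    refine ⟨g * c, ?_, c⁻¹, Subgroup.inv_mem _ hc, by group⟩
    have e : g * c = (c⁻¹ * g⁻¹)⁻¹ := by group
    rw [e]
    exact M.inv_mem h1
  refine ⟨key, le_antisymm ?_ (sup_le inf_le_right (Subgroup.centralizer_le_normalizer _))⟩
  intro n hn
  have h1 : X.map (MulAut.conj n).toMonoidHom ≤ M := by
    have h2 : MulAut.conj n • X = X :=
      Cfsg.Agent.Lib.Helper1.conj_smul_eq_self_iff_mem_normalizer.mpr hn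
    show MulAut.conj n • X ≤ M
    rw [h2]
    exact hXM
  obtain ⟨m, hm, c, hc, hmc⟩ := key n h1
  have hcN : c ∈ Subgroup.normalizer (X : Set G) := Subgroup.centralizer_le_normalizer _ hc
  have hmN : m ∈ Subgroup.normalizer (X : Set G) := by
    have e : m = n * c⁻¹ := by rw [hmc]; group
    rw [e]
    exact Subgroup.mul_mem _ hn (Subgroup.inv_mem _ hcN)
  rw [hmc]
  exact Subgroup.mul_mem_sup ⟨hm, hmN⟩ hc

end Cfsg.Agent.S1404
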