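import Cfsg.Statements.S0031
import Cfsg.Agent.Lib.Helper1.Basic

set_option autoImplicit false
open Cfsg

namespace Cfsg.Agent.S0031

open Pointwise in
theorem aux {G : Type*} [Group G] [Finite G] (φ : G ≃* G)
    (hφ : MonoidHom.FixedPointFree (φ : G →* G)) (p : ℕ) [Fact p.Prime] :
    ∃ P : Sylow p G, (P : Subgroup G).map (φ : G →* G) = P := by
  classical
  -- x ↦ x⁻¹ * φ x is injective hence surjective
  have hinj : Function.Injective (fun x : G => x⁻¹ * φ x) := by
    intro a b h
    simp only at h
    have h1 : φ (b * a⁻¹) = b * a⁻¹ := by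
      rw [map_mul, map_inv]
      have h3 : b * (a⁻¹ * φ a) = b * (b⁻¹ * φ b) := by rw [h]
      rw [mul_inv_cancel_left] at h3
      have h4 : b * a⁻¹ = (b * (a⁻¹ * φ a)) * (φ a)⁻¹ := by group
      rw [h4, h3]
    have h2 := hφ _ h1
    exact (mul_inv_eq_one.mp h2).symm
  have hsurj : Function.Surjective (fun x : G => x⁻¹ * φ x) := Finite.surjective_of_injective hinj
  let P : Sylow p G := default
  have hcard : Nat.card ((P : Subgroup G).map (φ : G →* G)) = Nat.card (P : Subgroup G) :=
    Subgroup.card_map_of_injective (f := (φ : G →* G)) φ.injective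
  let Q : Sylow p G := Sylow.ofCard ((P : Subgroup G).map (φ : G →* G)) (by rw [hcard]; exact P.card_eq_multiplicity)
  obtain ⟨g, hg⟩ := MulAction.exists_smul_eq G P Q
  have hg' : MulAut.conj g • (P : Subgroup G) = (P : Subgroup G).map (φ : G →* G) := by
    have := congrArg (fun R : Sylow p G => (R : Subgroup G)) hg
    simpa [Q, Sylow.coe_subgroup_smul, Sylow.pointwise_smul_def] using this
  obtain ⟨x, hx⟩ := hsurj g⁻¹
  simp only at hx
  refine ⟨x • P, ?_⟩
  have hxP : ((x • P : Sylow p G) : Subgroup G) = MulAut.conj x • (P : Subgroup G) := rfl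
  rw [hxP, Cfsg.Agent.Lib.Helper1.map_conj_smul, ← hg', smul_smul, ← map_mul]
  have : (φ x) * g = x := by
    have : φ x = x * g⁻¹ := by rw [← hx]; group
    rw [this]; group
  show MulAut.conj ((φ : G →* G) x * g) • (P : Subgroup G) = _
  rw [show (φ : G →* G) x = φ x from rfl, this]

/-- A fixed-point-free automorphism of a finite group maps some Sylow p-subgroup to itself. -/
theorem result {G : Type*} [Group G] [Finite G] (φ : G ≃* G)
    (hφ : MonoidHom.FixedPointFree (φ : G →* G)) (p : ℕ) [Fact p.Prime] :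
    ∃ P : Sylow p G, (P : Subgroup G).map (φ : G →* G) = P := by
  exact aux φ hφ p

end Cfsg.Agent.S0031
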