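import Cfsg.Statements.S0032

set_option autoImplicit false
open Cfsg

namespace Cfsg.Agent.S0032

/-- If an automorphism of a finite group fixes only the identity and maps a normal subgroup N into itself, then the only cosets of N it fixes are those in N: a fixed coset xN forces x ∈ N. -/
theorem result {G : Type*} [Group G] [Finite G] (φ : G ≃* G)
    (hφ : MonoidHom.FixedPointFree (φ : G →* G)) (N : Subgroup G) [N.Normal] (hN : ∀ n ∈ N, φ n ∈ N)
    (x : G) (hx : (φ x)⁻¹ * x ∈ N) : x ∈ N := by
  classical
  -- ψ g = (φ g)⁻¹ * g is injective on G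
  have hinj : ∀ a b : G, (φ a)⁻¹ * a = (φ b)⁻¹ * b → a = b := by
    intro a b h
    have h1 : φ (b * a⁻¹) = b * a⁻¹ := by
      rw [map_mul, map_inv]
      have h3 : φ b * ((φ a)⁻¹ * a) = φ b * ((φ b)⁻¹ * b) := by rw [h]
      rw [mul_inv_cancel_left] at h3
      have h4 : φ b * (φ a)⁻¹ = (φ b * ((φ a)⁻¹ * a)) * a⁻¹ := by group
      rw [h4, h3]
    have h2 := hφ _ h1
    have : b = a := by
      have := mul_inv_eq_one.mp h2
      exact this
    exact this.symm
  -- restricted to N it is an injective self-map, hence surjective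
  let ψ : N → N := fun n => ⟨(φ n)⁻¹ * n, N.mul_mem (N.inv_mem (hN n n.2)) n.2⟩
  have hψinj : Function.Injective ψ := by
    intro a b h
    have := congrArg Subtype.val h
    simp only [ψ] at this
    exact Subtype.ext (hinj _ _ this)
  have hψsurj : Function.Surjective ψ := Finite.surjective_of_injective hψinj
  obtain ⟨n, hn⟩ := hψsurj ⟨_, hx⟩
  have := congrArg Subtype.val hn
  simp only [ψ] at this
  have hxn := hinj _ _ this
  rw [← hxn]; exact n.2

end Cfsg.Agent.S0032
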