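import Cfsg.Statements.S1460
import Cfsg.Agent.Lib.Helper1.Coprime

set_option autoImplicit false
open Cfsg

namespace Cfsg.Agent.S1460

open Cfsg.Agent.Lib.Helper1
open Pointwise
open scoped commutatorElement

/-- the fusion statement: an element conjugating `H` into `U` is a product `u * c` -/
theorem fusion {G : Type*} [Group G] [Finite G] [Group.IsSolvable G] (K U H : Subgroup G) [K.Normal]
    (hKU : K ⊔ U = ⊤) (hH : H ≤ U) (hcop : (Nat.card H).Coprime (Nat.card K)) (g : G)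
    (hg : H.map (MulAut.conj g).toMonoidHom ≤ U) :
    ∃ u ∈ U, ∃ c ∈ K ⊓ Subgroup.centralizer (H : Set G), g = u * c := by
  have hgtop : g ∈ U ⊔ K := by rw [sup_comm, hKU]; exact Subgroup.mem_top g
  obtain ⟨u, hu, k, hk, rfl⟩ := Subgroup.mem_sup_of_normal_right.mp hgtop
  -- `k H k⁻¹ ≤ U`
  have hkH : ∀ h ∈ H, k * h * k⁻¹ ∈ U := by
    intro h hh
    have h1 : (u * k) * h * (u * k)⁻¹ ∈ U := hg (Subgroup.mem_map.mpr ⟨h, hh, by simp [MulAut.conj_apply, mul_assoc]⟩)
    have h2 : k * h * k⁻¹ = u⁻¹ * ((u * k) * h * (u * k)⁻¹) * u := by group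
    rw [h2]
    exact U.mul_mem (U.mul_mem (U.inv_mem hu) h1) hu
  -- coprime action of `H` on `K ⊓ U`
  have hact : CoprimeAct H (K ⊓ U) :=
    { norm := by
        apply le_normalizer_of_forall_conj_mem
        intro x hx n hn
        exact Subgroup.mem_inf.mpr ⟨(inferInstance : K.Normal).conj_mem n hn.1 x,
          U.mul_mem (U.mul_mem (hH hx) hn.2) (U.inv_mem (hH hx))⟩
      cop := Nat.Coprime.coprime_dvd_right (Subgroup.card_dvd_of_le inf_le_left) hcop
      solv := Or.inl inferInstance }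
  have hactK : CoprimeAct H K :=
    { norm := by
        rw [Subgroup.normalizer_eq_top]; exact le_top
      cop := hcop
      solv := Or.inl inferInstance }
  have hB : MulAut.conj k • H ≤ H ⊔ (K ⊓ U) := by
    rw [conj_smul_le_iff]
    intro h hh
    have h1 : k * h * k⁻¹ = (k * (h * k⁻¹ * h⁻¹)) * h := by group
    have h2 : k * (h * k⁻¹ * h⁻¹) ∈ K :=
      K.mul_mem hk ((inferInstance : K.Normal).conj_mem _ (K.inv_mem hk) h)
    have h3 : k * (h * k⁻¹ * h⁻¹) ∈ U := by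
      have : k * (h * k⁻¹ * h⁻¹) = (k * h * k⁻¹) * h⁻¹ := by group
      rw [this]
      exact U.mul_mem (hkH h hh) (U.inv_mem (hH hh))
    rw [h1]
    exact Subgroup.mul_mem _ (Subgroup.mem_sup_right (Subgroup.mem_inf.mpr ⟨h2, h3⟩))
      (Subgroup.mem_sup_left hh)
  obtain ⟨w, hw, hwH⟩ := hact.exists_conj_eq _ hB (card_conj_smul _ _)
  -- `c = w⁻¹ k` normalizes, hence centralizes, `H`
  have hcN : w⁻¹ * k ∈ Subgroup.normalizer (H : Set G) := by
    rw [← conj_smul_eq_self_iff_mem_normalizer, map_mul, mul_smul, ← hwH, ← mul_smul, ← map_mul,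
      inv_mul_cancel, map_one, one_smul]
  have hcK : w⁻¹ * k ∈ K := K.mul_mem (K.inv_mem hw.1) hk
  have hcC := hactK.mem_centralizer_of_mem_normalizer hcK hcN
  refine ⟨u * w, U.mul_mem hu hw.2, w⁻¹ * k, Subgroup.mem_inf.mpr ⟨hcK, hcC⟩, by group⟩

/-- the derived subgroup of `G = K U` lies in `U' K` -/
theorem commutator_le_sup {G : Type*} [Group G] (K U : Subgroup G) [K.Normal] (hKU : K ⊔ U = ⊤) :
    commutator G ≤ ⁅U, U⁆ ⊔ K := by
  rw [commutator_def, Subgroup.commutator_le]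
  intro g₁ _ g₂ _
  have hg₁ : g₁ ∈ U ⊔ K := by rw [sup_comm, hKU]; exact Subgroup.mem_top _
  have hg₂ : g₂ ∈ U ⊔ K := by rw [sup_comm, hKU]; exact Subgroup.mem_top _
  obtain ⟨u₁, hu₁, k₁, hk₁, rfl⟩ := Subgroup.mem_sup_of_normal_right.mp hg₁
  obtain ⟨u₂, hu₂, k₂, hk₂, rfl⟩ := Subgroup.mem_sup_of_normal_right.mp hg₂
  have h1 : ((⁅u₁ * k₁, u₂ * k₂⁆ * ⁅u₁, u₂⁆⁻¹ : G) : G ⧸ K) = 1 := by
    have e1 : ((k₁ : G) : G ⧸ K) = 1 := (QuotientGroup.eq_one_iff k₁).mpr hk₁
    have e2 : ((k₂ : G) : G ⧸ K) = 1 := (QuotientGroup.eq_one_iff k₂).mpr hk₂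
    simp only [commutatorElement_def, QuotientGroup.mk_mul, QuotientGroup.mk_inv, e1, e2]
    group
  have h2 := (QuotientGroup.eq_one_iff _).mp h1
  have h3 : ⁅u₁ * k₁, u₂ * k₂⁆ = (⁅u₁ * k₁, u₂ * k₂⁆ * ⁅u₁, u₂⁆⁻¹) * ⁅u₁, u₂⁆ := by group
  rw [h3]
  exact Subgroup.mul_mem _ (Subgroup.mem_sup_right h2)
    (Subgroup.mem_sup_left (Subgroup.commutator_mem_commutator hu₁ hu₂))

/-- Let G be a finite solvable group, K a normal subgroup and U a subgroup with G = KU, and H ≤ U a subgroup whose order is coprime to that of K. Then H ∩ G' = H ∩ U'; N_G(H) is generated by K ∩ C_G(H) and U ∩ N_G(H); and if gHg⁻¹ ≤ U for some g ∈ G then g = u c with u ∈ U and c ∈ K ∩ C_G(H). -/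
theorem result {G : Type*} [Group G] [Finite G] [Group.IsSolvable G] (K U H : Subgroup G) [K.Normal] (hKU : K ⊔ U = ⊤) (hH : H ≤ U) (hcop : (Nat.card H).Coprime (Nat.card K)) :
    H ⊓ commutator G = H ⊓ ⁅U, U⁆ ∧
      Subgroup.normalizer (H : Set G) = (K ⊓ Subgroup.centralizer (H : Set G)) ⊔ (U ⊓ Subgroup.normalizer (H : Set G)) ∧
      ∀ g : G, H.map (MulAut.conj g).toMonoidHom ≤ U → ∃ u ∈ U, ∃ c ∈ K ⊓ Subgroup.centralizer (H : Set G), g = u * c := by
  refine ⟨?_, ?_, fun g hg => fusion K U H hKU hH hcop g hg⟩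
  · apply le_antisymm
    · intro x hx
      obtain ⟨hxH, hxG⟩ := Subgroup.mem_inf.mp hx
      refine Subgroup.mem_inf.mpr ⟨hxH, ?_⟩
      obtain ⟨c, hc, k, hk, hck⟩ := Subgroup.mem_sup_of_normal_right.mp (commutator_le_sup K U hKU hxG)
      have hUU : ⁅U, U⁆ ≤ U := commutator_le_of_le_normalizer Subgroup.le_normalizer
      have hkU : k ∈ U := by
        have : k = c⁻¹ * x := by rw [← hck]; group
        rw [this]
        exact U.mul_mem (U.inv_mem (hUU hc)) (hH hxH)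
      -- pass to `U / U'`
      have hn : (⁅U, U⁆.subgroupOf U).Normal := by
        rw [Subgroup.normal_subgroupOf_iff_le_normalizer hUU]
        exact le_normalizer_commutator_left
      have hxk : ((⟨x, hH hxH⟩ : ↥U) : ↥U ⧸ ⁅U, U⁆.subgroupOf U) =
          ((⟨k, hkU⟩ : ↥U) : ↥U ⧸ ⁅U, U⁆.subgroupOf U) := by
        rw [QuotientGroup.eq]
        rw [Subgroup.mem_subgroupOf]
        have : ((⟨x, hH hxH⟩ : ↥U)⁻¹ * (⟨k, hkU⟩ : ↥U) : ↥U) = (⟨x⁻¹ * k, U.mul_mem (U.inv_mem (hH hxH)) hkU⟩ : ↥U) := rfl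
        rw [this]
        show x⁻¹ * k ∈ ⁅U, U⁆
        have h5 : x⁻¹ * k = k⁻¹ * c⁻¹ * k := by rw [← hck]; group
        rw [h5]
        have := (Subgroup.mem_normalizer_iff.mp
          ((le_normalizer_commutator_left (K := U) (A := U)) (U.inv_mem hkU)) c⁻¹).mp
          (Subgroup.inv_mem _ hc)
        simpa using this
      have ho1 : orderOf ((⟨x, hH hxH⟩ : ↥U) : ↥U ⧸ ⁅U, U⁆.subgroupOf U) ∣ Nat.card H := by
        refine dvd_trans (orderOf_dvd_of_pow_eq_one ?_) (orderOf_dvd_natCard (⟨x, hxH⟩ : ↥H))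
        rw [← QuotientGroup.mk_pow]
        have : (⟨x, hH hxH⟩ : ↥U) ^ orderOf (⟨x, hxH⟩ : ↥H) = 1 := by
          apply Subtype.ext
          simp only [Subgroup.coe_pow, Subgroup.coe_one]
          rw [Subgroup.orderOf_mk]; exact pow_orderOf_eq_one x
        rw [this]; rfl
      have ho2 : orderOf ((⟨k, hkU⟩ : ↥U) : ↥U ⧸ ⁅U, U⁆.subgroupOf U) ∣ Nat.card K := by
        refine dvd_trans (orderOf_dvd_of_pow_eq_one ?_) (orderOf_dvd_natCard (⟨k, hk⟩ : ↥K))
        rw [← QuotientGroup.mk_pow]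
        have : (⟨k, hkU⟩ : ↥U) ^ orderOf (⟨k, hk⟩ : ↥K) = 1 := by
          apply Subtype.ext
          simp only [Subgroup.coe_pow, Subgroup.coe_one]
          rw [Subgroup.orderOf_mk]; exact pow_orderOf_eq_one k
        rw [this]; rfl
      rw [← hxk] at ho2
      have ho3 : orderOf ((⟨x, hH hxH⟩ : ↥U) : ↥U ⧸ ⁅U, U⁆.subgroupOf U) = 1 :=
        Nat.eq_one_of_dvd_coprimes hcop ho1 ho2
      have h6 := (QuotientGroup.eq_one_iff _).mp (orderOf_eq_one_iff.mp ho3)
      rwa [Subgroup.mem_subgroupOf] at h6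
    · apply inf_le_inf_left
      rw [commutator_def]
      exact Subgroup.commutator_mono le_top le_top
  · apply le_antisymm
    · intro g hg
      have hgU : H.map (MulAut.conj g).toMonoidHom ≤ U := by
        rintro _ ⟨h, hh, rfl⟩
        apply hH
        simpa [MulAut.conj_apply] using (Subgroup.mem_normalizer_iff.mp hg h).mp hh
      obtain ⟨u, hu, c, hc, rfl⟩ := fusion K U H hKU hH hcop g hgU
      have hcN : c ∈ Subgroup.normalizer (H : Set G) :=
        Subgroup.centralizer_le_normalizer _ hc.2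
      have huN : u ∈ Subgroup.normalizer (H : Set G) := by
        have : u = (u * c) * c⁻¹ := by group
        rw [this]
        exact Subgroup.mul_mem _ hg (Subgroup.inv_mem _ hcN)
      rw [sup_comm]
      exact Subgroup.mul_mem_sup (Subgroup.mem_inf.mpr ⟨hu, huN⟩) hc
    · apply sup_le
      · exact inf_le_right.trans (Subgroup.centralizer_le_normalizer _)
      · exact inf_le_right

end Cfsg.Agent.S1460
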