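import Cfsg.Statements.S1461
import Cfsg.Agent.Lib.Helper10.PLength
import Cfsg.Agent.S1460

set_option autoImplicit false
open Cfsg

namespace Cfsg.Agent.S1461

open Cfsg.Agent.Lib.Helper10 Cfsg.Agent.Lib.Helper1
open Pointwise

theorem fusion_aux {G : Type*} [Group G] [Finite G] (p : ℕ) [Fact p.Prime]
    (hpl : Cfsg.PLengthLE p 1 G) (S : Sylow p G) (Y : Set G) (x : G) (hY : Y ⊆ (S : Subgroup G))
    (hx : (fun y => x * y * x⁻¹) '' Y ⊆ (S : Subgroup G)) :
    ∃ g ∈ Subgroup.normalizer ((S : Subgroup G) : Set G), ∃ c ∈ Subgroup.centralizer Y, g * c = x := by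
  have htop := normalizer_sylow_sup_pPrimeCore p hpl S
  have hxtop : x ∈ Subgroup.normalizer ((S : Subgroup G) : Set G) ⊔ Cfsg.pPrimeCore p G := by
    rw [sup_comm, htop]; exact Subgroup.mem_top x
  obtain ⟨u, hu, k, hk, rfl⟩ := Subgroup.mem_sup_of_normal_right.mp hxtop
  refine ⟨u, hu, k, ?_, rfl⟩
  have hdisj : (S : Subgroup G) ⊓ Cfsg.pPrimeCore p G = ⊥ := by
    apply disjoint_iff.mp
    apply Subgroup.disjoint_of_coprime_natCard
    obtain ⟨n, hn⟩ := IsPGroup.iff_card.mp S.2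
    rw [hn]
    exact Nat.Coprime.pow_left n (pPrimeCore_coprime p).symm
  rw [Subgroup.mem_centralizer_iff]
  intro y hy
  have h1 : u * k * y * (u * k)⁻¹ ∈ (S : Subgroup G) := hx ⟨y, hy, rfl⟩
  have h2 : k * y * k⁻¹ ∈ (S : Subgroup G) := by
    rw [Subgroup.mem_normalizer_iff.mp hu (k * y * k⁻¹)]
    have : u * (k * y * k⁻¹) * u⁻¹ = u * k * y * (u * k)⁻¹ := by group
    rw [this]; exact h1
  have h3 : k * y * k⁻¹ * y⁻¹ ∈ (S : Subgroup G) ⊓ Cfsg.pPrimeCore p G := by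
    refine Subgroup.mem_inf.mpr ⟨Subgroup.mul_mem _ h2 (Subgroup.inv_mem _ (hY hy)), ?_⟩
    have : k * y * k⁻¹ * y⁻¹ = k * (y * k⁻¹ * y⁻¹) := by group
    rw [this]
    exact Subgroup.mul_mem _ hk ((inferInstance : (Cfsg.pPrimeCore p G).Normal).conj_mem _
      (Subgroup.inv_mem _ hk) y)
  rw [hdisj, Subgroup.mem_bot] at h3
  have h4 : k * y * k⁻¹ * y⁻¹ * (y * k) = y * k := by rw [h3, one_mul]
  rw [← h4]; group

/-- Let G be a finite solvable group, p a prime with G = O_{p',p,p'}(G), and S a Sylow p-subgroup. Then: if S ≤ G' then S ≤ [N_G(S), N_G(S)]; if Y ⊆ S and xYx⁻¹ ⊆ S then x = g c for some g ∈ N_G(S) and c centralizing Y; and for every p-subgroup Q there is x ∈ C_G(Q ∩ S) with xQx⁻¹ ≤ S. -/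
theorem result {G : Type*} [Group G] [Finite G] [Group.IsSolvable G] (p : ℕ) [Fact p.Prime] (hpl : Cfsg.PLengthLE p 1 G) (S : Sylow p G) :
    ((S : Subgroup G) ≤ commutator G → (S : Subgroup G) ≤ ⁅Subgroup.normalizer ((S : Subgroup G) : Set G), Subgroup.normalizer ((S : Subgroup G) : Set G)⁆) ∧
      (∀ (Y : Set G) (x : G), Y ⊆ (S : Subgroup G) → (fun y => x * y * x⁻¹) '' Y ⊆ (S : Subgroup G) →
        ∃ g ∈ Subgroup.normalizer ((S : Subgroup G) : Set G), ∃ c ∈ Subgroup.centralizer Y, g * c = x) ∧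
      ∀ Q : Subgroup G, IsPGroup p Q → ∃ x ∈ Subgroup.centralizer ((Q ⊓ (S : Subgroup G) : Subgroup G) : Set G), Q.map (MulAut.conj x).toMonoidHom ≤ (S : Subgroup G) := by
  refine ⟨?_, fun Y x hY hx => fusion_aux p hpl S Y x hY hx, ?_⟩
  · intro hSG
    have hcop : (Nat.card ↥(S : Subgroup G)).Coprime (Nat.card ↥(Cfsg.pPrimeCore p G)) := by
      obtain ⟨n, hn⟩ := IsPGroup.iff_card.mp S.2
      rw [hn]
      exact Nat.Coprime.pow_left n (pPrimeCore_coprime p).symm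
    have h1 := (Cfsg.Agent.S1460.result (Cfsg.pPrimeCore p G)
      (Subgroup.normalizer ((S : Subgroup G) : Set G)) (S : Subgroup G)
      (normalizer_sylow_sup_pPrimeCore p hpl S) Subgroup.le_normalizer hcop).1
    have h2 : (S : Subgroup G) ≤ (S : Subgroup G) ⊓ commutator G := le_inf le_rfl hSG
    rw [h1] at h2
    exact h2.trans inf_le_right
  · intro Q hQ
    obtain ⟨S', hS'⟩ := hQ.exists_le_sylow
    obtain ⟨g, rfl⟩ := MulAction.exists_smul_eq G S S'
    -- `g⁻¹ Q g ≤ S`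
    have hQS : ∀ q ∈ Q, g⁻¹ * q * g ∈ (S : Subgroup G) := by
      intro q hq
      have := hS' hq
      rw [Sylow.coe_subgroup_smul, Subgroup.mem_pointwise_smul_iff_inv_smul_mem] at this
      simpa [MulAut.smul_def, MulAut.conj_apply] using this
    obtain ⟨u, hu, c, hc, huc⟩ := fusion_aux p hpl S ((Q ⊓ (S : Subgroup G) : Subgroup G) : Set G) g⁻¹
      (fun y hy => (Subgroup.mem_inf.mp hy).2) (by
        rintro _ ⟨y, hy, rfl⟩
        have := hQS y (Subgroup.mem_inf.mp hy).1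
        simp only [inv_inv]
        exact this)
    refine ⟨c, hc, ?_⟩
    rintro _ ⟨q, hq, rfl⟩
    have h1 : g⁻¹ * q * g ∈ (S : Subgroup G) := hQS q hq
    have h2 : c * q * c⁻¹ = u⁻¹ * (g⁻¹ * q * g) * u := by
      have : c = u⁻¹ * g⁻¹ := by rw [← huc]; group
      rw [this]; group
    show (MulAut.conj c) q ∈ (S : Subgroup G)
    rw [MulAut.conj_apply, h2]
    have hu' : u⁻¹ ∈ Subgroup.normalizer ((S : Subgroup G) : Set G) := Subgroup.inv_mem _ hu
    have := (Subgroup.mem_normalizer_iff.mp hu' (g⁻¹ * q * g)).mp h1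
    simpa using this

end Cfsg.Agent.S1461
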