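import Cfsg.Statements.S1406
import Cfsg.Agent.Lib.Helper10.BGTen3

set_option autoImplicit false
open Cfsg

namespace Cfsg.Agent.S1406

open Cfsg.Agent.Lib.Helper10.BG Cfsg.Agent.Lib.Helper10
open Cfsg.Agent.Lib.Helper1 (CoprimeAct)

/-- In a minimal simple group of odd order, for a maximal subgroup M and an α(M)'-subgroup X of M with C_{M_α}(X) of rank ≥ 2, the subgroup C_M(X) lies in a unique maximal subgroup. -/
theorem result {G : Type*} [Group G] [Finite G] (hG : Cfsg.IsMinSimpleOddOrder G)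
    (M : Subgroup G) (hM : IsCoatom M) (X : Subgroup G) (hXM : X ≤ M) (hXα : ∀ p : ℕ, p.Prime → p ∣ Nat.card X → p ∉ Cfsg.alpha M)
    (hr : ¬ Cfsg.RankLE 1 ↥(Cfsg.alphaCore M ⊓ Subgroup.centralizer (X : Set G))) :
    Cfsg.InUniqueMaximal (M ⊓ Subgroup.centralizer (X : Set G)) := by
  unfold RankLE at hr
  push Not at hr
  obtain ⟨p, hp, hr1⟩ := hr
  have : Fact p.Prime := ⟨hp⟩
  obtain ⟨B, hBle, hBe, hBcard⟩ := Cfsg.Agent.S1400.exists_elementary_of_not_pRankLE hr1
  have hBA : B ≤ alphaCore M := hBle.trans inf_le_left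
  have hBX : B ≤ Subgroup.centralizer (X : Set G) := hBle.trans inf_le_right
  have hBp : IsPGroup p B := Cfsg.Agent.Lib.Lead.BGTrans.isPGroup_of_pow_eq_one hBe.2
  have hB1 : B ≠ ⊥ := by
    rintro rfl
    rw [Subgroup.card_bot, pow_one] at hBcard
    exact absurd hBcard (by have := hp.one_lt; omega)
  have hp2 : p ≠ 2 := prime_ne_two_of_pgroup hG hBp hB1
  obtain ⟨hHallOf, -⟩ := Cfsg.Agent.S1405.result hG M hM
  have hAM : alphaCore M ≤ M := hHallOf.1
  have hpα : p ∈ alpha M := by
    apply hHallOf.2.1 p hp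
    obtain ⟨k, hk⟩ := hBp.exists_card_eq
    have hk0 : k ≠ 0 := by
      rintro rfl
      rw [pow_zero] at hk
      exact hB1 (Subgroup.card_eq_one.mp hk)
    have h1 : p ∣ Nat.card B := by rw [hk]; exact dvd_pow_self p hk0
    exact h1.trans (Subgroup.card_dvd_of_le hBA)
  have hMA := le_normalizer_alphaCore M
  have hcop : (Nat.card X).Coprime (Nat.card (alphaCore M)) :=
    Nat.coprime_of_dvd (fun r hr h1 h2 => hXα r hr h1 (hHallOf.2.1 r hr h2))
  have hMsolv : Group.IsSolvable M := isSolvable_of_ne_top hG hM.1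
  have hAsolv : Group.IsSolvable (alphaCore M) :=
    isSolvable_of_ne_top hG (ne_top_of_le_isCoatom hM hAM)
  have hact : CoprimeAct X (alphaCore M) := ⟨hXM.trans hMA, hcop, Or.inr hAsolv⟩
  have hXB : X ≤ Subgroup.centralizer (B : Set G) := le_centralizer_symm hBX
  obtain ⟨P, hBP, hXP⟩ := hact.exists_invariant_sylow_ge B hBA hBp
    (hXB.trans (Subgroup.centralizer_le_normalizer _))
  obtain ⟨P₀, hP₀def⟩ : ∃ P₀ : Subgroup G, P₀ = (P : Subgroup (alphaCore M)).map
      (alphaCore M).subtype := ⟨_, rfl⟩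
  rw [← hP₀def] at hBP hXP
  have hP₀ : IsSylowIn p P₀ (alphaCore M) := by rw [hP₀def]; exact isSylowIn_of_sylow P
  have hr3 : ¬ PRankLE p 2 ↥P₀ :=
    not_pRankLE_sylow_of_not_pRankLE hP₀ (not_pRankLE_alphaCore hG hM hpα)
  have hXcop : (Nat.card X).Coprime p := by
    rw [Nat.coprime_comm, Nat.Prime.coprime_iff_not_dvd hp]
    exact fun h => hXα p hp h hpα
  have htop : M ⊓ Subgroup.centralizer (X : Set G) ≠ ⊤ := ne_top_of_le_isCoatom hM inf_le_left
  by_cases hCB : PRankLE p 2 ↥(Subgroup.centralizer (B : Set G))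
  · -- `B` is a maximal elementary abelian subgroup of order `p ^ 2`
    have hBC : B ≤ Subgroup.centralizer (B : Set G) :=
      Cfsg.Agent.S1400.le_centralizer_self_of_comm hBe.1
    have hcard2 : Nat.card B = p ^ 2 := by
      have h1 : ¬ p ^ 2 < Nat.card B := fun h => not_pRankLE_of_le hBC hBe h hCB
      obtain ⟨k, hk⟩ := hBp.exists_card_eq
      rw [hk] at hBcard h1 ⊢
      have h2 : 1 < k := (Nat.pow_lt_pow_iff_right hp.one_lt).mp hBcard
      have h3 : k ≤ 2 := by
        by_contra h3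
        push Not at h3
        exact h1 (Nat.pow_lt_pow_right hp.one_lt h3)
      have : k = 2 := by omega
      rw [this]
    have hmax : ∀ B' : Subgroup G, B' ≤ P₀ → IsElementaryAbelian p B' → B ≤ B' → B' = B := by
      intro B' _ hB'e hBB'
      have hB'C : B' ≤ Subgroup.centralizer (B : Set G) :=
        (Cfsg.Agent.S1400.le_centralizer_self_of_comm hB'e.1).trans (Subgroup.centralizer_le hBB')
      have h1 : ¬ p ^ 2 < Nat.card B' := fun h => not_pRankLE_of_le hB'C hB'e h hCB
      symm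
      apply Subgroup.eq_of_le_of_card_ge hBB'
      rw [hcard2]
      omega
    have h := le_centralizer_of_centralizes_max_elementary hp2 hP₀.isPGroup hr3 hBP hBe hcard2
      hmax hXcop hXP hBX
    apply inUniqueMaximal_of_not_pRankLE hG hp htop
    exact not_pRankLE_mono (le_inf (hP₀.le.trans hAM) h) hr3
  · have hBU : InUniqueMaximal B := by
      apply Cfsg.Agent.S1403.result hG B (Cfsg.Agent.Lib.Lead.BGTrans.pgroup_ne_top hG.2 hBp)
        (not_rankLE_of_le hp le_rfl hBe hBcard)
      right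
      exact fun h => hCB (h p hp)
    exact inUniqueMaximal_mono hBU (le_inf (hBA.trans hAM) hBX) htop

end Cfsg.Agent.S1406
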