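import Cfsg.Statements.S1407
import Cfsg.Agent.Lib.Helper10.BGTen3
import Cfsg.Agent.S1406

set_option autoImplicit false
open Cfsg

namespace Cfsg.Agent.S1407

open Cfsg.Agent.Lib.Helper10.BG Cfsg.Agent.Lib.Helper10

theorem centralizer_zpowers_eq {G : Type*} [Group G] (x : G) :
    Subgroup.centralizer ((Subgroup.zpowers x : Subgroup G) : Set G) =
      Subgroup.centralizer ({x} : Set G) := by
  apply le_antisymm
  · apply Subgroup.centralizer_le
    intro y hy
    rw [Set.mem_singleton_iff] at hy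
    rw [hy]
    exact Subgroup.mem_zpowers x
  · intro y hy
    rw [Subgroup.mem_centralizer_singleton_iff] at hy
    rw [Subgroup.mem_centralizer_iff]
    intro z hz
    obtain ⟨k, rfl⟩ := Subgroup.mem_zpowers_iff.mp hz
    have : Commute y x := hy
    exact (this.zpow_right k).eq.symm

/-- the image in `G` of the centre of a Sylow subgroup of `M`. -/
theorem center_image_eq {G : Type*} [Group G] {M : Subgroup G} (P : Subgroup M) :
    ((Subgroup.center ↥P).map P.subtype).map M.subtype =
      P.map M.subtype ⊓ Subgroup.centralizer ((P.map M.subtype : Subgroup G) : Set G) := by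
  ext x
  constructor
  · rintro ⟨_, ⟨z, hz, rfl⟩, rfl⟩
    refine ⟨⟨(z : M), z.2, rfl⟩, ?_⟩
    show M.subtype (P.subtype z) ∈ Subgroup.centralizer ((P.map M.subtype : Subgroup G) : Set G)
    rw [Subgroup.mem_centralizer_iff]
    rintro _ ⟨w, hw, rfl⟩
    have h1 := Subgroup.mem_center_iff.mp hz ⟨w, hw⟩
    have h2 := congrArg (fun t : P => ((t : M) : G)) h1
    exact h2
  · rintro ⟨⟨w, hw, rfl⟩, hc⟩
    refine ⟨w, ⟨⟨w, hw⟩, ?_, rfl⟩, rfl⟩
    show (⟨w, hw⟩ : P) ∈ Subgroup.center ↥P
    rw [Subgroup.mem_center_iff]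
    intro v
    apply Subtype.ext
    apply Subtype.ext
    have h1 := Subgroup.mem_centralizer_iff.mp hc ((v : M) : G) ⟨(v : M), v.2, rfl⟩
    exact h1

/-- In a minimal simple group of odd order, if M is maximal with M_α ≠ 1, p ∉ σ(M) and P is a Sylow p-subgroup of M, then some element x of order p in Z(P) has C_{M_α}(x) a Z-group and M is not the unique maximal subgroup containing C_G(x). -/
theorem result {G : Type*} [Group G] [Finite G] (hG : Cfsg.IsMinSimpleOddOrder G)
    (M : Subgroup G) (hM : IsCoatom M) (hMα : Cfsg.alphaCore M ≠ ⊥) (p : ℕ) [Fact p.Prime] (hpM : p ∣ Nat.card M) (hp : p ∉ Cfsg.sigma M) (P : Sylow p M) :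
    ∃ x : G, x ∈ ((Subgroup.center ↥(P : Subgroup M)).map (P : Subgroup M).subtype).map M.subtype ∧ orderOf x = p ∧
        IsZGroup ↥(Cfsg.alphaCore M ⊓ Subgroup.centralizer ({x} : Set G)) ∧
        ¬ (Subgroup.centralizer ({x} : Set G) ≤ M ∧ ∀ L : Subgroup G, IsCoatom L → Subgroup.centralizer ({x} : Set G) ≤ L → L = M) := by
  have hpp : p.Prime := Fact.out
  obtain ⟨P₀, hP₀def⟩ : ∃ P₀ : Subgroup G, P₀ = (P : Subgroup M).map M.subtype := ⟨_, rfl⟩
  obtain ⟨Z₀, hZ₀def⟩ : ∃ Z₀ : Subgroup G, Z₀ = ((Subgroup.center ↥(P : Subgroup M)).map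
      (P : Subgroup M).subtype).map M.subtype := ⟨_, rfl⟩
  rw [← hZ₀def]
  have hZ₀eq : Z₀ = P₀ ⊓ Subgroup.centralizer (P₀ : Set G) := by
    rw [hZ₀def, hP₀def]
    exact center_image_eq (P : Subgroup M)
  have hP₀ : IsSylowIn p P₀ M := by rw [hP₀def]; exact isSylowIn_of_sylow P
  have hpα : p ∉ alpha M := fun h => hp (alpha_subset_sigma hG hM h)
  by_contra hcon
  push Not at hcon
  -- every element of order `p` of `Z₀` has its centralizer only in `M`
  have hall : ∀ x ∈ Z₀, orderOf x = p → (Subgroup.centralizer ({x} : Set G) ≤ M ∧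
      ∀ L : Subgroup G, IsCoatom L → Subgroup.centralizer ({x} : Set G) ≤ L → L = M) := by
    intro x hxZ hox
    by_cases hZg : IsZGroup ↥(alphaCore M ⊓ Subgroup.centralizer ({x} : Set G))
    · exact hcon x hxZ hox hZg
    · rw [isZGroup_iff] at hZg
      push Not at hZg
      obtain ⟨q, hq, Q, hQnc⟩ := hZg
      have : Fact q.Prime := ⟨hq⟩
      have hx1 : x ≠ 1 := by
        rintro rfl
        rw [orderOf_one] at hox
        exact hpp.one_lt.ne hox
      have hxM : x ∈ M := by
        rw [hZ₀eq] at hxZ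
        exact hP₀.le hxZ.1
      -- `q` is odd
      have hQ1 : ((Q : Subgroup _).map (alphaCore M ⊓
          Subgroup.centralizer ({x} : Set G)).subtype) ≠ ⊥ := by
        intro h
        apply hQnc
        have h1 : (Q : Subgroup ↥(alphaCore M ⊓ Subgroup.centralizer ({x} : Set G))) = ⊥ := by
          rw [eq_bot_iff]
          intro y hy
          have h2 : ((y : ↥(alphaCore M ⊓ Subgroup.centralizer ({x} : Set G))) : G) ∈
              (⊥ : Subgroup G) := by
            rw [← h]; exact ⟨y, hy, rfl⟩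
          rw [Subgroup.mem_bot] at h2 ⊢
          exact Subtype.ext h2
        rw [h1]
        exact isCyclic_of_subsingleton
      have hq2 : q ≠ 2 := prime_ne_two_of_pgroup hG (Q.2.map _) hQ1
      have hr1 : ¬ PRankLE q 1 ↥(Q : Subgroup ↥(alphaCore M ⊓
          Subgroup.centralizer ({x} : Set G))) :=
        not_pRankLE_one_of_not_isCyclic hq2 Q.2 hQnc
      have hr2 : ¬ PRankLE q 1 ↥(alphaCore M ⊓ Subgroup.centralizer ({x} : Set G)) :=
        fun h => hr1 (pRankLE_of_injective (Subgroup.subtype _) (Subgroup.subtype_injective _) h)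
      have hr3 : ¬ RankLE 1 ↥(alphaCore M ⊓ Subgroup.centralizer
          ((Subgroup.zpowers x : Subgroup G) : Set G)) := by
        rw [centralizer_zpowers_eq]
        exact fun h => hr2 (h q hq)
      have hXα : ∀ r : ℕ, r.Prime → r ∣ Nat.card (Subgroup.zpowers x) → r ∉ alpha M := by
        intro r hr hrd
        rw [Nat.card_zpowers, hox] at hrd
        have : r = p := (Nat.prime_dvd_prime_iff_eq hr hpp).mp hrd
        rw [this]
        exact hpα
      have hU := Cfsg.Agent.S1406.result hG M hM (Subgroup.zpowers x)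
        (Subgroup.zpowers_le.mpr hxM) hXα hr3
      rw [centralizer_zpowers_eq] at hU
      obtain ⟨L, hL, hUL, huniq⟩ := inUniqueMaximal_exists hU
      have hML : M = L := huniq M hM inf_le_left
      have hCtop : Subgroup.centralizer ({x} : Set G) ≠ ⊤ := by
        intro h
        have hz1 : Subgroup.zpowers x ≠ ⊥ := fun h => hx1 (Subgroup.zpowers_eq_bot.mp h)
        have hz2 : Subgroup.zpowers x ≠ ⊤ := by
          apply Cfsg.Agent.Lib.Lead.BGTrans.pgroup_ne_top hG.2 (q := p)
          apply IsPGroup.of_card (n := 1)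
          rw [Nat.card_zpowers, hox, pow_one]
        apply Cfsg.Agent.Lib.Lead.BGTrans.normalizer_ne_top hG.2 hz1 hz2
        rw [eq_top_iff, ← h, ← centralizer_zpowers_eq]
        exact Subgroup.centralizer_le_normalizer _
      have hCL : Subgroup.centralizer ({x} : Set G) ≤ L :=
        le_of_unique_isCoatom huniq inf_le_right hCtop
      rw [hML]
      exact ⟨hCL, fun L' hL' hCL' => huniq L' hL' (inf_le_right.trans hCL')⟩
  -- an element of order `p` in `Z₀`
  have hPne : (P : Subgroup M) ≠ ⊥ := P.ne_bot_of_dvd_card hpM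
  have hnt : Nontrivial ↥(P : Subgroup M) := (Subgroup.nontrivial_iff_ne_bot _).mpr hPne
  have hcnt : Nontrivial (Subgroup.center ↥(P : Subgroup M)) := P.2.center_nontrivial
  have hZp : IsPGroup p (Subgroup.center ↥(P : Subgroup M)) := P.2.to_subgroup _
  have hpZ : p ∣ Nat.card (Subgroup.center ↥(P : Subgroup M)) := by
    obtain ⟨k, hk⟩ := hZp.exists_card_eq
    have hk0 : k ≠ 0 := by
      rintro rfl
      rw [pow_zero] at hk
      have := Finite.one_lt_card (α := Subgroup.center ↥(P : Subgroup M))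
      omega
    rw [hk]
    exact dvd_pow_self p hk0
  obtain ⟨z, hz⟩ := exists_prime_orderOf_dvd_card' (G := Subgroup.center ↥(P : Subgroup M)) p hpZ
  obtain ⟨x, hx⟩ : ∃ x : G, x = (((z : ↥(P : Subgroup M)) : M) : G) := ⟨_, rfl⟩
  have hxZ : x ∈ Z₀ := by
    rw [hZ₀def, hx]
    exact ⟨((z : ↥(P : Subgroup M)) : M), ⟨(z : ↥(P : Subgroup M)), z.2, rfl⟩, rfl⟩
  have hox : orderOf x = p := by
    rw [hx, Subgroup.orderOf_coe, Subgroup.orderOf_coe, Subgroup.orderOf_coe]
    exact hz
  -- `N(P₀) ≤ M`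
  have hNZ : Subgroup.normalizer (P₀ : Set G) ≤ Subgroup.normalizer (Z₀ : Set G) := by
    rw [hZ₀eq]
    exact le_normalizer_inf le_rfl (le_normalizer_centralizer le_rfl)
  have hNP : Subgroup.normalizer (P₀ : Set G) ≤ M := by
    intro g hg
    have hgx : g * x * g⁻¹ ∈ Z₀ := conj_mem_of_mem_normalizer (hNZ hg) hxZ
    have hogx : orderOf (g * x * g⁻¹) = p := by
      rw [← hox]
      exact (MulAut.conj g).orderOf_eq x
    have h1 := (hall (g * x * g⁻¹) hgx hogx).2 (M.map (MulAut.conj g).toMonoidHom)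
      (isCoatom_map_conj g hM) ?_
    · exact mem_of_map_conj_eq_self hG hM h1
    · intro y hy
      rw [Subgroup.mem_centralizer_singleton_iff] at hy
      have h2 : g⁻¹ * y * g ∈ Subgroup.centralizer ({x} : Set G) := by
        rw [Subgroup.mem_centralizer_singleton_iff]
        have h3 : g⁻¹ * y * g * x = g⁻¹ * (y * (g * x * g⁻¹)) * g := by group
        rw [h3, hy]
        group
      refine ⟨g⁻¹ * y * g, (hall x hxZ hox).1 h2, ?_⟩
      simp [mul_assoc]
  apply hp
  refine ⟨hpp, hpM, P, ?_⟩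
  rw [← hP₀def]
  exact hNP

end Cfsg.Agent.S1407
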