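import Cfsg.Statements.S1459
import Cfsg.Agent.Lib.Helper10.Basic
import Cfsg.Agent.Lib.Helper1.Coprime
import Cfsg.Agent.Lib.Helper1.CoprimeAbelian
import Cfsg.Agent.Lib.Helper1.Cores
import Cfsg.Agent.Lib.Helper1.Frattini

set_option autoImplicit false
open Cfsg

namespace Cfsg.Agent.S1459

open Cfsg.Agent.Lib.Helper10 Cfsg.Agent.Lib.Helper1
open scoped commutatorElement

/-- `[H, K]` is normal in `G = H K`. -/
theorem commutator_normal_of_sup_eq_top {G : Type*} [Group G] (H K : Subgroup G)
    (hHK : H ⊔ K = ⊤) : (⁅H, K⁆ : Subgroup G).Normal := by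
  rw [← Subgroup.normalizer_eq_top_iff, eq_top_iff, ← hHK]
  exact sup_le le_normalizer_commutator_left le_normalizer_commutator_right

/-- (a1): `H ≤ G'`, `H` normal with complement `K` in a solvable group: `H = [H, K]`. -/
theorem part_a1 {G : Type*} [Group G] [Finite G] [Group.IsSolvable G] (H K : Subgroup G)
    [H.Normal] (hc : Subgroup.IsComplement' H K) (hHG : H ≤ commutator G) : H = ⁅H, K⁆ := by
  have hHK : H ⊔ K = ⊤ := hc.sup_eq_top
  have hN : (⁅H, K⁆ : Subgroup G).Normal := commutator_normal_of_sup_eq_top H K hHK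
  have hNH : ⁅H, K⁆ ≤ H := Subgroup.commutator_le_left H K
  apply le_antisymm _ hNH
  -- notation
  set N : Subgroup G := ⁅H, K⁆ with hNdef
  set π := QuotientGroup.mk' N with hπ
  have hcomm : ∀ a ∈ H.map π, ∀ b ∈ K.map π, a * b = b * a := by
    rintro _ ⟨h, hh, rfl⟩ _ ⟨k, hk, rfl⟩
    rw [← commutatorElement_eq_one_iff_mul_comm, ← map_commutatorElement]
    exact (QuotientGroup.eq_one_iff _).mpr (Subgroup.commutator_mem_commutator hh hk)
  have hdisj : H.map π ⊓ K.map π = ⊥ := by
    rw [eq_bot_iff]
    rintro x ⟨⟨h, hh, rfl⟩, ⟨k, hk, hkx⟩⟩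
    have h1 : π (k⁻¹ * h) = 1 := by rw [map_mul, map_inv, hkx, inv_mul_cancel]
    have h2 : k⁻¹ * h ∈ N := (QuotientGroup.eq_one_iff _).mp h1
    have h3 : k ∈ H := by
      have h4 : k⁻¹ ∈ H := by
        have := H.mul_mem (hNH h2) (H.inv_mem hh)
        simpa using this
      simpa using H.inv_mem h4
    have h5 : k ∈ H ⊓ K := ⟨h3, hk⟩
    rw [hc.disjoint.eq_bot, Subgroup.mem_bot] at h5
    rw [Subgroup.mem_bot, ← hkx, h5, map_one]
  have hinj := prodHom_injective (H.map π) (K.map π) hcomm hdisj
  have hsurj : Function.Surjective (prodHom (H.map π) (K.map π) hcomm) := by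
    rw [← MonoidHom.range_eq_top, prodHom_range, ← Subgroup.map_sup, hHK,
      ← MonoidHom.range_eq_map, MonoidHom.range_eq_top]
    exact QuotientGroup.mk'_surjective N
  let e : ↥(H.map π) × ↥(K.map π) ≃* G ⧸ N :=
    MulEquiv.ofBijective (prodHom (H.map π) (K.map π) hcomm) ⟨hinj, hsurj⟩
  let ψ : G ⧸ N →* Abelianization ↥(H.map π) :=
    (Abelianization.of).comp ((MonoidHom.fst ↥(H.map π) ↥(K.map π)).comp e.symm.toMonoidHom)
  have hψ : ∀ (h : G) (hh : h ∈ H), ψ (π h) = Abelianization.of ⟨π h, Subgroup.mem_map_of_mem π hh⟩ := by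
    intro h hh
    have h1 : e (⟨π h, Subgroup.mem_map_of_mem π hh⟩, 1) = π h := by
      show prodHom (H.map π) (K.map π) hcomm (⟨π h, Subgroup.mem_map_of_mem π hh⟩, 1) = π h
      rw [prodHom_apply]
      simp
    have h2 : e.symm (π h) = (⟨π h, Subgroup.mem_map_of_mem π hh⟩, 1) :=
      e.symm_apply_eq.mpr h1.symm
    show Abelianization.of ((e.symm (π h)).1) = _
    rw [h2]
  have hker : commutator (G ⧸ N) ≤ ψ.ker := Abelianization.commutator_subset_ker ψ
  have hall : ∀ x : ↥(H.map π), x ∈ commutator ↥(H.map π) := by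
    rintro ⟨_, h, hh, rfl⟩
    have h1 : π h ∈ commutator (G ⧸ N) := by
      have h2 : h ∈ commutator G := hHG hh
      rw [commutator_def] at h2 ⊢
      have h3 := Subgroup.mem_map_of_mem π h2
      rw [Subgroup.map_commutator] at h3
      have htop : (⊤ : Subgroup G).map π = ⊤ := by
        rw [← MonoidHom.range_eq_map, MonoidHom.range_eq_top]
        exact QuotientGroup.mk'_surjective N
      rwa [htop] at h3
    have h4 := hker h1
    rw [MonoidHom.mem_ker, hψ h hh] at h4
    have h5 : (⟨π h, Subgroup.mem_map_of_mem π hh⟩ : ↥(H.map π)) ∈ (Abelianization.of).ker :=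
      MonoidHom.mem_ker.mpr h4
    rwa [Abelianization.ker_of] at h5
  have htop : commutator ↥(H.map π) = ⊤ := by
    rw [eq_top_iff]
    intro x _
    exact hall x
  have hsub : Subsingleton ↥(H.map π) := by
    by_contra hns
    rw [not_subsingleton_iff_nontrivial] at hns
    have := Group.IsSolvable.commutator_lt_top_of_nontrivial ↥(H.map π)
    rw [htop] at this
    exact lt_irrefl _ this
  intro h hh
  have h1 : (⟨π h, Subgroup.mem_map_of_mem π hh⟩ : ↥(H.map π)) = 1 := Subsingleton.elim _ _
  have h2 : π h = 1 := congrArg Subtype.val h1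
  exact (QuotientGroup.eq_one_iff _).mp h2

/-- (a2): coprime action, `H = [H, K]`: `C_H(K) ≤ H'`. -/
theorem part_a2 {G : Type*} [Group G] [Finite G] (H K : Subgroup G) [H.Normal]
    (hcop : (Nat.card H).Coprime (Nat.card K)) (hHK : H = ⁅H, K⁆) :
    H ⊓ Subgroup.centralizer (K : Set G) ≤ ⁅H, H⁆ := by
  have hD : (⁅H, H⁆ : Subgroup G).Normal := Subgroup.commutator_normal H H
  set D : Subgroup G := ⁅H, H⁆ with hDdef
  set π := QuotientGroup.mk' D with hπ
  have hsurj : Function.Surjective π := QuotientGroup.mk'_surjective D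
  have hVc : IsMulCommutative ↥(H.map π) := by
    refine ⟨⟨?_⟩⟩
    rintro ⟨_, h₁, hh₁, rfl⟩ ⟨_, h₂, hh₂, rfl⟩
    apply Subtype.ext
    show π h₁ * π h₂ = π h₂ * π h₁
    rw [← commutatorElement_eq_one_iff_mul_comm, ← map_commutatorElement]
    exact (QuotientGroup.eq_one_iff _).mpr (Subgroup.commutator_mem_commutator hh₁ hh₂)
  have hVn : (H.map π).Normal := Subgroup.Normal.map inferInstance π hsurj
  have hAV : K.map π ≤ Subgroup.normalizer ((H.map π : Subgroup (G ⧸ D)) : Set (G ⧸ D)) := by
    rw [Subgroup.normalizer_eq_top]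
    exact le_top
  have hcop' : (Nat.card ↥(K.map π)).Coprime (Nat.card ↥(H.map π)) :=
    Nat.Coprime.coprime_dvd_left (Subgroup.card_map_dvd K π)
      (Nat.Coprime.coprime_dvd_right (Subgroup.card_map_dvd H π) hcop.symm)
  have h1 := abelian_centralizer_inf_commutator_eq_bot (K.map π) (H.map π) hAV hcop'
  have h2 : ⁅H.map π, K.map π⁆ = H.map π := by
    rw [← Subgroup.map_commutator, ← hHK]
  rw [h2] at h1
  intro c hc
  obtain ⟨hcH, hcK⟩ := Subgroup.mem_inf.mp hc
  have h3 : π c ∈ (H.map π ⊓ Subgroup.centralizer ((K.map π : Subgroup (G ⧸ D)) : Set (G ⧸ D))) ⊓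
      H.map π := by
    have h4 : π c ∈ Subgroup.centralizer ((K.map π : Subgroup (G ⧸ D)) : Set (G ⧸ D)) := by
      rw [Subgroup.mem_centralizer_iff]
      rintro _ ⟨k, hk, rfl⟩
      rw [← map_mul, ← map_mul, (Subgroup.mem_centralizer_iff.mp hcK) k hk]
    exact ⟨⟨Subgroup.mem_map_of_mem π hcH, h4⟩, Subgroup.mem_map_of_mem π hcH⟩
  rw [h1, Subgroup.mem_bot] at h3
  exact (QuotientGroup.eq_one_iff _).mp h3

/-- an `r`-group whose derived subgroup has index `r` has order `r` -/
theorem card_eq_of_commutator_index_prime {P : Type*} [Group P] [Finite P] {r : ℕ} [Fact r.Prime]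
    (hP : IsPGroup r P) (hidx : (commutator P).index = r) : Nat.card P = r := by
  have hr : r.Prime := Fact.out
  have hco : IsCoatom (commutator P) := isCoatom_of_index_prime (by rw [hidx]; exact hr)
  have hle : commutator P ≤ frattini P := IsPGroup.commutator_le_frattini hP
  have hge : frattini P ≤ commutator P := frattini_le_coatom hco
  have heq : frattini P = commutator P := le_antisymm hge hle
  obtain ⟨x, hx⟩ : ∃ x, x ∉ commutator P := by
    by_contra hcon
    push Not at hcon
    exact hco.1 (eq_top_iff.mpr (fun x _ => hcon x))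
  have hsup : Subgroup.zpowers x ⊔ frattini P = ⊤ := by
    rw [heq]
    apply hco.2
    apply lt_of_le_of_ne le_sup_right
    intro h
    apply hx
    rw [h]
    exact (le_sup_left : Subgroup.zpowers x ≤ _) (Subgroup.mem_zpowers x)
  have htop : Subgroup.zpowers x = ⊤ := frattini_nongenerating hsup
  have hcomm : commutator P = ⊥ := by
    rw [commutator_def, Subgroup.commutator_eq_bot_iff_le_centralizer]
    intro a _
    rw [Subgroup.mem_centralizer_iff]
    intro b _
    have ha : a ∈ Subgroup.zpowers x := by rw [htop]; trivial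
    have hb : b ∈ Subgroup.zpowers x := by rw [htop]; trivial
    obtain ⟨i, rfl⟩ := Subgroup.mem_zpowers_iff.mp ha
    obtain ⟨j, rfl⟩ := Subgroup.mem_zpowers_iff.mp hb
    exact (zpow_mul_comm x j i)
  rw [hcomm, Subgroup.index_bot] at hidx
  exact hidx

/-- in a finite nilpotent group the index of `O_{r'}` is a power of `r` -/
theorem index_pPrimeCore_of_isNilpotent {N : Type*} [Group N] [Finite N] (hN : Group.IsNilpotent N)
    {r : ℕ} (hr : r.Prime) : ∃ k, (Cfsg.pPrimeCore r N).index = r ^ k := by
  refine ⟨_, Nat.eq_prime_pow_of_unique_prime_dvd Subgroup.index_ne_zero_of_finite ?_⟩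
  intro q hq hqd
  by_contra hqr
  have : Fact q.Prime := ⟨hq⟩
  obtain ⟨Y⟩ : Nonempty (Sylow q N) := inferInstance
  have hYn : (Y : Subgroup N).Normal :=
    ((Group.isNilpotent_of_finite_tfae (G := N)).out 0 3 rfl rfl |>.mp hN) q inferInstance Y
  have hYc : (Nat.card ↥(Y : Subgroup N)).Coprime r := by
    obtain ⟨a, ha⟩ := IsPGroup.iff_card.mp Y.isPGroup'
    rw [ha]
    exact Nat.Coprime.pow_left a ((Nat.coprime_primes hq hr).mpr hqr)
  have hYle : (Y : Subgroup N) ≤ Cfsg.pPrimeCore r N := le_pPrimeCore hYn hYc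
  have h1 : (Cfsg.pPrimeCore r N).index ∣ (Y : Subgroup N).index := Subgroup.index_dvd_of_le hYle
  exact Y.not_dvd_index (hqd.trans h1)

/-- (b1) -/
theorem part_b1 {G : Type*} [Group G] [Finite G] (hnil : Group.IsNilpotent ↥(commutator G))
    (hidx : (commutator G).index.Prime) :
    (Nat.card ↥(commutator G)).Coprime (commutator G).index := by
  have hfact : Fact (commutator G).index.Prime := ⟨hidx⟩
  obtain ⟨k, hk⟩ := index_pPrimeCore_of_isNilpotent hnil hidx
  have hOchar : (Cfsg.pPrimeCore (commutator G).index ↥(commutator G)).Characteristic :=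
    pPrimeCore_characteristic _
  have hQn : ((Cfsg.pPrimeCore (commutator G).index ↥(commutator G)).map
      (commutator G).subtype).Normal := ConjAct.normal_of_characteristic_of_normal
  have hQN : (Cfsg.pPrimeCore (commutator G).index ↥(commutator G)).map (commutator G).subtype ≤
      commutator G := Subgroup.map_subtype_le _
  have hQcard : Nat.card ↥((Cfsg.pPrimeCore (commutator G).index ↥(commutator G)).map
      (commutator G).subtype) = Nat.card ↥(Cfsg.pPrimeCore (commutator G).index ↥(commutator G)) :=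
    Subgroup.card_map_of_injective (commutator G).subtype_injective
  have hOcop : (Nat.card ↥(Cfsg.pPrimeCore (commutator G).index ↥(commutator G))).Coprime
      (commutator G).index := pPrimeCore_coprime _
  have hNcard : Nat.card ↥(commutator G) =
      Nat.card ↥(Cfsg.pPrimeCore (commutator G).index ↥(commutator G)) *
        (commutator G).index ^ k := by
    rw [← hk]
    exact (Subgroup.card_mul_index _).symm
  have hGcard : Nat.card G = Nat.card ↥(commutator G) * (commutator G).index :=
    (Subgroup.card_mul_index _).symm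
  generalize hQdef : (Cfsg.pPrimeCore (commutator G).index ↥(commutator G)).map
      (commutator G).subtype = Q at hQn hQN hQcard
  generalize hOdef : Nat.card ↥(Cfsg.pPrimeCore (commutator G).index ↥(commutator G)) = o at *
  have hPcard : Nat.card (G ⧸ Q) = (commutator G).index ^ (k + 1) := by
    have h1 := Subgroup.card_eq_card_quotient_mul_card_subgroup Q
    rw [hGcard, hNcard, hQcard] at h1
    have ho : 0 < o := by
      rw [← hOdef]
      exact Nat.card_pos
    have h2 : o * (commutator G).index ^ (k + 1) = o * Nat.card (G ⧸ Q) := by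
      rw [pow_succ, ← mul_assoc, h1, mul_comm]
    exact (Nat.eq_of_mul_eq_mul_left ho h2).symm
  have hP : IsPGroup (commutator G).index (G ⧸ Q) := IsPGroup.of_card hPcard
  have hcomm : commutator (G ⧸ Q) = (commutator G).map (QuotientGroup.mk' Q) := by
    have htop : (⊤ : Subgroup G).map (QuotientGroup.mk' Q) = ⊤ := by
      rw [← MonoidHom.range_eq_map, MonoidHom.range_eq_top]
      exact QuotientGroup.mk'_surjective Q
    rw [commutator_def, commutator_def, Subgroup.map_commutator, htop]
  have hidx' : (commutator (G ⧸ Q)).index = (commutator G).index := by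
    rw [hcomm, Subgroup.index_map_eq _ (QuotientGroup.mk'_surjective Q)
      (by rw [QuotientGroup.ker_mk']; exact hQN)]
  have h2 := card_eq_of_commutator_index_prime hP hidx'
  rw [hPcard] at h2
  have hk0 : k = 0 := by
    have h3 : (commutator G).index ^ (k + 1) = (commutator G).index ^ 1 := by rw [h2, pow_one]
    have := Nat.pow_right_injective hidx.two_le h3
    omega
  rw [hNcard, hk0, pow_zero, mul_one]
  exact hOcop

/-- Let G be a finite solvable group. (a) If H is a normal subgroup of order coprime to its index, K is a complement to H, and H ≤ G', then H = [H, K] and H ∩ C_G(K) ≤ [H, H]. (b) If G' is nilpotent and has prime index in G, then the order of G' is coprime to its index and G' = [G, K] (the subgroup generated by commutators of elements of G with elements of K) for every complement K of G'. -/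
theorem result {G : Type*} [Group G] [Finite G] [Group.IsSolvable G] :
    (∀ (H K : Subgroup G), H.Normal → (Nat.card H).Coprime H.index → Subgroup.IsComplement' H K → H ≤ commutator G →
        H = ⁅H, K⁆ ∧ H ⊓ Subgroup.centralizer (K : Set G) ≤ ⁅H, H⁆) ∧
      (Group.IsNilpotent ↥(commutator G) → (commutator G).index.Prime →
        (Nat.card ↥(commutator G)).Coprime (commutator G).index ∧
        ∀ K : Subgroup G, Subgroup.IsComplement' (commutator G) K → commutator G = ⁅(⊤ : Subgroup G), K⁆) := by
  refine ⟨?_, ?_⟩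
  · intro H K hHn hcop hc hHG
    have := hHn
    have h1 := part_a1 H K hc hHG
    refine ⟨h1, ?_⟩
    have hK : Nat.card ↥K = H.index := by
      have h2 := hc.card_mul_card
      have h3 := Subgroup.card_mul_index H
      have hpos : 0 < Nat.card ↥H := Nat.card_pos
      rw [← h3] at h2
      exact Nat.eq_of_mul_eq_mul_left hpos h2
    rw [← hK] at hcop
    exact part_a2 H K hcop h1
  · intro hnil hidx
    refine ⟨part_b1 hnil hidx, ?_⟩
    intro K hc
    have h1 := part_a1 (commutator G) K hc le_rfl
    apply le_antisymm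
    · conv_lhs => rw [h1]
      exact Subgroup.commutator_mono le_top le_rfl
    · rw [commutator_def]
      exact Subgroup.commutator_mono le_rfl le_top

end Cfsg.Agent.S1459
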