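import Cfsg.Statements.S1415
import Cfsg.Agent.Lib.Helper10.BGTwelve
import Cfsg.Agent.S1405

set_option autoImplicit false
open Cfsg

namespace Cfsg.Agent.S1415

open Cfsg.Agent.Lib.Helper10.BG Cfsg.Agent.Lib.Helper10
open scoped commutatorElement

/-- Let G be a minimal simple group of odd order, M a maximal subgroup and E a complement to M_σ in M. Then the derived subgroup E' is nilpotent; every Hall τ₁(M)-subgroup of E is cyclic; and every Hall τ₃(M)-subgroup E₃ of E is cyclic, contained in E' and normal in E. -/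
theorem result {G : Type*} [Group G] [Finite G] (hG : Cfsg.IsMinSimpleOddOrder G)
    (M : Subgroup G) (hM : IsCoatom M) (E : Subgroup G) (hE : Cfsg.IsComplIn E (Cfsg.sigmaCore M) M) :
    Group.IsNilpotent ↥⁅E, E⁆ ∧
      (∀ E₁ : Subgroup G, Cfsg.IsPiHallOf (Cfsg.tau1 M) E₁ E → IsCyclic E₁) ∧
      ∀ E₃ : Subgroup G, Cfsg.IsPiHallOf (Cfsg.tau3 M) E₃ E → IsCyclic E₃ ∧ E₃ ≤ ⁅E, E⁆ ∧ E ≤ Subgroup.normalizer (E₃ : Set G) := by
  have hodd : Odd (Nat.card G) := hG.1
  obtain ⟨-, -, hασ, -, hnil⟩ := Cfsg.Agent.S1405.result hG M hM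
  have hEα : E ⊓ (piCore (alpha M) ↥M).map M.subtype = ⊥ := by
    apply le_bot_iff.mp
    rw [← hE.2.2.1]
    exact inf_le_inf_left E hασ
  have hinj := quotient_comp_inclusion_injective hE.1 (piCore (alpha M) ↥M) hEα
  have hnilq : Group.IsNilpotent ↥(commutator (↥M ⧸ piCore (alpha M) ↥M)) := by
    rw [← map_commutator_of_surjective (QuotientGroup.mk' (piCore (alpha M) ↥M))
      (QuotientGroup.mk'_surjective _)]
    exact hnil
  have hnilE' : Group.IsNilpotent ↥(commutator ↥E) :=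
    isNilpotent_commutator_of_injective _ hinj hnilq
  have hnilE : Group.IsNilpotent ↥⁅E, E⁆ := isNilpotent_commutator_subgroup hnilE'
  refine ⟨hnilE, ?_, ?_⟩
  · rintro E₁ ⟨hE₁E, hE₁π, -⟩
    have hE₁M : E₁ ≤ M := hE₁E.trans hE.1
    have h2 : E₁ ⊓ ⁅M, M⁆ = ⊥ := by
      rw [← Subgroup.card_eq_one]
      by_contra hne
      obtain ⟨p, hp, hpd⟩ := Nat.exists_prime_and_dvd hne
      have h3 := hE₁π p hp (hpd.trans (Subgroup.card_dvd_of_le inf_le_left))
      exact h3.2.2.2.1 (hpd.trans (Subgroup.card_dvd_of_le inf_le_right))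
    have hcomm : ∀ a ∈ E₁, ∀ b ∈ E₁, a * b = b * a := by
      intro a ha b hb
      have h1 : ⁅a, b⁆ ∈ E₁ ⊓ ⁅M, M⁆ :=
        Subgroup.mem_inf.mpr ⟨commutator_self_le E₁ (Subgroup.commutator_mem_commutator ha hb),
          Subgroup.commutator_mem_commutator (hE₁M ha) (hE₁M hb)⟩
      rw [h2, Subgroup.mem_bot, commutatorElement_eq_one_iff_mul_comm] at h1
      exact h1
    have hnE₁ : Group.IsNilpotent ↥E₁ := by
      let _i : CommGroup ↥E₁ :=
        { (inferInstance : Group ↥E₁) with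
          mul_comm := fun a b => Subtype.ext (hcomm a a.2 b b.2) }
      exact CommGroup.isNilpotent
    exact isCyclic_of_isNilpotent_of_pRankLE_one hodd hE₁M hnE₁
      (fun p hp hd => (hE₁π p hp hd).2.2.2.2)
  · rintro E₃ ⟨hE₃E, hE₃π, hE₃idx⟩
    have hE₃M : E₃ ≤ M := hE₃E.trans hE.1
    have hbij := quotient_comp_inclusion_bijective (piCore (sigma M) ↥M) hE
    have hkey : ∀ p : ℕ, p.Prime → p ∈ tau3 M → ∀ Q : Subgroup G, IsPGroup p Q → Q ≤ E →
        Q ≤ ⁅E, E⁆ := by
      intro p hp hpτ Q hQ hQE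
      have : Fact p.Prime := ⟨hp⟩
      have hp2 : p ≠ 2 :=
        prime_ne_two hG (hpτ.2.2.1.trans (Subgroup.card_subgroup_dvd_card _))
      have h1 : p ∣ Nat.card (commutator ↥M) := by
        rw [← card_commutator_subgroup]
        exact hpτ.2.2.1
      have h2 := card_commutator_dvd_quotient (piCore (sigma M) ↥M)
      have h3 : ¬ p ∣ Nat.card (piCore (sigma M) ↥M) := fun h =>
        hpτ.2.1 (Cfsg.Agent.Lib.Helper12.piCore_isPiNat (G := ↥M) (sigma M) p hp h)
      have h4 : p ∣ Nat.card (commutator ↥E) := by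
        rw [card_commutator_of_bijective _ hbij]
        exact Nat.Coprime.dvd_of_dvd_mul_right ((Nat.Prime.coprime_iff_not_dvd hp).mpr h3)
          (h1.trans h2)
      have P : Sylow p ↥E := default
      have hPc : IsCyclic ↥(P : Subgroup ↥E) := by
        have h5 : IsCyclic ↥((P : Subgroup ↥E).map E.subtype) :=
          isCyclic_of_pRankLE_one hp2 hpτ.2.2.2 ((Subgroup.map_subtype_le _).trans hE.1)
            (P.2.map _)
        exact ((P : Subgroup ↥E).equivMapOfInjective E.subtype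
          E.subtype_injective).isCyclic.mpr h5
      have h6 : ¬ p ∣ (commutator ↥E).index := by
        rcases Sylow.not_dvd_card_commutator_or_not_dvd_index_commutator P with h | h
        · exact absurd h4 h
        · exact h
      apply pgroup_le_of_not_dvd_relIndex (le_normalizer_commutator_self E) _ hQ hQE
      rw [relIndex_commutator_subgroup]
      exact h6
    have hE₃le : E₃ ≤ ⁅E, E⁆ := by
      apply le_of_forall_sylow_le
      intro q hq
      have : Fact q.Prime := ⟨hq⟩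
      obtain ⟨Q, hQ⟩ := exists_isSylowIn q E₃
      refine ⟨Q, hQ, ?_⟩
      by_cases hd : q ∣ Nat.card Q
      · exact hkey q hq (hE₃π q hq (hd.trans (Subgroup.card_dvd_of_le hQ.le))) Q hQ.isPGroup
          (hQ.le.trans hE₃E)
      · rw [eq_bot_of_isPGroup_of_not_dvd_card hQ.isPGroup hd]
        exact bot_le
    have hnE₃ : Group.IsNilpotent ↥E₃ := Cfsg.Agent.Lib.Helper10.BG.isNilpotent_of_le hE₃le hnilE
    refine ⟨isCyclic_of_isNilpotent_of_pRankLE_one hodd hE₃M hnE₃
      (fun p hp hd => (hE₃π p hp hd).2.2.2), hE₃le, ?_⟩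
    apply le_normalizer_of_hall_le_nilpotent hnilE (commutator_self_le E)
      (le_normalizer_commutator_self E) hE₃le
    intro q hq hd
    have : Fact q.Prime := ⟨hq⟩
    obtain ⟨Q, hQ⟩ := exists_isSylowIn q E₃
    exact ⟨Q, hQ.of_not_dvd_relIndex hE₃E (hE₃idx q hq (hE₃π q hq hd)), hQ.le⟩

end Cfsg.Agent.S1415
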