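import Cfsg.Statements.S0640
import Cfsg.Agent.Lib.Helper10.Rank2Solv
import Cfsg.Agent.Lib.Helper9.Rank

set_option autoImplicit false
open Cfsg

namespace Cfsg.Agent.S0640

open Cfsg.Agent.Lib.Helper10

/-- For odd p, a prime q ≠ p dividing the order of the automorphism group of a p-group of rank at most 2 divides p² - 1 and is less than p. -/
theorem result {R : Type*} [Group R] [Finite R] {p : ℕ} [Fact p.Prime] (hp : p ≠ 2) (hR : IsPGroup p R) (hrk : Cfsg.PRankLE p 2 R) (q : ℕ) (hq : q.Prime) (hqp : q ≠ p) (hdvd : q ∣ Nat.card (MulAut R)) : q ∣ p ^ 2 - 1 ∧ q < p := by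
  have hpp : p.Prime := Fact.out
  have hfin : Finite (MulAut R) := inferInstance
  have : Fact q.Prime := ⟨hq⟩
  obtain ⟨α, hα⟩ := exists_prime_orderOf_dvd_card' (G := MulAut R) q hdvd
  -- the holomorph
  obtain ⟨N, hN⟩ : ∃ N : Subgroup (R ⋊[MonoidHom.id (MulAut R)] MulAut R),
      N = (SemidirectProduct.inl : R →* R ⋊[MonoidHom.id (MulAut R)] MulAut R).range := ⟨_, rfl⟩
  have hfinG : Finite (R ⋊[MonoidHom.id (MulAut R)] MulAut R) :=
    Finite.of_equiv _ (SemidirectProduct.equivProd).symm
  have hNp : IsPGroup p ↥N := by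
    rw [hN]
    exact hR.of_surjective _ (MonoidHom.rangeRestrict_surjective _)
  have hNrk : Cfsg.PRankLE p 2 ↥N := by
    rw [hN]
    have e := MonoidHom.ofInjective
      (f := (SemidirectProduct.inl : R →* R ⋊[MonoidHom.id (MulAut R)] MulAut R))
      SemidirectProduct.inl_injective
    exact Cfsg.Agent.Lib.Helper9.pRankLE_of_injective e.symm.toMonoidHom e.symm.injective hrk
  have hconj : ∀ r : R, (SemidirectProduct.inr α : R ⋊[MonoidHom.id (MulAut R)] MulAut R) *
      SemidirectProduct.inl r * (SemidirectProduct.inr α)⁻¹ = SemidirectProduct.inl (α r) := by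
    intro r
    rw [← map_inv]
    exact (SemidirectProduct.inl_aut (φ := MonoidHom.id (MulAut R)) α r).symm
  have hconj' : ∀ r : R, (SemidirectProduct.inr α : R ⋊[MonoidHom.id (MulAut R)] MulAut R)⁻¹ *
      SemidirectProduct.inl r * (SemidirectProduct.inr α) = SemidirectProduct.inl (α⁻¹ r) := by
    intro r
    rw [← map_inv]
    exact (SemidirectProduct.inl_aut_inv (φ := MonoidHom.id (MulAut R)) α r).symm
  have hnorm : (SemidirectProduct.inr α : R ⋊[MonoidHom.id (MulAut R)] MulAut R) ∈
      Subgroup.normalizer (N : Set (R ⋊[MonoidHom.id (MulAut R)] MulAut R)) := by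
    rw [Subgroup.mem_normalizer_iff]
    intro x
    rw [hN]
    constructor
    · rintro ⟨r, rfl⟩
      rw [hconj]
      exact ⟨_, rfl⟩
    · rintro ⟨r, hr⟩
      refine ⟨α⁻¹ r, ?_⟩
      rw [← hconj', hr]
      group
  have horder : orderOf (SemidirectProduct.inr α : R ⋊[MonoidHom.id (MulAut R)] MulAut R) = q := by
    rw [orderOf_injective _ SemidirectProduct.inr_injective, hα]
  have hncent : (SemidirectProduct.inr α : R ⋊[MonoidHom.id (MulAut R)] MulAut R) ∉
      Subgroup.centralizer (N : Set (R ⋊[MonoidHom.id (MulAut R)] MulAut R)) := by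
    intro hc
    have h1 : α = 1 := by
      ext r
      have h2 := (Subgroup.mem_centralizer_iff.mp hc) (SemidirectProduct.inl r) (by
        rw [hN]
        exact ⟨r, rfl⟩)
      have h3 : (SemidirectProduct.inl (α r) : R ⋊[MonoidHom.id (MulAut R)] MulAut R) =
          SemidirectProduct.inl r := by
        rw [← hconj, ← h2]
        group
      exact SemidirectProduct.inl_injective h3
    rw [h1, orderOf_one] at hα
    exact hq.one_lt.ne hα
  have hdvd2 := prime_order_dvd_of_not_centralizing hp N hNp hNrk _ hnorm q hq hqp horder hncent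
  have h1 : p ^ 2 - p = p * (p - 1) := by
    rw [pow_two, Nat.mul_sub_one]
  have h2 : p ^ 2 - 1 = (p - 1) * (p + 1) := by
    have : 1 ≤ p := hpp.pos
    zify [this, Nat.one_le_pow 2 p this]
    ring
  have hfirst : q ∣ p ^ 2 - 1 := by
    rcases (Nat.Prime.dvd_mul hq).mp hdvd2 with h | h
    · exact h
    · rw [h1] at h
      rcases (Nat.Prime.dvd_mul hq).mp h with h' | h'
      · exact absurd ((Nat.prime_dvd_prime_iff_eq hq hpp).mp h') hqp
      · rw [h2]
        exact Dvd.dvd.mul_right h' _
  refine ⟨hfirst, ?_⟩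
  by_cases hq2 : q = 2
  · rw [hq2]
    have := hpp.two_le
    omega
  · exact lt_of_odd_prime_dvd_card_gl2 hp hq hq2 hqp hdvd2

end Cfsg.Agent.S0640
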