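import Cfsg.Statements.S1448
import Cfsg.Agent.S0640
import Cfsg.Agent.Lib.Helper10.MetaCrit
import Cfsg.Agent.Lib.Helper10.MetaAut
import Cfsg.Agent.Lib.Helper10.Rank2Omega
import Cfsg.Agent.Lib.Helper10.Rank2Extra

set_option autoImplicit false
open Cfsg

namespace Cfsg.Agent.S1448

open Cfsg.Agent.Lib.Helper10

open scoped commutatorElement

/-- Let G be a finite group, p an odd prime, R a nontrivial p-subgroup with no elementary abelian subgroup of order p ^ 3, and A a subgroup of odd order coprime to p normalizing R with [R, A] = R. Then 3 < p, and either R is abelian or R is generated by two elementwise-commuting subgroups R₁, R₂ with R₁ non-abelian of order p ^ 3 and exponent p, R₂ cyclic, and the elements of R₂ of order dividing p generating exactly [R₁, R₁]. -/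
theorem result {G : Type*} [Group G] [Finite G] (p : ℕ) [Fact p.Prime] (hp : p ≠ 2) (R A : Subgroup G) (hR : IsPGroup p R) (hR1 : R ≠ ⊥) (hr : Cfsg.PRankLE p 2 R)
    (hA : (A ≤ Subgroup.normalizer (R : Set G))) (hcop : (Nat.card A).Coprime p) (hAodd : Odd (Nat.card A)) (hRA : ⁅R, A⁆ = R) :
    3 < p ∧ (IsMulCommutative R ∨ ∃ R₁ R₂ : Subgroup G, R₁ ⊔ R₂ = R ∧ (∀ a ∈ R₁, ∀ b ∈ R₂, a * b = b * a) ∧
        ¬ IsMulCommutative R₁ ∧ Nat.card R₁ = p ^ 3 ∧ Monoid.exponent R₁ = p ∧ IsCyclic R₂ ∧
        Subgroup.closure {x : G | x ∈ R₂ ∧ x ^ p = 1} = ⁅R₁, R₁⁆) := by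
  have hpp : p.Prime := Fact.out
  -- the action of `A` on `R`
  obtain ⟨φ, hφ⟩ : ∃ φ : ↥A →* MulAut ↥R,
      φ = (R.normalizerMonoidHom).comp (Subgroup.inclusion hA) := ⟨_, rfl⟩
  have hφapp : ∀ (a : ↥A) (x : ↥R), ((φ a x : ↥R) : G) = (a : G) * x * (a : G)⁻¹ := by
    intro a x
    rw [hφ]
    rfl
  have hoddφ : ∀ a : ↥A, Odd (orderOf (φ a)) := by
    intro a
    have h1 : orderOf (φ a) ∣ orderOf a := orderOf_map_dvd φ a
    have h2 : orderOf a ∣ Nat.card A := orderOf_dvd_natCard a
    exact Odd.of_dvd_nat hAodd (h1.trans h2)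
  -- Step 0: `3 < p`
  have h3 : 3 < p := by
    have hne : φ.range ≠ ⊥ := by
      intro hbot
      apply hR1
      rw [← hRA, Subgroup.commutator_eq_bot_iff_le_centralizer]
      intro x hx
      rw [Subgroup.mem_centralizer_iff]
      intro a ha
      have h1 : φ ⟨a, ha⟩ ∈ φ.range := ⟨_, rfl⟩
      rw [hbot, Subgroup.mem_bot] at h1
      have h2 := hφapp ⟨a, ha⟩ ⟨x, hx⟩
      rw [h1] at h2
      simp only [MulAut.one_apply] at h2
      calc a * x = (a * x * a⁻¹) * a := by group
        _ = x * a := by rw [← h2]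
    have hc1 : Nat.card φ.range ≠ 1 := fun h => hne (Subgroup.card_eq_one.mp h)
    have hq : (Nat.card φ.range).minFac.Prime := Nat.minFac_prime hc1
    have hqd : (Nat.card φ.range).minFac ∣ Nat.card φ.range := Nat.minFac_dvd _
    have hqA : (Nat.card φ.range).minFac ∣ Nat.card A := hqd.trans (Subgroup.card_range_dvd φ)
    have hqM : (Nat.card φ.range).minFac ∣ Nat.card (MulAut ↥R) :=
      hqd.trans (Subgroup.card_subgroup_dvd_card _)
    have hqp : (Nat.card φ.range).minFac ≠ p := by
      intro h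
      have h1 : p ∣ Nat.card A := h ▸ hqA
      have h2 := Nat.Coprime.eq_one_of_dvd hcop.symm h1
      exact hpp.one_lt.ne' h2
    have hq2 : (Nat.card φ.range).minFac ≠ 2 := by
      intro h
      have h1 : 2 ∣ Nat.card A := h ▸ hqA
      rcases hAodd with ⟨k, hk⟩
      omega
    have h4 := Cfsg.Agent.S0640.result hp hR hr _ hq hqp hqM
    have h5 := hq.two_le
    omega
  refine ⟨h3, ?_⟩
  have hmul := mul_pow_eq_one_of_rank_two h3 hR hr
  by_cases hcard : Nat.card (omegaSet p hmul) ≤ p ^ 2
  · left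
    have hmeta : Cfsg.IsMetacyclic ↥R :=
      isMetacyclic_of_card_omegaOne_le h3 hR (by rw [← omegaSet_eq_omegaOne p hmul]; exact hcard)
    have hcomm := commute_of_metacyclic_commutator_eq hp R A hR hmeta hA hcop hRA
    exact ⟨⟨fun a b => Subtype.ext (hcomm a a.2 b b.2)⟩⟩
  · right
    push Not at hcard
    have hle3 := card_omegaSet_le hR hr hmul
    have hcard3 : Nat.card (omegaSet p hmul) = p ^ 3 := by
      obtain ⟨k, hk⟩ := (hR.to_subgroup (omegaSet p hmul)).exists_card_eq
      rw [hk] at hcard hle3 ⊢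
      have h1 : 2 < k := (Nat.pow_lt_pow_iff_right hpp.one_lt).mp hcard
      have h2 : k ≤ 3 := (Nat.pow_le_pow_iff_right hpp.one_lt).mp hle3
      have h4 : k = 3 := by omega
      rw [h4]
    have hna : ∃ a ∈ omegaSet p hmul, ∃ b ∈ omegaSet p hmul, a * b ≠ b * a := by
      by_contra hall
      push Not at hall
      have h1 := hr (omegaSet p hmul) ⟨⟨fun a b => Subtype.ext (hall a a.2 b b.2)⟩⟩
        (fun a ha => (mem_omegaSet p hmul a).mp ha)
      omega
    have hcube : OmegaCube p (omegaSet p hmul) :=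
      ⟨fun x => mem_omegaSet p hmul x, hcard3, hna⟩
    by_cases hB : ∃ r : ↥R, ∃ s ∈ omegaSet p hmul, ⁅s, r⁆ ∉ zS (omegaSet p hmul)
    · exfalso
      obtain ⟨T, hTc, hTne, hT⟩ := hcube.exists_char_of_noncentral hp hR hB
      have hle : ⁅R, A⁆ ≤ T.map R.subtype := by
        rw [Subgroup.commutator_le]
        intro x hx a ha
        refine ⟨(φ ⟨a, ha⟩ ⟨x, hx⟩ * (⟨x, hx⟩ : ↥R)⁻¹)⁻¹,
          inv_mem (hT (φ ⟨a, ha⟩) (hoddφ ⟨a, ha⟩) ⟨x, hx⟩), ?_⟩
        simp only [Subgroup.coe_subtype, Subgroup.coe_inv, Subgroup.coe_mul, hφapp]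
        rw [commutatorElement_def]
        group
      apply hTne
      rw [eq_top_iff]
      intro y _
      have h1 : (y : G) ∈ ⁅R, A⁆ := by rw [hRA]; exact y.2
      obtain ⟨t, ht, hty⟩ := hle h1
      have h2 : t = y := Subtype.ext hty
      rw [← h2]
      exact ht
    · push Not at hB
      have htop : omegaSet p hmul ⊔ Subgroup.centralizer ((omegaSet p hmul : Subgroup ↥R) : Set ↥R)
          = ⊤ := by
        rw [eq_top_iff]
        intro r _
        exact hcube.mem_sup_centralizer hR r (fun s hs => hB r s hs)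
      have hinj := Subgroup.subtype_injective R
      refine ⟨(omegaSet p hmul).map R.subtype,
        (Subgroup.centralizer ((omegaSet p hmul : Subgroup ↥R) : Set ↥R)).map R.subtype,
        ?_, ?_, ?_, ?_, ?_, ?_, ?_⟩
      · rw [← Subgroup.map_sup, htop, ← MonoidHom.range_eq_map, Subgroup.range_subtype]
      · rintro _ ⟨a, ha, rfl⟩ _ ⟨b, hb, rfl⟩
        rw [SetLike.mem_coe, Subgroup.mem_centralizer_iff] at hb
        have h1 := hb a ha
        exact congrArg Subtype.val h1
      · intro hc
        obtain ⟨a, ha, b, hb, hab⟩ := hna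
        apply hab
        have h1 := hc.is_comm.comm (⟨R.subtype a, Subgroup.mem_map_of_mem _ ha⟩ :
          ↥((omegaSet p hmul).map R.subtype)) ⟨R.subtype b, Subgroup.mem_map_of_mem _ hb⟩
        have h2 := congrArg Subtype.val h1
        simp only [Subgroup.coe_mul, Subgroup.coe_subtype] at h2
        exact Subtype.ext h2
      · rw [Subgroup.card_map_of_injective hinj]
        exact hcard3
      · rw [← Monoid.exponent_eq_of_mulEquiv
          ((omegaSet p hmul).equivMapOfInjective R.subtype hinj)]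
        exact hcube.exponent_eq
      · have hcyc := hcube.isCyclic_centralizer hp hR
        exact isCyclic_of_surjective
          ((Subgroup.centralizer ((omegaSet p hmul : Subgroup ↥R) : Set ↥R)).equivMapOfInjective
            R.subtype hinj) (MulEquiv.surjective _)
      · rw [← Subgroup.map_commutator, hcube.commutator_eq hR, ← hcube.closure_eq,
          MonoidHom.map_closure]
        congr 1
        ext x
        simp only [Set.mem_ofPred_eq, Set.mem_image, Subgroup.coe_subtype]
        constructor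
        · rintro ⟨⟨y, hy, rfl⟩, hxp⟩
          refine ⟨y, ⟨hy, Subtype.ext ?_⟩, rfl⟩
          simpa using hxp
        · rintro ⟨y, ⟨hy, hyp⟩, rfl⟩
          refine ⟨⟨y, hy, rfl⟩, ?_⟩
          have := congrArg Subtype.val hyp
          simpa using this

end Cfsg.Agent.S1448
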