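import Cfsg.Statements.S1420
import Cfsg.Agent.Lib.Helper19.BG12B
import Cfsg.Agent.Lib.Helper19.NilCover
import Cfsg.Agent.S1415
import Cfsg.Agent.S1400

set_option autoImplicit false
open Cfsg

namespace Cfsg.Agent.S1420

open Cfsg.Agent.Lib.Helper10.BG Cfsg.Agent.Lib.Helper10 Cfsg.Agent.Lib.Helper9.BGExc
open Cfsg.Agent.Lib.Helper19.BGCompl Cfsg.Agent.Lib.Helper19.BG12

/-- a finite nilpotent group all of whose Sylow subgroups are abelian is abelian. -/
theorem comm_of_nilpotent_of_sylow_comm {B : Type*} [Group B] [Finite B]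
    (hB : Group.IsNilpotent B)
    (h : ∀ (q : ℕ) [Fact q.Prime] (S : Sylow q B), ∀ a ∈ (S : Subgroup B),
      ∀ c ∈ (S : Subgroup B), a * c = c * a) : ∀ a b : B, a * b = b * a := by
  have hcen : Subgroup.center B = ⊤ := by
    apply Cfsg.Agent.Lib.Helper19.NilCover.eq_top_of_sylow_le
    intro q hq
    haveI : Fact q.Prime := ⟨hq⟩
    obtain ⟨S⟩ := (inferInstance : Nonempty (Sylow q B))
    refine ⟨S, fun a ha => ?_⟩
    have htop : Subgroup.centralizer ({a} : Set B) = ⊤ := by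
      apply Cfsg.Agent.Lib.Helper19.NilCover.eq_top_of_sylow_le' _ q
      · refine ⟨S, fun c hc => ?_⟩
        rw [Subgroup.mem_centralizer_iff]
        intro z hz
        rw [Set.mem_singleton_iff] at hz
        rw [hz]
        exact h q S a ha c hc
      · intro r hr hrq
        haveI : Fact r.Prime := ⟨hr⟩
        obtain ⟨T⟩ := (inferInstance : Nonempty (Sylow r B))
        refine ⟨T, fun c hc => ?_⟩
        rw [Subgroup.mem_centralizer_iff]
        intro z hz
        rw [Set.mem_singleton_iff] at hz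
        rw [hz]
        have hdis : Disjoint (S : Subgroup B) (T : Subgroup B) :=
          IsPGroup.disjoint_of_ne q r (Ne.symm hrq) _ _ S.isPGroup' T.isPGroup'
        exact (Subgroup.commute_of_normal_of_disjoint _ _
          (Cfsg.Agent.Lib.Helper19.NilCover.sylow_normal_of_nilpotent hB q S)
          (Cfsg.Agent.Lib.Helper19.NilCover.sylow_normal_of_nilpotent hB r T) hdis
          a c ha hc).eq
    rw [Subgroup.mem_center_iff]
    intro g
    have hg : g ∈ Subgroup.centralizer ({a} : Set B) := by rw [htop]; exact Subgroup.mem_top g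
    exact (Subgroup.mem_centralizer_iff.mp hg a rfl).symm
  intro a b
  have ha : a ∈ Subgroup.center B := by rw [hcen]; exact Subgroup.mem_top a
  exact (Subgroup.mem_center_iff.mp ha b).symm

variable {G : Type*} [Group G] [Finite G]

/-- every `q`-subgroup of `M`, `q ∉ σ(M)`, is abelian. -/
theorem pgroup_comm_of_not_mem_sigma (hG : IsMinSimpleOddOrder G) {M : Subgroup G}
    (hM : IsCoatom M) {q : ℕ} [Fact q.Prime] (hqσ : q ∉ sigma M) {Q : Subgroup G}
    (hQ : IsPGroup q Q) (hQM : Q ≤ M) : ∀ u ∈ Q, ∀ v ∈ Q, u * v = v * u := by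
  have hq : q.Prime := Fact.out
  by_cases hQ1 : Q = ⊥
  · intro u hu v hv
    rw [hQ1, Subgroup.mem_bot] at hu hv
    rw [hu, hv]
  have hq2 : q ≠ 2 := prime_ne_two_of_pgroup hG hQ hQ1
  have hr2 : PRankLE q 2 ↥M := alpha_rank M q hq (fun h => hqσ (alpha_subset_sigma hG hM h))
  by_cases hr1 : PRankLE q 1 ↥M
  · have hc : IsCyclic Q := isCyclic_of_pRankLE_one hq2 hr1 hQM hQ
    intro u hu v hv
    exact congrArg Subtype.val ((IsCyclic.commGroup (α := Q)).mul_comm ⟨u, hu⟩ ⟨v, hv⟩)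
  · exact tau2_pgroup_comm hG hM ⟨hq, hqσ, hr2, hr1⟩ hQ hQM

theorem part1 (hG : IsMinSimpleOddOrder G) {M : Subgroup G} (hM : IsCoatom M) (N : Subgroup G)
    (hNM : N ≤ M) (hN : Group.IsNilpotent N)
    (hπ : ∀ p : ℕ, p.Prime → p ∣ Nat.card N → p ∉ sigma M) : IsMulCommutative N := by
  refine ⟨⟨?_⟩⟩
  apply comm_of_nilpotent_of_sylow_comm hN
  intro q _ S a ha c hc
  have hq : q.Prime := Fact.out
  by_cases hd : q ∣ Nat.card N
  · have hQ : IsPGroup q ((S : Subgroup ↥N).map N.subtype) := S.isPGroup'.map _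
    have hQM : (S : Subgroup ↥N).map N.subtype ≤ M := (Subgroup.map_subtype_le _).trans hNM
    have := pgroup_comm_of_not_mem_sigma hG hM (hπ q hq hd) hQ hQM (a : G)
      (Subgroup.mem_map_of_mem _ ha) (c : G) (Subgroup.mem_map_of_mem _ hc)
    exact Subtype.ext this
  · have h1 : Nat.card (S : Subgroup ↥N) = 1 := by
      rw [S.card_eq_multiplicity, Nat.factorization_eq_zero_of_not_dvd hd, pow_zero]
    have hbot : (S : Subgroup ↥N) = ⊥ := Subgroup.card_eq_one.mp h1
    rw [hbot, Subgroup.mem_bot] at ha hc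
    rw [ha, hc]

theorem part3 (hG : IsMinSimpleOddOrder G) {M : Subgroup G} (hM : IsCoatom M) (p : ℕ)
    (P : Subgroup G) (hp : p ∈ sigma M) (hP : IsPGroup p P) (hPM : P ≤ M) (hnc : ¬ IsCyclic P) :
    Subgroup.normalizer (P : Set G) ≤ M := by
  haveI : Fact p.Prime := ⟨hp.1⟩
  have hP1 : P ≠ ⊥ := by
    rintro rfl
    exact hnc inferInstance
  have hp2 : p ≠ 2 := prime_ne_two_of_pgroup hG hP hP1
  have hr : ¬ PRankLE p 1 ↥P := not_pRankLE_one_of_not_isCyclic hp2 hP hnc
  obtain ⟨V, hVP, hVe, hVc⟩ := Cfsg.Agent.S1400.exists_elementary_of_not_pRankLE hr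
  have hVp : IsPGroup p V := isPGroup_of_elem hVe
  -- a subgroup of order `p ^ 2` of `V`
  obtain ⟨k, hk⟩ := hVp.exists_card_eq
  have hk2 : 2 ≤ k := by
    by_contra hcon
    have hk1 : k ≤ 1 := by omega
    have : p ^ k ≤ p ^ 1 := Nat.pow_le_pow_right hp.1.pos hk1
    omega
  obtain ⟨A', hA'c⟩ := Sylow.exists_subgroup_card_pow_prime (G := ↥V) p
    (show p ^ 2 ∣ Nat.card ↥V by rw [hk]; exact pow_dvd_pow p hk2)
  set A : Subgroup G := A'.map V.subtype with hA
  have hAV : A ≤ V := Subgroup.map_subtype_le _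
  have hAc : Nat.card A = p ^ 2 := by
    rw [hA, Subgroup.card_map_of_injective V.subtype_injective, hA'c]
  have hAe : IsElementaryAbelian p A := Cfsg.Agent.S1400.isElementaryAbelian_of_le hVe hAV
  have hAM : A ≤ M := (hAV.trans hVP).trans hPM
  have hCA : Subgroup.centralizer (A : Set G) ≤ M :=
    (Cfsg.Agent.S1416.result hG M hM p A ⟨hAM, hAe, hAc⟩).1
  have hσ := sigmaProp_of_mem_sigma hM hp
  intro n hn
  have hPn : P ≤ M.map (MulAut.conj n).toMonoidHom := by
    intro y hy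
    have h1 : n⁻¹ * y * n ∈ P := conj_mem_of_mem_normalizer' hn hy
    exact mem_cj.mpr (hPM h1)
  obtain ⟨c, hc, m, hm, rfl⟩ := sigma_conj hG hσ hP hP1 hPM hPn
  exact M.mul_mem (hCA (Subgroup.centralizer_le (hAV.trans hVP) hc)) hm

/-- the `q`-part of a cyclic group lies in any subgroup containing ... : a subgroup `T` contains
`x` as soon as it contains every prime power order power of `x`. -/
theorem mem_of_primary_parts_mem {x : G} {T : Subgroup G}
    (h : ∀ q : ℕ, q.Prime → ∀ y ∈ Subgroup.zpowers x, IsPGroup q (Subgroup.zpowers y) → y ∈ T) :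
    x ∈ T := by
  have hle : Subgroup.zpowers x ≤ T := by
    apply le_of_forall_sylow_le
    intro q hq
    haveI : Fact q.Prime := ⟨hq⟩
    obtain ⟨Q, hQ⟩ := exists_isSylowIn q (Subgroup.zpowers x)
    refine ⟨Q, hQ, ?_⟩
    intro y hy
    apply h q hq y (hQ.le hy)
    exact hQ.isPGroup.to_le (Subgroup.zpowers_le.mpr hy)
  exact hle (Subgroup.mem_zpowers x)

theorem part4 (hG : IsMinSimpleOddOrder G) {M : Subgroup G} (hM : IsCoatom M) {E : Subgroup G}
    (hE : IsComplIn E (sigmaCore M) M) (x : G) (hxM : x ∈ M) (hx1 : x ≠ 1)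
    (hτ : ∀ p : ℕ, p.Prime → p ∣ orderOf x → p ∈ tau2 M) (hxσ : x ∈ sigmaHat M) :
    Subgroup.centralizer ({x} : Set G) ≤ M ∧
      ∀ L : Subgroup G, IsCoatom L → Subgroup.centralizer ({x} : Set G) ≤ L → L = M := by
  obtain ⟨-, y, hyσ, hy1, hxy⟩ := hxσ
  -- move `x` into a complement
  have hK : ∀ q : ℕ, q.Prime → q ∣ Nat.card (Subgroup.zpowers x) → q ∉ sigma M := by
    intro q hq hd
    rw [Nat.card_zpowers] at hd
    exact (hτ q hq hd).2.1
  obtain ⟨m, hm, hxE⟩ := compl_dominance hG hM hE (Subgroup.zpowers_le.mpr hxM) hK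
  have hE₁ := compl_conj hE hm
  set E₁ := cj m E with hE₁def
  have hxE₁ : x ∈ E₁ := hxE (Subgroup.mem_zpowers x)
  -- a prime divisor `p` of the order of `x`
  have hox : orderOf x ≠ 1 := fun h => hx1 (orderOf_eq_one_iff.mp h)
  obtain ⟨p, hp, hpd⟩ := Nat.exists_prime_and_dvd hox
  haveI : Fact p.Prime := ⟨hp⟩
  have hpτ := hτ p hp hpd
  obtain ⟨A, hAE, hAe, hAc⟩ := tau2_elem_sq_compl hG hM hE₁ hpτ
  have hAM : A ≤ M := hAE.trans hE₁.1
  obtain ⟨⟨hEA, hXA⟩, -, -⟩ := Cfsg.Agent.S1418.result hG M hM E₁ hE₁ p hpτ A ⟨hAE, hAe, hAc⟩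
  -- `X = ⟨x ^ (o / p)⟩` has order `p` and lies in `A`
  obtain ⟨k, hk⟩ := hpd
  set z := x ^ k with hz
  have hk0 : k ≠ 0 := by
    rintro rfl
    rw [mul_zero] at hk
    exact (orderOf_pos x).ne' hk
  have hzo : orderOf z = p := by
    rw [hz, orderOf_pow' x hk0, hk, Nat.gcd_eq_right (Dvd.intro_left p rfl),
      Nat.mul_div_cancel _ (Nat.pos_of_ne_zero hk0)]
  have hz1 : z ≠ 1 := by
    intro h
    rw [h, orderOf_one] at hzo
    exact hp.one_lt.ne hzo
  have hzE : z ∈ E₁ := E₁.pow_mem hxE₁ k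
  have hXc : Nat.card (Subgroup.zpowers z) = p := by rw [Nat.card_zpowers, hzo]
  have hzA : Subgroup.zpowers z ≤ A := hXA _ (Subgroup.zpowers_le.mpr hzE) hXc
  have hX1 : Subgroup.zpowers z ≠ ⊥ := by
    intro h
    apply hz1
    have : z ∈ (⊥ : Subgroup G) := h ▸ Subgroup.mem_zpowers z
    exact Subgroup.mem_bot.mp this
  -- `y` centralizes `X`
  have hyz : y * z = z * y := by
    rw [hz]
    exact ((Commute.pow_right (show Commute y x from hxy.symm) k)).eq
  have hs : sigmaCore M ⊓ Subgroup.centralizer ((Subgroup.zpowers z : Subgroup G) : Set G) ≠ ⊥ := by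
    intro h
    apply hy1
    have : y ∈ sigmaCore M ⊓ Subgroup.centralizer ((Subgroup.zpowers z : Subgroup G) : Set G) := by
      refine Subgroup.mem_inf.mpr ⟨hyσ, ?_⟩
      rw [Subgroup.mem_centralizer_iff]
      intro w hw
      obtain ⟨i, rfl⟩ := Subgroup.mem_zpowers_iff.mp hw
      exact ((Commute.zpow_left (show Commute z y from hyz.symm) i)).eq
    rw [h] at this
    exact Subgroup.mem_bot.mp this
  obtain ⟨hCX, -⟩ := tau2_singular hG hM hpτ hAM hAe hAc hzA hX1 hs
  have hCx : Subgroup.centralizer ({x} : Set G) ≤ M := by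
    refine le_trans ?_ hCX
    intro c hc
    rw [Subgroup.mem_centralizer_iff] at hc ⊢
    intro w hw
    obtain ⟨i, rfl⟩ := Subgroup.mem_zpowers_iff.mp hw
    have h1 : Commute x c := hc x rfl
    rw [hz]
    exact ((h1.pow_left k).zpow_left i).eq
  refine ⟨hCx, ?_⟩
  -- uniqueness: `A ≤ C_G(x)`
  have hxA : x ∈ Subgroup.centralizer (A : Set G) := by
    apply mem_of_primary_parts_mem
    intro q hq w hw hwq
    haveI : Fact q.Prime := ⟨hq⟩
    have hwE : w ∈ E₁ := (Subgroup.zpowers_le.mpr hxE₁) hw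
    by_cases hw1 : w = 1
    · rw [hw1]; exact Subgroup.one_mem _
    by_cases hqp : q = p
    · subst hqp
      -- `A ⊔ ⟨w⟩` is a `q`-subgroup of `M`, hence abelian
      have hwN : Subgroup.zpowers w ≤ Subgroup.normalizer (A : Set G) :=
        Subgroup.zpowers_le.mpr (hEA hwE)
      have hsup : IsPGroup q (A ⊔ Subgroup.zpowers w : Subgroup G) := by
        rw [sup_comm]
        exact IsPGroup.to_sup_of_normal_right' hwq (isPGroup_of_elem hAe) hwN
      have hsupM : A ⊔ Subgroup.zpowers w ≤ M :=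
        sup_le hAM (Subgroup.zpowers_le.mpr (hE₁.1 hwE))
      have hc := tau2_pgroup_comm hG hM hpτ hsup hsupM
      rw [Subgroup.mem_centralizer_iff]
      intro a ha
      exact hc a (Subgroup.mem_sup_left ha) w (Subgroup.mem_sup_right (Subgroup.mem_zpowers w))
    · -- `q ∈ τ₂(M)`, `q ≠ p`
      have hqd : q ∣ orderOf x := by
        obtain ⟨n, hn⟩ := hwq.exists_card_eq
        rw [Nat.card_zpowers] at hn
        have hn0 : n ≠ 0 := by
          rintro rfl
          rw [pow_zero] at hn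
          exact hw1 (orderOf_eq_one_iff.mp hn)
        have h1 : q ∣ orderOf w := hn ▸ dvd_pow_self q hn0
        have h2 : orderOf w ∣ orderOf x := by
          obtain ⟨i, rfl⟩ := Subgroup.mem_zpowers_iff.mp hw
          exact orderOf_dvd_of_pow_eq_one (by rw [← zpow_natCast, ← zpow_mul, mul_comm, zpow_mul,
            zpow_natCast, pow_orderOf_eq_one, one_zpow])
        exact h1.trans h2
      exact tau2_cross_centralize hG hM hE₁ hpτ (hτ q hq hqd) (Ne.symm hqp) hAE hAe hAc hwE hwq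
  intro L hL hCL
  by_contra hne
  obtain ⟨-, -, -, -, he, -⟩ := Cfsg.Agent.S1417.result hG M hM p hpτ A ⟨hAM, hAe, hAc⟩
  have hAL : A ≤ L := by
    refine le_trans ?_ hCL
    intro a ha
    rw [Subgroup.mem_centralizer_iff]
    intro w hw
    rw [Set.mem_singleton_iff] at hw
    rw [hw]
    exact (Subgroup.mem_centralizer_iff.mp hxA a ha).symm
  have h1 := he L hL hne hAL
  apply hy1
  have : y ∈ sigmaCore M ⊓ L := by
    refine Subgroup.mem_inf.mpr ⟨hyσ, hCL ?_⟩
    rw [Subgroup.mem_centralizer_iff]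
    intro w hw
    rw [Set.mem_singleton_iff] at hw
    rw [hw]
    exact hxy
  rw [h1] at this
  exact Subgroup.mem_bot.mp this

/-- Let G be a minimal simple group of odd order, M a maximal subgroup and E a complement to M_σ in M. Then every nilpotent subgroup of M whose order involves no prime of σ(M) is abelian; E' is abelian; for p ∈ σ(M) and every noncyclic p-subgroup P of M, N_G(P) ≤ M; and if x ≠ 1 in M has every prime divisor of its order in τ₂(M) and centralizes a non-identity element of M_σ, then C_G(x) ≤ M and M is the unique maximal subgroup containing C_G(x). -/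
theorem result {G : Type*} [Group G] [Finite G] (hG : Cfsg.IsMinSimpleOddOrder G)
    (M : Subgroup G) (hM : IsCoatom M) (E : Subgroup G) (hE : Cfsg.IsComplIn E (Cfsg.sigmaCore M) M) :
    (∀ N : Subgroup G, N ≤ M → Group.IsNilpotent N → (∀ p : ℕ, p.Prime → p ∣ Nat.card N → p ∉ Cfsg.sigma M) → IsMulCommutative N) ∧
      IsMulCommutative ↥⁅E, E⁆ ∧
      (∀ (p : ℕ) (P : Subgroup G), p ∈ Cfsg.sigma M → IsPGroup p P → P ≤ M → ¬ IsCyclic P → Subgroup.normalizer (P : Set G) ≤ M) ∧
      ∀ x ∈ M, x ≠ 1 → (∀ p : ℕ, p.Prime → p ∣ orderOf x → p ∈ Cfsg.tau2 M) → x ∈ Cfsg.sigmaHat M →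
        Subgroup.centralizer ({x} : Set G) ≤ M ∧ ∀ L : Subgroup G, IsCoatom L → Subgroup.centralizer ({x} : Set G) ≤ L → L = M := by
  refine ⟨fun N hNM hN hπ => part1 hG hM N hNM hN hπ, ?_, fun p P hp hP hPM hnc =>
    part3 hG hM p P hp hP hPM hnc, fun x hxM hx1 hτ hxσ => part4 hG hM hE x hxM hx1 hτ hxσ⟩
  apply part1 hG hM _ ((commutator_self_le E).trans hE.1)
    (Cfsg.Agent.S1415.result hG M hM E hE).1
  intro q hq hd
  exact compl_not_mem_sigma hG hM hE hq (hd.trans (Subgroup.card_dvd_of_le (commutator_self_le E)))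

end Cfsg.Agent.S1420
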