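import Mathlib
import Cfsg.Statements.S1429
import Cfsg.Agent.S1417
import Cfsg.Agent.Lib.Helper9.BGExc16

set_option autoImplicit false
open Cfsg

namespace Cfsg.Agent.S1429

/-- Let G be a minimal simple group of odd order and M a maximal subgroup such that κ(M) is not the whole of the primes of M outside σ(M) (M is not of type P₁). Let p divide the order of M with p ∉ σ(M) ∪ κ(M), S a Sylow p-subgroup of M, and A the subgroup generated by the elements of S of order dividing p. Then A has order at most p ^ 2, M_σ ∩ C_G(A) = 1, and M_σ is nilpotent. -/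
theorem result {G : Type*} [Group G] [Finite G] (hG : Cfsg.IsMinSimpleOddOrder G)
    (M : Subgroup G) (hM : IsCoatom M) (hP1 : ¬ (∀ q : ℕ, q.Prime → q ∣ Nat.card M → q ∉ Cfsg.sigma M → q ∈ Cfsg.kappa M))
    (p : ℕ) [Fact p.Prime] (hpM : p ∣ Nat.card M) (hp : p ∉ Cfsg.sigma M ∪ Cfsg.kappa M) (S : Sylow p M) :
    Nat.card ↥(Subgroup.closure {x : G | x ∈ (S : Subgroup M).map M.subtype ∧ x ^ p = 1}) ≤ p ^ 2 ∧
      Cfsg.sigmaCore M ⊓ Subgroup.centralizer ((Subgroup.closure {x : G | x ∈ (S : Subgroup M).map M.subtype ∧ x ^ p = 1} : Subgroup G) : Set G) = ⊥ ∧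
      Group.IsNilpotent (Cfsg.sigmaCore M) := by
  classical
  have hpp : p.Prime := Fact.out
  have hpσ : p ∉ Cfsg.sigma M := fun h => hp (Or.inl h)
  have hpκ : p ∉ Cfsg.kappa M := fun h => hp (Or.inr h)
  have hT₀ := Cfsg.Agent.Lib.Helper10.BG.isSylowIn_of_sylow S
  obtain ⟨T₀, hT₀def⟩ : ∃ T : Subgroup G, T = (S : Subgroup M).map M.subtype := ⟨_, rfl⟩
  rw [← hT₀def] at hT₀ ⊢
  have hT₀1 : T₀ ≠ ⊥ := hT₀.ne_bot_of_dvd hpM
  have hp2 : p ≠ 2 := Cfsg.Agent.Lib.Helper10.BG.prime_ne_two_of_pgroup hG hT₀.isPGroup hT₀1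
  have hrank2 : Cfsg.PRankLE p 2 ↥M :=
    Cfsg.Agent.Lib.Helper10.BG.alpha_rank M p hpp
      (fun h => hpσ (Cfsg.Agent.Lib.Helper10.BG.alpha_subset_sigma hG hM h))
  by_cases hr1 : Cfsg.PRankLE p 1 ↥M
  · -- cyclic Sylow subgroups
    have hcyc : ∀ P : Sylow p M, IsCyclic (P : Subgroup M) := by
      intro P
      have h1 := Cfsg.Agent.Lib.Helper10.BG.isCyclic_of_pRankLE_one hp2 hr1
        (Cfsg.Agent.Lib.Helper10.BG.isSylowIn_of_sylow P).le
        (Cfsg.Agent.Lib.Helper10.BG.isSylowIn_of_sylow P).isPGroup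
      exact (MulEquiv.isCyclic
        ((P : Subgroup M).equivMapOfInjective M.subtype M.subtype_injective)).mpr h1
    obtain ⟨P₁, hP₁⟩ : ∃ P₁ : Sylow p M, ¬ ∃ x : M, x ∈ (P₁ : Subgroup M) ∧ x ≠ 1 ∧
        ∃ y ∈ Cfsg.sigmaCore M, y ≠ 1 ∧ (x : G) * y = y * x := by
      by_contra hcon
      apply hpκ
      refine ⟨hpp, hpM, hpσ, fun P => ⟨hcyc P, ?_⟩⟩
      by_contra hP
      exact hcon ⟨P, hP⟩
    have hP1S := Cfsg.Agent.Lib.Helper10.BG.isSylowIn_of_sylow P₁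
    obtain ⟨m, hm, hconj⟩ := hT₀.exists_conj hP1S
    have hfree : ∀ x ∈ T₀, x ≠ 1 → ∀ y ∈ Cfsg.sigmaCore M, x * y = y * x → y = 1 := by
      intro x hx hx1 y hy hxy
      by_contra hy1
      apply hP₁
      have hx' : m * x * m⁻¹ ∈ (P₁ : Subgroup M).map M.subtype := by
        rw [hconj]
        exact ⟨x, hx, rfl⟩
      obtain ⟨x'', hx''P, hx''⟩ := hx'
      refine ⟨x'', hx''P, ?_, m * y * m⁻¹, ?_, ?_, ?_⟩
      · intro h1
        apply hx1
        have h2 : m * x * m⁻¹ = 1 := by rw [← hx'', h1]; rfl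
        have h3 : x = m⁻¹ * (m * x * m⁻¹) * m := by group
        rw [h3, h2]; group
      · exact Cfsg.Agent.Lib.Helper10.BG.conj_mem_of_mem_normalizer
          (Cfsg.Agent.Lib.Helper10.BG.le_normalizer_sigmaCore M hm) hy
      · intro h1
        apply hy1
        have h3 : y = m⁻¹ * (m * y * m⁻¹) * m := by group
        rw [h3, h1]; group
      · have h4 : ((x'' : M) : G) = m * x * m⁻¹ := hx''
        rw [h4]
        calc m * x * m⁻¹ * (m * y * m⁻¹) = m * (x * y) * m⁻¹ := by group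
          _ = m * (y * x) * m⁻¹ := by rw [hxy]
          _ = m * y * m⁻¹ * (m * x * m⁻¹) := by group
    -- an element of order `p`
    have hScomm : ∀ u ∈ T₀, ∀ v ∈ T₀, u * v = v * u := by
      have hcS := hcyc S
      intro u hu v hv
      rw [hT₀def] at hu hv
      obtain ⟨u', hu', rfl⟩ := hu
      obtain ⟨v', hv', rfl⟩ := hv
      have h1 : (⟨u', hu'⟩ : (S : Subgroup M)) * ⟨v', hv'⟩ = ⟨v', hv'⟩ * ⟨u', hu'⟩ := by
        haveI : IsMulCommutative (S : Subgroup M) := IsCyclic.isMulCommutative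
        exact mul_comm' _ _
      have h2 : u' * v' = v' * u' := congrArg Subtype.val h1
      show M.subtype u' * M.subtype v' = M.subtype v' * M.subtype u'
      rw [← map_mul, ← map_mul, h2]
    obtain ⟨b, hbT₀, hb1⟩ := Cfsg.Agent.Lib.Helper9.BGExc.exists_ne_one_of_ne_bot hT₀1
    obtain ⟨k, hk⟩ := hT₀.isPGroup ⟨b, hbT₀⟩
    have hk' : b ^ p ^ k = 1 := congrArg Subtype.val hk
    obtain ⟨c, hcz, hcp, hc1⟩ : ∃ c ∈ Subgroup.zpowers b, c ^ p = 1 ∧ c ≠ 1 := by
      have hord : orderOf b ∣ p ^ k := orderOf_dvd_of_pow_eq_one hk'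
      obtain ⟨j, hjk, hj⟩ := (Nat.dvd_prime_pow hpp).mp hord
      have hj0 : j ≠ 0 := by
        rintro rfl
        rw [pow_zero, orderOf_eq_one_iff] at hj
        exact hb1 hj
      obtain ⟨i, rfl⟩ := Nat.exists_eq_succ_of_ne_zero hj0
      refine ⟨b ^ p ^ i, Subgroup.pow_mem _ (Subgroup.mem_zpowers b) _, ?_, ?_⟩
      · rw [← pow_mul, ← pow_succ, ← hj, pow_orderOf_eq_one]
      · intro h1
        have h2 := orderOf_dvd_of_pow_eq_one h1
        rw [hj] at h2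
        have h3 := Nat.pow_dvd_pow_iff_le_right hpp.one_lt |>.mp h2
        omega
    have hcT₀ : c ∈ T₀ := (Subgroup.zpowers_le.mpr hbT₀) hcz
    set A := Subgroup.closure {x : G | x ∈ T₀ ∧ x ^ p = 1} with hAdef
    have hAT₀ : A ≤ T₀ := (Subgroup.closure_le _).mpr (fun x hx => hx.1)
    have hcA : c ∈ A := Subgroup.subset_closure ⟨hcT₀, hcp⟩
    have hAexp : ∀ a ∈ A, a ^ p = 1 := by
      intro a ha
      induction ha using Subgroup.closure_induction with
      | mem x hx => exact hx.2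
      | one => exact one_pow p
      | mul x y hx hy hxp hyp =>
        have hc' : Commute x y := hScomm x (hAT₀ hx) y (hAT₀ hy)
        rw [hc'.mul_pow, hxp, hyp, one_mul]
      | inv x hx hxp => rw [inv_pow, hxp, inv_one]
    have hAe : Cfsg.IsElementaryAbelian p A := by
      refine ⟨⟨⟨fun x y => ?_⟩⟩, hAexp⟩
      apply Subtype.ext
      exact hScomm x (hAT₀ x.2) y (hAT₀ y.2)
    have hfix : Cfsg.sigmaCore M ⊓ Subgroup.centralizer (A : Set G) = ⊥ := by
      rw [eq_bot_iff]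
      intro y hy
      obtain ⟨hyσ, hyc⟩ := Subgroup.mem_inf.mp hy
      rw [Subgroup.mem_bot]
      exact hfree c hcT₀ hc1 y hyσ (Subgroup.mem_centralizer_iff.mp hyc c hcA)
    refine ⟨Cfsg.Agent.Lib.Helper9.BGExc.card_le_of_pRankLE hrank2 (hAT₀.trans hT₀.le) hAe, hfix, ?_⟩
    apply Cfsg.Agent.Lib.Helper9.BGExc.isNilpotent_of_fpf hpp
      (Cfsg.Agent.Lib.Helper10.BG.le_normalizer_sigmaCore M (hT₀.le hcT₀)) hcp
    rw [eq_bot_iff]
    intro y hy
    obtain ⟨hyσ, hyc⟩ := Subgroup.mem_inf.mp hy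
    rw [Subgroup.mem_bot]
    exact hfree c hcT₀ hc1 y hyσ (Subgroup.mem_centralizer_singleton_iff.mp hyc).symm
  · -- rank two
    have hτ : p ∈ Cfsg.tau2 M := ⟨hpp, hpσ, hrank2, hr1⟩
    obtain ⟨A', hA'c, hA'e, hA'card⟩ : ∃ A' : Subgroup ↥M, IsMulCommutative A' ∧
        (∀ a ∈ A', a ^ p = 1) ∧ p < Nat.card A' := by
      by_contra hcon
      apply hr1
      intro A' hc he
      by_contra hlt
      exact hcon ⟨A', hc, he, by rw [pow_one] at hlt; omega⟩
    have hA''e : Cfsg.IsElementaryAbelian p (A'.map M.subtype) :=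
      Cfsg.Agent.Lib.Helper10.BG.isElementaryAbelian_map M.subtype ⟨hA'c, hA'e⟩
    have hA''M : A'.map M.subtype ≤ M := Subgroup.map_subtype_le _
    have hA''card : Nat.card (A'.map M.subtype) = p ^ 2 := by
      have h1 : Nat.card (A'.map M.subtype) = Nat.card A' :=
        Subgroup.card_map_of_injective M.subtype_injective
      have h2 : Nat.card A' ≤ p ^ 2 := hrank2 A' hA'c hA'e
      have hpg : IsPGroup p A' := Cfsg.Agent.Lib.Lead.BGTrans.isPGroup_of_pow_eq_one hA'e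
      obtain ⟨k, hk⟩ := hpg.exists_card_eq
      rw [h1, hk]
      rw [hk] at h2 hA'card
      have hk2 : k ≤ 2 := (Nat.pow_le_pow_iff_right hpp.one_lt).mp h2
      have hk1 : 1 < k := by
        have : p ^ 1 < p ^ k := by rw [pow_one]; exact hA'card
        exact (Nat.pow_lt_pow_iff_right hpp.one_lt).mp this
      have : k = 2 := by omega
      rw [this]
    have hA''p : IsPGroup p (A'.map M.subtype) :=
      Cfsg.Agent.Lib.Lead.BGTrans.isPGroup_of_pow_eq_one hA''e.2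
    obtain ⟨T, hT, hA''T⟩ := Cfsg.Agent.Lib.Helper10.BG.exists_isSylowIn_ge hA''M hA''p
    obtain ⟨m, hm, hconj⟩ := hT.exists_conj hT₀
    obtain ⟨A₀, hA₀def⟩ : ∃ A₀, A₀ = Cfsg.Agent.Lib.Helper9.BGExc.cj m (A'.map M.subtype) :=
      ⟨_, rfl⟩
    have hA₀e : Cfsg.IsElementaryAbelian p A₀ :=
      hA₀def ▸ Cfsg.Agent.Lib.Helper9.BGExc.isElementaryAbelian_cj hA''e m
    have hA₀card : Nat.card A₀ = p ^ 2 := by
      rw [hA₀def, Cfsg.Agent.Lib.Helper9.BGExc.card_cj, hA''card]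
    have hA₀T₀ : A₀ ≤ T₀ := by
      rw [hA₀def, hconj]
      exact Cfsg.Agent.Lib.Helper9.BGExc.cj_mono m hA''T
    have hA₀M : A₀ ≤ M := hA₀T₀.trans hT₀.le
    obtain ⟨hnil, hb, -, hd, -, -⟩ := Cfsg.Agent.S1417.result hG M hM p hτ A₀ ⟨hA₀M, hA₀e, hA₀card⟩
    have hiff := ((hb S).2 (hT₀def ▸ hA₀T₀)).1
    have hset : {x : G | x ∈ T₀ ∧ x ^ p = 1} = (A₀ : Set G) := by
      ext x
      constructor
      · rintro ⟨hx, hxp⟩
        exact (hiff x (hT₀def ▸ hx)).mp hxp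
      · intro hx
        exact ⟨hA₀T₀ hx, (hiff x (hT₀def ▸ hA₀T₀ hx)).mpr hx⟩
    rw [hset, Subgroup.closure_eq]
    exact ⟨hA₀card.le, hd, hnil⟩

end Cfsg.Agent.S1429
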