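import Cfsg.Statements.S3745
import Mathlib
import Cfsg.Agent.Lib.Helper1.CoprimeSylow

set_option autoImplicit false
open Cfsg

namespace Cfsg.Agent.S3745

open Cfsg.Agent.Lib.Helper1
open scoped Pointwise
open Subgroup

universe u

section hallset

variable {X : Type u} [Group X]

/-- subgroups of `G` of order `m`, as subgroups of the ambient group -/
def HallSet (m : ℕ) (G : Subgroup X) : Type u :=
  {H : Subgroup X // H ≤ G ∧ Nat.card H = m}

/-- a subgroup normalizing `G` acts on `HallSet m G` by conjugation -/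
@[reducible] def hallSetAction (m : ℕ) (G L : Subgroup X) (hL : L ≤ normalizer (G : Set X)) :
    MulAction L (HallSet m G) where
  smul l P := ⟨MulAut.conj (l : X) • P.1, conj_smul_le_of_mem_normalizer (hL l.2) P.2.1, by
    rw [card_conj_smul]; exact P.2.2⟩
  one_smul P := by
    apply Subtype.ext
    change MulAut.conj ((1 : L) : X) • P.1 = P.1
    rw [Subgroup.coe_one, map_one, one_smul]
  mul_smul l₁ l₂ P := by
    apply Subtype.ext
    change MulAut.conj ((l₁ * l₂ : L) : X) • P.1 = MulAut.conj (l₁ : X) • MulAut.conj (l₂ : X) • P.1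
    rw [Subgroup.coe_mul, map_mul, mul_smul]

variable [Finite X]

theorem exists_conj_eq_of_hallSet {m n : ℕ} {G : Subgroup X} (hsolv : Group.IsSolvable G)
    (hG : Nat.card G = m * n) (hmn : m.Coprime n) (P Q : HallSet m G) :
    ∃ k ∈ G, MulAut.conj k • P.1 = Q.1 := by
  have hP : Nat.card (P.1.subgroupOf G) = m := by
    rw [Nat.card_congr (Subgroup.subgroupOfEquivOfLe P.2.1).toEquiv]; exact P.2.2
  have hQ : Nat.card (Q.1.subgroupOf G) = m := by
    rw [Nat.card_congr (Subgroup.subgroupOfEquivOfLe Q.2.1).toEquiv]; exact Q.2.2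
  obtain ⟨k, hk⟩ := hall_conj m n hG hmn _ _ hP hQ
  exact ⟨k, k.2, conj_of_conj_subgroupOf P.2.1 Q.2.1 k hk⟩

theorem hallSet_nonempty {m n : ℕ} {G : Subgroup X} (hsolv : Group.IsSolvable G)
    (hG : Nat.card G = m * n) (hmn : m.Coprime n) : Nonempty (HallSet m G) := by
  obtain ⟨H, hH⟩ := hall_exists m n hG hmn
  refine ⟨⟨H.map G.subtype, Subgroup.map_subtype_le _, ?_⟩⟩
  rw [← Nat.card_congr (H.equivMapOfInjective _ G.subtype_injective).toEquiv]
  exact hH

variable {A G : Subgroup X}

/-- (a'): an invariant subgroup of order `m` -/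
theorem exists_invariant_hall (h : CoprimeAct A G) (hsolv : Group.IsSolvable G) {m n : ℕ}
    (hG : Nat.card G = m * n) (hmn : m.Coprime n) :
    ∃ H : Subgroup X, H ≤ G ∧ Nat.card H = m ∧ A ≤ normalizer (H : Set X) := by
  have hΓ : A ⊔ G ≤ normalizer (G : Set X) := sup_le h.norm Subgroup.le_normalizer
  let _ := hallSetAction m G (A ⊔ G) hΓ
  have := h.normal
  have := hallSet_nonempty hsolv hG hmn
  have htrans : MulAction.IsPretransitive (G.subgroupOf (A ⊔ G)) (HallSet m G) := by
    constructor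
    intro P Q
    obtain ⟨k, hk, hkPQ⟩ := exists_conj_eq_of_hallSet hsolv hG hmn P Q
    refine ⟨⟨⟨k, Subgroup.mem_sup_right hk⟩, hk⟩, ?_⟩
    exact Subtype.ext hkPQ
  obtain ⟨x, hx⟩ := glauberman_exists (G.subgroupOf (A ⊔ G)) (A.subgroupOf (A ⊔ G))
    h.complement h.hall h.solvable htrans
  refine ⟨x.1, x.2.1, x.2.2, ?_⟩
  intro a ha
  have h1 := hx ⟨a, Subgroup.mem_sup_left ha⟩ ha
  have h2 : MulAut.conj a • x.1 = x.1 := congrArg Subtype.val h1
  exact conj_smul_eq_self_iff_mem_normalizer.mp h2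

/-- (b'): two invariant subgroups of order `m` are conjugate under `C_G(A)` -/
theorem exists_conj_hall (h : CoprimeAct A G) (hsolv : Group.IsSolvable G) {m n : ℕ}
    (hG : Nat.card G = m * n) (hmn : m.Coprime n) (P Q : Subgroup X)
    (hPG : P ≤ G) (hPm : Nat.card P = m) (hQG : Q ≤ G) (hQm : Nat.card Q = m)
    (hP : A ≤ normalizer (P : Set X)) (hQ : A ≤ normalizer (Q : Set X)) :
    ∃ c ∈ G ⊓ centralizer (A : Set X), MulAut.conj c • P = Q := by
  have hΓ : A ⊔ G ≤ normalizer (G : Set X) := sup_le h.norm Subgroup.le_normalizer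
  let _ := hallSetAction m G (A ⊔ G) hΓ
  have := h.normal
  have htrans : MulAction.IsPretransitive (G.subgroupOf (A ⊔ G)) (HallSet m G) := by
    constructor
    intro P Q
    obtain ⟨k, hk, hkPQ⟩ := exists_conj_eq_of_hallSet hsolv hG hmn P Q
    refine ⟨⟨⟨k, Subgroup.mem_sup_right hk⟩, hk⟩, ?_⟩
    exact Subtype.ext hkPQ
  have hfix : ∀ R : HallSet m G, A ≤ normalizer (R.1 : Set X) →
      ∀ a ∈ A.subgroupOf (A ⊔ G), a • R = R := by
    intro R hR a ha
    apply Subtype.ext
    exact conj_smul_eq_self_iff_mem_normalizer.mpr (hR ha)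
  obtain ⟨k, hk, hkPQ⟩ := glauberman_conj (G.subgroupOf (A ⊔ G)) (A.subgroupOf (A ⊔ G))
    h.complement h.hall h.solvable htrans (⟨P, hPG, hPm⟩ : HallSet m G) ⟨Q, hQG, hQm⟩
    (hfix _ hP) (hfix _ hQ)
  obtain ⟨hk1, hk2⟩ := Subgroup.mem_inf.mp hk
  refine ⟨k, Subgroup.mem_inf.mpr ⟨hk1, ?_⟩, congrArg Subtype.val hkPQ⟩
  rw [Subgroup.mem_centralizer_iff] at hk2 ⊢
  intro a ha
  have := hk2 ⟨a, Subgroup.mem_sup_left ha⟩ ha
  exact congrArg Subtype.val this

end hallset


section quotient

variable {X : Type u} [Group X] [Finite X]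

lemma card_subgroupOf_of_le {H K : Subgroup X} (h : H ≤ K) :
    Nat.card (H.subgroupOf K) = Nat.card H :=
  Nat.card_congr (Subgroup.subgroupOfEquivOfLe h).toEquiv

/-- the quotient step -/
theorem quotient_step (A G U M : Subgroup X) (h : CoprimeAct A G) (hsolv : Group.IsSolvable G)
    (hU : U ≤ G) (hUA : A ≤ normalizer (U : Set X)) (hMG : M ≤ G)
    (hMn : A ⊔ G ≤ normalizer (M : Set X)) :
    ∃ (Y : Type u) (_ : Group Y) (_ : Finite Y) (A' G' U' : Subgroup Y),
      CoprimeAct A' G' ∧ Group.IsSolvable G' ∧ Nat.card G' * Nat.card M = Nat.card G ∧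
      U' ≤ G' ∧ A' ≤ normalizer (U' : Set Y) ∧ Nat.card U' ∣ Nat.card U ∧
      ∀ H' : Subgroup Y, H' ≤ G' → A' ≤ normalizer (H' : Set Y) → U' ≤ H' →
        ∃ H₁ : Subgroup X, H₁ ≤ G ∧ M ≤ H₁ ∧ U ≤ H₁ ∧ A ≤ normalizer (H₁ : Set X) ∧
          Nat.card H₁ = Nat.card H' * Nat.card M := by
  set Γ := A ⊔ G with hΓ
  have hAΓ : A ≤ Γ := le_sup_left
  have hGΓ : G ≤ Γ := le_sup_right
  have hMΓ : M ≤ Γ := hMG.trans hGΓ
  have hUΓ : U ≤ Γ := hU.trans hGΓ
  haveI hMn' : (M.subgroupOf Γ).Normal :=
    (Subgroup.normal_subgroupOf_iff_le_normalizer hMΓ).mpr hMn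
  haveI hGn' : (G.subgroupOf Γ).Normal := h.normal
  set φ := QuotientGroup.mk' (M.subgroupOf Γ) with hφ
  have hφs : Function.Surjective φ := QuotientGroup.mk'_surjective _
  have hker : φ.ker = M.subgroupOf Γ := QuotientGroup.ker_mk' _
  have hMG' : M.subgroupOf Γ ≤ G.subgroupOf Γ := Subgroup.comap_mono hMG
  have hsolvG' : Group.IsSolvable ↥(G.subgroupOf Γ) :=
    Group.isSolvable_of_isSolvable_injective
      (f := (Subgroup.subgroupOfEquivOfLe hGΓ).toMonoidHom)
      (Subgroup.subgroupOfEquivOfLe hGΓ).injective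
  have hsolvG'' : Group.IsSolvable ↥((G.subgroupOf Γ).map φ) :=
    Group.isSolvable_of_surjective (f := φ.subgroupMap (G.subgroupOf Γ))
      (MonoidHom.subgroupMap_surjective _ _)
  -- normalizer transfer
  have hnorm_transfer : ∀ V : Subgroup X, A ≤ normalizer (V : Set X) →
      (A.subgroupOf Γ).map φ ≤ normalizer (((V.subgroupOf Γ).map φ : Subgroup _) : Set _) := by
    intro V hV
    have h1 : A.subgroupOf Γ ≤ normalizer ((V.subgroupOf Γ : Subgroup Γ) : Set Γ) :=
      (Subgroup.comap_mono hV).trans (Subgroup.le_normalizer_comap _)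
    exact (Subgroup.map_mono h1).trans (Subgroup.le_normalizer_map _)
  refine ⟨↥Γ ⧸ M.subgroupOf Γ, inferInstance, inferInstance, (A.subgroupOf Γ).map φ,
    (G.subgroupOf Γ).map φ, (U.subgroupOf Γ).map φ, ?_, hsolvG'', ?_, ?_, ?_, ?_, ?_⟩
  · refine ⟨hnorm_transfer G h.norm, ?_, Or.inr hsolvG''⟩
    have h1 : Nat.card ((A.subgroupOf Γ).map φ) ∣ Nat.card A := by
      rw [← card_subgroupOf_of_le hAΓ]; exact Subgroup.card_map_dvd _ _
    have h2 : Nat.card ((G.subgroupOf Γ).map φ) ∣ Nat.card G := by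
      rw [← card_subgroupOf_of_le hGΓ]; exact Subgroup.card_map_dvd _ _
    exact Nat.Coprime.coprime_dvd_left h1 (Nat.Coprime.coprime_dvd_right h2 h.cop)
  · have := card_map_mk_of_le (M.subgroupOf Γ) hMG'
    rw [card_subgroupOf_of_le hMΓ, card_subgroupOf_of_le hGΓ] at this
    exact this
  · exact Subgroup.map_mono (Subgroup.comap_mono hU)
  · exact hnorm_transfer U hUA
  · rw [← card_subgroupOf_of_le hUΓ]; exact Subgroup.card_map_dvd _ _
  · intro H' hH'G hH'A hH'U
    refine ⟨(H'.comap φ).map Γ.subtype, ?_, ?_, ?_, ?_, ?_⟩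
    · have h1 : H'.comap φ ≤ G.subgroupOf Γ := by
        have := Subgroup.comap_mono (f := φ) hH'G
        rw [Subgroup.comap_map_eq, hker, sup_of_le_left hMG'] at this
        exact this
      have := Subgroup.map_mono (f := Γ.subtype) h1
      rwa [Subgroup.map_subgroupOf_eq_of_le hGΓ] at this
    · have h1 : M.subgroupOf Γ ≤ H'.comap φ := by
        have h0 : φ.ker ≤ H'.comap φ := MonoidHom.ker_le_comap _ _
        exact hker.symm.le.trans h0
      have := Subgroup.map_mono (f := Γ.subtype) h1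
      rwa [Subgroup.map_subgroupOf_eq_of_le hMΓ] at this
    · have h1 : U.subgroupOf Γ ≤ H'.comap φ := Subgroup.map_le_iff_le_comap.mp hH'U
      have := Subgroup.map_mono (f := Γ.subtype) h1
      rwa [Subgroup.map_subgroupOf_eq_of_le hUΓ] at this
    · have h1 : A.subgroupOf Γ ≤ normalizer ((H'.comap φ : Subgroup Γ) : Set Γ) := by
        have h2 : A.subgroupOf Γ ≤ (normalizer (H' : Set _)).comap φ :=
          Subgroup.map_le_iff_le_comap.mp hH'A
        exact h2.trans (Subgroup.le_normalizer_comap _)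
      have h3 := (Subgroup.map_mono (f := Γ.subtype) h1).trans (Subgroup.le_normalizer_map _)
      rwa [Subgroup.map_subgroupOf_eq_of_le hAΓ] at h3
    · rw [← Nat.card_congr ((H'.comap φ).equivMapOfInjective _ Γ.subtype_injective).toEquiv,
        card_comap_mk, card_subgroupOf_of_le hMΓ]

end quotient


section cardsup

variable {X : Type u} [Group X] [Finite X]

/-- `|U M| = |U| |M|` when `U` normalizes `M` and the orders are coprime -/
lemma card_sup_of_coprime_of_le_normalizer {U M : Subgroup X}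
    (hUM : U ≤ normalizer (M : Set X)) (hc : (Nat.card U).Coprime (Nat.card M)) :
    Nat.card (U ⊔ M : Subgroup X) = Nat.card U * Nat.card M := by
  apply le_antisymm
  · have hset : ((U ⊔ M : Subgroup X) : Set X) = (U : Set X) * (M : Set X) :=
      Subgroup.coe_mul_of_left_le_normalizer_right U M hUM
    have : Nat.card (U ⊔ M : Subgroup X) = Nat.card ((U : Set X) * (M : Set X) : Set X) := by
      rw [← hset]; rfl
    rw [this]
    exact Set.natCard_mul_le
  · apply Nat.le_of_dvd Nat.card_pos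
    exact Nat.Coprime.mul_dvd_of_dvd_of_dvd hc (Subgroup.card_dvd_of_le le_sup_left)
      (Subgroup.card_dvd_of_le le_sup_right)

lemma conj_smul_mono {H K : Subgroup X} (g : X) (h : H ≤ K) :
    MulAut.conj g • H ≤ MulAut.conj g • K := by
  rw [conj_smul_eq_map, conj_smul_eq_map]
  exact Subgroup.map_mono h

/-- conjugating an `A`-invariant subgroup by an element centralizing `A` -/
lemma le_normalizer_conj_of_mem_centralizer {A H : Subgroup X} {c : X}
    (hc : c ∈ centralizer (A : Set X)) (hA : A ≤ normalizer (H : Set X)) :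
    A ≤ normalizer ((MulAut.conj c • H : Subgroup X) : Set X) := by
  intro a ha
  rw [← conj_smul_eq_self_iff_mem_normalizer, ← mul_smul, ← map_mul]
  have h1 : a * c = c * a := (Subgroup.mem_centralizer_iff.mp hc a ha)
  rw [h1, map_mul, mul_smul, conj_smul_eq_self_iff_mem_normalizer.mpr (hA ha)]

end cardsup

section dominance

/-- (c'): an invariant subgroup of order prime to `n` lies in an invariant subgroup of order `m` -/
theorem dominance_aux (N : ℕ) : ∀ (X : Type u) [Group X] [Finite X] (A G U : Subgroup X),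
    CoprimeAct A G → Group.IsSolvable G → Nat.card G = N →
    ∀ m n : ℕ, Nat.card G = m * n → m.Coprime n →
    U ≤ G → A ≤ normalizer (U : Set X) → (Nat.card U).Coprime n →
    ∃ H : Subgroup X, H ≤ G ∧ Nat.card H = m ∧ A ≤ normalizer (H : Set X) ∧ U ≤ H := by
  induction N using Nat.strong_induction_on with
  | _ N ih =>
    intro X _ _ A G U h hsolv hN m n hmn hcop hU hUA hUn
    by_cases hG1 : G = ⊥
    · subst hG1
      rw [Subgroup.card_bot] at hmn
      have hm1 : m = 1 := Nat.eq_one_of_mul_eq_one_right hmn.symm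
      refine ⟨⊥, le_rfl, by rw [Subgroup.card_bot, hm1], ?_, hU⟩
      intro a _
      rw [← conj_smul_eq_self_iff_mem_normalizer]
      simp
    · -- a minimal normal subgroup of the semidirect product inside `G`
      set Γ := A ⊔ G with hΓ
      have hGΓ : G ≤ Γ := le_sup_right
      haveI hGn' : (G.subgroupOf Γ).Normal := h.normal
      have hG'ne : G.subgroupOf Γ ≠ ⊥ := by
        intro h0
        apply hG1
        have := congrArg (Subgroup.map Γ.subtype) h0
        rwa [Subgroup.map_subgroupOf_eq_of_le hGΓ, Subgroup.map_bot] at this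
      have hsolvG' : Group.IsSolvable ↥(G.subgroupOf Γ) :=
        Group.isSolvable_of_isSolvable_injective
          (f := (Subgroup.subgroupOfEquivOfLe hGΓ).toMonoidHom)
          (Subgroup.subgroupOfEquivOfLe hGΓ).injective
      obtain ⟨q, hq, P, hPn, hPG, hPne, -, hPq⟩ :=
        exists_normal_elementary_abelian_le _ (G.subgroupOf Γ) rfl hG'ne hsolvG'
      set M := P.map Γ.subtype with hM
      have hMG : M ≤ G := by
        have := Subgroup.map_mono (f := Γ.subtype) hPG
        rwa [Subgroup.map_subgroupOf_eq_of_le hGΓ] at this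
      have hMne : M ≠ ⊥ := by
        rw [hM, Ne, Subgroup.map_eq_bot_iff_of_injective _ Γ.subtype_injective]; exact hPne
      have hMn : Γ ≤ normalizer (M : Set X) := by
        apply le_normalizer_of_forall_conj_mem
        rintro x hx _ ⟨y, hy, rfl⟩
        exact ⟨⟨x, hx⟩ * y * ⟨x, hx⟩⁻¹, hPn.conj_mem y hy ⟨x, hx⟩, rfl⟩
      haveI : Fact q.Prime := ⟨hq⟩
      have hMq : IsPGroup q M := by
        rintro ⟨_, ⟨y, hy, rfl⟩⟩
        refine ⟨1, ?_⟩
        apply Subtype.ext
        have := hPq y hy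
        simp only [pow_one, Subgroup.coe_pow, Subgroup.coe_subtype, Subgroup.coe_one]
        rw [← Subgroup.coe_pow, this, Subgroup.coe_one]
      obtain ⟨j, hj⟩ := IsPGroup.iff_card.mp hMq
      have hj0 : j ≠ 0 := by
        rintro rfl
        rw [pow_zero, Subgroup.card_eq_one] at hj
        exact hMne hj
      have hq2 : 2 ≤ q ^ j := by
        calc 2 ≤ q := hq.two_le
          _ = q ^ 1 := (pow_one q).symm
          _ ≤ q ^ j := Nat.pow_le_pow_right hq.pos (Nat.one_le_iff_ne_zero.mpr hj0)
      have hMdvd : q ^ j ∣ m * n := by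
        rw [← hmn, ← hj]; exact Subgroup.card_dvd_of_le hMG
      -- the quotient
      obtain ⟨Y, _, _, A', G', U', h', hsolv', hcard', hU', hUA', hUdvd, hpull⟩ :=
        quotient_step A G U M h hsolv hU hUA hMG hMn
      rw [hj] at hcard'
      have hG'pos : 0 < Nat.card G' := Nat.card_pos
      have hG'lt : Nat.card G' < N := by
        rw [← hN, ← hcard']
        calc Nat.card G' = Nat.card G' * 1 := (mul_one _).symm
          _ < Nat.card G' * q ^ j := Nat.mul_lt_mul_of_pos_left (by omega) hG'pos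
      have hU'n : (Nat.card U').Coprime n := Nat.Coprime.coprime_dvd_left hUdvd hUn
      have hqpos : 0 < q ^ j := by omega
      by_cases hqm : q ∣ m
      · -- `q ∣ m`
        have hqn : (q ^ j).Coprime n := by
          apply Nat.Coprime.pow_left
          rw [Nat.Prime.coprime_iff_not_dvd hq]
          intro hqn
          have := Nat.dvd_gcd hqm hqn
          rw [hcop] at this
          exact hq.one_lt.ne' (Nat.dvd_one.mp this)
        have hdm : q ^ j ∣ m := (Nat.Coprime.dvd_mul_right hqn).mp hMdvd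
        obtain ⟨m', hm'⟩ := hdm
        have hG'card : Nat.card G' = m' * n := by
          have : Nat.card G' * q ^ j = (m' * n) * q ^ j := by
            rw [hcard', hmn, hm']; ring
          exact Nat.eq_of_mul_eq_mul_right hqpos this
        have hcop' : m'.Coprime n :=
          Nat.Coprime.coprime_dvd_left (Dvd.intro_left _ hm'.symm) hcop
        obtain ⟨H', hH'G, hH'm, hH'A, hH'U⟩ :=
          ih (Nat.card G') hG'lt Y A' G' U' h' hsolv' rfl m' n hG'card hcop' hU' hUA' hU'n
        obtain ⟨H₁, hH₁G, -, hUH₁, hAH₁, hH₁card⟩ := hpull H' hH'G hH'A hH'U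
        refine ⟨H₁, hH₁G, ?_, hAH₁, hUH₁⟩
        rw [hH₁card, hH'm, hj, hm']; ring
      · -- `q ∣ n`
        have hqn' : q ∣ n := by
          have : q ∣ m * n := (dvd_pow_self q hj0).trans hMdvd
          rcases (Nat.Prime.dvd_mul hq).mp this with h1 | h1
          · exact absurd h1 hqm
          · exact h1
        have hqm' : (q ^ j).Coprime m := by
          apply Nat.Coprime.pow_left
          rw [Nat.Prime.coprime_iff_not_dvd hq]
          exact hqm
        have hdn : q ^ j ∣ n := by
          rw [mul_comm] at hMdvd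
          exact (Nat.Coprime.dvd_mul_right hqm').mp hMdvd
        obtain ⟨n', hn'⟩ := hdn
        have hG'card : Nat.card G' = m * n' := by
          have : Nat.card G' * q ^ j = (m * n') * q ^ j := by
            rw [hcard', hmn, hn']; ring
          exact Nat.eq_of_mul_eq_mul_right hqpos this
        have hcop' : m.Coprime n' :=
          Nat.Coprime.coprime_dvd_right (Dvd.intro_left _ hn'.symm) hcop
        have hU'n' : (Nat.card U').Coprime n' :=
          Nat.Coprime.coprime_dvd_right (Dvd.intro_left _ hn'.symm) hU'n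
        obtain ⟨H', hH'G, hH'm, hH'A, hH'U⟩ :=
          ih (Nat.card G') hG'lt Y A' G' U' h' hsolv' rfl m n' hG'card hcop' hU' hUA' hU'n'
        obtain ⟨H₁, hH₁G, hMH₁, hUH₁, hAH₁, hH₁card⟩ := hpull H' hH'G hH'A hH'U
        rw [hH'm, hj] at hH₁card
        -- an invariant complement of `M` in `H₁`
        have hmq : m.Coprime (q ^ j) := hqm'.symm
        have hH₁solv : Group.IsSolvable ↥H₁ :=
          Group.isSolvable_of_isSolvable_injective (Subgroup.inclusion_injective hH₁G)
        obtain ⟨H₂, hH₂H₁, hH₂m, hAH₂⟩ :=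
          exists_invariant_hall (h.mono hH₁G hAH₁) hH₁solv hH₁card hmq
        have hH₂G : H₂ ≤ G := hH₂H₁.trans hH₁G
        have hGnM : G ≤ normalizer (M : Set X) := hGΓ.trans hMn
        have hUq : (Nat.card U).Coprime (q ^ j) :=
          Nat.Coprime.coprime_dvd_right (Dvd.intro _ hn'.symm) hUn
        set S := U ⊔ M with hS
        have hSG : S ≤ G := sup_le hU hMG
        have hScard : Nat.card S = Nat.card U * q ^ j := by
          rw [hS, card_sup_of_coprime_of_le_normalizer (hU.trans hGnM) (hj ▸ hUq), hj]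
        have hH₂M : H₂ ⊔ M = H₁ := by
          apply Subgroup.eq_of_le_of_card_ge (sup_le hH₂H₁ hMH₁)
          rw [card_sup_of_coprime_of_le_normalizer (hH₂G.trans hGnM) (by rw [hH₂m, hj]; exact hmq),
            hH₂m, hj, hH₁card]
        set T := S ⊓ H₂ with hT
        have hUT : U ≤ T ⊔ M := by
          intro u hu
          have h1 : u ∈ ((H₂ ⊔ M : Subgroup X) : Set X) := by
            rw [hH₂M]; exact hUH₁ hu
          rw [Subgroup.coe_mul_of_left_le_normalizer_right H₂ M (hH₂G.trans hGnM)] at h1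
          obtain ⟨a, ha, b, hb, hab⟩ := h1
          have haS : a ∈ S := by
            have : a = u * b⁻¹ := by rw [← hab]; group
            rw [this]
            exact S.mul_mem (Subgroup.mem_sup_left hu) (Subgroup.mem_sup_right (M.inv_mem hb))
          rw [← hab]
          exact Subgroup.mul_mem_sup (Subgroup.mem_inf.mpr ⟨haS, ha⟩) hb
        have hTM : T ⊔ M = S := by
          apply le_antisymm
          · exact sup_le inf_le_left le_sup_right
          · exact sup_le hUT le_sup_right
        have hTq : (Nat.card T).Coprime (q ^ j) := by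
          apply Nat.Coprime.coprime_dvd_left (Subgroup.card_dvd_of_le (inf_le_right : T ≤ H₂))
          rw [hH₂m]; exact hmq
        have hTcard : Nat.card T = Nat.card U := by
          have e1 := card_sup_of_coprime_of_le_normalizer
            ((inf_le_right : T ≤ H₂).trans (hH₂G.trans hGnM)) (hj ▸ hTq)
          rw [hTM, hScard, hj] at e1
          exact (Nat.eq_of_mul_eq_mul_right hqpos e1).symm
        -- conjugate `T` to `U` under `C_S(A)`
        have hAS : A ≤ normalizer (S : Set X) :=
          (le_inf hUA ((le_sup_left : A ≤ Γ).trans hMn)).trans (Subgroup.normalizer_inf_normalizer_le_normalizer_sup U M)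
        have hAT : A ≤ normalizer (T : Set X) :=
          (le_inf hAS hAH₂).trans Subgroup.inf_normalizer_le_normalizer_inf
        have hSsolv : Group.IsSolvable ↥S :=
          Group.isSolvable_of_isSolvable_injective (Subgroup.inclusion_injective hSG)
        obtain ⟨c, hc, hcTU⟩ := exists_conj_hall (h.mono hSG hAS) hSsolv hScard hUq T U
          inf_le_left hTcard le_sup_left rfl hAT hUA
        obtain ⟨hcS, hcA⟩ := Subgroup.mem_inf.mp hc
        refine ⟨MulAut.conj c • H₂, ?_, ?_, ?_, ?_⟩
        · exact conj_smul_le_of_mem_normalizer (Subgroup.le_normalizer (hSG hcS)) hH₂G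
        · rw [card_conj_smul, hH₂m]
        · exact le_normalizer_conj_of_mem_centralizer hcA hAH₂
        · rw [← hcTU]
          exact conj_smul_mono c inf_le_right

end dominance

section numbers

lemma exists_pi_factorization (π : Set ℕ) : ∀ N : ℕ, 0 < N →
    ∃ m n : ℕ, N = m * n ∧ (∀ p : ℕ, p.Prime → p ∣ m → p ∈ π) ∧
      (∀ p : ℕ, p.Prime → p ∣ n → p ∉ π) := by
  classical
  intro N
  induction N using Nat.recOnMul with
  | zero => intro h; exact absurd h (lt_irrefl 0)
  | one =>
    intro _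
    refine ⟨1, 1, rfl, ?_, ?_⟩
    · intro p hp h; exact absurd (Nat.dvd_one.mp h) hp.one_lt.ne'
    · intro p hp h; exact absurd (Nat.dvd_one.mp h) hp.one_lt.ne'
  | prime p hp =>
    intro _
    by_cases hpπ : p ∈ π
    · refine ⟨p, 1, (mul_one p).symm, ?_, ?_⟩
      · intro r hr h
        rw [(Nat.prime_dvd_prime_iff_eq hr hp).mp h]; exact hpπ
      · intro r hr h; exact absurd (Nat.dvd_one.mp h) hr.one_lt.ne'
    · refine ⟨1, p, (one_mul p).symm, ?_, ?_⟩
      · intro r hr h; exact absurd (Nat.dvd_one.mp h) hr.one_lt.ne'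
      · intro r hr h
        rw [(Nat.prime_dvd_prime_iff_eq hr hp).mp h]; exact hpπ
  | mul a b iha ihb =>
    intro hab
    have ha : 0 < a := Nat.pos_of_ne_zero (fun h => by rw [h, zero_mul] at hab; exact lt_irrefl 0 hab)
    have hb : 0 < b := Nat.pos_of_ne_zero (fun h => by rw [h, mul_zero] at hab; exact lt_irrefl 0 hab)
    obtain ⟨m₁, n₁, e₁, h₁, h₁'⟩ := iha ha
    obtain ⟨m₂, n₂, e₂, h₂, h₂'⟩ := ihb hb
    refine ⟨m₁ * m₂, n₁ * n₂, by rw [e₁, e₂]; ring, ?_, ?_⟩
    · intro p hp h
      rcases (Nat.Prime.dvd_mul hp).mp h with h | h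
      · exact h₁ p hp h
      · exact h₂ p hp h
    · intro p hp h
      rcases (Nat.Prime.dvd_mul hp).mp h with h | h
      · exact h₁' p hp h
      · exact h₂' p hp h

variable {X : Type*} [Group X] [Finite X]

lemma isPiHallOf_iff (π : Set ℕ) {G H : Subgroup X} {m n : ℕ} (hG : Nat.card G = m * n)
    (hm : ∀ p : ℕ, p.Prime → p ∣ m → p ∈ π) (hn : ∀ p : ℕ, p.Prime → p ∣ n → p ∉ π)
    (hHG : H ≤ G) : Cfsg.IsPiHallOf π H G ↔ Nat.card H = m := by
  have hrel : Nat.card H * H.relIndex G = m * n := by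
    rw [← hG]; exact card_mul_relIndex_of_le hHG
  constructor
  · rintro ⟨-, h1, h2⟩
    have c1 : (Nat.card H).Coprime n :=
      Nat.coprime_of_dvd fun k hk hkH hkn => hn k hk hkn (h1 k hk hkH)
    have c2 : (H.relIndex G).Coprime m :=
      Nat.coprime_of_dvd fun k hk hkr hkm => h2 k hk (hm k hk hkm) hkr
    have d1 : Nat.card H ∣ m := by
      have : Nat.card H ∣ m * n := Dvd.intro _ hrel
      exact (Nat.Coprime.dvd_mul_right c1).mp this
    have d2 : H.relIndex G ∣ n := by
      have : H.relIndex G ∣ n * m := by rw [mul_comm n m]; exact Dvd.intro_left _ hrel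
      exact (Nat.Coprime.dvd_mul_right c2).mp this
    obtain ⟨a, ha⟩ := d1
    obtain ⟨b, hb⟩ := d2
    have hpos : 0 < Nat.card H * H.relIndex G := by
      rw [hrel, ← hG]; exact Nat.card_pos
    have hab : a * b = 1 := by
      have : Nat.card H * H.relIndex G * (a * b) = Nat.card H * H.relIndex G * 1 := by
        rw [mul_one]
        conv_rhs => rw [hrel, ha, hb]
        ring
      exact Nat.eq_of_mul_eq_mul_left hpos this
    have ha1 : a = 1 := Nat.eq_one_of_mul_eq_one_right hab
    rw [ha, ha1, mul_one]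
  · intro hcard
    refine ⟨hHG, ?_, ?_⟩
    · intro p hp h; rw [hcard] at h; exact hm p hp h
    · intro p hp hpπ h
      have hmpos : 0 < m := by
        rcases Nat.eq_zero_or_pos m with h0 | h0
        · rw [h0, zero_mul] at hG
          exact absurd hG Nat.card_pos.ne'
        · exact h0
      rw [hcard] at hrel
      have : H.relIndex G = n := Nat.eq_of_mul_eq_mul_left hmpos hrel
      rw [this] at h
      exact hn p hp h hpπ

end numbers

/-- Coprime action on a solvable group and Hall subgroups. Let A and G be subgroups of a finite group with A normalizing G, the orders of A and G coprime, and G solvable, and let π be a set of primes. Then (a) G has an A-invariant Hall π-subgroup; (b) any two A-invariant Hall π-subgroups of G are conjugate by an element of C_G(A); (c) every A-invariant π-subgroup of G lies in an A-invariant Hall π-subgroup of G. -/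
theorem result {X : Type*} [Group X] [Finite X] (A G : Subgroup X) (hAG : A ≤ Subgroup.normalizer (G : Set X)) (hcop : (Nat.card A).Coprime (Nat.card G)) (hsolv : Group.IsSolvable G) (π : Set ℕ) : (∃ H : Subgroup X, Cfsg.IsPiHallOf π H G ∧ A ≤ Subgroup.normalizer (H : Set X)) ∧ (∀ H₁ H₂ : Subgroup X, Cfsg.IsPiHallOf π H₁ G → A ≤ Subgroup.normalizer (H₁ : Set X) → Cfsg.IsPiHallOf π H₂ G → A ≤ Subgroup.normalizer (H₂ : Set X) → ∃ c ∈ G ⊓ Subgroup.centralizer (A : Set X), H₂ = H₁.map (MulAut.conj c).toMonoidHom) ∧ (∀ U : Subgroup X, U ≤ G → A ≤ Subgroup.normalizer (U : Set X) → (∀ p : ℕ, p.Prime → p ∣ Nat.card U → p ∈ π) → ∃ H : Subgroup X, Cfsg.IsPiHallOf π H G ∧ A ≤ Subgroup.normalizer (H : Set X) ∧ U ≤ H) := by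
  classical
  have h : CoprimeAct A G := ⟨hAG, hcop, Or.inr hsolv⟩
  obtain ⟨m, n, hG, hm, hn⟩ := exists_pi_factorization π (Nat.card G) Nat.card_pos
  have hmn : m.Coprime n := Nat.coprime_of_dvd fun k hk hkm hkn => hn k hk hkn (hm k hk hkm)
  refine ⟨?_, ?_, ?_⟩
  · obtain ⟨H, hHG, hHm, hAH⟩ := exists_invariant_hall h hsolv hG hmn
    exact ⟨H, (isPiHallOf_iff π hG hm hn hHG).mpr hHm, hAH⟩
  · intro H₁ H₂ hH₁ hAH₁ hH₂ hAH₂
    have c1 := (isPiHallOf_iff π hG hm hn hH₁.1).mp hH₁
    have c2 := (isPiHallOf_iff π hG hm hn hH₂.1).mp hH₂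
    obtain ⟨c, hc, hcc⟩ := exists_conj_hall h hsolv hG hmn H₁ H₂ hH₁.1 c1 hH₂.1 c2 hAH₁ hAH₂
    exact ⟨c, hc, hcc.symm⟩
  · intro U hUG hAU hUπ
    have hUn : (Nat.card U).Coprime n :=
      Nat.coprime_of_dvd fun k hk hkU hkn => hn k hk hkn (hUπ k hk hkU)
    obtain ⟨H, hHG, hHm, hAH, hUH⟩ :=
      dominance_aux _ X A G U h hsolv rfl m n hG hmn hUG hAU hUn
    exact ⟨H, (isPiHallOf_iff π hG hm hn hHG).mpr hHm, hAH, hUH⟩

end Cfsg.Agent.S3745
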