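import Mathlib
import Cfsg.Statements.S1427
import Cfsg.Agent.Lib.Helper10.BGThirteenA

set_option autoImplicit false
open Cfsg

namespace Cfsg.Agent.S1427

/-- Let G be a minimal simple group of odd order, M a maximal subgroup, E a complement to M_σ in M, and S a nontrivial cyclic Sylow subgroup of E (for some prime). Then M_σ ∩ C_G(x) = M_σ ∩ C_G(S) for every non-identity x ∈ S. -/
theorem result {G : Type*} [Group G] [Finite G] (hG : Cfsg.IsMinSimpleOddOrder G)
    (M : Subgroup G) (hM : IsCoatom M) (E : Subgroup G) (hE : Cfsg.IsComplIn E (Cfsg.sigmaCore M) M) (p : ℕ) [Fact p.Prime] (S : Sylow p E) (hS1 : (S : Subgroup E) ≠ ⊥) (hSc : IsCyclic (S : Subgroup E)) :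
    ∀ x ∈ (S : Subgroup E).map E.subtype, x ≠ 1 →
        Cfsg.sigmaCore M ⊓ Subgroup.centralizer ({x} : Set G) = Cfsg.sigmaCore M ⊓ Subgroup.centralizer (((S : Subgroup E).map E.subtype : Subgroup G) : Set G) := by
  classical
  have hpp : p.Prime := Fact.out
  obtain ⟨T, hTdef⟩ : ∃ T : Subgroup G, T = (S : Subgroup E).map E.subtype := ⟨_, rfl⟩
  rw [← hTdef]
  have hTE : Cfsg.Agent.Lib.Helper10.BG.IsSylowIn p T E := by
    rw [hTdef]
    exact Cfsg.Agent.Lib.Helper10.BG.isSylowIn_of_sylow S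
  have hT1 : T ≠ ⊥ := by
    rw [hTdef]
    intro h
    exact hS1 ((Subgroup.map_eq_bot_iff_of_injective _ E.subtype_injective).mp h)
  have hTc : IsCyclic T := by
    rw [hTdef]
    exact (MulEquiv.isCyclic (Subgroup.equivMapOfInjective _ E.subtype E.subtype_injective)).mp hSc
  have hpM : p ∉ Cfsg.sigma M := by
    intro hp
    have h1 : T ≤ Cfsg.sigmaCore M :=
      Cfsg.Agent.Lib.Helper9.BGExc.pgroup_le_sigmaCore hG hM hp hTE.isPGroup (hTE.le.trans hE.1)
    have h2 : T ≤ E ⊓ Cfsg.sigmaCore M := le_inf hTE.le h1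
    rw [hE.2.2.1] at h2
    exact hT1 (le_bot_iff.mp h2)
  have hpσ : ¬ p ∣ Nat.card (Cfsg.sigmaCore M) := fun h =>
    hpM (Cfsg.Agent.Lib.Helper9.BGExc.mem_sigma_of_dvd_card_sigmaCore hG hM hpp h)
  have hTM : Cfsg.Agent.Lib.Helper10.BG.IsSylowIn p T M := by
    apply Cfsg.Agent.Lib.Helper10.BG.isSylowIn_of_le_sup
      (hE.1.trans (Cfsg.Agent.Lib.Helper10.BG.le_normalizer_sigmaCore M)) _ hE.1 hpσ hTE
    intro m hm
    obtain ⟨a, ha, b, hb, rfl⟩ := hE.2.2.2 m hm
    have hn : a * b = (a * b * a⁻¹) * a := by group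
    rw [hn]
    exact Subgroup.mul_mem _
      (Subgroup.mem_sup_left
        (Cfsg.Agent.Lib.Helper10.BG.conj_mem_of_mem_normalizer
          (Cfsg.Agent.Lib.Helper10.BG.le_normalizer_sigmaCore M (hE.1 ha)) hb))
      (Subgroup.mem_sup_right ha)
  intro x hx hx1
  apply le_antisymm
  · have hz1 : Subgroup.zpowers x ≠ ⊥ := fun h => hx1 (Subgroup.zpowers_eq_bot.mp h)
    have hzp : IsPGroup p (Subgroup.zpowers x) :=
      hTE.isPGroup.to_le (Subgroup.zpowers_le.mpr hx)
    have hd : p ∣ Nat.card (Subgroup.zpowers x) :=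
      Cfsg.Agent.Lib.Helper10.BG.dvd_card_of_pgroup_ne_bot hzp hz1
    obtain ⟨y, hy⟩ := exists_prime_orderOf_dvd_card' (G := Subgroup.zpowers x) p hd
    have hXcard : Nat.card (Subgroup.zpowers (y : G)) = p := by
      rw [Nat.card_zpowers, Subgroup.orderOf_coe, hy]
    have hXz : Subgroup.zpowers (y : G) ≤ Subgroup.zpowers x := Subgroup.zpowers_le.mpr y.2
    have h1 : Subgroup.centralizer ({x} : Set G) ≤
        Subgroup.centralizer ((Subgroup.zpowers (y : G) : Subgroup G) : Set G) := by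
      rw [← Cfsg.Agent.Lib.Helper9.BGExc.centralizer_zpowers x]
      exact Subgroup.centralizer_le hXz
    exact le_inf inf_le_left ((inf_le_inf_left _ h1).trans
      (Cfsg.Agent.Lib.Helper10.BG.sigmaCore_inf_centralizer_le_of_cyclic hG hM hpM hTM hTc hXcard
        (hXz.trans (Subgroup.zpowers_le.mpr hx))))
  · exact inf_le_inf_left _ (Subgroup.centralizer_le (Set.singleton_subset_iff.mpr hx))

end Cfsg.Agent.S1427
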