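import Cfsg.Statements.S1378
import Cfsg.Agent.Lib.Helper2.BG13Main
import Cfsg.Agent.Lib.Helper22.BG139

set_option autoImplicit false
open Cfsg

namespace Cfsg.Agent.S1378

/-- Let G be a minimal simple group of odd order. Then every prime dividing the order of G belongs to σ(M) for some maximal subgroup M, and if σ(M) and σ(N) have a prime in common for maximal subgroups M, N then N is conjugate to M; so the sets σ(M_i) over representatives of the conjugacy classes of maximal subgroups partition the prime divisors of #G. -/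
theorem result {G : Type*} [Group G] [Finite G] (hG : Cfsg.IsMinSimpleOddOrder G) :
    (∀ p : ℕ, p.Prime → p ∣ Nat.card G → ∃ M : Subgroup G, IsCoatom M ∧ p ∈ Cfsg.sigma M) ∧
      ∀ M N : Subgroup G, IsCoatom M → IsCoatom N → (Cfsg.sigma M ∩ Cfsg.sigma N).Nonempty → ∃ g : G, N = M.map (MulAut.conj g).toMonoidHom := by
  have hHZ : Cfsg.Agent.Lib.Helper2.BG13.HZ G := by
    intro C T T' s s' hs hs' hCs hne hT hT' hTc hT'c
    haveI : Fact s.Prime := ⟨hs⟩
    haveI : Fact s'.Prime := ⟨hs'⟩
    exact Cfsg.Agent.Lib.Helper22.BG139.exists_conj_normalizes hCs hne hT hT' hTc hT'c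
  have hNH : Cfsg.Agent.Lib.Helper2.BG13.NH G := by
    intro M A B hM hA hB hAB hcop hAβ hBβ
    exact Cfsg.Agent.Lib.Helper22.BG139.commutator_eq_bot_of_not_beta hG hM hA hB hAB hcop hAβ hBβ
  exact Cfsg.Agent.Lib.Helper2.BG13.s1378_of hG hHZ hNH

end Cfsg.Agent.S1378
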