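import Cfsg.Statements.S1446
import Cfsg.Agent.Lib.Helper10.FrobSub
import Cfsg.Agent.S0033

set_option autoImplicit false
open Cfsg

namespace Cfsg.Agent.S1446

open Cfsg.Agent.Lib.Helper10.FrobAction

/-- Let X be a finite group with subgroups K, R, M such that: K and R are nontrivial, K ∩ R = 1, R normalizes K, no non-identity element of R centralizes a non-identity element of K, K ⊔ R is solvable of odd order; M is nilpotent and nontrivial, normalized by K and by R, with order coprime to that of K ⊔ R, M ∩ C(K) = 1, and M ∩ C(x) = M ∩ C(R) for all non-identity x ∈ R. Then R has prime order p, #M = #(M ∩ C(R)) ^ p, and if M ∩ C(R) is cyclic then [K, K] centralizes M. -/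
theorem result {X : Type*} [Group X] [Finite X] (K R M : Subgroup X) (hK1 : K ≠ ⊥) (hR1 : R ≠ ⊥) (hKR : K ⊓ R = ⊥)
    (hRK : R ≤ Subgroup.normalizer (K : Set X)) (hfrob : ∀ r ∈ R, r ≠ 1 → K ⊓ Subgroup.centralizer ({r} : Set X) = ⊥)
    (hsolv : Group.IsSolvable ↥(K ⊔ R)) (hodd : Odd (Nat.card ↥(K ⊔ R)))
    (hM1 : M ≠ ⊥) (hMn : Group.IsNilpotent M) (hKM : K ≤ Subgroup.normalizer (M : Set X)) (hRM : R ≤ Subgroup.normalizer (M : Set X))
    (hcop : (Nat.card ↥(K ⊔ R)).Coprime (Nat.card M)) (hCK : M ⊓ Subgroup.centralizer (K : Set X) = ⊥)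
    (hpr : ∀ x ∈ R, x ≠ 1 → M ⊓ Subgroup.centralizer ({x} : Set X) = M ⊓ Subgroup.centralizer (R : Set X)) :
    (Nat.card R).Prime ∧ Nat.card M = Nat.card ↥(M ⊓ Subgroup.centralizer (R : Set X)) ^ Nat.card R ∧
      (IsCyclic ↥(M ⊓ Subgroup.centralizer (R : Set X)) → ⁅K, K⁆ ≤ Subgroup.centralizer (M : Set X)) := by
  classical
  have hJM : K ⊔ R ≤ Subgroup.normalizer (M : Set X) := sup_le hKM hRM
  have hKJ : K ≤ K ⊔ R := le_sup_left
  have hRJ : R ≤ K ⊔ R := le_sup_right
  have hJK : K ⊔ R ≤ Subgroup.normalizer (K : Set X) := sup_le Subgroup.le_normalizer hRK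
  haveI hKn : (K.subgroupOf (K ⊔ R)).Normal := Subgroup.normal_subgroupOf_of_le_normalizer hJK
  have hmapK : (K.subgroupOf (K ⊔ R)).map (K ⊔ R).subtype = K :=
    Subgroup.map_subgroupOf_eq_of_le hKJ
  have hmapR : (R.subgroupOf (K ⊔ R)).map (K ⊔ R).subtype = R :=
    Subgroup.map_subgroupOf_eq_of_le hRJ
  -- the Frobenius condition
  have hfpf : ∀ R₀ : Subgroup X, R₀ ≤ R → ∀ r ∈ R₀.subgroupOf (K ⊔ R), r ≠ 1 →
      ∀ k ∈ K.subgroupOf (K ⊔ R), r * k = k * r → k = 1 := by
    intro R₀ hR₀ r hr hr1 k hk hrk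
    have h1 : (r : X) ∈ R := hR₀ (Subgroup.mem_subgroupOf.mp hr)
    have h2 : (r : X) ≠ 1 := fun h => hr1 (Subtype.ext h)
    have h3 : (k : X) ∈ K ⊓ Subgroup.centralizer ({(r : X)} : Set X) := by
      refine Subgroup.mem_inf.mpr ⟨Subgroup.mem_subgroupOf.mp hk, ?_⟩
      rw [Subgroup.mem_centralizer_iff]
      intro h hh
      rw [Set.mem_singleton_iff] at hh
      rw [hh]
      exact congrArg Subtype.val hrk
    rw [hfrob _ h1 h2, Subgroup.mem_bot] at h3
    exact Subtype.ext h3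
  haveI hKsolv : Group.IsSolvable (K.subgroupOf (K ⊔ R)) := inferInstance
  have hCK' : M ⊓ Subgroup.centralizer
      (((K.subgroupOf (K ⊔ R)).map (K ⊔ R).subtype : Subgroup X) : Set X) = ⊥ := by
    rw [hmapK]
    exact hCK
  -- Theorem B for the subgroups of `R`
  have hB : ∀ R₀ : Subgroup X, R₀ ≤ R →
      Nat.card M = Nat.card ↥(M ⊓ Subgroup.centralizer (R₀ : Set X)) ^ Nat.card R₀ := by
    intro R₀ hR₀
    have h1 := card_eq_card_centralizer_pow M (K ⊔ R) hJM (K.subgroupOf (K ⊔ R))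
      (R₀.subgroupOf (K ⊔ R)) hKsolv (hfpf R₀ hR₀) hMn hcop hCK'
    rw [Subgroup.map_subgroupOf_eq_of_le (hR₀.trans hRJ)] at h1
    rw [h1, Nat.card_congr (Subgroup.subgroupOfEquivOfLe (hR₀.trans hRJ)).toEquiv]
  -- an element of prime order
  have hR1' : Nat.card R ≠ 1 := fun h => hR1 (Subgroup.eq_bot_of_card_eq R h)
  obtain ⟨p, hp, hpdvd⟩ := Nat.exists_prime_and_dvd hR1'
  haveI : Fact p.Prime := ⟨hp⟩
  obtain ⟨x, hx⟩ := exists_prime_orderOf_dvd_card' p hpdvd
  have hx1 : (x : X) ≠ 1 := by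
    intro h
    have h1 : x = 1 := Subtype.ext h
    rw [h1, orderOf_one] at hx
    exact hp.one_lt.ne hx
  have hxord : orderOf (x : X) = p := by rw [Subgroup.orderOf_coe, hx]
  have hR₀ : Subgroup.zpowers (x : X) ≤ R := Subgroup.zpowers_le.mpr x.2
  have hcardR₀ : Nat.card (Subgroup.zpowers (x : X)) = p := by
    rw [Nat.card_zpowers, hxord]
  have hcent : M ⊓ Subgroup.centralizer ((Subgroup.zpowers (x : X) : Subgroup X) : Set X)
      = M ⊓ Subgroup.centralizer (R : Set X) := by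
    rw [Subgroup.zpowers_eq_closure, Subgroup.centralizer_closure]
    exact hpr x x.2 hx1
  have hB1 := hB _ hR₀
  rw [hcent, hcardR₀] at hB1
  have hB2 := hB R le_rfl
  have hM2 : 1 < Nat.card M := (Subgroup.one_lt_card_iff_ne_bot M).mpr hM1
  have hc2 : 2 ≤ Nat.card ↥(M ⊓ Subgroup.centralizer (R : Set X)) := by
    by_contra h
    have hpos : 0 < Nat.card ↥(M ⊓ Subgroup.centralizer (R : Set X)) := Nat.card_pos
    have h1 : Nat.card ↥(M ⊓ Subgroup.centralizer (R : Set X)) = 1 := by omega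
    rw [h1, one_pow] at hB2
    omega
  have hRp : Nat.card R = p := Nat.pow_right_injective hc2 (hB2.symm.trans hB1)
  refine ⟨hRp ▸ hp, hB2, ?_⟩
  intro hcyc
  -- `K` is nilpotent, by Thompson's theorem
  have hRKx : (x : X) ∈ Subgroup.normalizer (K : Set X) := hRK x.2
  have hφfpf : MonoidHom.FixedPointFree ((conjAut K (x : X) hRKx : K ≃* K) : K →* K) := by
    intro k hk
    have h1 : (x : X) * k * (x : X)⁻¹ = k := congrArg Subtype.val hk
    have h3 : (k : X) ∈ K ⊓ Subgroup.centralizer ({(x : X)} : Set X) := by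
      refine Subgroup.mem_inf.mpr ⟨k.2, ?_⟩
      rw [Subgroup.mem_centralizer_iff]
      intro h hh
      rw [Set.mem_singleton_iff] at hh
      rw [hh]
      calc (x : X) * k = ((x : X) * k * (x : X)⁻¹) * x := by group
        _ = (k : X) * x := by rw [h1]
    rw [hfrob _ x.2 hx1, Subgroup.mem_bot] at h3
    exact Subtype.ext h3
  have hφord : orderOf (conjAut K (x : X) hRKx : K ≃* K) = p := by
    have h1 : (conjAut K (x : X) hRKx : K ≃* K) ^ p = 1 := by
      ext k
      have h2 : ∀ n : ℕ, ((((conjAut K (x : X) hRKx : K ≃* K) ^ n) k : K) : X)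
          = (x : X) ^ n * k * ((x : X) ^ n)⁻¹ := by
        intro n
        induction n with
        | zero => simp
        | succ n ih =>
          rw [pow_succ', MulAut.mul_apply]
          show (x : X) * ((((conjAut K (x : X) hRKx : K ≃* K) ^ n) k : K) : X) * (x : X)⁻¹ = _
          rw [ih, pow_succ']
          group
      rw [h2 p]
      have h3 : (x : X) ^ p = 1 := by
        rw [← hxord]
        exact pow_orderOf_eq_one _
      rw [h3]
      simp
    have h3 := orderOf_dvd_of_pow_eq_one h1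
    rcases (Nat.dvd_prime hp).mp h3 with h | h
    · exfalso
      rw [orderOf_eq_one_iff] at h
      apply hK1
      rw [eq_bot_iff]
      intro k hk
      have h4 := hφfpf ⟨k, hk⟩ (by rw [h]; rfl)
      rw [Subgroup.mem_bot]
      exact congrArg Subtype.val h4
    · exact h
  haveI hKnil : Group.IsNilpotent K := Cfsg.Agent.S0033.result _ hφfpf p hp hφord
  have hKnil' : Group.IsNilpotent (K.subgroupOf (K ⊔ R)) :=
    Group.nilpotent_of_mulEquiv (Subgroup.subgroupOfEquivOfLe hKJ).symm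
  have hcyc' : IsCyclic ↥(M ⊓ Subgroup.centralizer
      (((R.subgroupOf (K ⊔ R)).map (K ⊔ R).subtype : Subgroup X) : Set X)) := by
    rw [hmapR]
    exact hcyc
  have h := commutator_le_centralizer_of_isCyclic M (K ⊔ R) hJM (K.subgroupOf (K ⊔ R))
    (R.subgroupOf (K ⊔ R)) hKnil' (hfpf R le_rfl) hMn hcop hcyc'
  rwa [hmapK] at h

end Cfsg.Agent.S1446
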