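-- Statement S0660: Maschke-type invariant complements under coprime action on an abelian group.
import Mathlib
import Cfsg.Statements.S0660

set_option autoImplicit false
open Cfsg

namespace Cfsg.Agent.S0660

open Subgroup
open scoped IsMulCommutative

/-- the projection onto `U` along `W` in a commutative group -/
theorem exists_proj {V : Type*} [CommGroup V] (U W : Subgroup V) (h1 : U ⊓ W = ⊥) (h2 : U ⊔ W = ⊤) :
    ∃ π : V →* V, (∀ v, π v ∈ U) ∧ (∀ u ∈ U, π u = u) := by
  have hcompl : U.IsComplement' W := by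
    apply Subgroup.isComplement'_of_disjoint_and_mul_eq_univ (disjoint_iff.mpr h1)
    rw [← Subgroup.mul_normal, h2]; rfl
  let e := hcompl.QuotientMulEquiv
  refine ⟨U.subtype.comp (e.toMonoidHom.comp (QuotientGroup.mk' W)), fun v => (e _).2, ?_⟩
  intro u hu
  have h3 : e.symm ⟨u, hu⟩ = QuotientGroup.mk' W u := rfl
  show ((e (QuotientGroup.mk' W u) : U) : V) = u
  rw [← h3, MulEquiv.apply_symm_apply]

/-- Maschke-type averaging in a commutative group `V` acted on by a finite group `A` of order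
prime to `|V|`. -/
theorem exists_invariant_complement {V : Type*} [CommGroup V] [Finite V] {A : Type*} [Group A]
    [Fintype A] (σ : A →* MulAut V) (hcop : (Fintype.card A).Coprime (Nat.card V))
    (U W : Subgroup V) (hU : ∀ a : A, ∀ u ∈ U, σ a u ∈ U) (h1 : U ⊓ W = ⊥) (h2 : U ⊔ W = ⊤) :
    ∃ W' : Subgroup V, (∀ a : A, ∀ w ∈ W', σ a w ∈ W') ∧ U ⊓ W' = ⊥ ∧ U ⊔ W' = ⊤ := by
  classical
  obtain ⟨π, hπU, hπid⟩ := exists_proj U W h1 h2
  set k := Fintype.card A with hk
  -- the averaged map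
  let θ : V →* V := ∏ a : A, (σ a).toMonoidHom.comp (π.comp (σ a⁻¹).toMonoidHom)
  have hθ : ∀ v, θ v = ∏ a : A, σ a (π (σ a⁻¹ v)) := by
    intro v
    simp only [θ, MonoidHom.finsetProd_apply]
    rfl
  have hθU : ∀ v, θ v ∈ U := by
    intro v
    rw [hθ]
    exact Subgroup.prod_mem _ fun a _ => hU a _ (hπU _)
  have hθid : ∀ u ∈ U, θ u = u ^ k := by
    intro u hu
    rw [hθ]
    have : ∀ a : A, σ a (π (σ a⁻¹ u)) = u := by
      intro a
      rw [hπid _ (hU a⁻¹ u hu), ← MulAut.mul_apply, ← map_mul, mul_inv_cancel, map_one]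
      rfl
    simp only [this, Finset.prod_const, Finset.card_univ, hk]
  have hθeq : ∀ (b : A) (v : V), θ (σ b v) = σ b (θ v) := by
    intro b v
    rw [hθ, hθ, map_prod]
    rw [← Equiv.prod_comp (Equiv.mulLeft b)]
    apply Finset.prod_congr rfl
    intro c _
    simp only [Equiv.coe_mulLeft, mul_inv_rev, map_mul, MulAut.mul_apply]
    congr 3
    have e1 : (σ b⁻¹) ((σ b) v) = v := by
      have : (σ b⁻¹) ((σ b) v) = (σ (b⁻¹ * b)) v := by rw [map_mul]; rfl
      rw [this, inv_mul_cancel, map_one]; rfl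
    rw [e1]
  refine ⟨θ.ker, ?_, ?_, ?_⟩
  · intro a w hw
    rw [MonoidHom.mem_ker] at hw ⊢
    rw [hθeq, hw, map_one]
  · rw [eq_bot_iff]
    intro x hx
    rw [Subgroup.mem_bot]
    have hxU : x ∈ U := hx.1
    have hxk : θ x = 1 := MonoidHom.mem_ker.mp hx.2
    rw [hθid x hxU] at hxk
    have h3 : orderOf x ∣ k := orderOf_dvd_of_pow_eq_one hxk
    have h4 : orderOf x ∣ Nat.card V := orderOf_dvd_natCard x
    have h5 : orderOf x = 1 := Nat.eq_one_of_dvd_coprimes hcop h3 h4
    exact orderOf_eq_one_iff.mp h5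
  · rw [eq_top_iff]
    intro v _
    -- `θ v = u ^ k` for some `u ∈ U`
    have hcopU : (Nat.card U).Coprime k :=
      (Nat.Coprime.coprime_dvd_right (Subgroup.card_subgroup_dvd_card U) hcop).symm
    obtain ⟨u, hu⟩ := (powCoprime hcopU).surjective ⟨θ v, hθU v⟩
    have hu' : (u : V) ^ k = θ v := by
      have := congrArg Subtype.val hu
      simpa using this
    have h3 : θ (v * (u : V)⁻¹) = 1 := by
      rw [map_mul, map_inv, hθid _ u.2, hu', mul_inv_cancel]
    have h4 : v = (u : V) * (v * (u : V)⁻¹) := by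
      rw [mul_comm v, mul_inv_cancel_left]
    rw [h4]
    exact Subgroup.mul_mem _ (Subgroup.mem_sup_left u.2)
      (Subgroup.mem_sup_right (MonoidHom.mem_ker.mpr h3))

/-- Under a coprime action on an abelian group, an invariant subgroup that is complemented admits an invariant complement. -/
theorem result {G : Type*} [Group G] [Finite G] (V A U : Subgroup G) (hVab : IsMulCommutative V) (hAV : A ≤ Subgroup.normalizer (V : Set G)) (hcop : (Nat.card A).Coprime (Nat.card V)) (hUV : U ≤ V) (hAU : A ≤ Subgroup.normalizer (U : Set G)) (W : Subgroup G) (hWV : W ≤ V) (hUW : U ⊓ W = ⊥) (hUWV : U ⊔ W = V) : ∃ W' : Subgroup G, W' ≤ V ∧ A ≤ Subgroup.normalizer (W' : Set G) ∧ U ⊓ W' = ⊥ ∧ U ⊔ W' = V := by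
  classical
  have : Fintype A := Fintype.ofFinite A
  let σ : A →* MulAut V := V.normalizerMonoidHom.comp (Subgroup.inclusion hAV)
  have hσ : ∀ (a : A) (v : V), ((σ a v : V) : G) = (a : G) * (v : G) * (a : G)⁻¹ := fun a v => rfl
  have hcop' : (Fintype.card A).Coprime (Nat.card V) := by
    rw [← Nat.card_eq_fintype_card]; exact hcop
  have hU' : ∀ a : A, ∀ u ∈ U.subgroupOf V, σ a u ∈ U.subgroupOf V := by
    intro a u hu
    rw [mem_subgroupOf] at hu ⊢
    rw [hσ]
    exact (mem_set_normalizer_iff.mp (hAU a.2) _).mp hu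
  have h1 : U.subgroupOf V ⊓ W.subgroupOf V = ⊥ := by
    rw [eq_bot_iff]
    intro x hx
    rw [Subgroup.mem_bot]
    have : (x : G) ∈ U ⊓ W := ⟨hx.1, hx.2⟩
    rw [hUW, Subgroup.mem_bot] at this
    exact Subtype.ext this
  have h2 : U.subgroupOf V ⊔ W.subgroupOf V = ⊤ := by
    rw [← Subgroup.subgroupOf_sup hUV hWV, hUWV, Subgroup.subgroupOf_self]
  obtain ⟨W'', hinv, hd, hs⟩ := exists_invariant_complement σ hcop' _ _ hU' h1 h2
  have hconj : ∀ a ∈ A, ∀ n ∈ W''.map V.subtype, a * n * a⁻¹ ∈ W''.map V.subtype := by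
    rintro a ha _ ⟨w, hw, rfl⟩
    exact ⟨σ ⟨a, ha⟩ w, hinv ⟨a, ha⟩ w hw, rfl⟩
  refine ⟨W''.map V.subtype, Subgroup.map_subtype_le _, ?_, ?_, ?_⟩
  · intro a ha
    rw [mem_set_normalizer_iff]
    intro n
    refine ⟨hconj a ha n, fun h => ?_⟩
    have := hconj a⁻¹ (A.inv_mem ha) _ h
    have e : a⁻¹ * (a * n * a⁻¹) * a⁻¹⁻¹ = n := by group
    rwa [e] at this
  · rw [eq_bot_iff]
    rintro x ⟨hxU, w, hw, rfl⟩
    have : w ∈ U.subgroupOf V ⊓ W'' := ⟨hxU, hw⟩
    rw [hd, Subgroup.mem_bot] at this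
    rw [this]
    exact Subgroup.one_mem _
  · have e1 : U = (U.subgroupOf V).map V.subtype := (Subgroup.map_subgroupOf_eq_of_le hUV).symm
    conv_lhs => rw [e1]
    rw [← Subgroup.map_sup, hs, ← MonoidHom.range_eq_map, Subgroup.range_subtype]

end Cfsg.Agent.S0660
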