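import Cfsg.Statements.S1358
import Cfsg.Agent.S1420
import Cfsg.Agent.Lib.Helper1.BGSigmaDecomp

set_option autoImplicit false
open Cfsg

namespace Cfsg.Agent.S1358

/-- Let G be a minimal simple group of odd order and M a maximal subgroup with standard factorisation M = K U M_σ. Then for every prime p, every Sylow p-subgroup of U is abelian and has no elementary abelian subgroup of order p ^ 3. -/
theorem result {G : Type*} [Group G] [Finite G] (hG : Cfsg.IsMinSimpleOddOrder G)
    (M : Subgroup G) (hM : IsCoatom M) (K U : Subgroup G) (hKU : Cfsg.IsSigmaDecomposition M K U) :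
    ∀ (p : ℕ), p.Prime → ∀ P : Sylow p U, IsMulCommutative (P : Subgroup U) ∧ Cfsg.PRankLE p 2 (P : Subgroup U) := by
  intro p hp P
  haveI : Fact p.Prime := ⟨hp⟩
  have hUM : U ≤ M := hKU.compl.1
  have hE := Cfsg.Agent.Lib.Helper1.BGSigmaDecomp.isComplIn_UK hG hM hKU
  have h20 := (Cfsg.Agent.S1420.result hG M hM _ hE).1
  set P' : Subgroup G := ((P : Subgroup U).map U.subtype) with hP'
  have hP'U : P' ≤ U := Subgroup.map_subtype_le _
  have hP'pg : IsPGroup p P' := P.isPGroup'.map _
  have hcomm : IsMulCommutative P' := by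
    apply h20 P' (hP'U.trans hUM) hP'pg.isNilpotent
    intro q hq hd
    have hdU : q ∣ Nat.card U := hd.trans (Subgroup.card_dvd_of_le hP'U)
    exact Cfsg.Agent.Lib.Helper1.BGSigmaDecomp.not_mem_sigma_of_dvd_card_U hG hM hKU hq hdU
  constructor
  · constructor
    constructor
    rintro ⟨a, ha⟩ ⟨b, hb⟩
    have ha' : (a : G) ∈ P' := ⟨a, ha, rfl⟩
    have hb' : (b : G) ∈ P' := ⟨b, hb, rfl⟩
    have := hcomm.is_comm.comm ⟨(a : G), ha'⟩ ⟨(b : G), hb'⟩
    have h2 : (a : G) * b = b * a := congrArg Subtype.val this
    apply Subtype.ext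
    apply Subtype.ext
    exact h2
  · intro A hA hAp
    by_cases hpU : p ∣ Nat.card U
    · have hpσ : p ∉ Cfsg.sigma M :=
        Cfsg.Agent.Lib.Helper1.BGSigmaDecomp.not_mem_sigma_of_dvd_card_U hG hM hKU hp hpU
      have hpα : p ∉ Cfsg.alpha M :=
        fun h => hpσ (Cfsg.Agent.Lib.Helper10.BG.alpha_subset_sigma hG hM h)
      have hr : Cfsg.PRankLE p 2 ↥M := Cfsg.Agent.Lib.Helper10.BG.alpha_rank M p hp hpα
      let f : (P : Subgroup U) →* M :=
        (Subgroup.inclusion hUM).comp (P : Subgroup U).subtype
      have hf : Function.Injective f := by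
        intro x y hxy
        have : ((x : U) : G) = ((y : U) : G) := congrArg (fun z : M => (z : G)) hxy
        exact Subtype.ext (Subtype.ext this)
      have hAm : IsMulCommutative (A.map f) := by
        constructor
        constructor
        rintro ⟨_, x, hx, rfl⟩ ⟨_, y, hy, rfl⟩
        apply Subtype.ext
        have := hA.is_comm.comm ⟨x, hx⟩ ⟨y, hy⟩
        have h2 : x * y = y * x := congrArg Subtype.val this
        show f x * f y = f y * f x
        rw [← map_mul, ← map_mul, h2]
      have := hr (A.map f) hAm (by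
        rintro _ ⟨x, hx, rfl⟩
        rw [← map_pow, hAp x hx, map_one])
      rwa [Subgroup.card_map_of_injective hf] at this
    · have hP1 : Nat.card (P : Subgroup U) = 1 := by
        obtain ⟨n, hn⟩ := (IsPGroup.iff_card.mp P.isPGroup')
        have hdvd : Nat.card (P : Subgroup U) ∣ Nat.card U := Subgroup.card_subgroup_dvd_card _
        rcases n with _ | n
        · simpa using hn
        · exfalso; apply hpU
          rw [hn] at hdvd
          exact (dvd_pow_self p (Nat.succ_ne_zero n)).trans hdvd
      have : Nat.card A ≤ Nat.card (P : Subgroup U) := by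
        have := Subgroup.card_subgroup_dvd_card A
        exact Nat.le_of_dvd Nat.card_pos this
      rw [hP1] at this
      exact this.trans (Nat.one_le_pow _ _ hp.pos)

end Cfsg.Agent.S1358
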