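import Mathlib
import Cfsg.Statements.S1361
import Cfsg.Agent.Lib.Helper3.BG14F
import Cfsg.Agent.Lib.Helper19.BG12B
import Cfsg.Agent.S1418

set_option autoImplicit false
open Cfsg

namespace Cfsg.Agent.S1361

open Cfsg.Agent.Lib.Helper10.BG Cfsg.Agent.Lib.Helper10 Cfsg.Agent.Lib.Helper9.BGExc
open Cfsg.Agent.Lib.Helper19.BGCompl Cfsg.Agent.Lib.Helper1.BGSigmaDecomp
open Cfsg.Agent.Lib.Helper19.BG12 Cfsg.Agent.Lib.Helper3.BG14

theorem result {G : Type*} [Group G] [Finite G] (hG : Cfsg.IsMinSimpleOddOrder G)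
    (M : Subgroup G) (hM : IsCoatom M) (K U : Subgroup G) (hKU : Cfsg.IsSigmaDecomposition M K U) (X : Subgroup G) (hXU : X ≤ U) (hX : X ≠ ⊥)
    (hXc : Cfsg.sigmaCore M ⊓ Subgroup.centralizer (X : Set G) ≠ ⊥) :
    Subgroup.centralizer (X : Set G) ≤ M ∧ ∀ L : Subgroup G, IsCoatom L → Subgroup.centralizer (X : Set G) ≤ L → L = M := by
  classical
  obtain ⟨y, hy, hy1⟩ := exists_ne_one_of_ne_bot hXc
  obtain ⟨hyσ, hyc⟩ := Subgroup.mem_inf.mp hy
  have hXy : ∀ x ∈ X, x * y = y * x := fun x hx => (Subgroup.mem_centralizer_iff.mp hyc x hx)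
  have hXM : X ≤ M := hXU.trans hKU.compl.1
  have hE := isComplIn_UK hG hM hKU
  have hXE : X ≤ U ⊔ K := hXU.trans le_sup_left
  -- every prime divisor of `|X|` lies in `τ₂(M)`
  have hτ : ∀ p : ℕ, p.Prime → p ∣ Nat.card X → p ∈ tau2 M := by
    intro p hp hpd
    haveI : Fact p.Prime := ⟨hp⟩
    obtain ⟨x, hx⟩ := exists_prime_orderOf_dvd_card' (G := X) p hpd
    have hpU : p ∣ Nat.card U := hpd.trans (Subgroup.card_dvd_of_le hXU)
    apply mem_tau2_of_commute hG hM (not_mem_sigma_of_dvd_card_U hG hM hKU hp hpU)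
      (not_mem_kappa_of_dvd_card_U hG hM hKU hp hpU) (hXM x.2) _ hyσ hy1 (hXy x x.2)
    rw [Subgroup.orderOf_coe, hx]
  -- a prime `p` and an element `x` of order `p` of `X`
  have hc1 : Nat.card X ≠ 1 := fun h => hX (Subgroup.card_eq_one.mp h)
  obtain ⟨p, hp, hpd⟩ := Nat.exists_prime_and_dvd hc1
  haveI : Fact p.Prime := ⟨hp⟩
  have hpτ := hτ p hp hpd
  obtain ⟨x, hx⟩ := exists_prime_orderOf_dvd_card' (G := X) p hpd
  obtain ⟨A, hAE, hAe, hAc⟩ := tau2_elem_sq_compl hG hM hE hpτ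
  have hAM : A ≤ M := hAE.trans hE.1
  obtain ⟨⟨hEA, hXA⟩, -, h18c⟩ :=
    Cfsg.Agent.S1418.result hG M hM (U ⊔ K) hE p hpτ A ⟨hAE, hAe, hAc⟩
  have hAp : IsPGroup p A := isPGroup_of_elem hAe
  -- `A` centralizes `X`
  have hAX : ∀ u ∈ X, u ∈ Subgroup.centralizer (A : Set G) := by
    intro u hu
    apply Cfsg.Agent.S1420.mem_of_primary_parts_mem
    intro q hq v hv hvq
    haveI : Fact q.Prime := ⟨hq⟩
    have hvX : v ∈ X := (Subgroup.zpowers_le.mpr hu) hv
    by_cases hv1 : v = 1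
    · rw [hv1]; exact Subgroup.one_mem _
    have hqd : q ∣ Nat.card X := by
      have h1 : Subgroup.zpowers v ≠ ⊥ := by
        intro h
        have : v ∈ (⊥ : Subgroup G) := h ▸ Subgroup.mem_zpowers v
        exact hv1 (Subgroup.mem_bot.mp this)
      rcases hvq.card_eq_or_dvd with h | h
      · exact absurd (Subgroup.card_eq_one.mp h) h1
      · exact h.trans (Subgroup.card_dvd_of_le (Subgroup.zpowers_le.mpr hvX))
    have hqτ := hτ q hq hqd
    by_cases hpq : p = q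
    · subst hpq
      obtain ⟨T, hT, hvT⟩ := exists_isSylowIn_ge (Subgroup.zpowers_le.mpr (hXE hvX)) hvq
      have hAT : A ≤ T := hT.normal_le hAE hAp hEA
      have hTM : T ≤ M := hT.le.trans hE.1
      have hcomm := tau2_pgroup_comm hG hM hpτ hT.isPGroup hTM
      rw [Subgroup.mem_centralizer_iff]
      intro a ha
      exact hcomm a (hAT ha) v (hvT (Subgroup.mem_zpowers v))
    · exact tau2_cross_centralize hG hM hE hpτ hqτ hpq hAE hAe hAc (hXE hvX) hvq
  have hAcent : A ≤ Subgroup.centralizer (X : Set G) := by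
    intro a ha
    rw [Subgroup.mem_centralizer_iff]
    intro u hu
    exact (Subgroup.mem_centralizer_iff.mp (hAX u hu) a ha).symm
  -- `C_G(X) ≤ C_G(x) ≤ M`
  have hxo : orderOf (x : G) = p := by rw [Subgroup.orderOf_coe, hx]
  have hZE : Subgroup.zpowers (x : G) ≤ U ⊔ K := Subgroup.zpowers_le.mpr (hXE x.2)
  have hZc : Nat.card (Subgroup.zpowers (x : G)) = p := by rw [Nat.card_zpowers, hxo]
  have hZA : Subgroup.zpowers (x : G) ≤ A := hXA _ hZE hZc
  have hZσ : sigmaCore M ⊓ Subgroup.centralizer ((Subgroup.zpowers (x : G) : Subgroup G) : Set G)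
      ≠ ⊥ := by
    intro h
    apply hy1
    have : y ∈ sigmaCore M ⊓
        Subgroup.centralizer ((Subgroup.zpowers (x : G) : Subgroup G) : Set G) := by
      refine Subgroup.mem_inf.mpr ⟨hyσ, ?_⟩
      rw [Subgroup.mem_centralizer_iff]
      intro w hw
      exact hXy w ((Subgroup.zpowers_le.mpr x.2) hw)
    rw [h, Subgroup.mem_bot] at this
    exact this
  have h18 := h18c _ hZA hZc hZσ
  have hle : Subgroup.centralizer (X : Set G) ≤ M := by
    refine le_trans (Subgroup.centralizer_le ?_) h18.1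
    intro w hw
    exact (Subgroup.zpowers_le.mpr x.2) hw
  refine ⟨hle, ?_⟩
  intro L hL hCL
  by_contra hne
  have h17 := (Cfsg.Agent.S1417.result hG M hM p hpτ A ⟨hAM, hAe, hAc⟩).2.2.2.2.1 L hL hne
    (hAcent.trans hCL)
  have hyL : y ∈ sigmaCore M ⊓ L := Subgroup.mem_inf.mpr ⟨hyσ, hCL hyc⟩
  rw [h17, Subgroup.mem_bot] at hyL
  exact hy1 hyL

end Cfsg.Agent.S1361
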