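import Mathlib
import Cfsg.Statements.S1362
import Cfsg.Agent.S1361
import Cfsg.Agent.Lib.Helper19.BG14B
import Cfsg.Agent.Lib.Helper9.Misc

set_option autoImplicit false
open Cfsg

namespace Cfsg.Agent.S1362

open Cfsg.Agent.Lib.Helper10.BG Cfsg.Agent.Lib.Helper10 Cfsg.Agent.Lib.Helper9.BGExc
open Cfsg.Agent.Lib.Helper19.BGCompl Cfsg.Agent.Lib.Helper19.BG12
open Cfsg.Agent.Lib.Helper1.BGSigmaDecomp Cfsg.Agent.Lib.Helper19.BG14

variable {G : Type*} [Group G] [Finite G] {M K U : Subgroup G}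

/-- `(U M_σ) ∩ (U K) ≤ U`. -/
theorem inf_le_U (hG : IsMinSimpleOddOrder G) (hM : IsCoatom M)
    (hKU : IsSigmaDecomposition M K U) :
    (U ⊔ sigmaCore M) ⊓ (U ⊔ K) ≤ U := by
  intro w hw
  obtain ⟨hw1, hw2⟩ := Subgroup.mem_inf.mp hw
  obtain ⟨u1, hu1, k, hk, rfl⟩ :=
    (Cfsg.Agent.Lib.Helper9.mem_sup_of_le_normalizer hKU.normal).mp hw2
  have hUn : U ≤ Subgroup.normalizer (sigmaCore M : Set G) :=
    hKU.compl.1.trans (le_normalizer_sigmaCore M)
  rw [sup_comm] at hw1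
  obtain ⟨s, hs, u2, hu2, he⟩ := (Cfsg.Agent.Lib.Helper9.mem_sup_of_le_normalizer hUn).mp hw1
  -- `k = (u1⁻¹ s u1) (u1⁻¹ u2)`
  have hs' : u1⁻¹ * s * u1 ∈ sigmaCore M :=
    conj_mem_of_mem_normalizer' (hUn hu1) hs
  have hk' : k = (u1⁻¹ * s * u1) * (u1⁻¹ * u2) := by
    have : u1⁻¹ * (s * u2) = k := by rw [he]; group
    rw [← this]; group
  have hu3 : u1⁻¹ * u2 ∈ U ⊓ (K ⊔ sigmaCore M) := by
    refine Subgroup.mem_inf.mpr ⟨U.mul_mem (U.inv_mem hu1) hu2, ?_⟩
    have e : u1⁻¹ * u2 = (u1⁻¹ * s * u1)⁻¹ * k := by rw [hk']; group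
    rw [e]
    exact Subgroup.mul_mem _ (Subgroup.mem_sup_right (Subgroup.inv_mem _ hs'))
      (Subgroup.mem_sup_left hk)
  rw [hKU.compl.2.2.1, Subgroup.mem_bot] at hu3
  have hk2 : k ∈ K ⊓ sigmaCore M := by
    refine Subgroup.mem_inf.mpr ⟨hk, ?_⟩
    rw [hk', hu3, mul_one]
    exact hs'
  rw [K_inf_sigmaCore hG hM hKU, Subgroup.mem_bot] at hk2
  rw [hk2, mul_one]
  exact hu1

/-- The key: for `a ∈ A(M) ∖ M_σ`, the `σ(M)'`-part `v = a ^ |M_σ|` of `a` has `𝓜(C_G(v)) = {M}`. -/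
theorem key (hG : IsMinSimpleOddOrder G) (hM : IsCoatom M)
    (hKU : IsSigmaDecomposition M K U) {a : G} (ha : a ∈ sigmaA M U) (haσ : a ∉ sigmaCore M) :
    Subgroup.centralizer ({a ^ Nat.card (sigmaCore M)} : Set G) ≤ M ∧
      ∀ L : Subgroup G, IsCoatom L →
        Subgroup.centralizer ({a ^ Nat.card (sigmaCore M)} : Set G) ≤ L → L = M := by
  classical
  obtain ⟨⟨haM, y, hy, hy1, hay⟩, haV⟩ := ha
  set n₁ := Nat.card (sigmaCore M) with hn₁
  set v := a ^ n₁ with hv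
  have hE := isComplIn_UK hG hM hKU
  have hEcard := Cfsg.Agent.Lib.Helper10.IsComplIn.card_eq hE
  have hEcop := IsComplIn.coprime_sigmaCore hG hM hE
  have hErel : (U ⊔ K).relIndex M = n₁ := by
    have h1 := Cfsg.Agent.Lib.Helper12.card_mul_relIndex_eq hE.1
    have h3 : Nat.card ↥(U ⊔ K) * (U ⊔ K).relIndex M = Nat.card ↥(U ⊔ K) * n₁ := by
      rw [h1, hEcard]
    exact Nat.eq_of_mul_eq_mul_left Nat.card_pos h3
  -- `v ≠ 1`
  have hv1 : v ≠ 1 := by
    intro h
    apply haσ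
    have hle : Subgroup.zpowers a ≤ sigmaCore M := by
      apply le_sigmaCore_of_sigma_group hG hM (Subgroup.zpowers_le.mpr haM)
      intro q hq hd
      rw [Nat.card_zpowers] at hd
      exact mem_sigma_of_dvd_card_sigmaCore hG hM hq (hd.trans (orderOf_dvd_of_pow_eq_one h))
    exact hle (Subgroup.mem_zpowers a)
  -- `v ^ |E| = 1`
  have hvE : v ^ Nat.card ↥(U ⊔ K) = 1 := by
    rw [hv, ← pow_mul, mul_comm, ← hEcard]
    exact KData.pow_card_of_mem haM
  have hvM : v ∈ M := M.pow_mem haM _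
  have hvV : v ∈ U ⊔ sigmaCore M := Subgroup.pow_mem _ haV _
  have hvy : v * y = y * v := by
    have : Commute a y := hay
    exact (this.pow_left n₁).eq
  set Z := Subgroup.zpowers v with hZ
  have hZM : Z ≤ M := Subgroup.zpowers_le.mpr hvM
  have hZcop : (Nat.card Z).Coprime ((U ⊔ K).relIndex M) := by
    rw [hErel, hZ, Nat.card_zpowers]
    exact Nat.Coprime.coprime_dvd_left (orderOf_dvd_of_pow_eq_one hvE) hEcop
  have hMs : Group.IsSolvable M := isSolvable_of_ne_top hG hM.1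
  obtain ⟨g, hgM, hgZ⟩ := hall_le_conj_in hMs hE.1 hZM (by rw [hErel]; exact hEcop) hZcop
  set X := Z.map (MulAut.conj g).toMonoidHom with hX
  have hgv : g * v * g⁻¹ ∈ X := ⟨v, Subgroup.mem_zpowers v, by simp [MulAut.conj_apply]⟩
  -- `X ≤ U`
  have hXU : X ≤ U := by
    apply le_trans _ (inf_le_U hG hM hKU)
    apply le_inf _ hgZ
    rintro _ ⟨z, hz, rfl⟩
    have hzV : z ∈ U ⊔ sigmaCore M := (Subgroup.zpowers_le.mpr hvV) hz
    have := conj_mem_of_mem_normalizer (le_normalizer_U_sup hKU hgM) hzV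
    simpa [MulAut.conj_apply] using this
  have hX1 : X ≠ ⊥ := by
    intro h
    rw [h, Subgroup.mem_bot] at hgv
    apply hv1
    have : v = g⁻¹ * (g * v * g⁻¹) * g := by group
    rw [this, hgv]; group
  have hXc : sigmaCore M ⊓ Subgroup.centralizer (X : Set G) ≠ ⊥ := by
    intro h
    have hmem : g * y * g⁻¹ ∈ sigmaCore M ⊓ Subgroup.centralizer (X : Set G) := by
      refine Subgroup.mem_inf.mpr
        ⟨conj_mem_of_mem_normalizer (le_normalizer_sigmaCore M hgM) hy, ?_⟩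
      rw [Subgroup.mem_centralizer_iff]
      rintro _ ⟨z, hz, rfl⟩
      obtain ⟨k, rfl⟩ := Subgroup.mem_zpowers_iff.mp hz
      have hc : Commute (v ^ k) y := (show Commute v y from hvy).zpow_left k
      simp only [MulEquiv.coe_toMonoidHom, MulAut.conj_apply]
      calc g * v ^ k * g⁻¹ * (g * y * g⁻¹) = g * (v ^ k * y) * g⁻¹ := by group
        _ = g * (y * v ^ k) * g⁻¹ := by rw [hc.eq]
        _ = g * y * g⁻¹ * (g * v ^ k * g⁻¹) := by group
    rw [h, Subgroup.mem_bot] at hmem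
    apply hy1
    have : y = g⁻¹ * (g * y * g⁻¹) * g := by group
    rw [this, hmem]; group
  obtain ⟨h61, h62⟩ := Cfsg.Agent.S1361.result hG M hM K U hKU X hXU hX1 hXc
  -- transfer along conjugation by `g`
  have hcent : ∀ c ∈ Subgroup.centralizer ({v} : Set G),
      g * c * g⁻¹ ∈ Subgroup.centralizer (X : Set G) := by
    intro c hc
    rw [Subgroup.mem_centralizer_iff]
    rintro _ ⟨z, hz, rfl⟩
    obtain ⟨k, rfl⟩ := Subgroup.mem_zpowers_iff.mp hz
    have hcv : Commute v c := Subgroup.mem_centralizer_iff.mp hc v rfl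
    have hc' : Commute (v ^ k) c := hcv.zpow_left k
    simp only [MulEquiv.coe_toMonoidHom, MulAut.conj_apply]
    calc g * v ^ k * g⁻¹ * (g * c * g⁻¹) = g * (v ^ k * c) * g⁻¹ := by group
      _ = g * (c * v ^ k) * g⁻¹ := by rw [hc'.eq]
      _ = g * c * g⁻¹ * (g * v ^ k * g⁻¹) := by group
  refine ⟨?_, ?_⟩
  · intro c hc
    have h1 : g * c * g⁻¹ ∈ M := h61 (hcent c hc)
    have : c = g⁻¹ * (g * c * g⁻¹) * g := by group
    rw [this]
    exact M.mul_mem (M.mul_mem (M.inv_mem hgM) h1) hgM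
  · intro L hL hCL
    -- `C_G(X) ≤ L^g`
    have h1 : Subgroup.centralizer (X : Set G) ≤ L.map (MulAut.conj g).toMonoidHom := by
      intro d hd
      refine ⟨g⁻¹ * d * g, hCL ?_, by simp [MulAut.conj_apply]; group⟩
      rw [Subgroup.mem_centralizer_iff]
      intro w hw
      rw [Set.mem_singleton_iff] at hw
      subst hw
      have hd' : Commute (g * v * g⁻¹) d := Subgroup.mem_centralizer_iff.mp hd _ hgv
      calc v * (g⁻¹ * d * g) = g⁻¹ * ((g * v * g⁻¹) * d) * g := by group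
        _ = g⁻¹ * (d * (g * v * g⁻¹)) * g := by rw [hd'.eq]
        _ = g⁻¹ * d * g * v := by group
    have h2 := h62 _ (isCoatom_map_conj g hL) h1
    -- `L = M^{g⁻¹} = M`
    have h3 : L = M.map (MulAut.conj g⁻¹).toMonoidHom := by
      rw [← h2, map_conj_inv_map_conj]
    rw [h3]
    exact Cfsg.Agent.Lib.Helper10.map_conj_eq_of_mem_normalizer M g⁻¹
      (Subgroup.le_normalizer (M.inv_mem hgM))

/-- `M` normalizes the set `A(M) ∖ M_σ`. -/
theorem conj_mem (hKU : IsSigmaDecomposition M K U) {m b : G} (hm : m ∈ M)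
    (hb : b ∈ sigmaA M U \ (sigmaCore M : Set G)) :
    m * b * m⁻¹ ∈ sigmaA M U \ (sigmaCore M : Set G) := by
  obtain ⟨⟨⟨hbM, y, hy, hy1, hby⟩, hbV⟩, hbσ⟩ := hb
  have hmσ := le_normalizer_sigmaCore M hm
  refine ⟨⟨⟨M.mul_mem (M.mul_mem hm hbM) (M.inv_mem hm), m * y * m⁻¹,
    conj_mem_of_mem_normalizer hmσ hy, ?_, ?_⟩, ?_⟩, ?_⟩
  · intro h
    apply hy1
    have : y = m⁻¹ * (m * y * m⁻¹) * m := by group
    rw [this, h]; group
  · calc m * b * m⁻¹ * (m * y * m⁻¹) = m * (b * y) * m⁻¹ := by group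
      _ = m * (y * b) * m⁻¹ := by rw [hby]
      _ = m * y * m⁻¹ * (m * b * m⁻¹) := by group
  · exact conj_mem_of_mem_normalizer (le_normalizer_U_sup hKU hm) hbV
  · intro h
    apply hbσ
    have h1 := conj_mem_of_mem_normalizer' hmσ h
    have : m⁻¹ * (m * b * m⁻¹) * m = b := by group
    rw [this] at h1
    exact h1

/-- Let G be a minimal simple group of odd order and M a maximal subgroup with standard factorisation M = K U M_σ, and let A(M) be the set of elements of U M_σ centralizing some non-identity element of M_σ. Then A(M) with M_σ removed is a TI-subset of G. -/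
theorem result {G : Type*} [Group G] [Finite G] (hG : Cfsg.IsMinSimpleOddOrder G)
    (M : Subgroup G) (hM : IsCoatom M) (K U : Subgroup G) (hKU : Cfsg.IsSigmaDecomposition M K U) :
    Cfsg.IsTISubset (Cfsg.sigmaA M U \ (Cfsg.sigmaCore M : Set G)) := by
  intro g hg x hx hgx
  exfalso
  apply hg
  -- `g ∈ M`
  have hgM : g ∈ M := by
    obtain ⟨h1, h2⟩ := key hG hM hKU hx.1 hx.2
    obtain ⟨h3, -⟩ := key hG hM hKU hgx.1 hgx.2
    have hpow : (g * x * g⁻¹) ^ Nat.card (sigmaCore M) = g * x ^ Nat.card (sigmaCore M) * g⁻¹ := by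
      rw [conj_pow]
    rw [hpow] at h3
    set v := x ^ Nat.card (sigmaCore M) with hv
    have h4 : Subgroup.centralizer ({v} : Set G) ≤ M.map (MulAut.conj g⁻¹).toMonoidHom := by
      intro c hc
      refine ⟨g * c * g⁻¹, h3 ?_, by simp [MulAut.conj_apply]; group⟩
      rw [Subgroup.mem_centralizer_iff]
      intro w hw
      rw [Set.mem_singleton_iff] at hw
      subst hw
      have hcv : Commute v c := Subgroup.mem_centralizer_iff.mp hc v rfl
      calc g * v * g⁻¹ * (g * c * g⁻¹) = g * (v * c) * g⁻¹ := by group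
        _ = g * (c * v) * g⁻¹ := by rw [hcv.eq]
        _ = g * c * g⁻¹ * (g * v * g⁻¹) := by group
    have h5 := h2 _ (isCoatom_map_conj g⁻¹ hM) h4
    have h6 : g⁻¹ ∈ M := mem_of_map_conj_eq_self hG hM h5
    simpa using M.inv_mem h6
  rw [Subgroup.mem_set_normalizer_iff]
  intro b
  constructor
  · intro hb
    exact conj_mem hKU hgM hb
  · intro hb
    have h1 := conj_mem hKU (M.inv_mem hgM) hb
    have : g⁻¹ * (g * b * g⁻¹) * g⁻¹⁻¹ = b := by group
    rw [this] at h1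
    exact h1

end Cfsg.Agent.S1362
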