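import Mathlib
import Cfsg.Statements.S1365
import Cfsg.Agent.S1430
import Cfsg.Agent.Lib.Helper3.BG14H

set_option autoImplicit false
open Cfsg

namespace Cfsg.Agent.S1365

theorem result {G : Type*} [Group G] [Finite G] (hG : Cfsg.IsMinSimpleOddOrder G)
    (M : Subgroup G) (hM : IsCoatom M) (K U : Subgroup G) (hKU : Cfsg.IsSigmaDecomposition M K U) (hK1 : K ≠ ⊥) :
    ⁅M, M⁆ = U ⊔ Cfsg.sigmaCore M ∧ (Cfsg.sigmaCore M ⊓ Subgroup.centralizer (K : Set G)) ≤ ⁅⁅M, M⁆, ⁅M, M⁆⁆ := by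
  exact Cfsg.Agent.Lib.Helper3.BG14.s1365_of hG
    (fun M hM K hK hK1 => Cfsg.Agent.S1430.result hG M hM K hK hK1) M hM K U hKU hK1

end Cfsg.Agent.S1365
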