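import Mathlib
import Cfsg.Statements.S1439
import Cfsg.Agent.Lib.Helper9.BGExc17

set_option autoImplicit false
open Cfsg

namespace Cfsg.Agent.S1439

/-- Let G be a minimal simple group of odd order and M a maximal subgroup, and let Y be the largest normal subgroup of F(M) involving no prime of σ(M). Then Y is cyclic, every prime divisor of its order lies in τ₂(M), and F(M) is generated by F(M_σ) and Y (a direct product, the orders being coprime). -/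
theorem result {G : Type*} [Group G] [Finite G] (hG : Cfsg.IsMinSimpleOddOrder G)
    (M : Subgroup G) (hM : IsCoatom M) :
    IsCyclic ↥(Cfsg.piCoreOf {q | q.Prime ∧ q ∉ Cfsg.sigma M} (Cfsg.fittingOf M)) ∧
      (∀ p : ℕ, p.Prime → p ∣ Nat.card ↥(Cfsg.piCoreOf {q | q.Prime ∧ q ∉ Cfsg.sigma M} (Cfsg.fittingOf M)) → p ∈ Cfsg.tau2 M) ∧
      Cfsg.fittingOf M = Cfsg.fittingOf (Cfsg.sigmaCore M) ⊔ Cfsg.piCoreOf {q | q.Prime ∧ q ∉ Cfsg.sigma M} (Cfsg.fittingOf M) := by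
  classical
  have hodd : Odd (Nat.card G) := hG.1
  obtain ⟨F, hFdef⟩ : ∃ F, F = Cfsg.fittingOf M := ⟨_, rfl⟩
  obtain ⟨Y, hYdef⟩ : ∃ Y, Y = Cfsg.piCoreOf {q | q.Prime ∧ q ∉ Cfsg.sigma M} F := ⟨_, rfl⟩
  rw [← hFdef, ← hYdef]
  have hFM : F ≤ M := hFdef ▸ Cfsg.Agent.Lib.Helper10.BG.fittingOf_le M
  have hMF : M ≤ Subgroup.normalizer (F : Set G) :=
    hFdef ▸ Cfsg.Agent.Lib.Helper10.BG.le_normalizer_fittingOf M
  have hFnil : Group.IsNilpotent F := hFdef ▸ Cfsg.Agent.Lib.Helper10.BG.isNilpotent_fittingOf M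
  have hYF : Y ≤ F := hYdef ▸ Cfsg.Agent.Lib.Lead.BGTrans.piCoreOf_le _ F
  have hYM : Y ≤ M := hYF.trans hFM
  have hMY : M ≤ Subgroup.normalizer (Y : Set G) :=
    hYdef ▸ hMF.trans (Cfsg.Agent.Lib.Lead.BGTrans5.normalizer_le_normalizer_piCoreOf _ F)
  have hYnil : Group.IsNilpotent Y := Cfsg.Agent.Lib.Helper10.BG.isNilpotent_of_le hYF hFnil
  have hYpi : ∀ p : ℕ, p.Prime → p ∣ Nat.card Y → p ∉ Cfsg.sigma M := by
    intro p hp hd
    have h1 := Cfsg.Agent.Lib.Lead.BGTrans.piCoreOf_isPiNat {q | q.Prime ∧ q ∉ Cfsg.sigma M} F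
    rw [← hYdef] at h1
    exact (h1 p hp hd).2
  -- the Sylow subgroups of `Y`
  have hV : ∀ p : ℕ, p.Prime → p ∣ Nat.card Y →
      IsPGroup p (Cfsg.pCoreOf p Y) ∧
      Cfsg.pCoreOf p Y ≠ ⊥ ∧ Cfsg.pCoreOf p Y ≤ M ∧
      M ≤ Subgroup.normalizer ((Cfsg.pCoreOf p Y : Subgroup G) : Set G) := by
    intro p hp hd
    haveI : Fact p.Prime := ⟨hp⟩
    refine ⟨Cfsg.Agent.Lib.Helper10.BG.isPGroup_pCoreOf p Y, ?_,
      (Cfsg.Agent.Lib.Helper10.BG.pCoreOf_le p Y).trans hYM,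
      Cfsg.Agent.Lib.Helper10.BG.le_normalizer_pCoreOf_of_le hMY⟩
    exact (Cfsg.Agent.Lib.Helper9.BG10.isSylowIn_pCoreOf hYnil hp).ne_bot_of_dvd hd
  refine ⟨?_, ?_, ?_⟩
  · -- cyclic
    apply Cfsg.Agent.Lib.Helper10.BG.isCyclic_of_isNilpotent_of_pRankLE_one hodd (le_refl Y) hYnil
    intro p hp hd
    haveI : Fact p.Prime := ⟨hp⟩
    obtain ⟨hVp, hV1, hVM, hMV⟩ := hV p hp hd
    intro B hBc hBe
    rw [pow_one]
    have hB'e : Cfsg.IsElementaryAbelian p (B.map Y.subtype) :=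
      Cfsg.Agent.Lib.Helper10.BG.isElementaryAbelian_map Y.subtype ⟨hBc, hBe⟩
    have hB'Y : B.map Y.subtype ≤ Y := Subgroup.map_subtype_le _
    have hB'p : IsPGroup p (B.map Y.subtype) :=
      Cfsg.Agent.Lib.Lead.BGTrans.isPGroup_of_pow_eq_one hB'e.2
    have hB'V : B.map Y.subtype ≤ Cfsg.pCoreOf p Y :=
      Cfsg.Agent.Lib.Helper9.BG10.pgroup_le_pCoreOf_of_nilpotent hYnil hp hB'Y hB'p
    have h1 := Cfsg.Agent.Lib.Helper9.BGExc.pRankLE_one_of_normal hG hM (hYpi p hp hd) hVp hVM hMV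
      hB'V hB'e
    rwa [Subgroup.card_map_of_injective Y.subtype_injective] at h1
  · -- τ₂
    intro p hp hd
    haveI : Fact p.Prime := ⟨hp⟩
    obtain ⟨hVp, hV1, hVM, hMV⟩ := hV p hp hd
    have hN : Subgroup.normalizer ((Cfsg.pCoreOf p Y : Subgroup G) : Set G) ≤ M :=
      (Cfsg.Agent.Lib.Helper10.BG.normalizer_eq_of_isCoatom' hG hM hV1 hVM hMV).le
    rcases Cfsg.Agent.Lib.Helper10.BG.mem_sigma_or_tau2_of_normalizer_le hG hM hVp hV1 hN with h | h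
    · exact absurd h (hYpi p hp hd)
    · exact h
  · -- `F(M) = F(M_σ) × Y`
    apply le_antisymm
    · apply Cfsg.Agent.Lib.Helper10.BG.le_of_forall_sylow_le
      intro q hq
      haveI : Fact q.Prime := ⟨hq⟩
      refine ⟨Cfsg.pCoreOf q F,
        Cfsg.Agent.Lib.Helper9.BG10.isSylowIn_pCoreOf hFnil hq, ?_⟩
      have hQp := Cfsg.Agent.Lib.Helper10.BG.isPGroup_pCoreOf q F
      have hQF := Cfsg.Agent.Lib.Helper10.BG.pCoreOf_le q F
      have hMQ : M ≤ Subgroup.normalizer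
          ((Cfsg.pCoreOf q F : Subgroup G) : Set G) :=
        Cfsg.Agent.Lib.Helper10.BG.le_normalizer_pCoreOf_of_le hMF
      by_cases hqσ : q ∈ Cfsg.sigma M
      · refine le_trans ?_ le_sup_left
        have hQσ : Cfsg.pCoreOf q F ≤ Cfsg.sigmaCore M :=
          Cfsg.Agent.Lib.Helper9.BGExc.pgroup_le_sigmaCore hG hM hqσ hQp (hQF.trans hFM)
        exact Cfsg.Agent.Lib.Helper10.BG.le_fittingOf hQσ
          ((Cfsg.Agent.Lib.Helper9.BGExc.sigmaCore_le M).trans hMQ) hQp.isNilpotent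
      · refine le_trans ?_ le_sup_right
        rw [hYdef]
        apply Cfsg.Agent.Lib.Lead.BGTrans.le_piCoreOf hQF
        · intro x hx w hw
          exact Cfsg.Agent.Lib.Helper10.BG.conj_mem_of_mem_normalizer (hMQ (hFM hx)) hw
        · intro r hr hrd
          obtain ⟨k, hk⟩ := hQp.exists_card_eq
          rw [hk] at hrd
          have : r = q := (Nat.prime_dvd_prime_iff_eq hr hq).mp (hr.dvd_of_dvd_pow hrd)
          rw [this]
          exact ⟨hq, hqσ⟩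
    · apply sup_le _ hYF
      rw [hFdef]
      apply Cfsg.Agent.Lib.Helper10.BG.le_fittingOf
        ((Cfsg.Agent.Lib.Helper10.BG.fittingOf_le _).trans (Cfsg.Agent.Lib.Helper9.BGExc.sigmaCore_le M))
        (Cfsg.Agent.Lib.Helper10.BG.le_normalizer_fittingOf_of_le
          (Cfsg.Agent.Lib.Helper10.BG.le_normalizer_sigmaCore M))
        (Cfsg.Agent.Lib.Helper10.BG.isNilpotent_fittingOf _)

end Cfsg.Agent.S1439
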