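import Mathlib
import Cfsg.Statements.S1368
import Cfsg.Agent.S1430
import Cfsg.Agent.S1431
import Cfsg.Agent.S1421
import Cfsg.Agent.S1377
import Cfsg.Agent.S1433
import Cfsg.Agent.Lib.Helper3.BG14N

set_option autoImplicit false
open Cfsg

namespace Cfsg.Agent.S1368

theorem result {G : Type*} [Group G] [Finite G] (hG : Cfsg.IsMinSimpleOddOrder G)
    (M : Subgroup G) (hM : IsCoatom M) (K U : Subgroup G) (hKU : Cfsg.IsSigmaDecomposition M K U) (hK1 : K ≠ ⊥) (Mstar : Subgroup G) (hMstar : IsCoatom Mstar)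
    (hKst : K = Cfsg.sigmaCore Mstar ⊓ Subgroup.centralizer ((Cfsg.sigmaCore M ⊓ Subgroup.centralizer (K : Set G)) : Set G))
    (hKstH : Cfsg.IsPiHallOf (Cfsg.kappa Mstar) (Cfsg.sigmaCore M ⊓ Subgroup.centralizer (K : Set G)) Mstar) :
    M ⊓ Mstar = K ⊔ (Cfsg.sigmaCore M ⊓ Subgroup.centralizer (K : Set G)) ∧ IsCyclic ↥(K ⊔ (Cfsg.sigmaCore M ⊓ Subgroup.centralizer (K : Set G))) := by
  have h30 : Cfsg.Agent.Lib.Helper3.BGStubs.P1430 G :=
    fun M hM K hK hK1 => Cfsg.Agent.S1430.result hG M hM K hK hK1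
  have h31 : Cfsg.Agent.Lib.Helper3.BGStubs.P1431 G :=
    fun M hM K hK hK1 => Cfsg.Agent.S1431.result hG M hM K hK hK1
  have h21 : Cfsg.Agent.Lib.Helper3.BGStubs.P1421 G :=
    fun M hM E hE hH => Cfsg.Agent.S1421.result hG M hM E hE hH
  have h77 : Cfsg.Agent.Lib.Helper1.BGStubs2.P1377 G :=
    fun M hM => Cfsg.Agent.S1377.result hG M hM
  have h33 : Cfsg.Agent.Lib.Helper1.BGStubs2.P1433 G :=
    fun M N hM hN x y hx hy hx1 hy1 hxy => Cfsg.Agent.S1433.result hG M N hM hN x y hx hy hx1 hy1 hxy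
  have hKst' : K = Cfsg.sigmaCore Mstar ⊓ Subgroup.centralizer
      (((Cfsg.sigmaCore M ⊓ Subgroup.centralizer (K : Set G) : Subgroup G)) : Set G) := by
    rw [Subgroup.coe_inf]; exact hKst
  have hKsc := Cfsg.Agent.Lib.Helper3.BG14.Kstar_isCyclic hG h30 h31 h21 h77 h33 hM hKU hK1
    hMstar hKst' hKstH
  exact Cfsg.Agent.Lib.Helper3.BG14.s1368_of_cyc hG h30 M hM K U hKU hK1 Mstar hMstar hKst hKstH
    hKsc

end Cfsg.Agent.S1368
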