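import Cfsg.Statements.S2167
import Cfsg.Agent.Lib.Helper13.AltRank
import Cfsg.Agent.Lib.Helper6.Symp

set_option autoImplicit false
open Cfsg

namespace Cfsg.Agent.S2167

open Cfsg.Agent.Lib.Helper6 Cfsg.Agent.Lib.Helper13 Matrix Module

/-- For an involution t of the symplectic group Sp_{2m}(F), m ≥ 2, F a finite field of characteristic two (matrices A with A J Aᵀ = J acting on column vectors, alternating form f(u, v) = u ⬝ (J v)): the set V(t) of vectors v with f(v, t v) = 0 has either q^{2m} or q^{2m−1} elements, q the order of F (it is a subspace of codimension at most 1), and if it is the whole space then t − 1 has even rank. -/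
theorem result {F : Type*} [Field F] [Fintype F] [CharP F 2] {m : ℕ} (hm : 2 ≤ m) (a : ↥(Matrix.symplecticGroup (Fin m) F)) (ha : orderOf a = 2) :
    (Nat.card {v : Fin m ⊕ Fin m → F // Cfsg.sympForm m F v (Matrix.mulVec ((a : ↥(Matrix.symplecticGroup (Fin m) F)) : Matrix (Fin m ⊕ Fin m) (Fin m ⊕ Fin m) F) v) = 0} = Fintype.card F ^ (2 * m) ∨ Nat.card {v : Fin m ⊕ Fin m → F // Cfsg.sympForm m F v (Matrix.mulVec ((a : ↥(Matrix.symplecticGroup (Fin m) F)) : Matrix (Fin m ⊕ Fin m) (Fin m ⊕ Fin m) F) v) = 0} * Fintype.card F = Fintype.card F ^ (2 * m)) ∧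
    ((∀ v : Fin m ⊕ Fin m → F, Cfsg.sympForm m F v (Matrix.mulVec ((a : ↥(Matrix.symplecticGroup (Fin m) F)) : Matrix (Fin m ⊕ Fin m) (Fin m ⊕ Fin m) F) v) = 0) → Even (((a : ↥(Matrix.symplecticGroup (Fin m) F)) : Matrix (Fin m ⊕ Fin m) (Fin m ⊕ Fin m) F) - 1).rank) := by
  classical
  set A : Matrix (Fin m ⊕ Fin m) (Fin m ⊕ Fin m) F :=
    ((a : ↥(Matrix.symplecticGroup (Fin m) F)) : Matrix (Fin m ⊕ Fin m) (Fin m ⊕ Fin m) F) with hAdef
  have hA2 : A * A = 1 := by
    have h1 : a ^ 2 = 1 := by rw [← ha]; exact pow_orderOf_eq_one a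
    have h2 := congrArg (fun x : ↥(Matrix.symplecticGroup (Fin m) F) =>
      (x : Matrix (Fin m ⊕ Fin m) (Fin m ⊕ Fin m) F)) h1
    simpa [pow_two] using h2
  have hpres : ∀ u v, Cfsg.sympForm m F (A *ᵥ u) (A *ᵥ v) = Cfsg.sympForm m F u v :=
    (mem_symplecticGroup_iff_preserves A).mp a.2
  have hAA : ∀ u : Fin m ⊕ Fin m → F, A *ᵥ (A *ᵥ u) = u := fun u => by
    rw [Matrix.mulVec_mulVec, hA2, Matrix.one_mulVec]
  have h2F : (2 : F) = 0 := CharTwo.two_eq_zero
  have hnegF : ∀ x : F, -x = x := fun x => CharTwo.neg_eq x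
  have hadd : ∀ u v : Fin m ⊕ Fin m → F,
      Cfsg.sympForm m F (u + v) (A *ᵥ (u + v)) =
        Cfsg.sympForm m F u (A *ᵥ u) + Cfsg.sympForm m F v (A *ᵥ v) := by
    intro u v
    have h1 : Cfsg.sympForm m F v (A *ᵥ u) = - Cfsg.sympForm m F u (A *ᵥ v) := by
      rw [← hpres v (A *ᵥ u), hAA, sympForm_swap]
    rw [Matrix.mulVec_add, sympForm_add_left, sympForm_add_right, sympForm_add_right, h1]
    ring
  have hsmul : ∀ (c : F) (v : Fin m ⊕ Fin m → F),
      Cfsg.sympForm m F (c • v) (A *ᵥ (c • v)) = c * c * Cfsg.sympForm m F v (A *ᵥ v) := by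
    intro c v
    rw [Matrix.mulVec_smul, sympForm_smul_left, sympForm_smul_right]
    ring
  have : Fact (Nat.Prime 2) := ⟨Nat.prime_two⟩
  let σ : F ≃+* F := frobeniusEquiv F 2
  have hσ : ∀ x : F, σ x = x ^ 2 := fun x => frobeniusEquiv_def F 2 x
  let ψ : (Fin m ⊕ Fin m → F) →ₗ[F] F :=
    { toFun := fun v => σ.symm (Cfsg.sympForm m F v (A *ᵥ v))
      map_add' := fun u v => by rw [hadd, map_add]
      map_smul' := fun c v => by
        simp only [RingHom.id_apply, smul_eq_mul]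
        apply σ.injective
        rw [map_mul, RingEquiv.apply_symm_apply, RingEquiv.apply_symm_apply, hsmul, hσ]
        ring }
  have hψ : ∀ v, ψ v = σ.symm (Cfsg.sympForm m F v (A *ᵥ v)) := fun v => rfl
  have hker : ∀ v, Cfsg.sympForm m F v (A *ᵥ v) = 0 ↔ v ∈ LinearMap.ker ψ := by
    intro v
    rw [LinearMap.mem_ker, hψ, EmbeddingLike.map_eq_zero_iff]
  have hcardV : Nat.card (Fin m ⊕ Fin m → F) = Fintype.card F ^ (2 * m) := by
    rw [Nat.card_eq_fintype_card, Fintype.card_fun, Fintype.card_sum, Fintype.card_fin, two_mul]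
  have hfrV : finrank F (Fin m ⊕ Fin m → F) = 2 * m := by
    rw [Module.finrank_pi, Fintype.card_sum, Fintype.card_fin, two_mul]
  have hcongr : Nat.card {v : Fin m ⊕ Fin m → F // Cfsg.sympForm m F v (A *ᵥ v) = 0} =
      Nat.card (LinearMap.ker ψ) :=
    Nat.card_congr (Equiv.subtypeEquivRight hker)
  refine ⟨?_, ?_⟩
  · rw [hcongr]
    by_cases hψ0 : ψ = 0
    · left
      rw [hψ0, LinearMap.ker_zero, ← hcardV]
      exact Nat.card_congr (Submodule.topEquiv (R := F) (M := Fin m ⊕ Fin m → F)).toEquiv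
    · right
      have h1 := Module.Dual.finrank_ker_add_one_of_ne_zero (f := ψ) hψ0
      rw [hfrV] at h1
      rw [Module.natCard_eq_pow_finrank (K := F) (V := LinearMap.ker ψ), Nat.card_eq_fintype_card,
        ← pow_succ, h1]
  · intro hall
    have hJ : (Matrix.J (Fin m) F * (A - 1)).rank = (A - 1).rank :=
      Matrix.rank_mul_eq_right_of_isUnit_det _ _ (Matrix.isUnit_det_J (Fin m) F)
    rw [← hJ]
    apply even_rank_of_alternating
    intro v
    have h1 : v ⬝ᵥ ((Matrix.J (Fin m) F * (A - 1)) *ᵥ v) =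
        Cfsg.sympForm m F v (A *ᵥ v) - Cfsg.sympForm m F v v := by
      rw [← Matrix.mulVec_mulVec, Matrix.sub_mulVec, Matrix.one_mulVec, ← sympForm_def,
        sympForm_sub_right]
    rw [h1, hall v, sympForm_self, sub_zero]

end Cfsg.Agent.S2167
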