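import Cfsg.Statements.S2166
import Cfsg.Agent.S2167
import Cfsg.Agent.Lib.Helper6.Symp
import Cfsg.Agent.Lib.Helper15.SympOrder
import Cfsg.Agent.Lib.Helper13.SympInvolConj
import Cfsg.Agent.Lib.Helper13.SympInvolNormal

set_option autoImplicit false
open Cfsg

namespace Cfsg.Agent.S2166

open Cfsg.Agent.Lib.Helper6 Cfsg.Agent.Lib.Helper13 Cfsg.Agent.Lib.Helper15 Matrix Module

section
universe u
variable {F : Type u} [Field F] [Fintype F] [CharP F 2] {m : ℕ}

local notation "VV" => (Fin m ⊕ Fin m → F)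
local notation "MM" => Matrix (Fin m ⊕ Fin m) (Fin m ⊕ Fin m) F

omit [Fintype F] in
/-- basic facts on the nilpotent part of an involution -/
theorem invol_facts (A : MM) (hA2 : A * A = 1)
    (hpres : ∀ u v, Cfsg.sympForm m F (A *ᵥ u) (A *ᵥ v) = Cfsg.sympForm m F u v) :
    (∀ x : VV, (A - 1).mulVecLin ((A - 1).mulVecLin x) = 0) ∧
    (∀ x y : VV, stdSymp m F ((A - 1).mulVecLin x) y = stdSymp m F x ((A - 1).mulVecLin y)) ∧
    (∀ v : VV, stdSymp m F v ((A - 1).mulVecLin v) = Cfsg.sympForm m F v (A *ᵥ v)) := by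
  have hAA : ∀ u : VV, A *ᵥ (A *ᵥ u) = u := fun u => by
    rw [Matrix.mulVec_mulVec, hA2, Matrix.one_mulVec]
  have hN : ∀ x : VV, (A - 1).mulVecLin x = A *ᵥ x - x := fun x => by
    rw [Matrix.mulVecLin_apply, Matrix.sub_mulVec, Matrix.one_mulVec]
  refine ⟨?_, ?_, ?_⟩
  · intro x
    rw [hN, hN, Matrix.mulVec_sub, hAA]
    funext i
    have h2 : (2 : F) = 0 := CharTwo.two_eq_zero
    simp only [Pi.sub_apply, Pi.zero_apply]
    linear_combination (x i - (A *ᵥ x) i) * h2
  · intro x y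
    rw [hN, hN, stdSymp_apply, stdSymp_apply, sympForm_sub_left, sympForm_sub_right]
    congr 1
    rw [← hpres (A *ᵥ x) y, hAA]
  · intro v
    rw [hN, stdSymp_apply, sympForm_sub_right, sympForm_self, sub_zero]

theorem card_subtype_eq_iff {α : Type*} [Finite α] (P : α → Prop) :
    Nat.card {v : α // P v} = Nat.card α ↔ ∀ v, P v := by
  classical
  have := Fintype.ofFinite α
  constructor
  · intro h v
    by_contra hv
    have := Fintype.card_subtype_lt (p := P) hv
    rw [Nat.card_eq_fintype_card, Nat.card_eq_fintype_card] at h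
    omega
  · intro h
    exact Nat.card_congr (Equiv.subtypeUnivEquiv h)

/-- The core: two involutions with the same rank and the same type are conjugate by a
symplectic matrix. -/
theorem core (A A' : MM) (hA2 : A * A = 1) (hA2' : A' * A' = 1)
    (hpres : ∀ u v, Cfsg.sympForm m F (A *ᵥ u) (A *ᵥ v) = Cfsg.sympForm m F u v)
    (hpres' : ∀ u v, Cfsg.sympForm m F (A' *ᵥ u) (A' *ᵥ v) = Cfsg.sympForm m F u v)
    (hrank : (A - 1).rank = (A' - 1).rank)
    (htype : (∀ v, Cfsg.sympForm m F v (A *ᵥ v) = 0) ↔ (∀ v, Cfsg.sympForm m F v (A' *ᵥ v) = 0)) :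
    ∃ G : MM, G ∈ Matrix.symplecticGroup (Fin m) F ∧ G * A = A' * G := by
  classical
  obtain ⟨hN, hBN, hty⟩ := invol_facts A hA2 hpres
  obtain ⟨hN', hBN', hty'⟩ := invol_facts A' hA2' hpres'
  have hr : finrank F (LinearMap.range (A - 1).mulVecLin) =
      finrank F (LinearMap.range (A' - 1).mulVecLin) := hrank
  -- it suffices to produce an intertwining isometry
  suffices hg : ∃ g : VV ≃ₗ[F] VV, (∀ x y, stdSymp m F (g x) (g y) = stdSymp m F x y) ∧
      ∀ x, g ((A - 1).mulVecLin x) = (A' - 1).mulVecLin (g x) by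
    obtain ⟨g, hg1, hg2⟩ := hg
    let G : MM := LinearMap.toMatrix' g.toLinearMap
    have hG : ∀ x, G *ᵥ x = g x := fun x => by
      change LinearMap.toMatrix' g.toLinearMap *ᵥ x = g x
      rw [LinearMap.toMatrix'_mulVec]
      rfl
    refine ⟨G, ?_, ?_⟩
    · rw [mem_symplecticGroup_iff_preserves]
      intro u v
      rw [hG, hG]
      exact hg1 u v
    · have h1 : G * (A - 1) = (A' - 1) * G := by
        apply matrix_ext_mulVec
        intro x
        rw [← Matrix.mulVec_mulVec, ← Matrix.mulVec_mulVec, hG, hG]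
        exact hg2 x
      rw [Matrix.mul_sub, Matrix.sub_mul, Matrix.mul_one, Matrix.one_mul] at h1
      exact sub_left_injective h1
  by_cases halt : ∀ v, Cfsg.sympForm m F v (A *ᵥ v) = 0
  · -- alternating type
    have halt' := htype.mp halt
    obtain ⟨k, hk, u, hu, hspan⟩ := exists_normal_family_alt (stdSymp m F) stdSymp_alt
      stdSymp_nondeg (A - 1).mulVecLin hBN (fun v => by rw [hty]; exact halt v)
    obtain ⟨k', hk', u', hu', hspan'⟩ := exists_normal_family_alt (stdSymp m F) stdSymp_alt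
      stdSymp_nondeg (A' - 1).mulVecLin hBN' (fun v => by rw [hty']; exact halt' v)
    have hkk : k' = k := by omega
    subst hkk
    exact exists_isometry_intertwining (stdSymp m F) stdSymp_alt stdSymp_nondeg
      (A - 1).mulVecLin (A' - 1).mulVecLin hN hN' hBN hBN' u u'
      (Matrix.J (Fin k') F) (-Matrix.J (Fin k') F)
      (by rw [Matrix.mul_neg, Matrix.J_squared, neg_neg]) hu hu' hspan hspan'
  · -- non-alternating type
    have halt' : ¬ ∀ v, Cfsg.sympForm m F v (A' *ᵥ v) = 0 := fun h => halt (htype.mpr h)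
    push Not at halt halt'
    obtain ⟨v, hv⟩ := halt
    obtain ⟨v', hv'⟩ := halt'
    obtain ⟨u, hu, hspan⟩ := exists_normal_family_nonalt (stdSymp m F) stdSymp_alt
      stdSymp_nondeg (A - 1).mulVecLin hBN ⟨v, by rw [hty]; exact hv⟩
    have key : ∀ (r : ℕ), finrank F (LinearMap.range (A' - 1).mulVecLin) = r →
        ∃ u' : Fin r → VV,
          (∀ i j, stdSymp m F (u' i) ((A' - 1).mulVecLin (u' j)) = (1 : Matrix (Fin r) (Fin r) F) i j) ∧
          Submodule.span F (Set.range u') ⊔ LinearMap.ker (A' - 1).mulVecLin = ⊤ := by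
      intro r hr'
      subst hr'
      exact exists_normal_family_nonalt (stdSymp m F) stdSymp_alt
        stdSymp_nondeg (A' - 1).mulVecLin hBN' ⟨v', by rw [hty']; exact hv'⟩
    obtain ⟨u', hu', hspan'⟩ := key _ hr.symm
    exact exists_isometry_intertwining (stdSymp m F) stdSymp_alt stdSymp_nondeg
      (A - 1).mulVecLin (A' - 1).mulVecLin hN hN' hBN hBN' u u' 1 1 (Matrix.one_mul 1)
      hu hu' hspan hspan'

end

/-- Conjugacy of involutions in the symplectic group Sp_{2m}(F), F a finite field of characteristic two, m ≥ 2 (Sp taken as the matrices A with A J Aᵀ = J, acting on column vectors, with the alternating form f(u, v) = u ⬝ (J v)). For an involution t write V(t) for the set of vectors v with f(v, t v) = 0 (a subspace). Two involutions a, b are conjugate in Sp_{2m}(F) exactly when a − 1 and b − 1 have the same rank and, in case that rank is even, V(a) and V(b) have the same number of elements. -/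
theorem result {F : Type*} [Field F] [Fintype F] [CharP F 2] {m : ℕ} (hm : 2 ≤ m) (a b : ↥(Matrix.symplecticGroup (Fin m) F)) (ha : orderOf a = 2) (hb : orderOf b = 2) :
    IsConj a b ↔ ((((a : ↥(Matrix.symplecticGroup (Fin m) F)) : Matrix (Fin m ⊕ Fin m) (Fin m ⊕ Fin m) F) - 1).rank = (((b : ↥(Matrix.symplecticGroup (Fin m) F)) : Matrix (Fin m ⊕ Fin m) (Fin m ⊕ Fin m) F) - 1).rank ∧
      (Even (((a : ↥(Matrix.symplecticGroup (Fin m) F)) : Matrix (Fin m ⊕ Fin m) (Fin m ⊕ Fin m) F) - 1).rank → Nat.card {v : Fin m ⊕ Fin m → F // Cfsg.sympForm m F v (Matrix.mulVec ((a : ↥(Matrix.symplecticGroup (Fin m) F)) : Matrix (Fin m ⊕ Fin m) (Fin m ⊕ Fin m) F) v) = 0} = Nat.card {v : Fin m ⊕ Fin m → F // Cfsg.sympForm m F v (Matrix.mulVec ((b : ↥(Matrix.symplecticGroup (Fin m) F)) : Matrix (Fin m ⊕ Fin m) (Fin m ⊕ Fin m) F) v) = 0})) := by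
  classical
  set A : Matrix (Fin m ⊕ Fin m) (Fin m ⊕ Fin m) F :=
    ((a : ↥(Matrix.symplecticGroup (Fin m) F)) : Matrix (Fin m ⊕ Fin m) (Fin m ⊕ Fin m) F) with hAdef
  set A' : Matrix (Fin m ⊕ Fin m) (Fin m ⊕ Fin m) F :=
    ((b : ↥(Matrix.symplecticGroup (Fin m) F)) : Matrix (Fin m ⊕ Fin m) (Fin m ⊕ Fin m) F) with hA'def
  have hsq : ∀ (c : ↥(Matrix.symplecticGroup (Fin m) F)), orderOf c = 2 →
      (c : Matrix (Fin m ⊕ Fin m) (Fin m ⊕ Fin m) F) * (c : Matrix (Fin m ⊕ Fin m) (Fin m ⊕ Fin m) F) = 1 := by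
    intro c hc
    have h1 : c ^ 2 = 1 := by rw [← hc]; exact pow_orderOf_eq_one c
    have h2 := congrArg (fun x : ↥(Matrix.symplecticGroup (Fin m) F) =>
      (x : Matrix (Fin m ⊕ Fin m) (Fin m ⊕ Fin m) F)) h1
    simpa [pow_two] using h2
  have hA2 : A * A = 1 := hsq a ha
  have hA2' : A' * A' = 1 := hsq b hb
  have hpres : ∀ u v, Cfsg.sympForm m F (A *ᵥ u) (A *ᵥ v) = Cfsg.sympForm m F u v :=
    (mem_symplecticGroup_iff_preserves A).mp a.2
  have hpres' : ∀ u v, Cfsg.sympForm m F (A' *ᵥ u) (A' *ᵥ v) = Cfsg.sympForm m F u v :=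
    (mem_symplecticGroup_iff_preserves A').mp b.2
  have hcardV : Nat.card (Fin m ⊕ Fin m → F) = Fintype.card F ^ (2 * m) := by
    rw [Nat.card_eq_fintype_card, Fintype.card_fun, Fintype.card_sum, Fintype.card_fin, two_mul]
  constructor
  · -- conjugate implies same invariants
    intro hconj
    obtain ⟨c, hc⟩ := isConj_iff.mp hconj
    have hc' : c * a = b * c := by rw [← hc]; group
    set C : Matrix (Fin m ⊕ Fin m) (Fin m ⊕ Fin m) F :=
      ((c : ↥(Matrix.symplecticGroup (Fin m) F)) : Matrix (Fin m ⊕ Fin m) (Fin m ⊕ Fin m) F) with hCdef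
    set Ci : Matrix (Fin m ⊕ Fin m) (Fin m ⊕ Fin m) F :=
      ((c⁻¹ : ↥(Matrix.symplecticGroup (Fin m) F)) : Matrix (Fin m ⊕ Fin m) (Fin m ⊕ Fin m) F) with hCidef
    have hCA : C * A = A' * C := by
      have := congrArg (fun x : ↥(Matrix.symplecticGroup (Fin m) F) =>
        (x : Matrix (Fin m ⊕ Fin m) (Fin m ⊕ Fin m) F)) hc'
      simpa using this
    have hCiC : Ci * C = 1 := congrArg Subtype.val (inv_mul_cancel c)
    have hCCi : C * Ci = 1 := congrArg Subtype.val (mul_inv_cancel c)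
    have hCdet : IsUnit C.det := Matrix.isUnit_det_of_left_inverse hCiC
    have hpresC : ∀ u v, Cfsg.sympForm m F (C *ᵥ u) (C *ᵥ v) = Cfsg.sympForm m F u v :=
      (mem_symplecticGroup_iff_preserves C).mp c.2
    refine ⟨?_, fun _ => ?_⟩
    · have h1 : C * (A - 1) = (A' - 1) * C := by
        rw [Matrix.mul_sub, Matrix.sub_mul, Matrix.mul_one, Matrix.one_mul, hCA]
      have h2 := Matrix.rank_mul_eq_right_of_isUnit_det C (A - 1) hCdet
      have h3 := Matrix.rank_mul_eq_left_of_isUnit_det C (A' - 1) hCdet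
      rw [← h2, h1, h3]
    · let e : (Fin m ⊕ Fin m → F) ≃ (Fin m ⊕ Fin m → F) :=
        { toFun := fun v => C *ᵥ v
          invFun := fun v => Ci *ᵥ v
          left_inv := fun v => by
            change Ci *ᵥ (C *ᵥ v) = v
            rw [Matrix.mulVec_mulVec, hCiC, Matrix.one_mulVec]
          right_inv := fun v => by
            change C *ᵥ (Ci *ᵥ v) = v
            rw [Matrix.mulVec_mulVec, hCCi, Matrix.one_mulVec] }
      apply Nat.card_congr
      apply Equiv.subtypeEquiv e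
      intro v
      change _ ↔ Cfsg.sympForm m F (C *ᵥ v) (A' *ᵥ (C *ᵥ v)) = 0
      rw [Matrix.mulVec_mulVec, ← hCA, ← Matrix.mulVec_mulVec, hpresC]
  · -- same invariants imply conjugate
    rintro ⟨hrank, hcard⟩
    have htype : (∀ v, Cfsg.sympForm m F v (A *ᵥ v) = 0) ↔
        (∀ v, Cfsg.sympForm m F v (A' *ᵥ v) = 0) := by
      by_cases hev : Even (A - 1).rank
      · have hc := hcard hev
        rw [← card_subtype_eq_iff, ← card_subtype_eq_iff, hc]
      · have h1 : ¬ ∀ v, Cfsg.sympForm m F v (A *ᵥ v) = 0 :=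
          fun h => hev ((Cfsg.Agent.S2167.result hm a ha).2 h)
        have h2 : ¬ ∀ v, Cfsg.sympForm m F v (A' *ᵥ v) = 0 :=
          fun h => hev (by rw [hrank]; exact (Cfsg.Agent.S2167.result hm b hb).2 h)
        exact ⟨fun h => absurd h h1, fun h => absurd h h2⟩
    obtain ⟨G, hG, hGA⟩ := core A A' hA2 hA2' hpres hpres' hrank htype
    rw [isConj_iff]
    refine ⟨⟨G, hG⟩, ?_⟩
    rw [mul_inv_eq_iff_eq_mul]
    apply Subtype.ext
    simpa using hGA

end Cfsg.Agent.S2166
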