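import Mathlib
import Cfsg.Statements.S0264
import Cfsg.Agent.S0249

set_option autoImplicit false
open Cfsg

namespace Cfsg.Agent.S0264

open Matrix Matrix.SpecialLinearGroup
open scoped MatrixGroups commutatorElement

variable {F : Type*} [Field F] {ι : Type*} [DecidableEq ι] [Fintype ι]

lemma one_add_single_mul (i : ι) (x y : F) :
    ((1 : Matrix ι ι F) + single i i x) * (1 + single i i y) = 1 + single i i (x + y + x * y) := by
  simp only [mul_add, add_mul, mul_one, one_mul, single_mul_single_same, single_add]
  abel

/-- the dilation `1 + (a-1) E_ii` as an element of `GL`. -/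
noncomputable def dil (i : ι) (a : F) (ha : a ≠ 0) : GL ι F where
  val := 1 + single i i (a - 1)
  inv := 1 + single i i (a⁻¹ - 1)
  val_inv := by
    rw [one_add_single_mul]
    have : a - 1 + (a⁻¹ - 1) + (a - 1) * (a⁻¹ - 1) = 0 := by field_simp; ring
    rw [this]; simp
  inv_val := by
    rw [one_add_single_mul]
    have : a⁻¹ - 1 + (a - 1) + (a⁻¹ - 1) * (a - 1) = 0 := by field_simp; ring
    rw [this]; simp

lemma toGL_transvection_eq_commutator {i j : ι} (hij : i ≠ j) (a : F) (ha : a ≠ 0) (b : F) :
    (toGL (SpecialLinearGroup.transvection hij ((a - 1) * b)) : GL ι F) =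
      ⁅dil i a ha, toGL (SpecialLinearGroup.transvection hij b)⁆ := by
  rw [commutatorElement_def, ← map_inv, SpecialLinearGroup.transvection_inv]
  apply Units.ext
  have hji := hij.symm
  change (1 : Matrix ι ι F) + single i j ((a - 1) * b) =
    (1 + single i i (a - 1)) * (1 + single i j b) * (1 + single i i (a⁻¹ - 1)) * (1 + single i j (-b))
  simp only [mul_add, add_mul, mul_one, one_mul, single_mul_single_same,
      single_mul_single_of_ne _ _ _ _ hij, single_mul_single_of_ne _ _ _ _ hji, add_zero]
  ext k l
  simp only [Matrix.add_apply, Matrix.single_apply, Matrix.one_apply]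
  by_cases hki : i = k <;> by_cases hkj : j = k <;> by_cases hli : i = l <;>
      by_cases hlj : j = l <;> simp_all [eq_comm] <;> field_simp <;> ring

/-- GL_n(F)' = SL_n(F) (as the kernel of det), for every field F and every n, except n = 2 over the field of two elements. -/
theorem result {F : Type*} [Field F] (n : ℕ) (h : n = 2 → ∃ a : F, a ≠ 0 ∧ a ≠ 1) : commutator (Matrix.GeneralLinearGroup (Fin n) F) = (Matrix.GeneralLinearGroup.det : Matrix.GeneralLinearGroup (Fin n) F →* Fˣ).ker := by
  apply le_antisymm
  · exact Abelianization.commutator_subset_ker _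
  · intro g hg
    have hdet : (g : Matrix (Fin n) (Fin n) F).det = 1 := by
      have := MonoidHom.mem_ker.1 hg
      have h2 := congrArg Units.val this
      simpa using h2
    by_cases hn : n ≤ 1
    · -- then g = 1
      have : g = 1 := by
        apply Units.ext
        ext i j
        interval_cases n
        · exact i.elim0
        · have hi : i = 0 := Subsingleton.elim _ _
          have hj : j = 0 := Subsingleton.elim _ _
          subst hi; subst hj
          rw [Matrix.det_unique] at hdet
          simpa using hdet
      rw [this]; exact one_mem _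
    · have hn2 : 2 ≤ n := by omega
      have : Nontrivial (Fin n) := Fin.nontrivial_iff_two_le.2 hn2
      set A : SpecialLinearGroup (Fin n) F := ⟨g, hdet⟩ with hA
      have hgA : g = toGL A := by
        apply Units.ext; rfl
      rw [hgA]
      refine Cfsg.Agent.S0249.transvection_induction
        (fun A => (toGL A : GL (Fin n) F) ∈ commutator (GL (Fin n) F)) (fun i j hij c ↦ ?_)
        (fun A B hA hB ↦ by simpa using mul_mem hA hB) A
      by_cases hn3 : 3 ≤ n
      · obtain ⟨k, hik, hkj⟩ := Cfsg.Agent.S0249.exists_third hn3 i j
        rw [Cfsg.Agent.S0249.transvection_eq_commutator hij hik hkj c, map_commutatorElement]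
        exact Subgroup.commutator_mem_commutator (Subgroup.mem_top _) (Subgroup.mem_top _)
      · obtain ⟨a, ha0, ha1⟩ := h (by omega)
        have hc : c = (a - 1) * (c / (a - 1)) := by
          field_simp [sub_ne_zero.2 ha1]
        rw [hc, toGL_transvection_eq_commutator hij a ha0]
        exact Subgroup.commutator_mem_commutator (Subgroup.mem_top _) (Subgroup.mem_top _)

end Cfsg.Agent.S0264
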