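import Cfsg.Statements.S5627

set_option autoImplicit false
set_option linter.unusedSectionVars false
open Cfsg

namespace Cfsg.Agent.S5627

section
variable {α : Type*} [Fintype α] [DecidableEq α] {L : Set (Finset α)}

theorem h28_exists_line (hL : IsSteinerSystem 2 5 L) {a b : α} (hab : a ≠ b) :
    ∃ l ∈ L, a ∈ l ∧ b ∈ l := by
  obtain ⟨l, ⟨hl, hsub⟩, -⟩ := hL.2 {a, b} (Finset.card_pair hab)
  exact ⟨l, hl, hsub (by simp), hsub (by simp)⟩

theorem h28_line_unique (hL : IsSteinerSystem 2 5 L) {a b : α} (hab : a ≠ b) {l l' : Finset α}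
    (hl : l ∈ L) (hl' : l' ∈ L) (ha : a ∈ l) (hb : b ∈ l) (ha' : a ∈ l') (hb' : b ∈ l') :
    l = l' := by
  obtain ⟨m, -, huniq⟩ := hL.2 {a, b} (Finset.card_pair hab)
  have h1 := huniq l ⟨hl, by
    intro x hx
    simp only [Finset.mem_insert, Finset.mem_singleton] at hx
    rcases hx with rfl | rfl <;> assumption⟩
  have h2 := huniq l' ⟨hl', by
    intro x hx
    simp only [Finset.mem_insert, Finset.mem_singleton] at hx
    rcases hx with rfl | rfl <;> assumption⟩
  rw [h1, h2]

theorem h28_inter_le_one (hL : IsSteinerSystem 2 5 L) {l l' : Finset α} (hl : l ∈ L)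
    (hl' : l' ∈ L) (hne : l ≠ l') : (l ∩ l').card ≤ 1 := by
  by_contra h
  push Not at h
  obtain ⟨a, ha, b, hb, hab⟩ := Finset.one_lt_card.mp h
  rw [Finset.mem_inter] at ha hb
  exact hne (h28_line_unique hL hab hl hl' ha.1 hb.1 ha.2 hb.2)

open Classical in
/-- the lines through a point -/
noncomputable def h28_linesThrough (L : Set (Finset α)) (p : α) : Finset (Finset α) :=
  Finset.univ.filter fun l => l ∈ L ∧ p ∈ l

theorem h28_mem_linesThrough {p : α} {l : Finset α} :
    l ∈ h28_linesThrough L p ↔ l ∈ L ∧ p ∈ l := by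
  classical
  simp [h28_linesThrough]

/-- the lines through `p` partition any set avoiding `p` -/
theorem h28_sum_lines (hL : IsSteinerSystem 2 5 L) (p : α) (X : Finset α) (hp : p ∉ X) :
    ∑ l ∈ h28_linesThrough L p, (l ∩ X).card = X.card := by
  have hbu : (h28_linesThrough L p).biUnion (fun l => l ∩ X) = X := by
    ext x
    simp only [Finset.mem_biUnion, Finset.mem_inter, h28_mem_linesThrough]
    constructor
    · rintro ⟨l, _, _, hx⟩; exact hx
    · intro hx
      have hne : p ≠ x := fun h => hp (h ▸ hx)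
      obtain ⟨l, hl, hpl, hxl⟩ := h28_exists_line hL hne
      exact ⟨l, ⟨hl, hpl⟩, hxl, hx⟩
  conv_rhs => rw [← hbu]
  rw [Finset.card_biUnion]
  intro l hl l' hl' hne
  rw [Finset.mem_coe, h28_mem_linesThrough] at hl hl'
  show Disjoint (l ∩ X) (l' ∩ X)
  rw [Finset.disjoint_left]
  intro x hx hx'
  rw [Finset.mem_inter] at hx hx'
  have hne' : p ≠ x := fun h => hp (h ▸ hx.2)
  exact hne (h28_line_unique hL hne' hl.1 hl'.1 hl.2 hx.1 hl'.2 hx'.1)

theorem h28_card_linesThrough (hα : Fintype.card α = 21) (hL : IsSteinerSystem 2 5 L) (p : α) :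
    (h28_linesThrough L p).card = 5 := by
  have h := h28_sum_lines hL p (Finset.univ.erase p) (Finset.notMem_erase p _)
  rw [Finset.card_erase_of_mem (Finset.mem_univ p), Finset.card_univ, hα] at h
  have h4 : ∀ l ∈ h28_linesThrough L p, (l ∩ Finset.univ.erase p).card = 4 := by
    intro l hl
    rw [h28_mem_linesThrough] at hl
    have : l ∩ Finset.univ.erase p = l.erase p := by
      ext x
      simp only [Finset.mem_inter, Finset.mem_erase, Finset.mem_univ, and_true]
      tauto
    rw [this, Finset.card_erase_of_mem hl.2, hL.1 l hl.1]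
  rw [Finset.sum_congr rfl h4, Finset.sum_const, smul_eq_mul] at h
  omega

/-- two distinct lines meet in exactly one point -/
theorem h28_inter_eq_one (hα : Fintype.card α = 21) (hL : IsSteinerSystem 2 5 L) {l l' : Finset α}
    (hl : l ∈ L) (hl' : l' ∈ L) (hne : l ≠ l') : (l ∩ l').card = 1 := by
  have hle := h28_inter_le_one hL hl hl' hne
  by_contra h1
  have h0 : (l ∩ l').card = 0 := by omega
  have hl'5 := hL.1 l' hl'
  obtain ⟨p, hp⟩ : l'.Nonempty := by rw [← Finset.card_pos]; omega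
  have hpl : p ∉ l := by
    intro hpl
    have : p ∈ l ∩ l' := Finset.mem_inter.mpr ⟨hpl, hp⟩
    rw [Finset.card_eq_zero] at h0
    rw [h0] at this
    exact absurd this (Finset.notMem_empty p)
  have hsum := h28_sum_lines hL p l hpl
  rw [hL.1 l hl] at hsum
  have hterm : ∀ m ∈ h28_linesThrough L p, (m ∩ l).card ≤ 1 := by
    intro m hm
    rw [h28_mem_linesThrough] at hm
    apply h28_inter_le_one hL hm.1 hl
    intro hml
    exact hpl (hml ▸ hm.2)
  have hl'mem : l' ∈ h28_linesThrough L p := h28_mem_linesThrough.mpr ⟨hl', hp⟩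
  have hlt : ∑ m ∈ h28_linesThrough L p, (m ∩ l).card < ∑ _m ∈ h28_linesThrough L p, 1 := by
    apply Finset.sum_lt_sum hterm
    refine ⟨l', hl'mem, ?_⟩
    rw [Finset.inter_comm, h0]
    exact Nat.zero_lt_one
  rw [Finset.sum_const, smul_eq_mul, mul_one, h28_card_linesThrough hα hL p, hsum] at hlt
  exact absurd hlt (lt_irrefl 5)

/-- no three points of `S` on a line -/
def h28_IsArc (L : Set (Finset α)) (S : Finset α) : Prop := ∀ l ∈ L, (l ∩ S).card ≤ 2

theorem h28_IsArc.subset {S T : Finset α} (hT : h28_IsArc L T) (hST : S ⊆ T) : h28_IsArc L S :=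
  fun l hl => (Finset.card_le_card (Finset.inter_subset_inter_left hST)).trans (hT l hl)

open Classical in
/-- the arcs with `k` points -/
noncomputable def h28_arcs (L : Set (Finset α)) (k : ℕ) : Finset (Finset α) :=
  Finset.univ.filter fun S => S.card = k ∧ h28_IsArc L S

theorem h28_mem_arcs {k : ℕ} {S : Finset α} : S ∈ h28_arcs L k ↔ S.card = k ∧ h28_IsArc L S := by
  classical
  simp [h28_arcs]

open Classical in
/-- the points extending an arc to a larger arc -/
noncomputable def h28_ext (L : Set (Finset α)) (S : Finset α) : Finset α :=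
  Finset.univ.filter fun p => p ∉ S ∧ h28_IsArc L (insert p S)

theorem h28_mem_ext {S : Finset α} {p : α} :
    p ∈ h28_ext L S ↔ p ∉ S ∧ h28_IsArc L (insert p S) := by
  classical
  simp [h28_ext]

/-- a point extends an arc iff it lies on no secant -/
theorem h28_mem_ext_iff {S : Finset α} (hS : h28_IsArc L S) {p : α} :
    p ∈ h28_ext L S ↔ p ∉ S ∧ ∀ l ∈ L, p ∈ l → (l ∩ S).card ≤ 1 := by
  rw [h28_mem_ext]
  constructor
  · rintro ⟨hp, harc⟩
    refine ⟨hp, fun l hl hpl => ?_⟩
    have := harc l hl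
    rw [Finset.inter_insert_of_mem hpl, Finset.card_insert_of_notMem
      (fun h => hp (Finset.mem_inter.mp h).2)] at this
    omega
  · rintro ⟨hp, h⟩
    refine ⟨hp, fun l hl => ?_⟩
    by_cases hpl : p ∈ l
    · rw [Finset.inter_insert_of_mem hpl, Finset.card_insert_of_notMem
        (fun h' => hp (Finset.mem_inter.mp h').2)]
      have := h l hl hpl
      omega
    · rw [Finset.inter_insert_of_notMem hpl]
      exact hS l hl

/-- double counting between `k`-arcs and `(k+1)`-arcs -/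
theorem h28_step (k : ℕ) :
    (k + 1) * (h28_arcs L (k + 1)).card = ∑ S ∈ h28_arcs L k, (h28_ext L S).card := by
  have key := Finset.sum_card_bipartiteAbove_eq_sum_card_bipartiteBelow
    (s := h28_arcs L (k + 1)) (t := h28_arcs L k) (r := fun (T S : Finset α) => S ⊆ T)
  have h1 : ∀ T ∈ h28_arcs L (k + 1),
      (Finset.bipartiteAbove (fun (T S : Finset α) => S ⊆ T) (h28_arcs L k) T).card = k + 1 := by
    intro T hT
    rw [h28_mem_arcs] at hT
    have e : Finset.bipartiteAbove (fun (T S : Finset α) => S ⊆ T) (h28_arcs L k) T =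
        T.powersetCard k := by
      ext S
      simp only [Finset.bipartiteAbove, Finset.mem_filter, Finset.mem_powersetCard, h28_mem_arcs]
      constructor
      · rintro ⟨⟨h1, _⟩, h3⟩; exact ⟨h3, h1⟩
      · rintro ⟨h1, h2⟩; exact ⟨⟨h2, hT.2.subset h1⟩, h1⟩
    rw [e, Finset.card_powersetCard, hT.1, Nat.choose_succ_self_right]
  have h2 : ∀ S ∈ h28_arcs L k,
      (Finset.bipartiteBelow (fun (T S : Finset α) => S ⊆ T) (h28_arcs L (k + 1)) S).card =
        (h28_ext L S).card := by
    intro S hS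
    rw [h28_mem_arcs] at hS
    symm
    apply Finset.card_bij (fun p _ => insert p S)
    · intro p hp
      rw [h28_mem_ext] at hp
      simp only [Finset.bipartiteBelow, Finset.mem_filter, h28_mem_arcs]
      exact ⟨⟨by rw [Finset.card_insert_of_notMem hp.1, hS.1], hp.2⟩, Finset.subset_insert _ _⟩
    · intro p hp q hq hpq
      rw [h28_mem_ext] at hp hq
      have : p ∈ insert q S := hpq ▸ Finset.mem_insert_self p S
      rcases Finset.mem_insert.mp this with h | h
      · exact h
      · exact absurd h hp.1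
    · intro T hT
      simp only [Finset.bipartiteBelow, Finset.mem_filter, h28_mem_arcs] at hT
      obtain ⟨⟨hTc, hTa⟩, hST⟩ := hT
      have hd : (T \ S).card = 1 := by
        rw [Finset.card_sdiff_of_subset hST, hTc, hS.1]; omega
      obtain ⟨p, hp⟩ := Finset.card_eq_one.mp hd
      have hpT : p ∈ T \ S := by rw [hp]; exact Finset.mem_singleton_self p
      rw [Finset.mem_sdiff] at hpT
      have hins : insert p S = T := by
        rw [← Finset.sdiff_union_of_subset hST, hp]
        ext x; simp [Finset.mem_insert]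
      exact ⟨p, h28_mem_ext.mpr ⟨hpT.2, hins ▸ hTa⟩, hins⟩
  rw [Finset.sum_congr rfl h1, Finset.sum_congr rfl h2, Finset.sum_const, smul_eq_mul] at key
  rw [← key, mul_comm]

theorem h28_card_arcs_two (hα : Fintype.card α = 21) (hL : IsSteinerSystem 2 5 L) :
    (h28_arcs L 2).card = 210 := by
  have : h28_arcs L 2 = (Finset.univ : Finset α).powersetCard 2 := by
    ext S
    rw [h28_mem_arcs, Finset.mem_powersetCard]
    constructor
    · rintro ⟨h, _⟩; exact ⟨Finset.subset_univ _, h⟩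
    · rintro ⟨_, h⟩
      refine ⟨h, fun l _ => ?_⟩
      exact (Finset.card_le_card Finset.inter_subset_right).trans h.le
  rw [this, Finset.card_powersetCard, Finset.card_univ, hα]
  rfl

/-- a singleton intersection -/
theorem h28_inter_eq_singleton (hα : Fintype.card α = 21) (hL : IsSteinerSystem 2 5 L)
    {l l' : Finset α} (hl : l ∈ L) (hl' : l' ∈ L) (hne : l ≠ l') {x : α} (hx : x ∈ l)
    (hx' : x ∈ l') : l ∩ l' = {x} := by
  have h1 := h28_inter_eq_one hα hL hl hl' hne
  obtain ⟨y, hy⟩ := Finset.card_eq_one.mp h1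
  have : x ∈ l ∩ l' := Finset.mem_inter.mpr ⟨hx, hx'⟩
  rw [hy] at this ⊢
  rw [Finset.mem_singleton.mp this]

theorem h28_card_ext_two (hα : Fintype.card α = 21) (hL : IsSteinerSystem 2 5 L) {S : Finset α}
    (hS : S ∈ h28_arcs L 2) : (h28_ext L S).card = 16 := by
  rw [h28_mem_arcs] at hS
  obtain ⟨a, b, hab, rfl⟩ := Finset.card_eq_two.mp hS.1
  obtain ⟨l0, hl0, ha0, hb0⟩ := h28_exists_line hL hab
  have : h28_ext L {a, b} = Finset.univ \ l0 := by
    ext p
    rw [h28_mem_ext_iff hS.2, Finset.mem_sdiff]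
    simp only [Finset.mem_univ, true_and]
    constructor
    · rintro ⟨_, h⟩ hp
      have h1 := h l0 hl0 hp
      have h2 : l0 ∩ {a, b} = {a, b} := by
        rw [Finset.inter_eq_right]
        intro x hx
        simp only [Finset.mem_insert, Finset.mem_singleton] at hx
        rcases hx with rfl | rfl <;> assumption
      rw [h2, Finset.card_pair hab] at h1
      omega
    · intro hp
      refine ⟨?_, fun l hl hpl => ?_⟩
      · intro hpS
        simp only [Finset.mem_insert, Finset.mem_singleton] at hpS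
        rcases hpS with rfl | rfl <;> exact hp ‹_›
      · by_contra hcon
        push Not at hcon
        have h2 : l ∩ {a, b} = {a, b} := by
          apply Finset.eq_of_subset_of_card_le Finset.inter_subset_right
          rw [Finset.card_pair hab]; omega
        have ha : a ∈ l := by
          have : a ∈ l ∩ {a, b} := by rw [h2]; simp
          exact (Finset.mem_inter.mp this).1
        have hb : b ∈ l := by
          have : b ∈ l ∩ {a, b} := by rw [h2]; simp
          exact (Finset.mem_inter.mp this).1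
        have := h28_line_unique hL hab hl hl0 ha hb ha0 hb0
        exact hp (this ▸ hpl)
  rw [this, Finset.card_sdiff_of_subset (Finset.subset_univ _), Finset.card_univ, hα, hL.1 l0 hl0]

theorem h28_card_ext_three (hα : Fintype.card α = 21) (hL : IsSteinerSystem 2 5 L) {T : Finset α}
    (hT : T ∈ h28_arcs L 3) : (h28_ext L T).card = 9 := by
  rw [h28_mem_arcs] at hT
  obtain ⟨a, b, c, hab, hac, hbc, rfl⟩ := Finset.card_eq_three.mp hT.1
  obtain ⟨l1, hl1, ha1, hb1⟩ := h28_exists_line hL hab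
  obtain ⟨l2, hl2, ha2, hc2⟩ := h28_exists_line hL hac
  obtain ⟨l3, hl3, hb3, hc3⟩ := h28_exists_line hL hbc
  -- non-collinearity
  have hnc : ∀ l ∈ L, a ∈ l → b ∈ l → c ∈ l → False := by
    intro l hl ha hb hc
    have h1 := hT.2 l hl
    have h2 : l ∩ {a, b, c} = {a, b, c} := by
      rw [Finset.inter_eq_right]
      intro x hx
      simp only [Finset.mem_insert, Finset.mem_singleton] at hx
      rcases hx with rfl | rfl | rfl <;> assumption
    rw [h2, Finset.card_eq_three.mpr ⟨a, b, c, hab, hac, hbc, rfl⟩] at h1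
    omega
  have hc1 : c ∉ l1 := fun h => hnc l1 hl1 ha1 hb1 h
  have hb2 : b ∉ l2 := fun h => hnc l2 hl2 ha2 h hc2
  have ha3 : a ∉ l3 := fun h => hnc l3 hl3 h hb3 hc3
  have h12 : l1 ≠ l2 := fun h => hc1 (h ▸ hc2)
  have h13 : l1 ≠ l3 := fun h => hc1 (h ▸ hc3)
  have h23 : l2 ≠ l3 := fun h => hb2 (h ▸ hb3)
  have hext : h28_ext L {a, b, c} = Finset.univ \ (l1 ∪ l2 ∪ l3) := by
    ext p
    rw [h28_mem_ext_iff hT.2, Finset.mem_sdiff]
    simp only [Finset.mem_univ, true_and, Finset.mem_union, not_or]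
    constructor
    · rintro ⟨_, h⟩
      have key : ∀ l ∈ L, ∀ u v : α, u ≠ v → u ∈ ({a, b, c} : Finset α) → v ∈ ({a, b, c} : Finset α) →
          u ∈ l → v ∈ l → p ∉ l := by
        intro l hl u v huv hu hv hul hvl hpl
        have h1 := h l hl hpl
        have h2 : 1 < (l ∩ {a, b, c}).card :=
          Finset.one_lt_card.mpr ⟨u, Finset.mem_inter.mpr ⟨hul, hu⟩, v,
            Finset.mem_inter.mpr ⟨hvl, hv⟩, huv⟩
        omega
      refine ⟨⟨?_, ?_⟩, ?_⟩
      · exact key l1 hl1 a b hab (by simp) (by simp) ha1 hb1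
      · exact key l2 hl2 a c hac (by simp) (by simp) ha2 hc2
      · exact key l3 hl3 b c hbc (by simp) (by simp) hb3 hc3
    · rintro ⟨⟨hp1, hp2⟩, hp3⟩
      refine ⟨?_, fun l hl hpl => ?_⟩
      · intro hpT
        simp only [Finset.mem_insert, Finset.mem_singleton] at hpT
        rcases hpT with rfl | rfl | rfl
        · exact hp1 ha1
        · exact hp1 hb1
        · exact hp2 hc2
      · by_contra hcon
        push Not at hcon
        obtain ⟨u, hu, v, hv, huv⟩ := Finset.one_lt_card.mp hcon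
        rw [Finset.mem_inter] at hu hv
        have hu2 := hu.2
        have hv2 := hv.2
        simp only [Finset.mem_insert, Finset.mem_singleton] at hu2 hv2
        have e1 : ∀ x y : α, x ∈ l → y ∈ l → x ∈ l1 → y ∈ l1 → x ≠ y → False := by
          intro x y hx hy hx1 hy1 hxy
          exact hp1 ((h28_line_unique hL hxy hl hl1 hx hy hx1 hy1) ▸ hpl)
        have e2 : ∀ x y : α, x ∈ l → y ∈ l → x ∈ l2 → y ∈ l2 → x ≠ y → False := by
          intro x y hx hy hx1 hy1 hxy
          exact hp2 ((h28_line_unique hL hxy hl hl2 hx hy hx1 hy1) ▸ hpl)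
        have e3 : ∀ x y : α, x ∈ l → y ∈ l → x ∈ l3 → y ∈ l3 → x ≠ y → False := by
          intro x y hx hy hx1 hy1 hxy
          exact hp3 ((h28_line_unique hL hxy hl hl3 hx hy hx1 hy1) ▸ hpl)
        rcases hu2 with rfl | rfl | rfl <;> rcases hv2 with rfl | rfl | rfl
        · exact huv rfl
        · exact e1 _ _ hu.1 hv.1 ha1 hb1 huv
        · exact e2 _ _ hu.1 hv.1 ha2 hc2 huv
        · exact e1 _ _ hu.1 hv.1 hb1 ha1 huv
        · exact huv rfl
        · exact e3 _ _ hu.1 hv.1 hb3 hc3 huv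
        · exact e2 _ _ hu.1 hv.1 hc2 ha2 huv
        · exact e3 _ _ hu.1 hv.1 hc3 hb3 huv
        · exact huv rfl
  -- the union of the three lines has 12 points
  have hi12 := h28_inter_eq_one hα hL hl1 hl2 h12
  have hu12 : (l1 ∪ l2).card = 9 := by
    have := Finset.card_union_add_card_inter l1 l2
    rw [hi12, hL.1 l1 hl1, hL.1 l2 hl2] at this
    omega
  have hi13 := h28_inter_eq_singleton hα hL hl1 hl3 h13 hb1 hb3
  have hi23 := h28_inter_eq_singleton hα hL hl2 hl3 h23 hc2 hc3
  have hi3 : ((l1 ∪ l2) ∩ l3).card = 2 := by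
    rw [Finset.union_inter_distrib_right, hi13, hi23]
    exact Finset.card_pair hbc
  have hu : (l1 ∪ l2 ∪ l3).card = 12 := by
    have := Finset.card_union_add_card_inter (l1 ∪ l2) l3
    rw [hi3, hu12, hL.1 l3 hl3] at this
    omega
  rw [hext, Finset.card_sdiff_of_subset (Finset.subset_univ _), Finset.card_univ, hα, hu]

theorem h28_card_arcs_three (hα : Fintype.card α = 21) (hL : IsSteinerSystem 2 5 L) :
    (h28_arcs L 3).card = 1120 := by
  have h : 3 * (h28_arcs L 3).card = ∑ S ∈ h28_arcs L 2, (h28_ext L S).card := h28_step (L := L) 2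
  rw [Finset.sum_congr rfl (fun S hS => h28_card_ext_two hα hL hS), Finset.sum_const,
    h28_card_arcs_two hα hL, smul_eq_mul] at h
  omega

theorem h28_card_arcs_four (hα : Fintype.card α = 21) (hL : IsSteinerSystem 2 5 L) :
    (h28_arcs L 4).card = 2520 := by
  have h : 4 * (h28_arcs L 4).card = ∑ S ∈ h28_arcs L 3, (h28_ext L S).card := h28_step (L := L) 3
  rw [Finset.sum_congr rfl (fun S hS => h28_card_ext_three hα hL hS), Finset.sum_const,
    h28_card_arcs_three hα hL, smul_eq_mul] at h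
  omega

/-- the number of tangents at a point of an arc -/
theorem h28_card_tangents (hα : Fintype.card α = 21) (hL : IsSteinerSystem 2 5 L) {S : Finset α}
    (hS : h28_IsArc L S) {s : α} (hs : s ∈ S) :
    ((h28_linesThrough L s).filter fun t => (t ∩ S).card = 1).card + S.card = 6 := by
  have hsum := h28_sum_lines hL s (S.erase s) (Finset.notMem_erase s S)
  rw [Finset.card_erase_of_mem hs] at hsum
  have hterm : ∀ t ∈ h28_linesThrough L s,
      (t ∩ S.erase s).card + (if (t ∩ S).card = 1 then 1 else 0) = 1 := by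
    intro t ht
    rw [h28_mem_linesThrough] at ht
    have h1 : t ∩ S.erase s = (t ∩ S).erase s := by
      ext x
      simp only [Finset.mem_inter, Finset.mem_erase]
      tauto
    have h2 : s ∈ t ∩ S := Finset.mem_inter.mpr ⟨ht.2, hs⟩
    rw [h1, Finset.card_erase_of_mem h2]
    have h3 := hS t ht.1
    have h4 : 0 < (t ∩ S).card := Finset.card_pos.mpr ⟨s, h2⟩
    split_ifs with h <;> omega
  have htot : ∑ t ∈ h28_linesThrough L s,
      ((t ∩ S.erase s).card + (if (t ∩ S).card = 1 then 1 else 0)) = 5 := by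
    rw [Finset.sum_congr rfl hterm, Finset.sum_const, smul_eq_mul, mul_one,
      h28_card_linesThrough hα hL s]
  rw [Finset.sum_add_distrib, hsum, ← Finset.card_filter] at htot
  have : 0 < S.card := Finset.card_pos.mpr ⟨s, hs⟩
  omega

/-- each tangent to a 4-arc carries exactly one extension point -/
theorem h28_tangent_ext (hα : Fintype.card α = 21) (hL : IsSteinerSystem 2 5 L) {S : Finset α}
    (hS : h28_IsArc L S) (hS4 : S.card = 4) {s : α} (hs : s ∈ S) {t : Finset α} (ht : t ∈ L)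
    (hst : s ∈ t) (ht1 : (t ∩ S).card = 1) : (t ∩ h28_ext L S).card = 1 := by
  have htS : t ∩ S = {s} := by
    obtain ⟨y, hy⟩ := Finset.card_eq_one.mp ht1
    have : s ∈ t ∩ S := Finset.mem_inter.mpr ⟨hst, hs⟩
    rw [hy] at this ⊢
    rw [Finset.mem_singleton.mp this]
  have honly : ∀ x, x ∈ t → x ∈ S → x = s := by
    intro x hxt hxS
    have : x ∈ t ∩ S := Finset.mem_inter.mpr ⟨hxt, hxS⟩
    rw [htS] at this
    exact Finset.mem_singleton.mp this
  have h3 : (S.erase s).card = 3 := by rw [Finset.card_erase_of_mem hs, hS4]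
  obtain ⟨a, b, c, hab, hac, hbc, hT⟩ := Finset.card_eq_three.mp h3
  have hmemT : ∀ x, x ∈ S.erase s ↔ x = a ∨ x = b ∨ x = c := by
    intro x; rw [hT]; simp
  have haS : a ∈ S ∧ a ≠ s := by
    have := (hmemT a).mpr (Or.inl rfl); rw [Finset.mem_erase] at this; exact ⟨this.2, this.1⟩
  have hbS : b ∈ S ∧ b ≠ s := by
    have := (hmemT b).mpr (Or.inr (Or.inl rfl)); rw [Finset.mem_erase] at this; exact ⟨this.2, this.1⟩
  have hcS : c ∈ S ∧ c ≠ s := by
    have := (hmemT c).mpr (Or.inr (Or.inr rfl)); rw [Finset.mem_erase] at this; exact ⟨this.2, this.1⟩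
  have hScases : ∀ x, x ∈ S → x = s ∨ x = a ∨ x = b ∨ x = c := by
    intro x hx
    by_cases hxs : x = s
    · exact Or.inl hxs
    · exact Or.inr ((hmemT x).mp (Finset.mem_erase.mpr ⟨hxs, hx⟩))
  -- three distinct points of `S` are never on a line
  have hnc : ∀ l ∈ L, ∀ x y z : α, x ∈ S → y ∈ S → z ∈ S → x ≠ y → x ≠ z → y ≠ z →
      x ∈ l → y ∈ l → z ∈ l → False := by
    intro l hl x y z hx hy hz hxy hxz hyz hxl hyl hzl
    have h1 := hS l hl
    have hsub : ({x, y, z} : Finset α) ⊆ l ∩ S := by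
      intro w hw
      simp only [Finset.mem_insert, Finset.mem_singleton] at hw
      rcases hw with rfl | rfl | rfl <;> exact Finset.mem_inter.mpr ⟨‹_›, ‹_›⟩
    have h2 := Finset.card_le_card hsub
    rw [Finset.card_eq_three.mpr ⟨x, y, z, hxy, hxz, hyz, rfl⟩] at h2
    omega
  obtain ⟨l1, hl1, ha1, hb1⟩ := h28_exists_line hL hab
  obtain ⟨l2, hl2, ha2, hc2⟩ := h28_exists_line hL hac
  obtain ⟨l3, hl3, hb3, hc3⟩ := h28_exists_line hL hbc
  have hc1 : c ∉ l1 := fun h => hnc l1 hl1 a b c haS.1 hbS.1 hcS.1 hab hac hbc ha1 hb1 h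
  have hb2 : b ∉ l2 := fun h => hnc l2 hl2 a b c haS.1 hbS.1 hcS.1 hab hac hbc ha2 h hc2
  have ha3 : a ∉ l3 := fun h => hnc l3 hl3 a b c haS.1 hbS.1 hcS.1 hab hac hbc h hb3 hc3
  have hs1 : s ∉ l1 := fun h => hnc l1 hl1 s a b hs haS.1 hbS.1 (Ne.symm haS.2) (Ne.symm hbS.2) hab h ha1 hb1
  have hs2 : s ∉ l2 := fun h => hnc l2 hl2 s a c hs haS.1 hcS.1 (Ne.symm haS.2) (Ne.symm hcS.2) hac h ha2 hc2
  have hs3 : s ∉ l3 := fun h => hnc l3 hl3 s b c hs hbS.1 hcS.1 (Ne.symm hbS.2) (Ne.symm hcS.2) hbc h hb3 hc3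
  have h12 : l1 ≠ l2 := fun h => hc1 (h ▸ hc2)
  have h13 : l1 ≠ l3 := fun h => hc1 (h ▸ hc3)
  have h23 : l2 ≠ l3 := fun h => hb2 (h ▸ hb3)
  have ht1' : t ≠ l1 := fun h => hs1 (h ▸ hst)
  have ht2' : t ≠ l2 := fun h => hs2 (h ▸ hst)
  have ht3' : t ≠ l3 := fun h => hs3 (h ▸ hst)
  obtain ⟨y1, hy1⟩ := Finset.card_eq_one.mp (h28_inter_eq_one hα hL ht hl1 ht1')
  obtain ⟨y2, hy2⟩ := Finset.card_eq_one.mp (h28_inter_eq_one hα hL ht hl2 ht2')
  obtain ⟨y3, hy3⟩ := Finset.card_eq_one.mp (h28_inter_eq_one hα hL ht hl3 ht3')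
  have hy1m : y1 ∈ t ∧ y1 ∈ l1 := by
    have : y1 ∈ t ∩ l1 := by rw [hy1]; exact Finset.mem_singleton_self _
    exact Finset.mem_inter.mp this
  have hy2m : y2 ∈ t ∧ y2 ∈ l2 := by
    have : y2 ∈ t ∩ l2 := by rw [hy2]; exact Finset.mem_singleton_self _
    exact Finset.mem_inter.mp this
  have hy3m : y3 ∈ t ∧ y3 ∈ l3 := by
    have : y3 ∈ t ∩ l3 := by rw [hy3]; exact Finset.mem_singleton_self _
    exact Finset.mem_inter.mp this
  have hat : a ∉ t := fun h => haS.2 (honly a h haS.1)
  have hbt : b ∉ t := fun h => hbS.2 (honly b h hbS.1)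
  have hct : c ∉ t := fun h => hcS.2 (honly c h hcS.1)
  have hy1s : y1 ≠ s := fun h => hs1 (h ▸ hy1m.2)
  have hy2s : y2 ≠ s := fun h => hs2 (h ▸ hy2m.2)
  have hy3s : y3 ≠ s := fun h => hs3 (h ▸ hy3m.2)
  have hy12 : y1 ≠ y2 := by
    intro h
    have : y1 ∈ l1 ∩ l2 := Finset.mem_inter.mpr ⟨hy1m.2, h ▸ hy2m.2⟩
    rw [h28_inter_eq_singleton hα hL hl1 hl2 h12 ha1 ha2, Finset.mem_singleton] at this
    exact hat (this ▸ hy1m.1)
  have hy13 : y1 ≠ y3 := by
    intro h
    have : y1 ∈ l1 ∩ l3 := Finset.mem_inter.mpr ⟨hy1m.2, h ▸ hy3m.2⟩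
    rw [h28_inter_eq_singleton hα hL hl1 hl3 h13 hb1 hb3, Finset.mem_singleton] at this
    exact hbt (this ▸ hy1m.1)
  have hy23 : y2 ≠ y3 := by
    intro h
    have : y2 ∈ l2 ∩ l3 := Finset.mem_inter.mpr ⟨hy2m.2, h ▸ hy3m.2⟩
    rw [h28_inter_eq_singleton hα hL hl2 hl3 h23 hc2 hc3, Finset.mem_singleton] at this
    exact hct (this ▸ hy2m.1)
  -- the extension points on `t`
  have hset : t ∩ h28_ext L S = t \ {s, y1, y2, y3} := by
    ext p
    rw [Finset.mem_inter, h28_mem_ext_iff hS, Finset.mem_sdiff]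
    simp only [Finset.mem_insert, Finset.mem_singleton, not_or]
    constructor
    · rintro ⟨hpt, hpS, hsec⟩
      refine ⟨hpt, fun h => hpS (h ▸ hs), ?_, ?_, ?_⟩
      · intro h
        have h1 := hsec l1 hl1 (h ▸ hy1m.2)
        have h2 : 1 < (l1 ∩ S).card := Finset.one_lt_card.mpr
          ⟨a, Finset.mem_inter.mpr ⟨ha1, haS.1⟩, b, Finset.mem_inter.mpr ⟨hb1, hbS.1⟩, hab⟩
        omega
      · intro h
        have h1 := hsec l2 hl2 (h ▸ hy2m.2)
        have h2 : 1 < (l2 ∩ S).card := Finset.one_lt_card.mpr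
          ⟨a, Finset.mem_inter.mpr ⟨ha2, haS.1⟩, c, Finset.mem_inter.mpr ⟨hc2, hcS.1⟩, hac⟩
        omega
      · intro h
        have h1 := hsec l3 hl3 (h ▸ hy3m.2)
        have h2 : 1 < (l3 ∩ S).card := Finset.one_lt_card.mpr
          ⟨b, Finset.mem_inter.mpr ⟨hb3, hbS.1⟩, c, Finset.mem_inter.mpr ⟨hc3, hcS.1⟩, hbc⟩
        omega
    · rintro ⟨hpt, hps, hp1, hp2, hp3⟩
      have hpS : p ∉ S := fun h => hps (honly p hpt h)
      refine ⟨hpt, hpS, fun l hl hpl => ?_⟩
      by_contra hcon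
      push Not at hcon
      obtain ⟨u, hu, v, hv, huv⟩ := Finset.one_lt_card.mp hcon
      rw [Finset.mem_inter] at hu hv
      -- a line through `p` and `s` is `t`
      have hls : s ∈ l → False := by
        intro hsl
        have hlt : l = t := h28_line_unique hL (Ne.symm hps) hl ht hsl hpl hst hpt
        have hu' := honly u (hlt ▸ hu.1) hu.2
        have hv' := honly v (hlt ▸ hv.1) hv.2
        exact huv (hu'.trans hv'.symm)
      have e1 : ∀ x y : α, x ∈ l → y ∈ l → x ∈ l1 → y ∈ l1 → x ≠ y → False := by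
        intro x y hx hy hx1 hy1' hxy
        have hl1' : l = l1 := h28_line_unique hL hxy hl hl1 hx hy hx1 hy1'
        have : p ∈ t ∩ l1 := Finset.mem_inter.mpr ⟨hpt, hl1' ▸ hpl⟩
        rw [hy1, Finset.mem_singleton] at this
        exact hp1 this
      have e2 : ∀ x y : α, x ∈ l → y ∈ l → x ∈ l2 → y ∈ l2 → x ≠ y → False := by
        intro x y hx hy hx1 hy1' hxy
        have hl1' : l = l2 := h28_line_unique hL hxy hl hl2 hx hy hx1 hy1'
        have : p ∈ t ∩ l2 := Finset.mem_inter.mpr ⟨hpt, hl1' ▸ hpl⟩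
        rw [hy2, Finset.mem_singleton] at this
        exact hp2 this
      have e3 : ∀ x y : α, x ∈ l → y ∈ l → x ∈ l3 → y ∈ l3 → x ≠ y → False := by
        intro x y hx hy hx1 hy1' hxy
        have hl1' : l = l3 := h28_line_unique hL hxy hl hl3 hx hy hx1 hy1'
        have : p ∈ t ∩ l3 := Finset.mem_inter.mpr ⟨hpt, hl1' ▸ hpl⟩
        rw [hy3, Finset.mem_singleton] at this
        exact hp3 this
      rcases hScases u hu.2 with rfl | rfl | rfl | rfl
      · exact hls hu.1
      · rcases hScases v hv.2 with rfl | rfl | rfl | rfl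
        · exact hls hv.1
        · exact huv rfl
        · exact e1 _ _ hu.1 hv.1 ha1 hb1 huv
        · exact e2 _ _ hu.1 hv.1 ha2 hc2 huv
      · rcases hScases v hv.2 with rfl | rfl | rfl | rfl
        · exact hls hv.1
        · exact e1 _ _ hu.1 hv.1 hb1 ha1 huv
        · exact huv rfl
        · exact e3 _ _ hu.1 hv.1 hb3 hc3 huv
      · rcases hScases v hv.2 with rfl | rfl | rfl | rfl
        · exact hls hv.1
        · exact e2 _ _ hu.1 hv.1 hc2 ha2 huv
        · exact e3 _ _ hu.1 hv.1 hc3 hb3 huv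
        · exact huv rfl
  have hsub : ({s, y1, y2, y3} : Finset α) ⊆ t := by
    intro x hx
    simp only [Finset.mem_insert, Finset.mem_singleton] at hx
    rcases hx with rfl | rfl | rfl | rfl
    · exact hst
    · exact hy1m.1
    · exact hy2m.1
    · exact hy3m.1
  have hc4 : ({s, y1, y2, y3} : Finset α).card = 4 := by
    rw [Finset.card_insert_of_notMem, Finset.card_insert_of_notMem, Finset.card_pair hy23]
    · simp only [Finset.mem_insert, Finset.mem_singleton, not_or]
      exact ⟨hy12, hy13⟩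
    · simp only [Finset.mem_insert, Finset.mem_singleton, not_or]
      exact ⟨Ne.symm hy1s, Ne.symm hy2s, Ne.symm hy3s⟩
  rw [hset, Finset.card_sdiff_of_subset hsub, hL.1 t ht, hc4]

/-- a 4-arc has exactly two extension points -/
theorem h28_card_ext_four (hα : Fintype.card α = 21) (hL : IsSteinerSystem 2 5 L) {S : Finset α}
    (hS : h28_IsArc L S) (hS4 : S.card = 4) : (h28_ext L S).card = 2 := by
  obtain ⟨s, hs⟩ : S.Nonempty := by rw [← Finset.card_pos]; omega
  have hsx : s ∉ h28_ext L S := fun h => (h28_mem_ext.mp h).1 hs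
  have hsum := h28_sum_lines hL s (h28_ext L S) hsx
  have hterm : ∀ t ∈ h28_linesThrough L s,
      (t ∩ h28_ext L S).card = if (t ∩ S).card = 1 then 1 else 0 := by
    intro t ht
    rw [h28_mem_linesThrough] at ht
    split_ifs with h
    · exact h28_tangent_ext hα hL hS hS4 hs ht.1 ht.2 h
    · rw [Finset.card_eq_zero, Finset.eq_empty_iff_forall_notMem]
      intro p hp
      rw [Finset.mem_inter, h28_mem_ext_iff hS] at hp
      have h1 := hp.2.2 t ht.1 hp.1
      have h2 : 0 < (t ∩ S).card := Finset.card_pos.mpr ⟨s, Finset.mem_inter.mpr ⟨ht.2, hs⟩⟩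
      omega
  rw [Finset.sum_congr rfl hterm, ← Finset.card_filter] at hsum
  have := h28_card_tangents hα hL hS hs
  omega

/-- the hyperoval containing a 4-arc -/
theorem h28_hyperoval (hα : Fintype.card α = 21) (hL : IsSteinerSystem 2 5 L) {S : Finset α}
    (hS : h28_IsArc L S) (hS4 : S.card = 4) :
    (S ∪ h28_ext L S).card = 6 ∧ h28_IsArc L (S ∪ h28_ext L S) := by
  have hdisj : Disjoint S (h28_ext L S) := by
    rw [Finset.disjoint_left]
    intro x hx hx'
    exact (h28_mem_ext.mp hx').1 hx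
  have h2 := h28_card_ext_four hα hL hS hS4
  refine ⟨by rw [Finset.card_union_of_disjoint hdisj, hS4, h2], fun l hl => ?_⟩
  rw [Finset.inter_union_distrib_left]
  have hle := Finset.card_union_le (l ∩ S) (l ∩ h28_ext L S)
  have hSl := hS l hl
  have hcases : (l ∩ S).card = 0 ∨ (l ∩ S).card = 1 ∨ (l ∩ S).card = 2 := by omega
  rcases hcases with h | h | h
  · have := Finset.card_le_card (Finset.inter_subset_right : l ∩ h28_ext L S ⊆ h28_ext L S)
    omega
  · obtain ⟨s', hs'⟩ := Finset.card_eq_one.mp h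
    have hs'm : s' ∈ l ∩ S := by rw [hs']; exact Finset.mem_singleton_self _
    rw [Finset.mem_inter] at hs'm
    have := h28_tangent_ext hα hL hS hS4 hs'm.2 hl hs'm.1 h
    omega
  · have : (l ∩ h28_ext L S).card = 0 := by
      rw [Finset.card_eq_zero, Finset.eq_empty_iff_forall_notMem]
      intro p hp
      rw [Finset.mem_inter, h28_mem_ext_iff hS] at hp
      have h1 := hp.2.2 l hl hp.1
      omega
    omega

/-- uniqueness of the hyperoval through a 4-arc -/
theorem h28_hyperoval_unique (hα : Fintype.card α = 21) (hL : IsSteinerSystem 2 5 L)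
    {S H : Finset α} (hS : h28_IsArc L S) (hS4 : S.card = 4) (hH : h28_IsArc L H)
    (hH6 : H.card = 6) (hSH : S ⊆ H) : H = S ∪ h28_ext L S := by
  have hsub : H \ S ⊆ h28_ext L S := by
    intro x hx
    rw [Finset.mem_sdiff] at hx
    rw [h28_mem_ext]
    refine ⟨hx.2, hH.subset ?_⟩
    intro y hy
    rcases Finset.mem_insert.mp hy with rfl | h
    · exact hx.1
    · exact hSH h
  have hcard : (H \ S).card = 2 := by
    rw [Finset.card_sdiff_of_subset hSH, hH6, hS4]
  have heq : H \ S = h28_ext L S :=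
    Finset.eq_of_subset_of_card_le hsub (by rw [hcard, h28_card_ext_four hα hL hS hS4])
  rw [← heq, Finset.union_sdiff_of_subset hSH]

theorem h28_card_arcs_six (hα : Fintype.card α = 21) (hL : IsSteinerSystem 2 5 L) :
    (h28_arcs L 6).card = 168 := by
  have key := Finset.sum_card_bipartiteAbove_eq_sum_card_bipartiteBelow
    (s := h28_arcs L 6) (t := h28_arcs L 4) (r := fun (H S : Finset α) => S ⊆ H)
  have h1 : ∀ H ∈ h28_arcs L 6,
      (Finset.bipartiteAbove (fun (H S : Finset α) => S ⊆ H) (h28_arcs L 4) H).card = 15 := by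
    intro H hH
    rw [h28_mem_arcs] at hH
    have e : Finset.bipartiteAbove (fun (H S : Finset α) => S ⊆ H) (h28_arcs L 4) H =
        H.powersetCard 4 := by
      ext S
      simp only [Finset.bipartiteAbove, Finset.mem_filter, Finset.mem_powersetCard, h28_mem_arcs]
      constructor
      · rintro ⟨⟨h1, _⟩, h3⟩; exact ⟨h3, h1⟩
      · rintro ⟨h1, h2⟩; exact ⟨⟨h2, hH.2.subset h1⟩, h1⟩
    rw [e, Finset.card_powersetCard, hH.1]
    rfl
  have h2 : ∀ S ∈ h28_arcs L 4,
      (Finset.bipartiteBelow (fun (H S : Finset α) => S ⊆ H) (h28_arcs L 6) S).card = 1 := by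
    intro S hS
    rw [h28_mem_arcs] at hS
    rw [Finset.card_eq_one]
    refine ⟨S ∪ h28_ext L S, ?_⟩
    ext H
    simp only [Finset.bipartiteBelow, Finset.mem_filter, h28_mem_arcs, Finset.mem_singleton]
    constructor
    · rintro ⟨⟨h6, harc⟩, hSH⟩
      exact h28_hyperoval_unique hα hL hS.2 hS.1 harc h6 hSH
    · rintro rfl
      have := h28_hyperoval hα hL hS.2 hS.1
      exact ⟨⟨this.1, this.2⟩, Finset.subset_union_left⟩
  rw [Finset.sum_congr rfl h1, Finset.sum_congr rfl h2, Finset.sum_const, Finset.sum_const,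
    h28_card_arcs_four hα hL, smul_eq_mul, smul_eq_mul] at key
  omega

end

theorem result {α : Type*} [Fintype α] [DecidableEq α] (hα : Fintype.card α = 21) (L : Set (Finset α)) (hL : Cfsg.IsSteinerSystem 2 5 L) : {S : Finset α | (S.card = 4 ∧ ∀ l ∈ L, (l ∩ S).card ≤ 2)}.ncard = 2520 ∧ {H : Finset α | (H.card = 6 ∧ ∀ l ∈ L, (l ∩ H).card ≤ 2)}.ncard = 168 ∧ ∀ S : Finset α, (S.card = 4 ∧ ∀ l ∈ L, (l ∩ S).card ≤ 2) → ∃! H : Finset α, (H.card = 6 ∧ ∀ l ∈ L, (l ∩ H).card ≤ 2) ∧ S ⊆ H := by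
  have hset : ∀ k : ℕ, {S : Finset α | (S.card = k ∧ ∀ l ∈ L, (l ∩ S).card ≤ 2)} =
      ((h28_arcs L k : Finset (Finset α)) : Set (Finset α)) := by
    intro k
    ext S
    rw [Finset.mem_coe, h28_mem_arcs]
    rfl
  refine ⟨?_, ?_, ?_⟩
  · rw [hset 4, Set.ncard_coe_finset, h28_card_arcs_four hα hL]
  · rw [hset 6, Set.ncard_coe_finset, h28_card_arcs_six hα hL]
  · rintro S ⟨hS4, hS⟩
    have hyp := h28_hyperoval hα hL (S := S) hS hS4
    refine ⟨S ∪ h28_ext L S, ⟨⟨hyp.1, hyp.2⟩, Finset.subset_union_left⟩, ?_⟩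
    rintro H ⟨⟨h6, harc⟩, hSH⟩
    exact h28_hyperoval_unique hα hL hS hS4 harc h6 hSH

end Cfsg.Agent.S5627
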