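import Mathlib
import Cfsg.Statements.S0359
import Cfsg.Agent.Lib.Helper28.Octads

set_option autoImplicit false
open Cfsg

namespace Cfsg.Agent.S0359

open Cfsg.Agent.Lib.Helper28

lemma one_mem_golayCode : (1 : GolayPt → ZMod 2) ∈ golayCode :=
  Submodule.subset_span (Or.inr rfl)

lemma hammingNorm_one : hammingNorm (1 : GolayPt → ZMod 2) = 24 := by
  decide

lemma bsupp_one : bsupp (1 : GolayPt → ZMod 2) = Finset.univ := by
  ext i
  simp [mem_bsupp]

lemma hammingNorm_add_one (w : GolayPt → ZMod 2) : hammingNorm (w + 1) + hammingNorm w = 24 := by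
  have h := hammingNorm_add w 1
  rw [bsupp_one, Finset.inter_univ, ← hammingNorm_eq_card_bsupp, hammingNorm_one] at h
  omega

/-- The weight of every word of the length-24 code is one of 0, 8, 12, 16, 24. -/
theorem result (w : Cfsg.GolayPt → ZMod 2) (hw : w ∈ Cfsg.golayCode) : hammingNorm w = 0 ∨ hammingNorm w = 8 ∨ hammingNorm w = 12 ∨ hammingNorm w = 16 ∨ hammingNorm w = 24 := by
  have hC := golayCode_isGolayLike
  have h4 := hC.doubly_even w hw
  have h1 := hammingNorm_add_one w
  have hw1 : w + 1 ∈ golayCode := Submodule.add_mem _ hw one_mem_golayCode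
  have h4' := hC.doubly_even (w + 1) hw1
  have hmin : ∀ v ∈ golayCode, hammingNorm v ≠ 4 := by
    intro v hv h
    have hne : v ≠ 0 := by
      rintro rfl
      simp at h
    have := hC.minw v hv hne
    omega
  have hm1 := hmin w hw
  have hm2 := hmin (w + 1) hw1
  obtain ⟨k, hk⟩ := h4
  obtain ⟨k', hk'⟩ := h4'
  omega

end Cfsg.Agent.S0359
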