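import Cfsg.Statements.S5622
import Cfsg.Agent.Lib.Helper28.Golay

set_option autoImplicit false
open Cfsg

namespace Cfsg.Agent.S5622

open Cfsg.Agent.Lib.Helper28

theorem result (C : Submodule (ZMod 2) (Fin 24 → ZMod 2)) (hdim : Module.finrank (ZMod 2) C = 12) (horth : ∀ v ∈ C, ∀ w ∈ C, ∑ i, v i * w i = 0) (hmin : ∀ w ∈ C, w ≠ 0 → 8 ≤ hammingNorm w) : (∃ w ∈ C, hammingNorm w = 8) ∧ Cfsg.IsSteinerSystem 5 8 (Cfsg.wordsOfWeight (C : Set (Fin 24 → ZMod 2)) 8) := by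
  have hC : IsGolayLike C := ⟨by simp, hdim, horth, hmin⟩
  have hsupp : ∀ v : Fin 24 → ZMod 2, Cfsg.support₂ v = bsupp v := fun v => rfl
  refine ⟨?_, ?_, ?_⟩
  · have h5 : (5 : ℕ) ≤ (Finset.univ : Finset (Fin 24)).card := by simp
    obtain ⟨s, -, hs⟩ := Finset.exists_subset_card_eq h5
    obtain ⟨c, hc, h8, -⟩ := hC.exists_octad s hs
    exact ⟨c, hc, h8⟩
  · rintro b ⟨-, hb⟩
    exact hb
  · intro s hs
    obtain ⟨c, hc, h8, hsc⟩ := hC.exists_octad s hs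
    refine ⟨bsupp c, ⟨⟨⟨c, hc, hsupp c⟩, ?_⟩, hsc⟩, ?_⟩
    · rw [← hammingNorm_eq_card_bsupp]; exact h8
    · rintro b ⟨⟨⟨c', hc', rfl⟩, hb8⟩, hsb⟩
      rw [hsupp] at hb8 hsb ⊢
      have h8' : hammingNorm c' = 8 := by rw [hammingNorm_eq_card_bsupp]; exact hb8
      rw [hC.octad_unique c' c hc' hc h8' h8 s (by omega) hsb hsc]

end Cfsg.Agent.S5622
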