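import Cfsg.Statements.S0077
import Cfsg.Agent.Lib.Helper9.Conj

set_option autoImplicit false
open Pointwise
open Cfsg
open scoped commutatorElement

namespace Cfsg.Agent.S0077

open Cfsg.Agent.Lib.Helper9

/-- If a subgroup Z of the centre of a Sylow p-subgroup P is weakly closed in P, then P meets the derived subgroup of G exactly where it meets the derived subgroup of the normalizer of Z. -/
theorem result {G : Type*} [Group G] [Finite G] {p : ℕ} [Fact p.Prime] (P : Sylow p G) (Z : Subgroup G) (hZ : Z ≤ Subgroup.centralizer (P : Set G)) (hW : Cfsg.IsWeaklyClosed Z P) : commutator G ⊓ (P : Subgroup G) = ⁅Subgroup.normalizer (Z : Set G), Subgroup.normalizer (Z : Set G)⁆ ⊓ (P : Subgroup G) := by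
  have hPN : (P : Subgroup G) ≤ Subgroup.normalizer (Z : Set G) := by
    intro q hq
    rw [Subgroup.mem_normalizer_iff]
    intro z
    have hcomm : ∀ w ∈ Z, q * w * q⁻¹ = w := by
      intro w hw
      have := hZ hw q hq
      calc q * w * q⁻¹ = (q * w) * q⁻¹ := rfl
        _ = (w * q) * q⁻¹ := by rw [this]
        _ = w := by group
    constructor
    · intro hz; rw [hcomm z hz]; exact hz
    · intro hz
      have h2 := hcomm _ hz
      -- q (q z q⁻¹) q⁻¹ = q z q⁻¹, so q z q⁻¹ = z
      have : q * z * q⁻¹ = z := by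
        have h3 : q * (q * z * q⁻¹) * q⁻¹ = q * z * q⁻¹ := h2
        have : q * z * q⁻¹ = q⁻¹ * (q * (q * z * q⁻¹) * q⁻¹) * q := by group
        rw [this, h3]; group
      rw [← this]; exact hz
  apply le_antisymm
  · rw [Subgroup.commutator_inf_eq_focalSubgroup P]
    refine le_inf ?_ (Subgroup.focalSubgroup_le _)
    rw [Subgroup.focalSubgroup_def, Subgroup.closure_le]
    rintro g ⟨hgP, x, hx, u, rfl⟩
    have hxi : x⁻¹ ∈ (P : Subgroup G) := inv_mem hx
    have hy : u * x⁻¹ * u⁻¹ ∈ (P : Subgroup G) := by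
      have : u * x⁻¹ * u⁻¹ = x⁻¹ * ⁅x, u⁆ := by
        rw [commutatorElement_def]; group
      rw [this]; exact mul_mem hxi hgP
    set y := u * x⁻¹ * u⁻¹ with hydef
    -- Z and its u-conjugate lie in the centralizer of y
    have hZH : Z ≤ Subgroup.centralizer ({y} : Set G) := by
      intro z hz
      rw [Subgroup.mem_centralizer_singleton_iff]
      exact (hZ hz y hy).symm
    have hZuH : Z.map (MulAut.conj u).toMonoidHom ≤ Subgroup.centralizer ({y} : Set G) := by
      rintro _ ⟨z, hz, rfl⟩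
      rw [Subgroup.mem_centralizer_singleton_iff]
      have h1 : x⁻¹ * z = z * x⁻¹ := hZ hz x⁻¹ hxi
      simp only [MulEquiv.coe_toMonoidHom, MulAut.conj_apply, hydef]
      calc u * z * u⁻¹ * (u * x⁻¹ * u⁻¹) = u * (z * x⁻¹) * u⁻¹ := by group
        _ = u * (x⁻¹ * z) * u⁻¹ := by rw [h1]
        _ = u * x⁻¹ * u⁻¹ * (u * z * u⁻¹) := by group
    obtain ⟨c, hc, hcZ⟩ := weaklyClosed_conj_in_subgroup P Z hW _ hZH u hZuH
    -- n = c⁻¹ u normalizes Z and conjugates x⁻¹ to y
    have hn : c⁻¹ * u ∈ Subgroup.normalizer (Z : Set G) := by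
      apply mem_normalizer_of_conjMap_eq_self
      rw [conjMap_mul, ← hcZ, conjMap_inv_conjMap]
    have hcy : c⁻¹ * y * c = y := by
      rw [Subgroup.mem_centralizer_singleton_iff] at hc
      calc c⁻¹ * y * c = c⁻¹ * (y * c) := by group
        _ = c⁻¹ * (c * y) := by rw [hc]
        _ = y := by group
    have hxy : ⁅x, u⁆ = ⁅x, c⁻¹ * u⁆ := by
      rw [commutatorElement_def, commutatorElement_def]
      calc x * u * x⁻¹ * u⁻¹ = x * y := by rw [hydef]; group
        _ = x * (c⁻¹ * y * c) := by rw [hcy]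
        _ = x * (c⁻¹ * u) * x⁻¹ * (c⁻¹ * u)⁻¹ := by rw [hydef]; group
    rw [hxy]
    exact Subgroup.commutator_mem_commutator (hPN hx) hn
  · refine inf_le_inf_right _ ?_
    exact Subgroup.commutator_mono le_top le_top

end Cfsg.Agent.S0077
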