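import Cfsg.Statements.S0078
import Cfsg.Agent.Lib.Lead.Tate
import Cfsg.Agent.Lib.Helper13.Sylow
import Cfsg.Agent.S0077

set_option autoImplicit false
open Cfsg

namespace Cfsg.Agent.S0078

open Subgroup Cfsg.Agent.Lib.Lead Cfsg.Agent.Lib.Helper17 Pointwise

theorem frattiniP_normal {p : ℕ} {V : Type*} [Group V] : (frattiniP p V).Normal := by
  unfold frattiniP
  have h2 : (Subgroup.closure (Set.range fun x : V => x ^ p)).Normal := by
    constructor
    intro n hn g
    induction hn using Subgroup.closure_induction with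
    | mem y hy =>
      obtain ⟨x, rfl⟩ := hy
      apply Subgroup.subset_closure
      exact ⟨g * x * g⁻¹, by simp [conj_pow]⟩
    | one => simp
    | mul a b _ _ iha ihb =>
      have : g * (a * b) * g⁻¹ = (g * a * g⁻¹) * (g * b * g⁻¹) := by group
      rw [this]; exact Subgroup.mul_mem _ iha ihb
    | inv a _ iha =>
      have : g * a⁻¹ * g⁻¹ = (g * a * g⁻¹)⁻¹ := by group
      rw [this]; exact Subgroup.inv_mem _ iha
  infer_instance


section
variable {G : Type*} [Group G] [Finite G] {p : ℕ} [Fact p.Prime]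

/-- `P ∩ G'G^p ≤ (P ∩ G') P^p`, elementwise. -/
theorem sylow_inf_frattiniP (P : Sylow p G) {y : G} (hyP : y ∈ (P : Subgroup G))
    (hy : y ∈ frattiniP p G) :
    ∃ t ∈ (P : Subgroup G), y * (t ^ p)⁻¹ ∈ _root_.commutator G := by
  let f : G →* Abelianization G := Abelianization.of
  have hfsurj : Function.Surjective f := QuotientGroup.mk'_surjective _
  have h1 : f y ∈ (powMonoidHom p : Abelianization G →* Abelianization G).range := by
    have hle : (frattiniP p G).map f ≤
        (powMonoidHom p : Abelianization G →* Abelianization G).range := by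
      unfold frattiniP
      rw [Subgroup.map_sup]
      apply sup_le
      · have : (_root_.commutator G).map f = ⊥ := by
          rw [Subgroup.map_eq_bot_iff, Abelianization.ker_of]
        rw [this]; exact bot_le
      · rw [MonoidHom.map_closure, closure_le]
        rintro _ ⟨_, ⟨x, rfl⟩, rfl⟩
        exact ⟨f x, (map_pow f x p).symm⟩
    exact hle (mem_map_of_mem f hy)
  obtain ⟨b, hb⟩ := h1
  obtain ⟨a, rfl⟩ := hfsurj b
  have hb' : f a ^ p = f y := hb
  obtain ⟨t', u', -, -, hau, ⟨k, hk⟩, hcop⟩ := Cfsg.Agent.Lib.Helper16.exists_p_decomp' p a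
  obtain ⟨m, hm⟩ := P.2 ⟨y, hyP⟩
  have hm' : y ^ p ^ m = 1 := by
    have := congrArg Subtype.val hm
    simpa using this
  have ht'k : t' ^ p ^ k = 1 := by rw [← hk]; exact pow_orderOf_eq_one t'
  -- `f u' ^ p = 1`
  have hY : f y = f t' ^ p * f u' ^ p := by
    rw [← hb', hau, map_mul, mul_pow]
  have hB : f u' ^ p = f y * (f t' ^ p)⁻¹ := by
    rw [hY]; exact (mul_inv_cancel_comm _ _).symm
  have hBp : (f u' ^ p) ^ p ^ (m + k) = 1 := by
    rw [hB, mul_pow, inv_pow, ← pow_mul, ← map_pow, ← map_pow, pow_add, pow_mul, hm', one_pow,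
      map_one, one_mul, inv_eq_one, mul_comm p, mul_comm (p ^ m), pow_mul, pow_mul, ht'k, one_pow,
      one_pow, map_one]
  have hB1 : f u' ^ p = 1 := by
    have h2 : orderOf (f u' ^ p) ∣ p ^ (m + k) := orderOf_dvd_of_pow_eq_one hBp
    have h3 : orderOf (f u' ^ p) ∣ orderOf u' :=
      (orderOf_pow_dvd p).trans (orderOf_map_dvd f u')
    have h4 : (orderOf (f u' ^ p)).Coprime (p ^ (m + k)) :=
      Nat.Coprime.pow_right _ (Nat.Coprime.coprime_dvd_left h3 hcop)
    exact orderOf_eq_one_iff.1 (Nat.Coprime.eq_one_of_dvd h4 h2)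
  obtain ⟨c, hc⟩ := Cfsg.Agent.Lib.Helper13.exists_conj_mem_sylow P t' ⟨k, ht'k⟩
  refine ⟨c * t' * c⁻¹, hc, ?_⟩
  rw [← Abelianization.ker_of, MonoidHom.mem_ker]
  change f (y * ((c * t' * c⁻¹) ^ p)⁻¹) = 1
  have hft : f (c * t' * c⁻¹) = f t' := by
    rw [map_mul, map_mul, map_inv]; exact mul_inv_cancel_comm _ _
  rw [map_mul, map_inv, map_pow, hft, hY, hB1, mul_one, mul_inv_cancel]

end

/-- In a p-normal group, a Sylow p-subgroup P meets O^p(G) exactly where it meets O^p(V), for any subgroup V containing the normalizer of the centre of P. -/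
theorem result {G : Type*} [Group G] [Finite G] {p : ℕ} [Fact p.Prime] (P : Sylow p G) (hn : ∀ Q : Sylow p G, (P : Subgroup G) ⊓ Subgroup.centralizer (P : Set G) ≤ (Q : Subgroup G) → (Q : Subgroup G) ⊓ Subgroup.centralizer (Q : Set G) = (P : Subgroup G) ⊓ Subgroup.centralizer (P : Set G)) (V : Subgroup G) (hV : Subgroup.normalizer (((P : Subgroup G) ⊓ Subgroup.centralizer (P : Set G) : Subgroup G) : Set G) ≤ V) : (P : Subgroup G) ⊓ Cfsg.pResidual p G = (P : Subgroup G) ⊓ (Cfsg.pResidual p V).map V.subtype := by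
  set Z : Subgroup G := (P : Subgroup G) ⊓ centralizer (P : Set G) with hZ
  have hZcent : Z ≤ centralizer (P : Set G) := inf_le_right
  -- `Z(P)` is weakly closed in `P`
  have hW : IsWeaklyClosed Z P := by
    refine ⟨inf_le_left, ?_⟩
    intro g hg
    have hQmem : ∀ y, y ∈ ((g⁻¹ • P : Sylow p G) : Subgroup G) ↔ g * y * g⁻¹ ∈ (P : Subgroup G) := by
      intro y
      rw [Cfsg.Agent.Lib.Helper13.mem_smul_sylow_iff, inv_inv]
    have hZQ : Z ≤ ((g⁻¹ • P : Sylow p G) : Subgroup G) := by
      intro z hz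
      rw [hQmem]
      exact hg ⟨z, hz, rfl⟩
    have hZQ' := hn (g⁻¹ • P) hZQ
    have hle : Z.map (MulAut.conj g).toMonoidHom ≤ Z := by
      rintro _ ⟨z, hz, rfl⟩
      change g * z * g⁻¹ ∈ Z
      rw [← hZQ'] at hz
      obtain ⟨hzQ, hzC⟩ := Subgroup.mem_inf.1 hz
      refine Subgroup.mem_inf.2 ⟨(hQmem z).1 hzQ, ?_⟩
      rw [mem_centralizer_iff]
      intro y hy
      have hyQ : g⁻¹ * y * g ∈ ((g⁻¹ • P : Sylow p G) : Subgroup G) := by
        rw [hQmem]
        have : g * (g⁻¹ * y * g) * g⁻¹ = y := by group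
        rw [this]; exact hy
      have hcomm := mem_centralizer_iff.1 hzC _ hyQ
      have e1 : y * (g * z * g⁻¹) = g * ((g⁻¹ * y * g) * z) * g⁻¹ := by group
      have e2 : (g * z * g⁻¹) * y = g * (z * (g⁻¹ * y * g)) * g⁻¹ := by group
      rw [e1, e2, hcomm]
    apply eq_of_le_of_card_ge hle
    exact (Nat.card_congr (Z.equivMapOfInjective _ (MulAut.conj g).injective).toEquiv).le
  have hGrun := Cfsg.Agent.S0077.result P Z hZcent hW
  set N : Subgroup G := normalizer (Z : Set G) with hN
  have hPN : (P : Subgroup G) ≤ N := by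
    intro q hq
    rw [hN, mem_normalizer_iff]
    have hcomm : ∀ w ∈ Z, q * w * q⁻¹ = w := by
      intro w hw
      have := mem_centralizer_iff.1 (hZcent hw) q hq
      rw [this]; group
    intro z
    constructor
    · intro hz; rw [hcomm z hz]; exact hz
    · intro hz
      have h3 : q * (q * z * q⁻¹) * q⁻¹ = q * z * q⁻¹ := hcomm _ hz
      have h4 : q * z * q⁻¹ = z := by
        have : q * z * q⁻¹ = q⁻¹ * (q * (q * z * q⁻¹) * q⁻¹) * q := by group
        rw [this, h3]; group
      rw [← h4]; exact hz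
  have hPV : (P : Subgroup G) ≤ V := hPN.trans hV
  have hVidx : ¬ p ∣ V.index := fun h => P.not_dvd_index (h.trans (index_dvd_of_le hPV))
  -- `G' ∩ P ≤ V'`
  have hcomm_le : _root_.commutator G ⊓ (P : Subgroup G) ≤ (_root_.commutator V).map V.subtype := by
    rw [hGrun]
    refine inf_le_left.trans ?_
    rw [_root_.commutator, Subgroup.map_commutator, ← MonoidHom.range_eq_map, range_subtype]
    exact Subgroup.commutator_mono hV hV
  -- the hypothesis of Tate's theorem
  have hK2 : pResidual p G ≤ frattiniP p G := by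
    apply pResidual_le_of_forall_pow_mem
    intro g
    exact ⟨1, by rw [pow_one]; exact (le_sup_right : _ ≤ frattiniP p G) (subset_closure ⟨g, rfl⟩)⟩
  let PV : Sylow p V := P.subtype hPV
  have hPVcoe : (PV : Subgroup V) = (P : Subgroup G).subgroupOf V := Sylow.coe_subtype P hPV
  have hV2n : (frattiniP p V).Normal := frattiniP_normal
  have hquot : IsPGroup p (V ⧸ frattiniP p V) := by
    intro x
    induction x using QuotientGroup.induction_on with
    | H v =>
      refine ⟨1, ?_⟩
      rw [pow_one, ← QuotientGroup.mk_pow]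
      exact (QuotientGroup.eq_one_iff _).2
        ((le_sup_right : _ ≤ frattiniP p V) (subset_closure ⟨v, rfl⟩))
  have htop : (PV : Subgroup V) ⊔ frattiniP p V = ⊤ :=
    sup_eq_top_of_index_coprime PV.not_dvd_index hquot
  have hTate : (pResidual p G).subgroupOf V ≤ frattiniP p V := by
    intro v hv
    have hvK : (v : G) ∈ pResidual p G := mem_subgroupOf.1 hv
    have hv' : v ∈ (PV : Subgroup V) ⊔ frattiniP p V := htop ▸ mem_top v
    rw [mem_sup_of_normal_right] at hv'
    obtain ⟨y, hy, w, hw, rfl⟩ := hv'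
    have hyP : (y : G) ∈ (P : Subgroup G) := by
      rw [hPVcoe] at hy; exact mem_subgroupOf.1 hy
    have hwG : (w : G) ∈ frattiniP p G :=
      map_frattiniP_le (p := p) V.subtype (mem_map_of_mem V.subtype hw)
    have hyG : (y : G) ∈ frattiniP p G := by
      have : (y : G) = ((y * w : V) : G) * (w : G)⁻¹ := by
        rw [coe_mul]; group
      rw [this]
      exact mul_mem (hK2 hvK) (inv_mem hwG)
    obtain ⟨t, ht, htc⟩ := sylow_inf_frattiniP P hyP hyG
    have htp : (y : G) * (t ^ p)⁻¹ ∈ (P : Subgroup G) :=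
      mul_mem hyP (inv_mem (pow_mem ht p))
    obtain ⟨c, hc, hcy⟩ := hcomm_le ⟨htc, htp⟩
    have hyeq : y = c * (⟨t, hPV ht⟩ : V) ^ p := by
      apply Subtype.ext
      rw [coe_mul, coe_pow]
      change (y : G) = V.subtype c * t ^ p
      rw [hcy]; group
    refine mul_mem ?_ hw
    rw [hyeq]
    exact mul_mem ((le_sup_left : _ ≤ frattiniP p V) hc)
      ((le_sup_right : _ ≤ frattiniP p V) (subset_closure ⟨_, rfl⟩))
  have hmain := tate_general V hVidx hTate
  apply le_antisymm
  · rintro x ⟨hxP, hxK⟩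
    refine ⟨hxP, ?_⟩
    have : (⟨x, hPV hxP⟩ : V) ∈ (pResidual p G).subgroupOf V := mem_subgroupOf.2 hxK
    exact ⟨⟨x, hPV hxP⟩, hmain this, rfl⟩
  · refine inf_le_inf_left _ ?_
    rw [map_subtype_pResidual]
    unfold pResidual
    apply Subgroup.closure_mono
    intro x hx
    exact hx.2

end Cfsg.Agent.S0078
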