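import Cfsg.Statements.S0102
import Cfsg.Agent.Lib.Lead.Focal

set_option autoImplicit false
open Pointwise
open Cfsg

namespace Cfsg.Agent.S0102

/-- A finite perfect group with cyclic Sylow p-subgroups has no perfect central extension whose kernel has order divisible by p. -/
theorem result {G : Type*} {H : Type*} [Group G] [Group H] [Finite G] [Finite H] (hG : commutator G = ⊤) {p : ℕ} [Fact p.Prime] (hcyc : ∀ P : Sylow p G, IsCyclic P) (σ : H →* G) (hσ : Function.Surjective σ) (hz : σ.ker ≤ Subgroup.center H) (hH : commutator H = ⊤) : ¬ p ∣ Nat.card σ.ker := by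
  intro hdvd
  have hp : p.Prime := Fact.out
  -- an element of order p in the kernel
  obtain ⟨z, hzo⟩ := exists_prime_orderOf_dvd_card' p hdvd
  have hzo' : orderOf (z : H) = p := by rw [Subgroup.orderOf_coe]; exact hzo
  have hzker : (z : H) ∈ σ.ker := z.2
  have hzZ : (z : H) ∈ Subgroup.center H := hz hzker
  -- it lies in a Sylow p-subgroup Q of H
  have hpg : IsPGroup p (Subgroup.zpowers (z : H)) := by
    rw [IsPGroup.iff_card]
    exact ⟨1, by rw [Nat.card_zpowers, hzo', pow_one]⟩
  obtain ⟨Q, hQ⟩ := hpg.exists_le_sylow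
  have hzQ : (z : H) ∈ (Q : Subgroup H) := hQ (Subgroup.mem_zpowers _)
  -- Q is abelian: central extension of a cyclic group
  let f : (Q : Subgroup H) →* G := σ.comp (Q : Subgroup H).subtype
  have hfp : IsPGroup p f.range := by
    have : IsPGroup p (Q : Subgroup H) := Q.isPGroup'
    exact IsPGroup.of_surjective this f.rangeRestrict f.rangeRestrict_surjective
  obtain ⟨P, hP⟩ := hfp.exists_le_sylow
  haveI := hcyc P
  haveI : IsCyclic f.range := Subgroup.isCyclic_of_le hP
  have hker : f.rangeRestrict.ker ≤ Subgroup.center (Q : Subgroup H) := by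
    intro q hq
    rw [MonoidHom.ker_rangeRestrict, MonoidHom.mem_ker] at hq
    have hq' : (q : H) ∈ σ.ker := hq
    have hqZ := hz hq'
    rw [Subgroup.mem_center_iff]
    intro g
    apply Subtype.ext
    exact (Subgroup.mem_center_iff.1 hqZ) g
  have hcomm : IsMulCommutative (Q : Subgroup H) :=
    ⟨⟨fun a b => commutative_of_cyclic_center_quotient f.rangeRestrict hker a b⟩⟩
  have hHall : Nat.Coprime (Nat.card (Q : Subgroup H)) (Q : Subgroup H).index := Q.card_coprime_index
  have h1 := Cfsg.Agent.Lib.Lead.eq_one_of_mem_abelianHall_commutator_center (Q : Subgroup H) hHall hzQ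
    (hH ▸ Subgroup.mem_top _) hzZ
  rw [h1, orderOf_one] at hzo'
  exact hp.one_lt.ne hzo'

end Cfsg.Agent.S0102
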