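import Cfsg.Statements.S2617
import Mathlib

set_option autoImplicit false
open Cfsg

namespace Cfsg.Agent.S2617

open Finset

variable {F : Type*} [Field F] [Fintype F] [DecidableEq F]

/-- number of pairs `(x, y)` with `x ⬝ᵥ y = c` -/
def cnt (k : ℕ) (c : F) : ℕ :=
  (univ.filter (fun p : (Fin k → F) × (Fin k → F) => p.1 ⬝ᵥ p.2 = c)).card

theorem cnt_eq_one (k : ℕ) (c : F) (hc : c ≠ 0) : cnt k c = cnt k (1 : F) := by
  unfold cnt
  let e : (Fin k → F) × (Fin k → F) ≃ (Fin k → F) × (Fin k → F) :=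
    { toFun := fun p => (c⁻¹ • p.1, p.2)
      invFun := fun p => (c • p.1, p.2)
      left_inv := by
        intro p
        simp [smul_smul, hc]
      right_inv := by
        intro p
        simp [smul_smul, hc] }
  apply Finset.card_equiv e
  intro p
  simp only [mem_filter, mem_univ, true_and, e, Equiv.coe_fn_mk, smul_dotProduct, smul_eq_mul]
  constructor
  · intro h; rw [h, inv_mul_cancel₀ hc]
  · intro h
    have := congrArg (fun t => c * t) h
    simpa [← mul_assoc, hc] using this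

/-- number of `y` with `x ⬝ᵥ y = c` -/
def cnt1 (k : ℕ) (x : Fin k → F) (c : F) : ℕ := (univ.filter (fun y : Fin k → F => x ⬝ᵥ y = c)).card

theorem cnt_eq_sum (k : ℕ) (c : F) : cnt k c = ∑ x : Fin k → F, cnt1 k x c := by
  unfold cnt cnt1
  simp only [Finset.card_filter]
  rw [Fintype.sum_prod_type]

theorem cnt1_zero_eq (k : ℕ) (x : Fin k → F) :
    cnt1 k x 0 = cnt1 k x 1 + if x = 0 then Fintype.card F ^ k else 0 := by
  unfold cnt1
  by_cases hx : x = 0
  · subst hx
    simp [zero_dotProduct]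
  · simp only [hx, if_false, add_zero]
    -- translation by a vector `y0` with `x ⬝ᵥ y0 = 1`
    obtain ⟨i, hi⟩ : ∃ i, x i ≠ 0 := by
      by_contra hcon
      push Not at hcon
      exact hx (funext hcon)
    let y0 : Fin k → F := Pi.single i (x i)⁻¹
    have hy0 : x ⬝ᵥ y0 = 1 := by
      simp [y0, dotProduct_single, hi]
    let e : (Fin k → F) ≃ (Fin k → F) := Equiv.addRight y0
    apply Finset.card_equiv e
    intro y
    simp only [mem_filter, mem_univ, true_and, e, Equiv.coe_addRight, dotProduct_add, hy0]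
    constructor
    · intro h; rw [h, zero_add]
    · intro h
      have := congrArg (fun t => t - 1) h
      simpa using this

theorem cnt_zero_eq (k : ℕ) : cnt k (0 : F) = cnt k (1 : F) + Fintype.card F ^ k := by
  rw [cnt_eq_sum, cnt_eq_sum]
  simp only [cnt1_zero_eq, Finset.sum_add_distrib, Finset.sum_ite_eq', mem_univ, if_true]

/-- general count of zeros of `x ⬝ᵥ y + φ t` -/
theorem count_general (k : ℕ) {X : Type*} [Fintype X] (φ : X → F) :
    (univ.filter (fun p : ((Fin k → F) × (Fin k → F)) × X => p.1.1 ⬝ᵥ p.1.2 + φ p.2 = 0)).card =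
      (univ.filter (fun t : X => φ t = 0)).card * cnt k (0 : F) +
        (univ.filter (fun t : X => φ t ≠ 0)).card * cnt k (1 : F) := by
  rw [Finset.card_filter, Fintype.sum_prod_type, Finset.sum_comm]
  have h1 : ∀ t : X, (∑ p : (Fin k → F) × (Fin k → F), if p.1 ⬝ᵥ p.2 + φ t = 0 then 1 else 0) =
      if φ t = 0 then cnt k (0 : F) else cnt k (1 : F) := by
    intro t
    have h2 : (∑ p : (Fin k → F) × (Fin k → F), if p.1 ⬝ᵥ p.2 + φ t = 0 then 1 else 0) = cnt k (-φ t) := by
      unfold cnt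
      rw [Finset.card_filter]
      refine Finset.sum_congr rfl fun p _ => ?_
      simp only [add_eq_zero_iff_eq_neg]
    rw [h2]
    by_cases ht : φ t = 0
    · simp [ht]
    · simp only [ht, if_false]
      exact cnt_eq_one k _ (neg_ne_zero.mpr ht)
  simp only [h1]
  rw [Finset.sum_ite, Finset.sum_const, Finset.sum_const, smul_eq_mul, smul_eq_mul]

/-- zeros of `a * b` on `F × F` -/
theorem zeros_mul : (univ.filter (fun t : F × F => t.1 * t.2 = 0)).card + 1 = 2 * Fintype.card F := by
  rw [Finset.card_filter, Fintype.sum_prod_type]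
  have h1 : ∀ a : F, (∑ b : F, if a * b = 0 then 1 else 0) = 1 + if a = 0 then (Fintype.card F - 1) else 0 := by
    intro a
    by_cases ha : a = 0
    · subst ha
      have : 1 ≤ Fintype.card F := Fintype.card_pos
      simp
      omega
    · simp [ha]
  simp only [h1, Finset.sum_add_distrib, Finset.sum_ite_eq', mem_univ, if_true, Finset.sum_const,
    Finset.card_univ, smul_eq_mul, mul_one]
  have : 1 ≤ Fintype.card F := Fintype.card_pos
  omega

/-- zeros of the anisotropic binary form -/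
theorem zeros_aniso (ζ : F) (hζ : ∀ t : F, t ^ 2 + t + ζ ≠ 0) :
    (univ.filter (fun z : Fin 2 → F => z 0 ^ 2 + 1 * z 0 * z 1 + ζ * z 1 ^ 2 = 0)).card = 1 := by
  rw [Finset.card_eq_one]
  refine ⟨0, ?_⟩
  ext z
  simp only [mem_filter, mem_univ, true_and, mem_singleton]
  constructor
  · intro h
    have hz1 : z 1 = 0 := by
      by_contra hne
      apply hζ (z 0 / z 1)
      field_simp
      linear_combination h
    rw [hz1] at h
    have hz0 : z 0 = 0 := by
      simpa using h
    funext i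
    fin_cases i
    · exact hz0
    · exact hz1
  · rintro rfl
    simp

/-- the coordinate bijection for the plus form -/
def ePlus (k : ℕ) : (Fin (k + 1) ⊕ Fin (k + 1) → F) ≃ ((Fin k → F) × (Fin k → F)) × (F × F) where
  toFun v := ((fun i => v (Sum.inl i.succ), fun i => v (Sum.inr i.succ)), (v (Sum.inl 0), v (Sum.inr 0)))
  invFun p := Sum.elim (Fin.cons p.2.1 p.1.1) (Fin.cons p.2.2 p.1.2)
  left_inv v := by
    funext j
    rcases j with j | j
    · refine Fin.cases ?_ (fun i => ?_) j <;> simp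
    · refine Fin.cases ?_ (fun i => ?_) j <;> simp
  right_inv p := by
    simp

/-- the coordinate bijection for the minus form -/
def eMinus (k : ℕ) : ((Fin k ⊕ Fin k) ⊕ Fin 2 → F) ≃ ((Fin k → F) × (Fin k → F)) × (Fin 2 → F) where
  toFun w := ((fun i => w (Sum.inl (Sum.inl i)), fun i => w (Sum.inl (Sum.inr i))), fun j => w (Sum.inr j))
  invFun p := Sum.elim (Sum.elim p.1.1 p.1.2) p.2
  left_inv w := by
    funext j
    rcases j with (j | j) | j <;> simp
  right_inv p := by
    simp

theorem card_plus (k : ℕ) :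
    (univ.filter (fun v : Fin (k + 1) ⊕ Fin (k + 1) → F => Cfsg.quadFormPlus (k + 1) F v = 0)).card =
    (univ.filter (fun p : ((Fin k → F) × (Fin k → F)) × (F × F) =>
      p.1.1 ⬝ᵥ p.1.2 + (fun t : F × F => t.1 * t.2) p.2 = 0)).card := by
  apply Finset.card_equiv (ePlus k)
  intro v
  rw [mem_filter, mem_filter]
  simp only [mem_univ, true_and, ePlus, Equiv.coe_fn_mk, Cfsg.quadFormPlus, dotProduct,
    Fin.sum_univ_succ]
  rw [add_comm]

theorem card_minus (k : ℕ) (ζ : F) :
    (univ.filter (fun w : (Fin k ⊕ Fin k) ⊕ Fin 2 → F => Cfsg.quadFormMinus k F 1 ζ w = 0)).card =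
    (univ.filter (fun p : ((Fin k → F) × (Fin k → F)) × (Fin 2 → F) =>
      p.1.1 ⬝ᵥ p.1.2 + (fun z : Fin 2 → F => z 0 ^ 2 + 1 * z 0 * z 1 + ζ * z 1 ^ 2) p.2 = 0)).card := by
  apply Finset.card_equiv (eMinus k)
  intro v
  rw [mem_filter, mem_filter]
  simp only [mem_univ, true_and, eMinus, Equiv.coe_fn_mk, Cfsg.quadFormMinus, dotProduct]

theorem main_count (k : ℕ) (ζ : F) (hζ : ∀ t : F, t ^ 2 + t + ζ ≠ 0) :
    (univ.filter (fun v : Fin (k + 1) ⊕ Fin (k + 1) → F => Cfsg.quadFormPlus (k + 1) F v = 0)).card ≠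
    (univ.filter (fun w : (Fin k ⊕ Fin k) ⊕ Fin 2 → F => Cfsg.quadFormMinus k F 1 ζ w = 0)).card := by
  rw [card_plus, card_minus, count_general k (fun t : F × F => t.1 * t.2),
    count_general k (fun z : Fin 2 → F => z 0 ^ 2 + 1 * z 0 * z 1 + ζ * z 1 ^ 2), zeros_aniso ζ hζ, cnt_zero_eq]
  have hz := zeros_mul (F := F)
  have hs1 := Finset.card_filter_add_card_filter_not (s := (univ : Finset (F × F))) (fun t : F × F => t.1 * t.2 = 0)
  have hs2 := Finset.card_filter_add_card_filter_not (s := (univ : Finset (Fin 2 → F)))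
    (fun z : Fin 2 → F => z 0 ^ 2 + 1 * z 0 * z 1 + ζ * z 1 ^ 2 = 0)
  rw [zeros_aniso ζ hζ] at hs2
  simp only [Finset.card_univ, Fintype.card_prod, Fintype.card_fun, Fintype.card_fin] at hs1 hs2
  have hq : 2 ≤ Fintype.card F := Fintype.one_lt_card
  set q := Fintype.card F with hq'
  set zp := (univ.filter (fun t : F × F => t.1 * t.2 = 0)).card with hzp
  set nzp := (univ.filter (fun t : F × F => ¬ t.1 * t.2 = 0)).card with hnzp
  set nzm := (univ.filter (fun z : Fin 2 → F => ¬ z 0 ^ 2 + 1 * z 0 * z 1 + ζ * z 1 ^ 2 = 0)).card with hnzm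
  set a1 := cnt k (1 : F) with ha1
  have hpow : 0 < q ^ k := by positivity
  intro h
  -- zp = 2q - 1, nzp = q² - zp, nzm = q² - 1
  have h1 : zp = 1 + (2 * q - 2) := by omega
  have h2 : nzm = nzp + (2 * q - 2) := by
    have : q ^ 2 = q * q := sq q
    omega
  rw [h1, h2] at h
  have : (2 * q - 2) * q ^ k = 0 := by nlinarith
  have h3 : 0 < (2 * q - 2) * q ^ k := Nat.mul_pos (by omega) hpow
  omega

/-- The two standard quadratic forms of even dimension 2m over a finite field are not isometric: there is no linear isomorphism carrying the elliptic form Σ_(i<m−1) x_i y_i + z₁² + z₁z₂ + ζ z₂² (t² + t + ζ without roots) to the hyperbolic form Σ_(i<m) x_i y_i (they have different Witt index). -/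
theorem result {F : Type*} [Field F] [Finite F] {m : ℕ} (hm : 1 ≤ m) (ζ : F) (hζ : ∀ t : F, t ^ 2 + t + ζ ≠ 0) (g : (Fin m ⊕ Fin m → F) ≃ₗ[F] ((Fin (m - 1) ⊕ Fin (m - 1)) ⊕ Fin 2 → F)) : ¬ (∀ v : Fin m ⊕ Fin m → F, Cfsg.quadFormMinus (m - 1) F 1 ζ (g v) = Cfsg.quadFormPlus m F v) := by
  classical
  cases nonempty_fintype F
  obtain ⟨k, rfl⟩ : ∃ k, m = k + 1 := ⟨m - 1, by omega⟩
  intro h
  apply main_count k ζ hζ
  apply Finset.card_equiv (show (Fin (k + 1) ⊕ Fin (k + 1) → F) ≃ ((Fin k ⊕ Fin k) ⊕ Fin 2 → F) from g.toEquiv)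
  intro v
  simp only [mem_filter, mem_univ, true_and]
  rw [← h v]
  rfl

end Cfsg.Agent.S2617
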