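import Cfsg.Statements.S0713
import Mathlib

set_option autoImplicit false
open Cfsg

namespace Cfsg.Agent.S0713

open MulAction Equiv.Perm Equiv
open scoped Pointwise commutatorElement

set_option linter.unusedSectionVars false

section
variable {α : Type*} [Fintype α] [DecidableEq α]

theorem multiTrans (G : Subgroup (Equiv.Perm α)) (hG : MulAction.IsPreprimitive G α) {p : ℕ} (hp : p.Prime)
    (hpn : p + 3 ≤ Fintype.card α) {g : Equiv.Perm α} (hgc : g.IsCycle) (hgp : g.support.card = p)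
    (hg : g ∈ G) : MulAction.IsMultiplyPretransitive G α (Fintype.card α - p) := by
  classical
  obtain ⟨m, hm⟩ : ∃ m, Fintype.card α = p + m + 3 := ⟨Fintype.card α - p - 3, by omega⟩
  have hsc : Set.ncard ((g.support)ᶜ : Set α) = (m + 2) + 1 := by
    apply Nat.add_left_cancel
    rw [Set.ncard_add_ncard_compl, Set.ncard_coe_finset, hgp, Nat.card_eq_fintype_card, hm]
    ring
  have hprim : IsPreprimitive (fixingSubgroup G ((g.support : Set α)ᶜ))
      (SubMulAction.ofFixingSubgroup G ((g.support : Set α)ᶜ)) := by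
    have := Equiv.Perm.isPretransitive_of_isCycle_mem hgc hg
    apply IsPreprimitive.of_prime_card
    convert hp
    rw [Nat.card_eq_fintype_card, Fintype.card_subtype, ← hgp]
    congr 1
    ext x
    simp [SubMulAction.mem_ofFixingSubgroup_iff]
  have h1 : IsMultiplyPreprimitive G α ((m + 2) + 2) := by
    apply hG.isMultiplyPreprimitive hsc _ hprim
    rw [Nat.card_eq_fintype_card, hm]
    have := hp.two_le
    omega
  haveI : IsMultiplyPretransitive G α ((m + 2) + 2) := inferInstance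
  have h2 : Fintype.card α - p = m + 3 := by omega
  rw [h2]
  apply isMultiplyPretransitive_of_le (n := (m + 2) + 2) (by omega)
  rw [Nat.card_eq_fintype_card, hm]
  have := hp.two_le
  omega

theorem induce (G : Subgroup (Equiv.Perm α)) (Δ : Finset α) {k : ℕ} (hk : Δ.card = k)
    (hmt : MulAction.IsMultiplyPretransitive G α k) (σ : Equiv.Perm α) :
    ∃ h ∈ G, ∀ a ∈ Δ, h a = σ a := by
  let e₀ : Fin k ≃ ↥Δ := (Finset.equivFinOfCardEq hk).symm
  let e : Fin k ↪ α := e₀.toEmbedding.trans (Function.Embedding.subtype _)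
  let e' : Fin k ↪ α := e.trans σ.toEmbedding
  obtain ⟨h, hh⟩ := hmt.exists_smul_eq e e'
  refine ⟨h, h.2, ?_⟩
  intro a ha
  obtain ⟨i, hi⟩ := e₀.surjective ⟨a, ha⟩
  have h1 : e i = a := by
    change ((e₀ i : ↥Δ) : α) = a
    rw [hi]
  have h2 := congrArg (fun f : Fin k ↪ α => f i) hh
  simp only [Function.Embedding.smul_apply] at h2
  rw [h1] at h2
  change (h : Equiv.Perm α) a = _ at h2
  rw [h2]
  change σ (e i) = σ a
  rw [h1]

/-- pointwise stabiliser in `G` of the fixed points of `g` -/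
def Kgrp (G : Subgroup (Equiv.Perm α)) (g : Equiv.Perm α) : Subgroup (Equiv.Perm α) where
  carrier := {k | k ∈ G ∧ ∀ a, a ∉ g.support → k a = a}
  mul_mem' := by
    rintro x y ⟨hx, hx'⟩ ⟨hy, hy'⟩
    refine ⟨G.mul_mem hx hy, fun a ha => ?_⟩
    rw [Equiv.Perm.mul_apply, hy' a ha, hx' a ha]
  one_mem' := ⟨G.one_mem, fun a _ => rfl⟩
  inv_mem' := by
    rintro x ⟨hx, hx'⟩
    refine ⟨G.inv_mem hx, fun a ha => ?_⟩
    rw [Equiv.Perm.inv_eq_iff_eq, hx' a ha]

theorem Kgrp_preserve (G : Subgroup (Equiv.Perm α)) (g : Equiv.Perm α) (k : Equiv.Perm α)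
    (hk : k ∈ Kgrp G g) (x : α) : x ∈ g.support ↔ k x ∈ g.support := by
  constructor
  · intro hx
    by_contra hkx
    rw [Equiv.Perm.mem_support] at hx
    apply hx
    have h1 := hk.2 (k x) hkx
    have h2 : k x = x := k.injective h1
    by_contra hgx
    exact hkx (by rw [h2]; exact Equiv.Perm.mem_support.mpr hgx)
  · intro hkx
    by_contra hx
    rw [hk.2 x hx] at hkx
    exact hx hkx

theorem factorization_factorial_self {p : ℕ} (hp : p.Prime) : (p.factorial).factorization p = 1 := by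
  obtain ⟨m, rfl⟩ : ∃ m, p = m + 1 := ⟨p - 1, by have := hp.one_lt; omega⟩
  rw [Nat.factorial_succ, Nat.factorization_mul (by omega) (Nat.factorial_ne_zero m)]
  simp only [Finsupp.coe_add, Pi.add_apply]
  rw [hp.factorization_self, Nat.factorization_eq_zero_of_not_dvd]
  rw [hp.dvd_factorial]
  omega

theorem card_Kgrp_dvd (G : Subgroup (Equiv.Perm α)) (g : Equiv.Perm α) :
    Nat.card (Kgrp G g) ∣ (g.support.card).factorial := by
  let f : Kgrp G g →* Equiv.Perm ↥g.support :=
    { toFun := fun k => Equiv.Perm.subtypePerm (k : Equiv.Perm α)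
        (fun x => (Kgrp_preserve G g k k.2 x).symm)
      map_one' := by ext; simp
      map_mul' := by intro x y; ext; rfl }
  have hf : Function.Injective f := by
    intro x y hxy
    apply Subtype.ext
    ext a
    by_cases ha : a ∈ g.support
    · have := congrArg (fun s : Equiv.Perm ↥g.support => ((s ⟨a, ha⟩ : ↥g.support) : α)) hxy
      simpa [f] using this
    · rw [x.2.2 a ha, y.2.2 a ha]
  have := Subgroup.card_dvd_of_injective f hf
  rw [Nat.card_perm] at this
  have h2 : Nat.card ↥g.support = g.support.card := by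
    rw [Nat.card_eq_fintype_card, Fintype.card_coe]
  rwa [h2] at this
theorem witt_step (G : Subgroup (Equiv.Perm α)) {p : ℕ} (hp : p.Prime) {g : Equiv.Perm α} (hgc : g.IsCycle)
    (hgp : g.support.card = p) (hg : g ∈ G) (h : Equiv.Perm α) (hh : h ∈ G)
    (hpres : ∀ a, a ∈ g.support ↔ h a ∈ g.support) :
    ∃ k ∈ Kgrp G g, (k * h) * g * (k * h)⁻¹ ∈ Subgroup.zpowers g := by
  classical
  haveI : Fact p.Prime := ⟨hp⟩
  set K := Kgrp G g with hK
  have hgK : g ∈ K := ⟨hg, fun a ha => Equiv.Perm.notMem_support.mp ha⟩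
  have hg'K : h * g * h⁻¹ ∈ K := by
    refine ⟨G.mul_mem (G.mul_mem hh hg) (G.inv_mem hh), fun a ha => ?_⟩
    have h1 : h⁻¹ a ∉ g.support := by
      intro hc
      apply ha
      have := (hpres (h⁻¹ a)).mp hc
      simpa using this
    simp only [Equiv.Perm.mul_apply]
    rw [Equiv.Perm.notMem_support.mp h1]
    simp
  have hord : orderOf g = p := by rw [hgc.orderOf, hgp]
  have hord' : orderOf (h * g * h⁻¹) = p := by
    have : h * g * h⁻¹ = MulAut.conj h g := by simp [MulAut.conj_apply]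
    rw [this, MulEquiv.orderOf_eq, hord]
  have hcardpos : Nat.card K ≠ 0 := Nat.card_pos.ne'
  have hfac : (Nat.card K).factorization p = 1 := by
    apply le_antisymm
    · have hdvd := card_Kgrp_dvd G g
      rw [hgp] at hdvd
      have := (Nat.factorization_le_iff_dvd hcardpos (Nat.factorial_ne_zero p)).mpr hdvd p
      rwa [factorization_factorial_self hp] at this
    · have : p ∣ Nat.card K := by
        have h1 : orderOf (⟨g, hgK⟩ : K) = p := by
          rw [← hord]; exact Subgroup.orderOf_mk g hgK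
        rw [← h1]
        exact orderOf_dvd_natCard _
      exact Nat.Prime.factorization_pos_of_dvd hp hcardpos this
  let gK : K := ⟨g, hgK⟩
  let g'K : K := ⟨h * g * h⁻¹, hg'K⟩
  have hc1 : Nat.card (Subgroup.zpowers gK) = p ^ (Nat.card K).factorization p := by
    rw [hfac, pow_one, Nat.card_zpowers, Subgroup.orderOf_mk, hord]
  have hc2 : Nat.card (Subgroup.zpowers g'K) = p ^ (Nat.card K).factorization p := by
    rw [hfac, pow_one, Nat.card_zpowers, Subgroup.orderOf_mk, hord']
  let SP : Sylow p K := Sylow.ofCard (Subgroup.zpowers gK) hc1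
  let SQ : Sylow p K := Sylow.ofCard (Subgroup.zpowers g'K) hc2
  obtain ⟨k, hk⟩ := MulAction.exists_smul_eq K SQ SP
  refine ⟨k, k.2, ?_⟩
  have h1 : g'K ∈ (SQ : Subgroup K) := Subgroup.mem_zpowers g'K
  have h2 : MulAut.conj k • g'K ∈ MulAut.conj k • (SQ : Subgroup K) :=
    Subgroup.smul_mem_pointwise_smul _ _ _ h1
  rw [← Sylow.coe_subgroup_smul, hk] at h2
  change MulAut.conj k • g'K ∈ Subgroup.zpowers gK at h2
  obtain ⟨n, hn⟩ := Subgroup.mem_zpowers_iff.mp h2
  refine Subgroup.mem_zpowers_iff.mpr ⟨n, ?_⟩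
  have h3 := congrArg (fun x : K => (x : Equiv.Perm α)) hn
  simp only [Subgroup.coe_zpow, MulAut.smul_def, MulAut.conj_apply, Subgroup.coe_mul, Subgroup.coe_inv] at h3
  rw [h3]
  change (k : Equiv.Perm α) * (h * g * h⁻¹) * (k : Equiv.Perm α)⁻¹ = _
  simp [mul_assoc]

theorem mem_normalizer_zpowers (u g : Equiv.Perm α) (h : u * g * u⁻¹ ∈ Subgroup.zpowers g) :
    u ∈ Subgroup.normalizer (Subgroup.zpowers g : Set (Equiv.Perm α)) := by
  have hfwd : ∀ x ∈ Subgroup.zpowers g, u * x * u⁻¹ ∈ Subgroup.zpowers g := by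
    intro x hx
    obtain ⟨n, rfl⟩ := Subgroup.mem_zpowers_iff.mp hx
    rw [← conj_zpow]
    exact Subgroup.zpow_mem _ h n
  rw [Subgroup.mem_normalizer_iff]
  intro x
  refine ⟨hfwd x, fun hx => ?_⟩
  let φ : Subgroup.zpowers g → Subgroup.zpowers g := fun y => ⟨u * y * u⁻¹, hfwd y y.2⟩
  have hinj : Function.Injective φ := by
    intro a b hab
    have := congrArg Subtype.val hab
    simp only [φ, mul_left_inj, mul_right_inj] at this
    exact Subtype.ext this
  have hsurj := Finite.injective_iff_surjective.mp hinj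
  obtain ⟨y, hy⟩ := hsurj ⟨u * x * u⁻¹, hx⟩
  have := congrArg Subtype.val hy
  simp only [φ, mul_left_inj, mul_right_inj] at this
  rw [← this]
  exact y.2

theorem commute_commutator (u v g : Equiv.Perm α)
    (hu : u ∈ Subgroup.normalizer (Subgroup.zpowers g : Set (Equiv.Perm α)))
    (hv : v ∈ Subgroup.normalizer (Subgroup.zpowers g : Set (Equiv.Perm α))) :
    Commute ⁅u, v⁆ g := by
  set P := Subgroup.zpowers g with hP
  let φ := P.normalizerMonoidHom
  let e := IsCyclic.mulAutMulEquiv (↥P)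
  have hcomm : ∀ a b : MulAut ↥P, a * b = b * a := by
    intro a b
    apply e.injective
    rw [map_mul, map_mul, mul_comm]
  let u' : Subgroup.normalizer (P : Set (Equiv.Perm α)) := ⟨u, hu⟩
  let v' : Subgroup.normalizer (P : Set (Equiv.Perm α)) := ⟨v, hv⟩
  have h1 : φ ⁅u', v'⁆ = 1 := by
    rw [map_commutatorElement, commutatorElement_eq_one_iff_mul_comm]
    exact hcomm _ _
  have h2 : ⁅u', v'⁆ ∈ φ.ker := h1
  rw [Subgroup.normalizerMonoidHom_ker, Subgroup.mem_subgroupOf] at h2
  have h3 : ⁅u, v⁆ ∈ Subgroup.centralizer (P : Set (Equiv.Perm α)) := h2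
  have := h3 g (Subgroup.mem_zpowers g)
  exact this.symm

theorem pres_of_fix (g σ : Equiv.Perm α) (hσ : ∀ a ∈ g.support, σ a = a) :
    ∀ a, a ∈ g.support ↔ σ a ∈ g.support := by
  intro a
  constructor
  · intro ha
    rw [hσ a ha]; exact ha
  · intro ha
    have h1 := hσ _ ha
    have h2 : σ a = a := σ.injective h1
    rwa [h2] at ha

theorem pres_mul (g σ τ : Equiv.Perm α) (hσ : ∀ a, a ∈ g.support ↔ σ a ∈ g.support)
    (hτ : ∀ a, a ∈ g.support ↔ τ a ∈ g.support) : ∀ a, a ∈ g.support ↔ (σ * τ) a ∈ g.support := by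
  intro a
  rw [Equiv.Perm.mul_apply, ← hσ, ← hτ]

theorem pres_inv (g σ : Equiv.Perm α) (hσ : ∀ a, a ∈ g.support ↔ σ a ∈ g.support) :
    ∀ a, a ∈ g.support ↔ σ⁻¹ a ∈ g.support := by
  intro a
  rw [hσ (σ⁻¹ a)]
  simp

theorem agree_mul (g u v σ τ : Equiv.Perm α) (hu : ∀ a, a ∉ g.support → u a = σ a)
    (hv : ∀ a, a ∉ g.support → v a = τ a) (hτ : ∀ a, a ∈ g.support ↔ τ a ∈ g.support) :
    ∀ a, a ∉ g.support → (u * v) a = (σ * τ) a := by
  intro a ha
  rw [Equiv.Perm.mul_apply, Equiv.Perm.mul_apply, hv a ha]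
  apply hu
  rwa [← hτ]

theorem agree_inv (g u σ : Equiv.Perm α) (hu : ∀ a, a ∉ g.support → u a = σ a)
    (hσ : ∀ a, a ∈ g.support ↔ σ a ∈ g.support) :
    ∀ a, a ∉ g.support → u⁻¹ a = σ⁻¹ a := by
  intro a ha
  have hb : σ⁻¹ a ∉ g.support := by
    rw [← pres_inv g σ hσ]; exact ha
  rw [Equiv.Perm.inv_eq_iff_eq, hu _ hb]
  simp

/-- an element of `G` normalising `⟨g⟩` and inducing `σ` on the fixed points of `g` -/
theorem exists_normalizing (G : Subgroup (Equiv.Perm α)) {p : ℕ} (hp : p.Prime) {g : Equiv.Perm α}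
    (hgc : g.IsCycle) (hgp : g.support.card = p) (hg : g ∈ G)
    (hmt : MulAction.IsMultiplyPretransitive G α (Fintype.card α - p))
    (σ : Equiv.Perm α) (hσ : ∀ a ∈ g.support, σ a = a) :
    ∃ u ∈ G, u ∈ Subgroup.normalizer (Subgroup.zpowers g : Set (Equiv.Perm α)) ∧
      ∀ a, a ∉ g.support → u a = σ a := by
  have hσp := pres_of_fix g σ hσ
  have hΔ : (g.supportᶜ).card = Fintype.card α - p := by
    rw [Finset.card_compl, hgp]
  obtain ⟨h, hh, hag⟩ := induce G (g.supportᶜ) hΔ hmt σ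
  have hag' : ∀ a, a ∉ g.support → h a = σ a := fun a ha => hag a (Finset.mem_compl.mpr ha)
  have himg : (g.supportᶜ).image h = g.supportᶜ := by
    apply Finset.eq_of_subset_of_card_le
    · intro b hb
      obtain ⟨a, ha, rfl⟩ := Finset.mem_image.mp hb
      rw [Finset.mem_compl] at ha ⊢
      rw [hag' a ha, ← hσp]
      exact ha
    · rw [Finset.card_image_of_injective _ h.injective]
  have hpres : ∀ a, a ∈ g.support ↔ h a ∈ g.support := by
    intro a
    constructor
    · intro ha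
      by_contra hha
      have : h a ∈ (g.supportᶜ).image h := by
        rw [himg]; exact Finset.mem_compl.mpr hha
      obtain ⟨b, hb, hba⟩ := Finset.mem_image.mp this
      have := h.injective hba
      rw [this] at hb
      exact (Finset.mem_compl.mp hb) ha
    · intro hha
      by_contra ha
      apply (hσp a).not.mp ha
      rw [← hag' a ha]
      exact hha
  obtain ⟨k, hk, hconj⟩ := witt_step G hp hgc hgp hg h hh hpres
  refine ⟨k * h, G.mul_mem hk.1 hh, mem_normalizer_zpowers _ _ hconj, ?_⟩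
  intro a ha
  rw [Equiv.Perm.mul_apply, hag' a ha]
  apply hk.2
  rw [← hσp]
  exact ha

end

theorem result {α : Type*} [Fintype α] [DecidableEq α] (G : Subgroup (Equiv.Perm α)) (hG : MulAction.IsPreprimitive G α) {p : ℕ} (hp : p.Prime) (hn : 5 ≤ Fintype.card α) (hpn : p + 3 ≤ Fintype.card α) {g : Equiv.Perm α} (hgc : g.IsCycle) (hgp : g.support.card = p) (hg : g ∈ G) : alternatingGroup α ≤ G := by
  classical
  have hmt := multiTrans G hG hp hpn hgc hgp hg
  -- three fixed points of g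
  have hΔ : 3 ≤ (g.supportᶜ).card := by
    rw [Finset.card_compl, hgp]; omega
  obtain ⟨T, hT, hT3⟩ := Finset.exists_subset_card_eq hΔ
  obtain ⟨x, y, z, hxy, hxz, hyz, rfl⟩ := Finset.card_eq_three.mp hT3
  have hx : x ∉ g.support := Finset.mem_compl.mp (hT (by simp))
  have hy : y ∉ g.support := Finset.mem_compl.mp (hT (by simp))
  have hz : z ∉ g.support := Finset.mem_compl.mp (hT (by simp))
  have hfix : ∀ b c : α, b ∉ g.support → c ∉ g.support → ∀ a ∈ g.support, Equiv.swap b c a = a := by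
    intro b c hb hc a ha
    apply Equiv.swap_apply_of_ne_of_ne
    · rintro rfl; exact hb ha
    · rintro rfl; exact hc ha
  set σ₁ := Equiv.swap x y with hσ₁
  set σ₂ := Equiv.swap x z with hσ₂
  have hp₁ := pres_of_fix g σ₁ (hfix x y hx hy)
  have hp₂ := pres_of_fix g σ₂ (hfix x z hx hz)
  obtain ⟨u, huG, huN, hua⟩ := exists_normalizing G hp hgc hgp hg hmt σ₁ (hfix x y hx hy)
  obtain ⟨v, hvG, hvN, hva⟩ := exists_normalizing G hp hgc hgp hg hmt σ₂ (hfix x z hx hz)
  set t := ⁅u, v⁆ with ht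
  have htG : t ∈ G := by
    rw [ht, commutatorElement_def]
    exact G.mul_mem (G.mul_mem (G.mul_mem huG hvG) (G.inv_mem huG)) (G.inv_mem hvG)
  have htc := commute_commutator u v g huN hvN
  set c := σ₁ * σ₂ * σ₁⁻¹ * σ₂⁻¹ with hc
  have hta : ∀ a, a ∉ g.support → t a = c a := by
    rw [ht, commutatorElement_def, hc]
    apply agree_mul g _ _ _ _ _ (agree_inv g v σ₂ hva hp₂) (pres_inv g σ₂ hp₂)
    apply agree_mul g _ _ _ _ _ (agree_inv g u σ₁ hua hp₁) (pres_inv g σ₁ hp₁)
    exact agree_mul g _ _ _ _ hua hva hp₂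
  obtain ⟨hc', hmem⟩ := (hgc.commute_iff).mp htc
  obtain ⟨i, hi⟩ := Subgroup.mem_zpowers_iff.mp hmem
  have hts : ∀ a ∈ g.support, t a = (g ^ i) a := by
    intro a ha
    rw [hi, Equiv.Perm.ofSubtype_apply_of_mem _ ha]
    rfl
  have hw : t * (g ^ i)⁻¹ = c := by
    ext a
    rw [Equiv.Perm.mul_apply]
    by_cases ha : a ∈ g.support
    · have h1 : (g ^ i)⁻¹ a ∈ g.support := by
        rw [← zpow_neg, Equiv.Perm.zpow_apply_mem_support]; exact ha
      rw [hts _ h1]
      have hca : c a = a := by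
        rw [hc]
        simp only [Equiv.Perm.mul_apply, Equiv.swap_inv, hσ₁, hσ₂]
        rw [hfix x z hx hz a ha, hfix x y hx hy a ha, hfix x z hx hz a ha, hfix x y hx hy a ha]
      rw [hca]
      simp
    · have h1 : (g ^ i)⁻¹ a = a := by
        rw [← zpow_neg]
        exact Equiv.Perm.zpow_apply_eq_self_of_apply_eq_self (Equiv.Perm.notMem_support.mp ha) _
      rw [h1, hta a ha]
  have hwG : c ∈ G := by
    rw [← hw]
    exact G.mul_mem htG (G.inv_mem (G.zpow_mem hg i))
  have h3 : Equiv.Perm.IsThreeCycle c := by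
    have h1 : Equiv.Perm.IsThreeCycle (σ₁ * σ₂) := Equiv.Perm.isThreeCycle_swap_mul_swap_same hxy hxz hyz
    have h2 : c = (σ₁ * σ₂) * (σ₁ * σ₂) := by
      rw [hc, hσ₁, hσ₂, Equiv.swap_inv, Equiv.swap_inv]
      simp only [mul_assoc]
    rw [h2]
    exact h1.isThreeCycle_sq
  exact Equiv.Perm.alternatingGroup_le_of_isPreprimitive_of_isThreeCycle_mem hG h3 hwG

end Cfsg.Agent.S0713
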