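import Cfsg.Statements.S0801
import Cfsg.Agent.Lib.Helper15.Dk9

set_option autoImplicit false
open Cfsg

namespace Cfsg.Agent.S0801

open Cfsg.Agent.Lib.Helper15 Cfsg.Agent.Lib.Helper15.Dk Cfsg.Agent.Lib.Helper14 in
/-- Let F be a finite field of odd characteristic and λ ≠ 0 an element generating F as a field. Then the lower and upper unitriangular matrices with off-diagonal entries 1 and λ generate SL_2(F), unless |F| = 9 and λ² = −1, in which case they generate a subgroup of order 120. -/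
theorem result {F : Type*} [Field F] [Fintype F] (h2 : (2 : F) ≠ 0) (lam : F) (hlam : lam ≠ 0) (hgen : Subfield.closure ({lam} : Set F) = ⊤) : (Subgroup.closure {g : Matrix.SpecialLinearGroup (Fin 2) F | (g : Matrix (Fin 2) (Fin 2) F) = !![1, 0; 1, 1] ∨ (g : Matrix (Fin 2) (Fin 2) F) = !![1, lam; 0, 1]} = ⊤ ∧ ¬ (Fintype.card F = 9 ∧ lam ^ 2 = -1)) ∨ (Fintype.card F = 9 ∧ lam ^ 2 = -1 ∧ Nat.card ↥(Subgroup.closure {g : Matrix.SpecialLinearGroup (Fin 2) F | (g : Matrix (Fin 2) (Fin 2) F) = !![1, 0; 1, 1] ∨ (g : Matrix (Fin 2) (Fin 2) F) = !![1, lam; 0, 1]}) = 120) := by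
  have hset : {g : Matrix.SpecialLinearGroup (Fin 2) F | (g : Matrix (Fin 2) (Fin 2) F) = !![1, 0; 1, 1] ∨ (g : Matrix (Fin 2) (Fin 2) F) = !![1, lam; 0, 1]} = ({ll 1, uu lam} : Set (Matrix.SpecialLinearGroup (Fin 2) F)) := by
    ext g
    simp only [Set.mem_insert_iff, Set.mem_singleton_iff]
    constructor
    · rintro (h | h)
      · left; exact Subtype.ext h
      · right
        apply Subtype.ext
        rw [h]
        exact (upperSL_coe _ _ _).symm
    · rintro (rfl | rfl)
      · left; rfl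
      · right; exact upperSL_coe _ _ _
  rw [hset]
  by_cases h : Fintype.card F = 9 ∧ lam ^ 2 = -1
  · right
    exact ⟨h.1, h.2, gen_exc h.1 lam h.2⟩
  · left
    exact ⟨gen_main h2 lam hlam hgen h, h⟩

end Cfsg.Agent.S0801
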