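import Cfsg.Statements.S3669
import Cfsg.Agent.Lib.Helper25.ItoMichler
import Cfsg.Agent.Lib.Helper2.Linear
import Cfsg.Agent.Lib.Helper2.Expansion
import Cfsg.Agent.Lib.Helper2.Regular
import Cfsg.Agent.Lib.Helper1.Hall
import Cfsg.Agent.S0493
import Cfsg.Agent.S0494

set_option autoImplicit false
open Cfsg

namespace Cfsg.Agent.S3669

open Equiv
open Cfsg.Agent.Lib.Helper2 Cfsg.Agent.Lib.Helper25

/-- Representatives of the conjugacy classes of the alternating group of degree 5. -/
def reps : Fin 5 → alternatingGroup (Fin 5)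
  | 0 => 1
  | 1 => ⟨swap 0 1 * swap 1 2, Equiv.Perm.mem_alternatingGroup.mpr (by decide)⟩
  | 2 => ⟨swap 0 1 * swap 2 3, Equiv.Perm.mem_alternatingGroup.mpr (by decide)⟩
  | 3 => ⟨swap 0 1 * swap 1 2 * swap 2 3 * swap 3 4,
      Equiv.Perm.mem_alternatingGroup.mpr (by decide)⟩
  | 4 => ⟨swap 0 1 * swap 1 2 * swap 2 4 * swap 4 3,
      Equiv.Perm.mem_alternatingGroup.mpr (by decide)⟩

set_option maxRecDepth 100000 in
theorem a5_class_reps :
    ∀ g : alternatingGroup (Fin 5), ∃ i : Fin 5, ∃ h : alternatingGroup (Fin 5),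
      h * g * h⁻¹ = reps i := by
  decide +kernel

theorem card_conjClasses_a5_le : Nat.card (ConjClasses (alternatingGroup (Fin 5))) ≤ 5 := by
  have hsurj : Function.Surjective (fun i : Fin 5 => ConjClasses.mk (reps i)) := by
    intro c
    obtain ⟨g, rfl⟩ := ConjClasses.mk_surjective c
    obtain ⟨i, h, hi⟩ := a5_class_reps g
    refine ⟨i, ?_⟩
    show ConjClasses.mk (reps i) = ConjClasses.mk g
    rw [ConjClasses.mk_eq_mk_iff_isConj, isConj_comm, isConj_iff]
    exact ⟨h, hi⟩
  have := Nat.card_le_card_of_surjective _ hsurj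
  simpa using this

theorem card_a5 : Nat.card (alternatingGroup (Fin 5)) = 60 := by
  rw [nat_card_alternatingGroup]
  simp [Nat.factorial]

theorem commutator_a5 : commutator (alternatingGroup (Fin 5)) = ⊤ :=
  commutator_alternatingGroup_eq_top (by simp)

/-- Pure counting: degrees of a group of order 60 with at most 5 irreducible characters,
exactly one of them linear, none of degree divisible by 5: impossible. -/
theorem counting {I : Type*} [Fintype I] [DecidableEq I] (f : I → ℕ) (hcard : Fintype.card I ≤ 5)
    (hsum : ∑ χ, f χ ^ 2 = 60) (hlin : (Finset.univ.filter (fun χ => f χ = 1)).card = 1)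
    (hdvd : ∀ χ, f χ ∣ 60) (hno5 : ∀ χ, ¬ 5 ∣ f χ) : False := by
  have hmem : ∀ χ ∈ (Finset.univ : Finset I), f χ ∈ ({1, 2, 3, 4, 6} : Finset ℕ) := by
    intro χ _
    have h1 : f χ ^ 2 ≤ 60 := by
      rw [← hsum]
      exact Finset.single_le_sum (f := fun χ => f χ ^ 2) (fun _ _ => Nat.zero_le _)
        (Finset.mem_univ χ)
    have h2 : f χ ≤ 7 := by nlinarith
    have h3 := hdvd χ
    have h4 := hno5 χ
    interval_cases (f χ) <;> simp_all
  have h1 := Finset.sum_fiberwise_of_maps_to hmem (fun χ => f χ ^ 2)
  have h2 := Finset.card_eq_sum_card_fiberwise hmem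
  have h3 : ∀ d : ℕ, ∑ χ ∈ Finset.univ.filter (fun χ => f χ = d), f χ ^ 2
      = (Finset.univ.filter (fun χ => f χ = d)).card * d ^ 2 := by
    intro d
    rw [Finset.sum_congr rfl (fun χ hχ => by rw [(Finset.mem_filter.mp hχ).2]),
      Finset.sum_const, smul_eq_mul]
  simp only [h3] at h1
  rw [hsum] at h1
  rw [Finset.card_univ] at h2
  rw [Finset.sum_insert (by decide), Finset.sum_insert (by decide), Finset.sum_insert (by decide),
    Finset.sum_insert (by decide), Finset.sum_singleton] at h1 h2
  rw [hlin] at h1 h2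
  omega

/-- The alternating group of degree 5 has an irreducible character of degree divisible by 5. -/
theorem exists_degree_five :
    ∃ χ : IrrCharacter (alternatingGroup (Fin 5)), 5 ∣ charDegree (χ : alternatingGroup (Fin 5) → ℂ) := by
  classical
  by_contra hno
  push Not at hno
  haveI : Fintype (IrrCharacter (alternatingGroup (Fin 5))) := Fintype.ofFinite _
  have hcard : Fintype.card (IrrCharacter (alternatingGroup (Fin 5))) ≤ 5 := by
    rw [← Nat.card_eq_fintype_card, card_irrCharacter]
    exact card_conjClasses_a5_le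
  have hsum : ∑ χ : IrrCharacter (alternatingGroup (Fin 5)),
      charDegree (χ : alternatingGroup (Fin 5) → ℂ) ^ 2 = 60 := by
    have h := sum_irr_degree_sq (G := alternatingGroup (Fin 5))
    have h2 : ((∑ χ : IrrCharacter (alternatingGroup (Fin 5)),
        charDegree (χ : alternatingGroup (Fin 5) → ℂ) ^ 2 : ℕ) : ℂ) = ((60 : ℕ) : ℂ) := by
      rw [← card_a5, ← h]
      push_cast
      apply Finset.sum_congr rfl
      intro ψ _
      rw [char_one_eq_charDegree (isCharacter_of_irr ψ.2)]
    exact_mod_cast h2
  have hlin : (Finset.univ.filter (fun χ : IrrCharacter (alternatingGroup (Fin 5)) =>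
      charDegree (χ : alternatingGroup (Fin 5) → ℂ) = 1)).card = 1 := by
    have h1 := card_linear_irrCharacter (G := alternatingGroup (Fin 5))
    rw [commutator_a5, Subgroup.index_top, Nat.card_eq_fintype_card, Fintype.card_subtype] at h1
    have h2 : (Finset.univ.filter (fun χ : IrrCharacter (alternatingGroup (Fin 5)) =>
        charDegree (χ : alternatingGroup (Fin 5) → ℂ) = 1))
        = Finset.univ.filter (fun χ : IrrCharacter (alternatingGroup (Fin 5)) =>
          (χ : alternatingGroup (Fin 5) → ℂ) 1 = 1) := by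
      apply Finset.filter_congr
      intro χ _
      rw [char_one_eq_charDegree (isCharacter_of_irr χ.2)]
      norm_cast
    rw [h2]
    exact h1
  refine counting (fun χ : IrrCharacter (alternatingGroup (Fin 5)) =>
    charDegree (χ : alternatingGroup (Fin 5) → ℂ)) hcard hsum hlin ?_ hno
  intro χ
  have := charDegree_dvd_card χ.2
  rwa [card_a5] at this

universe u

/-- Groups of order less than 60 are solvable. -/
theorem isSolvable_of_card_lt : ∀ (n : ℕ) (G : Type u) [Group G] [Finite G], Nat.card G = n →
    n < 60 → Group.IsSolvable G := by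
  intro n
  induction n using Nat.strong_induction_on with
  | _ n ih =>
  intro G _ _ hn hlt
  by_cases hs : IsSimpleGroup G
  · by_cases hc : IsCyclic G
    · haveI : IsMulCommutative G := IsCyclic.isMulCommutative
      exact Group.isSolvable_of_comm (fun a b => mul_comm' a b)
    · have := Cfsg.Agent.S0493.result hc (by omega)
      omega
  · by_cases hsub : Subsingleton G
    · infer_instance
    · rw [not_subsingleton_iff_nontrivial] at hsub
      have hex : ∃ N : Subgroup G, N.Normal ∧ N ≠ ⊥ ∧ N ≠ ⊤ := by
        by_contra hcon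
        push Not at hcon
        apply hs
        exact ⟨fun N hN => by
          by_cases hb : N = ⊥
          · exact Or.inl hb
          · exact Or.inr (hcon N hN hb)⟩
      obtain ⟨N, hN, hNb, hNt⟩ := hex
      have h1 : Nat.card N * N.index = n := by rw [Subgroup.card_mul_index, hn]
      have hN1 : 1 < Nat.card N := by
        rw [Subgroup.one_lt_card_iff_ne_bot]
        exact hNb
      have hN2 : 1 < N.index := by
        have h2 : N.index ≠ 1 := by
          rw [Ne, Subgroup.index_eq_one]
          exact hNt
        have h3 : N.index ≠ 0 := Subgroup.index_ne_zero_of_finite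
        omega
      have hlt1 : Nat.card N < n := by nlinarith
      have hlt2 : N.index < n := by nlinarith
      haveI : Group.IsSolvable N := ih _ hlt1 ↥N rfl (by omega)
      haveI : Group.IsSolvable (G ⧸ N) := ih _ hlt2 (G ⧸ N) (Subgroup.index_eq_card N).symm
        (by omega)
      apply Group.isSolvable_of_ker_le_range N.subtype (QuotientGroup.mk' N)
      rw [QuotientGroup.ker_mk', Subgroup.range_subtype]

theorem factorization_five (t : ℕ) (ht0 : t ≠ 0) (ht : ¬ 5 ∣ t) :
    (5 * t).factorization 5 = 1 := by
  rw [Nat.factorization_mul (by norm_num) ht0, Finsupp.add_apply,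
    Nat.Prime.factorization_self (by norm_num), Nat.factorization_eq_zero_of_not_dvd ht]

/-- In a group of order 15 or 20 the Sylow 5-subgroups are normal. -/
theorem sylow_five_normal {K : Type*} [Group K] [Finite K] (t : ℕ) (hK : Nat.card K = 5 * t)
    (ht : t = 3 ∨ t = 4) (Q : Sylow 5 K) : (Q : Subgroup K).Normal := by
  haveI : Fact (Nat.Prime 5) := ⟨by norm_num⟩
  have hQ : Nat.card (Q : Subgroup K) = 5 := by
    rw [Q.card_eq_multiplicity, hK, factorization_five t (by omega) (by omega), pow_one]
  have hidx : (Q : Subgroup K).index = t := by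
    have := Subgroup.card_mul_index (Q : Subgroup K)
    rw [hQ, hK] at this
    omega
  have h1 : Nat.card (Sylow 5 K) ∣ t := by rw [← hidx]; exact Q.card_dvd_index
  have h2 : Nat.card (Sylow 5 K) ≡ 1 [MOD 5] := card_sylow_modEq_one 5 K
  have h3 : Nat.card (Sylow 5 K) = 1 := by
    have hle : Nat.card (Sylow 5 K) ≤ t := Nat.le_of_dvd (by omega) h1
    unfold Nat.ModEq at h2
    rcases ht with rfl | rfl <;> interval_cases (Nat.card (Sylow 5 K)) <;> simp_all
  have hss : Subsingleton (Sylow 5 K) := (Nat.card_eq_one_iff_unique.mp h3).1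
  exact Q.normal_of_subsingleton

/-- A subgroup of order 15 or 20 in a group of order 60 normalizes a Sylow 5-subgroup. -/
theorem card_sylow_dvd_index {G : Type*} [Group G] [Finite G] (hG : Nat.card G = 60)
    (H : Subgroup G) (t : ℕ) (hH : Nat.card H = 5 * t) (ht : t = 3 ∨ t = 4) :
    Nat.card (Sylow 5 G) ∣ H.index := by
  haveI : Fact (Nat.Prime 5) := ⟨by norm_num⟩
  obtain ⟨Q⟩ : Nonempty (Sylow 5 ↥H) := inferInstance
  have hQn : (Q : Subgroup ↥H).Normal := sylow_five_normal t hH ht Q
  have hQ : Nat.card (Q : Subgroup ↥H) = 5 := by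
    rw [Q.card_eq_multiplicity, hH, factorization_five t (by omega) (by omega), pow_one]
  set Q' : Subgroup G := (Q : Subgroup ↥H).map H.subtype with hQ'
  have hQ'card : Nat.card Q' = 5 ^ (Nat.card G).factorization 5 := by
    rw [hQ', Subgroup.card_subtype, hQ, hG]
    have : (60 : ℕ) = 5 * 12 := by norm_num
    rw [this, factorization_five 12 (by norm_num) (by norm_num), pow_one]
  set P : Sylow 5 G := Sylow.ofCard Q' hQ'card with hP
  have hHN : H ≤ Subgroup.normalizer ((P : Subgroup G) : Set G) := by
    intro h hh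
    rw [hP, Sylow.coe_ofCard, Subgroup.mem_normalizer_iff]
    intro x
    constructor
    · rintro ⟨q, hq, rfl⟩
      refine ⟨⟨h, hh⟩ * q * ⟨h, hh⟩⁻¹, hQn.conj_mem q hq ⟨h, hh⟩, rfl⟩
    · rintro ⟨q, hq, hqx⟩
      have h1 := hQn.conj_mem q hq (⟨h, hh⟩ : ↥H)⁻¹
      refine ⟨(⟨h, hh⟩ : ↥H)⁻¹ * q * (⟨h, hh⟩ : ↥H)⁻¹⁻¹, h1, ?_⟩
      have h2 : H.subtype q = h * x * h⁻¹ := hqx
      simp only [map_mul, map_inv, inv_inv, Subgroup.coe_subtype] at h2 ⊢
      rw [h2]; group
  rw [P.card_eq_index_normalizer]
  exact Subgroup.index_dvd_of_le hHN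

/-- A non-simple group of order 60 has no irreducible character of degree divisible by 5. -/
theorem allPPrime_of_not_simple {G : Type u} [Group G] [Finite G] (hG : Nat.card G = 60)
    (hs : ¬ IsSimpleGroup G) : AllPPrime 5 G := by
  haveI : Fact (Nat.Prime 5) := ⟨by norm_num⟩
  haveI : Nontrivial G := by
    rw [← Finite.one_lt_card_iff_nontrivial, hG]
    norm_num
  -- `G` is solvable
  have hex : ∃ N : Subgroup G, N.Normal ∧ N ≠ ⊥ ∧ N ≠ ⊤ := by
    by_contra hcon
    push Not at hcon
    apply hs
    exact ⟨fun N hN => by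
      by_cases hb : N = ⊥
      · exact Or.inl hb
      · exact Or.inr (hcon N hN hb)⟩
  obtain ⟨N, hN, hNb, hNt⟩ := hex
  haveI hsolv : Group.IsSolvable G := by
    have h1 : Nat.card N * N.index = 60 := by rw [Subgroup.card_mul_index, hG]
    have hN1 : 1 < Nat.card N := by
      rw [Subgroup.one_lt_card_iff_ne_bot]
      exact hNb
    have hN2 : 1 < N.index := by
      have h2 : N.index ≠ 1 := by
        rw [Ne, Subgroup.index_eq_one]
        exact hNt
      have h3 : N.index ≠ 0 := Subgroup.index_ne_zero_of_finite
      omega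
    haveI : Group.IsSolvable N := isSolvable_of_card_lt _ ↥N rfl (by nlinarith)
    haveI : Group.IsSolvable (G ⧸ N) := isSolvable_of_card_lt _ (G ⧸ N)
      (Subgroup.index_eq_card N).symm (by nlinarith)
    apply Group.isSolvable_of_ker_le_range N.subtype (QuotientGroup.mk' N)
    rw [QuotientGroup.ker_mk', Subgroup.range_subtype]
  -- Hall subgroups of orders 15 and 20
  obtain ⟨H15, hH15⟩ := Cfsg.Agent.Lib.Helper1.hall_exists (G := G) 15 4 (by rw [hG]) (by norm_num)
  obtain ⟨H20, hH20⟩ := Cfsg.Agent.Lib.Helper1.hall_exists (G := G) 20 3 (by rw [hG]) (by norm_num)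
  have h15 := card_sylow_dvd_index hG H15 3 (by rw [hH15]) (Or.inl rfl)
  have h20 := card_sylow_dvd_index hG H20 4 (by rw [hH20]) (Or.inr rfl)
  have hi15 : H15.index = 4 := by
    have := Subgroup.card_mul_index H15
    rw [hH15, hG] at this
    omega
  have hi20 : H20.index = 3 := by
    have := Subgroup.card_mul_index H20
    rw [hH20, hG] at this
    omega
  rw [hi15] at h15
  rw [hi20] at h20
  have h1 : Nat.card (Sylow 5 G) = 1 := by
    have := Nat.dvd_gcd h15 h20
    simpa using this
  have hss : Subsingleton (Sylow 5 G) := (Nat.card_eq_one_iff_unique.mp h1).1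
  obtain ⟨P⟩ : Nonempty (Sylow 5 G) := inferInstance
  haveI hPn : (P : Subgroup G).Normal := P.normal_of_subsingleton
  have hPcard : Nat.card (P : Subgroup G) = 5 := by
    rw [P.card_eq_multiplicity, hG]
    have : (60 : ℕ) = 5 * 12 := by norm_num
    rw [this, factorization_five 12 (by norm_num) (by norm_num), pow_one]
  have hPidx : (P : Subgroup G).index = 12 := by
    have := Subgroup.card_mul_index (P : Subgroup G)
    rw [hPcard, hG] at this
    omega
  have hcyc : IsCyclic (P : Subgroup G) := by
    haveI : Fact (Nat.card (P : Subgroup G)).Prime := ⟨by rw [hPcard]; norm_num⟩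
    exact isCyclic_of_prime_card rfl
  apply allPPrime_of_normal_abelian (P : Subgroup G)
  · intro a ha b hb
    haveI : IsMulCommutative (P : Subgroup G) := IsCyclic.isMulCommutative
    have := mul_comm' (⟨a, ha⟩ : (P : Subgroup G)) ⟨b, hb⟩
    exact congrArg Subtype.val this
  · rw [hPidx]; norm_num

/-- The character degree graph of a finite group has as vertices the primes dividing some irreducible complex character degree, two distinct primes being joined when their product divides some irreducible character degree; two groups have the same character degree graph when they have the same vertices and the same joined pairs. A finite group of order 60 with the same character degree graph as the alternating group A₅ (whose character degrees are 1, 3, 4, 5, so the graph has vertices 2, 3, 5 and no edges) is isomorphic to A₅. -/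
theorem result {G : Type*} [Group G] [Finite G] (hcard : Nat.card G = 60)
    (hΓ : Cfsg.degreePrimes G = Cfsg.degreePrimes (alternatingGroup (Fin 5)) ∧ Cfsg.degreeGraph G = Cfsg.degreeGraph (alternatingGroup (Fin 5))) : Nonempty (G ≃* alternatingGroup (Fin 5)) := by
  have h5 : (5 : ℕ) ∈ Cfsg.degreePrimes (alternatingGroup (Fin 5)) := by
    obtain ⟨χ, hχ⟩ := exists_degree_five
    exact ⟨by norm_num, charDegree (χ : alternatingGroup (Fin 5) → ℂ), ⟨χ, rfl⟩, hχ⟩
  rw [← hΓ.1] at h5
  obtain ⟨-, d, ⟨χ, rfl⟩, hd⟩ := h5
  by_cases hs : IsSimpleGroup G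
  · exact Cfsg.Agent.S0494.result hcard
  · exact absurd hd (allPPrime_of_not_simple hcard hs χ)

end Cfsg.Agent.S3669
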