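import Cfsg.Statements.S1514
import Cfsg.Agent.Lib.Helper11.GenChar

set_option autoImplicit false
open Cfsg

namespace Cfsg.Agent.S1514

open Cfsg.Agent.Lib.Helper2 Cfsg.Agent.Lib.Helper11
open scoped ComplexConjugate

theorem isCharacter_zero {G : Type*} [Group G] : Cfsg.IsCharacter G (0 : G → ℂ) := by
  refine ⟨0, 1, ?_⟩
  ext g
  have : ((1 : Representation ℂ G (Fin 0 → ℂ)) g) = 0 := LinearMap.ext fun v => Subsingleton.elim _ _
  simp [Representation.character, this]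

theorem isGenChar_of_isChar {G : Type*} [Group G] {χ : G → ℂ} (h : Cfsg.IsCharacter G χ) :
    Cfsg.IsGeneralizedCharacter G χ := ⟨χ, 0, h, isCharacter_zero, by simp⟩

theorem isGenChar_neg_of_isChar {G : Type*} [Group G] {χ : G → ℂ} (h : Cfsg.IsCharacter G χ) :
    Cfsg.IsGeneralizedCharacter G (-χ) := ⟨0, χ, isCharacter_zero, h, by simp⟩

theorem classInner_conjFun_conjFun {L : Type*} [Group L] [Fintype L] (f g : L → ℂ) :
    Cfsg.classInner (Cfsg.conjFun f) (Cfsg.conjFun g) = conj (Cfsg.classInner f g) := by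
  simp only [classInner_def, Cfsg.conjFun, map_mul, map_inv₀, map_natCast, map_sum]

theorem conjFun_conjFun {L : Type*} (f : L → ℂ) : Cfsg.conjFun (Cfsg.conjFun f) = f := by
  ext x; simp [Cfsg.conjFun]

theorem result {L : Type*} [Group L] [Fintype L] {G : Type*} [Group G] [Fintype G] (S : Set (L → ℂ)) (hS : S.Nonempty) (hirr : ∀ χ ∈ S, Cfsg.IsIrrCharacter L χ) (hconj : ∀ χ ∈ S, Cfsg.conjFun χ ∈ S ∧ Cfsg.conjFun χ ≠ χ) (τ : (L → ℂ) → (G → ℂ)) (hτ : Cfsg.IsLinearIsometryOn (Cfsg.zspanOn S {1}ᶜ) τ) (hτ1 : ∀ α ∈ Cfsg.zspanOn S {1}ᶜ, τ α 1 = 0) : ∃ R : (L → ℂ) → Finset (G → ℂ), Cfsg.IsCoherenceSystem S τ R := by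
  classical
  obtain ⟨hadd, hsmul, hiso, hgen⟩ := hτ
  -- χ - conj χ lies in the domain
  have hdom : ∀ χ ∈ S, χ - Cfsg.conjFun χ ∈ Cfsg.zspanOn S {1}ᶜ := by
    intro χ hχ
    refine ⟨Submodule.sub_mem _ (Submodule.subset_span hχ) (Submodule.subset_span (hconj χ hχ).1), ?_⟩
    intro x hx
    have hx1 : x = 1 := by simpa using hx
    subst hx1
    simp only [Pi.sub_apply, Cfsg.conjFun]
    rw [IsCharacter.conj_apply_one (IsIrrCharacter.isCharacter (hirr χ hχ)), sub_self]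
  have horth : ∀ χ ∈ S, ∀ φ ∈ S, χ ≠ φ → Cfsg.classInner χ φ = 0 := by
    intro χ hχ φ hφ hne
    have : (⟨χ, hirr χ hχ⟩ : Cfsg.IrrCharacter L) ≠ ⟨φ, hirr φ hφ⟩ := by
      intro h'; exact hne (congrArg Subtype.val h')
    exact classInner_irrCharacter_ne this
  have hself : ∀ χ ∈ S, Cfsg.classInner χ χ = 1 := fun χ hχ =>
    classInner_irrCharacter_self ⟨χ, hirr χ hχ⟩
  -- the key decomposition
  have key : ∀ χ ∈ S, ∃ μ₁ μ₂ : Cfsg.IrrCharacter G, μ₁ ≠ μ₂ ∧
      τ (χ - Cfsg.conjFun χ) = (μ₁ : G → ℂ) - (μ₂ : G → ℂ) := by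
    intro χ hχ
    apply IsGeneralizedCharacter.eq_sub_of_norm_two (hgen _ (hdom χ hχ))
    · rw [hiso _ (hdom χ hχ) _ (hdom χ hχ), classInner_sub_left, classInner_sub_right,
        classInner_sub_right, hself χ hχ, hself _ (hconj χ hχ).1,
        horth χ hχ _ (hconj χ hχ).1 (hconj χ hχ).2.symm, horth _ (hconj χ hχ).1 χ hχ (hconj χ hχ).2]
      ring
    · exact hτ1 _ (hdom χ hχ)
  have hne : Nonempty (Cfsg.IrrCharacter G) := by
    obtain ⟨χ, hχ⟩ := hS
    obtain ⟨μ, _, _⟩ := key χ hχ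
    exact ⟨μ⟩
  choose! m₁ m₂ hm using key
  have hneq : ∀ χ ∈ S, (m₁ χ : G → ℂ) ≠ -(m₂ χ : G → ℂ) := by
    intro χ _ h
    obtain ⟨d₁, hd₁pos, hd₁⟩ := IsIrrCharacter.apply_one (m₁ χ).2
    obtain ⟨d₂, hd₂pos, hd₂⟩ := IsIrrCharacter.apply_one (m₂ χ).2
    have := congrFun h 1
    simp only [Pi.neg_apply, hd₁, hd₂] at this
    have h' : ((d₁ + d₂ : ℕ) : ℂ) = 0 := by push_cast; linear_combination this
    have : d₁ + d₂ = 0 := by exact_mod_cast h'
    omega
  refine ⟨fun χ => {(m₁ χ : G → ℂ), -(m₂ χ : G → ℂ)}, ?_⟩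
  have hm12 : ∀ χ ∈ S, Cfsg.classInner (m₁ χ : G → ℂ) (m₂ χ : G → ℂ) = 0 := fun χ hχ =>
    classInner_irrCharacter_ne (hm χ hχ).1
  have hm21 : ∀ χ ∈ S, Cfsg.classInner (m₂ χ : G → ℂ) (m₁ χ : G → ℂ) = 0 := fun χ hχ =>
    classInner_irrCharacter_ne (hm χ hχ).1.symm
  refine ⟨hS, fun χ hχ => IsIrrCharacter.isCharacter (hirr χ hχ), fun χ hχ => (hconj χ hχ).1,
    fun χ hχ => (hconj χ hχ).2, ⟨hadd, hsmul, hiso, hgen⟩, hτ1, horth, ?_, ?_, ?_, ?_⟩
  · -- orthonormal
    intro χ hχ α hα β hβ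
    simp only [Finset.mem_insert, Finset.mem_singleton] at hα hβ
    rcases hα with rfl | rfl <;> rcases hβ with rfl | rfl
    · rw [if_pos rfl]; exact classInner_irrCharacter_self _
    · rw [if_neg (hneq χ hχ), classInner_neg_right, hm12 χ hχ, neg_zero]
    · rw [if_neg (hneq χ hχ).symm, classInner_neg_left, hm21 χ hχ, neg_zero]
    · rw [if_pos rfl, classInner_neg_left, classInner_neg_right, classInner_irrCharacter_self]; ring
  · -- virtual
    intro χ _ α hα
    simp only [Finset.mem_insert, Finset.mem_singleton] at hα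
    rcases hα with rfl | rfl
    · exact isGenChar_of_isChar (IsIrrCharacter.isCharacter (m₁ χ).2)
    · exact isGenChar_neg_of_isChar (IsIrrCharacter.isCharacter (m₂ χ).2)
  · -- sum_eq
    intro χ hχ
    rw [Finset.sum_pair (hneq χ hχ), (hm χ hχ).2, sub_eq_add_neg]
  · -- disjoint
    intro χ hχ φ hφ h1 h2 α hα β hβ
    have h3 : Cfsg.classInner (Cfsg.conjFun φ) χ = 0 := by
      have := classInner_conjFun_conjFun φ (Cfsg.conjFun χ)
      rw [conjFun_conjFun, h2] at this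
      simpa using this
    have h4 : Cfsg.classInner (Cfsg.conjFun φ) (Cfsg.conjFun χ) = 0 := by
      rw [classInner_conjFun_conjFun, h1]; simp
    have heq : Cfsg.classInner ((m₁ φ : G → ℂ) - (m₂ φ : G → ℂ)) ((m₁ χ : G → ℂ) - (m₂ χ : G → ℂ)) = 0 := by
      rw [← (hm φ hφ).2, ← (hm χ hχ).2, hiso _ (hdom φ hφ) _ (hdom χ hχ), classInner_sub_left,
        classInner_sub_right, classInner_sub_right, h1, h2, h3, h4]
      ring
    rw [classInner_sub_left, classInner_sub_right, classInner_sub_right] at heq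
    -- the four inner products
    have x1 := classInner_irrCharacter (m₁ φ) (m₁ χ)
    have x2 := classInner_irrCharacter (m₁ φ) (m₂ χ)
    have x3 := classInner_irrCharacter (m₂ φ) (m₁ χ)
    have x4 := classInner_irrCharacter (m₂ φ) (m₂ χ)
    have hφne := (hm φ hφ).1
    have hχne := (hm χ hχ).1
    rw [x1, x2, x3, x4] at heq
    have hall : m₁ φ ≠ m₁ χ ∧ m₁ φ ≠ m₂ χ ∧ m₂ φ ≠ m₁ χ ∧ m₂ φ ≠ m₂ χ := by
      by_cases e1 : m₁ φ = m₁ χ
      · exfalso
        have e2 : m₁ φ ≠ m₂ χ := fun h => hχne (e1.symm.trans h)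
        have e3 : m₂ φ ≠ m₁ χ := fun h => hφne (e1.trans h.symm)
        rw [if_pos e1, if_neg e2, if_neg e3] at heq
        by_cases e4 : m₂ φ = m₂ χ
        · rw [if_pos e4] at heq; norm_num at heq
        · rw [if_neg e4] at heq; norm_num at heq
      by_cases e4 : m₂ φ = m₂ χ
      · exfalso
        have e2 : m₁ φ ≠ m₂ χ := fun h => hφne (h.trans e4.symm)
        have e3 : m₂ φ ≠ m₁ χ := fun h => hχne (h.symm.trans e4)
        rw [if_neg e1, if_neg e2, if_neg e3, if_pos e4] at heq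
        norm_num at heq
      rw [if_neg e1, if_neg e4] at heq
      by_cases e2 : m₁ φ = m₂ χ
      · exfalso
        rw [if_pos e2] at heq
        by_cases e3 : m₂ φ = m₁ χ
        · rw [if_pos e3] at heq; norm_num at heq
        · rw [if_neg e3] at heq; norm_num at heq
      by_cases e3 : m₂ φ = m₁ χ
      · exfalso
        rw [if_neg e2, if_pos e3] at heq
        norm_num at heq
      exact ⟨e1, e2, e3, e4⟩
    obtain ⟨e1, e2, e3, e4⟩ := hall
    simp only [Finset.mem_insert, Finset.mem_singleton] at hα hβ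
    rcases hα with rfl | rfl <;> rcases hβ with rfl | rfl
    · exact classInner_irrCharacter_ne e1
    · rw [classInner_neg_right, classInner_irrCharacter_ne e2, neg_zero]
    · rw [classInner_neg_left, classInner_irrCharacter_ne e3, neg_zero]
    · rw [classInner_neg_left, classInner_neg_right, classInner_irrCharacter_ne e4]; simp

end Cfsg.Agent.S1514
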