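import Cfsg.Statements.S1515
import Cfsg.Agent.Lib.Helper11.GenChar

set_option autoImplicit false
open Cfsg

namespace Cfsg.Agent.S1515

open Cfsg.Agent.Lib.Helper2 Cfsg.Agent.Lib.Helper11
open scoped ComplexConjugate

/-- Pure integer/real lemma. -/
theorem int_sum_aux {ι : Type*} (s : Finset ι) (n : ι → ℤ) :
    ((∑ i ∈ s, n i : ℤ) : ℝ) ≤ ∑ i ∈ s, ((n i : ℝ)) ^ 2 ∧
    ((∑ i ∈ s, ((n i : ℝ)) ^ 2) ≤ ((∑ i ∈ s, n i : ℤ) : ℝ) →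
      ∀ i ∈ s, n i = 0 ∨ n i = 1) := by
  have hterm : ∀ i, n i ≤ n i ^ 2 := fun i => Int.le_self_sq (n i)
  have hZ : (∑ i ∈ s, n i) ≤ ∑ i ∈ s, n i ^ 2 := Finset.sum_le_sum (fun i _ => hterm i)
  have hcast : (∑ i ∈ s, ((n i : ℝ)) ^ 2) = ((∑ i ∈ s, n i ^ 2 : ℤ) : ℝ) := by
    push_cast; rfl
  refine ⟨?_, ?_⟩
  · rw [hcast]; exact_mod_cast hZ
  · intro h i hi
    rw [hcast] at h
    have h' : (∑ i ∈ s, n i ^ 2) ≤ ∑ i ∈ s, n i := by exact_mod_cast h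
    have heq : ∑ i ∈ s, n i = ∑ i ∈ s, n i ^ 2 := le_antisymm hZ h'
    have := (Finset.sum_eq_sum_iff_of_le (fun i _ => hterm i)).1 heq i hi
    have h2 : n i * (n i - 1) = 0 := by ring_nf; linarith
    rcases mul_eq_zero.1 h2 with h3 | h3
    · left; exact h3
    · right; linarith

theorem result {L : Type*} [Group L] [Fintype L] {G : Type*} [Group G] [Fintype G] (S : Set (L → ℂ)) (τ : (L → ℂ) → (G → ℂ)) (R : (L → ℂ) → Finset (G → ℂ)) (hS : Cfsg.IsCoherenceSystem S τ R) (χ : L → ℂ) (hχ : χ ∈ S) (ψ : L → ℂ) (hψ : ψ ∈ Cfsg.zspan S) (h1 : Cfsg.classInner χ ψ = 0) (h2 : Cfsg.classInner (Cfsg.conjFun χ) ψ = 0) (τ₁ : (L → ℂ) → (G → ℂ)) (hτ₁ : Cfsg.IsLinearIsometryOn (Cfsg.zspan {χ - ψ, χ - Cfsg.conjFun χ}) τ₁) (hagree : ∀ n : ℤ, τ₁ (n • (χ - Cfsg.conjFun χ)) = τ (n • (χ - Cfsg.conjFun χ))) : (Cfsg.classInner χ χ).re ≤ ∑ α ∈ R χ, ‖Cfsg.classInner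 (τ₁ (χ - ψ)) α‖ ^ 2 ∧ ((Cfsg.classInner ψ ψ).re ≤ (Cfsg.classInner (τ₁ (χ - ψ)) (τ₁ (χ - ψ))).re - ∑ α ∈ R χ, ‖Cfsg.classInner (τ₁ (χ - ψ)) α‖ ^ 2 → (∑ α ∈ R χ, ‖Cfsg.classInner (τ₁ (χ - ψ)) α‖ ^ 2 = (Cfsg.classInner χ χ).re ∧ ∀ α ∈ R χ, Cfsg.classInner (τ₁ (χ - ψ)) α = 0 ∨ Cfsg.classInner (τ₁ (χ - ψ)) α = 1)) := by
  classical
  -- membership
  have hm1 : χ - ψ ∈ Cfsg.zspan {χ - ψ, χ - Cfsg.conjFun χ} :=
    Submodule.subset_span (by simp)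
  have hm2 : χ - Cfsg.conjFun χ ∈ Cfsg.zspan {χ - ψ, χ - Cfsg.conjFun χ} :=
    Submodule.subset_span (by simp)
  set X := τ₁ (χ - ψ) with hX
  have hXgen : Cfsg.IsGeneralizedCharacter G X := hτ₁.2.2.2 _ hm1
  -- integrality
  have hint : ∀ α : G → ℂ, ∃ n : ℤ, α ∈ R χ → Cfsg.classInner X α = (n : ℂ) := by
    intro α
    by_cases hα : α ∈ R χ
    · obtain ⟨n, hn⟩ := IsGeneralizedCharacter.inner_int hXgen (hS.virtual χ hχ α hα)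
      exact ⟨n, fun _ => hn⟩
    · exact ⟨0, fun h => absurd h hα⟩
  choose n hn using hint
  -- τ₁ (χ - conj χ) = Σ α
  have hsum : τ₁ (χ - Cfsg.conjFun χ) = ∑ α ∈ R χ, α := by
    have := hagree 1
    rw [one_smul] at this
    rw [this, hS.sum_eq χ hχ]
  -- orthogonality facts
  have hχc : Cfsg.classInner χ (Cfsg.conjFun χ) = 0 :=
    hS.orthogonal χ hχ _ (hS.conj_mem χ hχ) (fun h => hS.conj_ne χ hχ h.symm)
  have h1' : Cfsg.classInner ψ χ = 0 := by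
    rw [← classInner_conj_symm, h1, map_zero]
  have h2' : Cfsg.classInner ψ (Cfsg.conjFun χ) = 0 := by
    rw [← classInner_conj_symm, h2, map_zero]
  -- Σ ⟨X, α⟩ = ⟨χ, χ⟩
  have hS1 : ∑ α ∈ R χ, Cfsg.classInner X α = Cfsg.classInner χ χ := by
    rw [← classInner_sum_right, ← hsum, hX, hτ₁.2.2.1 _ hm1 _ hm2,
      classInner_sub_left, classInner_sub_right, classInner_sub_right, hχc, h1', h2']
    ring
  have hS1' : Cfsg.classInner χ χ = ((∑ α ∈ R χ, n α : ℤ) : ℂ) := by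
    rw [← hS1]
    push_cast
    exact Finset.sum_congr rfl (fun α hα => hn α hα)
  have hre : (Cfsg.classInner χ χ).re = ((∑ α ∈ R χ, n α : ℤ) : ℝ) := by
    rw [hS1']
    exact Complex.intCast_re _
  have hnorm : ∑ α ∈ R χ, ‖Cfsg.classInner X α‖ ^ 2 = ∑ α ∈ R χ, ((n α : ℝ)) ^ 2 := by
    apply Finset.sum_congr rfl
    intro α hα
    rw [hn α hα, Complex.norm_intCast, sq_abs]
  -- ⟨X,X⟩
  have hXX : Cfsg.classInner X X = Cfsg.classInner χ χ + Cfsg.classInner ψ ψ := by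
    rw [hX, hτ₁.2.2.1 _ hm1 _ hm1, classInner_sub_left, classInner_sub_right,
      classInner_sub_right, h1, h1']
    ring
  obtain ⟨ha, hb⟩ := int_sum_aux (R χ) n
  rw [hnorm, hre]
  refine ⟨ha, ?_⟩
  intro hyp
  rw [hXX, Complex.add_re, hre] at hyp
  have hle : (∑ α ∈ R χ, ((n α : ℝ)) ^ 2) ≤ ((∑ α ∈ R χ, n α : ℤ) : ℝ) := by linarith
  refine ⟨le_antisymm hle ha, ?_⟩
  intro α hα
  rw [hn α hα]
  rcases hb hle α hα with h | h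
  · left; rw [h]; simp
  · right; rw [h]; simp

end Cfsg.Agent.S1515
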