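import Cfsg.Statements.S1519
import Cfsg.Agent.Lib.Helper11.IndIrr
import Cfsg.Agent.Lib.Helper11.CentralBound
import Cfsg.Agent.Lib.Helper11.CohExtend

set_option autoImplicit false
open Cfsg
open Cfsg.Agent.Lib.Helper2 Cfsg.Agent.Lib.Helper11

namespace Cfsg.Agent.S1519

/-- Let K be a solvable normal subgroup of the finite group L and (S, τ, R) a coherence system from L to G where S is the set of functions induced from non-principal irreducible characters of K; write S(A) for those induced from characters whose kernel contains A. Let A, B, C, D be normal subgroups of L with A < K, B < K, B ≤ D ≤ C ≤ K and every commutator of D with C in B. If S(A) is coherent and 4 * [L:C]^2 * [C:D] < ([K:A] − 1)^2, then S(B) is coherent. -/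
theorem result {L : Type*} [Group L] [Fintype L] {G : Type*} [Group G] [Fintype G] (K : Subgroup L) [hK : K.Normal] (hsolv : Group.IsSolvable K) (τ : (L → ℂ) → (G → ℂ)) (R : (L → ℂ) → Finset (G → ℂ)) (hS : Cfsg.IsCoherenceSystem (Cfsg.inducedIrrAbove K ⊥) τ R) (A B C D : Subgroup L) [A.Normal] [B.Normal] [C.Normal] [D.Normal] (hAK : A < K) (hBK : B < K) (hBD : B ≤ D) (hDC : D ≤ C) (hCK : C ≤ K) (hcent : ∀ x ∈ D, ∀ y ∈ C, x * y * x⁻¹ * y⁻¹ ∈ B) (hA : Cfsg.IsCoherent (Cfsg.inducedIrrAbove K A) {1}ᶜ τ) (hlt : 4 * C.index ^ 2 * D.relIndex C < (A.relIndex K - 1) ^ 2) : Cfsg.IsCoherent (Cfsg.inducedIrrAbove K B) {1}ᶜ τ := by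
  classical
  haveI : Fintype (IrrCharacter K) := Fintype.ofFinite _
  -- degrees and norms as natural numbers
  have hd' : ∀ φ : L → ℂ, ∃ m : ℕ, φ ∈ inducedIrrAbove K ⊥ → φ 1 = (m : ℂ) := by
    intro φ
    by_cases h : φ ∈ inducedIrrAbove K ⊥
    · obtain ⟨m, hm⟩ := IsCharacter.apply_one (hS.isCharacter φ h)
      exact ⟨m, fun _ => hm⟩
    · exact ⟨0, fun h' => absurd h' h⟩
  choose d hd using hd'
  have hn' : ∀ φ : L → ℂ, ∃ m : ℕ, φ ∈ inducedIrrAbove K ⊥ → classInner φ φ = (m : ℂ) := by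
    intro φ
    by_cases h : φ ∈ inducedIrrAbove K ⊥
    · obtain ⟨m, hm⟩ := classInner_isCharacter_nat (hS.isCharacter φ h) (hS.isCharacter φ h)
      exact ⟨m, fun _ => hm⟩
    · exact ⟨0, fun h' => absurd h' h⟩
  choose n hn using hn'
  have hcA := coe_inducedFinset K A
  have hcB := coe_inducedFinset K B
  -- degree of an induced character
  have hdeg : ∀ (X : Subgroup L) (θ : IrrCharacter K), θ ∈ irrAboveFinset K X →
      d (indFun K (θ : K → ℂ)) = K.index * irrDeg θ := by
    intro X θ hθ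
    rw [mem_irrAboveFinset] at hθ
    have hmem : indFun K (θ : K → ℂ) ∈ inducedIrrAbove K ⊥ :=
      inducedIrrAbove_subset_bot K X ⟨θ.1, θ.2, hθ.1, hθ.2, rfl⟩
    have := hd _ hmem
    rw [indFun_apply_one, irrDeg_spec] at this
    exact_mod_cast this.symm
  obtain ⟨lam, hlam, hlam1⟩ := exists_linear_mem_irrAboveFinset K hsolv A hAK
  obtain ⟨μ, hμ, -⟩ := exists_linear_mem_irrAboveFinset K hsolv B hBK
  have hkpos : 0 < K.index := Nat.pos_of_ne_zero Subgroup.index_ne_zero_of_finite
  rw [← hcB]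
  refine coherent_extend hS d n hd hn (inducedFinset K A) (inducedFinset K B) ?_ ?_ ?_ ?_ ?_ ?_
    (indFun K (lam : K → ℂ)) ?_ ?_ ?_
  · rw [hcA]; exact inducedIrrAbove_subset_bot K A
  · rw [hcB]; exact inducedIrrAbove_subset_bot K B
  · intro φ hφ
    have h1 : φ ∈ (↑(inducedFinset K A) : Set (L → ℂ)) := hφ
    rw [hcA] at h1
    have h2 := conjFun_mem_inducedIrrAbove K h1
    rw [← hcA] at h2
    exact h2
  · intro φ hφ
    have h1 : φ ∈ (↑(inducedFinset K B) : Set (L → ℂ)) := hφ
    rw [hcB] at h1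
    have h2 := conjFun_mem_inducedIrrAbove K h1
    rw [← hcB] at h2
    exact h2
  · rw [hcA]; exact hA
  · exact ⟨_, Finset.mem_image_of_mem _ hμ⟩
  · exact Finset.mem_image_of_mem _ hlam
  · intro χ hχ
    obtain ⟨θ, hθ, rfl⟩ := Finset.mem_image.1 hχ
    rw [hdeg A lam hlam, hdeg B θ hθ, hlam1, mul_one]
    exact Dvd.intro _ rfl
  · intro χ hχ
    obtain ⟨θ, hθ, rfl⟩ := Finset.mem_image.1 hχ
    rw [sum_inducedFinset K A d n
      (fun φ hφ => hd φ (inducedIrrAbove_subset_bot K A hφ))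
      (fun φ hφ => hn φ (inducedIrrAbove_subset_bot K A hφ)),
      hdeg A lam hlam, hdeg B θ hθ, hlam1, mul_one]
    -- the degree bound
    have hθ' := (mem_irrAboveFinset K B θ).1 hθ
    have hbound := IsIrrCharacter.degree_sq_le_of_central θ.2 (C.subgroupOf K) (D.subgroupOf K)
      (by
        intro x hx y hy
        apply hθ'.2
        have := hcent x (Subgroup.mem_subgroupOf.1 hx) y (Subgroup.mem_subgroupOf.1 hy)
        simpa using this) (irrDeg θ) (irrDeg_spec θ)
    rw [Subgroup.relIndex_subgroupOf hCK] at hbound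
    have hidx : C.relIndex K * K.index = C.index := Subgroup.relIndex_mul_index hCK
    have hidx' : (C.subgroupOf K).index = C.relIndex K := rfl
    rw [hidx'] at hbound
    have hsq : (2 * K.index * irrDeg θ) ^ 2 < (A.relIndex K - 1) ^ 2 := by
      calc (2 * K.index * irrDeg θ) ^ 2 = 4 * K.index ^ 2 * irrDeg θ ^ 2 := by ring
        _ ≤ 4 * K.index ^ 2 * (C.relIndex K ^ 2 * D.relIndex C) := Nat.mul_le_mul_left _ hbound
        _ = 4 * (C.relIndex K * K.index) ^ 2 * D.relIndex C := by ring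
        _ = 4 * C.index ^ 2 * D.relIndex C := by rw [hidx]
        _ < (A.relIndex K - 1) ^ 2 := hlt
    have hlin : 2 * K.index * irrDeg θ < A.relIndex K - 1 := by
      by_contra hcon
      have := Nat.pow_le_pow_left (not_lt.1 hcon) 2
      omega
    have hlin' : (2 * K.index * irrDeg θ : ℝ) + 1 < (A.relIndex K : ℝ) := by
      have : 2 * K.index * irrDeg θ + 1 < A.relIndex K := by omega
      exact_mod_cast this
    have hk : (0 : ℝ) < (K.index : ℝ) := by exact_mod_cast hkpos
    push_cast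
    nlinarith

end Cfsg.Agent.S1519
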