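import Cfsg.Statements.S1520
import Cfsg.Agent.S1519
import Cfsg.Agent.Lib.Helper11.NilSection

set_option autoImplicit false
open Cfsg
open Cfsg.Agent.Lib.Helper11

namespace Cfsg.Agent.S1520

/-- Let K be a solvable normal subgroup of the finite group L and (S, τ, R) a coherence system from L to G with S the functions induced from non-principal irreducible characters of K; S(A) the members of S induced from characters whose kernel contains A. Let M ≤ H₁ ≤ H ≤ K be normal subgroups of L such that every term of the lower central series of H eventually lies in M (H/M nilpotent), S(H₁) is coherent and [H:H₁] > 4 * [L:K]^2 + 1. Then S(M) is coherent. -/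
theorem result {L : Type*} [Group L] [Fintype L] {G : Type*} [Group G] [Fintype G] (K : Subgroup L) [hK : K.Normal] (hsolv : Group.IsSolvable K) (τ : (L → ℂ) → (G → ℂ)) (R : (L → ℂ) → Finset (G → ℂ)) (hS : Cfsg.IsCoherenceSystem (Cfsg.inducedIrrAbove K ⊥) τ R) (M H₁ H : Subgroup L) [M.Normal] [H₁.Normal] [H.Normal] (hMH₁ : M ≤ H₁) (hH₁H : H₁ ≤ H) (hHK : H ≤ K) [(M.subgroupOf H).Normal] (hnil : Group.IsNilpotent (↥H ⧸ M.subgroupOf H)) (hcoh : Cfsg.IsCoherent (Cfsg.inducedIrrAbove K H₁) {1}ᶜ τ) (hbig : 4 * K.index ^ 2 + 1 < H₁.relIndex H) : Cfsg.IsCoherent (Cfsg.inducedIrrAbove K M) {1}ᶜ τ := by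
  obtain ⟨c, hc⟩ := exists_lowerCentralSeries_le_of_nilpotent_quotient H M hnil
  have hrel_ne : ∀ X Y : Subgroup L, X.relIndex Y ≠ 0 := fun X Y =>
    (Subgroup.index_ne_zero_of_finite : (X.subgroupOf Y).index ≠ 0)
  suffices key : ∀ k : ℕ, ∀ H₁ : Subgroup L, H₁.Normal → M ≤ H₁ → H₁ ≤ H →
      IsCoherent (inducedIrrAbove K H₁) {1}ᶜ τ → 4 * K.index ^ 2 + 1 < H₁.relIndex H →
      Nat.card H₁ = k → IsCoherent (inducedIrrAbove K M) {1}ᶜ τ from
    key _ H₁ inferInstance hMH₁ hH₁H hcoh hbig rfl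
  intro k
  induction k using Nat.strong_induction_on with
  | _ k ih =>
    intro H₁ hH₁n hMH₁ hH₁H hcoh hbig hk
    by_cases heq : H₁ = M
    · rw [← heq]; exact hcoh
    · haveI := hH₁n
      have hH₂n : (M ⊔ ⁅H₁, H⁆).Normal := inferInstance
      have hH₂le : M ⊔ ⁅H₁, H⁆ ≤ H₁ := sup_le hMH₁ (Subgroup.commutator_le_left H₁ H)
      have hH₂ne : M ⊔ ⁅H₁, H⁆ ≠ H₁ := by
        intro h
        apply heq
        exact le_antisymm (le_of_le_sup_commutator M H₁ H hH₁H c hc (le_of_eq h.symm)) hMH₁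
      have hlt : M ⊔ ⁅H₁, H⁆ < H₁ := lt_of_le_of_ne hH₂le hH₂ne
      have hH₁ltH : H₁ < H := by
        refine lt_of_le_of_ne hH₁H ?_
        intro h
        have : H₁.relIndex H = 1 := Subgroup.relIndex_eq_one.2 (le_of_eq h.symm)
        omega
      have hcent : ∀ x ∈ H₁, ∀ y ∈ H, x * y * x⁻¹ * y⁻¹ ∈ M ⊔ ⁅H₁, H⁆ := by
        intro x hx y hy
        have := Subgroup.commutator_mem_commutator hx hy
        rw [commutatorElement_def] at this
        exact (le_sup_right : ⁅H₁, H⁆ ≤ M ⊔ ⁅H₁, H⁆) this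
      -- numerics
      have hidx : H.relIndex K * K.index = H.index := Subgroup.relIndex_mul_index hHK
      have hrel : H₁.relIndex H * H.relIndex K = H₁.relIndex K :=
        Subgroup.relIndex_mul_relIndex _ _ _ hH₁H hHK
      have hkpos : 0 < H.relIndex K := Nat.pos_of_ne_zero (hrel_ne _ _)
      have hlpos : 0 < K.index := Nat.pos_of_ne_zero Subgroup.index_ne_zero_of_finite
      have hnum : 4 * H.index ^ 2 * H₁.relIndex H < (H₁.relIndex K - 1) ^ 2 := by
        rw [← hidx, ← hrel]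
        generalize H.relIndex K = k' at hkpos
        generalize K.index = l at hlpos hbig
        generalize H₁.relIndex H = h at hbig
        have h1 : 1 ≤ h * k' := by nlinarith
        zify [h1]
        have hk1 : (1 : ℤ) ≤ k' := by exact_mod_cast hkpos
        have hh : (4 : ℤ) * l ^ 2 + 2 ≤ h := by exact_mod_cast hbig
        have e1 : (0 : ℤ) ≤ (k' : ℤ) ^ 2 * h * (h - 4 * l ^ 2 - 2) := by
          apply mul_nonneg
          · positivity
          · linarith
        have e2 : (0 : ℤ) ≤ (h : ℤ) * k' * (k' - 1) := by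
          apply mul_nonneg
          · positivity
          · linarith
        nlinarith
      have hcoh₂ := Cfsg.Agent.S1519.result K hsolv τ R hS H₁ (M ⊔ ⁅H₁, H⁆) H H₁
        (lt_of_lt_of_le hH₁ltH hHK) (lt_of_lt_of_le hlt (hH₁H.trans hHK)) hH₂le hH₁H hHK hcent
        hcoh hnum
      have hbig' : 4 * K.index ^ 2 + 1 < (M ⊔ ⁅H₁, H⁆).relIndex H := by
        have := Subgroup.relIndex_le_of_le_left (L := H) hH₂le (hrel_ne _ _)
        omega
      have hcard : Nat.card (M ⊔ ⁅H₁, H⁆ : Subgroup L) < k := by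
        rw [← hk]
        have h1 : ((M ⊔ ⁅H₁, H⁆ : Subgroup L) : Set L) ⊂ (H₁ : Set L) := by
          rw [SetLike.coe_ssubset_coe]; exact hlt
        have := Set.ncard_lt_ncard h1 (Set.toFinite _)
        rwa [← Nat.card_coe_set_eq, ← Nat.card_coe_set_eq] at this
      exact ih _ hcard (M ⊔ ⁅H₁, H⁆) hH₂n le_sup_left (hH₂le.trans hH₁H) hcoh₂ hbig' rfl

end Cfsg.Agent.S1520
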