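import Cfsg.Statements.S1521
import Cfsg.Agent.S1520
import Cfsg.Agent.Lib.Helper11.FrobQuot
import Cfsg.Agent.Lib.Helper11.NilQuot

set_option autoImplicit false
open Cfsg
open Cfsg.Agent.Lib.Helper11

namespace Cfsg.Agent.S1521

/-- An odd number `r ≠ 1` congruent to `1` modulo the odd number `e` is at least `2e + 1`. -/
theorem two_mul_add_one_le {e r : ℕ} (he : Odd e) (hr : Odd r) (hr1 : r ≠ 1)
    (hd : e ∣ r - 1) : 2 * e + 1 ≤ r := by
  obtain ⟨a, ha⟩ := hd
  have hr0 : 1 ≤ r := hr.pos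
  rcases Nat.even_or_odd a with hae | hao
  · obtain ⟨b, hb⟩ := hae
    have hb0 : b ≠ 0 := by
      rintro rfl
      simp at hb
      rw [hb, mul_zero] at ha
      omega
    have : 1 ≤ b := Nat.pos_of_ne_zero hb0
    have h2 : e * 1 ≤ e * b := Nat.mul_le_mul_left _ this
    rw [hb] at ha
    have : e * (b + b) = e * b + e * b := by ring
    omega
  · exfalso
    have h1 : Odd (e * a) := he.mul hao
    rw [← ha] at h1
    obtain ⟨c, hc⟩ := hr
    obtain ⟨d, hd⟩ := h1
    omega

/-- Let K be a solvable normal subgroup of the finite group L of odd order and (S, τ, R) a coherence system from L to G with S the functions induced from non-principal irreducible characters of K; S(A) as before. Let M ≤ K be normal in L with K/M nilpotent, H₁ = [K, K] ⊔ M, H₁ < K < L, and suppose every element of K outside H₁ is centralised modulo H₁ only from inside K (L/H₁ is a Frobenius group with kernel K/H₁). Suppose one of the following: some normal subgroup of L lies strictly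 between H₁ and K; or [K:H₁] > 4[L:K]^2 + 1; or [K:M] is not a prime power; or [K,K] ≤ M; or [K:M] is a power of a prime p with [L:K] dividing p − 1. Then S(M) is coherent. -/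
theorem result {L : Type*} [Group L] [Fintype L] {G : Type*} [Group G] [Fintype G] (K : Subgroup L) [hK : K.Normal] (hsolv : Group.IsSolvable K) (τ : (L → ℂ) → (G → ℂ)) (R : (L → ℂ) → Finset (G → ℂ)) (hS : Cfsg.IsCoherenceSystem (Cfsg.inducedIrrAbove K ⊥) τ R) (hodd : Odd (Nat.card L)) (M : Subgroup L) [M.Normal] (hMK : M ≤ K) [(M.subgroupOf K).Normal] (hnil : Group.IsNilpotent (↥K ⧸ M.subgroupOf K)) (H₁ : Subgroup L) (hH₁ : H₁ = ⁅K, K⁆ ⊔ M) (hH₁K : H₁ < K) (hKL : K < ⊤) (hfrob : ∀ k ∈ K, k ∉ H₁ → ∀ x : L, x * k * x⁻¹ * k⁻¹ ∈ H₁ → x ∈ K) (hgood : (∃ N : Subgroup L, N.Normal ∧ H₁ < N ∧ N < K) ∨ 4 * K.index ^ 2 + 1 < H₁.relIndex K ∨ (¬ ∃ p m : ℕ, p.Prime ∧ M.relIndex K = p ^ m) ∨ ⁅K, K⁆ ≤ M ∨ (∃ p m : ℕ, p.Prime ∧ M.relIndex K = p ^ m ∧ K.index ∣ p - 1)) : Cfsg.IsCoherent (Cfsg.inducedIrrAbove K M) {1}ᶜ τ := by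
  classical
  haveI hH₁n : H₁.Normal := by rw [hH₁]; infer_instance
  have hcomm : ⁅K, K⁆ ≤ H₁ := by rw [hH₁]; exact le_sup_left
  have hMH₁ : M ≤ H₁ := by rw [hH₁]; exact le_sup_right
  have hcohH₁ : IsCoherent (inducedIrrAbove K H₁) {1}ᶜ τ :=
    coherent_inducedIrrAbove_of_commutator_le K hsolv hS H₁ hcomm hH₁K
  -- (b) gives the result
  have hb : 4 * K.index ^ 2 + 1 < H₁.relIndex K → IsCoherent (inducedIrrAbove K M) {1}ᶜ τ :=
    fun h => Cfsg.Agent.S1520.result K hsolv τ R hS M H₁ K hMH₁ hH₁K.le le_rfl hnil hcohH₁ h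
  -- (d) gives the result
  have hd : ⁅K, K⁆ ≤ M → IsCoherent (inducedIrrAbove K M) {1}ᶜ τ := by
    intro h
    have : H₁ = M := by rw [hH₁]; exact sup_eq_right.2 h
    rw [← this]; exact hcohH₁
  -- parity facts
  have hodd_of_dvd : ∀ n : ℕ, n ∣ Nat.card L → Odd n := fun n hn => Odd.of_dvd_nat hodd hn
  have he_odd : Odd K.index := hodd_of_dvd _ (Subgroup.index_dvd_card K)
  have hrel_dvd : ∀ X : Subgroup L, X.relIndex K ∣ Nat.card L := fun X =>
    (Subgroup.relIndex_dvd_card X K).trans (Subgroup.card_subgroup_dvd_card K)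
  have hrel_ne : ∀ X Y : Subgroup L, X.relIndex Y ≠ 0 := fun X Y =>
    (Subgroup.index_ne_zero_of_finite : (X.subgroupOf Y).index ≠ 0)
  -- (a) gives (b)
  have ha : (∃ N : Subgroup L, N.Normal ∧ H₁ < N ∧ N < K) →
      4 * K.index ^ 2 + 1 < H₁.relIndex K := by
    rintro ⟨N, hNn, hH₁N, hNK⟩
    haveI := hNn
    have d1 := index_dvd_relIndex_sub_one K H₁ hcomm hfrob N hH₁N.le
    have d2 := index_dvd_relIndex_sub_one K H₁ hcomm hfrob H₁ le_rfl
    have hmul : H₁.relIndex N * N.relIndex K = H₁.relIndex K :=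
      Subgroup.relIndex_mul_relIndex _ _ _ hH₁N.le hNK.le
    have hr1 : N.relIndex K ≠ 1 := fun h => (not_le_of_gt hNK) (Subgroup.relIndex_eq_one.1 h)
    have hr2 : H₁.relIndex N ≠ 1 := fun h => (not_le_of_gt hH₁N) (Subgroup.relIndex_eq_one.1 h)
    have ho1 : Odd (N.relIndex K) := hodd_of_dvd _ (hrel_dvd N)
    have ho2 : Odd (H₁.relIndex N) :=
      hodd_of_dvd _ ((Dvd.intro _ hmul).trans (hrel_dvd H₁))
    have hp1 : 1 ≤ N.relIndex K := Nat.pos_of_ne_zero (hrel_ne _ _)
    have hp2 : 1 ≤ H₁.relIndex N := Nat.pos_of_ne_zero (hrel_ne _ _)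
    have d3 : K.index ∣ H₁.relIndex N - 1 := by
      have e1 : H₁.relIndex K - 1 = H₁.relIndex N * (N.relIndex K - 1) + (H₁.relIndex N - 1) := by
        rw [← hmul, Nat.mul_sub, mul_one]
        have : H₁.relIndex N ≤ H₁.relIndex N * N.relIndex K := Nat.le_mul_of_pos_right _ hp1
        omega
      rw [e1] at d2
      exact (Nat.dvd_add_right (Dvd.dvd.mul_left d1 _)).1 d2
    have b1 := two_mul_add_one_le he_odd ho1 hr1 d1
    have b2 := two_mul_add_one_le he_odd ho2 hr2 d3
    rw [← hmul]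
    have := Nat.mul_le_mul b2 b1
    have hepos : 0 < K.index := he_odd.pos
    have hsq : (2 * K.index + 1) * (2 * K.index + 1) = 4 * K.index ^ 2 + 4 * K.index + 1 := by ring
    omega
  rcases hgood with h | h | h | h | h
  · exact hb (ha h)
  · exact hb h
  · -- (c)
    by_cases hpp : ∃ p j : ℕ, p.Prime ∧ H₁.relIndex K = p ^ j
    · obtain ⟨p, j, hp, hj⟩ := hpp
      exfalso
      apply h
      rw [hH₁] at hj
      obtain ⟨m, hm⟩ := relIndex_prime_pow_of_nilpotent K M hMK hnil p hp j hj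
      exact ⟨p, m, hp, hm⟩
    · exact hb (ha (exists_normal_between_of_not_prime_pow K H₁ hcomm hH₁K.le hpp))
  · exact hd h
  · -- (e)
    obtain ⟨p, m, hp, hpm, hdvd⟩ := h
    have hrel : H₁.relIndex K ∣ M.relIndex K := Subgroup.relIndex_dvd_of_le_left K hMH₁
    rw [hpm] at hrel
    obtain ⟨j, hjm, hj⟩ := (Nat.dvd_prime_pow hp).1 hrel
    have hne1 : H₁.relIndex K ≠ 1 := fun h1 =>
      (not_le_of_gt hH₁K) (Subgroup.relIndex_eq_one.1 h1)
    have hj0 : j ≠ 0 := by
      rintro rfl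
      rw [pow_zero] at hj
      exact hne1 hj
    -- p is odd and 2e ≤ p - 1
    have hp_odd : Odd p := by
      apply hodd_of_dvd
      have : p ∣ H₁.relIndex K := by rw [hj]; exact dvd_pow_self p hj0
      exact this.trans (hrel_dvd H₁)
    have h2e : 2 * K.index ≤ p - 1 := by
      have hp1 : 0 < p - 1 := by have := hp.two_le; omega
      have heven : 2 ∣ p - 1 := by
        obtain ⟨c, hc⟩ := hp_odd
        exact ⟨c, by omega⟩
      have hcop : Nat.Coprime 2 K.index := (Nat.coprime_two_left).2 he_odd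
      exact Nat.le_of_dvd hp1 (hcop.mul_dvd_of_dvd_of_dvd heven hdvd)
    by_cases hj1 : j = 1
    · -- cyclic abelianization
      apply hd
      apply commutator_le_of_prime_relIndex K M hMK hnil
      rw [← hH₁, hj, hj1, pow_one]
      exact hp
    · apply hb
      rw [hj]
      have hj2 : 2 ≤ j := by omega
      have h1 : p ^ 2 ≤ p ^ j := Nat.pow_le_pow_right hp.pos hj2
      have h2 : 2 * K.index + 1 ≤ p := by have := hp.two_le; omega
      have h3 := Nat.mul_le_mul h2 h2
      have hepos : 0 < K.index := he_odd.pos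
      have hsq : (2 * K.index + 1) * (2 * K.index + 1) = 4 * K.index ^ 2 + 4 * K.index + 1 := by
        ring
      have hp2 : p ^ 2 = p * p := by ring
      omega

end Cfsg.Agent.S1521
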