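import Cfsg.Statements.S1522
import Cfsg.Agent.S1521
import Cfsg.Agent.Lib.Helper11.CohExtend2
import Cfsg.Agent.Lib.Helper11.IndIrr3
import Cfsg.Agent.Lib.Helper11.Clifford5
import Cfsg.Agent.Lib.Helper11.CentralBound
import Cfsg.Agent.S1517

set_option autoImplicit false
open Cfsg
open Cfsg.Agent.Lib.Helper2 Cfsg.Agent.Lib.Helper11

namespace Cfsg.Agent.S1522

section Basic
open Classical

variable {L : Type*} [Group L] [Fintype L] (K : Subgroup L) [hK : K.Normal]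
  (Z : Subgroup L) [hZ : Z.Normal]

/-- `θ` is not trivial on `Z ∩ K`. -/
def NontrivOn (θ : K → ℂ) : Prop := ∃ z : K, (z : L) ∈ Z ∧ θ z ≠ θ 1

omit [Fintype L] hK hZ in
theorem not_nontrivOn_iff (θ : K → ℂ) :
    ¬ NontrivOn K Z θ ↔ ∀ a : K, (a : L) ∈ Z → θ a = θ 1 := by
  unfold NontrivOn
  constructor
  · intro h a ha
    by_contra hne
    exact h ⟨a, ha, hne⟩
  · rintro h ⟨z, hz, hne⟩
    exact hne (h z hz)

omit [Fintype L] hZ in
theorem nontrivOn_conjFn {θ : K → ℂ} (hθ : NontrivOn K Z θ) (g : L) [hZ' : Z.Normal] :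
    NontrivOn K Z (conjFn K g θ) := by
  obtain ⟨z, hz, hne⟩ := hθ
  refine ⟨⟨g⁻¹ * z * g⁻¹⁻¹, hK.conj_mem z z.2 g⁻¹⟩, hZ'.conj_mem z hz g⁻¹, ?_⟩
  rw [conjFn_apply, conjFn_apply]
  have e1 : (⟨g * ((⟨g⁻¹ * z * g⁻¹⁻¹, hK.conj_mem z z.2 g⁻¹⟩ : K) : L) * g⁻¹,
      hK.conj_mem _ (Subtype.property _) g⟩ : K) = z := by
    apply Subtype.ext
    simp [mul_assoc]
  have e2 : (⟨g * ((1 : K) : L) * g⁻¹, hK.conj_mem _ (1 : K).2 g⟩ : K) = 1 := by
    apply Subtype.ext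
    simp
  rw [e1, e2]
  exact hne

/-- Membership in `S ∖ S(Z)`. -/
theorem mem_diff_iff (χ : L → ℂ) :
    χ ∈ inducedIrrAbove K ⊥ \ inducedIrrAbove K Z ↔
      ∃ θ : K → ℂ, IsIrrCharacter K θ ∧ NontrivOn K Z θ ∧ χ = indFun K θ := by
  constructor
  · rintro ⟨⟨θ, hθ, hne, -, rfl⟩, hnot⟩
    refine ⟨θ, hθ, ?_, rfl⟩
    by_contra hnt
    rw [not_nontrivOn_iff] at hnt
    exact hnot ⟨θ, hθ, hne, hnt, rfl⟩
  · rintro ⟨θ, hθ, hnt, rfl⟩
    refine ⟨⟨θ, hθ, ?_, ?_, rfl⟩, ?_⟩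
    · rintro rfl
      obtain ⟨z, -, hne⟩ := hnt
      exact hne rfl
    · intro a ha
      rw [Subgroup.mem_bot] at ha
      have : a = 1 := Subtype.ext ha
      rw [this]
    · rintro ⟨θ', hθ', -, htriv, heq⟩
      obtain ⟨g, hg⟩ := exists_conjFn_eq_of_indFun_eq K hθ' hθ heq.symm
      have h1 := nontrivOn_conjFn K Z hnt g
      rw [hg] at h1
      exact (not_nontrivOn_iff K Z θ').2 htriv h1

/-- The first assertion of (6.5). -/
theorem diff_eq_irr (hZK : Z ≤ K)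
    (hirr : ∀ χ ∈ inducedIrrAbove K ⊥ \ inducedIrrAbove K Z, IsIrrCharacter L χ) :
    inducedIrrAbove K ⊥ \ inducedIrrAbove K Z
      = {χ | IsIrrCharacter L χ ∧ ∃ z ∈ Z, χ z ≠ χ 1} := by
  ext χ
  constructor
  · intro hχ
    refine ⟨hirr χ hχ, ?_⟩
    obtain ⟨θ, hθ, ⟨z, hz, hne⟩, rfl⟩ := (mem_diff_iff K Z χ).1 hχ
    refine ⟨(z : L), hz, ?_⟩
    intro h
    have h1 := apply_conj_eq_of_indFun_apply_eq K (IsIrrCharacter.isCharacter hθ) z h 1
    apply hne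
    have e1 : (⟨1 * (z : L) * 1⁻¹, hK.conj_mem z z.2 1⟩ : K) = z := by
      apply Subtype.ext
      simp
    rw [e1] at h1
    exact h1
  · rintro ⟨hχ, z, hz, hne⟩
    have hψ : IsCharacter K (fun k : K => χ k) :=
      IsCharacter.restrict (IsIrrCharacter.isCharacter hχ) K
    have hne' : (fun k : K => χ k) (⟨z, hZK hz⟩ : K) ≠ (fun k : K => χ k) 1 := hne
    obtain ⟨φ, hφ, hφne, hinner⟩ :=
      exists_constituent_apply_ne (IsCharacter.isClassFunction hψ) hne'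
    have hnt : NontrivOn K Z φ := ⟨⟨z, hZK hz⟩, hz, hφne⟩
    have hmem : indFun K φ ∈ inducedIrrAbove K ⊥ \ inducedIrrAbove K Z :=
      (mem_diff_iff K Z _).2 ⟨φ, hφ, hnt, rfl⟩
    have hirrInd := hirr _ hmem
    have hfrob := frobenius_reciprocity K φ χ
      (IsCharacter.isClassFunction (IsIrrCharacter.isCharacter hχ))
    have hne0 : classInner (indFun K φ) χ ≠ 0 := by
      rw [hfrob, ← classInner_conj_symm]
      intro h0
      apply hinner
      have := congrArg (starRingEnd ℂ) h0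
      simpa using this
    have heq := eq_of_irr_of_classInner_ne_zero hirrInd hχ hne0
    rw [← heq]
    exact hmem

omit hK hZ in
/-- Some irreducible character of `K` is not trivial on `Z`. -/
theorem exists_irr_nontrivOn (hZ1 : Z ≠ ⊥) (hZK : Z ≤ K) :
    ∃ θ : IrrCharacter K, NontrivOn K Z (θ : K → ℂ) := by
  haveI : Fintype (IrrCharacter K) := Fintype.ofFinite _
  obtain ⟨⟨z, hz⟩, hz1⟩ := Subgroup.ne_bot_iff_exists_ne_one.1 hZ1
  have hz1' : z ≠ 1 := by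
    intro h
    apply hz1
    apply Subtype.ext
    simpa using h
  have hzK1 : (⟨z, hZK hz⟩ : K) ≠ 1 := by
    intro h
    apply hz1'
    simpa using congrArg Subtype.val h
  by_contra hcon
  push Not at hcon
  have hall' : ∀ θ : IrrCharacter K, (θ : K → ℂ) ⟨z, hZK hz⟩ = (θ : K → ℂ) 1 := fun θ =>
    (not_nontrivOn_iff K Z _).1 (hcon θ) ⟨z, hZK hz⟩ hz
  have h1 := sum_irr_degree_mul (G := K) (⟨z, hZK hz⟩ : K)
  rw [if_neg hzK1] at h1
  have h2 := sum_irr_degree_sq (G := K)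
  have h3 : ∑ χ : IrrCharacter K, (χ : K → ℂ) 1 * (χ : K → ℂ) ⟨z, hZK hz⟩
      = ∑ χ : IrrCharacter K, (χ : K → ℂ) 1 ^ 2 := by
    apply Finset.sum_congr rfl
    intro χ _
    rw [hall' χ, sq]
  rw [h1, h2] at h3
  have hne0 : (Nat.card K : ℂ) ≠ 0 := by exact_mod_cast Nat.card_pos.ne'
  exact hne0 h3.symm

/-- Natural-number form of `sum_degree_sq_of_ker`. -/
theorem card_mul_sum_irrDeg_sq {K' : Type*} [Group K'] [Fintype K'] [Fintype (IrrCharacter K')]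
    (N : Subgroup K') [N.Normal] :
    Nat.card N * ∑ χ ∈ Finset.univ.filter (fun χ : IrrCharacter K' =>
      ∀ n ∈ N, (χ : K' → ℂ) n = (χ : K' → ℂ) 1), irrDeg χ ^ 2 = Nat.card K' := by
  have h := sum_degree_sq_of_ker N
  have h2 : ((Nat.card N * ∑ χ ∈ Finset.univ.filter (fun χ : IrrCharacter K' =>
      ∀ n ∈ N, (χ : K' → ℂ) n = (χ : K' → ℂ) 1), irrDeg χ ^ 2 : ℕ) : ℂ)
      = (Nat.card K' : ℂ) := by
    rw [← h]
    push_cast
    congr 1
    apply Finset.sum_congr rfl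
    intro χ _
    rw [irrDeg_spec]
  exact_mod_cast h2

end Basic

section PGroup
open Classical

variable {L : Type*} [Group L] [Fintype L] {G : Type*} [Group G] [Fintype G]
  (K : Subgroup L) [hK : K.Normal] (Z : Subgroup L) [hZ : Z.Normal]

/-- (6.5), second assertion, when `K` is a `p`-group. -/
theorem coherent_of_pgroup (τ : (L → ℂ) → (G → ℂ)) (R : (L → ℂ) → Finset (G → ℂ))
    (hS : IsCoherenceSystem (inducedIrrAbove K ⊥) τ R) (hodd : Odd (Nat.card L))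
    (hH₁K : ⁅K, K⁆ < K)
    (hfrob : ∀ k ∈ K, k ∉ ⁅K, K⁆ → ∀ x : L, x * k * x⁻¹ * k⁻¹ ∈ ⁅K, K⁆ → x ∈ K)
    (hZ1 : Z ≠ ⊥) (hZK : Z ≤ K) (hZc : ∀ z ∈ Z, ∀ k ∈ K, z * k = k * z)
    (hirr : ∀ χ ∈ inducedIrrAbove K ⊥ \ inducedIrrAbove K Z, IsIrrCharacter L χ)
    (p : ℕ) (hp : p.Prime) (M : ℕ) (hcard : Nat.card K = p ^ M) :
    IsCoherent (inducedIrrAbove K ⊥ \ inducedIrrAbove K Z) {1}ᶜ τ := by
  haveI : Fintype (IrrCharacter K) := Fintype.ofFinite _
  set e := K.index with he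
  have hepos : 0 < e := Nat.pos_of_ne_zero Subgroup.index_ne_zero_of_finite
  -- degrees and norms as natural numbers
  have hd' : ∀ φ : L → ℂ, ∃ m : ℕ, φ ∈ inducedIrrAbove K ⊥ → φ 1 = (m : ℂ) := by
    intro φ
    by_cases h : φ ∈ inducedIrrAbove K ⊥
    · obtain ⟨m, hm⟩ := IsCharacter.apply_one (hS.isCharacter φ h)
      exact ⟨m, fun _ => hm⟩
    · exact ⟨0, fun h' => absurd h' h⟩
  choose d hd using hd'
  have hn' : ∀ φ : L → ℂ, ∃ m : ℕ, φ ∈ inducedIrrAbove K ⊥ → classInner φ φ = (m : ℂ) := by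
    intro φ
    by_cases h : φ ∈ inducedIrrAbove K ⊥
    · obtain ⟨m, hm⟩ := classInner_isCharacter_nat (hS.isCharacter φ h) (hS.isCharacter φ h)
      exact ⟨m, fun _ => hm⟩
    · exact ⟨0, fun h' => absurd h' h⟩
  choose n hn using hn'
  set S₀ := inducedIrrAbove K ⊥ \ inducedIrrAbove K Z with hS₀
  have hS₀S : S₀ ⊆ inducedIrrAbove K ⊥ := Set.sdiff_subset
  -- the finite sets
  let T₀ : Finset (IrrCharacter K) :=
    Finset.univ.filter (fun θ : IrrCharacter K => NontrivOn K Z (θ : K → ℂ))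
  let T : ℕ → Finset (IrrCharacter K) := fun m => T₀.filter (fun θ => irrDeg θ ≤ m)
  let F : ℕ → Finset (L → ℂ) := fun m =>
    (T m).image (fun θ : IrrCharacter K => indFun K (θ : K → ℂ))
  have hT₀mem : ∀ θ : IrrCharacter K, θ ∈ T₀ ↔ NontrivOn K Z (θ : K → ℂ) := by
    intro θ
    simp only [T₀, Finset.mem_filter, Finset.mem_univ, true_and]
  have hTmem : ∀ (m : ℕ) (θ : IrrCharacter K),
      θ ∈ T m ↔ NontrivOn K Z (θ : K → ℂ) ∧ irrDeg θ ≤ m := by
    intro m θ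
    simp only [T, Finset.mem_filter, hT₀mem]
  have hTsub : ∀ m, T m ⊆ T₀ := fun m => Finset.filter_subset _ _
  have hS₀of : ∀ θ ∈ T₀, indFun K (θ : K → ℂ) ∈ S₀ := fun θ hθ =>
    (mem_diff_iff K Z _).2 ⟨θ.1, θ.2, (hT₀mem θ).1 hθ, rfl⟩
  have hFS₀ : ∀ m, (↑(F m) : Set (L → ℂ)) ⊆ S₀ := by
    intro m χ hχ
    obtain ⟨θ, hθ, rfl⟩ := Finset.mem_image.1 (Finset.mem_coe.1 hχ)
    exact hS₀of θ (hTsub m hθ)
  have hindirr : ∀ θ ∈ T₀, IsIrrCharacter L (indFun K (θ : K → ℂ)) := fun θ hθ =>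
    hirr _ (hS₀of θ hθ)
  have hnorm : ∀ θ ∈ T₀,
      classInner (indFun K (θ : K → ℂ)) (indFun K (θ : K → ℂ)) = 1 := fun θ hθ =>
    classInner_irrCharacter_self (⟨_, hindirr θ hθ⟩ : IrrCharacter L)
  have hdeg : ∀ θ ∈ T₀, d (indFun K (θ : K → ℂ)) = e * irrDeg θ := by
    intro θ hθ
    have := hd _ (hS₀S (hS₀of θ hθ))
    rw [indFun_apply_one, irrDeg_spec] at this
    exact_mod_cast this.symm
  have hn1 : ∀ θ ∈ T₀, n (indFun K (θ : K → ℂ)) = 1 := by
    intro θ hθ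
    have := hn _ (hS₀S (hS₀of θ hθ))
    rw [hnorm θ hθ] at this
    exact_mod_cast this.symm
  have hne1 : ∀ θ ∈ T₀, (θ : K → ℂ) ≠ fun _ => 1 := by
    intro θ hθ h
    obtain ⟨z, -, hz⟩ := (hT₀mem θ).1 hθ
    rw [h] at hz
    exact hz rfl
  have hclosed : ∀ m, ∀ θ ∈ T m, ∀ θ' : IrrCharacter K,
      indFun K (θ' : K → ℂ) = indFun K (θ : K → ℂ) → θ' ∈ T m ∧ irrDeg θ' = irrDeg θ := by
    intro m θ hθ θ' h
    have hθ' := (hTmem m θ).1 hθ
    have hmemb : θ ∈ irrAboveFinset K ⊥ := by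
      rw [mem_irrAboveFinset]
      refine ⟨hne1 θ (hTsub m hθ), ?_⟩
      intro a ha
      rw [Subgroup.mem_bot] at ha
      have : a = 1 := Subtype.ext ha
      rw [this]
    have hdeg' := (mem_irrAboveFinset_of_indFun_eq K ⊥ hmemb h).2
    obtain ⟨g, hg⟩ := exists_conjFn_eq_of_indFun_eq K θ'.2 θ.2 h
    refine ⟨(hTmem m θ').2 ⟨?_, by rw [hdeg']; exact hθ'.2⟩, hdeg'⟩
    rw [← hg]
    exact nontrivOn_conjFn K Z hθ'.1 g
  -- conjugation
  have hconjT : ∀ m, ∀ θ ∈ T m, ∃ θc ∈ T m, (θc : K → ℂ) = Cfsg.conjFun (θ : K → ℂ) := by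
    intro m θ hθ
    have hθ' := (hTmem m θ).1 hθ
    refine ⟨⟨Cfsg.conjFun (θ : K → ℂ), isIrrCharacter_conj θ.2⟩, ?_, rfl⟩
    rw [hTmem]
    constructor
    · obtain ⟨z, hz, hne⟩ := hθ'.1
      refine ⟨z, hz, ?_⟩
      change (starRingEnd ℂ) ((θ : K → ℂ) z) ≠ (starRingEnd ℂ) ((θ : K → ℂ) 1)
      intro h
      exact hne ((starRingEnd ℂ).injective h)
    · have h1 := irrDeg_spec (⟨Cfsg.conjFun (θ : K → ℂ), isIrrCharacter_conj θ.2⟩ : IrrCharacter K)
      change (starRingEnd ℂ) ((θ : K → ℂ) 1) = _ at h1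
      rw [irrDeg_spec, Complex.conj_natCast] at h1
      have : irrDeg θ = irrDeg (⟨Cfsg.conjFun (θ : K → ℂ), isIrrCharacter_conj θ.2⟩ : IrrCharacter K) := by
        exact_mod_cast h1
      rw [← this]
      exact hθ'.2
  have hFconj : ∀ m, ∀ φ ∈ F m, Cfsg.conjFun φ ∈ F m := by
    intro m φ hφ
    obtain ⟨θ, hθ, rfl⟩ := Finset.mem_image.1 hφ
    obtain ⟨θc, hθc, hc⟩ := hconjT m θ hθ
    rw [conjFun_indFun, ← hc]
    exact Finset.mem_image_of_mem _ hθc
  -- degrees are powers of p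
  have hpow : ∀ θ : IrrCharacter K, ∃ a, a ≤ M ∧ irrDeg θ = p ^ a := by
    intro θ
    obtain ⟨dd, h1, h2⟩ := Cfsg.Agent.Lib.Helper11.IsIrrCharacter.exists_degree_dvd_card θ.2
    rw [irrDeg_spec] at h1
    have : irrDeg θ = dd := by exact_mod_cast h1
    rw [this]
    rw [hcard] at h2
    obtain ⟨a, ha1, ha⟩ := (Nat.dvd_prime_pow hp).1 h2
    exact ⟨a, ha1, ha⟩
  -- p is odd, coprime to e
  have hp_odd : Odd p := by
    have hM0 : M ≠ 0 := by
      rintro rfl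
      rw [pow_zero] at hcard
      have : K = ⊥ := Subgroup.card_eq_one.1 hcard
      rw [this] at hH₁K
      exact not_lt_bot hH₁K
    have h1 : p ∣ Nat.card K := by rw [hcard]; exact dvd_pow_self p hM0
    exact Odd.of_dvd_nat hodd (h1.trans (Subgroup.card_subgroup_dvd_card K))
  have hp3 : 3 ≤ p := by
    have := hp.two_le
    obtain ⟨c, hc⟩ := hp_odd
    omega
  have hcop : Nat.Coprime p e := by
    rw [Nat.Prime.coprime_iff_not_dvd hp]
    intro hpe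
    have h1 := index_dvd_relIndex_sub_one K ⁅K, K⁆ le_rfl hfrob ⁅K, K⁆ le_rfl
    have h2 : (⁅K, K⁆ : Subgroup L).relIndex K ∣ p ^ M := by
      rw [← hcard]; exact Subgroup.relIndex_dvd_card _ _
    obtain ⟨c, -, hc⟩ := (Nat.dvd_prime_pow hp).1 h2
    have hc0 : c ≠ 0 := by
      rintro rfl
      rw [pow_zero] at hc
      exact (not_le_of_gt hH₁K) (Subgroup.relIndex_eq_one.1 hc)
    rw [hc] at h1
    have h3 : p ∣ p ^ c - 1 := hpe.trans h1
    have h4 : p ∣ p ^ c := dvd_pow_self p hc0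
    have h5 : 1 ≤ p ^ c := Nat.one_le_pow _ _ hp.pos
    have h6 : p ∣ 1 := by
      have := Nat.dvd_sub h4 h3
      rwa [Nat.sub_sub_self h5] at this
    exact hp.one_lt.ne' (Nat.dvd_one.1 h6)
  -- sums of squares of degrees
  have hall : ∑ θ : IrrCharacter K, irrDeg θ ^ 2 = p ^ M := by
    have h := sum_irr_degree_sq (G := K)
    rw [hcard] at h
    have h2 : ((∑ θ : IrrCharacter K, irrDeg θ ^ 2 : ℕ) : ℂ) = ((p ^ M : ℕ) : ℂ) := by
      rw [← h]
      push_cast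
      apply Finset.sum_congr rfl
      intro θ _
      rw [irrDeg_spec]
    exact_mod_cast h2
  have hZ'mem : ∀ a : K, a ∈ Z.subgroupOf K ↔ (a : L) ∈ Z := fun a => Subgroup.mem_subgroupOf
  have hcompl : Finset.univ.filter (fun θ : IrrCharacter K =>
      ∀ a ∈ Z.subgroupOf K, (θ : K → ℂ) a = (θ : K → ℂ) 1) = T₀ᶜ := by
    ext θ
    simp only [Finset.mem_filter, Finset.mem_univ, true_and, Finset.mem_compl, hT₀mem,
      not_nontrivOn_iff]
    constructor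
    · intro h a ha; exact h a ((hZ'mem a).2 ha)
    · intro h a ha; exact h a ((hZ'mem a).1 ha)
  have hker : Nat.card (Z.subgroupOf K) * ∑ θ ∈ T₀ᶜ, irrDeg θ ^ 2 = p ^ M := by
    rw [← hcompl, card_mul_sum_irrDeg_sq, hcard]
  have hsplit : ∑ θ ∈ T₀, irrDeg θ ^ 2 + ∑ θ ∈ T₀ᶜ, irrDeg θ ^ 2 = p ^ M := by
    rw [← hall]
    exact Finset.sum_add_sum_compl T₀ _
  have hC'index : ∑ θ ∈ T₀ᶜ, irrDeg θ ^ 2 = (Z.subgroupOf K).index := by
    have h1 := Subgroup.card_mul_index (Z.subgroupOf K)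
    rw [hcard, ← hker] at h1
    exact (Nat.eq_of_mul_eq_mul_left Nat.card_pos h1).symm
  obtain ⟨c, hcM, hC'⟩ : ∃ c, c ≤ M ∧ ∑ θ ∈ T₀ᶜ, irrDeg θ ^ 2 = p ^ c :=
    (Nat.dvd_prime_pow hp).1 (Dvd.intro_left _ hker)
  have hcentral : ∀ θ : IrrCharacter K, irrDeg θ ^ 2 ≤ p ^ c := by
    intro θ
    have h := Cfsg.Agent.Lib.Helper11.IsIrrCharacter.degree_sq_le_of_central θ.2 ⊤
      (Z.subgroupOf K) (by
        intro x hx y _
        have hxy : x * y = y * x := Subtype.ext (hZc x ((hZ'mem x).1 hx) y y.2)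
        have h1 : x * y * x⁻¹ * y⁻¹ = 1 := by rw [hxy]; group
        rw [h1]) (irrDeg θ) (irrDeg_spec θ)
    rw [Subgroup.index_top, one_pow, one_mul, Subgroup.relIndex_top_right] at h
    rw [← hC', hC'index]
    exact h
  -- the key inequality
  have key : ∀ (m a : ℕ), (T m).Nonempty → m + 1 = p ^ a → ∀ θ₀ : IrrCharacter K,
      irrDeg θ₀ = p ^ a → e ^ 2 * p ^ (2 * a) ≤ ∑ ψ ∈ F m, d ψ ^ 2 := by
    intro m a hTne hma θ₀ hθ₀
    have h2a : 2 * a ≤ c := by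
      have h1 := hcentral θ₀
      rw [hθ₀, ← pow_mul, mul_comm] at h1
      exact (Nat.pow_le_pow_iff_right hp.one_lt).1 h1
    have h2aM : 2 * a ≤ M := h2a.trans hcM
    have hsplit2 : ∑ θ ∈ T m, irrDeg θ ^ 2
        + ∑ θ ∈ T₀.filter (fun θ => ¬ irrDeg θ ≤ m), irrDeg θ ^ 2
        = ∑ θ ∈ T₀, irrDeg θ ^ 2 := Finset.sum_filter_add_sum_filter_not T₀ _ _
    have hdvdB : p ^ (2 * a) ∣ ∑ θ ∈ T₀.filter (fun θ => ¬ irrDeg θ ≤ m), irrDeg θ ^ 2 := by
      apply Finset.dvd_sum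
      intro θ hθ
      rw [Finset.mem_filter] at hθ
      obtain ⟨b, -, hb⟩ := hpow θ
      have hlt : p ^ a ≤ p ^ b := by rw [← hb, ← hma]; omega
      have hab : a ≤ b := (Nat.pow_le_pow_iff_right hp.one_lt).1 hlt
      rw [hb, ← pow_mul]
      exact pow_dvd_pow p (by omega)
    have hdvdA : p ^ (2 * a) ∣ ∑ θ ∈ T m, irrDeg θ ^ 2 := by
      have h1 : p ^ (2 * a) ∣ p ^ M := pow_dvd_pow p h2aM
      have h2 : p ^ (2 * a) ∣ p ^ c := pow_dvd_pow p h2a
      rw [← hsplit, ← hsplit2, hC'] at h1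
      have h3 := (Nat.dvd_add_iff_left h2).2 h1
      exact (Nat.dvd_add_iff_left hdvdB).2 h3
    let q : (L → ℂ) → ℕ := fun ψ => (d ψ / e) ^ 2
    have hq : ∀ θ ∈ T m, q (indFun K (θ : K → ℂ)) = irrDeg θ ^ 2 := by
      intro θ hθ
      show (d (indFun K (θ : K → ℂ)) / e) ^ 2 = _
      rw [hdeg θ (hTsub m hθ), Nat.mul_div_cancel_left _ hepos]
    have hfib : ∑ θ ∈ T m, irrDeg θ ^ 2 = e * ∑ ψ ∈ F m, q ψ :=
      sum_irrDeg_sq_eq_index_mul K (T m) (hclosed m)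
        (fun θ hθ => hnorm θ (hTsub m hθ)) q hq
    have hQ : p ^ (2 * a) ∣ ∑ ψ ∈ F m, q ψ := by
      rw [hfib] at hdvdA
      exact (Nat.Coprime.pow_left (2 * a) hcop).dvd_of_dvd_mul_left hdvdA
    have hApos : 0 < ∑ θ ∈ T m, irrDeg θ ^ 2 :=
      Finset.sum_pos (fun θ _ => pow_pos (irrDeg_pos θ) 2) hTne
    have hQpos : 0 < ∑ ψ ∈ F m, q ψ := by
      apply Nat.pos_of_ne_zero
      intro h0
      rw [hfib, h0, mul_zero] at hApos
      exact lt_irrefl _ hApos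
    have hsumd : ∑ ψ ∈ F m, d ψ ^ 2 = e ^ 2 * ∑ ψ ∈ F m, q ψ := by
      rw [Finset.mul_sum]
      apply Finset.sum_congr rfl
      intro ψ hψ
      obtain ⟨θ, hθ, rfl⟩ := Finset.mem_image.1 hψ
      rw [hq θ hθ, hdeg θ (hTsub m hθ), mul_pow]
    rw [hsumd]
    exact Nat.mul_le_mul_left _ (Nat.le_of_dvd hQpos hQ)
  -- the induction on the degree
  have hcohF : ∀ m, (F m).Nonempty → IsCoherent (↑(F m) : Set (L → ℂ)) {1}ᶜ τ := by
    intro m
    induction m with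
    | zero =>
      intro hne
      exfalso
      obtain ⟨χ, hχ⟩ := hne
      obtain ⟨θ, hθ, -⟩ := Finset.mem_image.1 hχ
      have h1 := ((hTmem 0 θ).1 hθ).2
      have h2 := irrDeg_pos θ
      omega
    | succ m ih =>
      intro hne
      by_cases hsame : T (m + 1) = T m
      · have hFF : F (m + 1) = F m := by
          show (T (m + 1)).image _ = (T m).image _
          rw [hsame]
        rw [hFF] at hne ⊢
        exact ih hne
      · have hex : ∃ θ₀ ∈ T (m + 1), θ₀ ∉ T m := by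
          by_contra hcon
          push Not at hcon
          apply hsame
          apply Finset.Subset.antisymm hcon
          intro θ hθ
          rw [hTmem] at hθ ⊢
          exact ⟨hθ.1, by omega⟩
        obtain ⟨θ₀, hθ₀, hθ₀'⟩ := hex
        have hθ₀deg : irrDeg θ₀ = m + 1 := by
          rw [hTmem] at hθ₀ hθ₀'
          have : ¬ irrDeg θ₀ ≤ m := fun h => hθ₀' ⟨hθ₀.1, h⟩
          omega
        obtain ⟨a, -, ha⟩ := hpow θ₀
        have hma : m + 1 = p ^ a := by rw [← hθ₀deg, ha]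
        have hnewdeg : ∀ θ ∈ T (m + 1), θ ∉ T m → irrDeg θ = p ^ a := by
          intro θ hθ hθ'
          rw [hTmem] at hθ hθ'
          have : ¬ irrDeg θ ≤ m := fun h => hθ' ⟨hθ.1, h⟩
          omega
        by_cases hTm : (T m).Nonempty
        · have hFm : (F m).Nonempty := hTm.image _
          have hcohm := ih hFm
          obtain ⟨θ₁, hθ₁⟩ := hTm
          obtain ⟨a₁, -, ha₁⟩ := hpow θ₁
          have ha₁a : a₁ < a := by
            have h1 := ((hTmem m θ₁).1 hθ₁).2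
            rw [ha₁] at h1
            have h2 : p ^ a₁ < p ^ a := by omega
            exact (Nat.pow_lt_pow_iff_right hp.one_lt).1 h2
          have hχ₁ : indFun K (θ₁ : K → ℂ) ∈ F m := Finset.mem_image_of_mem _ hθ₁
          have hdχ₁ : d (indFun K (θ₁ : K → ℂ)) = e * p ^ a₁ := by
            rw [hdeg θ₁ (hTsub m hθ₁), ha₁]
          have hkey := key m a ⟨θ₁, hθ₁⟩ hma θ₀ ha
          apply coherent_extend' hS d n hd hn (F m) (F (m + 1))
            ((hFS₀ m).trans hS₀S) ((hFS₀ (m + 1)).trans hS₀S) (hFconj m) (hFconj (m + 1))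
            hcohm hne (indFun K (θ₁ : K → ℂ)) hχ₁
          · intro χ hχ hχ'
            obtain ⟨θ, hθ, rfl⟩ := Finset.mem_image.1 hχ
            have hθ' : θ ∉ T m := fun h => hχ' (Finset.mem_image_of_mem _ h)
            rw [hdχ₁, hdeg θ (hTsub _ hθ), hnewdeg θ hθ hθ']
            exact Nat.mul_dvd_mul_left e (pow_dvd_pow p ha₁a.le)
          · intro χ hχ hχ'
            obtain ⟨θ, hθ, rfl⟩ := Finset.mem_image.1 hχ
            have hθ' : θ ∉ T m := fun h => hχ' (Finset.mem_image_of_mem _ h)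
            have hsum : ∑ φ ∈ F m, ((d φ : ℝ) ^ 2 / (n φ : ℝ))
                = ((∑ φ ∈ F m, d φ ^ 2 : ℕ) : ℝ) := by
              push_cast
              apply Finset.sum_congr rfl
              intro φ hφ
              obtain ⟨θ', hθ', rfl⟩ := Finset.mem_image.1 hφ
              rw [hn1 θ' (hTsub m hθ')]
              simp
            rw [hsum, hdχ₁, hdeg θ (hTsub _ hθ), hnewdeg θ hθ hθ']
            have hnat : 2 * (e * p ^ a) * (e * p ^ a₁) < ∑ φ ∈ F m, d φ ^ 2 := by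
              apply lt_of_lt_of_le _ hkey
              have h3 : 3 * p ^ a₁ ≤ p ^ a := by
                calc 3 * p ^ a₁ ≤ p * p ^ a₁ := Nat.mul_le_mul_right _ hp3
                  _ = p ^ (a₁ + 1) := by rw [pow_succ, mul_comm]
                  _ ≤ p ^ a := Nat.pow_le_pow_right hp.pos ha₁a
              have hpa : 0 < p ^ a := pow_pos hp.pos a
              have hpa1 : 0 < p ^ a₁ := pow_pos hp.pos a₁
              have he2 : 0 < e ^ 2 := pow_pos hepos 2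
              have h4 : 2 * p ^ a₁ < p ^ a := by omega
              calc 2 * (e * p ^ a) * (e * p ^ a₁) = e ^ 2 * p ^ a * (2 * p ^ a₁) := by ring
                _ < e ^ 2 * p ^ a * p ^ a := mul_lt_mul_of_pos_left h4 (Nat.mul_pos he2 hpa)
                _ = e ^ 2 * p ^ (2 * a) := by ring
            exact_mod_cast hnat
        · rw [Finset.not_nonempty_iff_eq_empty] at hTm
          have hsys : IsCoherenceSystem (↑(F (m + 1)) : Set (L → ℂ)) τ R :=
            IsCoherenceSystem.subset hS ((hFS₀ (m + 1)).trans hS₀S) (Finset.coe_nonempty.2 hne)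
              (fun φ hφ => hFconj (m + 1) φ hφ)
          apply Cfsg.Agent.S1517.result _ τ R hsys
          intro φ hφ ψ hψ
          obtain ⟨θ, hθ, rfl⟩ := Finset.mem_image.1 (Finset.mem_coe.1 hφ)
          obtain ⟨θ', hθ', rfl⟩ := Finset.mem_image.1 (Finset.mem_coe.1 hψ)
          have h1 : θ ∉ T m := by rw [hTm]; exact Finset.notMem_empty _
          have h2 : θ' ∉ T m := by rw [hTm]; exact Finset.notMem_empty _
          rw [indFun_apply_one, indFun_apply_one, irrDeg_spec, irrDeg_spec,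
            hnewdeg θ hθ h1, hnewdeg θ' hθ' h2]
  -- conclusion
  have hbound : ∀ θ : IrrCharacter K, irrDeg θ ≤ p ^ M := by
    intro θ
    obtain ⟨a, haM, ha⟩ := hpow θ
    rw [ha]
    exact Nat.pow_le_pow_right hp.pos haM
  have hS₀eq : S₀ = (↑(F (p ^ M)) : Set (L → ℂ)) := by
    apply Set.Subset.antisymm
    · intro χ hχ
      obtain ⟨θ, hθ, hnt, rfl⟩ := (mem_diff_iff K Z χ).1 hχ
      have hmem : (⟨θ, hθ⟩ : IrrCharacter K) ∈ T (p ^ M) := by
        rw [hTmem]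
        exact ⟨hnt, hbound _⟩
      exact Finset.mem_coe.2 (Finset.mem_image.2 ⟨⟨θ, hθ⟩, hmem, rfl⟩)
    · exact hFS₀ _
  have hne : (F (p ^ M)).Nonempty := by
    obtain ⟨θ, hθ⟩ := exists_irr_nontrivOn K Z hZ1 hZK
    exact ⟨indFun K (θ : K → ℂ), Finset.mem_image_of_mem _ ((hTmem _ θ).2 ⟨hθ, hbound θ⟩)⟩
  rw [hS₀eq]
  exact hcohF _ hne

end PGroup

/-- Let K be a nilpotent normal subgroup of the finite group L of odd order with [K,K] < K < L and L/[K,K] a Frobenius group with kernel K/[K,K] (elements of K outside [K,K] are centralised modulo [K,K] only from inside K); let (S, τ, R) be a coherence system from L to G with S the functions induced from non-principal irreducible characters of K. Let Z be a nontrivial normal subgroup of L contained in the centre of K, and suppose every member of S outside S(Z) is an irreducible character of L. Then S minus S(Z) is the set of irreducible characters χ of L with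 χ z ≠ χ 1 for some z ∈ Z, and it is coherent. -/
theorem result {L : Type*} [Group L] [Fintype L] {G : Type*} [Group G] [Fintype G] (K : Subgroup L) [hK : K.Normal] (hsolv : Group.IsSolvable K) (τ : (L → ℂ) → (G → ℂ)) (R : (L → ℂ) → Finset (G → ℂ)) (hS : Cfsg.IsCoherenceSystem (Cfsg.inducedIrrAbove K ⊥) τ R) (hodd : Odd (Nat.card L)) (hnil : Group.IsNilpotent K) (hH₁K : ⁅K, K⁆ < K) (hKL : K < ⊤) (hfrob : ∀ k ∈ K, k ∉ ⁅K, K⁆ → ∀ x : L, x * k * x⁻¹ * k⁻¹ ∈ ⁅K, K⁆ → x ∈ K) (Z : Subgroup L) [Z.Normal] (hZ1 : Z ≠ ⊥) (hZK : Z ≤ K) (hZc : ∀ z ∈ Z, ∀ k ∈ K, z * k = k * z) (hirr : ∀ χ ∈ Cfsg.inducedIrrAbove K ⊥ \ Cfsg.inducedIrrAbove K Z, Cfsg.IsIrrCharacter L χ) : Cfsg.inducedIrrAbove K ⊥ \ Cfsg.inducedIrrAbove K Z = {χ | Cfsg.IsIrrCharacter L χ ∧ ∃ z ∈ Z, χ z ≠ χ 1} ∧ Cfsg.IsCoherent (Cfsg.inducedIrrAbove K ⊥ \ Cfsg.inducedIrrAbove K Z) {1}ᶜ τ := by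
  classical
  refine ⟨diff_eq_irr K Z hZK hirr, ?_⟩
  by_cases hpg : ∃ p M : ℕ, p.Prime ∧ Nat.card K = p ^ M
  · obtain ⟨p, M, hp, hcard⟩ := hpg
    exact coherent_of_pgroup K Z τ R hS hodd hH₁K hfrob hZ1 hZK hZc hirr p hp M hcard
  · haveI := hnil
    have hnilq : Group.IsNilpotent (↥K ⧸ (⊥ : Subgroup L).subgroupOf K) := inferInstance
    have hcoh := Cfsg.Agent.S1521.result K hsolv τ R hS hodd ⊥ bot_le hnilq ⁅K, K⁆
      (sup_bot_eq _).symm hH₁K hKL hfrob (Or.inr (Or.inr (Or.inl (by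
        rw [Subgroup.relIndex_bot_left]
        exact hpg))))
    apply isCoherent_subset Set.sdiff_subset hcoh
    apply exists_ne_zero_zspanOn hS Set.sdiff_subset
    · intro φ hφ
      obtain ⟨θ, hθ, hnt, rfl⟩ := (mem_diff_iff K Z φ).1 hφ
      rw [conjFun_indFun]
      refine (mem_diff_iff K Z _).2 ⟨Cfsg.conjFun θ, isIrrCharacter_conj hθ, ?_, rfl⟩
      obtain ⟨z, hz, hne⟩ := hnt
      refine ⟨z, hz, ?_⟩
      change (starRingEnd ℂ) (θ z) ≠ (starRingEnd ℂ) (θ 1)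
      intro h
      exact hne ((starRingEnd ℂ).injective h)
    · obtain ⟨θ, hθ⟩ := exists_irr_nontrivOn K Z hZ1 hZK
      exact ⟨indFun K (θ : K → ℂ), (mem_diff_iff K Z _).2 ⟨θ.1, θ.2, hθ, rfl⟩⟩

end Cfsg.Agent.S1522
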