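-- Statement S0738.
import Cfsg.Statements.S0738

set_option autoImplicit false
open Cfsg

namespace Cfsg.Agent.S0738

section conj
variable {G : Type*} [Group G] [Finite G]

/-- a free conjugation action on an invariant set: the order of the group divides the size of the set -/
theorem card_dvd_of_free (K : Subgroup (ConjAct G)) (A : Set G)
    (hinv : ∀ k ∈ K, ∀ u ∈ A, k • u ∈ A) (hfree : ∀ k ∈ K, ∀ u ∈ A, k • u = u → k = 1) :
    Nat.card K ∣ A.ncard := by
  let sub : SubMulAction K G :=
    { carrier := A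
      smul_mem' := fun k u hu => hinv k.1 k.2 u hu }
  have hstab : ∀ b : sub, MulAction.stabilizer K b = ⊥ := by
    intro b
    rw [eq_bot_iff]
    intro k hk
    rw [MulAction.mem_stabilizer_iff] at hk
    have := hfree k.1 k.2 b.1 b.2 (congrArg Subtype.val hk)
    exact Subgroup.mem_bot.mpr (Subtype.ext this)
  have e := MulAction.selfEquivOrbitsQuotientProd hstab
  have h1 := Nat.card_congr e
  rw [Nat.card_prod] at h1
  have h2 : Nat.card sub = A.ncard := Nat.card_coe_set_eq A
  rw [← h2, h1]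
  exact Dvd.intro_left _ rfl

/-- a `q`-group acting by conjugation without fixed points on an invariant set -/
theorem dvd_card_of_no_fixed {q : ℕ} [Fact q.Prime] (K : Subgroup (ConjAct G)) (hK : IsPGroup q K)
    (A : Set G) (hinv : ∀ k ∈ K, ∀ u ∈ A, k • u ∈ A) (hnofix : ∀ u ∈ A, ∃ k ∈ K, k • u ≠ u) :
    q ∣ A.ncard := by
  let sub : SubMulAction K G :=
    { carrier := A
      smul_mem' := fun k u hu => hinv k.1 k.2 u hu }
  have h1 := hK.card_modEq_card_fixedPoints sub
  have h2 : Nat.card sub = A.ncard := Nat.card_coe_set_eq A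
  have h3 : IsEmpty (MulAction.fixedPoints K sub) := by
    constructor
    rintro ⟨⟨u, hu⟩, hfix⟩
    obtain ⟨k, hk, hne⟩ := hnofix u hu
    exact hne (congrArg Subtype.val (hfix ⟨k, hk⟩))
  have h4 : Nat.card (MulAction.fixedPoints K sub) = 0 := Nat.card_of_isEmpty
  rw [h4, h2] at h1
  exact (Nat.modEq_zero_iff_dvd).mp h1

/-- the image of a subgroup in `ConjAct G` -/
def conjImage (H : Subgroup G) : Subgroup (ConjAct G) :=
  H.map (ConjAct.toConjAct (G := G)).toMonoidHom

theorem card_conjImage (H : Subgroup G) : Nat.card (conjImage H) = Nat.card H :=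
  Subgroup.card_map_of_injective (ConjAct.toConjAct (G := G)).injective

theorem mem_conjImage {H : Subgroup G} {k : ConjAct G} :
    k ∈ conjImage H ↔ ∃ h ∈ H, ConjAct.toConjAct h = k := by
  unfold conjImage
  rw [Subgroup.mem_map]
  rfl

end conj


section core
variable {G : Type*} [Group G] [Finite G]

theorem ncard_subgroup (M : Subgroup G) : (M : Set G).ncard = Nat.card M :=
  (Nat.card_coe_set_eq (M : Set G)).symm

/-- abstract core: a group `H` normalising `F`, acting freely on `F \ {1}`, with at most two orbits there -/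
theorem core (F H : Subgroup G) (hnorm : ∀ h ∈ H, ∀ u ∈ F, h * u * h⁻¹ ∈ F)
    (hfree : ∀ h ∈ H, ∀ u ∈ F, u ≠ 1 → h * u * h⁻¹ = u → h = 1)
    (hcard : Nat.card F - 1 ≤ 2 * Nat.card H) :
    (∀ u ∈ F, ∀ v ∈ F, u * v = v * u) ∧
      ∃ p f : ℕ, p.Prime ∧ (∀ u ∈ F, u ^ p = 1) ∧ Nat.card F = p ^ f := by
  classical
  by_cases hF1 : Nat.card F = 1
  · have hbot : F = ⊥ := Subgroup.card_eq_one.mp hF1
    refine ⟨?_, 2, 0, Nat.prime_two, ?_, by rw [hF1, pow_zero]⟩
    · intro u hu v hv
      rw [hbot, Subgroup.mem_bot] at hu hv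
      rw [hu, hv]
    · intro u hu
      rw [hbot, Subgroup.mem_bot] at hu
      rw [hu, one_pow]
  have hn2 : 2 ≤ Nat.card F := by
    have : 0 < Nat.card F := Nat.card_pos
    omega
  have hd1 : 0 < Nat.card H := Nat.card_pos
  -- general facts on the conjugation action of H
  have hK : ∀ A : Set G, A ⊆ (F : Set G) → (1 : G) ∉ A → (∀ h ∈ H, ∀ u ∈ A, h * u * h⁻¹ ∈ A) →
      Nat.card H ∣ A.ncard := by
    intro A hAF h1A hinv
    rw [← card_conjImage H]
    apply card_dvd_of_free
    · intro k hk u hu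
      obtain ⟨h, hh, rfl⟩ := mem_conjImage.mp hk
      rw [ConjAct.toConjAct_smul]
      exact hinv h hh u hu
    · intro k hk u hu hku
      obtain ⟨h, hh, rfl⟩ := mem_conjImage.mp hk
      rw [ConjAct.toConjAct_smul] at hku
      have := hfree h hh u (hAF hu) (fun h1 => h1A (h1 ▸ hu)) hku
      rw [this, map_one]
  have hKpos : ∀ A : Set G, A ⊆ (F : Set G) → (1 : G) ∉ A → (∀ h ∈ H, ∀ u ∈ A, h * u * h⁻¹ ∈ A) →
      A.Nonempty → Nat.card H ≤ A.ncard := by
    intro A hAF h1A hinv hne
    apply Nat.le_of_dvd _ (hK A hAF h1A hinv)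
    exact (Set.ncard_pos (Set.toFinite A)).mpr hne
  have hF1card : ((F : Set G) \ {1}).ncard = Nat.card F - 1 := by
    rw [Set.ncard_sdiff (by simpa using F.one_mem) (Set.toFinite _), ncard_subgroup, Set.ncard_singleton]
  -- (L3): no proper nontrivial H-invariant subgroups
  have hL3 : ∀ M : Subgroup G, M ≤ F → (∀ h ∈ H, ∀ u ∈ M, h * u * h⁻¹ ∈ M) → M ≠ ⊥ → M = F := by
    intro M hMF hMinv hMbot
    by_contra hne
    have hlt : M < F := lt_of_le_of_ne hMF hne
    have hM2 : 2 ≤ Nat.card M := by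
      have : 0 < Nat.card M := Nat.card_pos
      have : Nat.card M ≠ 1 := fun h => hMbot (Subgroup.card_eq_one.mp h)
      omega
    have hA1card : ((M : Set G) \ {1}).ncard = Nat.card M - 1 := by
      rw [Set.ncard_sdiff (by simpa using M.one_mem) (Set.toFinite _), ncard_subgroup, Set.ncard_singleton]
    have hA2card : ((F : Set G) \ M).ncard = Nat.card F - Nat.card M := by
      rw [Set.ncard_sdiff (by exact_mod_cast hMF) (Set.toFinite _), ncard_subgroup, ncard_subgroup]
    have hMF' : Nat.card M ≤ Nat.card F := Subgroup.card_le_of_le hMF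
    have h1 : Nat.card H ≤ ((M : Set G) \ {1}).ncard := by
      apply hKpos
      · exact fun u hu => hMF hu.1
      · exact fun h => h.2 rfl
      · intro h hh u hu
        refine ⟨hMinv h hh u hu.1, ?_⟩
        intro h1
        apply hu.2
        rw [Set.mem_singleton_iff] at h1 ⊢
        have : u = h⁻¹ * (h * u * h⁻¹) * h := by group
        rw [this, h1]
        group
      · obtain ⟨x, hx, hx1⟩ := M.bot_or_exists_ne_one.resolve_left hMbot
        exact ⟨x, hx, by simpa using hx1⟩
    have h2 : Nat.card H ≤ ((F : Set G) \ M).ncard := by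
      apply hKpos
      · exact fun u hu => hu.1
      · exact fun h => h.2 M.one_mem
      · intro h hh u hu
        refine ⟨hnorm h hh u hu.1, ?_⟩
        intro hM
        apply hu.2
        have : u = h⁻¹ * (h * u * h⁻¹) * h⁻¹⁻¹ := by group
        rw [SetLike.mem_coe, this]
        exact hMinv h⁻¹ (H.inv_mem hh) _ hM
      · obtain ⟨x, hxF, hxM⟩ := SetLike.exists_of_lt hlt
        exact ⟨x, hxF, hxM⟩
    have hdvd : Nat.card M ∣ Nat.card F := Subgroup.card_dvd_of_le hMF
    rw [hA1card] at h1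
    rw [hA2card] at h2
    -- card M = d + 1, card F = 2 d + 1
    have e1 : Nat.card M = Nat.card H + 1 := by omega
    have e2 : Nat.card F = 2 * Nat.card H + 1 := by omega
    rw [e1, e2] at hdvd
    have : Nat.card H + 1 ∣ Nat.card H := by
      have h3 : 2 * Nat.card H + 1 = (Nat.card H + 1) + Nat.card H := by ring
      rw [h3] at hdvd
      exact (Nat.dvd_add_right (dvd_refl _)).mp hdvd
    have := Nat.le_of_dvd hd1 this
    omega
  -- (P) prime power order
  obtain ⟨p, hp, hpdvd⟩ : ∃ p, p.Prime ∧ p ∣ Nat.card F :=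
    ⟨(Nat.card F).minFac, Nat.minFac_prime hF1, Nat.minFac_dvd _⟩
  have hconj_order : ∀ h u : G, orderOf (h * u * h⁻¹) = orderOf u := fun h u => by
    rw [← MulAut.conj_apply]
    exact MulEquiv.orderOf_eq _ _
  have hAset : ∀ r : ℕ, r.Prime → r ∣ Nat.card F →
      ({u : G | u ∈ F ∧ orderOf u = r} ⊆ (F : Set G)) ∧ (1 : G) ∉ {u : G | u ∈ F ∧ orderOf u = r} ∧
      (∀ h ∈ H, ∀ u ∈ {u : G | u ∈ F ∧ orderOf u = r}, h * u * h⁻¹ ∈ {u : G | u ∈ F ∧ orderOf u = r}) ∧
      {u : G | u ∈ F ∧ orderOf u = r}.Nonempty := by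
    intro r hr hrdvd
    refine ⟨fun u hu => hu.1, ?_, ?_, ?_⟩
    · rintro ⟨_, h1⟩
      rw [orderOf_one] at h1
      exact hr.one_lt.ne h1
    · rintro h hh u ⟨huF, hur⟩
      exact ⟨hnorm h hh u huF, by rw [hconj_order, hur]⟩
    · have : Fact r.Prime := ⟨hr⟩
      obtain ⟨x, hx⟩ := exists_prime_orderOf_dvd_card' (G := F) r hrdvd
      exact ⟨x.1, x.2, by rw [Subgroup.orderOf_coe, hx]⟩
  have hunique : ∀ q : ℕ, q.Prime → q ∣ Nat.card F → q = p := by
    intro q hq hqdvd
    by_contra hqp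
    obtain ⟨hpF, hp1, hpinv, hpne⟩ := hAset p hp hpdvd
    obtain ⟨hqF, hq1, hqinv, hqne⟩ := hAset q hq hqdvd
    have hcp := hKpos _ hpF hp1 hpinv hpne
    have hcq := hKpos _ hqF hq1 hqinv hqne
    have hdisj : Disjoint {u : G | u ∈ F ∧ orderOf u = p} {u : G | u ∈ F ∧ orderOf u = q} := by
      rw [Set.disjoint_left]
      rintro u ⟨_, h1⟩ ⟨_, h2⟩
      exact hqp (h2.symm.trans h1)
    have hsub : {u : G | u ∈ F ∧ orderOf u = p} ∪ {u : G | u ∈ F ∧ orderOf u = q} ⊆ (F : Set G) \ {1} := by
      rintro u (hu | hu)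
      · exact ⟨hu.1, fun h => hp1 (by rw [Set.mem_singleton_iff] at h; exact h ▸ hu)⟩
      · exact ⟨hu.1, fun h => hq1 (by rw [Set.mem_singleton_iff] at h; exact h ▸ hu)⟩
    have hle := Set.ncard_le_ncard hsub (Set.toFinite _)
    rw [Set.ncard_union_eq hdisj (Set.toFinite _) (Set.toFinite _), hF1card] at hle
    have hpd : {u : G | u ∈ F ∧ orderOf u = p}.ncard = Nat.card H := by omega
    have hF2d : Nat.card F - 1 = 2 * Nat.card H := by omega
    have hall : {u : G | u ∈ F ∧ orderOf u = p} ∪ {u : G | u ∈ F ∧ orderOf u = q} = (F : Set G) \ {1} := by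
      apply Set.eq_of_subset_of_ncard_le hsub _ (Set.toFinite _)
      rw [Set.ncard_union_eq hdisj (Set.toFinite _) (Set.toFinite _), hF1card]
      omega
    -- an element of order q acts without fixed points on the elements of order p
    obtain ⟨y, hyF, hyq⟩ := hqne
    have : Fact q.Prime := ⟨hq⟩
    have hKq : IsPGroup q (Subgroup.zpowers (ConjAct.toConjAct y)) := by
      apply IsPGroup.of_card (n := 1)
      rw [Nat.card_zpowers, pow_one, MulEquiv.orderOf_eq, hyq]
    have hqd : q ∣ {u : G | u ∈ F ∧ orderOf u = p}.ncard := by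
      apply dvd_card_of_no_fixed _ hKq
      · intro k hk u hu
        obtain ⟨i, rfl⟩ := Subgroup.mem_zpowers_iff.mp hk
        rw [← map_zpow, ConjAct.toConjAct_smul]
        exact ⟨F.mul_mem (F.mul_mem (F.zpow_mem hyF i) hu.1) (F.inv_mem (F.zpow_mem hyF i)),
          by rw [hconj_order, hu.2]⟩
      · intro u hu
        refine ⟨ConjAct.toConjAct y, Subgroup.mem_zpowers _, ?_⟩
        rw [ConjAct.toConjAct_smul]
        intro hfix
        have hcomm : Commute u y := by
          have : y * u = u * y := by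
            calc y * u = (y * u * y⁻¹) * y := by group
              _ = u * y := by rw [hfix]
          exact this.symm
        have hcop : (orderOf u).Coprime (orderOf y) := by
          rw [hu.2, hyq]
          exact (Nat.coprime_primes hp hq).mpr (Ne.symm hqp)
        have hord := hcomm.orderOf_mul_eq_mul_orderOf_of_coprime hcop
        rw [hu.2, hyq] at hord
        have hmem : u * y ∈ (F : Set G) \ {1} := by
          refine ⟨F.mul_mem hu.1 hyF, ?_⟩
          intro h1
          rw [Set.mem_singleton_iff] at h1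
          rw [h1, orderOf_one] at hord
          have := hp.one_lt
          have := hq.one_lt
          nlinarith
        rw [← hall] at hmem
        rcases hmem with h3 | h3
        · have := h3.2
          rw [hord] at this
          have hq1' := hq.one_lt
          have hp0 := hp.pos
          nlinarith
        · have := h3.2
          rw [hord] at this
          have hp1' := hp.one_lt
          have hq0 := hq.pos
          nlinarith
    rw [hpd] at hqd
    have h4 : q ∣ Nat.card F - 1 := by rw [hF2d]; exact Dvd.dvd.mul_left hqd 2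
    have h5 : q ∣ 1 := by
      have : Nat.card F = (Nat.card F - 1) + 1 := by omega
      rw [this] at hqdvd
      exact (Nat.dvd_add_right h4).mp hqdvd
    exact hq.one_lt.ne' (Nat.dvd_one.mp h5)
  have hpow : Nat.card F = p ^ (Nat.card F).primeFactorsList.length :=
    Nat.eq_prime_pow_of_unique_prime_dvd (by omega) (fun {q} hq hqd => hunique q hq hqd)
  have : Fact p.Prime := ⟨hp⟩
  have hPG : IsPGroup p F := IsPGroup.of_card hpow
  have : Nontrivial F := by
    rw [← Finite.one_lt_card_iff_nontrivial]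
    omega
  -- (A) abelian
  have hab : ∀ u ∈ F, ∀ v ∈ F, u * v = v * u := by
    have hZ := hL3 ((Subgroup.center F).map F.subtype) ?_ ?_ ?_
    · intro u hu v hv
      rw [← hZ] at hu
      obtain ⟨z, hz, rfl⟩ := hu
      have := Subgroup.mem_center_iff.mp hz ⟨v, hv⟩
      exact (congrArg Subtype.val this).symm
    · rintro _ ⟨z, _, rfl⟩
      exact z.2
    · rintro h hh _ ⟨z, hz, rfl⟩
      refine ⟨⟨h * z.1 * h⁻¹, hnorm h hh _ z.2⟩, ?_, rfl⟩
      have hz' : z ∈ Subgroup.center F := hz
      show _ ∈ Subgroup.center F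
      rw [Subgroup.mem_center_iff]
      intro v
      apply Subtype.ext
      have hv' : h⁻¹ * v.1 * h⁻¹⁻¹ ∈ F := hnorm h⁻¹ (H.inv_mem hh) _ v.2
      have hc := Subgroup.mem_center_iff.mp hz' ⟨_, hv'⟩
      have hc' : (h⁻¹ * v.1 * h⁻¹⁻¹) * z.1 = z.1 * (h⁻¹ * v.1 * h⁻¹⁻¹) := congrArg Subtype.val hc
      show v.1 * (h * z.1 * h⁻¹) = (h * z.1 * h⁻¹) * v.1
      calc v.1 * (h * z.1 * h⁻¹) = h * ((h⁻¹ * v.1 * h⁻¹⁻¹) * z.1) * h⁻¹ := by group
        _ = h * (z.1 * (h⁻¹ * v.1 * h⁻¹⁻¹)) * h⁻¹ := by rw [hc']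
        _ = (h * z.1 * h⁻¹) * v.1 := by group
    · intro hbot
      have := hPG.bot_lt_center
      rw [Subgroup.map_eq_bot_iff_of_injective _ F.subtype_injective] at hbot
      exact this.ne' hbot
  refine ⟨hab, p, _, hp, ?_, hpow⟩
  -- (E) exponent p
  let M' : Subgroup G :=
    { carrier := {u | u ∈ F ∧ u ^ p = 1}
      mul_mem' := by
        rintro u v ⟨hu, hu1⟩ ⟨hv, hv1⟩
        refine ⟨F.mul_mem hu hv, ?_⟩
        rw [(show Commute u v from hab u hu v hv).mul_pow, hu1, hv1, one_mul]
      one_mem' := ⟨F.one_mem, one_pow _⟩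
      inv_mem' := by
        rintro u ⟨hu, hu1⟩
        exact ⟨F.inv_mem hu, by rw [inv_pow, hu1, inv_one]⟩ }
  have hM' := hL3 M' (fun u hu => hu.1) ?_ ?_
  · intro u hu
    rw [← hM'] at hu
    exact hu.2
  · rintro h hh u ⟨hu, hu1⟩
    exact ⟨hnorm h hh u hu, by rw [conj_pow, hu1, mul_one, mul_inv_cancel]⟩
  · obtain ⟨x, hx⟩ := exists_prime_orderOf_dvd_card' (G := F) p hpdvd
    intro hbot
    have hxM : x.1 ∈ M' := ⟨x.2, by rw [← Subgroup.coe_pow, ← hx, pow_orderOf_eq_one]; rfl⟩
    rw [hbot, Subgroup.mem_bot] at hxM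
    have : x = 1 := Subtype.ext hxM
    rw [this, orderOf_one] at hx
    exact hp.one_lt.ne hx

end core


theorem result {G Ω : Type*} [Group G] [Finite G] [MulAction G Ω] [Fintype Ω] (hZ : Cfsg.IsZassenhausGroup G Ω) {a b : Ω} (hab : a ≠ b) (hd : Fintype.card Ω - 2 ≤ 2 * Nat.card ↥(MulAction.stabilizer G a ⊓ MulAction.stabilizer G b)) (F : Subgroup G) (hFle : F ≤ MulAction.stabilizer G a) (hFn : (F.subgroupOf (MulAction.stabilizer G a)).Normal) (hreg : ∀ y z : Ω, y ≠ a → z ≠ a → ∃! u : F, (u : G) • y = z) : IsMulCommutative F ∧ ∃ p f : ℕ, p.Prime ∧ (∀ u ∈ F, u ^ p = 1) ∧ Fintype.card Ω = p ^ f + 1 := by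
  classical
  obtain ⟨_, _, h3, _, _⟩ := hZ
  have hnorm : ∀ h ∈ MulAction.stabilizer G a ⊓ MulAction.stabilizer G b,
      ∀ u ∈ F, h * u * h⁻¹ ∈ F := by
    intro h hh u hu
    have hha : h ∈ MulAction.stabilizer G a := hh.1
    have key := hFn.conj_mem ⟨u, hFle hu⟩ (Subgroup.mem_subgroupOf.mpr hu) ⟨h, hha⟩
    rw [Subgroup.mem_subgroupOf] at key
    simpa using key
  have hua : ∀ u ∈ F, u • a = a := fun u hu => hFle hu
  have hub : ∀ u ∈ F, u ≠ 1 → u • b ≠ b := by
    intro u hu hu1 hfix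
    obtain ⟨w, _, hw⟩ := hreg b b hab.symm hab.symm
    have e1 := hw ⟨u, hu⟩ hfix
    have e2 := hw 1 (by show ((1 : F) : G) • b = b; rw [Subgroup.coe_one, one_smul])
    apply hu1
    have e3 : (⟨u, hu⟩ : F) = 1 := e1.trans e2.symm
    exact congrArg Subtype.val e3
  have hfree : ∀ h ∈ MulAction.stabilizer G a ⊓ MulAction.stabilizer G b,
      ∀ u ∈ F, u ≠ 1 → h * u * h⁻¹ = u → h = 1 := by
    intro h hh u hu hu1 hcomm
    have hha : h • a = a := hh.1
    have hhb : h • b = b := hh.2
    have hcomm' : h * u = u * h := by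
      calc h * u = (h * u * h⁻¹) * h := by group
        _ = u * h := by rw [hcomm]
    have hfix : h • (u • b) = u • b := by
      rw [← mul_smul, hcomm', mul_smul, hhb]
    refine h3 h a b (u • b) hab ?_ ?_ hha hhb hfix
    · exact (hub u hu hu1).symm
    · intro h'
      apply hab
      have e : u • a = u • b := by rw [hua u hu]; exact h'
      exact MulAction.injective u e
  have hcardF : Nat.card F = Fintype.card Ω - 1 := by
    have hne : ∀ u : F, (u : G) • b ≠ a := by
      intro u h'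
      apply hab
      have e : (u : G) • a = (u : G) • b := by rw [hua u.1 u.2]; exact h'.symm
      exact MulAction.injective (u : G) e
    have hbij : Function.Bijective (fun u : F => (⟨(u : G) • b, hne u⟩ : {y : Ω // y ≠ a})) := by
      constructor
      · intro u v huv
        have huv' : (u : G) • b = (v : G) • b := congrArg Subtype.val huv
        obtain ⟨w, _, hw⟩ := hreg b ((v : G) • b) hab.symm (hne v)
        exact (hw u huv').trans (hw v rfl).symm
      · rintro ⟨y, hy⟩
        obtain ⟨w, hw, _⟩ := hreg b y hab.symm hy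
        exact ⟨w, Subtype.ext hw⟩
    rw [Nat.card_congr (Equiv.ofBijective _ hbij), Nat.card_eq_fintype_card]
    exact Set.card_ne_eq a
  have hcard : Nat.card F - 1 ≤
      2 * Nat.card ↥(MulAction.stabilizer G a ⊓ MulAction.stabilizer G b) := by
    rw [hcardF]
    have : Fintype.card Ω - 1 - 1 = Fintype.card Ω - 2 := by omega
    rw [this]
    exact hd
  obtain ⟨hc, p, f, hp, hexp, hpf⟩ := core F _ hnorm hfree hcard
  refine ⟨⟨⟨fun u v => Subtype.ext (hc u.1 u.2 v.1 v.2)⟩⟩, p, f, hp, hexp, ?_⟩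
  have hpos : 0 < Fintype.card Ω := Fintype.card_pos_iff.mpr ⟨a⟩
  rw [← hpf, hcardF]
  omega

end Cfsg.Agent.S0738
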