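import Cfsg.Statements.S0741
import Mathlib

set_option autoImplicit false
open Cfsg

namespace Cfsg.Agent.S0741

open MulAction

theorem result {G Ω : Type*} [Group G] [Finite G] [MulAction G Ω] [Fintype Ω] (hZ : Cfsg.IsZassenhausGroup G Ω) {a b : Ω} (hab : a ≠ b) (heven : Even (Nat.card ↥(MulAction.stabilizer G a ⊓ MulAction.stabilizer G b))) : Fintype.card Ω - 2 ≤ 2 * Nat.card ↥(MulAction.stabilizer G a ⊓ MulAction.stabilizer G b) := by
  classical
  haveI : Fintype G := Fintype.ofFinite G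
  obtain ⟨_, h2t, h3fix, _, _⟩ := hZ
  rw [MulAction.is_two_pretransitive_iff] at h2t
  set H := MulAction.stabilizer G a ⊓ MulAction.stabilizer G b with hH
  set d := Nat.card H with hd
  set N := Fintype.card Ω with hN
  -- an involution in H
  haveI : Fintype H := Fintype.ofFinite H
  have h2d : 2 ∣ Fintype.card H := by
    rw [← Nat.card_eq_fintype_card]; exact even_iff_two_dvd.mp heven
  haveI : Fact (Nat.Prime 2) := ⟨Nat.prime_two⟩
  obtain ⟨t₀', ht₀'⟩ := exists_prime_orderOf_dvd_card 2 h2d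
  set t₀ : G := (t₀' : G) with ht₀
  have ht₀ord : orderOf t₀ = 2 := by rw [ht₀, Subgroup.orderOf_coe]; exact ht₀'
  have ht₀sq : t₀ * t₀ = 1 := by
    have := pow_orderOf_eq_one t₀
    rwa [ht₀ord, pow_two] at this
  have ht₀ne : t₀ ≠ 1 := by
    intro h
    rw [h, orderOf_one] at ht₀ord
    omega
  have ht₀a : t₀ • a = a := (Subgroup.mem_inf.mp t₀'.2).1
  have ht₀b : t₀ • b = b := (Subgroup.mem_inf.mp t₀'.2).2
  -- transporting elements
  have hk : ∀ x y : Ω, ∃ k : G, x ≠ y → k • a = x ∧ k • b = y := by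
    intro x y
    by_cases hxy : x = y
    · exact ⟨1, fun h => absurd hxy h⟩
    · obtain ⟨k, hk⟩ := h2t hab hxy
      exact ⟨k, fun _ => hk⟩
  choose k hk using hk
  set t : Ω → Ω → G := fun x y => k x y * t₀ * (k x y)⁻¹ with ht
  have hconja : ∀ (k : G) (x : Ω), k • a = x → (k * t₀ * k⁻¹) • x = x := by
    intro k x h
    subst h
    rw [mul_smul, mul_smul, inv_smul_smul, ht₀a]
  have hconjb : ∀ (k : G) (x : Ω), k • b = x → (k * t₀ * k⁻¹) • x = x := by
    intro k x h
    subst h
    rw [mul_smul, mul_smul, inv_smul_smul, ht₀b]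
  have htx : ∀ x y, x ≠ y → t x y • x = x := by
    intro x y hxy
    exact hconja _ _ (hk x y hxy).1
  have hty : ∀ x y, x ≠ y → t x y • y = y := by
    intro x y hxy
    exact hconjb _ _ (hk x y hxy).2
  have htsq : ∀ x y, t x y * t x y = 1 := by
    intro x y
    simp only [ht]
    have : k x y * t₀ * (k x y)⁻¹ * (k x y * t₀ * (k x y)⁻¹) = k x y * (t₀ * t₀) * (k x y)⁻¹ := by group
    rw [this, ht₀sq]; group
  have htne : ∀ x y, t x y ≠ 1 := by
    intro x y h
    apply ht₀ne
    simp only [ht] at h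
    have : t₀ = (k x y)⁻¹ * (k x y * t₀ * (k x y)⁻¹) * k x y := by group
    rw [this, h]; group
  have htz : ∀ x y z, x ≠ y → z ≠ x → z ≠ y → t x y • z ≠ z := by
    intro x y z hxy hzx hzy h
    exact htne x y (h3fix _ x y z hxy (Ne.symm hzy) (Ne.symm hzx) (htx x y hxy) (hty x y hxy) h)
  have htfix : ∀ x y z, x ≠ y → t x y • z = z → z = x ∨ z = y := by
    intro x y z hxy h
    by_contra hcon
    push Not at hcon
    exact htz x y z hxy hcon.1 hcon.2 h
  -- the sets
  let T : Finset (Σ _ : Ω × Ω, Ω) :=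
    (Finset.univ : Finset Ω).offDiag.sigma (fun xy => Finset.univ \ {xy.1, xy.2})
  let S : Finset (Σ _ : Ω × Ω, G) :=
    (Finset.univ : Finset Ω).offDiag.sigma
      (fun zw => Finset.univ.filter (fun g : G => g • zw.1 = zw.2 ∧ g • zw.2 = zw.1))
  let Φ : (Σ _ : Ω × Ω, Ω) → (Σ _ : Ω × Ω, G) :=
    fun p => ⟨(p.2, t p.1.1 p.1.2 • p.2), t p.1.1 p.1.2⟩
  have hTcard : T.card = (N * N - N) * (N - 2) := by
    rw [Finset.card_sigma]
    have : ∀ xy ∈ (Finset.univ : Finset Ω).offDiag,
        (Finset.univ \ ({xy.1, xy.2} : Finset Ω)).card = N - 2 := by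
      intro xy hxy
      rw [Finset.mem_offDiag] at hxy
      rw [Finset.card_sdiff_of_subset (Finset.subset_univ _), Finset.card_univ, Finset.card_pair hxy.2.2]
    rw [Finset.sum_congr rfl this, Finset.sum_const, Finset.offDiag_card, Finset.card_univ, smul_eq_mul]
  have hScard : S.card ≤ (N * N - N) * d := by
    rw [Finset.card_sigma]
    have : ∀ zw ∈ (Finset.univ : Finset Ω).offDiag,
        (Finset.univ.filter (fun g : G => g • zw.1 = zw.2 ∧ g • zw.2 = zw.1)).card ≤ d := by
      intro zw hzw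
      rw [Finset.mem_offDiag] at hzw
      obtain ⟨_, _, hne⟩ := hzw
      by_cases hemp : (Finset.univ.filter (fun g : G => g • zw.1 = zw.2 ∧ g • zw.2 = zw.1)) = ∅
      · rw [hemp]; simp
      · obtain ⟨g₀, hg₀⟩ := Finset.nonempty_iff_ne_empty.mpr hemp
        rw [Finset.mem_filter] at hg₀
        obtain ⟨_, hg₀1, hg₀2⟩ := hg₀
        obtain ⟨hk1, hk2⟩ := hk zw.1 zw.2 hne
        rw [hd, Nat.card_eq_fintype_card, ← Finset.card_univ (α := H)]
        refine Finset.card_le_card_of_injOn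
          (fun g => if h : (k zw.1 zw.2)⁻¹ * g₀⁻¹ * g * k zw.1 zw.2 ∈ H then
            (⟨(k zw.1 zw.2)⁻¹ * g₀⁻¹ * g * k zw.1 zw.2, h⟩ : H) else 1) (fun g _ => Finset.mem_univ _) ?_
        intro g hg g' hg' hgg'
        simp only [Finset.coe_filter, Finset.mem_univ, true_and, Set.mem_setOf_eq] at hg hg'
        have hmem : ∀ g : G, g • zw.1 = zw.2 ∧ g • zw.2 = zw.1 →
            (k zw.1 zw.2)⁻¹ * g₀⁻¹ * g * k zw.1 zw.2 ∈ H := by
          intro g hg
          rw [hH, Subgroup.mem_inf, MulAction.mem_stabilizer_iff, MulAction.mem_stabilizer_iff]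
          constructor
          · rw [mul_smul, mul_smul, mul_smul, hk1, hg.1, inv_smul_eq_iff.mpr hg₀1.symm,
              inv_smul_eq_iff.mpr hk1.symm]
          · rw [mul_smul, mul_smul, mul_smul, hk2, hg.2, inv_smul_eq_iff.mpr hg₀2.symm,
              inv_smul_eq_iff.mpr hk2.symm]
        simp only [dif_pos (hmem g hg), dif_pos (hmem g' hg')] at hgg'
        have := congrArg Subtype.val hgg'
        simpa using this
    calc ∑ zw ∈ (Finset.univ : Finset Ω).offDiag,
          (Finset.univ.filter (fun g : G => g • zw.1 = zw.2 ∧ g • zw.2 = zw.1)).card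
        ≤ ∑ _zw ∈ (Finset.univ : Finset Ω).offDiag, d := Finset.sum_le_sum this
      _ = (N * N - N) * d := by
        rw [Finset.sum_const, Finset.offDiag_card, Finset.card_univ, smul_eq_mul]
  have hΦS : T.image Φ ⊆ S := by
    intro s hs
    obtain ⟨p, hp, rfl⟩ := Finset.mem_image.mp hs
    obtain ⟨⟨x, y⟩, z⟩ := p
    simp only [T, Finset.mem_sigma, Finset.mem_offDiag, Finset.mem_univ, true_and, Finset.mem_sdiff,
      Finset.mem_insert, Finset.mem_singleton, not_or] at hp
    obtain ⟨hxy, hzx, hzy⟩ := hp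
    simp only [S, Φ, Finset.mem_sigma, Finset.mem_offDiag, Finset.mem_univ, true_and, Finset.mem_filter]
    refine ⟨(htz x y z hxy hzx hzy).symm, ?_⟩
    rw [← mul_smul, htsq, one_smul]
  have hfib : ∀ s ∈ T.image Φ, (T.filter (fun p => Φ p = s)).card ≤ 2 := by
    intro s hs
    obtain ⟨p, hp, rfl⟩ := Finset.mem_image.mp hs
    obtain ⟨⟨x, y⟩, z⟩ := p
    simp only [T, Finset.mem_sigma, Finset.mem_offDiag, Finset.mem_univ, true_and, Finset.mem_sdiff,
      Finset.mem_insert, Finset.mem_singleton, not_or] at hp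
    obtain ⟨hxy, hzx, hzy⟩ := hp
    have hsub : T.filter (fun p => Φ p = Φ ⟨(x, y), z⟩) ⊆
        ({⟨(x, y), z⟩, ⟨(y, x), z⟩} : Finset (Σ _ : Ω × Ω, Ω)) := by
      intro q hq
      obtain ⟨⟨x', y'⟩, z'⟩ := q
      simp only [T, Finset.mem_filter, Finset.mem_sigma, Finset.mem_offDiag, Finset.mem_univ, true_and,
        Finset.mem_sdiff, Finset.mem_insert, Finset.mem_singleton, not_or] at hq
      obtain ⟨⟨hxy', hzx', hzy'⟩, hΦ⟩ := hq
      simp only [Φ, Sigma.mk.injEq, Prod.mk.injEq] at hΦ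
      obtain ⟨⟨hz, _⟩, ht'⟩ := hΦ
      have ht'' : t x' y' = t x y := eq_of_heq ht'
      have h1 := htfix x y x' hxy (by rw [← ht'']; exact htx x' y' hxy')
      have h2 := htfix x y y' hxy (by rw [← ht'']; exact hty x' y' hxy')
      rw [Finset.mem_insert, Finset.mem_singleton]
      rcases h1 with h1 | h1 <;> rcases h2 with h2 | h2
      · exact absurd (h1.trans h2.symm) hxy'
      · left; rw [h1, h2, hz]
      · right; rw [h1, h2, hz]
      · exact absurd (h1.trans h2.symm) hxy'
    exact (Finset.card_le_card hsub).trans Finset.card_le_two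
  have h1 := Finset.card_le_mul_card_image T 2 hfib
  have h2 := Finset.card_le_card hΦS
  have hN2 : 2 ≤ N := by
    rw [hN]
    have : ({a, b} : Finset Ω).card ≤ Fintype.card Ω := Finset.card_le_univ _
    rwa [Finset.card_pair hab] at this
  have hpos : 0 < N * N - N := by
    have : N * 2 ≤ N * N := Nat.mul_le_mul_left N hN2
    have : N * N - N ≥ N := by omega
    omega
  have h3 : (N * N - N) * (N - 2) ≤ (N * N - N) * (2 * d) := by
    calc (N * N - N) * (N - 2) = T.card := hTcard.symm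
      _ ≤ 2 * (T.image Φ).card := h1
      _ ≤ 2 * S.card := Nat.mul_le_mul_left 2 h2
      _ ≤ 2 * ((N * N - N) * d) := Nat.mul_le_mul_left 2 hScard
      _ = (N * N - N) * (2 * d) := by ring
  exact Nat.le_of_mul_le_mul_left h3 hpos

end Cfsg.Agent.S0741
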