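import Mathlib
import Cfsg.Statements.S0731
import Cfsg.Agent.Lib.Helper3.ZassAb1

set_option autoImplicit false

namespace Cfsg.Agent.S0731

open MulAction Cfsg.Agent.Lib.Helper3.ZassAb

theorem result {G Ω : Type*} [Group G] [Finite G] [MulAction G Ω] [Finite Ω] (hZ : Cfsg.IsZassenhausGroup G Ω) (x : Ω) (F : Subgroup G) (hFle : F ≤ MulAction.stabilizer G x) (hFn : (F.subgroupOf (MulAction.stabilizer G x)).Normal) (hFab : IsMulCommutative F) (hreg : ∀ y z : Ω, y ≠ x → z ≠ x → ∃! u : F, (u : G) • y = z) : (MulAction.IsMultiplyPretransitive G Ω 3 ∧ ∀ t : Fin 3 ↪ Ω, MulAction.stabilizer G t = ⊥) ∨ ∃ (K : Type) (_ : Field K) (_ : Fintype K), ringChar K ≠ 2 ∧ Nonempty (G ≃* Matrix.ProjectiveSpecialLinearGroup (Fin 2) K) := by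
  classical
  haveI : Fintype Ω := Fintype.ofFinite Ω
  obtain ⟨b, hxb⟩ : ∃ b : Ω, x ≠ b := by
    obtain ⟨-, -, -, ⟨g, hg, a₀, b₀, hab₀, -, -⟩, -⟩ := hZ
    by_cases h : x = a₀
    · exact ⟨b₀, h ▸ hab₀⟩
    · exact ⟨a₀, h⟩
  have hedvd := Cfsg.Agent.Lib.Helper11.zc_e_dvd hZ hxb
  have hn3 := Cfsg.Agent.Lib.Helper11.zc_three_le_card hZ hxb
  have hFab' : ∀ u ∈ F, ∀ v ∈ F, u * v = v * u := fun u hu v hv =>
    congrArg Subtype.val (hFab.is_comm.comm ⟨u, hu⟩ ⟨v, hv⟩)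
  have hcardF := kernel_card hxb F hFle hreg
  have hFfix := kernel_fix F hreg
  obtain ⟨d, hd⟩ : ∃ d, Nat.card ↥(stabilizer G x ⊓ stabilizer G b : Subgroup G) = d := ⟨_, rfl⟩
  by_cases hsharp : d + 2 = Fintype.card Ω
  · left
    exact sharp3_of_card hZ hxb (by rw [hd]; exact hsharp)
  · right
    have h2d : 2 * d ≤ Fintype.card Ω - 2 := by
      rw [hd] at hedvd
      obtain ⟨k, hk⟩ := hedvd
      have hk0 : k ≠ 0 := by
        rintro rfl
        omega
      have hk1 : k ≠ 1 := by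
        rintro rfl
        omega
      have hk2 : 2 ≤ k := by omega
      calc 2 * d = d * 2 := mul_comm _ _
        _ ≤ d * k := Nat.mul_le_mul_left d hk2
        _ = Fintype.card Ω - 2 := hk.symm
    rcases Nat.even_or_odd d with heven | hodd
    · obtain ⟨p, f, K, iK, iKT, hp, hp2, hcK, -, hiso⟩ :=
        Cfsg.Agent.Helper29.ZassHalf.main_half hZ hxb (by rw [hd]; exact heven)
          (by rw [hd]; exact h2d)
      refine ⟨K, iK, iKT, ?_, hiso⟩
      intro hchar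
      have h1 := FiniteField.even_card_iff_char_two.1 hchar
      rw [hcK] at h1
      have h2 : 2 ∣ p ^ f := Nat.dvd_of_mod_eq_zero h1
      have h3 : 2 ∣ p := Nat.Prime.dvd_of_dvd_pow Nat.prime_two h2
      exact hp2 ((Nat.prime_dvd_prime_iff_eq Nat.prime_two hp).1 h3).symm
    · have hzf := Cfsg.Agent.Lib.Helper11.zf_main Ω (Nat.card G) G hZ x b hxb
        (Fintype.card Ω - 1) d (by omega) hd hodd F hFle (by omega) hFfix rfl
      rcases hzf with h1 | ⟨-, ⟨u, v, huv⟩, -⟩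
      · exact odd_half hZ hxb (by rw [hd]; exact hodd) (by rw [hd]; omega) F hFle hFn hFab' hreg
      · exfalso
        apply huv
        exact hFab.is_comm.comm u v

end Cfsg.Agent.S0731
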