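import Cfsg.Statements.S4219

set_option autoImplicit false
open Cfsg

namespace Cfsg.Agent.S4219

open scoped Pointwise

/-- Two subgroups of `K` of full `p`-power order are conjugate by an element of `K`. -/
theorem conj_in_subgroup {G : Type*} [Group G] [Finite G] {p : ℕ} [Fact p.Prime]
    (K Q Q' : Subgroup G) (hQ : Q ≤ K) (hQ' : Q' ≤ K)
    (c1 : Nat.card Q = p ^ (Nat.card K).factorization p)
    (c2 : Nat.card Q' = p ^ (Nat.card K).factorization p) :
    ∃ k ∈ K, MulAut.conj k • Q' = Q := by
  have e1 : Nat.card (Q.subgroupOf K) = p ^ (Nat.card K).factorization p := by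
    rw [← c1]; exact Nat.card_congr (Subgroup.subgroupOfEquivOfLe hQ).toEquiv
  have e2 : Nat.card (Q'.subgroupOf K) = p ^ (Nat.card K).factorization p := by
    rw [← c2]; exact Nat.card_congr (Subgroup.subgroupOfEquivOfLe hQ').toEquiv
  let S1 : Sylow p K := Sylow.ofCard (Q.subgroupOf K) e1
  let S2 : Sylow p K := Sylow.ofCard (Q'.subgroupOf K) e2
  obtain ⟨k, hk⟩ := MulAction.exists_smul_eq K S2 S1
  refine ⟨k, k.2, ?_⟩
  have key : ∀ z : K, z ∈ (k • S2 : Sylow p K) ↔ z ∈ S1 := fun z => by rw [hk]
  have key2 : ∀ z : K, ((k⁻¹ * z * k : K) : G) ∈ Q' ↔ (z : G) ∈ Q := by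
    intro z
    have := key z
    have h1 : z ∈ (k • S2 : Sylow p K) ↔ (k⁻¹ * z * k) ∈ Q'.subgroupOf K := by
      show z ∈ ((k • S2 : Sylow p K) : Subgroup K) ↔ _
      rw [Sylow.coe_subgroup_smul, Subgroup.mem_pointwise_smul_iff_inv_smul_mem]
      simp only [MulAut.smul_def, MulAut.conj_inv_apply]
      rfl
    rw [h1] at this
    exact this
  ext y
  rw [Subgroup.mem_pointwise_smul_iff_inv_smul_mem]
  simp only [MulAut.smul_def, MulAut.conj_inv_apply]
  constructor
  · intro hy
    have hyK : y ∈ K := by
      have h1 := hQ' hy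
      have : y = (k : G) * ((k : G)⁻¹ * y * k) * (k : G)⁻¹ := by group
      rw [this]
      exact K.mul_mem (K.mul_mem k.2 h1) (K.inv_mem k.2)
    exact (key2 ⟨y, hyK⟩).mp hy
  · intro hy
    exact (key2 ⟨y, hQ hy⟩).mpr hy

/-- Let a finite group `G` act `t`-fold transitively on a finite set, let `H` be the stabilizer of `t` distinct points and `P` a Sylow `p`-subgroup of `H`. Then the normalizer of `P` in `G` is `t`-fold transitive on the fixed points of `P`: any `t` distinct fixed points of `P` can be carried to any other `t` distinct fixed points of `P` by an element normalizing `P`. -/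
theorem result {G : Type*} [Group G] [Finite G] {α : Type*} [Fintype α] [MulAction G α] {t : ℕ} (hG : MulAction.IsMultiplyPretransitive G α t) (x : Fin t ↪ α) {p : ℕ} [Fact p.Prime] (P : Sylow p (MulAction.stabilizer G x)) (a b : Fin t ↪ α) (ha : ∀ i, a i ∈ MulAction.fixedPoints ((P : Subgroup (MulAction.stabilizer G x)).map (MulAction.stabilizer G x).subtype) α) (hb : ∀ i, b i ∈ MulAction.fixedPoints ((P : Subgroup (MulAction.stabilizer G x)).map (MulAction.stabilizer G x).subtype) α) : ∃ g ∈ Subgroup.normalizer ((((P : Subgroup (MulAction.stabilizer G x)).map (MulAction.stabilizer G x).subtype) : Subgroup G) : Set G), g • a = b := by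
  set Q : Subgroup G := (P : Subgroup (MulAction.stabilizer G x)).map (MulAction.stabilizer G x).subtype with hQdef
  have hcardQ : Nat.card Q = p ^ (Nat.card (MulAction.stabilizer G x)).factorization p := by
    rw [← P.card_eq_multiplicity]
    exact (Nat.card_congr ((P : Subgroup (MulAction.stabilizer G x)).equivMapOfInjective _
      (Subgroup.subtype_injective _)).toEquiv).symm
  have hfix : ∀ c : Fin t ↪ α, (∀ i, c i ∈ MulAction.fixedPoints Q α) → Q ≤ MulAction.stabilizer G c := by
    intro c hc q hq
    rw [MulAction.mem_stabilizer_iff]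
    ext i
    exact hc i ⟨q, hq⟩
  have hcard : ∀ c : Fin t ↪ α, Nat.card (MulAction.stabilizer G c) = Nat.card (MulAction.stabilizer G x) := by
    intro c
    obtain ⟨g, hg⟩ := hG.exists_smul_eq x c
    exact (Nat.card_congr (MulAction.stabilizerEquivStabilizer hg.symm).toEquiv).symm
  obtain ⟨h, hh⟩ := hG.exists_smul_eq a b
  have hQ'le : MulAut.conj h • Q ≤ MulAction.stabilizer G b := by
    intro y hy
    rw [Subgroup.mem_pointwise_smul_iff_inv_smul_mem] at hy
    simp only [MulAut.smul_def, MulAut.conj_inv_apply] at hy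
    have h1 := hfix a ha hy
    rw [MulAction.mem_stabilizer_iff] at h1 ⊢
    rw [← hh]
    rw [mul_smul, mul_smul, smul_eq_iff_eq_inv_smul] at h1
    rw [h1, inv_inv]
  have hcardQ' : Nat.card (MulAut.conj h • Q : Subgroup G) = Nat.card Q :=
    (Nat.card_congr (Subgroup.equivSMul (MulAut.conj h) Q).toEquiv).symm
  obtain ⟨k, hk, hkQ⟩ := conj_in_subgroup (p := p) (MulAction.stabilizer G b) Q (MulAut.conj h • Q)
    (hfix b hb) hQ'le (by rw [hcard b, hcardQ]) (by rw [hcard b, hcardQ', hcardQ])
  refine ⟨k * h, ?_, ?_⟩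
  · have hconj : MulAut.conj (k * h) • Q = Q := by
      rw [map_mul, mul_smul, hkQ]
    rw [Subgroup.mem_normalizer_iff]
    intro q
    constructor
    · intro hq
      have := Subgroup.smul_mem_pointwise_smul q (MulAut.conj (k * h)) Q hq
      rw [hconj] at this
      simpa [MulAut.smul_def, mul_assoc] using this
    · intro hq
      rw [← hconj, Subgroup.mem_pointwise_smul_iff_inv_smul_mem] at hq
      simp only [MulAut.smul_def, MulAut.conj_inv_apply] at hq
      have e : (k * h)⁻¹ * ((k * h) * q * (k * h)⁻¹) * (k * h) = q := by group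
      rwa [e] at hq
  · rw [mul_smul, hh]
    exact MulAction.mem_stabilizer_iff.mp hk

end Cfsg.Agent.S4219
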