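import Cfsg.Statements.S0042
import Cfsg.Agent.S0035
import Cfsg.Agent.S0033

set_option autoImplicit false
open Cfsg

namespace Cfsg.Agent.S0042

open Pointwise in
/-- Structure of finite Frobenius groups: the Frobenius kernel is a nilpotent normal subgroup. -/
theorem result {G : Type*} [Group G] [Finite G] (H : Subgroup G) (hH : Cfsg.IsFrobeniusComplement H) :
    ∃ N : Subgroup G, (N : Set G) = Cfsg.frobeniusKernel H ∧ N.Normal ∧ Group.IsNilpotent N := by
  classical
  obtain ⟨N, hNset, hNn, -⟩ := Cfsg.Agent.S0035.result H hH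
  refine ⟨N, hNset, hNn, ?_⟩
  obtain ⟨hH1, -, hHfrob⟩ := hH
  -- an element of prime order in `H`
  have hcard1 : Nat.card H ≠ 1 := by
    rw [Ne, Subgroup.card_eq_one]
    exact hH1
  obtain ⟨r, hr, hrdvd⟩ := Nat.exists_prime_and_dvd hcard1
  have hrf : Fact r.Prime := ⟨hr⟩
  obtain ⟨h, hh⟩ := exists_prime_orderOf_dvd_card' r hrdvd
  have hhG : orderOf (h : G) = r := by rw [Subgroup.orderOf_coe, hh]
  have hh1 : (h : G) ≠ 1 := by
    intro h1
    rw [h1, orderOf_one] at hhG
    exact hr.one_lt.ne hhG
  let φ : MulAut N := MulAut.conjNormal (h : G)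
  have hφval : ∀ n : N, ((φ n : N) : G) = h * n * (h : G)⁻¹ := fun n => MulAut.conjNormal_apply _ n
  have hfpf : MonoidHom.FixedPointFree ((φ : N ≃* N) : N →* N) := by
    intro n hn
    have h1 : (h : G) * n * (h : G)⁻¹ = n := by
      rw [← hφval]
      exact congrArg Subtype.val hn
    by_contra hn1
    have hnG : (n : G) ≠ 1 := fun hc => hn1 (Subtype.ext hc)
    have hnK : (n : G) ∈ Cfsg.frobeniusKernel H := by
      rw [← hNset]
      exact n.2
    rcases hnK with hc | hc
    · exact hnG hc
    · have hnH : (n : G) ∉ H := by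
        intro hmem
        apply hc 1
        rw [map_one, one_smul]
        exact hmem
      have h2 := hHfrob (n : G) hnH
      have h3 : (h : G) ∈ H ⊓ (MulAut.conj (n : G) • H) := by
        refine Subgroup.mem_inf.2 ⟨h.2, ?_⟩
        rw [Subgroup.mem_pointwise_smul_iff_inv_smul_mem]
        show (MulAut.conj (n : G))⁻¹ (h : G) ∈ H
        rw [← map_inv, MulAut.conj_apply, inv_inv]
        have e1 : (n : G)⁻¹ * h * n = h := by
          calc (n : G)⁻¹ * h * n = (n : G)⁻¹ * (h * n * (h : G)⁻¹) * h := by group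
            _ = h := by rw [h1]; group
        rw [e1]
        exact h.2
      rw [h2, Subgroup.mem_bot] at h3
      exact hh1 h3
  have hpow : φ ^ r = 1 := by
    show (MulAut.conjNormal (h : G) : MulAut N) ^ r = 1
    rw [← map_pow, ← hhG, pow_orderOf_eq_one, map_one]
  have hdvd : orderOf φ ∣ r := orderOf_dvd_of_pow_eq_one hpow
  rcases (Nat.dvd_prime hr).1 hdvd with h1 | h1
  · -- `φ = 1`, so `N` is trivial
    rw [orderOf_eq_one_iff] at h1
    have hsub : Subsingleton N := by
      constructor
      intro a b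
      have ha : a = 1 := hfpf a (by
        show φ a = a
        rw [h1]; rfl)
      have hb : b = 1 := hfpf b (by
        show φ b = b
        rw [h1]; rfl)
      rw [ha, hb]
    exact Group.isNilpotent_of_subsingleton
  · exact Cfsg.Agent.S0033.result φ hfpf r hr h1

end Cfsg.Agent.S0042
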