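import Cfsg.Statements.S0602
import Cfsg.Agent.H5.Thompson

set_option autoImplicit false
open Cfsg

namespace Cfsg.Agent.S0602

/-- The Thompson subgroup is characteristic, and nontrivial as soon as p divides the group order. -/
theorem result {G : Type*} [Group G] [Finite G] {p : ℕ} [Fact p.Prime] : (Cfsg.thompsonSubgroup p G).Characteristic ∧ (p ∣ Nat.card G → Cfsg.thompsonSubgroup p G ≠ ⊥) := by
  refine ⟨Cfsg.H5.thompsonSubgroup_characteristic p, ?_⟩
  intro hp hJ
  obtain ⟨x, hx⟩ := exists_prime_orderOf_dvd_card' (G := G) p hp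
  obtain ⟨A, hA⟩ := Cfsg.H5.maxElementaryAbelianSubgroups_nonempty (G := G) p
  have hAJ : A ≤ Cfsg.thompsonSubgroup p G := le_sSup hA
  rw [hJ, le_bot_iff] at hAJ
  have hxp : x ^ p = 1 := by rw [← hx]; exact pow_orderOf_eq_one x
  have h1 := hA.2 _ (Cfsg.H5.isElementaryAbelian_zpowers hxp)
  rw [hAJ, Subgroup.card_bot, Nat.card_zpowers, hx] at h1
  have := (Fact.out : p.Prime).two_le
  omega

end Cfsg.Agent.S0602
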