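-- Statement S2119.
import Mathlib
import Cfsg.Statements.S2119

set_option autoImplicit false
open Cfsg

namespace Cfsg.Agent.S2119

open Equiv Equiv.Perm

/-! ### Numerical inequalities -/

theorem fact_ineq_a : ∀ j : ℕ, 2 ≤ j → 2 * 3 ^ j * (j + 1).factorial < (3 * j).factorial := by
  intro j hj
  induction j, hj using Nat.le_induction with
  | base => decide
  | succ j hj ih =>
    have e1 : (3 * (j + 1)).factorial =
        (3 * j + 3) * ((3 * j + 2) * ((3 * j + 1) * (3 * j).factorial)) := by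
      have h1 : (3 * j + 3).factorial = (3 * j + 3) * (3 * j + 2).factorial :=
        Nat.factorial_succ (3 * j + 2)
      have h2 : (3 * j + 2).factorial = (3 * j + 2) * (3 * j + 1).factorial :=
        Nat.factorial_succ (3 * j + 1)
      have h3 : (3 * j + 1).factorial = (3 * j + 1) * (3 * j).factorial :=
        Nat.factorial_succ (3 * j)
      rw [show 3 * (j + 1) = 3 * j + 3 by ring, h1, h2, h3]
    have e2 : (j + 1 + 1).factorial = (j + 2) * (j + 1).factorial := Nat.factorial_succ (j + 1)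
    rw [e1, e2, pow_succ]
    have h22 : 2 * 1 ≤ (3 * j + 2) * (3 * j + 1) :=
      Nat.mul_le_mul (by omega) (by omega)
    have h33 : 3 * (j + 2) ≤ (3 * j + 3) * ((3 * j + 2) * (3 * j + 1)) := by
      calc 3 * (j + 2) ≤ (3 * j + 3) * 2 := by omega
        _ ≤ (3 * j + 3) * ((3 * j + 2) * (3 * j + 1)) := Nat.mul_le_mul_left _ (by omega)
    calc 2 * (3 ^ j * 3) * ((j + 2) * (j + 1).factorial)
        = (3 * (j + 2)) * (2 * 3 ^ j * (j + 1).factorial) := by ring
      _ < (3 * (j + 2)) * (3 * j).factorial := Nat.mul_lt_mul_of_pos_left ih (by omega)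
      _ ≤ ((3 * j + 3) * ((3 * j + 2) * (3 * j + 1))) * (3 * j).factorial :=
          Nat.mul_le_mul_right _ h33
      _ = (3 * j + 3) * ((3 * j + 2) * ((3 * j + 1) * (3 * j).factorial)) := by ring

theorem fact_ineq_b (m : ℕ) (hm : 1 ≤ m) : 12 * m.factorial < (m + 3).factorial := by
  have e : (m + 3).factorial = (m + 3) * ((m + 2) * ((m + 1) * m.factorial)) := by
    have h1 : (m + 3).factorial = (m + 3) * (m + 2).factorial := Nat.factorial_succ (m + 2)
    have h2 : (m + 2).factorial = (m + 2) * (m + 1).factorial := Nat.factorial_succ (m + 1)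
    have h3 : (m + 1).factorial = (m + 1) * m.factorial := Nat.factorial_succ m
    rw [h1, h2, h3]
  rw [e]
  have hpos := Nat.factorial_pos m
  have h1 : 4 * (3 * 2) ≤ (m + 3) * ((m + 2) * (m + 1)) :=
    Nat.mul_le_mul (by omega) (Nat.mul_le_mul (by omega) (by omega))
  calc 12 * m.factorial < 4 * (3 * 2) * m.factorial := by omega
    _ ≤ ((m + 3) * ((m + 2) * (m + 1))) * m.factorial := Nat.mul_le_mul_right _ h1
    _ = (m + 3) * ((m + 2) * ((m + 1) * m.factorial)) := by ring

theorem ineq_main (m k : ℕ) (hk : 1 ≤ k) (hmk : ¬ (m = 0 ∧ k = 1)) :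
    2 * (m.factorial * 3 ^ (k + 1) * (k + 1).factorial) < 3 * (m + 3 * k).factorial := by
  rcases Nat.lt_or_ge k 2 with h | h
  · have hk1 : k = 1 := by omega
    subst hk1
    have hm : 1 ≤ m := by omega
    have h1 := fact_ineq_b m hm
    have e2 : (1 + 1).factorial = 2 := by decide
    have e3 : m + 3 * 1 = m + 3 := by ring
    rw [e2, e3]
    have e4 : 2 * (m.factorial * 3 ^ (1 + 1) * 2) = 36 * m.factorial := by ring
    rw [e4]
    omega
  · have h1 := fact_ineq_a k h
    have h2 : m.factorial * (3 * k).factorial ≤ (m + 3 * k).factorial :=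
      Nat.le_of_dvd (Nat.factorial_pos _) (Nat.factorial_mul_factorial_dvd_factorial_add m (3 * k))
    have hpos := Nat.factorial_pos m
    calc 2 * (m.factorial * 3 ^ (k + 1) * (k + 1).factorial)
        = 3 * (m.factorial * (2 * 3 ^ k * (k + 1).factorial)) := by rw [pow_succ]; ring
      _ < 3 * (m.factorial * (3 * k).factorial) :=
          Nat.mul_lt_mul_of_pos_left (Nat.mul_lt_mul_of_pos_left h1 hpos) (by norm_num)
      _ ≤ 3 * (m + 3 * k).factorial := Nat.mul_le_mul_left _ h2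

/-! ### Three-cycles -/

section ThreeCycles

variable {α : Type*} [Fintype α] [DecidableEq α]

theorem tc_mem {g : Perm α} (hg : IsThreeCycle g) {a x : α} (ha : g a ≠ a) (hx : g x ≠ x) :
    x = a ∨ x = g a ∨ x = g (g a) := by
  have hsupp := (hg.support_eq_iff_mem_support (a := a)).mpr (Perm.mem_support.mpr ha)
  have hx' : x ∈ g.support := Perm.mem_support.mpr hx
  rw [hsupp] at hx'
  simpa using hx'

theorem tc_cube {g : Perm α} (hg : IsThreeCycle g) (a : α) : g (g (g a)) = a := by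
  have h : g ^ 3 = 1 := by
    rw [← hg.orderOf]
    exact pow_orderOf_eq_one g
  rw [pow_three'] at h
  have := DFunLike.congr_fun h a
  simpa [Perm.mul_apply] using this

theorem tc_ne1 {g : Perm α} {a : α} (ha : g a ≠ a) : g (g a) ≠ g a :=
  fun h => ha (g.injective h)

theorem tc_ne2 {g : Perm α} (hg : IsThreeCycle g) {a : α} (ha : g a ≠ a) : g (g a) ≠ a := by
  intro h
  have := tc_cube hg a
  rw [h] at this
  exact ha this

theorem tc_ext {g h : Perm α} (hg : IsThreeCycle g) (hh : IsThreeCycle h) {a : α} (ha : g a ≠ a)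
    (h1 : h a = g a) (h2 : h (g a) = g (g a)) : h = g := by
  have ha' : h a ≠ a := by rw [h1]; exact ha
  have h3 : h (g (g a)) = g (g (g a)) := by
    rw [tc_cube hg a, ← h2, ← h1]
    exact tc_cube hh a
  apply Equiv.ext
  intro x
  by_cases hx : g x = x
  · rw [hx]
    by_contra hne
    rcases tc_mem hh ha' hne with e | e | e
    · rw [e] at hx
      exact ha hx
    · rw [e, h1] at hx
      exact tc_ne1 ha hx
    · rw [e, h1, h2] at hx
      exact tc_ne1 (tc_ne1 ha) hx
  · rcases tc_mem hg ha hx with e | e | e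
    · rw [e, h1]
    · rw [e, h2]
    · rw [e, h3]

theorem tc_same_support {g h : Perm α} (hg : IsThreeCycle g) (hh : IsThreeCycle h)
    (hs : ∀ x, g x = x → h x = x) : h = g ∨ h = g⁻¹ := by
  obtain ⟨a, ha⟩ : ∃ a, h a ≠ a := by
    by_contra hcon
    push Not at hcon
    exact hh.ne_one (Equiv.ext hcon)
  have hga : g a ≠ a := fun hc => ha (hs a hc)
  have hha2 : h (h a) ≠ h a := tc_ne1 ha
  have hgha : g (h a) ≠ h a := fun hc => hha2 (hs _ hc)
  have hhha3 : h (h (h a)) ≠ h (h a) := tc_ne1 hha2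
  have hghha : g (h (h a)) ≠ h (h a) := fun hc => hhha3 (hs _ hc)
  rcases tc_mem hg hga hgha with e | e | e
  · exact absurd e ha
  · left
    refine tc_ext hg hh hga e ?_
    rw [← e]
    rcases tc_mem hg hga hghha with e2 | e2 | e2
    · exact absurd e2 (tc_ne2 hh ha)
    · rw [← e] at e2
      exact absurd e2 hha2
    · rw [← e] at e2
      exact e2
  · right
    have hginv : g⁻¹ a = g (g a) := by
      rw [Perm.inv_eq_iff_eq]
      exact (tc_cube hg a).symm
    have hginva : g⁻¹ a ≠ a := by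
      rw [hginv]
      exact tc_ne2 hg hga
    refine tc_ext hg.inv hh hginva (by rw [hginv]; exact e) ?_
    have h2 : g⁻¹ (g⁻¹ a) = g a := by
      rw [hginv]
      exact Perm.inv_eq_iff_eq.mpr rfl
    rw [h2, hginv, ← e]
    rcases tc_mem hg hga hghha with e2 | e2 | e2
    · exact absurd e2 (tc_ne2 hh ha)
    · exact e2
    · rw [← e] at e2
      exact absurd e2 hha2

theorem edge {g h : Perm α} (hh : IsThreeCycle h) (hgh : g * h * (g * h) = 1) {q : α}
    (hq : g q = q) : g (h q) = h (h q) := by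
  have h1 := DFunLike.congr_fun hgh (h (h q))
  simp only [Perm.mul_apply, Perm.one_apply] at h1
  rw [tc_cube hh q, hq] at h1
  exact h1

theorem common_edge {g h : Perm α} (hg : IsThreeCycle g) (hh : IsThreeCycle h)
    (hgh : g * h * (g * h) = 1) (h1 : h ≠ g) (h2 : h ≠ g⁻¹) :
    ∃ a, h a ≠ a ∧ g a = h a ∧ g (h (h a)) = h (h a) := by
  have hex : ∃ q, g q = q ∧ h q ≠ q := by
    by_contra hcon
    push Not at hcon
    rcases tc_same_support hg hh hcon with h' | h'
    · exact h1 h'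
    · exact h2 h'
  obtain ⟨q, hq1, hq2⟩ := hex
  refine ⟨h q, fun hc => hq2 (h.injective hc), edge hh hgh hq1, ?_⟩
  rw [tc_cube hh q]
  exact hq1

theorem triple {g h k : Perm α} (hg : IsThreeCycle g) (hh : IsThreeCycle h) (hk : IsThreeCycle k)
    {a : α} (ha : g a ≠ a) (hab : h a = g a) (hd : g (h (g a)) = h (g a))
    (hgk : g * k * (g * k) = 1) (hhk : h * k * (h * k) = 1)
    (k1 : k ≠ g) (k2 : k ≠ g⁻¹) (k3 : k ≠ h) (k4 : k ≠ h⁻¹) : k a = g a := by
  obtain ⟨p, hp1, hp2, -⟩ := common_edge hg hk hgk k1 k2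
  obtain ⟨p', hp1', hp2', -⟩ := common_edge hh hk hhk k3 k4
  have hgp : g p ≠ p := by rw [hp2]; exact hp1
  have hhp' : h p' ≠ p' := by rw [hp2']; exact hp1'
  have ha' : h a ≠ a := by rw [hab]; exact ha
  have hgga : g (g a) ≠ g a := tc_ne1 ha
  have hggga : g (g (g a)) = a := tc_cube hg a
  have hhhha : h (h (h a)) = a := tc_cube hh a
  rcases tc_mem hg ha hgp with e | e | e
  · rw [e] at hp2
    exact hp2.symm
  · rw [e] at hp1 hp2
    rcases tc_mem hh ha' hhp' with e' | e' | e'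
    · rw [e'] at hp2'
      rw [← hp2', hab]
    · rw [e', hab] at hp2'
      exfalso
      have e3 : h (g a) = g (g a) := by rw [hp2', hp2]
      rw [e3] at hd
      exact hgga (g.injective hd)
    · rw [e', hab] at hp2' hp1'
      exfalso
      have hhd : h (h (g a)) = a := by
        rw [← hab]
        exact hhhha
      rw [hhd] at hp2'
      rcases tc_mem hk hp1 hp1' with e'' | e'' | e''
      · rw [← hab] at e''
        exact tc_ne1 ha' e''
      · rw [← hp2] at e''
        rw [e''] at hd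
        exact hgga (g.injective hd)
      · have h5 : k (h (g a)) = g a := by
          rw [e'']
          exact tc_cube hk (g a)
        rw [← hp2'] at h5
        exact ha h5.symm
  · rw [e] at hp1 hp2
    rw [hggga] at hp2
    rcases tc_mem hh ha' hhp' with e' | e' | e'
    · rw [e'] at hp2'
      rw [← hp2', hab]
    · rw [e', hab] at hp2' hp1'
      rcases tc_mem hk hp1 hp1' with e'' | e'' | e''
      · exact absurd e''.symm hgga
      · rw [← hp2] at e''
        exact absurd e'' ha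
      · rw [← hp2] at e''
        exact e''.symm
    · rw [e', hab] at hp2'
      exfalso
      have hhd : h (h (g a)) = a := by
        rw [← hab]
        exact hhhha
      rw [hhd] at hp2'
      have h5 : g (g a) = h (g a) := k.injective (by rw [← hp2, ← hp2'])
      rw [← h5] at hd
      exact hgga (g.injective hd)

/-! ### The generators `(p0 p1 i)` -/

theorem gen_isThreeCycle {p0 p1 i : α} (h01 : p0 ≠ p1) (hi0 : i ≠ p0) (hi1 : i ≠ p1) :
    IsThreeCycle (swap p0 p1 * swap p1 i) := by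
  rw [swap_comm p0 p1]
  exact isThreeCycle_swap_mul_swap_same h01.symm hi1.symm hi0.symm

theorem gen_apply_self (p0 p1 j : α) : (swap p0 p1 * swap p1 j) j = p0 := by
  rw [Perm.mul_apply, swap_apply_right, swap_apply_right]

theorem gen_apply_other {p0 p1 i x : α} (hx0 : x ≠ p0) (hx1 : x ≠ p1) (hxi : x ≠ i) :
    (swap p0 p1 * swap p1 i) x = x := by
  rw [Perm.mul_apply, swap_apply_of_ne_of_ne hx1 hxi, swap_apply_of_ne_of_ne hx0 hx1]

theorem gen_rel {p0 p1 i j : α} (h01 : p0 ≠ p1) (hi0 : i ≠ p0) (hi1 : i ≠ p1)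
    (hj0 : j ≠ p0) (hj1 : j ≠ p1) (hij : i ≠ j) :
    (swap p0 p1 * swap p1 i) * (swap p0 p1 * swap p1 j) *
      ((swap p0 p1 * swap p1 i) * (swap p0 p1 * swap p1 j)) = 1 := by
  have e : swap p0 p1 * swap p1 i * swap p0 p1 = swap p0 i := by
    have e' := swap_apply_apply (swap p0 p1) p1 i
    rw [swap_apply_right, swap_apply_of_ne_of_ne hi0 hi1, swap_inv] at e'
    exact e'.symm
  have e2 : (swap p0 p1 * swap p1 i) * (swap p0 p1 * swap p1 j) = swap p0 i * swap p1 j := by
    rw [← e]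
    group
  have hd : Perm.Disjoint (swap p0 i) (swap p1 j) :=
    disjoint_swap_swap (by simp [h01, hi0.symm, hj0.symm, hi1, hij, hj1.symm])
  have hc : swap p0 i * swap p1 j = swap p1 j * swap p0 i := hd.commute.eq
  rw [e2]
  calc swap p0 i * swap p1 j * (swap p0 i * swap p1 j)
      = swap p0 i * (swap p1 j * swap p0 i) * swap p1 j := by group
    _ = swap p0 i * (swap p0 i * swap p1 j) * swap p1 j := by rw [← hc]
    _ = (swap p0 i * swap p0 i) * (swap p1 j * swap p1 j) := by group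
    _ = 1 := by rw [swap_mul_self, swap_mul_self, one_mul]

/-- The 3-cycles `(p0 p1 i)` generate the alternating group. -/
theorem gen_closure (p0 p1 : α) (h01 : p0 ≠ p1) :
    alternatingGroup α ≤ Subgroup.closure
      {g : Perm α | ∃ i, i ≠ p0 ∧ i ≠ p1 ∧ g = swap p0 p1 * swap p1 i} := by
  have hss : swap p0 p1 * swap p0 p1 = 1 := swap_mul_self p0 p1
  have hsinv : (swap p0 p1)⁻¹ = swap p0 p1 := swap_inv p0 p1
  have hHA : Subgroup.closure
      {g : Perm α | ∃ i, i ≠ p0 ∧ i ≠ p1 ∧ g = swap p0 p1 * swap p1 i} ≤ alternatingGroup α := by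
    rw [Subgroup.closure_le]
    rintro g ⟨i, hi0, hi1, rfl⟩
    exact (gen_isThreeCycle h01 hi0 hi1).mem_alternatingGroup
  have hconj : ∀ y ∈ Subgroup.closure
      {g : Perm α | ∃ i, i ≠ p0 ∧ i ≠ p1 ∧ g = swap p0 p1 * swap p1 i},
      swap p0 p1 * y * swap p0 p1 ∈ Subgroup.closure
        {g : Perm α | ∃ i, i ≠ p0 ∧ i ≠ p1 ∧ g = swap p0 p1 * swap p1 i} := by
    intro y hy
    induction hy using Subgroup.closure_induction with
    | mem y hy =>
      obtain ⟨i, hi0, hi1, rfl⟩ := hy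
      have h1 : swap p0 p1 * (swap p0 p1 * swap p1 i) * swap p0 p1 =
          (swap p0 p1 * swap p1 i)⁻¹ := by
        rw [mul_inv_rev, swap_inv, hsinv, ← mul_assoc, hss, one_mul]
      rw [h1]
      exact inv_mem (Subgroup.subset_closure ⟨i, hi0, hi1, rfl⟩)
    | one =>
      rw [mul_one, hss]
      exact one_mem _
    | mul x y _ _ hx hy =>
      have h1 : swap p0 p1 * (x * y) * swap p0 p1 =
          (swap p0 p1 * x * swap p0 p1) * (swap p0 p1 * y * swap p0 p1) := by
        have e : (swap p0 p1 * x * swap p0 p1) * (swap p0 p1 * y * swap p0 p1) =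
            swap p0 p1 * x * (swap p0 p1 * swap p0 p1) * y * swap p0 p1 := by group
        rw [e, hss]
        group
      rw [h1]
      exact mul_mem hx hy
    | inv x _ hx =>
      have h1 : swap p0 p1 * x⁻¹ * swap p0 p1 = (swap p0 p1 * x * swap p0 p1)⁻¹ := by
        rw [mul_inv_rev, mul_inv_rev, hsinv, mul_assoc]
      rw [h1]
      exact inv_mem hx
  let M : Subgroup (Perm α) :=
    { carrier := {x | x ∈ Subgroup.closure
          {g : Perm α | ∃ i, i ≠ p0 ∧ i ≠ p1 ∧ g = swap p0 p1 * swap p1 i} ∨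
        x * swap p0 p1 ∈ Subgroup.closure
          {g : Perm α | ∃ i, i ≠ p0 ∧ i ≠ p1 ∧ g = swap p0 p1 * swap p1 i}}
      one_mem' := Or.inl (one_mem _)
      mul_mem' := by
        rintro x y (hx | hx) (hy | hy)
        · exact Or.inl (mul_mem hx hy)
        · right
          rw [mul_assoc]
          exact mul_mem hx hy
        · right
          have h1 : x * y * swap p0 p1 = (x * swap p0 p1) * (swap p0 p1 * y * swap p0 p1) := by
            have e : (x * swap p0 p1) * (swap p0 p1 * y * swap p0 p1) =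
                x * (swap p0 p1 * swap p0 p1) * y * swap p0 p1 := by group
            rw [e, hss]
            group
          rw [h1]
          exact mul_mem hx (hconj y hy)
        · left
          have h1 : x * y = (x * swap p0 p1) * (swap p0 p1 * (y * swap p0 p1) * swap p0 p1) := by
            have e : (x * swap p0 p1) * (swap p0 p1 * (y * swap p0 p1) * swap p0 p1) =
                x * (swap p0 p1 * swap p0 p1) * y * (swap p0 p1 * swap p0 p1) := by group
            rw [e, hss]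
            group
          rw [h1]
          exact mul_mem hx (hconj _ hy)
      inv_mem' := by
        rintro x (hx | hx)
        · exact Or.inl (inv_mem hx)
        · right
          have h1 : x⁻¹ * swap p0 p1 = swap p0 p1 * (x * swap p0 p1)⁻¹ * swap p0 p1 := by
            rw [mul_inv_rev, hsinv]
            have e : swap p0 p1 * (swap p0 p1 * x⁻¹) * swap p0 p1 =
                (swap p0 p1 * swap p0 p1) * x⁻¹ * swap p0 p1 := by group
            rw [e, hss, one_mul]
          rw [h1]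
          exact hconj _ (inv_mem hx) }
  have hstar : ∀ i, swap p0 i ∈ M := by
    intro i
    by_cases hi0 : i = p0
    · rw [hi0, swap_self]
      exact one_mem M
    by_cases hi1 : i = p1
    · rw [hi1]
      right
      rw [hss]
      exact one_mem _
    · right
      have h1 : swap p0 i * swap p0 p1 = swap p0 p1 * swap p1 i := by
        have e := swap_apply_apply (swap p0 p1) p1 i
        rw [swap_apply_right, swap_apply_of_ne_of_ne hi0 hi1, hsinv] at e
        rw [e, mul_assoc, hss, mul_one]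
      rw [h1]
      exact Subgroup.subset_closure ⟨i, hi0, hi1, rfl⟩
  have hswap : ∀ x y : α, swap x y ∈ M := by
    intro x y
    have h1 : swap x p0 ∈ M := by
      rw [swap_comm]
      exact hstar x
    exact SubmonoidClass.swap_mem_trans M h1 (hstar y)
  have hM : M = ⊤ := by
    rw [eq_top_iff, ← closure_isSwap, Subgroup.closure_le]
    rintro σ ⟨x, y, -, rfl⟩
    exact hswap x y
  intro x hx
  have hxM : x ∈ M := by
    rw [hM]
    trivial
  have hxM' : x ∈ Subgroup.closure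
      {g : Perm α | ∃ i, i ≠ p0 ∧ i ≠ p1 ∧ g = swap p0 p1 * swap p1 i} ∨
      x * swap p0 p1 ∈ Subgroup.closure
      {g : Perm α | ∃ i, i ≠ p0 ∧ i ≠ p1 ∧ g = swap p0 p1 * swap p1 i} := hxM
  rcases hxM' with h | h
  · exact h
  · exfalso
    have h2 := hHA h
    rw [mem_alternatingGroup, map_mul, mem_alternatingGroup.mp hx, sign_swap h01] at h2
    revert h2
    decide

end ThreeCycles

/-! ### Centralizers -/

section Centralizers

variable {n : ℕ}

theorem card_mul_relIndex' {G : Type*} [Group G] {H K : Subgroup G} (h : H ≤ K) :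
    Nat.card H * H.relIndex K = Nat.card K := by
  have := Subgroup.relIndex_mul_relIndex (⊥ : Subgroup G) H K bot_le h
  rwa [Subgroup.relIndex_bot_left, Subgroup.relIndex_bot_left] at this

theorem cA_le_aut (φ : ↥(alternatingGroup (Fin n)) ≃* ↥(alternatingGroup (Fin n)))
    (x : ↥(alternatingGroup (Fin n))) :
    Nat.card (Subgroup.centralizer ({x} : Set ↥(alternatingGroup (Fin n)))) ≤
      Nat.card (Subgroup.centralizer ({φ x} : Set ↥(alternatingGroup (Fin n)))) := by
  have hle : (Subgroup.centralizer ({x} : Set ↥(alternatingGroup (Fin n)))).map φ.toMonoidHom ≤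
      Subgroup.centralizer ({φ x} : Set ↥(alternatingGroup (Fin n))) := by
    rintro _ ⟨y, hy, rfl⟩
    rw [SetLike.mem_coe, Subgroup.mem_centralizer_singleton_iff] at hy
    rw [Subgroup.mem_centralizer_singleton_iff]
    show φ y * φ x = φ x * φ y
    rw [← map_mul, ← map_mul, hy]
  calc Nat.card (Subgroup.centralizer ({x} : Set ↥(alternatingGroup (Fin n))))
      = Nat.card ((Subgroup.centralizer
          ({x} : Set ↥(alternatingGroup (Fin n)))).map φ.toMonoidHom) :=
        (Subgroup.card_map_of_injective (by exact φ.injective)).symm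
    _ ≤ _ := Subgroup.card_le_of_le hle

theorem map_centralizer_eq (x : ↥(alternatingGroup (Fin n))) :
    (Subgroup.centralizer ({x} : Set ↥(alternatingGroup (Fin n)))).map
      (alternatingGroup (Fin n)).subtype =
    alternatingGroup (Fin n) ⊓ Subgroup.centralizer ({(x : Perm (Fin n))} : Set (Perm (Fin n))) := by
  ext y
  constructor
  · rintro ⟨z, hz, rfl⟩
    rw [SetLike.mem_coe, Subgroup.mem_centralizer_singleton_iff] at hz
    refine Subgroup.mem_inf.mpr ⟨z.2, ?_⟩
    rw [Subgroup.mem_centralizer_singleton_iff]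
    exact congrArg Subtype.val hz
  · intro hy
    obtain ⟨hyA, hyC⟩ := Subgroup.mem_inf.mp hy
    rw [Subgroup.mem_centralizer_singleton_iff] at hyC
    refine ⟨⟨y, hyA⟩, ?_, rfl⟩
    rw [SetLike.mem_coe, Subgroup.mem_centralizer_singleton_iff]
    exact Subtype.ext hyC

theorem card_cA_eq (x : ↥(alternatingGroup (Fin n))) :
    Nat.card (Subgroup.centralizer ({x} : Set ↥(alternatingGroup (Fin n)))) =
    Nat.card ↥(alternatingGroup (Fin n) ⊓
      Subgroup.centralizer ({(x : Perm (Fin n))} : Set (Perm (Fin n)))) := by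
  rw [← map_centralizer_eq, Subgroup.card_map_of_injective (Subgroup.subtype_injective _)]

theorem cA_le_cS (x : ↥(alternatingGroup (Fin n))) :
    Nat.card (Subgroup.centralizer ({x} : Set ↥(alternatingGroup (Fin n)))) ≤
    Nat.card (Subgroup.centralizer ({(x : Perm (Fin n))} : Set (Perm (Fin n)))) := by
  rw [card_cA_eq]
  exact Subgroup.card_le_of_le inf_le_right

theorem cS_le_two_cA [Nontrivial (Fin n)] (x : ↥(alternatingGroup (Fin n))) :
    Nat.card (Subgroup.centralizer ({(x : Perm (Fin n))} : Set (Perm (Fin n)))) ≤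
    2 * Nat.card (Subgroup.centralizer ({x} : Set ↥(alternatingGroup (Fin n)))) := by
  rw [card_cA_eq]
  have h1 := card_mul_relIndex' (inf_le_right : alternatingGroup (Fin n) ⊓
    Subgroup.centralizer ({(x : Perm (Fin n))} : Set (Perm (Fin n))) ≤
    Subgroup.centralizer ({(x : Perm (Fin n))} : Set (Perm (Fin n))))
  rw [Subgroup.inf_relIndex_right] at h1
  have h2 : (alternatingGroup (Fin n)).relIndex
      (Subgroup.centralizer ({(x : Perm (Fin n))} : Set (Perm (Fin n)))) ∣ 2 := by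
    rw [← alternatingGroup.index_eq_two (α := Fin n)]
    exact Subgroup.relIndex_dvd_index_of_normal _ _
  have h3 := Nat.le_of_dvd (by norm_num) h2
  rw [← h1]
  calc _ ≤ Nat.card ↥(alternatingGroup (Fin n) ⊓
        Subgroup.centralizer ({(x : Perm (Fin n))} : Set (Perm (Fin n)))) * 2 :=
      Nat.mul_le_mul_left _ h3
    _ = _ := by ring

theorem three_cycle_of_aut (h6 : n ≠ 6)
    (φ : ↥(alternatingGroup (Fin n)) ≃* ↥(alternatingGroup (Fin n)))
    (x : ↥(alternatingGroup (Fin n))) (hx : IsThreeCycle (x : Perm (Fin n))) :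
    IsThreeCycle ((φ x : ↥(alternatingGroup (Fin n))) : Perm (Fin n)) := by
  have hn3 : 3 ≤ n := by
    have h1 := hx.card_support
    have h2 := Finset.card_le_univ (x : Perm (Fin n)).support
    rw [Fintype.card_fin] at h2
    omega
  haveI : Nontrivial (Fin n) := Fin.nontrivial_iff_two_le.mpr (by omega)
  have hord : orderOf ((φ x : ↥(alternatingGroup (Fin n))) : Perm (Fin n)) = 3 := by
    rw [Subgroup.orderOf_coe, MulEquiv.orderOf_eq, ← Subgroup.orderOf_coe, hx.orderOf]
  obtain ⟨k, hk⟩ := cycleType_prime_order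
    (σ := ((φ x : ↥(alternatingGroup (Fin n))) : Perm (Fin n))) (by rw [hord]; norm_num)
  rw [hord] at hk
  rcases Nat.eq_zero_or_pos k with hk0 | hkpos
  · rw [hk0] at hk
    unfold IsThreeCycle
    rw [hk]
    simp
  · exfalso
    have hsum := sum_cycleType_le ((φ x : ↥(alternatingGroup (Fin n))) : Perm (Fin n))
    rw [hk, Multiset.sum_replicate, Fintype.card_fin, smul_eq_mul] at hsum
    have hC' := nat_card_centralizer ((φ x : ↥(alternatingGroup (Fin n))) : Perm (Fin n))
    rw [hk, Multiset.sum_replicate, Multiset.prod_replicate, Multiset.toFinset_replicate,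
      if_neg (Nat.add_one_ne_zero k), Finset.prod_singleton, Multiset.count_replicate_self,
      Fintype.card_fin, smul_eq_mul] at hC'
    have hC := nat_card_centralizer (x : Perm (Fin n))
    rw [hx.cycleType] at hC
    simp only [Multiset.sum_singleton, Multiset.prod_singleton, Multiset.toFinset_singleton,
      Finset.prod_singleton, Multiset.count_singleton_self, Nat.factorial_one, mul_one,
      Fintype.card_fin] at hC
    have h1 := cS_le_two_cA x
    have h2 := cA_le_aut φ x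
    have h3 := cA_le_cS (φ x)
    rw [hC] at h1
    rw [hC'] at h3
    obtain ⟨m, hm⟩ : ∃ m, n = m + (k + 1) * 3 := ⟨n - (k + 1) * 3, by omega⟩
    have e1 : n - (k + 1) * 3 = m := by omega
    have e2 : n - 3 = m + 3 * k := by omega
    rw [e1] at h3
    rw [e2] at h1
    have hmain := ineq_main m k hkpos (by rintro ⟨rfl, rfl⟩; omega)
    omega

end Centralizers

/-! ### The main argument -/

section Main

variable {n : ℕ}

/-- the generator `(p0 p1 i)` as an element of the alternating group -/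
noncomputable def genA (p0 p1 i : Fin n) : ↥(alternatingGroup (Fin n)) :=
  if h : p0 ≠ p1 ∧ i ≠ p0 ∧ i ≠ p1 then
    ⟨swap p0 p1 * swap p1 i, (gen_isThreeCycle h.1 h.2.1 h.2.2).mem_alternatingGroup⟩
  else 1

theorem genA_val {p0 p1 i : Fin n} (h01 : p0 ≠ p1) (hi0 : i ≠ p0) (hi1 : i ≠ p1) :
    ((genA p0 p1 i : ↥(alternatingGroup (Fin n))) : Perm (Fin n)) = swap p0 p1 * swap p1 i := by
  rw [genA, dif_pos ⟨h01, hi0, hi1⟩]

/-- the image of the generator under `φ` -/
noncomputable def Hf (φ : ↥(alternatingGroup (Fin n)) ≃* ↥(alternatingGroup (Fin n)))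
    (p0 p1 i : Fin n) : Perm (Fin n) :=
  ((φ (genA p0 p1 i) : ↥(alternatingGroup (Fin n))) : Perm (Fin n))

theorem phi_rel (φ : ↥(alternatingGroup (Fin n)) ≃* ↥(alternatingGroup (Fin n)))
    (x y : ↥(alternatingGroup (Fin n)))
    (h : (x : Perm (Fin n)) * y * (x * y) = 1) :
    ((φ x : ↥(alternatingGroup (Fin n))) : Perm (Fin n)) * (φ y) * ((φ x) * (φ y)) = 1 := by
  have h' : x * y * (x * y) = 1 := Subtype.ext h
  have h'' : φ x * φ y * (φ x * φ y) = 1 := by
    have e : φ x * φ y * (φ x * φ y) = φ (x * y * (x * y)) := by rw [map_mul, map_mul]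
    rw [e, h', map_one]
  exact congrArg Subtype.val h''

theorem Hf_three (h6 : n ≠ 6) (φ : ↥(alternatingGroup (Fin n)) ≃* ↥(alternatingGroup (Fin n)))
    {p0 p1 i : Fin n} (h01 : p0 ≠ p1) (hi0 : i ≠ p0) (hi1 : i ≠ p1) :
    IsThreeCycle (Hf φ p0 p1 i) := by
  unfold Hf
  apply three_cycle_of_aut h6 φ
  rw [genA_val h01 hi0 hi1]
  exact gen_isThreeCycle h01 hi0 hi1

theorem Hf_rel (φ : ↥(alternatingGroup (Fin n)) ≃* ↥(alternatingGroup (Fin n)))
    {p0 p1 i j : Fin n} (h01 : p0 ≠ p1) (hi0 : i ≠ p0) (hi1 : i ≠ p1)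
    (hj0 : j ≠ p0) (hj1 : j ≠ p1) (hij : i ≠ j) :
    Hf φ p0 p1 i * Hf φ p0 p1 j * (Hf φ p0 p1 i * Hf φ p0 p1 j) = 1 := by
  unfold Hf
  apply phi_rel
  rw [genA_val h01 hi0 hi1, genA_val h01 hj0 hj1]
  exact gen_rel h01 hi0 hi1 hj0 hj1 hij

theorem Hf_ne (φ : ↥(alternatingGroup (Fin n)) ≃* ↥(alternatingGroup (Fin n)))
    {p0 p1 i j : Fin n} (h01 : p0 ≠ p1) (hi0 : i ≠ p0) (hi1 : i ≠ p1)
    (hj0 : j ≠ p0) (hj1 : j ≠ p1) (hij : i ≠ j) :
    Hf φ p0 p1 j ≠ Hf φ p0 p1 i := by
  intro h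
  unfold Hf at h
  have h2 : genA p0 p1 j = genA p0 p1 i := φ.injective (Subtype.ext h)
  have h3 := congrArg (fun z : ↥(alternatingGroup (Fin n)) => (z : Perm (Fin n)) j) h2
  simp only [genA_val h01 hj0 hj1, genA_val h01 hi0 hi1] at h3
  rw [gen_apply_self, gen_apply_other hj0 hj1 hij.symm] at h3
  exact hj0 h3.symm

theorem Hf_ne_inv (φ : ↥(alternatingGroup (Fin n)) ≃* ↥(alternatingGroup (Fin n)))
    {p0 p1 i j : Fin n} (h01 : p0 ≠ p1) (hi0 : i ≠ p0) (hi1 : i ≠ p1)
    (hj0 : j ≠ p0) (hj1 : j ≠ p1) (hij : i ≠ j) :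
    Hf φ p0 p1 j ≠ (Hf φ p0 p1 i)⁻¹ := by
  intro h
  unfold Hf at h
  have h2 : genA p0 p1 j = (genA p0 p1 i)⁻¹ := by
    apply φ.injective
    apply Subtype.ext
    rw [h, map_inv]
    rfl
  have h3 := congrArg (fun z : ↥(alternatingGroup (Fin n)) => (z : Perm (Fin n)) j) h2
  simp only [Subgroup.coe_inv, genA_val h01 hj0 hj1, genA_val h01 hi0 hi1] at h3
  have hfix : (swap p0 p1 * swap p1 i)⁻¹ j = j := by
    rw [Perm.inv_eq_iff_eq, gen_apply_other hj0 hj1 hij.symm]
  rw [gen_apply_self, hfix] at h3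
  exact hj0 h3.symm

theorem exists_four (n : ℕ) (hn : 4 ≤ n) : ∃ p0 p1 i0 i1 : Fin n,
    p0 ≠ p1 ∧ i0 ≠ p0 ∧ i0 ≠ p1 ∧ i1 ≠ p0 ∧ i1 ≠ p1 ∧ i0 ≠ i1 := by
  refine ⟨⟨0, by omega⟩, ⟨1, by omega⟩, ⟨2, by omega⟩, ⟨3, by omega⟩, ?_, ?_, ?_, ?_, ?_, ?_⟩ <;>
  · intro h
    have h' := congrArg Fin.val h
    simp at h'

/-- the candidate permutation -/
noncomputable def sigF (φ : ↥(alternatingGroup (Fin n)) ≃* ↥(alternatingGroup (Fin n)))
    (p0 p1 a b : Fin n) : Fin n → Fin n :=
  fun x => if x = p0 then a else if x = p1 then b else Hf φ p0 p1 x b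

theorem surj_aux (hn : 4 ≤ n) (h6 : n ≠ 6)
    (φ : ↥(alternatingGroup (Fin n)) ≃* ↥(alternatingGroup (Fin n))) :
    ∃ σ : Perm (Fin n), ∀ x : ↥(alternatingGroup (Fin n)),
      ((φ x : ↥(alternatingGroup (Fin n))) : Perm (Fin n)) = σ * (x : Perm (Fin n)) * σ⁻¹ := by
  obtain ⟨p0, p1, i0, i1, h01, h0i0, h1i0, h0i1, h1i1, hi0i1⟩ := exists_four n hn
  have h3 : ∀ i, i ≠ p0 → i ≠ p1 → IsThreeCycle (Hf φ p0 p1 i) :=
    fun i hi0 hi1 => Hf_three h6 φ h01 hi0 hi1
  have hrel : ∀ i j, i ≠ p0 → i ≠ p1 → j ≠ p0 → j ≠ p1 → i ≠ j →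
      Hf φ p0 p1 i * Hf φ p0 p1 j * (Hf φ p0 p1 i * Hf φ p0 p1 j) = 1 :=
    fun i j hi0 hi1 hj0 hj1 hij => Hf_rel φ h01 hi0 hi1 hj0 hj1 hij
  have hne : ∀ i j, i ≠ p0 → i ≠ p1 → j ≠ p0 → j ≠ p1 → i ≠ j →
      Hf φ p0 p1 j ≠ Hf φ p0 p1 i :=
    fun i j hi0 hi1 hj0 hj1 hij => Hf_ne φ h01 hi0 hi1 hj0 hj1 hij
  have hnei : ∀ i j, i ≠ p0 → i ≠ p1 → j ≠ p0 → j ≠ p1 → i ≠ j →
      Hf φ p0 p1 j ≠ (Hf φ p0 p1 i)⁻¹ :=
    fun i j hi0 hi1 hj0 hj1 hij => Hf_ne_inv φ h01 hi0 hi1 hj0 hj1 hij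
  obtain ⟨a, ha1, ha2, ha3⟩ := common_edge (h3 i0 h0i0 h1i0) (h3 i1 h0i1 h1i1)
    (hrel i0 i1 h0i0 h1i0 h0i1 h1i1 hi0i1) (hne i0 i1 h0i0 h1i0 h0i1 h1i1 hi0i1)
    (hnei i0 i1 h0i0 h1i0 h0i1 h1i1 hi0i1)
  have hga : Hf φ p0 p1 i0 a ≠ a := by rw [ha2]; exact ha1
  have hd : Hf φ p0 p1 i0 (Hf φ p0 p1 i1 (Hf φ p0 p1 i0 a)) =
      Hf φ p0 p1 i1 (Hf φ p0 p1 i0 a) := by rw [ha2]; exact ha3
  obtain ⟨b, hb⟩ : ∃ b, b = Hf φ p0 p1 i0 a := ⟨_, rfl⟩
  have hba : b ≠ a := by rw [hb]; exact hga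
  have key : ∀ i, i ≠ p0 → i ≠ p1 → Hf φ p0 p1 i a = b := by
    intro i hi0 hi1
    rw [hb]
    by_cases e0 : i = i0
    · rw [e0]
    by_cases e1 : i = i1
    · rw [e1, ha2]
    exact triple (h3 i0 h0i0 h1i0) (h3 i1 h0i1 h1i1) (h3 i hi0 hi1) hga ha2.symm hd
      (hrel i0 i h0i0 h1i0 hi0 hi1 (Ne.symm e0)) (hrel i1 i h0i1 h1i1 hi0 hi1 (Ne.symm e1))
      (hne i0 i h0i0 h1i0 hi0 hi1 (Ne.symm e0)) (hnei i0 i h0i0 h1i0 hi0 hi1 (Ne.symm e0))
      (hne i1 i h0i1 h1i1 hi0 hi1 (Ne.symm e1)) (hnei i1 i h0i1 h1i1 hi0 hi1 (Ne.symm e1))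
  have hmoved : ∀ i, i ≠ p0 → i ≠ p1 → Hf φ p0 p1 i a ≠ a := by
    intro i hi0 hi1
    rw [key i hi0 hi1]
    exact hba
  have hc1 : ∀ i, i ≠ p0 → i ≠ p1 → Hf φ p0 p1 i b ≠ b := by
    intro i hi0 hi1
    have h := tc_ne1 (hmoved i hi0 hi1)
    rwa [key i hi0 hi1] at h
  have hc2 : ∀ i, i ≠ p0 → i ≠ p1 → Hf φ p0 p1 i b ≠ a := by
    intro i hi0 hi1
    have h := tc_ne2 (h3 i hi0 hi1) (hmoved i hi0 hi1)
    rwa [key i hi0 hi1] at h
  have hc3 : ∀ i j, i ≠ p0 → i ≠ p1 → j ≠ p0 → j ≠ p1 → i ≠ j →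
      Hf φ p0 p1 i b ≠ Hf φ p0 p1 j b := by
    intro i j hi0 hi1 hj0 hj1 hij heq
    apply hne i j hi0 hi1 hj0 hj1 hij
    refine tc_ext (h3 i hi0 hi1) (h3 j hj0 hj1) (hmoved i hi0 hi1) ?_ ?_
    · rw [key j hj0 hj1, key i hi0 hi1]
    · rw [key i hi0 hi1]
      exact heq.symm
  have hσ0 : sigF φ p0 p1 a b p0 = a := by
    simp [sigF]
  have hσ1 : sigF φ p0 p1 a b p1 = b := by
    simp [sigF, h01.symm]
  have hσi : ∀ i, i ≠ p0 → i ≠ p1 → sigF φ p0 p1 a b i = Hf φ p0 p1 i b := by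
    intro i hi0 hi1
    simp [sigF, hi0, hi1]
  have hinj : Function.Injective (sigF φ p0 p1 a b) := by
    intro x y hxy
    by_cases hx0 : x = p0
    · by_cases hy0 : y = p0
      · rw [hx0, hy0]
      · by_cases hy1 : y = p1
        · exfalso
          rw [hx0, hy1, hσ0, hσ1] at hxy
          exact hba hxy.symm
        · exfalso
          rw [hx0, hσ0, hσi y hy0 hy1] at hxy
          exact hc2 y hy0 hy1 hxy.symm
    · by_cases hx1 : x = p1
      · by_cases hy0 : y = p0
        · exfalso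
          rw [hx1, hy0, hσ0, hσ1] at hxy
          exact hba hxy
        · by_cases hy1 : y = p1
          · rw [hx1, hy1]
          · exfalso
            rw [hx1, hσ1, hσi y hy0 hy1] at hxy
            exact hc1 y hy0 hy1 hxy.symm
      · by_cases hy0 : y = p0
        · exfalso
          rw [hy0, hσ0, hσi x hx0 hx1] at hxy
          exact hc2 x hx0 hx1 hxy
        · by_cases hy1 : y = p1
          · exfalso
            rw [hy1, hσ1, hσi x hx0 hx1] at hxy
            exact hc1 x hx0 hx1 hxy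
          · by_contra hne'
            rw [hσi x hx0 hx1, hσi y hy0 hy1] at hxy
            exact hc3 x y hx0 hx1 hy0 hy1 hne' hxy
  obtain ⟨σ, hσapp⟩ : ∃ σ : Perm (Fin n), ∀ x, σ x = sigF φ p0 p1 a b x :=
    ⟨Equiv.ofBijective _ ⟨hinj, Finite.surjective_of_injective hinj⟩, fun x => rfl⟩
  have hconj : ∀ i, i ≠ p0 → i ≠ p1 →
      σ * (swap p0 p1 * swap p1 i) * σ⁻¹ = Hf φ p0 p1 i := by
    intro i hi0 hi1
    have e : σ * (swap p0 p1 * swap p1 i) * σ⁻¹ =
        swap (σ p0) (σ p1) * swap (σ p1) (σ i) := by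
      rw [swap_apply_apply, swap_apply_apply]
      group
    rw [e, hσapp, hσapp, hσapp, hσ0, hσ1, hσi i hi0 hi1]
    have hc1' := hc1 i hi0 hi1
    have hc2' := hc2 i hi0 hi1
    have h3c : IsThreeCycle (swap a b * swap b (Hf φ p0 p1 i b)) := by
      rw [swap_comm a b]
      exact isThreeCycle_swap_mul_swap_same hba hc1'.symm hc2'.symm
    refine tc_ext (h3 i hi0 hi1) h3c (hmoved i hi0 hi1) ?_ ?_
    · rw [key i hi0 hi1, Perm.mul_apply, swap_apply_of_ne_of_ne hba.symm hc2'.symm,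
        swap_apply_left]
    · rw [key i hi0 hi1, Perm.mul_apply, swap_apply_left, swap_apply_of_ne_of_ne hc2' hc1']
  refine ⟨σ, ?_⟩
  have hcl := gen_closure p0 p1 h01
  have hP : ∀ y ∈ Subgroup.closure
      {g : Perm (Fin n) | ∃ i, i ≠ p0 ∧ i ≠ p1 ∧ g = swap p0 p1 * swap p1 i},
      ∃ hy : y ∈ alternatingGroup (Fin n),
        ((φ ⟨y, hy⟩ : ↥(alternatingGroup (Fin n))) : Perm (Fin n)) = σ * y * σ⁻¹ := by
    intro y hy
    induction hy using Subgroup.closure_induction with
    | mem y hy =>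
      obtain ⟨i, hi0, hi1, rfl⟩ := hy
      refine ⟨(gen_isThreeCycle h01 hi0 hi1).mem_alternatingGroup, ?_⟩
      rw [hconj i hi0 hi1]
      have e : ∀ hm, (⟨swap p0 p1 * swap p1 i, hm⟩ : ↥(alternatingGroup (Fin n))) =
          genA p0 p1 i := fun hm => Subtype.ext (genA_val h01 hi0 hi1).symm
      rw [e]
      rfl
    | one =>
      refine ⟨one_mem _, ?_⟩
      have e : (⟨1, one_mem _⟩ : ↥(alternatingGroup (Fin n))) = 1 := rfl
      rw [e, map_one]
      simp
    | mul y z _ _ hy hz =>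
      obtain ⟨hy1, hy2⟩ := hy
      obtain ⟨hz1, hz2⟩ := hz
      refine ⟨mul_mem hy1 hz1, ?_⟩
      have e : (⟨y * z, mul_mem hy1 hz1⟩ : ↥(alternatingGroup (Fin n))) =
          ⟨y, hy1⟩ * ⟨z, hz1⟩ := rfl
      rw [e, map_mul, Subgroup.coe_mul, hy2, hz2]
      group
    | inv y _ hy =>
      obtain ⟨hy1, hy2⟩ := hy
      refine ⟨inv_mem hy1, ?_⟩
      have e : (⟨y⁻¹, inv_mem hy1⟩ : ↥(alternatingGroup (Fin n))) = (⟨y, hy1⟩)⁻¹ := rfl
      rw [e, map_inv, Subgroup.coe_inv, hy2]
      group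
  intro x
  obtain ⟨hx1, hx2⟩ := hP x.1 (hcl x.2)
  exact hx2

theorem inj_aux (hn : 4 ≤ n) :
    Function.Injective
      (MulAut.conjNormal : Equiv.Perm (Fin n) →* MulAut ↥(alternatingGroup (Fin n))) := by
  rw [injective_iff_map_eq_one]
  intro σ hσ
  by_contra hne
  obtain ⟨a, ha⟩ : ∃ a, σ a ≠ a := by
    by_contra h
    push Not at h
    exact hne (Equiv.ext h)
  have hcard : 1 < (({a, σ a} : Finset (Fin n))ᶜ).card := by
    rw [Finset.card_compl, Fintype.card_fin]
    have := Finset.card_le_two (a := a) (b := σ a)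
    omega
  obtain ⟨c, hc, d, hd, hcd⟩ := Finset.one_lt_card.mp hcard
  simp only [Finset.mem_compl, Finset.mem_insert, Finset.mem_singleton, not_or] at hc hd
  have hτ : swap (σ a) c * swap c d ∈ alternatingGroup (Fin n) := by
    rw [mem_alternatingGroup, map_mul, sign_swap (Ne.symm hc.2), sign_swap hcd]
    rfl
  have h1 := congrArg (fun f : MulAut ↥(alternatingGroup (Fin n)) =>
    ((f ⟨_, hτ⟩ : ↥(alternatingGroup (Fin n))) : Perm (Fin n))) hσ
  simp only [MulAut.conjNormal_apply, MulAut.one_apply] at h1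
  have h2 := DFunLike.congr_fun h1 (σ a)
  have e1 : σ⁻¹ (σ a) = a := Perm.inv_eq_iff_eq.mpr rfl
  have e2 : (swap (σ a) c * swap c d) a = a := by
    rw [Perm.mul_apply, swap_apply_of_ne_of_ne (Ne.symm hc.1) (Ne.symm hd.1),
      swap_apply_of_ne_of_ne (Ne.symm ha) (Ne.symm hc.1)]
  have e3 : (swap (σ a) c * swap c d) (σ a) = c := by
    rw [Perm.mul_apply, swap_apply_of_ne_of_ne (Ne.symm hc.2) (Ne.symm hd.2), swap_apply_left]
  rw [Perm.mul_apply, Perm.mul_apply, e1, e2, e3] at h2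
  exact hc.2 h2.symm

end Main

/-- Automorphisms of the alternating groups: for n ≥ 4 with n ≠ 6, every automorphism of the alternating group of degree n is conjugation by a unique permutation, i.e. conjugation induces an isomorphism from the symmetric group of degree n onto the automorphism group of the alternating group (so the outer automorphism group has order 2). -/
theorem result (n : ℕ) (hn : 4 ≤ n) (h6 : n ≠ 6) : Function.Bijective (MulAut.conjNormal : Equiv.Perm (Fin n) →* MulAut ↥(alternatingGroup (Fin n))) := by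
  constructor
  · exact inj_aux hn
  · intro φ
    obtain ⟨σ, hσ⟩ := surj_aux hn h6 φ
    refine ⟨σ, ?_⟩
    apply MulEquiv.ext
    intro x
    apply Subtype.ext
    rw [MulAut.conjNormal_apply, hσ]

end Cfsg.Agent.S2119
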