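import Cfsg.Statements.S1545
import Mathlib
import Cfsg.Agent.Lib.Helper10.FrobAction
import Cfsg.Agent.Lib.Helper10.FrobSub
import Cfsg.Agent.S0033

set_option autoImplicit false
open Cfsg

namespace Cfsg.Agent.S1545

open Cfsg.Agent.Lib.Helper10 Cfsg.Agent.Lib.Helper10.FrobAction

open scoped Classical

open scoped commutatorElement

universe u v

section Abstract

variable {L : Type v} [Group L]

/-- an irreducible solvable group with operators is commutative. -/
theorem comm_of_irred_solvable {M : Type u} [Group M] (ψ : L →* MulAut M)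
    (hsolv : Group.IsSolvable M) (hirr : Irred ψ) : ∀ x y : M, x * y = y * x := by
  have key : ∀ n : ℕ, derivedSeries M n = ⊥ → ∀ x y : M, x * y = y * x := by
    intro n
    induction n with
    | zero =>
      intro h x y
      rw [derivedSeries_zero] at h
      have hx : x ∈ (⊥ : Subgroup M) := h ▸ Subgroup.mem_top x
      have hy : y ∈ (⊥ : Subgroup M) := h ▸ Subgroup.mem_top y
      rw [Subgroup.mem_bot] at hx hy
      rw [hx, hy]
    | succ n ih =>
      intro h
      rw [derivedSeries_succ] at h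
      have hab : ∀ x ∈ derivedSeries M n, ∀ y ∈ derivedSeries M n, x * y = y * x := by
        intro x hx y hy
        have h1 : ⁅x, y⁆ ∈ ⁅derivedSeries M n, derivedSeries M n⁆ :=
          Subgroup.commutator_mem_commutator hx hy
        rw [h, Subgroup.mem_bot] at h1
        exact commutatorElement_eq_one_iff_mul_comm.mp h1
      have hinv : Invariant ψ (derivedSeries M n) := by
        intro g m hm
        have hchar : (derivedSeries M n).Characteristic := derivedSeries_characteristic M n
        have h2 := hchar.fixed (ψ g⁻¹)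
        rw [← h2]
        show (ψ g⁻¹) (ψ g m) ∈ derivedSeries M n
        rw [psi_inv_apply]
        exact hm
      rcases hirr (derivedSeries M n) inferInstance hinv hab with h1 | h1
      · exact ih h1
      · intro x y
        exact hab x (h1 ▸ Subgroup.mem_top x) y (h1 ▸ Subgroup.mem_top y)
  obtain ⟨n, hn⟩ := hsolv.solvable
  exact key n hn

/-- the induction principle for solvable groups with operators. -/
theorem solvable_induction
    (P : ∀ (M : Type u) [Group M] [Finite M], (L →* MulAut M) → Prop)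
    (hirr : ∀ (M : Type u) [Group M] [Finite M] (ψ : L →* MulAut M),
      Group.IsSolvable M → Irred ψ → P M ψ)
    (hstep : ∀ (M : Type u) [Group M] [Finite M] (ψ : L →* MulAut M) (N : Subgroup M)
      [N.Normal] (hN : Invariant ψ N), (∀ x ∈ N, ∀ y ∈ N, x * y = y * x) → N ≠ ⊥ → N ≠ ⊤ →
      Group.IsSolvable M → P N (resHom ψ N hN) → P (M ⧸ N) (quoHom ψ N hN) → P M ψ) :
    ∀ (M : Type u) [Group M] [Finite M] (ψ : L →* MulAut M), Group.IsSolvable M → P M ψ := by
  intro M _ _ ψ hsolv
  suffices h : ∀ n : ℕ, ∀ (M : Type u) [Group M] [Finite M] (ψ : L →* MulAut M),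
      Nat.card M = n → Group.IsSolvable M → P M ψ from h _ M ψ rfl hsolv
  intro n
  induction n using Nat.strong_induction_on with
  | _ n ih =>
    intro M _ _ ψ hn hsolv
    by_cases hI : Irred ψ
    · exact hirr M ψ hsolv hI
    · unfold Irred at hI
      push Not at hI
      obtain ⟨N, hNn, hNinv, hNab, hN1, hN2⟩ := hI
      haveI := hNn
      haveI := hsolv
      have hlt1 : Nat.card N < n := by
        rw [← hn]
        apply lt_of_le_of_ne (Subgroup.card_le_card_group N)
        intro h
        exact hN2 ((Subgroup.card_eq_iff_eq_top N).mp h)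
      have hlt2 : Nat.card (M ⧸ N) < n := by
        rw [← hn, Subgroup.card_eq_card_quotient_mul_card_subgroup N]
        have h1 : 1 < Nat.card N := (Subgroup.one_lt_card_iff_ne_bot N).mpr hN1
        have h2 : 0 < Nat.card (M ⧸ N) := Nat.card_pos
        nlinarith
      exact hstep M ψ N hNinv hNab hN1 hN2 hsolv
        (ih _ hlt1 N (resHom ψ N hNinv) rfl inferInstance)
        (ih _ hlt2 (M ⧸ N) (quoHom ψ N hNinv) rfl inferInstance)

variable [Finite L]

/-- the fixed-point formula, abstract form. -/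
theorem abstract_formula (U E : Subgroup L) [U.Normal] (hUE : U ⊔ E = ⊤)
    (hUsolv : Group.IsSolvable U)
    (hfpf : ∀ r ∈ E, r ≠ 1 → ∀ k ∈ U, r * k = k * r → k = 1)
    (M : Type u) [Group M] [Finite M] (ψ : L →* MulAut M) (hsolv : Group.IsSolvable M)
    (hcop : (Nat.card L).Coprime (Nat.card M)) :
    Nat.card (fixedSub ψ (⊤ : Subgroup L)) ^ Nat.card E * Nat.card M
      = Nat.card (fixedSub ψ E) ^ Nat.card E * Nat.card (fixedSub ψ U) := by
  revert hcop
  refine solvable_induction (L := L)
    (P := fun (M : Type u) [Group M] [Finite M] (ψ : L →* MulAut M) =>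
      (Nat.card L).Coprime (Nat.card M) →
        Nat.card (fixedSub ψ (⊤ : Subgroup L)) ^ Nat.card E * Nat.card M
          = Nat.card (fixedSub ψ E) ^ Nat.card E * Nat.card (fixedSub ψ U)) ?_ ?_ M ψ hsolv
  · -- irreducible case
    intro M _ _ ψ hsolv hirr hcop
    have hcomm := comm_of_irred_solvable ψ hsolv hirr
    have hnil : Group.IsNilpotent M := by
      refine ⟨⟨1, ?_⟩⟩
      rw [Subgroup.upperCentralSeries_one, Subgroup.eq_top_iff']
      intro x
      rw [Subgroup.mem_center_iff]
      intro g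
      exact hcomm g x
    have hCn : (fixedSub ψ U).Normal := by
      constructor
      intro n hn g
      rw [hcomm g n, mul_inv_cancel_right]
      exact hn
    rcases hirr (fixedSub ψ U) hCn (invariant_fixedSub ψ U) (fun x _ y _ => hcomm x y)
      with hC | hC
    · -- `C_M(U) = 1`
      have hCK : ∀ m : M, (∀ k ∈ U, ψ k m = m) → m = 1 := by
        intro m hm
        have h1 : m ∈ fixedSub ψ U := hm
        rw [hC, Subgroup.mem_bot] at h1
        exact h1
      have htop : fixedSub ψ (⊤ : Subgroup L) = ⊥ := by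
        rw [eq_bot_iff]
        intro m hm
        rw [Subgroup.mem_bot]
        exact hCK m (fun k _ => hm k (Subgroup.mem_top k))
      have h1 := card_eq_card_fixedSub_pow U E hUsolv hfpf M ψ hnil hcop hCK
      rw [htop, hC, Subgroup.card_bot, one_pow, one_mul, mul_one]
      exact h1
    · -- `U` acts trivially
      have htop : fixedSub ψ (⊤ : Subgroup L) = fixedSub ψ E := by
        apply le_antisymm
        · intro m hm e _
          exact hm e (Subgroup.mem_top e)
        · intro m hm
          let S : Subgroup L :=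
            { carrier := {g | ψ g m = m}
              mul_mem' := by
                intro a b ha hb
                show ψ (a * b) m = m
                rw [map_mul, MulAut.mul_apply]
                rw [show ψ b m = m from hb]
                exact ha
              one_mem' := by
                show ψ 1 m = m
                rw [map_one, MulAut.one_apply]
              inv_mem' := by
                intro a ha
                show ψ a⁻¹ m = m
                have h1 : ψ a⁻¹ (ψ a m) = m := psi_inv_apply ψ a m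
                rw [show ψ a m = m from ha] at h1
                exact h1 }
          have hU : U ≤ S := by
            intro k hk
            have h1 : m ∈ fixedSub ψ U := hC ▸ Subgroup.mem_top m
            exact h1 k hk
          have hE : E ≤ S := fun e he => hm e he
          have hS : S = ⊤ := by
            rw [eq_top_iff, ← hUE]
            exact sup_le hU hE
          intro g _
          have h2 : g ∈ S := hS ▸ Subgroup.mem_top g
          exact h2
      rw [htop, hC, Subgroup.card_top]
  · -- induction step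
    intro M _ _ ψ N _ hNinv hNab hN1 hN2 hsolv ihN ihQ hcop
    have hcopN : (Nat.card L).Coprime (Nat.card N) :=
      Nat.Coprime.coprime_dvd_right (Subgroup.card_subgroup_dvd_card N) hcop
    have hcopQ : (Nat.card L).Coprime (Nat.card (M ⧸ N)) :=
      Nat.Coprime.coprime_dvd_right (Subgroup.card_quotient_dvd_card N) hcop
    have hcopB : ∀ B : Subgroup L, (Nat.card B).Coprime (Nat.card N) := fun B =>
      Nat.Coprime.coprime_dvd_left (Subgroup.card_subgroup_dvd_card B) hcopN
    have h1 := ihN hcopN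
    have h2 := ihQ hcopQ
    rw [card_fixedSub_eq ψ N hNab hNinv ⊤ (hcopB ⊤), card_fixedSub_eq ψ N hNab hNinv E (hcopB E),
      card_fixedSub_eq ψ N hNab hNinv U (hcopB U),
      Subgroup.card_eq_card_quotient_mul_card_subgroup N]
    generalize Nat.card (fixedSub (resHom ψ N hNinv) (⊤ : Subgroup L)) = a1 at h1 ⊢
    generalize Nat.card (fixedSub (quoHom ψ N hNinv) (⊤ : Subgroup L)) = a2 at h2 ⊢
    generalize Nat.card (fixedSub (resHom ψ N hNinv) E) = b1 at h1 ⊢
    generalize Nat.card (fixedSub (quoHom ψ N hNinv) E) = b2 at h2 ⊢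
    generalize Nat.card (fixedSub (resHom ψ N hNinv) U) = c1 at h1 ⊢
    generalize Nat.card (fixedSub (quoHom ψ N hNinv) U) = c2 at h2 ⊢
    generalize Nat.card (M ⧸ N) = q at h2 ⊢
    generalize Nat.card N = n at h1 ⊢
    generalize Nat.card E = e at h1 h2 ⊢
    calc (a1 * a2) ^ e * (q * n) = (a1 ^ e * n) * (a2 ^ e * q) := by ring
      _ = (b1 ^ e * c1) * (b2 ^ e * c2) := by rw [h1, h2]
      _ = (b1 * b2) ^ e * (c1 * c2) := by ring

end Abstract

/-- Let X be a finite group with subgroups U, E and H such that U and E generate a subgroup UE = U ⊔ E normalising H, with U normal in UE, U ⊓ E = ⊥, U ≠ ⊥, E ≠ ⊥, every non-identity element of E commuting with no non-identity element of U (UE is a Frobenius group with kernel U acting on H by conjugation), H solvable, H ⊓ (U ⊔ E) = ⊥ and the orders of H and U ⊔ E coprime. Then Nat.card (H ⊓ C(U ⊔ E)) ^ Nat.card E * Nat.card H = Nat.card (H ⊓ C(E)) ^ Nat.card E * Nat.card (H ⊓ C(U)), where C(·) denotes the centraliser. -/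
theorem result {X : Type*} [Group X] [Finite X] (U E H : Subgroup X) (hU1 : U ≠ ⊥) (hE1 : E ≠ ⊥) (hUE : U ⊓ E = ⊥) (hUn : ∀ e ∈ E, ∀ u ∈ U, e * u * e⁻¹ ∈ U) (hfpf : ∀ e ∈ E, e ≠ 1 → ∀ u ∈ U, e * u = u * e → u = 1) (hHn : ∀ x ∈ U ⊔ E, ∀ h ∈ H, x * h * x⁻¹ ∈ H) (hdisj : H ⊓ (U ⊔ E) = ⊥) (hsolv : Group.IsSolvable H) (hcop : Nat.Coprime (Nat.card H) (Nat.card ↥(U ⊔ E))) : Nat.card ↥(H ⊓ Subgroup.centralizer ((U ⊔ E : Subgroup X) : Set X)) ^ Nat.card E * Nat.card H = Nat.card ↥(H ⊓ Subgroup.centralizer (E : Set X)) ^ Nat.card E * Nat.card ↥(H ⊓ Subgroup.centralizer (U : Set X)) := by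
  -- the acting group
  have hJH : U ⊔ E ≤ Subgroup.normalizer (H : Set X) := by
    intro x hx
    rw [Subgroup.mem_normalizer_iff]
    intro h
    constructor
    · exact hHn x hx h
    · intro hh
      have h1 := hHn x⁻¹ (inv_mem hx) _ hh
      have h2 : x⁻¹ * (x * h * x⁻¹) * x⁻¹⁻¹ = h := by group
      rwa [h2] at h1
  have hUJ : U ≤ U ⊔ E := le_sup_left
  have hEJ : E ≤ U ⊔ E := le_sup_right
  have hJU : U ⊔ E ≤ Subgroup.normalizer (U : Set X) := by
    apply sup_le
    · exact Subgroup.le_normalizer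
    · intro e he
      rw [Subgroup.mem_normalizer_iff]
      intro u
      constructor
      · exact hUn e he u
      · intro hu
        have h1 := hUn e⁻¹ (inv_mem he) _ hu
        have h2 : e⁻¹ * (e * u * e⁻¹) * e⁻¹⁻¹ = u := by group
        rwa [h2] at h1
  haveI hU'n : (U.subgroupOf (U ⊔ E)).Normal := Subgroup.normal_subgroupOf_of_le_normalizer hJU
  have hsup : U.subgroupOf (U ⊔ E) ⊔ E.subgroupOf (U ⊔ E) = ⊤ := by
    rw [← Subgroup.subgroupOf_sup hUJ hEJ, Subgroup.subgroupOf_self]
  have hmapU : (U.subgroupOf (U ⊔ E)).map (U ⊔ E).subtype = U :=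
    Subgroup.map_subgroupOf_eq_of_le hUJ
  have hmapE : (E.subgroupOf (U ⊔ E)).map (U ⊔ E).subtype = E :=
    Subgroup.map_subgroupOf_eq_of_le hEJ
  have hmapT : (⊤ : Subgroup ↥(U ⊔ E)).map (U ⊔ E).subtype = U ⊔ E := by
    rw [← MonoidHom.range_eq_map, Subgroup.range_subtype]
  have hfpf' : ∀ r ∈ E.subgroupOf (U ⊔ E), r ≠ 1 → ∀ k ∈ U.subgroupOf (U ⊔ E),
      r * k = k * r → k = 1 := by
    intro r hr hr1 k hk hrk
    rw [Subgroup.mem_subgroupOf] at hr hk
    apply Subtype.ext
    refine hfpf r hr ?_ k hk ?_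
    · intro h
      exact hr1 (Subtype.ext h)
    · exact congrArg Subtype.val hrk
  -- an element of prime order of `E`
  have hcardE : Nat.card (E.subgroupOf (U ⊔ E)) ≠ 1 := by
    rw [Ne, Subgroup.card_eq_one]
    intro h
    apply hE1
    rw [← hmapE, h, Subgroup.map_bot]
  obtain ⟨p, hp, hpdvd⟩ := Nat.exists_prime_and_dvd hcardE
  haveI : Fact p.Prime := ⟨hp⟩
  obtain ⟨e, he⟩ := exists_prime_orderOf_dvd_card' p hpdvd
  have he1 : (e : ↥(U ⊔ E)) ≠ 1 := by
    intro h
    have h2 : e = 1 := Subtype.ext h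
    rw [h2, orderOf_one] at he
    exact hp.one_lt.ne he
  let φ : MulAut (U.subgroupOf (U ⊔ E)) := MulAut.conjNormal (e : ↥(U ⊔ E))
  have hφval : ∀ n : U.subgroupOf (U ⊔ E),
      ((φ n : U.subgroupOf (U ⊔ E)) : ↥(U ⊔ E)) = e * n * (e : ↥(U ⊔ E))⁻¹ :=
    fun n => MulAut.conjNormal_apply _ n
  have hφfpf : MonoidHom.FixedPointFree ((φ : U.subgroupOf (U ⊔ E) ≃* U.subgroupOf (U ⊔ E)) :
      U.subgroupOf (U ⊔ E) →* U.subgroupOf (U ⊔ E)) := by
    intro n hn
    have h1 : ((φ n : U.subgroupOf (U ⊔ E)) : ↥(U ⊔ E)) = n := congrArg Subtype.val hn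
    rw [hφval] at h1
    have h2 : (e : ↥(U ⊔ E)) * n = n * e := by
      calc (e : ↥(U ⊔ E)) * n = (e * n * (e : ↥(U ⊔ E))⁻¹) * e := by group
        _ = n * e := by rw [h1]
    exact Subtype.ext (hfpf' e e.2 he1 n n.2 h2)
  have hU'1 : U.subgroupOf (U ⊔ E) ≠ ⊥ := by
    intro h
    apply hU1
    rw [← hmapU, h, Subgroup.map_bot]
  have hφord : orderOf φ = p := by
    have h1 : φ ^ p = 1 := by
      show (MulAut.conjNormal (e : ↥(U ⊔ E))) ^ p = 1
      rw [← map_pow]
      have h2 : ((e : ↥(U ⊔ E))) ^ p = 1 := by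
        have h3 : e ^ p = 1 := by rw [← he, pow_orderOf_eq_one]
        have h4 := congrArg Subtype.val h3
        exact h4
      rw [h2, map_one]
    have h2 : orderOf φ ∣ p := orderOf_dvd_of_pow_eq_one h1
    rcases (Nat.dvd_prime hp).mp h2 with h3 | h3
    · exfalso
      rw [orderOf_eq_one_iff] at h3
      obtain ⟨n, hn⟩ := (Subgroup.ne_bot_iff_exists_ne_one).mp hU'1
      apply hn
      apply hφfpf n
      show φ n = n
      rw [h3]
      rfl
    · exact h3
  have hUnil : Group.IsNilpotent (U.subgroupOf (U ⊔ E)) :=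
    Cfsg.Agent.S0033.result φ hφfpf p hp hφord
  have hUsolv : Group.IsSolvable (U.subgroupOf (U ⊔ E)) := by
    haveI := hUnil
    infer_instance
  have hmain := abstract_formula (L := ↥(U ⊔ E)) (U.subgroupOf (U ⊔ E)) (E.subgroupOf (U ⊔ E))
    hsup hUsolv hfpf' (M := ↥H) (ψ := FrobAction.conjHom H (U ⊔ E) hJH) hsolv hcop.symm
  rw [Nat.card_congr (fixedSubEquiv H (U ⊔ E) hJH ⊤).toEquiv,
    Nat.card_congr (fixedSubEquiv H (U ⊔ E) hJH (E.subgroupOf (U ⊔ E))).toEquiv,
    Nat.card_congr (fixedSubEquiv H (U ⊔ E) hJH (U.subgroupOf (U ⊔ E))).toEquiv,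
    hmapT, hmapE, hmapU,
    Nat.card_congr (Subgroup.subgroupOfEquivOfLe hEJ).toEquiv] at hmain
  exact hmain

end Cfsg.Agent.S1545
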