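import Mathlib
import Cfsg.Statements.S1353
import Cfsg.Agent.S1430
import Cfsg.Agent.Lib.Helper3.BG14E

set_option autoImplicit false
open Cfsg

namespace Cfsg.Agent.S1353

theorem result {G : Type*} [Group G] [Finite G] (hG : Cfsg.IsMinSimpleOddOrder G)
    (M : Subgroup G) (hM : IsCoatom M) (K U : Subgroup G) (hKU : Cfsg.IsSigmaDecomposition M K U) :
    ∀ k ∈ K, k ≠ 1 → U ⊓ Subgroup.centralizer ({k} : Set G) = ⊥ := by
  exact Cfsg.Agent.Lib.Helper3.BG14.s1353_of hG
    (fun M hM K hK hK1 => Cfsg.Agent.S1430.result hG M hM K hK hK1) M hM K U hKU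

end Cfsg.Agent.S1353
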