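import Mathlib
import Cfsg.Statements.S1367
import Cfsg.Agent.S1430
import Cfsg.Agent.Lib.Helper3.BG14B
import Cfsg.Agent.Lib.Helper25.BG1431

set_option autoImplicit false
open Cfsg

namespace Cfsg.Agent.S1367

theorem result {G : Type*} [Group G] [Finite G] (hG : Cfsg.IsMinSimpleOddOrder G)
    (M : Subgroup G) (hM : IsCoatom M) (K U : Subgroup G) (hKU : Cfsg.IsSigmaDecomposition M K U) (hK1 : K ≠ ⊥) (Mstar : Subgroup G) (hMstar : IsCoatom Mstar)
    (hKst : K = Cfsg.sigmaCore Mstar ⊓ Subgroup.centralizer ((Cfsg.sigmaCore M ⊓ Subgroup.centralizer (K : Set G)) : Set G))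
    (hKstH : Cfsg.IsPiHallOf (Cfsg.kappa Mstar) (Cfsg.sigmaCore M ⊓ Subgroup.centralizer (K : Set G)) Mstar) :
    (∀ X : Subgroup G, X ≤ (Cfsg.sigmaCore M ⊓ Subgroup.centralizer (K : Set G)) → (Nat.card X).Prime →
        Subgroup.centralizer (X : Set G) ≤ M ∧ ∀ L : Subgroup G, IsCoatom L → Subgroup.centralizer (X : Set G) ≤ L → L = M) ∧
      (∀ Y : Subgroup G, Y ≤ K → (Nat.card Y).Prime →
        Subgroup.centralizer (Y : Set G) ≤ Mstar ∧ ∀ L : Subgroup G, IsCoatom L → Subgroup.centralizer (Y : Set G) ≤ L → L = Mstar) := by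
  have h30 : Cfsg.Agent.Lib.Helper3.BGStubs.P1430 G :=
    fun M hM K hK hK1 => Cfsg.Agent.S1430.result hG M hM K hK hK1
  have hKs1 : Cfsg.sigmaCore M ⊓ Subgroup.centralizer (K : Set G) ≠ ⊥ :=
    Cfsg.Agent.Lib.Helper3.BG14.Kstar_ne_bot hG hM h30 hKU.hall
  have hKst' : K = Cfsg.sigmaCore Mstar ⊓ Subgroup.centralizer
      (((Cfsg.sigmaCore M ⊓ Subgroup.centralizer (K : Set G) : Subgroup G)) : Set G) := by
    rw [Subgroup.coe_inf]; exact hKst
  refine ⟨fun X hX hXp => ?_, fun Y hY hYp => ?_⟩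
  · exact (Cfsg.Agent.Lib.Helper25.BG1431.uniq_of_le_Kstar hG h30 hM hKU.hall hK1 hXp hX rfl).2.1
  · exact (Cfsg.Agent.Lib.Helper25.BG1431.uniq_of_le_Kstar hG h30 hMstar hKstH hKs1 hYp
      (hY.trans hKst'.le) rfl).2.1

end Cfsg.Agent.S1367
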