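import Cfsg.Statements.S1432
import Cfsg.Agent.S1430
import Cfsg.Agent.S1431
import Cfsg.Agent.Lib.Helper11.BGFourteenA

set_option autoImplicit false
open Cfsg

namespace Cfsg.Agent.S1432

theorem result {G : Type*} [Group G] [Finite G] (hG : Cfsg.IsMinSimpleOddOrder G)
    (M : Subgroup G) (hM : IsCoatom M) (x : G) (hx : x ∈ Cfsg.sigmaCore M) (hx1 : x ≠ 1) (x' : G) (hx' : x' ∈ M ⊓ Subgroup.centralizer ({x} : Set G)) (hx'1 : x' ≠ 1)
    (hσ : ∀ p : ℕ, p.Prime → p ∣ orderOf x' → p ∉ Cfsg.sigma M) :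
    ((∀ p : ℕ, p.Prime → p ∣ orderOf x' → p ∈ Cfsg.kappa M) ∧ Subgroup.centralizer ({x} : Set G) ≤ M) ∨
      ((∀ p : ℕ, p.Prime → p ∣ orderOf x' → p ∈ Cfsg.tau2 M) ∧
        (∃ L : Subgroup G, IsCoatom L ∧ ∀ p : ℕ, p.Prime → p ∣ orderOf x' → p ∈ Cfsg.sigma L) ∧
        (Subgroup.centralizer ({x'} : Set G) ≤ M ∧ ∀ L : Subgroup G, IsCoatom L → Subgroup.centralizer ({x'} : Set G) ≤ L → L = M)) := by
  refine Cfsg.Agent.Lib.Helper11.BG14.lemma_14_1 hG ?_ ?_ ?_ M hM x hx hx1 x' hx' hx'1 hσ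
  · intro M K hM hK hK1
    exact (Cfsg.Agent.S1430.result hG M hM K hK hK1).1
  · intro M K hM hK hK1 X hXK hX
    exact ((Cfsg.Agent.S1430.result hG M hM K hK hK1).2.2 X hXK hX).1
  · intro M K hM hK hK1
    exact (Cfsg.Agent.S1431.result hG M hM K hK hK1).1

end Cfsg.Agent.S1432
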