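import Cfsg.Statements.S2395
import Cfsg.Agent.Lib.Helper14.StCert

set_option autoImplicit false
open Cfsg

namespace Cfsg.Agent.S2395

open Cfsg.Lie
open Cfsg.Agent.Lib.Helper14.StCert

section generic

variable {K : Type*} [Field K] (D : ChevalleyDatum)

/-- the image of the generator `x̄_r(t)` in the abelianization -/
noncomputable def Y (r : ℕ) (t : K) : Abelianization (D.SteinbergCover K) :=
  Abelianization.of (D.scGen K r t)

theorem Y_add {r : ℕ} (hr : r < D.nroots) (t₁ t₂ : K) :
    Y D r (t₁ + t₂) = Y D r t₁ * Y D r t₂ := by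
  unfold Y
  rw [← map_mul]
  congr 1
  unfold ChevalleyDatum.scGen
  rw [← map_mul]
  symm
  apply PresentedGroup.mk_eq_mk_of_mul_inv_mem
  left
  exact ⟨r, t₁, t₂, hr, rfl⟩

theorem Y_zero {r : ℕ} (hr : r < D.nroots) : Y D r (0 : K) = 1 := by
  have h := Y_add D hr (0 : K) 0
  rw [add_zero] at h
  exact (mul_eq_left (a := Y D r (0 : K))).mp h.symm

theorem Y_neg {r : ℕ} (hr : r < D.nroots) (t : K) : Y D r (-t) = (Y D r t)⁻¹ := by
  have h := Y_add D hr (-t) t
  rw [neg_add_cancel, Y_zero D hr] at h
  exact eq_inv_of_mul_eq_one_left h.symm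

theorem Y_comm {r s : ℕ} (hr : r < D.nroots) (hs : s < D.nroots) (h1 : s ≠ r)
    (h2 : s ≠ D.neg r) (t u : K) :
    ((D.commTerms r s).map fun c =>
      Y D c.1 ((c.2.1 : K) * (-t) ^ c.2.2.1 * u ^ c.2.2.2)).prod = 1 := by
  have hrel : PresentedGroup.mk (D.steinbergRelsAB K)
      ((D.stX s u)⁻¹ * (D.stX r t)⁻¹ * D.stX s u * D.stX r t) =
      PresentedGroup.mk _ (D.stWord (D.commWord K r s t u)) := by
    apply PresentedGroup.mk_eq_mk_of_mul_inv_mem
    right
    exact ⟨r, s, t, u, hr, hs, h1, h2, rfl⟩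
  have h3 := congrArg (Abelianization.of (G := D.SteinbergCover K)) hrel
  have hc : ∀ a b : Abelianization (D.SteinbergCover K), a⁻¹ * b⁻¹ * a * b = 1 := fun a b => by
    rw [mul_right_comm a⁻¹, inv_mul_cancel, one_mul, inv_mul_cancel]
  simp only [map_mul, map_inv] at h3
  rw [hc] at h3
  rw [h3]
  unfold ChevalleyDatum.stWord ChevalleyDatum.commWord
  rw [map_list_prod, map_list_prod, List.map_map, List.map_map, List.map_map]
  rfl

/-- the root subgroup `r` dies in the abelianization -/
def Good (K : Type*) [Field K] (D : ChevalleyDatum) (r : ℕ) : Prop := ∀ t : K, Y D r t = 1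

theorem good_of_single {a b q : ℕ} {c : ℤ} {i j : ℕ} (ha : a < D.nroots) (hb : b < D.nroots)
    (h1 : b ≠ a) (h2 : b ≠ D.neg a) (hL : D.commTerms a b = [(q, c, i, j)])
    (hc : c = 1 ∨ c = -1) (hij : i = 1 ∨ j = 1) : Good K D q := by
  intro v
  obtain ⟨t, u, htu⟩ : ∃ t u : K, ((c : ℤ) : K) * (-t) ^ i * u ^ j = v := by
    have hcc : ((c : ℤ) : K) * ((c : ℤ) : K) = 1 := by
      rcases hc with rfl | rfl <;> simp
    rcases hij with rfl | rfl
    · refine ⟨-(((c : ℤ) : K) * v), 1, ?_⟩
      rw [neg_neg, pow_one, one_pow, mul_one, ← mul_assoc, hcc, one_mul]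
    · refine ⟨-1, ((c : ℤ) : K) * v, ?_⟩
      rw [neg_neg, one_pow, mul_one, pow_one, ← mul_assoc, hcc, one_mul]
  have h := Y_comm D ha hb h1 h2 t u
  rw [hL] at h
  simpa [htu] using h

theorem top_of_good (h : ∀ r < D.nroots, Good K D r) :
    commutator (D.SteinbergCover K) = ⊤ := by
  have key : (Abelianization.of : D.SteinbergCover K →* Abelianization (D.SteinbergCover K)) = 1 := by
    apply PresentedGroup.ext
    rintro ⟨⟨r, hr⟩, t⟩
    have e : (PresentedGroup.of (rels := D.steinbergRelsAB K) (⟨r, hr⟩, t)) = D.scGen K r t := by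
      unfold ChevalleyDatum.scGen ChevalleyDatum.stX
      rw [dif_pos hr]
      rfl
    rw [e]
    exact h r hr t
  rw [← Abelianization.ker_of, key]
  exact MonoidHom.ker_one

theorem top_of_check {cert : List (ℕ × ℕ)} (h : checkC D cert = true) :
    commutator (D.SteinbergCover K) = ⊤ := by
  apply top_of_good
  intro q hq
  obtain ⟨a, b, c, i, j, ha, hb, h1, h2, hL, hc, hij⟩ := checkC_spec h hq
  exact good_of_single D ha hb h1 h2 hL hc hij

/-- two-term rule, exponents `(1,1)` and `(1,2)` -/
theorem good_of_pair12 {a b q₁ q₂ : ℕ} {c₁ c₂ : ℤ} {rest : List (ℕ × ℤ × ℕ × ℕ)}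
    (hx : ∃ x : K, x ≠ 0 ∧ x ≠ 1)
    (ha : a < D.nroots) (hb : b < D.nroots)
    (h1 : b ≠ a) (h2 : b ≠ D.neg a) (hq₁ : q₁ < D.nroots) (hq₂ : q₂ < D.nroots)
    (hL : D.commTerms a b = (q₁, c₁, 1, 1) :: (q₂, c₂, 1, 2) :: rest)
    (hc₁ : c₁ = 1 ∨ c₁ = -1) (hc₂ : c₂ = 1 ∨ c₂ = -1)
    (hrest : ∀ e ∈ rest, Good K D e.1) : Good K D q₁ ∧ Good K D q₂ := by
  obtain ⟨x, hx0, hx1⟩ := hx
  have hrel : ∀ t u : K, Y D q₁ ((c₁ : K) * (-t) * u) * Y D q₂ ((c₂ : K) * (-t) * u ^ 2) = 1 := by
    intro t u
    have h := Y_comm D ha hb h1 h2 t u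
    rw [hL, List.map_cons, List.map_cons, List.prod_cons, List.prod_cons] at h
    have hr : (rest.map fun c => Y D c.1 ((c.2.1 : K) * (-t) ^ c.2.2.1 * u ^ c.2.2.2)).prod = 1 := by
      apply List.prod_eq_one
      intro y hy
      rw [List.mem_map] at hy
      obtain ⟨e, he, rfl⟩ := hy
      exact hrest e he _
    rw [hr, mul_one] at h
    simpa using h
  have hcc₁ : (c₁ : K) * (c₁ : K) = 1 := by rcases hc₁ with rfl | rfl <;> simp
  have hcc₂ : (c₂ : K) * (c₂ : K) = 1 := by rcases hc₂ with rfl | rfl <;> simp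
  -- Y q₁ (v) = Y q₂ (-(c₁ c₂ v))
  have h12 : ∀ v : K, Y D q₁ v = Y D q₂ (-((c₁ : K) * (c₂ : K) * v)) := by
    intro v
    have h := hrel (-((c₁ : K) * v)) 1
    rw [neg_neg, mul_one, one_pow, mul_one, ← mul_assoc, hcc₁, one_mul] at h
    have h' := eq_inv_of_mul_eq_one_left h
    rw [h', Y_neg D hq₂]
    congr 2
    ring
  have hne : x - x ^ 2 ≠ 0 := by
    have : x - x ^ 2 = x * (1 - x) := by ring
    rw [this]
    exact mul_ne_zero hx0 (sub_ne_zero.mpr (Ne.symm hx1))
  have hkey : ∀ t : K, Y D q₂ ((c₂ : K) * t * (x - x ^ 2)) = 1 := by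
    intro t
    have h := hrel t x
    rw [h12, ← Y_add D hq₂] at h
    have e : -((c₁ : K) * (c₂ : K) * ((c₁ : K) * (-t) * x)) + (c₂ : K) * (-t) * x ^ 2 =
        (c₂ : K) * t * (x - x ^ 2) := by
      linear_combination ((c₂ : K) * t * x) * hcc₁
    rw [e] at h
    exact h
  have hg₂ : Good K D q₂ := by
    intro v
    have h := hkey ((c₂ : K) * v / (x - x ^ 2))
    have e : (c₂ : K) * ((c₂ : K) * v / (x - x ^ 2)) * (x - x ^ 2) = v := by
      field_simp
      linear_combination v * hcc₂
    rw [e] at h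
    exact h
  refine ⟨?_, hg₂⟩
  intro v
  rw [h12]
  exact hg₂ _

end generic

theorem result_G2 {K : Type*} [Field K] (hx : ∃ x : K, x ≠ 0 ∧ x ≠ 1) :
    commutator (chevG2.SteinbergCover K) = ⊤ := by
  have g0 : Good K chevG2 0 := good_of_single chevG2 (a := 1) (b := 5) (c := 1) (i := 1) (j := 1)
    (by decide) (by decide) (by decide) (by decide) (by decide) (by decide) (by decide)
  have g1 : Good K chevG2 1 := good_of_single chevG2 (a := 0) (b := 6) (c := 1) (i := 1) (j := 1)
    (by decide) (by decide) (by decide) (by decide) (by decide) (by decide) (by decide)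
  have g5 : Good K chevG2 5 := good_of_single chevG2 (a := 0) (b := 10) (c := -1) (i := 1) (j := 1)
    (by decide) (by decide) (by decide) (by decide) (by decide) (by decide) (by decide)
  have g6 : Good K chevG2 6 := good_of_single chevG2 (a := 1) (b := 11) (c := -1) (i := 1) (j := 1)
    (by decide) (by decide) (by decide) (by decide) (by decide) (by decide) (by decide)
  have g10 : Good K chevG2 10 := good_of_single chevG2 (a := 5) (b := 11) (c := 1) (i := 1) (j := 1)
    (by decide) (by decide) (by decide) (by decide) (by decide) (by decide) (by decide)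
  have g11 : Good K chevG2 11 := good_of_single chevG2 (a := 6) (b := 10) (c := 1) (i := 1) (j := 1)
    (by decide) (by decide) (by decide) (by decide) (by decide) (by decide) (by decide)
  have p24 := good_of_pair12 (K := K) chevG2 (a := 0) (b := 8) (q₁ := 2) (q₂ := 4) (c₁ := 1) (c₂ := 1)
    (rest := [(6, -1, 1, 3), (1, -2, 2, 3)]) hx
    (by decide) (by decide) (by decide) (by decide) (by decide) (by decide) (by decide)
    (by decide) (by decide) (by
      intro e he
      simp only [List.mem_cons, List.not_mem_nil, or_false] at he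
      rcases he with rfl | rfl
      · exact g6
      · exact g1)
  have p37 := good_of_pair12 (K := K) chevG2 (a := 0) (b := 9) (q₁ := 3) (q₂ := 7) (c₁ := -1) (c₂ := -1)
    (rest := [(10, -1, 1, 3), (5, 2, 2, 3)]) hx
    (by decide) (by decide) (by decide) (by decide) (by decide) (by decide) (by decide)
    (by decide) (by decide) (by
      intro e he
      simp only [List.mem_cons, List.not_mem_nil, or_false] at he
      rcases he with rfl | rfl
      · exact g10
      · exact g5)
  have p48 := good_of_pair12 (K := K) chevG2 (a := 1) (b := 9) (q₁ := 4) (q₂ := 8) (c₁ := -1) (c₂ := 1)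
    (rest := [(11, 1, 1, 3), (6, -2, 2, 3)]) hx
    (by decide) (by decide) (by decide) (by decide) (by decide) (by decide) (by decide)
    (by decide) (by decide) (by
      intro e he
      simp only [List.mem_cons, List.not_mem_nil, or_false] at he
      rcases he with rfl | rfl
      · exact g11
      · exact g6)
  have p79 := good_of_pair12 (K := K) chevG2 (a := 5) (b := 8) (q₁ := 7) (q₂ := 9) (c₁ := 1) (c₂ := -1)
    (rest := [(11, 1, 1, 3), (10, 2, 2, 3)]) hx
    (by decide) (by decide) (by decide) (by decide) (by decide) (by decide) (by decide)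
    (by decide) (by decide) (by
      intro e he
      simp only [List.mem_cons, List.not_mem_nil, or_false] at he
      rcases he with rfl | rfl
      · exact g11
      · exact g10)
  apply top_of_good
  intro r hr
  have hr' : r < 12 := hr
  interval_cases r
  · exact g0
  · exact g1
  · exact p24.1
  · exact p37.1
  · exact p24.2
  · exact g5
  · exact g6
  · exact p37.2
  · exact p48.2
  · exact p79.2
  · exact g10
  · exact g11

theorem result_B2 {K : Type*} [Field K] (hx : ∃ x : K, x ≠ 0 ∧ x ≠ 1) :
    commutator (chevB2.SteinbergCover K) = ⊤ := by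
  have p13 := good_of_pair12 (K := K) chevB2 (a := 0) (b := 5) (q₁ := 1) (q₂ := 3) (c₁ := 1) (c₂ := -1)
    (rest := []) hx
    (by decide) (by decide) (by decide) (by decide) (by decide) (by decide) (by decide)
    (by decide) (by decide) (by simp)
  have p24 := good_of_pair12 (K := K) chevB2 (a := 0) (b := 6) (q₁ := 2) (q₂ := 4) (c₁ := -1) (c₂ := 1)
    (rest := []) hx
    (by decide) (by decide) (by decide) (by decide) (by decide) (by decide) (by decide)
    (by decide) (by decide) (by simp)
  have p57 := good_of_pair12 (K := K) chevB2 (a := 3) (b := 6) (q₁ := 5) (q₂ := 7) (c₁ := 1) (c₂ := 1)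
    (rest := []) hx
    (by decide) (by decide) (by decide) (by decide) (by decide) (by decide) (by decide)
    (by decide) (by decide) (by simp)
  have p20 := good_of_pair12 (K := K) chevB2 (a := 4) (b := 1) (q₁ := 2) (q₂ := 0) (c₁ := -1) (c₂ := 1)
    (rest := []) hx
    (by decide) (by decide) (by decide) (by decide) (by decide) (by decide) (by decide)
    (by decide) (by decide) (by simp)
  have p64 := good_of_pair12 (K := K) chevB2 (a := 7) (b := 2) (q₁ := 6) (q₂ := 4) (c₁ := -1) (c₂ := -1)
    (rest := []) hx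
    (by decide) (by decide) (by decide) (by decide) (by decide) (by decide) (by decide)
    (by decide) (by decide) (by simp)
  apply top_of_good
  intro r hr
  have hr' : r < 8 := hr
  interval_cases r
  · exact p20.2
  · exact p13.1
  · exact p24.1
  · exact p13.2
  · exact p24.2
  · exact p57.1
  · exact p64.1
  · exact p57.2

/-- The group presented by Steinberg's generators x̄_r(t) subject only to (R1) (additivity) and (R2) (the commutator formula) is perfect, for each of the types G₂, B₂, D₄, F₄, E₆, E₇, E₈ over any field (for types B₂ and G₂ the field must have more than two elements — the cases where the Chevalley group is not simple are set aside). -/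
theorem result {K : Type*} [Field K] (D : Cfsg.Lie.ChevalleyDatum) (hD : D ∈ [Cfsg.Lie.chevG2, Cfsg.Lie.chevB2, Cfsg.Lie.chevD4, Cfsg.Lie.chevF4, Cfsg.Lie.chevE6, Cfsg.Lie.chevE7, Cfsg.Lie.chevE8]) (hK : D ∈ [Cfsg.Lie.chevB2, Cfsg.Lie.chevG2] → ∃ x : K, x ≠ 0 ∧ x ≠ 1) :
    commutator (D.SteinbergCover K) = ⊤ := by
  simp only [List.mem_cons, List.not_mem_nil, or_false] at hD
  rcases hD with rfl | rfl | rfl | rfl | rfl | rfl | rfl
  · exact result_G2 (hK (by simp))
  · exact result_B2 (hK (by simp))
  · exact top_of_check _ check_D4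
  · exact top_of_check _ check_F4
  · exact top_of_check _ check_E6
  · exact top_of_check _ check_E7
  · exact top_of_check _ check_E8

end Cfsg.Agent.S2395
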