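import Cfsg.Statements.S1019
import Mathlib

set_option autoImplicit false
open Cfsg

namespace Cfsg.Agent.S1019

open Subgroup

/-- Counting the elements `g` with `g⁻¹ x g` in a given set. -/
lemma fiber_count {G : Type*} [Group G] [Finite G] (x : G) (S : Set G) :
    Nat.card {g : G // g⁻¹ * x * g ∈ S} =
      Nat.card (centralizer ({x} : Set G)) * Nat.card {y : G // IsConj x y ∧ y ∈ S} := by
  classical
  have hconj : ∀ g : G, IsConj x (g⁻¹ * x * g) := fun g => isConj_iff.mpr ⟨g⁻¹, by simp⟩
  let f : {g : G // g⁻¹ * x * g ∈ S} → {y : G // IsConj x y ∧ y ∈ S} :=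
    fun g => ⟨g.1⁻¹ * x * g.1, hconj g.1, g.2⟩
  have e := Equiv.sigmaFiberEquiv f
  rw [← Nat.card_congr e]
  have hfib : ∀ y : {y : G // IsConj x y ∧ y ∈ S},
      Nat.card {g : {g : G // g⁻¹ * x * g ∈ S} // f g = y} = Nat.card (centralizer ({x} : Set G)) := by
    intro y
    obtain ⟨c, hc⟩ := isConj_iff.mp y.2.1
    refine Nat.card_congr ?_
    refine
      { toFun := fun g => ⟨g.1.1 * c, ?_⟩
        invFun := fun z => ⟨⟨z.1 * c⁻¹, ?_⟩, ?_⟩
        left_inv := ?_
        right_inv := ?_ }
    · rw [mem_centralizer_iff]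
      intro h hh
      rw [Set.mem_singleton_iff] at hh
      subst hh
      have h1 : g.1.1⁻¹ * h * g.1.1 = c * h * c⁻¹ := by
        have := g.2
        have h2 := congrArg Subtype.val this
        simp only [f] at h2
        rw [h2, hc]
      calc h * (g.1.1 * c) = g.1.1 * (g.1.1⁻¹ * h * g.1.1) * c := by group
        _ = g.1.1 * (c * h * c⁻¹) * c := by rw [h1]
        _ = g.1.1 * c * h := by group
    · have hz := z.2
      rw [mem_centralizer_iff] at hz
      have hz' := hz x (Set.mem_singleton x)
      have : (z.1 * c⁻¹)⁻¹ * x * (z.1 * c⁻¹) = y.1 := by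
        rw [← hc]
        calc (z.1 * c⁻¹)⁻¹ * x * (z.1 * c⁻¹) = c * z.1⁻¹ * (x * z.1) * c⁻¹ := by group
          _ = c * z.1⁻¹ * (z.1 * x) * c⁻¹ := by rw [hz']
          _ = c * x * c⁻¹ := by group
      rw [this]; exact y.2.2
    · have hz := z.2
      rw [mem_centralizer_iff] at hz
      have hz' := hz x (Set.mem_singleton x)
      apply Subtype.ext
      simp only [f]
      rw [← hc]
      calc (z.1 * c⁻¹)⁻¹ * x * (z.1 * c⁻¹) = c * z.1⁻¹ * (x * z.1) * c⁻¹ := by group
        _ = c * z.1⁻¹ * (z.1 * x) * c⁻¹ := by rw [hz']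
        _ = c * x * c⁻¹ := by group
    · intro g
      apply Subtype.ext; apply Subtype.ext
      simp
    · intro z
      apply Subtype.ext
      simp
  haveI : Fintype {y : G // IsConj x y ∧ y ∈ S} := Fintype.ofFinite _
  rw [Nat.card_sigma]
  simp_rw [hfib]
  rw [Finset.sum_const, Finset.card_univ, smul_eq_mul, Nat.card_eq_fintype_card (α := {y : G // IsConj x y ∧ y ∈ S}), mul_comm]

/-- Let H be a subgroup of a finite group G and x an element of H. In the action of G on the left cosets of H, the number of cosets fixed by x, multiplied by the size of the conjugacy class of x, equals the index of H multiplied by the number of conjugates of x that lie in H. -/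
theorem result {G : Type*} [Group G] [Finite G] (H : Subgroup G) (x : G) (hx : x ∈ H) : Nat.card (MulAction.fixedBy (G ⧸ H) x) * Nat.card {g : G // IsConj x g} = H.index * Nat.card {g : G // IsConj x g ∧ g ∈ H} := by
  classical
  -- T = {g | g⁻¹ x g ∈ H}
  have h1 := fiber_count x (H : Set G)
  have h2 := fiber_count x (Set.univ : Set G)
  have h2a : Nat.card {g : G // g⁻¹ * x * g ∈ (Set.univ : Set G)} = Nat.card G :=
    Nat.card_congr (Equiv.subtypeUnivEquiv (fun _ => Set.mem_univ _))
  have h2b : Nat.card {y : G // IsConj x y ∧ y ∈ (Set.univ : Set G)} = Nat.card {g : G // IsConj x g} :=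
    Nat.card_congr (Equiv.subtypeEquivRight (fun _ => by simp))
  rw [h2a, h2b] at h2
  -- |T| = |Fix| * |H|
  have h3 : Nat.card {g : G // g⁻¹ * x * g ∈ (H : Set G)} =
      Nat.card H * Nat.card (MulAction.fixedBy (G ⧸ H) x) := by
    have e := QuotientGroup.preimageMkEquivSubgroupProdSet H (MulAction.fixedBy (G ⧸ H) x)
    rw [← Nat.card_prod, ← Nat.card_congr e]
    refine Nat.card_congr (Equiv.subtypeEquivRight ?_)
    intro g
    rw [Set.mem_preimage, MulAction.mem_fixedBy]
    show _ ↔ ((x * g : G) : G ⧸ H) = (g : G ⧸ H)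
    rw [QuotientGroup.eq]
    constructor
    · intro h
      have := H.inv_mem h
      simpa [mul_assoc] using this
    · intro h
      have := H.inv_mem h
      simpa [mul_assoc] using this
  have h1' : Nat.card {y : G // IsConj x y ∧ y ∈ (H : Set G)} = Nat.card {g : G // IsConj x g ∧ g ∈ H} := rfl
  rw [h1'] at h1
  have hidx : H.index * Nat.card H = Nat.card G := H.index_mul_card
  have hHpos : 0 < Nat.card H := Nat.card_pos
  have hCpos : 0 < Nat.card (centralizer ({x} : Set G)) := Nat.card_pos
  apply Nat.eq_of_mul_eq_mul_right (Nat.mul_pos hHpos hCpos)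
  calc Nat.card (MulAction.fixedBy (G ⧸ H) x) * Nat.card {g : G // IsConj x g} *
        (Nat.card H * Nat.card (centralizer ({x} : Set G)))
      = (Nat.card H * Nat.card (MulAction.fixedBy (G ⧸ H) x)) *
        (Nat.card (centralizer ({x} : Set G)) * Nat.card {g : G // IsConj x g}) := by ring
    _ = (Nat.card (centralizer ({x} : Set G)) * Nat.card {g : G // IsConj x g ∧ g ∈ H}) *
        (H.index * Nat.card H) := by rw [← h3, ← h2, h1, hidx]
    _ = H.index * Nat.card {g : G // IsConj x g ∧ g ∈ H} *
        (Nat.card H * Nat.card (centralizer ({x} : Set G))) := by ring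

end Cfsg.Agent.S1019
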