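import Cfsg.Statements.S1018
import Mathlib

set_option autoImplicit false
open Cfsg

namespace Cfsg.Agent.S1018

open Subgroup MulAction

/-- An element of a subgroup of prime order `p` that is not `1` generates it. -/
lemma zpowers_eq_of_card_prime {G : Type*} [Group G] [Finite G] {p : ℕ} [Fact p.Prime] (H : Subgroup G)
    (hH : Nat.card H = p) (v : G) (hv : v ∈ H) (hv1 : v ≠ 1) : zpowers v = H := by
  apply Subgroup.eq_of_le_of_card_ge
  · rwa [zpowers_le]
  · rw [Nat.card_zpowers, hH]
    have h1 : orderOf v ∣ p := by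
      have := orderOf_dvd_natCard (⟨v, hv⟩ : H)
      rwa [Subgroup.orderOf_mk, hH] at this
    rcases (Nat.dvd_prime Fact.out).mp h1 with h | h
    · exact absurd (orderOf_eq_one_iff.mp h) hv1
    · exact h.ge

/-- Let P be a Sylow p-subgroup of order p of a finite group G, and consider the action of G on the left cosets of the normalizer N of P. Then every element of order p fixes exactly one coset, and an element of N that does not centralize P fixes at most as many cosets as there are orbits of P. -/
theorem result {G : Type*} [Group G] [Finite G] (p : ℕ) [Fact p.Prime] (P : Sylow p G) (hP : Nat.card ↥(P : Subgroup G) = p) : (∀ y : G, orderOf y = p → Nat.card (MulAction.fixedBy (G ⧸ Subgroup.normalizer ((P : Subgroup G) : Set G)) y) = 1) ∧ ∀ x : G, x ∈ Subgroup.normalizer ((P : Subgroup G) : Set G) → x ∉ Subgroup.centralizer ((P : Subgroup G) : Set G) → Nat.card (MulAction.fixedBy (G ⧸ Subgroup.normalizer ((P : Subgroup G) : Set G)) x) ≤ Nat.card (MulAction.orbitRel.Quotient ↥(P : Subgroup G) (G ⧸ Subgroup.normalizer ((P : Subgroup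 G) : Set G))) := by
  classical
  have hp : p.Prime := Fact.out
  set N := Subgroup.normalizer ((P : Subgroup G) : Set G) with hN
  -- fixed coset criterion
  have hfix : ∀ (u g : G), u • (g : G ⧸ N) = (g : G ⧸ N) ↔ g⁻¹ * u * g ∈ N := by
    intro u g
    show ((u * g : G) : G ⧸ N) = (g : G ⧸ N) ↔ _
    rw [QuotientGroup.eq]
    constructor
    · intro h
      have := N.inv_mem h
      simpa [mul_assoc] using this
    · intro h
      have := N.inv_mem h
      simpa [mul_assoc] using this
  have hcardSyl : ∀ Q : Sylow p G, Nat.card (Q : Subgroup G) = p := by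
    intro Q
    obtain ⟨g, rfl⟩ := MulAction.exists_smul_eq G P Q
    exact (Nat.card_congr (Sylow.equivSMul P g).symm.toEquiv).trans hP
  have hmem_smul : ∀ (g y : G), y ∈ ((g • P : Sylow p G) : Subgroup G) ↔ g⁻¹ * y * g ∈ (P : Subgroup G) := by
    intro g y
    rw [Sylow.coe_subgroup_smul, Subgroup.mem_pointwise_smul_iff_inv_smul_mem]
    simp [MulAut.smul_def]
  constructor
  · intro y hy
    have hy1 : y ≠ 1 := by
      intro h; rw [h, orderOf_one] at hy; exact hp.one_lt.ne hy
    rw [Nat.card_eq_one_iff_unique]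
    constructor
    · -- subsingleton
      constructor
      rintro ⟨a, ha⟩ ⟨b, hb⟩
      apply Subtype.ext
      show a = b
      obtain ⟨g1, rfl⟩ := QuotientGroup.mk_surjective a
      obtain ⟨g2, rfl⟩ := QuotientGroup.mk_surjective b
      rw [mem_fixedBy, hfix] at ha hb
      have key : ∀ g : G, g⁻¹ * y * g ∈ N → zpowers y = ((g • P : Sylow p G) : Subgroup G) := by
        intro g hg
        have hz : IsPGroup p (zpowers (g⁻¹ * y * g)) := by
          rw [IsPGroup.iff_card]
          refine ⟨1, ?_⟩
          rw [Nat.card_zpowers, pow_one]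
          have hsc : SemiconjBy g⁻¹ y (g⁻¹ * y * g) := by unfold SemiconjBy; group
          rw [← hsc.orderOf_eq, hy]
        have h1 := hz.inf_normalizer_sylow P
        have h2 : g⁻¹ * y * g ∈ zpowers (g⁻¹ * y * g) ⊓ normalizer ((P : Subgroup G) : Set G) :=
          ⟨mem_zpowers _, hg⟩
        have h2' : g⁻¹ * y * g ∈ zpowers (g⁻¹ * y * g) ⊓ (P : Subgroup G) := h1 ▸ h2
        have h3 : y ∈ ((g • P : Sylow p G) : Subgroup G) := (hmem_smul g y).mpr h2'.2
        exact zpowers_eq_of_card_prime _ (hcardSyl _) y h3 hy1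
      have e1 := key g1 ha
      have e2 := key g2 hb
      have e3 : (g1 • P : Sylow p G) = g2 • P := Sylow.ext (e1.symm.trans e2)
      have e4 : (g1⁻¹ * g2) • P = P := by
        rw [mul_smul, ← e3, inv_smul_smul]
      rw [Sylow.smul_eq_iff_mem_normalizer] at e4
      exact QuotientGroup.eq.mpr e4
    · -- nonempty
      have hz : IsPGroup p (zpowers y) := by
        rw [IsPGroup.iff_card]
        exact ⟨1, by rw [Nat.card_zpowers, pow_one, hy]⟩
      obtain ⟨Q, hQ⟩ := hz.exists_le_sylow
      obtain ⟨g, rfl⟩ := MulAction.exists_smul_eq G P Q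
      have h1 : g⁻¹ * y * g ∈ (P : Subgroup G) := (hmem_smul g y).mp (hQ (mem_zpowers y))
      exact ⟨⟨(g : G ⧸ N), by rw [mem_fixedBy, hfix]; exact le_normalizer h1⟩⟩
  · intro x hxN hxC
    haveI : Finite (MulAction.orbitRel.Quotient ↥(P : Subgroup G) (G ⧸ N)) := Quotient.finite _
    let f : MulAction.fixedBy (G ⧸ N) x → MulAction.orbitRel.Quotient ↥(P : Subgroup G) (G ⧸ N) :=
      fun a => Quotient.mk'' a.1
    apply Nat.card_le_card_of_injective f
    rintro ⟨a, ha⟩ ⟨b, hb⟩ hab
    apply Subtype.ext
    show a = b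
    have hab' : (MulAction.orbitRel ↥(P : Subgroup G) (G ⧸ N)) a b := Quotient.exact' hab
    rw [MulAction.orbitRel_apply] at hab'
    obtain ⟨⟨u, hu⟩, hub⟩ := hab'
    have hub' : u • b = a := hub
    rw [mem_fixedBy] at ha hb
    by_cases hu1 : u = 1
    · rw [hu1, one_smul] at hub'; exact hub'.symm
    -- v = u⁻¹ x⁻¹ u x ∈ P fixes b
    set v := u⁻¹ * (x⁻¹ * u * x) with hv
    have hxu : x⁻¹ * u * x ∈ (P : Subgroup G) := by
      have hx' : x⁻¹ ∈ N := N.inv_mem hxN
      rw [hN, mem_normalizer_iff] at hx'
      have := (hx' u).mp hu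
      simpa using this
    have hvP : v ∈ (P : Subgroup G) := (P : Subgroup G).mul_mem ((P : Subgroup G).inv_mem hu) hxu
    have hvb : v • b = b := by
      have h1 : x • a = a := ha
      have h2 : x • b = b := hb
      have h3 : x⁻¹ • a = a := by rw [inv_smul_eq_iff, h1]
      have h4 : u⁻¹ • a = b := by rw [inv_smul_eq_iff, hub']
      rw [hv, mul_smul, mul_smul, mul_smul, h2, hub', h3, h4]
    by_cases hv1 : v = 1
    · -- x commutes with u hence centralizes P
      exfalso
      apply hxC
      have hcomm : u * x = x * u := by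
        have : u⁻¹ * (x⁻¹ * u * x) = 1 := hv1
        have h2 : x⁻¹ * u * x = u := by
          have := congrArg (fun z => u * z) this
          simpa using this
        calc u * x = x * (x⁻¹ * u * x) := by group
          _ = x * u := by rw [h2]
      have hPz : zpowers u = (P : Subgroup G) := zpowers_eq_of_card_prime _ hP u hu hu1
      rw [mem_centralizer_iff]
      intro h hh
      rw [SetLike.mem_coe, ← hPz, mem_zpowers_iff] at hh
      obtain ⟨k, rfl⟩ := hh
      exact ((Commute.zpow_left (show Commute u x from hcomm) k)).eq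
    · -- P = zpowers v fixes b
      have hPz : zpowers v = (P : Subgroup G) := zpowers_eq_of_card_prime _ hP v hvP hv1
      have hu' : u ∈ zpowers v := by rw [hPz]; exact hu
      rw [mem_zpowers_iff] at hu'
      obtain ⟨k, hk⟩ := hu'
      have hk' : (v ^ k) • b = b := by
        have : v ∈ MulAction.stabilizer G b := hvb
        exact (MulAction.stabilizer G b).zpow_mem this k
      rw [hk] at hk'
      rw [hk'] at hub'
      exact hub'.symm

end Cfsg.Agent.S1018
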