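-- Statement S3276
import Cfsg.Statements.S3276
-- import your own Cfsg.Agent.* helpers here

set_option autoImplicit false
open Cfsg

namespace Cfsg.Agent.S3276

/-- two involutions that are not conjugate commute with a common involution -/
theorem exists_invol_of_not_isConj {G : Type*} [Group G] [Finite G] (a b : G)
    (ha : a * a = 1) (hb : b * b = 1) (hnc : ¬ IsConj a b) :
    ∃ u : G, orderOf u = 2 ∧ Commute u a ∧ Commute b u := by
  have hainv : a⁻¹ = a := inv_eq_of_mul_eq_one_right ha
  have hbinv : b⁻¹ = b := inv_eq_of_mul_eq_one_right hb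
  set d := a * b with hd
  have hdinv : d⁻¹ = b * a := by rw [hd, mul_inv_rev, hainv, hbinv]
  -- a and b invert d
  have had : a * d * a⁻¹ = d⁻¹ := by
    rw [hdinv, hd, hainv, ← mul_assoc, ha, one_mul]
  have hbd : b * d * b⁻¹ = d⁻¹ := by
    rw [hdinv, hd, hbinv]; simp [mul_assoc, hb]
  have hadk : ∀ k : ℕ, a * d ^ k * a⁻¹ = (d ^ k)⁻¹ := by
    intro k
    rw [← conj_pow, had, inv_pow]
  have hbdk : ∀ k : ℕ, b * d ^ k * b⁻¹ = (d ^ k)⁻¹ := by
    intro k
    rw [← conj_pow, hbd, inv_pow]
  have hn : 0 < orderOf d := orderOf_pos d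
  rcases Nat.even_or_odd' (orderOf d) with ⟨m, hm | hm⟩
  · -- even order
    have hm0 : 0 < m := by omega
    refine ⟨d ^ m, ?_, ?_, ?_⟩
    · rw [orderOf_pow' d hm0.ne', hm, Nat.gcd_eq_right (Dvd.intro_left 2 rfl)]
      exact Nat.mul_div_cancel _ hm0
    · have hu2 : d ^ m * d ^ m = 1 := by
        rw [← pow_add, ← two_mul, ← hm, pow_orderOf_eq_one]
      have huinv : (d ^ m)⁻¹ = d ^ m := inv_eq_of_mul_eq_one_right hu2
      have := hadk m
      rw [huinv] at this
      -- a * u * a⁻¹ = u
      show d ^ m * a = a * d ^ m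
      calc d ^ m * a = (a * d ^ m * a⁻¹) * a := by rw [this]
        _ = a * d ^ m := by simp [mul_assoc]
    · have hu2 : d ^ m * d ^ m = 1 := by
        rw [← pow_add, ← two_mul, ← hm, pow_orderOf_eq_one]
      have huinv : (d ^ m)⁻¹ = d ^ m := inv_eq_of_mul_eq_one_right hu2
      have := hbdk m
      rw [huinv] at this
      show b * d ^ m = d ^ m * b
      calc b * d ^ m = (b * d ^ m * b⁻¹) * b := by simp [mul_assoc]
        _ = d ^ m * b := by rw [this]
  · -- odd order: conjugate
    exfalso
    apply hnc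
    rw [isConj_iff]
    refine ⟨d ^ m, ?_⟩
    have h1 : d ^ (2 * m + 1) = 1 := by rw [← hm, pow_orderOf_eq_one]
    have h2 : a * (d ^ m)⁻¹ = d ^ m * a := by
      have := hadk m
      calc a * (d ^ m)⁻¹ = a * (a * d ^ m * a⁻¹) := by rw [this]
        _ = (a * a) * d ^ m * a⁻¹ := by simp [mul_assoc]
        _ = d ^ m * a := by rw [ha, one_mul, hainv]
    calc d ^ m * a * (d ^ m)⁻¹ = d ^ m * (a * (d ^ m)⁻¹) := by rw [mul_assoc]
      _ = d ^ m * (d ^ m * a) := by rw [h2]
      _ = d ^ (2 * m) * a := by rw [← mul_assoc, ← pow_add, two_mul]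
      _ = d⁻¹ * a := by
          congr 1
          rw [eq_inv_iff_mul_eq_one, ← pow_succ, h1]
      _ = b := by rw [hdinv, mul_assoc, ha, mul_one]

theorem sq_of_orderOf_two {G : Type*} [Group G] {a : G} (h : orderOf a = 2) : a * a = 1 := by
  rw [← pow_two, ← h, pow_orderOf_eq_one]

/-- Let x and y be commuting, non-conjugate involutions of a finite group G, and suppose that for every involution u commuting with x, each conjugate of y that commutes with u also commutes with y. Then the normal closure of y is a proper, normal, elementary abelian 2-subgroup of G; and if y is the only involution of that normal closure commuting with x, it has order at most 4. -/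
theorem result {G : Type*} [Group G] [Finite G] (x y : G) (hx : orderOf x = 2) (hy : orderOf y = 2)
    (hxy : Commute x y) (hnc : ¬ IsConj x y)
    (hstar : ∀ u : G, orderOf u = 2 → Commute u x → ∀ g : G, Commute (g * y * g⁻¹) u → Commute (g * y * g⁻¹) y) :
    Subgroup.normalClosure ({y} : Set G) ≠ ⊤ ∧ Cfsg.IsElementaryAbelian 2 (Subgroup.normalClosure ({y} : Set G)) ∧
      ((∀ u ∈ Subgroup.normalClosure ({y} : Set G), orderOf u = 2 → Commute u x → u = y) →
        Nat.card ↥(Subgroup.normalClosure ({y} : Set G)) ≤ 4) := by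
  classical
  have hx2 : x * x = 1 := sq_of_orderOf_two hx
  have hy2 : y * y = 1 := sq_of_orderOf_two hy
  have hxinv : x⁻¹ = x := inv_eq_of_mul_eq_one_right hx2
  -- every conjugate of y commutes with y
  have h1 : ∀ g : G, Commute (g * y * g⁻¹) y := by
    intro g
    have hy'2 : (g * y * g⁻¹) * (g * y * g⁻¹) = 1 := by
      have : (g * y * g⁻¹) * (g * y * g⁻¹) = g * (y * y) * g⁻¹ := by group
      rw [this, hy2]; group
    have hnc' : ¬ IsConj x (g * y * g⁻¹) := by
      intro h
      apply hnc
      refine h.trans ?_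
      rw [isConj_comm, isConj_iff]
      exact ⟨g, rfl⟩
    obtain ⟨u, hu, hux, hyu⟩ := exists_invol_of_not_isConj x (g * y * g⁻¹) hx2 hy'2 hnc'
    exact hstar u hu hux g hyu
  -- conjugates commute pairwise
  have h2 : ∀ g h : G, Commute (g * y * g⁻¹) (h * y * h⁻¹) := by
    intro g h
    have := h1 (h⁻¹ * g)
    have e1 : g * y * g⁻¹ = h * ((h⁻¹ * g) * y * (h⁻¹ * g)⁻¹) * h⁻¹ := by group
    rw [e1]
    show h * ((h⁻¹ * g) * y * (h⁻¹ * g)⁻¹) * h⁻¹ * (h * y * h⁻¹) = (h * y * h⁻¹) * (h * ((h⁻¹ * g) * y * (h⁻¹ * g)⁻¹) * h⁻¹)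
    have e2 : h * ((h⁻¹ * g) * y * (h⁻¹ * g)⁻¹) * h⁻¹ * (h * y * h⁻¹) = h * (((h⁻¹ * g) * y * (h⁻¹ * g)⁻¹) * y) * h⁻¹ := by group
    have e3 : (h * y * h⁻¹) * (h * ((h⁻¹ * g) * y * (h⁻¹ * g)⁻¹) * h⁻¹) = h * (y * ((h⁻¹ * g) * y * (h⁻¹ * g)⁻¹)) * h⁻¹ := by group
    rw [e2, e3, this.eq]
  have hmemconj : ∀ z ∈ Group.conjugatesOfSet ({y} : Set G), ∃ g : G, z = g * y * g⁻¹ := by
    intro z hz
    rw [Group.mem_conjugatesOfSet_iff] at hz
    obtain ⟨a, ha, hconj⟩ := hz
    rw [Set.mem_singleton_iff] at ha
    subst ha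
    rw [isConj_iff] at hconj
    obtain ⟨c, hc⟩ := hconj
    exact ⟨c, hc.symm⟩
  -- commutativity on the normal closure
  have hcomm : ∀ a ∈ Subgroup.normalClosure ({y} : Set G), ∀ b ∈ Subgroup.normalClosure ({y} : Set G), Commute a b := by
    intro a ha b hb
    unfold Subgroup.normalClosure at ha hb
    induction ha, hb using Subgroup.closure_induction₂ with
    | mem p q hp hq =>
      obtain ⟨g, rfl⟩ := hmemconj p hp
      obtain ⟨h, rfl⟩ := hmemconj q hq
      exact h2 g h
    | one_left p hp => exact Commute.one_left p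
    | one_right p hp => exact Commute.one_right p
    | mul_left p q r hp hq hr h₁ h₂ => exact Commute.mul_left h₁ h₂
    | mul_right p q r hp hq hr h₁ h₂ => exact Commute.mul_right h₁ h₂
    | inv_left p q hp hq h => exact Commute.inv_left h
    | inv_right p q hp hq h => exact Commute.inv_right h
  have hsq : ∀ a ∈ Subgroup.normalClosure ({y} : Set G), a ^ 2 = 1 := by
    intro a ha
    have ha' := ha
    unfold Subgroup.normalClosure at ha
    induction ha using Subgroup.closure_induction with
    | mem p hp =>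
      obtain ⟨g, rfl⟩ := hmemconj p hp
      rw [pow_two]
      have : (g * y * g⁻¹) * (g * y * g⁻¹) = g * (y * y) * g⁻¹ := by group
      rw [this, hy2]; group
    | one => simp
    | mul p q hp hq ihp ihq =>
      have hp' : p ∈ Subgroup.normalClosure ({y} : Set G) := hp
      have hq' : q ∈ Subgroup.normalClosure ({y} : Set G) := hq
      rw [(hcomm p hp' q hq').mul_pow, ihp hp', ihq hq', one_mul]
    | inv p hp ih =>
      have hp' : p ∈ Subgroup.normalClosure ({y} : Set G) := hp
      rw [inv_pow, ih hp', inv_one]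
  have hyN : y ∈ Subgroup.normalClosure ({y} : Set G) :=
    Subgroup.subset_normalClosure (Set.mem_singleton y)
  have hcommI : IsMulCommutative (Subgroup.normalClosure ({y} : Set G)) := by
    refine ⟨⟨?_⟩⟩
    rintro ⟨a, ha⟩ ⟨b, hb⟩
    exact Subtype.ext (hcomm a ha b hb).eq
  refine ⟨?_, ⟨hcommI, hsq⟩, ?_⟩
  · -- proper
    intro htop
    have hall : ∀ g : G, Commute g y := by
      intro g
      exact hcomm g (htop ▸ Subgroup.mem_top g) y hyN
    have hnorm : (Subgroup.zpowers y).Normal := by
      constructor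
      intro n hn g
      have : g * n * g⁻¹ = n := by
        have hgn : Commute g n := by
          exact hcomm g (htop ▸ Subgroup.mem_top g) n (htop ▸ Subgroup.mem_top n)
        rw [hgn.eq]; group
      rw [this]; exact hn
    have hle : Subgroup.normalClosure ({y} : Set G) ≤ Subgroup.zpowers y := by
      apply Subgroup.normalClosure_le_normal
      intro z hz
      rw [Set.mem_singleton_iff] at hz
      subst hz
      exact Subgroup.mem_zpowers z
    have hxz : x ∈ Subgroup.zpowers y := hle (htop ▸ Subgroup.mem_top x)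
    rw [Subgroup.mem_zpowers_iff] at hxz
    obtain ⟨k, hk⟩ := hxz
    rcases Int.even_or_odd' k with ⟨j, hj | hj⟩
    · -- x = 1
      have : x = 1 := by
        rw [← hk, hj, zpow_mul, zpow_two, hy2, one_zpow]
      rw [this, orderOf_one] at hx
      omega
    · have : x = y := by
        rw [← hk, hj, zpow_add, zpow_mul, zpow_two, hy2, one_zpow, one_mul, zpow_one]
      exact hnc (this ▸ IsConj.refl x)
  · intro huniq
    set N := Subgroup.normalClosure ({y} : Set G) with hN
    have hNn : N.Normal := Subgroup.normalClosure_normal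
    have hconjmem : ∀ n ∈ N, x * n * x⁻¹ ∈ N := fun n hn => hNn.conj_mem n hn x
    -- the map n ↦ n * (x n x⁻¹)
    let φ : N →* N :=
      { toFun := fun n => ⟨(n : G) * (x * n * x⁻¹), N.mul_mem n.2 (hconjmem n n.2)⟩
        map_one' := by
          apply Subtype.ext
          simp
        map_mul' := by
          intro a b
          apply Subtype.ext
          show ((a : G) * b) * (x * ((a : G) * b) * x⁻¹) = ((a : G) * (x * a * x⁻¹)) * ((b : G) * (x * b * x⁻¹))
          have e : x * ((a : G) * b) * x⁻¹ = (x * a * x⁻¹) * (x * b * x⁻¹) := by group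
          rw [e]
          have c1 : Commute (b : G) (x * a * x⁻¹) := hcomm _ b.2 _ (hconjmem a a.2)
          calc (a : G) * b * (x * a * x⁻¹ * (x * b * x⁻¹))
              = (a : G) * (b * (x * a * x⁻¹)) * (x * b * x⁻¹) := by group
            _ = (a : G) * ((x * a * x⁻¹) * b) * (x * b * x⁻¹) := by rw [c1.eq]
            _ = (a : G) * (x * a * x⁻¹) * (b * (x * b * x⁻¹)) := by group }
    have hφ : ∀ n : N, ((φ n : N) : G) = (n : G) * (x * n * x⁻¹) := fun n => rfl
    -- elements of N commuting with x are 1 or y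
    have hfix : ∀ n ∈ N, Commute n x → n = 1 ∨ n = y := by
      intro n hn hc
      by_cases h1n : n = 1
      · exact Or.inl h1n
      · right
        apply huniq n hn _ hc
        have hn2 : n ^ 2 = 1 := hsq n hn
        exact orderOf_eq_prime hn2 h1n
    have hrange : ∀ n : N, ((φ n : N) : G) = 1 ∨ ((φ n : N) : G) = y := by
      intro n
      apply hfix _ (φ n).2
      rw [hφ]
      show (n : G) * (x * n * x⁻¹) * x = x * ((n : G) * (x * n * x⁻¹))
      have c1 : (n : G) * (x * n * x) = (x * n * x) * n := by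
        have := hcomm _ n.2 _ (hconjmem n n.2)
        rw [hxinv] at this
        exact this.eq
      rw [hxinv]
      calc (n : G) * (x * n * x) * x = n * x * n * (x * x) := by group
        _ = n * x * n := by rw [hx2, mul_one]
        _ = (x * x) * n * x * n := by rw [hx2, one_mul]
        _ = x * ((x * n * x) * n) := by group
        _ = x * (n * (x * n * x)) := by rw [c1]
    have hker : ∀ n : N, n ∈ φ.ker → (n : G) = 1 ∨ (n : G) = y := by
      intro n hn
      rw [MonoidHom.mem_ker] at hn
      have h0 : (n : G) * (x * n * x⁻¹) = 1 := by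
        rw [← hφ, hn]; rfl
      apply hfix _ n.2
      have hn2 : (n : G) ^ 2 = 1 := hsq _ n.2
      have hninv : (n : G)⁻¹ = n := by
        rw [inv_eq_iff_mul_eq_one, ← pow_two, hn2]
      have : x * n * x⁻¹ = n := by
        calc x * n * x⁻¹ = (n : G)⁻¹ := (inv_eq_of_mul_eq_one_right h0).symm
          _ = n := hninv
      show (n : G) * x = x * n
      calc (n : G) * x = (x * n * x⁻¹) * x := by rw [this]
        _ = x * n := by group
    -- cardinalities
    have hcard : Nat.card φ.ker * Nat.card φ.range = Nat.card N := by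
      rw [← Subgroup.index_ker, Subgroup.card_mul_index]
    have hpair : ({1, ⟨y, hyN⟩} : Set N).ncard ≤ 2 := by
      calc ({1, ⟨y, hyN⟩} : Set N).ncard ≤ ({⟨y, hyN⟩} : Set N).ncard + 1 := Set.ncard_insert_le _ _
        _ = 2 := by rw [Set.ncard_singleton]
    have hk2 : Nat.card φ.ker ≤ 2 := by
      have hsub : (φ.ker : Set N) ⊆ ({1, ⟨y, hyN⟩} : Set N) := by
        intro n hn
        rcases hker n hn with h | h
        · left; exact Subtype.ext h
        · right; exact Subtype.ext h
      calc Nat.card φ.ker = (φ.ker : Set N).ncard := Nat.card_coe_set_eq _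
        _ ≤ ({1, ⟨y, hyN⟩} : Set N).ncard := Set.ncard_le_ncard hsub (Set.toFinite _)
        _ ≤ 2 := hpair
    have hr2 : Nat.card φ.range ≤ 2 := by
      have hsub : (φ.range : Set N) ⊆ ({1, ⟨y, hyN⟩} : Set N) := by
        rintro n ⟨m, rfl⟩
        rcases hrange m with h | h
        · left; exact Subtype.ext h
        · right; exact Subtype.ext h
      calc Nat.card φ.range = (φ.range : Set N).ncard := Nat.card_coe_set_eq _
        _ ≤ ({1, ⟨y, hyN⟩} : Set N).ncard := Set.ncard_le_ncard hsub (Set.toFinite _)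
        _ ≤ 2 := hpair
    calc Nat.card N = Nat.card φ.ker * Nat.card φ.range := hcard.symm
      _ ≤ 2 * 2 := Nat.mul_le_mul hk2 hr2
      _ = 4 := rfl

end Cfsg.Agent.S3276
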