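import Cfsg.Statements.S3224
import Cfsg.Agent.Lib.Helper2.DihedralIso
import Cfsg.Agent.Lib.Helper1.Hall

set_option autoImplicit false
open Cfsg

namespace Cfsg.Agent.S3224

open Subgroup

universe u

variable {S : Type u} [Group S]

theorem mem_centralizer_singleton' {x y : S} :
    y ∈ Subgroup.centralizer ({x} : Set S) ↔ y * x = x * y :=
  Subgroup.mem_centralizer_singleton_iff

/-- A divisor of a power of two which is not `1` is even. -/
theorem two_dvd_of_dvd_two_pow {d k : ℕ} (h : d ∣ 2 ^ k) (h1 : d ≠ 1) : 2 ∣ d := by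
  obtain ⟨j, -, rfl⟩ := (Nat.dvd_prime_pow Nat.prime_two).mp h
  have hj : j ≠ 0 := by
    rintro rfl
    exact h1 (pow_zero 2)
  exact dvd_pow_self 2 hj

/-- In a `2`-group of order at least `4`, the centralizer of an involution has order at least
`4`. -/
theorem four_le_card_centralizer [Finite S] (hS : IsPGroup 2 S) (h4 : 4 ≤ Nat.card S)
    (x : S) (hx : orderOf x = 2) : 4 ≤ Nat.card ↥(Subgroup.centralizer ({x} : Set S)) := by
  by_contra hlt
  push Not at hlt
  set C := Subgroup.centralizer ({x} : Set S) with hCdef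
  have hxC : x ∈ C := by rw [hCdef, mem_centralizer_singleton']
  obtain ⟨j, hj⟩ := IsPGroup.iff_card.mp (hS.to_subgroup C)
  have h2 : 2 ∣ Nat.card ↥C := by
    have := Subgroup.orderOf_dvd_natCard C hxC
    rwa [hx] at this
  have hC2 : Nat.card ↥C = 2 := by
    rw [hj] at h2 hlt ⊢
    have hj1 : j < 2 := by
      by_contra hge
      push Not at hge
      have : 2 ^ 2 ≤ 2 ^ j := Nat.pow_le_pow_right (by norm_num) hge
      omega
    interval_cases j
    · simp at h2
    · rfl
  haveI : Nontrivial S := by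
    rw [← Finite.one_lt_card_iff_nontrivial]; omega
  haveI := hS.center_nontrivial
  have hZC : Subgroup.center S ≤ C := Subgroup.center_le_centralizer _
  have hZ1 : Nat.card ↥(Subgroup.center S) ≠ 1 := by
    have := Finite.one_lt_card (α := ↥(Subgroup.center S))
    omega
  have hZd : Nat.card ↥(Subgroup.center S) ∣ 2 := by
    rw [← hC2]; exact Subgroup.card_dvd_of_le hZC
  have hZ2 : Nat.card ↥(Subgroup.center S) = 2 := by
    rcases (Nat.dvd_prime Nat.prime_two).mp hZd with h | h
    · exact absurd h hZ1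
    · exact h
  have hZeq : Subgroup.center S = C :=
    Subgroup.eq_of_le_of_card_ge hZC (by rw [hZ2, hC2])
  have hxZ : x ∈ Subgroup.center S := hZeq ▸ hxC
  have hCtop : C = ⊤ := by
    rw [eq_top_iff]
    intro g _
    rw [hCdef, mem_centralizer_singleton']
    exact Subgroup.mem_center_iff.mp hxZ g
  have : Nat.card ↥C = Nat.card S := by rw [hCtop, Subgroup.card_top]
  omega

/-- `w * w = 1` gives `w ^ i ∈ {1, w}`. -/
theorem zpow_eq_one_or_self {w : S} (hw : w * w = 1) (i : ℤ) : w ^ i = 1 ∨ w ^ i = w := by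
  have hw2 : w ^ (2 : ℤ) = 1 := by
    rw [zpow_ofNat, sq]; exact hw
  rcases Int.even_or_odd' i with ⟨c, rfl | rfl⟩
  · left
    rw [zpow_mul, hw2, one_zpow]
  · right
    rw [zpow_add, zpow_mul, hw2, one_zpow, one_mul, zpow_one]

/-- Groups of exponent two are commutative. -/
theorem comm_of_sq_eq_one (h : ∀ a : S, a * a = 1) (a b : S) : a * b = b * a := by
  have ha : a⁻¹ = a := inv_eq_of_mul_eq_one_right (h a)
  have hb : b⁻¹ = b := inv_eq_of_mul_eq_one_right (h b)
  have hab : (a * b)⁻¹ = a * b := inv_eq_of_mul_eq_one_right (h _)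
  calc a * b = (a * b)⁻¹ := hab.symm
    _ = b⁻¹ * a⁻¹ := mul_inv_rev a b
    _ = b * a := by rw [ha, hb]

/-- In a cyclic group `⟨a⟩` of even order `2h`, the only elements with `y * y = 1` are `1` and
`a ^ h`. -/
theorem eq_one_or_eq_of_mem_zpowers {a : S} {h : ℕ} (ho : orderOf a = 2 * h)
    {y : S} (hy : y ∈ Subgroup.zpowers a) (hyy : y * y = 1) : y = 1 ∨ y = a ^ h := by
  obtain ⟨i, rfl⟩ := Subgroup.mem_zpowers_iff.mp hy
  have h1 : a ^ (2 * i) = 1 := by
    rw [two_mul, zpow_add]; exact hyy
  have h2 : ((orderOf a : ℕ) : ℤ) ∣ 2 * i := orderOf_dvd_iff_zpow_eq_one.mpr h1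
  rw [ho] at h2
  have h3 : (h : ℤ) ∣ i := by
    push_cast at h2
    exact (mul_dvd_mul_iff_left (by norm_num : (2 : ℤ) ≠ 0)).mp h2
  obtain ⟨l, rfl⟩ := h3
  have hw : a ^ h * a ^ h = 1 := by
    rw [← pow_add, ← two_mul, ← ho]; exact pow_orderOf_eq_one a
  have : a ^ ((h : ℤ) * l) = (a ^ h) ^ l := by
    rw [zpow_mul, zpow_natCast]
  rw [this]
  exact zpow_eq_one_or_self hw l

/-- Divisors of powers of two: if `d ∣ 2 ^ (j+1)` and `¬ d ∣ 2 ^ j` then `d = 2 ^ (j+1)`. -/
theorem eq_two_pow_succ_of_dvd {d j : ℕ} (h1 : d ∣ 2 ^ (j + 1)) (h2 : ¬ d ∣ 2 ^ j) :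
    d = 2 ^ (j + 1) := by
  obtain ⟨i, hi, rfl⟩ := (Nat.dvd_prime_pow Nat.prime_two).mp h1
  rcases Nat.lt_or_ge i (j + 1) with hlt | hge
  · exact absurd (pow_dvd_pow 2 (Nat.lt_succ_iff.mp hlt)) h2
  · rw [le_antisymm hi hge]

theorem exists_cyclic_index_two : ∀ (n : ℕ) (S : Type u) [Group S] [Finite S], Nat.card S = n →
    IsPGroup 2 S → ∀ x : S, orderOf x = 2 →
    Nat.card ↥(Subgroup.centralizer ({x} : Set S)) = 4 →
    Nat.card S = 4 ∨ ∃ a : S, 2 * orderOf a = Nat.card S := by
  intro n
  induction n using Nat.strong_induction_on with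
  | _ n ih =>
  intro S _ _ hn hS x hx hC
  classical
  by_cases h4 : Nat.card S = 4
  · exact Or.inl h4
  right
  set C := Subgroup.centralizer ({x} : Set S) with hCdef
  have hxC : x ∈ C := by rw [hCdef, mem_centralizer_singleton']
  have hx1 : x ≠ 1 := by
    rintro rfl
    simp at hx
  have hx2 : x * x = 1 := by
    rw [← sq, ← hx]; exact pow_orderOf_eq_one x
  have hxinv : x⁻¹ = x := inv_eq_of_mul_eq_one_right hx2
  obtain ⟨k, hk⟩ := IsPGroup.iff_card.mp hS
  have hk3 : 3 ≤ k := by
    have hd : 4 ∣ 2 ^ k := by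
      rw [← hk, ← hC]; exact Subgroup.card_subgroup_dvd_card C
    by_contra hlt
    push Not at hlt
    interval_cases k
    · norm_num at hd
    · norm_num at hd
    · exact h4 (by rw [hk]; norm_num)
  have hS8 : 8 ≤ Nat.card S := by
    rw [hk]
    calc 8 = 2 ^ 3 := by norm_num
      _ ≤ 2 ^ k := Nat.pow_le_pow_right (by norm_num) hk3
  set Z := Subgroup.center S with hZdef
  have hZC : Z ≤ C := Subgroup.center_le_centralizer _
  have hxZ : x ∉ Z := by
    intro hxZ
    have hCtop : C = ⊤ := by
      rw [eq_top_iff]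
      intro g _
      rw [hCdef, mem_centralizer_singleton']
      exact Subgroup.mem_center_iff.mp hxZ g
    apply h4
    rw [← hC, hCtop, Subgroup.card_top]
  haveI : Nontrivial S := by
    rw [← Finite.one_lt_card_iff_nontrivial]; omega
  haveI hZnt : Nontrivial ↥Z := hS.center_nontrivial
  have hZ2 : Nat.card ↥Z = 2 := by
    have hd : Nat.card ↥Z ∣ 2 ^ 2 := by
      have := Subgroup.card_dvd_of_le hZC
      rw [hC] at this
      exact this
    obtain ⟨j, hj, hjeq⟩ := (Nat.dvd_prime_pow Nat.prime_two).mp hd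
    have h1 : Nat.card ↥Z ≠ 1 := by
      have := Finite.one_lt_card (α := ↥Z)
      omega
    have hne : Nat.card ↥Z ≠ 4 := by
      intro h
      have : Z = C := Subgroup.eq_of_le_of_card_ge hZC (by rw [h, hC])
      exact hxZ (this ▸ hxC)
    interval_cases j
    · exact absurd hjeq h1
    · exact hjeq
    · exact absurd hjeq hne
  -- the nontrivial central element
  obtain ⟨z, hzZ, hz1, hzall⟩ : ∃ z ∈ Z, z ≠ 1 ∧ ∀ w ∈ Z, w = 1 ∨ w = z := by
    obtain ⟨⟨z, hzZ⟩, hz1, hzu⟩ := (Nat.card_eq_two_iff' (1 : ↥Z)).mp hZ2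
    refine ⟨z, hzZ, fun h => hz1 (Subtype.ext h), fun w hw => ?_⟩
    by_cases hw1 : w = 1
    · exact Or.inl hw1
    · right
      have := hzu ⟨w, hw⟩ (fun h => hw1 (by simpa using congrArg Subtype.val h))
      simpa using congrArg Subtype.val this
  have hzz : ∀ ζ ∈ Z, ζ * ζ = 1 := by
    intro ζ hζ
    have h0 : (⟨ζ, hζ⟩ : ↥Z) ^ Nat.card ↥Z = 1 := pow_card_eq_one'
    rw [hZ2] at h0
    have := congrArg Subtype.val h0
    simpa [sq] using this
  have hzc : ∀ ζ ∈ Z, ∀ g : S, g * ζ = ζ * g := fun ζ hζ g => Subgroup.mem_center_iff.mp hζ g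
  -- the quotient
  let π : S →* S ⧸ Z := QuotientGroup.mk' Z
  have hπ1 : ∀ g : S, π g = 1 ↔ g ∈ Z := fun g => QuotientGroup.eq_one_iff g
  have hxb : orderOf (π x) = 2 := by
    apply orderOf_eq_prime
    · rw [← map_pow, sq, hx2, map_one]
    · rw [Ne, hπ1]; exact hxZ
  have hcardQ : Nat.card (S ⧸ Z) * 2 = Nat.card S := by
    rw [← hZ2]; exact (Subgroup.card_eq_card_quotient_mul_card_subgroup Z).symm
  have hQ4 : 4 ≤ Nat.card (S ⧸ Z) := by omega
  have hQ : IsPGroup 2 (S ⧸ Z) := hS.to_quotient Z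
  set Cb := Subgroup.centralizer ({π x} : Set (S ⧸ Z)) with hCbdef
  set N := Cb.comap π with hNdef
  have hcardN : Nat.card ↥N = Nat.card ↥Cb * 2 := by
    rw [hNdef, Cfsg.Agent.Lib.Helper1.card_comap_mk, hZ2]
  have hCN : C ≤ N := by
    intro y hy
    rw [hNdef, Subgroup.mem_comap, hCbdef, mem_centralizer_singleton']
    rw [hCdef, mem_centralizer_singleton'] at hy
    rw [← map_mul, ← map_mul, hy]
  have hNmem : ∀ y ∈ N, y * x * y⁻¹ = x ∨ y * x * y⁻¹ = z * x := by
    intro y hy
    have hc : π y * π x = π x * π y := mem_centralizer_singleton'.mp hy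
    have h1 : y * x * y⁻¹ * x⁻¹ ∈ Z := by
      rw [← hπ1, map_mul, map_mul, map_mul, map_inv, map_inv, hc, mul_inv_cancel_right,
        mul_inv_cancel]
    rcases hzall _ h1 with h | h
    · left
      calc y * x * y⁻¹ = (y * x * y⁻¹ * x⁻¹) * x := by group
        _ = x := by rw [h, one_mul]
    · right
      calc y * x * y⁻¹ = (y * x * y⁻¹ * x⁻¹) * x := by group
        _ = z * x := by rw [h]
  have hzx : z * x ≠ x := by
    intro h
    apply hz1
    calc z = (z * x) * x⁻¹ := by group
      _ = 1 := by rw [h, mul_inv_cancel]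
  have hcardN8 : Nat.card ↥N ≤ 8 := by
    by_cases hNC : N ≤ C
    · have : N = C := le_antisymm hNC hCN
      rw [this, hC]; norm_num
    · obtain ⟨y₀, hy₀N, hy₀C⟩ := SetLike.not_le_iff_exists.mp hNC
      have hy₀ : y₀ * x * y₀⁻¹ = z * x := by
        rcases hNmem y₀ hy₀N with h | h
        · exfalso
          apply hy₀C
          rw [hCdef, mem_centralizer_singleton']
          calc y₀ * x = (y₀ * x * y₀⁻¹) * y₀ := by group
            _ = x * y₀ := by rw [h]
        · exact h
      have hidx : (C.subgroupOf N).index = 2 := by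
        rw [Subgroup.index_eq_two_iff]
        refine ⟨⟨y₀, hy₀N⟩, fun b => ?_⟩
        rw [Subgroup.mem_subgroupOf, Subgroup.mem_subgroupOf]
        have hb := hNmem b b.2
        by_cases hbC : (b : S) ∈ C
        · refine Or.inr ⟨hbC, ?_⟩
          intro h
          apply hy₀C
          have : y₀ = (b : S)⁻¹ * ((b : S) * y₀) := by group
          rw [this]
          exact Subgroup.mul_mem _ (Subgroup.inv_mem _ hbC) h
        · refine Or.inl ⟨?_, hbC⟩
          have hb' : (b : S) * x * (b : S)⁻¹ = z * x := by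
            rcases hb with h | h
            · exfalso
              apply hbC
              rw [hCdef, mem_centralizer_singleton']
              calc (b : S) * x = ((b : S) * x * (b : S)⁻¹) * (b : S) := by group
                _ = x * (b : S) := by rw [h]
            · exact h
          show (b : S) * y₀ ∈ C
          rw [hCdef, mem_centralizer_singleton']
          have e1 : (b : S) * y₀ * x = (b : S) * (y₀ * x * y₀⁻¹) * y₀ := by group
          have e2 : (b : S) * (z * x) = z * ((b : S) * x * (b : S)⁻¹) * (b : S) := by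
            rw [← mul_assoc, hzc z hzZ (b : S)]; group
          rw [e1, hy₀, e2, hb', ← mul_assoc z z x, hzz z hzZ, one_mul, mul_assoc]
      have h1 := (C.subgroupOf N).card_mul_index
      rw [hidx, Nat.card_congr (Subgroup.subgroupOfEquivOfLe hCN).toEquiv, hC] at h1
      omega
  have hCb4 : Nat.card ↥Cb = 4 := by
    have h1 := four_le_card_centralizer hQ hQ4 (π x) hxb
    rw [← hCbdef] at h1
    omega
  have hlt : Nat.card (S ⧸ Z) < n := by omega
  by_cases hq4 : Nat.card (S ⧸ Z) = 4
  · -- `|S| = 8`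
    have hS8' : Nat.card S = 8 := by omega
    by_contra hno
    push Not at hno
    have hall : ∀ a : S, a * a = 1 := by
      intro a
      have hd : orderOf a ∣ 2 ^ 3 := by
        have := orderOf_dvd_natCard a
        rw [hS8'] at this
        exact this
      obtain ⟨j, hj, hjeq⟩ := (Nat.dvd_prime_pow Nat.prime_two).mp hd
      interval_cases j
      · rw [pow_zero, orderOf_eq_one_iff] at hjeq
        rw [hjeq, one_mul]
      · rw [← sq, ← pow_one 2, ← hjeq]; exact pow_orderOf_eq_one a
      · exact absurd (by rw [hjeq, hS8']; norm_num) (hno a)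
      · exfalso
        have hcyc : IsCyclic S := isCyclic_of_orderOf_eq_card a (by rw [hjeq, hS8']; norm_num)
        apply hxZ
        rw [hZdef, Subgroup.mem_center_iff]
        intro g
        have hcm : IsMulCommutative S := IsCyclic.isMulCommutative
        exact hcm.is_comm.comm g x
    apply hxZ
    rw [hZdef, Subgroup.mem_center_iff]
    intro g
    exact comm_of_sq_eq_one hall g x
  · rcases ih _ hlt (S ⧸ Z) rfl hQ (π x) hxb hCb4 with h | ⟨ab, hab⟩
    · exact absurd h hq4
    obtain ⟨a, rfl⟩ := QuotientGroup.mk'_surjective Z ab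
    set m := orderOf (π a) with hmdef
    have hm2 : 2 * m = Nat.card (S ⧸ Z) := hab
    have hcS : Nat.card S = 4 * m := by omega
    -- `m` is a power of two, at least `4`
    obtain ⟨j, hj⟩ : ∃ j : ℕ, m = 2 ^ j := by
      have hd : m ∣ 2 ^ k := by
        rw [← hk, hcS]; exact Dvd.intro_left 4 rfl
      obtain ⟨j, -, hj⟩ := (Nat.dvd_prime_pow Nat.prime_two).mp hd
      exact ⟨j, hj⟩
    have hj2 : 2 ≤ j := by
      by_contra hlt'
      push Not at hlt'
      interval_cases j
      · rw [pow_zero] at hj; omega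
      · rw [pow_one] at hj; omega
    obtain ⟨j', rfl⟩ : ∃ j' : ℕ, j = j' + 2 := ⟨j - 2, by omega⟩
    set h := 2 ^ (j' + 1) with hhdef
    set h' := 2 ^ j' with hh'def
    have hmh : m = 2 * h := by rw [hj, hhdef]; ring
    have hhh' : h = 2 * h' := by rw [hhdef, hh'def]; ring
    have hhpos : 0 < h := by rw [hhdef]; positivity
    have ham_mem : a ^ m ∈ Z := by
      rw [← hπ1, map_pow, hmdef]; exact pow_orderOf_eq_one _
    -- key claim
    have hclaim : a ^ m ≠ 1 := by
      intro ham
      set w := a ^ h with hwdef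
      have hπw : π w ≠ 1 := by
        rw [hwdef, map_pow]
        apply pow_ne_one_of_lt_orderOf hhpos.ne'
        rw [← hmdef, hmh]; omega
      have hw1 : w ≠ 1 := by
        rintro h0
        exact hπw (by rw [h0, map_one])
      have hww : w * w = 1 := by
        rw [hwdef, ← pow_add, ← two_mul, ← hmh]; exact ham
      set A := (Subgroup.zpowers (π a)).comap π with hAdef
      have hcardA : Nat.card ↥A = m * 2 := by
        rw [hAdef, Cfsg.Agent.Lib.Helper1.card_comap_mk, hZ2, Nat.card_zpowers]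
      have hAmem : ∀ y ∈ A, ∃ i : ℤ, ∃ ζ ∈ Z, y = a ^ i * ζ := by
        intro y hy
        rw [hAdef, Subgroup.mem_comap, Subgroup.mem_zpowers_iff] at hy
        obtain ⟨i, hi⟩ := hy
        refine ⟨i, (a ^ i)⁻¹ * y, ?_, by group⟩
        rw [← hπ1, map_mul, map_inv, map_zpow, hi, inv_mul_cancel]
      have haA : a ∈ A := by
        rw [hAdef, Subgroup.mem_comap]; exact Subgroup.mem_zpowers _
      have hZA : Z ≤ A := by
        intro ζ hζ
        rw [hAdef, Subgroup.mem_comap, (hπ1 ζ).mpr hζ]
        exact Subgroup.one_mem _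
      have hxA : x ∉ A := by
        intro hxA
        obtain ⟨i, ζ, hζ, hxe⟩ := hAmem x hxA
        have hxa : x * a = a * x := by
          rw [hxe]
          have h1 : Commute (a ^ i) a := (Commute.refl a).zpow_left i
          calc a ^ i * ζ * a = a ^ i * (ζ * a) := by group
            _ = a ^ i * (a * ζ) := by rw [hzc ζ hζ a]
            _ = (a ^ i * a) * ζ := by group
            _ = (a * a ^ i) * ζ := by rw [h1.eq]
            _ = a * (a ^ i * ζ) := by group
        have hAC : A ≤ C := by
          intro y hy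
          obtain ⟨i', ζ', hζ', rfl⟩ := hAmem y hy
          rw [hCdef, mem_centralizer_singleton']
          have h1 : Commute x (a ^ i') := (show Commute x a from hxa).zpow_right i'
          calc a ^ i' * ζ' * x = a ^ i' * (ζ' * x) := by group
            _ = a ^ i' * (x * ζ') := by rw [hzc ζ' hζ' x]
            _ = (a ^ i' * x) * ζ' := by group
            _ = (x * a ^ i') * ζ' := by rw [h1.eq]
            _ = x * (a ^ i' * ζ') := by group
        have := Subgroup.card_le_of_le hAC
        rw [hcardA, hC] at this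
        omega
      -- `⟨π a⟩` is normal (index two)
      have hidx2 : (Subgroup.zpowers (π a)).index = 2 := by
        have h1 := (Subgroup.zpowers (π a)).card_mul_index
        rw [Nat.card_zpowers, ← hmdef, ← hm2] at h1
        have hmpos : 0 < m := by omega
        exact Nat.eq_of_mul_eq_mul_left hmpos (by rw [h1]; ring)
      haveI hnorm : (Subgroup.zpowers (π a)).Normal := Subgroup.normal_of_index_eq_two hidx2
      have hxaA : x * a * x⁻¹ ∈ A := by
        rw [hAdef, Subgroup.mem_comap, map_mul, map_mul, map_inv]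
        exact hnorm.conj_mem _ (Subgroup.mem_zpowers _) _
      obtain ⟨i, ζ, hζ, hxae⟩ := hAmem _ hxaA
      have hxw : x * w * x⁻¹ = w ^ i := by
        have e1 : x * w * x⁻¹ = (x * a * x⁻¹) ^ h := by rw [hwdef, conj_pow]
        have hcomm : Commute (a ^ i) ζ := (hzc ζ hζ (a ^ i))
        have hζh : ζ ^ h = 1 := by
          rw [hhh', pow_mul, sq, hzz ζ hζ, one_pow]
        rw [e1, hxae, hcomm.mul_pow, hζh, mul_one, hwdef, ← zpow_natCast, ← zpow_mul,
          mul_comm, zpow_mul, zpow_natCast]
      have hxw' : x * w * x⁻¹ = w := by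
        rcases zpow_eq_one_or_self hww i with h0 | h0
        · exfalso
          rw [h0] at hxw
          apply hw1
          calc w = x⁻¹ * (x * w * x⁻¹) * x := by group
            _ = 1 := by rw [hxw]; group
        · rw [hxw, h0]
      have hwC : w ∈ C := by
        rw [hCdef, mem_centralizer_singleton']
        calc w * x = (x * w * x⁻¹)⁻¹⁻¹ * x := by rw [inv_inv, hxw']
          _ = x * w := by
            rw [inv_inv]; group
      have hwA : w ∈ A := Subgroup.pow_mem _ haA _
      have hCAZ : C ⊓ A = Z := by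
        symm
        apply Subgroup.eq_of_le_of_card_ge (le_inf hZC hZA)
        rw [hZ2]
        have hd : Nat.card ↥(C ⊓ A : Subgroup S) ∣ 2 ^ 2 := by
          have := Subgroup.card_dvd_of_le (inf_le_left : C ⊓ A ≤ C)
          rw [hC] at this
          exact this
        obtain ⟨j'', hj'', hjeq⟩ := (Nat.dvd_prime_pow Nat.prime_two).mp hd
        have hne : Nat.card ↥(C ⊓ A : Subgroup S) ≠ 4 := by
          intro h0
          have hCA : C ⊓ A = C := Subgroup.eq_of_le_of_card_ge inf_le_left (by rw [h0, hC])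
          have hx' : x ∈ C ⊓ A := by rw [hCA]; exact hxC
          exact hxA (Subgroup.mem_inf.mp hx').2
        interval_cases j''
        · rw [hjeq]; norm_num
        · rw [hjeq]; norm_num
        · exact absurd hjeq hne
      have hwZ : w ∈ Z := hCAZ ▸ (Subgroup.mem_inf.mpr ⟨hwC, hwA⟩)
      exact hπw ((hπ1 w).mpr hwZ)
    -- `a ^ m = z`, so `a` has order `2m`
    have ham : a ^ m = z := by
      rcases hzall _ ham_mem with h0 | h0
      · exact absurd h0 hclaim
      · exact h0
    refine ⟨a, ?_⟩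
    have ho : orderOf a = 2 ^ (j' + 2 + 1) := by
      apply eq_two_pow_succ_of_dvd
      · apply orderOf_dvd_of_pow_eq_one
        rw [pow_succ, ← hj, pow_mul, ham, sq, hzz z hzZ]
      · intro hd
        rw [← hj] at hd
        exact hclaim (orderOf_dvd_iff_pow_eq_one.mp hd)
    rw [ho, hcS, hj]; ring

theorem classify [Finite S] (hS : IsPGroup 2 S) (x : S) (hx : orderOf x = 2)
    (hC : Nat.card ↥(Subgroup.centralizer ({x} : Set S)) = 4) (h4 : Nat.card S ≠ 4)
    (a : S) (ha : 2 * orderOf a = Nat.card S) :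
    (∃ n : ℕ, Nonempty (S ≃* DihedralGroup n)) ∨ Cfsg.IsQuasiDihedral S := by
  classical
  set C := Subgroup.centralizer ({x} : Set S) with hCdef
  have hxC : x ∈ C := by rw [hCdef, mem_centralizer_singleton']
  have hx1 : x ≠ 1 := by
    rintro rfl
    simp at hx
  have hx2 : x * x = 1 := by
    rw [← sq, ← hx]; exact pow_orderOf_eq_one x
  have hxinv : x⁻¹ = x := inv_eq_of_mul_eq_one_right hx2
  -- order of `a`
  obtain ⟨j, hj⟩ : ∃ j : ℕ, orderOf a = 2 ^ j := by
    obtain ⟨k, hk⟩ := IsPGroup.iff_card.mp hS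
    have hd : orderOf a ∣ 2 ^ k := by rw [← hk]; exact orderOf_dvd_natCard a
    obtain ⟨j, -, hj⟩ := (Nat.dvd_prime_pow Nat.prime_two).mp hd
    exact ⟨j, hj⟩
  have hcS : Nat.card S = 2 ^ (j + 1) := by rw [← ha, hj]; ring
  have hC4 : 4 ∣ Nat.card S := by
    rw [← hC]; exact Subgroup.card_subgroup_dvd_card C
  have hj2 : 2 ≤ j := by
    by_contra hlt
    push Not at hlt
    interval_cases j
    · rw [hcS] at hC4; norm_num at hC4
    · exact h4 (by rw [hcS]; norm_num)
  obtain ⟨j', rfl⟩ : ∃ j' : ℕ, j = j' + 2 := ⟨j - 2, by omega⟩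
  set h := 2 ^ (j' + 1) with hhdef
  have hoh : orderOf a = 2 * h := by rw [hj, hhdef]; ring
  have hhpos : 0 < h := by rw [hhdef]; positivity
  have hh2 : 2 ≤ h := by
    rw [hhdef]
    calc 2 = 2 ^ 1 := by norm_num
      _ ≤ 2 ^ (j' + 1) := Nat.pow_le_pow_right (by norm_num) (by omega)
  set A := Subgroup.zpowers a with hAdef
  have haA : a ∈ A := Subgroup.mem_zpowers a
  have hcardA : Nat.card ↥A = 2 * h := by rw [hAdef, Nat.card_zpowers, hoh]
  have hidx : A.index = 2 := by
    have h1 := A.card_mul_index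
    rw [hcardA, ← ha, hoh] at h1
    have : 0 < 2 * h := by omega
    exact Nat.eq_of_mul_eq_mul_left this (by rw [h1]; ring)
  haveI hAn : A.Normal := Subgroup.normal_of_index_eq_two hidx
  have hAcomm : ∀ u ∈ A, ∀ v ∈ A, u * v = v * u := by
    intro u hu v hv
    obtain ⟨i, rfl⟩ := Subgroup.mem_zpowers_iff.mp hu
    obtain ⟨i', rfl⟩ := Subgroup.mem_zpowers_iff.mp hv
    exact (((Commute.refl a).zpow_left i).zpow_right i').eq
  set w := a ^ h with hwdef
  have hwA : w ∈ A := Subgroup.pow_mem _ haA _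
  have hw1 : w ≠ 1 := by
    rw [hwdef]
    apply pow_ne_one_of_lt_orderOf hhpos.ne'
    rw [hoh]; omega
  have hww : w * w = 1 := by
    rw [hwdef, ← pow_add, ← two_mul, ← hoh]; exact pow_orderOf_eq_one a
  have hU : ∀ y ∈ A, y * y = 1 → y = 1 ∨ y = w := fun y hy hyy =>
    eq_one_or_eq_of_mem_zpowers hoh hy hyy
  -- conjugates of `w` are `w`
  have hwconj : ∀ g : S, g * w * g⁻¹ = w := by
    intro g
    have h1 : g * w * g⁻¹ ∈ A := hAn.conj_mem w hwA g
    have h2 : (g * w * g⁻¹) * (g * w * g⁻¹) = 1 := by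
      calc (g * w * g⁻¹) * (g * w * g⁻¹) = g * (w * w) * g⁻¹ := by group
        _ = 1 := by rw [hww]; group
    rcases hU _ h1 h2 with h0 | h0
    · exfalso
      apply hw1
      calc w = g⁻¹ * (g * w * g⁻¹) * g := by group
        _ = 1 := by rw [h0]; group
    · exact h0
  have hxA : x ∉ A := by
    intro hxA
    rcases hU x hxA hx2 with h0 | h0
    · exact hx1 h0
    · -- `x = w` is central
      have hCtop : C = ⊤ := by
        rw [eq_top_iff]
        intro g _
        rw [hCdef, mem_centralizer_singleton']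
        have := hwconj g
        rw [← h0] at this
        calc g * x = (g * x * g⁻¹) * g := by group
          _ = x * g := by rw [this]
      apply h4
      rw [← hC, hCtop, Subgroup.card_top]
  have hwC : w ∈ C := by
    rw [hCdef, mem_centralizer_singleton']
    have := hwconj x
    calc w * x = (x * w * x⁻¹) * x := by rw [this]
      _ = x * w := by group
  -- `C ⊓ A = {1, w}`
  have hCA : ∀ y ∈ C, y ∈ A → y = 1 ∨ y = w := by
    intro y hyC hyA
    have hle : Subgroup.zpowers w ≤ C ⊓ A :=
      Subgroup.zpowers_le.mpr (Subgroup.mem_inf.mpr ⟨hwC, hwA⟩)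
    have how : orderOf w = 2 := orderOf_eq_prime (by rw [sq]; exact hww) hw1
    have hd : Nat.card ↥(C ⊓ A : Subgroup S) ∣ 2 ^ 2 := by
      have := Subgroup.card_dvd_of_le (inf_le_left : C ⊓ A ≤ C)
      rw [hC] at this
      exact this
    obtain ⟨j'', hj'', hjeq⟩ := (Nat.dvd_prime_pow Nat.prime_two).mp hd
    have hne : Nat.card ↥(C ⊓ A : Subgroup S) ≠ 4 := by
      intro h0
      have hCA' : C ⊓ A = C := Subgroup.eq_of_le_of_card_ge inf_le_left (by rw [h0, hC])
      have hx' : x ∈ C ⊓ A := by rw [hCA']; exact hxC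
      exact hxA (Subgroup.mem_inf.mp hx').2
    have hle2 : Nat.card ↥(C ⊓ A : Subgroup S) ≤ 2 := by
      interval_cases j''
      · rw [hjeq]; norm_num
      · rw [hjeq]; norm_num
      · exact absurd hjeq hne
    have heq : Subgroup.zpowers w = C ⊓ A :=
      Subgroup.eq_of_le_of_card_ge hle (by rw [Nat.card_zpowers, how]; exact hle2)
    have hy : y ∈ Subgroup.zpowers w := by
      rw [heq]; exact Subgroup.mem_inf.mpr ⟨hyC, hyA⟩
    obtain ⟨i, rfl⟩ := Subgroup.mem_zpowers_iff.mp hy
    exact zpow_eq_one_or_self hww i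
  -- the conjugate of `a` by `x`
  set a' := x * a * x⁻¹ with ha'def
  have ha'A : a' ∈ A := hAn.conj_mem a haA x
  have hyfix : x * (a * a') * x⁻¹ = a * a' := by
    have e1 : x * (a * a') * x⁻¹ = (x * a * x⁻¹) * (x * a' * x⁻¹) := by group
    have e2 : x * a' * x⁻¹ = a := by
      rw [ha'def, hxinv]
      calc x * (x * a * x) * x = (x * x) * a * (x * x) := by group
        _ = a := by rw [hx2, one_mul, mul_one]
    rw [e1, e2, ← ha'def]
    exact hAcomm a' ha'A a haA
  have hyC : a * a' ∈ C := by
    rw [hCdef, mem_centralizer_singleton']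
    calc a * a' * x = (x * (a * a') * x⁻¹)⁻¹⁻¹ * x := by rw [inv_inv, hyfix]
      _ = x * (a * a') := by rw [inv_inv]; group
  have hyA : a * a' ∈ A := Subgroup.mul_mem _ haA ha'A
  have hgen : ∀ K : Subgroup S, A ≤ K → x ∈ K → K = ⊤ := by
    intro K hAK hxK
    rw [← Subgroup.card_eq_iff_eq_top]
    have hlt : Nat.card ↥A < Nat.card ↥K := by
      apply lt_of_le_of_ne (Subgroup.card_le_of_le hAK)
      intro heq
      have : A = K := Subgroup.eq_of_le_of_card_ge hAK (by rw [heq])
      exact hxA (this ▸ hxK)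
    have hd : Nat.card ↥K ∣ Nat.card S := Subgroup.card_subgroup_dvd_card K
    rw [← ha, ← hoh, ← hcardA] at *
    obtain ⟨e, he⟩ := hd
    have he1 : e = 1 := by
      rcases Nat.lt_or_ge e 2 with h0 | h0
      · interval_cases e
        · have : 0 < Nat.card ↥A := Nat.card_pos
          omega
        · rfl
      · exfalso
        have : Nat.card ↥K * 2 ≤ Nat.card ↥K * e := Nat.mul_le_mul_left _ h0
        omega
    rw [he, he1, mul_one]
  rcases hCA _ hyC hyA with hy1 | hyw
  · -- dihedral
    left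
    have ha'inv : a' = a⁻¹ := by
      calc a' = a⁻¹ * (a * a') := by group
        _ = a⁻¹ := by rw [hy1, mul_one]
    set t := x * a with htdef
    have htt : t * t = 1 := by
      rw [htdef]
      calc x * a * (x * a) = (x * a * x⁻¹) * a := by rw [hxinv]; group
        _ = 1 := by rw [← ha'def, ha'inv, inv_mul_cancel]
    have ht1 : t ≠ 1 := by
      intro h0
      apply hxA
      have : x = a⁻¹ := by
        calc x = (x * a) * a⁻¹ := by group
          _ = a⁻¹ := by rw [← htdef, h0, one_mul]
      rw [this]; exact Subgroup.inv_mem _ haA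
    have hxt : x * t = a := by
      rw [htdef, ← mul_assoc, hx2, one_mul]
    have hcl : Subgroup.closure ({x, t} : Set S) = ⊤ := by
      apply hgen
      · rw [hAdef, Subgroup.zpowers_le, ← hxt]
        exact Subgroup.mul_mem _ (Subgroup.subset_closure (Set.mem_insert _ _))
          (Subgroup.subset_closure (Set.mem_insert_of_mem _ rfl))
      · exact Subgroup.subset_closure (Set.mem_insert _ _)
    obtain ⟨e⟩ := Cfsg.Agent.Lib.Helper2.TwoInv.nonempty_mulEquiv_dihedral hx2 htt hx1 ht1
    exact ⟨orderOf (x * t), ⟨(Subgroup.topEquiv.symm.trans (MulEquiv.subgroupCongr hcl.symm)).trans e⟩⟩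
  · -- semidihedral
    right
    have ha'w : a' = a⁻¹ * w := by
      calc a' = a⁻¹ * (a * a') := by group
        _ = a⁻¹ * w := by rw [hyw]
    have hj'1 : 1 ≤ j' := by
      by_contra hlt
      push Not at hlt
      have hj0 : j' = 0 := by omega
      subst hj0
      -- `h = 2`, `w = a ^ 2`, so `a' = a`: then `a ∈ C ⊓ A`
      have hw2 : w = a * a := by rw [hwdef, hhdef]; simp [sq]
      have ha'a : a' = a := by rw [ha'w, hw2]; group
      have haC : a ∈ C := by
        rw [hCdef, mem_centralizer_singleton']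
        calc a * x = (x * a * x⁻¹)⁻¹⁻¹ * x := by rw [inv_inv, ← ha'def, ha'a]
          _ = x * a := by rw [inv_inv]; group
      rcases hCA a haC haA with h0 | h0
      · rw [h0, orderOf_one] at hoh; omega
      · rw [hw2] at h0
        have : a = 1 := by
          calc a = a⁻¹ * (a * a) := by group
            _ = 1 := by rw [← h0, inv_mul_cancel]
        rw [this, orderOf_one] at hoh; omega
    refine ⟨j' + 2, by omega, hcS, a, x, hj, hx, ?_⟩
    show x * a * x⁻¹ = a ^ (2 ^ (j' + 2 - 1) - 1)
    have e1 : j' + 2 - 1 = j' + 1 := by omega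
    rw [e1, ← hhdef, ← ha'def, ha'w, hwdef]
    have e2 : a ^ h = a ^ (h - 1 + 1) := by rw [Nat.sub_add_cancel (by omega)]
    rw [e2, pow_succ']
    group

/-- A finite 2-group with an involution whose centralizer has order 4 is dihedral, semidihedral, or of order 4. -/
theorem result {S : Type*} [Group S] [Finite S] (hS : IsPGroup 2 S)
    (x : S) (hx : orderOf x = 2) (hC : Nat.card ↥(Subgroup.centralizer ({x} : Set S)) = 4) :
    (∃ n : ℕ, Nonempty (S ≃* DihedralGroup n)) ∨ Cfsg.IsQuasiDihedral S ∨ Nat.card S = 4 := by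
  by_cases h4 : Nat.card S = 4
  · exact Or.inr (Or.inr h4)
  rcases exists_cyclic_index_two _ S rfl hS x hx hC with h | ⟨a, ha⟩
  · exact absurd h h4
  rcases classify hS x hx hC h4 a ha with h | h
  · exact Or.inl h
  · exact Or.inr (Or.inl h)

end Cfsg.Agent.S3224
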