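import Mathlib
import Cfsg.Statements.S0945
import Cfsg.Agent.Lib.Helper7.OddAut

set_option autoImplicit false
open Cfsg

namespace Cfsg.Agent.S0945

open Cfsg.Agent.Lib.Helper7

theorem zmod_two_mul_eq_zero (j : ℕ) (a : ZMod (2 ^ (j + 1))) (h : 2 * a = 0) :
    a = 0 ∨ a = ((2 ^ j : ℕ) : ZMod (2 ^ (j + 1))) := by
  have hn : NeZero (2 ^ (j + 1)) := ⟨by positivity⟩
  have ha : ((a.val : ℕ) : ZMod (2 ^ (j + 1))) = a := ZMod.natCast_zmod_val a
  have hlt : a.val < 2 ^ (j + 1) := ZMod.val_lt a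
  have h1 : ((2 * a.val : ℕ) : ZMod (2 ^ (j + 1))) = 0 := by
    push_cast
    rw [ha]; exact h
  rw [ZMod.natCast_eq_zero_iff] at h1
  have hpw : 2 ^ (j + 1) = 2 * 2 ^ j := pow_succ' 2 j
  have h1' : 2 * 2 ^ j ∣ 2 * a.val := hpw ▸ h1
  have hlt' : a.val < 2 * 2 ^ j := hpw ▸ hlt
  have h2 : 2 ^ j ∣ a.val := Nat.dvd_of_mul_dvd_mul_left (by norm_num) h1'
  obtain ⟨c, hc⟩ := h2
  have hpos : 0 < 2 ^ j := by positivity
  have hc2 : c < 2 := by
    by_contra hge
    push Not at hge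
    have : 2 ^ j * 2 ≤ 2 ^ j * c := Nat.mul_le_mul_left _ hge
    omega
  interval_cases c
  · left; rw [← ha, hc]; simp
  · right; rw [← ha, hc]; simp

theorem card_invol_le (m : ℕ) (hm : 1 ≤ m) :
    Nat.card {x : Multiplicative (ZMod (2 ^ m) × ZMod (2 ^ m)) // x ^ 2 = 1 ∧ x ≠ 1} ≤ 3 := by
  classical
  obtain ⟨j, rfl⟩ := Nat.exists_eq_succ_of_ne_zero (by omega : m ≠ 0)
  have hn : NeZero (2 ^ (j + 1)) := ⟨by positivity⟩
  set k : ZMod (2 ^ (j + 1)) := ((2 ^ j : ℕ) : ZMod (2 ^ (j + 1))) with hk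
  let F : Finset (Multiplicative (ZMod (2 ^ (j + 1)) × ZMod (2 ^ (j + 1)))) :=
    {Multiplicative.ofAdd (0, k), Multiplicative.ofAdd (k, 0), Multiplicative.ofAdd (k, k)}
  have hsub : {x : Multiplicative (ZMod (2 ^ (j + 1)) × ZMod (2 ^ (j + 1))) | x ^ 2 = 1 ∧ x ≠ 1} ⊆ (F : Set _) := by
    intro x hx
    obtain ⟨hx2, hx1⟩ := hx
    have h2 : (2 : ℕ) • (Multiplicative.toAdd x) = 0 := by
      have := congrArg Multiplicative.toAdd hx2
      simpa using this
    have ha : 2 * (Multiplicative.toAdd x).1 = 0 := by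
      have := congrArg Prod.fst h2
      simpa [two_mul] using this
    have hb : 2 * (Multiplicative.toAdd x).2 = 0 := by
      have := congrArg Prod.snd h2
      simpa [two_mul] using this
    have hx' : x = Multiplicative.ofAdd ((Multiplicative.toAdd x).1, (Multiplicative.toAdd x).2) := rfl
    rcases zmod_two_mul_eq_zero j _ ha with h1 | h1 <;>
    rcases zmod_two_mul_eq_zero j _ hb with h3 | h3
    · exfalso; apply hx1; rw [hx', h1, h3]; rfl
    · rw [hx', h1, h3]; simp [F, hk]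
    · rw [hx', h1, h3]; simp [F, hk]
    · rw [hx', h1, h3]; simp [F, hk]
  show Nat.card ↥{x : Multiplicative (ZMod (2 ^ (j + 1)) × ZMod (2 ^ (j + 1))) | x ^ 2 = 1 ∧ x ≠ 1} ≤ 3
  rw [Nat.card_coe_set_eq]
  calc Set.ncard _ ≤ Set.ncard (F : Set _) := Set.ncard_le_ncard hsub (Finset.finite_toSet F)
    _ = F.card := Set.ncard_coe_finset F
    _ ≤ 3 := Finset.card_le_three

theorem h7_main {G : Type*} [Group G] [Finite G] (P : Sylow 2 G) (m : ℕ) (hm : 1 ≤ m)
    (e : (P : Subgroup G) ≃* Multiplicative (ZMod (2 ^ m) × ZMod (2 ^ m))) (r : ℕ)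
    (hr : r = (Subgroup.centralizer ((P : Subgroup G) : Set G)).relIndex
      (Subgroup.normalizer ((P : Subgroup G) : Set G))) :
    (r = 1 ∨ r = 3) ∧ (∀ z ∈ (P : Subgroup G), z ≠ 1 →
      Subgroup.centralizer ({z} : Set G) ⊓ Subgroup.normalizer ((P : Subgroup G) : Set G) =
        Subgroup.centralizer ((P : Subgroup G) : Set G)) := by
  have hcomm : ∀ a b : (P : Subgroup G), a * b = b * a := by
    intro a b
    apply e.injective
    rw [map_mul, map_mul, mul_comm]
  have hX : Nat.card {x : (P : Subgroup G) // x ^ 2 = 1 ∧ x ≠ 1} ≤ 3 := by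
    refine le_trans (le_of_eq ?_) (card_invol_le m hm)
    refine Nat.card_congr (e.toEquiv.subtypeEquiv ?_)
    intro x
    show (x ^ 2 = 1 ∧ x ≠ 1) ↔ ((e x) ^ 2 = 1 ∧ e x ≠ 1)
    rw [← map_pow, Ne, Ne, EmbeddingLike.map_eq_one_iff, EmbeddingLike.map_eq_one_iff]
  set R : Subgroup (MulAut (P : Subgroup G)) := (Subgroup.normalizerMonoidHom (P : Subgroup G)).range
    with hRdef
  have hcardR : Nat.card R = r := by
    rw [hr, hRdef, ← Subgroup.index_ker, Subgroup.normalizerMonoidHom_ker]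
    rfl
  have hPC : (P : Subgroup G) ≤ Subgroup.centralizer ((P : Subgroup G) : Set G) := by
    rw [Subgroup.le_centralizer_iff_isMulCommutative]
    exact ⟨⟨fun a b => hcomm a b⟩⟩
  have hodd : Odd (Nat.card R) := by
    rw [hcardR, hr, ← Nat.not_even_iff_odd, even_iff_two_dvd]
    intro h
    have h1 : (Subgroup.centralizer ((P : Subgroup G) : Set G)).relIndex
      (Subgroup.normalizer ((P : Subgroup G) : Set G)) ∣ (P : Subgroup G).relIndex
      (Subgroup.normalizer ((P : Subgroup G) : Set G)) := Subgroup.relIndex_dvd_of_le_left _ hPC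
    have h3 : (P : Subgroup G).relIndex
      (Subgroup.normalizer ((P : Subgroup G) : Set G)) ∣ (P : Subgroup G).index :=
      Subgroup.relIndex_dvd_index_of_le Subgroup.le_normalizer
    have : Fact (Nat.Prime 2) := ⟨Nat.prime_two⟩
    exact P.not_dvd_index (h.trans (h1.trans h3))
  obtain ⟨h1, h2⟩ := odd_aut_group hcomm P.2 hX R hodd
  rw [hcardR] at h1
  refine ⟨h1, ?_⟩
  intro z hz hz1
  apply le_antisymm
  · intro n hn
    obtain ⟨hnz, hnN⟩ := Subgroup.mem_inf.mp hn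
    have hα : Subgroup.normalizerMonoidHom (P : Subgroup G) ⟨n, hnN⟩ ∈ R := ⟨_, rfl⟩
    have hfix : Subgroup.normalizerMonoidHom (P : Subgroup G) ⟨n, hnN⟩ ⟨z, hz⟩ = ⟨z, hz⟩ := by
      apply Subtype.ext
      rw [Subgroup.mem_centralizer_iff] at hnz
      have := hnz z rfl
      show n * z * n⁻¹ = z
      rw [← this, mul_inv_cancel_right]
    have hne : (⟨z, hz⟩ : (P : Subgroup G)) ≠ 1 := by
      intro h; exact hz1 (congrArg Subtype.val h)
    have h3 := h2 _ hα ⟨z, hz⟩ hne hfix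
    have h4 : (⟨n, hnN⟩ : Subgroup.normalizer ((P : Subgroup G) : Set G)) ∈
        (Subgroup.normalizerMonoidHom (P : Subgroup G)).ker := h3
    rw [Subgroup.normalizerMonoidHom_ker, Subgroup.mem_subgroupOf] at h4
    exact h4
  · refine le_inf ?_ ?_
    · apply Subgroup.centralizer_le
      intro x hx
      rw [Set.mem_singleton_iff] at hx
      rw [hx]; exact hz
    · exact Subgroup.centralizer_le_normalizer _

/-- Let P be a Sylow 2-subgroup of the finite group G isomorphic to Z/2^m × Z/2^m with m ≥ 1. Then (i) the index of C_G(P) in N_G(P) is 1 or 3, and (ii) if it is not 1, then for every z ≠ 1 in P, C_G(z) ∩ N_G(P) = C_G(P). -/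
theorem result {G : Type*} [Group G] [Finite G] (P : Sylow 2 G) (m : ℕ) (hm : 1 ≤ m) (e : (P : Subgroup G) ≃* Multiplicative (ZMod (2 ^ m) × ZMod (2 ^ m))) : ((Subgroup.centralizer (P : Set G)).relIndex (Subgroup.normalizer (P : Set G)) = 1 ∨ (Subgroup.centralizer (P : Set G)).relIndex (Subgroup.normalizer (P : Set G)) = 3) ∧ ((Subgroup.centralizer (P : Set G)).relIndex (Subgroup.normalizer (P : Set G)) ≠ 1 → ∀ z ∈ (P : Subgroup G), z ≠ 1 → Subgroup.centralizer ({z} : Set G) ⊓ Subgroup.normalizer (P : Set G) = Subgroup.centralizer (P : Set G)) := by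
  obtain ⟨h1, h2⟩ := h7_main P m hm e _ rfl
  exact ⟨h1, fun _ => h2⟩

end Cfsg.Agent.S0945
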