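import Mathlib
import Cfsg.Statements.S0925
import Cfsg.Agent.Lib.Helper24.BlockOrtho
import Cfsg.Agent.Lib.Helper7.PPart

set_option autoImplicit false
open scoped ComplexConjugate
open Cfsg

namespace Cfsg.Agent.S0925

open Cfsg.Agent.Lib.Helper7 Cfsg.Agent.Lib.Helper24 Cfsg.Agent.Lib.Helper2

theorem ortho_of_not_conj {G : Type*} [Group G] [Fintype G] (p : ℕ) [Fact p.Prime]
    (M : Ideal Cfsg.AlgInt) (hM : Cfsg.IsPModular p M) (g h x y : G)
    (hx : Cfsg.IsPPart p g x) (hy : Cfsg.IsPPart p h y) (hne : ¬ IsConj x y)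
    (B : Set (Cfsg.IrrCharacter G)) (hB : Cfsg.IsPBlock M B) :
    ∑ᶠ χ ∈ B, (χ : G → ℂ) g * (χ : G → ℂ) h⁻¹ = 0 := by
  have h1 := block_orthogonality hM B hB g h (fun c k hk => by
    by_contra hpk
    exact hne (isConj_of_pow_conj p hx hy hpk hk).symm)
  rw [← h1]
  apply finsum_mem_congr rfl
  intro χ _
  rw [IrrCharacter.apply_inv]

/-- (i) Let ϑ be a class function on the finite group G and x a p-element, and suppose ϑ vanishes at every element whose p-part is conjugate to x. Then for every block B (relative to a maximal ideal M of the algebraic integers containing p) the B-part of ϑ — the sum over χ ∈ B of the inner product of ϑ with χ, times χ — also vanishes at every such element. (ii) Block orthogonality, its corollary: if the p-parts of g and h are not conjugate, then the sum over χ ∈ B of χ g * χ h⁻¹ is zero for every block B. -/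
theorem result {G : Type*} [Group G] [Finite G] (p : ℕ) [Fact p.Prime] (M : Ideal Cfsg.AlgInt) (hM : Cfsg.IsPModular p M) : (∀ (ϑ : G → ℂ), Cfsg.IsClassFunction G ϑ → ∀ x : G, (∃ k : ℕ, orderOf x = p ^ k) → (∀ u z : G, Cfsg.IsPPart p u z → IsConj x z → ϑ u = 0) → ∀ B : Set (Cfsg.IrrCharacter G), Cfsg.IsPBlock M B → ∀ u z : G, Cfsg.IsPPart p u z → IsConj x z → Cfsg.blockPart B ϑ u = 0) ∧ (∀ g h x y : G, Cfsg.IsPPart p g x → Cfsg.IsPPart p h y → ¬ IsConj x y → ∀ B : Set (Cfsg.IrrCharacter G), Cfsg.IsPBlock M B → ∑ᶠ χ ∈ B, (χ : G → ℂ) g * (χ : G → ℂ) h⁻¹ = 0) := by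
  classical
  letI : Fintype G := Fintype.ofFinite G
  haveI : Fintype (Cfsg.IrrCharacter G) := Fintype.ofFinite _
  refine ⟨?_, fun g h x y hx hy hne B hB => ortho_of_not_conj p M hM g h x y hx hy hne B hB⟩
  intro ϑ _ x _ hvan B hB u z hu hxz
  have hbp : Cfsg.blockPart B ϑ u
      = ∑ᶠ χ ∈ B, Cfsg.classInner ϑ (χ : G → ℂ) * (χ : G → ℂ) u := by
    unfold Cfsg.blockPart
    congr!
  rw [hbp, finsum_mem_eq_sum_ite]
  have h1 : ∀ χ : Cfsg.IrrCharacter G,
      (if χ ∈ B then Cfsg.classInner ϑ (χ : G → ℂ) * (χ : G → ℂ) u else 0)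
      = (Nat.card G : ℂ)⁻¹ * ∑ g : G, ϑ g *
          (if χ ∈ B then (χ : G → ℂ) u * (χ : G → ℂ) g⁻¹ else 0) := by
    intro χ
    by_cases hχ : χ ∈ B
    · simp only [if_pos hχ]
      unfold Cfsg.classInner
      rw [mul_assoc, Finset.sum_mul]
      congr 1
      apply Finset.sum_congr rfl
      intro g _
      rw [IrrCharacter.apply_inv]
      ring
    · simp only [if_neg hχ]
      simp
  rw [Finset.sum_congr rfl (fun χ _ => h1 χ), ← Finset.mul_sum, Finset.sum_comm]
  have h2 : ∀ g : G, ∑ χ : Cfsg.IrrCharacter G, ϑ g *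
      (if χ ∈ B then (χ : G → ℂ) u * (χ : G → ℂ) g⁻¹ else 0) = 0 := by
    intro g
    rw [← Finset.mul_sum]
    obtain ⟨w, hw⟩ := exists_isPPart p g (isOfFinOrder_of_finite g)
    by_cases hc : IsConj x w
    · rw [hvan g w hw hc, zero_mul]
    · have hzw : ¬ IsConj z w := fun h => hc (hxz.trans h)
      have := ortho_of_not_conj p M hM u g z w hu hw hzw B hB
      rw [finsum_mem_eq_sum_ite] at this
      rw [this, mul_zero]
  rw [Finset.sum_congr rfl (fun g _ => h2 g)]
  simp

end Cfsg.Agent.S0925
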