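import Mathlib
import Cfsg.Statements.S4682
import Cfsg.Agent.Lib.Helper24.AbelianPairs

set_option autoImplicit false
open Cfsg
open Cfsg.Agent.Lib.Helper2 Cfsg.Agent.Lib.Helper7 Cfsg.Agent.Lib.Helper24

namespace Cfsg.Agent.S4682

theorem relIndex_sup_of_le_normalizer {G : Type*} [Group G] (A C : Subgroup G)
    (hA : A ≤ Subgroup.normalizer (C : Set G)) : C.relIndex (A ⊔ C) = C.relIndex A := by
  have hC : C ≤ Subgroup.normalizer (C : Set G) := Subgroup.le_normalizer
  have hAC : A ⊔ C ≤ Subgroup.normalizer (C : Set G) := sup_le hA hC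
  rw [← Subgroup.relIndex_subgroupOf hAC, ← Subgroup.relIndex_subgroupOf hA,
    Subgroup.subgroupOf_sup hA hC]
  exact Subgroup.relIndex_sup_right _ _

/-- Fix a prime p and a maximal ideal M of the algebraic integers containing p, a p-block B of the finite group G with maximal Brauer pair (P, e), P abelian, and a Brauer pair (Q, f) ≤ (P, e). Let T_Q be the stabilizer of f in N_G(Q) and T_P the stabilizer of e in N_G(P). Then every element of T_Q is a product of an element of T_P and an element of C_G(Q); and the index of C_G(Q) in T_Q equals the index of T_P ∩ C_G(Q) in T_P ∩ N_G(Q). -/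
theorem result {G : Type*} [Group G] [Fintype G] (p : ℕ) [Fact p.Prime] (M : Ideal Cfsg.AlgInt) (hM : Cfsg.IsPModular p M) (B : Set (Cfsg.IrrCharacter G)) (P : Subgroup G) (e : Set (Cfsg.IrrCharacter (Subgroup.centralizer (P : Set G)))) (hmax : Cfsg.IsMaximalBrauerPair p M B P e) (hab : ∀ x ∈ P, ∀ y ∈ P, x * y = y * x) (Q : Subgroup G) (f : Set (Cfsg.IrrCharacter (Subgroup.centralizer (Q : Set G)))) (hQP : Q ≤ P) (hf : Cfsg.IsPBlock M f) (hle : Cfsg.SubpairLE p M Q f P e) (TQ : Subgroup G) (hTQ : ∀ y : G, y ∈ TQ ↔ y ∈ Subgroup.normalizer (Q : Set G) ∧ Cfsg.StabilizesBlock (Subgroup.centralizer (Q : Set G)) f y) (TP : Subgroup G) (hTP : ∀ y : G, y ∈ TP ↔ y ∈ Subgroup.normalizer (P : Set G) ∧ Cfsg.StabilizesBlock (Subgroup.centralizer (P : Set G)) e y) : (∀ x ∈ TQ, ∃ y ∈ TP, ∃ c ∈ Subgroup.centralizer (Q : Set G), x = y * c) ∧ ((Subgroup.centralizer (Q : Set G)).subgroupOf TQ).index = ((TP ⊓ Subgroup.centralizer (Q : Set G)).subgroupOf (TP ⊓ Subgroup.normalizer (Q : Set G))).index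 := by
  obtain rfl : TQ = stabSubgroup Q f := by
    ext y
    rw [hTQ, mem_stabSubgroup]
  obtain rfl : TP = stabSubgroup P e := by
    ext y
    rw [hTP, mem_stabSubgroup]
  have part1 : ∀ x ∈ stabSubgroup Q f, ∃ y ∈ stabSubgroup P e,
      ∃ c ∈ Subgroup.centralizer (Q : Set G), x = y * c :=
    fun x hx => exists_mul_of_mem_stabSubgroup hM B P e hmax hab Q f hQP hf hle x hx
  refine ⟨part1, ?_⟩
  have hCN : Subgroup.centralizer (Q : Set G) ≤ Subgroup.normalizer (Q : Set G) :=
    Subgroup.centralizer_le_normalizer _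
  have hCT : Subgroup.centralizer (Q : Set G) ≤ stabSubgroup Q f := centralizer_le_stabSubgroup Q f
  have hTN : stabSubgroup Q f ≤ Subgroup.normalizer (Q : Set G) := stabSubgroup_le_normalizer Q f
  have hAT : stabSubgroup P e ⊓ Subgroup.normalizer (Q : Set G) ≤ stabSubgroup Q f := by
    intro y hy
    obtain ⟨hy1, hy2⟩ := Subgroup.mem_inf.mp hy
    exact mem_stabSubgroup_of_subpairLE hM P Q e f hmax.1.1 hQP hle y hy1 hy2
  have hT : stabSubgroup Q f
      = (stabSubgroup P e ⊓ Subgroup.normalizer (Q : Set G)) ⊔ Subgroup.centralizer (Q : Set G) := by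
    apply le_antisymm
    · intro x hx
      obtain ⟨y, hy, c, hc, rfl⟩ := part1 x hx
      have hyT : y ∈ stabSubgroup Q f := by
        have h1 : y = (y * c) * c⁻¹ := by group
        rw [h1]
        exact Subgroup.mul_mem _ hx (Subgroup.inv_mem _ (hCT hc))
      exact Subgroup.mul_mem _
        (Subgroup.mem_sup_left (Subgroup.mem_inf.mpr ⟨hy, hTN hyT⟩))
        (Subgroup.mem_sup_right hc)
    · exact sup_le hAT hCT
  have hAnorm : stabSubgroup P e ⊓ Subgroup.normalizer (Q : Set G)
      ≤ Subgroup.normalizer ((Subgroup.centralizer (Q : Set G) : Subgroup G) : Set G) :=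
    inf_le_right.trans (normalizer_le_normalizer_centralizer Q)
  show (Subgroup.centralizer (Q : Set G)).relIndex (stabSubgroup Q f)
    = (stabSubgroup P e ⊓ Subgroup.centralizer (Q : Set G)).relIndex
        (stabSubgroup P e ⊓ Subgroup.normalizer (Q : Set G))
  have h2 : stabSubgroup P e ⊓ Subgroup.centralizer (Q : Set G)
      = Subgroup.centralizer (Q : Set G) ⊓ (stabSubgroup P e ⊓ Subgroup.normalizer (Q : Set G)) := by
    apply le_antisymm
    · intro x hx
      obtain ⟨h1, h2⟩ := Subgroup.mem_inf.mp hx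
      exact Subgroup.mem_inf.mpr ⟨h2, Subgroup.mem_inf.mpr ⟨h1, hCN h2⟩⟩
    · intro x hx
      obtain ⟨h1, h2⟩ := Subgroup.mem_inf.mp hx
      exact Subgroup.mem_inf.mpr ⟨(Subgroup.mem_inf.mp h2).1, h1⟩
  rw [h2, Subgroup.inf_relIndex_right]
  conv_lhs => rw [hT]
  exact relIndex_sup_of_le_normalizer _ _ hAnorm

end Cfsg.Agent.S4682
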