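import Mathlib
import Cfsg.Statements.S0873
import Cfsg.Agent.Lib.Helper7.LinearChar

set_option autoImplicit false
open Cfsg

namespace Cfsg.Agent.S0873

open Cfsg.Agent.Lib.Helper7

/-- conjugation action of `P` on a fibre of an invariant function on the normal subgroup `C` -/
@[reducible] def fiberAction {G : Type*} [Group G] (C P : Subgroup G) [hC : C.Normal] (lam : C → ℂ)
    (hinv : ∀ (g : G) (c : C), lam ⟨g * c * g⁻¹, hC.conj_mem (c : G) c.2 g⟩ = lam c) (z : ℂ) :
    MulAction P {d : C // lam d = z} where
  smul x d := ⟨⟨x * d.1 * (x : G)⁻¹, hC.conj_mem _ d.1.2 x⟩, by rw [hinv]; exact d.2⟩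
  one_smul d := by
    apply Subtype.ext; apply Subtype.ext
    show ((1 : P) : G) * d.1 * ((1 : P) : G)⁻¹ = d.1
    simp
  mul_smul x y d := by
    apply Subtype.ext; apply Subtype.ext
    show ((x * y : P) : G) * d.1 * ((x * y : P) : G)⁻¹ = (x : G) * ((y : G) * d.1 * (y : G)⁻¹) * (x : G)⁻¹
    simp [mul_assoc]

/-- Let C be a normal subgroup of the finite group G of order prime to p and P a p-subgroup with C ⊔ P = G. Let λ be a character of C of degree 1 invariant under conjugation by G and equal to 1 at every element of C centralized by P. Then λ is identically 1. -/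
theorem result {G : Type*} [Group G] [Finite G] (p : ℕ) [Fact p.Prime] (C P : Subgroup G) [hC : C.Normal] (hP : IsPGroup p P) (hcop : Nat.Coprime (Nat.card C) p) (hCP : C ⊔ P = ⊤) (lam : C → ℂ) (hlam : Cfsg.IsCharacter C lam ∧ lam 1 = 1) (hinv : ∀ (g : G) (c : C), lam ⟨g * c * g⁻¹, hC.conj_mem (c : G) c.2 g⟩ = lam c) (hker : ∀ c : C, (c : G) ∈ Subgroup.centralizer (P : Set G) → lam c = 1) : lam = fun _ => 1 := by
  classical
  have hp : p.Prime := Fact.out
  funext c
  let _ := fiberAction C P lam hinv (lam c)
  have hsmul : ∀ (x : P) (d : {d : C // lam d = lam c}), (((x • d : {d : C // lam d = lam c}) : C) : G) = x * d.1 * (x : G)⁻¹ := fun _ _ => rfl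
  have hmod := hP.card_modEq_card_fixedPoints {d : C // lam d = lam c}
  -- the fibre has the cardinality of the kernel
  let f := linearCharHom hlam.1 hlam.2
  have hf : ∀ d : C, f d = lam d := fun _ => rfl
  have hcard : Nat.card {d : C // lam d = lam c} = Nat.card f.ker := by
    apply Nat.card_congr
    refine
      { toFun := fun d => ⟨c⁻¹ * d.1, ?_⟩
        invFun := fun k => ⟨c * k.1, ?_⟩
        left_inv := fun d => Subtype.ext (by simp)
        right_inv := fun k => Subtype.ext (by simp) }
    · rw [MonoidHom.mem_ker, hf, linear_char_mul hlam.1 hlam.2, linear_char_inv hlam.1 hlam.2, d.2]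
      exact inv_mul_cancel₀ (linear_char_ne_zero hlam.1 hlam.2 c)
    · have := k.2
      rw [MonoidHom.mem_ker, hf] at this
      rw [linear_char_mul hlam.1 hlam.2, this, mul_one]
  have hdvd : Nat.card {d : C // lam d = lam c} ∣ Nat.card C := by
    rw [hcard]; exact Subgroup.card_subgroup_dvd_card _
  have hnot : ¬ p ∣ Nat.card {d : C // lam d = lam c} := by
    intro h
    have h2 : p ∣ Nat.card C := h.trans hdvd
    have := Nat.Coprime.eq_one_of_dvd hcop.symm h2
    exact hp.one_lt.ne' this
  have hne : Nonempty (MulAction.fixedPoints P {d : C // lam d = lam c}) := by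
    by_contra hempty
    rw [not_nonempty_iff] at hempty
    have h0 : Nat.card (MulAction.fixedPoints P {d : C // lam d = lam c}) = 0 := Nat.card_of_isEmpty
    rw [h0] at hmod
    exact hnot ((Nat.modEq_zero_iff_dvd).mp hmod)
  obtain ⟨⟨d, hd⟩⟩ := hne
  rw [MulAction.mem_fixedPoints] at hd
  rw [← d.2]
  apply hker
  rw [Subgroup.mem_centralizer_iff]
  intro x hx
  have := congrArg (fun e : {d : C // lam d = lam c} => ((e : C) : G)) (hd ⟨x, hx⟩)
  simp only [hsmul] at this
  calc x * (d.1 : G) = (x * d.1 * x⁻¹) * x := by group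
    _ = d.1 * x := by rw [this]

end Cfsg.Agent.S0873
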