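import Mathlib
import Cfsg.Statements.S0870
import Cfsg.Agent.Lib.Helper7.PermChar

set_option autoImplicit false
open Cfsg

namespace Cfsg.Agent.S0870

open Cfsg.Agent.Lib.Helper7 MulAction

/-- The subgroup `H ∩ Stab_G(q)`. -/
def stabIn {G : Type*} [Group G] (H K : Subgroup G) (q : G ⧸ K) : Subgroup G :=
  H ⊓ MulAction.stabilizer G q

theorem stabIn_smul {G : Type*} [Group G] (H K : Subgroup G) (q : G ⧸ K) (h : G) (hh : h ∈ H) :
    stabIn H K (h • q) = (stabIn H K q).map (MulAut.conj h).toMonoidHom := by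
  unfold stabIn
  rw [Subgroup.map_inf _ _ _ (MulAut.conj h).injective, ← stabilizer_smul_eq_stabilizer_map_conj]
  congr 1
  ext x
  simp only [Subgroup.mem_map, MulEquiv.coe_toMonoidHom, MulAut.conj_apply]
  constructor
  · intro hx
    exact ⟨h⁻¹ * x * h, H.mul_mem (H.mul_mem (H.inv_mem hh) hx) hh, by group⟩
  · rintro ⟨y, hy, rfl⟩
    exact H.mul_mem (H.mul_mem hh hy) (H.inv_mem hh)

/-- (A'') -/
theorem count_mul_fixed {G : Type*} [Group G] [Fintype G] (H K : Subgroup G) [Fintype (G ⧸ K)]
    (g : G) :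
    conjCount H g * Nat.card {q : G ⧸ K // g • q = q} =
      ∑ q : G ⧸ K, conjCount (stabIn H K q) g := by
  classical
  unfold conjCount
  rw [← Nat.card_sigma, ← Nat.card_prod]
  apply Nat.card_congr
  refine
    { toFun := fun c => ⟨c.1.1⁻¹ • c.2.1, ⟨c.1.1, ?_⟩⟩
      invFun := fun d => (⟨d.2.1, d.2.2.1⟩, ⟨d.2.1 • d.1, ?_⟩)
      left_inv := fun c => ?_
      right_inv := fun d => ?_ }
  · obtain ⟨⟨x, hx⟩, ⟨q, hq⟩⟩ := c
    refine ⟨hx, ?_⟩
    show (x⁻¹ * g * x) • x⁻¹ • q = x⁻¹ • q
    rw [smul_smul, mul_assoc, mul_assoc, mul_inv_cancel, mul_one, mul_smul, hq]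
  · obtain ⟨q, ⟨x, hx⟩⟩ := d
    have h2 : (x⁻¹ * g * x) • q = q := hx.2
    show g • x • q = x • q
    calc g • x • q = x • ((x⁻¹ * g * x) • q) := by
          simp only [smul_smul]
          congr 1
          group
      _ = x • q := by rw [h2]
  · obtain ⟨⟨x, hx⟩, ⟨q, hq⟩⟩ := c
    simp
  · obtain ⟨q, ⟨x, hx⟩⟩ := d
    apply Sigma.subtype_ext
    · simp
    · rfl

/-- Sum of an `H`-invariant function over `G ⧸ K`. -/
theorem sum_orbits {G : Type*} [Group G] [Fintype G] (H K : Subgroup G) [Fintype (G ⧸ K)]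
    [Fintype (orbitRel.Quotient H (G ⧸ K))] (f : G ⧸ K → ℕ)
    (hf : ∀ (h : H) (q : G ⧸ K), f (h • q) = f q) :
    ∑ q : G ⧸ K, f q =
      ∑ ω : orbitRel.Quotient H (G ⧸ K), Nat.card (orbit H ω.out) * f ω.out := by
  classical
  rw [← Fintype.sum_fiberwise (fun q : G ⧸ K => (Quotient.mk'' q : orbitRel.Quotient H (G ⧸ K)))]
  apply Finset.sum_congr rfl
  intro ω _
  have hconst : ∀ q : {q : G ⧸ K // (Quotient.mk'' q : orbitRel.Quotient H (G ⧸ K)) = ω},
      f q.1 = f ω.out := by
    rintro ⟨q, hq⟩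
    have : q ∈ orbit H ω.out := by
      rw [← orbitRel_apply]
      apply Quotient.exact'
      rw [hq]
      exact (Quotient.out_eq' ω).symm
    obtain ⟨h, rfl⟩ := this
    exact hf h _
  rw [Finset.sum_congr rfl (fun q _ => hconst q), Finset.sum_const, Finset.card_univ, smul_eq_mul]
  congr 1
  rw [← Nat.card_eq_fintype_card]
  apply Nat.card_congr
  refine Equiv.subtypeEquivRight (fun q => ?_)
  rw [← orbitRel_apply]
  constructor
  · intro hq
    apply Quotient.exact'
    rw [hq]
    exact (Quotient.out_eq' ω).symm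
  · intro hq
    rw [← Quotient.out_eq' ω]
    exact Quotient.sound' hq

theorem card_orbit_mul_card_stabIn {G : Type*} [Group G] [Fintype G] (H K : Subgroup G)
    (q : G ⧸ K) : Nat.card (orbit H q) * Nat.card (stabIn H K q) = Nat.card H := by
  classical
  have h1 := MulAction.card_orbit_mul_card_stabilizer_eq_card_group H q
  rw [← Nat.card_eq_fintype_card, ← Nat.card_eq_fintype_card, ← Nat.card_eq_fintype_card] at h1
  rw [← h1]
  congr 1
  have : stabIn H K q = (stabilizer H q).map H.subtype := by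
    ext x
    simp only [stabIn, Subgroup.mem_inf, Subgroup.mem_map, mem_stabilizer_iff, Subgroup.coe_subtype]
    constructor
    · rintro ⟨hx, hq⟩
      exact ⟨⟨x, hx⟩, hq, rfl⟩
    · rintro ⟨y, hy, rfl⟩
      exact ⟨y.2, hy⟩
  rw [this, Subgroup.card_map_of_injective H.subtype_injective]

/-- For subgroups H and K of a finite group G, the pointwise product of the functions induced from the constant function 1 on H and on K is a sum, over subgroups U of H with natural-number coefficients, of the functions induced from the constant function 1 on U. -/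
theorem result {G : Type*} [Group G] [Fintype G] (H K : Subgroup G) : ∃ a : Subgroup G → ℕ, (∀ U, a U ≠ 0 → U ≤ H) ∧ Cfsg.indFun H (fun _ => 1) * Cfsg.indFun K (fun _ => 1) = ∑ U : Subgroup G, (a U : ℂ) • Cfsg.indFun U (fun _ => 1) := by
  classical
  have : Fintype (G ⧸ K) := Fintype.ofFinite _
  have : Fintype (orbitRel.Quotient H (G ⧸ K)) := Fintype.ofFinite _
  let Ω := orbitRel.Quotient H (G ⧸ K)
  let V : Ω → Subgroup G := fun ω => stabIn H K ω.out
  refine ⟨fun U => Nat.card {ω : Ω // V ω = U}, ?_, ?_⟩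
  · intro U hU
    have : Nonempty {ω : Ω // V ω = U} := by
      by_contra h
      rw [not_nonempty_iff] at h
      exact hU Nat.card_of_isEmpty
    obtain ⟨ω, hω⟩ := this
    rw [← hω]
    exact inf_le_left
  · -- right-hand side as a sum over orbits
    have hrhs : ∑ U : Subgroup G, ((Nat.card {ω : Ω // V ω = U} : ℕ) : ℂ) • indFun U (fun _ => (1 : ℂ)) =
        ∑ ω : Ω, indFun (V ω) (fun _ => (1 : ℂ)) := by
      have h1 : ∀ U : Subgroup G, ((Nat.card {ω : Ω // V ω = U} : ℕ) : ℂ) • indFun U (fun _ => (1 : ℂ)) =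
          ∑ ω : Ω, if V ω = U then indFun (V ω) (fun _ => (1 : ℂ)) else 0 := by
        intro U
        rw [Finset.sum_ite, Finset.sum_const_zero, add_zero]
        rw [Finset.sum_congr rfl (fun ω hω => by rw [(Finset.mem_filter.mp hω).2]),
          Finset.sum_const, Nat.card_eq_fintype_card, Fintype.card_subtype]
        rw [← Nat.cast_smul_eq_nsmul ℂ]
      simp_rw [h1]
      rw [Finset.sum_comm]
      apply Finset.sum_congr rfl
      intro ω _
      rw [Finset.sum_ite_eq]
      simp
    rw [hrhs]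
    funext g
    rw [Pi.mul_apply, Finset.sum_apply, indFun_one_apply, indFun_one_apply,
      conjCount_eq_card_mul_fixed K g]
    simp_rw [indFun_one_apply]
    have hHpos : (Nat.card H : ℂ) ≠ 0 := by
      have : 0 < Nat.card H := Nat.card_pos
      exact_mod_cast this.ne'
    have hKpos : (Nat.card K : ℂ) ≠ 0 := by
      have : 0 < Nat.card K := Nat.card_pos
      exact_mod_cast this.ne'
    have hkey : conjCount H g * Nat.card {q : G ⧸ K // g • q = q} =
        ∑ ω : Ω, Nat.card (orbit H ω.out) * conjCount (V ω) g := by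
      rw [count_mul_fixed, sum_orbits H K (fun q => conjCount (stabIn H K q) g)]
      intro h q
      show conjCount (stabIn H K ((h : G) • q)) g = _
      rw [stabIn_smul H K q h h.2, conjCount_conj]
    have hkeyC : (conjCount H g : ℂ) * (Nat.card {q : G ⧸ K // g • q = q} : ℂ) =
        ∑ ω : Ω, (Nat.card (orbit H ω.out) : ℂ) * (conjCount (V ω) g : ℂ) := by
      exact_mod_cast hkey
    have hVpos : ∀ ω : Ω, (Nat.card (V ω) : ℂ) ≠ 0 := by
      intro ω
      have : 0 < Nat.card (V ω) := Nat.card_pos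
      exact_mod_cast this.ne'
    have horb : ∀ ω : Ω, (Nat.card (orbit H ω.out) : ℂ) = (Nat.card H : ℂ) / (Nat.card (V ω) : ℂ) := by
      intro ω
      rw [eq_div_iff (hVpos ω)]
      exact_mod_cast card_orbit_mul_card_stabIn H K ω.out
    calc (conjCount H g : ℂ) / (Nat.card H : ℂ) *
          (((Nat.card {q : G ⧸ K // g • q = q} * Nat.card K : ℕ) : ℂ) / (Nat.card K : ℂ))
        = ((conjCount H g : ℂ) * (Nat.card {q : G ⧸ K // g • q = q} : ℂ)) / (Nat.card H : ℂ) := by
          push_cast
          field_simp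
      _ = (∑ ω : Ω, (Nat.card (orbit H ω.out) : ℂ) * (conjCount (V ω) g : ℂ)) / (Nat.card H : ℂ) := by
          rw [hkeyC]
      _ = ∑ ω : Ω, (conjCount (V ω) g : ℂ) / (Nat.card (V ω) : ℂ) := by
          rw [Finset.sum_div]
          apply Finset.sum_congr rfl
          intro ω _
          rw [horb ω]
          have := hVpos ω
          field_simp

end Cfsg.Agent.S0870
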