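import Mathlib
import Cfsg.Statements.S0872
import Cfsg.Agent.Lib.Helper7.QuasiElem2
import Cfsg.Agent.S0870

set_option autoImplicit false
open Cfsg

namespace Cfsg.Agent.S0872

open Cfsg.Agent.Lib.Helper7

/-- permutation characters of quasi-elementary subgroups -/
def genSet {G : Type*} [Group G] [Fintype G] (p : ℕ) : Set (G → ℂ) :=
  {f | ∃ H : Subgroup G, IsQuasiElem p H ∧ f = indFun H (fun _ => (1 : ℂ))}

/-- their integer span -/
def spanR {G : Type*} [Group G] [Fintype G] (p : ℕ) : AddSubgroup (G → ℂ) :=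
  AddSubgroup.closure (genSet p)

theorem spanR_mul {G : Type*} [Group G] [Fintype G] {p : ℕ} (hp : p.Prime) {f g : G → ℂ}
    (hf : f ∈ spanR (G := G) p) (hg : g ∈ spanR (G := G) p) : f * g ∈ spanR (G := G) p := by
  unfold spanR at hf hg ⊢
  induction hf, hg using AddSubgroup.closure_induction₂ with
  | mem x y hx hy =>
    obtain ⟨H, hH, rfl⟩ := hx
    obtain ⟨K, hK, rfl⟩ := hy
    obtain ⟨a, ha, hprod⟩ := Cfsg.Agent.S0870.result H K
    rw [hprod]
    apply AddSubgroup.sum_mem
    intro U _
    by_cases hU : a U = 0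
    · rw [hU]; simp
    · have hUq : IsQuasiElem p U := hH.of_le hp (ha U hU)
      rw [Nat.cast_smul_eq_nsmul]
      apply AddSubgroup.nsmul_mem
      exact AddSubgroup.subset_closure ⟨U, hUq, rfl⟩
  | zero_left x hx => rw [zero_mul]; exact AddSubgroup.zero_mem _
  | zero_right x hx => rw [mul_zero]; exact AddSubgroup.zero_mem _
  | add_left x y z hx hy hz h1 h2 => rw [add_mul]; exact AddSubgroup.add_mem _ h1 h2
  | add_right y z x hy hz hx h1 h2 => rw [mul_add]; exact AddSubgroup.add_mem _ h1 h2
  | neg_left x y hx hy h => rw [neg_mul]; exact AddSubgroup.neg_mem _ h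
  | neg_right x y hx hy h => rw [mul_neg]; exact AddSubgroup.neg_mem _ h

theorem spanR_coeff {G : Type*} [Group G] [Fintype G] {p : ℕ} {f : G → ℂ}
    (hf : f ∈ spanR (G := G) p) : ∃ a : Subgroup G → ℤ, (∀ H, a H ≠ 0 → IsQuasiElem p H) ∧
      f = ∑ H : Subgroup G, (a H : ℂ) • indFun H (fun _ => (1 : ℂ)) := by
  classical
  unfold spanR at hf
  induction hf using AddSubgroup.closure_induction with
  | mem x hx =>
    obtain ⟨H₀, hH₀, rfl⟩ := hx
    refine ⟨Pi.single H₀ 1, ?_, ?_⟩
    · intro H hH
      by_cases h : H = H₀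
      · rw [h]; exact hH₀
      · exfalso; apply hH; simp [h]
    · rw [Finset.sum_eq_single H₀]
      · simp
      · intro H _ hne
        simp [hne]
      · intro h; exact absurd (Finset.mem_univ _) h
  | zero => exact ⟨0, fun H h => absurd rfl h, by simp⟩
  | add x y hx hy h1 h2 =>
    obtain ⟨a, ha, rfl⟩ := h1
    obtain ⟨b, hb, rfl⟩ := h2
    refine ⟨a + b, ?_, ?_⟩
    · intro H hH
      by_cases h : a H = 0
      · apply hb
        intro h'
        apply hH
        simp [h, h']
      · exact ha H h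
    · rw [← Finset.sum_add_distrib]
      apply Finset.sum_congr rfl
      intro H _
      simp [add_smul]
  | neg x hx h =>
    obtain ⟨a, ha, rfl⟩ := h
    refine ⟨-a, ?_, ?_⟩
    · intro H hH
      apply ha
      intro h'
      apply hH
      simp [h']
    · rw [← Finset.sum_neg_distrib]
      apply Finset.sum_congr rfl
      intro H _
      simp [neg_smul]

/-- For a finite group G and a prime p there are an integer m not divisible by p and a ℤ-linear combination of functions induced from the constant function 1 on subgroups H, each having a cyclic normal subgroup of order prime to p and p-power index in H, that equals the constant function m. -/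
theorem result {G : Type*} [Group G] [Fintype G] (p : ℕ) (hp : p.Prime) : ∃ (m : ℤ) (a : Subgroup G → ℤ), ¬ (p : ℤ) ∣ m ∧ (∀ H, a H ≠ 0 → (∃ C : Subgroup G, C ≤ H ∧ H ≤ Subgroup.normalizer (C : Set G) ∧ IsCyclic C ∧ Nat.Coprime (Nat.card C) p ∧ ∃ k : ℕ, C.relIndex H = p ^ k)) ∧ (fun _ : G => (m : ℂ)) = ∑ H : Subgroup G, (a H : ℂ) • Cfsg.indFun H (fun _ => 1) := by
  classical
  have : Fact p.Prime := ⟨hp⟩
  -- for each x a member of the span with value prime to p
  have hx : ∀ x : G, ∃ (f : G → ℂ) (n : ℕ), f ∈ spanR (G := G) p ∧ f x = (n : ℂ) ∧ ¬ p ∣ n := by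
    intro x
    obtain ⟨H, hH, n, hn, hpn⟩ := exists_quasiElem_not_dvd x p
    exact ⟨indFun H (fun _ => (1 : ℂ)), n, AddSubgroup.subset_closure ⟨H, hH, rfl⟩, hn, hpn⟩
  choose F n hFR hFn hpn using hx
  have key : ∀ T : Finset G, ∃ g ∈ spanR (G := G) p,
      ∏ x ∈ T, ((fun _ => (n x : ℂ)) - F x) = (fun _ => ((∏ x ∈ T, n x : ℕ) : ℂ)) - g := by
    intro T
    induction T using Finset.induction_on with
    | empty => exact ⟨0, AddSubgroup.zero_mem _, by funext y; simp⟩
    | insert a T ha ih =>
      obtain ⟨g, hg, hprod⟩ := ih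
      refine ⟨(n a : ℤ) • g + ((∏ x ∈ T, n x : ℕ) : ℤ) • F a - F a * g, ?_, ?_⟩
      · apply AddSubgroup.sub_mem
        · apply AddSubgroup.add_mem
          · exact AddSubgroup.zsmul_mem _ hg _
          · exact AddSubgroup.zsmul_mem _ (hFR a) _
        · exact spanR_mul hp (hFR a) hg
      · rw [Finset.prod_insert ha, hprod, Finset.prod_insert ha]
        funext y
        simp only [Pi.mul_apply, Pi.sub_apply, Pi.add_apply, Pi.smul_apply]
        simp only [zsmul_eq_mul]
        push_cast
        ring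
  obtain ⟨g, hg, hprod⟩ := key Finset.univ
  have hzero : ∏ x : G, ((fun _ => (n x : ℂ)) - F x) = 0 := by
    funext y
    rw [Finset.prod_apply]
    apply Finset.prod_eq_zero (Finset.mem_univ y)
    simp [hFn y]
  rw [hzero] at hprod
  have hgm : g = fun _ => ((∏ x : G, n x : ℕ) : ℂ) := by
    have := sub_eq_zero.mp hprod.symm
    exact this.symm
  obtain ⟨a, ha, hga⟩ := spanR_coeff hg
  refine ⟨((∏ x : G, n x : ℕ) : ℤ), a, ?_, ha, ?_⟩
  · rw [Int.natCast_dvd_natCast]
    intro hdvd
    obtain ⟨x, _, hx⟩ := (Prime.dvd_finsetProd_iff (Nat.Prime.prime hp) _).mp hdvd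
    exact hpn x hx
  · rw [← hga, hgm]
    funext y
    simp

end Cfsg.Agent.S0872
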