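import Mathlib
import Cfsg.Prelude.Def_Blocks
import Cfsg.Prelude.Def_BlockRank
import Cfsg.Agent.Lib.Helper24.BlockRegular

set_option autoImplicit false
open Cfsg

namespace Cfsg.Agent.S4667

open Cfsg.Agent.Lib.Helper24 Cfsg.Agent.Lib.Helper2
open scoped ComplexConjugate

section

variable {G : Type*} [Group G] [Fintype G]

/-- `f ↦ ⟨f, χ⟩` as a linear functional -/
noncomputable def innerLin (χ : G → ℂ) : (G → ℂ) →ₗ[ℂ] ℂ where
  toFun := fun f => Cfsg.classInner f χ
  map_add' := fun f g => classInner_add_left f g χ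
  map_smul' := fun c f => by rw [classInner_smul_left]; rfl

theorem innerLin_apply (χ f : G → ℂ) : innerLin χ f = Cfsg.classInner f χ := rfl

end

/-- Fix a prime p and a maximal ideal M of the algebraic integers containing p, and a p-block B of the finite group G. The p-regular rank of B (the number of irreducible Brauer characters in B) times the order of G equals the sum over the p-regular elements x of G of Σ_{χ ∈ B} χ(x) χ(x⁻¹) (written with the restriction of χ to p-regular elements, which vanishes at p-singular x). -/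
theorem result {G : Type*} [Group G] [Fintype G] (p : ℕ) [Fact p.Prime] (M : Ideal Cfsg.AlgInt) (hM : Cfsg.IsPModular p M) (B : Set (Cfsg.IrrCharacter G)) (hB : Cfsg.IsPBlock M B) : (Nat.card G : ℂ) * (Cfsg.blockRank p B : ℂ) = ∑ x : G, ∑ᶠ χ ∈ B, Cfsg.pRegularPart p (χ : G → ℂ) x * (χ : G → ℂ) x⁻¹ := by
  classical
  haveI : Fintype (Cfsg.IrrCharacter G) := Fintype.ofFinite _
  set v : Cfsg.IrrCharacter G → (G → ℂ) := fun χ => Cfsg.pRegularPart p (χ : G → ℂ) with hv
  set W := Submodule.span ℂ (v '' B) with hW
  let T : (G → ℂ) →ₗ[ℂ] (G → ℂ) := ∑ χ : Cfsg.IrrCharacter G,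
    if χ ∈ B then (innerLin (χ : G → ℂ)).smulRight (v χ) else 0
  have hT : ∀ f : G → ℂ, T f = ∑ χ : Cfsg.IrrCharacter G,
      if χ ∈ B then Cfsg.classInner f (χ : G → ℂ) • v χ else 0 := by
    intro f
    simp only [T, LinearMap.sum_apply]
    apply Finset.sum_congr rfl; intro χ _
    split_ifs
    · rw [LinearMap.smulRight_apply, innerLin_apply]
    · rfl
  have hproj : LinearMap.IsProj W T := by
    constructor
    · intro f
      rw [hT]
      apply Submodule.sum_mem
      intro χ _
      split_ifs with hχ
      · exact Submodule.smul_mem _ _ (Submodule.subset_span ⟨χ, hχ, rfl⟩)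
      · exact Submodule.zero_mem _
    · intro w hw
      induction hw using Submodule.span_induction with
      | mem w hw =>
        obtain ⟨ψ, hψ, rfl⟩ := hw
        rw [hT]
        have h1 := pRegularPart_eq_sum_block hM B hB ψ hψ
        have h2 := congrArg (pRegLin p G) h1
        rw [pRegLin_apply, pRegularPart_pRegularPart, map_sum] at h2
        conv_rhs => rw [hv]
        simp only
        rw [h2]
        apply Finset.sum_congr rfl; intro χ _
        split_ifs
        · rw [map_smul, pRegLin_apply]
        · rw [map_zero]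
      | zero => exact map_zero T
      | add x y _ _ hx hy => rw [map_add, hx, hy]
      | smul c x _ hx => rw [map_smul, hx]
  have htr1 := hproj.trace
  have htr2 : LinearMap.trace ℂ (G → ℂ) T = ∑ χ : Cfsg.IrrCharacter G,
      if χ ∈ B then Cfsg.classInner (v χ) (χ : G → ℂ) else 0 := by
    simp only [T, map_sum]
    apply Finset.sum_congr rfl; intro χ _
    split_ifs
    · rw [LinearMap.trace_smulRight, innerLin_apply]
    · rw [map_zero]
  have hrank : (Cfsg.blockRank p B : ℂ) = ∑ χ : Cfsg.IrrCharacter G,
      if χ ∈ B then Cfsg.classInner (v χ) (χ : G → ℂ) else 0 := by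
    rw [← htr2, htr1]
    rfl
  rw [hrank, Finset.mul_sum]
  have hG : (Nat.card G : ℂ) ≠ 0 := card_ne_zero_complex
  have h3 : ∀ x : G, ∑ᶠ χ ∈ B, Cfsg.pRegularPart p (χ : G → ℂ) x * (χ : G → ℂ) x⁻¹
      = ∑ χ : Cfsg.IrrCharacter G, if χ ∈ B then v χ x * conj ((χ : G → ℂ) x) else 0 := by
    intro x
    rw [finsum_mem_eq_sum_ite]
    apply Finset.sum_congr rfl; intro χ _
    split_ifs
    · rw [IrrCharacter.apply_inv]
    · rfl
  rw [Finset.sum_congr rfl (fun x _ => h3 x), Finset.sum_comm]
  apply Finset.sum_congr rfl; intro χ _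
  split_ifs
  · rw [classInner_def, ← mul_assoc, mul_inv_cancel₀ hG, one_mul]
  · simp

end Cfsg.Agent.S4667
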