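import Mathlib
import Cfsg.Statements.S4710
import Cfsg.Agent.Lib.Helper24.Contribution
import Cfsg.Agent.Lib.Helper25.ContribMatrix
import Cfsg.Agent.Lib.Helper25.Codegree

set_option autoImplicit false
open Cfsg

namespace Cfsg.Agent.S4710

open Cfsg.Agent.Lib.Helper2 Cfsg.Agent.Lib.Helper24 Cfsg.Agent.Lib.Helper25
open scoped ComplexConjugate

section

variable {G : Type*} [Group G] [Fintype G] {p : ℕ} [Fact p.Prime] {M : Ideal Cfsg.AlgInt}

/-- the minimal `p`-valuation of the degrees in `B` -/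
noncomputable def minVal (p : ℕ) (B : Set (Cfsg.IrrCharacter G)) : ℕ :=
  sInf ((fun χ : Cfsg.IrrCharacter G => (Cfsg.charDegree (χ : G → ℂ)).factorization p) '' B)

omit [Fact p.Prime] in
theorem minVal_le (B : Set (Cfsg.IrrCharacter G)) (χ : Cfsg.IrrCharacter G) (hχ : χ ∈ B) :
    minVal p B ≤ (Cfsg.charDegree (χ : G → ℂ)).factorization p :=
  Nat.sInf_le ⟨χ, hχ, rfl⟩

omit [Fact p.Prime] in
theorem val_eq (B : Set (Cfsg.IrrCharacter G)) (χ : Cfsg.IrrCharacter G) (hχ : χ ∈ B) :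
    (Cfsg.charDegree (χ : G → ℂ)).factorization p
      = minVal p B + Cfsg.blockHeight p B (χ : G → ℂ) := by
  have := minVal_le (p := p) B χ hχ
  unfold Cfsg.blockHeight
  unfold minVal at this ⊢
  omega

theorem val_le_card (χ : Cfsg.IrrCharacter G) :
    (Cfsg.charDegree (χ : G → ℂ)).factorization p ≤ (Nat.card G).factorization p := by
  have hdvd := charDegree_dvd_card χ.2
  have hpos : Cfsg.charDegree (χ : G → ℂ) ≠ 0 := (irr_degree_pos χ.2).ne'
  exact (Nat.factorization_le_iff_dvd hpos Nat.card_pos.ne').2 hdvd p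

omit [Fact p.Prime] in
theorem exists_height_zero (B : Set (Cfsg.IrrCharacter G)) (hne : B.Nonempty) :
    ∃ χ ∈ B, Cfsg.blockHeight p B (χ : G → ℂ) = 0 := by
  have hne' : ((fun χ : Cfsg.IrrCharacter G =>
      (Cfsg.charDegree (χ : G → ℂ)).factorization p) '' B).Nonempty := hne.image _
  obtain ⟨χ, hχ, hs⟩ := Nat.sInf_mem hne'
  refine ⟨χ, hχ, ?_⟩
  unfold Cfsg.blockHeight
  simp only at hs
  rw [hs]
  exact Nat.sub_self _

omit [Fact p.Prime] in
theorem defect_eq (B : Set (Cfsg.IrrCharacter G)) :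
    Cfsg.blockDefect p B = (Nat.card G).factorization p - minVal p B := rfl

/-- a positive integer divisible by `p^n` and less than `p^a` has `n < a` -/
theorem lt_of_pow_dvd_of_lt {c : ℤ} {n a : ℕ} (hc : 0 < c) (hdvd : (p : ℤ) ^ n ∣ c)
    (hlt : c < (p : ℤ) ^ a) : n < a := by
  have hp : p.Prime := Fact.out
  have h1 : (p : ℤ) ^ n ≤ c := Int.le_of_dvd hc hdvd
  have h2 : (p : ℤ) ^ n < (p : ℤ) ^ a := lt_of_le_of_lt h1 hlt
  have h3 : p ^ n < p ^ a := by exact_mod_cast h2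
  exact (Nat.pow_lt_pow_iff_right hp.one_lt).mp h3

/-- **height bound**: a character of positive height `h` in a block of defect `d` has
`h + 2 ≤ d` -/
theorem height_add_two_le (hM : Cfsg.IsPModular p M) (B : Set (Cfsg.IrrCharacter G))
    (hB : Cfsg.IsPBlock M B) (ψ : Cfsg.IrrCharacter G) (hψ : ψ ∈ B)
    (hpos : Cfsg.blockHeight p B (ψ : G → ℂ) ≠ 0) :
    Cfsg.blockHeight p B (ψ : G → ℂ) + 2 ≤ Cfsg.blockDefect p B := by
  classical
  haveI : Fintype (Cfsg.IrrCharacter G) := Fintype.ofFinite _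
  obtain ⟨χ, hχ, h0⟩ := exists_height_zero (p := p) B ⟨ψ, hψ⟩
  have hne : ψ ≠ χ := by
    rintro rfl
    exact hpos h0
  have hc := contribN_self_pos (p := p) ψ
  have hdvd := pow_succ_dvd_contribN_of_pos_height hM B hB ψ hψ hpos ψ hψ
  have hsum := sum_contribN_sq hM B hB ψ hψ
  have hχψ := (contribN_of_height_zero hM B hB χ hχ h0 ψ hψ).1
  rw [contribN_symm] at hχψ
  have h2 := Finset.add_le_sum (f := fun ξ : Cfsg.IrrCharacter G =>
    if ξ ∈ B then contribN p ψ ξ ^ 2 else 0) (s := Finset.univ)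
    (fun ξ _ => by
      show 0 ≤ (if ξ ∈ B then contribN p ψ ξ ^ 2 else 0)
      split_ifs
      · positivity
      · exact le_rfl) (Finset.mem_univ ψ) (Finset.mem_univ χ) hne
  simp only [if_pos hψ, if_pos hχ] at h2
  rw [hsum] at h2
  have hχψ2 : 0 < contribN p ψ χ ^ 2 := by positivity
  have hlt : contribN p ψ ψ < (p : ℤ) ^ (Nat.card G).factorization p := by
    by_contra hcon
    push Not at hcon
    nlinarith
  have h3 := lt_of_pow_dvd_of_lt hc hdvd hlt
  rw [val_eq B ψ hψ] at h3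
  rw [defect_eq]
  omega

/-- a row of the contribution matrix with many entries that are nonzero multiples of `p^n` -/
theorem card_mul_le (hM : Cfsg.IsPModular p M) (B : Set (Cfsg.IrrCharacter G))
    (hB : Cfsg.IsPBlock M B) [Fintype (Cfsg.IrrCharacter G)] [DecidablePred (· ∈ B)]
    (ρ : Cfsg.IrrCharacter G) (hρ : ρ ∈ B) (S : Finset (Cfsg.IrrCharacter G))
    (hS : ∀ ξ ∈ S, ξ ∈ B) (hρS : ρ ∉ S) (n : ℕ)
    (hent : ∀ ξ ∈ S, contribN p ρ ξ ≠ 0 ∧ (p : ℤ) ^ n ∣ contribN p ρ ξ) :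
    4 * ((S.card : ℤ) * (p : ℤ) ^ (2 * n)) ≤ (p : ℤ) ^ (2 * (Nat.card G).factorization p) := by
  classical
  have hsum := sum_contribN_sq hM B hB ρ hρ
  set f : Cfsg.IrrCharacter G → ℤ := fun ξ => if ξ ∈ B then contribN p ρ ξ ^ 2 else 0 with hf
  have hfnn : ∀ ξ, 0 ≤ f ξ := by
    intro ξ
    simp only [hf]
    split_ifs
    · positivity
    · exact le_rfl
  have h1 : S.card • (p : ℤ) ^ (2 * n) ≤ ∑ ξ ∈ S, f ξ := by
    apply Finset.card_nsmul_le_sum
    intro ξ hξ
    obtain ⟨hne, hdvd⟩ := hent ξ hξ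
    simp only [hf, if_pos (hS ξ hξ)]
    obtain ⟨t, ht⟩ := hdvd
    have ht0 : t ≠ 0 := by
      rintro rfl
      rw [mul_zero] at ht
      exact hne ht
    have ht1 : 1 ≤ t ^ 2 := by
      have : 0 < t ^ 2 := by positivity
      omega
    rw [ht, mul_pow, ← pow_mul, mul_comm n 2]
    have hpp : (0 : ℤ) ≤ (p : ℤ) ^ (2 * n) := by positivity
    nlinarith
  have h2 : ∑ ξ ∈ S, f ξ ≤ ∑ ξ ∈ Finset.univ.erase ρ, f ξ := by
    apply Finset.sum_le_sum_of_subset_of_nonneg
    · intro ξ hξ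
      rw [Finset.mem_erase]
      refine ⟨?_, Finset.mem_univ _⟩
      rintro rfl
      exact hρS hξ
    · intro ξ _ _
      exact hfnn ξ
  have h3 : ∑ ξ ∈ Finset.univ.erase ρ, f ξ
      = (p : ℤ) ^ (Nat.card G).factorization p * contribN p ρ ρ - contribN p ρ ρ ^ 2 := by
    rw [← hsum, ← Finset.add_sum_erase Finset.univ f (Finset.mem_univ ρ)]
    simp only [hf, if_pos hρ]
    ring
  rw [h3] at h2
  rw [nsmul_eq_mul] at h1
  have h4 : (p : ℤ) ^ (2 * (Nat.card G).factorization p)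
      = ((p : ℤ) ^ (Nat.card G).factorization p) ^ 2 := by
    rw [← pow_mul, mul_comm]
  rw [h4]
  nlinarith [sq_nonneg ((p : ℤ) ^ (Nat.card G).factorization p - 2 * contribN p ρ ρ)]

/-- **count bound**: a block of defect `d` containing a character of positive height has
`2 k ≤ p^(2d-2)` -/
theorem two_mul_card_le (hM : Cfsg.IsPModular p M) (B : Set (Cfsg.IrrCharacter G))
    (hB : Cfsg.IsPBlock M B) (ψ : Cfsg.IrrCharacter G) (hψ : ψ ∈ B)
    (hpos : Cfsg.blockHeight p B (ψ : G → ℂ) ≠ 0) :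
    2 * Nat.card B ≤ p ^ (2 * Cfsg.blockDefect p B - 2) := by
  classical
  haveI : Fintype (Cfsg.IrrCharacter G) := Fintype.ofFinite _
  have hp : p.Prime := Fact.out
  obtain ⟨χ, hχ, h0⟩ := exists_height_zero (p := p) B ⟨ψ, hψ⟩
  have hd := height_add_two_le hM B hB ψ hψ hpos
  set m := minVal p B with hm
  set a := (Nat.card G).factorization p with ha
  rw [defect_eq] at hd ⊢
  -- the two families
  set B0 : Finset (Cfsg.IrrCharacter G) :=
    Finset.univ.filter (fun ξ => ξ ∈ B ∧ Cfsg.blockHeight p B (ξ : G → ℂ) = 0) with hB0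
  set Bp : Finset (Cfsg.IrrCharacter G) :=
    Finset.univ.filter (fun ξ => ξ ∈ B ∧ Cfsg.blockHeight p B (ξ : G → ℂ) ≠ 0) with hBp
  have hcard : Nat.card B = B0.card + Bp.card := by
    rw [Nat.card_eq_fintype_card, Fintype.card_subtype, hB0, hBp,
      ← Finset.card_union_of_disjoint]
    · congr 1
      ext ξ
      simp only [Finset.mem_filter, Finset.mem_univ, true_and, Finset.mem_union]
      tauto
    · rw [Finset.disjoint_filter]
      intro ξ _ h1 h2
      exact h2.2 h1.2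
  -- positive heights, from the row of `χ`
  have h1 := card_mul_le hM B hB χ hχ Bp
    (fun ξ hξ => ((Finset.mem_filter.mp hξ).2).1)
    (fun h => ((Finset.mem_filter.mp h).2).2 h0) (m + 1)
    (fun ξ hξ => by
      obtain ⟨hξB, hξh⟩ := (Finset.mem_filter.mp hξ).2
      refine ⟨(contribN_of_height_zero hM B hB χ hχ h0 ξ hξB).1, ?_⟩
      have hd := pow_dvd_contribN hM χ ξ
      rw [val_eq B ξ hξB] at hd
      refine dvd_trans (pow_dvd_pow _ ?_) hd
      rw [← hm]
      omega)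
  -- height zero, from the row of `ψ`
  have h2 := card_mul_le hM B hB ψ hψ B0
    (fun ξ hξ => ((Finset.mem_filter.mp hξ).2).1)
    (fun h => hpos ((Finset.mem_filter.mp h).2).2) (m + 1)
    (fun ξ hξ => by
      obtain ⟨hξB, hξh⟩ := (Finset.mem_filter.mp hξ).2
      constructor
      · rw [contribN_symm]
        exact (contribN_of_height_zero hM B hB ξ hξB hξh ψ hψ).1
      · have hd := pow_succ_dvd_contribN_of_pos_height hM B hB ψ hψ hpos ξ hξB
        rw [val_eq B ξ hξB, hξh, add_zero] at hd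
        exact hd)
  rw [← ha] at h1 h2
  have h3 : 4 * (((B0.card + Bp.card : ℕ) : ℤ) * (p : ℤ) ^ (2 * (m + 1)))
      ≤ 2 * (p : ℤ) ^ (2 * a) := by
    push_cast
    linarith
  have h4 : 2 * (B0.card + Bp.card) * p ^ (2 * (m + 1)) ≤ p ^ (2 * a) := by
    have : (2 * ((B0.card + Bp.card : ℕ) : ℤ) * (p : ℤ) ^ (2 * (m + 1))) ≤ (p : ℤ) ^ (2 * a) := by
      linarith
    exact_mod_cast this
  have h5 : 2 * a = (2 * (a - m) - 2) + 2 * (m + 1) := by omega
  rw [h5, pow_add] at h4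
  rw [hcard]
  exact Nat.le_of_mul_le_mul_right h4 (pow_pos hp.pos _)

end

/-- Let p be a prime, M a maximal ideal of the algebraic integers containing p, and B a p-block of defect d of the finite group G containing k irreducible characters. If B contains a character of positive height then 2k ≤ p^(2d − 2); and every character in B has height 0 when d ≤ 1 and height at most d − 2 when d ≥ 2. -/
theorem result {G : Type*} [Group G] [Finite G] (p : ℕ) [Fact p.Prime] (M : Ideal Cfsg.AlgInt) (hM : Cfsg.IsPModular p M) (B : Set (Cfsg.IrrCharacter G)) (hB : Cfsg.IsPBlock M B) (d : ℕ) (hd : Cfsg.blockDefect p B = d) : ((∃ χ ∈ B, 0 < Cfsg.blockHeight p B (χ : G → ℂ)) → 2 * Nat.card B ≤ p ^ (2 * d - 2)) ∧ ∀ χ ∈ B, (d ≤ 1 → Cfsg.blockHeight p B (χ : G → ℂ) = 0) ∧ (2 ≤ d → Cfsg.blockHeight p B (χ : G → ℂ) ≤ d - 2) := by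
  haveI : Fintype G := Fintype.ofFinite G
  subst hd
  refine ⟨?_, ?_⟩
  · rintro ⟨χ, hχ, hpos⟩
    exact two_mul_card_le hM B hB χ hχ hpos.ne'
  · intro χ hχ
    by_cases h0 : Cfsg.blockHeight p B (χ : G → ℂ) = 0
    · exact ⟨fun _ => h0, fun _ => by rw [h0]; exact Nat.zero_le _⟩
    · have h := height_add_two_le hM B hB χ hχ h0
      exact ⟨fun h1 => by omega, fun _ => by omega⟩

end Cfsg.Agent.S4710
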