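import Mathlib
import Cfsg.Statements.S4633
import Cfsg.Agent.Lib.Helper24.PairTools
import Cfsg.Agent.Lib.Helper24.InertialPrime
import Cfsg.Agent.Lib.Helper7.InducedBlock
import Cfsg.Agent.Lib.Helper7.CyclicAut

set_option autoImplicit false
open Cfsg
open Cfsg.Agent.Lib.Helper2 Cfsg.Agent.Lib.Helper7 Cfsg.Agent.Lib.Helper24

namespace Cfsg.Agent.S4633

/-- a block of `C_G(P)` inducing `B` forms a Brauer pair of `B` with the `p`-group `P` -/
theorem isBrauerPairOf_of_isInducedBlock_centralizer {G : Type*} [Group G] [Fintype G] (p : ℕ)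
    [Fact p.Prime] (M : Ideal Cfsg.AlgInt) (hM : Cfsg.IsPModular p M)
    (B : Set (Cfsg.IrrCharacter G)) (P : Subgroup G) (hP : IsPGroup p P)
    (c : Set (Cfsg.IrrCharacter (Subgroup.centralizer (P : Set G))))
    (hc : Cfsg.IsInducedBlock M (Subgroup.centralizer (P : Set G)) c B) :
    Cfsg.IsBrauerPairOf p M B P c := by
  classical
  haveI : Fintype (Subgroup.centralizer (P : Set G)) := Fintype.ofFinite _
  obtain ⟨hcb, hB, hcong⟩ := hc
  refine ⟨⟨hP, hcb⟩, hB, ?_⟩
  intro ξ hξ
  obtain ⟨χ, hχ⟩ := isPBlock_nonempty hM hB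
  rw [brauerOmega_eq_omega]
  have h2 := omega_restrict_sub_memLocalIdeal (Subgroup.centralizer (P : Set G)) hM
    (ξ : Subgroup.centralizer (P : Set G) → ℂ) χ (hcong ξ hξ χ hχ)
    (Cfsg.blockCoeff B) (blockCoeff_isClassFunction B)
    (fun g => blockCoeff_memLocalRing hM B hB g)
  have h3 : omega (χ : G → ℂ) (Cfsg.blockCoeff B) = 1 := by
    rw [omega_blockCoeff, if_pos hχ]
  rw [h3] at h2
  exact h2

/-- Let B be a block of the finite group G relative to a maximal ideal M of the algebraic integers containing the prime p, with a nontrivial cyclic defect group P. Let c be a block of C_G(P) inducing B and T the stabilizer of c in N_G(P) (the elements of N_G(P) conjugating c to itself); T contains C_G(P). Then T/C_G(P) is cyclic of order dividing p − 1, and it acts freely on the non-identity elements of P: an element of T fixing some non-identity element of P under conjugation lies in C_G(P). -/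
theorem result {G : Type*} [Group G] [Finite G] (p : ℕ) [Fact p.Prime] (M : Ideal Cfsg.AlgInt) (hM : Cfsg.IsPModular p M) (B : Set (Cfsg.IrrCharacter G)) (hB : Cfsg.IsPBlock M B) (P : Subgroup G) (hPD : Cfsg.IsDefectGroup p M B P) (hP1 : P ≠ ⊥) (hcyc : IsCyclic P) (c : Set (Cfsg.IrrCharacter (Subgroup.centralizer (P : Set G)))) (hc : Cfsg.IsInducedBlock M (Subgroup.centralizer (P : Set G)) c B) (T : Subgroup G) (hT : ∀ g : G, g ∈ T ↔ (g ∈ Subgroup.normalizer (P : Set G) ∧ Cfsg.StabilizesBlock (Subgroup.centralizer (P : Set G)) c g)) [hn : ((Subgroup.centralizer (P : Set G)).subgroupOf T).Normal] : IsCyclic (T ⧸ (Subgroup.centralizer (P : Set G)).subgroupOf T) ∧ (Subgroup.centralizer (P : Set G)).relIndex T ∣ p - 1 ∧ ∀ g ∈ T, ∀ x ∈ P, x ≠ 1 → g * x * g⁻¹ = x → g ∈ Subgroup.centralizer (P : Set G) := by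
  classical
  letI : Fintype G := Fintype.ofFinite G
  have hp : p.Prime := Fact.out
  obtain ⟨g₀, -, -, hcard⟩ := exists_of_isDefectGroup hPD
  have hP : IsPGroup p P := IsPGroup.of_card hcard
  have hBP := isBrauerPairOf_of_isInducedBlock_centralizer p M hM B P hP c hc
  have hmax := isMaximalBrauerPair_of_isDefectGroup hM B P c hBP hPD
  have hTeq : T = stabSubgroup P c := by
    ext g
    rw [hT, mem_stabSubgroup]
  subst hTeq
  have hTN : stabSubgroup P c ≤ Subgroup.normalizer (P : Set G) := stabSubgroup_le_normalizer P c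
  have hPC : P ≤ Subgroup.centralizer (P : Set G) := by
    haveI := hcyc
    intro u hu
    rw [Subgroup.mem_centralizer_iff]
    intro q hq
    have h1 : (⟨q, hq⟩ : P) * ⟨u, hu⟩ = ⟨u, hu⟩ * ⟨q, hq⟩ := by
      letI := IsCyclic.commGroup (α := P)
      exact mul_comm _ _
    exact congrArg Subtype.val h1
  -- the conjugation hom
  obtain ⟨φ, hφ⟩ : ∃ φ : stabSubgroup P c →* MulAut P,
      φ = P.normalizerMonoidHom.comp (Subgroup.inclusion hTN) := ⟨_, rfl⟩
  have hφapp : ∀ (t : stabSubgroup P c) (x : P), ((φ t) x : G) = (t : G) * x * (t : G)⁻¹ := by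
    intro t x
    rw [hφ]
    rfl
  have hker : φ.ker = (Subgroup.centralizer (P : Set G)).subgroupOf (stabSubgroup P c) := by
    ext t
    rw [MonoidHom.mem_ker, Subgroup.mem_subgroupOf, Subgroup.mem_centralizer_iff]
    constructor
    · intro h q hq
      have h1 := hφapp t ⟨q, hq⟩
      rw [h] at h1
      simp only [MulAut.one_apply] at h1
      have h2 : (t : G) * q = ((t : G) * q * (t : G)⁻¹) * t := by group
      rw [h2, ← h1]
    · intro h
      ext x
      rw [hφapp, MulAut.one_apply, ← h x x.2]; group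
  -- the index is prime to `p`
  have hcop : Nat.Coprime ((Subgroup.centralizer (P : Set G)).relIndex (stabSubgroup P c)) p := by
    rw [Nat.coprime_comm, hp.coprime_iff_not_dvd]
    have hPT : P ≤ stabSubgroup P c := le_stabSubgroup P c
    have hP' : IsPGroup p (P.subgroupOf (stabSubgroup P c)) :=
      hP.comap_of_injective _ (Subgroup.subtype_injective _)
    obtain ⟨S, hS⟩ := hP'.exists_le_sylow
    have hS'p : IsPGroup p ((S : Subgroup (stabSubgroup P c)).map (stabSubgroup P c).subtype) :=
      S.2.map _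
    have hPS' : P ≤ (S : Subgroup (stabSubgroup P c)).map (stabSubgroup P c).subtype := by
      intro x hx
      exact ⟨⟨x, hPT hx⟩, hS (Subgroup.mem_subgroupOf.mpr hx), rfl⟩
    have hS'T : (S : Subgroup (stabSubgroup P c)).map (stabSubgroup P c).subtype
        ≤ stabSubgroup P c := Subgroup.map_subtype_le _
    have hS'H := le_sup_centralizer_of_isMaximalBrauerPair hM B P c hmax _ hS'p hPS' hS'T
    rw [sup_of_le_right hPC] at hS'H
    have hle : (S : Subgroup (stabSubgroup P c))
        ≤ (Subgroup.centralizer (P : Set G)).subgroupOf (stabSubgroup P c) := by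
      intro s hs
      rw [Subgroup.mem_subgroupOf]
      exact hS'H ⟨s, hs, rfl⟩
    have hdvd : ((Subgroup.centralizer (P : Set G)).subgroupOf (stabSubgroup P c)).index
        ∣ (S : Subgroup (stabSubgroup P c)).index := Subgroup.index_dvd_of_le hle
    intro hpd
    exact S.not_dvd_index (dvd_trans hpd hdvd)
  -- the range of `φ`
  have hrange : Nat.card φ.range
      = (Subgroup.centralizer (P : Set G)).relIndex (stabSubgroup P c) := by
    rw [← Subgroup.index_ker, hker]
    rfl
  haveI := hcyc
  obtain ⟨h1, h2, h3⟩ := cyclicAut_structure p hP φ.range (hrange ▸ hcop)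
  refine ⟨?_, hrange ▸ h2, ?_⟩
  · have e1 : stabSubgroup P c ⧸ φ.ker ≃* φ.range := QuotientGroup.quotientKerEquivRange φ
    have e2 : stabSubgroup P c ⧸ (Subgroup.centralizer (P : Set G)).subgroupOf (stabSubgroup P c)
        ≃* stabSubgroup P c ⧸ φ.ker := QuotientGroup.quotientMulEquivOfEq hker.symm
    haveI := h1
    exact isCyclic_of_surjective (e2.trans e1).symm (MulEquiv.surjective _)
  · intro g hg x hx hx1 hfix
    have h4 := h3 (φ ⟨g, hg⟩) ⟨_, rfl⟩ ⟨x, hx⟩ (fun h => hx1 (congrArg Subtype.val h))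
      (Subtype.ext (by rw [hφapp]; exact hfix))
    have h5 : (⟨g, hg⟩ : stabSubgroup P c) ∈ φ.ker := h4
    rw [hker, Subgroup.mem_subgroupOf] at h5
    exact h5

end Cfsg.Agent.S4633
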