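import Mathlib
import Cfsg.Statements.S4683
import Cfsg.Agent.S4667
import Cfsg.Agent.S0919
import Cfsg.Agent.Lib.Helper7.SectionOrtho
import Cfsg.Agent.Lib.Helper7.InducedBlock
import Cfsg.Agent.Lib.Helper24.BlockOrtho
import Cfsg.Agent.Lib.Helper24.BrauerMap
import Cfsg.Agent.Lib.Helper24.BlockRegular
import Cfsg.Agent.Lib.Helper24.InducedDegree
import Cfsg.Agent.Lib.Helper24.Defect
import Cfsg.Agent.Lib.Helper25.CharBasic

set_option autoImplicit false
open Cfsg

namespace Cfsg.Agent.S4683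

open Cfsg.Agent.Lib.Helper2 Cfsg.Agent.Lib.Helper7 Cfsg.Agent.Lib.Helper24
open scoped ComplexConjugate

theorem sesq_expand {ι X : Type*} [Fintype ι] [Fintype X] (a : ι → X → ℂ) (w : X → ℂ) :
    ∑ i, (∑ c, a i c * w c) * conj (∑ c, a i c * w c)
      = ∑ c, ∑ c', w c * conj (w c') * ∑ i, a i c * conj (a i c') := by
  have h1 : ∀ i, (∑ c, a i c * w c) * conj (∑ c, a i c * w c)
      = ∑ c, ∑ c', w c * conj (w c') * (a i c * conj (a i c')) := by
    intro i
    rw [map_sum, Finset.sum_mul_sum]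
    apply Finset.sum_congr rfl; intro c _
    apply Finset.sum_congr rfl; intro c' _
    rw [map_mul]; ring
  rw [Finset.sum_congr rfl (fun i _ => h1 i), Finset.sum_comm]
  apply Finset.sum_congr rfl; intro c _
  rw [Finset.sum_comm]
  apply Finset.sum_congr rfl; intro c' _
  rw [Finset.mul_sum]

/-- a sesquilinear identity is preserved by linear functionals -/
theorem sesq {ι κ X : Type*} [Fintype ι] [Fintype κ] [Fintype X] (a : ι → X → ℂ)
    (b : κ → X → ℂ)
    (h : ∀ c c', ∑ i, a i c * conj (a i c') = ∑ j, b j c * conj (b j c')) (w : X → ℂ) :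
    ∑ i, (∑ c, a i c * w c) * conj (∑ c, a i c * w c)
      = ∑ j, (∑ c, b j c * w c) * conj (∑ c, b j c * w c) := by
  rw [sesq_expand a, sesq_expand b]
  simp only [h]

section

variable {K : Type*} [Group K] [Fintype K] {p : ℕ} [Fact p.Prime] {M : Ideal Cfsg.AlgInt}

/-- the block kernel -/
noncomputable def kern (e : Set (Cfsg.IrrCharacter K)) (s c : K) : ℂ :=
  ∑ᶠ ψ ∈ e, (ψ : K → ℂ) s * conj ((ψ : K → ℂ) c)

theorem kern_zero (hM : Cfsg.IsPModular p M) (e : Set (Cfsg.IrrCharacter K))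
    (he : Cfsg.IsPBlock M e) (s c : K) (hs : ¬ p ∣ orderOf s) (hc : p ∣ orderOf c) :
    kern e s c = 0 :=
  weak_block_orthogonality hM e he s c hs hc

omit [Fact p.Prime] in
theorem blockPart_eq_kern (e : Set (Cfsg.IrrCharacter K)) (φ : K → ℂ) (s : K) :
    Cfsg.blockPart e φ s = ∑ c, φ c * ((Nat.card K : ℂ)⁻¹ * kern e s c) := by
  classical
  haveI : Fintype (Cfsg.IrrCharacter K) := Fintype.ofFinite _
  rw [blockPart_apply, finsum_mem_eq_sum_ite]
  unfold kern
  simp only [finsum_mem_eq_sum_ite, classInner_def, Finset.mul_sum, Finset.sum_mul]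
  rw [Finset.sum_comm]
  apply Finset.sum_congr rfl; intro ψ _
  split_ifs
  · apply Finset.sum_congr rfl; intro c _
    ring
  · simp

theorem blockPart_regular (hM : Cfsg.IsPModular p M) (e : Set (Cfsg.IrrCharacter K))
    (he : Cfsg.IsPBlock M e) (φ : K → ℂ) (s : K) (hs : ¬ p ∣ orderOf s) :
    Cfsg.blockPart e φ s
      = ∑ c, Cfsg.pRegularPart p φ c * ((Nat.card K : ℂ)⁻¹ * kern e s c) := by
  rw [blockPart_eq_kern]
  apply Finset.sum_congr rfl; intro c _
  by_cases hc : p ∣ orderOf c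
  · rw [kern_zero hM e he s c hs hc]; simp
  · rw [pRegularPart_of_regular _ hc]

omit [Fact p.Prime] in
theorem blockPart_irr (e : Set (Cfsg.IrrCharacter K)) (ψ : Cfsg.IrrCharacter K)
    [Decidable (ψ ∈ e)] (s : K) :
    Cfsg.blockPart e (ψ : K → ℂ) s = if ψ ∈ e then (ψ : K → ℂ) s else 0 := by
  classical
  haveI : Fintype (Cfsg.IrrCharacter K) := Fintype.ofFinite _
  rw [blockPart_apply, finsum_mem_eq_sum_ite]
  rw [Finset.sum_eq_single ψ]
  · rw [classInner_irrCharacter_self, one_mul]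
    congr
  · intro ψ' _ hne
    rw [classInner_irrCharacter_ne (Ne.symm hne)]
    simp
  · intro h; exact absurd (Finset.mem_univ _) h

theorem abstract_main (hM : Cfsg.IsPModular p M) (e : Set (Cfsg.IrrCharacter K))
    (he : Cfsg.IsPBlock M e) {ι : Type*} [Fintype ι] (f : ι → K → ℂ)
    (S : Set (Cfsg.IrrCharacter K)) (heS : e ⊆ S) [Fintype (Cfsg.IrrCharacter K)]
    [DecidablePred (· ∈ S)]
    (h : ∀ c c' : K, ¬ p ∣ orderOf c → ¬ p ∣ orderOf c' →
      ∑ i, f i c * conj (f i c') = ∑ ψ : Cfsg.IrrCharacter K,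
        if ψ ∈ S then (ψ : K → ℂ) c * conj ((ψ : K → ℂ) c') else 0)
    (s : K) (hs : ¬ p ∣ orderOf s) :
    ∑ i, Cfsg.blockPart e (f i) s * conj (Cfsg.blockPart e (f i) s)
      = ∑ᶠ ψ ∈ e, (ψ : K → ℂ) s * conj ((ψ : K → ℂ) s) := by
  classical
  have h1 : ∀ i, Cfsg.blockPart e (f i) s
      = ∑ c, Cfsg.pRegularPart p (f i) c * ((Nat.card K : ℂ)⁻¹ * kern e s c) :=
    fun i => blockPart_regular hM e he (f i) s hs
  rw [Finset.sum_congr rfl (fun i _ => by rw [h1 i])]
  rw [sesq (fun i => Cfsg.pRegularPart p (f i))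
    (fun (ψ : Cfsg.IrrCharacter K) (c : K) =>
      if ψ ∈ S then Cfsg.pRegularPart p (ψ : K → ℂ) c else 0)]
  · rw [finsum_mem_eq_sum_ite]
    apply Finset.sum_congr rfl; intro ψ _
    by_cases hψS : ψ ∈ S
    · simp only [if_pos hψS]
      rw [← blockPart_regular hM e he (ψ : K → ℂ) s hs, blockPart_irr]
      split_ifs <;> simp
    · have hψe : ψ ∉ e := fun h => hψS (heS h)
      simp [hψS, hψe]
  · intro c c'
    by_cases hc : p ∣ orderOf c
    · simp [pRegularPart_of_singular _ hc]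
    by_cases hc' : p ∣ orderOf c'
    · simp [pRegularPart_of_singular _ hc']
    simp only [pRegularPart_of_regular _ hc, pRegularPart_of_regular _ hc']
    rw [h c c' hc hc']
    apply Finset.sum_congr rfl; intro ψ _
    split_ifs
    · rfl
    · simp

end

section

variable {G : Type*} [Group G] [Fintype G] {p : ℕ} [Fact p.Prime] {M : Ideal Cfsg.AlgInt}

omit [Fact p.Prime] in
theorem irr_mul_comm (χ : Cfsg.IrrCharacter G) (a b : G) :
    (χ : G → ℂ) (a * b) = (χ : G → ℂ) (b * a) := by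
  have h := IrrCharacter.isClassFunction χ (a * b) b
  rw [← h]
  congr 1
  group

omit [Fact p.Prime] in
theorem classInner_shift_inv (χ : Cfsg.IrrCharacter G) (u : G) (C : Subgroup G) [Fintype C]
    (ψ : Cfsg.IrrCharacter C) :
    Cfsg.classInner (fun c : C => (χ : G → ℂ) (u⁻¹ * c)) (ψ : C → ℂ)
      = conj (Cfsg.classInner (fun c : C => (χ : G → ℂ) (u * c)) (ψ : C → ℂ)) := by
  rw [classInner_def, classInner_def, map_mul, map_inv₀, Complex.conj_natCast, map_sum]
  congr 1
  apply Fintype.sum_equiv (Equiv.inv C)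
  intro c
  simp only [Equiv.inv_apply, map_mul, Complex.conj_conj]
  congr 1
  · rw [← Cfsg.Agent.Lib.Helper25.char_inv (Cfsg.Agent.Lib.Helper25.isCharacter_of_irr χ.2)]
    rw [irr_mul_comm]
    congr 1
    simp
  · rw [Cfsg.Agent.Lib.Helper25.char_inv (Cfsg.Agent.Lib.Helper25.isCharacter_of_irr ψ.2)]

omit [Fact p.Prime] in
theorem conj_blockPart (χ : Cfsg.IrrCharacter G) (u : G) (C : Subgroup G) [Fintype C]
    (e : Set (Cfsg.IrrCharacter C)) (s : C) :
    Cfsg.blockPart e (fun c : C => (χ : G → ℂ) (u⁻¹ * c)) s⁻¹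
      = conj (Cfsg.blockPart e (fun c : C => (χ : G → ℂ) (u * c)) s) := by
  classical
  haveI : Fintype (Cfsg.IrrCharacter C) := Fintype.ofFinite _
  rw [blockPart_apply, blockPart_apply, finsum_mem_eq_sum_ite, finsum_mem_eq_sum_ite, map_sum]
  apply Finset.sum_congr rfl; intro ψ _
  split_ifs
  · rw [map_mul, classInner_shift_inv,
      Cfsg.Agent.Lib.Helper25.char_inv (Cfsg.Agent.Lib.Helper25.isCharacter_of_irr ψ.2)]
  · simp

theorem main_aux (hM : Cfsg.IsPModular p M) (B : Set (Cfsg.IrrCharacter G)) (u : G)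
    (hu : ∃ k : ℕ, orderOf u = p ^ k)
    (e : Set (Cfsg.IrrCharacter (Subgroup.centralizer ({u} : Set G))))
    (hind : Cfsg.IsInducedBlock M (Subgroup.centralizer ({u} : Set G)) e B) :
    ∑ᶠ χ ∈ B, ∑ᶠ s : Subgroup.centralizer ({u} : Set G),
      Cfsg.pRegularPart p (Cfsg.blockPart e
          (fun c : Subgroup.centralizer ({u} : Set G) => (χ : G → ℂ) (u * c))) s
        * Cfsg.blockPart e
          (fun c : Subgroup.centralizer ({u} : Set G) => (χ : G → ℂ) (u⁻¹ * c)) s⁻¹
      = (Nat.card (Subgroup.centralizer ({u} : Set G)) : ℂ) * (Cfsg.blockRank p e : ℂ) := by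
  classical
  haveI : Fintype (Cfsg.IrrCharacter G) := Fintype.ofFinite _
  haveI : Fintype (Subgroup.centralizer ({u} : Set G)) := Fintype.ofFinite _
  haveI : Fintype (Cfsg.IrrCharacter (Subgroup.centralizer ({u} : Set G))) := Fintype.ofFinite _
  obtain ⟨he, hB, hcong⟩ := hind
  obtain ⟨S, hS⟩ : ∃ S : Set (Cfsg.IrrCharacter (Subgroup.centralizer ({u} : Set G))),
      S = {ψ : Cfsg.IrrCharacter (Subgroup.centralizer ({u} : Set G)) |
        Cfsg.IsInducedBlock M (Subgroup.centralizer ({u} : Set G))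
        (Cfsg.blockOf M (ψ : Subgroup.centralizer ({u} : Set G) → ℂ)) B} := ⟨_, rfl⟩
  have heS : e ⊆ S := by
    intro ψ hψ
    rw [hS]
    show Cfsg.IsInducedBlock M _ (Cfsg.blockOf M (ψ : Subgroup.centralizer ({u} : Set G) → ℂ)) B
    rw [← eq_blockOf_of_mem hM he hψ]
    exact ⟨he, hB, hcong⟩
  rw [Cfsg.Agent.S4667.result p M hM e he, finsum_mem_eq_sum_ite]
  conv_lhs => simp only [finsum_eq_sum_of_fintype]
  have hpush : ∀ χ : Cfsg.IrrCharacter G,
      (if χ ∈ B then ∑ s : Subgroup.centralizer ({u} : Set G),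
        Cfsg.pRegularPart p (Cfsg.blockPart e
          (fun c : Subgroup.centralizer ({u} : Set G) => (χ : G → ℂ) (u * c))) s
        * Cfsg.blockPart e
          (fun c : Subgroup.centralizer ({u} : Set G) => (χ : G → ℂ) (u⁻¹ * c)) s⁻¹ else 0)
      = ∑ s : Subgroup.centralizer ({u} : Set G), if χ ∈ B then
        Cfsg.pRegularPart p (Cfsg.blockPart e
          (fun c : Subgroup.centralizer ({u} : Set G) => (χ : G → ℂ) (u * c))) s
        * Cfsg.blockPart e
          (fun c : Subgroup.centralizer ({u} : Set G) => (χ : G → ℂ) (u⁻¹ * c)) s⁻¹ else 0 := by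
    intro χ
    split_ifs
    · rfl
    · simp
  rw [Finset.sum_congr rfl (fun χ _ => hpush χ), Finset.sum_comm]
  apply Finset.sum_congr rfl; intro s _
  by_cases hs : p ∣ orderOf s
  · simp [pRegularPart_of_singular _ hs]
  simp only [pRegularPart_of_regular _ hs]
  have hrhs : ∑ᶠ ψ ∈ e, (ψ : Subgroup.centralizer ({u} : Set G) → ℂ) s
        * (ψ : Subgroup.centralizer ({u} : Set G) → ℂ) s⁻¹
      = ∑ᶠ ψ ∈ e, (ψ : Subgroup.centralizer ({u} : Set G) → ℂ) s
        * conj ((ψ : Subgroup.centralizer ({u} : Set G) → ℂ) s) := by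
    apply finsum_mem_congr rfl
    intro ψ _
    rw [Cfsg.Agent.Lib.Helper25.char_inv (Cfsg.Agent.Lib.Helper25.isCharacter_of_irr ψ.2)]
  rw [hrhs]
  -- the family
  set f : Cfsg.IrrCharacter G → Subgroup.centralizer ({u} : Set G) → ℂ :=
    fun χ c => if χ ∈ B then (χ : G → ℂ) (u * c) else 0 with hf
  have hmain := abstract_main hM e he f S heS (by
    intro c c' hc hc'
    have h := section_block_orthogonality hM u hu B hB c c' hc hc'
    rw [hS]
    simp only [Set.mem_ofPred_eq]
    rw [← h]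
    apply Finset.sum_congr rfl; intro χ _
    simp only [hf]
    split_ifs
    · rfl
    · simp) s hs
  rw [← hmain]
  apply Finset.sum_congr rfl; intro χ _
  by_cases hχ : χ ∈ B
  · rw [if_pos hχ, conj_blockPart]
    have : f χ = fun c : Subgroup.centralizer ({u} : Set G) => (χ : G → ℂ) (u * c) := by
      funext c; simp only [hf, if_pos hχ]
    rw [this]
  · rw [if_neg hχ]
    have : f χ = fun _ => 0 := by
      funext c; simp only [hf, if_neg hχ]
    rw [this, blockPart_eq_kern]
    simp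

end

section

variable {G : Type*} [Group G] [Fintype G] {p : ℕ} [Fact p.Prime] {M : Ideal Cfsg.AlgInt}

/-- a Brauer pair `(P, e)` of `B` with `e^G` defined has `e^G = B` -/
theorem isInducedBlock_of_isBrauerPairOf (hM : Cfsg.IsPModular p M) (P : Subgroup G)
    (B : Set (Cfsg.IrrCharacter G))
    (e : Set (Cfsg.IrrCharacter (Subgroup.centralizer (P : Set G))))
    (hBe : Cfsg.IsBrauerPairOf p M B P e)
    (hdef : Cfsg.InducedBlockDefined M (Subgroup.centralizer (P : Set G)) e) :
    Cfsg.IsInducedBlock M (Subgroup.centralizer (P : Set G)) e B := by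
  classical
  haveI : Fintype (Subgroup.centralizer (P : Set G)) := Fintype.ofFinite _
  obtain ⟨B', hB'⟩ := hdef
  obtain ⟨⟨hP, he⟩, hB, hω⟩ := hBe
  obtain ⟨ξ, hξ⟩ := isPBlock_nonempty hM he
  obtain ⟨χ, hχ⟩ := isPBlock_nonempty hM hB'.2.1
  have h2 := omega_restrict_sub_memLocalIdeal (Subgroup.centralizer (P : Set G)) hM
    (ξ : Subgroup.centralizer (P : Set G) → ℂ) χ (hB'.2.2 ξ hξ χ hχ) (Cfsg.blockCoeff B)
    (blockCoeff_isClassFunction B) (fun g => blockCoeff_memLocalRing hM B hB g)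
  have h1 := hω ξ hξ
  rw [brauerOmega_eq_omega] at h1
  rw [omega_blockCoeff] at h2
  have hχB : χ ∈ B := by
    by_contra hcon
    rw [if_neg hcon, sub_zero] at h2
    have h3 := memLocalIdeal_sub hM h2 h1
    have e1 : ∀ a : ℂ, a - (a - 1) = 1 := fun a => by ring
    have h4 : (fun h : Subgroup.centralizer (P : Set G) => Cfsg.blockCoeff B (h : G))
        = restrictTo (Subgroup.centralizer (P : Set G)) (Cfsg.blockCoeff B) := rfl
    rw [h4, e1] at h3
    exact not_memLocalIdeal_one hM h3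
  have hBB : B' = B := by
    rw [eq_blockOf_of_mem hM hB'.2.1 hχ, eq_blockOf_of_mem hM hB hχB]
  rw [← hBB]; exact hB'

theorem main_K (hM : Cfsg.IsPModular p M) (B : Set (Cfsg.IrrCharacter G)) (u : G)
    (hu : ∃ k : ℕ, orderOf u = p ^ k) (K : Subgroup G)
    (hK : Subgroup.centralizer ({u} : Set G) = K)
    (e : Set (Cfsg.IrrCharacter K))
    (hind : Cfsg.IsInducedBlock M K e B) :
    ∑ᶠ χ ∈ B, ∑ᶠ s : K,
      Cfsg.pRegularPart p (Cfsg.blockPart e (fun c : K => (χ : G → ℂ) (u * c))) s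
        * Cfsg.blockPart e (fun c : K => (χ : G → ℂ) (u⁻¹ * c)) s⁻¹
      = (Nat.card K : ℂ) * (Cfsg.blockRank p e : ℂ) := by
  subst hK
  exact main_aux hM B u hu e hind

end

/-- Fix a prime p and a maximal ideal M of the algebraic integers containing p, a p-block B of the finite group G, a p-element u and a p-block e of C = C_G(u) such that (⟨u⟩, e) is a Brauer pair of B (a Brauer element of B). For χ ∈ B let χ_u be the e-part of the class function c ↦ χ(u c) on C and χ_u' the e-part of c ↦ χ(u⁻¹ c). Then the sum over χ ∈ B and over the p-regular elements s of C of χ_u(s)·χ_u'(s⁻¹) equals the order of C times the p-regular rank of e (the number of irreducible Brauer characters of e). -/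
theorem result {G : Type*} [Group G] [Fintype G] (p : ℕ) [Fact p.Prime] (M : Ideal Cfsg.AlgInt) (hM : Cfsg.IsPModular p M) (B : Set (Cfsg.IrrCharacter G)) (u : G) (hu : ∃ k : ℕ, orderOf u = p ^ k) (e : Set (Cfsg.IrrCharacter (Subgroup.centralizer (Subgroup.zpowers u : Set G)))) (hBe : Cfsg.IsBrauerPairOf p M B (Subgroup.zpowers u) e) : ∑ᶠ χ ∈ B, ∑ᶠ s : Subgroup.centralizer (Subgroup.zpowers u : Set G), Cfsg.pRegularPart p (Cfsg.blockPart e (fun c : Subgroup.centralizer (Subgroup.zpowers u : Set G) => (χ : G → ℂ) (u * c))) s * Cfsg.blockPart e (fun c : Subgroup.centralizer (Subgroup.zpowers u : Set G) => (χ : G → ℂ) (u⁻¹ * c)) s⁻¹ = (Nat.card (Subgroup.centralizer (Subgroup.zpowers u : Set G)) : ℂ) * (Cfsg.blockRank p e : ℂ) := by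
  have hK : Subgroup.centralizer ({u} : Set G)
      = Subgroup.centralizer ((Subgroup.zpowers u : Subgroup G) : Set G) := by
    rw [Subgroup.zpowers_eq_closure, Subgroup.centralizer_closure]
  have hP : IsPGroup p (Subgroup.zpowers u) := hBe.1.1
  have hPC : Subgroup.zpowers u ≤ Subgroup.centralizer ((Subgroup.zpowers u : Subgroup G) : Set G) := by
    rw [← hK, Subgroup.zpowers_le, Subgroup.mem_centralizer_singleton_iff]
  have hdef := Cfsg.Agent.S0919.result p M hM (Subgroup.zpowers u)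
    (Subgroup.centralizer ((Subgroup.zpowers u : Subgroup G) : Set G)) hP hPC le_rfl
    (Subgroup.centralizer_le_normalizer _) e hBe.1.2
  exact main_K hM B u hu _ hK e (isInducedBlock_of_isBrauerPairOf hM _ B e hBe hdef)

end Cfsg.Agent.S4683
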