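import Mathlib
import Cfsg.Statements.S4717
import Cfsg.Agent.S0917
import Cfsg.Agent.Lib.Helper7.SectionPrincipal
import Cfsg.Agent.Lib.Helper7.DefectOrder
import Cfsg.Agent.Lib.Helper24.CentPairs
import Cfsg.Agent.Lib.Helper24.PairTools
import Cfsg.Agent.Lib.Helper24.Principal

set_option autoImplicit false
open Cfsg

namespace Cfsg.Agent.S4717

open Cfsg.Agent.Lib.Helper2 Cfsg.Agent.Lib.Helper7 Cfsg.Agent.Lib.Helper24
open scoped ComplexConjugate

section

variable {G : Type*} [Group G] [Fintype G] {p : ℕ} [Fact p.Prime] {M : Ideal Cfsg.AlgInt}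

/-- The defect of an induced block is at least the defect of the block. -/
theorem blockDefect_le_of_isInducedBlock (hM : Cfsg.IsPModular p M) (H : Subgroup G)
    [Fintype H] (b : Set (Cfsg.IrrCharacter H)) (B : Set (Cfsg.IrrCharacter G))
    (hind : Cfsg.IsInducedBlock M H b B) : Cfsg.blockDefect p b ≤ Cfsg.blockDefect p B := by
  obtain ⟨Db, hDb⟩ := exists_isDefectGroup hM b hind.1
  obtain ⟨E, hE, hle⟩ := Cfsg.Agent.S0917.result p M hM H b hind.1 B hind.2.1 hind Db hDb
  have h1 := card_of_isDefectGroup hM b hind.1 Db hDb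
  have h2 := card_of_isDefectGroup hM B hind.2.1 E hE
  have h3 : Nat.card (Db.map H.subtype) = Nat.card Db :=
    (Nat.card_congr (Db.equivMapOfInjective _ H.subtype_injective).toEquiv).symm
  have h4 : Nat.card (Db.map H.subtype) ≤ Nat.card E := Subgroup.card_le_of_le hle
  rw [h3, h1, h2] at h4
  exact (Nat.pow_le_pow_iff_right (Fact.out : p.Prime).one_lt).1 h4

/-- First half: deficiency class passes to centralizers of `p`-elements. -/
theorem part1 (hM : Cfsg.IsPModular p M) (r : ℕ)
    (hG : ∀ B' : Set (Cfsg.IrrCharacter G), Cfsg.IsPBlock M B' →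
      B' ≠ Cfsg.principalBlock M G → Cfsg.blockDefect p B' < r)
    (y : G) (hy : ∃ k : ℕ, orderOf y = p ^ k)
    (b : Set (Cfsg.IrrCharacter (Subgroup.centralizer ({y} : Set G))))
    (hb : Cfsg.IsPBlock M b)
    (hne : b ≠ Cfsg.principalBlock M (Subgroup.centralizer ({y} : Set G))) :
    Cfsg.blockDefect p b < r := by
  classical
  have : Fintype (Subgroup.centralizer ({y} : Set G)) := Fintype.ofFinite _
  obtain ⟨B, hind⟩ := inducedBlockDefined_centralizer hM y hy b hb
  have hBne : B ≠ Cfsg.principalBlock M G := by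
    intro hB0
    apply hne
    obtain ⟨ψ, hψ⟩ := isPBlock_nonempty hM hb
    have hbψ := eq_blockOf_of_mem hM hb hψ
    rw [hB0, hbψ] at hind
    have h1 := (isInducedBlock_principal_iff hM y hy ψ).1 hind
    rw [hbψ]
    exact (eq_blockOf_of_mem hM isPBlock_principalBlock h1).symm
  exact lt_of_le_of_lt (blockDefect_le_of_isInducedBlock hM _ b B hind) (hG B hind.2.1 hBne)


/-- Second half, for the centralizer of the cyclic subgroup generated by `y`. -/
theorem part2_aux (hM : Cfsg.IsPModular p M) (r : ℕ) (hr : 0 < r)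
    (hC : ∀ y : G, orderOf y = p → ∀ B' : Set (Cfsg.IrrCharacter
        (Subgroup.centralizer ((Subgroup.zpowers y : Subgroup G) : Set G))),
      Cfsg.IsPBlock M B' →
      B' ≠ Cfsg.principalBlock M (Subgroup.centralizer ((Subgroup.zpowers y : Subgroup G) : Set G)) →
      Cfsg.blockDefect p B' < r)
    (B : Set (Cfsg.IrrCharacter G)) (hB : Cfsg.IsPBlock M B)
    (hne : B ≠ Cfsg.principalBlock M G) : Cfsg.blockDefect p B < r := by
  classical
  by_contra hge
  push Not at hge
  obtain ⟨D, hD⟩ := exists_isDefectGroup hM B hB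
  have hDcard := card_of_isDefectGroup hM B hB D hD
  have hDp : IsPGroup p D := IsPGroup.of_card hDcard
  obtain ⟨e, hmax⟩ := exists_isMaximalBrauerPair_of_isDefectGroup hM B hB D hD
  have hPe : Cfsg.IsBrauerPair p M D e := hmax.1.1
  -- a central element of order `p`
  have hDnt : Nontrivial D := by
    rw [← Finite.one_lt_card_iff_nontrivial, hDcard]
    exact Nat.one_lt_pow (by omega) (Fact.out : p.Prime).one_lt
  have hZnt : Nontrivial (Subgroup.center D) := hDp.center_nontrivial
  have hZp : IsPGroup p (Subgroup.center D) := hDp.to_subgroup _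
  have hpdvd : p ∣ Nat.card (Subgroup.center D) := by
    obtain ⟨n, hn⟩ := (IsPGroup.iff_card).1 hZp
    rw [hn]
    have hn0 : n ≠ 0 := by
      rintro rfl
      rw [pow_zero] at hn
      have := Finite.one_lt_card_iff_nontrivial.2 hZnt
      omega
    exact dvd_pow_self p hn0
  obtain ⟨x, hx⟩ := exists_prime_orderOf_dvd_card' p hpdvd
  set y : G := ((x : D) : G) with hy
  have hyord : orderOf y = p := by
    rw [hy, Subgroup.orderOf_coe, Subgroup.orderOf_coe, hx]
  have hyD : y ∈ D := (x : D).2
  set Q : Subgroup G := Subgroup.zpowers y with hQ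
  have hQD : Q ≤ D := by
    rw [hQ, Subgroup.zpowers_le]
    exact hyD
  have hQp : IsPGroup p Q := hDp.to_le hQD
  -- `D` centralizes `Q`
  have hDC : D ≤ Subgroup.centralizer (Q : Set G) := by
    intro d hd
    rw [hQ, Subgroup.zpowers_eq_closure, Subgroup.centralizer_closure]
    rw [Subgroup.mem_centralizer_singleton_iff]
    have h1 := Subgroup.mem_center_iff.1 x.2 ⟨d, hd⟩
    have h2 := congrArg (Subtype.val : D → G) h1
    exact h2
  obtain ⟨f, hf, hle⟩ := exists_subpairLE hM D e hPe Q hQD
  obtain ⟨D', hD', hle'⟩ := exists_isDefectGroup_ge_centralizerIn hM D Q e f hPe hQD hle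
  have : Fintype (Subgroup.centralizer (Q : Set G)) := Fintype.ofFinite _
  have hD'card := card_of_isDefectGroup hM f hf D' hD'
  have hinf : D ⊓ Subgroup.centralizer (Q : Set G) = D := inf_eq_left.2 hDC
  rw [hinf] at hle'
  have hcard1 : Nat.card (D.subgroupOf (Subgroup.centralizer (Q : Set G))) = Nat.card D :=
    Nat.card_congr (Subgroup.subgroupOfEquivOfLe hDC).toEquiv
  have hcard2 := Subgroup.card_le_of_le hle'
  rw [hcard1, hDcard, hD'card] at hcard2
  have hdf : Cfsg.blockDefect p B ≤ Cfsg.blockDefect p f :=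
    (Nat.pow_le_pow_iff_right (Fact.out : p.Prime).one_lt).1 hcard2
  have hfprin : f = Cfsg.principalBlock M (Subgroup.centralizer (Q : Set G)) := by
    by_contra hfne
    have := hC y hyord f hf hfne
    omega
  have hQf : Cfsg.IsBrauerPairOf p M B Q f :=
    (isBrauerPairOf_iff_of_subpairLE hM hPe ⟨hQp, hf⟩ hle B hB).mp hmax.1
  have hQ0 := isBrauerPairOf_principal hM Q hQp
  rw [← hfprin] at hQ0
  obtain ⟨B₁, _, huniq⟩ := existsUnique_block_of_brauerPair hM Q f ⟨hQp, hf⟩
  apply hne
  rw [huniq B hQf, huniq _ hQ0]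

/-- Second half. -/
theorem part2 (hM : Cfsg.IsPModular p M) (r : ℕ) (hr : 0 < r)
    (hC : ∀ y : G, orderOf y = p → ∀ B' : Set (Cfsg.IrrCharacter
        (Subgroup.centralizer ({y} : Set G))),
      Cfsg.IsPBlock M B' →
      B' ≠ Cfsg.principalBlock M (Subgroup.centralizer ({y} : Set G)) →
      Cfsg.blockDefect p B' < r)
    (B : Set (Cfsg.IrrCharacter G)) (hB : Cfsg.IsPBlock M B)
    (hne : B ≠ Cfsg.principalBlock M G) : Cfsg.blockDefect p B < r := by
  apply part2_aux hM r hr _ B hB hne
  intro y hy
  have hEq : Subgroup.centralizer ({y} : Set G) =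
      Subgroup.centralizer ((Subgroup.zpowers y : Subgroup G) : Set G) := by
    rw [Subgroup.zpowers_eq_closure, Subgroup.centralizer_closure]
  have key : ∀ K : Subgroup G, Subgroup.centralizer ({y} : Set G) = K →
      ∀ B' : Set (Cfsg.IrrCharacter K), Cfsg.IsPBlock M B' →
        B' ≠ Cfsg.principalBlock M K → Cfsg.blockDefect p B' < r := by
    rintro K rfl
    exact hC y hy
  exact key _ hEq

end

/-- Let p be a prime, M a maximal ideal of the algebraic integers containing p, and r a natural number; say that a finite group X has deficiency class r when X has no non-principal p-block of defect ≥ r. If G has deficiency class r then so does the centralizer of every p-element of G; conversely, if r > 0 and the centralizer of every element of order p has deficiency class r, then G has deficiency class r. -/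
theorem result {G : Type*} [Group G] [Finite G] (p : ℕ) [Fact p.Prime] (M : Ideal Cfsg.AlgInt) (hM : Cfsg.IsPModular p M) (r : ℕ) : ((∀ B' : Set (Cfsg.IrrCharacter G), Cfsg.IsPBlock M B' → B' ≠ Cfsg.principalBlock M G → Cfsg.blockDefect p B' < r) → ∀ y : G, (∃ k : ℕ, orderOf y = p ^ k) → (∀ B' : Set (Cfsg.IrrCharacter ↥(Subgroup.centralizer ({y} : Set G))), Cfsg.IsPBlock M B' → B' ≠ Cfsg.principalBlock M ↥(Subgroup.centralizer ({y} : Set G)) → Cfsg.blockDefect p B' < r)) ∧ (0 < r → (∀ y : G, orderOf y = p → (∀ B' : Set (Cfsg.IrrCharacter ↥(Subgroup.centralizer ({y} : Set G))), Cfsg.IsPBlock M B' → B' ≠ Cfsg.principalBlock M ↥(Subgroup.centralizer ({y} : Set G)) → Cfsg.blockDefect p B' < r)) → (∀ B' : Set (Cfsg.IrrCharacter G), Cfsg.IsPBlock M B' → B' ≠ Cfsg.principalBlock M G → Cfsg.blockDefect p B' < r)) := by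
  classical
  have : Fintype G := Fintype.ofFinite G
  constructor
  · intro hG y hy b hb hne
    exact part1 hM r hG y hy b hb hne
  · intro hr hC B hB hne
    exact part2 hM r hr hC B hB hne

end Cfsg.Agent.S4717

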