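import Mathlib
import Cfsg.Statements.S4637
import Cfsg.Agent.S4633
import Cfsg.Agent.Lib.Helper24.PairTools
import Cfsg.Agent.Lib.Helper24.InertialPrime
import Cfsg.Agent.Lib.Helper7.BrauerCount3
import Cfsg.Agent.Lib.Helper7.DefectOrder
import Cfsg.Agent.Lib.Helper7.ContribTwo
import Cfsg.Agent.Lib.Helper7.KleinAut
import Cfsg.Agent.Lib.Helper7.KleinCount
import Cfsg.Agent.Lib.Helper7.InertialQuot

set_option autoImplicit false
open Cfsg
open Cfsg.Agent.Lib.Helper2 Cfsg.Agent.Lib.Helper7 Cfsg.Agent.Lib.Helper24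

namespace Cfsg.Agent.S4637

/-- Let B be a block of the finite group G relative to a maximal ideal M of the algebraic integers containing 2, with a Klein four defect group P. Let c be a block of C_G(P) inducing B, T the stabilizer of c in N_G(P) and e the index of C_G(P) in T (the inertial index). Then e is 1 or 3, B contains exactly four irreducible characters, and the 2-regular rank of B (its number of irreducible Brauer characters) equals e. -/
theorem result {G : Type*} [Group G] [Finite G] (M : Ideal Cfsg.AlgInt) (hM : Cfsg.IsPModular 2 M) (B : Set (Cfsg.IrrCharacter G)) (hB : Cfsg.IsPBlock M B) (P : Subgroup G) (hPD : Cfsg.IsDefectGroup 2 M B P) (hV : IsKleinFour P) (c : Set (Cfsg.IrrCharacter (Subgroup.centralizer (P : Set G)))) (hc : Cfsg.IsInducedBlock M (Subgroup.centralizer (P : Set G)) c B) (T : Subgroup G) (hT : ∀ g : G, g ∈ T ↔ (g ∈ Subgroup.normalizer (P : Set G) ∧ Cfsg.StabilizesBlock (Subgroup.centralizer (P : Set G)) c g)) (e : ℕ) (he : (Subgroup.centralizer (P : Set G)).relIndex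 T = e) : (e = 1 ∨ e = 3) ∧ Nat.card B = 4 ∧ Cfsg.blockRank 2 B = e := by
  classical
  letI : Fintype G := Fintype.ofFinite G
  haveI : Fact (Nat.Prime 2) := ⟨Nat.prime_two⟩
  obtain ⟨g₀, -, -, hcard⟩ := exists_of_isDefectGroup hPD
  have hP : IsPGroup 2 P := IsPGroup.of_card hcard
  have hcardP : Nat.card P = 4 := IsKleinFour.card_four
  have hd : Cfsg.blockDefect 2 B = 2 := by
    have h1 := card_of_isDefectGroup hM B hB P hPD
    rw [hcardP] at h1
    have h2 : (2 : ℕ) ^ 2 = 2 ^ Cfsg.blockDefect 2 B := by rw [← h1]; norm_num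
    exact (Nat.pow_right_injective (le_refl 2) h2).symm
  have hBP := Cfsg.Agent.S4633.isBrauerPairOf_of_isInducedBlock_centralizer 2 M hM B P hP c hc
  have hmax := isMaximalBrauerPair_of_isDefectGroup hM B P c hBP hPD
  have hTeq : T = stabSubgroup P c := by
    ext g
    rw [hT, mem_stabSubgroup]
  subst hTeq
  -- `P` is abelian
  have hab : ∀ x ∈ P, ∀ y ∈ P, x * y = y * x := by
    intro x hx y hy
    have h1 : (⟨x, hx⟩ : P) * ⟨y, hy⟩ = ⟨y, hy⟩ * ⟨x, hx⟩ :=
      mul_comm_of_exponent_two IsKleinFour.exponent_two _ _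
    exact congrArg Subtype.val h1
  have hPC : P ≤ Subgroup.centralizer (P : Set G) := by
    intro u hu
    rw [Subgroup.mem_centralizer_iff]
    intro q hq
    exact hab q hq u hu
  -- the conjugation hom
  obtain ⟨φ, hφapp, hker, hrange⟩ := exists_stabConjHom P c
  have hcop := coprime_relIndex_stabSubgroup hM B P c hmax hPC
  rw [he] at hcop hrange
  have hodd : Odd (Nat.card φ.range) := by
    rw [hrange]
    exact Nat.odd_iff.mpr (Nat.two_dvd_ne_zero.mp (fun h2 => by
      have := Nat.Coprime.eq_one_of_dvd hcop.symm h2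
      omega))
  obtain ⟨hfree, h13, htransA⟩ := kleinFour_odd_aut φ.range hodd
  rw [hrange] at h13 htransA
  -- counting
  obtain ⟨hk, hl1, hl3⟩ := card_eq_four_of_defect_two hM B hB hd
  obtain ⟨X, h1X, hX, hXrep⟩ := exists_pElement_reps (G := G) 2
  have hcount := card_eq_blockRank_add hM B hB X h1X hX hXrep
  have hx1 : ∀ x ∈ X, x ≠ 1 := fun x hx h => h1X (h ▸ hx)
  rw [Finset.sum_congr rfl (fun x hx =>
    finrank_eq_card_pairs hM B hd.le x (hx1 x hx) (hX x hx)), hk] at hcount
  refine ⟨h13, hk, ?_⟩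
  rcases h13 with h1 | h3
  · -- trivial inertial quotient
    have hT1 : stabSubgroup P c ≤ Subgroup.centralizer (P : Set G) := by
      rw [← he] at h1
      exact Subgroup.relIndex_eq_one.mp h1
    have h3le := three_le_sum_card_pairs hM B P c hmax hab hT1 hcardP X hXrep
    omega
  · -- transitive inertial quotient
    have htrans : ∀ u ∈ P, ∀ u' ∈ P, u ≠ 1 → u' ≠ 1 →
        ∃ t ∈ stabSubgroup P c, t * u * t⁻¹ = u' := by
      intro u hu u' hu' hu1 hu'1
      obtain ⟨α, ⟨t, rfl⟩, hα⟩ := htransA h3 ⟨u, hu⟩ ⟨u', hu'⟩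
        (fun h => hu1 (congrArg Subtype.val h)) (fun h => hu'1 (congrArg Subtype.val h))
      refine ⟨t, t.2, ?_⟩
      have := hφapp t ⟨u, hu⟩
      rw [hα] at this
      exact this.symm
    have hle1 := sum_card_pairs_le_one hM B P c hmax htrans X h1X hXrep hX
    omega
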