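import Mathlib
import Cfsg.Statements.S0928
import Cfsg.Agent.Lib.Helper24.MaxPairs
import Cfsg.Agent.Lib.Helper24.PairTools
import Cfsg.Agent.Lib.Helper7.DefectOrder
import Cfsg.Agent.Lib.Helper7.QuotientBlock
import Cfsg.Agent.Lib.Helper25.EvenDegree

set_option autoImplicit false
open scoped ComplexConjugate
open Cfsg

namespace Cfsg.Agent.S0928

open Cfsg.Agent.Lib.Helper7 Cfsg.Agent.Lib.Helper24 Cfsg.Agent.Lib.Helper2

/-- the indicator function of the elements of order dividing `p` -/
noncomputable def rootInd (p : ℕ) (K : Type*) [Group K] : K → ℂ :=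
  fun g => by classical exact if g ^ p = 1 then 1 else 0

theorem rootInd_isClassFunction (p : ℕ) (K : Type*) [Group K] :
    Cfsg.IsClassFunction K (rootInd p K) := by
  classical
  intro g x
  unfold rootInd
  have : (x * g * x⁻¹) ^ p = 1 ↔ g ^ p = 1 := by
    rw [conj_pow]
    constructor
    · intro h
      have h2 : g ^ p = x⁻¹ * (x * g ^ p * x⁻¹) * x := by group
      rw [h2, h]; group
    · intro h; rw [h]; group
  simp only [this]

theorem rootInd_memLocalRing {p : ℕ} {M : Ideal Cfsg.AlgInt} (hM : Cfsg.IsPModular p M)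
    (K : Type*) [Group K] (g : K) : Cfsg.MemLocalRing M (rootInd p K g) := by
  classical
  unfold rootInd
  by_cases h : g ^ p = 1
  · simp only [h, if_true]; exact memLocalRing_one hM
  · simp only [h, if_false]; exact memLocalRing_zero hM

/-- in a group with a central element of order `p`, the central character of any irreducible
character at the sum of all elements of order dividing `p` lies in the local ideal -/
theorem omega_rootInd_memLocalIdeal {K : Type*} [Group K] [Fintype K] {p : ℕ} [Fact p.Prime]
    {M : Ideal Cfsg.AlgInt} (hM : Cfsg.IsPModular p M) (z : K) (hz : orderOf z = p)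
    (hzc : ∀ k : K, z * k = k * z) (ξ : Cfsg.IrrCharacter K) :
    Cfsg.MemLocalIdeal M (omega (ξ : K → ℂ) (rootInd p K)) := by
  classical
  have hp : p.Prime := Fact.out
  letI : Fintype (Subgroup.zpowers z) := Fintype.ofFinite _
  letI : Fintype (K ⧸ Subgroup.zpowers z) := Fintype.ofFinite _
  have hcardZ : Nat.card (Subgroup.zpowers z) = p := by rw [Nat.card_zpowers, hz]
  have hacf := rootInd_isClassFunction p K
  -- elements of `⟨z⟩` are central of order dividing `p`
  have hn : ∀ n ∈ Subgroup.zpowers z, (∀ k : K, n * k = k * n) ∧ n ^ p = 1 := by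
    intro n hn
    obtain ⟨i, rfl⟩ := Subgroup.mem_zpowers_iff.mp hn
    constructor
    · intro k
      exact ((Commute.zpow_left (hzc k) i)).eq
    · rw [← zpow_natCast, ← zpow_mul, mul_comm, zpow_mul, zpow_natCast, ← hz, pow_orderOf_eq_one,
        one_zpow]
  have hinv : ∀ (h n : K), n ∈ Subgroup.zpowers z → rootInd p K (h * n) = rootInd p K h := by
    intro h n hnz
    obtain ⟨hc, hpn⟩ := hn n hnz
    unfold rootInd
    have : (h * n) ^ p = h ^ p := by
      rw [(show Commute h n from (hc h).symm).mul_pow, hpn, mul_one]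
    simp only [this]
  -- the convolution square is `p` times a local-integral class function
  have hconv : ∀ g : K, Cfsg.MemLocalRing M ((p : ℂ)⁻¹ * conv (rootInd p K) (rootInd p K) g) := by
    intro g
    have hlift : ∀ a b : K, (QuotientGroup.leftRel (Subgroup.zpowers z)) a b →
        rootInd p K a * rootInd p K (a⁻¹ * g) = rootInd p K b * rootInd p K (b⁻¹ * g) := by
      intro a b hab
      rw [QuotientGroup.leftRel_apply] at hab
      have hb : b = a * (a⁻¹ * b) := by group
      obtain ⟨hc, hpn⟩ := hn _ hab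
      rw [hb, hinv a _ hab]
      congr 1
      have : (a * (a⁻¹ * b))⁻¹ * g = (a⁻¹ * g) * (a⁻¹ * b)⁻¹ := by
        rw [mul_inv_rev, mul_assoc, ← (show Commute ((a⁻¹ * b)⁻¹) (a⁻¹ * g) from
          (Commute.inv_left (show Commute (a⁻¹ * b) (a⁻¹ * g) from hc _))).eq]
      rw [this, hinv _ _ (Subgroup.inv_mem _ hab)]
    obtain ⟨F, hF⟩ : ∃ F : K ⧸ Subgroup.zpowers z → ℂ,
        ∀ a : K, F (a : K ⧸ Subgroup.zpowers z) = rootInd p K a * rootInd p K (a⁻¹ * g) :=
      ⟨Quotient.lift (fun a : K => rootInd p K a * rootInd p K (a⁻¹ * g)) hlift, fun a => rfl⟩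
    have h1 : conv (rootInd p K) (rootInd p K) g
        = (p : ℂ) * ∑ q : K ⧸ Subgroup.zpowers z, F q := by
      have hs := sum_comp_mk (Subgroup.zpowers z) F
      rw [hcardZ] at hs
      rw [conv_apply, ← hs]
      apply Finset.sum_congr rfl
      intro a _
      rw [hF]
    have hp0 : (p : ℂ) ≠ 0 := by exact_mod_cast hp.ne_zero
    rw [h1, ← mul_assoc, inv_mul_cancel₀ hp0, one_mul]
    apply memLocalRing_sum hM
    intro q _
    induction q using QuotientGroup.induction_on with
    | H a =>
      rw [hF]
      exact memLocalRing_mul hM (rootInd_memLocalRing hM K _) (rootInd_memLocalRing hM K _)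
  have hccf : Cfsg.IsClassFunction K
      (fun g => (p : ℂ)⁻¹ * conv (rootInd p K) (rootInd p K) g) := by
    intro g x
    simp only
    rw [conv_isClassFunction _ _ hacf hacf g x]
  have hp0 : (p : ℂ) ≠ 0 := by exact_mod_cast hp.ne_zero
  have heq : conv (rootInd p K) (rootInd p K)
      = (p : ℂ) • (fun g => (p : ℂ)⁻¹ * conv (rootInd p K) (rootInd p K) g) := by
    funext g
    simp only [Pi.smul_apply, smul_eq_mul]
    rw [← mul_assoc, mul_inv_cancel₀ hp0, one_mul]
  have hmul := omega_conv ξ _ _ hacf hacf
  rw [heq, omega_smul] at hmul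
  have hR := omega_memLocalRing hM ξ _ hacf (rootInd_memLocalRing hM K)
  have hR2 := omega_memLocalRing hM ξ _ hccf hconv
  have hpI : Cfsg.MemLocalIdeal M (p : ℂ) := (memLocalIdeal_natCast_iff hM p).mpr dvd_rfl
  apply memLocalIdeal_of_pow hM hR 2
  rw [pow_two, ← hmul]
  exact memLocalIdeal_mul_right hM hpI hR2

/-- Let χ be an irreducible character of the finite group G and p a prime. If χ g = 0 for every element g of order p, then the exponent of p in the degree χ(1) equals the exponent of p in the order of G (χ has p-defect zero). -/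
theorem result {G : Type*} [Group G] [Finite G] (p : ℕ) [Fact p.Prime] (χ : Cfsg.IrrCharacter G) (hvan : ∀ g : G, orderOf g = p → (χ : G → ℂ) g = 0) : (Cfsg.charDegree (χ : G → ℂ)).factorization p = (Nat.card G).factorization p := by
  classical
  letI : Fintype G := Fintype.ofFinite G
  have hp : p.Prime := Fact.out
  obtain ⟨M, hM⟩ := Cfsg.Agent.Lib.Helper25.exists_isPModular p hp
  by_contra hne
  have hB : Cfsg.IsPBlock M (Cfsg.blockOf M (χ : G → ℂ)) := ⟨χ, rfl⟩
  have hχB : χ ∈ Cfsg.blockOf M (χ : G → ℂ) := mem_blockOf_self hM χ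
  obtain ⟨D, hD⟩ := Cfsg.Agent.Lib.Helper24.exists_isDefectGroup hM _ hB
  have hcardD := card_of_isDefectGroup hM _ hB D hD
  -- the defect is positive
  have hdpos : 0 < Cfsg.blockDefect p (Cfsg.blockOf M (χ : G → ℂ)) := by
    unfold Cfsg.blockDefect
    have h1 : sInf ((fun ψ : Cfsg.IrrCharacter G =>
        (Cfsg.charDegree (ψ : G → ℂ)).factorization p) '' Cfsg.blockOf M (χ : G → ℂ))
        ≤ (Cfsg.charDegree (χ : G → ℂ)).factorization p := Nat.sInf_le ⟨χ, hχB, rfl⟩
    have h2 : (Cfsg.charDegree (χ : G → ℂ)).factorization p ≤ (Nat.card G).factorization p := by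
      have hdvd : Cfsg.charDegree (χ : G → ℂ) ∣ Nat.card G :=
        Cfsg.Agent.Lib.Helper25.charDegree_dvd_card χ.2
      exact (Nat.factorization_le_iff_dvd (irr_charDegree_pos χ).ne' Nat.card_pos.ne').mpr hdvd p
    omega
  have hDp : IsPGroup p D := IsPGroup.of_card hcardD
  -- a central element of order `p` in `D`
  have hcenter : p ∣ Nat.card (Subgroup.center D) := by
    haveI : Nontrivial D := by
      rw [← Finite.one_lt_card_iff_nontrivial, hcardD]
      exact Nat.one_lt_pow hdpos.ne' hp.one_lt
    haveI := hDp.center_nontrivial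
    have hZp : IsPGroup p (Subgroup.center D) := hDp.to_subgroup _
    rcases hZp.card_eq_or_dvd with h | h
    · exfalso
      have := Finite.one_lt_card_iff_nontrivial.mpr ‹Nontrivial (Subgroup.center D)›
      omega
    · exact h
  obtain ⟨z₀, hz₀⟩ := exists_prime_orderOf_dvd_card' p hcenter
  -- the maximal Brauer pair
  obtain ⟨e, he⟩ := exists_isMaximalBrauerPair_of_isDefectGroup hM _ hB D hD
  letI : Fintype (Subgroup.centralizer (D : Set G)) := Fintype.ofFinite _
  obtain ⟨ξ, hξ⟩ := isPBlock_nonempty hM he.1.1.2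
  have haR : IsRCF M (rootInd p G) :=
    ⟨rootInd_isClassFunction p G, rootInd_memLocalRing hM G⟩
  have hcong := omega_restrict_sub_omega_of_isBrauerPairOf hM _ D e he.1 χ hχB ξ hξ _ haR
  -- `ω_χ` of the root indicator is `1`
  have hχ1 : (χ : G → ℂ) 1 ≠ 0 := Cfsg.Agent.Lib.Helper25.irr_one_ne_zero χ.2
  have hom1 : omega (χ : G → ℂ) (rootInd p G) = 1 := by
    unfold omega
    rw [Finset.sum_eq_single (1 : G)]
    · unfold rootInd
      simp only [one_pow, if_true, one_mul]
      exact div_self hχ1
    · intro g _ hg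
      unfold rootInd
      by_cases hgp : g ^ p = 1
      · simp only [hgp, if_true, one_mul]
        exact hvan g (orderOf_eq_prime hgp hg)
      · simp only [hgp, if_false, zero_mul]
    · intro h; exact absurd (Finset.mem_univ _) h
  -- the restriction is the root indicator of the centralizer
  have hres : restrictTo (Subgroup.centralizer (D : Set G)) (rootInd p G)
      = rootInd p (Subgroup.centralizer (D : Set G)) := by
    funext c
    unfold restrictTo rootInd
    have : ((c : G) ^ p = 1) ↔ (c ^ p = 1) := by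
      rw [← Subgroup.coe_pow, OneMemClass.coe_eq_one]
    by_cases hc : c ^ p = 1
    · rw [if_pos (this.mpr hc), if_pos hc]
    · rw [if_neg (fun h => hc (this.mp h)), if_neg hc]
  rw [hres, hom1] at hcong
  -- the central element
  have hz₀D : (((z₀ : D)) : G) ∈ Subgroup.centralizer (D : Set G) := by
    rw [Subgroup.mem_centralizer_iff]
    intro d hd
    have := Subgroup.mem_center_iff.mp z₀.2 ⟨d, hd⟩
    have h2 := congrArg (Subtype.val) this
    simpa using h2
  have hzord : orderOf (⟨(((z₀ : D)) : G), hz₀D⟩ : Subgroup.centralizer (D : Set G)) = p := by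
    rw [Subgroup.orderOf_mk, Subgroup.orderOf_coe, Subgroup.orderOf_coe, hz₀]
  have hzc : ∀ k : Subgroup.centralizer (D : Set G),
      (⟨(((z₀ : D)) : G), hz₀D⟩ : Subgroup.centralizer (D : Set G)) * k
        = k * ⟨(((z₀ : D)) : G), hz₀D⟩ := by
    intro k
    apply Subtype.ext
    push_cast
    exact (Subgroup.mem_centralizer_iff.mp k.2 _ (z₀ : D).2)
  have hI := omega_rootInd_memLocalIdeal hM _ hzord hzc ξ
  have h1 := memLocalIdeal_sub hM hI hcong
  rw [sub_sub_cancel] at h1
  exact not_memLocalIdeal_one hM h1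

end Cfsg.Agent.S0928
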