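import Mathlib
import Cfsg.Statements.S0944
import Cfsg.Agent.Lib.Helper2.CharBasic
import Cfsg.Agent.Lib.Helper25.CharBasic

set_option autoImplicit false
open Cfsg

namespace Cfsg.Agent.S0944

/-- Let χ be an irreducible character of the finite group G and u an involution. Then χ u is a rational integer n with n ≡ χ 1 (mod 2). -/
theorem result {G : Type*} [Group G] [Finite G] (χ : Cfsg.IrrCharacter G) (u : G) (hu : orderOf u = 2) : ∃ n : ℤ, (χ : G → ℂ) u = (n : ℂ) ∧ (2 : ℤ) ∣ (Cfsg.charDegree (χ : G → ℂ) : ℤ) - n := by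
  classical
  have hχc : IsCharacter G (χ : G → ℂ) := Cfsg.Agent.Lib.Helper25.isCharacter_of_irr χ.2
  have hdeg := Cfsg.Agent.Lib.Helper25.char_one_eq_charDegree hχc
  obtain ⟨m, ρ, hρ⟩ := hχc
  obtain ⟨μ, hμ, hpow, _⟩ := Cfsg.Agent.Lib.Helper2.exists_eigenvalues ρ u
  rw [hu] at hμ
  have hμ' : ∀ i, μ i = 1 ∨ μ i = -1 := fun i => sq_eq_one_iff.mp (hμ i)
  let ε : Fin (Module.finrank ℂ (Fin m → ℂ)) → ℤ := fun i => if μ i = 1 then 1 else -1
  have hε : ∀ i, μ i = (ε i : ℂ) := by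
    intro i
    rcases hμ' i with h | h
    · simp [ε, h]
    · have hne : μ i ≠ 1 := by
        rw [h]; norm_num
      simp [ε, h]
  refine ⟨∑ i, ε i, ?_, ?_⟩
  · have h1 := hpow 1
    rw [pow_one, hρ] at h1
    rw [h1]
    push_cast
    apply Finset.sum_congr rfl
    intro i _
    rw [pow_one, hε i]
  · have h0 := hpow 0
    rw [pow_zero, hρ] at h0
    simp only [pow_zero, Finset.sum_const, Finset.card_univ, Fintype.card_fin, nsmul_eq_mul, mul_one] at h0
    rw [h0] at hdeg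
    have hdeg' : Cfsg.charDegree (χ : G → ℂ) = Module.finrank ℂ (Fin m → ℂ) := by
      exact_mod_cast hdeg.symm
    rw [hdeg']
    have : ((Module.finrank ℂ (Fin m → ℂ) : ℕ) : ℤ) = ∑ _i : Fin (Module.finrank ℂ (Fin m → ℂ)), (1 : ℤ) := by
      simp
    rw [this, ← Finset.sum_sub_distrib]
    apply Finset.dvd_sum
    intro i _
    by_cases h : μ i = 1
    · simp [ε, h]
    · simp [ε, h]

end Cfsg.Agent.S0944
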