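import Mathlib
import Cfsg.Statements.S0947
import Cfsg.Agent.Lib.Helper7.SectionPrincipal
import Cfsg.Agent.Lib.Helper25.Kernel
import Cfsg.Agent.S0939

set_option autoImplicit false
open scoped ComplexConjugate
open Cfsg

namespace Cfsg.Agent.S0947

open Cfsg.Agent.Lib.Helper7 Cfsg.Agent.Lib.Helper24 Cfsg.Agent.Lib.Helper2

/-- real finsum over a set as a sum with `ite` -/
theorem finsum_mem_eq_sum_ite_real {ι : Type*} [Fintype ι] (B : Set ι) [DecidablePred (· ∈ B)]
    (f : ι → ℝ) : ∑ᶠ i ∈ B, f i = ∑ i, if i ∈ B then f i else 0 := by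
  rw [finsum_mem_def, finsum_eq_sum_of_fintype]
  apply Finset.sum_congr rfl; intro i _
  by_cases h : i ∈ B
  · rw [Set.indicator_of_mem h, if_pos h]
  · rw [Set.indicator_of_notMem h, if_neg h]

/-- the real norm-square sum over a block as a complex sum -/
theorem normSq_sum_cast {ι : Type*} [Fintype ι] (B : Set ι) [DecidablePred (· ∈ B)]
    (f : ι → ℂ) :
    (((∑ᶠ i ∈ B, ‖f i‖ ^ 2 : ℝ)) : ℂ) = ∑ i, if i ∈ B then f i * conj (f i) else 0 := by
  rw [finsum_mem_eq_sum_ite_real]
  push_cast
  apply Finset.sum_congr rfl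
  intro i _
  by_cases h : i ∈ B
  · rw [if_pos h, if_pos h, Complex.mul_conj, Complex.normSq_eq_norm_sq]
  · rw [if_neg h, if_neg h]
    simp

/-- in a group with a normal subgroup `K`, the squares of the degrees of the irreducible
characters with `K` in the kernel sum to the index of `K` -/
theorem sum_degree_sq_kernel {H : Type*} [Group H] [Fintype H] (K : Subgroup H) [K.Normal]
    [Fintype (Cfsg.IrrCharacter H)]
    [DecidablePred (fun χ : Cfsg.IrrCharacter H => ∀ n ∈ K, (χ : H → ℂ) n = (χ : H → ℂ) 1)] :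
    ∑ χ : Cfsg.IrrCharacter H,
      (if (∀ n ∈ K, (χ : H → ℂ) n = (χ : H → ℂ) 1)
        then (χ : H → ℂ) 1 * conj ((χ : H → ℂ) 1) else 0) = (K.index : ℂ) := by
  classical
  letI : Fintype K := Fintype.ofFinite _
  have h1 : ∀ n : K, ∑ χ : Cfsg.IrrCharacter H, (χ : H → ℂ) (n : H) * conj ((χ : H → ℂ) 1)
      = if (n : H) = 1 then (Nat.card H : ℂ) else 0 := by
    intro n
    rw [column_orthogonality]
    by_cases hn : (n : H) = 1
    · rw [if_pos hn, if_pos (by rw [hn])]
      rw [hn]
      congr 1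
      have : Subgroup.centralizer ({(1 : H)} : Set H) = ⊤ := by
        ext g; simp [Subgroup.mem_centralizer_singleton_iff]
      rw [this, Subgroup.card_top]
    · rw [if_neg hn, if_neg]
      intro hc
      apply hn
      exact isConj_one_left.mp hc
  have h2 : ∑ n : K, ∑ χ : Cfsg.IrrCharacter H, (χ : H → ℂ) (n : H) * conj ((χ : H → ℂ) 1)
      = (Nat.card H : ℂ) := by
    rw [Finset.sum_congr rfl (fun n _ => h1 n)]
    rw [Finset.sum_eq_single (1 : K)]
    · rw [if_pos (by simp)]
    · intro n _ hn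
      rw [if_neg]
      intro h
      apply hn
      exact Subtype.ext h
    · intro h; exact absurd (Finset.mem_univ _) h
  rw [Finset.sum_comm] at h2
  have h3 : ∀ χ : Cfsg.IrrCharacter H,
      ∑ n : K, (χ : H → ℂ) (n : H) * conj ((χ : H → ℂ) 1)
      = (Nat.card K : ℂ) * (if (∀ n ∈ K, (χ : H → ℂ) n = (χ : H → ℂ) 1)
        then (χ : H → ℂ) 1 * conj ((χ : H → ℂ) 1) else 0) := by
    intro χ
    rw [← Finset.sum_mul]
    by_cases hχ : ∀ n ∈ K, (χ : H → ℂ) n = (χ : H → ℂ) 1
    · rw [if_pos hχ]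
      rw [Finset.sum_congr rfl (fun (n : K) _ => hχ n n.2), Finset.sum_const, nsmul_eq_mul,
        Finset.card_univ, Nat.card_eq_fintype_card]
      ring
    · rw [if_neg hχ, mul_zero]
      rcases Cfsg.Agent.Lib.Helper25.sum_normal_char χ.2 K with h | h
      · exact absurd h hχ
      · have := h 1
        simp only [one_mul] at this
        rw [this, zero_mul]
  rw [Finset.sum_congr rfl (fun χ _ => h3 χ), ← Finset.mul_sum] at h2
  have hK : (Nat.card K : ℂ) ≠ 0 := by exact_mod_cast Nat.card_pos.ne'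
  have hidx : (Nat.card K : ℂ) * (K.index : ℂ) = (Nat.card H : ℂ) := by
    exact_mod_cast K.card_mul_index
  rw [← hidx] at h2
  exact mul_left_cancel₀ hK h2

/-- Let z ≠ 1 be a p-element of the finite group G with centralizer H, and fix a maximal ideal M of the algebraic integers containing p. (i) For every y ∈ H of order prime to p, the sum over ζ in the principal block of G of |ζ (z * y)|² equals the sum over χ in the principal block of H of |χ y|². (ii) If moreover H has a normal p-complement (its largest normal subgroup of order prime to p has p-power index), that common value is the largest power of p dividing the order of H. -/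
theorem result {G : Type*} [Group G] [Finite G] (p : ℕ) [Fact p.Prime] (M : Ideal Cfsg.AlgInt) (hM : Cfsg.IsPModular p M) (z : G) (hz : ∃ k : ℕ, orderOf z = p ^ k) (hz1 : z ≠ 1) (y : Subgroup.centralizer ({z} : Set G)) (hy : ¬ p ∣ orderOf y) : (∑ᶠ ζ ∈ Cfsg.principalBlock M G, ‖(ζ : G → ℂ) (z * (y : G))‖ ^ 2 = ∑ᶠ χ ∈ Cfsg.principalBlock M (Subgroup.centralizer ({z} : Set G)), ‖(χ : Subgroup.centralizer ({z} : Set G) → ℂ) y‖ ^ 2) ∧ ((∃ k : ℕ, (Cfsg.pPrimeCore p (Subgroup.centralizer ({z} : Set G))).index = p ^ k) → ∑ᶠ ζ ∈ Cfsg.principalBlock M G, ‖(ζ : G → ℂ) (z * (y : G))‖ ^ 2 = ((p ^ (Nat.card (Subgroup.centralizer ({z} : Set G))).factorization p : ℕ) : ℝ)) := by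
  classical
  letI : Fintype G := Fintype.ofFinite G
  letI : Fintype (Subgroup.centralizer ({z} : Set G)) := Fintype.ofFinite _
  haveI : Fintype (Cfsg.IrrCharacter G) := Fintype.ofFinite _
  haveI : Fintype (Cfsg.IrrCharacter (Subgroup.centralizer ({z} : Set G))) := Fintype.ofFinite _
  have hp : p.Prime := Fact.out
  have hi : ∑ᶠ ζ ∈ Cfsg.principalBlock M G, ‖(ζ : G → ℂ) (z * (y : G))‖ ^ 2
      = ∑ᶠ χ ∈ Cfsg.principalBlock M (Subgroup.centralizer ({z} : Set G)),
        ‖(χ : Subgroup.centralizer ({z} : Set G) → ℂ) y‖ ^ 2 := by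
    apply Complex.ofReal_injective
    rw [normSq_sum_cast (Cfsg.principalBlock M G) (fun ζ => (ζ : G → ℂ) (z * (y : G))),
      normSq_sum_cast (Cfsg.principalBlock M (Subgroup.centralizer ({z} : Set G)))
        (fun χ => (χ : Subgroup.centralizer ({z} : Set G) → ℂ) y)]
    exact section_principal_orthogonality hM z hz y y hy hy
  refine ⟨hi, ?_⟩
  rintro ⟨k, hk⟩
  rw [hi]
  haveI hKn : (Cfsg.pPrimeCore p (Subgroup.centralizer ({z} : Set G))).Normal :=
    Cfsg.Agent.Lib.Helper1.pPrimeCore_normal p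
  have hKp : ¬ p ∣ Nat.card (Cfsg.pPrimeCore p (Subgroup.centralizer ({z} : Set G))) := by
    have h1 := Cfsg.Agent.Lib.Helper1.pPrimeCore_coprime
      (G := Subgroup.centralizer ({z} : Set G)) p
    intro h
    exact (Nat.Prime.coprime_iff_not_dvd hp).mp h1.symm h
  have hB := Cfsg.Agent.S0939.result p M hM (G := Subgroup.centralizer ({z} : Set G)) ⟨k, hk⟩
  -- `y` lies in the normal `p`-complement
  have hyK : y ∈ Cfsg.pPrimeCore p (Subgroup.centralizer ({z} : Set G)) := by
    rw [← QuotientGroup.eq_one_iff]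
    have h1 : orderOf ((y : Subgroup.centralizer ({z} : Set G))
        : Subgroup.centralizer ({z} : Set G) ⧸
          Cfsg.pPrimeCore p (Subgroup.centralizer ({z} : Set G))) ∣ orderOf y :=
      orderOf_map_dvd (QuotientGroup.mk' _) y
    have h2 : orderOf ((y : Subgroup.centralizer ({z} : Set G))
        : Subgroup.centralizer ({z} : Set G) ⧸
          Cfsg.pPrimeCore p (Subgroup.centralizer ({z} : Set G))) ∣ p ^ k := by
      rw [← hk, Subgroup.index_eq_card]
      exact orderOf_dvd_natCard _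
    have h3 : Nat.Coprime (orderOf y) (p ^ k) :=
      Nat.Coprime.pow_right k ((Nat.Prime.coprime_iff_not_dvd hp).mpr hy).symm
    have h4 := Nat.eq_one_of_dvd_coprimes h3 h1 h2
    exact orderOf_eq_one_iff.mp h4
  apply Complex.ofReal_injective
  rw [normSq_sum_cast (Cfsg.principalBlock M (Subgroup.centralizer ({z} : Set G)))
        (fun χ => (χ : Subgroup.centralizer ({z} : Set G) → ℂ) y)]
  have hcard : (p ^ (Nat.card (Subgroup.centralizer ({z} : Set G))).factorization p : ℕ)
      = (Cfsg.pPrimeCore p (Subgroup.centralizer ({z} : Set G))).index := by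
    rw [hk]
    congr 1
    rw [← (Cfsg.pPrimeCore p (Subgroup.centralizer ({z} : Set G))).card_mul_index, hk,
      Nat.factorization_mul Nat.card_pos.ne' (pow_ne_zero _ hp.ne_zero)]
    simp only [Finsupp.coe_add, Pi.add_apply]
    rw [Nat.factorization_eq_zero_of_not_dvd hKp, zero_add, hp.factorization_pow]
    simp
  rw [hcard]
  push_cast
  rw [← sum_degree_sq_kernel (Cfsg.pPrimeCore p (Subgroup.centralizer ({z} : Set G)))]
  apply Finset.sum_congr rfl
  intro χ _
  have hiff : χ ∈ Cfsg.principalBlock M (Subgroup.centralizer ({z} : Set G))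
      ↔ ∀ n ∈ Cfsg.pPrimeCore p (Subgroup.centralizer ({z} : Set G)),
        (χ : Subgroup.centralizer ({z} : Set G) → ℂ) n
          = (χ : Subgroup.centralizer ({z} : Set G) → ℂ) 1 := by
    rw [hB]; rfl
  by_cases hχ : χ ∈ Cfsg.principalBlock M (Subgroup.centralizer ({z} : Set G))
  · rw [if_pos hχ, if_pos (hiff.mp hχ), (hiff.mp hχ) y hyK]
  · rw [if_neg hχ, if_neg (fun h => hχ (hiff.mpr h))]

end Cfsg.Agent.S0947
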