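import Mathlib
import Cfsg.Statements.S0948
import Cfsg.Agent.S0947
import Cfsg.Agent.S0944
import Cfsg.Agent.Lib.Helper7.KleinFourNPC
import Cfsg.Agent.Lib.Helper7.RootInd

set_option autoImplicit false
open scoped ComplexConjugate
open Cfsg

namespace Cfsg.Agent.S0948

open Cfsg.Agent.Lib.Helper7 Cfsg.Agent.Lib.Helper24 Cfsg.Agent.Lib.Helper2

/-- the square-sum over the principal block at an involution is `4` -/
theorem sum_sq_eq_four {G : Type*} [Group G] [Fintype G] (M : Ideal Cfsg.AlgInt)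
    (hM : Cfsg.IsPModular 2 M) (P : Sylow 2 G) (hP : IsKleinFour (P : Subgroup G))
    (z : G) (hzP : z ∈ (P : Subgroup G)) (hz : orderOf z = 2) :
    ∑ᶠ ζ ∈ Cfsg.principalBlock M G, ‖(ζ : G → ℂ) z‖ ^ 2 = (4 : ℝ) := by
  classical
  haveI : Fact (Nat.Prime 2) := ⟨Nat.prime_two⟩
  haveI := hP
  have hcardP : Nat.card (P : Subgroup G) = 4 := IsKleinFour.card_four
  have hz1 : z ≠ 1 := by
    intro h; rw [h, orderOf_one] at hz; norm_num at hz
  -- `P` is abelian, so it lies in the centralizer of `z`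
  have hPH : (P : Subgroup G) ≤ Subgroup.centralizer ({z} : Set G) := by
    intro q hq
    rw [Subgroup.mem_centralizer_singleton_iff]
    have h := mul_comm_of_exponent_two (G := (P : Subgroup G)) IsKleinFour.exponent_two
      ⟨q, hq⟩ ⟨z, hzP⟩
    exact congrArg Subtype.val h
  -- the Sylow subgroup of the centralizer
  have hQK : IsKleinFour ((P.subtype hPH : Sylow 2 (Subgroup.centralizer ({z} : Set G)))
      : Subgroup (Subgroup.centralizer ({z} : Set G))) := by
    rw [Sylow.coe_subtype]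
    have e := Subgroup.subgroupOfEquivOfLe hPH
    exact ⟨by rw [Nat.card_congr e.toEquiv, hcardP],
      by rw [Monoid.exponent_eq_of_mulEquiv e]; exact IsKleinFour.exponent_two⟩
  have hzC : z ∈ Subgroup.centralizer ({z} : Set G) := by
    rw [Subgroup.mem_centralizer_singleton_iff]
  have hnc := index_pPrimeCore_of_kleinFour_central (P.subtype hPH) hQK ⟨z, hzC⟩
    (by rw [Sylow.coe_subtype]; exact Subgroup.mem_subgroupOf.mpr hzP)
    (by intro h; exact hz1 (congrArg Subtype.val h))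
    (by
      intro h
      apply Subtype.ext
      push_cast
      exact (Subgroup.mem_centralizer_singleton_iff.mp h.2).symm)
  have h47 := (Cfsg.Agent.S0947.result 2 M hM z ⟨1, by rw [hz, pow_one]⟩ hz1
    (1 : Subgroup.centralizer ({z} : Set G))
    (by rw [orderOf_one]; norm_num)).2 hnc
  have e1 : z * (((1 : Subgroup.centralizer ({z} : Set G))) : G) = z := by
    push_cast; rw [mul_one]
  rw [e1] at h47
  rw [h47]
  -- the `2`-part of the order of the centralizer is `4`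
  have hG2 : (Nat.card G).factorization 2 = 2 := by
    have := P.card_eq_multiplicity
    rw [hcardP] at this
    have h4 : (4 : ℕ) = 2 ^ 2 := by norm_num
    rw [h4] at this
    exact (Nat.pow_right_injective (le_refl 2) this).symm
  have hH2 : (Nat.card (Subgroup.centralizer ({z} : Set G))).factorization 2 = 2 := by
    apply le_antisymm
    · refine le_trans ?_ (le_of_eq hG2)
      exact (Nat.factorization_le_iff_dvd
        (Nat.card_pos (α := Subgroup.centralizer ({z} : Set G))).ne'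
        (Nat.card_pos (α := G)).ne').mpr
        (Subgroup.card_subgroup_dvd_card _) 2
    · have hdvd : 2 ^ 2 ∣ Nat.card (Subgroup.centralizer ({z} : Set G)) := by
        have h4 : (2 : ℕ) ^ 2 = 4 := by norm_num
        rw [h4, ← hcardP]
        exact Subgroup.card_dvd_of_le hPH
      exact (Nat.Prime.pow_dvd_iff_le_factorization Nat.prime_two Nat.card_pos.ne').mp hdvd
  rw [hH2]
  norm_num

/-- if the squares of integers `n i` (`i ∈ S`) sum to `4` and `n t = 1`, then exactly three further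
members of `S` have `n i ≠ 0`, and there `n i = ± 1` -/
theorem three_of_sum_sq {ι : Type*} [DecidableEq ι] (S : Finset ι) (n : ι → ℤ) (t : ι)
    (ht : t ∈ S) (hnt : n t = 1) (hsum : ∑ i ∈ S, (n i) ^ 2 = 4) :
    ∃ a b c : ι, a ≠ b ∧ a ≠ c ∧ b ≠ c ∧ a ≠ t ∧ b ≠ t ∧ c ≠ t ∧ a ∈ S ∧ b ∈ S ∧ c ∈ S ∧
      (n a = 1 ∨ n a = -1) ∧ (n b = 1 ∨ n b = -1) ∧ (n c = 1 ∨ n c = -1) ∧
      ∀ i ∈ S, n i ≠ 0 → i = t ∨ i = a ∨ i = b ∨ i = c := by
  classical
  obtain ⟨T, hT⟩ : ∃ T : Finset ι, T = (S.filter (fun i => n i ≠ 0)).erase t := ⟨_, rfl⟩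
  have htS' : t ∈ S.filter (fun i => n i ≠ 0) := by
    rw [Finset.mem_filter]; exact ⟨ht, by rw [hnt]; norm_num⟩
  have h1 : ∑ i ∈ S.filter (fun i => n i ≠ 0), (n i) ^ 2 = 4 := by
    rw [← hsum, Finset.sum_filter]
    apply Finset.sum_congr rfl
    intro i _
    by_cases hi : n i = 0
    · rw [if_neg (not_not.mpr hi), hi]; norm_num
    · rw [if_pos hi]
  have h2 : ∑ i ∈ T, (n i) ^ 2 = 3 := by
    have := Finset.add_sum_erase _ (fun i => (n i) ^ 2) htS'
    rw [h1, hnt, ← hT] at this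
    linarith
  have hmemT : ∀ i, i ∈ T ↔ i ≠ t ∧ i ∈ S ∧ n i ≠ 0 := by
    intro i
    rw [hT, Finset.mem_erase, Finset.mem_filter]
  have h3 : ∀ i ∈ T, (n i) ^ 2 = 1 := by
    intro i hi
    by_contra hne
    have hn0 : n i ≠ 0 := ((hmemT i).mp hi).2.2
    have h4 : 4 ≤ (n i) ^ 2 := by
      have habs : 2 ≤ |n i| := by
        by_contra hlt
        push Not at hlt
        have h0 : 0 < |n i| := abs_pos.mpr hn0
        have h1' : |n i| = 1 := by omega
        apply hne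
        rw [← sq_abs, h1']; norm_num
      have : (2 : ℤ) ^ 2 ≤ |n i| ^ 2 := by
        apply pow_le_pow_left₀ (by norm_num) habs
      rw [sq_abs] at this
      linarith
    have h5 : (n i) ^ 2 ≤ ∑ j ∈ T, (n j) ^ 2 :=
      Finset.single_le_sum (f := fun j => (n j) ^ 2) (fun j _ => sq_nonneg _) hi
    rw [h2] at h5
    linarith
  have hcard : T.card = 3 := by
    have : ∑ i ∈ T, (n i) ^ 2 = ∑ _i ∈ T, (1 : ℤ) := Finset.sum_congr rfl h3
    rw [h2, Finset.sum_const, nsmul_eq_mul, mul_one] at this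
    exact_mod_cast this.symm
  obtain ⟨a, b, c, hab, hac, hbc, hTabc⟩ := Finset.card_eq_three.mp hcard
  have haT : a ∈ T := by rw [hTabc]; simp
  have hbT : b ∈ T := by rw [hTabc]; simp
  have hcT : c ∈ T := by rw [hTabc]; simp
  have hpm : ∀ i ∈ T, n i = 1 ∨ n i = -1 := by
    intro i hi
    have := h3 i hi
    have h' : (n i - 1) * (n i + 1) = 0 := by ring_nf; ring_nf at this; linarith
    rcases mul_eq_zero.mp h' with h | h
    · left; linarith
    · right; linarith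
  refine ⟨a, b, c, hab, hac, hbc, ((hmemT a).mp haT).1, ((hmemT b).mp hbT).1,
    ((hmemT c).mp hcT).1, ((hmemT a).mp haT).2.1, ((hmemT b).mp hbT).2.1,
    ((hmemT c).mp hcT).2.1, hpm a haT, hpm b hbT, hpm c hcT, ?_⟩
  intro i hiS hi0
  by_cases hit : i = t
  · left; exact hit
  · right
    have : i ∈ T := (hmemT i).mpr ⟨hit, hiS, hi0⟩
    rw [hTabc] at this
    simpa using this

/-- choosing the signs -/
theorem sign_choice {ι : Type*} [DecidableEq ι] (n d : ι → ℤ) (a b c : ι)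
    (hab : a ≠ b) (hac : a ≠ c) (hbc : b ≠ c)
    (hda : 0 < d a) (hdb : 0 < d b) (hdc : 0 < d c)
    (hna : n a = 1 ∨ n a = -1) (hnb : n b = 1 ∨ n b = -1) (hnc : n c = 1 ∨ n c = -1)
    (hrel : 1 + n a * d a + n b * d b + n c * d c = 0) :
    ∃ a' b' c' : ι, a' ≠ b' ∧ a' ≠ c' ∧ b' ≠ c' ∧ n a' = 1 ∧ n c' = -1 ∧
      (∀ i : ι, (i = a ∨ i = b ∨ i = c) ↔ (i = a' ∨ i = b' ∨ i = c')) := by
  rcases hna with ha | ha <;> rcases hnb with hb | hb <;> rcases hnc with hc | hc
  · exfalso; rw [ha, hb, hc] at hrel; linarith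
  · exact ⟨a, b, c, hab, hac, hbc, ha, hc, fun i => Iff.rfl⟩
  · exact ⟨a, c, b, hac, hab, hbc.symm, ha, hb, fun i => by tauto⟩
  · exact ⟨a, b, c, hab, hac, hbc, ha, hc, fun i => Iff.rfl⟩
  · exact ⟨b, c, a, hbc, hab.symm, hac.symm, hb, ha, fun i => by tauto⟩
  · exact ⟨b, a, c, hab.symm, hbc, hac, hb, hc, fun i => by tauto⟩
  · exact ⟨c, a, b, hac.symm, hbc.symm, hab, hc, hb, fun i => by tauto⟩
  · exfalso; rw [ha, hb, hc] at hrel; linarith

/-- the degree modulo `4` of a character constant on the involutions of a Klein four subgroup -/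
theorem degree_mod_four {G : Type*} [Group G] [Fintype G] (P : Subgroup G)
    (hP : IsKleinFour P) (ζ : Cfsg.IrrCharacter G) (ε : ℤ)
    (hε : ∀ t ∈ P, t ≠ 1 → (ζ : G → ℂ) t = (ε : ℂ)) :
    (4 : ℤ) ∣ (Cfsg.charDegree (ζ : G → ℂ) : ℤ) - ε := by
  classical
  letI : Fintype P := Fintype.ofFinite P
  haveI := hP
  have hcardP : Nat.card P = 4 := IsKleinFour.card_four
  have hζc : Cfsg.IsCharacter G (ζ : G → ℂ) := Cfsg.Agent.Lib.Helper25.isCharacter_of_irr ζ.2
  have h1c : Cfsg.IsCharacter P (fun _ : P => (1 : ℂ)) :=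
    Cfsg.Agent.Lib.Helper25.isCharacter_of_irr (trivIrr P).2
  obtain ⟨m, hm⟩ := classInner_isCharacter_nat (IsCharacter.restrict hζc P) h1c
  unfold Cfsg.classInner at hm
  simp only [map_one, mul_one] at hm
  have hsum : ∑ h : P, (ζ : G → ℂ) (h : G)
      = (Cfsg.charDegree (ζ : G → ℂ) : ℂ) + 3 * (ε : ℂ) := by
    rw [← Finset.add_sum_erase Finset.univ (fun h : P => (ζ : G → ℂ) (h : G))
      (Finset.mem_univ (1 : P))]
    have e1 : (ζ : G → ℂ) (((1 : P)) : G) = (Cfsg.charDegree (ζ : G → ℂ) : ℂ) := by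
      push_cast
      exact Cfsg.Agent.Lib.Helper25.char_one_eq_charDegree hζc
    rw [e1]
    congr 1
    have e2 : ∀ h ∈ (Finset.univ : Finset P).erase 1, (ζ : G → ℂ) (h : G) = (ε : ℂ) := by
      intro h hh
      apply hε _ h.2
      intro h1
      exact (Finset.mem_erase.mp hh).1 (Subtype.ext h1)
    rw [Finset.sum_congr rfl e2, Finset.sum_const, nsmul_eq_mul,
      Finset.card_erase_of_mem (Finset.mem_univ _), Finset.card_univ,
      ← Nat.card_eq_fintype_card, hcardP]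
    norm_num
  rw [hsum, hcardP] at hm
  have h4 : (Cfsg.charDegree (ζ : G → ℂ) : ℂ) + 3 * (ε : ℂ) = 4 * (m : ℂ) := by
    have h40 : ((4 : ℕ) : ℂ) ≠ 0 := by norm_num
    field_simp at hm
    push_cast at hm
    linear_combination hm
  have h4' : (Cfsg.charDegree (ζ : G → ℂ) : ℤ) + 3 * ε = 4 * (m : ℤ) := by
    exact_mod_cast h4
  exact ⟨(m : ℤ) - ε, by linarith⟩

/-- Let the finite group G have a Sylow 2-subgroup P that is a Klein four-group, suppose all involutions of G are conjugate, and fix a maximal ideal M of the algebraic integers containing 2. Then the principal block consists of exactly four irreducible characters, the principal character and ζ₂, ζ₃, ζ₄, and there is a sign ε such that for every involution z: ζ₂ z = 1, ζ₃ z = ε, ζ₄ z = -1; moreover ζ₂ 1 ≡ 1, ζ₃ 1 ≡ ε, ζ₄ 1 ≡ -1 (mod 4), and 1 + ζ₂ y + ε ζ₃ y - ζ₄ y = 0 for every y of odd order. -/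
theorem result {G : Type*} [Group G] [Finite G] (M : Ideal Cfsg.AlgInt) (hM : Cfsg.IsPModular 2 M) (P : Sylow 2 G) (hP : IsKleinFour (P : Subgroup G)) (hone : ∀ s t : G, orderOf s = 2 → orderOf t = 2 → IsConj s t) : ∃ ζ₂ ζ₃ ζ₄ : Cfsg.IrrCharacter G, ∃ ε : ℤ, (ε = 1 ∨ ε = -1) ∧ (ζ₂ : G → ℂ) ≠ (fun _ => 1) ∧ (ζ₃ : G → ℂ) ≠ (fun _ => 1) ∧ ζ₂ ≠ ζ₃ ∧ ζ₂ ≠ ζ₄ ∧ ζ₃ ≠ ζ₄ ∧ Cfsg.principalBlock M G = {χ : Cfsg.IrrCharacter G | (χ : G → ℂ) = (fun _ => 1) ∨ χ = ζ₂ ∨ χ = ζ₃ ∨ χ = ζ₄} ∧ (∀ z : G, orderOf z = 2 → (ζ₂ : G → ℂ) z = 1 ∧ (ζ₃ : G → ℂ) z = (ε : ℂ) ∧ (ζ₄ : G → ℂ) z = -1) ∧ (4 : ℤ) ∣ (Cfsg.charDegree (ζ₂ : G → ℂ) : ℤ) - 1 ∧ (4 : ℤ) ∣ (Cfsg.charDegree (ζ₃ : G → ℂ) : ℤ) - ε ∧ (4 : ℤ) ∣ (Cfsg.charDegree (ζ₄ : G → ℂ) : ℤ) + 1 ∧ ∀ y : G, Odd (orderOf y) → 1 + (ζ₂ : G → ℂ) y + (ε : ℂ) * (ζ₃ : G → ℂ) y - (ζ₄ : G → ℂ) y = 0 := by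
  classical
  letI : Fintype G := Fintype.ofFinite G
  haveI : Fact (Nat.Prime 2) := ⟨Nat.prime_two⟩
  haveI : Fintype (Cfsg.IrrCharacter G) := Fintype.ofFinite _
  haveI := hP
  have hcardP : Nat.card (P : Subgroup G) = 4 := IsKleinFour.card_four
  obtain ⟨z', hz'⟩ : ∃ z' : (P : Subgroup G), orderOf z' = 2 :=
    exists_prime_orderOf_dvd_card' 2 (by rw [hcardP]; norm_num)
  obtain ⟨z, hzdef⟩ : ∃ z : G, z = (z' : G) := ⟨_, rfl⟩
  have hz : orderOf z = 2 := by rw [hzdef, Subgroup.orderOf_coe]; exact hz'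
  have hzP : z ∈ (P : Subgroup G) := by rw [hzdef]; exact z'.2
  have hsq := sum_sq_eq_four M hM P hP z hzP hz
  -- integer values
  have hint : ∀ ζ : Cfsg.IrrCharacter G, ∃ n : ℤ, (ζ : G → ℂ) z = (n : ℂ) ∧
      (2 : ℤ) ∣ (Cfsg.charDegree (ζ : G → ℂ) : ℤ) - n := fun ζ => Cfsg.Agent.S0944.result ζ z hz
  choose n hn _hpar using hint
  have hinv : ∀ (ζ : Cfsg.IrrCharacter G) (t : G), orderOf t = 2 → (ζ : G → ℂ) t = (n ζ : ℂ) := by
    intro ζ t ht
    obtain ⟨c, hc⟩ := isConj_iff.mp (hone z t hz ht)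
    rw [← hc, IrrCharacter.isClassFunction ζ z c, hn]
  -- the principal block as a finset
  obtain ⟨S, hS⟩ : ∃ S : Finset (Cfsg.IrrCharacter G),
      S = Finset.univ.filter (fun ζ => ζ ∈ Cfsg.principalBlock M G) := ⟨_, rfl⟩
  have hSmem : ∀ ζ, ζ ∈ S ↔ ζ ∈ Cfsg.principalBlock M G := by
    intro ζ; rw [hS, Finset.mem_filter]; simp
  have hsumZ : ∑ ζ ∈ S, (n ζ) ^ 2 = 4 := by
    have h : ((∑ ζ ∈ S, (n ζ) ^ 2 : ℤ) : ℝ) = 4 := by
      rw [← hsq, Cfsg.Agent.S0947.finsum_mem_eq_sum_ite_real, hS, Finset.sum_filter]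
      push_cast
      apply Finset.sum_congr rfl
      intro ζ _
      by_cases h : ζ ∈ Cfsg.principalBlock M G
      · rw [if_pos h, if_pos h, hn ζ, Complex.norm_intCast, sq_abs]
      · rw [if_neg h, if_neg h]
    exact_mod_cast h
  have htS : trivIrr G ∈ S := (hSmem _).mpr (trivIrr_mem_principalBlock hM)
  have hnt : n (trivIrr G) = 1 := by
    have h := hn (trivIrr G)
    have h1 : ((trivIrr G : Cfsg.IrrCharacter G) : G → ℂ) z = 1 := rfl
    rw [h1] at h
    exact_mod_cast h.symm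
  obtain ⟨a, b, c, hab, hac, hbc, hat, hbt, hct, haS, hbS, hcS, hna, hnb, hnc, hall⟩ :=
    three_of_sum_sq S n (trivIrr G) htS hnt hsumZ
  -- the degrees
  obtain ⟨d, hd⟩ : ∃ d : Cfsg.IrrCharacter G → ℤ,
      d = fun (ζ : Cfsg.IrrCharacter G) => (Cfsg.charDegree (ζ : G → ℂ) : ℤ) := ⟨_, rfl⟩
  have hdpos : ∀ ζ, 0 < d ζ := by
    intro ζ; rw [hd]
    show (0 : ℤ) < (Cfsg.charDegree (ζ : G → ℂ) : ℤ)
    exact_mod_cast irr_charDegree_pos ζ
  have hdeg : ∀ ζ : Cfsg.IrrCharacter G, (ζ : G → ℂ) 1 = (d ζ : ℂ) := by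
    intro ζ
    rw [hd, Cfsg.Agent.Lib.Helper25.char_one_eq_charDegree
      (Cfsg.Agent.Lib.Helper25.isCharacter_of_irr ζ.2)]
    push_cast; rfl
  -- weak block orthogonality
  have hortho : ∀ y : G, ¬ 2 ∣ orderOf y →
      ∑ ζ ∈ S, (ζ : G → ℂ) y * (n ζ : ℂ) = 0 := by
    intro y hy
    have h := weak_block_orthogonality hM (Cfsg.principalBlock M G) isPBlock_principalBlock y z hy
      (by rw [hz])
    rw [finsum_mem_eq_sum_ite] at h
    rw [hS, Finset.sum_filter]
    refine Eq.trans ?_ h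
    apply Finset.sum_congr rfl
    intro ζ _
    by_cases hζ : ζ ∈ Cfsg.principalBlock M G
    · rw [if_pos hζ, if_pos hζ, hn ζ, map_intCast]
    · rw [if_neg hζ, if_neg hζ]
  have hfour : ∀ (f : Cfsg.IrrCharacter G → ℂ), (∀ ζ ∈ S, n ζ = 0 → f ζ = 0) →
      ∑ ζ ∈ S, f ζ = f (trivIrr G) + f a + f b + f c := by
    intro f hf
    have hsub : ({trivIrr G, a, b, c} : Finset (Cfsg.IrrCharacter G)) ⊆ S := by
      intro x hx
      simp only [Finset.mem_insert, Finset.mem_singleton] at hx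
      rcases hx with rfl | rfl | rfl | rfl
      · exact htS
      · exact haS
      · exact hbS
      · exact hcS
    rw [← Finset.sum_subset hsub]
    · rw [Finset.sum_insert, Finset.sum_insert, Finset.sum_insert, Finset.sum_singleton]
      · ring
      · simp only [Finset.mem_singleton]; exact hbc
      · simp only [Finset.mem_insert, Finset.mem_singleton]; push Not; exact ⟨hab, hac⟩
      · simp only [Finset.mem_insert, Finset.mem_singleton]; push Not
        exact ⟨hat.symm, hbt.symm, hct.symm⟩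
    · intro x hxS hx
      apply hf x hxS
      by_contra h0
      apply hx
      rcases hall x hxS h0 with rfl | rfl | rfl | rfl <;> simp
  have hrel : 1 + n a * d a + n b * d b + n c * d c = 0 := by
    have h1 := hortho 1 (by rw [orderOf_one]; norm_num)
    rw [hfour (fun ζ => (ζ : G → ℂ) 1 * (n ζ : ℂ))
      (fun ζ _ h0 => by simp only [h0]; push_cast; ring)] at h1
    simp only [hdeg, hnt] at h1
    have h2 : d (trivIrr G) = 1 := by
      have := hdeg (trivIrr G)
      have h1' : ((trivIrr G : Cfsg.IrrCharacter G) : G → ℂ) 1 = 1 := rfl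
      rw [h1'] at this
      exact_mod_cast this.symm
    rw [h2] at h1
    have h3 : ((1 + n a * d a + n b * d b + n c * d c : ℤ) : ℂ) = 0 := by
      push_cast
      linear_combination h1
    exact_mod_cast h3
  obtain ⟨ζ₂, ζ₃, ζ₄, h23, h24, h34, hn2, hn4, hiff⟩ :=
    sign_choice n d a b c hab hac hbc (hdpos a) (hdpos b) (hdpos c) hna hnb hnc hrel
  have hmem2 : ζ₂ = a ∨ ζ₂ = b ∨ ζ₂ = c := (hiff ζ₂).mpr (Or.inl rfl)
  have hmem3 : ζ₃ = a ∨ ζ₃ = b ∨ ζ₃ = c := (hiff ζ₃).mpr (Or.inr (Or.inl rfl))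
  have hmem4 : ζ₄ = a ∨ ζ₄ = b ∨ ζ₄ = c := (hiff ζ₄).mpr (Or.inr (Or.inr rfl))
  have hprop : ∀ ζ : Cfsg.IrrCharacter G, (ζ = a ∨ ζ = b ∨ ζ = c) →
      ζ ≠ trivIrr G ∧ ζ ∈ S ∧ (n ζ = 1 ∨ n ζ = -1) := by
    intro ζ h
    rcases h with rfl | rfl | rfl
    · exact ⟨hat, haS, hna⟩
    · exact ⟨hbt, hbS, hnb⟩
    · exact ⟨hct, hcS, hnc⟩
  have hne_triv : ∀ ζ : Cfsg.IrrCharacter G, ζ ≠ trivIrr G → (ζ : G → ℂ) ≠ (fun _ => 1) := by
    intro ζ h h'
    apply h
    exact Subtype.ext h'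
  have hG2 : 0 < Cfsg.blockDefect 2 (Cfsg.principalBlock M G) := by
    rw [blockDefect_principalBlock hM]
    have := P.card_eq_multiplicity
    rw [hcardP] at this
    by_contra h0
    push Not at h0
    have h00 : (Nat.card G).factorization 2 = 0 := by omega
    rw [h00] at this
    norm_num at this
  have hsum4 : ∀ (f : Cfsg.IrrCharacter G → ℂ),
      f a + f b + f c = f ζ₂ + f ζ₃ + f ζ₄ := by
    intro f
    have e1 : ({a, b, c} : Finset (Cfsg.IrrCharacter G)) = {ζ₂, ζ₃, ζ₄} := by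
      ext i
      simp only [Finset.mem_insert, Finset.mem_singleton]
      exact hiff i
    have s1 : ∑ i ∈ ({a, b, c} : Finset (Cfsg.IrrCharacter G)), f i = f a + f b + f c := by
      rw [Finset.sum_insert, Finset.sum_insert, Finset.sum_singleton]
      · ring
      · simp only [Finset.mem_singleton]; exact hbc
      · simp only [Finset.mem_insert, Finset.mem_singleton]; push Not; exact ⟨hab, hac⟩
    have s2 : ∑ i ∈ ({ζ₂, ζ₃, ζ₄} : Finset (Cfsg.IrrCharacter G)), f i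
        = f ζ₂ + f ζ₃ + f ζ₄ := by
      rw [Finset.sum_insert, Finset.sum_insert, Finset.sum_singleton]
      · ring
      · simp only [Finset.mem_singleton]; exact h34
      · simp only [Finset.mem_insert, Finset.mem_singleton]; push Not; exact ⟨h23, h24⟩
    rw [← s1, ← s2, e1]
  refine ⟨ζ₂, ζ₃, ζ₄, n ζ₃, (hprop ζ₃ hmem3).2.2, hne_triv ζ₂ (hprop ζ₂ hmem2).1,
    hne_triv ζ₃ (hprop ζ₃ hmem3).1, h23, h24, h34, ?_, ?_, ?_, ?_, ?_, ?_⟩
  · -- the principal block
    ext χ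
    show χ ∈ Cfsg.principalBlock M G
      ↔ ((χ : G → ℂ) = (fun _ => 1) ∨ χ = ζ₂ ∨ χ = ζ₃ ∨ χ = ζ₄)
    constructor
    · intro hχ
      by_cases h0 : n χ = 0
      · exfalso
        have hBe := eq_blockOf_of_mem hM isPBlock_principalBlock hχ
        rw [hBe] at hG2
        obtain ⟨g, hg, hne⟩ := exists_orderOf_eq_prime_ne_zero hM χ hG2
        apply hne
        rw [hinv χ g hg, h0]
        simp
      · rcases hall χ ((hSmem χ).mpr hχ) h0 with rfl | h
        · left; rfl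
        · right; exact (hiff χ).mp h
    · rintro (h | rfl | rfl | rfl)
      · have : χ = trivIrr G := Subtype.ext h
        rw [this]; exact trivIrr_mem_principalBlock hM
      · exact (hSmem _).mp (hprop _ hmem2).2.1
      · exact (hSmem _).mp (hprop _ hmem3).2.1
      · exact (hSmem _).mp (hprop _ hmem4).2.1
  · intro t ht
    refine ⟨?_, hinv ζ₃ t ht, ?_⟩
    · rw [hinv ζ₂ t ht, hn2]; simp
    · rw [hinv ζ₄ t ht, hn4]; simp
  · have := degree_mod_four (P : Subgroup G) hP ζ₂ 1 (by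
      intro t htP ht1
      have hto : orderOf t = 2 := by
        have h2 : t ^ 2 = 1 := by
          have := Monoid.pow_exponent_eq_one (⟨t, htP⟩ : (P : Subgroup G))
          rw [IsKleinFour.exponent_two] at this
          exact congrArg Subtype.val this
        exact orderOf_eq_prime h2 ht1
      rw [hinv ζ₂ t hto, hn2])
    exact this
  · exact degree_mod_four (P : Subgroup G) hP ζ₃ (n ζ₃) (by
      intro t htP ht1
      have hto : orderOf t = 2 := by
        have h2 : t ^ 2 = 1 := by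
          have := Monoid.pow_exponent_eq_one (⟨t, htP⟩ : (P : Subgroup G))
          rw [IsKleinFour.exponent_two] at this
          exact congrArg Subtype.val this
        exact orderOf_eq_prime h2 ht1
      exact hinv ζ₃ t hto)
  · have := degree_mod_four (P : Subgroup G) hP ζ₄ (-1) (by
      intro t htP ht1
      have hto : orderOf t = 2 := by
        have h2 : t ^ 2 = 1 := by
          have := Monoid.pow_exponent_eq_one (⟨t, htP⟩ : (P : Subgroup G))
          rw [IsKleinFour.exponent_two] at this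
          exact congrArg Subtype.val this
        exact orderOf_eq_prime h2 ht1
      rw [hinv ζ₄ t hto, hn4])
    rw [sub_neg_eq_add] at this
    exact this
  · intro y hy
    have hy2 : ¬ 2 ∣ orderOf y := by
      intro h
      exact (Nat.not_even_iff_odd.mpr hy) (even_iff_two_dvd.mpr h)
    have h1 := hortho y hy2
    rw [hfour (fun ζ => (ζ : G → ℂ) y * (n ζ : ℂ))
      (fun ζ _ h0 => by simp only [h0]; push_cast; ring)] at h1
    have h2 := hsum4 (fun ζ => (ζ : G → ℂ) y * (n ζ : ℂ))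
    have h3 : ((trivIrr G : Cfsg.IrrCharacter G) : G → ℂ) y = 1 := rfl
    rw [add_assoc, add_assoc] at h1
    rw [add_assoc] at h2
    rw [h2, h3, hnt, hn2, hn4] at h1
    push_cast at h1
    linear_combination h1

end Cfsg.Agent.S0948
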