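import Cfsg.Statements.S3277
import Cfsg.Agent.S3276
import Cfsg.Agent.S3278
import Cfsg.Agent.Lib.Helper7.NormalComplement

set_option autoImplicit false
set_option linter.unusedSectionVars false
open Cfsg

namespace Cfsg.Agent.S3277

open scoped Pointwise

variable {G : Type*} [Group G] [Finite G]

/-- a group of exponent two is commutative (elementwise form) -/
theorem comm_of_sq {a b : G} (ha : a ^ 2 = 1) (hb : b ^ 2 = 1) (hab : (a * b) ^ 2 = 1) :
    a * b = b * a := by
  have ha' : a⁻¹ = a := by
    rw [inv_eq_iff_mul_eq_one, ← pow_two, ha]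
  have hb' : b⁻¹ = b := by
    rw [inv_eq_iff_mul_eq_one, ← pow_two, hb]
  have h1 : (a * b)⁻¹ = a * b := by
    rw [inv_eq_iff_mul_eq_one, ← pow_two, hab]
  rw [mul_inv_rev, ha', hb'] at h1
  exact h1.symm

theorem orderOf_conj' (g a : G) : orderOf (g * a * g⁻¹) = orderOf a := by
  have := orderOf_injective (MulAut.conj g).toMonoidHom (MulAut.conj g).injective a
  simpa using this

section setup

variable (x : G) (hx : orderOf x = 2)
  (hC4 : Nat.card ↥(Subgroup.centralizer ({x} : Set G)) = 4)
  (hCe : ∀ c ∈ Subgroup.centralizer ({x} : Set G), c ^ 2 = 1)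

include hCe in
theorem cent_comm {a b : G} (ha : a ∈ Subgroup.centralizer ({x} : Set G))
    (hb : b ∈ Subgroup.centralizer ({x} : Set G)) : a * b = b * a :=
  comm_of_sq (hCe a ha) (hCe b hb) (hCe _ (mul_mem ha hb))

include hx in
theorem x_mem : x ∈ Subgroup.centralizer ({x} : Set G) :=
  Subgroup.mem_centralizer_singleton_iff.mpr rfl

include hx in
theorem x_ne_one : x ≠ 1 := by
  intro h
  rw [h, orderOf_one] at hx
  omega

include hx hC4 hCe in
/-- the centralizer of a conjugate of `x` lying in `C` is `C` -/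
theorem cent_eq_of_conj {c : G} (hc : c ∈ Subgroup.centralizer ({x} : Set G)) (hconj : IsConj x c) :
    Subgroup.centralizer ({c} : Set G) = Subgroup.centralizer ({x} : Set G) := by
  obtain ⟨g, hg⟩ := isConj_iff.mp hconj
  subst hg
  symm
  apply Subgroup.eq_of_le_of_card_ge
  · intro a ha
    rw [Subgroup.mem_centralizer_singleton_iff]
    exact cent_comm x hCe ha hc
  · -- injection
    let f : ↥(Subgroup.centralizer ({g * x * g⁻¹} : Set G)) → ↥(Subgroup.centralizer ({x} : Set G)) :=
      fun a => ⟨g⁻¹ * a.1 * g, by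
        have h := a.2
        rw [Subgroup.mem_centralizer_singleton_iff] at h ⊢
        have h2 : g⁻¹ * (a.1 * (g * x * g⁻¹)) * g = g⁻¹ * ((g * x * g⁻¹) * a.1) * g := by rw [h]
        calc g⁻¹ * a.1 * g * x = g⁻¹ * (a.1 * (g * x * g⁻¹)) * g := by group
          _ = g⁻¹ * ((g * x * g⁻¹) * a.1) * g := h2
          _ = x * (g⁻¹ * a.1 * g) := by group⟩
    have hf : Function.Injective f := by
      intro a b hab
      have h := congrArg Subtype.val hab
      simp only [f] at h
      apply Subtype.ext
      have h2 : g * (g⁻¹ * a.1 * g) * g⁻¹ = g * (g⁻¹ * b.1 * g) * g⁻¹ := by rw [h]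
      calc a.1 = g * (g⁻¹ * a.1 * g) * g⁻¹ := by group
        _ = g * (g⁻¹ * b.1 * g) * g⁻¹ := h2
        _ = b.1 := by group
    exact Nat.card_le_card_of_injective f hf

include hx hC4 in
/-- enumeration of the four elements of `C` -/
theorem enum {y : G} (hy : y ∈ Subgroup.centralizer ({x} : Set G)) (hy1 : y ≠ 1) (hyx : y ≠ x)
    {u : G} (hu : u ∈ Subgroup.centralizer ({x} : Set G)) : u = 1 ∨ u = x ∨ u = y ∨ u = x * y := by
  classical
  have hx1 : x ≠ 1 := x_ne_one x hx
  have hxy1 : x * y ≠ 1 := by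
    intro h
    have hx2 : x * x = 1 := by rw [← pow_two, ← hx, pow_orderOf_eq_one]
    have : y = x := by
      have h3 : x * y = x * x := by rw [h, hx2]
      exact mul_left_cancel h3
    exact hyx this
  have hxyx : x * y ≠ x := by
    intro h
    exact hy1 (mul_left_cancel (a := x) (by rw [h, mul_one]))
  have hxyy : x * y ≠ y := by
    intro h
    exact hx1 (mul_right_cancel (b := y) (by rw [h, one_mul]))
  let s : Finset G := {1, x, y, x * y}
  have hs : s.card = 4 := by
    simp only [s]
    rw [Finset.card_insert_of_notMem, Finset.card_insert_of_notMem, Finset.card_insert_of_notMem,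
      Finset.card_singleton]
    · simp only [Finset.mem_singleton]; exact fun h => hxyy h.symm
    · simp only [Finset.mem_insert, Finset.mem_singleton]
      rintro (h | h)
      · exact hyx h.symm
      · exact hxyx h.symm
    · simp only [Finset.mem_insert, Finset.mem_singleton]
      rintro (h | h | h)
      · exact hx1 h.symm
      · exact hy1 h.symm
      · exact hxy1 h.symm
  have hsub : (↑s : Set G) ⊆ (↑(Subgroup.centralizer ({x} : Set G)) : Set G) := by
    intro a ha
    simp only [s, Finset.coe_insert, Finset.coe_singleton, Set.mem_insert_iff,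
      Set.mem_singleton_iff] at ha
    rcases ha with rfl | rfl | rfl | rfl
    · exact one_mem _
    · exact x_mem a hx
    · exact hy
    · exact mul_mem (x_mem _ hx) hy
  have hcard : (↑(Subgroup.centralizer ({x} : Set G)) : Set G).ncard ≤ (↑s : Set G).ncard := by
    rw [Set.ncard_coe_finset, hs, ← hC4]
    exact le_of_eq (Nat.card_coe_set_eq _).symm
  have heq := Set.eq_of_subset_of_ncard_le hsub hcard (Set.toFinite _)
  have : u ∈ (↑s : Set G) := by rw [heq]; exact hu
  simpa [s] using this


include hx hC4 in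
theorem exists_third : ∃ y ∈ Subgroup.centralizer ({x} : Set G), y ≠ 1 ∧ y ≠ x := by
  by_contra hcon
  push Not at hcon
  have hsub : (↑(Subgroup.centralizer ({x} : Set G)) : Set G) ⊆ ({1, x} : Set G) := by
    intro u hu
    by_cases h1 : u = 1
    · simp [h1]
    · have := hcon u hu h1
      simp [this]
  have h1 : (↑(Subgroup.centralizer ({x} : Set G)) : Set G).ncard ≤ ({1, x} : Set G).ncard :=
    Set.ncard_le_ncard hsub (Set.toFinite _)
  have h2 : ({1, x} : Set G).ncard ≤ 2 := by
    have := Set.ncard_insert_le (1 : G) ({x} : Set G)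
    rw [Set.ncard_singleton] at this
    exact this
  have h3 : (↑(Subgroup.centralizer ({x} : Set G)) : Set G).ncard = 4 := by
    rw [← hC4]; exact (Nat.card_coe_set_eq _).symm
  omega

omit [Finite G] in
theorem orderOf_dvd_two_of_sq {n : G} (h : n ^ 2 = 1) : orderOf n ∣ 2 := orderOf_dvd_of_pow_eq_one h

theorem eq_one_of_sq_of_odd {N : Subgroup G} (hodd : Odd (Nat.card N)) {n : G} (hn : n ∈ N)
    (h : n ^ 2 = 1) : n = 1 := by
  have h1 : orderOf n ∣ 2 := orderOf_dvd_of_pow_eq_one h
  have h2 : orderOf n ∣ Nat.card N := by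
    have : orderOf (⟨n, hn⟩ : N) = orderOf n := Subgroup.orderOf_mk n hn
    rw [← this]
    exact orderOf_dvd_natCard _
  have h3 : orderOf n ∣ Nat.gcd 2 (Nat.card N) := Nat.dvd_gcd h1 h2
  have h4 : Nat.gcd 2 (Nat.card N) = 1 := by
    rw [Nat.coprime_two_left.mpr hodd]
  rw [h4, Nat.dvd_one, orderOf_eq_one_iff] at h3
  exact h3

theorem inverts_of_fpf (c : G) (hc : c * c = 1) (N : Subgroup G) [hN : N.Normal]
    (hfix : ∀ n ∈ N, c * n = n * c → n = 1) : ∀ n ∈ N, c * n * c⁻¹ = n⁻¹ := by
  have hcinv : c⁻¹ = c := inv_eq_of_mul_eq_one_right hc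
  let f : N → N := fun m => ⟨m.1⁻¹ * (c * m.1 * c⁻¹), N.mul_mem (N.inv_mem m.2) (hN.conj_mem _ m.2 c)⟩
  have hf : Function.Injective f := by
    intro m m' h
    have h1 : m.1⁻¹ * (c * m.1 * c⁻¹) = m'.1⁻¹ * (c * m'.1 * c⁻¹) := congrArg Subtype.val h
    have h2 : c * (m'.1 * m.1⁻¹) = (m'.1 * m.1⁻¹) * c := by
      have this : m'.1 * (m.1⁻¹ * (c * m.1 * c⁻¹)) * c = m'.1 * (m'.1⁻¹ * (c * m'.1 * c⁻¹)) * c := by
        rw [h1]
      have h3 : m'.1 * m.1⁻¹ * c * m.1 = c * m'.1 := by
        calc m'.1 * m.1⁻¹ * c * m.1 = m'.1 * (m.1⁻¹ * (c * m.1 * c⁻¹)) * c := by group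
          _ = m'.1 * (m'.1⁻¹ * (c * m'.1 * c⁻¹)) * c := this
          _ = c * m'.1 := by group
      calc c * (m'.1 * m.1⁻¹) = (c * m'.1) * m.1⁻¹ := by group
        _ = (m'.1 * m.1⁻¹ * c * m.1) * m.1⁻¹ := by rw [h3]
        _ = (m'.1 * m.1⁻¹) * c := by group
    have h4 := hfix _ (N.mul_mem m'.2 (N.inv_mem m.2)) h2
    apply Subtype.ext
    rw [mul_inv_eq_one] at h4
    exact h4.symm
  have hs : Function.Surjective f := Finite.injective_iff_surjective.mp hf
  intro n hn
  obtain ⟨m, hm⟩ := hs ⟨n, hn⟩
  have hm' : m.1⁻¹ * (c * m.1 * c⁻¹) = n := congrArg Subtype.val hm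
  rw [← hm', hcinv]
  have h5 : (m.1⁻¹ * (c * m.1 * c))⁻¹ = c⁻¹ * m.1⁻¹ * c⁻¹ * m.1 := by group
  rw [h5, hcinv]
  calc c * (m.1⁻¹ * (c * m.1 * c)) * c = c * m.1⁻¹ * c * m.1 * (c * c) := by group
    _ = c * m.1⁻¹ * c * m.1 := by rw [hc, mul_one]

include hx hC4 hCe in
/-- Case B: no nontrivial normal subgroup of odd order. -/
theorem odd_normal_eq_bot
    (hall : ∀ c ∈ Subgroup.centralizer ({x} : Set G), c ≠ 1 →
      Subgroup.centralizer ({c} : Set G) = Subgroup.centralizer ({x} : Set G))
    (N : Subgroup G) [hN : N.Normal] (hodd : Odd (Nat.card N)) : N = ⊥ := by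
  obtain ⟨y, hy, hy1, hyx⟩ := exists_third x hx hC4
  have hx1 := x_ne_one x hx
  have hxm := x_mem x hx
  have hxy : x * y ∈ Subgroup.centralizer ({x} : Set G) := mul_mem hxm hy
  have hxy1 : x * y ≠ 1 := by
    intro h
    have hx2 : x * x = 1 := by rw [← pow_two, ← hx, pow_orderOf_eq_one]
    exact hyx (mul_left_cancel (a := x) (by rw [h, hx2]))
  have hfix : ∀ c ∈ Subgroup.centralizer ({x} : Set G), c ≠ 1 → ∀ n ∈ N, c * n = n * c → n = 1 := by
    intro c hc hc1 n hn hcomm
    have : n ∈ Subgroup.centralizer ({c} : Set G) := by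
      rw [Subgroup.mem_centralizer_singleton_iff]; exact hcomm.symm
    rw [hall c hc hc1] at this
    exact eq_one_of_sq_of_odd hodd hn (hCe n this)
  have sq : ∀ c ∈ Subgroup.centralizer ({x} : Set G), c * c = 1 := fun c hc => by
    rw [← pow_two]; exact hCe c hc
  have ix := inverts_of_fpf x (sq x hxm) N (hfix x hxm hx1)
  have iy := inverts_of_fpf y (sq y hy) N (hfix y hy hy1)
  have ixy := inverts_of_fpf (x * y) (sq _ hxy) N (hfix _ hxy hxy1)
  rw [Subgroup.eq_bot_iff_forall]
  intro n hn
  have h1 : (x * y) * n * (x * y)⁻¹ = n := by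
    calc (x * y) * n * (x * y)⁻¹ = x * (y * n * y⁻¹) * x⁻¹ := by group
      _ = x * n⁻¹ * x⁻¹ := by rw [iy n hn]
      _ = (n⁻¹)⁻¹ := ix n⁻¹ (N.inv_mem hn)
      _ = n := inv_inv n
  have h2 : n⁻¹ = n := by rw [← ixy n hn, h1]
  have h3 : n ^ 2 = 1 := by
    rw [pow_two]
    calc n * n = n⁻¹ * n := by rw [h2]
      _ = 1 := inv_mul_cancel n
  exact eq_one_of_sq_of_odd hodd hn h3

include hx hC4 in
/-- Case B: `C` is a Sylow 2-subgroup. -/
theorem exists_sylow_eq
    (hall : ∀ c ∈ Subgroup.centralizer ({x} : Set G), c ≠ 1 →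
      Subgroup.centralizer ({c} : Set G) = Subgroup.centralizer ({x} : Set G)) :
    ∃ P : Sylow 2 G, (P : Subgroup G) = Subgroup.centralizer ({x} : Set G) := by
  have hpg : IsPGroup 2 ↥(Subgroup.centralizer ({x} : Set G)) :=
    IsPGroup.of_card (n := 2) (by rw [hC4]; norm_num)
  obtain ⟨P, hP⟩ := hpg.exists_le_sylow
  refine ⟨P, le_antisymm ?_ hP⟩
  have hxP : x ∈ (P : Subgroup G) := hP (x_mem x hx)
  haveI : Nontrivial ↥(P : Subgroup G) :=
    ⟨⟨⟨x, hxP⟩, 1, fun h => x_ne_one x hx (congrArg Subtype.val h)⟩⟩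
  haveI := P.isPGroup'.center_nontrivial
  obtain ⟨z, hz⟩ := exists_ne (1 : ↥(Subgroup.center ↥(P : Subgroup G)))
  have hzc : ∀ g : ↥(P : Subgroup G), g * z.1 = z.1 * g := Subgroup.mem_center_iff.mp z.2
  have hzx : z.1.1 ∈ Subgroup.centralizer ({x} : Set G) := by
    rw [Subgroup.mem_centralizer_singleton_iff]
    have := congrArg Subtype.val (hzc ⟨x, hxP⟩)
    exact this.symm
  have hz1 : z.1.1 ≠ 1 := by
    intro h
    apply hz
    apply Subtype.ext
    apply Subtype.ext
    exact h
  have := hall _ hzx hz1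
  rw [← this]
  intro q hq
  rw [Subgroup.mem_centralizer_singleton_iff]
  exact congrArg Subtype.val (hzc ⟨q, hq⟩)


include hx hC4 hCe in
/-- Case B: all involutions of `C` conjugate to `x` forces `G` simple. -/
theorem simple_B
    (hne : ∀ E : Subgroup G, E.Normal → Cfsg.IsElementaryAbelian 2 E →
      Nat.card ↥E ≠ 2 ∧ Nat.card ↥E ≠ 4)
    (hconj : ∀ c ∈ Subgroup.centralizer ({x} : Set G), c ≠ 1 → IsConj x c) : IsSimpleGroup G := by
  have hall : ∀ c ∈ Subgroup.centralizer ({x} : Set G), c ≠ 1 →
      Subgroup.centralizer ({c} : Set G) = Subgroup.centralizer ({x} : Set G) :=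
    fun c hc hc1 => cent_eq_of_conj x hx hC4 hCe hc (hconj c hc hc1)
  obtain ⟨P, hP⟩ := exists_sylow_eq x hx hC4 hall
  have hx1 := x_ne_one x hx
  have hxm := x_mem x hx
  haveI : Nontrivial G := ⟨⟨x, 1, hx1⟩⟩
  refine IsSimpleGroup.mk ?_
  intro N hN
  by_contra hcon
  push Not at hcon
  obtain ⟨hNbot, hNtop⟩ := hcon
  have h2 : 2 ∣ Nat.card N := by
    by_contra h
    exact hNbot (odd_normal_eq_bot x hx hC4 hCe hall N (Nat.odd_iff.mpr (by omega)))
  -- `C ≤ N`
  have hCN : Subgroup.centralizer ({x} : Set G) ≤ N := by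
    obtain ⟨n, hn⟩ := exists_prime_orderOf_dvd_card' 2 h2
    have hn2 : orderOf n.1 = 2 := by rw [← hn]; exact Subgroup.orderOf_coe n
    have hpg : IsPGroup 2 ↥(Subgroup.zpowers n.1) :=
      IsPGroup.of_card (n := 1) (by rw [Nat.card_zpowers, hn2]; norm_num)
    obtain ⟨Q, hQ⟩ := hpg.exists_le_sylow
    obtain ⟨g, hg⟩ := MulAction.exists_smul_eq G Q P
    have h3 := Subgroup.smul_mem_pointwise_smul _ (MulAut.conj g) (Q : Subgroup G)
      (hQ (Subgroup.mem_zpowers n.1))
    rw [← Sylow.pointwise_smul_def, ← Sylow.smul_def, hg, MulAut.smul_def, MulAut.conj_apply, hP] at h3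
    have h4 : g * n.1 * g⁻¹ ∈ N := hN.conj_mem _ n.2 g
    have h5 : g * n.1 * g⁻¹ ≠ 1 := by
      intro h
      have : orderOf (g * n.1 * g⁻¹) = 2 := by rw [orderOf_conj', hn2]
      rw [h, orderOf_one] at this
      omega
    have hxN : x ∈ N := by
      obtain ⟨h, hh⟩ := isConj_iff.mp (hconj _ h3 h5)
      have : x = h⁻¹ * (g * n.1 * g⁻¹) * h⁻¹⁻¹ := by rw [← hh]; group
      rw [this]
      exact hN.conj_mem _ h4 h⁻¹
    intro c hc
    by_cases hc1 : c = 1
    · rw [hc1]; exact one_mem _
    · obtain ⟨h, hh⟩ := isConj_iff.mp (hconj c hc hc1)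
      rw [← hh]
      exact hN.conj_mem _ hxN h
  have hPN : (P : Subgroup G) ≤ N := by rw [hP]; exact hCN
  -- Step 3
  have hNC : ∀ n ∈ N, (∀ h ∈ Subgroup.centralizer ({x} : Set G),
      n * h * n⁻¹ ∈ Subgroup.centralizer ({x} : Set G)) → n ∈ Subgroup.centralizer ({x} : Set G) := by
    intro n hnN hnorm
    by_contra hnC
    apply hNtop
    have hy : n * x * n⁻¹ ∈ Subgroup.centralizer ({x} : Set G) := hnorm x hxm
    have hy1 : n * x * n⁻¹ ≠ 1 := by
      intro h
      apply hx1
      have : x = n⁻¹ * (n * x * n⁻¹) * n := by group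
      rw [this, h]; group
    have hyx : n * x * n⁻¹ ≠ x := by
      intro h
      apply hnC
      rw [Subgroup.mem_centralizer_singleton_iff]
      calc n * x = (n * x * n⁻¹) * n := by group
        _ = x * n := by rw [h]
    have hz : n * (n * x * n⁻¹) * n⁻¹ ∈ Subgroup.centralizer ({x} : Set G) := hnorm _ hy
    have hz1 : n * (n * x * n⁻¹) * n⁻¹ ≠ 1 := by
      intro h
      apply hy1
      have : n * x * n⁻¹ = n⁻¹ * (n * (n * x * n⁻¹) * n⁻¹) * n := by group
      rw [this, h]; group
    have hzy : n * (n * x * n⁻¹) * n⁻¹ ≠ n * x * n⁻¹ := by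
      intro h
      apply hyx
      have h' : n⁻¹ * (n * (n * x * n⁻¹) * n⁻¹) * n = n⁻¹ * (n * x * n⁻¹) * n := by rw [h]
      calc n * x * n⁻¹ = n⁻¹ * (n * (n * x * n⁻¹) * n⁻¹) * n := by group
        _ = n⁻¹ * (n * x * n⁻¹) * n := h'
        _ = x := by group
    have hxy1 : x * (n * x * n⁻¹) ≠ 1 := by
      intro h
      have hx2 : x * x = 1 := by rw [← pow_two, ← hx, pow_orderOf_eq_one]
      exact hyx (mul_left_cancel (a := x) (by rw [h, hx2]))
    have hzx : n * (n * x * n⁻¹) * n⁻¹ ≠ x := by
      intro h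
      apply hnC
      have hxyC : x * (n * x * n⁻¹) ∈ Subgroup.centralizer ({x} : Set G) := mul_mem hxm hy
      rw [← hall _ hxyC hxy1, Subgroup.mem_centralizer_singleton_iff]
      have hcomm : (n * x * n⁻¹) * x = x * (n * x * n⁻¹) := cent_comm x hCe hy hxm
      calc n * (x * (n * x * n⁻¹)) = (n * x * n⁻¹) * (n * (n * x * n⁻¹) * n⁻¹) * n := by group
        _ = (n * x * n⁻¹) * x * n := by rw [h]
        _ = x * (n * x * n⁻¹) * n := by rw [hcomm]
    have hzeq : n * (n * x * n⁻¹) * n⁻¹ = x * (n * x * n⁻¹) := by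
      rcases enum x hx hC4 hy hy1 hyx hz with h | h | h | h
      · exact absurd h hz1
      · exact absurd h hzx
      · exact absurd h hzy
      · exact h
    -- Frattini
    have hfr := Sylow.normalizer_sup_eq_top (P.subtype hPN)
    rw [Sylow.coe_subtype, Subgroup.subgroupOf_map_subtype, inf_eq_left.mpr hPN, hP] at hfr
    have hle : Subgroup.normalizer
        ((Subgroup.centralizer ({x} : Set G) : Subgroup G) : Set G) ≤ N := by
      intro a ha
      have hax : a * x * a⁻¹ ∈ Subgroup.centralizer ({x} : Set G) :=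
        (Subgroup.mem_normalizer_iff.mp ha x).mp hxm
      have hax1 : a * x * a⁻¹ ≠ 1 := by
        intro h
        apply hx1
        have : x = a⁻¹ * (a * x * a⁻¹) * a := by group
        rw [this, h]; group
      have key : ∀ b : G, b ∈ N → a * x * a⁻¹ = b * x * b⁻¹ → a ∈ N := by
        intro b hb h
        have h1 : b⁻¹ * a ∈ Subgroup.centralizer ({x} : Set G) := by
          rw [Subgroup.mem_centralizer_singleton_iff]
          calc b⁻¹ * a * x = b⁻¹ * (a * x * a⁻¹) * a := by group
            _ = b⁻¹ * (b * x * b⁻¹) * a := by rw [h]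
            _ = x * (b⁻¹ * a) := by group
        have h2 : a = b * (b⁻¹ * a) := by group
        rw [h2]
        exact N.mul_mem hb (hCN h1)
      rcases enum x hx hC4 hy hy1 hyx hax with h | h | h | h
      · exact absurd h hax1
      · exact key 1 (one_mem _) (by rw [h]; group)
      · exact key n hnN h
      · refine key (n * n) (N.mul_mem hnN hnN) ?_
        rw [h, ← hzeq]; group
    rw [← hfr]
    exact (le_antisymm (sup_le hle le_rfl) le_sup_right).symm
  -- Step 4: Burnside inside `N`
  have hP' : Subgroup.normalizer (((P.subtype hPN : Sylow 2 ↥N) : Subgroup ↥N) : Set ↥N) ≤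
      Subgroup.centralizer (((P.subtype hPN : Sylow 2 ↥N) : Subgroup ↥N) : Set ↥N) := by
    intro m hm
    have hmC : m.1 ∈ Subgroup.centralizer ({x} : Set G) := by
      apply hNC m.1 m.2
      intro h hh
      have h1 : (⟨h, hCN hh⟩ : ↥N) ∈ ((P.subtype hPN : Sylow 2 ↥N) : Subgroup ↥N) := by
        rw [Sylow.coe_subtype, Subgroup.mem_subgroupOf, hP]
        exact hh
      have h2 := (Subgroup.mem_normalizer_iff.mp hm _).mp h1
      rw [Sylow.coe_subtype, Subgroup.mem_subgroupOf, hP] at h2
      exact h2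
    rw [Subgroup.mem_centralizer_iff]
    intro k hk
    have hkC : k.1 ∈ Subgroup.centralizer ({x} : Set G) := by
      have hk' : k ∈ ((P.subtype hPN : Sylow 2 ↥N) : Subgroup ↥N) := hk
      rw [Sylow.coe_subtype, Subgroup.mem_subgroupOf, hP] at hk'
      exact hk'
    apply Subtype.ext
    exact cent_comm x hCe hkC hmC
  obtain ⟨K', hK'n, hK'card, hK'all⟩ :=
    Cfsg.Agent.Lib.Helper7.exists_normal_pPrime_of_normalizer_le_centralizer (P.subtype hPN) hP'
  -- Step 5
  have hoddtriv : ∀ g ∈ N, Odd (orderOf g) → g = 1 := by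
    intro g hgN hgodd
    have hK1 : Subgroup.normalClosure {g : G | g ∈ N ∧ Odd (orderOf g)} ≤ K'.map N.subtype := by
      unfold Subgroup.normalClosure
      rw [Subgroup.closure_le]
      intro a ha
      obtain ⟨b, ⟨hbN, hbodd⟩, hba⟩ := Group.mem_conjugatesOfSet_iff.mp ha
      obtain ⟨c, hc⟩ := isConj_iff.mp hba
      have haN : a ∈ N := by rw [← hc]; exact hN.conj_mem _ hbN c
      have haodd : Odd (orderOf a) := by rw [← hc, orderOf_conj']; exact hbodd
      refine Subgroup.mem_map.mpr ⟨⟨a, haN⟩, hK'all _ ?_, rfl⟩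
      rw [Subgroup.orderOf_mk]
      exact Nat.coprime_two_right.mpr haodd
    have hKodd : Odd (Nat.card ↥(Subgroup.normalClosure {g : G | g ∈ N ∧ Odd (orderOf g)})) := by
      rw [← Nat.not_even_iff_odd, even_iff_two_dvd]
      intro h
      apply hK'card
      have h1 := Subgroup.card_dvd_of_le hK1
      rw [Subgroup.card_map_of_injective N.subtype_injective] at h1
      exact dvd_trans h h1
    have hKbot := odd_normal_eq_bot x hx hC4 hCe hall _ hKodd
    have hgK : g ∈ Subgroup.normalClosure {g : G | g ∈ N ∧ Odd (orderOf g)} :=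
      Subgroup.subset_normalClosure ⟨hgN, hgodd⟩
    rw [hKbot, Subgroup.mem_bot] at hgK
    exact hgK
  -- Step 6: `N` is a 2-group
  have hN2 : IsPGroup 2 ↥N := by
    intro n
    obtain ⟨k, m, hm, hkm⟩ := Nat.exists_eq_two_pow_mul_odd (orderOf_pos n.1).ne'
    refine ⟨k, ?_⟩
    have h1 : (n.1 ^ 2 ^ k) ^ m = 1 := by
      rw [← pow_mul, ← hkm, pow_orderOf_eq_one]
    have h2 : Odd (orderOf (n.1 ^ 2 ^ k)) := hm.of_dvd_nat (orderOf_dvd_of_pow_eq_one h1)
    have h3 := hoddtriv _ (N.pow_mem n.2 _) h2
    apply Subtype.ext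
    rw [Subgroup.coe_pow, Subgroup.coe_one]
    exact h3
  obtain ⟨Q, hQ⟩ := hN2.exists_le_sylow
  have hcQ : Nat.card ↥(Q : Subgroup G) = 4 := by
    rw [Q.card_eq_multiplicity, ← P.card_eq_multiplicity, hP, hC4]
  have hNC4 : Nat.card ↥N ≤ Nat.card ↥(Subgroup.centralizer ({x} : Set G)) := by
    rw [hC4, ← hcQ]
    exact Subgroup.card_le_of_le hQ
  have hCeqN : Subgroup.centralizer ({x} : Set G) = N := Subgroup.eq_of_le_of_card_ge hCN hNC4
  have hCnorm : (Subgroup.centralizer ({x} : Set G)).Normal := by rw [hCeqN]; exact hN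
  have hEA : Cfsg.IsElementaryAbelian 2 (Subgroup.centralizer ({x} : Set G)) :=
    ⟨⟨⟨fun a b => Subtype.ext (cent_comm x hCe a.2 b.2)⟩⟩, hCe⟩
  exact (hne _ hCnorm hEA).2 hC4

end setup

/-- Let G be a finite group containing an involution whose centralizer is elementary abelian of order 4. If G has no normal 2-complement and no normal elementary abelian 2-subgroup of order 2 or 4, then G is isomorphic to the alternating group of degree 5 (that is, to PSL(2, 5)). -/
theorem result {G : Type*} [Group G] [Finite G] (x : G) (hx : orderOf x = 2)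
    (hC4 : Nat.card ↥(Subgroup.centralizer ({x} : Set G)) = 4) (hCe : ∀ c ∈ Subgroup.centralizer ({x} : Set G), c ^ 2 = 1)
    (hnc : ¬ Cfsg.HasNormalPComplement 2 G)
    (hne : ∀ E : Subgroup G, E.Normal → Cfsg.IsElementaryAbelian 2 E → Nat.card ↥E ≠ 2 ∧ Nat.card ↥E ≠ 4) :
    Nonempty (G ≃* ↥(alternatingGroup (Fin 5))) := by
  classical
  have hx1 := x_ne_one x hx
  have hxm := x_mem x hx
  by_cases hB : ∀ c ∈ Subgroup.centralizer ({x} : Set G), c ≠ 1 → IsConj x c
  · -- Case B
    haveI := simple_B x hx hC4 hCe hne hB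
    have hK : IsKleinFour ↥(Subgroup.centralizer ({x} : Set G)) := by
      refine ⟨hC4, ?_⟩
      have h1 : Monoid.exponent ↥(Subgroup.centralizer ({x} : Set G)) ∣ 2 := by
        apply Monoid.exponent_dvd_of_forall_pow_eq_one
        intro g
        apply Subtype.ext
        rw [Subgroup.coe_pow, Subgroup.coe_one]
        exact hCe g.1 g.2
      rcases (Nat.dvd_prime Nat.prime_two).mp h1 with h | h
      · exfalso
        have := Monoid.pow_exponent_eq_one (⟨x, hxm⟩ : ↥(Subgroup.centralizer ({x} : Set G)))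
        rw [h, pow_one] at this
        exact hx1 (congrArg Subtype.val this)
      · exact h
    refine Cfsg.Agent.S3278.result x hx (Subgroup.centralizer ({x} : Set G)) le_rfl hK ?_ ?_
    · rw [Subgroup.relIndex_self]; norm_num
    · rw [Subgroup.subgroupOf_self]; infer_instance
  · exfalso
    push Not at hB
    obtain ⟨y, hy, hy1, hncj⟩ := hB
    have hyx : y ≠ x := by
      intro h; apply hncj; rw [h]
    have hy2 : orderOf y = 2 := orderOf_eq_prime (hCe y hy) hy1
    have hxy : Commute x y := (Subgroup.mem_centralizer_singleton_iff.mp hy).symm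
    have hxyC : x * y ∈ Subgroup.centralizer ({x} : Set G) := mul_mem hxm hy
    by_cases hw : IsConj x (x * y)
    · -- Case A1
      have hcw := cent_eq_of_conj x hx hC4 hCe hxyC hw
      have hstar : ∀ u : G, orderOf u = 2 → Commute u x →
          ∀ g : G, Commute (g * y * g⁻¹) u → Commute (g * y * g⁻¹) y := by
        intro u hu hux g hcomm
        have huC : u ∈ Subgroup.centralizer ({x} : Set G) :=
          Subgroup.mem_centralizer_singleton_iff.mpr hux
        rcases enum x hx hC4 hy hy1 hyx huC with h | h | h | h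
        · rw [h, orderOf_one] at hu; omega
        · rw [h] at hcomm
          have : g * y * g⁻¹ ∈ Subgroup.centralizer ({x} : Set G) :=
            Subgroup.mem_centralizer_singleton_iff.mpr hcomm
          exact cent_comm x hCe this hy
        · rw [h] at hcomm; exact hcomm
        · rw [h] at hcomm
          have : g * y * g⁻¹ ∈ Subgroup.centralizer ({x * y} : Set G) :=
            Subgroup.mem_centralizer_singleton_iff.mpr hcomm
          rw [hcw] at this
          exact cent_comm x hCe this hy
      obtain ⟨-, hEab, hEcard⟩ := Cfsg.Agent.S3276.result x y hx hy2 hxy hncj hstar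
      have hEn : (Subgroup.normalClosure ({y} : Set G)).Normal := Subgroup.normalClosure_normal
      have hyE : y ∈ Subgroup.normalClosure ({y} : Set G) :=
        Subgroup.subset_normalClosure (Set.mem_singleton y)
      have h2E : 2 ∣ Nat.card ↥(Subgroup.normalClosure ({y} : Set G)) := by
        have : orderOf (⟨y, hyE⟩ : ↥(Subgroup.normalClosure ({y} : Set G))) = 2 := by
          rw [Subgroup.orderOf_mk]; exact hy2
        rw [← this]
        exact orderOf_dvd_natCard _
      have hEne := hne _ hEn hEab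
      by_cases hxw : x ∈ Subgroup.normalClosure ({y} : Set G) ∨
          x * y ∈ Subgroup.normalClosure ({y} : Set G)
      · -- then `E = C`
        have hxE : x ∈ Subgroup.normalClosure ({y} : Set G) := by
          rcases hxw with h | h
          · exact h
          · have : x = (x * y) * y⁻¹ := by group
            rw [this]
            exact mul_mem h (inv_mem hyE)
        have hEC : Subgroup.normalClosure ({y} : Set G) ≤ Subgroup.centralizer ({x} : Set G) := by
          intro e he
          rw [Subgroup.mem_centralizer_singleton_iff]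
          exact congrArg Subtype.val (hEab.1.is_comm.comm ⟨e, he⟩ ⟨x, hxE⟩)
        have hCE : Subgroup.centralizer ({x} : Set G) ≤ Subgroup.normalClosure ({y} : Set G) := by
          intro u hu
          rcases enum x hx hC4 hy hy1 hyx hu with h | h | h | h
          · rw [h]; exact one_mem _
          · rw [h]; exact hxE
          · rw [h]; exact hyE
          · rw [h]; exact mul_mem hxE hyE
        have : Subgroup.normalClosure ({y} : Set G) = Subgroup.centralizer ({x} : Set G) :=
          le_antisymm hEC hCE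
        apply hEne.2
        rw [this, hC4]
      · push Not at hxw
        have hcond : ∀ u ∈ Subgroup.normalClosure ({y} : Set G), orderOf u = 2 → Commute u x → u = y := by
          intro u huE hu hux
          have huC : u ∈ Subgroup.centralizer ({x} : Set G) :=
            Subgroup.mem_centralizer_singleton_iff.mpr hux
          rcases enum x hx hC4 hy hy1 hyx huC with h | h | h | h
          · rw [h, orderOf_one] at hu; omega
          · rw [h] at huE; exact absurd huE hxw.1
          · exact h
          · rw [h] at huE; exact absurd huE hxw.2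
        have h4 := hEcard hcond
        have hpos : 0 < Nat.card ↥(Subgroup.normalClosure ({y} : Set G)) := Nat.card_pos
        obtain ⟨k, hk⟩ := h2E
        have h1 := hEne.1
        have h2 := hEne.2
        omega
    · -- Case A2
      have hNC : ∀ n : G, n * x * n⁻¹ ∈ Subgroup.centralizer ({x} : Set G) →
          n ∈ Subgroup.centralizer ({x} : Set G) := by
        intro n hn
        have hcj : IsConj x (n * x * n⁻¹) := isConj_iff.mpr ⟨n, rfl⟩
        rcases enum x hx hC4 hy hy1 hyx hn with h | h | h | h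
        · exfalso
          apply hx1
          have : x = n⁻¹ * (n * x * n⁻¹) * n := by group
          rw [this, h]; group
        · rw [Subgroup.mem_centralizer_singleton_iff]
          calc n * x = (n * x * n⁻¹) * n := by group
            _ = x * n := by rw [h]
        · rw [h] at hcj; exact absurd hcj hncj
        · rw [h] at hcj; exact absurd hcj hw
      have hpg : IsPGroup 2 ↥(Subgroup.centralizer ({x} : Set G)) :=
        IsPGroup.of_card (n := 2) (by rw [hC4]; norm_num)
      obtain ⟨P, hP⟩ := hpg.exists_le_sylow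
      have hxP : x ∈ (P : Subgroup G) := hP hxm
      have hPC : (P : Subgroup G) = Subgroup.centralizer ({x} : Set G) := by
        by_contra hcon
        have hlt : (Subgroup.centralizer ({x} : Set G)).subgroupOf (P : Subgroup G) < ⊤ := by
          rw [lt_top_iff_ne_top, Ne, Subgroup.subgroupOf_eq_top]
          intro h
          exact hcon (le_antisymm h hP)
        haveI : Group.IsNilpotent ↥(P : Subgroup G) := P.isPGroup'.isNilpotent
        have hncond := Group.normalizerCondition_of_isNilpotent (G := ↥(P : Subgroup G))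
        obtain ⟨h, hh1, hh2⟩ := SetLike.exists_of_lt (hncond _ hlt)
        apply hh2
        rw [Subgroup.mem_subgroupOf]
        apply hNC
        have h3 : (⟨x, hxP⟩ : ↥(P : Subgroup G)) ∈
            (Subgroup.centralizer ({x} : Set G)).subgroupOf (P : Subgroup G) := by
          rw [Subgroup.mem_subgroupOf]; exact hxm
        have h4 := (Subgroup.mem_normalizer_iff.mp hh1 _).mp h3
        rw [Subgroup.mem_subgroupOf] at h4
        exact h4
      have hPn : Subgroup.normalizer ((P : Subgroup G) : Set G) ≤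
          Subgroup.centralizer ((P : Subgroup G) : Set G) := by
        intro n hn
        have h1 : n * x * n⁻¹ ∈ (P : Subgroup G) := (Subgroup.mem_normalizer_iff.mp hn x).mp hxP
        rw [hPC] at h1
        have hnC := hNC n h1
        rw [Subgroup.mem_centralizer_iff]
        intro k hk
        have hkC : k ∈ Subgroup.centralizer ({x} : Set G) := by rw [← hPC]; exact hk
        exact cent_comm x hCe hkC hnC
      exact hnc ⟨P, (MonoidHom.transferSylow P hPn).ker, inferInstance,
        MonoidHom.ker_transferSylow_isComplement' P hPn⟩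

end Cfsg.Agent.S3277
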