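import Cfsg.Statements.S0572
import Mathlib

set_option autoImplicit false
open Cfsg
open scoped commutatorElement

namespace Cfsg.Agent.S0572

variable {G : Type*} [Group G]

theorem conj_commElt (g x y : G) : g * ⁅x, y⁆ * g⁻¹ = ⁅g * x * g⁻¹, g * y * g⁻¹⁆ := by
  simp only [commutatorElement_def]; group

theorem commElt_mul_right_of_commute {a b2 a2 : G} (h : Commute a2 a) : ⁅a, b2 * a2⁆ = ⁅a, b2⁆ := by
  simp only [commutatorElement_def]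
  have h' : a2 * a⁻¹ = a⁻¹ * a2 := (h.inv_right).eq
  calc a * (b2 * a2) * a⁻¹ * (b2 * a2)⁻¹ = a * b2 * (a2 * a⁻¹) * a2⁻¹ * b2⁻¹ := by group
    _ = a * b2 * (a⁻¹ * a2) * a2⁻¹ * b2⁻¹ := by rw [h']
    _ = a * b2 * a⁻¹ * b2⁻¹ := by group

theorem commElt_mul_left_of_commute {a3 b3 b2 : G} (h : Commute b3 b2) : ⁅a3 * b3, b2⁆ = ⁅a3, b2⁆ := by
  simp only [commutatorElement_def]
  calc a3 * b3 * b2 * (a3 * b3)⁻¹ * b2⁻¹ = a3 * (b3 * b2) * b3⁻¹ * a3⁻¹ * b2⁻¹ := by group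
    _ = a3 * (b2 * b3) * b3⁻¹ * a3⁻¹ * b2⁻¹ := by rw [h.eq]
    _ = a3 * b2 * a3⁻¹ * b2⁻¹ := by group

theorem conj_eq_of_commute {g x : G} (h : Commute g x) : g * x * g⁻¹ = x := by
  rw [h.eq]; group

/-- The key identity of Itô's theorem. -/
theorem ito_key (A B : Subgroup G) [IsMulCommutative A] [IsMulCommutative B]
    (hAB : ∀ g : G, ∃ a ∈ A, ∃ b ∈ B, g = a * b) {a a1 b b1 : G} (ha : a ∈ A) (ha1 : a1 ∈ A)
    (hb : b ∈ B) (hb1 : b1 ∈ B) :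
    (b1 * a1) * ⁅a, b⁆ * (b1 * a1)⁻¹ = (a1 * b1) * ⁅a, b⁆ * (a1 * b1)⁻¹ := by
  obtain ⟨a2', ha2', b2', hb2', h2⟩ := hAB (a1 * b * a1⁻¹)⁻¹
  have h2' : a1 * b * a1⁻¹ = b2'⁻¹ * a2'⁻¹ := by
    rw [← mul_inv_rev, ← h2, inv_inv]
  obtain ⟨a3, ha3, b3, hb3, h3⟩ := hAB (b1 * a * b1⁻¹)
  have hA : ∀ {x y : G}, x ∈ A → y ∈ A → Commute x y := fun hx hy => setLike_mul_comm hx hy
  have hB : ∀ {x y : G}, x ∈ B → y ∈ B → Commute x y := fun hx hy => setLike_mul_comm hx hy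
  have hb2 : b2'⁻¹ ∈ B := B.inv_mem hb2'
  have ha2 : a2'⁻¹ ∈ A := A.inv_mem ha2'
  have e1 : (b1 * a1) * ⁅a, b⁆ * (b1 * a1)⁻¹ = ⁅a3, b2'⁻¹⁆ := by
    calc (b1 * a1) * ⁅a, b⁆ * (b1 * a1)⁻¹ = b1 * (a1 * ⁅a, b⁆ * a1⁻¹) * b1⁻¹ := by group
      _ = b1 * ⁅a, b2'⁻¹⁆ * b1⁻¹ := by
          rw [conj_commElt, conj_eq_of_commute (hA ha1 ha), h2', commElt_mul_right_of_commute (hA ha2 ha)]
      _ = ⁅a3, b2'⁻¹⁆ := by
          rw [conj_commElt, conj_eq_of_commute (hB hb1 hb2), h3, commElt_mul_left_of_commute (hB hb3 hb2)]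
  have e2 : (a1 * b1) * ⁅a, b⁆ * (a1 * b1)⁻¹ = ⁅a3, b2'⁻¹⁆ := by
    calc (a1 * b1) * ⁅a, b⁆ * (a1 * b1)⁻¹ = a1 * (b1 * ⁅a, b⁆ * b1⁻¹) * a1⁻¹ := by group
      _ = a1 * ⁅a3, b⁆ * a1⁻¹ := by
          rw [conj_commElt, conj_eq_of_commute (hB hb1 hb), h3, commElt_mul_left_of_commute (hB hb3 hb)]
      _ = ⁅a3, b2'⁻¹⁆ := by
          rw [conj_commElt, conj_eq_of_commute (hA ha1 ha3), h2', commElt_mul_right_of_commute (hA ha2 ha3)]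
  rw [e1, e2]

theorem ito_comm (A B : Subgroup G) [IsMulCommutative A] [IsMulCommutative B]
    (hAB : ∀ g : G, ∃ a ∈ A, ∃ b ∈ B, g = a * b) {a a1 b b1 : G} (ha : a ∈ A) (ha1 : a1 ∈ A)
    (hb : b ∈ B) (hb1 : b1 ∈ B) : ⁅a, b⁆ * ⁅a1, b1⁆ = ⁅a1, b1⁆ * ⁅a, b⁆ := by
  have key := ito_key A B hAB ha (A.inv_mem ha1) hb (B.inv_mem hb1)
  -- c commutes with ⁅b1, a1⁆
  have h1 : ⁅a, b⁆ * ⁅b1, a1⁆ = ⁅b1, a1⁆ * ⁅a, b⁆ := by
    have e : ⁅b1, a1⁆ = (a1⁻¹ * b1⁻¹)⁻¹ * (b1⁻¹ * a1⁻¹) := by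
      simp only [commutatorElement_def]; group
    rw [e]
    calc ⁅a, b⁆ * ((a1⁻¹ * b1⁻¹)⁻¹ * (b1⁻¹ * a1⁻¹))
        = (a1⁻¹ * b1⁻¹)⁻¹ * ((a1⁻¹ * b1⁻¹) * ⁅a, b⁆ * (a1⁻¹ * b1⁻¹)⁻¹) * (b1⁻¹ * a1⁻¹) := by group
      _ = (a1⁻¹ * b1⁻¹)⁻¹ * ((b1⁻¹ * a1⁻¹) * ⁅a, b⁆ * (b1⁻¹ * a1⁻¹)⁻¹) * (b1⁻¹ * a1⁻¹) := by rw [key]
      _ = (a1⁻¹ * b1⁻¹)⁻¹ * (b1⁻¹ * a1⁻¹) * ⁅a, b⁆ := by group
  have e2 : ⁅a1, b1⁆ = (⁅b1, a1⁆)⁻¹ := (commutatorElement_inv b1 a1).symm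
  rw [e2]
  exact ((Commute.inv_right (show Commute ⁅a, b⁆ ⁅b1, a1⁆ from h1))).eq

/-- Itô's Theorem: if a group G is the product AB of two abelian subgroups, then the commutator subgroup of G is abelian, i.e. the second term of the derived series is trivial. -/
theorem result {G : Type*} [Group G] (A B : Subgroup G) [IsMulCommutative A] [IsMulCommutative B] (hAB : ∀ g : G, ∃ a ∈ A, ∃ b ∈ B, g = a * b) : derivedSeries G 2 = ⊥ := by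
  -- K = ⁅A, B⁆ is abelian
  have hKab : IsMulCommutative ↥(⁅A, B⁆ : Subgroup G) := by
    apply Subgroup.isMulCommutative_closure
    rintro x ⟨a, ha, b, hb, rfl⟩ y ⟨a1, ha1, b1, hb1, rfl⟩
    exact ito_comm A B hAB ha ha1 hb hb1
  -- K is normal
  have htop : A ⊔ B = ⊤ := by
    rw [eq_top_iff]
    intro g _
    obtain ⟨a, ha, b, hb, rfl⟩ := hAB g
    exact Subgroup.mul_mem _ (Subgroup.mem_sup_left ha) (Subgroup.mem_sup_right hb)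
  have hKn : (⁅A, B⁆ : Subgroup G).Normal := by
    rw [← Subgroup.normalizer_eq_top_iff, eq_top_iff, ← htop]
    exact sup_le (Subgroup.normalizer_commutator_ge_left _ _) (Subgroup.normalizer_commutator_ge_right _ _)
  -- G' ≤ K
  have hG' : ⁅(⊤ : Subgroup G), ⊤⁆ ≤ ⁅A, B⁆ := by
    rw [Subgroup.commutator_le]
    intro g _ h _
    rw [← QuotientGroup.eq_one_iff]
    show (QuotientGroup.mk' ⁅A, B⁆) ⁅g, h⁆ = 1
    rw [map_commutatorElement, commutatorElement_eq_one_iff_commute]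
    obtain ⟨a, ha, b, hb, rfl⟩ := hAB g
    obtain ⟨a1, ha1, b1, hb1, rfl⟩ := hAB h
    have hAA : Commute ((a : G) : G ⧸ ⁅A, B⁆) (a1 : G) := by
      have : Commute a a1 := setLike_mul_comm ha ha1
      exact this.map (QuotientGroup.mk' _)
    have hBB : Commute ((b : G) : G ⧸ ⁅A, B⁆) (b1 : G) := by
      have : Commute b b1 := setLike_mul_comm hb hb1
      exact this.map (QuotientGroup.mk' _)
    have hABc : ∀ {x y : G}, x ∈ A → y ∈ B → Commute ((x : G) : G ⧸ ⁅A, B⁆) (y : G) := by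
      intro x y hx hy
      rw [← commutatorElement_eq_one_iff_commute]
      have : (QuotientGroup.mk' ⁅A, B⁆) ⁅x, y⁆ = 1 := by
        rw [QuotientGroup.mk'_apply, QuotientGroup.eq_one_iff]
        exact Subgroup.commutator_mem_commutator hx hy
      rwa [map_commutatorElement] at this
    rw [map_mul, map_mul]
    exact Commute.mul_left (Commute.mul_right hAA (hABc ha hb1))
      (Commute.mul_right (hABc ha1 hb).symm hBB)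
  show ⁅⁅(⊤ : Subgroup G), ⊤⁆, ⁅(⊤ : Subgroup G), ⊤⁆⁆ = ⊥
  rw [eq_bot_iff]
  refine le_trans (Subgroup.commutator_mono hG' hG') ?_
  rw [le_bot_iff, Subgroup.commutator_eq_bot_iff_le_centralizer]
  exact Subgroup.le_centralizer_iff_isMulCommutative.mpr hKab

end Cfsg.Agent.S0572
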