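import Cfsg.Statements.S0560
import Cfsg.Agent.Lib.Helper18.ProductFormula
import Cfsg.Agent.Lib.Helper1.Basic
import Mathlib

set_option autoImplicit false
open Cfsg
open scoped Pointwise

namespace Cfsg.Agent.S0560

open Cfsg.Agent.Lib.Helper18

theorem relIndex_eq_index_of_mul {G : Type*} [Group G] (H K : Subgroup G)
    (hHK : ∀ g : G, ∃ h ∈ H, ∃ k ∈ K, g = h * k) : K.relIndex H = K.index := by
  set e := Subgroup.quotientSubgroupOfEmbeddingOfLE K (le_top : H ≤ ⊤) with he
  have hsurj : Function.Surjective e := by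
    intro q
    obtain ⟨⟨g, hg⟩, rfl⟩ := QuotientGroup.mk_surjective q
    obtain ⟨h, hh, k, hk, rfl⟩ := hHK g
    refine ⟨QuotientGroup.mk ⟨h, hh⟩, ?_⟩
    rw [he, Subgroup.quotientSubgroupOfEmbeddingOfLE_apply_mk, QuotientGroup.eq,
      Subgroup.mem_subgroupOf]
    simpa using hk
  have h1 : Nat.card (↥H ⧸ K.subgroupOf H) = Nat.card (↥(⊤ : Subgroup G) ⧸ K.subgroupOf ⊤) :=
    Nat.card_congr (Equiv.ofBijective e ⟨e.injective, hsurj⟩)
  have h2 : Nat.card (↥H ⧸ K.subgroupOf H) = K.relIndex H := rfl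
  have h3 : Nat.card (↥(⊤ : Subgroup G) ⧸ K.subgroupOf ⊤) = K.relIndex ⊤ := rfl
  rw [h2, h3, Subgroup.relIndex_top_right] at h1
  exact h1

theorem card_mul_card_eq {G : Type*} [Group G] [Finite G] (H K : Subgroup G)
    (hHK : ∀ g : G, ∃ h ∈ H, ∃ k ∈ K, g = h * k) :
    Nat.card H * Nat.card K = Nat.card G * Nat.card (H ⊓ K : Subgroup G) := by
  rw [card_eq_card_inf_mul_relIndex H K, relIndex_eq_index_of_mul H K hHK,
    ← Subgroup.card_mul_index K]
  ring

theorem card_map_subtype {G : Type*} [Group G] (H : Subgroup G) (P : Subgroup H) :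
    Nat.card (P.map H.subtype) = Nat.card P :=
  (Nat.card_congr (Subgroup.equivMapOfInjective P H.subtype H.subtype_injective).toEquiv).symm

/-- Let the finite group G be the product HK of two subgroups and p a prime. Then there are Sylow p-subgroups P of H and Q of K and a Sylow p-subgroup R of G whose underlying set is the product set of P and Q. -/
theorem result {G : Type*} [Group G] [Finite G] (H K : Subgroup G) (hHK : ∀ g : G, ∃ h ∈ H, ∃ k ∈ K, g = h * k) (p : ℕ) [Fact p.Prime] : ∃ (P : Sylow p H) (Q : Sylow p K) (R : Sylow p G), ((R : Subgroup G) : Set G) = (((P : Subgroup H).map H.subtype : Subgroup G) : Set G) * (((Q : Subgroup K).map K.subtype : Subgroup G) : Set G) := by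
  have hp : p.Prime := Fact.out
  let P₀ : Sylow p H := Classical.arbitrary _
  let Q₀ : Sylow p K := Classical.arbitrary _
  obtain ⟨S₁, hS₁⟩ := IsPGroup.exists_le_sylow (P₀.isPGroup'.map H.subtype)
  obtain ⟨S₂, hS₂⟩ := IsPGroup.exists_le_sylow (Q₀.isPGroup'.map K.subtype)
  obtain ⟨g, hg⟩ := MulAction.exists_smul_eq G S₁ S₂
  obtain ⟨h, hh, k, hk, hgk⟩ := hHK g⁻¹
  -- x = h⁻¹ ∈ H, y = k ∈ K, x = y * g
  have hxy : h⁻¹ = k * g := by
    have : g = (h * k)⁻¹ := by rw [← hgk, inv_inv]
    rw [this]; group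
  set x : H := ⟨h⁻¹, H.inv_mem hh⟩ with hx
  set y : K := ⟨k, hk⟩ with hy
  set R : Sylow p G := (x : G) • S₁ with hR
  have hR2 : R = (y : G) • S₂ := by
    rw [hR, ← hg, ← mul_smul]
    congr 1
  set P : Sylow p H := x • P₀ with hP
  set Q : Sylow p K := y • Q₀ with hQ
  have hPR : (P : Subgroup H).map H.subtype ≤ (R : Subgroup G) := by
    rw [hP, Sylow.coe_subgroup_smul, Cfsg.Agent.Lib.Helper1.map_conj_smul, hR,
      Sylow.coe_subgroup_smul]
    exact Subgroup.pointwise_smul_le_pointwise_smul_iff.mpr hS₁  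
  have hQR : (Q : Subgroup K).map K.subtype ≤ (R : Subgroup G) := by
    rw [hQ, Sylow.coe_subgroup_smul, Cfsg.Agent.Lib.Helper1.map_conj_smul, hR2,
      Sylow.coe_subgroup_smul]
    exact Subgroup.pointwise_smul_le_pointwise_smul_iff.mpr hS₂
  refine ⟨P, Q, R, ?_⟩
  set P' := (P : Subgroup H).map H.subtype with hP'
  set Q' := (Q : Subgroup K).map K.subtype with hQ'
  -- cardinalities
  have hcP : Nat.card P' = p ^ (Nat.card H).factorization p := by
    rw [hP', card_map_subtype]; exact Sylow.card_eq_multiplicity P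
  have hcQ : Nat.card Q' = p ^ (Nat.card K).factorization p := by
    rw [hQ', card_map_subtype]; exact Sylow.card_eq_multiplicity Q
  have hcR : Nat.card (R : Subgroup G) = p ^ (Nat.card G).factorization p :=
    Sylow.card_eq_multiplicity R
  have hfac : (Nat.card H).factorization p + (Nat.card K).factorization p =
      (Nat.card G).factorization p + (Nat.card (H ⊓ K : Subgroup G)).factorization p := by
    have h0 := card_mul_card_eq H K hHK
    have : (Nat.card H * Nat.card K).factorization p =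
        (Nat.card G * Nat.card (H ⊓ K : Subgroup G)).factorization p := by rw [h0]
    rw [Nat.factorization_mul Nat.card_pos.ne' Nat.card_pos.ne',
      Nat.factorization_mul Nat.card_pos.ne' Nat.card_pos.ne'] at this
    simpa using this
  -- P' ⊓ Q' is a p-subgroup of H ⊓ K
  have hinf_le : P' ⊓ Q' ≤ H ⊓ K := by
    apply inf_le_inf
    · rw [hP']; exact Subgroup.map_subtype_le _
    · rw [hQ']; exact Subgroup.map_subtype_le _
  have hinf_card : Nat.card (P' ⊓ Q' : Subgroup G) ∣ p ^ (Nat.card (H ⊓ K : Subgroup G)).factorization p := by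
    have hpg : IsPGroup p (P' ⊓ Q' : Subgroup G) :=
      (P.isPGroup'.map H.subtype).to_le inf_le_left
    obtain ⟨n, hn⟩ := IsPGroup.iff_card.mp hpg
    have hdvd : Nat.card (P' ⊓ Q' : Subgroup G) ∣ Nat.card (H ⊓ K : Subgroup G) :=
      Subgroup.card_dvd_of_le hinf_le
    rw [hn] at hdvd ⊢
    exact pow_dvd_pow p ((hp.pow_dvd_iff_le_factorization Nat.card_pos.ne').mp hdvd)
  have hsup_le : P' ⊔ Q' ≤ (R : Subgroup G) := sup_le hPR hQR
  have hsup_card : Nat.card (P' ⊔ Q' : Subgroup G) ∣ p ^ (Nat.card G).factorization p := by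
    rw [← hcR]; exact Subgroup.card_dvd_of_le hsup_le
  have hle := card_mul_card_le_card_sup_mul_card_inf P' Q'
  have h1 : Nat.card (P' ⊔ Q' : Subgroup G) ≤ p ^ (Nat.card G).factorization p :=
    Nat.le_of_dvd (pow_pos hp.pos _) hsup_card
  have h2 : Nat.card (P' ⊓ Q' : Subgroup G) ≤ p ^ (Nat.card (H ⊓ K : Subgroup G)).factorization p :=
    Nat.le_of_dvd (pow_pos hp.pos _) hinf_card
  have htot : Nat.card P' * Nat.card Q' =
      p ^ (Nat.card G).factorization p * p ^ (Nat.card (H ⊓ K : Subgroup G)).factorization p := by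
    rw [hcP, hcQ, ← pow_add, ← pow_add, hfac]
  have hpos1 : 0 < Nat.card (P' ⊔ Q' : Subgroup G) := Nat.card_pos
  have hpos2 : 0 < Nat.card (P' ⊓ Q' : Subgroup G) := Nat.card_pos
  have heq1 : Nat.card (P' ⊔ Q' : Subgroup G) = p ^ (Nat.card G).factorization p := by
    by_contra hne
    have hlt : Nat.card (P' ⊔ Q' : Subgroup G) < p ^ (Nat.card G).factorization p :=
      lt_of_le_of_ne h1 hne
    have : Nat.card (P' ⊔ Q' : Subgroup G) * Nat.card (P' ⊓ Q' : Subgroup G) <
        p ^ (Nat.card G).factorization p * p ^ (Nat.card (H ⊓ K : Subgroup G)).factorization p :=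
      Nat.mul_lt_mul_of_lt_of_le hlt h2 (pow_pos hp.pos _)
    omega
  have heq2 : Nat.card (P' ⊓ Q' : Subgroup G) = p ^ (Nat.card (H ⊓ K : Subgroup G)).factorization p := by
    by_contra hne
    have hlt := lt_of_le_of_ne h2 hne
    have : Nat.card (P' ⊔ Q' : Subgroup G) * Nat.card (P' ⊓ Q' : Subgroup G) <
        p ^ (Nat.card G).factorization p * p ^ (Nat.card (H ⊓ K : Subgroup G)).factorization p :=
      Nat.mul_lt_mul_of_le_of_lt h1 hlt (pow_pos hp.pos _)
    omega
  have hsupR : P' ⊔ Q' = (R : Subgroup G) :=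
    Subgroup.eq_of_le_of_card_ge hsup_le (by rw [hcR, heq1])
  rw [← hsupR]
  exact coe_sup_eq_mul_of_card_eq P' Q' (by rw [htot, heq1, heq2])

end Cfsg.Agent.S0560
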