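import Cfsg.Statements.S0087
import Cfsg.Agent.Lib.Helper1.SZ
import Cfsg.Agent.Lib.Helper1.Coprime
import Cfsg.Agent.Lib.Helper13.Frobenius

set_option autoImplicit false
open Cfsg

namespace Cfsg.Agent.S0087

open Subgroup Pointwise Cfsg.Agent.Lib.Helper1

universe u

/-- If for every prime `p` dividing `|H|` there is a normal `p`-complement, then the Hall
subgroup `H` has a normal complement (the intersection of these). -/
theorem assemble {G : Type*} [Group G] [Finite G] (H : Subgroup G)
    (hHall : Nat.Coprime (Nat.card H) H.index)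
    (hK : ∀ p : ℕ, p.Prime → p ∣ Nat.card H →
      ∃ K : Subgroup G, K.Normal ∧ (Nat.card K).Coprime p ∧ ∃ k : ℕ, K.index = p ^ k) :
    ∃ N : Subgroup G, N.Normal ∧ N.IsComplement' H := by
  choose K hKn hKc hKi using hK
  set N : Subgroup G := ⨅ (p : ℕ) (hp : p.Prime) (hd : p ∣ Nat.card H), K p hp hd with hN
  have hmemN : ∀ x : G, x ∈ N ↔ ∀ (p : ℕ) (hp : p.Prime) (hd : p ∣ Nat.card H), x ∈ K p hp hd := by
    intro x
    simp only [hN, mem_iInf]
  have hNn : N.Normal :=
    normal_iInf_normal fun p => normal_iInf_normal fun hp => normal_iInf_normal fun hd => hKn p hp hd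
  refine ⟨N, hNn, ?_⟩
  apply isComplement'_of_disjoint_of_sup_eq_top
  · rw [disjoint_iff, eq_bot_iff]
    rintro x ⟨hxN, hxH⟩
    rw [mem_bot]
    by_contra hx1
    have ho : orderOf x ≠ 1 := fun h => hx1 (orderOf_eq_one_iff.1 h)
    obtain ⟨p, hp, hpd⟩ := Nat.exists_prime_and_dvd ho
    have hdH : p ∣ Nat.card H := hpd.trans (Subgroup.orderOf_dvd_natCard H hxH)
    have hxK : x ∈ K p hp hdH := (hmemN x).1 hxN p hp hdH
    have hdK : p ∣ Nat.card (K p hp hdH) := hpd.trans (Subgroup.orderOf_dvd_natCard _ hxK)
    have := Nat.Coprime.eq_one_of_dvd (hKc p hp hdH).symm hdK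
    exact hp.one_lt.ne' this
  · rw [← index_eq_one, Nat.eq_one_iff_not_exists_prime_dvd]
    intro q hq hqd
    by_cases hqH : q ∣ Nat.card H
    · have h1 : q ∣ H.index := hqd.trans (index_dvd_of_le le_sup_right)
      have := Nat.Coprime.eq_one_of_dvd (Nat.Coprime.coprime_dvd_left hqH hHall) h1
      exact hq.one_lt.ne' this
    · haveI : Fact q.Prime := ⟨hq⟩
      obtain ⟨Q⟩ : Nonempty (Sylow q G) := inferInstance
      have hQN : (Q : Subgroup G) ≤ N := by
        intro x hx
        rw [hmemN]
        intro p hp hd
        obtain ⟨k, hk⟩ := hKi p hp hd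
        have := hKn p hp hd
        apply Cfsg.Agent.Lib.Helper13.mem_of_coprime_of_index_pow (K p hp hd) hk x
        obtain ⟨j, hj⟩ := Q.2 ⟨x, hx⟩
        have hj' : x ^ q ^ j = 1 := by
          have := congrArg Subtype.val hj
          simpa using this
        have hdv : orderOf x ∣ q ^ j := orderOf_dvd_of_pow_eq_one hj'
        have hpq : p ≠ q := fun h => hqH (h ▸ hd)
        have : (q ^ j).Coprime p :=
          Nat.Coprime.pow_left j ((Nat.coprime_primes hq hp).2 (Ne.symm hpq))
        exact Nat.Coprime.coprime_dvd_left hdv this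
      have h1 : q ∣ (Q : Subgroup G).index := hqd.trans (index_dvd_of_le (hQN.trans le_sup_left))
      exact Q.not_dvd_index h1

theorem main (n : ℕ) : ∀ (G : Type u) [Group G] [Finite G], Nat.card G = n →
    ∀ (H : Subgroup G), Nat.Coprime (Nat.card H) H.index →
      normalizer (H : Set G) ≤ centralizer (H : Set G) →
      ∃ N : Subgroup G, N.Normal ∧ N.IsComplement' H := by
  induction n using Nat.strong_induction_on with
  | _ n ih =>
  intro G _ _ hn H hHall h
  apply assemble H hHall
  intro p hp hpd
  have : Fact p.Prime := ⟨hp⟩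
  have hab : H ≤ centralizer (H : Set G) := le_normalizer.trans h
  obtain ⟨P0⟩ : Nonempty (Sylow p H) := inferInstance
  set P : Subgroup G := (P0 : Subgroup H).map H.subtype with hP
  have hPH : P ≤ H := map_subtype_le _
  have hPcard : Nat.card P = p ^ (Nat.card G).factorization p := by
    have h1 : Nat.card P = Nat.card (P0 : Subgroup H) :=
      (Nat.card_congr ((P0 : Subgroup H).equivMapOfInjective _ H.subtype_injective).toEquiv).symm
    rw [h1, P0.card_eq_multiplicity]
    congr 1
    have hpi : ¬ p ∣ H.index := by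
      intro hd
      have := Nat.Coprime.eq_one_of_dvd (Nat.Coprime.coprime_dvd_left hpd hHall) hd
      exact hp.one_lt.ne' this
    have hi0 : H.index ≠ 0 := index_ne_zero_of_finite
    rw [← card_mul_index H, Nat.factorization_mul Nat.card_pos.ne' hi0]
    simp [Nat.factorization_eq_zero_of_not_dvd hpi]
  let PS : Sylow p G := Sylow.ofCard P hPcard
  have hPS : (PS : Subgroup G) = P := rfl
  have key : normalizer ((PS : Subgroup G) : Set G) ≤ centralizer ((PS : Subgroup G) : Set G) := by
    rw [hPS]
    intro g hg
    set C : Subgroup G := centralizer (P : Set G) with hC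
    have hHC : H ≤ C := hab.trans (centralizer_le hPH)
    by_cases hCtop : C = ⊤
    · rw [hCtop]; trivial
    · have hlt : Nat.card C < n := hn ▸ card_subgroup_lt_of_ne_top hCtop
      have hcardHC : Nat.card (H.subgroupOf C) = Nat.card H :=
        Nat.card_congr (subgroupOfEquivOfLe hHC).toEquiv
      have hHallC : (Nat.card (H.subgroupOf C)).Coprime (H.subgroupOf C).index := by
        rw [hcardHC]
        exact Nat.Coprime.coprime_dvd_right (relIndex_dvd_index_of_le hHC) hHall
      have hnormC : normalizer ((H.subgroupOf C : Subgroup C) : Set C) ≤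
          centralizer ((H.subgroupOf C : Subgroup C) : Set C) := by
        rw [← subgroupOf_normalizer_eq hHC]
        intro x hx
        have hx' : (x : G) ∈ centralizer (H : Set G) := h (mem_subgroupOf.1 hx)
        rw [mem_centralizer_iff]
        intro y hy
        apply Subtype.ext
        exact mem_centralizer_iff.1 hx' y (mem_subgroupOf.1 hy)
      obtain ⟨M, hMn, hMc⟩ := ih (Nat.card C) hlt C rfl (H.subgroupOf C) hHallC hnormC
      -- the conjugate
      set H' : Subgroup G := MulAut.conj g • H with hH'
      have hH'C : H' ≤ C := by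
        intro x hx
        rw [hH', mem_conj_smul] at hx
        rw [hC, mem_centralizer_iff]
        intro y hy
        have hy' : g⁻¹ * y * g ∈ P := by
          have := (mem_normalizer_iff.1 (inv_mem hg) y).1 hy
          simpa using this
        have hcomm : (g⁻¹ * y * g) * (g⁻¹ * x * g) = (g⁻¹ * x * g) * (g⁻¹ * y * g) :=
          mem_centralizer_iff.1 (hab hx) _ (hPH hy')
        have e1 : y * x = g * ((g⁻¹ * y * g) * (g⁻¹ * x * g)) * g⁻¹ := by group
        have e2 : x * y = g * ((g⁻¹ * x * g) * (g⁻¹ * y * g)) * g⁻¹ := by group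
        rw [e1, e2, hcomm]
      have hcardH' : Nat.card (H'.subgroupOf C) = Nat.card H := by
        rw [Nat.card_congr (subgroupOfEquivOfLe hH'C).toEquiv, hH', card_conj_smul]
      have hMidx : M.index = Nat.card H := by rw [hMc.symm.index_eq_card, hcardHC]
      have hMcop : (Nat.card M).Coprime (Nat.card H) := by
        have h1 : Nat.card M = (H.subgroupOf C).index := hMc.index_eq_card.symm
        rw [h1]; exact (hcardHC ▸ hHallC).symm
      have hMc' : IsComplement' M (H'.subgroupOf C) := by
        apply isComplement'_of_coprime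
        · rw [hcardH', ← hMidx, card_mul_index]
        · rw [hcardH']; exact hMcop
      have hsolv : Group.IsSolvable M ∨ Group.IsSolvable (C ⧸ M) := by
        right
        have : Group.IsSolvable (H.subgroupOf C) :=
          Group.isSolvable_of_comm (fun a b => Subtype.ext (Subtype.ext
            (mem_centralizer_iff.1 (hab (mem_subgroupOf.1 a.2)) _ (mem_subgroupOf.1 b.2)).symm))
        exact Group.isSolvable_of_isSolvable_injective
          (f := (hMc.symm.QuotientMulEquiv).toMonoidHom) (hMc.symm.QuotientMulEquiv).injective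
      obtain ⟨c, hc⟩ := sz_conj M (by rw [hMidx]; exact hMcop) hsolv _ _ hMc hMc'
      have hc2 : MulAut.conj (c : G) • H = H' := conj_of_conj_subgroupOf hHC hH'C c hc
      have hgc : g⁻¹ * (c : G) ∈ normalizer (H : Set G) := by
        rw [← conj_smul_eq_self_iff_mem_normalizer, map_mul, mul_smul, hc2, hH', ← mul_smul,
          ← map_mul, inv_mul_cancel, map_one, one_smul]
      have hgc' : g⁻¹ * (c : G) ∈ C := (centralizer_le hPH) (h hgc)
      have : g = (c : G) * (g⁻¹ * (c : G))⁻¹ := by group
      rw [this]
      exact mul_mem c.2 (inv_mem hgc')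
  have hc := MonoidHom.ker_transferSylow_isComplement' PS key
  obtain ⟨h1, h2⟩ := Cfsg.Agent.Lib.Helper13.coprime_and_index_of_isComplement' _ PS hc
  exact ⟨(MonoidHom.transferSylow PS key).ker, inferInstance, h1, h2⟩

/-- A Hall subgroup that is central in its normalizer has a normal complement. -/
theorem result {G : Type*} [Group G] [Finite G] (H : Subgroup G) (hHall : Nat.Coprime (Nat.card H) H.index) (h : Subgroup.normalizer (H : Set G) ≤ Subgroup.centralizer (H : Set G)) : ∃ N : Subgroup G, N.Normal ∧ N.IsComplement' H :=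
  main _ G rfl H hHall h

end Cfsg.Agent.S0087
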