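import Cfsg.Statements.S0079
import Cfsg.Agent.Lib.Lead.Tate
import Cfsg.Agent.Lib.Lead.PResidual
import Cfsg.Agent.S0087

set_option autoImplicit false
open Cfsg

namespace Cfsg.Agent.S0079

open Subgroup Cfsg.Agent.Lib.Lead Cfsg.Agent.Lib.Helper17 Cfsg.Agent.Lib.Helper1
open scoped commutatorElement

/-- In a finite nilpotent group, every element is a product of an element of a given Sylow
subgroup and an element centralizing it. -/
theorem nilpotent_decomp {H : Type*} [Group H] [Finite H] (hH : Group.IsNilpotent H) {p : ℕ}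
    [Fact p.Prime] (P0 : Sylow p H) (h : H) :
    ∃ a ∈ (P0 : Subgroup H), ∃ c : H, (∀ y ∈ (P0 : Subgroup H), c * y = y * c) ∧ h = a * c := by
  have hnormal : ∀ (q : ℕ), Fact (Nat.Prime q) → ∀ (Q : Sylow q H), (Q : Subgroup H).Normal :=
    (Group.isNilpotent_of_finite_tfae (G := H)).out 0 3 |>.1 hH
  have hP0n : (P0 : Subgroup H).Normal := hnormal p inferInstance P0
  set C0 : Subgroup H := centralizer ((P0 : Subgroup H) : Set H) with hC0
  have htop : (P0 : Subgroup H) ⊔ C0 = ⊤ := by
    rw [← index_eq_one, Nat.eq_one_iff_not_exists_prime_dvd]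
    intro q hq hqd
    have : Fact q.Prime := ⟨hq⟩
    by_cases hqp : q = p
    · subst hqp
      exact P0.not_dvd_index (hqd.trans (index_dvd_of_le le_sup_left))
    · obtain ⟨Q0⟩ : Nonempty (Sylow q H) := inferInstance
      have hQ0n : (Q0 : Subgroup H).Normal := hnormal q inferInstance Q0
      have hdis : Disjoint (Q0 : Subgroup H) (P0 : Subgroup H) :=
        IsPGroup.disjoint_of_ne q p hqp _ _ Q0.2 P0.2
      have hQC : (Q0 : Subgroup H) ≤ C0 := by
        intro x hx
        rw [hC0, mem_centralizer_iff]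
        intro y hy
        exact ((commute_of_normal_of_disjoint _ _ hQ0n hP0n hdis x y hx hy).eq).symm
      exact Q0.not_dvd_index (hqd.trans (index_dvd_of_le (hQC.trans le_sup_right)))
  have hh : h ∈ (P0 : Subgroup H) ⊔ C0 := htop ▸ mem_top h
  rw [mem_sup_of_normal_left] at hh
  obtain ⟨a, ha, c, hc, rfl⟩ := hh
  refine ⟨a, ha, c, ?_, rfl⟩
  intro y hy
  exact (mem_centralizer_iff.1 hc y hy).symm

/-- A nilpotent Hall subgroup has a normal complement exactly when elements of it that are conjugate in the whole group are already conjugate inside it. -/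
theorem result {G : Type*} [Group G] [Finite G] (H : Subgroup G) (hH : Group.IsNilpotent H) (hHall : Nat.Coprime (Nat.card H) H.index) : (∃ N : Subgroup G, N.Normal ∧ N.IsComplement' H) ↔ ∀ x ∈ H, ∀ y ∈ H, (∃ g : G, g * x * g⁻¹ = y) → ∃ h ∈ H, h * x * h⁻¹ = y := by
  constructor
  · rintro ⟨N, hNn, hc⟩ x hx y hy ⟨g, rfl⟩
    obtain ⟨n, hn, h, hh, rfl⟩ := IsComplement'.exists_mul_eq hc g
    refine ⟨h, hh, ?_⟩
    have hx' : h * x * h⁻¹ ∈ H := mul_mem (mul_mem hh hx) (inv_mem hh)
    have h1 : (n * h * x * (n * h)⁻¹) * (h * x * h⁻¹)⁻¹ ∈ N := by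
      have : (n * h * x * (n * h)⁻¹) * (h * x * h⁻¹)⁻¹ =
          n * ((h * x * h⁻¹) * n⁻¹ * (h * x * h⁻¹)⁻¹) := by group
      rw [this]
      exact mul_mem hn (hNn.conj_mem _ (inv_mem hn) _)
    have h2 : (n * h * x * (n * h)⁻¹) * (h * x * h⁻¹)⁻¹ ∈ H := mul_mem hy (inv_mem hx')
    have h3 : (n * h * x * (n * h)⁻¹) * (h * x * h⁻¹)⁻¹ ∈ N ⊓ H := ⟨h1, h2⟩
    rw [disjoint_iff.1 hc.disjoint, mem_bot, mul_inv_eq_one] at h3
    exact h3.symm
  · intro hfus
    apply Cfsg.Agent.S0087.assemble H hHall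
    intro p hp hpd
    have : Fact p.Prime := ⟨hp⟩
    obtain ⟨P0⟩ : Nonempty (Sylow p H) := inferInstance
    set P : Subgroup G := (P0 : Subgroup H).map H.subtype with hP
    have hPH : P ≤ H := map_subtype_le _
    have hPcard : Nat.card P = p ^ (Nat.card G).factorization p := by
      have h1 : Nat.card P = Nat.card (P0 : Subgroup H) :=
        (Nat.card_congr ((P0 : Subgroup H).equivMapOfInjective _ H.subtype_injective).toEquiv).symm
      rw [h1, P0.card_eq_multiplicity]
      congr 1
      have hpi : ¬ p ∣ H.index := by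
        intro hd
        have := Nat.Coprime.eq_one_of_dvd (Nat.Coprime.coprime_dvd_left hpd hHall) hd
        exact hp.one_lt.ne' this
      have hi0 : H.index ≠ 0 := index_ne_zero_of_finite
      rw [← card_mul_index H, Nat.factorization_mul Nat.card_pos.ne' hi0]
      simp [Nat.factorization_eq_zero_of_not_dvd hpi]
    let PS : Sylow p G := Sylow.ofCard P hPcard
    have hPS : (PS : Subgroup G) = P := rfl
    -- `P ∩ O^p(G) ≤ P'`
    have hfoc : pResidual p G ⊓ (PS : Subgroup G) ≤
        (frattiniP p (PS : Subgroup G)).map (PS : Subgroup G).subtype := by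
      have h1 : pResidual p G ⊓ (PS : Subgroup G) ≤ _root_.commutator G ⊓ (PS : Subgroup G) := by
        refine le_inf ?_ inf_le_right
        rw [inf_comm]
        exact isPGroup_inf_pResidual_le_commutator (PS : Subgroup G) PS.2
      refine h1.trans ?_
      rw [Subgroup.commutator_inf_eq_focalSubgroup PS, Subgroup.focalSubgroup_def,
        Subgroup.closure_le]
      rintro g ⟨hgP, x, hx, u, rfl⟩
      -- `u x⁻¹ u⁻¹ ∈ P`
      have hxi : x⁻¹ ∈ (PS : Subgroup G) := inv_mem hx
      have hc : u * x⁻¹ * u⁻¹ ∈ (PS : Subgroup G) := by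
        have : u * x⁻¹ * u⁻¹ = x⁻¹ * ⁅x, u⁆ := by rw [commutatorElement_def]; group
        rw [this]; exact mul_mem hxi hgP
      obtain ⟨h, hhH, hh⟩ := hfus x⁻¹ (hPH hxi) (u * x⁻¹ * u⁻¹) (hPH hc) ⟨u, rfl⟩
      -- decompose `h`
      obtain ⟨a, ha, c, hcc, hac⟩ := nilpotent_decomp hH P0 ⟨h, hhH⟩
      have haP : (a : G) ∈ (PS : Subgroup G) := mem_map_of_mem H.subtype ha
      have hcx : (c : G) * x⁻¹ = x⁻¹ * (c : G) := by
        obtain ⟨x0, hx0, hx0x⟩ := hxi
        have := hcc x0 hx0
        have h2 := congrArg (fun z : H => (z : G)) this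
        simp only [coe_mul] at h2
        rw [← hx0x]
        exact h2
      have hh' : h = (a : G) * (c : G) := by
        have := congrArg (fun z : H => (z : G)) hac
        simpa using this
      have hcomm : ⁅x, u⁆ = ⁅x, (a : G)⁆ := by
        rw [commutatorElement_def, commutatorElement_def]
        have e1 : x * u * x⁻¹ * u⁻¹ = x * (u * x⁻¹ * u⁻¹) := by group
        rw [e1, ← hh, hh']
        have e2 : (a : G) * (c : G) * x⁻¹ * ((a : G) * (c : G))⁻¹ =
            (a : G) * ((c : G) * x⁻¹) * (c : G)⁻¹ * (a : G)⁻¹ := by group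
        rw [e2, hcx]
        group
      rw [hcomm]
      refine ⟨⁅(⟨x, hx⟩ : (PS : Subgroup G)), ⟨(a : G), haP⟩⁆, ?_, rfl⟩
      apply (le_sup_left : _root_.commutator (PS : Subgroup G) ≤ frattiniP p (PS : Subgroup G))
      exact Subgroup.commutator_mem_commutator (mem_top _) (mem_top _)
    have hsup : pResidual p G ⊔ (PS : Subgroup G) = ⊤ := by
      rw [sup_comm]; exact sylow_sup_pResidual PS
    obtain ⟨-, hcop⟩ := tate_sup_eq_top PS (pResidual p G) hsup hfoc
    obtain ⟨k, hk⟩ := (quotient_pResidual_isPGroup (G := G) (p := p)).exists_card_eq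
    exact ⟨pResidual p G, inferInstance, hcop, k, by rw [index_eq_card]; exact hk⟩

end Cfsg.Agent.S0079
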