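import Cfsg.Statements.S0561
import Cfsg.Agent.Lib.Helper4.Factorized
import Cfsg.Agent.Lib.Helper1.Hall
import Cfsg.Agent.Lib.Helper18.ProductFormula
import Mathlib

set_option autoImplicit false
open Cfsg
open scoped Pointwise

namespace Cfsg.Agent.S0561

open Cfsg.Agent.Lib.Helper4 Cfsg.Agent.Lib.Helper18

/-- number theory: for unitary divisors `a`, `b` of `n` the lcm is a unitary divisor -/
theorem lcm_unitary {n a b : ℕ} (ha : a ∣ n) (hb : b ∣ n)
    (hac : a.Coprime (n / a)) (hbc : b.Coprime (n / b)) :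
    Nat.lcm a b ∣ n ∧ (Nat.lcm a b).Coprime (n / Nat.lcm a b) := by
  have hdvd : Nat.lcm a b ∣ n := Nat.lcm_dvd ha hb
  refine ⟨hdvd, ?_⟩
  apply Nat.coprime_of_dvd'
  intro p hp hpl hpq
  exfalso
  -- p divides a or b
  have hpab : p ∣ a ∨ p ∣ b := by
    have : p ∣ a * b := hpl.trans (Nat.lcm_dvd_mul a b)
    exact (Nat.Prime.dvd_mul hp).mp this
  have hq : n / Nat.lcm a b ∣ n / a ∧ n / Nat.lcm a b ∣ n / b := by
    constructor
    · exact Nat.div_dvd_div_left hdvd (Nat.dvd_lcm_left a b)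
    · exact Nat.div_dvd_div_left hdvd (Nat.dvd_lcm_right a b)
  rcases hpab with h | h
  · exact hp.one_lt.ne' (Nat.eq_one_of_dvd_coprimes hac h (hpq.trans hq.1))
  · exact hp.one_lt.ne' (Nat.eq_one_of_dvd_coprimes hbc h (hpq.trans hq.2))

/-- in a finite solvable group two Hall subgroups have conjugates whose product set is a subgroup -/
theorem exists_conj_isProd {G : Type*} [Group G] [Finite G] [Group.IsSolvable G] (A B : Subgroup G)
    (hAh : (Nat.card A).Coprime A.index) (hBh : (Nat.card B).Coprime B.index) :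
    ∃ (u v : G) (S : Subgroup G), (S : Set G) = ((MulAut.conj u • A : Subgroup G) : Set G) *
      ((MulAut.conj v • B : Subgroup G) : Set G) := by
  set n := Nat.card G with hn
  set a := Nat.card A with ha
  set b := Nat.card B with hb
  have hn0 : n ≠ 0 := Nat.card_pos.ne'
  have hadvd : a ∣ n := Subgroup.card_subgroup_dvd_card A
  have hbdvd : b ∣ n := Subgroup.card_subgroup_dvd_card B
  have hAidx : A.index = n / a := by
    have := Subgroup.card_mul_index A
    exact (Nat.div_eq_of_eq_mul_right Nat.card_pos this.symm).symm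
  have hBidx : B.index = n / b := by
    have := Subgroup.card_mul_index B
    exact (Nat.div_eq_of_eq_mul_right Nat.card_pos this.symm).symm
  rw [hAidx] at hAh
  rw [hBidx] at hBh
  obtain ⟨hmdvd, hmcop⟩ := lcm_unitary hadvd hbdvd hAh hBh
  set m := Nat.lcm a b with hm
  have hsplit : Nat.card G = m * (n / m) := (Nat.mul_div_cancel' hmdvd).symm
  obtain ⟨E, hE⟩ := Cfsg.Agent.Lib.Helper1.hall_exists m (n / m) hsplit hmcop
  obtain ⟨g₁, hg₁⟩ := Cfsg.Agent.Lib.Helper1.hall_le_conj m (n / m) hsplit hmcop E A hE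
    (Nat.Coprime.coprime_dvd_left (Nat.dvd_lcm_left a b) hmcop)
  obtain ⟨g₂, hg₂⟩ := Cfsg.Agent.Lib.Helper1.hall_le_conj m (n / m) hsplit hmcop E B hE
    (Nat.Coprime.coprime_dvd_left (Nat.dvd_lcm_right a b) hmcop)
  set A' := MulAut.conj g₁⁻¹ • A with hA'
  set B' := MulAut.conj g₂⁻¹ • B with hB'
  have hA'E : A' ≤ E := by
    rw [hA', Subgroup.pointwise_smul_subset_iff, map_inv, inv_inv]; exact hg₁
  have hB'E : B' ≤ E := by
    rw [hB', Subgroup.pointwise_smul_subset_iff, map_inv, inv_inv]; exact hg₂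
  have hA'card : Nat.card A' = a :=
    (Nat.card_congr (Subgroup.equivSMul (MulAut.conj g₁⁻¹) A).toEquiv).symm
  have hB'card : Nat.card B' = b :=
    (Nat.card_congr (Subgroup.equivSMul (MulAut.conj g₂⁻¹) B).toEquiv).symm
  refine ⟨g₁⁻¹, g₂⁻¹, A' ⊔ B', ?_⟩
  apply coe_sup_eq_mul_of_card_eq
  apply le_antisymm (card_mul_card_le_card_sup_mul_card_inf A' B')
  have h1 : Nat.card (A' ⊔ B' : Subgroup G) ≤ m := by
    rw [← hE]; exact Subgroup.card_le_of_le (sup_le hA'E hB'E)
  have h2 : Nat.card (A' ⊓ B' : Subgroup G) ≤ Nat.gcd a b := by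
    apply Nat.le_of_dvd (Nat.gcd_pos_of_pos_left _ Nat.card_pos)
    apply Nat.dvd_gcd
    · have := Subgroup.card_dvd_of_le (inf_le_left : A' ⊓ B' ≤ A')
      rwa [hA'card] at this
    · have := Subgroup.card_dvd_of_le (inf_le_right : A' ⊓ B' ≤ B')
      rwa [hB'card] at this
  calc Nat.card (A' ⊔ B' : Subgroup G) * Nat.card (A' ⊓ B' : Subgroup G)
      ≤ m * Nat.gcd a b := Nat.mul_le_mul h1 h2
    _ = a * b := by rw [hm, mul_comm]; exact Nat.gcd_mul_lcm a b
    _ = Nat.card A' * Nat.card B' := by rw [hA'card, hB'card]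

/-- Let the finite solvable group G be the product HK of subgroups, and let A be normal in H and B normal in K, where A and B are Hall subgroups of G (order coprime to index). Then for all x, y the product set of xAx⁻¹ and yBy⁻¹ is a subgroup of G. -/
theorem result {G : Type*} [Group G] [Finite G] [Group.IsSolvable G] (H K A B : Subgroup G) (hHK : ∀ g : G, ∃ h ∈ H, ∃ k ∈ K, g = h * k) (hA : A ≤ H) (hAn : (A.subgroupOf H).Normal) (hB : B ≤ K) (hBn : (B.subgroupOf K).Normal) (hAh : (Nat.card A).Coprime A.index) (hBh : (Nat.card B).Coprime B.index) (x y : G) : ∃ S : Subgroup G, (S : Set G) = ((MulAut.conj x • A : Subgroup G) : Set G) * ((MulAut.conj y • B : Subgroup G) : Set G) := by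
  obtain ⟨u, v, S, hS⟩ := exists_conj_isProd A B hAh hBh
  exact wielandt_permute hHK hA hAn hB hBn hS x y

end Cfsg.Agent.S0561
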