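import Mathlib
import Cfsg.Statements.S0536
import Cfsg.Agent.Lib.Helper1.Schmidt
import Cfsg.Agent.Lib.Helper1.Hall
import Cfsg.Agent.Lib.Helper10.FittingHall

set_option autoImplicit false
open Cfsg
open scoped commutatorElement

namespace Cfsg.Agent.S0536

universe u

/-- a nontrivial finite solvable group has a normal subgroup of prime index -/
theorem exists_normal_index_prime {G : Type*} [Group G] [Finite G] [Group.IsSolvable G]
    [Nontrivial G] : ∃ M : Subgroup G, M.Normal ∧ M.index.Prime := by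
  have hlt : commutator G < ⊤ := Group.IsSolvable.commutator_lt_top_of_nontrivial G
  obtain ⟨M, hM, hle⟩ := (eq_top_or_exists_le_coatom (commutator G)).resolve_left hlt.ne
  have hMn : M.Normal := by
    constructor
    intro n hn g
    have h1 : g * n * g⁻¹ = ⁅g, n⁆ * n := by rw [commutatorElement_def]; group
    rw [h1]
    refine M.mul_mem (hle ?_) hn
    rw [commutator_def]
    exact Subgroup.commutator_mem_commutator (Subgroup.mem_top g) (Subgroup.mem_top n)
  refine ⟨M, hMn, ?_⟩
  have hidx : M.index ≠ 1 := fun h => hM.1 (Subgroup.index_eq_one.mp h)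
  have hr : (M.index.minFac).Prime := Nat.minFac_prime hidx
  have : Fact (M.index.minFac).Prime := ⟨hr⟩
  have hdvd : M.index.minFac ∣ Nat.card (G ⧸ M) := by
    rw [← Subgroup.index_eq_card]; exact Nat.minFac_dvd _
  obtain ⟨xb, hxb⟩ := exists_prime_orderOf_dvd_card' (G := G ⧸ M) M.index.minFac hdvd
  obtain ⟨x, rfl⟩ := QuotientGroup.mk'_surjective M xb
  have hxM : x ∉ M := by
    intro hx
    have : (QuotientGroup.mk' M) x = 1 := by
      rw [QuotientGroup.mk'_apply, QuotientGroup.eq_one_iff]; exact hx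
    rw [this, orderOf_one] at hxb
    exact hr.one_lt.ne hxb
  have hsup : M ⊔ Subgroup.zpowers x = ⊤ := by
    apply hM.2
    refine lt_of_le_of_ne le_sup_left ?_
    intro heq
    apply hxM
    rw [heq]
    exact (le_sup_right : Subgroup.zpowers x ≤ M ⊔ Subgroup.zpowers x) (Subgroup.mem_zpowers x)
  have hz : Subgroup.zpowers ((QuotientGroup.mk' M) x) = ⊤ := by
    have h1 : (M ⊔ Subgroup.zpowers x).map (QuotientGroup.mk' M) = ⊤ := by
      rw [hsup, ← MonoidHom.range_eq_map, MonoidHom.range_eq_top]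
      exact QuotientGroup.mk'_surjective M
    rw [Subgroup.map_sup, MonoidHom.map_zpowers] at h1
    have h2 : M.map (QuotientGroup.mk' M) = ⊥ := QuotientGroup.map_mk'_self M
    rw [h2, bot_sup_eq] at h1
    exact h1
  have hcard : Nat.card (G ⧸ M) = orderOf ((QuotientGroup.mk' M) x) := by
    rw [← Nat.card_zpowers, hz, Subgroup.card_top]
  rw [Subgroup.index_eq_card, hcard, hxb]
  exact hr


/-- in a nilpotent subgroup, a `p`-element and a `q`-element commute -/
theorem commute_of_nilpotent {G : Type*} [Group G] {p q : ℕ} [Fact p.Prime]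
    [Fact q.Prime] (hpq : p ≠ q) (H : Subgroup G) (hH : Group.IsNilpotent H) (x y : G)
    (hx : x ∈ H) (hy : y ∈ H) (hxp : ∃ k, orderOf x = p ^ k) (hyq : ∃ k, orderOf y = q ^ k) :
    x * y = y * x := by
  have hco : (orderOf (⟨x, hx⟩ : H)).Coprime (orderOf (⟨y, hy⟩ : H)) := by
    rw [Subgroup.orderOf_mk, Subgroup.orderOf_mk]
    obtain ⟨k, hk⟩ := hxp; obtain ⟨l, hl⟩ := hyq
    rw [hk, hl]
    exact Nat.Coprime.pow _ _ ((Nat.coprime_primes Fact.out Fact.out).mpr hpq)
  have := Cfsg.Agent.Lib.Helper10.commute_of_coprime_orderOf H ⟨x, hx⟩ ⟨y, hy⟩ hco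
  have h2 := congrArg Subtype.val this.eq
  simpa using h2

theorem orderOf_of_mem_sylow {G : Type*} [Group G] {p : ℕ} [Fact p.Prime] (P : Sylow p G)
    (x : G) (hx : x ∈ (P : Subgroup G)) : ∃ k, orderOf x = p ^ k := by
  obtain ⟨k, hk⟩ := IsPGroup.iff_orderOf.mp P.2 ⟨x, hx⟩
  rw [Subgroup.orderOf_mk] at hk
  exact ⟨k, hk⟩

theorem main {G : Type u} [Group G] [Finite G] (hG : Cfsg.IsMinimalNonNilpotent G) :
    ∃ p q : ℕ, p.Prime ∧ q.Prime ∧ p ≠ q ∧ ∃ (P : Sylow p G) (Q : Sylow q G),
      IsCyclic P ∧ (Q : Subgroup G).Normal ∧ (P : Subgroup G) ⊔ Q = ⊤ := by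
  obtain ⟨hnn, hprop⟩ := hG
  have hsolv : Group.IsSolvable G :=
    Cfsg.Agent.Lib.Helper1.schmidt_aux _ G rfl (fun M hM => hprop M hM.1)
  have hnt : Nontrivial G := by
    by_contra h
    rw [not_nontrivial_iff_subsingleton] at h
    exact hnn inferInstance
  obtain ⟨M, hMn, hMr⟩ := exists_normal_index_prime (G := G)
  have hMtop : M ≠ ⊤ := by
    rintro rfl; rw [Subgroup.index_top] at hMr; exact Nat.not_prime_one hMr
  have hMnil : Group.IsNilpotent M := hprop M hMtop
  -- Sylow s normal for s ≠ r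
  have hnormal : ∀ (s : ℕ) [Fact s.Prime], s ≠ M.index → ∀ S : Sylow s G,
      (S : Subgroup G).Normal := by
    intro s _ hs S
    have hSM : (S : Subgroup G) ≤ M := by
      rw [← Subgroup.relIndex_eq_one]
      have h1 : M.relIndex S ∣ Nat.card S := Subgroup.relIndex_dvd_card M S
      have h2 : M.relIndex S ∣ M.index := Subgroup.relIndex_dvd_index_of_normal M S
      obtain ⟨k, hk⟩ := (IsPGroup.iff_card).mp S.2
      rw [hk] at h1
      have hcop : (s ^ k).Coprime M.index :=
        Nat.Coprime.pow_left k ((Nat.coprime_primes Fact.out hMr).mpr hs)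
      exact Nat.eq_one_of_dvd_coprimes hcop h1 h2
    have h1 : ((S.subtype hSM : Sylow s M) : Subgroup M).Normal := inferInstance
    have h2 : ((S.subtype hSM : Sylow s M) : Subgroup M).Characteristic :=
      Sylow.characteristic_of_normal _ h1
    have h3 : (((S.subtype hSM : Sylow s M) : Subgroup M).map M.subtype).Normal :=
      ConjAct.normal_of_characteristic_of_normal
    rw [Sylow.coe_subtype, Subgroup.subgroupOf_map_subtype, inf_of_le_left hSM] at h3
    exact h3
  -- non-normal Sylow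
  have hex : ∃ (p : ℕ) (_ : Fact p.Prime) (P : Sylow p G), ¬ (P : Subgroup G).Normal := by
    by_contra hcon
    push Not at hcon
    exact hnn ((Group.isNilpotent_of_finite_tfae (G := G)).out 3 0 |>.mp hcon)
  obtain ⟨p, hp, P, hPn⟩ := hex
  have hpr : p = M.index := by
    by_contra hne
    exact hPn (hnormal p hne P)
  have hexq : ∃ (q : ℕ) (_ : Fact q.Prime) (Q : Sylow q G), q ≠ p ∧ (P : Subgroup G) ⊔ Q = ⊤ := by
    by_contra hcon
    push Not at hcon
    apply hPn
    rw [← Subgroup.normalizer_eq_top_iff, ← Subgroup.index_eq_one,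
      Nat.eq_one_iff_not_exists_prime_dvd]
    intro s hs hdvd
    have : Fact s.Prime := ⟨hs⟩
    by_cases hsp : s = p
    · subst hsp
      have h1 : (Subgroup.normalizer ((P : Subgroup G) : Set G)).index ∣ (P : Subgroup G).index :=
        Subgroup.index_dvd_of_le Subgroup.le_normalizer
      exact P.not_dvd_index (hdvd.trans h1)
    · obtain ⟨S⟩ : Nonempty (Sylow s G) := inferInstance
      have hne := hcon s inferInstance S hsp
      have hnil := hprop _ hne
      have hSle : (S : Subgroup G) ≤ Subgroup.normalizer ((P : Subgroup G) : Set G) := by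
        refine le_trans ?_ (Subgroup.centralizer_le_normalizer _)
        intro y hy
        rw [Subgroup.mem_centralizer_iff]
        intro x hx
        exact commute_of_nilpotent (Ne.symm hsp) _ hnil x y (le_sup_left (a := (P : Subgroup G)) hx)
          (le_sup_right (b := (S : Subgroup G)) hy)
          (orderOf_of_mem_sylow P x hx) (orderOf_of_mem_sylow S y hy)
      exact S.not_dvd_index (hdvd.trans (Subgroup.index_dvd_of_le hSle))
  obtain ⟨q, hq, Q, hqp, hPQ⟩ := hexq
  have hQn : (Q : Subgroup G).Normal := hnormal q (hpr ▸ hqp) Q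
  -- exists x ∈ P not centralizing Q
  have hexx : ∃ x ∈ (P : Subgroup G), ∃ y ∈ (Q : Subgroup G), x * y ≠ y * x := by
    by_contra hcon
    push Not at hcon
    apply hPn
    rw [← Subgroup.normalizer_eq_top_iff, eq_top_iff, ← hPQ]
    refine sup_le Subgroup.le_normalizer ?_
    refine le_trans ?_ (Subgroup.centralizer_le_normalizer _)
    intro y hy
    rw [Subgroup.mem_centralizer_iff]
    intro x hx
    exact hcon x hx y hy
  obtain ⟨x, hxP, y, hyQ, hxy⟩ := hexx
  have hzQ : Subgroup.zpowers x ⊔ (Q : Subgroup G) = ⊤ := by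
    by_contra hne
    have hnil := hprop _ hne
    apply hxy
    exact commute_of_nilpotent (Ne.symm hqp) _ hnil x y
      (le_sup_left (a := Subgroup.zpowers x) (Subgroup.mem_zpowers x))
      (le_sup_right (b := (Q : Subgroup G)) hyQ)
      (orderOf_of_mem_sylow P x hxP) (orderOf_of_mem_sylow Q y hyQ)
  have hzP : Subgroup.zpowers x ≤ (P : Subgroup G) := by
    rw [Subgroup.zpowers_le]; exact hxP
  have hdisj : (P : Subgroup G) ⊓ Q = ⊥ :=
    (IsPGroup.disjoint_of_ne p q (Ne.symm hqp) _ _ P.2 Q.2).eq_bot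
  have hdisj2 : Subgroup.zpowers x ⊓ (Q : Subgroup G) = ⊥ := by
    rw [eq_bot_iff, ← hdisj]
    exact inf_le_inf_right _ hzP
  have h1 := Cfsg.Agent.Lib.Helper1.card_sup_mul_card_inf (Subgroup.zpowers x) (Q : Subgroup G)
  have h2 := Cfsg.Agent.Lib.Helper1.card_sup_mul_card_inf (P : Subgroup G) (Q : Subgroup G)
  rw [hzQ, hdisj2, Subgroup.card_top, Subgroup.card_bot, mul_one] at h1
  rw [hPQ, hdisj, Subgroup.card_top, Subgroup.card_bot, mul_one] at h2
  have hQpos : 0 < Nat.card (Q : Subgroup G) := Nat.card_pos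
  have hcardeq : Nat.card (Subgroup.zpowers x) = Nat.card (P : Subgroup G) := by
    apply Nat.eq_of_mul_eq_mul_right hQpos
    rw [← h1, ← h2]
  have hzeq : Subgroup.zpowers x = (P : Subgroup G) :=
    Subgroup.eq_of_le_of_card_ge hzP hcardeq.ge
  refine ⟨p, q, hp.out, hq.out, Ne.symm hqp, P, Q, ?_, hQn, hPQ⟩
  exact (Subgroup.isCyclic_iff_exists_zpowers_eq_top (P : Subgroup G)).mpr ⟨x, hzeq⟩

theorem result {G : Type*} [Group G] [Finite G] (hG : Cfsg.IsMinimalNonNilpotent G) : ∃ p q : ℕ, p.Prime ∧ q.Prime ∧ p ≠ q ∧ ∃ (P : Sylow p G) (Q : Sylow q G), IsCyclic P ∧ (Q : Subgroup G).Normal ∧ (P : Subgroup G) ⊔ Q = ⊤ :=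
  main hG

end Cfsg.Agent.S0536
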