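import Cfsg.Statements.S0581
import Mathlib
import Cfsg.Agent.S0536
import Cfsg.Agent.S0545
import Cfsg.Agent.Lib.Helper1.Schmidt
import Cfsg.Agent.Lib.Helper1.Basic
import Cfsg.Agent.Lib.Helper9.Conj
import Cfsg.Agent.Lib.Helper10.FittingHall

set_option autoImplicit false
open Pointwise
open Cfsg

namespace Cfsg.Agent.S0581

universe u

open Cfsg.Agent.Lib.Helper1

/-- A finite group all of whose proper subgroups are nilpotent and whose order is not a prime power
has a nontrivial normal Sylow subgroup with a complement. -/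
theorem exists_normal_sylow_complement (K : Type u) [Group K] [Finite K]
    (hprop : ∀ L : Subgroup K, L ≠ ⊤ → Group.IsNilpotent L)
    (hnp : ∀ p k : ℕ, p.Prime → Nat.card K ≠ p ^ k) :
    ∃ q : ℕ, q.Prime ∧ ∃ Q L : Subgroup K, Q.Normal ∧ IsPGroup q Q ∧ Q ≠ ⊥ ∧
      (Nat.card L).Coprime q ∧ Subgroup.IsComplement' Q L := by
  have hsolv : Group.IsSolvable K := schmidt_aux _ K rfl (fun M hM => hprop M hM.1)
  have hnt : Nontrivial K := by
    rw [← Finite.one_lt_card_iff_nontrivial]
    have h1 : Nat.card K ≠ 1 := by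
      have := hnp 2 0 Nat.prime_two
      simpa using this
    have h2 : 0 < Nat.card K := Nat.card_pos
    omega
  obtain ⟨M, hMn, hMp⟩ := Cfsg.Agent.S0536.exists_normal_index_prime (G := K)
  set p := M.index with hp
  have hMne : M ≠ ⊤ := by
    intro h
    rw [hp, h, Subgroup.index_top] at hMp
    exact Nat.not_prime_one hMp
  have hMnil : Group.IsNilpotent M := hprop M hMne
  -- a prime different from `p`
  obtain ⟨q, hq, hqK, hqp⟩ : ∃ q : ℕ, q.Prime ∧ q ∣ Nat.card K ∧ q ≠ p := by
    by_contra hcon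
    push Not at hcon
    have h1 : ∀ {q : ℕ}, q.Prime → q ∣ Nat.card K → q = p := fun {q} hq hqd => hcon q hq hqd
    exact hnp p _ hMp (Nat.eq_prime_pow_of_unique_prime_dvd Nat.card_pos.ne' h1)
  have : Fact q.Prime := ⟨hq⟩
  have hKM : Nat.card K = Nat.card M * p := (Subgroup.card_mul_index M).symm
  have hqM : q ∣ Nat.card M := by
    rw [hKM] at hqK
    rcases (Nat.Prime.dvd_mul hq).1 hqK with h | h
    · exact h
    · exact absurd ((Nat.prime_dvd_prime_iff_eq hq hMp).1 h) hqp
  let Q₁ : Sylow q M := default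
  have hQ₁n : (Q₁ : Subgroup M).Normal := inferInstance
  have hQ₁c : (Q₁ : Subgroup M).Characteristic := Sylow.characteristic_of_normal Q₁ hQ₁n
  set Q : Subgroup K := (Q₁ : Subgroup M).map M.subtype with hQ
  have hQn : Q.Normal := ConjAct.normal_of_characteristic_of_normal
  have hQp : IsPGroup q Q := Q₁.isPGroup'.map _
  have hQcard : Nat.card Q = Nat.card (Q₁ : Subgroup M) :=
    Subgroup.card_map_of_injective M.subtype_injective
  have hQne : Q ≠ ⊥ := by
    intro h
    have h1 : Nat.card Q = 1 := by rw [h, Subgroup.card_bot]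
    rw [hQcard] at h1
    have := Q₁.ne_bot_of_dvd_card hqM
    exact this (Subgroup.card_eq_one.1 h1)
  have hQidx : Q.index = (Q₁ : Subgroup M).index * p := Subgroup.index_map_subtype _
  have hcop : (Nat.card Q).Coprime Q.index := by
    obtain ⟨k, hk⟩ := IsPGroup.iff_card.1 hQp
    rw [hk, hQidx]
    apply Nat.Coprime.pow_left
    apply Nat.Coprime.mul_right
    · exact (Nat.Prime.coprime_iff_not_dvd hq).2 Q₁.not_dvd_index
    · exact (Nat.coprime_primes hq hMp).2 hqp
  obtain ⟨L, hL⟩ := Subgroup.exists_right_complement'_of_coprime hcop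
  refine ⟨q, hq, Q, L, hQn, hQp, hQne, ?_, hL⟩
  have h1 : Nat.card Q * Nat.card L = Nat.card K := hL.card_mul_card
  have h2 : Nat.card Q * Q.index = Nat.card K := Subgroup.card_mul_index Q
  have h3 : Nat.card L = Q.index := by
    have : Nat.card Q * Nat.card L = Nat.card Q * Q.index := by rw [h1, h2]
    exact Nat.eq_of_mul_eq_mul_left Nat.card_pos this
  rw [h3, hQidx]
  apply Nat.Coprime.mul_left
  · exact ((Nat.Prime.coprime_iff_not_dvd hq).2 Q₁.not_dvd_index).symm
  · exact ((Nat.coprime_primes hq hMp).2 hqp).symm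

/-- the case where `K` has prime power order: Sylow's theorem -/
theorem prime_power_case {G : Type u} [Group G] [Finite G] (H K : Subgroup G)
    (hHall : (Nat.card H).Coprime H.index)
    (hK : ∀ p : ℕ, p.Prime → p ∣ Nat.card K → p ∣ Nat.card H)
    (p k : ℕ) (hp : p.Prime) (hcard : Nat.card K = p ^ k) : ∃ x : G, ∀ y ∈ K, x⁻¹ * y * x ∈ H := by
  rcases Nat.eq_zero_or_pos k with rfl | hk
  · refine ⟨1, fun y hy => ?_⟩
    have : K = ⊥ := Subgroup.card_eq_one.1 (by simpa using hcard)
    rw [this, Subgroup.mem_bot] at hy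
    rw [hy]
    simp
  · have : Fact p.Prime := ⟨hp⟩
    have hpK : p ∣ Nat.card K := by rw [hcard]; exact dvd_pow_self p hk.ne'
    have hpH := hK p hp hpK
    let P : Sylow p H := default
    have hidx : ¬ p ∣ ((P : Subgroup H).map H.subtype).index := by
      rw [Subgroup.index_map_subtype]
      intro h
      rcases (Nat.Prime.dvd_mul hp).1 h with h | h
      · exact P.not_dvd_index h
      · exact Nat.Prime.not_coprime_iff_dvd.2 ⟨p, hp, hpH, h⟩ hHall
    let PS : Sylow p G := (P.isPGroup'.map H.subtype).toSylow hidx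
    obtain ⟨x, hx⟩ := Cfsg.Agent.Lib.Helper9.exists_le_conjMap_sylow PS (IsPGroup.of_card hcard)
    refine ⟨x, fun y hy => ?_⟩
    have h1 := hx hy
    rw [Cfsg.Agent.Lib.Helper9.mem_conjMap] at h1
    exact Subgroup.map_subtype_le _ h1

/-- the inductive step -/
theorem step {G : Type u} [Group G] [Finite G] (H K : Subgroup G) (hH : Group.IsNilpotent H)
    (hHall : (Nat.card H).Coprime H.index)
    (hK : ∀ p : ℕ, p.Prime → p ∣ Nat.card K → p ∣ Nat.card H)
    (q : ℕ) (hq : q.Prime) (Q₀ L₀ : Subgroup G) (hL₀K : L₀ ≤ K) (hQ₀H : Q₀ ≤ H)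
    (hQ₀p : IsPGroup q Q₀) (hQ₀n : K ≤ Subgroup.normalizer ((Q₀ : Subgroup G) : Set G))
    (hL₀cop : (Nat.card L₀).Coprime q)
    (hprod : ∀ y ∈ K, ∃ u ∈ Q₀, ∃ l ∈ L₀, y = u * l)
    (IH : ∀ (G' : Type u) [Group G'] [Finite G'] (H' K' : Subgroup G'), Group.IsNilpotent H' →
      (Nat.card H').Coprime H'.index → (∀ p : ℕ, p.Prime → p ∣ Nat.card K' → p ∣ Nat.card H') →
      Nat.card K' = Nat.card L₀ → ∃ x : G', ∀ y ∈ K', x⁻¹ * y * x ∈ H') :
    ∃ x : G, ∀ y ∈ K, x⁻¹ * y * x ∈ H := by
  have : Fact q.Prime := ⟨hq⟩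
  -- the `q`-complement `T` of `H`
  let Hq : Sylow q H := default
  have hHqn : (Hq : Subgroup H).Normal := inferInstance
  obtain ⟨T₁, hT₁⟩ := Subgroup.exists_right_complement'_of_coprime Hq.card_coprime_index
  set T : Subgroup G := T₁.map H.subtype with hT
  have hTH : T ≤ H := Subgroup.map_subtype_le _
  have hTcard : Nat.card T = Nat.card T₁ := Subgroup.card_map_of_injective H.subtype_injective
  have hmul : Nat.card (Hq : Subgroup H) * Nat.card T₁ = Nat.card H := hT₁.card_mul_card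
  obtain ⟨e, he⟩ := IsPGroup.iff_card.1 Hq.isPGroup'
  have hT₁idx : T₁.index = q ^ e := by
    have h2 : Nat.card T₁ * T₁.index = Nat.card H := Subgroup.card_mul_index T₁
    have : Nat.card T₁ * T₁.index = Nat.card T₁ * q ^ e := by rw [h2, ← he, mul_comm, hmul]
    exact Nat.eq_of_mul_eq_mul_left Nat.card_pos this
  have hT₁cop : (Nat.card T₁).Coprime q := by
    have h3 := Hq.card_coprime_index
    have h4 : (Hq : Subgroup H).index = Nat.card T₁ := by
      have h5 : Nat.card (Hq : Subgroup H) * (Hq : Subgroup H).index = Nat.card H :=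
        Subgroup.card_mul_index _
      have : Nat.card (Hq : Subgroup H) * (Hq : Subgroup H).index =
          Nat.card (Hq : Subgroup H) * Nat.card T₁ := by rw [h5, hmul]
      exact Nat.eq_of_mul_eq_mul_left Nat.card_pos this
    rw [h4, he] at h3
    rcases Nat.eq_zero_or_pos e with rfl | hepos
    · -- `q ∤ |H|`
      rw [pow_zero] at he
      have h6 : Nat.card T₁ = Nat.card H := by rw [← hmul, he, one_mul]
      rw [h6]
      have h7 : ¬ q ∣ Nat.card H := by
        intro h
        have := Hq.ne_bot_of_dvd_card h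
        exact this (Subgroup.card_eq_one.1 he)
      exact ((Nat.Prime.coprime_iff_not_dvd hq).2 h7).symm
    · exact (Nat.Coprime.coprime_dvd_left (dvd_pow_self q hepos.ne') h3).symm
  have hTnil : Group.IsNilpotent T := isNilpotent_of_le hTH hH
  -- `T` centralizes `Q₀`
  have hcomm : ∀ t ∈ T, ∀ u ∈ Q₀, t * u = u * t := by
    intro t ht u hu
    have h1 : (orderOf t).Coprime (orderOf u) := by
      obtain ⟨j, hj⟩ := IsPGroup.iff_orderOf.1 hQ₀p ⟨u, hu⟩
      rw [Subgroup.orderOf_mk] at hj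
      rw [hj]
      apply Nat.Coprime.pow_right
      have h2 : orderOf t ∣ Nat.card T := by
        have := orderOf_dvd_natCard (⟨t, ht⟩ : T)
        rwa [Subgroup.orderOf_mk] at this
      rw [hTcard] at h2
      exact Nat.Coprime.coprime_dvd_left h2 hT₁cop
    have h3 := Cfsg.Agent.Lib.Helper10.commute_of_coprime_orderOf H ⟨t, hTH ht⟩ ⟨u, hQ₀H hu⟩
      (by rwa [Subgroup.orderOf_mk, Subgroup.orderOf_mk])
    exact congrArg Subtype.val h3.eq
  set N : Subgroup G := Subgroup.normalizer ((Q₀ : Subgroup G) : Set G) with hN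
  have hTN : T ≤ N := by
    intro t ht
    rw [hN, Subgroup.mem_normalizer_iff]
    intro u
    constructor
    · intro hu
      have : t * u * t⁻¹ = u := by rw [hcomm t ht u hu]; group
      rwa [this]
    · intro hu
      have h1 := hcomm t ht _ hu
      have : u = t * u * t⁻¹ := by
        have h2 : t * (t * u * t⁻¹) = t * u := by rw [h1]; group
        exact (mul_left_cancel h2).symm
      rwa [this]
  have hL₀N : L₀ ≤ N := hL₀K.trans hQ₀n
  -- hypotheses of the induction hypothesis in `N`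
  have hTNnil : Group.IsNilpotent (T.subgroupOf N) :=
    Group.nilpotent_of_mulEquiv (Subgroup.subgroupOfEquivOfLe hTN).symm
  have hTNcard : Nat.card (T.subgroupOf N) = Nat.card T :=
    Nat.card_congr (Subgroup.subgroupOfEquivOfLe hTN).toEquiv
  have hLNcard : Nat.card (L₀.subgroupOf N) = Nat.card L₀ :=
    Nat.card_congr (Subgroup.subgroupOfEquivOfLe hL₀N).toEquiv
  have hTidx : T.index = q ^ e * H.index := by
    rw [hT, Subgroup.index_map_subtype, hT₁idx]
  have hTHall : (Nat.card (T.subgroupOf N)).Coprime (T.subgroupOf N).index := by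
    rw [hTNcard]
    have h1 : (T.subgroupOf N).index ∣ T.index := Subgroup.relIndex_dvd_index_of_le hTN
    apply Nat.Coprime.coprime_dvd_right h1
    rw [hTidx, hTcard]
    apply Nat.Coprime.mul_right
    · exact Nat.Coprime.pow_right e hT₁cop
    · apply Nat.Coprime.coprime_dvd_left _ hHall
      rw [← hmul]; exact dvd_mul_left _ _
  have hprimes : ∀ p : ℕ, p.Prime → p ∣ Nat.card (L₀.subgroupOf N) →
      p ∣ Nat.card (T.subgroupOf N) := by
    intro p hp hpL
    rw [hLNcard] at hpL
    rw [hTNcard, hTcard]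
    have hpK : p ∣ Nat.card K := dvd_trans hpL (Subgroup.card_dvd_of_le hL₀K)
    have hpH := hK p hp hpK
    rw [← hmul, he] at hpH
    rcases (Nat.Prime.dvd_mul hp).1 hpH with h | h
    · exfalso
      have hpq : p = q := (Nat.prime_dvd_prime_iff_eq hp hq).1 (hp.dvd_of_dvd_pow h)
      rw [hpq] at hpL
      exact (Nat.Prime.coprime_iff_not_dvd hq).1 hL₀cop.symm hpL
    · exact h
  obtain ⟨n, hn⟩ := IH N (T.subgroupOf N) (L₀.subgroupOf N) hTNnil hTHall hprimes hLNcard
  refine ⟨(n : G), fun y hy => ?_⟩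
  obtain ⟨u, hu, l, hl, rfl⟩ := hprod y hy
  have h1 : (n : G)⁻¹ * u * (n : G) ∈ H := by
    apply hQ₀H
    have hn' : (n : G)⁻¹ ∈ N := N.inv_mem n.2
    have := (Subgroup.mem_normalizer_iff.1 hn' u).1 hu
    simpa using this
  have h2 : (n : G)⁻¹ * l * (n : G) ∈ H := by
    apply hTH
    have := hn ⟨l, hL₀N hl⟩ (Subgroup.mem_subgroupOf.2 hl)
    exact Subgroup.mem_subgroupOf.1 this
  have : (n : G)⁻¹ * (u * l) * (n : G) = ((n : G)⁻¹ * u * (n : G)) * ((n : G)⁻¹ * l * (n : G)) := by
    group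
  rw [this]
  exact H.mul_mem h1 h2

theorem main : ∀ (n : ℕ) (G : Type u) [Group G] [Finite G] (H K : Subgroup G), Group.IsNilpotent H →
    (Nat.card H).Coprime H.index → (∀ p : ℕ, p.Prime → p ∣ Nat.card K → p ∣ Nat.card H) →
    Nat.card K = n → ∃ x : G, ∀ y ∈ K, x⁻¹ * y * x ∈ H := by
  intro n
  induction n using Nat.strong_induction_on with
  | _ n ih =>
  intro G _ _ H K hH hHall hK hcard
  by_cases hpp : ∃ p k : ℕ, p.Prime ∧ Nat.card K = p ^ k
  · obtain ⟨p, k, hp, hpk⟩ := hpp
    exact prime_power_case H K hHall hK p k hp hpk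
  push Not at hpp
  have hprop : ∀ L : Subgroup K, L ≠ ⊤ → Group.IsNilpotent L := by
    intro L hL
    have hL'card : Nat.card (L.map K.subtype) = Nat.card L :=
      Subgroup.card_map_of_injective K.subtype_injective
    have hlt : Nat.card (L.map K.subtype) < n := by
      rw [hL'card, ← hcard]; exact card_subgroup_lt_of_ne_top hL
    have hL'K : L.map K.subtype ≤ K := Subgroup.map_subtype_le _
    obtain ⟨x, hx⟩ := ih _ hlt G H (L.map K.subtype) hH hHall
      (fun p hp hpL => hK p hp (dvd_trans hpL (Subgroup.card_dvd_of_le hL'K))) rfl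
    have hle : L.map K.subtype ≤ MulAut.conj x • H := fun y hy => mem_conj_smul.2 (hx y hy)
    have hnil : Group.IsNilpotent (MulAut.conj x • H : Subgroup G) :=
      Group.nilpotent_of_mulEquiv (Subgroup.equivSMul (MulAut.conj x) H)
    have h1 : Group.IsNilpotent (L.map K.subtype) := isNilpotent_of_le hle hnil
    exact Group.nilpotent_of_mulEquiv (L.equivMapOfInjective _ K.subtype_injective).symm
  obtain ⟨q, hq, Q, L, hQn, hQp, hQne, hLcop, hQL⟩ :=
    exists_normal_sylow_complement K hprop (fun p k hp => hpp p k hp)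
  have : Fact q.Prime := ⟨hq⟩
  have hQ₀card : Nat.card (Q.map K.subtype) = Nat.card Q :=
    Subgroup.card_map_of_injective K.subtype_injective
  have hL₀card : Nat.card (L.map K.subtype) = Nat.card L :=
    Subgroup.card_map_of_injective K.subtype_injective
  have hQL' : Nat.card Q * Nat.card L = Nat.card K := hQL.card_mul_card
  have hQ1 : 1 < Nat.card Q := by
    have h0 : 0 < Nat.card Q := Nat.card_pos
    have h1 : Nat.card Q ≠ 1 := fun h => hQne (Subgroup.card_eq_one.1 h)
    omega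
  have hL1 : 1 < Nat.card L := by
    have h0 : 0 < Nat.card L := Nat.card_pos
    have h1 : Nat.card L ≠ 1 := by
      intro h
      obtain ⟨k, hk⟩ := IsPGroup.iff_card.1 hQp
      apply hpp q k hq
      rw [← hQL', h, mul_one, hk]
    omega
  have hQ₀lt : Nat.card (Q.map K.subtype) < n := by
    rw [hQ₀card, ← hcard, ← hQL']
    have h0 : 0 < Nat.card Q := Nat.card_pos
    nlinarith
  have hL₀lt : Nat.card (L.map K.subtype) < n := by
    rw [hL₀card, ← hcard, ← hQL']
    have h0 : 0 < Nat.card L := Nat.card_pos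
    nlinarith
  have hQ₀K : Q.map K.subtype ≤ K := Subgroup.map_subtype_le _
  have hL₀K : L.map K.subtype ≤ K := Subgroup.map_subtype_le _
  obtain ⟨x₀, hx₀⟩ := ih _ hQ₀lt G H (Q.map K.subtype) hH hHall
    (fun p hp hpL => hK p hp (dvd_trans hpL (Subgroup.card_dvd_of_le hQ₀K))) rfl
  have hH'nil : Group.IsNilpotent (MulAut.conj x₀ • H : Subgroup G) :=
    Group.nilpotent_of_mulEquiv (Subgroup.equivSMul (MulAut.conj x₀) H)
  have hH'Hall : (Nat.card (MulAut.conj x₀ • H : Subgroup G)).Coprime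
      (MulAut.conj x₀ • H : Subgroup G).index := by
    rw [card_conj_smul, Cfsg.Agent.S0545.index_conj_smul]
    exact hHall
  have hK' : ∀ p : ℕ, p.Prime → p ∣ Nat.card K → p ∣ Nat.card (MulAut.conj x₀ • H : Subgroup G) := by
    intro p hp hpK
    rw [card_conj_smul]
    exact hK p hp hpK
  have hQ₀H' : Q.map K.subtype ≤ MulAut.conj x₀ • H := fun y hy => mem_conj_smul.2 (hx₀ y hy)
  have hQ₀n : K ≤ Subgroup.normalizer (((Q.map K.subtype : Subgroup G)) : Set G) := by
    apply le_normalizer_of_forall_conj_mem'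
    rintro k hk _ ⟨u, hu, rfl⟩
    exact ⟨⟨k, hk⟩ * u * ⟨k, hk⟩⁻¹, hQn.conj_mem u hu ⟨k, hk⟩, rfl⟩
  have hprod : ∀ y ∈ K, ∃ u ∈ Q.map K.subtype, ∃ l ∈ L.map K.subtype, y = u * l := by
    intro y hy
    obtain ⟨u, hu, l, hl, hul⟩ := IsComplement'.exists_mul_eq hQL ⟨y, hy⟩
    refine ⟨u, ⟨u, hu, rfl⟩, l, ⟨l, hl, rfl⟩, ?_⟩
    have := congrArg Subtype.val hul
    exact this.symm
  obtain ⟨x, hx⟩ := step (MulAut.conj x₀ • H) K hH'nil hH'Hall hK' q hq (Q.map K.subtype)
    (L.map K.subtype) hL₀K hQ₀H' (hQp.map _) hQ₀n (by rw [hL₀card]; exact hLcop) hprod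
    (fun G' _ _ H' K' h1 h2 h3 h4 => ih _ hL₀lt G' H' K' h1 h2 h3 h4)
  refine ⟨x * x₀, fun y hy => ?_⟩
  have h1 := hx y hy
  rw [mem_conj_smul] at h1
  have h2 : (x * x₀)⁻¹ * y * (x * x₀) = x₀⁻¹ * (x⁻¹ * y * x) * x₀ := by group
  rw [h2]
  exact h1

theorem result {G : Type*} [Group G] [Finite G] (H K : Subgroup G) (hH : Group.IsNilpotent H) (hHall : (Nat.card H).Coprime H.index) (hK : ∀ p : ℕ, p.Prime → p ∣ Nat.card K → p ∣ Nat.card H) : ∃ x : G, K ≤ MulAut.conj x • H := by
  obtain ⟨x, hx⟩ := main _ G H K hH hHall hK rfl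
  exact ⟨x, fun y hy => mem_conj_smul.2 (hx y hy)⟩

end Cfsg.Agent.S0581
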