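import Cfsg.Statements.S0562
import Mathlib

set_option autoImplicit false
open Cfsg

namespace Cfsg.Agent.S0562

open Pointwise

theorem conj_smul_eq_self_iff {G : Type*} [Group G] (g : G) (X : Subgroup G) :
    MulAut.conj g • X = X ↔ g ∈ Subgroup.normalizer (X : Set G) := by
  rw [Subgroup.mem_normalizer_iff_map_conj_eq]; rfl

theorem normal_conj {G : Type*} [Group G] {A H : Subgroup G} (hA : A ≤ H)
    (hAn : (A.subgroupOf H).Normal) {a x : G} (ha : a ∈ A) (hx : x ∈ H) : x * a * x⁻¹ ∈ A := by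
  have h1 : (⟨a, hA ha⟩ : H) ∈ A.subgroupOf H := Subgroup.mem_subgroupOf.mpr ha
  have h2 := hAn.conj_mem _ h1 ⟨x, hx⟩
  rw [Subgroup.mem_subgroupOf] at h2
  simpa using h2

/-- Let the finite group G be the product HK of subgroups, A normal in H, B normal in K, and L the normalizer of the subgroup generated by A and B. Then every element of L is a product of an element of L ∩ H and an element of L ∩ K. -/
theorem result {G : Type*} [Group G] [Finite G] (H K A B : Subgroup G) (hHK : ∀ g : G, ∃ h ∈ H, ∃ k ∈ K, g = h * k) (hA : A ≤ H) (hAn : (A.subgroupOf H).Normal) (hB : B ≤ K) (hBn : (B.subgroupOf K).Normal) : ∀ g ∈ Subgroup.normalizer ((A ⊔ B : Subgroup G) : Set G), ∃ h ∈ Subgroup.normalizer ((A ⊔ B : Subgroup G) : Set G) ⊓ H, ∃ k ∈ Subgroup.normalizer ((A ⊔ B : Subgroup G) : Set G) ⊓ K, g = h * k := by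
  intro g hg
  obtain ⟨h, hh, k, hk, rfl⟩ := hHK g
  have hY : MulAut.conj k • (A ⊔ B) = MulAut.conj h⁻¹ • (A ⊔ B) := by
    have h1 : MulAut.conj (h * k) • (A ⊔ B) = A ⊔ B := (conj_smul_eq_self_iff _ _).mpr hg
    rw [map_mul, mul_smul] at h1
    rw [map_inv]
    conv_rhs => rw [← h1]
    rw [inv_smul_smul]
  have hle : A ⊔ B ≤ MulAut.conj k • (A ⊔ B) := by
    apply sup_le
    · rw [hY]
      intro a ha
      rw [Subgroup.mem_pointwise_smul_iff_inv_smul_mem]
      simp only [MulAut.smul_def, ← map_inv, MulAut.conj_apply, inv_inv]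
      exact (le_sup_left : A ≤ A ⊔ B) (normal_conj hA hAn ha hh)
    · intro b hb
      rw [Subgroup.mem_pointwise_smul_iff_inv_smul_mem]
      simp only [MulAut.smul_def, ← map_inv, MulAut.conj_apply, inv_inv]
      have := normal_conj hB hBn hb (K.inv_mem hk)
      rw [inv_inv] at this
      exact (le_sup_right : B ≤ A ⊔ B) this
  have hcard : Nat.card (MulAut.conj k • (A ⊔ B) : Subgroup G) ≤ Nat.card (A ⊔ B : Subgroup G) :=
    le_of_eq (Nat.card_congr (Subgroup.equivSMul (MulAut.conj k) (A ⊔ B)).toEquiv).symm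
  have heq : A ⊔ B = MulAut.conj k • (A ⊔ B) := Subgroup.eq_of_le_of_card_ge hle hcard
  have hkN : k ∈ Subgroup.normalizer ((A ⊔ B : Subgroup G) : Set G) :=
    (conj_smul_eq_self_iff _ _).mp heq.symm
  have hhN : h ∈ Subgroup.normalizer ((A ⊔ B : Subgroup G) : Set G) := by
    have : h⁻¹ ∈ Subgroup.normalizer ((A ⊔ B : Subgroup G) : Set G) :=
      (conj_smul_eq_self_iff _ _).mp (hY ▸ heq.symm)
    have h2 := Subgroup.inv_mem _ this
    rwa [inv_inv] at h2
  exact ⟨h, ⟨hhN, hh⟩, k, ⟨hkN, hk⟩, rfl⟩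

end Cfsg.Agent.S0562
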