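import Mathlib
import Cfsg.Statements.S1363
import Cfsg.Agent.S1430
import Cfsg.Agent.Lib.Helper3.BG14E
import Cfsg.Agent.Lib.Helper7.BG148C

set_option autoImplicit false
open Cfsg

namespace Cfsg.Agent.S1363

/-- Let G be a minimal simple group of odd order and M a maximal subgroup with standard factorisation M = K U M_σ and K ≠ 1. Then U is abelian and the normalizer of U in G is not contained in M. -/
theorem result {G : Type*} [Group G] [Finite G] (hG : Cfsg.IsMinSimpleOddOrder G)
    (M : Subgroup G) (hM : IsCoatom M) (K U : Subgroup G) (hKU : Cfsg.IsSigmaDecomposition M K U) (hK1 : K ≠ ⊥) :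
    IsMulCommutative U ∧ ¬ Subgroup.normalizer (U : Set G) ≤ M := by
  have h30 : Cfsg.Agent.Lib.Helper3.BGStubs.P1430 G :=
    fun M hM K hK hK1 => Cfsg.Agent.S1430.result hG M hM K hK hK1
  refine ⟨Cfsg.Agent.Lib.Helper3.BG14.s1363a_of hG h30 M hM K U hKU hK1, ?_⟩
  by_cases hU1 : U = ⊥
  · intro h
    have h2 : Subgroup.normalizer ((U : Subgroup G) : Set G) = ⊤ := by
      rw [hU1, eq_top_iff]
      intro g _
      rw [Subgroup.mem_normalizer_iff]
      intro x
      simp only [Subgroup.mem_bot]
      constructor
      · rintro rfl; group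
      · intro hx
        have : x = g⁻¹ * (g * x * g⁻¹) * g := by group
        rw [this, hx]; group
    rw [h2] at h
    exact hM.1 (top_le_iff.mp h)
  · exact Cfsg.Agent.Lib.Helper7.BG148.normalizer_U_not_le hG hM hKU hK1 hU1

end Cfsg.Agent.S1363
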