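import Cfsg.Statements.S1499
import Mathlib

set_option autoImplicit false
open Cfsg

namespace Cfsg.Agent.S1499

theorem mem_centralizer_singleton {G : Type*} [Group G] (a c : G) :
    c ∈ Subgroup.centralizer ({a} : Set G) ↔ c * a * c⁻¹ = a := by
  simp only [Subgroup.mem_centralizer_iff, Set.mem_singleton_iff, forall_eq]
  constructor
  · intro h
    rw [← h]; group
  · intro h
    have : a * c = (c * a * c⁻¹) * c := by rw [h]
    rw [this]; group

theorem pow_eq_one_of_mem {G : Type*} [Group G] [Finite G] (K : Subgroup G) {x : G} (hx : x ∈ K)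
    (n : ℕ) (hn : Nat.card K ∣ n) : x ^ n = 1 := by
  obtain ⟨d, rfl⟩ := hn
  have h1 : x ^ Nat.card K = 1 := by
    have := pow_card_eq_one' (G := K) (x := ⟨x, hx⟩)
    exact congrArg Subtype.val this
  rw [pow_mul, h1, one_pow]

/-- Extract the `n`-part of a product of commuting elements of coprime "orders". -/
theorem pow_trick {G : Type*} [Group G] (n m k : ℕ) (hk1 : k ≡ 1 [MOD n]) (hk0 : k ≡ 0 [MOD m])
    (a u : G) (hau : a * u = u * a) (ha : a ^ n = 1) (hu : u ^ m = 1) : (a * u) ^ k = a := by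
  have h1 : a ^ k = a := by
    have hd : orderOf a ∣ n := orderOf_dvd_of_pow_eq_one ha
    have := (pow_eq_pow_iff_modEq (x := a)).2 (hk1.of_dvd hd)
    rw [this, pow_one]
  have h2 : u ^ k = 1 := by
    have hd : orderOf u ∣ m := orderOf_dvd_of_pow_eq_one hu
    have := (pow_eq_pow_iff_modEq (x := u)).2 (hk0.of_dvd hd)
    rw [this, pow_zero]
  rw [(show Commute a u from hau).mul_pow, h1, h2, mul_one]

/-- Key lemma: a conjugacy between elements of two cosets `a H(a)`, `b H(b)` conjugates `a` to `b`. -/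
theorem conj_eq {G : Type*} [Group G] [Finite G] (A : Set G) (L : Subgroup G) (H : G → Subgroup G)
    (hD : Cfsg.DadeHypothesis A L H) (a b : G) (ha : a ∈ A) (hb : b ∈ A)
    (u : G) (hu : u ∈ H a) (v : G) (hv : v ∈ H b) (g : G) (hg : g * (a * u) * g⁻¹ = b * v) :
    g * a * g⁻¹ = b := by
  set n := Nat.card ↥(L ⊓ Subgroup.centralizer ({a} : Set G)) *
    Nat.card ↥(L ⊓ Subgroup.centralizer ({b} : Set G)) with hn
  set m := Nat.card (H a) * Nat.card (H b) with hm
  have hcop : Nat.Coprime n m := by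
    apply Nat.Coprime.symm
    apply Nat.Coprime.mul_left
    · exact Nat.Coprime.mul_right (hD.coprime a ha a ha) (hD.coprime a ha b hb)
    · exact Nat.Coprime.mul_right (hD.coprime b hb a ha) (hD.coprime b hb b hb)
  obtain ⟨k, hk1, hk0⟩ := Nat.chineseRemainder hcop 1 0
  have haC : a ∈ L ⊓ Subgroup.centralizer ({a} : Set G) :=
    ⟨hD.subset ha, (mem_centralizer_singleton a a).2 (by group)⟩
  have hbC : b ∈ L ⊓ Subgroup.centralizer ({b} : Set G) :=
    ⟨hD.subset hb, (mem_centralizer_singleton b b).2 (by group)⟩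
  have han : a ^ n = 1 := pow_eq_one_of_mem _ haC n (Dvd.intro _ rfl)
  have hbn : b ^ n = 1 := pow_eq_one_of_mem _ hbC n (Dvd.intro_left _ rfl)
  have hum : u ^ m = 1 := pow_eq_one_of_mem _ hu m (Dvd.intro _ rfl)
  have hvm : v ^ m = 1 := pow_eq_one_of_mem _ hv m (Dvd.intro_left _ rfl)
  have hau : a * u = u * a := by
    have := hD.le_centralizer a ha hu
    rw [Subgroup.mem_centralizer_iff] at this
    exact this a rfl
  have hbv : b * v = v * b := by
    have := hD.le_centralizer b hb hv
    rw [Subgroup.mem_centralizer_iff] at this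
    exact this b rfl
  have e1 : (a * u) ^ k = a := pow_trick n m k hk1 hk0 a u hau han hum
  have e2 : (b * v) ^ k = b := pow_trick n m k hk1 hk0 b v hbv hbn hvm
  calc g * a * g⁻¹ = g * (a * u) ^ k * g⁻¹ := by rw [e1]
    _ = (g * (a * u) * g⁻¹) ^ k := (conj_pow).symm
    _ = b := by rw [hg, e2]

theorem result {G : Type*} [Group G] [Finite G] (A : Set G) (L : Subgroup G) (H : G → Subgroup G) (hD : Cfsg.DadeHypothesis A L H) (a b : G) (ha : a ∈ A) (hb : b ∈ A) : ((∃ u ∈ H a, ∃ v ∈ H b, ∃ g : G, g * (a * u) * g⁻¹ = b * v) → ∃ x ∈ L, x * a * x⁻¹ = b) ∧ Subgroup.normalizer ((fun u : G => a * u) '' (H a : Set G)) = Subgroup.centralizer ({a} : Set G) := by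
  refine ⟨?_, ?_⟩
  · rintro ⟨u, hu, v, hv, g, hg⟩
    have h1 := conj_eq A L H hD a b ha hb u hu v hv g hg
    obtain ⟨x, hx, hxa⟩ := hD.fusion a ha g (by rw [h1]; exact hb)
    exact ⟨x, hx, by rw [hxa, h1]⟩
  · ext g
    rw [Subgroup.mem_set_normalizer_iff, mem_centralizer_singleton]
    constructor
    · intro h
      have h1 : a ∈ (fun u : G => a * u) '' (H a : Set G) := ⟨1, (H a).one_mem, mul_one a⟩
      obtain ⟨v, hv, hva⟩ := (h a).1 h1
      have := conj_eq A L H hD a a ha ha 1 (H a).one_mem v hv g (by rw [mul_one]; exact hva.symm)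
      exact this
    · intro h
      have hgC : g ∈ Subgroup.centralizer ({a} : Set G) := (mem_centralizer_singleton a g).2 h
      have hgC' : g⁻¹ ∈ Subgroup.centralizer ({a} : Set G) := Subgroup.inv_mem _ hgC
      have h' : g⁻¹ * a * g = a := by
        have := (mem_centralizer_singleton a g⁻¹).1 hgC'
        rwa [inv_inv] at this
      intro y
      constructor
      · rintro ⟨u, hu, rfl⟩
        refine ⟨g * u * g⁻¹, hD.conj_mem_H a ha g hgC u hu, ?_⟩
        simp only
        calc a * (g * u * g⁻¹) = (g * a * g⁻¹) * (g * u * g⁻¹) := by rw [h]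
          _ = g * (a * u) * g⁻¹ := by group
      · rintro ⟨u, hu, hy⟩
        simp only at hy
        refine ⟨g⁻¹ * u * g, ?_, ?_⟩
        · have := hD.conj_mem_H a ha g⁻¹ hgC' u hu
          rwa [inv_inv] at this
        · simp only
          calc a * (g⁻¹ * u * g) = (g⁻¹ * a * g) * (g⁻¹ * u * g) := by rw [h']
            _ = g⁻¹ * (a * u) * g := by group
            _ = g⁻¹ * (g * y * g⁻¹) * g := by rw [hy]
            _ = y := by group

end Cfsg.Agent.S1499
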