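import Cfsg.Statements.S1498
import Mathlib

set_option autoImplicit false
open Cfsg

namespace Cfsg.Agent.S1498

/-- If `Q` normalises `N`, `N ⊓ Q = ⊥`, and `u ∈ N ⊔ Q` has order coprime to `|Q|`, then `u ∈ N`. -/
theorem mem_of_coprime {G : Type*} [Group G] [Finite G] (N Q : Subgroup G)
    (hnorm : ∀ c ∈ Q, ∀ n ∈ N, c * n * c⁻¹ ∈ N) (hdisj : N ⊓ Q = ⊥) (u : G) (hu : u ∈ N ⊔ Q)
    (hcop : Nat.Coprime (orderOf u) (Nat.card Q)) : u ∈ N := by
  have hle : Q ≤ Subgroup.normalizer (N : Set G) := by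
    intro c hc
    rw [Subgroup.mem_normalizer_iff]
    intro h
    constructor
    · exact hnorm c hc h
    · intro h'
      have := hnorm c⁻¹ (Q.inv_mem hc) _ h'
      simpa [mul_assoc] using this
  have hmem : u ∈ ((N ⊔ Q : Subgroup G) : Set G) := hu
  rw [Subgroup.coe_mul_of_right_le_normalizer_left N Q hle] at hmem
  obtain ⟨n, hn, q, hq, rfl⟩ := hmem
  have hn' : n ∈ N := hn
  have hq' : q ∈ Q := hq
  have hpow : ∀ j : ℕ, ∃ m ∈ N, (n * q) ^ j = m * q ^ j := by
    intro j
    induction j with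
    | zero => exact ⟨1, N.one_mem, by simp⟩
    | succ j ih =>
      obtain ⟨m, hm, hmj⟩ := ih
      refine ⟨m * (q ^ j * n * (q ^ j)⁻¹), N.mul_mem hm (hnorm _ (Q.pow_mem hq' j) n hn'), ?_⟩
      rw [pow_succ, hmj, pow_succ]
      group
  obtain ⟨m, hm, hmj⟩ := hpow (orderOf (n * q))
  rw [pow_orderOf_eq_one] at hmj
  have hqpow : q ^ orderOf (n * q) ∈ N ⊓ Q := by
    refine ⟨?_, Q.pow_mem hq' _⟩
    have : q ^ orderOf (n * q) = m⁻¹ := by
      rw [eq_inv_iff_mul_eq_one]
      have h0 : q ^ orderOf (n * q) = m⁻¹ * (m * q ^ orderOf (n * q)) := by group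
      rw [h0, ← hmj]
      group
    rw [this]
    exact N.inv_mem hm
  rw [hdisj, Subgroup.mem_bot] at hqpow
  have h1 : orderOf q ∣ orderOf (n * q) := orderOf_dvd_of_pow_eq_one hqpow
  have h2 : orderOf q ∣ Nat.card Q := by
    have := Subgroup.orderOf_dvd_natCard Q hq'
    exact this
  have h3 : orderOf q = 1 := Nat.eq_one_of_dvd_coprimes hcop h1 h2
  rw [orderOf_eq_one_iff] at h3
  subst h3
  simpa using hn'

theorem mem_centralizer_conj {G : Type*} [Group G] (a x c : G) :
    c ∈ Subgroup.centralizer ({x * a * x⁻¹} : Set G) ↔ x⁻¹ * c * x ∈ Subgroup.centralizer ({a} : Set G) := by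
  simp only [Subgroup.mem_centralizer_iff, Set.mem_singleton_iff, forall_eq]
  constructor
  · intro h
    have : a * (x⁻¹ * c * x) = x⁻¹ * ((x * a * x⁻¹) * c) * x := by group
    rw [this, h]
    group
  · intro h
    have : x * a * x⁻¹ * c = x * (a * (x⁻¹ * c * x)) * x⁻¹ := by group
    rw [this, h]
    group

theorem result {G : Type*} [Group G] [Finite G] (A : Set G) (L : Subgroup G) (H : G → Subgroup G) (hD : Cfsg.DadeHypothesis A L H) (a : G) (ha : a ∈ A) (x : G) (hx : x ∈ L) : H (x * a * x⁻¹) = (H a).map (MulAut.conj x).toMonoidHom := by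
  have hb : x * a * x⁻¹ ∈ A := hD.conj_mem x hx a ha
  set b := x * a * x⁻¹ with hbdef
  set K := (H a).map (MulAut.conj x).toMonoidHom with hK
  have memK : ∀ y : G, y ∈ K ↔ x⁻¹ * y * x ∈ H a := by
    intro y
    rw [hK, Subgroup.mem_map]
    constructor
    · rintro ⟨v, hv, rfl⟩
      simp only [MulEquiv.coe_toMonoidHom, MulAut.conj_apply]
      have : x⁻¹ * (x * v * x⁻¹) * x = v := by group
      rw [this]; exact hv
    · intro h
      refine ⟨x⁻¹ * y * x, h, ?_⟩
      simp only [MulEquiv.coe_toMonoidHom, MulAut.conj_apply]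
      group
  apply le_antisymm
  · -- H b ≤ K
    intro u hu
    apply mem_of_coprime K (L ⊓ Subgroup.centralizer ({b} : Set G))
    · intro c hc n hn
      rw [memK] at hn ⊢
      have hc' : x⁻¹ * c * x ∈ Subgroup.centralizer ({a} : Set G) :=
        (mem_centralizer_conj a x c).1 hc.2
      have := hD.conj_mem_H a ha _ hc' _ hn
      have e : x⁻¹ * (c * n * c⁻¹) * x = x⁻¹ * c * x * (x⁻¹ * n * x) * (x⁻¹ * c * x)⁻¹ := by group
      rw [e]; exact this
    · rw [eq_bot_iff]
      intro y hy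
      have hyK := (memK y).1 hy.1
      have hyL : x⁻¹ * y * x ∈ L := L.mul_mem (L.mul_mem (L.inv_mem hx) hy.2.1) hx
      have hyC : x⁻¹ * y * x ∈ Subgroup.centralizer ({a} : Set G) :=
        (mem_centralizer_conj a x y).1 hy.2.2
      have : x⁻¹ * y * x ∈ H a ⊓ (L ⊓ Subgroup.centralizer ({a} : Set G)) := ⟨hyK, hyL, hyC⟩
      rw [hD.inf_eq_bot a ha, Subgroup.mem_bot] at this
      rw [Subgroup.mem_bot]
      have e : y = x * (x⁻¹ * y * x) * x⁻¹ := by group
      rw [e, this]; group
    · -- u ∈ K ⊔ Q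
      have huC : u ∈ Subgroup.centralizer ({b} : Set G) := hD.le_centralizer b hb hu
      have h1 : x⁻¹ * u * x ∈ Subgroup.centralizer ({a} : Set G) :=
        (mem_centralizer_conj a x u).1 huC
      rw [← hD.sup_eq a ha] at h1
      have h2 : (MulAut.conj x).toMonoidHom (x⁻¹ * u * x) ∈
          (H a ⊔ (L ⊓ Subgroup.centralizer ({a} : Set G))).map (MulAut.conj x).toMonoidHom :=
        Subgroup.mem_map_of_mem _ h1
      have e : (MulAut.conj x).toMonoidHom (x⁻¹ * u * x) = u := by
        simp only [MulEquiv.coe_toMonoidHom, MulAut.conj_apply]; group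
      rw [e, Subgroup.map_sup] at h2
      have hle : (H a).map (MulAut.conj x).toMonoidHom ⊔
          (L ⊓ Subgroup.centralizer ({a} : Set G)).map (MulAut.conj x).toMonoidHom
          ≤ K ⊔ (L ⊓ Subgroup.centralizer ({b} : Set G)) := by
        apply sup_le_sup_left
        rintro y ⟨v, hv, rfl⟩
        simp only [MulEquiv.coe_toMonoidHom, MulAut.conj_apply]
        refine ⟨L.mul_mem (L.mul_mem hx hv.1) (L.inv_mem hx), ?_⟩
        have hgoal : x * v * x⁻¹ ∈ Subgroup.centralizer ({x * a * x⁻¹} : Set G) := by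
          rw [mem_centralizer_conj]
          have e : x⁻¹ * (x * v * x⁻¹) * x = v := by group
          rw [e]; exact hv.2
        exact hgoal
      exact hle h2
    · have h1 : orderOf u ∣ Nat.card (H b) := Subgroup.orderOf_dvd_natCard _ hu
      exact Nat.Coprime.coprime_dvd_left h1 (hD.coprime b hb b hb)
  · -- K ≤ H b
    intro y hy
    have hyK := (memK y).1 hy
    apply mem_of_coprime (H b) (L ⊓ Subgroup.centralizer ({b} : Set G))
    · intro c hc n hn
      exact hD.conj_mem_H b hb c hc.2 n hn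
    · exact hD.inf_eq_bot b hb
    · rw [hD.sup_eq b hb, hbdef, mem_centralizer_conj]
      exact hD.le_centralizer a ha hyK
    · have h1 : orderOf (x⁻¹ * y * x) ∣ Nat.card (H a) := Subgroup.orderOf_dvd_natCard _ hyK
      have h2 : orderOf (x⁻¹ * y * x) = orderOf y := by
        have : x⁻¹ * y * x = (MulAut.conj x⁻¹) y := by simp
        rw [this, MulEquiv.orderOf_eq]
      rw [h2] at h1
      exact Nat.Coprime.coprime_dvd_left h1 (hD.coprime a ha b hb)

end Cfsg.Agent.S1498
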