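import Cfsg.Statements.S3707

set_option autoImplicit false
open Cfsg

namespace Cfsg.Agent.S3707

open MulAction
open scoped Pointwise

/-- `Δ` is a flat (Jordan complement): its pointwise stabilizer is transitive off `Δ`. -/
def IsFlat (G : Type*) {Ω : Type*} [Group G] [MulAction G Ω] (Δ : Set Ω) : Prop :=
  ∀ x, x ∉ Δ → ∀ y, y ∉ Δ → ∃ g : G, (∀ z ∈ Δ, g • z = z) ∧ g • x = y

section

variable {G Ω : Type*} [Group G] [MulAction G Ω]

theorem IsFlat.inter {Δ₁ Δ₂ : Set Ω} (h₁ : IsFlat G Δ₁) (h₂ : IsFlat G Δ₂) {x₀ : Ω}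
    (hx₁ : x₀ ∉ Δ₁) (hx₂ : x₀ ∉ Δ₂) : IsFlat G (Δ₁ ∩ Δ₂) := by
  have key : ∀ x, x ∉ Δ₁ ∩ Δ₂ → ∃ g : G, (∀ z ∈ Δ₁ ∩ Δ₂, g • z = z) ∧ g • x = x₀ := by
    intro x hx
    by_cases hx1 : x ∈ Δ₁
    · have hx2 : x ∉ Δ₂ := fun h => hx ⟨hx1, h⟩
      obtain ⟨g, hg, hgx⟩ := h₂ x hx2 x₀ hx₂
      exact ⟨g, fun z hz => hg z hz.2, hgx⟩
    · obtain ⟨g, hg, hgx⟩ := h₁ x hx1 x₀ hx₁
      exact ⟨g, fun z hz => hg z hz.1, hgx⟩
  intro x hx y hy
  obtain ⟨g, hg, hgx⟩ := key x hx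
  obtain ⟨h, hh, hhy⟩ := key y hy
  refine ⟨h⁻¹ * g, ?_, ?_⟩
  · intro z hz
    rw [mul_smul, hg z hz, inv_smul_eq_iff, hh z hz]
  · rw [mul_smul, hgx, inv_smul_eq_iff, hhy]

theorem IsFlat.smul {Δ : Set Ω} (h : IsFlat G Δ) (g : G) : IsFlat G (g • Δ) := by
  intro x hx y hy
  have hx' : g⁻¹ • x ∉ Δ := fun hm => hx (Set.mem_smul_set_iff_inv_smul_mem.mpr hm)
  have hy' : g⁻¹ • y ∉ Δ := fun hm => hy (Set.mem_smul_set_iff_inv_smul_mem.mpr hm)
  obtain ⟨k, hk, hkx⟩ := h _ hx' _ hy'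
  refine ⟨g * k * g⁻¹, ?_, ?_⟩
  · intro z hz
    have hz' : g⁻¹ • z ∈ Δ := Set.mem_smul_set_iff_inv_smul_mem.mp hz
    rw [mul_smul, mul_smul, hk _ hz', smul_inv_smul]
  · rw [mul_smul, mul_smul, hkx, smul_inv_smul]

end

theorem result {G Ω : Type*} [Group G] [Finite G] [MulAction G Ω] [FaithfulSMul G Ω] [Finite Ω] (hprim : MulAction.IsPreprimitive G Ω) (Γ : Set Ω) (h1 : 1 < Γ.ncard) (h2 : 2 * Γ.ncard ≤ Nat.card Ω) (htr : ∀ x ∈ Γ, ∀ y ∈ Γ, ∃ g : G, (∀ z ∉ Γ, g • z = z) ∧ g • x = y) : MulAction.IsMultiplyPretransitive G Ω 3 := by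
  classical
  set n := Nat.card Ω with hn
  have hcompl : ∀ s : Set Ω, s.ncard + sᶜ.ncard = n := fun s => Set.ncard_add_ncard_compl s
  -- the given flat
  have hΔ0 : IsFlat G Γᶜ := by
    intro x hx y hy
    obtain ⟨g, hg, hgx⟩ := htr x (by simpa using hx) y (by simpa using hy)
    exact ⟨g, fun z hz => hg z (by simpa using hz), hgx⟩
  -- 2-transitivity
  have h2t : IsMultiplyPretransitive G Ω 2 := by
    have hs_trans : IsPretransitive (fixingSubgroup G Γᶜ) (SubMulAction.ofFixingSubgroup G Γᶜ) := by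
      constructor
      rintro ⟨x, hx⟩ ⟨y, hy⟩
      rw [SubMulAction.mem_ofFixingSubgroup_iff] at hx hy
      obtain ⟨g, hg, hgx⟩ := hΔ0 x hx y hy
      refine ⟨⟨g, (mem_fixingSubgroup_iff G).mpr hg⟩, ?_⟩
      apply Subtype.ext
      exact hgx
    have hc := hcompl Γ
    have hsn : (Γᶜ).ncard = ((Γᶜ).ncard - 1) + 1 := by omega
    have hsn' : ((Γᶜ).ncard - 1) + 2 < Nat.card Ω := by omega
    exact hprim.is_two_pretransitive hsn hsn' hs_trans
  rw [is_two_pretransitive_iff] at h2t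
  -- a flat of size between 2 and n/2
  have hB1 : ∃ D : Set Ω, IsFlat G D ∧ 2 ≤ D.ncard ∧ 2 * D.ncard ≤ n := by
    let S : Set (Set Ω) := {Δ | IsFlat G Δ ∧ n ≤ 2 * Δ.ncard ∧ 2 ≤ Δᶜ.ncard}
    have hS0 : Γᶜ ∈ S := by
      refine ⟨hΔ0, ?_, ?_⟩
      · have := hcompl Γ; omega
      · rw [compl_compl]; omega
    obtain ⟨Δ1, hΔ1S, hmin⟩ := Set.exists_min_image S Set.ncard (Set.toFinite S) ⟨_, hS0⟩
    obtain ⟨hΔ1f, hΔ1n, hΓ1⟩ := hΔ1S
    have hc1 := hcompl Δ1
    by_cases heq : 2 * Δ1.ncard = n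
    · exact ⟨Δ1, hΔ1f, by omega, by omega⟩
    · have hlt : n < 2 * Δ1.ncard := by omega
      -- Δ1ᶜ is not a block
      have hnb : ∃ g : G, g • Δ1ᶜ ≠ Δ1ᶜ ∧ ¬ Disjoint (g • Δ1ᶜ) Δ1ᶜ := by
        by_contra hne
        push Not at hne
        have hblock : IsBlock G Δ1ᶜ := by
          rw [isBlock_iff_smul_eq_or_disjoint]
          intro g
          by_cases hg : g • Δ1ᶜ = Δ1ᶜ
          · exact Or.inl hg
          · exact Or.inr (hne g hg)
        rcases hprim.isTrivialBlock_of_isBlock hblock with hsub | huniv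
        · have := (Set.ncard_le_one_iff_subsingleton (s := Δ1ᶜ)).mpr hsub
          omega
        · rw [huniv, Set.ncard_univ] at hc1
          omega
      obtain ⟨g, hgne, hgdis⟩ := hnb
      rw [Set.not_disjoint_iff] at hgdis
      obtain ⟨x₀, hx₀g, hx₀⟩ := hgdis
      have hsc : g • Δ1ᶜ = (g • Δ1)ᶜ := Set.smul_set_compl
      have hx₀' : x₀ ∉ g • Δ1 := by rw [hsc] at hx₀g; exact hx₀g
      have hDf : IsFlat G (Δ1 ∩ g • Δ1) := hΔ1f.inter (hΔ1f.smul g) hx₀ hx₀'
      have hcardg : (g • Δ1).ncard = Δ1.ncard := Set.ncard_smul_set g Δ1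
      have hcardgc : (g • Δ1ᶜ).ncard = Δ1ᶜ.ncard := Set.ncard_smul_set g Δ1ᶜ
      have hDlt : (Δ1 ∩ g • Δ1).ncard < Δ1.ncard := by
        apply Set.ncard_lt_ncard _ (Set.toFinite _)
        refine ⟨Set.inter_subset_left, ?_⟩
        intro hsub
        have h3 : Δ1 ⊆ g • Δ1 := fun z hz => (hsub hz).2
        have h4 : Δ1 = g • Δ1 := Set.eq_of_subset_of_ncard_le h3 (by omega) (Set.toFinite _)
        apply hgne
        rw [hsc, ← h4]
      have hDc : (Δ1 ∩ g • Δ1)ᶜ = Δ1ᶜ ∪ g • Δ1ᶜ := by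
        rw [Set.compl_inter, hsc]
      have hDcard := hcompl (Δ1 ∩ g • Δ1)
      have hunion := Set.ncard_union_add_ncard_inter Δ1ᶜ (g • Δ1ᶜ)
      have hinter : 1 ≤ (Δ1ᶜ ∩ g • Δ1ᶜ).ncard := by
        rw [Nat.one_le_iff_ne_zero, Ne, Set.ncard_eq_zero (Set.toFinite _)]
        intro he
        have : x₀ ∈ Δ1ᶜ ∩ g • Δ1ᶜ := ⟨hx₀, hx₀g⟩
        rw [he] at this
        exact this
      have hDc2 : 2 ≤ (Δ1 ∩ g • Δ1)ᶜ.ncard := by
        rw [hDc]
        have : Δ1ᶜ.ncard ≤ (Δ1ᶜ ∪ g • Δ1ᶜ).ncard :=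
          Set.ncard_le_ncard Set.subset_union_left (Set.toFinite _)
        omega
      refine ⟨Δ1 ∩ g • Δ1, hDf, ?_, ?_⟩
      · rw [hDc] at hDcard
        omega
      · by_contra hbig
        have hDS : (Δ1 ∩ g • Δ1) ∈ S := ⟨hDf, by omega, hDc2⟩
        have := hmin _ hDS
        omega
  obtain ⟨D, hDf, hD2, hDn⟩ := hB1
  -- a minimal flat with at least two points
  let T : Set (Set Ω) := {Δ | IsFlat G Δ ∧ 2 ≤ Δ.ncard}
  obtain ⟨L, hLT, hLmin⟩ := Set.exists_min_image T Set.ncard (Set.toFinite T) ⟨D, hDf, hD2⟩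
  obtain ⟨hLf, hL2⟩ := hLT
  have hLD : L.ncard ≤ D.ncard := hLmin D ⟨hDf, hD2⟩
  have hLn : 2 * L.ncard ≤ n := by omega
  have hn4 : 4 ≤ n := by omega
  by_cases hk : L.ncard = 2
  · -- three-transitivity
    rw [Set.ncard_eq_two] at hk
    obtain ⟨α, β, hαβ, rfl⟩ := hk
    rw [isMultiplyPretransitive_iff]
    intro x y
    have hx01 : x 0 ≠ x 1 := fun h => by simpa using x.injective h
    have hx02 : x 0 ≠ x 2 := fun h => by simpa using x.injective h
    have hx12 : x 1 ≠ x 2 := fun h => by simpa using x.injective h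
    have hy01 : y 0 ≠ y 1 := fun h => by simpa using y.injective h
    have hy02 : y 0 ≠ y 2 := fun h => by simpa using y.injective h
    have hy12 : y 1 ≠ y 2 := fun h => by simpa using y.injective h
    obtain ⟨g1, hg10, hg11⟩ := h2t hx01 hαβ
    obtain ⟨g2, hg20, hg21⟩ := h2t hy01 hαβ
    have hc1 : g1 • x 2 ∉ ({α, β} : Set Ω) := by
      intro hm
      rcases hm with hm | hm
      · rw [← hg10] at hm; exact hx02 (MulAction.injective g1 hm).symm
      · rw [Set.mem_singleton_iff, ← hg11] at hm; exact hx12 (MulAction.injective g1 hm).symm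
    have hc2 : g2 • y 2 ∉ ({α, β} : Set Ω) := by
      intro hm
      rcases hm with hm | hm
      · rw [← hg20] at hm; exact hy02 (MulAction.injective g2 hm).symm
      · rw [Set.mem_singleton_iff, ← hg21] at hm; exact hy12 (MulAction.injective g2 hm).symm
    obtain ⟨h, hh, hh2⟩ := hLf _ hc1 _ hc2
    have hhα : h • α = α := hh α (by simp)
    have hhβ : h • β = β := hh β (by simp)
    refine ⟨g2⁻¹ * h * g1, ?_⟩
    ext i
    rw [Function.Embedding.smul_apply]
    fin_cases i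
    · change (g2⁻¹ * h * g1) • x 0 = y 0
      rw [mul_smul, mul_smul, hg10, hhα, inv_smul_eq_iff, hg20]
    · change (g2⁻¹ * h * g1) • x 1 = y 1
      rw [mul_smul, mul_smul, hg11, hhβ, inv_smul_eq_iff, hg21]
    · change (g2⁻¹ * h * g1) • x 2 = y 2
      rw [mul_smul, mul_smul, hh2, inv_smul_eq_iff]
  · exfalso
    have hk3 : 3 ≤ L.ncard := by omega
    have hcardL : ∀ g : G, (g • L).ncard = L.ncard := fun g => Set.ncard_smul_set g L
    -- two translates of L are equal or share at most one point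
    have hlines : ∀ g1 g2 : G, g1 • L = g2 • L ∨
        ∀ x y, x ∈ g1 • L → x ∈ g2 • L → y ∈ g1 • L → y ∈ g2 • L → x = y := by
      intro g1 g2
      by_cases hex : ∃ x₀, x₀ ∉ g1 • L ∧ x₀ ∉ g2 • L
      · obtain ⟨x₀, hx1, hx2⟩ := hex
        have hf : IsFlat G (g1 • L ∩ g2 • L) := (hLf.smul g1).inter (hLf.smul g2) hx1 hx2
        by_cases hc2 : 2 ≤ (g1 • L ∩ g2 • L).ncard
        · left
          have h3 := hLmin _ ⟨hf, hc2⟩
          have e1 : g1 • L ∩ g2 • L = g1 • L :=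
            Set.eq_of_subset_of_ncard_le Set.inter_subset_left (by rw [hcardL]; exact h3)
              (Set.toFinite _)
          have e2 : g1 • L ∩ g2 • L = g2 • L :=
            Set.eq_of_subset_of_ncard_le Set.inter_subset_right (by rw [hcardL]; exact h3)
              (Set.toFinite _)
          rw [← e1, e2]
        · right
          intro x y hx1' hx2' hy1 hy2
          have hle : (g1 • L ∩ g2 • L).ncard ≤ 1 := by omega
          exact (Set.ncard_le_one (Set.toFinite _)).mp hle x ⟨hx1', hx2'⟩ y ⟨hy1, hy2⟩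
      · right
        push Not at hex
        have hun : g1 • L ∪ g2 • L = Set.univ := by
          apply Set.eq_univ_of_forall
          intro z
          by_cases hz : z ∈ g1 • L
          · exact Or.inl hz
          · exact Or.inr (hex z hz)
        have hunion := Set.ncard_union_add_ncard_inter (g1 • L) (g2 • L)
        rw [hun, Set.ncard_univ, hcardL, hcardL] at hunion
        have h0 : (g1 • L ∩ g2 • L).ncard = 0 := by omega
        rw [Set.ncard_eq_zero (Set.toFinite _)] at h0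
        intro x y hx1' hx2' _ _
        have : x ∈ g1 • L ∩ g2 • L := ⟨hx1', hx2'⟩
        rw [h0] at this
        exact this.elim
    -- line through two points
    obtain ⟨l1, l2, hl1, hl2, hl12⟩ := (Set.one_lt_ncard_iff (Set.toFinite L)).mp (by omega : 1 < L.ncard)
    have hjoin : ∀ a b : Ω, a ≠ b → ∃ g : G, a ∈ g • L ∧ b ∈ g • L := by
      intro a b hab
      obtain ⟨g, hga, hgb⟩ := h2t hl12 hab
      exact ⟨g, hga ▸ Set.smul_mem_smul_set hl1, hgb ▸ Set.smul_mem_smul_set hl2⟩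
    -- a line with two points in Γᶜ lies in Γᶜ or contains Γ
    have hmeet : ∀ g : G, ∀ a b, a ≠ b → a ∈ g • L → b ∈ g • L → a ∉ Γ → b ∉ Γ →
        g • L ⊆ Γᶜ ∨ Γ ⊆ g • L := by
      intro g a b hab ha hb haΓ hbΓ
      by_cases hex : ∃ x₀, x₀ ∉ g • L ∧ x₀ ∈ Γ
      · left
        obtain ⟨x₀, hx1, hx2⟩ := hex
        have hf : IsFlat G (g • L ∩ Γᶜ) := (hLf.smul g).inter hΔ0 hx1 (by simpa using hx2)
        have hc2 : 2 ≤ (g • L ∩ Γᶜ).ncard := by
          have : 1 < (g • L ∩ Γᶜ).ncard := by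
            rw [Set.one_lt_ncard_iff (Set.toFinite _)]
            exact ⟨a, b, ⟨ha, haΓ⟩, ⟨hb, hbΓ⟩, hab⟩
          omega
        have h3 := hLmin _ ⟨hf, hc2⟩
        have e1 : g • L ∩ Γᶜ = g • L :=
          Set.eq_of_subset_of_ncard_le Set.inter_subset_left (by rw [hcardL]; exact h3)
            (Set.toFinite _)
        rw [← e1]
        exact Set.inter_subset_right
      · right
        push Not at hex
        intro z hz
        by_contra hzL
        exact hex z hzL hz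
    obtain ⟨p, p', hp, hp', hpp'⟩ := (Set.one_lt_ncard_iff (Set.toFinite Γ)).mp h1
    -- third point on a line
    have hthird : ∀ g : G, ∀ a b : Ω, ∃ q ∈ g • L, q ≠ a ∧ q ≠ b := by
      intro g a b
      by_contra hne
      push Not at hne
      have hsub : g • L ⊆ {a, b} := by
        intro q hq
        by_cases hqa : q = a
        · exact Or.inl hqa
        · exact Or.inr (hne q hq hqa)
      have := Set.ncard_le_ncard hsub (Set.toFinite _)
      have h2' : ({a, b} : Set Ω).ncard ≤ 2 := Set.ncard_insert_le a {b} |>.trans (by simp)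
      rw [hcardL] at this
      omega
    -- no line contains Γ
    have hnoL : ∀ g : G, ¬ Γ ⊆ g • L := by
      intro g hΓg
      have hne : ∃ δ, δ ∉ g • L := by
        by_contra hall
        push Not at hall
        have : g • L = Set.univ := Set.eq_univ_of_forall hall
        have hc := hcardL g
        rw [this, Set.ncard_univ] at hc
        omega
      obtain ⟨δ, hδ⟩ := hne
      have hδΓ : δ ∉ Γ := fun h => hδ (hΓg h)
      have hpδ : p ≠ δ := fun h => hδΓ (h ▸ hp)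
      obtain ⟨g', hg'p, hg'δ⟩ := hjoin p δ hpδ
      obtain ⟨q, hq, hqp, hqδ⟩ := hthird g' p δ
      have hne' : g' • L ≠ g • L := fun h => hδ (h ▸ hg'δ)
      have hqg : q ∉ g • L := by
        intro hqg
        rcases hlines g' g with h | h
        · exact hne' h
        · exact hqp (h q p hq hqg hg'p (hΓg hp))
      have hqΓ : q ∉ Γ := fun h => hqg (hΓg h)
      rcases hmeet g' δ q (Ne.symm hqδ) hg'δ hq hδΓ hqΓ with h | h
      · exact (h hg'p) hp
      · rcases hlines g' g with h' | h'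
        · exact hne' h'
        · exact hpp' (h' p p' (h hp) (hΓg hp) (h hp') (hΓg hp'))
    -- choose for each δ a line through p and δ and a third point on it
    have hch : ∀ δ : Ω, ∃ (g : G) (q : Ω), δ ≠ p → (p ∈ g • L ∧ δ ∈ g • L ∧ q ∈ g • L ∧ q ≠ p ∧ q ≠ δ) := by
      intro δ
      by_cases hδ : δ = p
      · exact ⟨1, p, fun h => (h hδ).elim⟩
      · obtain ⟨g, hgp, hgδ⟩ := hjoin p δ (Ne.symm hδ)
        obtain ⟨q, hq, hqp, hqδ⟩ := hthird g p δ
        exact ⟨g, q, fun _ => ⟨hgp, hgδ, hq, hqp, hqδ⟩⟩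
    choose M q hMq using hch
    have hδp : ∀ δ, δ ∉ Γ → δ ≠ p := fun δ hδ h => hδ (h ▸ hp)
    -- every line through p meets Γᶜ in at most one point
    have hone : ∀ g : G, p ∈ g • L → ∀ a b, a ∈ g • L → b ∈ g • L → a ∉ Γ → b ∉ Γ → a = b := by
      intro g hpg a b ha hb haΓ hbΓ
      by_contra hab
      rcases hmeet g a b hab ha hb haΓ hbΓ with h | h
      · exact (h hpg) hp
      · exact hnoL g h
    have hqΓ : ∀ δ, δ ∉ Γ → q δ ∈ Γ \ {p} := by
      intro δ hδ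
      obtain ⟨hgp, hgδ, hq, hqp, hqδ⟩ := hMq δ (hδp δ hδ)
      refine ⟨?_, hqp⟩
      by_contra hqΓ
      exact hqδ (hone (M δ) hgp (q δ) δ hq hgδ hqΓ hδ)
    have hinj : Set.InjOn q Γᶜ := by
      intro δ hδ δ' hδ' hqq
      obtain ⟨hgp, hgδ, hq, hqp, hqδ⟩ := hMq δ (hδp δ hδ)
      obtain ⟨hgp', hgδ', hq', hqp', hqδ'⟩ := hMq δ' (hδp δ' hδ')
      rcases hlines (M δ) (M δ') with h | h
      · rw [← h] at hgδ'
        exact hone (M δ) hgp δ δ' hgδ hgδ' hδ hδ'
      · exact (hqp (h (q δ) p hq (hqq ▸ hq') hgp hgp')).elim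
    have hle : (Γᶜ).ncard ≤ (Γ \ {p}).ncard :=
      Set.ncard_le_ncard_of_injOn q hqΓ hinj (Set.toFinite _)
    have hdiff : (Γ \ {p}).ncard = Γ.ncard - 1 := Set.ncard_sdiff_singleton_of_mem hp
    have := hcompl Γ
    omega

end Cfsg.Agent.S3707
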