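import Cfsg.Statements.S1512
import Cfsg.Agent.Lib.Helper11.CoprimeCoset

set_option autoImplicit false
open Cfsg

namespace Cfsg.Agent.S1512

/-- A class of `K` fixed by `x` contains an element of `K` centralised by `x`. -/
theorem exists_fixed_rep {L : Type*} [Group L] [Finite L] (K : Subgroup L) [hK : K.Normal] (x : L)
    (hx : Nat.Coprime (orderOf x) (Nat.card K)) (C : ConjClasses K)
    (hC : ConjClasses.map (MulEquiv.toMonoidHom ((MulAut.conjNormal x : MulAut K))) C = C) :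
    ∃ k : K, ConjClasses.mk k = C ∧ x * (k : L) = (k : L) * x := by
  obtain ⟨k₀, rfl⟩ := ConjClasses.exists_rep C
  have h1 : ConjClasses.mk ((MulAut.conjNormal x : MulAut K) k₀) = ConjClasses.mk k₀ := hC
  rw [ConjClasses.mk_eq_mk_iff_isConj, isConj_iff] at h1
  obtain ⟨u, hu⟩ := h1
  have hu' : (u : L) * (x * (k₀ : L) * x⁻¹) * (u : L)⁻¹ = (k₀ : L) := by
    have := congrArg Subtype.val hu
    simpa [MulAut.conjNormal_apply] using this
  -- apply the coset lemma
  have hxn : x ∈ Subgroup.normalizer (K : Set L) := by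
    have : Subgroup.normalizer (K : Set L) = ⊤ := Subgroup.normalizer_eq_top_iff.2 hK
    rw [this]; exact Subgroup.mem_top x
  obtain ⟨t, ht, c, hc, hcx, htc⟩ :=
    Cfsg.Agent.Lib.Helper11.coset_conj K x hxn hx (u : L) u.2
  -- c * x centralises t k₀ t⁻¹
  set k₁ : L := t * (k₀ : L) * t⁻¹ with hk₁
  have hk₁K : k₁ ∈ K := K.mul_mem (K.mul_mem ht k₀.2) (K.inv_mem ht)
  have hcent : (c * x) * k₁ = k₁ * (c * x) := by
    rw [← htc, hk₁]
    have e1 : t * (↑u * x) * t⁻¹ * (t * ↑k₀ * t⁻¹) = t * (↑u * (x * ↑k₀ * x⁻¹) * (↑u)⁻¹) * (↑u * x) * t⁻¹ := by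
      group
    rw [e1, hu']
    group
  -- x is a power of c * x
  obtain ⟨e, he1, he0⟩ := Nat.chineseRemainder hx 1 0
  have hce : c ^ e = 1 := by
    have h1 : orderOf c ∣ Nat.card K := Subgroup.orderOf_dvd_natCard K hc
    have h2 : Nat.card K ∣ e := (Nat.modEq_zero_iff_dvd).1 he0
    exact orderOf_dvd_iff_pow_eq_one.1 (h1.trans h2)
  have hxe : x ^ e = x := by
    have : x ^ e = x ^ 1 := pow_eq_pow_iff_modEq.2 he1
    simpa using this
  have hpow : (c * x) ^ e = x := by
    have hcomm : Commute c x := hcx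
    rw [hcomm.mul_pow, hce, hxe, one_mul]
  have hcomm2 : Commute (c * x) k₁ := hcent
  have hfinal : x * k₁ = k₁ * x := by
    have := hcomm2.pow_left e
    rw [hpow] at this
    exact this
  refine ⟨⟨k₁, hk₁K⟩, ?_, hfinal⟩
  rw [ConjClasses.mk_eq_mk_iff_isConj, isConj_iff]
  refine ⟨⟨t, ht⟩⁻¹, ?_⟩
  apply Subtype.ext
  simp only [Subgroup.coe_mul, Subgroup.coe_inv, inv_inv, hk₁]
  group

theorem result {L : Type*} [Group L] [Finite L] (K W₂ : Subgroup L) [hK : K.Normal] (x : L) (hx1 : x ≠ 1) (hx : Nat.Coprime (orderOf x) (Nat.card K)) (hC : ∀ y ∈ Subgroup.zpowers x, y ≠ 1 → K ⊓ Subgroup.centralizer ({y} : Set L) = W₂) : Nat.card {C : ConjClasses K // ConjClasses.map (MulEquiv.toMonoidHom ((MulAut.conjNormal x : MulAut K))) C = C} ≤ Nat.card W₂ := by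
  classical
  have hW : K ⊓ Subgroup.centralizer ({x} : Set L) = W₂ := hC x (Subgroup.mem_zpowers x) hx1
  have hex : ∀ C : {C : ConjClasses K // ConjClasses.map (MulEquiv.toMonoidHom ((MulAut.conjNormal x : MulAut K))) C = C},
      ∃ k : K, ConjClasses.mk k = C.1 ∧ x * (k : L) = (k : L) * x :=
    fun C => exists_fixed_rep K x hx C.1 C.2
  choose f hf using hex
  have hmem : ∀ C, ((f C : K) : L) ∈ W₂ := by
    intro C
    rw [← hW]
    refine ⟨(f C).2, ?_⟩
    show ((f C : K) : L) ∈ Subgroup.centralizer ({x} : Set L)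
    rw [Subgroup.mem_centralizer_iff]
    intro y hy
    rw [Set.mem_singleton_iff] at hy
    rw [hy]
    exact (hf C).2
  apply Nat.card_le_card_of_injective (fun C => (⟨((f C : K) : L), hmem C⟩ : W₂))
  intro C D hCD
  have h1 : ((f C : K) : L) = ((f D : K) : L) := by
    have := congrArg (fun w : W₂ => (w : L)) hCD
    simpa using this
  have h2 : f C = f D := Subtype.ext h1
  apply Subtype.ext
  rw [← (hf C).1, ← (hf D).1, h2]

end Cfsg.Agent.S1512
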