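import Mathlib
import Cfsg.Statements.S0878
import Cfsg.Agent.Lib.Helper7.Orbits2

set_option autoImplicit false
open Cfsg

namespace Cfsg.Agent.S0878

open Cfsg.Agent.Lib.Helper7

/-- Let G be a Zassenhaus group on the finite set Ω, a a point, and let H be the subgroup of the stabilizer of a consisting of the identity and the elements fixing no point other than a (given here as a subgroup of the stabilizer of order one less than the number of points whose non-identity elements fix only a; it is the Frobenius kernel of the stabilizer). Then an element outside the stabilizer of a conjugates no non-identity element of H into H, and the normalizer of H is exactly the stabilizer of a. -/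
theorem result {G Ω : Type*} [Group G] [Finite G] [MulAction G Ω] [Fintype Ω] (hZ : Cfsg.IsZassenhausGroup G Ω) (a : Ω) (H : Subgroup G) (hHa : H ≤ MulAction.stabilizer G a) (hHcard : Nat.card H + 1 = Fintype.card Ω) (hHfix : ∀ u ∈ H, u ≠ 1 → ∀ c : Ω, u • c = c → c = a) : (∀ g : G, g ∉ MulAction.stabilizer G a → ∀ u ∈ H, g * u * g⁻¹ ∈ H → u = 1) ∧ Subgroup.normalizer (H : Set G) = MulAction.stabilizer G a := by
  classical
  obtain ⟨hfaith, h2t, h3, ⟨g₀, hg₀, a', b', hab', hga', hgb'⟩, -⟩ := hZ
  rw [MulAction.is_two_pretransitive_iff] at h2t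
  have : Fintype G := Fintype.ofFinite G
  -- part 1
  have part1 : ∀ g : G, g ∉ MulAction.stabilizer G a → ∀ u ∈ H, g * u * g⁻¹ ∈ H → u = 1 := by
    intro g hg u hu hgu
    by_contra hu1
    have hy1 : g * u * g⁻¹ ≠ 1 := by
      intro h
      apply hu1
      have : u = g⁻¹ * (g * u * g⁻¹) * g := by group
      rw [this, h]; group
    have hua : u • a = a := MulAction.mem_stabilizer_iff.mp (hHa hu)
    have hfix : (g * u * g⁻¹) • (g • a) = g • a := by
      rw [mul_smul, mul_smul, inv_smul_smul, hua]
    exact hg (MulAction.mem_stabilizer_iff.mpr (hHfix _ hgu hy1 _ hfix))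
  refine ⟨part1, ?_⟩
  set n := Nat.card H with hn
  have hn1 : 1 ≤ n := Nat.card_pos
  apply le_antisymm
  · -- normalizer ≤ stabilizer
    intro g hg
    by_contra hga
    have hbot : ∀ u ∈ H, u = 1 := fun u hu =>
      part1 g hga u hu ((Subgroup.mem_normalizer_iff.mp hg u).mp hu)
    have hH1 : n = 1 := by
      rw [hn]
      have : H = ⊥ := (Subgroup.eq_bot_iff_forall H).mpr hbot
      rw [this]; simp
    have hΩ : Fintype.card Ω = 2 := by omega
    -- g₀ fixes everything
    apply hg₀
    have hall : ∀ c : Ω, g₀ • c = c := by
      intro c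
      by_cases hca : c = a'
      · rw [hca, hga']
      by_cases hcb : c = b'
      · rw [hcb, hgb']
      exfalso
      have h3' : ({a', b', c} : Finset Ω).card = 3 := by
        rw [Finset.card_insert_of_notMem, Finset.card_insert_of_notMem, Finset.card_singleton]
        · simpa using Ne.symm hcb
        · simp only [Finset.mem_insert, Finset.mem_singleton, not_or]
          exact ⟨hab', Ne.symm hca⟩
      have := Finset.card_le_univ ({a', b', c} : Finset Ω)
      omega
    exact hfaith.eq_of_smul_eq_smul (fun c => by rw [hall c, one_smul])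
  · -- stabilizer ≤ normalizer: counting
    set P : Subgroup G := MulAction.stabilizer G a with hP
    let A : Finset G := Finset.univ.filter (fun x => x • a = a)
    let Kf : Finset G := A.filter (fun x => x = 1 ∨ ∀ c, x • c = c → c = a)
    let Bf : Finset G := A.filter (fun x => ¬(x = 1 ∨ ∀ c, x • c = c → c = a))
    let Ec : Ω → Finset G := fun c => A.filter (fun x => x • c = c)
    have hAK : Kf.card + Bf.card = A.card := Finset.card_filter_add_card_filter_not _
    have hcardΩ : (Finset.univ.erase a).card = n := by
      rw [Finset.card_erase_of_mem (Finset.mem_univ a), Finset.card_univ]; omega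
    -- Claim 1
    have claim1 : ∀ c : Ω, c ≠ a → (Ec c).card * n = A.card := by
      intro c hca
      have hos := card_orbit_mul_card_stabilizer (P := P) (X := Ω) c
      have h1 : Nat.card P = A.card := by
        rw [Nat.card_eq_fintype_card]
        apply Fintype.card_of_subtype
        intro x
        simp only [A, Finset.mem_filter, Finset.mem_univ, true_and]
        rw [hP, MulAction.mem_stabilizer_iff]
      have h2 : Nat.card (MulAction.orbit P c) = n := by
        have hset : MulAction.orbit P c = ({a}ᶜ : Set Ω) := by
          ext y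
          simp only [Set.mem_compl_iff, Set.mem_singleton_iff]
          constructor
          · rintro ⟨⟨x, hx⟩, rfl⟩ hxa
            apply hca
            have hxa' : x • a = a := MulAction.mem_stabilizer_iff.mp hx
            have : x • c = x • a := by rw [hxa']; exact hxa
            exact MulAction.injective x this
          · intro hya
            obtain ⟨g, hg1, hg2⟩ := h2t (Ne.symm hca) (Ne.symm hya)
            exact ⟨⟨g, MulAction.mem_stabilizer_iff.mpr hg1⟩, hg2⟩
        rw [hset, Nat.card_coe_set_eq, Set.ncard_compl, Set.ncard_singleton, Nat.card_eq_fintype_card]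
        omega
      have h3' : Nat.card (MulAction.stabilizer P c) = (Ec c).card := by
        rw [← Subgroup.card_map_of_injective P.subtype_injective, Nat.card_eq_fintype_card]
        apply Fintype.card_of_subtype
        intro x
        simp only [Ec, A, Finset.mem_filter, Finset.mem_univ, true_and]
        rw [Subgroup.mem_map]
        constructor
        · rintro ⟨hxa, hxc⟩
          exact ⟨⟨x, MulAction.mem_stabilizer_iff.mpr hxa⟩, MulAction.mem_stabilizer_iff.mpr hxc, rfl⟩
        · rintro ⟨⟨y, hy⟩, hyc, rfl⟩
          exact ⟨MulAction.mem_stabilizer_iff.mp hy, MulAction.mem_stabilizer_iff.mp hyc⟩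
      rw [h1, h2, h3'] at hos
      rw [mul_comm]; exact hos
    -- Claim 2
    have claim2 : Bf = (Finset.univ.erase a).biUnion (fun c => (Ec c).erase 1) := by
      ext x
      simp only [Bf, Ec, A, Finset.mem_filter, Finset.mem_univ, true_and, Finset.mem_biUnion,
        Finset.mem_erase, ne_eq]
      constructor
      · rintro ⟨hxa, hx⟩
        push Not at hx
        obtain ⟨hx1, c, hxc, hca⟩ := hx
        exact ⟨c, ⟨hca, trivial⟩, hx1, hxa, hxc⟩
      · rintro ⟨c, ⟨hca, -⟩, hx1, hxa, hxc⟩
        refine ⟨hxa, ?_⟩
        push Not
        exact ⟨hx1, c, hxc, hca⟩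
    have hdisj : ∀ c ∈ Finset.univ.erase a, ∀ c' ∈ Finset.univ.erase a, c ≠ c' →
        Disjoint ((Ec c).erase 1) ((Ec c').erase 1) := by
      intro c hc c' hc' hcc'
      rw [Finset.disjoint_left]
      intro x hx hx'
      simp only [Ec, A, Finset.mem_filter, Finset.mem_univ, true_and, Finset.mem_erase] at hx hx'
      exact hx.1 (h3 x a c c' (Ne.symm (Finset.ne_of_mem_erase hc)) hcc'
        (Ne.symm (Finset.ne_of_mem_erase hc')) hx.2.1 hx.2.2 hx'.2.2)
    have hBcard : Bf.card = ∑ c ∈ Finset.univ.erase a, ((Ec c).card - 1) := by
      rw [claim2, Finset.card_biUnion hdisj]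
      apply Finset.sum_congr rfl
      intro c hc
      rw [Finset.card_erase_of_mem]
      simp only [Ec, A, Finset.mem_filter, Finset.mem_univ, true_and, one_smul]
    have hBn : Bf.card + n = A.card := by
      have h1 : ∀ c ∈ Finset.univ.erase a, 1 ≤ (Ec c).card := by
        intro c hc
        apply Finset.card_pos.mpr
        exact ⟨1, by simp only [Ec, A, Finset.mem_filter, Finset.mem_univ, true_and, one_smul]⟩
      have h2 : ∑ c ∈ Finset.univ.erase a, ((Ec c).card - 1) + ∑ c ∈ Finset.univ.erase a, 1 =
          ∑ c ∈ Finset.univ.erase a, (Ec c).card := by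
        rw [← Finset.sum_add_distrib]
        apply Finset.sum_congr rfl
        intro c hc
        have := h1 c hc
        omega
      rw [Finset.sum_const, smul_eq_mul, mul_one, hcardΩ] at h2
      have h4 : (∑ c ∈ Finset.univ.erase a, (Ec c).card) * n = n * A.card := by
        rw [Finset.sum_mul]
        rw [Finset.sum_congr rfl (fun c hc => claim1 c (Finset.ne_of_mem_erase hc))]
        rw [Finset.sum_const, smul_eq_mul, hcardΩ]
      have h5 : ∑ c ∈ Finset.univ.erase a, (Ec c).card = A.card := by
        have : n * (∑ c ∈ Finset.univ.erase a, (Ec c).card) = n * A.card := by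
          rw [mul_comm]; exact h4
        exact Nat.eq_of_mul_eq_mul_left hn1 this
      rw [hBcard, h2, h5]
    have hKcard : Kf.card = n := by omega
    -- H ⊆ Kf
    let Hf : Finset G := Finset.univ.filter (fun x => x ∈ H)
    have hHf : Hf.card = n := by
      rw [hn, Nat.card_eq_fintype_card]
      symm
      apply Fintype.card_of_subtype
      intro x
      simp only [Hf, Finset.mem_filter, Finset.mem_univ, true_and]
    have hsub : Hf ⊆ Kf := by
      intro x hx
      simp only [Hf, Finset.mem_filter, Finset.mem_univ, true_and] at hx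
      simp only [Kf, A, Finset.mem_filter, Finset.mem_univ, true_and]
      refine ⟨MulAction.mem_stabilizer_iff.mp (hHa hx), ?_⟩
      by_cases hx1 : x = 1
      · left; exact hx1
      · right; exact hHfix x hx hx1
    have hHK : Hf = Kf := Finset.eq_of_subset_of_card_le hsub (by rw [hKcard, hHf])
    have hmemH : ∀ x : G, x ∈ H ↔ (x • a = a ∧ (x = 1 ∨ ∀ c, x • c = c → c = a)) := by
      intro x
      have : x ∈ Hf ↔ x ∈ Kf := by rw [hHK]
      simpa only [Hf, Kf, A, Finset.mem_filter, Finset.mem_univ, true_and] using this
    have hconj : ∀ g : G, g • a = a → ∀ u ∈ H, g * u * g⁻¹ ∈ H := by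
      intro g hg u hu
      have hg' : g⁻¹ • a = a := by rw [inv_smul_eq_iff, hg]
      obtain ⟨hua, hu'⟩ := (hmemH u).mp hu
      rw [hmemH]
      refine ⟨by rw [mul_smul, mul_smul, hg', hua, hg], ?_⟩
      rcases hu' with rfl | hu'
      · left; group
      · right
        intro c hc
        have h1 : u • (g⁻¹ • c) = g⁻¹ • c := by
          rw [mul_smul, mul_smul] at hc
          have := congrArg (fun z => g⁻¹ • z) hc
          simpa using this
        have := hu' _ h1
        rw [inv_smul_eq_iff, hg] at this
        exact this
    intro g hg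
    have hga : g • a = a := MulAction.mem_stabilizer_iff.mp hg
    have hga' : g⁻¹ • a = a := by rw [inv_smul_eq_iff, hga]
    rw [Subgroup.mem_normalizer_iff]
    intro u
    constructor
    · exact hconj g hga u
    · intro hu
      have := hconj g⁻¹ hga' _ hu
      have h2 : g⁻¹ * (g * u * g⁻¹) * g⁻¹⁻¹ = u := by group
      rwa [h2] at this

end Cfsg.Agent.S0878
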