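import Cfsg.Statements.S1958
import Cfsg.Agent.Lib.Helper1.Fitting
import Cfsg.Agent.Lib.Helper1.Coprime
import Cfsg.Agent.Lib.Helper1.Cores
import Cfsg.Agent.Lib.Helper10.PComponent
import Cfsg.Agent.Lib.Helper17.Coprime
import Cfsg.Agent.Lib.Helper13.Cores

set_option autoImplicit false
open Cfsg

namespace Cfsg.Agent.S1958

open Subgroup

section aux
variable {H : Type*} [Group H] [Finite H] {p : ℕ} [Fact p.Prime]

omit [Finite H] [Fact p.Prime] in
theorem isPGroup_zpowers {x : H} (hx : x ^ p = 1) : IsPGroup p (zpowers x) := by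
  rintro ⟨y, hy⟩
  obtain ⟨i, rfl⟩ := Subgroup.mem_zpowers_iff.mp hy
  refine ⟨1, ?_⟩
  apply Subtype.ext
  simp only [SubgroupClass.coe_pow, Subgroup.coe_one, pow_one]
  rw [← zpow_natCast, ← zpow_mul, mul_comm, zpow_mul, zpow_natCast, hx, one_zpow]

theorem special [Group.IsSolvable H] (hO : Cfsg.pPrimeCore p H = ⊥) (x : H) (hx : x ^ p = 1)
    (D : Subgroup H) (hDc : D ≤ centralizer {x})
    (hDn : centralizer {x} ≤ normalizer (D : Set H))
    (hDp : (Nat.card D).Coprime p) : D = ⊥ := by
  have hQn : (Cfsg.pCore p H).Normal := inferInstance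
  have hQp : IsPGroup p (Cfsg.pCore p H) := Cfsg.Agent.Lib.Helper13.pCore_isPGroup p
  have hDQ : D ⊓ Cfsg.pCore p H = ⊥ := by
    obtain ⟨k, hk⟩ := hQp.exists_card_eq
    apply disjoint_iff.mp
    apply Subgroup.disjoint_of_coprime_natCard
    rw [hk]; exact Nat.Coprime.pow_right k hDp
  rw [eq_bot_iff]
  intro a ha
  have hax : a * x = x * a := Subgroup.mem_centralizer_singleton_iff.mp (hDc ha)
  have hcent : ∀ u ∈ Cfsg.pCore p H, a * u = u * a := by
    apply Cfsg.Agent.Lib.Helper17.thompson_AxB (B := zpowers x) (isPGroup_zpowers hx) ?_ ?_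
      (Nat.card (Cfsg.pCore p H)) (Cfsg.pCore p H) rfl hQp ?_ ?_ ?_
    · exact Nat.Coprime.coprime_dvd_left (Subgroup.orderOf_dvd_natCard D ha) hDp
    · intro b hb
      obtain ⟨i, rfl⟩ := Subgroup.mem_zpowers_iff.mp hb
      exact (Commute.zpow_right hax i)
    · rw [normalizer_eq_top]; exact Subgroup.mem_top a
    · rw [normalizer_eq_top]; exact le_top
    · intro u hu hub
      have hux : u ∈ centralizer {x} := by
        rw [Subgroup.mem_centralizer_singleton_iff]
        exact (hub x (mem_zpowers x)).symm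
      have huN := hDn hux
      have h1 : a * u * a⁻¹ * u⁻¹ ∈ D ⊓ Cfsg.pCore p H := by
        refine mem_inf.mpr ⟨?_, ?_⟩
        · have h2 : u * a⁻¹ * u⁻¹ ∈ D := (mem_normalizer_iff.mp huN a⁻¹).mp (D.inv_mem ha)
          have e : a * u * a⁻¹ * u⁻¹ = a * (u * a⁻¹ * u⁻¹) := by group
          rw [e]; exact D.mul_mem ha h2
        · exact (Cfsg.pCore p H).mul_mem (hQn.conj_mem u hu a) ((Cfsg.pCore p H).inv_mem hu)
      rw [hDQ, mem_bot] at h1
      have h3 : a * u = (a * u * a⁻¹ * u⁻¹) * (u * a) := by group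
      rw [h3, h1, one_mul]
  have haC : a ∈ centralizer (Cfsg.pCore p H : Set H) := by
    rw [mem_centralizer_iff]
    intro u hu
    exact (hcent u hu).symm
  have haQ := Cfsg.Agent.Lib.Helper1.centralizer_pCore_le p hO haC
  have h4 : a ∈ D ⊓ Cfsg.pCore p H := mem_inf.mpr ⟨ha, haQ⟩
  rwa [hDQ] at h4

theorem key [Group.IsSolvable H] (x : H) (hx : x ^ p = 1)
    (D : Subgroup H) (hDc : D ≤ centralizer {x})
    (hDn : centralizer {x} ≤ normalizer (D : Set H))
    (hDp : (Nat.card D).Coprime p) : D ≤ Cfsg.pPrimeCore p H := by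
  have hOq : Cfsg.pPrimeCore p (H ⧸ Cfsg.pPrimeCore p H) = ⊥ :=
    Cfsg.Agent.Lib.Helper10.pPrimeCore_quotient_eq_bot p
  have hNcop : (Nat.card (Cfsg.pPrimeCore p H)).Coprime p :=
    Cfsg.Agent.Lib.Helper1.pPrimeCore_coprime p
  have hp : p.Prime := Fact.out
  have hzp : IsPGroup p (zpowers x) := isPGroup_zpowers hx
  have hcop : Cfsg.Agent.Lib.Helper1.CoprimeAct (zpowers x) (Cfsg.pPrimeCore p H) :=
    { norm := by rw [normalizer_eq_top]; exact le_top
      cop := by
        obtain ⟨k, hk⟩ := hzp.exists_card_eq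
        rw [hk]
        exact (Nat.Coprime.pow_right k hNcop).symm
      solv := Or.inl inferInstance }
  have hinf : Cfsg.pPrimeCore p H ⊓ zpowers x = ⊥ := hcop.inf_eq_bot
  set π := QuotientGroup.mk' (Cfsg.pPrimeCore p H) with hπ
  have hπ1 : ∀ g : H, π g = 1 ↔ g ∈ Cfsg.pPrimeCore p H := fun g => QuotientGroup.eq_one_iff g
  have hxq : (π x) ^ p = 1 := by rw [← map_pow, hx, map_one]
  have hDq : D.map π = ⊥ := by
    apply special hOq (π x) hxq (D.map π)
    · rintro _ ⟨d, hd, rfl⟩
      rw [mem_centralizer_singleton_iff, ← map_mul, ← map_mul,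
        mem_centralizer_singleton_iff.mp (hDc hd)]
    · intro hbar hhbar
      obtain ⟨h, rfl⟩ := QuotientGroup.mk'_surjective (Cfsg.pPrimeCore p H) hbar
      have hc : π h * π x = π x * π h := mem_centralizer_singleton_iff.mp hhbar
      have hh : ∀ a ∈ zpowers x, h⁻¹ * (a * h * a⁻¹) ∈ Cfsg.pPrimeCore p H := by
        intro a ha
        rw [← hπ1]
        obtain ⟨i, rfl⟩ := mem_zpowers_iff.mp ha
        have hc' : Commute (π h) (π x) := hc
        have h5 := (hc'.zpow_right i).eq
        simp only [map_mul, map_inv, map_zpow]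
        rw [← h5]; group
      obtain ⟨u, hu, hcu⟩ := hcop.exists_mul_mem_normalizer h hh
      have hu1 : π u = 1 := (hπ1 u).mpr hu
      have hcC : h * u ∈ centralizer {x} := by
        rw [mem_centralizer_singleton_iff]
        have h1 : (h * u) * x * (h * u)⁻¹ ∈ zpowers x :=
          (mem_normalizer_iff.mp hcu x).mp (mem_zpowers x)
        have h2 : (h * u) * x * (h * u)⁻¹ * x⁻¹ ∈ Cfsg.pPrimeCore p H ⊓ zpowers x := by
          refine mem_inf.mpr
            ⟨?_, (zpowers x).mul_mem h1 ((zpowers x).inv_mem (mem_zpowers x))⟩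
          rw [← hπ1]
          simp only [map_mul, map_inv, hu1, mul_one]
          rw [hc]; group
        rw [hinf, mem_bot] at h2
        have h3 : h * u * x = ((h * u) * x * (h * u)⁻¹ * x⁻¹) * (x * (h * u)) := by group
        rw [h3, h2, one_mul]
      have hπhu : π (h * u) = π h := by rw [map_mul, hu1, mul_one]
      rw [← hπhu]
      exact Subgroup.le_normalizer_map π (mem_map_of_mem π (hDn hcC))
    · exact Nat.Coprime.coprime_dvd_left (Subgroup.card_map_dvd D π) hDp
  intro d hd
  have h6 : π d ∈ D.map π := mem_map_of_mem π hd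
  rw [hDq, mem_bot] at h6
  exact (hπ1 d).mp h6

end aux

section aux2
variable {G : Type*} [Group G]

theorem cpc_le_centralizer (p : ℕ) (x : G) :
    Cfsg.centralizerPPrimeCore p x ≤ centralizer ({x} : Set G) := by
  unfold Cfsg.centralizerPPrimeCore
  exact Subgroup.map_subtype_le _

theorem centralizer_le_normalizer_cpc (p : ℕ) (b : G) :
    centralizer {b} ≤ normalizer (Cfsg.centralizerPPrimeCore p b : Set G) := by
  have h1 := Subgroup.le_normalizer_map (centralizer ({b} : Set G)).subtype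
    (H := Cfsg.pPrimeCore p ↥(centralizer ({b} : Set G)))
  rw [normalizer_eq_top, ← MonoidHom.range_eq_map, range_subtype] at h1
  exact h1

theorem coprime_card_cpc [Finite G] (p : ℕ) (b : G) :
    (Nat.card (Cfsg.centralizerPPrimeCore p b)).Coprime p := by
  have h1 : Nat.card (Cfsg.centralizerPPrimeCore p b) =
      Nat.card (Cfsg.pPrimeCore p ↥(centralizer ({b} : Set G))) := by
    unfold Cfsg.centralizerPPrimeCore
    exact Nat.card_congr ((Cfsg.pPrimeCore p ↥(centralizer ({b} : Set G))).equivMapOfInjective _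
      (centralizer ({b} : Set G)).subtype_injective).symm.toEquiv
  rw [h1]
  exact Cfsg.Agent.Lib.Helper1.pPrimeCore_coprime (G := ↥(centralizer ({b} : Set G))) p

theorem half [Finite G] (p : ℕ) [Fact p.Prime] (x y : G) (hx : orderOf x = p)
    (hxy : x * y = y * x) (hCy : Group.IsSolvable ↥(centralizer ({y} : Set G))) :
    Cfsg.centralizerPPrimeCore p x ⊓ centralizer {y} ≤ Cfsg.centralizerPPrimeCore p y := by
  have hxCy : x ∈ centralizer ({y} : Set G) := mem_centralizer_singleton_iff.mpr hxy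
  set E := Cfsg.centralizerPPrimeCore p x ⊓ centralizer {y} with hE
  have hEle : E ≤ centralizer ({y} : Set G) := inf_le_right
  have hxp : (⟨x, hxCy⟩ : ↥(centralizer ({y} : Set G))) ^ p = 1 := by
    apply Subtype.ext
    simp only [SubgroupClass.coe_pow, Subgroup.coe_one]
    rw [← hx]; exact pow_orderOf_eq_one x
  have hkey := key (H := ↥(centralizer ({y} : Set G))) (p := p) ⟨x, hxCy⟩ hxp
    (E.subgroupOf (centralizer ({y} : Set G))) ?_ ?_ ?_
  · intro g hg
    unfold Cfsg.centralizerPPrimeCore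
    exact ⟨⟨g, hEle hg⟩, hkey (mem_subgroupOf.mpr hg), rfl⟩
  · intro d hd
    rw [mem_subgroupOf] at hd
    have h1 : (d : G) ∈ centralizer ({x} : Set G) :=
      cpc_le_centralizer p x (mem_inf.mp hd).1
    rw [mem_centralizer_singleton_iff] at h1 ⊢
    exact Subtype.ext h1
  · intro c hc
    rw [mem_centralizer_singleton_iff] at hc
    have hcx : (c : G) ∈ centralizer ({x} : Set G) := by
      rw [mem_centralizer_singleton_iff]
      exact congrArg Subtype.val hc
    have hcN : (c : G) ∈ normalizer (Cfsg.centralizerPPrimeCore p x : Set G) :=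
      centralizer_le_normalizer_cpc p x hcx
    rw [mem_normalizer_iff]
    intro h
    rw [mem_subgroupOf, mem_subgroupOf]
    have hconj : ((c * h * c⁻¹ : ↥(centralizer ({y} : Set G))) : G) = (c : G) * h * (c : G)⁻¹ := by
      simp
    rw [hconj, hE, mem_inf, mem_inf]
    constructor
    · rintro ⟨h1, h2⟩
      exact ⟨(mem_normalizer_iff.mp hcN _).mp h1, Subgroup.mul_mem _ (Subgroup.mul_mem _ c.2 h.2)
        (Subgroup.inv_mem _ c.2)⟩
    · rintro ⟨h1, _⟩
      exact ⟨(mem_normalizer_iff.mp hcN _).mpr h1, h.2⟩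
  · have h1 : Nat.card (E.subgroupOf (centralizer ({y} : Set G))) = Nat.card E :=
      Nat.card_congr (Subgroup.subgroupOfEquivOfLe hEle).toEquiv
    rw [h1]
    exact Nat.Coprime.coprime_dvd_left (Subgroup.card_dvd_of_le inf_le_left)
      (coprime_card_cpc p x)

end aux2

/-- Let `G` be a finite group, `p` a prime, and `x, y` commuting elements of order `p` whose centralizers `C_G(x)` and `C_G(y)` are both solvable. Then `O_{p'}(C_G(x)) ∩ C_G(y) = O_{p'}(C_G(y)) ∩ C_G(x)` (balance). -/
theorem result {G : Type*} [Group G] [Finite G]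
    (p : ℕ) [Fact p.Prime] (x y : G) (hx : orderOf x = p) (hy : orderOf y = p) (hxy : x * y = y * x)
    (hCx : Group.IsSolvable ↥(Subgroup.centralizer ({x} : Set G))) (hCy : Group.IsSolvable ↥(Subgroup.centralizer ({y} : Set G))) :
    Cfsg.centralizerPPrimeCore p x ⊓ Subgroup.centralizer {y} = Cfsg.centralizerPPrimeCore p y ⊓ Subgroup.centralizer {x} := by
  apply le_antisymm
  · exact le_inf (half p x y hx hxy hCy) (inf_le_left.trans (cpc_le_centralizer p x))
  · exact le_inf (half p y x hy hxy.symm hCx) (inf_le_left.trans (cpc_le_centralizer p y))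

end Cfsg.Agent.S1958
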