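import Mathlib
import Cfsg.Statements.S0253
import Cfsg.Agent.Lib.Helper3.CardSL
import Cfsg.Agent.Lib.Helper3.SLTransport
import Cfsg.Agent.Lib.Helper3.SimpleIndex

set_option autoImplicit false
open Cfsg

namespace Cfsg.Agent.S0253

open Cfsg.Agent.Lib.Helper3

instance : Fact (Nat.Prime 5) := ⟨by norm_num⟩

abbrev G5 := Matrix.SpecialLinearGroup (Fin 2) (ZMod 5)

/-- the entries of the 24 matrices of the binary tetrahedral subgroup of `SL_2(5)` -/
def tuples : List (ZMod 5 × ZMod 5 × ZMod 5 × ZMod 5) :=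
  [(0, 1, 4, 0), (0, 2, 2, 0), (0, 3, 3, 0), (0, 4, 1, 0), (1, 0, 0, 1), (1, 1, 2, 3),
   (1, 2, 1, 3), (1, 3, 4, 3), (1, 4, 3, 3), (2, 0, 0, 3), (2, 1, 2, 4), (2, 2, 1, 4),
   (2, 3, 4, 4), (2, 4, 3, 4), (3, 0, 0, 2), (3, 1, 2, 1), (3, 2, 1, 1), (3, 3, 4, 1),
   (3, 4, 3, 1), (4, 0, 0, 4), (4, 1, 2, 2), (4, 2, 1, 2), (4, 3, 4, 2), (4, 4, 3, 2)]

/-- membership predicate -/
def P (g : G5) : Prop := (g.1 0 0, g.1 0 1, g.1 1 0, g.1 1 1) ∈ tuples

instance : DecidablePred P := fun g => by unfold P; infer_instance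

set_option maxRecDepth 1000000 in
lemma P_mul : ∀ g : G5, P g → ∀ h : G5, P h → P (g * h) := by decide

set_option maxRecDepth 1000000 in
lemma P_inv : ∀ g : G5, P g → P g⁻¹ := by decide

set_option maxRecDepth 1000000 in
lemma P_card : Fintype.card {g : G5 // P g} = 24 := by decide

/-- the binary tetrahedral subgroup -/
def Ht : Subgroup G5 where
  carrier := {g | P g}
  mul_mem' := fun {a b} ha hb => P_mul a ha b hb
  one_mem' := by decide
  inv_mem' := fun {a} ha => P_inv a ha

lemma card_Ht : Nat.card Ht = 24 := by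
  have : Nat.card Ht = Nat.card {g : G5 // P g} := rfl
  rw [this, Nat.card_eq_fintype_card, P_card]

lemma center_le_Ht : Subgroup.center G5 ≤ Ht := by
  intro g hg
  rw [Matrix.SpecialLinearGroup.mem_center_iff] at hg
  obtain ⟨r, hr, hA⟩ := hg
  have hr' : r ^ 2 = 1 := by simpa using hr
  have h : g = 1 ∨ g = -1 := by
    have : (r - 1) * (r + 1) = 0 := by ring_nf; rw [hr']; ring
    rcases mul_eq_zero.1 this with h | h
    · left
      have : r = 1 := sub_eq_zero.1 h
      subst this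
      apply Subtype.ext
      rw [← hA]
      simp
    · right
      have : r = -1 := eq_neg_of_add_eq_zero_left h
      subst this
      apply Subtype.ext
      rw [← hA]
      ext i j
      fin_cases i <;> fin_cases j <;> simp
  rcases h with rfl | rfl
  · exact Ht.one_mem
  · show P (-1)
    decide

lemma two_ne_zero5 : (2 : ZMod 5) ≠ 0 := by decide

lemma card_PSL5 : Nat.card (Matrix.ProjectiveSpecialLinearGroup (Fin 2) (ZMod 5)) = 60 := by
  have h := CardSL.card_PSL_mul (F := ZMod 5) 2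
  rw [CardSL.card_center_SL2 two_ne_zero5, CardSL.card_SL2, ZMod.card] at h
  have : (5 * (5 ^ 2 - 1) : ℕ) = 120 := rfl
  omega

lemma psl5 : Nonempty (Matrix.ProjectiveSpecialLinearGroup (Fin 2) (ZMod 5) ≃* alternatingGroup (Fin 5)) := by
  have hsimple : IsSimpleGroup (Matrix.ProjectiveSpecialLinearGroup (Fin 2) (ZMod 5)) :=
    Matrix.ProjectiveSpecialLinearGroup.rank_two_simple (by
      rw [Nat.card_eq_fintype_card, ZMod.card]; norm_num)
  let H : Subgroup (Matrix.ProjectiveSpecialLinearGroup (Fin 2) (ZMod 5)) :=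
    Ht.map (QuotientGroup.mk' (Subgroup.center G5))
  have hidx : H.index = 5 := by
    have h1 : H.index = (Ht ⊔ (QuotientGroup.mk' (Subgroup.center G5)).ker).index
        * (QuotientGroup.mk' (Subgroup.center G5)).range.index := Subgroup.index_map _ _
    rw [QuotientGroup.ker_mk', sup_eq_left.2 center_le_Ht,
      MonoidHom.range_eq_top.2 (QuotientGroup.mk'_surjective _), Subgroup.index_top, mul_one] at h1
    rw [h1]
    have h2 : Ht.index * Nat.card Ht = Nat.card G5 := Ht.index_mul_card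
    rw [card_Ht, CardSL.card_SL2, ZMod.card] at h2
    have : (5 * (5 ^ 2 - 1) : ℕ) = 120 := rfl
    omega
  exact PermIso.nonempty_mulEquiv_alternatingGroup_of_index H 5 hidx (by norm_num)
    (by rw [card_PSL5]; rfl)

/-- PSL_2(5) is isomorphic to A_5. -/
theorem result {F : Type*} [Field F] [Fintype F] (hF : Fintype.card F = 5) : Nonempty (Matrix.ProjectiveSpecialLinearGroup (Fin 2) F ≃* alternatingGroup (Fin 5)) := by
  obtain ⟨e⟩ := psl5
  exact ⟨(SLTransport.pslEquivZMod (by norm_num) hF (Fin 2)).trans e⟩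

end Cfsg.Agent.S0253
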