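import Cfsg.Statements.S2391

set_option autoImplicit false
open Cfsg

namespace Cfsg.Agent.S2391

open Matrix

variable {F : Type*} [Field F] {n : ℕ}

/-- `next U W = {v | ∀ u ∈ U, u v - v ∈ W}`. -/
def next (U : Subgroup (SpecialLinearGroup (Fin n) F)) (W : Submodule F (Fin n → F)) :
    Submodule F (Fin n → F) :=
  ⨅ u : U, W.comap (Matrix.mulVecLin ((u : SpecialLinearGroup (Fin n) F) : Matrix (Fin n) (Fin n) F) - LinearMap.id)

theorem mem_next (U : Subgroup (SpecialLinearGroup (Fin n) F)) (W : Submodule F (Fin n → F))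
    (v : Fin n → F) :
    v ∈ next U W ↔ ∀ u ∈ U, (u : Matrix (Fin n) (Fin n) F).mulVec v - v ∈ W := by
  simp only [next, Submodule.mem_iInf, Submodule.mem_comap, LinearMap.sub_apply,
    Matrix.mulVecLin_apply, LinearMap.id_apply, Subtype.forall]

theorem next_mono (U : Subgroup (SpecialLinearGroup (Fin n) F)) {W W' : Submodule F (Fin n → F)}
    (h : W ≤ W') : next U W ≤ next U W' := by
  intro v hv
  rw [mem_next] at hv ⊢
  exact fun u hu => h (hv u hu)

/-- The ascending chain of iterated fixed spaces. -/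
def chain (U : Subgroup (SpecialLinearGroup (Fin n) F)) : ℕ → Submodule F (Fin n → F)
  | 0 => ⊥
  | j + 1 => next U (chain U j)

theorem chain_le_succ (U : Subgroup (SpecialLinearGroup (Fin n) F)) (j : ℕ) :
    chain U j ≤ chain U (j + 1) := by
  induction j with
  | zero => exact bot_le
  | succ j ih => exact next_mono U ih

theorem chain_stable (U : Subgroup (SpecialLinearGroup (Fin n) F)) (j : ℕ)
    (u : SpecialLinearGroup (Fin n) F) (hu : u ∈ U) (v : Fin n → F) (hv : v ∈ chain U j) :
    (u : Matrix (Fin n) (Fin n) F).mulVec v ∈ chain U j := by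
  cases j with
  | zero =>
    have : v = 0 := by simpa [chain] using hv
    subst this
    simp [chain]
  | succ j =>
    have h1 : (u : Matrix (Fin n) (Fin n) F).mulVec v - v ∈ chain U j := by
      have := (mem_next U (chain U j) v).mp hv
      exact this u hu
    have h2 := chain_le_succ U j h1
    have h3 := Submodule.add_mem _ h2 hv
    simpa using h3

theorem chain_normalizer_le (U : Subgroup (SpecialLinearGroup (Fin n) F)) (j : ℕ) :
    ∀ g ∈ Subgroup.normalizer (U : Set (SpecialLinearGroup (Fin n) F)), ∀ v ∈ chain U j,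
      (g : Matrix (Fin n) (Fin n) F).mulVec v ∈ chain U j := by
  induction j with
  | zero =>
    intro g _ v hv
    have : v = 0 := by simpa [chain] using hv
    subst this
    simp [chain]
  | succ j ih =>
    intro g hg v hv
    show _ ∈ next U (chain U j)
    rw [mem_next]
    intro u hu
    have hu' : g⁻¹ * u * g ∈ U := by
      have hg' : g⁻¹ ∈ Subgroup.normalizer (U : Set (SpecialLinearGroup (Fin n) F)) := Subgroup.inv_mem _ hg
      have := (Subgroup.mem_normalizer_iff.mp hg' u).mp hu
      simpa using this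
    have h1 := (mem_next U (chain U j) v).mp hv (g⁻¹ * u * g) hu'
    have h2 := ih g hg _ h1
    have h3 : (g : Matrix (Fin n) (Fin n) F).mulVec
        (((g⁻¹ * u * g : SpecialLinearGroup (Fin n) F) : Matrix (Fin n) (Fin n) F).mulVec v - v) =
        (u : Matrix (Fin n) (Fin n) F).mulVec ((g : Matrix (Fin n) (Fin n) F).mulVec v) -
          (g : Matrix (Fin n) (Fin n) F).mulVec v := by
      have hmat : (g : Matrix (Fin n) (Fin n) F) *
          ((g⁻¹ * u * g : SpecialLinearGroup (Fin n) F) : Matrix (Fin n) (Fin n) F) =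
          (u : Matrix (Fin n) (Fin n) F) * (g : Matrix (Fin n) (Fin n) F) := by
        have e : g * (g⁻¹ * u * g) = u * g := by group
        exact congrArg Subtype.val e
      rw [Matrix.mulVec_sub, Matrix.mulVec_mulVec, Matrix.mulVec_mulVec, hmat]
    rw [← h3]
    exact h2

theorem chain_normalizer_map (U : Subgroup (SpecialLinearGroup (Fin n) F)) (j : ℕ)
    (g : SpecialLinearGroup (Fin n) F)
    (hg : g ∈ Subgroup.normalizer (U : Set (SpecialLinearGroup (Fin n) F))) :
    (chain U j).map (Matrix.mulVecLin (g : Matrix (Fin n) (Fin n) F)) = chain U j := by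
  apply le_antisymm
  · rintro _ ⟨v, hv, rfl⟩
    exact chain_normalizer_le U j g hg v hv
  · intro v hv
    refine ⟨((g⁻¹ : SpecialLinearGroup (Fin n) F) : Matrix (Fin n) (Fin n) F).mulVec v,
      chain_normalizer_le U j g⁻¹ (Subgroup.inv_mem _ hg) v hv, ?_⟩
    have hmat : (g : Matrix (Fin n) (Fin n) F) *
        ((g⁻¹ : SpecialLinearGroup (Fin n) F) : Matrix (Fin n) (Fin n) F) = 1 := by
      have e : g * g⁻¹ = 1 := mul_inv_cancel g
      exact congrArg Subtype.val e
    simp only [Matrix.mulVecLin_apply, Matrix.mulVec_mulVec, hmat, Matrix.one_mulVec]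

section action

variable (U : Subgroup (SpecialLinearGroup (Fin n) F)) (W : Submodule F (Fin n → F))
  (hW : ∀ u ∈ U, ∀ v ∈ W, (u : Matrix (Fin n) (Fin n) F).mulVec v ∈ W)

/-- The induced map on the quotient. -/
def quotMap (u : U) : ((Fin n → F) ⧸ W) →ₗ[F] ((Fin n → F) ⧸ W) :=
  W.mapQ W (Matrix.mulVecLin ((u : SpecialLinearGroup (Fin n) F) : Matrix (Fin n) (Fin n) F))
    (fun v hv => hW u u.2 v hv)

/-- The action of `U` on the quotient by a stable subspace. -/
@[instance_reducible] def quotAction : MulAction U ((Fin n → F) ⧸ W) where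
  smul u x := quotMap U W hW u x
  one_smul x := by
    induction x using Submodule.Quotient.induction_on with
    | _ v =>
      show (Submodule.Quotient.mk ((((1 : U) : SpecialLinearGroup (Fin n) F) : Matrix (Fin n) (Fin n) F).mulVec v) : (Fin n → F) ⧸ W) = _
      simp
  mul_smul a b x := by
    induction x using Submodule.Quotient.induction_on with
    | _ v =>
      show (Submodule.Quotient.mk ((((a * b : U) : SpecialLinearGroup (Fin n) F) : Matrix (Fin n) (Fin n) F).mulVec v) : (Fin n → F) ⧸ W) =
        Submodule.Quotient.mk (((a : SpecialLinearGroup (Fin n) F) : Matrix (Fin n) (Fin n) F).mulVec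
          (((b : SpecialLinearGroup (Fin n) F) : Matrix (Fin n) (Fin n) F).mulVec v))
      rw [Matrix.mulVec_mulVec]
      rfl

end action

theorem exists_fixed_mod [Fintype F] (p : ℕ) [Fact p.Prime] [CharP F p]
    (U : Subgroup (SpecialLinearGroup (Fin n) F)) (hU : IsPGroup p ↥U)
    (W : Submodule F (Fin n → F))
    (hW : ∀ u ∈ U, ∀ v ∈ W, (u : Matrix (Fin n) (Fin n) F).mulVec v ∈ W) (hWtop : W ≠ ⊤) :
    ∃ v, v ∉ W ∧ ∀ u ∈ U, (u : Matrix (Fin n) (Fin n) F).mulVec v - v ∈ W := by
  have hpp : p.Prime := Fact.out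
  let _ : MulAction U ((Fin n → F) ⧸ W) := quotAction U W hW
  have hsmul : ∀ (u : U) (v : Fin n → F), u • (Submodule.Quotient.mk v : (Fin n → F) ⧸ W) =
      Submodule.Quotient.mk ((u : SpecialLinearGroup (Fin n) F).1.mulVec v) := by
    intro u v
    rfl
  have : Nontrivial ((Fin n → F) ⧸ W) := Submodule.Quotient.nontrivial_iff.mpr hWtop
  have hcard : p ∣ Nat.card ((Fin n → F) ⧸ W) := by
    have h1 := Submodule.card_eq_card_quotient_mul_card W
    obtain ⟨e, he⟩ := FiniteField.card F p
    have h2 : Nat.card (Fin n → F) = p ^ ((e : ℕ) * n) := by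
      rw [Nat.card_eq_fintype_card, Fintype.card_fun, Fintype.card_fin, he.2, pow_mul]
    have h3 : Nat.card ((Fin n → F) ⧸ W) ∣ p ^ ((e : ℕ) * n) := by
      rw [← h2, h1]; exact Dvd.intro_left _ rfl
    obtain ⟨t, _, ht⟩ := (Nat.dvd_prime_pow hpp).mp h3
    have h4 : 1 < Nat.card ((Fin n → F) ⧸ W) := Finite.one_lt_card
    rw [ht] at h4 ⊢
    have : t ≠ 0 := by
      rintro rfl
      simp at h4
    exact dvd_pow_self p this
  have hfix0 : (0 : (Fin n → F) ⧸ W) ∈ MulAction.fixedPoints U ((Fin n → F) ⧸ W) := by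
    intro u
    have := hsmul u 0
    simpa using this
  obtain ⟨b, hb, hb0⟩ := hU.exists_fixed_point_of_prime_dvd_card_of_fixed_point _ hcard hfix0
  induction b using Submodule.Quotient.induction_on with
  | _ v =>
    refine ⟨v, ?_, ?_⟩
    · intro hv
      apply hb0
      exact ((Submodule.Quotient.mk_eq_zero W).mpr hv).symm
    · intro u hu
      have := hb ⟨u, hu⟩
      rw [hsmul] at this
      rw [← Submodule.Quotient.mk_eq_zero W, Submodule.Quotient.mk_sub, this, sub_self]

theorem chain_lt_succ [Fintype F] (p : ℕ) [Fact p.Prime] [CharP F p]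
    (U : Subgroup (SpecialLinearGroup (Fin n) F)) (hU : IsPGroup p ↥U) (j : ℕ)
    (h : chain U j ≠ ⊤) : chain U j < chain U (j + 1) := by
  refine lt_of_le_of_ne (chain_le_succ U j) ?_
  intro heq
  obtain ⟨v, hv, hv'⟩ := exists_fixed_mod p U hU (chain U j) (fun u hu v hv => chain_stable U j u hu v hv) h
  apply hv
  rw [heq]
  show v ∈ next U (chain U j)
  rw [mem_next]
  exact hv'

theorem chain_finrank [Fintype F] (p : ℕ) [Fact p.Prime] [CharP F p]
    (U : Subgroup (SpecialLinearGroup (Fin n) F)) (hU : IsPGroup p ↥U) (j : ℕ) :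
    chain U j = ⊤ ∨ j ≤ Module.finrank F (chain U j) := by
  induction j with
  | zero => right; exact Nat.zero_le _
  | succ j ih =>
    by_cases h : chain U (j + 1) = ⊤
    · left; exact h
    · right
      have hj : chain U j ≠ ⊤ := by
        intro hj
        apply h
        exact top_le_iff.mp (hj ▸ chain_le_succ U j)
      have h1 := ih.resolve_left hj
      have h2 := Submodule.finrank_lt_finrank_of_lt (chain_lt_succ p U hU j hj)
      omega

theorem exists_chain_top [Fintype F] (p : ℕ) [Fact p.Prime] [CharP F p]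
    (U : Subgroup (SpecialLinearGroup (Fin n) F)) (hU : IsPGroup p ↥U) :
    ∃ j, chain U j = ⊤ := by
  refine ⟨n + 1, ?_⟩
  rcases chain_finrank p U hU (n + 1) with h | h
  · exact h
  · exfalso
    have := Submodule.finrank_le (chain U (n + 1))
    rw [Module.finrank_fin_fun] at this
    omega

/-- The Borel–Tits property of `SL_n(q)` in flag form: for a field `F` of characteristic `p` with finitely many elements and a non-trivial `p`-subgroup `U` of `SL_n(F)`, there is a flag `0 = V₀ < V₁ < ⋯ < V_{k+1} = F^n` with at least one proper non-zero member such that every element of the normaliser of `U` maps each `V_i` onto itself and every element of `U` acts trivially on each quotient `V_{i+1}/V_i` (so the normaliser lies in the parabolic subgroup of the flag and `U` in its unipotent radical). -/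
theorem result {F : Type*} [Field F] [Fintype F] (p : ℕ) [Fact p.Prime] [CharP F p] (n : ℕ)
    (U : Subgroup (Matrix.SpecialLinearGroup (Fin n) F)) (hU : IsPGroup p ↥U) (hne : U ≠ ⊥) :
    ∃ (k : ℕ) (V : Fin (k + 2) → Submodule F (Fin n → F)), 1 ≤ k ∧ StrictMono V ∧ V 0 = ⊥ ∧ V (Fin.last (k + 1)) = ⊤ ∧
      (∀ g ∈ Subgroup.normalizer (U : Set (Matrix.SpecialLinearGroup (Fin n) F)), ∀ i, (V i).map (Matrix.mulVecLin (g : Matrix (Fin n) (Fin n) F)) = V i) ∧
      (∀ u ∈ U, ∀ i : Fin (k + 1), ∀ v ∈ V i.succ, (u : Matrix (Fin n) (Fin n) F).mulVec v - v ∈ V (Fin.castSucc i)) := by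
  classical
  have hex := exists_chain_top p U hU
  set k0 := Nat.find hex with hk0
  have hk0top : chain U k0 = ⊤ := Nat.find_spec hex
  have hk0min : ∀ j < k0, chain U j ≠ ⊤ := fun j hj => Nat.find_min hex hj
  -- a nontrivial element
  obtain ⟨u0, hu0, hu01⟩ : ∃ u ∈ U, u ≠ 1 := by
    by_contra hcon
    push Not at hcon
    apply hne
    rw [Subgroup.eq_bot_iff_forall]
    exact hcon
  -- chain 0 ≠ ⊤
  have h0 : chain U 0 ≠ ⊤ := by
    intro h
    apply hu01
    have hsub : ∀ v : Fin n → F, v = 0 := by
      intro v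
      have : v ∈ chain U 0 := by rw [h]; trivial
      simpa [chain] using this
    apply Subtype.ext
    apply Matrix.toLin'.injective
    apply LinearMap.ext
    intro v
    rw [hsub v]; simp
  -- chain 1 ≠ ⊤
  have h1 : chain U 1 ≠ ⊤ := by
    intro h
    apply hu01
    apply Subtype.ext
    apply Matrix.toLin'.injective
    apply LinearMap.ext
    intro v
    have : v ∈ chain U 1 := by rw [h]; trivial
    have h2 := (mem_next U (chain U 0) v).mp this u0 hu0
    have h3 : (u0 : Matrix (Fin n) (Fin n) F).mulVec v - v = 0 := by simpa [chain] using h2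
    show (u0 : Matrix (Fin n) (Fin n) F).mulVec v = (1 : Matrix (Fin n) (Fin n) F).mulVec v
    rw [Matrix.one_mulVec]
    exact sub_eq_zero.mp h3
  have hk2 : 2 ≤ k0 := by
    by_contra hlt
    push Not at hlt
    interval_cases k0
    · exact h0 hk0top
    · exact h1 hk0top
  refine ⟨k0 - 1, fun i => chain U i.val, by omega, ?_, rfl, ?_, ?_, ?_⟩
  · rw [Fin.strictMono_iff_lt_succ]
    intro i
    have : (i.castSucc : Fin (k0 - 1 + 2)).val < k0 := by
      have := i.2; simp only [Fin.val_castSucc]; omega
    have := chain_lt_succ p U hU i.castSucc.val (hk0min _ this)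
    simpa using this
  · have : (Fin.last (k0 - 1 + 1)).val = k0 := by simp; omega
    show chain U (Fin.last (k0 - 1 + 1)).val = ⊤
    rw [this]; exact hk0top
  · intro g hg i
    exact chain_normalizer_map U i.val g hg
  · intro u hu i v hv
    have hv' : v ∈ chain U (i.val + 1) := by simpa using hv
    have := (mem_next U (chain U i.val) v).mp hv' u hu
    simpa using this

end Cfsg.Agent.S2391
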