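import Mathlib
import Cfsg.Statements.S0252
import Cfsg.Agent.Lib.Helper3.PermIso
import Cfsg.Agent.Lib.Helper3.CardSL

set_option autoImplicit false
open Cfsg

namespace Cfsg.Agent.S0252

open Cfsg.Agent.Lib.Helper3

/-- PSL_2(4) is isomorphic to A_5. -/
theorem result {F : Type*} [Field F] [Fintype F] (hF : Fintype.card F = 4) : Nonempty (Matrix.ProjectiveSpecialLinearGroup (Fin 2) F ≃* alternatingGroup (Fin 5)) := by
  classical
  have h4 : (4 : F) = 0 := by
    have := Nat.cast_card_eq_zero F
    rw [hF] at this
    exact_mod_cast this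
  have h2 : (2 : F) = 0 := by
    have : (2 : F) * 2 = 0 := by rw [← h4]; norm_num
    exact mul_self_eq_zero.1 this
  have : CharP F 2 := CharTwo.of_one_ne_zero_of_two_eq_zero one_ne_zero h2
  have : Fintype (Projectivization F (Fin 2 → F)) := Fintype.ofFinite _
  have hX : Fintype.card (Projectivization F (Fin 2 → F)) = 5 := by
    rw [← Nat.card_eq_fintype_card, Projectivization.card_of_finrank_two F (Fin 2 → F) (by simp),
      Nat.card_eq_fintype_card, hF]
  have hG : 2 * Nat.card (Matrix.ProjectiveSpecialLinearGroup (Fin 2) F) = (5).factorial := by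
    have h := CardSL.card_PSL_mul (F := F) 2
    rw [CardSL.center_SL2_eq_bot, Subgroup.card_bot, mul_one, CardSL.card_SL2, hF] at h
    rw [h]
    rfl
  exact PermIso.nonempty_mulEquiv_alternatingGroup _
    Matrix.ProjectiveSpecialLinearGroup.toPermHom_injective 5 hX hG

end Cfsg.Agent.S0252
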