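-- Statement S0751
import Cfsg.Statements.S0751
import Mathlib
import Cfsg.Agent.Lib.Helper6.HermBasis

set_option autoImplicit false
open Cfsg

namespace Cfsg.Agent.S0751

open Module Function Cfsg.Agent.Lib.Helper6

universe uF uV

section
variable {F : Type uF} {V : Type uV} [Field F] [Finite F] [AddCommGroup V] [Module F V]
  [FiniteDimensional F V] (σ : F →+* F)

/-- hyperbolic partner of a radical vector, prescribed by a functional -/
theorem partner (hσ : σ ≠ RingHom.id F) (hσ2 : ∀ a : F, σ (σ a) = a)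
    (B : V →ₛₗ[σ] V →ₗ[F] F) (hS : B.IsSymm) (hB : B.Nondegenerate)
    {E : Type*} [AddCommGroup E] [Module F E] (f : E →ₗ[F] V) (hf : Injective f)
    (a₀ : E) (hrad : ∀ a, B (f a) (f a₀) = 0) (lam : E →ₗ[F] F) (hlam : lam a₀ = 1) :
    ∃ x, x ∉ LinearMap.range f ∧ (∀ a, B x (f a) = lam a) ∧ B x x = 0 := by
  obtain ⟨ψ, hψ⟩ := LinearMap.dualMap_surjective_of_injective hf lam
  have hψ' : ∀ a, ψ (f a) = lam a := fun a => by
    have := congrArg (fun l => l a) hψ
    simpa using this
  obtain ⟨x₀, hx₀⟩ := herm_riesz σ hσ hσ2 B hS hB ψ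
  obtain ⟨c, hc⟩ := exists_trace σ hσ hσ2 (-(B x₀ x₀)) (by rw [map_neg, hS.eq])
  have hrr : B (f a₀) (f a₀) = 0 := hrad a₀
  have hr : ∀ a, B (f a₀) (f a) = 0 := fun a => herm_zero_comm σ hσ2 B hS (hrad a)
  have hx₀r : B x₀ (f a₀) = 1 := by rw [hx₀, hψ', hlam]
  have hrx₀ : B (f a₀) x₀ = 1 := by rw [← hS.eq, hx₀r, map_one]
  refine ⟨x₀ + c • f a₀, ?_, ?_, ?_⟩
  · rintro ⟨a, ha⟩
    have h1 : B (x₀ + c • f a₀) (f a₀) = 0 := by rw [← ha]; exact hrad a
    rw [map_add, LinearMap.add_apply, map_smulₛₗ, LinearMap.smul_apply, hrr, smul_zero, add_zero,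
      hx₀r] at h1
    exact one_ne_zero h1
  · intro a
    rw [map_add, LinearMap.add_apply, map_smulₛₗ, LinearMap.smul_apply, hr a, smul_zero, add_zero,
      hx₀, hψ']
  · simp only [map_add, LinearMap.add_apply, map_smulₛₗ, LinearMap.smul_apply, map_smul, hrr,
      hx₀r, hrx₀, smul_eq_mul, mul_zero, mul_one, add_zero]
    linear_combination hc

/-- Witt's lemma for Hermitian forms over finite fields, for embeddings of an abstract space. -/
theorem witt_herm (hσ : σ ≠ RingHom.id F) (hσ2 : ∀ a : F, σ (σ a) = a)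
    (B : V →ₛₗ[σ] V →ₗ[F] F) (hS : B.IsSymm) (hB : B.Nondegenerate) :
    ∀ (k : ℕ) (E : Type (max uF uV)) [AddCommGroup E] [Module F E] [FiniteDimensional F E]
      (f f' : E →ₗ[F] V), Injective f → Injective f' →
      (∀ a b, B (f a) (f b) = B (f' a) (f' b)) → finrank F E + k = finrank F V →
      ∃ g : V ≃ₗ[F] V, (∀ u v, B (g u) (g v) = B u v) ∧ ∀ a, g (f a) = f' a := by
  classical
  intro k
  induction k with
  | zero =>
    intro E _ _ _ f f' hf hf' hiso hdim
    let e := f.linearEquivOfInjective hf (by omega)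
    let e' := f'.linearEquivOfInjective hf' (by omega)
    refine ⟨e.symm.trans e', ?_, ?_⟩
    · intro u v
      obtain ⟨a, rfl⟩ := e.surjective u
      obtain ⟨b, rfl⟩ := e.surjective v
      simp only [LinearEquiv.trans_apply, LinearEquiv.symm_apply_apply]
      exact (hiso a b).symm
    · intro a
      have : f a = e a := rfl
      rw [this]
      simp only [LinearEquiv.trans_apply, LinearEquiv.symm_apply_apply]
      rfl
  | succ k ih =>
    intro E _ _ _ f f' hf hf' hiso hdim
    let BE : E →ₛₗ[σ] E →ₗ[F] F := (B.comp f).compl₂ f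
    have hBE : ∀ a b, BE a b = B (f a) (f b) := fun a b => rfl
    have hBES : BE.IsSymm := ⟨fun a b => hS.eq (f a) (f b)⟩
    by_cases hnd : BE.SeparatingLeft
    · -- the non-degenerate case: finish with orthonormal bases
      have hBEnd : BE.Nondegenerate := ⟨hnd, herm_sepRight σ hσ2 BE hBES hnd⟩
      obtain ⟨e, he⟩ := Cfsg.Agent.S0755.result σ hσ hσ2 BE hBES hBEnd
      obtain ⟨β, hβ, hβv⟩ := herm_extend σ hσ hσ2 B hS hB (fun i => f (e i)) he
      obtain ⟨β', hβ', hβv'⟩ := herm_extend σ hσ hσ2 B hS hB (fun i => f' (e i)) (by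
        intro i j
        rw [← hiso]
        exact he i j)
      refine ⟨β.equiv β' (Equiv.refl _), isometry_of_orthonormal σ B β β' hβ hβ', ?_⟩
      intro a
      have h1 : ∀ i, β.equiv β' (Equiv.refl _) (f (e i)) = f' (e i) := by
        intro i
        rw [← hβv i, Basis.equiv_apply, Equiv.refl_apply, hβv' i]
      have h2 : (β.equiv β' (Equiv.refl _)).toLinearMap ∘ₗ f = f' := by
        apply e.ext
        intro i
        exact h1 i
      exact congrArg (fun l => l a) h2
    · -- the radical case: one extension step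
      have hrad : ∃ a₀, a₀ ≠ 0 ∧ ∀ a, B (f a) (f a₀) = 0 := by
        by_contra hcon
        push Not at hcon
        apply hnd
        intro a₀ ha₀
        by_contra hne
        obtain ⟨a, ha⟩ := hcon a₀ hne
        exact ha (herm_zero_comm σ hσ2 B hS (ha₀ a))
      obtain ⟨a₀, ha₀, hrad⟩ := hrad
      obtain ⟨φ, hφ⟩ : ∃ φ : Module.Dual F E, φ a₀ ≠ 0 := by
        by_contra hcon
        push Not at hcon
        exact ha₀ ((Module.forall_dual_apply_eq_zero_iff F a₀).mp hcon)
      let lam : E →ₗ[F] F := (φ a₀)⁻¹ • φ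
      have hlam : lam a₀ = 1 := by
        simp only [lam, LinearMap.smul_apply, smul_eq_mul]
        exact inv_mul_cancel₀ hφ
      obtain ⟨x, hx, hxl, hxx⟩ := partner σ hσ hσ2 B hS hB f hf a₀ hrad lam hlam
      obtain ⟨y, hy, hyl, hyy⟩ := partner σ hσ hσ2 B hS hB f' hf' a₀ (by
        intro a; rw [← hiso]; exact hrad a) lam hlam
      let f₁ : E × F →ₗ[F] V := f.coprod (LinearMap.toSpanSingleton F V x)
      let f₁' : E × F →ₗ[F] V := f'.coprod (LinearMap.toSpanSingleton F V y)
      have hinj : ∀ (g : E →ₗ[F] V) (z : V), Injective g → z ∉ LinearMap.range g →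
          Injective (g.coprod (LinearMap.toSpanSingleton F V z)) := by
        intro g z hg hz
        rw [injective_iff_map_eq_zero]
        rintro ⟨a, c⟩ hac
        simp only [LinearMap.coprod_apply, LinearMap.toSpanSingleton_apply] at hac
        have hc : c = 0 := by
          by_contra hc
          apply hz
          refine ⟨-(c⁻¹ • a), ?_⟩
          have h1 : c • z = -g a := by
            rw [eq_neg_iff_add_eq_zero, add_comm]; exact hac
          calc g (-(c⁻¹ • a)) = c⁻¹ • (-g a) := by rw [map_neg, map_smul, smul_neg]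
            _ = c⁻¹ • (c • z) := by rw [h1]
            _ = z := by rw [smul_smul, inv_mul_cancel₀ hc, one_smul]
        rw [hc, zero_smul, add_zero] at hac
        have ha : a = 0 := hg (by rw [hac, map_zero])
        rw [ha, hc]
        rfl
      obtain ⟨g, hg1, hg2⟩ := ih (E × F) f₁ f₁' (hinj f x hf hx) (hinj f' y hf' hy) (by
        rintro ⟨a, c⟩ ⟨b, d⟩
        have e1 : B (f a) x = σ (lam a) := by rw [← hS.eq, hxl]
        have e2 : B (f' a) y = σ (lam a) := by rw [← hS.eq, hyl]
        simp only [f₁, f₁', LinearMap.coprod_apply, LinearMap.toSpanSingleton_apply, map_add,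
          map_smulₛₗ, map_smul, LinearMap.add_apply, LinearMap.smul_apply, smul_eq_mul, hiso a b,
          hxx, hyy, hxl, hyl, e1, e2]) (by
        rw [Module.finrank_prod, Module.finrank_self]; omega)
      refine ⟨g, hg1, ?_⟩
      intro a
      have := hg2 (a, 0)
      simpa [f₁, f₁'] using this

/-- The statement with explicit universes. -/
theorem result' (hσ : σ ≠ RingHom.id F) (hσ2 : ∀ a : F, σ (σ a) = a)
    (B : V →ₛₗ[σ] V →ₗ[F] F) (hS : B.IsSymm) (hB : B.Nondegenerate)
    (X Y : Submodule F V) (φ : X ≃ₗ[F] Y)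
    (hφ : ∀ x x' : X, B (φ x : V) (φ x' : V) = B (x : V) (x' : V)) :
    ∃ g : V ≃ₗ[F] V, (∀ u v : V, B (g u) (g v) = B u v) ∧ ∀ x : X, g (x : V) = (φ x : V) := by
  let u : ULift.{uF} X ≃ₗ[F] X := ULift.moduleEquiv
  let f : ULift.{uF} X →ₗ[F] V := X.subtype.comp u.toLinearMap
  let f' : ULift.{uF} X →ₗ[F] V := (Y.subtype.comp φ.toLinearMap).comp u.toLinearMap
  have hf : Injective f := X.subtype_injective.comp u.injective
  have hf' : Injective f' := (Y.subtype_injective.comp φ.injective).comp u.injective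
  have hdim : finrank F (ULift.{uF} X) ≤ finrank F V := by
    rw [u.finrank_eq]; exact Submodule.finrank_le X
  obtain ⟨g, hg1, hg2⟩ := witt_herm σ hσ hσ2 B hS hB (finrank F V - finrank F (ULift.{uF} X))
    (ULift.{uF} X) f f' hf hf' (fun a b => (hφ (u a) (u b)).symm) (by omega)
  refine ⟨g, hg1, ?_⟩
  intro x
  have := hg2 (u.symm x)
  simpa [f, f'] using this

end

/-- Witt's Lemma for Hermitian forms. Let σ be a non-identity involutive automorphism of a finite field F and B a non-degenerate σ-sesquilinear form on a finite-dimensional F-space V which is conjugate-symmetric (σ (B x y) = B y x). Then every linear equivalence between subspaces X, Y of V preserving B extends to a B-preserving linear automorphism of V. -/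
theorem result {F V : Type*} [Field F] [Finite F] [AddCommGroup V] [Module F V] [FiniteDimensional F V] (σ : F →+* F) (hσ : σ ≠ RingHom.id F) (hσ2 : ∀ a : F, σ (σ a) = a) (B : V →ₛₗ[σ] V →ₗ[F] F) (hS : B.IsSymm) (hB : B.Nondegenerate) (X Y : Submodule F V) (φ : X ≃ₗ[F] Y) (hφ : ∀ x x' : X, B (φ x : V) (φ x' : V) = B (x : V) (x' : V)) : ∃ g : V ≃ₗ[F] V, (∀ u v : V, B (g u) (g v) = B u v) ∧ ∀ x : X, g (x : V) = (φ x : V) :=
  result' σ hσ hσ2 B hS hB X Y φ hφ

end Cfsg.Agent.S0751
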