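import Mathlib
import Cfsg.Statements.S1224
import Cfsg.Agent.Lib.Helper9.StronglyEmbedded

set_option autoImplicit false
open Cfsg

namespace Cfsg.Agent.S1224

open Cfsg.Agent.Lib.Helper9

theorem smul_mk_eq_iff {G : Type*} [Group G] (H : Subgroup G) (t a b : G) :
    (t • (QuotientGroup.mk a : G ⧸ H) = QuotientGroup.mk b) ↔ b⁻¹ * (t * a) ∈ H := by
  rw [MulAction.Quotient.smul_mk, smul_eq_mul, eq_comm, QuotientGroup.eq]

theorem orderOf_conj' {G : Type*} [Group G] (a i : G) : orderOf (a⁻¹ * i * a) = orderOf i := by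
  have := orderOf_conj_eq a⁻¹ i
  rwa [inv_inv] at this

/-- Let H be a strongly embedded subgroup of the finite group G and x ≠ y two cosets in G/H. Then the number of involutions i of G with i • x = y equals the number of involutions lying in H. -/
theorem result {G : Type*} [Group G] [Finite G] (H : Subgroup G) (hH : Cfsg.IsStronglyEmbedded H) (x y : G ⧸ H) (hxy : x ≠ y) : Nat.card {i : G // orderOf i = 2 ∧ i • x = y} = Nat.card {t : G // orderOf t = 2 ∧ t ∈ H} := by
  classical
  obtain ⟨m, hm⟩ : ∃ m, m = Nat.card {t : G // orderOf t = 2 ∧ t ∈ H} := ⟨_, rfl⟩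
  rw [← hm]
  have hfinQ : Fintype (G ⧸ H) := Fintype.ofFinite _
  let J : (G ⧸ H) → (G ⧸ H) → Type _ := fun x y => {i : G // orderOf i = 2 ∧ i • x = y}
  -- Claim A
  have hA : ∀ x, Nat.card (J x x) = m := by
    intro x
    induction x using QuotientGroup.induction_on with
    | H a =>
      rw [hm]
      refine Nat.card_congr
        { toFun := fun i => ⟨a⁻¹ * i.1 * a, by rw [orderOf_conj']; exact i.2.1, by
            have := (smul_mk_eq_iff H i.1 a a).mp i.2.2
            simpa [mul_assoc] using this⟩
          invFun := fun t => ⟨a * t.1 * a⁻¹, by rw [orderOf_conj_eq]; exact t.2.1, by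
            rw [smul_mk_eq_iff]
            have : a⁻¹ * (a * t.1 * a⁻¹ * a) = t.1 := by group
            rw [this]; exact t.2.2⟩
          left_inv := fun i => by
            apply Subtype.ext
            show a * (a⁻¹ * i.1 * a) * a⁻¹ = i.1
            group
          right_inv := fun t => by
            apply Subtype.ext
            show a⁻¹ * (a * t.1 * a⁻¹) * a = t.1
            group }
  -- Claim B
  have hB : ∀ x y, x ≠ y → m ≤ Nat.card (J x y) := by
    intro x y hxy
    induction x using QuotientGroup.induction_on with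
    | H a =>
    induction y using QuotientGroup.induction_on with
    | H b =>
      have hab : a⁻¹ * b ∉ H := fun h => hxy (QuotientGroup.eq.mpr h)
      obtain ⟨s₀, hs₀H, hs₀⟩ := exists_orderOf_two_of_even hH.2.1
      have hs : orderOf (a * s₀ * a⁻¹) = 2 := by rw [orderOf_conj_eq]; exact hs₀
      have hsa : a * s₀ * a⁻¹ ∈ H.map (MulAut.conj a).toMonoidHom := conj_mem_conjMap hs₀H
      have key : ∀ t : {t : G // orderOf t = 2 ∧ t ∈ H}, ∃ μ : J (QuotientGroup.mk a) (QuotientGroup.mk b),
          μ.1 * (a * s₀ * a⁻¹) * μ.1⁻¹ = b * t.1 * b⁻¹ := by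
        intro t
        have hv : orderOf (b * t.1 * b⁻¹) = 2 := by rw [orderOf_conj_eq]; exact t.2.1
        have hvb : b * t.1 * b⁻¹ ∈ H.map (MulAut.conj b).toMonoidHom := conj_mem_conjMap t.2.2
        obtain ⟨μ, hμ2, hμ, hμ1, hμ2'⟩ := se_exists_swap hH hs hv hsa hvb hab
        have hμab : μ • (QuotientGroup.mk a : G ⧸ H) = QuotientGroup.mk b := by
          rw [smul_mk_eq_iff]; exact hμ1
        have hμ1' : μ ≠ 1 := by
          rintro rfl
          rw [one_smul] at hμab
          exact hxy hμab
        exact ⟨⟨μ, orderOf_two_of_sq hμ2 hμ1', hμab⟩, hμ⟩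
      choose φ hφ using key
      rw [hm]
      apply Nat.card_le_card_of_injective φ
      intro t t' htt'
      have h1 := hφ t
      have h2 := hφ t'
      rw [htt'] at h1
      have h3 : b * t.1 * b⁻¹ = b * t'.1 * b⁻¹ := h1.symm.trans h2
      apply Subtype.ext
      have h4 := mul_left_cancel (mul_right_cancel h3)
      exact h4
  -- Claim C
  have hC : ∀ x, Nat.card {i : G // orderOf i = 2} = ∑ y, Nat.card (J x y) := by
    intro x
    rw [← Nat.card_sigma]
    exact Nat.card_congr
      { toFun := fun i => ⟨i.1 • x, ⟨i.1, i.2, rfl⟩⟩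
        invFun := fun p => ⟨p.2.1, p.2.2.1⟩
        left_inv := fun i => rfl
        right_inv := by
          rintro ⟨y, ⟨i, hi, rfl⟩⟩
          rfl }
  -- Claim D
  have hfix : ∀ i : G, orderOf i = 2 → ∃ z : G ⧸ H, i • z = z := by
    intro i hi
    obtain ⟨a, ha⟩ := se_exists_conj_mem hH hi
    refine ⟨QuotientGroup.mk a, ?_⟩
    rw [smul_mk_eq_iff]
    rw [mem_conjMap] at ha
    simpa [mul_assoc] using ha
  have huniq : ∀ i : G, orderOf i = 2 → ∀ z w : G ⧸ H, i • z = z → i • w = w → z = w := by
    intro i hi z w hz hw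
    induction z using QuotientGroup.induction_on with
    | H a =>
    induction w using QuotientGroup.induction_on with
    | H b =>
      rw [smul_mk_eq_iff] at hz hw
      rw [QuotientGroup.eq]
      exact se_conj_unique hH hi (mem_conjMap.mpr (by simpa [mul_assoc] using hz))
        (mem_conjMap.mpr (by simpa [mul_assoc] using hw))
  have hD : Nat.card {i : G // orderOf i = 2} = ∑ x, Nat.card (J x x) := by
    rw [← Nat.card_sigma]
    exact Nat.card_congr
      { toFun := fun i => ⟨Classical.choose (hfix i.1 i.2), ⟨i.1, i.2, Classical.choose_spec (hfix i.1 i.2)⟩⟩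
        invFun := fun p => ⟨p.2.1, p.2.2.1⟩
        left_inv := fun i => rfl
        right_inv := by
          rintro ⟨z, ⟨i, hi, hz⟩⟩
          have h1 : Classical.choose (hfix i hi) = z :=
            huniq i hi _ _ (Classical.choose_spec (hfix i hi)) hz
          subst h1
          rfl }
  have hsum : ∑ y, Nat.card (J x y) = ∑ y : G ⧸ H, m := by
    rw [← hC x, hD]; exact Finset.sum_congr rfl (fun z _ => hA z)
  have hle : ∀ y ∈ (Finset.univ : Finset (G ⧸ H)), m ≤ Nat.card (J x y) := fun y _ => by
    by_cases h : x = y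
    · subst h; exact (hA x).ge
    · exact hB x y h
  have := (Finset.sum_eq_sum_iff_of_le hle).mp hsum.symm y (Finset.mem_univ y)
  exact this.symm

end Cfsg.Agent.S1224
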