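import Cfsg.Statements.S5423
import Cfsg.Agent.Lib.Helper16.PCore
import Mathlib

set_option autoImplicit false
open Cfsg

namespace Cfsg.Agent.S5423

section TypeLevel

open scoped commutatorElement

variable {A : Type*} [Group A]

theorem comm4 (hc : ∀ a b : A, a * b = b * a) (a b c d : A) :
    a * b * (c * d) = a * c * (b * d) := by
  rw [mul_assoc, ← mul_assoc b c d, hc b c, mul_assoc c b d, ← mul_assoc]

theorem comm_of_sq (h2 : ∀ a : A, a * a = 1) (a b : A) : a * b = b * a := by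
  have hinv : ∀ x : A, x⁻¹ = x := fun x => inv_eq_of_mul_eq_one_right (h2 x)
  calc a * b = (a * b)⁻¹ := (hinv _).symm
    _ = b⁻¹ * a⁻¹ := mul_inv_rev a b
    _ = b * a := by rw [hinv, hinv]

theorem commutator_central (h₁ h₂ ζ₁ ζ₂ : A) (hζ₁ : ∀ g, g * ζ₁ = ζ₁ * g)
    (hζ₂ : ∀ g, g * ζ₂ = ζ₂ * g) : ⁅h₁ * ζ₁, h₂ * ζ₂⁆ = ⁅h₁, h₂⁆ := by
  rw [commutatorElement_def, commutatorElement_def]
  have e1 : ζ₁ * (h₂ * ζ₂) = (h₂ * ζ₂) * ζ₁ := (hζ₁ _).symm
  have e2 : ζ₂ * h₁⁻¹ = h₁⁻¹ * ζ₂ := (hζ₂ _).symm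
  calc h₁ * ζ₁ * (h₂ * ζ₂) * (h₁ * ζ₁)⁻¹ * (h₂ * ζ₂)⁻¹
      = h₁ * (ζ₁ * (h₂ * ζ₂)) * ζ₁⁻¹ * h₁⁻¹ * ζ₂⁻¹ * h₂⁻¹ := by group
    _ = h₁ * ((h₂ * ζ₂) * ζ₁) * ζ₁⁻¹ * h₁⁻¹ * ζ₂⁻¹ * h₂⁻¹ := by rw [e1]
    _ = h₁ * h₂ * (ζ₂ * h₁⁻¹) * ζ₂⁻¹ * h₂⁻¹ := by group
    _ = h₁ * h₂ * (h₁⁻¹ * ζ₂) * ζ₂⁻¹ * h₂⁻¹ := by rw [e2]
    _ = h₁ * h₂ * h₁⁻¹ * h₂⁻¹ := by group

/-- the subgroup `{1, w}` -/
def pairSub (w : A) (hw : w * w = 1) : Subgroup A where
  carrier := {x | x = 1 ∨ x = w}
  one_mem' := Or.inl rfl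
  mul_mem' := by
    intro a b ha hb
    rcases ha with rfl | rfl <;> rcases hb with rfl | rfl
    · left; exact mul_one 1
    · right; exact one_mul _
    · right; exact mul_one _
    · left; exact hw
  inv_mem' := by
    intro a ha
    rcases ha with rfl | rfl
    · left; exact inv_one
    · right; exact inv_eq_of_mul_eq_one_right hw

theorem mem_pairSub {w : A} {hw : w * w = 1} {x : A} : x ∈ pairSub w hw ↔ x = 1 ∨ x = w :=
  Iff.rfl

/-- separation by an index-two subgroup -/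
theorem exists_sep [Finite A] (hc : ∀ a b : A, a * b = b * a) (h2 : ∀ a : A, a * a = 1)
    (S : Subgroup A) (u : A) (hu : u ∉ S) :
    ∃ H : Subgroup A, S ≤ H ∧ u ∉ H ∧ ∀ x y, x ∉ H → y ∉ H → x * y ∈ H := by
  letI : CommGroup A := { (inferInstance : Group A) with mul_comm := hc }
  letI : Module (ZMod 2) (Additive A) := AddCommGroup.zmodModule (n := 2) (fun x => by
    show Additive.ofMul ((Additive.toMul x) ^ 2) = 0
    rw [pow_two, h2]; rfl)
  let S' : Submodule (ZMod 2) (Additive A) :=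
    AddSubgroup.toZModSubmodule 2 (Subgroup.toAddSubgroup S)
  have hu' : Additive.ofMul u ∉ S' := fun h => hu h
  obtain ⟨f, hfu, hSf⟩ := Submodule.exists_le_ker_of_notMem hu'
  have h01 : ∀ c : ZMod 2, c = 0 ∨ c = 1 := by decide
  refine ⟨{ carrier := {x | f (Additive.ofMul x) = 0}
            one_mem' := map_zero f
            mul_mem' := fun {a b} ha hb => by
              show f (Additive.ofMul a + Additive.ofMul b) = 0
              rw [map_add, ha, hb, add_zero]
            inv_mem' := fun {a} ha => by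
              show f (- Additive.ofMul a) = 0
              rw [map_neg, ha, neg_zero] }, ?_, ?_, ?_⟩
  · intro s hs
    have hs' : Additive.ofMul s ∈ S' := hs
    exact LinearMap.mem_ker.mp (hSf hs')
  · exact hfu
  · intro x y hx hy
    have hx1 : f (Additive.ofMul x) = 1 := (h01 _).resolve_left hx
    have hy1 : f (Additive.ofMul y) = 1 := (h01 _).resolve_left hy
    show f (Additive.ofMul x + Additive.ofMul y) = 0
    rw [map_add, hx1, hy1]; decide

/-- transvection-type automorphism -/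
theorem exists_transv (hc : ∀ a b : A, a * b = b * a) (h2 : ∀ a : A, a * a = 1)
    (H : Subgroup A) (hH : ∀ x y, x ∉ H → y ∉ H → x * y ∈ H) (w : A) (hw : w ∈ H) :
    ∃ T : MulAut A, (∀ x, x ∈ H → T x = x) ∧ (∀ x, x ∉ H → T x = x * w) := by
  classical
  have hxw : ∀ x, x ∉ H → x * w ∉ H := fun x hx h => hx (by
    have := H.mul_mem h (H.inv_mem hw)
    rwa [mul_inv_cancel_right] at this)
  let f : A → A := fun x => if x ∈ H then x else x * w
  have hf1 : ∀ x, x ∈ H → f x = x := fun x hx => if_pos hx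
  have hf2 : ∀ x, x ∉ H → f x = x * w := fun x hx => if_neg hx
  have hinv : ∀ x, f (f x) = x := by
    intro x
    by_cases hx : x ∈ H
    · rw [hf1 x hx, hf1 x hx]
    · rw [hf2 x hx, hf2 _ (hxw x hx), mul_assoc, h2 w, mul_one]
  have hmul : ∀ x y, f (x * y) = f x * f y := by
    intro x y
    by_cases hx : x ∈ H <;> by_cases hy : y ∈ H
    · rw [hf1 x hx, hf1 y hy, hf1 _ (H.mul_mem hx hy)]
    · have hxy : x * y ∉ H := fun h => hy (by
        have := H.mul_mem (H.inv_mem hx) h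
        rwa [inv_mul_cancel_left] at this)
      rw [hf1 x hx, hf2 y hy, hf2 _ hxy, mul_assoc]
    · have hxy : x * y ∉ H := fun h => hx (by
        have := H.mul_mem h (H.inv_mem hy)
        rwa [mul_inv_cancel_right] at this)
      rw [hf2 x hx, hf1 y hy, hf2 _ hxy, mul_assoc x y w, mul_assoc x w y, hc y w]
    · rw [hf2 x hx, hf2 y hy, hf1 _ (hH x y hx hy), comm4 hc x w y w, h2 w, mul_one]
  exact ⟨{ toFun := f, invFun := f, left_inv := hinv, right_inv := hinv, map_mul' := hmul },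
    hf1, hf2⟩

/-- the homomorphism `A → {1, z}` with kernel `H` -/
theorem exists_lam (h2 : ∀ a : A, a * a = 1) (H : Subgroup A)
    (hH : ∀ x y, x ∉ H → y ∉ H → x * y ∈ H) (z : A) :
    ∃ lam : A →* A, (∀ x, x ∈ H → lam x = 1) ∧ (∀ x, x ∉ H → lam x = z) := by
  classical
  let f : A → A := fun x => if x ∈ H then 1 else z
  have hf1 : ∀ x, x ∈ H → f x = 1 := fun x hx => if_pos hx
  have hf2 : ∀ x, x ∉ H → f x = z := fun x hx => if_neg hx
  have hmul : ∀ x y, f (x * y) = f x * f y := by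
    intro x y
    by_cases hx : x ∈ H <;> by_cases hy : y ∈ H
    · rw [hf1 x hx, hf1 y hy, hf1 _ (H.mul_mem hx hy), mul_one]
    · have hxy : x * y ∉ H := fun h => hy (by
        have := H.mul_mem (H.inv_mem hx) h
        rwa [inv_mul_cancel_left] at this)
      rw [hf1 x hx, hf2 y hy, hf2 _ hxy, one_mul]
    · have hxy : x * y ∉ H := fun h => hx (by
        have := H.mul_mem h (H.inv_mem hy)
        rwa [mul_inv_cancel_right] at this)
      rw [hf2 x hx, hf1 y hy, hf2 _ hxy, mul_one]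
    · rw [hf2 x hx, hf2 y hy, hf1 _ (hH x y hx hy), h2 z]
  exact ⟨{ toFun := f, map_one' := hf1 1 H.one_mem, map_mul' := hmul }, hf1, hf2⟩

theorem iff_of_forward (H : Subgroup A) (hH : ∀ x y, x ∉ H → y ∉ H → x * y ∈ H) (z : A)
    (hzH : z ∉ H) (ψ : MulAut A) (hψz : ψ z = z) (hf : ∀ x, x ∈ H → ψ x ∈ H) :
    ∀ x, x ∈ H ↔ ψ x ∈ H := by
  intro x
  refine ⟨hf x, fun hx => ?_⟩
  by_contra hxH
  have h1 : z * x ∈ H := hH z x hzH hxH
  have h3 : ψ (z * x) ∈ H := hf _ h1
  rw [map_mul, hψz] at h3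
  apply hzH
  have := H.mul_mem h3 (H.inv_mem hx)
  rwa [mul_inv_cancel_right] at this

theorem ext_of_H (h2 : ∀ a : A, a * a = 1) (H : Subgroup A)
    (hH : ∀ x y, x ∉ H → y ∉ H → x * y ∈ H) (z : A) (hzH : z ∉ H) (φ ψ : MulAut A)
    (hz : φ z = ψ z) (hHeq : ∀ y, y ∈ H → φ y = ψ y) : φ = ψ := by
  apply MulEquiv.ext
  intro x
  by_cases hx : x ∈ H
  · exact hHeq x hx
  · have h1 : z * x ∈ H := hH z x hzH hx
    have hx' : x = z * (z * x) := by rw [← mul_assoc, h2 z, one_mul]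
    calc φ x = φ (z * (z * x)) := by rw [← hx']
      _ = φ z * φ (z * x) := map_mul φ _ _
      _ = ψ z * ψ (z * x) := by rw [hz, hHeq _ h1]
      _ = ψ (z * (z * x)) := (map_mul ψ _ _).symm
      _ = ψ x := by rw [← hx']

/-- automorphisms acting trivially modulo `z` -/
def subW (z : A) (hz : z * z = 1) : Subgroup (MulAut A) where
  carrier := {φ | φ z = z ∧ ∀ x, φ x = x ∨ φ x = x * z}
  one_mem' := ⟨rfl, fun _ => Or.inl rfl⟩
  mul_mem' := by
    rintro φ ψ ⟨hφz, hφ⟩ ⟨hψz, hψ⟩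
    refine ⟨by rw [MulAut.mul_apply, hψz, hφz], fun x => ?_⟩
    rw [MulAut.mul_apply]
    rcases hψ x with h | h
    · rw [h]; exact hφ x
    · rw [h, map_mul, hφz]
      rcases hφ x with h' | h'
      · right; rw [h']
      · left; rw [h', mul_assoc, hz, mul_one]
  inv_mem' := by
    rintro φ ⟨hφz, hφ⟩
    have hz' : φ⁻¹ z = z := by
      have := congrArg (⇑(φ⁻¹)) hφz
      rw [MulAut.inv_apply_self] at this
      exact this.symm
    refine ⟨hz', fun x => ?_⟩
    rcases hφ (φ⁻¹ x) with h | h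
    · left
      rw [MulAut.apply_inv_self] at h
      exact h.symm
    · right
      rw [MulAut.apply_inv_self] at h
      calc φ⁻¹ x = φ⁻¹ x * (z * z) := by rw [hz, mul_one]
        _ = (φ⁻¹ x * z) * z := (mul_assoc _ _ _).symm
        _ = x * z := by rw [← h]

theorem mem_subW {z : A} {hz : z * z = 1} {φ : MulAut A} :
    φ ∈ subW z hz ↔ φ z = z ∧ ∀ x, φ x = x ∨ φ x = x * z := Iff.rfl

/-- automorphisms fixing `z` and stabilizing `H` -/
def subK (z : A) (H : Subgroup A) : Subgroup (MulAut A) where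
  carrier := {φ | φ z = z ∧ ∀ x, x ∈ H ↔ φ x ∈ H}
  one_mem' := ⟨rfl, fun _ => Iff.rfl⟩
  mul_mem' := by
    rintro φ ψ ⟨hφz, hφ⟩ ⟨hψz, hψ⟩
    refine ⟨by rw [MulAut.mul_apply, hψz, hφz], fun x => ?_⟩
    rw [MulAut.mul_apply]
    exact (hψ x).trans (hφ (ψ x))
  inv_mem' := by
    rintro φ ⟨hφz, hφ⟩
    refine ⟨?_, fun x => ?_⟩
    · have := congrArg (⇑(φ⁻¹)) hφz
      rw [MulAut.inv_apply_self] at this
      exact this.symm
    · have := hφ (φ⁻¹ x)
      rw [MulAut.apply_inv_self] at this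
      exact this.symm

theorem mem_subK {z : A} {H : Subgroup A} {φ : MulAut A} :
    φ ∈ subK z H ↔ φ z = z ∧ ∀ x, x ∈ H ↔ φ x ∈ H := Iff.rfl

theorem conj_mem_subW (z : A) (hz : z * z = 1) (φ τ : MulAut A) (hφ : φ z = z)
    (hτ : τ ∈ subW z hz) : φ * τ * φ⁻¹ ∈ subW z hz := by
  obtain ⟨hτz, hτ'⟩ := mem_subW.mp hτ
  have hφi : φ⁻¹ z = z := by
    have := congrArg (⇑(φ⁻¹)) hφ
    rw [MulAut.inv_apply_self] at this
    exact this.symm
  refine mem_subW.mpr ⟨?_, fun x => ?_⟩
  · rw [MulAut.mul_apply, MulAut.mul_apply, hφi, hτz, hφ]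
  · rw [MulAut.mul_apply, MulAut.mul_apply]
    rcases hτ' (φ⁻¹ x) with h | h
    · left; rw [h, MulAut.apply_inv_self]
    · right; rw [h, map_mul, MulAut.apply_inv_self, hφ]

theorem subW_mul_self (z : A) (hz : z * z = 1) (τ : MulAut A) (hτ : τ ∈ subW z hz) :
    τ * τ = 1 := by
  obtain ⟨hτz, hτ'⟩ := mem_subW.mp hτ
  apply MulEquiv.ext
  intro x
  rw [MulAut.mul_apply, MulAut.one_apply]
  rcases hτ' x with h | h
  · rw [h, h]
  · rw [h, map_mul, h, hτz, mul_assoc, hz, mul_one]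

theorem subW_inf_subK (h2 : ∀ a : A, a * a = 1) (H : Subgroup A)
    (hH : ∀ x y, x ∉ H → y ∉ H → x * y ∈ H) (z : A) (hzH : z ∉ H) (φ : MulAut A)
    (hW : φ ∈ subW z (h2 z)) (hK : φ ∈ subK z H) : φ = 1 := by
  obtain ⟨hWz, hW'⟩ := mem_subW.mp hW
  obtain ⟨-, hK'⟩ := mem_subK.mp hK
  apply ext_of_H h2 H hH z hzH φ 1 (by rw [MulAut.one_apply]; exact hWz)
  intro y hy
  rw [MulAut.one_apply]
  rcases hW' y with h | h
  · exact h
  · exfalso
    have h3 : φ y ∈ H := (hK' y).mp hy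
    rw [h] at h3
    apply hzH
    have := H.mul_mem (H.inv_mem hy) h3
    rwa [inv_mul_cancel_left] at this

theorem exists_W_moving [Finite A] (hc : ∀ a b : A, a * b = b * a) (h2 : ∀ a : A, a * a = 1)
    (z x : A) (hx1 : x ≠ 1) (hxz : x ≠ z) : ∃ τ ∈ subW z (h2 z), τ x = x * z := by
  have hxS : x ∉ pairSub z (h2 z) := by
    intro h
    rcases mem_pairSub.mp h with h | h
    · exact hx1 h
    · exact hxz h
  obtain ⟨H', hSH, hxH, hH'⟩ := exists_sep hc h2 _ x hxS
  have hzH' : z ∈ H' := hSH (mem_pairSub.mpr (Or.inr rfl))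
  obtain ⟨T, hT1, hT2⟩ := exists_transv hc h2 H' hH' z hzH'
  refine ⟨T, mem_subW.mpr ⟨hT1 z hzH', fun y => ?_⟩, hT2 x hxH⟩
  by_cases hy : y ∈ H'
  · exact Or.inl (hT1 y hy)
  · exact Or.inr (hT2 y hy)

theorem exists_aut_map [Finite A] (hc : ∀ a b : A, a * b = b * a) (h2 : ∀ a : A, a * a = 1)
    (b a : A) (hb : b ≠ 1) (ha : a ≠ 1) : ∃ σ : MulAut A, σ b = a := by
  by_cases hab : a = b
  · exact ⟨1, by rw [hab]; rfl⟩
  · have hw : (a * b) * (a * b) = 1 := h2 _
    have hbS : b ∉ pairSub (a * b) hw := by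
      intro h
      rcases mem_pairSub.mp h with h | h
      · exact hb h
      · apply ha
        have h' : 1 * b = a * b := by rw [one_mul]; exact h
        exact (mul_right_cancel h').symm
    obtain ⟨H, hSH, hbH, hH⟩ := exists_sep hc h2 (pairSub (a * b) hw) b hbS
    have hwH : a * b ∈ H := hSH (mem_pairSub.mpr (Or.inr rfl))
    obtain ⟨T, -, hT2⟩ := exists_transv hc h2 H hH (a * b) hwH
    refine ⟨T, ?_⟩
    rw [hT2 b hbH, hc a b, ← mul_assoc, h2 b, one_mul]

/-- `O_2(Aut A) = 1` for an elementary abelian 2-group -/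
theorem mulAut_normal_two_subgroup_trivial [Finite A] (hc : ∀ a b : A, a * b = b * a)
    (h2 : ∀ a : A, a * a = 1) (N : Subgroup (MulAut A)) (hN : N.Normal) (hp : IsPGroup 2 N) :
    N = ⊥ := by
  classical
  rw [eq_bot_iff]
  intro ν hν
  rw [Subgroup.mem_bot]
  by_cases htriv : ∀ a : A, a = 1
  · apply MulEquiv.ext
    intro x
    rw [htriv x, map_one, map_one]
  · push Not at htriv
    obtain ⟨a₀, ha₀⟩ := htriv
    have h2dvd : 2 ∣ Nat.card A := by
      have ho : orderOf a₀ = 2 := orderOf_eq_prime (by rw [pow_two]; exact h2 a₀) ha₀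
      rw [← ho]; exact orderOf_dvd_natCard a₀
    have hfix1 : (1 : A) ∈ MulAction.fixedPoints N A := by
      intro n
      show (n : MulAut A) (1 : A) = 1
      exact map_one _
    obtain ⟨b, hbfix, hb1⟩ :=
      hp.exists_fixed_point_of_prime_dvd_card_of_fixed_point A h2dvd hfix1
    have hbfix' : ∀ μ ∈ N, μ b = b := fun μ hμ => hbfix ⟨μ, hμ⟩
    apply MulEquiv.ext
    intro a
    rw [MulAut.one_apply]
    by_cases ha : a = 1
    · rw [ha, map_one]
    · obtain ⟨σ, hσ⟩ := exists_aut_map hc h2 b a (Ne.symm hb1) ha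
      have hconj : σ⁻¹ * ν * σ ∈ N := by
        have := hN.conj_mem ν hν σ⁻¹
        rwa [inv_inv] at this
      have h3 := hbfix' _ hconj
      rw [MulAut.mul_apply, MulAut.mul_apply, hσ] at h3
      have h4 := congrArg (⇑σ) h3
      rw [MulAut.apply_inv_self, hσ] at h4
      exact h4

/-- every `φ` fixing `z` is in `W * K` -/
theorem exists_W_into_K (hc : ∀ a b : A, a * b = b * a) (h2 : ∀ a : A, a * a = 1)
    (H : Subgroup A) (hH : ∀ x y, x ∉ H → y ∉ H → x * y ∈ H) (z : A) (hz1 : z ≠ 1)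
    (hzH : z ∉ H) (φ : MulAut A) (hφ : φ z = z) :
    ∃ τ ∈ subW z (h2 z), φ * τ ∈ subK z H := by
  classical
  obtain ⟨lam, hl1, hl2⟩ := exists_lam h2 H hH z
  have hlam_vals : ∀ x, lam x = 1 ∨ lam x = z := fun x => by
    by_cases hx : x ∈ H
    · exact Or.inl (hl1 x hx)
    · exact Or.inr (hl2 x hx)
  have hlam_iff : ∀ x, lam x = 1 ↔ x ∈ H := fun x => by
    constructor
    · intro h
      by_contra hx
      rw [hl2 x hx] at h
      exact hz1 h
    · exact hl1 x
  let H' : Subgroup A := lam.eqLocus (lam.comp φ.toMonoidHom)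
  have hH'mem : ∀ x, x ∈ H' ↔ lam x = lam (φ x) := fun x => Iff.rfl
  have hzH' : z ∈ H' := by
    rw [hH'mem, hφ]
  have hnot : ∀ x, x ∉ H' → lam (φ x) = lam x * z := by
    intro x hx
    rw [hH'mem] at hx
    rcases hlam_vals x with h | h <;> rcases hlam_vals (φ x) with h' | h'
    · exact absurd (h.trans h'.symm) hx
    · rw [h, h', one_mul]
    · rw [h, h', h2 z]
    · exact absurd (h.trans h'.symm) hx
  have hH' : ∀ x y, x ∉ H' → y ∉ H' → x * y ∈ H' := by
    intro x y hx hy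
    rw [hH'mem, map_mul φ x y, map_mul lam x y, map_mul lam (φ x) (φ y), hnot x hx, hnot y hy,
      comm4 hc (lam x) z (lam y) z, h2 z, mul_one]
  obtain ⟨T, hT1, hT2⟩ := exists_transv hc h2 H' hH' z hzH'
  have hTz : T z = z := hT1 z hzH'
  have hTW : T ∈ subW z (h2 z) := mem_subW.mpr ⟨hTz, fun x => by
    by_cases hx : x ∈ H'
    · exact Or.inl (hT1 x hx)
    · exact Or.inr (hT2 x hx)⟩
  refine ⟨T, hTW, ?_⟩
  have hφTz : (φ * T) z = z := by rw [MulAut.mul_apply, hTz, hφ]
  refine mem_subK.mpr ⟨hφTz, iff_of_forward H hH z hzH (φ * T) hφTz ?_⟩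
  intro x hx
  rw [MulAut.mul_apply, ← hlam_iff]
  by_cases hx' : x ∈ H'
  · rw [hT1 x hx', ← (hH'mem x).mp hx']
    exact hl1 x hx
  · rw [hT2 x hx', map_mul φ x z, map_mul lam (φ x) (φ z), hφ, hnot x hx', hl1 x hx, one_mul,
      hl2 z hzH, h2 z]

/-- restriction to `H` -/
def resK (z : A) (H : Subgroup A) : ↥(subK z H) →* MulAut ↥H where
  toFun φ :=
    { toFun := fun x => ⟨φ.1 x, ((mem_subK.mp φ.2).2 x).mp x.2⟩
      invFun := fun x => ⟨φ.1⁻¹ x, ((mem_subK.mp φ.2).2 (φ.1⁻¹ x)).mpr (by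
        rw [MulAut.apply_inv_self]; exact x.2)⟩
      left_inv := fun x => Subtype.ext (MulAut.inv_apply_self _ _ _)
      right_inv := fun x => Subtype.ext (MulAut.apply_inv_self _ _ _)
      map_mul' := fun x y => Subtype.ext (map_mul φ.1 _ _) }
  map_one' := by
    apply MulEquiv.ext
    intro x
    rfl
  map_mul' := by
    intro φ ψ
    apply MulEquiv.ext
    intro x
    rfl

theorem resK_apply (z : A) (H : Subgroup A) (φ : ↥(subK z H)) (x : ↥H) :
    ((resK z H φ x : ↥H) : A) = φ.1 x := rfl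

/-- extension of an automorphism of `H` -/
theorem exists_ext_aut (hc : ∀ a b : A, a * b = b * a) (h2 : ∀ a : A, a * a = 1)
    (H : Subgroup A) (hH : ∀ x y, x ∉ H → y ∉ H → x * y ∈ H) (z : A) (hzH : z ∉ H)
    (α : ↥H ≃* ↥H) :
    ∃ φ : MulAut A, φ z = z ∧ (∀ x, x ∈ H ↔ φ x ∈ H) ∧ ∀ x (hx : x ∈ H), φ x = α ⟨x, hx⟩ := by
  classical
  obtain ⟨lam, hl1, hl2⟩ := exists_lam h2 H hH z
  have hπ : ∀ x, lam x * x ∈ H := by
    intro x
    by_cases hx : x ∈ H
    · rw [hl1 x hx, one_mul]; exact hx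
    · rw [hl2 x hx]; exact hH z x hzH hx
  have hll : ∀ x, lam x * lam x = 1 := fun x => h2 _
  have hlamlam : ∀ x, lam (lam x) = lam x := by
    intro x
    by_cases hx : x ∈ H
    · rw [hl1 x hx, map_one]
    · rw [hl2 x hx, hl2 z hzH]
  let pr : A → ↥H := fun x => ⟨lam x * x, hπ x⟩
  have hpr_val : ∀ x, ((pr x : ↥H) : A) = lam x * x := fun x => rfl
  have hpr_mul : ∀ x y, pr (x * y) = pr x * pr y := by
    intro x y
    apply Subtype.ext
    show lam (x * y) * (x * y) = (lam x * x) * (lam y * y)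
    rw [map_mul lam x y, comm4 hc]
  let f : (↥H ≃* ↥H) → A → A := fun β x => lam x * (β (pr x) : A)
  have hf_def : ∀ β x, f β x = lam x * (β (pr x) : A) := fun β x => rfl
  have hf_mul : ∀ β x y, f β (x * y) = f β x * f β y := by
    intro β x y
    rw [hf_def, hf_def, hf_def, hpr_mul x y, map_mul β (pr x) (pr y), map_mul lam x y,
      Subgroup.coe_mul, comm4 hc]
  have hf_lam : ∀ β x, lam (f β x) = lam x := by
    intro β x
    rw [hf_def, map_mul lam, hlamlam, hl1 _ (β (pr x)).2, mul_one]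
  have hf_pr : ∀ β x, pr (f β x) = β (pr x) := by
    intro β x
    apply Subtype.ext
    rw [hpr_val, hf_lam, hf_def, ← mul_assoc, hll, one_mul]
  have hf_comp : ∀ β γ x, f γ (f β x) = lam x * (γ (β (pr x)) : A) := by
    intro β γ x
    rw [hf_def γ (f β x), hf_lam, hf_pr]
  have hinv : ∀ (β : ↥H ≃* ↥H) x, f β.symm (f β x) = x := by
    intro β x
    rw [hf_comp, MulEquiv.symm_apply_apply, hpr_val, ← mul_assoc, hll, one_mul]
  have hinv' : ∀ (β : ↥H ≃* ↥H) x, f β (f β.symm x) = x := by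
    intro β x
    have := hinv β.symm x
    rwa [MulEquiv.symm_symm] at this
  let φ : MulAut A :=
    { toFun := f α, invFun := f α.symm, left_inv := hinv α, right_inv := hinv' α,
      map_mul' := hf_mul α }
  have hφ_def : ∀ x, φ x = lam x * (α (pr x) : A) := fun x => rfl
  have hφz : φ z = z := by
    have hprz : pr z = 1 := Subtype.ext (by
      show lam z * z = 1
      rw [hl2 z hzH]; exact h2 z)
    rw [hφ_def, hprz, map_one, Subgroup.coe_one, mul_one, hl2 z hzH]
  have hφH : ∀ x (hx : x ∈ H), φ x = α ⟨x, hx⟩ := by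
    intro x hx
    have hprx : pr x = ⟨x, hx⟩ := Subtype.ext (by
      show lam x * x = x
      rw [hl1 x hx, one_mul])
    rw [hφ_def, hprx, hl1 x hx, one_mul]
  refine ⟨φ, hφz, iff_of_forward H hH z hzH φ hφz ?_, hφH⟩
  intro x hx
  rw [hφH x hx]
  exact (α ⟨x, hx⟩).2

theorem resK_bijective (hc : ∀ a b : A, a * b = b * a) (h2 : ∀ a : A, a * a = 1)
    (H : Subgroup A) (hH : ∀ x y, x ∉ H → y ∉ H → x * y ∈ H) (z : A) (hzH : z ∉ H) :
    Function.Bijective (resK z H) := by
  constructor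
  · intro φ ψ h
    apply Subtype.ext
    apply ext_of_H h2 H hH z hzH φ.1 ψ.1
    · rw [(mem_subK.mp φ.2).1, (mem_subK.mp ψ.2).1]
    · intro y hy
      have h1 : ((resK z H φ ⟨y, hy⟩ : ↥H) : A) = ((resK z H ψ ⟨y, hy⟩ : ↥H) : A) := by rw [h]
      exact h1
  · intro α
    obtain ⟨φ, hφz, hφH, hφα⟩ := exists_ext_aut hc h2 H hH z hzH α
    refine ⟨⟨φ, mem_subK.mpr ⟨hφz, hφH⟩⟩, ?_⟩
    apply MulEquiv.ext
    intro x
    apply Subtype.ext
    rw [resK_apply]
    exact hφα x.1 x.2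

/-- the number of automorphisms trivial modulo `z` -/
theorem card_subW [Finite A] (hc : ∀ a b : A, a * b = b * a) (h2 : ∀ a : A, a * a = 1) (n : ℕ)
    (hcard : Nat.card A = 2 ^ (n + 1)) (z : A) (hz1 : z ≠ 1) :
    Nat.card ↥(subW z (h2 z)) = 2 ^ n := by
  classical
  letI : CommGroup A := { (inferInstance : Group A) with mul_comm := hc }
  letI : Module (ZMod 2) (Additive A) := AddCommGroup.zmodModule (n := 2) (fun x => by
    show Additive.ofMul ((Additive.toMul x) ^ 2) = 0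
    rw [pow_two, h2]; rfl)
  haveI hfin : Finite (Additive A) := inferInstanceAs (Finite A)
  haveI hmf : Module.Finite (ZMod 2) (Additive A) := Module.Finite.of_finite
  have hrank : Module.finrank (ZMod 2) (Additive A) = n + 1 := by
    have h1 := Module.natCard_eq_pow_finrank (K := ZMod 2) (V := Additive A)
    have h2' : Nat.card (Additive A) = 2 ^ (n + 1) := hcard
    rw [h2', Nat.card_zmod] at h1
    exact (Nat.pow_right_injective (le_refl 2) h1).symm
  have h01 : ∀ c : ZMod 2, c = 0 ∨ c = 1 := by decide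
  have hz' : (Additive.ofMul z : Additive A) ≠ 0 := fun h => hz1 (congrArg Additive.toMul h)
  obtain ⟨f₁, hf₁, -⟩ := Submodule.exists_le_ker_of_notMem
    (p := (⊥ : Submodule (ZMod 2) (Additive A))) (v := Additive.ofMul z) (by
      rw [Submodule.mem_bot]; exact hz')
  have hf₁z : f₁ (Additive.ofMul z) = 1 := (h01 _).resolve_left hf₁
  let ev : Module.Dual (ZMod 2) (Additive A) →ₗ[ZMod 2] ZMod 2 :=
    Module.Dual.eval (ZMod 2) (Additive A) (Additive.ofMul z)
  have hev : ∀ g, ev g = g (Additive.ofMul z) := fun g => rfl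
  let toLin : MulAut A → (Additive A →ₗ[ZMod 2] Additive A) :=
    fun φ => (MonoidHom.toAdditive φ.toMonoidHom).toZModLinearMap 2
  have htoLin : ∀ (φ : MulAut A) (x : A),
      toLin φ (Additive.ofMul x) = Additive.ofMul (φ x) := fun φ x => rfl
  have hkey : ∀ (φ : MulAut A), φ ∈ subW z (h2 z) → ∀ x : A,
      toLin φ (Additive.ofMul x) - Additive.ofMul x
        = (f₁ (toLin φ (Additive.ofMul x) - Additive.ofMul x)) •
          (Additive.ofMul z : Additive A) := by
    intro φ hφ x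
    rcases (mem_subW.mp hφ).2 x with h | h
    · rw [htoLin, h, sub_self, map_zero, zero_smul]
    · have h' : Additive.ofMul (φ x) = Additive.ofMul x + Additive.ofMul z := by rw [h]; rfl
      rw [htoLin, h', add_sub_cancel_left, hf₁z, one_smul]
  let F : ↥(subW z (h2 z)) → ↥(LinearMap.ker ev) := fun φ =>
    ⟨f₁ ∘ₗ (toLin φ.1 - LinearMap.id), by
      rw [LinearMap.mem_ker, hev]
      show f₁ (toLin φ.1 (Additive.ofMul z) - Additive.ofMul z) = 0
      rw [htoLin, (mem_subW.mp φ.2).1, sub_self, map_zero]⟩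
  have hF : ∀ (φ : ↥(subW z (h2 z))) (x : A), (F φ).1 (Additive.ofMul x)
      = f₁ (toLin φ.1 (Additive.ofMul x) - Additive.ofMul x) := fun φ x => rfl
  have hinj : Function.Injective F := by
    intro φ ψ h
    apply Subtype.ext
    apply MulEquiv.ext
    intro x
    have h1 : (F φ).1 (Additive.ofMul x) = (F ψ).1 (Additive.ofMul x) := by rw [h]
    rw [hF, hF] at h1
    have h3 := hkey φ.1 φ.2 x
    have h4 := hkey ψ.1 ψ.2 x
    rw [h1] at h3
    have h5 : toLin φ.1 (Additive.ofMul x) - Additive.ofMul x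
        = toLin ψ.1 (Additive.ofMul x) - Additive.ofMul x := h3.trans h4.symm
    have h6 : toLin φ.1 (Additive.ofMul x) = toLin ψ.1 (Additive.ofMul x) := sub_left_inj.mp h5
    exact congrArg Additive.toMul h6
  have hsurjF : Function.Surjective F := by
    rintro ⟨g, hg⟩
    have hgz : g (Additive.ofMul z) = 0 := by
      have := LinearMap.mem_ker.mp hg
      rwa [hev] at this
    let T : Additive A →ₗ[ZMod 2] Additive A :=
      LinearMap.id + g.smulRight (Additive.ofMul z)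
    have hT : ∀ v, T v = v + g v • (Additive.ofMul z : Additive A) := fun v => rfl
    have hTT : ∀ v, T (T v) = v := by
      intro v
      rw [hT (T v), hT v, map_add, map_smul, hgz, smul_zero, add_zero, add_assoc, ← add_smul,
        CharTwo.add_self_eq_zero, zero_smul, add_zero]
    let τ : MulAut A :=
      { toFun := fun x => Additive.toMul (T (Additive.ofMul x))
        invFun := fun x => Additive.toMul (T (Additive.ofMul x))
        left_inv := fun x => congrArg Additive.toMul (hTT (Additive.ofMul x))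
        right_inv := fun x => congrArg Additive.toMul (hTT (Additive.ofMul x))
        map_mul' := fun x y =>
          congrArg Additive.toMul (map_add T (Additive.ofMul x) (Additive.ofMul y)) }
    have hτ : ∀ x, Additive.ofMul (τ x) = T (Additive.ofMul x) := fun x => rfl
    have hτW : τ ∈ subW z (h2 z) := by
      refine mem_subW.mpr ⟨?_, fun x => ?_⟩
      · apply Additive.ofMul.injective
        rw [hτ, hT, hgz, zero_smul, add_zero]
      · rcases h01 (g (Additive.ofMul x)) with h | h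
        · left
          apply Additive.ofMul.injective
          rw [hτ, hT, h, zero_smul, add_zero]
        · right
          apply Additive.ofMul.injective
          show Additive.ofMul (τ x) = Additive.ofMul x + Additive.ofMul z
          rw [hτ, hT, h, one_smul]
    refine ⟨⟨τ, hτW⟩, ?_⟩
    apply Subtype.ext
    apply LinearMap.ext
    intro v
    show f₁ (toLin τ v - v) = g v
    have hv : toLin τ v = T v := rfl
    rw [hv, hT, add_sub_cancel_left, map_smul, hf₁z, smul_eq_mul, mul_one]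
  have hcard1 : Nat.card ↥(subW z (h2 z)) = Nat.card ↥(LinearMap.ker ev) :=
    Nat.card_congr (Equiv.ofBijective F ⟨hinj, hsurjF⟩)
  have hsurj_ev : Function.Surjective ev := by
    intro c
    rcases h01 c with rfl | rfl
    · exact ⟨0, map_zero ev⟩
    · exact ⟨f₁, hf₁z⟩
  have hrange : LinearMap.range ev = ⊤ := LinearMap.range_eq_top.mpr hsurj_ev
  have hrn := LinearMap.finrank_range_add_finrank_ker ev
  rw [hrange, finrank_top, Module.finrank_self, Subspace.dual_finrank_eq, hrank] at hrn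
  have hk : Module.finrank (ZMod 2) ↥(LinearMap.ker ev) = n := by omega
  have hcardk := Module.natCard_eq_pow_finrank (K := ZMod 2) (V := ↥(LinearMap.ker ev))
  rw [hk, Nat.card_zmod] at hcardk
  rw [hcard1, hcardk]

/-- automorphism group of an elementary abelian 2-group of rank `n` -/
theorem mulAut_equiv_GL [Finite A] (hc : ∀ a b : A, a * b = b * a) (h2 : ∀ a : A, a * a = 1)
    (n : ℕ) (hcard : Nat.card A = 2 ^ n) :
    Nonempty (MulAut A ≃* Matrix.GeneralLinearGroup (Fin n) (ZMod 2)) := by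
  classical
  letI : CommGroup A := { (inferInstance : Group A) with mul_comm := hc }
  letI : Module (ZMod 2) (Additive A) := AddCommGroup.zmodModule (n := 2) (fun x => by
    show Additive.ofMul ((Additive.toMul x) ^ 2) = 0
    rw [pow_two, h2]; rfl)
  haveI hfin : Finite (Additive A) := inferInstanceAs (Finite A)
  haveI hmf : Module.Finite (ZMod 2) (Additive A) := Module.Finite.of_finite
  have hrank : Module.finrank (ZMod 2) (Additive A) = n := by
    have h1 := Module.natCard_eq_pow_finrank (K := ZMod 2) (V := Additive A)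
    have h2' : Nat.card (Additive A) = 2 ^ n := hcard
    rw [h2', Nat.card_zmod] at h1
    exact (Nat.pow_right_injective (le_refl 2) h1).symm
  let b := Module.finBasisOfFinrankEq (ZMod 2) (Additive A) hrank
  let e1 : MulAut A ≃* (Additive A ≃ₗ[ZMod 2] Additive A) :=
    { toFun := fun σ => AddEquiv.toLinearEquiv (MulEquiv.toAdditive σ)
        (fun c x => ZMod.map_smul (MulEquiv.toAdditive σ) c x)
      invFun := fun L => MulEquiv.toAdditive.symm L.toAddEquiv
      left_inv := fun σ => by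
        apply MulEquiv.ext
        intro x
        rfl
      right_inv := fun L => by
        apply LinearEquiv.ext
        intro x
        rfl
      map_mul' := fun σ τ => by
        apply LinearEquiv.ext
        intro x
        rfl }
  exact ⟨(e1.trans (LinearMap.GeneralLinearGroup.generalLinearEquiv (ZMod 2)
    (Additive A)).symm).trans (Matrix.GeneralLinearGroup.toLin' b).symm⟩

end TypeLevel

section Main

open scoped commutatorElement

/-- Let G be a finite group that is the split extension of an elementary abelian normal subgroup U of order 2^(n+1), n ≥ 1, by its full automorphism group: U has a complement M in G whose conjugation action on U is faithful and realizes every automorphism of U. Let Z be a subgroup of U of order 2 and Q the largest normal 2-subgroup of the centralizer C of Z. Then Q is extraspecial of order 2^(2n+1) with an elementary abelian subgroup of order 2^(n+1) (plus type), Q is a large extraspecial 2-subgroup of G, and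 C is the split extension of Q by the general linear group of degree n over the field with two elements. -/
theorem result {G : Type*} [Group G] [Finite G] (n : ℕ) (hn : 1 ≤ n) (U M : Subgroup G) [U.Normal] (hU : Cfsg.IsElementaryAbelian 2 U) (hUcard : Nat.card ↥U = 2 ^ (n + 1)) (hUM : U ⊓ M = ⊥) (hUM' : U ⊔ M = ⊤) (hfaith : ∀ m ∈ M, (∀ u ∈ U, m * u * m⁻¹ = u) → m = 1) (hfull : ∀ φ : ↥U ≃* ↥U, ∃ m ∈ M, ∀ u : ↥U, ((φ u : ↥U) : G) = m * u * m⁻¹) (Z : Subgroup G) (hZU : Z ≤ U) (hZ : Nat.card ↥Z = 2) (Q : Subgroup G) (hQ : Q = (Cfsg.pCore 2 ↥(Subgroup.centralizer (Z : Set G))).map (Subgroup.centralizer (Z : Set G)).subtype) : Cfsg.IsExtraspecial 2 ↥Q ∧ Nat.card ↥Q = 2 ^ (2 * n + 1) ∧ (∃ E : Subgroup G, E ≤ Q ∧ Cfsg.IsElementaryAbelian 2 E ∧ Nat.card ↥E = 2 ^ (n + 1)) ∧ Cfsg.IsLargeExtraspecial Q ∧ ∃ K : Subgroup G, K ≤ Subgroup.centralizer (Z : Set G) ∧ Q ⊓ K = ⊥ ∧ Q ⊔ K = Subgroup.centralizer (Z : Set G) ∧ Nonempty (↥K ≃* Matrix.GeneralLinearGroup (Fin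 n) (ZMod 2)) := by
  classical
  subst hQ
  set C : Subgroup G := Subgroup.centralizer (Z : Set G) with hCdef
  have hcA : ∀ a b : ↥U, a * b = b * a := fun a b => hU.1.is_comm.comm a b
  have h2A : ∀ a : ↥U, a * a = 1 := fun a => Subtype.ext (by
    have h := hU.2 a.1 a.2
    rw [pow_two] at h
    exact h)
  let c : G →* MulAut ↥U := MulAut.conjNormal
  have hc_apply : ∀ (g : G) (x : ↥U), ((c g x : ↥U) : G) = g * x * g⁻¹ :=
    fun g x => MulAut.conjNormal_apply g x
  have hker : ∀ m ∈ M, c m = 1 → m = 1 := by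
    intro m hm h
    apply hfaith m hm
    intro u hu
    have h1 : ((c m ⟨u, hu⟩ : ↥U) : G) = u := by rw [h]; rfl
    rw [hc_apply] at h1
    exact h1
  have hsurj : ∀ φ : MulAut ↥U, ∃ m ∈ M, c m = φ := by
    intro φ
    obtain ⟨m, hm, h⟩ := hfull φ
    refine ⟨m, hm, ?_⟩
    apply MulEquiv.ext
    intro x
    apply Subtype.ext
    rw [hc_apply]
    exact (h x).symm
  have hcU : ∀ u ∈ U, c u = 1 := by
    intro u hu
    apply MulEquiv.ext
    intro x
    apply Subtype.ext
    rw [hc_apply, MulAut.one_apply]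
    have h1 : u * (x : G) = (x : G) * u := congrArg Subtype.val (hcA ⟨u, hu⟩ x)
    rw [h1, mul_inv_cancel_right]
  have hdecomp : ∀ g : G, ∃ u ∈ U, ∃ m ∈ M, g = u * m := by
    intro g
    have hg : g ∈ ((U ⊔ M : Subgroup G) : Set G) := by
      rw [hUM']; exact Subgroup.mem_top g
    rw [Subgroup.normal_mul, Set.mem_mul] at hg
    obtain ⟨u, hu, m, hm, rfl⟩ := hg
    exact ⟨u, hu, m, hm, rfl⟩
  have hkerc : ∀ g, c g = 1 → g ∈ U := by
    intro g hg
    obtain ⟨u, hu, m, hm, rfl⟩ := hdecomp g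
    rw [map_mul, hcU u hu, one_mul] at hg
    rw [hker m hm hg, mul_one]; exact hu
  -- the element z
  obtain ⟨⟨z, hzZ⟩, hz1, hzuniq⟩ := (Nat.card_eq_two_iff' (1 : ↥Z)).mp hZ
  have hz1' : z ≠ 1 := fun h => hz1 (Subtype.ext h)
  have hZmem : ∀ x, x ∈ Z ↔ x = 1 ∨ x = z := by
    intro x
    constructor
    · intro hx
      by_cases h : x = 1
      · exact Or.inl h
      · right
        have := hzuniq ⟨x, hx⟩ (fun h' => h (congrArg Subtype.val h'))
        exact congrArg Subtype.val this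
    · rintro (rfl | rfl)
      · exact Z.one_mem
      · exact hzZ
  let zU : ↥U := ⟨z, hZU hzZ⟩
  have hzU1 : zU ≠ 1 := fun h => hz1' (congrArg Subtype.val h)
  let Wg : Subgroup (MulAut ↥U) := subW zU (h2A zU)
  have hWmem : ∀ φ : MulAut ↥U, φ ∈ Wg ↔ φ zU = zU ∧ ∀ x, φ x = x ∨ φ x = x * zU :=
    fun φ => Iff.rfl
  have hWcard : Nat.card ↥Wg = 2 ^ n := card_subW hcA h2A n hUcard zU hzU1
  let Q0 : Subgroup G := Wg.comap c
  have hQ0mem : ∀ g, g ∈ Q0 ↔ c g ∈ Wg := fun g => Iff.rfl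
  obtain ⟨H, -, hzUH, hH⟩ := exists_sep hcA h2A ⊥ zU (by rw [Subgroup.mem_bot]; exact hzU1)
  let Kg : Subgroup (MulAut ↥U) := subK zU H
  have hKgmem : ∀ φ : MulAut ↥U, φ ∈ Kg ↔ φ zU = zU ∧ ∀ x, x ∈ H ↔ φ x ∈ H :=
    fun φ => Iff.rfl
  let K : Subgroup G := M ⊓ Kg.comap c
  have hKmem : ∀ g, g ∈ K ↔ g ∈ M ∧ c g ∈ Kg := fun g => Subgroup.mem_inf
  have hcH : ∀ a b : ↥H, a * b = b * a := fun a b => Subtype.ext (hcA a.1 b.1)
  have h2H : ∀ a : ↥H, a * a = 1 := fun a => Subtype.ext (h2A a.1)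
  have hHidx : H.index = 2 := by
    rw [Subgroup.index_eq_two_iff]
    refine ⟨zU, fun b => ?_⟩
    by_cases hb : b ∈ H
    · right
      refine ⟨hb, fun h => hzUH ?_⟩
      have := H.mul_mem (H.inv_mem hb) h
      rwa [inv_mul_cancel_left] at this
    · left
      exact ⟨hH b zU hb hzUH, hb⟩
  have hHcard : Nat.card ↥H = 2 ^ n := by
    have := H.card_mul_index
    rw [hHidx, hUcard, pow_succ] at this
    exact Nat.eq_of_mul_eq_mul_right (by norm_num) this
  -- the centralizer of Z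
  have hC : ∀ g, g ∈ C ↔ c g zU = zU := by
    intro g
    rw [hCdef, Subgroup.mem_centralizer_iff]
    constructor
    · intro h
      apply Subtype.ext
      rw [hc_apply]
      show g * z * g⁻¹ = z
      rw [← h z hzZ, mul_inv_cancel_right]
    · intro h x hx
      have h' : g * z * g⁻¹ = z := by
        have := congrArg Subtype.val h
        rw [hc_apply] at this
        exact this
      rcases (hZmem x).mp hx with rfl | rfl
      · rw [one_mul, mul_one]
      · calc x * g = g * x * g⁻¹ * g := by rw [h']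
          _ = g * x := by rw [inv_mul_cancel_right]
  have hCcomm : ∀ g ∈ C, ∀ x ∈ Z, x * g = g * x := by
    intro g hg x hx
    rw [hCdef, Subgroup.mem_centralizer_iff] at hg
    exact hg x hx
  have hUQ0 : U ≤ Q0 := fun u hu => by
    rw [hQ0mem, hcU u hu]; exact Wg.one_mem
  have hQ0C : Q0 ≤ C := fun q hq => (hC q).mpr ((hWmem _).mp ((hQ0mem q).mp hq)).1
  have hQ0norm : ∀ g ∈ C, ∀ q ∈ Q0, g * q * g⁻¹ ∈ Q0 := by
    intro g hg q hq
    rw [hQ0mem, map_mul, map_mul, map_inv]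
    exact conj_mem_subW zU (h2A zU) (c g) (c q) ((hC g).mp hg) ((hQ0mem q).mp hq)
  have hKC : K ≤ C := fun k hk => (hC k).mpr ((hKgmem _).mp ((hKmem k).mp hk).2).1
  -- order of Q0
  have hQ0card : Nat.card ↥Q0 = 2 ^ (2 * n + 1) := by
    let f : ↥Q0 →* MulAut ↥U := c.comp Q0.subtype
    have hrange : f.range = Wg := by
      ext φ
      constructor
      · rintro ⟨q, rfl⟩
        exact (hQ0mem _).mp q.2
      · intro hφ
        obtain ⟨m, hm, rfl⟩ := hsurj φ
        exact ⟨⟨m, (hQ0mem m).mpr hφ⟩, rfl⟩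
    have hkerf : f.ker = U.subgroupOf Q0 := by
      ext q
      rw [MonoidHom.mem_ker, Subgroup.mem_subgroupOf]
      constructor
      · intro h; exact hkerc _ h
      · intro h; exact hcU _ h
    have h1 := Subgroup.card_mul_index f.ker
    rw [Subgroup.index_ker, hrange, hkerf, hWcard,
      Nat.card_congr (Subgroup.subgroupOfEquivOfLe hUQ0).toEquiv, hUcard] at h1
    rw [← h1, ← pow_add]
    congr 1
    omega
  have hQ0p : IsPGroup 2 ↥Q0 := IsPGroup.of_card hQ0card
  -- squares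
  have hMQ0sq : ∀ m ∈ M, m ∈ Q0 → m * m = 1 := by
    intro m hm hmQ
    apply hker _ (M.mul_mem hm hm)
    rw [map_mul]
    exact subW_mul_self zU (h2A zU) (c m) ((hQ0mem m).mp hmQ)
  have hsq : ∀ q ∈ Q0, q * q ∈ Z := by
    intro q hq
    obtain ⟨u, hu, m, hm, rfl⟩ := hdecomp q
    have hmQ : m ∈ Q0 := by
      have := Q0.mul_mem (Q0.inv_mem (hUQ0 hu)) hq
      rwa [inv_mul_cancel_left] at this
    have hmm := hMQ0sq m hm hmQ
    have e : u * m * (u * m) = u * (m * u * m⁻¹) * (m * m) := by group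
    have huu : u * u = 1 := congrArg Subtype.val (h2A ⟨u, hu⟩)
    rw [e, hmm, mul_one]
    rcases ((hWmem (c m)).mp ((hQ0mem m).mp hmQ)).2 ⟨u, hu⟩ with h | h
    · have h' : m * u * m⁻¹ = u := by
        have := congrArg Subtype.val h
        rw [hc_apply] at this
        exact this
      rw [h', huu]; exact Z.one_mem
    · have h' : m * u * m⁻¹ = u * z := by
        have := congrArg Subtype.val h
        rw [hc_apply] at this
        exact this
      rw [h', ← mul_assoc, huu, one_mul]; exact hzZ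
  have hcommZ : ∀ a ∈ Q0, ∀ b ∈ Q0, a * b * a⁻¹ * b⁻¹ ∈ Z := by
    intro a ha b hb
    have hs : a⁻¹ * a⁻¹ ∈ Z := hsq _ (Q0.inv_mem ha)
    have ht : b⁻¹ * b⁻¹ ∈ Z := hsq _ (Q0.inv_mem hb)
    have hab : (a * b) * (a * b) ∈ Z := hsq _ (Q0.mul_mem ha hb)
    have hcomm : b⁻¹ * (a⁻¹ * a⁻¹) = (a⁻¹ * a⁻¹) * b⁻¹ :=
      (hCcomm _ (hQ0C (Q0.inv_mem hb)) _ hs).symm
    have e : a * b * a⁻¹ * b⁻¹ = (a * b) * (a * b) * ((a⁻¹ * a⁻¹) * (b⁻¹ * b⁻¹)) := by
      calc a * b * a⁻¹ * b⁻¹ = (a * b) * (a * b) * (b⁻¹ * (a⁻¹ * a⁻¹) * b⁻¹) := by group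
        _ = (a * b) * (a * b) * ((a⁻¹ * a⁻¹) * b⁻¹ * b⁻¹) := by rw [hcomm]
        _ = (a * b) * (a * b) * ((a⁻¹ * a⁻¹) * (b⁻¹ * b⁻¹)) := by group
    rw [e]; exact Z.mul_mem hab (Z.mul_mem hs ht)
  -- the centre
  have hcenter : ∀ y : ↥Q0, y ∈ Subgroup.center ↥Q0 ↔ (y : G) ∈ Z := by
    intro y
    rw [Subgroup.mem_center_iff]
    constructor
    · intro hy
      have hcy : c (y : G) = 1 := by
        apply MulEquiv.ext
        intro x
        apply Subtype.ext
        rw [hc_apply, MulAut.one_apply]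
        have h' : (x : G) * (y : G) = (y : G) * (x : G) :=
          congrArg Subtype.val (hy ⟨x.1, hUQ0 x.2⟩)
        rw [← h', mul_inv_cancel_right]
      have hyU : (y : G) ∈ U := hkerc _ hcy
      by_contra hyZ
      have hy1 : (⟨(y : G), hyU⟩ : ↥U) ≠ 1 := fun h => hyZ (by
        have : (y : G) = 1 := congrArg Subtype.val h
        rw [this]; exact Z.one_mem)
      have hyz : (⟨(y : G), hyU⟩ : ↥U) ≠ zU := fun h => hyZ (by
        have : (y : G) = z := congrArg Subtype.val h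
        rw [this]; exact hzZ)
      obtain ⟨τ, hτW, hτy⟩ := exists_W_moving hcA h2A zU _ hy1 hyz
      obtain ⟨m, hm, hmτ⟩ := hsurj τ
      have hmQ0 : m ∈ Q0 := by rw [hQ0mem, hmτ]; exact hτW
      have h1' : m * (y : G) = (y : G) * m := congrArg Subtype.val (hy ⟨m, hmQ0⟩)
      have h2' : ((τ ⟨(y : G), hyU⟩ : ↥U) : G) = (y : G) := by
        rw [← hmτ, hc_apply]
        show m * (y : G) * m⁻¹ = (y : G)
        rw [h1', mul_inv_cancel_right]
      rw [hτy] at h2'
      have h3 : (y : G) * z = (y : G) := h2'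
      exact hz1' (mul_left_cancel (h3.trans (mul_one _).symm))
    · intro hyZ q
      apply Subtype.ext
      exact (hCcomm _ (hQ0C q.2) _ hyZ).symm
  have hcentcard : Nat.card ↥(Subgroup.center ↥Q0) = 2 := by
    have hZQ0 : Z ≤ Q0 := hZU.trans hUQ0
    have heq : Subgroup.center ↥Q0 = Z.subgroupOf Q0 := by
      ext y
      rw [hcenter, Subgroup.mem_subgroupOf]
    rw [heq, Nat.card_congr (Subgroup.subgroupOfEquivOfLe hZQ0).toEquiv, hZ]
  -- a commutator equal to z
  have hHnontriv : ∃ x₀ : ↥U, x₀ ∈ H ∧ x₀ ≠ 1 := by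
    have h1 : 1 < Nat.card ↥H := by
      rw [hHcard]; exact Nat.one_lt_two_pow (by omega)
    haveI : Nontrivial ↥H := Finite.one_lt_card_iff_nontrivial.mp h1
    obtain ⟨x, hx⟩ := exists_ne (1 : ↥H)
    exact ⟨x.1, x.2, fun h => hx (Subtype.ext h)⟩
  obtain ⟨x₀, hx₀H, hx₀1⟩ := hHnontriv
  have hx₀z : x₀ ≠ zU := fun h => hzUH (h ▸ hx₀H)
  obtain ⟨τ₀, hτ₀W, hτ₀x⟩ := exists_W_moving hcA h2A zU x₀ hx₀1 hx₀z
  obtain ⟨m₀, hm₀M, hm₀τ⟩ := hsurj τ₀
  have hm₀Q : m₀ ∈ Q0 := by rw [hQ0mem, hm₀τ]; exact hτ₀W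
  have hcomm₀ : m₀ * (x₀ : G) * m₀⁻¹ * (x₀ : G)⁻¹ = z := by
    have h1 : m₀ * (x₀ : G) * m₀⁻¹ = (x₀ : G) * z := by
      have := congrArg Subtype.val hτ₀x
      rw [← hm₀τ, hc_apply] at this
      exact this
    have h2 : (x₀ : G) * z = z * (x₀ : G) := congrArg Subtype.val (hcA x₀ zU)
    rw [h1, h2, mul_inv_cancel_right]
  let aq : ↥Q0 := ⟨m₀, hm₀Q⟩
  let bq : ↥Q0 := ⟨(x₀ : G), hUQ0 x₀.2⟩
  have habq : ((⁅aq, bq⁆ : ↥Q0) : G) = z := by
    rw [commutatorElement_def]
    exact hcomm₀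
  have hcomm_eq : commutator ↥Q0 = Subgroup.center ↥Q0 := by
    apply le_antisymm
    · rw [commutator_def, Subgroup.commutator_le]
      intro a _ b _
      rw [hcenter, commutatorElement_def]
      exact hcommZ a.1 a.2 b.1 b.2
    · intro y hy
      rcases (hZmem _).mp ((hcenter y).mp hy) with h | h
      · have : y = 1 := Subtype.ext h
        rw [this]; exact Subgroup.one_mem _
      · have : y = ⁅aq, bq⁆ := Subtype.ext (h.trans habq.symm)
        rw [this, commutator_def]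
        exact Subgroup.commutator_mem_commutator (Subgroup.mem_top _) (Subgroup.mem_top _)
  -- Frattini subgroup
  have hfrat : frattini ↥Q0 = Subgroup.center ↥Q0 := by
    apply le_antisymm
    · intro q hq
      by_contra hqc
      have h2bar : ∀ a : ↥Q0 ⧸ Subgroup.center ↥Q0, a * a = 1 := by
        intro a
        obtain ⟨a, rfl⟩ := QuotientGroup.mk_surjective a
        rw [← QuotientGroup.mk_mul, QuotientGroup.eq_one_iff]
        exact (hcenter _).mpr (hsq _ a.2)
      have hcbar : ∀ a b : ↥Q0 ⧸ Subgroup.center ↥Q0, a * b = b * a := comm_of_sq h2bar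
      have hqbar : (QuotientGroup.mk q : ↥Q0 ⧸ Subgroup.center ↥Q0) ∉
          (⊥ : Subgroup (↥Q0 ⧸ Subgroup.center ↥Q0)) := by
        rw [Subgroup.mem_bot, QuotientGroup.eq_one_iff]; exact hqc
      obtain ⟨Hb, -, hqHb, hHb⟩ := exists_sep hcbar h2bar ⊥ _ hqbar
      let Hm : Subgroup ↥Q0 := Hb.comap (QuotientGroup.mk' (Subgroup.center ↥Q0))
      have hHm : IsCoatom Hm := by
        constructor
        · intro htop
          apply hqHb
          have : q ∈ Hm := by rw [htop]; exact Subgroup.mem_top q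
          exact this
        · intro L hL
          obtain ⟨l, hlL, hlH⟩ := SetLike.exists_of_lt hL
          rw [eq_top_iff]
          intro g _
          by_cases hg : g ∈ Hm
          · exact hL.le hg
          · have hl' : l⁻¹ ∉ Hm := fun h => hlH (by
              have := Hm.inv_mem h
              rwa [inv_inv] at this)
            have h3 : g * l⁻¹ ∈ Hm := by
              show QuotientGroup.mk' (Subgroup.center ↥Q0) (g * l⁻¹) ∈ Hb
              rw [map_mul]
              exact hHb _ _ hg hl'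
            have := L.mul_mem (hL.le h3) hlL
            rwa [inv_mul_cancel_right] at this
      exact hqHb (frattini_le_coatom hHm hq)
    · intro y hy
      unfold frattini Order.radical
      rw [Subgroup.mem_iInf]
      intro Hm
      rw [Subgroup.mem_iInf]
      intro hHm
      have hHm' : IsCoatom Hm := hHm
      by_contra hyH
      have hyz : y = ⁅aq, bq⁆ := by
        rcases (hZmem _).mp ((hcenter y).mp hy) with h | h
        · exfalso
          apply hyH
          have : y = 1 := Subtype.ext h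
          rw [this]; exact Hm.one_mem
        · exact Subtype.ext (h.trans habq.symm)
      have hlt : Hm < Hm ⊔ Subgroup.center ↥Q0 :=
        lt_of_le_of_ne le_sup_left (fun heq => hyH (by
          rw [heq]; exact Subgroup.mem_sup_right hy))
      have htop := hHm'.2 _ hlt
      have hdec : ∀ g : ↥Q0, ∃ h ∈ Hm, ∃ ζ ∈ Subgroup.center ↥Q0, g = h * ζ := by
        intro g
        have hg : g ∈ ((Hm ⊔ Subgroup.center ↥Q0 : Subgroup ↥Q0) : Set ↥Q0) := by
          rw [htop]; exact Subgroup.mem_top g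
        rw [Subgroup.mul_normal, Set.mem_mul] at hg
        obtain ⟨h, hh, ζ, hζ, rfl⟩ := hg
        exact ⟨h, hh, ζ, hζ, rfl⟩
      obtain ⟨h₁, hh₁, ζ₁, hζ₁, ha⟩ := hdec aq
      obtain ⟨h₂, hh₂, ζ₂, hζ₂, hb⟩ := hdec bq
      apply hyH
      rw [hyz, ha, hb, commutator_central h₁ h₂ ζ₁ ζ₂ (Subgroup.mem_center_iff.mp hζ₁)
        (Subgroup.mem_center_iff.mp hζ₂), commutatorElement_def]
      exact Hm.mul_mem (Hm.mul_mem (Hm.mul_mem hh₁ hh₂) (Hm.inv_mem hh₁)) (Hm.inv_mem hh₂)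
  have hES : IsExtraspecial 2 ↥Q0 := ⟨⟨hQ0p, hfrat, hcomm_eq⟩, hcentcard⟩
  -- decomposition of C
  have hCdec : ∀ g ∈ C, ∃ q ∈ Q0, ∃ k ∈ K, g = q * k := by
    intro g hg
    have hφ : c g zU = zU := (hC g).mp hg
    obtain ⟨τ, hτW, hτK⟩ := exists_W_into_K hcA h2A H hH zU hzU1 hzUH (c g) hφ
    obtain ⟨m, hm, hmφ⟩ := hsurj (c g * τ)
    have hmK : m ∈ K := (hKmem m).mpr ⟨hm, by rw [hmφ]; exact hτK⟩
    refine ⟨g * m⁻¹, ?_, m, hmK, by rw [inv_mul_cancel_right]⟩
    rw [hQ0mem, map_mul, map_inv, hmφ, mul_inv_rev, ← mul_assoc]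
    exact conj_mem_subW zU (h2A zU) (c g) τ⁻¹ hφ (Wg.inv_mem hτW)
  have hQ0K : Q0 ⊓ K = ⊥ := by
    rw [eq_bot_iff]
    intro g hg
    obtain ⟨hgQ, hgK⟩ := Subgroup.mem_inf.mp hg
    obtain ⟨hgM, hgKg⟩ := (hKmem g).mp hgK
    rw [Subgroup.mem_bot]
    apply hker g hgM
    exact subW_inf_subK h2A H hH zU hzUH (c g) ((hQ0mem g).mp hgQ) hgKg
  have hsup : Q0 ⊔ K = C := by
    apply le_antisymm (sup_le hQ0C hKC)
    intro g hg
    obtain ⟨q, hq, k, hk, rfl⟩ := hCdec g hg
    exact Subgroup.mul_mem_sup hq hk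
  -- the isomorphism K ≃ Aut(H)
  have hKM : K ≤ M := inf_le_left
  let cK : ↥K →* ↥Kg := (c.comp K.subtype).codRestrict Kg (fun k => ((hKmem _).mp k.2).2)
  have hcK_inj : Function.Injective cK := by
    rw [injective_iff_map_eq_one]
    intro k hk
    have h1 : c (k : G) = 1 := congrArg Subtype.val hk
    exact Subtype.ext (hker _ (hKM k.2) h1)
  have hcK_surj : Function.Surjective cK := by
    intro φ
    obtain ⟨m, hm, hmφ⟩ := hsurj φ.1
    exact ⟨⟨m, (hKmem m).mpr ⟨hm, by rw [hmφ]; exact φ.2⟩⟩, Subtype.ext hmφ⟩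
  let κ : ↥K ≃* MulAut ↥H := (MulEquiv.ofBijective cK ⟨hcK_inj, hcK_surj⟩).trans
    (MulEquiv.ofBijective (resK zU H) (resK_bijective hcA h2A H hH zU hzUH))
  -- the 2-core
  set R : Subgroup G := (pCore 2 ↥C).map C.subtype with hRdef
  have hRC : R ≤ C := by
    intro r hr
    obtain ⟨r', -, rfl⟩ := Subgroup.mem_map.mp hr
    exact r'.2
  have hRp : IsPGroup 2 ↥R :=
    (Cfsg.Agent.Lib.Helper16.pCore_isPGroup (G := ↥C) (p := 2)).map C.subtype
  have hRnorm : ∀ g ∈ C, ∀ r ∈ R, g * r * g⁻¹ ∈ R := by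
    intro g hg r hr
    obtain ⟨r', hr', rfl⟩ := Subgroup.mem_map.mp hr
    have := (Cfsg.Agent.Lib.Helper16.pCore_normal (G := ↥C) (p := 2)).conj_mem r' hr' ⟨g, hg⟩
    exact Subgroup.mem_map.mpr ⟨_, this, rfl⟩
  have hQ0R : Q0 ≤ R := by
    have hn' : (Q0.subgroupOf C).Normal := ⟨fun x hx g => by
      rw [Subgroup.mem_subgroupOf] at hx ⊢
      exact hQ0norm g.1 g.2 x.1 hx⟩
    have hcard' : Nat.card ↥(Q0.subgroupOf C) = 2 ^ (2 * n + 1) := by
      rw [Nat.card_congr (Subgroup.subgroupOfEquivOfLe hQ0C).toEquiv, hQ0card]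
    have hp' : IsPGroup 2 ↥(Q0.subgroupOf C) := IsPGroup.of_card hcard'
    have hle := Cfsg.Agent.Lib.Helper16.le_pCore _ hn' hp'
    have := Subgroup.map_mono (f := C.subtype) hle
    rwa [Subgroup.map_subgroupOf_eq_of_le hQ0C] at this
  have hRK : ∀ k ∈ R, k ∈ K → k = 1 := by
    intro k hkR hkK
    have hN'n : (R.subgroupOf K).Normal := ⟨fun x hx g => by
      rw [Subgroup.mem_subgroupOf] at hx ⊢
      exact hRnorm g.1 (hKC g.2) x.1 hx⟩
    have hN'p : IsPGroup 2 ↥(R.subgroupOf K) := hRp.comap_subtype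
    have hmapn : ((R.subgroupOf K).map κ.toMonoidHom).Normal :=
      hN'n.map κ.toMonoidHom κ.surjective
    have hmapp : IsPGroup 2 ↥((R.subgroupOf K).map κ.toMonoidHom) := hN'p.map κ.toMonoidHom
    have hbot := mulAut_normal_two_subgroup_trivial hcH h2H _ hmapn hmapp
    have hN'bot : R.subgroupOf K = ⊥ :=
      (Subgroup.map_eq_bot_iff_of_injective (R.subgroupOf K) κ.injective).mp hbot
    have hmem : (⟨k, hkK⟩ : ↥K) ∈ R.subgroupOf K := Subgroup.mem_subgroupOf.mpr hkR
    rw [hN'bot, Subgroup.mem_bot] at hmem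
    exact congrArg Subtype.val hmem
  have hReq : R = Q0 := by
    apply le_antisymm _ hQ0R
    intro r hr
    obtain ⟨q, hq, k, hk, rfl⟩ := hCdec r (hRC hr)
    have hkR : k ∈ R := by
      have := R.mul_mem (R.inv_mem (hQ0R hq)) hr
      rwa [inv_mul_cancel_left] at this
    rw [hRK k hkR hk, mul_one]; exact hq
  rw [hReq]
  -- centralizer and normalizer conditions
  have hcentQ : Subgroup.centralizer (Q0 : Set G) = (Subgroup.center ↥Q0).map Q0.subtype := by
    ext g
    rw [Subgroup.mem_centralizer_iff, Subgroup.mem_map]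
    constructor
    · intro h
      have hgU : g ∈ U := by
        apply hkerc
        apply MulEquiv.ext
        intro x
        apply Subtype.ext
        rw [hc_apply, MulAut.one_apply, ← h x (hUQ0 x.2), mul_inv_cancel_right]
      refine ⟨⟨g, hUQ0 hgU⟩, ?_, rfl⟩
      rw [Subgroup.mem_center_iff]
      intro q
      apply Subtype.ext
      exact h q.1 q.2
    · rintro ⟨y, hy, rfl⟩ q hq
      exact congrArg Subtype.val (Subgroup.mem_center_iff.mp hy ⟨q, hq⟩)
  have hnormQ : Subgroup.centralizer (((Subgroup.center ↥Q0).map Q0.subtype : Subgroup G) : Set G)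
      ≤ Subgroup.normalizer (Q0 : Set G) := by
    intro g hg
    have hzmem : z ∈ ((Subgroup.center ↥Q0).map Q0.subtype : Subgroup G) :=
      Subgroup.mem_map.mpr ⟨⟨z, hUQ0 (hZU hzZ)⟩, (hcenter _).mpr hzZ, rfl⟩
    have hzg : z * g = g * z := Subgroup.mem_centralizer_iff.mp hg z hzmem
    have hgC : g ∈ C := by
      rw [hC]
      apply Subtype.ext
      rw [hc_apply]
      show g * z * g⁻¹ = z
      rw [← hzg, mul_inv_cancel_right]
    rw [Subgroup.mem_normalizer_iff]
    intro h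
    constructor
    · intro hh
      exact hQ0norm g hgC h hh
    · intro hh
      have := hQ0norm g⁻¹ (C.inv_mem hgC) _ hh
      have e : g⁻¹ * (g * h * g⁻¹) * g⁻¹⁻¹ = h := by group
      rwa [e] at this
  have hodd : ∀ K' : Subgroup G, Odd (Nat.card K') →
      Q0 ≤ Subgroup.normalizer (K' : Set G) → K' = ⊥ := by
    intro K' hK'odd hnorm
    have hKU : ∀ y ∈ K', y ∈ U → y = 1 := by
      intro y hyK hyU
      have hyy : y ^ 2 = 1 := hU.2 y hyU
      have hd2 : orderOf y ∣ 2 := orderOf_dvd_of_pow_eq_one hyy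
      have hdK : orderOf y ∣ Nat.card K' := Subgroup.orderOf_dvd_natCard K' hyK
      rcases (Nat.dvd_prime Nat.prime_two).mp hd2 with h | h
      · exact orderOf_eq_one_iff.mp h
      · exfalso
        rw [h] at hdK
        exact hK'odd.not_two_dvd_nat hdK
    rw [eq_bot_iff]
    intro k hk
    rw [Subgroup.mem_bot]
    have hkU : c k = 1 := by
      apply MulEquiv.ext
      intro x
      apply Subtype.ext
      rw [hc_apply, MulAut.one_apply]
      have hxn : (x : G) ∈ Subgroup.normalizer (K' : Set G) := hnorm (hUQ0 x.2)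
      have h1 : (x : G) * k * (x : G)⁻¹ ∈ K' := (Subgroup.mem_normalizer_iff.mp hxn k).mp hk
      have hy1 : (x : G) * k * (x : G)⁻¹ * k⁻¹ ∈ K' := K'.mul_mem h1 (K'.inv_mem hk)
      have hy2 : (x : G) * k * (x : G)⁻¹ * k⁻¹ ∈ U := by
        have h3 : k * (x : G)⁻¹ * k⁻¹ ∈ U :=
          (inferInstance : U.Normal).conj_mem _ (U.inv_mem x.2) k
        have h4 := U.mul_mem x.2 h3
        have e : (x : G) * (k * (x : G)⁻¹ * k⁻¹) = (x : G) * k * (x : G)⁻¹ * k⁻¹ := by group
        rwa [e] at h4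
      have hy := hKU _ hy1 hy2
      have e : k * (x : G) * k⁻¹ = ((x : G) * k * (x : G)⁻¹ * k⁻¹)⁻¹ * (x : G) := by group
      rw [e, hy, inv_one, one_mul]
    exact hKU k hk (hkerc k hkU)
  refine ⟨hES, hQ0card, ⟨U, hUQ0, hU, hUcard⟩, ⟨hES, hcentQ, hnormQ, hodd⟩, K, hKC, hQ0K, hsup, ?_⟩
  obtain ⟨eGL⟩ := mulAut_equiv_GL (A := ↥H) hcH h2H n hHcard
  exact ⟨κ.trans eGL⟩

end Main

end Cfsg.Agent.S5423
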