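import Cfsg.Statements.S0752
import Mathlib

set_option autoImplicit false
open Cfsg

namespace Cfsg.Agent.S0752

open LinearMap Module

/-- the data of a symplectic-plus-radical family -/
structure Fam {F V : Type*} [Field F] [AddCommGroup V] [Module F V] (B : LinearMap.BilinForm F V)
    (m k : ℕ) where
  e : Fin m → V
  f : Fin m → V
  r : Fin k → V
  ef : ∀ i j, B (e i) (f j) = if i = j then 1 else 0
  ee : ∀ i j, B (e i) (e j) = 0
  ff : ∀ i j, B (f i) (f j) = 0
  rv : ∀ j v, B (r j) v = 0
  li : LinearIndependent F r

theorem exists_fam {F : Type*} [Field F] :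
    ∀ (d : ℕ) (V : Type*) [AddCommGroup V] [Module F V] [FiniteDimensional F V]
      (B : LinearMap.BilinForm F V), B.IsAlt → finrank F V = d →
      ∃ (m k : ℕ), 2 * m + k = d ∧ Nonempty (Fam B m k) := by
  intro d
  induction d using Nat.strong_induction_on with
  | _ d ih =>
    intro V _ _ _ B hA hdim
    have hskew : ∀ x y, B x y = -B y x := fun x y => by rw [hA.neg_eq]
    by_cases hzero : ∀ u v, B u v = 0
    · refine ⟨0, d, by omega, ⟨?_⟩⟩
      let b := (Module.finBasis F V).reindex (finCongr hdim)
      exact { e := Fin.elim0, f := Fin.elim0, r := b
              ef := fun i => i.elim0, ee := fun i => i.elim0, ff := fun i => i.elim0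
              rv := fun j v => hzero _ _
              li := b.linearIndependent }
    · push Not at hzero
      obtain ⟨u, v, huv⟩ := hzero
      set e₀ := u with he₀
      set f₀ := (B u v)⁻¹ • v with hf₀
      have hef : B e₀ f₀ = 1 := by
        rw [hf₀, map_smul, smul_eq_mul, inv_mul_cancel₀ huv]
      have hfe : B f₀ e₀ = -1 := by rw [hskew, hef]
      have hee : B e₀ e₀ = 0 := hA e₀
      have hff : B f₀ f₀ = 0 := hA f₀
      set W : Submodule F V := LinearMap.ker (B e₀) ⊓ LinearMap.ker (B f₀) with hW
      have hWmem : ∀ w : V, w ∈ W ↔ B e₀ w = 0 ∧ B f₀ w = 0 := by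
        intro w
        rw [hW, Submodule.mem_inf, LinearMap.mem_ker, LinearMap.mem_ker]
      -- dimension of W
      have hWdim : finrank F W + 2 = d := by
        set φ : V →ₗ[F] F × F := (B e₀).prod (B f₀) with hφ
        have hker : LinearMap.ker φ = W := LinearMap.ker_prod _ _
        have hrange : LinearMap.range φ = ⊤ := by
          rw [LinearMap.range_eq_top]
          rintro ⟨a, b⟩
          refine ⟨a • f₀ - b • e₀, ?_⟩
          rw [hφ, LinearMap.prod_apply]
          apply Prod.ext
          · change B e₀ (a • f₀ - b • e₀) = a
            simp only [map_sub, map_smul, smul_eq_mul, hef, hee]; ring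
          · change B f₀ (a • f₀ - b • e₀) = b
            simp only [map_sub, map_smul, smul_eq_mul, hff, hfe]; ring
        have := LinearMap.finrank_range_add_finrank_ker φ
        rw [hker, hrange, finrank_top, Module.finrank_prod, Module.finrank_self, hdim] at this
        omega
      have hlt : finrank F W < d := by omega
      have hAW : (B.restrict W).IsAlt := fun w => hA (w : V)
      obtain ⟨m', k, hmk, ⟨fam⟩⟩ := ih (finrank F W) hlt W (B.restrict W) hAW rfl
      refine ⟨m' + 1, k, by omega, ⟨?_⟩⟩
      have hWe : ∀ w : W, B e₀ (w : V) = 0 := fun w => ((hWmem _).mp w.2).1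
      have hWf : ∀ w : W, B f₀ (w : V) = 0 := fun w => ((hWmem _).mp w.2).2
      have hWe' : ∀ w : W, B (w : V) e₀ = 0 := fun w => by rw [hskew, hWe, neg_zero]
      have hWf' : ∀ w : W, B (w : V) f₀ = 0 := fun w => by rw [hskew, hWf, neg_zero]
      -- decomposition
      have hdecomp : ∀ x : V, ∃ w : W, x = (w : V) - B f₀ x • e₀ + B e₀ x • f₀ := by
        intro x
        refine ⟨⟨x + B f₀ x • e₀ - B e₀ x • f₀, ?_⟩, ?_⟩
        · rw [hWmem]
          constructor
          · simp only [map_add, map_sub, map_smul, smul_eq_mul, hee, hef]; ring
          · simp only [map_add, map_sub, map_smul, smul_eq_mul, hff, hfe]; ring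
        · simp only; abel
      exact
        { e := Fin.cons e₀ (fun i => (fam.e i : V))
          f := Fin.cons f₀ (fun i => (fam.f i : V))
          r := fun j => (fam.r j : V)
          ef := by
            intro i j
            induction i using Fin.cases with
            | zero =>
              induction j using Fin.cases with
              | zero => simpa using hef
              | succ j =>
                simp only [Fin.cons_zero, Fin.cons_succ]
                rw [hWe, if_neg (Fin.succ_ne_zero j).symm]
            | succ i =>
              induction j using Fin.cases with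
              | zero =>
                simp only [Fin.cons_zero, Fin.cons_succ]
                rw [hWf', if_neg (Fin.succ_ne_zero i)]
              | succ j =>
                simp only [Fin.cons_succ, Fin.succ_inj]
                exact fam.ef i j
          ee := by
            intro i j
            induction i using Fin.cases with
            | zero =>
              induction j using Fin.cases with
              | zero => simpa using hee
              | succ j => simp only [Fin.cons_zero, Fin.cons_succ]; exact hWe _
            | succ i =>
              induction j using Fin.cases with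
              | zero => simp only [Fin.cons_zero, Fin.cons_succ]; exact hWe' _
              | succ j => simp only [Fin.cons_succ]; exact fam.ee i j
          ff := by
            intro i j
            induction i using Fin.cases with
            | zero =>
              induction j using Fin.cases with
              | zero => simpa using hff
              | succ j => simp only [Fin.cons_zero, Fin.cons_succ]; exact hWf _
            | succ i =>
              induction j using Fin.cases with
              | zero => simp only [Fin.cons_zero, Fin.cons_succ]; exact hWf' _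
              | succ j => simp only [Fin.cons_succ]; exact fam.ff i j
          rv := by
            intro j x
            obtain ⟨w, hw⟩ := hdecomp x
            rw [hw]
            simp only [map_add, map_sub, map_smul, smul_eq_mul, hWe', hWf', mul_zero, sub_zero, add_zero]
            exact fam.rv j w
          li := by
            have := fam.li.map' W.subtype (Submodule.ker_subtype W)
            exact this }

theorem result {F V : Type*} [Field F] [AddCommGroup V] [Module F V] [FiniteDimensional F V] (B : LinearMap.BilinForm F V) (hA : B.IsAlt) : ∃ (m k : ℕ) (b : Module.Basis ((Fin m ⊕ Fin m) ⊕ Fin k) F V), (∀ i j : Fin m, B (b (Sum.inl (Sum.inl i))) (b (Sum.inl (Sum.inr j))) = if i = j then 1 else 0) ∧ (∀ i j : Fin m, B (b (Sum.inl (Sum.inl i))) (b (Sum.inl (Sum.inl j))) = 0) ∧ (∀ i j : Fin m, B (b (Sum.inl (Sum.inr i))) (b (Sum.inl (Sum.inr j))) = 0) ∧ (∀ (j : Fin k) (v : V), B (b (Sum.inr j)) v = 0) := by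
  classical
  obtain ⟨m, k, hmk, ⟨fam⟩⟩ := exists_fam (finrank F V) V B hA rfl
  have hskew : ∀ x y, B x y = -B y x := fun x y => by rw [hA.neg_eq]
  set fn : (Fin m ⊕ Fin m) ⊕ Fin k → V := Sum.elim (Sum.elim fam.e fam.f) fam.r with hfn
  have hli : LinearIndependent F fn := by
    rw [Fintype.linearIndependent_iff]
    intro g hg
    rw [Fintype.sum_sum_type, Fintype.sum_sum_type] at hg
    simp only [hfn, Sum.elim_inl, Sum.elim_inr] at hg
    -- coefficients of e
    have h1 : ∀ j, g (Sum.inl (Sum.inl j)) = 0 := by
      intro j
      have := congrArg (fun x => B x (fam.f j)) hg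
      simp only [map_add, map_sum, map_smul, LinearMap.add_apply, LinearMap.sum_apply, LinearMap.smul_apply,
        smul_eq_mul, fam.ef, fam.ff, fam.rv, mul_zero, Finset.sum_const_zero, add_zero, mul_ite, mul_one,
        Finset.sum_ite_eq', Finset.mem_univ, if_true, map_zero, LinearMap.zero_apply] at this
      exact this
    have h2 : ∀ j, g (Sum.inl (Sum.inr j)) = 0 := by
      intro j
      have := congrArg (fun x => B (fam.e j) x) hg
      have hr : ∀ i, B (fam.e j) (fam.r i) = 0 := fun i => by rw [hskew, fam.rv, neg_zero]
      simp only [map_add, map_sum, map_smul, smul_eq_mul, fam.ef, fam.ee, hr, mul_zero,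
        Finset.sum_const_zero, add_zero, zero_add, mul_ite, mul_one,
        Finset.sum_ite_eq, Finset.mem_univ, if_true, map_zero] at this
      exact this
    have h3 : ∑ j, g (Sum.inr j) • fam.r j = 0 := by
      simpa [h1, h2] using hg
    have h4 := (Fintype.linearIndependent_iff.mp fam.li) (fun j => g (Sum.inr j)) h3
    rintro ((i | i) | j)
    · exact h1 i
    · exact h2 i
    · exact h4 j
  have hcard : Fintype.card ((Fin m ⊕ Fin m) ⊕ Fin k) = finrank F V := by
    simp only [Fintype.card_sum, Fintype.card_fin]
    omega
  have hspan := hli.span_eq_top_of_card_eq_finrank' hcard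
  refine ⟨m, k, Module.Basis.mk hli hspan.ge, ?_, ?_, ?_, ?_⟩
  · intro i j
    simp only [Module.Basis.mk_apply, hfn, Sum.elim_inl, Sum.elim_inr]
    exact fam.ef i j
  · intro i j
    simp only [Module.Basis.mk_apply, hfn, Sum.elim_inl]
    exact fam.ee i j
  · intro i j
    simp only [Module.Basis.mk_apply, hfn, Sum.elim_inl, Sum.elim_inr]
    exact fam.ff i j
  · intro j v
    simp only [Module.Basis.mk_apply, hfn, Sum.elim_inr]
    exact fam.rv j v

end Cfsg.Agent.S0752
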