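-- Statement S0776
import Cfsg.Statements.S0776
import Mathlib
import Cfsg.Agent.S0752
import Cfsg.Agent.S0765

set_option autoImplicit false
open Cfsg

namespace Cfsg.Agent.S0776

open Matrix Cfsg.Agent.Lib.Helper6 Cfsg.Agent.S0765

variable {F : Type*} [Field F]

/-- the symplectic form as a bilinear form -/
noncomputable def sB (m : ℕ) (F : Type*) [Field F] : LinearMap.BilinForm F (Fin m ⊕ Fin m → F) :=
  LinearMap.mk₂ F (Cfsg.sympForm m F) sympForm_add_left sympForm_smul_left sympForm_add_right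
    sympForm_smul_right

theorem sB_apply (m : ℕ) (x y : Fin m ⊕ Fin m → F) : sB m F x y = Cfsg.sympForm m F x y := rfl

theorem sB_alt (m : ℕ) : (sB m F).IsAlt := fun x => sympForm_self x

theorem sympForm_single_single (k : ℕ) (i j : Fin k ⊕ Fin k) :
    Cfsg.sympForm k F (Pi.single i 1) (Pi.single j 1) =
      match i, j with
      | Sum.inl _, Sum.inl _ => 0
      | Sum.inl a, Sum.inr b => if a = b then -1 else 0
      | Sum.inr a, Sum.inl b => if a = b then 1 else 0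
      | Sum.inr _, Sum.inr _ => 0 := by
  classical
  rcases i with a | a <;> rcases j with b | b
  · rw [sympForm_single_inl]; simp
  · rw [sympForm_single_inr]; simp only [Pi.single_apply, eq_comm]
    by_cases hab : a = b <;> simp [hab]
  · rw [sympForm_single_inl]; simp [Pi.single_apply, eq_comm]
  · rw [sympForm_single_inr]; simp

/-- a nondegenerate alternating space of dimension `2k` is isometric to the standard one -/
theorem exists_std {U : Type*} [AddCommGroup U] [Module F U] [FiniteDimensional F U]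
    (B : LinearMap.BilinForm F U) (hA : B.IsAlt) (hN : ∀ u, (∀ v, B u v = 0) → u = 0)
    (k : ℕ) (hk : Module.finrank F U = 2 * k) :
    ∃ φ : U ≃ₗ[F] (Fin k ⊕ Fin k → F), ∀ x y, Cfsg.sympForm k F (φ x) (φ y) = B x y := by
  classical
  obtain ⟨m', k', b, h1, h2, h3, h4⟩ := Cfsg.Agent.S0752.result B hA
  have hk' : k' = 0 := by
    by_contra hne
    have hpos : 0 < k' := Nat.pos_of_ne_zero hne
    exact b.ne_zero _ (hN (b (Sum.inr ⟨0, hpos⟩)) (h4 _))
  subst hk'
  have hm' : m' = k := by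
    have := Module.finrank_eq_card_basis b
    simp only [Fintype.card_sum, Fintype.card_fin] at this
    omega
  subst hm'
  let b'' : Module.Basis (Fin m' ⊕ Fin m') F U :=
    b.reindex ((Equiv.sumEmpty _ _).trans (Equiv.sumComm _ _))
  have hb1 : ∀ i, b'' (Sum.inl i) = b (Sum.inl (Sum.inr i)) := by
    intro i; simp [b'', Module.Basis.reindex_apply]
  have hb2 : ∀ i, b'' (Sum.inr i) = b (Sum.inl (Sum.inl i)) := by
    intro i; simp [b'', Module.Basis.reindex_apply]
  refine ⟨b''.equivFun, ?_⟩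
  have key : (sB m' F).comp b''.equivFun.toLinearMap b''.equivFun.toLinearMap = B := by
    apply LinearMap.BilinForm.ext_basis b''
    intro i j
    rw [LinearMap.BilinForm.comp_apply]
    simp only [LinearEquiv.coe_coe]
    have hes : ∀ i, b''.equivFun (b'' i) = Pi.single i 1 := by
      intro i
      funext j
      rw [b''.equivFun_self i j, Pi.single_apply]
      simp [eq_comm]
    rw [hes i, hes j, sB_apply, sympForm_single_single]
    rcases i with a | a <;> rcases j with c | c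
    · simp only [hb1]; rw [h3]
    · simp only [hb1, hb2]
      rw [← hA.neg_eq, h1]
      by_cases hac : a = c
      · subst hac; simp
      · simp [hac, Ne.symm hac]
    · simp only [hb1, hb2]; rw [h1]
    · simp only [hb2]; rw [h2]
  intro x y
  rw [← key]
  rfl

theorem sB_nondeg (m : ℕ) (x : Fin m ⊕ Fin m → F) (h : ∀ y, Cfsg.sympForm m F x y = 0) : x = 0 := by
  classical
  funext i
  rcases i with i | i
  · have := h (Pi.single (Sum.inr i) 1)
    rw [sympForm_single_inr] at this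
    simpa using this
  · have := h (Pi.single (Sum.inl i) 1)
    rw [sympForm_single_inl] at this
    simpa using this

section comp

variable {m k : ℕ} (U U' : Submodule F (Fin m ⊕ Fin m → F)) (hc : IsCompl U U')
  (φ : U ≃ₗ[F] (Fin k ⊕ Fin k → F))

/-- component matrix of `A` on `U` -/
noncomputable def cmp (A : Matrix (Fin m ⊕ Fin m) (Fin m ⊕ Fin m) F) :
    Matrix (Fin k ⊕ Fin k) (Fin k ⊕ Fin k) F :=
  LinearMap.toMatrix' (φ.toLinearMap ∘ₗ U.projectionOnto U' hc ∘ₗ Matrix.toLin' A ∘ₗ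
    U.subtype ∘ₗ φ.symm.toLinearMap)

theorem cmp_mulVec (A : Matrix (Fin m ⊕ Fin m) (Fin m ⊕ Fin m) F) (x : Fin k ⊕ Fin k → F) :
    cmp U U' hc φ A *ᵥ x =
      φ (U.projectionOnto U' hc (A *ᵥ (φ.symm x : Fin m ⊕ Fin m → F))) := by
  unfold cmp
  rw [← Matrix.toLin'_apply, Matrix.toLin'_toMatrix']
  rfl

theorem cmp_mulVec_of_mem (A : Matrix (Fin m ⊕ Fin m) (Fin m ⊕ Fin m) F)
    (hA : ∀ u ∈ U, A *ᵥ u ∈ U) (u : U) :
    cmp U U' hc φ A *ᵥ (φ u) = φ ⟨A *ᵥ (u : Fin m ⊕ Fin m → F), hA u u.2⟩ := by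
  rw [cmp_mulVec, LinearEquiv.symm_apply_apply,
    Submodule.projectionOnto_apply_of_mem_left hc (hA u u.2)]

theorem cmp_one : cmp U U' hc φ 1 = 1 := by
  apply matrix_ext_mulVec
  intro x
  rw [cmp_mulVec, Matrix.one_mulVec, Matrix.one_mulVec, Submodule.projectionOnto_apply_left,
    LinearEquiv.apply_symm_apply]

theorem cmp_mul (A B : Matrix (Fin m ⊕ Fin m) (Fin m ⊕ Fin m) F) (hB : ∀ u ∈ U, B *ᵥ u ∈ U) :
    cmp U U' hc φ (A * B) = cmp U U' hc φ A * cmp U U' hc φ B := by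
  apply matrix_ext_mulVec
  intro x
  rw [← Matrix.mulVec_mulVec]
  obtain ⟨u, rfl⟩ := φ.surjective x
  rw [cmp_mulVec_of_mem U U' hc φ B hB u, cmp_mulVec, cmp_mulVec, LinearEquiv.symm_apply_apply,
    LinearEquiv.symm_apply_apply, Matrix.mulVec_mulVec]

theorem cmp_mem (hφ : ∀ x y : U, Cfsg.sympForm k F (φ x) (φ y) = Cfsg.sympForm m F x y)
    (A : Matrix (Fin m ⊕ Fin m) (Fin m ⊕ Fin m) F) (hA : ∀ u ∈ U, A *ᵥ u ∈ U)
    (hAs : A ∈ Matrix.symplecticGroup (Fin m) F) :
    cmp U U' hc φ A ∈ Matrix.symplecticGroup (Fin k) F := by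
  rw [mem_symplecticGroup_iff_preserves]
  intro x y
  obtain ⟨u, rfl⟩ := φ.surjective x
  obtain ⟨v, rfl⟩ := φ.surjective y
  rw [cmp_mulVec_of_mem U U' hc φ A hA u, cmp_mulVec_of_mem U U' hc φ A hA v, hφ, hφ]
  exact (mem_symplecticGroup_iff_preserves A).mp hAs u v

end comp

/-- a stabilising symplectic matrix also stabilises the orthogonal complement -/
theorem stab_perp {m : ℕ} (W : Submodule F (Fin m ⊕ Fin m → F))
    (A : Matrix.symplecticGroup (Fin m) F)
    (hA : ∀ v, v ∈ W ↔ (A : Matrix (Fin m ⊕ Fin m) (Fin m ⊕ Fin m) F) *ᵥ v ∈ W) :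
    ∀ u ∈ (sB m F).orthogonal W,
      (A : Matrix (Fin m ⊕ Fin m) (Fin m ⊕ Fin m) F) *ᵥ u ∈ (sB m F).orthogonal W := by
  intro u hu
  rw [LinearMap.BilinForm.mem_orthogonal_iff] at hu ⊢
  intro w hw
  have hinv : (A : Matrix (Fin m ⊕ Fin m) (Fin m ⊕ Fin m) F) *ᵥ
      (((A⁻¹ : Matrix.symplecticGroup (Fin m) F) : Matrix (Fin m ⊕ Fin m) (Fin m ⊕ Fin m) F) *ᵥ w)
      = w := by
    rw [Matrix.mulVec_mulVec]
    have : (A : Matrix (Fin m ⊕ Fin m) (Fin m ⊕ Fin m) F) *
      ((A⁻¹ : Matrix.symplecticGroup (Fin m) F) : Matrix (Fin m ⊕ Fin m) (Fin m ⊕ Fin m) F) = 1 :=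
      congrArg Subtype.val (mul_inv_cancel A)
    rw [this, Matrix.one_mulVec]
  have hw' : ((A⁻¹ : Matrix.symplecticGroup (Fin m) F) :
      Matrix (Fin m ⊕ Fin m) (Fin m ⊕ Fin m) F) *ᵥ w ∈ W := by
    rw [hA, hinv]; exact hw
  have := hu _ hw'
  change Cfsg.sympForm m F _ _ = 0 at this
  change Cfsg.sympForm m F _ _ = 0
  rw [← hinv, preserves A]
  exact this

theorem result {F : Type*} [Field F] (m k : ℕ) (hk : k ≤ m) (W : Submodule F (Fin m ⊕ Fin m → F)) (hWk : Module.finrank F W = 2 * k) (hW : ∀ u ∈ W, (∀ v ∈ W, Cfsg.sympForm m F u v = 0) → u = 0) : Nonempty (↥(Cfsg.stabilizing (Cfsg.spToMat m F) (W : Set (Fin m ⊕ Fin m → F))) ≃* Matrix.symplecticGroup (Fin k) F × Matrix.symplecticGroup (Fin (m - k)) F) := by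
  classical
  have hrefl : (sB m F).IsRefl := (sB_alt m).isRefl
  have hnd : ((sB m F).restrict W).Nondegenerate := by
    have hr : ((sB m F).restrict W).IsRefl := fun x y h => hrefl _ _ h
    refine (LinearMap.IsRefl.nondegenerate_iff_separatingLeft hr).mpr ?_
    intro u hu
    apply Subtype.ext
    exact hW u u.2 (fun v hv => hu ⟨v, hv⟩)
  have hc : IsCompl W ((sB m F).orthogonal W) :=
    LinearMap.BilinForm.isCompl_orthogonal_of_restrict_nondegenerate hrefl hnd
  obtain ⟨Wp, hWp⟩ : ∃ Wp, Wp = (sB m F).orthogonal W := ⟨_, rfl⟩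
  rw [← hWp] at hc
  obtain ⟨φ₁, hφ₁⟩ := exists_std ((sB m F).restrict W) (fun x => sympForm_self _)
    (fun u hu => Subtype.ext (hW u u.2 (fun v hv => hu ⟨v, hv⟩))) k hWk
  have hdim : Module.finrank F Wp = 2 * (m - k) := by
    have h1 := Submodule.finrank_add_eq_of_isCompl hc
    rw [Module.finrank_pi, Fintype.card_sum, Fintype.card_fin] at h1
    omega
  have hmemWp : ∀ u, u ∈ Wp ↔ ∀ w ∈ W, Cfsg.sympForm m F w u = 0 := by
    intro u
    rw [hWp, LinearMap.BilinForm.mem_orthogonal_iff]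
    rfl
  have hsplit : ∀ x : Fin m ⊕ Fin m → F,
      ((W.projectionOnto Wp hc x : W) : Fin m ⊕ Fin m → F) +
        ((Wp.projectionOnto W hc.symm x : Wp) : Fin m ⊕ Fin m → F) = x := by
    intro x
    have := Submodule.projection_add_projection_eq_self hc x
    simpa using this
  obtain ⟨φ₂, hφ₂⟩ := exists_std ((sB m F).restrict Wp) (fun x => sympForm_self _)
    (by
      intro u hu
      apply Subtype.ext
      apply sB_nondeg m
      intro y
      rw [← hsplit y, sympForm_add_right]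
      have h1 : Cfsg.sympForm m F (u : Fin m ⊕ Fin m → F)
          ((W.projectionOnto Wp hc y : W) : Fin m ⊕ Fin m → F) = 0 := by
        rw [sympForm_swap, (hmemWp u).mp u.2 _ (Subtype.mem _), neg_zero]
      have h2 := hu (Wp.projectionOnto W hc.symm y)
      have h2' : Cfsg.sympForm m F (u : Fin m ⊕ Fin m → F)
          ((Wp.projectionOnto W hc.symm y : Wp) : Fin m ⊕ Fin m → F) = 0 := h2
      rw [h1, h2', add_zero]) (m - k) hdim
  have hφ₁' : ∀ x y : W, Cfsg.sympForm k F (φ₁ x) (φ₁ y) =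
      Cfsg.sympForm m F (x : Fin m ⊕ Fin m → F) (y : Fin m ⊕ Fin m → F) := hφ₁
  have hφ₂' : ∀ x y : Wp, Cfsg.sympForm (m - k) F (φ₂ x) (φ₂ y) =
      Cfsg.sympForm m F (x : Fin m ⊕ Fin m → F) (y : Fin m ⊕ Fin m → F) := hφ₂
  have hst1 : ∀ g : ↥(Cfsg.stabilizing (Cfsg.spToMat m F) (W : Set (Fin m ⊕ Fin m → F))),
      ∀ u ∈ W, ((g.1 : Matrix.symplecticGroup (Fin m) F) :
        Matrix (Fin m ⊕ Fin m) (Fin m ⊕ Fin m) F) *ᵥ u ∈ W := fun g u hu => (g.2 u).mp hu
  have hst2 : ∀ g : ↥(Cfsg.stabilizing (Cfsg.spToMat m F) (W : Set (Fin m ⊕ Fin m → F))),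
      ∀ u ∈ Wp, ((g.1 : Matrix.symplecticGroup (Fin m) F) :
        Matrix (Fin m ⊕ Fin m) (Fin m ⊕ Fin m) F) *ᵥ u ∈ Wp := by
    intro g u hu
    rw [hWp] at hu ⊢
    exact stab_perp W g.1 g.2 u hu
  let Φ : ↥(Cfsg.stabilizing (Cfsg.spToMat m F) (W : Set (Fin m ⊕ Fin m → F))) →*
      Matrix.symplecticGroup (Fin k) F × Matrix.symplecticGroup (Fin (m - k)) F :=
    { toFun := fun g =>
        (⟨cmp W Wp hc φ₁ ((g.1 : Matrix.symplecticGroup (Fin m) F) :
            Matrix (Fin m ⊕ Fin m) (Fin m ⊕ Fin m) F),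
          cmp_mem W Wp hc φ₁ hφ₁' _ (hst1 g) g.1.2⟩,
         ⟨cmp Wp W hc.symm φ₂ ((g.1 : Matrix.symplecticGroup (Fin m) F) :
            Matrix (Fin m ⊕ Fin m) (Fin m ⊕ Fin m) F),
          cmp_mem Wp W hc.symm φ₂ hφ₂' _ (hst2 g) g.1.2⟩)
      map_one' := by
        apply Prod.ext <;> apply Subtype.ext
        · exact cmp_one W Wp hc φ₁
        · exact cmp_one Wp W hc.symm φ₂
      map_mul' := fun g h => by
        apply Prod.ext <;> apply Subtype.ext
        · exact cmp_mul W Wp hc φ₁ _ _ (hst1 h)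
        · exact cmp_mul Wp W hc.symm φ₂ _ _ (hst2 h) }
  refine ⟨MulEquiv.ofBijective Φ ⟨?_, ?_⟩⟩
  · intro g h hgh
    have e1 : cmp W Wp hc φ₁ ((g.1 : Matrix.symplecticGroup (Fin m) F) :
            Matrix (Fin m ⊕ Fin m) (Fin m ⊕ Fin m) F) =
        cmp W Wp hc φ₁ ((h.1 : Matrix.symplecticGroup (Fin m) F) :
            Matrix (Fin m ⊕ Fin m) (Fin m ⊕ Fin m) F) :=
      congrArg (fun p => (p.1 : Matrix (Fin k ⊕ Fin k) (Fin k ⊕ Fin k) F)) hgh
    have e2 : cmp Wp W hc.symm φ₂ ((g.1 : Matrix.symplecticGroup (Fin m) F) :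
            Matrix (Fin m ⊕ Fin m) (Fin m ⊕ Fin m) F) =
        cmp Wp W hc.symm φ₂ ((h.1 : Matrix.symplecticGroup (Fin m) F) :
            Matrix (Fin m ⊕ Fin m) (Fin m ⊕ Fin m) F) :=
      congrArg (fun p => (p.2 : Matrix (Fin (m - k) ⊕ Fin (m - k)) (Fin (m - k) ⊕ Fin (m - k)) F)) hgh
    apply Subtype.ext
    apply Subtype.ext
    apply matrix_ext_mulVec
    intro x
    have hW1 : ∀ u : W, ((g.1 : Matrix.symplecticGroup (Fin m) F) :
            Matrix (Fin m ⊕ Fin m) (Fin m ⊕ Fin m) F) *ᵥ (u : Fin m ⊕ Fin m → F) =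
        ((h.1 : Matrix.symplecticGroup (Fin m) F) :
            Matrix (Fin m ⊕ Fin m) (Fin m ⊕ Fin m) F) *ᵥ (u : Fin m ⊕ Fin m → F) := by
      intro u
      have := congrArg (fun M => M *ᵥ (φ₁ u)) e1
      beta_reduce at this
      rw [cmp_mulVec_of_mem W Wp hc φ₁ _ (hst1 g) u, cmp_mulVec_of_mem W Wp hc φ₁ _ (hst1 h) u]
        at this
      exact congrArg Subtype.val (φ₁.injective this)
    have hW2 : ∀ u : Wp, ((g.1 : Matrix.symplecticGroup (Fin m) F) :
            Matrix (Fin m ⊕ Fin m) (Fin m ⊕ Fin m) F) *ᵥ (u : Fin m ⊕ Fin m → F) =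
        ((h.1 : Matrix.symplecticGroup (Fin m) F) :
            Matrix (Fin m ⊕ Fin m) (Fin m ⊕ Fin m) F) *ᵥ (u : Fin m ⊕ Fin m → F) := by
      intro u
      have := congrArg (fun M => M *ᵥ (φ₂ u)) e2
      beta_reduce at this
      rw [cmp_mulVec_of_mem Wp W hc.symm φ₂ _ (hst2 g) u,
        cmp_mulVec_of_mem Wp W hc.symm φ₂ _ (hst2 h) u] at this
      exact congrArg Subtype.val (φ₂.injective this)
    rw [← hsplit x, Matrix.mulVec_add, Matrix.mulVec_add, hW1, hW2]
  · rintro ⟨A₁, A₂⟩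
    let a₁ : (Fin m ⊕ Fin m → F) → W := fun x =>
      φ₁.symm ((A₁ : Matrix (Fin k ⊕ Fin k) (Fin k ⊕ Fin k) F) *ᵥ φ₁ (W.projectionOnto Wp hc x))
    let a₂ : (Fin m ⊕ Fin m → F) → Wp := fun x =>
      φ₂.symm ((A₂ : Matrix (Fin (m - k) ⊕ Fin (m - k)) (Fin (m - k) ⊕ Fin (m - k)) F) *ᵥ
        φ₂ (Wp.projectionOnto W hc.symm x))
    let h : (Fin m ⊕ Fin m → F) →ₗ[F] (Fin m ⊕ Fin m → F) :=
      W.subtype ∘ₗ φ₁.symm.toLinearMap ∘ₗ
          Matrix.toLin' (A₁ : Matrix (Fin k ⊕ Fin k) (Fin k ⊕ Fin k) F) ∘ₗ φ₁.toLinearMap ∘ₗ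
          W.projectionOnto Wp hc
      + Wp.subtype ∘ₗ φ₂.symm.toLinearMap ∘ₗ
          Matrix.toLin' (A₂ : Matrix (Fin (m - k) ⊕ Fin (m - k)) (Fin (m - k) ⊕ Fin (m - k)) F) ∘ₗ
          φ₂.toLinearMap ∘ₗ Wp.projectionOnto W hc.symm
    have hh : ∀ x, LinearMap.toMatrix' h *ᵥ x =
        (a₁ x : Fin m ⊕ Fin m → F) + (a₂ x : Fin m ⊕ Fin m → F) := by
      intro x
      rw [← Matrix.toLin'_apply, Matrix.toLin'_toMatrix']
      rfl
    have hform : ∀ x y, Cfsg.sympForm m F (LinearMap.toMatrix' h *ᵥ x) (LinearMap.toMatrix' h *ᵥ y)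
        = Cfsg.sympForm m F x y := by
      intro x y
      rw [hh, hh, sympForm_add_left, sympForm_add_right, sympForm_add_right]
      have c1 : Cfsg.sympForm m F (a₁ x : Fin m ⊕ Fin m → F) (a₂ y : Fin m ⊕ Fin m → F) = 0 :=
        (hmemWp _).mp (a₂ y).2 _ (a₁ x).2
      have c2 : Cfsg.sympForm m F (a₂ x : Fin m ⊕ Fin m → F) (a₁ y : Fin m ⊕ Fin m → F) = 0 := by
        rw [sympForm_swap, (hmemWp _).mp (a₂ x).2 _ (a₁ y).2, neg_zero]
      have d1 : Cfsg.sympForm m F (a₁ x : Fin m ⊕ Fin m → F) (a₁ y : Fin m ⊕ Fin m → F) =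
          Cfsg.sympForm m F ((W.projectionOnto Wp hc x : W) : Fin m ⊕ Fin m → F)
            ((W.projectionOnto Wp hc y : W) : Fin m ⊕ Fin m → F) := by
        rw [← hφ₁', ← hφ₁']
        simp only [a₁, LinearEquiv.apply_symm_apply]
        exact preserves A₁ _ _
      have d2 : Cfsg.sympForm m F (a₂ x : Fin m ⊕ Fin m → F) (a₂ y : Fin m ⊕ Fin m → F) =
          Cfsg.sympForm m F ((Wp.projectionOnto W hc.symm x : Wp) : Fin m ⊕ Fin m → F)
            ((Wp.projectionOnto W hc.symm y : Wp) : Fin m ⊕ Fin m → F) := by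
        rw [← hφ₂', ← hφ₂']
        simp only [a₂, LinearEquiv.apply_symm_apply]
        exact preserves A₂ _ _
      rw [c1, c2, d1, d2]
      conv_rhs => rw [← hsplit x, ← hsplit y]
      rw [sympForm_add_left, sympForm_add_right, sympForm_add_right]
      have c3 : Cfsg.sympForm m F ((W.projectionOnto Wp hc x : W) : Fin m ⊕ Fin m → F)
            ((Wp.projectionOnto W hc.symm y : Wp) : Fin m ⊕ Fin m → F) = 0 :=
        (hmemWp _).mp (Subtype.mem _) _ (Subtype.mem _)
      have c4 : Cfsg.sympForm m F ((Wp.projectionOnto W hc.symm x : Wp) : Fin m ⊕ Fin m → F)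
            ((W.projectionOnto Wp hc y : W) : Fin m ⊕ Fin m → F) = 0 := by
        rw [sympForm_swap, (hmemWp _).mp (Subtype.mem _) _ (Subtype.mem _), neg_zero]
      rw [c3, c4]
    have hmem : LinearMap.toMatrix' h ∈ Matrix.symplecticGroup (Fin m) F :=
      (mem_symplecticGroup_iff_preserves _).mpr hform
    have hstab : ∀ v, v ∈ W ↔ LinearMap.toMatrix' h *ᵥ v ∈ W := by
      intro v
      constructor
      · intro hv
        rw [hh]
        have e0 : Wp.projectionOnto W hc.symm v = 0 :=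
          (Submodule.projectionOnto_apply_eq_zero_iff hc.symm).mpr hv
        have e1 : a₂ v = 0 := by
          simp only [a₂, e0, map_zero, Matrix.mulVec_zero]
        rw [e1]
        simp
      · intro hv
        rw [hh] at hv
        have h2 : (a₂ v : Fin m ⊕ Fin m → F) ∈ W := by
          have := W.sub_mem hv (a₁ v).2
          simpa using this
        have h3 : (a₂ v : Fin m ⊕ Fin m → F) = 0 := by
          have h3' : (a₂ v : Fin m ⊕ Fin m → F) ∈ W ⊓ Wp := ⟨h2, (a₂ v).2⟩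
          rw [hc.inf_eq_bot] at h3'
          exact h3'
        have h4 : a₂ v = 0 := Subtype.ext h3
        have h5 : (A₂ : Matrix (Fin (m - k) ⊕ Fin (m - k)) (Fin (m - k) ⊕ Fin (m - k)) F) *ᵥ
            φ₂ (Wp.projectionOnto W hc.symm v) = 0 := by
          have := congrArg φ₂ h4
          simpa [a₂] using this
        have h6 : φ₂ (Wp.projectionOnto W hc.symm v) = 0 := by
          have := congrArg (fun z => ((A₂⁻¹ : Matrix.symplecticGroup (Fin (m - k)) F) :
            Matrix (Fin (m - k) ⊕ Fin (m - k)) (Fin (m - k) ⊕ Fin (m - k)) F) *ᵥ z) h5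
          simp only [Matrix.mulVec_mulVec, Matrix.mulVec_zero] at this
          have e : ((A₂⁻¹ : Matrix.symplecticGroup (Fin (m - k)) F) :
            Matrix (Fin (m - k) ⊕ Fin (m - k)) (Fin (m - k) ⊕ Fin (m - k)) F) *
            (A₂ : Matrix (Fin (m - k) ⊕ Fin (m - k)) (Fin (m - k) ⊕ Fin (m - k)) F) = 1 :=
            congrArg Subtype.val (inv_mul_cancel A₂)
          rw [e, Matrix.one_mulVec] at this
          exact this
        have h7 : Wp.projectionOnto W hc.symm v = 0 := by simpa using h6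
        exact (Submodule.projectionOnto_apply_eq_zero_iff hc.symm).mp h7
    refine ⟨⟨⟨LinearMap.toMatrix' h, hmem⟩, hstab⟩, ?_⟩
    apply Prod.ext <;> apply Subtype.ext
    · change cmp W Wp hc φ₁ (LinearMap.toMatrix' h) = A₁
      apply matrix_ext_mulVec
      intro x
      rw [cmp_mulVec, hh]
      have p1 : W.projectionOnto Wp hc ((φ₁.symm x : W) : Fin m ⊕ Fin m → F) = φ₁.symm x :=
        Submodule.projectionOnto_apply_left hc _
      have p2 : Wp.projectionOnto W hc.symm ((φ₁.symm x : W) : Fin m ⊕ Fin m → F) = 0 :=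
        Submodule.projectionOnto_apply_right hc.symm _
      have q2 : a₂ ((φ₁.symm x : W) : Fin m ⊕ Fin m → F) = 0 := by
        simp only [a₂, p2, map_zero, Matrix.mulVec_zero]
      rw [q2]
      simp only [ZeroMemClass.coe_zero, add_zero]
      rw [Submodule.projectionOnto_apply_left]
      simp only [a₁, p1, LinearEquiv.apply_symm_apply]
    · change cmp Wp W hc.symm φ₂ (LinearMap.toMatrix' h) = A₂
      apply matrix_ext_mulVec
      intro x
      rw [cmp_mulVec, hh]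
      have p1 : Wp.projectionOnto W hc.symm ((φ₂.symm x : Wp) : Fin m ⊕ Fin m → F) = φ₂.symm x :=
        Submodule.projectionOnto_apply_left hc.symm _
      have p2 : W.projectionOnto Wp hc ((φ₂.symm x : Wp) : Fin m ⊕ Fin m → F) = 0 :=
        Submodule.projectionOnto_apply_right hc _
      have q2 : a₁ ((φ₂.symm x : Wp) : Fin m ⊕ Fin m → F) = 0 := by
        simp only [a₁, p2, map_zero, Matrix.mulVec_zero]
      rw [q2]
      simp only [ZeroMemClass.coe_zero, zero_add]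
      rw [Submodule.projectionOnto_apply_left]
      simp only [a₂, p1, LinearEquiv.apply_symm_apply]

end Cfsg.Agent.S0776
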