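import Mathlib
import Cfsg.Statements.S0360
import Cfsg.Agent.Lib.Helper28.Octads
import Cfsg.Agent.Lib.Helper3.Steiner

set_option autoImplicit false
open Cfsg

namespace Cfsg.Agent.S0360

/-- There are exactly 759 octads (supports of weight-8 words) in the length-24 code. -/
theorem result : Cfsg.octads.ncard = 759 := by
  have hB := Cfsg.Agent.Lib.Helper28.octads_isSteinerSystem
  have h := Cfsg.Agent.Lib.Helper3.Steiner.card_blocks_containing hB ∅ (by simp)
  simp only [Finset.card_empty, Nat.sub_zero, Finset.empty_subset, Finset.filter_true] at h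
  rw [← Cfsg.Agent.Lib.Helper3.Steiner.card_blocksF]
  have hc : Fintype.card GolayPt = 24 := by rfl
  rw [hc] at h
  norm_num [Nat.choose] at h
  omega

end Cfsg.Agent.S0360
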