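import Mathlib
import Cfsg.Statements.S0361
import Cfsg.Agent.S0359
import Cfsg.Agent.S0360

set_option autoImplicit false
open Cfsg

namespace Cfsg.Agent.S0361

open Cfsg.Agent.Lib.Helper28 Finset

open Classical in
/-- the code words of weight `k` -/
noncomputable def wt (k : ℕ) : Finset (GolayPt → ZMod 2) :=
  Finset.univ.filter (fun w => w ∈ golayCode ∧ hammingNorm w = k)

lemma mem_wt {k : ℕ} {w : GolayPt → ZMod 2} : w ∈ wt k ↔ w ∈ golayCode ∧ hammingNorm w = k := by
  simp [wt]

lemma wordsOfWeight_eq (k : ℕ) :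
    wordsOfWeight (golayCode : Set (GolayPt → ZMod 2)) k = ((wt k).image bsupp : Finset _) := by
  ext b
  simp only [wordsOfWeight, supports, Set.mem_ofPred_eq, Set.mem_image, SetLike.mem_coe,
    coe_image, mem_coe, mem_wt]
  constructor
  · rintro ⟨⟨w, hw, rfl⟩, hk⟩
    refine ⟨w, ⟨hw, ?_⟩, (support₂_eq_bsupp w).symm⟩
    rw [hammingNorm_eq_card_bsupp, ← support₂_eq_bsupp]; exact hk
  · rintro ⟨w, ⟨hw, hk⟩, rfl⟩
    refine ⟨⟨w, hw, support₂_eq_bsupp w⟩, ?_⟩
    rw [← hammingNorm_eq_card_bsupp]; exact hk

lemma ncard_wordsOfWeight (k : ℕ) :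
    (wordsOfWeight (golayCode : Set (GolayPt → ZMod 2)) k).ncard = (wt k).card := by
  rw [wordsOfWeight_eq, Set.ncard_coe_finset, card_image_of_injective _ bsupp_injective]

lemma card_wt8 : (wt 8).card = 759 := by
  rw [← ncard_wordsOfWeight]
  exact Cfsg.Agent.S0360.result

lemma card_wt0 : (wt 0).card = 1 := by
  rw [card_eq_one]
  refine ⟨0, ?_⟩
  ext w
  rw [mem_wt, mem_singleton]
  constructor
  · rintro ⟨_, h⟩
    exact hammingNorm_eq_zero.1 h
  · rintro rfl
    exact ⟨Submodule.zero_mem _, hammingNorm_zero⟩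

lemma add_one_add_one (w : GolayPt → ZMod 2) : w + 1 + 1 = w := by
  ext i
  simp only [Pi.add_apply, Pi.one_apply]
  have : ∀ x : ZMod 2, x + 1 + 1 = x := by decide
  exact this _

lemma wt_compl (k k' : ℕ) (hk : k + k' = 24) : (wt k').card = (wt k).card := by
  have : wt k' = (wt k).image (fun w => w + 1) := by
    ext w
    rw [mem_image, mem_wt]
    constructor
    · rintro ⟨hw, hn⟩
      refine ⟨w + 1, ?_, add_one_add_one w⟩
      rw [mem_wt]
      refine ⟨Submodule.add_mem _ hw Cfsg.Agent.S0359.one_mem_golayCode, ?_⟩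
      have := Cfsg.Agent.S0359.hammingNorm_add_one w
      omega
    · rintro ⟨v, hv, rfl⟩
      rw [mem_wt] at hv
      refine ⟨Submodule.add_mem _ hv.1 Cfsg.Agent.S0359.one_mem_golayCode, ?_⟩
      have := Cfsg.Agent.S0359.hammingNorm_add_one v
      omega
  rw [this, card_image_of_injective]
  intro v w h
  have h' : v + 1 = w + 1 := h
  exact add_right_cancel h'

lemma card_wt16 : (wt 16).card = 759 := by
  rw [wt_compl 8 16 (by norm_num), card_wt8]

lemma card_wt24 : (wt 24).card = 1 := by
  rw [wt_compl 0 24 (by norm_num), card_wt0]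

open Classical in
lemma card_code : (Finset.univ.filter (fun w : GolayPt → ZMod 2 => w ∈ golayCode)).card = 4096 := by
  have h := golayCode_isGolayLike.card_code
  rw [← Fintype.card_subtype]
  have h' : Fintype.card {x // x ∈ golayCode} = Nat.card golayCode :=
    Nat.card_eq_fintype_card.symm
  rw [h', h]
  norm_num

/-- There are exactly 2576 dodecads (supports of weight-12 words) in the length-24 code. -/
theorem result : Cfsg.dodecads.ncard = 2576 := by
  classical
  unfold dodecads
  rw [ncard_wordsOfWeight]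
  have hfib := Finset.card_eq_sum_card_fiberwise
    (s := Finset.univ.filter (fun w : GolayPt → ZMod 2 => w ∈ golayCode))
    (t := ({0, 8, 12, 16, 24} : Finset ℕ)) (f := fun w => hammingNorm w) (by
      intro w hw
      rw [mem_coe, mem_filter] at hw
      have := Cfsg.Agent.S0359.result w hw.2
      simp only [coe_insert, coe_singleton, Set.mem_insert_iff, Set.mem_singleton_iff]
      exact this)
  have hwt : ∀ k, ((Finset.univ.filter (fun w : GolayPt → ZMod 2 => w ∈ golayCode)).filter
      (fun w => hammingNorm w = k)) = wt k := by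
    intro k
    ext w
    simp [mem_wt]
  simp only [hwt] at hfib
  rw [card_code] at hfib
  rw [sum_insert (by decide), sum_insert (by decide), sum_insert (by decide),
    sum_insert (by decide), sum_singleton, card_wt0, card_wt8, card_wt16, card_wt24] at hfib
  omega

end Cfsg.Agent.S0361
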