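import Cfsg.Statements.S0539
import Cfsg.Agent.S0538
import Mathlib

set_option autoImplicit false
open Cfsg
open scoped Pointwise

namespace Cfsg.Agent.S0539

universe u

/-- the join of a family of subnormal subgroups of a finite group is subnormal -/
theorem isSubnormal_sSup {G : Type*} [Group G] [Finite G] (S : Set (Subgroup G))
    (hS : ∀ U ∈ S, U.IsSubnormal) : (sSup S).IsSubnormal := by
  have hfin : S.Finite := Set.toFinite S
  induction S, hfin using Set.Finite.induction_on with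
  | empty => rw [sSup_empty]; exact Subgroup.IsSubnormal.bot
  | @insert a s _ _ ih =>
    rw [sSup_insert]
    exact Cfsg.Agent.S0538.result a (sSup s) (hS a (Set.mem_insert a s))
      (ih (fun U hU => hS U (Set.mem_insert_of_mem a hU)))

theorem mem_conj_smul_iff {G : Type*} [Group G] (x z : G) (A : Subgroup G) :
    z ∈ MulAut.conj x • A ↔ x⁻¹ * z * x ∈ A := by
  rw [Subgroup.mem_pointwise_smul_iff_inv_smul_mem]
  simp only [MulAut.smul_def, ← map_inv, MulAut.conj_apply, inv_inv]

/-- an element permuting a family by conjugation normalizes its join -/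
theorem mem_normalizer_sSup_of_perm {G : Type*} [Group G] (S : Set (Subgroup G)) (x : G)
    (h1 : ∀ A ∈ S, MulAut.conj x • A ∈ S) (h2 : ∀ A ∈ S, MulAut.conj x⁻¹ • A ∈ S) :
    x ∈ Subgroup.normalizer ((sSup S : Subgroup G) : Set G) := by
  have hmap : ∀ y : G, (∀ A ∈ S, MulAut.conj y • A ∈ S) →
      ∀ z ∈ sSup S, y * z * y⁻¹ ∈ sSup S := by
    intro y hy z hz
    rw [sSup_eq_iSup'] at hz
    refine Subgroup.iSup_induction (fun a : S => (a : Subgroup G))
      (C := fun z => y * z * y⁻¹ ∈ sSup S) hz ?_ ?_ ?_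
    · rintro ⟨A, hA⟩ z hz
      apply (le_sSup (hy A hA) : MulAut.conj y • A ≤ sSup S)
      rw [mem_conj_smul_iff]
      have : y⁻¹ * (y * z * y⁻¹) * y = z := by group
      rw [this]; exact hz
    · simp
    · intro a b iha ihb
      have : y * (a * b) * y⁻¹ = (y * a * y⁻¹) * (y * b * y⁻¹) := by group
      rw [this]; exact Subgroup.mul_mem _ iha ihb
  rw [Subgroup.mem_normalizer_iff]
  intro z
  refine ⟨hmap x h1 z, fun hz => ?_⟩
  have := hmap x⁻¹ h2 _ hz
  have e : x⁻¹ * (x * z * x⁻¹) * x⁻¹⁻¹ = z := by group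
  rwa [e] at this

theorem conj_smul_le_of_mem_normalizer {G : Type*} [Group G] {U K₁ : Subgroup G} {k : G}
    (hk : k ∈ Subgroup.normalizer (K₁ : Set G)) (hU : U ≤ K₁) : MulAut.conj k • U ≤ K₁ := by
  intro z hz
  rw [mem_conj_smul_iff] at hz
  have h1 := hU hz
  have h2 := (Subgroup.mem_normalizer_iff.mp hk _).mp h1
  have e : k * (k⁻¹ * z * k) * k⁻¹ = z := by group
  rwa [e] at h2

theorem aux {G : Type u} [Group G] [Finite G] (T₀ : Set (Subgroup G))
    (hJ : (sSup T₀).IsSubnormal) (n : ℕ) :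
    ∀ (K : Subgroup G), Nat.card K = n → ∀ (T : Set (Subgroup G)), (∀ U ∈ T, U ≤ K) →
      (∀ U ∈ T, ∀ k ∈ K, MulAut.conj k • U ∈ T) → T₀ ⊂ T →
      ∃ X ∈ T, X ∉ T₀ ∧ X ≤ Subgroup.normalizer ((sSup T₀ : Subgroup G) : Set G) := by
  induction n using Nat.strong_induction_on with
  | _ n ih =>
    intro K hcard T hle hconj hss
    set J := sSup T₀ with hJdef
    have hJK : J ≤ K := sSup_le (fun U hU => hle U (hss.1 hU))
    obtain ⟨X, hXT, hXT₀⟩ := Set.exists_of_ssubset hss
    by_cases hJeq : J = K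
    · exact ⟨X, hXT, hXT₀, (hle X hXT).trans (hJeq ▸ Subgroup.le_normalizer)⟩
    · have hsn : (J.subgroupOf K).IsSubnormal := hJ.subgroupOf
      have hne : J.subgroupOf K ≠ ⊤ := by
        intro h
        rw [Subgroup.subgroupOf_eq_top] at h
        exact hJeq (le_antisymm hJK h)
      obtain ⟨K₁', hK₁n, hJK₁', hK₁lt⟩ := hsn.exists_normal_and_le_and_lt_top_of_ne hne
      set K₁ := K₁'.map K.subtype with hK₁
      have hK₁K : K₁ ≤ K := Subgroup.map_subtype_le K₁'
      have hJK₁ : J ≤ K₁ := by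
        intro z hz
        exact ⟨⟨z, hJK hz⟩, hJK₁' (Subgroup.mem_subgroupOf.mpr hz), rfl⟩
      have hKnorm : K ≤ Subgroup.normalizer (K₁ : Set G) := by
        have h1 := Subgroup.le_normalizer_map (H := K₁') K.subtype
        rw [Subgroup.normalizer_eq_top_iff.mpr hK₁n, ← MonoidHom.range_eq_map,
          Subgroup.range_subtype] at h1
        exact h1
      have hK₁card : Nat.card K₁ < n := by
        rw [← hcard, hK₁,
          ← Nat.card_congr (Subgroup.equivMapOfInjective K₁' K.subtype K.subtype_injective).toEquiv]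
        have h1 := Subgroup.card_mul_index K₁'
        have h2 := Subgroup.one_lt_index_of_ne_top hK₁lt.ne
        have h3 : 0 < Nat.card K₁' := Nat.card_pos
        nlinarith
      set T₁ : Set (Subgroup G) := {U | U ∈ T ∧ U ≤ K₁} with hT₁
      have hT01 : T₀ ⊆ T₁ := fun U hU => ⟨hss.1 hU, (le_sSup hU).trans hJK₁⟩
      have hconj₁ : ∀ U ∈ T₁, ∀ k ∈ K, MulAut.conj k • U ∈ T₁ := fun U hU k hk =>
        ⟨hconj U hU.1 k hk, conj_smul_le_of_mem_normalizer (hKnorm hk) hU.2⟩
      by_cases heq : T₀ = T₁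
      · refine ⟨X, hXT, hXT₀, (hle X hXT).trans ?_⟩
        intro k hk
        apply mem_normalizer_sSup_of_perm
        · intro A hA
          rw [heq] at hA ⊢
          exact hconj₁ A hA k hk
        · intro A hA
          rw [heq] at hA ⊢
          exact hconj₁ A hA k⁻¹ (K.inv_mem hk)
      · have hss₁ : T₀ ⊂ T₁ := LE.le.ssubset_of_ne hT01 heq
        obtain ⟨Y, hY, hY0, hYn⟩ := ih _ hK₁card K₁ rfl T₁ (fun U hU => hU.2)
          (fun U hU k hk => hconj₁ U hU k (hK₁K hk)) hss₁
        exact ⟨Y, hY.1, hY0, hYn⟩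

/-- Let S be a family of subnormal subgroups of a finite group that is closed under conjugation, and S₀ a proper subfamily. Then some member of S not in S₀ normalizes the join of S₀. -/
theorem result {G : Type*} [Group G] [Finite G] (S S₀ : Set (Subgroup G)) (hS : ∀ U ∈ S, U.IsSubnormal) (hconj : ∀ U ∈ S, ∀ g : G, MulAut.conj g • U ∈ S) (h₀ : S₀ ⊂ S) : ∃ X ∈ S, X ∉ S₀ ∧ X ≤ Subgroup.normalizer ((sSup S₀ : Subgroup G) : Set G) := by
  have hJ : (sSup S₀).IsSubnormal := isSubnormal_sSup S₀ (fun U hU => hS U (h₀.1 hU))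
  exact aux S₀ hJ _ ⊤ rfl S (fun U _ => le_top) (fun U hU k _ => hconj U hU k) h₀

end Cfsg.Agent.S0539
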