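import Cfsg.Statements.S0540
import Cfsg.Agent.S0539
import Mathlib

set_option autoImplicit false
open Cfsg
open scoped Pointwise

namespace Cfsg.Agent.S0540

open Cfsg.Agent.S0539

universe u

/-- restricting relative subnormality to an intermediate subgroup -/
theorem subgroupOf_isSubnormal_of_le {G : Type*} [Group G] {J K₁ K : Subgroup G} (h : K₁ ≤ K)
    (hJ : (J.subgroupOf K).IsSubnormal) : (J.subgroupOf K₁).IsSubnormal := by
  have := hJ.comap (Subgroup.inclusion h)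
  have e : (J.subgroupOf K).comap (Subgroup.inclusion h) = J.subgroupOf K₁ := by
    ext x
    simp [Subgroup.mem_subgroupOf]
  rwa [e] at this

/-- relative version of the join theorem -/
theorem isSubnormal_sSup_subgroupOf {G : Type*} [Group G] [Finite G] (K : Subgroup G)
    (S : Set (Subgroup G)) (hS : ∀ B ∈ S, B ≤ K ∧ (B.subgroupOf K).IsSubnormal) :
    ((sSup S).subgroupOf K).IsSubnormal := by
  have hfin : S.Finite := Set.toFinite S
  induction S, hfin using Set.Finite.induction_on with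
  | empty => rw [sSup_empty, Subgroup.bot_subgroupOf]; exact Subgroup.IsSubnormal.bot
  | @insert a s _ _ ih =>
    have hs : ∀ B ∈ s, B ≤ K ∧ (B.subgroupOf K).IsSubnormal :=
      fun B hB => hS B (Set.mem_insert_of_mem a hB)
    rw [sSup_insert, Subgroup.subgroupOf_sup (hS a (Set.mem_insert a s)).1
      (sSup_le (fun B hB => (hs B hB).1))]
    exact Cfsg.Agent.S0538.result _ _ (hS a (Set.mem_insert a s)).2 (ih hs)

/-- relative form of the lemma on conjugation-closed families of subnormal subgroups -/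
theorem aux' {G : Type u} [Group G] [Finite G] (T₀ : Set (Subgroup G)) (n : ℕ) :
    ∀ (K : Subgroup G), Nat.card K = n → ((sSup T₀).subgroupOf K).IsSubnormal →
      ∀ (T : Set (Subgroup G)), (∀ U ∈ T, U ≤ K) →
      (∀ U ∈ T, ∀ k ∈ K, MulAut.conj k • U ∈ T) → T₀ ⊂ T →
      ∃ X ∈ T, X ∉ T₀ ∧ X ≤ Subgroup.normalizer ((sSup T₀ : Subgroup G) : Set G) := by
  induction n using Nat.strong_induction_on with
  | _ n ih =>
    intro K hcard hsn T hle hconj hss
    set J := sSup T₀ with hJdef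
    have hJK : J ≤ K := sSup_le (fun U hU => hle U (hss.1 hU))
    obtain ⟨X, hXT, hXT₀⟩ := Set.exists_of_ssubset hss
    by_cases hJeq : J = K
    · exact ⟨X, hXT, hXT₀, (hle X hXT).trans (hJeq ▸ Subgroup.le_normalizer)⟩
    · have hne : J.subgroupOf K ≠ ⊤ := by
        intro h
        rw [Subgroup.subgroupOf_eq_top] at h
        exact hJeq (le_antisymm hJK h)
      obtain ⟨K₁', hK₁n, hJK₁', hK₁lt⟩ := hsn.exists_normal_and_le_and_lt_top_of_ne hne
      set K₁ := K₁'.map K.subtype with hK₁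
      have hK₁K : K₁ ≤ K := Subgroup.map_subtype_le K₁'
      have hJK₁ : J ≤ K₁ := by
        intro z hz
        exact ⟨⟨z, hJK hz⟩, hJK₁' (Subgroup.mem_subgroupOf.mpr hz), rfl⟩
      have hKnorm : K ≤ Subgroup.normalizer (K₁ : Set G) := by
        have h1 := Subgroup.le_normalizer_map (H := K₁') K.subtype
        rw [Subgroup.normalizer_eq_top_iff.mpr hK₁n, ← MonoidHom.range_eq_map,
          Subgroup.range_subtype] at h1
        exact h1
      have hK₁card : Nat.card K₁ < n := by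
        rw [← hcard, hK₁,
          ← Nat.card_congr (Subgroup.equivMapOfInjective K₁' K.subtype K.subtype_injective).toEquiv]
        have h1 := Subgroup.card_mul_index K₁'
        have h2 := Subgroup.one_lt_index_of_ne_top hK₁lt.ne
        have h3 : 0 < Nat.card K₁' := Nat.card_pos
        nlinarith
      set T₁ : Set (Subgroup G) := {U | U ∈ T ∧ U ≤ K₁} with hT₁
      have hT01 : T₀ ⊆ T₁ := fun U hU => ⟨hss.1 hU, (le_sSup hU).trans hJK₁⟩
      have hconj₁ : ∀ U ∈ T₁, ∀ k ∈ K, MulAut.conj k • U ∈ T₁ := fun U hU k hk =>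
        ⟨hconj U hU.1 k hk, conj_smul_le_of_mem_normalizer (hKnorm hk) hU.2⟩
      by_cases heq : T₀ = T₁
      · refine ⟨X, hXT, hXT₀, (hle X hXT).trans ?_⟩
        intro k hk
        apply mem_normalizer_sSup_of_perm
        · intro A hA
          rw [heq] at hA ⊢
          exact hconj₁ A hA k hk
        · intro A hA
          rw [heq] at hA ⊢
          exact hconj₁ A hA k⁻¹ (K.inv_mem hk)
      · have hss₁ : T₀ ⊂ T₁ := LE.le.ssubset_of_ne hT01 heq
        obtain ⟨Y, hY, hY0, hYn⟩ := ih _ hK₁card K₁ rfl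
          (subgroupOf_isSubnormal_of_le hK₁K hsn) T₁ (fun U hU => hU.2)
          (fun U hU k hk => hconj₁ U hU k (hK₁K hk)) hss₁
        exact ⟨Y, hY.1, hY0, hYn⟩

/-- conjugation by an element of `V` commutes with `subgroupOf V` -/
theorem conj_smul_subgroupOf {G : Type*} [Group G] (V B : Subgroup G) (k : G) (hk : k ∈ V) :
    (MulAut.conj k • B).subgroupOf V = MulAut.conj (⟨k, hk⟩ : V) • (B.subgroupOf V) := by
  ext x
  rw [Subgroup.mem_subgroupOf, mem_conj_smul_iff, mem_conj_smul_iff, Subgroup.mem_subgroupOf]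
  rfl

section zipper

variable {G : Type u} [Group G] [Finite G] (A : Subgroup G) (U : Set (Subgroup G))
  (S : Subgroup G → Set (Subgroup G))
  (hS : ∀ V B : Subgroup G, B ∈ S V ↔ (∃ g : G, B = MulAut.conj g • A) ∧ B ≤ V ∧
    (B.subgroupOf V).IsSubnormal)
  (h2 : ∀ V ∈ U, ∀ W ∈ U, ∀ B ∈ S W, B ≤ V → B ∈ S V)

omit [Finite G] in
include hS in
theorem S_conj (V B : Subgroup G) (hB : B ∈ S V) (k : G) (hk : k ∈ V) :
    MulAut.conj k • B ∈ S V := by
  rw [hS] at hB ⊢
  obtain ⟨⟨g, rfl⟩, hBV, hsn⟩ := hB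
  refine ⟨⟨k * g, by rw [map_mul, mul_smul]⟩, ?_, ?_⟩
  · intro z hz
    rw [mem_conj_smul_iff] at hz
    have := hBV hz
    have e : z = k * (k⁻¹ * z * k) * k⁻¹ := by group
    rw [e]
    exact V.mul_mem (V.mul_mem hk this) (V.inv_mem hk)
  · rw [conj_smul_subgroupOf V _ k hk]
    exact hsn.smul _

omit [Finite G] in
include hS in
theorem S_le (V B : Subgroup G) (hB : B ∈ S V) : B ≤ V := ((hS V B).mp hB).2.1

include hS in
/-- if `T₀ = S V` then `V` normalizes the join of `T₀` -/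
theorem le_normalizer_sSup_S (V : Subgroup G) :
    V ≤ Subgroup.normalizer ((sSup (S V) : Subgroup G) : Set G) := by
  intro k hk
  apply mem_normalizer_sSup_of_perm
  · intro B hB; exact S_conj A S hS V B hB k hk
  · intro B hB; exact S_conj A S hS V B hB k⁻¹ (V.inv_mem hk)

include hS h2 in
/-- the key step of the zipper argument -/
theorem key (M M' M₃ : Subgroup G) (hM : M ∈ U) (hM₃ : M₃ ∈ U)
    (hMmax : ∀ V ∈ U, M ≤ V → V = M)
    (hN : Subgroup.normalizer ((sSup (S M ∩ S M') : Subgroup G) : Set G) ≤ M₃)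
    (hbig : M ≠ M₃ → (S M ∩ S M₃).ncard ≤ (S M ∩ S M').ncard) : M = M₃ := by
  set T₀ := S M ∩ S M' with hT₀
  set J := sSup T₀ with hJ
  have hT₀le : ∀ B ∈ T₀, B ≤ M₃ := fun B hB =>
    ((le_sSup hB : B ≤ J).trans Subgroup.le_normalizer).trans hN
  have hT₀S₃ : T₀ ⊆ S M ∩ S M₃ := fun B hB =>
    ⟨hB.1, h2 M₃ hM₃ M hM B hB.1 (hT₀le B hB)⟩
  by_cases heq : T₀ = S M
  · -- M normalizes J
    have h1 : M ≤ M₃ := by
      have := le_normalizer_sSup_S A S hS M
      rw [← heq] at this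
      exact this.trans hN
    exact (hMmax M₃ hM₃ h1).symm
  · have hss : T₀ ⊂ S M := LE.le.ssubset_of_ne Set.inter_subset_left heq
    have hsn : (J.subgroupOf M).IsSubnormal :=
      isSubnormal_sSup_subgroupOf M T₀ (fun B hB =>
        ⟨S_le A S hS M B hB.1, ((hS M B).mp hB.1).2.2⟩)
    obtain ⟨Y, hYS, hYT₀, hYn⟩ := aux' T₀ _ M rfl hsn (S M) (fun B hB => S_le A S hS M B hB)
      (fun B hB k hk => S_conj A S hS M B hB k hk) hss
    by_contra hne
    have hYM₃ : Y ∈ S M₃ := h2 M₃ hM₃ M hM Y hYS (hYn.trans hN)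
    have hsub : insert Y T₀ ⊆ S M ∩ S M₃ := by
      intro B hB
      rcases hB with rfl | hB
      · exact ⟨hYS, hYM₃⟩
      · exact hT₀S₃ hB
    have hcard : T₀.ncard < (S M ∩ S M₃).ncard := by
      calc T₀.ncard < (insert Y T₀).ncard := by
            rw [Set.ncard_insert_of_notMem hYT₀ (Set.toFinite _)]; exact Nat.lt_succ_self _
        _ ≤ (S M ∩ S M₃).ncard := Set.ncard_le_ncard hsub (Set.toFinite _)
    have := hbig hne
    omega

end zipper

/-- A uniqueness lemma of zipper type. Let A be a subgroup of a finite group G and U a nonempty family of subgroups. For V in U write S(V) for the set of conjugates of A that lie in V and are subnormal in V. Assume: A belongs to S(V) for every V in U; a member of some S(W) that lies in V belongs to S(V); and for all V, W in U the normalizer of the join of S(V) ∩ S(W) lies in some member of U. Then U has a greatest element. -/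
theorem result {G : Type*} [Group G] [Finite G] (A : Subgroup G) (U : Set (Subgroup G)) (hU : U.Nonempty) (S : Subgroup G → Set (Subgroup G)) (hS : ∀ V B : Subgroup G, B ∈ S V ↔ (∃ g : G, B = MulAut.conj g • A) ∧ B ≤ V ∧ (B.subgroupOf V).IsSubnormal) (h1 : ∀ V ∈ U, A ∈ S V) (h2 : ∀ V ∈ U, ∀ W ∈ U, ∀ B ∈ S W, B ≤ V → B ∈ S V) (h3 : ∀ V ∈ U, ∀ W ∈ U, ∃ X ∈ U, Subgroup.normalizer ((sSup (S V ∩ S W) : Subgroup G) : Set G) ≤ X) : ∃ M ∈ U, ∀ V ∈ U, V ≤ M := by
  have hUfin : U.Finite := Set.toFinite U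
  -- it suffices that any two maximal elements coincide
  suffices hmain : ∀ M₁ M₂ : Subgroup G, Maximal (· ∈ U) M₁ → Maximal (· ∈ U) M₂ → M₁ = M₂ by
    obtain ⟨V₀, hV₀⟩ := hU
    obtain ⟨M, -, hM⟩ := hUfin.exists_le_maximal hV₀
    refine ⟨M, hM.1, fun V hV => ?_⟩
    obtain ⟨M', hVM', hM'⟩ := hUfin.exists_le_maximal hV
    rw [hmain M M' hM hM']
    exact hVM'
  by_contra hcon
  push Not at hcon
  set P : Set (Subgroup G × Subgroup G) :=
    {q | Maximal (· ∈ U) q.1 ∧ Maximal (· ∈ U) q.2 ∧ q.1 ≠ q.2} with hP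
  have hPne : P.Nonempty := by
    obtain ⟨M₁, M₂, hM₁, hM₂, hne⟩ := hcon
    exact ⟨(M₁, M₂), hM₁, hM₂, hne⟩
  obtain ⟨⟨M₁, M₂⟩, ⟨hM₁, hM₂, hne⟩, hmax⟩ :=
    Set.Finite.exists_maximalFor (fun q : Subgroup G × Subgroup G => (S q.1 ∩ S q.2).ncard) P
      (Set.toFinite P) hPne
  simp only at hM₁ hM₂ hne
  have hbig : ∀ N₁ N₂ : Subgroup G, Maximal (· ∈ U) N₁ → Maximal (· ∈ U) N₂ → N₁ ≠ N₂ →
      (S N₁ ∩ S N₂).ncard ≤ (S M₁ ∩ S M₂).ncard := by
    intro N₁ N₂ hN₁ hN₂ hN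
    have hq : (N₁, N₂) ∈ P := ⟨hN₁, hN₂, hN⟩
    rcases le_total (S N₁ ∩ S N₂).ncard (S M₁ ∩ S M₂).ncard with h | h
    · exact h
    · exact hmax hq h
  obtain ⟨X, hXU, hX⟩ := h3 M₁ hM₁.1 M₂ hM₂.1
  obtain ⟨M₃, hXM₃, hM₃⟩ := hUfin.exists_le_maximal hXU
  have hmaxeq : ∀ M : Subgroup G, Maximal (· ∈ U) M → ∀ V ∈ U, M ≤ V → V = M :=
    fun M hM V hV hMV => le_antisymm (hM.2 hV hMV) hMV
  have e1 : M₁ = M₃ := key A U S hS h2 M₁ M₂ M₃ hM₁.1 hM₃.1 (hmaxeq M₁ hM₁) (hX.trans hXM₃)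
    (fun h => hbig M₁ M₃ hM₁ hM₃ h)
  have e2 : M₂ = M₃ := by
    refine key A U S hS h2 M₂ M₁ M₃ hM₂.1 hM₃.1 (hmaxeq M₂ hM₂) ?_ ?_
    · rw [Set.inter_comm]; exact hX.trans hXM₃
    · intro h
      rw [Set.inter_comm (S M₂) (S M₁)]
      exact hbig M₂ M₃ hM₂ hM₃ h
  exact hne (e1.trans e2.symm)

end Cfsg.Agent.S0540
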