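import Cfsg.Statements.S4333
import Cfsg.Agent.S0540
import Cfsg.Agent.Lib.Helper1.Basic

set_option autoImplicit false
open Cfsg

namespace Cfsg.Agent.S4333

open Subgroup
open scoped Pointwise

universe u

section aux

variable {G : Type u} [Group G]

theorem mem_conj_iff (g x : G) (H : Subgroup G) : x ∈ MulAut.conj g • H ↔ g⁻¹ * x * g ∈ H := by
  rw [Subgroup.mem_pointwise_smul_iff_inv_smul_mem, ← map_inv, MulAut.smul_def, MulAut.conj_apply,
    inv_inv]

/-- Transport of relative subnormality under conjugation. -/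
theorem isSubnormal_conj {A V : Subgroup G} (g : G) (h : (A.subgroupOf V).IsSubnormal) :
    ((MulAut.conj g • A).subgroupOf (MulAut.conj g • V)).IsSubnormal := by
  let f : ↥(MulAut.conj g • V) →* ↥V :=
    { toFun := fun x => ⟨g⁻¹ * (x : G) * g, (mem_conj_iff g x V).mp x.2⟩
      map_one' := by apply Subtype.ext; simp
      map_mul' := by
        intro x y
        apply Subtype.ext
        simp only [Subgroup.coe_mul]
        group }
  have h1 := h.comap f
  have e : (A.subgroupOf V).comap f = (MulAut.conj g • A).subgroupOf (MulAut.conj g • V) := by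
    ext x
    rw [Subgroup.mem_comap, Subgroup.mem_subgroupOf, Subgroup.mem_subgroupOf, mem_conj_iff]
    exact Iff.rfl
  rwa [e] at h1

/-- Relative subnormality inside an intermediate ambient subgroup. -/
theorem isSubnormal_subgroupOf_subgroupOf {A T H : Subgroup G}
    (h : (A.subgroupOf T).IsSubnormal) :
    ((A.subgroupOf H).subgroupOf (T.subgroupOf H)).IsSubnormal := by
  let f : ↥(T.subgroupOf H) →* ↥T :=
    { toFun := fun x => ⟨((x : ↥H) : G), x.2⟩
      map_one' := rfl
      map_mul' := fun _ _ => rfl }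
  have h1 := h.comap f
  have e : (A.subgroupOf T).comap f = (A.subgroupOf H).subgroupOf (T.subgroupOf H) := by
    ext x
    rfl
  rwa [e] at h1

end aux

section zipper

variable {G : Type u} [Group G] [Finite G]

/-- Wielandt's zipper lemma. -/
theorem zipper (A : Subgroup G) (hA : ¬ A.IsSubnormal)
    (hprop : ∀ H : Subgroup G, A ≤ H → H ≠ ⊤ → (A.subgroupOf H).IsSubnormal) :
    ∃ M : Subgroup G, A ≤ M ∧ M ≠ ⊤ ∧ ∀ H : Subgroup G, A ≤ H → H ≠ ⊤ → H ≤ M := by
  set U : Set (Subgroup G) := {H | A ≤ H ∧ H ≠ ⊤} with hU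
  set S : Subgroup G → Set (Subgroup G) := fun V =>
    {B | (∃ g : G, B = MulAut.conj g • A) ∧ B ≤ V ∧ (B.subgroupOf V).IsSubnormal} with hS
  have hAtop : A ≠ ⊤ := fun h => hA (h ▸ Subgroup.IsSubnormal.top)
  have hUne : U.Nonempty := ⟨A, le_rfl, hAtop⟩
  have h1 : ∀ V ∈ U, A ∈ S V := by
    intro V hV
    exact ⟨⟨1, by rw [map_one, one_smul]⟩, hV.1, hprop V hV.1 hV.2⟩
  have h2 : ∀ V ∈ U, ∀ W ∈ U, ∀ B ∈ S W, B ≤ V → B ∈ S V := by
    rintro V hV W - B ⟨⟨g, rfl⟩, -, -⟩ hBV
    refine ⟨⟨g, rfl⟩, hBV, ?_⟩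
    -- `A ≤ g⁻¹ • V`, a proper subgroup
    have hAV' : A ≤ MulAut.conj g⁻¹ • V := by
      intro a ha
      rw [mem_conj_iff, inv_inv]
      apply hBV
      rw [mem_conj_iff]
      have : g⁻¹ * (g * a * g⁻¹) * g = a := by group
      rw [this]; exact ha
    have hV'top : MulAut.conj g⁻¹ • V ≠ ⊤ := by
      intro h
      apply hV.2
      rw [eq_top_iff]
      intro x _
      have h3 : g⁻¹ * x * g ∈ MulAut.conj g⁻¹ • V := by rw [h]; exact Subgroup.mem_top _
      rw [mem_conj_iff, inv_inv] at h3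
      have h4 : g * (g⁻¹ * x * g) * g⁻¹ = x := by group
      rwa [h4] at h3
    have h5 := isSubnormal_conj g (hprop _ hAV' hV'top)
    rwa [map_inv, smul_inv_smul] at h5
  have h3 : ∀ V ∈ U, ∀ W ∈ U, ∃ X ∈ U,
      Subgroup.normalizer ((sSup (S V ∩ S W) : Subgroup G) : Set G) ≤ X := by
    intro V hV W hW
    set J : Subgroup G := sSup (S V ∩ S W) with hJ
    have hAJ : A ≤ J := le_sSup ⟨h1 V hV, h1 W hW⟩
    have hJV : J ≤ V := sSup_le (fun B hB => hB.1.2.1)
    refine ⟨Subgroup.normalizer (J : Set G), ⟨hAJ.trans Subgroup.le_normalizer, ?_⟩, le_rfl⟩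
    intro htop
    apply hA
    have hJn : J.Normal := Subgroup.normalizer_eq_top_iff.mp htop
    have hAJs : (A.subgroupOf J).IsSubnormal :=
      Cfsg.Agent.S0540.subgroupOf_isSubnormal_of_le hJV (hprop V hV.1 hV.2)
    exact Subgroup.IsSubnormal.trans hAJ hAJs hJn.isSubnormal
  obtain ⟨M, hMU, hM⟩ := Cfsg.Agent.S0540.result A U hUne S (fun V B => Iff.rfl) h1 h2 h3
  exact ⟨M, hMU.1, hMU.2, fun H hAH hH => hM H ⟨hAH, hH⟩⟩

end zipper

section main

theorem main_aux : ∀ (n : ℕ) (G : Type u) [Group G] [Finite G], Nat.card G = n →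
    ∀ A : Subgroup G,
      (∀ a ∈ A, ∀ g : G, (A.subgroupOf (A ⊔ MulAut.conj (g⁻¹ * a * g) • A)).IsSubnormal) →
      A.IsSubnormal := by
  intro n
  induction n using Nat.strong_induction_on with
  | _ n ih =>
  intro G _ _ hn A h
  by_contra hA
  -- Step 1: `A` is subnormal in every proper subgroup containing it
  have hprop : ∀ H : Subgroup G, A ≤ H → H ≠ ⊤ → (A.subgroupOf H).IsSubnormal := by
    intro H hAH hH
    have hlt : Nat.card H < n := by
      rw [← hn]
      exact Cfsg.Agent.Lib.Helper1.card_subgroup_lt_of_ne_top hH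
    apply ih (Nat.card H) hlt ↥H rfl (A.subgroupOf H)
    intro a' ha' g'
    set x : G := (g' : G)⁻¹ * (a' : G) * (g' : G) with hx
    have hxH : x ∈ H := H.mul_mem (H.mul_mem (H.inv_mem g'.2) a'.2) g'.2
    have hx' : g'⁻¹ * a' * g' = (⟨x, hxH⟩ : ↥H) := Subtype.ext rfl
    have hconjH : MulAut.conj x • A ≤ H := by
      intro y hy
      rw [mem_conj_iff] at hy
      have h1 : y = x * (x⁻¹ * y * x) * x⁻¹ := by group
      rw [h1]
      exact H.mul_mem (H.mul_mem hxH (hAH hy)) (H.inv_mem hxH)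
    have e : A.subgroupOf H ⊔ MulAut.conj (g'⁻¹ * a' * g') • A.subgroupOf H =
        (A ⊔ MulAut.conj x • A).subgroupOf H := by
      rw [Subgroup.subgroupOf_sup hAH hconjH, hx',
        Cfsg.Agent.S0540.conj_smul_subgroupOf H A x hxH]
    rw [e]
    exact isSubnormal_subgroupOf_subgroupOf (h (a' : G) ha' (g' : G))
  -- Step 2: the zipper lemma
  obtain ⟨M, hAM, hMtop, hM⟩ := zipper A hA hprop
  -- Step 3: conjugates of elements of `A` normalize `M`
  have hnorm : ∀ a ∈ A, ∀ g : G, g⁻¹ * a * g ∈ Subgroup.normalizer (M : Set G) := by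
    intro a ha g
    set x : G := g⁻¹ * a * g with hx
    have hT : A ⊔ MulAut.conj x • A ≠ ⊤ := by
      intro htop
      apply hA
      have h1 := h a ha g
      rw [← hx, htop] at h1
      exact Subgroup.IsSubnormal.trans le_top h1 Subgroup.IsSubnormal.top
    have hTM := hM _ le_sup_left hT
    have hxAM : MulAut.conj x • A ≤ M := le_sup_right.trans hTM
    have hAxM : A ≤ MulAut.conj x⁻¹ • M := by
      intro b hb
      rw [mem_conj_iff, inv_inv]
      apply hxAM
      rw [mem_conj_iff]
      have : x⁻¹ * (x * b * x⁻¹) * x = b := by group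
      rw [this]; exact hb
    have hxMtop : MulAut.conj x⁻¹ • M ≠ ⊤ := by
      intro h1
      apply hMtop
      rw [eq_top_iff]
      intro y _
      have h3 : x⁻¹ * y * x ∈ MulAut.conj x⁻¹ • M := by rw [h1]; exact Subgroup.mem_top _
      rw [mem_conj_iff, inv_inv] at h3
      have h4 : x * (x⁻¹ * y * x) * x⁻¹ = y := by group
      rwa [h4] at h3
    have hle : MulAut.conj x⁻¹ • M ≤ M := hM _ hAxM hxMtop
    have hcard : Nat.card ↥(MulAut.conj x⁻¹ • M) = Nat.card M :=
      (Nat.card_congr (Subgroup.equivSMul (MulAut.conj x⁻¹) M).toEquiv).symm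
    have heq : MulAut.conj x⁻¹ • M = M :=
      Subgroup.eq_of_le_of_card_ge hle (by rw [hcard])
    have hxinv : x⁻¹ ∈ Subgroup.normalizer (M : Set G) := by
      rw [Subgroup.mem_normalizer_iff]
      intro m
      constructor
      · intro hm
        have h5 : x⁻¹ * m * x⁻¹⁻¹ ∈ MulAut.conj x⁻¹ • M := by
          rw [mem_conj_iff]
          have : x⁻¹⁻¹ * (x⁻¹ * m * x⁻¹⁻¹) * x⁻¹ = m := by group
          rw [this]; exact hm
        rwa [heq] at h5
      · intro hm
        rw [← heq, mem_conj_iff] at hm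
        have : x⁻¹⁻¹ * (x⁻¹ * m * x⁻¹⁻¹) * x⁻¹ = m := by group
        rwa [this] at hm
    have := inv_mem hxinv
    rwa [inv_inv] at this
  -- Step 4: the normal closure of `A` normalizes `M`
  have hC : Subgroup.normalClosure (A : Set G) ≤ Subgroup.normalizer (M : Set G) := by
    rw [Subgroup.normalClosure, Subgroup.closure_le]
    intro y hy
    rw [Group.mem_conjugatesOfSet_iff] at hy
    obtain ⟨a, ha, hay⟩ := hy
    rw [isConj_iff] at hay
    obtain ⟨c, rfl⟩ := hay
    have := hnorm a ha c⁻¹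
    rwa [inv_inv] at this
  have hAM' : (A.subgroupOf M).IsSubnormal := hprop M hAM hMtop
  by_cases hN : Subgroup.normalizer (M : Set G) = ⊤
  · have hMn : M.Normal := Subgroup.normalizer_eq_top_iff.mp hN
    exact hA (Subgroup.IsSubnormal.trans hAM hAM' hMn.isSubnormal)
  · have hNM : Subgroup.normalizer (M : Set G) ≤ M := hM _ (hAM.trans Subgroup.le_normalizer) hN
    have hCM : Subgroup.normalClosure (A : Set G) ≤ M := hC.trans hNM
    have hAC : A ≤ Subgroup.normalClosure (A : Set G) := Subgroup.le_normalClosure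
    have h1 : (A.subgroupOf (Subgroup.normalClosure (A : Set G))).IsSubnormal :=
      Cfsg.Agent.S0540.subgroupOf_isSubnormal_of_le hCM hAM'
    exact hA (Subgroup.IsSubnormal.trans hAC h1 Subgroup.normalClosure_normal.isSubnormal)

end main

/-- Let A be a subgroup of a finite group G. If A is subnormal in the subgroup generated by A and its conjugate by g⁻¹ a g, for every a ∈ A and every g ∈ G, then A is subnormal in G. (A sharpening of Wielandt's subnormality criterion: only conjugates of A by conjugates of elements of A are needed.) -/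
theorem result {G : Type*} [Group G] [Finite G]
    (A : Subgroup G)
    (h : ∀ a ∈ A, ∀ g : G, (A.subgroupOf (A ⊔ MulAut.conj (g⁻¹ * a * g) • A)).IsSubnormal) :
    A.IsSubnormal :=
  main_aux (Nat.card G) G rfl A h

end Cfsg.Agent.S4333
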