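import Cfsg.Statements.S3927
import Cfsg.Agent.Lib.Helper16.EngelGen

set_option autoImplicit false
open Cfsg

namespace Cfsg.Agent.S3927

open Cfsg.Agent.Lib.Helper16.EngelGen

section

variable {G : Type*} [Group G] (α : MulAut G)

/-- the semidirect product of `G` with the cyclic group generated by `α` -/
abbrev Gam : Type _ :=
  SemidirectProduct G ↥(Subgroup.zpowers α) (Subgroup.zpowers α).subtype

/-- the element of the semidirect product corresponding to `α` -/
def gα : ↥(Subgroup.zpowers α) := ⟨α, Subgroup.mem_zpowers α⟩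

/-- `α` as an element of the semidirect product -/
def aa : Gam α := SemidirectProduct.inr (gα α)

theorem zcomm (z : ↥(Subgroup.zpowers α)) : (z : MulAut G) * α = α * (z : MulAut G) := by
  obtain ⟨i, hi⟩ := Subgroup.mem_zpowers_iff.mp z.2
  rw [← hi]
  exact ((Commute.refl α).zpow_left i).eq

theorem phi_comm (z : MulAut G) (hz : z * α = α * z) (c : G) :
    z (c * (α c)⁻¹) = z c * (α (z c))⁻¹ := by
  have h1 : z (α c) = α (z c) := by
    have h2 := DFunLike.congr_fun hz c
    simpa [MulAut.mul_apply] using h2
  rw [map_mul, map_inv, h1]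

theorem phi_iter_comm (z : MulAut G) (hz : z * α = α * z) (k : ℕ) (c : G) :
    z ((fun c : G => c * (α c)⁻¹)^[k] c) = (fun c : G => c * (α c)⁻¹)^[k] (z c) := by
  induction k with
  | zero => rfl
  | succ k ih =>
    rw [Function.iterate_succ_apply', Function.iterate_succ_apply', ← ih]
    exact phi_comm α z hz _

theorem inr_conj (z : ↥(Subgroup.zpowers α)) :
    (SemidirectProduct.inr z : Gam α) * aa α * (SemidirectProduct.inr z)⁻¹ = aa α := by
  unfold aa
  rw [← map_inv, ← map_mul, ← map_mul]
  congr 1
  apply Subtype.ext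
  show (z : MulAut G) * α * (z : MulAut G)⁻¹ = α
  rw [zcomm α z, mul_inv_cancel_right]

theorem aa_conj (n : G) :
    aa α * (SemidirectProduct.inl n : Gam α) * (aa α)⁻¹ = SemidirectProduct.inl (α n) := by
  unfold aa
  rw [← map_inv]
  exact (SemidirectProduct.inl_aut (gα α) n).symm

theorem key1 (n : G) (z : ↥(Subgroup.zpowers α)) :
    psi (aa α) ((SemidirectProduct.inl n : Gam α) * SemidirectProduct.inr z) =
      SemidirectProduct.inl (n * (α n)⁻¹) * aa α := by
  have e2 := aa_conj α n⁻¹
  calc psi (aa α) ((SemidirectProduct.inl n : Gam α) * SemidirectProduct.inr z)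
      = SemidirectProduct.inl n * (SemidirectProduct.inr z * aa α * (SemidirectProduct.inr z)⁻¹) *
          (SemidirectProduct.inl n)⁻¹ := by
        unfold psi
        group
    _ = SemidirectProduct.inl n * aa α * (SemidirectProduct.inl n)⁻¹ := by rw [inr_conj]
    _ = SemidirectProduct.inl n * (aa α * SemidirectProduct.inl n⁻¹ * (aa α)⁻¹) * aa α := by
        rw [map_inv]
        group
    _ = SemidirectProduct.inl (n * (α n)⁻¹) * aa α := by
        rw [e2, ← map_mul, map_inv]

theorem key2 (k : ℕ) (g : Gam α) :
    (psi (aa α))^[k + 1] g =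
      SemidirectProduct.inl ((fun c : G => c * (α c)⁻¹)^[k + 1] g.left) * aa α := by
  induction k with
  | zero =>
    rw [Function.iterate_one, Function.iterate_one]
    conv_lhs => rw [← SemidirectProduct.inl_left_mul_inr_right g]
    exact key1 α g.left g.right
  | succ k ih =>
    rw [Function.iterate_succ_apply', ih]
    conv_rhs => rw [Function.iterate_succ_apply']
    exact key1 α _ (gα α)

/-- the subgroup of the semidirect product of elements whose left component lies in `K` -/
def PP (K : Subgroup G)
    (hK : ∀ z : ↥(Subgroup.zpowers α), ∀ x ∈ K, (z : MulAut G) x ∈ K) : Subgroup (Gam α) where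
  carrier := {x | x.left ∈ K}
  mul_mem' := by
    intro x y hx hy
    show (x * y).left ∈ K
    rw [SemidirectProduct.mul_left]
    exact K.mul_mem hx (hK x.right _ hy)
  one_mem' := K.one_mem
  inv_mem' := by
    intro x hx
    show (x⁻¹).left ∈ K
    rw [SemidirectProduct.inv_left]
    exact hK (x.right⁻¹) _ (K.inv_mem hx)

theorem ncl_top (hG : Subgroup.closure (Set.range (fun c : G => c * (α c)⁻¹)) = ⊤) :
    Subgroup.normalClosure ({aa α} : Set (Gam α)) = ⊤ := by
  have haN : aa α ∈ Subgroup.normalClosure ({aa α} : Set (Gam α)) :=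
    Subgroup.subset_normalClosure (Set.mem_singleton _)
  have hinl : ∀ g : G, (SemidirectProduct.inl g : Gam α) ∈
      Subgroup.normalClosure ({aa α} : Set (Gam α)) := by
    have h1 : Subgroup.closure (Set.range (fun c : G => c * (α c)⁻¹)) ≤
        (Subgroup.normalClosure ({aa α} : Set (Gam α))).comap SemidirectProduct.inl := by
      rw [Subgroup.closure_le]
      rintro _ ⟨c, rfl⟩
      show (SemidirectProduct.inl (c * (α c)⁻¹) : Gam α) ∈
        Subgroup.normalClosure ({aa α} : Set (Gam α))
      have e := key1 α c 1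
      rw [map_one, mul_one] at e
      have e' : (SemidirectProduct.inl (c * (α c)⁻¹) : Gam α) =
          psi (aa α) (SemidirectProduct.inl c) * (aa α)⁻¹ := by
        rw [e, mul_inv_cancel_right]
      rw [e']
      exact Subgroup.mul_mem _ (Subgroup.normalClosure_normal.conj_mem _ haN _)
        (Subgroup.inv_mem _ haN)
    intro g
    have h2 : g ∈ Subgroup.closure (Set.range (fun c : G => c * (α c)⁻¹)) := by
      rw [hG]
      exact Subgroup.mem_top g
    exact h1 h2
  have hinr : ∀ z : ↥(Subgroup.zpowers α), (SemidirectProduct.inr z : Gam α) ∈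
      Subgroup.normalClosure ({aa α} : Set (Gam α)) := by
    intro z
    obtain ⟨i, hi⟩ := Subgroup.mem_zpowers_iff.mp z.2
    have h1 : z = (gα α) ^ i := by
      apply Subtype.ext
      rw [Subgroup.coe_zpow]
      exact hi.symm
    rw [h1, map_zpow]
    exact Subgroup.zpow_mem _ haN i
  rw [eq_top_iff]
  intro x _
  rw [← SemidirectProduct.inl_left_mul_inr_right x]
  exact Subgroup.mul_mem _ (hinl _) (hinr _)

end

/-- Let G be a finite group and α an automorphism of G with [G, α] = G, that is, the elements g·α(g)⁻¹ generate G. Then for every k ≥ 1 the iterated commutators [g, α, …, α] with k entries α — the values of the k-th iterate of the map c ↦ c·α(c)⁻¹ — also generate G. -/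
theorem result {G : Type*} [Group G] [Finite G] (α : MulAut G) (hG : Subgroup.closure (Set.range (fun c : G => c * (α c)⁻¹)) = ⊤) (k : ℕ) (hk : 1 ≤ k) :
    Subgroup.closure (Set.range ((fun c : G => c * (α c)⁻¹)^[k])) = ⊤ := by
  obtain ⟨k', rfl⟩ : ∃ k', k = k' + 1 := ⟨k - 1, by omega⟩
  have : Finite (Gam α) := Finite.of_equiv _ SemidirectProduct.equivProd.symm
  have hgen := gen (aa α) (ncl_top α hG) (k' + 1)
  obtain ⟨K, hKdef⟩ : ∃ K : Subgroup G,
      K = Subgroup.closure (Set.range ((fun c : G => c * (α c)⁻¹)^[k' + 1])) := ⟨_, rfl⟩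
  rw [← hKdef]
  have hK : ∀ z : ↥(Subgroup.zpowers α), ∀ x ∈ K, (z : MulAut G) x ∈ K := by
    intro z x hx
    rw [hKdef] at hx ⊢
    refine Subgroup.closure_induction (p := fun x _ => (z : MulAut G) x ∈
      Subgroup.closure (Set.range ((fun c : G => c * (α c)⁻¹)^[k' + 1]))) ?_ ?_ ?_ ?_ hx
    · rintro _ ⟨c, rfl⟩
      rw [phi_iter_comm α z (zcomm α z)]
      exact Subgroup.subset_closure ⟨_, rfl⟩
    · rw [map_one]
      exact Subgroup.one_mem _
    · intro x y _ _ hx hy
      rw [map_mul]
      exact Subgroup.mul_mem _ hx hy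
    · intro x _ hx
      rw [map_inv]
      exact Subgroup.inv_mem _ hx
  have hP : Subgroup.closure (({aa α} : Set (Gam α)) ∪ Set.range ((psi (aa α))^[k' + 1])) ≤
      PP α K hK := by
    rw [Subgroup.closure_le]
    rintro x (hx | ⟨g, rfl⟩)
    · rw [Set.mem_singleton_iff.mp hx]
      show (aa α).left ∈ K
      unfold aa
      rw [SemidirectProduct.left_inr]
      exact K.one_mem
    · show ((psi (aa α))^[k' + 1] g).left ∈ K
      rw [key2, SemidirectProduct.mul_left, SemidirectProduct.left_inl, SemidirectProduct.right_inl]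
      unfold aa
      rw [SemidirectProduct.left_inr, map_one, mul_one, hKdef]
      exact Subgroup.subset_closure ⟨_, rfl⟩
  rw [hgen, top_le_iff] at hP
  rw [eq_top_iff]
  intro g _
  have h1 : (SemidirectProduct.inl g : Gam α) ∈ PP α K hK := by
    rw [hP]
    exact Subgroup.mem_top _
  exact h1

end Cfsg.Agent.S3927
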