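import Cfsg.Statements.S2325
import Cfsg.Agent.Lib.Helper14.SL2Odd

set_option autoImplicit false
open Cfsg

namespace Cfsg.Agent.S2325

open Cfsg.Agent.Lib.Helper14 Matrix

variable {F : Type*} [Field F]

/-- the index type of the class representatives -/
abbrev Idx (F : Type*) [Field F] := Bool ⊕ ({t : F // t ^ 2 ≠ 4} ⊕ (Bool × Bool))

/-- class representatives -/
def rep (ν : F) : Idx F → SpecialLinearGroup (Fin 2) F
  | Sum.inl s => upperSL (sgn F s) 0 (sgn_mul_self s)
  | Sum.inr (Sum.inl t) => comp2SL t.1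
  | Sum.inr (Sum.inr (s, s')) => upperSL (sgn F s) (nuOf ν s') (sgn_mul_self s)

theorem upperSL_isScalar2_iff (ε b : F) (hε : ε * ε = 1) :
    IsScalar2 ((upperSL ε b hε : SpecialLinearGroup (Fin 2) F) : Matrix (Fin 2) (Fin 2) F) ↔ b = 0 := by
  simp [IsScalar2]

theorem upperSL_trace (ε b : F) (hε : ε * ε = 1) :
    ((upperSL ε b hε : SpecialLinearGroup (Fin 2) F) : Matrix (Fin 2) (Fin 2) F).trace = 2 * ε := by
  simp [Matrix.trace_fin_two]; ring

theorem nuOf_ne_zero (ν : F) (hν : ¬ IsSquare ν) (s : Bool) : nuOf ν s ≠ 0 := by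
  cases s
  · simp only [nuOf, Bool.false_eq_true, if_false]
    rintro rfl; exact hν IsSquare.zero
  · simp [nuOf]

theorem rep_inl_scalar (ν : F) (s : Bool) :
    IsScalar2 ((rep ν (Sum.inl s) : SpecialLinearGroup (Fin 2) F) : Matrix (Fin 2) (Fin 2) F) := by
  simp [rep, IsScalar2]

theorem rep_inr_not_scalar (ν : F) (hν : ¬ IsSquare ν) (x : {t : F // t ^ 2 ≠ 4} ⊕ (Bool × Bool)) :
    ¬ IsScalar2 ((rep ν (Sum.inr x) : SpecialLinearGroup (Fin 2) F) : Matrix (Fin 2) (Fin 2) F) := by
  rcases x with t | ⟨s, s'⟩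
  · exact comp2_not_isScalar2 _ _
  · intro h
    exact nuOf_ne_zero ν hν s' ((upperSL_isScalar2_iff (sgn F s) (nuOf ν s') (sgn_mul_self s)).mp h)

theorem rep_injective (h2 : (2 : F) ≠ 0) (ν : F) (hν : ¬ IsSquare ν) (x y : Idx F)
    (h : IsConj (rep ν x) (rep ν y)) : x = y := by
  rcases x with s | t | ⟨s, s'⟩ <;> rcases y with r | u | ⟨r, r'⟩
  · -- scalar, scalar
    have h1 := trace_conj_SL h
    simp only [rep, upperSL_trace] at h1
    have : sgn F s = sgn F r := mul_left_cancel₀ h2 h1
    rw [sgn_injective h2 this]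
  · exfalso
    exact rep_inr_not_scalar ν hν _ (isScalar2_conj_SL h (rep_inl_scalar ν s))
  · exfalso
    exact rep_inr_not_scalar ν hν _ (isScalar2_conj_SL h (rep_inl_scalar ν s))
  · exfalso
    exact rep_inr_not_scalar ν hν _ (isScalar2_conj_SL h.symm (rep_inl_scalar ν r))
  · have h1 := trace_conj_SL h
    simp only [rep, comp2SL_coe, comp2_trace] at h1
    rw [Subtype.ext h1]
  · exfalso
    have h1 := trace_conj_SL h
    simp only [rep, comp2SL_coe, comp2_trace, upperSL_trace] at h1
    apply t.2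
    rw [h1]
    have := sgn_mul_self (F := F) r
    linear_combination 4 * this
  · exfalso
    exact rep_inr_not_scalar ν hν _ (isScalar2_conj_SL h.symm (rep_inl_scalar ν r))
  · exfalso
    have h1 := trace_conj_SL h
    simp only [rep, comp2SL_coe, comp2_trace, upperSL_trace] at h1
    apply u.2
    rw [← h1]
    have := sgn_mul_self (F := F) s
    linear_combination 4 * this
  · have h1 := trace_conj_SL h
    simp only [rep, upperSL_trace] at h1
    have hsr : s = r := sgn_injective h2 (mul_left_cancel₀ h2 h1)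
    subst hsr
    obtain ⟨d, hd0, hd⟩ := exists_sq_of_isConj_upperSL (sgn F s) (nuOf ν s') (nuOf ν r') (sgn_mul_self s)
      (nuOf_ne_zero ν hν s') h
    have : s' = r' := by
      cases s' <;> cases r'
      · rfl
      · exfalso
        simp only [nuOf, Bool.false_eq_true, if_false, if_true] at hd
        apply hν
        refine ⟨d⁻¹, ?_⟩
        field_simp
        linear_combination -hd
      · exfalso
        simp only [nuOf, Bool.false_eq_true, if_false, if_true] at hd
        apply hν
        exact ⟨d, by rw [hd]; ring⟩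
      · rfl
    rw [this]

theorem rep_surjective [Fintype F] (h2 : (2 : F) ≠ 0) (ν : F) (hν : ¬ IsSquare ν)
    (g : SpecialLinearGroup (Fin 2) F) : ∃ x, IsConj (rep ν x) g := by
  have key : ∀ c : F, c * c = 1 → ∃ s : Bool, c = sgn F s := by
    intro c hc
    have : (c - 1) * (c + 1) = 0 := by linear_combination hc
    rcases mul_eq_zero.mp this with h | h
    · exact ⟨true, by simp only [sgn, if_true]; linear_combination h⟩
    · exact ⟨false, by simp only [sgn, Bool.false_eq_true, if_false]; linear_combination h⟩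
  by_cases hg : IsScalar2 (g : Matrix (Fin 2) (Fin 2) F)
  · obtain ⟨h01, h10, h00⟩ := hg
    have hdet := g.det_coe
    rw [Matrix.det_fin_two, h01, h10, ← h00] at hdet
    simp at hdet
    obtain ⟨s, hs⟩ := key _ hdet
    refine ⟨Sum.inl s, ?_⟩
    have : rep ν (Sum.inl s) = g := by
      apply Subtype.ext
      show !![sgn F s, 0; 0, sgn F s] = (g : Matrix (Fin 2) (Fin 2) F)
      apply mat2_ext <;> simp [h01, h10, ← hs, ← h00]
    rw [this]
  · by_cases ht : (g : Matrix (Fin 2) (Fin 2) F).trace ^ 2 = 4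
    · have : ((g : Matrix (Fin 2) (Fin 2) F).trace / 2) * ((g : Matrix (Fin 2) (Fin 2) F).trace / 2) = 1 := by
        field_simp
        linear_combination ht
      obtain ⟨s, hs⟩ := key _ this
      have htr : (g : Matrix (Fin 2) (Fin 2) F).trace = 2 * sgn F s := by
        rw [← hs]; field_simp
      obtain ⟨b, hb, hc⟩ := exists_isConj_upperSL g hg (sgn F s) (sgn_mul_self s) htr
      obtain ⟨s', d, hd0, hd⟩ := exists_nuOf_mul_sq ν hν b hb
      refine ⟨Sum.inr (Sum.inr (s, s')), ?_⟩
      have h3 := isConj_upperSL_mul_sq (sgn F s) (nuOf ν s') d (sgn_mul_self s) hd0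
      rw [← hd] at h3
      exact h3.trans hc.symm
    · exact ⟨Sum.inr (Sum.inl ⟨_, ht⟩), (isConj_comp2SL g hg ht).symm⟩

/-- Over a finite field with q elements, q odd, the special linear group SL₂ has exactly q + 4 conjugacy classes. -/
theorem result {F : Type*} [Field F] [Fintype F] (hodd : Odd (Fintype.card F)) :
    Nat.card (ConjClasses (Matrix.SpecialLinearGroup (Fin 2) F)) = Fintype.card F + 4 := by
  classical
  have h2 : (2 : F) ≠ 0 := two_ne_zero_of_odd hodd
  obtain ⟨ν, hν⟩ := FiniteField.exists_nonsquare (ringChar_ne_two_of_odd hodd)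
  have hbij : Function.Bijective (fun x : Idx F => ConjClasses.mk (rep ν x)) := by
    constructor
    · intro x y h
      exact rep_injective h2 ν hν x y (ConjClasses.mk_eq_mk_iff_isConj.mp h)
    · intro c
      obtain ⟨g, rfl⟩ := ConjClasses.exists_rep c
      obtain ⟨x, hx⟩ := rep_surjective h2 ν hν g
      exact ⟨x, ConjClasses.mk_eq_mk_iff_isConj.mpr hx⟩
  rw [← Nat.card_eq_of_bijective _ hbij, Nat.card_sum, Nat.card_sum, card_sq_ne_four h2, Nat.card_prod]
  simp only [Nat.card_eq_fintype_card, Fintype.card_bool]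
  have hq : 2 ≤ Fintype.card F := Fintype.one_lt_card
  omega

end Cfsg.Agent.S2325
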