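import Cfsg.Statements.S2331
import Cfsg.Agent.Lib.Helper14.SL2Order

set_option autoImplicit false
open Cfsg

namespace Cfsg.Agent.S2331

open Cfsg.Agent.Lib.Helper14 Matrix

variable {F : Type*} [Field F] [Fintype F] [CharP F 2]

omit [Fintype F] in
theorem two_eq_zero' : (2 : F) = 0 := by exact_mod_cast CharP.cast_eq_zero F 2

omit [Fintype F] in
theorem four_eq_zero' : (4 : F) = 0 := by
  have : (4 : F) = 2 * 2 := by norm_num
  rw [this, two_eq_zero', mul_zero]

/-- In characteristic two every non-scalar element of trace zero of `SL₂` is conjugate to the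
standard transvection. -/
theorem isConj_std (g : Matrix.SpecialLinearGroup (Fin 2) F)
    (h1 : ¬ IsScalar2 (g : Matrix (Fin 2) (Fin 2) F)) (h2 : (g : Matrix (Fin 2) (Fin 2) F).trace = 0) :
    IsConj g (upperSL 1 1 (one_mul 1)) := by
  obtain ⟨b, hb, hc⟩ := exists_isConj_upperSL g h1 1 (one_mul 1) (by rw [h2, mul_one, two_eq_zero'])
  have hchar : ringChar F = 2 := ringChar.eq F 2
  obtain ⟨d, hd⟩ := FiniteField.isSquare_of_char_two hchar b
  have hd0 : d ≠ 0 := by
    rintro rfl
    apply hb; rw [hd, mul_zero]
  have h3 := isConj_upperSL_mul_sq (1 : F) 1 d (one_mul 1) hd0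
  have : (1 : F) * d ^ 2 = b := by rw [hd]; ring
  rw [this] at h3
  exact hc.trans h3.symm

/-- class representatives -/
def rep : Option F → SpecialLinearGroup (Fin 2) F
  | none => 1
  | some t => comp2SL t

omit [Fintype F] [CharP F 2] in
theorem rep_injective (x y : Option F) (h : IsConj (rep x) (rep y)) : x = y := by
  rcases x with _ | t <;> rcases y with _ | t'
  · rfl
  · exfalso
    have := isScalar2_conj_SL h (by simp [rep, IsScalar2])
    exact comp2_not_isScalar2 _ _ this
  · exfalso
    have := isScalar2_conj_SL h.symm (by simp [rep, IsScalar2])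
    exact comp2_not_isScalar2 _ _ this
  · have h1 := trace_conj_SL h
    simp only [rep, comp2SL_coe, comp2_trace] at h1
    rw [h1]

theorem rep_surjective (g : SpecialLinearGroup (Fin 2) F) : ∃ x, IsConj (rep x) g := by
  by_cases hg : IsScalar2 (g : Matrix (Fin 2) (Fin 2) F)
  · refine ⟨none, ?_⟩
    have : g = 1 := by
      obtain ⟨h01, h10, h00⟩ := hg
      have hdet := g.det_coe
      rw [Matrix.det_fin_two, h01, h10, ← h00] at hdet
      simp at hdet
      have ha : (g : Matrix (Fin 2) (Fin 2) F) 0 0 = 1 := by
        have : ((g : Matrix (Fin 2) (Fin 2) F) 0 0 - 1) ^ 2 = 0 := by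
          linear_combination hdet - (g : Matrix (Fin 2) (Fin 2) F) 0 0 * (two_eq_zero' (F := F)) + (two_eq_zero' (F := F))
        have := pow_eq_zero_iff (two_ne_zero) |>.mp this
        linear_combination this
      apply Subtype.ext
      show (g : Matrix (Fin 2) (Fin 2) F) = 1
      apply mat2_ext <;> simp [h01, h10, ha, ← h00]
    rw [this]; rfl
  · refine ⟨some (g : Matrix (Fin 2) (Fin 2) F).trace, ?_⟩
    by_cases ht : (g : Matrix (Fin 2) (Fin 2) F).trace = 0
    · have h1 := isConj_std g hg ht
      have h2 : IsConj (comp2SL (0 : F)) (upperSL 1 1 (one_mul 1)) :=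
        isConj_std _ (comp2_not_isScalar2 _ _) (by simp)
      rw [ht]
      exact h2.trans h1.symm
    · have ht' : (g : Matrix (Fin 2) (Fin 2) F).trace ^ 2 ≠ 4 := by
        rw [four_eq_zero']
        exact pow_ne_zero 2 ht
      exact (isConj_comp2SL g hg ht').symm

/-- Over a finite field with q elements, q even, the special linear group SL₂ has exactly q + 1 conjugacy classes. -/
theorem result {F : Type*} [Field F] [Fintype F] [CharP F 2] :
    Nat.card (ConjClasses (Matrix.SpecialLinearGroup (Fin 2) F)) = Fintype.card F + 1 := by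
  classical
  have hbij : Function.Bijective (fun x : Option F => ConjClasses.mk (rep x)) := by
    constructor
    · intro x y h
      exact rep_injective x y (ConjClasses.mk_eq_mk_iff_isConj.mp h)
    · intro c
      obtain ⟨g, rfl⟩ := ConjClasses.exists_rep c
      obtain ⟨x, hx⟩ := rep_surjective g
      exact ⟨x, ConjClasses.mk_eq_mk_iff_isConj.mpr hx⟩
  rw [← Nat.card_eq_of_bijective _ hbij, Nat.card_eq_fintype_card, Fintype.card_option]

end Cfsg.Agent.S2331
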