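import Cfsg.Statements.S2299
import Cfsg.Agent.Lib.Helper14.SL2Count

set_option autoImplicit false
open Cfsg Cfsg.Agent.Lib.Helper14 Cfsg.Agent.Lib.Helper2 Matrix

namespace Cfsg.Agent.S2299

/-- Over a finite field F with q elements, q odd, every irreducible complex character of SL₂ has degree 1, q, q + 1, q − 1, (q + 1)/2 or (q − 1)/2; and when q ≥ 5 (so that these six numbers are distinct) there are exactly one irreducible character of degree 1, one of degree q, (q − 3)/2 of degree q + 1, (q − 1)/2 of degree q − 1, two of degree (q + 1)/2 and two of degree (q − 1)/2. -/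
theorem result {F : Type*} [Field F] [Fintype F] (hodd : Odd (Fintype.card F)) :
    (∀ χ : Matrix.SpecialLinearGroup (Fin 2) F → ℂ, Cfsg.IsIrrCharacter (Matrix.SpecialLinearGroup (Fin 2) F) χ →
      χ 1 = 1 ∨ χ 1 = (Fintype.card F : ℂ) ∨ χ 1 = (Fintype.card F : ℂ) + 1 ∨ χ 1 = (Fintype.card F : ℂ) - 1 ∨
        χ 1 = (((Fintype.card F + 1) / 2 : ℕ) : ℂ) ∨ χ 1 = (((Fintype.card F - 1) / 2 : ℕ) : ℂ)) ∧
    (5 ≤ Fintype.card F →
      Nat.card {χ : Cfsg.IrrCharacter (Matrix.SpecialLinearGroup (Fin 2) F) // (χ : Matrix.SpecialLinearGroup (Fin 2) F → ℂ) 1 = 1} = 1 ∧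
      Nat.card {χ : Cfsg.IrrCharacter (Matrix.SpecialLinearGroup (Fin 2) F) // (χ : Matrix.SpecialLinearGroup (Fin 2) F → ℂ) 1 = (Fintype.card F : ℂ)} = 1 ∧
      Nat.card {χ : Cfsg.IrrCharacter (Matrix.SpecialLinearGroup (Fin 2) F) // (χ : Matrix.SpecialLinearGroup (Fin 2) F → ℂ) 1 = (Fintype.card F : ℂ) + 1} = (Fintype.card F - 3) / 2 ∧
      Nat.card {χ : Cfsg.IrrCharacter (Matrix.SpecialLinearGroup (Fin 2) F) // (χ : Matrix.SpecialLinearGroup (Fin 2) F → ℂ) 1 = (Fintype.card F : ℂ) - 1} = (Fintype.card F - 1) / 2 ∧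
      Nat.card {χ : Cfsg.IrrCharacter (Matrix.SpecialLinearGroup (Fin 2) F) // (χ : Matrix.SpecialLinearGroup (Fin 2) F → ℂ) 1 = (((Fintype.card F + 1) / 2 : ℕ) : ℂ)} = 2 ∧
      Nat.card {χ : Cfsg.IrrCharacter (Matrix.SpecialLinearGroup (Fin 2) F) // (χ : Matrix.SpecialLinearGroup (Fin 2) F → ℂ) 1 = (((Fintype.card F - 1) / 2 : ℕ) : ℂ)} = 2) := by
  classical
  have hq2 : 2 ≤ Fintype.card F := Fintype.one_lt_card
  have : Fintype (MulChar F ℂ) := Fintype.ofFinite _
  have : Fintype (Cfsg.IrrCharacter (SpecialLinearGroup (Fin 2) F)) := Fintype.ofFinite _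
  obtain ⟨k, hk⟩ := hodd
  have hk1 : 1 ≤ k := by omega
  have e1 : (Fintype.card F + 1) / 2 = k + 1 := by omega
  have e2 : (Fintype.card F - 1) / 2 = k := by omega
  -- degrees of the six types
  have hdeg : ∀ θ : Cfsg.IrrCharacter (SpecialLinearGroup (Fin 2) F),
      (irrDeg θ = 1 ∧ (θ : SpecialLinearGroup (Fin 2) F → ℂ) = fun _ => 1) ∨
      (irrDeg θ = Fintype.card F ∧
        (θ : SpecialLinearGroup (Fin 2) F → ℂ) = res (st (1 : MulChar F ℂ))) ∨
      (irrDeg θ = Fintype.card F + 1 ∧ ∃ δ : MulChar F ℂ, δ ^ 2 ≠ 1 ∧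
        (θ : SpecialLinearGroup (Fin 2) F → ℂ) = res (ps δ 1)) ∨
      (irrDeg θ = k + 1 ∧ ∃ (δ : MulChar F ℂ) (θ' : SpecialLinearGroup (Fin 2) F → ℂ),
        δ ^ 2 = 1 ∧ δ ≠ 1 ∧ Cfsg.IsIrrCharacter (SpecialLinearGroup (Fin 2) F) θ' ∧
        θ' ≠ (θ : SpecialLinearGroup (Fin 2) F → ℂ) ∧
        res (ps δ 1) = (θ : SpecialLinearGroup (Fin 2) F → ℂ) + θ') ∨
      (irrDeg θ = Fintype.card F - 1) ∨ (irrDeg θ = k) := by
    intro θ
    rcases irrSL_cases θ.2 with h | h | ⟨δ, h1, h⟩ | ⟨δ, θ', h1, h2, h3, h4, h5, h6, _⟩ |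
      ⟨χ, hc, h⟩ | ⟨χ, θ', hc, _, _, _, h6, _⟩
    · left
      refine ⟨?_, h⟩
      rw [irrDeg_eq_iff, h]; simp
    · right; left
      refine ⟨?_, h⟩
      rw [irrDeg_eq_iff, h, res_st_one]
    · right; right; left
      refine ⟨?_, δ, h1, h⟩
      rw [irrDeg_eq_iff, h, res_ps_one]; push_cast; ring
    · right; right; right; left
      refine ⟨?_, δ, θ', h1, h2, h3, h4, h5⟩
      rw [irrDeg_eq_iff]
      rw [hk] at h6
      push_cast at h6 ⊢
      linear_combination h6 / 2
    · right; right; right; right; left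
      rw [irrDeg_eq_iff, ← h, res_cusp_one χ hc, Nat.cast_sub (by omega)]; simp
    · right; right; right; right; right
      rw [irrDeg_eq_iff]
      rw [hk] at h6
      push_cast at h6 ⊢
      linear_combination h6 / 2
  constructor
  · intro χ hχ
    rcases hdeg ⟨χ, hχ⟩ with ⟨h, _⟩ | ⟨h, _⟩ | ⟨h, _⟩ | ⟨h, _⟩ | h | h
    · left
      have h' : χ 1 = ((1 : ℕ) : ℂ) := (irrDeg_eq_iff _ _).mp h
      simpa using h'
    · right; left
      exact (irrDeg_eq_iff _ _).mp h
    · right; right; left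
      have h' : χ 1 = ((Fintype.card F + 1 : ℕ) : ℂ) := (irrDeg_eq_iff _ _).mp h
      rw [h']; push_cast; ring
    · right; right; right; right; left
      have h' : χ 1 = ((k + 1 : ℕ) : ℂ) := (irrDeg_eq_iff _ _).mp h
      rw [h', e1]
    · right; right; right; left
      have h' : χ 1 = ((Fintype.card F - 1 : ℕ) : ℂ) := (irrDeg_eq_iff _ _).mp h
      rw [h', Nat.cast_sub (by omega)]; simp
    · right; right; right; right; right
      have h' : χ 1 = ((k : ℕ) : ℂ) := (irrDeg_eq_iff _ _).mp h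
      rw [h', e2]
  · intro hq
    have hk2 : 2 ≤ k := by omega
    have c1 : (Finset.univ.filter (fun θ : Cfsg.IrrCharacter (SpecialLinearGroup (Fin 2) F) =>
        irrDeg θ = 1)).card = 1 := by
      rw [Finset.card_eq_one]
      refine ⟨⟨fun _ => 1, one_isIrrCharacter _⟩, ?_⟩
      ext θ
      rw [Finset.mem_filter, Finset.mem_singleton]
      constructor
      · rintro ⟨_, h⟩
        rcases hdeg θ with ⟨_, h1⟩ | ⟨h1, _⟩ | ⟨h1, _⟩ | ⟨h1, _⟩ | h1 | h1
        · exact Subtype.ext h1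
        all_goals omega
      · rintro rfl
        refine ⟨Finset.mem_univ _, ?_⟩
        rw [irrDeg_eq_iff]; simp
    have c2 : (Finset.univ.filter (fun θ : Cfsg.IrrCharacter (SpecialLinearGroup (Fin 2) F) =>
        irrDeg θ = Fintype.card F)).card = 1 := by
      rw [Finset.card_eq_one]
      refine ⟨⟨res (st (1 : MulChar F ℂ)), res_st_irr⟩, ?_⟩
      ext θ
      rw [Finset.mem_filter, Finset.mem_singleton]
      constructor
      · rintro ⟨_, h⟩
        rcases hdeg θ with ⟨h1, _⟩ | ⟨_, h1⟩ | ⟨h1, _⟩ | ⟨h1, _⟩ | h1 | h1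
        · omega
        · exact Subtype.ext h1
        all_goals omega
      · rintro rfl
        refine ⟨Finset.mem_univ _, ?_⟩
        rw [irrDeg_eq_iff]; exact res_st_one
    have c3 : 2 * (Finset.univ.filter (fun θ : Cfsg.IrrCharacter (SpecialLinearGroup (Fin 2) F) =>
        irrDeg θ = Fintype.card F + 1)).card = Fintype.card F - 3 := by
      have h1 := two_mul_card_ps (F := F)
      have h2 := card_filter_sq_ne_one (F := F)
      rw [card_filter_sq_eq_one_odd ⟨k, hk⟩] at h2
      have h3 : Finset.univ.filter (fun θ : Cfsg.IrrCharacter (SpecialLinearGroup (Fin 2) F) =>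
          irrDeg θ = Fintype.card F + 1) =
          (Finset.univ.filter (fun δ : MulChar F ℂ => δ ^ 2 ≠ 1)).image psIrrSL := by
        ext θ
        rw [Finset.mem_filter, Finset.mem_image]
        constructor
        · rintro ⟨_, h⟩
          rcases hdeg θ with ⟨h1, _⟩ | ⟨h1, _⟩ | ⟨_, δ, hδ, h1⟩ | ⟨h1, _⟩ | h1 | h1
          · omega
          · omega
          · refine ⟨δ, ?_, ?_⟩
            · rw [Finset.mem_filter]; exact ⟨Finset.mem_univ _, hδ⟩
            · apply Subtype.ext
              rw [psIrrSL_coe hδ, h1]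
          all_goals omega
        · rintro ⟨δ, hδ, rfl⟩
          rw [Finset.mem_filter] at hδ
          refine ⟨Finset.mem_univ _, ?_⟩
          rw [irrDeg_eq_iff, psIrrSL_coe hδ.2, res_ps_one]; push_cast; ring
      rw [h3, h1]
      omega
    have c4 : (Finset.univ.filter (fun θ : Cfsg.IrrCharacter (SpecialLinearGroup (Fin 2) F) =>
        irrDeg θ = k + 1)).card = 2 := by
      obtain ⟨δ₀, hδ₀, hδ₀1⟩ := exists_quadratic (F := F) ⟨k, hk⟩
      have hirr : Cfsg.IsIrrCharacter (GL (Fin 2) F) (ps δ₀ 1) := ps_isIrrCharacter hδ₀1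
      obtain ⟨θ₁, θ₂, h₁, h₂, hne, hsum⟩ := exists_add_of_classInner_self_eq_two
        (res_ps_isCharacter δ₀ 1) (classInner_res_ps_self_of_sq hδ₀)
      obtain ⟨d1, d2⟩ := degree_halves ⟨ps δ₀ 1, hirr⟩ h₁ h₂ hne hsum
      have hne' : (⟨θ₁, h₁⟩ : Cfsg.IrrCharacter (SpecialLinearGroup (Fin 2) F)) ≠ ⟨θ₂, h₂⟩ :=
        fun h => hne (congrArg Subtype.val h)
      have hset : Finset.univ.filter (fun θ : Cfsg.IrrCharacter (SpecialLinearGroup (Fin 2) F) =>
          irrDeg θ = k + 1) = {⟨θ₁, h₁⟩, ⟨θ₂, h₂⟩} := by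
        ext θ
        rw [Finset.mem_filter, Finset.mem_insert, Finset.mem_singleton]
        constructor
        · rintro ⟨_, h⟩
          rcases hdeg θ with ⟨h1, _⟩ | ⟨h1, _⟩ | ⟨h1, _⟩ | ⟨_, δ, θ', h1, h2, h3, h4, h5⟩ | h1 | h1
          · omega
          · omega
          · omega
          · have hδ := quadratic_unique δ₀ δ hδ₀ hδ₀1 h1 h2
            subst hδ
            have h6 : Cfsg.classInner (θ₁ + θ₂) (θ : SpecialLinearGroup (Fin 2) F → ℂ) ≠ 0 := by
              rw [← hsum, h5, (classInner_add_irr_left θ.2 h3 h4.symm).1]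
              exact one_ne_zero
            rcases eq_or_eq_of_classInner_add_ne_zero h₁ h₂ θ.2 h6 with h7 | h7
            · left; exact Subtype.ext h7
            · right; exact Subtype.ext h7
          · omega
          · omega
        · have hd : ∀ z : ℂ, 2 * z = (ps δ₀ 1 : GL (Fin 2) F → ℂ) 1 → z = ((k + 1 : ℕ) : ℂ) := by
            intro z hz
            rw [ps_one, hk] at hz
            push_cast at hz ⊢
            linear_combination hz / 2
          rintro (rfl | rfl)
          · refine ⟨Finset.mem_univ _, ?_⟩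
            rw [irrDeg_eq_iff]
            exact hd _ d1
          · refine ⟨Finset.mem_univ _, ?_⟩
            rw [irrDeg_eq_iff]
            exact hd _ d2
      rw [hset, Finset.card_pair hne']
    have htot := card_irr_SL2_odd (F := F) ⟨k, hk⟩
    have hmaps : ((Finset.univ : Finset (Cfsg.IrrCharacter (SpecialLinearGroup (Fin 2) F))) :
        Set (Cfsg.IrrCharacter (SpecialLinearGroup (Fin 2) F))).MapsTo irrDeg
          (({1, Fintype.card F, Fintype.card F + 1, k + 1, Fintype.card F - 1, k} : Finset ℕ) :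
            Set ℕ) := by
      intro θ _
      rw [Finset.mem_coe, Finset.mem_insert, Finset.mem_insert, Finset.mem_insert,
        Finset.mem_insert, Finset.mem_insert, Finset.mem_singleton]
      rcases hdeg θ with ⟨h1, _⟩ | ⟨h1, _⟩ | ⟨h1, _⟩ | ⟨h1, _⟩ | h1 | h1
      · exact Or.inl h1
      · exact Or.inr (Or.inl h1)
      · exact Or.inr (Or.inr (Or.inl h1))
      · exact Or.inr (Or.inr (Or.inr (Or.inl h1)))
      · exact Or.inr (Or.inr (Or.inr (Or.inr (Or.inl h1))))
      · exact Or.inr (Or.inr (Or.inr (Or.inr (Or.inr h1))))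
    have hsum := Finset.card_eq_sum_card_fiberwise hmaps
    have hsq := Finset.sum_fiberwise_of_maps_to hmaps (fun θ => irrDeg θ ^ 2)
    rw [sum_irrDeg_sq, card_SL2] at hsq
    have hinner : ∀ d : ℕ, ∑ θ ∈ Finset.univ.filter
        (fun θ : Cfsg.IrrCharacter (SpecialLinearGroup (Fin 2) F) => irrDeg θ = d), irrDeg θ ^ 2 =
        (Finset.univ.filter (fun θ : Cfsg.IrrCharacter (SpecialLinearGroup (Fin 2) F) =>
          irrDeg θ = d)).card * d ^ 2 := by
      intro d
      rw [Finset.sum_congr rfl (g := fun _ => d ^ 2), Finset.sum_const, smul_eq_mul]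
      intro θ hθ
      rw [(Finset.mem_filter.mp hθ).2]
    simp only [hinner] at hsq
    rw [Finset.sum_insert (by simp; omega), Finset.sum_insert (by simp; omega),
      Finset.sum_insert (by simp; omega), Finset.sum_insert (by simp; omega),
      Finset.sum_insert (by simp; omega), Finset.sum_singleton, c1, c2, c4] at hsq
    rw [Finset.card_univ, htot, Finset.sum_insert (by simp; omega),
      Finset.sum_insert (by simp; omega), Finset.sum_insert (by simp; omega),
      Finset.sum_insert (by simp; omega), Finset.sum_insert (by simp; omega),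
      Finset.sum_singleton, c1, c2, c4] at hsum
    obtain ⟨j, rfl⟩ : ∃ j, k = j + 2 := ⟨k - 2, by omega⟩
    set n3 := (Finset.univ.filter (fun θ : Cfsg.IrrCharacter (SpecialLinearGroup (Fin 2) F) =>
        irrDeg θ = Fintype.card F + 1)).card with hn3
    set x := (Finset.univ.filter (fun θ : Cfsg.IrrCharacter (SpecialLinearGroup (Fin 2) F) =>
        irrDeg θ = Fintype.card F - 1)).card with hx
    set y := (Finset.univ.filter (fun θ : Cfsg.IrrCharacter (SpecialLinearGroup (Fin 2) F) =>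
        irrDeg θ = j + 2)).card with hy
    have hn3' : n3 = j + 1 := by omega
    have hq1 : Fintype.card F - 1 = 2 * j + 4 := by omega
    have hq3 : Fintype.card F ^ 2 - 1 = 4 * j ^ 2 + 20 * j + 24 := by
      rw [hk]
      have : (2 * (j + 2) + 1) ^ 2 = 4 * j ^ 2 + 20 * j + 24 + 1 := by ring
      omega
    rw [hq1, hq3, hn3', hk] at hsq
    have hxy : x + y = j + 4 := by omega
    have h4 : (j + 2) ^ 2 * (4 * x + y) = (j + 2) ^ 2 * (4 * (j + 2) + 2) := by
      zify at hsq ⊢
      linear_combination hsq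
    have h5 : 4 * x + y = 4 * (j + 2) + 2 := Nat.eq_of_mul_eq_mul_left (by positivity) h4
    have hx' : x = j + 2 := by omega
    have hy' : y = 2 := by omega
    refine ⟨?_, ?_, ?_, ?_, ?_, ?_⟩
    · rw [card_deg_eq 1 1 (by simp), c1]
    · rw [card_deg_eq (Fintype.card F) _ rfl, c2]
    · rw [card_deg_eq (Fintype.card F + 1) _ (by push_cast; ring), ← hn3]
      omega
    · rw [card_deg_eq (Fintype.card F - 1) _ (by rw [Nat.cast_sub (by omega)]; simp), ← hx]
      omega
    · rw [card_deg_eq (j + 2 + 1) _ (by rw [e1]), c4]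
    · rw [card_deg_eq (j + 2) _ (by rw [e2]), ← hy]
      exact hy'

end Cfsg.Agent.S2299
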