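import Cfsg.Statements.S2303
import Cfsg.Agent.Lib.Helper14.GL2Cent

set_option autoImplicit false
open Cfsg

namespace Cfsg.Agent.S2303

open Cfsg.Agent.Lib.Helper14 Matrix

variable {F : Type*} [Field F]

theorem det_add_smul (M : Matrix (Fin 2) (Fin 2) F) (x y : F) :
    (x • (1 : Matrix (Fin 2) (Fin 2) F) + y • M).det =
      (x + y * M 0 0) * (x + y * M 1 1) - (y * M 0 1) * (y * M 1 0) := by
  simp [Matrix.det_fin_two]

theorem card_diag [Fintype F] (M : Matrix (Fin 2) (Fin 2) F) (h01 : M 0 1 = 0) (h10 : M 1 0 = 0)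
    (hne : M 0 0 ≠ M 1 1) :
    Nat.card {p : F × F // (p.1 • (1 : Matrix (Fin 2) (Fin 2) F) + p.2 • M).det ≠ 0} =
      (Fintype.card F - 1) ^ 2 := by
  classical
  have hab : M 0 0 - M 1 1 ≠ 0 := sub_ne_zero.mpr hne
  have key : ∀ p : F × F, (p.1 • (1 : Matrix (Fin 2) (Fin 2) F) + p.2 • M).det ≠ 0 ↔
      (p.1 + p.2 * M 0 0 ≠ 0 ∧ p.1 + p.2 * M 1 1 ≠ 0) := by
    intro p
    rw [det_add_smul, h01, h10]
    simp
  let ψ : {p : F × F // (p.1 • (1 : Matrix (Fin 2) (Fin 2) F) + p.2 • M).det ≠ 0} → Fˣ × Fˣ :=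
    fun p => (Units.mk0 _ ((key p.1).mp p.2).1, Units.mk0 _ ((key p.1).mp p.2).2)
  have hbij : Function.Bijective ψ := by
    constructor
    · rintro ⟨⟨x, y⟩, hp⟩ ⟨⟨x', y'⟩, hp'⟩ h
      have h1 : x + y * M 0 0 = x' + y' * M 0 0 := congrArg (fun z : Fˣ × Fˣ => (z.1 : F)) h
      have h2 : x + y * M 1 1 = x' + y' * M 1 1 := congrArg (fun z : Fˣ × Fˣ => (z.2 : F)) h
      have hy : y = y' := by
        have : (y - y') * (M 0 0 - M 1 1) = 0 := by linear_combination h1 - h2
        exact sub_eq_zero.mp ((mul_eq_zero.mp this).resolve_right hab)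
      subst hy
      have hx : x = x' := by linear_combination h1
      subst hx
      rfl
    · rintro ⟨s, t⟩
      have hdet : (((s : F) - ((s : F) - t) / (M 0 0 - M 1 1) * M 0 0, ((s : F) - t) / (M 0 0 - M 1 1)) : F × F).1 +
          (((s : F) - ((s : F) - t) / (M 0 0 - M 1 1) * M 0 0, ((s : F) - t) / (M 0 0 - M 1 1)) : F × F).2 * M 0 0 = s := by
        simp only []; ring
      have hdet2 : (((s : F) - ((s : F) - t) / (M 0 0 - M 1 1) * M 0 0, ((s : F) - t) / (M 0 0 - M 1 1)) : F × F).1 +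
          (((s : F) - ((s : F) - t) / (M 0 0 - M 1 1) * M 0 0, ((s : F) - t) / (M 0 0 - M 1 1)) : F × F).2 * M 1 1 = t := by
        simp only []; field_simp; ring
      refine ⟨⟨((s : F) - ((s : F) - t) / (M 0 0 - M 1 1) * M 0 0, ((s : F) - t) / (M 0 0 - M 1 1)), ?_⟩, ?_⟩
      · rw [key]
        rw [hdet, hdet2]
        exact ⟨s.ne_zero, t.ne_zero⟩
      · apply Prod.ext
        · apply Units.ext; exact hdet
        · apply Units.ext; exact hdet2
  rw [Nat.card_eq_of_bijective ψ hbij, Nat.card_eq_fintype_card, Fintype.card_prod, Fintype.card_units, sq]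

theorem card_noeigen [Fintype F] (M : Matrix (Fin 2) (Fin 2) F)
    (h : ∀ (c : F) (v : Fin 2 → F), v ≠ 0 → M.mulVec v ≠ c • v) :
    Nat.card {p : F × F // (p.1 • (1 : Matrix (Fin 2) (Fin 2) F) + p.2 • M).det ≠ 0} =
      Fintype.card F ^ 2 - 1 := by
  classical
  have key : ∀ p : F × F, (p.1 • (1 : Matrix (Fin 2) (Fin 2) F) + p.2 • M).det ≠ 0 ↔ p ≠ 0 := by
    rintro ⟨x, y⟩
    constructor
    · intro hdet hp
      apply hdet
      have hx : x = 0 := congrArg Prod.fst hp
      have hy : y = 0 := congrArg Prod.snd hp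
      simp [hx, hy]
    · intro hp hdet
      obtain ⟨v, hv, hmv⟩ := Matrix.exists_mulVec_eq_zero_iff.mpr hdet
      simp only [Matrix.add_mulVec, Matrix.smul_mulVec, Matrix.one_mulVec] at hmv
      by_cases hy : y = 0
      · subst hy
        simp only [zero_smul, add_zero] at hmv
        rcases smul_eq_zero.mp hmv with hx | hv'
        · exact hp (by rw [hx]; rfl)
        · exact hv hv'
      · apply h (-x / y) v hv
        have : y • M.mulVec v = -(x • v) := eq_neg_of_add_eq_zero_right hmv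
        calc M.mulVec v = y⁻¹ • (y • M.mulVec v) := by rw [smul_smul, inv_mul_cancel₀ hy, one_smul]
          _ = y⁻¹ • (-(x • v)) := by rw [this]
          _ = (-x / y) • v := by rw [smul_neg, smul_smul, ← neg_smul]; congr 1; field_simp
  have : Nat.card {p : F × F // (p.1 • (1 : Matrix (Fin 2) (Fin 2) F) + p.2 • M).det ≠ 0} =
      Nat.card {p : F × F // p ≠ 0} := by
    apply Nat.card_congr
    exact Equiv.subtypeEquivRight key
  rw [this, Nat.card_eq_fintype_card, Fintype.card_subtype_compl, Fintype.card_prod, sq]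
  simp

/-- Over a finite field with q elements: a diagonal element of GL₂ with two distinct diagonal entries has centralizer of order (q − 1)² (so q(q + 1) conjugates), and an element of GL₂ with no eigenvector in F² has centralizer of order q² − 1 (so q(q − 1) conjugates). -/
theorem result {F : Type*} [Field F] [Fintype F] (g : Matrix.GeneralLinearGroup (Fin 2) F) :
    ((g : Matrix (Fin 2) (Fin 2) F) 0 1 = 0 → (g : Matrix (Fin 2) (Fin 2) F) 1 0 = 0 → (g : Matrix (Fin 2) (Fin 2) F) 0 0 ≠ (g : Matrix (Fin 2) (Fin 2) F) 1 1 →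
      Nat.card (Subgroup.centralizer ({g} : Set (Matrix.GeneralLinearGroup (Fin 2) F))) = (Fintype.card F - 1) ^ 2) ∧
    ((∀ (c : F) (v : Fin 2 → F), v ≠ 0 → (g : Matrix (Fin 2) (Fin 2) F).mulVec v ≠ c • v) →
      Nat.card (Subgroup.centralizer ({g} : Set (Matrix.GeneralLinearGroup (Fin 2) F))) = Fintype.card F ^ 2 - 1) := by
  constructor
  · intro h01 h10 hne
    rw [card_centralizer_nonscalar g (fun hs => hne hs.2.2)]
    exact card_diag _ h01 h10 hne
  · intro h
    have hns : ¬ IsScalar2 (g : Matrix (Fin 2) (Fin 2) F) := by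
      intro hs
      obtain ⟨a, ha⟩ := (isScalar2_iff _).mp hs
      apply h a ![1, 0] (by
        intro h0
        have := congrFun h0 0
        simp at this)
      rw [ha]
      simp [Matrix.smul_mulVec]
    rw [card_centralizer_nonscalar g hns]
    exact card_noeigen _ h

end Cfsg.Agent.S2303
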