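import Mathlib
import Cfsg.Statements.S2439
import Cfsg.Agent.Lib.Helper14.SL2Irr
import Cfsg.Agent.Lib.Helper14.SL2Order
import Cfsg.Agent.Lib.Helper14.SL2Torus
import Cfsg.Agent.Lib.Helper14.SL2Cusp
import Cfsg.Agent.Lib.Helper14.SL2Values
import Cfsg.Agent.Lib.Helper7.RegularDetermines
import Cfsg.Agent.Lib.Helper7.DefectClass
import Cfsg.Agent.Lib.Helper7.DefectOrder
import Cfsg.Agent.Lib.Helper7.PPrimeNormal
import Cfsg.Agent.Lib.Helper7.SectionOrtho
import Cfsg.Agent.Lib.Helper24.Defect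
import Cfsg.Agent.Lib.Helper24.Contribution
import Cfsg.Agent.Lib.Helper24.FrobSchur
import Cfsg.Agent.Lib.Helper25.Ortho2
import Cfsg.Agent.Lib.Helper2.CenterIndex
import Cfsg.Agent.Lib.Helper2.Regular

set_option autoImplicit false
open Cfsg

namespace Cfsg.Agent.S2439

open Matrix Cfsg.Agent.Lib.Helper14
open scoped ComplexConjugate Pointwise

/-! ### General facts -/

/-- A central involution takes the value `± χ(1)`. -/
theorem central_sign {K : Type*} [Group K] [Fintype K] (χ : K → ℂ)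
    (hχ : Cfsg.IsIrrCharacter K χ) (z : K) (hz : z ∈ Subgroup.center K) (hzz : z * z = 1) :
    χ z = χ 1 ∨ χ z = -χ 1 := by
  obtain ⟨n, ρ, hirr, rfl⟩ := hχ
  haveI := hirr
  obtain ⟨ω, hω⟩ := Cfsg.Agent.Lib.Helper2.exists_smul_id_of_mem_center ρ hz
  have htr : ∀ c : ℂ, LinearMap.trace ℂ (Fin n → ℂ)
      (c • (LinearMap.id : (Fin n → ℂ) →ₗ[ℂ] (Fin n → ℂ))) = c * n := by
    intro c
    rw [map_smul, LinearMap.trace_id, Module.finrank_fin_fun, smul_eq_mul]
  have hone : LinearMap.trace ℂ (Fin n → ℂ) (1 : Module.End ℂ (Fin n → ℂ)) = n := by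
    have := htr 1
    rw [one_smul, one_mul] at this
    exact this
  have h1 : ρ.character z = ω * n := by
    show LinearMap.trace ℂ _ (ρ z) = _
    rw [hω, htr]
  have h2 : ρ.character 1 = n := by
    show LinearMap.trace ℂ _ (ρ 1) = _
    rw [map_one, hone]
  have h3 : ω * ω * n = n := by
    have e : ρ (z * z) = (ω * ω) • (LinearMap.id : (Fin n → ℂ) →ₗ[ℂ] (Fin n → ℂ)) := by
      rw [map_mul, hω]
      apply LinearMap.ext
      intro v
      simp [smul_smul]
    have := congrArg (LinearMap.trace ℂ (Fin n → ℂ)) e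
    rw [hzz, map_one, htr, hone] at this
    exact this.symm
  rw [h1, h2]
  by_cases hn : (n : ℂ) = 0
  · left; rw [hn, mul_zero]
  · have hw : ω * ω = 1 := by
      have h4 : ω * ω * n = 1 * n := by rw [h3, one_mul]
      exact mul_right_cancel₀ hn h4
    have : (ω - 1) * (ω + 1) = 0 := by linear_combination hw
    rcases mul_eq_zero.mp this with h | h
    · left; rw [sub_eq_zero.mp h, one_mul]
    · right; rw [eq_neg_of_add_eq_zero_left h]; ring

/-- The central character at a central element. -/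
theorem centralChar_central {K : Type*} [Group K] (χ : K → ℂ) (z : K)
    (hz : z ∈ Subgroup.center K) : Cfsg.centralChar χ z = χ z / χ 1 := by
  unfold Cfsg.centralChar
  have : Subgroup.centralizer ({z} : Set K) = ⊤ := by
    rw [Subgroup.centralizer_eq_top_iff_subset]
    intro y hy
    rw [Set.mem_singleton_iff] at hy
    subst hy
    exact hz
  rw [this, Subgroup.index_top, Nat.cast_one, one_mul]

/-- A block containing a character of degree prime to `p` has the Sylow `p`-subgroups as defect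
groups. -/
theorem sylow_isDefectGroup {G : Type*} [Group G] [Fintype G] {p : ℕ} [Fact p.Prime]
    {M : Ideal Cfsg.AlgInt} (hM : Cfsg.IsPModular p M) (B : Set (Cfsg.IrrCharacter G))
    (hB : Cfsg.IsPBlock M B) (χ₀ : Cfsg.IrrCharacter G) (hχ₀ : χ₀ ∈ B)
    (hd : ¬ p ∣ Cfsg.charDegree (χ₀ : G → ℂ)) (S : Sylow p G) :
    Cfsg.IsDefectGroup p M B (S : Subgroup G) := by
  have hfac : ∀ g : G, Cfsg.IsDefectClass M B g →
      (Nat.card (Subgroup.centralizer ({g} : Set G))).factorization p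
        = (Nat.card G).factorization p := by
    intro g hg
    have h1 := Cfsg.Agent.Lib.Helper7.factorization_index_le_of_centralChar hM χ₀ g
      (hg.2.2 χ₀ hχ₀)
    have h0 : (Cfsg.charDegree (χ₀ : G → ℂ)).factorization p = 0 :=
      Nat.factorization_eq_zero_of_not_dvd hd
    have h3 := Subgroup.card_mul_index (Subgroup.centralizer ({g} : Set G))
    have hc : Nat.card (Subgroup.centralizer ({g} : Set G)) ≠ 0 := Nat.card_pos.ne'
    have hi : (Subgroup.centralizer ({g} : Set G)).index ≠ 0 := Subgroup.index_ne_zero_of_finite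
    rw [← h3, Nat.factorization_mul hc hi, Finsupp.add_apply]
    omega
  obtain ⟨D₀, hD₀⟩ := Cfsg.Agent.Lib.Helper24.exists_isDefectGroup hM B hB
  obtain ⟨g, hg, hD₀C, hcard⟩ := Cfsg.Agent.Lib.Helper24.exists_of_isDefectGroup hD₀
  have hcard' := hcard
  rw [hfac g hg] at hcard'
  obtain ⟨y, hy⟩ := MulAction.exists_smul_eq G (Sylow.ofCard D₀ hcard') S
  have hS : (S : Subgroup G) = MulAut.conj y • D₀ := by
    rw [← hy, Sylow.coe_subgroup_smul, Sylow.coe_ofCard]
  have hg' : Cfsg.IsDefectClass M B (y * g * y⁻¹) :=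
    Cfsg.Agent.Lib.Helper24.isDefectClass_conj hg y
  apply Cfsg.Agent.Lib.Helper24.isDefectGroup_of_le_centralizer hg'
  · intro s hs
    rw [hS, Subgroup.mem_pointwise_smul_iff_inv_smul_mem] at hs
    have h1 : (MulAut.conj y)⁻¹ • s = y⁻¹ * s * y := by
      simp [MulAut.smul_def]
    rw [h1] at hs
    have h2 := hD₀C hs
    rw [Subgroup.mem_centralizer_iff] at h2 ⊢
    intro z hz
    rw [Set.mem_singleton_iff] at hz
    subst hz
    have h3 := h2 g (Set.mem_singleton g)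
    calc y * g * y⁻¹ * s = y * (g * (y⁻¹ * s * y)) * y⁻¹ := by group
      _ = y * ((y⁻¹ * s * y) * g) * y⁻¹ := by rw [h3]
      _ = s * (y * g * y⁻¹) := by group
  · rw [hfac _ hg']
    exact S.card_eq_multiplicity

/-! ### `SL₂(F)` -/

section SL

variable {F : Type*} [Field F] [Fintype F] [DecidableEq F]

/-- The Steinberg character. -/
noncomputable def stIrr : Cfsg.IrrCharacter (SpecialLinearGroup (Fin 2) F) :=
  ⟨res (st (1 : MulChar F ℂ)), res_st_irr⟩

theorem stIrr_one : ((stIrr : Cfsg.IrrCharacter (SpecialLinearGroup (Fin 2) F)) :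
    SpecialLinearGroup (Fin 2) F → ℂ) 1 = (Fintype.card F : ℂ) := res_st_one

theorem stIrr_neg_one : ((stIrr : Cfsg.IrrCharacter (SpecialLinearGroup (Fin 2) F)) :
    SpecialLinearGroup (Fin 2) F → ℂ) (-1) = (Fintype.card F : ℂ) := by
  have h := res_st_neg (F := F) 1
  rw [mul_one] at h
  show res (st (1 : MulChar F ℂ)) (-1) = _
  rw [h, res_st_one]

theorem card_F_ne_zero : ((Fintype.card F : ℕ) : ℂ) ≠ 0 := by
  exact_mod_cast (Fintype.card_pos (α := F)).ne'

/-- The possible degrees. -/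
theorem deg_cases (χ : Cfsg.IrrCharacter (SpecialLinearGroup (Fin 2) F)) :
    χ = stIrr ∨ ∃ d : ℕ, (χ : SpecialLinearGroup (Fin 2) F → ℂ) 1 = (d : ℂ) ∧
      (d = 1 ∨ d = Fintype.card F + 1 ∨ 2 * d = Fintype.card F + 1 ∨ d + 1 = Fintype.card F ∨
        2 * d + 1 = Fintype.card F) := by
  have hd := Cfsg.Agent.Lib.Helper24.apply_one_eq_charDegree χ
  set d := Cfsg.charDegree (χ : SpecialLinearGroup (Fin 2) F → ℂ) with hdd
  rcases irrSL_cases χ.2 with h | h | ⟨δ, hδ, h⟩ | ⟨δ, θ', _, _, _, _, _, h, _⟩ | ⟨χ', hc, h⟩ |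
    ⟨χ', θ', hc, _, _, _, h, _⟩
  · right
    refine ⟨d, hd, Or.inl ?_⟩
    have : (d : ℂ) = 1 := by rw [← hd, h]
    exact_mod_cast this
  · left
    exact Subtype.ext h
  · right
    refine ⟨d, hd, Or.inr (Or.inl ?_)⟩
    have : (d : ℂ) = (Fintype.card F : ℂ) + 1 := by rw [← hd, h, res_ps_one]
    exact_mod_cast this
  · right
    refine ⟨d, hd, Or.inr (Or.inr (Or.inl ?_))⟩
    have : 2 * (d : ℂ) = (Fintype.card F : ℂ) + 1 := by rw [← hd]; exact h
    exact_mod_cast this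
  · right
    refine ⟨d, hd, Or.inr (Or.inr (Or.inr (Or.inl ?_)))⟩
    have h1 : (d : ℂ) = (Fintype.card F : ℂ) - 1 := by rw [← hd, ← h, res_cusp_one χ' hc]
    have h2 : (d : ℂ) + 1 = (Fintype.card F : ℂ) := by rw [h1]; ring
    exact_mod_cast h2
  · right
    refine ⟨d, hd, Or.inr (Or.inr (Or.inr (Or.inr ?_)))⟩
    have h1 : 2 * (d : ℂ) = (Fintype.card F : ℂ) - 1 := by rw [← hd]; exact h
    have h2 : 2 * (d : ℂ) + 1 = (Fintype.card F : ℂ) := by rw [h1]; ring
    exact_mod_cast h2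

theorem eq_stIrr_of_deg (χ : Cfsg.IrrCharacter (SpecialLinearGroup (Fin 2) F))
    (h : (χ : SpecialLinearGroup (Fin 2) F → ℂ) 1 = (Fintype.card F : ℂ)) : χ = stIrr := by
  have hq := Fintype.one_lt_card (α := F)
  rcases deg_cases χ with h' | ⟨d, hd, hcase⟩
  · exact h'
  · exfalso
    have : d = Fintype.card F := by
      rw [hd] at h
      exact_mod_cast h
    omega

theorem p_dvd_q (p : ℕ) [Fact p.Prime] [CharP F p] : p ∣ Fintype.card F := by
  have : ((Fintype.card F : ℕ) : F) = 0 := FiniteField.cast_card_eq_zero F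
  exact (CharP.cast_eq_zero_iff F p _).mp this

theorem not_dvd_degree (p : ℕ) [Fact p.Prime] [CharP F p]
    (χ : Cfsg.IrrCharacter (SpecialLinearGroup (Fin 2) F)) (h : χ ≠ stIrr) :
    ¬ p ∣ Cfsg.charDegree (χ : SpecialLinearGroup (Fin 2) F → ℂ) := by
  have hpq := p_dvd_q (F := F) p
  have hp1 : ¬ p ∣ 1 := (Fact.out : p.Prime).not_dvd_one
  rcases deg_cases χ with h' | ⟨d, hd, hcase⟩
  · exact absurd h' h
  · have hdd : Cfsg.charDegree (χ : SpecialLinearGroup (Fin 2) F → ℂ) = d := by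
      have := Cfsg.Agent.Lib.Helper24.apply_one_eq_charDegree χ
      rw [hd] at this
      exact_mod_cast this.symm
    rw [hdd]
    intro hpd
    rcases hcase with h2 | h2 | h2 | h2 | h2
    · rw [h2] at hpd
      exact hp1 hpd
    · rw [h2] at hpd
      exact hp1 ((Nat.dvd_add_right hpq).mp hpd)
    · have h3 : p ∣ Fintype.card F + 1 := by
        rw [← h2]
        exact Dvd.dvd.mul_left hpd 2
      exact hp1 ((Nat.dvd_add_right hpq).mp h3)
    · have h3 : p ∣ d + 1 := by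
        rw [h2]
        exact hpq
      exact hp1 ((Nat.dvd_add_right hpd).mp h3)
    · have h3 : p ∣ 2 * d + 1 := by
        rw [h2]
        exact hpq
      exact hp1 ((Nat.dvd_add_right (Dvd.dvd.mul_left hpd 2)).mp h3)

theorem two_ne_zero_F (p : ℕ) [Fact p.Prime] [CharP F p] (hp : p ≠ 2) : (2 : F) ≠ 0 := by
  have hpp : p.Prime := Fact.out
  intro h
  have h' : ((2 : ℕ) : F) = 0 := by exact_mod_cast h
  have := (CharP.cast_eq_zero_iff F p 2).mp h'
  exact hp ((Nat.prime_dvd_prime_iff_eq hpp Nat.prime_two).mp this)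

/-- A non-central `p`-regular element has class size divisible by `p`. -/
theorem dvd_index (p : ℕ) [Fact p.Prime] [CharP F p] (hp : p ≠ 2)
    (g : SpecialLinearGroup (Fin 2) F) (hreg : ¬ p ∣ orderOf g) (h1 : g ≠ 1) (h2 : g ≠ -1) :
    p ∣ (Subgroup.centralizer ({g} : Set (SpecialLinearGroup (Fin 2) F))).index := by
  by_contra hnd
  have hpp : p.Prime := Fact.out
  have h2F : (2 : F) ≠ 0 := two_ne_zero_F p hp
  have hcard := card_SL2 (F := F)
  have hdvdG : p ∣ Nat.card (SpecialLinearGroup (Fin 2) F) := by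
    rw [hcard]
    exact Dvd.dvd.mul_right (p_dvd_q p) _
  have hmul := Subgroup.card_mul_index
    (Subgroup.centralizer ({g} : Set (SpecialLinearGroup (Fin 2) F)))
  rw [← hmul] at hdvdG
  have hdvdC : p ∣ Nat.card (Subgroup.centralizer ({g} : Set (SpecialLinearGroup (Fin 2) F))) :=
    (hpp.dvd_mul.mp hdvdG).resolve_right hnd
  obtain ⟨u, hu⟩ := exists_prime_orderOf_dvd_card' p hdvdC
  have hu0 : orderOf (u : SpecialLinearGroup (Fin 2) F) = p := by
    rw [Subgroup.orderOf_coe]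
    exact hu
  obtain ⟨hns, htr⟩ := data_of_order_SL p (u : SpecialLinearGroup (Fin 2) F) hu0
  obtain ⟨b, hb, hconj⟩ := exists_isConj_upperSL (u : SpecialLinearGroup (Fin 2) F) hns 1
    (one_mul 1) (by rw [htr, mul_one])
  obtain ⟨x, hx⟩ := isConj_iff.mp hconj
  have hug : g * (u : SpecialLinearGroup (Fin 2) F) = (u : SpecialLinearGroup (Fin 2) F) * g :=
    Subgroup.mem_centralizer_iff.mp u.2 g (Set.mem_singleton g)
  set g' : SpecialLinearGroup (Fin 2) F := x * g * x⁻¹ with hg'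
  have hcomm : g' * upperSL 1 b (one_mul 1) = upperSL 1 b (one_mul 1) * g' := by
    rw [← hx, hg']
    calc x * g * x⁻¹ * (x * (u : SpecialLinearGroup (Fin 2) F) * x⁻¹)
        = x * (g * (u : SpecialLinearGroup (Fin 2) F)) * x⁻¹ := by group
      _ = x * ((u : SpecialLinearGroup (Fin 2) F) * g) * x⁻¹ := by rw [hug]
      _ = x * (u : SpecialLinearGroup (Fin 2) F) * x⁻¹ * (x * g * x⁻¹) := by group
  have hm : (g' : Matrix (Fin 2) (Fin 2) F) * !![1, b; 0, 1] =
      !![1, b; 0, 1] * (g' : Matrix (Fin 2) (Fin 2) F) :=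
    congrArg (fun z : SpecialLinearGroup (Fin 2) F => (z : Matrix (Fin 2) (Fin 2) F)) hcomm
  have e00 := congrFun (congrFun hm 0) 0
  have e01 := congrFun (congrFun hm 0) 1
  simp [Matrix.mul_apply, Fin.sum_univ_two] at e00 e01
  have hA10 : (g' : Matrix (Fin 2) (Fin 2) F) 1 0 = 0 := by
    have : b * (g' : Matrix (Fin 2) (Fin 2) F) 1 0 = 0 := by
      rcases e00 with h | h
      · exact absurd h hb
      · rw [h, mul_zero]
    exact (mul_eq_zero.mp this).resolve_left hb
  have hA : (g' : Matrix (Fin 2) (Fin 2) F) 0 0 = (g' : Matrix (Fin 2) (Fin 2) F) 1 1 := by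
    have : b * ((g' : Matrix (Fin 2) (Fin 2) F) 0 0 - (g' : Matrix (Fin 2) (Fin 2) F) 1 1) = 0 := by
      linear_combination e01
    exact sub_eq_zero.mp ((mul_eq_zero.mp this).resolve_left hb)
  have hdet := SL_det_eq g'
  rw [hA10, mul_zero, sub_zero, ← hA] at hdet
  obtain ⟨a, ha⟩ : ∃ a : F, (g' : Matrix (Fin 2) (Fin 2) F) 0 0 = a := ⟨_, rfl⟩
  obtain ⟨c, hc⟩ : ∃ c : F, (g' : Matrix (Fin 2) (Fin 2) F) 0 1 = c := ⟨_, rfl⟩
  rw [ha] at hdet hA
  have heta : (g' : Matrix (Fin 2) (Fin 2) F) = !![a, c; 0, a] := by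
    rw [Matrix.eta_fin_two (g' : Matrix (Fin 2) (Fin 2) F), hA10, ← hA, ha, hc]
  have hsq : g' * g' = upperSL 1 (2 * a * c) (one_mul 1) := by
    apply Subtype.ext
    show (g' : Matrix (Fin 2) (Fin 2) F) * (g' : Matrix (Fin 2) (Fin 2) F) = !![1, 2 * a * c; 0, 1]
    rw [heta, Matrix.mul_fin_two]
    apply mat2_mk_eq
    · linear_combination hdet
    · ring
    · ring
    · linear_combination hdet
  have hpow : g' ^ (2 * p) = 1 := by
    rw [pow_mul, pow_two, hsq, upperSL_one_pow, CharP.cast_eq_zero, zero_mul]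
    exact (upperSL_eq_one_iff _).mpr rfl
  have hpow' : g ^ (2 * p) = 1 := by
    rw [hg', conj_pow, conj_eq_one_iff] at hpow
    exact hpow
  have hdvd : orderOf g ∣ 2 * p := orderOf_dvd_of_pow_eq_one hpow'
  have hcop : Nat.Coprime (orderOf g) p :=
    ((Nat.Prime.coprime_iff_not_dvd hpp).mpr hreg).symm
  have hd2 : orderOf g ∣ 2 := hcop.dvd_of_dvd_mul_right hdvd
  have hgg : g * g = 1 := by
    rw [← pow_two]
    exact orderOf_dvd_iff_pow_eq_one.mp hd2
  rcases eq_one_or_neg_one_of_mul_self h2F g hgg with h | h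
  · exact h1 h
  · exact h2 h

variable {p : ℕ} [Fact p.Prime] [CharP F p] {M : Ideal Cfsg.AlgInt}

/-- Central characters of non-Steinberg characters vanish mod `M` at non-central `p`-regular
elements. -/
theorem centralChar_mem (hM : Cfsg.IsPModular p M) (hp : p ≠ 2)
    (χ : Cfsg.IrrCharacter (SpecialLinearGroup (Fin 2) F)) (hχ : χ ≠ stIrr)
    (g : SpecialLinearGroup (Fin 2) F) (hreg : ¬ p ∣ orderOf g) (h1 : g ≠ 1) (h2 : g ≠ -1) :
    Cfsg.MemLocalIdeal M (Cfsg.centralChar (χ : SpecialLinearGroup (Fin 2) F → ℂ) g) := by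
  have hpp : p.Prime := Fact.out
  by_contra hcon
  have hle := Cfsg.Agent.Lib.Helper7.factorization_index_le_of_centralChar hM χ g hcon
  have h0 : (Cfsg.charDegree (χ : SpecialLinearGroup (Fin 2) F → ℂ)).factorization p = 0 :=
    Nat.factorization_eq_zero_of_not_dvd (not_dvd_degree p χ hχ)
  have hdvd := dvd_index p hp g hreg h1 h2
  have hi : (Subgroup.centralizer ({g} : Set (SpecialLinearGroup (Fin 2) F))).index ≠ 0 :=
    Subgroup.index_ne_zero_of_finite
  have hpos := Nat.Prime.factorization_pos_of_dvd hpp hi hdvd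
  omega

/-- The block of the Steinberg character. -/
theorem blockOf_stIrr (hM : Cfsg.IsPModular p M) :
    Cfsg.blockOf M ((stIrr : Cfsg.IrrCharacter (SpecialLinearGroup (Fin 2) F)) :
      SpecialLinearGroup (Fin 2) F → ℂ) = {stIrr} := by
  have hpp : p.Prime := Fact.out
  apply Set.Subset.antisymm
  · apply Cfsg.Agent.Lib.Helper7.blockOf_subset_of_memLocalRing hM {stIrr} _ stIrr rfl
    intro g
    have hq2 : ¬ p ∣ Fintype.card F ^ 2 - 1 := by
      intro h
      have h1 : p ∣ Fintype.card F ^ 2 := Dvd.dvd.pow (p_dvd_q p) two_ne_zero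
      have h2 : 1 ≤ Fintype.card F ^ 2 := Nat.one_le_pow _ _ Fintype.card_pos
      have h3 : p ∣ Fintype.card F ^ 2 - (Fintype.card F ^ 2 - 1) := Nat.dvd_sub h1 h
      have h4 : Fintype.card F ^ 2 - (Fintype.card F ^ 2 - 1) = 1 := by omega
      rw [h4] at h3
      exact hpp.not_dvd_one h3
    have hval : Cfsg.blockCoeff ({stIrr} : Set (Cfsg.IrrCharacter (SpecialLinearGroup (Fin 2) F))) g
        = ((Fintype.card F ^ 2 - 1 : ℕ) : ℂ)⁻¹ *
          conj ((stIrr : Cfsg.IrrCharacter (SpecialLinearGroup (Fin 2) F)).1 g) := by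
      unfold Cfsg.blockCoeff
      rw [finsum_mem_singleton, stIrr_one, card_SL2]
      have hq0 := card_F_ne_zero (F := F)
      have hq1 : ((Fintype.card F ^ 2 - 1 : ℕ) : ℂ) ≠ 0 := by
        have : 0 < Fintype.card F ^ 2 - 1 := by
          have := Fintype.one_lt_card (α := F)
          have : 2 ^ 2 ≤ Fintype.card F ^ 2 := Nat.pow_le_pow_left this 2
          omega
        exact_mod_cast this.ne'
      push_cast at hq1 ⊢
      field_simp
    rw [hval]
    exact Cfsg.Agent.Lib.Helper24.memLocalRing_mul hM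
      (Cfsg.Agent.Lib.Helper24.memLocalRing_natCast_inv hM hq2)
      (Cfsg.Agent.Lib.Helper24.memLocalRing_of_isIntegral hM
        (Cfsg.Agent.Lib.Helper7.irr_value_conj_isIntegral stIrr g))
  · intro ψ hψ
    rw [Set.mem_singleton_iff] at hψ
    rw [hψ]
    exact Cfsg.Agent.Lib.Helper24.mem_blockOf_self hM stIrr

theorem neg_one_ne_one (hp : p ≠ 2) : (-1 : SpecialLinearGroup (Fin 2) F) ≠ 1 := by
  intro h
  have h2F := two_ne_zero_F (F := F) p hp
  have := congrArg (fun z : SpecialLinearGroup (Fin 2) F => (z : Matrix (Fin 2) (Fin 2) F) 0 0) h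
  simp at this
  apply h2F
  linear_combination -this

theorem neg_one_mul_neg_one : (-1 : SpecialLinearGroup (Fin 2) F) * -1 = 1 := by
  apply Subtype.ext
  simp

/-- Description of the block of a non-Steinberg character. -/
theorem blockOf_eq (hM : Cfsg.IsPModular p M) (hp : p ≠ 2)
    (χ₀ : Cfsg.IrrCharacter (SpecialLinearGroup (Fin 2) F)) (h0 : χ₀ ≠ stIrr) :
    Cfsg.blockOf M (χ₀ : SpecialLinearGroup (Fin 2) F → ℂ) =
      {ψ | ψ ≠ stIrr ∧ (ψ : SpecialLinearGroup (Fin 2) F → ℂ) (-1) *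
        (χ₀ : SpecialLinearGroup (Fin 2) F → ℂ) 1 =
        (χ₀ : SpecialLinearGroup (Fin 2) F → ℂ) (-1) *
          (ψ : SpecialLinearGroup (Fin 2) F → ℂ) 1} := by
  have hpp : p.Prime := Fact.out
  have ha : (χ₀ : SpecialLinearGroup (Fin 2) F → ℂ) 1 ≠ 0 :=
    Cfsg.Agent.Lib.Helper2.IsIrrCharacter.apply_one_ne_zero χ₀.2
  have h2not : ¬ Cfsg.MemLocalIdeal M (2 : ℂ) := by
    intro h
    have h' : Cfsg.MemLocalIdeal M ((2 : ℕ) : ℂ) := by exact_mod_cast h
    have := (Cfsg.Agent.Lib.Helper24.memLocalIdeal_natCast_iff hM 2).mp h'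
    exact hp ((Nat.prime_dvd_prime_iff_eq hpp Nat.prime_two).mp this)
  ext ψ
  have hb : (ψ : SpecialLinearGroup (Fin 2) F → ℂ) 1 ≠ 0 :=
    Cfsg.Agent.Lib.Helper2.IsIrrCharacter.apply_one_ne_zero ψ.2
  simp only [Set.mem_ofPred_eq]
  constructor
  · intro hψ
    constructor
    · intro hst
      rw [hst] at hψ
      have h1 := Cfsg.Agent.Lib.Helper7.mem_blockOf_symm hM hψ
      rw [blockOf_stIrr hM, Set.mem_singleton_iff] at h1
      exact h0 h1
    · have h1 : Cfsg.MemLocalIdeal M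
          (Cfsg.centralChar (χ₀ : SpecialLinearGroup (Fin 2) F → ℂ) (-1) -
            Cfsg.centralChar (ψ : SpecialLinearGroup (Fin 2) F → ℂ) (-1)) := hψ (-1)
      rw [centralChar_central _ _ neg_one_mem_center_SL,
        centralChar_central _ _ neg_one_mem_center_SL] at h1
      rcases central_sign _ χ₀.2 (-1) neg_one_mem_center_SL neg_one_mul_neg_one with h3 | h3 <;>
      rcases central_sign _ ψ.2 (-1) neg_one_mem_center_SL neg_one_mul_neg_one with h4 | h4
      · rw [h3, h4]; ring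
      · exfalso
        rw [h3, h4, div_self ha, neg_div, div_self hb] at h1
        apply h2not
        have : (1 : ℂ) - -1 = 2 := by norm_num
        rw [this] at h1
        exact h1
      · exfalso
        rw [h3, h4, neg_div, div_self ha, div_self hb] at h1
        apply h2not
        have h5 := Cfsg.Agent.Lib.Helper24.memLocalIdeal_neg h1
        have : -((-1 : ℂ) - 1) = 2 := by norm_num
        rw [this] at h5
        exact h5
      · rw [h3, h4]; ring
  · rintro ⟨hne, hs⟩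
    apply Cfsg.Agent.Lib.Helper7.mem_blockOf_of_regular hM χ₀ ψ
    intro g hreg
    by_cases h1 : g = 1
    · subst h1
      rw [centralChar_central _ _ (Subgroup.one_mem _), centralChar_central _ _ (Subgroup.one_mem _),
        div_self ha, div_self hb, sub_self]
      exact Cfsg.Agent.Lib.Helper24.memLocalIdeal_zero hM
    · by_cases h2 : g = -1
      · subst h2
        rw [centralChar_central _ _ neg_one_mem_center_SL,
          centralChar_central _ _ neg_one_mem_center_SL]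
        have : (χ₀ : SpecialLinearGroup (Fin 2) F → ℂ) (-1) /
            (χ₀ : SpecialLinearGroup (Fin 2) F → ℂ) 1 -
            (ψ : SpecialLinearGroup (Fin 2) F → ℂ) (-1) /
              (ψ : SpecialLinearGroup (Fin 2) F → ℂ) 1 = 0 := by
          field_simp
          linear_combination -hs
        rw [this]
        exact Cfsg.Agent.Lib.Helper24.memLocalIdeal_zero hM
      · exact Cfsg.Agent.Lib.Helper24.memLocalIdeal_sub hM
          (centralChar_mem hM hp χ₀ h0 g hreg h1 h2) (centralChar_mem hM hp ψ hne g hreg h1 h2)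

theorem blockOf_even (hM : Cfsg.IsPModular p M) (hp : p ≠ 2)
    (χ₀ : Cfsg.IrrCharacter (SpecialLinearGroup (Fin 2) F)) (h0 : χ₀ ≠ stIrr)
    (hs0 : (χ₀ : SpecialLinearGroup (Fin 2) F → ℂ) (-1) =
      (χ₀ : SpecialLinearGroup (Fin 2) F → ℂ) 1) :
    Cfsg.blockOf M (χ₀ : SpecialLinearGroup (Fin 2) F → ℂ) =
      {χ : Cfsg.IrrCharacter (SpecialLinearGroup (Fin 2) F) |
        (χ : SpecialLinearGroup (Fin 2) F → ℂ) (-1) = (χ : SpecialLinearGroup (Fin 2) F → ℂ) 1 ∧
        (χ : SpecialLinearGroup (Fin 2) F → ℂ) 1 ≠ (Fintype.card F : ℂ)} := by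
  have ha : (χ₀ : SpecialLinearGroup (Fin 2) F → ℂ) 1 ≠ 0 :=
    Cfsg.Agent.Lib.Helper2.IsIrrCharacter.apply_one_ne_zero χ₀.2
  rw [blockOf_eq hM hp χ₀ h0]
  ext ψ
  simp only [Set.mem_ofPred_eq]
  constructor
  · rintro ⟨hne, hs⟩
    rw [hs0] at hs
    refine ⟨?_, fun h => hne (eq_stIrr_of_deg ψ h)⟩
    have : (ψ : SpecialLinearGroup (Fin 2) F → ℂ) (-1) *
        (χ₀ : SpecialLinearGroup (Fin 2) F → ℂ) 1 =
        (ψ : SpecialLinearGroup (Fin 2) F → ℂ) 1 * (χ₀ : SpecialLinearGroup (Fin 2) F → ℂ) 1 := by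
      rw [hs]; ring
    exact mul_right_cancel₀ ha this
  · rintro ⟨hs, hq⟩
    refine ⟨fun h => hq (by rw [h]; exact stIrr_one), ?_⟩
    rw [hs0, hs]
    ring

theorem blockOf_odd (hM : Cfsg.IsPModular p M) (hp : p ≠ 2)
    (χ₀ : Cfsg.IrrCharacter (SpecialLinearGroup (Fin 2) F))
    (hs0 : (χ₀ : SpecialLinearGroup (Fin 2) F → ℂ) (-1) =
      -(χ₀ : SpecialLinearGroup (Fin 2) F → ℂ) 1) :
    Cfsg.blockOf M (χ₀ : SpecialLinearGroup (Fin 2) F → ℂ) =
      {χ : Cfsg.IrrCharacter (SpecialLinearGroup (Fin 2) F) |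
        (χ : SpecialLinearGroup (Fin 2) F → ℂ) (-1) =
          -(χ : SpecialLinearGroup (Fin 2) F → ℂ) 1} := by
  have ha : (χ₀ : SpecialLinearGroup (Fin 2) F → ℂ) 1 ≠ 0 :=
    Cfsg.Agent.Lib.Helper2.IsIrrCharacter.apply_one_ne_zero χ₀.2
  have hodd_ne : ∀ ψ : Cfsg.IrrCharacter (SpecialLinearGroup (Fin 2) F),
      (ψ : SpecialLinearGroup (Fin 2) F → ℂ) (-1) = -(ψ : SpecialLinearGroup (Fin 2) F → ℂ) 1 →
      ψ ≠ stIrr := by
    intro ψ hs h
    rw [h, stIrr_neg_one, stIrr_one] at hs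
    have hq0 := card_F_ne_zero (F := F)
    apply hq0
    linear_combination (1 / 2 : ℂ) * hs
  rw [blockOf_eq hM hp χ₀ (hodd_ne χ₀ hs0)]
  ext ψ
  simp only [Set.mem_ofPred_eq]
  constructor
  · rintro ⟨hne, hs⟩
    rw [hs0] at hs
    have : (ψ : SpecialLinearGroup (Fin 2) F → ℂ) (-1) *
        (χ₀ : SpecialLinearGroup (Fin 2) F → ℂ) 1 =
        (-(ψ : SpecialLinearGroup (Fin 2) F → ℂ) 1) *
          (χ₀ : SpecialLinearGroup (Fin 2) F → ℂ) 1 := by
      rw [hs]; ring
    exact mul_right_cancel₀ ha this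
  · intro hs
    refine ⟨hodd_ne ψ hs, ?_⟩
    rw [hs0, hs]
    ring

/-- There is an irreducible character with `χ(-1) = -χ(1)`. -/
theorem exists_odd (hp : p ≠ 2) : ∃ χ : Cfsg.IrrCharacter (SpecialLinearGroup (Fin 2) F),
    (χ : SpecialLinearGroup (Fin 2) F → ℂ) (-1) = -(χ : SpecialLinearGroup (Fin 2) F → ℂ) 1 := by
  have : Fintype (Cfsg.IrrCharacter (SpecialLinearGroup (Fin 2) F)) := Fintype.ofFinite _
  by_contra hcon
  push Not at hcon
  have hall : ∀ χ : Cfsg.IrrCharacter (SpecialLinearGroup (Fin 2) F),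
      (χ : SpecialLinearGroup (Fin 2) F → ℂ) (-1) = (χ : SpecialLinearGroup (Fin 2) F → ℂ) 1 := by
    intro χ
    rcases central_sign _ χ.2 (-1) neg_one_mem_center_SL neg_one_mul_neg_one with h | h
    · exact h
    · exact absurd h (hcon χ)
  have h1 := Cfsg.Agent.Lib.Helper25.sum_degree_mul_char (G := SpecialLinearGroup (Fin 2) F) (-1)
    (neg_one_ne_one (p := p) hp)
  have h2 := Cfsg.Agent.Lib.Helper25.sum_degree_sq (G := SpecialLinearGroup (Fin 2) F)
  have h3 : ∑ χ : Cfsg.IrrCharacter (SpecialLinearGroup (Fin 2) F),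
      (χ : SpecialLinearGroup (Fin 2) F → ℂ) 1 * (χ : SpecialLinearGroup (Fin 2) F → ℂ) (-1) =
      ∑ χ : Cfsg.IrrCharacter (SpecialLinearGroup (Fin 2) F),
      (χ : SpecialLinearGroup (Fin 2) F → ℂ) 1 * (χ : SpecialLinearGroup (Fin 2) F → ℂ) 1 := by
    apply Finset.sum_congr rfl
    intro χ _
    rw [hall χ]
  rw [h3, h2] at h1
  exact Cfsg.Agent.Lib.Helper25.card_ne_zero_complex (G := SpecialLinearGroup (Fin 2) F) h1

end SL

/-- Let F be a finite field with q elements of odd characteristic p, and M a maximal ideal of the algebraic integers containing p. Then SL₂ over F has exactly three p-blocks relative to M: the irreducible character of degree q (the Steinberg character) alone; the other irreducible characters taking the same value at −1 as at 1 (the principal block); and the irreducible characters χ with χ(−1) = −χ(1). Every Sylow p-subgroup is a defect group of each of the last two blocks. -/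
theorem result {F : Type*} [Field F] [Fintype F] (p : ℕ) [Fact p.Prime] [CharP F p] (hp : p ≠ 2)
    (M : Ideal Cfsg.AlgInt) (hM : Cfsg.IsPModular p M) :
    (∀ B : Set (Cfsg.IrrCharacter (Matrix.SpecialLinearGroup (Fin 2) F)), Cfsg.IsPBlock M B ↔
      (B = {χ : Cfsg.IrrCharacter (Matrix.SpecialLinearGroup (Fin 2) F) | (χ : Matrix.SpecialLinearGroup (Fin 2) F → ℂ) 1 = (Fintype.card F : ℂ)} ∨
       B = {χ : Cfsg.IrrCharacter (Matrix.SpecialLinearGroup (Fin 2) F) | (χ : Matrix.SpecialLinearGroup (Fin 2) F → ℂ) (-1) = (χ : Matrix.SpecialLinearGroup (Fin 2) F → ℂ) 1 ∧ (χ : Matrix.SpecialLinearGroup (Fin 2) F → ℂ) 1 ≠ (Fintype.card F : ℂ)} ∨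
       B = {χ : Cfsg.IrrCharacter (Matrix.SpecialLinearGroup (Fin 2) F) | (χ : Matrix.SpecialLinearGroup (Fin 2) F → ℂ) (-1) = -(χ : Matrix.SpecialLinearGroup (Fin 2) F → ℂ) 1})) ∧
    Nat.card {B : Set (Cfsg.IrrCharacter (Matrix.SpecialLinearGroup (Fin 2) F)) // Cfsg.IsPBlock M B} = 3 ∧
    ∀ P : Sylow p (Matrix.SpecialLinearGroup (Fin 2) F),
      Cfsg.IsDefectGroup p M {χ : Cfsg.IrrCharacter (Matrix.SpecialLinearGroup (Fin 2) F) | (χ : Matrix.SpecialLinearGroup (Fin 2) F → ℂ) (-1) = (χ : Matrix.SpecialLinearGroup (Fin 2) F → ℂ) 1 ∧ (χ : Matrix.SpecialLinearGroup (Fin 2) F → ℂ) 1 ≠ (Fintype.card F : ℂ)} (P : Subgroup (Matrix.SpecialLinearGroup (Fin 2) F)) ∧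
      Cfsg.IsDefectGroup p M {χ : Cfsg.IrrCharacter (Matrix.SpecialLinearGroup (Fin 2) F) | (χ : Matrix.SpecialLinearGroup (Fin 2) F → ℂ) (-1) = -(χ : Matrix.SpecialLinearGroup (Fin 2) F → ℂ) 1} (P : Subgroup (Matrix.SpecialLinearGroup (Fin 2) F)) := by
  classical
  have hq := Fintype.one_lt_card (α := F)
  have hq0 := card_F_ne_zero (F := F)
  -- the three sets
  set B₁ : Set (Cfsg.IrrCharacter (Matrix.SpecialLinearGroup (Fin 2) F)) :=
    {χ | (χ : Matrix.SpecialLinearGroup (Fin 2) F → ℂ) 1 = (Fintype.card F : ℂ)} with hB₁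
  set B₂ : Set (Cfsg.IrrCharacter (Matrix.SpecialLinearGroup (Fin 2) F)) :=
    {χ | (χ : Matrix.SpecialLinearGroup (Fin 2) F → ℂ) (-1) =
      (χ : Matrix.SpecialLinearGroup (Fin 2) F → ℂ) 1 ∧
      (χ : Matrix.SpecialLinearGroup (Fin 2) F → ℂ) 1 ≠ (Fintype.card F : ℂ)} with hB₂
  set B₃ : Set (Cfsg.IrrCharacter (Matrix.SpecialLinearGroup (Fin 2) F)) :=
    {χ | (χ : Matrix.SpecialLinearGroup (Fin 2) F → ℂ) (-1) =
      -(χ : Matrix.SpecialLinearGroup (Fin 2) F → ℂ) 1} with hB₃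
  -- the trivial character
  set triv : Cfsg.IrrCharacter (Matrix.SpecialLinearGroup (Fin 2) F) :=
    Cfsg.Agent.Lib.Helper24.trivIrr _ with htriv
  have htriv_ne : triv ≠ stIrr := by
    intro h
    have h1 := stIrr_one (F := F)
    rw [← h] at h1
    have h2 : (1 : ℂ) = (Fintype.card F : ℂ) := h1
    have : (1 : ℕ) = Fintype.card F := by exact_mod_cast h2
    omega
  obtain ⟨χ₃, hχ₃⟩ := exists_odd (F := F) (p := p) hp
  have e₁ : Cfsg.blockOf M ((stIrr : Cfsg.IrrCharacter (Matrix.SpecialLinearGroup (Fin 2) F)) :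
      Matrix.SpecialLinearGroup (Fin 2) F → ℂ) = B₁ := by
    rw [blockOf_stIrr hM]
    ext ψ
    rw [Set.mem_singleton_iff, hB₁, Set.mem_ofPred_eq]
    constructor
    · intro h
      rw [h]
      exact stIrr_one
    · exact eq_stIrr_of_deg ψ
  have e₂ : Cfsg.blockOf M (triv : Matrix.SpecialLinearGroup (Fin 2) F → ℂ) = B₂ :=
    blockOf_even hM hp triv htriv_ne rfl
  have e₃ : Cfsg.blockOf M (χ₃ : Matrix.SpecialLinearGroup (Fin 2) F → ℂ) = B₃ :=
    blockOf_odd hM hp χ₃ hχ₃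
  have hst₁ : (stIrr : Cfsg.IrrCharacter (Matrix.SpecialLinearGroup (Fin 2) F)) ∈ B₁ := stIrr_one
  have hst₂ : (stIrr : Cfsg.IrrCharacter (Matrix.SpecialLinearGroup (Fin 2) F)) ∉ B₂ :=
    fun h => h.2 stIrr_one
  have hst₃ : (stIrr : Cfsg.IrrCharacter (Matrix.SpecialLinearGroup (Fin 2) F)) ∉ B₃ := by
    intro h
    have h1 : ((stIrr : Cfsg.IrrCharacter (Matrix.SpecialLinearGroup (Fin 2) F)) :
      Matrix.SpecialLinearGroup (Fin 2) F → ℂ) (-1) = -((stIrr :
      Cfsg.IrrCharacter (Matrix.SpecialLinearGroup (Fin 2) F)) :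
      Matrix.SpecialLinearGroup (Fin 2) F → ℂ) 1 := h
    rw [stIrr_neg_one, stIrr_one] at h1
    apply hq0
    linear_combination (1 / 2 : ℂ) * h1
  have htr₂ : triv ∈ B₂ := by
    refine ⟨rfl, ?_⟩
    intro h
    have h2 : (1 : ℂ) = (Fintype.card F : ℂ) := h
    have : (1 : ℕ) = Fintype.card F := by exact_mod_cast h2
    omega
  have htr₃ : triv ∉ B₃ := by
    intro h
    have h1 : (1 : ℂ) = -1 := h
    norm_num at h1
  have h12 : B₁ ≠ B₂ := fun h => hst₂ (h ▸ hst₁)
  have h13 : B₁ ≠ B₃ := fun h => hst₃ (h ▸ hst₁)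
  have h23 : B₂ ≠ B₃ := fun h => htr₃ (h ▸ htr₂)
  have hiff : ∀ B : Set (Cfsg.IrrCharacter (Matrix.SpecialLinearGroup (Fin 2) F)),
      Cfsg.IsPBlock M B ↔ (B = B₁ ∨ B = B₂ ∨ B = B₃) := by
    intro B
    constructor
    · rintro ⟨χ, rfl⟩
      by_cases hst : χ = stIrr
      · left
        rw [hst, e₁]
      · rcases central_sign _ χ.2 (-1) neg_one_mem_center_SL neg_one_mul_neg_one with h | h
        · right; left
          exact blockOf_even hM hp χ hst h
        · right; right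
          exact blockOf_odd hM hp χ h
    · rintro (h | h | h)
      · exact ⟨stIrr, by rw [h, e₁]⟩
      · exact ⟨triv, by rw [h, e₂]⟩
      · exact ⟨χ₃, by rw [h, e₃]⟩
  refine ⟨hiff, ?_, ?_⟩
  · have hset : {B : Set (Cfsg.IrrCharacter (Matrix.SpecialLinearGroup (Fin 2) F)) |
        Cfsg.IsPBlock M B} = {B₁, B₂, B₃} := by
      ext B
      rw [Set.mem_ofPred_eq, hiff B]
      simp only [Set.mem_insert_iff, Set.mem_singleton_iff]
    show Nat.card ↥{B : Set (Cfsg.IrrCharacter (Matrix.SpecialLinearGroup (Fin 2) F)) |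
        Cfsg.IsPBlock M B} = 3
    rw [hset, Nat.card_coe_set_eq]
    exact Set.ncard_eq_three.mpr ⟨B₁, B₂, B₃, h12, h13, h23, rfl⟩
  · intro P
    constructor
    · apply sylow_isDefectGroup hM B₂ ((hiff B₂).mpr (Or.inr (Or.inl rfl))) triv htr₂
        (not_dvd_degree p triv htriv_ne) P
    · have hχ₃ne : χ₃ ≠ stIrr := fun h => hst₃ (h ▸ (hχ₃ : χ₃ ∈ B₃))
      apply sylow_isDefectGroup hM B₃ ((hiff B₃).mpr (Or.inr (Or.inr rfl))) χ₃ hχ₃
        (not_dvd_degree p χ₃ hχ₃ne) P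

end Cfsg.Agent.S2439
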