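import Cfsg.Statements.S2430
import Cfsg.Agent.Lib.Helper15.Torus6

set_option autoImplicit false
open Cfsg

namespace Cfsg.Agent.S2430

/-- Let F be a finite field with q elements, q odd, ℓ an odd prime, and P a Sylow ℓ-subgroup of SL₂ over F. If ℓ divides q − 1, the centraliser of P is cyclic of order q − 1 (a split torus) and the normaliser of P has order 2(q − 1); if ℓ divides q + 1, the centraliser of P is cyclic of order q + 1 (a non-split torus) and the normaliser of P has order 2(q + 1). -/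
theorem result {F : Type*} [Field F] [Fintype F] (hodd : Odd (Fintype.card F)) (ℓ : ℕ) [Fact ℓ.Prime] (hℓ : ℓ ≠ 2)
    (P : Sylow ℓ (Matrix.SpecialLinearGroup (Fin 2) F)) :
    (ℓ ∣ Fintype.card F - 1 →
      Nat.card (Subgroup.centralizer ((P : Subgroup (Matrix.SpecialLinearGroup (Fin 2) F)) : Set (Matrix.SpecialLinearGroup (Fin 2) F))) = Fintype.card F - 1 ∧
      IsCyclic (Subgroup.centralizer ((P : Subgroup (Matrix.SpecialLinearGroup (Fin 2) F)) : Set (Matrix.SpecialLinearGroup (Fin 2) F))) ∧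
      Nat.card (Subgroup.normalizer ((P : Subgroup (Matrix.SpecialLinearGroup (Fin 2) F)) : Set (Matrix.SpecialLinearGroup (Fin 2) F))) = 2 * (Fintype.card F - 1)) ∧
    (ℓ ∣ Fintype.card F + 1 →
      Nat.card (Subgroup.centralizer ((P : Subgroup (Matrix.SpecialLinearGroup (Fin 2) F)) : Set (Matrix.SpecialLinearGroup (Fin 2) F))) = Fintype.card F + 1 ∧
      IsCyclic (Subgroup.centralizer ((P : Subgroup (Matrix.SpecialLinearGroup (Fin 2) F)) : Set (Matrix.SpecialLinearGroup (Fin 2) F))) ∧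
      Nat.card (Subgroup.normalizer ((P : Subgroup (Matrix.SpecialLinearGroup (Fin 2) F)) : Set (Matrix.SpecialLinearGroup (Fin 2) F))) = 2 * (Fintype.card F + 1)) := by

  open Cfsg.Agent.Lib.Helper15 Cfsg.Agent.Lib.Helper14 in
  have hℓp : ℓ.Prime := Fact.out
  have h2 : (2 : F) ≠ 0 := by
    intro h
    have := (Cfsg.Agent.Lib.Helper15.two_dvd_card_iff (F := F)).2 h
    rw [Nat.odd_iff] at hodd
    omega
  have hq : 2 ≤ Fintype.card F := Fintype.one_lt_card
  have hnot : ¬ (ℓ ∣ Fintype.card F - 1 ∧ ℓ ∣ Fintype.card F + 1) := by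
    rintro ⟨h1, h3⟩
    have h4 := Nat.dvd_sub h3 h1
    have e : Fintype.card F + 1 - (Fintype.card F - 1) = 2 := by omega
    rw [e] at h4
    rcases (Nat.dvd_prime Nat.prime_two).1 h4 with h5 | h5
    · exact hℓp.one_lt.ne' h5
    · exact hℓ h5
  have key : ∀ (hdvd : ℓ ∣ Fintype.card F - 1 ∨ ℓ ∣ Fintype.card F + 1) (N : ℕ),
      (ℓ ∣ N) → (N = Fintype.card F - 1 ∨ N = Fintype.card F + 1) →
      (∀ M, (M = Fintype.card F - 1 ∨ M = Fintype.card F + 1) → ℓ ∣ M → M ≠ N → False) →
      Nat.card (Subgroup.centralizer ((P : Subgroup (Matrix.SpecialLinearGroup (Fin 2) F)) : Set (Matrix.SpecialLinearGroup (Fin 2) F))) = N ∧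
      IsCyclic (Subgroup.centralizer ((P : Subgroup (Matrix.SpecialLinearGroup (Fin 2) F)) : Set (Matrix.SpecialLinearGroup (Fin 2) F))) ∧
      Nat.card (Subgroup.normalizer ((P : Subgroup (Matrix.SpecialLinearGroup (Fin 2) F)) : Set (Matrix.SpecialLinearGroup (Fin 2) F))) = 2 * N := by
    intro hdvd N hN hNc hu
    obtain ⟨x, hns, ht, hC, hNm, hℓT⟩ := Cfsg.Agent.Lib.Helper15.sylow_odd_torus hodd ℓ hℓ P hdvd
    have hT : Nat.card (Subgroup.centralizer ({x} : Set (Matrix.SpecialLinearGroup (Fin 2) F))) = N := by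
      by_contra hne
      by_cases hs : Cfsg.Agent.Lib.Helper15.IsSplitTrace (x : Matrix (Fin 2) (Fin 2) F).trace
      · have hc := Cfsg.Agent.Lib.Helper15.card_centralizer_split_odd x hns ht hs
        exact hu _ (Or.inl hc) hℓT hne
      · have hc := Cfsg.Agent.Lib.Helper15.card_centralizer_nonsplit_odd x hns hs
        exact hu _ (Or.inr hc) hℓT hne
    refine ⟨?_, ?_, ?_⟩
    · rw [hC, hT]
    · rw [hC]
      exact Cfsg.Agent.Lib.Helper15.isCyclic_torus h2 x hns ht
    · rw [hNm, Cfsg.Agent.Lib.Helper15.card_torus_normalizer h2 x hns ht, hT]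
  constructor
  · intro h
    apply key (Or.inl h) _ h (Or.inl rfl)
    intro M hM hℓM hne
    rcases hM with rfl | rfl
    · exact hne rfl
    · exact hnot ⟨h, hℓM⟩
  · intro h
    apply key (Or.inr h) _ h (Or.inr rfl)
    intro M hM hℓM hne
    rcases hM with rfl | rfl
    · exact hnot ⟨hℓM, h⟩
    · exact hne rfl

end Cfsg.Agent.S2430
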