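import Cfsg.Statements.S2437
import Cfsg.Agent.Lib.Helper15.BorelClasses
import Cfsg.Agent.Lib.Helper15.PSL2Orders2

set_option autoImplicit false
open Cfsg

namespace Cfsg.Agent.S2437

open Matrix
open Cfsg.Agent.Lib.Helper15

/-- Over a finite field F with q elements, q odd, the upper triangular subgroup of SL₂ (a Borel subgroup, of order q(q − 1)) has exactly q + 3 conjugacy classes. -/
theorem result {F : Type*} [Field F] [Fintype F] (hodd : Odd (Fintype.card F)) :
    Nat.card (ConjClasses ((Cfsg.upperTriangularGL 2 F).comap Matrix.SpecialLinearGroup.toGL)) = Fintype.card F + 3 := by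
  classical
  have h2 : (2 : F) ≠ 0 := by
    rw [Ne, ← two_dvd_card_iff]
    rw [Nat.odd_iff] at hodd
    omega
  have hq : Fintype.card F = Fintype.card Fˣ + 1 := by
    rw [Fintype.card_units]
    have : 0 < Fintype.card F := Fintype.card_pos
    omega
  have hcomm := card_comm_eq_card_conjClasses_mul_card (borelSL F)
  have hB : Nat.card (borelSL F) = Fintype.card Fˣ * Fintype.card F := by
    rw [Nat.card_congr borelSLEquiv, Nat.card_prod, Nat.card_eq_fintype_card, Nat.card_eq_fintype_card]
  have e : {p : borelSL F × borelSL F // Commute p.1 p.2} ≃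
      {x : (Fˣ × F) × (Fˣ × F) // x.2.2 * dl x.1.1 = x.1.2 * dl x.2.1} := by
    refine (Equiv.prodCongr borelSLEquiv borelSLEquiv).subtypeEquiv (fun p => ?_)
    have h1 : p.1 = borelSLMk (borelSLEquiv p.1) := (borelSLEquiv.symm_apply_apply p.1).symm
    have h3 : p.2 = borelSLMk (borelSLEquiv p.2) := (borelSLEquiv.symm_apply_apply p.2).symm
    conv_lhs => rw [h1, h3]
    exact borelSL_commute_iff _ _
  rw [Nat.card_congr e, Nat.card_eq_fintype_card, card_comm_pairs h2, hB] at hcomm
  have hpos : 0 < Fintype.card Fˣ * Fintype.card F := Nat.mul_pos Fintype.card_pos Fintype.card_pos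
  have : (Fintype.card F + 3) * (Fintype.card Fˣ * Fintype.card F) =
      Nat.card (ConjClasses (borelSL F)) * (Fintype.card Fˣ * Fintype.card F) := by
    rw [← hcomm, hq]
    ring
  exact (Nat.eq_of_mul_eq_mul_right hpos this).symm

end Cfsg.Agent.S2437
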