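import Cfsg.Statements.S2385
import Cfsg.Agent.Lib.Helper14.SpCount4
import Cfsg.Agent.Lib.Helper14.SpSemi6

set_option autoImplicit false
open Cfsg

namespace Cfsg.Agent.S2385

open Polynomial Matrix in
/-- The characteristic polynomial as a function on conjugacy classes of `Sp_{2n}`. -/
noncomputable def cp {F : Type*} [Field F] {n : ℕ} :
    ConjClasses ↥(Matrix.symplecticGroup (Fin n) F) → F[X] :=
  Quotient.lift (fun g : ↥(Matrix.symplecticGroup (Fin n) F) =>
    (g : Matrix (Fin n ⊕ Fin n) (Fin n ⊕ Fin n) F).charpoly) (by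
    intro a b hab
    obtain ⟨c, hc⟩ := isConj_iff.mp hab
    show (a : Matrix (Fin n ⊕ Fin n) (Fin n ⊕ Fin n) F).charpoly =
      (b : Matrix (Fin n ⊕ Fin n) (Fin n ⊕ Fin n) F).charpoly
    rw [← hc, Submonoid.coe_mul, Matrix.charpoly_mul_comm, ← Submonoid.coe_mul, ← mul_assoc,
      inv_mul_cancel, one_mul])

open Polynomial in
theorem cp_mk {F : Type*} [Field F] {n : ℕ} (g : ↥(Matrix.symplecticGroup (Fin n) F)) :
    cp (ConjClasses.mk g) = (g : Matrix (Fin n ⊕ Fin n) (Fin n ⊕ Fin n) F).charpoly := rfl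

open Polynomial in
theorem eq_of_coeff {F : Type*} [Field F] {n : ℕ} {f₁ f₂ : F[X]} (hm₁ : f₁.Monic) (hm₂ : f₂.Monic)
    (hd₁ : f₁.natDegree = 2 * n) (hd₂ : f₂.natDegree = 2 * n) (hr₁ : f₁.reverse = f₁)
    (hr₂ : f₂.reverse = f₂) (h : ∀ i < n, f₁.coeff (i + 1) = f₂.coeff (i + 1)) : f₁ = f₂ := by
  have hsym : ∀ f : F[X], f.natDegree = 2 * n → f.reverse = f → ∀ i ≤ 2 * n,
      f.coeff i = f.coeff (2 * n - i) := by
    intro f hd hr i hi
    have h1 := congrArg (fun g => Polynomial.coeff g i) hr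
    simp only [Polynomial.coeff_reverse, hd, Polynomial.revAt_le hi] at h1
    exact h1.symm
  have h0 : f₁.coeff 0 = f₂.coeff 0 := by
    rw [hsym f₁ hd₁ hr₁ 0 (by omega), hsym f₂ hd₂ hr₂ 0 (by omega), Nat.sub_zero, ← hd₁,
      Polynomial.coeff_natDegree, hm₁.leadingCoeff, hd₁, ← hd₂, Polynomial.coeff_natDegree,
      hm₂.leadingCoeff]
  have hlow : ∀ j ≤ n, f₁.coeff j = f₂.coeff j := by
    intro j hj
    rcases Nat.eq_zero_or_pos j with hj0 | hj0
    · rw [hj0]; exact h0
    · have := h (j - 1) (by omega)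
      rwa [Nat.sub_add_cancel hj0] at this
  ext j
  by_cases hj : j ≤ n
  · exact hlow j hj
  by_cases hj2 : j ≤ 2 * n
  · rw [hsym f₁ hd₁ hr₁ j hj2, hsym f₂ hd₂ hr₂ j hj2]
    exact hlow _ (by omega)
  · rw [Polynomial.coeff_eq_zero_of_natDegree_lt (by omega),
      Polynomial.coeff_eq_zero_of_natDegree_lt (by omega)]

/-- In the symplectic group `Sp_{2n}(q)`, `q` a power of the prime `p`, the number of conjugacy classes of elements of order prime to `p` is `q^n`. -/
theorem result {F : Type*} [Field F] [Fintype F] {q : ℕ} (hq : Fintype.card F = q) (p : ℕ) [Fact p.Prime] [CharP F p] (n : ℕ) :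
    Nat.card {c : ConjClasses ↥(Matrix.symplecticGroup (Fin n) F) //
      ∃ g : ↥(Matrix.symplecticGroup (Fin n) F), ConjClasses.mk g = c ∧ (orderOf g).Coprime p} = q ^ n := by
  classical
  subst hq
  have hcpdeg : ∀ g : ↥(Matrix.symplecticGroup (Fin n) F),
      (g : Matrix (Fin n ⊕ Fin n) (Fin n ⊕ Fin n) F).charpoly.natDegree = 2 * n := by
    intro g
    rw [Matrix.charpoly_natDegree_eq_dim, Fintype.card_sum, Fintype.card_fin, two_mul]
  apply le_antisymm
  · -- upper bound
    let Φ : {c : ConjClasses ↥(Matrix.symplecticGroup (Fin n) F) //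
        ∃ g : ↥(Matrix.symplecticGroup (Fin n) F), ConjClasses.mk g = c ∧ (orderOf g).Coprime p} →
        (Fin n → F) := fun c i => (cp c.1).coeff ((i : ℕ) + 1)
    have hinj : Function.Injective Φ := by
      rintro ⟨c₁, g₁, h₁, ho₁⟩ ⟨c₂, g₂, h₂, ho₂⟩ h
      apply Subtype.ext
      show c₁ = c₂
      have h3 : ∀ i < n, (cp c₁).coeff (i + 1) = (cp c₂).coeff (i + 1) := by
        intro i hi
        exact congrFun h ⟨i, hi⟩
      rw [← h₁, ← h₂, cp_mk, cp_mk] at h3
      rw [← h₁, ← h₂, ConjClasses.mk_eq_mk_iff_isConj]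
      apply Cfsg.Agent.Lib.Helper14.SpSemi.sp_isConj_of_charpoly p g₁ g₂ ho₁ ho₂
      exact eq_of_coeff (Matrix.charpoly_monic _) (Matrix.charpoly_monic _) (hcpdeg g₁) (hcpdeg g₂)
        (Cfsg.Agent.Lib.Helper14.SpCount.charpoly_reverse g₁)
        (Cfsg.Agent.Lib.Helper14.SpCount.charpoly_reverse g₂) h3
    have := Nat.card_le_card_of_injective Φ hinj
    rwa [Nat.card_eq_fintype_card (α := Fin n → F), Fintype.card_fun, Fintype.card_fin] at this
  · -- lower bound
    have hex : ∀ P : {P : Polynomial F // P.Monic ∧ P.natDegree = n},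
        ∃ s : ↥(Matrix.symplecticGroup (Fin n) F), (orderOf s).Coprime p ∧
          (s : Matrix (Fin n ⊕ Fin n) (Fin n ⊕ Fin n) F).charpoly =
            Cfsg.Agent.Lib.Helper14.SpCount.pal n P.1 := by
      rintro ⟨P, hP, hn⟩
      obtain ⟨g, hg⟩ := Cfsg.Agent.Lib.Helper14.SpCount.exists_sp_charpoly n hP hn
      obtain ⟨s, hs, hsc⟩ := Cfsg.Agent.Lib.Helper14.SpCount.exists_pprime_part p g
      exact ⟨s, hs, hsc.trans hg⟩
    choose s hs hsc using hex
    let Ψ : {P : Polynomial F // P.Monic ∧ P.natDegree = n} →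
        {c : ConjClasses ↥(Matrix.symplecticGroup (Fin n) F) //
          ∃ g : ↥(Matrix.symplecticGroup (Fin n) F), ConjClasses.mk g = c ∧
            (orderOf g).Coprime p} := fun P => ⟨ConjClasses.mk (s P), s P, rfl, hs P⟩
    have hinj : Function.Injective Ψ := by
      intro P Q hPQ
      have h1 : cp (Ψ P).1 = cp (Ψ Q).1 := by rw [hPQ]
      have h2 : Cfsg.Agent.Lib.Helper14.SpCount.pal n P.1 =
          Cfsg.Agent.Lib.Helper14.SpCount.pal n Q.1 := by
        rw [← hsc P, ← hsc Q]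
        exact h1
      apply Subtype.ext
      exact Cfsg.Agent.Lib.Helper14.SpCount.pal_injective n (le_of_eq P.2.2) (le_of_eq Q.2.2) h2
    have h3 := Nat.card_le_card_of_injective Ψ hinj
    have h4 : Nat.card {P : Polynomial F // P.Monic ∧ P.natDegree = n} = Fintype.card F ^ n := by
      rw [Nat.card_congr ((Polynomial.monicEquivDegreeLT n).trans
        (Polynomial.degreeLTEquiv F n).toEquiv), Nat.card_eq_fintype_card, Fintype.card_fun,
        Fintype.card_fin]
    rwa [h4] at h3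

end Cfsg.Agent.S2385
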