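import Cfsg.Statements.S2645
import Cfsg.Agent.Lib.Helper14.OrdCount4
import Cfsg.Agent.Lib.Helper14.SpCount4
import Cfsg.Agent.Lib.Helper14.SpSemi6
import Cfsg.Agent.S2385

set_option autoImplicit false
open Cfsg

namespace Cfsg.Agent.S2645

open Polynomial Matrix
open Cfsg.Agent.Lib.Helper14 Cfsg.Agent.Lib.Helper14.OrdCount
open Cfsg.Agent.Lib.Helper14.HCount (dual dual_mul dual_dual)
open Cfsg.Agent.Lib.Helper14.SpCount (pal pal_injective exists_sp_charpoly charpoly_reverse
  exists_pprime_part)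
open Cfsg.Agent.S2568 (cycFactors mem_cycFactors mem_T_iff T_monic_irreducible X_sub_one_notMem
  card_cycFactors natDegree_of_mem_cycFactors)
open Cfsg.Agent.S2385 (cp cp_mk eq_of_coeff)

section
open scoped Classical

variable {F : Type*} [Field F] [Fintype F]

/-- every monic palindromic polynomial of degree `2m` is the characteristic polynomial of a
symplectic matrix -/
theorem exists_sp_of_palindromic (m : ℕ) (f : F[X]) (hm : f.Monic) (hn : f.natDegree = 2 * m)
    (hr : f.reverse = f) :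
    ∃ g : symplecticGroup (Fin m) F,
      (g : Matrix (Fin m ⊕ Fin m) (Fin m ⊕ Fin m) F).charpoly = f := by
  have hpalA : ∀ P : {P : F[X] // P.Monic ∧ P.natDegree = m},
      (pal m P.1).Monic ∧ (pal m P.1).natDegree = 2 * m ∧ (pal m P.1).reverse = pal m P.1 := by
    rintro ⟨P, hP, hPn⟩
    obtain ⟨g, hg⟩ := exists_sp_charpoly m hP hPn
    rw [← hg]
    refine ⟨Matrix.charpoly_monic _, ?_, charpoly_reverse g⟩
    rw [Matrix.charpoly_natDegree_eq_dim, Fintype.card_sum, Fintype.card_fin, two_mul]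
  let Ψ : {P : F[X] // P.Monic ∧ P.natDegree = m} →
      {f : F[X] // f.Monic ∧ f.natDegree = 2 * m ∧ f.reverse = f} :=
    fun P => ⟨pal m P.1, hpalA P⟩
  have hΨ : Function.Injective Ψ := by
    intro P Q h
    apply Subtype.ext
    exact pal_injective m (le_of_eq P.2.2) (le_of_eq Q.2.2) (congrArg Subtype.val h)
  let Θ : {f : F[X] // f.Monic ∧ f.natDegree = 2 * m ∧ f.reverse = f} → (Fin m → F) :=
    fun f i => f.1.coeff ((i : ℕ) + 1)
  have hΘ : Function.Injective Θ := by
    rintro ⟨f₁, h1, h2, h3⟩ ⟨f₂, h1', h2', h3'⟩ h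
    apply Subtype.ext
    apply eq_of_coeff h1 h1' h2 h2' h3 h3'
    intro i hi
    exact congrFun h ⟨i, hi⟩
  have hfin : Finite {f : F[X] // f.Monic ∧ f.natDegree = 2 * m ∧ f.reverse = f} :=
    Finite.of_injective Θ hΘ
  have hcardB : Nat.card {P : F[X] // P.Monic ∧ P.natDegree = m} = Fintype.card F ^ m := by
    rw [Nat.card_congr ((Polynomial.monicEquivDegreeLT m).trans
      (Polynomial.degreeLTEquiv F m).toEquiv), Nat.card_eq_fintype_card, Fintype.card_fun,
      Fintype.card_fin]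
  have hcardA : Nat.card {f : F[X] // f.Monic ∧ f.natDegree = 2 * m ∧ f.reverse = f} ≤
      Nat.card {P : F[X] // P.Monic ∧ P.natDegree = m} := by
    rw [hcardB]
    have := Nat.card_le_card_of_injective Θ hΘ
    rwa [Nat.card_eq_fintype_card (α := Fin m → F), Fintype.card_fun, Fintype.card_fin] at this
  have hbij := hΨ.bijective_of_nat_card_le hcardA
  obtain ⟨⟨P, hP, hPn⟩, hPf⟩ := hbij.2 ⟨f, hm, hn, hr⟩
  obtain ⟨g, hg⟩ := exists_sp_charpoly m hP hPn
  refine ⟨g, ?_⟩
  rw [hg]
  exact congrArg Subtype.val hPf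

/-- a polynomial fixed by the reciprocal map, all of whose factors divide `X^r - 1` with `r`
odd, is palindromic -/
theorem reverse_eq_of_dual (r : ℕ) (hr : r.Prime) (hr2 : r ≠ 2) (f : F[X]) (hm : f.Monic)
    (N : ℕ) (hn : f.natDegree = 2 * N)
    (hgood : ∀ P : F[X], P.Monic → Irreducible P → P ∣ f →
      P ∈ insert (X - 1 : F[X]) (cycFactors F r))
    (h0 : f.coeff 0 ≠ 0) (hd : dual (RingEquiv.refl F) f = f) : f.reverse = f := by
  have h1 : f.reverse = C (f.coeff 0) * f := by
    have h2 : C (f.coeff 0)⁻¹ * f.reverse = f := by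
      have h3 : dual (RingEquiv.refl F) f = C (f.coeff 0)⁻¹ * f.reverse := by
        unfold dual
        simp
      rw [← h3]
      exact hd
    calc f.reverse = C (f.coeff 0) * (C (f.coeff 0)⁻¹ * f.reverse) := by
          rw [← mul_assoc, ← C_mul, mul_inv_cancel₀ h0, C_1, one_mul]
      _ = C (f.coeff 0) * f := by rw [h2]
  have hc2 : f.coeff 0 * f.coeff 0 = 1 := by
    have h3 := congrArg (fun g => Polynomial.coeff g 0) h1
    simp only [coeff_zero_reverse, hm.leadingCoeff, coeff_C_mul] at h3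
    exact h3.symm
  rcases mul_self_eq_one_iff.mp hc2 with hc | hc
  · rw [h1, hc, C_1, one_mul]
  · by_cases h2 : (2 : F) = 0
    · have h3 : (-1 : F) = 1 := by
        have : (1 : F) + 1 = 0 := by rw [← h2]; norm_num
        exact neg_eq_of_add_eq_zero_left this
      rw [h1, hc, h3, C_1, one_mul]
    · exfalso
      have hx : (-1 : F) ≠ 0 := neg_ne_zero.mpr one_ne_zero
      let _ : Invertible (-1 : F) := invertibleOfNonzero hx
      have h3 := eval₂_reverse_mul_pow (RingHom.id F) (-1 : F) f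
      rw [invOf_eq_inv, inv_neg, inv_one, hn, pow_mul, neg_one_sq, one_pow, mul_one, h1, hc,
        eval₂_mul, eval₂_C, RingHom.id_apply] at h3
      have h4 : eval₂ (RingHom.id F) (-1) f = 0 := by
        have h5 : (2 : F) * eval₂ (RingHom.id F) (-1) f = 0 := by
          have : eval₂ (RingHom.id F) (-1) f + eval₂ (RingHom.id F) (-1) f = 0 := by
            nth_rewrite 1 [← h3]
            ring
          rw [two_mul]
          exact this
        rcases mul_eq_zero.mp h5 with h6 | h6
        · exact absurd h6 h2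
        · exact h6
      have h5 : (X - C (-1 : F)) ∣ f := by
        rw [dvd_iff_isRoot, IsRoot.def, ← eval₂_id]
        exact h4
      have h6 := hgood _ (monic_X_sub_C _) (irreducible_X_sub_C _) h5
      rw [mem_T_iff r hr _ (monic_X_sub_C _) (irreducible_X_sub_C _), dvd_iff_isRoot, IsRoot.def,
        eval_sub, eval_pow, eval_X, eval_one] at h6
      have hodd : Odd r := hr.odd_of_ne_two hr2
      rw [hodd.neg_one_pow] at h6
      apply h2
      have : (2 : F) = -((-1 : F) - 1) := by ring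
      rw [this, h6, neg_zero]

/-- the classes of elements of order `r` of the symplectic group correspond to the good
polynomials -/
theorem card_classes (p : ℕ) [Fact p.Prime] [CharP F p] (m r : ℕ) (hr : r.Prime) (hr2 : r ≠ 2)
    (hrp : r ≠ p) :
    Nat.card {C : ConjClasses ↥(Matrix.symplecticGroup (Fin m) F) //
      ∃ g : Matrix.symplecticGroup (Fin m) F, ConjClasses.mk g = C ∧ orderOf g = r} =
    Nat.card {f : F[X] // GoodP (cycFactors F r) (X - 1) (dual (RingEquiv.refl F)) (2 * m) f ∧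
      f ≠ (X - 1) ^ (2 * m)} := by
  have hp : p.Prime := Fact.out
  have hcop : r.Coprime p := (Nat.coprime_primes hr hp).mpr hrp
  have hT := T_monic_irreducible (F := F) r
  have hdim : Fintype.card (Fin m ⊕ Fin m) = 2 * m := by
    rw [Fintype.card_sum, Fintype.card_fin, two_mul]
  have hdual : ∀ g : symplecticGroup (Fin m) F,
      dual (RingEquiv.refl F) (g : Matrix (Fin m ⊕ Fin m) (Fin m ⊕ Fin m) F).charpoly =
        (g : Matrix (Fin m ⊕ Fin m) (Fin m ⊕ Fin m) F).charpoly := by
    intro g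
    have h1 := charpoly_reverse g
    unfold dual
    have h2 : (g : Matrix (Fin m ⊕ Fin m) (Fin m ⊕ Fin m) F).charpoly.coeff 0 = 1 := by
      rw [← h1, coeff_zero_reverse, (Matrix.charpoly_monic _).leadingCoeff]
    simp only [RingEquiv.coe_ringHom_refl, Polynomial.map_id, RingEquiv.refl_apply]
    rw [h1, h2, inv_one, C_1, one_mul]
  have hpow : ∀ (g : symplecticGroup (Fin m) F) (k : ℕ),
      ((g ^ k : symplecticGroup (Fin m) F) : Matrix (Fin m ⊕ Fin m) (Fin m ⊕ Fin m) F) =
        (g : Matrix (Fin m ⊕ Fin m) (Fin m ⊕ Fin m) F) ^ k := by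
    intro g k
    rfl
  have hone : ∀ g : symplecticGroup (Fin m) F,
      (g : Matrix (Fin m ⊕ Fin m) (Fin m ⊕ Fin m) F) = 1 → g = 1 := by
    intro g h
    apply Subtype.ext
    exact h
  have hgoodOf : ∀ g : symplecticGroup (Fin m) F, orderOf g = r →
      GoodP (cycFactors F r) (X - 1) (dual (RingEquiv.refl F)) (2 * m)
        (g : Matrix (Fin m ⊕ Fin m) (Fin m ⊕ Fin m) F).charpoly ∧
      (g : Matrix (Fin m ⊕ Fin m) (Fin m ⊕ Fin m) F).charpoly ≠ (X - 1) ^ (2 * m) := by
    intro g ho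
    have hgr : (g : Matrix (Fin m ⊕ Fin m) (Fin m ⊕ Fin m) F) ^ r = 1 := by
      rw [← hpow, ← ho, pow_orderOf_eq_one]
      rfl
    refine ⟨⟨Matrix.charpoly_monic _, ?_, ?_, hdual g⟩, ?_⟩
    · rw [Matrix.charpoly_natDegree_eq_dim, hdim]
    · intro P hPm hPi hd
      exact good_charpoly' r hr _ hgr P hPm hPi hd
    · intro hc
      have h1 := eq_one_of_charpoly' p _ r hcop hgr (2 * m) hc
      have h2 := hone g h1
      rw [h2, orderOf_one] at ho
      exact hr.ne_one ho.symm
  let Φ : {C : ConjClasses ↥(Matrix.symplecticGroup (Fin m) F) //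
      ∃ g : Matrix.symplecticGroup (Fin m) F, ConjClasses.mk g = C ∧ orderOf g = r} →
      {f : F[X] // GoodP (cycFactors F r) (X - 1) (dual (RingEquiv.refl F)) (2 * m) f ∧
        f ≠ (X - 1) ^ (2 * m)} :=
    fun C => ⟨cp C.1, by
      obtain ⟨g, hg, ho⟩ := C.2
      rw [← hg, cp_mk]
      exact hgoodOf g ho⟩
  apply Nat.card_congr
  apply Equiv.ofBijective Φ
  constructor
  · rintro ⟨C₁, g₁, rfl, h₁⟩ ⟨C₂, g₂, rfl, h₂⟩ h
    apply Subtype.ext
    have hc : (g₁ : Matrix (Fin m ⊕ Fin m) (Fin m ⊕ Fin m) F).charpoly =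
        (g₂ : Matrix (Fin m ⊕ Fin m) (Fin m ⊕ Fin m) F).charpoly := congrArg Subtype.val h
    show ConjClasses.mk g₁ = ConjClasses.mk g₂
    rw [ConjClasses.mk_eq_mk_iff_isConj]
    apply Cfsg.Agent.Lib.Helper14.SpSemi.sp_isConj_of_charpoly p g₁ g₂ _ _ hc
    · rw [h₁]
      exact hcop
    · rw [h₂]
      exact hcop
  · rintro ⟨f, ⟨hm, hn, hgood, hd⟩, hne⟩
    have h0 : f.coeff 0 ≠ 0 := by
      intro h0
      have hX : (X : F[X]) ∣ f := X_dvd_iff.mpr h0
      have hXT := hgood X monic_X irreducible_X hX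
      rw [mem_T_iff r hr X monic_X irreducible_X, X_dvd_iff] at hXT
      simp at hXT
      rw [if_neg hr.ne_zero.symm] at hXT
      simp at hXT
    have hrev := reverse_eq_of_dual r hr hr2 f hm m hn hgood h0 hd
    obtain ⟨g₀, hg₀⟩ := exists_sp_of_palindromic m f hm hn hrev
    obtain ⟨s, hs, hsc'⟩ := exists_pprime_part p g₀
    have hsc : (s : Matrix (Fin m ⊕ Fin m) (Fin m ⊕ Fin m) F).charpoly = f := hsc'.trans hg₀
    have hsk : (s : Matrix (Fin m ⊕ Fin m) (Fin m ⊕ Fin m) F) ^ orderOf s = 1 := by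
      rw [← hpow, pow_orderOf_eq_one]
      rfl
    obtain ⟨ε, hε⟩ := exists_expProd _ (2 * m) f hn hm hgood
    have hdvd : f ∣ (X ^ r - 1) ^ (∑ P ∈ insert (X - 1 : F[X]) (cycFactors F r), ε P) := by
      rw [hε]
      exact expProd_dvd_pow _ ε _ fun P hP => (mem_T_iff r hr P (hT P hP).1 (hT P hP).2).mp hP
    have hsr : (s : Matrix (Fin m ⊕ Fin m) (Fin m ⊕ Fin m) F) ^ r = 1 :=
      pow_eq_one_of_charpoly p _ (orderOf s) hs hsk r _ (by rw [hsc]; exact hdvd)
    have hsr' : s ^ r = 1 := by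
      apply hone
      rw [hpow]
      exact hsr
    have hs1 : s ≠ 1 := by
      intro h1
      apply hne
      rw [← hsc, h1]
      show (1 : Matrix (Fin m ⊕ Fin m) (Fin m ⊕ Fin m) F).charpoly = _
      rw [Matrix.charpoly_one, hdim]
    have : Fact r.Prime := ⟨hr⟩
    have ho : orderOf s = r := orderOf_eq_prime hsr' hs1
    refine ⟨⟨ConjClasses.mk s, s, rfl, ho⟩, ?_⟩
    apply Subtype.ext
    show cp (ConjClasses.mk s) = f
    rw [cp_mk, hsc]

end

/-- Number of conjugacy classes of elements of odd prime order r, r different from the characteristic, in the symplectic group Sp_2m(q): let i be the multiplicative order of q modulo r and t = (r − 1)/i. If i is odd the eigenvalue orbits pair off (Λ ≠ Λ⁻¹) and the classes correspond to the non-zero (t/2)-tuples (a_j) with 2i Σ a_j ≤ 2m, giving C(⌊m/i⌋ + t/2, t/2) − 1 classes; if i is even (Λ = Λ⁻¹) they correspond to the non-zero t-tuples with i Σ a_j ≤ 2m, giving C(⌊2m/i⌋ + t, t) − 1 classes. -/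
theorem result {F : Type*} [Field F] [Fintype F] {p q : ℕ} [Fact p.Prime] [CharP F p] (hF : Fintype.card F = q) (m r i t : ℕ) (hr : r.Prime) (hr2 : r ≠ 2) (hrp : r ≠ p) (hi : i = orderOf (q : ZMod r)) (ht : t * i = r - 1) : Nat.card {C : ConjClasses ↥(Matrix.symplecticGroup (Fin m) F) // ∃ g : Matrix.symplecticGroup (Fin m) F, ConjClasses.mk g = C ∧ orderOf g = r} = if Odd i then Nat.choose (m / i + t / 2) (t / 2) - 1 else Nat.choose (2 * m / i + t) t - 1 := by
  classical
  have : Fact r.Prime := ⟨hr⟩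
  have hp : p.Prime := Fact.out
  rw [card_classes p m r hr hr2 hrp]
  obtain ⟨f', -, hf'⟩ := FiniteField.card F p
  have hσ : ∀ a : F, (RingEquiv.refl F) a = a ^ (p ^ 0) := by
    intro a
    rw [pow_zero, pow_one]
    rfl
  have hpr : ((p : ℕ) : ZMod r) ≠ 0 := by
    intro h
    rw [ZMod.natCast_eq_zero_iff] at h
    exact hrp ((Nat.prime_dvd_prime_iff_eq hr hp).mp h)
  have hq0 : ((q : ℕ) : ZMod r) ≠ 0 := by
    rw [← hF, hf', Nat.cast_pow]
    exact pow_ne_zero _ hpr
  have hipos : 0 < i := by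
    rw [hi]
    exact orderOf_pos_of_ne_zero r _ hq0
  have hdegi : orderOf ((Fintype.card F : ℕ) : ZMod r) = i := by
    rw [hF, hi]
  have hP₀ : (X - 1 : F[X]) ∉ cycFactors F r := X_sub_one_notMem p r hr hrp
  have hT := T_monic_irreducible (F := F) r
  have hd0 : (X - 1 : F[X]).natDegree = 1 := by
    have : (X - 1 : F[X]) = X - C 1 := by rw [map_one]
    rw [this, natDegree_X_sub_C]
  have hdS : ∀ P ∈ cycFactors F r, P.natDegree = i := fun P hP => by
    rw [← hdegi]
    exact natDegree_of_mem_cycFactors p r hr hrp P hP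
  have hcard : (cycFactors F r).card = t := by
    have h1 := card_cycFactors (F := F) p r hr hrp
    rw [hdegi] at h1
    exact Nat.eq_of_mul_eq_mul_right hipos (h1.trans ht.symm)
  have hstar_mem : ∀ P ∈ cycFactors F r, dual (RingEquiv.refl F) P ∈ cycFactors F r :=
    fun P hP => dual_mem p r hr hrp 0 (RingEquiv.refl F) hσ P hP
  have hstar_star : ∀ P ∈ cycFactors F r,
      dual (RingEquiv.refl F) (dual (RingEquiv.refl F) P) = P := by
    intro P hP
    exact dual_dual (RingEquiv.refl F) (fun a => rfl) ((mem_cycFactors r P).mp hP).2.1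
      (coeff_zero_ne_of_mem r hr P hP)
  have hcrit : ∀ P ∈ cycFactors F r, (dual (RingEquiv.refl F) P = P ↔ Even i) := by
    intro P hP
    rw [dual_eq_iff p r hr hrp 0 (RingEquiv.refl F) hσ P hP, hF, pow_zero, Nat.cast_one, hi]
    exact exists_pow_eq_neg_one_iff r hr2 _ hq0
  by_cases hodd : Odd i
  · rw [if_pos hodd]
    have hfpf : ∀ P ∈ cycFactors F r, dual (RingEquiv.refl F) P ≠ P := fun P hP h =>
      (Nat.not_even_iff_odd.mpr hodd) ((hcrit P hP).mp h)
    rw [card_free (cycFactors F r) (X - 1) (dual (RingEquiv.refl F)) i hP₀ hT hd0 hdS hipos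
      (dual_mul (RingEquiv.refl F)) (dual_one (RingEquiv.refl F))
      (dual_X_sub_one (RingEquiv.refl F)) hstar_mem hstar_star hfpf (2 * m), hcard,
      Nat.mul_div_mul_left m i two_pos]
  · rw [if_neg hodd]
    have heven : Even i := Nat.not_odd_iff_even.mp hodd
    have hfix : ∀ P ∈ cycFactors F r, dual (RingEquiv.refl F) P = P :=
      fun P hP => (hcrit P hP).mpr heven
    rw [card_fixed (cycFactors F r) (X - 1) (dual (RingEquiv.refl F)) i hP₀ hT hd0 hdS hipos
      (dual_mul (RingEquiv.refl F)) (dual_one (RingEquiv.refl F))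
      (dual_X_sub_one (RingEquiv.refl F)) hfix (2 * m), hcard]

end Cfsg.Agent.S2645
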