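import Cfsg.Statements.S2300
import Cfsg.Agent.Lib.Helper14.SL2Count

set_option autoImplicit false
open Cfsg Cfsg.Agent.Lib.Helper14 Cfsg.Agent.Lib.Helper2 Matrix

namespace Cfsg.Agent.S2300

theorem even_card {F : Type*} [Field F] [Fintype F] [CharP F 2] : Even (Fintype.card F) := by
  rw [Nat.even_iff]
  exact FiniteField.even_card_of_char_two (ringChar.eq F 2)

/-- Classification of the irreducible characters of `SL₂(F)` for `q` even. -/
theorem irrSL_cases_even {F : Type*} [Field F] [Fintype F] [DecidableEq F]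
    (heven : Even (Fintype.card F)) {θ : SpecialLinearGroup (Fin 2) F → ℂ}
    (hθ : Cfsg.IsIrrCharacter (SpecialLinearGroup (Fin 2) F) θ) :
    (θ = fun _ => 1) ∨
    (θ = res (st (1 : MulChar F ℂ))) ∨
    (∃ δ : MulChar F ℂ, δ ^ 2 ≠ 1 ∧ θ = res (ps δ 1)) ∨
    (∃ χ : Cfsg.IrrCharacter (GL (Fin 2) F), IsCusp (χ : GL (Fin 2) F → ℂ) ∧
      res (χ : GL (Fin 2) F → ℂ) = θ) := by
  classical
  have : Fintype (MulChar F ℂ) := Fintype.ofFinite _
  rcases irrSL_cases hθ with h | h | h | ⟨δ, θ', h1, h2, _⟩ | h | ⟨χ, θ', hc, h1, h2, h3, _⟩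
  · exact Or.inl h
  · exact Or.inr (Or.inl h)
  · exact Or.inr (Or.inr (Or.inl h))
  · exfalso
    have h3 := card_filter_sq_eq_one_even (F := F) heven
    rw [Finset.card_eq_one] at h3
    obtain ⟨a, ha⟩ := h3
    have m1 : (1 : MulChar F ℂ) ∈ Finset.univ.filter (fun δ : MulChar F ℂ => δ ^ 2 = 1) := by
      rw [Finset.mem_filter]; exact ⟨Finset.mem_univ _, one_pow 2⟩
    have m2 : δ ∈ Finset.univ.filter (fun δ : MulChar F ℂ => δ ^ 2 = 1) := by
      rw [Finset.mem_filter]; exact ⟨Finset.mem_univ _, h1⟩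
    rw [ha, Finset.mem_singleton] at m1 m2
    exact h2 (m2.trans m1.symm)
  · exact Or.inr (Or.inr (Or.inr h))
  · exfalso
    have h4 := classInner_res_self_even heven χ
    obtain ⟨e1, e2⟩ := classInner_add_irr_left hθ h1 h2.symm
    rw [h3, classInner_add_right, e1, e2] at h4
    norm_num at h4

/-- Over a finite field F with q elements, q even, every irreducible complex character of SL₂ has degree 1, q − 1, q or q + 1; and when q ≥ 4 (so that these four numbers are distinct) there are exactly one irreducible character of degree 1, one of degree q, (q − 2)/2 of degree q + 1 and q/2 of degree q − 1. -/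
theorem result {F : Type*} [Field F] [Fintype F] [CharP F 2] :
    (∀ χ : Matrix.SpecialLinearGroup (Fin 2) F → ℂ, Cfsg.IsIrrCharacter (Matrix.SpecialLinearGroup (Fin 2) F) χ →
      χ 1 = 1 ∨ χ 1 = (Fintype.card F : ℂ) - 1 ∨ χ 1 = (Fintype.card F : ℂ) ∨ χ 1 = (Fintype.card F : ℂ) + 1) ∧
    (4 ≤ Fintype.card F →
      Nat.card {χ : Cfsg.IrrCharacter (Matrix.SpecialLinearGroup (Fin 2) F) // (χ : Matrix.SpecialLinearGroup (Fin 2) F → ℂ) 1 = 1} = 1 ∧
      Nat.card {χ : Cfsg.IrrCharacter (Matrix.SpecialLinearGroup (Fin 2) F) // (χ : Matrix.SpecialLinearGroup (Fin 2) F → ℂ) 1 = (Fintype.card F : ℂ)} = 1 ∧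
      Nat.card {χ : Cfsg.IrrCharacter (Matrix.SpecialLinearGroup (Fin 2) F) // (χ : Matrix.SpecialLinearGroup (Fin 2) F → ℂ) 1 = (Fintype.card F : ℂ) + 1} = (Fintype.card F - 2) / 2 ∧
      Nat.card {χ : Cfsg.IrrCharacter (Matrix.SpecialLinearGroup (Fin 2) F) // (χ : Matrix.SpecialLinearGroup (Fin 2) F → ℂ) 1 = (Fintype.card F : ℂ) - 1} = Fintype.card F / 2) := by
  classical
  have heven : Even (Fintype.card F) := even_card
  have hq2 : 2 ≤ Fintype.card F := Fintype.one_lt_card
  have : Fintype (MulChar F ℂ) := Fintype.ofFinite _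
  have : Fintype (Cfsg.IrrCharacter (SpecialLinearGroup (Fin 2) F)) := Fintype.ofFinite _
  -- degrees of the four types
  have hdeg : ∀ θ : Cfsg.IrrCharacter (SpecialLinearGroup (Fin 2) F),
      (irrDeg θ = 1 ∧ (θ : SpecialLinearGroup (Fin 2) F → ℂ) = fun _ => 1) ∨
      (irrDeg θ = Fintype.card F ∧
        (θ : SpecialLinearGroup (Fin 2) F → ℂ) = res (st (1 : MulChar F ℂ))) ∨
      (irrDeg θ = Fintype.card F + 1 ∧ ∃ δ : MulChar F ℂ, δ ^ 2 ≠ 1 ∧
        (θ : SpecialLinearGroup (Fin 2) F → ℂ) = res (ps δ 1)) ∨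
      (irrDeg θ = Fintype.card F - 1) := by
    intro θ
    rcases irrSL_cases_even heven θ.2 with h | h | ⟨δ, h1, h⟩ | ⟨χ, hc, h⟩
    · left
      refine ⟨?_, h⟩
      rw [irrDeg_eq_iff, h]; simp
    · right; left
      refine ⟨?_, h⟩
      rw [irrDeg_eq_iff, h, res_st_one]
    · right; right; left
      refine ⟨?_, δ, h1, h⟩
      rw [irrDeg_eq_iff, h, res_ps_one]; push_cast; ring
    · right; right; right
      rw [irrDeg_eq_iff, ← h, res_cusp_one χ hc, Nat.cast_sub (by omega)]; simp
  constructor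
  · intro χ hχ
    rcases hdeg ⟨χ, hχ⟩ with ⟨h, _⟩ | ⟨h, _⟩ | ⟨h, _⟩ | h
    · left
      have h' : χ 1 = ((1 : ℕ) : ℂ) := (irrDeg_eq_iff _ _).mp h
      simpa using h'
    · right; right; left
      exact (irrDeg_eq_iff _ _).mp h
    · right; right; right
      have h' : χ 1 = ((Fintype.card F + 1 : ℕ) : ℂ) := (irrDeg_eq_iff _ _).mp h
      rw [h']; push_cast; ring
    · right; left
      have h' : χ 1 = ((Fintype.card F - 1 : ℕ) : ℂ) := (irrDeg_eq_iff _ _).mp h
      rw [h', Nat.cast_sub (by omega)]; simp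
  · intro hq
    -- the four filters
    have c1 : (Finset.univ.filter (fun θ : Cfsg.IrrCharacter (SpecialLinearGroup (Fin 2) F) =>
        irrDeg θ = 1)).card = 1 := by
      rw [Finset.card_eq_one]
      refine ⟨⟨fun _ => 1, one_isIrrCharacter _⟩, ?_⟩
      ext θ
      rw [Finset.mem_filter, Finset.mem_singleton]
      constructor
      · rintro ⟨_, h⟩
        rcases hdeg θ with ⟨_, h1⟩ | ⟨h1, _⟩ | ⟨h1, _⟩ | h1
        · exact Subtype.ext h1
        · omega
        · omega
        · omega
      · rintro rfl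
        refine ⟨Finset.mem_univ _, ?_⟩
        rw [irrDeg_eq_iff]; simp
    have c2 : (Finset.univ.filter (fun θ : Cfsg.IrrCharacter (SpecialLinearGroup (Fin 2) F) =>
        irrDeg θ = Fintype.card F)).card = 1 := by
      rw [Finset.card_eq_one]
      refine ⟨⟨res (st (1 : MulChar F ℂ)), res_st_irr⟩, ?_⟩
      ext θ
      rw [Finset.mem_filter, Finset.mem_singleton]
      constructor
      · rintro ⟨_, h⟩
        rcases hdeg θ with ⟨h1, _⟩ | ⟨_, h1⟩ | ⟨h1, _⟩ | h1
        · omega
        · exact Subtype.ext h1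
        · omega
        · omega
      · rintro rfl
        refine ⟨Finset.mem_univ _, ?_⟩
        rw [irrDeg_eq_iff]; exact res_st_one
    have c3 : 2 * (Finset.univ.filter (fun θ : Cfsg.IrrCharacter (SpecialLinearGroup (Fin 2) F) =>
        irrDeg θ = Fintype.card F + 1)).card = Fintype.card F - 2 := by
      have h1 := two_mul_card_ps (F := F)
      have h2 := card_filter_sq_ne_one (F := F)
      rw [card_filter_sq_eq_one_even heven] at h2
      have h3 : Finset.univ.filter (fun θ : Cfsg.IrrCharacter (SpecialLinearGroup (Fin 2) F) =>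
          irrDeg θ = Fintype.card F + 1) =
          (Finset.univ.filter (fun δ : MulChar F ℂ => δ ^ 2 ≠ 1)).image psIrrSL := by
        ext θ
        rw [Finset.mem_filter, Finset.mem_image]
        constructor
        · rintro ⟨_, h⟩
          rcases hdeg θ with ⟨h1, _⟩ | ⟨h1, _⟩ | ⟨_, δ, hδ, h1⟩ | h1
          · omega
          · omega
          · refine ⟨δ, ?_, ?_⟩
            · rw [Finset.mem_filter]; exact ⟨Finset.mem_univ _, hδ⟩
            · apply Subtype.ext
              rw [psIrrSL_coe hδ, h1]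
          · omega
        · rintro ⟨δ, hδ, rfl⟩
          rw [Finset.mem_filter] at hδ
          refine ⟨Finset.mem_univ _, ?_⟩
          rw [irrDeg_eq_iff, psIrrSL_coe hδ.2, res_ps_one]; push_cast; ring
      rw [h3, h1]
      omega
    have htot := card_irr_SL2_even (F := F)
    have hmaps : ((Finset.univ : Finset (Cfsg.IrrCharacter (SpecialLinearGroup (Fin 2) F))) :
        Set (Cfsg.IrrCharacter (SpecialLinearGroup (Fin 2) F))).MapsTo irrDeg
          (({1, Fintype.card F, Fintype.card F + 1, Fintype.card F - 1} : Finset ℕ) : Set ℕ) := by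
      intro θ _
      rw [Finset.mem_coe, Finset.mem_insert, Finset.mem_insert, Finset.mem_insert,
        Finset.mem_singleton]
      rcases hdeg θ with ⟨h1, _⟩ | ⟨h1, _⟩ | ⟨h1, _⟩ | h1
      · exact Or.inl h1
      · exact Or.inr (Or.inl h1)
      · exact Or.inr (Or.inr (Or.inl h1))
      · exact Or.inr (Or.inr (Or.inr h1))
    have hsum := Finset.card_eq_sum_card_fiberwise hmaps
    rw [Finset.card_univ, htot, Finset.sum_insert (by simp; omega),
      Finset.sum_insert (by simp; omega), Finset.sum_insert (by simp; omega),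
      Finset.sum_singleton, c1, c2] at hsum
    obtain ⟨k, hk⟩ := heven
    refine ⟨?_, ?_, ?_, ?_⟩
    · rw [card_deg_eq 1 1 (by simp), c1]
    · rw [card_deg_eq (Fintype.card F) _ rfl, c2]
    · rw [card_deg_eq (Fintype.card F + 1) _ (by push_cast; ring)]
      omega
    · rw [card_deg_eq (Fintype.card F - 1) _ (by rw [Nat.cast_sub (by omega)]; simp)]
      omega

end Cfsg.Agent.S2300
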