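import Cfsg.Statements.S2321
import Cfsg.Agent.Lib.Helper14.SL2Values

set_option autoImplicit false
open Cfsg Cfsg.Agent.Lib.Helper14 Cfsg.Agent.Lib.Helper2

namespace Cfsg.Agent.S2321

/-- Over a finite field F with q elements, an irreducible complex character of SL₂ of degree q (the Steinberg character) takes the value 1 at every diagonal matrix whose diagonal entry a has a² ≠ 1, the value −1 at every element with no eigenvector in F², and the value 0 at every upper triangular matrix with equal diagonal entries and non-zero upper right entry. -/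
theorem result {F : Type*} [Field F] [Fintype F] (χ : Matrix.SpecialLinearGroup (Fin 2) F → ℂ) (hχ : Cfsg.IsIrrCharacter (Matrix.SpecialLinearGroup (Fin 2) F) χ) (hdeg : χ 1 = (Fintype.card F : ℂ)) (g : Matrix.SpecialLinearGroup (Fin 2) F) :
    ((g : Matrix (Fin 2) (Fin 2) F) 0 1 = 0 → (g : Matrix (Fin 2) (Fin 2) F) 1 0 = 0 → (g : Matrix (Fin 2) (Fin 2) F) 0 0 ^ 2 ≠ 1 → χ g = 1) ∧
    ((∀ (c : F) (v : Fin 2 → F), v ≠ 0 → (g : Matrix (Fin 2) (Fin 2) F).mulVec v ≠ c • v) → χ g = -1) ∧
    ((g : Matrix (Fin 2) (Fin 2) F) 1 0 = 0 → (g : Matrix (Fin 2) (Fin 2) F) 0 0 = (g : Matrix (Fin 2) (Fin 2) F) 1 1 → (g : Matrix (Fin 2) (Fin 2) F) 0 1 ≠ 0 → χ g = 0) := by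
  classical
  have hq : 2 ≤ Fintype.card F := Fintype.one_lt_card
  have hst : χ = res (st (1 : MulChar F ℂ)) := by
    rcases irrSL_cases hχ with h | h | ⟨δ, _, h⟩ | ⟨δ, θ', _, _, _, _, _, h, _⟩ | ⟨χ', hc, h⟩ |
      ⟨χ', θ', hc, _, _, _, h, _⟩
    · exfalso
      rw [h] at hdeg
      have hdeg' : (1 : ℂ) = Fintype.card F := hdeg
      have : 1 = Fintype.card F := by exact_mod_cast hdeg'
      omega
    · exact h
    · exfalso
      rw [h, res_ps_one] at hdeg
      have : Fintype.card F + 1 = Fintype.card F := by exact_mod_cast hdeg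
      omega
    · exfalso
      rw [hdeg] at h
      have : 2 * Fintype.card F = Fintype.card F + 1 := by exact_mod_cast h
      omega
    · exfalso
      rw [← h, res_cusp_one χ' hc] at hdeg
      have : (Fintype.card F : ℂ) = Fintype.card F + 1 := by linear_combination hdeg
      have : Fintype.card F = Fintype.card F + 1 := by exact_mod_cast this
      omega
    · exfalso
      rw [hdeg] at h
      have : 2 * (Fintype.card F : ℂ) + 1 = Fintype.card F := by
        linear_combination h
      have : 2 * Fintype.card F + 1 = Fintype.card F := by exact_mod_cast this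
      omega
  subst hst
  refine ⟨fun h01 h10 hne => res_st_diag g h01 h10 hne, fun h => res_st_elliptic g h,
    fun h10 heq h01 => res_st_unip g h10 heq h01⟩

end Cfsg.Agent.S2321
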