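import Cfsg.Statements.S4765
import Cfsg.Agent.Lib.Helper14.SL2DegSet
import Cfsg.Agent.Lib.Helper14.SL2Pair
import Cfsg.Agent.S2321

set_option autoImplicit false
open Cfsg

namespace Cfsg.Agent.S4765

open Matrix Cfsg.Agent.Lib.Helper14

section aux
variable {F : Type*} [Field F] [Fintype F]

theorem charP_two_of_even (heven : Even (Fintype.card F)) : CharP F 2 := by
  obtain ⟨p, hp⟩ := CharP.exists F
  have hpp : p.Prime := (CharP.char_is_prime_or_zero F p).resolve_right
    (fun h0 => by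
      subst h0
      have : CharZero F := CharP.charP_to_charZero F
      exact not_finite F)
  have : Fact p.Prime := ⟨hpp⟩
  obtain ⟨k, -, hk⟩ := FiniteField.card F p
  have hp2 : p = 2 := by
    rw [hk] at heven
    exact (Nat.Prime.even_iff hpp).mp ((Nat.even_pow.mp heven).1)
  subst hp2
  exact hp

/-- Degree list of `SL₂(F)` as natural numbers. -/
theorem degree_list (hF : 4 ≤ Fintype.card F)
    (χ : SpecialLinearGroup (Fin 2) F → ℂ) (hχ : Cfsg.IsIrrCharacter (SpecialLinearGroup (Fin 2) F) χ) :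
    ∃ d : ℕ, χ 1 = (d : ℂ) ∧ (d = 1 ∨ d = Fintype.card F ∨ d = Fintype.card F + 1 ∨
      d = Fintype.card F - 1 ∨ (Odd (Fintype.card F) ∧ d = (Fintype.card F + 1) / 2) ∨
      (Odd (Fintype.card F) ∧ d = (Fintype.card F - 1) / 2)) := by
  rcases Nat.even_or_odd (Fintype.card F) with heven | hodd
  · have := charP_two_of_even heven
    rcases (Cfsg.Agent.S2300.result (F := F)).1 χ hχ with h | h | h | h
    · exact ⟨1, by rw [h]; simp, Or.inl rfl⟩
    · exact ⟨Fintype.card F - 1, by rw [h, Nat.cast_sub (by omega)]; simp,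
        Or.inr (Or.inr (Or.inr (Or.inl rfl)))⟩
    · exact ⟨Fintype.card F, h, Or.inr (Or.inl rfl)⟩
    · exact ⟨Fintype.card F + 1, by rw [h]; simp, Or.inr (Or.inr (Or.inl rfl))⟩
  · rcases (Cfsg.Agent.S2299.result hodd).1 χ hχ with h | h | h | h | h | h
    · exact ⟨1, by rw [h]; simp, Or.inl rfl⟩
    · exact ⟨Fintype.card F, h, Or.inr (Or.inl rfl)⟩
    · exact ⟨Fintype.card F + 1, by rw [h]; simp, Or.inr (Or.inr (Or.inl rfl))⟩
    · exact ⟨Fintype.card F - 1, by rw [h, Nat.cast_sub (by omega)]; simp,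
        Or.inr (Or.inr (Or.inr (Or.inl rfl)))⟩
    · exact ⟨(Fintype.card F + 1) / 2, h, Or.inr (Or.inr (Or.inr (Or.inr (Or.inl ⟨hodd, rfl⟩))))⟩
    · exact ⟨(Fintype.card F - 1) / 2, h, Or.inr (Or.inr (Or.inr (Or.inr (Or.inr ⟨hodd, rfl⟩))))⟩

/-- There is exactly one irreducible character of `SL₂(F)` of degree `q`. -/
theorem card_degree_q (hF : 4 ≤ Fintype.card F) :
    Nat.card {χ : Cfsg.IrrCharacter (SpecialLinearGroup (Fin 2) F) //
      (χ : SpecialLinearGroup (Fin 2) F → ℂ) 1 = (Fintype.card F : ℂ)} = 1 := by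
  rcases Nat.even_or_odd (Fintype.card F) with heven | hodd
  · have := charP_two_of_even heven
    exact ((Cfsg.Agent.S2300.result (F := F)).2 hF).2.1
  · have h5 : 5 ≤ Fintype.card F := by
      obtain ⟨m, hm⟩ := hodd
      omega
    exact ((Cfsg.Agent.S2299.result hodd).2 h5).2.1

/-- The irreducible character of degree `q` has the centre in its kernel. -/
theorem center_le_ker (hF : 4 ≤ Fintype.card F)
    (χ : SpecialLinearGroup (Fin 2) F → ℂ) (hχ : Cfsg.IsIrrCharacter (SpecialLinearGroup (Fin 2) F) χ)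
    (hdeg : χ 1 = (Fintype.card F : ℂ)) (n : SpecialLinearGroup (Fin 2) F)
    (hn : n ∈ Subgroup.center (SpecialLinearGroup (Fin 2) F)) : χ n = χ 1 := by
  classical
  rw [Matrix.SpecialLinearGroup.mem_center_iff] at hn
  obtain ⟨r, hr, hn⟩ := hn
  rw [Fintype.card_fin] at hr
  have hr' : r = 1 ∨ r = -1 := by
    have : (r - 1) * (r + 1) = 0 := by linear_combination hr
    rcases mul_eq_zero.mp this with h | h
    · left; exact sub_eq_zero.mp h
    · right; exact eq_neg_of_add_eq_zero_left h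
  rcases hr' with rfl | rfl
  · have : n = 1 := by
      apply Subtype.ext
      rw [← hn, map_one]
      rfl
    rw [this]
  · have hn1 : n = -1 := by
      apply Subtype.ext
      rw [← hn, Matrix.SpecialLinearGroup.coe_neg, Matrix.SpecialLinearGroup.coe_one, map_neg,
        map_one]
    -- an element `a` with `a ≠ 0`, `a² ≠ 1`
    obtain ⟨a, ha⟩ : ∃ a : F, a ∉ ({0, 1, -1} : Finset F) := by
      by_contra hcon
      push Not at hcon
      have h1 : (Finset.univ : Finset F) ⊆ {0, 1, -1} := fun x _ => hcon x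
      have h2 := Finset.card_le_card h1
      have h3 : ({0, 1, -1} : Finset F).card ≤ 3 := Finset.card_le_three
      rw [Finset.card_univ] at h2
      omega
    simp only [Finset.mem_insert, Finset.mem_singleton, not_or] at ha
    obtain ⟨ha0, ha1, ha2⟩ := ha
    have hasq : a ^ 2 ≠ 1 := by
      intro h
      have : (a - 1) * (a + 1) = 0 := by linear_combination h
      rcases mul_eq_zero.mp this with h | h
      · exact ha1 (sub_eq_zero.mp h)
      · exact ha2 (eq_neg_of_add_eq_zero_left h)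
    let s : SpecialLinearGroup (Fin 2) F := ⟨!![a, 0; 0, a⁻¹], by
      rw [Matrix.det_fin_two_of, mul_inv_cancel₀ ha0]; ring⟩
    obtain ⟨ω, hω1, hω⟩ := exists_central_sign hχ
    have h1 : χ s = 1 := (Cfsg.Agent.S2321.result χ hχ hdeg s).1 rfl rfl hasq
    have h2 : χ (-s) = 1 := by
      refine (Cfsg.Agent.S2321.result χ hχ hdeg (-s)).1 ?_ ?_ ?_
      · rw [Matrix.SpecialLinearGroup.coe_neg]
        show -(!![a, 0; 0, a⁻¹] : Matrix (Fin 2) (Fin 2) F) 0 1 = 0
        simp
      · rw [Matrix.SpecialLinearGroup.coe_neg]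
        show -(!![a, 0; 0, a⁻¹] : Matrix (Fin 2) (Fin 2) F) 1 0 = 0
        simp
      · rw [Matrix.SpecialLinearGroup.coe_neg]
        show (-(!![a, 0; 0, a⁻¹] : Matrix (Fin 2) (Fin 2) F) 0 0) ^ 2 ≠ 1
        simpa using hasq
    have h3 : ω = 1 := by
      have := hω s
      rw [h1, h2, mul_one] at this
      exact this.symm
    have h4 := hω 1
    rw [h3, one_mul] at h4
    rw [hn1, h4]

end aux

/-- Let F be a finite field of characteristic p with at least 4 elements. Then PSL(2,F) has exactly one irreducible complex character of degree divisible by p, and its degree is the order of F. -/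
theorem result (p : ℕ) [Fact p.Prime] (F : Type*) [Field F] [Fintype F] [CharP F p] (hF : 4 ≤ Fintype.card F) : Nat.card {χ : Cfsg.IrrCharacter (Matrix.ProjectiveSpecialLinearGroup (Fin 2) F) // p ∣ Cfsg.charDegree (χ : Matrix.ProjectiveSpecialLinearGroup (Fin 2) F → ℂ)} = 1 ∧ ∀ χ : Cfsg.IrrCharacter (Matrix.ProjectiveSpecialLinearGroup (Fin 2) F), p ∣ Cfsg.charDegree (χ : Matrix.ProjectiveSpecialLinearGroup (Fin 2) F → ℂ) → Cfsg.charDegree (χ : Matrix.ProjectiveSpecialLinearGroup (Fin 2) F → ℂ) = Fintype.card F := by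
  classical
  have hp : p.Prime := Fact.out
  obtain ⟨k, -, hk⟩ := FiniteField.card F p
  have hpq : p ∣ Fintype.card F := by rw [hk]; exact dvd_pow_self p k.ne_zero
  have hq1 : 1 ≤ Fintype.card F := by omega
  -- only the degree `q` is divisible by `p`
  have hB : ∀ d : ℕ, (d = 1 ∨ d = Fintype.card F ∨ d = Fintype.card F + 1 ∨
      d = Fintype.card F - 1 ∨ (Odd (Fintype.card F) ∧ d = (Fintype.card F + 1) / 2) ∨
      (Odd (Fintype.card F) ∧ d = (Fintype.card F - 1) / 2)) → p ∣ d → d = Fintype.card F := by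
    have hno1 : ¬ p ∣ 1 := fun h => hp.one_lt.ne' (Nat.dvd_one.mp h)
    have hnoP : ¬ p ∣ Fintype.card F + 1 := fun h => hno1 ((Nat.dvd_add_right hpq).mp h)
    have hnoM : ¬ p ∣ Fintype.card F - 1 := fun h => by
      have h1 : p ∣ (Fintype.card F - 1) + 1 := by
        have : Fintype.card F - 1 + 1 = Fintype.card F := by omega
        rw [this]; exact hpq
      exact hno1 ((Nat.dvd_add_right h).mp h1)
    rintro d (rfl | rfl | rfl | rfl | ⟨ho, rfl⟩ | ⟨ho, rfl⟩) hd
    · exact absurd hd hno1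
    · rfl
    · exact absurd hd hnoP
    · exact absurd hd hnoM
    · exfalso
      obtain ⟨m, hm⟩ := ho
      have h2 : (Fintype.card F + 1) / 2 * 2 = Fintype.card F + 1 := by omega
      exact hnoP (h2 ▸ Dvd.dvd.mul_right hd 2)
    · exfalso
      obtain ⟨m, hm⟩ := ho
      have h2 : (Fintype.card F - 1) / 2 * 2 = Fintype.card F - 1 := by omega
      exact hnoM (h2 ▸ Dvd.dvd.mul_right hd 2)
  -- inflation
  have hinfl : ∀ ψ : Cfsg.IrrCharacter (Matrix.ProjectiveSpecialLinearGroup (Fin 2) F),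
      Cfsg.IsIrrCharacter (SpecialLinearGroup (Fin 2) F)
        (fun g => (ψ : Matrix.ProjectiveSpecialLinearGroup (Fin 2) F → ℂ)
          (QuotientGroup.mk' (Subgroup.center (SpecialLinearGroup (Fin 2) F)) g)) :=
    fun ψ => Cfsg.Agent.Lib.Helper25.isIrrCharacter_inflation _ ψ.2
  have hdegψ : ∀ ψ : Cfsg.IrrCharacter (Matrix.ProjectiveSpecialLinearGroup (Fin 2) F),
      p ∣ Cfsg.charDegree (ψ : Matrix.ProjectiveSpecialLinearGroup (Fin 2) F → ℂ) →
      (ψ : Matrix.ProjectiveSpecialLinearGroup (Fin 2) F → ℂ) 1 = (Fintype.card F : ℂ) := by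
    intro ψ hd
    obtain ⟨d, h1, h2⟩ := degree_list hF _ (hinfl ψ)
    have h3 : (ψ : Matrix.ProjectiveSpecialLinearGroup (Fin 2) F → ℂ) 1 = (d : ℂ) := by
      rw [← h1]
      show _ = (ψ : Matrix.ProjectiveSpecialLinearGroup (Fin 2) F → ℂ)
        (QuotientGroup.mk' (Subgroup.center (SpecialLinearGroup (Fin 2) F)) 1)
      rw [map_one]
    rw [charDegree_of_natCast _ d h3] at hd
    rw [h3, hB d h2 hd]
  refine ⟨?_, ?_⟩
  · rw [Nat.card_eq_one_iff_unique]
    constructor
    · constructor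
      rintro ⟨ψ₁, h₁⟩ ⟨ψ₂, h₂⟩
      apply Subtype.ext
      have e1 := hdegψ ψ₁ h₁
      have e2 := hdegψ ψ₂ h₂
      have hss := (Nat.card_eq_one_iff_unique.mp (card_degree_q hF)).1
      let χ₁ : {χ : Cfsg.IrrCharacter (SpecialLinearGroup (Fin 2) F) //
          (χ : SpecialLinearGroup (Fin 2) F → ℂ) 1 = (Fintype.card F : ℂ)} :=
        ⟨⟨_, hinfl ψ₁⟩, by
          show (ψ₁ : Matrix.ProjectiveSpecialLinearGroup (Fin 2) F → ℂ)
            (QuotientGroup.mk' (Subgroup.center (SpecialLinearGroup (Fin 2) F)) 1) = _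
          rw [map_one, e1]⟩
      let χ₂ : {χ : Cfsg.IrrCharacter (SpecialLinearGroup (Fin 2) F) //
          (χ : SpecialLinearGroup (Fin 2) F → ℂ) 1 = (Fintype.card F : ℂ)} :=
        ⟨⟨_, hinfl ψ₂⟩, by
          show (ψ₂ : Matrix.ProjectiveSpecialLinearGroup (Fin 2) F → ℂ)
            (QuotientGroup.mk' (Subgroup.center (SpecialLinearGroup (Fin 2) F)) 1) = _
          rw [map_one, e2]⟩
      have h12 : χ₁ = χ₂ := Subsingleton.elim _ _
      have h13 : (χ₁.1 : SpecialLinearGroup (Fin 2) F → ℂ) = (χ₂.1 : SpecialLinearGroup (Fin 2) F → ℂ) := by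
        rw [h12]
      apply Subtype.ext
      funext x
      obtain ⟨g, rfl⟩ := QuotientGroup.mk'_surjective
        (Subgroup.center (SpecialLinearGroup (Fin 2) F)) x
      exact congrFun h13 g
    · obtain ⟨⟨χ₀, hχ₀⟩⟩ := (Nat.card_eq_one_iff_unique.mp (card_degree_q hF)).2
      obtain ⟨ψ, hψ, hval⟩ := Cfsg.Agent.Lib.Helper25.exists_deflation
        (Subgroup.center (SpecialLinearGroup (Fin 2) F)) χ₀.2
        (fun n hn => center_le_ker hF _ χ₀.2 hχ₀ n hn)
      refine ⟨⟨⟨ψ, hψ⟩, ?_⟩⟩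
      have h1 : ψ 1 = (Fintype.card F : ℂ) := by
        rw [← hχ₀, hval 1]
        rfl
      show p ∣ Cfsg.charDegree ψ
      rw [charDegree_of_natCast ψ _ h1]
      exact hpq
  · intro ψ hd
    exact charDegree_of_natCast _ _ (hdegψ ψ hd)

end Cfsg.Agent.S4765
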