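-- Statement S0768
import Cfsg.Statements.S0768
import Mathlib
import Cfsg.Agent.S0765

set_option autoImplicit false
open scoped LinearAlgebra.Projectivization
open Cfsg

namespace Cfsg.Agent.S0768

open Matrix Cfsg.Agent.Lib.Helper6 Cfsg.Agent.S0766 Cfsg.Agent.S0765
open scoped Pointwise

variable {F : Type*} [Field F] {m : ℕ}

local notation "Mat" => Matrix (Fin m ⊕ Fin m) (Fin m ⊕ Fin m) F
local notation "GLm" => Matrix.GeneralLinearGroup (Fin m ⊕ Fin m) F

theorem nondeg (x : Fin m ⊕ Fin m → F) (hx : x ≠ 0) : ∃ a, Cfsg.sympForm m F x a = 1 := by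
  classical
  obtain ⟨i, hi⟩ : ∃ i, x i ≠ 0 := by
    by_contra h
    push Not at h
    exact hx (funext h)
  rcases i with i | i
  · refine ⟨(-(x (Sum.inl i))⁻¹) • Pi.single (Sum.inr i) 1, ?_⟩
    rw [sympForm_smul_right, sympForm_single_inr]
    field_simp
  · refine ⟨((x (Sum.inr i))⁻¹) • Pi.single (Sum.inl i) 1, ?_⟩
    rw [sympForm_smul_right, sympForm_single_inl]
    field_simp

theorem exists_spGL (A : Matrix.symplecticGroup (Fin m) F) :
    ∃ g : ↥(Cfsg.spGL m F), ∀ x : Fin m ⊕ Fin m → F,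
      ((g : GLm) : Mat) *ᵥ x = (A : Mat) *ᵥ x := by
  refine ⟨⟨⟨(A : Mat), ((A⁻¹ : Matrix.symplecticGroup (Fin m) F) : Mat), ?_, ?_⟩, ?_⟩,
    fun x => rfl⟩
  · exact congrArg Subtype.val (mul_inv_cancel A)
  · exact congrArg Subtype.val (inv_mul_cancel A)
  · intro u v
    exact preserves A u v

theorem smul_mk' (g : ↥(Cfsg.spGL m F)) (v : Fin m ⊕ Fin m → F) (hv : v ≠ 0)
    (hv' : ((g : GLm) : Mat) *ᵥ v ≠ 0) :
    g • Projectivization.mk F v hv = Projectivization.mk F (((g : GLm) : Mat) *ᵥ v) hv' := rfl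

theorem ne_zero_of_form_left {x y : Fin m ⊕ Fin m → F} (h : Cfsg.sympForm m F x y ≠ 0) : x ≠ 0 := by
  rintro rfl
  exact h (sympForm_zero_left _)

theorem ne_zero_of_form_right {x y : Fin m ⊕ Fin m → F} (h : Cfsg.sympForm m F x y ≠ 0) : y ≠ 0 := by
  rintro rfl
  exact h (sympForm_zero_right _)

/-- if `A ∈ Sp` fixes `x` and `⟨x⟩ ∈ B`, `⟨y⟩ ∈ B`, then `⟨A y⟩ ∈ B` -/
theorem block_step {B : Set (ℙ F (Fin m ⊕ Fin m → F))} (hB : MulAction.IsBlock ↥(Cfsg.spGL m F) B)
    (A : Matrix.symplecticGroup (Fin m) F) (x y : Fin m ⊕ Fin m → F) (hx : x ≠ 0) (hy : y ≠ 0)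
    (hAx : (A : Mat) *ᵥ x = x) (hAy : (A : Mat) *ᵥ y ≠ 0)
    (hxB : Projectivization.mk F x hx ∈ B) (hyB : Projectivization.mk F y hy ∈ B) :
    Projectivization.mk F ((A : Mat) *ᵥ y) hAy ∈ B := by
  obtain ⟨g, hg⟩ := exists_spGL A
  rw [MulAction.isBlock_iff_smul_eq_of_mem] at hB
  have h1 : g • Projectivization.mk F x hx = Projectivization.mk F x hx := by
    rw [smul_mk' g x hx (by rw [hg, hAx]; exact hx)]
    congr 1
    rw [hg, hAx]
  have h2 : g • B = B := hB hxB (by rw [h1]; exact hxB)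
  have h3 : g • Projectivization.mk F y hy ∈ g • B := Set.smul_mem_smul_set hyB
  rw [h2, smul_mk' g y hy (by rw [hg]; exact hAy)] at h3
  convert h3 using 2
  rw [hg]

theorem lemmaA {B : Set (ℙ F (Fin m ⊕ Fin m → F))} (hB : MulAction.IsBlock ↥(Cfsg.spGL m F) B)
    (x y y' : Fin m ⊕ Fin m → F) (hxy : Cfsg.sympForm m F x y ≠ 0)
    (hxy' : Cfsg.sympForm m F x y' ≠ 0)
    (hxB : Projectivization.mk F x (ne_zero_of_form_left hxy) ∈ B)
    (hyB : Projectivization.mk F y (ne_zero_of_form_right hxy) ∈ B) :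
    Projectivization.mk F y' (ne_zero_of_form_right hxy') ∈ B := by
  set c := Cfsg.sympForm m F x y with hc
  set c' := Cfsg.sympForm m F x y' with hc'
  have h1 : Cfsg.sympForm m F x (c⁻¹ • y) = 1 := by
    rw [sympForm_smul_right, ← hc, inv_mul_cancel₀ hxy]
  have h1' : Cfsg.sympForm m F x (c'⁻¹ • y') = 1 := by
    rw [sympForm_smul_right, ← hc', inv_mul_cancel₀ hxy']
  obtain ⟨A, -, hAx, hAy, -⟩ := trans_pairs x (c⁻¹ • y) x (c'⁻¹ • y') h1 h1'
  have hAy2 : (A : Mat) *ᵥ y = (c * c'⁻¹) • y' := by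
    have : y = c • (c⁻¹ • y) := by rw [smul_smul, mul_inv_cancel₀ hxy, one_smul]
    rw [this, Matrix.mulVec_smul, hAy, smul_smul]
  have hne : (A : Mat) *ᵥ y ≠ 0 := by
    rw [hAy2]
    exact smul_ne_zero (mul_ne_zero hxy (inv_ne_zero hxy')) (ne_zero_of_form_right hxy')
  have := block_step hB A x y _ _ hAx hne hxB hyB
  convert this using 1
  rw [Projectivization.mk_eq_mk_iff']
  exact ⟨(c * c'⁻¹)⁻¹, by rw [hAy2, smul_smul, inv_mul_cancel₀ (mul_ne_zero hxy (inv_ne_zero hxy')), one_smul]⟩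

theorem exists_common (x z : Fin m ⊕ Fin m → F) (hx : x ≠ 0) (hz : z ≠ 0) :
    ∃ y, Cfsg.sympForm m F x y ≠ 0 ∧ Cfsg.sympForm m F z y ≠ 0 := by
  obtain ⟨a, ha⟩ := nondeg x hx
  obtain ⟨b, hb⟩ := nondeg z hz
  by_cases h1 : Cfsg.sympForm m F z a ≠ 0
  · exact ⟨a, by rw [ha]; exact one_ne_zero, h1⟩
  push Not at h1
  by_cases h2 : Cfsg.sympForm m F x b ≠ 0
  · exact ⟨b, h2, by rw [hb]; exact one_ne_zero⟩
  push Not at h2
  refine ⟨a + b, ?_, ?_⟩
  · rw [sympForm_add_right, ha, h2]; simp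
  · rw [sympForm_add_right, h1, hb]; simp

theorem exists_sep (x y : Fin m ⊕ Fin m → F) (hx : x ≠ 0)
    (hxy : ∀ a : F, a • x ≠ y) :
    ∃ w, Cfsg.sympForm m F x w = 0 ∧ Cfsg.sympForm m F y w ≠ 0 := by
  by_contra hcon
  push Not at hcon
  obtain ⟨a, ha⟩ := nondeg x hx
  -- then y = f(y,a) x
  have key : ∀ w, Cfsg.sympForm m F (y - Cfsg.sympForm m F y a • x) w = 0 := by
    intro w
    have h1 : Cfsg.sympForm m F x (w - Cfsg.sympForm m F x w • a) = 0 := by
      rw [sympForm_sub_right, sympForm_smul_right, ha, mul_one, sub_self]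
    have h2 := hcon _ h1
    rw [sympForm_sub_right, sympForm_smul_right] at h2
    rw [sympForm_sub_left, sympForm_smul_left]
    linear_combination h2
  have : y - Cfsg.sympForm m F y a • x = 0 := by
    by_contra hne
    obtain ⟨b, hb⟩ := nondeg _ hne
    rw [key b] at hb
    exact zero_ne_one hb
  exact hxy _ (sub_eq_zero.mp this).symm

theorem result {F : Type*} [Field F] [Finite F] (m : ℕ) (hm : 1 ≤ m) : MulAction.IsPreprimitive ↥(Cfsg.spGL m F) (ℙ F (Fin m ⊕ Fin m → F)) := by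
  classical
  have htrans : MulAction.IsPretransitive ↥(Cfsg.spGL m F) (ℙ F (Fin m ⊕ Fin m → F)) := by
    constructor
    intro P Q
    induction P using Projectivization.ind with
    | h x hx =>
    induction Q using Projectivization.ind with
    | h y hy =>
    obtain ⟨a, ha⟩ := nondeg x hx
    obtain ⟨b, hb⟩ := nondeg y hy
    obtain ⟨A, -, hAx, -, -⟩ := trans_pairs x a y b ha hb
    obtain ⟨g, hg⟩ := exists_spGL A
    refine ⟨g, ?_⟩
    rw [smul_mk' g x hx (by rw [hg, hAx]; exact hy)]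
    congr 1
    rw [hg, hAx]
  refine { toIsPretransitive := htrans, isTrivialBlock_of_isBlock := ?_ }
  intro B hB
  by_cases hsub : B.Subsingleton
  · exact Or.inl hsub
  right
  rw [Set.not_subsingleton_iff] at hsub
  obtain ⟨P, hP, Q, hQ, hPQ⟩ := hsub
  -- find a non-perpendicular pair in B
  have hpair : ∃ (x y : Fin m ⊕ Fin m → F) (hxy : Cfsg.sympForm m F x y ≠ 0),
      Projectivization.mk F x (ne_zero_of_form_left hxy) ∈ B ∧
      Projectivization.mk F y (ne_zero_of_form_right hxy) ∈ B := by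
    induction P using Projectivization.ind with
    | h x hx =>
    induction Q using Projectivization.ind with
    | h y hy =>
    by_cases hxy : Cfsg.sympForm m F x y ≠ 0
    · exact ⟨x, y, hxy, hP, hQ⟩
    push Not at hxy
    have hind : ∀ a : F, a • x ≠ y := by
      intro a ha
      apply hPQ
      rw [Projectivization.mk_eq_mk_iff']
      exact ⟨a⁻¹, by
        rw [← ha, smul_smul, inv_mul_cancel₀, one_smul]
        rintro rfl
        rw [zero_smul] at ha
        exact hy ha.symm⟩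
    obtain ⟨w, hw1, hw2⟩ := exists_sep x y hx hind
    let A : Matrix.symplecticGroup (Fin m) F := ⟨Cfsg.sympTransvection m w 1, sympTransvection_mem _ _⟩
    have hAx : (A : Matrix (Fin m ⊕ Fin m) (Fin m ⊕ Fin m) F) *ᵥ x = x := by
      change Cfsg.sympTransvection m w 1 *ᵥ x = x
      rw [sympTransvection_mulVec, hw1]; simp
    have hAy : (A : Matrix (Fin m ⊕ Fin m) (Fin m ⊕ Fin m) F) *ᵥ y = y + Cfsg.sympForm m F y w • w := by
      change Cfsg.sympTransvection m w 1 *ᵥ y = _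
      rw [sympTransvection_mulVec]; simp
    have hf : Cfsg.sympForm m F y ((A : Matrix (Fin m ⊕ Fin m) (Fin m ⊕ Fin m) F) *ᵥ y) ≠ 0 := by
      rw [hAy, sympForm_add_right, sympForm_self, sympForm_smul_right, zero_add]
      exact mul_ne_zero hw2 hw2
    refine ⟨y, (A : Matrix (Fin m ⊕ Fin m) (Fin m ⊕ Fin m) F) *ᵥ y, hf, hQ, ?_⟩
    exact block_step hB A x y hx hy hAx (ne_zero_of_form_right hf) hP hQ
  obtain ⟨x, y, hxy, hxB, hyB⟩ := hpair
  rw [Set.eq_univ_iff_forall]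
  intro R
  induction R using Projectivization.ind with
  | h z hz =>
  by_cases hxz : Cfsg.sympForm m F x z ≠ 0
  · exact lemmaA hB x y z hxy hxz hxB hyB
  obtain ⟨y'', h1, h2⟩ := exists_common x z (ne_zero_of_form_left hxy) hz
  have hy''B := lemmaA hB x y y'' hxy h1 hxB hyB
  have h1' : Cfsg.sympForm m F y'' x ≠ 0 := by
    rw [sympForm_swap]; exact neg_ne_zero.mpr h1
  have h2' : Cfsg.sympForm m F y'' z ≠ 0 := by
    rw [sympForm_swap]; exact neg_ne_zero.mpr h2
  exact lemmaA hB y'' x z h1' h2' hy''B hxB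

end Cfsg.Agent.S0768
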