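-- Statement S0269
import Cfsg.Statements.S0269
import Mathlib
import Cfsg.Agent.S0776
import Cfsg.Agent.S0768
import Cfsg.Agent.S0765
import Cfsg.Agent.Lib.Helper15.SympStab

set_option autoImplicit false
open Cfsg

namespace Cfsg.Agent.S0269

open Matrix Module Cfsg.Agent.Lib.Helper6 Cfsg.Agent.S0776
open scoped commutatorElement

section
variable {F : Type*} [Field F] {m : ℕ}

/-- `x ↦ x + a f(x,z) u + b f(x,z') u'` -/
def Q2 (a : F) (u z : Fin m ⊕ Fin m → F) (b : F) (u' z' : Fin m ⊕ Fin m → F) :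
    Matrix (Fin m ⊕ Fin m) (Fin m ⊕ Fin m) F :=
  1 + a • Matrix.vecMulVec u (Matrix.J (Fin m) F *ᵥ z) +
    b • Matrix.vecMulVec u' (Matrix.J (Fin m) F *ᵥ z')

theorem rk_mulVec (a : F) (u z x : Fin m ⊕ Fin m → F) :
    (a • Matrix.vecMulVec u (Matrix.J (Fin m) F *ᵥ z)) *ᵥ x = (a * Cfsg.sympForm m F x z) • u := by
  rw [smul_mulVec, vecMulVec_mulVec, sympForm_def, dotProduct_comm]
  ext i
  simp only [Pi.smul_apply, MulOpposite.smul_eq_mul_unop, MulOpposite.unop_op, smul_eq_mul]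
  ring

theorem Q2_mulVec (a : F) (u z : Fin m ⊕ Fin m → F) (b : F) (u' z' x : Fin m ⊕ Fin m → F) :
    Q2 a u z b u' z' *ᵥ x = x + (a * Cfsg.sympForm m F x z) • u +
      (b * Cfsg.sympForm m F x z') • u' := by
  unfold Q2
  rw [add_mulVec, add_mulVec, one_mulVec, rk_mulVec, rk_mulVec]

/-- `x ↦ x + a f(x,u₂) u₁ + a f(x,u₁) u₂` -/
def Em (a : F) (u₁ u₂ : Fin m ⊕ Fin m → F) : Matrix (Fin m ⊕ Fin m) (Fin m ⊕ Fin m) F :=
  Q2 a u₁ u₂ a u₂ u₁

theorem Em_mulVec (a : F) (u₁ u₂ x : Fin m ⊕ Fin m → F) :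
    Em a u₁ u₂ *ᵥ x = x + (a * Cfsg.sympForm m F x u₂) • u₁ +
      (a * Cfsg.sympForm m F x u₁) • u₂ := Q2_mulVec _ _ _ _ _ _ _

theorem Em_mem (a : F) (u₁ u₂ : Fin m ⊕ Fin m → F) (h12 : Cfsg.sympForm m F u₁ u₂ = 0) :
    Em a u₁ u₂ ∈ Matrix.symplecticGroup (Fin m) F := by
  have h21 : Cfsg.sympForm m F u₂ u₁ = 0 := by rw [sympForm_swap, h12, neg_zero]
  rw [mem_symplecticGroup_iff_preserves]
  intro x y
  simp only [Em_mulVec, sympForm_add_left, sympForm_add_right, sympForm_smul_left,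
    sympForm_smul_right, sympForm_self, h12, h21]
  rw [sympForm_swap u₁ y, sympForm_swap u₂ y]
  ring

/-- the torus element `w ↦ lam w`, `w' ↦ lam⁻¹ w'` -/
def Bm (lam : F) (w w' : Fin m ⊕ Fin m → F) : Matrix (Fin m ⊕ Fin m) (Fin m ⊕ Fin m) F :=
  Q2 (lam - 1) w w' (-(lam⁻¹ - 1)) w' w

theorem Bm_mulVec (lam : F) (w w' x : Fin m ⊕ Fin m → F) :
    Bm lam w w' *ᵥ x = x + ((lam - 1) * Cfsg.sympForm m F x w') • w +
      (-(lam⁻¹ - 1) * Cfsg.sympForm m F x w) • w' := Q2_mulVec _ _ _ _ _ _ _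

theorem Bm_mem (lam : F) (hlam : lam ≠ 0) (w w' : Fin m ⊕ Fin m → F)
    (hww' : Cfsg.sympForm m F w w' = 1) :
    Bm lam w w' ∈ Matrix.symplecticGroup (Fin m) F := by
  have hw'w : Cfsg.sympForm m F w' w = -1 := by rw [sympForm_swap, hww']
  rw [mem_symplecticGroup_iff_preserves]
  intro x y
  simp only [Bm_mulVec, sympForm_add_left, sympForm_add_right, sympForm_smul_left,
    sympForm_smul_right, sympForm_self, hww', hw'w]
  rw [sympForm_swap w y, sympForm_swap w' y]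
  field_simp
  ring

/-- the torus case -/
theorem torus_comm (lam : F) (hlam : lam ≠ 0) (hlam2 : lam ^ 2 - 1 ≠ 0)
    (w w' : Fin m ⊕ Fin m → F) (hww' : Cfsg.sympForm m F w w' = 1) (c : F) :
    Bm lam w w' * Cfsg.sympTransvection m w (c / (lam ^ 2 - 1)) =
      Cfsg.sympTransvection m w c *
        (Cfsg.sympTransvection m w (c / (lam ^ 2 - 1)) * Bm lam w w') := by
  have hw'w : Cfsg.sympForm m F w' w = -1 := by rw [sympForm_swap, hww']
  apply matrix_ext_mulVec
  intro x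
  simp only [← mulVec_mulVec, Bm_mulVec, sympTransvection_mulVec, sympForm_add_left,
    sympForm_smul_left, sympForm_self, hww', hw'w]
  ext i
  simp only [Pi.add_apply, Pi.smul_apply, smul_eq_mul]
  field_simp
  ring

/-- the odd characteristic rank two case -/
theorem two_comm (w u u' : Fin m ⊕ Fin m → F) (hwu : Cfsg.sympForm m F w u = 0)
    (hwu' : Cfsg.sympForm m F w u' = 0) (huu' : Cfsg.sympForm m F u u' = 1) (s : F) :
    Em 1 w u' * Em s w u =
      Cfsg.sympTransvection m w (2 * s) * (Em s w u * Em 1 w u') := by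
  have huw : Cfsg.sympForm m F u w = 0 := by rw [sympForm_swap, hwu, neg_zero]
  have hu'w : Cfsg.sympForm m F u' w = 0 := by rw [sympForm_swap, hwu', neg_zero]
  have hu'u : Cfsg.sympForm m F u' u = -1 := by rw [sympForm_swap, huu']
  apply matrix_ext_mulVec
  intro x
  simp only [← mulVec_mulVec, Em_mulVec, sympTransvection_mulVec, sympForm_add_left,
    sympForm_smul_left, sympForm_self, hwu, hwu', huu', huw, hu'w, hu'u]
  ext i
  simp only [Pi.add_apply, Pi.smul_apply, smul_eq_mul]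
  ring

/-- rank three, first identity -/
theorem three_comm1 (w u u' : Fin m ⊕ Fin m → F) (hwu : Cfsg.sympForm m F w u = 0)
    (hwu' : Cfsg.sympForm m F w u' = 0) (huu' : Cfsg.sympForm m F u u' = 1) (c : F) :
    Em 1 w u' * Cfsg.sympTransvection m u c =
      (Cfsg.sympTransvection m w c * Em c w u) * (Cfsg.sympTransvection m u c * Em 1 w u') := by
  have huw : Cfsg.sympForm m F u w = 0 := by rw [sympForm_swap, hwu, neg_zero]
  have hu'w : Cfsg.sympForm m F u' w = 0 := by rw [sympForm_swap, hwu', neg_zero]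
  have hu'u : Cfsg.sympForm m F u' u = -1 := by rw [sympForm_swap, huu']
  apply matrix_ext_mulVec
  intro x
  simp only [← mulVec_mulVec, Em_mulVec, sympTransvection_mulVec, sympForm_add_left,
    sympForm_smul_left, sympForm_self, hwu, hwu', huu', huw, hu'w, hu'u]
  ext i
  simp only [Pi.add_apply, Pi.smul_apply, smul_eq_mul]
  ring

/-- rank three, second identity -/
theorem three_comm2 (w u t t' : Fin m ⊕ Fin m → F) (hwu : Cfsg.sympForm m F w u = 0)
    (hwt : Cfsg.sympForm m F w t = 0) (hwt' : Cfsg.sympForm m F w t' = 0)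
    (hut : Cfsg.sympForm m F u t = 0) (hut' : Cfsg.sympForm m F u t' = 0)
    (htt' : Cfsg.sympForm m F t t' = 1) (c : F) :
    Em 1 u t' * Em c w t = Em c w u * (Em c w t * Em 1 u t') := by
  have huw : Cfsg.sympForm m F u w = 0 := by rw [sympForm_swap, hwu, neg_zero]
  have htw : Cfsg.sympForm m F t w = 0 := by rw [sympForm_swap, hwt, neg_zero]
  have ht'w : Cfsg.sympForm m F t' w = 0 := by rw [sympForm_swap, hwt', neg_zero]
  have htu : Cfsg.sympForm m F t u = 0 := by rw [sympForm_swap, hut, neg_zero]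
  have ht'u : Cfsg.sympForm m F t' u = 0 := by rw [sympForm_swap, hut', neg_zero]
  have ht't : Cfsg.sympForm m F t' t = -1 := by rw [sympForm_swap, htt']
  apply matrix_ext_mulVec
  intro x
  simp only [← mulVec_mulVec, Em_mulVec, sympForm_add_left,
    sympForm_smul_left, sympForm_self, hwu, hwt, hwt', hut, hut', htt', huw, htw, ht'w, htu,
    ht'u, ht't]
  ext i
  simp only [Pi.add_apply, Pi.smul_apply, smul_eq_mul]
  ring

theorem transv_zero (c : F) : Cfsg.sympTransvection m (0 : Fin m ⊕ Fin m → F) c = 1 := by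
  apply matrix_ext_mulVec
  intro x
  rw [sympTransvection_mulVec, smul_zero, add_zero, one_mulVec]

/-- group element of a transvection -/
def Tg (w : Fin m ⊕ Fin m → F) (c : F) : Matrix.symplecticGroup (Fin m) F :=
  ⟨Cfsg.sympTransvection m w c, sympTransvection_mem w c⟩

theorem comm_of_eq {G : Type*} [Group G] (a b t : G) (h : a * b = t * (b * a)) : ⁅a, b⁆ = t := by
  rw [commutatorElement_def, h]
  group

theorem mem_comm_of_eq {G : Type*} [Group G] (a b t : G) (h : a * b = t * (b * a)) :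
    t ∈ commutator G := by
  rw [← comm_of_eq a b t h, commutator_def]
  exact Subgroup.commutator_mem_commutator (Subgroup.mem_top _) (Subgroup.mem_top _)

theorem case_torus [Fintype F] (hq : 4 ≤ Fintype.card F) (w : Fin m ⊕ Fin m → F) (hw : w ≠ 0)
    (c : F) : Tg w c ∈ commutator (Matrix.symplecticGroup (Fin m) F) := by
  classical
  obtain ⟨lam, hlam⟩ : ∃ x : F, x ∉ ({0, 1, -1} : Finset F) := by
    by_contra hcon
    push Not at hcon
    have h1 := Finset.card_le_card (fun x _ => hcon x : (Finset.univ : Finset F) ⊆ {0, 1, -1})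
    have h3 : ({0, 1, -1} : Finset F).card ≤ 3 := Finset.card_le_three
    rw [Finset.card_univ] at h1
    omega
  simp only [Finset.mem_insert, Finset.mem_singleton, not_or] at hlam
  obtain ⟨h0, h1, h2⟩ := hlam
  have hlam2 : lam ^ 2 - 1 ≠ 0 := by
    intro h
    have : (lam - 1) * (lam + 1) = 0 := by linear_combination h
    rcases mul_eq_zero.mp this with h' | h'
    · exact h1 (sub_eq_zero.mp h')
    · exact h2 (eq_neg_of_add_eq_zero_left h')
  obtain ⟨w', hww'⟩ := Cfsg.Agent.S0768.nondeg w hw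
  apply mem_comm_of_eq (⟨Bm lam w w', Bm_mem lam h0 w w' hww'⟩ :
    Matrix.symplecticGroup (Fin m) F) (Tg w (c / (lam ^ 2 - 1))) (Tg w c)
  apply Subtype.ext
  exact torus_comm lam h0 hlam2 w w' hww' c

theorem finrank_V : finrank F (Fin m ⊕ Fin m → F) = 2 * m := by
  rw [Module.finrank_pi, Fintype.card_sum, Fintype.card_fin]
  ring

theorem case_two [Finite F] (h2 : (2 : F) ≠ 0) (hm : 2 ≤ m) (w : Fin m ⊕ Fin m → F) (hw : w ≠ 0)
    (c : F) : Tg w c ∈ commutator (Matrix.symplecticGroup (Fin m) F) := by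
  obtain ⟨p, hp⟩ := Cfsg.Agent.Lib.Helper15.exists_sympFam_first (sB m F) (sB_alt m)
    (fun x h => sB_nondeg m x h) m finrank_V w hw 2 (by norm_num) hm
  have hwu : Cfsg.sympForm m F w (p.1.1 1) = 0 := by
    rw [← hp]
    exact p.2.ee _ _
  have hwu' : Cfsg.sympForm m F w (p.1.2 1) = 0 := by
    rw [← hp]
    exact (p.2.ef _ _).trans (if_neg (by decide))
  have huu' : Cfsg.sympForm m F (p.1.1 1) (p.1.2 1) = 1 := (p.2.ef 1 1).trans (if_pos rfl)
  have hu'w : Cfsg.sympForm m F (p.1.2 1) w = 0 := by rw [sympForm_swap, hwu', neg_zero]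
  apply mem_comm_of_eq (⟨Em 1 w (p.1.2 1), Em_mem 1 w _ hwu'⟩ :
    Matrix.symplecticGroup (Fin m) F) ⟨Em (c / 2) w (p.1.1 1), Em_mem _ w _ hwu⟩ (Tg w c)
  apply Subtype.ext
  have h := two_comm w (p.1.1 1) (p.1.2 1) hwu hwu' huu' (c / 2)
  rw [mul_div_cancel₀ c h2] at h
  exact h

theorem case_three [Finite F] (hm : 3 ≤ m) (w : Fin m ⊕ Fin m → F) (hw : w ≠ 0)
    (c : F) : Tg w c ∈ commutator (Matrix.symplecticGroup (Fin m) F) := by
  obtain ⟨p, hp⟩ := Cfsg.Agent.Lib.Helper15.exists_sympFam_first (sB m F) (sB_alt m)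
    (fun x h => sB_nondeg m x h) m finrank_V w hw 3 (by norm_num) hm
  have hwu : Cfsg.sympForm m F w (p.1.1 1) = 0 := by
    rw [← hp]
    exact p.2.ee _ _
  have hwt : Cfsg.sympForm m F w (p.1.1 2) = 0 := by
    rw [← hp]
    exact p.2.ee _ _
  have hwu' : Cfsg.sympForm m F w (p.1.2 1) = 0 := by
    rw [← hp]
    exact (p.2.ef _ _).trans (if_neg (by decide))
  have hwt' : Cfsg.sympForm m F w (p.1.2 2) = 0 := by
    rw [← hp]
    exact (p.2.ef _ _).trans (if_neg (by decide))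
  have huu' : Cfsg.sympForm m F (p.1.1 1) (p.1.2 1) = 1 := (p.2.ef 1 1).trans (if_pos rfl)
  have htt' : Cfsg.sympForm m F (p.1.1 2) (p.1.2 2) = 1 := (p.2.ef 2 2).trans (if_pos rfl)
  have hut : Cfsg.sympForm m F (p.1.1 1) (p.1.1 2) = 0 := p.2.ee _ _
  have hut' : Cfsg.sympForm m F (p.1.1 1) (p.1.2 2) = 0 :=
    (p.2.ef 1 2).trans (if_neg (by decide))
  -- the group elements
  obtain ⟨E₁, hE₁⟩ : ∃ g : Matrix.symplecticGroup (Fin m) F, g.1 = Em 1 w (p.1.2 1) :=
    ⟨⟨_, Em_mem 1 w _ hwu'⟩, rfl⟩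
  obtain ⟨Ewu, hEwu⟩ : ∃ g : Matrix.symplecticGroup (Fin m) F, g.1 = Em c w (p.1.1 1) :=
    ⟨⟨_, Em_mem c w _ hwu⟩, rfl⟩
  obtain ⟨Ea, hEa⟩ : ∃ g : Matrix.symplecticGroup (Fin m) F, g.1 = Em 1 (p.1.1 1) (p.1.2 2) :=
    ⟨⟨_, Em_mem 1 _ _ hut'⟩, rfl⟩
  obtain ⟨Eb, hEb⟩ : ∃ g : Matrix.symplecticGroup (Fin m) F, g.1 = Em c w (p.1.1 2) :=
    ⟨⟨_, Em_mem c w _ hwt⟩, rfl⟩
  have h1 : E₁ * Tg (p.1.1 1) c = (Tg w c * Ewu) * (Tg (p.1.1 1) c * E₁) := by
    apply Subtype.ext
    change E₁.1 * Cfsg.sympTransvection m (p.1.1 1) c =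
      (Cfsg.sympTransvection m w c * Ewu.1) * (Cfsg.sympTransvection m (p.1.1 1) c * E₁.1)
    rw [hE₁, hEwu]
    exact three_comm1 w (p.1.1 1) (p.1.2 1) hwu hwu' huu' c
  have h2 : Ea * Eb = Ewu * (Eb * Ea) := by
    apply Subtype.ext
    change Ea.1 * Eb.1 = Ewu.1 * (Eb.1 * Ea.1)
    rw [hEa, hEb, hEwu]
    exact three_comm2 w (p.1.1 1) (p.1.1 2) (p.1.2 2) hwu hwt hwt' hut hut' htt' c
  have h3 : Tg w c = ⁅E₁, Tg (p.1.1 1) c⁆ * ⁅Ea, Eb⁆⁻¹ := by
    rw [comm_of_eq _ _ _ h1, comm_of_eq _ _ _ h2]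
    group
  rw [h3, commutator_def]
  exact Subgroup.mul_mem _
    (Subgroup.commutator_mem_commutator (Subgroup.mem_top _) (Subgroup.mem_top _))
    (Subgroup.inv_mem _
      (Subgroup.commutator_mem_commutator (Subgroup.mem_top _) (Subgroup.mem_top _)))

end

/-- Sp_{2m}(q) is perfect except for Sp_2(2), Sp_2(3) and Sp_4(2): stated as m at least 3, or m = 2 and q at least 3, or q at least 4. -/
theorem result {F : Type*} [Field F] [Fintype F] (m : ℕ) (h : 3 ≤ m ∨ (m = 2 ∧ 3 ≤ Fintype.card F) ∨ 4 ≤ Fintype.card F) : commutator (Matrix.symplecticGroup (Fin m) F) = ⊤ := by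
  classical
  rw [eq_top_iff, ← Cfsg.Agent.S0765.result m, Subgroup.closure_le]
  rintro A ⟨w, c, hA⟩
  have hAT : A = Tg w c := Subtype.ext hA
  rw [SetLike.mem_coe, hAT]
  by_cases hw : w = 0
  · have : Tg w c = 1 := by
      apply Subtype.ext
      change Cfsg.sympTransvection m w c = 1
      rw [hw, transv_zero]
    rw [this]
    exact Subgroup.one_mem _
  · rcases h with h | ⟨hm, hq⟩ | h
    · exact case_three h w hw c
    · by_cases hq4 : 4 ≤ Fintype.card F
      · exact case_torus hq4 w hw c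
      · have hq3 : Fintype.card F = 3 := by omega
        have h2 : (2 : F) ≠ 0 := by
          intro h20
          haveI : CharP F 2 := CharTwo.of_one_ne_zero_of_two_eq_zero one_ne_zero h20
          obtain ⟨n, -, hn⟩ := FiniteField.card F 2
          rw [hq3] at hn
          have hev : Even (2 ^ (n : ℕ)) := Nat.even_pow.mpr ⟨even_two, n.ne_zero⟩
          rw [← hn] at hev
          exact absurd hev (by decide)
        exact case_two h2 (by omega) w hw c
    · exact case_torus h w hw c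

end Cfsg.Agent.S0269

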