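-- Statement S0270
import Cfsg.Statements.S0270
import Mathlib
import Cfsg.Agent.S0269
import Cfsg.Agent.S0768

set_option autoImplicit false
open Cfsg

namespace Cfsg.Agent.S0270

open Matrix Module Cfsg.Agent.Lib.Helper6 Cfsg.Agent.S0269
open scoped LinearAlgebra.Projectivization Pointwise

section
variable {F : Type*} [Field F] {m : ℕ}

local notation "VV" => (Fin m ⊕ Fin m → F)
local notation "GG" => Matrix.symplecticGroup (Fin m) F

theorem transv_zero_coef (v : VV) : Cfsg.sympTransvection m v (0 : F) = 1 := by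
  unfold Cfsg.sympTransvection
  rw [zero_smul, add_zero]

/-- transvection subgroup of a vector -/
def Tsub (v : VV) : Subgroup GG where
  carrier := {g | ∃ c : F, g.1 = Cfsg.sympTransvection m v c}
  mul_mem' := by
    rintro a b ⟨c, hc⟩ ⟨d, hd⟩
    refine ⟨c + d, ?_⟩
    change a.1 * b.1 = _
    rw [hc, hd, sympTransvection_mul]
  one_mem' := ⟨0, by
    change (1 : Matrix (Fin m ⊕ Fin m) (Fin m ⊕ Fin m) F) = _
    rw [transv_zero_coef]⟩
  inv_mem' := by
    rintro a ⟨c, hc⟩
    refine ⟨-c, ?_⟩
    have h1 : a * Tg v (-c) = 1 := by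
      apply Subtype.ext
      change a.1 * Cfsg.sympTransvection m v (-c) = 1
      rw [hc, sympTransvection_mul, add_neg_cancel, transv_zero_coef]
    rw [inv_eq_of_mul_eq_one_right h1]
    rfl

theorem mem_Tsub (v : VV) (g : GG) : g ∈ Tsub v ↔ ∃ c : F, g.1 = Cfsg.sympTransvection m v c :=
  Iff.rfl

theorem transv_smul (a : F) (v : VV) (c : F) :
    Cfsg.sympTransvection m (a • v) c = Cfsg.sympTransvection m v (a ^ 2 * c) := by
  apply matrix_ext_mulVec
  intro x
  rw [sympTransvection_mulVec, sympTransvection_mulVec, sympForm_smul_right, smul_smul]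
  congr 2
  ring

theorem Tsub_smul (a : F) (ha : a ≠ 0) (v : VV) : Tsub (a • v) = Tsub v := by
  ext g
  rw [mem_Tsub, mem_Tsub]
  constructor
  · rintro ⟨c, hc⟩
    exact ⟨a ^ 2 * c, by rw [hc, transv_smul]⟩
  · rintro ⟨c, hc⟩
    refine ⟨c / a ^ 2, ?_⟩
    rw [hc, transv_smul]
    congr 1
    field_simp

theorem conj_transv (g : GG) (v : VV) (c : F) :
    g * Tg v c = Tg (g.1 *ᵥ v) c * g := by
  apply Subtype.ext
  change g.1 * Cfsg.sympTransvection m v c = Cfsg.sympTransvection m (g.1 *ᵥ v) c * g.1
  apply matrix_ext_mulVec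
  intro x
  rw [← mulVec_mulVec, ← mulVec_mulVec, sympTransvection_mulVec, sympTransvection_mulVec,
    mulVec_add, mulVec_smul, (mem_symplecticGroup_iff_preserves g.1).mp g.2]

theorem Tsub_conj (g : GG) (v : VV) : Tsub (g.1 *ᵥ v) = MulAut.conj g • Tsub v := by
  ext h
  rw [Subgroup.mem_smul_pointwise_iff_exists]
  constructor
  · rintro ⟨c, hc⟩
    refine ⟨Tg v c, ⟨c, rfl⟩, ?_⟩
    rw [MulAut.smul_def, MulAut.conj_apply, mul_inv_eq_iff_eq_mul, conj_transv]
    congr 1
    exact (Subtype.ext hc).symm
  · rintro ⟨s, ⟨c, hc⟩, hs⟩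
    refine ⟨c, ?_⟩
    rw [MulAut.smul_def, MulAut.conj_apply, mul_inv_eq_iff_eq_mul] at hs
    have hs' : s = Tg v c := Subtype.ext hc
    rw [hs', conj_transv] at hs
    have := mul_right_cancel hs
    rw [← this]
    rfl

/-- the Iwasawa structure -/
noncomputable def iwasawa : MulAction.IwasawaStructure GG (ℙ F VV) where
  T x := Tsub x.rep
  is_comm x := ⟨⟨fun a b => by
    obtain ⟨c, hc⟩ := a.2
    obtain ⟨d, hd⟩ := b.2
    apply Subtype.ext
    apply Subtype.ext
    change a.1.1 * b.1.1 = b.1.1 * a.1.1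
    rw [hc, hd, sympTransvection_mul, sympTransvection_mul, add_comm]⟩⟩
  is_conj g x := by
    induction x using Projectivization.ind with
    | h v hv =>
      rw [Projectivization.smul_mk]
      obtain ⟨a, ha⟩ := Projectivization.exists_smul_eq_mk_rep F (g • v)
        ((smul_ne_zero_iff_ne g).mpr hv)
      obtain ⟨b, hb⟩ := Projectivization.exists_smul_eq_mk_rep F v hv
      have e1 : Tsub (Projectivization.mk F (g • v) ((smul_ne_zero_iff_ne g).mpr hv)).rep =
          Tsub (g.1 *ᵥ v) := by
        rw [← ha, Units.smul_def, Tsub_smul _ a.ne_zero]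
        rfl
      have e2 : Tsub (Projectivization.mk F v hv).rep = Tsub v := by
        rw [← hb, Units.smul_def, Tsub_smul _ b.ne_zero]
      rw [e1, e2, Tsub_conj]
  is_generator := by
    rw [eq_top_iff, ← Cfsg.Agent.S0765.result m, Subgroup.closure_le]
    rintro A ⟨w, c, hA⟩
    by_cases hw : w = 0
    · have : A = 1 := by
        apply Subtype.ext
        rw [hA, hw, transv_zero]
        rfl
      rw [SetLike.mem_coe, this]
      exact Subgroup.one_mem _
    · obtain ⟨a, ha⟩ := Projectivization.exists_smul_eq_mk_rep F w hw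
      have h1 : A ∈ Tsub (Projectivization.mk F w hw).rep := by
        rw [← ha, Units.smul_def, Tsub_smul _ a.ne_zero]
        exact ⟨c, hA⟩
      exact (le_iSup (fun x : ℙ F VV => Tsub x.rep) (Projectivization.mk F w hw)) h1

theorem preprim [Finite F] (hm : 1 ≤ m) : MulAction.IsPreprimitive GG (ℙ F VV) := by
  have hprim : MulAction.IsPreprimitive ↥(Cfsg.spGL m F) (ℙ F VV) :=
    Cfsg.Agent.S0768.result (F := F) m hm
  let φ : ↥(Cfsg.spGL m F) → GG := fun g =>
    ⟨((g : Matrix.GeneralLinearGroup (Fin m ⊕ Fin m) F) : Matrix (Fin m ⊕ Fin m) (Fin m ⊕ Fin m) F),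
      (mem_symplecticGroup_iff_preserves _).mpr (fun u v => g.2 u v)⟩
  let f : ℙ F VV →ₑ[φ] ℙ F VV :=
    { toFun := id
      map_smul' := fun g x => by
        induction x using Projectivization.ind with
        | h v hv => rfl }
  exact @MulAction.IsPreprimitive.of_surjective _ _ _ _ _ _ _ _ φ f hprim Function.surjective_id

theorem central_of_fixes (g : GG) (hg : ∀ x : ℙ F VV, g • x = x) : g ∈ Subgroup.center GG := by
  obtain ⟨a, ha⟩ := LinearMap.exists_eq_smul_id_of_forall_notLinearIndependent
    (f := Matrix.mulVecLin g.1) (fun v => by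
      by_cases hv : v = 0
      · simp [hv, linearIndependent_fin2]
      · have h1 := hg (Projectivization.mk F v hv)
        rw [Projectivization.smul_mk, Projectivization.mk_eq_mk_iff'] at h1
        obtain ⟨b, hb⟩ := h1
        rw [LinearIndependent.pair_iff' hv]
        push Not
        exact ⟨b, hb⟩)
  have hscal : ∀ v, g.1 *ᵥ v = a • v := fun v => by
    have h1 := congrArg (fun L : VV →ₗ[F] VV => L v) ha
    simpa using h1
  rw [Subgroup.mem_center_iff]
  intro h
  apply Subtype.ext
  change h.1 * g.1 = g.1 * h.1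
  apply matrix_ext_mulVec
  intro x
  rw [← mulVec_mulVec, ← mulVec_mulVec, hscal, hscal, mulVec_smul]

end

/-- PSp_{2m}(q) is simple for m at least 2 and (m, q) other than (2, 2). -/
theorem result {F : Type*} [Field F] [Fintype F] (m : ℕ) (hm : 2 ≤ m) (h : m = 2 → 3 ≤ Fintype.card F) : IsSimpleGroup (Cfsg.PSp m F) := by
  classical
  have hperf : commutator (Matrix.symplecticGroup (Fin m) F) = ⊤ :=
    Cfsg.Agent.S0269.result m (by
      rcases Nat.lt_or_ge m 3 with h3 | h3
      · right; left
        exact ⟨by omega, h (by omega)⟩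
      · left; exact h3)
  haveI : MulAction.IsPreprimitive (Matrix.symplecticGroup (Fin m) F)
      (ℙ F (Fin m ⊕ Fin m → F)) := preprim (by omega)
  haveI : Nontrivial (Cfsg.PSp m F) := by
    by_contra hnt
    rw [not_nontrivial_iff_subsingleton] at hnt
    have hc : Subgroup.center (Matrix.symplecticGroup (Fin m) F) = ⊤ := by
      rw [eq_top_iff]
      intro g _
      rw [← QuotientGroup.eq_one_iff]
      exact Subsingleton.elim _ _
    rw [← commutator_eq_bot_iff_center_eq_top, hperf] at hc
    have hs : Subsingleton (Matrix.symplecticGroup (Fin m) F) :=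
      Subgroup.subsingleton_iff.mp (subsingleton_of_bot_eq_top hc.symm)
    -- a non-trivial transvection
    have hw : (Pi.single (Sum.inl ⟨0, by omega⟩) 1 : Fin m ⊕ Fin m → F) ≠ 0 := by
      intro h0
      have := congrFun h0 (Sum.inl ⟨0, by omega⟩)
      simp at this
    obtain ⟨w', hww'⟩ := Cfsg.Agent.S0768.nondeg _ hw
    have h1 : Tg (Pi.single (Sum.inl ⟨0, by omega⟩) 1 : Fin m ⊕ Fin m → F) 1 = 1 :=
      Subsingleton.elim _ _
    have h2 := congrArg (fun A : Matrix.symplecticGroup (Fin m) F => A.1 *ᵥ w') h1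
    change Cfsg.sympTransvection m _ 1 *ᵥ w' = (1 : Matrix _ _ F) *ᵥ w' at h2
    rw [sympTransvection_mulVec, one_mulVec, one_mul, sympForm_swap, hww', add_eq_left,
      neg_smul, one_smul, neg_eq_zero] at h2
    exact hw h2
  apply IsSimpleGroup.mk
  intro K hK
  have hNn : (K.comap (QuotientGroup.mk'
      (Subgroup.center (Matrix.symplecticGroup (Fin m) F)))).Normal := hK.comap _
  by_cases hfix : MulAction.fixedPoints (K.comap (QuotientGroup.mk'
      (Subgroup.center (Matrix.symplecticGroup (Fin m) F)))) (ℙ F (Fin m ⊕ Fin m → F)) = Set.univ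
  · left
    have hNZ : K.comap (QuotientGroup.mk' (Subgroup.center (Matrix.symplecticGroup (Fin m) F))) ≤
        Subgroup.center (Matrix.symplecticGroup (Fin m) F) := by
      intro g hg
      apply central_of_fixes
      intro x
      have hx : x ∈ MulAction.fixedPoints (K.comap (QuotientGroup.mk'
          (Subgroup.center (Matrix.symplecticGroup (Fin m) F)))) (ℙ F (Fin m ⊕ Fin m → F)) := by
        rw [hfix]
        exact Set.mem_univ x
      exact hx ⟨g, hg⟩
    rw [eq_bot_iff]
    intro k hk
    obtain ⟨g, rfl⟩ := QuotientGroup.mk'_surjective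
      (Subgroup.center (Matrix.symplecticGroup (Fin m) F)) k
    rw [Subgroup.mem_bot]
    exact (QuotientGroup.eq_one_iff g).mpr (hNZ hk)
  · right
    have h1 := (iwasawa (F := F) (m := m)).commutator_le _ hfix
    rw [hperf, top_le_iff] at h1
    rw [eq_top_iff]
    intro k _
    obtain ⟨g, rfl⟩ := QuotientGroup.mk'_surjective
      (Subgroup.center (Matrix.symplecticGroup (Fin m) F)) k
    have : g ∈ K.comap (QuotientGroup.mk'
        (Subgroup.center (Matrix.symplecticGroup (Fin m) F))) := by
      rw [h1]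
      exact Subgroup.mem_top g
    exact this

end Cfsg.Agent.S0270
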