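import Cfsg.Statements.S2424
import Cfsg.Agent.Lib.Helper15.QHook

set_option autoImplicit false
open scoped MatrixGroups
open Cfsg

namespace Cfsg.Agent.S2424

open Cfsg.Agent.Lib.Helper15 Cfsg.Agent.Lib.Helper15.QHook

theorem sum_sub_perm {n : ℕ} (ν : Fin n → ℕ) (κ : Equiv.Perm (Fin n))
    (h : ∀ i : Fin n, (κ i).val ≤ ν i + i.val) :
    ∑ i, (ν i + i.val - (κ i).val) = ∑ i, ν i := by
  have h1 : ∑ i, (ν i + i.val - (κ i).val) + ∑ i, (κ i).val = ∑ i, ν i + ∑ i : Fin n, i.val := by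
    rw [← Finset.sum_add_distrib, ← Finset.sum_add_distrib]
    apply Finset.sum_congr rfl
    intro i _
    exact Nat.sub_add_cancel (h i)
  have h2 : ∑ i, (κ i).val = ∑ i : Fin n, i.val := Equiv.sum_comp κ (fun i : Fin n => i.val)
  omega

theorem degree_eq {F : Type*} [Field F] [Fintype F] {n : ℕ} (ν : Fin n → ℕ) (hsum : ∑ i, ν i = n) :
    Cfsg.unipotentCharacterGL n F ν 1 = QF (Fintype.card F) n *
      (Matrix.of fun i j : Fin n => aEntry (Fintype.card F) (ν i + i.val) j.val).det := by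
  unfold Cfsg.unipotentCharacterGL
  rw [← Matrix.det_transpose, Matrix.det_apply', Finset.mul_sum]
  apply Finset.sum_congr rfl
  intro κ _
  simp only [Matrix.transpose_apply, Matrix.of_apply]
  by_cases h : ∀ i : Fin n, (κ i).val ≤ ν i + i.val
  · rw [if_pos h, fixedPointCharacter_one]
    have h1 := parabolic_index (F := F) (fun i => ν i + i.val - (κ i).val)
      ((sum_sub_perm ν κ h).trans hsum)
    have h2 : ∀ i : Fin n, aEntry (Fintype.card F) (ν i + i.val) (κ i).val =
        (QF (Fintype.card F) (ν i + i.val - (κ i).val))⁻¹ := by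
      intro i
      unfold aEntry
      rw [if_pos (h i)]
    rw [Finset.prod_congr rfl (fun i _ => h2 i), Finset.prod_inv_distrib, QF_eq_cast, ← h1]
    have h3 : (∏ i : Fin n, QF (Fintype.card F) (ν i + i.val - (κ i).val)) ≠ 0 :=
      Finset.prod_ne_zero_iff.mpr (fun i _ => QF_ne_zero _ _)
    have h4 : ((∏ i : Fin n, qFact (Fintype.card F) (ν i + i.val - (κ i).val) : ℕ) : ℂ) =
        ∏ i : Fin n, QF (Fintype.card F) (ν i + i.val - (κ i).val) := by
      rw [Nat.cast_prod]
      exact Finset.prod_congr rfl (fun i _ => (QF_eq_cast _ _).symm)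
    rw [Nat.cast_mul, h4]
    field_simp
  · rw [if_neg h]
    push_neg at h
    obtain ⟨i, hi⟩ := h
    have : aEntry (Fintype.card F) (ν i + i.val) (κ i).val = 0 := by
      unfold aEntry
      rw [if_neg (by omega)]
    rw [Finset.prod_eq_zero (Finset.mem_univ i) this, mul_zero, mul_zero]

theorem result {F : Type*} [Field F] [Fintype F] {q : ℕ} (hq : Fintype.card F = q) {n : ℕ} (ν : Fin n → ℕ) (hmono : Monotone ν) (hsum : ∑ i, ν i = n) :
    Cfsg.unipotentCharacterGL n F ν 1 * (q : ℂ) ^ (n * (n - 1) * (n - 2) / 6) *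
        ∏ i : Fin n, ∏ j ∈ Finset.range (ν i + i.val), ((∑ l ∈ Finset.range (j + 1), q ^ l : ℕ) : ℂ) =
      (∏ j ∈ Finset.range n, ((∑ l ∈ Finset.range (j + 1), q ^ l : ℕ) : ℂ)) *
        ∏ i : Fin n, ∏ j ∈ Finset.univ.filter (fun j : Fin n => i < j),
          (((∑ l ∈ Finset.range (ν j + j.val), q ^ l : ℕ) : ℂ) - ((∑ l ∈ Finset.range (ν i + i.val), q ^ l : ℕ) : ℂ)) := by
  subst hq
  have h := det_aEntry (Fintype.card F) (fun i : Fin n => ν i + i.val)
  rw [degree_eq ν hsum]
  have e : ∀ i : Fin n, Finset.univ.filter (fun j : Fin n => i < j) = Finset.Ioi i := by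
    intro i
    ext j
    simp
  simp only [e]
  change QF (Fintype.card F) n * _ * _ * ∏ i : Fin n, QF (Fintype.card F) (ν i + i.val) =
    QF (Fintype.card F) n * ∏ i : Fin n, ∏ j ∈ Finset.Ioi i,
      (Qn (Fintype.card F) (ν j + j.val) - Qn (Fintype.card F) (ν i + i.val))
  rw [← h]
  ring

end Cfsg.Agent.S2424
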