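import Mathlib
import Cfsg.Statements.S0326

set_option autoImplicit false
open Cfsg

namespace Cfsg.Agent.S0326

variable {F : Type*} [Field F]

/-- the vector of the affine point with parameters `x, y` -/
def vec (m : ℕ) (x y : F) : Fin 4 → F :=
  ![x * y + x ^ (2 ^ (m + 1) + 2) + y ^ (2 ^ (m + 1)), y, x, 1]

lemma vec_ne_zero (m : ℕ) (x y : F) : vec m x y ≠ 0 := by
  intro h
  have := congrFun h 3
  simp [vec] at this

lemma inf_ne_zero : (![1, 0, 0, 0] : Fin 4 → F) ≠ 0 := by
  intro h
  have := congrFun h 0
  simp at this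

/-- the parametrisation of the ovoid -/
noncomputable def param (m : ℕ) : Option (F × F) → Projectivization F (Fin 4 → F)
  | none => Projectivization.mk F ![1, 0, 0, 0] inf_ne_zero
  | some (x, y) => Projectivization.mk F (vec m x y) (vec_ne_zero m x y)

lemma param_injective (m : ℕ) : Function.Injective (param (F := F) m) := by
  intro a b h
  rcases a with _ | ⟨x, y⟩ <;> rcases b with _ | ⟨x', y'⟩
  · rfl
  · exfalso
    simp only [param] at h
    rw [Projectivization.mk_eq_mk_iff] at h
    obtain ⟨a, ha⟩ := h
    have := congrFun ha 3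
    simp [vec, Units.smul_def] at this
  · exfalso
    simp only [param] at h
    rw [Projectivization.mk_eq_mk_iff] at h
    obtain ⟨a, ha⟩ := h
    have := congrFun ha 3
    simp [vec, Units.smul_def] at this
  · simp only [param] at h
    rw [Projectivization.mk_eq_mk_iff] at h
    obtain ⟨a, ha⟩ := h
    have h3 := congrFun ha 3
    have h2 := congrFun ha 2
    have h1 := congrFun ha 1
    simp only [vec, Units.smul_def, Pi.smul_apply, smul_eq_mul] at h1 h2 h3
    have h3' : (a : F) = 1 := by simpa using h3
    rw [h3'] at h1 h2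
    have h1' : y' = y := by simpa using h1
    have h2' : x' = x := by simpa using h2
    rw [h1', h2']

lemma range_param (m : ℕ) : Set.range (param (F := F) m) = suzukiOvoid F m := by
  ext p
  constructor
  · rintro ⟨a, rfl⟩
    rcases a with _ | ⟨x, y⟩
    · exact ⟨_, inf_ne_zero, rfl, Or.inl rfl⟩
    · exact ⟨_, vec_ne_zero m x y, rfl, Or.inr ⟨x, y, rfl⟩⟩
  · rintro ⟨v, hv, rfl, h | ⟨x, y, h⟩⟩
    · subst h
      exact ⟨none, rfl⟩
    · subst h
      exact ⟨some (x, y), rfl⟩

/-- The Suzuki–Tits ovoid over a finite field with `q` elements has `q² + 1` points. -/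
theorem result {F : Type*} [Field F] [Fintype F] (m : ℕ) :
    Nat.card (Cfsg.suzukiOvoid F m) = Fintype.card F ^ 2 + 1 := by
  rw [← range_param m, Nat.card_range_of_injective (param_injective m)]
  simp [Nat.card_eq_fintype_card, pow_two]

end Cfsg.Agent.S0326
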