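import Cfsg.Statements.S3335
-- import your own Cfsg.Agent.* helpers here

set_option autoImplicit false
open Cfsg

namespace Cfsg.Agent.S3335

/-! ## Abstract part: coset enumeration -/

section Abstract

variable {G : Type*} [Group G]

/-- The defining relations on `y 0, …, y k`, written with explicit products. -/
structure CarRel (y : ℕ → G) (k : ℕ) : Prop where
  h1 : y 0 * y 0 * y 0 = 1
  h2 : ∀ i, 1 ≤ i → i ≤ k → y i * y i = 1
  h3 : ∀ i, i + 1 ≤ k → (y i * y (i + 1)) * (y i * y (i + 1)) * (y i * y (i + 1)) = 1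
  h4 : ∀ i j, i + 1 < j → j ≤ k → (y i * y j) * (y i * y j) = 1

theorem CarRel.mono {y : ℕ → G} {k : ℕ} (h : CarRel y (k + 1)) : CarRel y k :=
  ⟨h.h1, fun i h1 h2 => h.h2 i h1 (by omega), fun i hi => h.h3 i (by omega),
    fun i j h1 h2 => h.h4 i j h1 (by omega)⟩

theorem CarRel.inv_eq {y : ℕ → G} {k : ℕ} (h : CarRel y k) {i : ℕ} (h1 : 1 ≤ i) (h2 : i ≤ k) :
    (y i)⁻¹ = y i :=
  inv_eq_of_mul_eq_one_left (h.h2 i h1 h2)

theorem CarRel.inv_zero {y : ℕ → G} {k : ℕ} (h : CarRel y k) : (y 0)⁻¹ = y 0 * y 0 :=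
  inv_eq_of_mul_eq_one_left h.h1

theorem CarRel.comm {y : ℕ → G} {k : ℕ} (h : CarRel y k) {i j : ℕ} (h1 : 1 ≤ i)
    (h2 : i + 2 ≤ j) (h3 : j ≤ k) : y i * y j = y j * y i := by
  have e := inv_eq_of_mul_eq_one_left (h.h4 i j (by omega) h3)
  rw [mul_inv_rev, h.inv_eq h1 (by omega), h.inv_eq (by omega) h3] at e
  exact e.symm

theorem CarRel.mul_zero_inv {y : ℕ → G} {k : ℕ} (h : CarRel y k) {j : ℕ} (h2 : 2 ≤ j)
    (h3 : j ≤ k) : y j * (y 0)⁻¹ = y 0 * y j := by
  have e := inv_eq_of_mul_eq_one_left (h.h4 0 j (by omega) h3)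
  rw [mul_inv_rev, h.inv_eq (by omega) h3] at e
  exact e

theorem CarRel.mul_zero' {y : ℕ → G} {k : ℕ} (h : CarRel y k) {j : ℕ} (h2 : 2 ≤ j)
    (h3 : j ≤ k) : y j * y 0 = (y 0)⁻¹ * y j := by
  have e := h.mul_zero_inv h2 h3
  calc y j * y 0 = (y 0)⁻¹ * (y 0 * y j) * y 0 := by
        simp only [mul_assoc, inv_mul_cancel_left]
    _ = (y 0)⁻¹ * (y j * (y 0)⁻¹) * y 0 := by rw [e]
    _ = (y 0)⁻¹ * y j := by simp only [mul_assoc, inv_mul_cancel, mul_one]

theorem CarRel.braid {y : ℕ → G} {k : ℕ} (h : CarRel y k) {i : ℕ} (h1 : 1 ≤ i)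
    (h2 : i + 1 ≤ k) : y i * y (i + 1) * y i = y (i + 1) * y i * y (i + 1) := by
  have e : (y i * y (i + 1) * y i) * (y (i + 1) * y i * y (i + 1)) = 1 := by
    have := h.h3 i h2
    simpa only [mul_assoc] using this
  have e2 := eq_inv_of_mul_eq_one_left e
  rw [e2]
  simp only [mul_inv_rev, h.inv_eq h1 (by omega), h.inv_eq (by omega : 1 ≤ i + 1) h2, mul_assoc]

theorem CarRel.d4 {y : ℕ → G} {k : ℕ} (h : CarRel y k) (hk : 1 ≤ k) :
    y 1 * y 0 * y 1 = (y 0)⁻¹ * y 1 * (y 0)⁻¹ := by
  have e : (y 0 * y 1) * (y 0 * y 1) * (y 0 * y 1) = 1 := h.h3 0 (by omega)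
  have i1 := h.inv_eq (le_refl 1) hk
  calc y 1 * y 0 * y 1
      = (y 0)⁻¹ * ((y 0 * y 1) * (y 0 * y 1) * (y 0 * y 1)) * (y 1)⁻¹ * (y 0)⁻¹ := by
        simp only [mul_assoc, inv_mul_cancel_left, mul_inv_cancel_left, mul_inv_cancel, mul_one]
    _ = (y 0)⁻¹ * y 1 * (y 0)⁻¹ := by rw [e, mul_one, i1]

theorem CarRel.d4' {y : ℕ → G} {k : ℕ} (h : CarRel y k) (hk : 1 ≤ k) :
    y 1 * (y 0)⁻¹ * y 1 = y 0 * y 1 * y 0 := by
  have e : (y 1 * y 0 * y 1)⁻¹ = ((y 0)⁻¹ * y 1 * (y 0)⁻¹)⁻¹ := by rw [h.d4 hk]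
  have i1 := h.inv_eq (le_refl 1) hk
  simp only [mul_inv_rev, inv_inv, i1, mul_assoc] at e
  simpa only [mul_assoc] using e

/-- `D y k j = y k * y (k-1) * ⋯ * y (k-j+1)`. -/
def D (y : ℕ → G) (k : ℕ) : ℕ → G
  | 0 => 1
  | j + 1 => D y k j * y (k - j)

theorem D_zero (y : ℕ → G) (k : ℕ) : D y k 0 = 1 := rfl

theorem D_succ (y : ℕ → G) (k j : ℕ) : D y k (j + 1) = D y k j * y (k - j) := rfl

theorem D_pred (y : ℕ → G) (k : ℕ) {j : ℕ} (hj : 1 ≤ j) :
    D y k j = D y k (j - 1) * y (k + 1 - j) := by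
  obtain ⟨j', rfl⟩ : ∃ j', j = j' + 1 := ⟨j - 1, by omega⟩
  rw [D_succ, Nat.add_sub_cancel, show k + 1 - (j' + 1) = k - j' by omega]

theorem D_comm {y : ℕ → G} {k : ℕ} (h : CarRel y k) (i : ℕ) (h1 : 1 ≤ i) :
    ∀ j, i + j + 1 ≤ k → D y k j * y i = y i * D y k j := by
  intro j
  induction j with
  | zero => intro _; rw [D_zero, one_mul, mul_one]
  | succ j ih =>
    intro hj
    have hc : y (k - j) * y i = y i * y (k - j) := (h.comm h1 (by omega) (by omega)).symm
    calc D y k (j + 1) * y i = D y k j * (y (k - j) * y i) := by rw [D_succ, mul_assoc]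
      _ = D y k j * (y i * y (k - j)) := by rw [hc]
      _ = (D y k j * y i) * y (k - j) := by rw [mul_assoc]
      _ = (y i * D y k j) * y (k - j) := by rw [ih (by omega)]
      _ = y i * D y k (j + 1) := by rw [D_succ, mul_assoc]

theorem D_zero_conj {y : ℕ → G} {k : ℕ} (h : CarRel y k) :
    ∀ j, j + 1 ≤ k → ∀ z, (z = y 0 ∨ z = (y 0)⁻¹) →
      ∃ w, (w = y 0 ∨ w = (y 0)⁻¹) ∧ D y k j * z = w * D y k j := by
  intro j
  induction j with
  | zero => intro _ z hz; exact ⟨z, hz, by rw [D_zero, one_mul, mul_one]⟩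
  | succ j ih =>
    intro hj z hz
    have hkj2 : 2 ≤ k - j := by omega
    have hkjk : k - j ≤ k := by omega
    rcases hz with rfl | rfl
    · obtain ⟨w, hw, e⟩ := ih (by omega) (y 0)⁻¹ (Or.inr rfl)
      refine ⟨w, hw, ?_⟩
      calc D y k (j + 1) * y 0 = D y k j * (y (k - j) * y 0) := by rw [D_succ, mul_assoc]
        _ = D y k j * ((y 0)⁻¹ * y (k - j)) := by rw [h.mul_zero' hkj2 hkjk]
        _ = (D y k j * (y 0)⁻¹) * y (k - j) := by rw [mul_assoc]
        _ = (w * D y k j) * y (k - j) := by rw [e]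
        _ = w * D y k (j + 1) := by rw [D_succ, mul_assoc]
    · obtain ⟨w, hw, e⟩ := ih (by omega) (y 0) (Or.inl rfl)
      refine ⟨w, hw, ?_⟩
      calc D y k (j + 1) * (y 0)⁻¹ = D y k j * (y (k - j) * (y 0)⁻¹) := by
            rw [D_succ, mul_assoc]
        _ = D y k j * (y 0 * y (k - j)) := by rw [h.mul_zero_inv hkj2 hkjk]
        _ = (D y k j * y 0) * y (k - j) := by rw [mul_assoc]
        _ = (w * D y k j) * y (k - j) := by rw [e]
        _ = w * D y k (j + 1) := by rw [D_succ, mul_assoc]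

theorem D_shift {y : ℕ → G} {k : ℕ} (h : CarRel y k) (i : ℕ) (hi : i ≤ k) :
    ∀ j, j ≤ k → k + 2 ≤ i + j → D y k j * y i = y (i - 1) * D y k j := by
  intro j
  induction j with
  | zero => intro _ h2; omega
  | succ j ih =>
    intro hj h2
    rcases Nat.lt_or_ge (i + j) (k + 2) with hlt | hge
    · obtain ⟨j', rfl⟩ : ∃ j', j = j' + 1 := ⟨j - 1, by omega⟩
      have e1 : k - j' = i := by omega
      have e2 : k - (j' + 1) = i - 1 := by omega
      have hb : y (i - 1) * y i * y (i - 1) = y i * y (i - 1) * y i := by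
        have := h.braid (i := i - 1) (by omega) (by omega)
        rwa [show i - 1 + 1 = i by omega] at this
      have hc := D_comm h (i - 1) (by omega) j' (by omega)
      calc D y k (j' + 1 + 1) * y i = D y k j' * (y i * y (i - 1) * y i) := by
            rw [D_succ, D_succ, e1, e2]; simp only [mul_assoc]
        _ = D y k j' * (y (i - 1) * y i * y (i - 1)) := by rw [hb]
        _ = (D y k j' * y (i - 1)) * y i * y (i - 1) := by simp only [mul_assoc]
        _ = (y (i - 1) * D y k j') * y i * y (i - 1) := by rw [hc]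
        _ = y (i - 1) * D y k (j' + 1 + 1) := by
            rw [D_succ, D_succ, e1, e2]; simp only [mul_assoc]
    · have hc : y (k - j) * y i = y i * y (k - j) := h.comm (by omega) (by omega) hi
      calc D y k (j + 1) * y i = D y k j * (y (k - j) * y i) := by rw [D_succ, mul_assoc]
        _ = D y k j * (y i * y (k - j)) := by rw [hc]
        _ = (D y k j * y i) * y (k - j) := by rw [mul_assoc]
        _ = (y (i - 1) * D y k j) * y (k - j) := by rw [ih (by omega) hge]
        _ = y (i - 1) * D y k (j + 1) := by rw [D_succ, mul_assoc]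

/-- The `k + 3` coset representatives. -/
def IsRep (y : ℕ → G) (k : ℕ) (r : G) : Prop :=
  (∃ j, j ≤ k + 1 ∧ r = D y k j) ∨ r = D y k (k + 1) * y 0

theorem rep_mul {y : ℕ → G} {k : ℕ} (h : CarRel y k) (hk : 1 ≤ k) (H : Subgroup G)
    (hH : ∀ i, i < k → y i ∈ H) {r : G} (hr : IsRep y k r) {i : ℕ} (hi : i ≤ k) :
    ∃ a ∈ H, ∃ r', IsRep y k r' ∧ r * y i = a * r' := by
  have h0H : y 0 ∈ H := hH 0 (by omega)
  have h0H' : (y 0)⁻¹ ∈ H := H.inv_mem h0H
  have hwH : ∀ w, (w = y 0 ∨ w = (y 0)⁻¹) → w ∈ H := by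
    rintro w (rfl | rfl) <;> assumption
  have hDk1 : D y k (k + 1) = D y k k * y 0 := by rw [D_succ, Nat.sub_self]
  have hDk : D y k k = D y k (k - 1) * y 1 := by
    have := D_pred y k hk
    rwa [show k + 1 - k = 1 by omega] at this
  have he' : D y k k * (y 0)⁻¹ = D y k (k + 1) * y 0 := by
    rw [hDk1, h.inv_zero, mul_assoc]
  rcases hr with ⟨j, hj, rfl⟩ | rfl
  · -- r = D j
    rcases Nat.lt_or_ge (i + j) k with hlt | hge
    · -- i + j < k
      rcases Nat.eq_zero_or_pos i with rfl | hpos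
      · obtain ⟨w, hw, e⟩ := D_zero_conj h j (by omega) (y 0) (Or.inl rfl)
        exact ⟨w, hwH w hw, D y k j, Or.inl ⟨j, hj, rfl⟩, e⟩
      · exact ⟨y i, hH i (by omega), D y k j, Or.inl ⟨j, hj, rfl⟩,
          D_comm h i hpos j (by omega)⟩
    · rcases Nat.eq_or_lt_of_le hge with heq | hgt
      · -- i + j = k
        refine ⟨1, H.one_mem, D y k (j + 1), Or.inl ⟨j + 1, by omega, rfl⟩, ?_⟩
        rw [one_mul, D_succ, show k - j = i by omega]
      · rcases Nat.lt_or_ge (i + j) (k + 2) with hlt2 | hge2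
        · -- i + j = k + 1
          rcases Nat.eq_zero_or_pos i with rfl | hpos
          · obtain rfl : j = k + 1 := by omega
            exact ⟨1, H.one_mem, D y k (k + 1) * y 0, Or.inr rfl, by rw [one_mul]⟩
          · refine ⟨1, H.one_mem, D y k (j - 1), Or.inl ⟨j - 1, by omega, rfl⟩, ?_⟩
            rw [one_mul, D_pred y k (by omega : 1 ≤ j), show k + 1 - j = i by omega,
              mul_assoc, h.h2 i hpos hi, mul_one]
        · -- i + j ≥ k + 2
          rcases Nat.lt_or_ge j (k + 1) with hjk | hjk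
          · exact ⟨y (i - 1), hH (i - 1) (by omega), D y k j, Or.inl ⟨j, hj, rfl⟩,
              D_shift h i hi j (by omega) hge2⟩
          · obtain rfl : j = k + 1 := by omega
            rcases Nat.lt_or_ge i 2 with hi2 | hi2
            · obtain rfl : i = 1 := by omega
              obtain ⟨w, hw, e⟩ := D_zero_conj h (k - 1) (by omega) (y 0)⁻¹ (Or.inr rfl)
              refine ⟨w, hwH w hw, D y k (k + 1) * y 0, Or.inr rfl, ?_⟩
              calc D y k (k + 1) * y 1 = D y k (k - 1) * (y 1 * y 0 * y 1) := by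
                    rw [hDk1, hDk]; simp only [mul_assoc]
                _ = D y k (k - 1) * ((y 0)⁻¹ * y 1 * (y 0)⁻¹) := by rw [h.d4 hk]
                _ = (D y k (k - 1) * (y 0)⁻¹) * y 1 * (y 0)⁻¹ := by simp only [mul_assoc]
                _ = (w * D y k (k - 1)) * y 1 * (y 0)⁻¹ := by rw [e]
                _ = w * (D y k (k - 1) * y 1) * (y 0)⁻¹ := by simp only [mul_assoc]
                _ = w * D y k k * (y 0)⁻¹ := by rw [← hDk]
                _ = w * (D y k k * (y 0)⁻¹) := by rw [mul_assoc]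
                _ = w * (D y k (k + 1) * y 0) := by rw [he']
            · have hs := D_shift h i hi k le_rfl (by omega)
              have hz : y 0 * y i = y i * (y 0)⁻¹ := (h.mul_zero_inv hi2 hi).symm
              refine ⟨y (i - 1), hH (i - 1) (by omega), D y k (k + 1) * y 0, Or.inr rfl, ?_⟩
              calc D y k (k + 1) * y i = D y k k * (y 0 * y i) := by rw [hDk1, mul_assoc]
                _ = D y k k * (y i * (y 0)⁻¹) := by rw [hz]
                _ = (D y k k * y i) * (y 0)⁻¹ := by rw [mul_assoc]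
                _ = (y (i - 1) * D y k k) * (y 0)⁻¹ := by rw [hs]
                _ = y (i - 1) * (D y k k * (y 0)⁻¹) := by rw [mul_assoc]
                _ = y (i - 1) * (D y k (k + 1) * y 0) := by rw [he']
  · -- r = D (k+1) * y 0
    rcases Nat.eq_zero_or_pos i with rfl | hpos
    · refine ⟨1, H.one_mem, D y k k, Or.inl ⟨k, by omega, rfl⟩, ?_⟩
      calc D y k (k + 1) * y 0 * y 0 = D y k k * (y 0 * y 0 * y 0) := by
            rw [hDk1]; simp only [mul_assoc]
        _ = D y k k := by rw [h.h1, mul_one]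
        _ = 1 * D y k k := (one_mul _).symm
    · rcases Nat.lt_or_ge i 2 with hi2 | hi2
      · obtain rfl : i = 1 := by omega
        obtain ⟨w, hw, e⟩ := D_zero_conj h (k - 1) (by omega) (y 0) (Or.inl rfl)
        refine ⟨w, hwH w hw, D y k (k + 1), Or.inl ⟨k + 1, le_rfl, rfl⟩, ?_⟩
        calc D y k (k + 1) * y 0 * y 1 = D y k k * (y 0)⁻¹ * y 1 := by rw [← he']
          _ = D y k (k - 1) * (y 1 * (y 0)⁻¹ * y 1) := by rw [hDk]; simp only [mul_assoc]
          _ = D y k (k - 1) * (y 0 * y 1 * y 0) := by rw [h.d4' hk]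
          _ = (D y k (k - 1) * y 0) * y 1 * y 0 := by simp only [mul_assoc]
          _ = (w * D y k (k - 1)) * y 1 * y 0 := by rw [e]
          _ = w * (D y k (k - 1) * y 1) * y 0 := by simp only [mul_assoc]
          _ = w * D y k k * y 0 := by rw [← hDk]
          _ = w * (D y k k * y 0) := by rw [mul_assoc]
          _ = w * D y k (k + 1) := by rw [← hDk1]
      · have hs := D_shift h i hi k le_rfl (by omega)
        have hz : (y 0)⁻¹ * y i = y i * y 0 := (h.mul_zero' hi2 hi).symm
        refine ⟨y (i - 1), hH (i - 1) (by omega), D y k (k + 1),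
          Or.inl ⟨k + 1, le_rfl, rfl⟩, ?_⟩
        calc D y k (k + 1) * y 0 * y i = D y k k * (y 0)⁻¹ * y i := by rw [← he']
          _ = D y k k * ((y 0)⁻¹ * y i) := by rw [mul_assoc]
          _ = D y k k * (y i * y 0) := by rw [hz]
          _ = (D y k k * y i) * y 0 := by rw [mul_assoc]
          _ = (y (i - 1) * D y k k) * y 0 := by rw [hs]
          _ = y (i - 1) * (D y k k * y 0) := by rw [mul_assoc]
          _ = y (i - 1) * D y k (k + 1) := by rw [← hDk1]

theorem closed_of_gens (S : Set G)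
    (hgen : ∀ K : Subgroup G, (∀ s ∈ S, s ∈ K) → ∀ g, g ∈ K)
    (U : Set G) (h1 : (1 : G) ∈ U)
    (hmul : ∀ s ∈ S, ∀ u ∈ U, u * s ∈ U) (hinv : ∀ s ∈ S, ∀ u ∈ U, u * s⁻¹ ∈ U) :
    ∀ g, g ∈ U := by
  let K : Subgroup G :=
    { carrier := {g | ∀ u, u ∈ U ↔ u * g ∈ U}
      one_mem' := by
        show ∀ u, u ∈ U ↔ u * 1 ∈ U
        intro u; rw [mul_one]
      mul_mem' := by
        intro a b ha hb
        have ha' : ∀ u, u ∈ U ↔ u * a ∈ U := ha
        have hb' : ∀ u, u ∈ U ↔ u * b ∈ U := hb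
        show ∀ u, u ∈ U ↔ u * (a * b) ∈ U
        intro u
        rw [← mul_assoc]
        exact (ha' u).trans (hb' (u * a))
      inv_mem' := by
        intro a ha
        have ha' : ∀ u, u ∈ U ↔ u * a ∈ U := ha
        show ∀ u, u ∈ U ↔ u * a⁻¹ ∈ U
        intro u
        have := ha' (u * a⁻¹)
        rw [inv_mul_cancel_right] at this
        exact this.symm }
  have hK : ∀ s ∈ S, s ∈ K := by
    intro s hs
    show ∀ u, u ∈ U ↔ u * s ∈ U
    intro u
    constructor
    · exact hmul s hs u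
    · intro hu
      have := hinv s hs _ hu
      rwa [mul_inv_cancel_right] at this
  intro g
  have hg : ∀ u, u ∈ U ↔ u * g ∈ U := hgen K hK g
  have := (hg 1).mp h1
  rwa [one_mul] at this

theorem cover {y : ℕ → G} {k : ℕ} (h : CarRel y k) (hk : 1 ≤ k) (H : Subgroup G)
    (hH : ∀ i, i < k → y i ∈ H)
    (hgen : ∀ K : Subgroup G, (∀ i, i ≤ k → y i ∈ K) → ∀ g, g ∈ K) :
    ∀ g : G, ∃ a ∈ H, ∃ r, IsRep y k r ∧ g = a * r := by
  have hmul : ∀ i, i ≤ k → ∀ u : G, (∃ a ∈ H, ∃ r, IsRep y k r ∧ u = a * r) →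
      ∃ a ∈ H, ∃ r, IsRep y k r ∧ u * y i = a * r := by
    rintro i hi u ⟨a, ha, r, hr, rfl⟩
    obtain ⟨a', ha', r', hr', e⟩ := rep_mul h hk H hH hr hi
    refine ⟨a * a', H.mul_mem ha ha', r', hr', ?_⟩
    calc a * r * y i = a * (r * y i) := by rw [mul_assoc]
      _ = a * (a' * r') := by rw [e]
      _ = a * a' * r' := by rw [mul_assoc]
  have key := closed_of_gens {g | ∃ i, i ≤ k ∧ g = y i}
    (fun K hK => hgen K (fun i hi => hK (y i) ⟨i, hi, rfl⟩))
    {g | ∃ a ∈ H, ∃ r, IsRep y k r ∧ g = a * r}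
    ⟨1, H.one_mem, 1, Or.inl ⟨0, Nat.zero_le _, rfl⟩, (mul_one 1).symm⟩
    (by
      rintro s ⟨i, hi, rfl⟩ u hu
      exact hmul i hi u hu)
    (by
      rintro s ⟨i, hi, rfl⟩ u hu
      show ∃ a ∈ H, ∃ r, IsRep y k r ∧ u * (y i)⁻¹ = a * r
      rcases Nat.eq_zero_or_pos i with rfl | hpos
      · rw [h.inv_zero, ← mul_assoc]
        exact hmul 0 hi _ (hmul 0 hi u hu)
      · rw [h.inv_eq hpos hi]
        exact hmul i hi u hu)
  exact fun g => key g

theorem card_le {y : ℕ → G} {k : ℕ} (h : CarRel y k) (hk : 1 ≤ k) (H : Subgroup G) [Finite H]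
    (hH : ∀ i, i < k → y i ∈ H)
    (hgen : ∀ K : Subgroup G, (∀ i, i ≤ k → y i ∈ K) → ∀ g, g ∈ K) :
    Finite G ∧ Nat.card G ≤ Nat.card H * (k + 3) := by
  let f : H × Fin (k + 3) → G := fun p =>
    (p.1 : G) * (if p.2.val ≤ k + 1 then D y k p.2.val else D y k (k + 1) * y 0)
  have hf : Function.Surjective f := by
    intro g
    obtain ⟨a, ha, r, hr, rfl⟩ := cover h hk H hH hgen g
    rcases hr with ⟨j, hj, rfl⟩ | rfl
    · refine ⟨(⟨a, ha⟩, ⟨j, by omega⟩), ?_⟩
      show a * (if j ≤ k + 1 then D y k j else D y k (k + 1) * y 0) = a * D y k j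
      rw [if_pos hj]
    · refine ⟨(⟨a, ha⟩, ⟨k + 2, by omega⟩), ?_⟩
      show a * (if k + 2 ≤ k + 1 then D y k (k + 2) else D y k (k + 1) * y 0)
        = a * (D y k (k + 1) * y 0)
      rw [if_neg (by omega)]
  have hfin : Finite G := Finite.of_surjective f hf
  refine ⟨hfin, ?_⟩
  have := Nat.card_le_card_of_surjective f hf
  rwa [Nat.card_prod, Nat.card_fin] at this

end Abstract

/-! ## The presented group -/

/-- The relators, with the text of the statement. -/
def rels (k : ℕ) : Set (FreeGroup (Fin k)) :=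
  {g : FreeGroup (Fin k) | ∃ i : Fin k, i.val = 0 ∧ g = FreeGroup.of i ^ 3} ∪
   {g | ∃ i : Fin k, 1 ≤ i.val ∧ g = FreeGroup.of i ^ 2} ∪
   {g | ∃ i j : Fin k, j.val = i.val + 1 ∧ g = (FreeGroup.of i * FreeGroup.of j) ^ 3} ∪
   {g | ∃ i j : Fin k, i.val + 1 < j.val ∧ g = (FreeGroup.of i * FreeGroup.of j) ^ 2}

abbrev CG (k : ℕ) : Type := PresentedGroup (rels k)

theorem of_cube (k : ℕ) (i : Fin k) (hi : i.val = 0) :
    (PresentedGroup.of i : CG k) * PresentedGroup.of i * PresentedGroup.of i = 1 := by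
  have hm : FreeGroup.of i ^ 3 ∈ rels k := by
    unfold rels
    exact Set.mem_union_left _ (Set.mem_union_left _ (Set.mem_union_left _ ⟨i, hi, rfl⟩))
  have := PresentedGroup.one_of_mem hm
  rw [map_pow, pow_three'] at this
  exact this

theorem of_sq (k : ℕ) (i : Fin k) (hi : 1 ≤ i.val) :
    (PresentedGroup.of i : CG k) * PresentedGroup.of i = 1 := by
  have hm : FreeGroup.of i ^ 2 ∈ rels k := by
    unfold rels
    exact Set.mem_union_left _ (Set.mem_union_left _ (Set.mem_union_right _ ⟨i, hi, rfl⟩))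
  have := PresentedGroup.one_of_mem hm
  rw [map_pow, pow_two] at this
  exact this

theorem of_mul_cube (k : ℕ) (i j : Fin k) (hij : j.val = i.val + 1) :
    ((PresentedGroup.of i : CG k) * PresentedGroup.of j) *
      (PresentedGroup.of i * PresentedGroup.of j) *
      (PresentedGroup.of i * PresentedGroup.of j) = 1 := by
  have hm : (FreeGroup.of i * FreeGroup.of j) ^ 3 ∈ rels k := by
    unfold rels
    exact Set.mem_union_left _ (Set.mem_union_right _ ⟨i, j, hij, rfl⟩)
  have := PresentedGroup.one_of_mem hm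
  rw [map_pow, map_mul, pow_three'] at this
  exact this

theorem of_mul_sq (k : ℕ) (i j : Fin k) (hij : i.val + 1 < j.val) :
    ((PresentedGroup.of i : CG k) * PresentedGroup.of j) *
      (PresentedGroup.of i * PresentedGroup.of j) = 1 := by
  have hm : (FreeGroup.of i * FreeGroup.of j) ^ 2 ∈ rels k := by
    unfold rels
    exact Set.mem_union_right _ ⟨i, j, hij, rfl⟩
  have := PresentedGroup.one_of_mem hm
  rw [map_pow, map_mul, pow_two] at this
  exact this

/-- Generators indexed by `ℕ` (junk value `1` out of range). -/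
noncomputable def gen (k : ℕ) (i : ℕ) : CG k :=
  if h : i < k then PresentedGroup.of ⟨i, h⟩ else 1

theorem gen_lt (k i : ℕ) (h : i < k) : gen k i = PresentedGroup.of ⟨i, h⟩ := by
  unfold gen; rw [dif_pos h]

theorem gen_of (k : ℕ) (i : Fin k) : gen k i.val = PresentedGroup.of i := by
  rw [gen_lt k i.val i.isLt]

theorem carRel_gen (m : ℕ) : CarRel (gen (m + 1)) m where
  h1 := by
    rw [gen_lt (m + 1) 0 (by omega)]
    exact of_cube (m + 1) ⟨0, by omega⟩ rfl
  h2 := by
    intro i h1 h2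
    rw [gen_lt (m + 1) i (by omega)]
    exact of_sq (m + 1) ⟨i, by omega⟩ h1
  h3 := by
    intro i hi
    rw [gen_lt (m + 1) i (by omega), gen_lt (m + 1) (i + 1) (by omega)]
    exact of_mul_cube (m + 1) ⟨i, by omega⟩ ⟨i + 1, by omega⟩ rfl
  h4 := by
    intro i j h1 h2
    rw [gen_lt (m + 1) i (by omega), gen_lt (m + 1) j (by omega)]
    exact of_mul_sq (m + 1) ⟨i, by omega⟩ ⟨j, by omega⟩ h1

theorem lift_rels {G : Type*} [Group G] {y : ℕ → G} {m : ℕ} (h : CarRel y m) :
    ∀ r ∈ rels (m + 1), FreeGroup.lift (fun i : Fin (m + 1) => y i.val) r = 1 := by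
  intro r hr
  unfold rels at hr
  rcases hr with ((⟨i, hi, rfl⟩ | ⟨i, hi, rfl⟩) | ⟨i, j, hij, rfl⟩) | ⟨i, j, hij, rfl⟩
  · rw [map_pow, FreeGroup.lift_apply_of, pow_three']
    show y i.val * y i.val * y i.val = 1
    rw [hi]; exact h.h1
  · rw [map_pow, FreeGroup.lift_apply_of, pow_two]
    exact h.h2 i.val hi (by omega)
  · rw [map_pow, map_mul, FreeGroup.lift_apply_of, FreeGroup.lift_apply_of, pow_three']
    show (y i.val * y j.val) * (y i.val * y j.val) * (y i.val * y j.val) = 1
    rw [hij]; exact h.h3 i.val (by omega)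
  · rw [map_pow, map_mul, FreeGroup.lift_apply_of, FreeGroup.lift_apply_of, pow_two]
    exact h.h4 i.val j.val hij (by omega)

theorem carRel_gen' (m : ℕ) : CarRel (gen (m + 2)) (m + 1) := carRel_gen (m + 1)

/-- The natural map from the group on `m+1` generators to the group on `m+2` generators. -/
noncomputable def iota (m : ℕ) : CG (m + 1) →* CG (m + 2) :=
  PresentedGroup.toGroup (f := fun i : Fin (m + 1) => gen (m + 2) i.val)
    (lift_rels (carRel_gen' m).mono)

theorem iota_of (m : ℕ) (i : Fin (m + 1)) :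
    iota m (PresentedGroup.of i) = gen (m + 2) i.val :=
  PresentedGroup.toGroup.of _

theorem base_card : Finite (CG 1) ∧ 2 * Nat.card (CG 1) ≤ (0 + 3).factorial := by
  obtain ⟨x, hx⟩ : ∃ x : CG 1, x = PresentedGroup.of (⟨0, by omega⟩ : Fin 1) := ⟨_, rfl⟩
  have hx3 : x * x * x = 1 := by
    rw [hx]; exact of_cube 1 ⟨0, by omega⟩ rfl
  have hxinv : x⁻¹ = x * x := inv_eq_of_mul_eq_one_left hx3
  have hall : ∀ g : CG 1, g ∈ ({g | g = 1 ∨ g = x ∨ g = x * x} : Set (CG 1)) := by
    apply closed_of_gens {x}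
    · intro K hK g
      refine PresentedGroup.generated_by _ K (fun j => ?_) g
      have hj : j = ⟨0, by omega⟩ := Fin.ext (by omega)
      rw [hj, ← hx]
      exact hK x (Set.mem_singleton x)
    · exact Or.inl rfl
    · rintro s hs u hu
      rw [Set.mem_singleton_iff] at hs
      rw [hs]
      rcases hu with rfl | rfl | rfl
      · right; left; rw [one_mul]
      · right; right; rfl
      · left; exact hx3
    · rintro s hs u hu
      rw [Set.mem_singleton_iff] at hs
      rw [hs, hxinv]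
      rcases hu with rfl | rfl | rfl
      · right; right; rw [one_mul]
      · left; rw [← mul_assoc]; exact hx3
      · right; left; rw [← mul_assoc, hx3, one_mul]
  let f : Fin 3 → CG 1 := fun t => if t.val = 0 then 1 else if t.val = 1 then x else x * x
  have hf : Function.Surjective f := by
    intro g
    rcases hall g with rfl | rfl | rfl
    · exact ⟨⟨0, by omega⟩, rfl⟩
    · exact ⟨⟨1, by omega⟩, rfl⟩
    · exact ⟨⟨2, by omega⟩, rfl⟩
  have hfin : Finite (CG 1) := Finite.of_surjective f hf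
  refine ⟨hfin, ?_⟩
  have h3 := Nat.card_le_card_of_surjective f hf
  rw [Nat.card_fin] at h3
  have h6 : (0 + 3).factorial = 6 := by decide
  omega

theorem step_card (m : ℕ)
    (ih : Finite (CG (m + 1)) ∧ 2 * Nat.card (CG (m + 1)) ≤ (m + 3).factorial) :
    Finite (CG (m + 2)) ∧ 2 * Nat.card (CG (m + 2)) ≤ (m + 4).factorial := by
  obtain ⟨hfin, hcard⟩ := ih
  haveI : Finite ((iota m).range) :=
    Finite.of_surjective (iota m).rangeRestrict (iota m).rangeRestrict_surjective
  have hHcard : Nat.card (iota m).range ≤ Nat.card (CG (m + 1)) :=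
    Nat.card_le_card_of_surjective (iota m).rangeRestrict (iota m).rangeRestrict_surjective
  have hH : ∀ i, i < m + 1 → gen (m + 2) i ∈ (iota m).range := by
    intro i hi
    exact ⟨PresentedGroup.of ⟨i, hi⟩, iota_of m ⟨i, hi⟩⟩
  have hgen : ∀ K : Subgroup (CG (m + 2)), (∀ i, i ≤ m + 1 → gen (m + 2) i ∈ K) →
      ∀ g, g ∈ K := by
    intro K hK g
    refine PresentedGroup.generated_by _ K (fun j => ?_) g
    have := hK j.val (by omega)
    rwa [gen_of] at this
  obtain ⟨hfin', hle⟩ := card_le (carRel_gen' m) (by omega) (iota m).range hH hgen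
  refine ⟨hfin', ?_⟩
  have e : (m + 4).factorial = (m + 4) * (m + 3).factorial := Nat.factorial_succ (m + 3)
  rw [e]
  calc 2 * Nat.card (CG (m + 2)) ≤ 2 * (Nat.card (iota m).range * (m + 1 + 3)) :=
        Nat.mul_le_mul_left _ hle
    _ ≤ 2 * (Nat.card (CG (m + 1)) * (m + 1 + 3)) :=
        Nat.mul_le_mul_left _ (Nat.mul_le_mul_right _ hHcard)
    _ = (m + 4) * (2 * Nat.card (CG (m + 1))) := by ring
    _ ≤ (m + 4) * (m + 3).factorial := Nat.mul_le_mul_left _ hcard

theorem main_card : ∀ m : ℕ,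
    Finite (CG (m + 1)) ∧ 2 * Nat.card (CG (m + 1)) ≤ (m + 3).factorial := by
  intro m
  induction m with
  | zero => exact base_card
  | succ m ih => exact step_card m ih

/-! ## Permutations -/

/-- Adjacent transpositions `(a a+1)` of `Fin (m+3)`, junk value `1` out of range. -/
def T (m a : ℕ) : Equiv.Perm (Fin (m + 3)) :=
  if h : a + 1 < m + 3 then Equiv.swap ⟨a, by omega⟩ ⟨a + 1, h⟩ else 1

theorem T_pos (m a : ℕ) (h : a + 1 < m + 3) :
    T m a = Equiv.swap ⟨a, by omega⟩ ⟨a + 1, h⟩ := by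
  unfold T; rw [dif_pos h]

theorem T_neg (m a : ℕ) (h : ¬ a + 1 < m + 3) : T m a = 1 := by
  unfold T; rw [dif_neg h]

theorem T_sq (m a : ℕ) : T m a * T m a = 1 := by
  by_cases h : a + 1 < m + 3
  · rw [T_pos m a h, Equiv.swap_mul_self]
  · rw [T_neg m a h, mul_one]

theorem T_inv (m a : ℕ) : (T m a)⁻¹ = T m a := inv_eq_of_mul_eq_one_left (T_sq m a)

theorem T_comm (m a b : ℕ) (hab : a + 2 ≤ b) : T m a * T m b = T m b * T m a := by
  by_cases h : b + 1 < m + 3
  · have ha : a + 1 < m + 3 := by omega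
    rw [T_pos m a ha, T_pos m b h]
    apply Equiv.Perm.Disjoint.commute
    apply Equiv.Perm.disjoint_swap_swap
    simp [Fin.ext_iff] <;> omega
  · rw [T_neg m b h, mul_one, one_mul]

theorem swap_braid {α : Type*} [DecidableEq α] {x y z : α} (hxy : x ≠ y) (hxz : x ≠ z)
    (hyz : y ≠ z) :
    Equiv.swap x y * Equiv.swap y z * Equiv.swap x y =
      Equiv.swap y z * Equiv.swap x y * Equiv.swap y z := by
  rw [Equiv.swap_mul_swap_mul_swap hxy hxz]
  have := Equiv.swap_mul_swap_mul_swap (x := z) (y := y) (z := x) hyz.symm hxz.symm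
  rw [Equiv.swap_comm y x, Equiv.swap_comm z y] at this
  rw [this, Equiv.swap_comm]

theorem T_braid (m a : ℕ) (h : a + 2 < m + 3) :
    T m a * T m (a + 1) * T m a = T m (a + 1) * T m a * T m (a + 1) := by
  rw [T_pos m a (by omega), T_pos m (a + 1) (by omega)]
  refine swap_braid (Fin.ne_of_val_ne ?_) (Fin.ne_of_val_ne ?_) (Fin.ne_of_val_ne ?_)
  · show a ≠ a + 1
    omega
  · show a ≠ a + 1 + 1
    omega
  · show a + 1 ≠ a + 1 + 1
    omega

theorem T_sign (m a : ℕ) (h : a + 1 < m + 3) : Equiv.Perm.sign (T m a) = -1 := by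
  rw [T_pos m a h]
  exact Equiv.Perm.sign_swap (Fin.ne_of_val_ne (by show a ≠ a + 1; omega))

section Coxeter

variable {P : Type*} [Group P]

theorem cube_of_braid {a b : P} (ha : a * a = 1) (hb : b * b = 1)
    (hab : a * b * a = b * a * b) : (a * b) * (a * b) * (a * b) = 1 := by
  calc (a * b) * (a * b) * (a * b) = (a * b * a) * (b * a * b) := by simp only [mul_assoc]
    _ = (b * a * b) * (b * a * b) := by rw [hab]
    _ = b * a * (b * b) * a * b := by simp only [mul_assoc]
    _ = b * (a * a) * b := by rw [hb, mul_one]; simp only [mul_assoc]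
    _ = 1 := by rw [ha, mul_one, hb]

theorem sq_of_comm {a b : P} (ha : a * a = 1) (hb : b * b = 1) (hab : a * b = b * a) :
    (a * b) * (a * b) = 1 := by
  calc (a * b) * (a * b) = a * (b * a) * b := by simp only [mul_assoc]
    _ = a * (a * b) * b := by rw [← hab]
    _ = (a * a) * (b * b) := by simp only [mul_assoc]
    _ = 1 := by rw [ha, hb, mul_one]

theorem hred {t0 ti : P} (c1 : t0 * t0 = 1) (hc : t0 * ti = ti * t0) (X : P) :
    t0 * ti * (t0 * X) = ti * X := by
  calc t0 * ti * (t0 * X) = ti * t0 * (t0 * X) := by rw [hc]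
    _ = ti * ((t0 * t0) * X) := by simp only [mul_assoc]
    _ = ti * X := by rw [c1, one_mul]

theorem conj_cube {g g' u : P} (h1 : g' * g = 1) (h2 : g * g' = 1) (hu : u * u * u = 1) :
    (g * u * g') * (g * u * g') * (g * u * g') = 1 := by
  calc (g * u * g') * (g * u * g') * (g * u * g')
      = g * u * (g' * g) * u * (g' * g) * u * g' := by simp only [mul_assoc]
    _ = g * (u * u * u) * g' := by rw [h1]; simp only [mul_one, mul_assoc]
    _ = 1 := by rw [hu, mul_one, h2]

theorem h3_zero {a b c : P} (ha : a * a = 1) (hb : b * b = 1) (hc : c * c = 1)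
    (hab : a * b * a = b * a * b) (hbc : b * c * b = c * b * c) (hac : a * c = c * a) :
    (a * b * (a * c)) * (a * b * (a * c)) * (a * b * (a * c)) = 1 := by
  have hW : a * b * (a * c) = (b * c) * (a * b) * (c * b) := by
    symm
    calc (b * c) * (a * b) * (c * b) = b * (c * a) * b * c * b := by simp only [mul_assoc]
      _ = b * (a * c) * b * c * b := by rw [hac]
      _ = b * a * (c * b * c) * b := by simp only [mul_assoc]
      _ = b * a * (b * c * b) * b := by rw [hbc]
      _ = b * a * b * c * (b * b) := by simp only [mul_assoc]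
      _ = (b * a * b) * c := by rw [hb, mul_one]
      _ = (a * b * a) * c := by rw [hab]
      _ = a * b * (a * c) := by simp only [mul_assoc]
  rw [hW]
  apply conj_cube
  · calc (c * b) * (b * c) = c * (b * b) * c := by simp only [mul_assoc]
      _ = 1 := by rw [hb, mul_one, hc]
  · calc (b * c) * (c * b) = b * (c * c) * b := by simp only [mul_assoc]
      _ = 1 := by rw [hc, mul_one, hb]
  · exact cube_of_braid ha hb hab

theorem h4_zero {a b c : P} (ha : a * a = 1) (hb : b * b = 1) (hc : c * c = 1)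
    (hac : a * c = c * a) (hbc : b * c = c * b) :
    (a * b * (a * c)) * (a * b * (a * c)) = 1 := by
  have hV : (a * b * a) * (a * b * a) = 1 := by
    calc (a * b * a) * (a * b * a) = a * b * (a * a) * b * a := by simp only [mul_assoc]
      _ = a * (b * b) * a := by rw [ha, mul_one]; simp only [mul_assoc]
      _ = 1 := by rw [hb, mul_one, ha]
  have hVc : (a * b * a) * c = c * (a * b * a) := by
    calc (a * b * a) * c = a * b * (a * c) := by simp only [mul_assoc]
      _ = a * b * (c * a) := by rw [hac]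
      _ = a * (b * c) * a := by simp only [mul_assoc]
      _ = a * (c * b) * a := by rw [hbc]
      _ = (a * c) * b * a := by simp only [mul_assoc]
      _ = (c * a) * b * a := by rw [hac]
      _ = c * (a * b * a) := by simp only [mul_assoc]
  have e : a * b * (a * c) = (a * b * a) * c := by simp only [mul_assoc]
  rw [e]
  exact sq_of_comm hV hc hVc

theorem carRel_of_coxeter (T : ℕ → P) (m : ℕ) (c1 : ∀ a, T a * T a = 1)
    (c2 : ∀ a b, a + 2 ≤ b → T a * T b = T b * T a)
    (c3 : ∀ a, a ≤ m → T a * T (a + 1) * T a = T (a + 1) * T a * T (a + 1)) :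
    CarRel (fun i => T 0 * T (i + 1)) m where
  h1 := by
    show T 0 * T (0 + 1) * (T 0 * T (0 + 1)) * (T 0 * T (0 + 1)) = 1
    exact cube_of_braid (c1 0) (c1 1) (c3 0 (Nat.zero_le m))
  h2 := by
    intro i h1 _
    show T 0 * T (i + 1) * (T 0 * T (i + 1)) = 1
    exact sq_of_comm (c1 0) (c1 (i + 1)) (c2 0 (i + 1) (by omega))
  h3 := by
    intro i hi
    show (T 0 * T (i + 1) * (T 0 * T (i + 1 + 1))) * (T 0 * T (i + 1) * (T 0 * T (i + 1 + 1)))
      * (T 0 * T (i + 1) * (T 0 * T (i + 1 + 1))) = 1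
    rcases Nat.eq_zero_or_pos i with rfl | hpos
    · exact h3_zero (c1 0) (c1 1) (c1 2) (c3 0 (by omega)) (c3 1 (by omega)) (c2 0 2 (by omega))
    · rw [hred (c1 0) (c2 0 (i + 1) (by omega))]
      exact cube_of_braid (c1 (i + 1)) (c1 (i + 1 + 1)) (c3 (i + 1) (by omega))
  h4 := by
    intro i j h1 h2
    show (T 0 * T (i + 1) * (T 0 * T (j + 1))) * (T 0 * T (i + 1) * (T 0 * T (j + 1))) = 1
    rcases Nat.eq_zero_or_pos i with rfl | hpos
    · exact h4_zero (c1 0) (c1 1) (c1 (j + 1)) (c2 0 (j + 1) (by omega))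
        (c2 1 (j + 1) (by omega))
    · rw [hred (c1 0) (c2 0 (i + 1) (by omega))]
      exact sq_of_comm (c1 (i + 1)) (c1 (j + 1)) (c2 (i + 1) (j + 1) (by omega))

end Coxeter

theorem carRel_s (m : ℕ) : CarRel (fun i => T m 0 * T m (i + 1)) m :=
  carRel_of_coxeter (T m) m (T_sq m) (T_comm m) (fun a _ => T_braid m a (by omega))

/-- The map onto the alternating group. -/
noncomputable def phi (m : ℕ) : CG (m + 1) →* Equiv.Perm (Fin (m + 3)) :=
  PresentedGroup.toGroup (f := fun i : Fin (m + 1) => T m 0 * T m (i.val + 1))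
    (lift_rels (carRel_s m))

theorem phi_of (m : ℕ) (i : Fin (m + 1)) :
    phi m (PresentedGroup.of i) = T m 0 * T m (i.val + 1) :=
  PresentedGroup.toGroup.of _

theorem phi_mem_alt (m : ℕ) (g : CG (m + 1)) : phi m g ∈ alternatingGroup (Fin (m + 3)) := by
  have hg : g ∈ (alternatingGroup (Fin (m + 3))).comap (phi m) := by
    refine PresentedGroup.generated_by _ _ (fun j => ?_) g
    rw [Subgroup.mem_comap, phi_of, Equiv.Perm.mem_alternatingGroup, map_mul,
      T_sign m 0 (by omega), T_sign m (j.val + 1) (by omega)]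
    decide
  exact hg

theorem key_range (m : ℕ) (τ : Equiv.Perm (Fin (m + 3))) :
    τ ∈ (phi m).range ∨ T m 0 * τ ∈ (phi m).range := by
  have hτ : τ ∈ Submonoid.closure
      (Set.range fun i : Fin (m + 2) => Equiv.swap i.castSucc i.succ) := by
    rw [Equiv.Perm.mclosure_swap_castSucc_succ]; exact Submonoid.mem_top τ
  have hT0a : ∀ a, 1 ≤ a → a ≤ m + 1 → T m 0 * T m a ∈ (phi m).range := by
    intro a h1 h2
    refine ⟨PresentedGroup.of ⟨a - 1, by omega⟩, ?_⟩
    rw [phi_of]
    show T m 0 * T m (a - 1 + 1) = T m 0 * T m a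
    rw [Nat.sub_add_cancel h1]
  induction hτ using Submonoid.closure_induction_left with
  | one => exact Or.inl (Subgroup.one_mem _)
  | mul_left x hx y hy ih =>
    obtain ⟨j, hj⟩ := hx
    have hjlt := j.isLt
    have hxT : x = T m j.val := by
      rw [T_pos m j.val (by omega)]; exact hj.symm
    rw [hxT]
    rcases Nat.eq_zero_or_pos j.val with h0 | hpos
    · rw [h0]
      rcases ih with ih | ih
      · right; rw [← mul_assoc, T_sq, one_mul]; exact ih
      · left; exact ih
    · have hr := hT0a j.val hpos (by omega)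
      rcases ih with ih | ih
      · right; rw [← mul_assoc]; exact Subgroup.mul_mem _ hr ih
      · left
        have e : T m j.val * y = (T m 0 * T m j.val)⁻¹ * (T m 0 * y) := by
          rw [mul_inv_rev, T_inv, T_inv, mul_assoc, ← mul_assoc (T m 0), T_sq, one_mul]
        rw [e]
        exact Subgroup.mul_mem _ (Subgroup.inv_mem _ hr) ih

theorem alt_le_range (m : ℕ) (τ : Equiv.Perm (Fin (m + 3)))
    (hτ : τ ∈ alternatingGroup (Fin (m + 3))) : τ ∈ (phi m).range := by
  rcases key_range m τ with h | h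
  · exact h
  · exfalso
    obtain ⟨g, hg⟩ := h
    have h1 := phi_mem_alt m g
    rw [hg, Equiv.Perm.mem_alternatingGroup, map_mul, T_sign m 0 (by omega)] at h1
    rw [Equiv.Perm.mem_alternatingGroup] at hτ
    rw [hτ] at h1
    exact absurd h1 (by decide)

theorem main (m : ℕ) : Nonempty (CG (m + 1) ≃* alternatingGroup (Fin (m + 3))) := by
  obtain ⟨hfin, hcard⟩ := main_card m
  let ψ : CG (m + 1) →* alternatingGroup (Fin (m + 3)) :=
    (phi m).codRestrict _ (phi_mem_alt m)
  have hsurj : Function.Surjective ψ := by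
    rintro ⟨τ, hτ⟩
    obtain ⟨g, hg⟩ := alt_le_range m τ hτ
    exact ⟨g, Subtype.ext hg⟩
  have hA : 2 * Nat.card (alternatingGroup (Fin (m + 3))) = (m + 3).factorial := by
    have := two_mul_nat_card_alternatingGroup (α := Fin (m + 3))
    rw [Nat.card_perm, Nat.card_fin] at this
    exact this
  have hle : Nat.card (alternatingGroup (Fin (m + 3))) ≤ Nat.card (CG (m + 1)) :=
    Nat.card_le_card_of_surjective ψ hsurj
  have heq : Nat.card (CG (m + 1)) = Nat.card (alternatingGroup (Fin (m + 3))) := by omega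
  have hbij : Function.Bijective ψ :=
    (Nat.bijective_iff_surjective_and_card ψ).mpr ⟨hsurj, heq⟩
  exact ⟨MulEquiv.ofBijective ψ hbij⟩

/-- A presentation of the alternating group of degree n ≥ 3 on generators x_1, …, x_{n−2} (indexed here by 0, …, n−3): the first generator cubes to 1, every other generator squares to 1, the product of two consecutive generators has order dividing 3, and the product of two generators at distance at least 2 has order dividing 2. The group so presented is isomorphic to the alternating group of degree n. -/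
theorem result (n : ℕ) (hn : 3 ≤ n) :
    Nonempty (PresentedGroup
      ({g : FreeGroup (Fin (n - 2)) | ∃ i : Fin (n - 2), i.val = 0 ∧ g = FreeGroup.of i ^ 3} ∪
       {g | ∃ i : Fin (n - 2), 1 ≤ i.val ∧ g = FreeGroup.of i ^ 2} ∪
       {g | ∃ i j : Fin (n - 2), j.val = i.val + 1 ∧ g = (FreeGroup.of i * FreeGroup.of j) ^ 3} ∪
       {g | ∃ i j : Fin (n - 2), i.val + 1 < j.val ∧ g = (FreeGroup.of i * FreeGroup.of j) ^ 2})
      ≃* alternatingGroup (Fin n)) := by
  obtain ⟨m, rfl⟩ : ∃ m, n = m + 3 := ⟨n - 3, by omega⟩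
  have key : ∀ k, k = m + 1 →
      Nonempty (PresentedGroup (rels k) ≃* alternatingGroup (Fin (m + 3))) := by
    rintro k rfl
    exact main m
  exact key (m + 3 - 2) (by omega)

end Cfsg.Agent.S3335
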