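import Cfsg.Statements.S0857
import Cfsg.Agent.Lib.Helper2.GoingDown

set_option autoImplicit false
open Cfsg

namespace Cfsg.Agent.S0857

open scoped commutatorElement

/-- Let L < K be normal subgroups of the finite group G with no normal subgroup of G strictly between them and with K / L abelian (the commutator subgroup of K lies in L). Let ϑ be an irreducible character of K invariant under conjugation by G. Then the restriction of ϑ to L is irreducible; or it equals e times an irreducible character of L with e ^ 2 equal to the index of L in K; or it is the sum of a family of pairwise distinct irreducible characters of L indexed by a set whose size is the index of L in K. -/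
theorem result {G : Type*} [Group G] [Fintype G] (K L : Subgroup G) [hK : K.Normal] [L.Normal] (hLK : L < K) (hchief : ∀ M : Subgroup G, M.Normal → L ≤ M → M ≤ K → M = L ∨ M = K) (hab : ⁅K, K⁆ ≤ L) (ϑ : K → ℂ) (hϑ : Cfsg.IsIrrCharacter K ϑ) (hinv : ∀ (g : G) (n : K), ϑ ⟨g * n * g⁻¹, hK.conj_mem (n : G) n.2 g⟩ = ϑ n) : Cfsg.IsIrrCharacter L (fun x : L => ϑ ⟨(x : G), hLK.le x.2⟩) ∨ (∃ (φ : L → ℂ) (e : ℕ), Cfsg.IsIrrCharacter L φ ∧ (fun x : L => ϑ ⟨(x : G), hLK.le x.2⟩) = (e : ℂ) • φ ∧ e ^ 2 = L.relIndex K) ∨ (∃ F : Finset (L → ℂ), (∀ φ ∈ F, Cfsg.IsIrrCharacter L φ) ∧ F.card = L.relIndex K ∧ (fun x : L => ϑ ⟨(x : G), hLK.le x.2⟩) = ∑ φ ∈ F, φ) := by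
  classical
  haveI : Fintype ↥K := Fintype.ofFinite _
  haveI : Fintype ↥(L.subgroupOf K) := Fintype.ofFinite _
  haveI hLn : (L.subgroupOf K).Normal := inferInstance
  set e : ↥(L.subgroupOf K) ≃* ↥L := Subgroup.subgroupOfEquivOfLe hLK.le with he
  have hesymm : ∀ x : L, (((e.symm x : ↥(L.subgroupOf K)) : ↥K) : G) = x := fun x => rfl
  -- the hypotheses of the abstract theorem
  have hab' : ∀ a b : ↥K ⧸ L.subgroupOf K, a * b = b * a := by
    intro a b
    obtain ⟨x, rfl⟩ := QuotientGroup.mk_surjective a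
    obtain ⟨y, rfl⟩ := QuotientGroup.mk_surjective b
    rw [← QuotientGroup.mk_mul, ← QuotientGroup.mk_mul, QuotientGroup.eq]
    rw [Subgroup.mem_subgroupOf]
    apply hab
    have h1 : (((x * y)⁻¹ * (y * x) : ↥K) : G) = ⁅(y : G)⁻¹, (x : G)⁻¹⁆ := by
      rw [commutatorElement_def]
      push_cast
      group
    rw [h1]
    exact Subgroup.commutator_mem_commutator (K.inv_mem y.2) (K.inv_mem x.2)
  set A : Set (↥K ≃* ↥K) := Set.range (fun g : G => (MulAut.conjNormal g : ↥K ≃* ↥K)) with hA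
  have hAN : ∀ α ∈ A, ∀ x ∈ L.subgroupOf K, α x ∈ L.subgroupOf K := by
    rintro _ ⟨g, rfl⟩ x hx
    rw [Subgroup.mem_subgroupOf] at hx ⊢
    simp only [MulAut.conjNormal_apply]
    exact (inferInstance : L.Normal).conj_mem _ hx g
  have hAϑ : ∀ α ∈ A, ∀ k, ϑ (α k) = ϑ k := by
    rintro _ ⟨g, rfl⟩ k
    have := hinv g k
    convert this using 2
    apply Subtype.ext
    simp [MulAut.conjNormal_apply]
  have hchief' : ∀ M : Subgroup ↥K, L.subgroupOf K ≤ M → (∀ α ∈ A, ∀ x ∈ M, α x ∈ M) →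
      M = L.subgroupOf K ∨ M = ⊤ := by
    intro M hNM hMinv
    have hMn : (M.map K.subtype).Normal := by
      constructor
      rintro _ ⟨y, hy, rfl⟩ g
      refine ⟨(MulAut.conjNormal g : ↥K ≃* ↥K) y, hMinv _ ⟨g, rfl⟩ y hy, ?_⟩
      simp [MulAut.conjNormal_apply]
    have hLM : L ≤ M.map K.subtype := by
      intro x hx
      exact ⟨⟨x, hLK.le hx⟩, hNM (Subgroup.mem_subgroupOf.mpr hx), rfl⟩
    have hMK : M.map K.subtype ≤ K := by
      rintro _ ⟨y, _, rfl⟩
      exact y.2
    rcases hchief _ hMn hLM hMK with h | h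
    · left
      apply le_antisymm _ hNM
      intro y hy
      rw [Subgroup.mem_subgroupOf, ← h]
      exact ⟨y, hy, rfl⟩
    · right
      rw [eq_top_iff]
      intro y _
      have : (y : G) ∈ M.map K.subtype := by rw [h]; exact y.2
      obtain ⟨y', hy', hyy'⟩ := this
      have : y' = y := Subtype.ext hyy'
      rw [← this]; exact hy'
  have hmain := Cfsg.Agent.Lib.Helper2.GoingDown.going_down (L.subgroupOf K) hab' A hAN hϑ hAϑ
    hchief'
  have hres : (fun x : L => ϑ ⟨(x : G), hLK.le x.2⟩) =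
      (fun y : ↥(L.subgroupOf K) => ϑ y) ∘ e.symm := by
    funext x
    rfl
  have htrans : ∀ f : ↥(L.subgroupOf K) → ℂ, Cfsg.IsIrrCharacter ↥(L.subgroupOf K) f →
      Cfsg.IsIrrCharacter L (f ∘ e.symm) := fun f hf =>
    Cfsg.Agent.Lib.Helper11.isIrrCharacter_comp_equiv e.symm hf
  rcases hmain with h1 | ⟨φ, m, hφ, hφeq, hm⟩ | ⟨F, hF, hFcard, hFsum⟩
  · left
    rw [hres]
    exact htrans _ h1
  · right; left
    refine ⟨φ ∘ e.symm, m, htrans φ hφ, ?_, hm⟩
    rw [hres, hφeq]
    rfl
  · right; right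
    have hinj : Function.Injective (fun f : ↥(L.subgroupOf K) → ℂ => f ∘ e.symm) := by
      intro f f' hff'
      funext y
      have := congrFun hff' (e y)
      simpa using this
    refine ⟨F.image (fun f => f ∘ e.symm), ?_, ?_, ?_⟩
    · intro ψ hψ
      rw [Finset.mem_image] at hψ
      obtain ⟨f, hf, rfl⟩ := hψ
      exact htrans f (hF f hf)
    · rw [Finset.card_image_of_injective _ hinj, hFcard]
      rfl
    · rw [Finset.sum_image (fun a _ b _ h => hinj h), hres, hFsum]
      funext x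
      simp only [Function.comp_apply, Finset.sum_apply]

end Cfsg.Agent.S0857
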