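import Mathlib
import Cfsg.Statements.S0858
import Cfsg.Agent.S0857
import Cfsg.Agent.Lib.Helper2.MGroup
import Cfsg.Agent.Lib.Helper2.Ito
import Cfsg.Agent.Lib.Helper11.Clifford2
import Cfsg.Agent.Lib.Helper24.CliffordGeneral
import Cfsg.Agent.Lib.Helper25.DetSolv
import Cfsg.Agent.Lib.Helper7.CliffordCentral

set_option autoImplicit false
open Cfsg

namespace Cfsg.Agent.S0858

open Cfsg.Agent.Lib.Helper2 Cfsg.Agent.Lib.Helper11 Cfsg.Agent.Lib.Helper24
open scoped ComplexConjugate

universe u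

/-- A character that is homogeneous on every normal subgroup above `N` restricts irreducibly to
`N`, under the non-square chief factor hypothesis. -/
theorem restrict_irr_of_quasiprimitive {G : Type u} [Group G] [Fintype G] (N : Subgroup G)
    [N.Normal] (hsolv : Group.IsSolvable (G ⧸ N))
    (hchief : ∀ K L : Subgroup G, K.Normal → L.Normal → N ≤ L → L < K →
      (∀ M : Subgroup G, M.Normal → L ≤ M → M ≤ K → M = L ∨ M = K) →
      ¬ IsSquare (L.relIndex K))
    (χ : G → ℂ) (hχ : Cfsg.IsIrrCharacter G χ)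
    (hq : ∀ M : Subgroup G, M.Normal → N ≤ M → ∃ (φ : M → ℂ) (e : ℕ),
      Cfsg.IsIrrCharacter M φ ∧ (fun m : M => χ m) = (e : ℂ) • φ) :
    Cfsg.IsIrrCharacter N (fun n : N => χ n) := by
  classical
  have hχcf : Cfsg.IsClassFunction G χ :=
    IsCharacter.isClassFunction (IsIrrCharacter.isCharacter hχ)
  let 𝒦 : Set (Subgroup G) :=
    {K | K.Normal ∧ N ≤ K ∧ Cfsg.IsIrrCharacter K (fun k : K => χ k)}
  have htop : (⊤ : Subgroup G) ∈ 𝒦 := by
    refine ⟨inferInstance, le_top, ?_⟩
    exact isIrrCharacter_comp_equiv (Subgroup.topEquiv : (⊤ : Subgroup G) ≃* G) hχ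
  obtain ⟨K, hK𝒦, hKmin⟩ := wellFounded_lt.has_min 𝒦 ⟨⊤, htop⟩
  obtain ⟨hKn, hNK, hKirr⟩ := hK𝒦
  by_cases hKN : K = N
  · subst hKN
    exact hKirr
  exfalso
  have hNK' : N < K := lt_of_le_of_ne hNK (Ne.symm hKN)
  let ℒ : Set (Subgroup G) := {L | L.Normal ∧ N ≤ L ∧ L < K}
  obtain ⟨L, hLℒ, hLmax⟩ := wellFounded_gt.has_min ℒ ⟨N, inferInstance, le_rfl, hNK'⟩
  obtain ⟨hLn, hNL, hLK⟩ := hLℒ
  have hch : ∀ M : Subgroup G, M.Normal → L ≤ M → M ≤ K → M = L ∨ M = K := by
    intro M hMn hLM hMK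
    by_cases hMK' : M = K
    · right; exact hMK'
    · left
      have hMℒ : M ∈ ℒ := ⟨hMn, hNL.trans hLM, lt_of_le_of_ne hMK hMK'⟩
      have := hLmax M hMℒ
      by_contra hne
      exact this (lt_of_le_of_ne hLM (Ne.symm hne))
  have := hKn
  have := hLn
  -- the chief factor is abelian
  have hab : ⁅K, K⁆ ≤ L := by
    have hcK : ⁅K, K⁆ ≤ K := Subgroup.commutator_le_left K K
    rcases hch (L ⊔ ⁅K, K⁆) inferInstance le_sup_left (sup_le hLK.le hcK) with h | h
    · rw [← h]; exact le_sup_right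
    · exfalso
      have := hsolv
      have hsurj : Function.Surjective
          (QuotientGroup.map N L (MonoidHom.id G) (fun x hx => hNL hx)) := by
        intro q
        obtain ⟨g, rfl⟩ := QuotientGroup.mk_surjective q
        exact ⟨(g : G ⧸ N), rfl⟩
      have : Group.IsSolvable (G ⧸ L) := Group.isSolvable_of_surjective hsurj
      have hne : K.map (QuotientGroup.mk' L) ≠ ⊥ := by
        intro h0
        rw [Subgroup.map_eq_bot_iff, QuotientGroup.ker_mk'] at h0
        exact absurd (le_antisymm hLK.le h0) hLK.ne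
      have hlt := Group.IsSolvable.commutator_lt_of_ne_bot hne
      have h1 : K.map (QuotientGroup.mk' L) = ⁅K.map (QuotientGroup.mk' L),
          K.map (QuotientGroup.mk' L)⁆ := by
        conv_lhs => rw [← h]
        rw [Subgroup.map_sup, Subgroup.map_commutator]
        have : L.map (QuotientGroup.mk' L) = ⊥ := by
          rw [Subgroup.map_eq_bot_iff, QuotientGroup.ker_mk']
        rw [this, bot_sup_eq]
      rw [← h1] at hlt
      exact lt_irrefl _ hlt
  have hinv : ∀ (g : G) (n : K),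
      (fun k : K => χ k) ⟨g * n * g⁻¹, hKn.conj_mem (n : G) n.2 g⟩ = (fun k : K => χ k) n := by
    intro g n
    exact hχcf n g
  have h618 := Cfsg.Agent.S0857.result K L hLK hch hab (fun k : K => χ k) hKirr hinv
  rcases h618 with h | ⟨φ, e, _, _, he⟩ | ⟨F, hF, hFcard, hFsum⟩
  · -- restriction to `L` irreducible: contradicts minimality of `K`
    exact hKmin L ⟨hLn, hNL, h⟩ hLK
  · -- square index
    exact hchief K L hKn hLn hNL hLK hch ⟨e, by rw [← he, sq]⟩
  · -- several distinct constituents: contradicts homogeneity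
    have hidx : 1 < L.relIndex K := by
      have h0 : L.relIndex K ≠ 0 := by
        rw [Subgroup.relIndex]
        exact Subgroup.index_ne_zero_of_finite
      have h1 : L.relIndex K ≠ 1 := by
        intro h1
        rw [Subgroup.relIndex_eq_one] at h1
        exact absurd (le_antisymm hLK.le h1) hLK.ne
      omega
    rw [← hFcard, Finset.one_lt_card] at hidx
    obtain ⟨φ₁, hφ₁, φ₂, hφ₂, hne⟩ := hidx
    obtain ⟨φ', e', hφ', hhom⟩ := hq L hLn hNL
    have hsum : (fun x : L => χ x) = ∑ φ ∈ F, φ := hFsum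
    have key : ∀ ψ ∈ F, ψ = φ' := by
      intro ψ hψ
      have hψirr := hF ψ hψ
      have h1 : Cfsg.classInner (fun x : L => χ x) ψ ≠ 0 := by
        rw [hsum, classInner_sum_left, Finset.sum_eq_single ψ]
        · have := classInner_irrCharacter_self (⟨ψ, hψirr⟩ : Cfsg.IrrCharacter L)
          simp only at this
          rw [this]
          exact one_ne_zero
        · intro b hb hbψ
          have hbirr := hF b hb
          exact classInner_irrCharacter_ne
            (χ := (⟨b, hbirr⟩ : Cfsg.IrrCharacter L)) (ψ := ⟨ψ, hψirr⟩)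
            (fun hh => hbψ (congrArg Subtype.val hh))
        · intro h; exact absurd hψ h
      rw [hhom, classInner_smul_left] at h1
      have h2 : Cfsg.classInner φ' ψ ≠ 0 := fun h => h1 (by rw [h, mul_zero])
      exact (eq_of_irr_of_classInner_ne_zero' hφ' hψirr h2).symm
    exact hne ((key φ₁ hφ₁).trans (key φ₂ hφ₂).symm)

theorem aux : ∀ (n : ℕ) (G : Type u) [Group G] [Fintype G] (N : Subgroup G) [N.Normal],
    Fintype.card G = n → Group.IsSolvable (G ⧸ N) →
    (∀ (H K L : Subgroup G), N ≤ L → L < K → K ≤ H → (∀ h ∈ H, ∀ k ∈ K, h * k * h⁻¹ ∈ K) →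
      (∀ h ∈ H, ∀ l ∈ L, h * l * h⁻¹ ∈ L) →
      (∀ M : Subgroup G, L ≤ M → M ≤ K → (∀ h ∈ H, ∀ m ∈ M, h * m * h⁻¹ ∈ M) →
        M = L ∨ M = K) → ¬ IsSquare (L.relIndex K)) →
    ∀ χ : G → ℂ, Cfsg.IsIrrCharacter G χ →
    ∃ (H : Subgroup G) (hNH : N ≤ H) (ψ : H → ℂ), Cfsg.IsIrrCharacter H ψ ∧
      Cfsg.indFun H ψ = χ ∧ Cfsg.IsIrrCharacter N (fun n : N => ψ ⟨(n : G), hNH n.2⟩) := by
  intro n
  induction n using Nat.strong_induction_on with
  | _ n ih =>
  intro G _ _ N _ hcard hsolv hchief χ hχ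
  classical
  have hχchar := IsIrrCharacter.isCharacter hχ
  have hχcf : Cfsg.IsClassFunction G χ := IsCharacter.isClassFunction hχchar
  by_cases hq : ∀ M : Subgroup G, M.Normal → N ≤ M → ∃ (φ : M → ℂ) (e : ℕ),
      Cfsg.IsIrrCharacter M φ ∧ (fun m : M => χ m) = (e : ℂ) • φ
  · -- quasi-primitive over `N`
    have hchief' : ∀ K L : Subgroup G, K.Normal → L.Normal → N ≤ L → L < K →
        (∀ M : Subgroup G, M.Normal → L ≤ M → M ≤ K → M = L ∨ M = K) →
        ¬ IsSquare (L.relIndex K) := by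
      intro K L hKn hLn hNL hLK hch
      apply hchief ⊤ K L hNL hLK le_top (fun h _ k hk => hKn.conj_mem k hk h)
        (fun h _ l hl => hLn.conj_mem l hl h)
      intro M hLM hMK hMinv
      exact hch M ⟨fun m hm g => hMinv g (Subgroup.mem_top g) m hm⟩ hLM hMK
    have hirr := restrict_irr_of_quasiprimitive N hsolv hchief' χ hχ hq
    exact ⟨⊤, le_top, fun h => χ h,
      isIrrCharacter_comp_equiv (Subgroup.topEquiv : (⊤ : Subgroup G) ≃* G) hχ,
      MGroup.indFun_top hχcf, hirr⟩
  · push Not at hq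
    obtain ⟨M, hMn, hNM, hnh⟩ := hq
    have := hMn
    have : Fintype M := Fintype.ofFinite M
    obtain ⟨θ, hθ⟩ := Cfsg.Agent.Lib.Helper7.exists_constituent_restrict (N := M) ⟨χ, hχ⟩
    have hθcf : Cfsg.IsClassFunction M (θ : M → ℂ) := IrrCharacter.isClassFunction θ
    set T := inertia M (θ : M → ℂ) with hTdef
    have hMT : M ≤ T := le_inertia M hθcf
    have hNT : N ≤ T := hNM.trans hMT
    have hT : T ≠ ⊤ := by
      intro hT
      have hinv : ∀ g : G, conjFun M g (θ : M → ℂ) = θ := by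
        intro g
        have : g ∈ T := by rw [hT]; trivial
        exact this
      have hcl := clifford_restriction M hχ θ.2 hθ
      have hset : {ψ : M → ℂ | ∃ g : G, ψ = conjFun M g (θ : M → ℂ)} = {(θ : M → ℂ)} := by
        ext ψ
        constructor
        · rintro ⟨g, rfl⟩; exact hinv g
        · intro h; exact ⟨1, by rw [Set.mem_singleton_iff.mp h, conjFun_one]⟩
      rw [hset, finsum_mem_singleton] at hcl
      obtain ⟨e, he⟩ := classInner_isCharacter_nat (IsCharacter.restrict hχchar M)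
        (IsIrrCharacter.isCharacter θ.2)
      rw [he] at hcl
      exact hnh θ e θ.2 hcl
    have : Fintype T := Fintype.ofFinite T
    obtain ⟨ψ, hψ1, hψ2⟩ := exists_liesOver_between M T hMT ⟨χ, hχ⟩ θ hθ
    have hcc := clifford_general M T (θ : M → ℂ) θ.2 (fun g hg => hg) hMT ψ ψ ψ.2 ψ.2 hψ2 hψ2
    have hind : Cfsg.indFun T (ψ : T → ℂ) = χ := by
      apply eq_of_irr_of_classInner_ne_zero' hcc.1 hχ
      rw [frobenius_reciprocity T _ χ hχcf, ← classInner_conj_symm]
      intro h
      apply hψ1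
      have := congrArg conj h
      simpa using this
    have hTcard : Fintype.card T < n := by
      rw [← hcard, ← Nat.card_eq_fintype_card, ← Nat.card_eq_fintype_card]
      apply lt_of_le_of_ne (Subgroup.card_le_card_group T)
      intro h
      exact hT ((Subgroup.card_eq_iff_eq_top T).mp h)
    have hsolvT : Group.IsSolvable (↥T ⧸ N.subgroupOf T) :=
      Cfsg.Agent.Lib.Helper25.isSolvable_subgroupOf_quotient N T hsolv
    have hchiefT : ∀ (H K L : Subgroup T), N.subgroupOf T ≤ L → L < K → K ≤ H →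
        (∀ h ∈ H, ∀ k ∈ K, h * k * h⁻¹ ∈ K) → (∀ h ∈ H, ∀ l ∈ L, h * l * h⁻¹ ∈ L) →
        (∀ M : Subgroup T, L ≤ M → M ≤ K → (∀ h ∈ H, ∀ m ∈ M, h * m * h⁻¹ ∈ M) →
          M = L ∨ M = K) → ¬ IsSquare (L.relIndex K) := by
      intro H K L hNL hLK hKH hKinv hLinv hch
      rw [← Subgroup.relIndex_map_map_of_injective L K T.subtype_injective]
      apply hchief (H.map T.subtype) (K.map T.subtype) (L.map T.subtype)
      · intro x hx
        exact ⟨⟨x, hNT hx⟩, hNL (Subgroup.mem_subgroupOf.mpr hx), rfl⟩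
      · exact Subgroup.map_subtype_lt_map_subtype.mpr hLK
      · exact Subgroup.map_mono hKH
      · rintro _ ⟨h, hh, rfl⟩ _ ⟨k, hk, rfl⟩
        exact ⟨h * k * h⁻¹, hKinv h hh k hk, by simp⟩
      · rintro _ ⟨h, hh, rfl⟩ _ ⟨l, hl, rfl⟩
        exact ⟨h * l * h⁻¹, hLinv h hh l hl, by simp⟩
      · intro M' hLM hMK hMinv
        have hM'T : M' ≤ T := hMK.trans (Subgroup.map_subtype_le K)
        have hM'eq : (M'.subgroupOf T).map T.subtype = M' := Subgroup.map_subgroupOf_eq_of_le hM'T
        have h1 : L ≤ M'.subgroupOf T := by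
          intro x hx
          rw [Subgroup.mem_subgroupOf]
          exact hLM ⟨x, hx, rfl⟩
        have h2 : M'.subgroupOf T ≤ K := by
          intro x hx
          rw [Subgroup.mem_subgroupOf] at hx
          obtain ⟨k, hk, hkx⟩ := hMK hx
          have : k = x := Subtype.ext hkx
          rw [← this]; exact hk
        have h3 : ∀ h ∈ H, ∀ m ∈ M'.subgroupOf T, h * m * h⁻¹ ∈ M'.subgroupOf T := by
          intro h hh m hm
          rw [Subgroup.mem_subgroupOf] at hm ⊢
          have := hMinv (h : G) ⟨h, hh, rfl⟩ (m : G) hm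
          simpa using this
        rcases hch (M'.subgroupOf T) h1 h2 h3 with h | h
        · left; rw [← hM'eq, h]
        · right; rw [← hM'eq, h]
    obtain ⟨S, hNS, μ, hμirr, hμind, hμN⟩ :=
      ih (Fintype.card T) hTcard T (N.subgroupOf T) rfl hsolvT hchiefT (ψ : T → ℂ) ψ.2
    let eS : S ≃* S.map T.subtype := S.equivMapOfInjective T.subtype T.subtype_injective
    have hNS' : N ≤ S.map T.subtype := by
      intro x hx
      exact ⟨⟨x, hNT hx⟩, hNS (Subgroup.mem_subgroupOf.mpr hx), rfl⟩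
    have hle : S.map T.subtype ≤ T := Subgroup.map_subtype_le S
    have heS : ∀ (t : T) (ht : t ∈ S) (ht' : (t : G) ∈ S.map T.subtype),
        eS.symm ⟨(t : G), ht'⟩ = ⟨t, ht⟩ := by
      intro t ht ht'
      rw [MulEquiv.symm_apply_eq]
      apply Subtype.ext
      rfl
    refine ⟨S.map T.subtype, hNS', μ ∘ eS.symm, isIrrCharacter_comp_equiv eS.symm hμirr, ?_, ?_⟩
    · rw [← hind, ← hμind, ← indFun_trans (S.map T.subtype) T hle]
      congr 1
      have hSeq : (S.map T.subtype).subgroupOf T = S :=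
        Subgroup.comap_map_eq_self_of_injective T.subtype_injective S
      apply MGroup.indFun_congr hSeq
      intro t ht ht'
      simp only [Function.comp_apply]
      rw [heS t ht' (Subgroup.mem_subgroupOf.mp ht)]
    · let eN : ↥N ≃* ↥(N.subgroupOf T) := (Subgroup.subgroupOfEquivOfLe hNT).symm
      have := isIrrCharacter_comp_equiv eN hμN
      convert this using 1
      funext x
      simp only [Function.comp_apply]
      congr 1
      rw [MulEquiv.symm_apply_eq]
      apply Subtype.ext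
      rfl

/-- Let N be a normal subgroup of the finite group G with G / N solvable, and suppose that for every subgroup H containing N and all subgroups L < K between N and H that are normal in H with no subgroup normal in H strictly between them, the index of L in K is not a perfect square. Then every irreducible character χ of G is induced from an irreducible character ψ of some subgroup H containing N such that the restriction of ψ to N is irreducible. -/
theorem result {G : Type*} [Group G] [Fintype G] (N : Subgroup G) [N.Normal] (hsolv : Group.IsSolvable (G ⧸ N)) (hchief : ∀ (H K L : Subgroup G), N ≤ L → L < K → K ≤ H → (∀ h ∈ H, ∀ k ∈ K, h * k * h⁻¹ ∈ K) → (∀ h ∈ H, ∀ l ∈ L, h * l * h⁻¹ ∈ L) → (∀ M : Subgroup G, L ≤ M → M ≤ K → (∀ h ∈ H, ∀ m ∈ M, h * m * h⁻¹ ∈ M) → M = L ∨ M = K) → ¬ IsSquare (L.relIndex K)) (χ : G → ℂ) (hχ : Cfsg.IsIrrCharacter G χ) : ∃ (H : Subgroup G) (hNH : N ≤ H) (ψ : H → ℂ), Cfsg.IsIrrCharacter H ψ ∧ Cfsg.indFun H ψ = χ ∧ Cfsg.IsIrrCharacter N (fun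 n : N => ψ ⟨(n : G), hNH n.2⟩) :=
  aux (Fintype.card G) G N rfl hsolv hchief χ hχ

end Cfsg.Agent.S0858
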