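import Mathlib
import Cfsg.Statements.S0867
import Cfsg.Agent.Lib.Helper25.DetGallagher

set_option autoImplicit false
set_option linter.style.haveILetI false
open Cfsg Cfsg.Agent.Lib.Helper25 Cfsg.Agent.Lib.Helper7

namespace Cfsg.Agent.S0867

theorem detOrder_eq {K : Type*} [Group K] [Finite K] {χ : K → ℂ} (h : IsCharacter K χ) :
    detOrder χ = orderOf (detHom χ) := by
  unfold detOrder
  rw [← coe_detHom h, orderOf_coeFunHom]

/-- Let N be a normal subgroup of the finite group G and ϑ an irreducible character of N of degree d, invariant under conjugation by G, such that the index of N is coprime to the product of d and the determinantal order of ϑ. Then there is an irreducible character χ of G restricting to ϑ whose determinantal order equals that of ϑ, and χ is the only irreducible character of G restricting to ϑ whose determinantal order is coprime to the index of N. -/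
theorem result {G : Type*} [Group G] [Finite G] (N : Subgroup G) [hN : N.Normal] (ϑ : N → ℂ) (hϑ : Cfsg.IsIrrCharacter N ϑ) (hinv : ∀ (g : G) (n : N), ϑ ⟨g * n * g⁻¹, hN.conj_mem (n : G) n.2 g⟩ = ϑ n) (d : ℕ) (hd : ϑ 1 = d) (hcop : Nat.Coprime N.index (Cfsg.detOrder ϑ * d)) : ∃ χ : G → ℂ, (Cfsg.IsIrrCharacter G χ ∧ (∀ n : N, χ n = ϑ n) ∧ Cfsg.detOrder χ = Cfsg.detOrder ϑ) ∧ ∀ χ' : G → ℂ, Cfsg.IsIrrCharacter G χ' → (∀ n : N, χ' n = ϑ n) → Nat.Coprime N.index (Cfsg.detOrder χ') → χ' = χ := by
  haveI := Fintype.ofFinite G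
  have hϑc := isCharacter_of_irr hϑ
  have hcop1 : Nat.Coprime N.index (detOrder ϑ) := Nat.Coprime.coprime_mul_right_right hcop
  have hcop2 : Nat.Coprime N.index d := Nat.Coprime.coprime_mul_left_right hcop
  -- invariance of the determinant
  have hδinv : ∀ (g : G) (n : N),
      detHom ϑ ⟨g * n * g⁻¹, hN.conj_mem (n : G) n.2 g⟩ = detHom ϑ n := by
    intro g n
    let c : N ≃* N := MulAut.conjNormal g
    have h1 := detChar_comp_hom c.toMonoidHom hϑc
    have h2 : (fun k : N => ϑ (c.toMonoidHom k)) = ϑ := by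
      funext k
      have := hinv g k
      rw [← this]
      show ϑ (c k) = _
      congr 1
    rw [h2] at h1
    have h3 := congrFun h1 n
    apply Units.ext
    rw [detHom_apply hϑc, detHom_apply hϑc, h3]
    show detChar ϑ _ = detChar ϑ (c n)
    congr 1
  have hcop1' : Nat.Coprime N.index (orderOf (detHom ϑ)) := by
    rw [← detOrder_eq hϑc]; exact hcop1
  obtain ⟨μ, hμN, hμord, hμuniq⟩ := exists_unique_extension_of_coprime N (detHom ϑ) hδinv hcop1'
  have hμN' : ∀ n : N, ((μ n : ℂˣ) : ℂ) = detChar ϑ n := by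
    intro n
    rw [hμN n, detHom_apply hϑc]
  obtain ⟨η, hη, hηN⟩ := exists_ext_of_det (⟨hϑ, hinv, hd, hcop2, hμN'⟩ : GallagherData N ϑ μ d)
  obtain ⟨χ, hχ, hχN, hχdet⟩ := exists_ext_with_det N hϑ d hd hcop2 hη hηN μ hμN'
  have hχc := isCharacter_of_irr hχ
  refine ⟨χ, ⟨hχ, hχN, ?_⟩, ?_⟩
  · rw [detOrder_eq hχc, detOrder_eq hϑc, hχdet, hμord]
  · intro χ' hχ' hχ'N hcop'
    have hχ'c := isCharacter_of_irr hχ'
    have h1 : ∀ n : N, detHom χ' n = detHom ϑ n := by
      intro n
      have h2 := detHom_comp_hom N.subtype hχ'c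
      have h3 : (fun k : N => χ' (N.subtype k)) = ϑ := funext hχ'N
      rw [h3] at h2
      rw [h2]
      rfl
    have h4 : detHom χ' = μ := hμuniq (detHom χ') h1 (by rw [← detOrder_eq hχ'c]; exact hcop')
    apply ext_unique_of_det N hϑ d hd hcop2 hχ' hχ hχ'N hχN
    rw [← coe_detHom hχ'c, ← coe_detHom hχc, h4, hχdet]

end Cfsg.Agent.S0867
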