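import Cfsg.Statements.S5434
import Cfsg.Agent.Lib.Helper1.Extraspecial
import Cfsg.Agent.Lib.Helper1.Nilpotent
import Cfsg.Agent.Lib.Helper1.Frattini
import Cfsg.Agent.Lib.Helper1.Coprime
import Cfsg.Agent.Lib.Helper1.CoprimeAbelian

set_option autoImplicit false
open Cfsg

namespace Cfsg.Agent.S5434

open Cfsg.Agent.Lib.Helper1
open scoped commutatorElement

/-- Recognition of extraspecial groups: a nonabelian `p`-group with a subgroup `Z₀` of order `p`
containing the centre, the commutator subgroup and all `p`-th powers. -/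
theorem isExtraspecial_of {p : ℕ} [Fact p.Prime] {R : Type*} [Group R] [Finite R]
    (hR : IsPGroup p R) (Z₀ : Subgroup R) (hZ₀ : Nat.card Z₀ = p) (hcomm : commutator R ≤ Z₀)
    (hpow : ∀ r : R, r ^ p ∈ Z₀) (hcen : Subgroup.center R ≤ Z₀)
    (hnab : ∃ a b : R, a * b ≠ b * a) : Cfsg.IsExtraspecial p R := by
  have hpp : p.Prime := Fact.out
  have hcne : commutator R ≠ ⊥ := by
    intro h
    obtain ⟨a, b, hab⟩ := hnab
    apply hab
    have h1 : ⁅a, b⁆ ∈ commutator R := by
      rw [commutator_def]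
      exact Subgroup.commutator_mem_commutator (Subgroup.mem_top _) (Subgroup.mem_top _)
    rw [h, Subgroup.mem_bot] at h1
    exact commutatorElement_eq_one_iff_mul_comm.mp h1
  have hceq : commutator R = Z₀ := by
    have h2 : Nat.card (commutator R) ∣ p := by
      rw [← hZ₀]; exact Subgroup.card_dvd_of_le hcomm
    rcases (Nat.dvd_prime hpp).mp h2 with h3 | h3
    · exact absurd (Subgroup.card_eq_one.mp h3) hcne
    · exact Subgroup.eq_of_le_of_card_ge hcomm (by rw [h3, hZ₀])
  have hZn : Z₀.Normal := by rw [← hceq]; infer_instance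
  have hZc : Z₀ ≤ Subgroup.center R := le_center_of_normal_of_card_prime hR Z₀ hZ₀
  have hcenter : Subgroup.center R = Z₀ := le_antisymm hcen hZc
  have hfrat : frattini R = Z₀ := by
    apply le_antisymm
    · exact frattini_le_of_commutator_le_of_pow_mem (p := p) Z₀ hcomm hpow
    · rw [← hceq]
      exact IsPGroup.commutator_le_frattini hR
  exact ⟨⟨hR, by rw [hfrat, hcenter], by rw [hceq, hcenter]⟩, by rw [hcenter, hZ₀]⟩

/-- Extraspecial subgroups of `Q`, from data inside the ambient group. -/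
theorem isExtraspecial_sub {G : Type*} [Group G] [Finite G] (Q Z S : Subgroup G) (hSQ : S ≤ Q)
    (hZS : Z ≤ S) (hZ : Nat.card Z = 2) (hQ : IsPGroup 2 Q)
    (hQQ : ∀ x ∈ Q, ∀ y ∈ Q, ⁅x, y⁆ ∈ Z) (hsq : ∀ q ∈ Q, q ^ 2 ∈ Z)
    (hcen : ∀ s ∈ S, (∀ t ∈ S, s * t = t * s) → s ∈ Z)
    (hnab : ∃ a ∈ S, ∃ b ∈ S, a * b ≠ b * a) : Cfsg.IsExtraspecial 2 ↥S := by
  haveI : Fact (Nat.Prime 2) := ⟨Nat.prime_two⟩
  apply isExtraspecial_of (hQ.to_le hSQ) (Z.subgroupOf S)
  · rw [Nat.card_congr (Subgroup.subgroupOfEquivOfLe hZS).toEquiv, hZ]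
  · rw [commutator_def, Subgroup.commutator_le]
    intro a _ b _
    rw [Subgroup.mem_subgroupOf]
    exact hQQ a (hSQ a.2) b (hSQ b.2)
  · intro r
    rw [Subgroup.mem_subgroupOf, Subgroup.coe_pow]
    exact hsq r (hSQ r.2)
  · intro s hs
    rw [Subgroup.mem_subgroupOf]
    apply hcen s s.2
    intro t ht
    have := Subgroup.mem_center_iff.mp hs ⟨t, ht⟩
    exact (congrArg Subtype.val this).symm
  · obtain ⟨a, ha, b, hb, hab⟩ := hnab
    refine ⟨⟨a, ha⟩, ⟨b, hb⟩, ?_⟩
    intro h
    exact hab (congrArg Subtype.val h)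

/-- Let Q be a large extraspecial 2-subgroup of the finite group G (extraspecial; centralizer equal to its centre; normal in the centralizer of its centre; normalizing no non-trivial subgroup of odd order), and A a non-trivial subgroup of odd order of the normalizer of Q. Then Q is the central product of the centralizer of A in Q and the commutator subgroup [Q, A] (they generate Q and commute elementwise), [Q, A] is extraspecial, and the centralizer of A in Q is either the centre of Q or extraspecial. -/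
theorem result {G : Type*} [Group G] [Finite G] (Q : Subgroup G) (hQ : Cfsg.IsLargeExtraspecial Q) (A : Subgroup G) (hA : A ≤ Subgroup.normalizer (Q : Set G)) (hAodd : Odd (Nat.card ↥A)) (hA1 : A ≠ ⊥) : (Q ⊓ Subgroup.centralizer (A : Set G)) ⊔ ⁅Q, A⁆ = Q ∧ (∀ x ∈ Q ⊓ Subgroup.centralizer (A : Set G), ∀ y ∈ ⁅Q, A⁆, x * y = y * x) ∧ Cfsg.IsExtraspecial 2 ↥⁅Q, A⁆ ∧ (Q ⊓ Subgroup.centralizer (A : Set G) = ((Subgroup.center ↥Q).map Q.subtype) ∨ Cfsg.IsExtraspecial 2 ↥(Q ⊓ Subgroup.centralizer (A : Set G))) := by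
  classical
  haveI : Fact (Nat.Prime 2) := ⟨Nat.prime_two⟩
  obtain ⟨⟨⟨hQp, hfrat, hcomm⟩, hcard⟩, hcent, -, -⟩ := hQ
  set Z : Subgroup G := (Subgroup.center ↥Q).map Q.subtype with hZ
  set C : Subgroup G := Q ⊓ Subgroup.centralizer (A : Set G) with hC
  set R : Subgroup G := ⁅Q, A⁆ with hR
  have hZQ : Z ≤ Q := Subgroup.map_subtype_le _
  have hZcard : Nat.card Z = 2 := by rw [hZ, Subgroup.card_subtype, hcard]
  -- facts on `Q` inside `G`
  have hQQ' : ⁅Q, Q⁆ = Z := by
    have h1 : (commutator ↥Q).map Q.subtype = ⁅Q, Q⁆ := by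
      rw [commutator_def, Subgroup.map_commutator, ← MonoidHom.range_eq_map,
        Subgroup.range_subtype]
    rw [← h1, hcomm]
  have hQQ : ∀ x ∈ Q, ∀ y ∈ Q, ⁅x, y⁆ ∈ Z := by
    intro x hx y hy
    rw [← hQQ']
    exact Subgroup.commutator_mem_commutator hx hy
  have hsq : ∀ q ∈ Q, q ^ 2 ∈ Z := by
    intro q hq
    have h1 : (⟨q, hq⟩ : ↥Q) ^ 2 ∈ Subgroup.center ↥Q := by
      rw [← hfrat]
      exact IsPGroup.pow_mem_frattini hQp _
    exact ⟨_, h1, rfl⟩
  have hZmem : ∀ z : G, (∀ q ∈ Q, q * z = z * q) → z ∈ Z := by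
    intro z hz
    rw [← hcent, Subgroup.mem_centralizer_iff]
    exact hz
  have hZcomm : ∀ z ∈ Z, ∀ q ∈ Q, q * z = z * q := by
    intro z hz
    rw [← hcent, Subgroup.mem_centralizer_iff] at hz
    exact hz
  -- coprime action
  have hcop : (Nat.card A).Coprime (Nat.card Q) := by
    obtain ⟨k, hk⟩ := hQp.exists_card_eq
    rw [hk]
    exact Nat.Coprime.pow_right k (Nat.coprime_two_right.mpr hAodd)
  have hsolv : Group.IsSolvable Q := by
    haveI := hQp.isNilpotent
    infer_instance
  have hact : CoprimeAct A Q := ⟨hA, hcop, Or.inr hsolv⟩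
  have h1 : C ⊔ R = Q := by
    rw [sup_comm]
    exact hact.commutator_sup_centralizer
  -- `A` centralizes `Z`
  have hAZ : Z ≤ Subgroup.centralizer (A : Set G) := by
    have hAZn : A ≤ Subgroup.normalizer (Z : Set G) :=
      hA.trans (normalizer_le_normalizer_map_of_characteristic Q (Subgroup.center ↥Q))
    intro z hz
    rw [Subgroup.mem_centralizer_iff]
    intro a ha
    by_cases hz1 : z = 1
    · rw [hz1, mul_one, one_mul]
    · have h2 : a * z * a⁻¹ ∈ Z := (Subgroup.mem_normalizer_iff.mp (hAZn ha) z).mp hz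
      have h3 : a * z * a⁻¹ ≠ 1 := by
        intro h
        apply hz1
        have : z = a⁻¹ * (a * z * a⁻¹) * a := by group
        rw [this, h]; group
      -- a group of order 2 has a unique nonidentity element
      have h4 : ∀ x ∈ Z, ∀ y ∈ Z, x ≠ 1 → y ≠ 1 → x = y := by
        intro x hx y hy hx1 hy1
        haveI : Fintype ↥Z := Fintype.ofFinite _
        have h5 : Fintype.card ↥Z = 2 := by rw [← Nat.card_eq_fintype_card, hZcard]
        by_contra hxy
        have h6 : ({⟨x, hx⟩, ⟨y, hy⟩, 1} : Finset ↥Z).card = 3 := by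
          rw [Finset.card_insert_of_notMem, Finset.card_insert_of_notMem, Finset.card_singleton]
          · simp only [Finset.mem_singleton]
            intro h; exact hy1 (congrArg Subtype.val h)
          · simp only [Finset.mem_insert, Finset.mem_singleton, not_or]
            exact ⟨fun h => hxy (congrArg Subtype.val h), fun h => hx1 (congrArg Subtype.val h)⟩
        have h7 := Finset.card_le_univ ({⟨x, hx⟩, ⟨y, hy⟩, 1} : Finset ↥Z)
        omega
      have h8 := h4 _ h2 z hz h3 hz1
      symm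
      calc z * a = a * z * a⁻¹ * a := by rw [h8]
        _ = a * z := by group
  have hZC : Z ≤ C := le_inf hZQ hAZ
  -- `[R, C] = 1`
  have hRC : ⁅R, C⁆ = ⊥ := by
    apply Subgroup.commutator_commutator_eq_bot_of_rotate
    · have h2 : ⁅A, C⁆ = ⊥ := by
        rw [Subgroup.commutator_eq_bot_iff_le_centralizer, Subgroup.le_centralizer_iff]
        exact inf_le_right
      rw [h2]
      exact Subgroup.commutator_bot_left Q
    · have h2 : ⁅C, Q⁆ ≤ Z := by
        rw [← hQQ']
        exact Subgroup.commutator_mono inf_le_left le_rfl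
      have h3 : ⁅Z, A⁆ = ⊥ := by
        rw [Subgroup.commutator_eq_bot_iff_le_centralizer]
        exact hAZ
      rw [eq_bot_iff, ← h3]
      exact Subgroup.commutator_mono h2 le_rfl
  have h2 : ∀ x ∈ C, ∀ y ∈ R, x * y = y * x := by
    intro x hx y hy
    rw [Subgroup.commutator_eq_bot_iff_le_centralizer] at hRC
    exact Subgroup.mem_centralizer_iff.mp (hRC hy) x hx
  have hRQ : R ≤ Q := commutator_le_of_le_normalizer hA
  have hCQ : C ≤ Q := inf_le_left
  -- central elements of `R` or `C` are central in `Q`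
  have hcenQ : ∀ s : G, (∀ t ∈ C, s * t = t * s) → (∀ t ∈ R, s * t = t * s) → s ∈ Z := by
    intro s hsC hsR
    apply hZmem
    have h3 : Q ≤ Subgroup.centralizer {s} := by
      rw [← h1]
      apply sup_le
      · intro t ht
        rw [Subgroup.mem_centralizer_singleton_iff]
        exact (hsC t ht).symm
      · intro t ht
        rw [Subgroup.mem_centralizer_singleton_iff]
        exact (hsR t ht).symm
    intro q hq
    exact Subgroup.mem_centralizer_singleton_iff.mp (h3 hq)
  -- `R ≠ ⊥`
  have hRne : R ≠ ⊥ := by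
    intro h
    apply hA1
    rw [hR, Subgroup.commutator_eq_bot_iff_le_centralizer, ← Subgroup.le_centralizer_iff, hcent]
      at h
    have h3 : Nat.card A ∣ 2 := by rw [← hZcard]; exact Subgroup.card_dvd_of_le h
    have h4 : Nat.card A = 1 := by
      rcases (Nat.dvd_prime Nat.prime_two).mp h3 with h5 | h5
      · exact h5
      · rw [h5] at hAodd
        exact absurd hAodd (by decide)
    exact Subgroup.card_eq_one.mp h4
  -- `Z ≤ R`
  have hZR : Z ≤ R := by
    haveI : Group.IsNilpotent ↥Q := hQp.isNilpotent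
    haveI hRn : (R.subgroupOf Q).Normal :=
      (Subgroup.normal_subgroupOf_iff_le_normalizer hRQ).mpr le_normalizer_commutator_left
    have hne : R.subgroupOf Q ≠ ⊥ := by
      intro h
      apply hRne
      rw [eq_bot_iff]
      intro r hr
      have : (⟨r, hRQ hr⟩ : ↥Q) ∈ R.subgroupOf Q := Subgroup.mem_subgroupOf.mpr hr
      rw [h, Subgroup.mem_bot] at this
      rw [Subgroup.mem_bot]
      exact congrArg Subtype.val this
    have h3 := inf_center_ne_bot_of_normal (R.subgroupOf Q) hne
    have h4 : R ⊓ Z ≠ ⊥ := by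
      intro h
      apply h3
      rw [eq_bot_iff]
      intro x hx
      obtain ⟨hx1, hx2⟩ := Subgroup.mem_inf.mp hx
      have : (x : G) ∈ R ⊓ Z := ⟨Subgroup.mem_subgroupOf.mp hx1, ⟨x, hx2, rfl⟩⟩
      rw [h, Subgroup.mem_bot] at this
      rw [Subgroup.mem_bot]
      exact Subtype.ext this
    have h5 : Nat.card (R ⊓ Z : Subgroup G) ∣ 2 := by
      rw [← hZcard]; exact Subgroup.card_dvd_of_le inf_le_right
    rcases (Nat.dvd_prime Nat.prime_two).mp h5 with h6 | h6
    · exact absurd (Subgroup.card_eq_one.mp h6) h4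
    · have h7 : R ⊓ Z = Z := Subgroup.eq_of_le_of_card_ge inf_le_right (by rw [h6, hZcard])
      rw [← h7]
      exact inf_le_left
  -- `R` is nonabelian
  have hRnab : ∃ a ∈ R, ∃ b ∈ R, a * b ≠ b * a := by
    by_contra hcon
    push Not at hcon
    haveI : IsMulCommutative R := ⟨⟨fun a b => Subtype.ext (hcon a a.2 b b.2)⟩⟩
    have hAR : A ≤ Subgroup.normalizer (R : Set G) := le_normalizer_commutator_right
    have hcopR : (Nat.card A).Coprime (Nat.card R) :=
      Nat.Coprime.coprime_dvd_right (Subgroup.card_dvd_of_le hRQ) hcop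
    have h3 := abelian_centralizer_inf_commutator_eq_bot A R hAR hcopR
    rw [hact.commutator_commutator_eq] at h3
    have h4 : Z ≤ (R ⊓ Subgroup.centralizer (A : Set G)) ⊓ R := le_inf (le_inf hZR hAZ) hZR
    rw [h3] at h4
    have h5 : Nat.card Z = 1 := by
      rw [Subgroup.card_eq_one, eq_bot_iff]
      exact h4
    omega
  refine ⟨h1, h2, ?_, ?_⟩
  · apply isExtraspecial_sub Q Z R hRQ hZR hZcard hQp hQQ hsq _ hRnab
    intro s hs hsR
    exact hcenQ s (fun t ht => (h2 t ht s hs).symm) hsR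
  · by_cases hCab : ∀ a ∈ C, ∀ b ∈ C, a * b = b * a
    · left
      apply le_antisymm _ hZC
      intro c hc
      exact hcenQ c (fun t ht => hCab c hc t ht) (fun t ht => h2 c hc t ht)
    · right
      push Not at hCab
      apply isExtraspecial_sub Q Z C hCQ hZC hZcard hQp hQQ hsq _ hCab
      intro s hs hsC
      exact hcenQ s hsC (fun t ht => h2 s hs t ht)

end Cfsg.Agent.S5434
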