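import Mathlib
import Cfsg.Statements.S0250
import Cfsg.Agent.Lib.Helper3.PermIso
import Cfsg.Agent.Lib.Helper3.CardSL

set_option autoImplicit false
open Cfsg

namespace Cfsg.Agent.S0250

open Cfsg.Agent.Lib.Helper3

/-- SL_2(2) is isomorphic to S_3. -/
theorem result {F : Type*} [Field F] [Fintype F] (hF : Fintype.card F = 2) : Nonempty (Matrix.SpecialLinearGroup (Fin 2) F ≃* Equiv.Perm (Fin 3)) := by
  classical
  have h2 : (2 : F) = 0 := by
    have := Nat.cast_card_eq_zero F
    rw [hF] at this
    exact_mod_cast this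
  have : CharP F 2 := CharTwo.of_one_ne_zero_of_two_eq_zero one_ne_zero h2
  have : Fintype (Projectivization F (Fin 2 → F)) := Fintype.ofFinite _
  have hX : Fintype.card (Projectivization F (Fin 2 → F)) = 3 := by
    rw [← Nat.card_eq_fintype_card, Projectivization.card_of_finrank_two F (Fin 2 → F) (by simp),
      Nat.card_eq_fintype_card, hF]
  have hinj : Function.Injective
      (MulAction.toPermHom (Matrix.SpecialLinearGroup (Fin 2) F) (Projectivization F (Fin 2 → F))) := by
    rw [← MonoidHom.ker_eq_bot_iff, Projectivization.SL_mulAction_ker, CardSL.center_SL2_eq_bot]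
  have hG : Nat.card (Matrix.SpecialLinearGroup (Fin 2) F) = (3).factorial := by
    rw [CardSL.card_SL2, hF]
    rfl
  exact PermIso.nonempty_mulEquiv_perm _ hinj 3 hX hG

end Cfsg.Agent.S0250
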