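-- Statement S0293
import Cfsg.Statements.S0293
import Mathlib
import Cfsg.Agent.Lib.Helper6.OmegaCentralizer
import Cfsg.Agent.Lib.Helper15.QuadF2a
import Cfsg.Agent.S0287
import Cfsg.Agent.S0790

set_option autoImplicit false
open Cfsg

namespace Cfsg.Agent.S0293

open Cfsg.Agent.Lib.Helper6 Cfsg.Agent.Lib.Helper15 Matrix

theorem gcd4 (n r : ℕ) (h : n % 4 = r) : Nat.gcd 4 n = Nat.gcd r 4 := by
  rw [Nat.gcd_rec, h]

theorem even_card_of_two {F : Type*} [Field F] [Fintype F] (h2 : (2 : F) = 0) :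
    Even (Fintype.card F) := by
  have hF : ringChar F = 2 := CharP.ringChar_of_prime_eq_zero Nat.prime_two (by exact_mod_cast h2)
  exact Nat.even_iff.mpr (FiniteField.even_card_of_char_two hF)

theorem odd_card_of_two {F : Type*} [Field F] [Fintype F] (h2 : (2 : F) ≠ 0) :
    Odd (Fintype.card F) := by
  have hF : ringChar F ≠ 2 := by
    intro h
    apply h2
    have := ringChar.spec F 2
    have h3 : ((2 : ℕ) : F) = 0 := by rw [this, h]
    exact_mod_cast h3
  exact Nat.odd_iff.mpr (FiniteField.odd_card_of_char_ne_two hF)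

section
variable (F : Type*) [Field F] (m : ℕ)

/-- the hyperbolic triple of the plus type form -/
noncomputable def plusTriple (hm : 3 ≤ m) : HypTriple (QPlus F m) where
  u i := Pi.single (Sum.inl (Fin.castLE hm i)) 1
  w i := Pi.single (Sum.inr (Fin.castLE hm i)) 1
  huu i k := by
    rw [polar_QPlus]
    simp [Pi.single_apply]
  hww i k := by
    rw [polar_QPlus]
    simp [Pi.single_apply]
  huw i k := by
    rw [polar_QPlus]
    simp only [Pi.single_apply, Sum.inl.injEq, Sum.inr.injEq, reduceCtorEq, if_false, mul_zero,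
      add_zero, ite_mul, one_mul, zero_mul]
    rw [Finset.sum_ite_eq' Finset.univ (Fin.castLE hm i)]
    simp only [Finset.mem_univ, if_true]
    by_cases hik : i = k
    · rw [if_pos hik, if_pos (by rw [hik])]
    · rw [if_neg hik, if_neg (fun e => hik ((Fin.castLE_injective hm) e))]
  hQu i := by
    rw [QPlus_apply]
    unfold Cfsg.quadFormPlus
    simp [Pi.single_apply]
  hQw i := by
    rw [QPlus_apply]
    unfold Cfsg.quadFormPlus
    simp [Pi.single_apply]

end

/-- gcd(4, q^m - 1) |PΩ^+_{2m}(q)| = q^(m(m-1)) (q^m - 1) prod_{i=1}^{m-1} (q^(2i) - 1), m at least 4 (type D_m). -/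
theorem result {F : Type*} [Field F] [Fintype F] {q : ℕ} (hF : Fintype.card F = q) (m : ℕ) (hm : 4 ≤ m) : Nat.gcd 4 (q ^ m - 1) * Nat.card (Cfsg.POmega F (Cfsg.quadFormPlus m F)) = q ^ (m * (m - 1)) * (q ^ m - 1) * ∏ i ∈ Finset.range (m - 1), (q ^ (2 * (i + 1)) - 1) := by
  classical
  have hO := Cfsg.Agent.S0287.result hF m (by omega)
  have hfun : Cfsg.quadFormPlus m F = ⇑(QPlus F m) := (funext (QPlus_apply F m)).symm
  have hneg := fun hodd => Cfsg.Agent.S0790.result hF hodd m (by omega)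
  rw [hfun] at hO hneg ⊢
  have hQ := nondegenerate_QPlus F m
  have hcardι : Fintype.card (Fin m ⊕ Fin m) = 2 * m := by
    rw [Fintype.card_sum, Fintype.card_fin]; ring
  have hex : Fintype.card F ≠ 2 ∨ Fintype.card (Fin m ⊕ Fin m) ≠ 4 := by
    right; rw [hcardι]; omega
  have hmul := card_POmega_mul (QPlus F m) hQ hex (plusTriple F m (by omega))
  rw [hO] at hmul
  have h4 : 2 * q ^ (m * (m - 1)) * (q ^ m - 1) * ∏ i ∈ Finset.range (m - 1), (q ^ (2 * (i + 1)) - 1) =
      2 * (q ^ (m * (m - 1)) * (q ^ m - 1) * ∏ i ∈ Finset.range (m - 1), (q ^ (2 * (i + 1)) - 1)) := by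
    ring
  rw [h4] at hmul
  generalize q ^ (m * (m - 1)) * (q ^ m - 1) * ∏ i ∈ Finset.range (m - 1), (q ^ (2 * (i + 1)) - 1) = X
    at hmul ⊢
  generalize Nat.card (Cfsg.POmega F ⇑(QPlus F m)) = P at hmul ⊢
  by_cases h2 : (2 : F) = 0
  · -- even q
    have hidx := index_Omega_two' (QPlus F m) h2 hQ (by rw [hcardι]; omega) hex
    rw [hidx, if_neg (fun hc => hc.1 h2)] at hmul
    have hq : Even q := by rw [← hF]; exact even_card_of_two h2
    have hqm : Even (q ^ m) := hq.pow_of_ne_zero (by omega)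
    have hpos : 0 < q ^ m := by
      apply Nat.pow_pos
      rw [← hF]; exact Fintype.card_pos
    have hmod : (q ^ m - 1) % 4 = 1 ∨ (q ^ m - 1) % 4 = 3 := by
      obtain ⟨t, ht⟩ := hqm
      omega
    have hg : Nat.gcd 4 (q ^ m - 1) = 1 := by
      rcases hmod with h | h
      · rw [gcd4 _ 1 h]; rfl
      · rw [gcd4 _ 3 h]; rfl
    rw [hg]
    omega
  · -- odd q
    have hodd : Odd q := by rw [← hF]; exact odd_card_of_two h2
    have hidx := index_Omega' (QPlus F m) h2 hQ (by rw [hcardι]; omega)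
    rw [hidx] at hmul
    have hiff := (exists_neg_iff (QPlus F m)).symm.trans (hneg hodd)
    have hqm : Odd (q ^ m) := hodd.pow
    by_cases h1 : q ^ m % 4 = 1
    · rw [if_pos ⟨h2, hiff.mpr h1⟩] at hmul
      have hg : Nat.gcd 4 (q ^ m - 1) = 4 := by
        rw [gcd4 _ 0 (by omega)]; rfl
      rw [hg]
      omega
    · rw [if_neg (fun hc => h1 (hiff.mp hc.2))] at hmul
      have h3 : q ^ m % 4 = 3 := by
        obtain ⟨t, ht⟩ := hqm
        omega
      have hg : Nat.gcd 4 (q ^ m - 1) = 2 := by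
        rw [gcd4 _ 2 (by omega)]; rfl
      rw [hg]
      omega

end Cfsg.Agent.S0293
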