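-- Statement S0791
import Cfsg.Statements.S0791
import Mathlib
import Cfsg.Agent.Lib.Helper14.OrthoLevel
import Cfsg.Agent.S0790

set_option autoImplicit false
open Cfsg

namespace Cfsg.Agent.S0791

open Matrix Module Cfsg.Agent.Lib.Helper14 Cfsg.Agent.Lib.Helper15 Cfsg.Agent.S2235

section
variable {F : Type*} [Field F] [Fintype F]

theorem minus_eq (k : ℕ) (a b : F) (v : (Fin k ⊕ Fin k) ⊕ Fin 2 → F) :
    Cfsg.quadFormMinus k F a b v =
      (∑ i : Fin k, v (.inl (.inl i)) * v (.inl (.inr i))) + binForm a b (fun j => v (.inr j)) := by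
  rw [binForm_apply]
  rfl

/-- two anisotropic binary forms are isometric -/
theorem exists_bin_equiv (a b a' b' : F)
    (hab : ∀ z₁ z₂ : F, z₁ ^ 2 + a * z₁ * z₂ + b * z₂ ^ 2 = 0 → z₁ = 0 ∧ z₂ = 0)
    (hab' : ∀ z₁ z₂ : F, z₁ ^ 2 + a' * z₁ * z₂ + b' * z₂ ^ 2 = 0 → z₁ = 0 ∧ z₂ = 0) :
    ∃ Φ : (Fin 2 → F) ≃ₗ[F] (Fin 2 → F), ∀ x, binForm a' b' (Φ x) = binForm a b x := by
  classical
  obtain ⟨Φ, hΦ⟩ := exists_isometry_binForm a b hab (binForm a' b')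
    (nondegenerate_binForm a' b' hab') (by simp)
    (fun c => by rw [card_binForm_value a b hab, card_binForm_value a' b' hab'])
  have hinj : Function.Injective Φ := by
    rw [← LinearMap.ker_eq_bot, LinearMap.ker_eq_bot']
    intro x hx
    have := hΦ x
    rw [hx, map_zero] at this
    exact (binForm_eq_zero_iff a b hab x).mp this.symm
  exact ⟨LinearEquiv.ofInjectiveEndo Φ hinj, hΦ⟩

/-- two minus type forms of the same dimension are isometric -/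
theorem exists_minus_equiv (k : ℕ) (a b a' b' : F)
    (hab : ∀ z₁ z₂ : F, z₁ ^ 2 + a * z₁ * z₂ + b * z₂ ^ 2 = 0 → z₁ = 0 ∧ z₂ = 0)
    (hab' : ∀ z₁ z₂ : F, z₁ ^ 2 + a' * z₁ * z₂ + b' * z₂ ^ 2 = 0 → z₁ = 0 ∧ z₂ = 0) :
    ∃ L : ((Fin k ⊕ Fin k) ⊕ Fin 2 → F) ≃ₗ[F] ((Fin k ⊕ Fin k) ⊕ Fin 2 → F),
      ∀ v, Cfsg.quadFormMinus k F a' b' (L v) = Cfsg.quadFormMinus k F a b v := by
  obtain ⟨Φ, hΦ⟩ := exists_bin_equiv a b a' b' hab hab'
  let e := LinearEquiv.sumArrowLequivProdArrow (Fin k ⊕ Fin k) (Fin 2) F F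
  let L := (e.trans ((LinearEquiv.refl F (Fin k ⊕ Fin k → F)).prodCongr Φ)).trans e.symm
  refine ⟨L, ?_⟩
  intro v
  have h1 : ∀ i, L v (Sum.inl i) = v (Sum.inl i) := fun i => rfl
  have h2 : (fun j => L v (Sum.inr j)) = Φ (fun j => v (Sum.inr j)) := rfl
  rw [minus_eq, minus_eq, h2, hΦ]
  simp only [h1]

end

/-- −1 ∈ Ω⁻_2m(q) iff q^m ≡ −1 (mod 4), for q odd and m ≥ 1; for the minus-type form quadFormMinus (m−1) with anisotropic binary part. -/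
theorem result {F : Type*} [Field F] [Fintype F] {q : ℕ} (hF : Fintype.card F = q) (hodd : Odd q) (m : ℕ) (hm : 1 ≤ m) (a b : F) (hab : ∀ z₁ z₂ : F, z₁ ^ 2 + a * z₁ * z₂ + b * z₂ ^ 2 = 0 → z₁ = 0 ∧ z₂ = 0) : (∃ g : ↥(Cfsg.isometryGroup F (Cfsg.quadFormMinus (m - 1) F a b)), g ∈ Cfsg.Omega F (Cfsg.quadFormMinus (m - 1) F a b) ∧ ((g : Matrix.GeneralLinearGroup ((Fin (m - 1) ⊕ Fin (m - 1)) ⊕ Fin 2) F) : Matrix ((Fin (m - 1) ⊕ Fin (m - 1)) ⊕ Fin 2) ((Fin (m - 1) ⊕ Fin (m - 1)) ⊕ Fin 2) F) = -1) ↔ q ^ m % 4 = 3 := by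
  classical
  subst hF
  have h2 := two_ne_zero_of_odd hodd
  have hqm : Odd (Fintype.card F ^ m) := hodd.pow
  constructor
  · rintro ⟨g, hgmem, hg⟩
    by_contra hne
    have hq1 : Fintype.card F ^ (m - 1 + 1) % 4 = 1 := by
      rw [Nat.sub_add_cancel hm]
      rcases Nat.odd_iff.mp hqm with h
      omega
    exact neg_one_not_mem_Omega h2 _ (by unfold Cfsg.quadFormMinus; simp) 1 one_ne_zero
      (card_level_minus (m - 1) a b hab hodd hq1 1 one_ne_zero) g hg hgmem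
  · intro hq
    obtain ⟨ζ, hirr, L₁, hL₁⟩ := exists_Nf_minus (F := F) m hm hodd hq
    have habζ : ∀ z₁ z₂ : F, z₁ ^ 2 + 1 * z₁ * z₂ + ζ * z₂ ^ 2 = 0 → z₁ = 0 ∧ z₂ = 0 := by
      intro z₁ z₂ h
      by_cases hz : z₂ = 0
      · subst hz
        simp at h
        exact ⟨h, rfl⟩
      · exfalso
        apply hirr (z₁ / z₂)
        field_simp
        linear_combination h
    obtain ⟨L₂, hL₂⟩ := exists_minus_equiv (m - 1) 1 ζ a b habζ hab
    obtain ⟨x, hx, hxmem⟩ := neg_one_mem_Omega_Nf (F := F) (κ := Fin (2 * m - 1))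
      (by rw [Fintype.card_fin, Nat.odd_iff]; omega)
    exact Cfsg.Agent.S0790.neg_one_transfer _ _ (L₁.trans L₂)
      (fun w => by rw [one_mul, LinearEquiv.trans_apply, hL₂, ← hL₁]) x hx hxmem

end Cfsg.Agent.S0791
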