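-- Statement S0294
import Cfsg.Statements.S0294
import Mathlib
import Cfsg.Agent.Lib.Helper6.OmegaCentralizer
import Cfsg.Agent.Lib.Helper15.QuadCount6
import Cfsg.Agent.S0288
import Cfsg.Agent.S0791
import Cfsg.Agent.S0293

set_option autoImplicit false
open Cfsg

namespace Cfsg.Agent.S0294

open Cfsg.Agent.Lib.Helper6 Cfsg.Agent.Lib.Helper15 Matrix Cfsg.Agent.S0293

section
variable {F : Type*} [Field F] (k : ℕ) (T : QuadraticForm F (Fin 2 → F))

/-- the hyperbolic triple of the minus type form -/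
noncomputable def minusTriple (hk : 3 ≤ k) : HypTriple (Qgen k T) where
  u i := Pi.single (Sum.inl (Sum.inl (Fin.castLE hk i))) 1
  w i := Pi.single (Sum.inl (Sum.inr (Fin.castLE hk i))) 1
  huu i j := by
    rw [polar_Qgen]
    have h0 : (fun a : Fin 2 => (Pi.single (Sum.inl (Sum.inl (Fin.castLE hk i))) (1 : F) :
        (Fin k ⊕ Fin k) ⊕ Fin 2 → F) (Sum.inr a)) = 0 := by
      funext a; simp [Pi.single_apply]
    rw [h0, QuadraticMap.polar_zero_left]
    simp [Pi.single_apply]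
  hww i j := by
    rw [polar_Qgen]
    have h0 : (fun a : Fin 2 => (Pi.single (Sum.inl (Sum.inr (Fin.castLE hk i))) (1 : F) :
        (Fin k ⊕ Fin k) ⊕ Fin 2 → F) (Sum.inr a)) = 0 := by
      funext a; simp [Pi.single_apply]
    rw [h0, QuadraticMap.polar_zero_left]
    simp [Pi.single_apply]
  huw i j := by
    rw [polar_Qgen]
    have h0 : (fun a : Fin 2 => (Pi.single (Sum.inl (Sum.inl (Fin.castLE hk i))) (1 : F) :
        (Fin k ⊕ Fin k) ⊕ Fin 2 → F) (Sum.inr a)) = 0 := by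
      funext a; simp [Pi.single_apply]
    rw [h0, QuadraticMap.polar_zero_left, add_zero]
    simp only [Pi.single_apply, Sum.inl.injEq, Sum.inr.injEq, reduceCtorEq, if_false, mul_zero,
      add_zero, ite_mul, one_mul, zero_mul]
    rw [Finset.sum_ite_eq' Finset.univ (Fin.castLE hk i)]
    simp only [Finset.mem_univ, if_true]
    by_cases hij : i = j
    · rw [if_pos hij, if_pos (by rw [hij])]
    · rw [if_neg hij, if_neg (fun e => hij ((Fin.castLE_injective hk) e))]
  hQu i := by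
    rw [Qgen_apply]
    have h0 : (fun a : Fin 2 => (Pi.single (Sum.inl (Sum.inl (Fin.castLE hk i))) (1 : F) :
        (Fin k ⊕ Fin k) ⊕ Fin 2 → F) (Sum.inr a)) = 0 := by
      funext a; simp [Pi.single_apply]
    rw [h0, map_zero]
    simp [Pi.single_apply]
  hQw i := by
    rw [Qgen_apply]
    have h0 : (fun a : Fin 2 => (Pi.single (Sum.inl (Sum.inr (Fin.castLE hk i))) (1 : F) :
        (Fin k ⊕ Fin k) ⊕ Fin 2 → F) (Sum.inr a)) = 0 := by
      funext a; simp [Pi.single_apply]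
    rw [h0, map_zero]
    simp [Pi.single_apply]

end

/-- gcd(4, q^m + 1) |PΩ^-_{2m}(q)| = q^(m(m-1)) (q^m + 1) prod_{i=1}^{m-1} (q^(2i) - 1), m at least 4 (type ²D_m). -/
theorem result {F : Type*} [Field F] [Fintype F] {q : ℕ} (hF : Fintype.card F = q) (m : ℕ) (hm : 4 ≤ m) (a b : F) (hab : ∀ z₁ z₂ : F, z₁ ^ 2 + a * z₁ * z₂ + b * z₂ ^ 2 = 0 → z₁ = 0 ∧ z₂ = 0) : Nat.gcd 4 (q ^ m + 1) * Nat.card (Cfsg.POmega F (Cfsg.quadFormMinus (m - 1) F a b)) = q ^ (m * (m - 1)) * (q ^ m + 1) * ∏ i ∈ Finset.range (m - 1), (q ^ (2 * (i + 1)) - 1) := by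
  classical
  have hO := Cfsg.Agent.S0288.result hF m (by omega) a b hab
  have hfun : Cfsg.quadFormMinus (m - 1) F a b = ⇑(Qgen (m - 1) (binForm a b)) := by
    funext v
    rw [Qgen_apply, binForm_apply]
    rfl
  have hneg := fun hodd => Cfsg.Agent.S0791.result hF hodd m (by omega) a b hab
  rw [hfun] at hO hneg ⊢
  have hQ := nondegenerate_Qgen (m - 1) (binForm a b) (nondegenerate_binForm a b hab)
  have hcardι : Fintype.card ((Fin (m - 1) ⊕ Fin (m - 1)) ⊕ Fin 2) = 2 * m := by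
    rw [Fintype.card_sum, Fintype.card_sum, Fintype.card_fin, Fintype.card_fin]; omega
  have hex : Fintype.card F ≠ 2 ∨ Fintype.card ((Fin (m - 1) ⊕ Fin (m - 1)) ⊕ Fin 2) ≠ 4 := by
    right; rw [hcardι]; omega
  have hmul := card_POmega_mul (Qgen (m - 1) (binForm a b)) hQ hex
    (minusTriple (m - 1) (binForm a b) (by omega))
  rw [hO] at hmul
  have h4 : 2 * q ^ (m * (m - 1)) * (q ^ m + 1) * ∏ i ∈ Finset.range (m - 1), (q ^ (2 * (i + 1)) - 1) =
      2 * (q ^ (m * (m - 1)) * (q ^ m + 1) * ∏ i ∈ Finset.range (m - 1), (q ^ (2 * (i + 1)) - 1)) := by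
    ring
  rw [h4] at hmul
  generalize q ^ (m * (m - 1)) * (q ^ m + 1) * ∏ i ∈ Finset.range (m - 1), (q ^ (2 * (i + 1)) - 1) = X
    at hmul ⊢
  generalize Nat.card (Cfsg.POmega F ⇑(Qgen (m - 1) (binForm a b))) = P at hmul ⊢
  by_cases h2 : (2 : F) = 0
  · -- even q
    have hidx := index_Omega_two' (Qgen (m - 1) (binForm a b)) h2 hQ (by rw [hcardι]; omega) hex
    rw [hidx, if_neg (fun hc => hc.1 h2)] at hmul
    have hq : Even q := by rw [← hF]; exact even_card_of_two h2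
    have hqm : Even (q ^ m) := hq.pow_of_ne_zero (by omega)
    have hmod : (q ^ m + 1) % 4 = 1 ∨ (q ^ m + 1) % 4 = 3 := by
      obtain ⟨t, ht⟩ := hqm
      omega
    have hg : Nat.gcd 4 (q ^ m + 1) = 1 := by
      rcases hmod with h | h
      · rw [gcd4 _ 1 h]; rfl
      · rw [gcd4 _ 3 h]; rfl
    rw [hg]
    omega
  · -- odd q
    have hodd : Odd q := by rw [← hF]; exact odd_card_of_two h2
    have hidx := index_Omega' (Qgen (m - 1) (binForm a b)) h2 hQ (by rw [hcardι]; omega)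
    rw [hidx] at hmul
    have hiff := (exists_neg_iff (Qgen (m - 1) (binForm a b))).symm.trans (hneg hodd)
    have hqm : Odd (q ^ m) := hodd.pow
    by_cases h1 : q ^ m % 4 = 3
    · rw [if_pos ⟨h2, hiff.mpr h1⟩] at hmul
      have hg : Nat.gcd 4 (q ^ m + 1) = 4 := by
        rw [gcd4 _ 0 (by omega)]; rfl
      rw [hg]
      omega
    · rw [if_neg (fun hc => h1 (hiff.mp hc.2))] at hmul
      have h3 : q ^ m % 4 = 1 := by
        obtain ⟨t, ht⟩ := hqm
        omega
      have hg : Nat.gcd 4 (q ^ m + 1) = 2 := by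
        rw [gcd4 _ 2 (by omega)]; rfl
      rw [hg]
      omega

end Cfsg.Agent.S0294
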