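-- Statement S2726
import Cfsg.Statements.S2726
import Mathlib
import Cfsg.Agent.Lib.Helper6.SimAut2
import Cfsg.Agent.Lib.Helper6.MinusSim
import Cfsg.Agent.Lib.Helper15.QuadCount6
import Cfsg.Agent.S0294

set_option autoImplicit false
open Cfsg

namespace Cfsg.Agent.S2726

open Cfsg.Agent.Lib.Helper6 Cfsg.Agent.Lib.Helper6.OmegaAut Cfsg.Agent.Lib.Helper6.SimAut
  Cfsg.Agent.Lib.Helper15 Cfsg.Agent.S0294 Matrix

/-- a similarity of the minus type form with non-square multiplier -/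
theorem exists_sim {F : Type*} [Field F] [Fintype F] (hodd : Odd (Fintype.card F)) (m : ℕ) (a b : F)
    (hab : (∀ z₁ z₂ : F, z₁ ^ 2 + a * z₁ * z₂ + b * z₂ ^ 2 = 0 → z₁ = 0 ∧ z₂ = 0))
    (v₀ : (Fin m ⊕ Fin m) ⊕ Fin 2 → F) (hv₀ : Qgen m (binForm a b) v₀ ≠ 0) :
    ∃ h : ↥(GO (Qgen m (binForm a b))), ¬ IsSquare ((mulr (Qgen m (binForm a b)) h : Fˣ) : F) := by
  classical
  have h2 : (2 : F) ≠ 0 := two_ne_zero_of_odd_card hodd
  have hQ := nondegenerate_Qgen m (binForm a b) (nondegenerate_binForm a b hab)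
  have hchar : ringChar F ≠ 2 := by
    intro h
    apply h2
    have := ringChar.spec F 2
    have h3 : ((2 : ℕ) : F) = 0 := by rw [this, h]
    exact_mod_cast h3
  obtain ⟨lam, hlam⟩ := FiniteField.exists_nonsquare hchar
  have hlam0 : lam ≠ 0 := by
    rintro rfl
    exact hlam ⟨0, (mul_zero 0).symm⟩
  obtain ⟨u, hu⟩ := exists_binForm_eq a b hab lam
  have hspec : ∀ v, Qgen m (binForm a b) (minusSimMat m a b lam u *ᵥ v) =
      ((Units.mk0 lam hlam0 : Fˣ) : F) * Qgen m (binForm a b) v := minusSimMat_spec m a b lam u hu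
  refine ⟨simOfMatrix _ hQ (minusSimMat m a b lam u) (Units.mk0 lam hlam0) hspec, ?_⟩
  have := mulr_simOfMatrix _ hQ (minusSimMat m a b lam u) (Units.mk0 lam hlam0) hspec v₀ hv₀
  rw [this]
  exact hlam

set_option maxHeartbeats 1600000 in
theorem result {F : Type*} [Field F] [Fintype F] (hodd : Odd (Fintype.card F)) {m : ℕ} (hm : 3 ≤ m) (a b : F) (hab : (∀ z₁ z₂ : F, z₁ ^ 2 + a * z₁ * z₂ + b * z₂ ^ 2 = 0 → z₁ = 0 ∧ z₂ = 0)) :
    (∃ φ : ↥(Cfsg.pgoAut F (Cfsg.quadFormMinus m F a b)) →* Multiplicative (ZMod 2 × ZMod 2), Function.Surjective φ ∧ φ.ker = (Cfsg.psoAut F (Cfsg.quadFormMinus m F a b)).subgroupOf (Cfsg.pgoAut F (Cfsg.quadFormMinus m F a b))) := by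
  classical
  have hfun : Cfsg.quadFormMinus m F a b = ⇑(Qgen m (binForm a b)) := by
    funext v
    rw [Qgen_apply, binForm_apply]
    rfl
  rw [hfun]
  have hQ := nondegenerate_Qgen m (binForm a b) (nondegenerate_binForm a b hab)
  have h2 : (2 : F) ≠ 0 := two_ne_zero_of_odd_card hodd
  have hcardι : Fintype.card ((Fin m ⊕ Fin m) ⊕ Fin 2) = 2 * (m + 1) := by
    rw [Fintype.card_sum, Fintype.card_sum, Fintype.card_fin, Fintype.card_fin]; ring
  set T := minusTriple m (binForm a b) hm with hT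
  obtain ⟨h, hh⟩ := exists_sim hodd m a b hab _ (T_nonsingular _ T)
  exact exists_hom_pgoAut_psoAut (Qgen m (binForm a b)) h2 hQ (by rw [hcardι]; omega) T (m + 1)
    hcardι h hh

end Cfsg.Agent.S2726
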