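-- Statement S2729
import Cfsg.Statements.S2729
import Mathlib
import Cfsg.Agent.Lib.Helper6.Inndiag2
import Cfsg.Agent.Lib.Helper6.ExtQuad
import Cfsg.Agent.Lib.Helper6.MinusDiag
import Cfsg.Agent.Lib.Helper6.MinusSim
import Cfsg.Agent.Lib.Helper15.QuadCount6
import Cfsg.Agent.S0294
import Cfsg.Agent.S0791

set_option autoImplicit false
open Cfsg

namespace Cfsg.Agent.S2729

open Cfsg.Agent.Lib.Helper6 Cfsg.Agent.Lib.Helper6.OmegaAut Cfsg.Agent.Lib.Helper6.SimAut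
  Cfsg.Agent.Lib.Helper6.Inndiag Cfsg.Agent.Lib.Helper6.ExtQuad Cfsg.Agent.Lib.Helper6.MinusDiag
  Cfsg.Agent.Lib.Helper6.LamDiag
  Cfsg.Agent.Lib.Helper15 Cfsg.Agent.S0294 Matrix

theorem minusSimMat_det {F : Type*} [Field F] (m : ℕ) (a b lam : F) (u : Fin 2 → F)
    (hu : binForm a b u = lam) : (minusSimMat m a b lam u).det = lam ^ (m + 1) := by
  unfold minusSimMat
  rw [Matrix.det_fromBlocks_zero₁₂, Matrix.det_diagonal, Fintype.prod_sum_type, Matrix.det_fin_two_of,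
    ← hu, binForm_apply]
  simp
  ring

theorem sq_eq_scal_mul {F : Type*} [Field F] {ι : Type} [Fintype ι] [DecidableEq ι]
    (Q : QuadraticForm F (ι → F)) (h d : ↥(GO Q)) (c : Fˣ)
    (hmat : ((h.1 : GL ι F) : Matrix ι ι F) * ((h.1 : GL ι F) : Matrix ι ι F) =
      (c : F) • ((d.1 : GL ι F) : Matrix ι ι F)) :
    h * h = ⟨scalGL c, scalGL_mem_GO Q c⟩ * d := by
  apply Subtype.ext
  apply Units.ext
  change ((h.1 : GL ι F) : Matrix ι ι F) * ((h.1 : GL ι F) : Matrix ι ι F) =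
    ((scalGL c : GL ι F) : Matrix ι ι F) * ((d.1 : GL ι F) : Matrix ι ι F)
  rw [hmat, scalGL_val, Matrix.smul_mul, Matrix.one_mul]

set_option maxHeartbeats 1600000 in
theorem main {F : Type*} [Field F] [Fintype F] (hodd : Odd (Fintype.card F)) {m : ℕ} (hm : 3 ≤ m) (a b : F)
    (hab : (∀ z₁ z₂ : F, z₁ ^ 2 + a * z₁ * z₂ + b * z₂ ^ 2 = 0 → z₁ = 0 ∧ z₂ = 0))
    (q : ((Fin m ⊕ Fin m) ⊕ Fin 2 → F) → F) (hq : q = ⇑(Qgen m (binForm a b)))
    (hneg : (∃ g : ↥(Cfsg.isometryGroup F q), g ∈ Cfsg.Omega F q ∧ ((g : Matrix.GeneralLinearGroup ((Fin m ⊕ Fin m) ⊕ Fin 2) F) : Matrix ((Fin m ⊕ Fin m) ⊕ Fin 2) ((Fin m ⊕ Fin m) ⊕ Fin 2) F) = -1) ↔ Fintype.card F ^ (m + 1) % 4 = 3) :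
    ((Even m ∧ Fintype.card F % 4 = 3) → (∃ φ : ↥(Subgroup.closure {β : MulAut (Cfsg.POmega F q) | ∃ g : GL ((Fin m ⊕ Fin m) ⊕ Fin 2) F,
      g ∈ Cfsg.Geo.quadSimilarityGroup (F := F) q ∧
      Cfsg.PreservesSingularClassesMinus m a b (g : Matrix ((Fin m ⊕ Fin m) ⊕ Fin 2) ((Fin m ⊕ Fin m) ⊕ Fin 2) F) ∧
      Cfsg.IsInducedBySemilinearPOmega q g (RingEquiv.refl F) β}) →* Multiplicative (ZMod 4), Function.Surjective φ ∧ φ.ker = (Cfsg.Inn (Cfsg.POmega F q)).subgroupOf _)) ∧ (¬ (Even m ∧ Fintype.card F % 4 = 3) → (∃ φ : ↥(Subgroup.closure {β : MulAut (Cfsg.POmega F q) | ∃ g : GL ((Fin m ⊕ Fin m) ⊕ Fin 2) F,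
      g ∈ Cfsg.Geo.quadSimilarityGroup (F := F) q ∧
      Cfsg.PreservesSingularClassesMinus m a b (g : Matrix ((Fin m ⊕ Fin m) ⊕ Fin 2) ((Fin m ⊕ Fin m) ⊕ Fin 2) F) ∧
      Cfsg.IsInducedBySemilinearPOmega q g (RingEquiv.refl F) β}) →* Multiplicative (ZMod 2), Function.Surjective φ ∧ φ.ker = (Cfsg.Inn (Cfsg.POmega F q)).subgroupOf _)) := by
  classical
  subst hq
  have hQ := nondegenerate_Qgen m (binForm a b) (nondegenerate_binForm a b hab)
  have h2 : (2 : F) ≠ 0 := two_ne_zero_of_odd_card hodd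
  have hcardι : Fintype.card ((Fin m ⊕ Fin m) ⊕ Fin 2) = 2 * (m + 1) := by
    rw [Fintype.card_sum, Fintype.card_sum, Fintype.card_fin, Fintype.card_fin]; ring
  have h5 : 5 ≤ Fintype.card ((Fin m ⊕ Fin m) ⊕ Fin 2) := by rw [hcardι]; omega
  have hiff := (exists_neg_iff (Qgen m (binForm a b))).symm.trans hneg
  have hq : Fintype.card F % 4 = 1 ∨ Fintype.card F % 4 = 3 := by
    obtain ⟨k, hk⟩ := hodd
    omega
  have hpow : Fintype.card F ^ (m + 1) % 4 = 3 ↔ (Even m ∧ Fintype.card F % 4 = 3) := by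
    rw [Nat.pow_mod]
    rcases hq with h | h
    · rw [h, one_pow]
      simp
    · rw [h]
      rcases Nat.even_or_odd m with he | ho
      · obtain ⟨k, rfl⟩ := he
        have : 3 ^ (k + k + 1) % 4 = 3 := by
          rw [← two_mul, pow_succ, pow_mul, Nat.mul_mod, Nat.pow_mod]
          norm_num
        rw [this]
        simp only [true_iff]
        exact ⟨⟨k, rfl⟩, trivial⟩
      · obtain ⟨k, rfl⟩ := ho
        have : 3 ^ (2 * k + 1 + 1) % 4 = 1 := by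
          have : 2 * k + 1 + 1 = 2 * (k + 1) := by ring
          rw [this, pow_mul, Nat.pow_mod]
          norm_num
        rw [this]
        simp only [Nat.reduceEqDiff, false_iff, not_and]
        intro he
        exact absurd he (by rw [Nat.not_even_iff_odd]; exact ⟨k, rfl⟩)
  have hchar : ringChar F ≠ 2 := by
    intro h
    apply h2
    have := ringChar.spec F 2
    have h3 : ((2 : ℕ) : F) = 0 := by rw [this, h]
    exact_mod_cast h3
  obtain ⟨lam, hlam⟩ := FiniteField.exists_nonsquare hchar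
  have hlam0 : lam ≠ 0 := by
    rintro rfl
    exact hlam ⟨0, (mul_zero 0).symm⟩
  set lamU : Fˣ := Units.mk0 lam hlam0 with hlamU
  obtain ⟨u, hu⟩ := exists_binForm_eq a b hab lam
  have hspec : ∀ v, Qgen m (binForm a b) (minusSimMat m a b lam u *ᵥ v) =
      ((lamU : Fˣ) : F) * Qgen m (binForm a b) v := minusSimMat_spec m a b lam u hu
  set T := minusTriple m (binForm a b) hm with hT
  have hv₀ := T_nonsingular _ T
  set h : ↥(GO (Qgen m (binForm a b))) := simOfMatrix _ hQ (minusSimMat m a b lam u) lamU hspec with hh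
  have hmulr : mulr (Qgen m (binForm a b)) h = lamU :=
    mulr_simOfMatrix _ hQ (minusSimMat m a b lam u) lamU hspec _ hv₀
  have hhsq : ¬ IsSquare ((mulr (Qgen m (binForm a b)) h : Fˣ) : F) := by
    rw [hmulr]
    exact hlam
  have hhK : h ∈ KK (Qgen m (binForm a b)) _ hv₀ (m + 1) := by
    rw [mem_KK_iff, hmulr]
    exact minusSimMat_det m a b lam u hu
  have hpsc : ∀ g : ↥(GO (Qgen m (binForm a b))),
      Cfsg.PreservesSingularClassesMinus m a b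
        ((g.1 : GL ((Fin m ⊕ Fin m) ⊕ Fin 2) F) :
          Matrix ((Fin m ⊕ Fin m) ⊕ Fin 2) ((Fin m ⊕ Fin m) ⊕ Fin 2) F) ↔
      g ∈ KK (Qgen m (binForm a b)) _ hv₀ (m + 1) := by
    intro g
    rw [mem_KK_iff]
    exact pscMinus_iff m a b hodd hab g.1 (mulr _ g) (Units.ne_zero _) (mulr_spec _ g)
  rw [inndiag_eq' (Qgen m (binForm a b)) (Cfsg.PreservesSingularClassesMinus m a b)
    (KK (Qgen m (binForm a b)) _ hv₀ (m + 1)) hpsc]
  constructor
  · rintro ⟨hmeven, hq3⟩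
    have hnegmem : negIso (Qgen m (binForm a b)) ∈ Cfsg.Omega F ⇑(Qgen m (binForm a b)) :=
      hiff.mpr (hpow.mpr ⟨hmeven, hq3⟩)
    obtain ⟨d₀, hd₀mat, hd₀Ω⟩ := exists_minusDiag m a b h2 hab lam hlam0 u hu
    rw [isSquare_pow_iff F (m + 1) lam hlam hlam0] at hd₀Ω
    set d : ↥(GO (Qgen m (binForm a b))) := ⟨d₀.1, isometryGroup_le_GO _ d₀.2⟩ with hd
    have hhd : h * h = ⟨scalGL lamU, scalGL_mem_GO (Qgen m (binForm a b)) lamU⟩ * d := by
      have e1 : ((h.1 : GL ((Fin m ⊕ Fin m) ⊕ Fin 2) F) :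
          Matrix ((Fin m ⊕ Fin m) ⊕ Fin 2) ((Fin m ⊕ Fin m) ⊕ Fin 2) F) = minusSimMat m a b lam u :=
        simOfMatrix_val _ hQ _ lamU hspec
      apply sq_eq_scal_mul
      rw [e1, hd₀mat]
      rfl
    apply inndiag_c4 (Qgen m (binForm a b)) h2 hQ h5 T _ hv₀ (m + 1) hcardι h hhsq hhK hnegmem
      d d₀.2 lamU hhd
    intro hmem
    have := hd₀Ω.mp hmem
    rw [Nat.even_add_one] at this
    exact this hmeven
  · intro hc
    apply inndiag_c2 (Qgen m (binForm a b)) h2 hQ h5 T _ hv₀ (m + 1) hcardι h hhsq hhK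
    intro hmem
    exact hc (hpow.mp (hiff.mp hmem))

theorem result {F : Type*} [Field F] [Fintype F] (hodd : Odd (Fintype.card F)) {m : ℕ} (hm : 3 ≤ m) (a b : F) (hab : (∀ z₁ z₂ : F, z₁ ^ 2 + a * z₁ * z₂ + b * z₂ ^ 2 = 0 → z₁ = 0 ∧ z₂ = 0)) :
    ((Even m ∧ Fintype.card F % 4 = 3) → (∃ φ : ↥(Cfsg.inndiagPOmegaMinus m F a b) →* Multiplicative (ZMod 4), Function.Surjective φ ∧ φ.ker = (Cfsg.Inn (Cfsg.POmega F (Cfsg.quadFormMinus m F a b))).subgroupOf (Cfsg.inndiagPOmegaMinus m F a b))) ∧ (¬ (Even m ∧ Fintype.card F % 4 = 3) → (∃ φ : ↥(Cfsg.inndiagPOmegaMinus m F a b) →* Multiplicative (ZMod 2), Function.Surjective φ ∧ φ.ker = (Cfsg.Inn (Cfsg.POmega F (Cfsg.quadFormMinus m F a b))).subgroupOf (Cfsg.inndiagPOmegaMinus m F a b))) := by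
  have hfun : Cfsg.quadFormMinus m F a b = ⇑(Qgen m (binForm a b)) := by
    funext v
    rw [Qgen_apply, binForm_apply]
    rfl
  have hneg := Cfsg.Agent.S0791.result (F := F) rfl hodd (m + 1) (by omega) a b hab
  rw [Nat.add_sub_cancel] at hneg
  exact main hodd hm a b hab (Cfsg.quadFormMinus m F a b) hfun hneg

end Cfsg.Agent.S2729
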