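-- Statement S2722
import Cfsg.Statements.S2722
import Mathlib
import Cfsg.Agent.Lib.Helper6.SimAut
import Cfsg.Agent.Lib.Helper15.QuadF2a
import Cfsg.Agent.S0293

set_option autoImplicit false
open Cfsg

namespace Cfsg.Agent.S2722

open Cfsg.Agent.Lib.Helper6 Cfsg.Agent.Lib.Helper6.OmegaAut Cfsg.Agent.Lib.Helper6.SimAut
  Cfsg.Agent.Lib.Helper15 Cfsg.Agent.S0293 Matrix

section
variable {F : Type*} [Field F] (m : ℕ)

/-- the diagonal similarity `diag(λ, …, λ, 1, …, 1)` of the plus type form -/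
noncomputable def plusSim (lam : Fˣ) : GL (Fin m ⊕ Fin m) F :=
  ⟨Matrix.diagonal (fun k => Sum.elim (fun _ => (lam : F)) (fun _ => 1) k),
    Matrix.diagonal (fun k => Sum.elim (fun _ => ((lam⁻¹ : Fˣ) : F)) (fun _ => 1) k), by
      rw [Matrix.diagonal_mul_diagonal, ← Matrix.diagonal_one]
      congr 1
      funext k
      rcases k with i | i <;> simp, by
      rw [Matrix.diagonal_mul_diagonal, ← Matrix.diagonal_one]
      congr 1
      funext k
      rcases k with i | i <;> simp⟩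

theorem plusSim_spec (lam : Fˣ) (v : Fin m ⊕ Fin m → F) :
    QPlus F m (((plusSim m lam : GL (Fin m ⊕ Fin m) F) : Matrix _ _ F) *ᵥ v) =
      (lam : F) * QPlus F m v := by
  rw [QPlus_apply, QPlus_apply]
  unfold Cfsg.quadFormPlus
  change ∑ i : Fin m, (Matrix.diagonal _ *ᵥ v) (Sum.inl i) * (Matrix.diagonal _ *ᵥ v) (Sum.inr i) = _
  simp only [Matrix.mulVec_diagonal, Sum.elim_inl, Sum.elim_inr, one_mul]
  rw [Finset.mul_sum]
  apply Finset.sum_congr rfl
  intro i _
  ring

theorem plusSim_mem (lam : Fˣ) : plusSim m lam ∈ GO (QPlus F m) :=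
  ⟨lam, plusSim_spec m lam⟩

end

theorem result {F : Type*} [Field F] [Fintype F] (hodd : Odd (Fintype.card F)) {m : ℕ} (hm : 4 ≤ m) :
    (∃ φ : ↥(Cfsg.pgoAut F (Cfsg.quadFormPlus m F)) →* Multiplicative (ZMod 2 × ZMod 2), Function.Surjective φ ∧ φ.ker = (Cfsg.psoAut F (Cfsg.quadFormPlus m F)).subgroupOf (Cfsg.pgoAut F (Cfsg.quadFormPlus m F))) := by
  classical
  have hfun : Cfsg.quadFormPlus m F = ⇑(QPlus F m) := (funext (QPlus_apply F m)).symm
  rw [hfun]
  have hQ := nondegenerate_QPlus F m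
  have h2 : (2 : F) ≠ 0 := two_ne_zero_of_odd_card hodd
  have hcardι : Fintype.card (Fin m ⊕ Fin m) = 2 * m := by
    rw [Fintype.card_sum, Fintype.card_fin]; ring
  have hchar : ringChar F ≠ 2 := by
    intro h
    apply h2
    have := ringChar.spec F 2
    have h3 : ((2 : ℕ) : F) = 0 := by rw [this, h]
    exact_mod_cast h3
  obtain ⟨lam, hlam⟩ := FiniteField.exists_nonsquare hchar
  have hlam0 : lam ≠ 0 := by
    rintro rfl
    exact hlam ⟨0, (mul_zero 0).symm⟩
  set T := plusTriple F m (by omega) with hT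
  apply exists_hom_pgoAut_psoAut (QPlus F m) h2 hQ (by rw [hcardι]; omega) T m hcardι
    ⟨plusSim m (Units.mk0 lam hlam0), plusSim_mem m _⟩
  rw [mulr_eq (QPlus F m) _ (T_nonsingular _ T) _ (Units.mk0 lam hlam0) (plusSim_spec m _)]
  exact hlam

end Cfsg.Agent.S2722
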