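-- Statement S2725
import Cfsg.Statements.S2725
import Mathlib
import Cfsg.Agent.Lib.Helper6.Inndiag
import Cfsg.Agent.Lib.Helper6.SingClass
import Cfsg.Agent.Lib.Helper6.LamDiag
import Cfsg.Agent.Lib.Helper15.QuadF2a
import Cfsg.Agent.S0293
import Cfsg.Agent.S0790
import Cfsg.Agent.S2722

set_option autoImplicit false
open Cfsg

namespace Cfsg.Agent.S2725

open Cfsg.Agent.Lib.Helper6 Cfsg.Agent.Lib.Helper6.OmegaAut Cfsg.Agent.Lib.Helper6.SimAut
  Cfsg.Agent.Lib.Helper6.Inndiag Cfsg.Agent.Lib.Helper6.SingClass Cfsg.Agent.Lib.Helper6.LamDiag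
  Cfsg.Agent.Lib.Helper15 Cfsg.Agent.S0293 Cfsg.Agent.S2722 Matrix

section
variable (F : Type*) [Field F] (m : ℕ)

/-- the standard maximal totally singular subspace `⟨e₁, …, e_m⟩` -/
noncomputable def U0 : Submodule F (Fin m ⊕ Fin m → F) :=
  LinearMap.ker (LinearMap.funLeft F F (Sum.inr : Fin m → Fin m ⊕ Fin m))

theorem mem_U0 (v : Fin m ⊕ Fin m → F) : v ∈ U0 F m ↔ ∀ i, v (Sum.inr i) = 0 := by
  unfold U0
  rw [LinearMap.mem_ker]
  constructor
  · intro h i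
    exact congrFun h i
  · intro h
    funext i
    exact h i

theorem U0_TS : TS (QPlus F m) (U0 F m) := by
  intro v hv
  rw [mem_U0] at hv
  rw [QPlus_apply]
  unfold Cfsg.quadFormPlus
  apply Finset.sum_eq_zero
  intro i _
  rw [hv i, mul_zero]

theorem U0_finrank : Module.finrank F (U0 F m) = m := by
  have h1 := LinearMap.finrank_range_add_finrank_ker
    (LinearMap.funLeft F F (Sum.inr : Fin m → Fin m ⊕ Fin m))
  have h2 : LinearMap.range (LinearMap.funLeft F F (Sum.inr : Fin m → Fin m ⊕ Fin m)) = ⊤ :=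
    LinearMap.range_eq_top.mpr (LinearMap.funLeft_surjective_of_injective F F _ Sum.inr_injective)
  rw [h2, finrank_top, Module.finrank_fintype_fun_eq_card, Module.finrank_fintype_fun_eq_card,
    Fintype.card_sum, Fintype.card_fin] at h1
  unfold U0
  omega

theorem plusSim_U0 (lam : Fˣ) :
    Cfsg.imageSubmodule ((plusSim m lam : GL (Fin m ⊕ Fin m) F) : Matrix _ _ F) (U0 F m) ≤ U0 F m := by
  intro x hx
  obtain ⟨y, hy, rfl⟩ := (mem_image _ _ x).mp hx
  rw [mem_U0] at hy ⊢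
  intro i
  change (Matrix.diagonal _ *ᵥ y) (Sum.inr i) = 0
  rw [Matrix.mulVec_diagonal, hy i, mul_zero]

theorem plusSim_det (lam : Fˣ) :
    Matrix.det ((plusSim m lam : GL (Fin m ⊕ Fin m) F) :
      Matrix (Fin m ⊕ Fin m) (Fin m ⊕ Fin m) F) = (lam : F) ^ m := by
  change (Matrix.diagonal _).det = _
  rw [Matrix.det_diagonal, Fintype.prod_sum_type]
  simp

end

set_option maxHeartbeats 1600000 in
theorem main {F : Type*} [Field F] [Fintype F] (hodd : Odd (Fintype.card F)) {m : ℕ} (hm : 4 ≤ m)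
    (q : (Fin m ⊕ Fin m → F) → F) (hq : q = ⇑(QPlus F m))
    (hneg : (∃ g : ↥(Cfsg.isometryGroup F q), g ∈ Cfsg.Omega F q ∧ ((g : Matrix.GeneralLinearGroup (Fin m ⊕ Fin m) F) : Matrix (Fin m ⊕ Fin m) (Fin m ⊕ Fin m) F) = -1) ↔ Fintype.card F ^ m % 4 = 1) :
    ((Odd m ∧ Fintype.card F % 4 = 3) → (∃ φ : ↥(Subgroup.closure {β : MulAut (Cfsg.POmega F q) | ∃ g : GL (Fin m ⊕ Fin m) F,
      g ∈ Cfsg.Geo.quadSimilarityGroup (F := F) q ∧
      Cfsg.PreservesSingularClasses q (g : Matrix (Fin m ⊕ Fin m) (Fin m ⊕ Fin m) F) ∧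
      Cfsg.IsInducedBySemilinearPOmega q g (RingEquiv.refl F) β}) →* Multiplicative (ZMod 2), Function.Surjective φ ∧ φ.ker = (Cfsg.Inn (Cfsg.POmega F q)).subgroupOf _)) ∧ ((Odd m ∧ Fintype.card F % 4 = 1) → (∃ φ : ↥(Subgroup.closure {β : MulAut (Cfsg.POmega F q) | ∃ g : GL (Fin m ⊕ Fin m) F,
      g ∈ Cfsg.Geo.quadSimilarityGroup (F := F) q ∧
      Cfsg.PreservesSingularClasses q (g : Matrix (Fin m ⊕ Fin m) (Fin m ⊕ Fin m) F) ∧
      Cfsg.IsInducedBySemilinearPOmega q g (RingEquiv.refl F) β}) →* Multiplicative (ZMod 4), Function.Surjective φ ∧ φ.ker = (Cfsg.Inn (Cfsg.POmega F q)).subgroupOf _)) ∧ (Even m → (∃ φ : ↥(Subgroup.closure {β : MulAut (Cfsg.POmega F q) | ∃ g : GL (Fin m ⊕ Fin m) F,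
      g ∈ Cfsg.Geo.quadSimilarityGroup (F := F) q ∧
      Cfsg.PreservesSingularClasses q (g : Matrix (Fin m ⊕ Fin m) (Fin m ⊕ Fin m) F) ∧
      Cfsg.IsInducedBySemilinearPOmega q g (RingEquiv.refl F) β}) →* Multiplicative (ZMod 2 × ZMod 2), Function.Surjective φ ∧ φ.ker = (Cfsg.Inn (Cfsg.POmega F q)).subgroupOf _)) := by
  classical
  subst hq
  have hQ := nondegenerate_QPlus F m
  have h2 : (2 : F) ≠ 0 := two_ne_zero_of_odd_card hodd
  have hcardι : Fintype.card (Fin m ⊕ Fin m) = 2 * m := by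
    rw [Fintype.card_sum, Fintype.card_fin]; ring
  have h5 : 5 ≤ Fintype.card (Fin m ⊕ Fin m) := by rw [hcardι]; omega
  have hiff := (exists_neg_iff (QPlus F m)).symm.trans hneg
  have hq : Fintype.card F % 4 = 1 ∨ Fintype.card F % 4 = 3 := by
    obtain ⟨k, hk⟩ := hodd
    omega
  have hpow : Fintype.card F ^ m % 4 = 1 ↔ ¬ (Odd m ∧ Fintype.card F % 4 = 3) := by
    rw [Nat.pow_mod]
    rcases hq with h | h
    · rw [h, one_pow]
      simp
    · rw [h]
      rcases Nat.even_or_odd m with he | ho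
      · obtain ⟨k, rfl⟩ := he
        have : 3 ^ (k + k) % 4 = 1 := by
          rw [← two_mul, pow_mul, Nat.pow_mod]
          norm_num
        rw [this]
        simp only [true_iff, not_and]
        intro ho
        exact absurd ho (by rw [Nat.not_odd_iff_even]; exact ⟨k, rfl⟩)
      · obtain ⟨k, rfl⟩ := ho
        have : 3 ^ (2 * k + 1) % 4 = 3 := by
          rw [pow_succ, pow_mul, Nat.mul_mod, Nat.pow_mod]
          norm_num
        rw [this]
        simp only [Nat.reduceEqDiff, false_iff, not_not]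
        exact ⟨⟨k, rfl⟩, trivial⟩
  have hchar : ringChar F ≠ 2 := by
    intro h
    apply h2
    have := ringChar.spec F 2
    have h3 : ((2 : ℕ) : F) = 0 := by rw [this, h]
    exact_mod_cast h3
  obtain ⟨lam, hlam⟩ := FiniteField.exists_nonsquare hchar
  have hlam0 : lam ≠ 0 := by
    rintro rfl
    exact hlam ⟨0, (mul_zero 0).symm⟩
  set lamU : Fˣ := Units.mk0 lam hlam0 with hlamU
  set T := plusTriple F m (by omega) with hT
  have hv₀ := T_nonsingular _ T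
  set h : ↥(GO (QPlus F m)) := ⟨plusSim m lamU, plusSim_mem m _⟩ with hh
  have hmulr : mulr (QPlus F m) h = lamU :=
    mulr_eq (QPlus F m) _ hv₀ _ lamU (plusSim_spec m _)
  have hhsq : ¬ IsSquare ((mulr (QPlus F m) h : Fˣ) : F) := by
    rw [hmulr]
    exact hlam
  have hhK : h ∈ KK (QPlus F m) _ hv₀ m := by
    rw [mem_KK_iff, hmulr]
    exact plusSim_det F m lamU
  have hpsc : ∀ g : ↥(GO (QPlus F m)),
      Cfsg.PreservesSingularClasses ⇑(QPlus F m)
        ((g.1 : GL (Fin m ⊕ Fin m) F) : Matrix (Fin m ⊕ Fin m) (Fin m ⊕ Fin m) F) ↔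
      g ∈ KK (QPlus F m) _ hv₀ m := by
    intro g
    rw [mem_KK_iff]
    exact psc_iff_det (QPlus F m) h2 hQ m hcardι (U0 F m) (U0_TS F m) (U0_finrank F m)
      (plusSim m lamU) lam hlam (plusSim_spec m lamU) (plusSim_U0 F m lamU) (plusSim_det F m lamU)
      g.1 (mulr (QPlus F m) g) (Units.ne_zero _) (mulr_spec (QPlus F m) g)
  rw [inndiag_eq (QPlus F m) (KK (QPlus F m) _ hv₀ m) hpsc]
  -- the element `d`
  obtain ⟨d₀, hd₀mat, hd₀Ω⟩ := exists_lamDiag F m h2 (by omega) lam hlam0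
  rw [isSquare_pow_iff F m lam hlam hlam0] at hd₀Ω
  set d : ↥(GO (QPlus F m)) := ⟨d₀.1, isometryGroup_le_GO _ d₀.2⟩ with hd
  have hhd : h * h = ⟨scalGL lamU, scalGL_mem_GO (QPlus F m) lamU⟩ * d := by
    apply Subtype.ext
    apply Units.ext
    change ((plusSim m lamU : GL (Fin m ⊕ Fin m) F) : Matrix (Fin m ⊕ Fin m) (Fin m ⊕ Fin m) F) *
      ((plusSim m lamU : GL (Fin m ⊕ Fin m) F) : Matrix (Fin m ⊕ Fin m) (Fin m ⊕ Fin m) F) =
      ((scalGL lamU : GL (Fin m ⊕ Fin m) F) : Matrix (Fin m ⊕ Fin m) (Fin m ⊕ Fin m) F) *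
        ((d₀.1 : GL (Fin m ⊕ Fin m) F) : Matrix (Fin m ⊕ Fin m) (Fin m ⊕ Fin m) F)
    rw [hd₀mat, scalGL_val, Matrix.smul_mul, Matrix.one_mul]
    change Matrix.diagonal _ * Matrix.diagonal _ = _
    rw [Matrix.diagonal_mul_diagonal, ← Matrix.diagonal_smul]
    congr 1
    funext k
    rcases k with i | i
    · simp [hlamU]
    · simp [hlamU, hlam0]
  refine ⟨?_, ?_, ?_⟩
  · intro hc
    apply inndiag_c2 (QPlus F m) h2 hQ h5 T _ hv₀ m hcardι h hhsq hhK
    intro hmem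
    exact (hpow.mp (hiff.mp hmem)) hc
  · rintro ⟨hmodd, hq1⟩
    have hnegmem : negIso (QPlus F m) ∈ Cfsg.Omega F ⇑(QPlus F m) := by
      apply hiff.mpr
      apply hpow.mpr
      rintro ⟨-, h3⟩
      omega
    apply inndiag_c4 (QPlus F m) h2 hQ h5 T _ hv₀ m hcardι h hhsq hhK hnegmem d d₀.2 lamU hhd
    intro hmem
    have := hd₀Ω.mp hmem
    exact (Nat.not_even_iff_odd.mpr hmodd) this
  · intro hmeven
    have hnegmem : negIso (QPlus F m) ∈ Cfsg.Omega F ⇑(QPlus F m) := by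
      apply hiff.mpr
      apply hpow.mpr
      rintro ⟨hmodd, -⟩
      exact (Nat.not_even_iff_odd.mpr hmodd) hmeven
    exact inndiag_klein (QPlus F m) h2 hQ h5 T m hcardι h hhsq hhK hnegmem d d₀.2 lamU hhd
      (hd₀Ω.mpr hmeven)

theorem result {F : Type*} [Field F] [Fintype F] (hodd : Odd (Fintype.card F)) {m : ℕ} (hm : 4 ≤ m) :
    ((Odd m ∧ Fintype.card F % 4 = 3) → (∃ φ : ↥(Cfsg.inndiagPOmegaPlus m F) →* Multiplicative (ZMod 2), Function.Surjective φ ∧ φ.ker = (Cfsg.Inn (Cfsg.POmega F (Cfsg.quadFormPlus m F))).subgroupOf (Cfsg.inndiagPOmegaPlus m F))) ∧ ((Odd m ∧ Fintype.card F % 4 = 1) → (∃ φ : ↥(Cfsg.inndiagPOmegaPlus m F) →* Multiplicative (ZMod 4), Function.Surjective φ ∧ φ.ker = (Cfsg.Inn (Cfsg.POmega F (Cfsg.quadFormPlus m F))).subgroupOf (Cfsg.inndiagPOmegaPlus m F))) ∧ (Even m → (∃ φ : ↥(Cfsg.inndiagPOmegaPlus m F) →* Multiplicative (ZMod 2 × ZMod 2), Function.Surjective φ ∧ φ.ker = (Cfsg.Inn (Cfsg.POmega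 F (Cfsg.quadFormPlus m F))).subgroupOf (Cfsg.inndiagPOmegaPlus m F))) := by
  have hfun : Cfsg.quadFormPlus m F = ⇑(QPlus F m) := (funext (QPlus_apply F m)).symm
  have hneg := Cfsg.Agent.S0790.result (F := F) rfl hodd m (by omega)
  exact main hodd hm (Cfsg.quadFormPlus m F) hfun hneg

end Cfsg.Agent.S2725
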