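-- Statement S2724
import Cfsg.Statements.S2724
import Mathlib
import Cfsg.Agent.Lib.Helper6.SimAut2
import Cfsg.Agent.Lib.Helper15.QuadF2a
import Cfsg.Agent.S0293
import Cfsg.Agent.S0790
import Cfsg.Agent.S2722

set_option autoImplicit false
open Cfsg

namespace Cfsg.Agent.S2724

open Cfsg.Agent.Lib.Helper6 Cfsg.Agent.Lib.Helper6.OmegaAut Cfsg.Agent.Lib.Helper6.SimAut
  Cfsg.Agent.Lib.Helper15 Cfsg.Agent.S0293 Cfsg.Agent.S2722 Matrix

set_option maxHeartbeats 1600000 in
theorem result {F : Type*} [Field F] [Fintype F] (hodd : Odd (Fintype.card F)) {m : ℕ} (hm : 4 ≤ m) :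
    ((Odd m ∧ Fintype.card F % 4 = 3) → (∃ φ : ↥(Cfsg.pgoAut F (Cfsg.quadFormPlus m F)) →* Multiplicative (ZMod 2 × ZMod 2), Function.Surjective φ ∧ φ.ker = (Cfsg.Inn (Cfsg.POmega F (Cfsg.quadFormPlus m F))).subgroupOf (Cfsg.pgoAut F (Cfsg.quadFormPlus m F)))) ∧ (¬ (Odd m ∧ Fintype.card F % 4 = 3) → (∃ φ : ↥(Cfsg.pgoAut F (Cfsg.quadFormPlus m F)) →* DihedralGroup 4, Function.Surjective φ ∧ φ.ker = (Cfsg.Inn (Cfsg.POmega F (Cfsg.quadFormPlus m F))).subgroupOf (Cfsg.pgoAut F (Cfsg.quadFormPlus m F)))) := by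
  classical
  have hfun : Cfsg.quadFormPlus m F = ⇑(QPlus F m) := (funext (QPlus_apply F m)).symm
  have hneg := Cfsg.Agent.S0790.result (F := F) rfl hodd m (by omega)
  rw [hfun] at hneg ⊢
  have hQ := nondegenerate_QPlus F m
  have h2 : (2 : F) ≠ 0 := two_ne_zero_of_odd_card hodd
  have hcardι : Fintype.card (Fin m ⊕ Fin m) = 2 * m := by
    rw [Fintype.card_sum, Fintype.card_fin]; ring
  have hiff := (exists_neg_iff (QPlus F m)).symm.trans hneg
  have hq : Fintype.card F % 4 = 1 ∨ Fintype.card F % 4 = 3 := by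
    obtain ⟨k, hk⟩ := hodd
    omega
  have hpow : Fintype.card F ^ m % 4 = 1 ↔ ¬ (Odd m ∧ Fintype.card F % 4 = 3) := by
    rw [Nat.pow_mod]
    rcases hq with h | h
    · rw [h, one_pow]
      simp [h]
    · rw [h]
      rcases Nat.even_or_odd m with he | ho
      · obtain ⟨k, rfl⟩ := he
        have : 3 ^ (k + k) % 4 = 1 := by
          rw [← two_mul, pow_mul, Nat.pow_mod]
          norm_num
        rw [this]
        simp only [true_iff, not_and]
        intro ho
        exact absurd ho (by rw [Nat.not_odd_iff_even]; exact ⟨k, rfl⟩)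
      · obtain ⟨k, rfl⟩ := ho
        have : 3 ^ (2 * k + 1) % 4 = 3 := by
          rw [pow_succ, pow_mul, Nat.mul_mod, Nat.pow_mod]
          norm_num
        rw [this]
        simp only [Nat.reduceEqDiff, false_iff, not_not]
        exact ⟨⟨k, rfl⟩, trivial⟩
  have hchar : ringChar F ≠ 2 := by
    intro h
    apply h2
    have := ringChar.spec F 2
    have h3 : ((2 : ℕ) : F) = 0 := by rw [this, h]
    exact_mod_cast h3
  obtain ⟨lam, hlam⟩ := FiniteField.exists_nonsquare hchar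
  have hlam0 : lam ≠ 0 := by
    rintro rfl
    exact hlam ⟨0, (mul_zero 0).symm⟩
  set T := plusTriple F m (by omega) with hT
  have hh : ¬ IsSquare ((mulr (QPlus F m) ⟨plusSim m (Units.mk0 lam hlam0), plusSim_mem m _⟩ : Fˣ) : F) := by
    rw [mulr_eq (QPlus F m) _ (T_nonsingular _ T) _ (Units.mk0 lam hlam0) (plusSim_spec m _)]
    exact hlam
  constructor
  · intro hc
    apply exists_hom_pgoAut_Inn_of_notMem (QPlus F m) h2 hQ (by rw [hcardι]; omega) T m hcardι _ hh
    intro hmem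
    exact (hpow.mp (hiff.mp hmem)) hc
  · intro hc
    apply exists_hom_pgoAut_Inn_of_mem (QPlus F m) h2 hQ (by rw [hcardι]; omega) T m hcardι _ hh
    exact hiff.mpr (hpow.mpr hc)

end Cfsg.Agent.S2724
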