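import Cfsg.Statements.S0243
import Mathlib
import Cfsg.Agent.Lib.Helper3.CardSL

set_option autoImplicit false
open Cfsg

namespace Cfsg.Agent.S0243

/-- Order of PSL_n(q): gcd(n, q-1) (q-1) |PSL_n(q)| = prod_{i<n} (q^n - q^i). -/
theorem result {F : Type*} [Field F] [Fintype F] {q : ℕ} (hF : Fintype.card F = q) (n : ℕ) (hn : 2 ≤ n) : Nat.gcd n (q - 1) * ((q - 1) * Nat.card (Matrix.ProjectiveSpecialLinearGroup (Fin n) F)) = ∏ i : Fin n, (q ^ n - q ^ (i : ℕ)) := by
  classical
  have h := Cfsg.Agent.Lib.Helper3.CardSL.card_GL_eq_card_SL_mul (F := F) n (by omega)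
  rw [Matrix.card_GL_field, Nat.card_units, Nat.card_eq_fintype_card (α := F), hF] at h
  have h2 := Cfsg.Agent.Lib.Helper3.CardSL.card_PSL_mul (F := F) n
  have h3 : Nat.card (Subgroup.center (Matrix.SpecialLinearGroup (Fin n) F)) = Nat.gcd n (q - 1) := by
    rw [Nat.card_congr (Matrix.SpecialLinearGroup.center_equiv_rootsOfUnity
      (n := Fin n) (R := F)).toEquiv, Fintype.card_fin, max_eq_left (by omega : 1 ≤ n),
      rootsOfUnity_eq_ker, IsCyclic.card_powMonoidHom_ker, Nat.card_units,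
      Nat.card_eq_fintype_card (α := F), hF, Nat.gcd_comm]
  rw [h, ← h2, h3]
  ring

end Cfsg.Agent.S0243
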