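import Mathlib
import Cfsg.Statements.S0251
import Cfsg.Agent.Lib.Helper3.PermIso
import Cfsg.Agent.Lib.Helper3.CardSL

set_option autoImplicit false
open Cfsg

namespace Cfsg.Agent.S0251

open Cfsg.Agent.Lib.Helper3

/-- PSL_2(3) is isomorphic to A_4. -/
theorem result {F : Type*} [Field F] [Fintype F] (hF : Fintype.card F = 3) : Nonempty (Matrix.ProjectiveSpecialLinearGroup (Fin 2) F ≃* alternatingGroup (Fin 4)) := by
  classical
  have h3 : (3 : F) = 0 := by
    have := Nat.cast_card_eq_zero F
    rw [hF] at this
    exact_mod_cast this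
  have h2 : (2 : F) ≠ 0 := by
    intro h
    have : (1 : F) = 0 := by linear_combination h3 - h
    exact one_ne_zero this
  have : Fintype (Projectivization F (Fin 2 → F)) := Fintype.ofFinite _
  have hX : Fintype.card (Projectivization F (Fin 2 → F)) = 4 := by
    rw [← Nat.card_eq_fintype_card, Projectivization.card_of_finrank_two F (Fin 2 → F) (by simp),
      Nat.card_eq_fintype_card, hF]
  have hG : 2 * Nat.card (Matrix.ProjectiveSpecialLinearGroup (Fin 2) F) = (4).factorial := by
    have h := CardSL.card_PSL_mul (F := F) 2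
    rw [CardSL.card_center_SL2 h2, CardSL.card_SL2, hF] at h
    rw [mul_comm, h]
    rfl
  exact PermIso.nonempty_mulEquiv_alternatingGroup _
    Matrix.ProjectiveSpecialLinearGroup.toPermHom_injective 4 hX hG

end Cfsg.Agent.S0251
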