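-- Statement S0292
import Cfsg.Statements.S0292
import Mathlib
import Cfsg.Agent.Lib.Helper6.OmegaCenter
import Cfsg.Agent.Lib.Helper6.OrthForms
import Cfsg.Agent.S0286

set_option autoImplicit false
open Cfsg

namespace Cfsg.Agent.S0292

open Cfsg.Agent.Lib.Helper6 Matrix

section
variable {F : Type*} [Field F] {m : ℕ}

/-- index type -/
abbrev II (m : ℕ) : Type := Unit ⊕ (Fin m ⊕ Fin m)

/-- the basis vector `x₀` -/
def X0 : II m → F := Pi.single (Sum.inl ()) 1
/-- the basis vector `e_i` -/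
def Ev (i : Fin m) : II m → F := Pi.single (Sum.inr (Sum.inl i)) 1
/-- the basis vector `f_i` -/
def Fv (i : Fin m) : II m → F := Pi.single (Sum.inr (Sum.inr i)) 1

theorem polar_Ev (i : Fin m) (x : II m → F) :
    QuadraticMap.polar ⇑(QOdd F m) (Ev i) x = x (Sum.inr (Sum.inr i)) := by
  have hsingle : ∀ (k k' : II m), (Pi.single k (1 : F) : II m → F) k' =
      if k' = k then 1 else 0 := fun k k' => by rw [Pi.single_apply]
  rw [polar_QOdd]
  simp [Ev, hsingle, Finset.sum_ite_eq']

theorem polar_Fv (i : Fin m) (x : II m → F) :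
    QuadraticMap.polar ⇑(QOdd F m) (Fv i) x = x (Sum.inr (Sum.inl i)) := by
  have hsingle : ∀ (k k' : II m), (Pi.single k (1 : F) : II m → F) k' =
      if k' = k then 1 else 0 := fun k k' => by rw [Pi.single_apply]
  rw [polar_QOdd]
  simp [Fv, hsingle, Finset.sum_ite_eq']

theorem polar_X0 (x : II m → F) :
    QuadraticMap.polar ⇑(QOdd F m) X0 x = 2 * x (Sum.inl ()) := by
  have hsingle : ∀ (k k' : II m), (Pi.single k (1 : F) : II m → F) k' =
      if k' = k then 1 else 0 := fun k k' => by rw [Pi.single_apply]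
  rw [polar_QOdd]
  simp [X0, hsingle]

theorem Q_Ev (i : Fin m) : QOdd F m (Ev i) = 0 := by
  have hsingle : ∀ (k k' : II m), (Pi.single k (1 : F) : II m → F) k' =
      if k' = k then 1 else 0 := fun k k' => by rw [Pi.single_apply]
  rw [QOdd_apply]
  unfold Cfsg.quadFormOdd
  simp [Ev, hsingle]

theorem Q_Fv (i : Fin m) : QOdd F m (Fv i) = 0 := by
  have hsingle : ∀ (k k' : II m), (Pi.single k (1 : F) : II m → F) k' =
      if k' = k then 1 else 0 := fun k k' => by rw [Pi.single_apply]
  rw [QOdd_apply]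
  unfold Cfsg.quadFormOdd
  simp [Fv, hsingle]

theorem Q_X0 : QOdd F m (X0 : II m → F) = 1 := by
  have hsingle : ∀ (k k' : II m), (Pi.single k (1 : F) : II m → F) k' =
      if k' = k then 1 else 0 := fun k k' => by rw [Pi.single_apply]
  rw [QOdd_apply]
  unfold Cfsg.quadFormOdd
  simp [X0, hsingle]

/-- the family of norm `1` -/
def pv : Option (Fin m) → (II m → F)
  | none => X0
  | some i => Ev i + Fv i

/-- the family of norm `-1` -/
def bv (i : Fin m) : II m → F := Ev i - Fv i

theorem Ev_apply (i : Fin m) (k : II m) : (Ev i : II m → F) k = if k = Sum.inr (Sum.inl i) then 1 else 0 := by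
  unfold Ev; rw [Pi.single_apply]

theorem Fv_apply (i : Fin m) (k : II m) : (Fv i : II m → F) k = if k = Sum.inr (Sum.inr i) then 1 else 0 := by
  unfold Fv; rw [Pi.single_apply]

theorem X0_apply (k : II m) : (X0 : II m → F) k = if k = Sum.inl () then 1 else 0 := by
  unfold X0; rw [Pi.single_apply]

theorem Q_pv (k : Option (Fin m)) : QOdd F m (pv k) = 1 := by
  cases k with
  | none => exact Q_X0
  | some i =>
    change QOdd F m (Ev i + Fv i) = 1
    rw [Q_add, Q_Ev, Q_Fv, polar_Ev, Fv_apply]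
    simp

theorem Q_bv (i : Fin m) : QOdd F m (bv i) = -1 := by
  change QOdd F m (Ev i - Fv i) = -1
  rw [Q_sub, Q_Ev, Q_Fv, polar_Ev, Fv_apply]
  simp

theorem polar_pv_pv (k k' : Option (Fin m)) (h : k ≠ k') :
    QuadraticMap.polar ⇑(QOdd F m) (pv k) (pv k') = 0 := by
  cases k with
  | none =>
    cases k' with
    | none => exact absurd rfl h
    | some j =>
      change QuadraticMap.polar ⇑(QOdd F m) X0 (Ev j + Fv j) = 0
      rw [polar_X0]
      simp [Ev_apply, Fv_apply]
  | some i =>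
    cases k' with
    | none =>
      change QuadraticMap.polar ⇑(QOdd F m) (Ev i + Fv i) X0 = 0
      rw [QuadraticMap.polar_add_left, polar_Ev, polar_Fv]
      simp [X0_apply]
    | some j =>
      have hij : i ≠ j := fun e => h (by rw [e])
      change QuadraticMap.polar ⇑(QOdd F m) (Ev i + Fv i) (Ev j + Fv j) = 0
      rw [QuadraticMap.polar_add_left, polar_Ev, polar_Fv]
      simp [Ev_apply, Fv_apply, hij]

theorem polar_bv_bv (i j : Fin m) (hij : i ≠ j) :
    QuadraticMap.polar ⇑(QOdd F m) (bv i) (bv j) = 0 := by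
  change QuadraticMap.polar ⇑(QOdd F m) (Ev i - Fv i) (Ev j - Fv j) = 0
  rw [QuadraticMap.polar_sub_left, polar_Ev, polar_Fv]
  simp [Ev_apply, Fv_apply, hij]

theorem polar_pv_bv (k : Option (Fin m)) (j : Fin m) :
    QuadraticMap.polar ⇑(QOdd F m) (pv k) (bv j) = 0 := by
  cases k with
  | none =>
    change QuadraticMap.polar ⇑(QOdd F m) X0 (Ev j - Fv j) = 0
    rw [polar_X0]
    simp [Ev_apply, Fv_apply]
  | some i =>
    change QuadraticMap.polar ⇑(QOdd F m) (Ev i + Fv i) (Ev j - Fv j) = 0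
    rw [QuadraticMap.polar_add_left, polar_Ev, polar_Fv]
    simp only [Pi.sub_apply, Ev_apply, Fv_apply]
    by_cases hij : i = j
    · subst hij
      simp
    · have : j ≠ i := fun e => hij e.symm
      simp [this]

end

section
variable {F : Type*} [Field F] [Fintype F] {m : ℕ}

/-- the centre of `Ω_{2m+1}(q)` is trivial -/
theorem center_trivial (h2 : (2 : F) ≠ 0) (hm : 3 ≤ m) :
    Subgroup.center (Cfsg.Omega F ⇑(QOdd F m)) = ⊥ := by
  classical
  rw [eq_bot_iff]
  intro x hx
  rw [Subgroup.mem_bot]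
  rw [Subgroup.mem_center_iff] at hx
  set z : ↥(Cfsg.isometryGroup F ⇑(QOdd F m)) := x.1 with hzdef
  have hz : ∀ g ∈ Cfsg.Omega F ⇑(QOdd F m), g * z = z * g := by
    intro g hg
    have := hx ⟨g, hg⟩
    exact congrArg Subtype.val this
  have hQ := nondegenerate_QOdd F h2 m
  have hcard : 2 ≤ Fintype.card (II m) := by
    rw [Fintype.card_sum, Fintype.card_sum, Fintype.card_fin]; simp; omega
  obtain ⟨c, hc⟩ := central_scalar_p (QOdd F m) h2 hQ hcard z hz pv Q_pv polar_pv_pv
    (by rw [Fintype.card_option, Fintype.card_fin]; omega)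
  have hd := central_scalar_b (QOdd F m) h2 hQ hcard z hz pv Q_pv polar_pv_pv
    (by rw [Fintype.card_option, Fintype.card_fin]; omega) bv Q_bv polar_bv_bv polar_pv_bv
    (by rw [Fintype.card_fin]; exact hm) c hc
  set Z : Matrix (II m) (II m) F := ((z.1 : GL (II m) F) : Matrix (II m) (II m) F) with hZ
  -- `Z` is scalar
  have hE : ∀ i, Z *ᵥ (Ev i) = c • Ev i := by
    intro i
    have h1 : (Ev i : II m → F) = (2 : F)⁻¹ • (pv (some i) + bv i) := by
      change Ev i = (2 : F)⁻¹ • ((Ev i + Fv i) + (Ev i - Fv i))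
      have : (Ev i + Fv i : II m → F) + (Ev i - Fv i) = (2 : F) • Ev i := by
        rw [two_smul]; abel
      rw [this, smul_smul, inv_mul_cancel₀ h2, one_smul]
    rw [h1, Matrix.mulVec_smul, Matrix.mulVec_add, hc, hd, smul_add, smul_add, smul_add, smul_smul,
      smul_smul, smul_smul, smul_smul, mul_comm]
  have hF : ∀ i, Z *ᵥ (Fv i) = c • Fv i := by
    intro i
    have h1 : (Fv i : II m → F) = (2 : F)⁻¹ • (pv (some i) - bv i) := by
      change Fv i = (2 : F)⁻¹ • ((Ev i + Fv i) - (Ev i - Fv i))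
      have : (Ev i + Fv i : II m → F) - (Ev i - Fv i) = (2 : F) • Fv i := by
        rw [two_smul]; abel
      rw [this, smul_smul, inv_mul_cancel₀ h2, one_smul]
    rw [h1, Matrix.mulVec_smul, Matrix.mulVec_sub, hc, hd, smul_sub, smul_sub, smul_sub, smul_smul,
      smul_smul, smul_smul, smul_smul, mul_comm]
  have hscalar : Z = c • (1 : Matrix (II m) (II m) F) := by
    apply Matrix.toLin'.injective
    apply LinearMap.pi_ext
    intro j t
    have ht : (Pi.single j t : II m → F) = t • Pi.single j 1 := by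
      rw [← Pi.single_smul, smul_eq_mul, mul_one]
    rw [ht, map_smul, map_smul, Matrix.toLin'_apply, Matrix.toLin'_apply, Matrix.smul_mulVec,
      Matrix.one_mulVec]
    congr 1
    rcases j with j | j | j
    · exact hc none
    · exact hE j
    · exact hF j
  -- `c = 1`
  have hiso : QOdd F m (Z *ᵥ X0) = QOdd F m X0 := z.2 X0 X0
  rw [hscalar, Matrix.smul_mulVec, Matrix.one_mulVec, QuadraticMap.map_smul, Q_X0, smul_eq_mul,
    mul_one] at hiso
  have hdet : Z.det = 1 := Cfsg.Agent.Lib.Helper14.det_eq_one_of_mem_Omega' _ z x.2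
  rw [hscalar, Matrix.det_smul, Matrix.det_one, mul_one, Fintype.card_sum, Fintype.card_sum,
    Fintype.card_fin] at hdet
  have hc1 : c = 1 := by
    have h3 : c ^ (Fintype.card Unit + (m + m)) = c * (c * c) ^ m := by
      rw [Fintype.card_unit]
      ring
    rw [h3, hiso, one_pow, mul_one] at hdet
    exact hdet
  apply Subtype.ext
  apply Subtype.ext
  apply Units.ext
  change Z = 1
  rw [hscalar, hc1, one_smul]

end

/-- 2 |PΩ_{2m+1}(q)| = q^(m^2) prod_{i=1}^{m} (q^(2i) - 1), for q odd and m at least 3 (type B_m). -/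
theorem result {F : Type*} [Field F] [Fintype F] {q : ℕ} (hF : Fintype.card F = q) (hodd : Odd q) (m : ℕ) (hm : 3 ≤ m) : 2 * Nat.card (Cfsg.POmega F (Cfsg.quadFormOdd m F)) = q ^ (m ^ 2) * ∏ i ∈ Finset.range m, (q ^ (2 * (i + 1)) - 1) := by
  classical
  have hO := Cfsg.Agent.S0286.result hF hodd m
  subst hF
  have h2 : (2 : F) ≠ 0 := two_ne_zero_of_odd_card hodd
  have hfun : Cfsg.quadFormOdd m F = ⇑(QOdd F m) := (funext (QOdd_apply F m)).symm
  rw [hfun] at hO ⊢
  have hcard : 2 ≤ Fintype.card (II m) := by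
    rw [Fintype.card_sum, Fintype.card_sum, Fintype.card_fin]; simp; omega
  have hidx := index_Omega' (QOdd F m) h2 (nondegenerate_QOdd F h2 m) hcard
  have hmul := Subgroup.card_mul_index (Cfsg.Omega F ⇑(QOdd F m))
  rw [hidx, hO] at hmul
  have hcenter := center_trivial (F := F) h2 hm
  have hP : Nat.card (Cfsg.POmega F ⇑(QOdd F m)) = Nat.card (Cfsg.Omega F ⇑(QOdd F m)) := by
    have h1 := Subgroup.card_eq_card_quotient_mul_card_subgroup
      (Subgroup.center (Cfsg.Omega F ⇑(QOdd F m)))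
    have h3 : Nat.card (Subgroup.center (Cfsg.Omega F ⇑(QOdd F m))) = 1 := by
      rw [hcenter, Subgroup.card_bot]
    rw [h3, mul_one] at h1
    exact h1.symm
  rw [hP]
  have h4 : 2 * Fintype.card F ^ (m ^ 2) * ∏ i ∈ Finset.range m, (Fintype.card F ^ (2 * (i + 1)) - 1) =
      2 * (Fintype.card F ^ (m ^ 2) * ∏ i ∈ Finset.range m, (Fintype.card F ^ (2 * (i + 1)) - 1)) := by
    ring
  rw [h4] at hmul
  generalize Fintype.card F ^ (m ^ 2) * ∏ i ∈ Finset.range m, (Fintype.card F ^ (2 * (i + 1)) - 1) = P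
    at hmul ⊢
  omega

end Cfsg.Agent.S0292
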