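import Cfsg.Statements.S2261
-- import your own Cfsg.Agent.* helpers here

set_option autoImplicit false
open Cfsg

namespace Cfsg.Agent.S2261

open Matrix Polynomial

section upper

variable {F : Type*} [Field F]

/-- Every power of a `d × d` matrix is a combination of its first `d` powers (Cayley–Hamilton). -/
theorem pow_eq_sum {d : ℕ} (hd : 1 ≤ d) (M : Matrix (Fin d) (Fin d) F) (i : ℕ) :
    ∃ v : Fin d → F, M ^ i = ∑ j : Fin d, v j • M ^ (j : ℕ) := by
  classical
  have hmonic : M.charpoly.Monic := Matrix.charpoly_monic M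
  have hdeg : M.charpoly.natDegree = d := by simp [Matrix.charpoly_natDegree_eq_dim M]
  have hne1 : M.charpoly ≠ 1 := by
    intro h
    rw [h, natDegree_one] at hdeg
    omega
  have h1 : aeval M ((X ^ i : F[X]) %ₘ M.charpoly) = M ^ i := by
    have := congrArg (aeval M) (Polynomial.modByMonic_add_div (X ^ i : F[X]) M.charpoly)
    simpa [Matrix.aeval_self_charpoly] using this
  have h2 : ((X ^ i : F[X]) %ₘ M.charpoly).natDegree < d := by
    have := Polynomial.natDegree_modByMonic_lt (X ^ i : F[X]) hmonic hne1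
    omega
  refine ⟨fun j => ((X ^ i : F[X]) %ₘ M.charpoly).coeff j, ?_⟩
  rw [← h1, Polynomial.aeval_eq_sum_range' h2]
  exact (Fin.sum_univ_eq_sum_range (fun j => ((X ^ i : F[X]) %ₘ M.charpoly).coeff j • M ^ j) d).symm

/-- The upper bound. -/
theorem upper [Fintype F] {d : ℕ} (hd : 1 ≤ d)
    (g : (GL (Fin d) F ⧸ Subgroup.center (GL (Fin d) F))) :
    (Fintype.card F - 1) * orderOf g ≤ Fintype.card F ^ d - 1 := by
  classical
  have : NeZero d := ⟨by omega⟩
  obtain ⟨g0, rfl⟩ := QuotientGroup.mk_surjective g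
  set k := orderOf (QuotientGroup.mk g0 : GL (Fin d) F ⧸ Subgroup.center (GL (Fin d) F)) with hk
  set M : Matrix (Fin d) (Fin d) F := g0.val with hM
  -- the map
  let φ : Fˣ × Fin k → Matrix (Fin d) (Fin d) F := fun x => (x.1 : F) • M ^ (x.2 : ℕ)
  let ψ : (Fin d → F) → Matrix (Fin d) (Fin d) F := fun v => ∑ j : Fin d, v j • M ^ (j : ℕ)
  have hscal : ∀ c : Fˣ, (QuotientGroup.mk (Matrix.GeneralLinearGroup.scalar (Fin d) c) :
      GL (Fin d) F ⧸ Subgroup.center (GL (Fin d) F)) = 1 := by
    intro c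
    rw [QuotientGroup.eq_one_iff, Matrix.GeneralLinearGroup.center_eq_range_scalar]
    exact ⟨c, rfl⟩
  have hφval : ∀ x : Fˣ × Fin k,
      φ x = (Matrix.GeneralLinearGroup.scalar (Fin d) x.1 * g0 ^ (x.2 : ℕ) : GL (Fin d) F).val := by
    intro x
    rw [Units.val_mul, Matrix.GeneralLinearGroup.coe_scalar, Units.val_pow_eq_pow_val]
    simp [φ, hM, Matrix.scalar_apply, Matrix.smul_eq_diagonal_mul]
  have hφinj : Function.Injective φ := by
    intro x y hxy
    rw [hφval, hφval] at hxy
    have hxy' := Units.ext hxy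
    have h1 := congrArg (QuotientGroup.mk (s := Subgroup.center (GL (Fin d) F))) hxy'
    rw [QuotientGroup.mk_mul, QuotientGroup.mk_mul, hscal, hscal, one_mul, one_mul,
      QuotientGroup.mk_pow, QuotientGroup.mk_pow] at h1
    have h2 : (x.2 : ℕ) = y.2 := by
      have := pow_injOn_Iio_orderOf (x := (QuotientGroup.mk g0 :
        GL (Fin d) F ⧸ Subgroup.center (GL (Fin d) F))) (Set.mem_Iio.mpr x.2.2) (Set.mem_Iio.mpr y.2.2) h1
      exact this
    rw [h2] at hxy'
    have h3 := mul_right_cancel hxy'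
    have h4 : (x.1 : F) = y.1 := by
      have := congrArg (fun A : GL (Fin d) F => A.val 0 0) h3
      simpa [Matrix.GeneralLinearGroup.coe_scalar] using this
    exact Prod.ext (Units.ext h4) (Fin.ext h2)
  have hsub : Finset.univ.image φ ⊆ (Finset.univ.image ψ).erase 0 := by
    intro A hA
    obtain ⟨x, -, rfl⟩ := Finset.mem_image.mp hA
    rw [Finset.mem_erase]
    constructor
    · rw [hφval]
      exact (Units.isUnit _).ne_zero
    · obtain ⟨v, hv⟩ := pow_eq_sum hd M (x.2 : ℕ)
      refine Finset.mem_image.mpr ⟨fun j => (x.1 : F) * v j, Finset.mem_univ _, ?_⟩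
      show ∑ j : Fin d, ((x.1 : F) * v j) • M ^ (j : ℕ) = (x.1 : F) • M ^ (x.2 : ℕ)
      rw [hv, Finset.smul_sum]
      exact Finset.sum_congr rfl fun j _ => by rw [smul_smul]
  have h0 : (0 : Matrix (Fin d) (Fin d) F) ∈ Finset.univ.image ψ :=
    Finset.mem_image.mpr ⟨0, Finset.mem_univ _, by simp [ψ]⟩
  have hc1 : (Finset.univ.image φ).card = (Fintype.card F - 1) * k := by
    rw [Finset.card_image_of_injective _ hφinj, Finset.card_univ, Fintype.card_prod,
      Fintype.card_units, Fintype.card_fin]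
  have hc2 : (Finset.univ.image ψ).card ≤ Fintype.card F ^ d := by
    refine le_trans Finset.card_image_le ?_
    rw [Finset.card_univ, Fintype.card_fun, Fintype.card_fin]
  have hc3 := Finset.card_le_card hsub
  rw [Finset.card_erase_of_mem h0, hc1] at hc3
  omega

end upper

section lower

variable {F : Type*} [Field F] [Fintype F]

/-- Existence of a Singer cycle. -/
theorem lower {d : ℕ} (hd : 1 ≤ d) :
    ∃ g : (GL (Fin d) F ⧸ Subgroup.center (GL (Fin d) F)),
      Fintype.card F ^ d - 1 ≤ (Fintype.card F - 1) * orderOf g := by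
  classical
  obtain ⟨p, hp⟩ := CharP.exists F
  have : Fact p.Prime := ⟨CharP.char_is_prime F p⟩
  have : NeZero d := ⟨by omega⟩
  let E := FiniteField.Extension F p d
  have hfr : Module.finrank F E = d := FiniteField.finrank_extension F p d
  let b : Module.Basis (Fin d) F E := (Module.finBasis F E).reindex (finCongr hfr)
  have hinj : Function.Injective (Algebra.leftMulMatrix b) := Algebra.leftMulMatrix_injective b
  obtain ⟨ω, hω⟩ := IsCyclic.exists_generator (α := Eˣ)
  have hordω : orderOf ω = Fintype.card F ^ d - 1 := by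
    rw [orderOf_eq_card_of_forall_mem_zpowers hω, Nat.card_units,
      FiniteField.natCard_extension F p d, Nat.card_eq_fintype_card]
  let Ψ : Eˣ →* GL (Fin d) F := Units.map (Algebra.leftMulMatrix b : E →* Matrix (Fin d) (Fin d) F)
  refine ⟨QuotientGroup.mk (Ψ ω), ?_⟩
  set k := orderOf (QuotientGroup.mk (Ψ ω) : GL (Fin d) F ⧸ Subgroup.center (GL (Fin d) F)) with hk
  have hkpos : 0 < k := orderOf_pos _
  have h1 : (QuotientGroup.mk (Ψ ω) : GL (Fin d) F ⧸ Subgroup.center (GL (Fin d) F)) ^ k = 1 :=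
    pow_orderOf_eq_one _
  rw [← QuotientGroup.mk_pow, QuotientGroup.eq_one_iff,
    Matrix.GeneralLinearGroup.mem_center_iff_val_mem_range_scalar] at h1
  obtain ⟨c, hc⟩ := h1
  have h2 : ((ω : E) ^ k) = algebraMap F E c := by
    apply hinj
    rw [AlgHom.commutes]
    rw [← map_pow] at hc
    rw [Matrix.algebraMap_eq_diagonal]
    rw [Matrix.scalar_apply] at hc
    have h3 : (algebraMap F (Fin d → F)) c = fun _ => c := by
      ext i; simp
    rw [h3, hc]
    simp [Ψ]
  have hc0 : c ≠ 0 := by
    rintro rfl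
    rw [map_zero] at h2
    exact (pow_ne_zero k (Units.ne_zero ω)) h2
  have h4 : ω ^ (k * (Fintype.card F - 1)) = 1 := by
    apply Units.ext
    rw [Units.val_pow_eq_pow_val, pow_mul, h2, ← map_pow,
      FiniteField.pow_card_sub_one_eq_one c hc0, map_one, Units.val_one]
  have h5 := orderOf_dvd_of_pow_eq_one h4
  rw [hordω] at h5
  have hq : 2 ≤ Fintype.card F := Fintype.one_lt_card
  have h6 : 0 < k * (Fintype.card F - 1) := Nat.mul_pos hkpos (by omega)
  have := Nat.le_of_dvd h6 h5
  rw [mul_comm] at this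
  exact this

end lower

/-- Let F be a finite field with q elements and d ≥ 1. Then every element of PGL_d(F) = GL_d(F)/Z has order at most (q^d − 1)/(q − 1), and some element (the image of a Singer cycle) has exactly this order. -/
theorem result {F : Type*} [Field F] [Fintype F] (d : ℕ) (hd : 1 ≤ d) :
    (∀ g : (GL (Fin d) F ⧸ Subgroup.center (GL (Fin d) F)), (Fintype.card F - 1) * orderOf g ≤ Fintype.card F ^ d - 1) ∧
    (∃ g : (GL (Fin d) F ⧸ Subgroup.center (GL (Fin d) F)), (Fintype.card F - 1) * orderOf g = Fintype.card F ^ d - 1) := by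
  refine ⟨fun g => upper hd g, ?_⟩
  obtain ⟨g, hg⟩ := lower (F := F) hd
  exact ⟨g, le_antisymm (upper hd g) hg⟩

end Cfsg.Agent.S2261
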