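import Cfsg.Statements.S2843
import Cfsg.Agent.Lib.Helper17.Large2

set_option autoImplicit false
open Cfsg

namespace Cfsg.Agent.S2843

open Cfsg.Agent.Lib.Helper17
open Cfsg.Agent.Lib.Helper9

/-- Let Q be a nontrivial large p-subgroup of the finite group H, Q ≤ L ≤ H, and Y a nontrivial p-subgroup of H normalized by L. Let L° be the weak closure of Q in L (generated by the conjugates of Q inside L). Then L° equals the weak closure of Q in L·C_H(Y), and [L°, C_H(Y)] ≤ O_p(L°); in particular C_H(Y) normalizes L°. -/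
theorem result {H : Type*} [Group H] [Finite H] {p : ℕ} [Fact p.Prime] (Q : Subgroup H) (hQp : IsPGroup p ↥Q) (hQ1 : Q ≠ ⊥) (hL : Cfsg.IsLarge Q) (L : Subgroup H) (hQL : Q ≤ L) (Y : Subgroup H) (hYp : IsPGroup p ↥Y) (hY1 : Y ≠ ⊥) (hLY : L ≤ Subgroup.normalizer ((Y : Subgroup H) : Set H)) : Cfsg.weakClosure Q L = Cfsg.weakClosure Q (L ⊔ Subgroup.centralizer ((Y : Subgroup H) : Set H)) ∧ ⁅Cfsg.weakClosure Q L, Subgroup.centralizer ((Y : Subgroup H) : Set H)⁆ ≤ (Cfsg.pCoreOf p (Cfsg.weakClosure Q L)) ∧ Subgroup.centralizer ((Y : Subgroup H) : Set H) ≤ Subgroup.normalizer (((Cfsg.weakClosure Q L) : Subgroup H) : Set H) := by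
  obtain ⟨T, hQT⟩ := hQp.exists_le_sylow
  have hW := IsLarge.isWeaklyClosed hL T hQT
  have hCY : Subgroup.centralizer (Y : Set H) ≤ Subgroup.normalizer (Y : Set H) :=
    Subgroup.centralizer_le_normalizer _
  have hLtY : L ⊔ Subgroup.centralizer (Y : Set H) ≤ Subgroup.normalizer (Y : Set H) := sup_le hLY hCY
  have hLC : L ≤ Subgroup.normalizer ((Subgroup.centralizer (Y : Set H) : Subgroup H) : Set H) :=
    hLY.trans (normalizer_le_normalizer_centralizer Y)
  -- Fact 1: C normalizes every conjugate of Q in L ⊔ C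
  have fact1 : ∀ g : H, Q.map (MulAut.conj g).toMonoidHom ≤ L ⊔ Subgroup.centralizer (Y : Set H) →
      Subgroup.centralizer (Y : Set H) ≤
        Subgroup.normalizer ((Q.map (MulAut.conj g).toMonoidHom : Subgroup H) : Set H) := by
    intro g hg
    exact (IsLarge.centralizer_le_normalizer (IsLarge.map_conj hL g) (hQp.map _) hYp hY1
      (hg.trans hLtY)).1
  have hCQ : Subgroup.centralizer (Y : Set H) ≤ Subgroup.normalizer (Q : Set H) := by
    have := fact1 1 (by rw [conjMap_one]; exact hQL.trans le_sup_left)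
    rwa [conjMap_one] at this
  -- Fact 2: conjugates of Q in L ⊔ C lie in L
  have fact2 : ∀ g : H, Q.map (MulAut.conj g).toMonoidHom ≤ L ⊔ Subgroup.centralizer (Y : Set H) →
      Q.map (MulAut.conj g).toMonoidHom ≤ L := by
    intro g hg
    obtain ⟨x, hx, hxeq⟩ := weaklyClosed_conj_in_subgroup T Q hW _ (hQL.trans le_sup_left) g hg
    have hx' : x ∈ ((L ⊔ Subgroup.centralizer (Y : Set H) : Subgroup H) : Set H) := hx
    rw [Subgroup.coe_mul_of_left_le_normalizer_right _ _ hLC] at hx'
    obtain ⟨l, hl, c, hc, rfl⟩ := Set.mem_mul.mp hx'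
    rw [← hxeq, conjMap_mul, map_conj_eq_of_mem_normalizer (hCQ hc)]
    rintro _ ⟨q, hq, rfl⟩
    exact L.mul_mem (L.mul_mem hl (hQL hq)) (L.inv_mem hl)
  have h1 : Cfsg.weakClosure Q L = Cfsg.weakClosure Q (L ⊔ Subgroup.centralizer ((Y : Subgroup H) : Set H)) := by
    unfold weakClosure
    apply le_antisymm
    · apply iSup_le
      rintro ⟨g, hg⟩
      exact le_iSup (fun g : {g : H // Q.map (MulAut.conj g).toMonoidHom ≤ L ⊔ Subgroup.centralizer (Y : Set H)} =>
        Q.map (MulAut.conj (g : H)).toMonoidHom) ⟨g, hg.trans le_sup_left⟩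
    · apply iSup_le
      rintro ⟨g, hg⟩
      exact le_iSup (fun g : {g : H // Q.map (MulAut.conj g).toMonoidHom ≤ L} =>
        Q.map (MulAut.conj (g : H)).toMonoidHom) ⟨g, fact2 g hg⟩
  -- C normalizes L°
  have h3 : Subgroup.centralizer ((Y : Subgroup H) : Set H) ≤ Subgroup.normalizer (((Cfsg.weakClosure Q L) : Subgroup H) : Set H) := by
    intro c hc
    apply mem_normalizer_of_map_conj_le
    unfold weakClosure
    rw [Subgroup.map_iSup]
    apply iSup_le
    rintro ⟨g, hg⟩
    rw [map_conj_eq_of_mem_normalizer (fact1 g (hg.trans le_sup_left) hc)]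
    exact le_iSup (fun g : {g : H // Q.map (MulAut.conj g).toMonoidHom ≤ L} =>
        Q.map (MulAut.conj (g : H)).toMonoidHom) ⟨g, hg⟩
  refine ⟨h1, ?_, h3⟩
  -- [L°, C] ≤ O_p(C)
  have hLoL : Cfsg.weakClosure Q L ≤ L := by
    unfold weakClosure
    apply iSup_le
    rintro ⟨g, hg⟩
    exact hg
  have hD : ⁅Cfsg.weakClosure Q L, Subgroup.centralizer ((Y : Subgroup H) : Set H)⁆ ≤
      pCoreOf p (Subgroup.centralizer ((Y : Subgroup H) : Set H)) := by
    unfold weakClosure
    apply commutator_iSup_le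
    · rintro ⟨g, hg⟩
      exact (hg.trans hLC).trans (normalizer_le_normalizer_pCoreOf _)
    · rintro ⟨g, hg⟩
      have hmut : ⁅Q.map (MulAut.conj g).toMonoidHom, Subgroup.centralizer ((Y : Subgroup H) : Set H)⁆ ≤
          Q.map (MulAut.conj g).toMonoidHom ⊓ Subgroup.centralizer ((Y : Subgroup H) : Set H) :=
        commutator_le_inf_of_le_normalizer (hg.trans hLC) (fact1 g (hg.trans le_sup_left))
      refine hmut.trans ?_
      apply le_pCoreOf inf_le_right
      · intro c hc
        exact mem_normalizer_inf (fact1 g (hg.trans le_sup_left) hc) (Subgroup.le_normalizer hc)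
      · exact (hQp.map _).to_le inf_le_left
  apply le_pCoreOf
  · exact commutator_le_left_of_le_normalizer h3
  · exact Subgroup.normalizer_commutator_ge_left _ _
  · exact (pCoreOf_isPGroup _).to_le hD

end Cfsg.Agent.S2843
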