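import Cfsg.Statements.S2845
import Cfsg.Agent.S2843
import Cfsg.Agent.Lib.Helper17.Large2

set_option autoImplicit false
open Cfsg

namespace Cfsg.Agent.S2845

open Cfsg.Agent.Lib.Helper17
open Cfsg.Agent.Lib.Helper9
open scoped commutatorElement

theorem pCoreOf_ne_bot {G : Type*} [Group G] {p : ℕ} {L : Subgroup G} (h : Cfsg.pCore p ↥L ≠ ⊥) :
    pCoreOf p L ≠ ⊥ := by
  unfold pCoreOf
  intro h'
  exact h ((Subgroup.map_eq_bot_iff_of_injective _ L.subtype_injective).mp h')

/-- Part (i) for an arbitrary large `p`-subgroup. -/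
theorem partI {H : Type*} [Group H] [Finite H] {p : ℕ} [Fact p.Prime] (Q : Subgroup H)
    (hQp : IsPGroup p ↥Q) (hQ1 : Q ≠ ⊥) (hL : Cfsg.IsLarge Q) (L : Subgroup H) (hQL : Q ≤ L)
    (hO : Cfsg.pCore p ↥L ≠ ⊥) :
    IsPGroup p ↥(Subgroup.centralizer (((Cfsg.pCoreOf p L) : Subgroup H) : Set H)) ∧
    Subgroup.centralizer (Cfsg.pCore p ↥L : Set ↥L) ≤ Cfsg.pCore p ↥L ∧
    (Cfsg.weakClosure Q L = Q ∨ Subgroup.centralizer (((Cfsg.weakClosure Q L) : Subgroup H) : Set H) = ⊥) := by
  have hY1 := pCoreOf_ne_bot hO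
  have hYp : IsPGroup p (pCoreOf p L) := pCoreOf_isPGroup L
  have hLY : L ≤ Subgroup.normalizer ((pCoreOf p L : Subgroup H) : Set H) := le_normalizer_pCoreOf L
  obtain ⟨T, hQT⟩ := hQp.exists_le_sylow
  have hW := IsLarge.isWeaklyClosed hL T hQT
  obtain ⟨-, h43b, h43c⟩ := Cfsg.Agent.S2843.result Q hQp hQ1 hL L hQL (pCoreOf p L) hYp hY1 hLY
  have hDQ := (IsLarge.centralizer_le_normalizer hL hQp hYp hY1 (hQL.trans hLY)).1
  -- Q ≤ L°
  have hQLo : Q ≤ Cfsg.weakClosure Q L := by
    unfold weakClosure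
    have := le_iSup (fun g : {g : H // Q.map (MulAut.conj g).toMonoidHom ≤ L} =>
        Q.map (MulAut.conj (g : H)).toMonoidHom) ⟨1, by rw [conjMap_one]; exact hQL⟩
    exact le_trans (le_of_eq (conjMap_one Q).symm) this
  have hLoL : Cfsg.weakClosure Q L ≤ L := by
    unfold weakClosure
    apply iSup_le
    rintro ⟨g, hg⟩
    exact hg
  -- L normalizes L°
  have hLLo : L ≤ Subgroup.normalizer ((Cfsg.weakClosure Q L : Subgroup H) : Set H) := by
    intro l hl
    apply mem_normalizer_of_map_conj_le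
    unfold weakClosure
    rw [Subgroup.map_iSup]
    apply iSup_le
    rintro ⟨g, hg⟩
    rw [← conjMap_mul]
    refine le_iSup (fun g : {g : H // Q.map (MulAut.conj g).toMonoidHom ≤ L} =>
        Q.map (MulAut.conj (g : H)).toMonoidHom) ⟨l * g, ?_⟩
    rw [conjMap_mul]
    rintro _ ⟨y, hy, rfl⟩
    exact L.mul_mem (L.mul_mem hl (hg hy)) (L.inv_mem hl)
  have hOpLo : pCoreOf p (Cfsg.weakClosure Q L) ≤ pCoreOf p L := by
    apply le_pCoreOf ((pCoreOf_le _).trans hLoL)
    · exact hLLo.trans (normalizer_le_normalizer_pCoreOf _)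
    · exact pCoreOf_isPGroup _
  have hcomm : ∀ q ∈ Q, ∀ c ∈ Subgroup.centralizer ((pCoreOf p L : Subgroup H) : Set H),
      ⁅q, c⁆ ∈ pCoreOf p L := by
    intro q hq c hc
    exact hOpLo (h43b (Subgroup.commutator_mem_commutator (hQLo hq) hc))
  -- (a)
  have ha : IsPGroup p ↥(Subgroup.centralizer (((Cfsg.pCoreOf p L) : Subgroup H) : Set H)) := by
    apply isPGroup_of_coprime_elements_trivial
    intro c hc hcop
    have hcent : ∀ x ∈ Q, c * x = x * c := by
      apply stability_centralizes hQp hcop (inf_le_left : Q ⊓ pCoreOf p L ≤ Q)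
      · intro x hx
        refine Subgroup.mem_inf.mpr ⟨?_, hcomm x hx c hc⟩
        have h1 : c * x⁻¹ * c⁻¹ ∈ Q :=
          (Subgroup.mem_normalizer_iff.mp (hDQ hc) x⁻¹).mp (Q.inv_mem hx)
        have : ⁅x, c⁆ = x * (c * x⁻¹ * c⁻¹) := by rw [commutatorElement_def]; group
        rw [this]; exact Q.mul_mem hx h1
      · intro y hy
        exact ((Subgroup.mem_centralizer_iff.mp hc) y (Subgroup.mem_inf.mp hy).2).symm
    have hcQ : c ∈ Q := by
      apply hL.1
      rw [Subgroup.mem_centralizer_iff]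
      intro x hx
      exact (hcent x hx).symm
    obtain ⟨k, hk⟩ := (IsPGroup.iff_orderOf.mp hQp) ⟨c, hcQ⟩
    rw [Subgroup.orderOf_mk] at hk
    rw [hk] at hcop
    have : orderOf c = 1 := by
      rw [hk]
      by_contra hne
      have hk0 : k ≠ 0 := by
        rintro rfl
        exact hne (pow_zero p)
      have := Nat.Coprime.eq_one_of_dvd hcop.symm (dvd_pow_self p hk0)
      exact (Fact.out : p.Prime).one_lt.ne' this
    exact orderOf_eq_one_iff.mp this
  refine ⟨ha, ?_, ?_⟩
  · rw [isCharPSub_iff]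
    unfold IsCharPSub
    apply le_pCoreOf inf_le_left
    · intro l hl
      exact mem_normalizer_inf (Subgroup.le_normalizer hl)
        (normalizer_le_normalizer_centralizer _ (hLY hl))
    · exact ha.to_le inf_le_right
  · by_cases hC : Subgroup.centralizer (((Cfsg.weakClosure Q L) : Subgroup H) : Set H) = ⊥
    · exact Or.inr hC
    · left
      have hUQ : Subgroup.centralizer (((Cfsg.weakClosure Q L) : Subgroup H) : Set H) ≤
          Subgroup.centralizer (Q : Set H) :=
        Subgroup.centralizer_le (SetLike.coe_subset_coe.mpr hQLo)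
      have hLoN : Cfsg.weakClosure Q L ≤
          Subgroup.normalizer ((Subgroup.centralizer (((Cfsg.weakClosure Q L) : Subgroup H) : Set H) : Subgroup H) : Set H) :=
        Subgroup.le_normalizer.trans (normalizer_le_normalizer_centralizer _)
      have hLoNQ : Cfsg.weakClosure Q L ≤ Subgroup.normalizer (Q : Set H) :=
        hLoN.trans (hL.2 _ hUQ hC)
      apply le_antisymm _ hQLo
      unfold weakClosure
      apply iSup_le
      rintro ⟨g, hg⟩
      have hQgLo : Q.map (MulAut.conj g).toMonoidHom ≤ Cfsg.weakClosure Q L := by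
        unfold weakClosure
        exact le_iSup (fun g : {g : H // Q.map (MulAut.conj g).toMonoidHom ≤ L} =>
          Q.map (MulAut.conj (g : H)).toMonoidHom) ⟨g, hg⟩
      have hUQg : Subgroup.centralizer (((Cfsg.weakClosure Q L) : Subgroup H) : Set H) ≤
          Subgroup.centralizer ((Q.map (MulAut.conj g).toMonoidHom : Subgroup H) : Set H) :=
        Subgroup.centralizer_le (SetLike.coe_subset_coe.mpr hQgLo)
      have hLoNQg : Cfsg.weakClosure Q L ≤
          Subgroup.normalizer ((Q.map (MulAut.conj g).toMonoidHom : Subgroup H) : Set H) :=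
        hLoN.trans ((IsLarge.map_conj hL g).2 _ hUQg hC)
      have := IsWeaklyClosed.comm_cond hW g
        (commutator_le_inf_of_le_normalizer (hQLo.trans hLoNQg) (hQgLo.trans hLoNQ))
      show Q.map (MulAut.conj g).toMonoidHom ≤ Q
      rw [this]

/-- Let Q be a nontrivial large p-subgroup of the finite group H. Then for every subgroup L ≥ Q with O_p(L) ≠ 1, C_H(O_p(L)) is a p-group and L has characteristic p, and either the weak closure L° of Q in L equals Q or C_H(L°) = 1; for every subgroup R of H containing a Sylow p-subgroup of H with O_p(R) ≠ 1, C_H(O_p(R)) ≤ O_p(R); and H has parabolic characteristic p. -/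
theorem result {H : Type*} [Group H] [Finite H] {p : ℕ} [Fact p.Prime] (Q : Subgroup H) (hQp : IsPGroup p ↥Q) (hQ1 : Q ≠ ⊥) (hL : Cfsg.IsLarge Q) : (∀ L : Subgroup H, Q ≤ L → Cfsg.pCore p ↥L ≠ ⊥ → IsPGroup p ↥(Subgroup.centralizer (((Cfsg.pCoreOf p L) : Subgroup H) : Set H)) ∧ Subgroup.centralizer (Cfsg.pCore p ↥L : Set ↥L) ≤ Cfsg.pCore p ↥L ∧ (Cfsg.weakClosure Q L = Q ∨ Subgroup.centralizer (((Cfsg.weakClosure Q L) : Subgroup H) : Set H) = ⊥)) ∧ (∀ R : Subgroup H, Cfsg.IsParabolic p R → Cfsg.pCore p ↥R ≠ ⊥ → Subgroup.centralizer (((Cfsg.pCoreOf p R) : Subgroup H) : Set H) ≤ (Cfsg.pCoreOf p R)) ∧ Cfsg.IsOfParabolicCharacteristic p H := by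
  have part2 : ∀ R : Subgroup H, Cfsg.IsParabolic p R → Cfsg.pCore p ↥R ≠ ⊥ → Subgroup.centralizer (((Cfsg.pCoreOf p R) : Subgroup H) : Set H) ≤ (Cfsg.pCoreOf p R) := by
    rintro R ⟨T, hTR⟩ hO
    -- conjugate Q into T
    obtain ⟨T', hQT'⟩ := hQp.exists_le_sylow
    obtain ⟨g, rfl⟩ := MulAction.exists_smul_eq H T T'
    rw [sylow_smul_eq_map_conj, le_map_conj_iff] at hQT'
    have hL' := IsLarge.map_conj hL g⁻¹
    have hQ'1 : Q.map (MulAut.conj g⁻¹).toMonoidHom ≠ ⊥ := by
      intro h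
      exact hQ1 ((Subgroup.map_eq_bot_iff_of_injective Q (MulAut.conj g⁻¹).injective).mp h)
    obtain ⟨hD, -, -⟩ := partI _ (hQp.map _) hQ'1 hL' R (hQT'.trans hTR) hO
    have hRD : R ≤ Subgroup.normalizer ((Subgroup.centralizer (((Cfsg.pCoreOf p R) : Subgroup H) : Set H) : Subgroup H) : Set H) :=
      (le_normalizer_pCoreOf R).trans (normalizer_le_normalizer_centralizer _)
    -- D ≤ T
    have hDT : Subgroup.centralizer (((Cfsg.pCoreOf p R) : Subgroup H) : Set H) ≤ (T : Subgroup H) := by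
      have hsup : IsPGroup p (Subgroup.centralizer (((Cfsg.pCoreOf p R) : Subgroup H) : Set H) ⊔ (T : Subgroup H) : Subgroup H) :=
        IsPGroup.to_sup_of_normal_left' hD T.2 (hTR.trans hRD)
      have := T.is_maximal' hsup le_sup_right
      rw [← this]; exact le_sup_left
    exact le_pCoreOf (hDT.trans hTR) hRD hD
  refine ⟨fun L hQL hO => partI Q hQp hQ1 hL L hQL hO, part2, ?_⟩
  intro R hRp hR1 hpar
  rw [isCharPSub_iff]
  unfold IsCharPSub
  have hRO : R ≤ pCoreOf p (Subgroup.normalizer (R : Set H)) :=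
    le_pCoreOf Subgroup.le_normalizer le_rfl hRp
  have hO : Cfsg.pCore p ↥(Subgroup.normalizer (R : Set H)) ≠ ⊥ := by
    intro h
    apply hR1
    have : pCoreOf p (Subgroup.normalizer (R : Set H)) = ⊥ := by
      unfold pCoreOf; rw [h, Subgroup.map_bot]
    exact le_bot_iff.mp (this ▸ hRO)
  exact inf_le_right.trans (part2 _ hpar hO)

end Cfsg.Agent.S2845
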