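import Cfsg.Statements.S2847
import Cfsg.Agent.Lib.Helper17.FrakM3

set_option autoImplicit false
open Cfsg

namespace Cfsg.Agent.S2847

open Cfsg.Agent.Lib.Helper17

/-- Parabolic characteristic `p`: every parabolic subgroup with nontrivial `O_p` lies in `𝓛_H`. -/
theorem mem_charPSubgroups_of_parabolic {H : Type*} [Group H] [Finite H] {p : ℕ} [Fact p.Prime]
    (hH : Cfsg.IsOfParabolicCharacteristic p H) (T : Sylow p H) (X : Subgroup H)
    (hTX : (T : Subgroup H) ≤ X) (hne : pCoreOf p X ≠ ⊥) : X ∈ charPSubgroups p H := by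
  set R := pCoreOf p X with hR
  set N := Subgroup.normalizer (R : Set H) with hN
  have hRp : IsPGroup p R := pCoreOf_isPGroup X
  have hXN : X ≤ N := le_normalizer_pCoreOf X
  have hpar : IsParabolic p N := ⟨T, hTX.trans hXN⟩
  have hcp : IsCharPSub p N := (isCharPSub_iff N).mp (hH R hRp hne hpar)
  have h1 : pCoreOf p N ≤ R :=
    le_pCoreOf ((pCoreOf_le_sylow T (hTX.trans hXN)).trans hTX)
      (hXN.trans (le_normalizer_pCoreOf N)) (pCoreOf_isPGroup N)
  have h2 : R ≤ pCoreOf p N := le_pCoreOf Subgroup.le_normalizer le_rfl hRp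
  have h3 : pCoreOf p N = R := le_antisymm h1 h2
  rw [mem_charPSubgroups_iff]
  refine ⟨hne, ?_⟩
  intro x hx
  have hxN : x ∈ N := Subgroup.centralizer_le_normalizer _ hx
  have : x ∈ N ⊓ Subgroup.centralizer (pCoreOf p N : Set H) := by
    rw [h3]; exact Subgroup.mem_inf.mpr ⟨hxN, hx⟩
  have := hcp this
  rwa [h3] at this

/-- Let H be a finite group of parabolic characteristic p, T a Sylow p-subgroup and L a subgroup containing T with O_p(L) ≠ 1 and C_H(O_p(L)) ≤ O_p(L). Then there are M ≥ T with the basic property (M ∈ 𝔐_H) and L* with T ≤ L* ≤ M, O_p(L*) ≠ 1, C_H(O_p(L*)) ≤ O_p(L*), such that Y_L = Y_{L*} ≤ Y_M and L·C_H(Y_L) = L*·C_H(Y_L), Y denoting largest p-reduced normal subgroups. -/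
theorem result {H : Type*} [Group H] [Finite H] {p : ℕ} [Fact p.Prime] (hH : Cfsg.IsOfParabolicCharacteristic p H) (T : Sylow p H) (L : Subgroup H) (hTL : (T : Subgroup H) ≤ L) (hL : L ∈ Cfsg.charPSubgroups p H) : ∃ M Ls : Subgroup H, (T : Subgroup H) ≤ M ∧ Cfsg.IsInFrakM p M ∧ (T : Subgroup H) ≤ Ls ∧ Ls ≤ M ∧ Ls ∈ Cfsg.charPSubgroups p H ∧ (Cfsg.largestPReducedOf p L) = (Cfsg.largestPReducedOf p Ls) ∧ (Cfsg.largestPReducedOf p L) ≤ (Cfsg.largestPReducedOf p M) ∧ L ⊔ Subgroup.centralizer (((Cfsg.largestPReducedOf p L) : Subgroup H) : Set H) = Ls ⊔ Subgroup.centralizer (((Cfsg.largestPReducedOf p L) : Subgroup H) : Set H) :=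
  exists_frakM T (fun X hTX hne => mem_charPSubgroups_of_parabolic hH T X hTX hne) L hTL hL

end Cfsg.Agent.S2847
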