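import Cfsg.Statements.S2864
import Cfsg.Agent.S2847
import Cfsg.Agent.S2845
import Cfsg.Agent.Lib.Helper17.ChainStab
import Cfsg.Agent.Lib.Helper1.Coprime
import Cfsg.Agent.Lib.Helper1.Frattini

set_option autoImplicit false
open Cfsg

namespace Cfsg.Agent.S2864

open Cfsg.Agent.Lib.Helper17 Cfsg.Agent.Lib.Helper9 Cfsg.Agent.Lib.Helper16 Cfsg.Agent.Lib.Helper1
open scoped commutatorElement

section aux

variable {G : Type*} [Group G] {p : ℕ}

/-- A `p'`-element acting trivially on `A/A'` for a `p`-group `A` centralizes `A`. -/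
theorem mem_centralizer_of_chainStab_commutator [Finite G] [Fact p.Prime] {A : Subgroup G}
    (hA : IsPGroup p A) {x : G} (hx : x ∈ chainStab A ⁅A, A⁆) (hcop : (orderOf x).Coprime p) :
    x ∈ Subgroup.centralizer (A : Set G) := by
  set X := Subgroup.zpowers x with hX
  have hXc : X ≤ chainStab A ⁅A, A⁆ := by rw [hX, Subgroup.zpowers_le]; exact hx
  have hXN : X ≤ Subgroup.normalizer (A : Set G) := fun y hy => (hXc hy).1
  obtain ⟨n, hn⟩ := IsPGroup.iff_card.mp hA
  have hact : CoprimeAct X A := by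
    refine ⟨hXN, ?_, Or.inl ?_⟩
    · rw [hX, Nat.card_zpowers, hn]
      exact Nat.Coprime.pow_right n hcop
    · apply Group.isSolvable_of_comm
      rintro ⟨a, ha⟩ ⟨b, hb⟩
      apply Subtype.ext
      obtain ⟨k, rfl⟩ := ha
      obtain ⟨l, rfl⟩ := hb
      exact ((Commute.refl x).zpow_zpow k l).eq
  have h1 := hact.commutator_sup_centralizer
  have h2 : ⁅A, X⁆ ≤ ⁅A, A⁆ := by
    rw [Subgroup.commutator_le]
    intro a ha y hy
    exact (hXc hy).2.2 a ha
  have hAA : ⁅A, A⁆ ≤ A := Subgroup.commutator_le.mpr fun a ha b hb =>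
    A.mul_mem (A.mul_mem (A.mul_mem ha hb) (A.inv_mem ha)) (A.inv_mem hb)
  have h3 : (A ⊓ Subgroup.centralizer (X : Set G)) ⊔ ⁅A, A⁆ = A := by
    apply le_antisymm (sup_le inf_le_left hAA)
    conv_lhs => rw [← h1]
    exact sup_le (h2.trans le_sup_right) le_sup_left
  have h4 : (A ⊓ Subgroup.centralizer (X : Set G)).subgroupOf A ⊔ frattini ↥A = ⊤ := by
    rw [eq_top_iff]
    have h5 : ((A ⊓ Subgroup.centralizer (X : Set G)) ⊔ ⁅A, A⁆).subgroupOf A = ⊤ := by
      rw [h3]; exact Subgroup.subgroupOf_self A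
    rw [← h5, Subgroup.subgroupOf_sup inf_le_left hAA]
    apply sup_le_sup le_rfl
    have h6 : (⁅A, A⁆ : Subgroup G).subgroupOf A = commutator ↥A := by
      rw [← Subgroup.map_subtype_commutator]
      exact Subgroup.comap_map_eq_self_of_injective A.subtype_injective _
    rw [h6]
    exact IsPGroup.commutator_le_frattini hA
  have h7 := frattini_nongenerating h4
  rw [Subgroup.subgroupOf_eq_top] at h7
  rw [Subgroup.mem_centralizer_iff]
  intro a ha
  have := (Subgroup.mem_inf.mp (h7 ha)).2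
  rw [Subgroup.mem_centralizer_iff] at this
  exact (this x (Subgroup.mem_zpowers x)).symm

/-- Above every member of `𝓛_H` there is a maximal one. -/
theorem exists_maxCharP_ge [Finite G] (X : Subgroup G) (hX : X ∈ charPSubgroups p G) :
    ∃ X' ∈ maxCharPSubgroups p G, X ≤ X' := by
  classical
  let Us : Set (Subgroup G) := {Z | Z ∈ charPSubgroups p G ∧ X ≤ Z}
  obtain ⟨X', hX', hmax⟩ := Set.exists_max_image Us (fun Z => Nat.card Z) (Set.toFinite Us)
    ⟨X, hX, le_rfl⟩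
  refine ⟨X', ⟨hX'.1, ?_⟩, hX'.2⟩
  intro Z hZ hX'Z
  exact (Subgroup.eq_of_le_of_card_ge hX'Z (hmax Z ⟨hZ, hX'.2.trans hX'Z⟩)).symm

end aux

/-- Standing hypotheses: G a finite group, S a Sylow p-subgroup, Q a nontrivial large p-subgroup of G contained in S, M a subgroup containing S with the basic property (M ∈ 𝔐_G(S)); Y_M the largest p-reduced normal subgroup of M and M† = M·C_G(Y_M). Let I be a nontrivial normal p-subgroup of M and Y ≤ O_p(M†); let L be a subgroup of G containing Y and A a normal p-subgroup of L with I ≤ A ≤ M. If [Y, A] ≤ [I, A], then Y ≤ O_p(L). -/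
theorem result {G : Type*} [Group G] [Finite G] {p : ℕ} [Fact p.Prime] (S : Sylow p G) (Q : Subgroup G) (hQp : IsPGroup p ↥Q) (hQ1 : Q ≠ ⊥) (hQS : Q ≤ (S : Subgroup G)) (hQ : Cfsg.IsLarge Q) (M : Subgroup G) (hSM : (S : Subgroup G) ≤ M) (hM : Cfsg.IsInFrakM p M) (I : Subgroup G) (hI1 : I ≠ ⊥) (hIp : IsPGroup p ↥I) (hIM : I ≤ M ∧ M ≤ Subgroup.normalizer ((I : Subgroup G) : Set G)) (Y : Subgroup G) (hY : Y ≤ (Cfsg.pCoreOf p (M ⊔ Subgroup.centralizer (((Cfsg.largestPReducedOf p M) : Subgroup G) : Set G)))) (L : Subgroup G) (hYL : Y ≤ L) (A : Subgroup G) (hAp : IsPGroup p ↥A) (hAL : A ≤ L ∧ L ≤ Subgroup.normalizer ((A : Subgroup G) : Set G)) (hIA : I ≤ A) (hAM : A ≤ M) (hc : ⁅Y, A⁆ ≤ ⁅I, A⁆) : Y ≤ (Cfsg.pCoreOf p L) := by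
  obtain ⟨-, -, hpar⟩ := Cfsg.Agent.S2845.result Q hQp hQ1 hQ
  set Md := M ⊔ Subgroup.centralizer (((Cfsg.largestPReducedOf p M) : Subgroup G) : Set G) with hMd
  set Rd := pCoreOf p Md with hRd
  -- Step 1: N_G(I) ≤ M†
  have hNI : Subgroup.normalizer (I : Set G) ≤ Md := by
    set X := Subgroup.normalizer (I : Set G) with hX
    have hSX : (S : Subgroup G) ≤ X := hSM.trans hIM.2
    have hXne : pCoreOf p X ≠ ⊥ := pCoreOf_ne_bot_of_le Subgroup.le_normalizer le_rfl hIp hI1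
    have hXc := Cfsg.Agent.S2847.mem_charPSubgroups_of_parabolic hpar S X hSX hXne
    obtain ⟨X', hX', hXX'⟩ := exists_maxCharP_ge X hXc
    have := hM.2.2.1 X' hX' (hIM.2.trans hXX')
    exact hXX'.trans this.le
  obtain ⟨hAL1, hAL2⟩ := hAL
  set CA := Subgroup.centralizer (A : Set G) with hCA
  set D := L ⊓ CA with hD
  have hLCA : L ≤ Subgroup.normalizer (CA : Set G) :=
    hAL2.trans (normalizer_le_normalizer_centralizer' A)
  have hLD : L ≤ Subgroup.normalizer (D : Set G) := fun l hl =>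
    mem_normalizer_inf (Subgroup.le_normalizer hl) (hLCA hl)
  have hDMd : D ≤ Md := by
    refine le_trans ?_ hNI
    refine le_trans inf_le_right ?_
    exact (Subgroup.centralizer_le (by exact_mod_cast hIA)).trans
      (Subgroup.centralizer_le_normalizer _)
  set OD := pCoreOf p D with hOD
  have hODp : IsPGroup p OD := pCoreOf_isPGroup D
  have hODD : OD ≤ D := pCoreOf_le D
  have hDOD : D ≤ Subgroup.normalizer (OD : Set G) := le_normalizer_pCoreOf D
  have hLOD : L ≤ Subgroup.normalizer (OD : Set G) :=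
    hLD.trans (normalizer_le_normalizer_pCoreOf D)
  have hODL : OD ≤ pCoreOf p L := le_pCoreOf (hODD.trans inf_le_left) hLOD hODp
  have hMdRd : Md ≤ Subgroup.normalizer (Rd : Set G) := le_normalizer_pCoreOf Md
  -- Step 2: Y ≤ chainStab D OD
  have hYcs : Y ≤ chainStab D OD := by
    intro y hy
    refine ⟨hLD (hYL hy), hLOD (hYL hy), ?_⟩
    intro d hd
    have h1 : ⁅d, y⁆ ∈ D := by
      have : ⁅d, y⁆ = d * (y * d⁻¹ * y⁻¹) := by rw [commutatorElement_def]; group
      rw [this]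
      exact D.mul_mem hd (conj_mem_of_mem_normalizer' (hLD (hYL hy)) (D.inv_mem hd))
    have h2 : ⁅d, y⁆ ∈ Rd := by
      have : ⁅d, y⁆ = (d * y * d⁻¹) * y⁻¹ := by rw [commutatorElement_def]
      rw [this]
      exact Rd.mul_mem (conj_mem_of_mem_normalizer' (hMdRd (hDMd hd)) (hY hy)) (Rd.inv_mem (hY hy))
    have h3 : D ⊓ Rd ≤ OD := by
      apply le_pCoreOf inf_le_left _ ((pCoreOf_isPGroup Md).to_le inf_le_right)
      intro d' hd'
      exact mem_normalizer_inf (Subgroup.le_normalizer hd') (hMdRd (hDMd hd'))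
    exact h3 (Subgroup.mem_inf.mpr ⟨h1, h2⟩)
  -- Step 3: Y ≤ chainStab A A'
  have hYcsA : Y ≤ chainStab A ⁅A, A⁆ := by
    intro y hy
    refine ⟨hAL2 (hYL hy), ?_, ?_⟩
    · exact mem_normalizer_commutator (hAL2 (hYL hy)) (hAL2 (hYL hy))
    · intro a ha
      have h1 : ⁅y, a⁆ ∈ ⁅I, A⁆ := hc (Subgroup.commutator_mem_commutator hy ha)
      have h2 : ⁅I, A⁆ ≤ ⁅A, A⁆ := Subgroup.commutator_mono hIA le_rfl
      have h3 : ⁅a, y⁆ = ⁅y, a⁆⁻¹ := (commutatorElement_inv y a).symm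
      rw [h3]
      exact Subgroup.inv_mem _ (h2 h1)
  -- the conjugate closure
  set W := Cfsg.Agent.Lib.Helper17.conjClosure L Y with hW
  have hLA' : L ≤ Subgroup.normalizer ((⁅A, A⁆ : Subgroup G) : Set G) := fun l hl =>
    mem_normalizer_commutator (hAL2 hl) (hAL2 hl)
  have hWcs : W ≤ chainStab D OD := by
    apply iSup_le
    rintro ⟨l, hl⟩ _ ⟨y, hy, rfl⟩
    simp only [MulEquiv.coe_toMonoidHom, MulAut.conj_apply]
    exact conj_mem_chainStab (hLD hl) (hLOD hl) (hYcs hy)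
  have hWcsA : W ≤ chainStab A ⁅A, A⁆ := by
    apply iSup_le
    rintro ⟨l, hl⟩ _ ⟨y, hy, rfl⟩
    simp only [MulEquiv.coe_toMonoidHom, MulAut.conj_apply]
    exact conj_mem_chainStab (hAL2 hl) (hLA' hl) (hYcsA hy)
  have hWL : W ≤ L := conjClosure_le hYL Subgroup.le_normalizer
  have hLW : L ≤ Subgroup.normalizer (W : Set G) := le_normalizer_conjClosure L Y
  set W₂ := W ⊔ OD with hW₂
  have hW₂L : W₂ ≤ L := sup_le hWL (hODD.trans inf_le_left)
  have hLW₂ : L ≤ Subgroup.normalizer (W₂ : Set G) := fun l hl =>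
    mem_normalizer_sup (hLW hl) (hLOD hl)
  have hODcs : OD ≤ chainStab D OD := by
    intro d hd
    refine ⟨Subgroup.le_normalizer (hODD hd), Subgroup.le_normalizer hd, ?_⟩
    intro u hu
    have : ⁅u, d⁆ = (u * d * u⁻¹) * d⁻¹ := by rw [commutatorElement_def]
    rw [this]
    exact OD.mul_mem (conj_mem_of_mem_normalizer' (hDOD hu) hd) (OD.inv_mem hd)
  have hODcsA : OD ≤ chainStab A ⁅A, A⁆ := by
    intro d hd
    have hdC : d ∈ CA := (Subgroup.mem_inf.mp (hODD hd)).2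
    have hdL : d ∈ L := (Subgroup.mem_inf.mp (hODD hd)).1
    refine ⟨hAL2 hdL, hLA' hdL, ?_⟩
    intro a ha
    have hcomm : d * a = a * d := Subgroup.mem_centralizer_iff.mp hdC a ha |>.symm
    have : ⁅a, d⁆ = 1 := by
      rw [commutatorElement_eq_one_iff_mul_comm]; exact hcomm.symm
    rw [this]; exact Subgroup.one_mem _
  have hW₂cs : W₂ ≤ chainStab D OD := sup_le hWcs hODcs
  have hW₂csA : W₂ ≤ chainStab A ⁅A, A⁆ := sup_le hWcsA hODcsA
  -- p'-elements of W₂ lie in D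
  have hp'D : ∀ x ∈ W₂, (orderOf x).Coprime p → x ∈ D := fun x hx hcop =>
    Subgroup.mem_inf.mpr ⟨hW₂L hx, mem_centralizer_of_chainStab_commutator hAp (hW₂csA hx) hcop⟩
  -- a Sylow p-subgroup of W₂ containing Y ⊔ OD is normal
  have hYW₂ : Y ≤ W₂ := (le_conjClosure L Y).trans le_sup_left
  obtain ⟨PW, hPW⟩ := (IsPGroup.comap_subtype (K := W₂)
    (show IsPGroup p Y from (pCoreOf_isPGroup Md).to_le hY)).exists_le_sylow
  set TW := (PW : Subgroup ↥W₂).map W₂.subtype with hTW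
  have hTWW₂ : TW ≤ W₂ := Subgroup.map_subtype_le _
  have hTWp : IsPGroup p TW := PW.2.map _
  have hYTW : Y ≤ TW := by
    intro y hy
    exact ⟨⟨y, hYW₂ hy⟩, hPW (by rw [Subgroup.mem_comap]; exact hy), rfl⟩
  have hXDn : (D.subgroupOf W₂).Normal := by
    have h1 : (D ⊓ W₂).subgroupOf W₂ = D.subgroupOf W₂ := Subgroup.inf_subgroupOf_right D W₂
    rw [← h1]
    apply (Subgroup.normal_subgroupOf_iff_le_normalizer inf_le_right).mpr
    intro w hw
    exact mem_normalizer_inf (hLD (hW₂L hw)) (Subgroup.le_normalizer hw)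
  have hdec : ∀ d ∈ (⊤ : Subgroup ↥W₂), ∃ s ∈ (PW : Subgroup ↥W₂) ⊓ ⊤,
      ∃ c ∈ (⊤ : Subgroup ↥W₂) ⊓ D.subgroupOf W₂, d = s * c := by
    apply exists_mul_of_pcond PW
    · rw [Subgroup.normalizer_eq_top_iff.mpr inferInstance]; exact le_top
    · rw [Subgroup.normalizer_eq_top_iff.mpr hXDn]
    · intro d _
      have hd0 : orderOf (d : G) ≠ 0 := (orderOf_pos _).ne'
      obtain ⟨e, m, hm, hn⟩ := Nat.exists_eq_pow_mul_and_not_dvd hd0 p (Fact.out : p.Prime).ne_one
      refine ⟨e, ?_⟩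
      rw [Subgroup.mem_subgroupOf]
      have hcop : (orderOf ((d : G) ^ p ^ e)).Coprime p := by
        have h1 : orderOf ((d : G) ^ p ^ e) ∣ m := by
          apply orderOf_dvd_of_pow_eq_one
          rw [← pow_mul, ← hn]; exact pow_orderOf_eq_one _
        exact Nat.Coprime.coprime_dvd_left h1
          ((Nat.Prime.coprime_iff_not_dvd (Fact.out : p.Prime)).mpr hm).symm
      have := hp'D _ (W₂.pow_mem d.2 (p ^ e)) hcop
      simpa using this
  have hW₂TW : W₂ ≤ Subgroup.normalizer (TW : Set G) := by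
    have hODTW : OD ≤ TW := by
      -- OD is a normal p-subgroup of W₂, hence in every Sylow
      haveI : ((OD.subgroupOf W₂)).Normal :=
        (Subgroup.normal_subgroupOf_iff_le_normalizer le_sup_right).mpr (hW₂L.trans hLOD)
      have h1 : OD.subgroupOf W₂ ≤ (PW : Subgroup ↥W₂) :=
        IsPGroup.le_sylow_of_normal (N := OD.subgroupOf W₂) (hODp.comap_subtype) PW
      intro x hx
      exact ⟨⟨x, le_sup_right (a := W) hx⟩, h1 (by rw [Subgroup.mem_subgroupOf]; exact hx), rfl⟩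
    intro w hw
    obtain ⟨s, hs, c, hc, hwsc⟩ := hdec ⟨w, hw⟩ (Subgroup.mem_top _)
    have hsT : (s : G) ∈ TW := ⟨s, (Subgroup.mem_inf.mp hs).1, rfl⟩
    have hcD : (c : G) ∈ D := Subgroup.mem_subgroupOf.mp (Subgroup.mem_inf.mp hc).2
    have hcN : (c : G) ∈ Subgroup.normalizer (TW : Set G) := by
      apply mem_normalizer_of_map_conj_le
      rintro _ ⟨t, ht, rfl⟩
      simp only [MulEquiv.coe_toMonoidHom, MulAut.conj_apply]
      have h1 : ⁅(c : G), t⁆ ∈ OD := (hW₂cs (hTWW₂ ht)).2.2 _ hcD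
      have : (c : G) * t * (c : G)⁻¹ = ⁅(c : G), t⁆ * t := by rw [commutatorElement_def]; group
      rw [this]
      exact TW.mul_mem (hODTW h1) ht
    have : w = (s : G) * (c : G) := congrArg Subtype.val hwsc
    rw [this]
    exact Subgroup.mul_mem _ (Subgroup.le_normalizer hsT) hcN
  -- TW is the unique Sylow p-subgroup of W₂, hence normalized by L
  have hsub : ∀ B : Subgroup G, B ≤ W₂ → IsPGroup p B → B ≤ TW := by
    intro B hBW hBp
    have h1 : IsPGroup p (B ⊔ TW : Subgroup G) :=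
      hBp.to_sup_of_normal_right' hTWp (hBW.trans hW₂TW)
    have h2 : (B ⊔ TW).subgroupOf W₂ = (PW : Subgroup ↥W₂) := by
      apply PW.is_maximal' h1.comap_subtype
      intro x hx
      change (x : G) ∈ B ⊔ TW
      exact Subgroup.mem_sup_right ⟨x, hx, rfl⟩
    intro b hb
    have h3 : (⟨b, hBW hb⟩ : ↥W₂) ∈ (B ⊔ TW).subgroupOf W₂ := by
      rw [Subgroup.mem_subgroupOf]; exact Subgroup.mem_sup_left hb
    rw [h2] at h3
    exact ⟨⟨b, hBW hb⟩, h3, rfl⟩
  have hLTW : L ≤ Subgroup.normalizer (TW : Set G) := by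
    intro l hl
    apply mem_normalizer_of_map_conj_le
    apply hsub _ _ (hTWp.map _)
    rintro _ ⟨t, ht, rfl⟩
    simp only [MulEquiv.coe_toMonoidHom, MulAut.conj_apply]
    exact conj_mem_of_mem_normalizer' (hLW₂ hl) (hTWW₂ ht)
  exact hYTW.trans (le_pCoreOf (hTWW₂.trans hW₂L) hLTW hTWp)

end Cfsg.Agent.S2864
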