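import Cfsg.Statements.S1785
import Cfsg.Agent.Lib.Helper10.Basic

set_option autoImplicit false
open Cfsg

namespace Cfsg.Agent.S1785

open Subgroup
open scoped commutatorElement

section Aux

variable {X : Type*} [Group X]

theorem comm_of_elem {A : Subgroup X} (hA : IsElementaryAbelian 2 A) {x y : X} (hx : x ∈ A)
    (hy : y ∈ A) : x * y = y * x :=
  congrArg Subtype.val (hA.1.is_comm.comm ⟨x, hx⟩ ⟨y, hy⟩)

theorem IsElemAb.mono {A B : Subgroup X} (hA : IsElementaryAbelian 2 A) (hBA : B ≤ A) :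
    IsElementaryAbelian 2 B :=
  ⟨⟨⟨fun x y => Subtype.ext (comm_of_elem hA (hBA x.2) (hBA y.2))⟩⟩, fun a ha => hA.2 a (hBA ha)⟩

theorem mem_zpowers_of_sq_eq_one {w x : X} (hw : w ^ 2 = 1) (hx : x ∈ zpowers w) :
    x = 1 ∨ x = w := by
  obtain ⟨k, rfl⟩ := mem_zpowers_iff.mp hx
  rcases Int.even_or_odd k with ⟨j, hj⟩ | ⟨j, hj⟩
  · left
    rw [hj, ← two_mul, zpow_mul, zpow_ofNat, hw, one_zpow]
  · right
    rw [hj, zpow_add, zpow_one, zpow_mul, zpow_ofNat, hw, one_zpow, one_mul]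

theorem isElemAb_zpowers {f : X} (hf : f ^ 2 = 1) : IsElementaryAbelian 2 (zpowers f) := by
  refine ⟨inferInstance, fun x hx => ?_⟩
  rcases mem_zpowers_of_sq_eq_one hf hx with h | h
  · rw [h, one_pow]
  · rw [h, hf]

theorem isElemAb_sup {A B : Subgroup X} (hA : IsElementaryAbelian 2 A)
    (hB : IsElementaryAbelian 2 B) (hcomm : ∀ a ∈ A, ∀ b ∈ B, a * b = b * a) :
    IsElementaryAbelian 2 (A ⊔ B) := by
  refine ⟨?_, fun x hx => ?_⟩
  · rw [sup_eq_closure]
    apply isMulCommutative_closure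
    rintro x (hx | hx) y (hy | hy)
    · exact comm_of_elem hA hx hy
    · exact hcomm x hx y hy
    · exact (hcomm y hy x hx).symm
    · exact comm_of_elem hB hx hy
  · obtain ⟨a, ha, b, hb, rfl⟩ := (Cfsg.Agent.Lib.Helper10.mem_sup_of_commute A B hcomm).mp hx
    rw [(show Commute a b from hcomm a ha b hb).mul_pow, hA.2 a ha, hB.2 b hb, one_mul]

/-- An involution acting on an elementary abelian 2-group `F` centralizes at least `√|F|`
elements. -/
theorem card_le_sq_of_involution [Finite X] (F : Subgroup X) (hF : IsElementaryAbelian 2 F)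
    (w : X) (hw : w ∈ normalizer (F : Set X)) (hw2 : w ^ 2 = 1) :
    Nat.card F ≤ Nat.card ↥(F ⊓ centralizer ({w} : Set X)) ^ 2 := by
  have hmem : ∀ x : ↥F, w * (x : X) * w⁻¹ * (x : X)⁻¹ ∈ F := fun x =>
    mul_mem ((mem_normalizer_iff.mp hw x).mp x.2) (inv_mem x.2)
  let φ : ↥F →* ↥F := MonoidHom.mk' (fun x => ⟨w * (x : X) * w⁻¹ * (x : X)⁻¹, hmem x⟩) (by
    intro x y
    apply Subtype.ext
    have h1 : (w * (y : X) * w⁻¹ * (y : X)⁻¹) * (x : X)⁻¹ =
        (x : X)⁻¹ * (w * (y : X) * w⁻¹ * (y : X)⁻¹) := comm_of_elem hF (hmem y) (inv_mem x.2)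
    show w * ((x : X) * (y : X)) * w⁻¹ * ((x : X) * (y : X))⁻¹ =
      (w * (x : X) * w⁻¹ * (x : X)⁻¹) * (w * (y : X) * w⁻¹ * (y : X)⁻¹)
    calc w * ((x : X) * (y : X)) * w⁻¹ * ((x : X) * (y : X))⁻¹
        = (w * (x : X) * w⁻¹) * ((w * (y : X) * w⁻¹ * (y : X)⁻¹) * (x : X)⁻¹) := by group
      _ = (w * (x : X) * w⁻¹) * ((x : X)⁻¹ * (w * (y : X) * w⁻¹ * (y : X)⁻¹)) := by rw [h1]
      _ = (w * (x : X) * w⁻¹ * (x : X)⁻¹) * (w * (y : X) * w⁻¹ * (y : X)⁻¹) := by group)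
  have hφ : ∀ x : ↥F, ((φ x : ↥F) : X) = w * (x : X) * w⁻¹ * (x : X)⁻¹ := fun _ => rfl
  have hwinv : w⁻¹ = w := by rw [inv_eq_iff_mul_eq_one, ← pow_two]; exact hw2
  have hker : Nat.card φ.ker ≤ Nat.card ↥(F ⊓ centralizer ({w} : Set X)) := by
    have hk : ∀ x : φ.ker, ((x : ↥F) : X) ∈ F ⊓ centralizer ({w} : Set X) := by
      intro x
      refine mem_inf.mpr ⟨(x : ↥F).2, ?_⟩
      rw [mem_centralizer_singleton_iff]
      have h1 := congrArg Subtype.val (MonoidHom.mem_ker.mp x.2)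
      rw [hφ] at h1
      have h2 : w * ((x : ↥F) : X) = (w * ((x : ↥F) : X) * w⁻¹ * ((x : ↥F) : X)⁻¹) *
          (((x : ↥F) : X) * w) := by group
      rw [h2, h1]
      simp
    apply Nat.card_le_card_of_injective (fun x : φ.ker =>
      (⟨((x : ↥F) : X), hk x⟩ : ↥(F ⊓ centralizer ({w} : Set X))))
    intro x y hxy
    apply Subtype.ext
    apply Subtype.ext
    have h9 := congrArg Subtype.val hxy
    exact h9
  have hrange : Nat.card φ.range ≤ Nat.card ↥(F ⊓ centralizer ({w} : Set X)) := by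
    have hk : ∀ y : φ.range, ((y : ↥F) : X) ∈ F ⊓ centralizer ({w} : Set X) := by
      intro y
      refine mem_inf.mpr ⟨(y : ↥F).2, ?_⟩
      rw [mem_centralizer_singleton_iff]
      obtain ⟨x, hx⟩ := MonoidHom.mem_range.mp y.2
      rw [← hx, hφ]
      have hc2 := hF.2 _ (hmem x)
      have hcinv : (w * (x : X) * w⁻¹ * (x : X)⁻¹)⁻¹ = w * (x : X) * w⁻¹ * (x : X)⁻¹ := by
        rw [inv_eq_iff_mul_eq_one, ← pow_two]; exact hc2
      calc w * (x : X) * w⁻¹ * (x : X)⁻¹ * w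
          = (w * (x : X) * w⁻¹ * (x : X)⁻¹)⁻¹ * w := by rw [hcinv]
        _ = (x : X) * w * (x : X)⁻¹ := by group
        _ = (w * w) * (x : X) * w * (x : X)⁻¹ := by rw [← pow_two, hw2, one_mul]
        _ = w * (w * (x : X) * w * (x : X)⁻¹) := by group
        _ = w * (w * (x : X) * w⁻¹ * (x : X)⁻¹) := by rw [hwinv]
    apply Nat.card_le_card_of_injective (fun y : φ.range =>
      (⟨((y : ↥F) : X), hk y⟩ : ↥(F ⊓ centralizer ({w} : Set X))))
    intro x y hxy
    apply Subtype.ext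
    apply Subtype.ext
    have h9 := congrArg Subtype.val hxy
    exact h9
  have hcard : Nat.card φ.ker * Nat.card φ.range = Nat.card ↥F := by
    rw [← Subgroup.index_ker]; exact Subgroup.card_mul_index _
  calc Nat.card ↥F = Nat.card φ.ker * Nat.card φ.range := hcard.symm
    _ ≤ Nat.card ↥(F ⊓ centralizer ({w} : Set X)) * Nat.card ↥(F ⊓ centralizer ({w} : Set X)) :=
        Nat.mul_le_mul hker hrange
    _ = _ := (pow_two _).symm

theorem card_CE_le [Finite X] (E : Subgroup X) [E.Normal] (hE : IsElementaryAbelian 2 E)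
    (A : Subgroup X) (hA : IsElementaryAbelian 2 A) (B : Subgroup X) (hBA : B ≤ A) {w : X}
    (hwA : w ∈ A) :
    Nat.card ↥(E ⊓ centralizer (B : Set X)) ≤
      Nat.card ↥(E ⊓ centralizer ((B ⊔ zpowers w : Subgroup X) : Set X)) ^ 2 := by
  have hF : IsElementaryAbelian 2 (E ⊓ centralizer (B : Set X)) := IsElemAb.mono hE inf_le_left
  have hnorm : w ∈ normalizer ((E ⊓ centralizer (B : Set X) : Subgroup X) : Set X) := by
    apply inf_normalizer_le_normalizer_inf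
    refine mem_inf.mpr ⟨by rw [normalizer_eq_top]; exact mem_top w, le_normalizer ?_⟩
    rw [mem_centralizer_iff]
    intro b hb
    exact comm_of_elem hA (hBA hb) hwA
  have h1 := card_le_sq_of_involution _ hF w hnorm (hA.2 w hwA)
  have h2 : (E ⊓ centralizer (B : Set X)) ⊓ centralizer ({w} : Set X) ≤
      E ⊓ centralizer ((B ⊔ zpowers w : Subgroup X) : Set X) := by
    intro x hx
    obtain ⟨hx1, hxw⟩ := mem_inf.mp hx
    obtain ⟨hxE, hxB⟩ := mem_inf.mp hx1
    refine mem_inf.mpr ⟨hxE, ?_⟩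
    rw [mem_centralizer_iff]
    intro y hy
    have h3 : B ⊔ zpowers w ≤ centralizer ({x} : Set X) := by
      refine sup_le (fun b hb => ?_) (zpowers_le.mpr ?_)
      · exact mem_centralizer_singleton_iff.mpr (mem_centralizer_iff.mp hxB b hb)
      · exact mem_centralizer_singleton_iff.mpr (mem_centralizer_singleton_iff.mp hxw).symm
    exact mem_centralizer_singleton_iff.mp (h3 hy)
  exact h1.trans (Nat.pow_le_pow_left (Subgroup.card_le_of_le h2) 2)

theorem card_CE_le_pow [Finite X] (E : Subgroup X) [E.Normal] (hE : IsElementaryAbelian 2 E)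
    (A : Subgroup X) (hA : IsElementaryAbelian 2 A) :
    ∀ r : ℕ, ∀ B : Subgroup X, B ≤ A → Nat.card A = 2 ^ r * Nat.card B →
      Nat.card ↥(E ⊓ centralizer (B : Set X)) ≤
        Nat.card ↥(E ⊓ centralizer (A : Set X)) ^ (2 ^ r) := by
  intro r
  induction r with
  | zero =>
    intro B hBA hcard
    have : B = A := Subgroup.eq_of_le_of_card_ge hBA (by rw [hcard]; simp)
    rw [this, pow_zero, pow_one]
  | succ r ih =>
    intro B hBA hcard
    have hBne : B ≠ A := by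
      intro h
      rw [h] at hcard
      have hpos : 0 < Nat.card A := Nat.card_pos
      have h2 : 2 ^ (r + 1) * Nat.card A ≥ 2 * Nat.card A :=
        Nat.mul_le_mul_right _ (by rw [pow_succ]; have := Nat.one_le_two_pow (n := r); omega)
      omega
    obtain ⟨w, hwA, hwB⟩ := SetLike.exists_of_lt (lt_of_le_of_ne hBA hBne)
    have hw2 : w ^ 2 = 1 := hA.2 w hwA
    have hw1 : w ≠ 1 := fun h => hwB (h ▸ one_mem B)
    have hcomm : ∀ b ∈ B, ∀ z ∈ zpowers w, b * z = z * b := by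
      intro b hb z hz
      exact comm_of_elem hA (hBA hb) (zpowers_le.mpr hwA hz)
    have hdisj : B ⊓ zpowers w = ⊥ := by
      rw [eq_bot_iff]
      intro x hx
      obtain ⟨hxB, hxw⟩ := mem_inf.mp hx
      rcases mem_zpowers_of_sq_eq_one hw2 hxw with h | h
      · exact mem_bot.mpr h
      · exact absurd (h ▸ hxB) hwB
    have hcardB' : Nat.card ↥(B ⊔ zpowers w : Subgroup X) = Nat.card B * 2 := by
      rw [Cfsg.Agent.Lib.Helper10.card_sup_of_commute_of_disjoint B (zpowers w) hcomm hdisj,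
        Nat.card_zpowers, orderOf_eq_prime hw2 hw1]
    have hB'A : B ⊔ zpowers w ≤ A := sup_le hBA (zpowers_le.mpr hwA)
    have h1 := ih (B ⊔ zpowers w) hB'A (by rw [hcardB', hcard, pow_succ]; ring)
    have h2 := card_CE_le E hE A hA B hBA hwA
    calc Nat.card ↥(E ⊓ centralizer (B : Set X))
        ≤ Nat.card ↥(E ⊓ centralizer ((B ⊔ zpowers w : Subgroup X) : Set X)) ^ 2 := h2
      _ ≤ (Nat.card ↥(E ⊓ centralizer (A : Set X)) ^ (2 ^ r)) ^ 2 := Nat.pow_le_pow_left h1 2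
      _ = Nat.card ↥(E ⊓ centralizer (A : Set X)) ^ (2 ^ (r + 1)) := by
          rw [← pow_mul, pow_succ]

/-- Some element of `E` outside `A` centralizes `A`. -/
theorem exists_centralizing [Finite X] (hX : IsPGroup 2 X) (E : Subgroup X) [E.Normal]
    (hE : IsElementaryAbelian 2 E) (hE32 : 32 ≤ Nat.card ↥E) (A : Subgroup X)
    (hA : IsElementaryAbelian 2 A) (hA8 : Nat.card A ≤ 8) :
    ∃ f ∈ E, f ∈ centralizer (A : Set X) ∧ f ∉ A := by
  haveI : Fact (Nat.Prime 2) := ⟨Nat.prime_two⟩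
  obtain ⟨m, hm⟩ := IsPGroup.iff_card.mp (hX.to_subgroup A)
  obtain ⟨k, hk⟩ := IsPGroup.iff_card.mp (hX.to_subgroup (A ⊓ E))
  have hkm : k ≤ m := by
    have h1 : Nat.card ↥(A ⊓ E : Subgroup X) ∣ Nat.card A := Subgroup.card_dvd_of_le inf_le_left
    rw [hm, hk] at h1
    exact (Nat.pow_dvd_pow_iff_le_right (by norm_num : 1 < 2)).mp h1
  have hm3 : m ≤ 3 := by
    rw [hm] at hA8
    have : (2 : ℕ) ^ m ≤ 2 ^ 3 := by norm_num; exact hA8
    exact (Nat.pow_le_pow_iff_right (by norm_num : 1 < 2)).mp this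
  have hL3 := card_CE_le_pow E hE A hA (m - k) (A ⊓ E) inf_le_left (by
    rw [hm, hk, ← pow_add]; congr 1; omega)
  have hCE : E ⊓ centralizer ((A ⊓ E : Subgroup X) : Set X) = E := by
    apply inf_of_le_left
    intro x hx
    rw [mem_centralizer_iff]
    intro y hy
    exact comm_of_elem hE (mem_inf.mp hy).2 hx
  rw [hCE] at hL3
  by_contra hcon
  push Not at hcon
  have hle : E ⊓ centralizer (A : Set X) ≤ A ⊓ E := by
    intro x hx
    obtain ⟨hxE, hxC⟩ := mem_inf.mp hx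
    exact mem_inf.mpr ⟨hcon x hxE hxC, hxE⟩
  have h2 : Nat.card ↥(E ⊓ centralizer (A : Set X)) ≤ 2 ^ k := by
    rw [← hk]; exact Subgroup.card_le_of_le hle
  have h3 : 32 ≤ (2 ^ k) ^ (2 ^ (m - k)) :=
    hE32.trans (hL3.trans (Nat.pow_le_pow_left h2 _))
  have h4 : (2 ^ k) ^ (2 ^ (m - k)) < 32 := by
    interval_cases m <;> interval_cases k <;> norm_num
  omega

/-- Intermediate subgroups of prescribed order in a `p`-group. -/
theorem exists_between [Finite X] {p : ℕ} [Fact p.Prime] (T W : Subgroup X) (hWT : W ≤ T)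
    {n m : ℕ} (hW : Nat.card W = p ^ n) (hT : p ^ m ∣ Nat.card T) (hnm : n ≤ m) :
    ∃ K : Subgroup X, W ≤ K ∧ K ≤ T ∧ Nat.card K = p ^ m := by
  have h1 : Nat.card ↥(W.subgroupOf T) = p ^ n := by
    rw [← hW]
    exact Nat.card_congr (Subgroup.subgroupOfEquivOfLe hWT).toEquiv
  obtain ⟨K', hK', hWK'⟩ := Sylow.exists_subgroup_card_pow_prime_le p hT (W.subgroupOf T) h1 hnm
  refine ⟨K'.map T.subtype, ?_, Subgroup.map_subtype_le _, ?_⟩
  · have := Subgroup.map_mono (f := T.subtype) hWK'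
    rwa [Subgroup.subgroupOf_map_subtype, inf_of_le_left hWT] at this
  · rw [Subgroup.card_map_of_injective T.subtype_injective, hK']

/-- The adjacency relation on elementary abelian subgroups of order 8. -/
def Adj (C D : Subgroup X) : Prop :=
  IsElementaryAbelian 2 C ∧ Nat.card ↥C = 8 ∧ IsElementaryAbelian 2 D ∧ Nat.card ↥D = 8 ∧
    ⁅C, D⁆ = ⊥

theorem Adj.symm {C D : Subgroup X} (h : Adj C D) : Adj D C :=
  ⟨h.2.2.1, h.2.2.2.1, h.1, h.2.1, by rw [Subgroup.commutator_comm]; exact h.2.2.2.2⟩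

theorem reflTransGen_symm {C D : Subgroup X} (h : Relation.ReflTransGen Adj C D) :
    Relation.ReflTransGen Adj D C := by
  induction h with
  | refl => exact Relation.ReflTransGen.refl
  | tail _ hbc ih => exact Relation.ReflTransGen.head hbc.symm ih

theorem step [Finite X] (hX : IsPGroup 2 X) (E : Subgroup X) [E.Normal]
    (hE : IsElementaryAbelian 2 E) (hE32 : 32 ≤ Nat.card ↥E) (A : Subgroup X)
    (hA : IsElementaryAbelian 2 A) (hA8 : Nat.card A = 8) (hAE : ¬ A ≤ E) :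
    ∃ A' : Subgroup X, IsElementaryAbelian 2 A' ∧ Nat.card A' = 8 ∧ ⁅A, A'⁆ = ⊥ ∧
      Nat.card ↥(A ⊓ E : Subgroup X) < Nat.card ↥(A' ⊓ E : Subgroup X) := by
  haveI : Fact (Nat.Prime 2) := ⟨Nat.prime_two⟩
  obtain ⟨f, hfE, hfC, hfA⟩ := exists_centralizing hX E hE hE32 A hA hA8.le
  have hf2 : f ^ 2 = 1 := hE.2 f hfE
  have hf1 : f ≠ 1 := fun h => hfA (h ▸ one_mem A)
  have hcomm : ∀ a ∈ A, ∀ z ∈ zpowers f, a * z = z * a := by
    intro a ha z hz
    have h1 : zpowers f ≤ centralizer (A : Set X) := zpowers_le.mpr hfC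
    exact mem_centralizer_iff.mp (h1 hz) a ha
  have hT : IsElementaryAbelian 2 (A ⊔ zpowers f) := isElemAb_sup hA (isElemAb_zpowers hf2) hcomm
  have hdisj : A ⊓ zpowers f = ⊥ := by
    rw [eq_bot_iff]
    intro x hx
    obtain ⟨hxA, hxf⟩ := mem_inf.mp hx
    rcases mem_zpowers_of_sq_eq_one hf2 hxf with h | h
    · exact mem_bot.mpr h
    · exact absurd (h ▸ hxA) hfA
  have hcardT : Nat.card ↥(A ⊔ zpowers f : Subgroup X) = 2 ^ 4 := by
    rw [Cfsg.Agent.Lib.Helper10.card_sup_of_commute_of_disjoint A (zpowers f) hcomm hdisj,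
      Nat.card_zpowers, orderOf_eq_prime hf2 hf1, hA8]
    norm_num
  -- W = (A ∩ E)⟨f⟩
  obtain ⟨k, hk⟩ := IsPGroup.iff_card.mp (hX.to_subgroup (A ⊓ E))
  have hlt : A ⊓ E < A := lt_of_le_of_ne inf_le_left (fun h => hAE (h ▸ inf_le_right))
  have hk3 : k < 3 := by
    have h1 : Nat.card ↥(A ⊓ E : Subgroup X) < Nat.card A := by
      have h2 : ((A ⊓ E : Subgroup X) : Set X) ⊂ (A : Set X) := SetLike.coe_ssubset_coe.mpr hlt
      have := Set.ncard_lt_ncard h2 (Set.toFinite _)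
      rwa [← Nat.card_coe_set_eq, ← Nat.card_coe_set_eq] at this
    rw [hk, hA8] at h1
    have : (2 : ℕ) ^ k < 2 ^ 3 := by norm_num; exact h1
    exact (Nat.pow_lt_pow_iff_right (by norm_num : 1 < 2)).mp this
  have hcommW : ∀ a ∈ A ⊓ E, ∀ z ∈ zpowers f, a * z = z * a :=
    fun a ha z hz => hcomm a (mem_inf.mp ha).1 z hz
  have hdisjW : (A ⊓ E) ⊓ zpowers f = ⊥ := by
    rw [eq_bot_iff, ← hdisj]
    exact inf_le_inf_right _ inf_le_left
  have hcardW : Nat.card ↥((A ⊓ E) ⊔ zpowers f : Subgroup X) = 2 ^ (k + 1) := by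
    rw [Cfsg.Agent.Lib.Helper10.card_sup_of_commute_of_disjoint (A ⊓ E) (zpowers f) hcommW hdisjW,
      Nat.card_zpowers, orderOf_eq_prime hf2 hf1, hk, pow_succ]
  have hWT : (A ⊓ E) ⊔ zpowers f ≤ A ⊔ zpowers f := sup_le_sup_right inf_le_left _
  obtain ⟨A', hWA', hA'T, hA'8⟩ := exists_between (p := 2) (A ⊔ zpowers f) ((A ⊓ E) ⊔ zpowers f)
    hWT (n := k + 1) (m := 3) hcardW (by rw [hcardT]; norm_num) (by omega)
  refine ⟨A', IsElemAb.mono hT hA'T, by rw [hA'8]; norm_num, ?_, ?_⟩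
  · rw [Subgroup.commutator_eq_bot_iff_le_centralizer]
    intro a ha
    rw [mem_centralizer_iff]
    intro b hb
    exact comm_of_elem hT (hA'T hb) (le_sup_left (a := A) ha)
  · have hWE : (A ⊓ E) ⊔ zpowers f ≤ A' ⊓ E :=
      le_inf hWA' (sup_le inf_le_right (zpowers_le.mpr hfE))
    have h1 := Subgroup.card_le_of_le hWE
    rw [hcardW] at h1
    rw [hk]
    have : (2 : ℕ) ^ k < 2 ^ (k + 1) := by rw [pow_succ]; have := Nat.one_le_two_pow (n := k); omega
    omega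

theorem reach [Finite X] (hX : IsPGroup 2 X) (E : Subgroup X) [E.Normal]
    (hE : IsElementaryAbelian 2 E) (hE32 : 32 ≤ Nat.card ↥E) :
    ∀ d : ℕ, ∀ A : Subgroup X, IsElementaryAbelian 2 A → Nat.card A = 8 →
      8 - Nat.card ↥(A ⊓ E : Subgroup X) = d →
      ∃ A₀ : Subgroup X, IsElementaryAbelian 2 A₀ ∧ Nat.card A₀ = 8 ∧ A₀ ≤ E ∧
        Relation.ReflTransGen Adj A A₀ := by
  intro d
  induction d using Nat.strong_induction_on with
  | _ d IH =>
  intro A hA hA8 hd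
  by_cases hAE : A ≤ E
  · exact ⟨A, hA, hA8, hAE, Relation.ReflTransGen.refl⟩
  obtain ⟨A', hA', hA'8, hcomm, hlt⟩ := step hX E hE hE32 A hA hA8 hAE
  have hle : Nat.card ↥(A' ⊓ E : Subgroup X) ≤ 8 := by
    rw [← hA'8]; exact Subgroup.card_le_of_le inf_le_left
  obtain ⟨A₀, hA₀, hA₀8, hA₀E, hchain⟩ := IH (8 - Nat.card ↥(A' ⊓ E : Subgroup X)) (by omega) A' hA'
    hA'8 rfl
  exact ⟨A₀, hA₀, hA₀8, hA₀E, Relation.ReflTransGen.head ⟨hA, hA8, hA', hA'8, hcomm⟩ hchain⟩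

end Aux

theorem result {X : Type*} [Group X] [Finite X]
    (hX : IsPGroup 2 X) (E : Subgroup X) [E.Normal] (hE : Cfsg.IsElementaryAbelian 2 E) (hE32 : 32 ≤ Nat.card ↥E) :
    (∀ A B : Subgroup X, Cfsg.IsElementaryAbelian 2 A → Nat.card ↥A = 8 → Cfsg.IsElementaryAbelian 2 B → Nat.card ↥B = 8 →
        Relation.ReflTransGen
          (fun C D : Subgroup X => Cfsg.IsElementaryAbelian 2 C ∧ Nat.card ↥C = 8 ∧ Cfsg.IsElementaryAbelian 2 D ∧ Nat.card ↥D = 8 ∧ ⁅C, D⁆ = ⊥)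
          A B) ∧
      (∀ V : Subgroup X, Cfsg.IsElementaryAbelian 2 V → Nat.card ↥V = 4 →
        ∃ A : Subgroup X, V ≤ A ∧ Cfsg.IsElementaryAbelian 2 A ∧ Nat.card ↥A = 8) := by
  refine ⟨?_, ?_⟩
  · intro A B hA hA8 hB hB8
    obtain ⟨A₀, hA₀, hA₀8, hA₀E, hchainA⟩ := reach hX E hE hE32 _ A hA hA8 rfl
    obtain ⟨B₀, hB₀, hB₀8, hB₀E, hchainB⟩ := reach hX E hE hE32 _ B hB hB8 rfl
    have hadj : Adj A₀ B₀ := by
      refine ⟨hA₀, hA₀8, hB₀, hB₀8, ?_⟩
      rw [Subgroup.commutator_eq_bot_iff_le_centralizer]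
      intro a ha
      rw [mem_centralizer_iff]
      intro b hb
      exact comm_of_elem hE (hB₀E hb) (hA₀E ha)
    exact (hchainA.tail hadj).trans (reflTransGen_symm hchainB)
  · intro V hV hV4
    obtain ⟨f, hfE, hfC, hfV⟩ := exists_centralizing hX E hE hE32 V hV (by rw [hV4]; norm_num)
    have hf2 : f ^ 2 = 1 := hE.2 f hfE
    have hf1 : f ≠ 1 := fun h => hfV (h ▸ one_mem V)
    have hcomm : ∀ a ∈ V, ∀ z ∈ Subgroup.zpowers f, a * z = z * a := by
      intro a ha z hz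
      have h1 : Subgroup.zpowers f ≤ Subgroup.centralizer (V : Set X) :=
        Subgroup.zpowers_le.mpr hfC
      exact Subgroup.mem_centralizer_iff.mp (h1 hz) a ha
    have hdisj : V ⊓ Subgroup.zpowers f = ⊥ := by
      rw [eq_bot_iff]
      intro x hx
      obtain ⟨hxA, hxf⟩ := Subgroup.mem_inf.mp hx
      rcases mem_zpowers_of_sq_eq_one hf2 hxf with h | h
      · exact Subgroup.mem_bot.mpr h
      · exact absurd (h ▸ hxA) hfV
    refine ⟨V ⊔ Subgroup.zpowers f, le_sup_left, isElemAb_sup hV (isElemAb_zpowers hf2) hcomm, ?_⟩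
    rw [Cfsg.Agent.Lib.Helper10.card_sup_of_commute_of_disjoint V (Subgroup.zpowers f) hcomm hdisj,
      Nat.card_zpowers, orderOf_eq_prime hf2 hf1, hV4]

end Cfsg.Agent.S1785
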