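import Cfsg.Statements.S1784
import Cfsg.Agent.S1785
import Cfsg.Agent.Lib.Helper9.Layer2
import Cfsg.Agent.Lib.Helper1.Frattini

set_option autoImplicit false
open Cfsg

namespace Cfsg.Agent.S1784

open Subgroup
open scoped commutatorElement

section Aux

variable {G : Type*} [Group G]

/-- Elementwise description of an extraspecial 2-subgroup `Q` with centre `⟨z⟩`. -/
structure ES (Q : Subgroup G) (z : G) : Prop where
  z_mem : z ∈ Q
  z_ne : z ≠ 1
  z_sq : z * z = 1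
  z_cent : ∀ a ∈ Q, a * z = z * a
  comm : ∀ a ∈ Q, ∀ b ∈ Q, ⁅a, b⁆ = 1 ∨ ⁅a, b⁆ = z
  sq : ∀ a ∈ Q, a * a = 1 ∨ a * a = z
  cent : ∀ a ∈ Q, (∀ b ∈ Q, a * b = b * a) → a = 1 ∨ a = z

variable {Q : Subgroup G} {z : G}

theorem ES.z_inv (h : ES Q z) : z⁻¹ = z := inv_eq_of_mul_eq_one_left h.z_sq

theorem ES.mem_of (h : ES Q z) {e : G} (he : e = 1 ∨ e = z) : e ∈ Q := by
  rcases he with he | he <;> rw [he]
  · exact one_mem Q
  · exact h.z_mem

theorem ES.central (h : ES Q z) {e : G} (he : e = 1 ∨ e = z) {a : G} (ha : a ∈ Q) :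
    a * e = e * a := by
  rcases he with he | he <;> rw [he]
  · rw [mul_one, one_mul]
  · exact h.z_cent a ha

theorem ES.zpowers_cases (h : ES Q z) {x : G} (hx : x ∈ zpowers z) : x = 1 ∨ x = z :=
  Cfsg.Agent.S1785.mem_zpowers_of_sq_eq_one (by rw [pow_two]; exact h.z_sq) hx

theorem ES.mem_zpowers (_h : ES Q z) {e : G} (he : e = 1 ∨ e = z) : e ∈ zpowers z := by
  rcases he with he | he <;> rw [he]
  · exact one_mem _
  · exact Subgroup.mem_zpowers z

theorem ES.card_zpowers (h : ES Q z) : Nat.card (zpowers z) = 2 := by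
  rw [Nat.card_zpowers]
  exact orderOf_eq_prime (by rw [pow_two]; exact h.z_sq) h.z_ne

theorem ES.zpowers_le (h : ES Q z) : zpowers z ≤ Q := Subgroup.zpowers_le.mpr h.z_mem

/-- `[x, e b] = [x, b]` when `x` commutes with `e`. -/
theorem ES.comm_mul_left (h : ES Q z) {x b e : G} (hx : x ∈ Q) (hb : b ∈ Q) (he : e ∈ Q)
    (hxe : x * e = e * x) : ⁅x, e * b⁆ = ⁅x, b⁆ := by
  have h1 : ⁅x, e * b⁆ = e * ⁅x, b⁆ * e⁻¹ := by
    simp only [commutatorElement_def]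
    calc x * (e * b) * x⁻¹ * (e * b)⁻¹ = (x * e) * b * x⁻¹ * b⁻¹ * e⁻¹ := by group
      _ = (e * x) * b * x⁻¹ * b⁻¹ * e⁻¹ := by rw [hxe]
      _ = e * (x * b * x⁻¹ * b⁻¹) * e⁻¹ := by group
  rw [h1, h.central (h.comm x hx b hb) he, mul_inv_cancel_right]

/-- If `[x', b] = [x, b]` then `x' x⁻¹` commutes with `b`. -/
theorem ES.diff_comm (h : ES Q z) {x x' b : G} (hx : x ∈ Q) (hx' : x' ∈ Q) (hb : b ∈ Q)
    (heq : ⁅x', b⁆ = ⁅x, b⁆) : (x' * x⁻¹) * b = b * (x' * x⁻¹) := by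
  obtain ⟨f, hf⟩ : ∃ f : G, f = ⁅x, b⁆ := ⟨_, rfl⟩
  have hf' := h.comm x hx b hb
  rw [← hf] at hf' heq
  have h1 : x * b = f * b * x := by rw [hf, commutatorElement_def]; group
  have h2 : x' * b = f * b * x' := by rw [← heq, commutatorElement_def]; group
  have hfx' : x' * f = f * x' := h.central hf' hx'
  have hfb : b * f = f * b := h.central hf' hb
  -- x⁻¹ b = f⁻¹ b x⁻¹
  have h3 : x⁻¹ * b = f⁻¹ * b * x⁻¹ := by
    have : b * x = f⁻¹ * (x * b) := by rw [h1]; group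
    calc x⁻¹ * b = x⁻¹ * (b * x) * x⁻¹ := by group
      _ = x⁻¹ * (f⁻¹ * (x * b)) * x⁻¹ := by rw [this]
      _ = (x⁻¹ * f⁻¹ * x) * b * x⁻¹ := by group
      _ = f⁻¹ * b * x⁻¹ := by
          have hfx : x * f = f * x := h.central hf' hx
          have : x⁻¹ * f⁻¹ * x = f⁻¹ := by
            have h5 : Commute x f := hfx
            have h6 : Commute x⁻¹ f⁻¹ := h5.inv_inv
            rw [h6.eq, inv_mul_cancel_right]
          rw [this]
  calc x' * x⁻¹ * b = x' * (x⁻¹ * b) := by group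
    _ = x' * (f⁻¹ * b * x⁻¹) := by rw [h3]
    _ = (x' * f⁻¹) * b * x⁻¹ := by group
    _ = (f⁻¹ * x') * b * x⁻¹ := by
        have h5 : Commute x' f := hfx'
        rw [h5.inv_right.eq]
    _ = f⁻¹ * (x' * b) * x⁻¹ := by group
    _ = f⁻¹ * (f * b * x') * x⁻¹ := by rw [h2]
    _ = b * (x' * x⁻¹) := by group

/-- Halving: `|K| ≤ 2 |C_K(a)|`. -/
theorem ES.card_le_two_mul [Finite G] (h : ES Q z) (K : Subgroup G) (hK : K ≤ Q) {a : G}
    (ha : a ∈ Q) : Nat.card K ≤ 2 * Nat.card ↥(K ⊓ centralizer ({a} : Set G)) := by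
  have hmem : ∀ k : ↥K, ⁅(k : G), a⁆ ∈ zpowers z := fun k =>
    h.mem_zpowers (h.comm k (hK k.2) a ha)
  let ψ : ↥K →* ↥(zpowers z) := MonoidHom.mk' (fun k => ⟨⁅(k : G), a⁆, hmem k⟩) (by
    intro k k'
    apply Subtype.ext
    show ⁅(k : G) * (k' : G), a⁆ = ⁅(k : G), a⁆ * ⁅(k' : G), a⁆
    have hc' := h.comm k' (hK k'.2) a ha
    have h1 : ⁅(k : G) * (k' : G), a⁆ = (k : G) * ⁅(k' : G), a⁆ * (k : G)⁻¹ * ⁅(k : G), a⁆ := by
      simp only [commutatorElement_def]; group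
    rw [h1, h.central hc' (hK k.2), mul_inv_cancel_right]
    exact (h.central hc' (h.mem_of (h.comm k (hK k.2) a ha))).symm)
  have hker : Nat.card ψ.ker ≤ Nat.card ↥(K ⊓ centralizer ({a} : Set G)) := by
    have hk : ∀ x : ψ.ker, ((x : ↥K) : G) ∈ K ⊓ centralizer ({a} : Set G) := by
      intro x
      refine mem_inf.mpr ⟨(x : ↥K).2, ?_⟩
      rw [mem_centralizer_singleton_iff]
      have h1 := congrArg Subtype.val (MonoidHom.mem_ker.mp x.2)
      exact commutatorElement_eq_one_iff_mul_comm.mp h1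
    apply Nat.card_le_card_of_injective (fun x : ψ.ker =>
      (⟨((x : ↥K) : G), hk x⟩ : ↥(K ⊓ centralizer ({a} : Set G))))
    intro x y hxy
    apply Subtype.ext
    apply Subtype.ext
    have h9 := congrArg Subtype.val hxy
    exact h9
  have hrange : Nat.card ψ.range ≤ 2 := by
    rw [← h.card_zpowers]
    exact Subgroup.card_le_card_group _
  have hcard : Nat.card ψ.ker * Nat.card ψ.range = Nat.card ↥K := by
    rw [← Subgroup.index_ker]; exact Subgroup.card_mul_index _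
  calc Nat.card ↥K = Nat.card ψ.ker * Nat.card ψ.range := hcard.symm
    _ ≤ Nat.card ↥(K ⊓ centralizer ({a} : Set G)) * 2 := Nat.mul_le_mul hker hrange
    _ = _ := mul_comm _ _

theorem inf_centralizer_sup_zpowers (Q A : Subgroup G) (a : G) :
    (Q ⊓ centralizer (A : Set G)) ⊓ centralizer ({a} : Set G) ≤
      Q ⊓ centralizer ((A ⊔ zpowers a : Subgroup G) : Set G) := by
  intro x hx
  obtain ⟨hx1, hxa⟩ := mem_inf.mp hx
  obtain ⟨hxQ, hxA⟩ := mem_inf.mp hx1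
  refine mem_inf.mpr ⟨hxQ, ?_⟩
  rw [mem_centralizer_iff]
  intro y hy
  have h3 : A ⊔ zpowers a ≤ centralizer ({x} : Set G) := by
    refine sup_le (fun b hb => ?_) (zpowers_le.mpr ?_)
    · exact mem_centralizer_singleton_iff.mpr (mem_centralizer_iff.mp hxA b hb)
    · exact mem_centralizer_singleton_iff.mpr (mem_centralizer_singleton_iff.mp hxa).symm
  exact mem_centralizer_singleton_iff.mp (h3 hy)

/-- `|A| |C_Q(A)|` is monotone in `A`. -/
theorem ES.mono [Finite G] (h : ES Q z) : ∀ n : ℕ, ∀ A A' : Subgroup G,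
    Nat.card A' - Nat.card A = n → A ≤ A' → A' ≤ Q →
    Nat.card A * Nat.card ↥(Q ⊓ centralizer (A : Set G)) ≤
      Nat.card A' * Nat.card ↥(Q ⊓ centralizer (A' : Set G)) := by
  intro n
  induction n using Nat.strong_induction_on with
  | _ n IH =>
  intro A A' hn hAA' hA'Q
  by_cases hEq : A = A'
  · rw [hEq]
  obtain ⟨a, haA', haA⟩ := SetLike.exists_of_lt (lt_of_le_of_ne hAA' hEq)
  have hlt : A < A ⊔ zpowers a :=
    lt_of_le_of_ne le_sup_left (fun h1 => haA (by rw [h1]; exact mem_sup_right (Subgroup.mem_zpowers a)))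
  have hle : A ⊔ zpowers a ≤ A' := sup_le hAA' (Subgroup.zpowers_le.mpr haA')
  have hc1 := Cfsg.Agent.Lib.Helper1.card_lt_of_lt hlt
  have hc2 : Nat.card ↥(A ⊔ zpowers a : Subgroup G) ≤ Nat.card A' := Subgroup.card_le_of_le hle
  have hdvd : Nat.card A ∣ Nat.card ↥(A ⊔ zpowers a : Subgroup G) :=
    Subgroup.card_dvd_of_le le_sup_left
  have h2A : 2 * Nat.card A ≤ Nat.card ↥(A ⊔ zpowers a : Subgroup G) := by
    obtain ⟨k, hk⟩ := hdvd
    have hpos : 0 < Nat.card A := Nat.card_pos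
    rcases Nat.lt_or_ge k 2 with hk2 | hk2
    · interval_cases k
      · omega
      · omega
    · rw [hk]; nlinarith
  have hstep := h.card_le_two_mul (Q ⊓ centralizer (A : Set G)) inf_le_left (hA'Q haA')
  have hsub := Subgroup.card_le_of_le (inf_centralizer_sup_zpowers Q A a)
  have hIH := IH (Nat.card A' - Nat.card ↥(A ⊔ zpowers a : Subgroup G)) (by omega)
    (A ⊔ zpowers a) A' rfl hle hA'Q
  calc Nat.card A * Nat.card ↥(Q ⊓ centralizer (A : Set G))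
      ≤ Nat.card A * (2 * Nat.card ↥((Q ⊓ centralizer (A : Set G)) ⊓
          centralizer ({a} : Set G))) := Nat.mul_le_mul_left _ hstep
    _ ≤ Nat.card A * (2 * Nat.card ↥(Q ⊓ centralizer ((A ⊔ zpowers a : Subgroup G) : Set G))) :=
        Nat.mul_le_mul_left _ (Nat.mul_le_mul_left _ hsub)
    _ = (2 * Nat.card A) *
          Nat.card ↥(Q ⊓ centralizer ((A ⊔ zpowers a : Subgroup G) : Set G)) := by ring
    _ ≤ Nat.card ↥(A ⊔ zpowers a : Subgroup G) *
          Nat.card ↥(Q ⊓ centralizer ((A ⊔ zpowers a : Subgroup G) : Set G)) :=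
        Nat.mul_le_mul_right _ h2A
    _ ≤ _ := hIH

/-- `2 |Q| ≤ |A| |C_Q(A)|` for `Z ≤ A ≤ Q`. -/
theorem ES.up [Finite G] (h : ES Q z) (A : Subgroup G) (hZA : zpowers z ≤ A) (hAQ : A ≤ Q) :
    2 * Nat.card Q ≤ Nat.card A * Nat.card ↥(Q ⊓ centralizer (A : Set G)) := by
  have h1 := h.mono _ (zpowers z) A rfl hZA hAQ
  have h2 : Q ⊓ centralizer ((zpowers z : Subgroup G) : Set G) = Q := by
    apply inf_of_le_left
    intro a ha
    rw [mem_centralizer_iff]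
    intro y hy
    exact (h.central (h.zpowers_cases hy) ha).symm
  rw [h2, h.card_zpowers] at h1
  exact h1

/-- `|A| |C_Q(A)| ≤ 2 |Q|` for `A ≤ Q`. -/
theorem ES.down [Finite G] (h : ES Q z) (A : Subgroup G) (hAQ : A ≤ Q) :
    Nat.card A * Nat.card ↥(Q ⊓ centralizer (A : Set G)) ≤ 2 * Nat.card Q := by
  have h1 := h.mono _ A Q rfl hAQ le_rfl
  have h2 : Q ⊓ centralizer (Q : Set G) ≤ zpowers z := by
    intro x hx
    obtain ⟨hxQ, hxC⟩ := mem_inf.mp hx
    apply h.mem_zpowers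
    apply h.cent x hxQ
    intro b hb
    exact (mem_centralizer_iff.mp hxC b hb).symm
  have h3 := Subgroup.card_le_of_le h2
  rw [h.card_zpowers] at h3
  calc Nat.card A * Nat.card ↥(Q ⊓ centralizer (A : Set G)) ≤ _ := h1
    _ ≤ Nat.card Q * 2 := Nat.mul_le_mul_left _ h3
    _ = _ := mul_comm _ _

theorem main_a [Finite G] (h : ES Q z) {α : G} (hα2 : α * α = 1)
    (hαN : ∀ q ∈ Q, α * q * α⁻¹ ∈ Q) (hαz : α * z = z * α) (hne : ∃ q ∈ Q, α * q ≠ q * α)
    (Q₀ : Subgroup G)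
    (hQ₀ : ∀ q : G, q ∈ Q₀ ↔ (q ∈ Q ∧ α * q * α⁻¹ * q⁻¹ ∈ zpowers z)) :
    closure ((fun q : G => α * q * α⁻¹ * q⁻¹) '' (Q : Set G)) =
      (center ↥Q₀).map Q₀.subtype := by
  have αinv : α⁻¹ = α := inv_eq_of_mul_eq_one_left hα2
  simp only [αinv] at hαN hQ₀ ⊢
  obtain ⟨D, hD⟩ : ∃ D : Subgroup G, D = closure ((fun q : G => α * q * α * q⁻¹) '' (Q : Set G)) :=
    ⟨_, rfl⟩
  rw [← hD]
  have hcD : ∀ q ∈ Q, α * q * α * q⁻¹ ∈ D := fun q hq => by
    rw [hD]; exact subset_closure ⟨q, hq, rfl⟩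
  -- α fixes 1 and z
  have E3 : ∀ e : G, (e = 1 ∨ e = z) → α * e * α = e := by
    intro e he
    rcases he with he | he <;> rw [he]
    · rw [mul_one, hα2]
    · rw [hαz, mul_assoc, hα2, mul_one]
  have E5 : ∀ x ∈ Q, ∀ b ∈ Q, ⁅α * x * α, b⁆ = ⁅x, α * b * α⁆ := by
    intro x hx b hb
    have h1 : ⁅α * x * α, b⁆ = α * ⁅x, α * b * α⁆ * α := by
      simp only [commutatorElement_def]
      have i1 : (α * x * α)⁻¹ = α * x⁻¹ * α := by
        rw [mul_inv_rev, mul_inv_rev, αinv, mul_assoc]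
      have i2 : (α * b * α)⁻¹ = α * b⁻¹ * α := by
        rw [mul_inv_rev, mul_inv_rev, αinv, mul_assoc]
      rw [i1, i2]
      calc α * x * α * b * (α * x⁻¹ * α) * b⁻¹
          = α * x * α * b * α * x⁻¹ * α * b⁻¹ * 1 := by group
        _ = α * x * α * b * α * x⁻¹ * α * b⁻¹ * (α * α) := by rw [hα2]
        _ = α * (x * (α * b * α) * x⁻¹ * (α * b⁻¹ * α)) * α := by group
    rw [h1]
    exact E3 _ (h.comm x hx _ (hαN b hb))
  have hQ₀Q : Q₀ ≤ Q := fun q hq => ((hQ₀ q).mp hq).1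
  have hZQ₀ : zpowers z ≤ Q₀ := by
    rw [Subgroup.zpowers_le, hQ₀]
    refine ⟨h.z_mem, ?_⟩
    rw [E3 z (Or.inr rfl), mul_inv_cancel]
    exact one_mem _
  have M1 : ∀ q ∈ Q, α * q * α * q⁻¹ ∈ Q := fun q hq => mul_mem (hαN q hq) (inv_mem hq)
  have M2 : ∀ q : G, α * (α * q * α * q⁻¹) * α = (α * q * α * q⁻¹)⁻¹ := by
    intro q
    have i1 : (α * q * α * q⁻¹)⁻¹ = q * α * q⁻¹ * α := by
      rw [mul_inv_rev, mul_inv_rev, mul_inv_rev, αinv, inv_inv]; group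
    rw [i1]
    calc α * (α * q * α * q⁻¹) * α = (α * α) * q * α * q⁻¹ * α := by group
      _ = q * α * q⁻¹ * α := by rw [hα2, one_mul]
  have M3 : ∀ q ∈ Q, α * q * α * q⁻¹ ∈ Q₀ := by
    intro q hq
    rw [hQ₀]
    refine ⟨M1 q hq, ?_⟩
    rw [M2 q, ← mul_inv_rev]
    apply inv_mem
    exact h.mem_zpowers (h.sq _ (M1 q hq))
  have M4 : ∀ q ∈ Q, ∀ x ∈ Q₀, (α * q * α * q⁻¹) * x = x * (α * q * α * q⁻¹) := by
    intro q hq x hx
    obtain ⟨hxQ, hxz⟩ := (hQ₀ x).mp hx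
    apply h.diff_comm hq (hαN q hq) hxQ
    rw [E5 q hq x hxQ]
    have h1 : α * x * α = (α * x * α * x⁻¹) * x := by group
    rw [h1]
    have he := h.zpowers_cases hxz
    exact h.comm_mul_left hq hxQ (h.mem_of he) (h.central he hq)
  have M5 : D ≤ (center ↥Q₀).map Q₀.subtype := by
    rw [hD, closure_le]
    rintro _ ⟨q, hq, rfl⟩
    refine ⟨⟨_, M3 q hq⟩, ?_, rfl⟩
    rw [SetLike.mem_coe, Subgroup.mem_center_iff]
    intro g
    apply Subtype.ext
    exact (M4 q hq g g.2).symm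
  have hDQ : D ≤ Q := M5.trans ((Subgroup.map_subtype_le _).trans hQ₀Q)
  have M6 : Q ⊓ centralizer (D : Set G) ≤ Q₀ := by
    intro x hx
    obtain ⟨hxQ, hxC⟩ := mem_inf.mp hx
    rw [hQ₀]
    refine ⟨hxQ, ?_⟩
    apply h.mem_zpowers
    apply h.cent _ (M1 x hxQ)
    intro b hb
    apply h.diff_comm hxQ (hαN x hxQ) hb
    rw [E5 x hxQ b hb]
    have h1 : α * b * α = (α * b * α * b⁻¹) * b := by group
    rw [h1]
    exact h.comm_mul_left hxQ hb (M1 b hb) (mem_centralizer_iff.mp hxC _ (hcD b hb)).symm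
  have M7 : z ∈ D := by
    obtain ⟨q₀, hq₀, hq₀α⟩ := hne
    obtain ⟨c₀, hc₀⟩ : ∃ c₀ : G, c₀ = α * q₀ * α * q₀⁻¹ := ⟨_, rfl⟩
    have hc₀D : c₀ ∈ D := hc₀ ▸ hcD q₀ hq₀
    have hc₀Q : c₀ ∈ Q := hDQ hc₀D
    have hc₀1 : c₀ ≠ 1 := by
      intro h1
      apply hq₀α
      rw [hc₀] at h1
      have h2 : α * q₀ * α = q₀ := by
        calc α * q₀ * α = (α * q₀ * α * q₀⁻¹) * q₀ := by group
          _ = q₀ := by rw [h1, one_mul]
      calc α * q₀ = (α * q₀ * α) * α⁻¹ := by group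
        _ = q₀ * α := by rw [h2, αinv]
    rcases h.sq c₀ hc₀Q with hsq | hsq
    · by_cases hcen : ∀ b ∈ Q, c₀ * b = b * c₀
      · rcases h.cent c₀ hc₀Q hcen with h1 | h1
        · exact absurd h1 hc₀1
        · rw [← h1]; exact hc₀D
      · push Not at hcen
        obtain ⟨b, hb, hbc⟩ := hcen
        have h1 : ⁅b, c₀⁆ = z := by
          rcases h.comm b hb c₀ hc₀Q with h2 | h2
          · exfalso
            apply hbc
            exact (commutatorElement_eq_one_iff_mul_comm.mp h2).symm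
          · exact h2
        have h3 : b * c₀ * b⁻¹ ∈ D := by
          have h4 : α * (b * q₀) * α * (b * q₀)⁻¹ =
              (α * b * α * b⁻¹) * (b * (α * q₀ * α * q₀⁻¹) * b⁻¹) := by
            calc α * (b * q₀) * α * (b * q₀)⁻¹ = α * b * 1 * q₀ * α * q₀⁻¹ * b⁻¹ := by group
              _ = α * b * (α * α) * q₀ * α * q₀⁻¹ * b⁻¹ := by rw [hα2]
              _ = _ := by group
          have h5 : b * c₀ * b⁻¹ = (α * b * α * b⁻¹)⁻¹ * (α * (b * q₀) * α * (b * q₀)⁻¹) := by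
            rw [h4, hc₀]; group
          rw [h5]
          exact mul_mem (inv_mem (hcD b hb)) (hcD _ (mul_mem hb hq₀))
        have h6 : z = (b * c₀ * b⁻¹) * c₀⁻¹ := by rw [← h1, commutatorElement_def]
        rw [h6]
        exact mul_mem h3 (inv_mem hc₀D)
    · rw [← hsq]; exact mul_mem hc₀D hc₀D
  -- counting
  have hZD : zpowers z ≤ D := Subgroup.zpowers_le.mpr M7
  have hup := h.up D hZD hDQ
  have hdown := h.down Q₀ hQ₀Q
  have h1 : Nat.card ↥(Q ⊓ centralizer (D : Set G)) ≤ Nat.card Q₀ := Subgroup.card_le_of_le M6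
  have h2 : (center ↥Q₀).map Q₀.subtype ≤ Q ⊓ centralizer (Q₀ : Set G) := by
    rintro _ ⟨x, hx, rfl⟩
    refine mem_inf.mpr ⟨hQ₀Q x.2, ?_⟩
    rw [mem_centralizer_iff]
    intro y hy
    have := (Subgroup.mem_center_iff.mp hx) ⟨y, hy⟩
    exact congrArg Subtype.val this
  have h3 := Subgroup.card_le_of_le h2
  have hQ₀pos : 0 < Nat.card Q₀ := Nat.card_pos
  have h4 : Nat.card ↥(Q ⊓ centralizer (Q₀ : Set G)) ≤ Nat.card D := by
    have h5 : Nat.card Q₀ * Nat.card ↥(Q ⊓ centralizer (Q₀ : Set G)) ≤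
        Nat.card Q₀ * Nat.card D := by
      calc Nat.card Q₀ * Nat.card ↥(Q ⊓ centralizer (Q₀ : Set G)) ≤ 2 * Nat.card Q := hdown
        _ ≤ Nat.card D * Nat.card ↥(Q ⊓ centralizer (D : Set G)) := hup
        _ ≤ Nat.card D * Nat.card Q₀ := Nat.mul_le_mul_left _ h1
        _ = _ := mul_comm _ _
    exact Nat.le_of_mul_le_mul_left h5 hQ₀pos
  exact Subgroup.eq_of_le_of_card_ge M5 (h3.trans h4)

/-- The elementwise description of `F*(C_G(z))` when it is extraspecial. -/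
theorem es_of_extraspecial [Finite G] (z : G) (hz : orderOf z = 2)
    (hE : Cfsg.IsExtraspecial 2 ↥(Cfsg.generalizedFittingSubgroup ↥(centralizer ({z} : Set G)))) :
    ES ((Cfsg.generalizedFittingSubgroup ↥(centralizer ({z} : Set G))).map
      (centralizer ({z} : Set G)).subtype) z := by
  haveI : Fact (Nat.Prime 2) := ⟨Nat.prime_two⟩
  obtain ⟨C, hC⟩ : ∃ C : Subgroup G, C = centralizer ({z} : Set G) := ⟨_, rfl⟩
  rw [← hC] at hE ⊢
  obtain ⟨Qc, hQc⟩ : ∃ Qc : Subgroup ↥C, Qc = Cfsg.generalizedFittingSubgroup ↥C := ⟨_, rfl⟩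
  rw [← hQc] at hE ⊢
  have hz2 : z * z = 1 := by rw [← pow_two, ← hz]; exact pow_orderOf_eq_one z
  have hz1 : z ≠ 1 := by
    intro h1
    rw [h1, orderOf_one] at hz
    norm_num at hz
  have hCmem : ∀ x : G, x ∈ C ↔ x * z = z * x := by
    intro x; rw [hC]; exact mem_centralizer_singleton_iff
  have hzC : z ∈ C := (hCmem z).mpr rfl
  have hCz : ∀ c : ↥C, (c : G) * z = z * (c : G) := fun c => (hCmem c).mp c.2
  have hzcQ : (⟨z, hzC⟩ : ↥C) ∈ Qc := by
    rw [hQc]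
    apply Cfsg.Agent.Lib.Helper9.centralizer_gfs_le
    rw [mem_centralizer_iff]
    intro c _
    apply Subtype.ext
    exact hCz c
  obtain ⟨zq, hzq⟩ : ∃ zq : ↥Qc, zq = ⟨⟨z, hzC⟩, hzcQ⟩ := ⟨_, rfl⟩
  have hzqv : ((zq : ↥C) : G) = z := by rw [hzq]
  have hzq_center : zq ∈ center ↥Qc := by
    rw [Subgroup.mem_center_iff]
    intro x
    apply Subtype.ext
    apply Subtype.ext
    show ((x : ↥C) : G) * ((zq : ↥C) : G) = ((zq : ↥C) : G) * ((x : ↥C) : G)
    rw [hzqv]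
    exact hCz x
  have hzq2 : zq ^ 2 = 1 := by
    apply Subtype.ext
    apply Subtype.ext
    show ((zq : ↥C) : G) ^ 2 = 1
    rw [hzqv, pow_two, hz2]
  have hzq1 : zq ≠ 1 := by
    intro h1
    apply hz1
    rw [← hzqv, h1]
    rfl
  have hcenter : ∀ x : ↥Qc, x ∈ center ↥Qc → x = 1 ∨ x = zq := by
    intro x hx
    have h1 : zpowers zq ≤ center ↥Qc := Subgroup.zpowers_le.mpr hzq_center
    have h2 : zpowers zq = center ↥Qc := by
      apply Subgroup.eq_of_le_of_card_ge h1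
      rw [hE.2, Nat.card_zpowers, orderOf_eq_prime hzq2 hzq1]
    rw [← h2] at hx
    exact Cfsg.Agent.S1785.mem_zpowers_of_sq_eq_one hzq2 hx
  have hval : ∀ x : ↥Qc, (x = 1 ∨ x = zq) → (((x : ↥C) : G) = 1 ∨ ((x : ↥C) : G) = z) := by
    intro x hx
    rcases hx with hx | hx <;> rw [hx]
    · left; rfl
    · right; exact hzqv
  have hQmem : ∀ a ∈ Qc.map C.subtype, ∃ x : ↥Qc, ((x : ↥C) : G) = a := by
    rintro a ⟨c, hc, rfl⟩
    exact ⟨⟨c, hc⟩, rfl⟩
  refine ⟨⟨⟨z, hzC⟩, hzcQ, rfl⟩, hz1, hz2, ?_, ?_, ?_, ?_⟩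
  · intro a ha
    obtain ⟨x, rfl⟩ := hQmem a ha
    exact hCz x
  · intro a ha b hb
    obtain ⟨x, rfl⟩ := hQmem a ha
    obtain ⟨y, rfl⟩ := hQmem b hb
    have h1 : ⁅x, y⁆ ∈ center ↥Qc := by
      rw [← hE.1.2.2]
      exact Subgroup.commutator_mem_commutator (mem_top x) (mem_top y)
    exact hval _ (hcenter _ h1)
  · intro a ha
    obtain ⟨x, rfl⟩ := hQmem a ha
    have h1 : x ^ 2 ∈ center ↥Qc := by
      rw [← hE.1.2.1]
      exact Cfsg.Agent.Lib.Helper1.IsPGroup.pow_mem_frattini hE.1.1 x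
    have := hval _ (hcenter _ h1)
    rw [← pow_two]
    exact this
  · intro a ha hcen
    obtain ⟨x, rfl⟩ := hQmem a ha
    have h1 : x ∈ center ↥Qc := by
      rw [Subgroup.mem_center_iff]
      intro y
      apply Subtype.ext
      apply Subtype.ext
      exact (hcen _ ⟨(y : ↥C), y.2, rfl⟩).symm
    exact hval _ (hcenter _ h1)

end Aux

theorem result {G : Type*} [Group G] [Finite G] (z : G) (hz : orderOf z = 2) (hQ : Cfsg.IsOfSymplecticType ↥(Cfsg.generalizedFittingSubgroup ↥(Subgroup.centralizer ({z} : Set G)))) (hE : Cfsg.IsExtraspecial 2 ↥(Cfsg.generalizedFittingSubgroup ↥(Subgroup.centralizer ({z} : Set G))))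
    (α : G) (hα : orderOf α = 2) (hαC : α ∈ Subgroup.centralizer ({z} : Set G)) (hαQ : α ∉ (Cfsg.generalizedFittingSubgroup ↥(Subgroup.centralizer ({z} : Set G))).map (Subgroup.centralizer ({z} : Set G)).subtype)
    (Q₀ : Subgroup G) (hQ₀ : ∀ q : G, q ∈ Q₀ ↔ (q ∈ (Cfsg.generalizedFittingSubgroup ↥(Subgroup.centralizer ({z} : Set G))).map (Subgroup.centralizer ({z} : Set G)).subtype ∧ α * q * α⁻¹ * q⁻¹ ∈ Subgroup.zpowers z)) :
    Subgroup.closure ((fun q : G => α * q * α⁻¹ * q⁻¹) '' ((Cfsg.generalizedFittingSubgroup ↥(Subgroup.centralizer ({z} : Set G))).map (Subgroup.centralizer ({z} : Set G)).subtype : Set G)) = (Subgroup.center ↥Q₀).map Q₀.subtype ∧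
      (¬ Q₀ ≤ ((Cfsg.generalizedFittingSubgroup ↥(Subgroup.centralizer ({z} : Set G))).map (Subgroup.centralizer ({z} : Set G)).subtype ⊓ Subgroup.centralizer ({α} : Set G)) ⊔ Subgroup.zpowers z →
        ∃ q ∈ (Cfsg.generalizedFittingSubgroup ↥(Subgroup.centralizer ({z} : Set G))).map (Subgroup.centralizer ({z} : Set G)).subtype, q * α * q⁻¹ = α * z) := by
  have hES := es_of_extraspecial z hz hE
  have hα2 : α * α = 1 := by rw [← pow_two, ← hα]; exact pow_orderOf_eq_one α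
  have hαz : α * z = z * α := Subgroup.mem_centralizer_singleton_iff.mp hαC
  have hnorm : (Cfsg.generalizedFittingSubgroup ↥(Subgroup.centralizer ({z} : Set G))).Normal := by
    haveI : (Cfsg.generalizedFittingSubgroup
        ↥(Subgroup.centralizer ({z} : Set G))).Characteristic :=
      Cfsg.Agent.Lib.Helper9.gfs_characteristic
    infer_instance
  have hαN : ∀ q ∈ (Cfsg.generalizedFittingSubgroup ↥(Subgroup.centralizer ({z} : Set G))).map
      (Subgroup.centralizer ({z} : Set G)).subtype,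
      α * q * α⁻¹ ∈ (Cfsg.generalizedFittingSubgroup ↥(Subgroup.centralizer ({z} : Set G))).map
      (Subgroup.centralizer ({z} : Set G)).subtype := by
    rintro _ ⟨c, hc, rfl⟩
    exact ⟨⟨α, hαC⟩ * c * ⟨α, hαC⟩⁻¹, hnorm.conj_mem c hc ⟨α, hαC⟩, rfl⟩
  have hne : ∃ q ∈ (Cfsg.generalizedFittingSubgroup ↥(Subgroup.centralizer ({z} : Set G))).map
      (Subgroup.centralizer ({z} : Set G)).subtype, α * q ≠ q * α := by
    by_contra hcon
    push Not at hcon
    apply hαQ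
    refine ⟨⟨α, hαC⟩, ?_, rfl⟩
    apply Cfsg.Agent.Lib.Helper9.centralizer_gfs_le
    rw [Subgroup.mem_centralizer_iff]
    intro c hc
    apply Subtype.ext
    exact (hcon _ ⟨c, hc, rfl⟩).symm
  refine ⟨main_a hES hα2 hαN hαz hne Q₀ hQ₀, ?_⟩
  intro hnle
  obtain ⟨q, hq, hqn⟩ := SetLike.not_le_iff_exists.mp hnle
  obtain ⟨hqQ, hqz⟩ := (hQ₀ q).mp hq
  refine ⟨q, hqQ, ?_⟩
  rcases hES.zpowers_cases hqz with h1 | h1
  · exfalso
    apply hqn
    apply Subgroup.mem_sup_left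
    refine Subgroup.mem_inf.mpr ⟨hqQ, ?_⟩
    rw [Subgroup.mem_centralizer_singleton_iff]
    have h2 : α * q = (α * q * α⁻¹ * q⁻¹) * (q * α) := by group
    rw [h2, h1, one_mul]
  · have h2 : q * α * q⁻¹ = (α * q * α⁻¹ * q⁻¹)⁻¹ * α := by group
    rw [h2, h1, hES.z_inv, hαz]

end Cfsg.Agent.S1784
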