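import Cfsg.Statements.S3370
import Cfsg.Agent.Lib.Helper10.UniqueOrderP
import Cfsg.Agent.Lib.Helper19.Derangement
import Mathlib

set_option autoImplicit false
open Cfsg

namespace Cfsg.Agent.S3370

section NumberTheory

/-- `2^n - 1 = p^b` with `b ≥ 1` forces `b = 1`. -/
theorem nt_mersenne (n p b : ℕ) (hp : p.Prime) (hb : 1 ≤ b) (h : 2 ^ n = p ^ b + 1) : b = 1 := by
  -- p is odd
  have hp2 : p ≠ 2 := by
    rintro rfl
    have h1 : 2 ∣ 2 ^ b := dvd_pow_self 2 (by omega)
    have hn : n ≠ 0 := by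
      rintro rfl
      have : 2 ^ b ≥ 2 := by
        calc 2 = 2 ^ 1 := rfl
          _ ≤ 2 ^ b := Nat.pow_le_pow_right (by norm_num) hb
      simp at h
    have h2 : 2 ∣ 2 ^ n := dvd_pow_self 2 hn
    omega
  have hodd : Odd p := hp.odd_of_ne_two hp2
  have hp3 : 3 ≤ p := by
    have := hp.two_le
    rcases hodd with ⟨k, hk⟩
    omega
  have hpb : 3 ≤ p ^ b := by
    calc 3 ≤ p := hp3
      _ = p ^ 1 := (pow_one p).symm
      _ ≤ p ^ b := Nat.pow_le_pow_right (by omega) hb
  have hn2 : 2 ≤ n := by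
    by_contra hlt
    have : n = 0 ∨ n = 1 := by omega
    rcases this with rfl | rfl <;> simp at h <;> omega
  -- b is odd
  have hbodd : Odd b := by
    by_contra hbe
    rw [Nat.not_odd_iff_even] at hbe
    obtain ⟨c, rfl⟩ := hbe
    -- p^(2c) ≡ 1 mod 4
    have h1 : p ^ (c + c) % 4 = 1 := by
      rw [← two_mul, pow_mul]
      have : p ^ 2 % 4 = 1 := by
        rcases hodd with ⟨k, rfl⟩
        have : (2 * k + 1) ^ 2 = 4 * (k * k + k) + 1 := by ring
        rw [this]; omega
      rw [Nat.pow_mod, this]; simp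
    have h2 : 2 ^ n % 4 = 0 := by
      obtain ⟨k, rfl⟩ : ∃ k, n = k + 2 := ⟨n - 2, by omega⟩
      rw [pow_add]; omega
    omega
  -- p + 1 divides 2^n
  have hdvd : p + 1 ∣ p ^ b + 1 ^ b := Odd.nat_add_dvd_pow_add_pow p 1 hbodd
  rw [one_pow, ← h] at hdvd
  obtain ⟨k, hkn, hk⟩ := (Nat.dvd_prime_pow Nat.prime_two).mp hdvd
  -- p^2 ≡ 1 mod 2^(k+1)
  have hk1 : 1 ≤ k := by
    by_contra h0
    have : k = 0 := by omega
    rw [this] at hk; simp at hk; omega
  have hp1 : p = 2 ^ k - 1 := by omega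
  have hsq : p ^ 2 % 2 ^ (k + 1) = 1 := by
    have h2k : 2 ≤ 2 ^ k := by
      calc 2 = 2 ^ 1 := rfl
        _ ≤ 2 ^ k := Nat.pow_le_pow_right (by norm_num) hk1
    have : p ^ 2 = 2 ^ (k + 1) * (2 ^ (k - 1) - 1) + 1 := by
      obtain ⟨j, rfl⟩ : ∃ j, k = j + 1 := ⟨k - 1, by omega⟩
      rw [hp1, Nat.add_sub_cancel]
      have h3 : 1 ≤ 2 ^ j := Nat.one_le_pow _ _ (by norm_num)
      have h4 : 1 ≤ 2 ^ (j + 1) := Nat.one_le_pow _ _ (by norm_num)
      zify [h3, h4]
      ring
    rw [this, Nat.mul_add_mod]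
    apply Nat.mod_eq_of_lt
    calc 1 < 2 := by norm_num
      _ ≤ 2 ^ k := h2k
      _ ≤ 2 ^ (k + 1) := Nat.pow_le_pow_right (by norm_num) (by omega)
  obtain ⟨c, rfl⟩ := hbodd
  have hmod : (p ^ (2 * c + 1) + 1) % 2 ^ (k + 1) = 2 ^ k := by
    have h5 : p ^ (2 * c + 1) % 2 ^ (k + 1) = p % 2 ^ (k + 1) := by
      rw [pow_succ, pow_mul, Nat.mul_mod, Nat.pow_mod, hsq]
      simp
    rw [Nat.add_mod, h5, ← Nat.add_mod, hk]
    apply Nat.mod_eq_of_lt
    exact Nat.pow_lt_pow_right (by norm_num) (by omega)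
  -- so n ≤ k
  have hnk : n ≤ k := by
    by_contra hlt
    have h6 : 2 ^ (k + 1) ∣ 2 ^ n := Nat.pow_dvd_pow 2 (by omega)
    rw [h] at h6
    have := Nat.mod_eq_zero_of_dvd h6
    rw [hmod] at this
    have : 0 < 2 ^ k := by positivity
    omega
  have hnk' : n = k := le_antisymm hnk hkn
  rw [hnk', ← hk] at h
  have h7 : p ^ (2 * c + 1) = p ^ 1 := by rw [pow_one]; omega
  have := Nat.pow_right_injective hp.two_le h7
  omega

/-- two powers of two differing by two -/
theorem two_pow_add_two {i j : ℕ} (h : 2 ^ j = 2 ^ i + 2) : i = 1 ∧ j = 2 := by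
  have hi : i = 1 := by
    rcases Nat.lt_or_ge i 2 with hlt | hge
    · have : i = 0 ∨ i = 1 := by omega
      rcases this with rfl | rfl
      · exfalso
        rcases Nat.eq_zero_or_pos j with rfl | hj
        · simp at h
        · have : 2 ∣ 2 ^ j := dvd_pow_self 2 hj.ne'
          simp at h
          omega
      · rfl
    · exfalso
      have h4 : 4 ∣ 2 ^ i := by
        obtain ⟨k, rfl⟩ : ∃ k, i = k + 2 := ⟨i - 2, by omega⟩
        rw [pow_add]; exact Dvd.intro_left _ rfl
      have hj : j < 2 := by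
        by_contra hj
        have h4' : 4 ∣ 2 ^ j := by
          obtain ⟨k, rfl⟩ : ∃ k, j = k + 2 := ⟨j - 2, by omega⟩
          rw [pow_add]; exact Dvd.intro_left _ rfl
        omega
      have : j = 0 ∨ j = 1 := by omega
      have hpos : 0 < 2 ^ i := by positivity
      rcases this with rfl | rfl <;> simp at h
  subst hi
  refine ⟨rfl, ?_⟩
  have : 2 ^ j = 2 ^ 2 := by rw [h]; norm_num
  exact Nat.pow_right_injective (le_refl 2) this

/-- `q^n - 1 = 2^b` with `q` odd forces `n = 1` or `(q,n) = (3,2)`. -/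
theorem nt_fermat (q n b : ℕ) (hq : q.Prime) (hq2 : q ≠ 2) (hn : 1 ≤ n) (h : q ^ n = 2 ^ b + 1) :
    n = 1 ∨ (q = 3 ∧ n = 2) := by
  have hodd : Odd q := hq.odd_of_ne_two hq2
  rcases Nat.even_or_odd n with he | ho
  · right
    obtain ⟨k, rfl⟩ := he
    have hk : 1 ≤ k := by omega
    set x := q ^ k with hx
    have hx3 : 3 ≤ x := by
      have hq3 : 3 ≤ q := by
        have := hq.two_le
        rcases hodd with ⟨c, hc⟩
        omega
      calc 3 ≤ q := hq3
        _ = q ^ 1 := (pow_one q).symm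
        _ ≤ q ^ k := Nat.pow_le_pow_right (by omega) hk
    have hprod : (x - 1) * (x + 1) = 2 ^ b := by
      have : x * x = 2 ^ b + 1 := by rw [hx, ← pow_add]; exact h
      have h1 : 1 ≤ x := by omega
      zify [h1]
      zify at this
      linear_combination this
    have hd1 : x - 1 ∣ 2 ^ b := Dvd.intro _ hprod
    have hd2 : x + 1 ∣ 2 ^ b := Dvd.intro_left _ hprod
    obtain ⟨i, -, hi⟩ := (Nat.dvd_prime_pow Nat.prime_two).mp hd1
    obtain ⟨j, -, hj⟩ := (Nat.dvd_prime_pow Nat.prime_two).mp hd2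
    have hij : 2 ^ j = 2 ^ i + 2 := by omega
    obtain ⟨rfl, rfl⟩ := two_pow_add_two hij
    have hx3' : x = 3 := by
      have : x - 1 = 2 := by rw [hi]; norm_num
      omega
    have hq3 : q = 3 := by
      have : q ∣ 3 := by
        rw [← hx3', hx]
        exact dvd_pow_self q (by omega)
      exact (Nat.prime_dvd_prime_iff_eq hq Nat.prime_three).mp this
    refine ⟨hq3, ?_⟩
    rw [hq3] at hx
    have : (3 : ℕ) ^ k = 3 ^ 1 := by rw [← hx, hx3', pow_one]
    have := Nat.pow_right_injective (by norm_num : 2 ≤ 3) this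
    omega
  · left
    have hq1 : 1 ≤ q := hq.one_lt.le
    have hgeom := geom_sum_mul_add (q - 1) n
    rw [Nat.sub_add_cancel hq1] at hgeom
    set S := ∑ i ∈ Finset.range n, q ^ i with hS
    have hSodd : Odd S := by
      rw [hS, Finset.odd_sum_iff_odd_card_odd]
      have : Finset.filter (fun x => Odd (q ^ x)) (Finset.range n) = Finset.range n := by
        apply Finset.filter_true_of_mem
        intro i _
        exact hodd.pow
      rw [this, Finset.card_range]
      exact ho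
    have hSdvd : S ∣ 2 ^ b := by
      refine Dvd.intro (q - 1) ?_
      omega
    obtain ⟨j, -, hj⟩ := (Nat.dvd_prime_pow Nat.prime_two).mp hSdvd
    have hj0 : j = 0 := by
      by_contra hj0
      rw [hj] at hSodd
      have : Even (2 ^ j) := (Nat.even_pow' hj0).mpr even_two
      exact (Nat.not_even_iff_odd.mpr hSodd) this
    rw [hj0, pow_zero] at hj
    -- S = 1 forces n = 1
    by_contra hn1
    have hn2 : 2 ≤ n := by omega
    have : 1 + q ≤ S := by
      rw [hS]
      have hsub : Finset.range 2 ⊆ Finset.range n := Finset.range_subset_range.mpr hn2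
      calc 1 + q = ∑ i ∈ Finset.range 2, q ^ i := by simp [Finset.sum_range_succ]
        _ ≤ ∑ i ∈ Finset.range n, q ^ i := Finset.sum_le_sum_of_subset hsub
    omega

end NumberTheory

section Setup
variable {q : ℕ} [Fact q.Prime] {V : Type*} [AddCommGroup V] [Module (ZMod q) V]
  {G : Type*} [Group G] (ρ : G →* (V ≃ₗ[ZMod q] V))

/-- the nonzero vectors -/
abbrev NZ (V : Type*) [AddCommGroup V] := {v : V // v ≠ 0}

/-- the action on nonzero vectors -/
@[reducible] def actX : MulAction G (NZ V) where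
  smul g v := ⟨ρ g v.1, by
    intro h
    exact v.2 ((ρ g).map_eq_zero_iff.mp h)⟩
  one_smul v := by
    apply Subtype.ext
    show ρ 1 v.1 = v.1
    rw [map_one]; rfl
  mul_smul g h v := by
    apply Subtype.ext
    show ρ (g * h) v.1 = ρ g (ρ h v.1)
    rw [map_mul]; rfl

theorem actX_coe (g : G) (v : NZ V) : letI := actX ρ; ((g • v : NZ V) : V) = ρ g v.1 := rfl

theorem card_NZ [Finite V] : Nat.card (NZ V) = Nat.card V - 1 := by
  classical
  haveI := Fintype.ofFinite V
  rw [Nat.card_eq_fintype_card, Nat.card_eq_fintype_card]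
  exact Fintype.card_subtype_compl (fun v : V => v = 0) |>.trans (by simp)

variable {ρ}

theorem pretransitive (htrans : ∀ v w : V, v ≠ 0 → w ≠ 0 → ∃ g : G, ρ g v = w) :
    letI := actX ρ; MulAction.IsPretransitive G (NZ V) := by
  letI := actX ρ
  constructor
  intro x y
  obtain ⟨g, hg⟩ := htrans x.1 y.1 x.2 y.2
  exact ⟨g, Subtype.ext hg⟩

theorem eq_one_of_fix_all (hρ : Function.Injective ρ) (g : G) (h : ∀ v : V, v ≠ 0 → ρ g v = v) :
    g = 1 := by
  apply hρ
  rw [map_one]
  ext v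
  by_cases hv : v = 0
  · rw [hv, map_zero, map_zero]
  · rw [h v hv]; rfl

theorem card_eq_mul [Finite G] [Finite V]
    (htrans : ∀ v w : V, v ≠ 0 → w ≠ 0 → ∃ g : G, ρ g v = w) (x : NZ V) :
    letI := actX ρ
    Nat.card G = Nat.card (NZ V) * Nat.card (MulAction.stabilizer G x) := by
  letI := actX ρ
  haveI := pretransitive htrans
  rw [← MulAction.index_stabilizer_of_transitive G x, mul_comm, Subgroup.card_mul_index]

end Setup

section Small
variable {q : ℕ} [Fact q.Prime] {V : Type*} [AddCommGroup V] [Module (ZMod q) V]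
  {G : Type*} [Group G] {ρ : G →* (V ≃ₗ[ZMod q] V)}

/-- faithful action on the nonzero vectors gives an embedding into the symmetric group -/
theorem card_dvd_factorial [Finite G] [Finite V] (hρ : Function.Injective ρ) :
    Nat.card G ∣ (Nat.card (NZ V)).factorial := by
  letI := actX ρ
  have hinj : Function.Injective (MulAction.toPermHom G (NZ V)) := by
    rw [injective_iff_map_eq_one]
    intro g hg
    apply eq_one_of_fix_all hρ g
    intro v hv
    have := congrArg (fun σ : Equiv.Perm (NZ V) => (σ ⟨v, hv⟩ : V)) hg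
    simp only [MulAction.toPermHom_apply, MulAction.toPerm_apply, Equiv.Perm.coe_one, id_eq] at this
    exact this
  have := Subgroup.card_dvd_of_injective _ hinj
  rwa [Nat.card_perm] at this

/-- the one-dimensional case: the group is cyclic -/
theorem cyclic_of_finrank_one [Finite G] (hρ : Function.Injective ρ)
    (h1 : Module.finrank (ZMod q) V = 1) : IsCyclic G := by
  haveI : Nontrivial V := Module.nontrivial_of_finrank_pos (R := ZMod q) (by omega)
  obtain ⟨v₀, hv₀⟩ := exists_ne (0 : V)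
  have hspan := (finrank_eq_one_iff_of_nonzero' v₀ hv₀).mp h1
  choose c hc using fun g : G => hspan (ρ g v₀)
  have hinj0 : Function.Injective (fun a : ZMod q => a • v₀) := smul_left_injective (ZMod q) hv₀
  let χ : G →* ZMod q :=
    { toFun := c
      map_one' := by
        apply hinj0
        show c 1 • v₀ = (1 : ZMod q) • v₀
        rw [hc, map_one, one_smul]; rfl
      map_mul' := by
        intro g h
        apply hinj0
        show c (g * h) • v₀ = (c g * c h) • v₀
        rw [hc, map_mul, mul_comm, mul_smul, hc]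
        show ρ g (ρ h v₀) = c h • ρ g v₀
        rw [← hc h, map_smul] }
  refine isCyclic_of_injective_ringHom χ ?_
  intro g h hgh
  apply hρ
  ext w
  obtain ⟨d, rfl⟩ := hspan w
  rw [map_smul, map_smul, ← hc g, ← hc h]
  show d • c g • v₀ = d • c h • v₀
  have : c g = c h := hgh
  rw [this]

end Small

section Nine
variable {V : Type*} [AddCommGroup V] [Module (ZMod 3) V]

theorem neg_ne_self {v : V} (hv : v ≠ 0) : -v ≠ v := by
  intro h
  have h2 : (2 : ZMod 3) • v = 0 := by
    rw [two_smul]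
    nth_rewrite 1 [← h]
    exact neg_add_cancel v
  rcases smul_eq_zero.mp h2 with h3 | h3
  · exact absurd h3 (by decide)
  · exact hv h3

/-- a linear map fixing two independent vectors of a plane over `𝔽₃` is the identity -/
theorem fix_two [Finite V] (hV : Nat.card V = 9) (f : V ≃ₗ[ZMod 3] V) {v w : V} (hv : v ≠ 0)
    (hw0 : w ≠ 0) (hwv : w ≠ v) (hwv' : w ≠ -v) (h1 : f v = v) (h2 : f w = w) :
    ∀ u, f u = u := by
  classical
  let F : AddSubgroup V := AddMonoidHom.eqLocus f.toLinearMap.toAddMonoidHom (AddMonoidHom.id V)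
  have hmem : ∀ u, u ∈ F ↔ f u = u := fun u => Iff.rfl
  have hdvd : Nat.card F ∣ 9 := hV ▸ AddSubgroup.card_addSubgroup_dvd_card F
  have hnv : -v ≠ 0 := neg_ne_zero.mpr hv
  have hvnv : -v ≠ v := neg_ne_self hv
  have h4 : 4 ≤ Nat.card F := by
    have hsub : ({0, v, -v, w} : Set V) ⊆ (F : Set V) := by
      intro u hu
      simp only [Set.mem_insert_iff, Set.mem_singleton_iff] at hu
      rcases hu with hu | hu | hu | hu
      · rw [hu]; exact F.zero_mem
      · rw [hu]; exact h1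
      · rw [hu]; show f (-v) = -v; rw [map_neg, h1]
      · rw [hu]; exact h2
    have hcard : ({0, v, -v, w} : Set V).ncard = 4 := by
      rw [Set.ncard_insert_of_notMem, Set.ncard_insert_of_notMem, Set.ncard_pair hwv'.symm]
      · simp only [Set.mem_insert_iff, Set.mem_singleton_iff, not_or]
        exact ⟨hvnv.symm, hwv.symm⟩
      · simp only [Set.mem_insert_iff, Set.mem_singleton_iff, not_or]
        exact ⟨hv.symm, hnv.symm, hw0.symm⟩
    calc 4 = ({0, v, -v, w} : Set V).ncard := hcard.symm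
      _ ≤ (F : Set V).ncard := Set.ncard_le_ncard hsub (Set.toFinite _)
      _ = Nat.card F := rfl
  have h9 : Nat.card F = 9 := by
    have hle := Nat.le_of_dvd (by norm_num) hdvd
    obtain ⟨k, hk⟩ : ∃ k, k = Nat.card F := ⟨_, rfl⟩
    rw [← hk] at hdvd h4 hle ⊢
    interval_cases k <;> omega
  have htop : F = ⊤ := AddSubgroup.eq_top_of_card_eq F (h9.trans hV.symm)
  intro u
  exact (hmem u).mp (htop ▸ AddSubgroup.mem_top u)

/-- the fixed vectors of a non-identity map fixing `v ≠ 0` are `0, v, -v` -/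
theorem fixed_set [Finite V] (hV : Nat.card V = 9) (f : V ≃ₗ[ZMod 3] V) {v w u : V} (hv : v ≠ 0)
    (hu : f u ≠ u) (h1 : f v = v) (h2 : f w = w) : w = 0 ∨ w = v ∨ w = -v := by
  by_contra hcon
  push Not at hcon
  exact hu (fix_two hV f hv hcon.1 hcon.2.1 hcon.2.2 h1 h2 u)

/-- an involution without non-zero fixed vectors is `-1` -/
theorem neg_of_fpf_invol (f : V ≃ₗ[ZMod 3] V) (hinv : ∀ v, f (f v) = v)
    (hfpf : ∀ v, v ≠ 0 → f v ≠ v) (v : V) : f v = -v := by
  by_contra hne
  have hw : f v + v ≠ 0 := fun h => hne (eq_neg_of_add_eq_zero_left h)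
  apply hfpf _ hw
  rw [map_add, hinv, add_comm]

theorem card_linearEquiv [Finite V] (hV : Nat.card V = 9) : Nat.card (V ≃ₗ[ZMod 3] V) = 48 := by
  have hfr : Module.finrank (ZMod 3) V = 2 := by
    have := Module.natCard_eq_pow_finrank (K := ZMod 3) (V := V)
    rw [hV, Nat.card_zmod] at this
    have h3 : (3 : ℕ) ^ 2 = 3 ^ Module.finrank (ZMod 3) V := by rw [← this]; norm_num
    exact (Nat.pow_right_injective (by norm_num : 2 ≤ 3) h3).symm
  let b := Module.finBasisOfFinrankEq (ZMod 3) V hfr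
  have e1 := Matrix.GeneralLinearGroup.toLin' b
  have e2 := LinearMap.GeneralLinearGroup.generalLinearEquiv (ZMod 3) V
  rw [← Nat.card_congr (e1.trans e2).toEquiv, Matrix.card_GL_field]
  simp [Fin.prod_univ_two, ZMod.card]

end Nine

section NineGroup
variable {V : Type*} [AddCommGroup V] [Module (ZMod 3) V] [Finite V]
  {G : Type*} [Group G] [Finite G] {ρ : G →* (V ≃ₗ[ZMod 3] V)}

omit [Finite V] [Finite G] in
theorem rho_mul_apply (g h : G) (v : V) : ρ (g * h) v = ρ g (ρ h v) := by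
  rw [map_mul]; rfl

omit [Finite V] [Finite G] in
theorem rho_one_apply (v : V) : ρ 1 v = v := by
  rw [map_one]; rfl

omit [Finite V] [Finite G] in
theorem rho_sq_apply (g : G) (v : V) : ρ (g ^ 2) v = ρ g (ρ g v) := by
  rw [sq, rho_mul_apply]

theorem card_stab (hV : Nat.card V = 9)
    (htrans : ∀ v w : V, v ≠ 0 → w ≠ 0 → ∃ g : G, ρ g v = w) (x : NZ V) :
    letI := actX ρ
    Nat.card G = 8 * Nat.card (MulAction.stabilizer G x) := by
  have := card_eq_mul htrans x
  rwa [card_NZ, hV] at this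

/-- the regular case -/
theorem case8 (hV : Nat.card V = 9) (hG8 : Nat.card G = 8) (hρ : Function.Injective ρ)
    (htrans : ∀ v w : V, v ≠ 0 → w ≠ 0 → ∃ g : G, ρ g v = w) :
    IsCyclic G ∨ Nonempty (G ≃* QuaternionGroup 2) := by
  have hP : IsPGroup 2 G := IsPGroup.of_card (n := 3) (by rw [hG8]; norm_num)
  have hfree : ∀ g : G, ∀ v : V, v ≠ 0 → ρ g v = v → g = 1 := by
    intro g v hv hgv
    letI := actX ρ
    have h := card_stab hV htrans ⟨v, hv⟩
    rw [hG8] at h
    have h1 : Nat.card (MulAction.stabilizer G (⟨v, hv⟩ : NZ V)) = 1 := by omega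
    have hmem : g ∈ MulAction.stabilizer G (⟨v, hv⟩ : NZ V) :=
      MulAction.mem_stabilizer_iff.mpr (Subtype.ext hgv)
    rw [Subgroup.card_eq_one.mp h1] at hmem
    exact Subgroup.mem_bot.mp hmem
  have hinv : ∀ t : G, t ^ 2 = 1 → t ≠ 1 → ∀ v, ρ t v = -v := by
    intro t ht ht1 v
    apply neg_of_fpf_invol (ρ t)
    · intro v; rw [← rho_sq_apply, ht, rho_one_apply]
    · intro v hv h; exact ht1 (hfree t v hv h)
  have hu : Cfsg.Agent.Lib.Helper10.UniqueOrderP 2 G := by
    intro x y hx hx1 hy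
    by_cases hy1 : y = 1
    · rw [hy1]; exact one_mem _
    · have : y = x := by
        apply hρ; ext v; rw [hinv y hy hy1, hinv x hx hx1]
      rw [this]; exact Subgroup.mem_zpowers x
  rcases Cfsg.Agent.Lib.Helper10.isCyclic_or_quaternion_of_uniqueOrderP hP hu with h | ⟨-, n, ⟨e⟩⟩
  · left; exact h
  · right
    have hc : Nat.card (QuaternionGroup (2 ^ n)) = 8 := by
      rw [← Nat.card_congr e.toEquiv, hG8]
    haveI : NeZero (2 ^ n) := ⟨by positivity⟩
    rw [Nat.card_eq_fintype_card, QuaternionGroup.card] at hc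
    have h2 : 2 ^ n = 2 := by omega
    rw [h2] at e
    exact ⟨e⟩

/-- hypotheses of the order-16 case -/
structure Setup16 (ρ : G →* (V ≃ₗ[ZMod 3] V)) : Prop where
  hV : Nat.card V = 9
  hG : Nat.card G = 16
  hρ : Function.Injective ρ
  htrans : ∀ v w : V, v ≠ 0 → w ≠ 0 → ∃ g : G, ρ g v = w

namespace Setup16
variable (S : Setup16 ρ)
include S

theorem stab_card (x : NZ V) :
    letI := actX ρ
    Nat.card (MulAction.stabilizer G x) = 2 := by
  have := card_stab S.hV S.htrans x
  rw [S.hG] at this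
  omega

theorem stab_sq {g : G} {v : V} (hv : v ≠ 0) (h : ρ g v = v) : g ^ 2 = 1 := by
  letI := actX ρ
  have hmem : g ∈ MulAction.stabilizer G (⟨v, hv⟩ : NZ V) :=
    MulAction.mem_stabilizer_iff.mpr (Subtype.ext h)
  have := pow_card_eq_one' (x := (⟨g, hmem⟩ : MulAction.stabilizer G (⟨v, hv⟩ : NZ V)))
  rw [S.stab_card] at this
  exact congrArg Subtype.val this

theorem exists_refl {v : V} (hv : v ≠ 0) : ∃ y : G, y ≠ 1 ∧ ρ y v = v := by
  letI := actX ρ
  have hc := S.stab_card ⟨v, hv⟩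
  haveI : Nontrivial (MulAction.stabilizer G (⟨v, hv⟩ : NZ V)) :=
    Finite.one_lt_card_iff_nontrivial.mp (by rw [hc]; norm_num)
  obtain ⟨y, hy⟩ := exists_ne (1 : MulAction.stabilizer G (⟨v, hv⟩ : NZ V))
  refine ⟨y.1, fun h => hy (Subtype.ext h), ?_⟩
  have := MulAction.mem_stabilizer_iff.mp y.2
  exact congrArg Subtype.val this

theorem exists_z : ∃ z : G, z ≠ 1 ∧ z ^ 2 = 1 ∧ (∀ g, g * z = z * g) ∧ ∀ v, ρ z v = -v := by
  have hP : IsPGroup 2 G := IsPGroup.of_card (n := 4) (by rw [S.hG]; norm_num)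
  haveI : Nontrivial G := Finite.one_lt_card_iff_nontrivial.mp (by rw [S.hG]; norm_num)
  haveI : Nontrivial (Subgroup.center G) := hP.center_nontrivial
  have h2 : 2 ∣ Nat.card (Subgroup.center G) := by
    obtain ⟨k, hk⟩ := IsPGroup.iff_card.mp (hP.to_subgroup (Subgroup.center G))
    have h1 : 1 < Nat.card (Subgroup.center G) := Finite.one_lt_card
    rw [hk] at h1 ⊢
    have hk0 : k ≠ 0 := by rintro rfl; simp at h1
    exact dvd_pow_self 2 hk0
  obtain ⟨c, hc⟩ := exists_prime_orderOf_dvd_card' 2 h2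
  have hc1 : c.1 ≠ 1 := by
    intro h
    have : c = 1 := Subtype.ext h
    rw [this, orderOf_one] at hc
    norm_num at hc
  have hc2 : c.1 ^ 2 = 1 := by
    have := pow_orderOf_eq_one c
    rw [hc] at this
    exact congrArg Subtype.val this
  have hcc : ∀ g, g * c.1 = c.1 * g := fun g => Subgroup.mem_center_iff.mp c.2 g
  refine ⟨c.1, hc1, hc2, hcc, ?_⟩
  apply neg_of_fpf_invol (ρ c.1)
  · intro v; rw [← rho_sq_apply, hc2, rho_one_apply]
  · intro v hv h
    apply hc1
    apply eq_one_of_fix_all S.hρ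
    intro w hw
    obtain ⟨g, rfl⟩ := S.htrans v w hv hw
    rw [← rho_mul_apply, ← hcc, rho_mul_apply, h]

/-- squares are never reflections -/
theorem sq_not_refl {z : G} (hz2 : z ^ 2 = 1) (hzc : ∀ g, g * z = z * g)
    (hzneg : ∀ v, ρ z v = -v) {u : G} {v : V} (hv : v ≠ 0) (h : ρ (u ^ 2) v = v) : u ^ 2 = 1 := by
  by_cases h1 : ρ u v = v
  · exact S.stab_sq hv h1
  by_cases h2 : ρ u v = -v
  · have h3 : ρ (u * z) v = v := by rw [rho_mul_apply, hzneg, map_neg, h2, neg_neg]
    have h4 := S.stab_sq hv h3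
    rw [(show Commute u z from hzc u).mul_pow 2, hz2, mul_one] at h4
    exact h4
  · have hw0 : ρ u v ≠ 0 := fun h0 => hv ((ρ u).map_eq_zero_iff.mp h0)
    have hfix : ρ (u ^ 2) (ρ u v) = ρ u v := by
      rw [← rho_mul_apply, ← pow_succ, pow_succ', rho_mul_apply, h]
    have := fix_two S.hV (ρ (u ^ 2)) hv hw0 h1 h2 h hfix
    exact eq_one_of_fix_all S.hρ _ (fun w _ => this w)

omit S in
/-- an involution without fixed vectors is the central one -/
theorem invol_eq_z (hρ : Function.Injective ρ) {z : G} (hzneg : ∀ v, ρ z v = -v) {t : G}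
    (ht : t ^ 2 = 1) (hfpf : ∀ v, v ≠ 0 → ρ t v ≠ v) : t = z := by
  apply hρ
  ext v
  rw [hzneg]
  apply neg_of_fpf_invol (ρ t) _ hfpf
  intro v; rw [← rho_sq_apply, ht, rho_one_apply]

/-- there are at most four reflections -/
theorem card_refl_le : {g : G | g ≠ 1 ∧ ∃ v, v ≠ 0 ∧ ρ g v = v}.ncard ≤ 4 := by
  classical
  letI := actX ρ
  haveI := Fintype.ofFinite G
  haveI := pretransitive S.htrans
  haveI : Nonempty (NZ V) := by
    apply (Nat.card_pos_iff.mp _).1
    rw [card_NZ, S.hV]; norm_num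
  have hB := Cfsg.Agent.Lib.Helper19.burnside_natCard G (NZ V)
  rw [Cfsg.Agent.Lib.Helper19.card_orbits_of_pretransitive, one_mul, S.hG] at hB
  set R : Finset G := Finset.univ.filter (fun g => g ≠ 1 ∧ ∃ v, v ≠ 0 ∧ ρ g v = v) with hR
  have h1R : (1 : G) ∉ R := by simp [hR]
  have hsum : ∑ g ∈ insert 1 R, Nat.card (MulAction.fixedBy (NZ V) g)
      ≤ ∑ g, Nat.card (MulAction.fixedBy (NZ V) g) :=
    Finset.sum_le_sum_of_subset (Finset.subset_univ _)
  rw [Finset.sum_insert h1R] at hsum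
  have hf1 : Nat.card (MulAction.fixedBy (NZ V) (1 : G)) = 8 := by
    have : MulAction.fixedBy (NZ V) (1 : G) = Set.univ := by ext x; simp
    rw [this, Nat.card_coe_set_eq, Set.ncard_univ, card_NZ, S.hV]
  have hfR : ∀ g ∈ R, 2 ≤ Nat.card (MulAction.fixedBy (NZ V) g) := by
    intro g hg
    obtain ⟨-, v, hv, hgv⟩ := (Finset.mem_filter.mp hg).2
    have hnv : -v ≠ 0 := neg_ne_zero.mpr hv
    have hgnv : ρ g (-v) = -v := by rw [map_neg, hgv]
    let a : MulAction.fixedBy (NZ V) g := ⟨⟨v, hv⟩, Subtype.ext hgv⟩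
    let b : MulAction.fixedBy (NZ V) g := ⟨⟨-v, hnv⟩, Subtype.ext hgnv⟩
    have hab : a ≠ b := by
      intro h
      have : v = -v := congrArg (fun x : MulAction.fixedBy (NZ V) g => (x.1.1 : V)) h
      exact neg_ne_self hv this.symm
    haveI : Nontrivial (MulAction.fixedBy (NZ V) g) := ⟨⟨a, b, hab⟩⟩
    exact Finite.one_lt_card
  have h2R : 2 * R.card ≤ ∑ g ∈ R, Nat.card (MulAction.fixedBy (NZ V) g) := by
    calc 2 * R.card = ∑ g ∈ R, 2 := by simp [mul_comm]
      _ ≤ _ := Finset.sum_le_sum hfR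
  have hRc : R.card ≤ 4 := by omega
  have hset : {g : G | g ≠ 1 ∧ ∃ v, v ≠ 0 ∧ ρ g v = v} = (R : Set G) := by
    ext g; simp [hR]
  rw [hset, Set.ncard_coe_finset]
  exact hRc

/-- there is an element of order eight -/
theorem exists_order8 : ∃ x : G, orderOf x = 8 := by
  by_contra hno
  push Not at hno
  have hexp : ∀ g : G, g ^ 4 = 1 := by
    intro g
    have hd : orderOf g ∣ 2 ^ 4 := by
      have := orderOf_dvd_natCard g
      rwa [S.hG] at this
    obtain ⟨k, hk4, hk⟩ := (Nat.dvd_prime_pow Nat.prime_two).mp hd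
    have hk2 : k ≤ 2 := by
      by_contra hk2
      have : k = 3 ∨ k = 4 := by omega
      rcases this with rfl | rfl
      · exact hno g hk
      · apply hno (g ^ 2)
        rw [orderOf_pow' g (by norm_num), hk]
        norm_num
    rw [← orderOf_dvd_iff_pow_eq_one, hk]
    exact pow_dvd_pow 2 hk2
  obtain ⟨z, hz1, hz2, hzc, hzneg⟩ := S.exists_z
  obtain ⟨v, hv⟩ : ∃ v : V, v ≠ 0 := by
    haveI : Nontrivial V := Finite.one_lt_card_iff_nontrivial.mp (by rw [S.hV]; norm_num)
    exact exists_ne 0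
  obtain ⟨y, hy1, hyv⟩ := S.exists_refl hv
  have hy2 : y ^ 2 = 1 := S.stab_sq hv hyv
  let R : Set G := {g : G | g ≠ 1 ∧ ∃ v, v ≠ 0 ∧ ρ g v = v}
  let B : Set G := insert 1 (insert z R)
  have hB : B.ncard ≤ 6 := by
    have h1 : B.ncard ≤ (insert z R).ncard + 1 := Set.ncard_insert_le _ _
    have h2 : (insert z R).ncard ≤ R.ncard + 1 := Set.ncard_insert_le _ _
    have h3 : R.ncard ≤ 4 := S.card_refl_le
    omega
  have hex : ∃ u : G, u ∉ B ∧ u * y ∉ B := by
    by_contra hcon
    push Not at hcon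
    have hcov : (Set.univ : Set G) ⊆ B ∪ (fun g => g * y⁻¹) '' B := by
      intro u _
      by_cases hu : u ∈ B
      · left; exact hu
      · right; exact ⟨u * y, hcon u hu, by simp⟩
    have h1 := Set.ncard_le_ncard hcov (Set.toFinite _)
    rw [Set.ncard_univ, S.hG] at h1
    have h2 : (B ∪ (fun g => g * y⁻¹) '' B).ncard ≤ B.ncard + ((fun g => g * y⁻¹) '' B).ncard :=
      Set.ncard_union_le _ _
    have h3 : ((fun g => g * y⁻¹) '' B).ncard ≤ B.ncard := Set.ncard_image_le (Set.toFinite _)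
    omega
  obtain ⟨u, huB, huyB⟩ := hex
  have key : ∀ w : G, w ∉ B → w ≠ 1 ∧ (∀ v, v ≠ 0 → ρ w v ≠ v) ∧ w ^ 2 = z := by
    intro w hw
    have hw1 : w ≠ 1 := fun h => hw (h ▸ Set.mem_insert _ _)
    have hwz : w ≠ z := fun h => hw (h ▸ Set.mem_insert_of_mem _ (Set.mem_insert _ _))
    have hwR : ∀ v, v ≠ 0 → ρ w v ≠ v := fun v hv h =>
      hw (Set.mem_insert_of_mem _ (Set.mem_insert_of_mem _ ⟨hw1, v, hv, h⟩))
    have hw2 : w ^ 2 ≠ 1 := fun h => hwz (invol_eq_z S.hρ hzneg h hwR)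
    refine ⟨hw1, hwR, ?_⟩
    apply invol_eq_z S.hρ hzneg
    · rw [← pow_mul]; exact hexp w
    · intro v hv h; exact hw2 (S.sq_not_refl hz2 hzc hzneg hv h)
  obtain ⟨hu1, huR, e1⟩ := key u huB
  obtain ⟨-, -, e2⟩ := key (u * y) huyB
  have hyinv : y⁻¹ = y := by rw [inv_eq_iff_mul_eq_one, ← sq, hy2]
  have hcomm : y * u = u * y := by
    have h3 : u * y * (u * y) = u * u := by rw [← sq, e2, ← e1, sq]
    have h4 : y * u * y = u := by
      apply mul_left_cancel (a := u)
      rw [← h3]; group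
    calc y * u = y * u * y * y⁻¹ := by group
      _ = u * y⁻¹ := by rw [h4]
      _ = u * y := by rw [hyinv]
  have hfix : ρ y (ρ u v) = ρ u v := by rw [← rho_mul_apply, hcomm, rho_mul_apply, hyv]
  have hyne : ∃ w, ρ y w ≠ w := by
    by_contra h
    push Not at h
    exact hy1 (eq_one_of_fix_all S.hρ y (fun w _ => h w))
  obtain ⟨w0, hw0⟩ := hyne
  rcases fixed_set S.hV (ρ y) hv hw0 hyv hfix with h | h | h
  · exact hv ((ρ u).map_eq_zero_iff.mp h)
  · exact huR v hv h
  · have h5 : ρ (u ^ 2) v = v := by rw [rho_sq_apply, h, map_neg, h, neg_neg]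
    have h6 := S.sq_not_refl hz2 hzc hzneg hv h5
    rw [e1] at h6
    exact hz1 h6

/-- the order-16 case: the group is semidihedral -/
theorem quasiDihedral : Cfsg.IsQuasiDihedral G := by
  obtain ⟨z, hz1, hz2, hzc, hzneg⟩ := S.exists_z
  obtain ⟨x, hx8⟩ := S.exists_order8
  obtain ⟨v, hv⟩ : ∃ v : V, v ≠ 0 := by
    haveI : Nontrivial V := Finite.one_lt_card_iff_nontrivial.mp (by rw [S.hV]; norm_num)
    exact exists_ne 0
  obtain ⟨y, hy1, hyv⟩ := S.exists_refl hv
  have hy2 : y ^ 2 = 1 := S.stab_sq hv hyv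
  have hyinv : y⁻¹ = y := by rw [inv_eq_iff_mul_eq_one, ← sq, hy2]
  have hx8' : x ^ 8 = 1 := by rw [← hx8]; exact pow_orderOf_eq_one x
  have hpow8 : ∀ j, x ^ (8 * j) = 1 := fun j => by rw [pow_mul, hx8', one_pow]
  have hx4ne : x ^ 4 ≠ 1 := by
    intro h
    have := orderOf_dvd_of_pow_eq_one h
    rw [hx8] at this; norm_num at this
  have hx2ne : x ^ 2 ≠ 1 := by
    intro h
    have := orderOf_dvd_of_pow_eq_one h
    rw [hx8] at this; norm_num at this
  have hx4 : x ^ 4 = z := by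
    apply invol_eq_z S.hρ hzneg
    · rw [← pow_mul]; exact hx8'
    · intro w hw h
      have h1 : (x ^ 2) ^ 2 = 1 :=
        S.sq_not_refl hz2 hzc hzneg hw (by rw [← pow_mul]; exact h)
      rw [← pow_mul] at h1
      exact hx4ne h1
  have hyx : y ∉ Subgroup.zpowers x := by
    intro hmem
    obtain ⟨k, hk⟩ := Subgroup.mem_zpowers_iff.mp hmem
    have h1 : x ^ (k * 2) = 1 := by
      rw [zpow_mul, hk]
      exact_mod_cast hy2
    have hdvd : (8 : ℤ) ∣ k * 2 := by
      have := orderOf_dvd_iff_zpow_eq_one.mpr h1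
      rwa [hx8, Nat.cast_ofNat] at this
    obtain ⟨j, hj⟩ : ∃ j, k = 4 * j := by
      obtain ⟨j, hj⟩ := hdvd
      exact ⟨j, by omega⟩
    have hyz : y = z ^ j := by
      rw [← hk, hj, zpow_mul, ← hx4]
      norm_cast
    rcases Int.even_or_odd j with ⟨i, hi⟩ | ⟨i, hi⟩
    · apply hy1
      rw [hyz, hi, ← two_mul, zpow_mul]
      have : z ^ (2 : ℤ) = 1 := by exact_mod_cast hz2
      rw [this, one_zpow]
    · have hyz' : y = z := by
        rw [hyz, hi, zpow_add, zpow_mul, zpow_one]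
        have : z ^ (2 : ℤ) = 1 := by exact_mod_cast hz2
        rw [this, one_zpow, one_mul]
      rw [hyz', hzneg] at hyv
      exact neg_ne_self hv hyv
  have hcardx : Nat.card (Subgroup.zpowers x) = 8 := by rw [Nat.card_zpowers, hx8]
  have hidx : (Subgroup.zpowers x).index = 2 := by
    have := (Subgroup.zpowers x).card_mul_index
    rw [hcardx, S.hG] at this
    omega
  haveI : (Subgroup.zpowers x).Normal := Subgroup.normal_of_index_eq_two hidx
  have hconj : y * x * y⁻¹ ∈ Subgroup.zpowers x :=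
    Subgroup.Normal.conj_mem inferInstance x (Subgroup.mem_zpowers x) y
  obtain ⟨k, hk⟩ := Subgroup.mem_zpowers_iff.mp hconj
  obtain ⟨m, hm8, hm⟩ : ∃ m : ℕ, m < 8 ∧ y * x * y⁻¹ = x ^ m := by
    refine ⟨(k % 8).toNat, by omega, ?_⟩
    have h1 : x ^ (k % 8) = x ^ k := by
      have := zpow_mod_orderOf x k
      rwa [hx8, Nat.cast_ofNat] at this
    rw [← hk, ← h1, ← zpow_natCast, Int.toNat_of_nonneg (by omega)]
  have hconjpow : ∀ i : ℕ, y * x ^ i * y⁻¹ = x ^ (m * i) := by
    intro i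
    rw [← conj_pow, hm, ← pow_mul]
  -- commuting with `y` forces the square to fix `v`
  have hyne : ∃ w, ρ y w ≠ w := by
    by_contra h
    push Not at h
    exact hy1 (eq_one_of_fix_all S.hρ y (fun w _ => h w))
  obtain ⟨w0, hw0⟩ := hyne
  have hcommfix : ∀ g : G, y * g = g * y → ρ (g ^ 2) v = v := by
    intro g hg
    have hfix : ρ y (ρ g v) = ρ g v := by rw [← rho_mul_apply, hg, rho_mul_apply, hyv]
    rcases fixed_set S.hV (ρ y) hv hw0 hyv hfix with h | h | h
    · exact absurd ((ρ g).map_eq_zero_iff.mp h) hv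
    · rw [rho_sq_apply, h, h]
    · rw [rho_sq_apply, h, map_neg, h, neg_neg]
  have hcomm_of : ∀ g : G, y * g * y⁻¹ = g → y * g = g * y := by
    intro g hg
    calc y * g = y * g * y⁻¹ * y := by group
      _ = g * y := by rw [hg]
  have hm_odd : x ^ (m * 4) ≠ 1 := by
    intro h
    have h1 := hconjpow 4
    rw [h] at h1
    have : x ^ 4 = 1 := by
      have h2 : x ^ 4 = y⁻¹ * (y * x ^ 4 * y⁻¹) * y := by group
      rw [h2, h1]; group
    exact hx4ne this
  interval_cases m
  · exact absurd (by simp) hm_odd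
  · -- m = 1
    exfalso
    have h1 : y * x = x * y := hcomm_of x (by rw [hm, pow_one])
    have h2 := hcommfix x h1
    exact hx2ne (S.sq_not_refl hz2 hzc hzneg hv h2)
  · exact absurd (hpow8 1) hm_odd
  · -- m = 3
    refine ⟨3, le_refl 3, by rw [S.hG]; norm_num, x, y, by rw [hx8]; norm_num,
      orderOf_eq_prime hy2 hy1, ?_⟩
    rw [hm]
    norm_num
  · exact absurd (hpow8 2) hm_odd
  · -- m = 5
    exfalso
    have h1 : y * x ^ 2 = x ^ 2 * y := by
      apply hcomm_of
      rw [hconjpow 2]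
      have : x ^ (5 * 2) = x ^ (8 * 1) * x ^ 2 := by rw [← pow_add]
      rw [this, hpow8 1, one_mul]
    have h2 := hcommfix (x ^ 2) h1
    have h3 := S.sq_not_refl hz2 hzc hzneg hv h2
    rw [← pow_mul] at h3
    exact hx4ne h3
  · exact absurd (hpow8 3) hm_odd
  · -- m = 7
    exfalso
    have hinvol : ∀ i : ℕ, (y * x ^ i) ^ 2 = 1 := by
      intro i
      have h1 : (y * x ^ i) ^ 2 = (y * x ^ i * y⁻¹) * x ^ i := by
        rw [hyinv, sq]; group
      rw [h1, hconjpow i, ← pow_add]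
      have : 7 * i + i = 8 * i := by ring
      rw [this, hpow8 i]
    have hnotmem : ∀ i : ℕ, y * x ^ i ∉ Subgroup.zpowers x := by
      intro i hmem
      apply hyx
      have := Subgroup.mul_mem _ hmem (Subgroup.inv_mem _ (Subgroup.pow_mem _ (Subgroup.mem_zpowers x) i))
      rwa [mul_inv_cancel_right] at this
    have hsub : (fun i : ℕ => y * x ^ i) '' ((Finset.range 8 : Finset ℕ) : Set ℕ) ⊆
        {g : G | g ≠ 1 ∧ ∃ v, v ≠ 0 ∧ ρ g v = v} := by
      rintro _ ⟨i, -, rfl⟩
      have hne1 : y * x ^ i ≠ 1 := fun h => hnotmem i (h ▸ Subgroup.one_mem _)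
      refine ⟨hne1, ?_⟩
      by_contra hcon
      push Not at hcon
      have h1 : y * x ^ i = z := invol_eq_z S.hρ hzneg (hinvol i) hcon
      apply hnotmem i
      rw [h1, ← hx4]
      exact Subgroup.pow_mem _ (Subgroup.mem_zpowers x) 4
    have hinj : Set.InjOn (fun i : ℕ => y * x ^ i) ((Finset.range 8 : Finset ℕ) : Set ℕ) := by
      intro i hi j hj hij
      have hi' : i < orderOf x := by rw [hx8]; exact Finset.mem_range.mp hi
      have hj' : j < orderOf x := by rw [hx8]; exact Finset.mem_range.mp hj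
      exact pow_injOn_Iio_orderOf hi' hj' (mul_left_cancel hij)
    have h1 := Set.ncard_le_ncard hsub (Set.toFinite _)
    rw [hinj.ncard_image, Set.ncard_coe_finset, Finset.card_range] at h1
    have h2 := S.card_refl_le
    omega

end Setup16

end NineGroup

theorem result (q : ℕ) [Fact q.Prime] {V : Type*} [AddCommGroup V] [Module (ZMod q) V] [Finite V] [Nontrivial V]
    {G : Type*} [Group G] [Finite G] [Nontrivial G] (p : ℕ) [Fact p.Prime] (hG : IsPGroup p G)
    (ρ : G →* (V ≃ₗ[ZMod q] V)) (hρ : Function.Injective ρ)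
    (htrans : ∀ v w : V, v ≠ 0 → w ≠ 0 → ∃ g : G, ρ g v = w) :
    (q = 2 ∧ p = Nat.card V - 1 ∧ Nat.card G = p) ∨
    (p = 2 ∧ Nat.card V = q ∧ (∃ m : ℕ, q = 2 ^ m + 1 ∧ Nat.card G = 2 ^ m) ∧ IsCyclic G) ∨
    (p = 2 ∧ q = 3 ∧ Nat.card V = 9 ∧
      ((IsCyclic G ∧ Nat.card G = 8) ∨ Nonempty (G ≃* QuaternionGroup 2) ∨ (Cfsg.IsQuasiDihedral G ∧ Nat.card G = 16))) := by
  classical
  have hq : q.Prime := Fact.out
  have hp : p.Prime := Fact.out
  letI := actX ρ
  have hcardV : Nat.card V = q ^ Module.finrank (ZMod q) V := by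
    rw [Module.natCard_eq_pow_finrank (K := ZMod q) (V := V), Nat.card_zmod]
  have hn1 : 1 ≤ Module.finrank (ZMod q) V := Module.finrank_pos
  obtain ⟨v₀, hv₀⟩ := exists_ne (0 : V)
  have hmul := card_eq_mul htrans (⟨v₀, hv₀⟩ : NZ V)
  obtain ⟨a, ha⟩ := IsPGroup.iff_card.mp hG
  have hNZ : Nat.card (NZ V) = q ^ Module.finrank (ZMod q) V - 1 := by rw [card_NZ, hcardV]
  have hqn : 2 ≤ q ^ Module.finrank (ZMod q) V :=
    hq.two_le.trans (Nat.le_self_pow (by omega) q)
  have hdvd : Nat.card (NZ V) ∣ p ^ a := ⟨_, by rw [← ha]; exact hmul⟩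
  obtain ⟨b, hba, hb⟩ := (Nat.dvd_prime_pow hp).mp hdvd
  have hqnb : q ^ Module.finrank (ZMod q) V = p ^ b + 1 := by omega
  have hfact := card_dvd_factorial hρ
  have hG1 : 1 < Nat.card G := Finite.one_lt_card
  by_cases hq2 : q = 2
  · left
    subst hq2
    have hb1 : 1 ≤ b := by
      by_contra hb0
      have hb0' : b = 0 := by omega
      rw [hb, hb0', pow_zero, Nat.factorial_one] at hfact
      have := Nat.le_of_dvd (by norm_num) hfact
      omega
    have hb1' : b = 1 := nt_mersenne _ p b hp hb1 hqnb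
    rw [hb1', pow_one] at hb
    refine ⟨rfl, ?_, ?_⟩
    · rw [← hb, card_NZ]
    · rw [hb, ha] at hfact
      have ha1 : a ≠ 0 := by
        rintro rfl
        rw [ha] at hG1; simp at hG1
      have ha2 : a < 2 := by
        by_contra hge
        have h1 : p ^ 2 ∣ p.factorial := (pow_dvd_pow p (by omega)).trans hfact
        have hp1 : p = (p - 1) + 1 := by have := hp.two_le; omega
        rw [hp1, Nat.factorial_succ, ← hp1, sq] at h1
        have h2 : p ∣ (p - 1).factorial := Nat.dvd_of_mul_dvd_mul_left hp.pos h1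
        have h3 := (Nat.Prime.dvd_factorial hp).mp h2
        have := hp.two_le
        omega
      have : a = 1 := by omega
      rw [ha, this, pow_one]
  · right
    have hp2 : p = 2 := by
      have hodd : Odd (q ^ Module.finrank (ZMod q) V) := (hq.odd_of_ne_two hq2).pow
      have heven : Even (p ^ b) := by
        rcases hodd with ⟨k, hk⟩
        exact ⟨k, by omega⟩
      have hb0 : b ≠ 0 := by
        rintro rfl
        simp at heven
      have h2 : 2 ∣ p ^ b := heven.two_dvd
      have h3 : 2 ∣ p := Nat.Prime.dvd_of_dvd_pow Nat.prime_two h2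
      exact ((Nat.prime_dvd_prime_iff_eq Nat.prime_two hp).mp h3).symm
    subst hp2
    rcases nt_fermat q _ b hq hq2 hn1 hqnb with hn | ⟨hq3, hn⟩
    · left
      rw [hn, pow_one] at hcardV hNZ hqnb
      have hspan := (finrank_eq_one_iff_of_nonzero' v₀ hv₀).mp hn
      have hstab : Nat.card (MulAction.stabilizer G (⟨v₀, hv₀⟩ : NZ V)) = 1 := by
        rw [Subgroup.card_eq_one, Subgroup.eq_bot_iff_forall]
        intro g hg
        have hg' : ρ g v₀ = v₀ := congrArg Subtype.val (MulAction.mem_stabilizer_iff.mp hg)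
        apply eq_one_of_fix_all hρ
        intro w _
        obtain ⟨c, rfl⟩ := hspan w
        rw [map_smul, hg']
      rw [hstab, mul_one, hb] at hmul
      exact ⟨rfl, hcardV, ⟨b, hqnb, hmul⟩, cyclic_of_finrank_one hρ hn⟩
    · right
      subst hq3
      rw [hn] at hcardV
      have hV9 : Nat.card V = 9 := by rw [hcardV]; norm_num
      have h48 : Nat.card G ∣ 48 := by
        have := Subgroup.card_dvd_of_injective ρ hρ
        rwa [card_linearEquiv hV9] at this
      have h8 := card_stab hV9 htrans (⟨v₀, hv₀⟩ : NZ V)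
      rw [ha] at h48 h8
      have ha4 : a ≤ 4 := by
        by_contra hgt
        have h1 : 2 ^ 5 ∣ 48 := (pow_dvd_pow 2 (by omega)).trans h48
        norm_num at h1
      have ha3 : 3 ≤ a := by
        have h1 : 2 ^ 3 ∣ 2 ^ a := ⟨_, h8⟩
        exact (Nat.pow_dvd_pow_iff_le_right (by norm_num)).mp h1
      refine ⟨rfl, rfl, hV9, ?_⟩
      have ha34 : a = 3 ∨ a = 4 := by omega
      rcases ha34 with rfl | rfl
      · have hG8 : Nat.card G = 8 := by rw [ha]; norm_num
        rcases case8 hV9 hG8 hρ htrans with h | h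
        · exact Or.inl ⟨h, hG8⟩
        · exact Or.inr (Or.inl h)
      · have hG16 : Nat.card G = 16 := by rw [ha]; norm_num
        exact Or.inr (Or.inr ⟨Setup16.quasiDihedral ⟨hV9, hG16, hρ, htrans⟩, hG16⟩)

end Cfsg.Agent.S3370
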