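import Cfsg.Statements.S0606
import Cfsg.Agent.H5.Thompson
import Cfsg.Agent.H5.Card

set_option autoImplicit false
open Cfsg

namespace Cfsg.Agent.S0606

/-- Elementary abelian p-subgroups of maximal order are best offenders on any normal elementary abelian p-subgroup. -/
theorem result {G : Type*} [Group G] [Finite G] {p : ℕ} [Fact p.Prime] (V : Subgroup G) [V.Normal] (hV : Cfsg.IsElementaryAbelian p V) (A : Subgroup G) (hA : A ∈ Cfsg.maxElementaryAbelianSubgroups p G) : Cfsg.IsBestOffenderOn p V A := by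
  have hAab : IsMulCommutative A := hA.1.1
  have hAcent : A ≤ Subgroup.centralizer (A : Set G) :=
    Subgroup.le_centralizer_iff_isMulCommutative.mpr hAab
  -- C_V(A) ≤ A
  have hWA : V ⊓ Subgroup.centralizer (A : Set G) ≤ A := by
    have hW : Cfsg.IsElementaryAbelian p (V ⊓ Subgroup.centralizer (A : Set G)) :=
      Cfsg.H5.isElementaryAbelian_mono hV inf_le_left
    have hc : A ≤ Subgroup.centralizer ((V ⊓ Subgroup.centralizer (A : Set G) : Subgroup G) : Set G) := by
      rw [Subgroup.le_centralizer_iff]; exact inf_le_right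
    have hE := Cfsg.H5.isElementaryAbelian_sup hA.1 hW hc
    have := Cfsg.H5.eq_of_mem_maxElementaryAbelianSubgroups_of_le hA hE le_sup_left
    calc V ⊓ Subgroup.centralizer (A : Set G) ≤ A ⊔ (V ⊓ Subgroup.centralizer (A : Set G)) := le_sup_right
      _ = A := this
  refine ⟨?_, ?_, ?_⟩
  · intro B hBA
    have hB : Cfsg.IsElementaryAbelian p B := Cfsg.H5.isElementaryAbelian_mono hA.1 hBA
    have hW : Cfsg.IsElementaryAbelian p (V ⊓ Subgroup.centralizer (B : Set G)) :=
      Cfsg.H5.isElementaryAbelian_mono hV inf_le_left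
    have hc : B ≤ Subgroup.centralizer ((V ⊓ Subgroup.centralizer (B : Set G) : Subgroup G) : Set G) := by
      rw [Subgroup.le_centralizer_iff]; exact inf_le_right
    have hE := Cfsg.H5.isElementaryAbelian_sup hB hW hc
    have hcard : Nat.card ↥(B ⊔ (V ⊓ Subgroup.centralizer (B : Set G))) ≤ Nat.card A := hA.2 _ hE
    have hprod := Cfsg.H5.card_sup_mul_card_inf (Cfsg.H5.le_normalizer_of_le_centralizer hc)
    have hinf : B ⊓ (V ⊓ Subgroup.centralizer (B : Set G)) ≤ V ⊓ Subgroup.centralizer (A : Set G) := by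
      intro x hx
      exact ⟨hx.2.1, hAcent (hBA hx.1)⟩
    have hcard2 : Nat.card ↥(B ⊓ (V ⊓ Subgroup.centralizer (B : Set G))) ≤
        Nat.card ↥(V ⊓ Subgroup.centralizer (A : Set G)) := Subgroup.card_le_of_le hinf
    rw [← hprod]
    exact Nat.mul_le_mul hcard hcard2
  · have : ⁅A, A⁆ = ⊥ := by
      rw [Subgroup.commutator_eq_bot_iff_le_centralizer]
      exact hAcent
    rw [this]
    exact bot_le
  · intro a ha
    rw [hA.1.2 a ha]
    exact Subgroup.one_mem _

end Cfsg.Agent.S0606
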