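import Cfsg.Statements.S2941
import Cfsg.Agent.Lib.Helper17.CoprimeGen

set_option autoImplicit false
open Cfsg
open Cfsg.Agent.Lib.Helper17
open scoped commutatorElement

namespace Cfsg.Agent.S2941

/-- Let G be a finite group of characteristic 2 type in which every 2-local subgroup is solvable and the centralizer of Ω₁(Z(S)) lies in N_G(S) for every Sylow 2-subgroup S, and let T be a nontrivial 2-subgroup and K a J(T)-component (J the Thompson subgroup generated by the elementary abelian 2-subgroups of largest order). If a subgroup Q is normalized by ⟨K, J(T)⟩ and normalizes J(T), then Q normalizes K. -/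
theorem result {G : Type*} [Group G] [Finite G] (hL : Cfsg.IsCharacteristicTwoType G) (hN : ∀ N : Subgroup G, Cfsg.IsTwoLocal N → Group.IsSolvable ↥N)
    (hZ : ∀ S : Sylow 2 G, Subgroup.centralizer (Cfsg.omegaCenterOf (S : Subgroup G) : Set G) ≤ Subgroup.normalizer ((S : Subgroup G) : Set G)) (T : Subgroup G) (hT : IsPGroup 2 ↥T) (hT1 : T ≠ ⊥) (K : Subgroup G) (hK : Cfsg.IsJComponent T K)
    (Q : Subgroup G) (hQ1 : K ⊔ Cfsg.thompsonSubgroupOf 2 T ≤ Subgroup.normalizer (Q : Set G)) (hQ2 : Q ≤ Subgroup.normalizer (Cfsg.thompsonSubgroupOf 2 T : Set G)) :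
    Q ≤ Subgroup.normalizer (K : Set G) := by
  set J := Cfsg.thompsonSubgroupOf 2 T with hJdef
  obtain ⟨hKgen, hKJ, -⟩ := hK
  have hJT : J ≤ T := by
    rw [hJdef]; unfold Cfsg.thompsonSubgroupOf
    exact Subgroup.map_subtype_le _
  have hJp : IsPGroup 2 J := hT.to_le hJT
  have hJK : J ≤ Subgroup.normalizer (K : Set G) := by
    have := le_normalizer_commutator_right K J
    rwa [hKJ] at this
  set Y := K ⊔ J with hYdef
  -- Q normalizes Y
  have hQY : Q ≤ Subgroup.normalizer (Y : Set G) := by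
    intro q hq
    apply mem_normalizer_of_map_conj_le
    rw [hYdef, Subgroup.map_sup]
    apply sup_le
    · have hgoal : (⁅K, J⁆).map (MulAut.conj q).toMonoidHom ≤ K ⊔ J := ?_
      · rwa [hKJ] at hgoal
      rw [Subgroup.commutator_def, MonoidHom.map_closure, Subgroup.closure_le]
      rintro _ ⟨_, ⟨k, hk, j, hj, rfl⟩, rfl⟩
      simp only [MulEquiv.coe_toMonoidHom, MulAut.conj_apply]
      -- q' = k⁻¹ q k q⁻¹ ∈ Q
      have hkN : k ∈ Subgroup.normalizer (Q : Set G) := hQ1 (Subgroup.mem_sup_left hk)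
      have hq' : k⁻¹ * q * k⁻¹⁻¹ * q⁻¹ ∈ Q :=
        Q.mul_mem ((Subgroup.mem_normalizer_iff.mp (Subgroup.inv_mem _ hkN) q).mp hq) (Q.inv_mem hq)
      set q' := k⁻¹ * q * k⁻¹⁻¹ * q⁻¹ with hq'def
      have hj' : q * j * q⁻¹ ∈ J := (Subgroup.mem_normalizer_iff.mp (hQ2 hq) j).mp hj
      have hj'' : q' * (q * j * q⁻¹) * q'⁻¹ ∈ J :=
        (Subgroup.mem_normalizer_iff.mp (hQ2 hq') _).mp hj'
      have e : q * ⁅k, j⁆ * q⁻¹ =
          ⁅k, q' * (q * j * q⁻¹) * q'⁻¹⁆ * ((q' * (q * j * q⁻¹) * q'⁻¹) * (q * j * q⁻¹)⁻¹) := by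
        simp only [commutatorElement_def, hq'def]; group
      rw [e]
      refine Subgroup.mul_mem _ (Subgroup.mem_sup_left ?_) (Subgroup.mem_sup_right ?_)
      · rw [← hKJ]
        exact Subgroup.commutator_mem_commutator hk hj''
      · exact J.mul_mem hj'' (J.inv_mem hj')
    · rw [map_conj_eq_of_mem_normalizer (hQ2 hq)]
      exact le_sup_right
  -- K is generated by the odd-order elements of Y
  have hKeq : K = Subgroup.closure {x : G | x ∈ Y ∧ (orderOf x).Coprime 2} := by
    apply le_antisymm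
    · conv_lhs => rw [← hKgen]
      apply Subgroup.closure_mono
      rintro x ⟨hxK, hxo⟩
      exact ⟨Subgroup.mem_sup_left hxK, Nat.coprime_two_right.mpr hxo⟩
    · rw [Subgroup.closure_le]
      rintro x ⟨hxY, hxo⟩
      exact mem_of_coprime_of_mem_sup_pgroup hJp hJK hxY hxo
  have := hQY.trans (normalizer_le_normalizer_closure_coprime (p := 2) Y)
  rwa [← hKeq] at this

end Cfsg.Agent.S2941
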