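import Cfsg.Statements.S3908
import Mathlib
import Cfsg.Agent.Lib.Helper10.UniqueOrderP

set_option autoImplicit false
open Cfsg

namespace Cfsg.Agent.S3908

open Cfsg.Agent.Lib.Helper10

/-- the dichotomy: unique subgroup of order `p`, or exponent `p` -/
theorem unique_or_exponent {G : Type*} [Group G] [Finite G]
    (hB : ∀ A B : Subgroup G, IsMulCommutative ↥A → IsMulCommutative ↥B → Nat.card ↥A = Nat.card ↥B → ∃ g : G, B = A.map (MulAut.conj g).toMonoidHom)
    (p : ℕ) [Fact p.Prime] (P : Sylow p G) :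
    UniqueOrderP p ↥(P : Subgroup G) ∨ ∀ x ∈ (P : Subgroup G), x ^ p = 1 := by
  have hp : p.Prime := Fact.out
  by_cases hU : UniqueOrderP p ↥(P : Subgroup G)
  · exact Or.inl hU
  right
  unfold UniqueOrderP at hU
  push Not at hU
  obtain ⟨x, y, hx, hx1, hy, hyx⟩ := hU
  -- a central element of order `p`
  haveI : Nontrivial ↥(P : Subgroup G) := ⟨⟨x, 1, hx1⟩⟩
  haveI : Nontrivial ↥(Subgroup.center ↥(P : Subgroup G)) := P.2.center_nontrivial
  have hpZ : p ∣ Nat.card ↥(Subgroup.center ↥(P : Subgroup G)) := by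
    obtain ⟨k, hk⟩ := IsPGroup.iff_card.mp (P.2.to_subgroup (Subgroup.center ↥(P : Subgroup G)))
    rw [hk]
    apply dvd_pow_self
    rintro rfl
    rw [pow_zero] at hk
    have := (Subgroup.eq_bot_of_card_eq _ hk)
    exact (Subgroup.nontrivial_iff_ne_bot _).mp inferInstance this
  obtain ⟨z, hz⟩ := exists_prime_orderOf_dvd_card' p hpZ
  have hzc : ∀ a : ↥(P : Subgroup G), (z : ↥(P : Subgroup G)) * a = a * z := by
    intro a
    exact (Subgroup.mem_center_iff.mp z.2 a).symm
  have hoz : orderOf (z : ↥(P : Subgroup G)) = p := by rw [Subgroup.orderOf_coe, hz]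
  -- choose `w ∉ ⟨z⟩` of order `p`
  obtain ⟨w, hw, hw1, hwz⟩ : ∃ w : ↥(P : Subgroup G), w ^ p = 1 ∧ w ≠ 1 ∧
      w ∉ Subgroup.zpowers (z : ↥(P : Subgroup G)) := by
    by_cases hxz : x ∈ Subgroup.zpowers (z : ↥(P : Subgroup G))
    · refine ⟨y, hy, ?_, ?_⟩
      · rintro rfl
        exact hyx (Subgroup.one_mem _)
      · intro hyz
        apply hyx
        have hox : orderOf x = p := orderOf_eq_prime hx hx1
        have heq : Subgroup.zpowers x = Subgroup.zpowers (z : ↥(P : Subgroup G)) := by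
          apply Subgroup.eq_of_le_of_card_ge
          · rw [Subgroup.zpowers_le]; exact hxz
          · rw [Nat.card_zpowers, Nat.card_zpowers, hox, hoz]
        rw [heq]; exact hyz
    · exact ⟨x, hx, hx1, hxz⟩
  -- the elementary abelian subgroup `E` of `G`
  set zG : G := ((z : ↥(P : Subgroup G)) : G) with hzG
  set wG : G := (w : G) with hwG
  have hzw : zG * wG = wG * zG := congrArg Subtype.val (hzc w)
  have hcommS : ∀ a ∈ ({zG, wG} : Set G), ∀ b ∈ ({zG, wG} : Set G), a * b = b * a := by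
    rintro a (rfl | ha) b (rfl | hb)
    · rfl
    · rw [Set.mem_singleton_iff] at hb; rw [hb]; exact hzw
    · rw [Set.mem_singleton_iff] at ha; rw [ha]; exact hzw.symm
    · rw [Set.mem_singleton_iff] at ha hb; rw [ha, hb]
  set E : Subgroup G := Subgroup.closure ({zG, wG} : Set G) with hE
  have hEc : IsMulCommutative ↥E := Subgroup.isMulCommutative_closure hcommS
  have hEcomm : ∀ a ∈ E, ∀ b ∈ E, a * b = b * a := by
    intro a ha b hb
    have := hEc.is_comm.comm (⟨a, ha⟩ : ↥E) ⟨b, hb⟩
    exact congrArg Subtype.val this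
  have hzGp : zG ^ p = 1 := by
    have := pow_orderOf_eq_one (z : ↥(P : Subgroup G))
    rw [hoz] at this
    have := congrArg Subtype.val this
    simpa using this
  have hwGp : wG ^ p = 1 := by
    have := congrArg Subtype.val hw
    simpa using this
  have hEexp : ∀ e ∈ E, e ^ p = 1 := by
    intro e he
    induction he using Subgroup.closure_induction with
    | mem a ha =>
      rcases ha with rfl | ha
      · exact hzGp
      · rw [Set.mem_singleton_iff] at ha; rw [ha]; exact hwGp
    | one => exact one_pow p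
    | mul a b ha hb iha ihb =>
      rw [(show Commute a b from hEcomm a ha b hb).mul_pow, iha, ihb, one_mul]
    | inv a ha iha => rw [inv_pow, iha, inv_one]
  have hEp : IsPGroup p ↥E := by
    intro e
    refine ⟨1, ?_⟩
    rw [pow_one]
    exact Subtype.ext (by simpa using hEexp e.1 e.2)
  -- `p ^ 2 ∣ |E|`
  have hp2 : p ^ 2 ∣ Nat.card ↥E := by
    obtain ⟨k, hk⟩ := IsPGroup.iff_card.mp hEp
    rw [hk]
    apply pow_dvd_pow
    by_contra hlt
    have hk1 : k ≤ 1 := by omega
    have hzE : Subgroup.zpowers zG ≤ E := by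
      rw [Subgroup.zpowers_le]; exact Subgroup.subset_closure (by simp)
    have hozG : orderOf zG = p := by rw [hzG, Subgroup.orderOf_coe, hoz]
    have hcardle : Nat.card ↥E ≤ Nat.card ↥(Subgroup.zpowers zG) := by
      rw [Nat.card_zpowers, hozG, hk]
      calc p ^ k ≤ p ^ 1 := Nat.pow_le_pow_right hp.pos hk1
        _ = p := pow_one p
    have heq := Subgroup.eq_of_le_of_card_ge hzE hcardle
    have hwE : wG ∈ E := Subgroup.subset_closure (by simp)
    rw [← heq] at hwE
    apply hwz
    obtain ⟨i, hi⟩ := Subgroup.mem_zpowers_iff.mp hwE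
    refine Subgroup.mem_zpowers_iff.mpr ⟨i, ?_⟩
    apply Subtype.ext
    rw [Subgroup.coe_zpow]
    exact hi
  obtain ⟨E', hE'⟩ := Sylow.exists_subgroup_card_pow_prime p hp2
  set E'' : Subgroup G := E'.map E.subtype with hE''
  have hE''card : Nat.card ↥E'' = p ^ 2 := by
    rw [hE'', Subgroup.card_map_of_injective E.subtype_injective, hE']
  have hE''le : E'' ≤ E := Subgroup.map_subtype_le E'
  have hE''c : IsMulCommutative ↥E'' :=
    ⟨⟨fun a b => Subtype.ext (hEcomm a.1 (hE''le a.2) b.1 (hE''le b.2))⟩⟩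
  -- now the exponent
  intro u hu
  by_contra hup
  obtain ⟨k, hk⟩ := (IsPGroup.iff_orderOf.mp P.2) ⟨u, hu⟩
  rw [Subgroup.orderOf_mk] at hk
  have hk2 : 2 ≤ k := by
    by_contra hlt
    apply hup
    have : orderOf u ∣ p := by
      rw [hk]
      calc p ^ k ∣ p ^ 1 := pow_dvd_pow p (by omega)
        _ = p := pow_one p
    exact orderOf_dvd_iff_pow_eq_one.mp this
  have hy' : orderOf (u ^ p ^ (k - 2)) = p ^ 2 := by
    rw [orderOf_pow_of_dvd (pow_ne_zero _ hp.ne_zero) (by rw [hk]; exact pow_dvd_pow p (by omega)), hk,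
      Nat.pow_div (by omega) hp.pos]
    congr 1
    omega
  set y' := u ^ p ^ (k - 2) with hy'def
  have hCc : IsMulCommutative ↥(Subgroup.zpowers y') := inferInstance
  obtain ⟨g, hg⟩ := hB E'' (Subgroup.zpowers y') hE''c hCc (by rw [hE''card, Nat.card_zpowers, hy'])
  have hy'mem : y' ∈ E''.map (MulAut.conj g).toMonoidHom := by
    rw [← hg]; exact Subgroup.mem_zpowers y'
  obtain ⟨e, he, hey⟩ := hy'mem
  have h1 : y' ^ p = 1 := by
    rw [← hey]
    simp only [MulEquiv.coe_toMonoidHom, MulAut.conj_apply]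
    rw [conj_pow, hEexp e (hE''le he)]
    group
  have h2 : orderOf y' ∣ p := orderOf_dvd_of_pow_eq_one h1
  rw [hy'] at h2
  have h3 : p ^ 2 ≤ p := Nat.le_of_dvd hp.pos h2
  have := hp.two_le
  nlinarith

/-- Let G be a finite group in which any two abelian subgroups of the same order are conjugate. Then a Sylow 2-subgroup of G is cyclic, elementary abelian or generalized quaternion, and for an odd prime p a Sylow p-subgroup of G is cyclic or has exponent dividing p. -/
theorem result {G : Type*} [Group G] [Finite G] (hB : ∀ A B : Subgroup G, IsMulCommutative ↥A → IsMulCommutative ↥B → Nat.card ↥A = Nat.card ↥B → ∃ g : G, B = A.map (MulAut.conj g).toMonoidHom) :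
    (∀ P : Sylow 2 G, IsCyclic ↥(P : Subgroup G) ∨ Cfsg.IsElementaryAbelian 2 (P : Subgroup G) ∨ ∃ k : ℕ, Nonempty (↥(P : Subgroup G) ≃* QuaternionGroup (2 ^ k))) ∧
    ∀ (p : ℕ) [Fact p.Prime], p ≠ 2 → ∀ P : Sylow p G, IsCyclic ↥(P : Subgroup G) ∨ ∀ x ∈ (P : Subgroup G), x ^ p = 1 := by
  constructor
  · intro P
    haveI : Fact (Nat.Prime 2) := ⟨Nat.prime_two⟩
    rcases unique_or_exponent hB 2 P with hU | hexp
    · rcases isCyclic_or_quaternion_of_uniqueOrderP P.2 hU with hc | ⟨_, n, hn⟩
      · exact Or.inl hc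
      · exact Or.inr (Or.inr ⟨n, hn⟩)
    · right; left
      refine ⟨⟨⟨fun a b => ?_⟩⟩, hexp⟩
      have hinv : ∀ c : ↥(P : Subgroup G), c⁻¹ = c := by
        intro c
        have : c ^ 2 = 1 := Subtype.ext (by simpa using hexp c.1 c.2)
        rw [inv_eq_iff_mul_eq_one, ← pow_two, this]
      calc a * b = (a * b)⁻¹ := (hinv _).symm
        _ = b⁻¹ * a⁻¹ := mul_inv_rev a b
        _ = b * a := by rw [hinv, hinv]
  · intro p _ hp2 P
    rcases unique_or_exponent hB p P with hU | hexp
    · rcases isCyclic_or_quaternion_of_uniqueOrderP P.2 hU with hc | ⟨h2, _⟩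
      · exact Or.inl hc
      · exact absurd h2 hp2
    · exact Or.inr hexp

end Cfsg.Agent.S3908
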