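import Cfsg.Statements.S3909
import Mathlib

set_option autoImplicit false
open Cfsg

namespace Cfsg.Agent.S3909

/-- Part 1 as a standalone lemma. -/
theorem mem_of_orderOf_eq {G : Type*} [Group G] [Finite G] (hB : ∀ A B : Subgroup G, IsMulCommutative ↥A → IsMulCommutative ↥B → Nat.card ↥A = Nat.card ↥B → ∃ g : G, B = A.map (MulAut.conj g).toMonoidHom) (M : Subgroup G) [M.Normal]
    (a : G) (h : ∃ m ∈ M, orderOf m = orderOf a) : a ∈ M := by
  obtain ⟨m, hm, hma⟩ := h
  have hc : Nat.card (Subgroup.zpowers m) = Nat.card (Subgroup.zpowers a) := by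
    rw [Nat.card_zpowers, Nat.card_zpowers, hma]
  obtain ⟨g, hg⟩ := hB (Subgroup.zpowers m) (Subgroup.zpowers a) inferInstance inferInstance hc
  have ha : a ∈ (Subgroup.zpowers m).map (MulAut.conj g).toMonoidHom := by
    rw [← hg]; exact Subgroup.mem_zpowers a
  obtain ⟨y, hy, rfl⟩ := ha
  have hyM : y ∈ M := (Subgroup.zpowers_le.mpr hm) hy
  simp only [MulEquiv.coe_toMonoidHom, MulAut.conj_apply]
  exact ‹M.Normal›.conj_mem y hyM g

/-- Let G be a finite group in which any two abelian subgroups of the same order are conjugate. Let M be a normal subgroup of G. If M contains an element of the same order as a ∈ G, then a ∈ M; and if M is elementary abelian of order p^t with p prime and t ≥ 2, then M is the unique Sylow p-subgroup of G. -/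
theorem result {G : Type*} [Group G] [Finite G] (hB : ∀ A B : Subgroup G, IsMulCommutative ↥A → IsMulCommutative ↥B → Nat.card ↥A = Nat.card ↥B → ∃ g : G, B = A.map (MulAut.conj g).toMonoidHom) (M : Subgroup G) [M.Normal] :
    (∀ a : G, (∃ m ∈ M, orderOf m = orderOf a) → a ∈ M) ∧
    ∀ (p t : ℕ) [Fact p.Prime], 2 ≤ t → Nat.card ↥M = p ^ t → Cfsg.IsElementaryAbelian p M → ∀ P : Sylow p G, (P : Subgroup G) = M := by
  refine ⟨fun a h => mem_of_orderOf_eq hB M a h, ?_⟩
  intro p t _ ht hcard hel P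
  have hp : p.Prime := Fact.out
  have hMp : IsPGroup p M := IsPGroup.of_card hcard
  have hMP : M ≤ P := by
    obtain ⟨Q, hQ⟩ := hMp.exists_le_sylow
    obtain ⟨g, hg⟩ := MulAction.exists_smul_eq G Q P
    rw [← hg]
    intro x hx
    rw [Sylow.coe_subgroup_smul, Subgroup.mem_pointwise_smul_iff_inv_smul_mem]
    simp only [MulAut.smul_def, MulAut.conj_inv_apply]
    apply hQ
    have := ‹M.Normal›.conj_mem x hx g⁻¹
    simpa using this
  -- M has an element of order p
  have hpdvd : p ∣ Nat.card M := by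
    rw [hcard]; exact dvd_pow_self p (by omega)
  obtain ⟨m0, hm0⟩ := exists_prime_orderOf_dvd_card' p hpdvd
  have hm0' : orderOf (m0 : G) = p := by rw [Subgroup.orderOf_coe]; exact hm0
  -- a subgroup of order p^2 in M
  obtain ⟨K0, hK0⟩ := Sylow.exists_subgroup_card_pow_prime (G := M) p (n := 2)
    (by rw [hcard]; exact pow_dvd_pow p ht)
  let K : Subgroup G := K0.map M.subtype
  have hKM : K ≤ M := Subgroup.map_subtype_le _
  have hKcard : Nat.card K = p ^ 2 := by
    rw [← hK0]
    exact Nat.card_congr (K0.equivMapOfInjective _ M.subtype_injective).symm.toEquiv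
  have hKcomm : IsMulCommutative K := by
    refine ⟨⟨fun a b => ?_⟩⟩
    have := hel.1.is_comm.comm ⟨a.1, hKM a.2⟩ ⟨b.1, hKM b.2⟩
    apply Subtype.ext
    exact congrArg (fun x : M => (x : G)) this
  apply le_antisymm _ hMP
  intro x hxP
  by_contra hxM
  obtain ⟨k, hk⟩ := (IsPGroup.iff_orderOf.mp P.2) ⟨x, hxP⟩
  rw [Subgroup.orderOf_mk] at hk
  -- k ≥ 2
  have hk2 : 2 ≤ k := by
    by_contra hlt
    have hk01 : k = 0 ∨ k = 1 := by omega
    rcases hk01 with rfl | rfl
    · rw [pow_zero, orderOf_eq_one_iff] at hk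
      exact hxM (hk ▸ M.one_mem)
    · rw [pow_one] at hk
      exact hxM (mem_of_orderOf_eq hB M x ⟨m0, m0.2, by rw [hm0', hk]⟩)
  -- z = x^(p^(k-2)) has order p^2
  set z := x ^ (p ^ (k - 2)) with hz
  have hzord : orderOf z = p ^ 2 := by
    have h1 : orderOf x = p ^ (k - 2) * p ^ 2 := by
      rw [hk, ← pow_add]; congr 1; omega
    rw [hz, orderOf_pow' x (pow_ne_zero _ hp.ne_zero), h1]
    rw [Nat.gcd_eq_right (Dvd.intro _ rfl)]
    exact Nat.mul_div_cancel_left _ (pow_pos hp.pos _)
  have hc : Nat.card K = Nat.card (Subgroup.zpowers z) := by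
    rw [Nat.card_zpowers, hzord, hKcard]
  obtain ⟨g, hg⟩ := hB K (Subgroup.zpowers z) hKcomm inferInstance hc
  have hzK : z ∈ K.map (MulAut.conj g).toMonoidHom := by
    rw [← hg]; exact Subgroup.mem_zpowers z
  obtain ⟨y, hy, hyz⟩ := hzK
  have hyp : y ^ p = 1 := hel.2 y (hKM hy)
  have hzp : z ^ p = 1 := by
    rw [← hyz]
    simp only [MulEquiv.coe_toMonoidHom, MulAut.conj_apply]
    rw [conj_pow, hyp]; simp
  have := orderOf_dvd_of_pow_eq_one hzp
  rw [hzord] at this
  have h2 : p ^ 2 ≤ p := Nat.le_of_dvd hp.pos this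
  have : p < p ^ 2 := by
    have := hp.one_lt
    nlinarith
  omega

end Cfsg.Agent.S3909
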