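import Cfsg.Statements.S3911
import Cfsg.Agent.S3908
import Cfsg.Agent.S3909

set_option autoImplicit false
open Cfsg

namespace Cfsg.Agent.S3911

/-- A normal Hall subgroup contained in (a subgroup contained in) every maximal subgroup is
trivial. -/
theorem hallKill {A : Type*} [Group A] [Finite A] (N P : Subgroup A) [P.Normal]
    (hN : ∀ H : Subgroup A, IsCoatom H → N ≤ H) (hPN : P ≤ N)
    (hcop : Nat.Coprime (Nat.card P) P.index) : P = ⊥ := by
  obtain ⟨K, hK⟩ := Subgroup.exists_right_complement'_of_coprime hcop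
  by_cases hKt : K = ⊤
  · have h1 := hK.card_mul_card
    rw [hKt, Subgroup.card_top] at h1
    have hA : 0 < Nat.card A := Nat.card_pos
    have h2 : Nat.card P = 1 := by
      have : Nat.card P * Nat.card A = 1 * Nat.card A := by rw [h1, one_mul]
      exact Nat.eq_of_mul_eq_mul_right hA this
    exact Subgroup.eq_bot_of_card_eq P h2
  · exfalso
    obtain ⟨H, hH, hKH⟩ := (eq_top_or_exists_le_coatom K).resolve_left hKt
    have hPH : P ≤ H := hPN.trans (hN H hH)
    have hsup : P ⊔ K ≤ H := sup_le hPH hKH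
    rw [hK.sup_eq_top] at hsup
    exact hH.1 (top_le_iff.mp hsup)

/-- A finite group all of whose maximal subgroups are normal and all of whose Sylow subgroups
are commutative is commutative. -/
theorem comm_of_sylow {A : Type*} [Group A] [Finite A]
    (hco : ∀ H : Subgroup A, IsCoatom H → H.Normal)
    (hsyl : ∀ (p : ℕ) [Fact p.Prime] (P : Sylow p A), ∀ x ∈ (P : Subgroup A),
      ∀ y ∈ (P : Subgroup A), x * y = y * x) :
    ∀ x y : A, x * y = y * x := by
  obtain ⟨e⟩ := ((Group.isNilpotent_of_finite_tfae (G := A)).out 2 4).mp hco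
  intro x y
  have hxy : e.symm x * e.symm y = e.symm y * e.symm x := by
    funext p
    funext P
    haveI : Fact (p : ℕ).Prime := ⟨Nat.prime_of_mem_primeFactors p.2⟩
    apply Subtype.ext
    simp only [Pi.mul_apply, Subgroup.coe_mul]
    exact hsyl p P _ (e.symm x p P).2 _ (e.symm y p P).2
  have := congrArg e hxy
  simpa only [map_mul, MulEquiv.apply_symm_apply] using this

theorem card_subgroupOf_dvd {G : Type*} [Group G] [Finite G] (M A : Subgroup G) :
    Nat.card ↥(M.subgroupOf A) ∣ Nat.card ↥M := by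
  let f : ↥(M.subgroupOf A) →* ↥M :=
    { toFun := fun x => ⟨((x : ↥A) : G), Subgroup.mem_subgroupOf.mp x.2⟩
      map_one' := rfl
      map_mul' := fun _ _ => rfl }
  have hf : Function.Injective f := by
    intro x y hxy
    have h : ((f x : ↥M) : G) = ((f y : ↥M) : G) := congrArg Subtype.val hxy
    exact Subtype.ext (Subtype.ext h)
  exact Subgroup.card_dvd_of_injective f hf

theorem card_eq_mul {G : Type*} [Group G] [Finite G] (A : Subgroup G) (M : Subgroup G) [M.Normal] :
    Nat.card ↥A = Nat.card ↥(M.subgroupOf A) * Nat.card ↥(A.map (QuotientGroup.mk' M)) := by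
  have h1 := Subgroup.card_mul_index (((QuotientGroup.mk' M).comp A.subtype).ker)
  rw [Subgroup.index_ker] at h1
  have hk : ((QuotientGroup.mk' M).comp A.subtype).ker = M.subgroupOf A := by
    ext x
    simp [MonoidHom.mem_ker, Subgroup.mem_subgroupOf, QuotientGroup.eq_one_iff]
  have hr : ((QuotientGroup.mk' M).comp A.subtype).range = A.map (QuotientGroup.mk' M) := by
    rw [MonoidHom.range_comp, Subgroup.range_subtype]
  rw [hk, hr] at h1
  exact h1.symm

/-- Every abelian subgroup of `G ⧸ M` lifts to an abelian subgroup `A` of `G` such that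
`A ∩ M` lies in every maximal subgroup of `A`. -/
theorem exists_lift {G : Type*} [Group G] [Finite G]
    (hB : ∀ A B : Subgroup G, IsMulCommutative ↥A → IsMulCommutative ↥B →
      Nat.card ↥A = Nat.card ↥B → ∃ g : G, B = A.map (MulAut.conj g).toMonoidHom)
    (M : Subgroup G) [M.Normal] (hM : Odd (Nat.card ↥M))
    (Abar : Subgroup (G ⧸ M)) (hAbar : IsMulCommutative ↥Abar) :
    ∃ A : Subgroup G, IsMulCommutative ↥A ∧ A.map (QuotientGroup.mk' M) = Abar ∧
      ∀ H : Subgroup ↥A, IsCoatom H → M.subgroupOf A ≤ H := by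
  classical
  let S : Set (Subgroup G) := {X | X.map (QuotientGroup.mk' M) = Abar}
  have hne : S.Nonempty := ⟨Abar.comap (QuotientGroup.mk' M),
    Subgroup.map_comap_eq_self_of_surjective (QuotientGroup.mk'_surjective M) Abar⟩
  obtain ⟨A, hAS, hAmin⟩ := (measure (fun X : Subgroup G => Nat.card ↥X)).wf.has_min S hne
  have hAmap : A.map (QuotientGroup.mk' M) = Abar := hAS
  -- commutators lie in `M`
  have hcomm : ∀ x y : ↥A, ((x * y * x⁻¹ * y⁻¹ : ↥A) : G) ∈ M := by
    intro x y
    have hx : (QuotientGroup.mk' M) (x : G) ∈ Abar := by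
      rw [← hAmap]; exact Subgroup.mem_map_of_mem _ x.2
    have hy : (QuotientGroup.mk' M) (y : G) ∈ Abar := by
      rw [← hAmap]; exact Subgroup.mem_map_of_mem _ y.2
    have hc := hAbar.is_comm.comm ⟨_, hx⟩ ⟨_, hy⟩
    have hc' : (QuotientGroup.mk' M) (x : G) * (QuotientGroup.mk' M) (y : G) =
        (QuotientGroup.mk' M) (y : G) * (QuotientGroup.mk' M) (x : G) := congrArg Subtype.val hc
    have h2 : (QuotientGroup.mk' M) (x : G) * (QuotientGroup.mk' M) (y : G) *
        ((QuotientGroup.mk' M) (x : G))⁻¹ * ((QuotientGroup.mk' M) (y : G))⁻¹ = 1 := by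
      rw [hc']; group
    have h3 : (QuotientGroup.mk' M) ((x * y * x⁻¹ * y⁻¹ : ↥A) : G) = 1 := by
      simpa only [Subgroup.coe_mul, Subgroup.coe_inv, map_mul, map_inv] using h2
    exact (QuotientGroup.eq_one_iff _).mp h3
  -- the Frattini property
  have hfrat : ∀ H : Subgroup ↥A, IsCoatom H → M.subgroupOf A ≤ H := by
    intro H hH
    by_contra hnot
    have hsup : H ⊔ M.subgroupOf A = ⊤ := by
      by_contra hne'
      have hlt : H < H ⊔ M.subgroupOf A := by
        refine lt_of_le_of_ne le_sup_left ?_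
        intro heq
        apply hnot
        rw [heq]
        exact le_sup_right
      exact hne' (hH.2 _ hlt)
    have hX : (H.map A.subtype) ∈ S := by
      show (H.map A.subtype).map (QuotientGroup.mk' M) = Abar
      apply le_antisymm
      · rw [← hAmap]; exact Subgroup.map_mono (Subgroup.map_subtype_le H)
      · rw [← hAmap]
        rintro _ ⟨a, ha, rfl⟩
        have hmem : (⟨a, ha⟩ : ↥A) ∈ H ⊔ M.subgroupOf A := by rw [hsup]; trivial
        rw [← SetLike.mem_coe, Subgroup.mul_normal] at hmem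
        obtain ⟨h, hh, n, hn, hmul⟩ := Set.mem_mul.mp hmem
        refine ⟨(h : G), ⟨h, hh, rfl⟩, ?_⟩
        have hahn : a = (h : G) * (n : G) := by
          rw [← Subgroup.coe_mul, hmul]
        rw [hahn, map_mul]
        have hn1 : (QuotientGroup.mk' M) (n : G) = 1 :=
          (QuotientGroup.eq_one_iff _).mpr (Subgroup.mem_subgroupOf.mp hn)
        rw [hn1, mul_one]
    have hcard : Nat.card ↥(H.map A.subtype) < Nat.card ↥A := by
      rw [Subgroup.card_map_of_injective A.subtype_injective]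
      exact lt_of_le_of_ne (Subgroup.card_le_card_group H)
        (fun h => hH.1 (Subgroup.eq_top_of_card_eq H h))
    exact hAmin _ hX hcard
  -- maximal subgroups are normal
  have hco : ∀ H : Subgroup ↥A, IsCoatom H → H.Normal := by
    intro H hH
    refine ⟨fun n hn g => ?_⟩
    have h1 : g * n * g⁻¹ * n⁻¹ ∈ H := hfrat H hH (Subgroup.mem_subgroupOf.mpr (hcomm g n))
    have h2 : g * n * g⁻¹ = (g * n * g⁻¹ * n⁻¹) * n := by group
    rw [h2]; exact H.mul_mem h1 hn
  -- Sylow subgroups are commutative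
  have hsyl : ∀ (p : ℕ) [Fact p.Prime] (P : Sylow p ↥A), ∀ x ∈ (P : Subgroup ↥A),
      ∀ y ∈ (P : Subgroup ↥A), x * y = y * x := by
    intro p _ P x hx y hy
    have hp : p.Prime := Fact.out
    have hcP : x * y * x⁻¹ * y⁻¹ ∈ (P : Subgroup ↥A) :=
      Subgroup.mul_mem _ (Subgroup.mul_mem _ (Subgroup.mul_mem _ hx hy) (Subgroup.inv_mem _ hx))
        (Subgroup.inv_mem _ hy)
    have hcM : ((x * y * x⁻¹ * y⁻¹ : ↥A) : G) ∈ M := hcomm x y
    suffices h : x * y * x⁻¹ * y⁻¹ = 1 by
      have h2 : x * y = (x * y * x⁻¹ * y⁻¹) * (y * x) := by group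
      rw [h2, h, one_mul]
    by_cases hpM : p ∣ Nat.card ↥M
    · have hp2 : p ≠ 2 := by
        rintro rfl
        exact (Nat.not_even_iff_odd.mpr hM) (even_iff_two_dvd.mpr hpM)
      have hPG : IsPGroup p ↥((P : Subgroup ↥A).map A.subtype) := P.isPGroup'.map _
      obtain ⟨Q, hQ⟩ := hPG.exists_le_sylow
      have hxQ : (x : G) ∈ (Q : Subgroup G) := hQ ⟨x, hx, rfl⟩
      have hyQ : (y : G) ∈ (Q : Subgroup G) := hQ ⟨y, hy, rfl⟩
      rcases (Cfsg.Agent.S3908.result hB).2 p hp2 Q with hcyc | hexp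
      · obtain ⟨g, hg⟩ := IsCyclic.exists_generator (α := ↥(Q : Subgroup G))
        obtain ⟨i, hi⟩ := Subgroup.mem_zpowers_iff.mp (hg ⟨x, hxQ⟩)
        obtain ⟨j, hj⟩ := Subgroup.mem_zpowers_iff.mp (hg ⟨y, hyQ⟩)
        have hcomm' : (⟨x, hxQ⟩ : ↥(Q : Subgroup G)) * ⟨y, hyQ⟩ = ⟨y, hyQ⟩ * ⟨x, hxQ⟩ := by
          rw [← hi, ← hj]
          exact ((Commute.refl g).zpow_zpow i j).eq
        have hxy : (x : G) * y = y * x := congrArg Subtype.val hcomm'
        have hxy' : x * y = y * x := Subtype.ext (by simpa using hxy)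
        rw [hxy']; group
      · have h23 : (∀ H : Subgroup ↥A, IsCoatom H → H.Normal) ↔
            ∀ (p : ℕ) (_hp : Fact p.Prime) (P : Sylow p ↥A), (↑P : Subgroup ↥A).Normal :=
          (Group.isNilpotent_of_finite_tfae (G := ↥A)).out 2 3
        haveI : (P : Subgroup ↥A).Normal := h23.mp hco p inferInstance P
        obtain ⟨m, hm⟩ := exists_prime_orderOf_dvd_card' (G := ↥M) p hpM
        have hPN : (P : Subgroup ↥A) ≤ M.subgroupOf A := by
          intro z hz
          rw [Subgroup.mem_subgroupOf]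
          have hzQ : (z : G) ∈ (Q : Subgroup G) := hQ ⟨z, hz, rfl⟩
          have hzp : (z : G) ^ p = 1 := hexp _ hzQ
          by_cases hz1 : (z : G) = 1
          · rw [hz1]; exact M.one_mem
          · have hord : orderOf (z : G) = p := orderOf_eq_prime hzp hz1
            exact Cfsg.Agent.S3909.mem_of_orderOf_eq hB M (z : G)
              ⟨(m : G), m.2, by rw [Subgroup.orderOf_coe, hm, hord]⟩
        have hbot := hallKill (M.subgroupOf A) (P : Subgroup ↥A) hfrat hPN P.card_coprime_index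
        have hc1 : x * y * x⁻¹ * y⁻¹ ∈ (⊥ : Subgroup ↥A) := hbot ▸ hcP
        exact Subgroup.mem_bot.mp hc1
    · have hc1 : ((x * y * x⁻¹ * y⁻¹ : ↥A) : G) = 1 := by
        obtain ⟨k, hk⟩ := P.isPGroup' ⟨_, hcP⟩
        have hk' : ((x * y * x⁻¹ * y⁻¹ : ↥A) : G) ^ p ^ k = 1 := by
          have := congrArg (fun z : ↥(P : Subgroup ↥A) => ((z : ↥A) : G)) hk
          simpa using this
        have hd1 : orderOf ((x * y * x⁻¹ * y⁻¹ : ↥A) : G) ∣ p ^ k :=
          orderOf_dvd_of_pow_eq_one hk'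
        have hd2 : orderOf ((x * y * x⁻¹ * y⁻¹ : ↥A) : G) ∣ Nat.card ↥M := by
          have := orderOf_dvd_natCard (⟨_, hcM⟩ : ↥M)
          rwa [Subgroup.orderOf_mk] at this
        have hcop : Nat.Coprime (p ^ k) (Nat.card ↥M) :=
          Nat.Coprime.pow_left k ((Nat.Prime.coprime_iff_not_dvd hp).mpr hpM)
        exact orderOf_eq_one_iff.mp (Nat.eq_one_of_dvd_coprimes hcop hd1 hd2)
      exact Subtype.ext hc1
  have hcommA := comm_of_sylow hco hsyl
  exact ⟨A, ⟨⟨hcommA⟩⟩, hAmap, hfrat⟩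

/-- If the prime `r` divides `|M|` and the order of the image of `B` in `G ⧸ M`, then `B ∩ M`
contains an element whose order is the full `r`-part of `|M|`. -/
theorem pow_dvd_card_inf {G : Type*} [Group G] [Finite G]
    (hB : ∀ A B : Subgroup G, IsMulCommutative ↥A → IsMulCommutative ↥B →
      Nat.card ↥A = Nat.card ↥B → ∃ g : G, B = A.map (MulAut.conj g).toMonoidHom)
    (M : Subgroup G) [M.Normal] (hM : Odd (Nat.card ↥M))
    (B : Subgroup G) (r : ℕ) [Fact r.Prime] (hrM : r ∣ Nat.card ↥M)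
    (hrB : r ∣ Nat.card ↥(B.map (QuotientGroup.mk' M))) :
    r ^ (Nat.card ↥M).factorization r ∣ Nat.card ↥(M.subgroupOf B) := by
  have hr : r.Prime := Fact.out
  have hr2 : r ≠ 2 := by
    rintro rfl
    exact (Nat.not_even_iff_odd.mpr hM) (even_iff_two_dvd.mpr hrM)
  obtain ⟨bbar, hbbar⟩ :=
    exists_prime_orderOf_dvd_card' (G := ↥(B.map (QuotientGroup.mk' M))) r hrB
  obtain ⟨b, hbB, hb⟩ := Subgroup.mem_map.mp bbar.2
  have hbbar' : orderOf ((QuotientGroup.mk' M) b) = r := by
    rw [hb, Subgroup.orderOf_coe, hbbar]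
  have hn0 : orderOf b ≠ 0 := (orderOf_pos b).ne'
  obtain ⟨k, s, hs, hn⟩ := Nat.exists_eq_pow_mul_and_not_dvd hn0 r hr.ne_one
  have hs0 : s ≠ 0 := by
    rintro rfl
    exact hs (dvd_zero r)
  have hb'B : b ^ s ∈ B := B.pow_mem hbB s
  have hordb' : orderOf (b ^ s) = r ^ k := by
    rw [orderOf_pow_of_dvd hs0 (Dvd.intro_left _ hn.symm), hn,
      Nat.mul_div_cancel _ (Nat.pos_of_ne_zero hs0)]
  have hb'M : b ^ s ∉ M := by
    intro hmem
    have h1 : (QuotientGroup.mk' M) (b ^ s) = 1 := (QuotientGroup.eq_one_iff _).mpr hmem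
    rw [map_pow] at h1
    have h2 := orderOf_dvd_of_pow_eq_one h1
    rw [hbbar'] at h2
    exact hs h2
  obtain ⟨m0, hm0⟩ := exists_prime_orderOf_dvd_card' (G := ↥M) r hrM
  let PM : Sylow r ↥M := default
  obtain ⟨Q, hQ⟩ := PM.exists_comap_subtype_eq
  rcases (Cfsg.Agent.S3908.result hB).2 r hr2 Q with hcyc | hexp
  · -- cyclic Sylow subgroups
    let f : ↥(PM : Subgroup ↥M) →* ↥(Q : Subgroup G) :=
      { toFun := fun x => ⟨((x : ↥M) : G), by
          have h : (x : ↥M) ∈ (Q : Subgroup G).comap M.subtype := by rw [hQ]; exact x.2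
          exact h⟩
        map_one' := rfl
        map_mul' := fun _ _ => rfl }
    have hf : Function.Injective f := by
      intro x y hxy
      have h : ((f x : ↥(Q : Subgroup G)) : G) = ((f y : ↥(Q : Subgroup G)) : G) :=
        congrArg Subtype.val hxy
      exact Subtype.ext (Subtype.ext h)
    haveI : IsCyclic ↥(PM : Subgroup ↥M) := isCyclic_of_injective f hf
    obtain ⟨gM, hgM⟩ := IsCyclic.exists_generator (α := ↥(PM : Subgroup ↥M))
    have hgMord : orderOf gM = r ^ (Nat.card ↥M).factorization r := by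
      rw [orderOf_eq_card_of_forall_mem_zpowers hgM, PM.card_eq_multiplicity]
    set j := (Nat.card ↥M).factorization r with hj
    have hmord : orderOf (((gM : ↥M) : G)) = r ^ j := by
      rw [Subgroup.orderOf_coe, Subgroup.orderOf_coe, hgMord]
    have hmM : ((gM : ↥M) : G) ∈ M := (gM : ↥M).2
    rcases le_or_gt k j with hkj | hjk
    · exfalso
      have hm' : orderOf (((gM : ↥M) : G) ^ r ^ (j - k)) = r ^ k := by
        rw [orderOf_pow_of_dvd (pow_ne_zero _ hr.ne_zero)
          (by rw [hmord]; exact pow_dvd_pow r (Nat.sub_le j k)), hmord,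
          Nat.pow_div (Nat.sub_le j k) hr.pos, Nat.sub_sub_self hkj]
      exact hb'M (Cfsg.Agent.S3909.mem_of_orderOf_eq hB M (b ^ s)
        ⟨_, M.pow_mem hmM _, by rw [hm', hordb']⟩)
    · have hb'' : orderOf ((b ^ s) ^ r ^ (k - j)) = r ^ j := by
        rw [orderOf_pow_of_dvd (pow_ne_zero _ hr.ne_zero)
          (by rw [hordb']; exact pow_dvd_pow r (Nat.sub_le k j)), hordb',
          Nat.pow_div (Nat.sub_le k j) hr.pos, Nat.sub_sub_self hjk.le]
      have hb''M : (b ^ s) ^ r ^ (k - j) ∈ M :=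
        Cfsg.Agent.S3909.mem_of_orderOf_eq hB M _ ⟨_, hmM, by rw [hmord, hb'']⟩
      have hb''B : (b ^ s) ^ r ^ (k - j) ∈ B := B.pow_mem hb'B _
      have hmem : (⟨_, hb''B⟩ : ↥B) ∈ M.subgroupOf B := Subgroup.mem_subgroupOf.mpr hb''M
      have hdvd := orderOf_dvd_natCard (⟨_, hmem⟩ : ↥(M.subgroupOf B))
      rwa [Subgroup.orderOf_mk, Subgroup.orderOf_mk, hb''] at hdvd
  · -- exponent `r`: impossible
    exfalso
    have hzp : IsPGroup r ↥(Subgroup.zpowers (b ^ s)) :=
      IsPGroup.of_card (n := k) (by rw [Nat.card_zpowers, hordb'])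
    obtain ⟨Q', hQ'⟩ := hzp.exists_le_sylow
    have hbQ' : b ^ s ∈ (Q' : Subgroup G) := hQ' (Subgroup.mem_zpowers _)
    let e := Sylow.equiv Q' Q
    have h1 : ((e ⟨b ^ s, hbQ'⟩ : ↥(Q : Subgroup G)) : G) ^ r = 1 := hexp _ (e ⟨b ^ s, hbQ'⟩).2
    have h2 : (e ⟨b ^ s, hbQ'⟩) ^ r = 1 := Subtype.ext (by simpa using h1)
    have h3 : (⟨b ^ s, hbQ'⟩ : ↥(Q' : Subgroup G)) ^ r = 1 := by
      apply e.injective
      rw [map_pow, h2, map_one]
    have h4 : (b ^ s) ^ r = 1 := by
      have := congrArg Subtype.val h3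
      simpa using this
    have hne1 : b ^ s ≠ 1 := fun h => hb'M (h ▸ M.one_mem)
    have hord : orderOf (b ^ s) = r := orderOf_eq_prime h4 hne1
    exact hb'M (Cfsg.Agent.S3909.mem_of_orderOf_eq hB M (b ^ s)
      ⟨(m0 : G), m0.2, by rw [Subgroup.orderOf_coe, hm0, hord]⟩)

/-- For a lift with the Frattini property, primes dividing `|A ∩ M|` divide the order of the
image. -/
theorem prime_dvd_image {G : Type*} [Group G] [Finite G]
    (M : Subgroup G) [M.Normal] (A : Subgroup G) (hA : IsMulCommutative ↥A)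
    (hfrat : ∀ H : Subgroup ↥A, IsCoatom H → M.subgroupOf A ≤ H)
    (r : ℕ) [Fact r.Prime] (hr : r ∣ Nat.card ↥(M.subgroupOf A)) :
    r ∣ Nat.card ↥(A.map (QuotientGroup.mk' M)) := by
  by_contra hnot
  let P : Sylow r ↥A := default
  haveI : (P : Subgroup ↥A).Normal := ⟨fun n hn g => by
    have h : g * n * g⁻¹ = n := by rw [hA.is_comm.comm g n, mul_inv_cancel_right]
    rw [h]; exact hn⟩
  have hPN : (P : Subgroup ↥A) ≤ M.subgroupOf A := by
    intro z hz
    rw [Subgroup.mem_subgroupOf]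
    obtain ⟨k, hk⟩ := P.isPGroup' ⟨z, hz⟩
    have hzk : (z : G) ^ r ^ k = 1 := by
      have := congrArg (fun w : ↥(P : Subgroup ↥A) => ((w : ↥A) : G)) hk
      simpa using this
    have h1 : ((QuotientGroup.mk' M) (z : G)) ^ r ^ k = 1 := by rw [← map_pow, hzk, map_one]
    have hmem : (QuotientGroup.mk' M) (z : G) ∈ A.map (QuotientGroup.mk' M) :=
      Subgroup.mem_map_of_mem _ z.2
    have hd1 : orderOf ((QuotientGroup.mk' M) (z : G)) ∣ r ^ k := orderOf_dvd_of_pow_eq_one h1
    have hd2 : orderOf ((QuotientGroup.mk' M) (z : G)) ∣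
        Nat.card ↥(A.map (QuotientGroup.mk' M)) := by
      have := orderOf_dvd_natCard (⟨_, hmem⟩ : ↥(A.map (QuotientGroup.mk' M)))
      rwa [Subgroup.orderOf_mk] at this
    have hcop : Nat.Coprime (r ^ k) (Nat.card ↥(A.map (QuotientGroup.mk' M))) :=
      Nat.Coprime.pow_left k ((Nat.Prime.coprime_iff_not_dvd Fact.out).mpr hnot)
    have h2 : (QuotientGroup.mk' M) (z : G) = 1 :=
      orderOf_eq_one_iff.mp (Nat.eq_one_of_dvd_coprimes hcop hd1 hd2)
    exact (QuotientGroup.eq_one_iff _).mp h2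
  have hbot := hallKill (M.subgroupOf A) (P : Subgroup ↥A) hfrat hPN P.card_coprime_index
  have hrA : r ∣ Nat.card ↥A := dvd_trans hr (Subgroup.card_subgroup_dvd_card _)
  exact P.ne_bot_of_dvd_card hrA hbot

theorem card_ker_dvd {G : Type*} [Group G] [Finite G]
    (hB : ∀ A B : Subgroup G, IsMulCommutative ↥A → IsMulCommutative ↥B →
      Nat.card ↥A = Nat.card ↥B → ∃ g : G, B = A.map (MulAut.conj g).toMonoidHom)
    (M : Subgroup G) [M.Normal] (hM : Odd (Nat.card ↥M))
    (A B : Subgroup G) (hA : IsMulCommutative ↥A)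
    (hfrat : ∀ H : Subgroup ↥A, IsCoatom H → M.subgroupOf A ≤ H)
    (hAB : Nat.card ↥(A.map (QuotientGroup.mk' M)) = Nat.card ↥(B.map (QuotientGroup.mk' M))) :
    Nat.card ↥(M.subgroupOf A) ∣ Nat.card ↥(M.subgroupOf B) := by
  have hnA : Nat.card ↥(M.subgroupOf A) ≠ 0 := Nat.card_pos.ne'
  have hnB : Nat.card ↥(M.subgroupOf B) ≠ 0 := Nat.card_pos.ne'
  have hnM : Nat.card ↥M ≠ 0 := Nat.card_pos.ne'
  rw [← Nat.factorization_prime_le_iff_dvd hnA hnB]
  intro r hr
  haveI : Fact r.Prime := ⟨hr⟩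
  by_cases hrA : r ∣ Nat.card ↥(M.subgroupOf A)
  · have hrM : r ∣ Nat.card ↥M := dvd_trans hrA (card_subgroupOf_dvd M A)
    have hrAbar := prime_dvd_image M A hA hfrat r hrA
    rw [hAB] at hrAbar
    have h3 := pow_dvd_card_inf hB M hM B r hrM hrAbar
    have h4 : (Nat.card ↥(M.subgroupOf A)).factorization r ≤ (Nat.card ↥M).factorization r :=
      (Nat.factorization_le_iff_dvd hnA hnM).mpr (card_subgroupOf_dvd M A) r
    exact h4.trans ((hr.pow_dvd_iff_le_factorization hnB).mp h3)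
  · rw [Nat.factorization_eq_zero_of_not_dvd hrA]; exact Nat.zero_le _

/-- Let G be a finite group in which any two abelian subgroups of the same order are conjugate. If M is a normal subgroup of G of odd order, then any two abelian subgroups of G/M of the same order are conjugate in G/M. -/
theorem result {G : Type*} [Group G] [Finite G] (hB : ∀ A B : Subgroup G, IsMulCommutative ↥A → IsMulCommutative ↥B → Nat.card ↥A = Nat.card ↥B → ∃ g : G, B = A.map (MulAut.conj g).toMonoidHom) (M : Subgroup G) [M.Normal] (hM : Odd (Nat.card ↥M)) :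
    ∀ A B : Subgroup (G ⧸ M), IsMulCommutative ↥A → IsMulCommutative ↥B → Nat.card ↥A = Nat.card ↥B →
      ∃ g : G ⧸ M, B = A.map (MulAut.conj g).toMonoidHom := by
  intro Abar Bbar hAbar hBbar hcard
  obtain ⟨A, hAc, hAmap, hAf⟩ := exists_lift hB M hM Abar hAbar
  obtain ⟨B, hBc, hBmap, hBf⟩ := exists_lift hB M hM Bbar hBbar
  have hAB : Nat.card ↥(A.map (QuotientGroup.mk' M)) = Nat.card ↥(B.map (QuotientGroup.mk' M)) := by
    rw [hAmap, hBmap]; exact hcard
  have h1 := card_ker_dvd hB M hM A B hAc hAf hAB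
  have h2 := card_ker_dvd hB M hM B A hBc hBf hAB.symm
  have hk : Nat.card ↥(M.subgroupOf A) = Nat.card ↥(M.subgroupOf B) := Nat.dvd_antisymm h1 h2
  have hAcard : Nat.card ↥A = Nat.card ↥B := by
    rw [card_eq_mul A M, card_eq_mul B M, hk, hAB]
  obtain ⟨g, hg⟩ := hB A B hAc hBc hAcard
  refine ⟨QuotientGroup.mk' M g, ?_⟩
  have hhom : (QuotientGroup.mk' M).comp (MulAut.conj g).toMonoidHom =
      (MulAut.conj ((QuotientGroup.mk' M) g)).toMonoidHom.comp (QuotientGroup.mk' M) := by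
    ext x; simp
  rw [← hBmap, ← hAmap, hg, Subgroup.map_map, Subgroup.map_map, hhom]

end Cfsg.Agent.S3911
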