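import Mathlib
import Cfsg.Statements.S3305

set_option autoImplicit false
open Cfsg

namespace Cfsg.Agent.S3305

/-- A `p`-subgroup of the preimage of a Sylow subgroup of a quotient lies in a Sylow subgroup
mapping onto it. -/
theorem exists_sylow_map_eq {G G' : Type*} [Group G] [Finite G] [Group G'] {p : ℕ}
    [Fact p.Prime] {f : G →* G'} (hf : Function.Surjective f)
    (P : Sylow p G') (E : Subgroup G) (hE : IsPGroup p E) (hEP : E ≤ (P : Subgroup G').comap f) :
    ∃ Q : Sylow p G, E ≤ Q ∧ (Q : Subgroup G).map f = P := by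
  have : Finite G' := Finite.of_surjective f hf
  have hE' : IsPGroup p (E.subgroupOf (P.comap f)) := hE.comap_subtype
  obtain ⟨Q₀, hQ₀⟩ := hE'.exists_le_sylow
  let Q : Subgroup G := Q₀.map (P.comap f).subtype
  have hPQ : Q.map f ≤ P := Subgroup.map_le_iff_le_comap.mpr (Subgroup.map_subtype_le Q₀.1)
  have hpQ : IsPGroup p Q := Q₀.2.map (P.comap f).subtype
  have hQ : ¬ p ∣ Q.index := by
    rw [Subgroup.index_map_subtype Q₀.1, P.index_comap_of_surjective hf]
    exact Nat.Prime.not_dvd_mul Fact.out Q₀.not_dvd_index P.not_dvd_index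
  refine ⟨hpQ.toSylow hQ, ?_, ?_⟩
  · intro x hx
    refine ⟨⟨x, hEP hx⟩, hQ₀ ?_, rfl⟩
    rw [Subgroup.mem_subgroupOf]
    exact hx
  · symm
    exact ((hpQ.map f).toSylow (fun h ↦ hQ (h.trans (Q.index_map_dvd hf)))).3 P.2 hPQ

/-- If any two distinct Sylow 2-subgroups of the finite group G intersect in a cyclic group, then the same holds in every quotient group G/H, H a normal subgroup of G. -/
theorem result {G : Type*} [Group G] [Finite G]
    (hC : ∀ S T : Sylow 2 G, S ≠ T → IsCyclic ↥((S : Subgroup G) ⊓ (T : Subgroup G))) (H : Subgroup G) [H.Normal] :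
    ∀ S T : Sylow 2 (G ⧸ H), S ≠ T → IsCyclic ↥((S : Subgroup (G ⧸ H)) ⊓ (T : Subgroup (G ⧸ H))) := by
  intro S T hST
  let f : G →* G ⧸ H := QuotientGroup.mk' H
  have hf : Function.Surjective f := QuotientGroup.mk'_surjective H
  set I : Subgroup (G ⧸ H) := (S : Subgroup (G ⧸ H)) ⊓ (T : Subgroup (G ⧸ H)) with hI
  let D : Subgroup G := I.comap f
  let f' : D →* I := f.subgroupComap I
  have hf' : Function.Surjective f' := MonoidHom.subgroupComap_surjective_of_surjective f I hf
  obtain ⟨D₀⟩ := (Sylow.nonempty : Nonempty (Sylow 2 D))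
  -- the image of `D₀` is everything
  have hIp : IsPGroup 2 I := S.2.to_le inf_le_left
  have htop : (⊤ : Subgroup I) = (D₀ : Subgroup D).map f' := by
    have h1 := (D₀.mapSurjective hf').3 (hIp.to_subgroup ⊤) le_top
    rw [h1]
    rfl
  let E : Subgroup G := (D₀ : Subgroup D).map D.subtype
  have hEp : IsPGroup 2 E := D₀.2.map D.subtype
  have hED : E ≤ D := Subgroup.map_subtype_le _
  have hEmap : E.map f = I := by
    apply le_antisymm
    · rw [Subgroup.map_le_iff_le_comap]
      exact hED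
    · intro x hx
      have h2 : (⟨x, hx⟩ : I) ∈ (⊤ : Subgroup I) := Subgroup.mem_top _
      rw [htop] at h2
      obtain ⟨d, hd, hdx⟩ := h2
      refine ⟨(d : G), ⟨d, hd, rfl⟩, ?_⟩
      exact congrArg Subtype.val hdx
  have hES : E ≤ (S : Subgroup (G ⧸ H)).comap f :=
    hED.trans (Subgroup.comap_mono inf_le_left)
  have hET : E ≤ (T : Subgroup (G ⧸ H)).comap f :=
    hED.trans (Subgroup.comap_mono inf_le_right)
  obtain ⟨QS, hEQS, hQS⟩ := exists_sylow_map_eq hf S E hEp hES
  obtain ⟨QT, hEQT, hQT⟩ := exists_sylow_map_eq hf T E hEp hET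
  have hne : QS ≠ QT := by
    intro h
    apply hST
    apply Sylow.ext
    rw [← hQS, ← hQT, h]
  have hcyc : IsCyclic ↥((QS : Subgroup G) ⊓ (QT : Subgroup G)) := hC QS QT hne
  have hEcyc : IsCyclic E := Subgroup.isCyclic_of_le (le_inf hEQS hEQT)
  have hmapcyc : IsCyclic (E.map f) :=
    isCyclic_of_surjective (f.subgroupMap E) (f.subgroupMap_surjective E)
  rw [hEmap] at hmapcyc
  exact hmapcyc

end Cfsg.Agent.S3305
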