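import Mathlib
import Cfsg.Statements.S3303
import Cfsg.Agent.Lib.Helper1.Fitting
import Cfsg.Agent.Lib.Helper1.Hall
import Cfsg.Agent.S3305

set_option autoImplicit false
open Cfsg

namespace Cfsg.Agent.S3303

open Cfsg.Agent.Lib.Helper1

/-- `O_{p'}(G / O_{p'}(G)) = 1`. -/
theorem pPrimeCore_quot_eq_bot {G : Type*} [Group G] [Finite G] (p : ℕ) :
    pPrimeCore p (G ⧸ pPrimeCore p G) = ⊥ := by
  have h1 : (pPrimeCore p (G ⧸ pPrimeCore p G)).comap (QuotientGroup.mk' (pPrimeCore p G)) ≤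
      pPrimeCore p G := by
    apply le_pPrimeCore
    · exact Subgroup.Normal.comap inferInstance _
    · rw [card_comap_mk]
      exact Nat.Coprime.mul_left (pPrimeCore_coprime p) (pPrimeCore_coprime p)
  have h2 := Subgroup.map_mono (f := QuotientGroup.mk' (pPrimeCore p G)) h1
  rw [Subgroup.map_comap_eq_self_of_surjective (QuotientGroup.mk'_surjective _)] at h2
  rw [eq_bot_iff]
  refine h2.trans ?_
  intro x hx
  obtain ⟨y, hy, rfl⟩ := Subgroup.mem_map.mp hx
  rw [Subgroup.mem_bot]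
  exact (QuotientGroup.eq_one_iff y).mpr hy

/-- The automorphism group of a cyclic `2`-group is a `2`-group. -/
theorem isPGroup_mulAut_of_cyclic {Q : Type*} [Group Q] [Finite Q] [IsCyclic Q]
    (hQ : IsPGroup 2 Q) : IsPGroup 2 (MulAut Q) := by
  obtain ⟨k, hk⟩ := (IsPGroup.iff_card).1 hQ
  have hc := IsCyclic.card_mulAut Q
  rw [hk] at hc
  rcases Nat.eq_zero_or_pos k with h0 | h0
  · rw [h0, pow_zero, Nat.totient_one] at hc
    exact IsPGroup.of_card (n := 0) (by rw [hc, pow_zero])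
  · rw [Nat.totient_prime_pow Nat.prime_two h0] at hc
    exact IsPGroup.of_card (n := k - 1) (by rw [hc]; simp)

/-- A finite group whose `2`-core is cyclic and self-centralizing is a `2`-group. -/
theorem isPGroup_of_cyclic_core {X : Type*} [Group X] [Finite X]
    (hcyc : IsCyclic (pCore 2 X))
    (hcent : Subgroup.centralizer (pCore 2 X : Set X) ≤ pCore 2 X) : IsPGroup 2 X := by
  have hQp : IsPGroup 2 (pCore 2 X) := pCore_isPGroup 2
  have hA : IsPGroup 2 (MulAut (pCore 2 X)) := isPGroup_mulAut_of_cyclic hQp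
  intro g
  obtain ⟨a, ha⟩ := hA (MulAut.conjNormal g)
  rw [← map_pow] at ha
  have hmem : g ^ 2 ^ a ∈ pCore 2 X := by
    apply hcent
    rw [Subgroup.mem_centralizer_iff]
    intro n hn
    have h1 := congrArg (fun φ : MulAut (pCore 2 X) => ((φ ⟨n, hn⟩ : pCore 2 X) : X)) ha
    simp only [MulAut.conjNormal_apply, MulAut.one_apply] at h1
    -- h1 : g ^ 2 ^ a * n * (g ^ 2 ^ a)⁻¹ = n
    have h2 : g ^ 2 ^ a * n = n * g ^ 2 ^ a := mul_inv_eq_iff_eq_mul.1 h1
    exact h2.symm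
  obtain ⟨b, hb⟩ := hQp ⟨g ^ 2 ^ a, hmem⟩
  have hb' : (g ^ 2 ^ a) ^ 2 ^ b = 1 := by
    have := congrArg Subtype.val hb
    simpa using this
  refine ⟨a + b, ?_⟩
  rw [pow_add, pow_mul]
  exact hb'

/-- Let G be a finite solvable group in which the intersection of any two distinct Sylow 2-subgroups is cyclic. Then G/O(G) has a normal Sylow 2-subgroup, where O(G) is the largest normal subgroup of odd order. -/
theorem result {G : Type*} [Group G] [Finite G] (hs : Group.IsSolvable G)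
    (hC : ∀ S T : Sylow 2 G, S ≠ T → IsCyclic ↥((S : Subgroup G) ⊓ (T : Subgroup G))) :
    ∃ P : Sylow 2 (G ⧸ Cfsg.oddCore G), (P : Subgroup (G ⧸ Cfsg.oddCore G)).Normal := by
  have hC' := Cfsg.Agent.S3305.result hC (Cfsg.oddCore G)
  by_cases hsub : Subsingleton (Sylow 2 (G ⧸ Cfsg.oddCore G))
  · obtain ⟨P⟩ := (Sylow.nonempty : Nonempty (Sylow 2 (G ⧸ Cfsg.oddCore G)))
    exact ⟨P, Sylow.normal_of_subsingleton P⟩
  · rw [not_subsingleton_iff_nontrivial] at hsub
    obtain ⟨S, T, hST⟩ := hsub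
    have hcycI := hC' S T hST
    have hle : pCore 2 (G ⧸ Cfsg.oddCore G) ≤
        (S : Subgroup (G ⧸ Cfsg.oddCore G)) ⊓ (T : Subgroup (G ⧸ Cfsg.oddCore G)) :=
      le_inf (pCore_le_sylow S) (pCore_le_sylow T)
    have hcyc : IsCyclic (pCore 2 (G ⧸ Cfsg.oddCore G)) := Subgroup.isCyclic_of_le hle
    have hbot : pPrimeCore 2 (G ⧸ Cfsg.oddCore G) = ⊥ := pPrimeCore_quot_eq_bot 2
    have hcent := centralizer_pCore_le (G := G ⧸ Cfsg.oddCore G) 2 hbot
    have hp : IsPGroup 2 (G ⧸ Cfsg.oddCore G) := isPGroup_of_cyclic_core hcyc hcent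
    exfalso
    apply hST
    have hS : (S : Subgroup (G ⧸ Cfsg.oddCore G)) = ⊤ :=
      (S.3 (hp.to_subgroup ⊤) le_top).symm
    have hT : (T : Subgroup (G ⧸ Cfsg.oddCore G)) = ⊤ :=
      (T.3 (hp.to_subgroup ⊤) le_top).symm
    exact Sylow.ext (hS.trans hT.symm)

end Cfsg.Agent.S3303
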