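import Cfsg.Statements.S2800
import Cfsg.Agent.Lib.Helper18.MaxAbelian
import Cfsg.Agent.Lib.Helper18.TwoFunctor
import Cfsg.Agent.Lib.Helper18.S4Section
import Cfsg.Agent.Lib.Helper18.OffenderTwo
import Cfsg.Agent.Lib.Helper18.ProductFormula
import Cfsg.Agent.H5.Replacement
import Cfsg.Agent.Lib.Helper1.ThompsonPQ
import Cfsg.Agent.Lib.Helper1.Hall
import Cfsg.Agent.Lib.Helper27.Involves
import Cfsg.Agent.Lib.Helper10.Basic

set_option autoImplicit false
open Cfsg

namespace Cfsg.Agent.S2800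

open Subgroup Cfsg.Agent.Lib.Helper18 Cfsg.Agent.Lib.Helper1 Cfsg.Agent.Lib.Helper1.ThompsonNPC
open scoped commutatorElement

universe u

section Final

variable {G : Type u} [Group G] [Finite G] {p : ℕ} [Fact p.Prime]

/-- Thompson replacement in the final configuration: an abelian subgroup of largest order of `S`
outside `O_p(G)` yields an abelian subgroup `B₁ ≤ S` outside `O_p(G)` acting quadratically on
`V = Ω₁(Z(O_p(G)))` and maximizing `|Y| |C_V(Y)|` over its subgroups. -/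
theorem exists_offender (S : Sylow p G)
    (hCV : centralizer ((omegaCenter p (pCore p G) : Subgroup G) : Set G) = pCore p G)
    (B : Subgroup G) (hB : IsMaxAbIn (S : Subgroup G) B) (hBP : ¬ B ≤ pCore p G) :
    ∃ B₁ : Subgroup G, B₁ ≤ S ∧ ¬ B₁ ≤ pCore p G ∧ (∀ x ∈ B₁, ∀ y ∈ B₁, x * y = y * x) ∧
      (∀ a ∈ B₁, ∀ b ∈ B₁, ∀ v ∈ omegaCenter p (pCore p G), a * ⁅b, v⁆ = ⁅b, v⁆ * a) ∧
      (∀ Y : Subgroup G, Y ≤ B₁ →
        H5.mm (omegaCenter p (pCore p G)) Y ≤ H5.mm (omegaCenter p (pCore p G)) B₁) := by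
  set P := pCore p G with hP
  have hPn : P.Normal := Cfsg.Agent.Lib.Helper1.pCore_normal p
  have hPS : P ≤ S := pCore_le_sylow S
  have hPp : IsPGroup p P := pCore_isPGroup p
  set V := omegaCenter p P with hV
  have hVn : V.Normal := omegaCenter_normal P
  have hVP : V ≤ P := fun x hx => hx.1
  have hVS : V ≤ S := hVP.trans hPS
  have hVab : ∀ a ∈ V, ∀ b ∈ V, a * b = b * a := fun a ha b hb =>
    Subgroup.mem_centralizer_iff.mp hb.2.1 a ha.1
  have hVc : IsMulCommutative V := (isMulCommutative_iff_forall V).mpr hVab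
  have hAV : B ≤ normalizer (V : Set G) := by
    rw [Subgroup.normalizer_eq_top_iff.mpr hVn]; exact le_top
  have hBcent : B ≤ centralizer (B : Set G) := by
    intro b hb
    rw [Subgroup.mem_centralizer_iff]
    intro c hc
    exact hB.2.1 c hc b hb
  have hab : ⁅B, B⁆ ≤ centralizer (V : Set G) := by
    rw [Subgroup.commutator_eq_bot_iff_le_centralizer.mpr hBcent]; exact bot_le
  have hmemfix : ∀ (X : Subgroup G) (x : G),
      x ∈ H5.fix V X ↔ x ∈ V ∧ x ∈ centralizer (X : Set G) := fun X x => Subgroup.mem_inf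
  have hmax : ∀ Y : Subgroup G, Y ≤ B → H5.mm V Y ≤ H5.mm V B := by
    intro Y hY
    have hcomm : ∀ a ∈ Y, ∀ b ∈ H5.fix V Y, a * b = b * a := by
      intro a ha b hb
      exact Subgroup.mem_centralizer_iff.mp ((hmemfix Y b).mp hb).2 a ha
    have hEab : ∀ x ∈ Y ⊔ H5.fix V Y, ∀ y ∈ Y ⊔ H5.fix V Y, x * y = y * x := by
      intro x hx y hy
      obtain ⟨a, ha, b, hb, rfl⟩ :=
        (Cfsg.Agent.Lib.Helper10.mem_sup_of_commute Y _ hcomm).mp hx
      obtain ⟨a', ha', b', hb', rfl⟩ :=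
        (Cfsg.Agent.Lib.Helper10.mem_sup_of_commute Y _ hcomm).mp hy
      have h1 : a * a' = a' * a := hB.2.1 a (hY ha) a' (hY ha')
      have h2 : b * b' = b' * b := hVab b ((hmemfix Y b).mp hb).1 b' ((hmemfix Y b').mp hb').1
      have h3 : a * b' = b' * a := hcomm a ha b' hb'
      have h4 : a' * b = b * a' := hcomm a' ha' b hb
      calc a * b * (a' * b') = a * (b * a') * b' := by group
        _ = a * (a' * b) * b' := by rw [h4]
        _ = (a * a') * (b * b') := by group
        _ = (a' * a) * (b' * b) := by rw [h1, h2]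
        _ = a' * (a * b') * b := by group
        _ = a' * (b' * a) * b := by rw [h3]
        _ = a' * b' * (a * b) := by group
    have hES : Y ⊔ H5.fix V Y ≤ S := sup_le (hY.trans hB.1) ((H5.fix_le V Y).trans hVS)
    have h1 := hB.2.2 _ hES hEab
    have h2 := card_mul_card_le_card_sup_mul_card_inf Y (H5.fix V Y)
    have h3 : Y ⊓ H5.fix V Y ≤ H5.fix V B := by
      intro x hx
      obtain ⟨hx1, hx2⟩ := Subgroup.mem_inf.mp hx
      rw [hmemfix] at hx2 ⊢
      refine ⟨hx2.1, ?_⟩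
      rw [Subgroup.mem_centralizer_iff]
      intro b hb
      exact hB.2.1 b hb x (hY hx1)
    have h4 := Subgroup.card_le_of_le h3
    show Nat.card Y * Nat.card (H5.fix V Y) ≤ Nat.card B * Nat.card (H5.fix V B)
    exact h2.trans (Nat.mul_le_mul h1 h4)
  obtain ⟨hmm, hfix⟩ := H5.replacement V B hAV hab hmax V le_rfl
  obtain ⟨R, hR⟩ : ∃ R : Subgroup G, R = ⁅V, B⁆ := ⟨_, rfl⟩
  rw [← hR] at hmm hfix
  obtain ⟨B₁, hB₁⟩ : ∃ B₁ : Subgroup G, B₁ = B ⊓ centralizer (R : Set G) := ⟨_, rfl⟩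
  rw [← hB₁] at hmm hfix
  have hB₁B : B₁ ≤ B := by rw [hB₁]; exact inf_le_left
  have hRV : R ≤ V := by rw [hR]; exact Subgroup.commutator_le_left V B
  refine ⟨B₁, hB₁B.trans hB.1, ?_, fun x hx y hy => hB.2.1 x (hB₁B hx) y (hB₁B hy), ?_, ?_⟩
  · intro hB₁P
    apply hBP
    have h1 : H5.fix V B₁ = V := by
      apply le_antisymm (H5.fix_le V B₁)
      intro v hv
      rw [hmemfix]
      refine ⟨hv, ?_⟩
      rw [Subgroup.mem_centralizer_iff]
      intro b hb
      have hbC : b ∈ centralizer (V : Set G) := by rw [hCV]; exact hB₁P hb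
      exact (Subgroup.mem_centralizer_iff.mp hbC v hv).symm
    rw [h1] at hfix
    have hcomm' : ∀ a ∈ R, ∀ b ∈ H5.fix V B, a * b = b * a := fun a ha b hb =>
      hVab a (hRV ha) b ((hmemfix B b).mp hb).1
    have hRle' : ⁅V, B⁆ ≤ ⁅R, B⁆ := by
      rw [Subgroup.commutator_le]
      intro v hv b hb
      have hv' : v ∈ R ⊔ H5.fix V B := by rw [← hfix]; exact hv
      obtain ⟨c, hc, f, hf, rfl⟩ :=
        (Cfsg.Agent.Lib.Helper10.mem_sup_of_commute R _ hcomm').mp hv'
      have hfb : f * b = b * f :=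
        (Subgroup.mem_centralizer_iff.mp ((hmemfix B f).mp hf).2 b hb).symm
      have e : ⁅c * f, b⁆ = ⁅c, b⁆ := by
        rw [commutatorElement_def, commutatorElement_def]
        calc c * f * b * (c * f)⁻¹ * b⁻¹ = c * (f * b) * f⁻¹ * c⁻¹ * b⁻¹ := by group
          _ = c * (b * f) * f⁻¹ * c⁻¹ * b⁻¹ := by rw [hfb]
          _ = c * b * c⁻¹ * b⁻¹ := by group
      rw [e]
      exact Subgroup.commutator_mem_commutator hc hb
    have hBR : B ≤ normalizer (R : Set G) := by
      intro b hb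
      rw [hR]
      exact mem_normalizer_commutator_of_mem_centralizer (hAV hb) (hBcent hb)
    have hRB : ⁅R, B⁆ = R :=
      le_antisymm (Subgroup.le_normalizer_iff_commutator_le_left.mp hBR) (hR.le.trans hRle')
    have hBp : IsPGroup p B := S.isPGroup'.to_le hB.1
    have hRp : IsPGroup p R := hPp.to_le (hRV.trans hVP)
    have hRbot : R = ⊥ := eq_bot_of_commutator_eq_of_isPGroup hBp hRp hBR hRB
    rw [hR, Subgroup.commutator_eq_bot_iff_le_centralizer] at hRbot
    intro b hb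
    rw [← hCV, Subgroup.mem_centralizer_iff]
    intro v hv
    exact (Subgroup.mem_centralizer_iff.mp (hRbot hv) b hb).symm
  · intro a ha b hb v hv
    have h1 : ⁅b, v⁆ ∈ R := by
      rw [hR, Subgroup.commutator_comm V B]
      exact Subgroup.commutator_mem_commutator (hB₁B hb) hv
    have h2 : ⁅b, v⁆ ∈ H5.fix V B₁ := by
      rw [hfix]; exact (le_sup_left : R ≤ R ⊔ H5.fix V B) h1
    exact Subgroup.mem_centralizer_iff.mp ((hmemfix B₁ _).mp h2).2 a ha
  · intro Y hY
    exact (hmax Y (hY.trans hB₁B)).trans hmm.ge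

/-- The final configuration for `p = 2`: an offender produces a section `S₄`. -/
theorem final_two (hp2 : p = 2) (S : Sylow p G) (hSco : IsCoatom (S : Subgroup G))
    (hQ : HasNormalPComplement p (G ⧸ pCore p G))
    (hCV : centralizer ((omegaCenter p (pCore p G) : Subgroup G) : Set G) = pCore p G)
    (B₁ : Subgroup G) (hB₁S : B₁ ≤ S) (hB₁P : ¬ B₁ ≤ pCore p G)
    (hB₁ab : ∀ x ∈ B₁, ∀ y ∈ B₁, x * y = y * x)
    (hquad : ∀ a ∈ B₁, ∀ b ∈ B₁, ∀ v ∈ omegaCenter p (pCore p G), a * ⁅b, v⁆ = ⁅b, v⁆ * a)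
    (hoff : ∀ Y : Subgroup G, Y ≤ B₁ →
      H5.mm (omegaCenter p (pCore p G)) Y ≤ H5.mm (omegaCenter p (pCore p G)) B₁) :
    Involves (Equiv.Perm (Fin 4)) G := by
  have hp : p.Prime := Fact.out
  set P := pCore p G with hP
  have hPn : P.Normal := Cfsg.Agent.Lib.Helper1.pCore_normal p
  have hPS : P ≤ S := pCore_le_sylow S
  have hPp : IsPGroup p P := pCore_isPGroup p
  set V := omegaCenter p P with hV
  have hVn : V.Normal := omegaCenter_normal P
  set π := QuotientGroup.mk' P with hπ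
  have hπs : Function.Surjective π := QuotientGroup.mk'_surjective _
  obtain ⟨L, hLn, hLcop, hLidx⟩ := Cfsg.Agent.Lib.Helper13.hasNormalPComplement_iff_exists.mp hQ
  set T : Sylow p (G ⧸ P) := S.mapSurjective hπs with hT
  have hTcoe : (T : Subgroup (G ⧸ P)) = (S : Subgroup G).map π := Sylow.coe_mapSurjective _ S
  have hcomap : (T : Subgroup (G ⧸ P)).comap π = S := by
    rw [hTcoe, Subgroup.comap_map_eq, hπ, QuotientGroup.ker_mk', sup_of_le_left hPS]
  have hTco : IsCoatom (T : Subgroup (G ⧸ P)) := by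
    constructor
    · intro h
      apply hSco.1
      rw [← hcomap, h, Subgroup.comap_top]
    · intro M hM
      have h1 : (S : Subgroup G) < M.comap π := by
        rw [← hcomap]
        exact (Subgroup.comap_lt_comap_of_surjective hπs).mpr hM
      have h2 := hSco.2 _ h1
      rw [← Subgroup.map_comap_eq_self_of_surjective hπs M, h2, Subgroup.map_top_of_surjective _ hπs]
  have hO : pCore p (G ⧸ P) = ⊥ := pCore_quotient_pCore_eq_bot
  obtain ⟨Z, hZab, hZcop, hTZ, htop⟩ := exists_abelian_of_coatom T hTco L hLcop hLidx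
  -- the action on `V`
  let _ : CommGroup V :=
    { (inferInstance : Group V) with
      mul_comm := fun x y => Subtype.ext (Subgroup.mem_centralizer_iff.mp y.2.2.1 x x.2.1) }
  let φ₀ : G →* MulAut V := MulAut.conjNormal
  have hker : ∀ g : G, φ₀ g = 1 ↔ g ∈ P := by
    intro g
    rw [← hCV, Subgroup.mem_centralizer_iff]
    constructor
    · intro h v hv
      have h1 : φ₀ g ⟨v, hv⟩ = ⟨v, hv⟩ := by rw [h]; rfl
      have h2 : g * v * g⁻¹ = v := by
        have := congrArg Subtype.val h1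
        rwa [MulAut.conjNormal_apply] at this
      calc v * g = (g * v * g⁻¹) * g := by rw [h2]
        _ = g * v := by group
    · intro h
      apply MulEquiv.ext
      intro v
      apply Subtype.ext
      rw [MulAut.conjNormal_apply]
      have := h v v.2
      rw [← this]
      simp
  let φ : (G ⧸ P) →* MulAut V := QuotientGroup.lift P φ₀ (fun g hg => (hker g).mpr hg)
  have hφ : ∀ g : G, φ (π g) = φ₀ g := fun g => rfl
  have hφinj : ∀ x : G ⧸ P, φ x = 1 → x = 1 := by
    intro x hx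
    obtain ⟨g, rfl⟩ := hπs x
    rw [hφ] at hx
    exact (QuotientGroup.eq_one_iff g).mpr ((hker g).mp hx)
  have hφval : ∀ (g : G) (v : V), ((φ (π g) v : V) : G) = g * (v : G) * g⁻¹ := by
    intro g v
    rw [hφ]
    exact MulAut.conjNormal_apply g v
  have hV2 : ∀ m : V, m ^ 2 = 1 := by
    intro m
    apply Subtype.ext
    rw [Subgroup.coe_pow, ← hp2]
    exact m.2.2.2
  have hZodd : (Nat.card Z).Coprime 2 := by rw [← hp2]; exact hZcop
  -- the image of the offender
  obtain ⟨D, hD⟩ : ∃ D : Subgroup (G ⧸ P), D = B₁.map π := ⟨_, rfl⟩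
  have hDne : D ≠ ⊥ := by
    intro hbot
    apply hB₁P
    intro b hb
    have h1 : π b ∈ D := by rw [hD]; exact Subgroup.mem_map_of_mem π hb
    rw [hbot, Subgroup.mem_bot] at h1
    exact (QuotientGroup.eq_one_iff b).mp h1
  have hDab : ∀ a ∈ D, ∀ b ∈ D, a * b = b * a := by
    rw [hD]
    rintro _ ⟨a, ha, rfl⟩ _ ⟨b, hb, rfl⟩
    rw [← map_mul, ← map_mul, hB₁ab a ha b hb]
  have hquad' : ∀ a ∈ D, ∀ b ∈ D, ∀ v : V, φ a (φ b v / v) = φ b v / v := by
    rw [hD]
    rintro _ ⟨a, ha, rfl⟩ _ ⟨b, hb, rfl⟩ v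
    apply Subtype.ext
    rw [hφval, Subgroup.coe_div, hφval]
    have h1 := hquad a ha b hb (v : G) v.2
    rw [commutatorElement_def] at h1
    rw [div_eq_mul_inv, h1, mul_inv_cancel_right]
  have hDT : D ≤ T := by rw [hD, hTcoe]; exact Subgroup.map_mono hB₁S
  have hDZ : ∀ d ∈ D, ∀ z ∈ Z, d * z * d⁻¹ ∈ Z := fun d hd z hz =>
    (Subgroup.mem_normalizer_iff.mp (hTZ (hDT hd)) z).mp hz
  have hfaith : ∀ d ∈ D, (∀ z ∈ Z, d * z = z * d) → d = 1 := fun d hd hc =>
    eq_one_of_centralizes T Z hTZ htop hO d (hDT hd) hc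
  have hfixeq : ∀ Y : Subgroup G,
      OffenderTwo.fixV φ (Y.map π) = (H5.fix V Y).subgroupOf V := by
    intro Y
    ext v
    rw [OffenderTwo.mem_fixV, Subgroup.mem_subgroupOf]
    constructor
    · intro h
      show (v : G) ∈ V ⊓ centralizer (Y : Set G)
      refine Subgroup.mem_inf.mpr ⟨v.2, ?_⟩
      rw [Subgroup.mem_centralizer_iff]
      intro y hy
      have h2 := h (π y) (Subgroup.mem_map_of_mem π hy)
      have h3 : y * (v : G) * y⁻¹ = v := by rw [← hφval, h2]
      calc y * (v : G) = (y * v * y⁻¹) * y := by group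
        _ = v * y := by rw [h3]
    · rintro h _ ⟨y, hy, rfl⟩
      have h' : (v : G) ∈ V ⊓ centralizer (Y : Set G) := h
      apply Subtype.ext
      rw [hφval]
      have h2 := Subgroup.mem_centralizer_iff.mp (Subgroup.mem_inf.mp h').2 y hy
      rw [h2, mul_inv_cancel_right]
  have hfixcard : ∀ Y : Subgroup G,
      Nat.card (OffenderTwo.fixV φ (Y.map π)) = Nat.card (H5.fix V Y) := by
    intro Y
    rw [hfixeq]
    exact Nat.card_congr (Subgroup.subgroupOfEquivOfLe (H5.fix_le V Y)).toEquiv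
  have hoff' : ∀ D₀ : Subgroup (G ⧸ P), D₀ ≤ D → 2 * Nat.card D₀ = Nat.card D →
      Nat.card (OffenderTwo.fixV φ D₀) ≤ 2 * Nat.card (OffenderTwo.fixV φ D) := by
    intro D₀ hD₀ hcard
    obtain ⟨Y, hY⟩ : ∃ Y : Subgroup G, Y = B₁ ⊓ D₀.comap π := ⟨_, rfl⟩
    have hYB : Y ≤ B₁ := by rw [hY]; exact inf_le_left
    have hYmap : Y.map π = D₀ := by
      apply le_antisymm
      · rw [hY]
        rintro _ ⟨y, hy, rfl⟩
        exact (Subgroup.mem_inf.mp hy).2
      · intro d hd
        have hdD := hD₀ hd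
        rw [hD] at hdD
        obtain ⟨b, hb, rfl⟩ := hdD
        refine ⟨b, ?_, rfl⟩
        rw [hY]
        exact Subgroup.mem_inf.mpr ⟨hb, hd⟩
    have hk : Y ⊓ π.ker = B₁ ⊓ π.ker := by
      apply le_antisymm (inf_le_inf_right _ hYB)
      intro x hx
      obtain ⟨hx1, hx2⟩ := Subgroup.mem_inf.mp hx
      refine Subgroup.mem_inf.mpr ⟨?_, hx2⟩
      rw [hY]
      refine Subgroup.mem_inf.mpr ⟨hx1, ?_⟩
      show π x ∈ D₀
      rw [MonoidHom.mem_ker.mp hx2]; exact D₀.one_mem
    have h1 := card_map_mul_card_inf_ker π Y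
    have h2 := card_map_mul_card_inf_ker π B₁
    have h3 : Nat.card Y * Nat.card (H5.fix V Y) ≤ Nat.card B₁ * Nat.card (H5.fix V B₁) :=
      hoff Y hYB
    rw [← hfixcard, ← hfixcard, hYmap, ← hD] at h3
    rw [hYmap, hk] at h1
    rw [← hD] at h2
    rw [← h1, ← h2, ← hcard] at h3
    have hpos : 0 < Nat.card D₀ * Nat.card ↥(B₁ ⊓ π.ker) := Nat.mul_pos Nat.card_pos Nat.card_pos
    have h4 : Nat.card D₀ * Nat.card ↥(B₁ ⊓ π.ker) * Nat.card (OffenderTwo.fixV φ D₀) ≤
        Nat.card D₀ * Nat.card ↥(B₁ ⊓ π.ker) * (2 * Nat.card (OffenderTwo.fixV φ D)) := by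
      calc Nat.card D₀ * Nat.card ↥(B₁ ⊓ π.ker) * Nat.card (OffenderTwo.fixV φ D₀)
          ≤ 2 * Nat.card D₀ * Nat.card ↥(B₁ ⊓ π.ker) * Nat.card (OffenderTwo.fixV φ D) := h3
        _ = _ := by ring
    exact Nat.le_of_mul_le_mul_left h4 hpos
  obtain ⟨dbar, hdD, zbar, hzZ, W', hW'4, hz3, hinv, hdW', hzW', hfpf'⟩ :=
    OffenderTwo.offender_two φ hφinj hV2 D Z hDne hDab hquad' hZab hZodd hDZ hfaith hoff'
  rw [hD] at hdD
  obtain ⟨d, hdB, rfl⟩ := hdD
  obtain ⟨z₀, rfl⟩ := hπs zbar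
  obtain ⟨W, hW⟩ : ∃ W : Subgroup G, W = W'.map V.subtype := ⟨_, rfl⟩
  have hW4 : Nat.card W = 4 := by
    rw [hW, Subgroup.card_map_of_injective V.subtype_injective]; exact hW'4
  have hWV : W ≤ V := by rw [hW]; exact Subgroup.map_subtype_le W'
  have hPW : P ≤ centralizer (W : Set G) := by
    rw [← hCV]; exact Subgroup.centralizer_le hWV
  have hconjW : ∀ g : G, (∀ w ∈ W', φ (π g) w ∈ W') → ∀ w ∈ W, g * w * g⁻¹ ∈ W := by
    intro g hg w hw
    rw [hW] at hw ⊢
    obtain ⟨w', hw', rfl⟩ := hw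
    exact ⟨φ (π g) w', hg w' hw', hφval g w'⟩
  have hfpf : ∀ w ∈ W, z₀ * w * z₀⁻¹ = w → w = 1 := by
    intro w hw hfix
    rw [hW] at hw
    obtain ⟨w', hw', rfl⟩ := hw
    have h1 : φ (π z₀) w' = w' := Subtype.ext ((hφval z₀ w').trans hfix)
    rw [hfpf' w' hw' h1]
    exact map_one _
  have hP2 : IsPGroup 2 P := by rw [← hp2]; exact hPp
  exact involves_s4_of_data P hP2 W hPW d z₀ hW4 hz3 hinv (hconjW d hdW') (hconjW z₀ hzW') hfpf

/-- **The final configuration** of the abelian-version Thompson normal `p`-complement theorem. -/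
theorem final_configA (h : p ≠ 2 ∨ ¬ Involves (Equiv.Perm (Fin 4)) G) (S : Sylow p G)
    (hSco : IsCoatom (S : Subgroup G))
    (hC : centralizer ((pCore p G : Subgroup G) : Set G) ≤ pCore p G)
    (hQ : HasNormalPComplement p (G ⧸ pCore p G))
    (hNJ : normalizer (thompsonSubgroupAOf (S : Subgroup G) : Set G) = S)
    (hCZ : centralizer (((S : Subgroup G) ⊓ centralizer (S : Set G) : Subgroup G) : Set G) = S) :
    False := by
  have hPn : (pCore p G).Normal := Cfsg.Agent.Lib.Helper1.pCore_normal p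
  have hPS : pCore p G ≤ S := pCore_le_sylow S
  have hCV := centralizer_omegaCenter_eq S hC hCZ
  by_cases hJ : ∀ B, IsMaxAbIn (S : Subgroup G) B → B ≤ pCore p G
  · have hn := thompsonSubgroupAOf_normal_of_le (S : Subgroup G) (pCore p G) hPS hJ
    rw [Subgroup.normalizer_eq_top_iff.mpr hn] at hNJ
    exact hSco.1 hNJ.symm
  · push Not at hJ
    obtain ⟨B, hB, hBP⟩ := hJ
    obtain ⟨B₁, hB₁S, hB₁P, hB₁ab, hquad, hoff⟩ := exists_offender S hCV B hB hBP
    by_cases hp2 : p = 2
    · have h4 := final_two hp2 S hSco hQ hCV B₁ hB₁S hB₁P hB₁ab hquad hoff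
      rcases h with h | h
      · exact h hp2
      · exact h h4
    · obtain ⟨a, haB, haP⟩ := SetLike.not_le_iff_exists.mp hB₁P
      apply haP
      apply quadratic_mem_pCore hp2 S hSco hQ hCV a (hB₁S haB)
      intro v hv
      rw [commutatorElement_eq_one_iff_commute]
      have h2 : Commute a ⁅a, v⁆ := hquad a haB a haB v hv
      have h3 : Commute a ⁅v, a⁆ := by rw [← commutatorElement_inv]; exact h2.inv_right
      exact h3.symm

end Final

/-- Let S be a Sylow p-subgroup of the finite group G and J(S) the subgroup generated by the abelian subgroups of S of largest order. Suppose p is odd, or the symmetric group of degree 4 is not involved in G. If both C_G(Z(S)) and N_G(J(S)) have normal p-complements, then G has a normal p-complement. -/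
theorem result {G : Type*} [Group G] [Finite G] {p : ℕ} [Fact p.Prime] (S : Sylow p G) (h : p ≠ 2 ∨ ¬ Cfsg.Involves (Equiv.Perm (Fin 4)) G) (hC : Cfsg.HasNormalPComplement p ↥(Subgroup.centralizer (((S : Subgroup G) ⊓ Subgroup.centralizer ((S : Subgroup G) : Set G) : Subgroup G) : Set G))) (hN : Cfsg.HasNormalPComplement p ↥(Subgroup.normalizer ((Cfsg.thompsonSubgroupAOf (S : Subgroup G)) : Set G))) : Cfsg.HasNormalPComplement p G := by
  have hW₁ := isCharPFunctor_thompsonA.{_} p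
  have hW₂ := isCharPFunctor_center (p := p)
  refine main2P (fun (X : Type _) [Group X] => p ≠ 2 ∨ ¬ Cfsg.Involves (Equiv.Perm (Fin 4)) X)
    ?_ ?_ hW₁ hW₂ ?_ ?_ _ G rfl h ?_
  · intro X _ M hX
    rcases hX with hX | hX
    · exact Or.inl hX
    · exact Or.inr (fun hM => hX (Cfsg.Agent.Lib.Helper27.involves_of_injective M.subtype
        M.subtype_injective hM))
  · intro X _ N _ hX
    rcases hX with hX | hX
    · exact Or.inl hX
    · refine Or.inr (fun hM => hX ?_)
      exact Cfsg.Agent.Lib.Helper27.involves_trans hM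
        (Cfsg.Agent.Lib.Helper27.involves_of_surjective (QuotientGroup.mk' N)
          (QuotientGroup.mk'_surjective N))
  · intro X _ T
    rw [inducedFunctor_center]
    intro t ht
    rw [Subgroup.mem_centralizer_iff]
    intro z hz
    exact (Subgroup.mem_centralizer_iff.mp hz.2 t ht).symm
  · intro X _ _ S' hPrp hco hC' hQ hNJ hCZ
    rw [inducedFunctor_center] at hCZ
    rw [inducedFunctor_thompsonA] at hNJ
    exact final_configA hPrp S' hco hC' hQ hNJ hCZ
  · intro S'
    constructor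
    · apply Cfsg.Agent.Lib.Helper13.hasNormalPComplement_normalizer_inducedFunctor_sylow hW₁ S S'
      rw [inducedFunctor_thompsonA]
      exact hN
    · apply hasNPC_centralizer_inducedFunctor_sylow hW₂ S S'
      rw [inducedFunctor_center]
      exact hC

end Cfsg.Agent.S2800
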