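import Cfsg.Statements.S2905
import Cfsg.Agent.Lib.Helper17.PResidual
import Cfsg.Agent.Lib.Helper17.Conj
import Cfsg.Agent.Lib.Helper16.SylowInf
import Cfsg.Agent.Lib.Helper16.PCore
import Cfsg.Agent.Lib.Helper20.Subnormal
import Cfsg.Agent.Lib.Helper1.CoprimeSylow
import Cfsg.Agent.Lib.Helper1.Hall
import Cfsg.Agent.Lib.Helper9.Signalizer

set_option autoImplicit false
open Cfsg

namespace Cfsg.Agent.S2905

open Cfsg.Agent.Lib.Helper17 Cfsg.Agent.Lib.Helper16
open scoped Pointwise

section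

variable {P : Type*} [Group P] [Finite P] {p : ℕ} [Fact p.Prime]

/-- Proper overgroups of `S` lie in `M`. -/
theorem le_of_sylow_le (hP : Cfsg.IsPMinimal p P) (S : Sylow p P) (M : Subgroup P)
    (hM : IsCoatom M) (hSM : (S : Subgroup P) ≤ M) (X : Subgroup P) (hSX : (S : Subgroup P) ≤ X)
    (hX : X ≠ ⊤) : X ≤ M := by
  rcases IsCoatomic.eq_top_or_exists_le_coatom X with h | ⟨M', hM', hXM'⟩
  · exact absurd h hX
  · obtain ⟨_, M₀, _, huniq⟩ := hP S
    have h1 := huniq M ⟨hM, hSM⟩
    have h2 := huniq M' ⟨hM', hSX.trans hXM'⟩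
    rw [h1, ← h2]; exact hXM'

/-- If `N ⊔ S = ⊤` with `N` normal, `O^p(P) ≤ N`. -/
theorem pResidual_le_of_sup_sylow_eq_top (S : Sylow p P) (N : Subgroup P) [hN : N.Normal]
    (h : N ⊔ (S : Subgroup P) = ⊤) : Cfsg.pResidual p P ≤ N := by
  apply pResidual_le_of_quotient_isPGroup
  intro y
  obtain ⟨g, rfl⟩ := QuotientGroup.mk_surjective y
  have hg : g ∈ ((N ⊔ (S : Subgroup P) : Subgroup P) : Set P) := by rw [h]; exact Set.mem_univ g
  rw [Subgroup.normal_mul] at hg
  obtain ⟨n, hn, s, hs, rfl⟩ := Set.mem_mul.mp hg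
  obtain ⟨j, hj⟩ := S.2 ⟨s, hs⟩
  refine ⟨j, ?_⟩
  have h1 : ((n * s : P) : P ⧸ N) = ((s : P) : P ⧸ N) := by
    rw [QuotientGroup.eq]
    have : (n * s)⁻¹ * s = s⁻¹ * n⁻¹ * s⁻¹⁻¹ := by group
    rw [this]
    exact hN.conj_mem _ (N.inv_mem hn) s⁻¹
  rw [h1, ← QuotientGroup.mk_pow]
  have h2 : s ^ p ^ j = 1 := by
    have := congrArg Subtype.val hj
    simpa using this
  rw [h2]; rfl

theorem not_pResidual_le (hP : Cfsg.IsPMinimal p P) (S : Sylow p P) (M : Subgroup P)
    (hM : IsCoatom M) (hSM : (S : Subgroup P) ≤ M) : ¬ Cfsg.pResidual p P ≤ M := by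
  intro h
  apply hM.1
  rw [eq_top_iff, ← sylow_sup_pResidual S]
  exact sup_le hSM h

/-- part (3) -/
theorem normal_dichotomy (hP : Cfsg.IsPMinimal p P) (S : Sylow p P) (M : Subgroup P)
    (hM : IsCoatom M) (hSM : (S : Subgroup P) ≤ M) (N : Subgroup P) (hN : N.Normal) :
    Cfsg.pResidual p P ≤ N ∨ N ≤ M.normalCore := by
  by_cases hNM : N ≤ M
  · right
    exact Subgroup.normal_le_normalCore.mpr hNM
  · left
    haveI := hN
    apply pResidual_le_of_sup_sylow_eq_top S N
    by_contra hne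
    apply hNM
    exact le_sup_left.trans (le_of_sylow_le hP S M hM hSM _ le_sup_right hne)

/-- `F ∩ S` is normal. -/
theorem core_inf_sylow_normal (hP : Cfsg.IsPMinimal p P) (S : Sylow p P) (M : Subgroup P)
    (hM : IsCoatom M) (hSM : (S : Subgroup P) ≤ M) :
    ((S : Subgroup P) ⊓ M.normalCore).Normal := by
  haveI : M.normalCore.Normal := Subgroup.normalCore_normal M
  have hfr := Sylow.normalizer_sup_eq_top (sylowInf S M.normalCore)
  rw [map_sylowInf] at hfr
  rw [← Subgroup.normalizer_eq_top_iff]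
  by_contra hne
  have hSX : (S : Subgroup P) ≤
      Subgroup.normalizer (((S : Subgroup P) ⊓ M.normalCore : Subgroup P) : Set P) := by
    intro s hs
    apply mem_normalizer_inf (Subgroup.le_normalizer hs)
    rw [Subgroup.normalizer_eq_top]; exact Subgroup.mem_top s
  have h1 := le_of_sylow_le hP S M hM hSM _ hSX hne
  apply hM.1
  rw [eq_top_iff, ← hfr]
  exact sup_le h1 (Subgroup.normalCore_le M)

/-- part (1) -/
theorem subnormal_le_core (hP : Cfsg.IsPMinimal p P) (S : Sylow p P) (M : Subgroup P)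
    (hM : IsCoatom M) (hSM : (S : Subgroup P) ≤ M) (N : Subgroup P) (hN : N.IsSubnormal)
    (hNM : N ≤ M) : N ≤ M.normalCore := by
  haveI hFn : M.normalCore.Normal := Subgroup.normalCore_normal M
  set F : Subgroup P := M.normalCore with hF
  set π : P →* P ⧸ F := QuotientGroup.mk' F with hπ
  have hsurj : Function.Surjective π := QuotientGroup.mk'_surjective F
  have hker : π.ker = F := QuotientGroup.ker_mk' F
  have hFM : F ≤ M := Subgroup.normalCore_le M
  set R : Subgroup P := Cfsg.pResidual p P with hR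
  haveI hRn : R.Normal := pResidual_normal
  have hRM : ¬ R ≤ M := not_pResidual_le hP S M hM hSM
  -- core-freeness of the image of M
  have hcf : ∀ X : Subgroup (P ⧸ F), X.Normal → X ≤ M.map π → X = ⊥ := by
    intro X hXn hXM
    have h1 : X.comap π ≤ M := by
      have : X.comap π ≤ (M.map π).comap π := Subgroup.comap_mono hXM
      rw [Subgroup.comap_map_eq, hker, sup_of_le_left hFM] at this
      exact this
    haveI : (X.comap π).Normal := hXn.comap π
    have h2 : X.comap π ≤ F := Subgroup.normal_le_normalCore.mpr h1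
    have h3 : X = (X.comap π).map π := (Subgroup.map_comap_eq_self_of_surjective hsurj X).symm
    rw [h3, eq_bot_iff]
    calc (X.comap π).map π ≤ F.map π := Subgroup.map_mono h2
      _ = ⊥ := by rw [(Subgroup.map_eq_bot_iff F).mpr (le_of_eq hker.symm)]
  -- R̄ is minimal normal
  have hmin : Cfsg.Agent.Lib.Helper20.IsMinNormal (R.map π) := by
    refine ⟨hRn.map π hsurj, ?_, ?_⟩
    · intro h
      rw [Subgroup.map_eq_bot_iff, hker] at h
      exact hRM (h.trans hFM)
    · intro B₀ hB₀ hle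
      have hcn : (B₀.comap π).Normal := hB₀.comap π
      rcases normal_dichotomy hP S M hM hSM (B₀.comap π) hcn with h | h
      · right
        apply le_antisymm hle
        calc R.map π ≤ (B₀.comap π).map π := Subgroup.map_mono h
          _ = B₀ := Subgroup.map_comap_eq_self_of_surjective hsurj B₀
      · left
        rw [eq_bot_iff, ← Subgroup.map_comap_eq_self_of_surjective hsurj B₀]
        calc (B₀.comap π).map π ≤ F.map π := Subgroup.map_mono h
          _ = ⊥ := by rw [(Subgroup.map_eq_bot_iff F).mpr (le_of_eq hker.symm)]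
  have hNsub : (N.map π).IsSubnormal := hN.map hsurj
  have hW : R.map π ≤ Subgroup.normalizer ((N.map π : Subgroup (P ⧸ F)) : Set (P ⧸ F)) :=
    hmin.le_normalizer_of_isSubnormal hNsub
  have htop : (S : Subgroup P).map π ⊔ R.map π = ⊤ := by
    rw [← Subgroup.map_sup, sylow_sup_pResidual S, ← MonoidHom.range_eq_map,
      MonoidHom.range_eq_top.mpr hsurj]
  haveI hRbn : (R.map π).Normal := hRn.map π hsurj
  have hncl : Subgroup.normalClosure ((N.map π : Subgroup (P ⧸ F)) : Set (P ⧸ F)) ≤ M.map π := by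
    rw [Subgroup.normalClosure, Subgroup.closure_le]
    rintro x hx
    obtain ⟨n, hn, hconj⟩ := Group.mem_conjugatesOfSet_iff.mp hx
    obtain ⟨g, rfl⟩ := isConj_iff.mp hconj
    have hg : g ∈ (((S : Subgroup P).map π ⊔ R.map π : Subgroup (P ⧸ F)) : Set (P ⧸ F)) := by
      rw [htop]; exact Set.mem_univ g
    rw [Subgroup.mul_normal] at hg
    obtain ⟨s, hs, r, hr, rfl⟩ := Set.mem_mul.mp hg
    have h1 : r * n * r⁻¹ ∈ N.map π := (Subgroup.mem_normalizer_iff.mp (hW hr) n).mp hn
    have h2 : r * n * r⁻¹ ∈ M.map π := Subgroup.map_mono hNM h1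
    have h3 : s ∈ M.map π := Subgroup.map_mono hSM hs
    have e : s * r * n * (s * r)⁻¹ = s * (r * n * r⁻¹) * s⁻¹ := by group
    rw [e]
    exact (M.map π).mul_mem ((M.map π).mul_mem h3 h2) ((M.map π).inv_mem h3)
  have h0 := hcf _ Subgroup.normalClosure_normal hncl
  have h4 : N.map π = ⊥ := by
    rw [eq_bot_iff, ← h0]
    exact Subgroup.le_normalClosure
  rw [Subgroup.map_eq_bot_iff, hker] at h4
  exact h4

/-- part (2) -/
theorem two_primes (hP : Cfsg.IsPMinimal p P) (S : Sylow p P) (M : Subgroup P)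
    (hM : IsCoatom M) (hSM : (S : Subgroup P) ≤ M)
    (hcl : ∀ T : Sylow p ↥(Cfsg.pResidual p P), (T : Subgroup ↥(Cfsg.pResidual p P)).Normal) :
    (Nat.card P).primeFactors.card ≤ 2 := by
  have hp : p.Prime := Fact.out
  set R : Subgroup P := Cfsg.pResidual p P with hR
  haveI hRn : R.Normal := pResidual_normal
  set Q₀ : Subgroup P := (S : Subgroup P) ⊓ R with hQ₀
  have hQ₀n : Q₀.Normal := by
    rw [← Subgroup.normalizer_eq_top_iff, eq_top_iff, ← sylow_sup_pResidual S]
    apply sup_le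
    · intro s hs
      apply mem_normalizer_inf (Subgroup.le_normalizer hs)
      rw [Subgroup.normalizer_eq_top]; exact Subgroup.mem_top s
    · intro r hr
      have hn := hcl (sylowInf S R)
      rw [hQ₀, ← map_sylowInf S R]
      apply mem_normalizer_of_map_conj_le
      rintro _ ⟨_, ⟨x, hx, rfl⟩, rfl⟩
      refine ⟨⟨r, hr⟩ * x * ⟨r, hr⟩⁻¹, hn.conj_mem x hx ⟨r, hr⟩, ?_⟩
      simp
  haveI := hQ₀n
  have hQ₀R : Q₀ ≤ R := inf_le_right
  have hQ₀S : Q₀ ≤ (S : Subgroup P) := inf_le_left
  have hQ₀card : Nat.card Q₀ = p ^ (Nat.card R).factorization p := by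
    rw [hQ₀, ← map_sylowInf S R,
      ← Nat.card_congr (((sylowInf S R : Sylow p R) : Subgroup R).equivMapOfInjective _
        R.subtype_injective).toEquiv]
    exact (sylowInf S R).card_eq_multiplicity
  set π : P →* P ⧸ Q₀ := QuotientGroup.mk' Q₀ with hπ
  have hsurj : Function.Surjective π := QuotientGroup.mk'_surjective Q₀
  have hker : π.ker = Q₀ := QuotientGroup.ker_mk' Q₀
  set St : Subgroup (P ⧸ Q₀) := (S : Subgroup P).map π with hSt
  set Rt : Subgroup (P ⧸ Q₀) := R.map π with hRt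
  haveI hRtn : Rt.Normal := hRn.map π hsurj
  have hStp : IsPGroup p St := S.2.map π
  have hRtcard : Nat.card Rt * Nat.card Q₀ = Nat.card R :=
    Cfsg.Agent.Lib.Helper1.card_map_mk_of_le Q₀ hQ₀R
  have hRtcop : ¬ p ∣ Nat.card Rt := by
    intro hdvd
    have h1 : p ^ ((Nat.card R).factorization p + 1) ∣ Nat.card R := by
      calc p ^ ((Nat.card R).factorization p + 1) = Nat.card Q₀ * p := by rw [pow_succ, hQ₀card]
        _ ∣ Nat.card Q₀ * Nat.card Rt := Nat.mul_dvd_mul_left _ hdvd
        _ = Nat.card R := by rw [mul_comm]; exact hRtcard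
    exact Nat.pow_succ_factorization_not_dvd Nat.card_pos.ne' hp h1
  have hact : Cfsg.Agent.Lib.Helper1.CoprimeAct St Rt := by
    refine ⟨?_, ?_, Or.inl ?_⟩
    · intro s _
      rw [Subgroup.normalizer_eq_top]; exact Subgroup.mem_top s
    · obtain ⟨k, hk⟩ := IsPGroup.iff_card.mp hStp
      rw [hk]
      exact Nat.Coprime.pow_left k ((Nat.Prime.coprime_iff_not_dvd hp).mpr hRtcop)
    · haveI := hStp.isNilpotent
      infer_instance
  have hex : ∀ t : ℕ, t.Prime → ∃ T : Subgroup (P ⧸ Q₀), T ≤ Rt ∧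
      Nat.card T = t ^ (Nat.card Rt).factorization t ∧
      St ≤ Subgroup.normalizer (T : Set (P ⧸ Q₀)) := by
    intro t ht
    haveI : Fact t.Prime := ⟨ht⟩
    obtain ⟨T, hT⟩ := hact.exists_invariant_sylSet t
    exact ⟨T.1, T.2.1, T.2.2, hT⟩
  choose T hT1 hT2 hT3 using hex
  have hRM : ¬ R ≤ M := not_pResidual_le hP S M hM hSM
  have hStop : St ⊔ Rt = ⊤ := by
    rw [hSt, hRt, ← Subgroup.map_sup, sylow_sup_pResidual S, ← MonoidHom.range_eq_map,
      MonoidHom.range_eq_top.mpr hsurj]
  by_cases hcase : ∃ (t : ℕ) (ht : t.Prime), (St ⊔ T t ht).comap π = ⊤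
  · obtain ⟨t, ht, htop⟩ := hcase
    have h1 : St ⊔ T t ht = ⊤ := by
      rw [← Subgroup.map_comap_eq_self_of_surjective hsurj (St ⊔ T t ht), htop,
        ← MonoidHom.range_eq_map, MonoidHom.range_eq_top.mpr hsurj]
    have h2 : Nat.card (P ⧸ Q₀) ∣ Nat.card (T t ht) * Nat.card St := by
      have := Cfsg.Agent.Lib.Helper9.card_sup_dvd_of_le_normalizer (hT3 t ht)
      rw [sup_comm, h1, Subgroup.card_top] at this
      exact this
    obtain ⟨k, hk⟩ := IsPGroup.iff_card.mp hStp
    rw [hT2 t ht, hk] at h2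
    have h3 : Nat.card P ∣ p ^ (Nat.card R).factorization p *
        (t ^ (Nat.card Rt).factorization t * p ^ k) := by
      rw [Subgroup.card_eq_card_quotient_mul_card_subgroup Q₀, hQ₀card, mul_comm]
      exact Nat.mul_dvd_mul_left _ h2
    have h4 : (Nat.card P).primeFactors ⊆ {p, t} := by
      intro q hq
      have hqp := Nat.prime_of_mem_primeFactors hq
      have hqd := (Nat.dvd_of_mem_primeFactors hq).trans h3
      rw [Finset.mem_insert, Finset.mem_singleton]
      rcases (Nat.Prime.dvd_mul hqp).mp hqd with h | h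
      · left; exact (Nat.prime_dvd_prime_iff_eq hqp hp).mp (hqp.dvd_of_dvd_pow h)
      · rcases (Nat.Prime.dvd_mul hqp).mp h with h | h
        · right; exact (Nat.prime_dvd_prime_iff_eq hqp ht).mp (hqp.dvd_of_dvd_pow h)
        · left; exact (Nat.prime_dvd_prime_iff_eq hqp hp).mp (hqp.dvd_of_dvd_pow h)
    calc (Nat.card P).primeFactors.card ≤ ({p, t} : Finset ℕ).card := Finset.card_le_card h4
      _ ≤ 2 := Finset.card_le_two
  · exfalso
    push Not at hcase
    apply hRM
    have hTM : ∀ (t : ℕ) (ht : t.Prime), T t ht ≤ M.map π := by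
      intro t ht
      have hSX : (S : Subgroup P) ≤ (St ⊔ T t ht).comap π := by
        intro s hs
        exact (le_sup_left : St ≤ St ⊔ T t ht) (Subgroup.mem_map_of_mem π hs)
      have h1 := le_of_sylow_le hP S M hM hSM _ hSX (hcase t ht)
      calc T t ht ≤ St ⊔ T t ht := le_sup_right
        _ = ((St ⊔ T t ht).comap π).map π :=
          (Subgroup.map_comap_eq_self_of_surjective hsurj _).symm
        _ ≤ M.map π := Subgroup.map_mono h1
    have hdvd : Nat.card Rt ∣ Nat.card (Rt ⊓ M.map π : Subgroup (P ⧸ Q₀)) := by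
      rw [← Nat.factorization_prime_le_iff_dvd Nat.card_pos.ne' Nat.card_pos.ne']
      intro t ht
      have h1 : Nat.card (T t ht) ∣ Nat.card (Rt ⊓ M.map π : Subgroup (P ⧸ Q₀)) :=
        Subgroup.card_dvd_of_le (le_inf (hT1 t ht) (hTM t ht))
      rw [hT2 t ht] at h1
      exact (ht.pow_dvd_iff_le_factorization Nat.card_pos.ne').mp h1
    have heq : Rt ⊓ M.map π = Rt :=
      Subgroup.eq_of_le_of_card_ge inf_le_left (Nat.le_of_dvd Nat.card_pos hdvd)
    have hRtM : Rt ≤ M.map π := by rw [← heq]; exact inf_le_right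
    have h5 : R ≤ (M.map π).comap π := by
      rw [← Subgroup.map_le_iff_le_comap]; exact hRtM
    rw [Subgroup.comap_map_eq, hker, sup_of_le_left (hQ₀S.trans hSM)] at h5
    exact h5


end

/-- Let P be a finite p-minimal group (a Sylow p-subgroup S is not normal and lies in a unique maximal subgroup M of P) and let F be the normal core of M. Then: every subnormal subgroup N of P contained in M satisfies N ∩ S ≤ O_p(P); if O^p(P) has a normal Sylow p-subgroup then the order of P has at most two prime divisors; every normal subgroup N of P either contains O^p(P) or is contained in F; and O^p(P)F ⧸ F is a minimal normal subgroup of P ⧸ F. -/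
theorem result {P : Type*} [Group P] [Finite P] {p : ℕ} [Fact p.Prime] (hP : Cfsg.IsPMinimal p P) (S : Sylow p P) (M : Subgroup P) (hM : IsCoatom M) (hSM : (S : Subgroup P) ≤ M) [hF : M.normalCore.Normal] : (∀ N : Subgroup P, N.IsSubnormal → N ≤ M → N ⊓ (S : Subgroup P) ≤ Cfsg.pCore p P) ∧ ((∀ T : Sylow p ↥(Cfsg.pResidual p P), (T : Subgroup ↥(Cfsg.pResidual p P)).Normal) → (Nat.card P).primeFactors.card ≤ 2) ∧ (∀ N : Subgroup P, N.Normal → Cfsg.pResidual p P ≤ N ∨ N ≤ M.normalCore) ∧ (∀ N : Subgroup P, N.Normal → M.normalCore ≤ N → N ≤ Cfsg.pResidual p P ⊔ M.normalCore → N = M.normalCore ∨ N = Cfsg.pResidual p P ⊔ M.normalCore) ∧ M.normalCore < Cfsg.pResidual p P ⊔ M.normalCore := by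
  refine ⟨?_, ?_, ?_, ?_, ?_⟩
  · intro N hN hNM
    have h1 := subnormal_le_core hP S M hM hSM N hN hNM
    have h2 : N ⊓ (S : Subgroup P) ≤ (S : Subgroup P) ⊓ M.normalCore :=
      le_inf inf_le_right (inf_le_left.trans h1)
    refine h2.trans ?_
    exact Cfsg.Agent.Lib.Helper16.le_pCore _ (core_inf_sylow_normal hP S M hM hSM)
      (S.2.to_le inf_le_left)
  · exact two_primes hP S M hM hSM
  · exact fun N hN => normal_dichotomy hP S M hM hSM N hN
  · intro N hN h1 h2
    rcases normal_dichotomy hP S M hM hSM N hN with h | h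
    · right
      exact le_antisymm h2 (sup_le h h1)
    · left
      exact le_antisymm h h1
  · refine lt_of_le_of_ne le_sup_right ?_
    intro h
    apply not_pResidual_le hP S M hM hSM
    have : Cfsg.pResidual p P ≤ M.normalCore := by rw [h]; exact le_sup_left
    exact this.trans (Subgroup.normalCore_le M)

end Cfsg.Agent.S2905
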