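import Cfsg.Statements.S2910
import Cfsg.Agent.Lib.Helper13.Frobenius
import Cfsg.Agent.Lib.Helper10.OmegaCentralize

set_option autoImplicit false
open Cfsg

namespace Cfsg.Agent.S2910

/-- Let p be an odd prime dividing the order of the finite group G and P a Sylow p-subgroup of G. If Ω₁(P) (generated by the elements of order dividing p) is contained in the centre of G, then G has a normal p-complement. In particular, if G is quasisimple then Ω₁(P) is not central in G. -/
theorem result {G : Type*} [Group G] [Finite G] {p : ℕ} [Fact p.Prime] (hp : p ≠ 2) (hdiv : p ∣ Nat.card G) (P : Sylow p G) (hZ : Cfsg.omegaOne p (P : Subgroup G) ≤ Subgroup.center G) : Cfsg.HasNormalPComplement p G ∧ ¬ Cfsg.IsQuasisimple G := by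
  have hpp : p.Prime := Fact.out
  have hLC : Cfsg.Agent.Lib.Helper13.LocalCentral p G := by
    apply Cfsg.Agent.Lib.Helper13.localCentral_of_sylow P
    intro Q hQP g hg hcop
    have hA : (Nat.card (Subgroup.zpowers g)).Coprime p := by
      rw [Nat.card_zpowers]; exact hcop
    have hAN : Subgroup.zpowers g ≤ Subgroup.normalizer (Q : Set G) :=
      Subgroup.zpowers_le.mpr hg
    have hQ : IsPGroup p Q := P.2.to_le hQP
    have := Cfsg.Agent.Lib.Helper10.le_centralizer_of_centralizes_order_p p hp
      (Subgroup.zpowers g) Q hA hQ hAN (by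
        intro x hx hxo a _
        have hx1 : x ∈ Cfsg.omegaOne p (P : Subgroup G) := by
          apply Subgroup.subset_closure
          refine ⟨hQP hx, ?_⟩
          rw [← hxo]; exact pow_orderOf_eq_one x
        have hxZ := hZ hx1
        rw [Subgroup.mem_center_iff] at hxZ
        exact hxZ a)
    exact this (Subgroup.mem_zpowers g)
  obtain ⟨K, hKn, hK⟩ := Cfsg.Agent.Lib.Helper13.exists_normal_complement_of_localCentral hLC P
  refine ⟨⟨P, K, hKn, hK⟩, ?_⟩
  rintro ⟨hperf, _⟩
  haveI := hKn
  obtain ⟨hKcop, k, hk⟩ := Cfsg.Agent.Lib.Helper13.coprime_and_index_of_isComplement' K P hK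
  have hcardQ : Nat.card (G ⧸ K) = p ^ k := by rw [← Subgroup.index_eq_card]; exact hk
  have hk0 : k ≠ 0 := by
    rintro rfl
    rw [pow_zero] at hk
    have hKtop : K = ⊤ := Subgroup.index_eq_one.mp hk
    have : Nat.card K = Nat.card G := by rw [hKtop, Subgroup.card_top]
    rw [this] at hKcop
    exact (Nat.Prime.coprime_iff_not_dvd hpp).mp hKcop.symm hdiv
  haveI : Nontrivial (G ⧸ K) := by
    rw [← Finite.one_lt_card_iff_nontrivial, hcardQ]
    exact Nat.one_lt_pow hk0 hpp.one_lt
  haveI : Group.IsPerfect (G ⧸ K) := inferInstance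
  have hnil : Group.IsNilpotent (G ⧸ K) := (IsPGroup.of_card hcardQ).isNilpotent
  exact Group.IsPerfect.not_isNilpotent (G ⧸ K) hnil

end Cfsg.Agent.S2910
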