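import Cfsg.Statements.S0728
import Mathlib

set_option autoImplicit false
open Cfsg

namespace Cfsg.Agent.S0728

open MulAction

section General

variable {G α : Type*} [Group G] [MulAction G α]

/-- the embedding of three distinct points -/
def emb3 (p q r : α) (hpq : p ≠ q) (hqr : q ≠ r) (hpr : p ≠ r) : Fin 3 ↪ α :=
  ⟨![p, q, r], by
    intro i j h
    fin_cases i <;> fin_cases j <;> simp_all⟩

theorem trans3 (h3 : IsMultiplyPretransitive G α 3) {p q r p' q' r' : α}
    (hpq : p ≠ q) (hqr : q ≠ r) (hpr : p ≠ r) (hpq' : p' ≠ q') (hqr' : q' ≠ r') (hpr' : p' ≠ r') :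
    ∃ g : G, g • p = p' ∧ g • q = q' ∧ g • r = r' := by
  obtain ⟨g, hg⟩ := h3.exists_smul_eq (emb3 p q r hpq hqr hpr) (emb3 p' q' r' hpq' hqr' hpr')
  refine ⟨g, ?_, ?_, ?_⟩
  · have := congrArg (fun f : Fin 3 ↪ α => f 0) hg
    exact this
  · have := congrArg (fun f : Fin 3 ↪ α => f 1) hg
    exact this
  · have := congrArg (fun f : Fin 3 ↪ α => f 2) hg
    exact this

theorem fix3 (hsharp : ∀ x : Fin 3 ↪ α, MulAction.stabilizer G x = ⊥) {p q r : α}
    (hpq : p ≠ q) (hqr : q ≠ r) (hpr : p ≠ r) (k : G) (h1 : k • p = p) (h2 : k • q = q) (h3 : k • r = r) :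
    k = 1 := by
  have : k ∈ MulAction.stabilizer G (emb3 p q r hpq hqr hpr) := by
    rw [MulAction.mem_stabilizer_iff]
    ext i
    fin_cases i
    · exact h1
    · exact h2
    · exact h3
  rw [hsharp] at this
  exact Subgroup.mem_bot.mp this

/-- two elements of order three are conjugate, by an element we control on one point -/
theorem conj3 (h3 : IsMultiplyPretransitive G α 3) (hsharp : ∀ x : Fin 3 ↪ α, MulAction.stabilizer G x = ⊥)
    (e e' : G) (he : e ^ 3 = 1) (he' : e' ^ 3 = 1) (c c' : α) (hc : e • c ≠ c) (hc' : e' • c' ≠ c') :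
    ∃ g : G, g • c = c' ∧ g * e * g⁻¹ = e' := by
  have e3 : ∀ z : α, e • e • e • z = z := by
    intro z
    rw [← mul_smul, ← mul_smul, ← pow_three', he, one_smul]
  have e3' : ∀ z : α, e' • e' • e' • z = z := by
    intro z
    rw [← mul_smul, ← mul_smul, ← pow_three', he', one_smul]
  have d1 : c ≠ e • c := fun h => hc h.symm
  have d2 : e • c ≠ e • e • c := fun h => hc (MulAction.injective e h).symm
  have d3 : c ≠ e • e • c := by
    intro h
    apply hc
    have : e • c = e • e • e • c := congrArg (e • ·) h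
    rw [e3] at this
    exact this
  have d1' : c' ≠ e' • c' := fun h => hc' h.symm
  have d2' : e' • c' ≠ e' • e' • c' := fun h => hc' (MulAction.injective e' h).symm
  have d3' : c' ≠ e' • e' • c' := by
    intro h
    apply hc'
    have : e' • c' = e' • e' • e' • c' := congrArg (e' • ·) h
    rw [e3'] at this
    exact this
  obtain ⟨g, hg1, hg2, hg3⟩ := trans3 h3 d1 d2 d3 d1' d2' d3'
  refine ⟨g, hg1, ?_⟩
  have hginv1 : g⁻¹ • c' = c := by rw [← hg1, inv_smul_smul]
  have hginv2 : g⁻¹ • e' • c' = e • c := by rw [← hg2, inv_smul_smul]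
  have hginv3 : g⁻¹ • e' • e' • c' = e • e • c := by rw [← hg3, inv_smul_smul]
  have hk : e'⁻¹ * (g * e * g⁻¹) = 1 := by
    apply fix3 hsharp d1' d2' d3'
    · rw [mul_smul, mul_smul, mul_smul, hginv1, hg2, inv_smul_smul]
    · rw [mul_smul, mul_smul, mul_smul, hginv2, hg3, inv_smul_smul]
    · rw [mul_smul, mul_smul, mul_smul, hginv3, e3, hg1]
      rw [inv_smul_eq_iff, e3']
  exact (inv_mul_eq_one.mp hk).symm

end General

theorem result {α : Type*} [Fintype α] [DecidableEq α] (heven : Even (Fintype.card α)) (h6 : 6 ≤ Fintype.card α) (G : Subgroup (Equiv.Perm α)) (h3 : MulAction.IsMultiplyPretransitive G α 3) (hsharp : ∀ x : Fin 3 ↪ α, MulAction.stabilizer G x = ⊥) {a b : α} (hab : a ≠ b) (A B : Subgroup G) (hA : A ≤ MulAction.stabilizer G a ⊓ MulAction.stabilizer G b) (hB : B ≤ MulAction.stabilizer G a ⊓ MulAction.stabilizer G b) (hA3 : Nat.card A = 3) (hB3 : Nat.card B = 3) : A = B := by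
  -- a third point
  have : ∃ c₀ : α, c₀ ≠ a ∧ c₀ ≠ b := by
    by_contra hne
    push Not at hne
    have hsub : (Finset.univ : Finset α) ⊆ {a, b} := by
      intro c _
      by_cases hca : c = a
      · simp [hca]
      · simp [hne c hca]
    have := Finset.card_le_card hsub
    rw [Finset.card_univ] at this
    have h2 : ({a, b} : Finset α).card ≤ 2 := Finset.card_le_two
    omega
  obtain ⟨c₀, hca, hcb⟩ := this
  -- key claim: any two elements of order 3 in H are equal or inverse
  have key : ∀ x y : G, x ∈ MulAction.stabilizer G a ⊓ MulAction.stabilizer G b →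
      y ∈ MulAction.stabilizer G a ⊓ MulAction.stabilizer G b → x ^ 3 = 1 → y ^ 3 = 1 → x ≠ 1 → y ≠ 1 →
      y = x ∨ y = x⁻¹ := by
    intro x y hx hy hx3 hy3 hx1 hy1
    have hxa : x • a = a := hx.1
    have hxb : x • b = b := hx.2
    have hya : y • a = a := hy.1
    have hyb : y • b = b := hy.2
    have hxc : x • c₀ ≠ c₀ := fun h => hx1 (fix3 hsharp hab (Ne.symm hcb) (Ne.symm hca) x hxa hxb h)
    have hyc : y • c₀ ≠ c₀ := fun h => hy1 (fix3 hsharp hab (Ne.symm hcb) (Ne.symm hca) y hya hyb h)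
    have hxinv3 : x⁻¹ ^ 3 = 1 := by rw [inv_pow, hx3, inv_one]
    have hxinvc : x⁻¹ • c₀ ≠ c₀ := by
      intro h
      apply hxc
      rw [inv_smul_eq_iff] at h
      exact h.symm
    -- fixed points of a nontrivial element of H
    have hfixH : ∀ z : G, z ≠ 1 → z • a = a → z • b = b → ∀ w : α, z • w = w → w = a ∨ w = b := by
      intro z hz1 hza hzb w hw
      by_contra hne
      push Not at hne
      exact hz1 (fix3 hsharp hab (Ne.symm hne.2) (Ne.symm hne.1) z hza hzb hw)
    -- a conjugating element fixing c₀ preserves {a, b}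
    have hpres : ∀ (g u v : G), g * u * g⁻¹ = v → u • a = a → u • b = b → v ≠ 1 → v • a = a → v • b = b →
        (g • a = a ∧ g • b = b) ∨ (g • a = b ∧ g • b = a) := by
      intro g u v hguv hua hub hv1 hva hvb
      have h1 : v • (g • a) = g • a := by
        rw [← hguv, mul_smul, mul_smul, inv_smul_smul, hua]
      have h2 : v • (g • b) = g • b := by
        rw [← hguv, mul_smul, mul_smul, inv_smul_smul, hub]
      have hne : g • a ≠ g • b := fun h => hab (MulAction.injective g h)
      rcases hfixH v hv1 hva hvb _ h1 with h1' | h1' <;> rcases hfixH v hv1 hva hvb _ h2 with h2' | h2'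
      · exact absurd (h1'.trans h2'.symm) hne
      · exact Or.inl ⟨h1', h2'⟩
      · exact Or.inr ⟨h1', h2'⟩
      · exact absurd (h1'.trans h2'.symm) hne
    obtain ⟨g, hgc, hgxy⟩ := conj3 h3 hsharp x y hx3 hy3 c₀ c₀ hxc hyc
    obtain ⟨g₂, hg₂c, hg₂x⟩ := conj3 h3 hsharp x x⁻¹ hx3 hxinv3 c₀ c₀ hxc hxinvc
    have hxinv1 : x⁻¹ ≠ 1 := fun h => hx1 (inv_eq_one.mp h)
    have hxinva : x⁻¹ • a = a := by rw [inv_smul_eq_iff, hxa]
    have hxinvb : x⁻¹ • b = b := by rw [inv_smul_eq_iff, hxb]
    rcases hpres g x y hgxy hxa hxb hy1 hya hyb with ⟨hga, hgb⟩ | ⟨hga, hgb⟩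
    · left
      have : g = 1 := fix3 hsharp hab (Ne.symm hcb) (Ne.symm hca) g hga hgb hgc
      rw [this] at hgxy
      simpa using hgxy.symm
    · right
      rcases hpres g₂ x x⁻¹ hg₂x hxa hxb hxinv1 hxinva hxinvb with ⟨hg₂a, hg₂b⟩ | ⟨hg₂a, hg₂b⟩
      · exfalso
        have : g₂ = 1 := fix3 hsharp hab (Ne.symm hcb) (Ne.symm hca) g₂ hg₂a hg₂b hg₂c
        rw [this] at hg₂x
        have hxx : x = x⁻¹ := by simpa using hg₂x
        -- x^2 = 1 and x^3 = 1 give x = 1
        have h2 : x * x = 1 := by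
          nth_rewrite 2 [hxx]; exact mul_inv_cancel x
        apply hx1
        have : x ^ 3 = x * x * x := by rw [pow_three, mul_assoc]
        rw [this, h2, one_mul] at hx3
        exact hx3
      · have : g₂⁻¹ * g = 1 := by
          apply fix3 hsharp hab (Ne.symm hcb) (Ne.symm hca)
          · rw [mul_smul, hga, inv_smul_eq_iff, hg₂a]
          · rw [mul_smul, hgb, inv_smul_eq_iff, hg₂b]
          · rw [mul_smul, hgc, inv_smul_eq_iff, hg₂c]
        have hgg : g = g₂ := (inv_mul_eq_one.mp this).symm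
        rw [← hgxy, hgg, hg₂x]
  -- generators
  haveI : Fact (Nat.Prime 3) := ⟨by norm_num⟩
  haveI : IsCyclic A := isCyclic_of_prime_card hA3
  haveI : IsCyclic B := isCyclic_of_prime_card hB3
  obtain ⟨x, hx⟩ := IsCyclic.exists_generator (α := A)
  obtain ⟨y, hy⟩ := IsCyclic.exists_generator (α := B)
  have hxord : orderOf x = 3 := by rw [orderOf_eq_card_of_forall_mem_zpowers hx, hA3]
  have hyord : orderOf y = 3 := by rw [orderOf_eq_card_of_forall_mem_zpowers hy, hB3]
  have hxord' : orderOf (x : G) = 3 := by rw [Subgroup.orderOf_coe]; exact hxord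
  have hyord' : orderOf (y : G) = 3 := by rw [Subgroup.orderOf_coe]; exact hyord
  have hx3 : (x : G) ^ 3 = 1 := by rw [← hxord']; exact pow_orderOf_eq_one _
  have hy3 : (y : G) ^ 3 = 1 := by rw [← hyord']; exact pow_orderOf_eq_one _
  have hx1 : (x : G) ≠ 1 := by
    intro h; rw [h, orderOf_one] at hxord'; omega
  have hy1 : (y : G) ≠ 1 := by
    intro h; rw [h, orderOf_one] at hyord'; omega
  have hyA : (y : G) ∈ A := by
    rcases key x y (hA x.2) (hB y.2) hx3 hy3 hx1 hy1 with h | h
    · rw [h]; exact x.2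
    · rw [h]; exact A.inv_mem x.2
  have hBA : B ≤ A := by
    intro z hz
    have := hy ⟨z, hz⟩
    obtain ⟨n, hn⟩ := Subgroup.mem_zpowers_iff.mp this
    have : z = (y : G) ^ n := by
      have := congrArg Subtype.val hn
      simpa using this.symm
    rw [this]
    exact A.zpow_mem hyA n
  haveI : Finite A := Nat.finite_of_card_ne_zero (by omega)
  exact (Subgroup.eq_of_le_of_card_ge hBA (by omega)).symm

end Cfsg.Agent.S0728
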