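import Mathlib
import Cfsg.Statements.S0729
import Cfsg.Agent.S0728
import Cfsg.Agent.Lib.Helper3.Sharp3A
import Cfsg.Agent.Lib.Helper3.Sharp3E
import Cfsg.Agent.Lib.Helper3.ZassAb1
import Cfsg.Agent.Lib.Helper29.ZassHalfA

set_option autoImplicit false
open Cfsg

namespace Cfsg.Agent.S0729

open MulAction Cfsg.Agent.Lib.Helper3.Sharp3

/-- In a sharply triply transitive group of even degree at least 6, the two-point stabiliser `H = G_{a,b}` has a normal subgroup of index 2 that is normalised by the element `s` interchanging `a, b` and fixing a third point `c`. -/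
theorem result {α : Type*} [Fintype α] [DecidableEq α] (heven : Even (Fintype.card α)) (h6 : 6 ≤ Fintype.card α) (G : Subgroup (Equiv.Perm α)) (h3 : MulAction.IsMultiplyPretransitive G α 3) (hsharp : ∀ x : Fin 3 ↪ α, MulAction.stabilizer G x = ⊥) {a b c : α} (hab : a ≠ b) (hac : a ≠ c) (hbc : b ≠ c) (s : G) (hsa : s • a = b) (hsb : s • b = a) (hsc : s • c = c) : ∃ N : Subgroup G, N ≤ MulAction.stabilizer G a ⊓ MulAction.stabilizer G b ∧ (N.subgroupOf (MulAction.stabilizer G a ⊓ MulAction.stabilizer G b)).Normal ∧ N.relIndex (MulAction.stabilizer G a ⊓ MulAction.stabilizer G b) = 2 ∧ ∀ n ∈ N, s * n * s⁻¹ ∈ N := by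
  classical
  have sinj : ∀ (g : G) {r t : α}, g • r = g • t → r = t := fun g r t e => MulAction.injective g e
  -- a third point avoiding two given ones
  have hthird : ∀ x y : α, ∃ z : α, z ≠ x ∧ z ≠ y := by
    intro x y
    by_contra hne
    push Not at hne
    have hsub : (Finset.univ : Finset α) ⊆ {x, y} := by
      intro z _
      by_cases hzx : z = x
      · simp [hzx]
      · simp [hne z hzx]
    have h1 := Finset.card_le_card hsub
    have h2 : ({x, y} : Finset α).card ≤ 2 := Finset.card_le_two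
    rw [Finset.card_univ] at h1
    omega
  have h2t : ∀ x y z w : α, x ≠ y → z ≠ w → ∃ g : G, g • x = z ∧ g • y = w := by
    intro x y z w hxy hzw
    obtain ⟨r, hrx, hry⟩ := hthird x y
    obtain ⟨r', hrz, hrw⟩ := hthird z w
    obtain ⟨g, h1, h2, -⟩ := Cfsg.Agent.S0728.trans3 h3 hxy hry.symm hrx.symm hzw hrw.symm hrz.symm
    exact ⟨g, h1, h2⟩
  have h3pt : ∀ g : G, ∀ x y z : α, x ≠ y → y ≠ z → x ≠ z → g • x = x → g • y = y → g • z = z →
      g = 1 := by
    intro g x y z hxy hyz hxz h1 h2 h3'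
    exact Cfsg.Agent.S0728.fix3 hsharp hxy hyz hxz g h1 h2 h3'
  set H : Subgroup G := stabilizer G a ⊓ stabilizer G b with hH
  have hmem : ∀ g : G, g ∈ H ↔ g • a = a ∧ g • b = b := by
    intro g
    rw [hH, Subgroup.mem_inf, mem_stabilizer_iff, mem_stabilizer_iff]
  -- |H| = n - 2
  have hcardH : Nat.card H + 2 = Fintype.card α := by
    have hbij : Function.Bijective
        (fun h : ↥H => (⟨(h : G) • c, by
          constructor
          · intro h1
            have := ((hmem h).1 h.2).1
            exact hac (sinj (h : G) (this.trans h1.symm))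
          · intro h1
            have := ((hmem h).1 h.2).2
            exact hbc (sinj (h : G) (this.trans h1.symm))⟩ : {x : α // x ≠ a ∧ x ≠ b})) := by
      constructor
      · intro h h' hh
        have h1 : (h : G) • c = (h' : G) • c := congrArg Subtype.val hh
        have h2 : (h' : G)⁻¹ * h = 1 := by
          apply h3pt _ a b c hab hbc hac
          · rw [mul_smul, ((hmem h).1 h.2).1, inv_smul_eq_iff, ((hmem h').1 h'.2).1]
          · rw [mul_smul, ((hmem h).1 h.2).2, inv_smul_eq_iff, ((hmem h').1 h'.2).2]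
          · rw [mul_smul, h1, inv_smul_smul]
        apply Subtype.ext
        exact (inv_mul_eq_one.1 h2).symm
      · rintro ⟨d, hda, hdb⟩
        obtain ⟨g, h1, h2, h3'⟩ := Cfsg.Agent.S0728.trans3 h3 hab hbc hac hab hdb.symm hda.symm
        exact ⟨⟨g, (hmem g).2 ⟨h1, h2⟩⟩, Subtype.ext h3'⟩
    have h1 := Nat.card_congr (Equiv.ofBijective _ hbij)
    rw [h1, Nat.card_eq_fintype_card]
    have h2 : Fintype.card {x : α // x ≠ a ∧ x ≠ b} = Fintype.card α - 2 := by
      rw [Fintype.card_subtype]
      have : (Finset.univ.filter (fun x : α => x ≠ a ∧ x ≠ b)) = Finset.univ \ {a, b} := by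
        ext x
        simp
      rw [this, Finset.card_sdiff_of_subset (Finset.subset_univ _), Finset.card_univ,
        Finset.card_pair hab]
    rw [h2]
    omega
  -- a nontrivial element of H
  obtain ⟨h₁, hh₁, hh₁1⟩ : ∃ h₁ : G, h₁ ∈ H ∧ h₁ ≠ 1 := by
    have hcard1 : 1 < Nat.card H := by omega
    haveI : Finite ↥H := Nat.finite_of_card_ne_zero (by omega)
    haveI : Nontrivial ↥H := (Finite.one_lt_card_iff_nontrivial).1 hcard1
    obtain ⟨x, hx⟩ := exists_ne (1 : ↥H)
    exact ⟨x, x.2, fun h => hx (Subtype.ext h)⟩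
  obtain ⟨F, hFle, hFn, hreg, -⟩ := Cfsg.Agent.Helper29.ZassHalf.exists_regular_normal (G := ↥G)
    hab h2t h3pt inferInstance H hmem hh₁ hh₁1
  have hFcard := Cfsg.Agent.Lib.Helper3.ZassAb.kernel_card hab F hFle hreg
  have hFfix := Cfsg.Agent.Lib.Helper3.ZassAb.kernel_fix F hreg
  -- the ambient group
  have hHle : H ≤ stabilizer G a := inf_le_left
  set K : Subgroup ↥(stabilizer G a) := F.subgroupOf (stabilizer G a) with hK
  set Hs : Subgroup ↥(stabilizer G a) := H.subgroupOf (stabilizer G a) with hHs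
  haveI : K.Normal := hFn
  have hfpf : ∀ h ∈ Hs, h ≠ 1 → K ⊓ Subgroup.centralizer {h} = ⊥ := by
    intro h hh hh1
    rw [Subgroup.eq_bot_iff_forall]
    intro k hk
    obtain ⟨hkK, hkc⟩ := Subgroup.mem_inf.1 hk
    rw [Subgroup.mem_centralizer_singleton_iff] at hkc
    by_contra hk1
    have hkF : ((k : ↥(stabilizer G a)) : G) ∈ F := Subgroup.mem_subgroupOf.1 hkK
    have hk1' : ((k : ↥(stabilizer G a)) : G) ≠ 1 := fun h0 => hk1 (Subtype.ext h0)
    have hhH : ((h : ↥(stabilizer G a)) : G) ∈ H := Subgroup.mem_subgroupOf.1 hh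
    obtain ⟨hha, hhb⟩ := (hmem _).1 hhH
    have hka : ((k : ↥(stabilizer G a)) : G) • a = a := hFle hkF
    have hkb : ((k : ↥(stabilizer G a)) : G) • b ≠ b := by
      intro h0
      exact hab.symm (hFfix _ hkF hk1' b h0)
    have hkba : ((k : ↥(stabilizer G a)) : G) • b ≠ a := by
      intro h0
      apply hab
      apply sinj ((k : ↥(stabilizer G a)) : G)
      rw [hka, h0]
    have hcomm : ((h : ↥(stabilizer G a)) : G) * (k : G) = (k : G) * (h : G) := by
      have := congrArg Subtype.val hkc.symm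
      simpa using this
    apply hh1
    apply Subtype.ext
    apply h3pt _ a b (((k : ↥(stabilizer G a)) : G) • b) hab hkb.symm hkba.symm hha hhb
    rw [← mul_smul, hcomm, mul_smul, hhb]
  have hcardHs : Nat.card Hs = Nat.card H :=
    Nat.card_congr (Subgroup.subgroupOfEquivOfLe hHle).toEquiv
  have hcardK : Nat.card K = Nat.card F :=
    Nat.card_congr (Subgroup.subgroupOfEquivOfLe hFle).toEquiv
  have hcard : Nat.card Hs + 1 = Nat.card K := by
    rw [hcardHs, hcardK, hFcard]
    omega
  have hevenH : Even (Nat.card Hs) := by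
    rw [hcardHs]
    obtain ⟨r, hr⟩ := heven
    exact ⟨r - 1, by omega⟩
  have h3' : ∀ A B : Subgroup ↥Hs, Nat.card A = 3 → Nat.card B = 3 → A = B := by
    intro A B hA hB
    let ι : ↥Hs →* ↥G := (stabilizer G a).subtype.comp Hs.subtype
    have hι : Function.Injective ι :=
      (Subgroup.subtype_injective _).comp (Subgroup.subtype_injective _)
    have hle : ∀ X : Subgroup ↥Hs, X.map ι ≤ stabilizer G a ⊓ stabilizer G b := by
      intro X
      rintro _ ⟨x, -, rfl⟩
      exact Subgroup.mem_subgroupOf.1 x.2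
    have := Cfsg.Agent.S0728.result heven h6 G h3 hsharp hab (A.map ι) (B.map ι) (hle A) (hle B)
      (by rw [Subgroup.card_map_of_injective hι, hA])
      (by rw [Subgroup.card_map_of_injective hι, hB])
    exact Subgroup.map_injective hι this
  haveI : Finite ↥(stabilizer G a) := inferInstance
  obtain ⟨Y₀, hY₀⟩ := partB K Hs hfpf hcard hevenH h3'
  -- transport to H
  let ε : ↥Hs ≃* ↥H := Subgroup.subgroupOfEquivOfLe hHle
  have hY₁ : (Y₀.map (ε : ↥Hs →* ↥H)).index = 2 := by
    rw [Subgroup.index_map_equiv, hY₀]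
  -- the automorphism induced by s
  have hss : s * s = 1 := by
    apply h3pt _ a b c hab hbc hac
    · rw [mul_smul, hsa, hsb]
    · rw [mul_smul, hsb, hsa]
    · rw [mul_smul, hsc, hsc]
  have hsinv : s⁻¹ = s := inv_eq_of_mul_eq_one_left hss
  have hsH : ∀ h ∈ H, s * h * s⁻¹ ∈ H := by
    intro h hh
    obtain ⟨hha, hhb⟩ := (hmem h).1 hh
    rw [hmem, hsinv]
    constructor
    · rw [mul_smul, mul_smul, hsa, hhb, hsb]
    · rw [mul_smul, mul_smul, hsb, hha, hsa]
  let τ : ↥H ≃* ↥H :=
    { toFun := fun h => ⟨s * h * s⁻¹, hsH h h.2⟩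
      invFun := fun h => ⟨s * h * s⁻¹, hsH h h.2⟩
      left_inv := fun h => by
        apply Subtype.ext
        show s * (s * (h : G) * s⁻¹) * s⁻¹ = h
        rw [hsinv]
        calc s * (s * (h : G) * s) * s = (s * s) * h * (s * s) := by group
          _ = h := by rw [hss, one_mul, mul_one]
      right_inv := fun h => by
        apply Subtype.ext
        show s * (s * (h : G) * s⁻¹) * s⁻¹ = h
        rw [hsinv]
        calc s * (s * (h : G) * s) * s = (s * s) * h * (s * s) := by group
          _ = h := by rw [hss, one_mul, mul_one]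
      map_mul' := fun h h' => by
        apply Subtype.ext
        show s * ((h : G) * (h' : G)) * s⁻¹ = (s * (h : G) * s⁻¹) * (s * (h' : G) * s⁻¹)
        group }
  have hτ : ∀ x, τ (τ x) = x := fun x => τ.left_inv x
  haveI : Finite ↥H := Nat.finite_of_card_ne_zero (by omega)
  obtain ⟨Y₂, hY₂, hY₂τ⟩ := exists_invariant_index_two τ hτ ⟨_, hY₁⟩
  refine ⟨Y₂.map H.subtype, Subgroup.map_subtype_le Y₂, ?_, ?_, ?_⟩
  · have : (Y₂.map H.subtype).subgroupOf H = Y₂ :=
      Subgroup.comap_map_eq_self_of_injective H.subtype_injective Y₂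
    rw [this]
    exact Subgroup.normal_of_index_eq_two hY₂
  · have : (Y₂.map H.subtype).subgroupOf H = Y₂ :=
      Subgroup.comap_map_eq_self_of_injective H.subtype_injective Y₂
    show ((Y₂.map H.subtype).subgroupOf H).index = 2
    rw [this, hY₂]
  · rintro _ ⟨y, hy, rfl⟩
    exact ⟨τ y, hY₂τ y hy, rfl⟩

end Cfsg.Agent.S0729
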