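import Mathlib
import Cfsg.Statements.S0732
import Cfsg.Agent.Lib.Helper3.PP1C
import Cfsg.Agent.Lib.Helper3.PP1F
import Cfsg.Agent.Lib.Helper3.PP1G

set_option autoImplicit false
open Cfsg

namespace Cfsg.Agent.S0732

open Cfsg.Agent.Lib.Helper3.PP1

/-- A transitive permutation group on `p + 1` points (`p` prime) of order `(p+1) p d` with `d < p` is isomorphic to `PGL(2,p)` with `d = p - 1`, or to `PSL(2,p)` with `2d = p - 1`, or else `p + 1 = 2^q` for a prime `q`, `d = 1` or `d = q`, and the group is permutation-isomorphic to a group of semi-affine maps `x ↦ a φ(x) + b` of the field with `2^q` elements. -/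
theorem result {α : Type*} [Fintype α] [DecidableEq α] {p d : ℕ} (hp : p.Prime) (hα : Fintype.card α = p + 1) (G : Subgroup (Equiv.Perm α)) [MulAction.IsPretransitive G α] (hG : Nat.card G = (p + 1) * p * d) (hd : d < p) : (d = p - 1 ∧ Nonempty (G ≃* Matrix.ProjGenLinGroup (Fin 2) (ZMod p))) ∨ (2 * d = p - 1 ∧ Nonempty (G ≃* Matrix.ProjectiveSpecialLinearGroup (Fin 2) (ZMod p))) ∨ (∃ q : ℕ, q.Prime ∧ p + 1 = 2 ^ q ∧ (d = 1 ∨ d = q) ∧ ∃ e : α ≃ GaloisField 2 q, ∀ g : G, (e.symm.trans (((g : Equiv.Perm α)).trans e)) ∈ Cfsg.semiaffineGroup (GaloisField 2 q)) := by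
  have H : Hyp G α p d := by
    refine ⟨fun g hg => ?_, fun x y => MulAction.exists_smul_eq G x y, hp, ?_, hG, hd⟩
    · apply Subtype.ext
      apply Equiv.ext
      intro x
      exact hg x
    · rw [Nat.card_eq_fintype_card]
      exact hα
  by_cases hp2 : p = 2
  · subst hp2
    left
    obtain ⟨h1, h2⟩ := H.case_two
    exact ⟨by omega, h2⟩
  · by_cases hreg : HasRegNormal G α
    · right
      right
      obtain ⟨R, hRn, hRt, hRs⟩ := hreg
      obtain ⟨q, hq, hpq, hdq, e, he⟩ := regular_case H hp2 R hRn hRt hRs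
      refine ⟨q, hq, hpq, hdq, e, fun g => ?_⟩
      obtain ⟨a, b, φ, h⟩ := he g
      exact ⟨a, b, φ, fun x => h x⟩
    · rcases zass_case H hp2 hreg with ⟨hd1, h3, hsharp⟩ | ⟨hd2, he⟩
      · left
        exact ⟨hd1, H.sharp3_case hp2 hreg hd1 h3 hsharp⟩
      · right
        left
        exact ⟨hd2, he⟩

end Cfsg.Agent.S0732
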