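import Mathlib
import Cfsg.Statements.S0626
import Cfsg.Agent.H5.SL2Stable
import Cfsg.Agent.H5.ActionPStable

set_option autoImplicit false
open Cfsg

namespace Cfsg.Agent.S0626

universe u

/-- groups with abelian Sylow `2`-subgroups are `AutStable` for odd `p` -/
theorem autStable_of_comm {Γ : Type u} [Group Γ] [Finite Γ] {p : ℕ} [Fact p.Prime] (hp : p ≠ 2)
    (T : Sylow 2 Γ) (hT : IsMulCommutative T) : Cfsg.H5.APS.AutStable p Γ := by
  intro A _ _ hcomm hexp σ a hq C _ hC
  exact Cfsg.H5.SL2S.aut_pstable hp hcomm hexp σ a hq T hT C hC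

/-- For odd p, groups whose Sylow 2-subgroups are abelian are p-stable in the action sense. -/
theorem result {G : Type*} [Group G] [Finite G] {p : ℕ} [Fact p.Prime] (hp : p ≠ 2) (hab : ∀ T : Sylow 2 G, IsMulCommutative T) : Cfsg.IsActionPStable p G := by
  obtain ⟨T⟩ : Nonempty (Sylow 2 G) := inferInstance
  refine Cfsg.H5.APS.isActionPStable_of_autStable (autStable_of_comm hp T (hab T)) ?_
  intro N
  obtain ⟨T'⟩ : Nonempty (Sylow 2 N) := inferInstance
  refine autStable_of_comm hp T' ?_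
  have hP : IsPGroup 2 ((T' : Subgroup N).map N.subtype) := T'.2.map _
  have hcomm := Cfsg.Agent.S0595.comm_of_two_subgroup T (hab T) _ hP
  refine ⟨⟨fun u v => ?_⟩⟩
  have h1 := hcomm _ ⟨u, u.2, rfl⟩ _ ⟨v, v.2, rfl⟩
  rw [← map_mul, ← map_mul] at h1
  have h2 := Subgroup.subtype_injective N h1
  exact Subtype.ext h2

end Cfsg.Agent.S0626
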