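import Cfsg.Statements.S2795
import Cfsg.Agent.Lib.Helper20.QdStable
import Cfsg.Agent.Lib.Helper20.QdNot
import Cfsg.Agent.Lib.Helper20.NPSRed

set_option autoImplicit false
open Cfsg

namespace Cfsg.Agent.S2795

/-- For an odd prime p and a finite group G, the group Qd(p) is not involved in G if and only if every section of G is p-stable in the normalizer form (for every p-subgroup P of the section and every g in its normalizer acting quadratically on P, the image of g in N(P)/C(P) lies in O_p(N(P)/C(P))). -/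
theorem result {G : Type*} [Group G] [Finite G] {p : ℕ} [Fact p.Prime] (hp : p ≠ 2) : ¬ Cfsg.Involves ↥(Cfsg.qd p) G ↔ ∀ (K R : Subgroup G) [hR : (R.subgroupOf K).Normal], Cfsg.IsNormalizerPStable p (K ⧸ R.subgroupOf K) := by
  constructor
  · intro hfree K R hR
    apply Cfsg.H5.NPS.nps_of_inOp
    intro Q hQ g hg hq
    by_contra hno
    apply hfree
    haveI hQn' : (Q.subgroupOf (Subgroup.normalizer (Q : Set (↥K ⧸ R.subgroupOf K)))).Normal :=
      Subgroup.normal_in_normalizer
    have hQp' : IsPGroup p ↥(Q.subgroupOf (Subgroup.normalizer (Q : Set (↥K ⧸ R.subgroupOf K)))) :=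
      hQ.comap_subtype
    have hno' : ¬ Cfsg.H5.PSt.InOp p
        (Q.subgroupOf (Subgroup.normalizer (Q : Set (↥K ⧸ R.subgroupOf K)))) ⟨g, hg⟩ :=
      fun h => hno (Cfsg.Agent.Lib.Helper20.NPR.inOp_of_subtype Q g hg h)
    have h1 := Cfsg.Agent.Lib.Helper20.QdSt.involves_qd_of_not_inOp hp
      (Q.subgroupOf (Subgroup.normalizer (Q : Set (↥K ⧸ R.subgroupOf K)))) hQp' ⟨g, hg⟩
      (Cfsg.Agent.Lib.Helper20.NPR.quad_subtype Q g hg hq) hno'
    have h2 : Cfsg.Involves (↥K ⧸ R.subgroupOf K) G := ⟨K, R, hR, ⟨MulEquiv.refl _⟩⟩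
    exact Cfsg.Agent.Lib.Helper27.involves_trans h1
      (Cfsg.Agent.Lib.Helper27.involves_subgroup _ h2)
  · intro h hinv
    obtain ⟨K, R, hR, ⟨e⟩⟩ := hinv
    exact Cfsg.Agent.Lib.Helper20.QdN.not_nps_of_equiv e (h K R)

end Cfsg.Agent.S2795
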