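import Cfsg.Statements.S1304
import Mathlib.Tactic

set_option autoImplicit false
open Cfsg

namespace Cfsg.Agent.S1304

/-- the homomorphism `x ↦ α x * x⁻¹` -/
def centralHom {X : Type*} [Group X] (α : X ≃* X)
    (h : ∀ x : X, α x * x⁻¹ ∈ Subgroup.center X) : X →* X where
  toFun := fun x => α x * x⁻¹
  map_one' := by simp
  map_mul' := by
    intro x y
    simp only [map_mul, mul_inv_rev]
    have hy := (Subgroup.mem_center_iff.mp (h y)) (x⁻¹)
    calc α x * α y * (y⁻¹ * x⁻¹) = α x * ((α y * y⁻¹) * x⁻¹) := by group
      _ = α x * (x⁻¹ * (α y * y⁻¹)) := by rw [hy]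
      _ = α x * x⁻¹ * (α y * y⁻¹) := by group

/-- Let X be a perfect group and α an automorphism of X with α(x) x⁻¹ central for every x. Then α is the identity. -/
theorem result {X : Type*} [Group X] (hperf : commutator X = ⊤) (α : X ≃* X) (h : ∀ x : X, α x * x⁻¹ ∈ Subgroup.center X) : ∀ x : X, α x = x := by
  have hker : commutator X ≤ (centralHom α h).ker := by
    rw [commutator_def, Subgroup.commutator_le]
    intro a _ b _
    rw [MonoidHom.mem_ker, map_commutatorElement, commutatorElement_def]
    have hb : centralHom α h a ∈ Subgroup.center X := h a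
    have := (Subgroup.mem_center_iff.mp hb) (centralHom α h b)
    rw [← this]; group
  intro x
  have hx : x ∈ (centralHom α h).ker := hker (by rw [hperf]; trivial)
  rw [MonoidHom.mem_ker] at hx
  exact mul_inv_eq_one.mp hx

end Cfsg.Agent.S1304
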