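import Cfsg.Statements.S1301
import Cfsg.Agent.Lib.Helper23.L2BalF
import Cfsg.Agent.Lib.Helper23.BBal6

set_option autoImplicit false
open Cfsg

namespace Cfsg.Agent.S1301

/-- L-balance: for a finite group X and a 2-subgroup T ≤ X, L_{2'}(C_X(T)) ≤ L_{2'}(X). -/
theorem result {X : Type*} [Group X] [Finite X] (T : Subgroup X) (hT : IsPGroup 2 ↥T) : (Cfsg.pLayer 2 ↥(Subgroup.centralizer (T : Set X))).map (Subgroup.centralizer (T : Set X)).subtype ≤ Cfsg.pLayer 2 X := by
  classical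
  have hCN : Subgroup.centralizer (T : Set X) ≤ Subgroup.normalizer (T : Set X) :=
    Subgroup.centralizer_le_normalizer _
  have hNC : Subgroup.normalizer (T : Set X) ≤
      Subgroup.normalizer ((Subgroup.centralizer (T : Set X) : Subgroup X) : Set X) := by
    intro n hn
    apply Cfsg.Agent.Lib.Helper23.L2Bal.mem_normalizer_of_forall_conj_mem
    intro c hc
    exact Cfsg.Agent.Lib.Helper23.L2Bal.conj_mem_centralizer_of_mem_normalizer hn hc
  have hSN : Cfsg.Agent.Lib.Helper23.BBal.SN (Subgroup.centralizer (T : Set X))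
      (Subgroup.normalizer (T : Set X)) := Cfsg.Agent.Lib.Helper23.BBal.SN.of_normal hCN hNC
  show Cfsg.Agent.Lib.Helper23.BBal.pLayerIn 2 (Subgroup.centralizer (T : Set X)) ≤ Cfsg.pLayer 2 X
  apply Cfsg.Agent.Lib.Helper23.BBal.pLayerIn_le_of_forall
  intro J' hJ'
  have h1 : Cfsg.Agent.Lib.Helper23.BBal.RPC 2
      (J'.map (Subgroup.centralizer (T : Set X)).subtype) (Subgroup.centralizer (T : Set X)) :=
    Cfsg.Agent.Lib.Helper23.BBal.RPC_map_subtype_iff.mpr hJ'
  have h2 := h1.extend hSN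
  obtain ⟨h3, h4⟩ := Cfsg.Agent.Lib.Helper23.BBal.RPC_iff.mp h2
  have h5 := Cfsg.Agent.Lib.Helper23.L2Bal.pcomp_normalizer_le_pLayer_two hT h4
  rw [Subgroup.subgroupOf_map_subtype, inf_eq_left.mpr h3] at h5
  exact h5

end Cfsg.Agent.S1301
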