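import Mathlib
import Cfsg.Statements.S2202
import Cfsg.Agent.Lib.Helper21.SuzG
import Cfsg.Agent.Lib.Helper7.Beta5
import Cfsg.Agent.Lib.Helper25.SuzAlpha
import Cfsg.Agent.Lib.Helper13.S2202Case2

set_option autoImplicit false
open Cfsg

namespace Cfsg.Agent.S2202

open Subgroup Cfsg.Agent.Lib.Helper21.Suz

universe u

theorem main_ind : ∀ n : ℕ, ∀ (G : Type u) [Group G] [Finite G], Nat.card G = n → ICA G →
    ∀ P : Sylow 2 G, ¬ IsCyclic (P : Subgroup G) → ¬ (P : Subgroup G).Normal → Good G := by
  intro n
  induction n using Nat.strong_induction_on with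
  | _ n ih =>
    intro G _ _ hn h P hnc hnn
    have IH : IHyp G := by
      intro H _ _ hlt hH Q hQc hQn
      exact ih (Nat.card H) (hn ▸ hlt) H rfl hH Q hQc hQn
    by_cases hgen : (⨆ Q : Sylow 2 G, (Q : Subgroup G)) = ⊤
    · have hcore := Cfsg.Agent.Lib.Helper13.S2202Case2.case2 IH h P hnc hnn hgen
      by_cases hβ : ∀ (Q : Sylow 2 G) (c : G), c ≠ 1 → Odd (orderOf c) →
          (∀ x ∈ Q, c * x = x * c) →
          Subgroup.centralizer ({c} : Set G) ≤ Subgroup.normalizer ((Q : Subgroup G) : Set G)
      · exact good_of_bsw (Cfsg.Agent.Lib.Helper7.beta_case h P hnc hnn hcore hβ)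
      · exfalso
        push Not at hβ
        obtain ⟨Q, c, hc1, hcodd, hcQ, hcM⟩ := hβ
        exact Cfsg.Agent.Lib.Helper25.SuzAlpha.alpha_case IH h Q (not_cyclic_sylow P Q hnc)
          (not_normal_sylow P Q hnn) (normalCore_normalizer_eq P Q ▸ hcore) c hc1 hcodd hcQ hcM
    · exact case1 IH h P hnc hnn hgen

/-- Finite groups in which the centralizer of every involution is abelian. Let G be a finite group of even order in which the centralizer of every element of order 2 is abelian. Then the Sylow 2-subgroups of G are cyclic, or a Sylow 2-subgroup of G is normal, or G is isomorphic to the direct product of SL₂(F) for a finite field F of characteristic two and an abelian group of odd order. -/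
theorem result {G : Type*} [Group G] [Finite G] (heven : Even (Nat.card G)) (h : ∀ t : G, orderOf t = 2 → IsMulCommutative ↥(Subgroup.centralizer ({t} : Set G))) :
    (∀ P : Sylow 2 G, IsCyclic ↥P) ∨ (∀ P : Sylow 2 G, (P : Subgroup G).Normal) ∨
    (∃ (F : Type) (_ : Field F) (_ : Fintype F) (A : Type) (_ : CommGroup A) (_ : Finite A), CharP F 2 ∧ Odd (Nat.card A) ∧ Nonempty (G ≃* Matrix.SpecialLinearGroup (Fin 2) F × A)) := by
  by_cases h1 : ∀ P : Sylow 2 G, IsCyclic ↥P
  · exact Or.inl h1
  · by_cases h2 : ∀ P : Sylow 2 G, (P : Subgroup G).Normal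
    · exact Or.inr (Or.inl h2)
    · right; right
      push Not at h1 h2
      obtain ⟨P, hP⟩ := h1
      obtain ⟨Q, hQ⟩ := h2
      have hica := ICA_of_isMulCommutative h
      have hPn := not_normal_sylow Q P hQ
      exact final_of_good (main_ind _ G rfl hica P hP hPn) P hP hPn

end Cfsg.Agent.S2202
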