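import Cfsg.Statements.S0107
import Cfsg.Agent.S0111
import Cfsg.Agent.Lib.Helper17.PResidual

set_option autoImplicit false
open Pointwise
open Cfsg

namespace Cfsg.Agent.S0107

open DihedralGroup

/-- the "determinant" of the dihedral group: rotations to 1, reflections to -1 -/
def dsign (m : ℕ) : DihedralGroup m →* ℤˣ where
  toFun x := match x with
    | r _ => 1
    | sr _ => -1
  map_one' := rfl
  map_mul' := by
    rintro (i | i) (j | j) <;> simp [r_mul_r, r_mul_sr, sr_mul_r, sr_mul_sr]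

lemma dsign_surjective (m : ℕ) : Function.Surjective (dsign m) := by
  intro x
  rcases Int.units_eq_one_or x with h | h
  · exact ⟨r 0, h ▸ rfl⟩
  · exact ⟨sr 0, h ▸ rfl⟩

/-- a rotation of order two in the dihedral group of order `2 * 2 ^ n` is the half turn -/
lemma rot_invol_val (n : ℕ) (hn : 1 ≤ n) (i : ZMod (2 ^ n)) (hi : orderOf (r i) = 2) :
    i.val = 2 ^ (n - 1) := by
  haveI : NeZero (2 ^ n) := ⟨pow_ne_zero _ (by norm_num)⟩
  have h2 : (r i) ^ 2 = 1 := by
    have := pow_orderOf_eq_one (r i)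
    rwa [hi] at this
  have hne : r i ≠ 1 := by
    intro h
    rw [h, orderOf_one] at hi
    norm_num at hi
  rw [r_pow, one_def] at h2
  have hi2 : i * ((2 : ℕ) : ZMod (2 ^ n)) = 0 := by
    injection h2
  have hi0 : i ≠ 0 := by
    rintro rfl
    exact hne r_zero
  have hval0 : i.val ≠ 0 := fun h => hi0 ((ZMod.val_eq_zero i).1 h)
  have hlt : i.val < 2 ^ n := ZMod.val_lt i
  have hcast : ((i.val * 2 : ℕ) : ZMod (2 ^ n)) = 0 := by
    push_cast
    rw [ZMod.natCast_zmod_val]
    exact hi2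
  have hdvd : 2 ^ n ∣ i.val * 2 := (ZMod.natCast_eq_zero_iff _ _).1 hcast
  obtain ⟨k, rfl⟩ : ∃ k, n = k + 1 := ⟨n - 1, by omega⟩
  simp only [Nat.add_sub_cancel]
  have hdvd' : 2 ^ k * 2 ∣ i.val * 2 := by rw [← pow_succ]; exact hdvd
  have hlt' : i.val < 2 ^ k * 2 := by rw [← pow_succ]; exact hlt
  have hd2 : 2 ^ k ∣ i.val := (Nat.mul_dvd_mul_iff_right (by norm_num)).1 hdvd'
  obtain ⟨c, hc⟩ := hd2
  have hpos : 0 < 2 ^ k := pow_pos (by norm_num) k
  have hc1 : c = 1 := by
    have h1 : c ≠ 0 := by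
      rintro rfl
      rw [Nat.mul_zero] at hc
      exact hval0 hc
    have h3 : c < 2 := by
      by_contra h
      push_neg at h
      have : 2 ^ k * 2 ≤ 2 ^ k * c := Nat.mul_le_mul_left _ h
      omega
    omega
  rw [hc, hc1, mul_one]

/-- A finite group with no nontrivial 2-group quotient and dihedral Sylow 2-subgroups of order at least 8 has a single class of involutions. -/
theorem result {G : Type*} [Group G] [Finite G] (T : Sylow 2 G) (n : ℕ) (hn : 2 ≤ n) (hT : Nonempty ((T : Subgroup G) ≃* DihedralGroup (2 ^ n))) (hO : Cfsg.pResidual 2 G = ⊤) (x y : G) (hx : orderOf x = 2) (hy : orderOf y = 2) : ∃ g : G, g * x * g⁻¹ = y := by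
  classical
  haveI : Fact (Nat.Prime 2) := ⟨Nat.prime_two⟩
  obtain ⟨e⟩ := hT
  -- the cyclic maximal subgroup of T, as a subgroup of G
  let ψ : (T : Subgroup G) →* ℤˣ := (dsign (2 ^ n)).comp e.toMonoidHom
  have hψs : Function.Surjective ψ := (dsign_surjective _).comp e.surjective
  let Q : Subgroup G := ψ.ker.map (T : Subgroup G).subtype
  have hQT : Q ≤ (T : Subgroup G) := Subgroup.map_subtype_le _
  have hQi : Q.relIndex (T : Subgroup G) = 2 := by
    change (Q.subgroupOf (T : Subgroup G)).index = 2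
    have : Q.subgroupOf (T : Subgroup G) = ψ.ker :=
      Subgroup.comap_map_eq_self_of_injective (Subgroup.subtype_injective _) _
    rw [this, Subgroup.index_ker, MonoidHom.range_eq_top.2 hψs, Subgroup.card_top]
    simp
  have memQ : ∀ t : (T : Subgroup G), (t : G) ∈ Q ↔ ψ t = 1 := by
    intro t
    constructor
    · rintro ⟨s, hs, hst⟩
      have : s = t := Subtype.ext hst
      rw [← this]; exact hs
    · intro h
      exact ⟨t, h, rfl⟩
  -- involutions of Q are unique
  have huniq : ∀ w₁ ∈ Q, ∀ w₂ ∈ Q, orderOf w₁ = 2 → orderOf w₂ = 2 → w₁ = w₂ := by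
    intro w₁ h₁ w₂ h₂ o₁ o₂
    have key : ∀ w ∈ Q, orderOf w = 2 → ∃ t : (T : Subgroup G), (t : G) = w ∧
        ∃ i : ZMod (2 ^ n), e t = r i ∧ i.val = 2 ^ (n - 1) := by
      intro w hw ow
      obtain ⟨t, ht, rfl⟩ := hw
      refine ⟨t, rfl, ?_⟩
      have hψt : ψ t = 1 := ht
      have hot : orderOf (e t) = 2 :=
        ((MulEquiv.orderOf_eq e t).trans (Subgroup.orderOf_coe t).symm).trans ow
      cases het : e t with
      | r i =>
        refine ⟨i, rfl, ?_⟩
        rw [het] at hot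
        exact rot_invol_val n (by omega) i hot
      | sr i =>
        exfalso
        have : ψ t = -1 := by
          change dsign (2 ^ n) (e t) = -1
          rw [het]; rfl
        rw [hψt] at this
        exact absurd this (by decide)
    obtain ⟨t₁, ht₁, i₁, hi₁, hv₁⟩ := key w₁ h₁ o₁
    obtain ⟨t₂, ht₂, i₂, hi₂, hv₂⟩ := key w₂ h₂ o₂
    have : i₁ = i₂ := ZMod.val_injective _ (hv₁.trans hv₂.symm)
    have : e t₁ = e t₂ := by rw [hi₁, hi₂, this]
    have : t₁ = t₂ := e.injective this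
    rw [← ht₁, ← ht₂, this]
  -- there is no normal subgroup of index two
  have hno : ¬ ∃ M : Subgroup G, M.Normal ∧ M.index = 2 ∧ True := by
    rintro ⟨M, hM, hMi, -⟩
    haveI := hM
    have hpq : IsPGroup 2 (G ⧸ M) := by
      rw [IsPGroup.iff_card]
      exact ⟨1, by rw [← Subgroup.index_eq_card, hMi, pow_one]⟩
    have := Cfsg.Agent.Lib.Helper17.pResidual_le_of_quotient_isPGroup hpq
    rw [hO, top_le_iff] at this
    rw [this, Subgroup.index_top] at hMi
    norm_num at hMi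
  -- every involution of T is conjugate to an involution of Q
  have hTQ : ∀ v ∈ (T : Subgroup G), orderOf v = 2 → ∃ g : G, g * v * g⁻¹ ∈ Q := by
    intro v hv ov
    by_cases hvQ : v ∈ Q
    · exact ⟨1, by simpa using hvQ⟩
    · rcases Cfsg.Agent.S0111.result T Q hQT hQi v ov hv hvQ with ⟨M, hM, hMi, -⟩ | h
      · exact absurd ⟨M, hM, hMi, trivial⟩ hno
      · exact h
  -- every involution of G is conjugate into T
  have hGT : ∀ v : G, orderOf v = 2 → ∃ g : G, g * v * g⁻¹ ∈ (T : Subgroup G) := by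
    intro v ov
    have hpg : IsPGroup 2 (Subgroup.zpowers v) := by
      rw [IsPGroup.iff_card]
      exact ⟨1, by rw [Nat.card_zpowers, ov, pow_one]⟩
    obtain ⟨T', hT'⟩ := hpg.exists_le_sylow
    obtain ⟨g, hg⟩ := MulAction.exists_smul_eq G T T'
    have hv : v ∈ ((g • T : Sylow 2 G) : Subgroup G) := hg ▸ hT' (Subgroup.mem_zpowers v)
    rw [Sylow.coe_subgroup_smul, Subgroup.mem_pointwise_smul_iff_inv_smul_mem] at hv
    refine ⟨g⁻¹, ?_⟩
    simpa [MulAut.smul_def, MulAut.conj_apply] using hv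
  have hconjord : ∀ (g v : G), orderOf (g * v * g⁻¹) = orderOf v := fun g v =>
    (MulAut.conj g).orderOf_eq v
  obtain ⟨a, ha⟩ := hGT x hx
  obtain ⟨b, hb⟩ := hGT y hy
  obtain ⟨a', ha'⟩ := hTQ _ ha ((hconjord a x).trans hx)
  obtain ⟨b', hb'⟩ := hTQ _ hb ((hconjord b y).trans hy)
  have heq := huniq _ ha' _ hb' ((hconjord _ _).trans ((hconjord a x).trans hx))
    ((hconjord _ _).trans ((hconjord b y).trans hy))
  refine ⟨(b' * b)⁻¹ * (a' * a), ?_⟩
  have h1 : a' * (a * x * a⁻¹) * a'⁻¹ = (a' * a) * x * (a' * a)⁻¹ := by group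
  have h2 : b' * (b * y * b⁻¹) * b'⁻¹ = (b' * b) * y * (b' * b)⁻¹ := by group
  rw [h1, h2] at heq
  calc (b' * b)⁻¹ * (a' * a) * x * ((b' * b)⁻¹ * (a' * a))⁻¹
      = (b' * b)⁻¹ * ((a' * a) * x * (a' * a)⁻¹) * (b' * b) := by group
    _ = (b' * b)⁻¹ * ((b' * b) * y * (b' * b)⁻¹) * (b' * b) := by rw [heq]
    _ = y := by group

end Cfsg.Agent.S0107
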