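import Cfsg.Statements.S3225
import Mathlib.GroupTheory.Transfer
import Mathlib.Data.ZMod.QuotientGroup
import Mathlib.Tactic.Group

set_option autoImplicit false
open Cfsg

namespace Cfsg.Agent.S3225

section Aux
open MulAction Subgroup

variable {G : Type*} [Group G]

/-- The sign homomorphism of a subgroup of index two. -/
noncomputable def signHom (S M : Subgroup G) (hM : M.relIndex S = 2) : ↥S →* ℤˣ := by
  classical
  exact MonoidHom.mk' (fun s => if (s : G) ∈ M then 1 else -1) (by
    intro s t
    have hidx : (M.subgroupOf S).index = 2 := hM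
    have key := Subgroup.mul_mem_iff_of_index_two hidx (a := s) (b := t)
    simp only [Subgroup.mem_subgroupOf, Subgroup.coe_mul] at key
    by_cases hs : (s : G) ∈ M <;> by_cases ht : (t : G) ∈ M
    · have : (s : G) * (t : G) ∈ M := key.mpr (by simp [hs, ht])
      simp [hs, ht, this]
    · have : (s : G) * (t : G) ∉ M := fun h => by simpa [hs, ht] using key.mp h
      simp [hs, ht, this]
    · have : (s : G) * (t : G) ∉ M := fun h => by simpa [hs, ht] using key.mp h
      simp [hs, ht, this]
    · have : (s : G) * (t : G) ∈ M := key.mpr (by simp [hs, ht])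
      simp [hs, ht, this])

theorem signHom_apply_of_mem (S M : Subgroup G) (hM : M.relIndex S = 2) (s : ↥S)
    (hs : (s : G) ∈ M) : signHom S M hM s = 1 := by
  simp [signHom, hs]

theorem signHom_apply_of_not_mem (S M : Subgroup G) (hM : M.relIndex S = 2) (s : ↥S)
    (hs : (s : G) ∉ M) : signHom S M hM s = -1 := by
  simp [signHom, hs]

/-- If the transfer into `ℤˣ` takes the value `-1`, there is a subgroup of index two. -/
theorem exists_index_two_of_transfer {A : Subgroup G} [A.FiniteIndex] (ϕ : ↥A →* ℤˣ) (x : G)
    (hx : MonoidHom.transfer ϕ x = -1) : ∃ H : Subgroup G, H.index = 2 := by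
  refine ⟨(MonoidHom.transfer ϕ).ker, ?_⟩
  rw [Subgroup.index_ker]
  have hsurj : Function.Surjective (MonoidHom.transfer ϕ) := by
    intro u
    rcases Int.units_eq_one_or u with rfl | rfl
    · exact ⟨1, map_one _⟩
    · exact ⟨x, hx⟩
  rw [MonoidHom.range_eq_top.mpr hsurj, Subgroup.card_top, Nat.card_eq_fintype_card,
    Fintype.card_units_int]

theorem orderOf_conj' (k z : G) : orderOf (k⁻¹ * z * k) = orderOf z := by
  have := (MulAut.conj k⁻¹).orderOf_eq z
  rwa [MulAut.conj_apply, inv_inv] at this

theorem thompson_general [Finite G] (hG : ∀ H : Subgroup G, H.index ≠ 2) (S : Sylow 2 G)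
    (M : Subgroup G) (hM : M.relIndex (S : Subgroup G) = 2)
    (n : ℕ) (hn : 1 ≤ n) (hord : ∀ y ∈ (S : Subgroup G), y ∉ M → 2 ^ (n - 1) < orderOf y)
    (x : G) (hxn : orderOf x = 2 ^ n) :
    ∃ g : G, g * x * g⁻¹ ∈ M := by
  classical
  by_contra hcon
  push Not at hcon
  letI : Fintype (Quotient (orbitRel (zpowers x) (G ⧸ (S : Subgroup G)))) := Fintype.ofFinite _
  set ϕ := signHom (S : Subgroup G) M hM with hϕ
  obtain ⟨H, hH⟩ : ∃ H : Subgroup G, H.index = 2 := by
    apply exists_index_two_of_transfer ϕ x
    rw [MonoidHom.transfer_eq_prod_quotient_orbitRel_zpowers_quot]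
    -- each factor
    have hl : ∀ q : Quotient (orbitRel (zpowers x) (G ⧸ (S : Subgroup G))),
        Function.minimalPeriod (x • ·) q.out ∣ 2 ^ n := by
      intro q
      rw [← MulAction.pow_smul_eq_iff_minimalPeriod_dvd, ← hxn, pow_orderOf_eq_one, one_smul]
    have hfac : ∀ q : Quotient (orbitRel (zpowers x) (G ⧸ (S : Subgroup G))),
        ϕ ⟨q.out.out⁻¹ * x ^ Function.minimalPeriod (x • ·) q.out * q.out.out,
          QuotientGroup.out_conj_pow_minimalPeriod_mem (S : Subgroup G) x q.out⟩ =
        (-1) ^ Function.minimalPeriod (x • ·) q.out := by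
      intro q
      obtain ⟨j, hjn, hj⟩ := (Nat.dvd_prime_pow Nat.prime_two).mp (hl q)
      have hmem := QuotientGroup.out_conj_pow_minimalPeriod_mem (S : Subgroup G) x q.out
      rcases Nat.eq_zero_or_pos j with rfl | hjpos
      · -- fixed coset
        rw [pow_zero] at hj
        have hnot : q.out.out⁻¹ * x ^ Function.minimalPeriod (x • ·) q.out * q.out.out ∉ M := by
          rw [hj, pow_one]
          have := hcon q.out.out⁻¹
          rwa [inv_inv] at this
        rw [hϕ, signHom_apply_of_not_mem _ _ _ _ hnot, hj, pow_one]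
      · -- longer orbit
        have hin : q.out.out⁻¹ * x ^ Function.minimalPeriod (x • ·) q.out * q.out.out ∈ M := by
          by_contra hnot
          have h1 := hord _ hmem hnot
          rw [orderOf_conj', hj, orderOf_pow, hxn, Nat.gcd_eq_right (pow_dvd_pow 2 hjn),
            Nat.pow_div hjn (by norm_num)] at h1
          have h2 : 2 ^ (n - j) ≤ 2 ^ (n - 1) := Nat.pow_le_pow_right (by norm_num) (by omega)
          omega
        rw [hϕ, signHom_apply_of_mem _ _ _ _ hin, hj]
        have : Even (2 ^ j) := (Nat.even_pow' (by omega)).mpr even_two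
        exact (Even.neg_one_pow this).symm
    rw [Finset.prod_congr rfl (fun q _ => hfac q), Finset.prod_pow_eq_pow_sum]
    -- the sum of the orbit lengths is the index
    have hne : ∀ q : Quotient (orbitRel (zpowers x) (G ⧸ (S : Subgroup G))),
        NeZero (Function.minimalPeriod (x • ·) q.out) := by
      intro q
      refine ⟨fun h0 => ?_⟩
      have := hl q
      rw [h0, zero_dvd_iff] at this
      exact absurd this (by positivity)
    have hsum : ∑ q : Quotient (orbitRel (zpowers x) (G ⧸ (S : Subgroup G))),
        Function.minimalPeriod (x • ·) q.out = (S : Subgroup G).index := by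
      rw [Subgroup.index_eq_card, Nat.card_congr (Subgroup.quotientEquivSigmaZMod (S : Subgroup G) x),
        Nat.card_sigma]
      apply Finset.sum_congr rfl
      intro q _
      rw [Nat.card_zmod]
    rw [hsum]
    have hodd : Odd (S : Subgroup G).index := by
      rw [← Nat.not_even_iff_odd, even_iff_two_dvd]
      exact S.not_dvd_index
    exact hodd.neg_one_pow
  exact hG H hH


end Aux

/-- Let G be a finite group of even order with no subgroup of index 2, S a Sylow 2-subgroup of G and M a subgroup of index 2 in S such that, for some n ≥ 1, every element of S outside M has order greater than 2^(n−1). Then every element of S of order 2ⁿ is conjugate in G to an element of M. -/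
theorem result {G : Type*} [Group G] [Finite G] (hev : Even (Nat.card G))
    (hG : ∀ H : Subgroup G, H.index ≠ 2) (S : Sylow 2 G) (M : Subgroup G) (hMS : M ≤ (S : Subgroup G)) (hM : M.relIndex (S : Subgroup G) = 2)
    (n : ℕ) (hn : 1 ≤ n) (hord : ∀ y ∈ (S : Subgroup G), y ∉ M → 2 ^ (n - 1) < orderOf y)
    (x : G) (hx : x ∈ (S : Subgroup G)) (hxn : orderOf x = 2 ^ n) :
    ∃ g : G, g * x * g⁻¹ ∈ M := by
  exact thompson_general hG S M hM n hn hord x hxn

end Cfsg.Agent.S3225
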