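import Cfsg.Statements.S0848
import Cfsg.Agent.Lib.Helper2.D8Setup
import Cfsg.Agent.Lib.Helper9.Dih.Sylow

set_option autoImplicit false
open Cfsg

namespace Cfsg.Agent.S0848

/-- If a finite group equals its own commutator subgroup and contains an involution whose centralizer is isomorphic to the dihedral group of order 8, then the group has order 168 or 360. -/
theorem result {G : Type*} [Group G] [Finite G] (hperf : commutator G = ⊤) (t : G) (ht : orderOf t = 2) (e : Subgroup.centralizer ({t} : Set G) ≃* DihedralGroup 4) : Nat.card G = 168 ∨ Nat.card G = 360 := by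
  classical
  haveI : Fintype G := Fintype.ofFinite G
  obtain ⟨φ, hφ, hsurj, hcomm⟩ := Cfsg.Agent.Lib.Helper2.D8C.d8_phi t e
  have hT8 : Nat.card (Subgroup.centralizer ({t} : Set G)) = 8 := by
    rw [Nat.card_congr e.toEquiv, DihedralGroup.nat_card]
  have hφ2 := Cfsg.Agent.Lib.Helper2.D8C.d8_phi2 t ht φ hφ hsurj hcomm
  have hn16 := Cfsg.Agent.Lib.Helper2.D8C.d8_not16 t ht φ hφ hsurj hcomm hφ2 hT8
  have h8 : 8 ∣ Nat.card G := by
    rw [← hT8]
    exact Subgroup.card_subgroup_dvd_card _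
  have h16 : Nat.card G % 16 = 8 := by omega
  have hfac : (Nat.card G).factorization 2 = 3 := by
    have hne : Nat.card G ≠ 0 := Nat.card_pos.ne'
    have h3 : 3 ≤ (Nat.card G).factorization 2 :=
      (Nat.prime_two.pow_dvd_iff_le_factorization hne).mp (by simpa using h8)
    have h4 : ¬ 4 ≤ (Nat.card G).factorization 2 := fun h =>
      hn16 (by simpa using (Nat.prime_two.pow_dvd_iff_le_factorization hne).mpr h)
    omega
  haveI : Fact (Nat.Prime 2) := ⟨Nat.prime_two⟩
  obtain ⟨S, hS⟩ : ∃ S : Sylow 2 G, (S : Subgroup G) = Subgroup.centralizer ({t} : Set G) :=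
    ⟨Sylow.ofCard _ (by rw [hT8, hfac]; norm_num), Sylow.coe_ofCard _ _⟩
  have e' : (S : Subgroup G) ≃* DihedralGroup (2 ^ 2) := (MulEquiv.subgroupCongr hS).trans e
  have hall : ∀ a b : G, orderOf a = 2 → orderOf b = 2 → IsConj a b := fun a b ha hb =>
    Cfsg.Agent.Lib.Helper9.Dih.all_isConj_of_no_index_two S e' (by norm_num)
      (Cfsg.Agent.Lib.Helper2.D8C.no_index_two_of_perfect hperf) a b ha hb
  exact Cfsg.Agent.Lib.Helper2.D8C.order_of_group t (φ (DihedralGroup.r 1)) ht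
    (Cfsg.Agent.Lib.Helper2.D8C.d8_order_s φ hφ)
    (Cfsg.Agent.Lib.Helper2.D8C.d8_s_sq t φ hφ2) hT8
    (Cfsg.Agent.Lib.Helper2.D8C.d8_cent_s t φ hφ hsurj hφ2)
    (Cfsg.Agent.Lib.Helper2.D8C.d8_conj_s φ)
    (fun y hy => hall t y ht hy)
    (Cfsg.Agent.Lib.Helper2.D8C.d8_count t φ hφ hsurj hφ2) hperf h16

end Cfsg.Agent.S0848
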