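import Cfsg.Statements.S1122
import Cfsg.Agent.Lib.Helper8.RankOne4

set_option autoImplicit false
open Cfsg

namespace Cfsg.Agent.S1122

open Subgroup MulAction Cfsg.Agent.Lib.Helper8

/-- In the rank-one set-up, with `K` the set of elements of `D` inverted by `t`: `|K|` is the number of involutions of `G_a`, and for each involution `s` of `G_a` the `K`-conjugates of `s` are all the involutions of `G_a`. -/
theorem result {G Ω : Type*} [Group G] [Finite G] [MulAction G Ω] {a : Ω} {t : G} {Q : Subgroup G}
    (hS : Cfsg.IsRankOneSetup G Ω a t Q) :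
    Nat.card (Cfsg.invertedBy (MulAction.stabilizer G a ⊓ MulAction.stabilizer G (t • a)) t) = Nat.card (Cfsg.involutionsIn (MulAction.stabilizer G a : Set G)) ∧
      ∀ s ∈ Cfsg.involutionsIn (MulAction.stabilizer G a : Set G), ∀ s' ∈ Cfsg.involutionsIn (MulAction.stabilizer G a : Set G),
        ∃ k ∈ Cfsg.invertedBy (MulAction.stabilizer G a ⊓ MulAction.stabilizer G (t • a)) t, k⁻¹ * s * k = s' := by
  classical
  have htt := hS.mul_self
  have hti := RankOne.t_inv hS
  constructor
  · symm
    -- the map s ↦ k(s)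
    have hex : ∀ s : Cfsg.involutionsIn (MulAction.stabilizer G a : Set G),
        ∃ k ∈ Cfsg.invertedBy (RankOne.D G a t) t, ∃ f ∈ Q, t * (s : G) * t = f⁻¹ * k * t * f :=
      fun s => RankOne.structure_exists hS s.2.1 s.2.2.1 s.2.2.2
    choose φ hφK hφ using hex
    refine Nat.card_congr (Equiv.ofBijective (fun s => ⟨φ s, hφK s⟩) ⟨?_, ?_⟩)
    · intro s s' h
      have h' : φ s = φ s' := congrArg Subtype.val h
      obtain ⟨f, hf, e⟩ := hφ s
      obtain ⟨f', hf', e'⟩ := hφ s'
      rw [← h'] at e'
      obtain ⟨h1, -⟩ := RankOne.structure_inj hS (hφK s) hf hf' s.2.1 s'.2.1 e e'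
      exact Subtype.ext h1
    · rintro ⟨k, hk⟩
      obtain ⟨s, hs, hs1, hss, f, hf, e⟩ := RankOne.structure_surj hS hk
      refine ⟨⟨s, hs, hs1, hss⟩, ?_⟩
      apply Subtype.ext
      show φ ⟨s, hs, hs1, hss⟩ = k
      obtain ⟨f', hf', e'⟩ := hφ ⟨s, hs, hs1, hss⟩
      have e'' : t * s * t = f'⁻¹ * φ ⟨s, hs, hs1, hss⟩ * t * f' := e'
      rw [e] at e''
      have hkD := ((RankOne.mem_K_iff hS).mp hk).1
      have hφD := ((RankOne.mem_K_iff hS).mp (hφK ⟨s, hs, hs1, hss⟩)).1
      exact (RankOne.structure_unique hS hkD hφD hf hf' e'').1.symm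
  · rintro s ⟨hs, hs1, hss⟩ s' ⟨hs', hs1', hss'⟩
    -- v = t s' t
    set v := t * s' * t with hv
    have hvv : v * v = 1 := by
      calc v * v = t * s' * (t * t) * s' * t := by rw [hv]; group
        _ = t * (s' * s') * t := by rw [htt]; group
        _ = 1 := by rw [hss', mul_one, htt]
    have hv1 : v ≠ 1 := by
      intro h
      apply hs1'
      have : s' = t * v * t := by
        calc s' = (t * t) * s' * (t * t) := by rw [htt]; group
          _ = t * v * t := by rw [hv]; group
      rw [this, h, mul_one, htt]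
    have hvb : v • (t • a) = t • a := by
      rw [hv, mul_smul, mul_smul, RankOne.t_smul_t_smul hS]
      have : s' • a = a := hs'
      rw [this]
    have hvnot : v ∉ stabilizer G a := by
      intro h
      have h1 : v • a = a := h
      exact RankOne.b_ne hS (RankOne.invol_fix_unique hS hv1 hvv hvb h1)
    have hodd := RankOne.odd_order_mul hS hs hs1 hss hvnot hvv
    obtain ⟨w, hww, hw⟩ := RankOne.conj_of_odd_invol hss hvv hodd
    -- w a = b
    have hwa : w • a = t • a := by
      have h1 : v • (w • a) = w • a := by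
        rw [← hw, mul_smul, mul_smul, ← mul_smul w w, hww, one_smul]
        have : s • a = a := hs
        rw [this]
      exact RankOne.invol_fix_unique hS hv1 hvv h1 hvb
    have hwb : w • (t • a) = a := by
      rw [← hwa, ← mul_smul, hww, one_smul]
    -- k = t w
    have hkD : t * w ∈ RankOne.D G a t := by
      refine RankOne.mem_D_iff.mpr ⟨?_, ?_⟩
      · rw [mul_smul, hwa, RankOne.t_smul_t_smul hS]
      · rw [mul_smul, hwb]
    have hwi : w⁻¹ = w := RankOne.inv_of_sq hww
    have hkK : t * w ∈ Cfsg.invertedBy (RankOne.D G a t) t := by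
      refine (RankOne.mem_K_iff hS).mpr ⟨hkD, ?_⟩
      rw [mul_inv_rev, hwi, hti]
      calc t * (t * w) * t = (t * t) * w * t := by group
        _ = w * t := by rw [htt, one_mul]
    refine ⟨(t * w)⁻¹, RankOne.K_inv_mem hS hkK, ?_⟩
    rw [inv_inv, mul_inv_rev, hwi, hti]
    -- t w s w t = t v t = s'
    calc t * w * s * (w * t) = t * (w * s * w) * t := by group
      _ = t * v * t := by rw [hw]
      _ = (t * t) * s' * (t * t) := by rw [hv]; group
      _ = s' := by rw [htt]; group

end Cfsg.Agent.S1122
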