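import Cfsg.Statements.S2397
import Cfsg.Agent.Lib.Helper8.ChevSt17

set_option autoImplicit false
open Cfsg

namespace Cfsg.Agent.S2397

open Cfsg.Lie Cfsg.Agent.Lib.Helper8.Chev

/-- Over a finite field the relators (R3) h̄_r(t₁) h̄_r(t₂) = h̄_r(t₁ t₂) are consequences of (R1) and (R2): for each of the types G₂, B₂, D₄, F₄, E₆, E₇, E₈ (for types B₂ and G₂ the field must have more than two elements — the cases where the Chevalley group is not simple are set aside) the group presented by (R1), (R2) is canonically isomorphic to the one presented by (R1)–(R3), by an isomorphism matching the generators x̄_r(t). -/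
theorem result {K : Type*} [Field K] [Finite K] (D : Cfsg.Lie.ChevalleyDatum) (hD : D ∈ [Cfsg.Lie.chevG2, Cfsg.Lie.chevB2, Cfsg.Lie.chevD4, Cfsg.Lie.chevF4, Cfsg.Lie.chevE6, Cfsg.Lie.chevE7, Cfsg.Lie.chevE8]) (hK : D ∈ [Cfsg.Lie.chevB2, Cfsg.Lie.chevG2] → ∃ x : K, x ≠ 0 ∧ x ≠ 1) :
    ∃ e : D.SteinbergCover K ≃* D.SteinbergGroup K, ∀ (r : ℕ) (t : K), e (D.scGen K r t) = D.stGen K r t := by
  -- the cover as a group with root elements
  set S := scRepOf hD (scHom hD K) (fun r t hr => scHom_scGen hD r t hr) with hS
  -- forward map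
  have h1 : ∀ g ∈ D.steinbergRelsAB K,
      FreeGroup.lift (fun a => (PresentedGroup.of a : D.SteinbergGroup K)) g = 1 := by
    intro g hg
    have e : FreeGroup.lift (fun a => (PresentedGroup.of a : D.SteinbergGroup K)) =
        PresentedGroup.mk (D.steinbergRels K) := by
      ext a
      simp [PresentedGroup.of]
    rw [e]
    exact PresentedGroup.one_of_mem (Or.inl hg)
  -- backward map
  have h2 : ∀ g ∈ D.steinbergRels K,
      FreeGroup.lift (fun a => (PresentedGroup.of a : D.SteinbergCover K)) g = 1 := by
    intro g hg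
    have e : FreeGroup.lift (fun a => (PresentedGroup.of a : D.SteinbergCover K)) =
        PresentedGroup.mk (D.steinbergRelsAB K) := by
      ext a
      simp [PresentedGroup.of]
    rw [e]
    rcases hg with hg | ⟨r, t₁, t₂, hr, ht₁, ht₂, rfl⟩
    · exact PresentedGroup.one_of_mem hg
    · rw [map_mul, map_mul, map_inv, mul_inv_eq_one]
      unfold ChevalleyDatum.stH
      rw [mk_stWordAB, mk_stWordAB, mk_stWordAB]
      have := S.h_mul_of_finite hr ht₁ ht₂
      rw [StRep.h_eq_wS, StRep.h_eq_wS, StRep.h_eq_wS] at this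
      exact this
  set f : D.SteinbergCover K →* D.SteinbergGroup K := PresentedGroup.toGroup h1 with hf
  set g : D.SteinbergGroup K →* D.SteinbergCover K := PresentedGroup.toGroup h2 with hg
  have hfg : f.comp g = MonoidHom.id _ := by
    apply PresentedGroup.ext
    intro a
    simp [hf, hg]
  have hgf : g.comp f = MonoidHom.id _ := by
    apply PresentedGroup.ext
    intro a
    simp [hf, hg]
  refine ⟨MulEquiv.ofBijective f ⟨?_, ?_⟩, ?_⟩
  · intro a b hab
    have := congrArg g hab
    have ha : g (f a) = a := DFunLike.congr_fun hgf a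
    have hb : g (f b) = b := DFunLike.congr_fun hgf b
    rw [ha, hb] at this
    exact this
  · intro b
    exact ⟨g b, DFunLike.congr_fun hfg b⟩
  · intro r t
    show f (D.scGen K r t) = D.stGen K r t
    unfold ChevalleyDatum.scGen ChevalleyDatum.stGen
    have e : FreeGroup.lift (fun a => (PresentedGroup.of a : D.SteinbergGroup K)) =
        PresentedGroup.mk (D.steinbergRels K) := by
      ext a
      simp [PresentedGroup.of]
    rw [hf]
    show FreeGroup.lift (fun a => (PresentedGroup.of a : D.SteinbergGroup K)) (D.stX r t) = _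
    rw [e]

end Cfsg.Agent.S2397
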