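import Mathlib
import Cfsg.Statements.S0254
import Cfsg.Agent.Lib.Helper3.CardSL
import Cfsg.Agent.Lib.Helper3.SLTransport
import Cfsg.Agent.Lib.Helper3.SimpleIndex
import Cfsg.Agent.Lib.Helper3.ListSubgroup

set_option autoImplicit false
open Cfsg

namespace Cfsg.Agent.S0254

open Cfsg.Agent.Lib.Helper3

instance : Fact (Nat.Prime 3) := ⟨by norm_num⟩

instance factIrred : Fact (∀ r : ZMod 3, r ^ 2 ≠ 2 + 0 * r) := ⟨by decide⟩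

/-- the field with nine elements, as `F_3[i]` -/
abbrev F9 := QuadraticAlgebra (ZMod 3) 2 0

instance : Fintype F9 := Fintype.ofEquiv _ (QuadraticAlgebra.equivProd (2 : ZMod 3) 0).symm

lemma card_F9 : Fintype.card F9 = 9 := by
  rw [Fintype.card_congr (QuadraticAlgebra.equivProd (2 : ZMod 3) 0), Fintype.card_prod, ZMod.card]

abbrev G9 := Matrix.SpecialLinearGroup (Fin 2) F9

abbrev T9 := F9 × F9 × F9 × F9

/-- the entries of a matrix -/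
def ent (g : G9) : T9 := (g.1 0 0, g.1 0 1, g.1 1 0, g.1 1 1)

lemma ent_injective : Function.Injective ent := by
  intro g h hgh
  simp only [ent, Prod.mk.injEq] at hgh
  apply Subtype.ext
  apply Matrix.ext
  intro i j
  fin_cases i <;> fin_cases j
  · exact hgh.1
  · exact hgh.2.1
  · exact hgh.2.2.1
  · exact hgh.2.2.2

/-- multiplication on entries -/
def mulT (s t : T9) : T9 :=
  (s.1 * t.1 + s.2.1 * t.2.2.1, s.1 * t.2.1 + s.2.1 * t.2.2.2,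
   s.2.2.1 * t.1 + s.2.2.2 * t.2.2.1, s.2.2.1 * t.2.1 + s.2.2.2 * t.2.2.2)

lemma ent_mul (g h : G9) : ent (g * h) = mulT (ent g) (ent h) := by
  simp [ent, mulT, Matrix.mul_apply, Fin.sum_univ_two]

def A : G9 := ⟨!![⟨0, 1⟩, ⟨2, 1⟩; ⟨0, 2⟩, ⟨1, 1⟩], by decide⟩
def B : G9 := ⟨!![⟨2, 1⟩, ⟨0, 2⟩; ⟨2, 0⟩, ⟨0, 2⟩], by decide⟩

def ta : T9 := (⟨0, 1⟩, ⟨2, 1⟩, ⟨0, 2⟩, ⟨1, 1⟩)
def tb : T9 := (⟨2, 1⟩, ⟨0, 2⟩, ⟨2, 0⟩, ⟨0, 2⟩)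
def ta' : T9 := (⟨1, 1⟩, ⟨1, 2⟩, ⟨0, 1⟩, ⟨0, 1⟩)
def tb' : T9 := (⟨0, 2⟩, ⟨0, 1⟩, ⟨1, 0⟩, ⟨2, 1⟩)
def one9 : T9 := (1, 0, 0, 1)

lemma ent_A : ent A = ta := by decide
lemma ent_B : ent B = tb := by decide
lemma ent_A' : ent A⁻¹ = ta' := by decide
lemma ent_B' : ent B⁻¹ = tb' := by decide
lemma ent_one : ent 1 = one9 := by decide

/-- generators -/
def gen : Bool → G9 := fun b => bif b then B else A

/-- generators, entries -/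
def genT : Bool → T9 := fun b => bif b then tb else ta

/-- the entries of the 120 matrices of the binary icosahedral subgroup of `SL_2(9)` -/
def tuples : List T9 :=
  [(⟨1, 0⟩, ⟨0, 0⟩, ⟨0, 0⟩, ⟨1, 0⟩),
   (⟨0, 1⟩, ⟨2, 1⟩, ⟨0, 2⟩, ⟨1, 1⟩),
   (⟨2, 1⟩, ⟨0, 2⟩, ⟨2, 0⟩, ⟨0, 2⟩),
   (⟨0, 1⟩, ⟨0, 2⟩, ⟨2, 2⟩, ⟨1, 0⟩),
   (⟨1, 2⟩, ⟨1, 0⟩, ⟨2, 2⟩, ⟨2, 1⟩),
   (⟨0, 1⟩, ⟨2, 1⟩, ⟨0, 0⟩, ⟨0, 2⟩),
   (⟨0, 2⟩, ⟨0, 1⟩, ⟨1, 0⟩, ⟨2, 1⟩),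
   (⟨1, 0⟩, ⟨0, 1⟩, ⟨1, 1⟩, ⟨0, 1⟩),
   (⟨1, 0⟩, ⟨1, 0⟩, ⟨2, 0⟩, ⟨0, 0⟩),
   (⟨0, 1⟩, ⟨0, 2⟩, ⟨2, 0⟩, ⟨1, 2⟩),
   (⟨2, 0⟩, ⟨0, 2⟩, ⟨1, 2⟩, ⟨0, 1⟩),
   (⟨2, 0⟩, ⟨0, 0⟩, ⟨1, 0⟩, ⟨2, 0⟩),
   (⟨2, 2⟩, ⟨2, 1⟩, ⟨0, 2⟩, ⟨0, 2⟩),
   (⟨0, 1⟩, ⟨2, 1⟩, ⟨0, 1⟩, ⟨2, 0⟩),
   (⟨1, 1⟩, ⟨1, 2⟩, ⟨0, 1⟩, ⟨0, 1⟩),
   (⟨0, 0⟩, ⟨0, 2⟩, ⟨0, 2⟩, ⟨1, 2⟩),
   (⟨1, 0⟩, ⟨0, 1⟩, ⟨2, 1⟩, ⟨0, 2⟩),
   (⟨2, 2⟩, ⟨2, 1⟩, ⟨2, 1⟩, ⟨2, 0⟩),
   (⟨0, 2⟩, ⟨1, 2⟩, ⟨0, 2⟩, ⟨1, 0⟩),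
   (⟨2, 0⟩, ⟨0, 0⟩, ⟨0, 0⟩, ⟨2, 0⟩),
   (⟨0, 1⟩, ⟨0, 2⟩, ⟨2, 1⟩, ⟨1, 1⟩),
   (⟨2, 0⟩, ⟨1, 2⟩, ⟨1, 2⟩, ⟨2, 2⟩),
   (⟨1, 1⟩, ⟨0, 1⟩, ⟨1, 2⟩, ⟨0, 1⟩),
   (⟨1, 0⟩, ⟨2, 1⟩, ⟨0, 1⟩, ⟨0, 2⟩),
   (⟨1, 2⟩, ⟨0, 1⟩, ⟨0, 1⟩, ⟨0, 0⟩),
   (⟨0, 2⟩, ⟨0, 2⟩, ⟨1, 2⟩, ⟨1, 0⟩),
   (⟨2, 0⟩, ⟨1, 2⟩, ⟨0, 2⟩, ⟨0, 1⟩),
   (⟨1, 1⟩, ⟨1, 2⟩, ⟨1, 2⟩, ⟨1, 0⟩),
   (⟨2, 0⟩, ⟨0, 0⟩, ⟨2, 0⟩, ⟨2, 0⟩),
   (⟨0, 2⟩, ⟨0, 1⟩, ⟨1, 2⟩, ⟨2, 2⟩),
   (⟨0, 2⟩, ⟨1, 2⟩, ⟨0, 1⟩, ⟨2, 2⟩),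
   (⟨1, 0⟩, ⟨0, 1⟩, ⟨0, 1⟩, ⟨0, 0⟩),
   (⟨2, 1⟩, ⟨0, 2⟩, ⟨0, 2⟩, ⟨0, 0⟩),
   (⟨0, 1⟩, ⟨0, 1⟩, ⟨2, 1⟩, ⟨2, 0⟩),
   (⟨1, 2⟩, ⟨0, 1⟩, ⟨1, 0⟩, ⟨0, 1⟩),
   (⟨2, 1⟩, ⟨2, 0⟩, ⟨2, 0⟩, ⟨2, 2⟩),
   (⟨0, 0⟩, ⟨2, 0⟩, ⟨1, 0⟩, ⟨1, 0⟩),
   (⟨0, 1⟩, ⟨2, 0⟩, ⟨0, 2⟩, ⟨1, 2⟩),
   (⟨0, 2⟩, ⟨0, 2⟩, ⟨1, 1⟩, ⟨1, 2⟩),
   (⟨1, 2⟩, ⟨2, 2⟩, ⟨0, 1⟩, ⟨0, 2⟩),
   (⟨0, 0⟩, ⟨1, 0⟩, ⟨2, 0⟩, ⟨0, 0⟩),
   (⟨1, 0⟩, ⟨0, 0⟩, ⟨1, 0⟩, ⟨1, 0⟩),
   (⟨0, 2⟩, ⟨1, 2⟩, ⟨0, 0⟩, ⟨0, 1⟩),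
   (⟨2, 0⟩, ⟨0, 2⟩, ⟨0, 2⟩, ⟨0, 0⟩),
   (⟨0, 2⟩, ⟨0, 1⟩, ⟨1, 1⟩, ⟨2, 0⟩),
   (⟨1, 1⟩, ⟨1, 2⟩, ⟨2, 0⟩, ⟨2, 2⟩),
   (⟨1, 2⟩, ⟨1, 0⟩, ⟨1, 0⟩, ⟨1, 1⟩),
   (⟨0, 0⟩, ⟨1, 0⟩, ⟨2, 0⟩, ⟨2, 0⟩),
   (⟨2, 1⟩, ⟨2, 0⟩, ⟨1, 1⟩, ⟨1, 2⟩),
   (⟨2, 0⟩, ⟨2, 0⟩, ⟨2, 0⟩, ⟨1, 0⟩),
   (⟨0, 1⟩, ⟨2, 2⟩, ⟨0, 0⟩, ⟨0, 2⟩),
   (⟨2, 1⟩, ⟨1, 1⟩, ⟨0, 2⟩, ⟨0, 1⟩),
   (⟨0, 0⟩, ⟨2, 0⟩, ⟨1, 0⟩, ⟨0, 0⟩),
   (⟨0, 2⟩, ⟨0, 0⟩, ⟨1, 0⟩, ⟨0, 1⟩),
   (⟨0, 2⟩, ⟨1, 1⟩, ⟨0, 2⟩, ⟨1, 2⟩),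
   (⟨0, 1⟩, ⟨0, 1⟩, ⟨2, 2⟩, ⟨2, 1⟩),
   (⟨1, 2⟩, ⟨0, 1⟩, ⟨2, 2⟩, ⟨0, 2⟩),
   (⟨2, 0⟩, ⟨1, 2⟩, ⟨2, 2⟩, ⟨1, 0⟩),
   (⟨1, 2⟩, ⟨1, 0⟩, ⟨0, 1⟩, ⟨0, 1⟩),
   (⟨2, 2⟩, ⟨2, 1⟩, ⟨1, 0⟩, ⟨1, 1⟩),
   (⟨2, 0⟩, ⟨0, 2⟩, ⟨2, 2⟩, ⟨0, 2⟩),
   (⟨1, 0⟩, ⟨0, 0⟩, ⟨2, 0⟩, ⟨1, 0⟩),
   (⟨1, 0⟩, ⟨1, 0⟩, ⟨1, 0⟩, ⟨2, 0⟩),
   (⟨0, 2⟩, ⟨1, 1⟩, ⟨0, 0⟩, ⟨0, 1⟩),
   (⟨2, 0⟩, ⟨2, 0⟩, ⟨1, 0⟩, ⟨0, 0⟩),
   (⟨0, 0⟩, ⟨0, 1⟩, ⟨0, 1⟩, ⟨2, 0⟩),
   (⟨1, 1⟩, ⟨2, 0⟩, ⟨2, 0⟩, ⟨1, 2⟩),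
   (⟨0, 1⟩, ⟨0, 0⟩, ⟨2, 0⟩, ⟨0, 2⟩),
   (⟨0, 1⟩, ⟨2, 2⟩, ⟨0, 1⟩, ⟨2, 1⟩),
   (⟨1, 0⟩, ⟨1, 1⟩, ⟨1, 1⟩, ⟨1, 2⟩),
   (⟨2, 2⟩, ⟨1, 0⟩, ⟨0, 2⟩, ⟨0, 1⟩),
   (⟨2, 1⟩, ⟨2, 0⟩, ⟨0, 2⟩, ⟨0, 2⟩),
   (⟨2, 1⟩, ⟨0, 2⟩, ⟨1, 1⟩, ⟨0, 1⟩),
   (⟨1, 0⟩, ⟨1, 0⟩, ⟨0, 0⟩, ⟨1, 0⟩),
   (⟨1, 0⟩, ⟨2, 1⟩, ⟨1, 1⟩, ⟨2, 0⟩),
   (⟨0, 1⟩, ⟨0, 1⟩, ⟨2, 0⟩, ⟨2, 2⟩),
   (⟨2, 2⟩, ⟨0, 2⟩, ⟨0, 2⟩, ⟨0, 0⟩),
   (⟨0, 0⟩, ⟨2, 0⟩, ⟨1, 0⟩, ⟨2, 0⟩),
   (⟨0, 0⟩, ⟨0, 2⟩, ⟨0, 2⟩, ⟨1, 0⟩),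
   (⟨2, 2⟩, ⟨1, 0⟩, ⟨1, 0⟩, ⟨2, 1⟩),
   (⟨0, 0⟩, ⟨0, 1⟩, ⟨0, 1⟩, ⟨2, 1⟩),
   (⟨1, 0⟩, ⟨2, 1⟩, ⟨2, 1⟩, ⟨1, 1⟩),
   (⟨2, 2⟩, ⟨0, 2⟩, ⟨2, 1⟩, ⟨0, 2⟩),
   (⟨2, 0⟩, ⟨2, 2⟩, ⟨2, 2⟩, ⟨2, 1⟩),
   (⟨1, 1⟩, ⟨2, 0⟩, ⟨0, 1⟩, ⟨0, 2⟩),
   (⟨1, 0⟩, ⟨2, 0⟩, ⟨1, 0⟩, ⟨0, 0⟩),
   (⟨1, 1⟩, ⟨0, 1⟩, ⟨2, 0⟩, ⟨0, 2⟩),
   (⟨2, 0⟩, ⟨2, 0⟩, ⟨0, 0⟩, ⟨2, 0⟩),
   (⟨0, 0⟩, ⟨0, 2⟩, ⟨0, 2⟩, ⟨1, 1⟩),
   (⟨0, 0⟩, ⟨1, 0⟩, ⟨2, 0⟩, ⟨1, 0⟩),
   (⟨0, 2⟩, ⟨0, 2⟩, ⟨1, 0⟩, ⟨1, 1⟩),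
   (⟨0, 1⟩, ⟨2, 2⟩, ⟨0, 2⟩, ⟨1, 0⟩),
   (⟨1, 1⟩, ⟨0, 1⟩, ⟨0, 1⟩, ⟨0, 0⟩),
   (⟨0, 2⟩, ⟨1, 0⟩, ⟨0, 2⟩, ⟨1, 1⟩),
   (⟨2, 0⟩, ⟨1, 0⟩, ⟨0, 0⟩, ⟨2, 0⟩),
   (⟨1, 0⟩, ⟨1, 1⟩, ⟨0, 1⟩, ⟨0, 1⟩),
   (⟨2, 1⟩, ⟨1, 1⟩, ⟨1, 1⟩, ⟨2, 0⟩),
   (⟨2, 0⟩, ⟨1, 0⟩, ⟨2, 0⟩, ⟨0, 0⟩),
   (⟨2, 2⟩, ⟨0, 2⟩, ⟨1, 0⟩, ⟨0, 1⟩),
   (⟨0, 2⟩, ⟨1, 0⟩, ⟨0, 1⟩, ⟨2, 1⟩),
   (⟨0, 0⟩, ⟨0, 1⟩, ⟨0, 1⟩, ⟨2, 2⟩),
   (⟨0, 2⟩, ⟨1, 1⟩, ⟨0, 1⟩, ⟨2, 0⟩),
   (⟨1, 1⟩, ⟨2, 0⟩, ⟨1, 2⟩, ⟨2, 2⟩),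
   (⟨1, 2⟩, ⟨2, 2⟩, ⟨2, 2⟩, ⟨1, 0⟩),
   (⟨0, 1⟩, ⟨2, 0⟩, ⟨0, 1⟩, ⟨2, 2⟩),
   (⟨1, 0⟩, ⟨2, 0⟩, ⟨0, 0⟩, ⟨1, 0⟩),
   (⟨0, 1⟩, ⟨0, 0⟩, ⟨2, 2⟩, ⟨0, 2⟩),
   (⟨2, 0⟩, ⟨2, 2⟩, ⟨0, 2⟩, ⟨0, 2⟩),
   (⟨0, 1⟩, ⟨0, 0⟩, ⟨2, 1⟩, ⟨0, 2⟩),
   (⟨1, 2⟩, ⟨2, 2⟩, ⟨1, 0⟩, ⟨2, 1⟩),
   (⟨0, 1⟩, ⟨2, 0⟩, ⟨0, 0⟩, ⟨0, 2⟩),
   (⟨1, 0⟩, ⟨1, 1⟩, ⟨2, 1⟩, ⟨2, 0⟩),
   (⟨2, 2⟩, ⟨1, 0⟩, ⟨2, 1⟩, ⟨1, 1⟩),
   (⟨0, 2⟩, ⟨0, 0⟩, ⟨1, 1⟩, ⟨0, 1⟩),
   (⟨2, 0⟩, ⟨2, 2⟩, ⟨1, 2⟩, ⟨1, 0⟩),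
   (⟨0, 2⟩, ⟨0, 0⟩, ⟨1, 2⟩, ⟨0, 1⟩),
   (⟨2, 1⟩, ⟨1, 1⟩, ⟨2, 0⟩, ⟨1, 2⟩),
   (⟨1, 0⟩, ⟨2, 0⟩, ⟨2, 0⟩, ⟨2, 0⟩),
   (⟨0, 2⟩, ⟨1, 0⟩, ⟨0, 0⟩, ⟨0, 1⟩),
   (⟨2, 0⟩, ⟨1, 0⟩, ⟨1, 0⟩, ⟨1, 0⟩)]

/-- each of them as a word in the generators -/
def words : List (List Bool) :=
  [[],
   [false],
   [true],
   [false, false],
   [true, false],
   [false, true],
   [true, true],
   [false, false, false],
   [true, false, false],
   [false, true, false],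
   [true, true, false],
   [false, false, true],
   [true, false, true],
   [false, true, true],
   [false, false, false, false],
   [true, false, false, false],
   [false, true, false, false],
   [true, true, false, false],
   [false, false, true, false],
   [true, false, true, false],
   [false, true, true, false],
   [false, false, false, true],
   [true, false, false, true],
   [true, true, false, true],
   [false, false, true, true],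
   [true, false, true, true],
   [true, false, false, false, false],
   [false, true, false, false, false],
   [true, true, false, false, false],
   [false, false, true, false, false],
   [true, false, true, false, false],
   [false, true, true, false, false],
   [false, false, false, true, false],
   [true, false, false, true, false],
   [true, true, false, true, false],
   [false, false, true, true, false],
   [true, false, true, true, false],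
   [true, false, false, false, true],
   [true, true, false, false, true],
   [true, false, false, true, true],
   [true, true, false, true, true],
   [false, true, false, false, false, false],
   [true, true, false, false, false, false],
   [false, false, true, false, false, false],
   [true, false, true, false, false, false],
   [false, true, true, false, false, false],
   [false, false, false, true, false, false],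
   [true, false, false, true, false, false],
   [true, true, false, true, false, false],
   [false, false, true, true, false, false],
   [true, false, true, true, false, false],
   [true, false, false, false, true, false],
   [true, true, false, false, true, false],
   [true, false, false, true, true, false],
   [true, true, false, true, true, false],
   [false, true, false, false, false, true],
   [true, true, false, false, false, true],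
   [false, true, true, false, false, true],
   [true, true, false, false, true, true],
   [false, false, true, false, false, false, false],
   [true, false, true, false, false, false, false],
   [false, true, true, false, false, false, false],
   [false, false, false, true, false, false, false],
   [true, false, false, true, false, false, false],
   [true, true, false, true, false, false, false],
   [false, false, true, true, false, false, false],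
   [true, false, true, true, false, false, false],
   [true, false, false, false, true, false, false],
   [true, true, false, false, true, false, false],
   [true, false, false, true, true, false, false],
   [true, true, false, true, true, false, false],
   [true, true, false, false, false, true, false],
   [false, true, true, false, false, true, false],
   [true, true, false, false, true, true, false],
   [false, false, true, false, false, false, true],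
   [false, true, true, false, false, false, true],
   [false, false, true, true, false, false, true],
   [false, true, true, false, false, true, true],
   [false, false, false, true, false, false, false, false],
   [true, false, false, true, false, false, false, false],
   [true, true, false, true, false, false, false, false],
   [false, false, true, true, false, false, false, false],
   [true, false, true, true, false, false, false, false],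
   [true, false, false, false, true, false, false, false],
   [true, true, false, false, true, false, false, false],
   [true, false, false, true, true, false, false, false],
   [true, true, false, true, true, false, false, false],
   [true, true, false, false, false, true, false, false],
   [true, true, false, false, true, true, false, false],
   [false, true, true, false, false, false, true, false],
   [false, false, true, true, false, false, true, false],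
   [false, true, true, false, false, true, true, false],
   [false, false, false, true, false, false, false, true],
   [false, false, true, true, false, false, false, true],
   [true, false, true, true, false, false, false, true],
   [true, false, false, true, true, false, false, true],
   [false, false, true, true, false, false, true, true],
   [true, false, false, false, true, false, false, false, false],
   [true, true, false, false, true, false, false, false, false],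
   [true, false, false, true, true, false, false, false, false],
   [true, true, false, false, false, true, false, false, false],
   [false, true, true, false, false, false, true, false, false],
   [false, true, true, false, false, true, true, false, false],
   [false, false, true, true, false, false, false, true, false],
   [true, false, true, true, false, false, false, true, false],
   [true, false, false, true, true, false, false, true, false],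
   [false, false, true, true, false, false, true, true, false],
   [true, false, false, false, true, false, false, false, true],
   [true, false, false, true, true, false, false, false, true],
   [true, true, false, true, true, false, false, false, true],
   [true, true, false, false, true, true, false, false, true],
   [true, false, false, true, true, false, false, true, true],
   [false, true, true, false, false, false, true, false, false, false],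
   [false, false, true, true, false, false, false, true, false, false],
   [true, false, false, true, true, false, false, false, true, false],
   [true, true, false, true, true, false, false, false, true, false],
   [true, true, false, false, true, true, false, false, true, false],
   [true, false, false, true, true, false, false, true, true, false],
   [true, true, false, false, false, true, false, false, false, true],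
   [false, true, true, false, false, true, true, false, false, true]]

set_option maxRecDepth 1000000 in
lemma tuples_eq : tuples = words.map (ListSubgroup.evalWord mulT one9 genT) := by decide

set_option maxRecDepth 1000000 in
lemma tuples_closed : ∀ t ∈ tuples, (mulT ta t ∈ tuples ∧ mulT ta' t ∈ tuples) ∧
    (mulT tb t ∈ tuples ∧ mulT tb' t ∈ tuples) := by decide

set_option maxRecDepth 1000000 in
lemma tuples_nodup : tuples.Nodup := by decide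

set_option maxRecDepth 1000000 in
lemma one_mem : one9 ∈ tuples := by decide

set_option maxRecDepth 1000000 in
lemma neg_one_mem : ent (-1) ∈ tuples := by decide

lemma genT_eq : (fun i => ent (gen i)) = genT := by
  funext i
  cases i
  · exact ent_A
  · exact ent_B

lemma h1 : ∀ t ∈ tuples, ∀ i, mulT (ent (gen i)) t ∈ tuples ∧ mulT (ent (gen i)⁻¹) t ∈ tuples := by
  intro t ht i
  have := tuples_closed t ht
  cases i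
  · simp only [gen, cond_false, ent_A, ent_A']
    exact this.1
  · simp only [gen, cond_true, ent_B, ent_B']
    exact this.2

lemma h2 : tuples = words.map (ListSubgroup.evalWord mulT (ent 1) (fun i => ent (gen i))) := by
  rw [genT_eq, ent_one]
  exact tuples_eq

/-- the binary icosahedral subgroup -/
def Ht : Subgroup G9 := Subgroup.closure (Set.range gen)

lemma mem_Ht_iff (g : G9) : g ∈ Ht ↔ ent g ∈ tuples :=
  ListSubgroup.mem_closure_iff ent mulT ent_mul ent_injective gen tuples words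
    (by rw [ent_one]; exact one_mem) h1 h2 g

lemma card_Ht : Nat.card Ht = 120 :=
  ListSubgroup.card_closure ent mulT ent_mul ent_injective gen tuples words
    (by rw [ent_one]; exact one_mem) h1 h2 tuples_nodup

lemma center_le_Ht : Subgroup.center G9 ≤ Ht := by
  intro g hg
  rw [Matrix.SpecialLinearGroup.mem_center_iff] at hg
  obtain ⟨r, hr, hA⟩ := hg
  have hr' : r ^ 2 = 1 := by simpa using hr
  have h : g = 1 ∨ g = -1 := by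
    have : (r - 1) * (r + 1) = 0 := by ring_nf; rw [hr']; ring
    rcases mul_eq_zero.1 this with h | h
    · left
      have : r = 1 := sub_eq_zero.1 h
      subst this
      apply Subtype.ext
      rw [← hA]
      simp
    · right
      have : r = -1 := eq_neg_of_add_eq_zero_left h
      subst this
      apply Subtype.ext
      rw [← hA]
      apply Matrix.ext
      intro i j
      fin_cases i <;> fin_cases j <;> simp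
  rcases h with rfl | rfl
  · exact Ht.one_mem
  · rw [mem_Ht_iff]
    exact neg_one_mem

lemma two_ne_zero9 : (2 : F9) ≠ 0 := by decide

lemma card_PSL9 : Nat.card (Matrix.ProjectiveSpecialLinearGroup (Fin 2) F9) = 360 := by
  have h := CardSL.card_PSL_mul (F := F9) 2
  rw [CardSL.card_center_SL2 two_ne_zero9, CardSL.card_SL2, card_F9] at h
  have : (9 * (9 ^ 2 - 1) : ℕ) = 720 := rfl
  omega

lemma psl9 : Nonempty (Matrix.ProjectiveSpecialLinearGroup (Fin 2) F9 ≃* alternatingGroup (Fin 6)) := by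
  have hsimple : IsSimpleGroup (Matrix.ProjectiveSpecialLinearGroup (Fin 2) F9) :=
    Matrix.ProjectiveSpecialLinearGroup.rank_two_simple (by
      rw [Nat.card_eq_fintype_card, card_F9]; norm_num)
  let H : Subgroup (Matrix.ProjectiveSpecialLinearGroup (Fin 2) F9) :=
    Ht.map (QuotientGroup.mk' (Subgroup.center G9))
  have hidx : H.index = 6 := by
    have h1 : H.index = (Ht ⊔ (QuotientGroup.mk' (Subgroup.center G9)).ker).index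
        * (QuotientGroup.mk' (Subgroup.center G9)).range.index := Subgroup.index_map _ _
    rw [QuotientGroup.ker_mk', sup_eq_left.2 center_le_Ht,
      MonoidHom.range_eq_top.2 (QuotientGroup.mk'_surjective _), Subgroup.index_top, mul_one] at h1
    rw [h1]
    have h2 : Ht.index * Nat.card Ht = Nat.card G9 := Ht.index_mul_card
    rw [card_Ht, CardSL.card_SL2, card_F9] at h2
    have : (9 * (9 ^ 2 - 1) : ℕ) = 720 := rfl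
    omega
  exact PermIso.nonempty_mulEquiv_alternatingGroup_of_index H 6 hidx (by norm_num)
    (by rw [card_PSL9]; rfl)

/-- PSL_2(9) is isomorphic to A_6. -/
theorem result {F : Type*} [Field F] [Fintype F] (hF : Fintype.card F = 9) : Nonempty (Matrix.ProjectiveSpecialLinearGroup (Fin 2) F ≃* alternatingGroup (Fin 6)) := by
  obtain ⟨e⟩ := psl9
  have e9 : F ≃+* F9 := FiniteField.ringEquivOfCardEq (by rw [hF, card_F9])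
  exact ⟨(SLTransport.quotientCenterEquiv (SLTransport.mapEquiv e9)).trans e⟩

end Cfsg.Agent.S0254
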