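import Mathlib
import Cfsg.Statements.S4231
import Cfsg.Agent.S2119

set_option autoImplicit false
open Cfsg

namespace Cfsg.Agent.S4231

open Equiv Equiv.Perm
open Cfsg.Agent.S2119

/-! ### Automorphisms preserving three-cycles are induced by permutations -/

section Main

variable {n : ℕ}

theorem surj_of_three (hn : 4 ≤ n)
    (φ : ↥(alternatingGroup (Fin n)) ≃* ↥(alternatingGroup (Fin n)))
    (hφ : ∀ x : ↥(alternatingGroup (Fin n)), IsThreeCycle (x : Perm (Fin n)) →
      IsThreeCycle ((φ x : ↥(alternatingGroup (Fin n))) : Perm (Fin n))) :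
    ∃ σ : Perm (Fin n), ∀ x : ↥(alternatingGroup (Fin n)),
      ((φ x : ↥(alternatingGroup (Fin n))) : Perm (Fin n)) = σ * (x : Perm (Fin n)) * σ⁻¹ := by
  obtain ⟨p0, p1, i0, i1, h01, h0i0, h1i0, h0i1, h1i1, hi0i1⟩ := exists_four n hn
  have h3 : ∀ i, i ≠ p0 → i ≠ p1 → IsThreeCycle (Hf φ p0 p1 i) := by
    intro i hi0 hi1
    unfold Hf
    apply hφ
    rw [genA_val h01 hi0 hi1]
    exact gen_isThreeCycle h01 hi0 hi1
  have hrel : ∀ i j, i ≠ p0 → i ≠ p1 → j ≠ p0 → j ≠ p1 → i ≠ j →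
      Hf φ p0 p1 i * Hf φ p0 p1 j * (Hf φ p0 p1 i * Hf φ p0 p1 j) = 1 :=
    fun i j hi0 hi1 hj0 hj1 hij => Hf_rel φ h01 hi0 hi1 hj0 hj1 hij
  have hne : ∀ i j, i ≠ p0 → i ≠ p1 → j ≠ p0 → j ≠ p1 → i ≠ j →
      Hf φ p0 p1 j ≠ Hf φ p0 p1 i :=
    fun i j hi0 hi1 hj0 hj1 hij => Hf_ne φ h01 hi0 hi1 hj0 hj1 hij
  have hnei : ∀ i j, i ≠ p0 → i ≠ p1 → j ≠ p0 → j ≠ p1 → i ≠ j →
      Hf φ p0 p1 j ≠ (Hf φ p0 p1 i)⁻¹ :=
    fun i j hi0 hi1 hj0 hj1 hij => Hf_ne_inv φ h01 hi0 hi1 hj0 hj1 hij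
  obtain ⟨a, ha1, ha2, ha3⟩ := common_edge (h3 i0 h0i0 h1i0) (h3 i1 h0i1 h1i1)
    (hrel i0 i1 h0i0 h1i0 h0i1 h1i1 hi0i1) (hne i0 i1 h0i0 h1i0 h0i1 h1i1 hi0i1)
    (hnei i0 i1 h0i0 h1i0 h0i1 h1i1 hi0i1)
  have hga : Hf φ p0 p1 i0 a ≠ a := by rw [ha2]; exact ha1
  have hd : Hf φ p0 p1 i0 (Hf φ p0 p1 i1 (Hf φ p0 p1 i0 a)) =
      Hf φ p0 p1 i1 (Hf φ p0 p1 i0 a) := by rw [ha2]; exact ha3
  obtain ⟨b, hb⟩ : ∃ b, b = Hf φ p0 p1 i0 a := ⟨_, rfl⟩
  have hba : b ≠ a := by rw [hb]; exact hga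
  have key : ∀ i, i ≠ p0 → i ≠ p1 → Hf φ p0 p1 i a = b := by
    intro i hi0 hi1
    rw [hb]
    by_cases e0 : i = i0
    · rw [e0]
    by_cases e1 : i = i1
    · rw [e1, ha2]
    exact triple (h3 i0 h0i0 h1i0) (h3 i1 h0i1 h1i1) (h3 i hi0 hi1) hga ha2.symm hd
      (hrel i0 i h0i0 h1i0 hi0 hi1 (Ne.symm e0)) (hrel i1 i h0i1 h1i1 hi0 hi1 (Ne.symm e1))
      (hne i0 i h0i0 h1i0 hi0 hi1 (Ne.symm e0)) (hnei i0 i h0i0 h1i0 hi0 hi1 (Ne.symm e0))
      (hne i1 i h0i1 h1i1 hi0 hi1 (Ne.symm e1)) (hnei i1 i h0i1 h1i1 hi0 hi1 (Ne.symm e1))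
  have hmoved : ∀ i, i ≠ p0 → i ≠ p1 → Hf φ p0 p1 i a ≠ a := by
    intro i hi0 hi1
    rw [key i hi0 hi1]
    exact hba
  have hc1 : ∀ i, i ≠ p0 → i ≠ p1 → Hf φ p0 p1 i b ≠ b := by
    intro i hi0 hi1
    have h := tc_ne1 (hmoved i hi0 hi1)
    rwa [key i hi0 hi1] at h
  have hc2 : ∀ i, i ≠ p0 → i ≠ p1 → Hf φ p0 p1 i b ≠ a := by
    intro i hi0 hi1
    have h := tc_ne2 (h3 i hi0 hi1) (hmoved i hi0 hi1)
    rwa [key i hi0 hi1] at h
  have hc3 : ∀ i j, i ≠ p0 → i ≠ p1 → j ≠ p0 → j ≠ p1 → i ≠ j →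
      Hf φ p0 p1 i b ≠ Hf φ p0 p1 j b := by
    intro i j hi0 hi1 hj0 hj1 hij heq
    apply hne i j hi0 hi1 hj0 hj1 hij
    refine tc_ext (h3 i hi0 hi1) (h3 j hj0 hj1) (hmoved i hi0 hi1) ?_ ?_
    · rw [key j hj0 hj1, key i hi0 hi1]
    · rw [key i hi0 hi1]
      exact heq.symm
  have hσ0 : sigF φ p0 p1 a b p0 = a := by
    simp [sigF]
  have hσ1 : sigF φ p0 p1 a b p1 = b := by
    simp [sigF, h01.symm]
  have hσi : ∀ i, i ≠ p0 → i ≠ p1 → sigF φ p0 p1 a b i = Hf φ p0 p1 i b := by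
    intro i hi0 hi1
    simp [sigF, hi0, hi1]
  have hinj : Function.Injective (sigF φ p0 p1 a b) := by
    intro x y hxy
    by_cases hx0 : x = p0
    · by_cases hy0 : y = p0
      · rw [hx0, hy0]
      · by_cases hy1 : y = p1
        · exfalso
          rw [hx0, hy1, hσ0, hσ1] at hxy
          exact hba hxy.symm
        · exfalso
          rw [hx0, hσ0, hσi y hy0 hy1] at hxy
          exact hc2 y hy0 hy1 hxy.symm
    · by_cases hx1 : x = p1
      · by_cases hy0 : y = p0
        · exfalso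
          rw [hx1, hy0, hσ0, hσ1] at hxy
          exact hba hxy
        · by_cases hy1 : y = p1
          · rw [hx1, hy1]
          · exfalso
            rw [hx1, hσ1, hσi y hy0 hy1] at hxy
            exact hc1 y hy0 hy1 hxy.symm
      · by_cases hy0 : y = p0
        · exfalso
          rw [hy0, hσ0, hσi x hx0 hx1] at hxy
          exact hc2 x hx0 hx1 hxy
        · by_cases hy1 : y = p1
          · exfalso
            rw [hy1, hσ1, hσi x hx0 hx1] at hxy
            exact hc1 x hx0 hx1 hxy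
          · by_contra hne'
            rw [hσi x hx0 hx1, hσi y hy0 hy1] at hxy
            exact hc3 x y hx0 hx1 hy0 hy1 hne' hxy
  obtain ⟨σ, hσapp⟩ : ∃ σ : Perm (Fin n), ∀ x, σ x = sigF φ p0 p1 a b x :=
    ⟨Equiv.ofBijective _ ⟨hinj, Finite.surjective_of_injective hinj⟩, fun x => rfl⟩
  have hconj : ∀ i, i ≠ p0 → i ≠ p1 →
      σ * (swap p0 p1 * swap p1 i) * σ⁻¹ = Hf φ p0 p1 i := by
    intro i hi0 hi1
    have e : σ * (swap p0 p1 * swap p1 i) * σ⁻¹ =
        swap (σ p0) (σ p1) * swap (σ p1) (σ i) := by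
      rw [swap_apply_apply, swap_apply_apply]
      group
    rw [e, hσapp, hσapp, hσapp, hσ0, hσ1, hσi i hi0 hi1]
    have hc1' := hc1 i hi0 hi1
    have hc2' := hc2 i hi0 hi1
    have h3c : IsThreeCycle (swap a b * swap b (Hf φ p0 p1 i b)) := by
      rw [swap_comm a b]
      exact isThreeCycle_swap_mul_swap_same hba hc1'.symm hc2'.symm
    refine tc_ext (h3 i hi0 hi1) h3c (hmoved i hi0 hi1) ?_ ?_
    · rw [key i hi0 hi1, Perm.mul_apply, swap_apply_of_ne_of_ne hba.symm hc2'.symm,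
        swap_apply_left]
    · rw [key i hi0 hi1, Perm.mul_apply, swap_apply_left, swap_apply_of_ne_of_ne hc2' hc1']
  refine ⟨σ, ?_⟩
  have hcl := gen_closure p0 p1 h01
  have hP : ∀ y ∈ Subgroup.closure
      {g : Perm (Fin n) | ∃ i, i ≠ p0 ∧ i ≠ p1 ∧ g = swap p0 p1 * swap p1 i},
      ∃ hy : y ∈ alternatingGroup (Fin n),
        ((φ ⟨y, hy⟩ : ↥(alternatingGroup (Fin n))) : Perm (Fin n)) = σ * y * σ⁻¹ := by
    intro y hy
    induction hy using Subgroup.closure_induction with
    | mem y hy =>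
      obtain ⟨i, hi0, hi1, rfl⟩ := hy
      refine ⟨(gen_isThreeCycle h01 hi0 hi1).mem_alternatingGroup, ?_⟩
      rw [hconj i hi0 hi1]
      have e : ∀ hm, (⟨swap p0 p1 * swap p1 i, hm⟩ : ↥(alternatingGroup (Fin n))) =
          genA p0 p1 i := fun hm => Subtype.ext (genA_val h01 hi0 hi1).symm
      rw [e]
      rfl
    | one =>
      refine ⟨one_mem _, ?_⟩
      have e : (⟨1, one_mem _⟩ : ↥(alternatingGroup (Fin n))) = 1 := rfl
      rw [e, map_one]
      simp
    | mul y z _ _ hy hz =>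
      obtain ⟨hy1, hy2⟩ := hy
      obtain ⟨hz1, hz2⟩ := hz
      refine ⟨mul_mem hy1 hz1, ?_⟩
      have e : (⟨y * z, mul_mem hy1 hz1⟩ : ↥(alternatingGroup (Fin n))) =
          ⟨y, hy1⟩ * ⟨z, hz1⟩ := rfl
      rw [e, map_mul, Subgroup.coe_mul, hy2, hz2]
      group
    | inv y _ hy =>
      obtain ⟨hy1, hy2⟩ := hy
      refine ⟨inv_mem hy1, ?_⟩
      have e : (⟨y⁻¹, inv_mem hy1⟩ : ↥(alternatingGroup (Fin n))) = (⟨y, hy1⟩)⁻¹ := rfl
      rw [e, map_inv, Subgroup.coe_inv, hy2]
      group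
  intro x
  obtain ⟨hx1, hx2⟩ := hP x.1 (hcl x.2)
  exact hx2

end Main

/-! ### Degree six: automorphisms of odd order preserve three-cycles -/

section Six

theorem ord3_cases (g : Perm (Fin 6)) (hg : orderOf g = 3) :
    g.cycleType = {3} ∨ g.cycleType = {3, 3} := by
  obtain ⟨k, hk⟩ := cycleType_prime_order (σ := g) (by rw [hg]; norm_num)
  rw [hg] at hk
  have hsum := sum_cycleType_le g
  rw [hk, Multiset.sum_replicate, Fintype.card_fin, smul_eq_mul] at hsum
  have hk2 : k = 0 ∨ k = 1 := by omega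
  rcases hk2 with rfl | rfl
  · left; rw [hk]; rfl
  · right; rw [hk]; rfl

theorem card_T6 :
    (Finset.univ.filter fun g : Perm (Fin 6) => g.cycleType = {3}).card = 40 := by
  rw [Equiv.Perm.card_of_cycleType]
  decide

theorem card_D6 :
    (Finset.univ.filter fun g : Perm (Fin 6) => g.cycleType = {3, 3}).card = 40 := by
  rw [Equiv.Perm.card_of_cycleType]
  decide

/-- `ψ` maps three-cycles to three-cycles -/
def Good (ψ : MulAut ↥(alternatingGroup (Fin 6))) : Prop :=
  ∀ x : ↥(alternatingGroup (Fin 6)), IsThreeCycle (x : Perm (Fin 6)) →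
    IsThreeCycle ((ψ x : ↥(alternatingGroup (Fin 6))) : Perm (Fin 6))

theorem good_one : Good 1 := fun _ hx => hx

theorem good_mul {ψ χ : MulAut ↥(alternatingGroup (Fin 6))} (h1 : Good ψ) (h2 : Good χ) :
    Good (ψ * χ) := by
  intro x hx
  rw [MulAut.mul_apply]
  exact h1 _ (h2 x hx)

theorem good_pow {ψ : MulAut ↥(alternatingGroup (Fin 6))} (h1 : Good ψ) (k : ℕ) :
    Good (ψ ^ k) := by
  induction k with
  | zero => rw [pow_zero]; exact good_one
  | succ k ih => rw [pow_succ]; exact good_mul ih h1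

theorem ord_img (ψ : MulAut ↥(alternatingGroup (Fin 6))) (x : ↥(alternatingGroup (Fin 6)))
    (hx : orderOf (x : Perm (Fin 6)) = 3) :
    orderOf ((ψ x : ↥(alternatingGroup (Fin 6))) : Perm (Fin 6)) = 3 := by
  rw [Subgroup.orderOf_coe, MulEquiv.orderOf_eq, ← Subgroup.orderOf_coe, hx]

theorem ct33_ne : ({3, 3} : Multiset ℕ) ≠ {3} := by decide

theorem ord_of_ct33 (g : Perm (Fin 6)) (hg : g.cycleType = {3, 3}) : orderOf g = 3 := by
  rw [← lcm_cycleType, hg]
  decide

theorem sq_good (ψ : MulAut ↥(alternatingGroup (Fin 6))) (hψ : ¬ Good ψ) : Good (ψ * ψ) := by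
  unfold Good at hψ
  push Not at hψ
  obtain ⟨x0, hx0, hx0'⟩ := hψ
  have h33 : ((ψ x0 : ↥(alternatingGroup (Fin 6))) : Perm (Fin 6)).cycleType = {3, 3} := by
    rcases ord3_cases _ (ord_img ψ x0 hx0.orderOf) with h | h
    · exact absurd h hx0'
    · exact h
  -- every three-cycle goes to type (3,3)
  have hTD : ∀ x : ↥(alternatingGroup (Fin 6)), IsThreeCycle (x : Perm (Fin 6)) →
      ((ψ x : ↥(alternatingGroup (Fin 6))) : Perm (Fin 6)).cycleType = {3, 3} := by
    intro x hx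
    have hc : IsConj x0 x :=
      alternatingGroup.isThreeCycle_isConj (by simp) hx0 hx
    obtain ⟨g, hg⟩ := isConj_iff.mp hc
    have e : ψ x = ψ g * ψ x0 * (ψ g)⁻¹ := by
      rw [← hg, map_mul, map_mul, map_inv]
    rw [e, Subgroup.coe_mul, Subgroup.coe_mul, Subgroup.coe_inv, cycleType_conj]
    exact h33
  -- counting: every (3,3) element is the image of a three-cycle
  have hsurj := Finset.surj_on_of_inj_on_of_card_le
    (s := Finset.univ.filter fun g : Perm (Fin 6) => g.cycleType = {3})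
    (t := Finset.univ.filter fun g : Perm (Fin 6) => g.cycleType = {3, 3})
    (fun g hg => ((ψ ⟨g, IsThreeCycle.mem_alternatingGroup
        (Finset.mem_filter.mp hg).2⟩ : ↥(alternatingGroup (Fin 6))) : Perm (Fin 6)))
    (by
      intro g hg
      rw [Finset.mem_filter]
      exact ⟨Finset.mem_univ _, hTD _ (Finset.mem_filter.mp hg).2⟩)
    (by
      intro g1 g2 hg1 hg2 h12
      have := ψ.injective (Subtype.ext h12)
      exact congrArg Subtype.val this)
    (by rw [card_T6, card_D6])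
  have hDT : ∀ y : ↥(alternatingGroup (Fin 6)), (y : Perm (Fin 6)).cycleType = {3, 3} →
      IsThreeCycle ((ψ y : ↥(alternatingGroup (Fin 6))) : Perm (Fin 6)) := by
    intro y hy
    rcases ord3_cases _ (ord_img ψ y (ord_of_ct33 _ hy)) with h | h
    · exact h
    · exfalso
      obtain ⟨a, ha, hab⟩ := hsurj _ (Finset.mem_filter.mpr ⟨Finset.mem_univ _, h⟩)
      have h1 := ψ.injective (Subtype.ext hab)
      have h2 : (y : Perm (Fin 6)) = a := congrArg Subtype.val h1
      have h3 : a.cycleType = {3} := (Finset.mem_filter.mp ha).2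
      rw [← h2, hy] at h3
      exact ct33_ne h3
  intro x hx
  rw [MulAut.mul_apply]
  exact hDT _ (hTD x hx)

theorem odd_good (φ : MulAut ↥(alternatingGroup (Fin 6))) (m : ℕ) (hm : Odd m)
    (hφm : φ ^ m = 1) : Good φ := by
  by_cases hg : Good φ
  · exact hg
  · obtain ⟨k, rfl⟩ := hm
    have h2 := good_pow (sq_good φ hg) (k + 1)
    have e : (φ * φ) ^ (k + 1) = φ := by
      rw [← pow_two, ← pow_mul]
      have : 2 * (k + 1) = (2 * k + 1) + 1 := by ring
      rw [this, pow_succ, hφm, one_mul]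
    rwa [e] at h2

end Six

/-! ### The general argument -/

section General

variable {n : ℕ}

theorem odd_mem_range (hn : 5 ≤ n) (φ : MulAut ↥(alternatingGroup (Fin n))) (m : ℕ)
    (hm : Odd m) (hφm : φ ^ m = 1) :
    φ ∈ (MulAut.conjNormal :
      Perm (Fin n) →* MulAut ↥(alternatingGroup (Fin n))).range := by
  by_cases h6 : n = 6
  · subst h6
    obtain ⟨σ, hσ⟩ := surj_of_three (by norm_num) φ (odd_good φ m hm hφm)
    refine ⟨σ, ?_⟩
    apply MulEquiv.ext
    intro x
    apply Subtype.ext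
    rw [MulAut.conjNormal_apply, hσ]
  · exact (Cfsg.Agent.S2119.result n (by omega) h6).2 φ

theorem card_range (hn : 5 ≤ n) :
    Nat.card ↥((MulAut.conjNormal :
      Perm (Fin n) →* MulAut ↥(alternatingGroup (Fin n))).range) = n.factorial := by
  have hinj := inj_aux (n := n) (by omega)
  rw [← Nat.card_congr (MonoidHom.ofInjective hinj).toEquiv, Nat.card_eq_fintype_card,
    Fintype.card_perm, Fintype.card_fin]

theorem sylow_card_dvd (hn : 5 ≤ n) (G : Subgroup (MulAut ↥(alternatingGroup (Fin n))))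
    (q : ℕ) [Fact q.Prime] (hq : Odd q) (Q : Sylow q G) :
    Nat.card (Q : Subgroup G) ∣ n.factorial := by
  have hle : (Q : Subgroup G).map G.subtype ≤ (MulAut.conjNormal :
      Perm (Fin n) →* MulAut ↥(alternatingGroup (Fin n))).range := by
    rintro _ ⟨x, hx, rfl⟩
    obtain ⟨k, hk⟩ := Q.isPGroup' ⟨x, hx⟩
    have hk' : (x : MulAut ↥(alternatingGroup (Fin n))) ^ (q ^ k) = 1 := by
      have h1 : x ^ (q ^ k) = 1 := by
        have := congrArg Subtype.val hk
        simpa using this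
      have h2 := congrArg Subtype.val h1
      simpa using h2
    exact odd_mem_range hn _ (q ^ k) hq.pow hk'
  have h1 := Subgroup.card_dvd_of_le hle
  rw [card_range hn, Subgroup.card_map_of_injective (Subgroup.subtype_injective _)] at h1
  exact h1

theorem nonab_card {H : Type*} [Group H] [Finite H] (q : ℕ) [Fact q.Prime]
    (hH : IsPGroup q H) (hnc : ¬ IsMulCommutative H) : q ^ 3 ∣ Nat.card H := by
  obtain ⟨k, hk⟩ := hH.exists_card_eq
  by_cases hk3 : 3 ≤ k
  · rw [hk]
    exact pow_dvd_pow q hk3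
  · exfalso
    apply hnc
    have hcases : k = 0 ∨ k = 1 ∨ k = 2 := by omega
    rcases hcases with rfl | rfl | rfl
    · rw [pow_zero] at hk
      haveI : Subsingleton H := (Nat.card_eq_one_iff_unique.mp hk).1
      exact ⟨⟨fun a b => Subsingleton.elim _ _⟩⟩
    · rw [pow_one] at hk
      haveI := isCyclic_of_prime_card hk
      exact IsCyclic.isMulCommutative
    · exact IsPGroup.isMulCommutative_of_card_eq_prime_sq hk

theorem three_mul_le (q : ℕ) (hq : q.Prime) (hq3 : 3 ≤ q) (n : ℕ)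
    (h : q ^ 3 ∣ n.factorial) : 3 * q ≤ n := by
  by_contra hlt
  push Not at hlt
  have hsq : n < q ^ 2 := by nlinarith
  have hlog : Nat.log q n < 2 := by
    rcases Nat.eq_zero_or_pos n with h0 | h0
    · rw [h0]; simp
    · exact Nat.log_lt_of_lt_pow (by omega) hsq
  have h1 := (hq.pow_dvd_factorial_iff hlog).mp h
  have h2 : ∑ i ∈ Finset.Ico 1 2, n / q ^ i = n / q := by
    simp
  rw [h2] at h1
  have h3 : n / q < 3 := Nat.div_lt_of_lt_mul (by linarith)
  omega

theorem exists_order_pq (p q : ℕ) (hp : p.Prime) (hq : q.Prime) (hpq : p < q)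
    (hn : 3 * q ≤ n) : ∃ x : ↥(alternatingGroup (Fin n)), orderOf x = p * q := by
  have hq3 : 3 ≤ q := by have := hp.two_le; omega
  have hqodd : Odd q := hq.odd_of_ne_two (by omega)
  have hcop : Nat.Coprime p q := (Nat.coprime_primes hp hq).mpr (by omega)
  by_cases hp2 : p = 2
  · subst hp2
    obtain ⟨g, hg⟩ := (Equiv.Perm.exists_with_cycleType_iff (Fin n)
      (m := ({2, 2, q} : Multiset ℕ))).mpr (by
        constructor
        · simp only [Multiset.insert_eq_cons, Multiset.sum_cons, Multiset.sum_singleton,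
            Fintype.card_fin]
          omega
        · intro a ha
          simp only [Multiset.insert_eq_cons, Multiset.mem_cons, Multiset.mem_singleton] at ha
          rcases ha with rfl | rfl | rfl <;> omega)
    have hsign : sign g = 1 := by
      rw [sign_of_cycleType, hg]
      simp only [Multiset.insert_eq_cons, Multiset.sum_cons, Multiset.sum_singleton,
        Multiset.card_cons, Multiset.card_singleton]
      apply Even.neg_one_pow
      obtain ⟨k, rfl⟩ := hqodd
      exact ⟨k + 4, by ring⟩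
    have hord : orderOf g = 2 * q := by
      rw [← lcm_cycleType, hg]
      simp only [Multiset.insert_eq_cons, Multiset.lcm_cons, Multiset.lcm_singleton,
        normalize_eq]
      have h1 : Nat.lcm 2 q = 2 * q := hcop.lcm_eq_mul
      show Nat.lcm 2 (Nat.lcm 2 q) = 2 * q
      rw [h1]
      exact Nat.lcm_eq_right (dvd_mul_right 2 q)
    exact ⟨⟨g, mem_alternatingGroup.mpr hsign⟩, by rw [Subgroup.orderOf_mk, hord]⟩
  · have hpodd : Odd p := hp.odd_of_ne_two hp2
    obtain ⟨g, hg⟩ := (Equiv.Perm.exists_with_cycleType_iff (Fin n)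
      (m := ({p, q} : Multiset ℕ))).mpr (by
        constructor
        · simp only [Multiset.insert_eq_cons, Multiset.sum_cons, Multiset.sum_singleton,
            Fintype.card_fin]
          omega
        · intro a ha
          simp only [Multiset.insert_eq_cons, Multiset.mem_cons, Multiset.mem_singleton] at ha
          have := hp.two_le
          rcases ha with rfl | rfl <;> omega)
    have hsign : sign g = 1 := by
      rw [sign_of_cycleType, hg]
      simp only [Multiset.insert_eq_cons, Multiset.sum_cons, Multiset.sum_singleton,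
        Multiset.card_cons, Multiset.card_singleton]
      apply Even.neg_one_pow
      obtain ⟨k, rfl⟩ := hqodd
      obtain ⟨l, rfl⟩ := hpodd
      exact ⟨k + l + 2, by ring⟩
    have hord : orderOf g = p * q := by
      rw [← lcm_cycleType, hg]
      simp only [Multiset.insert_eq_cons, Multiset.lcm_cons, Multiset.lcm_singleton,
        normalize_eq]
      exact hcop.lcm_eq_mul
    exact ⟨⟨g, mem_alternatingGroup.mpr hsign⟩, by rw [Subgroup.orderOf_mk, hord]⟩

theorem conj_inj (hn : 5 ≤ n) : Function.Injective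
    (MulAut.conj : ↥(alternatingGroup (Fin n)) →* MulAut ↥(alternatingGroup (Fin n))) := by
  rw [injective_iff_map_eq_one]
  intro x hx
  have hc : x ∈ Subgroup.center ↥(alternatingGroup (Fin n)) := by
    rw [Subgroup.mem_center_iff]
    intro y
    have h1 := DFunLike.congr_fun hx y
    rw [MulAut.conj_apply, MulAut.one_apply] at h1
    calc y * x = (x * y * x⁻¹) * x := by rw [h1]
      _ = x * y := by group
  rw [alternatingGroup.center_eq_bot (by simp; omega)] at hc
  exact Subgroup.mem_bot.mp hc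

theorem key (hn : 5 ≤ n) (G : Subgroup (MulAut ↥(alternatingGroup (Fin n))))
    (hG : (MulAut.conj : ↥(alternatingGroup (Fin n)) →*
      MulAut ↥(alternatingGroup (Fin n))).range ≤ G)
    (p q : ℕ) [Fact p.Prime] [Fact q.Prime] (hpq : p < q)
    (h : ∀ g : G, orderOf g ≠ p * q) :
    ∀ Q : Sylow q G, IsMulCommutative (Q : Subgroup G) := by
  intro Q
  by_contra hnc
  have hp := (Fact.out : p.Prime)
  have hq := (Fact.out : q.Prime)
  have hq3 : 3 ≤ q := by have := hp.two_le; omega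
  have hqodd : Odd q := hq.odd_of_ne_two (by omega)
  have h1 : q ^ 3 ∣ Nat.card (Q : Subgroup G) := nonab_card q Q.isPGroup' hnc
  have h2 := h1.trans (sylow_card_dvd hn G q hqodd Q)
  have h3 := three_mul_le q hq hq3 n h2
  obtain ⟨x, hx⟩ := exists_order_pq (n := n) p q hp hq hpq h3
  apply h ⟨MulAut.conj x, hG ⟨x, rfl⟩⟩
  rw [Subgroup.orderOf_mk, orderOf_injective _ (conj_inj hn), hx]

end General

/-- Let n ≥ 5 and let G be a group of automorphisms of the alternating group of degree n containing all inner automorphisms. If p ≠ q are primes and G has no element of order pq, then every Sylow p-subgroup of G is abelian or every Sylow q-subgroup of G is abelian. -/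
theorem result (n : ℕ) (hn : 5 ≤ n) (G : Subgroup (MulAut (alternatingGroup (Fin n))))
    (hG : (MulAut.conj : alternatingGroup (Fin n) →* MulAut (alternatingGroup (Fin n))).range ≤ G)
    (p q : ℕ) [Fact p.Prime] [Fact q.Prime] (hpq : p ≠ q) (h : ∀ g : G, orderOf g ≠ p * q) :
    (∀ P : Sylow p G, IsMulCommutative (P : Subgroup G)) ∨ (∀ Q : Sylow q G, IsMulCommutative (Q : Subgroup G)) := by
  rcases lt_or_gt_of_ne hpq with hlt | hgt
  · right
    exact key hn G hG p q hlt h
  · left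
    exact key hn G hG q p hgt (fun g => by rw [mul_comm]; exact h g)

end Cfsg.Agent.S4231
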