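import Cfsg.Statements.S1454
import Cfsg.Agent.Lib.Helper1.Cores
import Cfsg.Agent.Lib.Helper10.NarrowAct
import Cfsg.Agent.Lib.Helper10.NarrowSylow
import Cfsg.Agent.Lib.Helper10.NarrowRank3
import Cfsg.Agent.Lib.Helper10.Rank2Tower
import Cfsg.Agent.Lib.Helper10.Rank2Struct

set_option autoImplicit false
open Cfsg

namespace Cfsg.Agent.S1454

open Cfsg.Agent.Lib.Helper10

open scoped commutatorElement

/-- Let G be a finite group, p an odd prime, R a narrow p-subgroup and A a solvable subgroup of odd order normalizing R with A ∩ C_G(R) = 1. Then [A, A] ≤ O_p(A) and the index of O_p(A) in A is coprime to p; if R has an elementary abelian subgroup of order p ^ 3 then the order of every element of A of order coprime to p divides p − 1; and if the order of A is a prime not dividing p(p − 1), then 2·#A divides p + 1, and if in addition [R, A] = R and R is non-abelian then #R = p ^ 3. -/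
theorem result {G : Type*} [Group G] [Finite G] (p : ℕ) [Fact p.Prime] (hp : p ≠ 2) (R A : Subgroup G) (hR : IsPGroup p R) (hRn : Cfsg.IsNarrow p R)
    (hA : (A ≤ Subgroup.normalizer (R : Set G))) (hAs : Group.IsSolvable A) (hAodd : Odd (Nat.card A)) (hfaith : A ⊓ Subgroup.centralizer (R : Set G) = ⊥) :
    (commutator ↥A ≤ Cfsg.pCore p ↥A ∧ ((Cfsg.pCore p ↥A).index).Coprime p) ∧
      (¬ Cfsg.PRankLE p 2 R → ∀ a ∈ A, (orderOf a).Coprime p → orderOf a ∣ p - 1) ∧
      ((Nat.card A).Prime → ¬ Nat.card A ∣ p * (p - 1) →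
        2 * Nat.card A ∣ p + 1 ∧ (⁅R, A⁆ = R → ¬ IsMulCommutative R → Nat.card R = p ^ 3)) := by
  have hpp : p.Prime := Fact.out
  have hnar : IsNarrowSub p R := by
    rcases hRn with h | h
    · exact Or.inl h
    · right
      have h1 := hasNarrowWitness_range_of_isNarrow (p := p) R.subtype
        (Subgroup.subtype_injective R) h
      rw [Subgroup.range_subtype] at h1
      exact h1
  have htriv : ∀ x ∈ A, x ∈ Subgroup.centralizer (R : Set G) → x = 1 := by
    intro x hxA hxC
    have h1 : x ∈ A ⊓ Subgroup.centralizer (R : Set G) := Subgroup.mem_inf.mpr ⟨hxA, hxC⟩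
    rw [hfaith, Subgroup.mem_bot] at h1
    exact h1
  -- part (2)
  have hpart2 : ¬ Cfsg.PRankLE p 2 R → ∀ a ∈ A, (orderOf a).Coprime p → orderOf a ∣ p - 1 := by
    intro hrk a ha hcop
    have h1 := narrow_rank_three_pow_pred hp R hR hrk (hRn.resolve_left hrk) a (hA ha) hcop
    exact orderOf_dvd_of_pow_eq_one (htriv _ (pow_mem ha _) h1)
  refine ⟨?_, hpart2, ?_⟩
  · -- part (1)
    have h1 := isNarrowSub_commutator_pgroup hp R A hR hnar hA hAs hAodd
    have hcp : IsPGroup p (commutator ↥A) := by
      intro x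
      have hx : ((x : ↥A) : G) ∈ ⁅A, A⁆ := by
        rw [← Subgroup.map_subtype_commutator]
        exact ⟨x, x.2, rfl⟩
      obtain ⟨k, hk⟩ := h1 _ hx
      refine ⟨k, ?_⟩
      have h2 := htriv _ (pow_mem (x : ↥A).2 _) hk
      apply Subtype.ext
      apply Subtype.ext
      simpa using h2
    have hle : commutator ↥A ≤ Cfsg.pCore p ↥A :=
      Cfsg.Agent.Lib.Helper1.le_pCore inferInstance hcp
    refine ⟨hle, ?_⟩
    obtain ⟨P⟩ : Nonempty (Sylow p ↥A) := inferInstance
    have hPle : Cfsg.pCore p ↥A ≤ P := Cfsg.Agent.Lib.Helper1.pCore_le_sylow P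
    have hPn : (P : Subgroup ↥A).Normal := normal_of_commutator_le _ (hle.trans hPle)
    have hPeq : Cfsg.pCore p ↥A = P :=
      le_antisymm hPle (Cfsg.Agent.Lib.Helper1.le_pCore hPn P.2)
    rw [hPeq]
    exact ((Nat.Prime.coprime_iff_not_dvd hpp).mpr P.not_dvd_index).symm
  · -- part (3)
    intro hq hqd
    obtain ⟨q, hqdef⟩ : ∃ q : ℕ, q = Nat.card A := ⟨_, rfl⟩
    rw [← hqdef] at hq hqd ⊢
    have hqp : q ≠ p := by
      intro h
      apply hqd
      rw [h]
      exact dvd_mul_right p _
    have hq1 : ¬ q ∣ p - 1 := fun h => hqd (h.mul_left p)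
    have hq2 : q ≠ 2 := by
      intro h
      rw [← hqdef, h] at hAodd
      exact absurd hAodd (by decide)
    -- a generator
    have hne : A ≠ ⊥ := by
      intro h
      rw [h, Subgroup.card_bot] at hqdef
      exact hq.one_lt.ne' hqdef
    obtain ⟨⟨a, haA⟩, ha1'⟩ := Subgroup.ne_bot_iff_exists_ne_one.mp hne
    have ha1 : a ≠ 1 := fun h => ha1' (Subtype.ext h)
    haveI hqf : Fact q.Prime := ⟨hq⟩
    have haq : a ^ q = 1 := by rw [hqdef]; exact pow_card_subgroup_eq_one A haA
    have hoa : orderOf a = q := orderOf_eq_prime haq ha1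
    have hacop : (orderOf a).Coprime p := by
      rw [hoa]; exact (Nat.coprime_primes hq hpp).mpr hqp
    have hac : a ∉ Subgroup.centralizer (R : Set G) := fun h => ha1 (htriv a haA h)
    have haqc : a ^ q ∈ Subgroup.centralizer (R : Set G) := by rw [haq]; exact one_mem _
    have hgenA : ∀ b ∈ A, b ∈ Subgroup.zpowers a := by
      intro b hb
      exact mem_zpowers_of_card_prime (p := q) A hqdef.symm haA ha1 hb
    -- the rank is at most two
    have hrk : Cfsg.PRankLE p 2 R := by
      by_contra hrk
      have h1 := hpart2 hrk a haA hacop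
      rw [hoa] at h1
      exact hq1 h1
    have hdvd := rank_two_prime_dvd hp R hR hrk a (hA haA) hacop q hq hqp haqc hac
    have hqdvd : q ∣ p + 1 := by
      rcases (Nat.Prime.dvd_mul hq).mp hdvd with h | h
      · have h2 : p ^ 2 - 1 = (p - 1) * (p + 1) := by
          have h3 : 1 ≤ p := hpp.one_le
          obtain ⟨k, rfl⟩ := Nat.exists_eq_add_of_le h3
          simp only [Nat.add_sub_cancel_left]
          have : (1 + k) ^ 2 = 1 + (k * (1 + k + 1)) := by ring
          rw [this, Nat.add_sub_cancel_left]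
        rw [h2] at h
        rcases (Nat.Prime.dvd_mul hq).mp h with h4 | h4
        · exact absurd h4 hq1
        · exact h4
      · exfalso
        apply hqd
        have h2 : p ^ 2 - p = p * (p - 1) := by
          rw [Nat.mul_sub, mul_one, pow_two]
        rw [h2] at h
        exact h
    refine ⟨?_, ?_⟩
    · have h2 : 2 ∣ p + 1 := by
        rcases hpp.eq_two_or_odd with h | h
        · exact absurd h hp
        · omega
      have hcop2 : Nat.Coprime 2 q := (Nat.coprime_primes Nat.prime_two hq).mpr (Ne.symm hq2)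
      exact Nat.Coprime.mul_dvd_of_dvd_of_dvd hcop2 h2 hqdvd
    · intro hRA hna
      have hR1 : R ≠ ⊥ := by
        intro h
        apply hna
        rw [h]
        exact ⟨⟨fun a b => Subsingleton.elim _ _⟩⟩
      have hcopA : (Nat.card A).Coprime p := by
        rw [← hqdef]; exact (Nat.coprime_primes hq hpp).mpr hqp
      obtain ⟨h3, S, hcube, htop⟩ :=
        exists_omegaCube_of_commutator_eq p hp R A hR hR1 hrk hA hcopA hAodd hRA hna
      haveI := hcube.characteristic
      have hinj := Subgroup.subtype_injective R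
      -- the centralizer of `S`
      obtain ⟨C, hC⟩ : ∃ C : Subgroup ↥R, C = Subgroup.centralizer (S : Set ↥R) := ⟨_, rfl⟩
      have hCchar : C.Characteristic := by rw [hC]; infer_instance
      have hCcyc : IsCyclic ↥C := by rw [hC]; exact hcube.isCyclic_centralizer hp hR
      rw [← hC] at htop
      obtain ⟨C', hC'⟩ : ∃ C' : Subgroup G, C' = C.map R.subtype := ⟨_, rfl⟩
      have hC'R : C' ≤ R := by rw [hC']; exact Subgroup.map_subtype_le C
      have hC'cyc : IsCyclic ↥C' := by
        rw [hC']
        exact isCyclic_of_surjective (C.equivMapOfInjective R.subtype hinj)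
          (MulEquiv.surjective _)
      have hnC' : Subgroup.normalizer (R : Set G) ≤ Subgroup.normalizer (C' : Set G) := by
        rw [hC']
        exact Cfsg.Agent.Lib.Helper1.normalizer_le_normalizer_map_of_characteristic R C
      have haC' : a ∈ Subgroup.centralizer (C' : Set G) :=
        mem_centralizer_cyclic_of_prime C' hC'cyc (hR.to_le hC'R) a (hnC' (hA haA)) q hq hqp hq1
          (by rw [haq]; exact one_mem _)
      -- `C` is central in `R`
      have hCab : ∀ c ∈ C, ∀ c' ∈ C, c * c' = c' * c := by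
        intro c hc c' hc'
        obtain ⟨g, hg⟩ := hCcyc.exists_generator
        obtain ⟨i, hi⟩ := hg ⟨c, hc⟩
        obtain ⟨j, hj⟩ := hg ⟨c', hc'⟩
        have h1 : (⟨c, hc⟩ : ↥C) * ⟨c', hc'⟩ = ⟨c', hc'⟩ * ⟨c, hc⟩ := by
          rw [← hi, ← hj]
          exact ((Commute.refl g).zpow_zpow i j).eq
        exact congrArg Subtype.val h1
      have hform : ∀ r : ↥R, ∃ s ∈ S, ∃ c ∈ C, r = s * c := by
        intro r
        have hr : r ∈ S ⊔ C := by rw [htop]; exact Subgroup.mem_top r
        obtain ⟨s, hs, c, hc, rfl⟩ := Subgroup.mem_sup_of_normal_left.mp hr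
        exact ⟨s, hs, c, hc, rfl⟩
      have hCcen : ∀ c ∈ C, ∀ r : ↥R, r * c = c * r := by
        intro c hc r
        obtain ⟨s, hs, c', hc', rfl⟩ := hform r
        have h1 : s * c = c * s := by
          rw [hC, Subgroup.mem_centralizer_iff] at hc
          exact hc s hs
        calc s * c' * c = s * (c' * c) := by group
          _ = s * (c * c') := by rw [hCab c' hc' c hc]
          _ = (s * c) * c' := by group
          _ = (c * s) * c' := by rw [h1]
          _ = c * (s * c') := by group
      -- the derived subgroup of `R` lies in `Z(S)`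
      obtain ⟨Z', hZ'⟩ : ∃ Z' : Subgroup G, Z' = (zS S).map R.subtype := ⟨_, rfl⟩
      have hZ'R : Z' ≤ R := by rw [hZ']; exact Subgroup.map_subtype_le _
      have hnZ' : Subgroup.normalizer (R : Set G) ≤ Subgroup.normalizer (Z' : Set G) := by
        rw [hZ']
        exact Cfsg.Agent.Lib.Helper1.normalizer_le_normalizer_map_of_characteristic R (zS S)
      have hab : ⁅R, R⁆ ≤ Z' := by
        rw [Subgroup.commutator_le]
        intro x hx y hy
        obtain ⟨s, hs, c, hc, hxe⟩ := hform ⟨x, hx⟩
        obtain ⟨s', hs', c', hc', hye⟩ := hform ⟨y, hy⟩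
        have h1 : ⁅(⟨x, hx⟩ : ↥R), ⟨y, hy⟩⁆ = ⁅s, s'⁆ := by
          rw [hxe, hye, commutatorElement_def, commutatorElement_def]
          have e1 := hCcen c hc
          have e2 := hCcen c' hc'
          calc s * c * (s' * c') * (s * c)⁻¹ * (s' * c')⁻¹
              = s * (c * s') * (c' * c⁻¹) * s⁻¹ * c'⁻¹ * s'⁻¹ := by group
            _ = s * (s' * c) * (c' * c⁻¹) * s⁻¹ * c'⁻¹ * s'⁻¹ := by rw [e1 s']
            _ = s * s' * (c * c' * c⁻¹) * s⁻¹ * c'⁻¹ * s'⁻¹ := by group
            _ = s * s' * (c' * c * c⁻¹) * s⁻¹ * c'⁻¹ * s'⁻¹ := by rw [hCab c hc c' hc']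
            _ = s * s' * (c' * s⁻¹) * c'⁻¹ * s'⁻¹ := by group
            _ = s * s' * (s⁻¹ * c') * c'⁻¹ * s'⁻¹ := by rw [← e2 s⁻¹]
            _ = s * s' * s⁻¹ * s'⁻¹ := by group
        have h2 : ⁅x, y⁆ = ((⁅(⟨x, hx⟩ : ↥R), ⟨y, hy⟩⁆ : ↥R) : G) := by
          simp [commutatorElement_def]
        rw [h2, h1, hZ']
        exact ⟨_, hcube.comm_mem_zS hR hs hs', rfl⟩
      have hcop' : (Nat.card A).Coprime (Nat.card R) := by
        obtain ⟨n, hn⟩ := hR.exists_card_eq
        rw [hn]
        exact hcopA.pow_right n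
      have hCZ : C' ≤ Z' := by
        intro c hc
        apply mem_of_commutator_mem_of_coprime R A Z' hZ'R hA (hA.trans hnZ')
          (Subgroup.le_normalizer.trans hnZ') hab hcop' hRA (hC'R hc)
        intro b hb
        have h1 : b ∈ Subgroup.centralizer (C' : Set G) :=
          (Subgroup.zpowers_le.mpr haC') (hgenA b hb)
        have h2 := (Subgroup.mem_centralizer_iff.mp h1) c hc
        have h3 : ⁅c, b⁆ = 1 := by
          rw [commutatorElement_eq_one_iff_mul_comm]; exact h2
        rw [h3]
        exact one_mem _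
      have hCS : C ≤ S := by
        intro c hc
        have h1 : (c : G) ∈ C' := by rw [hC']; exact ⟨c, hc, rfl⟩
        have h2 := hCZ h1
        rw [hZ'] at h2
        obtain ⟨z, hz, hze⟩ := h2
        have h3 : z = c := Subtype.ext hze
        rw [← h3]
        exact zS_le S hz
      have hStop : S = ⊤ := by
        rw [← htop]
        exact (sup_of_le_left hCS).symm
      rw [← Subgroup.card_top (G := ↥R), ← hStop]
      exact hcube.card_eq

end Cfsg.Agent.S1454
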