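import Cfsg.Statements.S1029
import Cfsg.Agent.Lib.Helper8.ChevU3

set_option autoImplicit false
open Cfsg

namespace Cfsg.Agent.S1029

open Cfsg.Agent.Lib.Helper8.Chev Cfsg.Lie Matrix
open scoped commutatorElement

variable {D : ChevalleyDatum} {F : Type*} [Field F]

/-- the `k`-th term of the central series: the elements `g` of `U` with `g - 1` at least `k + 1` steps
below the diagonal -/
def series (hU : ∀ g : GL D.Idx F, g ∈ D.posUnipotent F → (g : Matrix D.Idx D.Idx F) - 1 ∈ LowK D F 1)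
    (k : ℕ) : Subgroup (D.posUnipotent F) where
  carrier := {g | ((g : GL D.Idx F) : Matrix D.Idx D.Idx F) - 1 ∈ LowK D F (k + 1)}
  one_mem' := by
    show ((1 : GL D.Idx F) : Matrix D.Idx D.Idx F) - 1 ∈ LowK D F (k + 1)
    simpa using zero_mem_LowK (D := D) (R := F) (k + 1)
  mul_mem' := by
    intro g g' hg hg'
    show (((g : GL D.Idx F) * (g' : GL D.Idx F) : GL D.Idx F) : Matrix D.Idx D.Idx F) - 1 ∈ LowK D F (k + 1)
    have : (((g : GL D.Idx F) * (g' : GL D.Idx F) : GL D.Idx F) : Matrix D.Idx D.Idx F) - 1 =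
        (((g : GL D.Idx F) : Matrix D.Idx D.Idx F) - 1) * (((g' : GL D.Idx F) : Matrix D.Idx D.Idx F) - 1) +
          (((g : GL D.Idx F) : Matrix D.Idx D.Idx F) - 1) + (((g' : GL D.Idx F) : Matrix D.Idx D.Idx F) - 1) := by
      rw [Units.val_mul]; noncomm_ring
    rw [this]
    exact LowK_add (LowK_add (LowK_mono (by omega) (LowK_mul hg hg')) hg) hg'
  inv_mem' := by
    intro g hg
    show (((g : GL D.Idx F)⁻¹ : GL D.Idx F) : Matrix D.Idx D.Idx F) - 1 ∈ LowK D F (k + 1)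
    have h1 := hU _ (inv_mem g.2)
    have hmul : (((g : GL D.Idx F)⁻¹ : GL D.Idx F) : Matrix D.Idx D.Idx F) * ((g : GL D.Idx F) : Matrix D.Idx D.Idx F) = 1 := by
      rw [← Units.val_mul, inv_mul_cancel]; rfl
    have : (((g : GL D.Idx F)⁻¹ : GL D.Idx F) : Matrix D.Idx D.Idx F) - 1 =
        -(((g : GL D.Idx F) : Matrix D.Idx D.Idx F) - 1) -
          ((((g : GL D.Idx F)⁻¹ : GL D.Idx F) : Matrix D.Idx D.Idx F) - 1) *
            (((g : GL D.Idx F) : Matrix D.Idx D.Idx F) - 1) := by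
      have e : ((((g : GL D.Idx F)⁻¹ : GL D.Idx F) : Matrix D.Idx D.Idx F) - 1) *
          (((g : GL D.Idx F) : Matrix D.Idx D.Idx F) - 1) =
          1 - (((g : GL D.Idx F)⁻¹ : GL D.Idx F) : Matrix D.Idx D.Idx F) - ((g : GL D.Idx F) : Matrix D.Idx D.Idx F) + 1 := by
        rw [sub_mul, mul_sub, mul_sub, hmul]; noncomm_ring
      rw [e]; noncomm_ring
    rw [this]
    exact LowK_sub (LowK_neg hg) (LowK_mono (by omega) (LowK_mul h1 hg))

/-- The positive unipotent subgroup is nilpotent. -/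
theorem result {F : Type*} [Field F] (D : Cfsg.Lie.ChevalleyDatum) (hD : D ∈ [Cfsg.Lie.chevG2, Cfsg.Lie.chevB2, Cfsg.Lie.chevD4, Cfsg.Lie.chevF4, Cfsg.Lie.chevE6, Cfsg.Lie.chevE7, Cfsg.Lie.chevE8]) : Group.IsNilpotent (D.posUnipotent F) := by
  have hU : ∀ g : GL D.Idx F, g ∈ D.posUnipotent F → (g : Matrix D.Idx D.Idx F) - 1 ∈ LowK D F 1 :=
    fun g hg => posUnipotent_sub_one_mem (valid0_of_mem hD) (valid1_of_mem hD) (triP_of_mem hD)
      (posP_of_mem hD) hg
  rw [Subgroup.nilpotent_iff_finite_descending_central_series]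
  refine ⟨D.nroots + D.rank, series hU, ⟨?_, ?_⟩, ?_⟩
  · -- H 0 = ⊤
    rw [eq_top_iff]
    intro g _
    exact hU _ g.2
  · -- commutators
    intro x n hx g
    show ((((⁅x, g⁆ : D.posUnipotent F) : GL D.Idx F)) : Matrix D.Idx D.Idx F) - 1 ∈ LowK D F (n + 1 + 1)
    have hx' : ((x : GL D.Idx F) : Matrix D.Idx D.Idx F) - 1 ∈ LowK D F (n + 1) := hx
    have hg' := hU _ g.2
    have hxi := hU _ (inv_mem x.2)
    have hgi := hU _ (inv_mem g.2)
    set X := ((x : GL D.Idx F) : Matrix D.Idx D.Idx F) with hX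
    set G := ((g : GL D.Idx F) : Matrix D.Idx D.Idx F) with hG
    set Xi := (((x : GL D.Idx F)⁻¹ : GL D.Idx F) : Matrix D.Idx D.Idx F) with hXi
    set Gi := (((g : GL D.Idx F)⁻¹ : GL D.Idx F) : Matrix D.Idx D.Idx F) with hGi
    have e1 : X * Xi = 1 := by rw [hX, hXi, ← Units.val_mul, mul_inv_cancel]; rfl
    have e2 : G * Gi = 1 := by rw [hG, hGi, ← Units.val_mul, mul_inv_cancel]; rfl
    have hc : (((⁅x, g⁆ : D.posUnipotent F) : GL D.Idx F) : Matrix D.Idx D.Idx F) = X * G * Xi * Gi := by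
      rw [commutatorElement_def]
      simp only [Subgroup.coe_mul, Subgroup.coe_inv, Units.val_mul, hX, hG, hXi, hGi]
    have e3 : X * G * Xi * Gi - 1 = ((X - 1) * (G - 1) - (G - 1) * (X - 1)) * (Xi * Gi) := by
      have : (X - 1) * (G - 1) - (G - 1) * (X - 1) = X * G - G * X := by noncomm_ring
      rw [this, sub_mul]
      have : G * X * (Xi * Gi) = 1 := by
        calc G * X * (Xi * Gi) = G * (X * Xi) * Gi := by noncomm_ring
          _ = 1 := by rw [e1, mul_one, e2]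
      rw [this]; noncomm_ring
    rw [hc, e3]
    have h0 : Xi * Gi ∈ LowK D F 0 := by
      have : Xi * Gi = (Xi - 1) * (Gi - 1) + (Xi - 1) + (Gi - 1) + 1 := by noncomm_ring
      rw [this]
      exact LowK_add (LowK_add (LowK_add (LowK_mono (by omega) (LowK_mul hxi hgi))
        (LowK_mono (by omega) hxi)) (LowK_mono (by omega) hgi)) one_mem_LowK
    have := LowK_mul (LowK_sub (LowK_mul hx' hg') (LowK_mono (by omega) (LowK_mul hg' hx'))) h0
    exact LowK_mono (by omega) this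
  · -- H N = ⊥
    rw [eq_bot_iff]
    intro g hg
    have h0 : ((g : GL D.Idx F) : Matrix D.Idx D.Idx F) - 1 = 0 :=
      eq_zero_of_mem_LowK (by omega) hg
    rw [Subgroup.mem_bot]
    apply Subtype.ext
    apply Units.ext
    rw [sub_eq_zero] at h0
    rw [h0]; rfl

end Cfsg.Agent.S1029
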