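import Cfsg.Statements.S0624
import Cfsg.Agent.S0623
import Cfsg.Agent.S0607
import Cfsg.Agent.H5.Thompson
import Cfsg.Agent.H5.Basic
import Cfsg.Agent.H5.Cores
import Cfsg.Agent.Lib.Helper16.SylowInf
import Cfsg.Agent.Lib.Helper1.Frattini

set_option autoImplicit false
open Cfsg
open scoped commutatorElement

namespace Cfsg.Agent.S0624

universe u

variable {G : Type u} [Group G]

theorem isElementaryAbelian_omegaCenterThompson (p : ℕ) (S : Type u) [Group S] :
    Cfsg.IsElementaryAbelian p (Cfsg.omegaCenterThompson p S) := by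
  unfold Cfsg.omegaCenterThompson Cfsg.omegaOne
  apply Cfsg.H5.isElementaryAbelian_closure
  · rintro x ⟨⟨hxJ, hxC⟩, -⟩ y ⟨⟨hyJ, hyC⟩, -⟩
    exact (Subgroup.mem_centralizer_iff.mp hyC) x hxJ
  · rintro x ⟨-, hx⟩
    exact hx

theorem map_inclusion {S N : Subgroup G} (h : S ≤ N) (K : Subgroup ↥S) :
    K.map (Subgroup.inclusion h) = (K.map S.subtype).subgroupOf N := by
  ext x
  rw [Subgroup.mem_subgroupOf]
  constructor
  · rintro ⟨k, hk, rfl⟩
    exact ⟨k, hk, rfl⟩
  · rintro ⟨k, hk, hkx⟩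
    exact ⟨k, hk, Subtype.ext hkx⟩

theorem quad_conj {H : Type*} [Group H] (V : Subgroup H) [V.Normal] {a : H}
    (ha : ⁅⁅V, Subgroup.zpowers a⁆, Subgroup.zpowers a⁆ = ⊥) (h : H) :
    ⁅⁅V, Subgroup.zpowers (h * a * h⁻¹)⁆, Subgroup.zpowers (h * a * h⁻¹)⁆ = ⊥ := by
  have h1 := congrArg (Subgroup.map (MulAut.conj h).toMonoidHom) ha
  have hV : V.map (MulAut.conj h).toMonoidHom = V := Subgroup.Normal.conj_smul_eq_self h V
  have hae : (MulAut.conj h).toMonoidHom a = h * a * h⁻¹ := by simp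
  rwa [Subgroup.map_bot, Subgroup.map_commutator, Subgroup.map_commutator,
    MonoidHom.map_zpowers, hV, hae] at h1

theorem isPGroup_sectionKernel [Finite G] {p : ℕ} [Fact p.Prime]
    (hc : Subgroup.centralizer (Cfsg.pCore p G : Set G) ≤ Cfsg.pCore p G) :
    IsPGroup p ↥(Cfsg.sectionKernel (Cfsg.pCore p G)
      ((frattini ↥(Cfsg.pCore p G)).map (Cfsg.pCore p G).subtype)) := by
  have hQp := Cfsg.H5.pCore_isPGroup p G
  have hpp : p.Prime := Fact.out
  have key : ∀ g ∈ Cfsg.sectionKernel (Cfsg.pCore p G)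
      ((frattini ↥(Cfsg.pCore p G)).map (Cfsg.pCore p G).subtype), ∃ k : ℕ, g ^ p ^ k = 1 := by
    intro g hg
    have hord : orderOf g ≠ 0 := (orderOf_pos g).ne'
    obtain ⟨e, m, hm, hem⟩ := Nat.exists_eq_pow_mul_and_not_dvd hord p hpp.ne_one
    refine ⟨e, ?_⟩
    obtain ⟨g', hg'⟩ : ∃ g', g' = g ^ p ^ e := ⟨_, rfl⟩
    rw [← hg']
    have hg'K : g' ∈ Cfsg.sectionKernel (Cfsg.pCore p G)
        ((frattini ↥(Cfsg.pCore p G)).map (Cfsg.pCore p G).subtype) := by
      rw [hg']; exact Subgroup.pow_mem _ hg _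
    have hg'm : g' ^ m = 1 := by
      rw [hg', ← pow_mul, ← hem]; exact pow_orderOf_eq_one g
    have h1 : orderOf g' ∣ m := orderOf_dvd_of_pow_eq_one hg'm
    have h2 : (orderOf g').Coprime p :=
      Nat.Coprime.coprime_dvd_left h1 ((Nat.Prime.coprime_iff_not_dvd hpp).mpr hm).symm
    have hcop : (Nat.card (Subgroup.zpowers g')).Coprime
        (Nat.card (frattini ↥(Cfsg.pCore p G))) := by
      rw [Nat.card_zpowers]
      obtain ⟨n, hn⟩ := (IsPGroup.iff_card).mp (hQp.to_subgroup (frattini ↥(Cfsg.pCore p G)))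
      rw [hn]
      exact Nat.Coprime.pow_right n h2
    have hAK : Subgroup.zpowers g' ≤ Subgroup.normalizer ((Cfsg.pCore p G : Subgroup G) : Set G) := by
      rw [Subgroup.normalizer_eq_top_iff.mpr inferInstance]; exact le_top
    have htriv : ∀ a ∈ Subgroup.zpowers g', ∀ k ∈ Cfsg.pCore p G,
        a * k * a⁻¹ * k⁻¹ ∈ (frattini ↥(Cfsg.pCore p G)).map (Cfsg.pCore p G).subtype := by
      intro a ha k hk
      have haK : a ∈ Cfsg.sectionKernel (Cfsg.pCore p G)
          ((frattini ↥(Cfsg.pCore p G)).map (Cfsg.pCore p G).subtype) :=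
        (Subgroup.zpowers_le.mpr hg'K) ha
      have ha' : (QuotientGroup.mk' ((frattini ↥(Cfsg.pCore p G)).map (Cfsg.pCore p G).subtype)) a ∈
          Subgroup.centralizer (((Cfsg.pCore p G).map (QuotientGroup.mk'
            ((frattini ↥(Cfsg.pCore p G)).map (Cfsg.pCore p G).subtype)) : Subgroup _) : Set _) := haK
      have h3 := (Subgroup.mem_centralizer_iff.mp ha') _ (Subgroup.mem_map_of_mem _ hk)
      have h4 : (QuotientGroup.mk' ((frattini ↥(Cfsg.pCore p G)).map (Cfsg.pCore p G).subtype))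
          (a * k * a⁻¹ * k⁻¹) = 1 := by
        rw [map_mul, map_mul, map_mul, map_inv, map_inv, ← h3]
        group
      exact (QuotientGroup.eq_one_iff _).mp h4
    have hcen := Cfsg.Agent.Lib.Helper1.le_centralizer_of_commutator_le_frattini
      (Subgroup.zpowers g') (Cfsg.pCore p G) hAK hcop htriv
    have hg'Q : g' ∈ Cfsg.pCore p G := hc (hcen (Subgroup.mem_zpowers g'))
    obtain ⟨k', hk'⟩ := hQp ⟨g', hg'Q⟩
    have hk'' : g' ^ p ^ k' = 1 := by
      have := congrArg Subtype.val hk'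
      simpa using this
    have h5 : orderOf g' ∣ p ^ k' := orderOf_dvd_of_pow_eq_one hk''
    have h6 : orderOf g' = 1 := Nat.Coprime.eq_one_of_dvd (Nat.Coprime.pow_right k' h2) h5
    exact orderOf_eq_one_iff.mp h6
  intro ⟨g, hg⟩
  obtain ⟨k, hk⟩ := key g hg
  refine ⟨k, Subtype.ext ?_⟩
  simpa using hk

theorem isStableEmbedding_inclusion [Finite G] {p : ℕ} [Fact p.Prime] (S : Sylow p G) (N : Subgroup G)
    (hSN : (S : Subgroup G) ≤ N)
    (hJN : N ≤ Subgroup.normalizer (Cfsg.thompsonSubgroupOf p (S : Subgroup G) : Set G))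
    (hc : Subgroup.centralizer (Cfsg.pCore p G : Set G) ≤ Cfsg.pCore p G)
    (hstab : ∀ (V : Subgroup ↥N) [V.Normal],
      V.map N.subtype ≤ (Cfsg.omegaCenterThompson p ↥(S : Subgroup G)).map (S : Subgroup G).subtype →
        Cfsg.IsPStableOn p V) :
    Cfsg.IsStableEmbedding p (Subgroup.inclusion hSN) := by
  refine ⟨Subgroup.inclusion_injective hSN, inferInstance, ⟨S.subtype hSN, ?_⟩, ?_, ?_, ?_⟩
  · rw [Sylow.coe_subtype]
    ext x
    rw [Subgroup.mem_subgroupOf, MonoidHom.mem_range]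
    constructor
    · intro hx; exact ⟨⟨x, hx⟩, Subtype.ext rfl⟩
    · rintro ⟨y, rfl⟩; exact y.2
  · have hQp := Cfsg.H5.pCore_isPGroup p G
    have hQS : Cfsg.pCore p G ≤ S := hQp.le_sylow_of_normal S
    have hQN : (Cfsg.pCore p G).subgroupOf N ≤ Cfsg.pCore p ↥N :=
      Cfsg.H5.le_pCore inferInstance hQp.comap_subtype
    intro x hx
    apply hQN
    rw [Subgroup.mem_subgroupOf]
    apply hc
    rw [Subgroup.mem_centralizer_iff]
    intro q hq
    have hqN : q ∈ N := hSN (hQS hq)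
    have h1 : (⟨q, hqN⟩ : ↥N) ∈ Cfsg.pCore p ↥N :=
      hQN (by rw [Subgroup.mem_subgroupOf]; exact hq)
    have h2 := (Subgroup.mem_centralizer_iff.mp hx) ⟨q, hqN⟩ h1
    exact congrArg Subtype.val h2
  · rw [map_inclusion]
    have hJle : Cfsg.thompsonSubgroupOf p (S : Subgroup G) ≤ N :=
      (Subgroup.map_subtype_le _).trans hSN
    exact (Subgroup.normal_subgroupOf_iff_le_normalizer hJle).mpr hJN
  · intro V hVn hVle
    apply hstab V
    calc V.map N.subtype
        ≤ ((Cfsg.omegaCenterThompson p ↥(S : Subgroup G)).map (Subgroup.inclusion hSN)).map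
            N.subtype := Subgroup.map_mono hVle
      _ = (Cfsg.omegaCenterThompson p ↥(S : Subgroup G)).map (S : Subgroup G).subtype := by
          rw [Subgroup.map_map, Subgroup.subtype_comp_inclusion]

/-- The analogue of the ZJ-Theorem: in an action-p-stable group whose largest normal p-subgroup contains its centralizer, the characteristic subgroup W(S) of a Sylow p-subgroup S is normal. -/
theorem result {G : Type*} [Group G] [Finite G] {p : ℕ} [Fact p.Prime] (hst : Cfsg.IsActionPStable p G) (hc : Subgroup.centralizer (Cfsg.pCore p G : Set G) ≤ Cfsg.pCore p G) (S : Sylow p G) : (((Cfsg.stableNormalClosure p ↥(S : Subgroup G)).map (S : Subgroup G).subtype)).Normal := by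
  obtain ⟨hst1, hst2, hst3⟩ := hst
  have hS : IsPGroup p ↥(S : Subgroup G) := S.isPGroup'
  obtain ⟨hWschar, -, hWsJ, -, -⟩ := Cfsg.Agent.S0622.result hS
  have hWsn : (Cfsg.stableNormalClosure p ↥(S : Subgroup G)).Normal := inferInstance
  obtain ⟨W, hW⟩ : ∃ W : Subgroup G, W =
      (Cfsg.stableNormalClosure p ↥(S : Subgroup G)).map (S : Subgroup G).subtype := ⟨_, rfl⟩
  rw [← hW]
  have hWS : W ≤ S := by rw [hW]; exact Subgroup.map_subtype_le _
  have hWea : Cfsg.IsElementaryAbelian p W := by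
    rw [hW]
    exact Cfsg.H5.isElementaryAbelian_map _
      (Cfsg.H5.isElementaryAbelian_mono (isElementaryAbelian_omegaCenterThompson p _) hWsJ)
  have hWcomm : ∀ x ∈ W, ∀ y ∈ W, x * y = y * x := by
    intro x hx y hy
    have := hWea.1
    exact congrArg Subtype.val (mul_comm' (⟨x, hx⟩ : ↥W) ⟨y, hy⟩)
  have hnormS : ∀ s ∈ (S : Subgroup G), ∀ w ∈ W, s * w * s⁻¹ ∈ W := by
    intro s hs w hw
    rw [hW] at hw ⊢
    obtain ⟨w', hw', rfl⟩ := hw
    exact ⟨⟨s, hs⟩ * w' * ⟨s, hs⟩⁻¹, hWsn.conj_mem w' hw' ⟨s, hs⟩, rfl⟩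
  have hQp := Cfsg.H5.pCore_isPGroup p G
  have hQn : (Cfsg.pCore p G).Normal := inferInstance
  have hQS : Cfsg.pCore p G ≤ S := hQp.le_sylow_of_normal S
  -- Step 1: W ≤ O_p(G)
  have hWQ : W ≤ Cfsg.pCore p G := by
    intro a ha
    have hq : ⁅⁅Cfsg.pCore p G, Subgroup.zpowers a⁆, Subgroup.zpowers a⁆ = ⊥ := by
      rw [Cfsg.Agent.S0623.quad_iff]
      intro v hv g hg g' hg'
      have hgW : g ∈ W := (Subgroup.zpowers_le.mpr ha) hg
      have hg'W : g' ∈ W := (Subgroup.zpowers_le.mpr ha) hg'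
      have hu : ⁅v, g⁆ ∈ W := by
        rw [commutatorElement_def]
        exact W.mul_mem (hnormS v (hQS hv) g hgW) (W.inv_mem hgW)
      exact commutatorElement_eq_one_iff_mul_comm.mpr (hWcomm _ hu _ hg'W)
    obtain ⟨D, hDn, hKD, ⟨k, hk⟩, haD⟩ := hst2 a (by rw [hq]; exact bot_le)
    obtain ⟨n, hn⟩ := (IsPGroup.iff_card).mp (isPGroup_sectionKernel hc)
    have hcard : Nat.card D = p ^ (k + n) := by
      rw [← Cfsg.Agent.Lib.Helper16.relIndex_mul_card_of_le hKD, hk, hn, pow_add]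
    exact Cfsg.H5.le_pCore hDn (IsPGroup.of_card hcard) haD
  -- Lemma B
  have hB : ∀ s ∈ (S : Subgroup G), ⁅⁅W, Subgroup.zpowers s⁆, Subgroup.zpowers s⁆ = ⊥ →
      s ∈ Subgroup.centralizer (W : Set G) := by
    intro s hs hq
    have hq' : ⁅⁅Cfsg.stableNormalClosure p ↥(S : Subgroup G),
        Subgroup.zpowers (⟨s, hs⟩ : ↥(S : Subgroup G))⁆,
        Subgroup.zpowers (⟨s, hs⟩ : ↥(S : Subgroup G))⁆ = ⊥ := by
      apply Subgroup.map_injective (S : Subgroup G).subtype_injective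
      rw [Subgroup.map_bot, Subgroup.map_commutator, Subgroup.map_commutator,
        MonoidHom.map_zpowers, ← hW]
      exact hq
    have hr := Cfsg.Agent.S0623.result hS ⟨s, hs⟩ hq'
    have hr' : ⁅W, Subgroup.zpowers s⁆ = ⊥ := by
      have h1 := congrArg (Subgroup.map (S : Subgroup G).subtype) hr
      rwa [Subgroup.map_bot, Subgroup.map_commutator, MonoidHom.map_zpowers, ← hW] at h1
    rw [Subgroup.mem_centralizer_iff]
    intro w hw
    have h2 : ⁅w, s⁆ ∈ ⁅W, Subgroup.zpowers s⁆ :=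
      Subgroup.commutator_mem_commutator hw (Subgroup.mem_zpowers s)
    rw [hr', Subgroup.mem_bot] at h2
    exact commutatorElement_eq_one_iff_mul_comm.mp h2
  -- Lemma A
  have hA : ∀ x ∈ W, ∀ g : G, g⁻¹ * x * g ∈ Subgroup.centralizer (W : Set G) := by
    intro x hx g
    obtain ⟨y, hy⟩ : ∃ y, y = g⁻¹ * x * g := ⟨_, rfl⟩
    rw [← hy]
    have hyQ : y ∈ Cfsg.pCore p G := by
      have := hQn.conj_mem x (hWQ hx) g⁻¹
      rw [inv_inv] at this
      rw [hy]; exact this
    apply hB y (hQS hyQ)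
    rw [Cfsg.Agent.S0623.quad_iff]
    have hz : ∀ k ∈ Subgroup.zpowers y, g * k * g⁻¹ ∈ W := by
      intro k hk
      obtain ⟨i, rfl⟩ := Subgroup.mem_zpowers_iff.mp hk
      have e : g * y ^ i * g⁻¹ = x ^ i := by
        rw [← conj_zpow]
        congr 1
        rw [hy]; group
      rw [e]; exact W.zpow_mem hx i
    intro v hv k hk k' hk'
    have hkW := hz k hk
    have hk'W := hz k' hk'
    have hgvQ : g * v * g⁻¹ ∈ Cfsg.pCore p G := hQn.conj_mem v (hWQ hv) g
    have huW : g * ⁅v, k⁆ * g⁻¹ ∈ W := by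
      have e2 : g * ⁅v, k⁆ * g⁻¹ =
          ((g * v * g⁻¹) * (g * k * g⁻¹) * (g * v * g⁻¹)⁻¹) * (g * k * g⁻¹)⁻¹ := by group
      rw [e2]
      exact W.mul_mem (hnormS _ (hQS hgvQ) _ hkW) (W.inv_mem hkW)
    have h1 := hWcomm _ huW _ hk'W
    rw [commutatorElement_eq_one_iff_mul_comm]
    calc ⁅v, k⁆ * k' = g⁻¹ * ((g * ⁅v, k⁆ * g⁻¹) * (g * k' * g⁻¹)) * g := by group
      _ = g⁻¹ * ((g * k' * g⁻¹) * (g * ⁅v, k⁆ * g⁻¹)) * g := by rw [h1]
      _ = k' * ⁅v, k⁆ := by group
  -- the normal closure L of W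
  obtain ⟨L, hL⟩ : ∃ L : Subgroup G, L = Subgroup.normalClosure (W : Set G) := ⟨_, rfl⟩
  have hLn : L.Normal := by rw [hL]; exact Subgroup.normalClosure_normal
  have hWL : W ≤ L := by rw [hL]; exact Subgroup.le_normalClosure
  have hLea : Cfsg.IsElementaryAbelian p L := by
    rw [hL]
    show Cfsg.IsElementaryAbelian p (Subgroup.closure (Group.conjugatesOfSet (W : Set G)))
    apply Cfsg.H5.isElementaryAbelian_closure
    · intro x hx y hy
      obtain ⟨w, hw, hwx⟩ := Group.mem_conjugatesOfSet_iff.mp hx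
      obtain ⟨w', hw', hwy⟩ := Group.mem_conjugatesOfSet_iff.mp hy
      obtain ⟨c, rfl⟩ := isConj_iff.mp hwx
      obtain ⟨d, rfl⟩ := isConj_iff.mp hwy
      have h1 := hA w hw (c⁻¹ * d)
      have h2 := (Subgroup.mem_centralizer_iff.mp h1) w' hw'
      calc c * w * c⁻¹ * (d * w' * d⁻¹)
          = d * (((c⁻¹ * d)⁻¹ * w * (c⁻¹ * d)) * w') * d⁻¹ := by group
        _ = d * (w' * ((c⁻¹ * d)⁻¹ * w * (c⁻¹ * d))) * d⁻¹ := by rw [h2]
        _ = d * w' * d⁻¹ * (c * w * c⁻¹) := by group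
    · intro x hx
      obtain ⟨w, hw, hwx⟩ := Group.mem_conjugatesOfSet_iff.mp hx
      obtain ⟨c, rfl⟩ := isConj_iff.mp hwx
      rw [conj_pow, hWea.2 w hw]
      group
  have hstL : Cfsg.IsPStableOn p L := hst1 L hLea
  -- Lemma C
  have hC1 : ∀ a : G, ⁅⁅L, Subgroup.zpowers a⁆, Subgroup.zpowers a⁆ = ⊥ →
      a ∈ Subgroup.centralizer (W : Set G) := by
    intro a haq
    have hmk := hstL a haq
    have hn := Cfsg.H5.pCore_normal p (G ⧸ Subgroup.centralizer (L : Set G))
    have hD := (Cfsg.H5.pCore_isPGroup p (G ⧸ Subgroup.centralizer (L : Set G))).le_sylow_of_normal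
      (S.mapSurjective (QuotientGroup.mk'_surjective (Subgroup.centralizer (L : Set G))))
    have hy2 := hD hmk
    rw [← SetLike.mem_coe, Sylow.coe_mapSurjective] at hy2
    obtain ⟨s, hs, hsx⟩ := hy2
    have hc' : s⁻¹ * a ∈ Subgroup.centralizer (L : Set G) := by
      rw [← QuotientGroup.eq]; exact hsx
    have hsq := Cfsg.Agent.S0623.quad_of_mk_eq L haq hc'
    have hsW : ⁅⁅W, Subgroup.zpowers s⁆, Subgroup.zpowers s⁆ = ⊥ := by
      rw [eq_bot_iff, ← hsq]
      exact Subgroup.commutator_mono (Subgroup.commutator_mono hWL le_rfl) le_rfl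
    have h1 := hB s hs hsW
    have h2 : s⁻¹ * a ∈ Subgroup.centralizer (W : Set G) :=
      Subgroup.centralizer_le (SetLike.coe_subset_coe.mpr hWL) hc'
    have e : a = s * (s⁻¹ * a) := by group
    rw [e]; exact Subgroup.mul_mem _ h1 h2
  have hC : ∀ a : G, ⁅⁅L, Subgroup.zpowers a⁆, Subgroup.zpowers a⁆ = ⊥ →
      a ∈ Subgroup.centralizer (L : Set G) := by
    intro a haq
    have hLa : L ≤ Subgroup.centralizer ({a} : Set G) := by
      rw [hL]
      show Subgroup.closure (Group.conjugatesOfSet (W : Set G)) ≤ _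
      rw [Subgroup.closure_le]
      intro x hx
      obtain ⟨w, hw, hwx⟩ := Group.mem_conjugatesOfSet_iff.mp hx
      obtain ⟨c, rfl⟩ := isConj_iff.mp hwx
      have hq' := quad_conj L haq c⁻¹
      rw [inv_inv] at hq'
      have h1 := hC1 _ hq'
      have h2 := (Subgroup.mem_centralizer_iff.mp h1) w hw
      rw [SetLike.mem_coe, Subgroup.mem_centralizer_iff]
      intro b hb
      rw [Set.mem_singleton_iff] at hb
      rw [hb]
      calc a * (c * w * c⁻¹) = c * ((c⁻¹ * a * c) * w) * c⁻¹ := by group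
        _ = c * (w * (c⁻¹ * a * c)) * c⁻¹ := by rw [h2]
        _ = c * w * c⁻¹ * a := by group
    rw [Subgroup.mem_centralizer_iff]
    intro l hl
    exact ((Subgroup.mem_centralizer_iff.mp (hLa hl)) a (Set.mem_singleton a)).symm
  -- Steps 4, 5
  have hAL : ∀ A ∈ Cfsg.maxElementaryAbelianSubgroups p G,
      A ≤ Subgroup.centralizer (L : Set G) := by
    intro A hAm
    obtain ⟨h1, h2, h3⟩ := Cfsg.Agent.S0607.result L hLea A hAm
    have hbot : ⁅L, A⁆ = ⊥ := by
      by_contra hne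
      apply h3 hne
      rw [eq_bot_iff, Subgroup.commutator_le]
      intro l hl a ha
      have haq : ⁅⁅L, Subgroup.zpowers a⁆, Subgroup.zpowers a⁆ = ⊥ := by
        rw [eq_bot_iff, ← h2]
        exact Subgroup.commutator_mono (Subgroup.commutator_mono le_rfl (Subgroup.zpowers_le.mpr ha))
          (Subgroup.zpowers_le.mpr ha)
      have hac := hC a haq
      rw [Subgroup.mem_bot, commutatorElement_eq_one_iff_mul_comm]
      exact (Subgroup.mem_centralizer_iff.mp hac) l hl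
    exact Subgroup.le_centralizer_iff.mp (Subgroup.commutator_eq_bot_iff_le_centralizer.mp hbot)
  -- Step 6
  obtain ⟨A₀, hA₀, hA₀S⟩ := Cfsg.H5.exists_max_le_sylow S
  have hJ := Cfsg.H5.thompsonSubgroupOf_eq_sSup hA₀ hA₀S
  have hconj : ∀ a ∈ Subgroup.normalizer ((((S : Subgroup G) ⊓ Subgroup.centralizer (L : Set G) :
      Subgroup G)) : Set G),
      (Cfsg.thompsonSubgroupOf p (S : Subgroup G)).map (MulAut.conj a).toMonoidHom ≤
        Cfsg.thompsonSubgroupOf p (S : Subgroup G) := by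
    intro a ha
    rw [Subgroup.map_le_iff_le_comap]
    conv_lhs => rw [hJ]
    apply sSup_le
    rintro A ⟨hAm, hAS⟩
    rw [← Subgroup.map_le_iff_le_comap, hJ]
    apply le_sSup
    refine ⟨Cfsg.H5.map_equiv_mem_maxElementaryAbelianSubgroups (MulAut.conj a) hAm, ?_⟩
    have hASC : A ≤ (S : Subgroup G) ⊓ Subgroup.centralizer (L : Set G) :=
      le_inf hAS (hAL A hAm)
    rintro _ ⟨x, hx, rfl⟩
    have h5 := (Subgroup.mem_normalizer_iff.mp ha x).mp (hASC hx)
    exact h5.1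
  have hNJ : Subgroup.normalizer ((((S : Subgroup G) ⊓ Subgroup.centralizer (L : Set G) :
      Subgroup G)) : Set G) ≤
      Subgroup.normalizer (Cfsg.thompsonSubgroupOf p (S : Subgroup G) : Set G) := by
    intro a ha
    rw [Subgroup.mem_normalizer_iff]
    intro h
    constructor
    · intro hh
      exact hconj a ha (Subgroup.mem_map_of_mem _ hh)
    · intro hh
      have h5 : (MulAut.conj a⁻¹).toMonoidHom (a * h * a⁻¹) ∈
          Cfsg.thompsonSubgroupOf p (S : Subgroup G) :=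
        hconj a⁻¹ (Subgroup.inv_mem _ ha) (Subgroup.mem_map_of_mem _ hh)
      have e : (MulAut.conj a⁻¹).toMonoidHom (a * h * a⁻¹) = h := by
        show a⁻¹ * (a * h * a⁻¹) * a⁻¹⁻¹ = h
        group
      rwa [e] at h5
  -- Step 7
  have hKn : (Cfsg.thompsonSubgroup p ↥(S : Subgroup G)).Normal := by
    haveI := Cfsg.H5.thompsonSubgroup_characteristic (G := ↥(S : Subgroup G)) p
    infer_instance
  have hSN : (S : Subgroup G) ≤
      Subgroup.normalizer (Cfsg.thompsonSubgroupOf p (S : Subgroup G) : Set G) := by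
    intro s hs
    exact Subgroup.le_normalizer_map (S : Subgroup G).subtype
      ⟨⟨s, hs⟩, by rw [Subgroup.normalizer_eq_top_iff.mpr hKn]; exact Subgroup.mem_top _, rfl⟩
  have hτ := isStableEmbedding_inclusion S _ hSN le_rfl hc (fun V _ h => hst3 S V h)
  have hWτ := Cfsg.Agent.S0623.map_normal p _ hτ
  rw [map_inclusion, ← hW] at hWτ
  have hNW : Subgroup.normalizer (Cfsg.thompsonSubgroupOf p (S : Subgroup G) : Set G) ≤
      Subgroup.normalizer (W : Set G) :=
    (Subgroup.normal_subgroupOf_iff_le_normalizer (hWS.trans hSN)).mp hWτ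
  -- conclusion
  constructor
  intro w hw g
  obtain ⟨a, ha, c, hcC, rfl⟩ :=
    Cfsg.Agent.Lib.Helper16.frattini_inf_normal S (Subgroup.centralizer (L : Set G)) g
  have haN : a ∈ Subgroup.normalizer (W : Set G) := hNW (hNJ ha)
  have hcw : c * w * c⁻¹ = w := by
    have h7 := (Subgroup.mem_centralizer_iff.mp hcC) w (hWL hw)
    rw [← h7]; group
  have e : a * c * w * (a * c)⁻¹ = a * (c * w * c⁻¹) * a⁻¹ := by group
  rw [e, hcw]
  exact (Subgroup.mem_normalizer_iff.mp haN w).mp hw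

end Cfsg.Agent.S0624
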