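import Mathlib
import Cfsg.Statements.S0597
import Cfsg.Agent.H5.QuadStab
import Cfsg.Agent.S0538
import Cfsg.Agent.Lib.Helper17.Subnormal

set_option autoImplicit false
open Cfsg

namespace Cfsg.Agent.S0597

/-- If two subnormal subgroups of a faithful group on an elementary abelian p-group satisfy [V, E₁, E₂] = 1, then their commutator lies in the largest normal p-subgroup. -/
theorem result {G : Type*} [Group G] [Finite G] {p : ℕ} [Fact p.Prime] (V H : Subgroup G) (hV : Cfsg.IsElementaryAbelian p V) (hHV : H ≤ Subgroup.normalizer (V : Set G)) (hf : H ⊓ Subgroup.centralizer (V : Set G) = ⊥) (E₁ E₂ : Subgroup G) (h₁ : E₁ ≤ H) (h₂ : E₂ ≤ H) (hs₁ : (E₁.subgroupOf H).IsSubnormal) (hs₂ : (E₂.subgroupOf H).IsSubnormal) (hc : ⁅⁅V, E₁⁆, E₂⁆ = ⊥) : ⁅E₁, E₂⁆ ≤ (Cfsg.pCore p H).map H.subtype := by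
  obtain ⟨Q, hQE, hEQ, hcQ, hQp⟩ :=
    Cfsg.H5.QS.exists_quadratic_normal V H E₁ E₂ hV.2 hHV hf h₁ h₂ hc
  have hEH : E₁ ⊔ E₂ ≤ H := sup_le h₁ h₂
  have hQH : Q ≤ H := hQE.trans hEH
  have hE' : ((E₁ ⊔ E₂).subgroupOf H).IsSubnormal := by
    rw [Subgroup.subgroupOf_sup h₁ h₂]
    exact Cfsg.Agent.S0538.result _ _ hs₁ hs₂
  have hQE' : Q.subgroupOf H ≤ (E₁ ⊔ E₂).subgroupOf H := fun x hx => hQE hx
  have hQ' : (Q.subgroupOf H).IsSubnormal := by
    refine Subgroup.IsSubnormal.step _ _ hQE' hE' ?_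
    rw [Subgroup.normal_subgroupOf_iff_le_normalizer hQE']
    intro e he
    have h1 : (e : G) ∈ Subgroup.normalizer (Q : Set G) := hEQ (Subgroup.mem_subgroupOf.mp he)
    rw [Subgroup.mem_normalizer_iff] at h1 ⊢
    intro h
    rw [Subgroup.mem_subgroupOf, Subgroup.mem_subgroupOf]
    exact h1 h
  have hQp' : IsPGroup p (Q.subgroupOf H) := by
    intro g
    refine ⟨1, ?_⟩
    rw [pow_one]
    have hg : ((g : H) : G) ∈ Q := Subgroup.mem_subgroupOf.mp g.2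
    have h1 := hQp _ hg
    apply Subtype.ext
    apply Subtype.ext
    simpa using h1
  obtain ⟨P, hPn, hPp, hQP⟩ :=
    Cfsg.Agent.Lib.Helper17.exists_normal_pgroup_ge_of_isSubnormal hQ' hQp'
  have hPcore : P ≤ Cfsg.pCore p H := le_sSup ⟨hPn, hPp⟩
  intro x hx
  have hxQ := hcQ hx
  exact Subgroup.mem_map.mpr
    ⟨⟨x, hQH hxQ⟩, hPcore (hQP (Subgroup.mem_subgroupOf.mpr hxQ)), rfl⟩

end Cfsg.Agent.S0597
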