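-- Statement S0825
import Cfsg.Statements.S0825
import Mathlib
import Cfsg.Agent.Lib.Helper15.O6Plus

set_option autoImplicit false
open Cfsg

namespace Cfsg.Agent.S0825

open Matrix

/-- the isometry groups of forms corresponding under a ring isomorphism are isomorphic -/
theorem isometryGroup_congr {ι : Type} [Fintype ι] [DecidableEq ι] {F F' : Type*} [Field F] [Field F']
    (e : F ≃+* F') (Q : (ι → F) → F) (Q' : (ι → F') → F')
    (h : ∀ v : ι → F, e (Q v) = Q' (fun i => e (v i))) :
    Nonempty (↥(Cfsg.isometryGroup F Q) ≃* ↥(Cfsg.isometryGroup F' Q')) := by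
  let E : GL ι F ≃* GL ι F' := Units.mapEquiv (RingEquiv.mapMatrix e).toMulEquiv
  have hE : ∀ (g : GL ι F) (v : ι → F),
      ((E g : GL ι F') : Matrix ι ι F') *ᵥ (fun i => e (v i)) = fun i => e (((g : Matrix ι ι F) *ᵥ v) i) := by
    intro g v
    funext i
    change ((g : Matrix ι ι F).map e *ᵥ fun i => e (v i)) i = _
    simp only [Matrix.mulVec, dotProduct, Matrix.map_apply, map_sum, map_mul]
  have hmap : (Cfsg.isometryGroup F Q).map E.toMonoidHom = Cfsg.isometryGroup F' Q' := by
    ext g'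
    constructor
    · rintro ⟨g, hg, rfl⟩
      intro u _
      change Q' (((E g : GL ι F') : Matrix ι ι F') *ᵥ u) = Q' u
      have hu : u = fun i => e (e.symm (u i)) := by funext i; simp
      rw [hu, hE, ← h, ← h]
      congr 1
      exact hg (fun i => e.symm (u i)) 0
    · intro hg'
      refine ⟨E.symm g', ?_, by simp⟩
      intro u _
      change Q (((E.symm g' : GL ι F) : Matrix ι ι F) *ᵥ u) = Q u
      apply e.injective
      rw [h, h, ← hE, MulEquiv.apply_symm_apply]
      exact hg' (fun i => e (u i)) 0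
  exact ⟨(E.subgroupMap (Cfsg.isometryGroup F Q)).trans (MulEquiv.subgroupCongr hmap)⟩

/-- O⁺_6(2) ≅ S_8: the isometry group of the hyperbolic form x_1y_1 + x_2y_2 + x_3y_3 over the field with 2 elements is isomorphic to the symmetric group on 8 letters. -/
theorem result {F : Type*} [Field F] [Fintype F] (hF : Fintype.card F = 2) : Nonempty (↥(Cfsg.isometryGroup F (Cfsg.quadFormPlus 3 F)) ≃* Equiv.Perm (Fin 8)) := by
  have : Fact (Nat.Prime 2) := ⟨Nat.prime_two⟩
  have e : F ≃+* ZMod 2 := (ZMod.ringEquivOfPrime F Nat.prime_two hF).symm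
  obtain ⟨e1⟩ := isometryGroup_congr e (Cfsg.quadFormPlus 3 F) (Cfsg.quadFormPlus 3 (ZMod 2)) (by
    intro v
    unfold Cfsg.quadFormPlus
    simp only [map_sum, map_mul])
  obtain ⟨e2⟩ := Cfsg.Agent.Lib.Helper15.sym8_equiv_o6plus
  exact ⟨e1.trans e2.symm⟩

end Cfsg.Agent.S0825
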