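import Mathlib
import Cfsg.Statements.S3734
import Cfsg.Agent.Lib.Helper1.Coprime
import Cfsg.Agent.Lib.Helper1.CoprimeSylow
import Cfsg.Agent.Lib.Helper1.Hall

set_option autoImplicit false
open Cfsg

namespace Cfsg.Agent.S3734

open Subgroup Cfsg.Agent.Lib.Helper1
open scoped commutatorElement

universe u

section Ring

/-- A finite commutative group mapping multiplicatively into a commutative domain is cyclic modulo
the kernel (elementwise form). -/
theorem exists_generator_of_hom_domain {R : Type*} [CommRing R] [IsDomain R] {A : Type*} [Group A]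
    [Finite A] (f : A →* R) (hcomm : ∀ a b : A, a * b = b * a) :
    ∃ a : A, ∀ x : A, ∃ k : ℤ, f (x * a ^ k) = 1 := by
  set g : A →* Rˣ := f.toHomUnits with hg
  have hinj : Function.Injective ((Units.coeHom R).comp (QuotientGroup.kerLift g)) :=
    Units.val_injective.comp (QuotientGroup.kerLift_injective g)
  have hcyc : IsCyclic (A ⧸ g.ker) := isCyclic_of_injective_ringHom _ hinj
  obtain ⟨q, hq⟩ := hcyc.exists_generator
  obtain ⟨a, rfl⟩ := QuotientGroup.mk_surjective q
  refine ⟨a, fun x => ?_⟩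
  obtain ⟨k, hk⟩ := Subgroup.mem_zpowers_iff.mp (hq (x : A ⧸ g.ker))
  refine ⟨-k, ?_⟩
  have h1 : ((a ^ k : A) : A ⧸ g.ker) = (x : A ⧸ g.ker) := by
    rw [← hk]; simp
  rw [QuotientGroup.eq] at h1
  have h2 : g ((a ^ k)⁻¹ * x) = 1 := h1
  have h3 : x * a ^ (-k) = (a ^ k)⁻¹ * x := by rw [zpow_neg]; exact hcomm _ _
  rw [h3]
  have h4 := congrArg Units.val h2
  rw [hg, MonoidHom.coe_toHomUnits] at h4
  exact h4

/-- A commutative subring closure as a commutative ring. -/
@[reducible] noncomputable def closureCommRing {E : Type*} [Ring E] (S : Set E)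
    (hS : ∀ x ∈ S, ∀ y ∈ S, x * y = y * x) : CommRing (Subring.closure S) :=
  { (inferInstance : Ring (Subring.closure S)) with
      mul_comm := fun a b => (Subring.isMulCommutative_closure hS).is_comm.comm a b }

/-- Schur-type lemma: a commutative group acting irreducibly on an abelian group is cyclic modulo
the kernel. -/
theorem exists_generator_mod_ker {V : Type*} [AddCommGroup V] [Nontrivial V] {A : Type*} [Group A]
    [Finite A] (φ : A →* AddMonoid.End V) (hcomm : ∀ a b : A, a * b = b * a)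
    (hirr : ∀ W : AddSubgroup V, (∀ a, ∀ w ∈ W, φ a w ∈ W) → W = ⊥ ∨ W = ⊤) :
    ∃ a : A, ∀ x : A, ∃ k : ℤ, φ (x * a ^ k) = 1 := by
  classical
  set S : Set (AddMonoid.End V) := Set.range φ with hS
  have hScomm : ∀ x ∈ S, ∀ y ∈ S, x * y = y * x := by
    rintro _ ⟨a, rfl⟩ _ ⟨b, rfl⟩
    rw [← map_mul, ← map_mul, hcomm]
  letI : CommRing (Subring.closure S) := closureCommRing S hScomm
  have hcomm2 : ∀ (r : Subring.closure S) (a : A) (v : V),
      (r : AddMonoid.End V) (φ a v) = φ a ((r : AddMonoid.End V) v) := by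
    intro r a v
    have h1 : r * ⟨φ a, Subring.subset_closure ⟨a, rfl⟩⟩ =
        ⟨φ a, Subring.subset_closure ⟨a, rfl⟩⟩ * r := mul_comm _ _
    have h2 : (r : AddMonoid.End V) * φ a = φ a * r := congrArg Subtype.val h1
    exact DFunLike.congr_fun h2 v
  haveI : Nontrivial (Subring.closure S) := by
    obtain ⟨v, hv⟩ := exists_ne (0 : V)
    refine ⟨⟨0, 1, ?_⟩⟩
    intro h01
    have h1 : ((0 : Subring.closure S) : AddMonoid.End V) = ((1 : Subring.closure S) :
        AddMonoid.End V) := congrArg Subtype.val h01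
    have h2 : (0 : AddMonoid.End V) v = (1 : AddMonoid.End V) v := DFunLike.congr_fun h1 v
    exact hv h2.symm
  haveI : NoZeroDivisors (Subring.closure S) := by
    refine ⟨?_⟩
    intro r s hrs
    have hrs' : ∀ v, (r : AddMonoid.End V) ((s : AddMonoid.End V) v) = 0 := by
      intro v
      have h1 : (r : AddMonoid.End V) * (s : AddMonoid.End V) = 0 := congrArg Subtype.val hrs
      exact DFunLike.congr_fun h1 v
    have hW := hirr (AddMonoidHom.range (s : AddMonoid.End V)) (by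
      rintro a _ ⟨v, rfl⟩
      exact ⟨φ a v, hcomm2 s a v⟩)
    rcases hW with hW | hW
    · right
      apply Subtype.ext
      apply AddMonoidHom.ext
      intro v
      have : (s : AddMonoid.End V) v ∈ AddMonoidHom.range (s : AddMonoid.End V) := ⟨v, rfl⟩
      rw [hW, AddSubgroup.mem_bot] at this
      exact this
    · left
      apply Subtype.ext
      apply AddMonoidHom.ext
      intro w
      have : w ∈ AddMonoidHom.range (s : AddMonoid.End V) := by rw [hW]; trivial
      obtain ⟨v, rfl⟩ := this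
      exact hrs' v
  haveI : IsDomain (Subring.closure S) := NoZeroDivisors.to_isDomain _
  let f : A →* Subring.closure S :=
    { toFun := fun a => ⟨φ a, Subring.subset_closure ⟨a, rfl⟩⟩
      map_one' := by apply Subtype.ext; exact map_one φ
      map_mul' := by intro a b; apply Subtype.ext; exact map_mul φ a b }
  obtain ⟨a, ha⟩ := exists_generator_of_hom_domain f hcomm
  refine ⟨a, fun x => ?_⟩
  obtain ⟨k, hk⟩ := ha x
  exact ⟨k, congrArg Subtype.val hk⟩

end Ring

section Main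

variable {X : Type u} [Group X]

/-- Conjugation action of `A` on an abelian subgroup `V`, as endomorphisms of `Additive V`. -/
noncomputable def conjEnd {A V : Subgroup X} (hV : ∀ x ∈ V, ∀ y ∈ V, x * y = y * x)
    (hAV : A ≤ normalizer (V : Set X)) :
    letI : CommGroup V :=
      { (inferInstance : Group V) with mul_comm := fun x y => Subtype.ext (hV x x.2 y y.2) }
    A →* AddMonoid.End (Additive V) :=
  letI : CommGroup V :=
    { (inferInstance : Group V) with mul_comm := fun x y => Subtype.ext (hV x x.2 y y.2) }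
  { toFun := fun a => MonoidHom.toAdditive
      { toFun := fun v => ⟨a * v * a⁻¹, (mem_normalizer_iff.mp (hAV a.2) v).mp v.2⟩
        map_one' := by apply Subtype.ext; simp
        map_mul' := by intro v w; apply Subtype.ext; simp [mul_assoc] }
    map_one' := by
      apply AddMonoidHom.ext
      intro v
      apply Subtype.ext
      show ((1 : A) : X) * ((Additive.toMul v : V) : X) * ((1 : A) : X)⁻¹ =
        ((Additive.toMul v : V) : X)
      simp
    map_mul' := by
      intro a b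
      apply AddMonoidHom.ext
      intro v
      apply Subtype.ext
      show ((a * b : A) : X) * ((Additive.toMul v : V) : X) * ((a * b : A) : X)⁻¹ =
        (a : X) * ((b : X) * ((Additive.toMul v : V) : X) * (b : X)⁻¹) * (a : X)⁻¹
      simp [mul_assoc] }

theorem conjEnd_apply {A V : Subgroup X} (hV : ∀ x ∈ V, ∀ y ∈ V, x * y = y * x)
    (hAV : A ≤ normalizer (V : Set X)) (a : A) (v : V) :
    letI : CommGroup V :=
      { (inferInstance : Group V) with mul_comm := fun x y => Subtype.ext (hV x x.2 y y.2) }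
    ((Additive.toMul (conjEnd hV hAV a (Additive.ofMul v)) : V) : X) = a * v * a⁻¹ := rfl

/-- An abelian group acting irreducibly on an abelian subgroup `V` is cyclic modulo the
centralizer of `V`. -/
theorem exists_cocyclic_centralizer [Finite X] {A V : Subgroup X}
    (hA : ∀ x ∈ A, ∀ y ∈ A, x * y = y * x) (hV : ∀ x ∈ V, ∀ y ∈ V, x * y = y * x)
    (hAV : A ≤ normalizer (V : Set X)) (hV1 : V ≠ ⊥)
    (hirr : ∀ W : Subgroup X, W ≤ V → A ≤ normalizer (W : Set X) → W = ⊥ ∨ W = V) :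
    ∃ a ∈ A, ∀ x ∈ A, ∃ k : ℤ, x * a ^ k ∈ centralizer (V : Set X) := by
  letI : CommGroup V :=
    { (inferInstance : Group V) with mul_comm := fun x y => Subtype.ext (hV x x.2 y y.2) }
  haveI : Nontrivial (Additive V) := by
    obtain ⟨v, hv1⟩ := (Subgroup.ne_bot_iff_exists_ne_one).mp hV1
    refine ⟨⟨Additive.ofMul v, 0, ?_⟩⟩
    intro h
    exact hv1 (congrArg (fun z => (Additive.toMul z : V)) h)
  have hcommA : ∀ a b : A, a * b = b * a := fun a b => Subtype.ext (hA a a.2 b b.2)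
  have hirr' : ∀ W : AddSubgroup (Additive V),
      (∀ a, ∀ w ∈ W, conjEnd hV hAV a w ∈ W) → W = ⊥ ∨ W = ⊤ := by
    intro W hW
    set W' : Subgroup X := (AddSubgroup.toSubgroup' W).map V.subtype with hW'
    have hmem : ∀ x : X, x ∈ W' ↔ ∃ h : x ∈ V, Additive.ofMul (⟨x, h⟩ : V) ∈ W := by
      intro x
      rw [hW', Subgroup.mem_map]
      constructor
      · rintro ⟨v, hv, rfl⟩
        exact ⟨v.2, hv⟩
      · rintro ⟨h, hx⟩
        exact ⟨⟨x, h⟩, hx, rfl⟩
    have hW'V : W' ≤ V := by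
      intro x hx
      exact ((hmem x).mp hx).1
    have hW'A : A ≤ normalizer (W' : Set X) := by
      apply le_normalizer_of_forall_conj_mem
      intro a ha n hn
      obtain ⟨hnV, hnW⟩ := (hmem n).mp hn
      rw [hmem]
      refine ⟨(mem_normalizer_iff.mp (hAV ha) n).mp hnV, ?_⟩
      exact hW ⟨a, ha⟩ _ hnW
    rcases hirr W' hW'V hW'A with h | h
    · left
      rw [eq_bot_iff]
      intro w hw
      have h1 : ((Additive.toMul w : V) : X) ∈ W' := (hmem _).mpr ⟨(Additive.toMul w : V).2, hw⟩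
      rw [h, Subgroup.mem_bot] at h1
      rw [AddSubgroup.mem_bot]
      have h2 : (Additive.toMul w : V) = 1 := Subtype.ext h1
      exact h2
    · right
      rw [eq_top_iff]
      intro w _
      have h1 : ((Additive.toMul w : V) : X) ∈ W' := by rw [h]; exact (Additive.toMul w : V).2
      obtain ⟨_, h2⟩ := (hmem _).mp h1
      exact h2
  obtain ⟨a, ha⟩ := exists_generator_mod_ker (conjEnd hV hAV) hcommA hirr'
  refine ⟨a, a.2, fun x hx => ?_⟩
  obtain ⟨k, hk⟩ := ha ⟨x, hx⟩
  refine ⟨k, ?_⟩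
  rw [mem_centralizer_iff]
  intro v hv
  have h1 := conjEnd_apply hV hAV (⟨x, hx⟩ * a ^ k) ⟨v, hv⟩
  rw [hk] at h1
  have h2 : v = x * (a : X) ^ k * v * (x * (a : X) ^ k)⁻¹ := by
    simpa using h1
  have h3 : v * (x * (a : X) ^ k) = x * (a : X) ^ k * v * (x * (a : X) ^ k)⁻¹ * (x * (a : X) ^ k) := by
    rw [← h2]
  rw [h3]; group

/-- The subgroups `B ≤ A` with `A / B` cyclic (the index set of the statement). -/
def Cocyc (A : Subgroup X) : Set (Subgroup X) :=
  {B : Subgroup X | B ≤ A ∧ ∃ a ∈ A, B ⊔ Subgroup.zpowers a = A}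

theorem cocyc_of_forall {A B : Subgroup X} (hBA : B ≤ A) {a : X} (ha : a ∈ A)
    (h : ∀ x ∈ A, ∃ k : ℤ, x * a ^ k ∈ B) : B ∈ Cocyc A := by
  refine ⟨hBA, a, ha, le_antisymm (sup_le hBA (zpowers_le.mpr ha)) ?_⟩
  intro x hx
  obtain ⟨k, hk⟩ := h x hx
  have : x = (x * a ^ k) * (a ^ k)⁻¹ := by group
  rw [this]
  exact mul_mem (mem_sup_left hk) (mem_sup_right (inv_mem (zpow_mem (mem_zpowers a) k)))

theorem forall_of_cocyc {A B : Subgroup X} (hA : ∀ x ∈ A, ∀ y ∈ A, x * y = y * x)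
    (hB : B ∈ Cocyc A) : ∃ a ∈ A, ∀ x ∈ A, ∃ k : ℤ, x * a ^ k ∈ B := by
  obtain ⟨hBA, a, ha, hsup⟩ := hB
  refine ⟨a, ha, ?_⟩
  let S : Subgroup X :=
    { carrier := {x | x ∈ A ∧ ∃ k : ℤ, x * a ^ k ∈ B}
      one_mem' := ⟨one_mem _, 0, by simp⟩
      mul_mem' := by
        rintro x y ⟨hx, k, hk⟩ ⟨hy, l, hl⟩
        refine ⟨mul_mem hx hy, k + l, ?_⟩
        have hak : a ^ k ∈ A := zpow_mem ha k
        have h1 : x * y * a ^ (k + l) = (x * a ^ k) * (y * a ^ l) := by
          rw [zpow_add]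
          have h2 := hA _ hak y hy
          calc x * y * (a ^ k * a ^ l) = x * (y * a ^ k) * a ^ l := by group
            _ = x * (a ^ k * y) * a ^ l := by rw [h2]
            _ = _ := by group
        rw [h1]; exact mul_mem hk hl
      inv_mem' := by
        rintro x ⟨hx, k, hk⟩
        refine ⟨inv_mem hx, -k, ?_⟩
        have hak : a ^ k ∈ A := zpow_mem ha k
        have h1 : x⁻¹ * a ^ (-k) = (x * a ^ k)⁻¹ := by
          rw [zpow_neg, mul_inv_rev]
          exact hA _ (inv_mem hx) _ (inv_mem hak)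
        rw [h1]; exact inv_mem hk }
  have hS : A ≤ S := by
    rw [← hsup]
    refine sup_le ?_ ?_
    · intro b hb; exact ⟨hBA hb, 0, by simpa using hb⟩
    · rw [zpowers_le]; exact ⟨ha, -1, by simp⟩
  intro x hx
  exact (hS hx).2

/-- The subgroup generated by the fixed points of the cocyclic subgroups. -/
def Gen (A G : Subgroup X) : Subgroup X := ⨆ B ∈ Cocyc A, G ⊓ centralizer (B : Set X)

theorem gen_le (A G : Subgroup X) : Gen A G ≤ G := iSup₂_le fun _ _ => inf_le_left

theorem gen_mono {A G H : Subgroup X} (h : H ≤ G) : Gen A H ≤ Gen A G :=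
  iSup₂_mono fun _ _ => inf_le_inf_right _ h

theorem le_gen {A G B : Subgroup X} (hB : B ∈ Cocyc A) :
    G ⊓ centralizer (B : Set X) ≤ Gen A G :=
  le_iSup₂_of_le B hB le_rfl

lemma card_subgroupOf_of_le {H K : Subgroup X} (h : H ≤ K) :
    Nat.card (H.subgroupOf K) = Nat.card H :=
  Nat.card_congr (Subgroup.subgroupOfEquivOfLe h).toEquiv

theorem quotient_step [Finite X] {A G N : Subgroup X} (hA : ∀ x ∈ A, ∀ y ∈ A, x * y = y * x)
    (h : CoprimeAct A G) (hNG : N ≤ G) (hNn : A ⊔ G ≤ normalizer (N : Set X))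
    (hN : N ≤ Gen A N)
    (ih : ∀ (Y : Type u) [Group Y] [Finite Y] (A' G' : Subgroup Y),
      (∀ x ∈ A', ∀ y ∈ A', x * y = y * x) → A' ≤ normalizer (G' : Set Y) →
      (Nat.card A').Coprime (Nat.card G') → Nat.card G' * Nat.card N = Nat.card G →
      G' ≤ Gen A' G') :
    G ≤ Gen A G := by
  set Γ := A ⊔ G with hΓ
  have hAΓ : A ≤ Γ := le_sup_left
  have hGΓ : G ≤ Γ := le_sup_right
  have hNΓ : N ≤ Γ := hNG.trans hGΓ
  haveI hNn' : (N.subgroupOf Γ).Normal :=
    (Subgroup.normal_subgroupOf_iff_le_normalizer hNΓ).mpr hNn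
  set φ := QuotientGroup.mk' (N.subgroupOf Γ) with hφ
  have hker : φ.ker = N.subgroupOf Γ := QuotientGroup.ker_mk' _
  have hNG' : N.subgroupOf Γ ≤ G.subgroupOf Γ := Subgroup.comap_mono hNG
  set A' := (A.subgroupOf Γ).map φ with hA'def
  set G' := (G.subgroupOf Γ).map φ with hG'def
  have hA' : ∀ x ∈ A', ∀ y ∈ A', x * y = y * x := by
    rintro _ ⟨x, hx, rfl⟩ _ ⟨y, hy, rfl⟩
    rw [← map_mul, ← map_mul]
    congr 1
    exact Subtype.ext (hA x hx y hy)
  have hnorm' : A' ≤ normalizer (G' : Set _) := by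
    have h1 : A.subgroupOf Γ ≤ normalizer ((G.subgroupOf Γ : Subgroup Γ) : Set Γ) :=
      (Subgroup.comap_mono h.norm).trans (Subgroup.le_normalizer_comap _)
    exact (Subgroup.map_mono h1).trans (Subgroup.le_normalizer_map _)
  have hcop' : (Nat.card A').Coprime (Nat.card G') := by
    have h1 : Nat.card A' ∣ Nat.card A := by
      rw [← card_subgroupOf_of_le hAΓ]; exact Subgroup.card_map_dvd _ _
    have h2 : Nat.card G' ∣ Nat.card G := by
      rw [← card_subgroupOf_of_le hGΓ]; exact Subgroup.card_map_dvd _ _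
    exact Nat.Coprime.coprime_dvd_left h1 (Nat.Coprime.coprime_dvd_right h2 h.cop)
  have hcard : Nat.card G' * Nat.card N = Nat.card G := by
    have := card_map_mk_of_le (N.subgroupOf Γ) hNG'
    rw [card_subgroupOf_of_le hNΓ, card_subgroupOf_of_le hGΓ] at this
    exact this
  have hG' := ih _ A' G' hA' hnorm' hcop' hcard
  have hkey : Gen A' G' ≤ ((Gen A G).subgroupOf Γ).map φ := by
    refine iSup₂_le fun B' hB' => ?_
    obtain ⟨a', ha', hgen⟩ := forall_of_cocyc hA' hB'
    obtain ⟨a₀, ha₀, rfl⟩ := ha'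
    set B : Subgroup X := ((B'.comap φ) ⊓ A.subgroupOf Γ).map Γ.subtype with hBdef
    have hBA : B ≤ A := by
      rintro _ ⟨b, hb, rfl⟩
      exact hb.2
    have hBmem : ∀ b ∈ B, ∃ hb : b ∈ Γ, φ ⟨b, hb⟩ ∈ B' := by
      rintro _ ⟨b, hb, rfl⟩
      exact ⟨b.2, hb.1⟩
    have hBc : B ∈ Cocyc A := by
      apply cocyc_of_forall hBA (a := (a₀ : X)) ha₀
      intro x hx
      have hx' : (⟨x, hAΓ hx⟩ : Γ) ∈ A.subgroupOf Γ := hx
      obtain ⟨k, hk⟩ := hgen (φ ⟨x, hAΓ hx⟩) (Subgroup.mem_map_of_mem φ hx')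
      refine ⟨k, ⟨⟨x, hAΓ hx⟩ * a₀ ^ k, ⟨?_, ?_⟩, ?_⟩⟩
      · show φ (⟨x, hAΓ hx⟩ * a₀ ^ k) ∈ B'
        rw [map_mul, map_zpow]; exact hk
      · exact mul_mem hx' (zpow_mem ha₀ k)
      · simp
    intro y' hy'
    obtain ⟨hy'G, hy'C⟩ := mem_inf.mp hy'
    obtain ⟨y, hy, rfl⟩ := hy'G
    have hBact : CoprimeAct B G :=
      ⟨hBA.trans h.norm, Nat.Coprime.coprime_dvd_left (Subgroup.card_dvd_of_le hBA) h.cop,
        Or.inl (Group.isSolvable_of_comm fun a b => Subtype.ext (hA a (hBA a.2) b (hBA b.2)))⟩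
    have hfix : ∀ b ∈ B, (y : X)⁻¹ * (b * y * b⁻¹) ∈ N := by
      intro b hb
      obtain ⟨hbΓ, hbB'⟩ := hBmem b hb
      have hc := mem_centralizer_iff.mp hy'C _ hbB'
      have h1 : φ (y⁻¹ * (⟨b, hbΓ⟩ * y * ⟨b, hbΓ⟩⁻¹)) = 1 := by
        simp only [map_mul, map_inv]
        rw [hc]; group
      have h2 := (QuotientGroup.eq_one_iff _).mp h1
      exact h2
    obtain ⟨u, hu, hyu⟩ := hBact.exists_mul_mem_centralizer hNG
      (hBA.trans (le_sup_left.trans hNn)) (y : X) hy hfix
    have huΓ : u ∈ Γ := hNΓ hu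
    refine ⟨y * ⟨u, huΓ⟩, ?_, ?_⟩
    · show ((y * ⟨u, huΓ⟩ : Γ) : X) ∈ Gen A G
      exact le_gen hBc hyu
    · rw [map_mul]
      have : φ ⟨u, huΓ⟩ = 1 := (QuotientGroup.eq_one_iff _).mpr hu
      rw [this, mul_one]
  intro g hg
  have hg' : (⟨g, hGΓ hg⟩ : Γ) ∈ G.subgroupOf Γ := hg
  have h1 : φ ⟨g, hGΓ hg⟩ ∈ G' := Subgroup.mem_map_of_mem φ hg'
  obtain ⟨k, hk, hkφ⟩ := hkey (hG' h1)
  have h2 : k⁻¹ * ⟨g, hGΓ hg⟩ ∈ N.subgroupOf Γ := by
    rw [← hker, MonoidHom.mem_ker, map_mul, map_inv, hkφ]; group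
  have hN' : (k : X)⁻¹ * g ∈ Gen A G := gen_mono hNG (hN h2)
  have h3 : g = k * ((k : X)⁻¹ * g) := by group
  rw [h3]; exact mul_mem hk hN'

theorem sylow_step [Finite X] {A G K : Subgroup X} (h : CoprimeAct A G) (hKG : K ≤ G)
    (hK : ∀ (p : ℕ) (P : Subgroup X), p.Prime → P ≤ G → A ≤ normalizer (P : Set X) →
      (∃ k, Nat.card P = p ^ k) → P ≤ K) : K = G := by
  apply Subgroup.eq_of_le_of_card_ge hKG
  apply Nat.le_of_dvd Nat.card_pos
  rw [← Nat.factorization_prime_le_iff_dvd Nat.card_pos.ne' Nat.card_pos.ne']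
  intro p hp
  haveI := Fact.mk hp
  obtain ⟨P, hP⟩ := h.exists_invariant_sylow p
  have hcardP : Nat.card ((P : Subgroup G).map G.subtype) = p ^ (Nat.card G).factorization p := by
    rw [Subgroup.card_subtype]
    exact P.card_eq_multiplicity
  have hPK := hK p _ hp (map_subtype_le _) hP ⟨_, hcardP⟩
  have h1 := Subgroup.card_dvd_of_le hPK
  rw [hcardP] at h1
  exact (hp.pow_dvd_iff_le_factorization Nat.card_pos.ne').mp h1

theorem le_gen_aux (n : ℕ) : ∀ (X : Type u) [Group X] [Finite X] (A G : Subgroup X),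
    (∀ x ∈ A, ∀ y ∈ A, x * y = y * x) → A ≤ normalizer (G : Set X) →
    (Nat.card A).Coprime (Nat.card G) → Nat.card G = n → G ≤ Gen A G := by
  induction n using Nat.strong_induction_on with
  | _ n ih =>
  intro X _ _ A G hA hAG hcop hn
  have h : CoprimeAct A G :=
    ⟨hAG, hcop, Or.inl (Group.isSolvable_of_comm fun a b => Subtype.ext (hA a a.2 b b.2))⟩
  by_cases hG1 : G = ⊥
  · rw [hG1]; exact bot_le
  by_cases hN : ∃ N : Subgroup X, N ≤ G ∧ A ⊔ G ≤ normalizer (N : Set X) ∧ N ≠ ⊥ ∧ N ≠ G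
  · obtain ⟨N, hNG, hNn, hN1, hN2⟩ := hN
    have hNlt : Nat.card N < Nat.card G := card_lt_of_lt (lt_of_le_of_ne hNG hN2)
    have hN1' : 1 < Nat.card N := (Subgroup.one_lt_card_iff_ne_bot _).mpr hN1
    apply quotient_step hA h hNG hNn
    · exact ih (Nat.card N) (hn ▸ hNlt) X A N hA (le_sup_left.trans hNn)
        (Nat.Coprime.coprime_dvd_right (Subgroup.card_dvd_of_le hNG) hcop) rfl
    · intro Y _ _ A' G' hA' hn' hcop' hcard
      refine ih (Nat.card G') ?_ Y A' G' hA' hn' hcop' rfl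
      rw [← hn, ← hcard]
      have : 0 < Nat.card G' := Nat.card_pos
      nlinarith
  · push Not at hN
    by_cases hp : ∃ p k, p.Prime ∧ Nat.card G = p ^ k
    · obtain ⟨p, k, hp, hk⟩ := hp
      haveI := Fact.mk hp
      set Z := G ⊓ centralizer (G : Set X) with hZdef
      have hZ1 : Z ≠ ⊥ := by
        have hpG : IsPGroup p G := IsPGroup.of_card hk
        haveI : Nontrivial G := (Subgroup.nontrivial_iff_ne_bot G).mpr hG1
        haveI := hpG.center_nontrivial
        obtain ⟨z, hz⟩ := exists_ne (1 : center G)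
        intro hZ
        have hzZ : ((z : G) : X) ∈ Z := by
          refine mem_inf.mpr ⟨(z : G).2, ?_⟩
          rw [mem_centralizer_iff]
          intro g hg
          have := (mem_center_iff.mp z.2) ⟨g, hg⟩
          exact congrArg Subtype.val this
        rw [hZ, mem_bot] at hzZ
        exact hz (Subtype.ext (Subtype.ext hzZ))
      have hZn : A ⊔ G ≤ normalizer (Z : Set X) := by
        apply le_normalizer_of_forall_conj_mem
        intro x hx z hz
        have hxG : x ∈ normalizer (G : Set X) := (sup_le hAG le_normalizer) hx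
        obtain ⟨hz1, hz2⟩ := mem_inf.mp hz
        refine mem_inf.mpr ⟨(mem_normalizer_iff.mp hxG z).mp hz1, ?_⟩
        rw [mem_centralizer_iff]
        intro g hg
        have hg' : x⁻¹ * g * x ∈ G := by
          have := (mem_normalizer_iff.mp (inv_mem hxG) g).mp hg
          simpa using this
        have hc := mem_centralizer_iff.mp hz2 _ hg'
        calc g * (x * z * x⁻¹) = x * ((x⁻¹ * g * x) * z) * x⁻¹ := by group
          _ = x * (z * (x⁻¹ * g * x)) * x⁻¹ := by rw [hc]
          _ = _ := by group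
      have hZG : Z = G := hN Z inf_le_left hZn hZ1
      have hGab : ∀ x ∈ G, ∀ y ∈ G, x * y = y * x := by
        intro x hx y hy
        have hyZ : y ∈ Z := hZG ▸ hy
        exact (mem_centralizer_iff.mp (mem_inf.mp hyZ).2 x hx)
      have hirr : ∀ W : Subgroup X, W ≤ G → A ≤ normalizer (W : Set X) → W = ⊥ ∨ W = G := by
        intro W hWG hWA
        by_cases hW1 : W = ⊥
        · exact Or.inl hW1
        · right
          refine hN W hWG (sup_le hWA ?_) hW1
          apply le_normalizer_of_forall_conj_mem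
          intro g hg w hw
          have : g * w * g⁻¹ = w := by rw [hGab g hg w (hWG hw)]; group
          rw [this]; exact hw
      obtain ⟨a, ha, hgen⟩ := exists_cocyclic_centralizer hA hGab hAG hG1 hirr
      set B := A ⊓ centralizer (G : Set X) with hBdef
      have hBc : B ∈ Cocyc A := cocyc_of_forall inf_le_left ha (fun x hx => by
        obtain ⟨k, hk⟩ := hgen x hx
        exact ⟨k, mem_inf.mpr ⟨mul_mem hx (zpow_mem ha k), hk⟩⟩)
      refine le_trans ?_ (le_gen hBc)
      refine le_inf le_rfl ?_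
      intro g hg
      rw [mem_centralizer_iff]
      intro b hb
      exact (mem_centralizer_iff.mp (mem_inf.mp hb).2 g hg).symm
    · push Not at hp
      have hKG := sylow_step h (gen_le A G) (K := Gen A G) ?_
      · rw [hKG]
      intro p P hpp hPG hPA ⟨k, hk⟩
      have hPne : P ≠ G := by
        rintro rfl
        exact hp p k hpp hk
      have hPlt : Nat.card P < Nat.card G := card_lt_of_lt (lt_of_le_of_ne hPG hPne)
      exact (ih (Nat.card P) (hn ▸ hPlt) X A P hA hPA
        (Nat.Coprime.coprime_dvd_right (Subgroup.card_dvd_of_le hPG) hcop) rfl).trans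
        (gen_mono hPG)

end Main

section Part2

variable {X : Type u} [Group X]

theorem le_biSup' {ι : Type*} (p : ι → Prop) (S : ι → Subgroup X) (i : ι) (hi : p i) :
    S i ≤ ⨆ i, ⨆ (_ : p i), S i := le_iSup₂ (f := fun i _ => S i) i hi

theorem conj_mem_biSup {ι : Type*} (p : ι → Prop) (S : ι → Subgroup X) (c : X)
    (hc : ∀ i, p i → c ∈ normalizer (S i : Set X)) :
    ∀ l ∈ (⨆ i, ⨆ (_ : p i), S i), c * l * c⁻¹ ∈ (⨆ i, ⨆ (_ : p i), S i) := by
  have h1 : (⨆ i, ⨆ (_ : p i), S i) ≤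
      (⨆ i, ⨆ (_ : p i), S i).comap (MulAut.conj c).toMonoidHom := by
    refine iSup₂_le fun i hi => ?_
    intro s hs
    have h2 : c * s * c⁻¹ ∈ S i := (mem_normalizer_iff.mp (hc i hi) s).mp hs
    have h3 : S i ≤ ⨆ i, ⨆ (_ : p i), S i := le_iSup₂ (f := fun i _ => S i) i hi
    have h4 := h3 h2
    rw [mem_comap]
    exact h4
  intro l hl
  have h5 := h1 hl
  rw [mem_comap] at h5
  exact h5

theorem mem_normalizer_biSup' {ι : Type*} (p : ι → Prop) (S : ι → Subgroup X) (c : X)
    (hc : ∀ i, p i → c ∈ normalizer (S i : Set X)) :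
    c ∈ normalizer (((⨆ i, ⨆ (_ : p i), S i) : Subgroup X) : Set X) := by
  rw [mem_normalizer_iff]
  intro l
  refine ⟨conj_mem_biSup p S c hc l, fun hl => ?_⟩
  have h2 := conj_mem_biSup p S c⁻¹ (fun i hi => inv_mem (hc i hi)) _ hl
  have h3 : c⁻¹ * (c * l * c⁻¹) * c⁻¹⁻¹ = l := by group
  rw [h3] at h2
  exact h2

theorem mem_normalizer_biSup {A G : Subgroup X} (c : X)
    (hc : ∀ B ∈ Cocyc A,
        c ∈ normalizer ((⁅G ⊓ centralizer (B : Set X), A⁆ : Subgroup X) : Set X)) :
    c ∈ normalizer (((⨆ B ∈ Cocyc A, ⁅G ⊓ centralizer (B : Set X), A⁆) : Subgroup X) : Set X) :=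
  mem_normalizer_biSup' (fun B => B ∈ Cocyc A) (fun B => ⁅G ⊓ centralizer (B : Set X), A⁆) c hc

/-- The subgroup of elements normalizing `L` and whose commutators with `A` lie in `L`. -/
def commSub (A L : Subgroup X) : Subgroup X :=
  { carrier := {g | g ∈ normalizer (L : Set X) ∧ ∀ a ∈ A, ⁅g, a⁆ ∈ L}
    one_mem' := ⟨one_mem _, fun a _ => by simp⟩
    mul_mem' := by
      rintro g k ⟨hg, hg'⟩ ⟨hk, hk'⟩
      refine ⟨mul_mem hg hk, fun a ha => ?_⟩
      have h1 : ⁅g * k, a⁆ = g * ⁅k, a⁆ * g⁻¹ * ⁅g, a⁆ := by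
        simp only [commutatorElement_def]; group
      rw [h1]
      exact mul_mem ((mem_normalizer_iff.mp hg _).mp (hk' a ha)) (hg' a ha)
    inv_mem' := by
      rintro g ⟨hg, hg'⟩
      refine ⟨inv_mem hg, fun a ha => ?_⟩
      have h1 : ⁅g⁻¹, a⁆ = g⁻¹ * ⁅g, a⁆⁻¹ * g⁻¹⁻¹ := by
        simp only [commutatorElement_def]; group
      rw [h1]
      exact (mem_normalizer_iff.mp (inv_mem hg) _).mp (inv_mem (hg' a ha)) }

theorem le_normalizer_inf_centralizer {A G B : Subgroup X}
    (hA : ∀ x ∈ A, ∀ y ∈ A, x * y = y * x) (hAG : A ≤ normalizer (G : Set X)) (hBA : B ≤ A) :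
    A ≤ normalizer ((G ⊓ centralizer (B : Set X) : Subgroup X) : Set X) := by
  apply le_normalizer_of_forall_conj_mem
  intro a ha c hc
  obtain ⟨hc1, hc2⟩ := mem_inf.mp hc
  refine mem_inf.mpr ⟨(mem_normalizer_iff.mp (hAG ha) c).mp hc1, ?_⟩
  rw [mem_centralizer_iff]
  intro b hb
  have h1 := hA a ha b (hBA hb)
  have h2 := mem_centralizer_iff.mp hc2 b hb
  have h3 : a⁻¹ * b = b * a⁻¹ := hA a⁻¹ (inv_mem ha) b (hBA hb)
  calc b * (a * c * a⁻¹) = (b * a) * c * a⁻¹ := by group
    _ = (a * b) * c * a⁻¹ := by rw [h1]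
    _ = a * (b * c) * a⁻¹ := by group
    _ = a * (c * b) * a⁻¹ := by rw [h2]
    _ = a * c * (b * a⁻¹) := by group
    _ = a * c * (a⁻¹ * b) := by rw [h3]
    _ = a * c * a⁻¹ * b := by group

theorem mem_commSub {A L : Subgroup X} {g : X} :
    g ∈ commSub A L ↔ g ∈ normalizer (L : Set X) ∧ ∀ a ∈ A, ⁅g, a⁆ ∈ L := Iff.rfl

theorem part_two [Finite X] {A G : Subgroup X} (hA : ∀ x ∈ A, ∀ y ∈ A, x * y = y * x)
    (h : CoprimeAct A G) (hgen : Gen A G = G) :
    (⨆ B ∈ Cocyc A, ⁅G ⊓ centralizer (B : Set X), A⁆) = ⁅G, A⁆ := by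
  have hAG := h.norm
  have hleL : ∀ B ∈ Cocyc A, ⁅G ⊓ centralizer (B : Set X), A⁆ ≤
      (⨆ B ∈ Cocyc A, ⁅G ⊓ centralizer (B : Set X), A⁆) := fun B hB =>
    le_biSup' (fun B : Subgroup X => B ∈ Cocyc A)
      (fun B : Subgroup X => ⁅G ⊓ centralizer (B : Set X), A⁆) B hB
  generalize hL : (⨆ B ∈ Cocyc A, ⁅G ⊓ centralizer (B : Set X), A⁆) = L at hleL ⊢
  have hLle : L ≤ ⁅G, A⁆ := by
    rw [← hL]
    exact iSup₂_le fun B _ => Subgroup.commutator_mono inf_le_left le_rfl
  have hCA : G ⊓ centralizer (A : Set X) ≤ normalizer (L : Set X) := by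
    intro c hc
    rw [← hL]
    apply mem_normalizer_biSup
    intro B hB
    have hcB : c ∈ G ⊓ centralizer (B : Set X) :=
      mem_inf.mpr ⟨(mem_inf.mp hc).1, centralizer_le hB.1 (mem_inf.mp hc).2⟩
    exact le_normalizer_commutator_left hcB
  have hCB : ∀ B ∈ Cocyc A, G ⊓ centralizer (B : Set X) ≤ normalizer (L : Set X) := by
    intro B hB
    have hAn := le_normalizer_inf_centralizer hA hAG hB.1
    have hact : CoprimeAct A (G ⊓ centralizer (B : Set X)) := h.mono inf_le_left hAn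
    have h4 := hact.commutator_sup_centralizer
    rw [← h4]
    refine sup_le ?_ ?_
    · exact (hleL B hB).trans le_normalizer
    · exact (inf_le_inf_right _ inf_le_left).trans hCA
  have hD : G ≤ commSub A L := by
    refine hgen.ge.trans (iSup₂_le fun B hB => ?_)
    intro c hc
    rw [mem_commSub]
    exact ⟨hCB B hB hc, fun a ha => hleL B hB (Subgroup.commutator_mem_commutator hc ha)⟩
  apply le_antisymm hLle
  rw [Subgroup.commutator_le]
  intro g hg a ha
  exact ((mem_commSub.mp (hD hg)).2 a ha)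

end Part2

/-- Let A and G be subgroups of a finite group with A abelian, A normalizing G and the orders of A and G coprime. Then G is generated by the fixed-point subgroups C_G(B) of those subgroups B of A for which A/B is cyclic (that is, A = ⟨B, a⟩ for some a), and [G, A] is generated by the commutator subgroups [C_G(B), A] over the same subgroups B. -/
theorem result {X : Type*} [Group X] [Finite X] (A G : Subgroup X) (hAab : IsMulCommutative A) (hAG : A ≤ Subgroup.normalizer (G : Set X)) (hcop : (Nat.card A).Coprime (Nat.card G)) : (⨆ B ∈ {B : Subgroup X | B ≤ A ∧ ∃ a ∈ A, B ⊔ Subgroup.zpowers a = A}, G ⊓ Subgroup.centralizer (B : Set X)) = G ∧ (⨆ B ∈ {B : Subgroup X | B ≤ A ∧ ∃ a ∈ A, B ⊔ Subgroup.zpowers a = A}, ⁅G ⊓ Subgroup.centralizer (B : Set X), A⁆) = ⁅G, A⁆ := by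
  have hA : ∀ x ∈ A, ∀ y ∈ A, x * y = y * x := by
    intro x hx y hy
    have := hAab.is_comm.comm (⟨x, hx⟩ : A) ⟨y, hy⟩
    exact congrArg Subtype.val this
  have h : CoprimeAct A G :=
    ⟨hAG, hcop, Or.inl (Group.isSolvable_of_comm fun a b => Subtype.ext (hA a a.2 b b.2))⟩
  have hgen : Gen A G = G := le_antisymm (gen_le A G) (le_gen_aux _ X A G hA hAG hcop rfl)
  exact ⟨hgen, part_two hA h hgen⟩

end Cfsg.Agent.S3734
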