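import Cfsg.Statements.S0721
import Mathlib

set_option autoImplicit false
open Cfsg

namespace Cfsg.Agent.S0721

set_option linter.unusedSectionVars false

section
variable {T : Type*} [Group T]

/-- `T^j × T ≃* T^(j+1)` -/
def consMulEquiv (j : ℕ) : (Fin j → T) × T ≃* (Fin (j + 1) → T) where
  toFun p := Fin.cons p.2 p.1
  invFun q := (Fin.tail q, q 0)
  left_inv p := by simp
  right_inv q := by simp
  map_mul' p q := by
    ext i
    cases i using Fin.cases <;> simp

end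

section
variable {G : Type*} [Group G] [Finite G] [Nontrivial G] {Γ : Type*} [Group Γ] (φ : Γ →* MulAut G)

theorem exists_minNormal : ∃ T₀ : Subgroup G, T₀.Normal ∧ T₀ ≠ ⊥ ∧
    ∀ K : Subgroup G, K.Normal → K ≤ T₀ → K = ⊥ ∨ K = T₀ := by
  let S : Set (Subgroup G) := {N | N.Normal ∧ N ≠ ⊥}
  have hne : S.Nonempty := ⟨⊤, inferInstance, top_ne_bot⟩
  obtain ⟨N, hN, hmin⟩ := wellFounded_lt.has_min S hne
  refine ⟨N, hN.1, hN.2, ?_⟩
  intro K hKn hKN
  by_cases hK : K = ⊥
  · left; exact hK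
  · right
    by_contra hne'
    exact hmin K ⟨hKn, hK⟩ (lt_of_le_of_ne hKN hne')

/-- image of a subgroup under the automorphism attached to `γ` -/
abbrev Tg (T₀ : Subgroup G) (γ : Γ) : Subgroup G := T₀.map (φ γ).toMonoidHom

theorem Tg_normal (T₀ : Subgroup G) (hT : T₀.Normal) (γ : Γ) : (Tg φ T₀ γ).Normal :=
  hT.map _ (φ γ).surjective

theorem Tg_min (T₀ : Subgroup G) (hmin : ∀ K : Subgroup G, K.Normal → K ≤ T₀ → K = ⊥ ∨ K = T₀) (γ : Γ)
    (K : Subgroup G) (hK : K.Normal) (hle : K ≤ Tg φ T₀ γ) : K = ⊥ ∨ K = Tg φ T₀ γ := by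
  have h1 : (K.comap (φ γ).toMonoidHom).Normal := hK.comap _
  have h2 : K.comap (φ γ).toMonoidHom ≤ T₀ := by
    have := Subgroup.comap_mono (f := (φ γ).toMonoidHom) hle
    rwa [Subgroup.comap_map_eq_self_of_injective (φ γ).injective] at this
  have h3 : (K.comap (φ γ).toMonoidHom).map (φ γ).toMonoidHom = K :=
    Subgroup.map_comap_eq_self_of_surjective (φ γ).surjective K
  rcases hmin _ h1 h2 with h | h
  · left
    rw [← h3, h, Subgroup.map_bot]
  · right
    rw [← h3, h]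

theorem iSup_Tg_eq_top (hinv : ∀ K : Subgroup G, (∀ γ, K.map (φ γ).toMonoidHom ≤ K) → K = ⊥ ∨ K = ⊤)
    (T₀ : Subgroup G) (hT₀ : T₀ ≠ ⊥) : ⨆ γ, Tg φ T₀ γ = ⊤ := by
  have hle : T₀ ≤ ⨆ γ, Tg φ T₀ γ := by
    have : Tg φ T₀ 1 = T₀ := by
      ext x
      simp [Tg]
    calc T₀ = Tg φ T₀ 1 := this.symm
      _ ≤ _ := le_iSup (fun γ => Tg φ T₀ γ) 1
  have hJ : ∀ δ, (⨆ γ, Tg φ T₀ γ).map (φ δ).toMonoidHom ≤ ⨆ γ, Tg φ T₀ γ := by
    intro δ
    rw [Subgroup.map_iSup]
    apply iSup_le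
    intro γ
    have : (Tg φ T₀ γ).map (φ δ).toMonoidHom = Tg φ T₀ (δ * γ) := by
      rw [Tg, Tg, Subgroup.map_map]
      congr 1
      ext x
      simp [map_mul]
    rw [this]
    exact le_iSup (fun γ => Tg φ T₀ γ) (δ * γ)
  rcases hinv (⨆ γ, Tg φ T₀ γ) hJ with h | h
  · exfalso
    apply hT₀
    rw [eq_bot_iff, ← h]; exact hle
  · exact h


theorem T0_simple (hinv : ∀ K : Subgroup G, (∀ γ, K.map (φ γ).toMonoidHom ≤ K) → K = ⊥ ∨ K = ⊤)
    (T₀ : Subgroup G) (hT : T₀.Normal) (hT₀ : T₀ ≠ ⊥)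
    (hmin : ∀ K : Subgroup G, K.Normal → K ≤ T₀ → K = ⊥ ∨ K = T₀) : IsSimpleGroup T₀ := by
  rw [Subgroup.isSimpleGroup_iff]
  refine ⟨hT₀, ?_⟩
  intro H' hle hH'
  have hnorm : H'.Normal := by
    rw [← Subgroup.normalizer_eq_top_iff, eq_top_iff, ← iSup_Tg_eq_top φ hinv T₀ hT₀]
    apply iSup_le
    intro γ
    have hTγn := Tg_normal φ T₀ hT γ
    have hinf : (Tg φ T₀ γ ⊓ T₀).Normal := by
      haveI := hTγn
      haveI := hT
      infer_instance
    rcases hmin _ hinf inf_le_right with h | h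
    · -- disjoint: elements commute
      have hdisj : Disjoint (Tg φ T₀ γ) T₀ := disjoint_iff.mpr h
      intro g hg
      rw [Subgroup.mem_normalizer_iff]
      intro x
      constructor
      · intro hx
        have := Subgroup.commute_of_normal_of_disjoint _ _ hTγn hT hdisj g x hg (hle hx)
        rw [this.eq, mul_inv_cancel_right]
        exact hx
      · intro hx
        have := Subgroup.commute_of_normal_of_disjoint _ _ hTγn hT hdisj g⁻¹ (g * x * g⁻¹)
          ((Tg φ T₀ γ).inv_mem hg) (hle hx)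
        have h2 : x = g⁻¹ * (g * x * g⁻¹) * (g⁻¹)⁻¹ := by group
        rw [h2, this.eq, mul_inv_cancel_right]
        exact hx
    · -- T₀ ≤ Tγ, so equal
      have hle2 : T₀ ≤ Tg φ T₀ γ := by
        intro x hx
        have : x ∈ Tg φ T₀ γ ⊓ T₀ := by rw [h]; exact hx
        exact this.1
      have heq : T₀ = Tg φ T₀ γ := by
        rcases Tg_min φ T₀ hmin γ T₀ hT hle2 with h' | h'
        · exact absurd h' hT₀
        · exact h'
      rw [← heq]
      intro g hg
      rw [Subgroup.mem_normalizer_iff]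
      intro x
      constructor
      · intro hx
        have := hH'.conj_mem ⟨x, hle hx⟩ (Subgroup.mem_subgroupOf.mpr hx) ⟨g, hg⟩
        exact Subgroup.mem_subgroupOf.mp this
      · intro hx
        have hxT : g * x * g⁻¹ ∈ T₀ := hle hx
        have := hH'.conj_mem ⟨g * x * g⁻¹, hxT⟩ (Subgroup.mem_subgroupOf.mpr hx) ⟨g, hg⟩⁻¹
        have h3 := Subgroup.mem_subgroupOf.mp this
        simp only [Subgroup.coe_mul, Subgroup.coe_inv, inv_inv] at h3
        have h2 : x = g⁻¹ * (g * x * g⁻¹) * g := by group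
        rw [h2]; exact h3
  exact hmin H' hnorm hle

/-- the inductive property -/
def PP (T₀ M : Subgroup G) : Prop := M.Normal ∧ ∃ j : ℕ, Nonempty (M ≃* (Fin j → T₀))

theorem extend (hinv : ∀ K : Subgroup G, (∀ γ, K.map (φ γ).toMonoidHom ≤ K) → K = ⊥ ∨ K = ⊤)
    (T₀ : Subgroup G) (hT : T₀.Normal) (hT₀ : T₀ ≠ ⊥)
    (hmin : ∀ K : Subgroup G, K.Normal → K ≤ T₀ → K = ⊥ ∨ K = T₀) (M : Subgroup G) (hM : PP T₀ M)
    (hMtop : M ≠ ⊤) : ∃ M' : Subgroup G, M < M' ∧ PP T₀ M' := by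
  obtain ⟨hMn, j, ⟨e⟩⟩ := hM
  obtain ⟨γ, hγ⟩ : ∃ γ, ¬ Tg φ T₀ γ ≤ M := by
    by_contra hcon
    push Not at hcon
    apply hMtop
    rw [eq_top_iff, ← iSup_Tg_eq_top φ hinv T₀ hT₀]
    exact iSup_le hcon
  set T' := Tg φ T₀ γ with hT'
  have hT'n : T'.Normal := Tg_normal φ T₀ hT γ
  have hinf : (M ⊓ T').Normal := by
    haveI := hMn
    haveI := hT'n
    infer_instance
  have hdisj : M ⊓ T' = ⊥ := by
    rcases Tg_min φ T₀ hmin γ _ hinf inf_le_right with h | h
    · exact h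
    · exfalso
      apply hγ
      intro x hx
      have : x ∈ M ⊓ T' := by rw [h]; exact hx
      exact this.1
  have hcomm : ∀ (m : M) (t : T'), Commute (M.subtype m) (T'.subtype t) := by
    intro m t
    exact Subgroup.commute_of_normal_of_disjoint M T' hMn hT'n (disjoint_iff.mpr hdisj) m t m.2 t.2
  let f : M × T' →* G := MonoidHom.noncommCoprod M.subtype T'.subtype hcomm
  have hfinj : Function.Injective f := by
    rw [injective_iff_map_eq_one]
    rintro ⟨m, t⟩ hmt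
    have h1 : (m : G) * (t : G) = 1 := hmt
    have h2 : (m : G) = (t : G)⁻¹ := eq_inv_of_mul_eq_one_left h1
    have h3 : (m : G) ∈ M ⊓ T' := ⟨m.2, by rw [h2]; exact T'.inv_mem t.2⟩
    rw [hdisj, Subgroup.mem_bot] at h3
    have h4 : (t : G) = 1 := by rw [h3, one_mul] at h1; exact h1
    exact Prod.ext (Subtype.ext h3) (Subtype.ext h4)
  have hrange : f.range = M ⊔ T' := by
    rw [MonoidHom.noncommCoprod_range, Subgroup.range_subtype, Subgroup.range_subtype]
  refine ⟨M ⊔ T', ?_, ?_, j + 1, ⟨?_⟩⟩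
  · apply lt_of_le_of_ne le_sup_left
    intro h
    apply hγ
    intro x hx
    rw [h]; exact Subgroup.mem_sup_right hx
  · haveI := hMn
    haveI := hT'n
    infer_instance
  · have e1 : M × T' ≃* f.range := MonoidHom.ofInjective hfinj
    have e2 : f.range ≃* ↥(M ⊔ T') := MulEquiv.subgroupCongr hrange
    have e3 : T₀ ≃* T' := (φ γ).subgroupMap T₀
    have e4 : M × T' ≃* (Fin j → T₀) × T₀ := MulEquiv.prodCongr e e3.symm
    exact (e2.symm.trans e1.symm).trans (e4.trans (consMulEquiv j))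

theorem main (hinv : ∀ K : Subgroup G, (∀ γ, K.map (φ γ).toMonoidHom ≤ K) → K = ⊥ ∨ K = ⊤) :
    ∃ (T₀ : Subgroup G) (m : ℕ), IsSimpleGroup T₀ ∧ 0 < m ∧ Nonempty (G ≃* (Fin m → T₀)) := by
  obtain ⟨T₀, hT, hT₀, hmin⟩ := exists_minNormal (G := G)
  have hsimple := T0_simple φ hinv T₀ hT hT₀ hmin
  let S : Set (Subgroup G) := {M | PP T₀ M}
  have hne : S.Nonempty := by
    refine ⟨⊥, inferInstance, 0, ⟨?_⟩⟩
    exact MulEquiv.ofUnique
  obtain ⟨M, hM, hmax⟩ := wellFounded_gt.has_min S hne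
  have hMtop : M = ⊤ := by
    by_contra hne'
    obtain ⟨M', hlt, hM'⟩ := extend φ hinv T₀ hT hT₀ hmin M hM hne'
    exact hmax M' hM' hlt
  obtain ⟨_, j, ⟨e⟩⟩ := hM
  refine ⟨T₀, j, hsimple, ?_, ⟨?_⟩⟩
  · by_contra hj
    have hj0 : j = 0 := by omega
    subst hj0
    have : Subsingleton M := e.toEquiv.subsingleton
    rw [hMtop] at this
    have h2 : Subsingleton G := Subgroup.topEquiv.symm.toEquiv.subsingleton
    exact not_subsingleton G h2
  · exact (Subgroup.topEquiv.symm.trans (MulEquiv.subgroupCongr hMtop.symm)).trans e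

end

/-- A fresh carrier type in `Type` with no algebraic instances. -/
structure Carrier (n : ℕ) : Type where
  val : Fin n

def Carrier.equivFin (n : ℕ) : Carrier n ≃ Fin n where
  toFun x := x.val
  invFun i := ⟨i⟩
  left_inv _ := rfl
  right_inv _ := rfl

/-- A minimal normal subgroup of a finite group is isomorphic to a direct power `T ^ m` of a simple group `T` (possibly of prime order). -/
theorem result {H : Type*} [Group H] [Finite H] (N : Subgroup H) [N.Normal] (hN : N ≠ ⊥) (hmin : ∀ M : Subgroup H, M.Normal → M ≤ N → M = ⊥ ∨ M = N) : ∃ (T : Type) (_ : Group T) (m : ℕ), IsSimpleGroup T ∧ 0 < m ∧ Nonempty (N ≃* (Fin m → T)) := by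
  classical
  haveI : Nontrivial N := (Subgroup.nontrivial_iff_ne_bot N).mpr hN
  have hinv : ∀ K : Subgroup N, (∀ h : H, K.map (MulAut.conjNormal h : MulAut N).toMonoidHom ≤ K) →
      K = ⊥ ∨ K = ⊤ := by
    intro K hK
    have hKn : (K.map N.subtype).Normal := by
      constructor
      rintro x ⟨k, hk, rfl⟩ h
      have h1 : (MulAut.conjNormal h : MulAut N) k ∈ K := hK h ⟨k, hk, rfl⟩
      refine ⟨(MulAut.conjNormal h : MulAut N) k, h1, ?_⟩
      exact MulAut.conjNormal_apply h k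
    rcases hmin _ hKn (Subgroup.map_subtype_le K) with h | h
    · left
      exact (Subgroup.map_eq_bot_iff_of_injective K N.subtype_injective).mp h
    · right
      apply Subgroup.map_injective N.subtype_injective
      rw [h, ← MonoidHom.range_eq_map, Subgroup.range_subtype]
  obtain ⟨T₀, m, hsimple, hm, ⟨e⟩⟩ := main (MulAut.conjNormal : H →* MulAut N) hinv
  let n := Nat.card T₀
  let e₀ : Carrier n ≃ T₀ := (Carrier.equivFin n).trans (Finite.equivFin T₀).symm
  letI grp : Group (Carrier n) := e₀.group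
  let e₁ : Carrier n ≃* T₀ := e₀.mulEquiv
  refine ⟨Carrier n, grp, m, ?_, hm, ⟨?_⟩⟩
  · exact MulEquiv.isSimpleGroup e₁
  · exact e.trans (MulEquiv.piCongrRight (fun _ => e₁.symm))

end Cfsg.Agent.S0721
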