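import Mathlib
import Cfsg.Statements.S3080
import Cfsg.Agent.H5.SCFusion
import Cfsg.Agent.H5.SCBridge

set_option autoImplicit false
open Cfsg

namespace Cfsg.Agent.S3080

/-- Let p be an odd prime, G a finite group that is p-stable in the normalizer form, P a Sylow p-subgroup such that N_G(U) is p-constrained for every nontrivial subgroup U of P, and D a subgroup of P strongly closed in P with respect to G. Then N_G(Z(J(D))) controls strong G-fusion in P (for every subset A of P and every g ∈ G with gAg⁻¹ ⊆ P, some element of that normalizer acts on A exactly as g does; J(D) is generated by the abelian subgroups of D of largest order), and so does N_G(Ω₁(Z(J_e(D)))) (J_e(D) generated by the elementary abelian subgroups of largest order). -/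
theorem result {G : Type*} [Group G] [Finite G] {p : ℕ} [Fact p.Prime] (hp : p ≠ 2) (P : Sylow p G) (D : Subgroup G) (hD : Cfsg.IsStronglyClosed D (P : Subgroup G)) (hst : Cfsg.IsNormalizerPStable p G) (hc : ∀ U : Subgroup G, U ≤ (P : Subgroup G) → U ≠ ⊥ → Cfsg.IsPConstrained p ↥(Subgroup.normalizer (U : Set G))) : (∀ A : Set G, A ⊆ (P : Subgroup G) → Cfsg.ControlsStrongFusionOf (Subgroup.normalizer ((Cfsg.centerThompsonAOf D) : Set G)) (P : Subgroup G) A) ∧ (∀ A : Set G, A ⊆ (P : Subgroup G) → Cfsg.ControlsStrongFusionOf (Subgroup.normalizer ((Cfsg.omegaOne p (Cfsg.centerThompsonOf p D)) : Set G)) (P : Subgroup G) A) := by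
  rw [Cfsg.H5.ZJ.centerThompsonAOf_eq, Cfsg.H5.ZJ.omegaOne_centerThompsonOf_eq]
  have key : ∀ e : ℕ, p ∣ e → ∀ A : Set G, A ⊆ (P : Subgroup G) →
      Cfsg.ControlsStrongFusionOf (Subgroup.normalizer ((Cfsg.H5.ZJ.Z e D) : Set G))
        (P : Subgroup G) A := by
    intro e he A hA
    refine ⟨hA, fun g hg => ?_⟩
    by_cases hb : D = ⊥
    · have hZ : Cfsg.H5.ZJ.Z e D = ⊥ := by rw [eq_bot_iff, ← hb]; exact Cfsg.H5.ZJ.Z_le
      have htop : Subgroup.normalizer (Cfsg.H5.ZJ.Z e D : Set G) = ⊤ := by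
        rw [hZ]; exact Subgroup.normalizer_eq_top_iff.2 inferInstance
      exact ⟨g, by rw [htop]; trivial, fun a _ => rfl⟩
    · have h𝔻 := Cfsg.H5.SC.isSCSet_conjSet P hD
      have hds : Cfsg.H5.SC.dsub (Cfsg.H5.SC.conjSet D) (P : Subgroup G) = D :=
        Cfsg.H5.SC.dsub_conjSet hD
      have h1 := Cfsg.H5.SC.controls_strong_fusion_sc hp e he hst P hc h𝔻 A hA g hg
      rwa [Cfsg.H5.SC.Wf_of_ne_bot (by rw [hds]; exact hb), hds] at h1
  exact ⟨key 0 (dvd_zero p), key p dvd_rfl⟩

end Cfsg.Agent.S3080
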