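import Cfsg.Statements.S1473
import Cfsg.Agent.Lib.Helper10.CNGroup
import Cfsg.Agent.Lib.Helper10.PGroup
import Cfsg.Agent.Lib.Helper10.PComponent2
import Cfsg.Agent.Lib.Helper1.ThompsonPQ
import Cfsg.Agent.Lib.Helper17.Coprime

set_option autoImplicit false
open Cfsg

namespace Cfsg.Agent.S1473

open Cfsg.Agent.Lib.Helper10 Cfsg.Agent.Lib.Helper1
open scoped commutatorElement

universe u

/-- elements of coprime orders of a subgroup with nilpotent ambient centralizer commute -/
theorem commute_of_mem_nilpotent {G : Type*} [Group G] {M : Subgroup G}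
    (hM : Group.IsNilpotent ↥M) {a b : G} (ha : a ∈ M) (hb : b ∈ M)
    (hab : (orderOf a).Coprime (orderOf b)) : a * b = b * a := by
  have h1 := commute_of_coprime_orderOf ↥M (⟨a, ha⟩ : ↥M) ⟨b, hb⟩
    (by rw [Subgroup.orderOf_mk, Subgroup.orderOf_mk]; exact hab)
  exact congrArg Subtype.val h1.eq

/-- Case `r ≠ q`: the centralizer of an `r`-element of `G / H` (`H` a normal `q`-subgroup) is covered
by the centralizer of an `r`-element of `G`. -/
theorem centralizer_le_map {G : Type*} [Group G] [Finite G] (H : Subgroup G) [H.Normal]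
    {q : ℕ} [Fact q.Prime] (hH : IsPGroup q H) {r : ℕ} [Fact r.Prime] (hrq : r ≠ q)
    (yb : G ⧸ H) (hyb : orderOf yb = r) :
    ∃ z : G, z ≠ 1 ∧ Subgroup.centralizer ({yb} : Set (G ⧸ H)) ≤
      (Subgroup.centralizer ({z} : Set G)).map (QuotientGroup.mk' H) := by
  have hr : r.Prime := Fact.out
  have hq : q.Prime := Fact.out
  obtain ⟨x₀, rfl⟩ := QuotientGroup.mk'_surjective H yb
  obtain ⟨z, -, ⟨j, hj⟩, hzx⟩ := exists_pElement_lift (QuotientGroup.mk' H) r
    (K := ⊤) (Subgroup.mem_top x₀) (k := 1) (by rw [pow_one]; exact hyb)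
  have hz1 : z ≠ 1 := by
    rintro rfl
    rw [map_one] at hzx
    rw [← hzx, orderOf_one] at hyb
    exact hr.one_lt.ne hyb
  refine ⟨z, hz1, ?_⟩
  have hact : CoprimeAct (Subgroup.zpowers z) H :=
    { norm := by rw [Subgroup.normalizer_eq_top]; exact le_top
      cop := by
        obtain ⟨i, hi⟩ := IsPGroup.iff_card.mp hH
        rw [Nat.card_zpowers, hj, hi]
        exact Nat.Coprime.pow j i ((Nat.coprime_primes hr hq).mpr hrq)
      solv := Or.inl inferInstance }
  intro cb hcb
  obtain ⟨c, rfl⟩ := QuotientGroup.mk'_surjective H cb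
  have hcz : (QuotientGroup.mk' H c) * (QuotientGroup.mk' H z) =
      (QuotientGroup.mk' H z) * (QuotientGroup.mk' H c) := by
    rw [hzx]
    exact ((Subgroup.mem_centralizer_iff.mp hcb) _ (Set.mem_singleton _)).symm
  have hinv : ∀ a ∈ Subgroup.zpowers z, c⁻¹ * (a * c * a⁻¹) ∈ H := by
    intro a ha
    obtain ⟨k, rfl⟩ := Subgroup.mem_zpowers_iff.mp ha
    apply (QuotientGroup.eq_one_iff _).mp
    have hck : Commute (QuotientGroup.mk' H c) ((QuotientGroup.mk' H z) ^ k) :=
      (show Commute (QuotientGroup.mk' H c) (QuotientGroup.mk' H z) from hcz).zpow_right k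
    show QuotientGroup.mk' H (c⁻¹ * (z ^ k * c * (z ^ k)⁻¹)) = 1
    rw [map_mul, map_mul, map_mul, map_inv, map_inv, map_zpow, ← hck.eq]
    group
  obtain ⟨u, hu, hcu⟩ := hact.exists_mul_mem_normalizer c hinv
  -- `g = c u` normalizes `⟨z⟩` and fixes `z` modulo `H`, hence centralizes `z`
  have hgz : c * u * z * (c * u)⁻¹ ∈ Subgroup.zpowers z :=
    (Subgroup.mem_normalizer_iff.mp hcu z).mp (Subgroup.mem_zpowers z)
  obtain ⟨k, hk⟩ := Subgroup.mem_zpowers_iff.mp hgz
  have hu1 : QuotientGroup.mk' H u = 1 := (QuotientGroup.eq_one_iff u).mpr hu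
  have h1 : QuotientGroup.mk' H (z ^ k * z⁻¹) = 1 := by
    rw [hk, map_mul, map_mul, map_mul, map_mul, map_inv, map_inv, map_mul, hu1, mul_one, hcz]
    group
  have h2 : z ^ k * z⁻¹ ∈ H ⊓ Subgroup.zpowers z :=
    Subgroup.mem_inf.mpr ⟨(QuotientGroup.eq_one_iff _).mp h1,
      Subgroup.mul_mem _ (Subgroup.zpow_mem_zpowers z k) (Subgroup.inv_mem _ (Subgroup.mem_zpowers z))⟩
  rw [hact.inf_eq_bot, Subgroup.mem_bot] at h2
  have h3 : z ^ k = z := by
    have := mul_inv_eq_one.mp h2
    exact this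
  refine Subgroup.mem_map.mpr ⟨c * u, ?_, ?_⟩
  · rw [Subgroup.mem_centralizer_iff]
    intro w hw
    rw [Set.mem_singleton_iff] at hw
    subst hw
    rw [h3] at hk
    have : c * u * w = w * (c * u) := by
      calc c * u * w = (c * u * w * (c * u)⁻¹) * (c * u) := by group
        _ = w * (c * u) := by rw [← hk]
    exact this.symm
  · rw [map_mul, hu1, mul_one]

/-- the preimage of `⟨yb⟩` (`yb` of order `q`) is a `q`-group -/
theorem isPGroup_comap_zpowers {G : Type*} [Group G] [Finite G] (H : Subgroup G) [H.Normal]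
    {q : ℕ} [Fact q.Prime] (hH : IsPGroup q H) (yb : G ⧸ H) (hyb : orderOf yb = q) :
    IsPGroup q ↥((Subgroup.zpowers yb).comap (QuotientGroup.mk' H)) := by
  obtain ⟨i, hi⟩ := IsPGroup.iff_card.mp hH
  apply IsPGroup.of_card (n := i + 1)
  rw [Cfsg.Agent.Lib.Helper1.card_comap_mk, Nat.card_zpowers, hyb, hi, pow_succ, mul_comm]

/-- Step A: a `q'`-element whose image centralizes `yb` centralizes the preimage of `⟨yb⟩`. -/
theorem centralizes_of_coprime {G : Type*} [Group G] [Finite G] (hCN : Cfsg.IsCNGroup G)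
    (H : Subgroup G) [H.Normal] {q : ℕ} [Fact q.Prime] (hH : IsPGroup q H)
    (yb : G ⧸ H) (hyb : orderOf yb = q) (y : G)
    (hy : (QuotientGroup.mk' H y) ∈ Subgroup.centralizer ({yb} : Set (G ⧸ H)))
    (hyq : (orderOf y).Coprime q) :
    ∀ n ∈ (Subgroup.zpowers yb).comap (QuotientGroup.mk' H), y * n = n * y := by
  have hq : q.Prime := Fact.out
  have hQ₀p := isPGroup_comap_zpowers H hH yb hyb
  have hHQ₀ : H ≤ (Subgroup.zpowers yb).comap (QuotientGroup.mk' H) := by
    intro h hh
    have h1 : QuotientGroup.mk' H h = 1 := (QuotientGroup.eq_one_iff h).mpr hh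
    rw [Subgroup.mem_comap, h1]
    exact Subgroup.one_mem _
  have hyyb : (QuotientGroup.mk' H y) * yb = yb * (QuotientGroup.mk' H y) :=
    ((Subgroup.mem_centralizer_iff.mp hy) yb (Set.mem_singleton yb)).symm
  -- powers of `y` commute with powers of `yb` modulo `H`
  have hcomm : ∀ (k : ℤ) (m : ℤ), (QuotientGroup.mk' H (y ^ k)) * yb ^ m =
      yb ^ m * (QuotientGroup.mk' H (y ^ k)) := by
    intro k m
    rw [map_zpow]
    exact ((show Commute (QuotientGroup.mk' H y) yb from hyyb).zpow_zpow k m).eq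
  have hnorm : Subgroup.zpowers y ≤ Subgroup.normalizer
      (((Subgroup.zpowers yb).comap (QuotientGroup.mk' H) : Subgroup G) : Set G) := by
    apply le_normalizer_of_forall_conj_mem
    intro a ha n hn
    obtain ⟨k, rfl⟩ := Subgroup.mem_zpowers_iff.mp ha
    rw [Subgroup.mem_comap] at hn ⊢
    obtain ⟨m, hm⟩ := Subgroup.mem_zpowers_iff.mp hn
    rw [map_mul, map_mul, ← hm, hcomm k m, map_inv, mul_inv_cancel_right]
    exact Subgroup.zpow_mem_zpowers yb m
  have hact : CoprimeAct (Subgroup.zpowers y) ((Subgroup.zpowers yb).comap (QuotientGroup.mk' H)) :=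
    { norm := hnorm
      cop := by
        obtain ⟨i, hi⟩ := IsPGroup.iff_card.mp hQ₀p
        rw [Nat.card_zpowers, hi]
        exact Nat.Coprime.pow_right i hyq
      solv := Or.inl inferInstance }
  obtain ⟨x, rfl⟩ := QuotientGroup.mk'_surjective H yb
  have hxQ₀ : x ∈ (Subgroup.zpowers (QuotientGroup.mk' H x)).comap (QuotientGroup.mk' H) :=
    Subgroup.mem_zpowers _
  have hinv : ∀ a ∈ Subgroup.zpowers y, x⁻¹ * (a * x * a⁻¹) ∈ H := by
    intro a ha
    obtain ⟨k, rfl⟩ := Subgroup.mem_zpowers_iff.mp ha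
    apply (QuotientGroup.eq_one_iff _).mp
    have := hcomm k 1
    rw [zpow_one] at this
    show QuotientGroup.mk' H (x⁻¹ * (y ^ k * x * (y ^ k)⁻¹)) = 1
    rw [map_mul, map_mul, map_mul, map_inv, map_inv, this]
    group
  obtain ⟨u, hu, hxu⟩ := hact.exists_mul_mem_centralizer hHQ₀
    (by rw [Subgroup.normalizer_eq_top]; exact le_top) x hxQ₀ hinv
  obtain ⟨hxuQ₀, hxuC⟩ := Subgroup.mem_inf.mp hxu
  have hu1 : QuotientGroup.mk' H u = 1 := (QuotientGroup.eq_one_iff u).mpr hu
  have hx'1 : x * u ≠ 1 := by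
    intro h1
    have h2 : QuotientGroup.mk' H (x * u) = 1 := by rw [h1, map_one]
    rw [map_mul, hu1, mul_one] at h2
    rw [h2, orderOf_one] at hyb
    exact hq.one_lt.ne hyb
  have hM := hCN (x * u) hx'1
  have hyM : y ∈ Subgroup.centralizer ({x * u} : Set G) := by
    rw [Subgroup.mem_centralizer_iff]
    intro w hw
    rw [Set.mem_singleton_iff] at hw
    subst hw
    exact ((Subgroup.mem_centralizer_iff.mp hxuC) y (Subgroup.mem_zpowers y)).symm
  -- Thompson's lemma: `y` centralizes `H`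
  have hxuP : IsPGroup q ↥(Subgroup.zpowers (x * u)) :=
    hQ₀p.to_le (Subgroup.zpowers_le.mpr hxuQ₀)
  have hPQ : Subgroup.zpowers (x * u) ≤ Subgroup.centralizer ((Subgroup.zpowers y : Subgroup G) : Set G) := by
    rw [Subgroup.zpowers_le]
    exact hxuC
  have hyH : Subgroup.zpowers y ≤ Subgroup.centralizer (H : Set G) := by
    refine thompson_PxQ q (Subgroup.zpowers (x * u)) (Subgroup.zpowers y) hxuP
      (by rw [Nat.card_zpowers]; exact hyq) hPQ _ H rfl hH
      (by rw [Subgroup.normalizer_eq_top]; exact le_top)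
      (by rw [Subgroup.normalizer_eq_top]; exact le_top) ?_
    intro h hh
    obtain ⟨hhH, hhC⟩ := Subgroup.mem_inf.mp hh
    have hhM : h ∈ Subgroup.centralizer ({x * u} : Set G) := by
      rw [Subgroup.mem_centralizer_iff]
      intro w hw
      rw [Set.mem_singleton_iff] at hw
      subst hw
      exact (Subgroup.mem_centralizer_iff.mp hhC) _ (Subgroup.mem_zpowers _)
    have hoh : (orderOf h).Coprime (orderOf y) := by
      obtain ⟨i, hi⟩ := (IsPGroup.iff_orderOf.1 hH) ⟨h, hhH⟩
      rw [Subgroup.orderOf_mk] at hi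
      rw [hi]
      exact Nat.Coprime.pow_left i hyq.symm
    have h1 := commute_of_mem_nilpotent hM hhM hyM hoh
    rw [Subgroup.mem_centralizer_iff]
    intro a ha
    obtain ⟨k, rfl⟩ := Subgroup.mem_zpowers_iff.mp ha
    exact ((show Commute h y from h1).zpow_right k).eq.symm
  -- stability
  apply Cfsg.Agent.Lib.Helper17.stability_centralizes hQ₀p hyq hHQ₀
  · intro n hn
    rw [Subgroup.mem_comap] at hn
    obtain ⟨m, hm⟩ := Subgroup.mem_zpowers_iff.mp hn
    apply (QuotientGroup.eq_one_iff _).mp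
    have := hcomm 1 m
    rw [zpow_one] at this
    show QuotientGroup.mk' H ⁅n, y⁆ = 1
    rw [map_commutatorElement, ← hm, commutatorElement_eq_one_iff_mul_comm, this]
  · intro h hh
    exact ((Subgroup.mem_centralizer_iff.mp (hyH (Subgroup.mem_zpowers y))) h hh).symm

/-- an element whose image centralizes `yb` normalizes the preimage of `⟨yb⟩` -/
theorem mem_normalizer_comap_zpowers {G : Type*} [Group G] (H : Subgroup G) [H.Normal]
    (yb : G ⧸ H) (c : G)
    (hc : (QuotientGroup.mk' H c) ∈ Subgroup.centralizer ({yb} : Set (G ⧸ H))) :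
    c ∈ Subgroup.normalizer
      (((Subgroup.zpowers yb).comap (QuotientGroup.mk' H) : Subgroup G) : Set G) := by
  have hcyb : (QuotientGroup.mk' H c) * yb = yb * (QuotientGroup.mk' H c) :=
    ((Subgroup.mem_centralizer_iff.mp hc) yb (Set.mem_singleton yb)).symm
  have hsub : Subgroup.zpowers c ≤ Subgroup.normalizer
      (((Subgroup.zpowers yb).comap (QuotientGroup.mk' H) : Subgroup G) : Set G) := by
    apply le_normalizer_of_forall_conj_mem
    intro a ha n hn
    obtain ⟨k, rfl⟩ := Subgroup.mem_zpowers_iff.mp ha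
    rw [Subgroup.mem_comap] at hn ⊢
    obtain ⟨m, hm⟩ := Subgroup.mem_zpowers_iff.mp hn
    have hcomm : (QuotientGroup.mk' H (c ^ k)) * yb ^ m = yb ^ m * (QuotientGroup.mk' H (c ^ k)) := by
      rw [map_zpow]
      exact ((show Commute (QuotientGroup.mk' H c) yb from hcyb).zpow_zpow k m).eq
    rw [map_mul, map_mul, ← hm, hcomm, map_inv, mul_inv_cancel_right]
    exact Subgroup.zpow_mem_zpowers yb m
  exact hsub (Subgroup.mem_zpowers c)

/-- (β): a `q`-element and a `q'`-element of the preimage of `C(yb)` commute -/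
theorem commute_q_q' {G : Type*} [Group G] [Finite G] (hCN : Cfsg.IsCNGroup G)
    (H : Subgroup G) [H.Normal] {q : ℕ} [Fact q.Prime] (hH : IsPGroup q H) (hH1 : H ≠ ⊥)
    (yb : G ⧸ H) (hyb : orderOf yb = q) (s y : G)
    (hs : (QuotientGroup.mk' H s) ∈ Subgroup.centralizer ({yb} : Set (G ⧸ H)))
    (hy : (QuotientGroup.mk' H y) ∈ Subgroup.centralizer ({yb} : Set (G ⧸ H)))
    (hsq : ∃ k, orderOf s = q ^ k) (hyq : (orderOf y).Coprime q) : s * y = y * s := by
  have hq : q.Prime := Fact.out
  have hQ₀p := isPGroup_comap_zpowers H hH yb hyb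
  have hHQ₀ : H ≤ (Subgroup.zpowers yb).comap (QuotientGroup.mk' H) := by
    intro h hh
    have h1 : QuotientGroup.mk' H h = 1 := (QuotientGroup.eq_one_iff h).mpr hh
    rw [Subgroup.mem_comap, h1]
    exact Subgroup.one_mem _
  have hyQ₀ := centralizes_of_coprime hCN H hH yb hyb y hy hyq
  have hsN := mem_normalizer_comap_zpowers H yb s hs
  have hsP : IsPGroup q ↥(Subgroup.zpowers s) := by
    obtain ⟨k, hk⟩ := hsq
    apply IsPGroup.of_card (n := k)
    rw [Nat.card_zpowers, hk]
  have hT : IsPGroup q ↥(Subgroup.zpowers s ⊔ (Subgroup.zpowers yb).comap (QuotientGroup.mk' H)) :=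
    IsPGroup.to_sup_of_normal_right' hsP hQ₀p (Subgroup.zpowers_le.mpr hsN)
  set T := Subgroup.zpowers s ⊔ (Subgroup.zpowers yb).comap (QuotientGroup.mk' H) with hTdef
  have hHT : H ≤ T := hHQ₀.trans le_sup_right
  have hN1 : H.subgroupOf T ≠ ⊥ := by
    intro h0
    apply hH1
    rw [Subgroup.subgroupOf_eq_bot] at h0
    exact (disjoint_of_le_iff_left_eq_bot hHT).mp h0
  have h2 := normal_inf_center_ne_bot hT (H.subgroupOf T) hN1
  obtain ⟨⟨z', hz'⟩, hz'1⟩ := (Subgroup.ne_bot_iff_exists_ne_one).mp h2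
  obtain ⟨hz'H, hz'Z⟩ := Subgroup.mem_inf.mp hz'
  rw [Subgroup.mem_subgroupOf] at hz'H
  have hz'ne : (z' : G) ≠ 1 := by
    intro h1
    apply hz'1
    apply Subtype.ext
    apply Subtype.ext
    exact h1
  have hM := hCN (z' : G) hz'ne
  have hsT : s ∈ T := le_sup_left (a := Subgroup.zpowers s) (Subgroup.mem_zpowers s)
  have hsM : s ∈ Subgroup.centralizer ({(z' : G)} : Set G) := by
    rw [Subgroup.mem_centralizer_iff]
    intro w hw
    rw [Set.mem_singleton_iff] at hw
    subst hw
    have h3 := (Subgroup.mem_center_iff.mp hz'Z) ⟨s, hsT⟩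
    exact (congrArg Subtype.val h3).symm
  have hyM : y ∈ Subgroup.centralizer ({(z' : G)} : Set G) := by
    rw [Subgroup.mem_centralizer_iff]
    intro w hw
    rw [Set.mem_singleton_iff] at hw
    subst hw
    exact (hyQ₀ _ (hHQ₀ hz'H)).symm
  have hoh : (orderOf s).Coprime (orderOf y) := by
    obtain ⟨k, hk⟩ := hsq
    rw [hk]
    exact Nat.Coprime.pow_left k hyq.symm
  exact commute_of_mem_nilpotent hM hsM hyM hoh

/-- case `r = q`: the centralizer of an element of order `q` of `G / H` is nilpotent -/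
theorem isNilpotent_centralizer_q {G : Type*} [Group G] [Finite G] (hCN : Cfsg.IsCNGroup G)
    (H : Subgroup G) [H.Normal] {q : ℕ} [Fact q.Prime] (hH : IsPGroup q H) (hH1 : H ≠ ⊥)
    (yb : G ⧸ H) (hyb : orderOf yb = q) :
    Group.IsNilpotent ↥(Subgroup.centralizer ({yb} : Set (G ⧸ H))) := by
  have hq : q.Prime := Fact.out
  have hHQ₀ : H ≤ (Subgroup.zpowers yb).comap (QuotientGroup.mk' H) := by
    intro h hh
    have h1 : QuotientGroup.mk' H h = 1 := (QuotientGroup.eq_one_iff h).mpr hh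
    rw [Subgroup.mem_comap, h1]
    exact Subgroup.one_mem _
  obtain ⟨⟨z₀, hz₀H⟩, hz₀1⟩ := (Subgroup.ne_bot_iff_exists_ne_one).mp hH1
  have hz₀ne : z₀ ≠ 1 := by
    intro h1
    apply hz₀1
    apply Subtype.ext
    exact h1
  have hM := hCN z₀ hz₀ne
  have hC : Group.IsNilpotent
      ↥((Subgroup.centralizer ({yb} : Set (G ⧸ H))).comap (QuotientGroup.mk' H)) := by
    apply isNilpotent_of_commute_coprime
    rintro ⟨a, ha⟩ ⟨b, hb⟩ hpa hpb hab
    rw [Subgroup.orderOf_mk] at hpa hpb
    rw [Subgroup.orderOf_mk, Subgroup.orderOf_mk] at hab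
    rw [Subgroup.mem_comap] at ha hb
    apply Subtype.ext
    show a * b = b * a
    obtain ⟨p₁, k₁, hp₁, hk₁, hak⟩ := (isPrimePow_nat_iff _).mp hpa
    obtain ⟨p₂, k₂, hp₂, hk₂, hbk⟩ := (isPrimePow_nat_iff _).mp hpb
    have hp12 : p₁ ≠ p₂ := by
      rintro rfl
      rw [← hak, ← hbk] at hab
      have h1 : p₁ ∣ Nat.gcd (p₁ ^ k₁) (p₁ ^ k₂) :=
        Nat.dvd_gcd (dvd_pow_self p₁ hk₁.ne') (dvd_pow_self p₁ hk₂.ne')
      rw [Nat.Coprime] at hab
      rw [hab] at h1
      exact hp₁.one_lt.ne' (Nat.dvd_one.mp h1)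
    by_cases h1q : p₁ = q
    · subst h1q
      have hbq : (orderOf b).Coprime p₁ := by
        rw [← hbk]
        exact Nat.Coprime.pow_left k₂ ((Nat.coprime_primes hp₂ hp₁).mpr (Ne.symm hp12))
      exact commute_q_q' hCN H hH hH1 yb hyb a b ha hb ⟨k₁, hak.symm⟩ hbq
    · by_cases h2q : p₂ = q
      · subst h2q
        have haq : (orderOf a).Coprime p₂ := by
          rw [← hak]
          exact Nat.Coprime.pow_left k₁ ((Nat.coprime_primes hp₁ hp₂).mpr hp12)
        exact (commute_q_q' hCN H hH hH1 yb hyb b a hb ha ⟨k₂, hbk.symm⟩ haq).symm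
      · have haq : (orderOf a).Coprime q := by
          rw [← hak]
          exact Nat.Coprime.pow_left k₁ ((Nat.coprime_primes hp₁ hq).mpr h1q)
        have hbq : (orderOf b).Coprime q := by
          rw [← hbk]
          exact Nat.Coprime.pow_left k₂ ((Nat.coprime_primes hp₂ hq).mpr h2q)
        have haQ₀ := centralizes_of_coprime hCN H hH yb hyb a ha haq
        have hbQ₀ := centralizes_of_coprime hCN H hH yb hyb b hb hbq
        have haM : a ∈ Subgroup.centralizer ({z₀} : Set G) := by
          rw [Subgroup.mem_centralizer_iff]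
          intro w hw
          rw [Set.mem_singleton_iff] at hw
          subst hw
          exact (haQ₀ _ (hHQ₀ hz₀H)).symm
        have hbM : b ∈ Subgroup.centralizer ({z₀} : Set G) := by
          rw [Subgroup.mem_centralizer_iff]
          intro w hw
          rw [Set.mem_singleton_iff] at hw
          subst hw
          exact (hbQ₀ _ (hHQ₀ hz₀H)).symm
        exact commute_of_mem_nilpotent hM haM hbM hab
  have h3 := isNilpotent_map (QuotientGroup.mk' H) _ hC
  rwa [Subgroup.map_comap_eq_self_of_surjective (QuotientGroup.mk'_surjective H)] at h3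

/-- quotient of a CN-group by a nontrivial normal `q`-subgroup is CN -/
theorem isCNGroup_quotient_pGroup {G : Type*} [Group G] [Finite G] (hCN : Cfsg.IsCNGroup G)
    (H : Subgroup G) [H.Normal] {q : ℕ} [Fact q.Prime] (hH : IsPGroup q H) (hH1 : H ≠ ⊥) :
    Cfsg.IsCNGroup (G ⧸ H) := by
  intro xb hxb
  have ho1 : orderOf xb ≠ 1 := by
    intro h1
    exact hxb (orderOf_eq_one_iff.mp h1)
  obtain ⟨r, hr, hrd⟩ := Nat.exists_prime_and_dvd ho1
  have : Fact r.Prime := ⟨hr⟩
  have hyb : orderOf (xb ^ (orderOf xb / r)) = r :=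
    orderOf_pow_orderOf_div (orderOf_pos xb).ne' hrd
  have hle : Subgroup.centralizer ({xb} : Set (G ⧸ H)) ≤
      Subgroup.centralizer ({xb ^ (orderOf xb / r)} : Set (G ⧸ H)) := by
    intro c hc
    rw [Subgroup.mem_centralizer_iff] at hc ⊢
    intro w hw
    rw [Set.mem_singleton_iff] at hw
    subst hw
    have h1 : Commute xb c := hc xb (Set.mem_singleton xb)
    exact (h1.pow_left _).eq
  apply isNilpotent_of_le hle
  by_cases hrq : r = q
  · subst hrq
    exact isNilpotent_centralizer_q hCN H hH hH1 _ hyb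
  · obtain ⟨z, hz1, hle2⟩ := centralizer_le_map H hH hrq _ hyb
    exact isNilpotent_of_le hle2 (isNilpotent_map _ _ (hCN z hz1))

theorem aux (n : ℕ) : ∀ (G : Type u) [Group G] [Finite G] (_ : Cfsg.IsCNGroup G)
    (H : Subgroup G) [H.Normal] (_ : Group.IsSolvable H), Nat.card H = n →
    Cfsg.IsCNGroup (G ⧸ H) := by
  induction n using Nat.strong_induction_on with
  | _ n ih =>
    intro G _ _ hCN H _ hH hn
    by_cases hH1 : H = ⊥
    · subst hH1
      exact isCNGroup_of_mulEquiv QuotientGroup.quotientBot.symm hCN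
    · obtain ⟨p, hp, P, hPn, hPH, hP1, -, hPexp⟩ :=
        exists_normal_elementary_abelian_le (Nat.card H) H rfl hH1 hH
      have : Fact p.Prime := ⟨hp⟩
      have := hPn
      have hPp : IsPGroup p ↥P := by
        rintro ⟨x, hx⟩
        refine ⟨1, ?_⟩
        apply Subtype.ext
        rw [pow_one]
        exact hPexp x hx
      have hCN₁ := isCNGroup_quotient_pGroup hCN P hPp hP1
      have hsolv : Group.IsSolvable ↥(H.map (QuotientGroup.mk' P)) :=
        Group.isSolvable_of_surjective (f := (QuotientGroup.mk' P).subgroupMap H)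
          ((QuotientGroup.mk' P).subgroupMap_surjective H)
      have hcard := card_map_mk_of_le P hPH
      have hPcard : 1 < Nat.card ↥P := by
        rw [Finite.one_lt_card_iff_nontrivial]
        exact (Subgroup.nontrivial_iff_ne_bot P).mpr hP1
      have hlt : Nat.card ↥(H.map (QuotientGroup.mk' P)) < n := by
        rw [← hn, ← hcard]
        have hpos : 0 < Nat.card ↥(H.map (QuotientGroup.mk' P)) := Nat.card_pos
        nlinarith
      have h3 := ih _ hlt (G ⧸ P) hCN₁ (H.map (QuotientGroup.mk' P)) hsolv rfl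
      exact isCNGroup_of_mulEquiv (QuotientGroup.quotientQuotientEquivQuotient P H hPH) h3

/-- Let G be a finite group in which the centralizer of every non-identity element is nilpotent, and H a solvable normal subgroup of G. Then in G/H the centralizer of every non-identity element is nilpotent. -/
theorem result {G : Type*} [Group G] [Finite G] (hCN : Cfsg.IsCNGroup G) (H : Subgroup G) [H.Normal] (hH : Group.IsSolvable H) :
    Cfsg.IsCNGroup (G ⧸ H) :=
  aux _ G hCN H hH rfl

end Cfsg.Agent.S1473
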