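import Cfsg.Statements.S1474
import Cfsg.Agent.Lib.Helper10.CNFrob
import Cfsg.Agent.Lib.Helper10.PGroup
import Cfsg.Agent.Lib.Helper1.Cores
import Cfsg.Agent.Lib.Helper22.Frobenius

set_option autoImplicit false
open Cfsg

namespace Cfsg.Agent.S1474

open Cfsg.Agent.Lib.Helper10 Cfsg.Agent.Lib.Helper1
open scoped commutatorElement

/-- `M_F` is a normal nilpotent Hall subgroup -/
theorem fittingHall_props {G : Type*} [Group G] [Finite G] :
    Group.IsNilpotent ↥(Cfsg.fittingHall G) ∧
      (Nat.card ↥(Cfsg.fittingHall G)).Coprime (Cfsg.fittingHall G).index := by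
  have key := sSup_induction_of_finite (G := G)
    (fun N => N.Normal ∧ Group.IsNilpotent ↥N ∧ (Nat.card ↥N).Coprime N.index) ?_ ?_
    {N : Subgroup G | N.Normal ∧ Group.IsNilpotent N ∧ (Nat.card N).Coprime N.index}
    (fun N hN => hN)
  · exact ⟨key.2.1, key.2.2⟩
  · refine ⟨inferInstance, inferInstance, ?_⟩
    rw [Subgroup.card_bot]
    exact Nat.coprime_one_left _
  · rintro N₁ N₂ ⟨hn₁, hnil₁, hc₁⟩ ⟨hn₂, hnil₂, hc₂⟩
    have := hn₁
    have := hn₂
    refine ⟨inferInstance, ?_, ?_⟩
    · have h1 : N₁ ⊔ N₂ ≤ Cfsg.fittingSubgroup G :=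
        sup_le (le_fittingSubgroup hn₁ hnil₁) (le_fittingSubgroup hn₂ hnil₂)
      exact isNilpotent_of_le h1 fittingSubgroup_isNilpotent
    · apply Nat.Coprime.symm
      apply Nat.coprime_of_dvd
      intro k hk hk1 hk2
      have h1 : k ∣ Nat.card ↥N₁ * Nat.card ↥N₂ := hk2.trans (card_sup_dvd_of_normal N₁ N₂)
      rcases (Nat.Prime.dvd_mul hk).mp h1 with h2 | h2
      · have h3 : k ∣ N₁.index := hk1.trans (Subgroup.index_dvd_of_le le_sup_left)
        exact (Nat.Prime.coprime_iff_not_dvd hk).mp (Nat.Coprime.coprime_dvd_left h2 hc₁) h3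
      · have h3 : k ∣ N₂.index := hk1.trans (Subgroup.index_dvd_of_le le_sup_right)
        exact (Nat.Prime.coprime_iff_not_dvd hk).mp (Nat.Coprime.coprime_dvd_left h2 hc₂) h3

theorem le_fittingHall {G : Type*} [Group G] {N : Subgroup G} (hN : N.Normal)
    (hnil : Group.IsNilpotent ↥N) (hcop : (Nat.card ↥N).Coprime N.index) :
    N ≤ Cfsg.fittingHall G :=
  le_sSup ⟨hN, hnil, hcop⟩

/-- in a finite nilpotent group `O_r` contains all `r`-elements -/
theorem mem_pCore_of_isNilpotent {N : Type*} [Group N] [Finite N] (hN : Group.IsNilpotent N)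
    {r : ℕ} [Fact r.Prime] (x : N) (hx : ∃ k : ℕ, orderOf x = r ^ k) : x ∈ Cfsg.pCore r N := by
  have hxP : IsPGroup r ↥(Subgroup.zpowers x) := by
    obtain ⟨k, hk⟩ := hx
    apply IsPGroup.of_card (n := k)
    rw [Nat.card_zpowers, hk]
  obtain ⟨Y, hY⟩ := hxP.exists_le_sylow
  have hYn : (Y : Subgroup N).Normal :=
    ((Group.isNilpotent_of_finite_tfae (G := N)).out 0 3 rfl rfl |>.mp hN) r inferInstance Y
  exact (le_pCore hYn Y.isPGroup') (hY (Subgroup.mem_zpowers x))

/-- an `r`-element of a nilpotent normal subgroup lies in `O_r(G)` -/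
theorem mem_pCore_of_mem_normal_nilpotent {G : Type*} [Group G] [Finite G] (C : Subgroup G)
    [C.Normal] (hC : Group.IsNilpotent ↥C) {r : ℕ} [Fact r.Prime] (x : G) (hxC : x ∈ C)
    (hx : ∃ k : ℕ, orderOf x = r ^ k) : x ∈ Cfsg.pCore r G := by
  have h1 : (⟨x, hxC⟩ : ↥C) ∈ Cfsg.pCore r ↥C := by
    apply mem_pCore_of_isNilpotent hC
    obtain ⟨k, hk⟩ := hx
    exact ⟨k, by rw [Subgroup.orderOf_mk, hk]⟩
  have hchar : (Cfsg.pCore r ↥C).Characteristic := pCore_characteristic r
  have hn : ((Cfsg.pCore r ↥C).map C.subtype).Normal := ConjAct.normal_of_characteristic_of_normal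
  have hp : IsPGroup r ↥((Cfsg.pCore r ↥C).map C.subtype) :=
    (pCore_isPGroup (G := ↥C) r).map C.subtype
  exact (le_pCore hn hp) ⟨⟨x, hxC⟩, h1, rfl⟩

/-- membership in the centralizer of a singleton -/
theorem mem_centralizer_singleton {G : Type*} [Group G] {a b : G} (h : a * b = b * a) :
    a ∈ Subgroup.centralizer ({b} : Set G) := by
  rw [Subgroup.mem_centralizer_iff]
  intro w hw
  rw [Set.mem_singleton_iff] at hw
  subst hw
  exact h.symm

/-- fixed-point-freeness of a complement of `M_F` in a CN-group -/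
theorem fpf {G : Type*} [Group G] [Finite G] (hCN : Cfsg.IsCNGroup G) (E : Subgroup G)
    (hc : Subgroup.IsComplement' (Cfsg.fittingHall G) E) (e : G) (he : e ∈ E) (he1 : e ≠ 1) :
    ∀ h ∈ Cfsg.fittingHall G, e * h = h * e → h = 1 := by
  obtain ⟨hHnil, hHcop⟩ := fittingHall_props (G := G)
  set H := Cfsg.fittingHall G with hHdef
  have hEcard : Nat.card ↥E = H.index := by
    have h2 := hc.card_mul_card
    have h3 := Subgroup.card_mul_index H
    have hpos : 0 < Nat.card ↥H := Nat.card_pos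
    rw [← h3] at h2
    exact Nat.eq_of_mul_eq_mul_left hpos h2
  have hcop : (Nat.card ↥H).Coprime (Nat.card ↥E) := by rw [hEcard]; exact hHcop
  have hoe : orderOf e ∣ Nat.card ↥E := Subgroup.orderOf_dvd_natCard E he
  -- orders of elements of `H` are coprime to the order of `e`
  have hord : ∀ x ∈ H, (orderOf x).Coprime (orderOf e) := by
    intro x hx
    exact Nat.Coprime.coprime_dvd_left (Subgroup.orderOf_dvd_natCard H hx)
      (Nat.Coprime.coprime_dvd_right hoe hcop)
  intro h hh heh
  by_contra hh1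
  -- Step 1: `e` centralizes `Z(H)`
  have hCh := hCN h hh1
  have heCh : e ∈ Subgroup.centralizer ({h} : Set G) := mem_centralizer_singleton heh
  have hstep1 : ∀ z ∈ H, (∀ x ∈ H, x * z = z * x) → z * e = e * z := by
    intro z hz hzc
    exact commute_of_mem_of_isNilpotent hCh (mem_centralizer_singleton (hzc h hh).symm) heCh
      (hord z hz)
  -- Step 2: a nontrivial central element of `H`
  have hHnt : Nontrivial ↥H := ⟨⟨⟨h, hh⟩, 1, fun h0 => hh1 (congrArg Subtype.val h0)⟩⟩
  have hZ := Group.IsNilpotent.center_ne_bot (G := ↥H)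
  obtain ⟨⟨⟨z, hzH⟩, hz⟩, hz1⟩ := (Subgroup.ne_bot_iff_exists_ne_one).mp hZ
  have hz1' : z ≠ 1 := by
    intro h0
    apply hz1
    apply Subtype.ext
    apply Subtype.ext
    exact h0
  have hzc : ∀ x ∈ H, x * z = z * x := by
    intro x hx
    have := (Subgroup.mem_center_iff.mp hz) ⟨x, hx⟩
    exact congrArg Subtype.val this
  -- Step 3: `e` centralizes `H`
  have hCz := hCN z hz1'
  have heCz : e ∈ Subgroup.centralizer ({z} : Set G) :=
    mem_centralizer_singleton (hstep1 z hzH hzc).symm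
  have heH : ∀ x ∈ H, x * e = e * x := by
    intro x hx
    exact commute_of_mem_of_isNilpotent hCz (mem_centralizer_singleton (hzc x hx)) heCz (hord x hx)
  -- `C = C_G(H)` is nilpotent and normal
  have hCle : Subgroup.centralizer (H : Set G) ≤ Subgroup.centralizer ({z} : Set G) :=
    Subgroup.centralizer_le (Set.singleton_subset_iff.mpr hzH)
  have hCnil : Group.IsNilpotent ↥(Subgroup.centralizer (H : Set G)) := isNilpotent_of_le hCle hCz
  have heC : e ∈ Subgroup.centralizer (H : Set G) := by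
    rw [Subgroup.mem_centralizer_iff]
    intro x hx
    exact heH x hx
  -- Step 4: an element `e'` of prime order `r` in `⟨e⟩`
  have hoe1 : orderOf e ≠ 1 := fun h0 => he1 (orderOf_eq_one_iff.mp h0)
  obtain ⟨r, hr, hrd⟩ := Nat.exists_prime_and_dvd hoe1
  have : Fact r.Prime := ⟨hr⟩
  have he'o : orderOf (e ^ (orderOf e / r)) = r :=
    orderOf_pow_orderOf_div (orderOf_pos e).ne' hrd
  set e' := e ^ (orderOf e / r) with he'def
  have he'C : e' ∈ Subgroup.centralizer (H : Set G) := Subgroup.pow_mem _ heC _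
  have he'1 : e' ≠ 1 := by
    intro h0
    rw [h0, orderOf_one] at he'o
    exact hr.one_lt.ne he'o
  have he'R : e' ∈ Cfsg.pCore r G :=
    mem_pCore_of_mem_normal_nilpotent _ hCnil e' he'C ⟨1, by rw [he'o, pow_one]⟩
  have hrH : (Nat.card ↥H).Coprime r :=
    Nat.Coprime.coprime_dvd_right (hrd.trans hoe) hcop
  -- Step 5: `R = O_r(G)` meets `H` trivially and centralizes it
  have hRn : (Cfsg.pCore r G).Normal := inferInstance
  have hRp : IsPGroup r ↥(Cfsg.pCore r G) := pCore_isPGroup r
  have hRH : Cfsg.pCore r G ⊓ H = ⊥ := by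
    obtain ⟨k, hk⟩ := IsPGroup.iff_card.mp hRp
    apply disjoint_iff.mp
    apply Subgroup.disjoint_of_coprime_natCard
    rw [hk]
    exact Nat.Coprime.pow_left k hrH.symm
  have hRC : Cfsg.pCore r G ≤ Subgroup.centralizer (H : Set G) := by
    rw [← Subgroup.commutator_eq_bot_iff_le_centralizer, eq_bot_iff, ← hRH]
    exact Subgroup.commutator_le_inf _ _
  -- Step 6: every Sylow `r`-subgroup lies in `R`
  have hsyl : ∀ S : Sylow r G, (S : Subgroup G) ≤ Cfsg.pCore r G := by
    intro S
    have hRS : Cfsg.pCore r G ≤ S := pCore_le_sylow S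
    have hNn : ((Cfsg.pCore r G).subgroupOf (S : Subgroup G)).Normal := inferInstance
    have hN1 : (Cfsg.pCore r G).subgroupOf (S : Subgroup G) ≠ ⊥ := by
      intro h0
      rw [Subgroup.subgroupOf_eq_bot] at h0
      have := (disjoint_of_le_iff_left_eq_bot hRS).mp h0
      rw [this, Subgroup.mem_bot] at he'R
      exact he'1 he'R
    have h2 := normal_inf_center_ne_bot (G := ↥(S : Subgroup G)) S.isPGroup'
      ((Cfsg.pCore r G).subgroupOf (S : Subgroup G)) hN1
    obtain ⟨⟨y, hy⟩, hy1⟩ := (Subgroup.ne_bot_iff_exists_ne_one).mp h2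
    obtain ⟨hyR, hyZ⟩ := Subgroup.mem_inf.mp hy
    rw [Subgroup.mem_subgroupOf] at hyR
    have hy1' : (y : G) ≠ 1 := by
      intro h0
      apply hy1
      apply Subtype.ext
      apply Subtype.ext
      exact h0
    have hCy := hCN (y : G) hy1'
    -- `S ≤ C_G(y)` and `H ≤ C_G(y)`
    have hSCy : ∀ x ∈ (S : Subgroup G), x ∈ Subgroup.centralizer ({(y : G)} : Set G) := by
      intro x hx
      apply mem_centralizer_singleton
      have := (Subgroup.mem_center_iff.mp hyZ) ⟨x, hx⟩
      exact congrArg Subtype.val this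
    have hHCy : ∀ x ∈ H, x ∈ Subgroup.centralizer ({(y : G)} : Set G) := by
      intro x hx
      apply mem_centralizer_singleton
      exact ((Subgroup.mem_centralizer_iff.mp (hRC hyR)) x hx)
    intro x hx
    have hxo : ∃ k : ℕ, orderOf x = r ^ k := by
      obtain ⟨k, hk⟩ := (IsPGroup.iff_orderOf.1 S.isPGroup') ⟨x, hx⟩
      rw [Subgroup.orderOf_mk] at hk
      exact ⟨k, hk⟩
    have hxC : x ∈ Subgroup.centralizer (H : Set G) := by
      rw [Subgroup.mem_centralizer_iff]
      intro w hw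
      obtain ⟨k, hk⟩ := hxo
      have hcw : (orderOf w).Coprime (orderOf x) := by
        rw [hk]
        exact Nat.Coprime.pow_right k
          (Nat.Coprime.coprime_dvd_left (Subgroup.orderOf_dvd_natCard H hw) hrH)
      exact commute_of_mem_of_isNilpotent hCy (hHCy w hw) (hSCy x hx) hcw
    exact mem_pCore_of_mem_normal_nilpotent _ hCnil x hxC hxo
  -- Step 7: `R` is a normal nilpotent Hall subgroup
  obtain ⟨S⟩ : Nonempty (Sylow r G) := inferInstance
  have hRS : Cfsg.pCore r G = (S : Subgroup G) := le_antisymm (pCore_le_sylow S) (hsyl S)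
  have hRcop : (Nat.card ↥(Cfsg.pCore r G)).Coprime (Cfsg.pCore r G).index := by
    obtain ⟨k, hk⟩ := IsPGroup.iff_card.mp hRp
    rw [hk]
    apply Nat.Coprime.pow_left
    rw [Nat.Prime.coprime_iff_not_dvd hr, hRS]
    exact S.not_dvd_index
  have hRle : Cfsg.pCore r G ≤ H := le_fittingHall hRn hRp.isNilpotent hRcop
  have : e' ∈ Cfsg.pCore r G ⊓ H := Subgroup.mem_inf.mpr ⟨he'R, hRle he'R⟩
  rw [hRH, Subgroup.mem_bot] at this
  exact he'1 this

/-- a subgroup of a CN-group is a CN-group -/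
theorem isCNGroup_subgroup {G : Type*} [Group G] (hCN : Cfsg.IsCNGroup G) (E : Subgroup G) :
    Cfsg.IsCNGroup ↥E := by
  intro e he1
  have he1' : (e : G) ≠ 1 := fun h0 => he1 (Subtype.ext h0)
  have hnil := hCN (e : G) he1'
  let f : ↥(Subgroup.centralizer ({e} : Set ↥E)) →* ↥(Subgroup.centralizer ({(e : G)} : Set G)) :=
    { toFun := fun x => ⟨((x : ↥E) : G), by
        apply mem_centralizer_singleton
        have := (Subgroup.mem_centralizer_iff.mp x.2) e (Set.mem_singleton e)
        exact (congrArg Subtype.val this).symm⟩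
      map_one' := rfl
      map_mul' := fun _ _ => rfl }
  apply isNilpotent_of_injective_hom f _ hnil
  intro x y hxy
  apply Subtype.ext
  apply Subtype.ext
  exact congrArg (fun w : ↥(Subgroup.centralizer ({(e : G)} : Set G)) => (w : G)) hxy

open scoped IsMulCommutative in
/-- the complement `E` is nilpotent -/
theorem isNilpotent_complement {G : Type*} [Group G] [Finite G] (hCN : Cfsg.IsCNGroup G)
    (p : ℕ) [Fact p.Prime] (P : Sylow p G) (hP1 : (P : Subgroup G) ≠ ⊥)
    (hPn : (P : Subgroup G).Normal) (E : Subgroup G)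
    (hc : Subgroup.IsComplement' (Cfsg.fittingHall G) E) : Group.IsNilpotent ↥E := by
  obtain ⟨hHnil, hHcop⟩ := fittingHall_props (G := G)
  have hp : p.Prime := Fact.out
  have hEcard : Nat.card ↥E = (Cfsg.fittingHall G).index := by
    have h2 := hc.card_mul_card
    have h3 := Subgroup.card_mul_index (Cfsg.fittingHall G)
    have hpos : 0 < Nat.card ↥(Cfsg.fittingHall G) := Nat.card_pos
    rw [← h3] at h2
    exact Nat.eq_of_mul_eq_mul_left hpos h2
  have hPH : (P : Subgroup G) ≤ Cfsg.fittingHall G := by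
    apply le_fittingHall hPn P.isPGroup'.isNilpotent
    obtain ⟨k, hk⟩ := IsPGroup.iff_card.mp P.isPGroup'
    rw [hk]
    apply Nat.Coprime.pow_left
    rw [Nat.Prime.coprime_iff_not_dvd hp]
    exact P.not_dvd_index
  -- `V = Z(P)`
  have := hPn
  have hVn : ((P : Subgroup G) ⊓ Subgroup.centralizer ((P : Subgroup G) : Set G)).Normal :=
    inferInstance
  have hVc : IsMulCommutative ↥((P : Subgroup G) ⊓ Subgroup.centralizer ((P : Subgroup G) : Set G)) := by
    refine ⟨⟨?_⟩⟩
    rintro ⟨a, ha⟩ ⟨b, hb⟩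
    apply Subtype.ext
    exact ((Subgroup.mem_centralizer_iff.mp (Subgroup.mem_inf.mp hb).2) a (Subgroup.mem_inf.mp ha).1)
  have hVnt : Nontrivial ↥((P : Subgroup G) ⊓ Subgroup.centralizer ((P : Subgroup G) : Set G)) := by
    rw [Subgroup.nontrivial_iff_ne_bot]
    have hnt : Nontrivial ↥(P : Subgroup G) := (Subgroup.nontrivial_iff_ne_bot _).mpr hP1
    have hcn : Nontrivial ↥(Subgroup.center ↥(P : Subgroup G)) := P.isPGroup'.center_nontrivial
    obtain ⟨⟨z, hz⟩, hz1⟩ := exists_ne (1 : ↥(Subgroup.center ↥(P : Subgroup G)))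
    intro hbot
    apply hz1
    apply Subtype.ext
    apply Subtype.ext
    have hzc : (z : G) ∈ Subgroup.centralizer ((P : Subgroup G) : Set G) := by
      rw [Subgroup.mem_centralizer_iff]
      intro t ht
      have := (Subgroup.mem_center_iff.mp hz) ⟨t, ht⟩
      exact congrArg Subtype.val this
    have hmem : (z : G) ∈ (P : Subgroup G) ⊓ Subgroup.centralizer ((P : Subgroup G) : Set G) :=
      Subgroup.mem_inf.mpr ⟨z.2, hzc⟩
    rw [hbot, Subgroup.mem_bot] at hmem
    exact hmem
  set V : Subgroup G := (P : Subgroup G) ⊓ Subgroup.centralizer ((P : Subgroup G) : Set G) with hVdef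
  have hVH : V ≤ Cfsg.fittingHall G := inf_le_left.trans hPH
  apply isNilpotent_of_isCNGroup_of_fpf (V := ↥V) (isCNGroup_subgroup hCN E)
    ((MulAut.conjNormal (H := V)).comp E.subtype)
  · rw [hEcard]
    exact Nat.Coprime.symm
      (Nat.Coprime.coprime_dvd_left (Subgroup.card_dvd_of_le hVH) hHcop)
  · intro e he1 v hv
    have he1' : (e : G) ≠ 1 := fun h0 => he1 (Subtype.ext h0)
    have h1 : (e : G) * (v : G) * (e : G)⁻¹ = v := by
      have := congrArg Subtype.val hv
      rw [MonoidHom.comp_apply, MulAut.conjNormal_apply] at this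
      exact this
    have h2 : (e : G) * (v : G) = (v : G) * (e : G) := by
      calc (e : G) * (v : G) = ((e : G) * (v : G) * (e : G)⁻¹) * e := by group
        _ = (v : G) * (e : G) := by rw [h1]
    have h3 := fpf hCN E hc (e : G) e.2 he1' (v : G) (hVH v.2) h2
    exact Subtype.ext h3

/-- Let G be a finite group in which every non-identity element has nilpotent centralizer, not itself nilpotent, and having a nontrivial normal Sylow p-subgroup for some prime p. Let H be the largest normal nilpotent Hall subgroup of G. Then H is a nontrivial proper normal subgroup with a complement E that is a Frobenius complement in G (no non-identity element of E centralizes a non-identity element of H), and G/H is nilpotent. -/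
theorem result {G : Type*} [Group G] [Finite G] (hCN : Cfsg.IsCNGroup G) (hnn : ¬ Group.IsNilpotent G) (p : ℕ) [Fact p.Prime] (P : Sylow p G)
    (hP1 : (P : Subgroup G) ≠ ⊥) (hPn : (P : Subgroup G).Normal) :
    Cfsg.fittingHall G ≠ ⊥ ∧ Cfsg.fittingHall G ≠ ⊤ ∧
      (∃ E : Subgroup G, Subgroup.IsComplement' (Cfsg.fittingHall G) E ∧ Cfsg.IsFrobeniusComplement E ∧
        ∀ e ∈ E, e ≠ 1 → Cfsg.fittingHall G ⊓ Subgroup.centralizer ({e} : Set G) = ⊥) ∧
      Group.IsNilpotent (G ⧸ Cfsg.fittingHall G) := by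
  obtain ⟨hHnil, hHcop⟩ := fittingHall_props (G := G)
  have hp : p.Prime := Fact.out
  have hPH : (P : Subgroup G) ≤ Cfsg.fittingHall G := by
    apply le_fittingHall hPn P.isPGroup'.isNilpotent
    obtain ⟨k, hk⟩ := IsPGroup.iff_card.mp P.isPGroup'
    rw [hk]
    apply Nat.Coprime.pow_left
    rw [Nat.Prime.coprime_iff_not_dvd hp]
    exact P.not_dvd_index
  have hH1 : Cfsg.fittingHall G ≠ ⊥ := by
    intro h0
    rw [h0, le_bot_iff] at hPH
    exact hP1 hPH
  have hHtop : Cfsg.fittingHall G ≠ ⊤ := by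
    intro h0
    apply hnn
    rw [h0] at hHnil
    exact isNilpotent_of_injective_hom (Subgroup.topEquiv (G := G)).symm.toMonoidHom
      (Subgroup.topEquiv (G := G)).symm.injective hHnil
  obtain ⟨E, hc⟩ := Subgroup.exists_right_complement'_of_coprime hHcop
  have hfpf := fpf hCN E hc
  have hdisj : Cfsg.fittingHall G ⊓ E = ⊥ := hc.disjoint.eq_bot
  have hsup : Cfsg.fittingHall G ⊔ E = ⊤ := hc.sup_eq_top
  have hE1 : E ≠ ⊥ := by
    intro h0
    rw [h0, sup_bot_eq] at hsup
    exact hHtop hsup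
  have hfrob := (Cfsg.Agent.Lib.Helper22.frobenius_of_fpf (Cfsg.fittingHall G) E hdisj hsup hH1 hE1
    (fun e he he1 n hn hen => hfpf e he he1 n hn hen)).1
  have hEnil := isNilpotent_complement hCN p P hP1 hPn E hc
  refine ⟨hH1, hHtop, ⟨E, hc, hfrob, ?_⟩, ?_⟩
  · intro e he he1
    rw [eq_bot_iff]
    intro x hx
    obtain ⟨hxH, hxC⟩ := Subgroup.mem_inf.mp hx
    rw [Subgroup.mem_bot]
    apply hfpf e he he1 x hxH
    exact ((Subgroup.mem_centralizer_iff.mp hxC) e (Set.mem_singleton e))
  · apply Group.nilpotent_of_surjective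
      ((QuotientGroup.mk' (Cfsg.fittingHall G)).comp E.subtype)
    intro gb
    obtain ⟨g, rfl⟩ := QuotientGroup.mk'_surjective _ gb
    have hg : g ∈ ((Cfsg.fittingHall G ⊔ E : Subgroup G) : Set G) := by rw [hsup]; trivial
    rw [Subgroup.normal_mul] at hg
    obtain ⟨h, hh, e, he, rfl⟩ := hg
    refine ⟨⟨e, he⟩, ?_⟩
    have h1 : QuotientGroup.mk' (Cfsg.fittingHall G) h = 1 := (QuotientGroup.eq_one_iff h).mpr hh
    rw [MonoidHom.comp_apply, map_mul, h1, one_mul]
    rfl

end Cfsg.Agent.S1474
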