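import Cfsg.Statements.S0432
import Cfsg.Agent.Lib.Helper4.Leech

set_option autoImplicit false
open Cfsg

namespace Cfsg.Agent.S0432

open scoped Pointwise
open Cfsg.Agent.Lib.Helper4

theorem support₂_comp (w : GolayPt → ZMod 2) (σ : Equiv.Perm GolayPt) :
    support₂ (fun i => w (σ i)) = σ⁻¹ • support₂ w := by
  ext i
  simp only [support₂, Finset.mem_filter, Finset.mem_univ, true_and]
  rw [Finset.mem_smul_finset]
  constructor
  · intro h
    refine ⟨σ i, ?_, ?_⟩
    · simp only [Finset.mem_filter, Finset.mem_univ, true_and]; exact h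
    · simp [Equiv.Perm.smul_def]
  · rintro ⟨j, hj, rfl⟩
    simp only [Finset.mem_filter, Finset.mem_univ, true_and] at hj
    simpa [Equiv.Perm.smul_def] using hj

theorem comp_mem_golayCode (σ : Equiv.Perm GolayPt) (hσ : σ ∈ M24) (w : GolayPt → ZMod 2)
    (hw : w ∈ golayCode) : (fun i => w (σ i)) ∈ golayCode := by
  have hσ' : σ⁻¹ ∈ M24 := Subgroup.inv_mem _ hσ
  have h1 : σ⁻¹ • supports (golayCode : Set (GolayPt → ZMod 2)) = supports (golayCode : Set (GolayPt → ZMod 2)) :=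
    MulAction.mem_stabilizer_iff.mp hσ'
  have h2 : support₂ w ∈ supports (golayCode : Set (GolayPt → ZMod 2)) := ⟨w, hw, rfl⟩
  have h3 : σ⁻¹ • support₂ w ∈ σ⁻¹ • supports (golayCode : Set (GolayPt → ZMod 2)) :=
    Set.smul_mem_smul_set h2
  rw [h1, ← support₂_comp] at h3
  obtain ⟨w', hw', hs⟩ := h3
  have := eq_of_support₂_eq hs
  rw [← this]; exact hw'

/-- Coordinate permutations from the code's group preserve the lattice. -/
theorem result (σ : Equiv.Perm Cfsg.GolayPt) (hσ : σ ∈ Cfsg.M24) (x : Cfsg.GolayPt → ℤ) (hx : x ∈ Cfsg.leechLattice) : (fun i => x (σ i)) ∈ Cfsg.leechLattice := by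
  rw [mem_leechLattice_iff, mem_leechSet_iff] at hx ⊢
  obtain ⟨m, h1, h2, h3⟩ := hx
  refine ⟨m, fun i => h1 (σ i), ?_, fun k => ?_⟩
  · rw [Equiv.sum_comp σ x]; exact h2
  · exact comp_mem_golayCode σ hσ (wd x k) (h3 k)

end Cfsg.Agent.S0432
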