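import Cfsg.Statements.S0433
import Cfsg.Agent.Lib.Helper4.Golay

set_option autoImplicit false
open Cfsg

namespace Cfsg.Agent.S0433

open Cfsg.Agent.Lib.Helper4

/-- the indicator word of a set -/
def ind (c : Finset GolayPt) : GolayPt → ZMod 2 := fun i => if i ∈ c then 1 else 0

theorem support₂_ind (c : Finset GolayPt) : support₂ (ind c) = c := by
  unfold ind
  rw [support₂_ite]
  ext i; simp

theorem ind_mem {c : Finset GolayPt} (hc : c ∈ supports (golayCode : Set (GolayPt → ZMod 2))) :
    ind c ∈ golayCode := by
  have h : Finset.univ.filter (fun i => i ∈ c) = c := by ext i; simp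
  rw [← h] at hc
  exact (filter_mem_supports_iff (golayCode : Set (GolayPt → ZMod 2)) (fun i => i ∈ c)).mp hc

theorem support₂_wd (x : GolayPt → ℤ) (k : ℤ) :
    support₂ (wd x k) = Finset.univ.filter (fun i => x i ≡ k [ZMOD 4]) := by
  unfold wd
  rw [support₂_ite]

/-- Sign changes on the support of a codeword preserve the lattice. -/
theorem result (c : Finset Cfsg.GolayPt) (hc : c ∈ Cfsg.supports (Cfsg.golayCode : Set (Cfsg.GolayPt → ZMod 2))) (x : Cfsg.GolayPt → ℤ) (hx : x ∈ Cfsg.leechLattice) : (fun i => if i ∈ c then -x i else x i) ∈ Cfsg.leechLattice := by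
  rw [mem_leechLattice_iff, mem_leechSet_iff] at hx ⊢
  obtain ⟨m, h1, h2, h3⟩ := hx
  have hcode := ind_mem hc
  refine ⟨m, fun i => ?_, ?_, fun k => ?_⟩
  · have := h1 i
    split_ifs
    · unfold Int.ModEq at *; omega
    · exact this
  · -- the sum
    have hsum : ∑ i, (if i ∈ c then -x i else x i) = ∑ i, x i - 2 * ∑ i ∈ c, x i := by
      have : ∀ i, (if i ∈ c then -x i else x i) = x i - 2 * (if i ∈ c then x i else 0) := by
        intro i; split_ifs <;> ring
      simp only [this]
      rw [Finset.sum_sub_distrib, ← Finset.mul_sum, Finset.sum_ite_mem, Finset.univ_inter]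
    rw [hsum]
    -- 4 ∣ ∑ i ∈ c, x i
    have h4 : (4 : ℤ) ∣ ∑ i ∈ c, x i := by
      have hterm : ∀ i ∈ c, (4 : ℤ) ∣ x i - (m + 2 * (if x i ≡ m + 2 [ZMOD 4] then 1 else 0)) := by
        intro i _
        have := h1 i
        split_ifs with h <;> (unfold Int.ModEq at *; omega)
      have hd := Finset.dvd_sum hterm
      rw [Finset.sum_sub_distrib] at hd
      have hrest : (4 : ℤ) ∣ ∑ i ∈ c, (m + 2 * (if x i ≡ m + 2 [ZMOD 4] then 1 else 0)) := by
        rw [Finset.sum_add_distrib, Finset.sum_const, ← Finset.mul_sum, Finset.sum_boole]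
        have hc4 : 4 ∣ c.card := by
          have := golay_doubly_even hcode
          rwa [support₂_ind] at this
        have heven : Even (c ∩ Finset.univ.filter (fun i => x i ≡ m + 2 [ZMOD 4])).card := by
          have := golay_self_orth hcode (h3 (m + 2))
          rw [dot₂_eq_card, ZMod.natCast_eq_zero_iff_even, support₂_ind, support₂_wd] at this
          exact this
        have hfe : (Finset.filter (fun i => x i ≡ m + 2 [ZMOD 4]) c) =
            c ∩ Finset.univ.filter (fun i => x i ≡ m + 2 [ZMOD 4]) := by
          ext i; simp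
        rw [hfe]
        obtain ⟨a, ha⟩ := hc4
        obtain ⟨b, hb⟩ := heven
        rw [ha, hb]
        simp only [nsmul_eq_mul]
        push_cast
        exact ⟨a * m + b, by ring⟩
      have := dvd_add hd hrest
      simpa using this
    obtain ⟨t, ht⟩ := h4
    rw [ht]
    unfold Int.ModEq at *
    omega
  · by_cases hodd : m ≡ 1 [ZMOD 2] ∧ k ≡ 1 [ZMOD 2]
    · have : wd (fun i => if i ∈ c then -x i else x i) k = wd x k + ind c := by
        funext i
        have a1 := h1 i
        obtain ⟨hm, hk⟩ := hodd
        simp only [wd, ind, Pi.add_apply]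
        split_ifs <;> first | rfl | (exfalso; unfold Int.ModEq at *; omega)
      rw [this]
      exact golayCode.add_mem (h3 k) hcode
    · have : wd (fun i => if i ∈ c then -x i else x i) k = wd x k := by
        funext i
        have a1 := h1 i
        simp only [wd]
        rw [not_and_or] at hodd
        split_ifs <;> first | rfl | (exfalso; unfold Int.ModEq at *; omega)
      rw [this]
      exact h3 k

end Cfsg.Agent.S0433
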