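import Cfsg.Statements.S0398
import Mathlib
import Cfsg.Agent.S0432
import Cfsg.Agent.S0433
import Cfsg.Agent.Lib.Helper4.Leech
import Cfsg.Agent.Lib.Helper28.LeechMod
import Cfsg.Agent.Lib.Helper28.M24Stab

set_option autoImplicit false
open Cfsg

namespace Cfsg.Agent.S0398

open Cfsg.Agent.Lib.Helper28

set_option maxRecDepth 100000 in
/-- two distinct points are separated by a translate of the squares -/
theorem sep : ∀ i j : GolayPt, i ≠ j → ∃ t : ZMod 23,
    (qrWord t i ≠ 0 ∧ qrWord t j = 0) ∨ (qrWord t i = 0 ∧ qrWord t j ≠ 0) := by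
  decide +kernel

/-- sign change on a set of coordinates -/
def signFun (c : Finset GolayPt) (v : GolayPt → ℤ) : GolayPt → ℤ :=
  fun i => if i ∈ c then - v i else v i

theorem signFun_signFun (c : Finset GolayPt) (v : GolayPt → ℤ) : signFun c (signFun c v) = v := by
  funext i
  unfold signFun
  split_ifs <;> ring

theorem signFun_add (c : Finset GolayPt) (v w : GolayPt → ℤ) :
    signFun c (v + w) = signFun c v + signFun c w := by
  funext i
  unfold signFun
  simp only [Pi.add_apply]
  split_ifs <;> ring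

theorem signFun_sqNorm (c : Finset GolayPt) (v : GolayPt → ℤ) : sqNorm (signFun c v) = sqNorm v := by
  unfold sqNorm
  refine Finset.sum_congr rfl fun i _ => ?_
  unfold signFun
  split_ifs <;> ring

/-- the sign change on a code word as a permutation of the lattice -/
def signPerm (c : Finset GolayPt) (hc : c ∈ supports (golayCode : Set (GolayPt → ZMod 2))) :
    Equiv.Perm leechLattice where
  toFun v := ⟨signFun c v, Cfsg.Agent.S0433.result c hc v v.2⟩
  invFun v := ⟨signFun c v, Cfsg.Agent.S0433.result c hc v v.2⟩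
  left_inv v := Subtype.ext (signFun_signFun c v)
  right_inv v := Subtype.ext (signFun_signFun c v)

theorem signPerm_mem (c : Finset GolayPt) (hc : c ∈ supports (golayCode : Set (GolayPt → ZMod 2))) :
    signPerm c hc ∈ Co0 := by
  refine ⟨fun v w => ?_, fun v => ?_⟩
  · apply Subtype.ext
    show signFun c ((v : GolayPt → ℤ) + w) = signFun c v + signFun c w
    exact signFun_add c _ _
  · show sqNorm (signFun c (v : GolayPt → ℤ)) = sqNorm (v : GolayPt → ℤ)
    exact signFun_sqNorm c _

/-- coordinate permutation -/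
def permFun (σ : Equiv.Perm GolayPt) (v : GolayPt → ℤ) : GolayPt → ℤ := fun i => v (σ i)

theorem permFun_sqNorm (σ : Equiv.Perm GolayPt) (v : GolayPt → ℤ) : sqNorm (permFun σ v) = sqNorm v := by
  unfold sqNorm permFun
  exact Equiv.sum_comp σ (fun i => v i ^ 2)

/-- a coordinate permutation from `M24` as a permutation of the lattice -/
def permPerm (σ : Equiv.Perm GolayPt) (hσ : σ ∈ M24) : Equiv.Perm leechLattice where
  toFun v := ⟨permFun σ v, Cfsg.Agent.S0432.result σ hσ v v.2⟩
  invFun v := ⟨permFun σ⁻¹ v, Cfsg.Agent.S0432.result σ⁻¹ (M24.inv_mem hσ) v v.2⟩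
  left_inv v := by
    apply Subtype.ext
    funext i
    show (v : GolayPt → ℤ) (σ (σ⁻¹ i)) = (v : GolayPt → ℤ) i
    simp
  right_inv v := by
    apply Subtype.ext
    funext i
    show (v : GolayPt → ℤ) (σ⁻¹ (σ i)) = (v : GolayPt → ℤ) i
    simp

theorem permPerm_mem (σ : Equiv.Perm GolayPt) (hσ : σ ∈ M24) : permPerm σ hσ ∈ Co0 := by
  refine ⟨fun v w => ?_, fun v => ?_⟩
  · apply Subtype.ext
    funext i
    rfl
  · show sqNorm (permFun σ (v : GolayPt → ℤ)) = sqNorm (v : GolayPt → ℤ)
    exact permFun_sqNorm σ _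

theorem mem_support₂_iff (w : GolayPt → ZMod 2) (k : GolayPt) : k ∈ support₂ w ↔ w k ≠ 0 := by
  unfold support₂
  simp

theorem signPerm_e8 (c : Finset GolayPt) (hc : c ∈ supports (golayCode : Set (GolayPt → ZMod 2)))
    (i : GolayPt) : signPerm c hc (e8 i) = if i ∈ c then - e8 i else e8 i := by
  apply Subtype.ext
  funext j
  show signFun c (e8 i : GolayPt → ℤ) j = _
  unfold signFun
  by_cases hic : i ∈ c
  · rw [if_pos hic, AddSubgroup.coe_neg, Pi.neg_apply, e8_apply]
    by_cases hji : j = i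
    · rw [hji, if_pos hic]
    · rw [if_neg hji]; split_ifs <;> ring
  · rw [if_neg hic, e8_apply]
    by_cases hji : j = i
    · rw [hji, if_neg hic]
    · rw [if_neg hji]; split_ifs <;> ring

theorem co0_neg (z : Co0) (v : leechLattice) :
    (z : Equiv.Perm leechLattice) (-v) = - (z : Equiv.Perm leechLattice) v := by
  have := map_neg (co0Hom z) v
  rwa [co0Hom_apply, co0Hom_apply] at this

theorem sqNorm_e8 (i : GolayPt) : sqNorm (e8 i : GolayPt → ℤ) = 64 := by
  unfold sqNorm
  rw [Finset.sum_eq_single i]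
  · rw [e8_apply, if_pos rfl]; norm_num
  · intro j _ hji
    rw [e8_apply, if_neg hji]; norm_num
  · intro h; exact absurd (Finset.mem_univ i) h

/-- a central element multiplies `8 e_i` by a sign -/
theorem central_e8 (z : Co0) (hz : z ∈ Subgroup.center Co0) (i : GolayPt) :
    ∃ s : ℤ, (s = 1 ∨ s = -1) ∧
      (((z : Equiv.Perm leechLattice) (e8 i) : leechLattice) : GolayPt → ℤ) = s • (e8 i : GolayPt → ℤ) := by
  set w : GolayPt → ℤ := (((z : Equiv.Perm leechLattice) (e8 i) : leechLattice) : GolayPt → ℤ) with hw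
  have hzero : ∀ j, j ≠ i → w j = 0 := by
    intro j hji
    obtain ⟨t, ht⟩ := sep i j (Ne.symm hji)
    set c := support₂ (qrWord t) with hcdef
    have hc : c ∈ supports (golayCode : Set (GolayPt → ZMod 2)) :=
      ⟨qrWord t, Cfsg.Agent.Lib.Helper4.qrWord_mem_golayCode t, rfl⟩
    have hcomm := Subgroup.mem_center_iff.1 hz ⟨signPerm c hc, signPerm_mem c hc⟩
    have h1 : signPerm c hc ((z : Equiv.Perm leechLattice) (e8 i)) =
        (z : Equiv.Perm leechLattice) (signPerm c hc (e8 i)) := by
      have := congrArg (fun f : Co0 => (f : Equiv.Perm leechLattice) (e8 i)) hcomm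
      exact this
    rw [signPerm_e8] at h1
    have h2 : signFun c w = if i ∈ c then -w else w := by
      have h3 := congrArg (fun v : leechLattice => (v : GolayPt → ℤ)) h1
      by_cases hic : i ∈ c
      · rw [if_pos hic] at h3 ⊢
        rw [co0_neg] at h3
        exact h3
      · rw [if_neg hic] at h3 ⊢
        exact h3
    have h4 := congrFun h2 j
    unfold signFun at h4
    rcases ht with ⟨hi, hj⟩ | ⟨hi, hj⟩
    · have hic : i ∈ c := (mem_support₂_iff _ _).2 hi
      have hjc : j ∉ c := fun h => (mem_support₂_iff _ _).1 h hj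
      rw [if_neg hjc, if_pos hic, Pi.neg_apply] at h4
      omega
    · have hic : i ∉ c := fun h => (mem_support₂_iff _ _).1 h hi
      have hjc : j ∈ c := (mem_support₂_iff _ _).2 hj
      rw [if_pos hjc, if_neg hic] at h4
      omega
  have hnorm : sqNorm w = 64 := by
    rw [hw, z.2.2 (e8 i), sqNorm_e8]
  have hwi : w i ^ 2 = 8 ^ 2 := by
    unfold sqNorm at hnorm
    rw [Finset.sum_eq_single i] at hnorm
    · rw [hnorm]; norm_num
    · intro j _ hji
      rw [hzero j hji]; norm_num
    · intro h; exact absurd (Finset.mem_univ i) h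
  rcases sq_eq_sq_iff_eq_or_eq_neg.1 hwi with h | h
  · refine ⟨1, Or.inl rfl, ?_⟩
    funext j
    rw [one_smul, e8_apply]
    by_cases hji : j = i
    · rw [hji, if_pos rfl, h]
    · rw [if_neg hji, hzero j hji]
  · refine ⟨-1, Or.inr rfl, ?_⟩
    funext j
    rw [Pi.smul_apply, e8_apply]
    by_cases hji : j = i
    · rw [hji, if_pos rfl, h]; norm_num
    · rw [if_neg hji, hzero j hji]; norm_num

theorem permPerm_e8 (σ : Equiv.Perm GolayPt) (hσ : σ ∈ M24) (i : GolayPt) :
    permPerm σ hσ (e8 i) = e8 (σ⁻¹ i) := by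
  apply Subtype.ext
  funext j
  show (e8 i : GolayPt → ℤ) (σ j) = (e8 (σ⁻¹ i) : GolayPt → ℤ) j
  rw [e8_apply, e8_apply]
  by_cases h : σ j = i
  · rw [if_pos h, if_pos]
    rw [← h]; simp
  · rw [if_neg h, if_neg]
    intro h2; apply h; rw [h2]; simp

theorem exists_M24_map (i j : GolayPt) : ∃ σ : Equiv.Perm GolayPt, σ ∈ M24 ∧ σ j = i := by
  have h1 : MulAction.IsMultiplyPretransitive M24 GolayPt 1 :=
    MulAction.isMultiplyPretransitive_of_le (n := 5) (by norm_num) (by rw [natCard_golayPt]; norm_num)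
  have h2 : MulAction.IsPretransitive M24 GolayPt := MulAction.is_one_pretransitive_iff.1 h1
  obtain ⟨g, hg⟩ := MulAction.exists_smul_eq M24 j i
  exact ⟨g.1, g.2, hg⟩

/-- a central element multiplies all the `8 e_i` by the same sign -/
theorem central_sign_const (z : Co0) (hz : z ∈ Subgroup.center Co0) :
    ∃ s : ℤ, (s = 1 ∨ s = -1) ∧ ∀ j : GolayPt,
      (((z : Equiv.Perm leechLattice) (e8 j) : leechLattice) : GolayPt → ℤ) = s • (e8 j : GolayPt → ℤ) := by
  obtain ⟨s, hs, hs0⟩ := central_e8 z hz none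
  refine ⟨s, hs, fun j => ?_⟩
  obtain ⟨σ, hσ, hσj⟩ := exists_M24_map none j
  have hσinv : σ⁻¹ none = j := by rw [← hσj]; simp
  have hcomm := Subgroup.mem_center_iff.1 hz ⟨permPerm σ hσ, permPerm_mem σ hσ⟩
  have h1 : permPerm σ hσ ((z : Equiv.Perm leechLattice) (e8 none)) =
      (z : Equiv.Perm leechLattice) (permPerm σ hσ (e8 none)) := by
    have := congrArg (fun f : Co0 => (f : Equiv.Perm leechLattice) (e8 none)) hcomm
    exact this
  rw [permPerm_e8, hσinv] at h1
  rw [← h1]
  funext k
  show (((z : Equiv.Perm leechLattice) (e8 none) : leechLattice) : GolayPt → ℤ) (σ k) = _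
  rw [hs0, Pi.smul_apply, Pi.smul_apply, e8_apply, e8_apply]
  by_cases h : σ k = none
  · rw [if_pos h, if_pos]
    rw [← hσinv, ← h]; simp
  · rw [if_neg h, if_neg]
    intro h2; apply h; rw [h2, ← hσinv]; simp

/-- a central element is multiplication by a sign -/
theorem central_eq_sign (z : Co0) (hz : z ∈ Subgroup.center Co0) :
    ∃ s : ℤ, (s = 1 ∨ s = -1) ∧ ∀ x : leechLattice,
      (((z : Equiv.Perm leechLattice) x : leechLattice) : GolayPt → ℤ) = s • (x : GolayPt → ℤ) := by
  obtain ⟨s, hs, hs0⟩ := central_sign_const z hz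
  refine ⟨s, hs, fun x => ?_⟩
  funext j
  have h1 := eight_smul_co0 z x
  have h2 := congrFun (congrArg (fun v : leechLattice => (v : GolayPt → ℤ)) h1) j
  simp only [AddSubgroup.coe_zsmul, Pi.smul_apply, AddSubgroup.val_finsetSum, Finset.sum_apply,
    co0Hom_apply, smul_eq_mul] at h2
  rw [Finset.sum_eq_single j] at h2
  · rw [hs0 j, Pi.smul_apply, e8_apply, if_pos rfl, smul_eq_mul] at h2
    rw [Pi.smul_apply, smul_eq_mul]
    linarith
  · intro i _ hij
    rw [hs0 i, Pi.smul_apply, e8_apply, if_neg (Ne.symm hij)]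
    simp
  · intro h; exact absurd (Finset.mem_univ j) h

theorem neg_mem : Equiv.neg leechLattice ∈ Co0 := by
  refine ⟨fun v w => ?_, fun v => ?_⟩
  · show -(v + w) = -v + -w
    abel
  · show sqNorm ((-v : leechLattice) : GolayPt → ℤ) = sqNorm (v : GolayPt → ℤ)
    rw [AddSubgroup.coe_neg, sqNorm_neg]

theorem result : Nat.card (Subgroup.center Cfsg.Co0) = 2 := by
  rw [Nat.card_eq_two_iff]
  have hnegc : (⟨Equiv.neg leechLattice, neg_mem⟩ : Co0) ∈ Subgroup.center Co0 := by
    rw [Subgroup.mem_center_iff]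
    intro g
    apply Subtype.ext
    apply Equiv.ext
    intro v
    show (g : Equiv.Perm leechLattice) (-v) = - (g : Equiv.Perm leechLattice) v
    exact co0_neg g v
  refine ⟨⟨1, Subgroup.one_mem _⟩, ⟨⟨Equiv.neg leechLattice, neg_mem⟩, hnegc⟩, ?_, ?_⟩
  · intro h
    have h1 : (1 : Co0) = ⟨Equiv.neg leechLattice, neg_mem⟩ := congrArg Subtype.val h
    have h2 : (1 : Equiv.Perm leechLattice) = Equiv.neg leechLattice := congrArg Subtype.val h1
    have h3 := congrArg (fun f : Equiv.Perm leechLattice => ((f (e8 none) : leechLattice) : GolayPt → ℤ) none) h2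
    simp only [Equiv.Perm.coe_one, id_eq, Equiv.neg_apply, AddSubgroup.coe_neg, Pi.neg_apply, e8_apply,
      if_true] at h3
    omega
  · rw [Set.eq_univ_iff_forall]
    rintro ⟨z, hz⟩
    obtain ⟨s, hs, hsx⟩ := central_eq_sign z hz
    rcases hs with rfl | rfl
    · left
      apply Subtype.ext
      apply Subtype.ext
      apply Equiv.ext
      intro x
      apply Subtype.ext
      rw [hsx x, one_smul]
      rfl
    · right
      apply Subtype.ext
      apply Subtype.ext
      apply Equiv.ext
      intro x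
      apply Subtype.ext
      rw [hsx x]
      show (-1 : ℤ) • (x : GolayPt → ℤ) = ((-x : leechLattice) : GolayPt → ℤ)
      rw [AddSubgroup.coe_neg, neg_smul, one_smul]

end Cfsg.Agent.S0398
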