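import Cfsg.Statements.S5752
import Cfsg.Agent.Lib.Helper22.TWMain
import Cfsg.Agent.Lib.Helper10.Transport

set_option autoImplicit false
open Cfsg

namespace Cfsg.Agent.S5752

open Cfsg.Agent.Lib.Helper22.TW Cfsg.Agent.Lib.Helper20 Cfsg.Agent.Lib.Helper17 Subgroup

theorem prim_of_coatom {G : Type*} [Group G] {M : Subgroup G} (hmax : IsCoatom M)
    (hcore : M.normalCore = ⊥) :
    ∀ Z : Subgroup G, Z ≠ ⊥ → Z ≤ M → M ≤ normalizer (Z : Set G) →
      normalizer (Z : Set G) ≤ M := by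
  intro Z hZ hZM hn
  rcases eq_or_lt_of_le hn with h | h
  · exact h.ge
  · have htop : normalizer (Z : Set G) = ⊤ := hmax.2 _ h
    exfalso
    apply hZ
    have hZn : Z.Normal := normalizer_eq_top_iff.mp htop
    have := (normal_le_normalCore (H := M) (N := Z)).mpr hZM
    rwa [hcore, le_bot_iff] at this

theorem config_of {G : Type*} [Group G] [Finite G] (M₁ M₂ : Subgroup G) (hmax : IsCoatom M₁)
    (g : G) (hconj : M₂ = M₁.map (MulAut.conj g).toMonoidHom) (hne : M₁ ≠ M₂)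
    (hcore : M₁.normalCore = ⊥)
    (hN₁ : coreIn M₁ (coreIn M₁ (M₁ ⊓ M₂) ⊓ coreIn M₂ (M₁ ⊓ M₂)) ≠ ⊥)
    (hN₂ : coreIn M₂ (coreIn M₁ (M₁ ⊓ M₂) ⊓ coreIn M₂ (M₁ ⊓ M₂)) ≠ ⊥) :
    Config M₁ M₂ (coreIn M₁ (M₁ ⊓ M₂)) (coreIn M₂ (M₁ ⊓ M₂))
      (coreIn M₁ (coreIn M₁ (M₁ ⊓ M₂) ⊓ coreIn M₂ (M₁ ⊓ M₂)))
      (coreIn M₂ (coreIn M₁ (M₁ ⊓ M₂) ⊓ coreIn M₂ (M₁ ⊓ M₂))) := by
  have hmax₂ : IsCoatom M₂ := by
    rw [hconj]
    exact ((MulEquiv.mapSubgroup (MulAut.conj g)).isCoatom_iff M₁).mpr hmax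
  have hcore₂ : M₂.normalCore = ⊥ := by
    rw [eq_bot_iff]
    intro x hx
    have hx' : ∀ b : G, b * x * b⁻¹ ∈ M₂ := hx
    have : x ∈ M₁.normalCore := by
      intro b
      have h1 : (g * b) * x * (g * b)⁻¹ ∈ M₂ := hx' (g * b)
      rw [hconj, mem_map_conj] at h1
      have e : g⁻¹ * ((g * b) * x * (g * b)⁻¹) * g = b * x * b⁻¹ := by group
      rwa [e] at h1
    rwa [hcore] at this
  refine
    { ne := hne
      prim₁ := prim_of_coatom hmax hcore
      prim₂ := prim_of_coatom hmax₂ hcore₂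
      card := ?_
      K₁_le₁ := coreIn_le_left _ _
      K₁_le₂ := (coreIn_le_right _ _).trans inf_le_right
      K₁_norm := le_normalizer_coreIn _ _
      K₁_univ := ?_
      K₂_le₁ := (coreIn_le_right _ _).trans inf_le_left
      K₂_le₂ := coreIn_le_left _ _
      K₂_norm := le_normalizer_coreIn _ _
      K₂_univ := ?_
      N₁_le₁ := (coreIn_le_right _ _).trans inf_le_left
      N₁_le₂ := (coreIn_le_right _ _).trans inf_le_right
      N₁_norm := le_normalizer_coreIn _ _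
      N₁_ne := hN₁
      N₂_le₁ := (coreIn_le_right _ _).trans inf_le_left
      N₂_le₂ := (coreIn_le_right _ _).trans inf_le_right
      N₂_norm := le_normalizer_coreIn _ _
      N₂_ne := hN₂ }
  · intro p _
    have h1 := Cfsg.Agent.Lib.Helper10.map_pCore_subgroup (MulAut.conj g) p M₁
    have h2 : pCoreOf p M₂ = (pCoreOf p M₁).map (MulAut.conj g).toMonoidHom := by
      rw [hconj]
      exact h1.symm
    rw [h2, card_map_conj]
  · intro x hx h
    exact mem_coreIn_iff.mpr ⟨hx, fun m hm =>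
      mem_inf.mpr ⟨M₁.mul_mem (M₁.mul_mem hm hx) (M₁.inv_mem hm), h m hm⟩⟩
  · intro x hx h
    exact mem_coreIn_iff.mpr ⟨hx, fun m hm =>
      mem_inf.mpr ⟨h m hm, M₂.mul_mem (M₂.mul_mem hm hx) (M₂.inv_mem hm)⟩⟩

theorem eq_of_gfsOf_eq {G : Type*} [Group G] {M : Subgroup G} {p : ℕ}
    (h : gfsOf M = pCoreOf p M) :
    Cfsg.generalizedFittingSubgroup ↥M = Cfsg.pCore p ↥M :=
  Subgroup.map_injective M.subtype_injective h

/-- A form of the Thompson–Wielandt Theorem on primitive permutation groups. Let G be a finite group and M₁, M₂ two distinct conjugate maximal subgroups of G with trivial core in G; define two descending sequences of subgroups by A₀ = M₁, B₀ = M₂ and, for every i, A_{i+1} = the core in M₁ of A_i ∩ B_i and B_{i+1} = the core in M₂ of A_i ∩ B_i (the core in M of a subgroup Y ≤ M is the largest normal subgroup of M contained in Y). If A₂ and B₂ are both non-trivial, then for some prime p the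 subgroup generated by A₂ and B₂ is a p-group, and for each j the generalized Fitting subgroups of M_j and of its first core (A₁, resp. B₁) are their largest normal p-subgroups. -/
theorem result {G : Type*} [Group G] [Finite G] (M₁ M₂ : Subgroup G) (hmax : IsCoatom M₁) (g : G)
    (hconj : M₂ = M₁.map (MulAut.conj g).toMonoidHom) (hne : M₁ ≠ M₂) (hcore : M₁.normalCore = ⊥)
    (A B : ℕ → Subgroup G) (hA0 : A 0 = M₁) (hB0 : B 0 = M₂)
    (hA : ∀ i, A (i + 1) = ((A i ⊓ B i).subgroupOf M₁).normalCore.map M₁.subtype)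
    (hB : ∀ i, B (i + 1) = ((A i ⊓ B i).subgroupOf M₂).normalCore.map M₂.subtype) (hA2 : A 2 ≠ ⊥) (hB2 : B 2 ≠ ⊥) :
    ∃ p : ℕ, p.Prime ∧ IsPGroup p ↥(A 2 ⊔ B 2) ∧
      Cfsg.generalizedFittingSubgroup ↥M₁ = Cfsg.pCore p ↥M₁ ∧ Cfsg.generalizedFittingSubgroup ↥(A 1) = Cfsg.pCore p ↥(A 1) ∧
      Cfsg.generalizedFittingSubgroup ↥M₂ = Cfsg.pCore p ↥M₂ ∧ Cfsg.generalizedFittingSubgroup ↥(B 1) = Cfsg.pCore p ↥(B 1) := by
  have hA1 : A 1 = coreIn M₁ (M₁ ⊓ M₂) := by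
    have := hA 0
    rw [hA0, hB0] at this
    exact this
  have hB1 : B 1 = coreIn M₂ (M₁ ⊓ M₂) := by
    have := hB 0
    rw [hA0, hB0] at this
    exact this
  have hA2' : A 2 = coreIn M₁ (coreIn M₁ (M₁ ⊓ M₂) ⊓ coreIn M₂ (M₁ ⊓ M₂)) := by
    have := hA 1
    rw [hA1, hB1] at this
    exact this
  have hB2' : B 2 = coreIn M₂ (coreIn M₁ (M₁ ⊓ M₂) ⊓ coreIn M₂ (M₁ ⊓ M₂)) := by
    have := hB 1
    rw [hA1, hB1] at this
    exact this
  have hcfg := config_of M₁ M₂ hmax g hconj hne hcore (hA2' ▸ hA2) (hB2' ▸ hB2)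
  obtain ⟨p, hp, h1, h2, h3, h4, h5⟩ := hcfg.main
  rw [hA1, hB1, hA2', hB2']
  exact ⟨p, hp, h1, eq_of_gfsOf_eq h2, eq_of_gfsOf_eq h3, eq_of_gfsOf_eq h4, eq_of_gfsOf_eq h5⟩

end Cfsg.Agent.S5752
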