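import Mathlib
import Cfsg.Statements.S4726
import Cfsg.Agent.Lib.Helper24.SupCentralizer
import Cfsg.Agent.Lib.Helper24.CentPairs
import Cfsg.Agent.Lib.Helper24.PairTools
import Cfsg.Agent.Lib.Helper24.ConjPairs
import Cfsg.Agent.Lib.Helper7.InducedBlock

set_option autoImplicit false
open Cfsg

namespace Cfsg.Agent.S4726

open Cfsg.Agent.Lib.Helper7 Cfsg.Agent.Lib.Helper24 Cfsg.Agent.Lib.Helper2

section
variable {G : Type*} [Group G] [Fintype G] {p : ℕ} [Fact p.Prime] {M : Ideal Cfsg.AlgInt}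

/-- if `(P, e')` is a `b`-pair of `H ≥ C_G(P)` and its image is a `B`-pair, then `b^G = B` -/
theorem isInducedBlock_of_pairs (hM : Cfsg.IsPModular p M) (H P : Subgroup G) (hPH : P ≤ H)
    (hCH : Subgroup.centralizer (P : Set G) ≤ H)
    (b : Set (Cfsg.IrrCharacter H)) (B : Set (Cfsg.IrrCharacter G))
    (e' : Set (Cfsg.IrrCharacter (Subgroup.centralizer ((P.subgroupOf H : Subgroup H) : Set H))))
    (hb' : Cfsg.IsBrauerPairOf p M b (P.subgroupOf H) e')
    (hB' : Cfsg.IsBrauerPairOf p M B P (irrMap (centH H P hPH hCH) '' e')) :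
    Cfsg.IsInducedBlock M H b B := by
  classical
  haveI : Fintype H := Fintype.ofFinite _
  haveI : Fintype (Subgroup.centralizer (P : Set G)) := Fintype.ofFinite _
  haveI : Fintype (Subgroup.centralizer ((P.subgroupOf H : Subgroup H) : Set H)) :=
    Fintype.ofFinite _
  refine ⟨hb'.2.1, hB'.2.1, ?_⟩
  intro ξ hξ χ hχ g
  obtain ⟨ξ', hξ'⟩ := isPBlock_nonempty hM hb'.1.2
  have haR : IsRCF M (classIndicator g) := IsRCF.classIndicator hM g
  have haR' : IsRCF M (restrictTo H (classIndicator g)) :=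
    ⟨restrictTo_isClassFunction H _ haR.1, fun h => haR.2 _⟩
  have h1 := omega_restrict_sub_omega_of_isBrauerPairOf hM B P _ hB' χ hχ
    (irrMap (centH H P hPH hCH) ξ') ⟨ξ', hξ', rfl⟩ _ haR
  have h2 := omega_restrict_sub_omega_of_isBrauerPairOf (G := H) hM b _ e' hb' ξ hξ ξ' hξ' _ haR'
  have h3 : omega (irrMap (centH H P hPH hCH) ξ').1
      (restrictTo (Subgroup.centralizer (P : Set G)) (classIndicator g))
      = omega ξ'.1 (restrictTo (Subgroup.centralizer ((P.subgroupOf H : Subgroup H) : Set H))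
          (restrictTo H (classIndicator g))) := by
    rw [← brauerOmega_eq_omega, ← brauerOmega_eq_omega]
    exact brauerOmega_centH H P hPH hCH (restrictTo H (classIndicator g)) (classIndicator g)
      (fun h => rfl) ξ'
  rw [h3] at h1
  rw [inducedCentralChar_eq_omega, ← omega_classIndicator _ (IrrCharacter.isClassFunction χ)]
  have h4 := memLocalIdeal_sub hM h1 h2
  have e1 : ∀ a b' c : ℂ, (a - c) - (a - b') = b' - c := fun a b' c => by ring
  rw [e1] at h4
  exact h4


/-- (a) the induced block is defined -/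
theorem inducedBlockDefined_of_centralizer_le (hM : Cfsg.IsPModular p M) (H P : Subgroup G)
    (hPH : P ≤ H) (hCH : Subgroup.centralizer (P : Set G) ≤ H)
    (b : Set (Cfsg.IrrCharacter H)) (hb : Cfsg.IsPBlock M b)
    (hD : Cfsg.IsDefectGroup p M b (P.subgroupOf H)) :
    Cfsg.InducedBlockDefined M H b := by
  classical
  haveI : Fintype H := Fintype.ofFinite _
  obtain ⟨e', hmax'⟩ := exists_isMaximalBrauerPair_of_isDefectGroup (G := H) hM b hb _ hD
  have hP : IsPGroup p P := (isPGroup_subgroupOf_iff H P hPH).mp hmax'.1.1.1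
  have hPe : Cfsg.IsBrauerPair p M P (irrMap (centH H P hPH hCH) '' e') :=
    ⟨hP, isPBlock_image_irrMap _ hmax'.1.1.2⟩
  obtain ⟨B, hB, _⟩ := existsUnique_block_of_brauerPair hM P _ hPe
  exact ⟨B, isInducedBlock_of_pairs hM H P hPH hCH b B e' hmax'.1 hB⟩

/-- (b) a defect group `R ≥ P` of `B` with `C_R(P) ≤ P` -/
theorem exists_defect_of_centralizer_le (hM : Cfsg.IsPModular p M) (H P : Subgroup G)
    (hPH : P ≤ H) (hCH : Subgroup.centralizer (P : Set G) ≤ H)
    (b : Set (Cfsg.IrrCharacter H)) (hb : Cfsg.IsPBlock M b)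
    (hD : Cfsg.IsDefectGroup p M b (P.subgroupOf H))
    (B : Set (Cfsg.IrrCharacter G)) (hind : Cfsg.IsInducedBlock M H b B) :
    ∃ R : Subgroup G, Cfsg.IsDefectGroup p M B R ∧ P ≤ R ∧
      R ⊓ Subgroup.centralizer (P : Set G) ≤ P := by
  classical
  haveI : Fintype H := Fintype.ofFinite _
  haveI : Fintype (Subgroup.centralizer (P : Set G)) := Fintype.ofFinite _
  haveI : Fintype (Subgroup.centralizer ((P.subgroupOf H : Subgroup H) : Set H)) :=
    Fintype.ofFinite _
  obtain ⟨e', hmax'⟩ := exists_isMaximalBrauerPair_of_isDefectGroup (G := H) hM b hb _ hD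
  have hP' : IsPGroup p (P.subgroupOf H) := hmax'.1.1.1
  have hP : IsPGroup p P := (isPGroup_subgroupOf_iff H P hPH).mp hP'
  have he' : Cfsg.IsPBlock M e' := hmax'.1.1.2
  set φ := centH H P hPH hCH with hφ
  have hBP : Cfsg.IsBrauerPairOf p M B P (irrMap φ '' e') :=
    isBrauerPairOf_of_isInducedBlock hM H P hPH hCH b B hind e' hmax'.1
  obtain ⟨R, g, hmaxR, hle⟩ := exists_isMaximalBrauerPair_ge B _ P _ hBP rfl
  have hPR : P ≤ R := le_of_reflTransGen hle
  have hRdef := isDefectGroup_of_isMaximalBrauerPair R g hM B hmaxR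
  refine ⟨R, hRdef, hPR, ?_⟩
  obtain ⟨D', hD', hD'le⟩ := exists_isDefectGroup_ge_centralizerIn hM R P g _ hmaxR.1.1 hPR hle
  -- transport `D'` to a defect group of `e'`
  have hD'' : Cfsg.IsDefectGroup p M e' (D'.map φ.symm.toMonoidHom) := by
    have := isDefectGroup_irrMap (M := M) (p := p) φ.symm (irrMap φ '' e') D' hD'
    rw [Set.image_image] at this
    simp only [irrMap_symm_irrMap, Set.image_id'] at this
    exact this
  -- a maximal `e'`-pair on it
  obtain ⟨g₁, hmax₁⟩ := exists_isMaximalBrauerPair_of_isDefectGroup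
    (G := Subgroup.centralizer ((P.subgroupOf H : Subgroup H) : Set H)) hM e' he' _ hD''
  have hns := isNormalSubpair_of_isBrauerPairOf_centralizer (P.subgroupOf H) hP' e' _ g₁ hmax₁.1
  have hle₁ : Cfsg.SubpairLE p M (P.subgroupOf H) e' _ _ := Relation.ReflTransGen.single hns
  have hbig : Cfsg.IsBrauerPairOf p M b _ _ :=
    (isBrauerPairOf_iff_of_subpairLE hM hns.2.1 hns.1 hle₁ b hb).mpr hmax'.1
  have heq := hmax'.2 _ _ hbig hle₁
  -- now conclude
  intro z hz
  have hzD' : (⟨z, hz.2⟩ : Subgroup.centralizer (P : Set G)) ∈ D' := by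
    apply hD'le
    rw [Subgroup.mem_subgroupOf]
    exact hz
  have hz1 : φ.symm ⟨z, hz.2⟩ ∈ D'.map φ.symm.toMonoidHom := ⟨_, hzD', rfl⟩
  have hz2 : ((φ.symm ⟨z, hz.2⟩ : Subgroup.centralizer ((P.subgroupOf H : Subgroup H) : Set H)) : H)
      ∈ P.subgroupOf H ⊔ (D'.map φ.symm.toMonoidHom).map
        (Subgroup.centralizer ((P.subgroupOf H : Subgroup H) : Set H)).subtype :=
    Subgroup.mem_sup_right ⟨_, hz1, rfl⟩
  rw [heq, Subgroup.mem_subgroupOf] at hz2
  exact hz2

end

theorem subgroupOf_map_subtype_self {G : Type*} [Group G] (H : Subgroup G) (D₀ : Subgroup H) :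
    (D₀.map H.subtype).subgroupOf H = D₀ := by
  ext x
  rw [Subgroup.mem_subgroupOf]
  constructor
  · rintro ⟨y, hy, hxy⟩
    have : y = x := Subtype.ext hxy
    rw [← this]; exact hy
  · intro hx
    exact ⟨x, hx, rfl⟩

theorem center_map_subtype {G : Type*} [Group G] (D : Subgroup G) :
    (Subgroup.center D).map D.subtype = D ⊓ Subgroup.centralizer (D : Set G) := by
  ext x
  rw [Subgroup.mem_map, Subgroup.mem_inf]
  constructor
  · rintro ⟨z, hz, rfl⟩
    refine ⟨z.2, ?_⟩
    rw [Subgroup.mem_centralizer_iff]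
    intro d hd
    have := (Subgroup.mem_center_iff.mp hz) ⟨d, hd⟩
    exact congrArg Subtype.val this
  · rintro ⟨hxD, hxc⟩
    refine ⟨⟨x, hxD⟩, ?_, rfl⟩
    rw [Subgroup.mem_center_iff]
    intro d
    apply Subtype.ext
    exact (Subgroup.mem_centralizer_iff.mp hxc) d d.2

/-- Let p be a prime, M a maximal ideal of the algebraic integers containing p, H a subgroup of the finite group G and b a p-block of H with defect group D₀ such that C_G(D₀) ≤ H. Then b induces a block of G, and for every block B of G induced by b there is a defect group D of B with Z(D) ≤ Z(D₀) ≤ D₀ ≤ D (as subgroups of G). In particular, if the defect groups of B are abelian then D₀ is a defect group of B. -/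
theorem result {G : Type*} [Group G] [Finite G] (p : ℕ) [Fact p.Prime] (M : Ideal Cfsg.AlgInt) (hM : Cfsg.IsPModular p M) (H : Subgroup G) (b : Set (Cfsg.IrrCharacter ↥H)) (hb : Cfsg.IsPBlock M b) (D₀ : Subgroup ↥H) (hD₀ : Cfsg.IsDefectGroup p M b D₀) (hC : Subgroup.centralizer ((D₀.map H.subtype : Subgroup G) : Set G) ≤ H) : Cfsg.InducedBlockDefined M H b ∧ ∀ B : Set (Cfsg.IrrCharacter G), Cfsg.IsInducedBlock M H b B → (∃ D : Subgroup G, Cfsg.IsDefectGroup p M B D ∧ (Subgroup.center ↥D).map D.subtype ≤ ((Subgroup.center ↥D₀).map D₀.subtype).map H.subtype ∧ ((Subgroup.center ↥D₀).map D₀.subtype).map H.subtype ≤ D₀.map H.subtype ∧ D₀.map H.subtype ≤ D) ∧ (∀ D : Subgroup G, Cfsg.IsDefectGroup p M B D → IsMulCommutative ↥D → Cfsg.IsDefectGroup p M B (D₀.map H.subtype)) := by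
  classical
  letI : Fintype G := Fintype.ofFinite G
  set P : Subgroup G := D₀.map H.subtype with hPdef
  have hPH : P ≤ H := Subgroup.map_subtype_le D₀
  have hP0 : P.subgroupOf H = D₀ := subgroupOf_map_subtype_self H D₀
  have hD : Cfsg.IsDefectGroup p M b (P.subgroupOf H) := by rw [hP0]; exact hD₀
  refine ⟨inducedBlockDefined_of_centralizer_le hM H P hPH hC b hb hD, ?_⟩
  intro B hind
  obtain ⟨R, hRdef, hPR, hRC⟩ := exists_defect_of_centralizer_le hM H P hPH hC b hb hD B hind
  have hZ : R ⊓ Subgroup.centralizer (R : Set G) ≤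
      ((Subgroup.center ↥D₀).map D₀.subtype).map H.subtype := by
    intro z hz
    have hzP : z ∈ P := hRC ⟨hz.1, Subgroup.centralizer_le (by exact_mod_cast hPR) hz.2⟩
    obtain ⟨h, hh, rfl⟩ := hzP
    rw [center_map_subtype]
    refine ⟨h, ⟨hh, ?_⟩, rfl⟩
    show h ∈ Subgroup.centralizer (D₀ : Set H)
    rw [Subgroup.mem_centralizer_iff]
    intro d hd
    apply Subtype.ext
    have hdR : (d : G) ∈ R := hPR ⟨d, hd, rfl⟩
    exact (Subgroup.mem_centralizer_iff.mp hz.2) (d : G) hdR
  constructor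
  · refine ⟨R, hRdef, ?_, ?_, hPR⟩
    · rw [center_map_subtype]
      exact hZ
    · exact Subgroup.map_mono (Subgroup.map_subtype_le _)
  · intro D hDdef hDcomm
    obtain ⟨x, hx⟩ := isDefectGroup_conj hM B hind.2.1 hRdef hDdef
    have hRcomm : R ≤ Subgroup.centralizer (R : Set G) := by
      intro r hr
      rw [Subgroup.mem_centralizer_iff]
      intro s hs
      have hr' : x * r * x⁻¹ ∈ D := by rw [hx]; exact ⟨r, hr, rfl⟩
      have hs' : x * s * x⁻¹ ∈ D := by rw [hx]; exact ⟨s, hs, rfl⟩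
      have := hDcomm.is_comm.comm (⟨x * s * x⁻¹, hs'⟩ : D) ⟨x * r * x⁻¹, hr'⟩
      have h2 : (x * s * x⁻¹) * (x * r * x⁻¹) = (x * r * x⁻¹) * (x * s * x⁻¹) :=
        congrArg Subtype.val this
      have h3 : x * (s * r) * x⁻¹ = x * (r * s) * x⁻¹ := by
        calc x * (s * r) * x⁻¹ = (x * s * x⁻¹) * (x * r * x⁻¹) := by group
          _ = (x * r * x⁻¹) * (x * s * x⁻¹) := h2
          _ = x * (r * s) * x⁻¹ := by group
      exact mul_left_cancel (mul_right_cancel h3)
    have hRP : R ≤ P := by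
      intro r hr
      have := hZ ⟨hr, hRcomm hr⟩
      exact (Subgroup.map_mono (Subgroup.map_subtype_le _)) this
    have : P = R := le_antisymm hPR hRP
    rw [this]
    exact hRdef

end Cfsg.Agent.S4726
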