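import Mathlib
import Cfsg.Statements.S4687
import Cfsg.Agent.Lib.Helper24.AbelianPairs
import Cfsg.Agent.Lib.Helper24.InertialPrime

set_option autoImplicit false
open Cfsg
open Cfsg.Agent.Lib.Helper2 Cfsg.Agent.Lib.Helper7 Cfsg.Agent.Lib.Helper24

namespace Cfsg.Agent.S4687

/-- Fix a prime p and a maximal ideal M of the algebraic integers containing p, and a p-block B of the finite group G with maximal Brauer pair (P, e), P abelian. Then B is nilpotent if and only if its inertial quotient is trivial: every element of N_G(P) stabilizing e centralizes P. -/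
theorem result {G : Type*} [Group G] [Fintype G] (p : ℕ) [Fact p.Prime] (M : Ideal Cfsg.AlgInt) (hM : Cfsg.IsPModular p M) (B : Set (Cfsg.IrrCharacter G)) (P : Subgroup G) (e : Set (Cfsg.IrrCharacter (Subgroup.centralizer (P : Set G)))) (hmax : Cfsg.IsMaximalBrauerPair p M B P e) (hab : ∀ x ∈ P, ∀ y ∈ P, x * y = y * x) : Cfsg.IsNilpotentBlock p M B ↔ ∀ x : G, x ∈ Subgroup.normalizer (P : Set G) → Cfsg.StabilizesBlock (Subgroup.centralizer (P : Set G)) e x → x ∈ Subgroup.centralizer (P : Set G) := by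
  have hp : p.Prime := Fact.out
  have hPe := hmax.1.1
  have hPC : P ≤ Subgroup.centralizer (P : Set G) := by
    intro u hu
    rw [Subgroup.mem_centralizer_iff]
    intro q hq
    exact hab q hq u hu
  constructor
  · rintro ⟨-, hnil⟩ x hxN hxst
    have hxT : x ∈ stabSubgroup P e := (mem_stabSubgroup P e x).mpr ⟨hxN, hxst⟩
    have hn : orderOf x ≠ 0 := (orderOf_pos x).ne'
    obtain ⟨n, hn_def⟩ : ∃ n, n = orderOf x := ⟨_, rfl⟩
    rw [← hn_def] at hn
    obtain ⟨a, ha⟩ : ∃ a, a = n.factorization p := ⟨_, rfl⟩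
    obtain ⟨m, hm⟩ : ∃ m, m = n / p ^ a := ⟨_, rfl⟩
    have hnm : p ^ a * m = n := by
      rw [hm, ha]
      exact Nat.ordProj_mul_ordCompl_eq_self n p
    have hcop : Nat.Coprime p m := by
      rw [hm, ha]
      exact Nat.coprime_ordCompl hp hn
    have hcop' : Nat.Coprime (p ^ a) m := Nat.Coprime.pow_left a hcop
    -- the `p'`-part
    have h1 : x ^ (p ^ a) ∈ Subgroup.centralizer (P : Set G) := by
      have hT : x ^ (p ^ a) ∈ stabSubgroup P e := Subgroup.pow_mem _ hxT _
      obtain ⟨hN, hst⟩ := (mem_stabSubgroup P e _).mp hT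
      apply hnil P e hmax.1 _ hN hst
      intro hdiv
      have h2 : (x ^ (p ^ a)) ^ m = 1 := by
        rw [← pow_mul, hnm, hn_def, pow_orderOf_eq_one]
      have h3 := orderOf_dvd_of_pow_eq_one h2
      have : p ∣ m := dvd_trans hdiv h3
      exact hp.one_lt.ne' (Nat.Coprime.eq_one_of_dvd hcop this)
    -- the `p`-part
    have h2 : x ^ m ∈ Subgroup.centralizer (P : Set G) := by
      have hT : x ^ m ∈ stabSubgroup P e := Subgroup.pow_mem _ hxT _
      have hz : IsPGroup p (Subgroup.zpowers (x ^ m)) := by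
        have h2 : (x ^ m) ^ (p ^ a) = 1 := by
          rw [← pow_mul, mul_comm, hnm, hn_def, pow_orderOf_eq_one]
        have h3 := orderOf_dvd_of_pow_eq_one h2
        obtain ⟨k, _, hk⟩ := (Nat.dvd_prime_pow hp).mp h3
        apply IsPGroup.of_card (n := k)
        rw [Nat.card_zpowers, hk]
      have hzT : Subgroup.zpowers (x ^ m) ≤ stabSubgroup P e := by
        rw [Subgroup.zpowers_le]
        exact hT
      have hR : IsPGroup p (P ⊔ Subgroup.zpowers (x ^ m) : Subgroup G) :=
        IsPGroup.to_sup_of_normal_left' hPe.1 hz (hzT.trans (stabSubgroup_le_normalizer P e))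
      have hRC := le_sup_centralizer_of_isMaximalBrauerPair hM B P e hmax _ hR le_sup_left
        (sup_le (le_stabSubgroup P e) hzT)
      rw [sup_of_le_right hPC] at hRC
      exact hRC (Subgroup.mem_sup_right (Subgroup.mem_zpowers _))
    have hbez : ((p ^ a : ℕ) : ℤ) * Nat.gcdA (p ^ a) m + (m : ℤ) * Nat.gcdB (p ^ a) m = 1 := by
      have := Nat.gcd_eq_gcd_ab (p ^ a) m
      rw [hcop'.gcd_eq_one] at this
      exact_mod_cast this.symm
    have hx : x = (x ^ (p ^ a)) ^ (Nat.gcdA (p ^ a) m) * (x ^ m) ^ (Nat.gcdB (p ^ a) m) := by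
      rw [← zpow_natCast, ← zpow_natCast, ← zpow_mul, ← zpow_mul, ← zpow_add, hbez, zpow_one]
    rw [hx]
    exact Subgroup.mul_mem _ (Subgroup.zpow_mem _ h1 _) (Subgroup.zpow_mem _ h2 _)
  · intro h
    refine ⟨hmax.1.2.1, ?_⟩
    intro Q f hQf x hxN hxst _
    have hxT : x ∈ stabSubgroup Q f := (mem_stabSubgroup Q f x).mpr ⟨hxN, hxst⟩
    obtain ⟨y, hle⟩ := exists_conj_subpairLE hM B P Q e f hmax hQf
    have hQf' := isBrauerPairOf_conj (p := p) (M := M) y hQf
    have hQP : Q.map (MulAut.conj y).toMonoidHom ≤ P := le_of_reflTransGen hle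
    have hxT' := (mem_stabSubgroup_conj_iff Q y f x).mpr hxT
    obtain ⟨t, ht, c, hc, heq⟩ := exists_mul_of_mem_stabSubgroup hM B P e hmax hab _ _ hQP
      hQf'.1.2 hle _ hxT'
    obtain ⟨htN, htst⟩ := (mem_stabSubgroup P e t).mp ht
    have htC : t ∈ Subgroup.centralizer
        ((Q.map (MulAut.conj y).toMonoidHom : Subgroup G) : Set G) :=
      Subgroup.centralizer_le (SetLike.coe_subset_coe.mpr hQP) (h t htN htst)
    have hyx : y * x * y⁻¹ ∈ Subgroup.centralizer
        ((Q.map (MulAut.conj y).toMonoidHom : Subgroup G) : Set G) := by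
      rw [heq]
      exact Subgroup.mul_mem _ htC hc
    rw [mem_centralizer_map_conj_iff] at hyx
    have e1 : y⁻¹ * (y * x * y⁻¹) * y = x := by group
    rw [e1] at hyx
    exact hyx

end Cfsg.Agent.S4687
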