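import Cfsg.Statements.S4754
import Cfsg.Agent.Lib.Helper25.GenOrtho
import Cfsg.Agent.Lib.Helper2.Column

set_option autoImplicit false
set_option linter.style.haveILetI false
open Cfsg

namespace Cfsg.Agent.S4754

open Cfsg.Agent.Lib.Helper25
open scoped ComplexConjugate

/-- If all products of conjugates of `x` and `y` have the same `χ`-value `c`, then
`χ 1 * c = χ x * χ y`. -/
theorem char_mul_of_const {G : Type*} [Group G] [Finite G] (x y : G) (χ : IrrCharacter G) (c : ℂ)
    (h : ∀ b : G, (χ : G → ℂ) (x * (b * y * b⁻¹)) = c) :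
    (χ : G → ℂ) 1 * c = (χ : G → ℂ) x * (χ : G → ℂ) y := by
  classical
  haveI := Fintype.ofFinite G
  have h1 := sum_char_mul_conj χ.2 x y
  simp_rw [h] at h1
  rw [Finset.sum_const, Finset.card_univ, nsmul_eq_mul, ← Nat.card_eq_fintype_card] at h1
  have hG : (Nat.card G : ℂ) ≠ 0 := card_ne_zero_complex
  have h1ne := irr_one_ne_zero χ.2
  field_simp at h1
  linear_combination h1

/-- For elements x, y of a finite group G, the conjugacy class of x y equals the set of all products of a conjugate of x with a conjugate of y if and only if χ(1) χ(a x a⁻¹ b y b⁻¹) = χ(x) χ(y) for all a, b ∈ G and every irreducible character χ. -/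
theorem result {G : Type*} [Group G] [Finite G] (x y : G) : (∀ z : G, IsConj (x * y) z ↔ ∃ a b : G, z = a * x * a⁻¹ * (b * y * b⁻¹)) ↔ ∀ (a b : G) (χ : Cfsg.IrrCharacter G), (χ : G → ℂ) 1 * (χ : G → ℂ) (a * x * a⁻¹ * (b * y * b⁻¹)) = (χ : G → ℂ) x * (χ : G → ℂ) y := by
  classical
  haveI := Fintype.ofFinite G
  constructor
  · intro h a b χ
    have hcf := isClassFunction_of_char (isCharacter_of_irr χ.2)
    have hconst : ∀ a b : G, (χ : G → ℂ) (a * x * a⁻¹ * (b * y * b⁻¹)) = (χ : G → ℂ) (x * y) := by
      intro a b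
      have hc : IsConj (x * y) (a * x * a⁻¹ * (b * y * b⁻¹)) := (h _).2 ⟨a, b, rfl⟩
      exact ((Cfsg.Agent.Lib.Helper2.isConj_iff_forall_irrCharacter _ _).1 hc χ).symm
    rw [hconst a b]
    apply char_mul_of_const x y χ
    intro b
    have := hconst 1 b
    simpa using this
  · intro h z
    have hconst : ∀ (a b : G) (χ : IrrCharacter G),
        (χ : G → ℂ) (a * x * a⁻¹ * (b * y * b⁻¹)) = (χ : G → ℂ) (x * y) := by
      intro a b χ
      have h1ne := irr_one_ne_zero χ.2
      have e1 := h a b χ
      have e2 := h 1 1 χ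
      simp only [one_mul, inv_one, mul_one] at e2
      exact mul_left_cancel₀ h1ne (e1.trans e2.symm)
    constructor
    · intro hc
      obtain ⟨c, hc⟩ := isConj_iff.1 hc
      refine ⟨c, c, ?_⟩
      rw [← hc]
      group
    · rintro ⟨a, b, rfl⟩
      rw [Cfsg.Agent.Lib.Helper2.isConj_iff_forall_irrCharacter]
      intro χ
      exact (hconst a b χ).symm

end Cfsg.Agent.S4754
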