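import Cfsg.Statements.S4755
import Cfsg.Agent.S4754
import Cfsg.Agent.Lib.Helper25.LinearChar

set_option autoImplicit false
set_option linter.style.haveILetI false
open Cfsg

namespace Cfsg.Agent.S4755

open Cfsg.Agent.Lib.Helper25
open scoped ComplexConjugate commutatorElement

/-- If every nonlinear irreducible character vanishes at `w`, then the centralizer of `w` has
order the index of the commutator subgroup. -/
theorem card_centralizer_of_vanish {G : Type*} [Group G] [Finite G] (w : G)
    (hv : ∀ χ : IrrCharacter G, (χ : G → ℂ) 1 ≠ 1 → (χ : G → ℂ) w = 0) :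
    Nat.card (Subgroup.centralizer ({w} : Set G)) = (commutator G).index := by
  classical
  haveI := Fintype.ofFinite G
  haveI : Fintype (IrrCharacter G) := Fintype.ofFinite _
  have h1 := second_orthogonality_self w
  have h2 : ∀ χ : IrrCharacter G, (χ : G → ℂ) w * conj ((χ : G → ℂ) w) =
      if (χ : G → ℂ) 1 = 1 then (1 : ℂ) else 0 := by
    intro χ
    split_ifs with hχ
    · rw [Complex.mul_conj, Complex.normSq_eq_norm_sq,
        norm_linear_char (isCharacter_of_irr χ.2) hχ]
      simp
    · rw [hv χ hχ, zero_mul]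
  simp_rw [h2] at h1
  rw [Finset.sum_ite, Finset.sum_const_zero, add_zero, Finset.sum_const, nsmul_eq_mul,
    mul_one] at h1
  have h3 : (Finset.univ.filter fun χ : IrrCharacter G => (χ : G → ℂ) 1 = 1).card =
      Nat.card {χ : IrrCharacter G // (χ : G → ℂ) 1 = 1} := by
    rw [Nat.card_eq_fintype_card, Fintype.card_subtype]
  rw [h3, card_linear_char] at h1
  exact_mod_cast h1.symm

/-- Let x, y be non-identity elements of the finite group G such that χ(x' y') = χ(x') χ(y') for all conjugates x' of x, y' of y and every irreducible character χ. Then the conjugacy class of x y is the set of all products of a conjugate of x with a conjugate of y; every irreducible character of degree greater than 1 vanishes at x y; and the conjugacy class of x y is the coset of the commutator subgroup containing x y. -/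
theorem result {G : Type*} [Group G] [Finite G] (x y : G) (hx : x ≠ 1) (hy : y ≠ 1) (h : ∀ (a b : G) (χ : Cfsg.IrrCharacter G), (χ : G → ℂ) (a * x * a⁻¹ * (b * y * b⁻¹)) = (χ : G → ℂ) (a * x * a⁻¹) * (χ : G → ℂ) (b * y * b⁻¹)) : (∀ z : G, IsConj (x * y) z ↔ ∃ a b : G, z = a * x * a⁻¹ * (b * y * b⁻¹)) ∧ (∀ χ : Cfsg.IrrCharacter G, (χ : G → ℂ) 1 ≠ 1 → (χ : G → ℂ) (x * y) = 0) ∧ (∀ z : G, IsConj (x * y) z ↔ (x * y)⁻¹ * z ∈ commutator G) := by
  classical
  haveI := Fintype.ofFinite G
  have hconst : ∀ (a b : G) (χ : IrrCharacter G),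
      (χ : G → ℂ) (a * x * a⁻¹ * (b * y * b⁻¹)) = (χ : G → ℂ) x * (χ : G → ℂ) y := by
    intro a b χ
    have hcf := isClassFunction_of_char (isCharacter_of_irr χ.2)
    rw [h a b χ, hcf x a, hcf y b]
  have hmul : ∀ χ : IrrCharacter G, (χ : G → ℂ) 1 * ((χ : G → ℂ) x * (χ : G → ℂ) y) =
      (χ : G → ℂ) x * (χ : G → ℂ) y := by
    intro χ
    apply Cfsg.Agent.S4754.char_mul_of_const x y χ
    intro b
    have := hconst 1 b χ
    simpa using this
  have hxy : ∀ χ : IrrCharacter G, (χ : G → ℂ) (x * y) = (χ : G → ℂ) x * (χ : G → ℂ) y := by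
    intro χ
    have := hconst 1 1 χ
    simpa using this
  have hvan : ∀ χ : Cfsg.IrrCharacter G, (χ : G → ℂ) 1 ≠ 1 → (χ : G → ℂ) (x * y) = 0 := by
    intro χ hχ
    rw [hxy]
    have h1 := hmul χ
    have h2 : ((χ : G → ℂ) 1 - 1) * ((χ : G → ℂ) x * (χ : G → ℂ) y) = 0 := by
      rw [sub_mul, h1, one_mul, sub_self]
    rcases mul_eq_zero.1 h2 with h3 | h3
    · exact absurd (sub_eq_zero.1 h3) hχ
    · exact h3
  refine ⟨?_, hvan, ?_⟩
  · rw [Cfsg.Agent.S4754.result]
    intro a b χ
    rw [hconst a b χ, hmul χ]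
  · -- the class of `x * y` is a coset of the commutator subgroup
    set w := x * y with hw
    have hsub : {z : G | IsConj w z} ⊆ {z : G | w⁻¹ * z ∈ commutator G} := by
      intro z hz
      obtain ⟨c, hc⟩ := isConj_iff.1 hz
      simp only [Set.mem_ofPred_eq]
      rw [← hc, commutator_def]
      have : w⁻¹ * (c * w * c⁻¹) = ⁅w⁻¹, c⁆ := by
        rw [commutatorElement_def]; group
      rw [this]
      exact Subgroup.commutator_mem_commutator (Subgroup.mem_top _) (Subgroup.mem_top _)
    have hcardD : Nat.card {z : G // w⁻¹ * z ∈ commutator G} = Nat.card (commutator G) := by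
      apply Nat.card_congr
      refine ⟨fun z => ⟨w⁻¹ * z.1, z.2⟩, fun k => ⟨w * k.1, by simp⟩, ?_, ?_⟩
      · intro z; simp
      · intro k; simp
    have hcardC : Nat.card {z : G // IsConj w z} = Nat.card (commutator G) := by
      have h1 := Cfsg.Agent.Lib.Helper2.card_centralizer_mul_card_conj w
      rw [card_centralizer_of_vanish w hvan] at h1
      have h2 := Subgroup.card_mul_index (commutator G)
      rw [mul_comm] at h2
      have hpos : 0 < (commutator G).index := Nat.pos_of_ne_zero (Subgroup.index_ne_zero_of_finite)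
      exact Nat.eq_of_mul_eq_mul_left hpos (h1.trans h2.symm)
    have heq : {z : G | IsConj w z} = {z : G | w⁻¹ * z ∈ commutator G} := by
      apply Set.eq_of_subset_of_ncard_le hsub _ (Set.toFinite _)
      rw [← Nat.card_coe_set_eq, ← Nat.card_coe_set_eq]
      exact le_of_eq (hcardD.trans hcardC.symm)
    intro z
    have := Set.ext_iff.1 heq z
    simpa using this

end Cfsg.Agent.S4755
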