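import Cfsg.Statements.S4035
import Cfsg.Agent.Lib.Helper22.Jordan
import Cfsg.Agent.Lib.Helper22.Conj
import Cfsg.Agent.Lib.Helper22.PElt
import Cfsg.Agent.Lib.Helper13.Sylow

set_option autoImplicit false
open Cfsg

namespace Cfsg.Agent.S4035

open Cfsg.Agent.Lib.Helper22

/-- Let G be a finite group and p a prime such that p divides the size of no conjugacy class of p-regular elements (elements of order prime to p). Then G is the internal direct product of a Sylow p-subgroup P and a normal subgroup H of order prime to p: P is normal, P ⊓ H = 1 and PH = G. -/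
theorem result {G : Type*} [Group G] [Finite G] {p : ℕ} [Fact p.Prime]
    (h : ∀ x : G, (orderOf x).Coprime p → ¬ p ∣ (ConjClasses.mk x).carrier.ncard) (P : Sylow p G) :
    (P : Subgroup G).Normal ∧ ∃ H : Subgroup G, H.Normal ∧ ¬ p ∣ Nat.card H ∧
      (P : Subgroup G) ⊓ H = ⊥ ∧ (P : Subgroup G) ⊔ H = ⊤ := by
  have hp : p.Prime := Fact.out
  set C := Subgroup.centralizer ((P : Subgroup G) : Set G) with hC
  -- G is the union of conjugates of P C_G(P)
  have hM : (P : Subgroup G) ⊔ C = ⊤ := by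
    by_contra hne
    obtain ⟨g, hg⟩ := exists_forall_conj_not_mem _ hne
    obtain ⟨t, u, ht, hu, hgtu, ⟨k, hk⟩, hucop⟩ := exists_p_decomp p g
    have hidx : ¬ p ∣ (Subgroup.centralizer ({u} : Set G)).index := by
      rw [index_centralizer_eq_ncard_carrier]
      exact h u hucop
    have htu : t ∈ Subgroup.centralizer ({u} : Set G) := by
      rw [Subgroup.mem_centralizer_iff]
      intro z hz
      rw [Set.mem_singleton_iff] at hz
      rw [hz]
      obtain ⟨i, hi⟩ := Subgroup.mem_zpowers_iff.mp ht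
      obtain ⟨j, hj⟩ := Subgroup.mem_zpowers_iff.mp hu
      rw [← hi, ← hj, ← zpow_add, ← zpow_add, add_comm]
    obtain ⟨Q, hQC, htQ⟩ := exists_sylow_le_mem_of_not_dvd_index _ hidx t htu k hk
    obtain ⟨x, hx⟩ := MulAction.exists_smul_eq G P Q
    apply hg x
    have h1 : x⁻¹ * t * x ∈ (P : Subgroup G) := by
      rw [← Cfsg.Agent.Lib.Helper13.mem_smul_sylow_iff, hx]; exact htQ
    have h2 : x⁻¹ * u * x ∈ C := by
      rw [hC, Subgroup.mem_centralizer_iff]
      intro s hs
      have hs' : x * s * x⁻¹ ∈ (Q : Subgroup G) := by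
        rw [← hx, Cfsg.Agent.Lib.Helper13.mem_smul_sylow_iff]
        have : x⁻¹ * (x * s * x⁻¹) * x = s := by group
        rw [this]; exact hs
      have h3 := hQC hs'
      rw [Subgroup.mem_centralizer_iff] at h3
      have h4 := h3 u (Set.mem_singleton u)
      calc s * (x⁻¹ * u * x) = x⁻¹ * ((x * s * x⁻¹) * u) * x := by group
        _ = x⁻¹ * (u * (x * s * x⁻¹)) * x := by rw [h4]
        _ = x⁻¹ * u * x * s := by group
    have : x⁻¹ * g * x = (x⁻¹ * t * x) * (x⁻¹ * u * x) := by rw [hgtu]; group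
    rw [this]
    exact Subgroup.mul_mem_sup h1 h2
  -- P is normal
  have hPn : (P : Subgroup G).Normal := by
    rw [← Subgroup.normalizer_eq_top_iff, eq_top_iff, ← hM]
    apply sup_le Subgroup.le_normalizer
    intro c hc
    rw [Subgroup.mem_set_normalizer_iff]
    intro s
    have hcs : ∀ s ∈ (P : Subgroup G), c * s * c⁻¹ = s := by
      intro s hs
      rw [hC, Subgroup.mem_centralizer_iff] at hc
      rw [← hc s hs]; group
    constructor
    · intro hs
      rw [hcs s hs]; exact hs
    · intro hs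
      have hc' : c⁻¹ ∈ C := C.inv_mem hc
      rw [hC, Subgroup.mem_centralizer_iff] at hc'
      have := hc' _ hs
      have e : s = c⁻¹ * (c * s * c⁻¹) * c := by group
      rw [e, ← this]
      have : c * s * c⁻¹ * c⁻¹ * c = c * s * c⁻¹ := by group
      rw [this]; exact hs
  refine ⟨hPn, ?_⟩
  have := hPn
  have : C.Normal := by rw [hC]; exact Subgroup.normal_centralizer
  -- the index of C is a power of p
  have hCidx : C.index ∣ Nat.card (P : Subgroup G) := by
    have h1 : C.index = C.relIndex (P : Subgroup G) := by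
      rw [← Subgroup.relIndex_top_right, ← hM, Subgroup.relIndex_sup_right]
    rw [h1]
    exact Subgroup.relIndex_dvd_card _ _
  obtain ⟨n, hn⟩ := IsPGroup.iff_card.mp P.2
  obtain ⟨H, hH⟩ := Subgroup.exists_right_complement'_of_coprime (N := (P : Subgroup G)) P.card_coprime_index
  have hHcard : Nat.card H = (P : Subgroup G).index := hH.symm.index_eq_card.symm
  have hpH : ¬ p ∣ Nat.card H := by rw [hHcard]; exact P.not_dvd_index
  have hHC : H ≤ C := by
    intro y hy
    apply mem_of_coprime_index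
    have h1 : orderOf y ∣ Nat.card H := Subgroup.orderOf_dvd_natCard H hy
    have h2 : (Nat.card H).Coprime (p ^ n) :=
      Nat.Coprime.pow_right n ((Nat.Prime.coprime_iff_not_dvd hp).mpr hpH).symm
    rw [← hn] at h2
    exact Nat.Coprime.coprime_dvd_left h1 (Nat.Coprime.coprime_dvd_right hCidx h2)
  refine ⟨H, ?_, hpH, disjoint_iff.mp (Subgroup.IsComplement'.disjoint hH), Subgroup.IsComplement'.sup_eq_top hH⟩
  constructor
  intro y hy g
  obtain ⟨⟨⟨s, hs⟩, ⟨h₀, hh₀⟩⟩, hsg⟩ := hH.existsUnique g |>.exists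
  simp only at hsg
  rw [← hsg]
  have hyC := hHC hy
  rw [hC, Subgroup.mem_centralizer_iff] at hyC
  have hcomm : s * (h₀ * y * h₀⁻¹) = (h₀ * y * h₀⁻¹) * s := by
    have := hHC (H.mul_mem (H.mul_mem hh₀ hy) (H.inv_mem hh₀))
    rw [hC, Subgroup.mem_centralizer_iff] at this
    exact this s hs
  have : s * h₀ * y * (s * h₀)⁻¹ = (s * (h₀ * y * h₀⁻¹)) * s⁻¹ := by group
  rw [this, hcomm]
  have : h₀ * y * h₀⁻¹ * s * s⁻¹ = h₀ * y * h₀⁻¹ := by group
  rw [this]
  exact H.mul_mem (H.mul_mem hh₀ hy) (H.inv_mem hh₀)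

end Cfsg.Agent.S4035
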