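import Cfsg.Statements.S4134
import Cfsg.Agent.Lib.Helper22.TwoClassSizes
import Cfsg.Agent.Lib.Helper22.Frobenius

set_option autoImplicit false
open Cfsg

namespace Cfsg.Agent.S4134

open Cfsg.Agent.Lib.Helper22 Cfsg.Agent.Lib.Helper22.TwoClass
open scoped Pointwise

variable {G : Type*} [Group G]

/-- a Sylow `r`-subgroup is central when `r` divides no class size -/
theorem sylow_le_center [Finite G] {n : ℕ} (h : TwoCS G n) {r : ℕ} [hr : Fact r.Prime]
    (hrn : ¬ r ∣ n) (R : Sylow r G) : (R : Subgroup G) ≤ Subgroup.center G := by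
  have hM : Subgroup.centralizer ((R : Subgroup G) : Set G) = ⊤ := by
    by_contra hM
    obtain ⟨g, hg⟩ := exists_forall_conj_not_mem _ hM
    have hnd : ¬ r ∣ (Subgroup.centralizer ({g} : Set G)).index := by
      rcases h g with h1 | h1
      · rw [h1]; exact hr.out.not_dvd_one
      · rw [h1]; exact hrn
    obtain ⟨R', hR'le, -⟩ := exists_sylow_le_mem_of_not_dvd_index
      (Subgroup.centralizer ({g} : Set G)) hnd 1 (Subgroup.one_mem _) 0 (by simp)
    obtain ⟨y, rfl⟩ := MulAction.exists_smul_eq G R R'
    apply hg y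
    rw [Subgroup.mem_centralizer_iff]
    intro u hu
    have h1 : y * u * y⁻¹ ∈ ((y • R : Sylow r G) : Subgroup G) := by
      rw [Sylow.coe_subgroup_smul, mem_conj_smul_iff]
      exact ⟨u, hu, rfl⟩
    have h2 := Subgroup.mem_centralizer_singleton_iff.mp (hR'le h1)
    calc u * (y⁻¹ * g * y) = y⁻¹ * ((y * u * y⁻¹) * g) * y := by group
      _ = y⁻¹ * (g * (y * u * y⁻¹)) * y := by rw [h2]
      _ = y⁻¹ * g * y * u := by group
  intro u hu
  rw [Subgroup.mem_center_iff]
  intro g
  have hg : g ∈ Subgroup.centralizer ((R : Subgroup G) : Set G) := by rw [hM]; trivial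
  exact (Subgroup.mem_centralizer_iff.mp hg u hu).symm

/-- Lemma C: `p'`-elements are central -/
theorem mem_center_of_coprime [Finite G] {n : ℕ} (h : TwoCS G n) {p : ℕ}
    (hp : ∀ r : ℕ, r.Prime → r ∣ n → r = p) {g : G} (hg : (orderOf g).Coprime p) :
    g ∈ Subgroup.center G := by
  by_contra hgc
  obtain ⟨r, t, hr, ht, ⟨j, hj⟩, htc⟩ := exists_primary_not_mem_center _ g rfl hgc
  have : Fact r.Prime := ⟨hr⟩
  have hj0 : j ≠ 0 := by
    rintro rfl
    rw [pow_zero, orderOf_eq_one_iff] at hj
    exact htc (hj ▸ Subgroup.one_mem _)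
  have hrd : r ∣ orderOf g := by
    have h1 : orderOf t ∣ orderOf g := orderOf_dvd_of_mem_zpowers ht
    rw [hj] at h1
    exact dvd_trans (dvd_pow_self r hj0) h1
  have hrp : r ≠ p := by
    rintro rfl
    exact (Nat.Prime.coprime_iff_not_dvd hr).mp hg.symm hrd
  have hrn : ¬ r ∣ n := fun hrn => hrp (hp r hr hrn)
  obtain ⟨R, hR⟩ := exists_sylow_mem t ⟨j, hj⟩
  exact htc (sylow_le_center h hrn R hR)

/-- Let G be a finite group whose conjugacy classes have exactly two sizes, 1 and n > 1. Then n is a power of a prime p and G is the direct product of a p-group and an abelian group of order prime to p: its Sylow p-subgroup P is normal with an abelian normal complement centralizing it; moreover P has an abelian normal subgroup A with P/A of exponent dividing p. -/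
theorem result {G : Type*} [Group G] [Finite G] (n : ℕ) (hn : 1 < n)
    (h : ∀ x : G, (Subgroup.centralizer ({x} : Set G)).index = 1 ∨ (Subgroup.centralizer ({x} : Set G)).index = n) (hex : ∃ x : G, (Subgroup.centralizer ({x} : Set G)).index = n) :
    ∃ (p : ℕ) (_ : Fact p.Prime) (a : ℕ), n = p ^ a ∧ ∀ P : Sylow p G, (P : Subgroup G).Normal ∧
      (∃ N : Subgroup G, N.Normal ∧ N.IsComplement' (P : Subgroup G) ∧ IsMulCommutative N ∧
        ∀ x ∈ N, ∀ y ∈ (P : Subgroup G), x * y = y * x) ∧
      ∃ A : Subgroup (P : Subgroup G), A.Normal ∧ IsMulCommutative A ∧ ∀ y : (P : Subgroup G), y ^ p ∈ A := by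
  have hT : TwoCS G n := h
  set p := n.minFac with hp_def
  have hpp : p.Prime := Nat.minFac_prime (by omega)
  have hpn : p ∣ n := Nat.minFac_dvd n
  have hfact : Fact p.Prime := ⟨hpp⟩
  have huniq : ∀ r : ℕ, r.Prime → r ∣ n → r = p :=
    fun r hr hrn => prime_dvd_unique hT hn hex hr hpp hrn hpn
  have hna : n = p ^ n.primeFactorsList.length :=
    Nat.eq_prime_pow_of_unique_prime_dvd (by omega) (fun {d} hd hdn => huniq d hd hdn)
  refine ⟨p, hfact, n.primeFactorsList.length, hna, ?_⟩
  intro P
  -- non-central element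
  obtain ⟨x₁, hx₁⟩ : ∃ x₁ : G, x₁ ∉ Subgroup.center G := by
    obtain ⟨x₁, hx₁⟩ := hex
    refine ⟨x₁, fun hc => ?_⟩
    have : Subgroup.centralizer ({x₁} : Set G) = ⊤ := by
      rw [eq_top_iff]
      intro g _
      exact Subgroup.mem_centralizer_singleton_iff.mpr (Subgroup.mem_center_iff.mp hc g)
    rw [this, Subgroup.index_top] at hx₁
    omega
  -- `P` is normal
  have hPn : (P : Subgroup G).Normal := by
    rw [← Subgroup.normalizer_eq_top_iff, ← Subgroup.index_eq_one]
    rw [Nat.eq_one_iff_not_exists_prime_dvd]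
    intro r hr hrd
    have : Fact r.Prime := ⟨hr⟩
    by_cases hrp : r = p
    · subst hrp
      exact P.not_dvd_index (hrd.trans (Subgroup.index_dvd_of_le Subgroup.le_normalizer))
    · have hrn : ¬ r ∣ n := fun hrn => hrp (huniq r hr hrn)
      obtain ⟨R⟩ : Nonempty (Sylow r G) := inferInstance
      have hle : (R : Subgroup G) ≤ Subgroup.normalizer ((P : Subgroup G) : Set G) :=
        (sylow_le_center hT hrn R).trans (Subgroup.center_le_normalizer _)
      exact R.not_dvd_index (hrd.trans (Subgroup.index_dvd_of_le hle))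
  refine ⟨hPn, ?_, ?_⟩
  · -- the complement
    let N : Subgroup G :=
      { carrier := {g | g ∈ Subgroup.center G ∧ (orderOf g).Coprime p}
        mul_mem' := by
          rintro a b ⟨ha, hac⟩ ⟨hb, hbc⟩
          refine ⟨Subgroup.mul_mem _ ha hb, ?_⟩
          have hcomm : Commute a b := (Subgroup.mem_center_iff.mp hb a)
          exact Nat.Coprime.coprime_dvd_left hcomm.orderOf_mul_dvd_mul_orderOf
            (Nat.Coprime.mul_left hac hbc)
        one_mem' := ⟨Subgroup.one_mem _, by simp⟩
        inv_mem' := by
          rintro a ⟨ha, hac⟩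
          exact ⟨Subgroup.inv_mem _ ha, by rwa [orderOf_inv]⟩ }
    have hNZ : N ≤ Subgroup.center G := fun g hg => hg.1
    have hNn : N.Normal := by
      constructor
      intro g hg y
      have h1 : y * g * y⁻¹ = g := by
        have := Subgroup.mem_center_iff.mp hg.1 y
        rw [this]; group
      rw [h1]
      exact hg
    refine ⟨N, hNn, ?_, ?_, ?_⟩
    · apply Subgroup.isComplement'_of_disjoint_and_mul_eq_univ
      · rw [Subgroup.disjoint_def]
        intro g hgN hgP
        obtain ⟨k, hk⟩ := isPElt_of_mem_sylow P g hgP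
        have h1 : (orderOf g).Coprime p := hgN.2
        rw [hk] at h1
        rcases Nat.eq_zero_or_pos k with h0 | h0
        · rw [h0, pow_zero] at hk
          exact orderOf_eq_one_iff.mp hk
        · exfalso
          have h2 : p ∣ p ^ k := dvd_pow_self p h0.ne'
          have h3 := Nat.Coprime.eq_one_of_dvd h1.symm h2
          exact hpp.ne_one h3
      · rw [Set.eq_univ_iff_forall]
        intro g
        obtain ⟨t, u, ht, hu, hgtu, htp, hup⟩ := exists_p_decomp p g
        have htP : t ∈ (P : Subgroup G) := by
          obtain ⟨P', hP'⟩ := exists_sylow_mem t htp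
          obtain ⟨y, rfl⟩ := MulAction.exists_smul_eq G P P'
          have : (P : Subgroup G).Normal := hPn
          rwa [Sylow.smul_eq_of_normal] at hP'
        have huN : u ∈ N := ⟨mem_center_of_coprime hT huniq hup, hup⟩
        refine Set.mem_mul.mpr ⟨u, huN, t, htP, ?_⟩
        rw [hgtu]
        exact (commute_of_mem_zpowers ht hu).eq.symm
    · exact ⟨⟨fun a b => Subtype.ext ((Subgroup.mem_center_iff.mp a.2.1 b).symm)⟩⟩
    · intro x hx y _
      exact (Subgroup.mem_center_iff.mp hx.1 y).symm
  · -- the abelian normal subgroup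
    -- `G ⧸ Z(G)` is a nontrivial `p`-group
    have hPG : IsPGroup p (G ⧸ Subgroup.center G) := by
      intro gb
      obtain ⟨g, rfl⟩ := QuotientGroup.mk_surjective gb
      obtain ⟨t, u, ht, hu, hgtu, ⟨k, hk⟩, hup⟩ := exists_p_decomp p g
      refine ⟨k, ?_⟩
      have huc : u ∈ Subgroup.center G := mem_center_of_coprime hT huniq hup
      rw [← QuotientGroup.mk_pow, QuotientGroup.eq_one_iff, hgtu,
        (commute_of_mem_zpowers ht hu).mul_pow, ← hk, pow_orderOf_eq_one, one_mul]
      exact Subgroup.pow_mem _ huc _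
    have hnt : Nontrivial (G ⧸ Subgroup.center G) := by
      refine ⟨⟨QuotientGroup.mk x₁, 1, fun h1 => hx₁ ((QuotientGroup.eq_one_iff x₁).mp h1)⟩⟩
    have hcn := hPG.center_nontrivial
    have hcp : IsPGroup p (Subgroup.center (G ⧸ Subgroup.center G)) := hPG.to_subgroup _
    have hdvd : p ∣ Nat.card (Subgroup.center (G ⧸ Subgroup.center G)) := by
      obtain ⟨k, hk⟩ := IsPGroup.iff_card.mp hcp
      rw [hk]
      have hk0 : k ≠ 0 := by
        rintro rfl
        rw [pow_zero] at hk
        have := Finite.one_lt_card_iff_nontrivial.mpr hcn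
        omega
      exact dvd_pow_self p hk0
    obtain ⟨⟨zb, hzb⟩, hzo⟩ := exists_prime_orderOf_dvd_card' p hdvd
    have hzo' : orderOf zb = p := by
      rw [← hzo]
      exact (Subgroup.orderOf_mk zb hzb).symm
    obtain ⟨z, rfl⟩ := QuotientGroup.mk_surjective zb
    have hzc : z ∉ Subgroup.center G := by
      intro hz
      have h1 : (QuotientGroup.mk z : G ⧸ Subgroup.center G) = 1 := (QuotientGroup.eq_one_iff z).mpr hz
      rw [h1, orderOf_one] at hzo'
      exact hpp.ne_one hzo'.symm
    -- conjugates of `z` are `z` times central elements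
    have hzconj : ∀ g : G, ∃ ζ ∈ Subgroup.center G, g * z * g⁻¹ = z * ζ := by
      intro g
      have h1 : (QuotientGroup.mk g : G ⧸ Subgroup.center G) * QuotientGroup.mk z =
          QuotientGroup.mk z * QuotientGroup.mk g := Subgroup.mem_center_iff.mp hzb _
      rw [← QuotientGroup.mk_mul, ← QuotientGroup.mk_mul] at h1
      have h2 : (z * g)⁻¹ * (g * z) ∈ Subgroup.center G := QuotientGroup.eq.mp h1.symm
      refine ⟨(z * g)⁻¹ * (g * z), h2, ?_⟩
      have h4 := Subgroup.mem_center_iff.mp h2 g⁻¹
      calc g * z * g⁻¹ = z * g * ((z * g)⁻¹ * (g * z)) * g⁻¹ := by group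
        _ = z * g * (g⁻¹ * ((z * g)⁻¹ * (g * z))) := by rw [h4]; group
        _ = z * ((z * g)⁻¹ * (g * z)) := by group
    set Cz := Subgroup.centralizer ({z} : Set G) with hCz
    have hCzn : Cz.Normal := by
      constructor
      intro u hu g
      obtain ⟨ζ, hζ, hgz⟩ := hzconj g⁻¹
      rw [inv_inv] at hgz
      have huz : u * z = z * u := Subgroup.mem_centralizer_singleton_iff.mp hu
      have hζu : u * ζ = ζ * u := Subgroup.mem_center_iff.mp hζ u
      rw [hCz, Subgroup.mem_centralizer_singleton_iff]
      calc g * u * g⁻¹ * z = g * u * (g⁻¹ * z * g) * g⁻¹ := by group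
        _ = g * u * (z * ζ) * g⁻¹ := by rw [hgz]
        _ = g * (u * z) * ζ * g⁻¹ := by group
        _ = g * (z * u) * ζ * g⁻¹ := by rw [huz]
        _ = g * z * (u * ζ) * g⁻¹ := by group
        _ = g * z * (ζ * u) * g⁻¹ := by rw [hζu]
        _ = g * (z * ζ) * u * g⁻¹ := by group
        _ = g * (g⁻¹ * z * g) * u * g⁻¹ := by rw [hgz]
        _ = z * (g * u * g⁻¹) := by group
    let B₀ : Subgroup G := Cz ⊓ Subgroup.centralizer (Cz : Set G)
    have hB₀n : B₀.Normal := inferInstance
    have hB₀c : ∀ a ∈ B₀, ∀ b ∈ B₀, a * b = b * a := by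
      intro a ha b hb
      exact Subgroup.mem_centralizer_iff.mp hb.2 a ha.1
    have hZB₀ : Subgroup.center G ≤ B₀ :=
      le_inf (Subgroup.center_le_centralizer _) (Subgroup.center_le_centralizer _)
    have hpow : ∀ g : G, g ^ p ∈ B₀ := by
      intro g
      by_cases hgp : g ^ p ∈ Subgroup.center G
      · exact hZB₀ hgp
      · have hgc : g ∉ Subgroup.center G := fun hg => hgp (Subgroup.pow_mem _ hg p)
        have e1 : Subgroup.centralizer ({g} : Set G) = Subgroup.centralizer ({g ^ p} : Set G) :=
          centralizer_eq_of_le hT hgc hgp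
            (centralizer_le_of_mem_zpowers (Subgroup.npow_mem_zpowers g p))
        -- `(g z) ^ p = g ^ p * ζ`
        have h1 : (QuotientGroup.mk ((g * z) ^ p) : G ⧸ Subgroup.center G) =
            QuotientGroup.mk (g ^ p) := by
          have hcm : Commute (QuotientGroup.mk g : G ⧸ Subgroup.center G) (QuotientGroup.mk z) :=
            Subgroup.mem_center_iff.mp hzb _
          rw [QuotientGroup.mk_pow, QuotientGroup.mk_mul, hcm.mul_pow, ← hzo', pow_orderOf_eq_one,
            mul_one, QuotientGroup.mk_pow]
        have h2 : (g ^ p)⁻¹ * (g * z) ^ p ∈ Subgroup.center G := QuotientGroup.eq.mp h1.symm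
        set ζ := (g ^ p)⁻¹ * (g * z) ^ p with hζ
        have h3 : (g * z) ^ p = g ^ p * ζ := by rw [hζ]; group
        have hgzp : (g * z) ^ p ∉ Subgroup.center G := by
          intro hc
          apply hgp
          have : g ^ p = (g * z) ^ p * ζ⁻¹ := by rw [h3]; group
          rw [this]
          exact Subgroup.mul_mem _ hc (Subgroup.inv_mem _ h2)
        have hgzc : g * z ∉ Subgroup.center G := fun hc => hgzp (Subgroup.pow_mem _ hc p)
        have e2 : Subgroup.centralizer ({g * z} : Set G) =
            Subgroup.centralizer ({(g * z) ^ p} : Set G) :=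
          centralizer_eq_of_le hT hgzc hgzp
            (centralizer_le_of_mem_zpowers (Subgroup.npow_mem_zpowers (g * z) p))
        have e3 : Subgroup.centralizer ({(g * z) ^ p} : Set G) =
            Subgroup.centralizer ({g ^ p} : Set G) := by
          ext w
          rw [Subgroup.mem_centralizer_singleton_iff, Subgroup.mem_centralizer_singleton_iff, h3]
          have hw : w * ζ = ζ * w := Subgroup.mem_center_iff.mp h2 w
          constructor
          · intro hw1
            have : w * g ^ p * ζ = g ^ p * w * ζ := by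
              calc w * g ^ p * ζ = w * (g ^ p * ζ) := by group
                _ = g ^ p * ζ * w := hw1
                _ = g ^ p * (ζ * w) := by group
                _ = g ^ p * (w * ζ) := by rw [hw]
                _ = g ^ p * w * ζ := by group
            exact mul_right_cancel this
          · intro hw1
            calc w * (g ^ p * ζ) = (w * g ^ p) * ζ := by group
              _ = (g ^ p * w) * ζ := by rw [hw1]
              _ = g ^ p * (w * ζ) := by group
              _ = g ^ p * (ζ * w) := by rw [hw]
              _ = g ^ p * ζ * w := by group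
        have e4 : Subgroup.centralizer ({g * z} : Set G) = Subgroup.centralizer ({g} : Set G) := by
          rw [e2, e3, e1]
        have hle : Subgroup.centralizer ({g} : Set G) ≤ Cz := by
          intro w hw
          have hw1 : w * g = g * w := Subgroup.mem_centralizer_singleton_iff.mp hw
          have hw2 : w * (g * z) = (g * z) * w :=
            Subgroup.mem_centralizer_singleton_iff.mp (e4 ▸ hw)
          rw [hCz, Subgroup.mem_centralizer_singleton_iff]
          have : g * (w * z) = g * (z * w) := by
            calc g * (w * z) = (g * w) * z := by group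
              _ = (w * g) * z := by rw [hw1]
              _ = w * (g * z) := by group
              _ = g * z * w := hw2
              _ = g * (z * w) := by group
          exact mul_left_cancel this
        have e5 : Subgroup.centralizer ({g} : Set G) = Cz := centralizer_eq_of_le hT hgc hzc hle
        have hgB : g ∈ B₀ := by
          refine ⟨e5 ▸ Subgroup.mem_centralizer_singleton_iff.mpr rfl, ?_⟩
          show g ∈ Subgroup.centralizer (Cz : Set G)
          rw [Subgroup.mem_centralizer_iff]
          intro w hw
          have hw' : w ∈ Subgroup.centralizer ({g} : Set G) := by rw [e5]; exact hw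
          exact Subgroup.mem_centralizer_singleton_iff.mp hw'
        exact B₀.pow_mem hgB p
    refine ⟨B₀.subgroupOf (P : Subgroup G), hB₀n.subgroupOf _, ?_, ?_⟩
    · exact ⟨⟨fun a b => Subtype.ext (Subtype.ext (hB₀c _ a.2 _ b.2))⟩⟩
    · intro y
      rw [Subgroup.mem_subgroupOf, Subgroup.coe_pow]
      exact hpow y

end Cfsg.Agent.S4134
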