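import Cfsg.Statements.S4127
import Cfsg.Agent.S4035
import Cfsg.Agent.Lib.Helper1.Cores
import Cfsg.Agent.Lib.Helper1.Basic
import Cfsg.Agent.Lib.Helper4.ComplementSystem
import Cfsg.Agent.Lib.Helper13.PNilpotent
import Cfsg.Agent.Lib.Helper17.Coprime
import Cfsg.Agent.Lib.Helper22.Jordan
import Cfsg.Agent.Lib.Helper22.Conj
import Cfsg.Agent.Lib.Helper22.PElt
import Cfsg.Agent.Lib.Helper22.TwoClosed

set_option autoImplicit false
open Cfsg

namespace Cfsg.Agent.S4127

open Cfsg.Agent.Lib.Helper1 Cfsg.Agent.Lib.Helper22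

/-- centralizer of a product of commuting elements of coprime orders. -/
theorem centralizer_mul_of_coprime {G : Type*} [Group G] {x y : G} (hc : Commute x y)
    (hcop : (orderOf x).Coprime (orderOf y)) :
    Subgroup.centralizer ({x * y} : Set G) =
      Subgroup.centralizer ({x} : Set G) ⊓ Subgroup.centralizer ({y} : Set G) := by
  apply le_antisymm
  · intro g hg
    have hg' : g * (x * y) = x * y * g := by
      have := (Subgroup.mem_centralizer_iff.mp hg) (x * y) (Set.mem_singleton _)
      exact this.symm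
    -- `x * y ∈ centralizer {g}`
    have hxy : x * y ∈ Subgroup.centralizer ({g} : Set G) := by
      rw [Subgroup.mem_centralizer_iff]
      intro z hz
      rw [Set.mem_singleton_iff] at hz
      rw [hz]; exact hg'
    have hx : x ∈ Subgroup.centralizer ({g} : Set G) := by
      apply mem_of_pow_mem_of_coprime _ x hcop
      · rw [pow_orderOf_eq_one]; exact Subgroup.one_mem _
      · have : x ^ orderOf y = (x * y) ^ orderOf y := by
          rw [hc.mul_pow, pow_orderOf_eq_one, mul_one]
        rw [this]; exact Subgroup.pow_mem _ hxy _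
    have hy : y ∈ Subgroup.centralizer ({g} : Set G) := by
      apply mem_of_pow_mem_of_coprime _ y hcop
      · have : y ^ orderOf x = (x * y) ^ orderOf x := by
          rw [hc.mul_pow, pow_orderOf_eq_one, one_mul]
        rw [this]; exact Subgroup.pow_mem _ hxy _
      · rw [pow_orderOf_eq_one]; exact Subgroup.one_mem _
    rw [Subgroup.mem_inf, Subgroup.mem_centralizer_iff, Subgroup.mem_centralizer_iff]
    constructor
    · intro z hz
      rw [Set.mem_singleton_iff] at hz
      rw [hz]
      exact ((Subgroup.mem_centralizer_iff.mp hx) g (Set.mem_singleton _)).symm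
    · intro z hz
      rw [Set.mem_singleton_iff] at hz
      rw [hz]
      exact ((Subgroup.mem_centralizer_iff.mp hy) g (Set.mem_singleton _)).symm
  · intro g hg
    obtain ⟨h1, h2⟩ := Subgroup.mem_inf.mp hg
    have h1' := (Subgroup.mem_centralizer_iff.mp h1) x (Set.mem_singleton _)
    have h2' := (Subgroup.mem_centralizer_iff.mp h2) y (Set.mem_singleton _)
    rw [Subgroup.mem_centralizer_iff]
    intro z hz
    rw [Set.mem_singleton_iff] at hz
    rw [hz, mul_assoc, h2', ← mul_assoc, h1', mul_assoc]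


theorem result {G : Type*} [Group G] [Finite G] (p : ℕ) [Fact p.Prime]
    (a : ℕ) (hmax : ∀ y : G, ¬ p ^ (a + 1) ∣ (Subgroup.centralizer ({y} : Set G)).index)
    (hx : ∃ x : G, (∃ k : ℕ, orderOf x = p ^ k) ∧ (Subgroup.centralizer ({x} : Set G)).index = p ^ a) :
    Cfsg.HasNormalPComplement p G := by
  have hp : p.Prime := Fact.out
  obtain ⟨x, ⟨k, hk⟩, hidx⟩ := hx
  set C := Subgroup.centralizer ({x} : Set G) with hC
  have hxC : ∀ c ∈ C, c * x = x * c := fun c hc =>
    ((Subgroup.mem_centralizer_iff.mp hc) x (Set.mem_singleton _)).symm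
  -- Step A: `p'`-elements of `C` have class size in `C` prime to `p`
  have stepA : ∀ y : ↥C, (orderOf y).Coprime p → ¬ p ∣ (ConjClasses.mk y).carrier.ncard := by
    intro y hy hdvd
    rw [← index_centralizer_eq_ncard_carrier] at hdvd
    have h1 : Subgroup.centralizer ({y} : Set ↥C) =
        (Subgroup.centralizer ({(y : G)} : Set G)).subgroupOf C := by
      ext g
      rw [Subgroup.mem_subgroupOf, Subgroup.mem_centralizer_iff, Subgroup.mem_centralizer_iff]
      constructor
      · intro h z hz
        rw [Set.mem_singleton_iff] at hz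
        have := h y (Set.mem_singleton _)
        rw [hz]
        exact congrArg Subtype.val this
      · intro h z hz
        rw [Set.mem_singleton_iff] at hz
        rw [hz]
        apply Subtype.ext
        exact h (y : G) (Set.mem_singleton _)
    rw [h1] at hdvd
    have hcomm : Commute x (y : G) := (hxC y y.2).symm
    have hcop : (orderOf x).Coprime (orderOf (y : G)) := by
      rw [hk, Subgroup.orderOf_coe]
      exact Nat.Coprime.pow_left k hy.symm
    have h2 := centralizer_mul_of_coprime hcomm hcop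
    have h3 : (Subgroup.centralizer ({x * (y : G)} : Set G)).index =
        ((Subgroup.centralizer ({(y : G)} : Set G)).subgroupOf C).index * p ^ a := by
      rw [h2, ← hC, ← hidx, ← Subgroup.relIndex_mul_index (inf_le_left : C ⊓ _ ≤ C),
        Subgroup.inf_relIndex_left]
      rfl
    apply hmax (x * (y : G))
    rw [h3, pow_succ, mul_comm]
    exact Nat.mul_dvd_mul_right hdvd _
  -- Step B: `C = P₀ × H₀`
  obtain ⟨P₀⟩ : Nonempty (Sylow p ↥C) := inferInstance
  obtain ⟨hP₀n, H₀, hH₀n, hH₀p, hdisj, hsup⟩ := Cfsg.Agent.S4035.result stepA P₀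
  have hcompl : Subgroup.IsComplement' (P₀ : Subgroup ↥C) H₀ :=
    isComplement'_of_disjoint_of_sup_eq_top (disjoint_iff.mpr hdisj) hsup
  have hH₀idx : H₀.index = Nat.card (P₀ : Subgroup ↥C) := hcompl.index_eq_card.symm ▸ rfl
  obtain ⟨n₀, hn₀⟩ := IsPGroup.iff_card.mp P₀.2
  -- membership criteria in `P₀` and `H₀`
  have memP₀ : ∀ c : ↥C, (∃ j : ℕ, orderOf c = p ^ j) → c ∈ (P₀ : Subgroup ↥C) := by
    rintro c ⟨j, hj⟩
    apply mem_of_coprime_index (P₀ : Subgroup ↥C) c
    rw [hj]
    exact Nat.Coprime.pow_left j ((Nat.Prime.coprime_iff_not_dvd hp).mpr P₀.not_dvd_index)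
  have memH₀ : ∀ c : ↥C, (orderOf c).Coprime p → c ∈ H₀ := by
    intro c hc
    apply mem_of_coprime_index H₀ c
    rw [hH₀idx, hn₀]
    exact Nat.Coprime.pow_right n₀ hc
  -- elements of `P₀` and `H₀` commute
  have hcommPH : ∀ u ∈ (P₀ : Subgroup ↥C), ∀ h ∈ H₀, u * h = h * u := by
    intro u hu h hh
    exact Subgroup.commute_of_normal_of_disjoint _ _ hP₀n hH₀n (disjoint_iff.mpr hdisj) u h hu hh
  -- Step C: `x ∈ O_p(G)`
  have hxU : x ∈ pCore p G := by
    obtain ⟨P, hxP⟩ := exists_sylow_mem (p := p) x ⟨k, hk⟩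
    have hcopidx : (P : Subgroup G).index.Coprime C.index := by
      rw [hidx]
      exact Nat.Coprime.pow_right a ((Nat.Prime.coprime_iff_not_dvd hp).mpr P.not_dvd_index).symm
    have hconj : ∀ g : G, g * x * g⁻¹ ∈ (P : Subgroup G) := by
      intro g
      obtain ⟨u, hu, c, hc, rfl⟩ := Cfsg.Agent.Lib.Helper4.exists_mul_of_coprime_index _ _ hcopidx g
      have : u * c * x * (u * c)⁻¹ = u * x * u⁻¹ := by
        rw [mul_assoc u c x, hxC c hc]; group
      rw [this]
      exact (P : Subgroup G).mul_mem ((P : Subgroup G).mul_mem hu hxP) ((P : Subgroup G).inv_mem hu)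
    have hle : Subgroup.normalClosure ({x} : Set G) ≤ (P : Subgroup G) := by
      unfold Subgroup.normalClosure
      rw [Subgroup.closure_le]
      intro z hz
      rw [Group.mem_conjugatesOfSet_iff] at hz
      obtain ⟨w, hw, hwz⟩ := hz
      rw [Set.mem_singleton_iff] at hw
      subst hw
      obtain ⟨g, rfl⟩ := isConj_iff.mp hwz
      exact hconj g
    have hpg : IsPGroup p (Subgroup.normalClosure ({x} : Set G)) := P.2.to_le hle
    exact le_pCore Subgroup.normalClosure_normal hpg (Subgroup.subset_normalClosure (Set.mem_singleton x))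
  have hUn : (pCore p G).Normal := pCore_normal (G := G) p
  have hUnorm : Subgroup.normalizer ((pCore p G : Subgroup G) : Set G) = ⊤ :=
    Subgroup.normalizer_eq_top_iff.mpr hUn
  -- Step D: `p'`-elements of `C` centralize `O_p(G)`
  have stepD : ∀ y : G, y ∈ C → (orderOf y).Coprime p → ∀ u ∈ pCore p G, y * u = u * y := by
    intro y hyC hy
    have hB : IsPGroup p (Subgroup.zpowers x) :=
      IsPGroup.of_card (n := k) (by rw [Nat.card_zpowers, hk])
    have hab : ∀ b ∈ Subgroup.zpowers x, y * b = b * y := by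
      intro b hb
      have hle : Subgroup.zpowers x ≤ Subgroup.centralizer ({y} : Set G) := by
        rw [Subgroup.zpowers_le, Subgroup.mem_centralizer_iff]
        intro z hz
        rw [Set.mem_singleton_iff] at hz
        rw [hz]; exact hxC y hyC
      exact (Subgroup.mem_centralizer_iff.mp (hle hb)) y (Set.mem_singleton _)
    apply Cfsg.Agent.Lib.Helper17.thompson_AxB hB hy hab (Nat.card (pCore p G)) (pCore p G) rfl
      (pCore_isPGroup p)
    · rw [hUnorm]; exact Subgroup.mem_top _
    · rw [hUnorm]; exact le_top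
    · intro u hu hub
      have huC : u ∈ C := by
        rw [hC, Subgroup.mem_centralizer_iff]
        intro z hz
        rw [Set.mem_singleton_iff] at hz
        rw [hz]
        exact hub x (Subgroup.mem_zpowers x)
      have h1 : (⟨u, huC⟩ : ↥C) ∈ (P₀ : Subgroup ↥C) := by
        apply memP₀
        obtain ⟨j, hj⟩ := isPElt_of_mem_isPGroup hp _ (pCore_isPGroup p) u hu
        exact ⟨j, by rw [Subgroup.orderOf_mk]; exact hj⟩
      have h2 : (⟨y, hyC⟩ : ↥C) ∈ H₀ := by
        apply memH₀
        rw [Subgroup.orderOf_mk]; exact hy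
      have := hcommPH _ h1 _ h2
      exact (congrArg Subtype.val this).symm
  -- Step E: `K = H₀` is a normal `p`-complement of `G`
  have hH₀cop : (Nat.card H₀).Coprime p := ((Nat.Prime.coprime_iff_not_dvd hp).mpr hH₀p).symm
  rw [Cfsg.Agent.Lib.Helper13.hasNormalPComplement_iff_exists]
  refine ⟨H₀.map C.subtype, ?_, ?_, n₀ + a, ?_⟩
  · refine ⟨fun h hh g => ?_⟩
    obtain ⟨h₀, hh₀, rfl⟩ := hh
    have hord : (orderOf (h₀ : G)).Coprime p := by
      rw [Subgroup.orderOf_coe]
      have h1 : orderOf (⟨h₀, hh₀⟩ : ↥H₀) ∣ Nat.card H₀ := orderOf_dvd_natCard _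
      rw [Subgroup.orderOf_mk] at h1
      exact Nat.Coprime.coprime_dvd_left h1 hH₀cop
    have hcent : (h₀ : G) ∈ Subgroup.centralizer ((pCore p G : Subgroup G) : Set G) := by
      rw [Subgroup.mem_centralizer_iff]
      intro u hu
      exact (stepD h₀ h₀.2 hord u hu).symm
    have hcent' : g * (h₀ : G) * g⁻¹ ∈ Subgroup.centralizer ((pCore p G : Subgroup G) : Set G) :=
      (Subgroup.normal_centralizer (H := pCore p G)).conj_mem _ hcent g
    have hgC : g * (h₀ : G) * g⁻¹ ∈ C := by
      show g * (h₀ : G) * g⁻¹ ∈ Subgroup.centralizer ({x} : Set G)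
      rw [Subgroup.mem_centralizer_iff]
      intro z hz
      rw [Set.mem_singleton_iff] at hz
      rw [hz]
      exact (Subgroup.mem_centralizer_iff.mp hcent') x hxU
    refine ⟨⟨g * (h₀ : G) * g⁻¹, hgC⟩, ?_, rfl⟩
    apply memH₀
    rw [Subgroup.orderOf_mk]
    have : orderOf (g * (h₀ : G) * g⁻¹) = orderOf (h₀ : G) := by
      have := (MulAut.conj g).orderOf_eq (h₀ : G)
      simpa using this
    rw [this]; exact hord
  · rw [Subgroup.card_map_of_injective C.subtype_injective]
    exact hH₀cop
  · rw [Subgroup.index_map_subtype, hH₀idx, hn₀, hidx, pow_add]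

end Cfsg.Agent.S4127
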