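import Cfsg.Statements.S1327
import Cfsg.Agent.Lib.Helper10.PComponent
import Cfsg.Agent.Lib.Helper13.Sylow

set_option autoImplicit false
open Cfsg

namespace Cfsg.Agent.S1327

open Cfsg.Agent.Lib.Helper10

/-- the image in `X` of a Sylow `p`-subgroup of `O_{p',p}(X)` meets `O_{p'}(X)` trivially -/
theorem sylow_inf_pPrimeCore {X : Type*} [Group X] [Finite X] (p : ℕ) [Fact p.Prime]
    (P : Sylow p ↥(Cfsg.pPrimePCore p X)) :
    (P : Subgroup ↥(Cfsg.pPrimePCore p X)).map (Cfsg.pPrimePCore p X).subtype ⊓ Cfsg.pPrimeCore p X = ⊥ := by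
  apply disjoint_iff.mp
  apply Subgroup.disjoint_of_coprime_natCard
  have h1 : IsPGroup p ↥((P : Subgroup ↥(Cfsg.pPrimePCore p X)).map (Cfsg.pPrimePCore p X).subtype) :=
    P.2.map _
  obtain ⟨k, hk⟩ := IsPGroup.iff_card.mp h1
  rw [hk]
  exact Nat.Coprime.pow_left k (Cfsg.Agent.Lib.Helper1.pPrimeCore_coprime p).symm

/-- A finite group X is p-constrained if and only if its p-layer L_{p'}(X) is trivial (equivalently X / O_{p'}(X) has trivial layer). -/
theorem result {X : Type*} [Group X] [Finite X] (p : ℕ) [Fact p.Prime] : Cfsg.IsPConstrained p X ↔ Cfsg.pLayer p X = ⊥ := by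
  rw [← centralizer_pCore_quotient_le_iff]
  constructor
  · intro hcon
    obtain ⟨P⟩ : Nonempty (Sylow p ↥(Cfsg.pPrimePCore p X)) := inferInstance
    have hPmap := map_mk_sylow_pPrimePCore p P
    have hdisj := sylow_inf_pPrimeCore p P
    have hPW : (P : Subgroup ↥(Cfsg.pPrimePCore p X)).map (Cfsg.pPrimePCore p X).subtype ≤
        Cfsg.pPrimePCore p X := Subgroup.map_subtype_le _
    intro cb hcb
    obtain ⟨c, rfl⟩ := QuotientGroup.mk'_surjective (Cfsg.pPrimeCore p X) cb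
    apply (mem_pPrimePCore_iff p c).mp
    -- Sylow conjugation inside `O_{p',p}`
    have hPp : IsPGroup p ↥((P : Subgroup ↥(Cfsg.pPrimePCore p X)).map (Cfsg.pPrimePCore p X).subtype) :=
      P.2.map _
    have hidx : ¬ p ∣ ((P : Subgroup ↥(Cfsg.pPrimePCore p X)).map
        (Cfsg.pPrimePCore p X).subtype).relIndex (Cfsg.pPrimePCore p X) := by
      have h1 : ((P : Subgroup ↥(Cfsg.pPrimePCore p X)).map
          (Cfsg.pPrimePCore p X).subtype).subgroupOf (Cfsg.pPrimePCore p X) = P := by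
        rw [Subgroup.subgroupOf, Subgroup.comap_map_eq_self_of_injective
          (Cfsg.pPrimePCore p X).subtype_injective]
      rw [Subgroup.relIndex, h1]
      exact P.not_dvd_index
    have hQW : ((P : Subgroup ↥(Cfsg.pPrimePCore p X)).map (Cfsg.pPrimePCore p X).subtype).map
        (MulAut.conj c).toMonoidHom ≤ Cfsg.pPrimePCore p X := by
      rintro _ ⟨x, hx, rfl⟩
      exact (inferInstance : (Cfsg.pPrimePCore p X).Normal).conj_mem x (hPW hx) c
    obtain ⟨h, hhW, hh⟩ := Cfsg.Agent.Lib.Helper13.exists_conj_le_of_relIndex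
      (Cfsg.pPrimePCore p X) _ _ hPp hidx hQW (hPp.map _)
    -- adjust `h` by an element of `P`
    have hhb : ((h : X) : X ⧸ Cfsg.pPrimeCore p X) ∈
        ((P : Subgroup ↥(Cfsg.pPrimePCore p X)).map (Cfsg.pPrimePCore p X).subtype).map
          (QuotientGroup.mk' (Cfsg.pPrimeCore p X)) := by
      rw [hPmap]
      exact (mem_pPrimePCore_iff p h).mp hhW
    obtain ⟨y, hyP, hyh⟩ := Subgroup.mem_map.mp hhb
    -- `g = y⁻¹ h c` centralizes `P`
    have hg : y⁻¹ * h * c ∈ Subgroup.centralizer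
        (((P : Subgroup ↥(Cfsg.pPrimePCore p X)).map (Cfsg.pPrimePCore p X).subtype : Subgroup X) :
          Set X) := by
      rw [Subgroup.mem_centralizer_iff]
      intro x hx
      have h1 : h * (c * x * c⁻¹) * h⁻¹ ∈
          (P : Subgroup ↥(Cfsg.pPrimePCore p X)).map (Cfsg.pPrimePCore p X).subtype :=
        hh _ (Subgroup.mem_map.mpr ⟨x, hx, rfl⟩)
      have h2 : y⁻¹ * (h * (c * x * c⁻¹) * h⁻¹) * y ∈
          (P : Subgroup ↥(Cfsg.pPrimePCore p X)).map (Cfsg.pPrimePCore p X).subtype :=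
        Subgroup.mul_mem _ (Subgroup.mul_mem _ (Subgroup.inv_mem _ hyP) h1) hyP
      -- the image of the conjugate in the quotient equals the image of `x`
      have hxb : ((x : X) : X ⧸ Cfsg.pPrimeCore p X) ∈ Cfsg.pCore p (X ⧸ Cfsg.pPrimeCore p X) := by
        rw [← hPmap]
        exact Subgroup.mem_map.mpr ⟨x, hx, rfl⟩
      have hcx := (Subgroup.mem_centralizer_iff.mp hcb) _ hxb
      have hyh' : ((y : X) : X ⧸ Cfsg.pPrimeCore p X) = ((h : X) : X ⧸ Cfsg.pPrimeCore p X) := hyh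
      have h3 : (((y⁻¹ * (h * (c * x * c⁻¹) * h⁻¹) * y)⁻¹ * x : X) : X ⧸ Cfsg.pPrimeCore p X) = 1 := by
        have hcx' : ((x : X) : X ⧸ Cfsg.pPrimeCore p X) * (c : X ⧸ Cfsg.pPrimeCore p X) =
            (c : X ⧸ Cfsg.pPrimeCore p X) * (x : X ⧸ Cfsg.pPrimeCore p X) := hcx
        simp only [QuotientGroup.mk_mul, QuotientGroup.mk_inv, hyh']
        have : (c : X ⧸ Cfsg.pPrimeCore p X) * (x : X ⧸ Cfsg.pPrimeCore p X) *
            (c : X ⧸ Cfsg.pPrimeCore p X)⁻¹ = (x : X ⧸ Cfsg.pPrimeCore p X) := by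
          rw [← hcx']; group
        rw [this]; group
      have h4 : (y⁻¹ * (h * (c * x * c⁻¹) * h⁻¹) * y)⁻¹ * x ∈
          (P : Subgroup ↥(Cfsg.pPrimePCore p X)).map (Cfsg.pPrimePCore p X).subtype ⊓
            Cfsg.pPrimeCore p X :=
        Subgroup.mem_inf.mpr ⟨Subgroup.mul_mem _ (Subgroup.inv_mem _ h2) hx,
          (QuotientGroup.eq_one_iff _).mp h3⟩
      rw [hdisj, Subgroup.mem_bot] at h4
      have h5 : x = y⁻¹ * (h * (c * x * c⁻¹) * h⁻¹) * y := by
        have := inv_mul_eq_one.mp h4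
        exact this.symm
      calc x * (y⁻¹ * h * c) = (y⁻¹ * (h * (c * x * c⁻¹) * h⁻¹) * y) * (y⁻¹ * h * c) := by rw [← h5]
        _ = y⁻¹ * h * c * x := by group
    have hgW := hcon P hg
    have : c = h⁻¹ * (y * (y⁻¹ * h * c)) := by group
    rw [this]
    exact Subgroup.mul_mem _ (Subgroup.inv_mem _ hhW) (Subgroup.mul_mem _ (hPW hyP) hgW)
  · intro hQ P c hc
    rw [mem_pPrimePCore_iff]
    apply hQ
    rw [Subgroup.mem_centralizer_iff]
    intro yb hyb
    rw [SetLike.mem_coe, ← map_mk_sylow_pPrimePCore p P] at hyb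
    obtain ⟨x, hx, rfl⟩ := Subgroup.mem_map.mp hyb
    have := (Subgroup.mem_centralizer_iff.mp hc) x hx
    show ((x : X) : X ⧸ Cfsg.pPrimeCore p X) * (c : X ⧸ Cfsg.pPrimeCore p X) =
      (c : X ⧸ Cfsg.pPrimeCore p X) * (x : X ⧸ Cfsg.pPrimeCore p X)
    rw [← QuotientGroup.mk_mul, ← QuotientGroup.mk_mul, this]

end Cfsg.Agent.S1327
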