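import Mathlib
import Cfsg.Statements.S0631
import Cfsg.Agent.H5.PSolvable
import Cfsg.Agent.S0629
import Cfsg.Agent.S1327
import Cfsg.Agent.Lib.Helper10.PComponent
import Cfsg.Agent.Lib.Helper10.Transport
import Cfsg.Agent.Lib.Helper16.SPE2
import Cfsg.Agent.Lib.Helper17.Coprime

set_option autoImplicit false
open Cfsg

namespace Cfsg.Agent.S0631

open Cfsg.H5 Subgroup

theorem isPConstrained_iff {X : Type*} [Group X] [Finite X] (p : ℕ) [Fact p.Prime] :
    Cfsg.IsPConstrained p X ↔
      centralizer (pCore p (X ⧸ pPrimeCore p X) : Set (X ⧸ pPrimeCore p X)) ≤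
        pCore p (X ⧸ pPrimeCore p X) := by
  rw [Cfsg.Agent.S1327.result p, Cfsg.Agent.Lib.Helper10.centralizer_pCore_quotient_le_iff]

/-- A `p'`-element commuting with the `p`-group `B` and centralizing `C_Q(B)`, `Q = O_p(X)`, is
trivial if `C_X(Q) ≤ Q`. -/
theorem eq_one_of_AxB {X : Type*} [Group X] [Finite X] {p : ℕ} [Fact p.Prime]
    (hc : centralizer (pCore p X : Set X) ≤ pCore p X) (B : Subgroup X) (hB : IsPGroup p B)
    (x : X) (hx : (orderOf x).Coprime p) (hxB : ∀ b ∈ B, x * b = b * x)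
    (hxC : ∀ z ∈ pCore p X, (∀ b ∈ B, b * z = z * b) → x * z = z * x) : x = 1 := by
  have hQn := pCore_normal p X
  have hQp := pCore_isPGroup p X
  have h := Cfsg.Agent.Lib.Helper17.thompson_AxB hB hx hxB (Nat.card (pCore p X)) (pCore p X) rfl hQp
    (by rw [Subgroup.normalizer_eq_top_iff.mpr hQn]; trivial)
    (by rw [Subgroup.normalizer_eq_top_iff.mpr hQn]; exact le_top) hxC
  have hxc : x ∈ centralizer (pCore p X : Set X) := by
    rw [mem_centralizer_iff]
    intro z hz
    exact (h z hz).symm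
  exact eq_one_of_coprime_of_mem_pgroup hx hQp (hc hxc)

/-- local subgroups `Y` of a group `X` with `C_X(O_p(X)) ≤ O_p(X)` again satisfy
`C_Y(O_p(Y)) ≤ O_p(Y)`. -/
theorem centralizer_pCore_le_of_local {X : Type*} [Group X] [Finite X] {p : ℕ} [Fact p.Prime]
    (hc : centralizer (pCore p X : Set X) ≤ pCore p X) (B Y : Subgroup X) (hB : IsPGroup p B)
    (h1 : ∀ d : ↥Y, d ∈ centralizer (pCore p ↥Y : Set ↥Y) → ∀ b ∈ B, (d : X) * b = b * d)
    (h2 : pCore p X ⊓ centralizer (B : Set X) ≤ Y) :
    centralizer (pCore p ↥Y : Set ↥Y) ≤ pCore p ↥Y := by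
  have hQn := pCore_normal p X
  have hOn : (pCore p ↥Y).Normal := pCore_normal p _
  have hDn : (centralizer (pCore p ↥Y : Set ↥Y)).Normal := inferInstance
  have hQY : (pCore p X).subgroupOf Y ≤ pCore p ↥Y :=
    le_pCore inferInstance ((pCore_isPGroup p X).comap_of_injective Y.subtype Y.subtype_injective)
  apply le_pCore hDn
  rintro ⟨d, hd⟩
  obtain ⟨a, m, hm, hdm⟩ := Nat.exists_eq_pow_mul_and_not_dvd (orderOf_pos d).ne' p
    (Fact.out : p.Prime).ne_one
  refine ⟨a, ?_⟩
  have hxD : d ^ p ^ a ∈ centralizer (pCore p ↥Y : Set ↥Y) := pow_mem hd _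
  have hord : orderOf (d ^ p ^ a) = m := by
    rw [orderOf_pow_of_dvd (pow_ne_zero a (Fact.out : p.Prime).ne_zero) (hdm ▸ Dvd.intro _ rfl), hdm,
      Nat.mul_div_cancel_left _ (pow_pos (Fact.out : p.Prime).pos a)]
  have hcop : (orderOf ((d ^ p ^ a : ↥Y) : X)).Coprime p := by
    rw [Subgroup.orderOf_coe, hord]
    exact ((Nat.Prime.coprime_iff_not_dvd (Fact.out : p.Prime)).mpr hm).symm
  have hone : ((d ^ p ^ a : ↥Y) : X) = 1 := by
    apply eq_one_of_AxB hc B hB _ hcop (h1 _ hxD)
    intro z hz hzB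
    have hzY : z ∈ Y := by
      apply h2
      refine ⟨hz, ?_⟩
      show z ∈ centralizer (B : Set X)
      rw [mem_centralizer_iff]
      intro b hb
      exact hzB b hb
    have hzO : (⟨z, hzY⟩ : ↥Y) ∈ pCore p ↥Y := hQY hz
    have := mem_centralizer_iff.mp hxD ⟨z, hzY⟩ hzO
    have h3 := congrArg Subtype.val this
    simpa using h3.symm
  apply Subtype.ext
  apply Subtype.ext
  simpa using hone

/-- transport of the condition `C(O_p) ≤ O_p` along an isomorphism -/
theorem centralizer_pCore_le_of_mulEquiv {A B : Type*} [Group A] [Group B] (p : ℕ) (e : A ≃* B)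
    (h : centralizer (pCore p B : Set B) ≤ pCore p B) :
    centralizer (pCore p A : Set A) ≤ pCore p A := by
  have h1 := Cfsg.Agent.Lib.Helper10.map_pCore e p
  have h2 := Cfsg.Agent.Lib.Helper10.map_centralizer e (pCore p A)
  rw [h1] at h2
  rw [← Subgroup.map_le_map_iff_of_injective (f := e.toMonoidHom) e.injective]
  show (centralizer (pCore p A : Set A)).map e.toMonoidHom ≤ (pCore p A).map e.toMonoidHom
  rw [h2, h1]
  exact h

variable {G : Type*} [Group G]

theorem inf_le_map_pPrimeCore [Finite G] (p : ℕ) (M : Subgroup G) :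
    pPrimeCore p G ⊓ M ≤ (pPrimeCore p ↥M).map M.subtype := by
  have hRn : (pPrimeCore p G).Normal := pPrimeCore_normal p G
  rintro g ⟨hgR, hgM⟩
  refine ⟨⟨g, hgM⟩, ?_, rfl⟩
  have hle : (pPrimeCore p G).subgroupOf M ≤ pPrimeCore p ↥M := by
    apply le_pPrimeCore inferInstance
    have h1 : Nat.card ((pPrimeCore p G).subgroupOf M) ∣ Nat.card (pPrimeCore p G) := by
      rw [← Subgroup.inf_subgroupOf_right,
        Nat.card_congr (Subgroup.subgroupOfEquivOfLe (inf_le_right : pPrimeCore p G ⊓ M ≤ M)).toEquiv]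
      exact Subgroup.card_dvd_of_le inf_le_left
    exact Nat.Coprime.coprime_dvd_left h1 (coprime_card_pPrimeCore p G)
  exact hle hgR

/-- `O_{p'}(M) ≤ O_{p'}(G)` for suitable local subgroups `M` -/
theorem map_pPrimeCore_le [Finite G] {p : ℕ} [Fact p.Prime]
    (hc : centralizer (pCore p (G ⧸ pPrimeCore p G) : Set (G ⧸ pPrimeCore p G)) ≤
      pCore p (G ⧸ pPrimeCore p G))
    (P M : Subgroup G) (hP : IsPGroup p P)
    (hM1 : ∀ x ∈ (pPrimeCore p ↥M).map M.subtype, ∀ y ∈ P, x * y = y * x)
    (hM2 : centralizer ((P.map (QuotientGroup.mk' (pPrimeCore p G)) : Subgroup (G ⧸ pPrimeCore p G)) :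
      Set (G ⧸ pPrimeCore p G)) ≤ M.map (QuotientGroup.mk' (pPrimeCore p G))) :
    (pPrimeCore p ↥M).map M.subtype ≤ pPrimeCore p G := by
  have hRn : (pPrimeCore p G).Normal := pPrimeCore_normal p G
  set K := (pPrimeCore p ↥M).map M.subtype with hK
  have hKcop : (Nat.card K).Coprime p := by
    rw [hK, Subgroup.card_map_of_injective M.subtype_injective]
    exact coprime_card_pPrimeCore p M
  have hKnorm : ∀ n ∈ M, ∀ y ∈ K, n * y * n⁻¹ ∈ K := by
    rintro n hn _ ⟨y, hy, rfl⟩
    exact ⟨⟨n, hn⟩ * y * ⟨n, hn⟩⁻¹, (pPrimeCore_normal p M).conj_mem y hy ⟨n, hn⟩, rfl⟩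
  intro x hx
  set π := QuotientGroup.mk' (pPrimeCore p G) with hπ
  have hQbn : (pCore p (G ⧸ pPrimeCore p G)).Normal := pCore_normal p _
  have hQbp : IsPGroup p (pCore p (G ⧸ pPrimeCore p G)) := pCore_isPGroup p _
  have hxcop : (orderOf x).Coprime p := coprime_orderOf_of_mem hKcop hx
  have ha : (orderOf (π x)).Coprime p :=
    Nat.Coprime.coprime_dvd_left (orderOf_map_dvd π x) hxcop
  have h5 : π x = 1 := by
    apply eq_one_of_AxB hc (P.map π) (hP.map π) (π x) ha
    · rintro _ ⟨y, hy, rfl⟩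
      rw [← map_mul, ← map_mul, hM1 x hx y hy]
    · intro z hz hzB
      have hzc : z ∈ centralizer ((P.map π : Subgroup (G ⧸ pPrimeCore p G)) : Set (G ⧸ pPrimeCore p G)) := by
        rw [mem_centralizer_iff]
        intro b hb
        exact hzB b hb
      obtain ⟨y, hyM, rfl⟩ := hM2 hzc
      have h1 : x * y * x⁻¹ * y⁻¹ ∈ K := by
        have := hKnorm y hyM x⁻¹ (inv_mem hx)
        have h2 := mul_mem hx this
        convert h2 using 1
        group
      have h2 : π (x * y * x⁻¹ * y⁻¹) ∈ pCore p (G ⧸ pPrimeCore p G) := by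
        simp only [map_mul, map_inv]
        exact mul_mem (hQbn.conj_mem _ hz _) (inv_mem hz)
      have h3 : (orderOf (π (x * y * x⁻¹ * y⁻¹))).Coprime p :=
        Nat.Coprime.coprime_dvd_left (orderOf_map_dvd π _) (coprime_orderOf_of_mem hKcop h1)
      have h4 := eq_one_of_coprime_of_mem_pgroup h3 hQbp h2
      simp only [map_mul, map_inv] at h4
      calc π x * π y = (π x * π y * (π x)⁻¹ * (π y)⁻¹) * (π y * π x) := by group
        _ = π y * π x := by rw [h4, one_mul]
  rw [hπ, QuotientGroup.mk'_apply, QuotientGroup.eq_one_iff] at h5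
  exact h5

/-- the main reduction -/
theorem isPConstrained_of_local [Finite G] {p : ℕ} [Fact p.Prime]
    (hc : centralizer (pCore p (G ⧸ pPrimeCore p G) : Set (G ⧸ pPrimeCore p G)) ≤
      pCore p (G ⧸ pPrimeCore p G))
    (P M : Subgroup G) (hP : IsPGroup p P)
    (hM1 : ∀ x ∈ (pPrimeCore p ↥M).map M.subtype, ∀ y ∈ P, x * y = y * x)
    (hM2 : centralizer ((P.map (QuotientGroup.mk' (pPrimeCore p G)) : Subgroup (G ⧸ pPrimeCore p G)) :
      Set (G ⧸ pPrimeCore p G)) ≤ M.map (QuotientGroup.mk' (pPrimeCore p G)))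
    (hM3 : ∀ d : ↥(M.map (QuotientGroup.mk' (pPrimeCore p G))),
      d ∈ centralizer (pCore p ↥(M.map (QuotientGroup.mk' (pPrimeCore p G))) :
        Set ↥(M.map (QuotientGroup.mk' (pPrimeCore p G)))) →
      ∀ b ∈ P.map (QuotientGroup.mk' (pPrimeCore p G)), (d : G ⧸ pPrimeCore p G) * b = b * d) :
    Cfsg.IsPConstrained p ↥M := by
  have hRn : (pPrimeCore p G).Normal := pPrimeCore_normal p G
  set π := QuotientGroup.mk' (pPrimeCore p G) with hπ
  rw [isPConstrained_iff]
  -- the p'-core of M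
  have hcore : (pPrimeCore p ↥M).map M.subtype = pPrimeCore p G ⊓ M :=
    le_antisymm (le_inf (map_pPrimeCore_le hc P M hP hM1 hM2) (Subgroup.map_subtype_le _))
      (inf_le_map_pPrimeCore p M)
  -- the isomorphism
  have hker : pPrimeCore p ↥M = (π.subgroupMap M).ker := by
    ext m
    rw [MonoidHom.mem_ker]
    constructor
    · intro hm
      have : (m : G) ∈ pPrimeCore p G ⊓ M := by
        rw [← hcore]; exact ⟨m, hm, rfl⟩
      apply Subtype.ext
      show π (m : G) = 1
      rw [hπ, QuotientGroup.mk'_apply, QuotientGroup.eq_one_iff]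
      exact this.1
    · intro hm
      have h1 : π (m : G) = 1 := congrArg Subtype.val hm
      rw [hπ, QuotientGroup.mk'_apply, QuotientGroup.eq_one_iff] at h1
      have : (m : G) ∈ (pPrimeCore p ↥M).map M.subtype := by
        rw [hcore]; exact ⟨h1, m.2⟩
      obtain ⟨m', hm', hmm⟩ := this
      have : m' = m := Subtype.ext hmm
      rwa [this] at hm'
  let e : (↥M ⧸ pPrimeCore p ↥M) ≃* ↥(M.map π) :=
    (QuotientGroup.quotientMulEquivOfEq hker).trans
      (QuotientGroup.quotientKerEquivOfSurjective (π.subgroupMap M)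
        (MonoidHom.subgroupMap_surjective _ _))
  apply centralizer_pCore_le_of_mulEquiv p e
  apply centralizer_pCore_le_of_local hc (P.map π) (M.map π) (hP.map π) hM3
  exact inf_le_right.trans hM2

/-- In a p-constrained group the normalizer and the centralizer of any p-subgroup are again p-constrained. -/
theorem result {G : Type*} [Group G] [Finite G] {p : ℕ} [Fact p.Prime] (hG : Cfsg.IsPConstrained p G) (P : Subgroup G) (hP : IsPGroup p P) : Cfsg.IsPConstrained p ↥(Subgroup.normalizer (P : Set G)) ∧ Cfsg.IsPConstrained p ↥(Subgroup.centralizer (P : Set G)) := by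
  have hc := (isPConstrained_iff p).mp hG
  have hRn : (pPrimeCore p G).Normal := pPrimeCore_normal p G
  have hRcop : (Nat.card (pPrimeCore p G)).Coprime p := coprime_card_pPrimeCore p G
  set π := QuotientGroup.mk' (pPrimeCore p G) with hπ
  constructor
  · set N := Subgroup.normalizer (P : Set G) with hN
    have hPN : P ≤ N := Subgroup.le_normalizer
    apply isPConstrained_of_local hc P N hP
    · -- elements of O_{p'}(N) commute with P
      set K := (pPrimeCore p ↥N).map N.subtype with hK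
      have hKcop : (Nat.card K).Coprime p := by
        rw [hK, Subgroup.card_map_of_injective N.subtype_injective]
        exact coprime_card_pPrimeCore p N
      have hKnorm : ∀ n ∈ N, ∀ y ∈ K, n * y * n⁻¹ ∈ K := by
        rintro n hn _ ⟨y, hy, rfl⟩
        exact ⟨⟨n, hn⟩ * y * ⟨n, hn⟩⁻¹, (pPrimeCore_normal p N).conj_mem y hy ⟨n, hn⟩, rfl⟩
      intro x hx y hy
      have hxN : x ∈ N := Subgroup.map_subtype_le _ hx
      have h1 : x * y * x⁻¹ * y⁻¹ ∈ K := by
        have := hKnorm y (hPN hy) x⁻¹ (inv_mem hx)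
        have h2 := mul_mem hx this
        convert h2 using 1
        group
      have h2 : x * y * x⁻¹ * y⁻¹ ∈ P := by
        have := (mem_set_normalizer_iff.mp hxN y).mp hy
        exact mul_mem this (inv_mem hy)
      have h3 := eq_one_of_coprime_of_mem_pgroup (coprime_orderOf_of_mem hKcop h1) hP h2
      calc x * y = (x * y * x⁻¹ * y⁻¹) * (y * x) := by group
        _ = y * x := by rw [h3, one_mul]
    · exact (Subgroup.centralizer_le_normalizer _).trans
        (Cfsg.Agent.Lib.Helper16.normalizer_map_mk_le P (pPrimeCore p G) hP hRcop)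
    · -- P̄ ≤ O_p(N̄)
      intro d hd b hb
      have hPle : (P.map π).subgroupOf (N.map π) ≤ pCore p ↥(N.map π) := by
        apply le_pCore
        · constructor
          rintro ⟨n, hn⟩ hnP ⟨g, hg⟩
          obtain ⟨g₀, hg₀, rfl⟩ := hg
          obtain ⟨n₀, hn₀, hn₀'⟩ := (hnP : n ∈ P.map π)
          subst hn₀'
          show π g₀ * π n₀ * (π g₀)⁻¹ ∈ P.map π
          rw [← map_inv, ← map_mul, ← map_mul]
          exact Subgroup.mem_map_of_mem _ ((mem_set_normalizer_iff.mp hg₀ n₀).mp hn₀)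
        · exact (hP.map π).comap_of_injective _ (Subgroup.subtype_injective _)
      have hbN : b ∈ N.map π := Subgroup.map_mono hPN hb
      have hb' : (⟨b, hbN⟩ : ↥(N.map π)) ∈ pCore p ↥(N.map π) := hPle hb
      have := mem_centralizer_iff.mp hd ⟨b, hbN⟩ hb'
      have h3 := congrArg Subtype.val this
      simpa using h3.symm
  · set C := Subgroup.centralizer (P : Set G) with hC
    apply isPConstrained_of_local hc P C hP
    · intro x hx y hy
      have hxC : x ∈ C := Subgroup.map_subtype_le _ hx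
      exact (mem_centralizer_iff.mp hxC y hy).symm
    · exact Cfsg.Agent.S0629.centralizer_map_mk_le P (pPrimeCore p G) hP hRcop
    · intro d hd b hb
      obtain ⟨c, hc', hcd⟩ := d.2
      obtain ⟨u, hu, rfl⟩ := hb
      rw [← hcd, ← map_mul, ← map_mul, mem_centralizer_iff.mp hc' u hu]

end Cfsg.Agent.S0631
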