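import Cfsg.Statements.S0892
import Mathlib
import Cfsg.Agent.S3335
import Cfsg.Agent.Lib.Helper20.AltMultA
import Cfsg.Agent.Lib.Helper20.AltMultB
import Cfsg.Agent.Lib.Helper20.AltMultC
import Cfsg.Agent.Lib.Helper20.StemTools

set_option autoImplicit false
set_option linter.style.haveILetI false
open Cfsg

namespace Cfsg.Agent.S0892

open Cfsg.Agent.S3335 Cfsg.Agent.Lib.Helper20.AltMult Cfsg.Agent.Lib.Helper20.StemTools
open scoped commutatorElement

universe u

/-! ### from the data to a stem extension of a quotient of the presented group -/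

theorem good_stem {Γ : Type u} [Group Γ] {Z : Subgroup Γ} [Z.Normal] {t : ℕ → Γ} {m : ℕ}
    (h : Good Z t m) : IsStemExtension (QuotientGroup.mk' Z) := by
  refine ⟨QuotientGroup.mk'_surjective Z, ?_, ?_⟩
  · rw [QuotientGroup.ker_mk']; exact h.cen
  · rw [QuotientGroup.ker_mk']; exact h.der

theorem good_quot {Γ : Type u} [Group Γ] {Z : Subgroup Γ} [Z.Normal] {t : ℕ → Γ} {m : ℕ}
    (h : Good Z t m) : ∃ σ₀ : CG (m + 1) →* Γ ⧸ Z, Function.Surjective σ₀ := by
  have hker : (QuotientGroup.mk' Z).ker = Z := QuotientGroup.ker_mk' Z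
  have hrel : CarRel (fun i => QuotientGroup.mk' Z (t i)) m :=
    (carRelMod_iff _ hker t m).mp h.rel
  let σ₀ : CG (m + 1) →* Γ ⧸ Z :=
    PresentedGroup.toGroup (f := fun i : Fin (m + 1) => QuotientGroup.mk' Z (t i.val))
      (lift_rels hrel)
  have hσ₀ : ∀ i : Fin (m + 1), σ₀ (PresentedGroup.of i) = QuotientGroup.mk' Z (t i.val) :=
    fun i => PresentedGroup.toGroup.of _
  refine ⟨σ₀, ?_⟩
  rw [← MonoidHom.range_eq_top, eq_top_iff]
  have e := congrArg (Subgroup.map (QuotientGroup.mk' Z)) h.gen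
  rw [Subgroup.map_sup, MonoidHom.map_closure, Set.image_image,
    Subgroup.map_top_of_surjective _ (QuotientGroup.mk'_surjective Z)] at e
  have hZbot : Z.map (QuotientGroup.mk' Z) = ⊥ := by
    rw [eq_bot_iff]
    rintro _ ⟨z, hz, rfl⟩
    rw [Subgroup.mem_bot]
    exact (QuotientGroup.eq_one_iff z).mpr hz
  rw [hZbot, sup_bot_eq] at e
  rw [← e, Subgroup.closure_le]
  rintro _ ⟨i, hi, rfl⟩
  exact ⟨PresentedGroup.of ⟨i, Nat.lt_succ_of_le hi⟩, hσ₀ _⟩

theorem card_cg (m : ℕ) : 2 * Nat.card (CG (m + 1)) = (m + 3).factorial := by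
  obtain ⟨e⟩ := main m
  rw [Nat.card_congr e.toEquiv]
  have := two_mul_nat_card_alternatingGroup (α := Fin (m + 3))
  rw [Nat.card_perm, Nat.card_fin] at this
  exact this

theorem finite_cg (m : ℕ) : Finite (CG (m + 1)) := by
  obtain ⟨e⟩ := main m
  exact Finite.of_equiv _ e.symm.toEquiv

/-! ### the base cases -/

theorem base_case {Γ : Type u} [Group Γ] [Finite Γ] (Z : Subgroup Γ) (t : ℕ → Γ) (m : ℕ)
    (hm : m = 1 ∨ m = 2) (h : Good Z t m) : Nat.card Z ∣ 2 := by
  haveI : Z.Normal := normal_of_le_center h.cen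
  obtain ⟨σ₀, hσ₀⟩ := good_quot h
  haveI := finite_cg m
  have hdvd : Nat.card (Γ ⧸ Z) ∣ Nat.card (CG (m + 1)) := Subgroup.card_dvd_of_surjective σ₀ hσ₀
  have h60 : Nat.card (CG (m + 1)) ∣ 60 := by
    have hc := card_cg m
    rcases hm with rfl | rfl
    · have : Nat.card (CG (1 + 1)) = 12 := by
        have e : (1 + 3).factorial = 24 := by decide
        rw [e] at hc; omega
      rw [this]; norm_num
    · have : Nat.card (CG (2 + 1)) = 60 := by
        have e : (2 + 3).factorial = 120 := by decide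
        rw [e] at hc; omega
      rw [this]
  have hk := card_ker_dvd_two_of_dvd_sixty (QuotientGroup.mk' Z) (good_stem h) (hdvd.trans h60)
  rwa [Nat.card_congr (MulEquiv.subgroupCongr (QuotientGroup.ker_mk' Z)).toEquiv] at hk

/-! ### the 3-part for eight letters -/

section relations
variable {G : Type*} [Group G]

theorem rel_five {y : ℕ → G} (h : CarRel y 5) :
    (y 0) ^ 3 = 1 ∧ (y 2 * y 3) ^ 3 = 1 ∧ y 0 * (y 2 * y 3) = (y 2 * y 3) * y 0 ∧
      (y 2 * y 5) * y 0 * (y 2 * y 5)⁻¹ = y 0 ∧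
      (y 2 * y 5) * (y 2 * y 3) * (y 2 * y 5)⁻¹ = (y 2 * y 3)⁻¹ := by
  have i2 := h.inv_eq (show 1 ≤ 2 by norm_num) (show 2 ≤ 5 by norm_num)
  have i3 := h.inv_eq (show 1 ≤ 3 by norm_num) (show 3 ≤ 5 by norm_num)
  have i5 := h.inv_eq (show 1 ≤ 5 by norm_num) (show 5 ≤ 5 by norm_num)
  have c25 : y 2 * y 5 = y 5 * y 2 :=
    h.comm (show 1 ≤ 2 by norm_num) (show 2 + 2 ≤ 5 by norm_num) le_rfl
  have c35 : y 3 * y 5 = y 5 * y 3 :=
    h.comm (show 1 ≤ 3 by norm_num) (show 3 + 2 ≤ 5 by norm_num) le_rfl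
  have z2 : y 2 * (y 0)⁻¹ = y 0 * y 2 := h.mul_zero_inv (show 2 ≤ 2 by norm_num) (by norm_num)
  have z3' : y 3 * y 0 = (y 0)⁻¹ * y 3 := h.mul_zero' (show 2 ≤ 3 by norm_num) (by norm_num)
  have z5' : y 5 * y 0 = (y 0)⁻¹ * y 5 := h.mul_zero' (show 2 ≤ 5 by norm_num) (by norm_num)
  have s2 : y 2 * y 2 = 1 := h.h2 2 (by norm_num) (by norm_num)
  have s5 : y 5 * y 5 = 1 := h.h2 5 (by norm_num) (by norm_num)
  refine ⟨?_, ?_, ?_, ?_, ?_⟩
  · rw [pow_three']; exact h.h1
  · rw [pow_three']; exact h.h3 2 (by norm_num)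
  · calc y 0 * (y 2 * y 3) = (y 0 * y 2) * y 3 := by rw [mul_assoc]
      _ = (y 2 * (y 0)⁻¹) * y 3 := by rw [z2]
      _ = y 2 * ((y 0)⁻¹ * y 3) := by rw [mul_assoc]
      _ = y 2 * (y 3 * y 0) := by rw [z3']
      _ = (y 2 * y 3) * y 0 := by rw [mul_assoc]
  · have e : (y 2 * y 5) * y 0 = y 0 * (y 2 * y 5) := by
      calc (y 2 * y 5) * y 0 = y 2 * (y 5 * y 0) := by rw [mul_assoc]
        _ = y 2 * ((y 0)⁻¹ * y 5) := by rw [z5']
        _ = (y 2 * (y 0)⁻¹) * y 5 := by rw [mul_assoc]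
        _ = (y 0 * y 2) * y 5 := by rw [z2]
        _ = y 0 * (y 2 * y 5) := by rw [mul_assoc]
    rw [e, mul_inv_cancel_right]
  · rw [mul_inv_eq_iff_eq_mul, mul_inv_rev, i2, i3]
    calc (y 2 * y 5) * (y 2 * y 3) = y 2 * (y 5 * y 2) * y 3 := by simp only [mul_assoc]
      _ = y 2 * (y 2 * y 5) * y 3 := by rw [c25]
      _ = (y 2 * y 2) * (y 5 * y 3) := by simp only [mul_assoc]
      _ = y 3 * y 5 := by rw [s2, one_mul, c35]
      _ = y 3 * (y 2 * y 2) * y 5 := by rw [s2, mul_one]
      _ = (y 3 * y 2) * (y 2 * y 5) := by simp only [mul_assoc]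

end relations

theorem phi_gen (m i : ℕ) (hi : i < m + 1) : phi m (gen (m + 1) i) = T m 0 * T m (i + 1) := by
  rw [gen_lt (m + 1) i hi, phi_of]

theorem phi_x_fix : (phi 5 (gen 6 0)) 3 = 3 := by
  rw [phi_gen 5 0 (by norm_num), T_pos 5 0 (by norm_num), T_pos 5 1 (by norm_num)]
  decide

theorem phi_x_ne : (phi 5 (gen 6 0)) 0 ≠ 0 := by
  rw [phi_gen 5 0 (by norm_num), T_pos 5 0 (by norm_num), T_pos 5 1 (by norm_num)]
  decide

theorem phi_y_move : (phi 5 (gen 6 2 * gen 6 3)) 3 ≠ 3 := by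
  rw [map_mul, phi_gen 5 2 (by norm_num), phi_gen 5 3 (by norm_num), T_pos 5 0 (by norm_num),
    T_pos 5 3 (by norm_num), T_pos 5 4 (by norm_num)]
  decide

theorem three_not_dvd {Γ : Type u} [Group Γ] [Finite Γ] (Z : Subgroup Γ) (t : ℕ → Γ)
    (h : Good Z t 5) : ¬ 3 ∣ Nat.card Z := by
  haveI : Z.Normal := normal_of_le_center h.cen
  obtain ⟨σ₀, hσ₀⟩ := good_quot h
  haveI := cg_simple 5 (by norm_num)
  haveI := finite_cg 5
  have hkerZ : Nat.card (QuotientGroup.mk' Z).ker = Nat.card Z :=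
    Nat.card_congr (MulEquiv.subgroupCongr (QuotientGroup.ker_mk' Z)).toEquiv
  rcases (inferInstance : σ₀.ker.Normal).eq_bot_or_eq_top with h0 | h1
  · -- the quotient is the alternating group
    have hinj : Function.Injective σ₀ := (MonoidHom.ker_eq_bot_iff σ₀).mp h0
    obtain ⟨hx3, hy3, hxy, hnx, hny⟩ := rel_five (carRel_gen 5)
    have hcard : Nat.card (Γ ⧸ Z) = Nat.card (CG 6) :=
      (Nat.card_congr (Equiv.ofBijective σ₀ ⟨hinj, hσ₀⟩)).symm
    have hc := card_cg 5
    have h27 : ¬ 27 ∣ Nat.card (Γ ⧸ Z) := by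
      rw [hcard]
      have e : (5 + 3).factorial = 40320 := by decide
      rw [e] at hc
      have : Nat.card (CG (5 + 1)) = 20160 := by omega
      rw [this]; norm_num
    rw [← hkerZ]
    apply three_not_dvd_of_elems (QuotientGroup.mk' Z) (good_stem h) (σ₀ (gen 6 0))
      (σ₀ (gen 6 2 * gen 6 3)) (σ₀ (gen 6 2 * gen 6 5))
    · rw [← map_pow, hx3, map_one]
    · rw [← map_pow, hy3, map_one]
    · rw [← map_mul, ← map_mul, hxy]
    · rw [← map_inv, ← map_mul, ← map_mul, hnx]
    · rw [← map_inv, ← map_mul, ← map_mul, hny, map_inv]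
    · intro h1
      have e : gen 6 0 = 1 := hinj (by rw [h1, map_one])
      apply phi_x_ne
      rw [e, map_one]; rfl
    · intro hmem
      obtain ⟨j, hj⟩ := Subgroup.mem_zpowers_iff.mp hmem
      rw [← map_zpow] at hj
      have e : gen 6 0 ^ j = gen 6 2 * gen 6 3 := hinj hj
      apply phi_y_move
      rw [← e, map_zpow]
      exact Equiv.Perm.zpow_apply_eq_self_of_apply_eq_self phi_x_fix j
    · exact h27
  · -- the quotient is trivial
    have hZtop : Z = ⊤ := by
      rw [eq_top_iff]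
      intro g _
      obtain ⟨c, hc⟩ := hσ₀ (QuotientGroup.mk' Z g)
      have hc1 : c ∈ σ₀.ker := by rw [h1]; exact Subgroup.mem_top c
      rw [MonoidHom.mem_ker] at hc1
      rw [hc1] at hc
      exact (QuotientGroup.eq_one_iff g).mp hc.symm
    have hcb : commutator Γ = ⊥ := by
      rw [commutator_def, Subgroup.commutator_eq_bot_iff_le_centralizer]
      intro a _
      rw [Subgroup.mem_centralizer_iff]
      intro b _
      have hb : b ∈ Subgroup.center Γ := h.cen (by rw [hZtop]; exact Subgroup.mem_top b)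
      exact (Subgroup.mem_center_iff.mp hb a).symm
    have hZbot : Z = ⊥ := le_bot_iff.mp (hcb ▸ h.der)
    rw [hZbot, Subgroup.card_bot]
    norm_num

/-! ### the induction -/

/-- the bound: `6` for six and seven letters, `2` otherwise -/
def bnd (m : ℕ) : ℕ := if m = 3 ∨ m = 4 then 6 else 2

theorem bound_aux (m : ℕ) : 1 ≤ m → ∀ {Γ : Type u} [Group Γ] [Finite Γ] (Z : Subgroup Γ)
    (t : ℕ → Γ), Good Z t m → Nat.card Z ∣ bnd m := by
  induction m with
  | zero => intro h; omega
  | succ k ih =>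
    intro _ Γ _ _ Z t hg
    by_cases hk1 : k + 1 ≤ 2
    · have hb : bnd (k + 1) = 2 := by
        unfold bnd; rw [if_neg (by omega)]
      rw [hb]
      exact base_case Z t (k + 1) (by omega) hg
    · have hk3 : 3 ≤ k + 1 := by omega
      have IH : ∀ {Γ' : Type u} [Group Γ'] [Finite Γ'] (Z' : Subgroup Γ') (t' : ℕ → Γ'),
          Good Z' t' (k + 1 - 1) → Nat.card Z' ∣ bnd k := by
        intro Γ' _ _ Z' t' hg'
        have e : k + 1 - 1 = k := by omega
        rw [e] at hg'
        exact ih (by omega) Z' t' hg'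
      obtain ⟨hs3, hs4⟩ := step (k + 1) hk3 (bnd k) IH Z t hg
      by_cases hk : k = 2
      · subst hk
        have e1 : bnd 2 = 2 := by decide
        have e2 : bnd (2 + 1) = 6 := by decide
        rw [e1] at hs3
        rw [e2]
        exact hs3
      · have hk4 : 4 ≤ k + 1 := by omega
        have hs := hs4 hk4
        by_cases hk' : k = 3
        · subst hk'
          have e1 : bnd 3 = 6 := by decide
          have e2 : bnd (3 + 1) = 6 := by decide
          rw [e1] at hs
          rw [e2]; exact hs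
        by_cases hk'' : k = 4
        · subst hk''
          have e1 : bnd 4 = 6 := by decide
          have e2 : bnd (4 + 1) = 2 := by decide
          rw [e1] at hs
          rw [e2]
          have h3 := three_not_dvd Z t hg
          have hle : Nat.card Z ≤ 6 := Nat.le_of_dvd (by norm_num) hs
          have hpos : 0 < Nat.card Z := Nat.card_pos
          generalize Nat.card Z = d at hs h3 hle hpos
          interval_cases d <;> first | omega | (norm_num at hs) | (norm_num at h3) | norm_num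
        · have e1 : bnd k = 2 := by unfold bnd; rw [if_neg (by omega)]
          have e2 : bnd (k + 1) = 2 := by unfold bnd; rw [if_neg (by omega)]
          rw [e1] at hs
          rw [e2]; exact hs

/-- Let n ≥ 4 with n ≠ 6 and n ≠ 7, and let Γ be a finite group with a subgroup Z contained in both the centre and the commutator subgroup of Γ such that Γ / Z is isomorphic to the alternating group on n letters. Then Z has order at most 2. -/
theorem result (n : ℕ) (hn : 4 ≤ n) (h6 : n ≠ 6) (h7 : n ≠ 7) {Γ : Type*} [Group Γ] [Finite Γ] (Z : Subgroup Γ) [Z.Normal] (hZc : Z ≤ Subgroup.center Γ) (hZd : Z ≤ commutator Γ) (e : Γ ⧸ Z ≃* alternatingGroup (Fin n)) : Nat.card Z ≤ 2 := by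
  obtain ⟨m, rfl⟩ : ∃ m, n = m + 3 := ⟨n - 3, by omega⟩
  obtain ⟨ψ⟩ := main m
  let f : Γ →* CG (m + 1) :=
    ψ.symm.toMonoidHom.comp (e.toMonoidHom.comp (QuotientGroup.mk' Z))
  have hfsurj : Function.Surjective f :=
    ψ.symm.surjective.comp (e.surjective.comp (QuotientGroup.mk'_surjective Z))
  have hfker : f.ker = Z := by
    ext g
    rw [MonoidHom.mem_ker]
    show ψ.symm (e (QuotientGroup.mk' Z g)) = 1 ↔ g ∈ Z
    rw [EmbeddingLike.map_eq_one_iff, EmbeddingLike.map_eq_one_iff]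
    exact QuotientGroup.eq_one_iff g
  choose t ht using fun i => hfsurj (gen (m + 1) i)
  have hgood : Good Z t m := by
    refine ⟨hZc, hZd, ?_, ?_⟩
    · rw [carRelMod_iff f hfker]
      exact carRel_congr (carRel_gen m) (fun i _ => ht i)
    · have h1 : (Subgroup.closure (t '' {i | i ≤ m})).map f = ⊤ := by
        rw [MonoidHom.map_closure, Set.image_image, eq_top_iff,
          ← PresentedGroup.closure_range_of (rels (m + 1))]
        apply Subgroup.closure_mono
        rintro _ ⟨i, rfl⟩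
        refine ⟨i.val, Nat.lt_succ_iff.mp i.isLt, ?_⟩
        show f (t i.val) = PresentedGroup.of i
        rw [ht, gen_of]
      have h2 := Subgroup.comap_map_eq f (Subgroup.closure (t '' {i | i ≤ m}))
      rw [h1, Subgroup.comap_top, hfker] at h2
      exact h2.symm
  have hb := bound_aux m (by omega) Z t hgood
  have hbnd : bnd m = 2 := by
    unfold bnd; rw [if_neg (by omega)]
  rw [hbnd] at hb
  exact Nat.le_of_dvd (by norm_num) hb

end Cfsg.Agent.S0892
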