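import Mathlib
import Cfsg.Statements.S0927
import Cfsg.Agent.Lib.Helper7.HeightZero

set_option autoImplicit false
open Cfsg

namespace Cfsg.Agent.S0927

open Cfsg.Agent.Lib.Helper7 Cfsg.Agent.Lib.Helper24 Cfsg.Agent.Lib.Helper2

/-- Let B be a block of the finite group G relative to a maximal ideal M of the algebraic integers containing p, let y represent a defect class of B and let P be a Sylow p-subgroup of the centralizer of y. (a) If x ∈ P and χ ∈ B has height zero, then χ (x * y) is not in the local ideal at M. (b) If x lies in the centre of P, then for every χ ∈ B the central character of χ at x * y is not in the local ideal at M. -/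
theorem result {G : Type*} [Group G] [Finite G] (p : ℕ) [Fact p.Prime] (M : Ideal Cfsg.AlgInt) (hM : Cfsg.IsPModular p M) (B : Set (Cfsg.IrrCharacter G)) (hB : Cfsg.IsPBlock M B) (y : G) (hy : Cfsg.IsDefectClass M B y) (P : Sylow p (Subgroup.centralizer ({y} : Set G))) (x : Subgroup.centralizer ({y} : Set G)) (hx : x ∈ (P : Subgroup (Subgroup.centralizer ({y} : Set G)))) : (∀ χ ∈ B, Cfsg.blockHeight p B (χ : G → ℂ) = 0 → ¬ Cfsg.MemLocalIdeal M ((χ : G → ℂ) ((x : G) * y))) ∧ ((∀ w ∈ (P : Subgroup (Subgroup.centralizer ({y} : Set G))), x * w = w * x) → ∀ χ ∈ B, ¬ Cfsg.MemLocalIdeal M (Cfsg.centralChar (χ : G → ℂ) ((x : G) * y))) := by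
  classical
  letI : Fintype G := Fintype.ofFinite G
  have hp : p.Prime := Fact.out
  have hxy : (x : G) * y = y * (x : G) := by
    have := x.2
    rw [Subgroup.mem_centralizer_singleton_iff] at this
    exact this
  have hxord : ∃ k : ℕ, orderOf (x : G) = p ^ k := by
    obtain ⟨k, hk⟩ := (IsPGroup.iff_orderOf.mp P.2) ⟨x, hx⟩
    refine ⟨k, ?_⟩
    rw [← hk, Subgroup.orderOf_mk, Subgroup.orderOf_coe]
  have hA : ∀ χ ∈ B, Cfsg.blockHeight p B (χ : G → ℂ) = 0 →
      ¬ Cfsg.MemLocalIdeal M ((χ : G → ℂ) ((x : G) * y)) := by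
    intro χ hχ h0 hcon
    apply not_memLocalIdeal_of_height_zero hM B hB y hy χ hχ h0
    have hc := char_mul_sub_memLocalIdeal hM (χ : G → ℂ) (IsIrrCharacter.isCharacter χ.2)
      (x : G) y hxy hxord
    have := memLocalIdeal_sub hM hcon hc
    rwa [sub_sub_cancel] at this
  refine ⟨hA, ?_⟩
  intro hcent χ hχ
  obtain ⟨χ₀, hχ₀, h0⟩ := exists_height_zero hM B hB
  -- the central character of χ₀ at x y is a unit
  have hunit : ¬ Cfsg.MemLocalIdeal M (Cfsg.centralChar (χ₀ : G → ℂ) ((x : G) * y)) := by
    unfold Cfsg.centralChar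
    have hχ1 : (χ₀ : G → ℂ) 1 = (Cfsg.charDegree (χ₀ : G → ℂ) : ℂ) :=
      Cfsg.Agent.Lib.Helper25.char_one_eq_charDegree
        (Cfsg.Agent.Lib.Helper25.isCharacter_of_irr χ₀.2)
    rw [hχ1]
    apply not_memLocalIdeal_nat_mul_div hM (irr_charDegree_pos χ₀).ne'
      Subgroup.index_ne_zero_of_finite _
      (memLocalRing_of_isIntegral hM (irr_value_isIntegral χ₀ _)) (hA χ₀ hχ₀ h0)
    rw [factorization_of_height_zero hM B hB y hy χ₀ hχ₀ h0, factorization_index_centralizer,
      factorization_index_centralizer]
    -- P.map ≤ C(xy)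
    have hPle : (P : Subgroup (Subgroup.centralizer ({y} : Set G))).map
        (Subgroup.centralizer ({y} : Set G)).subtype
        ≤ Subgroup.centralizer ({(x : G) * y} : Set G) := by
      rintro _ ⟨w, hw, rfl⟩
      rw [Subgroup.mem_centralizer_singleton_iff]
      have h1 : (w : G) * y = y * (w : G) := by
        have := w.2
        rw [Subgroup.mem_centralizer_singleton_iff] at this
        exact this
      have h2 : (x : G) * (w : G) = (w : G) * (x : G) := by
        have := congrArg (Subtype.val) (hcent w hw)
        simpa using this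
      simp only [Subgroup.coe_subtype]
      calc (w : G) * ((x : G) * y) = ((w : G) * (x : G)) * y := by group
        _ = ((x : G) * (w : G)) * y := by rw [h2]
        _ = (x : G) * ((w : G) * y) := by group
        _ = (x : G) * (y * (w : G)) := by rw [h1]
        _ = (x : G) * y * (w : G) := by group
    have hcard : Nat.card ((P : Subgroup (Subgroup.centralizer ({y} : Set G))).map
        (Subgroup.centralizer ({y} : Set G)).subtype)
        = p ^ (Nat.card (Subgroup.centralizer ({y} : Set G))).factorization p := by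
      rw [Subgroup.card_map_of_injective (Subgroup.subtype_injective _)]
      exact P.card_eq_multiplicity
    have hdvd : p ^ (Nat.card (Subgroup.centralizer ({y} : Set G))).factorization p
        ∣ Nat.card (Subgroup.centralizer ({(x : G) * y} : Set G)) := by
      rw [← hcard]
      exact Subgroup.card_dvd_of_le hPle
    have hC0 : Nat.card (Subgroup.centralizer ({(x : G) * y} : Set G)) ≠ 0 := Nat.card_pos.ne'
    have := (hp.pow_dvd_iff_le_factorization hC0).mp hdvd
    omega
  intro hcon
  apply hunit
  have hsame := sameBlock_of_mem hM hB hχ₀ hχ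
  have := hsame ((x : G) * y)
  have h2 := memLocalIdeal_add hM this hcon
  rwa [sub_add_cancel] at h2

end Cfsg.Agent.S0927
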