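import Mathlib
import Cfsg.Statements.S0926
import Cfsg.Agent.S0924
import Cfsg.Agent.S0927
import Cfsg.Agent.Lib.Helper24.ConjPairs

set_option autoImplicit false
open scoped ComplexConjugate
open Cfsg

namespace Cfsg.Agent.S0926

open Cfsg.Agent.Lib.Helper7 Cfsg.Agent.Lib.Helper24 Cfsg.Agent.Lib.Helper2

/-- Let B be a block of the finite group G with defect group D (relative to a maximal ideal M of the algebraic integers containing p), let χ ∈ B have height zero, and let x be a p-element. Then some conjugate of x lies in D if and only if χ does not vanish on the whole p-section of x (the elements whose p-part is conjugate to x). -/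
theorem result {G : Type*} [Group G] [Finite G] (p : ℕ) [Fact p.Prime] (M : Ideal Cfsg.AlgInt) (hM : Cfsg.IsPModular p M) (B : Set (Cfsg.IrrCharacter G)) (hB : Cfsg.IsPBlock M B) (D : Subgroup G) (hD : Cfsg.IsDefectGroup p M B D) (χ : Cfsg.IrrCharacter G) (hχ : χ ∈ B) (h0 : Cfsg.blockHeight p B (χ : G → ℂ) = 0) (x : G) (hx : ∃ k : ℕ, orderOf x = p ^ k) : (∃ g : G, g * x * g⁻¹ ∈ D) ↔ ∃ u : G, (∃ z : G, Cfsg.IsPPart p u z ∧ IsConj x z) ∧ (χ : G → ℂ) u ≠ 0 := by
  classical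
  letI : Fintype G := Fintype.ofFinite G
  constructor
  · rintro ⟨g, hg⟩
    obtain ⟨y₀, hy₀, P, rfl⟩ := hD
    obtain ⟨x', hx'P, hx'⟩ := hg
    have h27 := (Cfsg.Agent.S0927.result p M hM B hB y₀ hy₀ P x' hx'P).1 χ hχ h0
    have hx'e : (x' : G) = g * x * g⁻¹ := hx'
    refine ⟨(x' : G) * y₀, ⟨(x' : G), ⟨y₀, rfl, ?_, ?_, ?_⟩, ?_⟩, ?_⟩
    · exact (Subgroup.mem_centralizer_singleton_iff.mp x'.2)
    · obtain ⟨k, hk⟩ := hx
      refine ⟨k, ?_⟩
      rw [hx'e, ← hk]
      have : g * x * g⁻¹ = MulAut.conj g x := rfl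
      rw [this, MulEquiv.orderOf_eq]
    · exact isDefectClass_regular hM hB hy₀
    · rw [hx'e]
      exact isConj_iff.mpr ⟨g, rfl⟩
    · intro h
      apply h27
      rw [h]
      exact memLocalIdeal_zero hM
  · rintro ⟨u, ⟨z, hz, hxz⟩, hu⟩
    by_contra hno
    apply hu
    have hBe := eq_blockOf_of_mem hM hB hχ
    apply Cfsg.Agent.S0924.result p M hM χ u z hz
    intro E hE hzE
    rw [← hBe] at hE
    obtain ⟨t, ht⟩ := isDefectGroup_conj hM B hB hE hD
    apply hno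
    obtain ⟨c, hc⟩ := isConj_iff.mp hxz
    -- `z ∈ E`, `D = E^t`, so `t z t⁻¹ ∈ D`, and `z = c x c⁻¹`
    refine ⟨t * c, ?_⟩
    rw [ht]
    refine ⟨z, hzE, ?_⟩
    show t * z * t⁻¹ = t * c * x * (t * c)⁻¹
    rw [← hc]
    group

end Cfsg.Agent.S0926
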