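import Mathlib
import Cfsg.Statements.S4455
import Cfsg.Agent.Lib.Helper25.PResidualChars

set_option autoImplicit false
set_option linter.style.haveILetI false
open Cfsg Cfsg.Agent.Lib.Helper25 Cfsg.Agent.Lib.Helper7

namespace Cfsg.Agent.S4455

/-- `O^p(G)` has no linear character of order divisible by `p`. -/
theorem not_dvd_orderOf_hom {G : Type*} [Group G] [Finite G] (p : ℕ) [hp : Fact p.Prime]
    (δ : ↥(Cfsg.pResidual p G) →* ℂˣ) : ¬ p ∣ orderOf δ := by
  intro hdvd
  have hne : orderOf δ ≠ 0 := orderOf_hom_ne_zero δ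
  set δ' : ↥(Cfsg.pResidual p G) →* ℂˣ := δ ^ (orderOf δ / p) with hδ'
  have hord : orderOf δ' = p := orderOf_pow_orderOf_div hne hdvd
  have hpow : δ' ^ p = 1 := by
    have := pow_orderOf_eq_one δ'
    rwa [hord] at this
  have hker : δ'.ker = ⊤ := by
    rw [eq_top_iff]
    have hcl : Subgroup.closure ((Subtype.val : ↥(Cfsg.pResidual p G) → G) ⁻¹'
        {g : G | Nat.Coprime (orderOf g) p}) = ⊤ := by
      unfold Cfsg.pResidual
      exact Subgroup.closure_closure_coe_preimage
    rw [← hcl, Subgroup.closure_le]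
    intro x hx
    have hx' : Nat.Coprime (orderOf (x : G)) p := hx
    rw [Subgroup.orderOf_coe] at hx'
    show x ∈ δ'.ker
    rw [MonoidHom.mem_ker]
    have h1 : (δ' x) ^ p = 1 := by
      have := DFunLike.congr_fun hpow x
      rwa [MonoidHom.pow_apply] at this
    have h2 : (δ' x) ^ orderOf x = 1 := by
      rw [← map_pow, pow_orderOf_eq_one, map_one]
    have h3 : orderOf (δ' x) ∣ Nat.gcd (orderOf x) p :=
      Nat.dvd_gcd (orderOf_dvd_of_pow_eq_one h2) (orderOf_dvd_of_pow_eq_one h1)
    rw [hx'.gcd_eq_one, Nat.dvd_one] at h3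
    exact orderOf_eq_one_iff.mp h3
  have h1 : δ' = 1 := by
    ext x
    have : x ∈ δ'.ker := by rw [hker]; trivial
    rw [MonoidHom.mem_ker] at this
    rw [this]
    rfl
  have h2 : orderOf δ' = 1 := by rw [h1, orderOf_one]
  rw [hord] at h2
  exact hp.out.one_lt.ne' h2

/-- Fix a prime p and a finite group G. Let s be the sum of χ(1)² over the irreducible characters χ of G whose degree is not divisible by p and whose determinantal order o(χ) is not divisible by p. Then the order of O^p(G), the subgroup generated by the elements of order prime to p, is congruent to s modulo p. -/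
theorem result {G : Type*} [Group G] [Finite G] (p : ℕ) (hp : p.Prime) : (Nat.card (Cfsg.pResidual p G) : ℤ) ≡ (∑ᶠ χ ∈ {χ : Cfsg.IrrCharacter G | ¬ p ∣ Cfsg.charDegree (χ : G → ℂ) ∧ ¬ p ∣ Cfsg.detOrder (χ : G → ℂ)}, (Cfsg.charDegree (χ : G → ℂ) : ℤ) ^ 2) [ZMOD p] := by
  classical
  haveI : Fact p.Prime := ⟨hp⟩
  haveI := Fintype.ofFinite G
  haveI : Fintype ↥(Cfsg.pResidual p G) := Fintype.ofFinite _
  haveI : (Cfsg.pResidual p G).Normal := Cfsg.Agent.Lib.Helper17.pResidual_normal
  obtain ⟨a, ha⟩ := (Cfsg.Agent.Lib.Helper17.quotient_pResidual_isPGroup (p := p) (G := G)).exists_card_eq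
  have hidx : (Cfsg.pResidual p G).index = p ^ a := by
    rw [Subgroup.index]; exact ha
  exact card_modEq_sum_pPrimeDet (Cfsg.pResidual p G) p hidx (not_dvd_orderOf_hom p)

end Cfsg.Agent.S4455
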