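import Mathlib
import Cfsg.Statements.S4539
import Cfsg.Agent.Lib.Helper25.MajorCore
import Cfsg.Agent.Lib.Helper25.MajorFiveH
import Cfsg.Agent.Lib.Helper25.MajorGlue
import Cfsg.Agent.Lib.Helper7.DefectOrder
import Cfsg.Agent.Lib.Helper7.HeightZero

set_option autoImplicit false
set_option linter.style.haveILetI false
open Cfsg

namespace Cfsg.Agent.S4539

open Cfsg.Agent.Lib.Helper2 Cfsg.Agent.Lib.Helper7 Cfsg.Agent.Lib.Helper24
open Cfsg.Agent.Lib.Helper25.MajorCore Cfsg.Agent.Lib.Helper25.MajorFiveH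
  Cfsg.Agent.Lib.Helper25.MajorGlue
open scoped ComplexConjugate

/-- the main argument, for a subgroup `H` equal to the centralizer of `z` -/
theorem main_aux {G : Type*} [Group G] [Fintype G] (p : ℕ) [Fact p.Prime] (M : Ideal AlgInt)
    (hM : IsPModular p M) (B : Set (IrrCharacter G)) (z : G) (n : ℕ) (hzn : orderOf z = p ^ n)
    (H : Subgroup G) (hH : H = Subgroup.centralizer ({z} : Set G)) [Fintype H]
    (b : Set (IrrCharacter H)) (hind : IsInducedBlock M H b B)
    (hdef : blockDefect p b = blockDefect p B) (hl : blockRank p b ≤ 2) :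
    Nat.card B ≤ p ^ blockDefect p B := by
  classical
  letI : Fintype (IrrCharacter G) := Fintype.ofFinite _
  letI : Fintype (IrrCharacter H) := Fintype.ofFinite _
  letI : Fintype ↥B := Fintype.ofFinite _
  letI : Fintype ↥b := Fintype.ofFinite _
  have hp : p.Prime := hM.1
  have hp0 : (p : ℂ) ≠ 0 := Nat.cast_ne_zero.mpr hp.ne_zero
  have hb : IsPBlock M b := hind.1
  have hB : IsPBlock M B := hind.2.1
  have hq : 0 < p ^ n := pow_pos hp.pos n
  have hzq : z ^ (p ^ n) = 1 := by rw [← hzn]; exact pow_orderOf_eq_one z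
  have hzH : z ∈ H := by rw [hH, Subgroup.mem_centralizer_singleton_iff]
  have hcent : ∀ h ∈ H, h * z = z * h := by
    intro h hh
    rw [hH] at hh
    exact Subgroup.mem_centralizer_singleton_iff.mp hh
  obtain ⟨ε, hε1, hεF⟩ := exists_shift_scalars_pow z (p ^ n) hq hzq H hzH hcent
  -- multiplicities
  have hχH : ∀ χ : IrrCharacter G, IsCharacter H (fun c : H => (χ : G → ℂ) c) :=
    fun χ => IsCharacter.restrict (IsIrrCharacter.isCharacter χ.2) _
  choose a ha using fun (χ : IrrCharacter G) (ξ : IrrCharacter H) =>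
    classInner_isCharacter_nat (hχH χ) (IsIrrCharacter.isCharacter ξ.2)
  -- the matrix `N`
  obtain ⟨N, hN⟩ : ∃ N : IrrCharacter H → IrrCharacter H → ℂ, N = fun ξ ξ' : IrrCharacter H =>
      classInner (pRegularPart p (ξ : H → ℂ)) (ξ' : H → ℂ) := ⟨_, rfl⟩
  have hNapp : ∀ ξ ξ', N ξ ξ' = classInner (pRegularPart p (ξ : H → ℂ)) (ξ' : H → ℂ) := by
    intro ξ ξ'; rw [hN]
  choose Nz hNz using fun (ξ ξ' : ↥b) =>
    exists_int_pow_defect_mul_classInner hM b ξ.1 ξ'.1 ξ.2
  -- degrees
  obtain ⟨a', ha'⟩ : ∃ a' : ℕ, a' = (Nat.card H).factorization p := ⟨_, rfl⟩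
  obtain ⟨s', hs'⟩ : ∃ s' : ℕ, s' = sInf ((fun ξ : IrrCharacter H =>
      (charDegree (ξ : H → ℂ)).factorization p) '' b) := ⟨_, rfl⟩
  have hd' : blockDefect p b = a' - s' := by rw [ha', hs']; rfl
  have hsle : ∀ ξ : IrrCharacter H, ξ ∈ b → s' ≤ (charDegree (ξ : H → ℂ)).factorization p := by
    intro ξ hξ
    rw [hs']
    exact Nat.sInf_le ⟨ξ, hξ, rfl⟩
  have hdeg0 : ∀ ξ : IrrCharacter H, charDegree (ξ : H → ℂ) ≠ 0 := charDegree_ne_zero
  have hH0 : Nat.card H ≠ 0 := Nat.card_pos.ne'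
  have hsa : ∀ ξ : IrrCharacter H, ξ ∈ b → s' ≤ a' := by
    intro ξ hξ
    have h1 := hsle ξ hξ
    have h2 : (charDegree (ξ : H → ℂ)).factorization p ≤ (Nat.card H).factorization p :=
      (Nat.factorization_le_iff_dvd (hdeg0 ξ) hH0).mpr
        (Cfsg.Agent.Lib.Helper25.charDegree_dvd_card ξ.2) p
    rw [ha']
    exact le_trans h1 h2
  choose u hu using fun ξ : ↥b =>
    (Nat.Prime.pow_dvd_iff_le_factorization hp (hdeg0 ξ.1)).mpr (hsle ξ.1 ξ.2)
  have hNu : ∀ ξ ξ' : ↥b, (Nz ξ ξ' : ℂ)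
      = (u ξ' : ℂ) * contribR p ((ξ.1 : IrrCharacter H) : H → ℂ) ((ξ'.1 : IrrCharacter H) : H → ℂ) := by
    intro ξ ξ'
    have h1 := pow_mul_classInner_eq (p := p) ξ.1 ξ'.1
    rw [← ha', apply_one_eq_charDegree, hu ξ'] at h1
    have h2 : a' = s' + blockDefect p b := by
      have := hsa ξ'.1 ξ'.2
      omega
    rw [h2, pow_add] at h1
    push_cast at h1
    have hps : (p : ℂ) ^ s' ≠ 0 := pow_ne_zero _ hp0
    rw [← hNz ξ ξ']
    have h3 : (p : ℂ) ^ s' * ((p : ℂ) ^ blockDefect p b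
        * classInner (pRegularPart p ((ξ.1 : IrrCharacter H) : H → ℂ)) ((ξ'.1 : IrrCharacter H) : H → ℂ))
        = (p : ℂ) ^ s' * ((u ξ' : ℂ)
          * contribR p ((ξ.1 : IrrCharacter H) : H → ℂ) ((ξ'.1 : IrrCharacter H) : H → ℂ)) := by
      rw [← mul_assoc, h1]
      ring
    exact mul_left_cancel₀ hps h3
  -- the coefficients
  have hcentj : ∀ (j : ℕ), ∀ h ∈ H, h * z ^ j = z ^ j * h := by
    intro j h hh
    exact (Commute.pow_right (hcent h hh) j).eq
  have hcf : ∀ (j : ℕ) (χ : IrrCharacter G) (ξ : ↥b),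
      classInner (pRegularPart p (fun c : H => (χ : G → ℂ) (z ^ j * (c : G))))
        ((ξ.1 : IrrCharacter H) : H → ℂ)
      = ∑ η : ↥b, (a χ η.1 : ℂ) * ε η.1 ^ j * N η.1 ξ.1 := by
    intro j χ ξ
    rw [coeff_expand hM (z ^ j) H (hcentj j) b hb χ ξ.1 ξ.2,
      sum_subtype_eq_sum_ite b (fun η => (a χ η : ℂ) * ε η ^ j * N η ξ.1)]
    apply Finset.sum_congr rfl
    intro η _
    by_cases hη : η ∈ b
    · rw [if_pos hη, if_pos hη, hεF j (χ : G → ℂ) η, ha χ η, hNapp]
      ring
    · rw [if_neg hη, if_neg hη]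
  have hcf1 : ∀ (χ : IrrCharacter G) (ξ : ↥b),
      classInner (pRegularPart p (fun c : H => (χ : G → ℂ) (z * (c : G))))
        ((ξ.1 : IrrCharacter H) : H → ℂ)
      = ∑ η : ↥b, (a χ η.1 : ℂ) * ε η.1 * N η.1 ξ.1 := by
    intro χ ξ
    have := hcf 1 χ ξ
    simp only [pow_one] at this
    exact this
  -- heights
  obtain ⟨ψ₀, hψ₀B, hψ₀⟩ := Cfsg.Agent.Lib.Helper7.exists_height_zero hM B hB
  -- (5H) in the form of the frame data
  have h5 : ∀ χ ψ : ↥B, blockHeight p B ((ψ.1 : IrrCharacter G) : G → ℂ) = 0 →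
      ((p : ℂ) ^ blockDefect p b * ∑ ξ : ↥b, (∑ η : ↥b, (a χ.1 η.1 : ℂ) * ε η.1 * N η.1 ξ.1)
        * conj (∑ η : ↥b, (a ψ.1 η.1 : ℂ) * ε η.1 * N η.1 ξ.1) ≠ 0) ∧
      (MemLocalIdeal M ((p : ℂ) ^ blockDefect p b * ∑ ξ : ↥b,
        (∑ η : ↥b, (a χ.1 η.1 : ℂ) * ε η.1 * N η.1 ξ.1)
        * conj (∑ η : ↥b, (a ψ.1 η.1 : ℂ) * ε η.1 * N η.1 ξ.1))
        ↔ 0 < blockHeight p B ((χ.1 : IrrCharacter G) : G → ℂ)) := by
    intro χ ψ h0
    have h := major_five_h_general hM z ⟨n, hzn⟩ H hH B b hind hdef χ.1 ψ.1 χ.2 ψ.2 h0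
    have e : (∑ ξ : ↥b, (∑ η : ↥b, (a χ.1 η.1 : ℂ) * ε η.1 * N η.1 ξ.1)
        * conj (∑ η : ↥b, (a ψ.1 η.1 : ℂ) * ε η.1 * N η.1 ξ.1))
        = ∑ ξ : IrrCharacter H, if ξ ∈ b then
          classInner (pRegularPart p (fun c : H => ((χ.1 : IrrCharacter G) : G → ℂ) (z * (c : G))))
            (ξ : H → ℂ)
          * conj (classInner (pRegularPart p
            (fun c : H => ((ψ.1 : IrrCharacter G) : G → ℂ) (z * (c : G)))) (ξ : H → ℂ)) else 0 := by
      rw [← sum_subtype_eq_sum_ite b (fun ξ =>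
        classInner (pRegularPart p (fun c : H => ((χ.1 : IrrCharacter G) : G → ℂ) (z * (c : G))))
            (ξ : H → ℂ)
          * conj (classInner (pRegularPart p
            (fun c : H => ((ψ.1 : IrrCharacter G) : G → ℂ) (z * (c : G)))) (ξ : H → ℂ)))]
      apply Finset.sum_congr rfl
      intro ξ _
      rw [hcf1 χ.1 ξ, hcf1 ψ.1 ξ]
    rw [e]
    exact h
  -- the frame data
  let D : FrameData p M ↥B ↥b :=
    { d := blockDefect p b
      n := n
      l := blockRank p b
      N := fun ξ ξ' => N ξ.1 ξ'.1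
      Nz := Nz
      hNz := by
        intro ξ ξ'
        rw [hNapp]
        exact hNz ξ ξ'
      hNsymm := by
        intro ξ ξ'
        rw [hNapp, hNapp]
        exact classInner_pRegularPart_symm ξ.1 ξ'.1
      hNidem := by
        intro ξ ξ'
        have h := regInner_idem_block hM b hb ξ.1 ξ.2 ((ξ'.1 : IrrCharacter H) : H → ℂ)
        rw [sum_subtype_eq_sum_ite b (fun η => N ξ.1 η * N η ξ'.1), hNapp, ← h]
        apply Finset.sum_congr rfl
        intro η _
        by_cases hη : η ∈ b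
        · rw [if_pos hη, if_pos hη, hNapp, hNapp]
        · rw [if_neg hη, if_neg hη]
      hNtr := by
        have h := sum_regInner_self hM b hb
        rw [sum_subtype_eq_sum_ite b (fun ξ => N ξ ξ), ← h]
        apply Finset.sum_congr rfl
        intro ξ _
        by_cases hξ : ξ ∈ b
        · rw [if_pos hξ, if_pos hξ, hNapp]
        · rw [if_neg hξ, if_neg hξ]
      ρ := fun ξ => contribR p ((ξ.1 : IrrCharacter H) : H → ℂ) ((ξ.1 : IrrCharacter H) : H → ℂ)
      hρ := fun ξ => contribR_memLocalRing hM ξ.1 ξ.1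
      u := fun ξ => (u ξ : ℤ)
      hrank := by
        intro ξ ξ'
        have hsame : SameBlock M ((ξ'.1 : IrrCharacter H) : H → ℂ)
            ((ξ.1 : IrrCharacter H) : H → ℂ) := by
          obtain ⟨χ₀, hχ₀⟩ := hb
          have h1 : ξ.1 ∈ blockOf M (χ₀ : H → ℂ) := by rw [← hχ₀]; exact ξ.2
          have h2 : ξ'.1 ∈ blockOf M (χ₀ : H → ℂ) := by rw [← hχ₀]; exact ξ'.2
          exact sameBlock_trans hM (sameBlock_symm hM h2) h1
        have h1 := contribR_sub_memLocalIdeal hM ξ.1 ξ'.1 ξ.1 hsame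
        have e : (Nz ξ ξ' : ℂ) - contribR p ((ξ.1 : IrrCharacter H) : H → ℂ)
            ((ξ.1 : IrrCharacter H) : H → ℂ) * (((u ξ' : ℕ) : ℤ) : ℂ)
            = (u ξ' : ℂ) * (contribR p ((ξ.1 : IrrCharacter H) : H → ℂ)
                ((ξ'.1 : IrrCharacter H) : H → ℂ)
              - contribR p ((ξ.1 : IrrCharacter H) : H → ℂ) ((ξ.1 : IrrCharacter H) : H → ℂ)) := by
          rw [hNu ξ ξ']
          push_cast
          ring
        rw [e]
        exact memLocalIdeal_mul_left hM (memLocalRing_natCast hM _) h1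
      a := fun χ ξ => a χ.1 ξ.1
      ε := fun ξ => ε ξ.1
      hε := fun ξ => hε1 ξ.1
      hframe := by
        intro j hj ξ ξ'
        rw [Finset.mem_filter, Finset.mem_range] at hj
        have hcop : Nat.Coprime j (orderOf z) := by
          rw [hzn]
          exact hj.2.symm
        have hHj : H = Subgroup.centralizer ({z ^ j} : Set G) := by
          rw [hH]
          ext h
          rw [Subgroup.mem_centralizer_singleton_iff, Subgroup.mem_centralizer_singleton_iff]
          constructor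
          · intro hh
            exact (Commute.pow_right (show Commute h z from hh) j).eq
          · intro hh
            obtain ⟨m, hm⟩ := exists_pow_eq_self_of_coprime hcop
            have := Commute.pow_right (show Commute h (z ^ j) from hh) m
            rw [hm] at this
            exact this.eq
        have hyj : ∃ k : ℕ, orderOf (z ^ j) = p ^ k := by
          have hdvd : orderOf (z ^ j) ∣ p ^ n := by
            rw [← hzn]
            exact orderOf_pow_dvd j
          obtain ⟨k, _, hk⟩ := (Nat.dvd_prime_pow hp).mp hdvd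
          exact ⟨k, hk⟩
        have h := frame_general hM (z ^ j) hyj H hHj B b hind ξ.1 ξ'.1 ξ.2
        simp only [← hcf]
        rw [sum_subtype_eq_sum_ite B (fun χ =>
          conj (classInner (pRegularPart p (fun c : H => (χ : G → ℂ) (z ^ j * (c : G))))
            ((ξ.1 : IrrCharacter H) : H → ℂ))
          * classInner (pRegularPart p (fun c : H => (χ : G → ℂ) (z ^ j * (c : G))))
            ((ξ'.1 : IrrCharacter H) : H → ℂ)), h, hNapp]
      ht := fun χ => blockHeight p B ((χ.1 : IrrCharacter G) : G → ℂ)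
      hht := ⟨⟨ψ₀, hψ₀B⟩, hψ₀⟩
      h5a := fun χ ψ h0 => (h5 χ ψ h0).1
      h5b := fun χ ψ h0 => (h5 χ ψ h0).2 }
  have hfin := D.card_le hM hl
  rw [Nat.card_eq_fintype_card, ← hdef]
  convert hfin

/-- Let B be a p-block of the finite group G (relative to a maximal ideal M of the algebraic integers containing p) of defect d with defect group D. Let z be an element of D commuting with every element of D, and let b be a block of the centralizer C of z with defect group D that induces B (a major subsection (z, b)). If b has p-regular rank at most two, then B contains at most p ^ d irreducible characters. -/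
theorem result {G : Type*} [Group G] [Finite G] (p : ℕ) [Fact p.Prime] (M : Ideal Cfsg.AlgInt) (hM : Cfsg.IsPModular p M) (B : Set (Cfsg.IrrCharacter G)) (hB : Cfsg.IsPBlock M B) (D : Subgroup G) (hD : Cfsg.IsDefectGroup p M B D) (z : G) (hzD : z ∈ D) (hzc : ∀ d ∈ D, d * z = z * d) (b : Set (Cfsg.IrrCharacter ↥(Subgroup.centralizer ({z} : Set G)))) (hb : Cfsg.IsInducedBlock M (Subgroup.centralizer ({z} : Set G)) b B) (hbD : Cfsg.IsDefectGroup p M b (D.subgroupOf (Subgroup.centralizer ({z} : Set G)))) (hl : Cfsg.blockRank p b ≤ 2) : Nat.card B ≤ p ^ Cfsg.blockDefect p B := by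
  classical
  letI : Fintype G := Fintype.ofFinite G
  letI : Fintype (Subgroup.centralizer ({z} : Set G)) := Fintype.ofFinite _
  have hp : p.Prime := hM.1
  have hcD := card_of_isDefectGroup hM B hB D hD
  have hcb := card_of_isDefectGroup hM b hb.1 _ hbD
  have hDle : D ≤ Subgroup.centralizer ({z} : Set G) := by
    intro d hd
    rw [Subgroup.mem_centralizer_singleton_iff]
    exact hzc d hd
  have hcard : Nat.card (D.subgroupOf (Subgroup.centralizer ({z} : Set G))) = Nat.card D :=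
    Nat.card_congr (Subgroup.subgroupOfEquivOfLe hDle).toEquiv
  have hdef : blockDefect p b = blockDefect p B := by
    rw [hcard, hcD] at hcb
    exact (Nat.pow_right_injective hp.two_le hcb).symm
  -- the order of `z`
  have hzord : orderOf z ∣ p ^ blockDefect p B := by
    rw [← hcD]
    have h1 : orderOf (⟨z, hzD⟩ : D) ∣ Nat.card D := orderOf_dvd_natCard _
    rwa [← Subgroup.orderOf_coe] at h1
  obtain ⟨n, _, hn⟩ := (Nat.dvd_prime_pow hp).mp hzord
  exact main_aux p M hM B z n hn _ rfl b hb hdef hl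

end Cfsg.Agent.S4539
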