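import Mathlib
import Cfsg.Statements.S4714
import Cfsg.Agent.Lib.Helper7.CanonicalChar

set_option autoImplicit false
open Cfsg

namespace Cfsg.Agent.S4714

open Cfsg.Agent.Lib.Helper7 Cfsg.Agent.Lib.Helper24

/-- the two defining properties of `θ_ζ` -/
theorem thetaFn_props {G : Type*} [Group G] [Finite G] (p : ℕ) [Fact p.Prime] (D : Subgroup G)
    (hD : IsPGroup p D) (ζ : D → ℂ) (χ : G → ℂ) :
    (∀ (y : D) (x : G), ¬ p ∣ orderOf x → Commute (y : G) x →
      thetaFn p D ζ χ ((y : G) * x) = ζ y * χ x) ∧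
    (∀ z : G, (∀ y : G, Cfsg.IsPPart p z y → y ∉ D) → thetaFn p D ζ χ z = 0) := by
  constructor
  · intro y x hx hc
    have hy : ∃ j : ℕ, orderOf (y : G) = p ^ j := by
      obtain ⟨j, hj⟩ := (IsPGroup.iff_orderOf.mp hD) y
      exact ⟨j, by rw [← hj, Subgroup.orderOf_coe]⟩
    rw [thetaFn_mul p D ζ χ hy hx hc.eq, dif_pos y.2]
  · intro z hz
    unfold thetaFn
    rw [dif_neg (hz _ (pPt_spec p z))]

/-- a function with the two properties is `θ_ζ` -/
theorem eq_thetaFn_of_props {G : Type*} [Group G] [Finite G] (p : ℕ) [Fact p.Prime]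
    (D : Subgroup G) (ζ : D → ℂ) (χ θ : G → ℂ)
    (h1 : ∀ (y : D) (x : G), ¬ p ∣ orderOf x → Commute (y : G) x → θ ((y : G) * x) = ζ y * χ x)
    (h2 : ∀ z : G, (∀ y : G, Cfsg.IsPPart p z y → y ∉ D) → θ z = 0) :
    θ = thetaFn p D ζ χ := by
  funext g
  unfold thetaFn
  by_cases h : pPt p g ∈ D
  · rw [dif_pos h]
    have := h1 ⟨pPt p g, h⟩ (pRg p g) (pRg_regular p g) (pPt_pRg_commute p g)
    simp only at this
    rw [pPt_mul_pRg] at this
    exact this
  · rw [dif_neg h]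
    apply h2
    intro y hy
    rw [← pPt_eq_of_isPPart p hy]
    exact h

/-- Let p be a prime, M a maximal ideal of the algebraic integers containing p, D a p-subgroup of the finite group G with G = D·C_G(D), and B a p-block with defect group D. Let χ be a member of B having D in its kernel (there is exactly one, the canonical character of B). Then the irreducible characters in B are exactly the functions θ on G for which there is an irreducible character ζ of D such that θ(yx) = ζ(y)χ(x) whenever y ∈ D, x has order prime to p and x commutes with y, and θ(z) = 0 whenever the p-part of z does not lie in D. -/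
theorem result {G : Type*} [Group G] [Finite G] (p : ℕ) [Fact p.Prime] (M : Ideal Cfsg.AlgInt) (hM : Cfsg.IsPModular p M) (D : Subgroup G) (hD : IsPGroup p D) (hG : D ⊔ Subgroup.centralizer (D : Set G) = ⊤) (B : Set (Cfsg.IrrCharacter G)) (hB : Cfsg.IsPBlock M B) (hBD : Cfsg.IsDefectGroup p M B D) (χ : Cfsg.IrrCharacter G) (hχ : χ ∈ B) (hχD : ∀ y ∈ D, (χ : G → ℂ) y = (χ : G → ℂ) 1) : (∀ θ : Cfsg.IrrCharacter G, θ ∈ B ↔ ∃ ζ : Cfsg.IrrCharacter D, (∀ (y : D) (x : G), ¬ p ∣ orderOf x → Commute (y : G) x → (θ : G → ℂ) ((y : G) * x) = (ζ : D → ℂ) y * (χ : G → ℂ) x) ∧ (∀ z : G, (∀ y : G, Cfsg.IsPPart p z y → y ∉ D) → (θ : G → ℂ) z = 0)) ∧ ∀ ζ : Cfsg.IrrCharacter D, ∃ θ ∈ B, (∀ (y : D) (x : G), ¬ p ∣ orderOf x → Commute (y : G) x → (θ : G → ℂ) ((y : G) * x) = (ζ : D → ℂ) y * (χ : G → ℂ) x) ∧ (∀ z : G, (∀ y : G, Cfsg.IsPPart p z y → y ∉ D) → (θ : G → ℂ) z = 0) := by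
  classical
  haveI : D.Normal := normal_of_sup_centralizer_eq_top D hG
  have hdeg := (canonical_degree hM D B hB hBD χ hχ hχD).ge
  have hBeq : B = Cfsg.blockOf M (χ : G → ℂ) := eq_blockOf_of_mem hM hB hχ
  have hrange := blockOf_eq_range_thetaIrr hM D hD hG χ hχD hdeg
  constructor
  · intro θ
    rw [hBeq, hrange]
    constructor
    · rintro ⟨ζ, rfl⟩
      exact ⟨ζ, thetaFn_props p D hD (ζ : D → ℂ) (χ : G → ℂ)⟩
    · rintro ⟨ζ, h1, h2⟩
      refine ⟨ζ, ?_⟩
      apply Subtype.ext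
      exact (eq_thetaFn_of_props p D (ζ : D → ℂ) (χ : G → ℂ) (θ : G → ℂ) h1 h2).symm
  · intro ζ
    refine ⟨thetaIrr D hD hG χ hχD hdeg ζ, ?_, thetaFn_props p D hD (ζ : D → ℂ) (χ : G → ℂ)⟩
    rw [hBeq, hrange]
    exact ⟨ζ, rfl⟩

end Cfsg.Agent.S4714
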