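import Mathlib
import Cfsg.Statements.S4669
import Cfsg.Agent.S4714
import Cfsg.Agent.Lib.Helper7.NormalDefect
import Cfsg.Agent.Lib.Helper24.BlockRegular
import Cfsg.Agent.Lib.Helper24.Contribution

set_option autoImplicit false
open Cfsg

namespace Cfsg.Agent.S4669

open Cfsg.Agent.Lib.Helper2 Cfsg.Agent.Lib.Helper24
open scoped ComplexConjugate

/-- Fix a prime p and a maximal ideal M of the algebraic integers containing p. If the p-block B of the finite group G has a defect group P contained in the centre of G, then B has p-regular rank one (a single irreducible Brauer character). -/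
theorem result {G : Type*} [Group G] [Fintype G] (p : ℕ) [Fact p.Prime] (M : Ideal Cfsg.AlgInt) (hM : Cfsg.IsPModular p M) (B : Set (Cfsg.IrrCharacter G)) (hB : Cfsg.IsPBlock M B) (P : Subgroup G) (hD : Cfsg.IsDefectGroup p M B P) (hPZ : P ≤ Subgroup.center G) : Cfsg.blockRank p B = 1 := by
  classical
  have hPp : IsPGroup p P := by
    obtain ⟨g, -, Sy, rfl⟩ := hD
    exact Sy.2.map _
  haveI : P.Normal := ⟨fun n hn g => by
    have h1 := Subgroup.mem_center_iff.mp (hPZ hn) g
    have e1 : g * n * g⁻¹ = n := by rw [h1]; group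
    rw [e1]; exact hn⟩
  obtain ⟨χ, hχ, hker⟩ := Cfsg.Agent.Lib.Helper7.exists_mem_ker_of_normal_pgroup hM P hPp B hB
  have hG : P ⊔ Subgroup.centralizer (P : Set G) = ⊤ := by
    have : Subgroup.centralizer (P : Set G) = ⊤ :=
      Subgroup.centralizer_eq_top_iff_subset.mpr (fun x hx => hPZ hx)
    rw [this, sup_top_eq]
  have h := (Cfsg.Agent.S4714.result p M hM P hPp hG B hB hD χ hχ hker).1
  have key : ∀ θ ∈ B, ∃ c : ℂ, Cfsg.pRegularPart p (θ : G → ℂ)
      = c • Cfsg.pRegularPart p (χ : G → ℂ) := by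
    intro θ hθ
    obtain ⟨ζ, hζ, -⟩ := (h θ).mp hθ
    refine ⟨(ζ : P → ℂ) 1, ?_⟩
    funext x
    by_cases hx : p ∣ orderOf x
    · rw [Pi.smul_apply, pRegularPart_of_singular _ hx, pRegularPart_of_singular _ hx,
        smul_zero]
    · rw [Pi.smul_apply, pRegularPart_of_regular _ hx, pRegularPart_of_regular _ hx]
      have h1 := hζ 1 x hx (Commute.one_left x)
      simpa using h1
  unfold Cfsg.blockRank
  have hspan : Submodule.span ℂ
      ((fun χ' : Cfsg.IrrCharacter G => Cfsg.pRegularPart p (χ' : G → ℂ)) '' B)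
      = Submodule.span ℂ {Cfsg.pRegularPart p (χ : G → ℂ)} := by
    apply le_antisymm
    · rw [Submodule.span_le]
      rintro _ ⟨θ, hθ, rfl⟩
      obtain ⟨c, hc⟩ := key θ hθ
      rw [SetLike.mem_coe]
      simp only [hc]
      exact Submodule.smul_mem _ _ (Submodule.mem_span_singleton_self _)
    · rw [Submodule.span_le, Set.singleton_subset_iff]
      exact Submodule.subset_span ⟨χ, hχ, rfl⟩
  rw [hspan]
  apply finrank_span_singleton
  intro h0
  have h1 := congrFun h0 1
  rw [pRegularPart_of_regular _ (by rw [orderOf_one]; exact (Fact.out : p.Prime).one_lt.ne' ∘ Nat.dvd_one.mp)] at h1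
  exact IsIrrCharacter.apply_one_ne_zero χ.2 h1

end Cfsg.Agent.S4669
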