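import Cfsg.Statements.S4729
import Cfsg.Agent.Lib.Helper2.CharBasic
import Cfsg.Agent.Lib.Helper24.Loc
import Cfsg.Agent.Lib.Helper25.CharBasic

set_option autoImplicit false
open Cfsg

namespace Cfsg.Agent.S4729

open Module Cfsg.Agent.Lib.Helper24
open scoped ComplexConjugate

/-- geometric sum of a root of unity -/
theorem geom_sum_root {w : ℂ} {r : ℕ} (hw : w ^ r = 1) :
    ∑ k ∈ Finset.range r, w ^ k = if w = 1 then (r : ℂ) else 0 := by
  split_ifs with h1
  · subst h1; simp
  · have h := mul_geom_sum w r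
    rw [hw, sub_self] at h
    rcases mul_eq_zero.mp h with h2 | h2
    · exact absurd (sub_eq_zero.mp h2) h1
    · exact h2

/-- the determinant of a representation of a perfect group is trivial -/
theorem det_eq_one_of_perfect {G : Type*} [Group G] (hperf : commutator G = ⊤)
    {V : Type*} [AddCommGroup V] [Module ℂ V] (ρ : Representation ℂ G V) (g : G) :
    LinearMap.det (ρ g) = 1 := by
  let f : G →* ℂˣ := (Units.map (LinearMap.det : (V →ₗ[ℂ] V) →* ℂ)).comp ρ.asGroupHom
  have hle : commutator G ≤ f.ker := Abelianization.commutator_subset_ker f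
  have hg : g ∈ f.ker := hle (by rw [hperf]; exact Subgroup.mem_top g)
  have h1 : f g = 1 := hg
  have h2 : ((f g : ℂˣ) : ℂ) = 1 := by rw [h1]; rfl
  have h3 : ((f g : ℂˣ) : ℂ) = LinearMap.det (ρ g) := by
    simp [f, Representation.asGroupHom_apply]
  rw [← h3, h2]

/-- principal block congruence at an element with `p'`-class size -/
theorem principal_congr {G : Type*} [Group G] [Finite G] {p : ℕ} [Fact p.Prime]
    {M : Ideal Cfsg.AlgInt} (hM : Cfsg.IsPModular p M) (χ : Cfsg.IrrCharacter G)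
    (hχ : χ ∈ Cfsg.principalBlock M G) (v : G)
    (hv : ¬ p ∣ (Subgroup.centralizer ({v} : Set G)).index) :
    Cfsg.MemLocalIdeal M ((χ : G → ℂ) 1 - (χ : G → ℂ) v) := by
  have h1 : Cfsg.MemLocalIdeal M
      (Cfsg.centralChar (fun _ : G => (1 : ℂ)) v - Cfsg.centralChar (χ : G → ℂ) v) := hχ v
  have hne : (χ : G → ℂ) 1 ≠ 0 := Cfsg.Agent.Lib.Helper25.irr_one_ne_zero χ.2
  have hchar : Cfsg.IsCharacter G (χ : G → ℂ) := Cfsg.Agent.Lib.Helper25.isCharacter_of_irr χ.2
  have hdeg : (χ : G → ℂ) 1 = (Cfsg.charDegree (χ : G → ℂ) : ℂ) :=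
    Cfsg.Agent.Lib.Helper25.char_one_eq_charDegree hchar
  have hidx : ((Subgroup.centralizer ({v} : Set G)).index : ℂ) ≠ 0 := by
    have : (Subgroup.centralizer ({v} : Set G)).index ≠ 0 := by
      intro h0; apply hv; rw [h0]; exact dvd_zero p
    exact_mod_cast this
  have h2 : Cfsg.MemLocalRing M
      ((Cfsg.charDegree (χ : G → ℂ) : ℂ) *
        ((Subgroup.centralizer ({v} : Set G)).index : ℂ)⁻¹) :=
    memLocalRing_mul hM (memLocalRing_natCast hM _) (memLocalRing_natCast_inv hM hv)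
  have h3 := memLocalIdeal_mul_left hM h2 h1
  have e : (Cfsg.charDegree (χ : G → ℂ) : ℂ) *
        ((Subgroup.centralizer ({v} : Set G)).index : ℂ)⁻¹ *
      (Cfsg.centralChar (fun _ : G => (1 : ℂ)) v - Cfsg.centralChar (χ : G → ℂ) v)
      = (χ : G → ℂ) 1 - (χ : G → ℂ) v := by
    rw [← hdeg]
    unfold Cfsg.centralChar
    field_simp
  rw [e] at h3
  exact h3

/-- multiplicity of an eigenvalue via the discrete Fourier transform -/
theorem dft_mult {n r : ℕ} (μ : Fin n → ℂ) (hμ : ∀ i, μ i ^ r = 1) {ξ : ℂ} (hξ : ξ ^ r = 1)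
    (hr : r ≠ 0) :
    ∑ k ∈ Finset.range r, (ξ⁻¹) ^ k * ∑ i, μ i ^ k
      = (r : ℂ) * ((Finset.univ.filter (fun i => μ i = ξ)).card : ℂ) := by
  have hξ0 : ξ ≠ 0 := by
    intro h0; rw [h0, zero_pow hr] at hξ; exact zero_ne_one hξ
  calc ∑ k ∈ Finset.range r, (ξ⁻¹) ^ k * ∑ i, μ i ^ k
      = ∑ i, ∑ k ∈ Finset.range r, (ξ⁻¹ * μ i) ^ k := by
        rw [Finset.sum_comm]
        apply Finset.sum_congr rfl
        intro k _
        rw [Finset.mul_sum]
        apply Finset.sum_congr rfl
        intro i _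
        rw [mul_pow]
    _ = ∑ i, (if μ i = ξ then (r : ℂ) else 0) := by
        apply Finset.sum_congr rfl
        intro i _
        have hw : (ξ⁻¹ * μ i) ^ r = 1 := by rw [mul_pow, inv_pow, hξ, hμ i]; simp
        rw [geom_sum_root hw]
        have hiff : ξ⁻¹ * μ i = 1 ↔ μ i = ξ := by
          constructor
          · intro h
            have := congrArg (fun z => ξ * z) h
            simpa [← mul_assoc, mul_inv_cancel₀ hξ0] using this
          · intro h; rw [h, inv_mul_cancel₀ hξ0]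
        simp only [hiff]
    _ = (r : ℂ) * ((Finset.univ.filter (fun i => μ i = ξ)).card : ℂ) := by
        rw [← Finset.sum_filter, Finset.sum_const, nsmul_eq_mul, mul_comm]

/-- the combinatorial core: eigenvalue multiplicities divisible by `p`, fewer than `2p`
eigenvalues, not all trivial -/
theorem prod_eq_pow {n r p : ℕ} (hp : p.Prime) (hn : n < 2 * p) (μ : Fin n → ℂ)
    (hμ : ∀ i, μ i ^ r = 1)
    (hdiv : ∀ ξ : ℂ, ξ ^ r = 1 → ξ ≠ 1 → p ∣ (Finset.univ.filter (fun i => μ i = ξ)).card)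
    (hne : ∃ i, μ i ≠ 1) :
    ∃ ξ₀ : ℂ, ξ₀ ≠ 1 ∧ ξ₀ ^ r = 1 ∧ ∏ i, μ i = ξ₀ ^ p := by
  classical
  obtain ⟨i₀, hi₀⟩ := hne
  set ξ₀ := μ i₀ with hξ₀
  set A := Finset.univ.filter (fun i => μ i = ξ₀) with hA
  have hApos : 0 < A.card := Finset.card_pos.mpr ⟨i₀, by simp [hA, hξ₀]⟩
  have hAp : p ≤ A.card := Nat.le_of_dvd hApos (hdiv ξ₀ (hμ i₀) hi₀)
  have hAn : A.card ≤ n := by
    calc A.card ≤ (Finset.univ : Finset (Fin n)).card := Finset.card_le_card (Finset.filter_subset _ _)
      _ = n := by simp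
  have hall : ∀ j, μ j = 1 ∨ μ j = ξ₀ := by
    intro j
    by_contra hcon
    push Not at hcon
    set B := Finset.univ.filter (fun i => μ i = μ j) with hB
    have hBpos : 0 < B.card := Finset.card_pos.mpr ⟨j, by simp [hB]⟩
    have hBp : p ≤ B.card := Nat.le_of_dvd hBpos (hdiv (μ j) (hμ j) hcon.1)
    have hdisj : Disjoint A B := by
      rw [Finset.disjoint_left]
      intro i hiA hiB
      simp only [hA, hB, Finset.mem_filter, Finset.mem_univ, true_and] at hiA hiB
      exact hcon.2 (hiB.symm.trans hiA)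
    have hAB : (A ∪ B).card ≤ n := by
      calc (A ∪ B).card ≤ (Finset.univ : Finset (Fin n)).card :=
            Finset.card_le_card (Finset.subset_univ _)
        _ = n := by simp
    rw [Finset.card_union_of_disjoint hdisj] at hAB
    omega
  have hAcard : A.card = p := by
    obtain ⟨c, hc⟩ := hdiv ξ₀ (hμ i₀) hi₀
    have hc' : A.card = p * c := hc
    have hc1 : c = 1 := by
      have hppos := hp.pos
      rcases Nat.lt_or_ge c 2 with h | h
      · rcases Nat.eq_zero_or_pos c with h0 | h0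
        · subst h0; omega
        · omega
      · have : 2 * p ≤ p * c := by nlinarith
        omega
    rw [hc', hc1, mul_one]
  refine ⟨ξ₀, hi₀, hμ i₀, ?_⟩
  have hprod : ∏ i, μ i = ∏ i, (if μ i = ξ₀ then ξ₀ else 1) := by
    apply Finset.prod_congr rfl
    intro i _
    rcases hall i with h | h
    · by_cases h' : μ i = ξ₀
      · rw [if_pos h']; exact h'
      · rw [if_neg h']; exact h
    · rw [if_pos h]; exact h
  rw [hprod, Finset.prod_ite, Finset.prod_const_one, mul_one, Finset.prod_const, ← hA, hAcard]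

/-- Let p be a prime, M a maximal ideal of the algebraic integers containing p, G a finite perfect group and P a Sylow p-subgroup. If the principal p-block of G contains a faithful irreducible character of degree less than 2p, then the centralizer of P is a p-group. -/
theorem result {G : Type*} [Group G] [Finite G] (p : ℕ) [Fact p.Prime] (M : Ideal Cfsg.AlgInt) (hM : Cfsg.IsPModular p M) (hperf : commutator G = ⊤) (P : Sylow p G) (χ : Cfsg.IrrCharacter G) (hχ : χ ∈ Cfsg.principalBlock M G) (hfaith : ∀ g : G, (χ : G → ℂ) g = (χ : G → ℂ) 1 → g = 1) (hdeg : Cfsg.charDegree (χ : G → ℂ) < 2 * p) : IsPGroup p ↥(Subgroup.centralizer ((P : Subgroup G) : Set G)) := by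
  classical
  have hp : p.Prime := Fact.out
  by_contra hnot
  have hr : ∃ r : ℕ, r.Prime ∧ r ≠ p ∧
      r ∣ Nat.card ↥(Subgroup.centralizer ((P : Subgroup G) : Set G)) := by
    by_contra hcon
    push Not at hcon
    apply hnot
    rw [IsPGroup.iff_card]
    exact ⟨_, Nat.eq_prime_pow_of_unique_prime_dvd Nat.card_pos.ne' (fun {d} hd hdv => by
      by_contra hne; exact hcon d hd hne hdv)⟩
  obtain ⟨r, hrp, hrne, hrdvd⟩ := hr
  haveI : Fact r.Prime := ⟨hrp⟩
  obtain ⟨⟨v, hvC⟩, hv⟩ := exists_prime_orderOf_dvd_card' r hrdvd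
  have hvord : orderOf v = r := by
    rw [← hv]; exact (Subgroup.orderOf_mk v hvC).symm
  have hv1 : v ≠ 1 := by
    intro h; rw [h, orderOf_one] at hvord; exact hrp.one_lt.ne hvord
  -- class sizes of powers of v are prime to p
  have hidx : ∀ k : ℕ, ¬ p ∣ (Subgroup.centralizer ({v ^ k} : Set G)).index := by
    intro k hdvd
    have hle : (P : Subgroup G) ≤ Subgroup.centralizer ({v ^ k} : Set G) := by
      intro x hx
      rw [Subgroup.mem_centralizer_iff]
      intro h hh
      rw [Set.mem_singleton_iff] at hh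
      subst hh
      have hvk : v ^ k ∈ Subgroup.centralizer ((P : Subgroup G) : Set G) := pow_mem hvC k
      rw [Subgroup.mem_centralizer_iff] at hvk
      exact (hvk x hx).symm
    exact P.not_dvd_index (dvd_trans hdvd (Subgroup.index_dvd_of_le hle))
  have hcong : ∀ k : ℕ, Cfsg.MemLocalIdeal M ((χ : G → ℂ) 1 - (χ : G → ℂ) (v ^ k)) :=
    fun k => principal_congr hM χ hχ (v ^ k) (hidx k)
  -- the representation
  obtain ⟨n, ρ, hirr, hρ⟩ := χ.2
  obtain ⟨b, μ, hb, hμ⟩ := Cfsg.Agent.Lib.Helper2.exists_eigenbasis ρ v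
  rw [hvord] at hμ
  have hpow : ∀ (k : ℕ) i, ρ (v ^ k) (b i) = μ i ^ k • b i := by
    intro k i
    induction k with
    | zero => simp
    | succ k ih =>
      rw [pow_succ', map_mul, Module.End.mul_apply, ih, map_smul, hb, smul_smul, pow_succ]
  have hval : ∀ k : ℕ, (χ : G → ℂ) (v ^ k) = ∑ i, μ i ^ k := by
    intro k
    rw [← hρ]
    exact Cfsg.Agent.Lib.Helper2.trace_eq_sum_of_eigenbasis _ b _ (hpow k)
  have hfin : finrank ℂ (Fin n → ℂ) = Cfsg.charDegree (χ : G → ℂ) := by
    have h1 := hval 0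
    have h2 : (χ : G → ℂ) 1 = (Cfsg.charDegree (χ : G → ℂ) : ℂ) :=
      Cfsg.Agent.Lib.Helper25.char_one_eq_charDegree
        (Cfsg.Agent.Lib.Helper25.isCharacter_of_irr χ.2)
    simp only [pow_zero, Finset.sum_const, Finset.card_univ, Fintype.card_fin, nsmul_eq_mul,
      mul_one] at h1
    rw [h2] at h1
    exact_mod_cast h1.symm
  have hdet : LinearMap.det (ρ v) = ∏ i, μ i := by
    rw [← LinearMap.det_toMatrix b]
    have : LinearMap.toMatrix b b (ρ v) = Matrix.diagonal μ := by
      ext i j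
      rw [LinearMap.toMatrix_apply, hb, Matrix.diagonal_apply]
      by_cases hij : i = j
      · subst hij; simp
      · rw [if_neg hij]
        simp [Ne.symm hij]
    rw [this, Matrix.det_diagonal]
  have hdiv : ∀ ξ : ℂ, ξ ^ r = 1 → ξ ≠ 1 →
      p ∣ (Finset.univ.filter (fun i => μ i = ξ)).card := by
    intro ξ hξ hξ1
    have h1 := dft_mult μ hμ hξ hrp.ne_zero
    have hinv : (ξ⁻¹) ^ r = 1 := by rw [inv_pow, hξ, inv_one]
    have hinv1 : ξ⁻¹ ≠ 1 := by
      intro h; apply hξ1; rw [← inv_inv ξ, h, inv_one]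
    have h0 : ∑ k ∈ Finset.range r, (ξ⁻¹) ^ k = 0 := by
      rw [geom_sum_root hinv, if_neg hinv1]
    have h2 : Cfsg.MemLocalIdeal M
        (∑ k ∈ Finset.range r, (ξ⁻¹) ^ k * ((χ : G → ℂ) 1 - (χ : G → ℂ) (v ^ k))) := by
      apply memLocalIdeal_sum hM
      intro k _
      apply memLocalIdeal_mul_left hM _ (hcong k)
      apply memLocalRing_of_isIntegral hM
      apply IsIntegral.pow
      exact IsIntegral.of_pow hrp.pos (by rw [hinv]; exact isIntegral_one)
    have h3 : ∑ k ∈ Finset.range r, (ξ⁻¹) ^ k * ((χ : G → ℂ) 1 - (χ : G → ℂ) (v ^ k))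
        = - ((r : ℂ) * ((Finset.univ.filter (fun i => μ i = ξ)).card : ℂ)) := by
      rw [← h1]
      simp only [mul_sub, Finset.sum_sub_distrib, ← Finset.sum_mul, h0, zero_mul, zero_sub]
      congr 1
      apply Finset.sum_congr rfl
      intro k _
      rw [hval k]
    rw [h3] at h2
    have h4 := memLocalIdeal_neg h2
    rw [neg_neg] at h4
    have h5 : Cfsg.MemLocalIdeal M
        (((r * (Finset.univ.filter (fun i => μ i = ξ)).card : ℕ)) : ℂ) := by
      push_cast; exact h4
    have h6 := (memLocalIdeal_natCast_iff hM _).mp h5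
    rcases (Nat.Prime.dvd_mul hp).mp h6 with h7 | h7
    · exfalso
      exact hrne ((Nat.prime_dvd_prime_iff_eq hp hrp).mp h7).symm
    · exact h7
  have hne : ∃ i, μ i ≠ 1 := by
    by_contra hcon
    push Not at hcon
    apply hv1
    apply hfaith
    have h1 := hval 1
    have h0 := hval 0
    simp only [pow_one] at h1
    simp only [pow_zero] at h0
    rw [h1, h0]
    apply Finset.sum_congr rfl
    intro i _
    rw [hcon i]
  have hn2 : finrank ℂ (Fin n → ℂ) < 2 * p := by rw [hfin]; exact hdeg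
  obtain ⟨ξ₀, hξ₀1, hξ₀r, hprod⟩ := prod_eq_pow hp hn2 μ hμ hdiv hne
  have hd1 : LinearMap.det (ρ v) = 1 := det_eq_one_of_perfect hperf ρ v
  rw [hdet, hprod] at hd1
  apply hξ₀1
  have hcop : Nat.Coprime p r := (Nat.coprime_primes hp hrp).mpr (Ne.symm hrne)
  have h1 : orderOf ξ₀ ∣ p := orderOf_dvd_of_pow_eq_one hd1
  have h2 : orderOf ξ₀ ∣ r := orderOf_dvd_of_pow_eq_one hξ₀r
  have h3 : orderOf ξ₀ ∣ 1 := by
    have := Nat.dvd_gcd h1 h2
    rwa [hcop] at this
  exact orderOf_eq_one_iff.mp (Nat.dvd_one.mp h3)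

end Cfsg.Agent.S4729
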