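import Cfsg.Statements.S4214
import Cfsg.Agent.Lib.Helper1.Hall
import Cfsg.Agent.Lib.Helper23.PronormalExt

set_option autoImplicit false
open Cfsg

namespace Cfsg.Agent.S4214

open Cfsg.Agent.Lib.Helper1 Cfsg.Agent.Lib.Helper21 Cfsg.Agent.Lib.Helper23.PronormalExt
open Pointwise

universe u

/-- the property required of each factor -/
def Good (G : Type u) [Group G] (m x : ℕ) : Prop :=
  (∃ q e : ℕ, q.Prime ∧ x = q ^ e) ∧
  (∃ K L : Subgroup G, K.Normal ∧ L.Normal ∧ K < L ∧
    (∀ M : Subgroup G, M.Normal → K ≤ M → M ≤ L → M = K ∨ M = L) ∧ x ∣ K.relIndex L) ∧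
  (∃ q : ℕ, q.Prime ∧ q ∣ m ∧ x ≡ 1 [MOD q])

theorem good_of_quotient {G : Type u} [Group G] (C : Subgroup G) [C.Normal] {m' m x : ℕ}
    (hm : m' ∣ m) (h : Good (G ⧸ C) m' x) : Good G m x := by
  obtain ⟨h1, ⟨K, L, hKn, hLn, hKL, hchief, hdvd⟩, ⟨q, hq, hqm, hx⟩⟩ := h
  have hsurj := QuotientGroup.mk'_surjective C
  refine ⟨h1, ⟨K.comap (QuotientGroup.mk' C), L.comap (QuotientGroup.mk' C), hKn.comap _,
    hLn.comap _, (Subgroup.comap_lt_comap_of_surjective hsurj).mpr hKL, ?_, ?_⟩,
    ⟨q, hq, hqm.trans hm, hx⟩⟩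
  · intro M hMn hKM hML
    have hker : (QuotientGroup.mk' C).ker ≤ M :=
      (MonoidHom.ker_le_comap (QuotientGroup.mk' C) K).trans hKM
    have hM : (M.map (QuotientGroup.mk' C)).comap (QuotientGroup.mk' C) = M :=
      Subgroup.comap_map_eq_self hker
    have h2 : K ≤ M.map (QuotientGroup.mk' C) := by
      have := Subgroup.map_mono (f := QuotientGroup.mk' C) hKM
      rwa [Subgroup.map_comap_eq_self_of_surjective hsurj] at this
    have h3 : M.map (QuotientGroup.mk' C) ≤ L := by
      have := Subgroup.map_mono (f := QuotientGroup.mk' C) hML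
      rwa [Subgroup.map_comap_eq_self_of_surjective hsurj] at this
    rcases hchief _ (hMn.map _ hsurj) h2 h3 with h4 | h4
    · left; rw [← hM, h4]
    · right; rw [← hM, h4]
  · rw [Subgroup.relIndex_comap, Subgroup.map_comap_eq_self_of_surjective hsurj]
    exact hdvd

/-- Hall subgroups containing a normal subgroup `C` correspond to Hall subgroups of `G ⧸ C`. -/
theorem count_quotient {G : Type u} [Group G] [Finite G] (C : Subgroup G) [C.Normal] (m : ℕ)
    (hC : ∀ H : Subgroup G, Nat.card H = m → C ≤ H) (hdvd : Nat.card C ∣ m) :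
    Nat.card {H : Subgroup G // Nat.card H = m} =
      Nat.card {Hbar : Subgroup (G ⧸ C) // Nat.card Hbar = m / Nat.card C} := by
  have hCpos : 0 < Nat.card C := Nat.card_pos
  apply Nat.card_congr
  refine
    { toFun := fun H => ⟨H.1.map (QuotientGroup.mk' C), ?_⟩
      invFun := fun Hbar => ⟨Hbar.1.comap (QuotientGroup.mk' C), ?_⟩
      left_inv := ?_
      right_inv := ?_ }
  · have h1 := card_map_mk_of_le C (hC H.1 H.2)
    rw [H.2] at h1
    exact (Nat.div_eq_of_eq_mul_left hCpos h1.symm).symm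
  · rw [card_comap_mk, Hbar.2]
    exact Nat.div_mul_cancel hdvd
  · intro H
    apply Subtype.ext
    apply Subgroup.comap_map_eq_self
    rw [QuotientGroup.ker_mk']
    exact hC H.1 H.2
  · intro Hbar
    apply Subtype.ext
    exact Subgroup.map_comap_eq_self_of_surjective (QuotientGroup.mk'_surjective C) Hbar.1

/-- a minimal normal subgroup of a finite solvable group is elementary abelian -/
theorem exists_minimal_normal {G : Type u} [Group G] [Finite G] [Group.IsSolvable G]
    (hG : (⊤ : Subgroup G) ≠ ⊥) :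
    ∃ (p : ℕ) (K : Subgroup G), p.Prime ∧ K.Normal ∧ K ≠ ⊥ ∧
      (∀ M : Subgroup G, M.Normal → M ≤ K → M = ⊥ ∨ M = K) ∧
      (∀ a ∈ K, ∀ b ∈ K, a * b = b * a) ∧ ∀ x ∈ K, x ^ p = 1 := by
  classical
  let S : Set ℕ := {k | ∃ K : Subgroup G, K.Normal ∧ K ≠ ⊥ ∧ Nat.card K = k}
  have hS : S.Nonempty := ⟨_, ⊤, inferInstance, hG, rfl⟩
  obtain ⟨K, hKn, hK, hKcard⟩ := Nat.sInf_mem hS
  have hmin : ∀ M : Subgroup G, M.Normal → M ≤ K → M = ⊥ ∨ M = K := by
    intro M hMn hMK
    by_cases hM : M = ⊥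
    · exact Or.inl hM
    · right
      apply Subgroup.eq_of_le_of_card_ge hMK
      rw [hKcard]
      exact Nat.sInf_le ⟨M, hMn, hM, rfl⟩
  have hsolv : Group.IsSolvable K := inferInstance
  obtain ⟨p, hp, P, hPn, hPK, hP, hPc, hPe⟩ :=
    exists_normal_elementary_abelian_le (Nat.card K) K rfl hK hsolv
  have hPeq : P = K := (hmin P hPn hPK).resolve_left hP
  rw [hPeq] at hPc hPe
  refine ⟨p, K, hp, hKn, hK, hmin, ?_, hPe⟩
  intro a ha b hb
  exact congrArg Subtype.val (hPc.is_comm.comm ⟨a, ha⟩ ⟨b, hb⟩)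

/-- the size of an orbit of subgroups under conjugation by `K` divides `|K|` -/
theorem card_dvd_of_orbit {G : Type u} [Group G] [Finite G] (K H₀ : Subgroup G)
    (S : Set (Subgroup G)) (hS : ∀ H, H ∈ S ↔ ∃ k ∈ K, cj k H₀ = H) :
    Nat.card S ∣ Nat.card K := by
  let act : MulAction K (Subgroup G) :=
    MulAction.compHom (Subgroup G) ((MulAut.conj : G →* MulAut G).comp K.subtype)
  have horb : @MulAction.orbit K (Subgroup G) act.toSMul H₀ = S := by
    ext H
    rw [hS]
    constructor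
    · rintro ⟨k, hk⟩
      exact ⟨k.1, k.2, hk⟩
    · rintro ⟨k, hk, hkH⟩
      exact ⟨⟨k, hk⟩, hkH⟩
  have h1 := @MulAction.index_stabilizer K (Subgroup G) _ act H₀
  rw [horb] at h1
  rw [Nat.card_coe_set_eq, ← h1]
  exact Subgroup.index_dvd_card _

/-- counting Hall subgroups through the quotient by a normal subgroup of coprime order -/
theorem count_mul {G : Type u} [Group G] [Finite G] (K : Subgroup G) [K.Normal] (m : ℕ)
    (hK : ∀ H : Subgroup G, Nat.card H = m → H ⊓ K = ⊥)
    (hconj : ∀ A B : Subgroup (G ⧸ K), Nat.card A = m → Nat.card B = m →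
      ∃ g : G ⧸ K, cj g A = B)
    (H₀ : Subgroup G) (hH₀ : Nat.card H₀ = m) :
    Nat.card {H : Subgroup G // Nat.card H = m} =
      Nat.card {Hbar : Subgroup (G ⧸ K) // Nat.card Hbar = m} *
        Nat.card {H : Subgroup G // H ≤ K ⊔ H₀ ∧ Nat.card H = m} := by
  classical
  have hfin : Fintype {Hbar : Subgroup (G ⧸ K) // Nat.card Hbar = m} := Fintype.ofFinite _
  let e : {H : Subgroup G // Nat.card H = m} ≃
      Σ (Hbar : {Hbar : Subgroup (G ⧸ K) // Nat.card Hbar = m}),
        {H : Subgroup G // H ≤ Hbar.1.comap (QuotientGroup.mk' K) ∧ Nat.card H = m} :=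
    { toFun := fun H => ⟨⟨H.1.map (QuotientGroup.mk' K), by
          rw [card_map_mk_of_disjoint K (hK H.1 H.2)]; exact H.2⟩,
        ⟨H.1, Subgroup.le_comap_map _ _, H.2⟩⟩
      invFun := fun x => ⟨x.2.1, x.2.2.2⟩
      left_inv := fun H => rfl
      right_inv := by
        rintro ⟨⟨Hb, hHb⟩, ⟨H, hle, hH⟩⟩
        have hmap : H.map (QuotientGroup.mk' K) = Hb := by
          apply Subgroup.eq_of_le_of_card_ge (Subgroup.map_le_iff_le_comap.mpr hle)
          rw [hHb, card_map_mk_of_disjoint K (hK H hH), hH]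
        subst hmap
        rfl }
  have hterm : ∀ Hbar : {Hbar : Subgroup (G ⧸ K) // Nat.card Hbar = m},
      Nat.card {H : Subgroup G // H ≤ Hbar.1.comap (QuotientGroup.mk' K) ∧ Nat.card H = m} =
        Nat.card {H : Subgroup G // H ≤ K ⊔ H₀ ∧ Nat.card H = m} := by
    intro Hbar
    have hH₀bar : Nat.card (H₀.map (QuotientGroup.mk' K)) = m := by
      rw [card_map_mk_of_disjoint K (hK H₀ hH₀)]; exact hH₀
    obtain ⟨g', hg'⟩ := hconj (H₀.map (QuotientGroup.mk' K)) Hbar.1 hH₀bar Hbar.2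
    obtain ⟨g, rfl⟩ := QuotientGroup.mk'_surjective K g'
    have hcomap : Hbar.1.comap (QuotientGroup.mk' K) = cj g (K ⊔ H₀) := by
      rw [← hg', comap_cj, QuotientGroup.comap_map_mk']
    rw [hcomap]
    apply Nat.card_congr
    exact
      { toFun := fun H => ⟨cj g⁻¹ H.1, by
            have h1 := cj_mono (g := g⁻¹) H.2.1
            rwa [cj_inv_cj] at h1, by rw [card_cj]; exact H.2.2⟩
        invFun := fun H => ⟨cj g H.1, cj_mono H.2.1, by rw [card_cj]; exact H.2.2⟩
        left_inv := fun H => Subtype.ext (cj_cj_inv g H.1)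
        right_inv := fun H => Subtype.ext (cj_inv_cj g H.1) }
  rw [Nat.card_congr e, Nat.card_sigma, Finset.sum_congr rfl (fun Hbar _ => hterm Hbar),
    Finset.sum_const, Finset.card_univ, smul_eq_mul, ← Nat.card_eq_fintype_card]

/-- subgroups of `G` inside `T` versus subgroups of the group `T` -/
theorem count_subtype {G : Type u} [Group G] (T : Subgroup G) (m : ℕ) :
    Nat.card {H : Subgroup G // H ≤ T ∧ Nat.card H = m} =
      Nat.card {H' : Subgroup T // Nat.card H' = m} := by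
  apply Nat.card_congr
  exact
    { toFun := fun H => ⟨H.1.subgroupOf T, by
          rw [Nat.card_congr (Subgroup.subgroupOfEquivOfLe H.2.1).toEquiv]; exact H.2.2⟩
      invFun := fun H' => ⟨H'.1.map T.subtype, Subgroup.map_subtype_le _, by
          rw [Subgroup.card_map_of_injective T.subtype_injective]; exact H'.2⟩
      left_inv := fun H => Subtype.ext (Subgroup.map_subgroupOf_eq_of_le H.2.1)
      right_inv := fun H' =>
        Subtype.ext (Subgroup.comap_map_eq_self_of_injective T.subtype_injective H'.1) }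

section TopCase

variable {G : Type u} [Group G] [Finite G] (K : Subgroup G) [K.Normal]
  (hKc : ∀ a ∈ K, ∀ b ∈ K, a * b = b * a)
  (hmin : ∀ M : Subgroup G, M.Normal → M ≤ K → M = ⊥ ∨ M = K)
  (H₀ : Subgroup G) (hKH : K ⊓ H₀ = ⊥) (hT : K ⊔ H₀ = ⊤)
  (hB : ∀ C : Subgroup G, C.Normal → C ≤ H₀ → C = ⊥) (hm1 : H₀ ≠ ⊥)

include hKc hmin hKH hT hB hm1

/-- no nonidentity element of `K` normalizes `H₀` -/
theorem inf_normalizer_eq_bot : K ⊓ Subgroup.normalizer (H₀ : Set G) = ⊥ := by
  -- elements of the intersection are central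
  have hcentral : ∀ z ∈ K ⊓ Subgroup.normalizer (H₀ : Set G), ∀ g : G, g * z = z * g := by
    intro z hz
    have hzK : z ∈ K := hz.1
    have hzN : z ∈ Subgroup.normalizer (H₀ : Set G) := hz.2
    have h1 : K ≤ Subgroup.centralizer {z} := by
      intro k hk
      rw [Subgroup.mem_centralizer_iff]
      intro y hy
      rw [Set.mem_singleton_iff] at hy
      rw [hy]
      exact hKc z hzK k hk
    have h2 : H₀ ≤ Subgroup.centralizer {z} := by
      intro h hh
      rw [Subgroup.mem_centralizer_iff]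
      intro y hy
      rw [Set.mem_singleton_iff] at hy
      rw [hy]
      have h3 : z * h * z⁻¹ ∈ H₀ := (Subgroup.mem_normalizer_iff.mp hzN h).mp hh
      have h4 : z * h * z⁻¹ * h⁻¹ ∈ H₀ := H₀.mul_mem h3 (H₀.inv_mem hh)
      have h5 : z * h * z⁻¹ * h⁻¹ ∈ K := by
        have h6 : h * z⁻¹ * h⁻¹ ∈ K := ‹K.Normal›.conj_mem _ (K.inv_mem hzK) h
        have h7 : z * h * z⁻¹ * h⁻¹ = z * (h * z⁻¹ * h⁻¹) := by group
        rw [h7]
        exact K.mul_mem hzK h6
      have h8 : z * h * z⁻¹ * h⁻¹ ∈ K ⊓ H₀ := ⟨h5, h4⟩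
      rw [hKH, Subgroup.mem_bot] at h8
      calc z * h = (z * h * z⁻¹ * h⁻¹) * (h * z) := by group
        _ = h * z := by rw [h8, one_mul]
    have h3 : (⊤ : Subgroup G) ≤ Subgroup.centralizer {z} := by
      rw [← hT]
      exact sup_le h1 h2
    intro g
    have h4 := h3 (Subgroup.mem_top g)
    rw [Subgroup.mem_centralizer_iff] at h4
    exact (h4 z rfl).symm
  have hnormal : (K ⊓ Subgroup.normalizer (H₀ : Set G)).Normal := by
    constructor
    intro z hz g
    have h1 := hcentral z hz g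
    have h2 : g * z * g⁻¹ = z := by rw [h1, mul_assoc, mul_inv_cancel, mul_one]
    rw [h2]
    exact hz
  rcases hmin _ hnormal inf_le_left with h | h
  · exact h
  · exfalso
    have h1 : K ≤ Subgroup.normalizer (H₀ : Set G) := by
      rw [← h]
      exact inf_le_right
    have h2 : (⊤ : Subgroup G) ≤ Subgroup.normalizer (H₀ : Set G) := by
      rw [← hT]
      exact sup_le h1 Subgroup.le_normalizer
    have h3 : H₀.Normal := Subgroup.normalizer_eq_top_iff.mp (top_le_iff.mp h2)
    exact hm1 (hB H₀ h3 le_rfl)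

theorem count_top [Group.IsSolvable G] (m n : ℕ) (hG : Nat.card G = m * n) (hmn : m.Coprime n)
    (hH₀ : Nat.card H₀ = m) :
    Nat.card {H : Subgroup G // Nat.card H = m} = Nat.card K := by
  have hN := inf_normalizer_eq_bot K hKc hmin H₀ hKH hT hB hm1
  symm
  apply Nat.card_congr
  refine Equiv.ofBijective (fun k : K => (⟨cj (k : G) H₀, by rw [card_cj]; exact hH₀⟩ :
    {H : Subgroup G // Nat.card H = m})) ⟨?_, ?_⟩
  · intro k k' hkk'
    have h1 : cj (k : G) H₀ = cj (k' : G) H₀ := congrArg Subtype.val hkk'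
    have h2 : (k' : G)⁻¹ * k ∈ Subgroup.normalizer (H₀ : Set G) := cj_eq_cj_iff.mp h1
    have h3 : (k' : G)⁻¹ * k ∈ K ⊓ Subgroup.normalizer (H₀ : Set G) :=
      ⟨K.mul_mem (K.inv_mem k'.2) k.2, h2⟩
    rw [hN, Subgroup.mem_bot] at h3
    apply Subtype.ext
    calc (k : G) = k' * ((k' : G)⁻¹ * k) := by group
      _ = k' := by rw [h3, mul_one]
  · rintro ⟨H, hH⟩
    obtain ⟨g, hg⟩ := hall_conj m n hG hmn H₀ H hH₀ hH
    have hg' : cj g H₀ = H := hg
    have hgT : g ∈ ((K ⊔ H₀ : Subgroup G) : Set G) := by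
      rw [hT]
      exact Set.mem_univ g
    rw [Subgroup.normal_mul] at hgT
    obtain ⟨k, hk, h, hh, rfl⟩ := Set.mem_mul.mp hgT
    refine ⟨⟨k, hk⟩, Subtype.ext ?_⟩
    change cj k H₀ = H
    rw [← hg', cj_mul, cj_eq_self_of_mem hh]

theorem card_modEq_one [Group.IsSolvable H₀] :
    ∃ q : ℕ, q.Prime ∧ q ∣ Nat.card H₀ ∧ Nat.card K ≡ 1 [MOD q] := by
  have htop : (⊤ : Subgroup H₀) ≠ ⊥ := by
    intro h
    apply hm1
    rw [eq_bot_iff]
    intro x hx
    have h1 : (⟨x, hx⟩ : H₀) ∈ (⊤ : Subgroup H₀) := Subgroup.mem_top _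
    rw [h, Subgroup.mem_bot] at h1
    exact Subgroup.mem_bot.mpr (congrArg Subtype.val h1)
  have hsolv : Group.IsSolvable (⊤ : Subgroup H₀) := inferInstance
  obtain ⟨q, hq, Q, hQn, -, hQ, -, hQe⟩ :=
    exists_normal_elementary_abelian_le (Nat.card (⊤ : Subgroup H₀)) (⊤ : Subgroup H₀) rfl htop
      hsolv
  have hqf : Fact q.Prime := ⟨hq⟩
  have hQp : IsPGroup q Q := fun x => ⟨1, by
    rw [pow_one]; exact Subtype.ext (by simpa using hQe x x.2)⟩
  obtain ⟨Q', hQ'def⟩ : ∃ Q' : Subgroup G, Q' = Q.map H₀.subtype := ⟨_, rfl⟩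
  have hQ'le : Q' ≤ H₀ := by rw [hQ'def]; exact Subgroup.map_subtype_le _
  have hQ'ne : Q' ≠ ⊥ := by
    rw [hQ'def]
    exact (Subgroup.map_eq_bot_iff_of_injective _ H₀.subtype_injective).not.mpr hQ
  have hQ'p : IsPGroup q Q' := by rw [hQ'def]; exact hQp.map H₀.subtype
  have hqdvd : q ∣ Nat.card H₀ := by
    obtain ⟨e, he⟩ := hQ'p.exists_card_eq
    have he0 : e ≠ 0 := by
      rintro rfl
      rw [pow_zero, Subgroup.card_eq_one] at he
      exact hQ'ne he
    have h1 : q ∣ Nat.card Q' := by rw [he]; exact dvd_pow_self q he0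
    exact h1.trans (Subgroup.card_dvd_of_le hQ'le)
  -- `H₀` normalizes `Q'`
  have hnorm : ∀ h ∈ H₀, cj h Q' = Q' := by
    intro h hh
    rw [hQ'def, ← map_subtype_cj H₀ ⟨h, hh⟩ Q, cj_normal]
  -- the centralizer of `Q'` in `K` is normal in `G`
  have hCn : (K ⊓ Subgroup.centralizer (Q' : Set G)).Normal := by
    constructor
    intro c hc g
    have hcK : c ∈ K := hc.1
    have hcC : c ∈ Subgroup.centralizer (Q' : Set G) := hc.2
    have hgT : g ∈ ((K ⊔ H₀ : Subgroup G) : Set G) := by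
      rw [hT]
      exact Set.mem_univ g
    rw [Subgroup.normal_mul] at hgT
    obtain ⟨k, hk, h, hh, rfl⟩ := Set.mem_mul.mp hgT
    have h1 : h * c * h⁻¹ ∈ K := ‹K.Normal›.conj_mem c hcK h
    have h2 : k * h * c * (k * h)⁻¹ = h * c * h⁻¹ := by
      have h3 : k * h * c * (k * h)⁻¹ = k * (h * c * h⁻¹) * k⁻¹ := by group
      rw [h3, hKc k hk _ h1, mul_assoc, mul_inv_cancel, mul_one]
    rw [h2]
    have hcent : h * c * h⁻¹ ∈ Subgroup.centralizer (Q' : Set G) := by
      rw [Subgroup.mem_centralizer_iff]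
      intro u hu
      have hu' : h⁻¹ * u * h ∈ Q' := by
        have h4 := hnorm h⁻¹ (H₀.inv_mem hh)
        have h5 : h⁻¹ * u * h⁻¹⁻¹ ∈ cj h⁻¹ Q' := conj_mem_cj hu
        rw [h4, inv_inv] at h5
        exact h5
      have h6 := (Subgroup.mem_centralizer_iff.mp hcC) _ hu'
      calc u * (h * c * h⁻¹) = h * ((h⁻¹ * u * h) * c) * h⁻¹ := by group
        _ = h * (c * (h⁻¹ * u * h)) * h⁻¹ := by rw [h6]
        _ = h * c * h⁻¹ * u := by group
    exact ⟨h1, hcent⟩
  have hC : K ⊓ Subgroup.centralizer (Q' : Set G) = ⊥ := by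
    rcases hmin _ hCn inf_le_left with h | h
    · exact h
    · exfalso
      have h1 : K ≤ Subgroup.normalizer (Q' : Set G) := by
        have h2 : K ≤ Subgroup.centralizer (Q' : Set G) := by
          rw [← h]
          exact inf_le_right
        exact h2.trans (Subgroup.centralizer_le_normalizer _)
      have h2 : H₀ ≤ Subgroup.normalizer (Q' : Set G) := by
        intro h hh
        exact mem_normalizer_of_cj_eq_self (hnorm h hh)
      have h3 : (⊤ : Subgroup G) ≤ Subgroup.normalizer (Q' : Set G) := by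
        rw [← hT]
        exact sup_le h1 h2
      have h4 : Q'.Normal := Subgroup.normalizer_eq_top_iff.mp (top_le_iff.mp h3)
      exact hQ'ne (hB Q' h4 hQ'le)
  -- count fixed points
  let act : MulAction Q' K :=
    MulAction.compHom K ((MulAut.conjNormal : G →* MulAut K).comp Q'.subtype)
  have h1 := @IsPGroup.card_modEq_card_fixedPoints q Q' _ hQ'p hqf K act _
  have hfix : @MulAction.fixedPoints Q' K _ act = {1} := by
    ext k
    rw [Set.mem_singleton_iff]
    constructor
    · intro hk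
      have hk' : ∀ u : Q', (MulAut.conjNormal (u : G) : MulAut K) k = k := fun u => hk u
      have h2' : (k : G) ∈ Subgroup.centralizer (Q' : Set G) := by
        rw [Subgroup.mem_centralizer_iff]
        intro u hu
        have h3 := congrArg Subtype.val (hk' ⟨u, hu⟩)
        rw [MulAut.conjNormal_apply] at h3
        calc u * (k : G) = (u * k * u⁻¹) * u := by group
          _ = k * u := by rw [h3]
      have h2 : (k : G) ∈ K ⊓ Subgroup.centralizer (Q' : Set G) := ⟨k.2, h2'⟩
      rw [hC, Subgroup.mem_bot] at h2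
      exact Subtype.ext h2
    · rintro rfl u
      change (MulAut.conjNormal ((u : Q') : G) : MulAut K) 1 = 1
      exact map_one _
  rw [hfix] at h1
  refine ⟨q, hq, hqdvd, ?_⟩
  have h2 : Nat.card (({1} : Set K)) = 1 := by
    rw [Nat.card_coe_set_eq, Set.ncard_singleton]
  rw [h2] at h1
  exact h1

end TopCase

/-- the main induction -/
theorem main (N : ℕ) : ∀ (G : Type u) [Group G] [Finite G] [Group.IsSolvable G],
    Nat.card G = N → ∀ m n : ℕ, Nat.card G = m * n → m.Coprime n →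
    ∃ l : List ℕ, Nat.card {H : Subgroup G // Nat.card H = m} = l.prod ∧
      ∀ x ∈ l, Good G m x := by
  induction N using Nat.strong_induction_on with
  | _ N ih =>
  intro G _ _ _ hN m n hG hmn
  by_cases hm1 : m = 1
  · refine ⟨[], ?_, by simp⟩
    rw [List.prod_nil]
    subst hm1
    rw [Nat.card_eq_one_iff_unique]
    refine ⟨⟨?_⟩, ⟨⟨⊥, Subgroup.card_bot⟩⟩⟩
    intro a b
    apply Subtype.ext
    rw [Subgroup.card_eq_one.mp a.2, Subgroup.card_eq_one.mp b.2]
  obtain ⟨H₀, hH₀⟩ := hall_exists (G := G) m n hG hmn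
  have hH₀ne : H₀ ≠ ⊥ := by
    intro h
    rw [h, Subgroup.card_bot] at hH₀
    exact hm1 hH₀.symm
  have hmpos : 0 < m := by
    rw [← hH₀]; exact Nat.card_pos
  by_cases hA : ∃ C : Subgroup G, C.Normal ∧ C ≠ ⊥ ∧ C ≤ H₀
  · -- Case A: a nontrivial normal subgroup inside `H₀`
    obtain ⟨C, hCn, hCne, hCle⟩ := hA
    have hCall : ∀ H : Subgroup G, Nat.card H = m → C ≤ H := by
      intro H hH
      obtain ⟨g, hg⟩ := hall_conj m n hG hmn H₀ H hH₀ hH
      have hg' : cj g H₀ = H := hg
      rw [← hg', ← cj_normal g C]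
      exact cj_mono hCle
    have hCdvd : Nat.card C ∣ m := by
      rw [← hH₀]; exact Subgroup.card_dvd_of_le hCle
    have hcnt := count_quotient C m hCall hCdvd
    have hCpos : 0 < Nat.card C := Nat.card_pos
    have hcardQ : Nat.card (G ⧸ C) = (m / Nat.card C) * n := by
      have h1 : Nat.card G = Nat.card (G ⧸ C) * Nat.card C :=
        Subgroup.card_eq_card_quotient_mul_card_subgroup C
      apply Nat.eq_of_mul_eq_mul_right hCpos
      rw [← h1, hG]
      calc m * n = (m / Nat.card C * Nat.card C) * n := by rw [Nat.div_mul_cancel hCdvd]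
        _ = m / Nat.card C * n * Nat.card C := by ring
    have hlt : Nat.card (G ⧸ C) < N := by
      rw [← hN]; exact card_quotient_lt_of_ne_bot hCne
    have hcop' : (m / Nat.card C).Coprime n :=
      Nat.Coprime.coprime_dvd_left (Nat.div_dvd_of_dvd hCdvd) hmn
    obtain ⟨l, hl, hgood⟩ := ih _ hlt (G ⧸ C) rfl (m / Nat.card C) n hcardQ hcop'
    exact ⟨l, hcnt.trans hl, fun x hx =>
      good_of_quotient C (Nat.div_dvd_of_dvd hCdvd) (hgood x hx)⟩
  · -- Case B: no nontrivial normal subgroup inside `H₀`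
    have hB : ∀ C : Subgroup G, C.Normal → C ≤ H₀ → C = ⊥ := by
      intro C hCn hCle
      by_contra hC
      exact hA ⟨C, hCn, hC, hCle⟩
    have htop : (⊤ : Subgroup G) ≠ ⊥ := by
      intro h
      apply hH₀ne
      rw [eq_bot_iff, ← h]
      exact le_top
    obtain ⟨p, K, hp, hKn, hKne, hmin, hKc, hKe⟩ := exists_minimal_normal (G := G) htop
    have hKp : IsPGroup p K := fun x => ⟨1, by
      rw [pow_one]; exact Subtype.ext (by simpa using hKe x x.2)⟩
    have hpf : Fact p.Prime := ⟨hp⟩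
    obtain ⟨k, hk⟩ := hKp.exists_card_eq
    have hpm : ¬ p ∣ m := by
      intro hpm
      have hpn : (p ^ k).Coprime n :=
        Nat.Coprime.pow_left k (Nat.Coprime.coprime_dvd_left hpm hmn)
      have h1 : Nat.card (H₀ ⊔ K : Subgroup G) ∣ m * p ^ k := by
        rw [← hH₀, ← hk]; exact card_sup_dvd_of_normal H₀ K
      have h2 : Nat.card (H₀ ⊔ K : Subgroup G) ∣ m * n :=
        hG ▸ Subgroup.card_subgroup_dvd_card _
      have h3 : Nat.card (H₀ ⊔ K : Subgroup G) ∣ m := by
        have := Nat.dvd_gcd h1 h2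
        rwa [Nat.gcd_mul_left, hpn.gcd_eq_one, mul_one] at this
      have h4 : H₀ = H₀ ⊔ K :=
        Subgroup.eq_of_le_of_card_ge le_sup_left (by rw [hH₀]; exact Nat.le_of_dvd hmpos h3)
      have h5 : K ≤ H₀ := by
        rw [h4]; exact le_sup_right
      exact hKne (hB K hKn h5)
    have hcopKm : (Nat.card K).Coprime m := by
      rw [hk]
      exact Nat.Coprime.pow_left k ((Nat.Prime.coprime_iff_not_dvd hp).mpr hpm)
    have hK : ∀ H : Subgroup G, Nat.card H = m → H ⊓ K = ⊥ := by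
      intro H hH
      apply Disjoint.eq_bot
      apply Subgroup.disjoint_of_coprime_natCard
      rw [hH]
      exact hcopKm.symm
    have hKdvd : Nat.card K ∣ n := by
      apply Nat.Coprime.dvd_of_dvd_mul_left hcopKm
      rw [← hG]
      exact Subgroup.card_subgroup_dvd_card K
    have hKpos : 0 < Nat.card K := Nat.card_pos
    obtain ⟨n', hn'⟩ := hKdvd
    have hcardQ : Nat.card (G ⧸ K) = m * n' := by
      have h1 : Nat.card G = Nat.card (G ⧸ K) * Nat.card K :=
        Subgroup.card_eq_card_quotient_mul_card_subgroup K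
      apply Nat.eq_of_mul_eq_mul_right hKpos
      rw [← h1, hG, hn']
      ring
    have hcop' : m.Coprime n' :=
      Nat.Coprime.coprime_dvd_right (Dvd.intro_left _ hn'.symm) hmn
    have hKH : K ⊓ H₀ = ⊥ := by
      rw [inf_comm]; exact hK H₀ hH₀
    have hTcard : Nat.card (K ⊔ H₀ : Subgroup G) = m * Nat.card K := by
      have h1 := card_sup_mul_card_inf H₀ K
      rw [hK H₀ hH₀, Subgroup.card_bot, mul_one, hH₀] at h1
      rw [sup_comm]
      exact h1
    by_cases hT : K ⊔ H₀ = ⊤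
    · -- `G = K H₀`
      have hcnt := count_top K hKc hmin H₀ hKH hT hB hH₀ne m n hG hmn hH₀
      have hsolv : Group.IsSolvable H₀ := inferInstance
      obtain ⟨q, hq, hqdvd, hqmod⟩ := card_modEq_one K hKc hmin H₀ hKH hT hB hH₀ne
      refine ⟨[Nat.card K], ?_, ?_⟩
      · rw [hcnt]; simp
      · intro x hx
        rw [List.mem_singleton] at hx
        subst hx
        refine ⟨⟨p, k, hp, hk⟩, ⟨⊥, K, inferInstance, hKn, bot_lt_iff_ne_bot.mpr hKne, ?_, ?_⟩,
          ⟨q, hq, hH₀ ▸ hqdvd, hqmod⟩⟩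
        · intro M hMn _ hMK
          exact hmin M hMn hMK
        · rw [Subgroup.relIndex_bot_left]
    · -- `K H₀` is a proper subgroup
      obtain ⟨T, hTdef⟩ : ∃ T : Subgroup G, T = K ⊔ H₀ := ⟨_, rfl⟩
      have hconj : ∀ A B : Subgroup (G ⧸ K), Nat.card A = m → Nat.card B = m →
          ∃ g : G ⧸ K, cj g A = B := by
        intro A B hA hB'
        obtain ⟨g, hg⟩ := hall_conj m n' hcardQ hcop' A B hA hB'
        exact ⟨g, hg⟩
      have hcnt := count_mul K m hK hconj H₀ hH₀
      rw [← hTdef] at hcnt hTcard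
      have hltQ : Nat.card (G ⧸ K) < N := by
        rw [← hN]; exact card_quotient_lt_of_ne_bot hKne
      obtain ⟨l1, hl1, hgood1⟩ := ih _ hltQ (G ⧸ K) rfl m n' hcardQ hcop'
      have hTne : T ≠ ⊤ := by rw [hTdef]; exact hT
      have hltT : Nat.card T < N := by
        rw [← hN]
        apply lt_of_le_of_ne (Subgroup.card_le_card_group T)
        intro h
        exact hTne ((Subgroup.card_eq_iff_eq_top T).mp h)
      have hsolvT : Group.IsSolvable T := inferInstance
      obtain ⟨l2, hl2, hgood2⟩ := ih _ hltT T rfl m (Nat.card K) hTcard hcopKm.symm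
      have hKT : K ≤ T := by rw [hTdef]; exact le_sup_left
      have hH₀T : H₀ ≤ T := by rw [hTdef]; exact le_sup_right
      -- the second factor divides `|K|`
      have hS : ∀ H : Subgroup G, H ∈ {H : Subgroup G | H ≤ T ∧ Nat.card H = m} ↔
          ∃ k ∈ K, cj k H₀ = H := by
        intro H
        constructor
        · rintro ⟨hHT, hHm⟩
          have hc1 : Nat.card (H₀.subgroupOf T) = m := by
            rw [Nat.card_congr (Subgroup.subgroupOfEquivOfLe hH₀T).toEquiv]; exact hH₀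
          have hc2 : Nat.card (H.subgroupOf T) = m := by
            rw [Nat.card_congr (Subgroup.subgroupOfEquivOfLe hHT).toEquiv]; exact hHm
          obtain ⟨t, ht⟩ := hall_conj (G := T) m (Nat.card K) hTcard hcopKm.symm
            (H₀.subgroupOf T) (H.subgroupOf T) hc1 hc2
          have ht' : cj t (H₀.subgroupOf T) = H.subgroupOf T := ht
          have h1 := map_subtype_cj T t (H₀.subgroupOf T)
          rw [ht', Subgroup.map_subgroupOf_eq_of_le hHT,
            Subgroup.map_subgroupOf_eq_of_le hH₀T] at h1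
          have htT : (t : G) ∈ ((K ⊔ H₀ : Subgroup G) : Set G) := by
            rw [← hTdef]; exact t.2
          rw [Subgroup.normal_mul] at htT
          obtain ⟨k', hk', h, hh, hkh⟩ := Set.mem_mul.mp htT
          refine ⟨k', hk', ?_⟩
          rw [h1, ← hkh, cj_mul, cj_eq_self_of_mem hh]
        · rintro ⟨k', hk', rfl⟩
          exact ⟨cj_le_of_mem (hKT hk') hH₀T, by rw [card_cj]; exact hH₀⟩
      have hdvdK : Nat.card {H : Subgroup G // H ≤ T ∧ Nat.card H = m} ∣ Nat.card K :=
        card_dvd_of_orbit K H₀ {H : Subgroup G | H ≤ T ∧ Nat.card H = m} hS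
      have hcntT := count_subtype T m
      refine ⟨l1 ++ l2, ?_, ?_⟩
      · rw [List.prod_append, ← hl1, ← hl2, ← hcntT]
        exact hcnt
      · intro x hx
        rcases List.mem_append.mp hx with hx | hx
        · exact good_of_quotient K (dvd_refl m) (hgood1 x hx)
        · obtain ⟨h1, -, h3⟩ := hgood2 x hx
          refine ⟨h1, ⟨⊥, K, inferInstance, hKn, bot_lt_iff_ne_bot.mpr hKne, ?_, ?_⟩, h3⟩
          · intro M hMn _ hMK
            exact hmin M hMn hMK
          · rw [Subgroup.relIndex_bot_left]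
            have h4 : x ∣ l2.prod := List.dvd_prod hx
            rw [← hl2, ← hcntT] at h4
            exact h4.trans hdvdK

end Cfsg.Agent.S4214

namespace Cfsg.Agent.S4214

theorem result {G : Type*} [Group G] [Finite G] [Group.IsSolvable G] (m n : ℕ) (hG : Nat.card G = m * n) (hmn : Nat.Coprime m n) : ∃ (k : ℕ) (f : Fin k → ℕ), Nat.card {H : Subgroup G // Nat.card H = m} = ∏ i, f i ∧ ∀ i, (∃ q e : ℕ, q.Prime ∧ f i = q ^ e) ∧ (∃ K L : Subgroup G, K.Normal ∧ L.Normal ∧ K < L ∧ (∀ M : Subgroup G, M.Normal → K ≤ M → M ≤ L → M = K ∨ M = L) ∧ f i ∣ K.relIndex L) ∧ (∃ q : ℕ, q.Prime ∧ q ∣ m ∧ f i ≡ 1 [MOD q]) := by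
  obtain ⟨l, hl, hgood⟩ := main (Nat.card G) G rfl m n hG hmn
  refine ⟨l.length, fun i => l[i.1], ?_, ?_⟩
  · rw [hl]; exact (Fin.prod_univ_getElem l).symm
  · intro i
    exact hgood _ (List.getElem_mem _)

end Cfsg.Agent.S4214
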