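import Mathlib
import Cfsg.Statements.S0955
import Cfsg.Agent.Lib.Helper7.BrauerIdem
import Cfsg.Agent.Lib.Helper7.DefectOrder
import Cfsg.Agent.S0917
import Cfsg.Agent.S0912

set_option autoImplicit false
open Cfsg

namespace Cfsg.Agent.S0955

open Cfsg.Agent.Lib.Helper7 Cfsg.Agent.Lib.Helper24 Cfsg.Agent.Lib.Helper13

/-- Let D be a defect group of a block of the finite group G relative to a maximal ideal M of the algebraic integers containing the prime p. Then D is the largest normal p-subgroup of its own normalizer: O_p(N_G(D)) = D. -/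
theorem result {G : Type*} [Group G] [Finite G] (p : ℕ) [Fact p.Prime] (M : Ideal Cfsg.AlgInt) (hM : Cfsg.IsPModular p M) (B : Set (Cfsg.IrrCharacter G)) (hB : Cfsg.IsPBlock M B) (D : Subgroup G) (hD : Cfsg.IsDefectGroup p M B D) : (Cfsg.pCore p (Subgroup.normalizer (D : Set G))).map (Subgroup.normalizer (D : Set G)).subtype = D := by
  classical
  letI : Fintype G := Fintype.ofFinite G
  letI : Fintype (Subgroup.normalizer (D : Set G)) := Fintype.ofFinite _
  have hcardD := card_of_isDefectGroup hM B hB D hD
  obtain ⟨g₀, hg₀, hDle, hDc⟩ := exists_of_isDefectGroup hD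
  have hDp : IsPGroup p D := IsPGroup.of_card hDc
  have hDN : D ≤ Subgroup.normalizer (D : Set G) := Subgroup.le_normalizer
  have hCN : Subgroup.centralizer (D : Set G) ≤ Subgroup.normalizer (D : Set G) :=
    Subgroup.centralizer_le_normalizer _
  have hg₀D : g₀ ∈ Subgroup.centralizer (D : Set G) := by
    rw [Subgroup.mem_centralizer_iff]
    intro u hu
    have := hDle hu
    rw [Subgroup.mem_centralizer_singleton_iff] at this
    exact this
  obtain ⟨b, hind⟩ := exists_isInducedBlock_of_le hM (Subgroup.normalizer (D : Set G)) D hDp hDN hCN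
    le_rfl B hB g₀ hg₀D hg₀.2.1
  obtain ⟨Db, hDb⟩ := exists_isDefectGroup hM b hind.1
  obtain ⟨E, hE, hle⟩ := Cfsg.Agent.S0917.result p M hM _ b hind.1 B hB hind Db hDb
  have hcore := Cfsg.Agent.S0912.result p M hM b hind.1 Db hDb
  have hcardE := card_of_isDefectGroup hM B hB E hE
  haveI : (D.subgroupOf (Subgroup.normalizer (D : Set G))).Normal :=
    Subgroup.normal_subgroupOf_of_le_normalizer le_rfl
  have hQ : IsPGroup p (D.subgroupOf (Subgroup.normalizer (D : Set G))) :=
    hDp.comap_of_injective _ (Subgroup.subtype_injective _)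
  have h1 : D.subgroupOf (Subgroup.normalizer (D : Set G))
      ≤ Cfsg.pCore p (Subgroup.normalizer (D : Set G)) := le_pCore _ inferInstance hQ
  have h2 : D ≤ (Cfsg.pCore p (Subgroup.normalizer (D : Set G))).map
      (Subgroup.normalizer (D : Set G)).subtype := by
    intro u hu
    refine ⟨⟨u, hDN hu⟩, h1 ?_, rfl⟩
    rw [Subgroup.mem_subgroupOf]; exact hu
  have h3 : (Cfsg.pCore p (Subgroup.normalizer (D : Set G))).map
      (Subgroup.normalizer (D : Set G)).subtype ≤ E :=
    (Subgroup.map_mono hcore).trans hle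
  have h4 : Nat.card E ≤ Nat.card D := by rw [hcardD, hcardE]
  have h5 : D = E := Subgroup.eq_of_le_of_card_ge (h2.trans h3) h4
  apply le_antisymm
  · exact h3.trans h5.symm.le
  · exact h2

end Cfsg.Agent.S0955
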