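import Cfsg.Statements.S4740
import Cfsg.Agent.Lib.Helper25.ClassMult
import Cfsg.Agent.Lib.Helper25.Codegree

set_option autoImplicit false
set_option linter.style.haveILetI false
open Cfsg

namespace Cfsg.Agent.S4740

open Cfsg.Agent.Lib.Helper25
open scoped ComplexConjugate

/-- Arithmetic: if `d ∣ n` and `p ^ (c - a) ∤ d` then `d * p ^ (a + 1) ∣ ordCompl[p] n * p ^ c`. -/
theorem arith_dvd (p : ℕ) (hp : p.Prime) (n d c a : ℕ) (hd0 : d ≠ 0) (hdn : d ∣ n)
    (hnd : ¬ p ^ (c - a) ∣ d) : d * p ^ (a + 1) ∣ (n / p ^ n.factorization p) * p ^ c := by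
  have he : ¬ (c - a ≤ d.factorization p) := by
    rwa [← hp.pow_dvd_iff_le_factorization hd0]
  push Not at he
  have h1 : d.factorization p + (a + 1) ≤ c := by omega
  have h2 : d / p ^ d.factorization p ∣ n / p ^ n.factorization p :=
    Nat.ordCompl_dvd_ordCompl_of_dvd hdn p
  have h3 : p ^ d.factorization p * (d / p ^ d.factorization p) = d :=
    Nat.ordProj_mul_ordCompl_eq_self d p
  have h4 : p ^ (d.factorization p + (a + 1)) ∣ p ^ c := pow_dvd_pow p h1
  calc d * p ^ (a + 1) = (d / p ^ d.factorization p) * p ^ (d.factorization p + (a + 1)) := by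
        conv_lhs => rw [← h3]
        rw [pow_add]; ring
    _ ∣ (n / p ^ n.factorization p) * p ^ c := Nat.mul_dvd_mul h2 h4

theorem irr_value_isIntegral {G : Type*} [Group G] [Finite G] (χ : IrrCharacter G) (g : G) :
    IsIntegral ℤ ((χ : G → ℂ) g) := by
  obtain ⟨n, ρ, _, hρ⟩ := χ.2
  rw [← hρ]
  exact Cfsg.Agent.Lib.Helper2.char_isIntegral ρ g

/-- Let p be an odd prime, G a finite group of even order, x an involution of G and P a subgroup of G of order p ^ c such that no conjugate of x inverts a non-identity element of P. If p ^ a is the p-part of the order of C_G(x), then some irreducible character of G has degree divisible by p ^ (c - a). -/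
theorem result {G : Type*} [Group G] [Finite G] (p : ℕ) [Fact p.Prime] (hp2 : p ≠ 2) (hG : Even (Nat.card G)) (x : G) (hx : orderOf x = 2) (P : Subgroup G) (c : ℕ) (hP : Nat.card ↥P = p ^ c) (hinv : ∀ g : G, IsConj x g → ∀ z ∈ P, z ≠ 1 → g * z * g⁻¹ ≠ z⁻¹) (a : ℕ) (ha : (Nat.card ↥(Subgroup.centralizer ({x} : Set G))).factorization p = a) : ∃ χ : Cfsg.IrrCharacter G, p ^ (c - a) ∣ Cfsg.charDegree (χ : G → ℂ) := by
  classical
  by_contra hno
  push Not at hno
  haveI := Fintype.ofFinite G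
  haveI : Fintype (IrrCharacter G) := Fintype.ofFinite _
  have hp : p.Prime := Fact.out
  have hxx : x * x = 1 := by
    have := pow_orderOf_eq_one x
    rwa [hx, pow_two] at this
  have hxinv : x⁻¹ = x := inv_eq_of_mul_eq_one_right hxx
  have hGne : (Nat.card G : ℂ) ≠ 0 := card_ne_zero_complex
  -- Step A: vanishing of the class multiplication constants
  have hA : ∀ z ∈ P, z ≠ 1 → ∑ χ : IrrCharacter G,
      (χ : G → ℂ) x * (χ : G → ℂ) x * (χ : G → ℂ) z⁻¹ / (χ : G → ℂ) 1 = 0 := by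
    intro z hz hz1
    have h1 := class_mult_count x x z
    have hempty : IsEmpty {h : G × G // h.1 * x * h.1⁻¹ * (h.2 * x * h.2⁻¹) = z} := by
      constructor
      rintro ⟨⟨h₁, h₂⟩, hh⟩
      simp only at hh
      apply hinv (h₁ * x * h₁⁻¹) (isConj_iff.2 ⟨h₁, rfl⟩) z hz hz1
      have ht : (h₁ * x * h₁⁻¹) * (h₁ * x * h₁⁻¹) = 1 := by
        calc (h₁ * x * h₁⁻¹) * (h₁ * x * h₁⁻¹) = h₁ * (x * x) * h₁⁻¹ := by group
          _ = 1 := by rw [hxx]; group
      have ht' : (h₂ * x * h₂⁻¹) * (h₂ * x * h₂⁻¹) = 1 := by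
        calc (h₂ * x * h₂⁻¹) * (h₂ * x * h₂⁻¹) = h₂ * (x * x) * h₂⁻¹ := by group
          _ = 1 := by rw [hxx]; group
      generalize h₁ * x * h₁⁻¹ = t at hh ht ⊢
      generalize h₂ * x * h₂⁻¹ = t' at hh ht' ⊢
      have htinv : t⁻¹ = t := inv_eq_of_mul_eq_one_right ht
      have ht'inv : t'⁻¹ = t' := inv_eq_of_mul_eq_one_right ht'
      rw [← hh, mul_inv_rev, htinv, ht'inv, ← mul_assoc, ht, one_mul]
    rw [Nat.card_of_isEmpty, Nat.cast_zero] at h1
    rcases mul_eq_zero.1 h1.symm with h2 | h2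
    · exact absurd h2 hGne
    · exact h2
  -- Step B: the term `z = 1`
  have hB : ∑ χ : IrrCharacter G,
      (χ : G → ℂ) x * (χ : G → ℂ) x * (χ : G → ℂ) (1 : G)⁻¹ / (χ : G → ℂ) 1 =
      (Nat.card (Subgroup.centralizer ({x} : Set G)) : ℂ) := by
    rw [← second_orthogonality_self x]
    apply Finset.sum_congr rfl
    intro χ _
    have h1ne := irr_one_ne_zero χ.2
    rw [inv_one, mul_div_assoc, div_self h1ne, mul_one,
      ← char_inv (isCharacter_of_irr χ.2), hxinv]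
  -- Step C: sum over `P`
  haveI : Fintype P := Fintype.ofFinite _
  have hC : ∑ z : P, ∑ χ : IrrCharacter G,
      (χ : G → ℂ) x * (χ : G → ℂ) x * (χ : G → ℂ) (z : G)⁻¹ / (χ : G → ℂ) 1 =
      (Nat.card (Subgroup.centralizer ({x} : Set G)) : ℂ) := by
    rw [Finset.sum_eq_single (1 : P)]
    · exact hB
    · intro z _ hz
      apply hA z z.2
      intro h
      apply hz
      exact Subtype.ext h
    · intro h; exact absurd (Finset.mem_univ _) h
  rw [Finset.sum_comm] at hC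
  -- multiplicities
  have hm : ∀ χ : IrrCharacter G, ∃ m : ℕ, ∑ z : P, (χ : G → ℂ) (z : G)⁻¹ =
      ((p ^ c : ℕ) : ℂ) * (m : ℂ) := by
    intro χ
    obtain ⟨m, hm⟩ := sum_char_subgroup (isCharacter_of_irr χ.2) P
    refine ⟨m, ?_⟩
    rw [← hP, ← hm]
    apply Fintype.sum_equiv (Equiv.inv P)
    intro z
    rfl
  choose m hm using hm
  -- arithmetic
  set n := Nat.card G with hn
  set n' := n / p ^ n.factorization p with hn'
  have hn0 : n ≠ 0 := Nat.card_pos.ne'
  have hk : ∀ χ : IrrCharacter G, ∃ k : ℕ,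
      n' * p ^ c = charDegree (χ : G → ℂ) * p ^ (a + 1) * k := by
    intro χ
    have hd0 : charDegree (χ : G → ℂ) ≠ 0 := (irr_degree_pos χ.2).ne'
    exact arith_dvd p hp n _ c a hd0 (charDegree_dvd_card χ.2) (hno χ)
  choose k hk using hk
  have hE : (n' : ℂ) * (Nat.card (Subgroup.centralizer ({x} : Set G)) : ℂ) =
      ((p ^ (a + 1) : ℕ) : ℂ) * ∑ χ : IrrCharacter G,
        (χ : G → ℂ) x * (χ : G → ℂ) x * (m χ : ℂ) * (k χ : ℂ) := by
    rw [← hC, Finset.mul_sum, Finset.mul_sum]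
    apply Finset.sum_congr rfl
    intro χ _
    have h1 : ∑ z : P, (χ : G → ℂ) x * (χ : G → ℂ) x * (χ : G → ℂ) (z : G)⁻¹ / (χ : G → ℂ) 1 =
        (χ : G → ℂ) x * (χ : G → ℂ) x * (((p ^ c : ℕ) : ℂ) * (m χ : ℂ)) / (χ : G → ℂ) 1 := by
      rw [← hm χ, Finset.mul_sum, Finset.sum_div]
    rw [h1, char_one_eq_charDegree (isCharacter_of_irr χ.2)]
    have hd0 : (charDegree (χ : G → ℂ) : ℂ) ≠ 0 := by
      exact_mod_cast (irr_degree_pos χ.2).ne'
    have hkc : (n' : ℂ) * ((p ^ c : ℕ) : ℂ) =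
        (charDegree (χ : G → ℂ) : ℂ) * ((p ^ (a + 1) : ℕ) : ℂ) * (k χ : ℂ) := by
      exact_mod_cast hk χ
    field_simp
    linear_combination ((χ : G → ℂ) x * (χ : G → ℂ) x * (m χ : ℂ)) * hkc
  -- integrality
  have hint : IsIntegral ℤ (∑ χ : IrrCharacter G,
        (χ : G → ℂ) x * (χ : G → ℂ) x * (m χ : ℂ) * (k χ : ℂ)) := by
    apply IsIntegral.sum
    intro χ _
    have h1 := irr_value_isIntegral χ x
    have hnat : ∀ j : ℕ, IsIntegral ℤ (j : ℂ) := fun j => by
      have := isIntegral_algebraMap (R := ℤ) (A := ℂ) (x := (j : ℤ))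
      simpa using this
    exact ((h1.mul h1).mul (hnat _)).mul (hnat _)
  have hpne : ((p ^ (a + 1) : ℕ) : ℂ) ≠ 0 := by
    exact_mod_cast (pow_pos hp.pos _).ne'
  have hrat : (∑ χ : IrrCharacter G,
        (χ : G → ℂ) x * (χ : G → ℂ) x * (m χ : ℂ) * (k χ : ℂ)) =
      (((n' * Nat.card (Subgroup.centralizer ({x} : Set G)) : ℕ) : ℚ) /
        ((p ^ (a + 1) : ℕ) : ℚ) : ℚ) := by
    push_cast
    rw [eq_div_iff (by exact_mod_cast hpne)]
    push_cast at hE
    rw [mul_comm, ← hE]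
  obtain ⟨w, hw⟩ := Cfsg.Agent.Lib.Helper2.exists_int_of_isIntegral_of_rat _ hrat hint
  rw [hw] at hE
  have hE' : ((n' * Nat.card (Subgroup.centralizer ({x} : Set G)) : ℕ) : ℤ) =
      ((p ^ (a + 1) : ℕ) : ℤ) * w := by
    exact_mod_cast hE
  have hdvd : p ^ (a + 1) ∣ n' * Nat.card (Subgroup.centralizer ({x} : Set G)) := by
    have : ((p ^ (a + 1) : ℕ) : ℤ) ∣ ((n' * Nat.card (Subgroup.centralizer ({x} : Set G)) : ℕ) : ℤ) :=
      ⟨w, hE'⟩
    exact Int.natCast_dvd_natCast.1 this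
  have hcop : Nat.Coprime (p ^ (a + 1)) n' :=
    Nat.Coprime.pow_left _ (Nat.coprime_ordCompl hp hn0)
  have hdvd' := hcop.dvd_of_dvd_mul_left hdvd
  have hC0 : Nat.card (Subgroup.centralizer ({x} : Set G)) ≠ 0 := Nat.card_pos.ne'
  have := Nat.pow_succ_factorization_not_dvd hC0 hp
  rw [ha] at this
  exact this hdvd'

end Cfsg.Agent.S4740
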