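import Mathlib
import Cfsg.Statements.S4762
import Cfsg.Agent.Lib.Helper25.CharBasic
import Cfsg.Agent.Lib.Helper25.Codegree
import Cfsg.Agent.Lib.Helper25.LinearChar
import Cfsg.Agent.Lib.Helper2.DirectProduct
import Cfsg.Agent.Lib.Helper2.Expansion
import Cfsg.Agent.Lib.Helper2.Regular
import Cfsg.Agent.Lib.Helper11.Clifford2
import Cfsg.Agent.Lib.Helper10.FittingHall
import Cfsg.Agent.Lib.Helper1.Extraspecial
import Cfsg.Agent.Lib.Helper1.Frattini
import Cfsg.Agent.Lib.Helper1.ClassTwo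
import Cfsg.Agent.Lib.Helper7.Extraspecial

set_option autoImplicit false
set_option linter.style.haveILetI false
open Cfsg

namespace Cfsg.Agent.S4762

open Cfsg.Agent.Lib.Helper2 Cfsg.Agent.Lib.Helper25
open scoped ComplexConjugate commutatorElement

/-- A finite group with at most one irreducible character is trivial. -/
theorem subsingleton_of_irr_subsingleton {K : Type*} [Group K] [Finite K]
    (h : ∀ β β' : Cfsg.IrrCharacter K, β = β') : ∀ k : K, k = 1 := by
  haveI := Fintype.ofFinite K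
  have hcard : Nat.card (Cfsg.IrrCharacter K) ≤ 1 := by
    haveI : Subsingleton (Cfsg.IrrCharacter K) := ⟨h⟩
    exact Finite.card_le_one_iff_subsingleton.2 inferInstance
  rw [card_irrCharacter] at hcard
  have hsub : Subsingleton (ConjClasses K) := Finite.card_le_one_iff_subsingleton.1 hcard
  intro k
  have := hsub.elim (ConjClasses.mk k) (ConjClasses.mk 1)
  rw [ConjClasses.mk_eq_mk_iff_isConj] at this
  exact isConj_one_left.1 this

/-- A finite nilpotent group with exactly one irreducible character of degree divisible by `p`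
is a `p`-group. -/
theorem isPGroup_of_unique {G : Type*} [Group G] [Finite G] [Group.IsNilpotent G] (p : ℕ)
    [Fact p.Prime]
    (h : Nat.card {χ : Cfsg.IrrCharacter G // p ∣ Cfsg.charDegree (χ : G → ℂ)} = 1) :
    IsPGroup p G := by
  classical
  have hp : p.Prime := Fact.out
  obtain ⟨P⟩ : Nonempty (Sylow p G) := inferInstance
  haveI : (P : Subgroup G).Normal := inferInstance
  obtain ⟨K, hK⟩ := Subgroup.exists_right_complement'_of_coprime (Sylow.card_coprime_index P)
  -- orders
  have hcardK : Nat.card K = (P : Subgroup G).index := by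
    have h1 := hK.card_mul_card
    have h2 := Subgroup.card_mul_index (P : Subgroup G)
    have hpos : 0 < Nat.card (P : Subgroup G) := Nat.card_pos
    exact Nat.eq_of_mul_eq_mul_left hpos (h1.trans h2.symm)
  have hKp : ¬ p ∣ Nat.card K := by rw [hcardK]; exact P.not_dvd_index
  have hcomm : ∀ (x : ↥(P : Subgroup G)) (k : ↥K), Commute (x : G) (k : G) := by
    intro x k
    apply Cfsg.Agent.Lib.Helper10.commute_of_coprime_orderOf G
    obtain ⟨j, hj⟩ := (IsPGroup.iff_orderOf.1 P.isPGroup') x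
    rw [Subgroup.orderOf_coe, hj]
    apply Nat.Coprime.pow_left
    rw [Nat.Prime.coprime_iff_not_dvd hp]
    intro hdvd
    apply hKp
    have h1 : orderOf (k : G) ∣ Nat.card K := by
      rw [Subgroup.orderOf_coe]; exact orderOf_dvd_natCard k
    exact hdvd.trans h1
  haveI : Fintype ↥(P : Subgroup G) := Fintype.ofFinite _
  haveI : Fintype ↥K := Fintype.ofFinite _
  let f : ↥(P : Subgroup G) × ↥K →* G :=
    MonoidHom.noncommCoprod (P : Subgroup G).subtype K.subtype hcomm
  have hfbij : Function.Bijective f := hK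
  let e : ↥(P : Subgroup G) × ↥K ≃* G := MulEquiv.ofBijective f hfbij
  -- the transfer of irreducible characters
  have htr : ∀ θ : Cfsg.IrrCharacter (↥(P : Subgroup G) × ↥K),
      Cfsg.IsIrrCharacter G ((θ : ↥(P : Subgroup G) × ↥K → ℂ) ∘ e.symm) := fun θ =>
    Cfsg.Agent.Lib.Helper11.isIrrCharacter_comp_equiv e.symm θ.2
  have htr' : ∀ χ : Cfsg.IrrCharacter G,
      Cfsg.IsIrrCharacter (↥(P : Subgroup G) × ↥K) ((χ : G → ℂ) ∘ e) := fun χ =>
    Cfsg.Agent.Lib.Helper11.isIrrCharacter_comp_equiv e χ.2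
  -- the unique character
  obtain ⟨⟨χ₀, hχ₀⟩⟩ := (Nat.card_eq_one_iff_unique.1 h).2
  have huniq' : ∀ χ : Cfsg.IrrCharacter G, p ∣ Cfsg.charDegree (χ : G → ℂ) → χ = χ₀ := by
    intro χ hχ
    have := (Nat.card_eq_one_iff_unique.1 h).1.elim ⟨χ, hχ⟩ ⟨χ₀, hχ₀⟩
    exact congrArg Subtype.val this
  obtain ⟨⟨α₀, β₀⟩, hαβ⟩ := irrProd_surjective ⟨_, htr' χ₀⟩
  have hdeg0 : (χ₀ : G → ℂ) 1 = (α₀ : ↥(P : Subgroup G) → ℂ) 1 * (β₀ : K → ℂ) 1 := by
    have := congrFun (congrArg Subtype.val hαβ) 1
    simp only [irrProd, Function.comp_apply, map_one] at this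
    rw [← this]
    rfl
  have hdegnat : Cfsg.charDegree (χ₀ : G → ℂ) =
      Cfsg.charDegree (α₀ : ↥(P : Subgroup G) → ℂ) * Cfsg.charDegree (β₀ : K → ℂ) := by
    rw [char_one_eq_charDegree (isCharacter_of_irr χ₀.2),
      char_one_eq_charDegree (isCharacter_of_irr α₀.2),
      char_one_eq_charDegree (isCharacter_of_irr β₀.2)] at hdeg0
    exact_mod_cast hdeg0
  have hβp : ∀ β : Cfsg.IrrCharacter K, ¬ p ∣ Cfsg.charDegree (β : K → ℂ) := by
    intro β hdvd
    exact hKp (hdvd.trans (charDegree_dvd_card β.2))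
  have hα₀p : p ∣ Cfsg.charDegree (α₀ : ↥(P : Subgroup G) → ℂ) := by
    rw [hdegnat] at hχ₀
    rcases (Nat.Prime.dvd_mul hp).1 hχ₀ with h1 | h1
    · exact h1
    · exact absurd h1 (hβp β₀)
  -- all irreducible characters of K coincide
  have hKirr : ∀ β β' : Cfsg.IrrCharacter K, β = β' := by
    have key : ∀ β : Cfsg.IrrCharacter K, (⟨_, htr (irrProd (α₀, β))⟩ : Cfsg.IrrCharacter G) = χ₀ := by
      intro β
      apply huniq'
      have h1 : ((irrProd (α₀, β) : Cfsg.IrrCharacter (↥(P : Subgroup G) × ↥K)) :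
          ↥(P : Subgroup G) × ↥K → ℂ) (e.symm 1) =
          (α₀ : ↥(P : Subgroup G) → ℂ) 1 * (β : K → ℂ) 1 := by
        rw [map_one]; rfl
      have h2 : Cfsg.charDegree (((irrProd (α₀, β) : Cfsg.IrrCharacter (↥(P : Subgroup G) × ↥K)) :
          ↥(P : Subgroup G) × ↥K → ℂ) ∘ e.symm) =
          Cfsg.charDegree (α₀ : ↥(P : Subgroup G) → ℂ) * Cfsg.charDegree (β : K → ℂ) := by
        have h3 := char_one_eq_charDegree (isCharacter_of_irr (htr (irrProd (α₀, β))))
        rw [Function.comp_apply, h1, char_one_eq_charDegree (isCharacter_of_irr α₀.2),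
          char_one_eq_charDegree (isCharacter_of_irr β.2)] at h3
        exact_mod_cast h3.symm
      show p ∣ Cfsg.charDegree (((irrProd (α₀, β) : Cfsg.IrrCharacter (↥(P : Subgroup G) × ↥K)) :
          ↥(P : Subgroup G) × ↥K → ℂ) ∘ e.symm)
      rw [h2]
      exact Dvd.dvd.mul_right hα₀p _
    intro β β'
    have h1 := (key β).trans (key β').symm
    have h2 : ((irrProd (α₀, β) : Cfsg.IrrCharacter (↥(P : Subgroup G) × ↥K)) :
        ↥(P : Subgroup G) × ↥K → ℂ) ∘ e.symm =
        ((irrProd (α₀, β') : Cfsg.IrrCharacter (↥(P : Subgroup G) × ↥K)) :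
        ↥(P : Subgroup G) × ↥K → ℂ) ∘ e.symm := congrArg Subtype.val h1
    have h3 : irrProd (α₀, β) = irrProd (α₀, β') := by
      apply Subtype.ext
      funext x
      have := congrFun h2 (e x)
      simpa using this
    have h4 := irrProd_injective h3
    exact (Prod.ext_iff.1 h4).2
  have hKtriv := subsingleton_of_irr_subsingleton hKirr
  -- hence G = P
  have hcardK1 : Nat.card K = 1 := by
    rw [Nat.card_eq_one_iff_unique]
    exact ⟨⟨fun a b => (hKtriv a).trans (hKtriv b).symm⟩, ⟨1⟩⟩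
  have hidx : (P : Subgroup G).index = 1 := by rw [← hcardK, hcardK1]
  have htop : (P : Subgroup G) = ⊤ := Subgroup.index_eq_one.1 hidx
  have := P.isPGroup'
  rw [htop] at this
  exact (IsPGroup.of_equiv this Subgroup.topEquiv : IsPGroup p G)

/-- In a `p`-group, `p` divides the degree of an irreducible character iff it is nonlinear. -/
theorem pgroup_dvd_iff {G : Type*} [Group G] [Finite G] (p : ℕ) [Fact p.Prime]
    (hG : IsPGroup p G) (χ : Cfsg.IrrCharacter G) :
    p ∣ Cfsg.charDegree (χ : G → ℂ) ↔ Cfsg.charDegree (χ : G → ℂ) ≠ 1 := by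
  have hp : p.Prime := Fact.out
  obtain ⟨a, ha⟩ := IsPGroup.iff_card.1 hG
  have hdvd : Cfsg.charDegree (χ : G → ℂ) ∣ p ^ a := by
    rw [← ha]; exact charDegree_dvd_card χ.2
  obtain ⟨j, -, hj⟩ := (Nat.dvd_prime_pow hp).1 hdvd
  rw [hj]
  constructor
  · intro h h1
    rw [h1] at h
    exact hp.one_lt.ne' (Nat.dvd_one.1 h)
  · intro h
    have hj0 : j ≠ 0 := by
      intro h0
      apply h
      rw [h0, pow_zero]
    exact dvd_pow_self p hj0

/-- Sum of squares of degrees, split into linear and nonlinear characters. -/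
theorem sum_sq_split {G : Type*} [Group G] [Fintype G] [Fintype (Cfsg.IrrCharacter G)]
    [DecidablePred fun χ : Cfsg.IrrCharacter G => Cfsg.charDegree (χ : G → ℂ) ≠ 1] :
    (commutator G).index + ∑ χ ∈ Finset.univ.filter
      (fun χ : Cfsg.IrrCharacter G => Cfsg.charDegree (χ : G → ℂ) ≠ 1),
        Cfsg.charDegree (χ : G → ℂ) ^ 2 = Nat.card G := by
  classical
  have hsumG : ∑ ψ : Cfsg.IrrCharacter G, Cfsg.charDegree (ψ : G → ℂ) ^ 2 = Nat.card G := by
    have h := sum_irr_degree_sq (G := G)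
    have h2 : ((∑ ψ : Cfsg.IrrCharacter G, Cfsg.charDegree (ψ : G → ℂ) ^ 2 : ℕ) : ℂ) =
        (Nat.card G : ℂ) := by
      rw [← h]
      push_cast
      apply Finset.sum_congr rfl
      intro ψ _
      rw [char_one_eq_charDegree (isCharacter_of_irr ψ.2)]
    exact_mod_cast h2
  rw [← hsumG, ← Finset.sum_filter_add_sum_filter_not Finset.univ
    (fun χ : Cfsg.IrrCharacter G => Cfsg.charDegree (χ : G → ℂ) = 1)]
  congr 1
  · rw [← card_linear_char, Nat.card_eq_fintype_card, Fintype.card_subtype,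
      Finset.card_eq_sum_ones]
    have hfilter : Finset.univ.filter (fun χ : Cfsg.IrrCharacter G => (χ : G → ℂ) 1 = 1) =
        Finset.univ.filter (fun χ : Cfsg.IrrCharacter G => Cfsg.charDegree (χ : G → ℂ) = 1) := by
      ext χ
      simp only [Finset.mem_filter, Finset.mem_univ, true_and]
      rw [char_one_eq_charDegree (isCharacter_of_irr χ.2)]
      exact_mod_cast Iff.rfl
    rw [hfilter]
    apply Finset.sum_congr rfl
    intro χ hχ
    rw [(Finset.mem_filter.1 hχ).2, one_pow]

/-- Counting the characters of degree divisible by `p` in a `p`-group. -/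
theorem card_dvd_eq_card_filter {G : Type*} [Group G] [Fintype G] [Fintype (Cfsg.IrrCharacter G)]
    [DecidablePred fun χ : Cfsg.IrrCharacter G => Cfsg.charDegree (χ : G → ℂ) ≠ 1]
    (p : ℕ) [Fact p.Prime] (hG : IsPGroup p G) :
    Nat.card {χ : Cfsg.IrrCharacter G // p ∣ Cfsg.charDegree (χ : G → ℂ)} =
      (Finset.univ.filter
        (fun χ : Cfsg.IrrCharacter G => Cfsg.charDegree (χ : G → ℂ) ≠ 1)).card := by
  classical
  rw [Nat.card_eq_fintype_card, Fintype.card_subtype]
  congr 1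
  ext χ
  simp only [Finset.mem_filter, Finset.mem_univ, true_and]
  exact pgroup_dvd_iff p hG χ

theorem extraspecial_of_unique_nonlinear {G : Type*} [Group G] [Finite G] (p : ℕ) [Fact p.Prime]
    (hG : IsPGroup p G) (χ₀ : Cfsg.IrrCharacter G) (hχ₀ : Cfsg.charDegree (χ₀ : G → ℂ) ≠ 1)
    (huniq : ∀ χ : Cfsg.IrrCharacter G, Cfsg.charDegree (χ : G → ℂ) ≠ 1 → χ = χ₀) :
    p = 2 ∧ Cfsg.IsExtraspecial 2 G := by
  classical
  haveI := Fintype.ofFinite G
  haveI : Fintype (Cfsg.IrrCharacter G) := Fintype.ofFinite _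
  have hp : p.Prime := Fact.out
  set d₀ := Cfsg.charDegree (χ₀ : G → ℂ) with hd₀
  have hsplit := sum_sq_split (G := G)
  have hfilter : Finset.univ.filter
      (fun χ : Cfsg.IrrCharacter G => Cfsg.charDegree (χ : G → ℂ) ≠ 1) = {χ₀} := by
    ext χ
    simp only [Finset.mem_filter, Finset.mem_univ, true_and, Finset.mem_singleton]
    constructor
    · exact huniq χ
    · intro h; rw [h]; exact hχ₀
  rw [hfilter, Finset.sum_singleton] at hsplit
  set idx := (commutator G).index with hidx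
  set m := Nat.card (commutator G) with hm
  have hmidx : m * idx = Nat.card G := Subgroup.card_mul_index _
  -- d₀ is a power of p
  obtain ⟨a, ha⟩ := IsPGroup.iff_card.1 hG
  have hd₀dvd : d₀ ∣ p ^ a := by rw [← ha]; exact charDegree_dvd_card χ₀.2
  obtain ⟨k, -, hk⟩ := (Nat.dvd_prime_pow hp).1 hd₀dvd
  obtain ⟨c, hc⟩ := IsPGroup.iff_card.1 (hG.to_subgroup (commutator G))
  -- the commutator subgroup is nontrivial
  have hc0 : c ≠ 0 := by
    intro h0
    rw [h0, pow_zero] at hc
    have hbot : commutator G = ⊥ := Subgroup.card_eq_one.1 hc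
    have hcenter : Subgroup.center G = ⊤ := (commutator_eq_bot_iff_center_eq_top G).1 hbot
    have hab : ∀ x y : G, x * y = y * x := by
      intro x y
      have hx : x ∈ Subgroup.center G := by rw [hcenter]; exact Subgroup.mem_top x
      exact ((Subgroup.mem_center_iff.1 hx) y).symm
    have h1 := IsIrrCharacter.apply_one_of_comm hab χ₀.2
    rw [char_one_eq_charDegree (isCharacter_of_irr χ₀.2)] at h1
    apply hχ₀
    exact_mod_cast h1
  have hm2 : 2 ≤ m := by
    rw [hm, hc]
    calc 2 ≤ p := hp.two_le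
      _ = p ^ 1 := (pow_one p).symm
      _ ≤ p ^ c := Nat.pow_le_pow_right hp.pos (Nat.one_le_iff_ne_zero.2 hc0)
  have hkey : d₀ ^ 2 = idx * (m - 1) := by
    have h1 : idx + d₀ ^ 2 = m * idx := by rw [hmidx]; exact hsplit
    have h2 : m * idx = idx + idx * (m - 1) := by
      have : m = 1 + (m - 1) := by omega
      conv_lhs => rw [this]
      ring
    omega
  have hm1 : m - 1 = 1 := by
    rw [Nat.eq_one_iff_not_exists_prime_dvd]
    intro r hr hrdvd
    have h1 : r ∣ d₀ ^ 2 := by rw [hkey]; exact Dvd.dvd.mul_left hrdvd _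
    rw [hk, ← pow_mul] at h1
    have h2 : r ∣ p := hr.dvd_of_dvd_pow h1
    have h3 : r = p := (Nat.prime_dvd_prime_iff_eq hr hp).1 h2
    rw [h3] at hrdvd
    have h4 : p ∣ m := by rw [hm, hc]; exact dvd_pow_self p hc0
    have h5 : p ∣ m - (m - 1) := Nat.dvd_sub h4 hrdvd
    have h6 : m - (m - 1) = 1 := by omega
    rw [h6] at h5
    exact hp.one_lt.ne' (Nat.dvd_one.1 h5)
  have hmeq : m = 2 := by omega
  have hp2 : p = 2 := by
    have h1 : p ∣ 2 := by
      rw [← hmeq, hm, hc]; exact dvd_pow_self p hc0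
    exact (Nat.prime_dvd_prime_iff_eq hp Nat.prime_two).1 h1
  subst hp2
  refine ⟨rfl, ?_⟩
  have hd₀sq : d₀ ^ 2 = idx := by rw [hkey, hm1, mul_one]
  have hGcard : Nat.card G = 2 * d₀ ^ 2 := by rw [← hmidx, hmeq, hd₀sq]
  -- the commutator subgroup is central
  have hcommZ : commutator G ≤ Subgroup.center G :=
    Cfsg.Agent.Lib.Helper1.le_center_of_normal_of_card_prime hG (commutator G) hmeq
  -- the centre has order at most two
  have hZcard : Nat.card (Subgroup.center G) ≤ 2 := by
    obtain ⟨n, ρ, hirr, hρ⟩ := χ₀.2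
    have hn : d₀ = n := by rw [hd₀, ← hρ, charDegree_rep]
    have hnorm : ∀ z ∈ Subgroup.center G, Complex.normSq ((χ₀ : G → ℂ) z) = (n : ℝ) ^ 2 := by
      intro z hz
      have h1 := (norm_char_eq_finrank_iff ρ z).2
        (Cfsg.Agent.Lib.Helper7.central_scalar ρ hirr z hz)
      rw [Module.finrank_fin_fun, hρ] at h1
      rw [Complex.normSq_eq_norm_sq, h1]
    have hinner := irr_classInner χ₀.2 χ₀.2
    rw [if_pos rfl] at hinner
    unfold Cfsg.classInner at hinner
    have hGne : (Nat.card G : ℂ) ≠ 0 := by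
      have : 0 < Nat.card G := Nat.card_pos
      exact_mod_cast this.ne'
    have hsum : ∑ g : G, (χ₀ : G → ℂ) g * conj ((χ₀ : G → ℂ) g) = (Nat.card G : ℂ) := by
      field_simp at hinner
      exact hinner
    have hsumR : ∑ g : G, Complex.normSq ((χ₀ : G → ℂ) g) = (Nat.card G : ℝ) := by
      have h1 : ((∑ g : G, Complex.normSq ((χ₀ : G → ℂ) g) : ℝ) : ℂ) = ((Nat.card G : ℝ) : ℂ) := by
        push_cast
        rw [← hsum]
        apply Finset.sum_congr rfl
        intro g _
        rw [Complex.mul_conj]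
      exact_mod_cast h1
    have hle : ∑ g ∈ Finset.univ.filter (fun g : G => g ∈ Subgroup.center G),
        Complex.normSq ((χ₀ : G → ℂ) g) ≤ ∑ g : G, Complex.normSq ((χ₀ : G → ℂ) g) :=
      Finset.sum_le_sum_of_subset_of_nonneg (Finset.filter_subset _ _)
        (fun g _ _ => Complex.normSq_nonneg _)
    have hZsum : ∑ g ∈ Finset.univ.filter (fun g : G => g ∈ Subgroup.center G),
        Complex.normSq ((χ₀ : G → ℂ) g) = (Nat.card (Subgroup.center G) : ℝ) * (n : ℝ) ^ 2 := by
      rw [Finset.sum_congr rfl (fun g hg => hnorm g (Finset.mem_filter.1 hg).2),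
        Finset.sum_const, nsmul_eq_mul, Nat.card_eq_fintype_card, Fintype.card_subtype]
    rw [hZsum, hsumR, hGcard, hn] at hle
    have hnpos : 0 < (n : ℝ) ^ 2 := by
      have : 0 < n := by rw [← hn]; exact irr_degree_pos χ₀.2
      positivity
    have h2 : (Nat.card (Subgroup.center G) : ℝ) ≤ 2 := by
      push_cast at hle
      nlinarith
    exact_mod_cast h2
  have hcomm_eq : commutator G = Subgroup.center G :=
    Subgroup.eq_of_le_of_card_ge hcommZ (by rw [← hm, hmeq]; exact hZcard)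
  have hZ2 : Nat.card (Subgroup.center G) = 2 := by rw [← hcomm_eq, ← hm, hmeq]
  -- the Frattini subgroup
  have hfrat : frattini G = Subgroup.center G := by
    apply le_antisymm
    · apply Cfsg.Agent.Lib.Helper1.frattini_le_of_commutator_le_of_pow_mem (p := 2)
        (Subgroup.center G) hcommZ
      intro x
      rw [Subgroup.mem_center_iff]
      intro y
      have hxy : ⁅x, y⁆ ∈ commutator G := by
        rw [commutator_def]
        exact Subgroup.commutator_mem_commutator (Subgroup.mem_top x) (Subgroup.mem_top y)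
      have hcentral : ⁅x, y⁆ * x = x * ⁅x, y⁆ :=
        ((Subgroup.mem_center_iff.1 (hcommZ hxy)) x).symm
      have hpow := Cfsg.Agent.Lib.Helper1.commutatorElement_pow_left hcentral 2
      have hsq : ⁅x, y⁆ ^ 2 = 1 := by
        have h1 : (⟨⁅x, y⁆, hxy⟩ : commutator G) ^ Nat.card (commutator G) = 1 :=
          pow_card_eq_one'
        rw [← hm, hmeq] at h1
        exact congrArg Subtype.val h1
      rw [hsq] at hpow
      exact (commutatorElement_eq_one_iff_mul_comm.1 hpow).symm
    · rw [← hcomm_eq]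
      exact Cfsg.Agent.Lib.Helper1.IsPGroup.commutator_le_frattini hG
  exact ⟨⟨hG, hfrat, hcomm_eq⟩, hZ2⟩

theorem unique_nonlinear_of_extraspecial {G : Type*} [Group G] [Finite G]
    (hE : Cfsg.IsExtraspecial 2 G) :
    Nat.card {χ : Cfsg.IrrCharacter G // 2 ∣ Cfsg.charDegree (χ : G → ℂ)} = 1 := by
  classical
  haveI := Fintype.ofFinite G
  haveI : Fintype (Cfsg.IrrCharacter G) := Fintype.ofFinite _
  haveI : Fact (Nat.Prime 2) := ⟨Nat.prime_two⟩
  obtain ⟨⟨hG, hfrat, hcomm⟩, hZ⟩ := hE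
  rw [card_dvd_eq_card_filter 2 hG]
  have hsplit := sum_sq_split (G := G)
  have hmidx : Nat.card (commutator G) * (commutator G).index = Nat.card G :=
    Subgroup.card_mul_index _
  have hcardcomm : Nat.card (commutator G) = 2 := by rw [hcomm]; exact hZ
  rw [hcardcomm] at hmidx
  have hdeg : ∀ χ ∈ Finset.univ.filter
      (fun χ : Cfsg.IrrCharacter G => Cfsg.charDegree (χ : G → ℂ) ≠ 1),
      Cfsg.charDegree (χ : G → ℂ) ^ 2 * 2 = Nat.card G := by
    intro χ hχ
    have hne := (Finset.mem_filter.1 hχ).2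
    obtain ⟨n, ρ, hirr, hρ⟩ := χ.2
    have hn : Cfsg.charDegree (χ : G → ℂ) = n := by rw [← hρ, charDegree_rep]
    rcases Cfsg.Agent.Lib.Helper7.extraspecial_irr_dichotomy (p := 2) hcomm hZ ρ hirr with h | h
    · rw [Module.finrank_fin_fun] at h
      exact absurd (hn.trans h) hne
    · have := h.2
      rw [Module.finrank_fin_fun] at this
      rw [hn]; exact this
  set S := Finset.univ.filter
      (fun χ : Cfsg.IrrCharacter G => Cfsg.charDegree (χ : G → ℂ) ≠ 1) with hS
  have hsum2 : (∑ χ ∈ S, Cfsg.charDegree (χ : G → ℂ) ^ 2) * 2 = S.card * Nat.card G := by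
    rw [Finset.sum_mul, Finset.sum_congr rfl hdeg, Finset.sum_const, smul_eq_mul]
  have hpos : 0 < Nat.card G := Nat.card_pos
  have h3 : Nat.card G + S.card * Nat.card G = 2 * Nat.card G := by
    rw [← hsum2]
    have : (commutator G).index + ∑ χ ∈ S, Cfsg.charDegree (χ : G → ℂ) ^ 2 = Nat.card G := hsplit
    omega
  have h4 : (1 + S.card) * Nat.card G = 2 * Nat.card G := by rw [← h3]; ring
  have h5 := Nat.eq_of_mul_eq_mul_right hpos h4
  omega

theorem result {G : Type*} [Group G] [Finite G] [Group.IsNilpotent G] (p : ℕ) [Fact p.Prime] : Nat.card {χ : Cfsg.IrrCharacter G // p ∣ Cfsg.charDegree (χ : G → ℂ)} = 1 ↔ (p = 2 ∧ Cfsg.IsExtraspecial 2 G) := by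
  classical
  constructor
  · intro h
    have hG := isPGroup_of_unique p h
    obtain ⟨⟨χ₀, hχ₀⟩⟩ := (Nat.card_eq_one_iff_unique.1 h).2
    have huniq : ∀ χ : Cfsg.IrrCharacter G, p ∣ Cfsg.charDegree (χ : G → ℂ) → χ = χ₀ := by
      intro χ hχ
      have := (Nat.card_eq_one_iff_unique.1 h).1.elim ⟨χ, hχ⟩ ⟨χ₀, hχ₀⟩
      exact congrArg Subtype.val this
    exact extraspecial_of_unique_nonlinear p hG χ₀ ((pgroup_dvd_iff p hG χ₀).1 hχ₀)
      (fun χ hχ => huniq χ ((pgroup_dvd_iff p hG χ).2 hχ))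
  · rintro ⟨rfl, hE⟩
    exact unique_nonlinear_of_extraspecial hE

end Cfsg.Agent.S4762
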