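import Cfsg.Statements.S0106
import Cfsg.Agent.Lib.Helper23.SL23Recog
import Cfsg.Agent.Lib.Helper13.Frobenius
import Cfsg.Agent.Lib.Helper10.UniqueOrderP
import Cfsg.Agent.Lib.Helper16.UniqueOrderP
import Cfsg.Agent.H26.AutTwoGroup

set_option autoImplicit false
open Cfsg

namespace Cfsg.Agent.S0106

open Cfsg.Agent.Lib.Helper23.SL23Recog Cfsg.Agent.Lib.Helper13 Cfsg.Agent.Lib.Helper10
  Cfsg.Agent.Lib.Helper16

variable {G : Type*} [Group G]

/-- the automorphism of `Q` induced by `x` has odd order, so `Aut(Q)` is not a `2`-group -/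
theorem not_isPGroup_mulAut (Q : Subgroup G) (x : G) (hxN : x ∈ Subgroup.normalizer (Q : Set G))
    (hxo : (orderOf x).Coprime 2) (hxC : x ∉ Subgroup.centralizer (Q : Set G)) :
    ¬ IsPGroup 2 (MulAut ↥Q) := by
  intro hP
  obtain ⟨α, hα⟩ : ∃ α : MulAut ↥Q, α = Q.normalizerMonoidHom ⟨x, hxN⟩ := ⟨_, rfl⟩
  have hαo : α ^ orderOf x = 1 := by
    rw [hα, ← map_pow]
    have h1 : (⟨x, hxN⟩ : ↥(Subgroup.normalizer (Q : Set G))) ^ orderOf x = 1 :=
      Subtype.ext (by rw [Subgroup.coe_pow]; exact pow_orderOf_eq_one x)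
    rw [h1, map_one]
  obtain ⟨k, hk⟩ := hP α
  have h1 : orderOf α ∣ 2 ^ k := orderOf_dvd_of_pow_eq_one hk
  have h2 : orderOf α ∣ orderOf x := orderOf_dvd_of_pow_eq_one hαo
  have h3 : (orderOf α).Coprime (2 ^ k) :=
    Nat.Coprime.pow_right k (Nat.Coprime.coprime_dvd_left h2 hxo)
  have h4 : orderOf α = 1 := Nat.Coprime.eq_one_of_dvd h3 h1
  have h5 : α = 1 := orderOf_eq_one_iff.mp h4
  apply hxC
  rw [Subgroup.mem_centralizer_iff]
  intro q hq
  have h6 : ((α ⟨q, hq⟩ : ↥Q) : G) = x * q * x⁻¹ := by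
    rw [hα, Subgroup.normalizerMonoidHom_apply_apply_coe]
  rw [h5] at h6
  have h7 : q = x * q * x⁻¹ := h6
  calc q * x = (x * q * x⁻¹) * x := by rw [← h7]
    _ = x * q := by group

theorem section_SL23 [Finite G] (Q : Subgroup G) (e2 : ↥Q ≃* QuaternionGroup 2)
    (x : G) (hxN : x ∈ Subgroup.normalizer (Q : Set G)) (hxo : (orderOf x).Coprime 2)
    (hxC : x ∉ Subgroup.centralizer (Q : Set G)) :
    ∃ (H K : Subgroup G) (hK : (K.subgroupOf H).Normal),
      Nonempty ((H ⧸ K.subgroupOf H) ≃* Matrix.SpecialLinearGroup (Fin 2) (ZMod 3)) := by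
  obtain ⟨α, hα⟩ : ∃ α : MulAut ↥Q, α = Q.normalizerMonoidHom ⟨x, hxN⟩ := ⟨_, rfl⟩
  have hαapp : ∀ (k : ℕ) (q : ↥Q), (((α ^ k) q : ↥Q) : G) = x ^ k * q * (x ^ k)⁻¹ := by
    intro k q
    rw [hα, ← map_pow, Subgroup.normalizerMonoidHom_apply_apply_coe]
    rfl
  have hcard : Nat.card (MulAut ↥Q) = 24 := by
    rw [Nat.card_congr (MulAut.congr e2).toEquiv]; exact card_mulAut_q8
  have hαo : α ^ orderOf x = 1 := by
    rw [hα, ← map_pow]
    have h1 : (⟨x, hxN⟩ : ↥(Subgroup.normalizer (Q : Set G))) ^ orderOf x = 1 :=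
      Subtype.ext (by rw [Subgroup.coe_pow]; exact pow_orderOf_eq_one x)
    rw [h1, map_one]
  have hα3 : α ^ 3 = 1 := by
    have h1 : orderOf α ∣ 24 := hcard ▸ orderOf_dvd_natCard α
    have h2 : orderOf α ∣ orderOf x := orderOf_dvd_of_pow_eq_one hαo
    have h3 : (orderOf α).Coprime (2 ^ 3) :=
      Nat.Coprime.pow_right 3 (Nat.Coprime.coprime_dvd_left h2 hxo)
    have h4 : orderOf α ∣ 3 := by
      have h5 : orderOf α ∣ 3 * 2 ^ 3 := h1
      exact Nat.Coprime.dvd_of_dvd_mul_right h3 h5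
    exact orderOf_dvd_iff_pow_eq_one.mp h4
  have hx3 : ∀ q ∈ Q, x ^ 3 * q = q * x ^ 3 := by
    intro q hq
    have h1 := hαapp 3 ⟨q, hq⟩
    rw [hα3] at h1
    have h2 : q = x ^ 3 * q * (x ^ 3)⁻¹ := h1
    calc x ^ 3 * q = (x ^ 3 * q * (x ^ 3)⁻¹) * x ^ 3 := by group
      _ = q * x ^ 3 := by rw [← h2]
  obtain ⟨X₀, hX₀⟩ : ∃ X₀ : Subgroup G, X₀ = Subgroup.zpowers x := ⟨_, rfl⟩
  obtain ⟨H, hH⟩ : ∃ H : Subgroup G, H = Q ⊔ X₀ := ⟨_, rfl⟩
  obtain ⟨K, hK⟩ : ∃ K : Subgroup G, K = Subgroup.zpowers (x ^ 3) := ⟨_, rfl⟩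
  have hQH : Q ≤ H := by rw [hH]; exact le_sup_left
  have hxX₀ : x ∈ X₀ := by rw [hX₀]; exact Subgroup.mem_zpowers x
  have hX₀H : X₀ ≤ H := by rw [hH]; exact le_sup_right
  have hxH : x ∈ H := hX₀H hxX₀
  have hKX₀ : K ≤ X₀ := by
    rw [hK, hX₀]
    exact Subgroup.zpowers_le.mpr (Subgroup.pow_mem _ (Subgroup.mem_zpowers x) 3)
  have hKcent : ∀ k ∈ K, ∀ h ∈ H, h * k = k * h := by
    intro k hk
    rw [hK] at hk
    obtain ⟨j, rfl⟩ := Subgroup.mem_zpowers_iff.mp hk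
    have hle : H ≤ Subgroup.centralizer ({(x ^ 3) ^ j} : Set G) := by
      rw [hH]
      apply sup_le
      · intro q hq
        rw [Subgroup.mem_centralizer_singleton_iff]
        have hc : Commute q (x ^ 3) := (hx3 q hq).symm
        exact (hc.zpow_right j).eq
      · rw [hX₀, Subgroup.zpowers_le, Subgroup.mem_centralizer_singleton_iff]
        have hc : Commute x (x ^ 3) := (Commute.refl x).pow_right 3
        exact (hc.zpow_right j).eq
    intro h hh
    exact Subgroup.mem_centralizer_singleton_iff.mp (hle hh)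
  have hKn : (K.subgroupOf H).Normal := by
    refine ⟨fun k hk h => ?_⟩
    rw [Subgroup.mem_subgroupOf] at hk ⊢
    have h1 : ((h * k * h⁻¹ : ↥H) : G) = (k : G) := by
      simp only [Subgroup.coe_mul, Subgroup.coe_inv]
      rw [hKcent (k : G) hk (h : G) h.2]; group
    rw [h1]; exact hk
  haveI := hKn
  have hQcard : Nat.card ↥Q = 8 := by
    rw [Nat.card_congr e2.toEquiv, Nat.card_eq_fintype_card, QuaternionGroup.card]
  have hdisj : ∀ y : G, y ∈ Q → y ∈ X₀ → y = 1 := by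
    intro y hyQ hyX
    have hd : Disjoint Q X₀ := by
      apply Subgroup.disjoint_of_coprime_natCard
      rw [hQcard, hX₀, Nat.card_zpowers]
      exact (Nat.Coprime.pow_right 3 hxo).symm
    have h1 : y ∈ Q ⊓ X₀ := ⟨hyQ, hyX⟩
    rw [hd.eq_bot] at h1
    exact Subgroup.mem_bot.mp h1
  obtain ⟨π, hπ⟩ : ∃ π : ↥H →* ↥H ⧸ K.subgroupOf H, π = QuotientGroup.mk' (K.subgroupOf H) :=
    ⟨_, rfl⟩
  have hπsurj : Function.Surjective π := by rw [hπ]; exact QuotientGroup.mk'_surjective _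
  have hπker : ∀ h : ↥H, π h = 1 ↔ (h : G) ∈ K := by
    intro h
    rw [hπ]
    constructor
    · intro h1
      exact Subgroup.mem_subgroupOf.mp ((QuotientGroup.eq_one_iff h).mp h1)
    · intro h1
      exact (QuotientGroup.eq_one_iff h).mpr (Subgroup.mem_subgroupOf.mpr h1)
  obtain ⟨xb, hxb⟩ : ∃ xb : ↥H ⧸ K.subgroupOf H, xb = π ⟨x, hxH⟩ := ⟨_, rfl⟩
  have hxb3 : xb ^ 3 = 1 := by
    rw [hxb, ← map_pow, hπker, Subgroup.coe_pow, hK]
    exact Subgroup.mem_zpowers _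
  have hxK : x ∉ K := by
    intro h
    apply hxC
    rw [Subgroup.mem_centralizer_iff]
    intro q hq
    exact hKcent x h q (hQH hq)
  have hxb1 : xb ≠ 1 := by
    intro h
    rw [hxb, hπker] at h
    exact hxK h
  haveI : Fact (Nat.Prime 3) := ⟨Nat.prime_three⟩
  have hxbo : orderOf xb = 3 := orderOf_eq_prime hxb3 hxb1
  have hC : Nat.card ↥(Subgroup.zpowers xb) = 3 := by rw [Nat.card_zpowers, hxbo]
  obtain ⟨ι, hι⟩ : ∃ ι : ↥Q →* ↥H ⧸ K.subgroupOf H, ∀ q : ↥Q, ι q = π ⟨(q : G), hQH q.2⟩ :=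
    ⟨π.comp (Subgroup.inclusion hQH), fun q => rfl⟩
  have hιinj : Function.Injective ι := by
    rw [injective_iff_map_eq_one]
    intro q hq
    rw [hι, hπker] at hq
    exact Subtype.ext (hdisj _ q.2 (hKX₀ hq))
  obtain ⟨N, hN⟩ : ∃ N : Subgroup (↥H ⧸ K.subgroupOf H), N = ι.range := ⟨_, rfl⟩
  have eN : ↥N ≃* QuaternionGroup 2 := by
    rw [hN]; exact (MonoidHom.ofInjective hιinj).symm.trans e2
  have hHN : H ≤ Subgroup.normalizer (Q : Set G) := by
    rw [hH]
    exact sup_le Subgroup.le_normalizer (by rw [hX₀]; exact Subgroup.zpowers_le.mpr hxN)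
  have hNn : N.Normal := by
    refine ⟨fun n hn g => ?_⟩
    rw [hN] at hn ⊢
    obtain ⟨q, rfl⟩ := hn
    obtain ⟨h, rfl⟩ := hπsurj g
    have hmem : (h : G) * (q : G) * (h : G)⁻¹ ∈ Q :=
      (Subgroup.mem_normalizer_iff.mp (hHN h.2) (q : G)).mp q.2
    refine ⟨⟨_, hmem⟩, ?_⟩
    rw [hι, hι, ← map_inv, ← map_mul, ← map_mul]
    exact congrArg π (Subtype.ext (by simp))
  haveI := hNn
  have hsup : N ⊔ Subgroup.zpowers xb = ⊤ := by
    rw [eq_top_iff]
    intro g _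
    obtain ⟨h, rfl⟩ := hπsurj g
    have hle : H ≤ ((N ⊔ Subgroup.zpowers xb).comap π).map H.subtype := by
      refine le_trans (le_of_eq hH) (sup_le ?_ ?_)
      · intro q hq
        refine ⟨⟨q, hQH hq⟩, ?_, rfl⟩
        show π ⟨q, hQH hq⟩ ∈ N ⊔ Subgroup.zpowers xb
        apply Subgroup.mem_sup_left
        rw [hN]
        exact ⟨⟨q, hq⟩, hι _⟩
      · rw [hX₀, Subgroup.zpowers_le]
        refine ⟨⟨x, hxH⟩, ?_, rfl⟩
        show π ⟨x, hxH⟩ ∈ N ⊔ Subgroup.zpowers xb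
        apply Subgroup.mem_sup_right
        rw [← hxb]; exact Subgroup.mem_zpowers xb
    obtain ⟨s, hs, hsh⟩ := hle h.2
    have hsh' : s = h := Subtype.ext hsh
    rw [← hsh']; exact hs
  have hnc : ¬ Subgroup.zpowers xb ≤ Subgroup.centralizer (N : Set (↥H ⧸ K.subgroupOf H)) := by
    intro hle
    have hxbc := hle (Subgroup.mem_zpowers xb)
    rw [Subgroup.mem_centralizer_iff] at hxbc
    apply hxC
    rw [Subgroup.mem_centralizer_iff]
    intro q hq
    have h1 := hxbc (ι ⟨q, hq⟩) (by rw [hN]; exact ⟨_, rfl⟩)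
    rw [hι, hxb, ← map_mul, ← map_mul] at h1
    have h2 : π ((⟨x, hxH⟩ * ⟨q, hQH hq⟩)⁻¹ * (⟨q, hQH hq⟩ * ⟨x, hxH⟩)) = 1 := by
      rw [map_mul, map_inv, h1, inv_mul_cancel]
    rw [hπker] at h2
    have h3 : (x * q)⁻¹ * (q * x) ∈ K := by simpa using h2
    have h4 : (x * q)⁻¹ * (q * x) ∈ Q := by
      have hc : x⁻¹ * q * x ∈ Q := by
        have h5 := (Subgroup.mem_normalizer_iff.mp (Subgroup.inv_mem _ hxN) q).mp hq
        simpa using h5
      have e : (x * q)⁻¹ * (q * x) = q⁻¹ * (x⁻¹ * q * x) := by group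
      rw [e]; exact Q.mul_mem (Q.inv_mem hq) hc
    have h5 := hdisj _ h4 (hKX₀ h3)
    calc q * x = (x * q) * ((x * q)⁻¹ * (q * x)) := by group
      _ = x * q := by rw [h5, mul_one]
  obtain ⟨E⟩ := nonempty_mulEquiv_SL23 N (Subgroup.zpowers xb) eN hC hsup hnc
  exact ⟨H, K, hKn, ⟨E⟩⟩

end Cfsg.Agent.S0106

namespace Cfsg.Agent.S0106

open Cfsg.Agent.Lib.Helper13 Cfsg.Agent.Lib.Helper10 Cfsg.Agent.Lib.Helper16 in
/-- A finite group with generalized quaternion Sylow 2-subgroups either has a normal 2-complement or has a section isomorphic to SL(2,3). -/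
theorem result {G : Type*} [Group G] [Finite G] (T : Sylow 2 G) (n : ℕ) (hn : 1 ≤ n) (hT : Nonempty ((T : Subgroup G) ≃* QuaternionGroup (2 ^ n))) : Cfsg.HasNormalPComplement 2 G ∨ ∃ (H K : Subgroup G) (hK : (K.subgroupOf H).Normal), Nonempty ((H ⧸ K.subgroupOf H) ≃* Matrix.SpecialLinearGroup (Fin 2) (ZMod 3)) := by
  haveI : Fact (Nat.Prime 2) := ⟨Nat.prime_two⟩
  obtain ⟨eT⟩ := hT
  haveI : NeZero (2 ^ n) := ⟨by positivity⟩
  have hTu : ∀ x y : G, x ∈ (T : Subgroup G) → y ∈ (T : Subgroup G) → x ^ 2 = 1 → x ≠ 1 →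
      y ^ 2 = 1 → y ∈ Subgroup.zpowers x := by
    intro x y hx hy hx2 hx1 hy2
    have h1 : (eT ⟨x, hx⟩) ^ 2 = 1 := by
      rw [← map_pow]
      have : (⟨x, hx⟩ : ↥(T : Subgroup G)) ^ 2 = 1 := Subtype.ext (by rw [Subgroup.coe_pow]; exact hx2)
      rw [this, map_one]
    have h2 : (eT ⟨y, hy⟩) ^ 2 = 1 := by
      rw [← map_pow]
      have : (⟨y, hy⟩ : ↥(T : Subgroup G)) ^ 2 = 1 := Subtype.ext (by rw [Subgroup.coe_pow]; exact hy2)
      rw [this, map_one]
    have h3 : eT ⟨x, hx⟩ ≠ 1 := by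
      intro h
      apply hx1
      have := eT.injective (h.trans (map_one eT).symm)
      exact congrArg Subtype.val this
    obtain ⟨k, hk⟩ := Subgroup.mem_zpowers_iff.mp
      (mem_zpowers_of_sq_eq_one_quaternion (eT ⟨x, hx⟩) (eT ⟨y, hy⟩) h1 h3 h2)
    rw [← map_zpow] at hk
    have h4 := eT.injective hk
    refine Subgroup.mem_zpowers_iff.mpr ⟨k, ?_⟩
    have h5 := congrArg Subtype.val h4
    rw [Subgroup.coe_zpow] at h5
    exact h5
  by_cases hLC : LocalCentral 2 G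
  · left
    obtain ⟨K, hKn, hKc⟩ := exists_normal_complement_of_localCentral hLC T
    exact ⟨T, K, hKn, hKc⟩
  · right
    unfold LocalCentral at hLC
    push Not at hLC
    obtain ⟨Q, hQp, x, hxN, hxo, hxC⟩ := hLC
    obtain ⟨T', hQT'⟩ := hQp.exists_le_sylow
    obtain ⟨g, hg⟩ := MulAction.exists_smul_eq G T T'
    have hφ : ∀ y : G, MulAut.conj g⁻¹ y = g⁻¹ * y * g := fun y => by
      rw [MulAut.conj_apply, inv_inv]
    have hQT : ∀ y ∈ Q, MulAut.conj g⁻¹ y ∈ (T : Subgroup G) := by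
      intro y hy
      rw [hφ, ← mem_smul_sylow_iff, hg]
      exact hQT' hy
    have hQu : UniqueOrderP 2 ↥Q := by
      intro a b ha ha1 hb
      have ha2 : (MulAut.conj g⁻¹ (a : G)) ^ 2 = 1 := by
        rw [← map_pow]
        have : (a : G) ^ 2 = 1 := by
          have := congrArg Subtype.val ha
          rwa [Subgroup.coe_pow] at this
        rw [this, map_one]
      have hb2 : (MulAut.conj g⁻¹ (b : G)) ^ 2 = 1 := by
        rw [← map_pow]
        have : (b : G) ^ 2 = 1 := by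
          have := congrArg Subtype.val hb
          rwa [Subgroup.coe_pow] at this
        rw [this, map_one]
      have ha1' : MulAut.conj g⁻¹ (a : G) ≠ 1 := by
        intro h
        apply ha1
        have := (MulAut.conj g⁻¹).injective (h.trans (map_one _).symm)
        exact Subtype.ext this
      obtain ⟨k, hk⟩ := Subgroup.mem_zpowers_iff.mp
        (hTu _ _ (hQT _ a.2) (hQT _ b.2) ha2 ha1' hb2)
      rw [← map_zpow] at hk
      have h4 := (MulAut.conj g⁻¹).injective hk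
      refine Subgroup.mem_zpowers_iff.mpr ⟨k, Subtype.ext ?_⟩
      rw [Subgroup.coe_zpow]
      exact h4
    have hnot := not_isPGroup_mulAut Q x hxN hxo hxC
    have hcyc : ¬ IsCyclic ↥Q := by
      intro hc
      apply hnot
      obtain ⟨j, hj⟩ := IsPGroup.iff_card.mp hQp
      have hcard := IsCyclic.card_mulAut ↥Q
      rw [hj] at hcard
      rcases j with _ | j
      · refine IsPGroup.of_card (n := 0) ?_
        rw [hcard]; simp
      · refine IsPGroup.of_card (n := j) ?_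
        rw [hcard, Nat.totient_prime_pow Nat.prime_two (Nat.succ_pos j)]
        simp
    rcases isCyclic_or_quaternion_of_uniqueOrderP hQp hQu with hc | ⟨-, m, ⟨eQ⟩⟩
    · exact absurd hc hcyc
    · rcases m with _ | _ | m
      · exfalso
        apply hcyc
        have e1 : ↥Q ≃* QuaternionGroup 1 := eQ
        haveI := QuaternionGroup.quaternionGroup_one_isCyclic
        exact (e1.isCyclic).mpr inferInstance
      · have e2 : ↥Q ≃* QuaternionGroup 2 := eQ
        exact section_SL23 Q e2 x hxN hxo hxC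
      · exfalso
        apply hnot
        have h1 := Cfsg.Agent.H26.isPGroup_two_mulAut_quaternion (m + 2 + 2) (by omega)
        rw [Nat.add_sub_cancel] at h1
        exact h1.of_equiv (MulAut.congr eQ).symm

end Cfsg.Agent.S0106
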