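import Cfsg.Statements.S5349
import Cfsg.Agent.Lib.Helper27.ThreeTransp

set_option autoImplicit false
open Cfsg

namespace Cfsg.Agent.S5349

open Cfsg.Agent.Lib.Helper27 in
/-- Let D be a conjugacy class of 3-transpositions generating the finite group G, with at least two members, and d a member of D. Then the set of members of D commuting with exactly the same members of D as d coincides with the set of members of D lying in the coset of d modulo the largest normal 2-subgroup of G, and also with the orbit of d under conjugation by that normal 2-subgroup. -/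
theorem result {G : Type*} [Group G] [Finite G] {D : Set G} (hD : Cfsg.IsThreeTranspositionClass D) (hD2 : ∃ a ∈ D, ∃ b ∈ D, a ≠ b) {d : G} (hd : d ∈ D) : {v : G | v ∈ D ∧ ∀ e ∈ D, Commute v e ↔ Commute d e} = {v : G | v ∈ D ∧ d⁻¹ * v ∈ Cfsg.pCore 2 G} ∧ {v : G | v ∈ D ∧ ∀ e ∈ D, Commute v e ↔ Commute d e} = {v : G | ∃ g ∈ Cfsg.pCore 2 G, v = g * d * g⁻¹} := by
  have hS := hD.1
  have hc : ∀ g : G, ∀ x ∈ D, g * x * g⁻¹ ∈ D := fun g x hx => TT.conj_mem_of_class hD g hx
  have hQn : (Cfsg.pCore 2 G).Normal := Cfsg.Agent.Lib.Helper16.pCore_normal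
  have hAC : {v : G | v ∈ D ∧ ∀ e ∈ D, Commute v e ↔ Commute d e} ⊆
      {v : G | ∃ g ∈ Cfsg.pCore 2 G, v = g * d * g⁻¹} := by
    rintro v ⟨hv, hve⟩
    have hsame : TT.Same D d v := ⟨hd, hv, fun e he => (hve e he).symm⟩
    by_cases hvd : v = d
    · exact ⟨1, Subgroup.one_mem _, by rw [hvd]; group⟩
    · obtain ⟨e, he, hde⟩ := TT.exists_not_commute hD hD2 hd
      have hve' : ¬ Commute v e := fun h => hde ((hve e he).mp h)
      have ht : d * v ∈ Cfsg.pCore 2 G := TT.same_mul_mem_pCore hS hc hsame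
      refine ⟨e * (d * v) * e⁻¹, hQn.conj_mem _ ht e, ?_⟩
      rw [eq_mul_inv_iff_mul_eq, TT.inv_of_mem hS he]
      have hdv := hsame.commute
      have b1 := TT.braid hS hv he hve'
      have b2 := TT.braid hS hd he hde
      calc v * (e * (d * v) * e)
          = v * e * (d * v) * e := by simp only [mul_assoc]
        _ = v * e * (v * d) * e := by rw [hdv.eq]
        _ = (v * e * v) * d * e := by simp only [mul_assoc]
        _ = (e * v * e) * d * e := by rw [b1]
        _ = e * v * (e * d * e) := by simp only [mul_assoc]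
        _ = e * v * (d * e * d) := by rw [← b2]
        _ = e * (v * d) * e * d := by simp only [mul_assoc]
        _ = e * (d * v) * e * d := by rw [hdv.eq]
  have hCB : {v : G | ∃ g ∈ Cfsg.pCore 2 G, v = g * d * g⁻¹} ⊆
      {v : G | v ∈ D ∧ d⁻¹ * v ∈ Cfsg.pCore 2 G} := by
    rintro v ⟨g, hg, rfl⟩
    refine ⟨hc g d hd, ?_⟩
    have e : d⁻¹ * (g * d * g⁻¹) = (d⁻¹ * g * d⁻¹⁻¹) * g⁻¹ := by group
    rw [e]
    exact Subgroup.mul_mem _ (hQn.conj_mem g hg d⁻¹) (Subgroup.inv_mem _ hg)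
  have hBA : {v : G | v ∈ D ∧ d⁻¹ * v ∈ Cfsg.pCore 2 G} ⊆
      {v : G | v ∈ D ∧ ∀ e ∈ D, Commute v e ↔ Commute d e} := by
    rintro v ⟨hv, hq⟩
    refine ⟨hv, fun e he => ⟨fun h => ?_, fun h => ?_⟩⟩
    · have hq' : v⁻¹ * d ∈ Cfsg.pCore 2 G := by
        have e1 : v⁻¹ * d = (d⁻¹ * v)⁻¹ := by group
        rw [e1]
        exact Subgroup.inv_mem _ hq
      exact TT.commute_of_mem_pCore hS hv hd he hq' h
    · exact TT.commute_of_mem_pCore hS hd hv he hq h
  exact ⟨Set.Subset.antisymm (hAC.trans hCB) hBA, Set.Subset.antisymm hAC (hCB.trans hBA)⟩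

end Cfsg.Agent.S5349
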