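import Cfsg.Statements.S5352
import Cfsg.Agent.S0215
import Cfsg.Agent.Lib.Helper27.TTWidthOne
import Cfsg.Agent.Lib.Helper27.TTComponents

set_option autoImplicit false
open Cfsg

namespace Cfsg.Agent.S5352

open Cfsg.Agent.Lib.Helper27.TT Cfsg.Agent.Lib.Helper27.W1

/-- Let D be a conjugacy class of 3-transpositions generating the finite group G, with at least two members, and suppose the largest normal 2-subgroup and the largest normal 3-subgroup of G are both central. Then G has a quasisimple normal subgroup L such that the generalized Fitting subgroup of G is the product of L and the centre; and either L = G or the image of D in G/L has width 1, in the sense that two members of D whose commutator lies in L have the same image modulo L. -/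
theorem result {G : Type*} [Group G] [Finite G] {D : Set G} (hD : Cfsg.IsThreeTranspositionClass D) (hD2 : ∃ a ∈ D, ∃ b ∈ D, a ≠ b) (h2 : Cfsg.pCore 2 G ≤ Subgroup.center G) (h3 : Cfsg.pCore 3 G ≤ Subgroup.center G) : ∃ L : Subgroup G, L.Normal ∧ Cfsg.IsQuasisimple L ∧ Cfsg.generalizedFittingSubgroup G = L ⊔ Subgroup.center G ∧ (L = ⊤ ∨ ∀ a ∈ D, ∀ b ∈ D, a * b * a⁻¹ * b⁻¹ ∈ L → a⁻¹ * b ∈ L) := by
  by_cases hw : ∃ a ∈ D, ∃ b ∈ D, a ≠ b ∧ Commute a b
  · obtain ⟨L, hLn, hL, hF⟩ := exists_quasisimple hD h2 h3 hw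
    refine ⟨L, hLn, hL, hF, Or.inr ?_⟩
    have c : QCtx D L := ⟨hD, hD2, hLn, hL⟩
    intro a ha b hb hab
    by_cases hc : Commute a b
    · rw [inv_of_mem hD.1 ha]
      exact c.mul_mem_of_commute ha hb hc
    · have h3' := pow_three_of_not_commute hD.1 ha hb hc
      have e1 : a * b * a⁻¹ * b⁻¹ = (a * b) * (a * b) := by
        rw [inv_of_mem hD.1 ha, inv_of_mem hD.1 hb]
        simp only [mul_assoc]
      rw [e1] at hab
      have h4 : (a * b) * (a * b) * (a * b) = 1 := by
        rw [← h3', pow_three]; simp only [mul_assoc]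
      have e2 : a * b = ((a * b) * (a * b))⁻¹ := eq_inv_of_mul_eq_one_right h4
      rw [inv_of_mem hD.1 ha, e2]
      exact L.inv_mem hab
  · exfalso
    have hZ : ZStarHyp := fun _ _ _ P t ht htP hiso => Cfsg.Agent.S0215.result P t ht htP hiso
    push Not at hw
    have hw1 : ∀ a ∈ D, ∀ b ∈ D, Commute a b → a = b :=
      fun a ha b hb hc => by_contra fun hne => hw a ha b hb hne hc
    obtain ⟨a, ha, b, hb, hab⟩ := hD2
    have hc : ∀ g : G, ∀ d ∈ D, g * d * g⁻¹ ∈ D := fun g d hd => conj_mem_of_class hD g hd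
    have hmem := mul_mem_pCore_of_width_one hZ hD.1 hc hw1 ha hb
    have hcen := h3 hmem
    have h1 := Subgroup.mem_center_iff.mp hcen a
    have h5 : a * (a * b) = a * (b * a) := by rw [h1, mul_assoc]
    have h6 : Commute a b := mul_left_cancel h5
    exact hab (hw1 a ha b hb h6)

end Cfsg.Agent.S5352
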