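import Cfsg.Statements.S5354
import Cfsg.Agent.Lib.Helper27.TTMaximal
import Cfsg.Agent.Lib.Helper27.TTComponents
import Cfsg.Agent.Lib.Helper27.TTPrimitive

set_option autoImplicit false
open Cfsg

namespace Cfsg.Agent.S5354

open Cfsg.Agent.Lib.Helper27.TT

/-- Let D be a conjugation-invariant generating set of 3-transpositions of the finite group G on which G acts primitively by conjugation, and suppose two different members of D commute (width at least 2). Then G has a quasisimple normal subgroup L of index at most 2 with the generalized Fitting subgroup of G equal to L times the centre, the commuting graph of D is connected, and for d in D the subgroup generated by the members of D commuting with d is a maximal D-subgroup: it is proper, and every subgroup generated by members of D that contains it is either it or G. -/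
theorem result {G : Type*} [Group G] [Finite G] {D : Set G} (hD : Cfsg.IsThreeTranspositionGroup D) (hprim : Cfsg.IsPrimitiveUnderConj D) (hw : ∃ a ∈ D, ∃ b ∈ D, a ≠ b ∧ Commute a b) : (∃ L : Subgroup G, L.Normal ∧ Cfsg.IsQuasisimple L ∧ L.index ≤ 2 ∧ Cfsg.generalizedFittingSubgroup G = L ⊔ Subgroup.center G) ∧ (Cfsg.commutingGraph D).Connected ∧ ∀ d ∈ D, Subgroup.closure {y : G | y ∈ D ∧ Commute d y} ≠ ⊤ ∧ ∀ H : Subgroup G, Cfsg.IsDSubgroup D H → Subgroup.closure {y : G | y ∈ D ∧ Commute d y} ≤ H → H = Subgroup.closure {y : G | y ∈ D ∧ Commute d y} ∨ H = ⊤ := by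
  have hD2 : ∃ a ∈ D, ∃ b ∈ D, a ≠ b := by
    obtain ⟨a, ha, b, hb, hab, _⟩ := hw
    exact ⟨a, ha, b, hb, hab⟩
  have hDc : Cfsg.IsThreeTranspositionClass D := by
    apply class_of_group_of_trans hD hprim.1
    obtain ⟨a, ha, _⟩ := hw
    exact ⟨a, ha⟩
  have h2 := pCore_le_center_of_primitive hDc hprim hw (p := 2) (Or.inl rfl)
  have h3 := pCore_le_center_of_primitive hDc hprim hw (p := 3) (Or.inr rfl)
  have hconn := connected_of_primitive hDc hprim hw
  obtain ⟨L, hLn, hL, hF⟩ := exists_quasisimple hDc h2 h3 hw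
  have c : Ctx D L := ⟨hDc, hD2, h2, h3, hLn, hL, hF⟩
  refine ⟨⟨L, hLn, hL, c.index_le_two_of_connected hconn, hF⟩, hconn, ?_⟩
  intro d hd
  refine ⟨?_, fun H hH hM => dsubgroup_maximal hDc hprim hw hd H hH hM⟩
  intro htop
  obtain ⟨e, he, hde⟩ := exists_not_commute hDc hD2 hd
  have hle : Subgroup.closure {y : G | y ∈ D ∧ Commute d y} ≤
      Subgroup.centralizer ({d} : Set G) := by
    rw [Subgroup.closure_le]
    intro y hy
    rw [SetLike.mem_coe, Subgroup.mem_centralizer_iff]
    intro h hh
    rw [Set.mem_singleton_iff] at hh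
    rw [hh]
    exact hy.2.eq
  rw [htop] at hle
  have h1 := hle (Subgroup.mem_top e)
  rw [Subgroup.mem_centralizer_iff] at h1
  exact hde (h1 d rfl)

end Cfsg.Agent.S5354
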