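import Mathlib
import Cfsg.Prelude.Def_Solvable
import Cfsg.Statements.S4088

set_option autoImplicit false
open Cfsg

namespace Cfsg.Agent.S4088

open Classical

variable {G : Type*} [Group G] [Finite G]

noncomputable local instance instFintypeSubgroupAux : Fintype (Subgroup G) := Fintype.ofFinite _
noncomputable local instance instFintypeGroupAux : Fintype G := Fintype.ofFinite _

theorem card_lt_of_lt {A B : Subgroup G} (h : A < B) : Nat.card A < Nat.card B := by
  by_contra hcon
  exact h.ne (Subgroup.eq_of_le_of_card_ge h.le (not_lt.mp hcon))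

/-- the `g`-invariant `p`-subgroups of `M` -/
noncomputable def Zset (p : ℕ) (M : Subgroup G) (g : G) : Finset (Subgroup G) :=
  Finset.univ.filter (fun D => IsPGroup p D ∧ D ≤ M ∧ g ∈ Subgroup.normalizer (D : Set G))

theorem mem_Zset {p : ℕ} {M : Subgroup G} {g : G} {D : Subgroup G} :
    D ∈ Zset p M g ↔ IsPGroup p D ∧ D ≤ M ∧ g ∈ Subgroup.normalizer (D : Set G) := by
  simp [Zset]

/-- the Möbius weights of the poset of `g`-invariant `p`-subgroups of `M` -/
noncomputable def w (p : ℕ) (M : Subgroup G) (g : G) (z : Subgroup G) : ℤ :=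
  1 - ∑ D : {D : Subgroup G // D ∈ Zset p M g ∧ z < D}, w p M g D.1
termination_by Nat.card G - Nat.card z
decreasing_by
  have h1 := card_lt_of_lt D.2.2
  have h2 := Subgroup.card_le_card_group D.1
  omega

theorem w_eq (p : ℕ) (M : Subgroup G) (g : G) (z : Subgroup G) :
    w p M g z = 1 - ∑ D ∈ (Zset p M g).filter (fun D => z < D), w p M g D := by
  rw [w]
  congr 1
  symm
  apply Finset.sum_subtype
  intro x
  simp [Finset.mem_filter]

theorem filter_le_eq_insert {p : ℕ} {M : Subgroup G} {g : G} {z : Subgroup G}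
    (hz : z ∈ Zset p M g) :
    (Zset p M g).filter (fun D => z ≤ D) = insert z ((Zset p M g).filter (fun D => z < D)) := by
  ext D
  simp only [Finset.mem_filter, Finset.mem_insert]
  constructor
  · rintro ⟨hD, hle⟩
    rcases eq_or_lt_of_le hle with h | h
    · left; exact h.symm
    · right; exact ⟨hD, h⟩
  · rintro (rfl | ⟨hD, h⟩)
    · exact ⟨hz, le_refl _⟩
    · exact ⟨hD, h.le⟩

theorem sum_w_ge {p : ℕ} {M : Subgroup G} {g : G} {z : Subgroup G} (hz : z ∈ Zset p M g) :
    ∑ D ∈ (Zset p M g).filter (fun D => z ≤ D), w p M g D = 1 := by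
  rw [filter_le_eq_insert hz, Finset.sum_insert (by simp), w_eq p M g z]
  ring

theorem w_unique {p : ℕ} {M : Subgroup G} {g : G} (z0 : Subgroup G) (v : Subgroup G → ℤ)
    (hv : ∀ z ∈ Zset p M g, z0 ≤ z → ∑ D ∈ (Zset p M g).filter (fun D => z ≤ D), v D = 1) :
    ∀ z ∈ Zset p M g, z0 ≤ z → v z = w p M g z := by
  intro z
  refine WellFoundedGT.induction
    (motive := fun z => z ∈ Zset p M g → z0 ≤ z → v z = w p M g z) z ?_
  intro z ih hz hz0
  have h2 := hv z hz hz0
  rw [filter_le_eq_insert hz, Finset.sum_insert (by simp)] at h2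
  rw [w_eq p M g z]
  have h3 : ∑ D ∈ (Zset p M g).filter (fun D => z < D), v D =
      ∑ D ∈ (Zset p M g).filter (fun D => z < D), w p M g D := by
    apply Finset.sum_congr rfl
    intro D hD
    rw [Finset.mem_filter] at hD
    exact ih D hD.2 hD.1 (hz0.trans hD.2.le)
  linarith

theorem normalizer_grow {p : ℕ} [Fact p.Prime] {z a : Subgroup G} (ha : IsPGroup p a)
    (hza : z < a) : z < a ⊓ Subgroup.normalizer (z : Set G) := by
  haveI : Group.IsNilpotent ↥a := ha.isNilpotent
  have hnc : NormalizerCondition ↥a := Group.normalizerCondition_of_isNilpotent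
  have hL : z.subgroupOf a < ⊤ := by
    rw [lt_top_iff_ne_top]
    intro h
    rw [Subgroup.subgroupOf_eq_top] at h
    exact (not_le_of_gt hza) h
  have h1 := hnc _ hL
  rw [← Subgroup.subgroupOf_normalizer_eq hza.le] at h1
  obtain ⟨x, hx1, hx2⟩ := SetLike.exists_of_lt h1
  rw [Subgroup.mem_subgroupOf] at hx1 hx2
  rw [SetLike.lt_iff_le_and_exists]
  exact ⟨le_inf hza.le Subgroup.le_normalizer, x.1, ⟨x.2, hx1⟩, hx2⟩

theorem mem_normalizer_inf {A B : Subgroup G} {g : G}
    (hA : g ∈ Subgroup.normalizer (A : Set G)) (hB : g ∈ Subgroup.normalizer (B : Set G)) :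
    g ∈ Subgroup.normalizer ((A ⊓ B : Subgroup G) : Set G) := by
  rw [Subgroup.mem_normalizer_iff] at hA hB ⊢
  intro h
  rw [Subgroup.mem_inf, Subgroup.mem_inf, ← hA h, ← hB h]

/-- Quillen's retraction `a ↦ N_a(z)` in Möbius form -/
theorem quillen {p : ℕ} [Fact p.Prime] {M : Subgroup G} {g : G} {z : Subgroup G}
    (hz : z ∈ Zset p M g) :
    w p M g z = w p (M ⊓ Subgroup.normalizer (z : Set G)) g z := by
  obtain ⟨hzp, hzM, hzg⟩ := mem_Zset.1 hz
  set N := Subgroup.normalizer (z : Set G) with hN
  have hz' : z ∈ Zset p (M ⊓ N) g := mem_Zset.2 ⟨hzp, le_inf hzM Subgroup.le_normalizer, hzg⟩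
  let v : Subgroup G → ℤ := fun b =>
    ∑ a ∈ ((Zset p M g).filter (fun a => z ≤ a)).filter (fun a => a ⊓ N = b), w p M g a
  have hv : ∀ b ∈ Zset p (M ⊓ N) g, z ≤ b →
      ∑ b' ∈ (Zset p (M ⊓ N) g).filter (fun D => b ≤ D), v b' = 1 := by
    intro b hb hzb
    obtain ⟨hbp, hbM, hbg⟩ := mem_Zset.1 hb
    have hbZ : b ∈ Zset p M g := mem_Zset.2 ⟨hbp, hbM.trans inf_le_left, hbg⟩
    have step1 : ∀ b' ∈ (Zset p (M ⊓ N) g).filter (fun D => b ≤ D),
        v b' = ∑ a ∈ ((Zset p M g).filter (fun a => b ≤ a)).filter (fun a => a ⊓ N = b'),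
          w p M g a := by
      intro b' hb'
      rw [Finset.mem_filter] at hb'
      apply Finset.sum_congr _ (fun _ _ => rfl)
      ext a
      simp only [Finset.mem_filter]
      constructor
      · rintro ⟨⟨ha, _⟩, hr⟩
        refine ⟨⟨ha, ?_⟩, hr⟩
        calc b ≤ b' := hb'.2
          _ = a ⊓ N := hr.symm
          _ ≤ a := inf_le_left
      · rintro ⟨⟨ha, hba⟩, hr⟩
        exact ⟨⟨ha, hzb.trans hba⟩, hr⟩
    rw [Finset.sum_congr rfl step1]
    rw [Finset.sum_fiberwise_of_maps_to (g := fun a => a ⊓ N)]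
    · exact sum_w_ge hbZ
    · intro a ha
      rw [Finset.mem_filter] at ha ⊢
      obtain ⟨hap, haM, hag⟩ := mem_Zset.1 ha.1
      refine ⟨mem_Zset.2 ⟨hap.to_le inf_le_left, inf_le_inf_right _ haM, ?_⟩, ?_⟩
      · exact mem_normalizer_inf hag (Subgroup.le_normalizer hzg)
      · exact le_inf ha.2 (hbM.trans inf_le_right)
  have h1 := w_unique z v hv z hz' le_rfl
  rw [← h1]
  show w p M g z = ∑ a ∈ ((Zset p M g).filter (fun a => z ≤ a)).filter (fun a => a ⊓ N = z),
    w p M g a
  have h2 : ((Zset p M g).filter (fun a => z ≤ a)).filter (fun a => a ⊓ N = z) = {z} := by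
    ext a
    simp only [Finset.mem_filter, Finset.mem_singleton]
    constructor
    · rintro ⟨⟨ha, hza⟩, hr⟩
      by_contra hne
      have hlt : z < a := lt_of_le_of_ne hza (fun h => hne h.symm)
      have := normalizer_grow (mem_Zset.1 ha).1 hlt
      rw [← hN, hr] at this
      exact lt_irrefl _ this
    · rintro rfl
      exact ⟨⟨hz, le_rfl⟩, inf_eq_left.2 Subgroup.le_normalizer⟩
  rw [h2, Finset.sum_singleton]

/-- `z` is a maximal `p`-subgroup of `M` -/
def IsMaxP (p : ℕ) (M z : Subgroup G) : Prop :=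
  ∀ E : Subgroup G, IsPGroup p E → E ≤ M → z ≤ E → E = z

theorem isMaxP_inf_normalizer_iff {p : ℕ} [Fact p.Prime] {M z : Subgroup G} :
    IsMaxP p (M ⊓ Subgroup.normalizer (z : Set G)) z ↔ IsMaxP p M z := by
  constructor
  · intro h E hE hEM hzE
    by_contra hne
    have hlt : z < E := lt_of_le_of_ne hzE (fun h' => hne h'.symm)
    have h1 := normalizer_grow hE hlt
    have h2 := h (E ⊓ Subgroup.normalizer (z : Set G)) (hE.to_le inf_le_left)
      (inf_le_inf_right _ hEM) h1.le
    rw [h2] at h1
    exact lt_irrefl _ h1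
  · intro h E hE hEM hzE
    exact h E hE (hEM.trans inf_le_left) hzE

theorem card_filter_mem (K : Subgroup G) :
    (Finset.univ.filter (fun g : G => g ∈ K)).card = Nat.card K := by
  rw [Nat.card_eq_fintype_card, Fintype.card_subtype]

theorem card_subgroupOf_eq (A M : Subgroup G) :
    Nat.card (A.subgroupOf M) = Nat.card ↥(M ⊓ A) := by
  rw [← Subgroup.inf_subgroupOf_right A M, inf_comm]
  exact Nat.card_congr (Subgroup.subgroupOfEquivOfLe (inf_le_left : M ⊓ A ≤ M)).toEquiv

/-- the normalizers in `M` of the maximal `p`-subgroups of `M` have total order `|M|` -/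
theorem sum_card_normalizer_maxP (p : ℕ) [Fact p.Prime] (M : Subgroup G) :
    ∑ D ∈ Finset.univ.filter (fun D : Subgroup G => IsPGroup p D ∧ D ≤ M ∧ IsMaxP p M D),
      Nat.card ↥(M ⊓ Subgroup.normalizer (D : Set G)) = Nat.card M := by
  haveI : Fintype (Sylow p ↥M) := Fintype.ofFinite _
  let f : Sylow p ↥M → Subgroup G := fun Q => (Q : Subgroup ↥M).map M.subtype
  have hfinj : Function.Injective f := by
    intro Q1 Q2 h
    exact Sylow.ext (Subgroup.map_injective M.subtype_injective h)
  have hA : Finset.univ.filter (fun D : Subgroup G => IsPGroup p D ∧ D ≤ M ∧ IsMaxP p M D) =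
      Finset.univ.image f := by
    ext D
    simp only [Finset.mem_filter, Finset.mem_univ, true_and, Finset.mem_image]
    constructor
    · rintro ⟨hDp, hDM, hmax⟩
      refine ⟨{ toSubgroup := D.subgroupOf M, isPGroup' := hDp.comap_subtype,
                is_maximal' := ?_ }, ?_⟩
      · intro Q' hQ' hle
        have hE := hmax (Q'.map M.subtype) (hQ'.map _) (Subgroup.map_subtype_le _) (by
          intro x hx
          exact Subgroup.mem_map.2 ⟨⟨x, hDM hx⟩, hle (Subgroup.mem_subgroupOf.2 hx), rfl⟩)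
        rw [← hE]
        exact (Subgroup.comap_map_eq_self_of_injective M.subtype_injective Q').symm
      · exact Subgroup.map_subgroupOf_eq_of_le hDM
    · rintro ⟨Q, rfl⟩
      refine ⟨Q.isPGroup'.map _, Subgroup.map_subtype_le _, ?_⟩
      intro E hE hEM hle
      have h1 : (Q : Subgroup ↥M) ≤ E.subgroupOf M := by
        intro x hx
        exact Subgroup.mem_subgroupOf.2 (hle (Subgroup.mem_map_of_mem _ hx))
      have h2 : E.subgroupOf M = Q := Q.is_maximal' hE.comap_subtype h1
      show E = (Q : Subgroup ↥M).map M.subtype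
      rw [← h2]
      exact (Subgroup.map_subgroupOf_eq_of_le hEM).symm
  rw [hA, Finset.sum_image (fun _ _ _ _ h => hfinj h)]
  have hcard : ∀ Q : Sylow p ↥M,
      Nat.card ↥(M ⊓ Subgroup.normalizer ((f Q : Subgroup G) : Set G)) =
        Nat.card ↥(Subgroup.normalizer ((Q : Subgroup ↥M) : Set ↥M)) := by
    intro Q
    have h1 : (f Q).subgroupOf M = Q :=
      Subgroup.comap_map_eq_self_of_injective M.subtype_injective _
    have h2 := Subgroup.subgroupOf_normalizer_eq (Subgroup.map_subtype_le (Q : Subgroup ↥M))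
    rw [← card_subgroupOf_eq, h2]
    show Nat.card ↥(Subgroup.normalizer (((f Q).subgroupOf M : Subgroup ↥M) : Set ↥M)) = _
    rw [h1]
  rw [Finset.sum_congr rfl (fun Q _ => hcard Q)]
  have hc : ∀ Q : Sylow p ↥M,
      Nat.card ↥(Subgroup.normalizer ((Q : Subgroup ↥M) : Set ↥M)) * Nat.card (Sylow p ↥M) =
        Nat.card M := by
    intro Q
    rw [Sylow.card_eq_index_normalizer Q]
    exact Subgroup.card_mul_index _
  have hpos : 0 < Nat.card (Sylow p ↥M) := Nat.card_pos
  apply Nat.eq_of_mul_eq_mul_right hpos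
  rw [Finset.sum_mul, Finset.sum_congr rfl (fun Q _ => hc Q), Finset.sum_const, Finset.card_univ,
    smul_eq_mul, Nat.card_eq_fintype_card (α := Sylow p ↥M), mul_comm]

theorem key_aux (p : ℕ) [Fact p.Prime] (n : ℕ) :
    ∀ M : Subgroup G, Nat.card M = n → ∀ (k : ℕ) (z : Subgroup G),
      Nat.card G - Nat.card z = k → IsPGroup p z → z ≤ M →
      ∑ g ∈ Finset.univ.filter (fun g : G => g ∈ M ⊓ Subgroup.normalizer (z : Set G)),
        w p M g z =
        if IsMaxP p M z then (Nat.card ↥(M ⊓ Subgroup.normalizer (z : Set G)) : ℤ) else 0 := by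
  induction n using Nat.strong_induction_on with
  | _ n ihn =>
    intro M hM k
    induction k using Nat.strong_induction_on with
    | _ k ihk =>
      intro z hk hzp hzM
      by_cases hcase : M ≤ Subgroup.normalizer (z : Set G)
      · -- `z` is normal in `M`
        have hMN : M ⊓ Subgroup.normalizer (z : Set G) = M := inf_eq_left.2 hcase
        rw [hMN]
        have e1 : ∑ g ∈ Finset.univ.filter (fun g : G => g ∈ M), w p M g z =
            (Nat.card M : ℤ) - ∑ g ∈ Finset.univ.filter (fun g : G => g ∈ M),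
              ∑ D ∈ (Zset p M g).filter (fun D => z < D), w p M g D := by
          rw [Finset.sum_congr rfl (fun g _ => w_eq p M g z), Finset.sum_sub_distrib]
          simp [card_filter_mem]
        have e2 : ∑ g ∈ Finset.univ.filter (fun g : G => g ∈ M),
              ∑ D ∈ (Zset p M g).filter (fun D => z < D), w p M g D =
            ∑ D ∈ Finset.univ.filter (fun D : Subgroup G => IsPGroup p D ∧ D ≤ M ∧ z < D),
              ∑ g ∈ Finset.univ.filter
                (fun g : G => g ∈ M ⊓ Subgroup.normalizer (D : Set G)), w p M g D := by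
          apply Finset.sum_comm'
          intro g D
          simp only [Finset.mem_filter, Finset.mem_univ, true_and, mem_Zset, Subgroup.mem_inf]
          tauto
        have e3 : ∀ D ∈ Finset.univ.filter
              (fun D : Subgroup G => IsPGroup p D ∧ D ≤ M ∧ z < D),
            ∑ g ∈ Finset.univ.filter
                (fun g : G => g ∈ M ⊓ Subgroup.normalizer (D : Set G)), w p M g D =
              if IsMaxP p M D then (Nat.card ↥(M ⊓ Subgroup.normalizer (D : Set G)) : ℤ)
              else 0 := by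
          intro D hD
          simp only [Finset.mem_filter, Finset.mem_univ, true_and] at hD
          have hlt : Nat.card G - Nat.card D < k := by
            have h1 := card_lt_of_lt hD.2.2
            have h2 := Subgroup.card_le_card_group D
            omega
          exact ihk _ hlt D rfl hD.1 hD.2.1
        rw [e1, e2, Finset.sum_congr rfl e3, ← Finset.sum_filter]
        by_cases hmax : IsMaxP p M z
        · rw [if_pos hmax]
          have hempty : (Finset.univ.filter
              (fun D : Subgroup G => IsPGroup p D ∧ D ≤ M ∧ z < D)).filter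
              (fun D => IsMaxP p M D) = ∅ := by
            ext D
            simp only [Finset.mem_filter, Finset.mem_univ, true_and, Finset.notMem_empty,
              iff_false]
            rintro ⟨⟨hDp, hDM, hlt⟩, _⟩
            have := hmax D hDp hDM hlt.le
            rw [this] at hlt
            exact lt_irrefl _ hlt
          rw [hempty, Finset.sum_empty, sub_zero]
        · rw [if_neg hmax]
          have hset : (Finset.univ.filter
              (fun D : Subgroup G => IsPGroup p D ∧ D ≤ M ∧ z < D)).filter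
              (fun D => IsMaxP p M D) =
              Finset.univ.filter
                (fun D : Subgroup G => IsPGroup p D ∧ D ≤ M ∧ IsMaxP p M D) := by
            ext D
            simp only [Finset.mem_filter, Finset.mem_univ, true_and]
            constructor
            · rintro ⟨⟨hDp, hDM, _⟩, hDmax⟩
              exact ⟨hDp, hDM, hDmax⟩
            · rintro ⟨hDp, hDM, hDmax⟩
              refine ⟨⟨hDp, hDM, ?_⟩, hDmax⟩
              have h1 : IsPGroup p ↥(z ⊔ D) :=
                IsPGroup.to_sup_of_normal_left' hzp hDp (hDM.trans hcase)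
              have h2 := hDmax (z ⊔ D) h1 (sup_le hzM hDM) le_sup_right
              have hzD : z ≤ D := by rw [← h2]; exact le_sup_left
              refine lt_of_le_of_ne hzD ?_
              rintro rfl
              exact hmax hDmax
          rw [hset]
          have := sum_card_normalizer_maxP p M
          have h3 : ∑ D ∈ Finset.univ.filter
                (fun D : Subgroup G => IsPGroup p D ∧ D ≤ M ∧ IsMaxP p M D),
              (Nat.card ↥(M ⊓ Subgroup.normalizer (D : Set G)) : ℤ) = (Nat.card M : ℤ) := by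
            rw [← this]; push_cast; rfl
          rw [h3, sub_self]
      · -- pass to `N_M(z)`
        set M' := M ⊓ Subgroup.normalizer (z : Set G) with hM'
        have hlt : M' < M := by
          refine lt_of_le_of_ne inf_le_left ?_
          intro h
          apply hcase
          rw [← h]
          exact inf_le_right
        have hcard : Nat.card M' < n := hM ▸ card_lt_of_lt hlt
        have hzM' : z ≤ M' := le_inf hzM Subgroup.le_normalizer
        have e1 : ∑ g ∈ Finset.univ.filter (fun g : G => g ∈ M'), w p M g z =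
            ∑ g ∈ Finset.univ.filter (fun g : G => g ∈ M'), w p M' g z := by
          apply Finset.sum_congr rfl
          intro g hg
          simp only [Finset.mem_filter, Finset.mem_univ, true_and] at hg
          exact quillen (mem_Zset.2 ⟨hzp, hzM, hg.2⟩)
        have e2 := ihn _ hcard M' rfl _ z rfl hzp hzM'
        have e3 : M' ⊓ Subgroup.normalizer (z : Set G) = M' := by
          rw [hM', inf_assoc, inf_idem]
        rw [e3] at e2
        rw [e1, e2]
        have e4 : IsMaxP p M' z ↔ IsMaxP p M z := isMaxP_inf_normalizer_iff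
        by_cases hmax : IsMaxP p M z
        · rw [if_pos hmax, if_pos (e4.2 hmax)]
        · rw [if_neg hmax, if_neg (fun h => hmax (e4.1 h))]

theorem key (p : ℕ) [Fact p.Prime] (M z : Subgroup G) (hzp : IsPGroup p z) (hzM : z ≤ M) :
    ∑ g ∈ Finset.univ.filter (fun g : G => g ∈ M ⊓ Subgroup.normalizer (z : Set G)),
      w p M g z =
      if IsMaxP p M z then (Nat.card ↥(M ⊓ Subgroup.normalizer (z : Set G)) : ℤ) else 0 :=
  key_aux p _ M rfl _ z rfl hzp hzM

/-! ### Subnormality of `p`-subgroups -/

theorem isSubnormal_of_normalizerCondition {K : Type*} [Group K] [Finite K]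
    (hnc : NormalizerCondition K) (L : Subgroup K) : L.IsSubnormal := by
  refine WellFoundedGT.induction (motive := fun L : Subgroup K => L.IsSubnormal) L ?_
  intro L ih
  by_cases hL : L = ⊤
  · rw [hL]; exact Subgroup.IsSubnormal.top
  · have hlt : L < Subgroup.normalizer (L : Set K) := hnc L (lt_top_iff_ne_top.2 hL)
    exact Subgroup.IsSubnormal.step L _ hlt.le (ih _ hlt) Subgroup.normal_in_normalizer

theorem pCore_isPGroup' (p : ℕ) (K : Type*) [Group K] : IsPGroup p (Cfsg.pCore p K) :=
  Sylow.sSup_of_normal _ (fun _ h => h.2) (fun _ h => h.1)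

theorem pCore_characteristic' (p : ℕ) (K : Type*) [Group K] :
    (Cfsg.pCore p K).Characteristic := by
  rw [Subgroup.characteristic_iff_map_le]
  intro φ
  unfold Cfsg.pCore
  rw [Subgroup.map_le_iff_le_comap]
  apply sSup_le
  rintro N ⟨hn, hp⟩
  rw [← Subgroup.map_le_iff_le_comap]
  apply le_sSup
  refine ⟨?_, hp.map _⟩
  exact Subgroup.Normal.map hn _ φ.surjective

universe u

theorem pgroup_subnormal_le_pCore (p : ℕ) (n : ℕ) :
    ∀ (K : Type u) [Group K] [Finite K], Nat.card K = n →
      ∀ L : Subgroup K, L.IsSubnormal → IsPGroup p L → L ≤ Cfsg.pCore p K := by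
  induction n using Nat.strong_induction_on with
  | _ n ih =>
    intro K _ _ hK L hsn hp
    by_cases hL : L = ⊤
    · subst hL
      exact le_sSup ⟨inferInstance, hp⟩
    · obtain ⟨N, hNn, hLN, hNlt⟩ := hsn.exists_normal_and_le_and_lt_top_of_ne hL
      have hcard : Nat.card N < n := by
        have := card_lt_of_lt hNlt
        rwa [Subgroup.card_top, hK] at this
      have ih' := ih _ hcard ↥N rfl (L.subgroupOf N) hsn.subgroupOf hp.comap_subtype
      haveI := hNn
      haveI : (Cfsg.pCore p ↥N).Characteristic := pCore_characteristic' p ↥N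
      have hnorm : ((Cfsg.pCore p ↥N).map N.subtype).Normal :=
        ConjAct.normal_of_characteristic_of_normal
      have hpg : IsPGroup p ((Cfsg.pCore p ↥N).map N.subtype) := (pCore_isPGroup' p ↥N).map _
      have h1 : L ≤ (Cfsg.pCore p ↥N).map N.subtype := by
        rw [← Subgroup.map_subgroupOf_eq_of_le hLN]
        exact Subgroup.map_mono ih'
      exact h1.trans (le_sSup ⟨hnorm, hpg⟩)

omit [Finite G] in
theorem isSubnormal_trans_subgroupOf {A B C : Subgroup G} (hAB : A ≤ B) (hBC : B ≤ C)
    (h1 : (A.subgroupOf B).IsSubnormal) (h2 : (B.subgroupOf C).IsSubnormal) :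
    (A.subgroupOf C).IsSubnormal := by
  have hle : A.subgroupOf C ≤ B.subgroupOf C := by
    intro x hx
    exact Subgroup.mem_subgroupOf.2 (hAB (Subgroup.mem_subgroupOf.1 hx))
  refine Subgroup.IsSubnormal.trans hle ?_ h2
  have h3 := h1.comap (Subgroup.subgroupOfEquivOfLe hBC).toMonoidHom
  have h4 : (A.subgroupOf B).comap (Subgroup.subgroupOfEquivOfLe hBC).toMonoidHom =
      (A.subgroupOf C).subgroupOf (B.subgroupOf C) := by
    ext x
    rw [Subgroup.mem_comap, Subgroup.mem_subgroupOf, Subgroup.mem_subgroupOf,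
      Subgroup.mem_subgroupOf]
    rfl
  rwa [h4] at h3

omit [Finite G] in
theorem isSubnormal_restrict {A B C : Subgroup G} (hBC : B ≤ C)
    (h : (A.subgroupOf C).IsSubnormal) : (A.subgroupOf B).IsSubnormal := by
  have h3 := h.comap (Subgroup.inclusion hBC)
  have h4 : (A.subgroupOf C).comap (Subgroup.inclusion hBC) = A.subgroupOf B := by
    ext x
    rw [Subgroup.mem_comap, Subgroup.mem_subgroupOf, Subgroup.mem_subgroupOf]
    rfl
  rwa [h4] at h3

theorem mem_subnormalizer_iff {p : ℕ} [Fact p.Prime] {H : Subgroup G} (hH : IsPGroup p H)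
    (g : G) :
    (H.subgroupOf (H ⊔ Subgroup.zpowers g)).IsSubnormal ↔
      ∃ D : Subgroup G, IsPGroup p D ∧ H ≤ D ∧ g ∈ Subgroup.normalizer (D : Set G) := by
  constructor
  · intro hsn
    set X := H ⊔ Subgroup.zpowers g with hX
    have hL : H.subgroupOf X ≤ Cfsg.pCore p ↥X :=
      pgroup_subnormal_le_pCore p _ ↥X rfl _ hsn hH.comap_subtype
    have hgX : g ∈ X := (le_sup_right : Subgroup.zpowers g ≤ X) (Subgroup.mem_zpowers g)
    refine ⟨(Cfsg.pCore p ↥X).map X.subtype, (pCore_isPGroup' p ↥X).map _, ?_, ?_⟩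
    · intro x hx
      have hxX : x ∈ X := (le_sup_left : H ≤ X) hx
      exact Subgroup.mem_map.2 ⟨⟨x, hxX⟩, hL (Subgroup.mem_subgroupOf.2 hx), rfl⟩
    · have hchar : (Cfsg.pCore p ↥X).Characteristic := pCore_characteristic' p ↥X
      have hnorm : (Cfsg.pCore p ↥X).Normal := inferInstance
      have h1 : (⟨g, hgX⟩ : ↥X) ∈ Subgroup.normalizer ((Cfsg.pCore p ↥X : Subgroup ↥X) : Set ↥X) := by
        rw [Subgroup.normalizer_eq_top_iff.2 hnorm]
        trivial
      exact Subgroup.le_normalizer_map X.subtype (Subgroup.mem_map_of_mem _ h1)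
  · rintro ⟨D, hDp, hHD, hgD⟩
    set Y := D ⊔ Subgroup.zpowers g with hY
    have hDY : D ≤ Y := le_sup_left
    have hYN : Y ≤ Subgroup.normalizer (D : Set G) :=
      sup_le Subgroup.le_normalizer ((Subgroup.zpowers_le).2 hgD)
    haveI : Group.IsNilpotent ↥D := hDp.isNilpotent
    have hnc : NormalizerCondition ↥D := Group.normalizerCondition_of_isNilpotent
    have h1 : (H.subgroupOf D).IsSubnormal := isSubnormal_of_normalizerCondition hnc _
    have h2 : (D.subgroupOf Y).IsSubnormal :=
      ((Subgroup.normal_subgroupOf_iff_le_normalizer hDY).2 hYN).isSubnormal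
    have h3 : (H.subgroupOf Y).IsSubnormal := isSubnormal_trans_subgroupOf hHD hDY h1 h2
    have hXY : H ⊔ Subgroup.zpowers g ≤ Y := sup_le (hHD.trans hDY) le_sup_right
    exact isSubnormal_restrict hXY h3

/-! ### The count -/

theorem sum_w_subnormalizer {p : ℕ} [Fact p.Prime] (H : Subgroup G) (g : G) :
    ∑ D ∈ (Zset p ⊤ g).filter (fun D => H ≤ D), w p ⊤ g D =
      if ∃ D : Subgroup G, IsPGroup p D ∧ H ≤ D ∧ g ∈ Subgroup.normalizer (D : Set G)
      then 1 else 0 := by
  split_ifs with hex
  · obtain ⟨D0, hD0p, hHD0, hgD0⟩ := hex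
    set S := (Zset p ⊤ g).filter (fun D => H ≤ D) with hS
    have hD0S : D0 ∈ S := Finset.mem_filter.2 ⟨mem_Zset.2 ⟨hD0p, le_top, hgD0⟩, hHD0⟩
    set R : Subgroup G := ⨅ D ∈ S, D with hR
    have hRle : ∀ D ∈ S, R ≤ D := fun D hD => iInf₂_le D hD
    have hHR : H ≤ R := le_iInf₂ (fun D hD => (Finset.mem_filter.1 hD).2)
    have hRp : IsPGroup p R := hD0p.to_le (hRle D0 hD0S)
    have hRg : g ∈ Subgroup.normalizer (R : Set G) := by
      rw [Subgroup.mem_normalizer_iff]
      intro h
      simp only [hR, Subgroup.mem_iInf]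
      constructor
      · intro hh D hD
        have hgD := (mem_Zset.1 (Finset.mem_filter.1 hD).1).2.2
        exact ((Subgroup.mem_normalizer_iff.1 hgD) h).1 (hh D hD)
      · intro hh D hD
        have hgD := (mem_Zset.1 (Finset.mem_filter.1 hD).1).2.2
        exact ((Subgroup.mem_normalizer_iff.1 hgD) h).2 (hh D hD)
    have hRZ : R ∈ Zset p ⊤ g := mem_Zset.2 ⟨hRp, le_top, hRg⟩
    have hSeq : S = (Zset p ⊤ g).filter (fun D => R ≤ D) := by
      ext D
      simp only [hS, Finset.mem_filter]
      constructor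
      · rintro ⟨hD, hHD⟩
        exact ⟨hD, hRle D (Finset.mem_filter.2 ⟨hD, hHD⟩)⟩
      · rintro ⟨hD, hRD⟩
        exact ⟨hD, hHR.trans hRD⟩
    rw [hSeq]
    exact sum_w_ge hRZ
  · have hempty : (Zset p ⊤ g).filter (fun D => H ≤ D) = ∅ := by
      ext D
      simp only [Finset.mem_filter, Finset.notMem_empty, iff_false]
      rintro ⟨hD, hHD⟩
      obtain ⟨hDp, _, hgD⟩ := mem_Zset.1 hD
      exact hex ⟨D, hDp, hHD, hgD⟩
    rw [hempty, Finset.sum_empty]

theorem card_subnormalizer_eq_sum {p : ℕ} [Fact p.Prime] (H : Subgroup G) (hH : IsPGroup p H) :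
    (Nat.card {g : G // (H.subgroupOf (H ⊔ Subgroup.zpowers g)).IsSubnormal} : ℤ) =
      ∑ D ∈ Finset.univ.filter
          (fun D : Subgroup G => (IsPGroup p D ∧ H ≤ D) ∧ IsMaxP p ⊤ D),
        (Nat.card ↥(Subgroup.normalizer (D : Set G)) : ℤ) := by
  rw [Nat.card_eq_fintype_card, Fintype.card_subtype]
  rw [← Finset.sum_boole]
  have e1 : ∀ g ∈ (Finset.univ : Finset G),
      (if (H.subgroupOf (H ⊔ Subgroup.zpowers g)).IsSubnormal then (1 : ℤ) else 0) =
        ∑ D ∈ (Zset p ⊤ g).filter (fun D => H ≤ D), w p ⊤ g D := by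
    intro g _
    rw [sum_w_subnormalizer H g]
    by_cases h : (H.subgroupOf (H ⊔ Subgroup.zpowers g)).IsSubnormal
    · rw [if_pos h, if_pos ((mem_subnormalizer_iff hH g).1 h)]
    · rw [if_neg h, if_neg (fun h' => h ((mem_subnormalizer_iff hH g).2 h'))]
  rw [Finset.sum_congr rfl e1]
  have e2 : ∑ g ∈ (Finset.univ : Finset G),
        ∑ D ∈ (Zset p ⊤ g).filter (fun D => H ≤ D), w p ⊤ g D =
      ∑ D ∈ Finset.univ.filter (fun D : Subgroup G => IsPGroup p D ∧ H ≤ D),
        ∑ g ∈ Finset.univ.filter
          (fun g : G => g ∈ (⊤ : Subgroup G) ⊓ Subgroup.normalizer (D : Set G)),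
          w p ⊤ g D := by
    apply Finset.sum_comm'
    intro g D
    simp only [Finset.mem_filter, Finset.mem_univ, true_and, mem_Zset, Subgroup.mem_inf,
      Subgroup.mem_top, le_top]
    tauto
  rw [e2]
  have e3 : ∀ D ∈ Finset.univ.filter (fun D : Subgroup G => IsPGroup p D ∧ H ≤ D),
      ∑ g ∈ Finset.univ.filter
          (fun g : G => g ∈ (⊤ : Subgroup G) ⊓ Subgroup.normalizer (D : Set G)),
          w p ⊤ g D =
        if IsMaxP p ⊤ D then (Nat.card ↥(Subgroup.normalizer (D : Set G)) : ℤ) else 0 := by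
    intro D hD
    simp only [Finset.mem_filter, Finset.mem_univ, true_and] at hD
    have := key p ⊤ D hD.1 le_top
    rw [top_inf_eq] at this
    rw [top_inf_eq]
    exact this
  rw [Finset.sum_congr rfl e3, ← Finset.sum_filter, Finset.filter_filter]

theorem card_normalizer_sylow_eq {p : ℕ} [Fact p.Prime] (P Q : Sylow p G) :
    Nat.card ↥(Subgroup.normalizer ((Q : Subgroup G) : Set G)) =
      Nat.card ↥(Subgroup.normalizer ((P : Subgroup G) : Set G)) := by
  have hpos : 0 < Nat.card (Sylow p G) := Nat.card_pos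
  apply Nat.eq_of_mul_eq_mul_right hpos
  have h1 : ∀ R : Sylow p G,
      Nat.card ↥(Subgroup.normalizer ((R : Subgroup G) : Set G)) * Nat.card (Sylow p G) =
        Nat.card G := by
    intro R
    rw [Sylow.card_eq_index_normalizer R]
    exact Subgroup.card_mul_index _
  rw [h1 P, h1 Q]

theorem card_subnormalizer_sylow {p : ℕ} [Fact p.Prime] (H : Subgroup G) (hH : IsPGroup p H)
    (P : Sylow p G) :
    Nat.card {g : G // (H.subgroupOf (H ⊔ Subgroup.zpowers g)).IsSubnormal} =
      Nat.card {Q : Sylow p G // H ≤ (Q : Subgroup G)} *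
        Nat.card ↥(Subgroup.normalizer ((P : Subgroup G) : Set G)) := by
  haveI : Fintype (Sylow p G) := Fintype.ofFinite _
  have h1 := card_subnormalizer_eq_sum H hH
  have hA : Finset.univ.filter
        (fun D : Subgroup G => (IsPGroup p D ∧ H ≤ D) ∧ IsMaxP p ⊤ D) =
      (Finset.univ.filter (fun Q : Sylow p G => H ≤ (Q : Subgroup G))).image
        (fun Q : Sylow p G => (Q : Subgroup G)) := by
    ext D
    simp only [Finset.mem_filter, Finset.mem_univ, true_and, Finset.mem_image]
    constructor
    · rintro ⟨⟨hDp, hHD⟩, hmax⟩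
      exact ⟨{ toSubgroup := D, isPGroup' := hDp,
               is_maximal' := fun {Q} hQ hle => hmax Q hQ le_top hle }, hHD, rfl⟩
    · rintro ⟨Q, hHQ, rfl⟩
      exact ⟨⟨Q.isPGroup', hHQ⟩, fun E hE _ hle => Q.is_maximal' hE hle⟩
  rw [hA, Finset.sum_image (fun Q1 _ Q2 _ h => Sylow.ext h)] at h1
  rw [Finset.sum_congr rfl (fun Q _ => by rw [card_normalizer_sylow_eq P Q])] at h1
  rw [Finset.sum_const, nsmul_eq_mul] at h1
  have h2 : (Finset.univ.filter (fun Q : Sylow p G => H ≤ (Q : Subgroup G))).card =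
      Nat.card {Q : Sylow p G // H ≤ (Q : Subgroup G)} := by
    rw [Nat.card_eq_fintype_card, Fintype.card_subtype]
  rw [h2] at h1
  exact_mod_cast h1

/-! ### The second count -/

omit [Finite G] in
theorem mem_map_conj (H : Subgroup G) (a x : G) :
    x ∈ H.map (MulAut.conj a).toMonoidHom ↔ a⁻¹ * x * a ∈ H := by
  rw [Subgroup.mem_map]
  constructor
  · rintro ⟨h, hh, rfl⟩
    simpa [MulAut.conj_apply, mul_assoc] using hh
  · intro h
    exact ⟨_, h, by simp [MulAut.conj_apply, mul_assoc]⟩

theorem mem_sylow_smul {p : ℕ} [Fact p.Prime] (P : Sylow p G) (a x : G) :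
    x ∈ ((a • P : Sylow p G) : Subgroup G) ↔ a⁻¹ * x * a ∈ (P : Subgroup G) := by
  rw [Sylow.smul_def, Sylow.pointwise_smul_def, Subgroup.mem_pointwise_smul_iff_inv_smul_mem]
  simp [MulAut.smul_def]

/-- counting the elements mapped into a set of values by a "coset-injective" function -/
theorem card_preimage_eq {X : Type*} (φ : G → X) (S : Subgroup G)
    (hφ : ∀ a b : G, φ a = φ b ↔ a⁻¹ * b ∈ S) (Y : X → Prop)
    (hY : ∀ y : X, Y y → ∃ a : G, φ a = y) :
    Nat.card {a : G // Y (φ a)} = Nat.card {y : X // Y y} * Nat.card S := by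
  choose rep hrep using hY
  let F : {y : X // Y y} × S → {a : G // Y (φ a)} := fun ys =>
    ⟨rep ys.1.1 ys.1.2 * ys.2.1, by
      have h1 : φ (rep ys.1.1 ys.1.2) = φ (rep ys.1.1 ys.1.2 * ys.2.1) := by
        rw [hφ]; simpa using ys.2.2
      rw [← h1, hrep]; exact ys.1.2⟩
  have hval : ∀ ys, φ (F ys).1 = ys.1.1 := by
    intro ys
    have h1 : φ (rep ys.1.1 ys.1.2) = φ (rep ys.1.1 ys.1.2 * ys.2.1) := by
      rw [hφ]; simpa using ys.2.2
    show φ (rep ys.1.1 ys.1.2 * ys.2.1) = _
    rw [← h1, hrep]
  have hbij : Function.Bijective F := by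
    constructor
    · rintro ⟨⟨y, hy⟩, ⟨s, hs⟩⟩ ⟨⟨y', hy'⟩, ⟨s', hs'⟩⟩ h
      have h1 := hval (⟨⟨y, hy⟩, ⟨s, hs⟩⟩ : {y : X // Y y} × S)
      have h2 := hval (⟨⟨y', hy'⟩, ⟨s', hs'⟩⟩ : {y : X // Y y} × S)
      rw [h] at h1
      have hyy : y = y' := by
        simpa using (h1.symm.trans h2)
      subst hyy
      have h3 : rep y hy * s = rep y hy' * s' := congrArg Subtype.val h
      have h4 : s = s' := mul_left_cancel h3
      subst h4
      rfl
    · rintro ⟨a, ha⟩
      refine ⟨⟨⟨φ a, ha⟩, ⟨(rep (φ a) ha)⁻¹ * a, ?_⟩⟩, ?_⟩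
      · rw [← hφ, hrep]
      · apply Subtype.ext
        show rep (φ a) ha * ((rep (φ a) ha)⁻¹ * a) = a
        group
  rw [← Nat.card_prod]
  exact (Nat.card_congr (Equiv.ofBijective F hbij)).symm

theorem card_sylow_mul_eq {p : ℕ} [Fact p.Prime] (H : Subgroup G) (P : Sylow p G) :
    Nat.card {Q : Sylow p G // H ≤ (Q : Subgroup G)} *
        Nat.card ↥(Subgroup.normalizer ((P : Subgroup G) : Set G)) =
      Nat.card {K : Subgroup G // K ≤ (P : Subgroup G) ∧
          ∃ g : G, K = H.map (MulAut.conj g).toMonoidHom} *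
        Nat.card ↥(Subgroup.normalizer (H : Set G)) := by
  -- first count
  have c1 := card_preimage_eq (fun a : G => a • P)
    (Subgroup.normalizer ((P : Subgroup G) : Set G))
    (by
      intro a b
      have hiff := @Sylow.smul_eq_iff_mem_normalizer p G _ (a⁻¹ * b) P
      refine Iff.trans ?_ hiff
      constructor
      · intro h
        rw [mul_smul, ← h, inv_smul_smul]
      · intro h
        have h1 : a • ((a⁻¹ * b) • P) = a • P := by rw [h]
        rw [← h1, smul_smul, mul_inv_cancel_left])
    (fun Q : Sylow p G => H ≤ (Q : Subgroup G))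
    (fun Q _ => MulAction.exists_smul_eq G P Q)
  -- second count
  have c2 := card_preimage_eq (fun a : G => H.map (MulAut.conj a).toMonoidHom)
    (Subgroup.normalizer (H : Set G))
    (by
      intro a b
      rw [Subgroup.mem_normalizer_iff]
      constructor
      · intro hab h
        constructor
        · intro hh
          have h1 : b * h * b⁻¹ ∈ H.map (MulAut.conj b).toMonoidHom := by
            rw [mem_map_conj]; simpa [mul_assoc] using hh
          rw [← hab, mem_map_conj] at h1
          simpa [mul_assoc] using h1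
        · intro hh
          have h1 : b * h * b⁻¹ ∈ H.map (MulAut.conj a).toMonoidHom := by
            rw [mem_map_conj]; simpa [mul_assoc] using hh
          rw [hab, mem_map_conj] at h1
          simpa [mul_assoc] using h1
      · intro hn
        ext x
        rw [mem_map_conj, mem_map_conj, hn (b⁻¹ * x * b)]
        have e : a⁻¹ * b * (b⁻¹ * x * b) * (a⁻¹ * b)⁻¹ = a⁻¹ * x * a := by group
        rw [e])
    (fun K : Subgroup G => K ≤ (P : Subgroup G) ∧ ∃ g : G, K = H.map (MulAut.conj g).toMonoidHom)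
    (fun K hK => by obtain ⟨g, hg⟩ := hK.2; exact ⟨g, hg.symm⟩)
  have e : {a : G // H ≤ ((a • P : Sylow p G) : Subgroup G)} ≃
      {a : G // H.map (MulAut.conj a).toMonoidHom ≤ (P : Subgroup G) ∧
        ∃ g : G, H.map (MulAut.conj a).toMonoidHom = H.map (MulAut.conj g).toMonoidHom} := by
    refine Equiv.subtypeEquiv (Equiv.inv G) ?_
    intro a
    constructor
    · intro h
      refine ⟨?_, _, rfl⟩
      intro x hx
      rw [Equiv.inv_apply, mem_map_conj, inv_inv] at hx
      have h1 := h hx
      rw [mem_sylow_smul] at h1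
      simpa [mul_assoc] using h1
    · rintro ⟨h, _⟩
      intro x hx
      rw [mem_sylow_smul]
      apply h
      rw [Equiv.inv_apply, mem_map_conj, inv_inv]
      simpa [mul_assoc] using hx
  rw [← c1, ← c2]
  exact Nat.card_congr e

/-- Let G be a finite group, p a prime dividing the order of G, H a p-subgroup of G and P a Sylow p-subgroup of G. Call the subnormalizer of H the set of elements g of G such that H is subnormal in the subgroup generated by H and g. Then the number of elements of the subnormalizer of H equals the number of Sylow p-subgroups of G containing H times the order of N_G(P), and also equals the number of conjugates of H contained in P times the order of N_G(H). -/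
theorem result {G : Type*} [Group G] [Finite G] (p : ℕ) [Fact p.Prime]
    (hp : p ∣ Nat.card G) (H : Subgroup G) (hH : IsPGroup p H) (P : Sylow p G) :
    Nat.card {g : G // ((H).subgroupOf (H ⊔ Subgroup.zpowers g)).IsSubnormal} =
        Nat.card {Q : Sylow p G // H ≤ (Q : Subgroup G)} * Nat.card (Subgroup.normalizer ((P : Subgroup G) : Set G)) ∧
    Nat.card {g : G // ((H).subgroupOf (H ⊔ Subgroup.zpowers g)).IsSubnormal} =
        Nat.card {K : Subgroup G // K ≤ (P : Subgroup G) ∧ ∃ g : G, K = H.map (MulAut.conj g).toMonoidHom} *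
          Nat.card (Subgroup.normalizer (H : Set G)) := by
  refine ⟨card_subnormalizer_sylow H hH P, ?_⟩
  rw [card_subnormalizer_sylow H hH P]
  exact card_sylow_mul_eq H P

end Cfsg.Agent.S4088
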