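-- Statement S0635: p-length at most the class of a Sylow p-subgroup.
import Mathlib
import Cfsg.Statements.S0635
import Cfsg.Agent.H5.PSolvable
import Cfsg.Agent.H5.Cores
import Cfsg.Agent.Lib.Helper20.PLen

set_option autoImplicit false
open Cfsg

namespace Cfsg.Agent.S0635

open Cfsg.Agent.Lib.Helper20.PLen

universe u

theorem card_quotient_lt {G : Type u} [Group G] [Finite G] (N : Subgroup G) [N.Normal]
    (hN : N ≠ ⊥) : Nat.card (G ⧸ N) < Nat.card G := by
  have h1 := Subgroup.card_mul_index N
  rw [Subgroup.index_eq_card] at h1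
  have h2 : 1 < Nat.card N := (Subgroup.one_lt_card_iff_ne_bot N).2 hN
  have h3 : 0 < Nat.card (G ⧸ N) := Nat.card_pos
  nlinarith

theorem main {p : ℕ} [Fact p.Prime] : ∀ n : ℕ, ∀ (G : Type u) [Group G] [Finite G],
    Nat.card G = n → Cfsg.IsPSolvable p G → ∀ S : Sylow p G,
    Cfsg.PLengthLE p (Group.nilpotencyClass ↥(S : Subgroup G)) G := by
  intro n
  induction n using Nat.strong_induction_on with
  | _ n ih =>
  intro G _ _ hcard hsol S
  have hSnil : Group.IsNilpotent ↥(S : Subgroup G) := S.isPGroup'.isNilpotent
  have key : ∀ (N : Subgroup G) [N.Normal], N ≠ ⊥ → ∀ c' : ℕ,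
      Group.nilpotencyClass ↥((S : Subgroup G).map (QuotientGroup.mk' N)) ≤ c' →
      PLengthLE p c' (G ⧸ N) := by
    intro N _ hN c' hc'
    have hlt : Nat.card (G ⧸ N) < n := hcard ▸ card_quotient_lt N hN
    have h1 := ih _ hlt (G ⧸ N) rfl (Cfsg.H5.isPSolvable_quotient N hsol)
      (S.mapSurjective (QuotientGroup.mk'_surjective N))
    rw [Sylow.coe_mapSurjective] at h1
    exact pLengthLE_mono hc' h1
  by_cases hN : Cfsg.pPrimeCore p G = ⊥
  swap
  · -- case 1
    haveI := Cfsg.H5.pPrimeCore_normal p G
    have h1 : PLengthLE p (Group.nilpotencyClass ↥(S : Subgroup G))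
        (G ⧸ Cfsg.pPrimeCore p G) := by
      apply key _ hN
      exact Group.nilpotencyClass_le_of_surjective
        ((QuotientGroup.mk' (Cfsg.pPrimeCore p G)).subgroupMap (S : Subgroup G))
        (MonoidHom.subgroupMap_surjective _ _)
    have h0 : PLengthLE p 0 ↥(Cfsg.pPrimeCore p G) :=
      pLengthLE_zero_iff.2 (Cfsg.H5.coprime_card_pPrimeCore p G)
    have := pLengthLE_of_extension (Cfsg.pPrimeCore p G) h0 h1
    rwa [zero_add] at this
  · -- case 2
    have hcen := Cfsg.H5.centralizer_pCore_le_of_isPSolvable hsol hN
    haveI := Cfsg.H5.pCore_normal p G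
    have hQp := Cfsg.H5.pCore_isPGroup p G
    by_cases hQ : Cfsg.pCore p G = ⊥
    · -- G trivial
      rw [hQ] at hcen
      have htop : (⊤ : Subgroup G) = ⊥ := by
        apply le_antisymm _ bot_le
        refine le_trans ?_ hcen
        intro g _
        rw [Subgroup.mem_centralizer_iff]
        intro h hh
        rw [Subgroup.mem_bot.1 hh, one_mul, mul_one]
      have hc1 : Nat.card G = 1 := by
        rw [← Subgroup.card_top, htop, Subgroup.card_bot]
      have h0 : PLengthLE p 0 G := pLengthLE_zero_iff.2 (by rw [hc1]; exact Nat.coprime_one_left p)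
      exact pLengthLE_mono (Nat.zero_le _) h0
    · have hQS : Cfsg.pCore p G ≤ S := hQp.le_sylow_of_normal S
      -- class ≥ 1
      have hc1 : 1 ≤ Group.nilpotencyClass ↥(S : Subgroup G) := by
        by_contra hlt
        have h0 : Group.nilpotencyClass ↥(S : Subgroup G) = 0 := by omega
        rw [Group.nilpotencyClass_zero_iff_subsingleton] at h0
        apply hQ
        rw [eq_bot_iff]
        intro q hq
        have : (⟨q, hQS hq⟩ : ↥(S : Subgroup G)) = 1 := Subsingleton.elim _ _
        rw [Subgroup.mem_bot]
        exact congrArg Subtype.val this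
      -- class of the image
      have hcl : Group.nilpotencyClass
          ↥((S : Subgroup G).map (QuotientGroup.mk' (Cfsg.pCore p G))) ≤
          Group.nilpotencyClass ↥(S : Subgroup G) - 1 := by
        have hker : Subgroup.center ↥(S : Subgroup G) ≤
            ((QuotientGroup.mk' (Cfsg.pCore p G)).subgroupMap (S : Subgroup G)).ker := by
          intro z hz
          rw [MonoidHom.mem_ker]
          apply Subtype.ext
          rw [MonoidHom.subgroupMap_apply_coe]
          show (QuotientGroup.mk' (Cfsg.pCore p G)) (z : G) = 1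
          rw [QuotientGroup.mk'_apply, QuotientGroup.eq_one_iff]
          apply hcen
          rw [Subgroup.mem_centralizer_iff]
          intro q hq
          have := Subgroup.mem_center_iff.1 hz ⟨q, hQS hq⟩
          exact congrArg Subtype.val this
        have hsurj : Function.Surjective (QuotientGroup.lift (Subgroup.center ↥(S : Subgroup G))
            ((QuotientGroup.mk' (Cfsg.pCore p G)).subgroupMap (S : Subgroup G)) hker) := by
          apply QuotientGroup.lift_surjective_of_surjective
          exact MonoidHom.subgroupMap_surjective _ _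
        have h1 := Group.nilpotencyClass_le_of_surjective _ hsurj
        rwa [Group.nilpotencyClass_quotient_center] at h1
      have h1 := key _ hQ _ hcl
      have h0 : PLengthLE p 1 ↥(Cfsg.pCore p G) := pLengthLE_one_of_isPGroup hQp
      have := pLengthLE_of_extension (Cfsg.pCore p G) h0 h1
      rwa [show 1 + (Group.nilpotencyClass ↥(S : Subgroup G) - 1) =
        Group.nilpotencyClass ↥(S : Subgroup G) by omega] at this

/-- The p-length of a p-soluble group is at most the nilpotency class of its Sylow p-subgroups. -/
theorem result {G : Type*} [Group G] [Finite G] {p : ℕ} [Fact p.Prime] (hsol : Cfsg.IsPSolvable p G) (S : Sylow p G) : Cfsg.PLengthLE p (Group.nilpotencyClass ↥(S : Subgroup G)) G := by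
  exact main _ G rfl hsol S

end Cfsg.Agent.S0635
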