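import Cfsg.Statements.S5203
import Cfsg.Agent.Lib.Helper27.FusionPPower

set_option autoImplicit false
open Cfsg

namespace Cfsg.Agent.S5203

open Cfsg.FusionSystem Cfsg.Agent.Lib.Helper27

universe u

variable {Ω : Type u} [Group Ω]

/-- The `p'`-residual subsystems of two systems with the same maps have the same maps. -/
theorem homEq_pPrimeResidual {p : ℕ} {U₁ U₂ : Subgroup Ω} {D₁ D₁' : FusionSystem U₁}
    {D₂ D₂' : FusionSystem U₂} (h : HomEq D₁ D₂) (h1 : D₁.IsPPrimeResidual p D₁')
    (h2 : D₂.IsPPrimeResidual p D₂') : HomEq D₁' D₂' := by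
  have hU := h.base_eq
  subst hU
  have := fusionSystem_ext h
  subst this
  intro P
  exact Set.Subset.antisymm (h1.2.2 D₂' h2.1 h2.2.1 P) (h2.2.2 D₁' h1.1 h1.2.1 P)

theorem hasPPowerIndexIn_self {S : Subgroup Ω} (F : FusionSystem S) (p : ℕ) : F.HasPPowerIndexIn F p :=
  ⟨fun _ _ h => h, hyperfocal_le F p, fun _ _ => Subgroup.map_subtype_le _⟩

theorem finite_of_le {S U : Subgroup Ω} [Finite S] (h : U ≤ S) : Finite U :=
  Finite.of_injective (Subgroup.inclusion h) (Subgroup.inclusion_injective h)

/-- Every residual limit of a stable system has the same maps as the system. -/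
theorem stable_limit {p : ℕ} {V U : Subgroup Ω} {L : FusionSystem V} {F' : FusionSystem U}
    (h : L.IsResidualLimitOf F' p) : p.Prime → Finite U → IsPGroup p U →
    F'.hyperfocalSubgroup p = U → F'.IsPPrimeResidual p F' → HomEq L F' := by
  induction h with
  | stable F p _ _ => intro _ _ _ _ _; exact HomEq.refl F
  | step F p D D' hD hD' hlim ih =>
    intro hpp hfin hp hs1 hs2
    have : Fact p.Prime := ⟨hpp⟩
    have hDF : HomEq D F := homEq_of_pPowerIndex hp F D F hs1 hD.1 hD.2 hs2.1 (hasPPowerIndexIn_self F p)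
    have hD'F : HomEq D' F := homEq_pPrimeResidual hDF hD' hs2
    have hstab := hD'F.symm.transport
      (motive := fun U X => X.hyperfocalSubgroup p = U ∧ X.IsPPrimeResidual p X) ⟨hs1, hs2⟩
    have hle := hyperfocal_le F p
    have := ih hpp (finite_of_le hle) (hp.to_le hle) hstab.1 hstab.2
    exact this.trans hD'F

/-- The residual limit is unique up to equality of maps. -/
theorem limit_unique {p : ℕ} {V₁ U₁ : Subgroup Ω} {L₁ : FusionSystem V₁}
    {F₁ : FusionSystem U₁} (h1 : L₁.IsResidualLimitOf F₁ p) : p.Prime → Finite U₁ → IsPGroup p U₁ →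
    ∀ {V₂ U₂ : Subgroup Ω} {L₂ : FusionSystem V₂} {F₂ : FusionSystem U₂}, HomEq F₁ F₂ →
      L₂.IsResidualLimitOf F₂ p → HomEq L₁ L₂ := by
  induction h1 with
  | stable F p hs1 hs2 =>
    intro hpp hfin hp V₂ U₂ L₂ F₂ hEq h2
    have hU := hEq.base_eq
    subst hU
    have hF := fusionSystem_ext hEq
    subst hF
    exact (stable_limit h2 hpp hfin hp hs1 hs2).symm
  | step F p D D' hD hD' hlim ih =>
    intro hpp hfin hp V₂ U₂ L₂ F₂ hEq h2
    have : Fact p.Prime := ⟨hpp⟩
    have hU := hEq.base_eq
    subst hU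
    have hF := fusionSystem_ext hEq
    subst hF
    have hle := hyperfocal_le F p
    cases h2 with
    | stable _ _ hs1 hs2 =>
      have hDF : HomEq D F := homEq_of_pPowerIndex hp F D F hs1 hD.1 hD.2 hs2.1 (hasPPowerIndexIn_self F p)
      have hD'F : HomEq D' F := homEq_pPrimeResidual hDF hD' hs2
      have hstab := hD'F.symm.transport
        (motive := fun U X => X.hyperfocalSubgroup p = U ∧ X.IsPPrimeResidual p X) ⟨hs1, hs2⟩
      have := stable_limit hlim hpp (finite_of_le hle) (hp.to_le hle) hstab.1 hstab.2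
      exact this.trans hD'F
    | step _ _ D₂ D₂' hD₂ hD₂' hlim₂ =>
      have h3 : HomEq D D₂ := homEq_of_pPowerIndex hp F D D₂ rfl hD.1 hD.2 hD₂.1 hD₂.2
      have h4 : HomEq D' D₂' := homEq_pPrimeResidual h3 hD' hD₂'
      exact ih hpp (finite_of_le hle) (hp.to_le hle) h4 hlim₂

/-- Let F be a saturated fusion system over a finite p-group S and E a normal subsystem of F over T that has p-power index in F. Then every residual limit of E has the same maps as every residual limit of F (the residual limit is reached by alternately passing to the p-residual and the p'-residual subsystem until nothing changes). -/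
theorem result {Ω : Type*} [Group Ω] {S : Subgroup Ω} [Finite S] (p : ℕ) [Fact p.Prime] (hS : IsPGroup p S) (F : Cfsg.FusionSystem S) (hF : F.IsSaturated p) {T : Subgroup Ω} (E : Cfsg.FusionSystem T) (hE : E.IsNormalIn F p) (hidx : E.HasPPowerIndexIn F p) {U V : Subgroup Ω} (Finf : Cfsg.FusionSystem U) (hFinf : Finf.IsResidualLimitOf F p) (Einf : Cfsg.FusionSystem V) (hEinf : Einf.IsResidualLimitOf E p) : ∀ P : Subgroup Ω, Finf.Hom P = Einf.Hom P := by
  have hT : F.StronglyClosed T := hE.1.2.2.2.1
  have hEsat : E.IsSaturated p := hE.1.1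
  have hTS : T ≤ S := hT.1
  have hfinT : Finite T := finite_of_le hTS
  have hTp : IsPGroup p T := hS.to_le hTS
  have hhyp : E.hyperfocalSubgroup p = F.hyperfocalSubgroup p :=
    hyperfocal_eq_of_pPowerIndex hS F E hidx hT
  have hle := hyperfocal_le F p
  suffices h : HomEq Finf Einf from h
  cases hFinf with
  | stable _ _ hs1 hs2 =>
    have hTeq : T = S := le_antisymm hTS (by rw [← hs1]; exact hidx.2.1)
    have hEF : HomEq E F := homEq_of_pPowerIndex hS F E F hTeq hEsat hidx hF (hasPPowerIndexIn_self F p)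
    have hstab := hEF.symm.transport
      (motive := fun U X => X.hyperfocalSubgroup p = U ∧ X.IsPPrimeResidual p X) ⟨hs1, hs2⟩
    have := stable_limit hEinf Fact.out hfinT hTp hstab.1 hstab.2
    exact (this.trans hEF).symm
  | step _ _ D D' hD hD' hlim =>
    cases hEinf with
    | stable _ _ hs1 hs2 =>
      have hU : F.hyperfocalSubgroup p = T := by rw [← hhyp]; exact hs1
      have hDE : HomEq D E := homEq_of_pPowerIndex hS F D E hU hD.1 hD.2 hEsat hidx
      have hD'E : HomEq D' E := homEq_pPrimeResidual hDE hD' hs2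
      have hstab := hD'E.symm.transport
        (motive := fun U X => X.hyperfocalSubgroup p = U ∧ X.IsPPrimeResidual p X) ⟨hs1, hs2⟩
      have := stable_limit hlim Fact.out (finite_of_le hle) (hS.to_le hle) hstab.1 hstab.2
      exact this.trans hD'E
    | step _ _ DE DE' hDE hDE' hlimE =>
      have hDEF : DE.HasPPowerIndexIn F p := hasPPowerIndexIn_trans hS F E hidx hT DE hDE.2
      have h1 : HomEq D DE := homEq_of_pPowerIndex hS F D DE hhyp.symm hD.1 hD.2 hDE.1 hDEF
      have h2 : HomEq D' DE' := homEq_pPrimeResidual h1 hD' hDE'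
      exact limit_unique hlim Fact.out (finite_of_le hle) (hS.to_le hle) h2 hlimE

end Cfsg.Agent.S5203
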