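import Cfsg.Statements.S5199
import Cfsg.Agent.Lib.Helper27.FusionAlperin
import Cfsg.Agent.Lib.Helper27.FusionPStable
import Cfsg.Agent.Lib.Helper17.PResidual

set_option autoImplicit false
open Cfsg

namespace Cfsg.Agent.S5199

open Cfsg.FusionSystem Cfsg.Agent.Lib.Helper27

/-- The full subsystem of a fusion system over `U` on a subgroup `T ≤ U`. -/
def restrictTo {Ω : Type*} [Group Ω] {U : Subgroup Ω} (F : FusionSystem U) (T : Subgroup Ω) (hTU : T ≤ U) :
    FusionSystem T where
  Hom P := {φ | φ ∈ F.Hom P ∧ P ≤ T ∧ ∀ x : P, φ x ∈ T}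
  le_of_mem h := ⟨h.2.1, h.2.2⟩
  injective_of_mem h := F.injective_of_mem h.1
  conj_mem := by
    intro P g hP hg
    refine ⟨F.conj_mem (le_trans hP hTU) (hTU hg), hP, fun x => ?_⟩
    show g * (x : Ω) * g⁻¹ ∈ T
    exact T.mul_mem (T.mul_mem hg (hP x.2)) (T.inv_mem hg)
  comp_mem := by
    rintro P Q φ ψ ⟨hφ, hP, hφT⟩ ⟨hψ, hQ, hψT⟩ h
    exact ⟨F.comp_mem hφ hψ h, hP, fun x => hψT _⟩
  inv_mem := by
    rintro P φ ⟨hφ, hP, hφT⟩
    obtain ⟨ψ, hψ, hinv⟩ := F.inv_mem hφ
    refine ⟨ψ, ⟨hψ, ?_, ?_⟩, hinv⟩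
    · rintro _ ⟨x, rfl⟩
      exact hφT x
    · rintro ⟨_, x, rfl⟩
      rw [hinv x]
      exact hP x.2

/-- Let F be a saturated fusion system over a finite p-group S, E a normal subsystem of F over T, and F₀ a normal subsystem of F over a subgroup U containing both T and the hyperfocal subgroup of F, such that F₀ has p-power index in F. Then E is a subsystem of F₀. -/
theorem result {Ω : Type*} [Group Ω] {S : Subgroup Ω} [Finite S] (p : ℕ) [Fact p.Prime] (hS : IsPGroup p S) (F : Cfsg.FusionSystem S) (hF : F.IsSaturated p) {T U : Subgroup Ω} (E : Cfsg.FusionSystem T) (hE : E.IsNormalIn F p) (F₀ : Cfsg.FusionSystem U) (hF₀ : F₀.IsNormalIn F p) (hU : T ⊔ F.hyperfocalSubgroup p ≤ U) (hidx : F₀.HasPPowerIndexIn F p) : E.IsSubsystemOf F₀ := by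
  have hEF : E.IsSubsystemOf F := hE.1.2.2.1
  have hEsat : E.IsSaturated p := hE.1.1
  have hTS : T ≤ S := hE.1.2.2.2.1.1
  have hTU : T ≤ U := le_trans le_sup_left hU
  have hfinT : Finite T := Finite.of_injective (Subgroup.inclusion hTS) (Subgroup.inclusion_injective hTS)
  have hTp : IsPGroup p T := hS.to_le hTS
  -- key: for `R` fully `E`-normalized, `Aut_E(R) ≤ Aut_{F₀}(R)`
  have key : ∀ R : Subgroup Ω, E.IsFullyNormalized R → E.autGroup R ≤ F₀.autGroup R := by
    intro R hR
    have hRT : R ≤ T := hR.1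
    have hfinR : Finite R := Finite.of_injective (Subgroup.inclusion hRT) (Subgroup.inclusion_injective hRT)
    obtain ⟨⟨_, Sy, hSy⟩, -, -⟩ := fa_receptive_of_fullyNormalized hTp hEsat hR
    have h1 := Cfsg.Agent.Lib.Helper17.sylow_sup_pResidual Sy
    have h2 : E.autGroup R = ((Sy : Subgroup (E.autGroup R)) ⊔ pResidual p (E.autGroup R)).map
        (E.autGroup R).subtype := by
      rw [h1, ← MonoidHom.range_eq_map, Subgroup.range_subtype]
    rw [h2, Subgroup.map_sup]
    apply sup_le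
    · rw [hSy, Subgroup.subgroupOf_map_subtype]
      refine le_trans inf_le_left ?_
      refine le_trans ?_ (autInducedBy_le_autGroup F₀ (le_trans hRT hTU))
      apply Subgroup.closure_mono
      rintro α ⟨g, hg, h⟩
      exact ⟨g, hTU hg, h⟩
    · rw [Cfsg.Agent.Lib.Helper17.map_subtype_pResidual]
      refine le_trans ?_ (hidx.2.2 R (le_trans hRT hTU))
      rw [Cfsg.Agent.Lib.Helper17.map_subtype_pResidual]
      apply Subgroup.closure_mono
      rintro α ⟨hα, hcop⟩
      exact ⟨autGroup_le_of_subsystem hEF R hα, hcop⟩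
  have hiso : ∀ R : Subgroup Ω, E.IsFullyNormalized R → ∀ α : R ≃* R, IsIso E α →
      IsIso (restrictTo F₀ T hTU) α := by
    intro R hR α hα
    have hRT : R ≤ T := hR.1
    have h1 : (α : MulAut R) ∈ E.autGroup R := (mem_autGroup_iff E hRT α).mpr hα
    have h2 := (mem_autGroup_iff F₀ (le_trans hRT hTU) α).mp (key R hR h1)
    exact ⟨h2, hRT, fun x => hRT (α x).2⟩
  have hTfn : E.IsFullyNormalized T := by
    refine ⟨le_refl T, fun Q _ => ?_⟩
    have hle : normalizerIn T T ≤ T := inf_le_left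
    have : Finite ↥(normalizerIn T T) :=
      Finite.of_injective (Subgroup.inclusion hle) (Subgroup.inclusion_injective hle)
    apply Subgroup.card_le_of_le
    intro x hx
    exact ⟨hx.1, Subgroup.le_normalizer hx.1⟩
  intro P φ hφ
  exact (alperin hTp hEsat (restrictTo F₀ T hTU) (hiso T hTfn)
    (fun R _ hfn _ _ => hiso R hfn) P hφ).1

end Cfsg.Agent.S5199
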