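import Mathlib
import Cfsg.Prelude.Def_FusionSystem
import Cfsg.Agent.Lib.Helper27.FusionRadical
import Cfsg.Agent.Lib.Helper27.FusionLift
import Cfsg.Agent.Lib.Helper27.FusionCentric
import Cfsg.Agent.H26.FusionFactor

set_option autoImplicit false
open Cfsg

namespace Cfsg.Agent.S5251

open Cfsg.FusionSystem Cfsg.Agent.Lib.Helper27

/-- Let F be a saturated fusion system over a finite p-group S, E a normal subsystem of F over T, and P an F-centric subgroup of S such that P ∩ T is not E-centric. Then some F-conjugate P* of P satisfies Out_S(P*) ∩ O_p(Out_F(P*)) ≠ 1: there is an element of N_S(P*) outside P* whose conjugation action on P* lies in O_p(Aut_F(P*)). In particular P is not both centric and radical in F. -/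
theorem result {Ω : Type*} [Group Ω] {S : Subgroup Ω} [Finite S] (p : ℕ) [Fact p.Prime] (hS : IsPGroup p S) (F : Cfsg.FusionSystem S) (hF : F.IsSaturated p) {T : Subgroup Ω} (E : Cfsg.FusionSystem T) (hE : E.IsNormalIn F p) (P : Subgroup Ω) (hP : F.IsCentric P) (hPT : ¬ E.IsCentric (P ⊓ T)) : (∃ φ ∈ F.Hom P, ∃ x ∈ S ⊓ Subgroup.normalizer (φ.range : Set Ω), x ∉ φ.range ∧ ∃ α ∈ ((Cfsg.pCore p ↥(F.autGroup φ.range)).map (F.autGroup φ.range).subtype : Subgroup (MulAut ↥φ.range)), ∀ y : ↥φ.range, ((α y : ↥φ.range) : Ω) = x * (y : Ω) * x⁻¹) ∧ ¬ F.IsRadical p P := by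
  classical
  obtain ⟨⟨-, -, hEsub, hT, -, -⟩, -⟩ := hE
  have hPS : P ≤ S := hP.1
  have hTS : T ≤ S := hT.1
  have hQS : P ⊓ T ≤ S := le_trans inf_le_left hPS
  haveI : Finite ↥(P ⊓ T) := Finite.of_injective (Subgroup.inclusion hQS) (Subgroup.inclusion_injective hQS)
  -- an `E`-conjugate `Q'` with `C_T(Q') ≰ Q'`
  have h1 : ∃ Q', E.IsConj (P ⊓ T) Q' ∧ ¬ centralizerIn T Q' ≤ Q' := by
    by_contra hcon
    push Not at hcon
    exact hPT ⟨inf_le_right, hcon⟩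
  obtain ⟨Q', ⟨ψ, hψ, hψr⟩, hQ'⟩ := h1
  have hQQ' : F.IsConj (P ⊓ T) Q' := ⟨ψ, hEsub _ hψ, hψr⟩
  have hQ'S : Q' ≤ S := isConj_le_right F hQQ'
  -- fully normalized conjugate
  obtain ⟨Qs, hQQs, hQsfn⟩ := exists_fullyNormalized_conj F hQS
  have hQsS : Qs ≤ S := isConj_le_right F hQQs
  haveI : Finite Qs := Finite.of_injective (Subgroup.inclusion hQsS) (Subgroup.inclusion_injective hQsS)
  have hQ'Qs : F.IsConj Q' Qs := isConj_trans F (isConj_symm F hQQ') hQQs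
  obtain ⟨χ, hχ, χe, hχe, hχeq⟩ := exists_hom_normalizerIn_of_fullyNormalized hS hF hQsfn hQ'Qs
  obtain ⟨χ', hχ', χe', hχe', hχeq'⟩ := exists_hom_normalizerIn_of_fullyNormalized hS hF hQsfn hQQs
  -- an element of `C_T(Qs)` outside `Qs`
  obtain ⟨c, hcC, hcQ'⟩ := SetLike.not_le_iff_exists.mp hQ'
  have hcT : c ∈ T := hcC.1
  have hcC' : c ∈ centralizerIn S Q' := by
    rw [mem_centralizerIn_iff] at hcC ⊢
    exact ⟨hTS hcC.1, hcC.2⟩
  have hcN : c ∈ normalizerIn S Q' := centralizerIn_le_normalizerIn S Q' hcC'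
  have hχeq2 : ∀ x : Q', χ ⟨x, le_normalizerIn hQ'S x.2⟩ = χe x := fun x => hχeq x x.2 _
  have hcs1 : χ ⟨c, hcN⟩ ∈ centralizerIn S Qs :=
    (hom_normalizerIn_mem_centralizerIn hQ'S hχ hχeq2 ⟨c, hcN⟩).mpr hcC'
  have hcs2 : χ ⟨c, hcN⟩ ∈ T := stronglyClosed_hom_mem hT hχ (x := ⟨c, hcN⟩) hcT
  have hcs3 : χ ⟨c, hcN⟩ ∉ Qs := by
    intro hmem
    have h2 : χ ⟨c, hcN⟩ = χ ⟨(χe.symm ⟨_, hmem⟩ : Q'), le_normalizerIn hQ'S (χe.symm ⟨_, hmem⟩).2⟩ := by
      rw [hχeq2]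
      simp
    have h3 := F.injective_of_mem hχ h2
    have h4 : c = ((χe.symm ⟨_, hmem⟩ : Q') : Ω) := congrArg Subtype.val h3
    exact hcQ' (h4 ▸ (χe.symm ⟨_, hmem⟩).2)
  -- the conjugate of `P`
  have hPN : P ≤ normalizerIn S (P ⊓ T) := by
    intro u hu
    refine ⟨hPS hu, mem_normalizer_of_conj_mem (fun y hy => ?_)⟩
    exact ⟨P.mul_mem (P.mul_mem hu hy.1) (P.inv_mem hu), stronglyClosed_conj_mem hT (hPS hu) hy.2⟩
  have hφ : χ'.comp (Subgroup.inclusion hPN) ∈ F.Hom P := hom_restrict F hPN hχ'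
  set φ := χ'.comp (Subgroup.inclusion hPN) with hφdef
  have hχeq2' : ∀ x : ↥(P ⊓ T), χ' ⟨x, le_normalizerIn hQS x.2⟩ = χe' x := fun x => hχeq' x x.2 _
  have hPsT : φ.range ⊓ T = Qs := by
    ext y
    constructor
    · rintro ⟨⟨u, rfl⟩, hyT⟩
      have huT : (u : Ω) ∈ T := Cfsg.Agent.H26.Fus.mem_of_map_mem_stronglyClosed F hT hφ u hyT
      have h2 : φ u = χe' ⟨u, ⟨u.2, huT⟩⟩ := by
        rw [← hχeq2']
        rfl
      rw [h2]
      exact (χe' _).2
    · intro hy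
      have h2 : y = φ ⟨(χe'.symm ⟨y, hy⟩ : ↥(P ⊓ T)), (χe'.symm ⟨y, hy⟩).2.1⟩ := by
        have h3 := hχeq2' (χe'.symm ⟨y, hy⟩)
        rw [MulEquiv.apply_symm_apply] at h3
        exact h3.symm
      refine ⟨⟨_, h2.symm⟩, ?_⟩
      rw [h2]
      exact stronglyClosed_hom_mem hT hφ (χe'.symm ⟨y, hy⟩).2.2
  have hPsconj : F.IsConj P φ.range := ⟨φ, hφ, rfl⟩
  have hPsc : F.IsCentric φ.range := isCentric_of_isConj hP hPsconj
  have hPsS : φ.range ≤ S := hPsc.1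
  have hQsPs : Qs ≤ φ.range := by rw [← hPsT]; exact inf_le_left
  have hQsT : Qs ≤ T := by rw [← hPsT]; exact inf_le_right
  -- `C_T(Qs) ≰ φ.range`
  have hC : ¬ centralizerIn T Qs ≤ φ.range := by
    intro hle
    have h2 : χ ⟨c, hcN⟩ ∈ centralizerIn T Qs := by
      rw [mem_centralizerIn_iff] at hcs1 ⊢
      exact ⟨hcs2, hcs1.2⟩
    have h3 : χ ⟨c, hcN⟩ ∈ φ.range ⊓ T := ⟨hle h2, hcs2⟩
    rw [hPsT] at h3
    exact hcs3 h3
  have hCS : centralizerIn T Qs ≤ S := le_trans inf_le_left hTS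
  have hCn : ∀ r ∈ φ.range, ∀ d ∈ centralizerIn T Qs, r * d * r⁻¹ ∈ centralizerIn T Qs := by
    intro r hr d hd
    rw [mem_centralizerIn_iff] at hd ⊢
    refine ⟨stronglyClosed_conj_mem hT (hPsS hr) hd.1, fun y hy => ?_⟩
    have hy' : r⁻¹ * y * r ∈ Qs := by
      rw [← hPsT]
      refine ⟨(φ.range).mul_mem ((φ.range).mul_mem ((φ.range).inv_mem hr) (hQsPs hy)) hr, ?_⟩
      have := stronglyClosed_conj_mem hT (S.inv_mem (hPsS hr)) (hQsT hy)
      simpa using this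
    have h2 := hd.2 _ hy'
    calc y * (r * d * r⁻¹) = r * ((r⁻¹ * y * r) * d) * r⁻¹ := by group
      _ = r * (d * (r⁻¹ * y * r)) * r⁻¹ := by rw [h2]
      _ = r * d * r⁻¹ * y := by group
  have h5 : ∃ d ∈ centralizerIn T Qs, d ∈ Subgroup.normalizer (φ.range : Set Ω) ∧ d ∉ φ.range := by
    by_contra hcon
    push Not at hcon
    exact hC (le_of_inf_normalizer_le' hS hPsS hCS hCn hcon)
  obtain ⟨x, hxC, hxN, hxPs⟩ := h5
  have hxT : x ∈ T := hxC.1
  have hxS : x ∈ S := hTS hxT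
  have hxg : x ∈ normalizerIn S φ.range := ⟨hxS, hxN⟩
  have hxcomm : ∀ y ∈ Qs, y * x = x * y := (mem_centralizerIn_iff.mp hxC).2
  -- the chain
  let b : ℕ → Subgroup Ω := fun j => if j = 0 then ⊥ else if j = 1 then φ.range ⊓ T else φ.range
  have hb0 : b 0 = ⊥ := by simp [b]
  have hb1 : b 1 = φ.range ⊓ T := by simp [b]
  have hb2 : b 2 = φ.range := by simp [b]
  have hmem : conjAutHom S φ.range ⟨x, hxg⟩ ∈
      (pCore p (F.autGroup φ.range)).map (F.autGroup φ.range).subtype := by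
    refine conjAutHom_mem_pCore_of_stabilizes_chain hS F hPsS b 2 ?_ hb0 (by rw [hb2]) hxg ?_
    · intro j α hα y hy
      by_cases hj0 : j = 0
      · subst hj0
        rw [hb0, Subgroup.mem_bot] at hy ⊢
        have : y = 1 := Subtype.ext hy
        rw [this, map_one]
        rfl
      · by_cases hj1 : j = 1
        · subst hj1
          rw [hb1] at hy ⊢
          exact ⟨(α y).2, stronglyClosed_aut_mem hT hα hy.2⟩
        · have : b j = φ.range := by simp [b, hj0, hj1]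
          rw [this]
          exact (α y).2
    · intro j hj y hyPs hy
      have hj' : j = 0 ∨ j = 1 := by omega
      rcases hj' with rfl | rfl
      · rw [zero_add, hb1, hPsT] at hy
        rw [hb0, Subgroup.mem_bot]
        have h2 := hxcomm y hy
        calc y⁻¹ * (x * y * x⁻¹) = y⁻¹ * ((y * x) * x⁻¹) := by rw [h2]
          _ = 1 := by group
      · rw [hb1]
        refine ⟨(φ.range).mul_mem ((φ.range).inv_mem hyPs) (conj_mem_of_mem_normalizerIn hxg hyPs), ?_⟩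
        have h2 := stronglyClosed_conj_mem hT (S.inv_mem (hPsS hyPs)) hxT
        have h3 : y⁻¹ * (x * y * x⁻¹) = (y⁻¹ * x * y⁻¹⁻¹) * x⁻¹ := by group
        rw [h3]
        exact T.mul_mem h2 (T.inv_mem hxT)
  refine ⟨⟨φ, hφ, x, ⟨hxS, hxN⟩, hxPs, conjAutHom S φ.range ⟨x, hxg⟩, hmem, fun y => rfl⟩, ?_⟩
  intro hr
  exact not_isRadical_of_conjAutHom_mem_pCore hPsc hxg hxPs hmem (isRadical_of_isConj hPsconj hr)

end Cfsg.Agent.S5251
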