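import Mathlib
import Cfsg.Prelude.Def_MonsterType
import Cfsg.Agent.Lib.Helper1.NoncyclicAbelian
import Cfsg.Agent.Lib.Helper1.Cores

set_option autoImplicit false
open Cfsg

namespace Cfsg.Agent.S5421

open scoped commutatorElement

section aux

variable {G : Type*} [Group G]

/-- the four-group generated by two commuting involutions -/
def fourGroup (z b : G) (hz : z * z = 1) (hb : b * b = 1) (hc : z * b = b * z) : Subgroup G where
  carrier := {x | x = 1 ∨ x = z ∨ x = b ∨ x = z * b}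
  one_mem' := Or.inl rfl
  mul_mem' := by
    have e1 : z * (z * b) = b := by rw [← mul_assoc, hz, one_mul]
    have e2 : b * (z * b) = z := by rw [← mul_assoc, ← hc, mul_assoc, hb, mul_one]
    have e3 : z * b * z = b := by rw [mul_assoc, ← hc, ← mul_assoc, hz, one_mul]
    have e4 : z * b * b = z := by rw [mul_assoc, hb, mul_one]
    have e5 : z * b * (z * b) = 1 := by rw [mul_assoc, e2, hz]
    rintro x y (rfl | rfl | rfl | rfl) (rfl | rfl | rfl | rfl)
    · simp
    · simp
    · simp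
    · simp
    · simp
    · left; exact hz
    · right; right; right; rfl
    · right; right; left; exact e1
    · simp
    · right; right; right; exact hc.symm
    · left; exact hb
    · right; left; exact e2
    · simp
    · right; right; left; exact e3
    · right; left; exact e4
    · left; exact e5
  inv_mem' := by
    have i1 : z⁻¹ = z := inv_eq_of_mul_eq_one_right hz
    have i2 : b⁻¹ = b := inv_eq_of_mul_eq_one_right hb
    rintro x (rfl | rfl | rfl | rfl)
    · simp
    · right; left; exact i1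
    · right; right; left; exact i2
    · right; right; right
      rw [mul_inv_rev, i1, i2, hc]

theorem mem_fourGroup {z b : G} {hz : z * z = 1} {hb : b * b = 1} {hc : z * b = b * z} {x : G} :
    x ∈ fourGroup z b hz hb hc ↔ x = 1 ∨ x = z ∨ x = b ∨ x = z * b := Iff.rfl

end aux

/-- Let Q be an extraspecial 2-subgroup of the finite group G whose centralizer in G is its centre Z and which is normal in the centralizer of Z. If some involution b of Q outside Z has Z inside the largest normal 2-subgroup of the centralizer of b, then Q is a large extraspecial 2-subgroup of G. -/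
theorem result {G : Type*} [Group G] [Finite G] (Q : Subgroup G) (hL1 : Cfsg.IsExtraspecial 2 ↥Q) (hL2 : Subgroup.centralizer (Q : Set G) = ((Subgroup.center ↥Q).map Q.subtype)) (hL3 : Subgroup.centralizer (((Subgroup.center ↥Q).map Q.subtype) : Set G) ≤ Subgroup.normalizer (Q : Set G)) (b : G) (hbQ : b ∈ Q) (hbZ : b ∉ ((Subgroup.center ↥Q).map Q.subtype)) (hb : orderOf b = 2) (hZ : ((Subgroup.center ↥Q).map Q.subtype) ≤ (Cfsg.pCore 2 ↥(Subgroup.centralizer ({b} : Set G))).map (Subgroup.centralizer ({b} : Set G)).subtype) : Cfsg.IsLargeExtraspecial Q := by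
  classical
  haveI : Fact (Nat.Prime 2) := ⟨Nat.prime_two⟩
  refine ⟨hL1, hL2, hL3, ?_⟩
  intro K hKodd hQK
  obtain ⟨⟨hQp, -, hcomm⟩, hcard⟩ := hL1
  -- the central involution
  have hex : ∃ z₀ : Q, z₀ ∈ Subgroup.center Q ∧ z₀ ≠ 1 ∧ ∀ y ∈ Subgroup.center Q, y = 1 ∨ y = z₀ := by
    rw [Nat.card_eq_two_iff' (1 : Subgroup.center Q)] at hcard
    obtain ⟨y, hy, hyuniq⟩ := hcard
    refine ⟨y, y.2, fun h => hy (Subtype.ext h), fun w hw => ?_⟩
    by_cases hw1 : w = 1
    · exact Or.inl hw1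
    · right
      have := hyuniq ⟨w, hw⟩ (fun h => hw1 (congrArg Subtype.val h))
      exact congrArg Subtype.val this
  obtain ⟨z₀, hz₀c, hz₀ne, hz₀u⟩ := hex
  have hz₀sq : z₀ * z₀ = 1 := by
    rcases hz₀u (z₀ * z₀) (Subgroup.mul_mem _ hz₀c hz₀c) with h | h
    · exact h
    · exfalso
      apply hz₀ne
      have : z₀ * z₀ = z₀ * 1 := by rw [mul_one]; exact h
      exact mul_left_cancel this
  have hzne : (z₀ : G) ≠ 1 := fun h => hz₀ne (Subtype.ext h)
  have hzsq : (z₀ : G) * (z₀ : G) = 1 := congrArg Subtype.val hz₀sq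
  have hzQ : (z₀ : G) ∈ Q := z₀.2
  have hZmem : ∀ x : G, x ∈ (Subgroup.center Q).map Q.subtype ↔ x = 1 ∨ x = (z₀ : G) := by
    intro x
    constructor
    · rintro ⟨y, hy, rfl⟩
      rcases hz₀u y hy with h | h
      · left; rw [h]; rfl
      · right; rw [h]; rfl
    · rintro (rfl | rfl)
      · exact Subgroup.one_mem _
      · exact ⟨z₀, hz₀c, rfl⟩
  have hzcomm : ∀ q ∈ Q, (z₀ : G) * q = q * (z₀ : G) := by
    intro q hq
    have := (Subgroup.mem_center_iff.mp hz₀c) ⟨q, hq⟩
    exact (congrArg Subtype.val this).symm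
  -- `b`
  have hbsq : b * b = 1 := by
    rw [← pow_two, ← hb]; exact pow_orderOf_eq_one b
  have hb₀ : (⟨b, hbQ⟩ : Q) ∉ Subgroup.center Q := fun h => hbZ ⟨_, h, rfl⟩
  have hexq : ∃ q ∈ Q, q * b * q⁻¹ = (z₀ : G) * b := by
    rw [Subgroup.mem_center_iff] at hb₀
    push Not at hb₀
    obtain ⟨q₀, hq₀⟩ := hb₀
    have hc : ⁅q₀, (⟨b, hbQ⟩ : Q)⁆ ∈ Subgroup.center Q := by
      rw [← hcomm, commutator_def]
      exact Subgroup.commutator_mem_commutator (Subgroup.mem_top _) (Subgroup.mem_top _)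
    have hc1 : ⁅q₀, (⟨b, hbQ⟩ : Q)⁆ ≠ 1 := by
      intro h
      apply hq₀
      rw [commutatorElement_eq_one_iff_mul_comm] at h
      exact h
    rcases hz₀u _ hc with h | h
    · exact absurd h hc1
    · refine ⟨q₀, q₀.2, ?_⟩
      have h2 := congrArg Subtype.val h
      rw [commutatorElement_def] at h2
      simp only [Subgroup.coe_mul, Subgroup.coe_inv] at h2
      calc (q₀ : G) * b * (q₀ : G)⁻¹ = ((q₀ : G) * b * (q₀ : G)⁻¹ * b⁻¹) * b := by group
        _ = (z₀ : G) * b := by rw [h2]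
  obtain ⟨q, hqQ, hqb⟩ := hexq
  have hzb : (z₀ : G) * b = b * (z₀ : G) := hzcomm b hbQ
  -- coprimality
  obtain ⟨nQ, hnQ⟩ := IsPGroup.iff_card.mp hQp
  have hcop2 : ∀ m : ℕ, (Nat.card K).Coprime (2 ^ m) :=
    fun m => Nat.Coprime.pow_right m (Nat.coprime_two_right.mpr hKodd)
  have hKQ : K ⊓ Q = ⊥ := Subgroup.inf_eq_bot_of_coprime (by rw [hnQ]; exact hcop2 nQ)
  -- centralizer of `z` in `K`
  have L1 : ∀ x ∈ K, x * (z₀ : G) = (z₀ : G) * x → x = 1 := by
    intro x hxK hxz
    have hxZ : x ∈ Subgroup.centralizer (((Subgroup.center Q).map Q.subtype : Subgroup G) : Set G) := by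
      rw [Subgroup.mem_centralizer_iff]
      intro h hh
      rcases (hZmem h).mp hh with rfl | rfl
      · simp
      · exact hxz.symm
    have hxN := hL3 hxZ
    have hxC : x ∈ Subgroup.centralizer (Q : Set G) := by
      rw [Subgroup.mem_centralizer_iff]
      intro y hy
      have h1 : x * y * x⁻¹ ∈ Q := (Subgroup.mem_normalizer_iff.mp hxN y).mp hy
      have h2 : y * x⁻¹ * y⁻¹ ∈ K := (Subgroup.mem_normalizer_iff.mp (hQK hy) x⁻¹).mp (K.inv_mem hxK)
      have h3 : x * y * x⁻¹ * y⁻¹ ∈ K ⊓ Q := by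
        refine ⟨?_, Q.mul_mem h1 (Q.inv_mem hy)⟩
        have : x * y * x⁻¹ * y⁻¹ = x * (y * x⁻¹ * y⁻¹) := by group
        rw [this]
        exact K.mul_mem hxK h2
      rw [hKQ, Subgroup.mem_bot] at h3
      calc y * x = (x * y * x⁻¹ * y⁻¹)⁻¹ * (x * y) := by group
        _ = x * y := by rw [h3]; group
    rw [hL2, hZmem] at hxC
    rcases hxC with h | h
    · exact h
    · exfalso
      have : (z₀ : G) ∈ K ⊓ Q := ⟨h ▸ hxK, hzQ⟩
      rw [hKQ, Subgroup.mem_bot] at this
      exact hzne this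
  -- centralizer of `b` in `K`
  have L2 : ∀ x ∈ K, x * b = b * x → x = 1 := by
    intro x hxK hxb
    have hxH : x ∈ Subgroup.centralizer ({b} : Set G) := by
      rw [Subgroup.mem_centralizer_iff]
      intro h hh
      rw [Set.mem_singleton_iff] at hh
      rw [hh]
      exact hxb.symm
    obtain ⟨z', hz', hz'eq⟩ := hZ ((hZmem _).mpr (Or.inr rfl))
    have hn := Cfsg.Agent.Lib.Helper1.pCore_normal (G := Subgroup.centralizer ({b} : Set G)) 2
    have h1 : z' * (⟨x, hxH⟩ * z'⁻¹ * ⟨x, hxH⟩⁻¹) ∈ pCore 2 (Subgroup.centralizer ({b} : Set G)) :=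
      Subgroup.mul_mem _ hz' (hn.conj_mem _ (Subgroup.inv_mem _ hz') _)
    have hO : IsPGroup 2 ((pCore 2 (Subgroup.centralizer ({b} : Set G))).map
        (Subgroup.centralizer ({b} : Set G)).subtype) :=
      (Cfsg.Agent.Lib.Helper1.pCore_isPGroup 2).map _
    obtain ⟨nO, hnO⟩ := IsPGroup.iff_card.mp hO
    have hKO : K ⊓ ((pCore 2 (Subgroup.centralizer ({b} : Set G))).map
        (Subgroup.centralizer ({b} : Set G)).subtype) = ⊥ :=
      Subgroup.inf_eq_bot_of_coprime (by rw [hnO]; exact hcop2 nO)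
    have hz'eq' : (z' : G) = (z₀ : G) := hz'eq
    have h2 : (z₀ : G) * x * (z₀ : G)⁻¹ * x⁻¹ ∈ K ⊓ ((pCore 2 (Subgroup.centralizer ({b} : Set G))).map
        (Subgroup.centralizer ({b} : Set G)).subtype) := by
      constructor
      · have h3 : (z₀ : G) * x * (z₀ : G)⁻¹ ∈ K :=
          (Subgroup.mem_normalizer_iff.mp (hQK hzQ) x).mp hxK
        exact K.mul_mem h3 (K.inv_mem hxK)
      · refine ⟨_, h1, ?_⟩
        simp only [Subgroup.coe_subtype, Subgroup.coe_mul, Subgroup.coe_inv, hz'eq']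
        group
    rw [hKO, Subgroup.mem_bot] at h2
    apply L1 x hxK
    calc x * (z₀ : G) = ((z₀ : G) * x * (z₀ : G)⁻¹ * x⁻¹)⁻¹ * ((z₀ : G) * x) := by group
      _ = (z₀ : G) * x := by rw [h2]; group
  -- centralizer of `z b` in `K`
  have L3 : ∀ x ∈ K, x * ((z₀ : G) * b) = ((z₀ : G) * b) * x → x = 1 := by
    intro x hxK hx
    have h1 : q⁻¹ * x * q⁻¹⁻¹ ∈ K :=
      (Subgroup.mem_normalizer_iff.mp (hQK (Q.inv_mem hqQ)) x).mp hxK
    have h2 : (q⁻¹ * x * q⁻¹⁻¹) * b = b * (q⁻¹ * x * q⁻¹⁻¹) := by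
      have e1 : (q⁻¹ * x * q⁻¹⁻¹) * b = q⁻¹ * (x * (q * b * q⁻¹)) * q := by group
      have e2 : b * (q⁻¹ * x * q⁻¹⁻¹) = q⁻¹ * ((q * b * q⁻¹) * x) * q := by group
      rw [e1, e2, hqb, hx]
    have h3 := L2 _ h1 h2
    calc x = q * (q⁻¹ * x * q⁻¹⁻¹) * q⁻¹ := by group
      _ = 1 := by rw [h3]; group
  -- the four-group
  set A := fourGroup (z₀ : G) b hzsq hbsq hzb with hA
  have hAQ : A ≤ Q := by
    intro x hx
    rcases mem_fourGroup.mp hx with rfl | rfl | rfl | rfl
    · exact Q.one_mem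
    · exact hzQ
    · exact hbQ
    · exact Q.mul_mem hzQ hbQ
  have hAcomm : ∀ x ∈ A, ∀ y ∈ A, x * y = y * x := by
    have hxz : ∀ x ∈ A, x * (z₀ : G) = (z₀ : G) * x := fun x hx => (hzcomm x (hAQ hx)).symm
    have hxb : ∀ x ∈ A, x * b = b * x := by
      intro x hx
      rcases mem_fourGroup.mp hx with rfl | rfl | rfl | rfl
      · simp
      · exact hzb
      · rfl
      · rw [mul_assoc, hbsq, mul_one, ← mul_assoc, ← hzb, mul_assoc, hbsq, mul_one]
    intro x hx y hy
    rcases mem_fourGroup.mp hy with rfl | rfl | rfl | rfl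
    · simp
    · exact hxz x hx
    · exact hxb x hx
    · rw [← mul_assoc, hxz x hx, mul_assoc, hxb x hx, mul_assoc]
  haveI : IsMulCommutative A := ⟨⟨fun x y => Subtype.ext (hAcomm x x.2 y y.2)⟩⟩
  have hbne : b ≠ 1 := by
    intro h
    rw [h, orderOf_one] at hb
    omega
  have hbz : b ≠ (z₀ : G) := fun h => hbZ ((hZmem b).mpr (Or.inr h))
  have hAnc : ¬ IsCyclic A := by
    intro hcyc
    haveI : Fintype A := Fintype.ofFinite A
    have h1 := IsCyclic.card_pow_eq_one_le (α := A) (n := 2) (by norm_num)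
    have hzA : (z₀ : G) ∈ A := mem_fourGroup.mpr (Or.inr (Or.inl rfl))
    have hbA : b ∈ A := mem_fourGroup.mpr (Or.inr (Or.inr (Or.inl rfl)))
    have hsub : ({1, ⟨(z₀ : G), hzA⟩, ⟨b, hbA⟩} : Finset A) ⊆
        Finset.univ.filter (fun a : A => a ^ 2 = 1) := by
      intro a ha
      simp only [Finset.mem_insert, Finset.mem_singleton] at ha
      rw [Finset.mem_filter]
      refine ⟨Finset.mem_univ _, ?_⟩
      rcases ha with rfl | rfl | rfl
      · simp
      · apply Subtype.ext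
        simp only [Subgroup.coe_pow, Subgroup.coe_one, pow_two]
        exact hzsq
      · apply Subtype.ext
        simp only [Subgroup.coe_pow, Subgroup.coe_one, pow_two]
        exact hbsq
    have h2 := Finset.card_le_card hsub
    have h3 : ({1, ⟨(z₀ : G), hzA⟩, ⟨b, hbA⟩} : Finset A).card = 3 := by
      rw [Finset.card_eq_three]
      refine ⟨1, ⟨(z₀ : G), hzA⟩, ⟨b, hbA⟩, ?_, ?_, ?_, rfl⟩
      · intro h; exact hzne (congrArg Subtype.val h).symm
      · intro h; exact hbne (congrArg Subtype.val h).symm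
      · intro h; exact hbz (congrArg Subtype.val h).symm
    omega
  have hAK : A ≤ Subgroup.normalizer (K : Set G) := le_trans hAQ hQK
  have hAp : IsPGroup 2 A := hQp.of_injective (Subgroup.inclusion hAQ) (Subgroup.inclusion_injective hAQ)
  obtain ⟨nA, hnA⟩ := IsPGroup.iff_card.mp hAp
  have hcopA : (Nat.card A).Coprime (Nat.card K) := by
    rw [hnA]; exact (hcop2 nA).symm
  have hgen := Cfsg.Agent.Lib.Helper1.iSup_inf_centralizer_eq_of_not_isCyclic A K hAnc hAK hcopA
  rw [eq_bot_iff, ← hgen]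
  apply iSup₂_le
  rintro a ⟨haA, ha1⟩ y ⟨hyK, hyC⟩
  rw [Subgroup.mem_bot]
  have hyC' : y ∈ Subgroup.centralizer ({a} : Set G) := hyC
  rw [Subgroup.mem_centralizer_iff] at hyC'
  have hay : a * y = y * a := hyC' a rfl
  rcases mem_fourGroup.mp haA with rfl | rfl | rfl | rfl
  · exact absurd rfl ha1
  · exact L1 y hyK hay.symm
  · exact L2 y hyK hay.symm
  · exact L3 y hyK hay.symm

end Cfsg.Agent.S5421
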