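import Cfsg.Statements.S5255
import Cfsg.Agent.Lib.Helper27.FusionLift

set_option autoImplicit false
open Cfsg

namespace Cfsg.Agent.S5255

open Cfsg.FusionSystem Cfsg.Agent.Lib.Helper27

open scoped Pointwise in
theorem mem_sup_centralizerIn_iff {Ω : Type*} [Group Ω] {S : Subgroup Ω} [Finite S]
    {F : Cfsg.FusionSystem S} {T : Subgroup Ω} (hT : F.StronglyClosed T) {g : Ω} :
    g ∈ T ⊔ centralizerIn S T ↔ g ∈ S ∧ ∃ t ∈ T, ∀ y ∈ T, g * y * g⁻¹ = t * y * t⁻¹ := by
  constructor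
  · intro hg
    have hg' : g ∈ ((T ⊔ centralizerIn S T : Subgroup Ω) : Set Ω) := hg
    rw [Subgroup.coe_mul_of_right_le_normalizer_left T (centralizerIn S T)
      ((centralizerIn_le_S S T).trans (le_normalizer_of_stronglyClosed hT))] at hg'
    obtain ⟨t, ht, c, hc, rfl⟩ := hg'
    rw [SetLike.mem_coe, mem_centralizerIn_iff] at hc
    refine ⟨S.mul_mem (hT.1 ht) hc.1, t, ht, fun y hy => ?_⟩
    have := hc.2 y hy
    calc t * c * y * (t * c)⁻¹ = t * (c * y) * c⁻¹ * t⁻¹ := by group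
      _ = t * (y * c) * c⁻¹ * t⁻¹ := by rw [this]
      _ = t * y * t⁻¹ := by group
  · rintro ⟨hgS, t, ht, h⟩
    have hc : t⁻¹ * g ∈ centralizerIn S T := by
      rw [mem_centralizerIn_iff]
      refine ⟨S.mul_mem (S.inv_mem (hT.1 ht)) hgS, fun y hy => ?_⟩
      have := h y hy
      calc y * (t⁻¹ * g) = t⁻¹ * (t * y * t⁻¹) * g := by group
        _ = t⁻¹ * (g * y * g⁻¹) * g := by rw [this]
        _ = t⁻¹ * g * y := by group
    have : g = t * (t⁻¹ * g) := by group
    rw [this]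
    exact Subgroup.mul_mem _ ((le_sup_left : T ≤ T ⊔ centralizerIn S T) ht)
      ((le_sup_right : centralizerIn S T ≤ T ⊔ centralizerIn S T) hc)

/-- Let F be a saturated fusion system over a finite p-group S and T a subgroup of S strongly closed in F. Then T·C_S(T) is strongly closed in F. -/
theorem result {Ω : Type*} [Group Ω] {S : Subgroup Ω} [Finite S] (p : ℕ) [Fact p.Prime] (hS : IsPGroup p S) (F : Cfsg.FusionSystem S) (hF : F.IsSaturated p) (T : Subgroup Ω) (hT : F.StronglyClosed T) : F.StronglyClosed (T ⊔ Cfsg.FusionSystem.centralizerIn S T) := by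
  refine ⟨sup_le hT.1 (centralizerIn_le_S S T), fun R hR φ hφ x => ?_⟩
  obtain ⟨ψ, hψ, hψφ⟩ := exists_lift hS hF hT hφ
  have hx := (mem_sup_centralizerIn_iff hT).mp (hR x.2)
  obtain ⟨hxS, t, ht, hxt⟩ := hx
  have hTmap : (T.subgroupOf (R ⊔ T)).map ψ = T := stronglyClosed_map_eq' hT le_sup_right hψ
  -- ψ x ∈ D
  have hψx : ψ (Subgroup.inclusion le_sup_left x) ∈ T ⊔ centralizerIn S T := by
    rw [mem_sup_centralizerIn_iff hT]
    refine ⟨(F.le_of_mem hψ).2 _, ψ (Subgroup.inclusion le_sup_right ⟨t, ht⟩), ?_, fun y hy => ?_⟩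
    · exact stronglyClosed_hom_mem hT hψ ht
    · rw [← hTmap] at hy
      obtain ⟨z, hz, rfl⟩ := hy
      have hz' : (z : Ω) ∈ T := Subgroup.mem_subgroupOf.mp hz
      have heq : Subgroup.inclusion le_sup_left x * z * (Subgroup.inclusion le_sup_left x)⁻¹ =
          Subgroup.inclusion le_sup_right ⟨t, ht⟩ * z * (Subgroup.inclusion le_sup_right ⟨t, ht⟩)⁻¹ := by
        apply Subtype.ext
        exact hxt z hz'
      have := congrArg ψ heq
      rw [map_mul, map_mul, map_inv, map_mul, map_mul, map_inv] at this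
      exact this
  have h1 : φ x = ψ (Subgroup.inclusion le_sup_left x) *
      ((φ x)⁻¹ * ψ (Subgroup.inclusion le_sup_left x))⁻¹ := by group
  rw [h1]
  exact Subgroup.mul_mem _ hψx (Subgroup.inv_mem _ ((le_sup_left : T ≤ T ⊔ centralizerIn S T) (hψφ x)))

end Cfsg.Agent.S5255
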