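import Cfsg.Statements.S1030
import Cfsg.Agent.Lib.Helper8.ChevSL2b

set_option autoImplicit false
open Cfsg

namespace Cfsg.Agent.S1030

open Cfsg.Agent.Lib.Helper8.Chev Cfsg.Agent.Lib.Helper8.SL2P

/-- There is a homomorphism `SL₂(F) → GL` with image `⟨X_r, X_{-r}⟩` sending `[[1,t],[0,1]]` to `x_r(t)` and `[[1,0],[t,1]]` to `x_{-r}(t)`. -/
theorem result {F : Type*} [Field F] (D : Cfsg.Lie.ChevalleyDatum) (hD : D ∈ [Cfsg.Lie.chevG2, Cfsg.Lie.chevB2, Cfsg.Lie.chevD4, Cfsg.Lie.chevF4, Cfsg.Lie.chevE6, Cfsg.Lie.chevE7, Cfsg.Lie.chevE8]) (r : ℕ) (hr : r < D.nroots) :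
    ∃ φ : Matrix.SpecialLinearGroup (Fin 2) F →* GL D.Idx F,
      φ.range = D.rootSubgroup F r ⊔ D.rootSubgroup F (D.neg r) ∧
      ∀ (g : Matrix.SpecialLinearGroup (Fin 2) F) (t : F),
        ((g : Matrix (Fin 2) (Fin 2) F) = !![1, t; 0, 1] → ((φ g : GL D.Idx F) : Matrix D.Idx D.Idx F) = D.x F r t) ∧
        ((g : Matrix (Fin 2) (Fin 2) F) = !![1, 0; t, 1] → ((φ g : GL D.Idx F) : Matrix D.Idx D.Idx F) = D.x F (D.neg r) t) := by
  have J := validJ_of_mem hD
  have V1 := valid1_of_mem hD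
  have HH := validH_of_mem hD
  have hnr := J.V.neg_lt hr
  have hnn : D.neg (D.neg r) = r := by
    rw [J.V.neg_eq _ hnr, J.V.neg_eq _ hr]
    omega
  let X : F → GL D.Idx F := fun t => wG D F [(r, t)]
  let Y : F → GL D.Idx F := fun t => wG D F [(D.neg r, t)]
  have cX : ∀ t, ((X t : GL D.Idx F) : Matrix D.Idx D.Idx F) = xN D F r t := by
    intro t
    show ((wG D F [(r, t)] : GL D.Idx F) : Matrix D.Idx D.Idx F) = _
    rw [coe_wG J.V V1 _ (by intro p hp; rw [List.mem_singleton] at hp; subst hp; exact hr),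
      wN_cons, wN_nil, Matrix.mul_one]
  have cY : ∀ t, ((Y t : GL D.Idx F) : Matrix D.Idx D.Idx F) = xN D F (D.neg r) t := by
    intro t
    show ((wG D F [(D.neg r, t)] : GL D.Idx F) : Matrix D.Idx D.Idx F) = _
    rw [coe_wG J.V V1 _ (by intro p hp; rw [List.mem_singleton] at hp; subst hp; exact hnr),
      wN_cons, wN_nil, Matrix.mul_one]
  have cW : ∀ t, ((W X Y t : GL D.Idx F) : Matrix D.Idx D.Idx F) = D.nMat F r t := by
    intro t
    unfold W
    rw [Units.val_mul, Units.val_mul, cX, cY, nMat_eq_mul]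
  have cH : ∀ t, ((H X Y t : GL D.Idx F) : Matrix D.Idx D.Idx F) = D.hMat F r t := by
    intro t
    unfold H
    rw [Units.val_mul, cW, cW, hMat_eq_nMat_mul]
  have R : Rel X Y :=
    { X_add := fun a b => by
        apply Units.ext
        rw [Units.val_mul, cX, cX, cX, xN_mul_xN F J.V V1 hr]
      Y_add := fun a b => by
        apply Units.ext
        rw [Units.val_mul, cY, cY, cY, xN_mul_xN F J.V V1 hnr]
      conj := fun t ht u => by
        apply Units.ext
        rw [Units.val_mul, Units.val_mul, cW, cX, cY]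
        exact nMat_mul_xN hD hr ht u
      hmul := fun t u ht hu => by
        apply Units.ext
        rw [Units.val_mul, cH, cH, cH, hMat_mul_hMat J V1 HH hr ht hu] }
  obtain ⟨φ, hx, hy, hrange⟩ := exists_hom R
  refine ⟨φ, ?_, ?_⟩
  · rw [hrange, Subgroup.closure_union]
    have h1 : D.rootSubgroup F r = Subgroup.closure (Set.range X) := by
      unfold Cfsg.Lie.ChevalleyDatum.rootSubgroup
      congr 1
      ext g
      constructor
      · rintro ⟨t, hg⟩
        exact ⟨t, Units.ext (by rw [cX, hg, x_eq_xN])⟩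
      · rintro ⟨t, rfl⟩
        exact ⟨t, by rw [cX, x_eq_xN]⟩
    have h2 : D.rootSubgroup F (D.neg r) = Subgroup.closure (Set.range Y) := by
      unfold Cfsg.Lie.ChevalleyDatum.rootSubgroup
      congr 1
      ext g
      constructor
      · rintro ⟨t, hg⟩
        exact ⟨t, Units.ext (by rw [cY, hg, x_eq_xN])⟩
      · rintro ⟨t, rfl⟩
        exact ⟨t, by rw [cY, x_eq_xN]⟩
    rw [h1, h2]
  · intro g t
    constructor
    · intro hg
      have : g = xs t := sl_ext (by rw [hg, coe_xs])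
      rw [this, hx, cX, x_eq_xN]
    · intro hg
      have : g = ys t := sl_ext (by rw [hg, coe_ys])
      rw [this, hy, cY, x_eq_xN]

end Cfsg.Agent.S1030
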