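import Cfsg.Statements.S5124
import Cfsg.Agent.H26.Hyperfocal
import Cfsg.Agent.S5087

set_option autoImplicit false
open Cfsg

namespace Cfsg.Agent.S5124

open Cfsg.Agent.H26 Cfsg.FusionSystem Cfsg.Agent.Lib.Helper27 Cfsg.Agent.Lib.Helper17

/-- In a saturated fusion system over a finite p-group S the hyperfocal subgroup is strongly closed in the system. -/
theorem result {Ω : Type*} [Group Ω] {S : Subgroup Ω} [Finite S] (p : ℕ) [Fact p.Prime] (hS : IsPGroup p S) (F : Cfsg.FusionSystem S) (hF : F.IsSaturated p) : F.StronglyClosed (F.hyperfocalSubgroup p) := by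
  have hTS : F.hyperfocalSubgroup p ≤ S := hyperfocal_le F p
  have hn : ∀ g ∈ S, ∀ x : Ω, x ∈ F.hyperfocalSubgroup p ↔ g * x * g⁻¹ ∈ F.hyperfocalSubgroup p :=
    fun g hg x => hyperfocal_conj_iff F p hg x
  let K : ∀ R : Subgroup Ω, Subgroup (MulAut R) := fun R =>
    { carrier := {β | ∀ x : R, (x : Ω) ∈ F.hyperfocalSubgroup p ↔ ((β x : R) : Ω) ∈ F.hyperfocalSubgroup p}
      one_mem' := fun x => Iff.rfl
      mul_mem' := by
        intro a b ha hb x
        rw [MulAut.mul_apply]
        exact (hb x).trans (ha (b x))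
      inv_mem' := by
        intro a ha x
        have := ha (a⁻¹ x)
        rw [MulAut.apply_inv_self] at this
        exact this.symm }
  have hFE := le_of_autInduced_pResidual hS hF
    (Cfsg.Agent.S5087.preservingSystem F (F.hyperfocalSubgroup p) hn) K
    (fun R α hα hαK => ⟨hα, hαK⟩)
    (by
      intro R hR
      unfold autInducedBy
      rw [Subgroup.closure_le]
      rintro β ⟨g, hg, hβ⟩ x
      show _ ↔ ((β x : R) : Ω) ∈ _
      rw [hβ x]
      exact hn g hg x)
    (by
      intro R hR α hα x
      have h := mem_hyperfocal F p hR α hα x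
      show _ ↔ (((α : MulAut R) x : R) : Ω) ∈ _
      constructor
      · intro hx
        have := Subgroup.mul_mem _ hx h
        rwa [mul_inv_cancel_left] at this
      · intro hx
        have := Subgroup.mul_mem _ hx (Subgroup.inv_mem _ h)
        rw [mul_inv_rev, inv_inv, mul_inv_cancel_left] at this
        exact this)
  refine ⟨hTS, fun R hR φ hφ x => ((hFE R hφ).2 x).mp (hR x.2)⟩

end Cfsg.Agent.S5124
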