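import Cfsg.Statements.S5256
import Cfsg.Agent.Lib.Helper27.FusionLift
import Cfsg.Agent.Lib.Helper27.FusionInduced
import Cfsg.Agent.Lib.Helper17.PResidual

set_option autoImplicit false
open Cfsg

namespace Cfsg.Agent.S5256

open Cfsg.FusionSystem Cfsg.Agent.Lib.Helper27 Cfsg.Agent.H26

variable {Ω : Type*} [Group Ω] {S : Subgroup Ω} {Ω' : Type*} [Group Ω'] {S' : Subgroup Ω'}

/-- hyp(F/T) ≤ θ(hyp F): the coprime case. -/
theorem lemmaA [Finite S] (p : ℕ) [Fact p.Prime] (F : Cfsg.FusionSystem S)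
    (T : Subgroup Ω) (θ : ↥S →* Ω') (E : Cfsg.FusionSystem S')
    (hE : F.IsFactorSystem T θ E) (P' : Subgroup Ω') (hP'S' : P' ≤ S') (α' : E.autGroup P')
    (hcop : (orderOf α').Coprime p) (x' : P') :
    (x' : Ω')⁻¹ * (((α' : MulAut P') x' : P') : Ω') ∈ ((F.hyperfocalSubgroup p).subgroupOf S).map θ := by
  obtain ⟨hTS, hker, hrange, hHom⟩ := hE
  have hα'iso : IsIso E ((α' : MulAut P') : P' ≃* P') := (mem_autGroup_iff E hP'S' α').mp α'.2
  obtain ⟨-, φ, hφ, hPS, hφS, hPP', hind⟩ := (hHom P' _).mp hα'iso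
  have hφP : ∀ x : preimageAlong θ P', φ x ∈ preimageAlong θ P' := by
    intro x
    refine mem_preimageAlong.mpr ⟨hφS x, ?_⟩
    rw [← hind x]
    exact ((α' : MulAut P') _).2
  haveI : Finite ↥(preimageAlong θ P') :=
    Finite.of_injective (Subgroup.inclusion hPS) (Subgroup.inclusion_injective hPS)
  have hinj : Function.Injective (φ.codRestrict (preimageAlong θ P') hφP) := by
    intro x y h
    exact F.injective_of_mem hφ (congrArg Subtype.val h)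
  let Φ : ↥(preimageAlong θ P') ≃* ↥(preimageAlong θ P') :=
    MulEquiv.ofBijective (φ.codRestrict (preimageAlong θ P') hφP)
      ⟨hinj, Finite.injective_iff_surjective.mp hinj⟩
  have hΦφ : ∀ x, ((Φ x : ↥(preimageAlong θ P')) : Ω) = φ x := fun x => rfl
  have hΦ : IsIso F Φ := isIso_of_hom_of_eq hφ hΦφ
  have hΦA : (Φ : MulAut ↥(preimageAlong θ P')) ∈ F.autGroup (preimageAlong θ P') :=
    (mem_autGroup_iff F hPS Φ).mpr hΦ
  have hstep : ∀ x : ↥(preimageAlong θ P'),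
      θ ⟨((Φ x : ↥(preimageAlong θ P')) : Ω), hPS (Φ x).2⟩ =
        (((α' : MulAut P') ⟨θ ⟨x, hPS x.2⟩, hPP' x⟩ : P') : Ω') := by
    intro x
    have := hind x
    simp only [MonoidHom.coe_comp, Function.comp_apply, Subgroup.coe_subtype, MulEquiv.coe_toMonoidHom] at this
    rw [this]
    rfl
  have hpow : ∀ (n : ℕ) (x : ↥(preimageAlong θ P')),
      θ ⟨((((Φ : MulAut ↥(preimageAlong θ P')) ^ n) x : ↥(preimageAlong θ P')) : Ω),
        hPS (((Φ : MulAut ↥(preimageAlong θ P')) ^ n) x).2⟩ =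
        ((((α' : MulAut P') ^ n) ⟨θ ⟨x, hPS x.2⟩, hPP' x⟩ : P') : Ω') := by
    intro n
    induction n with
    | zero => intro x; simp
    | succ n ih =>
      intro x
      rw [pow_succ, pow_succ, MulAut.mul_apply, MulAut.mul_apply, ih (Φ x)]
      congr 2
      exact Subtype.ext (hstep x)
  obtain ⟨k, hk1, hk2⟩ := exists_pow_coprime p (⟨Φ, hΦA⟩ : F.autGroup (preimageAlong θ P')) α' hcop
  have hu : (⟨Φ, hΦA⟩ : F.autGroup (preimageAlong θ P')) ^ k ∈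
      Cfsg.pResidual p (F.autGroup (preimageAlong θ P')) :=
    Cfsg.Agent.Lib.Helper17.mem_pResidual_of_coprime hk2
  -- a preimage of x'
  have hx'S' : (x' : Ω') ∈ θ.range := hrange ▸ hP'S' x'.2
  obtain ⟨s, hs⟩ := hx'S'
  have hsP : (s : Ω) ∈ preimageAlong θ P' := mem_preimageAlong.mpr ⟨s.2, by
    rw [show (⟨(s : Ω), s.2⟩ : S) = s from rfl, hs]; exact x'.2⟩
  have hy : ((⟨s, hsP⟩ : ↥(preimageAlong θ P')) : Ω)⁻¹ *
      (((((⟨Φ, hΦA⟩ : F.autGroup (preimageAlong θ P')) ^ k : F.autGroup (preimageAlong θ P')) :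
        MulAut ↥(preimageAlong θ P')) ⟨s, hsP⟩ : ↥(preimageAlong θ P')) : Ω) ∈ F.hyperfocalSubgroup p := by
    apply Subgroup.subset_closure
    exact ⟨_, _, ⟨s, hsP⟩, hPS, hu, rfl⟩
  have hyS : ((⟨s, hsP⟩ : ↥(preimageAlong θ P')) : Ω)⁻¹ *
      (((((⟨Φ, hΦA⟩ : F.autGroup (preimageAlong θ P')) ^ k : F.autGroup (preimageAlong θ P')) :
        MulAut ↥(preimageAlong θ P')) ⟨s, hsP⟩ : ↥(preimageAlong θ P')) : Ω) ∈ S :=
    S.mul_mem (S.inv_mem s.2) (hPS (_ : ↥(preimageAlong θ P')).2)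
  refine ⟨⟨_, hyS⟩, Subgroup.mem_subgroupOf.mpr hy, ?_⟩
  have h1 := hpow k ⟨s, hsP⟩
  have h2 : (((⟨Φ, hΦA⟩ : F.autGroup (preimageAlong θ P')) ^ k : F.autGroup (preimageAlong θ P')) :
      MulAut ↥(preimageAlong θ P')) = (Φ : MulAut ↥(preimageAlong θ P')) ^ k := by
    simp
  have h3 : ((α' : MulAut P') ^ k) = (α' : MulAut P') := by
    have := congrArg (fun β : E.autGroup P' => (β : MulAut P')) hk1
    simpa using this
  have h4 : (⟨θ ⟨(s : Ω), hPS hsP⟩, hPP' ⟨s, hsP⟩⟩ : P') = x' := Subtype.ext hs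
  rw [h3, h4] at h1
  have h5 : (⟨_, hyS⟩ : S) = s⁻¹ * ⟨_, hPS (((Φ : MulAut ↥(preimageAlong θ P')) ^ k) ⟨s, hsP⟩).2⟩ := by
    apply Subtype.ext
    simp only [Subgroup.coe_mul, Subgroup.coe_inv]
    rw [h2]
  rw [h5, map_mul, map_inv, h1, hs]

/-- θ(hyp F) ≤ hyp(F/T): the coprime case. -/
theorem lemmaB [Finite S] (p : ℕ) [Fact p.Prime] (hS : IsPGroup p S) (F : Cfsg.FusionSystem S)
    (hF : F.IsSaturated p) (T : Subgroup Ω) (hT : F.StronglyClosed T) (θ : ↥S →* Ω')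
    (E : Cfsg.FusionSystem S') (hE : F.IsFactorSystem T θ E) (P : Subgroup Ω) (hPS : P ≤ S)
    (α : F.autGroup P) (hcop : (orderOf α).Coprime p) (x : P) :
    (x : Ω)⁻¹ * (((α : MulAut P) x : P) : Ω) ∈
      ((E.hyperfocalSubgroup p).comap θ).map S.subtype := by
  obtain ⟨hTS, hker, hrange, hHom⟩ := hE
  have hαiso : IsIso F ((α : MulAut P) : P ≃* P) := (mem_autGroup_iff F hPS α).mp α.2
  have hα' : (orderOf (α : MulAut P)).Coprime p := by
    rw [Subgroup.orderOf_coe]; exact hcop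
  obtain ⟨u, hu, hucop, huα⟩ := exists_lift_coprime hS hF hT hαiso hα'
  have hP₁S : P ⊔ T ≤ S := sup_le hPS hTS
  haveI : Finite ↥(P ⊔ T) := Finite.of_injective (Subgroup.inclusion hP₁S) (Subgroup.inclusion_injective hP₁S)
  have hpre : preimageAlong θ (imageAlong θ (P ⊔ T)) = P ⊔ T :=
    preimageAlong_imageAlong θ hker le_sup_right hP₁S
  have hψS : ∀ z : ↥(P ⊔ T), ((P ⊔ T).subtype.comp u.toMonoidHom) z ∈ S := fun z => hP₁S (u z).2
  have hkerψ : ∀ z : ↥(P ⊔ T), θ ⟨z, hP₁S z.2⟩ = 1 →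
      θ ⟨((P ⊔ T).subtype.comp u.toMonoidHom) z, hψS z⟩ = 1 := by
    intro z hz
    have h1 : (z : Ω) ∈ T := (hker _).mp hz
    exact (hker _).mpr (stronglyClosed_aut_mem hT hu h1)
  have hP'mem : ∀ z : ↥(P ⊔ T), θ ⟨z, hP₁S z.2⟩ ∈ imageAlong θ (P ⊔ T) :=
    fun z => ⟨⟨z, hP₁S z.2⟩, Subgroup.mem_subgroupOf.mpr z.2, rfl⟩
  have hsurj : ∀ y ∈ imageAlong θ (P ⊔ T), ∃ z : ↥(P ⊔ T), θ ⟨z, hP₁S z.2⟩ = y := by
    rintro y ⟨s, hs, rfl⟩
    exact ⟨⟨s, Subgroup.mem_subgroupOf.mp hs⟩, rfl⟩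
  obtain ⟨ū, hū⟩ := exists_induced_hom θ hP₁S ((P ⊔ T).subtype.comp u.toMonoidHom) hψS hkerψ hP'mem hsurj
  have hP'S' : imageAlong θ (P ⊔ T) ≤ S' := by
    rintro y ⟨s, -, rfl⟩
    rw [← hrange]; exact ⟨s, rfl⟩
  -- ū is a map of E
  have hūE : ū ∈ E.Hom (imageAlong θ (P ⊔ T)) := by
    rw [hHom]
    refine ⟨hP'S', ((P ⊔ T).subtype.comp u.toMonoidHom).comp (Subgroup.inclusion hpre.le),
      hom_restrict F hpre.le hu, preimageAlong_le θ _, fun z => hψS _,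
      fun z => (mem_preimageAlong.mp z.2).2, fun z => ?_⟩
    exact hū (Subgroup.inclusion hpre.le z)
  have hūval : ∀ y : ↥(imageAlong θ (P ⊔ T)), ū y ∈ imageAlong θ (P ⊔ T) := by
    rintro ⟨y, hy⟩
    obtain ⟨z, rfl⟩ := hsurj y hy
    rw [hū z]
    exact hP'mem (u z)
  haveI : Finite ↥(imageAlong θ (P ⊔ T)) :=
    Finite.of_surjective (fun z : ↥(P ⊔ T) => (⟨θ ⟨z, hP₁S z.2⟩, hP'mem z⟩ : ↥(imageAlong θ (P ⊔ T))))
      (by
        rintro ⟨y, hy⟩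
        obtain ⟨z, rfl⟩ := hsurj y hy
        exact ⟨z, rfl⟩)
  have hinj : Function.Injective (ū.codRestrict (imageAlong θ (P ⊔ T)) hūval) := by
    intro a b h
    exact E.injective_of_mem hūE (congrArg Subtype.val h)
  let U : ↥(imageAlong θ (P ⊔ T)) ≃* ↥(imageAlong θ (P ⊔ T)) :=
    MulEquiv.ofBijective (ū.codRestrict (imageAlong θ (P ⊔ T)) hūval)
      ⟨hinj, Finite.injective_iff_surjective.mp hinj⟩
  have hUū : ∀ y, ((U y : ↥(imageAlong θ (P ⊔ T))) : Ω') = ū y := fun y => rfl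
  have hU : IsIso E U := isIso_of_hom_of_eq hūE hUū
  have hUA : (U : MulAut ↥(imageAlong θ (P ⊔ T))) ∈ E.autGroup (imageAlong θ (P ⊔ T)) :=
    (mem_autGroup_iff E hP'S' U).mpr hU
  have hUstep : ∀ z : ↥(P ⊔ T), U ⟨θ ⟨z, hP₁S z.2⟩, hP'mem z⟩ = ⟨θ ⟨u z, hP₁S (u z).2⟩, hP'mem (u z)⟩ := by
    intro z
    apply Subtype.ext
    rw [hUū, hū z]
    rfl
  have hpow : ∀ (n : ℕ) (z : ↥(P ⊔ T)),
      ((U : MulAut ↥(imageAlong θ (P ⊔ T))) ^ n) ⟨θ ⟨z, hP₁S z.2⟩, hP'mem z⟩ =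
        ⟨θ ⟨(((u : MulAut ↥(P ⊔ T)) ^ n) z : ↥(P ⊔ T)), hP₁S (((u : MulAut ↥(P ⊔ T)) ^ n) z).2⟩,
          hP'mem (((u : MulAut ↥(P ⊔ T)) ^ n) z)⟩ := by
    intro n
    induction n with
    | zero => intro z; simp
    | succ n ih =>
      intro z
      rw [pow_succ, pow_succ, MulAut.mul_apply, MulAut.mul_apply]
      have h1 : (U : MulAut ↥(imageAlong θ (P ⊔ T))) ⟨θ ⟨z, hP₁S z.2⟩, hP'mem z⟩ =
          ⟨θ ⟨u z, hP₁S (u z).2⟩, hP'mem (u z)⟩ := hUstep z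
      rw [h1, ih (u z)]
  have hUcop : (orderOf (⟨U, hUA⟩ : E.autGroup (imageAlong θ (P ⊔ T)))).Coprime p := by
    rw [Subgroup.orderOf_mk]
    refine Nat.Coprime.coprime_dvd_left (orderOf_dvd_of_pow_eq_one ?_) hucop
    ext ⟨y, hy⟩
    obtain ⟨z, rfl⟩ := hsurj y hy
    rw [hpow, pow_orderOf_eq_one]
    rfl
  have hUres : (⟨U, hUA⟩ : E.autGroup (imageAlong θ (P ⊔ T))) ∈
      Cfsg.pResidual p (E.autGroup (imageAlong θ (P ⊔ T))) :=
    Cfsg.Agent.Lib.Helper17.mem_pResidual_of_coprime hUcop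
  -- the generator of hyp E
  have hgen : ((⟨θ ⟨Subgroup.inclusion le_sup_left x, hP₁S (Subgroup.inclusion le_sup_left x).2⟩,
      hP'mem (Subgroup.inclusion le_sup_left x)⟩ : ↥(imageAlong θ (P ⊔ T))) : Ω')⁻¹ *
      ((U ⟨θ ⟨Subgroup.inclusion le_sup_left x, hP₁S (Subgroup.inclusion le_sup_left x).2⟩,
        hP'mem (Subgroup.inclusion le_sup_left x)⟩ : ↥(imageAlong θ (P ⊔ T))) : Ω') ∈
      E.hyperfocalSubgroup p := by
    apply Subgroup.subset_closure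
    exact ⟨_, ⟨U, hUA⟩, _, hP'S', hUres, rfl⟩
  rw [hUstep] at hgen
  -- conclusion
  have hxS : (x : Ω) ∈ S := hPS x.2
  have hαxS : (((α : MulAut P) x : P) : Ω) ∈ S := hPS ((α : MulAut P) x).2
  have huxS : ((u (Subgroup.inclusion le_sup_left x) : ↥(P ⊔ T)) : Ω) ∈ S :=
    hP₁S (u (Subgroup.inclusion le_sup_left x)).2
  have hmem : (x : Ω)⁻¹ * (((α : MulAut P) x : P) : Ω) ∈ S := S.mul_mem (S.inv_mem hxS) hαxS
  refine ⟨⟨_, hmem⟩, ?_, rfl⟩
  show θ ⟨_, hmem⟩ ∈ E.hyperfocalSubgroup p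
  have h1 : θ ⟨(((α : MulAut P) x : P) : Ω), hαxS⟩ =
      θ ⟨((u (Subgroup.inclusion le_sup_left x) : ↥(P ⊔ T)) : Ω), huxS⟩ := by
    have h2 := (hker ⟨_, S.mul_mem (S.inv_mem hαxS) huxS⟩).mpr (huα x)
    have h3 : (⟨_, S.mul_mem (S.inv_mem hαxS) huxS⟩ : S) =
        (⟨_, hαxS⟩ : S)⁻¹ * ⟨_, huxS⟩ := rfl
    rw [h3, map_mul, map_inv] at h2
    exact (inv_mul_eq_one.mp h2)
  have h4 : (⟨_, hmem⟩ : S) = (⟨x, hxS⟩ : S)⁻¹ * ⟨_, hαxS⟩ := rfl
  rw [h4, map_mul, map_inv, h1]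
  exact hgen

/-- Let F be a saturated fusion system over a finite p-group S, T a subgroup of S strongly closed in F, and E a factor system F/T realised along a homomorphism θ of S with kernel T. Then the hyperfocal subgroup of E is the image under θ of the hyperfocal subgroup of F (hyp(F/T) = T·hyp(F)/T). -/
theorem result {Ω : Type*} [Group Ω] {S : Subgroup Ω} [Finite S] (p : ℕ) [Fact p.Prime] (hS : IsPGroup p S) (F : Cfsg.FusionSystem S) (hF : F.IsSaturated p) (T : Subgroup Ω) (hT : F.StronglyClosed T) {Ω' : Type*} [Group Ω'] {S' : Subgroup Ω'} (θ : ↥S →* Ω') (E : Cfsg.FusionSystem S') (hE : F.IsFactorSystem T θ E) : E.hyperfocalSubgroup p = ((F.hyperfocalSubgroup p).subgroupOf S).map θ := by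
  apply le_antisymm
  · show Subgroup.closure _ ≤ _
    rw [Subgroup.closure_le]
    rintro y ⟨P', α', x', hP'S', hα', rfl⟩
    exact commutator_mem_of_pResidual (E.autGroup P') p _
      (fun α hα x => lemmaA p F T θ E hE P' hP'S' α hα x) α' hα' x'
  · have hle : F.hyperfocalSubgroup p ≤ ((E.hyperfocalSubgroup p).comap θ).map S.subtype := by
      show Subgroup.closure _ ≤ _
      rw [Subgroup.closure_le]
      rintro y ⟨P, α, x, hPS, hα, rfl⟩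
      exact commutator_mem_of_pResidual (F.autGroup P) p _
        (fun α hα x => lemmaB p hS F hF T hT θ E hE P hPS α hα x) α hα x
    rintro _ ⟨s, hs, rfl⟩
    obtain ⟨s', hs', hss'⟩ := hle (Subgroup.mem_subgroupOf.mp hs)
    have : s' = s := Subtype.ext hss'
    rw [← this]
    exact hs'

end Cfsg.Agent.S5256
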