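import Cfsg.Statements.S0369
import Cfsg.Agent.Lib.Helper28.M24Act

set_option autoImplicit false
open Cfsg

namespace Cfsg.Agent.S0369

open Cfsg.Agent.Lib.Helper28
open scoped Pointwise

theorem h28_bsupp_comp_symm (w : GolayPt → ZMod 2) (σ : Equiv.Perm GolayPt) :
    bsupp (fun i => w (σ.symm i)) = σ • bsupp w := by
  rw [← support₂_eq_bsupp, ← support₂_eq_bsupp]
  exact support₂_comp_symm w σ

/-- The group of the length-24 code coincides with the automorphism group of its octad system. -/
theorem result : Cfsg.M24 = Cfsg.setSystemAut Cfsg.octads := by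
  apply le_antisymm
  · intro g hg
    show g ∈ MulAction.stabilizer (Equiv.Perm GolayPt) octads
    rw [MulAction.mem_stabilizer_set_iff_smul_set_subset (Set.toFinite _)]
    rintro _ ⟨o, ho, rfl⟩
    exact smul_mem_octads hg ho
  · intro g hg
    have hg' : g • octads = octads := MulAction.mem_stabilizer_iff.mp hg
    apply mem_M24_of_comp_symm
    -- the linear map `w ↦ w ∘ g⁻¹`
    let Lg : (GolayPt → ZMod 2) →ₗ[ZMod 2] (GolayPt → ZMod 2) :=
      { toFun := fun w i => w (g.symm i)
        map_add' := fun _ _ => rfl
        map_smul' := fun _ _ => rfl }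
    have hle : golayCode ≤ golayCode.comap Lg := by
      conv_lhs => rw [← golayCode_isGolayLike.span_octads]
      rw [Submodule.span_le]
      rintro w ⟨hw, h8⟩
      show Lg w ∈ golayCode
      have ho : bsupp w ∈ octads := by
        rw [mem_octads_iff]
        exact ⟨by rw [bind_bsupp]; exact hw, by rw [← hammingNorm_eq_card_bsupp]; exact h8⟩
      have ho' : g • bsupp w ∈ octads := by
        rw [← hg']; exact Set.smul_mem_smul_set ho
      rw [mem_octads_iff] at ho'
      have : Lg w = bind (g • bsupp w) := by
        rw [← h28_bsupp_comp_symm, bind_bsupp]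
        rfl
      rw [this]
      exact ho'.1
    intro w hw
    exact hle hw

end Cfsg.Agent.S0369
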