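import Cfsg.Statements.S0383
import Cfsg.Agent.Lib.Helper28.M12Simple
import Cfsg.Agent.Lib.Helper28.M24Transport

set_option autoImplicit false
open scoped Pointwise
open Cfsg

namespace Cfsg.Agent.S0383

/-- A dodecad stabiliser in the group of the length-24 code is simple. -/
theorem result (d : Finset Cfsg.GolayPt) (hd : d ∈ Cfsg.dodecads) : IsSimpleGroup (MulAction.stabilizer Cfsg.M24 d) := by
  obtain ⟨h, hh, rfl⟩ := Cfsg.Agent.Lib.Helper28.exists_M24_map_baseDodecad hd
  have hs : IsSimpleGroup ↥(Cfsg.M24 ⊓ MulAction.stabilizer (Equiv.Perm Cfsg.GolayPt)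
      Cfsg.Agent.Lib.Helper28.baseDodecad) := Cfsg.Agent.Lib.Helper28.M12_isSimpleGroup
  exact (Cfsg.Agent.Lib.Helper28.stabEquiv hh Cfsg.Agent.Lib.Helper28.baseDodecad).isSimpleGroup


end Cfsg.Agent.S0383
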