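import Mathlib
import Cfsg.Statements.S0385
import Cfsg.Agent.Lib.Helper3.Dodecad

set_option autoImplicit false
open Cfsg

namespace Cfsg.Agent.S0385

open Cfsg.Agent.Lib.Helper3.Steiner Cfsg.Agent.Lib.Helper28 Finset

/-- The 6-point intersections of octads with a fixed dodecad form a Steiner system S(5, 6, 12) on the dodecad. -/
theorem result (d : Finset Cfsg.GolayPt) (hd : d ∈ Cfsg.dodecads) : Cfsg.IsSteinerSystem 5 6 {h : Finset {p : Cfsg.GolayPt // p ∈ d} | ∃ o ∈ Cfsg.octads, (o ∩ d).card = 6 ∧ h = Finset.subtype (fun p => p ∈ d) o} := by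
  have hS := octads_isSteinerSystem
  constructor
  · rintro h ⟨o, _, h6, rfl⟩
    rw [Finset.card_subtype, ← h6]
    congr 1
  · intro s hs
    set s0 : Finset GolayPt := s.map (Function.Embedding.subtype _) with hs0
    have hs0d : s0 ⊆ d := by
      intro x hx
      rw [hs0, mem_map] at hx
      obtain ⟨y, _, rfl⟩ := hx
      exact y.2
    have hs0c : s0.card = 5 := by rw [hs0, card_map, hs]
    obtain ⟨o, ⟨ho, hso⟩, huniq⟩ := hS.2 s0 hs0c
    have h6 : (o ∩ d).card = 6 := by
      have h1 := dodecad_inter_octad hd ho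
      have h2 : s0 ⊆ d ∩ o := subset_inter hs0d hso
      have h3 := card_le_card h2
      rw [inter_comm] at h1
      rw [inter_comm] at h3
      omega
    refine ⟨Finset.subtype (fun p => p ∈ d) o, ⟨⟨o, ho, h6, rfl⟩, ?_⟩, ?_⟩
    · intro x hx
      rw [mem_subtype]
      apply hso
      rw [hs0, mem_map]
      exact ⟨x, hx, rfl⟩
    · rintro h' ⟨⟨o', ho', _, rfl⟩, hsub⟩
      have : o' = o := by
        apply huniq o' ⟨ho', ?_⟩
        intro x hx
        rw [hs0, mem_map] at hx
        obtain ⟨y, hy, rfl⟩ := hx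
        have := hsub hy
        rw [mem_subtype] at this
        exact this
      rw [this]

end Cfsg.Agent.S0385
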