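import Cfsg.Statements.S1560
import Cfsg.Agent.Lib.Helper28.DodecadClasses

set_option autoImplicit false
open scoped Pointwise
open Cfsg

namespace Cfsg.Agent.S1560

open Cfsg.Agent.Lib.Helper28


/-- Intersection numbers of dodecads: a dodecad meets every other dodecad in 0, 4, 6 or 8 points, meeting 495 of them in 4 points, 1584 in 6 points and 495 in 8 points. -/
theorem result (d : Finset Cfsg.GolayPt) (hd : d ∈ Cfsg.dodecads) : (∀ d' ∈ Cfsg.dodecads, d' ≠ d → (d ∩ d').card = 0 ∨ (d ∩ d').card = 4 ∨ (d ∩ d').card = 6 ∨ (d ∩ d').card = 8) ∧ {d' : Finset Cfsg.GolayPt | d' ∈ Cfsg.dodecads ∧ (d ∩ d').card = 4}.ncard = 495 ∧ {d' : Finset Cfsg.GolayPt | d' ∈ Cfsg.dodecads ∧ (d ∩ d').card = 6}.ncard = 1584 ∧ {d' : Finset Cfsg.GolayPt | d' ∈ Cfsg.dodecads ∧ (d ∩ d').card = 8}.ncard = 495 := by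
  obtain ⟨h1, h2, _⟩ := dodecad_classes hd
  refine ⟨?_, h2 2, h2 3, h2 4⟩
  intro d' hd' hne
  obtain ⟨i, hi⟩ := h1 d' hd'
  fin_cases i
  · exfalso
    apply hne
    have hc : d.card = 12 := ((mem_dodecads_iff d).mp hd).2
    have hc' : d'.card = 12 := ((mem_dodecads_iff d').mp hd').2
    have hi' : (d ∩ d').card = 12 := hi
    have hsub : d ∩ d' = d := Finset.eq_of_subset_of_card_le Finset.inter_subset_left (by rw [hi', hc])
    have hsub' : d ⊆ d' := by rw [← hsub]; exact Finset.inter_subset_right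
    exact (Finset.eq_of_subset_of_card_le hsub' (by rw [hc, hc'])).symm
  · exact Or.inl hi
  · exact Or.inr (Or.inl hi)
  · exact Or.inr (Or.inr (Or.inl hi))
  · exact Or.inr (Or.inr (Or.inr hi))


end Cfsg.Agent.S1560
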