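import Cfsg.Statements.S0387
import Cfsg.Agent.Lib.Helper28.M12Trans

set_option autoImplicit false
open scoped Pointwise
open Cfsg

namespace Cfsg.Agent.S0387

/-- The stabiliser of a dodecad and a point on it has order 7920 = 2^4·3^2·5·11. -/
theorem result (d : Finset Cfsg.GolayPt) (hd : d ∈ Cfsg.dodecads) (p : Cfsg.GolayPt) (hp : p ∈ d) : Nat.card ↥(MulAction.stabilizer Cfsg.M24 d ⊓ MulAction.stabilizer Cfsg.M24 p) = 7920 := by
  have h1 := Cfsg.Agent.Lib.Helper28.card_eq_orbit_mul_card_inf_stabilizer'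
    (G := Cfsg.M24) (X := Cfsg.GolayPt) (MulAction.stabilizer Cfsg.M24 d) p
  rw [Cfsg.Agent.Lib.Helper28.card_stabilizer_dodecad hd] at h1
  have horb : MulAction.orbit (MulAction.stabilizer Cfsg.M24 d) p = (d : Set Cfsg.GolayPt) := by
    ext q
    constructor
    · rintro ⟨k, rfl⟩
      have hk : (k : Cfsg.M24) • d = d := MulAction.mem_stabilizer_iff.mp k.2
      have hkp : (k : Cfsg.M24) • p ∈ (k : Cfsg.M24) • d := Finset.smul_mem_smul_finset hp
      rw [hk] at hkp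
      exact hkp
    · intro hq
      rw [Finset.mem_coe] at hq
      obtain ⟨h1, hh1, h1d, h1p⟩ := Cfsg.Agent.Lib.Helper28.exists_M24_map_baseDodecad_point hd hp
      obtain ⟨h2, hh2, h2d, h2q⟩ := Cfsg.Agent.Lib.Helper28.exists_M24_map_baseDodecad_point hd hq
      have hmem : h2 * h1⁻¹ ∈ Cfsg.M24 := Cfsg.M24.mul_mem hh2 (Cfsg.M24.inv_mem hh1)
      have hstab : (⟨h2 * h1⁻¹, hmem⟩ : Cfsg.M24) ∈ MulAction.stabilizer Cfsg.M24 d := by
        rw [MulAction.mem_stabilizer_iff]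
        show (h2 * h1⁻¹) • d = d
        calc (h2 * h1⁻¹) • d = h2 • (h1⁻¹ • (h1 • Cfsg.Agent.Lib.Helper28.baseDodecad)) := by
              rw [mul_smul, h1d]
          _ = h2 • Cfsg.Agent.Lib.Helper28.baseDodecad := by rw [inv_smul_smul]
          _ = d := h2d
      refine ⟨⟨⟨h2 * h1⁻¹, hmem⟩, hstab⟩, ?_⟩
      show (h2 * h1⁻¹) p = q
      rw [Equiv.Perm.mul_apply, ← h1p]
      simp [h2q]
  have h12 : (d : Set Cfsg.GolayPt).ncard = 12 := by
    rw [Set.ncard_coe_finset]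
    exact ((Cfsg.Agent.Lib.Helper28.mem_dodecads_iff d).mp hd).2
  rw [horb, h12] at h1
  omega


end Cfsg.Agent.S0387
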