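import Cfsg.Statements.S0388
import Cfsg.Agent.Lib.Helper28.M12Simple
import Cfsg.Agent.Lib.Helper28.M24Transport

set_option autoImplicit false
open scoped Pointwise
open Cfsg

namespace Cfsg.Agent.S0388

/-- The stabiliser of a dodecad and a point on it is simple. -/
theorem result (d : Finset Cfsg.GolayPt) (hd : d ∈ Cfsg.dodecads) (p : Cfsg.GolayPt) (hp : p ∈ d) : IsSimpleGroup ↥(MulAction.stabilizer Cfsg.M24 d ⊓ MulAction.stabilizer Cfsg.M24 p) := by
  obtain ⟨h, hh, rfl, rfl⟩ := Cfsg.Agent.Lib.Helper28.exists_M24_map_baseDodecad_point hd hp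
  have hs : IsSimpleGroup ↥(Cfsg.M24 ⊓ MulAction.stabilizer (Equiv.Perm Cfsg.GolayPt)
      Cfsg.Agent.Lib.Helper28.baseDodecad ⊓ MulAction.stabilizer (Equiv.Perm Cfsg.GolayPt)
      (Cfsg.Agent.Lib.Helper4.pt 23)) := Cfsg.Agent.Lib.Helper28.G11_isSimpleGroup
  exact (Cfsg.Agent.Lib.Helper28.stabEquiv₂ hh Cfsg.Agent.Lib.Helper28.baseDodecad
    (Cfsg.Agent.Lib.Helper4.pt 23)).isSimpleGroup


end Cfsg.Agent.S0388
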