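import Mathlib
import Cfsg.Statements.S0428
import Cfsg.Agent.Lib.Helper4.S3622

set_option autoImplicit false
open Cfsg

namespace Cfsg.Agent.S0428

section adj

variable {α : Type*} {B : Set (Finset α)}

lemma adj_nn : (Cfsg.pointBlockGraph B).Adj none none ↔ False :=
  ⟨fun h => h.1 rfl, False.elim⟩

lemma adj_np (a : α) : (Cfsg.pointBlockGraph B).Adj none (some (Sum.inl a)) ↔ True :=
  ⟨fun _ => trivial, fun _ => ⟨by simp, Or.inl trivial⟩⟩

lemma adj_pn (a : α) : (Cfsg.pointBlockGraph B).Adj (some (Sum.inl a)) none ↔ True :=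
  ⟨fun _ => trivial, fun _ => ⟨by simp, Or.inr trivial⟩⟩

lemma adj_nb (b : B) : (Cfsg.pointBlockGraph B).Adj none (some (Sum.inr b)) ↔ False := by
  constructor
  · rintro ⟨_, h | h⟩ <;> exact h
  · exact False.elim

lemma adj_bn (b : B) : (Cfsg.pointBlockGraph B).Adj (some (Sum.inr b)) none ↔ False := by
  constructor
  · rintro ⟨_, h | h⟩ <;> exact h
  · exact False.elim

lemma adj_pp (a a' : α) :
    (Cfsg.pointBlockGraph B).Adj (some (Sum.inl a)) (some (Sum.inl a')) ↔ False := by
  constructor
  · rintro ⟨_, h | h⟩ <;> exact h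
  · exact False.elim

lemma adj_pb (a : α) (b : B) :
    (Cfsg.pointBlockGraph B).Adj (some (Sum.inl a)) (some (Sum.inr b)) ↔ a ∈ b.1 := by
  constructor
  · rintro ⟨_, h | h⟩
    · exact h
    · exact False.elim h
  · intro h
    exact ⟨by simp, Or.inl h⟩

lemma adj_bp (a : α) (b : B) :
    (Cfsg.pointBlockGraph B).Adj (some (Sum.inr b)) (some (Sum.inl a)) ↔ a ∈ b.1 := by
  rw [SimpleGraph.adj_comm, adj_pb]

lemma adj_bb (hne : ∀ b ∈ B, b ≠ ∅) (b c : B) :
    (Cfsg.pointBlockGraph B).Adj (some (Sum.inr b)) (some (Sum.inr c)) ↔ Disjoint b.1 c.1 := by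
  constructor
  · rintro ⟨_, h | h⟩
    · exact h
    · exact Disjoint.symm h
  · intro h
    refine ⟨?_, Or.inl h⟩
    intro e
    have e' : b = c := by simpa using e
    subst e'
    rw [disjoint_self, Finset.bot_eq_empty] at h
    exact hne b.1 b.2 h

end adj

open Cfsg.Agent.Helper4.S3622 Cfsg.Agent.Lib.Helper3.Steiner in
/-- The point-block graph of an S(3, 6, 22) is strongly regular with parameters (100, 22, 0, 6). -/
theorem result {α : Type*} [Fintype α] (hα : Fintype.card α = 22) {B : Set (Finset α)} (hB : Cfsg.IsSteinerSystem 3 6 B) [Fintype B] [DecidableRel (Cfsg.pointBlockGraph B).Adj] : (Cfsg.pointBlockGraph B).IsSRGWith 100 22 0 6 := by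
  classical
  have hne : ∀ b ∈ B, b ≠ ∅ := by
    intro b hb h
    have := hB.1 b hb
    rw [h] at this
    simp at this
  have hcardB : Fintype.card B = 77 := by
    rw [← lam0 hα hB, card_blocksF, ← Nat.card_eq_fintype_card, Nat.card_coe_set_eq]
  refine ⟨?_, ?_, ?_, ?_⟩
  · rw [Fintype.card_option, Fintype.card_sum, hα, hcardB]
  · intro v
    rw [← SimpleGraph.card_neighborFinset_eq_degree]
    rcases v with _ | a | b
    · rw [card_vertices ((Cfsg.pointBlockGraph B).neighborFinset none) 0 (fun _ => True)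
        (fun _ => False) (Or.inr ⟨by simp [adj_nn], rfl⟩) (fun x => by simp [adj_np])
        (fun y => by simp [adj_nb])]
      simp [hα]
    · rw [card_vertices ((Cfsg.pointBlockGraph B).neighborFinset (some (Sum.inl a))) 1
        (fun _ => False) (fun d => a ∈ d) (Or.inl ⟨by simp [adj_pn], rfl⟩)
        (fun x => by simp [adj_pp]) (fun y => by simp [adj_pb])]
      rw [lam1' hα hB a]
      simp
    · rw [card_vertices ((Cfsg.pointBlockGraph B).neighborFinset (some (Sum.inr b))) 0
        (fun x => x ∈ b.1) (fun d => Disjoint b.1 d) (Or.inr ⟨by simp [adj_bn], rfl⟩)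
        (fun x => by simp [adj_bp]) (fun y => by simp [adj_bb hne])]
      rw [deg16 hα hB b.2]
      simp [hB.1 b.1 b.2]
  · intro v w hvw
    rw [Fintype.card_eq_zero_iff]
    constructor
    rintro ⟨u, hu⟩
    rw [SimpleGraph.mem_commonNeighbors] at hu
    obtain ⟨hu1, hu2⟩ := hu
    rcases v with _ | a | b <;> rcases w with _ | a' | b' <;> rcases u with _ | x | y <;>
      simp only [adj_nn, adj_np, adj_pn, adj_nb, adj_bn, adj_pp, adj_pb, adj_bp, adj_bb hne]
        at hvw hu1 hu2
    · exact Finset.disjoint_left.1 hu2 hvw hu1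
    · exact Finset.disjoint_left.1 hu1 hvw hu2
    · exact Finset.disjoint_left.1 hvw hu1 hu2
    · exact common0 hα hB b.2 b'.2 hvw y.1 y.2 ⟨hu1, hu2⟩
  · intro v w hne' hnadj
    rw [← Set.toFinset_card]
    rcases v with _ | a | b <;> rcases w with _ | a' | b'
    · exact absurd rfl hne'
    · exact absurd ((adj_np a').2 trivial) hnadj
    · rw [card_vertices ((Cfsg.pointBlockGraph B).commonNeighbors none (some (Sum.inr b'))).toFinset
        0 (fun x => x ∈ b'.1) (fun _ => False)
        (Or.inr ⟨by simp [SimpleGraph.mem_commonNeighbors, adj_nn], rfl⟩)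
        (fun x => by simp [SimpleGraph.mem_commonNeighbors, adj_np, adj_bp])
        (fun y => by simp [SimpleGraph.mem_commonNeighbors, adj_nb])]
      simp [hB.1 b'.1 b'.2]
    · exact absurd ((adj_pn a).2 trivial) hnadj
    · have haa : a ≠ a' := fun h => hne' (by rw [h])
      rw [card_vertices ((Cfsg.pointBlockGraph B).commonNeighbors (some (Sum.inl a))
        (some (Sum.inl a'))).toFinset
        1 (fun _ => False) (fun d => a ∈ d ∧ a' ∈ d)
        (Or.inl ⟨by simp [SimpleGraph.mem_commonNeighbors, adj_pn], rfl⟩)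
        (fun x => by simp [SimpleGraph.mem_commonNeighbors, adj_pp])
        (fun y => by simp [SimpleGraph.mem_commonNeighbors, adj_pb])]
      rw [lam2' hα hB haa]
      simp
    · have hab : a ∉ b'.1 := fun h => hnadj ((adj_pb a b').2 h)
      rw [card_vertices ((Cfsg.pointBlockGraph B).commonNeighbors (some (Sum.inl a))
        (some (Sum.inr b'))).toFinset
        0 (fun _ => False) (fun d => a ∈ d ∧ Disjoint b'.1 d)
        (Or.inr ⟨by simp [SimpleGraph.mem_commonNeighbors, adj_bn], rfl⟩)
        (fun x => by simp [SimpleGraph.mem_commonNeighbors, adj_pp])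
        (fun y => by simp [SimpleGraph.mem_commonNeighbors, adj_pb, adj_bb hne])]
      rw [six_through hα hB b'.2 hab]
      simp
    · rw [card_vertices ((Cfsg.pointBlockGraph B).commonNeighbors (some (Sum.inr b)) none).toFinset
        0 (fun x => x ∈ b.1) (fun _ => False)
        (Or.inr ⟨by simp [SimpleGraph.mem_commonNeighbors, adj_nn], rfl⟩)
        (fun x => by simp [SimpleGraph.mem_commonNeighbors, adj_np, adj_bp])
        (fun y => by simp [SimpleGraph.mem_commonNeighbors, adj_nb])]
      simp [hB.1 b.1 b.2]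
    · have hab : a' ∉ b.1 := fun h => hnadj ((adj_bp a' b).2 h)
      rw [card_vertices ((Cfsg.pointBlockGraph B).commonNeighbors (some (Sum.inr b))
        (some (Sum.inl a'))).toFinset
        0 (fun _ => False) (fun d => a' ∈ d ∧ Disjoint b.1 d)
        (Or.inr ⟨by simp [SimpleGraph.mem_commonNeighbors, adj_bn], rfl⟩)
        (fun x => by simp [SimpleGraph.mem_commonNeighbors, adj_pp])
        (fun y => by simp [SimpleGraph.mem_commonNeighbors, adj_pb, adj_bb hne, and_comm])]
      rw [six_through hα hB b.2 hab]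
      simp
    · have hbb : b.1 ≠ b'.1 := fun h => hne' (by rw [Subtype.ext h])
      have hnd : ¬ Disjoint b.1 b'.1 := fun h => hnadj ((adj_bb hne b b').2 h)
      rw [card_vertices ((Cfsg.pointBlockGraph B).commonNeighbors (some (Sum.inr b))
        (some (Sum.inr b'))).toFinset
        0 (fun x => x ∈ b.1 ∧ x ∈ b'.1) (fun d => Disjoint b.1 d ∧ Disjoint b'.1 d)
        (Or.inr ⟨by simp [SimpleGraph.mem_commonNeighbors, adj_bn], rfl⟩)
        (fun x => by simp [SimpleGraph.mem_commonNeighbors, adj_bp])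
        (fun y => by simp [SimpleGraph.mem_commonNeighbors, adj_bb hne])]
      rw [common4 hα hB b.2 b'.2 hbb hnd]
      have h2 := inter_two hα hB b.2 b'.2 hbb hnd
      have : (Finset.univ.filter (fun x => x ∈ b.1 ∧ x ∈ b'.1)) = b.1 ∩ b'.1 := by
        ext x
        simp
      rw [this, h2]

end Cfsg.Agent.S0428
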