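import Cfsg.Statements.S0379
import Cfsg.Agent.Lib.Helper28.M24Simple

set_option autoImplicit false
open Cfsg

namespace Cfsg.Agent.S0379

/-- A two-point stabiliser in the group of the length-24 code is simple. -/
theorem result (p q : Cfsg.GolayPt) (hpq : p ≠ q) : IsSimpleGroup ↥(MulAction.stabilizer Cfsg.M24 p ⊓ MulAction.stabilizer Cfsg.M24 q) := by
  obtain ⟨h, hh, h1, h2⟩ := Cfsg.Agent.Lib.Helper28.M24_twoTransOn
    (Cfsg.Agent.Lib.Helper4.pt 23) (Set.mem_univ _) (Cfsg.Agent.Lib.Helper4.pt 0) (Set.mem_univ _)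
    (fun h => by have := Cfsg.Agent.Lib.Helper4.pt_bijective.1 h; revert this; decide)
    p (Set.mem_univ _) q (Set.mem_univ _) hpq
  have hs : IsSimpleGroup ↥(Cfsg.M24 ⊓ MulAction.stabilizer (Equiv.Perm Cfsg.GolayPt)
      (Cfsg.Agent.Lib.Helper4.pt 23) ⊓ MulAction.stabilizer (Equiv.Perm Cfsg.GolayPt)
      (Cfsg.Agent.Lib.Helper4.pt 0)) := Cfsg.Agent.Lib.Helper28.G22_isSimpleGroup
  have e := Cfsg.Agent.Lib.Helper28.stabEquiv₂ hh (Cfsg.Agent.Lib.Helper4.pt 23)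
    (Cfsg.Agent.Lib.Helper4.pt 0)
  have h3 : h • Cfsg.Agent.Lib.Helper4.pt 23 = p := h1
  have h4 : h • Cfsg.Agent.Lib.Helper4.pt 0 = q := h2
  rw [h3, h4] at e
  exact e.isSimpleGroup


end Cfsg.Agent.S0379
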