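import Cfsg.Statements.S0392
import Cfsg.Agent.Lib.Helper4.Golay

set_option autoImplicit false
open Cfsg

namespace Cfsg.Agent.S0392

open Cfsg.Agent.Lib.Helper4

theorem support₂_wd (x : GolayPt → ℤ) (k : ℤ) :
    support₂ (wd x k) = Finset.univ.filter (fun i => x i ≡ k [ZMOD 4]) := by
  unfold wd
  rw [support₂_ite]

theorem card_golayPt : (Finset.univ : Finset GolayPt).card = 24 := by
  decide

/-- Sum of squares of every lattice vector is divisible by 16 (even lattice at scale 1/8). -/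
theorem result (x : Cfsg.GolayPt → ℤ) (hx : x ∈ Cfsg.leechLattice) : (16 : ℤ) ∣ Cfsg.sqNorm x := by
  rw [mem_leechLattice_iff, mem_leechSet_iff] at hx
  obtain ⟨m, h1, h2, h3⟩ := hx
  unfold sqNorm
  rcases Int.emod_two_eq_zero_or_one m with hm | hm
  · -- m even
    have hterm : ∀ i ∈ (Finset.univ : Finset GolayPt),
        (16 : ℤ) ∣ x i ^ 2 - 4 * (if x i ≡ 2 [ZMOD 4] then 1 else 0) := by
      intro i _
      have a1 := h1 i
      unfold Int.ModEq at a1
      have h04 : x i % 4 = 0 ∨ x i % 4 = 2 := by omega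
      rcases h04 with h0 | h2'
      · obtain ⟨t, ht⟩ : ∃ t, x i = 4 * t := ⟨x i / 4, by omega⟩
        have hne : ¬ (x i ≡ 2 [ZMOD 4]) := by unfold Int.ModEq; omega
        rw [if_neg hne, ht]
        exact ⟨t ^ 2, by ring⟩
      · obtain ⟨t, ht⟩ : ∃ t, x i = 4 * t + 2 := ⟨x i / 4, by omega⟩
        have hpos : (x i ≡ 2 [ZMOD 4]) := by unfold Int.ModEq; omega
        rw [if_pos hpos, ht]
        exact ⟨t ^ 2 + t, by ring⟩
    have hd := Finset.dvd_sum hterm
    rw [Finset.sum_sub_distrib, ← Finset.mul_sum, Finset.sum_boole] at hd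
    have h4 : 4 ∣ (Finset.univ.filter (fun i => x i ≡ 2 [ZMOD 4])).card := by
      have := golay_doubly_even (h3 2)
      rwa [support₂_wd] at this
    obtain ⟨s, hs⟩ := h4
    rw [hs] at hd
    push_cast at hd
    have : (16 : ℤ) ∣ 4 * (4 * (s : ℤ)) := ⟨s, by ring⟩
    have := dvd_add hd this
    simpa using this
  · -- m odd
    have hterm : ∀ i ∈ (Finset.univ : Finset GolayPt),
        (16 : ℤ) ∣ x i ^ 2 - (2 * x i - 1 - 12 * (if x i ≡ 3 [ZMOD 4] then 1 else 0)) := by
      intro i _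
      have a1 := h1 i
      unfold Int.ModEq at a1
      have h13 : x i % 4 = 1 ∨ x i % 4 = 3 := by omega
      rcases h13 with h1' | h3'
      · obtain ⟨t, ht⟩ : ∃ t, x i = 4 * t + 1 := ⟨x i / 4, by omega⟩
        have hne : ¬ (x i ≡ 3 [ZMOD 4]) := by unfold Int.ModEq; omega
        rw [if_neg hne, ht]
        exact ⟨t ^ 2, by ring⟩
      · obtain ⟨t, ht⟩ : ∃ t, x i = 4 * t + 3 := ⟨x i / 4, by omega⟩
        have hpos : (x i ≡ 3 [ZMOD 4]) := by unfold Int.ModEq; omega
        rw [if_pos hpos, ht]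
        exact ⟨t ^ 2 + t + 1, by ring⟩
    have hd := Finset.dvd_sum hterm
    rw [Finset.sum_sub_distrib, Finset.sum_sub_distrib, Finset.sum_sub_distrib, ← Finset.mul_sum,
      ← Finset.mul_sum, Finset.sum_boole, Finset.sum_const, card_golayPt] at hd
    have h4 : 4 ∣ (Finset.univ.filter (fun i => x i ≡ 3 [ZMOD 4])).card := by
      have := golay_doubly_even (h3 3)
      rwa [support₂_wd] at this
    obtain ⟨s, hs⟩ := h4
    rw [hs] at hd
    push_cast at hd
    unfold Int.ModEq at h2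
    obtain ⟨a, ha⟩ := hd
    have hsum : ∃ b : ℤ, ∑ i, x i = 4 * m + 8 * b := ⟨(∑ i, x i - 4 * m) / 8, by omega⟩
    obtain ⟨b, hb⟩ := hsum
    obtain ⟨r, hr⟩ : ∃ r : ℤ, m = 2 * r + 1 := ⟨m / 2, by omega⟩
    rw [hb, hr] at ha
    rw [nsmul_eq_mul] at ha
    push_cast at ha
    exact ⟨a + r + b - 1 - 3 * s, by linarith⟩

end Cfsg.Agent.S0392
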