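import Cfsg.Statements.S0391
import Cfsg.Agent.Lib.Helper4.GolayMinWt
import Cfsg.Agent.S0392

set_option autoImplicit false
open Cfsg

namespace Cfsg.Agent.S0391

open Cfsg.Agent.Lib.Helper4

theorem support₂_wd (x : GolayPt → ℤ) (k : ℤ) :
    support₂ (wd x k) = Finset.univ.filter (fun i => x i ≡ k [ZMOD 4]) := by
  unfold wd
  rw [support₂_ite]

/-- Nonzero lattice vectors have sum of squares ≥ 32 (no vectors of customary norm 2). -/
theorem result (x : Cfsg.GolayPt → ℤ) (hx : x ∈ Cfsg.leechLattice) (h0 : x ≠ 0) : 32 ≤ Cfsg.sqNorm x := by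
  have h16 : (16 : ℤ) ∣ sqNorm x := Cfsg.Agent.S0392.result x hx
  rw [mem_leechLattice_iff, mem_leechSet_iff] at hx
  obtain ⟨m, h1, h2, h3⟩ := hx
  have hnn : ∀ i, 0 ≤ x i ^ 2 := fun i => sq_nonneg _
  rcases Int.emod_two_eq_zero_or_one m with hm | hm
  · -- m even
    by_cases hK : wd x 2 = 0
    · -- all coordinates divisible by 4
      have h4 : ∀ i, (4 : ℤ) ∣ x i := by
        intro i
        have a1 := h1 i
        have := congrFun hK i
        simp only [wd, Pi.zero_apply] at this
        by_cases hc : x i ≡ 2 [ZMOD 4]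
        · rw [if_pos hc] at this; exact absurd this (by decide)
        · unfold Int.ModEq at *; omega
      -- some coordinate nonzero
      obtain ⟨j, hj⟩ : ∃ j, x j ≠ 0 := by
        by_contra hcon
        push Not at hcon
        exact h0 (funext hcon)
      have hsplit : sqNorm x = x j ^ 2 + ∑ i ∈ Finset.univ.erase j, x i ^ 2 := by
        unfold sqNorm
        rw [← Finset.add_sum_erase _ _ (Finset.mem_univ j)]
      by_cases hother : ∃ i, i ≠ j ∧ x i ≠ 0
      · obtain ⟨i, hij, hi⟩ := hother
        have hi16 : 16 ≤ x i ^ 2 := by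
          obtain ⟨t, ht⟩ := h4 i
          have : t ≠ 0 := by rintro rfl; exact hi (by rw [ht]; ring)
          have : 1 ≤ t ^ 2 := by
            have := sq_nonneg t
            have : t ^ 2 ≠ 0 := pow_ne_zero 2 ‹t ≠ 0›
            omega
          rw [ht]; nlinarith
        have hj16 : 16 ≤ x j ^ 2 := by
          obtain ⟨t, ht⟩ := h4 j
          have : t ≠ 0 := by rintro rfl; exact hj (by rw [ht]; ring)
          have : 1 ≤ t ^ 2 := by
            have := sq_nonneg t
            have : t ^ 2 ≠ 0 := pow_ne_zero 2 ‹t ≠ 0›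
            omega
          rw [ht]; nlinarith
        have : x i ^ 2 ≤ ∑ i ∈ Finset.univ.erase j, x i ^ 2 :=
          Finset.single_le_sum (fun k _ => hnn k) (Finset.mem_erase.mpr ⟨hij, Finset.mem_univ i⟩)
        rw [hsplit]; linarith
      · push Not at hother
        have hsum : ∑ i, x i = x j := by
          rw [← Finset.add_sum_erase _ _ (Finset.mem_univ j)]
          have : ∑ i ∈ Finset.univ.erase j, x i = 0 := by
            apply Finset.sum_eq_zero
            intro i hi
            exact hother i (Finset.mem_erase.mp hi).1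
          rw [this, add_zero]
        rw [hsum] at h2
        have h8 : (8 : ℤ) ∣ x j := by unfold Int.ModEq at h2; omega
        obtain ⟨t, ht⟩ := h8
        have : t ≠ 0 := by rintro rfl; exact hj (by rw [ht]; ring)
        have : 1 ≤ t ^ 2 := by
          have := sq_nonneg t
          have : t ^ 2 ≠ 0 := pow_ne_zero 2 ‹t ≠ 0›
          omega
        have hrest : 0 ≤ ∑ i ∈ Finset.univ.erase j, x i ^ 2 := Finset.sum_nonneg (fun k _ => hnn k)
        rw [hsplit, ht]; nlinarith
    · -- the word of coordinates ≡ 2 mod 4 is a nonzero codeword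
      have h8 := golay_min_weight (h3 2) hK
      rw [support₂_wd] at h8
      have hterm : ∀ i ∈ Finset.univ.filter (fun i => x i ≡ 2 [ZMOD 4]), (4 : ℤ) ≤ x i ^ 2 := by
        intro i hi
        have := (Finset.mem_filter.mp hi).2
        obtain ⟨t, ht⟩ : ∃ t, x i = 4 * t + 2 := ⟨x i / 4, by unfold Int.ModEq at this; omega⟩
        rw [ht]
        rcases le_or_gt 0 t with h | h
        · nlinarith
        · have : t ≤ -1 := by omega
          nlinarith
      have h1' : ∑ i ∈ Finset.univ.filter (fun i => x i ≡ 2 [ZMOD 4]), (4 : ℤ) ≤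
          ∑ i ∈ Finset.univ.filter (fun i => x i ≡ 2 [ZMOD 4]), x i ^ 2 := Finset.sum_le_sum hterm
      have h2' : ∑ i ∈ Finset.univ.filter (fun i => x i ≡ 2 [ZMOD 4]), x i ^ 2 ≤ sqNorm x := by
        unfold sqNorm
        exact Finset.sum_le_sum_of_subset_of_nonneg (Finset.filter_subset _ _) (fun k _ _ => hnn k)
      rw [Finset.sum_const, nsmul_eq_mul] at h1'
      have : (8 : ℤ) ≤ ((Finset.univ.filter (fun i => x i ≡ 2 [ZMOD 4])).card : ℤ) := by exact_mod_cast h8
      linarith
  · -- m odd: every coordinate is odd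
    have hterm : ∀ i ∈ (Finset.univ : Finset GolayPt), (1 : ℤ) ≤ x i ^ 2 := by
      intro i _
      have a1 := h1 i
      have : x i ≠ 0 := by
        intro h; rw [h] at a1; unfold Int.ModEq at a1; omega
      have := sq_nonneg (x i)
      have : x i ^ 2 ≠ 0 := pow_ne_zero 2 ‹x i ≠ 0›
      omega
    have h24 : (24 : ℤ) ≤ sqNorm x := by
      unfold sqNorm
      have := Finset.sum_le_sum hterm
      rw [Finset.sum_const, nsmul_eq_mul, Cfsg.Agent.S0392.card_golayPt] at this
      simpa using this
    obtain ⟨k, hk⟩ := h16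
    omega

end Cfsg.Agent.S0391
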