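import Cfsg.Statements.S0393
import Cfsg.Agent.Lib.Helper4.Leech
import Cfsg.Agent.Lib.Helper4.Golay
import Cfsg.Agent.Lib.Helper28.GolayConcrete
import Cfsg.Prelude.Def_Spor_Conway
import Mathlib

set_option autoImplicit false
open Cfsg

namespace Cfsg.Agent.S0393

open Cfsg.Agent.Lib.Helper4

/-- reduction mod 2 -/
def red : (GolayPt → ℤ) →+ (GolayPt → ZMod 2) where
  toFun y i := (y i : ZMod 2)
  map_zero' := by funext i; simp
  map_add' a b := by funext i; simp

/-- doubling -/
def dbl : (GolayPt → ℤ) →+ (GolayPt → ℤ) where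
  toFun y i := 2 * y i
  map_zero' := by funext i; simp
  map_add' a b := by funext i; simp [mul_add]

/-- coordinate sum -/
def sumHom : (GolayPt → ℤ) →+ ℤ where
  toFun y := ∑ i, y i
  map_zero' := by simp
  map_add' a b := by simp [Finset.sum_add_distrib]

theorem red_surjective : Function.Surjective red := by
  intro w
  refine ⟨fun i => ((w i).val : ℤ), ?_⟩
  funext i
  simp [red]

theorem dbl_injective : Function.Injective dbl := by
  intro a b h
  funext i
  have := congrFun h i
  simp only [dbl, AddMonoidHom.coe_mk, ZeroHom.coe_mk] at this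
  omega

theorem dbl_ker : dbl.ker = ⊥ := (AddMonoidHom.ker_eq_bot_iff dbl).mpr dbl_injective

theorem range_dbl : dbl.range = red.ker := by
  ext x
  rw [AddMonoidHom.mem_range, AddMonoidHom.mem_ker]
  constructor
  · rintro ⟨y, rfl⟩
    funext i
    simp only [red, dbl, AddMonoidHom.coe_mk, ZeroHom.coe_mk, Pi.zero_apply]
    push_cast
    have : (2 : ZMod 2) = 0 := by decide
    rw [this, zero_mul]
  · intro h
    have h2 : ∀ i, (2 : ℤ) ∣ x i := by
      intro i
      have := congrFun h i
      simp only [red, AddMonoidHom.coe_mk, ZeroHom.coe_mk, Pi.zero_apply] at this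
      exact (ZMod.intCast_zmod_eq_zero_iff_dvd (x i) 2).mp this
    refine ⟨fun i => x i / 2, ?_⟩
    funext i
    simp only [dbl, AddMonoidHom.coe_mk, ZeroHom.coe_mk]
    exact Int.mul_ediv_cancel' (h2 i)

theorem index_range_dbl : dbl.range.index = 2 ^ 24 := by
  rw [range_dbl, AddSubgroup.index_ker, AddMonoidHom.range_eq_top.mpr red_surjective]
  rw [Nat.card_congr (AddSubgroup.topEquiv (G := GolayPt → ZMod 2)).toEquiv]
  rw [Nat.card_eq_fintype_card, Fintype.card_fun, ZMod.card, show Fintype.card GolayPt = 24 from rfl]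

/-- integer vectors reducing to a Golay word -/
def M1 : AddSubgroup (GolayPt → ℤ) := golayCode.toAddSubgroup.comap red

theorem mem_M1 (y : GolayPt → ℤ) : y ∈ M1 ↔ red y ∈ golayCode := Iff.rfl

/-- ... with coordinate sum divisible by four -/
def M0 : AddSubgroup (GolayPt → ℤ) := M1 ⊓ (AddSubgroup.zmultiples (4 : ℤ)).comap sumHom

theorem mem_M0 (y : GolayPt → ℤ) : y ∈ M0 ↔ red y ∈ golayCode ∧ (4 : ℤ) ∣ ∑ i, y i := by
  unfold M0
  rw [AddSubgroup.mem_inf, AddSubgroup.mem_comap, Int.mem_zmultiples_iff]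
  rfl

theorem index_M1 : M1.index = 2 ^ 12 := by
  unfold M1
  rw [AddSubgroup.index_comap_of_surjective _ red_surjective]
  have h1 := AddSubgroup.card_mul_index golayCode.toAddSubgroup
  have h2 : Nat.card golayCode.toAddSubgroup = 2 ^ 12 :=
    Cfsg.Agent.Lib.Helper28.golayCode_isGolayLike.card_code
  have h3 : Nat.card (GolayPt → ZMod 2) = 2 ^ 24 := by
    rw [Nat.card_eq_fintype_card, Fintype.card_fun, ZMod.card, show Fintype.card GolayPt = 24 from rfl]
  rw [h2, h3] at h1
  have : (2 : ℕ) ^ 24 = 2 ^ 12 * 2 ^ 12 := by norm_num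
  rw [this] at h1
  exact Nat.eq_of_mul_eq_mul_left (by norm_num) h1

theorem even_sum_of_mem_M1 {y : GolayPt → ℤ} (hy : y ∈ M1) : (2 : ℤ) ∣ ∑ i, y i := by
  rw [mem_M1] at hy
  have h := golay_self_orth hy one_mem_golayCode
  unfold dot₂ at h
  simp only [Pi.one_apply, mul_one, red, AddMonoidHom.coe_mk, ZeroHom.coe_mk] at h
  rw [← Int.cast_sum] at h
  exact (ZMod.intCast_zmod_eq_zero_iff_dvd _ 2).mp h

theorem M0_le_M1 : M0 ≤ M1 := inf_le_left

theorem relIndex_M0_M1 : M0.relIndex M1 = 2 := by
  rw [AddSubgroup.relIndex_eq_two_iff]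
  have ha : red (Pi.single none 2) = 0 := by
    have : (Pi.single none 2 : GolayPt → ℤ) = dbl (Pi.single none 1) := by
      funext i
      simp only [dbl, AddMonoidHom.coe_mk, ZeroHom.coe_mk]
      by_cases hi : i = none
      · subst hi; simp
      · simp [hi]
    have h2 : (Pi.single none 2 : GolayPt → ℤ) ∈ red.ker := by
      rw [← range_dbl, this]; exact ⟨_, rfl⟩
    exact h2
  refine ⟨Pi.single none 2, ?_, ?_⟩
  · rw [mem_M1, ha]; exact golayCode.zero_mem
  · intro b hb
    have h2 := even_sum_of_mem_M1 hb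
    rw [mem_M1] at hb
    rw [mem_M0, mem_M0, map_add, ha, add_zero]
    have hs : ∑ i, (b + (Pi.single none 2 : GolayPt → ℤ)) i = (∑ i, b i) + 2 := by
      simp only [Pi.add_apply, Finset.sum_add_distrib]
      rw [Finset.sum_pi_single']
      simp
    rw [hs]
    by_cases h4 : (4 : ℤ) ∣ ∑ i, b i
    · right
      refine ⟨⟨hb, h4⟩, ?_⟩
      rintro ⟨_, h4'⟩
      omega
    · left
      refine ⟨⟨hb, ?_⟩, ?_⟩
      · omega
      · rintro ⟨_, h4'⟩
        exact h4 h4'

theorem index_M0 : M0.index = 2 ^ 13 := by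
  rw [← AddSubgroup.relIndex_mul_index M0_le_M1, relIndex_M0_M1, index_M1]
  norm_num

/-- the sublattice of vectors with even coordinates -/
def Le : AddSubgroup (GolayPt → ℤ) := M0.map dbl

theorem index_Le : Le.index = 2 ^ 37 := by
  unfold Le
  rw [AddSubgroup.index_map, dbl_ker, sup_bot_eq, index_M0, index_range_dbl]
  norm_num

theorem intCast_zmod2 (n : ℤ) : (n : ZMod 2) = if n % 2 = 0 then 0 else 1 := by
  split_ifs with h
  · exact (ZMod.intCast_zmod_eq_zero_iff_dvd n 2).mpr (Int.dvd_of_emod_eq_zero h)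
  · rcases zmod2_eq_zero_or_one (n : ZMod 2) with h0 | h1
    · exfalso
      exact h (Int.emod_eq_zero_of_dvd ((ZMod.intCast_zmod_eq_zero_iff_dvd n 2).mp h0))
    · exact h1

theorem Le_le : ∀ x ∈ Le, x ∈ leechLattice ∧ ∀ i, (2 : ℤ) ∣ x i := by
  intro x hx
  obtain ⟨y, hy, rfl⟩ := hx
  have hy' : y ∈ M0 := hy
  rw [mem_M0] at hy'
  obtain ⟨hg, h4⟩ := hy'
  refine ⟨?_, fun i => ⟨y i, rfl⟩⟩
  rw [mem_leechLattice_iff, mem_leechSet_iff]
  refine ⟨0, fun i => ?_, ?_, fun k => ?_⟩
  · show 2 * y i ≡ 0 [ZMOD 2]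
    unfold Int.ModEq; omega
  · have : ∑ i, dbl y i = 2 * ∑ i, y i := by
      simp only [dbl, AddMonoidHom.coe_mk, ZeroHom.coe_mk]
      rw [Finset.mul_sum]
    rw [this]
    unfold Int.ModEq; omega
  · by_cases hk2 : k % 2 = 0
    · by_cases hk4 : k % 4 = 0
      · have : wd (dbl y) k = red y + 1 := by
          funext i
          simp only [wd, dbl, red, AddMonoidHom.coe_mk, ZeroHom.coe_mk, Pi.add_apply, Pi.one_apply,
            intCast_zmod2]
          have e1 : y i % 2 = 0 ∨ y i % 2 = 1 := by omega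
          have e2 : (2 * y i ≡ k [ZMOD 4]) ↔ y i % 2 = 0 := by
            unfold Int.ModEq; omega
          simp only [e2]
          rcases e1 with e1 | e1 <;> simp [e1] <;> decide
        rw [this]
        exact golayCode.add_mem hg one_mem_golayCode
      · have : wd (dbl y) k = red y := by
          funext i
          simp only [wd, dbl, red, AddMonoidHom.coe_mk, ZeroHom.coe_mk,
            intCast_zmod2]
          have e1 : y i % 2 = 0 ∨ y i % 2 = 1 := by omega
          have e2 : (2 * y i ≡ k [ZMOD 4]) ↔ y i % 2 = 1 := by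
            unfold Int.ModEq; omega
          simp only [e2]
          rcases e1 with e1 | e1 <;> simp [e1]
        rw [this]
        exact hg
    · have : wd (dbl y) k = 0 := by
        funext i
        simp only [wd, dbl, AddMonoidHom.coe_mk, ZeroHom.coe_mk, Pi.zero_apply]
        have e2 : ¬ (2 * y i ≡ k [ZMOD 4]) := by
          unfold Int.ModEq; omega
        simp only [e2, if_false]
      rw [this]
      exact golayCode.zero_mem

theorem mem_Le_of {x : GolayPt → ℤ} (hx : x ∈ leechLattice) (h2 : ∀ i, (2 : ℤ) ∣ x i) : x ∈ Le := by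
  rw [mem_leechLattice_iff, mem_leechSet_iff] at hx
  obtain ⟨m, hm, hs, hw⟩ := hx
  have hm2 : m % 2 = 0 := by
    have a1 := hm none
    have a2 := h2 none
    unfold Int.ModEq at a1
    omega
  refine ⟨fun i => x i / 2, ?_, ?_⟩
  · show (fun i => x i / 2) ∈ M0
    rw [mem_M0]
    constructor
    · have : red (fun i => x i / 2) = wd x 2 := by
        funext i
        have a2 := h2 i
        simp only [wd, red, AddMonoidHom.coe_mk, ZeroHom.coe_mk, intCast_zmod2]
        have e2 : (x i ≡ 2 [ZMOD 4]) ↔ ¬ (x i / 2 % 2 = 0) := by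
          unfold Int.ModEq; omega
        simp only [e2]
        split_ifs <;> rfl
      rw [this]
      exact hw 2
    · have : ∑ i, x i = 2 * ∑ i, x i / 2 := by
        rw [Finset.mul_sum]
        apply Finset.sum_congr rfl
        intro i _
        exact (Int.mul_ediv_cancel' (h2 i)).symm
      rw [this] at hs
      unfold Int.ModEq at hs
      omega
  · funext i
    simp only [dbl, AddMonoidHom.coe_mk, ZeroHom.coe_mk]
    exact Int.mul_ediv_cancel' (h2 i)

theorem Le_le_leech : Le ≤ leechLattice := fun x hx => (Le_le x hx).1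

theorem relIndex_Le : Le.relIndex leechLattice = 2 := by
  rw [AddSubgroup.relIndex_eq_two_iff]
  have hV : Spor.vecV ∈ leechLattice := AddSubgroup.subset_closure Spor.vecV_mem_leechSet
  refine ⟨Spor.vecV, hV, fun b hb => ?_⟩
  have hb' := hb
  rw [mem_leechLattice_iff, mem_leechSet_iff] at hb'
  obtain ⟨m, hm, -, -⟩ := hb'
  by_cases hm2 : m % 2 = 0
  · right
    refine ⟨mem_Le_of hb (fun i => ?_), fun h => ?_⟩
    · have := hm i
      unfold Int.ModEq at this
      omega
    · have h1 := (Le_le _ h).2 none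
      have h2 := hm none
      simp only [Pi.add_apply, Spor.vecV, if_true] at h1
      unfold Int.ModEq at h2
      omega
  · left
    refine ⟨mem_Le_of (leechLattice.add_mem hb hV) (fun i => ?_), fun h => ?_⟩
    · have := hm i
      simp only [Pi.add_apply, Spor.vecV]
      unfold Int.ModEq at this
      split_ifs <;> omega
    · have h1 := (Le_le _ h).2 none
      have h2 := hm none
      unfold Int.ModEq at h2
      omega

/-- The Leech lattice has index `2 ^ 36` in the integer lattice. -/
theorem result : Cfsg.leechLattice.index = 2 ^ 36 := by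
  have h := AddSubgroup.relIndex_mul_index Le_le_leech
  rw [relIndex_Le, index_Le] at h
  have : (2 : ℕ) ^ 37 = 2 * 2 ^ 36 := by norm_num
  rw [this] at h
  exact Nat.eq_of_mul_eq_mul_left (by norm_num) h

end Cfsg.Agent.S0393
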