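import Cfsg.Statements.S1569
import Mathlib
import Cfsg.Agent.Lib.Helper4.LeechMod2b

set_option autoImplicit false
open scoped Pointwise
open Cfsg

namespace Cfsg.Agent.S1569

/-- The cross through a lattice vector of customary norm 8 has exactly 48 members. -/
theorem result (x : Cfsg.GolayPt → ℤ) (hx : x ∈ Cfsg.leechLattice) (hxn : Cfsg.sqNorm x = 64) : (Cfsg.cross x).ncard = 48 := by
  classical
  have hpos : 0 < (Cfsg.Agent.Helper4.LC.nset 64).ncard := by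
    rw [Cfsg.Agent.Helper4.LC.ncard_nset_64]; norm_num
  have hset : Cfsg.cross x =
      (((Cfsg.Agent.Helper4.LC.A 64).filter
        (fun y => Cfsg.Agent.Helper4.LC.proj y = Cfsg.Agent.Helper4.LC.proj x) :
          Finset (Cfsg.GolayPt → ℤ)) : Set (Cfsg.GolayPt → ℤ)) := by
    ext y
    simp only [Cfsg.cross, Set.mem_ofPred_eq, Finset.coe_filter,
      Cfsg.Agent.Helper4.LC.mem_A hpos, hxn]
    constructor
    · rintro ⟨hy, hn, z, hz, he⟩
      refine ⟨⟨hy, hn⟩, ?_⟩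
      apply (Cfsg.Agent.Helper4.LC.proj_eq_iff hy hx).mpr
      rw [← neg_sub, Cfsg.Agent.Helper4.LC.twoL.neg_mem_iff]
      exact Cfsg.Agent.Helper4.LC.mem_twoL'.mpr ⟨z, hz, he⟩
    · rintro ⟨⟨hy, hn⟩, he⟩
      have hc := (Cfsg.Agent.Helper4.LC.proj_eq_iff hy hx).mp he
      rw [← neg_sub, Cfsg.Agent.Helper4.LC.twoL.neg_mem_iff] at hc
      obtain ⟨z, hz, hz2⟩ := Cfsg.Agent.Helper4.LC.mem_twoL'.mp hc
      exact ⟨hy, hn, z, hz, hz2⟩
  rw [hset, Set.ncard_coe_finset]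
  exact Cfsg.Agent.Helper4.LC.fiber_eq_48 hx hxn

end Cfsg.Agent.S1569
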