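import Cfsg.Statements.S1462
import Cfsg.Agent.Lib.Helper10.PLength
import Cfsg.Agent.Lib.Helper1.Fitting
import Cfsg.Agent.S1443

set_option autoImplicit false
open Cfsg

namespace Cfsg.Agent.S1462

open Cfsg.Agent.Lib.Helper10 Cfsg.Agent.Lib.Helper1

/-- the image of an elementary abelian subgroup is elementary abelian -/
theorem isElementaryAbelian_map {G G' : Type*} [Group G] [Group G'] (f : G →* G') {p : ℕ}
    {E : Subgroup G} (hE : Cfsg.IsElementaryAbelian p E) : Cfsg.IsElementaryAbelian p (E.map f) := by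
  have hc : ∀ x ∈ E, ∀ y ∈ E, x * y = y * x := by
    intro x hx y hy
    exact congrArg Subtype.val (hE.1.is_comm.comm (⟨x, hx⟩ : ↥E) ⟨y, hy⟩)
  refine ⟨⟨⟨?_⟩⟩, ?_⟩
  · rintro ⟨_, ⟨x, hx, rfl⟩⟩ ⟨_, ⟨y, hy, rfl⟩⟩
    apply Subtype.ext
    show f x * f y = f y * f x
    rw [← map_mul, ← map_mul, hc x hx y hy]
  · rintro _ ⟨x, hx, rfl⟩
    rw [← map_pow, hE.2 x hx, map_one]

/-- an elementary abelian `p`-subgroup `Bb` of `G / O_{p'}(G)` whose preimage contains a maximal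
elementary abelian `p`-subgroup `E` of `G` is the image of `E` -/
theorem le_map_of_le_comap {G : Type*} [Group G] [Finite G] (p : ℕ) [Fact p.Prime]
    (E : Subgroup G) (hE : Cfsg.IsElementaryAbelian p E)
    (hEmax : ∀ B : Subgroup G, Cfsg.IsElementaryAbelian p B → E ≤ B → B = E)
    (Bb : Subgroup (G ⧸ Cfsg.pPrimeCore p G))
    (hBbcomm : ∀ y ∈ Bb, ∀ z ∈ Bb, y * z = z * y) (hBbpow : ∀ y ∈ Bb, y ^ p = 1)
    (hEB₁ : E ≤ Bb.comap (QuotientGroup.mk' (Cfsg.pPrimeCore p G))) :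
    Bb ≤ E.map (QuotientGroup.mk' (Cfsg.pPrimeCore p G)) := by
  obtain ⟨B₁, hB₁⟩ : ∃ B₁ : Subgroup G, B₁ = Bb.comap (QuotientGroup.mk' (Cfsg.pPrimeCore p G)) :=
    ⟨_, rfl⟩
  rw [← hB₁] at hEB₁
  have hEp : IsPGroup p ↥(E.subgroupOf B₁) := by
    rintro ⟨⟨e, he1⟩, he⟩
    refine ⟨1, ?_⟩
    apply Subtype.ext; apply Subtype.ext
    simp only [pow_one, Subgroup.coe_pow, Subgroup.coe_one]
    exact hE.2 e he
  obtain ⟨Bs, hBs⟩ := hEp.exists_le_sylow
  have hBN : (Bs : Subgroup ↥B₁).map B₁.subtype ⊓ Cfsg.pPrimeCore p G = ⊥ := by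
    apply disjoint_iff.mp
    apply Subgroup.disjoint_of_coprime_natCard
    have h1 : IsPGroup p ↥((Bs : Subgroup ↥B₁).map B₁.subtype) := Bs.2.map _
    obtain ⟨k, hk⟩ := IsPGroup.iff_card.mp h1
    rw [hk]
    exact Nat.Coprime.pow_left k (pPrimeCore_coprime p).symm
  have hBinj : ∀ b ∈ (Bs : Subgroup ↥B₁).map B₁.subtype,
      ((b : G) : G ⧸ Cfsg.pPrimeCore p G) = 1 → b = 1 := by
    intro b hb hb1
    have : b ∈ (Bs : Subgroup ↥B₁).map B₁.subtype ⊓ Cfsg.pPrimeCore p G :=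
      Subgroup.mem_inf.mpr ⟨hb, (QuotientGroup.eq_one_iff b).mp hb1⟩
    rwa [hBN, Subgroup.mem_bot] at this
  have hBle : ∀ b ∈ (Bs : Subgroup ↥B₁).map B₁.subtype,
      ((b : G) : G ⧸ Cfsg.pPrimeCore p G) ∈ Bb := by
    intro b hb
    have h1 : b ∈ B₁ := Subgroup.map_subtype_le _ hb
    rw [hB₁] at h1
    exact h1
  have hBea : Cfsg.IsElementaryAbelian p ((Bs : Subgroup ↥B₁).map B₁.subtype) := by
    refine ⟨⟨⟨?_⟩⟩, ?_⟩
    · rintro ⟨b, hb⟩ ⟨c, hc⟩
      apply Subtype.ext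
      show b * c = c * b
      have h1 := hBbcomm _ (hBle b hb) _ (hBle c hc)
      have h2 : (((b * c) * (c * b)⁻¹ : G) : G ⧸ Cfsg.pPrimeCore p G) = 1 := by
        rw [QuotientGroup.mk_mul, QuotientGroup.mk_inv, QuotientGroup.mk_mul, QuotientGroup.mk_mul,
          h1, mul_inv_cancel]
      have h3 := hBinj _ (Subgroup.mul_mem _ (Subgroup.mul_mem _ hb hc)
        (Subgroup.inv_mem _ (Subgroup.mul_mem _ hc hb))) h2
      exact mul_inv_eq_one.mp h3
    · intro b hb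
      apply hBinj _ (Subgroup.pow_mem _ hb p)
      rw [QuotientGroup.mk_pow]
      exact hBbpow _ (hBle b hb)
  have hEB : E ≤ (Bs : Subgroup ↥B₁).map B₁.subtype := by
    intro e he
    have := hBs (show (⟨e, hEB₁ he⟩ : ↥B₁) ∈ E.subgroupOf B₁ by
      rw [Subgroup.mem_subgroupOf]; exact he)
    exact Subgroup.mem_map.mpr ⟨_, this, rfl⟩
  have hBE := hEmax _ hBea hEB
  -- a Sylow subgroup of the preimage covers `Bb`
  subst hB₁
  have hsurj : Function.Surjective ((QuotientGroup.mk' (Cfsg.pPrimeCore p G)).subgroupComap Bb) :=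
    MonoidHom.subgroupComap_surjective_of_surjective _ _ (QuotientGroup.mk'_surjective _)
  have hpB : IsPGroup p ↥(⊤ : Subgroup ↥Bb) := by
    rintro ⟨⟨y, hy⟩, -⟩
    refine ⟨1, ?_⟩
    apply Subtype.ext; apply Subtype.ext
    simp only [pow_one, Subgroup.coe_pow, Subgroup.coe_one]
    exact hBbpow y hy
  have h3 := ((Sylow.mapSurjective hsurj Bs).is_maximal' hpB le_top).symm
  rw [Sylow.coe_mapSurjective] at h3
  intro y hy
  have h4 : (⟨y, hy⟩ : ↥Bb) ∈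
      (Bs : Subgroup _).map ((QuotientGroup.mk' (Cfsg.pPrimeCore p G)).subgroupComap Bb) := by
    rw [h3]; exact Subgroup.mem_top _
  obtain ⟨b, hb, hby⟩ := Subgroup.mem_map.mp h4
  rw [← hBE]
  refine Subgroup.mem_map.mpr ⟨(b : G), Subgroup.mem_map.mpr ⟨b, hb, rfl⟩, ?_⟩
  exact congrArg Subtype.val hby

/-- Key claim: modulo `O_{p'}(G)`, an element of order `p` centralizing the image of a maximal
elementary abelian subgroup `E` lies in the image of `E`. -/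
theorem mem_map_of_commute {G : Type*} [Group G] [Finite G] (p : ℕ) [Fact p.Prime]
    (E : Subgroup G) (hE : Cfsg.IsElementaryAbelian p E)
    (hEmax : ∀ B : Subgroup G, Cfsg.IsElementaryAbelian p B → E ≤ B → B = E)
    (xb : G ⧸ Cfsg.pPrimeCore p G) (hxp : xb ^ p = 1)
    (hxE : ∀ e ∈ E, xb * (e : G ⧸ Cfsg.pPrimeCore p G) = (e : G ⧸ Cfsg.pPrimeCore p G) * xb) :
    xb ∈ E.map (QuotientGroup.mk' (Cfsg.pPrimeCore p G)) := by
  have hEb := isElementaryAbelian_map (QuotientGroup.mk' (Cfsg.pPrimeCore p G)) hE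
  -- the elementary abelian subgroup generated by `Ē` and `xb`
  have hcomm : ∀ a ∈ Subgroup.zpowers xb, ∀ b ∈ E.map (QuotientGroup.mk' (Cfsg.pPrimeCore p G)),
      a * b = b * a := by
    intro a ha b hb
    obtain ⟨k, rfl⟩ := Subgroup.mem_zpowers_iff.mp ha
    obtain ⟨e, he, rfl⟩ := Subgroup.mem_map.mp hb
    have : Commute xb ((QuotientGroup.mk' (Cfsg.pPrimeCore p G)) e) := hxE e he
    exact (this.zpow_left k).eq
  have hBb : ∀ y ∈ Subgroup.zpowers xb ⊔ E.map (QuotientGroup.mk' (Cfsg.pPrimeCore p G)),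
      ∃ a ∈ Subgroup.zpowers xb, ∃ b ∈ E.map (QuotientGroup.mk' (Cfsg.pPrimeCore p G)), a * b = y :=
    fun y hy => (Cfsg.Agent.Lib.Helper9.mem_sup_of_commute hcomm).mp hy
  have hEbc : ∀ b ∈ E.map (QuotientGroup.mk' (Cfsg.pPrimeCore p G)),
      ∀ b' ∈ E.map (QuotientGroup.mk' (Cfsg.pPrimeCore p G)), b * b' = b' * b := by
    intro b hb b' hb'
    exact congrArg Subtype.val (hEb.1.is_comm.comm (⟨b, hb⟩ : ↥(E.map _)) ⟨b', hb'⟩)
  have hBbcomm : ∀ y ∈ Subgroup.zpowers xb ⊔ E.map (QuotientGroup.mk' (Cfsg.pPrimeCore p G)),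
      ∀ z ∈ Subgroup.zpowers xb ⊔ E.map (QuotientGroup.mk' (Cfsg.pPrimeCore p G)), y * z = z * y := by
    intro y hy z hz
    obtain ⟨a, ha, b, hb, rfl⟩ := hBb y hy
    obtain ⟨a', ha', b', hb', rfl⟩ := hBb z hz
    have h1 : a * a' = a' * a := by
      obtain ⟨k, rfl⟩ := Subgroup.mem_zpowers_iff.mp ha
      obtain ⟨k', rfl⟩ := Subgroup.mem_zpowers_iff.mp ha'
      rw [← zpow_add, ← zpow_add, add_comm]
    have h2 := hcomm a ha b' hb'
    have h3 := hcomm a' ha' b hb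
    have h4 := hEbc b hb b' hb'
    calc a * b * (a' * b') = a * (b * a') * b' := by group
      _ = a * (a' * b) * b' := by rw [h3]
      _ = (a * a') * (b * b') := by group
      _ = (a' * a) * (b' * b) := by rw [h1, h4]
      _ = a' * (a * b') * b := by group
      _ = a' * (b' * a) * b := by rw [h2]
      _ = a' * b' * (a * b) := by group
  have hBbpow : ∀ y ∈ Subgroup.zpowers xb ⊔ E.map (QuotientGroup.mk' (Cfsg.pPrimeCore p G)),
      y ^ p = 1 := by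
    intro y hy
    obtain ⟨a, ha, b, hb, rfl⟩ := hBb y hy
    have hab : Commute a b := hcomm a ha b hb
    rw [hab.mul_pow, hEb.2 b hb, mul_one]
    obtain ⟨k, rfl⟩ := Subgroup.mem_zpowers_iff.mp ha
    rw [← zpow_natCast, ← zpow_mul, mul_comm, zpow_mul, zpow_natCast, hxp, one_zpow]
  have hEB₁ : E ≤ (Subgroup.zpowers xb ⊔ E.map (QuotientGroup.mk' (Cfsg.pPrimeCore p G))).comap
      (QuotientGroup.mk' (Cfsg.pPrimeCore p G)) := by
    intro e he
    exact Subgroup.mem_sup_right (Subgroup.mem_map.mpr ⟨e, he, rfl⟩)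
  exact le_map_of_le_comap p E hE hEmax _ hBbcomm hBbpow hEB₁
    (Subgroup.mem_sup_left (Subgroup.mem_zpowers xb))

/-- Let G be a finite solvable group, p an odd prime with G = O_{p',p,p'}(G), E an elementary abelian p-subgroup contained in no larger elementary abelian p-subgroup of G, and L a subgroup of order coprime to p normalized by E. Then L ≤ O_{p'}(G). -/
theorem result {G : Type*} [Group G] [Finite G] [Group.IsSolvable G] (p : ℕ) [Fact p.Prime] (hp : p ≠ 2) (hpl : Cfsg.PLengthLE p 1 G) (E L : Subgroup G) (hE : Cfsg.IsElementaryAbelian p E)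
    (hEmax : ∀ B : Subgroup G, Cfsg.IsElementaryAbelian p B → E ≤ B → B = E) (hL : (Nat.card L).Coprime p) (hEL : E ≤ Subgroup.normalizer (L : Set G)) :
    L ≤ Cfsg.pPrimeCore p G := by
  have hQ0 := pPrimeCore_quotient_eq_bot (G := G) p
  have hcent := centralizer_pCore_le (G := G ⧸ Cfsg.pPrimeCore p G) p hQ0
  have hEp : IsPGroup p ↥E := by
    rintro ⟨e, he⟩
    refine ⟨1, ?_⟩
    apply Subtype.ext
    simp only [pow_one, Subgroup.coe_pow, Subgroup.coe_one]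
    exact hE.2 e he
  obtain ⟨S, hES⟩ := hEp.exists_le_sylow
  have hSW := sylow_le_pPrimePCore p hpl S
  have hEb_le : E.map (QuotientGroup.mk' (Cfsg.pPrimeCore p G)) ≤
      Cfsg.pCore p (G ⧸ Cfsg.pPrimeCore p G) := by
    rw [← map_mk_pPrimePCore]
    exact Subgroup.map_mono (hES.trans hSW)
  have hLb_cop : (Nat.card ↥(L.map (QuotientGroup.mk' (Cfsg.pPrimeCore p G)))).Coprime p :=
    Nat.Coprime.coprime_dvd_left (Subgroup.card_map_dvd _ _) hL
  have hdisj : L.map (QuotientGroup.mk' (Cfsg.pPrimeCore p G)) ⊓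
      Cfsg.pCore p (G ⧸ Cfsg.pPrimeCore p G) = ⊥ := by
    apply disjoint_iff.mp
    apply Subgroup.disjoint_of_coprime_natCard
    obtain ⟨k, hk⟩ := IsPGroup.iff_card.mp (pCore_isPGroup (G := G ⧸ Cfsg.pPrimeCore p G) p)
    rw [hk]
    exact Nat.Coprime.pow_right k hLb_cop
  -- `L̄` centralizes `Ē`
  have hLE : ∀ l ∈ L, ∀ e ∈ E, ((l : G) : G ⧸ Cfsg.pPrimeCore p G) * (e : G ⧸ Cfsg.pPrimeCore p G) =
      (e : G ⧸ Cfsg.pPrimeCore p G) * (l : G ⧸ Cfsg.pPrimeCore p G) := by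
    intro l hl e he
    have hcL : l * (e * l⁻¹ * e⁻¹) ∈ L :=
      L.mul_mem hl ((Subgroup.mem_normalizer_iff.mp (hEL he) l⁻¹).mp (L.inv_mem hl))
    have h1 : ((l * (e * l⁻¹ * e⁻¹) : G) : G ⧸ Cfsg.pPrimeCore p G) ∈
        L.map (QuotientGroup.mk' (Cfsg.pPrimeCore p G)) := Subgroup.mem_map.mpr ⟨_, hcL, rfl⟩
    have heb : ((e : G) : G ⧸ Cfsg.pPrimeCore p G) ∈ Cfsg.pCore p (G ⧸ Cfsg.pPrimeCore p G) :=
      hEb_le (Subgroup.mem_map.mpr ⟨e, he, rfl⟩)
    have h2 : ((l * (e * l⁻¹ * e⁻¹) : G) : G ⧸ Cfsg.pPrimeCore p G) ∈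
        Cfsg.pCore p (G ⧸ Cfsg.pPrimeCore p G) := by
      have e1 : ((l * (e * l⁻¹ * e⁻¹) : G) : G ⧸ Cfsg.pPrimeCore p G) =
          ((l : G ⧸ Cfsg.pPrimeCore p G) * (e : G ⧸ Cfsg.pPrimeCore p G) *
            (l : G ⧸ Cfsg.pPrimeCore p G)⁻¹) * (e : G ⧸ Cfsg.pPrimeCore p G)⁻¹ := by
        simp only [QuotientGroup.mk_mul, QuotientGroup.mk_inv]; group
      rw [e1]
      exact Subgroup.mul_mem _ ((inferInstance : (Cfsg.pCore p (G ⧸ Cfsg.pPrimeCore p G)).Normal).conj_mem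
        _ heb _) (Subgroup.inv_mem _ heb)
    have h3 : ((l * (e * l⁻¹ * e⁻¹) : G) : G ⧸ Cfsg.pPrimeCore p G) ∈
        L.map (QuotientGroup.mk' (Cfsg.pPrimeCore p G)) ⊓ Cfsg.pCore p (G ⧸ Cfsg.pPrimeCore p G) :=
      Subgroup.mem_inf.mpr ⟨h1, h2⟩
    rw [hdisj, Subgroup.mem_bot] at h3
    have e2 : ((l : G) : G ⧸ Cfsg.pPrimeCore p G) * (e : G ⧸ Cfsg.pPrimeCore p G) =
        ((l * (e * l⁻¹ * e⁻¹) : G) : G ⧸ Cfsg.pPrimeCore p G) *
          ((e : G ⧸ Cfsg.pPrimeCore p G) * (l : G ⧸ Cfsg.pPrimeCore p G)) := by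
      simp only [QuotientGroup.mk_mul, QuotientGroup.mk_inv]; group
    rw [e2, h3, one_mul]
  -- apply the `p`-group lemma in the quotient
  have h1443 := Cfsg.Agent.S1443.result p hp (Cfsg.pCore p (G ⧸ Cfsg.pPrimeCore p G))
    (E.map (QuotientGroup.mk' (Cfsg.pPrimeCore p G))) (L.map (QuotientGroup.mk' (Cfsg.pPrimeCore p G)))
    (pCore_isPGroup p) hEb_le (isElementaryAbelian_map _ hE)
    (by rw [Subgroup.normalizer_eq_top]; exact le_top) hLb_cop (by
      intro xb hxb hox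
      obtain ⟨-, hxC⟩ := Subgroup.mem_inf.mp hxb
      have hxp : xb ^ p = 1 := by
        have h0 := pow_orderOf_eq_one xb
        rwa [hox] at h0
      have hxE : ∀ e ∈ E, xb * (e : G ⧸ Cfsg.pPrimeCore p G) = (e : G ⧸ Cfsg.pPrimeCore p G) * xb := by
        intro e he
        exact ((Subgroup.mem_centralizer_iff.mp hxC) _ (Subgroup.mem_map.mpr ⟨e, he, rfl⟩)).symm
      obtain ⟨e₀, he₀, rfl⟩ := Subgroup.mem_map.mp (mem_map_of_commute p E hE hEmax xb hxp hxE)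
      rintro _ ⟨l, hl, rfl⟩
      rw [Subgroup.mem_centralizer_iff]
      intro h hh
      rw [Set.mem_singleton_iff] at hh
      subst hh
      exact (hLE l hl e₀ he₀).symm)
  have hbot : L.map (QuotientGroup.mk' (Cfsg.pPrimeCore p G)) ≤ ⊥ := by
    rw [← hdisj]
    exact le_inf le_rfl (h1443.trans hcent)
  intro l hl
  have := hbot (Subgroup.mem_map_of_mem (QuotientGroup.mk' (Cfsg.pPrimeCore p G)) hl)
  rw [Subgroup.mem_bot] at this
  exact (QuotientGroup.eq_one_iff l).mp this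

end Cfsg.Agent.S1462
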