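import Cfsg.Statements.S0074

set_option autoImplicit false
open Pointwise
open Cfsg
open scoped commutatorElement

namespace Cfsg.Agent.S0074

/-- For an abelian Sylow p-subgroup P, the intersection of P with the derived subgroup of G equals its intersection with the derived subgroup of the normalizer of P. -/
theorem result {G : Type*} [Group G] [Finite G] {p : ℕ} [Fact p.Prime] (P : Sylow p G) (hP : IsMulCommutative P) : commutator G ⊓ (P : Subgroup G) = ⁅Subgroup.normalizer (P : Set G), Subgroup.normalizer (P : Set G)⁆ ⊓ (P : Subgroup G) := by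
  classical
  apply le_antisymm
  · rw [Subgroup.commutator_inf_eq_focalSubgroup P]
    refine le_inf ?_ (Subgroup.focalSubgroup_le _)
    rw [Subgroup.focalSubgroup_def, Subgroup.closure_le]
    rintro g ⟨hgP, x, hx, u, rfl⟩
    -- ⁅x, u⁆ = x * u * x⁻¹ * u⁻¹ ∈ P, so u x⁻¹ u⁻¹ ∈ P
    have hxi : x⁻¹ ∈ (P : Subgroup G) := inv_mem hx
    have hc : u * x⁻¹ * u⁻¹ ∈ (P : Subgroup G) := by
      have : u * x⁻¹ * u⁻¹ = x⁻¹ * ⁅x, u⁆ := by
        rw [commutatorElement_def]; group
      rw [this]; exact mul_mem hxi hgP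
    obtain ⟨n, hn, hn'⟩ := P.conj_eq_normalizer_conj_of_mem x⁻¹ u⁻¹ hxi (by simpa using (show u * x⁻¹ * u⁻¹ ∈ P from hc))
    -- u x⁻¹ u⁻¹ = n⁻¹ x⁻¹ n
    have hxN : x ∈ Subgroup.normalizer ((P : Subgroup G) : Set G) := Subgroup.le_normalizer hx
    have hniN : n⁻¹ ∈ Subgroup.normalizer ((P : Subgroup G) : Set G) := inv_mem hn
    have : ⁅x, u⁆ = ⁅x, n⁻¹⁆ := by
      rw [commutatorElement_def, commutatorElement_def]
      have h2 : u * x⁻¹ * u⁻¹ = n⁻¹ * x⁻¹ * n := by simpa using hn'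
      calc x * u * x⁻¹ * u⁻¹ = x * (u * x⁻¹ * u⁻¹) := by group
        _ = x * (n⁻¹ * x⁻¹ * n) := by rw [h2]
        _ = x * n⁻¹ * x⁻¹ * n⁻¹⁻¹ := by group
    rw [this]
    exact Subgroup.commutator_mem_commutator hxN hniN
  · refine inf_le_inf_right _ ?_
    exact Subgroup.commutator_mono le_top le_top

end Cfsg.Agent.S0074
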