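-- Statement S5911.
import Cfsg.Statements.S5911
-- import your own Cfsg.Agent.* helpers here

set_option autoImplicit false
open Cfsg

namespace Cfsg.Agent.S5911


open Nat in
lemma fact_ineq : ∀ k : ℕ, 3 ≤ k → 2 ^ (k + 1) * (k + 1)! < (2 * k)! * 2 := by
  intro k hk
  induction k, hk using Nat.le_induction with
  | base => decide
  | succ k hk ih =>
    have e1 : (2 * (k + 1))! = (2 * k + 2) * ((2 * k + 1) * (2 * k)!) := by
      rw [show 2 * (k + 1) = (2 * k + 1) + 1 by ring, Nat.factorial_succ, Nat.factorial_succ]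
    have e2 : (k + 1 + 1)! = (k + 2) * (k + 1)! := Nat.factorial_succ (k + 1)
    rw [e1, e2]
    have h3 : 2 * (k + 2) ≤ (2 * k + 2) * (2 * k + 1) := by nlinarith
    calc 2 ^ (k + 1 + 1) * ((k + 2) * (k + 1)!) = (2 * (k + 2)) * (2 ^ (k + 1) * (k + 1)!) := by ring
      _ < (2 * (k + 2)) * ((2 * k)! * 2) := by
        apply Nat.mul_lt_mul_of_pos_left ih (by positivity)
      _ ≤ ((2 * k + 2) * (2 * k + 1)) * ((2 * k)! * 2) := Nat.mul_le_mul_right _ h3
      _ = (2 * k + 2) * ((2 * k + 1) * (2 * k)!) * 2 := by ring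

open Nat in
lemma arith_key (m k : ℕ) (hk : 1 ≤ k)
    (h : (m + 2 * k)! * 2 = m ! * 2 ^ (k + 1) * (k + 1)!) : k = 2 ∧ m = 0 := by
  have h1 : m ! * (2 * k)! ≤ (m + 2 * k)! :=
    Nat.le_of_dvd (Nat.factorial_pos _) (Nat.factorial_mul_factorial_dvd_factorial_add m (2 * k))
  have hm : 0 < m ! := Nat.factorial_pos m
  have h2 : (2 * k)! * 2 ≤ 2 ^ (k + 1) * (k + 1)! := by
    have : m ! * ((2 * k)! * 2) ≤ m ! * (2 ^ (k + 1) * (k + 1)!) := by
      calc m ! * ((2 * k)! * 2) = (m ! * (2 * k)!) * 2 := by ring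
        _ ≤ (m + 2 * k)! * 2 := Nat.mul_le_mul_right _ h1
        _ = m ! * (2 ^ (k + 1) * (k + 1)!) := by rw [h]; ring
    exact Nat.le_of_mul_le_mul_left this hm
  have hk3 : k < 3 := by
    by_contra hcon
    have := fact_ineq k (by omega)
    omega
  have hk12 : k = 1 ∨ k = 2 := by omega
  rcases hk12 with rfl | rfl
  · exfalso
    have e : (m + 2 * 1)! = (m + 2) * ((m + 1) * m !) := by
      rw [show m + 2 * 1 = (m + 1) + 1 by ring, Nat.factorial_succ, Nat.factorial_succ]
    rw [e] at h
    norm_num [Nat.factorial] at h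
    have : (m + 2) * (m + 1) * 2 = 8 := by
      apply Nat.eq_of_mul_eq_mul_left hm
      nlinarith
    have hm1 : m ≤ 2 := by nlinarith
    interval_cases m <;> omega
  · refine ⟨rfl, ?_⟩
    have e : (m + 2 * 2)! = (m + 4) * ((m + 3) * ((m + 2) * ((m + 1) * m !))) := by
      rw [show m + 2 * 2 = (((m + 1) + 1) + 1) + 1 by ring, Nat.factorial_succ, Nat.factorial_succ,
        Nat.factorial_succ, Nat.factorial_succ]
    rw [e] at h
    norm_num [Nat.factorial] at h
    have : (m + 4) * (m + 3) * (m + 2) * (m + 1) * 2 = 48 := by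
      apply Nat.eq_of_mul_eq_mul_left hm
      nlinarith
    by_contra hne
    have hm1 : 1 ≤ m := Nat.one_le_iff_ne_zero.mpr hne
    have : 5 * 4 * 3 * 2 * 2 ≤ (m + 4) * (m + 3) * (m + 2) * (m + 1) * 2 := by
      gcongr <;> omega
    omega

lemma choose_ge : ∀ (m j : ℕ), 1 ≤ j → j + 1 ≤ m → m ≤ m.choose j := by
  intro m
  induction m with
  | zero => intro j h1 h2; omega
  | succ m ih =>
    intro j h1 h2
    obtain ⟨i, rfl⟩ : ∃ i, j = i + 1 := ⟨j - 1, by omega⟩
    rw [Nat.choose_succ_succ']
    rcases Nat.eq_zero_or_pos i with rfl | hi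
    · simp
    · rcases Nat.lt_or_ge (i + 1 + 1) (m + 1) with h3 | h3
      · have a1 := ih i hi (by omega)
        have a2 := ih (i + 1) (by omega) (by omega)
        omega
      · have : i + 1 = m := by omega
        subst this
        have a1 := ih i hi (by omega)
        simp

lemma choose_gt (n k : ℕ) (h2 : 2 ≤ k) (h3 : k + 2 ≤ n) : n < n.choose k := by
  obtain ⟨m, rfl⟩ : ∃ m, n = m + 1 := ⟨n - 1, by omega⟩
  obtain ⟨i, rfl⟩ : ∃ i, k = i + 1 := ⟨k - 1, by omega⟩
  rw [Nat.choose_succ_succ']
  have a1 := choose_ge m i (by omega) (by omega)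
  have a2 := choose_ge m (i + 1) (by omega) (by omega)
  omega




open MulAction

section
variable {Ω : Type*} [Fintype Ω] [DecidableEq Ω]

omit [DecidableEq Ω] in
lemma eq_stab_of_fixed (H : Subgroup (Equiv.Perm Ω)) (hH : H.index = Fintype.card Ω) (z : Ω)
    (hz : ∀ h ∈ H, h z = z) : H = MulAction.stabilizer (Equiv.Perm Ω) z := by
  have hle : H ≤ MulAction.stabilizer (Equiv.Perm Ω) z := fun h hh => by
    rw [MulAction.mem_stabilizer_iff]; exact hz h hh
  have hidx : (MulAction.stabilizer (Equiv.Perm Ω) z).index = Fintype.card Ω := by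
    rw [MulAction.index_stabilizer_of_transitive, Nat.card_eq_fintype_card]
  have hpos : 0 < Fintype.card Ω := Fintype.card_pos_iff.mpr ⟨z⟩
  apply Subgroup.eq_of_le_of_card_ge hle
  have h1 := H.card_mul_index
  have h2 := (MulAction.stabilizer (Equiv.Perm Ω) z).card_mul_index
  rw [hH] at h1
  rw [hidx] at h2
  have : Nat.card (MulAction.stabilizer (Equiv.Perm Ω) z) * Fintype.card Ω
      = Nat.card H * Fintype.card Ω := by rw [h1, h2]
  exact le_of_eq (Nat.eq_of_mul_eq_mul_right hpos this)

lemma intrans (H : Subgroup (Equiv.Perm Ω)) (hH : H.index = Fintype.card Ω) (x : Ω)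
    (hx : ∃ y, y ∉ MulAction.orbit H x) :
    ∃ z : Ω, H = MulAction.stabilizer (Equiv.Perm Ω) z := by
  classical
  obtain ⟨y, hy⟩ := hx
  set O : Set Ω := MulAction.orbit H x with hO
  let f : Ω → Bool := fun a => decide (a ∈ O)
  have hf : ∀ h ∈ H, ∀ a, f (h a) = f a := by
    intro h hh a
    simp only [f, decide_eq_decide]
    have : h a = (⟨h, hh⟩ : H) • a := rfl
    rw [this, hO, ← MulAction.orbit_eq_iff, ← MulAction.orbit_eq_iff (a := a), MulAction.orbit_smul]
  -- cardinalities
  set n := Fintype.card Ω with hn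
  set k := Fintype.card {a // f a = true} with hk
  set l := Fintype.card {a // f a = false} with hl
  have hkl : k + l = n := by
    rw [hk, hl, hn, ← Fintype.card_sum]
    refine Fintype.card_congr (Equiv.trans (Equiv.sumCongr (Equiv.refl _) (Equiv.subtypeEquivRight ?_))
      (Equiv.sumCompl (fun a => f a = true)))
    intro a
    simp
  have hk1 : 1 ≤ k := Fintype.card_pos_iff.mpr ⟨⟨x, by simp [f, hO]⟩⟩
  have hl1 : 1 ≤ l := Fintype.card_pos_iff.mpr ⟨⟨y, by simp [f, hy]⟩⟩
  have hcard : Nat.card H ≤ k.factorial * l.factorial := by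
    have h1 := DomMulAct.stabilizer_card f
    rw [Fintype.prod_bool] at h1
    rw [hk, hl, ← h1, ← Nat.card_eq_fintype_card]
    exact Nat.card_le_card_of_injective
      (fun h : H => (⟨h.1, funext (hf h.1 h.2)⟩ : {g : Equiv.Perm Ω // f ∘ g = f}))
      (fun a b hab => Subtype.ext (by simpa using congrArg Subtype.val hab))
  have hidx := H.card_mul_index
  rw [hH, Nat.card_perm, Nat.card_eq_fintype_card (α := Ω), ← hn] at hidx
  have hch := Nat.choose_mul_factorial_mul_factorial (show k ≤ n by omega)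
  have hnk : n - k = l := by omega
  rw [hnk] at hch
  have hle : n.choose k ≤ n := by
    have hpos : 0 < k.factorial * l.factorial := by positivity
    have : n.choose k * (k.factorial * l.factorial) ≤ n * (k.factorial * l.factorial) := by
      calc n.choose k * (k.factorial * l.factorial) = n.factorial := by rw [← hch]; ring
        _ = Nat.card H * n := hidx.symm
        _ ≤ (k.factorial * l.factorial) * n := Nat.mul_le_mul_right _ hcard
        _ = n * (k.factorial * l.factorial) := by ring
    exact Nat.le_of_mul_le_mul_right this hpos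
  have hkl1 : k = 1 ∨ l = 1 := by
    by_contra hcon
    have := choose_gt n k (by omega) (by omega)
    omega
  have hfix : ∃ i : Bool, Fintype.card {a // f a = i} = 1 := by
    rcases hkl1 with h | h
    · exact ⟨true, h⟩
    · exact ⟨false, h⟩
  obtain ⟨i, hi⟩ := hfix
  obtain ⟨⟨z, hz⟩, hzu⟩ := Fintype.card_eq_one_iff.mp hi
  refine ⟨z, eq_stab_of_fixed H hH z ?_⟩
  intro h hh
  have := hzu ⟨h z, by rw [hf h hh z, hz]⟩
  exact congrArg Subtype.val this

end



open MulAction

section
variable {A B : Type*} [Fintype A] [DecidableEq A] [Fintype B] [DecidableEq B]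

lemma card_centralizer_eq (e : Equiv.Perm A ≃* Equiv.Perm B) (τ : Equiv.Perm A) :
    Nat.card (Subgroup.centralizer {τ}) = Nat.card (Subgroup.centralizer {e τ}) := by
  refine Nat.card_congr (Equiv.subtypeEquiv e.toEquiv ?_)
  intro g
  simp only [Subgroup.mem_centralizer_singleton_iff, MulEquiv.toEquiv_eq_coe, MulEquiv.coe_toEquiv]
  rw [← map_mul, ← map_mul, e.injective.eq_iff]

lemma isSwap_map (e : Equiv.Perm A ≃* Equiv.Perm B) (hAB : Fintype.card A = Fintype.card B)
    (h6 : Fintype.card A ≠ 6) (τ : Equiv.Perm A) (hτ : τ.IsSwap) : (e τ).IsSwap := by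
  have hord : orderOf (e τ) = 2 := by
    rw [MulEquiv.orderOf_eq]; exact hτ.orderOf
  haveI : Fact (Nat.Prime 2) := ⟨Nat.prime_two⟩
  obtain ⟨k, hk⟩ := Equiv.Perm.cycleType_prime_order (σ := e τ) (by rw [hord]; exact Nat.prime_two)
  rw [hord] at hk
  have hc1 := Equiv.Perm.nat_card_centralizer τ
  have hc2 := Equiv.Perm.nat_card_centralizer (e τ)
  have hτc := Equiv.Perm.isSwap_iff_cycleType.mp hτ
  rw [← card_centralizer_eq e τ, hc1, hk, hτc] at hc2
  have htf : (Multiset.replicate (k + 1) 2).toFinset = {2} := by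
    rw [Multiset.toFinset_replicate, if_neg (Nat.succ_ne_zero k)]
  rw [htf] at hc2
  simp only [Multiset.sum_replicate, Multiset.prod_replicate, Multiset.sum_singleton,
    Multiset.prod_singleton, Multiset.toFinset_singleton, Finset.prod_singleton,
    Multiset.count_replicate_self, Multiset.count_singleton_self, smul_eq_mul,
    Nat.factorial_one, mul_one] at hc2
  have hsum : (e τ).cycleType.sum ≤ Fintype.card B := by
    rw [Equiv.Perm.sum_cycleType]; exact Finset.card_le_univ _
  rw [hk] at hsum
  simp only [Multiset.sum_replicate, smul_eq_mul] at hsum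
  rcases Nat.eq_zero_or_pos k with rfl | hkpos
  · rw [Equiv.Perm.isSwap_iff_cycleType, hk]
    simp
  · exfalso
    obtain ⟨m, hm⟩ : ∃ m, Fintype.card B = m + (k + 1) * 2 := ⟨Fintype.card B - (k + 1) * 2, by omega⟩
    rw [hAB, hm] at hc2
    have e1 : m + (k + 1) * 2 - 2 = m + 2 * k := by omega
    have e2 : m + (k + 1) * 2 - (k + 1) * 2 = m := by omega
    rw [e1, e2] at hc2
    obtain ⟨rfl, rfl⟩ := arith_key m k hkpos hc2
    apply h6
    rw [hAB, hm]

end


open MulAction

section
variable {A B : Type*} [Fintype A] [DecidableEq A] [Fintype B] [DecidableEq B]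

end

section
variable {Ω : Type*} [Fintype Ω] [DecidableEq Ω]

lemma not_trans (h5 : 5 ≤ Fintype.card Ω) (h6 : Fintype.card Ω ≠ 6) (H : Subgroup (Equiv.Perm Ω))
    (hH : H.index = Fintype.card Ω) : ¬ MulAction.IsPretransitive H Ω := by
  classical
  intro htr
  let Q := Equiv.Perm Ω ⧸ H
  letI : Fintype Q := Fintype.ofFinite Q
  have hQ : Fintype.card Q = Fintype.card Ω := by
    rw [← Nat.card_eq_fintype_card]; exact hH
  let φ : Equiv.Perm Ω →* Equiv.Perm Q := MulAction.toPermHom (Equiv.Perm Ω) Q
  have hker : φ.ker = ⊥ := by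
    rw [← Subgroup.normalCore_eq_ker]
    by_contra hne
    have hnt : Nontrivial H.normalCore := (Subgroup.nontrivial_iff_ne_bot _).mpr hne
    have hA := Equiv.Perm.alternatingGroup_le_of_normal
      (by rw [Nat.card_eq_fintype_card]; exact h5) hnt
    have hAH : alternatingGroup Ω ≤ H := hA.trans (Subgroup.normalCore_le H)
    have hdvd := Subgroup.index_dvd_of_le hAH
    haveI : Nontrivial Ω := Fintype.one_lt_card_iff_nontrivial.mp (by omega)
    rw [alternatingGroup.index_eq_two, hH] at hdvd
    have := Nat.le_of_dvd (by norm_num) hdvd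
    omega
  have hinj : Function.Injective φ := (MonoidHom.ker_eq_bot_iff φ).mp hker
  have hbij : Function.Bijective φ := by
    rw [Fintype.bijective_iff_injective_and_card]
    exact ⟨hinj, by rw [Fintype.card_perm, Fintype.card_perm, hQ]⟩
  let e : Equiv.Perm Ω ≃* Equiv.Perm Q := MulEquiv.ofBijective φ hbij
  let q₀ : Q := ((1 : Equiv.Perm Ω) : Q)
  have hmem : ∀ g, g ∈ H ↔ e g q₀ = q₀ := by
    intro g
    have : e g q₀ = g • q₀ := rfl
    rw [this, ← MulAction.mem_stabilizer_iff, MulAction.stabilizer_quotient]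
  let S : Set (Equiv.Perm Ω) := {σ | σ ∈ H ∧ σ.IsSwap}
  have hSH : Subgroup.closure S ≤ H := (Subgroup.closure_le H).mpr (fun σ hσ => hσ.1)
  have hHS : H ≤ Subgroup.closure S := by
    intro g hg
    let T : Set (Equiv.Perm Q) := {τ | τ.IsSwap ∧ τ q₀ = q₀}
    have hT : ∀ τ ∈ T, τ.IsSwap := fun τ h => h.1
    have heg : e g ∈ Subgroup.closure T := by
      rw [mem_closure_isSwap hT]
      refine ⟨Set.toFinite _, fun y => ?_⟩
      by_cases hy : e g y = y
      · rw [hy]; exact MulAction.mem_orbit_self y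
      · have h1 : y ≠ q₀ := by rintro rfl; exact hy ((hmem g).mp hg)
        have h2 : e g y ≠ q₀ := by
          intro h; apply h1; apply (e g).injective; rw [h, (hmem g).mp hg]
        have : Equiv.swap y (e g y) ∈ T :=
          ⟨⟨y, e g y, Ne.symm hy, rfl⟩, Equiv.swap_apply_of_ne_of_ne h1.symm h2.symm⟩
        exact ⟨⟨Equiv.swap y (e g y), Subgroup.subset_closure this⟩, Equiv.swap_apply_left _ _⟩
    have hg' : g = e.symm (e g) := (e.symm_apply_apply g).symm
    rw [hg']
    have hmap : (Subgroup.closure T).map e.symm.toMonoidHom ≤ Subgroup.closure S := by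
      rw [MonoidHom.map_closure, Subgroup.closure_le]
      rintro _ ⟨τ, hτ, rfl⟩
      apply Subgroup.subset_closure
      refine ⟨(hmem _).mpr ?_, isSwap_map e.symm hQ (by rw [hQ]; exact h6) τ hτ.1⟩
      simpa using hτ.2
    exact hmap (Subgroup.mem_map_of_mem _ heg)
  have hHeq : H = Subgroup.closure S := le_antisymm hHS hSH
  have htop : Subgroup.closure S = ⊤ := by
    haveI : MulAction.IsPretransitive (Subgroup.closure S) Ω := by rw [← hHeq]; exact htr
    exact closure_of_isSwap_of_isPretransitive (fun σ hσ => hσ.2)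
  rw [← hHeq] at htop
  rw [htop, Subgroup.index_top] at hH
  omega

end


open MulAction

section
variable {Ω : Type*} [Fintype Ω] [DecidableEq Ω]




theorem result' (h6 : Fintype.card Ω ≠ 6)
    (H : Subgroup (Equiv.Perm Ω)) (hH : H.index = Fintype.card Ω) :
    ∃ x : Ω, H = MulAction.stabilizer (Equiv.Perm Ω) x := by
  classical
  have hn0 : Fintype.card Ω ≠ 0 := by
    rw [← hH]; exact Subgroup.index_ne_zero_of_finite
  obtain ⟨x⟩ : Nonempty Ω := Fintype.card_pos_iff.mp (Nat.pos_of_ne_zero hn0)
  by_cases htr : MulAction.IsPretransitive H Ω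
  · by_cases h5 : 5 ≤ Fintype.card Ω
    · exact absurd htr (not_trans h5 h6 H hH)
    · have h1 : (MulAction.stabilizer H x).index = Fintype.card Ω := by
        rw [MulAction.index_stabilizer_of_transitive, Nat.card_eq_fintype_card]
      have h2 : Fintype.card Ω ∣ Nat.card H := by
        rw [← h1]; exact Subgroup.index_dvd_card _
      have h3 := H.card_mul_index
      rw [hH, Nat.card_perm, Nat.card_eq_fintype_card (α := Ω)] at h3
      obtain ⟨c, hc⟩ := h2
      rw [hc] at h3
      have hn4 : Fintype.card Ω ≤ 4 := by omega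
      have hn1 : Fintype.card Ω = 1 := by
        generalize Fintype.card Ω = n at *
        interval_cases n
        · omega
        · rfl
        · norm_num [Nat.factorial] at h3 <;> omega
        · norm_num [Nat.factorial] at h3 <;> omega
        · norm_num [Nat.factorial] at h3 <;> omega
      haveI : Subsingleton Ω := Fintype.card_le_one_iff_subsingleton.mp (by omega)
      exact ⟨x, eq_stab_of_fixed H hH x (fun h _ => Subsingleton.elim _ _)⟩
  · apply intrans H hH x
    by_contra hcon
    push Not at hcon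
    apply htr
    refine ⟨fun a b => ?_⟩
    have ha := hcon a
    have hb := hcon b
    rw [← MulAction.orbit_eq_iff] at ha hb
    have : b ∈ MulAction.orbit H a := by rw [ha, ← hb]; exact MulAction.mem_orbit_self b
    exact this

end


/-- Let Ω be a finite set whose size n is not 6. Then every subgroup of the symmetric group on Ω of index n is the stabilizer of a point. -/
theorem result {Ω : Type*} [Fintype Ω] [DecidableEq Ω] (h6 : Fintype.card Ω ≠ 6)
    (H : Subgroup (Equiv.Perm Ω)) (hH : H.index = Fintype.card Ω) :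
    ∃ x : Ω, H = MulAction.stabilizer (Equiv.Perm Ω) x := by
  exact result' h6 H hH

end Cfsg.Agent.S5911
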