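-- Statement S0711.
import Cfsg.Statements.S0711
import Cfsg.Agent.Lib.Helper29.MultTrans

set_option autoImplicit false
open Cfsg

namespace Cfsg.Agent.S0711

open Cfsg.Agent.Helper29.MultTrans

variable {α : Type*} [Fintype α] [DecidableEq α]

/-- an element of `G` fixing `F` pointwise and mapping `b` to `w` -/
theorem exists_fix_map {G : Subgroup (Equiv.Perm α)} {k : ℕ} (hT : Trans G ∅ k) (F : Finset α) (b w : α)
    (hF : F.card + 1 ≤ k) (hb : b ∉ F) (hw : w ∉ F) : ∃ h ∈ G, (∀ x ∈ F, h x = x) ∧ h b = w := by
  obtain ⟨h, hh, hmap⟩ := hT (F.toList ++ [b]) (F.toList ++ [w]) (by simp) (by simpa using hF)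
    (by
      rw [List.nodup_append]
      refine ⟨Finset.nodup_toList F, List.nodup_singleton b, ?_⟩
      intro x hx y hy
      rw [List.mem_singleton] at hy
      rw [Finset.mem_toList] at hx
      rintro rfl
      exact hb (hy ▸ hx))
    (by
      rw [List.nodup_append]
      refine ⟨Finset.nodup_toList F, List.nodup_singleton w, ?_⟩
      intro x hx y hy
      rw [List.mem_singleton] at hy
      rw [Finset.mem_toList] at hx
      rintro rfl
      exact hw (hy ▸ hx))
    (fun _ _ => by simp) (fun _ _ => by simp)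
  refine ⟨h, hh, ?_, ?_⟩
  · rw [List.map_append] at hmap
    have h1 := (List.append_inj hmap (by simp)).1
    intro x hx
    have h2 : F.toList.map h = F.toList.map id := by rw [List.map_id]; exact h1
    exact List.map_inj_left.mp h2 x (Finset.mem_toList.mpr hx)
  · rw [List.map_append] at hmap
    have h1 := (List.append_inj hmap (by simp)).2
    simpa using h1

/-- support of the commutator -/
theorem support_comm {g h : Equiv.Perm α} {F : Finset α} (hF : ∀ x ∈ F, h x = x) :
    (g⁻¹ * h * g * h⁻¹).support ⊆
      (F.filter (fun x => g x ∉ F)) ∪ ((g.support \ F) ∪ (g.support \ F).image h) := by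
  intro x hx
  rw [Equiv.Perm.mem_support] at hx
  have hinv : ∀ y ∈ F, h⁻¹ y = y := fun y hy => by
    rw [Equiv.Perm.inv_def, Equiv.symm_apply_eq]
    exact (hF y hy).symm
  simp only [Finset.mem_union, Finset.mem_filter, Finset.mem_sdiff, Finset.mem_image,
    Equiv.Perm.mem_support]
  by_cases hxF : x ∈ F
  · left
    refine ⟨hxF, fun hgx => hx ?_⟩
    simp only [Equiv.Perm.mul_apply]
    rw [hinv x hxF, hF _ hgx, Equiv.Perm.inv_def, Equiv.symm_apply_apply]
  · right
    by_cases hgx : g x = x
    · right
      have e1 : h (h⁻¹ x) = x := by rw [Equiv.Perm.inv_def, Equiv.apply_symm_apply]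
      refine ⟨h⁻¹ x, ⟨?_, ?_⟩, e1⟩
      · intro hy
        apply hx
        simp only [Equiv.Perm.mul_apply]
        rw [hy, e1, Equiv.Perm.inv_def, Equiv.symm_apply_eq]
        exact hgx.symm
      · intro hy
        have h2 := hF _ hy
        rw [e1] at h2
        exact hxF (h2 ▸ hy)
    · left
      exact ⟨hgx, hxF⟩

theorem card_union_image_le {D : Finset α} {h : Equiv.Perm α} {b : α} (hb : b ∈ D) (hhb : h b ∈ D) :
    (D ∪ D.image h).card + 1 ≤ 2 * D.card := by
  have h1 : D ∪ D.image h ⊆ D ∪ (D.erase b).image h := by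
    intro x hx
    rw [Finset.mem_union] at hx ⊢
    rcases hx with hx | hx
    · exact Or.inl hx
    · rw [Finset.mem_image] at hx
      obtain ⟨y, hy, rfl⟩ := hx
      by_cases hyb : y = b
      · left; rw [hyb]; exact hhb
      · right
        exact Finset.mem_image_of_mem _ (Finset.mem_erase.mpr ⟨hyb, hy⟩)
  have h2 := Finset.card_le_card h1
  have h3 := Finset.card_union_le D ((D.erase b).image h)
  have h4 : ((D.erase b).image h).card ≤ (D.erase b).card := Finset.card_image_le
  have h5 := Finset.card_erase_of_mem hb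
  have h6 : 0 < D.card := Finset.card_pos.mpr ⟨b, hb⟩
  omega

def Closed (g : Equiv.Perm α) (F : Finset α) : Prop := ∀ x ∈ F, g x ∈ F

def OneExit (g : Equiv.Perm α) (F : Finset α) (a : α) : Prop :=
  a ∈ F ∧ g a ∉ F ∧ ∀ x ∈ F, x ≠ a → g x ∈ F

theorem Closed.back {g : Equiv.Perm α} {F : Finset α} (h : Closed g F) {x : α} (hx : g x ∈ F) : x ∈ F := by
  have h1 : F.image g ⊆ F := by
    intro y hy
    rw [Finset.mem_image] at hy
    obtain ⟨z, hz, rfl⟩ := hy
    exact h z hz
  have h2 : F.image g = F := Finset.eq_of_subset_of_card_le h1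
    (by rw [Finset.card_image_of_injective _ g.injective])
  rw [← h2, Finset.mem_image] at hx
  obtain ⟨z, hz, hzx⟩ := hx
  exact g.injective hzx ▸ hz

theorem exists_good (g : Equiv.Perm α) (j : ℕ) (hj1 : 1 ≤ j) (hj : j ≤ g.support.card) :
    ∃ F : Finset α, F ⊆ g.support ∧ F.card = j ∧ (Closed g F ∨ ∃ a, OneExit g F a) := by
  induction j, hj1 using Nat.le_induction with
  | base =>
    obtain ⟨a, ha⟩ := Finset.card_pos.mp (lt_of_lt_of_le Nat.zero_lt_one hj)
    refine ⟨{a}, by simpa using ha, by simp, Or.inr ⟨a, by simp, ?_, ?_⟩⟩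
    · rw [Finset.mem_singleton]
      exact Equiv.Perm.mem_support.mp ha
    · intro x hx hxa
      rw [Finset.mem_singleton] at hx
      exact absurd hx hxa
  | succ j hj1 ih =>
    obtain ⟨F, hFs, hFc, hF⟩ := ih (by omega)
    rcases hF with hcl | ⟨a, haF, hgaF, hrest⟩
    · -- closed: add a new point
      obtain ⟨a', ha', ha'F⟩ := Finset.exists_mem_notMem_of_card_lt_card (by omega : F.card < g.support.card)
      refine ⟨insert a' F, ?_, by rw [Finset.card_insert_of_notMem ha'F, hFc], Or.inr ⟨a', ?_, ?_, ?_⟩⟩
      · intro x hx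
        rw [Finset.mem_insert] at hx
        rcases hx with rfl | hx
        · exact ha'
        · exact hFs hx
      · exact Finset.mem_insert_self _ _
      · rw [Finset.mem_insert, not_or]
        exact ⟨Equiv.Perm.mem_support.mp ha', fun h => ha'F (hcl.back h)⟩
      · intro x hx hxa
        rw [Finset.mem_insert] at hx
        rcases hx with rfl | hx
        · exact absurd rfl hxa
        · exact Finset.mem_insert_of_mem (hcl x hx)
    · -- one exit: add g a
      have hb : g a ∈ g.support := Equiv.Perm.apply_mem_support.mpr (hFs haF)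
      have hF' : insert (g a) F ⊆ g.support := by
        intro x hx
        rw [Finset.mem_insert] at hx
        rcases hx with rfl | hx
        · exact hb
        · exact hFs hx
      refine ⟨insert (g a) F, hF', by rw [Finset.card_insert_of_notMem hgaF, hFc], ?_⟩
      by_cases hgb : g (g a) ∈ insert (g a) F
      · left
        intro x hx
        rw [Finset.mem_insert] at hx
        rcases hx with rfl | hx
        · exact hgb
        · by_cases hxa : x = a
          · rw [hxa]; exact Finset.mem_insert_self _ _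
          · exact Finset.mem_insert_of_mem (hrest x hx hxa)
      · right
        refine ⟨g a, Finset.mem_insert_self _ _, hgb, ?_⟩
        intro x hx hxa
        rw [Finset.mem_insert] at hx
        rcases hx with rfl | hx
        · exact absurd rfl hxa
        · by_cases hxa' : x = a
          · rw [hxa']; exact Finset.mem_insert_self _ _
          · exact Finset.mem_insert_of_mem (hrest x hx hxa')


theorem comm_mem {G : Subgroup (Equiv.Perm α)} {g h : Equiv.Perm α} (hg : g ∈ G) (hh : h ∈ G) :
    g⁻¹ * h * g * h⁻¹ ∈ G :=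
  G.mul_mem (G.mul_mem (G.mul_mem (G.inv_mem hg) hh) hg) (G.inv_mem hh)

theorem comm_apply_of_fix {g h : Equiv.Perm α} {a : α} (ha : h a = a) :
    (g⁻¹ * h * g * h⁻¹) a = g⁻¹ (h (g a)) := by
  have : h⁻¹ a = a := by rw [Equiv.Perm.inv_def, Equiv.symm_apply_eq]; exact ha.symm
  simp only [Equiv.Perm.mul_apply]
  rw [this]

/-- small support: `m ≤ k` -/
theorem case1 {G : Subgroup (Equiv.Perm α)} {k : ℕ} (hT : Trans G ∅ k) {g : Equiv.Perm α} (hg : g ∈ G)
    (hg1 : g ≠ 1) (hmk : g.support.card ≤ k) (hkn : k < Fintype.card α) :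
    ∃ c ∈ G, c ≠ 1 ∧ c.support.card ≤ 3 := by
  obtain ⟨a, ha⟩ : g.support.Nonempty := by
    rw [Finset.nonempty_iff_ne_empty, Ne, Equiv.Perm.support_eq_empty_iff]
    exact hg1
  have hga : g a ≠ a := Equiv.Perm.mem_support.mp ha
  have hb : g a ∈ g.support := Equiv.Perm.apply_mem_support.mpr ha
  obtain ⟨w, hw⟩ : ∃ w, w ∉ g.support := by
    by_contra hcon
    push Not at hcon
    have : g.support = Finset.univ := Finset.eq_univ_iff_forall.mpr hcon
    rw [this, Finset.card_univ] at hmk
    omega
  have hFc : (g.support.erase (g a)).card + 1 ≤ k := by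
    rw [Finset.card_erase_of_mem hb]
    have : 0 < g.support.card := Finset.card_pos.mpr ⟨a, ha⟩
    omega
  obtain ⟨h, hh, hfix, hbw⟩ := exists_fix_map hT (g.support.erase (g a)) (g a) w hFc
    (Finset.notMem_erase _ _) (fun h => hw (Finset.mem_of_mem_erase h))
  refine ⟨g⁻¹ * h * g * h⁻¹, comm_mem hg hh, ?_, ?_⟩
  · intro hc
    have h1 := comm_apply_of_fix (g := g) (hfix a (Finset.mem_erase.mpr ⟨hga.symm, ha⟩))
    rw [hc, hbw, Equiv.Perm.one_apply, Equiv.Perm.inv_def, Equiv.eq_symm_apply] at h1
    exact hw (h1 ▸ hb)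
  · have h1 := support_comm (g := g) hfix
    have h2 : (g⁻¹ * h * g * h⁻¹).support ⊆ {g⁻¹ (g a), g a, w} := by
      intro x hx
      have := h1 hx
      simp only [Finset.mem_union, Finset.mem_filter, Finset.mem_sdiff, Finset.mem_image,
        Finset.mem_erase, not_and] at this
      simp only [Finset.mem_insert, Finset.mem_singleton]
      rcases this with ⟨⟨_, hxs⟩, h3⟩ | ⟨hxs, h3⟩ | ⟨y, ⟨hys, h3⟩, rfl⟩
      · left
        have h4 : g x ∈ g.support := Equiv.Perm.apply_mem_support.mpr hxs
        by_cases h5 : g x = g a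
        · rw [← h5, Equiv.Perm.inv_def, Equiv.symm_apply_apply]
        · exact absurd h4 (h3 h5)
      · right; left
        by_contra h5
        exact h3 h5 hxs
      · right; right
        by_cases h5 : y = g a
        · rw [h5]; exact hbw
        · exact absurd hys (h3 h5)
    exact (Finset.card_le_card h2).trans Finset.card_le_three

/-- one-exit set of size `k - 1` -/
theorem case2 {G : Subgroup (Equiv.Perm α)} {k : ℕ} (hT : Trans G ∅ k) {g : Equiv.Perm α} (hg : g ∈ G)
    {F : Finset α} (hFs : F ⊆ g.support) (hFc : F.card + 1 = k) {a : α} (hexit : OneExit g F a)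
    (hm1 : k + 1 ≤ g.support.card) (hm2 : g.support.card + 3 ≤ 2 * k) :
    ∃ c ∈ G, c ≠ 1 ∧ c.support.card < g.support.card := by
  obtain ⟨haF, hgaF, hrest⟩ := hexit
  have hb : g a ∈ g.support := Equiv.Perm.apply_mem_support.mpr (hFs haF)
  have hDc : (g.support \ F).card = g.support.card - F.card := Finset.card_sdiff_of_subset hFs
  have hbD : g a ∈ g.support \ F := Finset.mem_sdiff.mpr ⟨hb, hgaF⟩
  obtain ⟨w, hw⟩ : ((g.support \ F).erase (g a)).Nonempty := by
    rw [← Finset.card_pos, Finset.card_erase_of_mem hbD, hDc]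
    omega
  rw [Finset.mem_erase, Finset.mem_sdiff] at hw
  obtain ⟨hwb, hws, hwF⟩ := hw
  obtain ⟨h, hh, hfix, hbw⟩ := exists_fix_map hT F (g a) w (by omega) hgaF hwF
  refine ⟨g⁻¹ * h * g * h⁻¹, comm_mem hg hh, ?_, ?_⟩
  · intro hc
    have h1 := comm_apply_of_fix (g := g) (hfix a haF)
    rw [hc, hbw, Equiv.Perm.one_apply, Equiv.Perm.inv_def, Equiv.eq_symm_apply] at h1
    exact hwb h1.symm
  · have h1 := Finset.card_le_card (support_comm (g := g) hfix)
    have h2 := Finset.card_union_le (F.filter (fun x => g x ∉ F))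
      ((g.support \ F) ∪ (g.support \ F).image h)
    have h3 : (F.filter (fun x => g x ∉ F)).card ≤ 1 := by
      rw [Finset.card_le_one]
      intro x hx y hy
      rw [Finset.mem_filter] at hx hy
      have hxa : x = a := by
        by_contra hne
        exact hx.2 (hrest x hx.1 hne)
      have hya : y = a := by
        by_contra hne
        exact hy.2 (hrest y hy.1 hne)
      rw [hxa, hya]
    have h4 := card_union_image_le (h := h) hbD (by rw [hbw]; exact Finset.mem_sdiff.mpr ⟨hws, hwF⟩)
    omega

/-- closed set of size `k - 1`, `m ≤ 2k - 4` -/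
theorem case3b {G : Subgroup (Equiv.Perm α)} {k : ℕ} (hk : 3 ≤ k) (hT : Trans G ∅ k) {g : Equiv.Perm α}
    (hg : g ∈ G)
    {F : Finset α} (hFs : F ⊆ g.support) (hFc : F.card + 1 = k) (hcl : Closed g F)
    (hm1 : k + 1 ≤ g.support.card) (hm2 : g.support.card + 4 ≤ 2 * k) :
    ∃ c ∈ G, c ≠ 1 ∧ c.support.card < g.support.card := by
  obtain ⟨f, hf⟩ : F.Nonempty := by rw [← Finset.card_pos]; omega
  obtain ⟨b, hb, hbF⟩ := Finset.exists_mem_notMem_of_card_lt_card (by omega : F.card < g.support.card)
  have hgb : g b ≠ b := Equiv.Perm.mem_support.mp hb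
  have hgbs : g b ∈ g.support := Equiv.Perm.apply_mem_support.mpr hb
  have hgbF : g b ∉ F := fun h => hbF (hcl.back h)
  have hfb : f ≠ b := fun h => hbF (h ▸ hf)
  have hfgb : f ≠ g b := fun h => hgbF (h ▸ hf)
  have hbFe : b ∉ F.erase f := fun h => hbF (Finset.mem_of_mem_erase h)
  have hF'c : (insert b (F.erase f)).card = F.card := by
    rw [Finset.card_insert_of_notMem hbFe, Finset.card_erase_of_mem hf]
    have : 0 < F.card := Finset.card_pos.mpr ⟨f, hf⟩
    omega
  have hF's : insert b (F.erase f) ⊆ g.support := by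
    intro x hx
    rw [Finset.mem_insert] at hx
    rcases hx with rfl | hx
    · exact hb
    · exact hFs (Finset.mem_of_mem_erase hx)
  have hgbF' : g b ∉ insert b (F.erase f) := by
    rw [Finset.mem_insert, not_or]
    exact ⟨hgb, fun h => hgbF (Finset.mem_of_mem_erase h)⟩
  have hfF' : f ∉ insert b (F.erase f) := by
    rw [Finset.mem_insert, not_or]
    exact ⟨hfb, Finset.notMem_erase _ _⟩
  obtain ⟨h, hh, hfix, hbw⟩ := exists_fix_map hT (insert b (F.erase f)) (g b) f (by omega) hgbF' hfF'
  refine ⟨g⁻¹ * h * g * h⁻¹, comm_mem hg hh, ?_, ?_⟩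
  · intro hc
    have h1 := comm_apply_of_fix (g := g) (hfix b (Finset.mem_insert_self _ _))
    rw [hc, hbw, Equiv.Perm.one_apply, Equiv.Perm.inv_def, Equiv.eq_symm_apply] at h1
    exact hfgb h1.symm
  · have h1 := Finset.card_le_card (support_comm (g := g) hfix)
    have h2 := Finset.card_union_le ((insert b (F.erase f)).filter (fun x => g x ∉ insert b (F.erase f)))
      ((g.support \ insert b (F.erase f)) ∪ (g.support \ insert b (F.erase f)).image h)
    have h3 : ((insert b (F.erase f)).filter (fun x => g x ∉ insert b (F.erase f))).card ≤ 2 := by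
      have : (insert b (F.erase f)).filter (fun x => g x ∉ insert b (F.erase f)) ⊆ {g⁻¹ f, b} := by
        intro x hx
        rw [Finset.mem_filter, Finset.mem_insert] at hx
        rw [Finset.mem_insert, Finset.mem_singleton]
        rcases hx with ⟨rfl | hx, hx2⟩
        · right; rfl
        · left
          have h5 : g x ∈ F := hcl x (Finset.mem_of_mem_erase hx)
          rw [Finset.mem_insert, not_or, Finset.mem_erase, not_and] at hx2
          have h6 : g x = f := by
            by_contra h7
            exact hx2.2 h7 h5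
          rw [← h6, Equiv.Perm.inv_def, Equiv.symm_apply_apply]
      exact (Finset.card_le_card this).trans Finset.card_le_two
    have hDc : (g.support \ insert b (F.erase f)).card = g.support.card - (insert b (F.erase f)).card :=
      Finset.card_sdiff_of_subset hF's
    have h4 := card_union_image_le (h := h) (b := g b) (D := g.support \ insert b (F.erase f))
      (Finset.mem_sdiff.mpr ⟨hgbs, hgbF'⟩) (by rw [hbw]; exact Finset.mem_sdiff.mpr ⟨hFs hf, hfF'⟩)
    omega


theorem step {G : Subgroup (Equiv.Perm α)} {k : ℕ} (hk : 3 ≤ k) (hkn : k < Fintype.card α)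
    (hT : Trans G ∅ k) {g : Equiv.Perm α} (hg : g ∈ G) (hg1 : g ≠ 1) (hm4 : 4 ≤ g.support.card)
    (hm2 : g.support.card + 3 ≤ 2 * k) :
    ∃ c ∈ G, c ≠ 1 ∧ c.support.card < g.support.card := by
  by_cases hmk : g.support.card ≤ k
  · obtain ⟨c, hc, hc1, hc3⟩ := case1 hT hg hg1 hmk hkn
    exact ⟨c, hc, hc1, by omega⟩
  · push Not at hmk
    obtain ⟨F, hFs, hFc, hF⟩ := exists_good g (k - 1) (by omega) (by omega)
    rcases hF with hcl | ⟨a, hexit⟩
    · by_cases hm3 : g.support.card + 4 ≤ 2 * k
      · exact case3b hk hT hg hFs (by omega) hcl (by omega) hm3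
      · -- m = 2k - 3
        obtain ⟨f, hf⟩ : F.Nonempty := by rw [← Finset.card_pos]; omega
        have hfD : f ∉ g.support \ F := fun h => (Finset.mem_sdiff.mp h).2 hf
        have hDc : (g.support \ F).card = g.support.card - F.card := Finset.card_sdiff_of_subset hFs
        have hF''s : insert f (g.support \ F) ⊆ g.support := by
          intro x hx
          rw [Finset.mem_insert] at hx
          rcases hx with rfl | hx
          · exact hFs hf
          · exact (Finset.mem_sdiff.mp hx).1
        refine case2 hT hg hF''s (by rw [Finset.card_insert_of_notMem hfD, hDc]; omega) (a := f)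
          ⟨Finset.mem_insert_self _ _, ?_, ?_⟩ (by omega) hm2
        · rw [Finset.mem_insert, not_or]
          exact ⟨Equiv.Perm.mem_support.mp (hFs hf), fun h => (Finset.mem_sdiff.mp h).2 (hcl f hf)⟩
        · intro x hx hxf
          rw [Finset.mem_insert] at hx
          rcases hx with rfl | hx
          · exact absurd rfl hxf
          · rw [Finset.mem_sdiff] at hx
            exact Finset.mem_insert_of_mem (Finset.mem_sdiff.mpr
              ⟨Equiv.Perm.apply_mem_support.mpr hx.1, fun h => hx.2 (hcl.back h)⟩)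
    · exact case2 hT hg hFs (by omega) hexit (by omega) hm2

theorem eq_top_of_trans_card {G : Subgroup (Equiv.Perm α)} (hT : Trans G ∅ (Fintype.card α)) : G = ⊤ := by
  rw [eq_top_iff]
  intro σ _
  obtain ⟨h, hh, hmap⟩ := hT Finset.univ.toList (Finset.univ.toList.map σ) (by simp) (by simp)
    (Finset.nodup_toList _) ((Finset.nodup_toList _).map σ.injective) (fun _ _ => by simp) (fun _ _ => by simp)
  have : h = σ := by
    ext x
    exact List.map_inj_left.mp hmap x (by simp)
  exact this ▸ hh

theorem main {G : Subgroup (Equiv.Perm α)} {k : ℕ} (hk : 3 ≤ k) (hkn : k ≤ Fintype.card α)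
    (hT : Trans G ∅ k) : ∀ m : ℕ, ∀ g ∈ G, g ≠ 1 → g.support.card = m → m + 3 ≤ 2 * k →
    ∃ c ∈ G, c ≠ 1 ∧ c.support.card ≤ 3 := by
  intro m
  induction m using Nat.strong_induction_on with
  | _ m ih =>
    intro g hg hg1 hgm hm2
    by_cases hm3 : m ≤ 3
    · exact ⟨g, hg, hg1, by omega⟩
    · rcases Nat.lt_or_ge k (Fintype.card α) with hlt | hge
      · obtain ⟨c, hc, hc1, hcm⟩ := step hk hlt hT hg hg1 (by omega) (by omega)
        exact ih c.support.card (by omega) c hc hc1 rfl (by omega)
      · have hkeq : k = Fintype.card α := le_antisymm hkn hge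
        subst hkeq
        have htop := eq_top_of_trans_card hT
        have h2 : 1 < Fintype.card α := by omega
        obtain ⟨x, y, hxy⟩ := Fintype.exists_pair_of_one_lt_card h2
        refine ⟨Equiv.swap x y, by rw [htop]; trivial, ?_, ?_⟩
        · intro h
          have := Equiv.swap_apply_left x y
          rw [h, Equiv.Perm.one_apply] at this
          exact hxy this
        · rw [Equiv.Perm.card_support_swap hxy]
          omega


/-- A `k`-transitive permutation group (`k ≥ 3`) with a non-identity element of support smaller than `2k - 2` contains a non-identity element of support at most 3, and therefore contains the alternating group. -/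
theorem result {α : Type*} [Fintype α] [DecidableEq α] (G : Subgroup (Equiv.Perm α)) {k : ℕ} (hk : 3 ≤ k) (hkn : k ≤ Fintype.card α) (hG : MulAction.IsMultiplyPretransitive G α k) (g : Equiv.Perm α) (hg : g ∈ G) (hg1 : g ≠ 1) (hsupp : g.support.card < 2 * k - 2) : (∃ h : Equiv.Perm α, h ∈ G ∧ h ≠ 1 ∧ h.support.card ≤ 3) ∧ alternatingGroup α ≤ G := by
  have hT : Trans G ∅ k := trans_of_isMultiplyPretransitive G k hG (by rw [Nat.card_eq_fintype_card]; exact hkn)
  obtain ⟨c, hc, hc1, hc3⟩ := main hk hkn hT g.support.card g hg hg1 rfl (by omega)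
  refine ⟨⟨c, hc, hc1, hc3⟩, ?_⟩
  have h2 : MulAction.IsMultiplyPretransitive G α 2 :=
    MulAction.isMultiplyPretransitive_of_le (n := k) (by omega) (by rw [Nat.card_eq_fintype_card]; exact hkn)
  have hprim : MulAction.IsPreprimitive G α := MulAction.isPreprimitive_of_is_two_pretransitive h2
  have h0 : c.support.card ≠ 0 := by
    rw [Ne, Finset.card_eq_zero, Equiv.Perm.support_eq_empty_iff]
    exact hc1
  have h1 : c.support.card ≠ 1 := Equiv.Perm.card_support_ne_one c
  have h23 : c.support.card = 2 ∨ c.support.card = 3 := by omega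
  rcases h23 with h | h
  · have := Equiv.Perm.subgroup_eq_top_of_isPreprimitive_of_isSwap_mem hprim c
      (Equiv.Perm.card_support_eq_two.mp h) hc
    rw [this]
    exact le_top
  · exact Equiv.Perm.alternatingGroup_le_of_isPreprimitive_of_isThreeCycle_mem hprim
      (card_support_eq_three_iff.mp h) hc

end Cfsg.Agent.S0711
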