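import Mathlib
import Cfsg.Statements.S0266

set_option autoImplicit false
open scoped MatrixGroups
open Cfsg

namespace Cfsg.Agent.S0266

open Matrix Projectivization

variable {F : Type*} [Field F]

/-- the `2 × 2` determinant of two vectors -/
def D (u v : Fin 2 → F) : F := u 0 * v 1 - v 0 * u 1

lemma D_ne_zero {u v : Fin 2 → F} (hu : u ≠ 0) (hv : v ≠ 0)
    (h : Projectivization.mk F u hu ≠ Projectivization.mk F v hv) : D u v ≠ 0 := by
  intro hD
  apply h
  rw [Projectivization.mk_eq_mk_iff']
  unfold D at hD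
  by_cases hv0 : v 0 = 0
  · have hv1 : v 1 ≠ 0 := by
      intro hv1
      apply hv
      ext i; fin_cases i <;> simp [hv0, hv1]
    have hu0 : u 0 = 0 := by
      rw [hv0, zero_mul, sub_zero] at hD
      rcases mul_eq_zero.1 hD with h' | h'
      · exact h'
      · exact absurd h' hv1
    refine ⟨u 1 / v 1, ?_⟩
    ext i; fin_cases i
    · simp [hv0, hu0]
    · simp; field_simp
  · refine ⟨u 0 / v 0, ?_⟩
    ext i; fin_cases i
    · simp; field_simp
    · show u 0 / v 0 * v 1 = u 1
      rw [div_mul_eq_mul_div, div_eq_iff hv0]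
      linear_combination hD

/-- the matrix with columns `u`, `v` -/
noncomputable def colMat (u v : Fin 2 → F) (h : D u v ≠ 0) : GL (Fin 2) F :=
  Matrix.GeneralLinearGroup.mkOfDetNeZero !![u 0, v 0; u 1, v 1] (by
    rw [Matrix.det_fin_two_of]; exact h)

lemma colMat_e1 (u v : Fin 2 → F) (h : D u v ≠ 0) : colMat u v h • (![1, 0] : Fin 2 → F) = u := by
  ext i; fin_cases i <;> simp [colMat, Matrix.GeneralLinearGroup.mkOfDetNeZero, Units.smul_def, Matrix.smul_eq_mulVec, Matrix.mulVec, dotProduct, Fin.sum_univ_two]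

lemma colMat_e2 (u v : Fin 2 → F) (h : D u v ≠ 0) : colMat u v h • (![0, 1] : Fin 2 → F) = v := by
  ext i; fin_cases i <;> simp [colMat, Matrix.GeneralLinearGroup.mkOfDetNeZero, Units.smul_def, Matrix.smul_eq_mulVec, Matrix.mulVec, dotProduct, Fin.sum_univ_two]

lemma colMat_e12 (u v : Fin 2 → F) (h : D u v ≠ 0) :
    colMat u v h • (![1, 1] : Fin 2 → F) = u + v := by
  ext i; fin_cases i <;> simp [colMat, Matrix.GeneralLinearGroup.mkOfDetNeZero, Units.smul_def, Matrix.smul_eq_mulVec, Matrix.mulVec, dotProduct, Fin.sum_univ_two]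

lemma e1_ne : (![1, 0] : Fin 2 → F) ≠ 0 := by
  intro h; have := congrFun h 0; simp at this
lemma e2_ne : (![0, 1] : Fin 2 → F) ≠ 0 := by
  intro h; have := congrFun h 1; simp at this
lemma e12_ne : (![1, 1] : Fin 2 → F) ≠ 0 := by
  intro h; have := congrFun h 0; simp at this

/-- the standard frame -/
noncomputable def E1 : Projectivization F (Fin 2 → F) := Projectivization.mk F _ e1_ne
noncomputable def E2 : Projectivization F (Fin 2 → F) := Projectivization.mk F _ e2_ne
noncomputable def E12 : Projectivization F (Fin 2 → F) := Projectivization.mk F _ e12_ne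

lemma exists_frame_map (a b c : Projectivization F (Fin 2 → F)) (hab : a ≠ b) (hac : a ≠ c)
    (hbc : b ≠ c) : ∃ h : Matrix.ProjGenLinGroup (Fin 2) F, h • E1 = a ∧ h • E2 = b ∧ h • E12 = c := by
  induction a using Projectivization.ind with | h u hu =>
  induction b using Projectivization.ind with | h v hv =>
  induction c using Projectivization.ind with | h w hw =>
  have h1 : D u v ≠ 0 := D_ne_zero hu hv hab
  have h2 : D u w ≠ 0 := D_ne_zero hu hw hac
  have h3 : D w v ≠ 0 := D_ne_zero hw hv hbc.symm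
  set α : F := D w v / D u v with hα
  set β : F := D u w / D u v with hβ
  have hα0 : α ≠ 0 := div_ne_zero h3 h1
  have hβ0 : β ≠ 0 := div_ne_zero h2 h1
  have hD : D (α • u) (β • v) ≠ 0 := by
    have : D (α • u) (β • v) = α * β * D u v := by
      simp only [D, Pi.smul_apply, smul_eq_mul]; ring
    rw [this]
    exact mul_ne_zero (mul_ne_zero hα0 hβ0) h1
  have hw' : α • u + β • v = w := by
    have e0 : α * u 0 + β * v 0 = w 0 := by
      rw [hα, hβ]
      field_simp
      simp only [D]
      ring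
    have e1 : α * u 1 + β * v 1 = w 1 := by
      rw [hα, hβ]
      field_simp
      simp only [D]
      ring
    ext i
    fin_cases i
    · exact e0
    · exact e1
  refine ⟨Matrix.ProjGenLinGroup.mk (colMat (α • u) (β • v) hD), ?_, ?_, ?_⟩
  · rw [E1, Projectivization.PGL.mk_smul_mk, Projectivization.mk_eq_mk_iff']
    exact ⟨α, by rw [colMat_e1]⟩
  · rw [E2, Projectivization.PGL.mk_smul_mk, Projectivization.mk_eq_mk_iff']
    exact ⟨β, by rw [colMat_e2]⟩
  · rw [E12, Projectivization.PGL.mk_smul_mk, Projectivization.mk_eq_mk_iff']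
    exact ⟨1, by rw [colMat_e12, one_smul, hw']⟩

lemma eq_one_of_fix_frame (g : Matrix.ProjGenLinGroup (Fin 2) F) (h1 : g • E1 = (E1 : Projectivization F (Fin 2 → F)))
    (h2 : g • E2 = (E2 : Projectivization F (Fin 2 → F))) (h12 : g • E12 = (E12 : Projectivization F (Fin 2 → F))) : g = 1 := by
  induction g using Matrix.ProjGenLinGroup.induction_on with | mk A =>
  rw [E1, Projectivization.PGL.mk_smul_mk, Projectivization.mk_eq_mk_iff'] at h1
  rw [E2, Projectivization.PGL.mk_smul_mk, Projectivization.mk_eq_mk_iff'] at h2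
  rw [E12, Projectivization.PGL.mk_smul_mk, Projectivization.mk_eq_mk_iff'] at h12
  obtain ⟨l, hl⟩ := h1
  obtain ⟨m, hm⟩ := h2
  obtain ⟨n, hn⟩ := h12
  have a00 := congrFun hl 0
  have a10 := congrFun hl 1
  have a01 := congrFun hm 0
  have a11 := congrFun hm 1
  have b0 := congrFun hn 0
  have b1 := congrFun hn 1
  simp [Units.smul_def, Matrix.smul_eq_mulVec, Matrix.mulVec, dotProduct, Fin.sum_univ_two] at a00 a10 a01 a11 b0 b1
  have hlm : l = m := by
    rw [← a00, ← a01, ← a10, ← a11] at *
    rw [a00, a01, a10, a11] at *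
    linear_combination b1 - b0
  have hl0 : l ≠ 0 := by
    intro h0
    have hdet : (A : Matrix (Fin 2) (Fin 2) F).det ≠ 0 := (Matrix.isUnits_det_units A).ne_zero
    rw [Matrix.det_fin_two, ← a00, ← a10, h0] at hdet
    simp at hdet
  have hA : A = Matrix.GeneralLinearGroup.scalar (Fin 2) (Units.mk0 l hl0) := by
    apply Matrix.GeneralLinearGroup.ext
    intro i j
    fin_cases i <;> fin_cases j
    · simp [Matrix.GeneralLinearGroup.coe_scalar, ← a00]
    · simp [Matrix.GeneralLinearGroup.coe_scalar, ← a01]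
    · simp [Matrix.GeneralLinearGroup.coe_scalar, ← a10]
    · simp [Matrix.GeneralLinearGroup.coe_scalar, ← a11, hlm]
  rw [hA, Matrix.ProjGenLinGroup.mk_scalar]

/-- PGL_2(F) is sharply 3-transitive on the projective line: it is 3-transitive and the stabiliser of three distinct points is trivial. -/
theorem result {F : Type*} [Field F] : MulAction.IsMultiplyPretransitive (Matrix.ProjGenLinGroup (Fin 2) F) (Projectivization F (Fin 2 → F)) 3 ∧ ∀ (g : Matrix.ProjGenLinGroup (Fin 2) F) (a b c : Projectivization F (Fin 2 → F)), a ≠ b → a ≠ c → b ≠ c → g • a = a → g • b = b → g • c = c → g = 1 := by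
  constructor
  · rw [MulAction.isMultiplyPretransitive_iff]
    intro x y
    have hx : ∀ i j : Fin 3, i ≠ j → x i ≠ x j := fun i j hij h => hij (x.injective h)
    have hy : ∀ i j : Fin 3, i ≠ j → y i ≠ y j := fun i j hij h => hij (y.injective h)
    obtain ⟨h, h0, h1, h2⟩ := exists_frame_map (x 0) (x 1) (x 2) (hx 0 1 (by decide))
      (hx 0 2 (by decide)) (hx 1 2 (by decide))
    obtain ⟨k, k0, k1, k2⟩ := exists_frame_map (y 0) (y 1) (y 2) (hy 0 1 (by decide))
      (hy 0 2 (by decide)) (hy 1 2 (by decide))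
    refine ⟨k * h⁻¹, ?_⟩
    ext i
    fin_cases i
    · show (k * h⁻¹) • x 0 = y 0
      rw [← h0, mul_smul, inv_smul_smul, k0]
    · show (k * h⁻¹) • x 1 = y 1
      rw [← h1, mul_smul, inv_smul_smul, k1]
    · show (k * h⁻¹) • x 2 = y 2
      rw [← h2, mul_smul, inv_smul_smul, k2]
  · intro g a b c hab hac hbc ha hb hc
    obtain ⟨h, h0, h1, h2⟩ := exists_frame_map a b c hab hac hbc
    have key : h⁻¹ * g * h = 1 := by
      apply eq_one_of_fix_frame
      · rw [mul_smul, mul_smul, h0, ha, ← h0, inv_smul_smul]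
      · rw [mul_smul, mul_smul, h1, hb, ← h1, inv_smul_smul]
      · rw [mul_smul, mul_smul, h2, hc, ← h2, inv_smul_smul]
    have : g = h * (h⁻¹ * g * h) * h⁻¹ := by group
    rw [this, key]; group

end Cfsg.Agent.S0266
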