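import Cfsg.Statements.S0526
import Cfsg.Agent.Lib.Helper4.Supersolvable
import Mathlib

set_option autoImplicit false
open Cfsg

namespace Cfsg.Agent.S0526

open Cfsg.Agent.Lib.Helper4

theorem step {G : Type*} [Group G] [Finite G] (N : Subgroup G) [N.Normal]
    (hN : (Nat.card N).Prime) (h : Group.IsNilpotent (commutator (G ⧸ N))) :
    Group.IsNilpotent (commutator G) := by
  have : Fact (Nat.card N).Prime := ⟨hN⟩
  have : IsCyclic N := isCyclic_of_prime_card rfl
  have hcent := commutator_le_centralizer_of_cyclic_normal N
  have hle : (commutator G).map (QuotientGroup.mk' N) ≤ commutator (G ⧸ N) := by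
    rw [commutator_def, Subgroup.map_commutator, commutator_def]
    exact Subgroup.commutator_mono le_top le_top
  let f : commutator G →* commutator (G ⧸ N) :=
    (Subgroup.inclusion hle).comp ((QuotientGroup.mk' N).subgroupMap (commutator G))
  have := h
  refine Subgroup.isNilpotent_of_ker_le_center f ?_
  intro x hx
  rw [MonoidHom.mem_ker] at hx
  have hxN : (x : G) ∈ N := by
    have := congrArg (fun z : commutator (G ⧸ N) => (z : G ⧸ N)) hx
    simp only [f, MonoidHom.coe_comp, Function.comp_apply, Subgroup.coe_inclusion,
      MonoidHom.subgroupMap_apply_coe, Subgroup.coe_one, QuotientGroup.mk'_apply] at this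
    exact (QuotientGroup.eq_one_iff _).mp this
  rw [Subgroup.mem_center_iff]
  intro y
  apply Subtype.ext
  have := hcent y.2
  rw [Subgroup.mem_centralizer_iff] at this
  simpa using (this x hxN).symm

/-- In a finite supersolvable group the commutator subgroup is nilpotent. -/
theorem result {G : Type*} [Group G] [Finite G] (hG : Cfsg.IsSupersolvable G) : Group.IsNilpotent (commutator G) := by
  refine isSupersolvable_induction (P := fun G _ => Group.IsNilpotent (commutator G))
    ?_ ?_ G hG
  · intro G _ _ hs
    infer_instance
  · intro G _ _ N _ hN _ _ h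
    exact step N hN h

end Cfsg.Agent.S0526
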