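-- Statement S0586: with trivial Frattini subgroup, F(G) is the join of the abelian minimal normal subgroups.
import Mathlib
import Cfsg.Statements.S0586
import Cfsg.Agent.H5.Frattini
import Cfsg.Agent.H5.Card
import Cfsg.Agent.Lib.Helper1.Cores

set_option autoImplicit false
open Cfsg

namespace Cfsg.Agent.S0586

open Subgroup
open scoped commutatorElement

/-- In a nilpotent group the commutator subgroup lies in every maximal subgroup. -/
theorem commutator_le_coatom {H : Type*} [Group H] [Group.IsNilpotent H] {M : Subgroup H}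
    (hM : IsCoatom M) : _root_.commutator H ≤ M := by
  have hMn : M.Normal := Group.normalizerCondition_of_isNilpotent.normal_of_coatom M hM
  have hnt : Nontrivial (H ⧸ M) := by
    rw [← not_subsingleton_iff_nontrivial]
    intro hs
    exact hM.1 (QuotientGroup.subgroup_eq_top_of_subsingleton M hs)
  have hsimple : IsSimpleGroup (H ⧸ M) := by
    refine ⟨fun K _ => ?_⟩
    have hle : M ≤ K.comap (QuotientGroup.mk' M) := by
      have h1 := Subgroup.ker_le_comap (QuotientGroup.mk' M) K
      rwa [QuotientGroup.ker_mk'] at h1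
    rcases hM.le_iff.mp hle with h | h
    · right
      apply Subgroup.comap_injective (QuotientGroup.mk'_surjective M)
      rw [h, Subgroup.comap_top]
    · left
      apply Subgroup.comap_injective (QuotientGroup.mk'_surjective M)
      rw [h, MonoidHom.comap_bot, QuotientGroup.ker_mk']
  have hc : CommGroup (H ⧸ M) := inferInstance
  have : IsMulCommutative (H ⧸ M) := ⟨⟨fun a b => IsSimpleGroup.comm_iff_isSolvable.mpr inferInstance a b⟩⟩
  exact Subgroup.Normal.quotient_commutative_iff_commutator_le.mp this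

/-- A nilpotent group with trivial Frattini subgroup is abelian. -/
theorem comm_of_frattini_eq_bot {H : Type*} [Group H] [Group.IsNilpotent H]
    (h : frattini H = ⊥) (a b : H) : a * b = b * a := by
  have h1 : _root_.commutator H ≤ frattini H := by
    unfold frattini Order.radical
    exact le_iInf₂ fun M hM => commutator_le_coatom hM
  rw [h, le_bot_iff] at h1
  have : ⁅a, b⁆ ∈ _root_.commutator H :=
    Subgroup.commutator_mem_commutator (Subgroup.mem_top a) (Subgroup.mem_top b)
  rw [h1, Subgroup.mem_bot, commutatorElement_eq_one_iff_mul_comm] at this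
  exact this

/-- An abelian normal subgroup of a finite group with trivial Frattini subgroup has a complement. -/
theorem exists_complement {G : Type*} [Group G] [Finite G] (hΦ : frattini G = ⊥) (N : Subgroup G)
    [hN : N.Normal] (hNc : ∀ x ∈ N, ∀ y ∈ N, x * y = y * x) :
    ∃ H : Subgroup G, N ⊔ H = ⊤ ∧ N ⊓ H = ⊥ := by
  classical
  obtain ⟨H, hH, hmin⟩ := Set.exists_min_image {H : Subgroup G | N ⊔ H = ⊤}
    (fun H => Nat.card H) (Set.toFinite _) ⟨⊤, sup_top_eq N⟩
  have hH' : N ⊔ H = ⊤ := hH
  refine ⟨H, hH', ?_⟩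
  set D := N ⊓ H with hD
  -- `D` is normal in `G`
  have hDn : D.Normal := by
    rw [← Subgroup.normalizer_eq_top_iff, eq_top_iff, ← hH']
    apply sup_le
    · apply Cfsg.H5.le_normalizer_of_le_centralizer
      intro n hn
      rw [mem_centralizer_iff]
      intro d hd
      exact hNc d hd.1 n hn
    · intro h hh
      rw [mem_set_normalizer_iff]
      intro d
      constructor
      · intro hd
        exact ⟨hN.conj_mem d hd.1 h, H.mul_mem (H.mul_mem hh hd.2) (H.inv_mem hh)⟩
      · intro hd
        have h1 : h⁻¹ * (h * d * h⁻¹) * h⁻¹⁻¹ ∈ N := hN.conj_mem _ hd.1 h⁻¹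
        have h2 : h⁻¹ * (h * d * h⁻¹) * h⁻¹⁻¹ ∈ H :=
          H.mul_mem (H.mul_mem (H.inv_mem hh) hd.2) (H.inv_mem (H.inv_mem hh))
        have e : h⁻¹ * (h * d * h⁻¹) * h⁻¹⁻¹ = d := by group
        rw [e] at h1 h2
        exact ⟨h1, h2⟩
  -- `D` lies in the Frattini subgroup of `H`
  have hDfr : D.subgroupOf H ≤ frattini H := by
    by_contra hcon
    obtain ⟨M', hM', hDM'⟩ := Cfsg.H5.exists_coatom_not_le_of_not_le_frattini hcon
    have htop : M' ⊔ D.subgroupOf H = ⊤ := by
      have : M' < M' ⊔ D.subgroupOf H := by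
        apply lt_of_le_of_ne le_sup_left
        intro heq
        apply hDM'
        rw [heq]
        exact le_sup_right
      exact (hM'.lt_iff).mp this
    set M := M'.map H.subtype with hMdef
    have hMH : M ≤ H := Subgroup.map_subtype_le M'
    have h1 : M ⊔ D = H := by
      have := congrArg (Subgroup.map H.subtype) htop
      rw [Subgroup.map_sup, Subgroup.map_subgroupOf_eq_of_le (inf_le_right : D ≤ H),
        ← MonoidHom.range_eq_map, Subgroup.range_subtype] at this
      exact this
    have h2 : N ⊔ M = ⊤ := by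
      rw [eq_top_iff, ← hH', ← h1]
      apply sup_le le_sup_left
      apply sup_le le_sup_right
      exact (inf_le_left : D ≤ N).trans le_sup_left
    have h3 := hmin M h2
    have h4 : Nat.card M = Nat.card M' := Subgroup.card_map_of_injective H.subtype_injective
    have h5 : Nat.card M' < Nat.card H := by
      apply lt_of_le_of_ne (Subgroup.card_le_card_group M')
      intro heq
      exact hM'.1 (Subgroup.eq_top_of_card_eq M' heq)
    rw [h4] at h3
    omega
  have hDle : D ≤ frattini G :=
    Cfsg.H5.le_frattini_of_le_frattini_subgroup (inf_le_right : D ≤ H) hDfr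
  rw [hΦ] at hDle
  exact le_bot_iff.mp hDle

/-- A nontrivial normal subgroup of a finite group contains a minimal normal subgroup. -/
theorem exists_min_normal {G : Type*} [Group G] [Finite G] (L : Subgroup G) (hLn : L.Normal)
    (hL : L ≠ ⊥) : ∃ N : Subgroup G, N.Normal ∧ N ≠ ⊥ ∧ N ≤ L ∧
      ∀ K : Subgroup G, K.Normal → K ≤ N → K = ⊥ ∨ K = N := by
  classical
  obtain ⟨N, hN, hmin⟩ := Set.exists_min_image {N : Subgroup G | N.Normal ∧ N ≠ ⊥ ∧ N ≤ L}
    (fun N => Nat.card N) (Set.toFinite _) ⟨L, hLn, hL, le_rfl⟩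
  refine ⟨N, hN.1, hN.2.1, hN.2.2, ?_⟩
  intro K hKn hKN
  by_cases hK : K = ⊥
  · exact Or.inl hK
  · right
    have h1 := hmin K ⟨hKn, hK, hKN.trans hN.2.2⟩
    exact Subgroup.eq_of_le_of_card_ge hKN h1

/-- If the Frattini subgroup of a finite group G is trivial, then the Fitting subgroup of G equals the join of all abelian minimal normal subgroups of G. -/
theorem result {G : Type*} [Group G] [Finite G] (hΦ : frattini G = ⊥) : Cfsg.fittingSubgroup G = sSup {N : Subgroup G | N.Normal ∧ N ≠ ⊥ ∧ IsMulCommutative N ∧ ∀ K : Subgroup G, K.Normal → K ≤ N → K = ⊥ ∨ K = N} := by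
  classical
  set F := Cfsg.fittingSubgroup G with hF
  have hFn : F.Normal := Cfsg.Agent.Lib.Helper1.fittingSubgroup_normal
  have hFnil : Group.IsNilpotent F := Cfsg.Agent.Lib.Helper1.fittingSubgroup_isNilpotent
  -- `Φ(F) = 1`
  have hΦF : frattini F = ⊥ := by
    have hn : ((frattini F).map F.subtype).Normal := ConjAct.normal_of_characteristic_of_normal
    have h1 : ((frattini F).map F.subtype).subgroupOf F ≤ frattini F := by
      rw [← Subgroup.comap_subtype, Subgroup.comap_map_eq_self_of_injective F.subtype_injective]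
    have h2 := Cfsg.H5.le_frattini_of_le_frattini_subgroup (Subgroup.map_subtype_le _) h1
    rw [hΦ, le_bot_iff, Subgroup.map_eq_bot_iff_of_injective _ F.subtype_injective] at h2
    exact h2
  -- `F` is abelian
  have hFc : ∀ x ∈ F, ∀ y ∈ F, x * y = y * x := by
    intro x hx y hy
    have := comm_of_frattini_eq_bot hΦF ⟨x, hx⟩ ⟨y, hy⟩
    exact congrArg Subtype.val this
  set 𝒜 := {N : Subgroup G | N.Normal ∧ N ≠ ⊥ ∧ IsMulCommutative N ∧
    ∀ K : Subgroup G, K.Normal → K ≤ N → K = ⊥ ∨ K = N} with h𝒜
  set S := sSup 𝒜 with hS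
  have hSn : S.Normal := Subgroup.sSup_normal _ fun N hN => hN.1
  have hSF : S ≤ F := by
    apply sSup_le
    intro N hN
    apply Cfsg.Agent.Lib.Helper1.le_fittingSubgroup hN.1
    have hc := hN.2.2.1
    let _ : CommGroup N := { (inferInstance : Group N) with mul_comm := fun a b => hc.is_comm.comm a b }
    exact CommGroup.isNilpotent
  have hSc : ∀ x ∈ S, ∀ y ∈ S, x * y = y * x := fun x hx y hy => hFc x (hSF hx) y (hSF hy)
  obtain ⟨H, hH1, hH2⟩ := exists_complement hΦ S hSc
  -- `R = F ∩ H` is normal in `G`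
  set R := F ⊓ H with hR
  have hRn : R.Normal := by
    rw [← Subgroup.normalizer_eq_top_iff, eq_top_iff, ← hH1]
    apply sup_le
    · apply Cfsg.H5.le_normalizer_of_le_centralizer
      intro n hn
      rw [mem_centralizer_iff]
      intro d hd
      exact hFc d hd.1 n (hSF hn)
    · intro h hh
      rw [mem_set_normalizer_iff]
      intro d
      constructor
      · intro hd
        exact ⟨hFn.conj_mem d hd.1 h, H.mul_mem (H.mul_mem hh hd.2) (H.inv_mem hh)⟩
      · intro hd
        have h1 : h⁻¹ * (h * d * h⁻¹) * h⁻¹⁻¹ ∈ F := hFn.conj_mem _ hd.1 h⁻¹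
        have h2 : h⁻¹ * (h * d * h⁻¹) * h⁻¹⁻¹ ∈ H :=
          H.mul_mem (H.mul_mem (H.inv_mem hh) hd.2) (H.inv_mem (H.inv_mem hh))
        have e : h⁻¹ * (h * d * h⁻¹) * h⁻¹⁻¹ = d := by group
        rw [e] at h1 h2
        exact ⟨h1, h2⟩
  have hRbot : R = ⊥ := by
    by_contra hne
    obtain ⟨N, hNn, hNne, hNR, hNmin⟩ := exists_min_normal R hRn hne
    have hNF : N ≤ F := hNR.trans inf_le_left
    have hNc : IsMulCommutative N :=
      ⟨⟨fun a b => Subtype.ext (hFc a (hNF a.2) b (hNF b.2))⟩⟩
    have hNS : N ≤ S := le_sSup ⟨hNn, hNne, hNc, hNmin⟩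
    have hNH : N ≤ H := hNR.trans inf_le_right
    have : N ≤ S ⊓ H := le_inf hNS hNH
    rw [hH2, le_bot_iff] at this
    exact hNne this
  apply le_antisymm _ hSF
  intro f hf
  have hmem : f ∈ S ⊔ H := by rw [hH1]; trivial
  obtain ⟨s, hs, h, hh, rfl⟩ := Subgroup.mem_sup_of_normal_left.mp hmem
  have hhF : h ∈ F := by
    have := F.mul_mem (F.inv_mem (hSF hs)) hf
    simpa using this
  have hhR : h ∈ R := ⟨hhF, hh⟩
  rw [hRbot, Subgroup.mem_bot] at hhR
  rw [hhR, mul_one]
  exact hs

end Cfsg.Agent.S0586
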