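import Mathlib
import Cfsg.Statements.S0325
import Cfsg.Agent.Lib.Helper3.Zass4
import Cfsg.Agent.Lib.Helper3.Suzuki7

set_option autoImplicit false
open Cfsg

namespace Cfsg.Agent.S0325

/-- The Suzuki group over a field with `2^(2m+1)` elements, `m ≥ 1`, is a simple group. -/
theorem result {F : Type*} [Field F] [Fintype F] {m : ℕ} (hm : 1 ≤ m)
    (hF : Fintype.card F = 2 ^ (2 * m + 1)) :
    IsSimpleGroup (Cfsg.Sz F m) := by
  have hZ := Cfsg.Agent.Lib.Helper3.Sz.zassenhaus hF hm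
  have hfin : Finite (Cfsg.suzukiOvoid F m) := (Cfsg.Agent.Lib.Helper3.Sz.ovoid_finite m).to_subtype
  letI : Fintype (Cfsg.suzukiOvoid F m) := Fintype.ofFinite _
  apply Cfsg.Agent.Lib.Helper3.Zass.simple_of_odd hZ
  rw [← Nat.card_eq_fintype_card, Cfsg.Agent.S0326.result, hF]
  refine ⟨2 ^ (2 * m + 1) * 2 ^ (2 * m), ?_⟩
  rw [pow_succ 2 (2 * m)]
  ring

end Cfsg.Agent.S0325
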