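import Mathlib
import Cfsg.Statements.S0331
import Cfsg.Agent.Lib.Helper3.Suzuki10
import Cfsg.Agent.Lib.Helper3.Singer

set_option autoImplicit false
open Cfsg

namespace Cfsg.Agent.S0331

open Cfsg.Agent.Lib.Helper3 Cfsg.Agent.Lib.Helper3.Sz

/-- if `p` does not divide `b`, the `p`-part of `a * b` is that of `a` -/
lemma factorization_mul_of_not_dvd {p a b : ℕ} (ha : a ≠ 0) (hb : b ≠ 0) (h : ¬ p ∣ b) :
    (a * b).factorization p = a.factorization p := by
  rw [Nat.factorization_mul ha hb, Finsupp.add_apply, Nat.factorization_eq_zero_of_not_dvd h,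
    add_zero]

/-- the arithmetic of the primes dividing `q ^ 2 + 1` -/
lemma arith {p q : ℕ} [Fact p.Prime] (hp : p ≠ 2) (hq : 2 ≤ q) (h : p ∣ q ^ 2 + 1) :
    ((q ^ 4 - q ^ 0) * (q ^ 4 - q ^ 1) * (q ^ 4 - q ^ 2) * (q ^ 4 - q ^ 3)).factorization p
      = (q ^ 4 - 1).factorization p := by
  have hpp : p.Prime := Fact.out
  have hx : ((q : ZMod p)) ^ 2 = -1 := by
    have h0 : ((q ^ 2 + 1 : ℕ) : ZMod p) = 0 := (ZMod.natCast_eq_zero_iff _ _).2 h
    push_cast at h0
    exact eq_neg_of_add_eq_zero_left h0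
  have h2 : (2 : ZMod p) ≠ 0 := by
    intro h2
    have : ((2 : ℕ) : ZMod p) = 0 := by exact_mod_cast h2
    rw [ZMod.natCast_eq_zero_iff] at this
    exact hp ((Nat.prime_dvd_prime_iff_eq hpp Nat.prime_two).1 this)
  have hx4 : ((q : ZMod p)) ^ 4 = 1 := by
    have : ((q : ZMod p)) ^ 4 = (((q : ZMod p)) ^ 2) ^ 2 := by ring
    rw [this, hx]; ring
  have hx1 : (q : ZMod p) ≠ 1 := by
    intro h1
    rw [h1] at hx
    apply h2
    linear_combination hx
  have hxm1 : (q : ZMod p) ≠ -1 := by
    intro h1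
    rw [h1] at hx
    apply h2
    linear_combination hx
  have l1 : q ^ 1 ≤ q ^ 4 := Nat.pow_le_pow_right (by omega) (by norm_num)
  have l2 : q ^ 2 ≤ q ^ 4 := Nat.pow_le_pow_right (by omega) (by norm_num)
  have l3 : q ^ 3 ≤ q ^ 4 := Nat.pow_le_pow_right (by omega) (by norm_num)
  have l1' : q ^ 1 < q ^ 4 := Nat.pow_lt_pow_right (by omega) (by norm_num)
  have l2' : q ^ 2 < q ^ 4 := Nat.pow_lt_pow_right (by omega) (by norm_num)
  have l3' : q ^ 3 < q ^ 4 := Nat.pow_lt_pow_right (by omega) (by norm_num)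
  have l0' : 1 < q ^ 4 := Nat.one_lt_pow (by norm_num) (by omega)
  have d1 : ¬ p ∣ q ^ 4 - q ^ 1 := by
    rw [← ZMod.natCast_eq_zero_iff, Nat.cast_sub l1]
    push_cast
    rw [hx4]
    intro h
    apply hx1
    linear_combination -h
  have d2 : ¬ p ∣ q ^ 4 - q ^ 2 := by
    rw [← ZMod.natCast_eq_zero_iff, Nat.cast_sub l2]
    push_cast
    rw [hx4, hx]
    intro h
    apply h2
    linear_combination h
  have d3 : ¬ p ∣ q ^ 4 - q ^ 3 := by
    rw [← ZMod.natCast_eq_zero_iff, Nat.cast_sub l3]
    push_cast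
    rw [hx4]
    intro h
    apply hxm1
    have h3 : ((q : ZMod p)) ^ 3 = -(q : ZMod p) := by
      have : ((q : ZMod p)) ^ 3 = ((q : ZMod p)) ^ 2 * q := by ring
      rw [this, hx]; ring
    rw [h3] at h
    linear_combination h
  rw [pow_zero, mul_assoc, mul_assoc]
  apply factorization_mul_of_not_dvd (by omega)
  · exact Nat.mul_ne_zero (by omega) (Nat.mul_ne_zero (by omega) (by omega))
  · intro h
    rcases (Nat.Prime.dvd_mul hpp).1 h with h | h
    · exact d1 h
    · rcases (Nat.Prime.dvd_mul hpp).1 h with h | h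
      · exact d2 h
      · exact d3 h

variable {F : Type*} [Field F] [Fintype F] {m : ℕ}

/-- the Sylow subgroups of `GL_4(q)` for the primes dividing `q ^ 2 + 1` are cyclic -/
lemma sylow_GL_isCyclic {p : ℕ} [Fact p.Prime] (hp : p ≠ 2)
    (h : p ∣ Fintype.card F ^ 2 + 1) (S : Sylow p (GL (Fin 4) F)) : IsCyclic S := by
  obtain ⟨C, hC, hcard⟩ := Singer.exists_singer (F := F) 4 (by norm_num)
  have : Finite (GL (Fin 4) F) := by
    classical
    exact Finite.of_injective (fun A => A.1) Units.val_injective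
  refine Singer.sylow_isCyclic_of_cyclic p C ?_ S
  rw [hcard, Matrix.card_GL_field, Fin.prod_univ_four]
  exact (arith hp Fintype.one_lt_card h).symm

/-- the torus -/
def torSz (hF : Fintype.card F = 2 ^ (2 * m + 1)) : Fˣ →* Sz F m :=
  (torHom m).codRestrict (Sz F m) (fun k => torS_mem hF k)

lemma torSz_injective (hF : Fintype.card F = 2 ^ (2 * m + 1)) :
    Function.Injective (torSz (m := m) hF) := by
  intro k l hkl
  exact torS_injective hF (congrArg Subtype.val hkl)

/-- For every odd prime `p` the Sylow `p`-subgroups of the Suzuki group are cyclic. -/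
theorem result {F : Type*} [Field F] [Fintype F] {m : ℕ} (hm : 1 ≤ m)
    (hF : Fintype.card F = 2 ^ (2 * m + 1)) {p : ℕ} [Fact p.Prime] (hp : p ≠ 2)
    (P : Sylow p (Cfsg.Sz F m)) : IsCyclic P := by
  have hpp : p.Prime := Fact.out
  have hfin : Finite (Sz F m) := finite_Sz
  by_cases h : p ∣ Fintype.card F ^ 2 + 1
  · -- embed in `GL_4`
    let f : Sz F m →* GL (Fin 4) F := Matrix.SpecialLinearGroup.toGL.comp (Sz F m).subtype
    have hf : Function.Injective f :=
      Matrix.SpecialLinearGroup.toGL_injective.comp (Sz F m).subtype_injective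
    have hPmap : IsPGroup p ((P : Subgroup (Sz F m)).map f) := P.isPGroup'.map f
    obtain ⟨S, hS⟩ := hPmap.exists_le_sylow
    have hSc : IsCyclic S := sylow_GL_isCyclic hp h S
    let g : (P : Subgroup (Sz F m)) →* S :=
      { toFun := fun x => ⟨f x.1, hS (Subgroup.mem_map_of_mem f x.2)⟩
        map_one' := Subtype.ext (by simp)
        map_mul' := fun x y => Subtype.ext (by simp) }
    have hg : Function.Injective g := by
      intro x y hxy
      apply Subtype.ext
      apply hf
      exact congrArg Subtype.val hxy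
    exact isCyclic_of_injective g hg
  · -- the torus
    let T : Subgroup (Sz F m) := (torSz (m := m) hF).range
    have hTc : IsCyclic T :=
      isCyclic_of_surjective (torSz hF).rangeRestrict (torSz hF).rangeRestrict_surjective
    have hTcard : Nat.card T = 2 ^ (2 * m + 1) - 1 := by
      rw [← Nat.card_congr (MonoidHom.ofInjective (torSz_injective hF)).toEquiv, card_units hF]
    refine Singer.sylow_isCyclic_of_cyclic p T ?_ P
    rw [hTcard, card_Sz hF hm, ← hF]
    have hq : 2 ≤ Fintype.card F := Fintype.one_lt_card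
    have h1 : ¬ p ∣ Fintype.card F ^ 2 := by
      intro h1
      have h2 := hpp.dvd_of_dvd_pow h1
      rw [hF] at h2
      have h3 := hpp.dvd_of_dvd_pow h2
      exact hp ((Nat.prime_dvd_prime_iff_eq hpp Nat.prime_two).1 h3)
    have h0 : Fintype.card F ^ 2 ≠ 0 := by positivity
    have h0' : Fintype.card F ^ 2 + 1 ≠ 0 := by positivity
    symm
    rw [mul_comm]
    apply factorization_mul_of_not_dvd (by omega) (Nat.mul_ne_zero h0 h0')
    intro h2
    rcases (Nat.Prime.dvd_mul hpp).1 h2 with h2 | h2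
    · exact h1 h2
    · exact h h2

end Cfsg.Agent.S0331
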