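import Mathlib
import Cfsg.Statements.S0332
import Cfsg.Agent.Lib.Helper3.Suzuki13
import Cfsg.Agent.Lib.Helper3.SingerCent
import Cfsg.Agent.S0331

set_option autoImplicit false
open Cfsg

namespace Cfsg.Agent.S0332

open Cfsg.Agent.Lib.Helper3 Cfsg.Agent.Lib.Helper3.Sz

/-- subgroups of nilpotent subgroups are nilpotent -/
lemma isNilpotent_of_le {G : Type*} [Group G] {H K : Subgroup G} (h : H ≤ K)
    (hK : Group.IsNilpotent K) : Group.IsNilpotent H := by
  have : Group.IsNilpotent (H.subgroupOf K) := inferInstance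
  exact Group.nilpotent_of_mulEquiv (Subgroup.subgroupOfEquivOfLe h)

/-- commutative subgroups are nilpotent -/
lemma isNilpotent_of_comm {G : Type*} [Group G] (H : Subgroup G)
    (h : ∀ a ∈ H, ∀ b ∈ H, a * b = b * a) : Group.IsNilpotent H := by
  let _ : CommGroup H :=
    { (inferInstance : Group H) with
      mul_comm := fun a b => Subtype.ext (h a.1 a.2 b.1 b.2) }
  exact CommGroup.isNilpotent

variable {F : Type*} [Field F] [Fintype F] {m : ℕ}

lemma not_dvd_of_dvd {p q : ℕ} (hpp : p.Prime) (hp : p ≠ 2) (hq : 2 ≤ q) (h : p ∣ q ^ 2 + 1) :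
    ∀ d, d ∣ 4 → d < 4 → ¬ p ∣ q ^ d - 1 := by
  have h2 : ¬ p ∣ q ^ 2 - 1 := by
    intro h'
    have h3 : p ∣ (q ^ 2 + 1) - (q ^ 2 - 1) := Nat.dvd_sub h h'
    have hq2 : 1 ≤ q ^ 2 := Nat.one_le_pow _ _ (by omega)
    have : (q ^ 2 + 1) - (q ^ 2 - 1) = 2 := by omega
    rw [this] at h3
    exact hp ((Nat.prime_dvd_prime_iff_eq hpp Nat.prime_two).1 h3)
  intro d hd hd4
  have hd' : d = 1 ∨ d = 2 := by
    have : d ∈ Nat.divisors 4 := Nat.mem_divisors.2 ⟨hd, by norm_num⟩
    have h4 : Nat.divisors 4 = {1, 2, 4} := by decide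
    rw [h4] at this
    simp only [Finset.mem_insert, Finset.mem_singleton] at this
    omega
  rcases hd' with rfl | rfl
  · intro h'
    apply h2
    have : q ^ 2 - 1 = (q ^ 1 - 1) * (q + 1) := by
      have hq1 : 1 ≤ q := by omega
      obtain ⟨r, rfl⟩ := Nat.exists_eq_add_of_le hq1
      simp only [pow_one, Nat.add_sub_cancel_left]
      have : (1 + r) ^ 2 = r * (1 + r + 1) + 1 := by ring
      rw [this, Nat.add_sub_cancel]
    rw [this]
    exact Dvd.dvd.mul_right h' _
  · exact h2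

/-- the case of the primes dividing `q ^ 2 + 1` -/
lemma comm_of_dvd (hF : Fintype.card F = 2 ^ (2 * m + 1)) {p : ℕ} [Fact p.Prime] (hp : p ≠ 2)
    (h : p ∣ Fintype.card F ^ 2 + 1) (y : Sz F m) (hy : orderOf y = p) (c₁ c₂ : Sz F m)
    (h₁ : c₁ * y = y * c₁) (h₂ : c₂ * y = y * c₂) : c₁ * c₂ = c₂ * c₁ := by
  have hpp : p.Prime := Fact.out
  let f : Sz F m →* GL (Fin 4) F := Matrix.SpecialLinearGroup.toGL.comp (Sz F m).subtype
  have hf : Function.Injective f :=
    Matrix.SpecialLinearGroup.toGL_injective.comp (Sz F m).subtype_injective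
  apply hf
  rw [map_mul, map_mul]
  apply Singer.commute_of_commute_prime_order 4 (by norm_num) p ?_
    (not_dvd_of_dvd hpp hp Fintype.one_lt_card h) (f y) (by rw [orderOf_injective f hf, hy])
  · rw [← map_mul, ← map_mul, h₁]
  · rw [← map_mul, ← map_mul, h₂]
  · rw [Matrix.card_GL_field, Fin.prod_univ_four]
    exact Cfsg.Agent.S0331.arith hp Fintype.one_lt_card h

/-- The Suzuki group is a CN-group. -/
theorem result {F : Type*} [Field F] [Fintype F] {m : ℕ} (hm : 1 ≤ m)
    (hF : Fintype.card F = 2 ^ (2 * m + 1)) : Cfsg.IsCNGroup (Cfsg.Sz F m) := by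
  intro x hx
  have hfin : Finite (Sz F m) := finite_Sz
  have hn1 : orderOf x ≠ 1 := fun h => hx (orderOf_eq_one_iff.1 h)
  have hn0 : orderOf x ≠ 0 := (orderOf_pos x).ne'
  obtain ⟨p, hpp, hpn⟩ := Nat.exists_prime_and_dvd hn1
  have : Fact p.Prime := ⟨hpp⟩
  set y := x ^ (orderOf x / p) with hy_def
  have hy : orderOf y = p := orderOf_pow_orderOf_div hn0 hpn
  have hy1 : y ≠ 1 := by
    intro h
    rw [h, orderOf_one] at hy
    exact hpp.one_lt.ne hy
  have hle : Subgroup.centralizer ({x} : Set (Sz F m)) ≤ Subgroup.centralizer ({y} : Set (Sz F m)) := by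
    intro g hg
    rw [Subgroup.mem_centralizer_iff] at hg ⊢
    intro z hz
    rw [Set.mem_singleton_iff] at hz
    subst hz
    have h1 : x * g = g * x := hg x rfl
    have : Commute x g := h1
    exact (this.pow_left _).eq
  apply isNilpotent_of_le hle
  have hmemC : ∀ c : Sz F m, c ∈ Subgroup.centralizer ({y} : Set (Sz F m)) ↔ c * y = y * c := by
    intro c
    rw [Subgroup.mem_centralizer_iff]
    constructor
    · intro h; exact (h y rfl).symm
    · intro h z hz
      rw [Set.mem_singleton_iff] at hz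
      subst hz
      exact h.symm
  by_cases hp2 : p = 2
  · -- involutions: the centraliser is a 2-group
    subst hp2
    have hyp : IsPGroup 2 (Subgroup.zpowers y) := by
      apply IsPGroup.of_card (n := 1)
      rw [Nat.card_zpowers, hy, pow_one]
    obtain ⟨P, hP⟩ := hyp.exists_le_sylow
    obtain ⟨h, hh⟩ := exists_conj_transGroup hF hm P
    obtain ⟨a, b, hab⟩ := (mem_transGroup hF hm _).1 ((hh y).1 (hP (Subgroup.mem_zpowers y)))
    have hysq : y * y = 1 := by
      rw [← pow_two, ← hy]; exact pow_orderOf_eq_one y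
    have hsq : (h⁻¹ * y * h) * (h⁻¹ * y * h) = 1 := by
      calc (h⁻¹ * y * h) * (h⁻¹ * y * h) = h⁻¹ * (y * y) * h := by group
        _ = 1 := by rw [hysq]; group
    rw [hab, tS_sq hF hm, ← tS_zero_zero hF hm] at hsq
    have ha : a = 0 := by
      have h1 := (tS_injective hF hsq).2
      have h2 : a ^ (2 ^ (m + 1) + 1) = 0 := by rw [pow_succ]; exact h1
      exact pow_eq_zero_iff (by positivity) |>.1 h2
    subst ha
    have hb : b ≠ 0 := by
      intro hb
      apply hy1
      rw [hb, tS_zero_zero hF hm] at hab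
      have : y = h * 1 * h⁻¹ := by rw [← hab]; group
      rw [this]; group
    have hC2 : IsPGroup 2 (Subgroup.centralizer ({y} : Set (Sz F m))) := by
      intro c
      refine ⟨2, ?_⟩
      have hc := (hmemC c.1).1 c.2
      have hc' : (h⁻¹ * c.1 * h) * tS hF 0 b = tS hF 0 b * (h⁻¹ * c.1 * h) := by
        rw [← hab]
        calc h⁻¹ * c.1 * h * (h⁻¹ * y * h) = h⁻¹ * (c.1 * y) * h := by group
          _ = h⁻¹ * (y * c.1) * h := by rw [hc]
          _ = h⁻¹ * y * h * (h⁻¹ * c.1 * h) := by group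
      have hmemQ := mem_transGroup_of_commute hF hm hb _ hc'
      obtain ⟨a', b', hab'⟩ := (mem_transGroup hF hm _).1 hmemQ
      have h4 : (h⁻¹ * c.1 * h) ^ (2 ^ 2) = 1 := by
        have e : (h⁻¹ * c.1 * h) ^ (2 ^ 2)
            = ((h⁻¹ * c.1 * h) * (h⁻¹ * c.1 * h)) * ((h⁻¹ * c.1 * h) * (h⁻¹ * c.1 * h)) := by
          rw [show (2 ^ 2 : ℕ) = 2 + 2 from rfl, pow_add, pow_two]
        rw [e, hab', tS_sq hF hm, tS_zero_sq hF hm]
      apply Subtype.ext
      show c.1 ^ (2 ^ 2) = 1
      have e2 : (h⁻¹ * c.1 * h) ^ (2 ^ 2) = h⁻¹ * c.1 ^ (2 ^ 2) * h := by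
        have : h⁻¹ * c.1 * h = MulAut.conj h⁻¹ c.1 := by
          rw [MulAut.conj_apply, inv_inv]
        rw [this, ← map_pow, MulAut.conj_apply, inv_inv]
      rw [e2] at h4
      have : c.1 ^ (2 ^ 2) = h * (h⁻¹ * c.1 ^ (2 ^ 2) * h) * h⁻¹ := by group
      rw [this, h4]; group
    have : Fact (Nat.Prime 2) := ⟨Nat.prime_two⟩
    exact hC2.isNilpotent
  · -- odd primes: the centraliser is commutative
    apply isNilpotent_of_comm
    intro c₁ hc₁ c₂ hc₂
    rw [hmemC] at hc₁ hc₂
    by_cases hdvd : p ∣ Fintype.card F ^ 2 + 1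
    · exact comm_of_dvd hF hp2 hdvd y hy c₁ c₂ hc₁ hc₂
    · -- the torus
      let T : Subgroup (Sz F m) := (Cfsg.Agent.S0331.torSz (m := m) hF).range
      have hTcard : Nat.card T = 2 ^ (2 * m + 1) - 1 := by
        rw [← Nat.card_congr (MonoidHom.ofInjective
          (Cfsg.Agent.S0331.torSz_injective hF)).toEquiv, card_units hF]
      have hfac : (Nat.card T).factorization p = (Nat.card (Sz F m)).factorization p := by
        rw [hTcard, card_Sz hF hm, ← hF]
        have hq : 2 ≤ Fintype.card F := Fintype.one_lt_card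
        have h1 : ¬ p ∣ Fintype.card F ^ 2 := by
          intro h1
          have h2 := hpp.dvd_of_dvd_pow h1
          rw [hF] at h2
          have h3 := hpp.dvd_of_dvd_pow h2
          exact hp2 ((Nat.prime_dvd_prime_iff_eq hpp Nat.prime_two).1 h3)
        have h0 : Fintype.card F ^ 2 ≠ 0 := by positivity
        have h0' : Fintype.card F ^ 2 + 1 ≠ 0 := by positivity
        symm
        rw [mul_comm]
        apply Cfsg.Agent.S0331.factorization_mul_of_not_dvd (by omega) (Nat.mul_ne_zero h0 h0')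
        intro h2
        rcases (Nat.Prime.dvd_mul hpp).1 h2 with h2 | h2
        · exact h1 h2
        · exact hdvd h2
      obtain ⟨g, hg⟩ := Singer.exists_conj_mem p T hfac y hy
      obtain ⟨k, hk⟩ := hg
      have hk' : kS hF k = g⁻¹ * y * g := by
        rw [← hk]; rfl
      have hk1 : k ≠ 1 := by
        intro h
        apply hy1
        rw [h, kS_one] at hk'
        have : y = g * 1 * g⁻¹ := by rw [hk']; group
        rw [this]; group
      have key : ∀ c : Sz F m, c * y = y * c → ∃ l : Fˣ, g⁻¹ * c * g = kS hF l := by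
        intro c hc
        apply exists_kS_of_commute hF hm hk1
        rw [hk']
        calc g⁻¹ * c * g * (g⁻¹ * y * g) = g⁻¹ * (c * y) * g := by group
          _ = g⁻¹ * (y * c) * g := by rw [hc]
          _ = g⁻¹ * y * g * (g⁻¹ * c * g) := by group
      obtain ⟨l₁, hl₁⟩ := key c₁ hc₁
      obtain ⟨l₂, hl₂⟩ := key c₂ hc₂
      have h3 : (g⁻¹ * c₁ * g) * (g⁻¹ * c₂ * g) = (g⁻¹ * c₂ * g) * (g⁻¹ * c₁ * g) := by
        rw [hl₁, hl₂, ← kS_mul, ← kS_mul, mul_comm]
      calc c₁ * c₂ = g * ((g⁻¹ * c₁ * g) * (g⁻¹ * c₂ * g)) * g⁻¹ := by group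
        _ = g * ((g⁻¹ * c₂ * g) * (g⁻¹ * c₁ * g)) * g⁻¹ := by rw [h3]
        _ = c₂ * c₁ := by group

end Cfsg.Agent.S0332
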