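import Mathlib
import Cfsg.Statements.S1140

set_option autoImplicit false
open Cfsg

namespace Cfsg.Agent.S1140

theorem card_aut {F : Type*} [Field F] [Fintype F] [CharP F 2] [Fintype (F ≃+* F)] :
    Fintype.card (F ≃+* F) = Module.finrank F (F →+ F) := by
  classical
  letI : Algebra (ZMod 2) F := ZMod.algebra F 2
  let e0 : (F →+ F) ≃+ (F →ₗ[ZMod 2] F) := AddMonoidHom.toZModLinearMapEquiv 2
  let e : (F →+ F) ≃ₗ[F] (F →ₗ[ZMod 2] F) :=
    { e0 with
      map_smul' := by
        intro c f
        apply LinearMap.ext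
        intro x
        rfl }
  have h1 : Module.finrank F (F →+ F) = Module.finrank F (F →ₗ[ZMod 2] F) := e.finrank_eq
  have h2 : Module.finrank F (F →ₗ[ZMod 2] F) = Module.finrank (ZMod 2) F :=
    Module.finrank_linearMap_self (ZMod 2) F F
  have h3 : Nat.card (F ≃ₐ[ZMod 2] F) = Module.finrank (ZMod 2) F :=
    IsGalois.card_aut_eq_finrank (ZMod 2) F
  let g : (F ≃+* F) ≃ (F ≃ₐ[ZMod 2] F) :=
    { toFun := fun σ => AlgEquiv.ofRingEquiv (f := σ) (fun x => by
        have h : ((σ : F →+* F).comp (algebraMap (ZMod 2) F)) = algebraMap (ZMod 2) F :=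
          Subsingleton.elim _ _
        exact DFunLike.congr_fun h x)
      invFun := fun σ => σ.toRingEquiv
      left_inv := fun σ => by ext x; rfl
      right_inv := fun σ => by ext x; rfl }
  rw [h1, h2, ← h3, ← Nat.card_eq_fintype_card]
  exact Nat.card_congr g

theorem result {F : Type*} [Field F] [Fintype F] [CharP F 2] :
    LinearIndependent F (fun σ : F ≃+* F => ((σ : F →+* F) : F → F)) ∧
      (∀ f : F →+ F, ∃ (s : Finset (F ≃+* F)) (c : (F ≃+* F) → F), ∀ x : F, f x = ∑ σ ∈ s, c σ * σ x) ∧
      ∀ B : F →+ F →+ F, ∃ (s : Finset ((F ≃+* F) × (F ≃+* F))) (c : (F ≃+* F) × (F ≃+* F) → F),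
        ∀ x y : F, B x y = ∑ p ∈ s, c p * (p.1 x * p.2 y) := by
  classical
  haveI : Finite (F ≃+* F) :=
    Finite.of_injective (fun σ : F ≃+* F => (σ : F → F)) DFunLike.coe_injective
  letI : Fintype (F ≃+* F) := Fintype.ofFinite _
  have hinj : Function.Injective (fun σ : F ≃+* F => ((σ : F →+* F) : F →* F)) := by
    intro σ τ h
    apply RingEquiv.ext
    intro x
    exact DFunLike.congr_fun h x
  have hli : LinearIndependent F (fun σ : F ≃+* F => ((σ : F →+* F) : F → F)) :=
    (linearIndependent_monoidHom F F).comp (fun σ : F ≃+* F => ((σ : F →+* F) : F →* F)) hinj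
  let v : (F ≃+* F) → (F →+ F) := fun σ => ((σ : F →+* F) : F →+ F)
  let φ : (F →+ F) →ₗ[F] (F → F) :=
    { toFun := fun f => (f : F → F)
      map_add' := fun _ _ => rfl
      map_smul' := fun _ _ => rfl }
  have hv : LinearIndependent F v := by
    apply LinearIndependent.of_comp φ
    exact hli
  haveI : Finite (F →+ F) := DFunLike.finite _
  haveI : Module.Finite F (F →+ F) := Module.Finite.of_finite
  have hcard : Fintype.card (F ≃+* F) = Module.finrank F (F →+ F) := card_aut
  let b : Module.Basis (F ≃+* F) F (F →+ F) :=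
    basisOfLinearIndependentOfCardEqFinrank' (K := F) v hv hcard
  have hb : ∀ σ, b σ = v σ := fun σ =>
    congrFun (coe_basisOfLinearIndependentOfCardEqFinrank' (K := F) v hv hcard) σ
  have key : ∀ (f : F →+ F) (x : F), f x = ∑ σ, b.repr f σ * σ x := by
    intro f x
    have h := b.sum_repr f
    have h2 := DFunLike.congr_fun h x
    rw [AddMonoidHom.finsetSum_apply] at h2
    refine h2.symm.trans (Finset.sum_congr rfl (fun σ _ => ?_))
    rw [hb σ]
    rfl
  refine ⟨hli, ?_, ?_⟩
  · intro f
    exact ⟨Finset.univ, fun σ => b.repr f σ, fun x => key f x⟩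
  · intro B
    let cτ : (F ≃+* F) → (F →+ F) := fun τ =>
      { toFun := fun x => b.repr (B x) τ
        map_zero' := by
          show b.repr (B 0) τ = 0
          rw [map_zero, map_zero, Finsupp.zero_apply]
        map_add' := fun x y => by
          show b.repr (B (x + y)) τ = b.repr (B x) τ + b.repr (B y) τ
          rw [map_add, map_add, Finsupp.add_apply] }
    refine ⟨Finset.univ, fun p => b.repr (cτ p.2) p.1, ?_⟩
    intro x y
    rw [key (B x) y]
    have h1 : ∀ τ : F ≃+* F, b.repr (B x) τ = ∑ σ, b.repr (cτ τ) σ * σ x :=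
      fun τ => key (cτ τ) x
    rw [Fintype.sum_prod_type_right]
    apply Finset.sum_congr rfl
    intro τ _
    rw [h1 τ, Finset.sum_mul]
    apply Finset.sum_congr rfl
    intro σ _
    show b.repr (cτ τ) σ * σ x * τ y = b.repr (cτ τ) σ * (σ x * τ y)
    ring

end Cfsg.Agent.S1140
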