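import Mathlib
import Cfsg.Statements.S2238
import Cfsg.Agent.Lib.Helper3.Suzuki19

set_option autoImplicit false
open Cfsg

namespace Cfsg.Agent.S2238

open Cfsg.Agent.Lib.Helper3.Sz Cfsg.Agent.Lib.Helper3.TICount

section

variable {F : Type*} [Field F] [Fintype F] {m : ℕ} (hF : Fintype.card F = 2 ^ (2 * m + 1))
  (hm : 1 ≤ m)

/-- the arithmetic of the three orders -/
lemma arith (m : ℕ) (hm : 1 ≤ m) :
    2 ^ (m + 1) ≤ 2 ^ (2 * m + 1) ∧
    (2 ^ (2 * m + 1) + 2 ^ (m + 1) + 1) * (2 ^ (2 * m + 1) - 2 ^ (m + 1) + 1)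
      = (2 ^ (2 * m + 1)) ^ 2 + 1 ∧
    Nat.Coprime (2 ^ (2 * m + 1) + 2 ^ (m + 1) + 1) (2 ^ (2 * m + 1) - 2 ^ (m + 1) + 1) ∧
    5 ≤ 2 ^ (2 * m + 1) - 2 ^ (m + 1) + 1 := by
  have hle : 2 ^ (m + 1) ≤ 2 ^ (2 * m + 1) := Nat.pow_le_pow_right (by norm_num) (by omega)
  have hsq : (2 ^ (m + 1)) ^ 2 = 2 * 2 ^ (2 * m + 1) := by
    rw [← pow_mul, ← pow_succ']; congr 1; ring
  have hprod : (2 ^ (2 * m + 1) + 2 ^ (m + 1) + 1) * (2 ^ (2 * m + 1) - 2 ^ (m + 1) + 1)
      = (2 ^ (2 * m + 1)) ^ 2 + 1 := by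
    zify [hle] at hsq ⊢
    linear_combination -hsq
  refine ⟨hle, hprod, ?_, ?_⟩
  · -- coprime
    apply Nat.coprime_of_dvd
    intro k hk h1 h2
    have h3 : k ∣ (2 ^ (2 * m + 1) + 2 ^ (m + 1) + 1) - (2 ^ (2 * m + 1) - 2 ^ (m + 1) + 1) :=
      Nat.dvd_sub h1 h2
    have e : (2 ^ (2 * m + 1) + 2 ^ (m + 1) + 1) - (2 ^ (2 * m + 1) - 2 ^ (m + 1) + 1)
        = 2 ^ (m + 2) := by
      have : 2 ^ (m + 2) = 2 * 2 ^ (m + 1) := by rw [pow_succ]; ring
      omega
    rw [e] at h3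
    have hk2 : k = 2 := (Nat.prime_dvd_prime_iff_eq hk Nat.prime_two).1 (hk.dvd_of_dvd_pow h3)
    rw [hk2] at h1
    have h4 : 2 ∣ 2 ^ (2 * m + 1) := dvd_pow_self 2 (by omega)
    have h5 : 2 ∣ 2 ^ (m + 1) := dvd_pow_self 2 (by omega)
    omega
  · -- at least five
    have h1 : 2 ^ (2 * m + 1) = 2 ^ (m + 1) * 2 ^ m := by rw [← pow_add]; congr 1; omega
    have h2 : 2 ≤ 2 ^ m := by
      calc 2 = 2 ^ 1 := rfl
        _ ≤ 2 ^ m := Nat.pow_le_pow_right (by norm_num) hm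
    have h3 : 4 ≤ 2 ^ (m + 1) := by
      calc 4 = 2 ^ 2 := rfl
        _ ≤ 2 ^ (m + 1) := Nat.pow_le_pow_right (by norm_num) (by omega)
    have h4 : 2 ^ (m + 1) * 2 ≤ 2 ^ (m + 1) * 2 ^ m := Nat.mul_le_mul_left _ h2
    omega

include hF hm in
/-- two Sylow 2-subgroups sharing a non-identity element are equal -/
lemma sylow_eq_of_mem (P P' : Sylow 2 (Sz F m)) (g : Sz F m) (hg : g ≠ 1) (h1 : g ∈ P)
    (h2 : g ∈ P') : (P : Subgroup (Sz F m)) = P' := by
  obtain ⟨h, hh⟩ := exists_conj_transGroup hF hm P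
  obtain ⟨h', hh'⟩ := exists_conj_transGroup hF hm P'
  have ht : h⁻¹ * g * h ∈ transGroup hF hm := (hh g).1 h1
  have ht' : h'⁻¹ * g * h' ∈ transGroup hF hm := (hh' g).1 h2
  have ht1 : h⁻¹ * g * h ≠ 1 := by
    intro h0; apply hg
    have : g = h * (h⁻¹ * g * h) * h⁻¹ := by group
    rw [this, h0]; group
  have hn : h'⁻¹ * h ∈ Subgroup.normalizer ((transGroup hF hm : Subgroup (Sz F m)) : Set (Sz F m)) := by
    apply transGroup_TI hF hm _ _ ht ht1
    have : h'⁻¹ * h * (h⁻¹ * g * h) * (h'⁻¹ * h)⁻¹ = h'⁻¹ * g * h' := by group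
    rw [this]; exact ht'
  ext x
  show x ∈ P ↔ x ∈ P'
  rw [hh x, hh' x, (Subgroup.mem_normalizer_iff.1 hn) (h⁻¹ * x * h)]
  have : h'⁻¹ * h * (h⁻¹ * x * h) * (h'⁻¹ * h)⁻¹ = h'⁻¹ * x * h' := by group
  rw [this]

end

theorem result {F : Type*} [Field F] [Fintype F] {m : ℕ} (hm : 1 ≤ m) (hF : Fintype.card F = 2 ^ (2 * m + 1)) (g : ↥(Cfsg.Sz F m)) (hg : g ≠ 1) :
    ∃! U : Subgroup ↥(Cfsg.Sz F m), ((∃ P : Sylow 2 ↥(Cfsg.Sz F m), U = (P : Subgroup ↥(Cfsg.Sz F m))) ∨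
      (IsCyclic ↥U ∧ Nat.card ↥U ∈ ({2 ^ (2 * m + 1) - 1, 2 ^ (2 * m + 1) + 2 ^ (m + 1) + 1, 2 ^ (2 * m + 1) - 2 ^ (m + 1) + 1} : Set ℕ))) ∧ g ∈ U := by
  classical
  have hfin : Finite (Sz F m) := finite_Sz
  have : Fact (Nat.Prime 2) := ⟨Nat.prime_two⟩
  obtain ⟨hle, hprod, hcop, h5⟩ := arith m hm
  have hq2 : 2 ≤ Fintype.card F := Fintype.one_lt_card
  have hn1 : orderOf g ≠ 1 := fun h => hg (orderOf_eq_one_iff.1 h)
  obtain ⟨p₀, hp₀, hp₀g⟩ := Nat.exists_prime_and_dvd hn1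
  obtain ⟨hall, _, _⟩ := tori_classification hF hm
  -- the three kinds of cyclic subgroups have odd order
  have hodd : ∀ k ∈ ({2 ^ (2 * m + 1) - 1, 2 ^ (2 * m + 1) + 2 ^ (m + 1) + 1,
      2 ^ (2 * m + 1) - 2 ^ (m + 1) + 1} : Set ℕ), ¬ 2 ∣ k := by
    intro k hk
    have h4 : 2 ∣ 2 ^ (2 * m + 1) := dvd_pow_self 2 (by omega)
    have h5 : 2 ∣ 2 ^ (m + 1) := dvd_pow_self 2 (by omega)
    have h6 : 2 ^ 1 ≤ 2 ^ (2 * m + 1) := Nat.pow_le_pow_right (by norm_num) (by omega)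
    rcases hk with rfl | rfl | hk
    · omega
    · omega
    · rw [Set.mem_singleton_iff] at hk; subst hk; omega
  have hdvdN : ∀ k, (k = 2 ^ (2 * m + 1) + 2 ^ (m + 1) + 1 ∨ k = 2 ^ (2 * m + 1) - 2 ^ (m + 1) + 1) →
      k ∣ Fintype.card F ^ 2 + 1 := by
    intro k hk
    rw [hF, ← hprod]
    rcases hk with rfl | rfl
    · exact Dvd.intro _ rfl
    · exact Dvd.intro_left _ rfl
  -- a cyclic subgroup containing `g` lies in the centraliser
  have hcyc_le : ∀ U : Subgroup (Sz F m), IsCyclic U → g ∈ U →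
      U ≤ Subgroup.centralizer ({g} : Set (Sz F m)) := by
    intro U hU hgU u hu
    rw [Subgroup.mem_centralizer_singleton_iff]
    have := hU.isMulCommutative.is_comm.comm ⟨u, hu⟩ ⟨g, hgU⟩
    exact congrArg Subtype.val this
  -- elements of Sylow 2-subgroups
  have hsyl2 : ∀ P : Sylow 2 (Sz F m), g ∈ P → ∀ p : ℕ, p.Prime → p ∣ orderOf g → p = 2 := by
    intro P hgP p hp hpg
    obtain ⟨k, hk⟩ := P.isPGroup' ⟨g, hgP⟩
    have hk' : g ^ (2 ^ k) = 1 := congrArg Subtype.val hk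
    have h1 : p ∣ 2 ^ k := dvd_trans hpg (orderOf_dvd_of_pow_eq_one hk')
    exact (Nat.prime_dvd_prime_iff_eq hp Nat.prime_two).1 (hp.dvd_of_dvd_pow h1)
  rcases trichotomy hF hm g hg with hQ | hH | hR
  · -- 2-elements
    have h4 := pow_four_of_mem_conjSet_transGroup hF hm hQ
    have hz : IsPGroup 2 (Subgroup.zpowers g) := by
      rw [IsPGroup.iff_orderOf]
      rintro ⟨x, hx⟩
      obtain ⟨j, rfl⟩ := Subgroup.mem_zpowers_iff.1 hx
      have h5 : (g ^ j) ^ (2 ^ 2) = 1 := by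
        rw [← zpow_natCast, ← zpow_mul, mul_comm, zpow_mul, zpow_natCast]
        norm_num
        rw [h4, one_zpow]
      have h6 : orderOf (⟨g ^ j, hx⟩ : Subgroup.zpowers g) ∣ 2 ^ 2 := by
        apply orderOf_dvd_of_pow_eq_one
        apply Subtype.ext
        exact h5
      obtain ⟨i, _, hi⟩ := (Nat.dvd_prime_pow Nat.prime_two).1 h6
      exact ⟨i, hi⟩
    obtain ⟨P, hP⟩ := hz.exists_le_sylow
    have hgP : g ∈ P := hP (Subgroup.mem_zpowers g)
    refine ⟨P, ⟨Or.inl ⟨P, rfl⟩, hgP⟩, ?_⟩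
    rintro U' ⟨hU' | ⟨hU'c, hU'k⟩, hgU'⟩
    · obtain ⟨P', rfl⟩ := hU'
      exact (sylow_eq_of_mem hF hm P P' g hg hgP hgU').symm
    · exfalso
      have h2 := hsyl2 P hgP p₀ hp₀ hp₀g
      rw [h2] at hp₀g
      exact hodd _ hU'k (dvd_trans hp₀g (Subgroup.orderOf_dvd_natCard _ hgU'))
  · -- elements conjugate into the torus
    have hord := orderOf_dvd_of_mem_conjSet_torusH hF hH
    obtain ⟨_, h, hh⟩ := hH
    obtain ⟨k, hk⟩ := (mem_torusH hF _).1 hh
    have hk1 : k ≠ 1 := by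
      rintro rfl
      apply hg
      rw [kS_one] at hk
      have : g = h⁻¹ * (h * g * h⁻¹) * h := by group
      rw [this, hk]; group
    let U : Subgroup (Sz F m) := (torusH (m := m) hF).map (MulAut.conj h⁻¹).toMonoidHom
    have hUcard : Nat.card U = 2 ^ (2 * m + 1) - 1 := by
      rw [Subgroup.card_map_of_injective (MulAut.conj h⁻¹).injective, card_torusH]
    have hUcyc : IsCyclic U := by
      have := isCyclic_torusH (m := m) hF
      exact isCyclic_of_surjective ((torusH (m := m) hF).equivMapOfInjective _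
        (MulAut.conj h⁻¹).injective).toMonoidHom (MulEquiv.surjective _)
    have hmemU : ∀ x : Sz F m, x ∈ U ↔ h * x * h⁻¹ ∈ torusH hF := by
      intro x
      constructor
      · rintro ⟨t, ht, rfl⟩
        have : h * (MulAut.conj h⁻¹).toMonoidHom t * h⁻¹ = t := by
          show h * (MulAut.conj h⁻¹ t) * h⁻¹ = t
          rw [MulAut.conj_apply]; group
        rw [this]; exact ht
      · intro hx
        refine ⟨h * x * h⁻¹, hx, ?_⟩
        show MulAut.conj h⁻¹ (h * x * h⁻¹) = x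
        rw [MulAut.conj_apply]; group
    have hgU : g ∈ U := (hmemU g).2 hh
    have hCU : Subgroup.centralizer ({g} : Set (Sz F m)) ≤ U := by
      intro x hx
      rw [Subgroup.mem_centralizer_singleton_iff] at hx
      rw [hmemU]
      have hc : (h * x * h⁻¹) * kS hF k = kS hF k * (h * x * h⁻¹) := by
        rw [← hk]
        calc h * x * h⁻¹ * (h * g * h⁻¹) = h * (x * g) * h⁻¹ := by group
          _ = h * (g * x) * h⁻¹ := by rw [hx]
          _ = h * g * h⁻¹ * (h * x * h⁻¹) := by group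
      obtain ⟨l, hl⟩ := exists_kS_of_commute hF hm hk1 _ hc
      rw [hl]; exact kS_mem_torusH hF l
    refine ⟨U, ⟨Or.inr ⟨hUcyc, Or.inl hUcard⟩, hgU⟩, ?_⟩
    rintro U' ⟨hU' | ⟨hU'c, hU'k⟩, hgU'⟩
    · exfalso
      obtain ⟨P', rfl⟩ := hU'
      have h2 := hsyl2 P' hgU' p₀ hp₀ hp₀g
      rw [h2] at hp₀g
      have h3 : 2 ∣ Fintype.card F - 1 := dvd_trans hp₀g hord
      rw [hF] at h3
      have h4 : 2 ∣ 2 ^ (2 * m + 1) := dvd_pow_self 2 (by omega)
      have h6 : 2 ^ 1 ≤ 2 ^ (2 * m + 1) := Nat.pow_le_pow_right (by norm_num) (by omega)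
      omega
    · have hle' : U' ≤ U := le_trans (hcyc_le U' hU'c hgU') hCU
      have hp₀q : p₀ ∣ Fintype.card F - 1 := dvd_trans hp₀g hord
      have hp₀2 : p₀ ≠ 2 := by
        rintro rfl
        rw [hF] at hp₀q
        have h4 : 2 ∣ 2 ^ (2 * m + 1) := dvd_pow_self 2 (by omega)
        have h6 : 2 ^ 1 ≤ 2 ^ (2 * m + 1) := Nat.pow_le_pow_right (by norm_num) (by omega)
        omega
      have hp₀U' : p₀ ∣ Nat.card U' := dvd_trans hp₀g (Subgroup.orderOf_dvd_natCard _ hgU')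
      have hk' : Nat.card U' = 2 ^ (2 * m + 1) - 1 := by
        rcases hU'k with h1 | h1 | h1
        · exact h1
        · exfalso
          rw [h1] at hp₀U'
          exact not_dvd_of_dvd_sq_add_one hp₀ hp₀2 hq2 (dvd_trans hp₀U' (hdvdN _ (Or.inl rfl)))
            (Dvd.dvd.mul_left hp₀q _)
        · exfalso
          rw [Set.mem_singleton_iff] at h1
          rw [h1] at hp₀U'
          exact not_dvd_of_dvd_sq_add_one hp₀ hp₀2 hq2 (dvd_trans hp₀U' (hdvdN _ (Or.inr rfl)))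
            (Dvd.dvd.mul_left hp₀q _)
      exact Subgroup.eq_of_le_of_card_ge hle' (by rw [hUcard, hk'])
  · -- elements with a torus as centraliser
    obtain ⟨hcyc, hcard, _, _, _⟩ := torus_of_mem_setR hF hm hR
    obtain ⟨hcases, _⟩ := hall g hR
    have hgC : g ∈ Subgroup.centralizer ({g} : Set (Sz F m)) := self_mem_centralizer g
    refine ⟨Subgroup.centralizer ({g} : Set (Sz F m)), ⟨Or.inr ⟨hcyc, ?_⟩, hgC⟩, ?_⟩
    · right
      rcases hcases with h | h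
      · left; exact h
      · right; exact h
    obtain ⟨_, p, hp, hp2, hpN, hpg⟩ := hR
    rintro U' ⟨hU' | ⟨hU'c, hU'k⟩, hgU'⟩
    · exfalso
      obtain ⟨P', rfl⟩ := hU'
      exact hp2 (hsyl2 P' hgU' p hp hpg)
    · have hle' : U' ≤ Subgroup.centralizer ({g} : Set (Sz F m)) := hcyc_le U' hU'c hgU'
      have hdvd' : Nat.card U' ∣ aOf g := Subgroup.card_dvd_of_le hle'
      have hpU' : p ∣ Nat.card U' := dvd_trans hpg (Subgroup.orderOf_dvd_natCard _ hgU')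
      have hk' : Nat.card U' = aOf g := by
        rcases hU'k with h1 | h1 | h1
        · exfalso
          rw [h1, ← hF] at hpU'
          exact not_dvd_of_dvd_sq_add_one hp hp2 hq2 hpN (Dvd.dvd.mul_left hpU' _)
        · rcases hcases with h | h
          · rw [h1, h]
          · exfalso
            rw [h1, h] at hdvd'
            have := Nat.eq_one_of_dvd_coprimes hcop (dvd_refl _) hdvd'
            have hpos : 0 < 2 ^ (2 * m + 1) := by positivity
            have hpos' : 0 < 2 ^ (m + 1) := by positivity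
            linarith
        · rw [Set.mem_singleton_iff] at h1
          rcases hcases with h | h
          · exfalso
            rw [h1, h] at hdvd'
            have := Nat.eq_one_of_dvd_coprimes hcop hdvd' (dvd_refl _)
            omega
          · rw [h1, h]
      exact Subgroup.eq_of_le_of_card_ge hle' (by rw [hk']; exact le_refl _)

end Cfsg.Agent.S2238
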