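-- Statement S0302
import Cfsg.Statements.S0302
import Mathlib
import Cfsg.Agent.Lib.Helper6.PerfectCentral
import Cfsg.Agent.Lib.Helper6.OmegaList
import Cfsg.Agent.Lib.Helper15.QuadF2a
import Cfsg.Agent.Lib.Helper15.SLNormal
import Cfsg.Agent.S0287

set_option autoImplicit false
open Cfsg

namespace Cfsg.Agent.S0302

open Cfsg.Agent.Lib.Helper6 Cfsg.Agent.Lib.Helper15 Matrix

section algebra
variable {F : Type*} [Field F]

/-- the index type of `Λ² F⁴` -/
abbrev I6 := Fin 3 ⊕ Fin 3

/-- oriented pairs -/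
def pr : I6 → Fin 4 × Fin 4
  | .inl 0 => (0, 1)
  | .inl 1 => (2, 0)
  | .inl 2 => (0, 3)
  | .inr 0 => (2, 3)
  | .inr 1 => (1, 3)
  | .inr 2 => (1, 2)

/-- the second compound matrix -/
def cmp (A : Matrix (Fin 4) (Fin 4) F) : Matrix I6 I6 F := fun I J =>
  A (pr I).1 (pr J).1 * A (pr I).2 (pr J).2 - A (pr I).1 (pr J).2 * A (pr I).2 (pr J).1

theorem cmp_one : cmp (1 : Matrix (Fin 4) (Fin 4) F) = 1 := by
  ext I J
  rcases I with i | i <;> rcases J with j | j <;> fin_cases i <;> fin_cases j <;>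
    simp [cmp, pr, Matrix.one_apply]

set_option maxHeartbeats 4000000 in
theorem cmp_mul (A B : Matrix (Fin 4) (Fin 4) F) : cmp (A * B) = cmp A * cmp B := by
  ext I J
  rcases I with i | i <;> rcases J with j | j <;> fin_cases i <;> fin_cases j <;>
    simp only [cmp, pr, Matrix.mul_apply, Fin.sum_univ_four, Fintype.sum_sum_type, Fin.sum_univ_three,
      Fin.zero_eta, Fin.mk_one, Fin.reduceFinMk] <;> ring

theorem det4 (A : Matrix (Fin 4) (Fin 4) F) : A.det =
    A 0 0 * (A 1 1 * (A 2 2 * A 3 3 - A 2 3 * A 3 2) - A 1 2 * (A 2 1 * A 3 3 - A 2 3 * A 3 1)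
      + A 1 3 * (A 2 1 * A 3 2 - A 2 2 * A 3 1))
    - A 0 1 * (A 1 0 * (A 2 2 * A 3 3 - A 2 3 * A 3 2) - A 1 2 * (A 2 0 * A 3 3 - A 2 3 * A 3 0)
      + A 1 3 * (A 2 0 * A 3 2 - A 2 2 * A 3 0))
    + A 0 2 * (A 1 0 * (A 2 1 * A 3 3 - A 2 3 * A 3 1) - A 1 1 * (A 2 0 * A 3 3 - A 2 3 * A 3 0)
      + A 1 3 * (A 2 0 * A 3 1 - A 2 1 * A 3 0))
    - A 0 3 * (A 1 0 * (A 2 1 * A 3 2 - A 2 2 * A 3 1) - A 1 1 * (A 2 0 * A 3 2 - A 2 2 * A 3 0)
      + A 1 2 * (A 2 0 * A 3 1 - A 2 1 * A 3 0)) := by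
  rw [Matrix.det_succ_row_zero]
  simp only [Fin.sum_univ_four, Matrix.det_fin_three, Matrix.submatrix_apply, Fin.succAbove]
  simp
  ring

set_option maxHeartbeats 4000000 in
/-- the compound matrix scales the Pfaffian form by the determinant -/
theorem cmp_form (A : Matrix (Fin 4) (Fin 4) F) (v : I6 → F) :
    Cfsg.quadFormPlus 3 F (cmp A *ᵥ v) = A.det * Cfsg.quadFormPlus 3 F v := by
  rw [det4]
  simp only [Cfsg.quadFormPlus, Matrix.mulVec, dotProduct, cmp, pr, Fintype.sum_sum_type,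
    Fin.sum_univ_three]
  ring

theorem cmp_smul_one (c : F) : cmp (c • (1 : Matrix (Fin 4) (Fin 4) F)) = (c * c) • 1 := by
  ext I J
  rcases I with i | i <;> rcases J with j | j <;> fin_cases i <;> fin_cases j <;>
    simp [cmp, pr, Matrix.one_apply]

end algebra

section hom
variable {F : Type*} [Field F]

/-- the homomorphism `SL₄(F) → O⁺₆(F)` -/
def rho : Matrix.SpecialLinearGroup (Fin 4) F →* ↥(Cfsg.isometryGroup F ⇑(QPlus F 3)) where
  toFun g := ⟨⟨cmp g.1, cmp (g⁻¹).1, by
      rw [← cmp_mul, ← Matrix.SpecialLinearGroup.coe_mul, mul_inv_cancel,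
        Matrix.SpecialLinearGroup.coe_one, cmp_one], by
      rw [← cmp_mul, ← Matrix.SpecialLinearGroup.coe_mul, inv_mul_cancel,
        Matrix.SpecialLinearGroup.coe_one, cmp_one]⟩, by
    intro u _
    change QPlus F 3 (cmp g.1 *ᵥ u) = QPlus F 3 u
    rw [QPlus_apply, QPlus_apply, cmp_form, g.2, one_mul]⟩
  map_one' := by
    apply Subtype.ext
    apply Units.ext
    exact cmp_one
  map_mul' g h := by
    apply Subtype.ext
    apply Units.ext
    exact cmp_mul g.1 h.1

theorem rho_val (g : Matrix.SpecialLinearGroup (Fin 4) F) :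
    (((rho g).1 : GL I6 F) : Matrix I6 I6 F) = cmp g.1 := rfl

theorem rho_eq_one_iff (g : Matrix.SpecialLinearGroup (Fin 4) F) : rho g = 1 ↔ cmp g.1 = 1 := by
  constructor
  · intro hg
    have := congrArg (fun y : ↥(Cfsg.isometryGroup F ⇑(QPlus F 3)) =>
      (((y.1 : GL I6 F) : Matrix I6 I6 F))) hg
    simp only [rho_val] at this
    rw [this]
    rfl
  · intro h
    apply Subtype.ext
    apply Units.ext
    exact h

end hom

section main
variable {F : Type*} [Field F] [Fintype F]

theorem card_I6 : Fintype.card I6 = 6 := by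
  rw [Fintype.card_sum, Fintype.card_fin]

/-- `SL₄` is perfect -/
theorem SL4_perfect : commutator (Matrix.SpecialLinearGroup (Fin 4) F) = ⊤ :=
  SLn_commutator_eq_top (by rw [Fintype.card_fin]; omega)

omit [Fintype F] in
/-- `rho` is not trivial -/
theorem rho_transvection_ne_one :
    rho (Matrix.SpecialLinearGroup.transvection (F := F) (i := (0 : Fin 4)) (j := 1) (by decide) 1) ≠ 1 := by
  rw [ne_eq, rho_eq_one_iff]
  intro h
  have := congrFun (congrFun h (Sum.inl 1)) (Sum.inr 2)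
  simp [cmp, pr, Matrix.SpecialLinearGroup.transvection_coe, Matrix.transvection,
    Matrix.single_apply, Matrix.one_apply] at this

/-- the kernel of `rho` consists of `±1` -/
theorem ker_rho_sub (g : Matrix.SpecialLinearGroup (Fin 4) F) (hg : g ∈ (rho (F := F)).ker) :
    g.1 = 1 ∨ g.1 = -1 := by
  classical
  let G : Subgroup (GL (Fin 4) F) := (rho (F := F)).ker.map Matrix.SpecialLinearGroup.toGL
  have hG : ∀ s : Matrix.SpecialLinearGroup (Fin 4) F, ∀ x ∈ G,
      (Matrix.SpecialLinearGroup.toGL s) * x * (Matrix.SpecialLinearGroup.toGL s)⁻¹ ∈ G := by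
    rintro s x ⟨k, hk, rfl⟩
    refine ⟨s * k * s⁻¹, ?_, ?_⟩
    · exact (inferInstance : (rho (F := F)).ker.Normal).conj_mem k hk s
    · simp
  rcases SLn_normal_dichotomy SL4_perfect G hG with h | h
  · obtain ⟨c, hc⟩ := h (Matrix.SpecialLinearGroup.toGL g) ⟨g, hg, rfl⟩
    have hc' : g.1 = c • (1 : Matrix (Fin 4) (Fin 4) F) := hc
    rw [MonoidHom.mem_ker, rho_eq_one_iff, hc', cmp_smul_one] at hg
    have h00 := congrFun (congrFun hg (Sum.inl 0)) (Sum.inl 0)
    simp only [Matrix.smul_apply, Matrix.one_apply_eq, smul_eq_mul, mul_one] at h00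
    have : (c - 1) * (c + 1) = 0 := by linear_combination h00
    rcases mul_eq_zero.mp this with h1 | h1
    · left
      rw [hc', show c = 1 by linear_combination h1, one_smul]
    · right
      rw [hc', show c = -1 by linear_combination h1, neg_smul, one_smul]
  · exfalso
    apply rho_transvection_ne_one (F := F)
    have := h ⟨Matrix.SpecialLinearGroup.transvection (F := F) (i := (0 : Fin 4)) (j := 1) (by decide) 1, rfl⟩
    obtain ⟨k, hk, hk2⟩ := this
    have := Matrix.SpecialLinearGroup.toGL_injective hk2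
    rw [← this]
    exact hk

/-- `-1` in `SL₄` -/
def negOne : Matrix.SpecialLinearGroup (Fin 4) F :=
  ⟨-1, by rw [Matrix.det_neg, Fintype.card_fin, Matrix.det_one]; norm_num⟩

omit [Fintype F] in
theorem negOne_eq_one (h2 : (2 : F) = 0) : (negOne : Matrix.SpecialLinearGroup (Fin 4) F) = 1 := by
  apply Subtype.ext
  change (-1 : Matrix (Fin 4) (Fin 4) F) = 1
  rw [neg_eq_iff_add_eq_zero, ← two_smul F (1 : Matrix (Fin 4) (Fin 4) F), h2, zero_smul]

theorem ker_sub_pair : ((rho (F := F)).ker : Set (Matrix.SpecialLinearGroup (Fin 4) F)) ⊆ {1, negOne} := by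
  intro g hg
  rcases ker_rho_sub g hg with h | h
  · left; exact Subtype.ext h
  · right; exact Subtype.ext h

theorem ker_le_center : (rho (F := F)).ker ≤ Subgroup.center (Matrix.SpecialLinearGroup (Fin 4) F) := by
  intro g hg
  rw [Matrix.SpecialLinearGroup.mem_center_iff]
  rcases ker_rho_sub g hg with h | h
  · exact ⟨1, one_pow _, by rw [h, map_one]⟩
  · refine ⟨-1, by rw [Fintype.card_fin]; norm_num, ?_⟩
    rw [h, map_neg, map_one]

theorem card_SL4 : Nat.card (Matrix.SpecialLinearGroup (Fin 4) F) =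
    Fintype.card F ^ 6 * (Fintype.card F ^ 3 - 1) * ((Fintype.card F ^ 2 - 1) * (Fintype.card F ^ 4 - 1)) := by
  have h := card_SL_mul (F := F) 4
  set q := Fintype.card F with hq
  have hq2 : 2 ≤ q := Fintype.one_lt_card
  have e1 : q ^ 4 - q = q * (q ^ 3 - 1) := by rw [Nat.mul_sub, mul_one]; ring_nf
  have e2 : q ^ 4 - q ^ 2 = q ^ 2 * (q ^ 2 - 1) := by rw [Nat.mul_sub, mul_one]; ring_nf
  have e3 : q ^ 4 - q ^ 3 = q ^ 3 * (q - 1) := by rw [Nat.mul_sub, mul_one]; ring_nf
  simp only [Fin.prod_univ_four, Fin.val_zero, pow_zero, Fin.val_one, pow_one] at h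
  have e22 : ((2 : Fin 4) : ℕ) = 2 := rfl
  have e33 : ((3 : Fin 4) : ℕ) = 3 := rfl
  rw [e22, e33, e1, e2, e3] at h
  have hpos : 0 < q - 1 := by omega
  apply Nat.eq_of_mul_eq_mul_right hpos
  rw [h]; ring

end main

/-- PΩ^+_6(q) is isomorphic to PSL_4(q). -/
theorem result {F : Type*} [Field F] [Fintype F] : Nonempty (Cfsg.POmega F (Cfsg.quadFormPlus 3 F) ≃* Matrix.ProjectiveSpecialLinearGroup (Fin 4) F) := by
  classical
  have hfun : Cfsg.quadFormPlus 3 F = ⇑(QPlus F 3) := (funext (QPlus_apply F 3)).symm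
  rw [hfun]
  have hQ := nondegenerate_QPlus F 3
  have hex : Fintype.card F ≠ 2 ∨ Fintype.card I6 ≠ 4 := by right; rw [card_I6]; omega
  let ρ : Matrix.SpecialLinearGroup (Fin 4) F →* ↥(Cfsg.Omega F ⇑(QPlus F 3)) :=
    (rho (F := F)).codRestrict _ (fun g => map_mem_commutator_of_perfect rho SL4_perfect g)
  have hker : ρ.ker = (rho (F := F)).ker := by
    ext g
    simp only [MonoidHom.mem_ker]
    constructor
    · intro h
      have := congrArg Subtype.val h
      simpa [ρ] using this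
    · intro h
      apply Subtype.ext
      simpa [ρ] using h
  have hkc : ρ.ker ≤ Subgroup.center (Matrix.SpecialLinearGroup (Fin 4) F) := by
    rw [hker]; exact ker_le_center
  -- cardinalities
  have hSL := card_SL4 (F := F)
  have hO := Cfsg.Agent.S0287.result (F := F) rfl 3 (by omega)
  rw [hfun] at hO
  have hO' : Nat.card ↥(Cfsg.isometryGroup F ⇑(QPlus F 3)) =
      2 * Nat.card (Matrix.SpecialLinearGroup (Fin 4) F) := by
    rw [hO, hSL]
    simp only [Finset.prod_range_succ, Finset.range_zero, Finset.prod_empty]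
    norm_num
    ring
  have hΩ := Subgroup.card_mul_index (Cfsg.Omega F ⇑(QPlus F 3))
  rw [hO'] at hΩ
  have hkr := Subgroup.card_mul_index ρ.ker
  rw [Subgroup.index_ker] at hkr
  have hle : Nat.card ρ.range ≤ Nat.card ↥(Cfsg.Omega F ⇑(QPlus F 3)) :=
    Subgroup.card_le_card_group _
  have hkcard : Nat.card ρ.ker = ((rho (F := F)).ker : Set (Matrix.SpecialLinearGroup (Fin 4) F)).ncard := by
    rw [hker]
    exact Nat.card_coe_set_eq _
  have hsurj : Function.Surjective ρ := by
    rw [← MonoidHom.range_eq_top]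
    apply Subgroup.eq_top_of_card_eq
    by_cases h2 : (2 : F) = 0
    · have hidx := index_Omega_two' (QPlus F 3) h2 hQ (by rw [card_I6]; omega) hex
      rw [hidx] at hΩ
      have hk1 : Nat.card ρ.ker ≤ 1 := by
        rw [hkcard]
        have hsub := ker_sub_pair (F := F)
        rw [negOne_eq_one h2, Set.pair_eq_singleton] at hsub
        exact (Set.ncard_le_ncard hsub (Set.finite_singleton _)).trans (by rw [Set.ncard_singleton])
      have := Nat.mul_le_mul_right (Nat.card ρ.range) hk1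
      omega
    · have hidx := index_Omega' (QPlus F 3) h2 hQ (by rw [card_I6]; omega)
      rw [hidx] at hΩ
      have hk2 : Nat.card ρ.ker ≤ 2 := by
        rw [hkcard]
        have hsub := ker_sub_pair (F := F)
        exact (Set.ncard_le_ncard hsub (Set.toFinite _)).trans
          ((Set.ncard_insert_le _ _).trans (by rw [Set.ncard_singleton]))
      have := Nat.mul_le_mul_right (Nat.card ρ.range) hk2
      omega
  exact quotient_center_equiv_of_surjective ρ hsurj hkc SL4_perfect


end Cfsg.Agent.S0302
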