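import Cfsg.Statements.S5038
import Cfsg.Agent.H26.RootLine3

set_option autoImplicit false
open Cfsg

namespace Cfsg.Agent.S5038

/-- Let S be a set of abstract root subgroups of G in which every member has a rank one partner, A ∈ S and B a line partner of A. Then the subgroup generated by the members of S normalizing AB permutes the members of S inside AB doubly transitively by conjugation. -/
theorem result {G : Type*} [Group G] {S : Set (Subgroup G)} (hS : Cfsg.IsRootSubgroupSet S)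
    (hF : ∀ A ∈ S, ¬ Cfsg.IsIsolatedIn (Cfsg.FAdj S) S A) {A B : Subgroup G} (hA : A ∈ S) (hB : B ∈ Cfsg.linePartners S A) :
    ∀ C₁ ∈ Cfsg.membersIn S (A ⊔ B), ∀ C₂ ∈ Cfsg.membersIn S (A ⊔ B), ∀ D₁ ∈ Cfsg.membersIn S (A ⊔ B),
      ∀ D₂ ∈ Cfsg.membersIn S (A ⊔ B), C₁ ≠ C₂ → D₁ ≠ D₂ →
        ∃ x ∈ ⨆ E ∈ Cfsg.normalizingMembers S (A ⊔ B), E, Cfsg.conjBy C₁ x = D₁ ∧ Cfsg.conjBy C₂ x = D₂ := by
  classical
  have hall : ∀ A ∈ S, Cfsg.Agent.H26.NonIso S A := fun A hA =>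
    Cfsg.Agent.H26.nonIso_of_not_isolated hA (hF A hA)
  obtain ⟨⟨hBS, hBA, hABbot⟩, hpart⟩ := hB
  have hABc := Cfsg.Agent.H26.comm_of_bot hABbot
  -- the line context
  have hN : Cfsg.Agent.H26.LineCtx S (A ⊔ B) := by
    refine ⟨?_, ?_⟩
    · exact Cfsg.Agent.H26.comm_sup_of_comm (Cfsg.Agent.H26.commSub hS hA)
        (Cfsg.Agent.H26.commSub hS hBS) hABc
    · intro x hx hx1
      obtain ⟨C, hC, hxC⟩ := hpart.2.1 x hx hx1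
      exact ⟨C, hC.1, hC.2, hxC⟩
  obtain ⟨C₀, hC₀, hAC₀⟩ := hall A hA
  obtain ⟨K, hK, hAK, hKeq⟩ := Cfsg.Agent.H26.line_structure hS hall hA hBS hC₀ (Ne.symm hBA) hN hAC₀
  -- the point P
  have hPS : ⁅A, K⁆ ∈ S := hAK.1
  have hPA : ⁅A, K⁆ ≠ A := (Cfsg.Agent.H26.rcc_ne hS hAK).symm
  obtain ⟨C₁, hC₁, hPC₁⟩ := hall _ hPS
  have hN' : Cfsg.Agent.H26.LineCtx S (⁅A, K⁆ ⊔ A) := by
    rw [sup_comm, hKeq]; exact hN
  obtain ⟨K', hK', hPK', hK'eq⟩ := Cfsg.Agent.H26.line_structure hS hall hPS hA hC₁ hPA hN' hPC₁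
  have hK'eq' : ⁅A, K⁆ ⊔ ⁅⁅A, K⁆, K'⁆ = A ⊔ B := by
    rw [hK'eq, sup_comm, hKeq]
  -- the acting group
  have hKn : K ∈ Cfsg.normalizingMembers S (A ⊔ B) := by
    refine ⟨hK, ?_⟩
    rw [← hKeq]
    exact Cfsg.Agent.H26.rcc_le_normalizer hS hAK
  have hK'n : K' ∈ Cfsg.normalizingMembers S (A ⊔ B) := by
    refine ⟨hK', ?_⟩
    rw [← hK'eq']
    exact Cfsg.Agent.H26.rcc_le_normalizer hS hPK'
  have hΓn : (⨆ E ∈ Cfsg.normalizingMembers S (A ⊔ B), E) ≤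
      Subgroup.normalizer ((A ⊔ B : Subgroup G) : Set G) := iSup₂_le fun E hE => hE.2
  have hKΓ : K ≤ ⨆ E ∈ Cfsg.normalizingMembers S (A ⊔ B), E := le_biSup (fun E => E) hKn
  have hK'Γ : K' ≤ ⨆ E ∈ Cfsg.normalizingMembers S (A ⊔ B), E := le_biSup (fun E => E) hK'n
  have hΓ : ∀ x ∈ ⨆ E ∈ Cfsg.normalizingMembers S (A ⊔ B), E,
      ∀ M ∈ Cfsg.membersIn S (A ⊔ B), Cfsg.conjBy M x ∈ Cfsg.membersIn S (A ⊔ B) := by
    intro x hx M hM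
    refine ⟨hS.conj_mem M hM.1 x, ?_⟩
    rintro _ ⟨m, hm, rfl⟩
    have := hΓn hx
    rw [Subgroup.mem_normalizer_iff] at this
    exact (this m).mp (hM.2 hm)
  have hPℓ : ⁅A, K⁆ ∈ Cfsg.membersIn S (A ⊔ B) := ⟨hPS, hKeq ▸ le_sup_right⟩
  have hne : ⁅A, K⁆ ≠ ⁅⁅A, K⁆, K'⁆ := Cfsg.Agent.H26.rcc_ne hS hPK'
  refine Cfsg.Agent.H26.two_trans_of_two_points (P := ⁅A, K⁆) (P' := ⁅⁅A, K⁆, K'⁆) hΓ hPℓ hne ?_ ?_ ?_
  · intro M hM hMP M' hM' hM'P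
    rw [← hKeq] at hM hM'
    obtain ⟨x, hx, e1, e2⟩ := Cfsg.Agent.H26.rcc_transitive hS hall hA hK hAK M hM hMP M' hM' hM'P
    exact ⟨x, hKΓ hx, e1, e2⟩
  · intro M hM hMP M' hM' hM'P
    rw [← hK'eq'] at hM hM'
    obtain ⟨x, hx, e1, -⟩ := Cfsg.Agent.H26.rcc_transitive hS hall hPS hK' hPK' M hM hMP M' hM' hM'P
    exact ⟨x, hK'Γ hx, e1⟩
  · obtain ⟨Q, hQ, hQ1, hQ2⟩ := Cfsg.Agent.H26.rcc_exists_third (P := ⁅⁅A, K⁆, K'⁆) hS hPS hK' hPK' (hall _ hPS)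
    rw [hK'eq'] at hQ
    exact ⟨Q, hQ, hQ1, hQ2⟩

end Cfsg.Agent.S5038
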