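import Cfsg.Statements.S5041
import Cfsg.Agent.H26.RootSub18

set_option autoImplicit false
open Cfsg

namespace Cfsg.Agent.S5041

/-- Let S be a non-degenerate class of abstract root subgroups of G. Then the graph on S joining A to its line partners, and the commuting graph on S, are both connected. -/
theorem result {G : Type*} [Group G] {S : Set (Subgroup G)} (hS : Cfsg.IsRootSubgroupClass S) (hnd : Cfsg.IsNondegenerateRootSet S) :
    Cfsg.IsConnectedFamily (Cfsg.EAdj S S) S ∧ Cfsg.IsConnectedFamily (Cfsg.DAdj S) S := by
  have hF := Cfsg.Agent.H26.fconnected_of_nondegenerate hS hnd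
  have hE : Cfsg.IsConnectedFamily (Cfsg.EAdj S S) S := by
    intro A hA B hB
    have hpath := hF A hA B hB
    clear hB
    induction hpath with
    | refl => exact Relation.ReflTransGen.refl
    | tail _ hstep ih =>
      exact ih.trans (Cfsg.Agent.H26.epath_of_rankOne hS hnd hstep.1 hstep.2.1 hstep.2.2)
  refine ⟨hE, ?_⟩
  intro A hA B hB
  have hpath := hE A hA B hB
  clear hB
  induction hpath with
  | refl => exact Relation.ReflTransGen.refl
  | tail _ hstep ih =>
    exact ih.tail ⟨hstep.1, hstep.2.1, hstep.2.2.1.2.1.symm, hstep.2.2.1.2.2⟩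

end Cfsg.Agent.S5041
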