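import Cfsg.Statements.S5032
import Cfsg.Agent.H26.RootSub9

set_option autoImplicit false
open Cfsg

namespace Cfsg.Agent.S5032

/-- Let S be a set of abstract root subgroups of G with more than one member. Then the graph of rank one pairs on S is connected if and only if S is a single conjugacy class of G and some member of S has a rank one partner in S. -/
theorem result {G : Type*} [Group G] {S : Set (Subgroup G)} (hS : Cfsg.IsRootSubgroupSet S) (h2 : ∃ A ∈ S, ∃ B ∈ S, A ≠ B) :
    Cfsg.IsConnectedFamily (Cfsg.FAdj S) S ↔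
      (Cfsg.IsConjClassOfSubgroups S ∧ ∃ A ∈ S, ¬ Cfsg.IsIsolatedIn (Cfsg.FAdj S) S A) := by
  constructor
  · intro hc
    obtain ⟨A, hA, B, hB, hAB⟩ := h2
    refine ⟨⟨⟨A, hA⟩, ?_⟩, A, hA, ?_⟩
    · intro A' hA' B' hB'
      have hpath := hc A' hA' B' hB'
      clear hA' hB'
      induction hpath with
      | refl => exact ⟨1, (Cfsg.Agent.H26.conjBy_one' _).symm⟩
      | tail _ hstep ih =>
        obtain ⟨g, hg⟩ := ih
        obtain ⟨g', hg'⟩ := Cfsg.Agent.H26.rankOnePair_exists_conj hstep.2.2
        refine ⟨g' * g, ?_⟩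
        rw [hg', hg, Cfsg.Agent.H26.conjBy_conjBy]
    · intro hiso
      rcases Relation.ReflTransGen.cases_head (hc A hA B hB) with h1 | ⟨C, hAC, _⟩
      · exact hAB h1
      · exact (hiso.2 C).1 hAC
  · rintro ⟨hcl, A, hA, hiso⟩
    exact Cfsg.Agent.H26.connected_of_class hS hcl hA
      (Cfsg.Agent.H26.nonIso_of_not_isolated hA hiso)

end Cfsg.Agent.S5032
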