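import Cfsg.Statements.S5034
import Cfsg.Agent.H26.RootSub17

set_option autoImplicit false
open Cfsg

namespace Cfsg.Agent.S5034

/-- Let S be a non-degenerate class of abstract root subgroups of G, A ∈ S and B a rank one partner of A. Then some line partner C of A has ⁅B, C⁆ ∈ S, and the rank one pair A, B is special. -/
theorem result {G : Type*} [Group G] {S : Set (Subgroup G)} (hS : Cfsg.IsRootSubgroupClass S) (hnd : Cfsg.IsNondegenerateRootSet S)
    {A B : Subgroup G} (hA : A ∈ S) (hB : B ∈ Cfsg.rankOnePartners S A) :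
    (∃ C ∈ Cfsg.linePartners S A, C ∈ Cfsg.commutatorPartners S B) ∧ Cfsg.IsSpecialRankOnePair A B := by
  open Cfsg.Agent.H26 in
  have hN : NonIso S A := ⟨B, hB.1, hB.2⟩
  open Cfsg.Agent.H26 in
  have hall : ∀ A' ∈ S, NonIso S A' := by
    intro A' hA'
    obtain ⟨g, rfl⟩ := hS.2.2 A hA A' hA'
    exact nonIso_conjBy hS.1 hN g
  obtain ⟨A₀, hA₀, B₀, hB₀, h₀⟩ := hnd.2.2
  obtain ⟨g, rfl⟩ := hS.2.2 A₀ hA₀ A hA
  open Cfsg.Agent.H26 in
  have hAE := rcc_conjBy hS.1 h₀ g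
  open Cfsg.Agent.H26 in
  obtain ⟨P, hPL, hPB⟩ := exists_line_comm_partner hS.1 hA (hS.1.conj_mem B₀ hB₀ g) hB.1 hAE hB.2
  refine ⟨⟨P, hPL, hPL.1.1, ?_⟩, ?_⟩
  · rw [Subgroup.commutator_comm]; exact hPB.1
  · open Cfsg.Agent.H26 in
    exact special_of_comm_partner hS.1 hall hA hB.1 hPL.1.1 (comm_of_bot hPL.1.2.2) hB.2 hPB

end Cfsg.Agent.S5034
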