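import Cfsg.Statements.S2426
import Mathlib
import Cfsg.Agent.Lib.Helper20.SteinSL2c

set_option autoImplicit false
open Cfsg

namespace Cfsg.Agent.S2426

open Matrix Cfsg.Agent.Lib.Helper3.SL2 Cfsg.Agent.Lib.Helper20.Stein

section mat
variable {K : Type*} [Field K]

theorem lower_add (a b : K) : lower (a + b) = lower a * lower b := by
  obtain ⟨h00, h01, h10, h11⟩ := mul_entries (lower a) (lower b)
  apply ext2
  · rw [h00]; simp
  · rw [h01]; simp
  · rw [h10]; simp
  · rw [h11]; simp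

theorem upper_rel (t u : K) (ht : t ≠ 0) :
    (upper t * lower (-t⁻¹) * upper t) * upper u * (upper t * lower (-t⁻¹) * upper t)⁻¹ *
      (lower (-(t⁻¹ ^ 2 * u)))⁻¹ = 1 := by
  rw [mul_inv_eq_one, mul_inv_eq_iff_eq_mul]
  apply Subtype.ext
  simp only [Matrix.SpecialLinearGroup.coe_mul]
  show (!![1, t; 0, 1] * !![1, 0; -t⁻¹, 1] * !![1, t; 0, 1] * !![1, u; 0, 1] :
      Matrix (Fin 2) (Fin 2) K) =
    !![1, 0; -(t⁻¹ ^ 2 * u), 1] * (!![1, t; 0, 1] * !![1, 0; -t⁻¹, 1] * !![1, t; 0, 1])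
  simp only [Matrix.mul_fin_two]
  ext i j
  fin_cases i <;> fin_cases j <;> simp [ht] <;> field_simp <;> ring

theorem lower_rel (t u : K) (ht : t ≠ 0) :
    (lower t * upper (-t⁻¹) * lower t) * lower u * (lower t * upper (-t⁻¹) * lower t)⁻¹ *
      (upper (-(t⁻¹ ^ 2 * u)))⁻¹ = 1 := by
  rw [mul_inv_eq_one, mul_inv_eq_iff_eq_mul]
  apply Subtype.ext
  simp only [Matrix.SpecialLinearGroup.coe_mul]
  show (!![1, 0; t, 1] * !![1, -t⁻¹; 0, 1] * !![1, 0; t, 1] * !![1, 0; u, 1] :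
      Matrix (Fin 2) (Fin 2) K) =
    !![1, -(t⁻¹ ^ 2 * u); 0, 1] * (!![1, 0; t, 1] * !![1, -t⁻¹; 0, 1] * !![1, 0; t, 1])
  simp only [Matrix.mul_fin_two]
  ext i j
  fin_cases i <;> fin_cases j <;> simp [ht] <;> field_simp <;> ring

end mat

/-- the images of the generators -/
def fgen {K : Type*} [Field K] (p : Bool × K) : Matrix.SpecialLinearGroup (Fin 2) K :=
  cond p.1 (upper p.2) (lower p.2)

theorem main {K : Type*} [Field K] [Finite K] (rels : Set (FreeGroup (Bool × K)))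
    (h1 : ∀ (b : Bool) (t u : K),
      FreeGroup.of (b, t) * FreeGroup.of (b, u) * (FreeGroup.of (b, t + u))⁻¹ ∈ rels)
    (h2 : ∀ (b : Bool) (t u : K), t ≠ 0 →
      (FreeGroup.of (b, t) * FreeGroup.of (!b, -t⁻¹) * FreeGroup.of (b, t)) * FreeGroup.of (b, u) *
        (FreeGroup.of (b, t) * FreeGroup.of (!b, -t⁻¹) * FreeGroup.of (b, t))⁻¹ *
        (FreeGroup.of (!b, -(t⁻¹ ^ 2 * u)))⁻¹ ∈ rels)
    (h3 : ∀ r ∈ rels, FreeGroup.lift (fgen (K := K)) r = 1) :
    ∃ e : PresentedGroup rels ≃* Matrix.SpecialLinearGroup (Fin 2) K,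
      (∀ t : K, ((e (PresentedGroup.of (true, t)) : Matrix (Fin 2) (Fin 2) K)) = !![1, t; 0, 1]) ∧
      (∀ t : K, ((e (PresentedGroup.of (false, t)) : Matrix (Fin 2) (Fin 2) K)) = !![1, 0; t, 1]) := by
  let g : Bool → K → PresentedGroup rels := fun b t => PresentedGroup.of (b, t)
  have S : IsStein g := by
    constructor
    · intro b t u
      have h := PresentedGroup.one_of_mem (h1 b t u)
      rw [map_mul, map_mul, map_inv, mul_inv_eq_one] at h
      exact h
    · intro b t u ht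
      have h := PresentedGroup.one_of_mem (h2 b t u ht)
      rw [map_mul, map_mul, map_mul, map_mul, map_mul, map_inv, map_inv, map_mul, map_mul,
        mul_inv_eq_one] at h
      exact h
  let φ : PresentedGroup rels →* Matrix.SpecialLinearGroup (Fin 2) K := PresentedGroup.toGroup h3
  have hφx : ∀ t, φ (g true t) = upper t := fun t => PresentedGroup.toGroup.of h3
  have hφy : ∀ t, φ (g false t) = lower t := fun t => PresentedGroup.toGroup.of h3
  have hgen : Subgroup.closure (Set.range fun p : Bool × K => g p.1 p.2) = ⊤ :=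
    PresentedGroup.closure_range_of rels
  have hbij := bijective_of_stein S hφx hφy hgen
  refine ⟨MulEquiv.ofBijective φ hbij, ?_, ?_⟩
  · intro t
    show ((φ (g true t) : Matrix.SpecialLinearGroup (Fin 2) K) : Matrix (Fin 2) (Fin 2) K) = _
    rw [hφx]; rfl
  · intro t
    show ((φ (g false t) : Matrix.SpecialLinearGroup (Fin 2) K) : Matrix (Fin 2) (Fin 2) K) = _
    rw [hφy]; rfl

/-- The rank-one Steinberg presentation of `SL₂` over a finite field `K`: generators `x(t)`, `y(t)` (`t ∈ K`; the two opposite root subgroups) subject to additivity `x(t)x(u) = x(t+u)`, `y(t)y(u) = y(t+u)` and, with `w(t) = x(t) y(−t⁻¹) x(t)` and `w'(t) = y(t) x(−t⁻¹) y(t)` for `t ≠ 0`, the relations `w(t) x(u) w(t)⁻¹ = y(−t⁻² u)` and `w'(t) y(u) w'(t)⁻¹ = x(−t⁻² u)`, present `SL₂(K)`, with `x(t) ↦ (1 t; 0 1)` and `y(t) ↦ (1 0; t 1)`. -/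
theorem result {K : Type*} [Field K] [Finite K] :
    ∃ e : PresentedGroup
        ({g : FreeGroup (Bool × K) | ∃ (b : Bool) (t u : K), g = FreeGroup.of (b, t) * FreeGroup.of (b, u) * (FreeGroup.of (b, t + u))⁻¹} ∪
          {g | ∃ (b : Bool) (t u : K), t ≠ 0 ∧
            g = (FreeGroup.of (b, t) * FreeGroup.of (!b, -t⁻¹) * FreeGroup.of (b, t)) * FreeGroup.of (b, u) *
                  (FreeGroup.of (b, t) * FreeGroup.of (!b, -t⁻¹) * FreeGroup.of (b, t))⁻¹ * (FreeGroup.of (!b, -(t⁻¹ ^ 2 * u)))⁻¹})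
        ≃* Matrix.SpecialLinearGroup (Fin 2) K,
      (∀ t : K, ((e (PresentedGroup.of (true, t)) : Matrix (Fin 2) (Fin 2) K)) = !![1, t; 0, 1]) ∧
      (∀ t : K, ((e (PresentedGroup.of (false, t)) : Matrix (Fin 2) (Fin 2) K)) = !![1, 0; t, 1]) := by
  apply main
  · intro b t u
    exact Or.inl ⟨b, t, u, rfl⟩
  · intro b t u ht
    exact Or.inr ⟨b, t, u, ht, rfl⟩
  · rintro r (⟨b, t, u, rfl⟩ | ⟨b, t, u, ht, rfl⟩)
    · simp only [map_mul, map_inv, FreeGroup.lift_apply_of]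
      cases b
      · show lower t * lower u * (lower (t + u))⁻¹ = 1
        rw [lower_add, mul_inv_cancel]
      · show upper t * upper u * (upper (t + u))⁻¹ = 1
        rw [upper_add, mul_inv_cancel]
    · simp only [map_mul, map_inv, FreeGroup.lift_apply_of]
      cases b
      · exact lower_rel t u ht
      · exact upper_rel t u ht

end Cfsg.Agent.S2426
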