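import Cfsg.Statements.S5017
import Cfsg.Agent.H26.RankOneGroup

set_option autoImplicit false
open Cfsg

namespace Cfsg.Agent.S5017

open Cfsg.Agent.H26
open scoped Pointwise

/-- Let X be a rank one group with unipotent subgroups A and B and N a normal subgroup of X. Then either X = N A or N lies in the centre of X. Consequently a perfect rank one group is quasisimple. -/
theorem result {X : Type*} [Group X] {A B : Subgroup X} (h : Cfsg.IsRankOneGroup X A B) :
    (∀ N : Subgroup X, N.Normal → N ⊔ A = ⊤ ∨ N ≤ Subgroup.center X) ∧
    (Group.IsPerfect X → Cfsg.IsQuasisimple X) := by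
  refine ⟨fun N hN => RankOneGroup.normal_dichotomy h N hN, fun hperf => ⟨hperf, ?_⟩⟩
  have : Nontrivial (X ⧸ Subgroup.center X) := by
    by_contra hnt
    rw [not_nontrivial_iff_subsingleton] at hnt
    exact RankOneGroup.center_ne_top h (QuotientGroup.subgroup_eq_top_of_subsingleton _ hnt)
  refine ⟨fun H hH => ?_⟩
  have hsurj : Function.Surjective (QuotientGroup.mk' (Subgroup.center X)) := QuotientGroup.mk'_surjective _
  set N := H.comap (QuotientGroup.mk' (Subgroup.center X)) with hNdef
  have hN : N.Normal := hH.comap _
  have hHN : H = N.map (QuotientGroup.mk' (Subgroup.center X)) :=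
    (Subgroup.map_comap_eq_self_of_surjective hsurj H).symm
  rcases RankOneGroup.normal_dichotomy h N hN with hNA | hNZ
  · right
    -- X ⧸ N is perfect and nilpotent, hence trivial
    have hnilA : Group.IsNilpotent A := h.2.nilpotent_left
    have hsub : Subsingleton (X ⧸ N) := by
      by_contra hns
      rw [not_subsingleton_iff_nontrivial] at hns
      have hperfQ : Group.IsPerfect (X ⧸ N) := inferInstance
      have hnilQ : Group.IsNilpotent (X ⧸ N) := by
        apply Group.nilpotent_of_surjective ((QuotientGroup.mk' N).comp A.subtype)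
        intro q
        obtain ⟨x, rfl⟩ := QuotientGroup.mk'_surjective N q
        have hx : x ∈ N ⊔ A := hNA ▸ Subgroup.mem_top x
        have hx' : x ∈ (N : Set X) * (A : Set X) := by
          rw [← Subgroup.normal_mul]; exact hx
        obtain ⟨n, hn, a, ha, rfl⟩ := hx'
        refine ⟨⟨a, ha⟩, ?_⟩
        simp only [MonoidHom.coe_comp, Function.comp_apply, Subgroup.coe_subtype, QuotientGroup.mk'_apply]
        rw [QuotientGroup.eq]
        have : a⁻¹ * (n * a) ∈ N := by
          have := hN.conj_mem n hn a⁻¹
          simpa [mul_assoc] using this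
        exact this
      exact Group.IsPerfect.not_isNilpotent (X ⧸ N) hnilQ
    have hNtop : N = ⊤ := QuotientGroup.subgroup_eq_top_of_subsingleton N hsub
    rw [hHN, hNtop, ← MonoidHom.range_eq_map, MonoidHom.range_eq_top]
    exact hsurj
  · left
    rw [hHN, eq_bot_iff]
    rintro _ ⟨n, hn, rfl⟩
    rw [Subgroup.mem_bot, QuotientGroup.mk'_apply, QuotientGroup.eq_one_iff]
    exact hNZ hn

end Cfsg.Agent.S5017
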