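import Mathlib
import Cfsg.Statements.S0958
import Cfsg.Agent.Lib.Helper7.BrauerIdem
import Cfsg.Agent.S0917
import Cfsg.Agent.S0912

set_option autoImplicit false
open Cfsg

namespace Cfsg.Agent.S0958

open Cfsg.Agent.Lib.Helper7 Cfsg.Agent.Lib.Helper24 Cfsg.Agent.Lib.Helper13

/-- Let P be a p-subgroup of the finite group G and H a subgroup with P ⊔ C_G(P) ≤ H ≤ N_G(P); fix a maximal ideal M of the algebraic integers containing p. Then a block B of G is induced by some block of H if and only if some conjugate of P is contained in a defect group of B. -/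
theorem result {G : Type*} [Group G] [Finite G] (p : ℕ) [Fact p.Prime] (M : Ideal Cfsg.AlgInt) (hM : Cfsg.IsPModular p M) (P H : Subgroup G) (hP : IsPGroup p P) (hPH : P ⊔ Subgroup.centralizer (P : Set G) ≤ H) (hHN : H ≤ Subgroup.normalizer (P : Set G)) (B : Set (Cfsg.IrrCharacter G)) (hB : Cfsg.IsPBlock M B) : (∃ b : Set (Cfsg.IrrCharacter H), Cfsg.IsInducedBlock M H b B) ↔ ∃ D : Subgroup G, Cfsg.IsDefectGroup p M B D ∧ ∃ x : G, P.map (MulAut.conj x).toMonoidHom ≤ D := by
  classical
  letI : Fintype G := Fintype.ofFinite G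
  letI : Fintype H := Fintype.ofFinite H
  have hPH' : P ≤ H := le_sup_left.trans hPH
  have hCH : Subgroup.centralizer (P : Set G) ≤ H := le_sup_right.trans hPH
  constructor
  · rintro ⟨b, hind⟩
    obtain ⟨Db, hDb⟩ := exists_isDefectGroup hM b hind.1
    obtain ⟨E, hE, hle⟩ := Cfsg.Agent.S0917.result p M hM H b hind.1 B hB hind Db hDb
    refine ⟨E, hE, 1, ?_⟩
    have hcore := Cfsg.Agent.S0912.result p M hM b hind.1 Db hDb
    haveI : (P.subgroupOf H).Normal := Subgroup.normal_subgroupOf_of_le_normalizer hHN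
    have hQ : IsPGroup p (P.subgroupOf H) :=
      hP.comap_of_injective H.subtype H.subtype_injective
    have h1 : P.subgroupOf H ≤ Db := (le_pCore _ inferInstance hQ).trans hcore
    rintro _ ⟨u, hu, rfl⟩
    apply hle
    refine ⟨⟨u, hPH' hu⟩, h1 ?_, by simp⟩
    rw [Subgroup.mem_subgroupOf]; exact hu
  · rintro ⟨D, ⟨g₀, hg₀, Q, rfl⟩, x, hx⟩
    apply exists_isInducedBlock_of_le hM H P hP hPH' hCH hHN B hB (x⁻¹ * g₀ * x)
    · rw [Subgroup.mem_centralizer_iff]
      intro u hu
      have h1 : x * u * x⁻¹ ∈ (Q : Subgroup (Subgroup.centralizer ({g₀} : Set G))).map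
          (Subgroup.centralizer ({g₀} : Set G)).subtype := hx ⟨u, hu, by simp⟩
      obtain ⟨v, _, hv⟩ := h1
      have hv2 := v.2
      rw [Subgroup.mem_centralizer_singleton_iff] at hv2
      have hv3 : (v : G) = x * u * x⁻¹ := hv
      rw [hv3] at hv2
      calc u * (x⁻¹ * g₀ * x) = x⁻¹ * (x * u * x⁻¹ * g₀) * x := by group
        _ = x⁻¹ * (g₀ * (x * u * x⁻¹)) * x := by rw [hv2]
        _ = x⁻¹ * g₀ * x * u := by group
    · have : Cfsg.blockCoeff B (x⁻¹ * g₀ * x) = Cfsg.blockCoeff B g₀ := by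
        have := blockCoeff_isClassFunction B g₀ x⁻¹
        simpa using this
      rw [this]
      exact hg₀.2.1

end Cfsg.Agent.S0958
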