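import Cfsg.Statements.S1080
import Cfsg.Agent.Lib.Helper8.ChevA

set_option autoImplicit false
open Cfsg

namespace Cfsg.Agent.S1080

open Cfsg.Agent.Lib.Helper8.Chev Matrix

/-- the automorphism of `GL` induced by a field automorphism -/
noncomputable def glEquiv {F : Type*} [Field F] {n : Type*} [Fintype n] [DecidableEq n] (f : F ≃+* F) :
    GL n F ≃* GL n F where
  toFun := Matrix.GeneralLinearGroup.map (f : F →+* F)
  invFun := Matrix.GeneralLinearGroup.map (f.symm : F →+* F)
  left_inv g := by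
    apply Units.ext
    ext i j
    simp [Matrix.GeneralLinearGroup.map_apply]
  right_inv g := by
    apply Units.ext
    ext i j
    simp [Matrix.GeneralLinearGroup.map_apply]
  map_mul' g h := map_mul _ g h

theorem glEquiv_coe {F : Type*} [Field F] {n : Type*} [Fintype n] [DecidableEq n] (f : F ≃+* F)
    (g : GL n F) : ((glEquiv f g : GL n F) : Matrix n n F) = (g : Matrix n n F).map f := by
  ext i j
  simp [glEquiv, Matrix.GeneralLinearGroup.map_apply]

theorem map_group_le {F : Type*} [Field F] (D : Cfsg.Lie.ChevalleyDatum) (f : F ≃+* F) :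
    (D.group F).map (glEquiv f).toMonoidHom ≤ D.group F := by
  rw [Subgroup.map_le_iff_le_comap]
  unfold Cfsg.Lie.ChevalleyDatum.group
  rw [Subgroup.closure_le]
  rintro g ⟨r, t, hg⟩
  rw [SetLike.mem_coe, Subgroup.mem_comap]
  apply Subgroup.subset_closure
  refine ⟨r, f t, ?_⟩
  show ((glEquiv f g : GL D.Idx F) : Matrix D.Idx D.Idx F) = _
  rw [glEquiv_coe, hg, xMat_eq_xR, xMat_eq_xR]
  exact map_xR D (f : F →+* F) r t

/-- Every automorphism f of the field induces an automorphism of each Chevalley group of type G₂, B₂, D₄, F₄, E₆, E₇ or E₈ sending x_r(t) to x_r(f(t)). -/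
theorem result {F : Type*} [Field F] (D : Cfsg.Lie.ChevalleyDatum) (hD : D ∈ [Cfsg.Lie.chevG2, Cfsg.Lie.chevB2, Cfsg.Lie.chevD4, Cfsg.Lie.chevF4, Cfsg.Lie.chevE6, Cfsg.Lie.chevE7, Cfsg.Lie.chevE8]) (f : F ≃+* F) :
    ∃ α : ↥(D.group F) ≃* ↥(D.group F), ∀ (g : ↥(D.group F)) (r : ℕ) (t : F), r < D.nroots →
      ((g : GL D.Idx F) : Matrix D.Idx D.Idx F) = D.x F r t → ((α g : GL D.Idx F) : Matrix D.Idx D.Idx F) = D.x F r (f t) := by
  have hmap : (D.group F).map (glEquiv f).toMonoidHom = D.group F := by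
    apply le_antisymm (map_group_le D f)
    intro g hg
    rw [Subgroup.mem_map]
    refine ⟨(glEquiv f).symm g, ?_, by simp⟩
    have := map_group_le D f.symm (Subgroup.mem_map_of_mem _ hg)
    exact this
  refine ⟨((glEquiv f).subgroupMap (D.group F)).trans (MulEquiv.subgroupCongr hmap), ?_⟩
  intro g r t hr hg
  show ((glEquiv f (g : GL D.Idx F) : GL D.Idx F) : Matrix D.Idx D.Idx F) = _
  rw [glEquiv_coe, hg, x_eq_xN, x_eq_xN]
  exact map_xN D (f : F →+* F) r t

end Cfsg.Agent.S1080
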