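import Cfsg.Statements.S2326
import Cfsg.Agent.Lib.Helper8.ChevSyl1
import Cfsg.Agent.S1035

set_option autoImplicit false
open Cfsg

namespace Cfsg.Agent.S2326

open Cfsg.Lie Matrix Cfsg.Agent.Lib.Helper8.Chev

theorem card_diag_dvd {F : Type*} [Field F] [Fintype F] (D : ChevalleyDatum)
    (hD : D ∈ [chevG2, chevB2, chevD4, chevF4, chevE6, chevE7, chevE8]) :
    Nat.card ↥(D.diagonalSubgroup F) ∣ (Fintype.card F - 1) ^ D.rank := by
  simp only [List.mem_cons, List.not_mem_nil, or_false] at hD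
  rcases hD with rfl | rfl | rfl | rfl | rfl | rfl | rfl
  · exact Dvd.intro_left _ (Cfsg.Agent.S1035.result (F := F) rfl (chevG2, 1) (.head _))
  · exact Dvd.intro_left _ (Cfsg.Agent.S1035.result (F := F) rfl
      (chevB2, Nat.gcd 2 (Fintype.card F - 1))
      (.tail _ (.tail _ (.tail _ (.tail _ (.tail _ (.head _)))))))
  · exact Dvd.intro_left _ (Cfsg.Agent.S1035.result (F := F) rfl
      (chevD4, Nat.gcd 2 (Fintype.card F - 1) ^ 2)
      (.tail _ (.tail _ (.tail _ (.tail _ (.tail _ (.tail _ (.head _))))))))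
  · exact Dvd.intro_left _ (Cfsg.Agent.S1035.result (F := F) rfl (chevF4, 1) (.tail _ (.head _)))
  · exact Dvd.intro_left _ (Cfsg.Agent.S1035.result (F := F) rfl
      (chevE6, Nat.gcd 3 (Fintype.card F - 1)) (.tail _ (.tail _ (.tail _ (.head _)))))
  · exact Dvd.intro_left _ (Cfsg.Agent.S1035.result (F := F) rfl
      (chevE7, Nat.gcd 2 (Fintype.card F - 1)) (.tail _ (.tail _ (.tail _ (.tail _ (.head _))))))
  · exact Dvd.intro_left _ (Cfsg.Agent.S1035.result (F := F) rfl (chevE8, 1)
      (.tail _ (.tail _ (.head _))))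

/-- In a Chevalley group of type G₂, B₂, D₄, F₄, E₆, E₇ or E₈ over a finite field of characteristic p, the subgroup U generated by the positive root elements is a Sylow p-subgroup. -/
theorem result {F : Type*} [Field F] [Fintype F] (p : ℕ) [Fact p.Prime] [CharP F p] (D : Cfsg.Lie.ChevalleyDatum) (hD : D ∈ [Cfsg.Lie.chevG2, Cfsg.Lie.chevB2, Cfsg.Lie.chevD4, Cfsg.Lie.chevF4, Cfsg.Lie.chevE6, Cfsg.Lie.chevE7, Cfsg.Lie.chevE8]) :
    ∃ P : Sylow p ↥(D.group F), (P : Subgroup ↥(D.group F)) = (D.posUnipotent F).subgroupOf (D.group F) := by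
  classical
  have hp : p.Prime := Fact.out
  obtain ⟨n, -, hq⟩ := FiniteField.card F p
  have hpq : p ∣ Fintype.card F := by
    rw [hq]
    exact dvd_pow_self p n.pos.ne'
  have hq1 : 1 ≤ Fintype.card F := Fintype.card_pos
  -- the order of the group
  have hG := card_group_bruhat (F := F) hD
  set S := ∑ w ∈ Finset.univ.filter (fun w => w ∈ WD hD), Fintype.card F ^ lenD D w with hS
  have hSmod : S % p = 1 % p := poincare_sum_mod hD (Fintype.card F) p hpq
  have hS0 : ¬ p ∣ S := by
    intro h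
    rw [Nat.dvd_iff_mod_eq_zero, hSmod, Nat.mod_eq_of_lt hp.one_lt] at h
    exact one_ne_zero h
  have hH0 : ¬ p ∣ Nat.card ↥(D.diagonalSubgroup F) := by
    intro h
    have h1 : p ∣ (Fintype.card F - 1) ^ D.rank := h.trans (card_diag_dvd D hD)
    have h2 : p ∣ Fintype.card F - 1 := hp.dvd_of_dvd_pow h1
    have h3 : p ∣ Fintype.card F - (Fintype.card F - 1) := Nat.dvd_sub hpq h2
    have h4 : Fintype.card F - (Fintype.card F - 1) = 1 := by omega
    rw [h4] at h3
    exact hp.one_lt.ne' (Nat.dvd_one.mp h3)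
  have hHS0 : ¬ p ∣ Nat.card ↥(D.diagonalSubgroup F) * S := by
    intro h
    rcases hp.dvd_mul.mp h with h | h
    · exact hH0 h
    · exact hS0 h
  have hHSne : Nat.card ↥(D.diagonalSubgroup F) * S ≠ 0 := by
    intro h
    rw [h] at hHS0
    exact hHS0 (dvd_zero p)
  have hfac : (Nat.card ↥(D.group F)).factorization p = (n : ℕ) * (D.nroots / 2) := by
    rw [hG, mul_assoc, Nat.factorization_mul (pow_ne_zero _ (by omega)) hHSne, hq, ← pow_mul,
      Nat.Prime.factorization_pow hp, Finsupp.add_apply, Finsupp.single_eq_same,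
      Nat.factorization_eq_zero_of_not_dvd hHS0, add_zero]
  have hU : Nat.card ↥((D.posUnipotent F).subgroupOf (D.group F)) =
      p ^ (Nat.card ↥(D.group F)).factorization p := by
    rw [hfac, Nat.card_congr (Subgroup.subgroupOfEquivOfLe (pos_le_group (D := D) (F := F))).toEquiv,
      card_posUnipotent hD, hq, ← pow_mul]
  exact ⟨Sylow.ofCard _ hU, Sylow.coe_ofCard _ hU⟩

end Cfsg.Agent.S2326
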