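import Cfsg.Statements.S4387

set_option autoImplicit false
open Cfsg

namespace Cfsg.Agent.S4387

open scoped Pointwise

/-- A finite group is not the union of the conjugates of a proper subgroup. -/
theorem exists_not_mem_conj {G : Type*} [Group G] [Finite G] (H : Subgroup G) (hH : H ≠ ⊤) :
    ∃ x : G, ∀ g : G, x ∉ MulAut.conj g • H := by
  classical
  by_contra hcon
  push Not at hcon
  have := Fintype.ofFinite G
  have : Fintype (G ⧸ H) := Fintype.ofFinite _
  have : Fintype (MulAction.orbitRel.Quotient G (G ⧸ H)) := Fintype.ofFinite _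
  have hB := MulAction.sum_card_fixedBy_eq_card_orbits_mul_card_group G (G ⧸ H)
  have hΩ : Fintype.card (MulAction.orbitRel.Quotient G (G ⧸ H)) = 1 := by
    rw [Fintype.card_eq_one_iff_nonempty_unique]
    have hs : Subsingleton (MulAction.orbitRel.Quotient G (G ⧸ H)) :=
      (MulAction.pretransitive_iff_subsingleton_quotient G (G ⧸ H)).mp inferInstance
    have hn : Nonempty (MulAction.orbitRel.Quotient G (G ⧸ H)) := ⟨Quotient.mk'' (QuotientGroup.mk 1)⟩
    exact ⟨Unique.mk' _⟩
  rw [hΩ, one_mul] at hB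
  have h1 : ∀ g : G, 1 ≤ Fintype.card (MulAction.fixedBy (G ⧸ H) g) := by
    intro g
    obtain ⟨k, hk⟩ := hcon g
    rw [Subgroup.mem_pointwise_smul_iff_inv_smul_mem] at hk
    apply Fintype.card_pos_iff.mpr
    refine ⟨⟨QuotientGroup.mk k, ?_⟩⟩
    rw [MulAction.mem_fixedBy, MulAction.Quotient.smul_mk, QuotientGroup.eq]
    have := H.inv_mem hk
    simpa [MulAut.smul_def, mul_assoc] using this
  have h2 : 1 < Fintype.card (MulAction.fixedBy (G ⧸ H) (1 : G)) := by
    have hidx : 1 < H.index := by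
      have h0 : H.index ≠ 0 := Subgroup.index_ne_zero_of_finite
      have h1 : H.index ≠ 1 := fun h => hH (Subgroup.index_eq_one.mp h)
      omega
    have : Fintype.card (MulAction.fixedBy (G ⧸ H) (1 : G)) = H.index := by
      rw [Subgroup.index, Nat.card_eq_fintype_card]
      apply Fintype.card_congr
      refine (Equiv.subtypeUnivEquiv ?_)
      intro q
      simp
    rw [this]; exact hidx
  have hlt : ∑ _g : G, 1 < ∑ g : G, Fintype.card (MulAction.fixedBy (G ⧸ H) g) :=
    Finset.sum_lt_sum (fun g _ => h1 g) ⟨1, Finset.mem_univ _, h2⟩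
  simp only [Finset.sum_const, Finset.card_univ, smul_eq_mul, mul_one] at hlt
  omega

/-- Let G be a non-trivial finite group in which any two maximal subgroups are conjugate. Then G is cyclic of prime-power order. -/
theorem result {G : Type*} [Group G] [Finite G] [Nontrivial G]
    (h : ∀ M N : Subgroup G, IsCoatom M → IsCoatom N → ∃ g : G, N = MulAut.conj g • M) :
    IsCyclic G ∧ IsPrimePow (Nat.card G) := by
  obtain ⟨M, hM, -⟩ := (eq_top_or_exists_le_coatom (⊥ : Subgroup G)).resolve_left bot_ne_top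
  obtain ⟨x, hx⟩ := exists_not_mem_conj M hM.1
  -- every proper subgroup lies in a conjugate of M
  have hprop : ∀ K : Subgroup G, K ≠ ⊤ → ∃ g : G, K ≤ MulAut.conj g • M := by
    intro K hK
    obtain ⟨N, hN, hKN⟩ := (eq_top_or_exists_le_coatom K).resolve_left hK
    obtain ⟨g, rfl⟩ := h M N hM hN
    exact ⟨g, hKN⟩
  have hxtop : Subgroup.zpowers x = ⊤ := by
    by_contra hne
    obtain ⟨g, hg⟩ := hprop _ hne
    exact hx g (hg (Subgroup.mem_zpowers x))
  have hcyc : IsCyclic G := ⟨⟨x, fun y => by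
    have : y ∈ Subgroup.zpowers x := by rw [hxtop]; trivial
    exact this⟩⟩
  refine ⟨hcyc, ?_⟩
  have hcomm : ∀ a b : G, a * b = b * a := fun a b => (IsCyclic.isMulCommutative (α := G)).is_comm.comm a b
  have hconj : ∀ g : G, MulAut.conj g • M = M := by
    intro g
    ext y
    rw [Subgroup.mem_pointwise_smul_iff_inv_smul_mem]
    have : (MulAut.conj g)⁻¹ • y = y := by
      simp only [MulAut.smul_def, MulAut.conj_inv_apply]
      rw [hcomm g⁻¹ y]; group
    rw [this]
  have hprop' : ∀ K : Subgroup G, K ≠ ⊤ → K ≤ M := by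
    intro K hK
    obtain ⟨g, hg⟩ := hprop K hK
    rwa [hconj] at hg
  have hord : orderOf x = Nat.card G := by
    rw [← Nat.card_zpowers, hxtop, Subgroup.card_top]
  have hn1 : Nat.card G ≠ 1 := by
    intro h1
    have := Finite.one_lt_card (α := G)
    omega
  rw [isPrimePow_iff_unique_prime_dvd]
  obtain ⟨p, hp, hpn⟩ := Nat.exists_prime_and_dvd hn1
  refine ⟨p, ⟨hp, hpn⟩, ?_⟩
  rintro q ⟨hq, hqn⟩
  by_contra hne
  have hpow : ∀ r : ℕ, r.Prime → r ∣ Nat.card G → x ^ r ∈ M := by
    intro r hr hrn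
    apply hprop' _ _ (Subgroup.mem_zpowers _)
    intro htop
    have hc : Nat.card (Subgroup.zpowers (x ^ r)) = Nat.card G := by rw [htop, Subgroup.card_top]
    rw [Nat.card_zpowers, orderOf_pow' x hr.ne_zero, hord, Nat.gcd_eq_right hrn] at hc
    have hpos : 0 < Nat.card G := Nat.card_pos
    have := Nat.div_lt_self hpos hr.one_lt
    omega
  have hcop : Nat.Coprime q p := (Nat.coprime_primes hq hp).mpr hne
  have hxM : x ∈ M := by
    have hb := Nat.gcd_eq_gcd_ab q p
    rw [hcop] at hb
    have : x = (x ^ q) ^ (Nat.gcdA q p) * (x ^ p) ^ (Nat.gcdB q p) := by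
      rw [← zpow_natCast, ← zpow_natCast, ← zpow_mul, ← zpow_mul, ← zpow_add, ← hb]
      simp
    rw [this]
    exact M.mul_mem (M.zpow_mem (hpow q hq hqn) _) (M.zpow_mem (hpow p hp hpn) _)
  apply hM.1
  rw [eq_top_iff, ← hxtop, Subgroup.zpowers_le]
  exact hxM

end Cfsg.Agent.S4387
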