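import Cfsg.Statements.S0050
import Cfsg.Agent.Lib.Helper1.Coprime

set_option autoImplicit false
open Cfsg

namespace Cfsg.Agent.S0050

open Pointwise in
theorem aux {G : Type*} [Group G] [Finite G] (L : Subgroup G) [L.Normal] (hL : Group.IsSolvable L)
    (H : Subgroup G) (hHL : H ≤ L) (hHall : (Nat.card H).Coprime (H.relIndex L)) :
    L ⊔ Subgroup.normalizer (H : Set G) = ⊤ := by
  rw [eq_top_iff]
  intro g _
  have hH'L : MulAut.conj g • H ≤ L := by
    rw [← Subgroup.Normal.conj_smul_eq_self g L]
    exact Subgroup.pointwise_smul_le_pointwise_smul_iff.mpr hHL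
  have hcardL : Nat.card L = Nat.card H * H.relIndex L :=
    (Cfsg.Agent.Lib.Helper1.card_mul_relIndex_of_le hHL).symm
  have h1 : Nat.card (H.subgroupOf L) = Nat.card H :=
    Nat.card_congr (Subgroup.subgroupOfEquivOfLe hHL).toEquiv
  have h2 : Nat.card ((MulAut.conj g • H).subgroupOf L) = Nat.card H := by
    rw [Nat.card_congr (Subgroup.subgroupOfEquivOfLe hH'L).toEquiv,
      Cfsg.Agent.Lib.Helper1.card_conj_smul]
  obtain ⟨l, hl⟩ := Cfsg.Agent.Lib.Helper1.hall_conj (G := L) _ _ hcardL hHall _ _ h1 h2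
  have hl2 : MulAut.conj (l : G) • H = MulAut.conj g • H :=
    Cfsg.Agent.Lib.Helper1.conj_of_conj_subgroupOf hHL hH'L l hl
  have hn : g⁻¹ * l ∈ Subgroup.normalizer (H : Set G) := by
    rw [← Cfsg.Agent.Lib.Helper1.conj_smul_eq_self_iff_mem_normalizer, map_mul, mul_smul, hl2,
      ← mul_smul, ← map_mul, inv_mul_cancel, map_one, one_smul]
  have : g = (l : G) * (g⁻¹ * l)⁻¹ := by group
  rw [this]
  exact mul_mem (Subgroup.mem_sup_left l.2) (Subgroup.mem_sup_right (inv_mem hn))

/-- Frattini argument for Hall subgroups: if L is a solvable normal subgroup and H a subgroup of L of order coprime to its index in L, then L together with the normaliser of H generates the whole group. -/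
theorem result {G : Type*} [Group G] [Finite G] (L : Subgroup G) [L.Normal] (hL : Group.IsSolvable L)
    (H : Subgroup G) (hHL : H ≤ L) (hHall : (Nat.card H).Coprime (H.relIndex L)) :
    L ⊔ Subgroup.normalizer (H : Set G) = ⊤ := by
  exact aux L hL H hHL hHall

end Cfsg.Agent.S0050
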