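import Cfsg.Statements.S0054
import Mathlib

set_option autoImplicit false
open Cfsg

namespace Cfsg.Agent.S0054

/-- A regular normal subgroup of a finite 2-transitive group is elementary abelian: it is commutative and all its elements have order dividing one prime. -/
theorem result {G : Type*} [Group G] [Finite G]
    {X : Type*} [Nonempty X] [MulAction G X] (h2 : MulAction.IsMultiplyPretransitive G X 2)
    (N : Subgroup G) [N.Normal] (htrans : MulAction.IsPretransitive N X) (hreg : ∀ x : X, MulAction.stabilizer N x = ⊥) :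
    IsMulCommutative N ∧ ∃ p : ℕ, p.Prime ∧ ∀ n ∈ N, n ^ p = 1 := by
  classical
  obtain ⟨x₀⟩ := ‹Nonempty X›
  have hreg : ∀ n ∈ N, n • x₀ = x₀ → n = 1 := by
    intro n hn hx
    have : (⟨n, hn⟩ : N) ∈ MulAction.stabilizer N x₀ := by
      rw [MulAction.mem_stabilizer_iff]; exact hx
    rw [hreg x₀, Subgroup.mem_bot] at this
    exact congrArg Subtype.val this
  rw [MulAction.is_two_pretransitive_iff] at h2
  -- all nonidentity elements of N are conjugate in G
  have hconj : ∀ m ∈ N, ∀ n ∈ N, m ≠ 1 → n ≠ 1 → ∃ g : G, g * m * g⁻¹ = n := by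
    intro m hm n hn hm1 hn1
    have h1 : x₀ ≠ m • x₀ := fun h => hm1 (hreg m hm h.symm)
    have h2' : x₀ ≠ n • x₀ := fun h => hn1 (hreg n hn h.symm)
    obtain ⟨g, hg0, hg1⟩ := h2 h1 h2'
    refine ⟨g, ?_⟩
    have hgi : g⁻¹ • x₀ = x₀ := by
      rw [inv_smul_eq_iff, hg0]
    have h3 : (g * m * g⁻¹) • x₀ = n • x₀ := by
      rw [mul_smul, mul_smul, hgi, hg1]
    have hmem : n⁻¹ * (g * m * g⁻¹) ∈ N :=
      N.mul_mem (N.inv_mem hn) (Subgroup.Normal.conj_mem inferInstance m hm g)
    have h4 : (n⁻¹ * (g * m * g⁻¹)) • x₀ = x₀ := by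
      rw [mul_smul, h3, inv_smul_smul]
    have h5 := hreg _ hmem h4
    have : g * m * g⁻¹ = n * (n⁻¹ * (g * m * g⁻¹)) := by group
    rw [this, h5, mul_one]
  by_cases hN : N = ⊥
  · refine ⟨⟨⟨fun a b => ?_⟩⟩, 2, Nat.prime_two, ?_⟩
    · have ha : a = 1 := Subtype.ext (by
        have := hN.le a.2
        rw [Subgroup.mem_bot] at this
        exact this)
      rw [ha, one_mul, mul_one]
    · intro n hn
      rw [hN, Subgroup.mem_bot] at hn
      rw [hn, one_pow]
  · have hcard : Nat.card N ≠ 1 := by rwa [Ne, Subgroup.card_eq_one]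
    have hp : (Nat.card N).minFac.Prime := Nat.minFac_prime hcard
    have : Fact (Nat.card N).minFac.Prime := ⟨hp⟩
    obtain ⟨n₀, hn₀⟩ := exists_prime_orderOf_dvd_card' (G := N) (Nat.card N).minFac (Nat.minFac_dvd _)
    have hn₀1 : (n₀ : G) ≠ 1 := by
      intro h
      have : n₀ = 1 := Subtype.ext h
      rw [this, orderOf_one] at hn₀
      exact hp.ne_one hn₀.symm
    have hn₀p : (n₀ : G) ^ (Nat.card N).minFac = 1 := by
      have := pow_orderOf_eq_one n₀
      rw [hn₀] at this
      exact congrArg Subtype.val this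
    have hexp : ∀ n ∈ N, n ^ (Nat.card N).minFac = 1 := by
      intro n hn
      by_cases hn1 : n = 1
      · rw [hn1, one_pow]
      · obtain ⟨g, hg⟩ := hconj n₀ n₀.2 n hn hn₀1 hn1
        rw [← hg, conj_pow, hn₀p]; group
    refine ⟨?_, (Nat.card N).minFac, hp, hexp⟩
    have hNp : IsPGroup (Nat.card N).minFac N := by
      intro n
      refine ⟨1, ?_⟩
      rw [pow_one]
      exact Subtype.ext (hexp n n.2)
    have : Nontrivial N := (Subgroup.nontrivial_iff_ne_bot N).mpr hN
    have hcnt := hNp.center_nontrivial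
    obtain ⟨z, hz1⟩ := exists_ne (1 : Subgroup.center N)
    have hzG1 : ((z : N) : G) ≠ 1 := by
      intro h
      apply hz1
      apply Subtype.ext
      apply Subtype.ext
      exact h
    have hcentral : ∀ n ∈ N, ∀ m ∈ N, n * m = m * n := by
      intro n hn m hm
      by_cases hn1 : n = 1
      · rw [hn1, one_mul, mul_one]
      · obtain ⟨g, hg⟩ := hconj ((z : N) : G) (z : N).2 n hn hzG1 hn1
        have hm' : g⁻¹ * m * g ∈ N := by
          have := Subgroup.Normal.conj_mem (inferInstance : N.Normal) m hm g⁻¹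
          simpa using this
        have hz := (Subgroup.mem_center_iff.mp z.2) ⟨g⁻¹ * m * g, hm'⟩
        have hz' : (g⁻¹ * m * g) * ((z : N) : G) = ((z : N) : G) * (g⁻¹ * m * g) :=
          congrArg Subtype.val hz
        rw [← hg]
        calc g * ((z : N) : G) * g⁻¹ * m = g * (((z : N) : G) * (g⁻¹ * m * g)) * g⁻¹ := by group
          _ = g * ((g⁻¹ * m * g) * ((z : N) : G)) * g⁻¹ := by rw [hz']
          _ = m * (g * ((z : N) : G) * g⁻¹) := by group
    exact ⟨⟨fun a b => Subtype.ext (hcentral a a.2 b b.2)⟩⟩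

end Cfsg.Agent.S0054
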