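import Cfsg.Statements.S0073
import Cfsg.Agent.Lib.Lead.AutOrder

set_option autoImplicit false
open Pointwise
open Cfsg

namespace Cfsg.Agent.S0073

/-- a nontrivial Sylow subgroup of a non-abelian simple group has no normal complement -/
lemma no_normal_complement {G : Type*} [Group G] [Finite G] [IsSimpleGroup G]
    (hG : ∃ x y : G, x * y ≠ y * x) {p : ℕ} [Fact p.Prime] (P : Sylow p G) (hp : p ∣ Nat.card G)
    (K : Subgroup G) [hKn : K.Normal] (hK : K.IsComplement' (P : Subgroup G)) : False := by
  rcases hKn.eq_bot_or_eq_top with h | h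
  · -- K = ⊥, so P = ⊤ and G is a p-group, hence has nontrivial centre
    subst h
    have h1 := hK.card_mul_card
    rw [Subgroup.card_bot, one_mul] at h1
    have hPtop : (P : Subgroup G) = ⊤ := (Subgroup.card_eq_iff_eq_top _).1 h1
    have hpG : IsPGroup p G := by
      have := P.isPGroup'
      rw [hPtop] at this
      exact IsPGroup.of_equiv this Subgroup.topEquiv
    haveI : Nontrivial G := IsSimpleGroup.toNontrivial
    have hZ : Nontrivial (Subgroup.center G) := hpG.center_nontrivial
    have hZtop : Subgroup.center G = ⊤ := by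
      rcases (inferInstance : (Subgroup.center G).Normal).eq_bot_or_eq_top with h | h
      · rw [Subgroup.nontrivial_iff_ne_bot] at hZ
        exact absurd h hZ
      · exact h
    obtain ⟨x, y, hxy⟩ := hG
    have : x ∈ Subgroup.center G := hZtop ▸ Subgroup.mem_top x
    rw [Subgroup.mem_center_iff] at this
    exact hxy (this y).symm
  · subst h
    have h1 := hK.card_mul_card
    rw [Subgroup.card_top] at h1
    have hpos : 0 < Nat.card G := Nat.card_pos
    have h2 : Nat.card (P : Subgroup G) = 1 := by
      have : Nat.card G * Nat.card (P : Subgroup G) = Nat.card G * 1 := by rw [h1, mul_one]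
      exact Nat.eq_of_mul_eq_mul_left hpos this
    have h3 : (P : Subgroup G) = ⊥ := Subgroup.card_eq_one.1 h2
    exact P.ne_bot_of_dvd_card hp h3

/-- For a finite non-abelian simple group, either the cube of the least prime divisor of the order divides the order, or 12 does. -/
theorem result {G : Type*} [Group G] [Finite G] [IsSimpleGroup G] (hG : ∃ x y : G, x * y ≠ y * x) : (Nat.card G).minFac ^ 3 ∣ Nat.card G ∨ 12 ∣ Nat.card G := by
  by_contra hcon
  push_neg at hcon
  obtain ⟨hc3, hc12⟩ := hcon
  haveI : Nontrivial G := IsSimpleGroup.toNontrivial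
  have hne1 : Nat.card G ≠ 1 := by
    intro h
    have := (Nat.card_eq_one_iff_unique.1 h).1
    obtain ⟨x, y, hxy⟩ := hG
    exact hxy (Subsingleton.elim _ _)
  set p := (Nat.card G).minFac with hpdef
  have hp : p.Prime := Nat.minFac_prime hne1
  haveI : Fact p.Prime := ⟨hp⟩
  have hpd : p ∣ Nat.card G := Nat.minFac_dvd _
  obtain P : Sylow p G := default
  -- P is not cyclic
  have hncyc : ¬ IsCyclic P := by
    intro hcyc
    have hcomp := IsCyclic.isComplement' (G := G) (p := p) rfl (P := P) hcyc
    exact no_normal_complement hG P hpd _ hcomp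
  -- the order of P
  obtain ⟨k, hk⟩ := P.isPGroup'.exists_card_eq
  have hkd : p ^ k ∣ Nat.card G := hk ▸ Subgroup.card_subgroup_dvd_card (P : Subgroup G)
  have hk3 : k < 3 := by
    by_contra h
    push_neg at h
    exact hc3 ((pow_dvd_pow p h).trans hkd)
  have hk2 : k = 2 := by
    interval_cases k
    · exfalso
      rw [pow_zero] at hk
      exact P.ne_bot_of_dvd_card hpd (Subgroup.card_eq_one.1 hk)
    · exfalso
      rw [pow_one] at hk
      exact hncyc (isCyclic_of_prime_card hk)
    · rfl
  subst hk2
  have hcomm : IsMulCommutative P := ⟨⟨IsPGroup.commutative_of_card_eq_prime_sq hk⟩⟩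
  have hNC : Subgroup.normalizer ((P : Subgroup G) : Set G) ≤ Subgroup.centralizer ((P : Subgroup G) : Set G) := by
    apply Cfsg.Agent.Lib.Lead.normalizer_le_centralizer_of_aut P
    intro r hr hrG hrp φ hφ
    have hpr : p < r := lt_of_le_of_ne (Nat.minFac_le_of_dvd hr.two_le hrG) (Ne.symm hrp)
    obtain ⟨F, hF, hmod⟩ := Cfsg.Agent.Lib.Lead.exists_fixed_subgroup_of_prime_order φ hr hφ
    rw [hk] at hmod
    have hdvd : Nat.card F ∣ p ^ 2 := hk ▸ Subgroup.card_subgroup_dvd_card F
    have hne : Nat.card F ≠ p ^ 2 := by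
      intro h
      exact hF ((Subgroup.card_eq_iff_eq_top F).1 (h.trans hk.symm))
    obtain ⟨j, hj2, hj⟩ := (Nat.dvd_prime_pow hp).1 hdvd
    have hj1 : j ≤ 1 := by
      rcases Nat.lt_or_ge j 2 with h | h
      · omega
      · exfalso; have : j = 2 := le_antisymm hj2 h; subst this; exact hne hj
    have hle : Nat.card F ≤ p ^ 2 := Nat.le_of_dvd (pow_pos hp.pos 2) hdvd
    have hd : r ∣ p ^ 2 - Nat.card F := (Nat.modEq_iff_dvd' hle).1 hmod.symm
    have hp2 : 2 ≤ p := hp.two_le
    -- r divides (p-1)(p+1) or p(p-1)
    have hrdiv : r ∣ p + 1 := by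
      interval_cases j
      · rw [hj, pow_zero] at hd
        have h1 : p ^ 2 - 1 = (p - 1) * (p + 1) := by
          have : (p - 1 + 1) = p := Nat.sub_add_cancel hp.pos
          zify [hp.pos, pow_pos hp.pos 2]
          ring
        rw [h1] at hd
        rcases (Nat.Prime.dvd_mul hr).1 hd with h | h
        · exfalso
          have : r ≤ p - 1 := Nat.le_of_dvd (by omega) h
          omega
        · exact h
      · rw [hj, pow_one] at hd
        have h1 : p ^ 2 - p = p * (p - 1) := by
          zify [hp.pos, Nat.le_self_pow (by norm_num : 2 ≠ 0) p]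
          ring
        rw [h1] at hd
        exfalso
        rcases (Nat.Prime.dvd_mul hr).1 hd with h | h
        · have : r ≤ p := Nat.le_of_dvd hp.pos h
          omega
        · have : r ≤ p - 1 := Nat.le_of_dvd (by omega) h
          omega
    have hreq : r = p + 1 := by
      have : r ≤ p + 1 := Nat.le_of_dvd (by omega) hrdiv
      omega
    -- p and p + 1 both prime: p = 2, r = 3
    have hp2' : p = 2 := by
      rcases hp.eq_two_or_odd with h | h
      · exact h
      · exfalso
        have h2r : 2 ∣ r := by rw [hreq]; omega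
        have : r = 2 := ((Nat.prime_dvd_prime_iff_eq Nat.prime_two hr).1 h2r).symm
        omega
    have hr3 : r = 3 := by omega
    apply hc12
    have h4 : 4 ∣ Nat.card G := by
      have := hkd; rw [hp2'] at this; simpa using this
    have h3 : 3 ∣ Nat.card G := hr3 ▸ hrG
    exact Nat.Coprime.mul_dvd_of_dvd_of_dvd (by norm_num : Nat.Coprime 4 3) h4 h3
  exact no_normal_complement hG P hpd _ (MonoidHom.ker_transferSylow_isComplement' P hNC)

end Cfsg.Agent.S0073
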