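import Cfsg.Statements.S0076

set_option autoImplicit false
open Pointwise
open Cfsg

namespace Cfsg.Agent.S0076

/-- Two P-invariant subsets of a Sylow p-subgroup P that are conjugate in G are conjugate under the normalizer of P. -/
theorem result {G : Type*} [Group G] [Finite G] {p : ℕ} [Fact p.Prime] (P : Sylow p G) (X Y : Set G) (hXP : X ⊆ P) (hYP : Y ⊆ P) (hX : ∀ x ∈ P, (fun y => x * y * x⁻¹) '' X = X) (hY : ∀ x ∈ P, (fun y => x * y * x⁻¹) '' Y = Y) (g : G) (hg : (fun y => g * y * g⁻¹) '' X = Y) : ∃ n ∈ Subgroup.normalizer (P : Set G), (fun y => n * y * n⁻¹) '' X = Y := by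
  classical
  -- the stabiliser of Y under conjugation
  let S : Subgroup G := Subgroup.normalizer Y
  have memS : ∀ h : G, h ∈ S ↔ (fun y => h * y * h⁻¹) '' Y = Y := by
    intro h
    exact Subgroup.mem_normalizer_iff_conj_image_eq
  have hPS : (P : Subgroup G) ≤ S := fun x hx => (memS x).2 (hY x hx)
  -- the conjugate Sylow subgroup g • P also lies in S
  have hQS : ((g • P : Sylow p G) : Subgroup G) ≤ S := by
    intro x hx
    rw [Sylow.coe_subgroup_smul, Subgroup.mem_pointwise_smul_iff_inv_smul_mem] at hx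
    -- g⁻¹ x g ∈ P
    have hx' : g⁻¹ * x * g ∈ (P : Subgroup G) := by
      simpa [MulAut.smul_def, MulAut.conj_apply] using hx
    rw [memS]
    have h1 := hX _ hx'
    -- Y = g X g⁻¹, so x Y x⁻¹ = g (g⁻¹ x g) X (g⁻¹ x g)⁻¹ g⁻¹ = g X g⁻¹ = Y
    rw [← hg, Set.image_image]
    conv_rhs => rw [← h1, Set.image_image]
    apply Set.image_congr
    intro a _
    group
  -- Sylow conjugacy inside S
  obtain ⟨s, hs⟩ := MulAction.exists_smul_eq S ((g • P : Sylow p G).subtype hQS) (P.subtype hPS)
  refine ⟨(s : G) * g, ?_, ?_⟩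
  · -- (s g) normalises P
    rw [Sylow.smul_subtype] at hs
    have h2 : s • (g • P : Sylow p G) = P := Sylow.subtype_injective hs
    have h3 : ((s : G) * g) • P = P := by
      rw [mul_smul]; exact h2
    exact Sylow.smul_eq_iff_mem_normalizer.1 h3
  · have hsS : (s : G) ∈ S := s.2
    rw [memS] at hsS
    rw [← hsS, ← hg, Set.image_image]
    apply Set.image_congr
    intro a _
    simp [mul_assoc]

end Cfsg.Agent.S0076
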