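import Cfsg.Statements.S0081
import Cfsg.Agent.Lib.Lead.Tate
import Cfsg.Agent.Lib.Helper13.Frobenius

set_option autoImplicit false
open Cfsg

namespace Cfsg.Agent.S0081

open Subgroup Cfsg.Agent.Lib.Lead Cfsg.Agent.Lib.Helper17

/-- If a normal subgroup meets a Sylow p-subgroup P inside the Frattini subgroup of P, then it has a normal p-complement. -/
theorem result {G : Type*} [Group G] [Finite G] {p : ℕ} [Fact p.Prime] (P : Sylow p G) (N : Subgroup G) [N.Normal] (h : N ⊓ (P : Subgroup G) ≤ (frattini P).map (P : Subgroup G).subtype) : Cfsg.HasNormalPComplement p N := by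
  have hp : p.Prime := Fact.out
  set H : Subgroup G := N ⊔ (P : Subgroup G) with hH
  have hPH : (P : Subgroup G) ≤ H := le_sup_right
  have hNH : N ≤ H := le_sup_left
  let PH : Sylow p H := P.subtype hPH
  have hPHcoe : (PH : Subgroup H) = (P : Subgroup G).subgroupOf H := Sylow.coe_subtype P hPH
  let NH : Subgroup H := N.subgroupOf H
  have hNHn : NH.Normal := inferInstance
  have hsup : NH ⊔ (PH : Subgroup H) = ⊤ := by
    rw [hPHcoe, ← subgroupOf_sup hNH hPH, subgroupOf_self]
  -- transport of the Frattini hypothesis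
  let e : (P : Subgroup G) ≃* ((P : Subgroup G).subgroupOf H) := (subgroupOfEquivOfLe hPH).symm
  have hfr : NH ⊓ (PH : Subgroup H) ≤
      (frattiniP p (PH : Subgroup H)).map (PH : Subgroup H).subtype := by
    intro x hx
    obtain ⟨hxN, hxP⟩ := hx
    have hxN' : (x : G) ∈ N := mem_subgroupOf.1 hxN
    have hxP' : (x : G) ∈ (P : Subgroup G) := by
      rw [hPHcoe] at hxP
      exact mem_subgroupOf.1 hxP
    obtain ⟨f, hf, hfx⟩ := h ⟨hxN', hxP'⟩
    have hf' : f ∈ frattiniP p (P : Subgroup G) := frattini_le_frattiniP hf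
    have h1 : e f ∈ (frattiniP p (P : Subgroup G)).map e.toMonoidHom := mem_map_of_mem _ hf'
    have h2 := map_frattiniP_le (p := p) e.toMonoidHom h1
    have hex : ((e f : (P : Subgroup G).subgroupOf H) : H) = x := by
      apply Subtype.ext
      have : (((e f : (P : Subgroup G).subgroupOf H) : H) : G) = (f : G) := by
        have h3 : ((subgroupOfEquivOfLe hPH (e f) : (P : Subgroup G)) : G) = (f : G) := by
          rw [(subgroupOfEquivOfLe hPH).apply_symm_apply f]
        exact h3
      rw [this]; exact hfx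
    refine ⟨⟨x, hxP⟩, ?_, rfl⟩
    have : (⟨x, hxP⟩ : (PH : Subgroup H)) = e f := Subtype.ext hex.symm
    rw [this]
    exact h2
  obtain ⟨hKN, hKcop⟩ := tate_sup_eq_top PH NH hsup hfr
  -- the normal `p`-complement
  set KH : Subgroup H := pResidual p H with hKH
  obtain ⟨k, hk⟩ : ∃ k, KH.index = p ^ k := by
    obtain ⟨k, hk⟩ := (quotient_pResidual_isPGroup (G := H) (p := p)).exists_card_eq
    exact ⟨k, by rw [index_eq_card]; exact hk⟩
  let KG : Subgroup G := KH.map H.subtype
  have hKGN : KG ≤ N := by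
    rintro _ ⟨x, hx, rfl⟩
    exact mem_subgroupOf.1 (hKN hx)
  have hKGH : KG ≤ H := map_subtype_le KH
  let M : Subgroup N := KG.subgroupOf N
  have hMn : M.Normal := by
    constructor
    intro m hm n
    rw [mem_subgroupOf] at hm ⊢
    obtain ⟨x, hx, hxm⟩ := hm
    have hnH : (n : G) ∈ H := hNH n.2
    refine ⟨⟨n, hnH⟩ * x * ⟨n, hnH⟩⁻¹, (inferInstance : KH.Normal).conj_mem x hx _, ?_⟩
    simp only [coe_mul, coe_inv, subtype_apply, map_mul, map_inv] at hxm ⊢
    rw [hxm]
  have hMcard : Nat.card M = Nat.card KH := by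
    rw [Nat.card_congr (subgroupOfEquivOfLe hKGN).toEquiv]
    exact (Nat.card_congr (KH.equivMapOfInjective _ H.subtype_injective).toEquiv).symm
  have hMidx : ∃ j, M.index = p ^ j := by
    have h1 : M.index = KG.relIndex N := rfl
    have h2 : KG.relIndex N * N.relIndex H = KG.relIndex H := relIndex_mul_relIndex KG N H hKGN hNH
    have h3 : KG.relIndex H = KH.index := by
      unfold relIndex subgroupOf
      rw [comap_map_eq_self_of_injective H.subtype_injective]
    have h4 : M.index ∣ p ^ k := by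
      rw [h1, ← hk, ← h3, ← h2]; exact dvd_mul_right _ _
    obtain ⟨j, -, hj⟩ := (Nat.dvd_prime_pow hp).1 h4
    exact ⟨j, hj⟩
  obtain ⟨j, hj⟩ := hMidx
  obtain ⟨P'⟩ : Nonempty (Sylow p N) := inferInstance
  exact ⟨P', M, hMn, Cfsg.Agent.Lib.Helper13.isComplement'_sylow_of_coprime_of_index_pow M
    (by rw [hMcard]; exact hKcop) hj P'⟩

end Cfsg.Agent.S0081
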