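import Cfsg.Statements.S0082
import Cfsg.Agent.Lib.Lead.PResidual
import Cfsg.Agent.Lib.Lead.SylowSplit

set_option autoImplicit false
open Pointwise
open Cfsg
open scoped commutatorElement

namespace Cfsg.Agent.S0082

/-- With a cyclic Sylow p-subgroup, either there is a normal p-complement or the elements of order prime to p generate the whole group. -/
theorem result {G : Type*} [Group G] [Finite G] {p : ℕ} [Fact p.Prime] (P : Sylow p G) (hP : IsCyclic P) : Cfsg.HasNormalPComplement p G ∨ Cfsg.pResidual p G = ⊤ := by
  rcases Cfsg.Agent.Lib.Lead.cyclic_sylow_dichotomy P hP with h | h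
  · left
    have hNC : Subgroup.normalizer ((P : Subgroup G) : Set G) ≤ Subgroup.centralizer ((P : Subgroup G) : Set G) := by
      intro n hn x hx
      have h1 : ⁅x, n⁆ ∈ ⁅(P : Subgroup G), Subgroup.normalizer ((P : Subgroup G) : Set G)⁆ :=
        Subgroup.commutator_mem_commutator hx hn
      rw [h, Subgroup.mem_bot, commutatorElement_eq_one_iff_mul_comm] at h1
      exact h1
    exact ⟨P, _, inferInstance, MonoidHom.ker_transferSylow_isComplement' P hNC⟩
  · right
    haveI : IsMulCommutative P := ⟨⟨fun a b => by
      obtain ⟨g, hg⟩ := hP.exists_generator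
      obtain ⟨i, rfl⟩ := hg a
      obtain ⟨j, rfl⟩ := hg b
      exact (Commute.zpow_zpow_self g i j).eq⟩⟩
    have h1 := Cfsg.Agent.Lib.Lead.abelian_sylow_inf_pResidual P
    have hPR : (P : Subgroup G) ≤ Cfsg.pResidual p G := by
      have : (P : Subgroup G) ≤ (P : Subgroup G) ⊓ Cfsg.pResidual p G := by rw [h1]; exact h
      exact this.trans inf_le_right
    have h2 := Cfsg.Agent.Lib.Helper17.sylow_sup_pResidual P
    rwa [sup_of_le_right hPR] at h2

end Cfsg.Agent.S0082
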