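import Cfsg.Statements.S0083

set_option autoImplicit false
open Pointwise
open Cfsg

namespace Cfsg.Agent.S0083

/-- a normal complement of one Sylow p-subgroup is a complement of every Sylow p-subgroup -/
lemma complement_any {G : Type*} [Group G] [Finite G] {p : ℕ} [Fact p.Prime] (P P' : Sylow p G)
    (K : Subgroup G) (hK : K.IsComplement' (P' : Subgroup G)) : K.IsComplement' (P : Subgroup G) := by
  have hcard : Nat.card (P : Subgroup G) = Nat.card (P' : Subgroup G) := by
    rw [P.card_eq_multiplicity, P'.card_eq_multiplicity]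
  have h1 : Nat.card K * Nat.card (P : Subgroup G) = Nat.card G := by
    rw [hcard]; exact hK.card_mul_card
  have hKidx : Nat.card K = (P' : Subgroup G).index := hK.index_eq_card.symm
  have h2 : Nat.Coprime (Nat.card K) (Nat.card (P : Subgroup G)) := by
    rw [hcard, hKidx]
    exact P'.card_coprime_index.symm
  exact Subgroup.isComplement'_of_coprime h1 h2

/-- For an abelian Sylow p-subgroup P, a normal p-complement exists exactly when the normalizer of P is an internal direct product of P with some subgroup. -/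
theorem result {G : Type*} [Group G] [Finite G] {p : ℕ} [Fact p.Prime] (P : Sylow p G) (hP : IsMulCommutative P) : Cfsg.HasNormalPComplement p G ↔ ∃ Q : Subgroup G, Q ≤ Subgroup.centralizer (P : Set G) ∧ Q ⊓ (P : Subgroup G) = ⊥ ∧ Q ⊔ (P : Subgroup G) = Subgroup.normalizer (P : Set G) := by
  constructor
  · rintro ⟨P', K, hKn, hK'⟩
    have hK : K.IsComplement' (P : Subgroup G) := complement_any P P' K hK'
    have hdisj : K ⊓ (P : Subgroup G) = ⊥ := hK.disjoint.eq_bot
    refine ⟨K ⊓ Subgroup.normalizer ((P : Subgroup G) : Set G), ?_, ?_, ?_⟩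
    · rintro q ⟨hqK, hqN⟩ x hx
      -- q x q⁻¹ x⁻¹ ∈ K ⊓ P
      have h1 : q * x * q⁻¹ ∈ (P : Subgroup G) := (Subgroup.mem_normalizer_iff.1 hqN x).1 hx
      have h2 : q * x * q⁻¹ * x⁻¹ ∈ (P : Subgroup G) := mul_mem h1 (inv_mem hx)
      have h3 : q * x * q⁻¹ * x⁻¹ ∈ K := by
        have : q * x * q⁻¹ * x⁻¹ = q * (x * q⁻¹ * x⁻¹) := by group
        rw [this]
        exact mul_mem hqK (hKn.conj_mem _ (inv_mem hqK) x)
      have h4 : q * x * q⁻¹ * x⁻¹ ∈ K ⊓ (P : Subgroup G) := ⟨h3, h2⟩
      rw [hdisj, Subgroup.mem_bot] at h4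
      have : q * x = x * q := by
        calc q * x = (q * x * q⁻¹ * x⁻¹) * (x * q) := by group
          _ = x * q := by rw [h4, one_mul]
      exact this.symm
    · rw [eq_bot_iff, ← hdisj]
      exact inf_le_inf_right _ inf_le_left
    · apply le_antisymm
      · exact sup_le inf_le_right Subgroup.le_normalizer
      · intro n hn
        obtain ⟨⟨k, x⟩, hkx, -⟩ := hK.existsUnique n
        dsimp only at hkx
        have hxN : (x : G) ∈ Subgroup.normalizer ((P : Subgroup G) : Set G) := Subgroup.le_normalizer x.2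
        have hkN : (k : G) ∈ Subgroup.normalizer ((P : Subgroup G) : Set G) := by
          have : (k : G) = n * (x : G)⁻¹ := by rw [← hkx]; group
          rw [this]
          exact mul_mem hn (inv_mem hxN)
        rw [← hkx]
        exact mul_mem (Subgroup.mem_sup_left ⟨k.2, hkN⟩) (Subgroup.mem_sup_right x.2)
  · rintro ⟨Q, hQC, -, hQN⟩
    have hNC : Subgroup.normalizer ((P : Subgroup G) : Set G) ≤ Subgroup.centralizer ((P : Subgroup G) : Set G) := by
      have hQN' : Q ⊔ (P : Subgroup G) = Subgroup.normalizer ((P : Subgroup G) : Set G) := hQN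
      have hQC' : Q ≤ Subgroup.centralizer ((P : Subgroup G) : Set G) := hQC
      rw [← hQN']
      exact sup_le hQC' (Subgroup.le_centralizer (P : Subgroup G))
    exact ⟨P, _, inferInstance, MonoidHom.ker_transferSylow_isComplement' P hNC⟩

end Cfsg.Agent.S0083
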