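import Cfsg.Statements.S0084
import Cfsg.Agent.Lib.Lead.AutOrder

set_option autoImplicit false
open Pointwise
open Cfsg

namespace Cfsg.Agent.S0084

/-- A group whose Sylow 2-subgroups are Klein four-groups and whose order is prime to 3 has a normal 2-complement. -/
theorem result {G : Type*} [Group G] [Finite G] (T : Sylow 2 G) (hT : IsKleinFour T) (h3 : ¬ 3 ∣ Nat.card G) : Cfsg.HasNormalPComplement 2 G := by
  haveI : Fact (Nat.Prime 2) := ⟨Nat.prime_two⟩
  have hcomm : IsMulCommutative T := ⟨⟨fun a b => mul_comm_of_exponent_two hT.exponent_two a b⟩⟩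
  have hcard : Nat.card T = 4 := hT.card_four
  have hNC : Subgroup.normalizer ((T : Subgroup G) : Set G) ≤ Subgroup.centralizer ((T : Subgroup G) : Set G) := by
    apply Cfsg.Agent.Lib.Lead.normalizer_le_centralizer_of_aut T
    intro r hr hrG hr2 φ hφ
    obtain ⟨F, hF, hmod⟩ := Cfsg.Agent.Lib.Lead.exists_fixed_subgroup_of_prime_order φ hr hφ
    rw [hcard] at hmod
    have hdvd : Nat.card F ∣ 4 := hcard ▸ Subgroup.card_subgroup_dvd_card F
    have hne : Nat.card F ≠ 4 := by
      intro h
      exact hF ((Subgroup.card_eq_iff_eq_top F).1 (h.trans hcard.symm))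
    have hle : Nat.card F ≤ 4 := Nat.le_of_dvd (by norm_num) hdvd
    have hpos : 0 < Nat.card F := Nat.card_pos
    have hd : r ∣ 4 - Nat.card F := (Nat.modEq_iff_dvd' hle).1 hmod.symm
    have hcases : Nat.card F = 1 ∨ Nat.card F = 2 := by
      interval_cases (Nat.card F) <;> simp_all
    rcases hcases with h | h
    · rw [h] at hd
      have : r = 3 := (Nat.prime_dvd_prime_iff_eq hr (by norm_num)).1 hd
      exact h3 (this ▸ hrG)
    · rw [h] at hd
      have : r = 2 := (Nat.prime_dvd_prime_iff_eq hr (by norm_num)).1 hd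
      exact hr2 this
  exact ⟨T, _, inferInstance, MonoidHom.ker_transferSylow_isComplement' T hNC⟩

end Cfsg.Agent.S0084
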