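import Cfsg.Statements.S0085
import Cfsg.Agent.Lib.Lead.AutOrder

set_option autoImplicit false
open Pointwise
open Cfsg

namespace Cfsg.Agent.S0085

/-- A group whose Sylow 2-subgroups are elementary abelian of order 8 and whose order is prime to 3 and to 7 has a normal 2-complement. -/
theorem result {G : Type*} [Group G] [Finite G] (T : Sylow 2 G) (h8 : Nat.card T = 8) (he : ∀ x : T, x * x = 1) (h3 : ¬ 3 ∣ Nat.card G) (h7 : ¬ 7 ∣ Nat.card G) : Cfsg.HasNormalPComplement 2 G := by
  haveI : Fact (Nat.Prime 2) := ⟨Nat.prime_two⟩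
  have hcomm : IsMulCommutative T := ⟨⟨fun a b => by
    have hab := he (a * b)
    have ha := he a
    have hb := he b
    calc a * b = (b * b) * (a * b) * (a * a) := by rw [ha, hb, one_mul, mul_one]
      _ = b * ((b * a) * (b * a)) * a := by group
      _ = b * a := by rw [he (b * a), mul_one]⟩⟩
  have hNC : Subgroup.normalizer ((T : Subgroup G) : Set G) ≤ Subgroup.centralizer ((T : Subgroup G) : Set G) := by
    apply Cfsg.Agent.Lib.Lead.normalizer_le_centralizer_of_aut T
    intro r hr hrG hr2 φ hφ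
    obtain ⟨F, hF, hmod⟩ := Cfsg.Agent.Lib.Lead.exists_fixed_subgroup_of_prime_order φ hr hφ
    rw [h8] at hmod
    have hdvd : Nat.card F ∣ 8 := h8 ▸ Subgroup.card_subgroup_dvd_card F
    have hne : Nat.card F ≠ 8 := by
      intro h
      exact hF ((Subgroup.card_eq_iff_eq_top F).1 (h.trans h8.symm))
    have hle : Nat.card F ≤ 8 := Nat.le_of_dvd (by norm_num) hdvd
    have hpos : 0 < Nat.card F := Nat.card_pos
    have hd : r ∣ 8 - Nat.card F := (Nat.modEq_iff_dvd' hle).1 hmod.symm
    have hcases : Nat.card F = 1 ∨ Nat.card F = 2 ∨ Nat.card F = 4 := by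
      interval_cases (Nat.card F) <;> simp_all <;> omega
    rcases hcases with h | h | h
    · rw [h] at hd
      have : r = 7 := (Nat.prime_dvd_prime_iff_eq hr (by norm_num)).1 hd
      exact h7 (this ▸ hrG)
    · rw [h] at hd
      have h6 : r ∣ 2 * 3 := by simpa using hd
      rcases (Nat.Prime.dvd_mul hr).1 h6 with h' | h'
      · exact hr2 ((Nat.prime_dvd_prime_iff_eq hr (by norm_num)).1 h')
      · have : r = 3 := (Nat.prime_dvd_prime_iff_eq hr (by norm_num)).1 h'
        exact h3 (this ▸ hrG)
    · rw [h] at hd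
      have h4 : r ∣ 2 ^ 2 := by simpa using hd
      have := hr.dvd_of_dvd_pow h4
      exact hr2 ((Nat.prime_dvd_prime_iff_eq hr (by norm_num)).1 this)
  exact ⟨T, _, inferInstance, MonoidHom.ker_transferSylow_isComplement' T hNC⟩

end Cfsg.Agent.S0085
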