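import Cfsg.Statements.S0089
import Cfsg.Agent.Lib.Lead.Focal

set_option autoImplicit false
open Pointwise
open Cfsg

namespace Cfsg.Agent.S0089

/-- When all Sylow subgroups are abelian, the derived subgroup meets the centre trivially. -/
theorem result {G : Type*} [Group G] [Finite G] (h : ∀ p : ℕ, p.Prime → ∀ P : Sylow p G, IsMulCommutative P) : commutator G ⊓ Subgroup.center G = ⊥ := by
  rw [eq_bot_iff]
  rintro z ⟨hzG, hzZ⟩
  rw [Subgroup.mem_bot]
  by_contra hz
  -- a prime divisor of the order of z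
  have hord : orderOf z ≠ 1 := fun h1 => hz (orderOf_eq_one_iff.1 h1)
  obtain ⟨p, hp, hpd⟩ := Nat.exists_prime_and_dvd hord
  haveI : Fact p.Prime := ⟨hp⟩
  obtain ⟨k, hk⟩ := hpd
  set w := z ^ k with hw
  have hwo : orderOf w = p := by
    have hpos : 0 < orderOf z := orderOf_pos z
    have hk0 : k ≠ 0 := by
      rintro rfl; rw [Nat.mul_zero] at hk; omega
    rw [hw, orderOf_pow' z hk0, hk, Nat.gcd_mul_left_left, Nat.mul_div_cancel _ (Nat.pos_of_ne_zero hk0)]
  have hwG : w ∈ commutator G := pow_mem hzG k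
  have hwZ : w ∈ Subgroup.center G := pow_mem hzZ k
  -- w lies in a Sylow p-subgroup
  have hpg : IsPGroup p (Subgroup.zpowers w) := by
    rw [IsPGroup.iff_card]
    exact ⟨1, by rw [Nat.card_zpowers, hwo, pow_one]⟩
  obtain ⟨P, hP⟩ := hpg.exists_le_sylow
  have hwP : w ∈ (P : Subgroup G) := hP (Subgroup.mem_zpowers w)
  have := h p hp P
  have hHall : Nat.Coprime (Nat.card (P : Subgroup G)) (P : Subgroup G).index := P.card_coprime_index
  have h1 := Cfsg.Agent.Lib.Lead.eq_one_of_mem_abelianHall_commutator_center (P : Subgroup G) hHall hwP hwG hwZ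
  rw [h1, orderOf_one] at hwo
  exact hp.one_lt.ne hwo

end Cfsg.Agent.S0089
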