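import Cfsg.Statements.S0091

set_option autoImplicit false
open Pointwise
open Cfsg
open scoped commutatorElement

namespace Cfsg.Agent.S0091

/-- If a nontrivial Sylow p-subgroup controls its own fusion then it is not contained in the derived subgroup. -/
theorem result {G : Type*} [Group G] [Finite G] {p : ℕ} [Fact p.Prime] (P : Sylow p G) (hp : p ∣ Nat.card G) (h : ∀ x ∈ P, ∀ y ∈ P, (∃ g : G, g * x * g⁻¹ = y) → ∃ z ∈ P, z * x * z⁻¹ = y) : ¬ (P : Subgroup G) ≤ commutator G := by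
  intro hle
  -- P ⊓ G' = P* ≤ P'
  have h1 : commutator G ⊓ (P : Subgroup G) = (P : Subgroup G).focalSubgroup :=
    Subgroup.commutator_inf_eq_focalSubgroup P
  have h2 : (P : Subgroup G).focalSubgroup ≤ ⁅(P : Subgroup G), (P : Subgroup G)⁆ := by
    rw [Subgroup.focalSubgroup_def, Subgroup.closure_le]
    rintro g ⟨hgP, x, hx, u, rfl⟩
    have hxi : x⁻¹ ∈ (P : Subgroup G) := inv_mem hx
    have hc : u * x⁻¹ * u⁻¹ ∈ (P : Subgroup G) := by
      have : u * x⁻¹ * u⁻¹ = x⁻¹ * ⁅x, u⁆ := by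
        rw [commutatorElement_def]; group
      rw [this]; exact mul_mem hxi hgP
    obtain ⟨z, hz, hz'⟩ := h x⁻¹ hxi (u * x⁻¹ * u⁻¹) hc ⟨u, rfl⟩
    have : ⁅x, u⁆ = ⁅x, z⁆ := by
      rw [commutatorElement_def, commutatorElement_def]
      calc x * u * x⁻¹ * u⁻¹ = x * (u * x⁻¹ * u⁻¹) := by group
        _ = x * (z * x⁻¹ * z⁻¹) := by rw [hz']
        _ = x * z * x⁻¹ * z⁻¹ := by group
    rw [this]
    exact Subgroup.commutator_mem_commutator hx hz
  have h3 : (P : Subgroup G) ≤ ⁅(P : Subgroup G), (P : Subgroup G)⁆ := by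
    have : (P : Subgroup G) ≤ commutator G ⊓ (P : Subgroup G) := le_inf hle le_rfl
    exact (this.trans h1.le).trans h2
  -- but P is a nontrivial nilpotent group, so P' < P
  have hnt : Nontrivial P := by
    have hne : (P : Subgroup G) ≠ ⊥ := P.ne_bot_of_dvd_card hp
    exact (Subgroup.nontrivial_iff_ne_bot _).2 hne
  haveI : Group.IsNilpotent P := P.isPGroup'.isNilpotent
  have h4 : commutator P < ⊤ := IsSolvable.commutator_lt_top_of_nontrivial P
  have h5 : commutator P = ⊤ := by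
    rw [eq_top_iff]
    intro x _
    have hx : (x : G) ∈ ⁅(P : Subgroup G), (P : Subgroup G)⁆ := h3 x.2
    rw [← Subgroup.map_subtype_commutator] at hx
    obtain ⟨w, hw, hwx⟩ := hx
    have : w = x := Subtype.ext hwx
    rwa [← this]
  exact (h5 ▸ h4).ne rfl

end Cfsg.Agent.S0091
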