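import Cfsg.Statements.S0092
import Cfsg.Agent.Lib.Lead.PResidual
import Cfsg.Agent.Lib.Lead.SylowSplit
import Cfsg.Agent.Lib.Helper1.Coprime
import Cfsg.Agent.Lib.Helper13.Frobenius

set_option autoImplicit false
open Cfsg

namespace Cfsg.Agent.S0092

open Subgroup Pointwise Cfsg.Agent.Lib.Helper1 Cfsg.Agent.Lib.Helper17 Cfsg.Agent.Lib.Lead

variable {G : Type*} [Group G] [Finite G] {p : ℕ} [Fact p.Prime]

/-- If `D K = G`, `K` normal of `p`-power index and `D ∩ K` a `p'`-group, then a Sylow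
`p`-subgroup of `D` complements `K`. -/
theorem exists_complement_of_sup_eq_top (K : Subgroup G) [K.Normal] {k : ℕ} (hK : K.index = p ^ k)
    (D : Subgroup G) (hDK : D ⊔ K = ⊤) (hcop : (Nat.card (D ⊓ K : Subgroup G)).Coprime p) :
    ∃ S : Subgroup G, S.IsComplement' K := by
  obtain ⟨S0⟩ : Nonempty (Sylow p D) := inferInstance
  refine ⟨(S0 : Subgroup D).map D.subtype, ?_⟩
  have hcardS : Nat.card ((S0 : Subgroup D).map D.subtype) = Nat.card (S0 : Subgroup D) :=
    (Nat.card_congr ((S0 : Subgroup D).equivMapOfInjective _ D.subtype_injective).toEquiv).symm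
  have hrel : (K.subgroupOf D).index = p ^ k := by
    change K.relIndex D = p ^ k
    rw [← Subgroup.relIndex_sup_right D K, hDK, relIndex_top_right, hK]
  have hcardKD : Nat.card (K.subgroupOf D) = Nat.card (D ⊓ K : Subgroup G) := by
    rw [← inf_subgroupOf_right, inf_comm]
    exact Nat.card_congr (subgroupOfEquivOfLe inf_le_left).toEquiv
  have hcompl := Cfsg.Agent.Lib.Helper13.isComplement'_sylow_of_coprime_of_index_pow
    (K.subgroupOf D) (by rw [hcardKD]; exact hcop) hrel S0
  have hS : Nat.card (S0 : Subgroup D) = p ^ k := by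
    rw [← hrel]; exact hcompl.symm.index_eq_card.symm
  apply isComplement'_of_card_mul_and_disjoint
  · rw [hcardS, hS, ← hK, mul_comm, card_mul_index]
  · rw [disjoint_iff, eq_bot_iff]
    rintro x ⟨hxS, hxK⟩
    obtain ⟨x0, hx0, rfl⟩ := hxS
    have h1 : x0 ∈ K.subgroupOf D ⊓ (S0 : Subgroup D) := ⟨mem_subgroupOf.2 hxK, hx0⟩
    rw [disjoint_iff.1 hcompl.disjoint, mem_bot] at h1
    rw [h1, map_one]
    exact one_mem _

theorem main_aux (K : Subgroup G) [hKn : K.Normal] {k : ℕ} (hK : K.index = p ^ k)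
    (Q : Subgroup G) (hQK : Q ≤ K) (hQp : IsPGroup p Q)
    (hQab : ∀ x ∈ Q, ∀ y ∈ Q, x * y = y * x)
    (hQsyl : ¬ p ∣ Q.relIndex K)
    (hfix : ∀ z ∈ Q, (∀ n ∈ K, n ∈ normalizer (Q : Set G) → n * z = z * n) → z = 1)
    (hfrat : normalizer (Q : Set G) ⊔ K = ⊤) :
    ∃ S : Subgroup G, S.IsComplement' K := by
  have hp : p.Prime := Fact.out
  set N : Subgroup G := K ⊓ normalizer (Q : Set G) with hN
  have hQN : Q ≤ N := le_inf hQK le_normalizer
  have hNnorm : N ≤ normalizer (Q : Set G) := inf_le_right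
  have : (Q.subgroupOf N).Normal := normal_subgroupOf_of_le_normalizer hNnorm
  have hcardQn : Nat.card (Q.subgroupOf N) = Nat.card Q :=
    Nat.card_congr (subgroupOfEquivOfLe hQN).toEquiv
  have hidx : (Q.subgroupOf N).index ∣ Q.relIndex K := by
    change Q.relIndex N ∣ Q.relIndex K
    exact ⟨_, (relIndex_mul_relIndex Q N K hQN inf_le_left).symm⟩
  have hidxp : ¬ p ∣ (Q.subgroupOf N).index := fun h => hQsyl (h.trans hidx)
  obtain ⟨a, ha⟩ := hQp.exists_card_eq
  have hcopN : (Nat.card (Q.subgroupOf N)).Coprime (Q.subgroupOf N).index := by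
    rw [hcardQn, ha]
    exact Nat.Coprime.pow_left a ((Nat.Prime.coprime_iff_not_dvd hp).2 hidxp)
  obtain ⟨L0, hL0⟩ := exists_left_complement'_of_coprime hcopN
  set L : Subgroup G := L0.map N.subtype with hL
  have hLN : L ≤ N := map_subtype_le L0
  have hLcard : Nat.card L = (Q.subgroupOf N).index := by
    rw [hL0.index_eq_card]
    exact (Nat.card_congr (L0.equivMapOfInjective _ N.subtype_injective).toEquiv).symm
  have hLp : (Nat.card L).Coprime p := by
    rw [hLcard, Nat.coprime_comm]; exact (Nat.Prime.coprime_iff_not_dvd hp).2 hidxp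
  have hsup : L ⊔ Q = N := by
    have := congrArg (Subgroup.map N.subtype) hL0.sup_eq_top
    rw [Subgroup.map_sup, subgroupOf_map_subtype, inf_of_le_left hQN, ← MonoidHom.range_eq_map,
      range_subtype] at this
    exact this
  have hCA : CoprimeAct L Q :=
    { norm := hLN.trans hNnorm
      cop := by rw [ha]; exact Nat.Coprime.pow_right a hLp
      solv := Or.inr (Group.isSolvable_of_comm (fun x y => Subtype.ext (hQab x x.2 y y.2))) }
  set D : Subgroup G := normalizer (L : Set G) ⊓ normalizer (Q : Set G) with hD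
  have hdecomp : ∀ n ∈ K, n ∈ normalizer (Q : Set G) → ∃ l ∈ L, ∃ q ∈ Q, n = l * q := by
    intro n hnK hnQ
    obtain ⟨l0, hl0, q0, hq0, hmul⟩ := IsComplement'.exists_mul_eq hL0 ⟨n, ⟨hnK, hnQ⟩⟩
    refine ⟨(l0 : G), mem_map_of_mem N.subtype hl0, (q0 : G), mem_subgroupOf.1 hq0, ?_⟩
    have := congrArg Subtype.val hmul
    simpa using this.symm
  -- D ⊓ K ≤ L
  have hDKL : D ⊓ K ≤ L := by
    rintro x ⟨⟨hxL, hxQ⟩, hxK⟩
    obtain ⟨l, hl, q, hq, hx⟩ := hdecomp x hxK hxQ
    have hqL : q ∈ normalizer (L : Set G) := by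
      have : q = l⁻¹ * x := by rw [hx]; group
      rw [this]; exact mul_mem (inv_mem (le_normalizer hl)) hxL
    have hqC := hCA.mem_centralizer_of_mem_normalizer hq hqL
    have hq1 : q = 1 := by
      apply hfix _ hq
      intro n hnK hnQ
      obtain ⟨l1, hl1, q1, hq1, hn⟩ := hdecomp n hnK hnQ
      have c1 : l1 * q = q * l1 := mem_centralizer_iff.1 hqC l1 hl1
      have c2 : q1 * q = q * q1 := hQab _ hq1 _ hq
      rw [hn, mul_assoc, c2, ← mul_assoc, c1, mul_assoc]
    rw [hx, hq1, mul_one]; exact hl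
  have hDK : D ⊔ K = ⊤ := by
    rw [eq_top_iff, ← hfrat]
    refine sup_le ?_ le_sup_right
    intro m hm
    have hB : MulAut.conj m • L ≤ L ⊔ Q := by
      rw [hsup]
      intro x hx
      rw [mem_conj_smul] at hx
      have h1 : m⁻¹ * x * m ∈ N := hLN hx
      have hx' : x = m * (m⁻¹ * x * m) * m⁻¹ := by group
      rw [hx']
      have h1' := Subgroup.mem_inf.1 h1
      exact Subgroup.mem_inf.2 ⟨hKn.conj_mem _ h1'.1 m, mul_mem (mul_mem hm h1'.2) (inv_mem hm)⟩
    obtain ⟨c, hcQ, hc⟩ := hCA.exists_conj_eq _ hB (card_conj_smul _ _)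
    have hcm : c⁻¹ * m ∈ normalizer (L : Set G) := by
      rw [← conj_smul_eq_self_iff_mem_normalizer, map_mul, mul_smul, ← hc, ← mul_smul, ← map_mul,
        inv_mul_cancel, map_one, one_smul]
    have hcm2 : c⁻¹ * m ∈ normalizer (Q : Set G) := mul_mem (inv_mem (le_normalizer hcQ)) hm
    have : m = c * (c⁻¹ * m) := by group
    rw [this]
    exact mul_mem (mem_sup_right (hQK hcQ)) (mem_sup_left ⟨hcm, hcm2⟩)
  exact exists_complement_of_sup_eq_top K hK D hDK
    (Nat.Coprime.coprime_dvd_left (card_dvd_of_le hDKL) hLp)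

/-- If the Sylow p-subgroups of O^p(G) are abelian then G splits over O^p(G). -/
theorem result {G : Type*} [Group G] [Finite G] {p : ℕ} [Fact p.Prime] (h : ∀ Q : Sylow p (Cfsg.pResidual p G), IsMulCommutative Q) : ∃ K : Subgroup G, K.IsComplement' (Cfsg.pResidual p G) := by
  set K := pResidual p G with hKdef
  obtain ⟨k, hk⟩ : ∃ k, K.index = p ^ k := by
    obtain ⟨k, hk⟩ := (quotient_pResidual_isPGroup (G := G) (p := p)).exists_card_eq
    exact ⟨k, by rw [index_eq_card]; exact hk⟩
  obtain ⟨Q0⟩ : Nonempty (Sylow p K) := inferInstance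
  have := h Q0
  have hres : pResidual p K = ⊤ := by
    have h1 := map_subtype_pResidual (p := p) K
    have h2 : Subgroup.closure {x : G | x ∈ K ∧ (orderOf x).Coprime p} = K := by
      apply le_antisymm
      · rw [closure_le]; intro x hx; exact hx.1
      · rw [hKdef]
        unfold pResidual
        apply Subgroup.closure_mono
        intro x hx
        exact ⟨mem_pResidual_of_coprime hx, hx⟩
    rw [h2] at h1
    rw [eq_top_iff]
    intro x _
    have : (x : G) ∈ (pResidual p K).map K.subtype := by rw [h1]; exact x.2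
    obtain ⟨y, hy, hyx⟩ := this
    have : y = x := Subtype.ext hyx
    rwa [← this]
  have h1 := abelian_sylow_inf_pResidual Q0
  rw [hres, inf_top_eq] at h1
  have h1' : (Q0 : Subgroup K) =
      ⁅(Q0 : Subgroup K), normalizer ((Q0 : Subgroup K) : Set K)⁆ := h1
  have h2 := abelian_sylow_centralizer_inf_commutator Q0
  rw [← h1'] at h2
  refine main_aux K hk ((Q0 : Subgroup K).map K.subtype) (map_subtype_le _) ?_ ?_ ?_ ?_
    (Sylow.normalizer_sup_eq_top Q0)
  · exact Q0.2.map K.subtype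
  · rintro x ⟨x0, hx0, rfl⟩ y ⟨y0, hy0, rfl⟩
    have := mul_comm' (⟨x0, hx0⟩ : Q0) ⟨y0, hy0⟩
    have := congrArg (fun z : Q0 => ((z : K) : G)) this
    simpa using this
  · have : ((Q0 : Subgroup K).map K.subtype).relIndex K = (Q0 : Subgroup K).index := by
      unfold relIndex subgroupOf
      rw [comap_map_eq_self_of_injective K.subtype_injective]
    rw [this]
    exact Q0.not_dvd_index
  · rintro z ⟨z0, hz0, rfl⟩ hz
    have hzc : z0 ∈ centralizer (normalizer ((Q0 : Subgroup K) : Set K) : Set K) := by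
      rw [mem_centralizer_iff]
      intro n0 hn0
      apply Subtype.ext
      have hn : K.subtype n0 ∈ normalizer (((Q0 : Subgroup K).map K.subtype : Subgroup G) : Set G) :=
        le_normalizer_map K.subtype (mem_map_of_mem K.subtype hn0)
      exact hz _ n0.2 hn
    have : z0 ∈ ((Q0 : Subgroup K) ⊓ centralizer (normalizer ((Q0 : Subgroup K) : Set K) : Set K)) ⊓
        (Q0 : Subgroup K) := ⟨⟨hz0, hzc⟩, hz0⟩
    rw [h2, mem_bot] at this
    rw [this, map_one]

end Cfsg.Agent.S0092
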