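import Cfsg.Statements.S0098
import Cfsg.Agent.Lib.Helper1.ExtraspecialIso

set_option autoImplicit false
open Cfsg

namespace Cfsg.Agent.S0098

/-- For odd p, extraspecial p-groups of exponent p are determined up to isomorphism by their order. -/
theorem result {E₁ : Type*} {E₂ : Type*} [Group E₁] [Group E₂] [Finite E₁] [Finite E₂] {p : ℕ} [Fact p.Prime] (hp : p ≠ 2) (h₁ : Cfsg.IsExtraspecial p E₁) (h₂ : Cfsg.IsExtraspecial p E₂) (he₁ : Monoid.exponent E₁ = p) (he₂ : Monoid.exponent E₂ = p) (hc : Nat.card E₁ = Nat.card E₂) : Nonempty (E₁ ≃* E₂) := by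
  open scoped commutatorElement in
  open Cfsg.Agent.Lib.Helper1 Cfsg.Agent.Lib.Helper1.ExtraspecialIso in
  classical
  have hpp : p.Prime := Fact.out
  obtain ⟨⟨_, _, hD₁⟩, hZ₁⟩ := h₁
  obtain ⟨⟨_, _, hD₂⟩, hZ₂⟩ := h₂
  have hcl₁ : ∀ a b : E₁, ⁅a, b⁆ ∈ Subgroup.center E₁ := by
    intro a b
    rw [← hD₁]
    exact Subgroup.commutator_mem_commutator (Subgroup.mem_top a) (Subgroup.mem_top b)
  have hcl₂ : ∀ a b : E₂, ⁅a, b⁆ ∈ Subgroup.center E₂ := by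
    intro a b
    rw [← hD₂]
    exact Subgroup.commutator_mem_commutator (Subgroup.mem_top a) (Subgroup.mem_top b)
  have hexp₁ : ∀ g : E₁, g ^ p = 1 := fun g => by rw [← he₁]; exact Monoid.pow_exponent_eq_one g
  have hexp₂ : ∀ g : E₂, g ^ p = 1 := fun g => by rw [← he₂]; exact Monoid.pow_exponent_eq_one g
  have hne₁ : Subgroup.center E₁ ≠ ⊥ := by
    intro h
    rw [h, Subgroup.card_bot] at hZ₁
    exact hpp.one_lt.ne hZ₁
  have hne₂ : Subgroup.center E₂ ≠ ⊥ := by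
    intro h
    rw [h, Subgroup.card_bot] at hZ₂
    exact hpp.one_lt.ne hZ₂
  obtain ⟨⟨z, hz⟩, hz0⟩ := (Subgroup.ne_bot_iff_exists_ne_one.mp hne₁)
  obtain ⟨⟨z', hz'⟩, hz0'⟩ := (Subgroup.ne_bot_iff_exists_ne_one.mp hne₂)
  have hz1 : z ≠ 1 := fun h => hz0 (Subtype.ext h)
  have hz1' : z' ≠ 1 := fun h => hz0' (Subtype.ext h)
  obtain ⟨φ, _⟩ := exists_mulEquiv_exp hcl₁ hZ₁ hexp₁ hcl₂ hZ₂ hexp₂ z hz hz1 z' hz' hz1'
    (Nat.card E₁) ⊤ ⊤ Subgroup.card_top (by rw [Subgroup.card_top, hc]) le_top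
    (by rw [Subgroup.coe_top, Subgroup.centralizer_univ]; exact inf_le_right) le_top
    (by rw [Subgroup.coe_top, Subgroup.centralizer_univ]; exact inf_le_right)
  exact ⟨Subgroup.topEquiv.symm.trans (φ.trans Subgroup.topEquiv)⟩

end Cfsg.Agent.S0098
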