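import Cfsg.Statements.S0099
import Cfsg.Agent.Lib.Helper1.ExtraspecialTwo

set_option autoImplicit false
open Cfsg

namespace Cfsg.Agent.S0099

/-- Among three extraspecial 2-groups of equal order, some two are isomorphic. -/
theorem result {E₁ : Type*} {E₂ : Type*} {E₃ : Type*} [Group E₁] [Group E₂] [Group E₃] [Finite E₁] [Finite E₂] [Finite E₃] (h₁ : Cfsg.IsExtraspecial 2 E₁) (h₂ : Cfsg.IsExtraspecial 2 E₂) (h₃ : Cfsg.IsExtraspecial 2 E₃) (h12 : Nat.card E₁ = Nat.card E₂) (h23 : Nat.card E₂ = Nat.card E₃) : Nonempty (E₁ ≃* E₂) ∨ Nonempty (E₂ ≃* E₃) ∨ Nonempty (E₁ ≃* E₃) := by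
  open Cfsg.Agent.Lib.Helper1.ExtraspecialTwo in
  classical
  obtain ⟨m₁, _, hm₁, hf₁⟩ := card_sq_eq_one_formula h₁
  obtain ⟨m₂, _, hm₂, hf₂⟩ := card_sq_eq_one_formula h₂
  obtain ⟨m₃, _, hm₃, hf₃⟩ := card_sq_eq_one_formula h₃
  have e12 : m₁ = m₂ := by
    have h : 2 ^ (2 * m₁ + 1) = 2 ^ (2 * m₂ + 1) := by rw [← hm₁, ← hm₂, h12]
    have := Nat.pow_right_injective (le_refl 2) h
    omega
  have e23 : m₂ = m₃ := by
    have h : 2 ^ (2 * m₂ + 1) = 2 ^ (2 * m₃ + 1) := by rw [← hm₂, ← hm₃, h23]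
    have := Nat.pow_right_injective (le_refl 2) h
    omega
  subst e12
  subst e23
  rcases hf₁ with a₁ | a₁ <;> rcases hf₂ with a₂ | a₂ <;> rcases hf₃ with a₃ | a₃
  · exact Or.inl (nonempty_mulEquiv_of_card_sq h₁ h₂ h12.symm (by rw [a₁, a₂]))
  · exact Or.inl (nonempty_mulEquiv_of_card_sq h₁ h₂ h12.symm (by rw [a₁, a₂]))
  · exact Or.inr (Or.inr (nonempty_mulEquiv_of_card_sq h₁ h₃ (by rw [← h23, ← h12]) (by rw [a₁, a₃])))
  · exact Or.inr (Or.inl (nonempty_mulEquiv_of_card_sq h₂ h₃ h23.symm (by rw [a₂, a₃])))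
  · exact Or.inr (Or.inl (nonempty_mulEquiv_of_card_sq h₂ h₃ h23.symm (by rw [a₂, a₃])))
  · exact Or.inr (Or.inr (nonempty_mulEquiv_of_card_sq h₁ h₃ (by rw [← h23, ← h12]) (by rw [a₁, a₃])))
  · exact Or.inl (nonempty_mulEquiv_of_card_sq h₁ h₂ h12.symm (by rw [a₁, a₂]))
  · exact Or.inl (nonempty_mulEquiv_of_card_sq h₁ h₂ h12.symm (by rw [a₁, a₂]))

end Cfsg.Agent.S0099
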