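import Cfsg.Statements.S0101
import Cfsg.Agent.Lib.Helper1.Frattini

set_option autoImplicit false
open Cfsg

namespace Cfsg.Agent.S0101

/-- In a perfect central extension, the kernel meets each Sylow p-subgroup P inside the Frattini subgroup of P. -/
theorem result {H : Type*} {G : Type*} [Group H] [Group G] [Finite H] (σ : H →* G) (hσ : Function.Surjective σ) (hc : σ.ker ≤ Subgroup.center H) (hH : commutator H = ⊤) {p : ℕ} [Fact p.Prime] (P : Sylow p H) : σ.ker ⊓ (P : Subgroup H) ≤ (frattini P).map (P : Subgroup H).subtype := by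
  classical
  intro z hz
  obtain ⟨hzk, hzP⟩ := Subgroup.mem_inf.mp hz
  have hzc : z ∈ Subgroup.center H := hc hzk
  have hpp : p.Prime := Fact.out
  -- transfer to the abelianization of P
  let ϕ : (P : Subgroup H) →* Abelianization (P : Subgroup H) := Abelianization.of
  have key : ∀ (k : ℕ) (g₀ : H), g₀⁻¹ * z ^ k * g₀ ∈ (P : Subgroup H) →
      g₀⁻¹ * z ^ k * g₀ = z ^ k := by
    intro k g₀ _
    have hzk : z ^ k ∈ Subgroup.center H := pow_mem hzc k
    rw [mul_assoc, ← (Subgroup.mem_center_iff.mp hzk) g₀]; group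
  have h1 := MonoidHom.transfer_eq_pow ϕ z key
  have h2 : MonoidHom.transfer ϕ z = 1 := by
    have : z ∈ (MonoidHom.transfer ϕ).ker := by
      apply Abelianization.commutator_subset_ker
      rw [hH]; exact Subgroup.mem_top z
    exact this
  rw [h2] at h1
  have h3 : (⟨z ^ (P : Subgroup H).index, MonoidHom.transfer_eq_pow_aux z key⟩ : (P : Subgroup H)) ∈
      commutator (P : Subgroup H) := by
    rw [← Abelianization.ker_of, MonoidHom.mem_ker]
    exact h1.symm
  -- z is a power of z ^ index
  have hPp : IsPGroup p (P : Subgroup H) := P.2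
  obtain ⟨k, hk⟩ := IsPGroup.iff_card.mp hPp
  have hcop : (Nat.card (P : Subgroup H)).Coprime (P : Subgroup H).index := by
    rw [hk]
    apply Nat.Coprime.pow_left
    rw [Nat.Prime.coprime_iff_not_dvd hpp]
    exact P.not_dvd_index
  have h4 := (powCoprime hcop).left_inv (⟨z, hzP⟩ : (P : Subgroup H))
  have h5 : (⟨z, hzP⟩ : (P : Subgroup H)) ∈ commutator (P : Subgroup H) := by
    rw [← h4]
    exact Subgroup.zpow_mem _ h3 _
  have h6 : (⟨z, hzP⟩ : (P : Subgroup H)) ∈ frattini (P : Subgroup H) :=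
    Cfsg.Agent.Lib.Helper1.IsPGroup.commutator_le_frattini hPp h5
  exact ⟨⟨z, hzP⟩, h6, rfl⟩

end Cfsg.Agent.S0101
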