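import Cfsg.Statements.S0104
import Cfsg.Agent.Lib.Helper1.Coprime

set_option autoImplicit false
open Cfsg

namespace Cfsg.Agent.S0104

open Pointwise in
theorem aux {G : Type*} [Group G] [Finite G] {p : ℕ} [Fact p.Prime] (P : Sylow p G) (Z : Subgroup G) (hZP : Z ≤ (P : Subgroup G)) (hZN : Subgroup.normalizer (P : Set G) ≤ Subgroup.normalizer (Z : Set G)) : Cfsg.IsWeaklyClosed Z P ↔ ∀ R : Sylow p G, Z ≤ (R : Subgroup G) → (R : Subgroup G) ≤ Subgroup.normalizer (Z : Set G) := by
  have hPN : (P : Subgroup G) ≤ Subgroup.normalizer (Z : Set G) := Subgroup.le_normalizer.trans hZN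
  have hmap : ∀ (g : G) (H : Subgroup G), H.map (MulAut.conj g).toMonoidHom = MulAut.conj g • H :=
    fun g H => rfl
  constructor
  · rintro ⟨-, hwc⟩ R hZR
    obtain ⟨g, hg⟩ := MulAction.exists_smul_eq G P R
    have hgR : MulAut.conj g • (P : Subgroup G) = (R : Subgroup G) := by
      rw [← hg]; rfl
    have h1 : Z.map (MulAut.conj g⁻¹).toMonoidHom ≤ (P : Subgroup G) := by
      rw [hmap, Cfsg.Agent.Lib.Helper1.conj_smul_le_iff, inv_inv]
      intro h hh
      have := hZR hh
      rw [← hgR, Cfsg.Agent.Lib.Helper1.mem_conj_smul] at this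
      exact this
    have h2 := hwc g⁻¹ h1
    rw [hmap, Cfsg.Agent.Lib.Helper1.conj_smul_eq_self_iff_mem_normalizer] at h2
    have hgN : g ∈ Subgroup.normalizer (Z : Set G) := by
      have := inv_mem h2
      rwa [inv_inv] at this
    intro r hr
    rw [← hgR, Cfsg.Agent.Lib.Helper1.mem_conj_smul] at hr
    have h3 := hPN hr
    have h4 := mul_mem (mul_mem hgN h3) (inv_mem hgN)
    have e : g * (g⁻¹ * r * g) * g⁻¹ = r := by group
    rwa [e] at h4
  · intro hR
    refine ⟨hZP, ?_⟩
    intro g hg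
    rw [hmap] at hg ⊢
    rw [Cfsg.Agent.Lib.Helper1.conj_smul_le_iff] at hg
    have hZR : Z ≤ ((g⁻¹ • P : Sylow p G) : Subgroup G) := by
      intro z hz
      show z ∈ MulAut.conj g⁻¹ • (P : Subgroup G)
      rw [Cfsg.Agent.Lib.Helper1.mem_conj_smul, inv_inv]
      exact hg z hz
    have hRM := hR _ hZR
    obtain ⟨m, hm⟩ := MulAction.exists_smul_eq (Subgroup.normalizer (Z : Set G))
      (P.subtype hPN) ((g⁻¹ • P : Sylow p G).subtype hRM)
    rw [Sylow.smul_subtype] at hm
    have hm2 : m • P = g⁻¹ • P := Sylow.subtype_injective hm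
    have hm3 : (g * (m : G)) • P = P := by
      rw [mul_smul]
      have : (m : G) • P = m • P := rfl
      rw [this, hm2, smul_inv_smul]
    rw [Sylow.smul_eq_iff_mem_normalizer] at hm3
    have h5 := hZN hm3
    have h6 := mul_mem h5 (inv_mem m.2)
    have e : g * (m : G) * (m : G)⁻¹ = g := by group
    rw [e] at h6
    exact Cfsg.Agent.Lib.Helper1.conj_smul_eq_self_iff_mem_normalizer.mpr h6

/-- A subgroup Z of a Sylow p-subgroup P that is normalized by N_G(P) is weakly closed in P exactly when it is normal in every Sylow p-subgroup containing it. -/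
theorem result {G : Type*} [Group G] [Finite G] {p : ℕ} [Fact p.Prime] (P : Sylow p G) (Z : Subgroup G) (hZP : Z ≤ (P : Subgroup G)) (hZN : Subgroup.normalizer (P : Set G) ≤ Subgroup.normalizer (Z : Set G)) : Cfsg.IsWeaklyClosed Z P ↔ ∀ R : Sylow p G, Z ≤ (R : Subgroup G) → (R : Subgroup G) ≤ Subgroup.normalizer (Z : Set G) := by
  exact aux P Z hZP hZN

end Cfsg.Agent.S0104
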