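import Mathlib
import Cfsg.Statements.S0109
import Cfsg.Agent.H5.ThompsonFact
import Cfsg.Agent.S0625
import Cfsg.Agent.S0626
import Cfsg.Agent.Lib.Helper25.PSolv

set_option autoImplicit false
open Cfsg

namespace Cfsg.Agent.S0109

/-- The Thompson factorization theorem states that if G is solvable with O_p'(G) = 1 (so F(G) = O_p(G)), p is odd, and for p = 3 the Sylow 2-subgroups of G are abelian, then G = N_G(J(P)) C_G(Ω_1(Z(P))) for a Sylow p-subgroup P. -/
theorem result {G : Type*} [Group G] [Finite G] {p : ℕ} [Fact p.Prime] (hp : p ≠ 2) (hs : Group.IsSolvable G) (h3 : p = 3 → ∀ T : Sylow 2 G, IsMulCommutative T) (hF : ∀ N : Subgroup G, N.Normal → Nat.Coprime (Nat.card N) p → N = ⊥) (P : Sylow p G) (g : G) : ∃ a ∈ Subgroup.normalizer (Cfsg.thompsonSubgroupOf p (P : Subgroup G) : Set G), ∃ c ∈ Subgroup.centralizer {x : G | x ∈ (P : Subgroup G) ∧ (∀ y ∈ (P : Subgroup G), x * y = y * x) ∧ x ^ p = 1}, g = a * c := by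
  have hpp : p.Prime := Fact.out
  have hsol : Cfsg.IsPSolvable p G := Cfsg.Agent.Lib.Helper25.isPSolvable_of_isSolvable p hs
  have hO : Cfsg.pPrimeCore p G = ⊥ :=
    hF _ (Cfsg.H5.pPrimeCore_normal p G) (Cfsg.H5.coprime_card_pPrimeCore p G)
  have hc := Cfsg.H5.centralizer_pCore_le_of_isPSolvable hsol hO
  have hst : Cfsg.IsActionPStable p G := by
    by_cases hp3 : p = 3
    · exact Cfsg.Agent.S0626.result hp (h3 hp3)
    · have h5 : 5 ≤ p := by
        have h2 := hpp.two_le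
        by_contra hlt
        push Not at hlt
        have h4 : p ≠ 4 := by
          rintro rfl
          exact absurd hpp (by decide)
        omega
      exact Cfsg.Agent.S0625.result h5 hsol
  have hTF := Cfsg.H5.isThompsonFactorizable_of_isPStableOn hO hc hst.1
  obtain ⟨x, hx, c, hc', n, hn, hg⟩ := hTF P g⁻¹
  rw [hO, Subgroup.mem_bot] at hx
  refine ⟨n⁻¹, Subgroup.inv_mem _ hn, c⁻¹, Subgroup.inv_mem _ ?_, ?_⟩
  · rw [Subgroup.mem_centralizer_iff] at hc' ⊢
    rintro y ⟨hyP, hyc, hyp⟩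
    apply hc'
    unfold Cfsg.omegaOne
    apply Subgroup.subset_closure
    refine ⟨Subgroup.mem_inf.2 ⟨hyP, ?_⟩, hyp⟩
    rw [Subgroup.mem_centralizer_iff]
    intro z hz
    exact (hyc z hz).symm
  · have h1 : g = (g⁻¹)⁻¹ := (inv_inv g).symm
    rw [h1, hg, hx, one_mul, mul_inv_rev]

end Cfsg.Agent.S0109
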