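import Cfsg.Statements.S0131
import Mathlib
import Cfsg.Agent.Lib.Lead.Focal

set_option autoImplicit false
open Cfsg

namespace Cfsg.Agent.S0131

/-- P/P' has a normal complement in G exactly when the focal subgroup G' ∩ P is as small as possible, namely P'. -/
theorem result {G : Type*} [Group G] [Finite G] {p : ℕ} [Fact p.Prime] (P : Sylow p G) : (∃ N : Subgroup G, N.Normal ∧ N ⊓ (P : Subgroup G) = ⁅(P : Subgroup G), (P : Subgroup G)⁆ ∧ N ⊔ (P : Subgroup G) = ⊤) ↔ commutator G ⊓ (P : Subgroup G) = ⁅(P : Subgroup G), (P : Subgroup G)⁆ := by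
  open scoped commutatorElement in
  constructor
  · rintro ⟨N, hN, hNP, hNsup⟩
    apply le_antisymm
    · -- `G' ≤ N`
      have hGN : commutator G ≤ N := by
        rw [commutator_def, Subgroup.commutator_le]
        intro a _ b _
        have ha : a ∈ N ⊔ (P : Subgroup G) := by rw [hNsup]; trivial
        have hb : b ∈ N ⊔ (P : Subgroup G) := by rw [hNsup]; trivial
        rw [Subgroup.mem_sup_of_normal_left] at ha hb
        obtain ⟨n₁, hn₁, p₁, hp₁, rfl⟩ := ha
        obtain ⟨n₂, hn₂, p₂, hp₂, rfl⟩ := hb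
        -- work in `G ⧸ N`
        rw [← QuotientGroup.eq_one_iff]
        have e1 : ((n₁ * p₁ : G) : G ⧸ N) = (p₁ : G ⧸ N) := by
          rw [QuotientGroup.mk_mul, (QuotientGroup.eq_one_iff n₁).mpr hn₁, one_mul]
        have e2 : ((n₂ * p₂ : G) : G ⧸ N) = (p₂ : G ⧸ N) := by
          rw [QuotientGroup.mk_mul, (QuotientGroup.eq_one_iff n₂).mpr hn₂, one_mul]
        have e3 : ((⁅n₁ * p₁, n₂ * p₂⁆ : G) : G ⧸ N) = ((⁅p₁, p₂⁆ : G) : G ⧸ N) := by
          rw [commutatorElement_def, commutatorElement_def]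
          simp only [QuotientGroup.mk_mul, QuotientGroup.mk_inv, e1, e2]
        rw [e3, QuotientGroup.eq_one_iff]
        have : ⁅p₁, p₂⁆ ∈ ⁅(P : Subgroup G), (P : Subgroup G)⁆ :=
          Subgroup.commutator_mem_commutator hp₁ hp₂
        rw [← hNP] at this
        exact this.1
      calc commutator G ⊓ (P : Subgroup G) ≤ N ⊓ (P : Subgroup G) := inf_le_inf_right _ hGN
        _ = _ := hNP
    · apply le_inf
      · rw [commutator_def]
        exact Subgroup.commutator_mono le_top le_top
      · exact Subgroup.commutator_le_self (P : Subgroup G)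
  · intro h
    have hc : (Nat.card ((P : Subgroup G) ⧸ (P : Subgroup G).focalSubgroupOf)).Coprime
        (P : Subgroup G).index := by
      have hQ : IsPGroup p ((P : Subgroup G) ⧸ (P : Subgroup G).focalSubgroupOf) :=
        P.2.to_quotient _
      obtain ⟨k, hk⟩ := IsPGroup.iff_card.mp hQ
      rw [hk]
      apply Nat.Coprime.pow_left
      rw [Nat.Prime.coprime_iff_not_dvd Fact.out]
      exact P.not_dvd_index
    refine ⟨(P : Subgroup G).transferFocal.ker, inferInstance, ?_, ?_⟩
    · rw [Cfsg.Agent.Lib.Lead.ker_transferFocal_inf _ hc,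
        ← Cfsg.Agent.Lib.Lead.commutator_inf_eq_focal _ hc, h]
    · exact Cfsg.Agent.Lib.Lead.ker_transferFocal_sup _ hc

end Cfsg.Agent.S0131
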