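import Cfsg.Statements.S0164
import Cfsg.Agent.Lib.Helper2.BrauerInduction
import Cfsg.Agent.S0874
import Cfsg.Agent.Lib.Helper7.Gallagher
import Cfsg.Agent.Lib.Helper11.Coherence
import Cfsg.Agent.Lib.Helper2.Exceptional

set_option autoImplicit false
open Cfsg

namespace Cfsg.Agent.S0164

/-- Brauer's characterisation of characters: a class function on a finite group whose restriction to every elementary subgroup is a generalized character is a generalized character. -/
theorem result {G : Type*} [Group G] [Finite G] (θ : G → ℂ) (hθ : Cfsg.IsClassFunction G θ) (hE : ∀ (E : Subgroup G) (p : ℕ), p.Prime → Cfsg.IsElementary p E → Cfsg.IsGeneralizedCharacter E (fun e : E => θ e)) : Cfsg.IsGeneralizedCharacter G θ := by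
  classical
  haveI : Fintype G := Fintype.ofFinite G
  open Cfsg.Agent.Lib.Helper2 Cfsg.Agent.Lib.Helper11 in
  have h1 := Brauer.one_mem_elemSpan (G := G) (fun p hp => Cfsg.Agent.S0874.result p hp)
  rw [Brauer.mem_elemSpan_iff] at h1
  obtain ⟨l, hl, hsum⟩ := h1
  have hθeq : θ = (fun _ : G => (1 : ℂ)) * θ := by
    funext g; simp
  rw [hθeq, hsum]
  -- now a general statement about lists
  have key : ∀ l' : List ((E : Subgroup G) × ((E → ℂ) × ℤ)),
      (∀ t ∈ l', (∃ p : ℕ, p.Prime ∧ Cfsg.IsElementary p t.1) ∧ Cfsg.IsCharacter t.1 t.2.1) →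
      Cfsg.IsGeneralizedCharacter G
        ((l'.map fun t => (t.2.2 : ℂ) • Cfsg.indFun t.1 t.2.1).sum * θ) := by
    intro l'
    induction l' with
    | nil =>
      intro _
      simp only [List.map_nil, List.sum_nil, zero_mul]
      exact Cfsg.Agent.Lib.Helper11.isGenChar_zero
    | cons a l' ih =>
      intro h
      simp only [List.map_cons, List.sum_cons, add_mul]
      apply Cfsg.Agent.Lib.Helper11.isGenChar_add
      · obtain ⟨⟨p, hp, hE'⟩, hφ⟩ := h a (List.mem_cons_self)
        obtain ⟨α, β, hα, hβ, hαβ⟩ := hE a.1 p hp hE'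
        have e1 : ((a.2.2 : ℂ) • Cfsg.indFun a.1 a.2.1) * θ =
            (a.2.2 : ℂ) • (Cfsg.indFun a.1 (a.2.1 * α) - Cfsg.indFun a.1 (a.2.1 * β)) := by
          rw [smul_mul_assoc, ← Cfsg.Agent.Lib.Helper7.indFun_mul_restrict a.1 a.2.1 θ hθ, hαβ,
            mul_sub, Cfsg.Agent.Lib.Helper2.indFun_sub]
        rw [e1]
        apply Cfsg.Agent.Lib.Helper11.isGenChar_intCast_smul
        apply Cfsg.Agent.Lib.Helper11.isGenChar_sub
        · exact Cfsg.Agent.Lib.Helper11.isGenChar_of_isChar
            (Cfsg.Agent.Lib.Helper2.indFun_isCharacter a.1 _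
              (Cfsg.Agent.Lib.Helper2.isCharacter_mul hφ hα))
        · exact Cfsg.Agent.Lib.Helper11.isGenChar_of_isChar
            (Cfsg.Agent.Lib.Helper2.indFun_isCharacter a.1 _
              (Cfsg.Agent.Lib.Helper2.isCharacter_mul hφ hβ))
      · exact ih (fun t ht => h t (List.mem_cons_of_mem _ ht))
  exact key l hl

end Cfsg.Agent.S0164
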