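import Cfsg.Statements.S0165
import Cfsg.Agent.Lib.Helper7.NormalDefect
import Cfsg.Agent.Lib.Helper25.EvenDegree
import Cfsg.Agent.Lib.Helper25.Codegree
import Cfsg.Agent.Lib.Helper2.CharBasic

set_option autoImplicit false
open Cfsg

namespace Cfsg.Agent.S0165

/-- If p ^ n is the exact power of the prime p dividing the order of a finite group and p ^ n divides the degree of an irreducible complex representation, then its character vanishes at every element of order divisible by p. -/
theorem result {G : Type*} [Group G] [Finite G] {V : Type*} [AddCommGroup V] [Module ℂ V] [FiniteDimensional ℂ V] (ρ : Representation ℂ G V) [ρ.IsIrreducible] (p n : ℕ) (hp : p.Prime) (hn : p ^ n ∣ Nat.card G) (hn' : ¬ p ^ (n + 1) ∣ Nat.card G) (hdeg : p ^ n ∣ Module.finrank ℂ V) (x : G) (hx : p ∣ orderOf x) : ρ.character x = 0 := by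
  haveI : Fact p.Prime := ⟨hp⟩
  obtain ⟨M, hM⟩ := Cfsg.Agent.Lib.Helper25.exists_isPModular p hp
  have hirr : Cfsg.IsIrrCharacter G ρ.character := Cfsg.Agent.Lib.Helper2.isIrrCharacter_of_rep ρ
  have hdeg' : Cfsg.charDegree ρ.character = Module.finrank ℂ V := by
    unfold Cfsg.charDegree
    rw [Representation.char_one]
    simp
  have hdvd : Cfsg.charDegree ρ.character ∣ Nat.card G :=
    Cfsg.Agent.Lib.Helper25.charDegree_dvd_card hirr
  apply Cfsg.Agent.Lib.Helper7.irr_eq_zero_of_singular_of_not_dvd hM ⟨ρ.character, hirr⟩ ?_ x hx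
  show ¬ p ∣ Nat.card G / Cfsg.charDegree ρ.character
  rw [hdeg'] at hdvd ⊢
  obtain ⟨a, ha⟩ := hdeg
  obtain ⟨c, hc⟩ := hdvd
  have hpos : 0 < Module.finrank ℂ V := by
    rcases Nat.eq_zero_or_pos (Module.finrank ℂ V) with h0 | h0
    · rw [h0, zero_mul] at hc
      have : 0 < Nat.card G := Nat.card_pos
      omega
    · exact h0
  rw [hc, Nat.mul_div_cancel_left _ hpos]
  intro hpc
  apply hn'
  obtain ⟨e, he⟩ := hpc
  rw [hc, ha, he]
  exact ⟨a * e, by ring⟩

end Cfsg.Agent.S0165
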