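import Cfsg.Statements.S0168
import Cfsg.Agent.Lib.Helper2.Regular

set_option autoImplicit false
open Cfsg

namespace Cfsg.Agent.S0168

/-- The Burnside–Brauer Theorem. Let χ be the character of a faithful complex representation of a finite group, taking m distinct values. Then every irreducible character has nonzero inner product with χ ^ i for some i < m. -/
theorem result {G : Type*} [Group G] [Fintype G] {V : Type*} [AddCommGroup V] [Module ℂ V] [FiniteDimensional ℂ V] (ρ : Representation ℂ G V) (hfaithful : Function.Injective ρ) (ψ : G → ℂ) (hψ : Cfsg.IsIrrCharacter G ψ) : ∃ i : ℕ, i < Nat.card (Set.range ρ.character) ∧ Cfsg.classInner (fun g => ρ.character g ^ i) ψ ≠ 0 := by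
  classical
  open scoped ComplexConjugate in
  open Polynomial in
  by_contra hcon
  simp only [not_exists, not_and, not_not] at hcon
  set χ := ρ.character with hχdef
  haveI : Fintype (Set.range χ) := Fintype.ofFinite _
  set S : Finset ℂ := (Set.range χ).toFinset with hS
  have hm : Nat.card (Set.range χ) = S.card := by
    rw [Nat.card_eq_fintype_card, hS, Set.toFinset_card]
  set n : ℂ := χ 1 with hn
  have hnS : n ∈ S := by rw [hS, Set.mem_toFinset]; exact ⟨1, rfl⟩
  have hgS : ∀ g : G, χ g ∈ S := fun g => by rw [hS, Set.mem_toFinset]; exact ⟨g, rfl⟩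
  let P : Polynomial ℂ := ∏ a ∈ S.erase n, (Polynomial.X - Polynomial.C a)
  have hdeg : P.natDegree < Nat.card (Set.range χ) := by
    have : P.natDegree = (S.erase n).card :=
      Polynomial.natDegree_finsetProd_X_sub_C_eq_card (S.erase n) (fun a => a)
    rw [this, hm, Finset.card_erase_of_mem hnS]
    have : 0 < S.card := Finset.card_pos.mpr ⟨n, hnS⟩
    omega
  have hsum0 : ∑ g : G, P.eval (χ g) * (starRingEnd ℂ) (ψ g) = 0 := by
    simp only [Polynomial.eval_eq_sum_range' hdeg, Finset.sum_mul]
    rw [Finset.sum_comm]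
    apply Finset.sum_eq_zero
    intro i hi
    have h0 := hcon i (Finset.mem_range.mp hi)
    rw [Cfsg.Agent.Lib.Helper2.classInner_def] at h0
    have hne : (Nat.card G : ℂ) ≠ 0 := Cfsg.Agent.Lib.Helper2.card_ne_zero_complex
    have h1 := (mul_eq_zero.mp h0).resolve_left (inv_ne_zero hne)
    calc ∑ g : G, P.coeff i * χ g ^ i * (starRingEnd ℂ) (ψ g)
        = P.coeff i * ∑ g : G, χ g ^ i * (starRingEnd ℂ) (ψ g) := by
          rw [Finset.mul_sum]; apply Finset.sum_congr rfl; intro g _; ring
      _ = 0 := by rw [h1, mul_zero]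
  have hvan : ∀ g : G, g ≠ 1 → P.eval (χ g) = 0 := by
    intro g hg
    have hne : χ g ≠ n := by
      intro h
      apply hg
      have h1 : ρ.character g = (Module.finrank ℂ V : ℂ) := by
        rw [← hχdef, h, hn, hχdef, Representation.char_one]
      have h2 := (Cfsg.Agent.Lib.Helper2.char_eq_finrank_iff ρ g).mp h1
      apply hfaithful
      rw [h2, map_one]; rfl
    rw [Polynomial.eval_prod]
    apply Finset.prod_eq_zero (Finset.mem_erase.mpr ⟨hne, hgS g⟩)
    simp
  have hP1 : P.eval n ≠ 0 := by
    rw [Polynomial.eval_prod]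
    apply Finset.prod_ne_zero_iff.mpr
    intro a ha
    simp only [Polynomial.eval_sub, Polynomial.eval_X, Polynomial.eval_C]
    exact sub_ne_zero.mpr (Finset.ne_of_mem_erase ha).symm
  rw [Finset.sum_eq_single (1 : G) (fun g _ hg => by rw [hvan g hg, zero_mul])
    (fun h => absurd (Finset.mem_univ _) h)] at hsum0
  rcases mul_eq_zero.mp hsum0 with h | h
  · exact hP1 h
  · have := Cfsg.Agent.Lib.Helper2.IsIrrCharacter.apply_one_ne_zero hψ
    apply this
    simpa using h

end Cfsg.Agent.S0168
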