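import Cfsg.Statements.S0196
import Mathlib


set_option autoImplicit false
open Cfsg

namespace Cfsg.Agent.S0196

/-- Let A be a subgroup of a finite group G that equals the centralizer of each of its non-identity elements, and let N be its normalizer. Then the index of A in N divides |A| − 1 (N/A permutes the non-identity elements of A in orbits of full length). -/
theorem result {G : Type*} [Group G] [Finite G] (A : Subgroup G) (hA : ∀ x ∈ A, x ≠ 1 → Subgroup.centralizer ({x} : Set G) = A) : (A.subgroupOf (Subgroup.normalizer (A : Set G))).index ∣ Nat.card A - 1 := by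
  classical
  let N : Subgroup G := Subgroup.normalizer (A : Set G)
  let X := {a : A // a ≠ 1}
  have hmem : ∀ (n : N) (a : A), (n : G) * a * (n : G)⁻¹ ∈ A := fun n a =>
    (Subgroup.mem_normalizer_iff.mp n.2 a).mp a.2
  have hne : ∀ (n : N) (a : X),
      (⟨(n : G) * a.1 * (n : G)⁻¹, hmem n a.1⟩ : A) ≠ 1 := by
    intro n a h
    apply a.2
    have h1 : (n : G) * a.1 * (n : G)⁻¹ = 1 := congrArg Subtype.val h
    apply Subtype.ext
    have h2 : (a.1 : G) = (n : G)⁻¹ * ((n : G) * a.1 * (n : G)⁻¹) * n := by group
    rw [h2, h1]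
    simp
  letI : MulAction N X :=
    { smul := fun n a => ⟨⟨(n : G) * a.1 * (n : G)⁻¹, hmem n a.1⟩, hne n a⟩
      one_smul := fun a => by
        apply Subtype.ext; apply Subtype.ext
        change ((1 : N) : G) * a.1 * ((1 : N) : G)⁻¹ = a.1
        simp
      mul_smul := fun m n a => by
        apply Subtype.ext; apply Subtype.ext
        change ((m * n : N) : G) * a.1 * ((m * n : N) : G)⁻¹
          = (m : G) * ((n : G) * a.1 * (n : G)⁻¹) * (m : G)⁻¹
        simp only [Subgroup.coe_mul, mul_inv_rev]
        group }
  have hsmul : ∀ (n : N) (a : X), ((n • a : X).1 : G) = (n : G) * a.1 * (n : G)⁻¹ := fun n a => rfl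
  have hstab : ∀ a : X, MulAction.stabilizer N a = A.subgroupOf N := by
    intro a
    ext n
    rw [MulAction.mem_stabilizer_iff, Subgroup.mem_subgroupOf]
    have hcent := hA a.1 a.1.2 (fun h => a.2 (Subtype.ext h))
    constructor
    · intro h
      have h1 : (n : G) * a.1 * (n : G)⁻¹ = a.1 := by rw [← hsmul, h]
      rw [← hcent, Subgroup.mem_centralizer_iff]
      intro y hy
      rw [Set.mem_singleton_iff] at hy
      rw [hy]
      calc (a.1 : G) * n = ((n : G) * a.1 * (n : G)⁻¹) * n := by rw [h1]
        _ = n * a.1 := by group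
    · intro h
      rw [← hcent, Subgroup.mem_centralizer_iff] at h
      have h1 := h a.1 (Set.mem_singleton _)
      apply Subtype.ext; apply Subtype.ext
      rw [hsmul]
      calc (n : G) * a.1 * (n : G)⁻¹ = (a.1 * n) * (n : G)⁻¹ := by rw [h1]
        _ = a.1 := by group
  have hcardX : Nat.card X = Nat.card A - 1 := by
    have : Nat.card X = Nat.card {a : A // a ≠ 1} := rfl
    rw [this]
    haveI : Fintype A := Fintype.ofFinite A
    rw [Nat.card_eq_fintype_card, Fintype.card_subtype_compl, Nat.card_eq_fintype_card]
    simp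
  rw [← hcardX]
  have e := MulAction.selfEquivSigmaOrbitsQuotientStabilizer N X
  haveI : Finite X := inferInstanceAs (Finite {a : A // a ≠ 1})
  haveI : Fintype (Quotient (MulAction.orbitRel N X)) := Fintype.ofFinite _
  rw [Nat.card_congr e, Nat.card_sigma]
  apply Finset.dvd_sum
  intro ω _
  rw [hstab]
  exact dvd_of_eq rfl

end Cfsg.Agent.S0196
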