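import Cfsg.Statements.S0200
import Cfsg.Agent.Lib.Helper2.Dihedral
import Cfsg.Agent.Lib.Helper21.BaerSuzuki

set_option autoImplicit false
open Cfsg

namespace Cfsg.Agent.S0200

/-- An involution lying in no normal 2-subgroup of a finite group inverts a nontrivial element of odd order (a consequence of the Baer–Suzuki Theorem). -/
theorem result {G : Type*} [Group G] [Finite G] (t : G) (ht : orderOf t = 2) (hO : ∀ N : Subgroup G, N.Normal → IsPGroup 2 N → t ∉ N) : ∃ h : G, h ≠ 1 ∧ Odd (orderOf h) ∧ t * h * t⁻¹ = h⁻¹ := by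
  open Cfsg.Agent.Lib.Helper2.TwoInv in
  classical
  haveI : Fact (Nat.Prime 2) := ⟨Nat.prime_two⟩
  have ht2 : t * t = 1 := sq_of_orderOf ht
  -- by Baer–Suzuki some conjugate `s` of `t` generates a non-2-group with `t`
  have hex : ∃ g : G, ¬ IsPGroup 2 (Subgroup.closure ({t, g * t * g⁻¹} : Set G)) := by
    by_contra hcon
    push_neg at hcon
    obtain ⟨N, hN, hNp, htN⟩ := Cfsg.Agent.Lib.Helper21.baer_suzuki_element (p := 2) t hcon
    exact hO N hN hNp htN
  obtain ⟨g, hg⟩ := hex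
  set s := g * t * g⁻¹ with hs
  have hs2 : s * s = 1 := by
    rw [hs]
    calc g * t * g⁻¹ * (g * t * g⁻¹) = g * (t * t) * g⁻¹ := by group
      _ = 1 := by rw [ht2]; group
  have hpos : 0 < orderOf (t * s) := orderOf_pos _
  obtain ⟨a, m, hm, hum⟩ := Nat.exists_eq_two_pow_mul_odd hpos.ne'
  have hm1 : m ≠ 1 := by
    intro h1
    apply hg
    apply isPGroup_closure ht2 hs2 (a := a)
    have : orderOf (t * s) = 2 ^ a := by rw [hum, h1, mul_one]
    rw [← this]; exact pow_orderOf_eq_one _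
  refine ⟨(t * s) ^ (2 ^ a), ?_, ?_, ?_⟩
  · intro h1
    have hdvd : orderOf (t * s) ∣ 2 ^ a := orderOf_dvd_of_pow_eq_one h1
    rw [hum] at hdvd
    have : m ∣ 1 := by
      have h2 : 2 ^ a * m ∣ 2 ^ a * 1 := by rwa [mul_one]
      exact (Nat.mul_dvd_mul_iff_left (by positivity)).mp h2
    exact hm1 (Nat.dvd_one.mp this)
  · have : orderOf ((t * s) ^ (2 ^ a)) = m := by
      rw [orderOf_pow_of_dvd (by positivity) ⟨m, hum⟩, hum]
      exact Nat.mul_div_cancel_left m (by positivity)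
    rw [this]; exact hm
  · have h1 := conj_zpow_left ht2 hs2 ((2 ^ a : ℕ) : ℤ)
    rw [zpow_neg, zpow_natCast] at h1
    exact h1

end Cfsg.Agent.S0200
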