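import Cfsg.Statements.S0203
import Cfsg.Agent.Lib.Lead.InvFusion
import Cfsg.Agent.Lib.Helper1.Basic

set_option autoImplicit false
open Cfsg

namespace Cfsg.Agent.S0203

open Subgroup Cfsg.Agent.Lib.Lead Cfsg.Agent.Lib.Helper1

/-- A finite group with Klein four Sylow 2-subgroups has three conjugacy classes of involutions exactly when it has a normal 2-complement. -/
theorem result {G : Type*} [Group G] [Finite G] (P : Sylow 2 G) (hP : IsKleinFour (P : Subgroup G)) : Nat.card {C : ConjClasses G // ∃ t : G, orderOf t = 2 ∧ ConjClasses.mk t = C} = 3 ↔ ∃ N : Subgroup G, N.Normal ∧ Subgroup.IsComplement' N (P : Subgroup G) := by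
  classical
  have h2p : Fact (Nat.Prime 2) := ⟨Nat.prime_two⟩
  have hcomm : IsMulCommutative (P : Subgroup G) := IsKleinFour.isMulCommutative
  have hab : ∀ x ∈ (P : Subgroup G), ∀ y ∈ (P : Subgroup G), x * y = y * x := by
    intro x hx y hy
    have := mul_comm' (⟨x, hx⟩ : (P : Subgroup G)) ⟨y, hy⟩
    exact congrArg Subtype.val this
  have hsq : ∀ x ∈ (P : Subgroup G), x ^ 2 = 1 := by
    intro x hx
    have h1 := Monoid.pow_exponent_eq_one (⟨x, hx⟩ : (P : Subgroup G))
    rw [IsKleinFour.exponent_two] at h1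
    have := congrArg Subtype.val h1
    simpa using this
  have hord : ∀ x ∈ (P : Subgroup G), x ≠ 1 → orderOf x = 2 := fun x hx hx1 =>
    orderOf_eq_prime (hsq x hx) hx1
  -- two distinct involutions
  have hcard : Nat.card (P : Subgroup G) = 4 := IsKleinFour.card_four
  obtain ⟨a, ha1⟩ : ∃ a : (P : Subgroup G), a ≠ 1 := by
    have : Nontrivial (P : Subgroup G) := by
      rw [← Finite.one_lt_card_iff_nontrivial, hcard]; norm_num
    exact exists_ne 1
  obtain ⟨b, hb1, hba⟩ : ∃ b : (P : Subgroup G), b ≠ 1 ∧ b ≠ a := by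
    by_contra hcon
    push Not at hcon
    haveI : Fintype (P : Subgroup G) := Fintype.ofFinite _
    have hsub : (Finset.univ : Finset (P : Subgroup G)) ⊆ {1, a} := by
      intro z _
      simp only [Finset.mem_insert, Finset.mem_singleton]
      by_cases hz : z = 1
      · exact Or.inl hz
      · exact Or.inr (hcon z hz)
    have h1 := Finset.card_le_card hsub
    have h2 : ({1, a} : Finset (P : Subgroup G)).card ≤ 2 := Finset.card_le_two
    rw [Finset.card_univ, ← Nat.card_eq_fintype_card, hcard] at h1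
    omega
  set t₁ : G := (a : G) with ht₁
  set t₂ : G := (b : G) with ht₂
  have ht₁P : t₁ ∈ (P : Subgroup G) := a.2
  have ht₂P : t₂ ∈ (P : Subgroup G) := b.2
  have ht₁1 : t₁ ≠ 1 := fun h => ha1 (Subtype.ext h)
  have ht₂1 : t₂ ≠ 1 := fun h => hb1 (Subtype.ext h)
  have ht12 : t₂ ≠ t₁ := fun h => hba (Subtype.ext h)
  have hI : ∀ x ∈ (P : Subgroup G), orderOf x = 2 → x = t₁ ∨ x = t₂ ∨ x = t₁ * t₂ := by
    intro x hx hx2
    have hx1 : x ≠ 1 := by
      intro h1; rw [h1, orderOf_one] at hx2; omega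
    by_cases h1 : x = t₁
    · exact Or.inl h1
    by_cases h2 : x = t₂
    · exact Or.inr (Or.inl h2)
    right; right
    have := IsKleinFour.eq_mul_of_ne_all (G := (P : Subgroup G)) (x := a) (y := b)
      (z := ⟨x, hx⟩) ha1 hb1 (Ne.symm hba) (fun h => hx1 (congrArg Subtype.val h))
      (fun h => h1 (congrArg Subtype.val h)) (fun h => h2 (congrArg Subtype.val h))
    exact congrArg Subtype.val this
  have ht3P : t₁ * t₂ ∈ (P : Subgroup G) := mul_mem ht₁P ht₂P
  have ht31 : t₁ * t₂ ≠ 1 := by
    intro h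
    apply ht12
    have h1 : t₁ * t₁ = 1 := by rw [← pow_two]; exact hsq t₁ ht₁P
    have : t₁ * t₂ = t₁ * t₁ := by rw [h, h1]
    exact mul_left_cancel this
  have ht3t1 : t₁ * t₂ ≠ t₁ := fun h => ht₂1 (by simpa using h)
  have ht3t2 : t₁ * t₂ ≠ t₂ := fun h => ht₁1 (by simpa using h)
  constructor
  · intro h3
    have hle : normalizer ((P : Subgroup G) : Set G) ≤ centralizer ((P : Subgroup G) : Set G) := by
      by_contra hcon
      rw [SetLike.not_le_iff_exists] at hcon
      obtain ⟨n, hn, hnc⟩ := hcon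
      rw [mem_centralizer_iff] at hnc
      push Not at hnc
      obtain ⟨x, hx, hxn⟩ := hnc
      have hx1 : x ≠ 1 := by
        rintro rfl; simp at hxn
      have hmove : n * x * n⁻¹ ≠ x := by
        intro h
        apply hxn
        calc x * n = (n * x * n⁻¹) * n := by rw [h]
          _ = n * x := by group
      have hall := isConj_involutions_of_sylow P
        (involutions_conj_of_moved P hab hI hn hx (hord x hx hx1) hmove)
      have : Subsingleton {C : ConjClasses G // ∃ t : G, orderOf t = 2 ∧ ConjClasses.mk t = C} := by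
        constructor
        rintro ⟨C, t, ht, rfl⟩ ⟨C', t', ht', rfl⟩
        apply Subtype.ext
        exact ConjClasses.mk_eq_mk_iff_isConj.2 (hall t t' ht ht')
      have := Finite.card_le_one_iff_subsingleton.2 this
      omega
    exact ⟨_, MonoidHom.normal_ker _, MonoidHom.ker_transferSylow_isComplement' P hle⟩
  · rintro ⟨N, hNn, hc⟩
    -- conjugate elements of `P` are equal
    have hconj : ∀ x ∈ (P : Subgroup G), ∀ y ∈ (P : Subgroup G), IsConj x y → x = y := by
      intro x hx y hy hxy
      obtain ⟨g, hg⟩ := isConj_iff.1 hxy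
      obtain ⟨n, hn, u, hu, rfl⟩ := IsComplement'.exists_mul_eq hc g
      have h1 : n * u * x * (n * u)⁻¹ = n * x * n⁻¹ := by
        have : u * x = x * u := hab u hu x hx
        calc n * u * x * (n * u)⁻¹ = n * (u * x) * u⁻¹ * n⁻¹ := by group
          _ = n * (x * u) * u⁻¹ * n⁻¹ := by rw [this]
          _ = n * x * n⁻¹ := by group
      rw [h1] at hg
      have h2 : y * x⁻¹ ∈ N := by
        rw [← hg]
        have : n * x * n⁻¹ * x⁻¹ = n * (x * n⁻¹ * x⁻¹) := by group
        rw [this]
        exact mul_mem hn (hNn.conj_mem _ (inv_mem hn) _)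
      have h3 : y * x⁻¹ ∈ (P : Subgroup G) := mul_mem hy (inv_mem hx)
      have h4 : y * x⁻¹ ∈ N ⊓ (P : Subgroup G) := ⟨h2, h3⟩
      rw [disjoint_iff.1 hc.disjoint, mem_bot, mul_inv_eq_one] at h4
      exact h4.symm
    let τ : Fin 3 → G := ![t₁, t₂, t₁ * t₂]
    have hτP : ∀ i, τ i ∈ (P : Subgroup G) := by
      intro i; fin_cases i
      · exact ht₁P
      · exact ht₂P
      · exact ht3P
    have hτ2 : ∀ i, orderOf (τ i) = 2 := by
      intro i; fin_cases i
      · exact hord _ ht₁P ht₁1
      · exact hord _ ht₂P ht₂1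
      · exact hord _ ht3P ht31
    have hτinj : Function.Injective τ := by
      intro i j hij
      fin_cases i <;> fin_cases j <;> simp_all [τ]
    let f : Fin 3 → {C : ConjClasses G // ∃ t : G, orderOf t = 2 ∧ ConjClasses.mk t = C} :=
      fun i => ⟨ConjClasses.mk (τ i), τ i, hτ2 i, rfl⟩
    have hf : Function.Bijective f := by
      constructor
      · intro i j hij
        have h1 : ConjClasses.mk (τ i) = ConjClasses.mk (τ j) := congrArg Subtype.val hij
        rw [ConjClasses.mk_eq_mk_iff_isConj] at h1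
        exact hτinj (hconj _ (hτP i) _ (hτP j) h1)
      · rintro ⟨C, t, ht, rfl⟩
        have ht1 : t ^ 2 ^ 1 = 1 := by rw [pow_one, ← ht]; exact pow_orderOf_eq_one t
        obtain ⟨c, hcP⟩ := Cfsg.Agent.Lib.Helper13.exists_conj_mem_sylow P t ⟨1, ht1⟩
        have hc2 : orderOf (c * t * c⁻¹) = 2 := ((MulAut.conj c).orderOf_eq t).trans ht
        have hconj' : IsConj t (c * t * c⁻¹) := isConj_iff.2 ⟨c, rfl⟩
        rcases hI _ hcP hc2 with h | h | h
        · refine ⟨0, Subtype.ext ?_⟩
          change ConjClasses.mk t₁ = ConjClasses.mk t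
          rw [ConjClasses.mk_eq_mk_iff_isConj, ← h]; exact hconj'.symm
        · refine ⟨1, Subtype.ext ?_⟩
          change ConjClasses.mk t₂ = ConjClasses.mk t
          rw [ConjClasses.mk_eq_mk_iff_isConj, ← h]; exact hconj'.symm
        · refine ⟨2, Subtype.ext ?_⟩
          change ConjClasses.mk (t₁ * t₂) = ConjClasses.mk t
          rw [ConjClasses.mk_eq_mk_iff_isConj, ← h]; exact hconj'.symm
    rw [← Nat.card_eq_of_bijective f hf]
    simp

end Cfsg.Agent.S0203
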