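import Cfsg.Statements.S1905
import Cfsg.Agent.Lib.Helper9.Conj
import Cfsg.Agent.Lib.Helper13.Sylow

set_option autoImplicit false
open Cfsg

namespace Cfsg.Agent.S1905

open Subgroup

section Dihedral

variable {S : Type*} [Group S]

theorem inv_eq_self_of_sq {a : S} (ha : a ^ 2 = 1) : a⁻¹ = a := by
  rw [inv_eq_iff_mul_eq_one, ← sq, ha]

/-- an involution inverting `z` inverts its powers -/
theorem conj_pow_of_invert {a z : S} (ha : a ^ 2 = 1) (hconj : a * z * a = z⁻¹) (n : ℕ) :
    a * z ^ n * a = (z ^ n)⁻¹ := by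
  have hainv := inv_eq_self_of_sq ha
  have h1 : a * z * a⁻¹ = z⁻¹ := by rw [hainv]; exact hconj
  have h2 : a * z ^ n * a⁻¹ = (z ^ n)⁻¹ := by
    rw [← conj_pow, h1, inv_pow]
  rw [hainv] at h2
  exact h2

/-- Two involutions with product of odd order are conjugate by an involution-or-trivial element. -/
theorem exists_conj_of_odd {a b : S} (ha : a ^ 2 = 1) (hb : b ^ 2 = 1) (hodd : Odd (orderOf (a * b))) :
    ∃ w : S, w ^ 2 = 1 ∧ w * a * w⁻¹ = b := by
  obtain ⟨k, hk⟩ := hodd
  have hainv := inv_eq_self_of_sq ha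
  have hbinv := inv_eq_self_of_sq hb
  obtain ⟨z, hz⟩ : ∃ z, z = a * b := ⟨_, rfl⟩
  rw [← hz] at hk
  have hzinv : z⁻¹ = b * a := by rw [hz, mul_inv_rev, hainv, hbinv]
  have hconj : a * z * a = z⁻¹ := by
    rw [hzinv, hz]
    calc a * (a * b) * a = (a * a) * b * a := by group
      _ = b * a := by rw [← sq, ha, one_mul]
  have hconjk := conj_pow_of_invert ha hconj
  have hzpow : z ^ (k + 1) * z ^ (k + 1) = z := by
    rw [← pow_add]
    have : k + 1 + (k + 1) = orderOf z + 1 := by rw [hk]; ring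
    rw [this, pow_succ, pow_orderOf_eq_one, one_mul]
  refine ⟨a * z ^ (k + 1), ?_, ?_⟩
  · rw [sq]
    calc a * z ^ (k + 1) * (a * z ^ (k + 1)) = (a * z ^ (k + 1) * a) * z ^ (k + 1) := by group
      _ = 1 := by rw [hconjk, inv_mul_cancel]
  · calc a * z ^ (k + 1) * a * (a * z ^ (k + 1))⁻¹
        = (a * z ^ (k + 1) * a) * (z ^ (k + 1))⁻¹ * a⁻¹ := by group
      _ = (z ^ (k + 1))⁻¹ * (z ^ (k + 1))⁻¹ * a := by rw [hconjk, hainv]
      _ = (z ^ (k + 1) * z ^ (k + 1))⁻¹ * a := by rw [mul_inv_rev]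
      _ = z⁻¹ * a := by rw [hzpow]
      _ = b := by rw [hzinv, mul_assoc, ← sq, ha, mul_one]

/-- Two involutions with product of even order commute with a common involution. -/
theorem exists_comm_of_even {a b : S} (ha : a ^ 2 = 1) (hb : b ^ 2 = 1)
    (heven : Even (orderOf (a * b))) (hpos : 0 < orderOf (a * b)) :
    ∃ c : S, orderOf c = 2 ∧ c * a = a * c ∧ c * b = b * c := by
  obtain ⟨k, hk⟩ := heven
  have hainv := inv_eq_self_of_sq ha
  have hbinv := inv_eq_self_of_sq hb
  obtain ⟨z, hz⟩ : ∃ z, z = a * b := ⟨_, rfl⟩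
  rw [← hz] at hk hpos
  have hzinv : z⁻¹ = b * a := by rw [hz, mul_inv_rev, hainv, hbinv]
  have hconja : a * z * a = z⁻¹ := by
    rw [hzinv, hz]
    calc a * (a * b) * a = (a * a) * b * a := by group
      _ = b * a := by rw [← sq, ha, one_mul]
  have hconjb : b * z * b = z⁻¹ := by
    rw [hzinv, hz]
    calc b * (a * b) * b = b * a * (b * b) := by group
      _ = b * a := by rw [← sq, hb, mul_one]
  have hkpos : 0 < k := by omega
  have hc2 : (z ^ k) ^ 2 = 1 := by
    rw [← pow_mul, mul_comm, two_mul, ← hk, pow_orderOf_eq_one]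
  have hcinv : (z ^ k)⁻¹ = z ^ k := inv_eq_self_of_sq hc2
  have hc1 : z ^ k ≠ 1 := by
    intro h
    have := orderOf_dvd_of_pow_eq_one h
    have := Nat.le_of_dvd hkpos this
    omega
  haveI : Fact (Nat.Prime 2) := ⟨Nat.prime_two⟩
  refine ⟨z ^ k, orderOf_eq_prime hc2 hc1, ?_, ?_⟩
  · have h1 : a * z ^ k * a = z ^ k := by
      rw [conj_pow_of_invert ha hconja, hcinv]
    calc z ^ k * a = (a * z ^ k * a) * a := by rw [h1]
      _ = a * z ^ k * (a * a) := by group
      _ = a * z ^ k := by rw [← sq, ha, mul_one]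
  · have h1 : b * z ^ k * b = z ^ k := by
      rw [conj_pow_of_invert hb hconjb, hcinv]
    calc z ^ k * b = (b * z ^ k * b) * b := by rw [h1]
      _ = b * z ^ k * (b * b) := by group
      _ = b * z ^ k := by rw [← sq, hb, mul_one]

end Dihedral

section Main

variable {S : Type*} [Group S] [Finite S] {M : Subgroup S}

theorem sq_eq_one_of_orderOf {x : S} (h : orderOf x = 2) : x ^ 2 = 1 := by
  rw [← h]; exact pow_orderOf_eq_one x

theorem orderOf_conj_eq (g x : S) : orderOf (g * x * g⁻¹) = orderOf x := by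
  have : g * x * g⁻¹ = MulAut.conj g x := by simp [MulAut.conj_apply]
  rw [this]
  exact MulEquiv.orderOf_eq (MulAut.conj g) x

/-- An involution not conjugate to an involution of `M` lies in `M`. -/
theorem mem_of_not_isConj (hC : ∀ i ∈ M, orderOf i = 2 → centralizer ({i} : Set S) ≤ M) {u v : S}
    (hu : u ∈ M) (hu2 : orderOf u = 2) (hv2 : orderOf v = 2) (hnc : ¬ IsConj u v) : v ∈ M := by
  have hu' := sq_eq_one_of_orderOf hu2
  have hv' := sq_eq_one_of_orderOf hv2
  rcases Nat.even_or_odd (orderOf (u * v)) with he | ho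
  · obtain ⟨c, hc2, hcu, hcv⟩ := exists_comm_of_even hu' hv' he (orderOf_pos _)
    have hcM : c ∈ M := hC u hu hu2 (mem_centralizer_singleton_iff.mpr hcu)
    exact hC c hcM hc2 (mem_centralizer_singleton_iff.mpr hcv.symm)
  · obtain ⟨w, -, hw⟩ := exists_conj_of_odd hu' hv' ho
    exact absurd (isConj_iff.mpr ⟨w, hw⟩) hnc

/-- If the product of an involution of `M` with an involution outside `M` has odd order. -/
theorem odd_of_not_mem (hC : ∀ i ∈ M, orderOf i = 2 → centralizer ({i} : Set S) ≤ M) {u v : S}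
    (hu : u ∈ M) (hu2 : orderOf u = 2) (hv2 : orderOf v = 2) (hv : v ∉ M) :
    Odd (orderOf (u * v)) := by
  have hu' := sq_eq_one_of_orderOf hu2
  have hv' := sq_eq_one_of_orderOf hv2
  rcases Nat.even_or_odd (orderOf (u * v)) with he | ho
  · exfalso
    obtain ⟨c, hc2, hcu, hcv⟩ := exists_comm_of_even hu' hv' he (orderOf_pos _)
    have hcM : c ∈ M := hC u hu hu2 (mem_centralizer_singleton_iff.mpr hcu)
    exact hv (hC c hcM hc2 (mem_centralizer_singleton_iff.mpr hcv.symm))
  · exact ho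

theorem exists_involution (hM : Even (Nat.card M)) : ∃ u ∈ M, orderOf u = 2 := by
  haveI : Fact (Nat.Prime 2) := ⟨Nat.prime_two⟩
  obtain ⟨x, hx⟩ := exists_prime_orderOf_dvd_card' 2 (even_iff_two_dvd.mp hM)
  exact ⟨x, x.2, by rw [Subgroup.orderOf_coe]; exact hx⟩

theorem all_isConj (hM : Even (Nat.card M))
    (hC : ∀ i ∈ M, orderOf i = 2 → centralizer ({i} : Set S) ≤ M)
    (hcore : Odd (Nat.card M.normalCore)) :
    ∀ x y : S, orderOf x = 2 → orderOf y = 2 → IsConj x y := by
  obtain ⟨u, hu, hu2⟩ := exists_involution hM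
  have key : ∀ v : S, orderOf v = 2 → IsConj u v := by
    intro v hv2
    by_contra hnc
    have hcoreM : v ∈ M.normalCore := by
      intro g
      apply mem_of_not_isConj hC hu hu2 (by rw [orderOf_conj_eq]; exact hv2)
      intro hc
      apply hnc
      exact hc.trans (isConj_iff.mpr ⟨g⁻¹, by group⟩)
    have h2 : orderOf (⟨v, hcoreM⟩ : ↥M.normalCore) = 2 := by
      rw [← Subgroup.orderOf_coe]; exact hv2
    have h3 : 2 ∣ Nat.card M.normalCore := by
      rw [← h2]; exact orderOf_dvd_natCard _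
    exact (Nat.not_even_iff_odd.mpr hcore) (even_iff_two_dvd.mpr h3)
  intro x y hx hy
  exact (key x hx).symm.trans (key y hy)

end Main

section Sylow2

variable {S : Type*} [Group S] [Finite S] {M : Subgroup S}

/-- All involutions of `M` are `M`-conjugate to the central involution `I` of a Sylow 2-subgroup. -/
theorem exists_conj_in_M (hC : ∀ i ∈ M, orderOf i = 2 → centralizer ({i} : Set S) ≤ M)
    (hall : ∀ x y : S, orderOf x = 2 → orderOf y = 2 → IsConj x y)
    (X : Sylow 2 M) (I : M)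
    (hI : I ∈ (center ↥(X : Subgroup ↥M)).map (X : Subgroup ↥M).subtype) (hI2 : orderOf I = 2)
    (hN : normalizer (((X : Subgroup M).map M.subtype : Subgroup S) : Set S) ≤ M)
    (t : S) (ht : t ∈ M) (ht2 : orderOf t = 2) : ∃ m ∈ M, m * (I : S) * m⁻¹ = t := by
  haveI : Fact (Nat.Prime 2) := ⟨Nat.prime_two⟩
  have hIS2 : orderOf (I : S) = 2 := by rw [Subgroup.orderOf_coe]; exact hI2
  obtain ⟨g, hg⟩ := isConj_iff.mp (hall (I : S) t hIS2 ht2)
  obtain ⟨XS, hXS⟩ : ∃ XS : Subgroup S, XS = (X : Subgroup M).map M.subtype := ⟨_, rfl⟩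
  rw [← hXS] at hN
  have hXSM : XS ≤ M := by rw [hXS]; exact map_subtype_le _
  have hXScomm : ∀ x ∈ XS, x * (I : S) = (I : S) * x := by
    intro x hx
    rw [hXS] at hx
    obtain ⟨x', hx', rfl⟩ := hx
    obtain ⟨i, hi, rfl⟩ := hI
    have h1 := (mem_center_iff.mp hi) ⟨x', hx'⟩
    have h2 := congrArg (fun y : ↥(X : Subgroup ↥M) => ((y : ↥M) : S)) h1
    simpa using h2
  have hle : XS.map (MulAut.conj g).toMonoidHom ≤ M := by
    rintro y ⟨x, hx, rfl⟩
    apply hC t ht ht2
    rw [mem_centralizer_singleton_iff]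
    simp only [MulEquiv.coe_toMonoidHom, MulAut.conj_apply]
    rw [← hg]
    calc g * x * g⁻¹ * (g * (I : S) * g⁻¹) = g * (x * (I : S)) * g⁻¹ := by group
      _ = g * ((I : S) * x) * g⁻¹ := by rw [hXScomm x hx]
      _ = g * (I : S) * g⁻¹ * (g * x * g⁻¹) := by group
  -- the conjugate is a Sylow 2-subgroup of `M`
  have hXp : IsPGroup 2 XS := by rw [hXS]; exact X.2.map _
  have hY : IsPGroup 2 ((XS.map (MulAut.conj g).toMonoidHom).subgroupOf M) :=
    (hXp.map _).comap_subtype
  obtain ⟨Q, hQ⟩ := hY.exists_le_sylow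
  obtain ⟨m, hm⟩ := MulAction.exists_smul_eq M X Q
  have hcardY : Nat.card ((XS.map (MulAut.conj g).toMonoidHom).subgroupOf M) =
      Nat.card (X : Subgroup M) := by
    rw [Nat.card_congr (subgroupOfEquivOfLe hle).toEquiv, Cfsg.Agent.Lib.Helper9.card_conjMap,
      hXS]
    exact (Nat.card_congr ((X : Subgroup M).equivMapOfInjective _
      M.subtype_injective).toEquiv).symm
  have hcardQ : Nat.card (Q : Subgroup M) = Nat.card (X : Subgroup M) := by
    rw [Sylow.card_eq_multiplicity, Sylow.card_eq_multiplicity]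
  have hYQ : (XS.map (MulAut.conj g).toMonoidHom).subgroupOf M = (Q : Subgroup M) :=
    Subgroup.eq_of_le_of_card_ge hQ (by rw [hcardY, hcardQ])
  -- `m⁻¹ g` normalizes `XS`
  have hnorm : (m : S)⁻¹ * g ∈ normalizer (XS : Set S) := by
    apply Cfsg.Agent.Lib.Helper9.mem_normalizer_of_conjMap_eq_self
    apply Cfsg.Agent.Lib.Helper9.conjMap_eq_of_le
    rintro y ⟨x, hx, rfl⟩
    have h1 : g * x * g⁻¹ ∈ XS.map (MulAut.conj g).toMonoidHom :=
      Cfsg.Agent.Lib.Helper9.conj_mem_conjMap hx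
    have h2 : (⟨g * x * g⁻¹, hle h1⟩ : ↥M) ∈ (Q : Subgroup M) := by
      rw [← hYQ, mem_subgroupOf]; exact h1
    rw [← hm, Cfsg.Agent.Lib.Helper13.mem_smul_sylow_iff] at h2
    rw [hXS]
    refine ⟨_, h2, ?_⟩
    simp only [MulEquiv.coe_toMonoidHom, MulAut.conj_apply, Subgroup.subtype_apply]
    push_cast
    group
  have hgM : g ∈ M := by
    have h1 := hN hnorm
    have h2 : g = (m : S) * ((m : S)⁻¹ * g) := by group
    rw [h2]
    exact mul_mem m.2 h1
  exact ⟨g, hgM, hg⟩

end Sylow2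

/-- Let M be a subgroup of even order of a finite group S such that M contains the centralizer in S of each of its involutions and the normal core of M in S has odd order. Then all involutions of S are conjugate. If moreover N_S(X) ≤ M for a Sylow 2-subgroup X of M and I is an involution in the centre of X, then all involutions of M are conjugate in M and M = M₀ C_M(I) for some subgroup M₀ of M of odd order. -/
theorem result {S : Type*} [Group S] [Finite S] (M : Subgroup S) (hM : Even (Nat.card M))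
    (hC : ∀ i ∈ M, orderOf i = 2 → Subgroup.centralizer ({i} : Set S) ≤ M) (hcore : Odd (Nat.card M.normalCore)) :
    (∀ x y : S, orderOf x = 2 → orderOf y = 2 → IsConj x y) ∧
      ∀ (X : Sylow 2 M) (I : M), I ∈ (Subgroup.center ↥(X : Subgroup ↥M)).map (X : Subgroup ↥M).subtype → orderOf I = 2 →
        Subgroup.normalizer (((X : Subgroup M).map M.subtype : Subgroup S) : Set S) ≤ M →
        (∀ x y : M, orderOf x = 2 → orderOf y = 2 → IsConj x y) ∧
          ∃ M₀ : Subgroup M, Odd (Nat.card M₀) ∧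
            ∀ m : M, ∃ a ∈ M₀, ∃ c ∈ Subgroup.centralizer ({I} : Set M), m = a * c := by
  haveI : Fact (Nat.Prime 2) := ⟨Nat.prime_two⟩
  have hall := all_isConj hM hC hcore
  refine ⟨hall, ?_⟩
  intro X I hI hI2 hN
  have hIS2 : orderOf (I : S) = 2 := by rw [Subgroup.orderOf_coe]; exact hI2
  have hIsq : (I : S) ^ 2 = 1 := sq_eq_one_of_orderOf hIS2
  have hconj := exists_conj_in_M hC hall X I hI hI2 hN
  -- an element conjugating `I` to an involution of `M` lies in `M`
  have hmemM : ∀ a : S, a * (I : S) * a⁻¹ ∈ M → a ∈ M := by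
    intro a ha
    obtain ⟨m, hm, hma⟩ := hconj (a * (I : S) * a⁻¹) ha (by rw [orderOf_conj_eq]; exact hIS2)
    have h1 : m⁻¹ * a ∈ centralizer ({(I : S)} : Set S) := by
      rw [mem_centralizer_singleton_iff]
      calc m⁻¹ * a * (I : S) = m⁻¹ * (a * (I : S) * a⁻¹) * a := by group
        _ = m⁻¹ * (m * (I : S) * m⁻¹) * a := by rw [hma]
        _ = (I : S) * (m⁻¹ * a) := by group
    have h2 := hC (I : S) I.2 hIS2 h1
    have h3 : a = m * (m⁻¹ * a) := by group
    rw [h3]
    exact mul_mem hm h2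
  constructor
  · have key : ∀ x : M, orderOf x = 2 → IsConj I x := by
      intro x hx
      obtain ⟨m, hm, hmx⟩ := hconj (x : S) x.2 (by rw [Subgroup.orderOf_coe]; exact hx)
      exact isConj_iff.mpr ⟨⟨m, hm⟩, Subtype.ext (by push_cast; exact hmx)⟩
    intro x y hx hy
    exact (key x hx).symm.trans (key y hy)
  · have hMtop : M ≠ ⊤ := by
      rintro rfl
      have h1 : (⊤ : Subgroup S).normalCore = ⊤ := Subgroup.normalCore_eq_self ⊤
      rw [h1] at hcore
      exact (Nat.not_even_iff_odd.mpr hcore) hM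
    obtain ⟨g, hg⟩ : ∃ g : S, g ∉ M := by
      by_contra h
      push Not at h
      exact hMtop (eq_top_iff.mpr fun x _ => h x)
    obtain ⟨u, hu⟩ : ∃ u : S, u = g * (I : S) * g⁻¹ := ⟨_, rfl⟩
    have hu2 : orderOf u = 2 := by rw [hu, orderOf_conj_eq]; exact hIS2
    have huM : u ∉ M := fun h => hg (hmemM g (hu ▸ h))
    have hodd := odd_of_not_mem hC I.2 hIS2 hu2 huM
    obtain ⟨w, hw2, hwu⟩ := exists_conj_of_odd hIsq (sq_eq_one_of_orderOf hu2) hodd
    have hwM : w ∉ M := fun h => huM (by rw [← hwu]; exact mul_mem (mul_mem h I.2) (inv_mem h))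
    have hwinv : w⁻¹ = w := inv_eq_self_of_sq hw2
    refine ⟨(M ⊓ M.map (MulAut.conj w).toMonoidHom).subgroupOf M, ?_, ?_⟩
    · by_contra hnodd
      rw [Nat.not_odd_iff_even] at hnodd
      obtain ⟨s, hs⟩ := exists_prime_orderOf_dvd_card' 2 (even_iff_two_dvd.mp hnodd)
      have hsD : ((s : ↥M) : S) ∈ M ⊓ M.map (MulAut.conj w).toMonoidHom := by
        have := s.2
        rwa [mem_subgroupOf] at this
      have hs2 : orderOf ((s : ↥M) : S) = 2 := by
        rw [Subgroup.orderOf_coe, Subgroup.orderOf_coe]; exact hs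
      obtain ⟨hsM, hsW⟩ := mem_inf.mp hsD
      rw [Cfsg.Agent.Lib.Helper9.mem_conjMap] at hsW
      -- `w⁻¹ s w ∈ M` is an involution, conjugate in `M` to `s`
      obtain ⟨m₁, hm₁, hms⟩ := hconj _ hsM hs2
      obtain ⟨m₂, hm₂, hmw⟩ := hconj _ hsW
        (by have := orderOf_conj_eq w⁻¹ ((s : ↥M) : S); rw [inv_inv] at this; rw [this]; exact hs2)
      -- `w m₂ m₁⁻¹` centralizes `s`
      have h1 : w * m₂ * m₁⁻¹ ∈ centralizer ({((s : ↥M) : S)} : Set S) := by
        rw [mem_centralizer_singleton_iff]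
        calc w * m₂ * m₁⁻¹ * ((s : ↥M) : S)
            = w * m₂ * m₁⁻¹ * (m₁ * (I : S) * m₁⁻¹) := by rw [hms]
          _ = w * (m₂ * (I : S) * m₂⁻¹) * (m₂ * m₁⁻¹) := by group
          _ = w * (w⁻¹ * ((s : ↥M) : S) * w) * (m₂ * m₁⁻¹) := by rw [hmw]
          _ = ((s : ↥M) : S) * (w * m₂ * m₁⁻¹) := by group
      have h2 := hC _ hsM hs2 h1
      apply hwM
      have h3 : w = (w * m₂ * m₁⁻¹) * (m₁ * m₂⁻¹) := by group
      rw [h3]
      exact mul_mem h2 (mul_mem hm₁ (inv_mem hm₂))
    · intro m'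
      obtain ⟨t, ht⟩ : ∃ t : S, t = (m' : S) * (I : S) * (m' : S)⁻¹ := ⟨_, rfl⟩
      have htM : t ∈ M := by rw [ht]; exact mul_mem (mul_mem m'.2 I.2) (inv_mem m'.2)
      have ht2 : orderOf t = 2 := by rw [ht, orderOf_conj_eq]; exact hIS2
      have hodd' := odd_of_not_mem hC htM ht2 hu2 huM
      obtain ⟨wt, hwt2, hwtu⟩ := exists_conj_of_odd (sq_eq_one_of_orderOf ht2)
        (sq_eq_one_of_orderOf hu2) hodd'
      have hwtinv : wt⁻¹ = wt := inv_eq_self_of_sq hwt2
      -- `a = wt * w` conjugates `I` to `t`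
      have hat : (wt * w) * (I : S) * (wt * w)⁻¹ = t := by
        calc (wt * w) * (I : S) * (wt * w)⁻¹ = wt * (w * (I : S) * w⁻¹) * wt⁻¹ := by group
          _ = wt * u * wt⁻¹ := by rw [hwu]
          _ = wt * (wt * t * wt⁻¹) * wt⁻¹ := by rw [hwtu]
          _ = (wt * wt) * t * (wt⁻¹ * wt⁻¹) := by group
          _ = t := by rw [hwtinv, ← sq, hwt2]; group
      have haM : wt * w ∈ M := hmemM _ (by rw [hat]; exact htM)
      have haW : wt * w ∈ M.map (MulAut.conj w).toMonoidHom := by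
        rw [Cfsg.Agent.Lib.Helper9.mem_conjMap]
        have h1 : w⁻¹ * (wt * w) * w = (wt * w)⁻¹ := by
          rw [mul_inv_rev, hwinv, hwtinv]
          calc w * (wt * w) * w = w * wt * (w * w) := by group
            _ = w * wt := by rw [← sq, hw2, mul_one]
        rw [h1]
        exact inv_mem haM
      have hc : (wt * w)⁻¹ * (m' : S) ∈ centralizer ({(I : S)} : Set S) := by
        rw [mem_centralizer_singleton_iff]
        calc (wt * w)⁻¹ * (m' : S) * (I : S)
            = (wt * w)⁻¹ * ((m' : S) * (I : S) * (m' : S)⁻¹) * (m' : S) := by group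
          _ = (wt * w)⁻¹ * ((wt * w) * (I : S) * (wt * w)⁻¹) * (m' : S) := by rw [← ht, hat]
          _ = (I : S) * ((wt * w)⁻¹ * (m' : S)) := by group
      have hcM : (wt * w)⁻¹ * (m' : S) ∈ M := mul_mem (inv_mem haM) m'.2
      refine ⟨⟨wt * w, haM⟩, ?_, ⟨(wt * w)⁻¹ * (m' : S), hcM⟩, ?_, ?_⟩
      · rw [mem_subgroupOf]
        exact mem_inf.mpr ⟨haM, haW⟩
      · rw [mem_centralizer_singleton_iff]
        apply Subtype.ext
        push_cast
        exact mem_centralizer_singleton_iff.mp hc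
      · apply Subtype.ext
        push_cast
        group

end Cfsg.Agent.S1905
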