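import Cfsg.Statements.S0213
import Cfsg.Agent.S1875

set_option autoImplicit false
open Cfsg

namespace Cfsg.Agent.S0213

/-- Thompson Order Formula, two-class case: if every involution of the finite group G is conjugate to exactly one of the non-conjugate involutions x₁, x₂, and nᵢ is the number of pairs (u, v) with u conjugate to x₁, v conjugate to x₂ and xᵢ in the cyclic group generated by uv, then |G| = |C(x₂)| n₁ + |C(x₁)| n₂. -/
theorem result {G : Type*} [Group G] [Finite G] (x₁ x₂ : G) (h₁ : orderOf x₁ = 2) (h₂ : orderOf x₂ = 2) (hnc : ¬ IsConj x₁ x₂) (hall : ∀ t : G, orderOf t = 2 → IsConj x₁ t ∨ IsConj x₂ t) : Nat.card G = Nat.card (Subgroup.centralizer ({x₂} : Set G)) * Nat.card {p : G × G // IsConj x₁ p.1 ∧ IsConj x₂ p.2 ∧ x₁ ∈ Subgroup.zpowers (p.1 * p.2)} + Nat.card (Subgroup.centralizer ({x₁} : Set G)) * Nat.card {p : G × G // IsConj x₁ p.1 ∧ IsConj x₂ p.2 ∧ x₂ ∈ Subgroup.zpowers (p.1 * p.2)} := by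
  classical
  have hne : x₁ ≠ x₂ := fun h => hnc (h ▸ IsConj.refl x₁)
  have hWrep : ∀ t : G, orderOf t = 2 → ∃ w ∈ ({x₁, x₂} : Finset G), IsConj t w ∧
      ∀ w' ∈ ({x₁, x₂} : Finset G), IsConj t w' → w' = w := by
    intro t ht
    rcases hall t ht with h | h
    · refine ⟨x₁, by simp, h.symm, ?_⟩
      intro w' hw' hc
      rw [Finset.mem_insert, Finset.mem_singleton] at hw'
      rcases hw' with rfl | rfl
      · rfl
      · exact absurd (h.trans hc) hnc
    · refine ⟨x₂, by simp, h.symm, ?_⟩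
      intro w' hw' hc
      rw [Finset.mem_insert, Finset.mem_singleton] at hw'
      rcases hw' with rfl | rfl
      · exact absurd ((h.trans hc).symm) hnc
      · rfl
  have hW2 : ∀ w ∈ ({x₁, x₂} : Finset G), orderOf w = 2 := by
    intro w hw
    rw [Finset.mem_insert, Finset.mem_singleton] at hw
    rcases hw with rfl | rfl
    · exact h₁
    · exact h₂
  have key := Cfsg.Agent.S1875.result x₁ x₂ h₁ h₂ hnc {x₁, x₂} hW2 hWrep
  rw [Finset.sum_pair hne] at key
  have hc1 : (Nat.card ↥(Subgroup.centralizer ({x₁} : Set G)) : ℚ) ≠ 0 := by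
    exact_mod_cast Nat.card_pos.ne'
  have hc2 : (Nat.card ↥(Subgroup.centralizer ({x₂} : Set G)) : ℚ) ≠ 0 := by
    exact_mod_cast Nat.card_pos.ne'
  have key2 : (Nat.card G : ℚ) = ((Nat.card (Subgroup.centralizer ({x₂} : Set G)) * Nat.card {p : G × G // IsConj x₁ p.1 ∧ IsConj x₂ p.2 ∧ x₁ ∈ Subgroup.zpowers (p.1 * p.2)} + Nat.card (Subgroup.centralizer ({x₁} : Set G)) * Nat.card {p : G × G // IsConj x₁ p.1 ∧ IsConj x₂ p.2 ∧ x₂ ∈ Subgroup.zpowers (p.1 * p.2)} : ℕ) : ℚ) := by
    rw [key]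
    push_cast
    field_simp
  exact_mod_cast key2

end Cfsg.Agent.S0213
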