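import Cfsg.Statements.S0218
import Cfsg.Agent.Lib.Helper2.QuaternionInvolution

set_option autoImplicit false
open Cfsg

namespace Cfsg.Agent.S0218

/-- The generalized quaternion group of order 2^(n+3) contains exactly one element of order 2. -/
theorem result (n : ℕ) : Nat.card {x : QuaternionGroup (2 ^ (n + 1)) // orderOf x = 2} = 1 := by
  haveI : NeZero (2 ^ (n + 1)) := ⟨by positivity⟩
  exact Cfsg.Agent.Lib.Helper2.quaternion_card_involutions (2 ^ (n + 1))

end Cfsg.Agent.S0218
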