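import Cfsg.Statements.S0244
import Mathlib

set_option autoImplicit false
open Cfsg

namespace Cfsg.Agent.S0244

/-- Sp_2 = SL_2: a matrix on Fin 1 ⊕ Fin 1 lies in Mathlib's symplectic group iff its determinant is 1. -/
theorem result {R : Type*} [CommRing R] (A : Matrix (Fin 1 ⊕ Fin 1) (Fin 1 ⊕ Fin 1) R) : A ∈ Matrix.symplecticGroup (Fin 1) R ↔ A.det = 1 := by
  rw [SymplecticGroup.mem_iff]
  -- determinant of a matrix on `Fin 1 ⊕ Fin 1`
  have hdet : A.det = A (Sum.inl 0) (Sum.inl 0) * A (Sum.inr 0) (Sum.inr 0) -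
      A (Sum.inl 0) (Sum.inr 0) * A (Sum.inr 0) (Sum.inl 0) := by
    rw [← Matrix.det_submatrix_equiv_self (finSumFinEquiv (m := 1) (n := 1)).symm A,
      Matrix.det_fin_two]
    simp only [Matrix.submatrix_apply]
    have h0 : (finSumFinEquiv (m := 1) (n := 1)).symm 0 = Sum.inl 0 := by decide
    have h1 : (finSumFinEquiv (m := 1) (n := 1)).symm 1 = Sum.inr 0 := by decide
    rw [h0, h1]
  have hJ : ∀ i j, (A * Matrix.J (Fin 1) R * A.transpose) i j =
      ∑ k, ∑ l, A i l * Matrix.J (Fin 1) R l k * A j k := by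
    intro i j
    rw [Matrix.mul_apply]
    apply Finset.sum_congr rfl
    intro k _
    rw [Matrix.mul_apply, Finset.sum_mul]
    rfl
  constructor
  · intro h
    have h1 := congrFun (congrFun h (Sum.inl 0)) (Sum.inr 0)
    rw [hJ] at h1
    simp [Fintype.sum_sum_type, Matrix.J, Matrix.fromBlocks] at h1
    rw [hdet]
    linear_combination (-1 : R) * h1
  · intro h
    rw [hdet] at h
    ext i j
    rw [hJ]
    rcases i with i | i <;> rcases j with j | j <;>
      simp [Fintype.sum_sum_type, Matrix.J, Matrix.fromBlocks, Subsingleton.elim i 0,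
        Subsingleton.elim j 0]
    · ring
    · linear_combination (-1 : R) * h
    · linear_combination h
    · ring

end Cfsg.Agent.S0244
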