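import Mathlib
import Cfsg.Statements.S0257
import Cfsg.Agent.Lib.Helper3.CardSL
import Cfsg.Agent.Lib.Helper3.SLTransport

set_option autoImplicit false
open Cfsg

namespace Cfsg.Agent.S0257

open Cfsg.Agent.Lib.Helper3

abbrev G3 := Matrix.SpecialLinearGroup (Fin 2) (ZMod 3)

def A : G3 := ⟨!![0, -1; 1, 0], by decide⟩
def X : G3 := ⟨!![1, 1; 1, -1], by decide⟩

def f0 : QuaternionGroup 2 → G3
  | .a i => A ^ i.val
  | .xa i => X * A ^ i.val

set_option maxRecDepth 100000 in
lemma f0_mul : ∀ x y : QuaternionGroup 2, f0 (x * y) = f0 x * f0 y := by decide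

set_option maxRecDepth 100000 in
lemma f0_inj : ∀ x y : QuaternionGroup 2, f0 x = f0 y → x = y := by decide

set_option maxRecDepth 100000 in
lemma f0_normal : ∀ g : G3, ∀ x : QuaternionGroup 2,
    ∃ y : QuaternionGroup 2, f0 y = g * f0 x * g⁻¹ := by decide

def f : QuaternionGroup 2 →* G3 := MonoidHom.mk' f0 f0_mul

lemma f_injective : Function.Injective f := fun x y h => f0_inj x y h

lemma exists_Q3 : ∃ Q : Subgroup G3, Q.Normal ∧ Q.index = 3 ∧ Nonempty (Q ≃* QuaternionGroup 2) := by
  refine ⟨f.range, ⟨?_⟩, ?_, ⟨(MonoidHom.ofInjective f_injective).symm⟩⟩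
  · rintro _ ⟨x, rfl⟩ g
    obtain ⟨y, hy⟩ := f0_normal g x
    exact ⟨y, hy⟩
  · have h1 : f.range.index * Nat.card f.range = Nat.card G3 := f.range.index_mul_card
    have h2 : Nat.card f.range = 8 := by
      rw [← Nat.card_congr (MonoidHom.ofInjective f_injective).toEquiv, Nat.card_eq_fintype_card,
        QuaternionGroup.card]
    have h3 : Nat.card G3 = 24 := by
      rw [CardSL.card_SL2, ZMod.card]; rfl
    rw [h2, h3] at h1
    omega

/-- SL_2(3) has a normal subgroup of index 3 isomorphic to the quaternion group of order 8, and its centre has order 2. -/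
theorem result {F : Type*} [Field F] [Fintype F] (hF : Fintype.card F = 3) : (∃ Q : Subgroup (Matrix.SpecialLinearGroup (Fin 2) F), Q.Normal ∧ Q.index = 3 ∧ Nonempty (Q ≃* QuaternionGroup 2)) ∧ Nat.card (Subgroup.center (Matrix.SpecialLinearGroup (Fin 2) F)) = 2 := by
  constructor
  · exact SLTransport.exists_normal_of_equiv (SLTransport.equivZMod Nat.prime_three hF (Fin 2)) 3
      exists_Q3
  · have h3 : (3 : F) = 0 := by
      have := Nat.cast_card_eq_zero F
      rw [hF] at this
      exact_mod_cast this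
    have h2 : (2 : F) ≠ 0 := by
      intro h
      have : (1 : F) = 0 := by linear_combination h3 - h
      exact one_ne_zero this
    exact CardSL.card_center_SL2 h2

end Cfsg.Agent.S0257
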