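import Mathlib
import Cfsg.Statements.S0267
import Cfsg.Agent.S0266

set_option autoImplicit false
open Cfsg

namespace Cfsg.Agent.S0267

open Matrix Projectivization Cfsg.Agent.S0266

variable {F : Type*} [Field F]

lemma ne_of_D_ne_zero {u v : Fin 2 → F} (hu : u ≠ 0) (hv : v ≠ 0) (h : D u v ≠ 0) :
    Projectivization.mk F u hu ≠ Projectivization.mk F v hv := by
  intro he
  apply h
  rw [Projectivization.mk_eq_mk_iff'] at he
  obtain ⟨a, rfl⟩ := he
  simp only [D, Pi.smul_apply, smul_eq_mul]
  ring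

lemma SL_smul_mk (S : Matrix.SpecialLinearGroup (Fin 2) F) (v : Fin 2 → F) (hv : v ≠ 0) :
    ∃ h : S.1.mulVec v ≠ 0, S • Projectivization.mk F v hv = Projectivization.mk F (S.1.mulVec v) h := by
  have h : S • v ≠ 0 := (smul_ne_zero_iff_ne S).mpr hv
  exact ⟨h, rfl⟩

/-- when every element is a square, `SL_2` induces all of `PGL_2` on the projective line -/
lemma exists_SL_of_GL (hsq : ∀ a : F, IsSquare a) (A : GL (Fin 2) F) :
    ∃ S : Matrix.SpecialLinearGroup (Fin 2) F, ∀ p : Projectivization F (Fin 2 → F),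
      S • p = (Matrix.ProjGenLinGroup.mk A) • p := by
  have hdet : (A : Matrix (Fin 2) (Fin 2) F).det ≠ 0 := (Matrix.isUnits_det_units A).ne_zero
  obtain ⟨r, hr⟩ := hsq ((A : Matrix (Fin 2) (Fin 2) F).det)⁻¹
  have hr0 : r ≠ 0 := by
    intro h0
    rw [h0, mul_zero] at hr
    exact inv_ne_zero hdet hr
  have hS : (r • (A : Matrix (Fin 2) (Fin 2) F)).det = 1 := by
    rw [Matrix.det_smul, Fintype.card_fin, pow_two, ← hr, inv_mul_cancel₀ hdet]
  refine ⟨⟨r • (A : Matrix (Fin 2) (Fin 2) F), hS⟩, fun p => ?_⟩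
  induction p using Projectivization.ind with | h v hv =>
  obtain ⟨h1, h2⟩ := SL_smul_mk ⟨r • (A : Matrix (Fin 2) (Fin 2) F), hS⟩ v hv
  rw [h2, Projectivization.PGL.mk_smul_mk, Projectivization.mk_eq_mk_iff']
  refine ⟨r, ?_⟩
  show r • (A.1.mulVec v) = (r • A.1).mulVec v
  rw [Matrix.smul_mulVec]

lemma e1d_ne (d : F) : (![1, d] : Fin 2 → F) ≠ 0 := by
  intro h; have := congrFun h 0; simp at this

/-- make an embedding from three distinct points -/
def emb3 {X : Type*} (a b c : X) (hab : a ≠ b) (hac : a ≠ c) (hbc : b ≠ c) : Fin 3 ↪ X :=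
  ⟨![a, b, c], by
    intro i j h
    fin_cases i <;> fin_cases j <;> simp_all⟩

/-- SL_2(q) is 3-transitive on the q+1 points of the projective line if and only if q is even. -/
theorem result {F : Type*} [Field F] [Fintype F] : MulAction.IsMultiplyPretransitive (Matrix.SpecialLinearGroup (Fin 2) F) (Projectivization F (Fin 2 → F)) 3 ↔ ringChar F = 2 := by
  constructor
  · intro h3
    by_contra hchar
    obtain ⟨d, hd⟩ := FiniteField.exists_nonsquare hchar
    have hd0 : d ≠ 0 := by
      rintro rfl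
      exact hd ⟨0, by simp⟩
    rw [MulAction.isMultiplyPretransitive_iff] at h3
    have n12 : (E1 : Projectivization F (Fin 2 → F)) ≠ E2 :=
      ne_of_D_ne_zero _ _ (by simp [D])
    have n13 : (E1 : Projectivization F (Fin 2 → F)) ≠ E12 :=
      ne_of_D_ne_zero _ _ (by simp [D])
    have n23 : (E2 : Projectivization F (Fin 2 → F)) ≠ E12 :=
      ne_of_D_ne_zero _ _ (by simp [D])
    have n1d : (E1 : Projectivization F (Fin 2 → F)) ≠ Projectivization.mk F _ (e1d_ne d) :=
      ne_of_D_ne_zero _ _ (by simp [D, hd0])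
    have n2d : (E2 : Projectivization F (Fin 2 → F)) ≠ Projectivization.mk F _ (e1d_ne d) :=
      ne_of_D_ne_zero _ _ (by simp [D])
    obtain ⟨g, hg⟩ := h3 (emb3 E1 E2 E12 n12 n13 n23)
      (emb3 E1 E2 (Projectivization.mk F _ (e1d_ne d)) n12 n1d n2d)
    have g1 : g • (E1 : Projectivization F (Fin 2 → F)) = E1 := congrArg (fun e => e 0) hg
    have g2 : g • (E2 : Projectivization F (Fin 2 → F)) = E2 := congrArg (fun e => e 1) hg
    have g3 : g • (E12 : Projectivization F (Fin 2 → F)) = Projectivization.mk F _ (e1d_ne d) :=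
      congrArg (fun e => e 2) hg
    obtain ⟨_, k1⟩ := SL_smul_mk g _ (e1_ne (F := F))
    obtain ⟨_, k2⟩ := SL_smul_mk g _ (e2_ne (F := F))
    obtain ⟨_, k3⟩ := SL_smul_mk g _ (e12_ne (F := F))
    rw [E1, k1, Projectivization.mk_eq_mk_iff'] at g1
    rw [E2, k2, Projectivization.mk_eq_mk_iff'] at g2
    rw [E12, k3, Projectivization.mk_eq_mk_iff'] at g3
    obtain ⟨l, hl⟩ := g1
    obtain ⟨m, hm⟩ := g2
    obtain ⟨n, hn⟩ := g3
    have a00 := congrFun hl 0
    have a10 := congrFun hl 1
    have a01 := congrFun hm 0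
    have a11 := congrFun hm 1
    have b0 := congrFun hn 0
    have b1 := congrFun hn 1
    simp [Matrix.mulVec, dotProduct, Fin.sum_univ_two] at a00 a10 a01 a11 b0 b1
    have hdet : g.1 0 0 * g.1 1 1 - g.1 0 1 * g.1 1 0 = 1 := by
      rw [← Matrix.det_fin_two]; exact g.2
    rw [← a00, ← a11, ← a01, ← a10] at hdet
    rw [← a00, ← a01] at b0
    rw [← a10, ← a11] at b1
    apply hd
    refine ⟨m, ?_⟩
    have hlm : l * m = 1 := by linear_combination hdet
    have hnl : n = l := by linear_combination b0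
    have : n * d = m := by linear_combination b1
    rw [hnl] at this
    calc d = (l * m) * d := by rw [hlm, one_mul]
      _ = m * (l * d) := by ring
      _ = m * m := by rw [this]
  · intro hchar
    have hsq : ∀ a : F, IsSquare a := FiniteField.isSquare_of_char_two hchar
    rw [MulAction.isMultiplyPretransitive_iff]
    intro x y
    have h3 := (Cfsg.Agent.S0266.result (F := F)).1
    rw [MulAction.isMultiplyPretransitive_iff] at h3
    obtain ⟨g, hg⟩ := h3 x y
    induction g using Matrix.ProjGenLinGroup.induction_on with | mk A =>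
    obtain ⟨S, hS⟩ := exists_SL_of_GL hsq A
    refine ⟨S, ?_⟩
    ext i
    have := congrArg (fun e => e i) hg
    simp only [Function.Embedding.smul_apply] at this ⊢
    rw [hS, this]

end Cfsg.Agent.S0267
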