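import Mathlib
import Cfsg.Statements.S0271
import Cfsg.Agent.Lib.Helper6.Symp
import Cfsg.Agent.Lib.Helper15.SympOrder

set_option autoImplicit false
open Cfsg

namespace Cfsg.Agent.S0271

open Matrix Cfsg.Agent.Lib.Helper6 Cfsg.Agent.Lib.Helper15

variable {F : Type*} [Field F] {m : ℕ}

/-- one transvection maps `v` to `w` when `B(v,w) ≠ 0` -/
lemma step (v w : Fin m ⊕ Fin m → F) (h : Cfsg.sympForm m F v w ≠ 0) :
    ∃ g : Matrix.symplecticGroup (Fin m) F,
      (g : Matrix (Fin m ⊕ Fin m) (Fin m ⊕ Fin m) F).mulVec v = w := by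
  refine ⟨⟨Cfsg.sympTransvection m (w - v) (Cfsg.sympForm m F v w)⁻¹, sympTransvection_mem _ _⟩, ?_⟩
  show Cfsg.sympTransvection m (w - v) (Cfsg.sympForm m F v w)⁻¹ *ᵥ v = w
  rw [sympTransvection_mulVec, sympForm_sub_right, sympForm_self, sub_zero, inv_mul_cancel₀ h,
    one_smul]
  abel

lemma exists_ne (v : Fin m ⊕ Fin m → F) (hv : v ≠ 0) : ∃ y, Cfsg.sympForm m F v y ≠ 0 := by
  by_contra hcon
  push Not at hcon
  exact hv (stdSymp_nondeg v hcon)

/-- Sp_{2m}(F) is transitive on non-zero vectors. -/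
theorem result {F : Type*} [Field F] (m : ℕ) (v w : Fin m ⊕ Fin m → F) (hv : v ≠ 0) (hw : w ≠ 0) : ∃ g : Matrix.symplecticGroup (Fin m) F, (g : Matrix (Fin m ⊕ Fin m) (Fin m ⊕ Fin m) F).mulVec v = w := by
  by_cases h : Cfsg.sympForm m F v w ≠ 0
  · exact step v w h
  · push Not at h
    have key : ∃ x, Cfsg.sympForm m F v x ≠ 0 ∧ Cfsg.sympForm m F x w ≠ 0 := by
      obtain ⟨y, hy⟩ := exists_ne v hv
      obtain ⟨z, hz⟩ := exists_ne w hw
      by_cases h1 : Cfsg.sympForm m F w y = 0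
      · by_cases h2 : Cfsg.sympForm m F v z = 0
        · refine ⟨y + z, ?_, ?_⟩
          · rw [sympForm_add_right, h2, add_zero]; exact hy
          · rw [sympForm_swap, sympForm_add_right, h1, zero_add, neg_ne_zero]; exact hz
        · refine ⟨z, h2, ?_⟩
          rw [sympForm_swap, neg_ne_zero]; exact hz
      · refine ⟨y, hy, ?_⟩
        rw [sympForm_swap, neg_ne_zero]; exact h1
    obtain ⟨x, hx1, hx2⟩ := key
    obtain ⟨g1, hg1⟩ := step v x hx1
    obtain ⟨g2, hg2⟩ := step x w hx2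
    refine ⟨g2 * g1, ?_⟩
    show ((g2 : Matrix (Fin m ⊕ Fin m) (Fin m ⊕ Fin m) F) *
      (g1 : Matrix (Fin m ⊕ Fin m) (Fin m ⊕ Fin m) F)) *ᵥ v = w
    rw [← Matrix.mulVec_mulVec, hg1, hg2]

end Cfsg.Agent.S0271
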