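import Cfsg.Statements.S0274
import Mathlib
import Cfsg.Agent.H5.Dickson

set_option autoImplicit false
open Cfsg

namespace Cfsg.Agent.S0274

/-- Dickson's Theorem for SL_2: if p is odd and H is a subgroup of SL_2(q), q a power of p, with more than one Sylow p-subgroup, then H contains a copy of SL_2(p). -/
theorem result {F : Type*} [Field F] [Fintype F] (p : ℕ) [Fact p.Prime] [CharP F p] (hp : p ≠ 2) (H : Subgroup (Matrix.SpecialLinearGroup (Fin 2) F)) (hH : 1 < Nat.card (Sylow p H)) : ∃ K : Subgroup (Matrix.SpecialLinearGroup (Fin 2) F), K ≤ H ∧ Nonempty (K ≃* Matrix.SpecialLinearGroup (Fin 2) (ZMod p)) := by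
  obtain ⟨P⟩ : Nonempty (Sylow p H) := inferInstance
  have hPn : ¬ (P : Subgroup H).Normal := by
    intro hn
    have := Sylow.unique_of_normal P hn
    rw [Nat.card_unique] at hH
    exact lt_irrefl _ hH
  obtain ⟨K, ⟨e⟩⟩ := Cfsg.H5.Dickson.exists_copy_of_injective (ι := H.subtype)
    H.subtype_injective hp P hPn
  exact ⟨K.map H.subtype, Subgroup.map_subtype_le K,
    ⟨(K.equivMapOfInjective H.subtype H.subtype_injective).symm.trans e⟩⟩

end Cfsg.Agent.S0274
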