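import Mathlib
import Cfsg.Statements.S0276
import Cfsg.Agent.S0261
import Cfsg.Agent.S0268
import Cfsg.Agent.Lib.Helper3.CardSL

set_option autoImplicit false
open Cfsg

namespace Cfsg.Agent.S0276

open Cfsg.Agent.Lib.Helper3

lemma fact2 (a r : ℕ) (hr : Odd r) : (2 ^ a * r).factorization 2 = a := by
  have hr0 : r ≠ 0 := by rintro rfl; simp at hr
  rw [Nat.factorization_mul (by positivity) hr0, Finsupp.add_apply, Nat.factorization_pow,
    Finsupp.smul_apply, Nat.prime_two.factorization_self, smul_eq_mul, mul_one,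
    Nat.factorization_eq_zero_of_not_dvd (by rw [← even_iff_two_dvd]; exact Nat.not_even_iff_odd.2 hr),
    add_zero]

/-- `q (q^2 - 1) = 2^3 * odd` -/
lemma arith (q : ℕ) (hq : q % 8 = 3 ∨ q % 8 = 5) :
    ∃ r, Odd r ∧ q * (q ^ 2 - 1) = 2 ^ 3 * r := by
  rcases hq with h | h
  · obtain ⟨k, hk⟩ : ∃ k, q = 8 * k + 3 := ⟨q / 8, by omega⟩
    refine ⟨q * (8 * k ^ 2 + 6 * k + 1), ?_, ?_⟩
    · apply Odd.mul
      · rw [hk]; exact ⟨4 * k + 1, by ring⟩
      · exact ⟨4 * k ^ 2 + 3 * k, by ring⟩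
    · have : q ^ 2 - 1 = 8 * (8 * k ^ 2 + 6 * k + 1) := by
        have : q ^ 2 = 8 * (8 * k ^ 2 + 6 * k + 1) + 1 := by rw [hk]; ring
        omega
      rw [this]; ring
  · obtain ⟨k, hk⟩ : ∃ k, q = 8 * k + 5 := ⟨q / 8, by omega⟩
    refine ⟨q * (8 * k ^ 2 + 10 * k + 3), ?_, ?_⟩
    · apply Odd.mul
      · rw [hk]; exact ⟨4 * k + 2, by ring⟩
      · exact ⟨4 * k ^ 2 + 5 * k + 1, by ring⟩
    · have : q ^ 2 - 1 = 8 * (8 * k ^ 2 + 10 * k + 3) := by
        have : q ^ 2 = 8 * (8 * k ^ 2 + 10 * k + 3) + 1 := by rw [hk]; ring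
        omega
      rw [this]; ring

variable {F : Type*} [Field F] [Fintype F]

lemma odd_card {q : ℕ} (hF : Fintype.card F = q) (hq : q % 8 = 3 ∨ q % 8 = 5) :
    Odd (Fintype.card F) := by
  rw [hF, Nat.odd_iff]; omega

lemma neg_one_mem_center :
    (-1 : Matrix.SpecialLinearGroup (Fin 2) F) ∈ Subgroup.center (Matrix.SpecialLinearGroup (Fin 2) F) := by
  rw [Matrix.SpecialLinearGroup.mem_center_iff]
  refine ⟨-1, by simp, ?_⟩
  ext i j
  fin_cases i <;> fin_cases j <;> simp

lemma sq_eq_one_of_mem_center (g : Matrix.SpecialLinearGroup (Fin 2) F)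
    (hg : g ∈ Subgroup.center (Matrix.SpecialLinearGroup (Fin 2) F)) : g * g = 1 := by
  rw [Matrix.SpecialLinearGroup.mem_center_iff] at hg
  obtain ⟨r, hr, hA⟩ := hg
  have hr' : r * r = 1 := by rw [← pow_two]; simpa using hr
  apply Subtype.ext
  rw [Matrix.SpecialLinearGroup.coe_mul, ← hA, ← map_mul, hr']
  simp

/-- an element of `SL_2(q)` of order dividing 4 has its square in the centre -/
lemma sq_mem_center (hodd : Odd (Fintype.card F)) (g : Matrix.SpecialLinearGroup (Fin 2) F)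
    (hg : g ^ 4 = 1) : g ^ 2 ∈ Subgroup.center (Matrix.SpecialLinearGroup (Fin 2) F) := by
  by_cases h1 : g ^ 2 = 1
  · rw [h1]; exact Subgroup.one_mem _
  · have h2 : g ^ 2 * g ^ 2 = 1 := by rw [← pow_add]; exact hg
    have := Cfsg.Agent.S0268.result hodd (g ^ 2) h1 h2
    have h3 : g ^ 2 = -1 := Subtype.ext (by rw [this]; simp)
    rw [h3]
    exact neg_one_mem_center

lemma card_SL_factorization {q : ℕ} (hF : Fintype.card F = q) (hq : q % 8 = 3 ∨ q % 8 = 5) :
    (Nat.card (Matrix.SpecialLinearGroup (Fin 2) F)).factorization 2 = 3 := by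
  obtain ⟨r, hr, h⟩ := arith q hq
  rw [CardSL.card_SL2, hF, h, fact2 3 r hr]

lemma card_PSL_factorization {q : ℕ} (hF : Fintype.card F = q) (hq : q % 8 = 3 ∨ q % 8 = 5) :
    (Nat.card (Matrix.ProjectiveSpecialLinearGroup (Fin 2) F)).factorization 2 = 2 := by
  obtain ⟨r, hr, h⟩ := arith q hq
  have hodd := odd_card hF hq
  have h2 : (2 : F) ≠ 0 := Cfsg.Agent.S0261.two_ne_zero_of_odd hodd
  have hc := CardSL.card_PSL_mul (F := F) 2
  rw [CardSL.card_center_SL2 h2, CardSL.card_SL2, hF, h] at hc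
  have : Nat.card (Matrix.ProjectiveSpecialLinearGroup (Fin 2) F) = 2 ^ 2 * r := by omega
  rw [this, fact2 2 r hr]

/-- no element of order 8 -/
lemma pow_four_eq_one (hodd : Odd (Fintype.card F))
    (h3 : (Nat.card (Matrix.SpecialLinearGroup (Fin 2) F)).factorization 2 = 3)
    (g : Matrix.SpecialLinearGroup (Fin 2) F) (hg : g ^ 8 = 1) : g ^ 4 = 1 := by
  by_contra h4
  have hord : orderOf g = 8 := by
    have hdvd : orderOf g ∣ 2 ^ 3 := orderOf_dvd_of_pow_eq_one hg
    obtain ⟨k, hk, hk'⟩ := (Nat.dvd_prime_pow Nat.prime_two).1 hdvd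
    interval_cases k
    · exfalso; apply h4
      have h1 : g = 1 := orderOf_eq_one_iff.1 (by simpa using hk')
      rw [h1]; simp
    · exfalso; apply h4
      have : g ^ 2 = 1 := by
        have := pow_orderOf_eq_one g
        rwa [hk', pow_one] at this
      rw [show (4 : ℕ) = 2 * 2 from rfl, pow_mul, this, one_pow]
    · exfalso; apply h4
      have := pow_orderOf_eq_one g
      rwa [hk', show (2 : ℕ) ^ 2 = 4 from rfl] at this
    · simpa using hk'
  have hcard : Nat.card (Subgroup.zpowers g) = 2 ^ (Nat.card (Matrix.SpecialLinearGroup (Fin 2) F)).factorization 2 := by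
    rw [Nat.card_zpowers, hord, h3]; rfl
  let P : Sylow 2 (Matrix.SpecialLinearGroup (Fin 2) F) := Sylow.ofCard (Subgroup.zpowers g) hcard
  obtain ⟨P₀, hP₀⟩ := Cfsg.Agent.S0261.exists_not_cyclic hodd
  apply hP₀
  have hcyc : IsCyclic P := by
    show IsCyclic (Subgroup.zpowers g)
    infer_instance
  exact isCyclic_of_surjective (Sylow.equiv P P₀).toMonoidHom (Sylow.equiv P P₀).surjective

/-- For q = 3 or 5 mod 8 the Sylow 2-subgroups of PSL_2(q) are elementary abelian of order 4. -/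
theorem result {F : Type*} [Field F] [Fintype F] {q : ℕ} (hF : Fintype.card F = q) (hq : q % 8 = 3 ∨ q % 8 = 5) (P : Sylow 2 (Matrix.ProjectiveSpecialLinearGroup (Fin 2) F)) : IsKleinFour (P : Subgroup (Matrix.ProjectiveSpecialLinearGroup (Fin 2) F)) := by
  classical
  have hodd := odd_card hF hq
  have hcardP : Nat.card P = 4 := by
    rw [P.card_eq_multiplicity, card_PSL_factorization hF hq]; rfl
  have hsq : ∀ x : P, x ^ 2 = 1 := by
    intro x
    have hx4 : x ^ 4 = 1 := by rw [← hcardP]; exact pow_card_eq_one'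
    have hx4' : (x : Matrix.ProjectiveSpecialLinearGroup (Fin 2) F) ^ 4 = 1 := by
      have := congrArg Subtype.val hx4
      simpa using this
    obtain ⟨g, hg⟩ := QuotientGroup.mk_surjective (x : Matrix.ProjectiveSpecialLinearGroup (Fin 2) F)
    have hg4 : g ^ 4 ∈ Subgroup.center (Matrix.SpecialLinearGroup (Fin 2) F) := by
      rw [← QuotientGroup.eq_one_iff, QuotientGroup.mk_pow, hg, hx4']
    have hg8 : g ^ 8 = 1 := by
      have := sq_eq_one_of_mem_center _ hg4
      rw [← pow_add] at this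
      exact this
    have hg4' : g ^ 4 = 1 := pow_four_eq_one hodd (card_SL_factorization hF hq) g hg8
    have hg2 := sq_mem_center hodd g hg4'
    apply Subtype.ext
    show (x : Matrix.ProjectiveSpecialLinearGroup (Fin 2) F) ^ 2 = 1
    rw [← hg, ← QuotientGroup.mk_pow, QuotientGroup.eq_one_iff]
    exact hg2
  refine ⟨hcardP, ?_⟩
  have hdvd : Monoid.exponent P ∣ 2 := Monoid.exponent_dvd_of_forall_pow_eq_one hsq
  rcases (Nat.dvd_prime Nat.prime_two).1 hdvd with h | h
  · exfalso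
    rw [Monoid.exp_eq_one_iff] at h
    have : Nat.card P = 1 := Nat.card_unique
    omega
  · exact h

end Cfsg.Agent.S0276
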