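import Cfsg.Statements.S0284
import Cfsg.Agent.Lib.Helper16.UnitaryCount3

set_option autoImplicit false
open Cfsg

namespace Cfsg.Agent.S0284

open Cfsg.Agent.Lib.Helper16 in
/-- The standard Hermitian form on F^n, |F| = q^2, has exactly q^(n-1) (q^n - (-1)^n) vectors of norm 1. -/
theorem result {F : Type*} [Field F] [Fintype F] {q : ℕ} (hF : Fintype.card F = q ^ 2) (n : ℕ) : Nat.card {v : Fin n → F // Cfsg.hermForm n F q v v = 1} = (if Even n then q ^ (n - 1) * (q ^ n - 1) else q ^ (n - 1) * (q ^ n + 1)) := by
  have h1 : Nat.card {v : Fin n → F // Cfsg.hermForm n F q v v = 1} = unitCount F q n := by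
    unfold unitCount
    apply Nat.card_congr
    apply Equiv.subtypeEquivRight
    intro v
    have : Cfsg.hermForm n F q v v = ∑ i, v i ^ (q + 1) := by
      unfold Cfsg.hermForm
      apply Finset.sum_congr rfl
      intro i _
      rw [pow_succ']
    rw [this]
  rw [h1]
  rcases n with _ | i
  · rw [unitCount_zero]
    simp
  · rw [unitCount_explicit hF i]
    simp only [Nat.add_sub_cancel]
    by_cases he : Even i
    · rw [if_pos he, if_neg (by rw [Nat.even_add_one]; exact not_not.2 he)]
    · rw [if_neg he, if_pos (by rw [Nat.even_add_one]; exact he)]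

end Cfsg.Agent.S0284
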