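import Cfsg.Statements.S0290
import Cfsg.Agent.Lib.Helper15.QuadCount1

set_option autoImplicit false
open Cfsg

namespace Cfsg.Agent.S0290

open Cfsg.Agent.Lib.Helper15 in
/-- The minus-type quadratic form on F^(2m), m at least 1, has q^(2m-1) + q^(m-1) - q^m zeros (that is, (q^m + 1)(q^(m-1) - 1) non-zero isotropic vectors). -/
theorem result {F : Type*} [Field F] [Fintype F] {q : ℕ} (hF : Fintype.card F = q) (m : ℕ) (hm : 1 ≤ m) (a b : F) (hab : ∀ z₁ z₂ : F, z₁ ^ 2 + a * z₁ * z₂ + b * z₂ ^ 2 = 0 → z₁ = 0 ∧ z₂ = 0) : Nat.card {v : (Fin (m - 1) ⊕ Fin (m - 1)) ⊕ Fin 2 → F // Cfsg.quadFormMinus (m - 1) F a b v = 0} = q ^ (2 * m - 1) + q ^ (m - 1) - q ^ m := by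
  classical
  have h := card_minus_shape (F := F) (m - 1) (κ := Fin 2) (fun w => w 0 ^ 2 + a * w 0 * w 1 + b * w 1 ^ 2) 0
  have h0 : Nat.card {w : Fin 2 → F // (fun w : Fin 2 → F => w 0 ^ 2 + a * w 0 * w 1 + b * w 1 ^ 2) w = 0} = 1 := by
    rw [Nat.card_eq_one_iff_unique]
    refine ⟨⟨?_⟩, ⟨⟨0, by simp⟩⟩⟩
    intro x y
    apply Subtype.ext
    funext u
    have hx := hab _ _ x.2
    have hy := hab _ _ y.2
    fin_cases u
    · exact hx.1.trans hy.1.symm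
    · exact hx.2.trans hy.2.symm
  rw [h0, Fintype.card_fin, mul_one, hF] at h
  have hq : 0 < q := by rw [← hF]; exact Fintype.card_pos
  have : Nat.card {v : (Fin (m - 1) ⊕ Fin (m - 1)) ⊕ Fin 2 → F // Cfsg.quadFormMinus (m - 1) F a b v = 0} =
      q ^ (m - 1) + (q ^ (m - 1) - 1) * q ^ (m - 1 - 1) * q ^ 2 := h
  rw [this]
  obtain ⟨k, rfl⟩ : ∃ k, m = k + 1 := ⟨m - 1, by omega⟩
  rw [Nat.add_sub_cancel]
  rcases Nat.eq_zero_or_pos k with rfl | hk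
  · simp
  · obtain ⟨j, rfl⟩ : ∃ j, k = j + 1 := ⟨k - 1, by omega⟩
    rw [Nat.add_sub_cancel, mul_assoc, ← pow_add, Nat.sub_mul, one_mul, ← pow_add]
    have e1 : j + 1 + (j + 2) = 2 * (j + 1 + 1) - 1 := by omega
    have e2 : j + 2 = j + 1 + 1 := rfl
    rw [e1, e2]
    have : q ^ (j + 1 + 1) ≤ q ^ (2 * (j + 1 + 1) - 1) := Nat.pow_le_pow_right hq (by omega)
    omega

end Cfsg.Agent.S0290
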