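import Cfsg.Statements.S0291
import Cfsg.Agent.Lib.Helper15.QuadCount1

set_option autoImplicit false
open Cfsg

namespace Cfsg.Agent.S0291

open Cfsg.Agent.Lib.Helper15 in
/-- For q odd, the form x_0^2 + sum_{i<m} x_i y_i on F^(2m+1) has exactly q^(2m) zeros. -/
theorem result {F : Type*} [Field F] [Fintype F] {q : ℕ} (hF : Fintype.card F = q) (hodd : Odd q) (m : ℕ) : Nat.card {v : Unit ⊕ (Fin m ⊕ Fin m) → F // Cfsg.quadFormOdd m F v = 0} = q ^ (2 * m) := by
  classical
  have h := card_odd_shape (F := F) m (κ := Unit) (fun w => w () ^ 2) 0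
  have h0 : Nat.card {w : Unit → F // (fun w : Unit → F => w () ^ 2) w = 0} = 1 := by
    rw [Nat.card_eq_one_iff_unique]
    refine ⟨⟨?_⟩, ⟨⟨0, by simp⟩⟩⟩
    intro x y
    apply Subtype.ext
    funext u
    have hx := x.2
    have hy := y.2
    simp only [pow_eq_zero_iff (two_ne_zero)] at hx hy
    cases u
    rw [hx, hy]
  rw [h0, Fintype.card_unit, pow_one, mul_one, hF] at h
  have hq : 0 < q := by rw [← hF]; exact Fintype.card_pos
  have : Nat.card {v : Unit ⊕ (Fin m ⊕ Fin m) → F // Cfsg.quadFormOdd m F v = 0} =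
      q ^ m + (q ^ m - 1) * q ^ (m - 1) * q := h
  rw [this]
  rcases Nat.eq_zero_or_pos m with rfl | hm
  · simp
  · rw [mul_assoc, ← pow_succ, Nat.sub_add_cancel hm, Nat.sub_mul, one_mul, ← pow_add, two_mul]
    have : q ^ m ≤ q ^ (m + m) := Nat.pow_le_pow_right hq (by omega)
    omega

end Cfsg.Agent.S0291
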