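-- Statement S0296
import Cfsg.Statements.S0296
import Mathlib
import Cfsg.Agent.Lib.Helper6.OmegaSimple
import Cfsg.Agent.Lib.Helper15.QuadF2a

set_option autoImplicit false
open Cfsg

namespace Cfsg.Agent.S0296

open Cfsg.Agent.Lib.Helper6 Cfsg.Agent.Lib.Helper15

/-- PΩ^+_{2m}(q) is simple for m at least 4. -/
theorem result {F : Type*} [Field F] [Fintype F] (m : ℕ) (hm : 4 ≤ m) : IsSimpleGroup (Cfsg.POmega F (Cfsg.quadFormPlus m F)) := by
  classical
  have hfun : Cfsg.quadFormPlus m F = ⇑(QPlus F m) := (funext (QPlus_apply F m)).symm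
  rw [hfun]
  apply POmega_isSimpleGroup (QPlus F m) (nondegenerate_QPlus F m)
  rw [Fintype.card_sum, Fintype.card_fin]
  omega

end Cfsg.Agent.S0296
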