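-- Statement S0298
import Cfsg.Statements.S0298
import Mathlib
import Cfsg.Agent.Lib.Helper6.OmegaOdd
import Cfsg.Agent.Lib.Helper6.OrthForms
import Cfsg.Agent.Lib.Helper14.SL2
import Cfsg.Agent.Lib.Helper15.SLNormal
import Cfsg.Agent.Lib.Helper15.Klein2
import Cfsg.Agent.S0286

set_option autoImplicit false
open Cfsg

namespace Cfsg.Agent.S0298

open Cfsg.Agent.Lib.Helper6 Matrix

section algebra
variable {F : Type*} [Field F]

/-- the adjoint action of a `2 × 2` matrix on trace-zero matrices, in the basis `x₀, x₁, y₁` -/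
def rho3 (A : Matrix (Fin 2) (Fin 2) F) : Matrix (Fin 3) (Fin 3) F :=
  !![A 0 0 * A 1 1 + A 0 1 * A 1 0, -(A 0 0 * A 1 0), A 0 1 * A 1 1;
     -(2 * A 0 0 * A 0 1), A 0 0 ^ 2, -(A 0 1 ^ 2);
     2 * A 1 0 * A 1 1, -(A 1 0 ^ 2), A 1 1 ^ 2]

theorem rho3_one : rho3 (1 : Matrix (Fin 2) (Fin 2) F) = 1 := by
  ext i j
  fin_cases i <;> fin_cases j <;> simp [rho3]

theorem rho3_mul (A B : Matrix (Fin 2) (Fin 2) F) : rho3 (A * B) = rho3 A * rho3 B := by
  ext i j
  fin_cases i <;> fin_cases j <;>
    simp [rho3, Matrix.mul_apply, Fin.sum_univ_two, Fin.sum_univ_three] <;> ring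

/-- the form `x₀² + x₁ y₁` on `F³` -/
def Q3 (w : Fin 3 → F) : F := w 0 ^ 2 + w 1 * w 2

theorem rho3_form (A : Matrix (Fin 2) (Fin 2) F) (w : Fin 3 → F) :
    Q3 (rho3 A *ᵥ w) = A.det ^ 2 * Q3 w := by
  simp [Q3, rho3, Matrix.mulVec, dotProduct, Fin.sum_univ_three, Matrix.det_fin_two]
  ring

/-- index type of the three-dimensional form -/
abbrev I3 : Type := Unit ⊕ (Fin 1 ⊕ Fin 1)

/-- identification of the index types -/
def e3 : I3 ≃ Fin 3 where
  toFun i := match i with
    | .inl _ => 0
    | .inr (.inl _) => 1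
    | .inr (.inr _) => 2
  invFun k := match k with
    | 0 => .inl ()
    | 1 => .inr (.inl 0)
    | 2 => .inr (.inr 0)
  left_inv := by
    rintro (⟨⟩ | i | i)
    · rfl
    · have : i = 0 := Subsingleton.elim _ _
      subst this; rfl
    · have : i = 0 := Subsingleton.elim _ _
      subst this; rfl
  right_inv := by
    intro k
    fin_cases k <;> rfl

theorem quadFormOdd_eq (v : I3 → F) : Cfsg.quadFormOdd 1 F v = Q3 (v ∘ e3.symm) := by
  unfold Cfsg.quadFormOdd Q3
  rw [Fin.sum_univ_one]
  rfl

/-- the action on `F^I3` -/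
def rhoI (A : Matrix (Fin 2) (Fin 2) F) : Matrix I3 I3 F := (rho3 A).submatrix e3 e3

theorem rhoI_one : rhoI (1 : Matrix (Fin 2) (Fin 2) F) = 1 := by
  unfold rhoI
  rw [rho3_one, Matrix.submatrix_one_equiv]

theorem rhoI_mul (A B : Matrix (Fin 2) (Fin 2) F) : rhoI (A * B) = rhoI A * rhoI B := by
  unfold rhoI
  rw [rho3_mul, Matrix.submatrix_mul_equiv]

theorem rhoI_form (A : Matrix (Fin 2) (Fin 2) F) (v : I3 → F) :
    Cfsg.quadFormOdd 1 F (rhoI A *ᵥ v) = A.det ^ 2 * Cfsg.quadFormOdd 1 F v := by
  rw [quadFormOdd_eq, quadFormOdd_eq]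
  unfold rhoI
  rw [Matrix.submatrix_mulVec_equiv]
  have : ((rho3 A *ᵥ (v ∘ ⇑e3.symm)) ∘ ⇑e3) ∘ ⇑e3.symm = rho3 A *ᵥ (v ∘ ⇑e3.symm) := by
    funext k
    simp
  rw [this, rho3_form]

theorem rhoI_injective (A B : Matrix (Fin 2) (Fin 2) F) (h : rhoI A = rhoI B) : rho3 A = rho3 B := by
  unfold rhoI at h
  ext i j
  have := congrFun (congrFun h (e3.symm i)) (e3.symm j)
  simpa using this

end algebra

section hom
variable {F : Type*} [Field F]

/-- the homomorphism `SL₂(F) → O₃(F)` -/
def rho : Matrix.SpecialLinearGroup (Fin 2) F →* ↥(Cfsg.isometryGroup F ⇑(QOdd F 1)) where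
  toFun g := ⟨⟨rhoI g.1, rhoI (g⁻¹).1, by
      rw [← rhoI_mul, ← Matrix.SpecialLinearGroup.coe_mul, mul_inv_cancel,
        Matrix.SpecialLinearGroup.coe_one, rhoI_one], by
      rw [← rhoI_mul, ← Matrix.SpecialLinearGroup.coe_mul, inv_mul_cancel,
        Matrix.SpecialLinearGroup.coe_one, rhoI_one]⟩, by
    intro u _
    change QOdd F 1 (rhoI g.1 *ᵥ u) = QOdd F 1 u
    rw [QOdd_apply, QOdd_apply, rhoI_form, g.2, one_pow, one_mul]⟩
  map_one' := by
    apply Subtype.ext
    apply Units.ext
    exact rhoI_one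
  map_mul' g h := by
    apply Subtype.ext
    apply Units.ext
    exact rhoI_mul g.1 h.1

theorem rho_val (g : Matrix.SpecialLinearGroup (Fin 2) F) :
    (((rho g).1 : GL I3 F) : Matrix I3 I3 F) = rhoI g.1 := rfl

/-- the kernel of `rho` is the centre -/
theorem ker_rho : (rho (F := F)).ker = Subgroup.center (Matrix.SpecialLinearGroup (Fin 2) F) := by
  ext g
  rw [MonoidHom.mem_ker, Matrix.SpecialLinearGroup.mem_center_iff]
  constructor
  · intro hg
    have h1 : rho3 g.1 = 1 := by
      have := congrArg (fun y : ↥(Cfsg.isometryGroup F ⇑(QOdd F 1)) =>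
        (((y.1 : GL I3 F) : Matrix I3 I3 F))) hg
      simp only [rho_val] at this
      rw [← rho3_one]
      apply rhoI_injective
      rw [this, rhoI_one]
      rfl
    have e11 := congrFun (congrFun h1 1) 1
    have e22 := congrFun (congrFun h1 2) 2
    have e12 := congrFun (congrFun h1 1) 2
    have e21 := congrFun (congrFun h1 2) 1
    have e00 := congrFun (congrFun h1 0) 0
    simp [rho3] at e11 e22 e12 e21 e00
    refine ⟨g.1 0 0, ?_, ?_⟩
    · rw [Fintype.card_fin]
      rcases e11 with h | h <;> rw [h] <;> ring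
    · rw [e12, e21] at e00
      have hd : g.1 1 1 = g.1 0 0 := by
        have ha : g.1 0 0 * g.1 0 0 = 1 := by
          rcases e11 with h | h <;> rw [h] <;> ring
        have : g.1 0 0 * g.1 1 1 = 1 := by simpa using e00
        calc g.1 1 1 = (g.1 0 0 * g.1 0 0) * g.1 1 1 := by rw [ha, one_mul]
          _ = g.1 0 0 * (g.1 0 0 * g.1 1 1) := by ring
          _ = g.1 0 0 := by rw [this, mul_one]
      ext i j
      fin_cases i <;> fin_cases j
      · simp
      · simpa using e12.symm
      · simpa using e21.symm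
      · simpa using hd.symm
  · rintro ⟨r, hr, hg⟩
    rw [Fintype.card_fin] at hr
    apply Subtype.ext
    apply Units.ext
    change rhoI g.1 = 1
    rw [← hg]
    unfold rhoI
    have : rho3 ((Matrix.scalar (Fin 2)) r : Matrix (Fin 2) (Fin 2) F) = 1 := by
      ext i j
      have hr' : r * r = 1 := by rw [← hr]; ring
      fin_cases i <;> fin_cases j <;> simp [rho3, hr, hr']
    rw [this, Matrix.submatrix_one_equiv]

end hom

section main
variable {F : Type*} [Field F] [Fintype F]

open Cfsg.Agent.Lib.Helper15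

theorem transvection_pow {i j : Fin 2} (hij : i ≠ j) (b : F) (k : ℕ) :
    (Matrix.SpecialLinearGroup.transvection hij b) ^ k =
      Matrix.SpecialLinearGroup.transvection hij ((k : F) * b) := by
  induction k with
  | zero => simp
  | succ k ih =>
    rw [pow_succ, ih, ← Matrix.SpecialLinearGroup.transvection_add]
    congr 1
    push_cast
    ring

/-- the image of `rho` lies in `Ω` -/
theorem rho_mem_Omega (h2 : (2 : F) ≠ 0) (g : Matrix.SpecialLinearGroup (Fin 2) F) :
    rho g ∈ Cfsg.Omega F ⇑(QOdd F 1) := by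
  have hQ := nondegenerate_QOdd F h2 1
  have hcard : Fintype.card I3 = 3 := by
    rw [Fintype.card_sum, Fintype.card_sum, Fintype.card_fin]; rfl
  have hp := CharP.char_is_prime F (ringChar F)
  have hpodd : Odd (ringChar F) := by
    rcases hp.eq_two_or_odd' with h | h
    · exfalso
      apply h2
      have := CharP.cast_eq_zero F (ringChar F)
      rw [h] at this
      exact_mod_cast this
    · exact h
  refine SLn_transvection_induction (fun g => rho g ∈ Cfsg.Omega F ⇑(QOdd F 1)) ?_ ?_ g
  · intro i j hij c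
    apply mem_Omega_of_pow_odd' (QOdd F 1) hQ (by rw [hcard]; omega) (by right; rw [hcard]; omega)
      _ (ringChar F) hpodd
    rw [← map_pow, transvection_pow, CharP.cast_eq_zero F (ringChar F), zero_mul,
      Matrix.SpecialLinearGroup.transvection_coeff_zero, map_one]
  · intro A B hA hB
    rw [map_mul]
    exact Subgroup.mul_mem _ hA hB

/-- the centre of `PSL₂(F)` is trivial (odd characteristic) -/
theorem center_PSL2 (h2 : (2 : F) ≠ 0) :
    Subgroup.center (Matrix.ProjectiveSpecialLinearGroup (Fin 2) F) = ⊥ := by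
  rw [eq_bot_iff]
  intro y hy
  rw [Subgroup.mem_bot]
  obtain ⟨x, rfl⟩ := toPSL2_surjective (F := F) y
  rw [Subgroup.mem_center_iff] at hy
  have key : ∀ g : Matrix.SpecialLinearGroup (Fin 2) F, x * g = g * x ∨ x * g = -(g * x) := by
    intro g
    have := hy (toPSL2 F g)
    rw [← map_mul, ← map_mul, toPSL2_eq_iff h2] at this
    exact this
  rw [toPSL2_eq_one_iff h2]
  have hdet : x.1 0 0 * x.1 1 1 - x.1 0 1 * x.1 1 0 = 1 := by
    have := x.2
    rw [Matrix.det_fin_two] at this
    exact this
  -- the entries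
  have hc : x.1 1 0 = 0 ∧ x.1 0 0 = x.1 1 1 := by
    rcases key (Matrix.SpecialLinearGroup.transvection (i := (0 : Fin 2)) (j := 1) (by decide) 1) with h | h
    · have h' := congrArg Subtype.val h
      simp only [Matrix.SpecialLinearGroup.coe_mul, Matrix.SpecialLinearGroup.transvection_coe] at h'
      have e00 := congrFun (congrFun h' 0) 0
      have e01 := congrFun (congrFun h' 0) 1
      simp [Matrix.mul_apply, Fin.sum_univ_two, Matrix.add_apply, Matrix.single_apply] at e00 e01
      exact ⟨e00, by linear_combination e01⟩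
    · exfalso
      have h' := congrArg Subtype.val h
      simp only [Matrix.SpecialLinearGroup.coe_mul, Matrix.SpecialLinearGroup.coe_neg,
        Matrix.SpecialLinearGroup.transvection_coe] at h'
      have e00 := congrFun (congrFun h' 0) 0
      have e10 := congrFun (congrFun h' 1) 0
      simp [Matrix.mul_apply, Fin.sum_univ_two, Matrix.add_apply, Matrix.single_apply] at e00 e10
      have hc0 : x.1 1 0 = 0 := by
        have : (2 : F) * x.1 1 0 = 0 := by linear_combination e10
        rcases mul_eq_zero.mp this with h | h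
        · exact absurd h h2
        · exact h
      have ha0 : x.1 0 0 = 0 := by
        rw [hc0] at e00
        have : (2 : F) * x.1 0 0 = 0 := by linear_combination e00
        rcases mul_eq_zero.mp this with h | h
        · exact absurd h h2
        · exact h
      rw [ha0, hc0] at hdet
      simp at hdet
  have hb : x.1 0 1 = 0 := by
    rcases key (Matrix.SpecialLinearGroup.transvection (i := (1 : Fin 2)) (j := 0) (by decide) 1) with h | h
    · have h' := congrArg Subtype.val h
      simp only [Matrix.SpecialLinearGroup.coe_mul, Matrix.SpecialLinearGroup.transvection_coe] at h'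
      have e11 := congrFun (congrFun h' 1) 1
      simp [Matrix.mul_apply, Fin.sum_univ_two, Matrix.add_apply, Matrix.single_apply] at e11
      exact e11
    · exfalso
      have h' := congrArg Subtype.val h
      simp only [Matrix.SpecialLinearGroup.coe_mul, Matrix.SpecialLinearGroup.coe_neg,
        Matrix.SpecialLinearGroup.transvection_coe] at h'
      have e01 := congrFun (congrFun h' 0) 1
      have e11 := congrFun (congrFun h' 1) 1
      simp [Matrix.mul_apply, Fin.sum_univ_two, Matrix.add_apply, Matrix.single_apply] at e01 e11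
      have hb0 : x.1 0 1 = 0 := by
        have : (2 : F) * x.1 0 1 = 0 := by linear_combination e01
        rcases mul_eq_zero.mp this with h | h
        · exact absurd h h2
        · exact h
      have hd0 : x.1 1 1 = 0 := by
        rw [hb0] at e11
        have : (2 : F) * x.1 1 1 = 0 := by linear_combination e11
        rcases mul_eq_zero.mp this with h | h
        · exact absurd h h2
        · exact h
      rw [hb0, hd0] at hdet
      simp at hdet
  obtain ⟨hc0, had⟩ := hc
  rw [hb, hc0, ← had] at hdet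
  have ha : x.1 0 0 = 1 ∨ x.1 0 0 = -1 := by
    have : (x.1 0 0 - 1) * (x.1 0 0 + 1) = 0 := by linear_combination hdet
    rcases mul_eq_zero.mp this with h | h
    · left; linear_combination h
    · right; linear_combination h
  rcases ha with ha | ha
  · left
    ext i j
    fin_cases i <;> fin_cases j
    · simpa using ha
    · simpa using hb
    · simpa using hc0
    · simp only [Fin.mk_one, Fin.isValue, Matrix.SpecialLinearGroup.coe_one, Matrix.one_apply_eq]
      rw [← had, ha]
  · right
    ext i j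
    fin_cases i <;> fin_cases j
    · simpa using ha
    · simpa using hb
    · simpa using hc0
    · simp only [Fin.mk_one, Fin.isValue, Matrix.SpecialLinearGroup.coe_neg,
        Matrix.SpecialLinearGroup.coe_one, Matrix.neg_apply, Matrix.one_apply_eq]
      rw [← had, ha]

/-- the general transport: a surjection `ρ : S →* Ω` with kernel the centre of `S`,
  where `S ⧸ Z(S)` has trivial centre, gives `Ω ⧸ Z(Ω) ≃* S ⧸ Z(S)` -/
theorem transport_equiv {S Ω : Type*} [Group S] [Group Ω] (ρ : S →* Ω)
    (hsurj : Function.Surjective ρ) (hker : ρ.ker = Subgroup.center S)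
    (hZ : Subgroup.center (S ⧸ Subgroup.center S) = ⊥) :
    Nonempty ((Ω ⧸ Subgroup.center Ω) ≃* (S ⧸ Subgroup.center S)) := by
  have e1 : (S ⧸ ρ.ker) ≃* Ω := QuotientGroup.quotientKerEquivOfSurjective ρ hsurj
  have e2 : (S ⧸ ρ.ker) ≃* (S ⧸ Subgroup.center S) := QuotientGroup.quotientMulEquivOfEq hker
  have e : Ω ≃* (S ⧸ Subgroup.center S) := e1.symm.trans e2
  have hZΩ : Subgroup.center Ω = ⊥ := by
    rw [eq_bot_iff]
    intro z hz
    rw [Subgroup.mem_bot]
    have : e z ∈ Subgroup.center (S ⧸ Subgroup.center S) := by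
      rw [Subgroup.mem_center_iff]
      intro y
      obtain ⟨y', rfl⟩ := e.surjective y
      rw [← map_mul, ← map_mul, Subgroup.mem_center_iff.mp hz y']
    rw [hZ, Subgroup.mem_bot] at this
    exact e.injective (this.trans (map_one e).symm)
  have e3 : (Ω ⧸ Subgroup.center Ω) ≃* (Ω ⧸ (⊥ : Subgroup Ω)) :=
    QuotientGroup.quotientMulEquivOfEq hZΩ
  exact ⟨(e3.trans QuotientGroup.quotientBot).trans e⟩


end main

/-- PΩ_3(q) is isomorphic to PSL_2(q) for q odd. -/
theorem result {F : Type*} [Field F] [Fintype F] (hodd : Odd (Fintype.card F)) : Nonempty (Cfsg.POmega F (Cfsg.quadFormOdd 1 F) ≃* Matrix.ProjectiveSpecialLinearGroup (Fin 2) F) := by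
  classical
  have h2 : (2 : F) ≠ 0 := Cfsg.Agent.Lib.Helper6.two_ne_zero_of_odd_card hodd
  have hfun : Cfsg.quadFormOdd 1 F = ⇑(Cfsg.Agent.Lib.Helper6.QOdd F 1) :=
    (funext (Cfsg.Agent.Lib.Helper6.QOdd_apply F 1)).symm
  rw [hfun]
  have hQ := Cfsg.Agent.Lib.Helper6.nondegenerate_QOdd F h2 1
  have hcard : Fintype.card I3 = 3 := by
    rw [Fintype.card_sum, Fintype.card_sum, Fintype.card_fin]; rfl
  -- the restricted homomorphism
  let ρ : Matrix.SpecialLinearGroup (Fin 2) F →* ↥(Cfsg.Omega F ⇑(Cfsg.Agent.Lib.Helper6.QOdd F 1)) :=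
    (rho (F := F)).codRestrict _ (rho_mem_Omega h2)
  have hker : ρ.ker = Subgroup.center (Matrix.SpecialLinearGroup (Fin 2) F) := by
    rw [← ker_rho]
    ext g
    simp only [MonoidHom.mem_ker]
    constructor
    · intro h
      have := congrArg Subtype.val h
      simpa [ρ] using this
    · intro h
      apply Subtype.ext
      simpa [ρ] using h
  -- cardinalities
  set q := Fintype.card F with hq
  have hq1 : 1 ≤ q := Fintype.card_pos
  have hSL : Nat.card (Matrix.SpecialLinearGroup (Fin 2) F) = q * (q ^ 2 - 1) :=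
    Cfsg.Agent.Lib.Helper14.card_SL2
  have hcen : Nat.card (Subgroup.center (Matrix.SpecialLinearGroup (Fin 2) F)) = 2 :=
    Cfsg.Agent.Lib.Helper15.card_center_SL2 h2
  have hO : Nat.card (Cfsg.isometryGroup F ⇑(Cfsg.Agent.Lib.Helper6.QOdd F 1)) = 2 * q * (q ^ 2 - 1) := by
    have := Cfsg.Agent.S0286.result (F := F) (q := q) rfl hodd 1
    rw [hfun] at this
    rw [this]
    simp
  have hidx : (Cfsg.Omega F ⇑(Cfsg.Agent.Lib.Helper6.QOdd F 1)).index = 4 :=
    Cfsg.Agent.Lib.Helper6.index_Omega' (Cfsg.Agent.Lib.Helper6.QOdd F 1) h2 hQ (by rw [hcard]; omega)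
  have hΩ : Nat.card ↥(Cfsg.Omega F ⇑(Cfsg.Agent.Lib.Helper6.QOdd F 1)) * 4 = 2 * q * (q ^ 2 - 1) := by
    rw [← hidx, Subgroup.card_mul_index, hO]
  have hrange : Nat.card ρ.range * 2 = q * (q ^ 2 - 1) := by
    have h1 := Subgroup.card_mul_index ρ.ker
    rw [Subgroup.index_ker, hker, hcen, hSL] at h1
    rw [← h1]; ring
  have hsurj : Function.Surjective ρ := by
    rw [← MonoidHom.range_eq_top]
    apply Subgroup.eq_top_of_card_eq
    have : Nat.card ρ.range * 4 = Nat.card ↥(Cfsg.Omega F ⇑(Cfsg.Agent.Lib.Helper6.QOdd F 1)) * 4 := by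
      rw [hΩ]
      have : Nat.card ρ.range * 4 = (Nat.card ρ.range * 2) * 2 := by ring
      rw [this, hrange]; ring
    exact Nat.eq_of_mul_eq_mul_right (by norm_num) this
  exact transport_equiv ρ hsurj hker (center_PSL2 h2)


end Cfsg.Agent.S0298
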