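import Cfsg.Statements.S2540
import Cfsg.Agent.Lib.Helper15.SLNormal

set_option autoImplicit false
open Cfsg

namespace Cfsg.Agent.S2540

open Cfsg.Agent.Lib.Helper15

theorem exists_sq_ne_one {F : Type*} [Field F] [Fintype F] (h : 4 ≤ Fintype.card F) :
    ∃ a : F, a ≠ 0 ∧ a ^ 2 ≠ 1 := by
  classical
  by_contra hne
  push Not at hne
  have hsub : (Finset.univ : Finset F) ⊆ {0, 1, -1} := by
    intro a _
    by_cases ha : a = 0
    · simp [ha]
    · have h1 := hne a ha
      have h2 : (a - 1) * (a + 1) = 0 := by ring_nf; rw [h1]; ring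
      rcases mul_eq_zero.mp h2 with h3 | h3
      · have : a = 1 := sub_eq_zero.mp h3
        simp [this]
      · have : a = -1 := eq_neg_of_add_eq_zero_left h3
        simp [this]
  have := Finset.card_le_card hsub
  rw [Finset.card_univ] at this
  have h3 : ({0, 1, -1} : Finset F).card ≤ 3 := Finset.card_le_three
  omega

/-- Let F be a finite field and n ≥ 1, excluding the case n = 2 with #F ≤ 3. A subgroup of GL_n(F) that is normalized by every element of SL_n(F) either consists of scalar matrices or contains SL_n(F). -/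
theorem result {F : Type*} [Field F] [Fintype F] (n : ℕ) (hn : 1 ≤ n) (hex : ¬ (n = 2 ∧ Fintype.card F ≤ 3)) (G : Subgroup (Matrix.GeneralLinearGroup (Fin n) F)) (hG : ∀ s : Matrix.SpecialLinearGroup (Fin n) F, ∀ g ∈ G, (Matrix.SpecialLinearGroup.toGL s) * g * (Matrix.SpecialLinearGroup.toGL s)⁻¹ ∈ G) : (∀ g ∈ G, ∃ c : F, (g : Matrix (Fin n) (Fin n) F) = c • (1 : Matrix (Fin n) (Fin n) F)) ∨ (Matrix.SpecialLinearGroup.toGL : Matrix.SpecialLinearGroup (Fin n) F →* _).range ≤ G := by
  rcases Nat.lt_or_ge n 2 with h2 | h2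
  · -- n = 1
    obtain rfl : n = 1 := by omega
    left
    intro g _
    refine ⟨(g : Matrix (Fin 1) (Fin 1) F) 0 0, ?_⟩
    ext a b
    fin_cases a; fin_cases b
    simp
  · haveI : Nontrivial (Fin n) := Fin.nontrivial_iff_two_le.mpr h2
    apply SLn_normal_dichotomy _ G hG
    rcases Nat.lt_or_ge n 3 with h3 | h3
    · obtain rfl : n = 2 := by omega
      have hF : 4 ≤ Fintype.card F := by
        by_contra hlt
        exact hex ⟨rfl, by omega⟩
      obtain ⟨a, ha, hasq⟩ := exists_sq_ne_one hF
      exact Matrix.SL2.commutator_eq_top ha hasq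
    · exact SLn_commutator_eq_top (by rw [Fintype.card_fin]; exact h3)

end Cfsg.Agent.S2540
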