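-- Statement S0299
import Cfsg.Statements.S0299
import Mathlib
import Cfsg.Agent.Lib.Helper6.ProdCentral
import Cfsg.Agent.Lib.Helper6.PerfectCentral
import Cfsg.Agent.Lib.Helper6.OmegaOdd
import Cfsg.Agent.Lib.Helper6.OmegaList
import Cfsg.Agent.Lib.Helper14.SL2
import Cfsg.Agent.Lib.Helper15.QuadF2a
import Cfsg.Agent.Lib.Helper15.SLNormal
import Cfsg.Agent.S0287
import Cfsg.Agent.S2540
import Cfsg.Agent.S0293

set_option autoImplicit false
open Cfsg

namespace Cfsg.Agent.S0299

open Cfsg.Agent.Lib.Helper6 Cfsg.Agent.Lib.Helper15 Matrix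

section algebra
variable {F : Type*} [Field F]

/-- the index type -/
abbrev I4 := Fin 2 ⊕ Fin 2

/-- positions in a `2 × 2` matrix -/
def pos : I4 → Fin 2 × Fin 2
  | .inl 0 => (0, 0)
  | .inl 1 => (0, 1)
  | .inr 0 => (1, 1)
  | .inr 1 => (1, 0)

/-- signs -/
def sg : I4 → F
  | .inl 0 => 1
  | .inl 1 => -1
  | .inr 0 => 1
  | .inr 1 => 1

/-- the matrix of `X ↦ A X Bᵀ` -/
def M (A B : Matrix (Fin 2) (Fin 2) F) : Matrix I4 I4 F := fun I J =>
  sg I * sg J * A (pos I).1 (pos J).1 * B (pos I).2 (pos J).2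

theorem M_one : M (1 : Matrix (Fin 2) (Fin 2) F) 1 = 1 := by
  ext I J
  rcases I with i | i <;> rcases J with j | j <;> fin_cases i <;> fin_cases j <;>
    simp [M, pos, sg, Matrix.one_apply]

set_option maxHeartbeats 4000000 in
theorem M_mul (A B A' B' : Matrix (Fin 2) (Fin 2) F) :
    M (A * A') (B * B') = M A B * M A' B' := by
  ext I J
  rcases I with i | i <;> rcases J with j | j <;> fin_cases i <;> fin_cases j <;>
    simp only [M, pos, sg, Matrix.mul_apply, Fin.sum_univ_two, Fintype.sum_sum_type,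
      Fin.zero_eta, Fin.mk_one] <;> ring

theorem M_form (A B : Matrix (Fin 2) (Fin 2) F) (v : I4 → F) :
    Cfsg.quadFormPlus 2 F (M A B *ᵥ v) = A.det * B.det * Cfsg.quadFormPlus 2 F v := by
  rw [Matrix.det_fin_two, Matrix.det_fin_two]
  simp only [Cfsg.quadFormPlus, Matrix.mulVec, dotProduct, M, pos, sg, Fintype.sum_sum_type,
    Fin.sum_univ_two]
  ring

end algebra

section hom
variable {F : Type*} [Field F]

/-- the homomorphism `SL₂(F) × SL₂(F) → O⁺₄(F)` -/
def rho : Matrix.SpecialLinearGroup (Fin 2) F × Matrix.SpecialLinearGroup (Fin 2) F →*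
    ↥(Cfsg.isometryGroup F ⇑(QPlus F 2)) where
  toFun x := ⟨⟨M x.1.1 x.2.1, M (x.1⁻¹).1 (x.2⁻¹).1, by
      rw [← M_mul, ← Matrix.SpecialLinearGroup.coe_mul, ← Matrix.SpecialLinearGroup.coe_mul,
        mul_inv_cancel, mul_inv_cancel, Matrix.SpecialLinearGroup.coe_one, M_one], by
      rw [← M_mul, ← Matrix.SpecialLinearGroup.coe_mul, ← Matrix.SpecialLinearGroup.coe_mul,
        inv_mul_cancel, inv_mul_cancel, Matrix.SpecialLinearGroup.coe_one, M_one]⟩, by
    intro u _
    change QPlus F 2 (M x.1.1 x.2.1 *ᵥ u) = QPlus F 2 u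
    rw [QPlus_apply, QPlus_apply, M_form, x.1.2, x.2.2, one_mul, one_mul]⟩
  map_one' := by
    apply Subtype.ext
    apply Units.ext
    exact M_one
  map_mul' x y := by
    apply Subtype.ext
    apply Units.ext
    exact M_mul x.1.1 x.2.1 y.1.1 y.2.1

theorem rho_val (x : Matrix.SpecialLinearGroup (Fin 2) F × Matrix.SpecialLinearGroup (Fin 2) F) :
    (((rho x).1 : GL I4 F) : Matrix I4 I4 F) = M x.1.1 x.2.1 := rfl

theorem rho_eq_one_iff (x : Matrix.SpecialLinearGroup (Fin 2) F × Matrix.SpecialLinearGroup (Fin 2) F) :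
    rho x = 1 ↔ M x.1.1 x.2.1 = 1 := by
  constructor
  · intro hg
    have := congrArg (fun y : ↥(Cfsg.isometryGroup F ⇑(QPlus F 2)) =>
      (((y.1 : GL I4 F) : Matrix I4 I4 F))) hg
    simp only [rho_val] at this
    rw [this]
    rfl
  · intro h
    apply Subtype.ext
    apply Units.ext
    exact h

/-- the kernel of `(A, B) ↦ M A B` -/
theorem M_eq_one (A B : Matrix (Fin 2) (Fin 2) F) (hA : A.det = 1) (h : M A B = 1) :
    (A = 1 ∧ B = 1) ∨ (A = -1 ∧ B = -1) := by
  have e1 := congrFun (congrFun h (Sum.inl 0)) (Sum.inl 0)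
  have e2 := congrFun (congrFun h (Sum.inl 0)) (Sum.inl 1)
  have e3 := congrFun (congrFun h (Sum.inl 0)) (Sum.inr 1)
  have e4 := congrFun (congrFun h (Sum.inl 1)) (Sum.inl 1)
  have e5 := congrFun (congrFun h (Sum.inr 1)) (Sum.inr 1)
  have e6 := congrFun (congrFun h (Sum.inr 0)) (Sum.inr 0)
  have e7 := congrFun (congrFun h (Sum.inr 1)) (Sum.inl 0)
  have e8 := congrFun (congrFun h (Sum.inl 1)) (Sum.inl 0)
  simp [M, pos, sg] at e1 e2 e3 e4 e5 e6 e7 e8
  have hA0 : A 0 0 ≠ 0 := by
    intro h0; rw [h0, zero_mul] at e1; exact zero_ne_one e1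
  have hB0 : B 0 0 ≠ 0 := by
    intro h0; rw [h0, mul_zero] at e1; exact zero_ne_one e1
  have hB11 : B 1 1 ≠ 0 := by
    intro h0; rw [h0, mul_zero] at e4; exact zero_ne_one e4
  have b01 : B 0 1 = 0 := by
    rcases e2 with h | h
    · exact absurd h hA0
    · exact h
  have a01 : A 0 1 = 0 := by
    rcases e3 with h | h
    · exact h
    · exact absurd h hB0
  have a10 : A 1 0 = 0 := by
    rcases e7 with h | h
    · exact h
    · exact absurd h hB0
  have b10 : B 1 0 = 0 := by
    rcases e8 with h | h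
    · exact absurd h hA0
    · exact h
  rw [Matrix.det_fin_two, a01, zero_mul, sub_zero] at hA
  have a11 : A 1 1 = A 0 0 := by
    have : (A 0 0 - A 1 1) * B 1 1 = 0 := by linear_combination e4 - e6
    rcases mul_eq_zero.mp this with h | h
    · linear_combination -h
    · exact absurd h hB11
  rw [a11] at hA e5
  have hc : A 0 0 = 1 ∨ A 0 0 = -1 := by
    have : (A 0 0 - 1) * (A 0 0 + 1) = 0 := by linear_combination hA
    rcases mul_eq_zero.mp this with h | h
    · left; linear_combination h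
    · right; linear_combination h
  have b00 : B 0 0 = A 0 0 := by linear_combination (A 0 0) * e1 - (B 0 0) * hA
  have b11 : B 1 1 = A 0 0 := by linear_combination (A 0 0) * e4 - (B 1 1) * hA
  rcases hc with hc | hc
  · left
    constructor
    · ext i j
      fin_cases i <;> fin_cases j <;> simp [a01, a10, a11, hc]
    · ext i j
      fin_cases i <;> fin_cases j <;> simp [b01, b10, b11, b00, hc]
  · right
    constructor
    · ext i j
      fin_cases i <;> fin_cases j <;> simp [a01, a10, a11, hc]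
    · ext i j
      fin_cases i <;> fin_cases j <;> simp [b01, b10, b11, b00, hc]

end hom

section main
variable {F : Type*} [Field F] [Fintype F]

theorem card_I4 : Fintype.card I4 = 4 := by
  rw [Fintype.card_sum, Fintype.card_fin]

theorem transvection_pow {i j : Fin 2} (hij : i ≠ j) (b : F) (k : ℕ) :
    (Matrix.SpecialLinearGroup.transvection hij b) ^ k =
      Matrix.SpecialLinearGroup.transvection hij ((k : F) * b) := by
  induction k with
  | zero => simp
  | succ k ih =>
    rw [pow_succ, ih, ← Matrix.SpecialLinearGroup.transvection_add]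
    congr 1
    push_cast
    ring

/-- homomorphic images of `SL₂(F)` in `O⁺₄(F)` lie in `Ω`, in odd characteristic -/
theorem hom_mem_Omega (h2 : (2 : F) ≠ 0) (h3 : Fintype.card F ≠ 2)
    (φ : Matrix.SpecialLinearGroup (Fin 2) F →* ↥(Cfsg.isometryGroup F ⇑(QPlus F 2)))
    (g : Matrix.SpecialLinearGroup (Fin 2) F) : φ g ∈ Cfsg.Omega F ⇑(QPlus F 2) := by
  have hQ := nondegenerate_QPlus F 2
  have hp := CharP.char_is_prime F (ringChar F)
  have hpodd : Odd (ringChar F) := by
    rcases hp.eq_two_or_odd' with h | h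
    · exfalso
      apply h2
      have := CharP.cast_eq_zero F (ringChar F)
      rw [h] at this
      exact_mod_cast this
    · exact h
  refine SLn_transvection_induction (fun g => φ g ∈ Cfsg.Omega F ⇑(QPlus F 2)) ?_ ?_ g
  · intro i j hij c
    apply mem_Omega_of_pow_odd' (QPlus F 2) hQ (by rw [card_I4]; omega) (Or.inl h3)
      _ (ringChar F) hpodd
    rw [← map_pow, transvection_pow, CharP.cast_eq_zero F (ringChar F), zero_mul,
      Matrix.SpecialLinearGroup.transvection_coeff_zero, map_one]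
  · intro A B hA hB
    rw [map_mul]
    exact Subgroup.mul_mem _ hA hB

/-- the image of `rho` lies in `Ω` -/
theorem rho_mem_Omega (hF : 3 ≤ Fintype.card F)
    (x : Matrix.SpecialLinearGroup (Fin 2) F × Matrix.SpecialLinearGroup (Fin 2) F) :
    rho x ∈ Cfsg.Omega F ⇑(QPlus F 2) := by
  have key : ∀ φ : Matrix.SpecialLinearGroup (Fin 2) F →* ↥(Cfsg.isometryGroup F ⇑(QPlus F 2)),
      ∀ g, φ g ∈ Cfsg.Omega F ⇑(QPlus F 2) := by
    intro φ g
    by_cases h2 : (2 : F) = 0
    · have h4 : 4 ≤ Fintype.card F := by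
        have := Cfsg.Agent.S0293.even_card_of_two h2
        obtain ⟨k, hk⟩ := this
        omega
      obtain ⟨a, ha, hasq⟩ := Cfsg.Agent.S2540.exists_sq_ne_one h4
      exact map_mem_commutator_of_perfect φ (Matrix.SL2.commutator_eq_top ha hasq) g
    · exact hom_mem_Omega h2 (by omega) φ g
  have e : x = (x.1, 1) * (1, x.2) := by ext <;> simp
  rw [e, map_mul]
  exact Subgroup.mul_mem _ (key (rho.comp (MonoidHom.inl _ _)) x.1)
    (key (rho.comp (MonoidHom.inr _ _)) x.2)

theorem ker_sub_pair :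
    ((rho (F := F)).ker : Set (Matrix.SpecialLinearGroup (Fin 2) F × Matrix.SpecialLinearGroup (Fin 2) F))
      ⊆ {(1, 1), (-1, -1)} := by
  intro x hx
  have hx' : rho x = 1 := hx
  rw [rho_eq_one_iff] at hx'
  rcases M_eq_one _ _ x.1.2 hx' with h | h
  · left
    ext : 1
    · exact Subtype.ext h.1
    · exact Subtype.ext h.2
  · right
    rw [Set.mem_singleton_iff]
    ext : 1
    · apply Subtype.ext
      rw [h.1]; simp
    · apply Subtype.ext
      rw [h.2]; simp

omit [Fintype F] in
theorem neg_one_eq_one (h2 : (2 : F) = 0) : (-1 : Matrix.SpecialLinearGroup (Fin 2) F) = 1 := by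
  apply Subtype.ext
  rw [Matrix.SpecialLinearGroup.coe_neg, Matrix.SpecialLinearGroup.coe_one,
    neg_eq_iff_add_eq_zero, ← two_smul F (1 : Matrix (Fin 2) (Fin 2) F), h2, zero_smul]

omit [Fintype F] in
theorem rho_inl_injective (g : Matrix.SpecialLinearGroup (Fin 2) F) (h : rho (g, 1) = 1) : g = 1 := by
  rw [rho_eq_one_iff] at h
  rcases M_eq_one _ _ g.2 h with h | h
  · exact Subtype.ext h.1
  · have h1 : (1 : Matrix (Fin 2) (Fin 2) F) = -1 := h.2
    apply Subtype.ext
    rw [h.1, ← h1]
    rfl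

omit [Fintype F] in
theorem rho_inr_injective (g : Matrix.SpecialLinearGroup (Fin 2) F) (h : rho (1, g) = 1) : g = 1 := by
  rw [rho_eq_one_iff] at h
  rcases M_eq_one _ _ (1 : Matrix.SpecialLinearGroup (Fin 2) F).2 h with h | h
  · exact Subtype.ext h.2
  · have h1 : (1 : Matrix (Fin 2) (Fin 2) F) = -1 := h.1
    apply Subtype.ext
    rw [h.2, ← h1]
    rfl

end main

/-- PΩ^+_4(q) is isomorphic to PSL_2(q) x PSL_2(q) for q at least 3. -/
theorem result {F : Type*} [Field F] [Fintype F] (hF : 3 ≤ Fintype.card F) : Nonempty (Cfsg.POmega F (Cfsg.quadFormPlus 2 F) ≃* Matrix.ProjectiveSpecialLinearGroup (Fin 2) F × Matrix.ProjectiveSpecialLinearGroup (Fin 2) F) := by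
  classical
  have hfun : Cfsg.quadFormPlus 2 F = ⇑(QPlus F 2) := (funext (QPlus_apply F 2)).symm
  rw [hfun]
  have hQ := nondegenerate_QPlus F 2
  have hex : Fintype.card F ≠ 2 ∨ Fintype.card I4 ≠ 4 := by left; omega
  let ρ : Matrix.SpecialLinearGroup (Fin 2) F × Matrix.SpecialLinearGroup (Fin 2) F →*
      ↥(Cfsg.Omega F ⇑(QPlus F 2)) :=
    (rho (F := F)).codRestrict _ (rho_mem_Omega hF)
  have hρ : ∀ x, ρ x = 1 ↔ rho x = 1 := by
    intro x
    constructor
    · intro h
      have := congrArg Subtype.val h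
      simpa [ρ] using this
    · intro h
      apply Subtype.ext
      simpa [ρ] using h
  have hker : ρ.ker = (rho (F := F)).ker := by
    ext g
    simp only [MonoidHom.mem_ker]
    exact hρ g
  -- cardinalities
  set q := Fintype.card F with hq
  have hSL : Nat.card (Matrix.SpecialLinearGroup (Fin 2) F) = q * (q ^ 2 - 1) :=
    Cfsg.Agent.Lib.Helper14.card_SL2
  have hS : Nat.card (Matrix.SpecialLinearGroup (Fin 2) F × Matrix.SpecialLinearGroup (Fin 2) F) =
      (q * (q ^ 2 - 1)) * (q * (q ^ 2 - 1)) := by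
    rw [Nat.card_prod, hSL]
  have hO := Cfsg.Agent.S0287.result (F := F) (q := q) rfl 2 (by omega)
  rw [hfun] at hO
  have hO' : Nat.card ↥(Cfsg.isometryGroup F ⇑(QPlus F 2)) =
      2 * Nat.card (Matrix.SpecialLinearGroup (Fin 2) F × Matrix.SpecialLinearGroup (Fin 2) F) := by
    rw [hO, hS]
    simp only [Finset.prod_range_succ, Finset.range_zero, Finset.prod_empty]
    norm_num
    ring
  have hΩ := Subgroup.card_mul_index (Cfsg.Omega F ⇑(QPlus F 2))
  rw [hO'] at hΩ
  have hkr := Subgroup.card_mul_index ρ.ker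
  rw [Subgroup.index_ker] at hkr
  have hle : Nat.card ρ.range ≤ Nat.card ↥(Cfsg.Omega F ⇑(QPlus F 2)) :=
    Subgroup.card_le_card_group _
  have hkcard : Nat.card ρ.ker = ((rho (F := F)).ker :
      Set (Matrix.SpecialLinearGroup (Fin 2) F × Matrix.SpecialLinearGroup (Fin 2) F)).ncard := by
    rw [hker]
    exact Nat.card_coe_set_eq _
  have hsurj : Function.Surjective ρ := by
    rw [← MonoidHom.range_eq_top]
    apply Subgroup.eq_top_of_card_eq
    by_cases h2 : (2 : F) = 0
    · have hidx := index_Omega_two' (QPlus F 2) h2 hQ (by rw [card_I4]; omega) hex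
      rw [hidx] at hΩ
      have hk1 : Nat.card ρ.ker ≤ 1 := by
        rw [hkcard]
        have hsub := ker_sub_pair (F := F)
        rw [neg_one_eq_one h2, Set.pair_eq_singleton] at hsub
        exact (Set.ncard_le_ncard hsub (Set.finite_singleton _)).trans (by rw [Set.ncard_singleton])
      have := Nat.mul_le_mul_right (Nat.card ρ.range) hk1
      omega
    · have hidx := index_Omega' (QPlus F 2) h2 hQ (by rw [card_I4]; omega)
      rw [hidx] at hΩ
      have hk2 : Nat.card ρ.ker ≤ 2 := by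
        rw [hkcard]
        have hsub := ker_sub_pair (F := F)
        exact (Set.ncard_le_ncard hsub (Set.toFinite _)).trans
          ((Set.ncard_insert_le _ _).trans (by rw [Set.ncard_singleton]))
      have := Nat.mul_le_mul_right (Nat.card ρ.range) hk2
      omega
  exact prod_center_equiv ρ hsurj
    (fun g hg => rho_inl_injective g ((hρ _).mp hg))
    (fun g hg => rho_inr_injective g ((hρ _).mp hg))

end Cfsg.Agent.S0299
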