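-- Statement S0300
import Cfsg.Statements.S0300
import Mathlib
import Cfsg.Agent.Lib.Helper6.PerfectCentral
import Cfsg.Agent.Lib.Helper6.Spinor3
import Cfsg.Agent.Lib.Helper14.SL2
import Cfsg.Agent.Lib.Helper15.QuadCount6
import Cfsg.Agent.Lib.Helper15.HermAct
import Cfsg.Agent.Lib.Helper3.SLTransport
import Cfsg.Agent.S0288
import Cfsg.Agent.S2540

set_option autoImplicit false
open Cfsg

namespace Cfsg.Agent.S0300

open Cfsg.Agent.Lib.Helper6 Cfsg.Agent.Lib.Helper15 Matrix

/-- a subgroup of index two contains the commutator subgroup -/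
theorem commutator_le_of_index_two {G : Type*} [Group G] (H : Subgroup G) (h : H.index = 2) :
    commutator G ≤ H := by
  have : H.Normal := Subgroup.normal_of_index_eq_two h
  have : Fact (Nat.Prime 2) := ⟨Nat.prime_two⟩
  have hc : IsCyclic (G ⧸ H) := isCyclic_of_prime_card (p := 2) (by rw [← Subgroup.index_eq_card]; exact h)
  let _ : CommGroup (G ⧸ H) := IsCyclic.commGroup
  have := Abelianization.commutator_subset_ker (QuotientGroup.mk' H)
  rwa [QuotientGroup.ker_mk'] at this

/-- PΩ^-_4(q) is isomorphic to PSL_2(q^2). -/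
theorem result {F K : Type*} [Field F] [Fintype F] [Field K] [Fintype K] {q : ℕ} (hF : Fintype.card F = q) (hK : Fintype.card K = q ^ 2) (a b : F) (hab : ∀ z₁ z₂ : F, z₁ ^ 2 + a * z₁ * z₂ + b * z₂ ^ 2 = 0 → z₁ = 0 ∧ z₂ = 0) : Nonempty (Cfsg.POmega F (Cfsg.quadFormMinus 1 F a b) ≃* Matrix.ProjectiveSpecialLinearGroup (Fin 2) K) := by
  classical
  have hfact : Fact (∀ r : F, r ^ 2 ≠ -b + a * r) := ⟨fun r hr => by
    have := hab r (-1) (by linear_combination hr)
    exact one_ne_zero (neg_eq_zero.mp this.2)⟩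
  let _ : Fintype (QE a b) := Fintype.ofEquiv (F × F) (QuadraticAlgebra.equivProd (-b) a).symm
  have hq2 : 2 ≤ q := by rw [← hF]; exact Fintype.one_lt_card
  have hcardQE : Fintype.card (QE a b) = q ^ 2 := by
    rw [Fintype.card_congr (QuadraticAlgebra.equivProd (-b) a), Fintype.card_prod, hF]; ring
  obtain ⟨c, hc, hcsq⟩ := Cfsg.Agent.S2540.exists_sq_ne_one (F := QE a b) (by rw [hcardQE]; nlinarith)
  have hperf : commutator (Matrix.SpecialLinearGroup (Fin 2) (QE a b)) = ⊤ :=
    Matrix.SL2.commutator_eq_top hc hcsq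
  -- the restricted homomorphism
  let ρ : Matrix.SpecialLinearGroup (Fin 2) (QE a b) →* ↥(Cfsg.Omega F (Cfsg.quadFormMinus 1 F a b)) :=
    (rhoMinus a b).codRestrict _ (fun g => map_mem_commutator_of_perfect _ hperf g)
  have hρ : ∀ x, ρ x = 1 ↔ rhoMinus a b x = 1 := by
    intro x
    constructor
    · intro h
      have := congrArg Subtype.val h
      simpa [ρ] using this
    · intro h
      apply Subtype.ext
      simpa [ρ] using h
  have hker2 : ∀ g, ρ g = 1 → g = 1 ∨ g = -1 := fun g hg =>
    rhoMinus_eq_one a b hab g ((hρ g).mp hg)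
  have hker : ρ.ker ≤ Subgroup.center (Matrix.SpecialLinearGroup (Fin 2) (QE a b)) := by
    intro g hg
    rcases hker2 g hg with h | h
    · rw [h]; exact Subgroup.one_mem _
    · rw [h, Subgroup.mem_center_iff]
      intro x
      simp
  -- cardinalities
  have hSL : Nat.card (Matrix.SpecialLinearGroup (Fin 2) (QE a b)) = q ^ 2 * ((q ^ 2) ^ 2 - 1) := by
    rw [Cfsg.Agent.Lib.Helper14.card_SL2, hcardQE]
  have hO : Nat.card (Cfsg.isometryGroup F (Cfsg.quadFormMinus 1 F a b)) =
      2 * (q ^ 2 * ((q ^ 2) ^ 2 - 1)) := by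
    have := Cfsg.Agent.S0288.result hF 2 (by omega) a b hab
    change Nat.card (Cfsg.isometryGroup F (Cfsg.quadFormMinus 1 F a b)) =
      2 * q ^ (2 * 1) * (q ^ 2 + 1) * ∏ i ∈ Finset.range 1, (q ^ (2 * (i + 1)) - 1) at this
    rw [Finset.prod_range_one] at this
    rw [this]
    have h1 : 1 ≤ q ^ 2 := Nat.one_le_pow _ _ (by omega)
    have h3 : (q ^ 2) ^ 2 - 1 = (q ^ 2 + 1) * (q ^ 2 - 1) := by
      zify [h1, Nat.one_le_pow 2 (q ^ 2) (by omega)]
      ring
    rw [h3]; ring
  have hkr := Subgroup.card_mul_index ρ.ker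
  rw [Subgroup.index_ker, hSL] at hkr
  have hΩ := Subgroup.card_mul_index (Cfsg.Omega F (Cfsg.quadFormMinus 1 F a b))
  rw [hO] at hΩ
  have hNpos : 0 < q ^ 2 * ((q ^ 2) ^ 2 - 1) := by
    have h1 : 4 ≤ q ^ 2 := by nlinarith
    have h2 : 16 ≤ (q ^ 2) ^ 2 := by nlinarith
    have : 0 < (q ^ 2) ^ 2 - 1 := by omega
    positivity
  have hsurj : Function.Surjective ρ := by
    by_cases h2 : (2 : F) = 0
    · -- even characteristic: the image has index two
      have hneg : (-1 : Matrix.SpecialLinearGroup (Fin 2) (QE a b)) = 1 := by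
        apply Subtype.ext
        rw [Matrix.SpecialLinearGroup.coe_neg, Matrix.SpecialLinearGroup.coe_one,
          neg_eq_iff_add_eq_zero, ← two_smul F (1 : Matrix (Fin 2) (Fin 2) (QE a b)), h2, zero_smul]
      have hinj : Function.Injective (rhoMinus a b) := by
        rw [injective_iff_map_eq_one]
        intro g hg
        rcases rhoMinus_eq_one a b hab g hg with h | h
        · exact h
        · rw [h, hneg]
      have hrange : Nat.card (rhoMinus a b).range = q ^ 2 * ((q ^ 2) ^ 2 - 1) := by
        rw [← hSL]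
        exact (Nat.card_congr (Equiv.ofInjective _ hinj)).symm
      have hidx : (rhoMinus a b).range.index = 2 := by
        have := Subgroup.card_mul_index (rhoMinus a b).range
        rw [hrange, hO] at this
        have h3 : q ^ 2 * ((q ^ 2) ^ 2 - 1) * (rhoMinus a b).range.index =
            q ^ 2 * ((q ^ 2) ^ 2 - 1) * 2 := by rw [this]; ring
        exact Nat.eq_of_mul_eq_mul_left hNpos h3
      have hle := commutator_le_of_index_two _ hidx
      intro y
      obtain ⟨g, hg⟩ := hle y.2
      exact ⟨g, Subtype.ext hg⟩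
    · -- odd characteristic
      have hfun : Cfsg.quadFormMinus 1 F a b = ⇑(Qgen 1 (binForm a b)) := by
        funext v
        rw [Qgen_apply, binForm_apply]
        rfl
      have hQ := nondegenerate_Qgen 1 (binForm a b) (nondegenerate_binForm a b hab)
      have hidx : (Cfsg.Omega F (Cfsg.quadFormMinus 1 F a b)).index = 4 := by
        rw [hfun]
        exact index_Omega' (Qgen 1 (binForm a b)) h2 hQ (by
          rw [Fintype.card_sum, Fintype.card_sum, Fintype.card_fin, Fintype.card_fin]; omega)
      rw [hidx] at hΩ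
      have hk2 : Nat.card ρ.ker ≤ 2 := by
        have hsub : (ρ.ker : Set (Matrix.SpecialLinearGroup (Fin 2) (QE a b))) ⊆ {1, -1} := by
          intro g hg
          rcases hker2 g hg with h | h
          · left; exact h
          · right; exact h
        have : Nat.card ρ.ker = (ρ.ker : Set (Matrix.SpecialLinearGroup (Fin 2) (QE a b))).ncard :=
          Nat.card_coe_set_eq _
        rw [this]
        exact (Set.ncard_le_ncard hsub (Set.toFinite _)).trans
          ((Set.ncard_insert_le _ _).trans (by rw [Set.ncard_singleton]))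
      rw [← MonoidHom.range_eq_top]
      apply Subgroup.eq_top_of_card_eq
      have hle : Nat.card ρ.range ≤ Nat.card ↥(Cfsg.Omega F (Cfsg.quadFormMinus 1 F a b)) :=
        Subgroup.card_le_card_group _
      have := Nat.mul_le_mul_right (Nat.card ρ.range) hk2
      omega
  obtain ⟨e1⟩ := quotient_center_equiv_of_surjective ρ hsurj hker hperf
  have e : QE a b ≃+* K := FiniteField.ringEquivOfCardEq (by rw [hcardQE, hK])
  exact ⟨e1.trans (Cfsg.Agent.Lib.Helper3.SLTransport.quotientCenterEquiv
    (Cfsg.Agent.Lib.Helper3.SLTransport.mapEquiv e))⟩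

end Cfsg.Agent.S0300
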