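-- Statement S0301
import Cfsg.Statements.S0301
import Mathlib
import Cfsg.Agent.Lib.Helper6.PerfectCentral
import Cfsg.Agent.Lib.Helper6.OrthForms
import Cfsg.Agent.Lib.Helper6.Spinor3
import Cfsg.Agent.Lib.Helper9.Layer
import Cfsg.Agent.S0302
import Cfsg.Agent.S0286
import Cfsg.Agent.S0245
import Cfsg.Agent.S0246
import Cfsg.Agent.S0269
import Cfsg.Agent.S0270

set_option autoImplicit false
open Cfsg

namespace Cfsg.Agent.S0301

open Cfsg.Agent.Lib.Helper6 Cfsg.Agent.S0302 Matrix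

section algebra
variable {F : Type*} [Field F]

/-- the index type of the `5`-dimensional space -/
abbrev I5 := Unit ⊕ (Fin 2 ⊕ Fin 2)

/-- the coordinate of `F^5` copied by each coordinate of `Λ² F⁴` -/
def em : I6 → I5
  | .inl 0 => .inr (.inl 0)
  | .inl 1 => .inl ()
  | .inl 2 => .inr (.inl 1)
  | .inr 0 => .inr (.inr 0)
  | .inr 1 => .inl ()
  | .inr 2 => .inr (.inr 1)

/-- a section of `em` -/
def sec : I5 → I6
  | .inl () => .inl 1
  | .inr (.inl 0) => .inl 0
  | .inr (.inl 1) => .inl 2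
  | .inr (.inr 0) => .inr 0
  | .inr (.inr 1) => .inr 2

theorem em_sec (a : I5) : em (sec a) = a := by
  rcases a with a | a | a
  · rfl
  · fin_cases a <;> rfl
  · fin_cases a <;> rfl

theorem quadFormOdd_eq (v : I5 → F) : Cfsg.quadFormOdd 2 F v = Cfsg.quadFormPlus 3 F (v ∘ em) := by
  unfold Cfsg.quadFormOdd Cfsg.quadFormPlus
  simp only [Fin.sum_univ_two, Fin.sum_univ_three, Function.comp, em]
  ring

/-- the standard alternating matrix on `Fin 4` -/
def J4 : Matrix (Fin 4) (Fin 4) F := !![0, 0, -1, 0; 0, 0, 0, -1; 1, 0, 0, 0; 0, 1, 0, 0]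

/-- the `5 × 5` matrix induced by a symplectic `4 × 4` matrix -/
def R (A : Matrix (Fin 4) (Fin 4) F) : Matrix I5 I5 F := fun a b =>
  ∑ J : I6, if em J = b then cmp A (sec a) J else 0

theorem R_mulVec (A : Matrix (Fin 4) (Fin 4) F) (v : I5 → F) :
    R A *ᵥ v = (cmp A *ᵥ (v ∘ em)) ∘ sec := by
  ext a
  simp only [Matrix.mulVec, dotProduct, R, Function.comp]
  simp_rw [Finset.sum_mul, ite_mul, zero_mul]
  rw [Finset.sum_comm]
  apply Finset.sum_congr rfl
  intro J _
  rw [Finset.sum_ite_eq]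
  simp

theorem symp_entries (A : Matrix (Fin 4) (Fin 4) F) (hA : Aᵀ * J4 * A = J4) (k l : Fin 4) :
    A 2 k * A 0 l - A 0 k * A 2 l + A 3 k * A 1 l - A 1 k * A 3 l = J4 k l := by
  have := congrFun (congrFun hA k) l
  rw [← this]
  simp only [Matrix.mul_apply, Fin.sum_univ_four, Matrix.transpose_apply, J4, Matrix.of_apply,
    Matrix.cons_val', Matrix.cons_val_zero, Matrix.cons_val_one, Matrix.cons_val]
  ring

set_option maxHeartbeats 4000000 in
/-- the linear form `x₁ - y₁` is invariant -/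
theorem cmp_invariant (A : Matrix (Fin 4) (Fin 4) F) (hA : Aᵀ * J4 * A = J4) (w : I6 → F) :
    (cmp A *ᵥ w) (Sum.inl 1) - (cmp A *ᵥ w) (Sum.inr 1) = w (Sum.inl 1) - w (Sum.inr 1) := by
  have h := symp_entries A hA
  have h01 := h 0 1
  have h20 := h 2 0
  have h03 := h 0 3
  have h23 := h 2 3
  have h13 := h 1 3
  have h12 := h 1 2
  simp only [J4, Matrix.of_apply, Matrix.cons_val', Matrix.cons_val_zero, Matrix.cons_val_one,
    Matrix.cons_val] at h01 h20 h03 h23 h13 h12
  simp only [Matrix.mulVec, dotProduct, S0302.cmp, S0302.pr, Fintype.sum_sum_type, Fin.sum_univ_three]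
  linear_combination h01 * w (Sum.inl 0) + h20 * w (Sum.inl 1) + h03 * w (Sum.inl 2)
    + h23 * w (Sum.inr 0) + h13 * w (Sum.inr 1) + h12 * w (Sum.inr 2)

theorem cmp_em (A : Matrix (Fin 4) (Fin 4) F) (hA : Aᵀ * J4 * A = J4) (v : I5 → F) :
    cmp A *ᵥ (v ∘ em) = (R A *ᵥ v) ∘ em := by
  rw [R_mulVec]
  have h := cmp_invariant A hA (v ∘ em)
  have h' : (cmp A *ᵥ (v ∘ em)) (Sum.inr 1) = (cmp A *ᵥ (v ∘ em)) (Sum.inl 1) := by
    have e : (v ∘ em) (Sum.inl 1) - (v ∘ em) (Sum.inr 1) = 0 := by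
      simp [Function.comp, em]
    rw [e] at h
    linear_combination -h
  ext J
  rcases J with j | j <;> fin_cases j
  · rfl
  · rfl
  · rfl
  · rfl
  · exact h'
  · rfl

theorem em_injective (v w : I5 → F) (h : v ∘ em = w ∘ em) : v = w := by
  ext a
  have := congrFun h (sec a)
  simpa [Function.comp, em_sec] using this

theorem R_one : R (1 : Matrix (Fin 4) (Fin 4) F) = 1 := by
  apply matrix_ext_mulVec
  intro v
  rw [R_mulVec, cmp_one, Matrix.one_mulVec, Matrix.one_mulVec]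
  ext a
  simp [Function.comp, em_sec]

theorem R_mul (A B : Matrix (Fin 4) (Fin 4) F) (hB : Bᵀ * J4 * B = J4) :
    R (A * B) = R A * R B := by
  apply matrix_ext_mulVec
  intro v
  rw [← Matrix.mulVec_mulVec, R_mulVec, R_mulVec A, cmp_mul, ← Matrix.mulVec_mulVec, cmp_em B hB]

theorem R_form (A : Matrix (Fin 4) (Fin 4) F) (hA : Aᵀ * J4 * A = J4) (hdet : A.det = 1)
    (v : I5 → F) : Cfsg.quadFormOdd 2 F (R A *ᵥ v) = Cfsg.quadFormOdd 2 F v := by
  rw [quadFormOdd_eq, ← cmp_em A hA, cmp_form, hdet, one_mul, quadFormOdd_eq]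

end algebra

section hom
variable {F : Type*} [Field F]

/-- the reindexing `Fin 2 ⊕ Fin 2 ≃ Fin 4` -/
def e4 : Fin 2 ⊕ Fin 2 ≃ Fin 4 where
  toFun := fun
    | .inl 0 => 0
    | .inl 1 => 1
    | .inr 0 => 2
    | .inr 1 => 3
  invFun := fun
    | 0 => .inl 0
    | 1 => .inl 1
    | 2 => .inr 0
    | 3 => .inr 1
  left_inv := by
    rintro (i | i) <;> fin_cases i <;> rfl
  right_inv := by
    intro i
    fin_cases i <;> rfl

/-- reindexing of matrices -/
def re (A : Matrix (Fin 2 ⊕ Fin 2) (Fin 2 ⊕ Fin 2) F) : Matrix (Fin 4) (Fin 4) F :=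
  A.submatrix e4.symm e4.symm

theorem re_one : re (1 : Matrix (Fin 2 ⊕ Fin 2) (Fin 2 ⊕ Fin 2) F) = 1 :=
  Matrix.submatrix_one_equiv _

theorem re_mul (A B : Matrix (Fin 2 ⊕ Fin 2) (Fin 2 ⊕ Fin 2) F) : re (A * B) = re A * re B :=
  (Matrix.submatrix_mul_equiv A B _ _ _).symm

theorem det_re (A : Matrix (Fin 2 ⊕ Fin 2) (Fin 2 ⊕ Fin 2) F) : (re A).det = A.det :=
  Matrix.det_submatrix_equiv_self _ A

theorem re_J : re (Matrix.J (Fin 2) F) = J4 := by
  ext i j
  fin_cases i <;> fin_cases j <;> simp [re, e4, Matrix.J, J4]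

theorem re_symp (A : Matrix (Fin 2 ⊕ Fin 2) (Fin 2 ⊕ Fin 2) F)
    (hA : A ∈ Matrix.symplecticGroup (Fin 2) F) : (re A)ᵀ * J4 * re A = J4 := by
  rw [SymplecticGroup.mem_iff'] at hA
  have := congrArg re hA
  rw [re_mul, re_mul, re_J] at this
  exact this

/-- the homomorphism `Sp₄(F) → O₅(F)` -/
def rho : Matrix.symplecticGroup (Fin 2) F →* ↥(Cfsg.isometryGroup F ⇑(QOdd F 2)) where
  toFun g := ⟨⟨R (re g.1), R (re (g⁻¹).1), by
      rw [← R_mul _ _ (re_symp _ (g⁻¹).2), ← re_mul]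
      have : g.1 * (g⁻¹).1 = 1 := congrArg Subtype.val (mul_inv_cancel g)
      rw [this, re_one, R_one], by
      rw [← R_mul _ _ (re_symp _ g.2), ← re_mul]
      have : (g⁻¹).1 * g.1 = 1 := congrArg Subtype.val (inv_mul_cancel g)
      rw [this, re_one, R_one]⟩, by
    intro u _
    change QOdd F 2 (R (re g.1) *ᵥ u) = QOdd F 2 u
    rw [QOdd_apply, QOdd_apply, R_form _ (re_symp _ g.2)]
    rw [det_re]
    exact SymplecticGroup.det_eq_one g.2⟩
  map_one' := by
    apply Subtype.ext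
    apply Units.ext
    change R (re 1) = 1
    rw [re_one, R_one]
  map_mul' g h := by
    apply Subtype.ext
    apply Units.ext
    change R (re (g.1 * h.1)) = R (re g.1) * R (re h.1)
    rw [re_mul, R_mul _ _ (re_symp _ h.2)]

theorem rho_val (g : Matrix.symplecticGroup (Fin 2) F) :
    (((rho g).1 : GL I5 F) : Matrix I5 I5 F) = R (re g.1) := rfl

theorem rho_eq_one_iff (g : Matrix.symplecticGroup (Fin 2) F) : rho g = 1 ↔ R (re g.1) = 1 := by
  constructor
  · intro hg
    have := congrArg (fun y : ↥(Cfsg.isometryGroup F ⇑(QOdd F 2)) =>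
      (((y.1 : GL I5 F) : Matrix I5 I5 F))) hg
    simp only [rho_val] at this
    rw [this]
    rfl
  · intro h
    apply Subtype.ext
    apply Units.ext
    exact h

/-- an element not in the kernel -/
def shear : Matrix.symplecticGroup (Fin 2) F :=
  ⟨Matrix.fromBlocks 1 (Matrix.single 0 0 1) 0 1, by
    rw [SymplecticGroup.fromBlocks_mem_iff]
    refine ⟨by simp, ?_, by simp⟩
    rw [Matrix.transpose_one, Matrix.mul_one, Matrix.one_mul, Matrix.transpose_single]⟩

theorem rho_shear_ne_one : rho (shear (F := F)) ≠ 1 := by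
  rw [ne_eq, rho_eq_one_iff]
  intro h
  have := congrFun (congrFun h (Sum.inr (Sum.inl 0))) (Sum.inr (Sum.inr 1))
  simp [R, S0302.cmp, S0302.pr, sec, em, re, e4, shear, Fintype.sum_sum_type, Fin.sum_univ_three,
    Matrix.single_apply] at this

end hom

section main
variable {F : Type*} [Field F] [Fintype F]

theorem card_I5 : Fintype.card I5 = 5 := by
  rw [Fintype.card_sum, Fintype.card_sum, Fintype.card_fin]; rfl

theorem Sp4_quasisimple (h3 : 3 ≤ Fintype.card F) :
    Cfsg.IsQuasisimple (Matrix.symplecticGroup (Fin 2) F) :=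
  ⟨⟨Cfsg.Agent.S0269.result 2 (Or.inr (Or.inl ⟨rfl, h3⟩))⟩,
    Cfsg.Agent.S0270.result 2 le_rfl (fun _ => h3)⟩

theorem ker_le_center (h3 : 3 ≤ Fintype.card F) :
    (rho (F := F)).ker ≤ Subgroup.center (Matrix.symplecticGroup (Fin 2) F) := by
  rcases Cfsg.Agent.Lib.Helper9.qs_normal_le_center_or_eq_top (Sp4_quasisimple h3)
    (rho (F := F)).ker with h | h
  · exact h
  · exfalso
    apply rho_shear_ne_one (F := F)
    have : shear (F := F) ∈ (rho (F := F)).ker := by rw [h]; trivial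
    exact this

end main

/-- PΩ_5(q) is isomorphic to PSp_4(q) for q odd. -/
theorem result {F : Type*} [Field F] [Fintype F] (hodd : Odd (Fintype.card F)) : Nonempty (Cfsg.POmega F (Cfsg.quadFormOdd 2 F) ≃* Cfsg.PSp 2 F) := by
  classical
  have h2 : (2 : F) ≠ 0 := two_ne_zero_of_odd_card hodd
  have h3 : 3 ≤ Fintype.card F := by
    have : 2 ≤ Fintype.card F := Fintype.one_lt_card
    obtain ⟨k, hk⟩ := hodd
    omega
  have hfun : Cfsg.quadFormOdd 2 F = ⇑(QOdd F 2) := (funext (QOdd_apply F 2)).symm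
  rw [hfun]
  have hQ := nondegenerate_QOdd F h2 2
  have hperf : commutator (Matrix.symplecticGroup (Fin 2) F) = ⊤ :=
    Cfsg.Agent.S0269.result 2 (Or.inr (Or.inl ⟨rfl, h3⟩))
  let ρ : Matrix.symplecticGroup (Fin 2) F →* ↥(Cfsg.Omega F ⇑(QOdd F 2)) :=
    (rho (F := F)).codRestrict _ (fun g => map_mem_commutator_of_perfect rho hperf g)
  have hker : ρ.ker = (rho (F := F)).ker := by
    ext g
    simp only [MonoidHom.mem_ker]
    constructor
    · intro h
      have := congrArg Subtype.val h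
      simpa [ρ] using this
    · intro h
      apply Subtype.ext
      simpa [ρ] using h
  have hkc : ρ.ker ≤ Subgroup.center (Matrix.symplecticGroup (Fin 2) F) := by
    rw [hker]; exact ker_le_center h3
  -- cardinalities
  set q := Fintype.card F with hq
  have hSp := Cfsg.Agent.S0245.result (F := F) (q := q) rfl 2
  have hZ := Cfsg.Agent.S0246.result (F := F) (q := q) rfl 2 (by omega)
  have hO := Cfsg.Agent.S0286.result (F := F) (q := q) rfl hodd 2
  rw [hfun] at hO
  have hO' : Nat.card ↥(Cfsg.isometryGroup F ⇑(QOdd F 2)) =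
      2 * Nat.card (Matrix.symplecticGroup (Fin 2) F) := by
    rw [hO, hSp]; ring
  have hZ2 : Nat.card (Subgroup.center (Matrix.symplecticGroup (Fin 2) F)) = 2 := by
    rw [hZ]
    obtain ⟨k, hk⟩ := hodd
    have : q - 1 = 2 * k := by omega
    rw [this]
    exact Nat.gcd_mul_right_right k 2
  have hΩ := Subgroup.card_mul_index (Cfsg.Omega F ⇑(QOdd F 2))
  rw [hO', index_Omega' (QOdd F 2) h2 hQ (by rw [card_I5]; omega)] at hΩ
  have hkr := Subgroup.card_mul_index ρ.ker
  rw [Subgroup.index_ker] at hkr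
  have hle : Nat.card ρ.range ≤ Nat.card ↥(Cfsg.Omega F ⇑(QOdd F 2)) :=
    Subgroup.card_le_card_group _
  have hk2 : Nat.card ρ.ker ≤ 2 := (Subgroup.card_le_of_le hkc).trans hZ2.le
  have hsurj : Function.Surjective ρ := by
    rw [← MonoidHom.range_eq_top]
    apply Subgroup.eq_top_of_card_eq
    have := Nat.mul_le_mul_right (Nat.card ρ.range) hk2
    omega
  exact quotient_center_equiv_of_surjective ρ hsurj hkc hperf

end Cfsg.Agent.S0301
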