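-- Statement S0303
import Cfsg.Statements.S0303
import Mathlib
import Cfsg.Agent.Lib.Helper6.PerfectCentral
import Cfsg.Agent.Lib.Helper6.Spinor3
import Cfsg.Agent.Lib.Helper6.SUSimple
import Cfsg.Agent.Lib.Helper6.SUTransport
import Cfsg.Agent.Lib.Helper6.LamTwoD
import Cfsg.Agent.Lib.Helper15.QuadCount6
import Cfsg.Agent.Lib.Helper15.HermAct
import Cfsg.Agent.S0278
import Cfsg.Agent.S0288
import Cfsg.Agent.S0300

set_option autoImplicit false
open Cfsg

namespace Cfsg.Agent.S0303

open Cfsg.Agent.Lib.Helper6 Cfsg.Agent.Lib.Helper15 Cfsg.Agent.Lib.Helper6.LamTwo Matrix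

/-- PΩ^-_6(q) is isomorphic to PSU_4(q). -/
theorem result {F K : Type*} [Field F] [Fintype F] [Field K] [Fintype K] {q : ℕ} (hF : Fintype.card F = q) (hK : Fintype.card K = q ^ 2) (a b : F) (hab : ∀ z₁ z₂ : F, z₁ ^ 2 + a * z₁ * z₂ + b * z₂ ^ 2 = 0 → z₁ = 0 ∧ z₂ = 0) : Nonempty (Cfsg.POmega F (Cfsg.quadFormMinus 2 F a b) ≃* Cfsg.PSU 4 K q) := by
  classical
  have hfact : Fact (∀ r : F, r ^ 2 ≠ -b + a * r) := ⟨fun r hr => by
    have := hab r (-1) (by linear_combination hr)
    exact one_ne_zero (neg_eq_zero.mp this.2)⟩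
  let _ : Fintype (QE a b) := Fintype.ofEquiv (F × F) (QuadraticAlgebra.equivProd (-b) a).symm
  have hq2 : 2 ≤ q := by rw [← hF]; exact Fintype.one_lt_card
  have hE : Fintype.card (QE a b) = q ^ 2 := by
    rw [Fintype.card_congr (QuadraticAlgebra.equivProd (-b) a), Fintype.card_prod, hF]; ring
  obtain ⟨φ, hφ⟩ := exists_std (K := QE a b) hE
  have hperf : commutator ↥(Cfsg.SU 4 (QE a b) q) = ⊤ :=
    Cfsg.Agent.Lib.Helper6.SUG.SU_perfect hE (by norm_num) (by omega)
  -- the restricted homomorphism
  let ρ : ↥(Cfsg.SU 4 (QE a b) q) →* ↥(Cfsg.Omega F (Cfsg.quadFormMinus 2 F a b)) :=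
    (rhoU a b hF hE hab φ hφ).codRestrict _ (fun g => map_mem_commutator_of_perfect _ hperf g)
  have hρ : ∀ x, ρ x = 1 ↔ rhoU a b hF hE hab φ hφ x = 1 := by
    intro x
    constructor
    · intro h
      have := congrArg Subtype.val h
      simpa [ρ] using this
    · intro h
      apply Subtype.ext
      simpa [ρ] using h
  have hker2 : ∀ g, ρ g = 1 → smat a b g = 1 ∨ smat a b g = -1 := fun g hg =>
    rhoU_eq_one a b hF hE hab φ hφ g ((hρ g).mp hg)
  have hker : ρ.ker ≤ Subgroup.center ↥(Cfsg.SU 4 (QE a b) q) := by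
    intro g hg
    rw [Subgroup.mem_center_iff]
    intro x
    apply smat_injective a b
    rw [smat_mul, smat_mul]
    rcases hker2 g hg with h | h
    · rw [h, one_mul, mul_one]
    · rw [h, mul_neg, neg_mul, mul_one, one_mul]
  -- cardinalities
  have hq1 : 1 ≤ q := by omega
  have h1 : 1 ≤ q ^ 2 := Nat.one_le_pow _ _ hq1
  have h4 : 1 ≤ q ^ 4 := Nat.one_le_pow _ _ hq1
  set N : ℕ := q ^ 6 * (q ^ 2 - 1) * (q ^ 3 + 1) * (q ^ 4 - 1) with hN
  have hSU : Nat.card ↥(Cfsg.SU 4 (QE a b) q) = N := by
    have := Cfsg.Agent.S0278.result hE 4 (by norm_num)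
    rw [Finset.prod_range_succ, Finset.prod_range_succ, Finset.prod_range_succ,
      Finset.prod_range_one] at this
    simp only [show Even 0 from ⟨0, rfl⟩, show ¬ Even 1 by decide, show Even 2 by decide,
      show ¬ Even 3 by decide, if_true, if_false] at this
    norm_num at this
    have hpos : 0 < q + 1 := by omega
    apply Nat.eq_of_mul_eq_mul_left hpos
    rw [Nat.card_eq_fintype_card, this, hN]
    ring
  have hO : Nat.card (Cfsg.isometryGroup F (Cfsg.quadFormMinus 2 F a b)) = 2 * N := by
    have := Cfsg.Agent.S0288.result hF 3 (by omega) a b hab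
    change Nat.card (Cfsg.isometryGroup F (Cfsg.quadFormMinus 2 F a b)) =
      2 * q ^ (3 * 2) * (q ^ 3 + 1) * ∏ i ∈ Finset.range 2, (q ^ (2 * (i + 1)) - 1) at this
    rw [Finset.prod_range_succ, Finset.prod_range_one] at this
    rw [this, hN]
    norm_num
    ring
  have hkr := Subgroup.card_mul_index ρ.ker
  rw [Subgroup.index_ker, hSU] at hkr
  have hΩ := Subgroup.card_mul_index (Cfsg.Omega F (Cfsg.quadFormMinus 2 F a b))
  rw [hO] at hΩ
  have hNpos : 0 < N := by
    have h2 : 4 ≤ q ^ 2 := by nlinarith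
    have h3 : 16 ≤ q ^ 4 := by nlinarith
    have : 0 < q ^ 2 - 1 := by omega
    have : 0 < q ^ 4 - 1 := by omega
    rw [hN]
    positivity
  have hsurj : Function.Surjective ρ := by
    by_cases h2 : (2 : F) = 0
    · -- even characteristic: the image has index two
      have hneg : (-1 : Matrix (Fin 4) (Fin 4) (QE a b)) = 1 := by
        rw [neg_eq_iff_add_eq_zero, ← two_smul F (1 : Matrix (Fin 4) (Fin 4) (QE a b)), h2, zero_smul]
      have hinj : Function.Injective (rhoU a b hF hE hab φ hφ) := by
        rw [injective_iff_map_eq_one]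
        intro g hg
        apply smat_injective a b
        rw [smat_one]
        rcases rhoU_eq_one a b hF hE hab φ hφ g hg with h | h
        · exact h
        · rw [h, hneg]
      have hrange : Nat.card (rhoU a b hF hE hab φ hφ).range = N := by
        rw [← hSU]
        exact (Nat.card_congr (Equiv.ofInjective _ hinj)).symm
      have hidx : (rhoU a b hF hE hab φ hφ).range.index = 2 := by
        have := Subgroup.card_mul_index (rhoU a b hF hE hab φ hφ).range
        rw [hrange, hO] at this
        have h3 : N * (rhoU a b hF hE hab φ hφ).range.index = N * 2 := by rw [this]; ring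
        exact Nat.eq_of_mul_eq_mul_left hNpos h3
      have hle := Cfsg.Agent.S0300.commutator_le_of_index_two _ hidx
      intro y
      obtain ⟨g, hg⟩ := hle y.2
      exact ⟨g, Subtype.ext hg⟩
    · -- odd characteristic
      have hfun : Cfsg.quadFormMinus 2 F a b = ⇑(Qgen 2 (binForm a b)) := by
        funext v
        rw [Qgen_apply, binForm_apply]
        rfl
      have hQ := nondegenerate_Qgen 2 (binForm a b) (nondegenerate_binForm a b hab)
      have hidx : (Cfsg.Omega F (Cfsg.quadFormMinus 2 F a b)).index = 4 := by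
        rw [hfun]
        exact index_Omega' (Qgen 2 (binForm a b)) h2 hQ (by
          simp)
      rw [hidx] at hΩ
      have hk2 : Nat.card ρ.ker ≤ 2 := by
        have hinj : Function.Injective (fun g : ρ.ker => smat a b g.1) := by
          intro g h hgh
          exact Subtype.ext (smat_injective a b hgh)
        have hsub : Set.range (fun g : ρ.ker => smat a b g.1) ⊆ {1, -1} := by
          rintro _ ⟨g, rfl⟩
          rcases hker2 g.1 g.2 with h | h
          · left; exact h
          · right; exact h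
        have h5 : Nat.card ρ.ker = (Set.range (fun g : ρ.ker => smat a b g.1)).ncard := by
          rw [← Nat.card_coe_set_eq]
          exact Nat.card_congr (Equiv.ofInjective _ hinj)
        rw [h5]
        exact (Set.ncard_le_ncard hsub (Set.toFinite _)).trans
          ((Set.ncard_insert_le _ _).trans (by rw [Set.ncard_singleton]))
      rw [← MonoidHom.range_eq_top]
      apply Subgroup.eq_top_of_card_eq
      have hle : Nat.card ρ.range ≤ Nat.card ↥(Cfsg.Omega F (Cfsg.quadFormMinus 2 F a b)) :=
        Subgroup.card_le_card_group _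
      have := Nat.mul_le_mul_right (Nat.card ρ.range) hk2
      omega
  obtain ⟨e1⟩ := quotient_center_equiv_of_surjective ρ hsurj hker hperf
  have e : QE a b ≃+* K := FiniteField.ringEquivOfCardEq (by rw [hE, hK])
  exact ⟨e1.trans (Cfsg.Agent.Lib.Helper6.SUTransport.psuEquiv e)⟩

end Cfsg.Agent.S0303
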