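import Mathlib
import Cfsg.Statements.S0307

set_option autoImplicit false
open Cfsg

namespace Cfsg.Agent.S0307

open Matrix

/-- PSL_n(q) is normal in PGL_n(q) with cyclic quotient of order gcd(n, q-1): the image of the natural map PSL_n → PGL_n is the kernel of a surjective homomorphism onto the cyclic group of that order. -/
theorem result {F : Type*} [Field F] [Fintype F] {q : ℕ} (hF : Fintype.card F = q) (n : ℕ) (hn : 1 ≤ n) : ∃ g : Matrix.ProjGenLinGroup (Fin n) F →* Multiplicative (ZMod (Nat.gcd n (q - 1))), Function.Surjective g ∧ g.ker = (Matrix.ProjectiveSpecialLinearGroup.toPGL : Matrix.ProjectiveSpecialLinearGroup (Fin n) F →* Matrix.ProjGenLinGroup (Fin n) F).range := by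
  classical
  have : Nonempty (Fin n) := ⟨⟨0, hn⟩⟩
  set P : Subgroup Fˣ := (powMonoidHom n : Fˣ →* Fˣ).range with hP
  have hcard : Nat.card (Fˣ ⧸ P) = Nat.gcd n (q - 1) := by
    rw [← Subgroup.index_eq_card, IsCyclic.index_powMonoidHom_range, Nat.card_units, ← hF,
      Nat.gcd_comm, Nat.card_eq_fintype_card]
  generalize Nat.gcd n (q - 1) = d at hcard ⊢
  subst hcard
  have hcyc : IsCyclic (Fˣ ⧸ P) := inferInstance
  let e : Fˣ ⧸ P ≃* Multiplicative (ZMod (Nat.card (Fˣ ⧸ P))) := (zmodCyclicMulEquiv hcyc).symm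
  let φ : Fˣ →* Multiplicative (ZMod (Nat.card (Fˣ ⧸ P))) :=
    e.toMonoidHom.comp (QuotientGroup.mk' P)
  have hφker : ∀ u : Fˣ, φ u = 1 ↔ ∃ r : Fˣ, r ^ n = u := by
    intro u
    have : φ u = 1 ↔ u ∈ P := by
      simp only [φ, MonoidHom.comp_apply, MulEquiv.coe_toMonoidHom]
      rw [MulEquiv.map_eq_one_iff]
      exact QuotientGroup.eq_one_iff u
    rw [this, hP, MonoidHom.mem_range]
    simp [powMonoidHom_apply]
  have hφsurj : Function.Surjective φ :=
    e.surjective.comp (QuotientGroup.mk'_surjective P)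
  let f : GL (Fin n) F →* Multiplicative (ZMod (Nat.card (Fˣ ⧸ P))) :=
    φ.comp GeneralLinearGroup.det
  have hf : f.comp (GeneralLinearGroup.scalar (Fin n)) = 1 := by
    refine MonoidHom.ext fun u => ?_
    simp only [f, MonoidHom.comp_apply, MonoidHom.one_apply]
    rw [hφker]
    exact ⟨u, by simp [GeneralLinearGroup.det_scalar]⟩
  refine ⟨ProjGenLinGroup.lift f hf, ?_, ?_⟩
  · intro z
    obtain ⟨u, rfl⟩ := hφsurj z
    obtain ⟨A, rfl⟩ := GeneralLinearGroup.det_surjective (n := Fin n) u
    exact ⟨ProjGenLinGroup.mk A, by simp [f]⟩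
  · ext x
    induction x using Matrix.ProjGenLinGroup.induction_on with | mk A =>
    rw [MonoidHom.mem_ker, ProjGenLinGroup.lift_mk]
    constructor
    · intro h
      simp only [f, MonoidHom.comp_apply] at h
      rw [hφker] at h
      obtain ⟨r, hr⟩ := h
      have hdet : (A * GeneralLinearGroup.scalar (Fin n) r⁻¹).det = 1 := by
        rw [map_mul, GeneralLinearGroup.det_scalar, ← hr]
        simp
      have hdet' : ((A * GeneralLinearGroup.scalar (Fin n) r⁻¹ : GL (Fin n) F) :
          Matrix (Fin n) (Fin n) F).det = 1 := by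
        have := congrArg Units.val hdet
        simpa using this
      let s : SpecialLinearGroup (Fin n) F := ⟨_, hdet'⟩
      refine ⟨QuotientGroup.mk s, ?_⟩
      rw [ProjectiveSpecialLinearGroup.toPGL_mk, ProjGenLinGroup.mk_eq_mk_iff]
      refine ⟨r, ?_⟩
      have hs : SpecialLinearGroup.toGL s = A * GeneralLinearGroup.scalar (Fin n) r⁻¹ :=
        Units.ext rfl
      rw [hs, mul_assoc, ← map_mul]
      simp
    · rintro ⟨s, hs⟩
      induction s using QuotientGroup.induction_on with | H s =>
      rw [ProjectiveSpecialLinearGroup.toPGL_mk, ProjGenLinGroup.mk_eq_mk_iff] at hs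
      obtain ⟨u, hu⟩ := hs
      simp only [f, MonoidHom.comp_apply]
      rw [hφker, ← hu, map_mul, GeneralLinearGroup.det_scalar]
      refine ⟨u, ?_⟩
      have : GeneralLinearGroup.det (SpecialLinearGroup.toGL s) = 1 := by
        apply Units.ext; simp
      rw [this, one_mul, Fintype.card_fin]

end Cfsg.Agent.S0307
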