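import Mathlib
import Cfsg.Statements.S0316
import Cfsg.Agent.Lib.Helper3.BNPair4

set_option autoImplicit false
open Cfsg Cfsg.Agent.Lib.Helper3

namespace Cfsg.Agent.S0316

/-- The map `J ↦ P_J` is a lattice isomorphism from the power set of the set of distinguished generators onto the
subgroups containing `B`. -/
theorem result {G : Type*} [Group G] (P : Cfsg.BNPair G) :
    ∃ e : Set P.S ≃o {M : Subgroup G // P.B ≤ M},
      ∀ J : Set P.S, ((e J : {M : Subgroup G // P.B ≤ M}) : Subgroup G) = P.parabolic (Subtype.val '' J) := by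
  have hsub : ∀ J : Set P.S, Subtype.val '' J ⊆ P.S := by
    rintro J _ ⟨x, _, rfl⟩
    exact x.2
  let f : Set P.S → {M : Subgroup G // P.B ≤ M} :=
    fun J => ⟨P.parabolic (Subtype.val '' J), le_sup_left⟩
  have hf : ∀ J K : Set P.S, f J ≤ f K ↔ J ≤ K := by
    intro J K
    change P.parabolic (Subtype.val '' J) ≤ P.parabolic (Subtype.val '' K) ↔ J ≤ K
    rw [BN.parabolic_le_iff P (hsub J) (hsub K)]
    exact Set.image_subset_image_iff Subtype.val_injective
  have hsurj : Function.Surjective f := by
    rintro ⟨M, hM⟩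
    refine ⟨Subtype.val ⁻¹' (BN.gens P M), ?_⟩
    apply Subtype.ext
    change P.parabolic (Subtype.val '' (Subtype.val ⁻¹' (BN.gens P M))) = M
    rw [Subtype.image_preimage_coe, Set.inter_eq_right.2 (BN.gens_subset P M)]
    exact (BN.eq_parabolic_gens P M hM).symm
  have hinj : Function.Injective f := by
    intro J K hJK
    apply le_antisymm
    · exact (hf J K).1 hJK.le
    · exact (hf K J).1 hJK.ge
  refine ⟨⟨Equiv.ofBijective f ⟨hinj, hsurj⟩, ?_⟩, fun J => rfl⟩
  intro J K
  exact hf J K

end Cfsg.Agent.S0316
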