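import Mathlib
import Cfsg.Statements.S0323

set_option autoImplicit false
open Cfsg

namespace Cfsg.Agent.S0323

open scoped Pointwise
open DoubleCoset

section
variable {G Ω : Type*} [Group G] [MulAction G Ω]

lemma mem_stab_pair {x y : Ω} {n : G} :
    n ∈ MulAction.stabilizer G ({x, y} : Set Ω) ↔
      (n • x = x ∧ n • y = y) ∨ (n • x = y ∧ n • y = x) := by
  rw [MulAction.mem_stabilizer_iff, Set.smul_set_insert, Set.smul_set_singleton,
    Set.pair_eq_pair_iff]

end

/-- A doubly transitive action on a set with at least three points yields a (B,N)-pair of rank one: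
`B` is the stabiliser of a point `x`, `N` the setwise stabiliser of a pair `{x, y}`. -/
theorem result {G Ω : Type*} [Group G] [MulAction G Ω]
    (h2 : MulAction.IsMultiplyPretransitive G Ω 2) {x y z : Ω} (hxy : x ≠ y) (hyz : y ≠ z) (hxz : x ≠ z) :
    ∃ P : Cfsg.BNPair G, P.B = MulAction.stabilizer G x ∧
      P.N = MulAction.stabilizer G ({x, y} : Set Ω) ∧ P.rank = 1 := by
  have h2' := fun {a b c d : Ω} (h : a ≠ b) (h' : c ≠ d) =>
    (MulAction.is_two_pretransitive_iff (G := G) (α := Ω)).1 h2 h h'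
  obtain ⟨s, hsx, hsy⟩ := h2' hxy hxy.symm
  set B : Subgroup G := MulAction.stabilizer G x with hB
  set N : Subgroup G := MulAction.stabilizer G ({x, y} : Set Ω) with hN
  have hsN : s ∈ N := mem_stab_pair.2 (Or.inr ⟨hsx, hsy⟩)
  have hssB : s * s ∈ B := by
    rw [hB, MulAction.mem_stabilizer_iff, mul_smul, hsx, hsy]
  -- every element is in B or in B s B
  have hcover : ∀ g : G, g ∈ B ∨ ∃ b ∈ B, ∃ b' ∈ B, g = b * s * b' := by
    intro g
    by_cases hg : g ∈ B
    · left; exact hg
    · right
      have hgx : x ≠ g • x := fun h => hg (MulAction.mem_stabilizer_iff.2 h.symm)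
      obtain ⟨b, hbx, hby⟩ := h2' hxy hgx
      refine ⟨b, MulAction.mem_stabilizer_iff.2 hbx, (b * s)⁻¹ * g, ?_, by group⟩
      rw [hB, MulAction.mem_stabilizer_iff, mul_smul, inv_smul_eq_iff, mul_smul, hsx, hby]
  -- elements of N fixing x fix y
  have hfix : ∀ t : G, t ∈ B → t ∈ N → t • y = y := by
    intro t htB htN
    rcases mem_stab_pair.1 htN with h | h
    · exact h.2
    · exact absurd ((MulAction.mem_stabilizer_iff.1 htB).symm.trans h.1) hxy
  refine ⟨{ B := B, N := N, S := {s}, sup_eq_top := ?_, conj_mem := ?_, subset := ?_,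
            sq_mem := ?_, inj := ?_, closure_sup := ?_, mul_mem_union := ?_, conj_ne := ?_ },
          rfl, rfl, ?_⟩
  · -- sup_eq_top
    rw [eq_top_iff]
    intro g _
    rcases hcover g with hg | ⟨b, hb, b', hb', rfl⟩
    · exact (le_sup_left : B ≤ B ⊔ N) hg
    · exact Subgroup.mul_mem _ (Subgroup.mul_mem _ ((le_sup_left : B ≤ B ⊔ N) hb)
        ((le_sup_right : N ≤ B ⊔ N) hsN)) ((le_sup_left : B ≤ B ⊔ N) hb')
  · -- conj_mem
    intro n hn t ht
    have ht' := Subgroup.mem_inf.1 ht
    have htx : t • x = x := MulAction.mem_stabilizer_iff.1 ht'.1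
    have hty : t • y = y := hfix t ht'.1 ht'.2
    have hn' : n⁻¹ ∈ N := N.inv_mem hn
    rw [hB, MulAction.mem_stabilizer_iff, mul_smul, mul_smul]
    rcases mem_stab_pair.1 hn' with h | h
    · rw [h.1, htx]
      have := congrArg (fun w => n • w) h.1
      simpa using this.symm
    · rw [h.1, hty]
      have := congrArg (fun w => n • w) h.1
      simpa using this.symm
  · -- subset
    intro a ha
    rw [Set.mem_singleton_iff] at ha
    rw [ha]; exact hsN
  · -- sq_mem
    intro a ha
    rw [Set.mem_singleton_iff] at ha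
    rw [ha]; exact hssB
  · -- inj
    intro a ha a' ha' _
    rw [Set.mem_singleton_iff] at ha ha'
    rw [ha, ha']
  · -- closure_sup
    apply le_antisymm
    · apply sup_le
      · rw [Subgroup.closure_le, Set.singleton_subset_iff]; exact hsN
      · exact inf_le_right
    · intro n hn
      rcases mem_stab_pair.1 hn with h | h
      · have h0 : n ∈ B := MulAction.mem_stabilizer_iff.2 h.1
        exact (le_sup_right : B ⊓ N ≤ Subgroup.closure {s} ⊔ (B ⊓ N))
          (Subgroup.mem_inf.2 ⟨h0, hn⟩)
      · have h0 : s⁻¹ * n ∈ B := by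
          rw [hB, MulAction.mem_stabilizer_iff, mul_smul, h.1, inv_smul_eq_iff, hsx]
        have h1 : s⁻¹ * n ∈ B ⊓ N := Subgroup.mem_inf.2 ⟨h0, N.mul_mem (N.inv_mem hsN) hn⟩
        have e : n = s * (s⁻¹ * n) := by group
        rw [e]
        exact Subgroup.mul_mem _
          ((le_sup_left : Subgroup.closure {s} ≤ Subgroup.closure {s} ⊔ (B ⊓ N))
            (Subgroup.subset_closure rfl))
          ((le_sup_right : B ⊓ N ≤ Subgroup.closure {s} ⊔ (B ⊓ N)) h1)
  · -- mul_mem_union
    intro a ha n hn b hb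
    rw [Set.mem_singleton_iff] at ha
    subst ha
    rcases mem_stab_pair.1 hn with h | h
    · -- n ∈ B
      have hnB : n ∈ B := MulAction.mem_stabilizer_iff.2 h.1
      rcases hcover (a * b * n) with hg | ⟨b1, hb1, b2, hb2, e⟩
      · right
        exact mem_doubleCoset.2 ⟨a * b * n * n⁻¹, B.mul_mem hg (B.inv_mem hnB), 1, B.one_mem,
          by group⟩
      · left
        rw [e]
        exact mem_doubleCoset.2 ⟨b1, hb1, n⁻¹ * b2, B.mul_mem (B.inv_mem hnB) hb2, by group⟩
    · -- n swaps
      have htB : a⁻¹ * n ∈ B := by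
        rw [hB, MulAction.mem_stabilizer_iff, mul_smul, h.1, inv_smul_eq_iff, hsx]
      rcases hcover (a * b * n) with hg | ⟨b1, hb1, b2, hb2, e⟩
      · left
        have hsnB : a * n ∈ B := by
          have e : a * n = (a * a) * (a⁻¹ * n) := by group
          rw [e]; exact B.mul_mem hssB htB
        exact mem_doubleCoset.2 ⟨a * b * n * (a * n)⁻¹, B.mul_mem hg (B.inv_mem hsnB), 1,
          B.one_mem, by group⟩
      · right
        rw [e]
        exact mem_doubleCoset.2 ⟨b1, hb1, (a⁻¹ * n)⁻¹ * b2, B.mul_mem (B.inv_mem htB) hb2,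
          by group⟩
  · -- conj_ne
    intro a ha
    rw [Set.mem_singleton_iff] at ha
    subst ha
    obtain ⟨b0, hb0x, hb0y⟩ := h2' hxy hxz
    intro heq
    have hmem : a * b0 * a ∈ (B : Set G) := by
      rw [← heq]
      exact ⟨b0, MulAction.mem_stabilizer_iff.2 hb0x, rfl⟩
    have h1 : (a * b0 * a) • x = x := MulAction.mem_stabilizer_iff.1 hmem
    rw [mul_smul, mul_smul, hsx, hb0y] at h1
    -- a • z = x = a • y
    have h3 : a • z = a • y := h1.trans hsy.symm
    exact hyz (smul_left_cancel a h3).symm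
  · -- rank
    change Nat.card ({s} : Set G) = 1
    simp

end Cfsg.Agent.S0323
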