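import Mathlib
import Cfsg.Statements.S0333
import Cfsg.Agent.Lib.Helper3.Suzuki19

set_option autoImplicit false
open Cfsg

namespace Cfsg.Agent.S0333

open Cfsg.Agent.Lib.Helper3.Sz

/-- With `q = 2^(2m+1)` and `r = 2^m`, the Suzuki group has cyclic subgroups of orders `q + 2r + 1` and
`q - 2r + 1`; each is the centraliser of each of its non-identity elements and has index `4` in its normaliser. -/
theorem result {F : Type*} [Field F] [Fintype F] {m : ℕ} (hm : 1 ≤ m)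
    (hF : Fintype.card F = 2 ^ (2 * m + 1)) :
    ∀ k ∈ ({2 ^ (2 * m + 1) + 2 ^ (m + 1) + 1, 2 ^ (2 * m + 1) - 2 ^ (m + 1) + 1} : Set ℕ),
      ∃ U : Subgroup (Cfsg.Sz F m), IsCyclic U ∧ Nat.card U = k ∧
        (∀ u ∈ U, u ≠ 1 → Subgroup.centralizer {u} = U) ∧ Nat.card (Subgroup.normalizer (U : Set (Cfsg.Sz F m))) = 4 * k := by
  obtain ⟨hall, ⟨x₁, hx₁, ha₁⟩, ⟨x₂, hx₂, ha₂⟩⟩ := tori_classification hF hm
  have key : ∀ x ∈ setR F m, ∃ U : Subgroup (Cfsg.Sz F m), IsCyclic U ∧ Nat.card U = aOf x ∧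
        (∀ u ∈ U, u ≠ 1 → Subgroup.centralizer {u} = U) ∧
        Nat.card (Subgroup.normalizer (U : Set (Cfsg.Sz F m))) = 4 * aOf x := by
    intro x hx
    obtain ⟨hcyc, _, hcent, _, _⟩ := torus_of_mem_setR hF hm hx
    exact ⟨Subgroup.centralizer ({x} : Set (Sz F m)), hcyc, rfl, hcent, (hall x hx).2⟩
  intro k hk
  rcases hk with rfl | hk
  · rw [← ha₁]
    exact key x₁ hx₁
  · rw [Set.mem_singleton_iff] at hk
    subst hk
    rw [← ha₂]
    exact key x₂ hx₂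

end Cfsg.Agent.S0333
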