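import Mathlib
import Cfsg.Statements.S0335
import Cfsg.Agent.Lib.Helper3.Suzuki

set_option autoImplicit false
open Cfsg

namespace Cfsg.Agent.S0335

/-- The Suzuki–Tits point set is an ovoid: any three distinct points of it are projectively independent
(no line of projective 3-space meets it in more than two points). -/
theorem result {F : Type*} [Field F] [Fintype F] {m : ℕ} (hm : 1 ≤ m)
    (hF : Fintype.card F = 2 ^ (2 * m + 1)) (p : Fin 3 ↪ Cfsg.suzukiOvoid F m) :
    Projectivization.Independent (fun i => (p i : Projectivization F (Fin 4 → F))) := by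
  classical
  have hex : ∀ i, ∃ c : Option (F × F), Cfsg.Agent.S0326.param m c = (p i : Projectivization F (Fin 4 → F)) := by
    intro i
    have : (p i : Projectivization F (Fin 4 → F)) ∈ Set.range (Cfsg.Agent.S0326.param (F := F) m) := by
      rw [Cfsg.Agent.S0326.range_param]; exact (p i).2
    exact this
  choose c hc using hex
  have hinj : Function.Injective c := by
    intro i j h
    apply p.injective
    apply Subtype.ext
    rw [← hc i, ← hc j, h]
  have heq : (fun i => (p i : Projectivization F (Fin 4 → F)))
      = fun i => Projectivization.mk F (Cfsg.Agent.Lib.Helper3.Sz.pvec m (c i))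
          (Cfsg.Agent.Lib.Helper3.Sz.pvec_ne_zero (c i)) := by
    funext i
    rw [← hc i, Cfsg.Agent.Lib.Helper3.Sz.param_eq]
  rw [heq]
  exact Projectivization.Independent.mk _ _
    (Cfsg.Agent.Lib.Helper3.Sz.indep_of_injective hF c hinj)

end Cfsg.Agent.S0335
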