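import Mathlib
import Cfsg.Statements.S0344
import Cfsg.Agent.Lib.Helper3.Sharp3G
import Cfsg.Agent.Lib.Helper3.ZassAb1
import Cfsg.Agent.Lib.Helper29.ZassHalfC
import Cfsg.Agent.Lib.Helper11.ZassFrob

set_option autoImplicit false
open Cfsg

namespace Cfsg.Agent.S0344

open MulAction

/-- A finite simple Zassenhaus group with a two-point stabiliser of even order is isomorphic to `PSL₂(F)` for a finite
field `F` with more than three elements. -/
theorem result {G Ω : Type*} [Group G] [Finite G] [MulAction G Ω] [Finite Ω]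
    (hZ : Cfsg.IsZassenhausGroup G Ω) [IsSimpleGroup G]
    {a b : Ω} (hab : a ≠ b) (heven : Even (Nat.card ↥(MulAction.stabilizer G a ⊓ MulAction.stabilizer G b))) :
    ∃ (F : Type) (_ : Field F) (_ : Fintype F), 3 < Fintype.card F ∧ Nonempty (G ≃* Matrix.ProjectiveSpecialLinearGroup (Fin 2) F) := by
  classical
  haveI : Fintype Ω := Fintype.ofFinite Ω
  have hdvd := Cfsg.Agent.Lib.Helper11.zc_e_dvd hZ hab
  have hN3 := Cfsg.Agent.Lib.Helper11.zc_three_le_card hZ hab
  have hd1 := Cfsg.Agent.Lib.Helper11.zc_one_lt_card hZ hab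
  by_cases hcase : 2 * Nat.card ↥(stabilizer G a ⊓ stabilizer G b) ≤ Fintype.card Ω - 2
  · obtain ⟨p, f, K, iK, iF, -, -, hcK, hcΩ, hiso⟩ :=
      Cfsg.Agent.Helper29.ZassHalf.main_half hZ hab heven hcase
    refine ⟨K, iK, iF, ?_, hiso⟩
    rw [hcK]
    omega
  · exfalso
    have hdN : Nat.card ↥(stabilizer G a ⊓ stabilizer G b) + 2 = Fintype.card Ω := by
      obtain ⟨k, hk⟩ := hdvd
      have hk1 : k = 1 := by
        rcases Nat.lt_or_ge k 2 with hk2 | hk2
        · interval_cases k
          · omega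
          · rfl
        · exfalso
          apply hcase
          rw [hk]
          calc 2 * Nat.card ↥(stabilizer G a ⊓ stabilizer G b)
              = Nat.card ↥(stabilizer G a ⊓ stabilizer G b) * 2 := by ring
            _ ≤ Nat.card ↥(stabilizer G a ⊓ stabilizer G b) * k := Nat.mul_le_mul_left _ hk2
      rw [hk1, mul_one] at hk
      omega
    obtain ⟨h3, hsharp⟩ := Cfsg.Agent.Lib.Helper3.ZassAb.sharp3_of_card hZ hab hdN
    haveI : FaithfulSMul G Ω := hZ.1
    have hevenΩ : Even (Fintype.card Ω) := by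
      rw [← hdN]
      exact heven.add even_two
    obtain ⟨N, hNn, hNb, hNt⟩ :=
      Cfsg.Agent.Lib.Helper3.Sharp3.sharp3_even_not_simple h3 hsharp hevenΩ (by omega)
    rcases IsSimpleGroup.eq_bot_or_eq_top_of_normal N hNn with h | h
    · exact hNb h
    · exact hNt h

end Cfsg.Agent.S0344
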