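import Mathlib
import Cfsg.Statements.S0345
import Cfsg.Agent.Lib.Helper3.Sharp3G
import Cfsg.Agent.Lib.Helper3.ZassAb1
import Cfsg.Agent.Lib.Helper29.ZassHalfC
import Cfsg.Agent.Lib.Helper29.ZInvert
import Cfsg.Agent.Lib.Helper11.ZassFrob

set_option autoImplicit false
open Cfsg

namespace Cfsg.Agent.S0345

open MulAction Cfsg.Agent.Helper29.ZassHalf

/-- The even case with `#Ω = 2 #H + 2`. -/
theorem even_half {G Ω : Type*} [Group G] [Finite G] [MulAction G Ω] [Fintype Ω]
    (hZ : Cfsg.IsZassenhausGroup G Ω) {a b : Ω} (hab : a ≠ b)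
    (heven : Even (Nat.card ↥(stabilizer G a ⊓ stabilizer G b)))
    (hcardΩ' : Fintype.card Ω = 2 * Nat.card ↥(stabilizer G a ⊓ stabilizer G b) + 2) :
    IsCyclic ↥(stabilizer G a ⊓ stabilizer G b) ∧
      ∃ v : G, orderOf v = 2 ∧ v • a = b ∧ v • b = a ∧
        ∀ h ∈ stabilizer G a ⊓ stabilizer G b, v * h * v⁻¹ = h⁻¹ := by
  classical
  have h741o : Fintype.card Ω - 2 ≤ 2 * Nat.card ↥(stabilizer G a ⊓ stabilizer G b) := by omega
  have hZ' := hZ
  obtain ⟨hfaith, h2t, h3, ⟨g₀, hg₀1, a₀, b₀, hab₀, hg₀a, hg₀b⟩, _⟩ := hZ'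
  rw [MulAction.is_two_pretransitive_iff] at h2t
  obtain ⟨H, hHdef⟩ : ∃ H : Subgroup G, H = stabilizer G a ⊓ stabilizer G b := ⟨_, rfl⟩
  rw [← hHdef] at heven hcardΩ' ⊢
  have hcardΩ := hcardΩ'
  have hmem : ∀ g : G, g ∈ H ↔ g • a = a ∧ g • b = b := by
    intro g
    rw [hHdef, Subgroup.mem_inf, mem_stabilizer_iff, mem_stabilizer_iff]
  have h2t' : ∀ a b c d : Ω, a ≠ b → c ≠ d → ∃ g : G, g • a = c ∧ g • b = d :=
    fun a b c d h1 h2 => h2t h1 h2
  have hfaith' : ∀ g : G, (∀ x : Ω, g • x = x) → g = 1 := by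
    intro g hg
    apply hfaith.eq_of_smul_eq_smul
    intro x
    rw [hg x, one_smul]
  obtain ⟨h₁, hh₁, hh₁1⟩ : ∃ h ∈ H, h ≠ 1 := by
    obtain ⟨k, hka, hkb⟩ := h2t hab₀ hab
    refine ⟨k * g₀ * k⁻¹, (hmem _).2 ⟨?_, ?_⟩, ?_⟩
    · rw [mul_smul, mul_smul, ← hka, inv_smul_smul, hg₀a]
    · rw [mul_smul, mul_smul, ← hkb, inv_smul_smul, hg₀b]
    · intro h
      apply hg₀1
      have e : g₀ = k⁻¹ * (k * g₀ * k⁻¹) * k := by group
      rw [e, h]
      group
  obtain ⟨c₀, hc₀⟩ : ∃ c : Ω, h₁ • c ≠ c := by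
    by_contra hcon
    push Not at hcon
    exact hh₁1 (hfaith' h₁ hcon)
  obtain ⟨hh₁a, hh₁b⟩ := (hmem h₁).1 hh₁
  have hc₀a : c₀ ≠ a := by
    intro h
    rw [h] at hc₀
    exact hc₀ hh₁a
  have hc₀b : c₀ ≠ b := by
    intro h
    rw [h] at hc₀
    exact hc₀ hh₁b
  have hdpos : 0 < Nat.card ↥H := Nat.card_pos
  obtain ⟨F, hFle, hFn, hreg, hcardG⟩ :=
    exists_regular_normal hab h2t' h3 hfaith H hmem hh₁ hh₁1
  obtain ⟨hFcomm, p, f, hp, hexp, hpf⟩ :=
    Cfsg.Agent.S0738.result hZ hab h741o F hFle hFn hreg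
  have hua : ∀ u ∈ F, u • a = a := fun u hu => hFle hu
  have hFb_ne : ∀ u : ↥F, (u : G) • b ≠ a := by
    intro u h'
    apply hab
    apply smul_inj' (u : G)
    rw [hua u.1 u.2, h']
  have hcardF : Nat.card ↥F = Fintype.card Ω - 1 :=
    Cfsg.Agent.Lib.Helper3.ZassAb.kernel_card hab F hFle hreg
  -- the inverting involution
  obtain ⟨w, c, hwa, hwb, hca, hcb, hwc⟩ :=
    exists_fixed_swapper hab h2t' h3 H hmem heven ⟨c₀, hc₀a, hc₀b⟩
  obtain ⟨hfix, hinv⟩ := half_inverts hab h3 H hmem hcardΩ w hwa hwb c hca hcb hwc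
  have hww : w * w = 1 := by
    have h := hinv 1 H.one_mem
    rwa [one_mul] at h
  have hwh : ∀ h ∈ H, w * h * w = h⁻¹ := by
    intro h hh
    have e := hinv h hh
    calc w * h * w = h⁻¹ * ((h * w) * (h * w)) := by group
      _ = h⁻¹ := by rw [e, mul_one]
  have hHcomm : ∀ h ∈ H, ∀ k ∈ H, h * k = k * h := by
    intro h hh k hk
    have e1 := hwh (h * k) (H.mul_mem hh hk)
    have e2 : w * (h * k) * w = (w * h * w) * (w * k * w) := by
      calc w * (h * k) * w = w * h * (w * w) * k * w := by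
            rw [hww]
            group
        _ = (w * h * w) * (w * k * w) := by group
    rw [e2, hwh h hh, hwh k hk, mul_inv_rev] at e1
    have e3 := congrArg (fun x => x⁻¹) e1
    simp only [mul_inv_rev, inv_inv] at e3
    exact e3.symm
  have hnorm : ∀ h ∈ H, ∀ u ∈ F, h * u * h⁻¹ ∈ F := by
    intro h hh u hu
    have hha : h ∈ stabilizer G a := ((hmem h).1 hh).1
    have key := hFn.conj_mem ⟨u, hFle hu⟩ (Subgroup.mem_subgroupOf.mpr hu) ⟨h, hha⟩
    rw [Subgroup.mem_subgroupOf] at key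
    simpa using key
  have hub : ∀ u ∈ F, u ≠ 1 → u • b ≠ b := by
    intro u hu hu1 hfix'
    obtain ⟨w', _, hw'⟩ := hreg b b hab.symm hab.symm
    have e1 := hw' ⟨u, hu⟩ hfix'
    have e2 := hw' 1 (by
      show ((1 : ↥F) : G) • b = b
      rw [Subgroup.coe_one, one_smul])
    apply hu1
    have e3 : (⟨u, hu⟩ : ↥F) = 1 := e1.trans e2.symm
    exact congrArg Subtype.val e3
  -- coordinates
  obtain ⟨θ, hθ⟩ : ∃ θ : ↥H → ↥F → ↥F,
      ∀ (h : ↥H) (u : ↥F), ((θ h u : ↥F) : G) = (h : G) * u * (h : G)⁻¹ :=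
    ⟨fun h u => ⟨(h : G) * u * (h : G)⁻¹, hnorm h h.2 u u.2⟩, fun h u => rfl⟩
  have hFc : ∀ x y : ↥F, x * y = y * x := fun x y => hFcomm.is_comm.comm x y
  have θmul : ∀ (h : ↥H) (x y : ↥F), θ h (x * y) = θ h x * θ h y := by
    intro h x y
    apply Subtype.ext
    rw [Subgroup.coe_mul, hθ, hθ, hθ, Subgroup.coe_mul]
    group
  have θone : ∀ x : ↥F, θ 1 x = x := by
    intro x
    apply Subtype.ext
    rw [hθ, Subgroup.coe_one]
    group
  have θcomp : ∀ (h k : ↥H) (x : ↥F), θ (h * k) x = θ h (θ k x) := by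
    intro h k x
    apply Subtype.ext
    rw [hθ, hθ, hθ, Subgroup.coe_mul]
    group
  have hcomm : ∀ h k : ↥H, h * k = k * h := fun h k => Subtype.ext (hHcomm h h.2 k k.2)
  have hfree : ∀ (h : ↥H) (x : ↥F), x ≠ 1 → θ h x = x → h = 1 := by
    intro h x hx1 hx
    have hx1' : (x : G) ≠ 1 := fun h' => hx1 (Subtype.ext h')
    have hconj : (h : G) * x * (h : G)⁻¹ = x := by
      rw [← hθ, hx]
    have hcomm' : (h : G) * x = x * h := by
      calc (h : G) * x = ((h : G) * x * (h : G)⁻¹) * h := by group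
        _ = x * h := by rw [hconj]
    have hha : (h : G) • a = a := ((hmem _).1 h.2).1
    have hhb : (h : G) • b = b := ((hmem _).1 h.2).2
    have hfix' : (h : G) • ((x : G) • b) = (x : G) • b := by
      rw [← mul_smul, hcomm', mul_smul, hhb]
    apply Subtype.ext
    refine h3 (h : G) a b ((x : G) • b) hab ?_ ?_ hha hhb hfix'
    · exact (hub x x.2 hx1').symm
    · exact (hFb_ne x).symm
  have hbig : Nat.card ↥F ≤ 2 * Nat.card ↥H + 1 := by omega
  have hF1 : 1 < Nat.card ↥F := by omega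
  obtain ⟨E, instE, instET, ψ, m, hψbij, hψadd, hm, hψθ⟩ :=
    exists_coords hFc θ θmul θone θcomp hcomm hfree hbig hF1
  refine ⟨isCyclic_of_injective m hm, w, ?_, hwa, hwb, ?_⟩
  · have hw1 : w ≠ 1 := by
      intro h
      rw [h, one_smul] at hwa
      exact hab hwa
    exact orderOf_eq_prime (by rw [pow_two]; exact hww) hw1
  · intro h hh
    have hwinv : w⁻¹ = w := inv_eq_of_mul_eq_one_left hww
    rw [hwinv]
    exact hwh h hh

/-- In a finite simple Zassenhaus group the stabiliser `H` of two points `a ≠ b` is cyclic, and some involution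
interchanging `a` and `b` inverts every element of `H`. -/
theorem result {G Ω : Type*} [Group G] [Finite G] [MulAction G Ω] [Finite Ω]
    (hZ : Cfsg.IsZassenhausGroup G Ω) [IsSimpleGroup G]
    {a b : Ω} (hab : a ≠ b) :
    IsCyclic ↥(MulAction.stabilizer G a ⊓ MulAction.stabilizer G b) ∧
      ∃ v : G, orderOf v = 2 ∧ v • a = b ∧ v • b = a ∧ ∀ h ∈ MulAction.stabilizer G a ⊓ MulAction.stabilizer G b, v * h * v⁻¹ = h⁻¹ := by
  classical
  haveI : Fintype Ω := Fintype.ofFinite Ω
  have hdvd := Cfsg.Agent.Lib.Helper11.zc_e_dvd hZ hab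
  have hN3 := Cfsg.Agent.Lib.Helper11.zc_three_le_card hZ hab
  have hd1 := Cfsg.Agent.Lib.Helper11.zc_one_lt_card hZ hab
  have hcardG := Cfsg.Agent.Lib.Helper11.zc_card_group hZ hab
  rcases Nat.even_or_odd (Nat.card ↥(stabilizer G a ⊓ stabilizer G b)) with heven | hodd
  · have h741 := Cfsg.Agent.S0741.result hZ hab heven
    have hcases : Nat.card ↥(stabilizer G a ⊓ stabilizer G b) + 2 = Fintype.card Ω ∨
        Fintype.card Ω = 2 * Nat.card ↥(stabilizer G a ⊓ stabilizer G b) + 2 := by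
      obtain ⟨k, hk⟩ := hdvd
      rcases Nat.lt_or_ge k 3 with hk3 | hk3
      · interval_cases k
        · omega
        · left; omega
        · right; omega
      · exfalso
        have : Nat.card ↥(stabilizer G a ⊓ stabilizer G b) * 3 ≤
            Nat.card ↥(stabilizer G a ⊓ stabilizer G b) * k := Nat.mul_le_mul_left _ hk3
        omega
    rcases hcases with hdN | hdN
    · exfalso
      obtain ⟨h3, hsharp⟩ := Cfsg.Agent.Lib.Helper3.ZassAb.sharp3_of_card hZ hab hdN
      haveI : FaithfulSMul G Ω := hZ.1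
      have hevenΩ : Even (Fintype.card Ω) := by
        rw [← hdN]
        exact heven.add even_two
      obtain ⟨N, hNn, hNb, hNt⟩ :=
        Cfsg.Agent.Lib.Helper3.Sharp3.sharp3_even_not_simple h3 hsharp hevenΩ (by omega)
      rcases IsSimpleGroup.eq_bot_or_eq_top_of_normal N hNn with h | h
      · exact hNb h
      · exact hNt h
    · exact even_half hZ hab heven hdN
  · -- odd case
    have hnil : ∀ q : ℕ, q.Prime → q ∣ Nat.card ↥(stabilizer G a ⊓ stabilizer G b) →
        ¬ ∃ N : Subgroup G, N.Normal ∧ N.index = q ^ (Nat.card G).factorization q := by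
      intro q hq hqd
      rintro ⟨N, hNn, hidx⟩
      have hqG : q ∣ Nat.card G := by
        rw [hcardG]
        exact Dvd.dvd.mul_left (Dvd.dvd.mul_left hqd _) _
      have hGpos : Nat.card G ≠ 0 := Nat.card_pos.ne'
      rcases IsSimpleGroup.eq_bot_or_eq_top_of_normal N hNn with h | h
      · rw [h, Subgroup.index_bot] at hidx
        -- |G| is a prime power: impossible
        have h1 : Fintype.card Ω ∣ q ^ (Nat.card G).factorization q := by
          rw [← hidx, hcardG]
          exact Dvd.intro _ rfl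
        have h2 : Fintype.card Ω - 1 ∣ q ^ (Nat.card G).factorization q := by
          rw [← hidx, hcardG]
          exact Dvd.dvd.mul_left (Dvd.intro _ rfl) _
        obtain ⟨i, -, hi⟩ := (Nat.dvd_prime_pow hq).1 h1
        obtain ⟨j, -, hj⟩ := (Nat.dvd_prime_pow hq).1 h2
        have hi0 : i ≠ 0 := by
          rintro rfl
          rw [pow_zero] at hi
          omega
        have hj0 : j ≠ 0 := by
          rintro rfl
          rw [pow_zero] at hj
          omega
        have hq1 : q ∣ Fintype.card Ω := by rw [hi]; exact dvd_pow_self q hi0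
        have hq2 : q ∣ Fintype.card Ω - 1 := by rw [hj]; exact dvd_pow_self q hj0
        have hq3 : q ∣ 1 := by
          have := Nat.dvd_sub hq1 hq2
          have e : Fintype.card Ω - (Fintype.card Ω - 1) = 1 := by omega
          rwa [e] at this
        exact hq.one_lt.ne' (Nat.dvd_one.1 hq3)
      · rw [h, Subgroup.index_top] at hidx
        have hv : (Nat.card G).factorization q = 0 := by
          by_contra hv
          have : 1 < q ^ (Nat.card G).factorization q := Nat.one_lt_pow hv hq.one_lt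
          omega
        rcases (Nat.factorization_eq_zero_iff _ _).1 hv with h' | h' | h'
        · exact h' hq
        · exact h' hqG
        · exact hGpos h'
    obtain ⟨hcyc, -, hinv⟩ := Cfsg.Agent.Helper29.ZInvert.main hZ hab hodd hnil
    refine ⟨hcyc, ?_⟩
    obtain ⟨hfaith, h2t, -, -, -⟩ := hZ
    rw [MulAction.is_two_pretransitive_iff] at h2t
    have h2G : 2 ∣ Nat.card G := by
      rw [hcardG, ← mul_assoc]
      apply Dvd.dvd.mul_right
      have := Nat.even_mul_pred_self (Fintype.card Ω)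
      exact even_iff_two_dvd.1 this
    haveI : Fact (Nat.Prime 2) := ⟨Nat.prime_two⟩
    obtain ⟨t, ht⟩ := exists_prime_orderOf_dvd_card' (G := G) 2 h2G
    have ht1 : t ≠ 1 := by
      rintro rfl
      rw [orderOf_one] at ht
      norm_num at ht
    have htt : t * t = 1 := by
      rw [← pow_two, ← ht]
      exact pow_orderOf_eq_one t
    obtain ⟨x, hx⟩ : ∃ x : Ω, t • x ≠ x := by
      by_contra hcon
      push Not at hcon
      apply ht1
      apply hfaith.eq_of_smul_eq_smul
      intro y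
      rw [hcon y, one_smul]
    obtain ⟨g, hgx, hgy⟩ := h2t (Ne.symm hx) hab
    have e1 : g⁻¹ • a = x := inv_smul_eq_iff.2 hgx.symm
    have e2 : g⁻¹ • b = t • x := inv_smul_eq_iff.2 hgy.symm
    have hva : (g * t * g⁻¹) • a = b := by
      rw [mul_smul, mul_smul, e1, hgy]
    have hvb : (g * t * g⁻¹) • b = a := by
      rw [mul_smul, mul_smul, e2, ← mul_smul t, htt, one_smul, hgx]
    refine ⟨g * t * g⁻¹, ?_, hva, hvb, hinv _ hva hvb⟩
    rw [Cfsg.Agent.Lib.Helper3.Sharp3.orderOf_conj', ht]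

end Cfsg.Agent.S0345
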