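import Mathlib
import Cfsg.Statements.S0346
import Cfsg.Agent.Lib.Helper3.ZassPP2

set_option autoImplicit false
open Cfsg

namespace Cfsg.Agent.S0346

open MulAction
open Cfsg.Agent.Lib.Helper11
open Cfsg.Agent.Lib.Helper3.Zass
open Cfsg.Agent.Lib.Helper3.ZassPP

/-- The number of points of a finite simple Zassenhaus group is `p^k + 1` for some prime power `p^k` (the regular normal
subgroup of a point stabiliser is a `p`-group). -/
theorem result {G Ω : Type*} [Group G] [Finite G] [MulAction G Ω] [Fintype Ω]
    (hZ : Cfsg.IsZassenhausGroup G Ω) [IsSimpleGroup G] :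
    IsPrimePow (Fintype.card Ω - 1) := by
  classical
  haveI : Fact (Nat.Prime 2) := ⟨Nat.prime_two⟩
  obtain ⟨g0, hg0, a, b, hab, hg0a, hg0b⟩ := hZ.2.2.2.1
  obtain ⟨Kg, hKa, hKcard, hKfix, hKnorm⟩ := exists_kernel_in_G hZ hab
  have hn3 := zc_three_le_card hZ hab
  set Hg : Subgroup G := stabilizer G a ⊓ stabilizer G b with hHg
  set e := Nat.card Hg with he
  have hcardK : Nat.card Kg = Fintype.card Ω - 1 := by omega
  rw [← hcardK]
  have hA : Nat.card Kg - 1 ≤ 2 * e ∨ IsPGroup 2 Kg := by
    rcases Nat.even_or_odd e with hev | hodd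
    · left
      have : Fintype.card Ω - 2 ≤ 2 * e := le_two_mul_of_even hZ hab hev
      omega
    · rcases zf_main Ω (Nat.card G) G hZ a b hab (Fintype.card Ω - 1) e (by omega) rfl hodd Kg
        hKa hKcard hKfix rfl with h | h
      · left; omega
      · right; exact h.1
  rcases hA with hA | hA
  · apply isPrimePow_of_semiregular Kg Hg (by omega) ?_ ?_ hA
    · intro h hh x hx
      exact hKnorm h (Subgroup.mem_inf.1 hh).1 x hx
    · intro h hh h1 x hx hc
      by_contra hx1
      have hha : h • a = a := (Subgroup.mem_inf.1 hh).1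
      have hhb : h • b = b := (Subgroup.mem_inf.1 hh).2
      have hxb : x • b ≠ b := fun hfix => hab (hKfix x hx hx1 b hfix).symm
      have hxa : x • a = a := hKa hx
      have hxba : x • b ≠ a := by
        intro h0
        have h2 : x • b = x • a := by rw [h0, hxa]
        exact hab (smul_left_cancel _ h2).symm
      have hfixxb : h • (x • b) = x • b := by
        rw [← mul_smul, hc, mul_smul, hhb]
      exact h1 (fix3 hZ h hab (Ne.symm hxb) (Ne.symm hxba) hha hhb hfixxb)
  · obtain ⟨k, hk⟩ := (IsPGroup.iff_card.1 hA)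
    rw [hk]
    have hk0 : k ≠ 0 := by
      intro h
      rw [h, pow_zero] at hk
      omega
    exact (Nat.prime_two.isPrimePow).pow hk0

end Cfsg.Agent.S0346
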