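import Mathlib
import Cfsg.Statements.S0355
import Cfsg.Agent.Lib.Helper3.Steiner

set_option autoImplicit false
open Cfsg Cfsg.Agent.Lib.Helper3

namespace Cfsg.Agent.S0355

open Finset Steiner

/-- In a Steiner system S(4, 7, 23), two distinct blocks intersect in 1 or 3 points. -/
theorem result {α : Type*} [Fintype α] [DecidableEq α] (hα : Fintype.card α = 23) {B : Set (Finset α)} (hB : Cfsg.IsSteinerSystem 4 7 B) {b c : Finset α} (hb : b ∈ B) (hc : c ∈ B) (hbc : b ≠ c) : (b ∩ c).card = 1 ∨ (b ∩ c).card = 3 := by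
  have lam3 : ∀ I : Finset α, I.card = 3 → ((blocksF B).filter (I ⊆ ·)).card = 5 := by
    intro I hI
    have h := card_blocks_containing hB I (by omega)
    rw [hα, hI] at h
    norm_num [Nat.choose] at h
    omega
  have lam2 : ∀ I : Finset α, I.card = 2 → ((blocksF B).filter (I ⊆ ·)).card = 21 := by
    intro I hI
    have h := card_blocks_containing hB I (by omega)
    rw [hα, hI] at h
    norm_num [Nat.choose] at h
    omega
  have lam1 : ∀ I : Finset α, I.card = 1 → ((blocksF B).filter (I ⊆ ·)).card = 77 := by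
    intro I hI
    have h := card_blocks_containing hB I (by omega)
    rw [hα, hI] at h
    norm_num [Nat.choose] at h
    omega
  have lam0 : ∀ I : Finset α, I.card = 0 → ((blocksF B).filter (I ⊆ ·)).card = 253 := by
    intro I hI
    have h := card_blocks_containing hB I (by omega)
    rw [hα, hI] at h
    norm_num [Nat.choose] at h
    omega
  have sum3 : ∑ c ∈ (blocksF B).erase b, ((b ∩ c).card).choose 3 = 140 := by
    rw [sum_choose_inter hB hb 3 5 lam3]; norm_num [Nat.choose]
  have sum2 : ∑ c ∈ (blocksF B).erase b, ((b ∩ c).card).choose 2 = 420 := by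
    rw [sum_choose_inter hB hb 2 21 lam2]; norm_num [Nat.choose]
  have sum1 : ∑ c ∈ (blocksF B).erase b, ((b ∩ c).card).choose 1 = 532 := by
    rw [sum_choose_inter hB hb 1 77 lam1]; norm_num [Nat.choose]
  have sum0 : ∑ c ∈ (blocksF B).erase b, ((b ∩ c).card).choose 0 = 252 := by
    rw [sum_choose_inter hB hb 0 253 lam0]; norm_num [Nat.choose]
  have hle : ∀ d ∈ (blocksF B).erase b, (b ∩ d).card ≤ 3 := by
    intro d hd
    rw [mem_erase, mem_blocksF] at hd
    have := inter_card_lt hB hb hd.2 (Ne.symm hd.1)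
    omega
  have hcm : c ∈ (blocksF B).erase b := by
    rw [mem_erase, mem_blocksF]; exact ⟨Ne.symm hbc, hc⟩
  have h2 : ∀ c ∈ (blocksF B).erase b, 3 * ((b ∩ c).card).choose 3 = ((b ∩ c).card).choose 2 := by
    rw [← Finset.sum_eq_sum_iff_of_le]
    · rw [← Finset.mul_sum, sum3, sum2]
      norm_num
    · intro d hd
      have := hle d hd
      interval_cases (b ∩ d).card <;> simp [Nat.choose]
  have h0 : ∀ c ∈ (blocksF B).erase b,
      ((b ∩ c).card).choose 1 + ((b ∩ c).card).choose 3 =
        ((b ∩ c).card).choose 0 + ((b ∩ c).card).choose 2 := by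
    rw [← Finset.sum_eq_sum_iff_of_le]
    · rw [Finset.sum_add_distrib, Finset.sum_add_distrib, sum3, sum2, sum1, sum0]
    · intro d hd
      have := hle d hd
      interval_cases (b ∩ d).card <;> simp [Nat.choose]
  have h2c := h2 c hcm
  have h0c := h0 c hcm
  have hlec := hle c hcm
  interval_cases h : (b ∩ c).card <;> simp_all [Nat.choose]

end Cfsg.Agent.S0355
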