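import Mathlib
import Cfsg.Statements.S0357
import Cfsg.Agent.Lib.Helper3.Steiner

set_option autoImplicit false
open Cfsg Cfsg.Agent.Lib.Helper3

namespace Cfsg.Agent.S0357

open Finset Steiner

/-- In a Steiner system S(5, 6, 12), the complement of every block is again a block. -/
theorem result {α : Type*} [Fintype α] [DecidableEq α] (hα : Fintype.card α = 12) {B : Set (Finset α)} (hB : Cfsg.IsSteinerSystem 5 6 B) {b : Finset α} (hb : b ∈ B) : bᶜ ∈ B := by
  have lam4 : ∀ I : Finset α, I.card = 4 → ((blocksF B).filter (I ⊆ ·)).card = 4 := by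
    intro I hI
    have h := card_blocks_containing hB I (by omega)
    rw [hα, hI] at h
    norm_num [Nat.choose] at h
    omega
  have lam3 : ∀ I : Finset α, I.card = 3 → ((blocksF B).filter (I ⊆ ·)).card = 12 := by
    intro I hI
    have h := card_blocks_containing hB I (by omega)
    rw [hα, hI] at h
    norm_num [Nat.choose] at h
    omega
  have lam2 : ∀ I : Finset α, I.card = 2 → ((blocksF B).filter (I ⊆ ·)).card = 30 := by
    intro I hI
    have h := card_blocks_containing hB I (by omega)
    rw [hα, hI] at h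
    norm_num [Nat.choose] at h
    omega
  have lam1 : ∀ I : Finset α, I.card = 1 → ((blocksF B).filter (I ⊆ ·)).card = 66 := by
    intro I hI
    have h := card_blocks_containing hB I (by omega)
    rw [hα, hI] at h
    norm_num [Nat.choose] at h
    omega
  have lam0 : ∀ I : Finset α, I.card = 0 → ((blocksF B).filter (I ⊆ ·)).card = 132 := by
    intro I hI
    have h := card_blocks_containing hB I (by omega)
    rw [hα, hI] at h
    norm_num [Nat.choose] at h
    omega
  have sum4 : ∑ c ∈ (blocksF B).erase b, ((b ∩ c).card).choose 4 = 45 := by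
    rw [sum_choose_inter hB hb 4 4 lam4]; norm_num [Nat.choose]
  have sum3 : ∑ c ∈ (blocksF B).erase b, ((b ∩ c).card).choose 3 = 220 := by
    rw [sum_choose_inter hB hb 3 12 lam3]; norm_num [Nat.choose]
  have sum2 : ∑ c ∈ (blocksF B).erase b, ((b ∩ c).card).choose 2 = 435 := by
    rw [sum_choose_inter hB hb 2 30 lam2]; norm_num [Nat.choose]
  have sum1 : ∑ c ∈ (blocksF B).erase b, ((b ∩ c).card).choose 1 = 390 := by
    rw [sum_choose_inter hB hb 1 66 lam1]; norm_num [Nat.choose]
  have sum0 : ∑ c ∈ (blocksF B).erase b, ((b ∩ c).card).choose 0 = 131 := by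
    rw [sum_choose_inter hB hb 0 132 lam0]; norm_num [Nat.choose]
  have hle : ∀ d ∈ (blocksF B).erase b, (b ∩ d).card ≤ 4 := by
    intro d hd
    rw [mem_erase, mem_blocksF] at hd
    have := inter_card_lt hB hb hd.2 (Ne.symm hd.1)
    omega
  have key : ∀ c ∈ (blocksF B).erase b,
      (if (b ∩ c).card = 0 then 1 else 0) + ((b ∩ c).card).choose 1 + ((b ∩ c).card).choose 3 =
        ((b ∩ c).card).choose 0 + ((b ∩ c).card).choose 2 + ((b ∩ c).card).choose 4 := by
    intro d hd
    have := hle d hd
    interval_cases (b ∩ d).card <;> simp [Nat.choose]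
  have hsum := Finset.sum_congr rfl key
  rw [Finset.sum_add_distrib, Finset.sum_add_distrib, Finset.sum_add_distrib,
    Finset.sum_add_distrib, sum4, sum3, sum2, sum1, sum0, ← Finset.card_filter] at hsum
  have hcard : (((blocksF B).erase b).filter (fun c => (b ∩ c).card = 0)).card = 1 := by omega
  obtain ⟨c, hc⟩ := Finset.card_eq_one.1 hcard
  have hcm : c ∈ ((blocksF B).erase b).filter (fun c => (b ∩ c).card = 0) := by
    rw [hc]; exact mem_singleton_self c
  rw [mem_filter, mem_erase, mem_blocksF, card_eq_zero] at hcm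
  obtain ⟨⟨_, hcB⟩, hdisj⟩ := hcm
  have hsub : c ⊆ bᶜ := by
    intro x hx
    rw [mem_compl]
    intro hxb
    have : x ∈ b ∩ c := mem_inter.2 ⟨hxb, hx⟩
    rw [hdisj] at this
    simp at this
  have hcc : c.card = 6 := hB.1 c hcB
  have hbc : bᶜ.card = 6 := by rw [card_compl, hα, hB.1 b hb]
  have : c = bᶜ := Finset.eq_of_subset_of_card_le hsub (by omega)
  rw [← this]; exact hcB

end Cfsg.Agent.S0357
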