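import Mathlib
import Cfsg.Statements.S0370
import Cfsg.Agent.Lib.Helper28.M24Mem

set_option autoImplicit false
open Cfsg

namespace Cfsg.Agent.S0370

lemma qrWord_mem (t : ZMod 23) : qrWord t ∈ golayCode :=
  Submodule.subset_span (Or.inl ⟨t, rfl⟩)

/-- The permutation x ↦ x + 1 of the residues modulo 23, fixing the extra point, lies in the group of the length-24 code. -/
theorem result : Equiv.optionCongr (Equiv.addRight (1 : ZMod 23)) ∈ Cfsg.M24 := by
  apply Cfsg.Agent.Lib.Helper28.mem_M24_of_qrWord_comp
  intro t
  have : (fun i => qrWord t ((Equiv.optionCongr (Equiv.addRight (1 : ZMod 23))) i)) =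
      qrWord (t - 1) := by
    funext i
    cases i with
    | none => rfl
    | some x =>
      simp only [Equiv.optionCongr_apply, Option.map_some, Equiv.coe_addRight, qrWord]
      congr 1
      apply propext
      constructor
      · rintro ⟨r, hr⟩
        exact ⟨r, by rw [← sub_eq_iff_eq_add.2 hr.symm]; ring⟩
      · rintro ⟨r, hr⟩
        exact ⟨r, by rw [hr]; ring⟩
  rw [this]
  exact qrWord_mem _

end Cfsg.Agent.S0370
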