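import Cfsg.Statements.S0377
import Cfsg.Agent.Lib.Helper28.M24Simple

set_option autoImplicit false
open Cfsg

namespace Cfsg.Agent.S0377

/-- A point stabiliser in the group of the length-24 code is simple. -/
theorem result (p : Cfsg.GolayPt) : IsSimpleGroup (MulAction.stabilizer Cfsg.M24 p) := by
  obtain ⟨a, rfl⟩ := Cfsg.Agent.Lib.Helper4.pt_bijective.2 p
  obtain ⟨h, hh, _, h2⟩ := Cfsg.Agent.Lib.Helper28.M24_level 0 a
    (Cfsg.Agent.Lib.Helper28.m24omega_low.1 a)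
  rw [Cfsg.Agent.Lib.Helper28.m24base_vals.1] at h2
  have hs : IsSimpleGroup ↥(Cfsg.M24 ⊓ MulAction.stabilizer (Equiv.Perm Cfsg.GolayPt)
      (Cfsg.Agent.Lib.Helper4.pt 23)) := Cfsg.Agent.Lib.Helper28.G23_isSimpleGroup
  have e := Cfsg.Agent.Lib.Helper28.stabEquiv hh (Cfsg.Agent.Lib.Helper4.pt 23)
  have h3 : h • Cfsg.Agent.Lib.Helper4.pt 23 = Cfsg.Agent.Lib.Helper4.pt a := h2
  rw [h3] at e
  exact e.isSimpleGroup


end Cfsg.Agent.S0377
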