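import Mathlib
import Cfsg.Statements.S0386
import Cfsg.Agent.Lib.Helper3.Dodecad

set_option autoImplicit false
open Cfsg

namespace Cfsg.Agent.S0386

open Cfsg.Agent.Lib.Helper3.Steiner Finset

lemma ncard_eq (d : Finset GolayPt) (j : ℕ) :
    {o : Finset Cfsg.GolayPt | o ∈ Cfsg.octads ∧ (o ∩ d).card = j}.ncard =
      ((blocksF octads).filter (fun o => (d ∩ o).card = j)).card := by
  classical
  have : {o : Finset Cfsg.GolayPt | o ∈ Cfsg.octads ∧ (o ∩ d).card = j} =
      (((blocksF octads).filter (fun o => (d ∩ o).card = j) : Finset _) : Set _) := by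
    ext o
    simp only [Set.mem_ofPred_eq, coe_filter, mem_blocksF, inter_comm]
  rw [this, Set.ncard_coe_finset]

/-- For a fixed dodecad, 132 octads meet it in 6 points, 132 in 2 points and 495 in 4 points. -/
theorem result (d : Finset Cfsg.GolayPt) (hd : d ∈ Cfsg.dodecads) : {o : Finset Cfsg.GolayPt | o ∈ Cfsg.octads ∧ (o ∩ d).card = 6}.ncard = 132 ∧ {o : Finset Cfsg.GolayPt | o ∈ Cfsg.octads ∧ (o ∩ d).card = 2}.ncard = 132 ∧ {o : Finset Cfsg.GolayPt | o ∈ Cfsg.octads ∧ (o ∩ d).card = 4}.ncard = 495 := by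
  rw [ncard_eq, ncard_eq, ncard_eq]
  exact dodecad_octad_counts hd

end Cfsg.Agent.S0386
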