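import Cfsg.Statements.S0406
import Cfsg.Agent.Lib.Helper1.LCH

set_option autoImplicit false
open Matrix
open Cfsg

namespace Cfsg.Agent.S0406

/-- A rank-24 even lattice with no roots and the stated numbers of vectors of norms 4, 6, 8 is isomorphic to the Leech lattice. -/
theorem result (B : Matrix (Fin 24) (Fin 24) ℤ) (hsymm : B.IsSymm) (hpos : ∀ x : Fin 24 → ℤ, x ≠ 0 → 0 < x ⬝ᵥ (B *ᵥ x)) (heven : ∀ x : Fin 24 → ℤ, (2 : ℤ) ∣ x ⬝ᵥ (B *ᵥ x)) (h2 : ∀ x : Fin 24 → ℤ, x ⬝ᵥ (B *ᵥ x) ≠ 2) (h4 : {x : Fin 24 → ℤ | x ⬝ᵥ (B *ᵥ x) = 4}.ncard = 196560) (h6 : {x : Fin 24 → ℤ | x ⬝ᵥ (B *ᵥ x) = 6}.ncard = 16773120) (h8 : {x : Fin 24 → ℤ | x ⬝ᵥ (B *ᵥ x) = 8}.ncard = 398034000) : ∃ f : (Fin 24 → ℤ) ≃+ Cfsg.leechLattice, ∀ x : Fin 24 → ℤ, Cfsg.sqNorm ((f x : Cfsg.leechLattice) : Cfsg.GolayPt → ℤ) = 8 * (x ⬝ᵥ (B *ᵥ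 x)) := by
  have h : Cfsg.Agent.Lib.Helper1.LC.Hyp B :=
    ⟨hsymm, fun x hx => by rw [Cfsg.Agent.Lib.Helper1.LC.Q_apply]; exact hpos x hx,
      fun x => by rw [Cfsg.Agent.Lib.Helper1.LC.Q_apply]; exact heven x,
      fun x => by rw [Cfsg.Agent.Lib.Helper1.LC.Q_apply]; exact h2 x⟩
  have hset : ∀ n : ℤ, {x : Cfsg.Agent.Lib.Helper1.LC.Lam | Cfsg.Agent.Lib.Helper1.LC.Q B x = n} =
      {x : Fin 24 → ℤ | x ⬝ᵥ (B *ᵥ x) = n} := by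
    intro n
    ext x
    simp only [Set.mem_ofPred_eq, Cfsg.Agent.Lib.Helper1.LC.Q_apply]
  obtain ⟨f, hf⟩ := Cfsg.Agent.Lib.Helper1.LC.leech_char h
    (by rw [hset]; exact h4) (by rw [hset]; exact h6) (by rw [hset]; exact h8)
  refine ⟨f, fun x => ?_⟩
  rw [hf x, Cfsg.Agent.Lib.Helper1.LC.Q_apply]

end Cfsg.Agent.S0406
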