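import Cfsg.Statements.S0412
import Cfsg.Agent.Lib.Helper28.Witt24
import Cfsg.Agent.S0369
import Cfsg.Agent.S0365
import Cfsg.Agent.S0364
import Cfsg.Agent.S0366

set_option autoImplicit false
open Cfsg

namespace Cfsg.Agent.S0412

/-- Aut of an S(5, 8, 24) is simple of order 244823040 and 5-transitive on points. -/
theorem result {α : Type*} [Fintype α] [DecidableEq α] (hα : Fintype.card α = 24) {B : Set (Finset α)} (hB : Cfsg.IsSteinerSystem 5 8 B) : Cfsg.IsM24 (Cfsg.setSystemAut B) ∧ MulAction.IsMultiplyPretransitive (Cfsg.setSystemAut B) α 5 := by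
  obtain ⟨Ψ, hΨ⟩ := Cfsg.Agent.Lib.Helper28.Witt.exists_iso_octads hα hB
  have hM : Cfsg.M24 = Cfsg.setSystemAut Cfsg.octads := Cfsg.Agent.S0369.result
  let φ : ↥(Cfsg.setSystemAut B) ≃* ↥Cfsg.M24 :=
    (Cfsg.Agent.Lib.Helper28.SetSys.autCongr Ψ hΨ).trans (MulEquiv.subgroupCongr hM.symm)
  refine ⟨⟨?_, ?_⟩, ?_⟩
  · haveI : IsSimpleGroup ↥Cfsg.M24 := Cfsg.Agent.S0365.result
    exact φ.isSimpleGroup
  · rw [Nat.card_congr φ.toEquiv]
    exact Cfsg.Agent.S0364.result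
  · apply Cfsg.Agent.Lib.Helper28.SetSys.pretransitive_transfer Ψ hΨ 5
    rw [← hM]
    exact Cfsg.Agent.S0366.result


end Cfsg.Agent.S0412
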