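import Mathlib
import Cfsg.Statements.S0427
import Cfsg.Agent.Lib.Helper4.S3622

set_option autoImplicit false
open Cfsg

namespace Cfsg.Agent.S0427

open Cfsg.Agent.Helper4.S3622 Cfsg.Agent.Lib.Helper3.Steiner in
/-- The block graph (adjacent = disjoint) of an S(3, 6, 22) is strongly regular with parameters (77, 16, 0, 4). -/
theorem result {α : Type*} [Fintype α] (hα : Fintype.card α = 22) {B : Set (Finset α)} (hB : Cfsg.IsSteinerSystem 3 6 B) [Fintype B] [DecidableRel (Cfsg.blockGraph B).Adj] : (Cfsg.blockGraph B).IsSRGWith 77 16 0 4 := by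
  classical
  have adj_iff : ∀ v w : B, (Cfsg.blockGraph B).Adj v w ↔ Disjoint (v : Finset α) w := by
    intro v w
    unfold Cfsg.blockGraph
    rw [SimpleGraph.fromRel_adj]
    constructor
    · rintro ⟨_, h | h⟩
      · exact h
      · exact h.symm
    · intro h
      refine ⟨?_, Or.inl h⟩
      intro e
      subst e
      rw [disjoint_self, Finset.bot_eq_empty] at h
      have := hB.1 v.1 v.2
      rw [h] at this
      simp at this
  refine ⟨?_, ?_, ?_, ?_⟩
  · rw [← lam0 hα hB, card_blocksF, ← Nat.card_eq_fintype_card, Nat.card_coe_set_eq]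
  · intro v
    rw [← SimpleGraph.card_neighborFinset_eq_degree]
    rw [card_eq_filter ((Cfsg.blockGraph B).neighborFinset v) (fun d => Disjoint (v : Finset α) d)
      (fun w => by rw [SimpleGraph.mem_neighborFinset, adj_iff])]
    exact deg16 hα hB v.2
  · intro v w hvw
    rw [Fintype.card_eq_zero_iff]
    constructor
    rintro ⟨u, hu⟩
    rw [SimpleGraph.mem_commonNeighbors, adj_iff, adj_iff] at hu
    exact common0 hα hB v.2 w.2 ((adj_iff v w).1 hvw) u.1 u.2 hu
  · intro v w hne hnadj
    rw [← Set.toFinset_card]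
    rw [card_eq_filter ((Cfsg.blockGraph B).commonNeighbors v w).toFinset
      (fun d => Disjoint (v : Finset α) d ∧ Disjoint (w : Finset α) d)
      (fun u => by rw [Set.mem_toFinset, SimpleGraph.mem_commonNeighbors, adj_iff, adj_iff])]
    refine common4 hα hB v.2 w.2 (fun h => hne (Subtype.ext h)) ?_
    rwa [adj_iff] at hnadj

end Cfsg.Agent.S0427
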