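import Mathlib
import Cfsg.Statements.S0435
import Cfsg.Agent.Lib.Helper17.M11Invol
import Cfsg.Agent.Lib.Helper11.M11H

set_option autoImplicit false
open Cfsg

namespace Cfsg.Agent.S0435

/-- Involution centralisers in a simple group of order 7920 have order 48. -/
theorem result {G : Type*} [Group G] [Finite G] (hG : Cfsg.IsM11 G) (x : G) (hx : orderOf x = 2) : Nat.card (Subgroup.centralizer ({x} : Set G)) = 48 := by
  obtain ⟨hs, hord⟩ := hG
  haveI := hs
  letI : Fintype (IrrCharacter G) := Fintype.ofFinite _
  exact Cfsg.Agent.Lib.Helper17.M11Invol.card_centralizer_involution hord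
    (Cfsg.Agent.Lib.Helper17.M11Invol.data_of_list (Cfsg.Agent.Lib.Helper11.M11.char_list hord)) x hx

end Cfsg.Agent.S0435
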