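import Cfsg.Statements.S0436
import Mathlib

set_option autoImplicit false
open Cfsg

namespace Cfsg.Agent.S0436

theorem inv_sq {G : Type*} [Group G] {d : G} (h : orderOf d = 2) : d * d = 1 := by
  have := pow_orderOf_eq_one d
  rw [h, pow_two] at this
  exact this

theorem comm_of_sq {G : Type*} [Group G] {d e : G} (hd : d * d = 1) (he : e * e = 1)
    (h : (d * e) ^ 2 = 1) : Commute d e := by
  unfold Commute SemiconjBy
  rw [pow_two] at h
  have hdi : d⁻¹ = d := inv_eq_of_mul_eq_one_left hd
  have hei : e⁻¹ = e := inv_eq_of_mul_eq_one_left he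
  have h3 : (d * e)⁻¹ = d * e := inv_eq_of_mul_eq_one_left h
  rw [mul_inv_rev, hdi, hei] at h3
  exact h3.symm

theorem sq_of_comm {G : Type*} [Group G] {d e : G} (hd : d * d = 1) (he : e * e = 1)
    (h : Commute d e) : (d * e) ^ 2 = 1 := by
  rw [h.mul_pow, pow_two, pow_two, hd, he, one_mul]

/-- core lemma: involutions a, b commuting, e an involution commuting with a*b, products e*a, e*b of order ≤ 3,
    a ≠ b; then e commutes with a and b -/
theorem core {G : Type*} [Group G] {a b e : G} (ha : a * a = 1) (hb : b * b = 1) (he : e * e = 1)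
    (hab : a ≠ b) (hcomm : Commute a b)
    (h1 : (e * a) ^ 2 = 1 ∨ (e * a) ^ 3 = 1) (h2 : (e * b) ^ 2 = 1 ∨ (e * b) ^ 3 = 1)
    (h : Commute e (a * b)) : Commute e a ∧ Commute e b := by
  have hz2 : (a * b) * (a * b) = 1 := by
    have := sq_of_comm ha hb hcomm
    rwa [pow_two] at this
  have hbz : b = a * (a * b) := by rw [← mul_assoc, ha, one_mul]
  have hza : Commute (a * b) a := Commute.mul_left (Commute.refl a) hcomm.symm
  by_cases hea : (e * a) ^ 2 = 1
  · have c1 : Commute e a := comm_of_sq he ha hea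
    refine ⟨c1, ?_⟩
    rw [hbz]
    exact c1.mul_right h
  · exfalso
    have h1' : (e * a) ^ 3 = 1 := h1.resolve_left hea
    have hcz : Commute (e * a) (a * b) := (h.mul_left hza.symm)
    have heb : e * b = (e * a) * (a * b) := by rw [mul_assoc, ← hbz]
    have hzz : (a * b) ^ 2 = 1 := by rw [pow_two, hz2]
    have hz3 : (a * b) ^ 3 = a * b := by rw [pow_succ, hzz, one_mul]
    have e2 : (e * b) ^ 2 = (e * a) ^ 2 := by rw [heb, hcz.mul_pow, hzz, mul_one]
    have e3 : (e * b) ^ 3 = a * b := by rw [heb, hcz.mul_pow, hz3, h1', one_mul]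
    rw [e2, e3] at h2
    rcases h2 with h2 | h2
    · exact hea h2
    · apply hab
      calc a = a * (b * b) := by rw [hb, mul_one]
        _ = (a * b) * b := by rw [mul_assoc]
        _ = b := by rw [h2, one_mul]

/-- For distinct commuting members a, b of a set of 3-transpositions E, a member e of E centralises the product a * b if and only if it centralises both a and b. -/
theorem result {G : Type*} [Group G] {E : Set G} (hE : Cfsg.IsThreeTranspositionSet E) {a b e : G} (ha : a ∈ E) (hb : b ∈ E) (he : e ∈ E) (hab : a ≠ b) (hcomm : Commute a b) : Commute e (a * b) ↔ (Commute e a ∧ Commute e b) := by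
  constructor
  · intro h
    exact core (inv_sq (hE.1 a ha)) (inv_sq (hE.1 b hb)) (inv_sq (hE.1 e he)) hab hcomm
      (hE.2 e he a ha) (hE.2 e he b hb) h
  · rintro ⟨h1, h2⟩
    exact h1.mul_right h2

end Cfsg.Agent.S0436
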