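import Cfsg.Statements.S0437
import Mathlib

set_option autoImplicit false
open Cfsg

namespace Cfsg.Agent.S0437

theorem inv_sq {G : Type*} [Group G] {d : G} (h : orderOf d = 2) : d * d = 1 := by
  have := pow_orderOf_eq_one d
  rw [h, pow_two] at this
  exact this

theorem comm_of_sq {G : Type*} [Group G] {d e : G} (hd : d * d = 1) (he : e * e = 1)
    (h : (d * e) ^ 2 = 1) : Commute d e := by
  unfold Commute SemiconjBy
  rw [pow_two] at h
  have hdi : d⁻¹ = d := inv_eq_of_mul_eq_one_left hd
  have hei : e⁻¹ = e := inv_eq_of_mul_eq_one_left he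
  have h3 : (d * e)⁻¹ = d * e := inv_eq_of_mul_eq_one_left h
  rw [mul_inv_rev, hdi, hei] at h3
  exact h3.symm

theorem sq_of_comm {G : Type*} [Group G] {d e : G} (hd : d * d = 1) (he : e * e = 1)
    (h : Commute d e) : (d * e) ^ 2 = 1 := by
  rw [h.mul_pow, pow_two, pow_two, hd, he, one_mul]

theorem core {G : Type*} [Group G] {a b e : G} (ha : a * a = 1) (hb : b * b = 1) (he : e * e = 1)
    (hab : a ≠ b) (hcomm : Commute a b)
    (h1 : (e * a) ^ 2 = 1 ∨ (e * a) ^ 3 = 1) (h2 : (e * b) ^ 2 = 1 ∨ (e * b) ^ 3 = 1)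
    (h : Commute e (a * b)) : Commute e a ∧ Commute e b := by
  have hz2 : (a * b) * (a * b) = 1 := by
    have := sq_of_comm ha hb hcomm
    rwa [pow_two] at this
  have hbz : b = a * (a * b) := by rw [← mul_assoc, ha, one_mul]
  have hza : Commute (a * b) a := Commute.mul_left (Commute.refl a) hcomm.symm
  by_cases hea : (e * a) ^ 2 = 1
  · have c1 : Commute e a := comm_of_sq he ha hea
    refine ⟨c1, ?_⟩
    rw [hbz]
    exact c1.mul_right h
  · exfalso
    have h1' : (e * a) ^ 3 = 1 := h1.resolve_left hea
    have hcz : Commute (e * a) (a * b) := (h.mul_left hza.symm)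
    have heb : e * b = (e * a) * (a * b) := by rw [mul_assoc, ← hbz]
    have hzz : (a * b) ^ 2 = 1 := by rw [pow_two, hz2]
    have hz3 : (a * b) ^ 3 = a * b := by rw [pow_succ, hzz, one_mul]
    have e2 : (e * b) ^ 2 = (e * a) ^ 2 := by rw [heb, hcz.mul_pow, hzz, mul_one]
    have e3 : (e * b) ^ 3 = a * b := by rw [heb, hcz.mul_pow, hz3, h1', one_mul]
    rw [e2, e3] at h2
    rcases h2 with h2 | h2
    · exact hea h2
    · apply hab
      calc a = a * (b * b) := by rw [hb, mul_one]
        _ = (a * b) * b := by rw [mul_assoc]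
        _ = b := by rw [h2, one_mul]

theorem braid {G : Type*} [Group G] {a e : G} (ha : a * a = 1) (he : e * e = 1)
    (h : (e * a) ^ 3 = 1) : e * a * e = a * e * a := by
  have hai : a⁻¹ = a := inv_eq_of_mul_eq_one_left ha
  have hei : e⁻¹ = e := inv_eq_of_mul_eq_one_left he
  have h1 : (e * a * e) * (a * e * a) = 1 := by rw [← h]; simp only [pow_succ, pow_zero, one_mul, mul_assoc]
  have h2 : (a * e * a)⁻¹ = e * a * e := inv_eq_of_mul_eq_one_left h1
  rw [← h2, mul_inv_rev, mul_inv_rev, hai, hei, mul_assoc]

theorem cox4 {G : Type*} [Group G] {a b e : G} (ha : a * a = 1) (hb : b * b = 1) (he : e * e = 1)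
    (hab : Commute a b) (h1 : (e * a) ^ 3 = 1) (h2 : (e * b) ^ 3 = 1) : (e * a * b) ^ 4 = 1 := by
  have A : e * a * e = a * e * a := braid ha he h1
  have B : e * b * e = b * e * b := braid hb he h2
  have hab' : a * b = b * a := hab.eq
  have hab2 : (a * b) * (a * b) = 1 := by
    have := sq_of_comm ha hb hab
    rwa [pow_two] at this
  have X : (e * a * b) * (e * a * b) = a * b * e * (a * b) * e := by
    calc (e * a * b) * (e * a * b) = e * a * b * e * (a * b) := by group
      _ = e * a * b * e * (b * a) := by rw [hab']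
      _ = e * a * (b * e * b) * a := by group
      _ = e * a * (e * b * e) * a := by rw [← B]
      _ = (e * a * e) * b * e * a := by group
      _ = (a * e * a) * b * e * a := by rw [A]
      _ = a * e * (a * b) * e * a := by group
      _ = a * e * (b * a) * e * a := by rw [hab']
      _ = a * e * b * (a * e * a) := by group
      _ = a * e * b * (e * a * e) := by rw [← A]
      _ = a * (e * b * e) * a * e := by group
      _ = a * (b * e * b) * a * e := by rw [B]
      _ = a * b * e * (b * a) * e := by group
      _ = a * b * e * (a * b) * e := by rw [← hab']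
  calc (e * a * b) ^ 4 = ((e * a * b) * (e * a * b)) * ((e * a * b) * (e * a * b)) := by simp only [pow_succ, pow_zero, one_mul, mul_assoc]
    _ = ((e * a * b) * (e * a * b)) * (a * b * e * (a * b) * e) := by rw [X]
    _ = e * a * b * e * ((a * b) * (a * b)) * e * (a * b) * e := by group
    _ = e * a * b * e * 1 * e * (a * b) * e := by rw [hab2]
    _ = e * a * b * (e * e) * (a * b) * e := by group
    _ = e * a * b * 1 * (a * b) * e := by rw [he]
    _ = e * ((a * b) * (a * b)) * e := by group
    _ = e * 1 * e := by rw [hab2]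
    _ = 1 := by rw [mul_one, he]

/-- if e commutes with none of a, b, c we get e * c = 1 -/
theorem none_case {G : Type*} [Group G] {a b c e : G} (ha : a * a = 1) (hb : b * b = 1) (hc : c * c = 1)
    (he : e * e = 1) (h₁ : Commute a b) (h₂ : Commute a c) (h₃ : Commute b c)
    (hz : Commute e (a * b * c))
    (ea : (e * a) ^ 3 = 1) (eb : (e * b) ^ 3 = 1) (ec : (e * c) ^ 3 = 1) : e * c = 1 := by
  have x4 := cox4 ha hb he h₁ ea eb
  -- z = a*b*c, z*z = 1
  have hab2 : (a * b) * (a * b) = 1 := by
    have := sq_of_comm ha hb h₁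
    rwa [pow_two] at this
  have habc : Commute (a * b) c := h₂.mul_left h₃
  have hzz : (a * b * c) * (a * b * c) = 1 := by
    have := habc.mul_pow 2
    rw [pow_two, pow_two, pow_two, hab2, hc, one_mul] at this
    exact this
  have hcz : c = a * b * (a * b * c) := by
    rw [← mul_assoc, hab2, one_mul]
  -- z commutes with a, b
  have hza : Commute (a * b * c) a :=
    Commute.mul_left (Commute.mul_left (Commute.refl a) h₁.symm) h₂.symm
  have hzb : Commute (a * b * c) b :=
    Commute.mul_left (Commute.mul_left h₁ (Commute.refl b)) h₃.symm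
  have hxz : Commute (e * a * b) (a * b * c) := ((hz.mul_left hza.symm).mul_left hzb.symm)
  have hec : e * c = (e * a * b) * (a * b * c) := by
    rw [mul_assoc e a b, mul_assoc e (a * b), ← hcz]
  have hz3 : (a * b * c) ^ 3 = a * b * c := by rw [pow_succ, pow_two, hzz, one_mul]
  have hz3' : (e * a * b) ^ 3 * (a * b * c) = 1 := by
    rw [hec, hxz.mul_pow, hz3] at ec
    exact ec
  -- x^4 = 1 and x^3 * z = 1 → x = z → x * z = 1
  have hx : e * a * b = a * b * c := by
    have h5 : (e * a * b) ^ 3 * (e * a * b) = 1 := by rw [← pow_succ]; exact x4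
    have h6 : ((e * a * b) ^ 3)⁻¹ = a * b * c := inv_eq_of_mul_eq_one_right hz3'
    have h7 : ((e * a * b) ^ 3)⁻¹ = e * a * b := inv_eq_of_mul_eq_one_right h5
    rw [← h7, h6]
  rw [hec, hx, hzz]

/-- For three distinct, pairwise commuting members a, b, c of a set of 3-transpositions E, a member e of E centralises a * b * c if and only if it centralises each of a, b and c. -/
theorem result {G : Type*} [Group G] {E : Set G} (hE : Cfsg.IsThreeTranspositionSet E) {a b c e : G} (ha : a ∈ E) (hb : b ∈ E) (hc : c ∈ E) (he : e ∈ E) (hab : a ≠ b) (hac : a ≠ c) (hbc : b ≠ c) (h₁ : Commute a b) (h₂ : Commute a c) (h₃ : Commute b c) : Commute e (a * b * c) ↔ (Commute e a ∧ Commute e b ∧ Commute e c) := by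
  have a2 := inv_sq (hE.1 a ha)
  have b2 := inv_sq (hE.1 b hb)
  have c2 := inv_sq (hE.1 c hc)
  have e2 := inv_sq (hE.1 e he)
  constructor
  · intro h
    by_cases hc' : Commute e c
    · -- e commutes with a*b = z * c
      have h4 : Commute e (a * b) := by
        have : a * b = (a * b * c) * c := by rw [mul_assoc, c2, mul_one]
        rw [this]; exact h.mul_right hc'
      have := core a2 b2 e2 hab h₁ (hE.2 e he a ha) (hE.2 e he b hb) h4
      exact ⟨this.1, this.2, hc'⟩
    by_cases ha' : Commute e a
    · have h4 : Commute e (b * c) := by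
        have : b * c = a * (a * b * c) := by rw [mul_assoc a b c, ← mul_assoc a a, a2, one_mul]
        rw [this]; exact ha'.mul_right h
      have := core b2 c2 e2 hbc h₃ (hE.2 e he b hb) (hE.2 e he c hc) h4
      exact ⟨ha', this.1, this.2⟩
    by_cases hb' : Commute e b
    · have h4 : Commute e (a * c) := by
        have : a * c = b * (a * b * c) := by
          rw [h₁.eq, mul_assoc b a c, ← mul_assoc b b, b2, one_mul]
        rw [this]; exact hb'.mul_right h
      have := core a2 c2 e2 hac h₂ (hE.2 e he a ha) (hE.2 e he c hc) h4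
      exact ⟨this.1, hb', this.2⟩
    exfalso
    have ea : (e * a) ^ 3 = 1 := (hE.2 e he a ha).resolve_left (fun h => ha' (comm_of_sq e2 a2 h))
    have eb : (e * b) ^ 3 = 1 := (hE.2 e he b hb).resolve_left (fun h => hb' (comm_of_sq e2 b2 h))
    have ec : (e * c) ^ 3 = 1 := (hE.2 e he c hc).resolve_left (fun h => hc' (comm_of_sq e2 c2 h))
    have := none_case a2 b2 c2 e2 h₁ h₂ h₃ h ea eb ec
    apply hc'
    apply comm_of_sq e2 c2
    rw [this, one_pow]
  · rintro ⟨h1, h2, h3⟩
    exact (h1.mul_right h2).mul_right h3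

end Cfsg.Agent.S0437
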