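import Cfsg.Statements.S0438
import Mathlib

set_option autoImplicit false
open Cfsg

namespace Cfsg.Agent.S0438

theorem inv_sq {G : Type*} [Group G] {d : G} (h : orderOf d = 2) : d * d = 1 := by
  have := pow_orderOf_eq_one d
  rw [h, pow_two] at this
  exact this

theorem comm_of_sq {G : Type*} [Group G] {d e : G} (hd : d * d = 1) (he : e * e = 1)
    (h : (d * e) ^ 2 = 1) : Commute d e := by
  unfold Commute SemiconjBy
  rw [pow_two] at h
  have hdi : d⁻¹ = d := inv_eq_of_mul_eq_one_left hd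
  have hei : e⁻¹ = e := inv_eq_of_mul_eq_one_left he
  have h3 : (d * e)⁻¹ = d * e := inv_eq_of_mul_eq_one_left h
  rw [mul_inv_rev, hdi, hei] at h3
  exact h3.symm

theorem braid {G : Type*} [Group G] {a e : G} (ha : a * a = 1) (he : e * e = 1)
    (h : (e * a) ^ 3 = 1) : e * a * e = a * e * a := by
  have hai : a⁻¹ = a := inv_eq_of_mul_eq_one_left ha
  have hei : e⁻¹ = e := inv_eq_of_mul_eq_one_left he
  have h1 : (e * a * e) * (a * e * a) = 1 := by
    rw [← h]; simp only [pow_succ, pow_zero, one_mul, mul_assoc]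
  have h2 : (a * e * a)⁻¹ = e * a * e := inv_eq_of_mul_eq_one_left h1
  rw [← h2, mul_inv_rev, mul_inv_rev, hai, hei, mul_assoc]

/-- Let E be a set of 3-transpositions closed under conjugation, and x an involutory automorphism of the group mapping E to itself. If some a in E fails to commute with its image x a, then x fixes an element of E. -/
theorem result {G : Type*} [Group G] {E : Set G} (hE : Cfsg.IsThreeTranspositionSet E) (hconj : ∀ g : G, ∀ d ∈ E, g * d * g⁻¹ ∈ E) (x : G ≃* G) (hx : ∀ g : G, x (x g) = g) (hxE : ∀ d ∈ E, x d ∈ E) {a : G} (ha : a ∈ E) (h : ¬ Commute a (x a)) : ∃ d ∈ E, x d = d := by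
  have hb : x a ∈ E := hxE a ha
  have a2 := inv_sq (hE.1 a ha)
  have b2 := inv_sq (hE.1 (x a) hb)
  have r3 : (a * x a) ^ 3 = 1 := (hE.2 a ha (x a) hb).resolve_left (fun h' => h (comm_of_sq a2 b2 h'))
  have hbr : a * x a * a = x a * a * x a := braid b2 a2 r3
  have hai : a⁻¹ = a := inv_eq_of_mul_eq_one_left a2
  have hbi : (x a)⁻¹ = x a := inv_eq_of_mul_eq_one_left b2
  refine ⟨a * x a * a⁻¹, hconj a (x a) hb, ?_⟩
  rw [map_mul, map_mul, map_inv, hx, hbi, hai, hbr]

end Cfsg.Agent.S0438
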