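import Cfsg.Statements.S0439
import Mathlib

set_option autoImplicit false
open Cfsg

namespace Cfsg.Agent.S0439

open Equiv Equiv.Perm

theorem swap_mul_swap_pow {α : Type*} [DecidableEq α] [Fintype α] {a b c d : α} (hab : a ≠ b) (hcd : c ≠ d) :
    (swap a b * swap c d) ^ 2 = 1 ∨ (swap a b * swap c d) ^ 3 = 1 := by
  -- a shared point case helper
  have three : ∀ {x y z : α}, x ≠ y → x ≠ z → y ≠ z → (swap x y * swap x z) ^ 3 = 1 := by
    intro x y z hxy hxz hyz
    have h := (isThreeCycle_swap_mul_swap_same hxy hxz hyz).orderOf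
    rw [← h]; exact pow_orderOf_eq_one _
  by_cases hac : a = c
  · subst hac
    by_cases hbd : b = d
    · subst hbd
      left; rw [swap_mul_self, one_pow]
    · right; exact three hab hcd hbd
  by_cases had : a = d
  · subst had
    by_cases hbc : b = c
    · subst hbc
      left; rw [swap_comm b a, swap_mul_self, one_pow]
    · right; rw [swap_comm c a]; exact three hab (Ne.symm hcd) hbc
  by_cases hbc : b = c
  · subst hbc
    right; rw [swap_comm a b]; exact three (Ne.symm hab) hcd had
  by_cases hbd : b = d
  · subst hbd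
    right; rw [swap_comm a b, swap_comm c b]; exact three (Ne.symm hab) (Ne.symm hcd) hac
  left
  have hdis : Perm.Disjoint (swap a b) (swap c d) := by
    apply disjoint_swap_swap
    simp only [List.nodup_cons, List.mem_cons, List.not_mem_nil, or_false, not_or, List.nodup_nil,
      and_true, not_false_eq_true]
    exact ⟨⟨hab, hac, had⟩, ⟨hbc, hbd⟩, hcd⟩
  rw [hdis.commute.mul_pow, pow_two, pow_two, swap_mul_self, swap_mul_self, one_mul]

/-- In the symmetric group of degree n ≥ 2, the set of transpositions is a conjugacy class of 3-transpositions which generates the group. -/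
theorem result (n : ℕ) (hn : 2 ≤ n) : Cfsg.IsThreeTranspositionClass {σ : Equiv.Perm (Fin n) | σ.IsSwap} := by
  refine ⟨⟨?_, ?_⟩, ?_, ?_⟩
  · intro d hd
    exact IsSwap.orderOf hd
  · rintro σ ⟨a, b, hab, rfl⟩ τ ⟨c, d, hcd, rfl⟩
    exact swap_mul_swap_pow hab hcd
  · let i0 : Fin n := ⟨0, by omega⟩
    let i1 : Fin n := ⟨1, by omega⟩
    have h01 : i0 ≠ i1 := by
      intro h
      have := congrArg Fin.val h
      simp [i0, i1] at this
    refine ⟨swap i0 i1, ⟨i0, i1, h01, rfl⟩, ?_⟩
    ext σ
    constructor
    · rintro ⟨a, b, hab, rfl⟩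
      exact isConj_swap h01 hab
    · intro h
      have h : IsConj (swap i0 i1) σ := h
      rw [isConj_iff] at h
      obtain ⟨c, hc⟩ := h
      rw [← hc, ← swap_apply_apply]
      exact ⟨c i0, c i1, fun h => h01 (c.injective h), rfl⟩
  · exact closure_isSwap

end Cfsg.Agent.S0439
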