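import Cfsg.Statements.S0440
import Mathlib
import Cfsg.Agent.S0765
import Cfsg.Agent.Lib.Helper15.SympStab
import Cfsg.Agent.Lib.Helper6.Symp

set_option autoImplicit false
open Cfsg

namespace Cfsg.Agent.S0440

open Matrix Cfsg.Agent.Lib.Helper6 Cfsg.Agent.Lib.Helper15

variable {n : ℕ}

theorem zmod2_cases (c : ZMod 2) : c = 0 ∨ c = 1 := by
  revert c; decide

theorem zmod2_add_self (c : ZMod 2) : c + c = 0 := by
  revert c; decide

/-- the transvection as a group element -/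
noncomputable def T (w : Fin n ⊕ Fin n → ZMod 2) : Matrix.symplecticGroup (Fin n) (ZMod 2) :=
  ⟨Cfsg.sympTransvection n w 1, sympTransvection_mem w 1⟩

theorem T_mulVec (w x : Fin n ⊕ Fin n → ZMod 2) :
    (T w).1 *ᵥ x = x + Cfsg.sympForm n (ZMod 2) x w • w := by
  show Cfsg.sympTransvection n w 1 *ᵥ x = _
  rw [sympTransvection_mulVec, one_mul]

theorem eq_T {g : Matrix.symplecticGroup (Fin n) (ZMod 2)} {w : Fin n ⊕ Fin n → ZMod 2}
    (h : ∀ x, g.1 *ᵥ x = x + Cfsg.sympForm n (ZMod 2) x w • w) : g = T w :=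
  Subtype.ext (matrix_ext_mulVec fun x => by rw [h, T_mulVec])

theorem exists_form_ne_zero (w : Fin n ⊕ Fin n → ZMod 2) (hw : w ≠ 0) :
    ∃ y, Cfsg.sympForm n (ZMod 2) y w ≠ 0 := by
  by_contra hcon
  push Not at hcon
  apply hw
  apply stdSymp_nondeg w
  intro y
  rw [stdSymp_apply, sympForm_swap, hcon, neg_zero]

theorem T_zero : T (0 : Fin n ⊕ Fin n → ZMod 2) = 1 := by
  apply Subtype.ext
  apply matrix_ext_mulVec
  intro x
  rw [T_mulVec, smul_zero, add_zero]
  show x = (1 : Matrix _ _ _) *ᵥ x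
  rw [one_mulVec]

theorem T_mul_self (w : Fin n ⊕ Fin n → ZMod 2) : T w * T w = 1 := by
  apply Subtype.ext
  apply matrix_ext_mulVec
  intro x
  show ((T w).1 * (T w).1) *ᵥ x = (1 : Matrix _ _ _) *ᵥ x
  rw [← mulVec_mulVec, T_mulVec, T_mulVec, one_mulVec, sympForm_add_left, sympForm_smul_left,
    sympForm_self, mul_zero, add_zero, add_assoc, ← add_smul, zmod2_add_self, zero_smul, add_zero]

theorem T_inv (w : Fin n ⊕ Fin n → ZMod 2) : (T w)⁻¹ = T w :=
  inv_eq_of_mul_eq_one_right (T_mul_self w)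

theorem T_ne_one (w : Fin n ⊕ Fin n → ZMod 2) (hw : w ≠ 0) : T w ≠ 1 := by
  intro h
  obtain ⟨y, hy⟩ := exists_form_ne_zero w hw
  have h1 : (T w).1 *ᵥ y = y := by
    rw [h]
    show (1 : Matrix _ _ _) *ᵥ y = y
    rw [one_mulVec]
  rw [T_mulVec] at h1
  have h2 : Cfsg.sympForm n (ZMod 2) y w • w = 0 := by
    have := h1
    rwa [add_eq_left] at this
  rcases smul_eq_zero.1 h2 with h3 | h3
  · exact hy h3
  · exact hw h3

theorem orderOf_T (w : Fin n ⊕ Fin n → ZMod 2) (hw : w ≠ 0) : orderOf (T w) = 2 := by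
  apply orderOf_eq_prime
  · rw [pow_two, T_mul_self]
  · exact T_ne_one w hw

theorem conj_T (g : Matrix.symplecticGroup (Fin n) (ZMod 2)) (w : Fin n ⊕ Fin n → ZMod 2) :
    g * T w * g⁻¹ = T (g.1 *ᵥ w) := by
  rw [mul_inv_eq_iff_eq_mul]
  have hpres := (mem_symplecticGroup_iff_preserves g.1).1 g.2
  apply Subtype.ext
  apply matrix_ext_mulVec
  intro x
  show (g.1 * (T w).1) *ᵥ x = ((T (g.1 *ᵥ w)).1 * g.1) *ᵥ x
  rw [← mulVec_mulVec, ← mulVec_mulVec, T_mulVec, T_mulVec, mulVec_add, mulVec_smul, hpres]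

theorem rank_T (w : Fin n ⊕ Fin n → ZMod 2) (hw : w ≠ 0) :
    (((T w : Matrix.symplecticGroup (Fin n) (ZMod 2)) : Matrix (Fin n ⊕ Fin n) (Fin n ⊕ Fin n) (ZMod 2)) - 1).rank = 1 := by
  apply le_antisymm
  · have : ((T w : Matrix.symplecticGroup (Fin n) (ZMod 2)) : Matrix (Fin n ⊕ Fin n) (Fin n ⊕ Fin n) (ZMod 2)) - 1
        = Matrix.vecMulVec w (Matrix.J (Fin n) (ZMod 2) *ᵥ w) := by
      show Cfsg.sympTransvection n w 1 - 1 = _
      unfold Cfsg.sympTransvection
      rw [one_smul, add_sub_cancel_left]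
    rw [this]
    exact Matrix.rank_vecMulVec_le _ _
  · rw [Nat.one_le_iff_ne_zero]
    intro h0
    rw [Matrix.rank, Submodule.finrank_eq_zero, LinearMap.range_eq_bot] at h0
    obtain ⟨y, hy⟩ := exists_form_ne_zero w hw
    have h1 : ((T w).1 - 1) *ᵥ y = 0 := by
      have := congrArg (fun f => f y) h0
      exact this
    rw [sub_mulVec, one_mulVec, T_mulVec, add_sub_cancel_left] at h1
    rcases smul_eq_zero.1 h1 with h3 | h3
    · exact hy h3
    · exact hw h3

theorem mem_D_iff (g : Matrix.symplecticGroup (Fin n) (ZMod 2)) :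
    ((g : Matrix (Fin n ⊕ Fin n) (Fin n ⊕ Fin n) (ZMod 2)) - 1).rank = 1 ↔ ∃ w, w ≠ 0 ∧ g = T w := by
  constructor
  · intro h
    obtain ⟨w, hw, hgw⟩ := exists_transv_vec g h
    exact ⟨w, hw, eq_T hgw⟩
  · rintro ⟨w, hw, rfl⟩
    exact rank_T w hw

theorem T_comm_of_form_zero (u v : Fin n ⊕ Fin n → ZMod 2) (h : Cfsg.sympForm n (ZMod 2) u v = 0) :
    T u * T v = T v * T u := by
  have h' : Cfsg.sympForm n (ZMod 2) v u = 0 := by rw [sympForm_swap, h, neg_zero]
  apply Subtype.ext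
  apply matrix_ext_mulVec
  intro x
  show ((T u).1 * (T v).1) *ᵥ x = ((T v).1 * (T u).1) *ᵥ x
  rw [← mulVec_mulVec, ← mulVec_mulVec, T_mulVec, T_mulVec, T_mulVec, T_mulVec]
  simp only [sympForm_add_left, sympForm_smul_left, h, h', mul_zero, add_zero]
  abel

theorem T_cube (u v : Fin n ⊕ Fin n → ZMod 2) (h : Cfsg.sympForm n (ZMod 2) u v = 1) :
    (T u * T v) ^ 3 = 1 := by
  have h' : Cfsg.sympForm n (ZMod 2) v u = 1 := by
    rw [sympForm_swap, h]; decide
  have h1 : T u * T v * T u = T (u + v) := by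
    have := conj_T (T u) v
    rw [T_inv, T_mulVec, h', one_smul, add_comm] at this
    exact this
  have h2 : T v * T u * T v = T (u + v) := by
    have := conj_T (T v) u
    rw [T_inv, T_mulVec, h, one_smul] at this
    exact this
  calc (T u * T v) ^ 3 = (T u * T v * T u) * (T v * T u * T v) := by
        rw [pow_succ, pow_two]; simp only [mul_assoc]
    _ = 1 := by rw [h1, h2, T_mul_self]

theorem result (n : ℕ) (hn : 1 ≤ n) : Cfsg.IsThreeTranspositionClass {g : Matrix.symplecticGroup (Fin n) (ZMod 2) | ((g : Matrix (Fin n ⊕ Fin n) (Fin n ⊕ Fin n) (ZMod 2)) - 1).rank = 1} := by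
  refine ⟨⟨?_, ?_⟩, ?_, ?_⟩
  · intro d hd
    obtain ⟨w, hw, rfl⟩ := (mem_D_iff d).1 hd
    exact orderOf_T w hw
  · intro d hd e he
    obtain ⟨u, hu, rfl⟩ := (mem_D_iff d).1 hd
    obtain ⟨v, hv, rfl⟩ := (mem_D_iff e).1 he
    rcases zmod2_cases (Cfsg.sympForm n (ZMod 2) u v) with h | h
    · left
      rw [pow_two]
      calc T u * T v * (T u * T v) = T u * T v * (T v * T u) := by rw [T_comm_of_form_zero u v h]
        _ = T u * (T v * T v) * T u := by simp only [mul_assoc]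
        _ = 1 := by rw [T_mul_self, mul_one, T_mul_self]
    · right
      exact T_cube u v h
  · set e : Fin n ⊕ Fin n → ZMod 2 := Pi.single (Sum.inr ⟨0, hn⟩) 1 with he
    have he0 : e ≠ 0 := by
      intro h
      have := congrFun h (Sum.inr ⟨0, hn⟩)
      rw [he, Pi.single_eq_same] at this
      exact one_ne_zero this
    refine ⟨T e, rank_T e he0, ?_⟩
    ext g
    show _ ↔ IsConj (T e) g
    rw [isConj_iff]
    constructor
    · intro hg
      obtain ⟨w, hw, rfl⟩ := (mem_D_iff g).1 hg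
      obtain ⟨A, hA⟩ := exists_symp_map hn w hw
      refine ⟨A, ?_⟩
      rw [conj_T]
      congr 1
    · rintro ⟨c, rfl⟩
      rw [conj_T]
      apply rank_T
      intro h0
      apply he0
      have : (c⁻¹).1 *ᵥ (c.1 *ᵥ e) = (c⁻¹).1 *ᵥ 0 := by rw [h0]
      rw [mulVec_mulVec, mulVec_zero] at this
      have h1 : (c⁻¹).1 * c.1 = 1 := congrArg Subtype.val (inv_mul_cancel c)
      rwa [h1, one_mulVec] at this
  · rw [eq_top_iff, ← Cfsg.Agent.S0765.result (F := ZMod 2) n, Subgroup.closure_le]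
    rintro A ⟨w, c, hA⟩
    rcases zmod2_cases c with rfl | rfl
    · have : A = 1 := by
        apply Subtype.ext
        rw [hA]
        unfold Cfsg.sympTransvection
        rw [zero_smul, add_zero]
        rfl
      rw [this]
      exact Subgroup.one_mem _
    · have hAT : A = T w := Subtype.ext hA
      by_cases hw : w = 0
      · rw [hAT, hw, T_zero]
        exact Subgroup.one_mem _
      · apply Subgroup.subset_closure
        rw [hAT]
        exact rank_T w hw

end Cfsg.Agent.S0440
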