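import Cfsg.Statements.S0441
import Cfsg.Agent.Lib.Helper25.TTRankC

set_option autoImplicit false
open Cfsg

namespace Cfsg.Agent.S0441

open Cfsg.Agent.Lib.Helper25.TTRank Cfsg.Agent.Lib.Helper25.TTFischer Cfsg.Agent.Lib.Helper27.TT

/-- The hypotheses of the statement give the standing hypotheses `FW`. -/
theorem fw_of_simple {G : Type*} [Group G] [Finite G] {D : Set G}
    (hD : Cfsg.IsThreeTranspositionClass D) (hsimple : IsSimpleGroup (commutator G))
    (hnonab : ∃ x y : commutator G, x * y ≠ y * x) : FW D := by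
  haveI := hsimple
  have hnsol' : ¬ Group.IsSolvable (commutator G) := by
    intro hs
    obtain ⟨x, y, hxy⟩ := hnonab
    exact hxy (IsSimpleGroup.comm_iff_isSolvable.mpr hs x y)
  refine ⟨?_, ?_, hD, ?_⟩
  · intro N hN hNs
    haveI := hN
    have hKn : (N.subgroupOf (commutator G)).Normal := inferInstance
    rcases hKn.eq_bot_or_eq_top with hK | hK
    · intro n hn
      rw [Subgroup.mem_center_iff]
      intro g
      have h1 : n * g * n⁻¹ * g⁻¹ ∈ N := by
        have : n * g * n⁻¹ * g⁻¹ = n * (g * n⁻¹ * g⁻¹) := by group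
        rw [this]
        exact N.mul_mem hn (hN.conj_mem _ (N.inv_mem hn) g)
      have h2 : n * g * n⁻¹ * g⁻¹ ∈ commutator G := by
        rw [commutator_def]
        exact Subgroup.commutator_mem_commutator (Subgroup.mem_top n) (Subgroup.mem_top g)
      have h3 : (⟨n * g * n⁻¹ * g⁻¹, h2⟩ : commutator G) ∈ N.subgroupOf (commutator G) := by
        rw [Subgroup.mem_subgroupOf]
        exact h1
      rw [hK, Subgroup.mem_bot] at h3
      have h4 : n * g * n⁻¹ * g⁻¹ = 1 := congrArg Subtype.val h3
      have : n * g = g * n := by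
        calc n * g = (n * g * n⁻¹ * g⁻¹) * (g * n) := by group
          _ = g * n := by rw [h4, one_mul]
      exact this.symm
    · exfalso
      apply hnsol'
      have hle : commutator G ≤ N := by
        rw [Subgroup.subgroupOf_eq_top] at hK
        exact hK
      haveI := hNs
      exact Group.isSolvable_of_isSolvable_injective (f := Subgroup.inclusion hle)
        (Subgroup.inclusion_injective hle)
  · have hn : (commutator (commutator G)).Normal := inferInstance
    rcases hn.eq_bot_or_eq_top with hK | hK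
    · exfalso
      obtain ⟨x, y, hxy⟩ := hnonab
      apply hxy
      have hm : x * y * x⁻¹ * y⁻¹ ∈ commutator (commutator G) := by
        show x * y * x⁻¹ * y⁻¹ ∈ ⁅(⊤ : Subgroup ↥(commutator G)), ⊤⁆
        exact Subgroup.commutator_mem_commutator (Subgroup.mem_top x) (Subgroup.mem_top y)
      rw [hK, Subgroup.mem_bot] at hm
      calc x * y = (x * y * x⁻¹ * y⁻¹) * (y * x) := by group
        _ = y * x := by rw [hm, one_mul]
    · rw [← Subgroup.map_subtype_commutator, hK, ← MonoidHom.range_eq_map, Subgroup.range_subtype]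
  · intro hs
    apply hnsol'
    haveI := hs
    exact Group.isSolvable_of_isSolvable_injective (f := (commutator G).subtype)
      (Subgroup.subtype_injective _)

/-- Fischer's rank-three property. Let a finite group be generated by a conjugacy class D of 3-transpositions, with non-abelian simple commutator subgroup. Then for a in D there are members of D other than a commuting with a and members not commuting with a, and the centraliser of a acts transitively on each of these two sets. -/
theorem result {G : Type*} [Group G] [Finite G] {D : Set G} (hD : Cfsg.IsThreeTranspositionClass D) (hsimple : IsSimpleGroup (commutator G)) (hnonab : ∃ x y : commutator G, x * y ≠ y * x) {a : G} (ha : a ∈ D) : (∃ b ∈ D, b ≠ a ∧ Commute a b) ∧ (∃ c ∈ D, ¬ Commute a c) ∧ (∀ b ∈ D, ∀ b' ∈ D, b ≠ a → b' ≠ a → Commute a b → Commute a b' → ∃ g : G, Commute g a ∧ g * b * g⁻¹ = b') ∧ (∀ c ∈ D, ∀ c' ∈ D, ¬ Commute a c → ¬ Commute a c' → ∃ g : G, Commute g a ∧ g * c * g⁻¹ = c') := by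
  have hw := fw_of_simple hD hsimple hnonab
  have fi := hw.toFI
  have h1 : ∃ b ∈ D, b ≠ a ∧ Commute a b := by
    obtain ⟨a0, ha0, b0, hb0, hab, hcomm⟩ := fi.hcomm
    obtain ⟨g, hg⟩ := class_trans hD a0 ha0 a ha
    refine ⟨g * b0 * g⁻¹, fi.conj_mem g hb0, ?_, ?_⟩
    · rw [← hg]
      intro h1
      exact hab (conj_inj g h1).symm
    · rw [← hg]
      exact (Commute.conj_iff g).mpr hcomm
  refine ⟨h1, ?_, ?_, ?_⟩
  · obtain ⟨b, hb, hba, hab⟩ := h1
    by_contra hcon
    push Not at hcon
    exact hba (fi.hperp b hb a ha (fun y hy _ => hcon y hy))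
  · intro b hb b' hb' hba hb'a hab hab'
    obtain ⟨g, hg, hgb⟩ := fi.trans ha b ⟨hb, hba, hab⟩ b' ⟨hb', hb'a, hab'⟩
    exact ⟨g, commute_of_mem_X hg, hgb⟩
  · intro c hc c' hc' hac hac'
    exact rel_of_mem_Aset fi ha c ⟨hc, hac⟩ c' ⟨hc', hac'⟩

end Cfsg.Agent.S0441
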