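import Cfsg.Statements.S0442
import Mathlib

set_option autoImplicit false
open Cfsg

namespace Cfsg.Agent.S0442

/-- A standard trick for producing elements of an involution centraliser: for an involution a and an element g, let b be the conjugate g⁻¹ * a * g. If a * b has odd order 2m + 1 then g * (a * b) ^ m commutes with a; if a * b has even order 2m then (a * b) ^ m and (a * (g * a * g⁻¹)) ^ m commute with a. -/
theorem result {G : Type*} [Group G] (a g : G) (ha : orderOf a = 2) : (∀ m : ℕ, orderOf (a * (g⁻¹ * a * g)) = 2 * m + 1 → Commute (g * (a * (g⁻¹ * a * g)) ^ m) a) ∧ (∀ m : ℕ, orderOf (a * (g⁻¹ * a * g)) = 2 * m → Commute ((a * (g⁻¹ * a * g)) ^ m) a ∧ Commute ((a * (g * a * g⁻¹)) ^ m) a) := by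
  have ha2 : a * a = 1 := by
    have := pow_orderOf_eq_one a
    rw [ha, pow_two] at this
    exact this
  have hainv : a⁻¹ = a := inv_eq_of_mul_eq_one_left ha2
  -- general fact: if b * b = 1 then a * (a*b)^k * a = (b * a)^k
  have key : ∀ (b : G), b * b = 1 → ∀ k : ℕ, a * (a * b) ^ k * a = (b * a) ^ k := by
    intro b hb k
    induction k with
    | zero => simp [ha2]
    | succ k ih =>
      rw [pow_succ, pow_succ, ← ih]
      have h2 : a * (a * b) * a = b * a := by
        calc a * (a * b) * a = (a * a) * b * a := by group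
          _ = b * a := by rw [ha2, one_mul]
      calc a * ((a * b) ^ k * (a * b)) * a = a * (a * b) ^ k * 1 * (a * b) * a := by group
        _ = a * (a * b) ^ k * (a * a) * (a * b) * a := by rw [ha2]
        _ = (a * (a * b) ^ k * a) * (a * (a * b) * a) := by group
        _ = (a * (a * b) ^ k * a) * (b * a) := by rw [h2]
  have inv_ab : ∀ (b : G), b * b = 1 → (a * b)⁻¹ = b * a := by
    intro b hb
    apply inv_eq_of_mul_eq_one_right
    calc a * b * (b * a) = a * (b * b) * a := by group
      _ = 1 := by rw [hb, mul_one, ha2]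
  have hb1 : (g⁻¹ * a * g) * (g⁻¹ * a * g) = 1 := by
    calc (g⁻¹ * a * g) * (g⁻¹ * a * g) = g⁻¹ * (a * a) * g := by group
      _ = 1 := by rw [ha2]; group
  have hb2 : (g * a * g⁻¹) * (g * a * g⁻¹) = 1 := by
    calc (g * a * g⁻¹) * (g * a * g⁻¹) = g * (a * a) * g⁻¹ := by group
      _ = 1 := by rw [ha2]; group
  -- a conjugates c = a*b to c⁻¹; so if c^(2m) = 1 then c^m commutes with a
  have even_case : ∀ (b : G), b * b = 1 → ∀ m : ℕ, (a * b) ^ (2 * m) = 1 → Commute ((a * b) ^ m) a := by
    intro b hb m hm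
    have hkey := key b hb m
    rw [← inv_ab b hb] at hkey
    have h2 : ((a * b)⁻¹) ^ m = (a * b) ^ m := by
      rw [inv_pow]
      apply inv_eq_of_mul_eq_one_left
      rw [← pow_add, ← two_mul, hm]
    rw [h2] at hkey
    unfold Commute SemiconjBy
    calc (a * b) ^ m * a = (a * a) * (a * b) ^ m * a := by rw [ha2, one_mul]
      _ = a * (a * (a * b) ^ m * a) := by group
      _ = a * (a * b) ^ m := by rw [hkey]
  refine ⟨?_, ?_⟩
  · intro m hm
    have hcm : (a * (g⁻¹ * a * g)) ^ (2 * m + 1) = 1 := by rw [← hm]; exact pow_orderOf_eq_one _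
    have hkey := key _ hb1 m
    rw [← inv_ab _ hb1] at hkey
    have h1 : (a * (g⁻¹ * a * g)) ^ m * a = a * ((a * (g⁻¹ * a * g))⁻¹) ^ m := by
      rw [← hkey]
      calc (a * (g⁻¹ * a * g)) ^ m * a = (a * a) * (a * (g⁻¹ * a * g)) ^ m * a := by rw [ha2, one_mul]
        _ = a * (a * (a * (g⁻¹ * a * g)) ^ m * a) := by group
    have h2 : ((a * (g⁻¹ * a * g))⁻¹) ^ m = (a * (g⁻¹ * a * g)) ^ (m + 1) := by
      rw [inv_pow]
      apply inv_eq_of_mul_eq_one_left
      rw [← pow_add]
      have : m + 1 + m = 2 * m + 1 := by ring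
      rw [this, hcm]
    have h3 : g * a * (a * (g⁻¹ * a * g)) = a * g := by
      calc g * a * (a * (g⁻¹ * a * g)) = g * (a * a) * g⁻¹ * a * g := by group
        _ = a * g := by rw [ha2]; group
    unfold Commute SemiconjBy
    rw [mul_assoc, h1, h2, pow_succ', ← mul_assoc, ← mul_assoc, h3, mul_assoc]
  · intro m hm
    refine ⟨even_case _ hb1 m ?_, even_case _ hb2 m ?_⟩
    · rw [← hm]; exact pow_orderOf_eq_one _
    · -- a * (g a g⁻¹) is conjugate to (a * (g⁻¹ a g))⁻¹
      have hconj : a * (g * a * g⁻¹) = g * (a * (g⁻¹ * a * g))⁻¹ * g⁻¹ := by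
        rw [inv_ab _ hb1]; group
      rw [hconj, conj_pow, inv_pow]
      have : (a * (g⁻¹ * a * g)) ^ (2 * m) = 1 := by rw [← hm]; exact pow_orderOf_eq_one _
      rw [this]; group

end Cfsg.Agent.S0442
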