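import Cfsg.Statements.S0443
import Mathlib

set_option autoImplicit false
open Cfsg

namespace Cfsg.Agent.S0443

/-- Two definitions of a 2-central involution agree: an element t of order 2 of a finite group lies in the centre of some Sylow 2-subgroup if and only if its centraliser contains some Sylow 2-subgroup. -/
theorem result {G : Type*} [Group G] [Finite G] (t : G) (ht : orderOf t = 2) : Cfsg.IsTwoCentralInvolution t ↔ ∃ P : Sylow 2 G, (P : Subgroup G) ≤ Subgroup.centralizer ({t} : Set G) := by
  constructor
  · rintro ⟨_, P, htP, hP⟩
    refine ⟨P, fun x hx => ?_⟩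
    rw [Subgroup.mem_centralizer_iff]
    intro h hh
    rw [Set.mem_singleton_iff] at hh
    subst hh
    exact (hP x hx).symm
  · rintro ⟨P, hP⟩
    refine ⟨ht, P, ?_, ?_⟩
    · -- t ∈ P by maximality
      have hz : IsPGroup 2 (Subgroup.zpowers t) := by
        rw [IsPGroup.iff_card, Nat.card_zpowers, ht]
        exact ⟨1, by norm_num⟩
      have hnorm : Subgroup.zpowers t ≤ Subgroup.normalizer ((P : Subgroup G) : Set G) := by
        rw [Subgroup.zpowers_le]
        rw [Subgroup.mem_normalizer_iff]
        intro h
        have key : ∀ x ∈ (P : Subgroup G), t * x * t⁻¹ = x := by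
          intro x hx
          have := hP hx
          rw [Subgroup.mem_centralizer_iff] at this
          have h2 := this t (Set.mem_singleton t)
          rw [h2, mul_assoc, mul_inv_cancel, mul_one]
        constructor
        · intro hh
          rw [key h hh]; exact hh
        · intro hh
          have h3 : t⁻¹ * (t * h * t⁻¹) * t ∈ (P : Subgroup G) := by
            have h4 := key _ hh
            -- t * (t h t⁻¹) t⁻¹ = t h t⁻¹, so t h t⁻¹ = h after cancel
            have h5 : t * h * t⁻¹ = h := by
              have : t * (t * h * t⁻¹) * t⁻¹ = t * h * t⁻¹ := h4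
              have h6 : t⁻¹ * (t * (t * h * t⁻¹) * t⁻¹) * t = t⁻¹ * (t * h * t⁻¹) * t := by rw [this]
              have h7 : t⁻¹ * (t * (t * h * t⁻¹) * t⁻¹) * t = t * h * t⁻¹ := by group
              have h8 : t⁻¹ * (t * h * t⁻¹) * t = h := by group
              rw [h7, h8] at h6
              exact h6
            rw [h5] at hh ⊢
            have h8 : t⁻¹ * h * t = h := by
              have : t⁻¹ * (t * h * t⁻¹) * t = h := by group
              rw [h5] at this
              exact this
            rw [h8]; exact hh
          have h8 : t⁻¹ * (t * h * t⁻¹) * t = h := by group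
          rw [h8] at h3
          exact h3
      have hsup : IsPGroup 2 ((P : Subgroup G) ⊔ Subgroup.zpowers t : Subgroup G) :=
        IsPGroup.to_sup_of_normal_left' P.isPGroup' hz hnorm
      have := P.is_maximal' hsup le_sup_left
      have h2 : Subgroup.zpowers t ≤ (P : Subgroup G) := by
        rw [← this]; exact le_sup_right
      exact h2 (Subgroup.mem_zpowers t)
    · intro x hx
      have := hP hx
      rw [Subgroup.mem_centralizer_iff] at this
      exact (this t (Set.mem_singleton t)).symm

end Cfsg.Agent.S0443
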