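import Mathlib
import Cfsg.Statements.S0445

set_option autoImplicit false
open Cfsg

namespace Cfsg.Agent.S0445

open Matrix

/-- Laplace expansion for a matrix whose column 0 and row 1 are multiples of basis vectors -/
theorem det_eq {R : Type*} [CommRing R] (g : Matrix (Fin 5) (Fin 5) R)
    (h0 : ∀ i : Fin 4, g i.succ 0 = 0) (h1 : ∀ j : Fin 3, g 1 j.succ.succ = 0) :
    det g = g 0 0 * g 1 1 *
      det (g.submatrix (fun i : Fin 3 => i.succ.succ) (fun j : Fin 3 => j.succ.succ)) := by
  rw [det_succ_column_zero, Fin.sum_univ_succ]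
  have hz : ∀ i : Fin 4, (-1 : R) ^ ((i.succ : Fin 5) : ℕ) * g i.succ 0 *
      det (g.submatrix i.succ.succAbove Fin.succ) = 0 := by
    intro i; rw [h0 i]; ring
  rw [Finset.sum_eq_zero (fun i _ => hz i), add_zero, Fin.succAbove_zero]
  set B : Matrix (Fin 4) (Fin 4) R := g.submatrix Fin.succ Fin.succ with hB
  rw [det_succ_row_zero B, Fin.sum_univ_succ]
  have hz2 : ∀ j : Fin 3, (-1 : R) ^ ((j.succ : Fin 4) : ℕ) * B 0 j.succ *
      det (B.submatrix Fin.succ j.succ.succAbove) = 0 := by
    intro j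
    have : B 0 j.succ = 0 := h1 j
    rw [this]; ring
  rw [Finset.sum_eq_zero (fun j _ => hz2 j), add_zero, Fin.succAbove_zero]
  have hB00 : B 0 0 = g 1 1 := rfl
  have hsub : B.submatrix Fin.succ Fin.succ =
      g.submatrix (fun i : Fin 3 => i.succ.succ) (fun j : Fin 3 => j.succ.succ) := rfl
  rw [hB00, hsub]
  simp only [Fin.val_zero, pow_zero, one_mul]
  ring

theorem zmod2_mul {x y z : ZMod 2} (h : x * y * z = 1) : x = 1 ∧ y = 1 ∧ z = 1 := by
  revert x y z; decide

theorem card_SL3 : Nat.card {M : Matrix (Fin 3) (Fin 3) (ZMod 2) // M.det = 1} = 168 := by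
  rw [Nat.card_eq_fintype_card]
  simp only [Matrix.det_fin_three]
  decide +kernel


/-- the matrix with first row `(1, a)`, second row `(0,1,0,0,0)` and remaining rows
`(0, b i, M i)` -/
def build (a : Fin 4 → ZMod 2) (b : Fin 3 → ZMod 2) (M : Matrix (Fin 3) (Fin 3) (ZMod 2)) :
    Matrix (Fin 5) (Fin 5) (ZMod 2) :=
  Matrix.of (vecCons (vecCons 1 a) (vecCons (vecCons 0 (vecCons 1 (fun _ : Fin 3 => 0)))
    (fun i => vecCons 0 (vecCons (b i) (M i)))))

theorem build_00 (a b M) : build a b M 0 0 = 1 := rfl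
theorem build_0s (a b M) (j : Fin 4) : build a b M 0 j.succ = a j := rfl
theorem build_10 (a b M) : build a b M 1 0 = 0 := rfl
theorem build_11 (a b M) : build a b M 1 1 = 1 := rfl
theorem build_1ss (a b M) (j : Fin 3) : build a b M 1 j.succ.succ = 0 := rfl
theorem build_ss0 (a b M) (i : Fin 3) : build a b M i.succ.succ 0 = 0 := rfl
theorem build_ss1 (a b M) (i : Fin 3) : build a b M i.succ.succ 1 = b i := rfl
theorem build_ssss (a b M) (i j : Fin 3) : build a b M i.succ.succ j.succ.succ = M i j := rfl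

/-- the commutation condition, entrywise -/
theorem comm_iff {R : Type*} [CommRing R] (g : Matrix (Fin 5) (Fin 5) R) :
    g * transvection 0 1 1 = transvection 0 1 1 * g ↔
      (∀ i : Fin 4, g i.succ 0 = 0) ∧ g 1 0 = 0 ∧ (∀ j : Fin 3, g 1 j.succ.succ = 0) ∧
        g 0 0 = g 1 1 := by
  have hL : ∀ i j, (g * Matrix.single (0 : Fin 5) (1 : Fin 5) (1 : R)) i j =
      if j = 1 then g i 0 else 0 := by
    intro i j
    by_cases hj : j = 1
    · subst hj; simp
    · rw [Matrix.mul_single_apply_of_ne _ _ _ _ _ hj, if_neg hj]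
  have hR : ∀ i j, (Matrix.single (0 : Fin 5) (1 : Fin 5) (1 : R) * g) i j =
      if i = 0 then g 1 j else 0 := by
    intro i j
    by_cases hi : i = 0
    · subst hi; simp
    · rw [Matrix.single_mul_apply_of_ne _ _ _ _ _ hi, if_neg hi]
  unfold transvection
  rw [mul_add, add_mul, mul_one, one_mul, add_right_inj]
  constructor
  · intro h
    have key : ∀ i j, (if j = 1 then g i 0 else 0) = if i = 0 then g 1 j else 0 := by
      intro i j
      rw [← hL, ← hR, h]
    refine ⟨fun i => ?_, ?_, fun j => ?_, ?_⟩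
    · have := key i.succ 1
      rw [if_pos rfl, if_neg (Fin.succ_ne_zero i)] at this
      exact this
    · have := key 1 1
      rw [if_pos rfl, if_neg (by decide)] at this
      exact this
    · have := key 0 j.succ.succ
      rw [if_neg (by
        intro h
        have := congrArg Fin.val h
        simp at this), if_pos rfl] at this
      exact this.symm
    · have := key 0 1
      rw [if_pos rfl, if_pos rfl] at this
      exact this
  · rintro ⟨h0, h10, h1, h00⟩
    ext i j
    rw [hL, hR]
    by_cases hj : j = 1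
    · subst hj
      rw [if_pos rfl]
      by_cases hi : i = 0
      · subst hi; rw [if_pos rfl]; exact h00
      · rw [if_neg hi]
        obtain ⟨i', rfl⟩ := Fin.exists_succ_eq.mpr hi
        exact h0 i'
    · rw [if_neg hj]
      by_cases hi : i = 0
      · subst hi
        rw [if_pos rfl]
        -- `j = 0` or `j ≥ 2`
        by_cases hj0 : j = 0
        · subst hj0; exact h10.symm
        · obtain ⟨j', rfl⟩ := Fin.exists_succ_eq.mpr hj0
          have hj'0 : j' ≠ 0 := by
            intro h; apply hj; rw [h]; rfl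
          obtain ⟨j'', rfl⟩ := Fin.exists_succ_eq.mpr hj'0
          exact (h1 j'').symm
      · rw [if_neg hi]


theorem build_comm (a : Fin 4 → ZMod 2) (b : Fin 3 → ZMod 2) (M : Matrix (Fin 3) (Fin 3) (ZMod 2)) :
    build a b M * transvection 0 1 1 = transvection 0 1 1 * build a b M := by
  rw [comm_iff]
  refine ⟨fun i => ?_, build_10 a b M, fun j => build_1ss a b M j, ?_⟩
  · refine Fin.cases ?_ (fun i => ?_) i
    · exact build_10 a b M
    · exact build_ss0 a b M i
  · rw [build_00, build_11]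

theorem build_det (a : Fin 4 → ZMod 2) (b : Fin 3 → ZMod 2) (M : Matrix (Fin 3) (Fin 3) (ZMod 2)) :
    (build a b M).det = M.det := by
  rw [det_eq (build a b M)]
  · rw [build_00, build_11, one_mul, one_mul]
    rfl
  · intro i
    refine Fin.cases ?_ (fun i => ?_) i
    · exact build_10 a b M
    · exact build_ss0 a b M i
  · exact fun j => build_1ss a b M j

/-- In the special linear group of dimension 5 over the field with two elements, the centraliser of a transvection has order 21504 = 2 ^ 7 · 168 (it is an extension of an extraspecial group of order 2 ^ 7 by the simple group of order 168). -/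
theorem result (s : Matrix.SpecialLinearGroup (Fin 5) (ZMod 2)) (hs : (s : Matrix (Fin 5) (Fin 5) (ZMod 2)) = Matrix.transvection 0 1 1) : Nat.card (Subgroup.centralizer ({s} : Set (Matrix.SpecialLinearGroup (Fin 5) (ZMod 2)))) = 21504 := by
  have hmem : ∀ g : Matrix.SpecialLinearGroup (Fin 5) (ZMod 2),
      g ∈ Subgroup.centralizer ({s} : Set (Matrix.SpecialLinearGroup (Fin 5) (ZMod 2))) ↔
        (g : Matrix (Fin 5) (Fin 5) (ZMod 2)) * transvection 0 1 1 =
          transvection 0 1 1 * (g : Matrix (Fin 5) (Fin 5) (ZMod 2)) := by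
    intro g
    rw [Subgroup.mem_centralizer_iff]
    constructor
    · intro h
      have h2 : ((s * g : Matrix.SpecialLinearGroup (Fin 5) (ZMod 2)) :
          Matrix (Fin 5) (Fin 5) (ZMod 2)) =
          ((g * s : Matrix.SpecialLinearGroup (Fin 5) (ZMod 2)) :
            Matrix (Fin 5) (Fin 5) (ZMod 2)) := by rw [h s rfl]
      have h3 : (s : Matrix (Fin 5) (Fin 5) (ZMod 2)) * (g : Matrix (Fin 5) (Fin 5) (ZMod 2)) =
          (g : Matrix (Fin 5) (Fin 5) (ZMod 2)) * (s : Matrix (Fin 5) (Fin 5) (ZMod 2)) := h2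
      rw [hs] at h3
      exact h3.symm
    · intro h x hx
      rw [Set.mem_singleton_iff] at hx; subst hx
      have h2 : ((x * g : Matrix.SpecialLinearGroup (Fin 5) (ZMod 2)) :
          Matrix (Fin 5) (Fin 5) (ZMod 2)) =
          ((g * x : Matrix.SpecialLinearGroup (Fin 5) (ZMod 2)) :
            Matrix (Fin 5) (Fin 5) (ZMod 2)) := by
        show (x : Matrix (Fin 5) (Fin 5) (ZMod 2)) * (g : Matrix (Fin 5) (Fin 5) (ZMod 2)) =
          (g : Matrix (Fin 5) (Fin 5) (ZMod 2)) * (x : Matrix (Fin 5) (Fin 5) (ZMod 2))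
        rw [hs]
        exact h.symm
      exact Subtype.ext h2
  -- facts about a member of the centraliser
  have hfacts : ∀ g : Matrix.SpecialLinearGroup (Fin 5) (ZMod 2),
      g ∈ Subgroup.centralizer ({s} : Set (Matrix.SpecialLinearGroup (Fin 5) (ZMod 2))) →
      (∀ i : Fin 4, g.1 i.succ 0 = 0) ∧ g.1 1 0 = 0 ∧ (∀ j : Fin 3, g.1 1 j.succ.succ = 0) ∧
        g.1 0 0 = 1 ∧ g.1 1 1 = 1 ∧
        (g.1.submatrix (fun i : Fin 3 => i.succ.succ) (fun j : Fin 3 => j.succ.succ)).det = 1 := by
    intro g hg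
    obtain ⟨h0, h10, h1, h00⟩ := (comm_iff g.1).mp ((hmem g).mp hg)
    have hdet := det_eq g.1 h0 h1
    rw [g.2] at hdet
    obtain ⟨e1, e2, e3⟩ := zmod2_mul hdet.symm
    exact ⟨h0, h10, h1, e1, e2, e3⟩
  have hleft : ∀ g : Matrix.SpecialLinearGroup (Fin 5) (ZMod 2),
      g ∈ Subgroup.centralizer ({s} : Set (Matrix.SpecialLinearGroup (Fin 5) (ZMod 2))) →
      build (fun j => g.1 0 j.succ) (fun i => g.1 i.succ.succ 1)
        (g.1.submatrix (fun i : Fin 3 => i.succ.succ) (fun j : Fin 3 => j.succ.succ)) = g.1 := by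
    intro g hg
    obtain ⟨h0, h10, h1, g00, g11, _⟩ := hfacts g hg
    ext i j
    refine Fin.cases ?_ (fun i => Fin.cases ?_ (fun i => ?_) i) i
    · refine Fin.cases ?_ (fun j => ?_) j
      · rw [build_00]; exact g00.symm
      · rw [build_0s]
    · refine Fin.cases ?_ (fun j => Fin.cases ?_ (fun j => ?_) j) j
      · exact (build_10 _ _ _).trans h10.symm
      · exact (build_11 _ _ _).trans g11.symm
      · exact (build_1ss _ _ _ j).trans (h1 j).symm
    · refine Fin.cases ?_ (fun j => Fin.cases ?_ (fun j => ?_) j) j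
      · exact (build_ss0 _ _ _ i).trans (h0 i.succ).symm
      · exact (build_ss1 _ _ _ i)
      · exact (build_ssss _ _ _ i j)
  let e : Subgroup.centralizer ({s} : Set (Matrix.SpecialLinearGroup (Fin 5) (ZMod 2))) ≃
      (Fin 4 → ZMod 2) × (Fin 3 → ZMod 2) ×
        {M : Matrix (Fin 3) (Fin 3) (ZMod 2) // M.det = 1} :=
    { toFun := fun g => (fun j => g.1.1 0 j.succ, fun i => g.1.1 i.succ.succ 1,
        ⟨g.1.1.submatrix (fun i : Fin 3 => i.succ.succ) (fun j : Fin 3 => j.succ.succ),
          (hfacts g.1 g.2).2.2.2.2.2⟩)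
      invFun := fun x => ⟨⟨build x.1 x.2.1 x.2.2.1, by rw [build_det]; exact x.2.2.2⟩,
        (hmem _).mpr (build_comm _ _ _)⟩
      left_inv := by
        intro g
        apply Subtype.ext
        apply Subtype.ext
        exact hleft g.1 g.2
      right_inv := by
        rintro ⟨a, b, M, hM⟩
        rfl }
  rw [Nat.card_congr e, Nat.card_prod, Nat.card_prod, card_SL3]
  simp [Nat.card_eq_fintype_card]

end Cfsg.Agent.S0445
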