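import Cfsg.Statements.S0447
import Mathlib
import Cfsg.Agent.Lib.Helper1.Gaschutz
import Cfsg.Agent.Lib.Helper1.DoubleCoverAlt

set_option autoImplicit false
open Cfsg

namespace Cfsg.Agent.S0447

open Equiv Equiv.Perm

/-! ### a homomorphism out of the dihedral group -/

section Dih

variable {H : Type*} [Group H]

/-- the map on the dihedral group determined by a rotation image `c` and a reflection image `s`. -/
def dfun (m : ℕ) (s c : H) : DihedralGroup m → H
  | .r i => c ^ i.val
  | .sr i => s * c ^ i.val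

variable {m : ℕ} [NeZero m] {s c : H}

theorem pw_add (hc : c ^ m = 1) (i j : ZMod m) : c ^ (i + j).val = c ^ i.val * c ^ j.val := by
  rw [ZMod.val_add, ← pow_add, ← pow_eq_pow_mod _ hc]

theorem pw_sub (hc : c ^ m = 1) (i j : ZMod m) : c ^ (j - i).val = (c ^ i.val)⁻¹ * c ^ j.val := by
  have h := pw_add hc (j - i) i
  rw [sub_add_cancel] at h
  rw [h, pow_mul_comm, inv_mul_cancel_left]

theorem dfun_mul (hs : s * s = 1) (hc : c ^ m = 1) (hsc : s * c = c⁻¹ * s)
    (a b : DihedralGroup m) : dfun m s c (a * b) = dfun m s c a * dfun m s c b := by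
  have hsp : ∀ k : ℕ, s * c ^ k = (c ^ k)⁻¹ * s := by
    intro k
    have h : SemiconjBy s c c⁻¹ := hsc
    have := (h.pow_right k).eq
    rwa [inv_pow] at this
  have hsp' : ∀ k : ℕ, s * (c ^ k)⁻¹ = c ^ k * s := by
    intro k
    have := hsp k
    calc s * (c ^ k)⁻¹ = c ^ k * ((c ^ k)⁻¹ * s) * (c ^ k)⁻¹ := by group
      _ = c ^ k * (s * c ^ k) * (c ^ k)⁻¹ := by rw [this]
      _ = c ^ k * s := by group
  rcases a with i | i <;> rcases b with j | j
  · show dfun m s c (DihedralGroup.r (i + j)) = _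
    simp only [dfun]
    exact pw_add hc i j
  · show dfun m s c (DihedralGroup.sr (j - i)) = _
    simp only [dfun]
    rw [pw_sub hc, ← mul_assoc, hsp', mul_assoc]
  · show dfun m s c (DihedralGroup.sr (i + j)) = _
    simp only [dfun]
    rw [pw_add hc, mul_assoc]
  · show dfun m s c (DihedralGroup.r (j - i)) = _
    simp only [dfun]
    rw [pw_sub hc, hsp i.val, mul_assoc, ← mul_assoc s s, hs, one_mul]

end Dih

/-! ### the splitting criterion -/

theorem split_of_dihedral {H G : Type*} [Group H] [Finite H] [Group G] [Finite G]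
    (π : H →* G) (hπ : Function.Surjective π) (hker : π.ker = Subgroup.center H)
    (hZ : Nat.card (Subgroup.center H) = 2)
    (m : ℕ) [NeZero m] (s c : H) (hs : s * s = 1) (hc : c ^ m = 1) (hsc : s * c = c⁻¹ * s)
    (h1 : ∀ i, 0 < i → i < m → (π c) ^ i ≠ 1) (h2 : ∀ i, i < m → π s * (π c) ^ i ≠ 1)
    (k : ℕ) (hk : Odd k) (hG : Nat.card G = 2 * m * k) :
    ∃ L : Subgroup H, (Subgroup.center H).IsComplement' L := by
  classical
  let f : DihedralGroup m →* H := MonoidHom.mk' (dfun m s c) (dfun_mul hs hc hsc)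
  have hfr : ∀ i : ZMod m, f (DihedralGroup.r i) = c ^ i.val := fun i => rfl
  have hfs : ∀ i : ZMod m, f (DihedralGroup.sr i) = s * c ^ i.val := fun i => rfl
  have hinj : Function.Injective (π.comp f) := by
    rw [injective_iff_map_eq_one]
    intro d hd
    rcases d with i | i
    · rw [MonoidHom.comp_apply, hfr, map_pow] at hd
      by_cases hi : i.val = 0
      · rw [ZMod.val_eq_zero] at hi
        rw [hi]
        rfl
      · exact absurd hd (h1 _ (Nat.pos_of_ne_zero hi) (ZMod.val_lt i))
    · rw [MonoidHom.comp_apply, hfs, map_mul, map_pow] at hd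
      exact absurd hd (h2 _ (ZMod.val_lt i))
  have hAK : f.range ⊓ Subgroup.center H = ⊥ := by
    rw [eq_bot_iff]
    rintro x ⟨⟨d, rfl⟩, hxK⟩
    rw [Subgroup.mem_bot]
    have h3 : (π.comp f) d = 1 := by
      rw [MonoidHom.comp_apply, ← MonoidHom.mem_ker, hker]
      exact hxK
    have hd1 : d = 1 := hinj (by rw [h3, map_one])
    rw [hd1, map_one]
  have hKA : Subgroup.center H ⊔ f.range = (π.comp f).range.comap π := by
    apply le_antisymm
    · apply sup_le
      · intro x hx
        rw [Subgroup.mem_comap]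
        have h3 : π x = 1 := by
          rw [← MonoidHom.mem_ker, hker]
          exact hx
        rw [h3]
        exact one_mem _
      · rintro x ⟨d, rfl⟩
        rw [Subgroup.mem_comap]
        exact ⟨d, rfl⟩
    · intro x hx
      rw [Subgroup.mem_comap] at hx
      obtain ⟨d, hd⟩ := hx
      have hk' : x * (f d)⁻¹ ∈ Subgroup.center H := by
        rw [← hker, MonoidHom.mem_ker, map_mul, map_inv, ← hd, MonoidHom.comp_apply,
          mul_inv_cancel]
      have h3 : x = (x * (f d)⁻¹) * f d := by group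
      rw [h3]
      exact Subgroup.mul_mem _ (Subgroup.mem_sup_left hk') (Subgroup.mem_sup_right ⟨d, rfl⟩)
  have hDcard : Nat.card (π.comp f).range = 2 * m := by
    rw [← DihedralGroup.nat_card (n := m)]
    exact (Nat.card_congr (MonoidHom.ofInjective hinj).toEquiv).symm
  have hidx : ((π.comp f).range.comap π).index = k := by
    rw [Subgroup.index_comap_of_surjective _ hπ]
    have h3 := (π.comp f).range.index_mul_card
    rw [hDcard, hG] at h3
    have hm : 0 < 2 * m := by
      have := NeZero.pos m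
      omega
    exact Nat.eq_of_mul_eq_mul_right hm (by rw [h3]; ring)
  have hcop : (Nat.card (Subgroup.center H)).Coprime ((π.comp f).range.comap π).index := by
    rw [hidx, hZ]
    exact Nat.coprime_two_left.mpr hk
  have hKU : Subgroup.center H ≤ (π.comp f).range.comap π := by
    rw [← hKA]
    exact le_sup_left
  exact Cfsg.Agent.Lib.Helper1.Gaschutz.exists_isComplement' (Subgroup.center H)
    ((π.comp f).range.comap π) hKU hcop f.range hAK hKA

/-! ### involutions of small alternating groups -/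

theorem cycleType_of_invol {n : ℕ} (hn : n ≤ 7) (σ : Perm (Fin n)) (ho : orderOf σ = 2)
    (hs : Perm.sign σ = 1) : σ.cycleType = Multiset.replicate 2 2 := by
  have hp : (orderOf σ).Prime := by
    rw [ho]
    exact Nat.prime_two
  obtain ⟨k, hk⟩ := Perm.cycleType_prime_order hp
  rw [ho] at hk
  have hsum : σ.cycleType.sum = σ.support.card := Perm.sum_cycleType σ
  have hle : σ.support.card ≤ n := by
    calc σ.support.card ≤ Fintype.card (Fin n) := Finset.card_le_univ _
      _ = n := Fintype.card_fin n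
  rw [hk, Multiset.sum_replicate, smul_eq_mul] at hsum
  have hsg := Perm.sign_of_cycleType σ
  rw [hk, Multiset.sum_replicate, Multiset.card_replicate, smul_eq_mul, hs] at hsg
  have hk3 : k ≤ 2 := by omega
  interval_cases k
  · exfalso
    revert hsg
    decide
  · exact hk
  · exfalso
    revert hsg
    decide

theorem four_le_of_invol {n : ℕ} (hn : n ≤ 7) (σ : Perm (Fin n)) (ho : orderOf σ = 2)
    (hs : Perm.sign σ = 1) : 4 ≤ n := by
  have h := cycleType_of_invol hn σ ho hs
  have hsum : σ.cycleType.sum = σ.support.card := Perm.sum_cycleType σ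
  have hle : σ.support.card ≤ n := by
    calc σ.support.card ≤ Fintype.card (Fin n) := Finset.card_le_univ _
      _ = n := Fintype.card_fin n
  rw [h, Multiset.sum_replicate, smul_eq_mul] at hsum
  omega

theorem conj_invol {n : ℕ} (hn : n ≤ 7) (t t' : alternatingGroup (Fin n)) (ht : orderOf t = 2)
    (ht' : orderOf t' = 2) : ∃ g : alternatingGroup (Fin n), g * t * g⁻¹ = t' := by
  have ho : orderOf (t : Perm (Fin n)) = 2 := by rw [Subgroup.orderOf_coe]; exact ht
  have ho' : orderOf (t' : Perm (Fin n)) = 2 := by rw [Subgroup.orderOf_coe]; exact ht'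
  have hs : Perm.sign (t : Perm (Fin n)) = 1 := Perm.mem_alternatingGroup.mp t.2
  have hs' : Perm.sign (t' : Perm (Fin n)) = 1 := Perm.mem_alternatingGroup.mp t'.2
  have hct : (t : Perm (Fin n)).cycleType = (t' : Perm (Fin n)).cycleType := by
    rw [cycleType_of_invol hn _ ho hs, cycleType_of_invol hn _ ho' hs']
  obtain ⟨g, hg⟩ := isConj_iff.mp (Perm.isConj_iff_cycleType_eq.mpr hct)
  rcases Int.units_eq_one_or (Perm.sign g) with h1 | h1
  · exact ⟨⟨g, Perm.mem_alternatingGroup.mpr h1⟩, Subtype.ext hg⟩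
  · have hne : (t : Perm (Fin n)) ≠ 1 := by
      intro h
      rw [h, orderOf_one] at ho
      omega
    obtain ⟨a, ha⟩ : ∃ a, (t : Perm (Fin n)) a ≠ a := by
      by_contra hcon
      push Not at hcon
      exact hne (Perm.ext hcon)
    have htt : (t : Perm (Fin n)) ((t : Perm (Fin n)) a) = a := by
      have h2 : (t : Perm (Fin n)) ^ 2 = 1 := by
        rw [← ho]
        exact pow_orderOf_eq_one _
      have h3 := congrArg (fun p : Perm (Fin n) => p a) h2
      simpa [pow_two] using h3
    set w : Perm (Fin n) := swap a ((t : Perm (Fin n)) a) with hw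
    have hwt : (t : Perm (Fin n)) * w * (t : Perm (Fin n))⁻¹ = w := by
      rw [hw, ← Equiv.swap_apply_apply, htt, Equiv.swap_comm]
    have hwt' : w * (t : Perm (Fin n)) * w⁻¹ = (t : Perm (Fin n)) := by
      have h4 : (t : Perm (Fin n)) * w = w * (t : Perm (Fin n)) := by
        calc (t : Perm (Fin n)) * w
            = ((t : Perm (Fin n)) * w * (t : Perm (Fin n))⁻¹) * (t : Perm (Fin n)) := by group
          _ = w * (t : Perm (Fin n)) := by rw [hwt]
      rw [← h4]
      group
    have hsw : Perm.sign w = -1 := by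
      rw [hw]
      exact Perm.sign_swap (Ne.symm ha)
    refine ⟨⟨g * w, ?_⟩, Subtype.ext ?_⟩
    · rw [Perm.mem_alternatingGroup, Perm.sign_mul, h1, hsw]
      rfl
    · show g * w * (t : Perm (Fin n)) * (g * w)⁻¹ = (t' : Perm (Fin n))
      calc g * w * (t : Perm (Fin n)) * (g * w)⁻¹
          = g * (w * (t : Perm (Fin n)) * w⁻¹) * g⁻¹ := by group
        _ = (t' : Perm (Fin n)) := by rw [hwt', hg]

/-! ### lifts of involutions -/

section Cover

variable {H : Type*} [Group H] [Finite H]

theorem central_sq (hZ : Nat.card (Subgroup.center H) = 2) (w : H)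
    (hw : w ∈ Subgroup.center H) : w * w = 1 := by
  have h := pow_card_eq_one' (G := Subgroup.center H) (x := ⟨w, hw⟩)
  rw [hZ] at h
  have h2 := congrArg Subtype.val h
  simpa [pow_two] using h2

theorem lift_invol {n : ℕ} (hn : n ≤ 7) (π : H →* alternatingGroup (Fin n))
    (hπ : Function.Surjective π) (hker : π.ker = Subgroup.center H)
    (hZ : Nat.card (Subgroup.center H) = 2) (x : H) (hx2 : x ^ 2 = 1)
    (hxZ : x ∉ Subgroup.center H) (h : H) (h1 : π h ≠ 1) (h2 : (π h) ^ 2 = 1) : h ^ 2 = 1 := by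
  have : Fact (Nat.Prime 2) := ⟨Nat.prime_two⟩
  have hx1 : π x ≠ 1 := by
    intro hh
    apply hxZ
    rw [← hker, MonoidHom.mem_ker]
    exact hh
  have hox : orderOf (π x) = 2 := by
    apply orderOf_eq_prime _ hx1
    rw [← map_pow, hx2, map_one]
  have hoh : orderOf (π h) = 2 := orderOf_eq_prime h2 h1
  obtain ⟨gb, hgb⟩ := conj_invol hn (π x) (π h) hox hoh
  obtain ⟨g, rfl⟩ := hπ gb
  set y := g * x * g⁻¹ with hy
  have hyh : π y = π h := by
    rw [hy, map_mul, map_mul, map_inv]
    exact hgb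
  have hwZ : y⁻¹ * h ∈ Subgroup.center H := by
    rw [← hker, MonoidHom.mem_ker, map_mul, map_inv, hyh, inv_mul_cancel]
  have hy2 : y * y = 1 := by
    rw [hy]
    calc g * x * g⁻¹ * (g * x * g⁻¹) = g * (x * x) * g⁻¹ := by group
      _ = 1 := by rw [← pow_two, hx2]; group
  have hcomm : (y⁻¹ * h) * y = y * (y⁻¹ * h) := (Subgroup.mem_center_iff.mp hwZ y).symm
  have hww := central_sq hZ _ hwZ
  have hh : h = y * (y⁻¹ * h) := by group
  rw [pow_two]
  calc h * h = y * (y⁻¹ * h) * (y * (y⁻¹ * h)) := by rw [← hh]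
    _ = y * ((y⁻¹ * h) * y) * (y⁻¹ * h) := by simp only [mul_assoc]
    _ = y * (y * (y⁻¹ * h)) * (y⁻¹ * h) := by rw [hcomm]
    _ = (y * y) * ((y⁻¹ * h) * (y⁻¹ * h)) := by simp only [mul_assoc]
    _ = 1 := by rw [hy2, hww, one_mul]

theorem case_split (n : ℕ)
    (π : H →* alternatingGroup (Fin n)) (hπ : Function.Surjective π)
    (hker : π.ker = Subgroup.center H) (hZ : Nat.card (Subgroup.center H) = 2)
    (F : ∀ h : H, π h ≠ 1 → (π h) ^ 2 = 1 → h ^ 2 = 1)
    (m j k : ℕ) (hm : 2 * j = m) (hj : 0 < j) (hk : Odd k)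
    (hcard : Nat.card (alternatingGroup (Fin n)) = 2 * m * k)
    (σ τ : Perm (Fin n)) (hσ : σ ∈ alternatingGroup (Fin n)) (hτ : τ ∈ alternatingGroup (Fin n))
    (hs1 : σ ≠ 1) (hs2 : σ ^ 2 = 1) (hc1 : τ ^ j ≠ 1) (hc2 : (τ ^ j) ^ 2 = 1)
    (hsc1 : σ * τ ≠ 1) (hsc2 : (σ * τ) ^ 2 = 1)
    (h1 : ∀ i, 0 < i → i < m → τ ^ i ≠ 1) (h2 : ∀ i, i < m → σ * τ ^ i ≠ 1) :
    ∃ L : Subgroup H, (Subgroup.center H).IsComplement' L := by
  have : NeZero m := ⟨by omega⟩
  obtain ⟨s, hs⟩ := hπ ⟨σ, hσ⟩
  obtain ⟨c, hc⟩ := hπ ⟨τ, hτ⟩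
  have ne_of : ∀ (g : alternatingGroup (Fin n)), (g : Perm (Fin n)) ≠ 1 → g ≠ 1 := by
    intro g hg h
    apply hg
    rw [h]
    rfl
  have hss : s ^ 2 = 1 := by
    apply F
    · rw [hs]
      exact ne_of _ hs1
    · rw [hs]
      exact Subtype.ext (by rw [Subgroup.coe_pow, Subgroup.coe_one]; exact hs2)
  have hcj : (c ^ j) ^ 2 = 1 := by
    apply F
    · rw [map_pow, hc]
      apply ne_of
      rw [Subgroup.coe_pow]
      exact hc1
    · rw [map_pow, hc]
      exact Subtype.ext (by rw [Subgroup.coe_pow, Subgroup.coe_pow, Subgroup.coe_one]; exact hc2)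
  have hcm : c ^ m = 1 := by
    rw [← hm, mul_comm, pow_mul]
    exact hcj
  have hsc : (s * c) ^ 2 = 1 := by
    apply F
    · rw [map_mul, hs, hc]
      apply ne_of
      rw [Subgroup.coe_mul]
      exact hsc1
    · rw [map_mul, hs, hc]
      exact Subtype.ext (by rw [Subgroup.coe_pow, Subgroup.coe_mul, Subgroup.coe_one]; exact hsc2)
  have hss' : s * s = 1 := by rw [← pow_two]; exact hss
  have hsi : s⁻¹ = s := inv_eq_of_mul_eq_one_right hss'
  have hsc' : s * c = c⁻¹ * s := by
    have h3 : s * c * (s * c) = 1 := by rw [← pow_two]; exact hsc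
    have h4 : s * c = (s * c)⁻¹ := eq_inv_of_mul_eq_one_left h3
    rw [mul_inv_rev, hsi] at h4
    exact h4
  apply split_of_dihedral π hπ hker hZ m s c hss' hcm hsc' _ _ k hk hcard
  · intro i hi0 him
    rw [hc]
    apply ne_of
    rw [Subgroup.coe_pow]
    exact h1 i hi0 him
  · intro i him
    rw [hs, hc]
    apply ne_of
    rw [Subgroup.coe_mul, Subgroup.coe_pow]
    exact h2 i him

theorem mem2 {n : ℕ} {a b c d : Fin n} (hab : a ≠ b) (hcd : c ≠ d) :
    swap a b * swap c d ∈ alternatingGroup (Fin n) := by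
  rw [Perm.mem_alternatingGroup, Perm.sign_mul, Perm.sign_swap hab, Perm.sign_swap hcd]
  rfl

theorem mem4 {n : ℕ} {a b c d e f g h : Fin n} (hab : a ≠ b) (hcd : c ≠ d) (hef : e ≠ f)
    (hgh : g ≠ h) : swap a b * swap c d * swap e f * swap g h ∈ alternatingGroup (Fin n) := by
  rw [Perm.mem_alternatingGroup, Perm.sign_mul, Perm.sign_mul, Perm.sign_mul, Perm.sign_swap hab,
    Perm.sign_swap hcd, Perm.sign_swap hef, Perm.sign_swap hgh]
  rfl

theorem core (n : ℕ) (h4 : 4 ≤ n) (h7 : n ≤ 7)
    (π : H →* alternatingGroup (Fin n)) (hπ : Function.Surjective π)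
    (hker : π.ker = Subgroup.center H) (hZ : Nat.card (Subgroup.center H) = 2)
    (F : ∀ h : H, π h ≠ 1 → (π h) ^ 2 = 1 → h ^ 2 = 1) :
    ∃ L : Subgroup H, (Subgroup.center H).IsComplement' L := by
  obtain rfl | rfl | rfl | rfl : n = 4 ∨ n = 5 ∨ n = 6 ∨ n = 7 := by omega
  · refine case_split 4 π hπ hker hZ F 2 1 3 rfl one_pos (by decide) ?_
      (swap 0 1 * swap 2 3) (swap 0 2 * swap 1 3) (mem2 (by decide) (by decide))
      (mem2 (by decide) (by decide)) (by decide) (by decide) (by decide) (by decide) (by decide)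
      (by decide) ?_ ?_
    · rw [nat_card_alternatingGroup, Nat.card_eq_fintype_card, Fintype.card_fin]
      rfl
    · intro i h0 hm
      interval_cases i
      decide
    · intro i hm
      interval_cases i <;> decide
  · refine case_split 5 π hπ hker hZ F 2 1 15 rfl one_pos (by decide) ?_
      (swap 0 1 * swap 2 3) (swap 0 2 * swap 1 3) (mem2 (by decide) (by decide))
      (mem2 (by decide) (by decide)) (by decide) (by decide) (by decide) (by decide) (by decide)
      (by decide) ?_ ?_
    · rw [nat_card_alternatingGroup, Nat.card_eq_fintype_card, Fintype.card_fin]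
      rfl
    · intro i h0 hm
      interval_cases i
      decide
    · intro i hm
      interval_cases i <;> decide
  · refine case_split 6 π hπ hker hZ F 4 2 45 rfl (by norm_num) (by decide) ?_
      (swap 0 2 * swap 4 5) (swap 0 1 * swap 1 2 * swap 2 3 * swap 4 5)
      (mem2 (by decide) (by decide))
      (mem4 (by decide) (by decide) (by decide) (by decide)) (by decide) (by decide) (by decide)
      (by decide) (by decide) (by decide) ?_ ?_
    · rw [nat_card_alternatingGroup, Nat.card_eq_fintype_card, Fintype.card_fin]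
      rfl
    · intro i h0 hm
      interval_cases i <;> decide
    · intro i hm
      interval_cases i <;> decide
  · refine case_split 7 π hπ hker hZ F 4 2 315 rfl (by norm_num) (by decide) ?_
      (swap 0 2 * swap 4 5) (swap 0 1 * swap 1 2 * swap 2 3 * swap 4 5)
      (mem2 (by decide) (by decide))
      (mem4 (by decide) (by decide) (by decide) (by decide)) (by decide) (by decide) (by decide)
      (by decide) (by decide) (by decide) ?_ ?_
    · rw [nat_card_alternatingGroup, Nat.card_eq_fintype_card, Fintype.card_fin]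
      rfl
    · intro i h0 hm
      interval_cases i <;> decide
    · intro i hm
      interval_cases i <;> decide

theorem part_one (n : ℕ) (hn : n ≤ 7)
    (hcov : Cfsg.IsNonsplitDoubleCover H (alternatingGroup (Fin n))) (x y : H)
    (hx : orderOf x = 2) (hy : orderOf y = 2) : x = y := by
  obtain ⟨hZ, ⟨e⟩, hns⟩ := hcov
  set π : H →* alternatingGroup (Fin n) :=
    e.toMonoidHom.comp (QuotientGroup.mk' (Subgroup.center H)) with hπdef
  have hπ : Function.Surjective π := by
    intro g
    obtain ⟨q, hq⟩ := e.surjective g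
    obtain ⟨h, rfl⟩ := QuotientGroup.mk'_surjective (Subgroup.center H) q
    exact ⟨h, hq⟩
  have hker : π.ker = Subgroup.center H := by
    ext h
    rw [MonoidHom.mem_ker]
    constructor
    · intro hh
      have h3 : e (QuotientGroup.mk' (Subgroup.center H) h) = 1 := hh
      rw [EmbeddingLike.map_eq_one_iff] at h3
      exact (QuotientGroup.eq_one_iff h).mp h3
    · intro hh
      show e (QuotientGroup.mk' (Subgroup.center H) h) = 1
      rw [EmbeddingLike.map_eq_one_iff]
      exact (QuotientGroup.eq_one_iff h).mpr hh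
  have key : ∀ w : H, orderOf w = 2 → w ∈ Subgroup.center H := by
    intro w hw
    by_contra hwZ
    have hw2 : w ^ 2 = 1 := by
      rw [← hw]
      exact pow_orderOf_eq_one w
    have F := lift_invol hn π hπ hker hZ w hw2 hwZ
    have : Fact (Nat.Prime 2) := ⟨Nat.prime_two⟩
    have hw1 : π w ≠ 1 := by
      intro hh
      apply hwZ
      rw [← hker, MonoidHom.mem_ker]
      exact hh
    have how : orderOf (π w) = 2 := by
      apply orderOf_eq_prime _ hw1
      rw [← map_pow, hw2, map_one]
    have how' : orderOf ((π w : alternatingGroup (Fin n)) : Perm (Fin n)) = 2 := by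
      rw [Subgroup.orderOf_coe]
      exact how
    have h4 : 4 ≤ n :=
      four_le_of_invol hn _ how' (Perm.mem_alternatingGroup.mp (π w).2)
    obtain ⟨L, hL⟩ := core n h4 hn π hπ hker hZ F
    exact hns L hL
  obtain ⟨u, hu1, hu2⟩ := (Nat.card_eq_two_iff' (1 : Subgroup.center H)).mp hZ
  have hx' : (⟨x, key x hx⟩ : Subgroup.center H) ≠ 1 := by
    intro h
    have h3 : x = 1 := congrArg Subtype.val h
    rw [h3, orderOf_one] at hx
    omega
  have hy' : (⟨y, key y hy⟩ : Subgroup.center H) ≠ 1 := by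
    intro h
    have h3 : y = 1 := congrArg Subtype.val h
    rw [h3, orderOf_one] at hy
    omega
  have h5 := (hu2 _ hx').trans (hu2 _ hy').symm
  exact congrArg Subtype.val h5

end Cover

/-! ### degree eight -/

open Cfsg.Agent.Lib.Helper1.DCA

theorem ring_sq {R : Type*} [Ring R] (X Y : R) (hX : X * X = -1) (hY : Y * Y = -1)
    (h : Y * X = -(X * Y)) : X * Y * (X * Y) = -1 := by
  calc X * Y * (X * Y) = X * (Y * X) * Y := by simp only [mul_assoc]
    _ = -((X * X) * (Y * Y)) := by
        rw [h]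
        simp only [mul_neg, neg_mul, mul_assoc]
    _ = -1 := by
        rw [hX, hY]
        simp

theorem ring_comm {R : Type*} [Ring R] (X Y P Q : R) (hXP : X * P = -(P * X))
    (hXQ : X * Q = -(Q * X)) (hYP : Y * P = -(P * Y)) (hYQ : Y * Q = -(Q * Y)) :
    X * Y * (P * Q) = P * Q * (X * Y) := by
  calc X * Y * (P * Q) = X * (Y * P) * Q := by simp only [mul_assoc]
    _ = -((X * P) * (Y * Q)) := by
        rw [hYP]
        simp only [mul_neg, neg_mul, mul_assoc]
    _ = -(P * (X * Q) * Y) := by
        rw [hXP, hYQ]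
        simp only [mul_neg, neg_mul, neg_neg, mul_assoc]
    _ = P * Q * (X * Y) := by
        rw [hXQ]
        simp only [mul_neg, neg_mul, neg_neg, mul_assoc]

theorem TT_sq {n : ℕ} {a b c d : Fin n} (hab : a ≠ b) (hcd : c ≠ d) (hca : c ≠ a) (hcb : c ≠ b)
    (hda : d ≠ a) (hdb : d ≠ b) : (TT a b c d hab hcd) ^ 2 = zz n := by
  apply Subtype.ext
  apply Units.ext
  rw [pow_two]
  simp only [Subgroup.coe_mul, Units.val_mul, TT_val]
  have hz : (((zz n : Gam n) : (A n)ˣ) : A n) = -1 := rfl
  rw [hz]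
  exact ring_sq (R := A n) (T a b) (T c d) (T_sq hab) (T_sq hcd) (T_anti hca hcb hda hdb)

theorem TT_comm {n : ℕ} {a b c d e f g h : Fin n} (hab : a ≠ b) (hcd : c ≠ d) (hef : e ≠ f)
    (hgh : g ≠ h) (hae : a ≠ e) (haf : a ≠ f) (hag : a ≠ g) (hah : a ≠ h)
    (hbe : b ≠ e) (hbf : b ≠ f) (hbg : b ≠ g) (hbh : b ≠ h)
    (hce : c ≠ e) (hcf : c ≠ f) (hcg : c ≠ g) (hch : c ≠ h)
    (hde : d ≠ e) (hdf : d ≠ f) (hdg : d ≠ g) (hdh : d ≠ h) :
    TT a b c d hab hcd * TT e f g h hef hgh = TT e f g h hef hgh * TT a b c d hab hcd := by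
  apply Subtype.ext
  apply Units.ext
  simp only [Subgroup.coe_mul, Units.val_mul, TT_val]
  have hXP : T a b * T e f = -(T e f * T a b) := T_anti hae haf hbe hbf
  have hXQ : T a b * T g h = -(T g h * T a b) := T_anti hag hah hbg hbh
  have hYP : T c d * T e f = -(T e f * T c d) := T_anti hce hcf hde hdf
  have hYQ : T c d * T g h = -(T g h * T c d) := T_anti hcg hch hdg hdh
  exact ring_comm (R := A n) (T a b) (T c d) (T e f) (T g h) hXP hXQ hYP hYQ

theorem phi_TT {n : ℕ} {a b c d : Fin n} (hab : a ≠ b) (hcd : c ≠ d) :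
    ((phi (TT a b c d hab hcd) : alternatingGroup (Fin n)) : Perm (Fin n)) =
      swap a b * swap c d :=
  phiFun_eq _ _ (TT_lifts a b c d hab hcd)

theorem center_Gam8 : Subgroup.center (Gam 8) = (phi (n := 8)).ker := by
  apply le_antisymm
  · intro x hx
    rw [MonoidHom.mem_ker]
    have h1 : phi x ∈ Subgroup.center (alternatingGroup (Fin 8)) := by
      rw [Subgroup.mem_center_iff]
      intro gb
      obtain ⟨g, rfl⟩ := phi_surjective gb
      rw [← map_mul, ← map_mul, Subgroup.mem_center_iff.mp hx g]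
    rw [alternatingGroup.center_eq_bot (by simp), Subgroup.mem_bot] at h1
    exact h1
  · rw [ker_phi, Subgroup.zpowers_le]
    exact zz_central

theorem part_two : ∃ (H : Type) (_ : Group H) (_ : Finite H),
    Cfsg.IsNonsplitDoubleCover H (alternatingGroup (Fin 8)) ∧
      ∃ x y : H, x ≠ y ∧ orderOf x = 2 ∧ orderOf y = 2 := by
  have hfin : Finite (A 8) := DFunLike.finite _
  have : Fact (Nat.Prime 2) := ⟨Nat.prime_two⟩
  have hzo : orderOf (zz 8) = 2 := orderOf_eq_prime zz_sq zz_ne_one
  have hcard : Nat.card (Subgroup.center (Gam 8)) = 2 := by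
    rw [center_Gam8, ker_phi, Nat.card_zpowers, hzo]
  refine ⟨Gam 8, inferInstance, inferInstance, ⟨hcard, ⟨?_⟩, ?_⟩, ?_⟩
  · exact (QuotientGroup.quotientMulEquivOfEq center_Gam8).trans
      (QuotientGroup.quotientKerEquivOfSurjective phi phi_surjective)
  · intro L hL
    have hidx : L.index = 2 := by rw [hL.index_eq_card, hcard]
    have h1 : (TT (0 : Fin 8) 1 2 3 (by decide) (by decide)) ^ 2 ∈ L :=
      Subgroup.sq_mem_of_index_two hidx _
    rw [TT_sq (by decide) (by decide) (by decide) (by decide) (by decide) (by decide)] at h1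
    have h2 := Subgroup.disjoint_def.mp hL.disjoint zz_central h1
    exact zz_ne_one h2
  · set u : Gam 8 := TT (0 : Fin 8) 1 2 3 (by decide) (by decide) with hu
    set v : Gam 8 := TT (4 : Fin 8) 5 6 7 (by decide) (by decide) with hv
    have hu2 : u ^ 2 = zz 8 :=
      TT_sq (by decide) (by decide) (by decide) (by decide) (by decide) (by decide)
    have hv2 : v ^ 2 = zz 8 :=
      TT_sq (by decide) (by decide) (by decide) (by decide) (by decide) (by decide)
    have huv : u * v = v * u :=
      TT_comm (by decide) (by decide) (by decide) (by decide) (by decide) (by decide) (by decide)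
        (by decide) (by decide) (by decide) (by decide) (by decide) (by decide) (by decide)
        (by decide) (by decide) (by decide) (by decide) (by decide) (by decide)
    have hy2 : (u * v) ^ 2 = 1 := by
      have hc : Commute u v := huv
      rw [hc.mul_pow, hu2, hv2, ← pow_two, zz_sq]
    have hphi : ((phi (u * v) : alternatingGroup (Fin 8)) : Perm (Fin 8)) (0 : Fin 8) = 1 := by
      rw [map_mul, Subgroup.coe_mul, hu, hv, phi_TT, phi_TT]
      decide
    have hne : phi (u * v) ≠ 1 := by
      intro h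
      rw [h] at hphi
      revert hphi
      decide
    have hy1 : u * v ≠ 1 := by
      intro h
      apply hne
      rw [h, map_one]
    have hyz : zz 8 ≠ u * v := by
      intro h
      apply hne
      rw [← h, ← MonoidHom.mem_ker, ker_phi]
      exact Subgroup.mem_zpowers _
    exact ⟨zz 8, u * v, hyz, hzo, orderOf_eq_prime hy2 hy1⟩

theorem result : (∀ (n : ℕ) (H : Type) (_ : Group H) (_ : Finite H), n ≤ 7 → Cfsg.IsNonsplitDoubleCover H (alternatingGroup (Fin n)) → ∀ x y : H, orderOf x = 2 → orderOf y = 2 → x = y) ∧ ∃ (H : Type) (_ : Group H) (_ : Finite H), Cfsg.IsNonsplitDoubleCover H (alternatingGroup (Fin 8)) ∧ ∃ x y : H, x ≠ y ∧ orderOf x = 2 ∧ orderOf y = 2 := by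
  refine ⟨?_, part_two⟩
  intro n H _ _ hn hcov x y hx hy
  exact part_one n hn hcov x y hx hy

end Cfsg.Agent.S0447
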