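import Cfsg.Statements.S0481
import Mathlib

set_option autoImplicit false
open Cfsg

namespace Cfsg.Agent.S0481

open scoped Pointwise

/-- an involution whose centraliser contains a Sylow 2-subgroup lies in it -/
theorem mem_sylow_of_le_centralizer {G : Type*} [Group G] [Finite G] (t : G) (ht : orderOf t = 2)
    (P : Sylow 2 G) (hP : (P : Subgroup G) ≤ Subgroup.centralizer ({t} : Set G)) : t ∈ P := by
  have hz : IsPGroup 2 (Subgroup.zpowers t) := by
    rw [IsPGroup.iff_card, Nat.card_zpowers, ht]
    exact ⟨1, by norm_num⟩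
  have key : ∀ x ∈ (P : Subgroup G), t * x * t⁻¹ = x := by
    intro x hx
    have := hP hx
    rw [Subgroup.mem_centralizer_iff] at this
    have h2 := this t (Set.mem_singleton t)
    rw [h2, mul_assoc, mul_inv_cancel, mul_one]
  have key' : ∀ x ∈ (P : Subgroup G), t⁻¹ * x * t = x := by
    intro x hx
    have := key x hx
    calc t⁻¹ * x * t = t⁻¹ * (t * x * t⁻¹) * t := by rw [this]
      _ = x := by group
  have hnorm : Subgroup.zpowers t ≤ Subgroup.normalizer ((P : Subgroup G) : Set G) := by
    rw [Subgroup.zpowers_le]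
    rw [Subgroup.mem_normalizer_iff]
    intro h
    constructor
    · intro hh
      rw [key h hh]; exact hh
    · intro hh
      have h3 := key' _ hh
      have h8 : t⁻¹ * (t * h * t⁻¹) * t = h := by group
      rw [h8] at h3
      rw [h3]; exact hh
  have hsup : IsPGroup 2 ((P : Subgroup G) ⊔ Subgroup.zpowers t : Subgroup G) :=
    IsPGroup.to_sup_of_normal_left' P.isPGroup' hz hnorm
  have := P.is_maximal' hsup le_sup_left
  have h2 : Subgroup.zpowers t ≤ (P : Subgroup G) := by
    rw [← this]; exact le_sup_right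
  exact h2 (Subgroup.mem_zpowers t)

/-- Large extraspecial subgroups -/
theorem result {G : Type*} [Group G] [Finite G] (z : G) (hz : orderOf z = 2) (Q : Subgroup G) (hQC : Q ≤ Subgroup.centralizer ({z} : Set G)) (hQn : ∀ g ∈ Subgroup.centralizer ({z} : Set G), ∀ q ∈ Q, g * q * g⁻¹ ∈ Q) (hQ2 : IsPGroup 2 Q) (hZ : Nat.card (Subgroup.center Q) = 2) (hsq : ∀ x : Q, x ^ 2 ∈ Subgroup.center Q) (hlarge : Subgroup.centralizer (Q : Set G) ≤ Q) : (∃ P : Sylow 2 G, (P : Subgroup G) ≤ Subgroup.centralizer ({z} : Set G)) ∧ ∀ u : G, orderOf u = 2 → (∃ P : Sylow 2 G, (P : Subgroup G) ≤ Subgroup.centralizer ({u} : Set G)) → IsConj z u := by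
  have hfact : Fact (Nat.Prime 2) := ⟨Nat.prime_two⟩
  have hz1 : z ≠ 1 := by
    intro h; rw [h, orderOf_one] at hz; omega
  -- z centralizes Q
  have hzcent : z ∈ Subgroup.centralizer (Q : Set G) := by
    rw [Subgroup.mem_centralizer_iff]
    intro q hq
    have := hQC hq
    rw [Subgroup.mem_centralizer_iff] at this
    exact (this z (Set.mem_singleton z)).symm
  have hzQ : z ∈ Q := hlarge hzcent
  -- elements centralizing Q are 1 or z
  have key : ∀ x : G, x ∈ Subgroup.centralizer (Q : Set G) → x = 1 ∨ x = z := by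
    intro x hx
    have hxQ : x ∈ Q := hlarge hx
    have hxc : (⟨x, hxQ⟩ : Q) ∈ Subgroup.center Q := by
      rw [Subgroup.mem_center_iff]
      intro g
      rw [Subgroup.mem_centralizer_iff] at hx
      apply Subtype.ext
      simp only [Subgroup.coe_mul]
      exact hx g g.2
    have hzc : (⟨z, hzQ⟩ : Q) ∈ Subgroup.center Q := by
      rw [Subgroup.mem_center_iff]
      intro g
      rw [Subgroup.mem_centralizer_iff] at hzcent
      apply Subtype.ext
      simp only [Subgroup.coe_mul]
      exact hzcent g g.2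
    obtain ⟨y, hy1, hy2⟩ := (Nat.card_eq_two_iff' (1 : Subgroup.center Q)).mp hZ
    by_cases hx1 : x = 1
    · left; exact hx1
    · right
      have h1 : (⟨⟨x, hxQ⟩, hxc⟩ : Subgroup.center Q) = y := by
        apply hy2
        intro h
        apply hx1
        have := congrArg (fun w : Subgroup.center Q => ((w : Q) : G)) h
        simpa using this
      have h2 : (⟨⟨z, hzQ⟩, hzc⟩ : Subgroup.center Q) = y := by
        apply hy2
        intro h
        apply hz1
        have := congrArg (fun w : Subgroup.center Q => ((w : Q) : G)) h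
        simpa using this
      have := congrArg (fun w : Subgroup.center Q => ((w : Q) : G)) (h1.trans h2.symm)
      simpa using this
  obtain ⟨T, hQT⟩ := hQ2.exists_le_sylow
  have hzT : z ∈ T := hQT hzQ
  -- central elements of T are 1 or z
  have keyT : ∀ x ∈ T, (∀ t ∈ T, t * x = x * t) → x = 1 ∨ x = z := by
    intro x _ hx
    apply key
    rw [Subgroup.mem_centralizer_iff]
    intro q hq
    exact hx q (hQT hq)
  -- z is central in T
  have hzcT : ∀ t ∈ T, t * z = z * t := by
    have : Nontrivial (T : Subgroup G) := ⟨⟨⟨z, hzT⟩, 1, fun h => hz1 (congrArg Subtype.val h)⟩⟩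
    have hcn : Nontrivial (Subgroup.center (T : Subgroup G)) := IsPGroup.center_nontrivial T.isPGroup'
    obtain ⟨w, hw⟩ := exists_ne (1 : Subgroup.center (T : Subgroup G))
    have hwc := w.2
    rw [Subgroup.mem_center_iff] at hwc
    have hw' : ∀ t ∈ T, t * ((w : (T : Subgroup G)) : G) = ((w : (T : Subgroup G)) : G) * t := by
      intro t ht
      have := congrArg Subtype.val (hwc ⟨t, ht⟩)
      simpa using this
    have hwz := keyT _ (w : (T : Subgroup G)).2 hw'
    rcases hwz with h1 | h2
    · exfalso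
      apply hw
      apply Subtype.ext
      apply Subtype.ext
      simpa using h1
    · rw [h2] at hw'; exact hw'
  have hTz : (T : Subgroup G) ≤ Subgroup.centralizer ({z} : Set G) := by
    intro t ht
    rw [Subgroup.mem_centralizer_iff]
    intro h hh
    rw [Set.mem_singleton_iff] at hh
    subst hh
    exact (hzcT t ht).symm
  refine ⟨⟨T, hTz⟩, ?_⟩
  rintro u hu ⟨P, hP⟩
  have hu1 : u ≠ 1 := by
    intro h; rw [h, orderOf_one] at hu; omega
  have huP : u ∈ P := mem_sylow_of_le_centralizer u hu P hP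
  obtain ⟨g, hg⟩ := MulAction.exists_smul_eq G P T
  have hmem : ∀ x : G, x ∈ T ↔ g⁻¹ * x * g ∈ P := by
    intro x
    rw [← hg]
    show x ∈ ((g • P : Sylow 2 G) : Subgroup G) ↔ _
    rw [Sylow.coe_subgroup_smul, Subgroup.mem_pointwise_smul_iff_inv_smul_mem]
    simp only [MulAut.smul_def, ← map_inv, MulAut.conj_apply, inv_inv]
    exact Iff.rfl
  have hu'T : g * u * g⁻¹ ∈ T := by
    rw [hmem]
    have : g⁻¹ * (g * u * g⁻¹) * g = u := by group
    rw [this]; exact huP
  have hu'c : ∀ t ∈ T, t * (g * u * g⁻¹) = (g * u * g⁻¹) * t := by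
    intro t ht
    have h1 := (hmem t).mp ht
    have h2 := hP h1
    rw [Subgroup.mem_centralizer_iff] at h2
    have h3 := h2 u (Set.mem_singleton u)
    -- u * (g⁻¹ t g) = (g⁻¹ t g) * u
    calc t * (g * u * g⁻¹) = g * ((g⁻¹ * t * g) * u) * g⁻¹ := by group
      _ = g * (u * (g⁻¹ * t * g)) * g⁻¹ := by rw [h3]
      _ = (g * u * g⁻¹) * t := by group
  rcases keyT _ hu'T hu'c with h1 | h2
  · exfalso
    apply hu1
    have : u = g⁻¹ * (g * u * g⁻¹) * g := by group
    rw [this, h1]; group
  · apply IsConj.symm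
    rw [isConj_iff]
    exact ⟨g, h2⟩

end Cfsg.Agent.S0481
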