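import Cfsg.Statements.S0496
import Mathlib
import Cfsg.Agent.S0493
import Cfsg.Agent.H5.SmallOrdBasic
import Cfsg.Agent.H5.SmallOrdD
import Cfsg.Agent.H5.SmallOrd756
import Cfsg.Agent.H5.SmallOrd612
import Cfsg.Agent.H5.SmallOrd9
import Cfsg.Agent.H5.SmallOrdR1
import Cfsg.Agent.H5.SmallOrdR2
import Cfsg.Agent.H5.SmallOrdR3
import Cfsg.Agent.H5.SmallOrdR4
import Cfsg.Agent.H5.SmallOrdR5
import Cfsg.Agent.H5.SmallOrdR6
import Cfsg.Agent.H5.SmallOrdR7
import Cfsg.Agent.H5.SmallOrdR8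
import Cfsg.Agent.H5.SmallOrdR9
import Cfsg.Agent.H5.SmallOrdR10
import Cfsg.Agent.Lib.Helper10.Ord720F

set_option autoImplicit false
open Cfsg

namespace Cfsg.Agent.S0496

/-- A non-abelian finite simple group of order at most 1092 has order 60, 168, 360, 504, 660 or 1092. -/
theorem result {G : Type*} [Group G] [Finite G] [IsSimpleGroup G]
    (hG : ¬ IsMulCommutative G) (h : Nat.card G ≤ 1092) :
    Nat.card G = 60 ∨ Nat.card G = 168 ∨ Nat.card G = 360 ∨ Nat.card G = 504 ∨ Nat.card G = 660 ∨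
      Nat.card G = 1092 := by
  have hpos : 0 < Nat.card G := Nat.card_pos
  by_cases h100 : Nat.card G ≤ 100
  · left
    exact Cfsg.Agent.S0493.result (Cfsg.H5.SmallOrd.not_isCyclic_of_not_comm hG) h100
  push Not at h100
  by_cases h2 : Nat.card G ≤ 200
  · exact Or.inr (Or.inl (Cfsg.H5.SmallOrd.range_101_200 hG (by omega) h2))
  by_cases h3 : Nat.card G ≤ 300
  · exact (Cfsg.H5.SmallOrd.range_201_300 hG (by omega) h3).elim
  by_cases h4 : Nat.card G ≤ 400
  · exact Or.inr (Or.inr (Or.inl (Cfsg.H5.SmallOrd.range_301_400 hG (by omega) h4)))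
  by_cases h5 : Nat.card G ≤ 500
  · exact (Cfsg.H5.SmallOrd.range_401_500 hG (by omega) h5).elim
  by_cases h6 : Nat.card G ≤ 600
  · exact Or.inr (Or.inr (Or.inr (Or.inl (Cfsg.H5.SmallOrd.range_501_600 hG (by omega) h6))))
  by_cases h7 : Nat.card G ≤ 700
  · rcases Cfsg.H5.SmallOrd.range_601_700 hG (by omega) h7 with h | h
    · exact absurd h (Cfsg.H5.SmallOrd.no_612 hG)
    · exact Or.inr (Or.inr (Or.inr (Or.inr (Or.inl h))))
  by_cases h8 : Nat.card G ≤ 800
  · rcases Cfsg.H5.SmallOrd.range_701_800 hG (by omega) h8 with h | h | h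
    · exact absurd h Cfsg.Agent.Lib.Helper10.Ord720.no_simple_720
    · exact absurd h (Cfsg.H5.SmallOrd.no_756 hG)
    · exact absurd h (Cfsg.H5.SmallOrd.no_760 hG)
  by_cases h9 : Nat.card G ≤ 900
  · exact absurd (Cfsg.H5.SmallOrd.range_801_900 hG (by omega) h9) (Cfsg.H5.SmallOrd.no_900 hG)
  by_cases h10 : Nat.card G ≤ 1000
  · exact absurd (Cfsg.H5.SmallOrd.range_901_1000 hG (by omega) h10) (Cfsg.H5.SmallOrd.no_960 hG)
  · exact Or.inr (Or.inr (Or.inr (Or.inr (Or.inr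
      (Cfsg.H5.SmallOrd.range_1001_1092 hG (by omega) h)))))

end Cfsg.Agent.S0496
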