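import Mathlib
import Cfsg.Statements.S0499
import Cfsg.Agent.Lib.Helper13.Frobenius

set_option autoImplicit false
open Cfsg

namespace Cfsg.Agent.S0499

open Cfsg.Agent.Lib.Helper13

/-- the numeric core -/
theorem numeric (r i j : ℕ) (hr : r.Prime) (hr2 : r ≠ 2) (hj : j ≤ 3) (hij : i < j)
    (hmod : 2 ^ j ≡ 2 ^ i [MOD r]) : (r = 3 ∧ 2 ≤ j) ∨ (r = 7 ∧ j = 3) := by
  have hle : 2 ^ i ≤ 2 ^ j := Nat.pow_le_pow_right (by norm_num) hij.le
  have hd : r ∣ 2 ^ j - 2 ^ i := (Nat.modEq_iff_dvd' hle).mp hmod.symm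
  have hr1 := hr.one_lt
  have hpos : 0 < 2 ^ j - 2 ^ i := Nat.sub_pos_of_lt (Nat.pow_lt_pow_right (by norm_num) hij)
  have h7 : 2 ^ j - 2 ^ i ≤ 7 := by
    interval_cases j <;> interval_cases i <;> norm_num
  have hr7 : r ≤ 7 := le_trans (Nat.le_of_dvd hpos hd) h7
  clear hmod hle hpos h7
  interval_cases r <;> interval_cases j <;> interval_cases i <;> first | omega | (norm_num at hr)

/-- an element of odd prime power order normalizing a small 2-group centralizes it -/
theorem prime_pow_case {G : Type*} [Group G] [Finite G] (h12 : ¬ 12 ∣ Nat.card G)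
    (h16 : ¬ 16 ∣ Nat.card G) (h56 : ¬ 56 ∣ Nat.card G) (Q : Subgroup G) (hQ : IsPGroup 2 Q)
    (g : G) (hg : g ∈ Subgroup.normalizer (Q : Set G)) (r k : ℕ) (hr : r.Prime) (hr2 : r ≠ 2)
    (hgo : orderOf g = r ^ k) : g ∈ Subgroup.centralizer (Q : Set G) := by
  have : Fact r.Prime := ⟨hr⟩
  by_contra hnc
  -- the action of `zpowers g` on `Q`
  have hnorm : ∀ x ∈ Subgroup.zpowers g, ∀ q ∈ Q, x * q * x⁻¹ ∈ Q := by
    intro x hx q hq
    have hxN : x ∈ Subgroup.normalizer (Q : Set G) :=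
      (Subgroup.zpowers_le.mpr hg) hx
    exact (Subgroup.mem_normalizer_iff.mp hxN q).mp hq
  let act : MulAction (Subgroup.zpowers g) Q :=
    { smul := fun x q => ⟨x * q * x⁻¹, hnorm x x.2 q q.2⟩
      one_smul := by
        intro q
        apply Subtype.ext
        show ((1 : Subgroup.zpowers g) : G) * q * ((1 : Subgroup.zpowers g) : G)⁻¹ = q
        simp
      mul_smul := by
        intro x y q
        apply Subtype.ext
        show ((x * y : Subgroup.zpowers g) : G) * q * ((x * y : Subgroup.zpowers g) : G)⁻¹ =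
          (x : G) * ((y : G) * q * (y : G)⁻¹) * (x : G)⁻¹
        simp [mul_assoc] }
  have hsmul : ∀ (x : Subgroup.zpowers g) (q : Q), ((x • q : Q) : G) = x * q * (x : G)⁻¹ :=
    fun _ _ => rfl
  have hR : IsPGroup r (Subgroup.zpowers g) := by
    apply IsPGroup.of_card (n := k)
    rw [Nat.card_zpowers, hgo]
  have hmod := hR.card_modEq_card_fixedPoints Q
  -- fixed points = `Q ⊓ centralizer {g}`
  set F : Subgroup G := Q ⊓ Subgroup.centralizer ({g} : Set G) with hF
  have hFcard : Nat.card (MulAction.fixedPoints (Subgroup.zpowers g) Q) = Nat.card F := by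
    apply Nat.card_congr
    refine
      { toFun := fun q => ⟨(q : Q), ?_⟩
        invFun := fun f => ⟨⟨(f : G), (Subgroup.mem_inf.mp f.2).1⟩, ?_⟩
        left_inv := fun q => rfl
        right_inv := fun f => rfl }
    · refine Subgroup.mem_inf.mpr ⟨(q : Q).2, ?_⟩
      rw [Subgroup.mem_centralizer_iff]
      intro w hw
      rw [Set.mem_singleton_iff] at hw
      subst hw
      have h1 := q.2 ⟨w, Subgroup.mem_zpowers w⟩
      have h2 := congrArg Subtype.val h1
      rw [hsmul] at h2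
      have h3 : w * ((q : Q) : G) = (w * ((q : Q) : G) * w⁻¹) * w := by group
      rw [h3]
      exact congrArg (· * w) h2
    · intro x
      apply Subtype.ext
      rw [hsmul]
      have hx : (x : G) ∈ Subgroup.centralizer ({(f : G)} : Set G) := by
        have hle : Subgroup.zpowers g ≤ Subgroup.centralizer ({(f : G)} : Set G) := by
          rw [Subgroup.zpowers_le, Subgroup.mem_centralizer_iff]
          intro w hw
          rw [Set.mem_singleton_iff] at hw
          subst hw
          exact ((Subgroup.mem_centralizer_iff.mp (Subgroup.mem_inf.mp f.2).2) g rfl).symm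
        exact hle x.2
      have h1 := Subgroup.mem_centralizer_iff.mp hx (f : G) rfl
      show (x : G) * (f : G) * (x : G)⁻¹ = (f : G)
      rw [← h1, mul_inv_cancel_right]
  rw [hFcard] at hmod
  -- orders
  obtain ⟨j, hj⟩ := (IsPGroup.iff_card).mp hQ
  have hFQ : F ≤ Q := inf_le_left
  have hFp : IsPGroup 2 F := hQ.to_le hFQ
  obtain ⟨i, hi⟩ := (IsPGroup.iff_card).mp hFp
  have hj3 : j ≤ 3 := by
    by_contra hlt
    push Not at hlt
    apply h16
    have h1 : (2 : ℕ) ^ 4 ∣ 2 ^ j := pow_dvd_pow 2 hlt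
    rw [← hj] at h1
    exact (by norm_num : (16 : ℕ) = 2 ^ 4) ▸ h1.trans (Subgroup.card_subgroup_dvd_card Q)
  have hFne : F ≠ Q := by
    intro heq
    apply hnc
    rw [Subgroup.mem_centralizer_iff]
    intro q hq
    have : q ∈ F := by rw [heq]; exact hq
    exact ((Subgroup.mem_centralizer_iff.mp (Subgroup.mem_inf.mp this).2) g rfl).symm
  have hij : i < j := by
    have hlt : Nat.card F < Nat.card Q := by
      by_contra hge
      push Not at hge
      exact hFne (Subgroup.eq_of_le_of_card_ge hFQ hge)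
    rw [hi, hj] at hlt
    exact (Nat.pow_lt_pow_iff_right (by norm_num)).mp hlt
  rw [hi, hj] at hmod
  have hk0 : k ≠ 0 := by
    rintro rfl
    rw [pow_zero, orderOf_eq_one_iff] at hgo
    apply hnc
    rw [hgo]
    exact Subgroup.one_mem _
  have hrn : r ∣ Nat.card G := by
    have h1 : r ∣ orderOf g := by rw [hgo]; exact dvd_pow_self r hk0
    exact h1.trans (orderOf_dvd_natCard g)
  have hQn : 2 ^ j ∣ Nat.card G := by rw [← hj]; exact Subgroup.card_subgroup_dvd_card Q
  rcases numeric r i j hr hr2 hj3 hij hmod with ⟨rfl, hj2⟩ | ⟨rfl, rfl⟩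
  · apply h12
    have h4 : 4 ∣ Nat.card G := dvd_trans (by
      have : (2 : ℕ) ^ 2 ∣ 2 ^ j := pow_dvd_pow 2 hj2
      exact (by norm_num : (4 : ℕ) = 2 ^ 2) ▸ this) hQn
    exact (by norm_num : (12 : ℕ) = 4 * 3) ▸
      Nat.Coprime.mul_dvd_of_dvd_of_dvd (by norm_num) h4 hrn
  · apply h56
    have h8 : 8 ∣ Nat.card G := (by norm_num : (8 : ℕ) = 2 ^ 3) ▸ hQn
    exact (by norm_num : (56 : ℕ) = 8 * 7) ▸
      Nat.Coprime.mul_dvd_of_dvd_of_dvd (by norm_num) h8 hrn


theorem general_case {G : Type*} [Group G] [Finite G] (h12 : ¬ 12 ∣ Nat.card G)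
    (h16 : ¬ 16 ∣ Nat.card G) (h56 : ¬ 56 ∣ Nat.card G) (Q : Subgroup G) (hQ : IsPGroup 2 Q)
    (m : ℕ) : ∀ g : G, g ∈ Subgroup.normalizer (Q : Set G) → orderOf g = m → m.Coprime 2 →
      g ∈ Subgroup.centralizer (Q : Set G) := by
  induction m using Nat.strong_induction_on with
  | _ m ih =>
  intro g hg hgo hcop
  have hm0 : m ≠ 0 := by
    rw [← hgo]; exact (orderOf_pos g).ne'
  by_cases hm1 : m = 1
  · rw [hm1, orderOf_eq_one_iff] at hgo
    rw [hgo]; exact Subgroup.one_mem _
  set r := m.minFac with hr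
  have hrp : r.Prime := Nat.minFac_prime hm1
  have hrm : r ∣ m := Nat.minFac_dvd m
  have hr2 : r ≠ 2 := by
    intro h2
    rw [h2] at hrm
    have : (2 : ℕ) ∣ Nat.gcd m 2 := Nat.dvd_gcd hrm (dvd_refl 2)
    rw [hcop] at this
    omega
  set k := m.factorization r with hk
  set s := ordCompl[r] m with hs
  have hms : r ^ k * s = m := Nat.ordProj_mul_ordCompl_eq_self m r
  have hk0 : k ≠ 0 := by
    rw [hk]
    exact (Nat.Prime.factorization_pos_of_dvd hrp hm0 hrm).ne'
  have hrk1 : 1 < r ^ k := Nat.one_lt_pow hk0 hrp.one_lt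
  have hs0 : 0 < s := Nat.ordCompl_pos r hm0
  by_cases hs1 : s = 1
  · rw [hs1, mul_one] at hms
    exact prime_pow_case h12 h16 h56 Q hQ g hg r k hrp hr2 (by rw [hgo, hms])
  have hcoprs : (r ^ k).Coprime s := Nat.Coprime.pow_left k (Nat.coprime_ordCompl hrp hm0)
  -- the two parts
  have ha : orderOf (g ^ (r ^ k)) = s := by
    rw [orderOf_pow_of_dvd (by positivity) (by rw [hgo, ← hms]; exact Dvd.intro _ rfl), hgo]
  have hb : orderOf (g ^ s) = r ^ k := by
    rw [orderOf_pow_of_dvd hs0.ne' (by rw [hgo, ← hms]; exact Dvd.intro_left _ rfl), hgo]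
    exact Nat.div_eq_of_eq_mul_left hs0 hms.symm
  have hslt : s < m := by
    rw [← hms]; nlinarith
  have hrklt : r ^ k < m := by
    rw [← hms]
    have : 2 ≤ s := by omega
    nlinarith
  have hN := Subgroup.normalizer (Q : Set G)
  have haC := ih s hslt (g ^ (r ^ k)) (Subgroup.pow_mem _ hg _) ha
    (Nat.Coprime.coprime_dvd_left (by rw [← hms]; exact Dvd.intro_left _ rfl) hcop)
  have hbC := ih (r ^ k) hrklt (g ^ s) (Subgroup.pow_mem _ hg _) hb
    (Nat.Coprime.coprime_dvd_left (by rw [← hms]; exact Dvd.intro _ rfl) hcop)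
  have hbez := Nat.gcd_eq_gcd_ab (r ^ k) s
  rw [hcoprs] at hbez
  have hg1 : g = (g ^ (r ^ k)) ^ (Nat.gcdA (r ^ k) s) * (g ^ s) ^ (Nat.gcdB (r ^ k) s) := by
    rw [← zpow_natCast g (r ^ k), ← zpow_natCast g s, ← zpow_mul, ← zpow_mul, ← zpow_add, ← hbez]
    simp
  rw [hg1]
  exact Subgroup.mul_mem _ (Subgroup.zpow_mem _ haC _) (Subgroup.zpow_mem _ hbC _)

/-- A non-abelian finite simple group of even order has order divisible by 12, 16 or 56. -/
theorem result {G : Type*} [Group G] [Finite G] [IsSimpleGroup G]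
    (hG : ¬ IsMulCommutative G) (h2 : Even (Nat.card G)) :
    12 ∣ Nat.card G ∨ 16 ∣ Nat.card G ∨ 56 ∣ Nat.card G := by
  by_contra hcon
  push Not at hcon
  obtain ⟨h12, h16, h56⟩ := hcon
  have : Fact (Nat.Prime 2) := ⟨Nat.prime_two⟩
  have hLC : LocalCentral 2 G := by
    intro Q hQ g hg hcop
    exact general_case h12 h16 h56 Q hQ _ g hg rfl hcop
  obtain ⟨P⟩ : Nonempty (Sylow 2 G) := inferInstance
  obtain ⟨K, hKn, hK⟩ := exists_normal_complement_of_localCentral hLC P
  have hcard := hK.card_mul_card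
  rcases hKn.eq_bot_or_eq_top with hb | ht
  · -- G is a 2-group
    rw [hb, Subgroup.card_bot, one_mul] at hcard
    have hPtop : (P : Subgroup G) = ⊤ := Subgroup.eq_top_of_card_eq _ hcard
    have hpg : IsPGroup 2 G := by
      intro g
      obtain ⟨k, hk⟩ := P.2 ⟨g, by rw [hPtop]; exact Subgroup.mem_top g⟩
      refine ⟨k, ?_⟩
      have := congrArg Subtype.val hk
      simpa using this
    have hnil : Group.IsNilpotent G := hpg.isNilpotent
    have hsol : Group.IsSolvable G := inferInstance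
    apply hG
    exact IsMulCommutative.of_comm (IsSimpleGroup.comm_iff_isSolvable.mpr hsol)
  · rw [ht, Subgroup.card_top] at hcard
    have hP1 : Nat.card (P : Subgroup G) = 1 := by
      have hpos : 0 < Nat.card G := Nat.card_pos
      nlinarith [Nat.eq_of_mul_eq_mul_left hpos (by rw [hcard, mul_one] : Nat.card G * Nat.card (P : Subgroup G) = Nat.card G * 1)]
    have hdvd : 2 ∣ Nat.card (P : Subgroup G) := by
      rw [P.card_eq_multiplicity]
      apply dvd_pow_self
      exact (Nat.Prime.factorization_pos_of_dvd Nat.prime_two Nat.card_pos.ne' h2.two_dvd).ne'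
    rw [hP1] at hdvd
    omega

end Cfsg.Agent.S0499
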