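import Mathlib
import Cfsg.Statements.S0568
import Cfsg.Agent.S0545
import Cfsg.Agent.Lib.Helper4.MinNormal

set_option autoImplicit false
open Cfsg

namespace Cfsg.Agent.S0568

open Pointwise
open Cfsg.Agent.Lib.Helper4 Cfsg.Agent.Lib.Helper1
open scoped commutatorElement

/-- a `p`-subgroup acting on a nontrivial normal `p`-subgroup has a nontrivial fixed point -/
theorem exists_fixed {G : Type*} [Group G] [Finite G] {p : ℕ} [Fact p.Prime] (B Q : Subgroup G)
    [B.Normal] (hB : IsPGroup p B) (hBne : B ≠ ⊥) (hQ : IsPGroup p Q) :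
    ∃ b ∈ B, b ≠ 1 ∧ ∀ x ∈ Q, x * b = b * x := by
  let _ : MulAction Q B := MulAction.compHom B ((MulAut.conjNormal (H := B)).comp Q.subtype)
  have hsmul : ∀ (x : Q) (b : B), ((x • b : B) : G) = (x : G) * b * (x : G)⁻¹ := fun _ _ => rfl
  have hdvd : p ∣ Nat.card B := by
    rcases hB.card_eq_or_dvd with h | h
    · exact absurd (Subgroup.card_eq_one.mp h) hBne
    · exact h
  have h1 : (1 : B) ∈ MulAction.fixedPoints Q B := by
    intro x
    apply Subtype.ext
    rw [hsmul]
    simp
  obtain ⟨b, hb, hb1⟩ := hQ.exists_fixed_point_of_prime_dvd_card_of_fixed_point B hdvd h1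
  refine ⟨b, b.2, ?_, ?_⟩
  · intro h
    apply hb1
    exact Subtype.ext h.symm
  · intro x hx
    have := congrArg Subtype.val (hb ⟨x, hx⟩)
    rw [hsmul] at this
    calc x * b = (x * b * x⁻¹) * x := by group
      _ = b * x := by rw [this]

theorem inf_centralizer_eq_bot {G : Type*} [Group G] (B : Subgroup G) (hB : IsMinNormal B)
    (Y : Subgroup G) [Y.Normal] (hY : ¬ Y ≤ Subgroup.centralizer (B : Set G)) :
    B ⊓ Subgroup.centralizer (Y : Set G) = ⊥ := by
  have hBn : B.Normal := hB.1
  have hn : (B ⊓ Subgroup.centralizer (Y : Set G)).Normal := inferInstance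
  rcases hB.2.2 _ hn inf_le_left with h | h
  · exact h
  · exfalso
    apply hY
    rw [Subgroup.le_centralizer_iff]
    rw [← h]
    exact inf_le_right

/-- an eccentric minimal normal subgroup is avoided by the system normalizer -/
theorem avoid {G : Type*} [Group G] [Finite G] [Group.IsSolvable G] (K : Nat.Primes → Subgroup G)
    (hK : Cfsg.IsComplementSystem K) (B : Subgroup G) (hB : IsMinNormal B)
    (hcen : ¬ B ≤ Subgroup.center G) : B ⊓ Cfsg.systemNormalizer K = ⊥ := by
  have hBn : B.Normal := hB.1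
  obtain ⟨p, hp, hBp⟩ := hB.exists_isPGroup hB.le_centralizer
  have : Fact p.Prime := ⟨hp⟩
  set C := Subgroup.centralizer (B : Set G) with hC
  have hCn : C.Normal := inferInstance
  have hCtop : C ≠ ⊤ := by
    intro htop
    apply hcen
    intro b hb
    rw [Subgroup.mem_center_iff]
    intro g
    have : g ∈ C := by rw [htop]; exact Subgroup.mem_top g
    exact Subgroup.mem_centralizer_iff.mp this b hb |>.symm
  have hnt : Nontrivial (G ⧸ C) := by
    rw [← Finite.one_lt_card_iff_nontrivial, ← Subgroup.index_eq_card]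
    exact Subgroup.one_lt_index_of_ne_top hCtop
  obtain ⟨Yb, hYb⟩ := exists_minNormal (G := G ⧸ C)
  obtain ⟨r, hr, hYr⟩ := hYb.exists_isPGroup hYb.le_centralizer
  have : Fact r.Prime := ⟨hr⟩
  have hYbn : Yb.Normal := hYb.1
  set Y := Yb.comap (QuotientGroup.mk' C) with hY
  have hYn : Y.Normal := hYbn.comap _
  have hsurj : Function.Surjective (QuotientGroup.mk' C) := QuotientGroup.mk'_surjective C
  have hYC : ¬ Y ≤ C := by
    intro hle
    apply hYb.2.1
    rw [eq_bot_iff, ← Subgroup.map_comap_eq_self_of_surjective hsurj Yb]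
    rintro _ ⟨y, hy, rfl⟩
    rw [Subgroup.mem_bot, QuotientGroup.mk'_apply, QuotientGroup.eq_one_iff]
    exact hle hy
  have hbot := inf_centralizer_eq_bot B hB Y hYC
  -- the prime of `Y/C` differs from `p`
  have hrp : r ≠ p := by
    rintro rfl
    obtain ⟨Q⟩ : Nonempty (Sylow r G) := inferInstance
    obtain ⟨b, hbB, hb1, hbQ⟩ := exists_fixed B Q hBp hB.2.1 Q.2
    have hYle : Y ≤ (Q : Subgroup G) ⊔ C := by
      have h1 : Yb ≤ (Q : Subgroup G).map (QuotientGroup.mk' C) := by
        have := hYr.le_sylow_of_normal (Q.mapSurjective hsurj)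
        rwa [Sylow.coe_mapSurjective] at this
      have h2 := Subgroup.comap_mono (f := QuotientGroup.mk' C) h1
      rw [Subgroup.comap_map_eq, QuotientGroup.ker_mk'] at h2
      exact h2
    have hcent : (Q : Subgroup G) ⊔ C ≤ Subgroup.centralizer ({b} : Set G) := by
      refine sup_le ?_ ?_
      · intro x hx
        rw [Subgroup.mem_centralizer_iff]
        intro w hw
        rw [Set.mem_singleton_iff] at hw
        subst hw
        exact (hbQ x hx).symm
      · intro x hx
        rw [Subgroup.mem_centralizer_iff]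
        intro w hw
        rw [Set.mem_singleton_iff] at hw
        subst hw
        exact Subgroup.mem_centralizer_iff.mp hx w hbB
    have hb : b ∈ B ⊓ Subgroup.centralizer (Y : Set G) := by
      refine Subgroup.mem_inf.mpr ⟨hbB, ?_⟩
      rw [Subgroup.mem_centralizer_iff]
      intro y hy
      exact ((Subgroup.mem_centralizer_iff.mp (hcent (hYle hy))) b rfl).symm
    rw [hbot, Subgroup.mem_bot] at hb
    exact hb1 hb
  -- main argument
  rw [eq_bot_iff, ← hbot]
  intro b hb
  obtain ⟨hbB, hbD⟩ := Subgroup.mem_inf.mp hb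
  refine Subgroup.mem_inf.mpr ⟨hbB, ?_⟩
  let P : Nat.Primes := ⟨p, hp⟩
  have hbN : b ∈ Subgroup.normalizer (K P : Set G) := by
    have : Cfsg.systemNormalizer K ≤ Subgroup.normalizer (K P : Set G) := by
      unfold Cfsg.systemNormalizer
      exact iInf_le _ P
    exact this hbD
  have hBK : B ⊓ K P = ⊥ := by
    rw [← Subgroup.card_eq_one]
    obtain ⟨m, hm⟩ := (IsPGroup.iff_card).mp hBp
    have h1 : Nat.card ↥(B ⊓ K P) ∣ p ^ m := by
      rw [← hm]; exact Subgroup.card_dvd_of_le inf_le_left
    have h2 : Nat.card ↥(B ⊓ K P) ∣ Nat.card (K P) := Subgroup.card_dvd_of_le inf_le_right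
    have hcop : (p ^ m).Coprime (Nat.card (K P)) := by
      apply Nat.Coprime.pow_left
      rw [Nat.Prime.coprime_iff_not_dvd hp]
      exact not_dvd_card_of_complement P hp (K P) (hK P)
    exact Nat.eq_one_of_dvd_coprimes hcop h1 h2
  have hbK : K P ≤ Subgroup.centralizer ({b} : Set G) := by
    intro k hk
    rw [Subgroup.mem_centralizer_iff]
    intro w hw
    rw [Set.mem_singleton_iff] at hw
    subst hw
    have h1 : w * k * w⁻¹ * k⁻¹ ∈ B ⊓ K P := by
      refine Subgroup.mem_inf.mpr ⟨?_, ?_⟩
      · have h3 : w * k * w⁻¹ * k⁻¹ = w * (k * w⁻¹ * k⁻¹) := by group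
        rw [h3]
        exact B.mul_mem hbB (hBn.conj_mem _ (B.inv_mem hbB) k)
      · exact (K P).mul_mem ((Subgroup.mem_normalizer_iff.mp hbN k).mp hk) ((K P).inv_mem hk)
    rw [hBK, Subgroup.mem_bot] at h1
    calc w * k = (w * k * w⁻¹ * k⁻¹) * (k * w) := by group
      _ = k * w := by rw [h1, one_mul]
  have hbC : C ≤ Subgroup.centralizer ({b} : Set G) := by
    intro x hx
    rw [Subgroup.mem_centralizer_iff]
    intro w hw
    rw [Set.mem_singleton_iff] at hw
    subst hw
    exact Subgroup.mem_centralizer_iff.mp hx w hbB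
  have hYle : Y ≤ K P ⊔ C := by
    have hcs := Cfsg.Agent.S0545.isComplementSystem_map K hK C P
    have h1 : Yb ≤ (K P).map (QuotientGroup.mk' C) := by
      apply le_of_normal_of_coprime_index
      obtain ⟨m, hm⟩ := (IsPGroup.iff_card).mp hYr
      rw [hm]
      have hcs' : ((K P).map (QuotientGroup.mk' C)).index =
          p ^ (Nat.card (G ⧸ C)).factorization p := hcs
      rw [hcs']
      apply Nat.Coprime.pow
      rw [Nat.coprime_primes hr hp]
      exact hrp
    have h2 := Subgroup.comap_mono (f := QuotientGroup.mk' C) h1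
    rw [Subgroup.comap_map_eq, QuotientGroup.ker_mk'] at h2
    exact h2
  rw [Subgroup.mem_centralizer_iff]
  intro y hy
  exact ((Subgroup.mem_centralizer_iff.mp ((sup_le hbK hbC) (hYle hy))) b rfl).symm


/-- Let D be the system normalizer of a Hall complement system of a finite solvable group G, and let A < B be normal subgroups with no normal subgroup of G strictly between them (a chief factor). If G centralizes B modulo A then B ≤ A ⊔ D (D covers the factor); otherwise B ∩ D ≤ A (D avoids it). -/
theorem result {G : Type*} [Group G] [Finite G] [Group.IsSolvable G] (K : Nat.Primes → Subgroup G) (hK : Cfsg.IsComplementSystem K) (A B : Subgroup G) [A.Normal] [B.Normal] (hAB : A < B) (hchief : ∀ N : Subgroup G, N.Normal → A ≤ N → N ≤ B → N = A ∨ N = B) : (⁅B, (⊤ : Subgroup G)⁆ ≤ A → B ≤ A ⊔ Cfsg.systemNormalizer K) ∧ (¬ ⁅B, (⊤ : Subgroup G)⁆ ≤ A → B ⊓ Cfsg.systemNormalizer K ≤ A) := by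
  have hsurj : Function.Surjective (QuotientGroup.mk' A) := QuotientGroup.mk'_surjective A
  have hmain := Cfsg.Agent.S0545.main K hK A
  have hone : ∀ x : G, (QuotientGroup.mk' A) x = 1 ↔ x ∈ A := by
    intro x
    rw [QuotientGroup.mk'_apply, QuotientGroup.eq_one_iff]
  constructor
  · intro hcen b hb
    have hbc : (QuotientGroup.mk' A) b ∈ Subgroup.center (G ⧸ A) := by
      rw [Subgroup.mem_center_iff]
      intro y
      obtain ⟨g, rfl⟩ := hsurj y
      have h1 : ⁅b, g⁆ ∈ A := hcen (Subgroup.commutator_mem_commutator hb (Subgroup.mem_top g))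
      have h2 : b * g = ⁅b, g⁆ * (g * b) := by rw [commutatorElement_def]; group
      calc (QuotientGroup.mk' A) g * (QuotientGroup.mk' A) b
          = 1 * (QuotientGroup.mk' A) (g * b) := by rw [one_mul, map_mul]
        _ = (QuotientGroup.mk' A) ⁅b, g⁆ * (QuotientGroup.mk' A) (g * b) := by
            rw [(hone _).mpr h1]
        _ = (QuotientGroup.mk' A) (b * g) := by rw [← map_mul, ← h2]
        _ = (QuotientGroup.mk' A) b * (QuotientGroup.mk' A) g := map_mul _ _ _
    have hbD : (QuotientGroup.mk' A) b ∈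
        Cfsg.systemNormalizer (fun p => (K p).map (QuotientGroup.mk' A)) := by
      unfold Cfsg.systemNormalizer
      rw [Subgroup.mem_iInf]
      intro p
      exact Subgroup.center_le_normalizer _ hbc
    rw [hmain] at hbD
    obtain ⟨d, hd, hdb⟩ := hbD
    have h3 : b * d⁻¹ ∈ A := by
      rw [← hone, map_mul, map_inv, hdb, mul_inv_cancel]
    have h4 : b = (b * d⁻¹) * d := by group
    rw [h4]
    exact Subgroup.mul_mem_sup h3 hd
  · intro hnc
    set Bb := B.map (QuotientGroup.mk' A) with hBb
    have hBbn : Bb.Normal := Subgroup.Normal.map inferInstance _ hsurj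
    have hcomap : Bb.comap (QuotientGroup.mk' A) = B := by
      rw [hBb, Subgroup.comap_map_eq, QuotientGroup.ker_mk', sup_eq_left.mpr hAB.le]
    have hBbne : Bb ≠ ⊥ := by
      intro h
      apply hAB.not_ge
      intro x hx
      rw [← hone]
      have : (QuotientGroup.mk' A) x ∈ Bb := Subgroup.mem_map_of_mem _ hx
      rw [h, Subgroup.mem_bot] at this
      exact this
    have hmin : IsMinNormal Bb := by
      refine ⟨hBbn, hBbne, ?_⟩
      intro Nb hNbn hNbB
      have hNn : (Nb.comap (QuotientGroup.mk' A)).Normal := hNbn.comap _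
      have hAN : A ≤ Nb.comap (QuotientGroup.mk' A) := by
        intro x hx
        rw [Subgroup.mem_comap, (hone x).mpr hx]; exact Nb.one_mem
      have hNB : Nb.comap (QuotientGroup.mk' A) ≤ B := by
        rw [← hcomap]; exact Subgroup.comap_mono hNbB
      rcases hchief _ hNn hAN hNB with h | h
      · left
        rw [← Subgroup.map_comap_eq_self_of_surjective hsurj Nb, h]
        exact QuotientGroup.map_mk'_self A
      · right
        rw [← Subgroup.map_comap_eq_self_of_surjective hsurj Nb, h]
    have hcen : ¬ Bb ≤ Subgroup.center (G ⧸ A) := by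
      intro hle
      apply hnc
      rw [Subgroup.commutator_le]
      intro b hb g _
      have h1 := hle (Subgroup.mem_map_of_mem (QuotientGroup.mk' A) hb)
      rw [Subgroup.mem_center_iff] at h1
      have h2 := h1 ((QuotientGroup.mk' A) g)
      rw [← hone, commutatorElement_def, map_mul, map_mul, map_mul, map_inv, map_inv,
        mul_inv_eq_one, mul_inv_eq_iff_eq_mul]
      exact h2.symm
    have hav := avoid _ (Cfsg.Agent.S0545.isComplementSystem_map K hK A) Bb hmin hcen
    intro x hx
    obtain ⟨hxB, hxD⟩ := Subgroup.mem_inf.mp hx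
    rw [← hone]
    have h1 : (QuotientGroup.mk' A) x ∈
        Bb ⊓ systemNormalizer (fun p => (K p).map (QuotientGroup.mk' A)) := by
      refine Subgroup.mem_inf.mpr ⟨Subgroup.mem_map_of_mem _ hxB, ?_⟩
      rw [hmain]; exact Subgroup.mem_map_of_mem _ hxD
    rw [hav, Subgroup.mem_bot] at h1
    exact h1

end Cfsg.Agent.S0568
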