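import Cfsg.Statements.S0502
import Mathlib
import Cfsg.Agent.S0568

set_option autoImplicit false
open Cfsg

namespace Cfsg.Agent.S0502

/-- the four-group generated by two commuting involutions -/
def fourSub {P : Type*} [Group P] (x y : P) (hx : x * x = 1) (hy : y * y = 1) (hc : x * y = y * x) :
    Subgroup P where
  carrier := {z | z = 1 ∨ z = x ∨ z = y ∨ z = x * y}
  one_mem' := Or.inl rfl
  mul_mem' := by
    have h1 : x * (x * y) = y := by rw [← mul_assoc, hx, one_mul]
    have h2 : y * (x * y) = x := by rw [hc, ← mul_assoc, hy, one_mul]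
    have h3 : x * y * x = y := by rw [hc, mul_assoc, hx, mul_one]
    have h4 : x * y * y = x := by rw [mul_assoc, hy, mul_one]
    have h5 : x * y * (x * y) = 1 := by rw [← mul_assoc, h3, hy]
    rintro a b (rfl | rfl | rfl | rfl) (rfl | rfl | rfl | rfl)
    · left; rw [mul_one]
    · right; left; rw [one_mul]
    · right; right; left; rw [one_mul]
    · right; right; right; rw [one_mul]
    · right; left; rw [mul_one]
    · left; exact hx
    · right; right; right; rfl
    · right; right; left; exact h1
    · right; right; left; rw [mul_one]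
    · right; right; right; exact hc.symm
    · left; exact hy
    · right; left; exact h2
    · right; right; right; rw [mul_one]
    · right; right; left; exact h3
    · right; left; exact h4
    · left; exact h5
  inv_mem' := by
    have h5 : x * y * (x * y) = 1 := by
      rw [← mul_assoc, show x * y * x = y by rw [hc, mul_assoc, hx, mul_one], hy]
    rintro a (rfl | rfl | rfl | rfl)
    · left; exact inv_one
    · right; left; exact inv_eq_of_mul_eq_one_right hx
    · right; right; left; exact inv_eq_of_mul_eq_one_right hy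
    · right; right; right; exact inv_eq_of_mul_eq_one_right h5

theorem mem_fourSub {P : Type*} [Group P] (x y : P) (hx : x * x = 1) (hy : y * y = 1) (hc : x * y = y * x)
    (z : P) : z ∈ fourSub x y hx hy hc ↔ z = 1 ∨ z = x ∨ z = y ∨ z = x * y := Iff.rfl

theorem fourSub_isKleinFour {P : Type*} [Group P] (x y : P) (hx : x * x = 1) (hy : y * y = 1)
    (hc : x * y = y * x) (hx1 : x ≠ 1) (hy1 : y ≠ 1) (hxy : x ≠ y) :
    IsKleinFour (fourSub x y hx hy hc) := by
  have hcard : Nat.card (fourSub x y hx hy hc) = 4 := by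
    have hset : ((fourSub x y hx hy hc : Subgroup P) : Set P) = {1, x, y, x * y} := by
      ext z
      simp [fourSub]
    show Nat.card ((fourSub x y hx hy hc : Subgroup P) : Set P) = 4
    rw [Nat.card_coe_set_eq, hset]
    have h1 : x * y ≠ y := by
      intro h; apply hx1; exact mul_eq_right.1 h
    have h2 : x * y ≠ x := by
      intro h; apply hy1; exact mul_eq_left.1 h
    have h3 : x * y ≠ 1 := by
      intro h; apply hxy
      have : x⁻¹ = y := inv_eq_of_mul_eq_one_right h
      rw [← this]; exact (inv_eq_of_mul_eq_one_right hx).symm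
    rw [Set.ncard_insert_of_notMem, Set.ncard_insert_of_notMem, Set.ncard_insert_of_notMem,
      Set.ncard_singleton]
    · simp only [Set.mem_singleton_iff]; exact fun h => h1 h.symm
    · simp only [Set.mem_insert_iff, Set.mem_singleton_iff, not_or]
      exact ⟨hxy, fun h => h2 h.symm⟩
    · simp only [Set.mem_insert_iff, Set.mem_singleton_iff, not_or]
      exact ⟨fun h => hx1 h.symm, fun h => hy1 h.symm, fun h => h3 h.symm⟩
  refine ⟨hcard, ?_⟩
  have hfin : Finite (fourSub x y hx hy hc) := Nat.finite_of_card_ne_zero (by rw [hcard]; norm_num)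
  have : Nontrivial (fourSub x y hx hy hc) := by
    rw [← Finite.one_lt_card_iff_nontrivial, hcard]; norm_num
  rw [Monoid.exponent_eq_prime_iff Nat.prime_two]
  rintro ⟨g, hg⟩ hg1
  apply orderOf_eq_prime
  · apply Subtype.ext
    show g ^ 2 = 1
    rw [pow_two]
    rcases hg with rfl | rfl | rfl | rfl
    · rw [mul_one]
    · exact hx
    · exact hy
    · rw [← mul_assoc, show x * y * x = y by rw [hc, mul_assoc, hx, mul_one], hy]
  · exact hg1

/-- an involution acting on a normal elementary abelian `2`-subgroup of order more than four fixes at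
least two distinct non-identity elements -/
theorem exists_two_fixed {P : Type*} [Group P] [Finite P] (E : Subgroup P) [hEn : E.Normal]
    (hcomm : ∀ a ∈ E, ∀ b ∈ E, a * b = b * a) (hE2 : ∀ e ∈ E, e * e = 1) (hE5 : 5 ≤ Nat.card E)
    (u : P) (hu : u * u = 1) :
    ∃ x ∈ E, ∃ y ∈ E, x ≠ 1 ∧ y ≠ 1 ∧ x ≠ y ∧ u * x = x * u ∧ u * y = y * u := by
  have huinv : u⁻¹ = u := inv_eq_of_mul_eq_one_right hu
  have hconj : ∀ e ∈ E, u * e * u⁻¹ ∈ E := fun e he => hEn.conj_mem e he u
  set f : E →* P := MonoidHom.mk' (fun e => (e : P) * (u * e * u⁻¹)) (by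
    intro a b
    have h1 := hcomm (b : P) b.2 (u * a * u⁻¹) (hconj a a.2)
    calc ((a * b : E) : P) * (u * ((a * b : E) : P) * u⁻¹)
        = (a : P) * ((b : P) * (u * a * u⁻¹)) * (u * b * u⁻¹) := by
          rw [Subgroup.coe_mul]; group
      _ = (a : P) * ((u * a * u⁻¹) * (b : P)) * (u * b * u⁻¹) := by rw [h1]
      _ = (a : P) * (u * a * u⁻¹) * ((b : P) * (u * b * u⁻¹)) := by group) with hf
  have hfapp : ∀ e : E, f e = (e : P) * (u * e * u⁻¹) := fun e => rfl
  set C' : Subgroup P := E ⊓ Subgroup.centralizer ({u} : Set P) with hC'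
  have hmemC' : ∀ z, z ∈ C' ↔ z ∈ E ∧ u * z = z * u := by
    intro z
    rw [hC', Subgroup.mem_inf, Subgroup.mem_centralizer_iff]
    constructor
    · rintro ⟨h1, h2⟩
      exact ⟨h1, h2 u rfl⟩
    · rintro ⟨h1, h2⟩
      refine ⟨h1, fun h hh => ?_⟩
      rw [Set.mem_singleton_iff.1 hh]; exact h2
  have hker : f.ker = C'.subgroupOf E := by
    ext e
    rw [MonoidHom.mem_ker, Subgroup.mem_subgroupOf, hmemC', hfapp]
    have he2 := hE2 e e.2
    constructor
    · intro h
      refine ⟨e.2, ?_⟩
      have h1 : u * e * u⁻¹ = (e : P)⁻¹ := (inv_eq_of_mul_eq_one_right h).symm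
      rw [inv_eq_of_mul_eq_one_right he2] at h1
      calc u * e = u * e * u⁻¹ * u := by group
        _ = e * u := by rw [h1]
    · rintro ⟨_, h⟩
      rw [h, mul_assoc, mul_inv_cancel, mul_one]
      exact he2
  have hrange : f.range ≤ C' := by
    rintro _ ⟨e, rfl⟩
    rw [hmemC', hfapp]
    refine ⟨E.mul_mem e.2 (hconj e e.2), ?_⟩
    have h1 := hcomm (e : P) e.2 (u * e * u⁻¹) (hconj e e.2)
    rw [huinv] at h1 ⊢
    calc u * ((e : P) * (u * e * u)) = (u * e * u) * e * u := by group
      _ = (e : P) * (u * e * u) * u := by rw [h1]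
  have hcard : Nat.card E ≤ Nat.card C' * Nat.card C' := by
    rw [← Subgroup.card_mul_index f.ker, Subgroup.index_ker, hker]
    apply Nat.mul_le_mul
    · rw [Nat.card_congr (Subgroup.subgroupOfEquivOfLe (inf_le_left : C' ≤ E)).toEquiv]
    · exact Subgroup.card_le_of_le hrange
  have h3 : 2 < Nat.card C' := by
    by_contra h
    push Not at h
    have : Nat.card C' * Nat.card C' ≤ 2 * 2 := Nat.mul_le_mul h h
    omega
  have : Fintype C' := Fintype.ofFinite _
  rw [Nat.card_eq_fintype_card, Fintype.two_lt_card_iff] at h3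
  obtain ⟨a, b, c, hab, hac, hbc⟩ := h3
  have ha := (hmemC' a).1 a.2
  have hb := (hmemC' b).1 b.2
  have hc := (hmemC' c).1 c.2
  have hmulC : ∀ z w : P, (z ∈ E ∧ u * z = z * u) → (w ∈ E ∧ u * w = w * u) →
      (z⁻¹ * w ∈ E ∧ u * (z⁻¹ * w) = (z⁻¹ * w) * u) := by
    rintro z w ⟨hz, hzu⟩ ⟨hw, hwu⟩
    refine ⟨E.mul_mem (E.inv_mem hz) hw, ?_⟩
    have : Commute u (z⁻¹ * w) := (show Commute u z from hzu).inv_right.mul_right hwu
    exact this.eq
  obtain ⟨hx, hxu⟩ := hmulC a b ha hb
  obtain ⟨hy, hyu⟩ := hmulC a c ha hc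
  refine ⟨(a : P)⁻¹ * b, hx, (a : P)⁻¹ * c, hy, ?_, ?_, ?_, hxu, hyu⟩
  · intro h
    apply hab
    apply Subtype.ext
    exact inv_mul_eq_one.1 h
  · intro h
    apply hac
    apply Subtype.ext
    exact inv_mul_eq_one.1 h
  · intro h
    apply hbc
    apply Subtype.ext
    exact mul_left_cancel h

theorem result {P : Type*} [Group P] [Finite P] (hP : IsPGroup 2 P)
    (E : Subgroup P) [E.Normal] (hE : IsMulCommutative E) (hE2 : ∀ e ∈ E, e ^ 2 = 1) (hE8 : 8 ≤ Nat.card E) :
    Cfsg.IsFourConnected P := by
  have hcomm : ∀ a ∈ E, ∀ b ∈ E, a * b = b * a := fun a ha b hb =>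
    congrArg Subtype.val (mul_comm' (⟨a, ha⟩ : E) ⟨b, hb⟩)
  have hE2' : ∀ e ∈ E, e * e = 1 := fun e he => by rw [← pow_two]; exact hE2 e he
  set R : Subgroup P → Subgroup P → Prop := fun A B =>
    IsKleinFour A ∧ IsKleinFour B ∧ ∀ a ∈ A, ∀ b ∈ B, a * b = b * a with hR
  have hRsymm : ∀ A B, R A B → R B A := fun A B ⟨h1, h2, h3⟩ =>
    ⟨h2, h1, fun a ha b hb => (h3 b hb a ha).symm⟩
  have hrev : ∀ X Y, Relation.ReflTransGen R X Y → Relation.ReflTransGen R Y X := by
    intro X Y h
    induction h with
    | refl => exact Relation.ReflTransGen.refl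
    | tail _ hbc ih => exact (Relation.ReflTransGen.single (hRsymm _ _ hbc)).trans ih
  have hfour_sq : ∀ U : Subgroup P, IsKleinFour U → ∀ u ∈ U, u * u = 1 := by
    intro U hU u hu
    have h1 := Monoid.pow_exponent_eq_one (⟨u, hu⟩ : U)
    rw [hU.exponent_two] at h1
    have h2 : u ^ 2 = 1 := congrArg Subtype.val h1
    rw [← pow_two]; exact h2
  have hfour_comm : ∀ U : Subgroup P, IsKleinFour U → ∀ a ∈ U, ∀ b ∈ U, a * b = b * a := by
    intro U hU a ha b hb
    have ha' : a⁻¹ = a := inv_eq_of_mul_eq_one_right (hfour_sq U hU a ha)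
    have hb' : b⁻¹ = b := inv_eq_of_mul_eq_one_right (hfour_sq U hU b hb)
    have : a * b = (a * b)⁻¹ :=
      (inv_eq_of_mul_eq_one_right (hfour_sq U hU (a * b) (U.mul_mem ha hb))).symm
    rw [this, mul_inv_rev, ha', hb']
  have key : ∀ U : Subgroup P, IsKleinFour U →
      ∃ A : Subgroup P, IsKleinFour A ∧ A ≤ E ∧ Relation.ReflTransGen R U A := by
    intro U hU
    by_cases hUE : U ≤ E
    · exact ⟨U, hU, hUE, Relation.ReflTransGen.refl⟩
    · obtain ⟨u, huU, huE⟩ := SetLike.not_le_iff_exists.1 hUE
      have hE1 : E ≠ ⊥ := by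
        intro h
        rw [h, Subgroup.card_bot] at hE8
        omega
      obtain ⟨a, haE, ha1, haU⟩ :=
        Cfsg.Agent.S0568.exists_fixed E U (hP.to_subgroup E) hE1 (hP.to_subgroup U)
      have hu2 := hfour_sq U hU u huU
      have hu1 : u ≠ 1 := fun h => huE (h ▸ E.one_mem)
      have hua : u ≠ a := fun h => huE (h ▸ haE)
      obtain ⟨x, hxE, y, hyE, hx1, hy1, hxy, hxu, hyu⟩ :=
        exists_two_fixed E hcomm hE2' (by omega) u hu2
      have hW := fourSub_isKleinFour u a hu2 (hE2' a haE) (haU u huU) hu1 ha1 hua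
      have hA := fourSub_isKleinFour x y (hE2' x hxE) (hE2' y hyE) (hcomm x hxE y hyE) hx1 hy1 hxy
      refine ⟨_, hA, ?_, ?_⟩
      · intro z hz
        rcases hz with rfl | rfl | rfl | rfl
        · exact E.one_mem
        · exact hxE
        · exact hyE
        · exact E.mul_mem hxE hyE
      · refine Relation.ReflTransGen.trans (Relation.ReflTransGen.single ⟨hU, hW, ?_⟩)
          (Relation.ReflTransGen.single ⟨hW, hA, ?_⟩)
        · intro p hp w hw
          rcases hw with rfl | rfl | rfl | rfl
          · rw [mul_one, one_mul]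
          · exact hfour_comm U hU p hp _ huU
          · exact haU p hp
          · have h1 : Commute p u := hfour_comm U hU p hp u huU
            have h2 : Commute p a := haU p hp
            exact (h1.mul_right h2).eq
        · intro w hw z hz
          have hzE : z ∈ E := by
            rcases hz with rfl | rfl | rfl | rfl
            · exact E.one_mem
            · exact hxE
            · exact hyE
            · exact E.mul_mem hxE hyE
          have hzu : Commute u z := by
            rcases hz with rfl | rfl | rfl | rfl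
            · exact Commute.one_right u
            · exact hxu
            · exact hyu
            · exact (show Commute u x from hxu).mul_right hyu
          have hza : Commute a z := hcomm a haE z hzE
          rcases hw with rfl | rfl | rfl | rfl
          · rw [mul_one, one_mul]
          · exact hzu.eq
          · exact hza.eq
          · exact (hzu.mul_left hza).eq
  intro U V hU hV
  obtain ⟨A, hA, hAE, hUA⟩ := key U hU
  obtain ⟨B, hB, hBE, hVB⟩ := key V hV
  have hAB : R A B := ⟨hA, hB, fun a ha b hb => hcomm a (hAE ha) b (hBE hb)⟩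
  have hBV : Relation.ReflTransGen R B V := hrev V B hVB
  exact (hUA.trans (Relation.ReflTransGen.single hAB)).trans hBV

end Cfsg.Agent.S0502
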