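import Cfsg.Statements.S0514
import Mathlib
import Cfsg.Agent.Lib.Helper13.Frobenius
import Cfsg.Agent.S0538

set_option autoImplicit false
open Cfsg

namespace Cfsg.Agent.S0514

open DihedralGroup

/-- an element of additive order two in `ZMod n` is unique -/
theorem zmod_two_torsion_unique {n : ℕ} (c d : ZMod n) (hc : c + c = 0) (hd : d + d = 0)
    (hc0 : c ≠ 0) (hd0 : d ≠ 0) : c = d := by
  rcases Nat.eq_zero_or_pos n with rfl | hn
  · exfalso
    apply hc0
    have hc' : ∀ e : ℤ, e + e = 0 → e = 0 := by intro e h; omega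
    exact hc' c hc
  · have : NeZero n := ⟨hn.ne'⟩
    have key : ∀ e : ZMod n, e + e = 0 → e ≠ 0 → e.val + e.val = n := by
      intro e he he0
      have h1 : ((e.val + e.val : ℕ) : ZMod n) = 0 := by
        rw [Nat.cast_add, ZMod.natCast_zmod_val, he]
      rw [ZMod.natCast_eq_zero_iff] at h1
      have h2 : e.val < n := ZMod.val_lt e
      have h3 : 0 < e.val := by
        rw [Nat.pos_iff_ne_zero]
        intro h
        exact he0 ((ZMod.val_eq_zero e).1 h)
      obtain ⟨k, hk⟩ := h1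
      have hk1 : k = 1 := by
        have h4 : 0 < k := by
          rcases Nat.eq_zero_or_pos k with rfl | h
          · omega
          · exact h
        have h5 : k < 2 := by
          by_contra h6
          push Not at h6
          have : n * 2 ≤ n * k := Nat.mul_le_mul_left n h6
          omega
        omega
      rw [hk, hk1, mul_one]
    have h1 := key c hc hc0
    have h2 := key d hd hd0
    apply ZMod.val_injective n
    omega

/-- three distinct pairwise commuting involutions of a dihedral group multiply to one -/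
theorem dihedral_three_involutions {n : ℕ} (a b c : DihedralGroup n)
    (ha : a * a = 1) (hb : b * b = 1) (hc : c * c = 1)
    (hab : a * b = b * a) (hac : a * c = c * a) (hbc : b * c = c * b)
    (ha1 : a ≠ 1) (hb1 : b ≠ 1) (hc1 : c ≠ 1) (hab' : a ≠ b) (hac' : a ≠ c) (hbc' : b ≠ c) :
    a * b = c := by
  have hr : ∀ i : ZMod n, r i * r i = 1 → r i ≠ (1 : DihedralGroup n) → i + i = 0 ∧ i ≠ 0 := by
    intro i h1 h2
    rw [r_mul_r, one_def] at h1
    refine ⟨by injection h1, ?_⟩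
    rintro rfl
    exact h2 r_zero
  have hs : ∀ i j : ZMod n, sr i * sr j = sr j * sr i → sr i ≠ (sr j : DihedralGroup n) →
      (j - i) + (j - i) = 0 ∧ j - i ≠ 0 := by
    intro i j h1 h2
    rw [sr_mul_sr, sr_mul_sr] at h1
    have h3 : j - i = i - j := by injection h1
    refine ⟨by linear_combination h3, ?_⟩
    intro h4
    apply h2
    rw [sub_eq_zero.1 h4]
  cases a with
  | r i =>
    obtain ⟨hi, hi0⟩ := hr i ha ha1
    cases b with
    | r j =>
      obtain ⟨hj, hj0⟩ := hr j hb hb1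
      exact absurd (by rw [zmod_two_torsion_unique i j hi hj hi0 hj0]) hab'
    | sr j =>
      cases c with
      | r k =>
        obtain ⟨hk, hk0⟩ := hr k hc hc1
        exact absurd (by rw [zmod_two_torsion_unique i k hi hk hi0 hk0]) hac'
      | sr k =>
        obtain ⟨h1, h2⟩ := hs j k hbc hbc'
        have h3 := zmod_two_torsion_unique i (k - j) hi h1 hi0 h2
        rw [r_mul_sr]
        congr 1
        linear_combination h3 - hi
  | sr i =>
    cases b with
    | r j =>
      obtain ⟨hj, hj0⟩ := hr j hb hb1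
      cases c with
      | r k =>
        obtain ⟨hk, hk0⟩ := hr k hc hc1
        exact absurd (by rw [zmod_two_torsion_unique j k hj hk hj0 hk0]) hbc'
      | sr k =>
        obtain ⟨h1, h2⟩ := hs i k hac hac'
        have h3 := zmod_two_torsion_unique j (k - i) hj h1 hj0 h2
        rw [sr_mul_r]
        congr 1
        linear_combination h3
    | sr j =>
      obtain ⟨h1, h2⟩ := hs i j hab hab'
      cases c with
      | r k =>
        obtain ⟨hk, hk0⟩ := hr k hc hc1
        have h3 := zmod_two_torsion_unique k (j - i) hk h1 hk0 h2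
        rw [sr_mul_sr, h3]
      | sr k =>
        obtain ⟨h3, h4⟩ := hs i k hac hac'
        have h5 := zmod_two_torsion_unique (j - i) (k - i) h1 h3 h2 h4
        exfalso
        apply hbc'
        congr 1
        linear_combination h5

/-- the chain step: an element of odd order centralizing `Z` and normalizing `Q'` centralizes `Q'`
as soon as `Z` has "index at most two" in `Q'` and consists of `2`-elements -/
theorem chain_step {X : Type*} [Group X] (g : X) (Z Q' : Set X) (j : ℕ) (hj : Odd j) (hgj : g ^ j = 1)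
    (ha : ∀ z ∈ Z, g * z = z * g) (hb : ∀ x ∈ Q', g * x * g⁻¹ ∈ Q')
    (hd : ∀ x ∈ Q', ∀ y ∈ Q', x ∉ Z → y ∉ Z → x⁻¹ * y ∈ Z)
    (he : ∀ z ∈ Z, ∃ k : ℕ, z ^ (2 ^ k) = 1) : ∀ x ∈ Q', g * x = x * g := by
  intro x hx
  by_cases hxZ : x ∈ Z
  · exact ha x hxZ
  have hy : g * x * g⁻¹ ∈ Q' := hb x hx
  have hyZ : g * x * g⁻¹ ∉ Z := by
    intro h
    have h1 := ha _ h
    apply hxZ
    have : g * x * g⁻¹ = x := by
      have h2 : g * (g * x * g⁻¹) = g * x := by rw [h1]; group
      exact mul_left_cancel h2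
    rwa [this] at h
  have hz := hd x hx _ hy hxZ hyZ
  set z := x⁻¹ * (g * x * g⁻¹) with hzdef
  have hgx : g * x * g⁻¹ = x * z := by rw [hzdef]; group
  have hgz : g * z = z * g := ha z hz
  have hgzm : ∀ m : ℕ, g * z ^ m * g⁻¹ = z ^ m := by
    intro m
    have : Commute g (z ^ m) := (show Commute g z from hgz).pow_right m
    rw [this.eq]; group
  have hpow : ∀ m : ℕ, g ^ m * x * (g ^ m)⁻¹ = x * z ^ m := by
    intro m
    induction m with
    | zero => simp
    | succ m ih =>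
      calc g ^ (m + 1) * x * (g ^ (m + 1))⁻¹ = g * (g ^ m * x * (g ^ m)⁻¹) * g⁻¹ := by
            rw [pow_succ']; group
        _ = (g * x * g⁻¹) * (g * z ^ m * g⁻¹) := by rw [ih]; group
        _ = x * z ^ (m + 1) := by rw [hgx, hgzm, pow_succ', mul_assoc]
  have hzj : z ^ j = 1 := by
    have := hpow j
    rw [hgj] at this
    simpa using this.symm
  obtain ⟨k, hk⟩ := he z hz
  have hz1 : z = 1 := by
    have h1 := pow_gcd_eq_one.2 ⟨hzj, hk⟩
    have h2 : Nat.gcd j (2 ^ k) = 1 := by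
      apply Nat.Coprime.pow_right
      exact hj.coprime_two_right
    rwa [h2, pow_one] at h1
  rw [hz1, mul_one] at hgx
  calc g * x = g * x * g⁻¹ * g := by group
    _ = x * g := by rw [hgx]

/-- the core lemma: an odd-order element normalizing a `2`-group `Q` that embeds in a dihedral group and
fixing a central involution of `Q` centralizes `Q` -/
theorem core {X : Type*} [Group X] (Q : Subgroup X) (hQ : ∀ q ∈ Q, ∃ k : ℕ, q ^ (2 ^ k) = 1) {n : ℕ}
    (Ψ : X → DihedralGroup n) (hmul : ∀ a ∈ Q, ∀ b ∈ Q, Ψ (a * b) = Ψ a * Ψ b)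
    (hinj : ∀ a ∈ Q, ∀ b ∈ Q, Ψ a = Ψ b → a = b)
    (t : X) (htQ : t ∈ Q) (ht2 : t * t = 1) (ht1 : t ≠ 1) (htc : ∀ q ∈ Q, t * q = q * t)
    (g : X) (hg : g ∈ Subgroup.normalizer (Q : Set X)) (hgt : g * t = t * g)
    (j : ℕ) (hj : Odd j) (hgj : g ^ j = 1) : ∀ q ∈ Q, g * q = q * g := by
  have hΨ1 : Ψ 1 = 1 := by
    have := hmul 1 Q.one_mem 1 Q.one_mem
    rw [mul_one] at this
    exact mul_eq_left.1 this.symm
  have hΨinv : ∀ a ∈ Q, Ψ a⁻¹ = (Ψ a)⁻¹ := by
    intro a ha
    have := hmul a⁻¹ (Q.inv_mem ha) a ha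
    rw [inv_mul_cancel, hΨ1] at this
    exact eq_inv_of_mul_eq_one_left this.symm
  have hΨpow : ∀ a ∈ Q, ∀ k : ℕ, Ψ (a ^ k) = Ψ a ^ k := by
    intro a ha k
    induction k with
    | zero => simp [hΨ1]
    | succ k ih => rw [pow_succ, hmul _ (Q.pow_mem ha k) _ ha, ih, pow_succ]
  have hΨ1' : ∀ a ∈ Q, Ψ a = 1 → a = 1 := fun a ha h => hinj a ha 1 Q.one_mem (h.trans hΨ1.symm)
  have hconj : ∀ q ∈ Q, g * q * g⁻¹ ∈ Q := fun q hq => (Subgroup.mem_normalizer_iff.1 hg q).1 hq
  have hconj' : ∀ q ∈ Q, g⁻¹ * q * g ∈ Q := by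
    intro q hq
    rw [Subgroup.mem_normalizer_iff.1 hg]
    have : g * (g⁻¹ * q * g) * g⁻¹ = q := by group
    rwa [this]
  by_cases hexp : ∀ q ∈ Q, q * q = 1
  · -- exponent two
    have hcomm : ∀ a ∈ Q, ∀ b ∈ Q, a * b = b * a := by
      intro a ha b hb
      have ha' : a⁻¹ = a := inv_eq_of_mul_eq_one_right (hexp a ha)
      have hb' : b⁻¹ = b := inv_eq_of_mul_eq_one_right (hexp b hb)
      have : a * b = (a * b)⁻¹ := (inv_eq_of_mul_eq_one_right (hexp (a * b) (Q.mul_mem ha hb))).symm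
      rw [this, mul_inv_rev, ha', hb']
    apply chain_step g {z | z = 1 ∨ z = t} (Q : Set X) j hj hgj
    · rintro z (rfl | rfl)
      · simp
      · exact hgt
    · exact hconj
    · intro x hx y hy hxZ hyZ
      have hxZ' : x ≠ 1 ∧ x ≠ t := by
        constructor
        · intro h; exact hxZ (Or.inl h)
        · intro h; exact hxZ (Or.inr h)
      have hyZ' : y ≠ 1 ∧ y ≠ t := by
        constructor
        · intro h; exact hyZ (Or.inl h)
        · intro h; exact hyZ (Or.inr h)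
      by_cases hxy : x = y
      · left; rw [hxy, inv_mul_cancel]
      · right
        have hx' : x⁻¹ = x := inv_eq_of_mul_eq_one_right (hexp x hx)
        rw [hx']
        apply hinj _ (Q.mul_mem hx hy) _ htQ
        rw [hmul x hx y hy]
        apply dihedral_three_involutions (Ψ x) (Ψ y) (Ψ t)
        · rw [← hmul x hx x hx, hexp x hx, hΨ1]
        · rw [← hmul y hy y hy, hexp y hy, hΨ1]
        · rw [← hmul t htQ t htQ, ht2, hΨ1]
        · rw [← hmul x hx y hy, ← hmul y hy x hx, hcomm x hx y hy]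
        · rw [← hmul x hx t htQ, ← hmul t htQ x hx, htc x hx]
        · rw [← hmul y hy t htQ, ← hmul t htQ y hy, htc y hy]
        · intro h; exact hxZ'.1 (hΨ1' x hx h)
        · intro h; exact hyZ'.1 (hΨ1' y hy h)
        · intro h; exact ht1 (hΨ1' t htQ h)
        · intro h; exact hxy (hinj x hx y hy h)
        · intro h; exact hxZ'.2 (hinj x hx t htQ h)
        · intro h; exact hyZ'.2 (hinj y hy t htQ h)
    · rintro z (rfl | rfl)
      · exact ⟨0, by simp⟩
      · exact ⟨1, by rw [pow_one, pow_two, ht2]⟩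
  · -- there is an element of order greater than two
    push Not at hexp
    obtain ⟨x₀, hx₀Q, hx₀⟩ := hexp
    set isRot : X → Prop := fun q => q ∈ Q ∧ ∃ a : ZMod n, Ψ q = r a with hisRot
    have hrefl : ∀ q ∈ Q, ¬ isRot q → ∃ a : ZMod n, Ψ q = sr a := by
      intro q hq hn
      cases h : Ψ q with
      | r a => exact absurd ⟨hq, a, h⟩ hn
      | sr a => exact ⟨a, rfl⟩
    have hreflsq : ∀ q ∈ Q, (∃ a : ZMod n, Ψ q = sr a) → q * q = 1 := by
      rintro q hq ⟨a, ha⟩
      apply hΨ1' _ (Q.mul_mem hq hq)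
      rw [hmul q hq q hq, ha, sr_mul_self]
    have hrot_of_sq : ∀ q ∈ Q, q * q ≠ 1 → isRot q := by
      intro q hq hqq
      by_contra hn
      exact hqq (hreflsq q hq (hrefl q hq hn))
    have hcent : ∀ x, isRot x → x * x ≠ 1 → ∀ q ∈ Q, q * x = x * q → isRot q := by
      rintro x ⟨hxQ, a, ha⟩ hxx q hq hc
      by_contra hq'
      obtain ⟨b, hb⟩ := hrefl q hq hq'
      have h1 := congrArg Ψ hc
      rw [hmul q hq x hxQ, hmul x hxQ q hq, ha, hb, sr_mul_r, r_mul_sr] at h1
      have h2 : b + a = b - a := by injection h1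
      apply hxx
      apply hΨ1' _ (Q.mul_mem hxQ hxQ)
      rw [hmul x hxQ x hxQ, ha, r_mul_r, one_def]
      congr 1
      linear_combination h2
    have hrotcomm : ∀ a b, isRot a → isRot b → a * b = b * a := by
      rintro a b ⟨haQ, i, hi⟩ ⟨hbQ, k, hk⟩
      apply hinj _ (Q.mul_mem haQ hbQ) _ (Q.mul_mem hbQ haQ)
      rw [hmul a haQ b hbQ, hmul b hbQ a haQ, hi, hk, r_mul_r, r_mul_r, add_comm]
    have hrotconj : ∀ x, isRot x → isRot (g * x * g⁻¹) := by
      intro x hx
      have hx''Q : g⁻¹ * x₀ * g ∈ Q := hconj' x₀ hx₀Q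
      have hx''sq : (g⁻¹ * x₀ * g) * (g⁻¹ * x₀ * g) ≠ 1 := by
        intro h
        apply hx₀
        have h1 : g⁻¹ * (x₀ * x₀) * g = 1 := by rw [← h]; group
        have h2 : x₀ * x₀ = g * (g⁻¹ * (x₀ * x₀) * g) * g⁻¹ := by group
        rw [h2, h1]; group
      have hx''rot := hrot_of_sq _ hx''Q hx''sq
      have hc := hrotcomm x _ hx hx''rot
      apply hcent x₀ (hrot_of_sq x₀ hx₀Q hx₀) hx₀ _ (hconj x hx.1)
      calc g * x * g⁻¹ * x₀ = g * (x * (g⁻¹ * x₀ * g)) * g⁻¹ := by group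
        _ = g * ((g⁻¹ * x₀ * g) * x) * g⁻¹ := by rw [hc]
        _ = x₀ * (g * x * g⁻¹) := by group
    have hrotmulinv : ∀ a b, isRot a → isRot b → isRot (a⁻¹ * b) := by
      rintro a b ⟨haQ, i, hi⟩ ⟨hbQ, k, hk⟩
      refine ⟨Q.mul_mem (Q.inv_mem haQ) hbQ, -i + k, ?_⟩
      rw [hmul _ (Q.inv_mem haQ) _ hbQ, hΨinv a haQ, hi, hk, inv_r, r_mul_r]
    have hP : ∀ i : ℕ, ∀ q, isRot q → q ^ (2 ^ i) = 1 → g * q = q * g := by
      intro i
      induction i with
      | zero =>
        intro q _ hq1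
        rw [pow_zero, pow_one] at hq1
        rw [hq1, mul_one, one_mul]
      | succ i ih =>
        have hstep := chain_step g {z | isRot z ∧ z ^ (2 ^ i) = 1} {q | isRot q ∧ q ^ (2 ^ (i + 1)) = 1}
          j hj hgj (fun z hz => ih z hz.1 hz.2)
          (fun x hx => ⟨hrotconj x hx.1, by rw [conj_pow, hx.2]; group⟩)
          (by
            rintro x ⟨hxrot, hx2⟩ y ⟨hyrot, hy2⟩ hxZ hyZ
            obtain ⟨hxQ, a, ha⟩ := hxrot
            obtain ⟨hyQ, b, hb⟩ := hyrot
            have key : ∀ z c, z ∈ Q → Ψ z = r c → z ^ (2 ^ (i + 1)) = 1 → ¬ (isRot z ∧ z ^ (2 ^ i) = 1) →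
                (c * ((2 ^ i : ℕ) : ZMod n)) + (c * ((2 ^ i : ℕ) : ZMod n)) = 0 ∧
                  c * ((2 ^ i : ℕ) : ZMod n) ≠ 0 := by
              intro z c hzQ hc hz2 hzZ
              constructor
              · have h1 := hΨpow z hzQ (2 ^ (i + 1))
                rw [hz2, hΨ1, hc, r_pow, one_def] at h1
                have h2 : (0 : ZMod n) = c * ((2 ^ (i + 1) : ℕ) : ZMod n) := by injection h1
                rw [pow_succ, Nat.cast_mul] at h2
                rw [← mul_add, ← mul_two]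
                exact h2.symm
              · intro h0
                apply hzZ
                refine ⟨⟨hzQ, c, hc⟩, ?_⟩
                apply hΨ1' _ (Q.pow_mem hzQ _)
                rw [hΨpow z hzQ, hc, r_pow, h0, r_zero]
            obtain ⟨h1, h2⟩ := key x a hxQ ha hx2 hxZ
            obtain ⟨h3, h4⟩ := key y b hyQ hb hy2 hyZ
            have h5 := zmod_two_torsion_unique _ _ h1 h3 h2 h4
            refine ⟨hrotmulinv x y ⟨hxQ, a, ha⟩ ⟨hyQ, b, hb⟩, ?_⟩
            apply hΨ1' _ (Q.pow_mem (Q.mul_mem (Q.inv_mem hxQ) hyQ) _)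
            rw [hΨpow _ (Q.mul_mem (Q.inv_mem hxQ) hyQ), hmul _ (Q.inv_mem hxQ) _ hyQ, hΨinv x hxQ, ha, hb,
              inv_r, r_mul_r, r_pow, one_def]
            congr 1
            linear_combination (-1 : ZMod n) * h5)
          (fun z hz => ⟨i, hz.2⟩)
        intro q hq hq2
        exact hstep q ⟨hq, hq2⟩
    have hrotcent : ∀ q, isRot q → g * q = q * g := by
      intro q hq
      obtain ⟨k, hk⟩ := hQ q hq.1
      exact hP k q hq hk
    apply chain_step g {z | isRot z} (Q : Set X) j hj hgj hrotcent hconj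
    · intro x hx y hy hxZ hyZ
      obtain ⟨a, ha⟩ := hrefl x hx hxZ
      obtain ⟨b, hb⟩ := hrefl y hy hyZ
      refine ⟨Q.mul_mem (Q.inv_mem hx) hy, b - a, ?_⟩
      rw [hmul _ (Q.inv_mem hx) _ hy, hΨinv x hx, ha, hb, inv_sr, sr_mul_sr]
    · intro z hz
      exact hQ z hz.1

open Cfsg.Agent.Lib.Helper13 in
theorem localCentral_centralizer {X : Type*} [Group X] [Finite X]
    (S : Sylow 2 X) (n : ℕ) (φ : (S : Subgroup X) ≃* DihedralGroup n) (t : X)
    (ht : orderOf t = 2) (C : Subgroup X) (hC : C = Subgroup.centralizer ({t} : Set X)) :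
    LocalCentral 2 ↥C := by
  intro Qc hQc gc hgc hcop
  have hCmem : ∀ x ∈ C, t * x = x * t := by
    intro x hx
    rw [hC] at hx
    exact Subgroup.mem_centralizer_iff.1 hx t rfl
  have htC : t ∈ C := by
    rw [hC, Subgroup.mem_centralizer_iff]
    intro h hh
    rw [Set.mem_singleton_iff.1 hh]
  have ht2 : t * t = 1 := by
    rw [← pow_two, ← ht, pow_orderOf_eq_one]
  have ht1 : t ≠ 1 := by
    intro h
    rw [h, orderOf_one] at ht
    omega
  set g : X := (gc : X) with hgdef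
  have hgt : g * t = t * g := (hCmem g gc.2).symm
  set Q1 : Subgroup X := Qc.map C.subtype with hQ1
  have hg1 : g ∈ Subgroup.normalizer ((Q1 : Subgroup X) : Set X) := by
    rw [Subgroup.mem_normalizer_iff]
    intro y
    constructor
    · rintro ⟨q, hq, rfl⟩
      exact ⟨gc * q * gc⁻¹, (Subgroup.mem_normalizer_iff.mp hgc q).mp hq, by simp [hgdef]⟩
    · rintro ⟨q, hq, hqy⟩
      have hyC : y ∈ C := by
        have : y = g⁻¹ * (q : X) * g := by
          have := hqy
          simp only [Subgroup.coe_subtype] at this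
          rw [this]; group
        rw [this]
        exact C.mul_mem (C.mul_mem (C.inv_mem gc.2) q.2) gc.2
      refine ⟨⟨y, hyC⟩, ?_, rfl⟩
      have h2 : gc * ⟨y, hyC⟩ * gc⁻¹ = q := by
        apply Subtype.ext
        simpa using hqy.symm
      rw [Subgroup.mem_normalizer_iff] at hgc
      exact (hgc ⟨y, hyC⟩).mpr (h2 ▸ hq)
  have hg2 : g ∈ Subgroup.normalizer ((Subgroup.zpowers t : Subgroup X) : Set X) := by
    apply Subgroup.centralizer_le_normalizer
    rw [Subgroup.mem_centralizer_iff]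
    intro h hh
    obtain ⟨k, rfl⟩ := Subgroup.mem_zpowers_iff.1 hh
    exact ((show Commute t g from hgt.symm).zpow_left k).eq
  set Q : Subgroup X := Q1 ⊔ Subgroup.zpowers t with hQdef
  have hgQ : g ∈ Subgroup.normalizer ((Q : Subgroup X) : Set X) :=
    Cfsg.Agent.S0538.mem_normalizer_sup Q1 (Subgroup.zpowers t) g hg1 hg2
  have hQ1C : Q1 ≤ C := Subgroup.map_subtype_le Qc
  have hQC : Q ≤ C := sup_le hQ1C (Subgroup.zpowers_le.2 htC)
  have htQ : t ∈ Q := (le_sup_right : Subgroup.zpowers t ≤ Q) (Subgroup.mem_zpowers t)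
  have htc : ∀ q ∈ Q, t * q = q * t := fun q hq => hCmem q (hQC hq)
  have hQ1p : IsPGroup 2 Q1 := hQc.map _
  have hZp : IsPGroup 2 (Subgroup.zpowers t) := by
    apply IsPGroup.of_card (n := 1)
    rw [Nat.card_zpowers, ht, pow_one]
  have hQp : IsPGroup 2 Q := by
    apply IsPGroup.to_sup_of_normal_right' hQ1p hZp
    intro q hq
    apply Subgroup.centralizer_le_normalizer
    rw [Subgroup.mem_centralizer_iff]
    intro h hh
    obtain ⟨k, rfl⟩ := Subgroup.mem_zpowers_iff.1 hh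
    have : Commute t q := hCmem q (hQ1C hq)
    exact (this.zpow_left k).eq
  obtain ⟨P', hP'⟩ := hQp.exists_le_sylow
  obtain ⟨c, hc⟩ := MulAction.exists_smul_eq X S P'
  have hcS : ∀ q ∈ Q, c⁻¹ * q * c ∈ (S : Subgroup X) := by
    intro q hq
    rw [← mem_smul_sylow_iff, hc]
    exact hP' hq
  classical
  set Ψ : X → DihedralGroup n := fun x =>
    if h : c⁻¹ * x * c ∈ (S : Subgroup X) then φ ⟨c⁻¹ * x * c, h⟩ else 1 with hΨ
  have hΨeq : ∀ q (hq : q ∈ Q), Ψ q = φ ⟨c⁻¹ * q * c, hcS q hq⟩ := by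
    intro q hq
    rw [hΨ]
    exact dif_pos (hcS q hq)
  have hmul : ∀ a ∈ Q, ∀ b ∈ Q, Ψ (a * b) = Ψ a * Ψ b := by
    intro a ha b hb
    rw [hΨeq a ha, hΨeq b hb, hΨeq (a * b) (Q.mul_mem ha hb), ← map_mul]
    congr 1
    apply Subtype.ext
    show c⁻¹ * (a * b) * c = (c⁻¹ * a * c) * (c⁻¹ * b * c)
    group
  have hinj : ∀ a ∈ Q, ∀ b ∈ Q, Ψ a = Ψ b → a = b := by
    intro a ha b hb hab
    rw [hΨeq a ha, hΨeq b hb] at hab
    have h1 := congrArg Subtype.val (φ.injective hab)
    have h2 : c⁻¹ * a * c = c⁻¹ * b * c := h1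
    exact mul_left_cancel (mul_right_cancel h2)
  have hQ2 : ∀ q ∈ Q, ∃ k : ℕ, q ^ (2 ^ k) = 1 := by
    intro q hq
    obtain ⟨k, hk⟩ := hQp ⟨q, hq⟩
    exact ⟨k, congrArg Subtype.val hk⟩
  have hodd : Odd (orderOf g) := by
    rw [hgdef, Subgroup.orderOf_coe]
    exact Nat.coprime_two_right.1 hcop
  have hcore := core Q hQ2 Ψ hmul hinj t htQ ht2 ht1 htc g hgQ hgt (orderOf g) hodd (pow_orderOf_eq_one g)
  rw [Subgroup.mem_centralizer_iff]
  intro h hh
  apply Subtype.ext
  have hhQ : (h : X) ∈ Q := (le_sup_left : Q1 ≤ Q) ⟨h, hh, rfl⟩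
  exact (hcore (h : X) hhQ).symm

open Cfsg.Agent.Lib.Helper13 in
theorem result {X : Type*} [Group X] [Finite X]
    (S : Sylow 2 X) (n : ℕ) (hn : 2 ≤ n) (hS : Nonempty ((S : Subgroup X) ≃* DihedralGroup n)) (t : X)
    (ht : orderOf t = 2) :
    ∃ N : Subgroup (Subgroup.centralizer ({t} : Set X)), N.Normal ∧ Odd (Nat.card N) ∧ ∃ k : ℕ, N.index = 2 ^ k := by
  obtain ⟨φ⟩ := hS
  have _ := hn
  have hLC := localCentral_centralizer S n φ t ht _ rfl
  obtain ⟨K, hKn, hK⟩ := exists_normal_complement_of_localCentral hLC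
    (default : Sylow 2 (Subgroup.centralizer ({t} : Set X)))
  obtain ⟨hcop, k, hk⟩ := coprime_and_index_of_isComplement' K _ hK
  exact ⟨K, hKn, Nat.coprime_two_right.1 hcop, k, hk⟩

end Cfsg.Agent.S0514
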