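import Cfsg.Statements.S0520

set_option autoImplicit false
open Cfsg

namespace Cfsg.Agent.S0520

/-- the adjacency relation of the commuting graph on four-subgroups. -/
def Rel (G : Type*) [Group G] (A B : Subgroup G) : Prop :=
  IsKleinFour A ∧ IsKleinFour B ∧ ∀ a ∈ A, ∀ b ∈ B, a * b = b * a

/-- connectedness in the commuting graph. -/
abbrev Conn (G : Type*) [Group G] (A B : Subgroup G) : Prop :=
  Relation.ReflTransGen (Rel G) A B

theorem isFourConnected_iff (G : Type*) [Group G] :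
    IsFourConnected G ↔
      ∀ U V : Subgroup G, IsKleinFour U → IsKleinFour V → Conn G U V := Iff.rfl

theorem isKleinFour_of_mulEquiv {A B : Type*} [Group A] [Group B] (e : A ≃* B)
    (h : IsKleinFour A) : IsKleinFour B :=
  ⟨by rw [← Nat.card_congr e.toEquiv]; exact h.card_four,
   by rw [← Monoid.exponent_eq_of_mulEquiv e]; exact h.exponent_two⟩

section basic

variable {G : Type*} [Group G]

theorem rel_symm : Symmetric (Rel G) := by
  rintro A B ⟨hA, hB, hc⟩
  exact ⟨hB, hA, fun b hb a ha => (hc a ha b hb).symm⟩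

theorem conn_symm {A B : Subgroup G} (h : Conn G A B) : Conn G B A := by
  induction h with
  | refl => exact Relation.ReflTransGen.refl
  | tail _ hr ih => exact Relation.ReflTransGen.head (rel_symm hr) ih

theorem isKleinFour_map {H : Type*} [Group H] (f : G →* H) (hf : Function.Injective f)
    {A : Subgroup G} (hA : IsKleinFour A) : IsKleinFour (A.map f) :=
  isKleinFour_of_mulEquiv (A.equivMapOfInjective f hf) hA

theorem rel_map {H : Type*} [Group H] (f : G →* H) (hf : Function.Injective f)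
    {A B : Subgroup G} (h : Rel G A B) : Rel H (A.map f) (B.map f) := by
  obtain ⟨hA, hB, hc⟩ := h
  refine ⟨isKleinFour_map f hf hA, isKleinFour_map f hf hB, ?_⟩
  rintro _ ⟨a, ha, rfl⟩ _ ⟨b, hb, rfl⟩
  rw [← map_mul, ← map_mul, hc a ha b hb]

theorem conn_map {H : Type*} [Group H] (f : G →* H) (hf : Function.Injective f)
    {A B : Subgroup G} (h : Conn G A B) : Conn H (A.map f) (B.map f) := by
  induction h with
  | refl => exact Relation.ReflTransGen.refl
  | tail _ hr ih => exact Relation.ReflTransGen.tail ih (rel_map f hf hr)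

/-- conjugation of subgroups. -/
def cj (g : G) (A : Subgroup G) : Subgroup G := A.map (MulAut.conj g).toMonoidHom

theorem mem_cj {g x : G} {A : Subgroup G} : x ∈ cj g A ↔ g⁻¹ * x * g ∈ A := by
  constructor
  · rintro ⟨a, ha, rfl⟩
    have : g⁻¹ * ((MulAut.conj g).toMonoidHom a) * g = a := by
      simp [MulAut.conj_apply, mul_assoc]
    rw [this]
    exact ha
  · intro h
    refine ⟨g⁻¹ * x * g, h, ?_⟩
    simp [MulAut.conj_apply, mul_assoc]

theorem conj_mem_cj {g a : G} {A : Subgroup G} (ha : a ∈ A) : g * a * g⁻¹ ∈ cj g A := by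
  rw [mem_cj]
  have : g⁻¹ * (g * a * g⁻¹) * g = a := by group
  rw [this]
  exact ha

theorem cj_one (A : Subgroup G) : cj 1 A = A := by
  ext x
  rw [mem_cj]
  simp

theorem cj_cj (g h : G) (A : Subgroup G) : cj g (cj h A) = cj (g * h) A := by
  ext x
  rw [mem_cj, mem_cj, mem_cj]
  have : h⁻¹ * (g⁻¹ * x * g) * h = (g * h)⁻¹ * x * (g * h) := by group
  rw [this]

theorem cj_inv_cj (g : G) (A : Subgroup G) : cj g⁻¹ (cj g A) = A := by
  rw [cj_cj, inv_mul_cancel, cj_one]

theorem cj_mono (g : G) {A B : Subgroup G} (h : A ≤ B) : cj g A ≤ cj g B :=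
  Subgroup.map_mono h

theorem isKleinFour_cj (g : G) {A : Subgroup G} (hA : IsKleinFour A) : IsKleinFour (cj g A) :=
  isKleinFour_map _ (MulAut.conj g).injective hA

theorem conn_cj (g : G) {A B : Subgroup G} (h : Conn G A B) : Conn G (cj g A) (cj g B) :=
  conn_map _ (MulAut.conj g).injective h

theorem isPGroup_cj (g : G) {A : Subgroup G} (hA : IsPGroup 2 A) : IsPGroup 2 (cj g A) :=
  hA.map _

theorem card_cj (g : G) (A : Subgroup G) : Nat.card (cj g A) = Nat.card A :=
  Subgroup.card_map_of_injective (MulAut.conj g).injective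

theorem cj_eq_of_mem_normalizer {g : G} {Q : Subgroup G}
    (hg : g ∈ Subgroup.normalizer (Q : Set G)) : cj g Q = Q := by
  ext x
  rw [mem_cj]
  have h1 := (Subgroup.mem_normalizer_iff.mp hg) (g⁻¹ * x * g)
  have h2 : g * (g⁻¹ * x * g) * g⁻¹ = x := by group
  rw [h2] at h1
  exact h1

theorem conj_mem_normalizer_cj {g x : G} {Q : Subgroup G}
    (hx : x ∈ Subgroup.normalizer (Q : Set G)) :
    g * x * g⁻¹ ∈ Subgroup.normalizer ((cj g Q : Subgroup G) : Set G) := by
  rw [Subgroup.mem_normalizer_iff]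
  intro h
  rw [mem_cj, mem_cj]
  have h1 := (Subgroup.mem_normalizer_iff.mp hx) (g⁻¹ * h * g)
  have h2 : g⁻¹ * (g * x * g⁻¹ * h * (g * x * g⁻¹)⁻¹) * g = x * (g⁻¹ * h * g) * x⁻¹ := by group
  rw [h2]
  exact h1

theorem isPGroup_of_isKleinFour {A : Subgroup G} (hA : IsKleinFour A) : IsPGroup 2 A :=
  IsPGroup.of_card (n := 2) hA.card_four

theorem sq_eq_one_of_isKleinFour {A : Subgroup G} (hA : IsKleinFour A) {a : G} (ha : a ∈ A) :
    a ^ 2 = 1 := by
  have h := IsKleinFour.mul_self (⟨a, ha⟩ : A)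
  have h2 := congrArg Subtype.val h
  simpa [sq] using h2

theorem comm_of_isKleinFour {A : Subgroup G} (hA : IsKleinFour A) {a b : G} (ha : a ∈ A)
    (hb : b ∈ A) : a * b = b * a := by
  have hc : IsMulCommutative ↥A := @IsKleinFour.isMulCommutative _ _ hA
  have h := hc.is_comm.comm (⟨a, ha⟩ : A) ⟨b, hb⟩
  exact congrArg Subtype.val h

end basic

section rank

/-- a group of `2`-rank at least two has a four-subgroup. -/
theorem exists_isKleinFour_of_not_pRankLE {H : Type*} [Group H] [Finite H]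
    (h : ¬ PRankLE 2 1 H) : ∃ A : Subgroup H, IsKleinFour A := by
  unfold PRankLE at h
  push Not at h
  obtain ⟨E, hEc, hEe, hcard⟩ := h
  have hE2 : IsPGroup 2 E := by
    intro e
    refine ⟨1, ?_⟩
    apply Subtype.ext
    rw [pow_one, Subgroup.coe_pow, Subgroup.coe_one]
    exact hEe e e.2
  obtain ⟨n, hn⟩ := hE2.exists_card_eq
  have hn2 : 2 ≤ n := by
    by_contra hlt
    have : n ≤ 1 := by omega
    have := Nat.pow_le_pow_right (show 0 < 2 by norm_num) this
    omega
  have hdvd : 2 ^ 2 ∣ Nat.card E := by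
    rw [hn]
    exact pow_dvd_pow _ hn2
  obtain ⟨K, hK⟩ := Sylow.exists_subgroup_card_pow_prime 2 hdvd
  refine ⟨K.map E.subtype, ?_⟩
  have hcardA : Nat.card (K.map E.subtype) = 4 := by
    rw [Subgroup.card_map_of_injective E.subtype_injective, hK]
    norm_num
  refine ⟨hcardA, ?_⟩
  have hexp : Monoid.exponent (K.map E.subtype) ∣ 2 := by
    apply Monoid.exponent_dvd_of_forall_pow_eq_one
    rintro ⟨_, ⟨k, hk, rfl⟩⟩
    apply Subtype.ext
    rw [Subgroup.coe_pow, Subgroup.coe_one]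
    exact hEe _ k.2
  rcases (Nat.dvd_prime Nat.prime_two).mp hexp with h1 | h1
  · exfalso
    rw [Monoid.exp_eq_one_iff] at h1
    have := Nat.card_eq_one_iff_unique.mpr ⟨h1, ⟨1⟩⟩
    omega
  · exact h1

variable {G : Type*} [Group G]

theorem not_pRankLE_of_isKleinFour_le {Q A : Subgroup G} (hA : IsKleinFour A) (h : A ≤ Q) :
    ¬ PRankLE 2 1 Q := by
  intro hr
  have hc : IsMulCommutative ↥(A.subgroupOf Q) := by
    refine ⟨⟨fun x y => ?_⟩⟩
    apply Subtype.ext
    apply Subtype.ext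
    exact comm_of_isKleinFour hA (Subgroup.mem_subgroupOf.mp x.2) (Subgroup.mem_subgroupOf.mp y.2)
  have he : ∀ a ∈ A.subgroupOf Q, a ^ 2 = 1 := by
    intro a ha
    apply Subtype.ext
    rw [Subgroup.coe_pow, Subgroup.coe_one]
    exact sq_eq_one_of_isKleinFour hA (Subgroup.mem_subgroupOf.mp ha)
  have := hr (A.subgroupOf Q) hc he
  rw [Nat.card_congr (Subgroup.subgroupOfEquivOfLe h).toEquiv, hA.card_four] at this
  omega

theorem exists_isKleinFour_le_of_not_pRankLE [Finite G] {Q : Subgroup G}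
    (h : ¬ PRankLE 2 1 Q) : ∃ A : Subgroup G, IsKleinFour A ∧ A ≤ Q := by
  obtain ⟨A, hA⟩ := exists_isKleinFour_of_not_pRankLE h
  exact ⟨A.map Q.subtype, isKleinFour_map _ Q.subtype_injective hA, Subgroup.map_subtype_le A⟩

end rank

section main

variable {G : Type*} [Group G] [Finite G] (S : Sylow 2 G)

/-- the `2`-generated core. -/
def core : Subgroup G :=
  ⨆ Q : {Q : Subgroup G // Q ≤ (S : Subgroup G) ∧ ¬ Cfsg.PRankLE 2 1 Q},
    Subgroup.normalizer ((Q : Subgroup G) : Set G)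

theorem normalizer_le_core {Q : Subgroup G} (hQS : Q ≤ (S : Subgroup G)) {A : Subgroup G}
    (hA : IsKleinFour A) (hAQ : A ≤ Q) : Subgroup.normalizer (Q : Set G) ≤ core S :=
  le_iSup (fun Q : {Q : Subgroup G // Q ≤ (S : Subgroup G) ∧ ¬ Cfsg.PRankLE 2 1 Q} =>
    Subgroup.normalizer ((Q : Subgroup G) : Set G)) ⟨Q, hQS, not_pRankLE_of_isKleinFour_le hA hAQ⟩

theorem sylow_le_core {A : Subgroup G} (hA : IsKleinFour A) (hAS : A ≤ (S : Subgroup G)) :
    (S : Subgroup G) ≤ core S :=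
  Subgroup.le_normalizer.trans (normalizer_le_core S le_rfl hA hAS)

/-- Sylow's theorem inside an overgroup of `S`. -/
theorem exists_cj_le {Γ : Subgroup G} (hSΓ : (S : Subgroup G) ≤ Γ) {P : Subgroup G}
    (hP : IsPGroup 2 P) (hPΓ : P ≤ Γ) : ∃ γ ∈ Γ, cj γ P ≤ (S : Subgroup G) := by
  have hP' : IsPGroup 2 (P.subgroupOf Γ) := hP.comap_subtype
  obtain ⟨Q', hQ'⟩ := hP'.exists_le_sylow
  obtain ⟨γ, hγ⟩ := MulAction.exists_smul_eq Γ Q' (S.subtype hSΓ)
  refine ⟨γ, γ.2, ?_⟩
  rintro _ ⟨x, hx, rfl⟩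
  have h1 : (⟨x, hPΓ hx⟩ : Γ) ∈ (Q' : Subgroup Γ) := hQ' (Subgroup.mem_subgroupOf.mpr hx)
  have h2 : (MulAut.conj γ) (⟨x, hPΓ hx⟩ : Γ) ∈ ((γ • Q' : Sylow 2 Γ) : Subgroup Γ) := by
    rw [Sylow.coe_subgroup_smul]
    exact Subgroup.smul_mem_pointwise_smul _ (MulAut.conj γ) _ h1
  rw [hγ, Sylow.coe_subtype, Subgroup.mem_subgroupOf] at h2
  simpa [MulAut.conj_apply] using h2

theorem normalizer_le_core_of_le {A₀ : Subgroup G} (hA₀ : IsKleinFour A₀)
    (hA₀S : A₀ ≤ (S : Subgroup G)) {Q : Subgroup G} (hQ2 : IsPGroup 2 Q) (hQΓ : Q ≤ core S)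
    {A : Subgroup G} (hA : IsKleinFour A) (hAQ : A ≤ Q) :
    Subgroup.normalizer (Q : Set G) ≤ core S := by
  obtain ⟨γ, hγ, hle⟩ := exists_cj_le S (sylow_le_core S hA₀ hA₀S) hQ2 hQΓ
  have h1 : Subgroup.normalizer ((cj γ Q : Subgroup G) : Set G) ≤ core S :=
    normalizer_le_core S hle (isKleinFour_cj γ hA) (cj_mono γ hAQ)
  intro x hx
  have h2 : γ * x * γ⁻¹ ∈ core S := h1 (conj_mem_normalizer_cj hx)
  have h3 : x = γ⁻¹ * (γ * x * γ⁻¹) * γ := by group
  rw [h3]
  exact (core S).mul_mem ((core S).mul_mem ((core S).inv_mem hγ) h2) hγ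

theorem le_core_of_le {A₀ : Subgroup G} (hA₀ : IsKleinFour A₀)
    (hA₀S : A₀ ≤ (S : Subgroup G)) {P : Subgroup G} (hP : IsPGroup 2 P)
    {A : Subgroup G} (hA : IsKleinFour A) (hAP : A ≤ P) (hAΓ : A ≤ core S) : P ≤ core S := by
  have hN : Subgroup.normalizer ((P ⊓ core S : Subgroup G) : Set G) ≤ core S :=
    normalizer_le_core_of_le S hA₀ hA₀S (hP.to_le inf_le_left) inf_le_right hA
      (le_inf hAP hAΓ)
  have hnil : Group.IsNilpotent ↥P := hP.isNilpotent
  have hself : Subgroup.normalizer (((core S).subgroupOf P : Subgroup ↥P) : Set ↥P) =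
      (core S).subgroupOf P := by
    apply le_antisymm _ Subgroup.le_normalizer
    intro x hx
    rw [Subgroup.mem_subgroupOf]
    apply hN
    rw [Subgroup.mem_normalizer_iff]
    intro y
    constructor
    · intro hy
      have hy' : (⟨y, hy.1⟩ : ↥P) ∈ (core S).subgroupOf P := Subgroup.mem_subgroupOf.mpr hy.2
      have := (Subgroup.mem_normalizer_iff.mp hx _).mp hy'
      exact ⟨P.mul_mem (P.mul_mem x.2 hy.1) (P.inv_mem x.2), Subgroup.mem_subgroupOf.mp this⟩
    · intro hy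
      have hyP : y ∈ P := by
        have h1 : y = (x : G)⁻¹ * ((x : G) * y * (x : G)⁻¹) * (x : G) := by group
        rw [h1]
        exact P.mul_mem (P.mul_mem (P.inv_mem x.2) hy.1) x.2
      have hy' : x * (⟨y, hyP⟩ : ↥P) * x⁻¹ ∈ (core S).subgroupOf P :=
        Subgroup.mem_subgroupOf.mpr hy.2
      have := (Subgroup.mem_normalizer_iff.mp hx _).mpr hy'
      exact ⟨hyP, Subgroup.mem_subgroupOf.mp this⟩
  have htop := normalizerCondition_iff_only_full_group_self_normalizing.mp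
    Group.normalizerCondition_of_isNilpotent _ hself
  exact Subgroup.subgroupOf_eq_top.mp htop

theorem le_core_of_rel {A₀ : Subgroup G} (hA₀ : IsKleinFour A₀)
    (hA₀S : A₀ ≤ (S : Subgroup G)) {A B : Subgroup G} (h : Rel G A B) (hAΓ : A ≤ core S) :
    B ≤ core S := by
  obtain ⟨hA, hB, hc⟩ := h
  have hBN : B ≤ Subgroup.normalizer (A : Set G) := by
    intro b hb
    rw [Subgroup.mem_normalizer_iff]
    intro a
    constructor
    · intro ha
      have : b * a * b⁻¹ = a := by rw [← hc a ha b hb, mul_inv_cancel_right]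
      rw [this]
      exact ha
    · intro ha
      have h1 := hc _ ha b hb
      have h2 : a = b * a * b⁻¹ := by
        have : b * a = b * a * b⁻¹ * b := by group
        rw [h1] at this
        exact mul_left_cancel this
      rw [h2]
      exact ha
  have hP : IsPGroup 2 (A ⊔ B : Subgroup G) :=
    IsPGroup.to_sup_of_normal_left' (isPGroup_of_isKleinFour hA) (isPGroup_of_isKleinFour hB) hBN
  exact le_sup_right.trans (le_core_of_le S hA₀ hA₀S hP hA le_sup_left hAΓ)

theorem le_core_of_conn {A₀ : Subgroup G} (hA₀ : IsKleinFour A₀)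
    (hA₀S : A₀ ≤ (S : Subgroup G)) {A B : Subgroup G} (h : Conn G A B) (hAΓ : A ≤ core S) :
    B ≤ core S := by
  induction h with
  | refl => exact hAΓ
  | tail _ hr ih => exact le_core_of_rel S hA₀ hA₀S hr ih

theorem mem_normalizer_of_cj_le {x : G} {P : Subgroup G} (h : cj x P ≤ P) :
    x ∈ Subgroup.normalizer (P : Set G) := by
  have heq : cj x P = P := Subgroup.eq_of_le_of_card_ge h (card_cj x P).ge
  rw [Subgroup.mem_normalizer_iff]
  intro y
  constructor
  · intro hy
    rw [← heq]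
    exact conj_mem_cj hy
  · intro hy
    rw [← heq, mem_cj] at hy
    have : x⁻¹ * (x * y * x⁻¹) * x = y := by group
    rw [this] at hy
    exact hy

theorem core_eq_top_of_connected (hconn : IsFourConnected G) {A₀ : Subgroup G}
    (hA₀ : IsKleinFour A₀) (hA₀S : A₀ ≤ (S : Subgroup G)) : core S = ⊤ := by
  rw [eq_top_iff]
  intro g _
  have hSΓ := sylow_le_core S hA₀ hA₀S
  have h1 : cj g A₀ ≤ core S :=
    le_core_of_conn S hA₀ hA₀S (hconn A₀ (cj g A₀) hA₀ (isKleinFour_cj g hA₀))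
      (hA₀S.trans hSΓ)
  have h2 : cj g (S : Subgroup G) ≤ core S :=
    le_core_of_le S hA₀ hA₀S (isPGroup_cj g S.isPGroup') (isKleinFour_cj g hA₀)
      (cj_mono g hA₀S) h1
  obtain ⟨γ, hγ, hle⟩ := exists_cj_le S hSΓ (isPGroup_cj g S.isPGroup') h2
  rw [cj_cj] at hle
  have h3 : γ * g ∈ core S :=
    normalizer_le_core S le_rfl hA₀ hA₀S (mem_normalizer_of_cj_le hle)
  have h4 : g = γ⁻¹ * (γ * g) := by group
  rw [h4]
  exact (core S).mul_mem ((core S).inv_mem hγ) h3

theorem conn_of_le_sylow (hS : IsFourConnected ↥(S : Subgroup G)) {A B : Subgroup G}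
    (hA : IsKleinFour A) (hB : IsKleinFour B) (hAS : A ≤ (S : Subgroup G))
    (hBS : B ≤ (S : Subgroup G)) : Conn G A B := by
  have hA' : IsKleinFour (A.subgroupOf (S : Subgroup G)) :=
    isKleinFour_of_mulEquiv (Subgroup.subgroupOfEquivOfLe hAS).symm hA
  have hB' : IsKleinFour (B.subgroupOf (S : Subgroup G)) :=
    isKleinFour_of_mulEquiv (Subgroup.subgroupOfEquivOfLe hBS).symm hB
  have h := conn_map (S : Subgroup G).subtype (S : Subgroup G).subtype_injective
    (hS _ _ hA' hB')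
  rwa [Subgroup.map_subgroupOf_eq_of_le hAS, Subgroup.map_subgroupOf_eq_of_le hBS] at h

/-- the stabilizer of the connected component of `A₀`. -/
def stab (A₀ : Subgroup G) : Subgroup G where
  carrier := {g | Conn G A₀ (cj g A₀)}
  one_mem' := by
    show Conn G A₀ (cj 1 A₀)
    rw [cj_one]
  mul_mem' := by
    intro g h hg hh
    show Conn G A₀ (cj (g * h) A₀)
    have h1 : Conn G (cj g A₀) (cj g (cj h A₀)) := conn_cj g hh
    rw [cj_cj] at h1
    exact Relation.ReflTransGen.trans hg h1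
  inv_mem' := by
    intro g hg
    show Conn G A₀ (cj g⁻¹ A₀)
    have h1 : Conn G (cj g⁻¹ A₀) (cj g⁻¹ (cj g A₀)) := conn_cj g⁻¹ hg
    rw [cj_inv_cj] at h1
    exact conn_symm h1

theorem mem_stab {A₀ : Subgroup G} {g : G} : g ∈ stab A₀ ↔ Conn G A₀ (cj g A₀) := Iff.rfl

theorem core_le_stab (hS : IsFourConnected ↥(S : Subgroup G)) {A₀ : Subgroup G}
    (hA₀ : IsKleinFour A₀) (hA₀S : A₀ ≤ (S : Subgroup G)) : core S ≤ stab A₀ := by
  apply iSup_le
  rintro ⟨Q, hQS, hQr⟩
  obtain ⟨A₁, hA₁, hA₁Q⟩ := exists_isKleinFour_le_of_not_pRankLE hQr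
  intro g hg
  rw [mem_stab]
  have hg' : g ∈ Subgroup.normalizer (Q : Set G) := hg
  have h1 : cj g A₁ ≤ (S : Subgroup G) := by
    have := cj_mono g hA₁Q
    rw [cj_eq_of_mem_normalizer hg'] at this
    exact this.trans hQS
  have h2 : Conn G A₀ (cj g A₁) := conn_of_le_sylow S hS hA₀ (isKleinFour_cj g hA₁) hA₀S h1
  have h3 : Conn G (cj g A₁) (cj g A₀) :=
    conn_cj g (conn_of_le_sylow S hS hA₁ hA₀ (hA₁Q.trans hQS) hA₀S)
  exact Relation.ReflTransGen.trans h2 h3

theorem connected_of_core_eq_top (hS : IsFourConnected ↥(S : Subgroup G))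
    (hcore : core S = ⊤) {A₀ : Subgroup G} (hA₀ : IsKleinFour A₀)
    (hA₀S : A₀ ≤ (S : Subgroup G)) : IsFourConnected G := by
  have hstab : ∀ g : G, Conn G A₀ (cj g A₀) := by
    intro g
    have : g ∈ core S := by rw [hcore]; exact Subgroup.mem_top g
    exact core_le_stab S hS hA₀ hA₀S this
  have key : ∀ B : Subgroup G, IsKleinFour B → Conn G A₀ B := by
    intro B hB
    obtain ⟨γ, -, hle⟩ := exists_cj_le S (le_top : (S : Subgroup G) ≤ ⊤)
      (isPGroup_of_isKleinFour hB) le_top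
    have h1 : Conn G A₀ (cj γ B) := conn_of_le_sylow S hS hA₀ (isKleinFour_cj γ hB) hA₀S hle
    have h2 : Conn G (cj γ⁻¹ A₀) (cj γ⁻¹ (cj γ B)) := conn_cj γ⁻¹ h1
    rw [cj_inv_cj] at h2
    exact Relation.ReflTransGen.trans (hstab γ⁻¹) h2
  intro U V hU hV
  exact Relation.ReflTransGen.trans (conn_symm (key U hU)) (key V hV)

end main

/-- Let G be a finite group of 2-rank at least 2 and S a Sylow 2-subgroup whose commuting graph of Klein four-subgroups is
connected. Then the commuting graph of Klein four-subgroups of G is disconnected if and only if the 2-generated core — the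
subgroup generated by the normalizers N_G(Q) of the subgroups Q of S that contain a Klein four-group — is a proper
subgroup of G. -/
theorem result {G : Type*} [Group G] [Finite G] (h2 : ¬ Cfsg.PRankLE 2 1 G)
    (S : Sylow 2 G) (hS : Cfsg.IsFourConnected (S : Subgroup G)) :
    ¬ Cfsg.IsFourConnected G ↔
      (⨆ Q : {Q : Subgroup G // Q ≤ (S : Subgroup G) ∧ ¬ Cfsg.PRankLE 2 1 Q},
          Subgroup.normalizer ((Q : Subgroup G) : Set G)) ≠ ⊤ := by
  obtain ⟨B, hB⟩ := exists_isKleinFour_of_not_pRankLE h2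
  obtain ⟨γ, -, hle⟩ := exists_cj_le S (le_top : (S : Subgroup G) ≤ ⊤)
    (isPGroup_of_isKleinFour hB) le_top
  have hA₀ := isKleinFour_cj γ hB
  exact not_iff_not.mpr
    ⟨fun h => core_eq_top_of_connected S h hA₀ hle,
     fun h => connected_of_core_eq_top S hS h hA₀ hle⟩

end Cfsg.Agent.S0520
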