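import Cfsg.Statements.S1480
import Cfsg.Agent.Lib.Lead.Transitivity

set_option autoImplicit false
open Cfsg

namespace Cfsg.Agent.S1480

open scoped commutatorElement
open Cfsg.Agent.Lib.Lead.Trans

theorem inv_iff {G : Type*} [Group G] [Finite G] {q : ℕ} [Fact q.Prime] (E Y : Subgroup G) :
    Y ∈ Cfsg.invSubgroups ⊤ E {q} ↔ Inv E q Y := by
  have hq : q.Prime := Fact.out
  constructor
  · rintro ⟨-, hpi, hE⟩
    refine ⟨?_, hE⟩
    have h1 := Nat.eq_prime_pow_of_unique_prime_dvd (n := Nat.card Y) (p := q) Nat.card_pos.ne'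
      (fun {d} hd hdvd => Set.mem_singleton_iff.mp (hpi d hd hdvd))
    exact IsPGroup.of_card h1
  · rintro ⟨hY, hE⟩
    refine ⟨le_top, ?_, hE⟩
    intro r hr hrd
    obtain ⟨n, hn⟩ := hY.exists_card_eq
    rw [hn] at hrd
    exact Set.mem_singleton_iff.mpr ((Nat.prime_dvd_prime_iff_eq hr hq).mp (hr.dvd_of_dvd_pow hrd))

theorem maxInv_iff {G : Type*} [Group G] [Finite G] {q : ℕ} [Fact q.Prime] (E Y : Subgroup G) :
    Y ∈ Cfsg.maxInvSubgroups ⊤ E {q} → MaxInv E q Y := by
  rintro ⟨h1, h2⟩
  exact ⟨(inv_iff E Y).mp h1, fun R hR hle => h2 R ((inv_iff E R).mpr hR) hle⟩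

/-- elements commuting with `a` normalize `⟨a⟩` -/
theorem mem_normalizer_zpowers_of_commute {G : Type*} [Group G] {a t : G} (h : a * t = t * a) :
    t ∈ Subgroup.normalizer ((Subgroup.zpowers a : Subgroup G) : Set G) := by
  apply Subgroup.centralizer_le_normalizer
  rw [Subgroup.mem_centralizer_iff]
  intro y hy
  obtain ⟨k, rfl⟩ := Subgroup.mem_zpowers_iff.mp hy
  exact (Commute.zpow_left (show Commute a t from h) k).eq

/-- Let G be a finite group and p a prime such that the normalizer of every nontrivial p-subgroup of G is p-constrained; if p = 2 assume also that the Sylow 2-subgroups of G have nilpotency class at most 2. Let E be an abelian p-subgroup containing an elementary abelian subgroup of order p ^ 3 and containing every element of p-power order of C_G(E). Then for every prime q ≠ p, any two maximal E-invariant q-subgroups of G are conjugate by an element of O_{p'}(C_G(E)). -/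
theorem result {G : Type*} [Group G] [Finite G] (p : ℕ) [Fact p.Prime]
    (hloc : ∀ T : Subgroup G, IsPGroup p T → T ≠ ⊥ → Cfsg.IsPConstrained p ↥(Subgroup.normalizer (T : Set G)))
    (h2 : p = 2 → ∀ S : Sylow p G, Group.IsNilpotent (S : Subgroup G) ∧ Group.nilpotencyClass (S : Subgroup G) ≤ 2)
    (E : Subgroup G) (hEp : IsPGroup p E) (hEc : IsMulCommutative E) (hE3 : ¬ Cfsg.PRankLE p 2 E)
    (hEfull : ∀ x ∈ Subgroup.centralizer (E : Set G), IsPGroup p (Subgroup.zpowers x) → x ∈ E)
    (q : ℕ) [Fact q.Prime] (hqp : q ≠ p) :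
    ∀ Q₁ ∈ Cfsg.maxInvSubgroups ⊤ E {q}, ∀ Q₂ ∈ Cfsg.maxInvSubgroups ⊤ E {q},
        ∃ k ∈ Cfsg.piCoreOf (Cfsg.primesNotDvd p) (Subgroup.centralizer (E : Set G)), Q₂ = Q₁.map (MulAut.conj k).toMonoidHom := by
  classical
  have hp : p.Prime := Fact.out
  have hEcomm : ∀ x ∈ E, ∀ y ∈ E, x * y = y * x := fun x hx y hy =>
    congrArg Subtype.val (mul_comm' (⟨x, hx⟩ : E) ⟨y, hy⟩)
  -- the elementary abelian subgroup of rank at least three
  obtain ⟨V, hVE, hVp, hVcard⟩ : ∃ V : Subgroup G, V ≤ E ∧ (∀ x ∈ V, x ^ p = 1) ∧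
      p ^ 2 < Nat.card V := by
    unfold Cfsg.PRankLE at hE3
    push Not at hE3
    obtain ⟨A₀, -, hA₀p, hA₀c⟩ := hE3
    refine ⟨A₀.map E.subtype, Subgroup.map_subtype_le A₀, ?_, ?_⟩
    · rintro _ ⟨x, hx, rfl⟩
      have h1 := congrArg Subtype.val (hA₀p x hx)
      simpa using h1
    · rw [Subgroup.card_subtype]; exact hA₀c
  -- p-elements
  have hpel : ∀ x : G, (∃ k : ℕ, x ^ p ^ k = 1) → IsPGroup p (Subgroup.zpowers x) := by
    rintro x ⟨k, hk⟩
    have hdvd : orderOf x ∣ p ^ k := orderOf_dvd_of_pow_eq_one hk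
    obtain ⟨m, -, hm⟩ := (Nat.dvd_prime_pow hp).mp hdvd
    exact IsPGroup.of_card (n := m) (by rw [Nat.card_zpowers, hm])
  -- the key lemma
  have KL : ∀ a ∈ E, a ≠ 1 → ∃ K : Subgroup G, (Nat.card K).Coprime p ∧
      E ≤ Subgroup.normalizer (K : Set G) ∧
      ∀ T : Subgroup G, T ≤ Subgroup.centralizer ({a} : Set G) → (Nat.card T).Coprime p →
        E ≤ Subgroup.normalizer (T : Set G) → T ≤ K := by
    intro a ha ha1
    have hH := hloc (Subgroup.zpowers a) (hEp.to_le (Subgroup.zpowers_le.mpr ha))
      (Subgroup.zpowers_ne_bot.mpr ha1)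
    have hEH : E ≤ Subgroup.normalizer ((Subgroup.zpowers a : Subgroup G) : Set G) :=
      fun e he => mem_normalizer_zpowers_of_commute (hEcomm a ha e he)
    have hKn : (Cfsg.pPrimeCore p
        ↥(Subgroup.normalizer ((Subgroup.zpowers a : Subgroup G) : Set G))).Normal := inferInstance
    refine ⟨(Cfsg.pPrimeCore p
      ↥(Subgroup.normalizer ((Subgroup.zpowers a : Subgroup G) : Set G))).map
        (Subgroup.normalizer ((Subgroup.zpowers a : Subgroup G) : Set G)).subtype, ?_, ?_, ?_⟩
    · rw [Subgroup.card_subtype]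
      exact Cfsg.H5.coprime_card_pPrimeCore p _
    · apply Cfsg.Agent.Lib.Helper1.le_normalizer_of_forall_conj_mem
      rintro e he _ ⟨k, hk, rfl⟩
      exact ⟨⟨e, hEH he⟩ * k * ⟨e, hEH he⟩⁻¹, hKn.conj_mem k hk ⟨e, hEH he⟩, rfl⟩
    · intro T hTa hTcop hET
      have hTH : T ≤ Subgroup.normalizer ((Subgroup.zpowers a : Subgroup G) : Set G) := by
        intro t ht
        apply mem_normalizer_zpowers_of_commute
        exact Subgroup.mem_centralizer_iff.mp (hTa ht) a (Set.mem_singleton a)
      have hA'p : IsPGroup p (E.subgroupOf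
          (Subgroup.normalizer ((Subgroup.zpowers a : Subgroup G) : Set G))) := hEp.comap_subtype
      have hQ'cop : (Nat.card (T.subgroupOf
          (Subgroup.normalizer ((Subgroup.zpowers a : Subgroup G) : Set G)))).Coprime p := by
        rw [Nat.card_congr (Subgroup.subgroupOfEquivOfLe hTH).toEquiv]; exact hTcop
      have hA'Q' : E.subgroupOf (Subgroup.normalizer ((Subgroup.zpowers a : Subgroup G) : Set G)) ≤
          Subgroup.normalizer ((T.subgroupOf
            (Subgroup.normalizer ((Subgroup.zpowers a : Subgroup G) : Set G)) : Subgroup _) :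
              Set ↥(Subgroup.normalizer ((Subgroup.zpowers a : Subgroup G) : Set G))) := by
        intro x hx
        rw [Subgroup.mem_normalizer_iff]
        intro y
        have h1 := Subgroup.mem_normalizer_iff.mp (hET (Subgroup.mem_subgroupOf.mp hx)) (y : G)
        simpa [Subgroup.mem_subgroupOf] using h1
      -- centralizing elements
      have hcentE : ∀ x : ↥(Subgroup.normalizer ((Subgroup.zpowers a : Subgroup G) : Set G)),
          x ∈ Subgroup.centralizer ((E.subgroupOf
            (Subgroup.normalizer ((Subgroup.zpowers a : Subgroup G) : Set G)) : Subgroup _) :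
              Set ↥(Subgroup.normalizer ((Subgroup.zpowers a : Subgroup G) : Set G))) →
          (x : G) ∈ Subgroup.centralizer (E : Set G) := by
        intro x hx
        rw [Subgroup.mem_centralizer_iff]
        intro e he
        have h1 := Subgroup.mem_centralizer_iff.mp hx ⟨e, hEH he⟩ (Subgroup.mem_subgroupOf.mpr he)
        exact congrArg Subtype.val h1
      have hle : T.subgroupOf (Subgroup.normalizer ((Subgroup.zpowers a : Subgroup G) : Set G)) ≤
          Cfsg.pPrimeCore p ↥(Subgroup.normalizer ((Subgroup.zpowers a : Subgroup G) : Set G)) := by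
        by_cases hp2 : p = 2
        · refine le_pPrimeCore_of_normal hH _ hA'p ?_ ?_ _ hQ'cop hA'Q'
          · rintro x hx ⟨k, hk⟩
            rw [Subgroup.mem_subgroupOf]
            apply hEfull _ (hcentE x hx)
            apply hpel
            refine ⟨k, ?_⟩
            have h1 := congrArg Subtype.val hk
            simpa using h1
          · intro S hAS
            obtain ⟨SG, hSG⟩ := (S.isPGroup'.map
              (Subgroup.normalizer ((Subgroup.zpowers a : Subgroup G) : Set G)).subtype).exists_le_sylow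
            obtain ⟨hnil, hcl⟩ := h2 hp2 SG
            have hup : Subgroup.upperCentralSeries ↥(SG : Subgroup G) 2 = ⊤ :=
              Subgroup.upperCentralSeries_eq_top_iff_nilpotencyClass_le.mpr hcl
            have hcen : ∀ x y : ↥(SG : Subgroup G), ⁅x, y⁆ ∈ Subgroup.center ↥(SG : Subgroup G) := by
              intro x y
              have hx : x ∈ Subgroup.upperCentralSeries ↥(SG : Subgroup G) (1 + 1) := by
                rw [hup]; exact Subgroup.mem_top x
              have h1 := Subgroup.mem_upperCentralSeries_succ_iff.mp hx y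
              rwa [Subgroup.upperCentralSeries_one] at h1
            have hESG : E ≤ (SG : Subgroup G) := by
              intro e he
              exact hSG ⟨⟨e, hEH he⟩, hAS (Subgroup.mem_subgroupOf.mpr he), rfl⟩
            apply Cfsg.Agent.Lib.Helper1.le_normalizer_of_forall_conj_mem
            intro s hs e he
            rw [Subgroup.mem_subgroupOf] at he ⊢
            have hsSG : (s : G) ∈ (SG : Subgroup G) := hSG ⟨s, hs, rfl⟩
            have heSG : (e : G) ∈ (SG : Subgroup G) := hESG he
            have hc := hcen ⟨s, hsSG⟩ ⟨e, heSG⟩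
            have hcE : ⁅(s : G), (e : G)⁆ ∈ E := by
              apply hEfull
              · rw [Subgroup.mem_centralizer_iff]
                intro y hy
                have h1 := Subgroup.mem_center_iff.mp hc ⟨y, hESG hy⟩
                exact congrArg Subtype.val h1
              · exact (SG.isPGroup').to_le (Subgroup.zpowers_le.mpr
                  ((SG : Subgroup G).mul_mem ((SG : Subgroup G).mul_mem
                    ((SG : Subgroup G).mul_mem hsSG heSG) ((SG : Subgroup G).inv_mem hsSG))
                    ((SG : Subgroup G).inv_mem heSG)))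
            have h1 : ((s * e * s⁻¹ : ↥(Subgroup.normalizer
                ((Subgroup.zpowers a : Subgroup G) : Set G))) : G) = ⁅(s : G), (e : G)⁆ * e := by
              simp only [commutatorElement_def, Subgroup.coe_mul, Subgroup.coe_inv]; group
            rw [h1]
            exact E.mul_mem hcE he
        · refine Cfsg.Agent.Lib.Lead.PCInv.le_pPrimeCore_of_odd hp2 hH _ hA'p ?_ _ hQ'cop hA'Q'
          intro x hx hxo
          rw [Subgroup.mem_subgroupOf]
          apply hEfull _ (hcentE x hx)
          apply hpel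
          refine ⟨1, ?_⟩
          rw [pow_one, ← Subgroup.orderOf_coe] at *
          rw [← hxo]
          exact pow_orderOf_eq_one _
      intro t ht
      exact ⟨⟨t, hTH ht⟩, hle (Subgroup.mem_subgroupOf.mpr ht), rfl⟩
  intro Q₁ hQ₁ Q₂ hQ₂
  obtain ⟨k, hk, hkQ⟩ := transitivity_core hqp E hEp hEcomm V hVE hVp hVcard
    (Cfsg.piCoreOf (Cfsg.primesNotDvd p) (Subgroup.centralizer (E : Set G)))
    (fun c hc hcord => mem_piCoreOf_centralizer E hEfull hc hcord) KL _ Q₁ Q₂
    (maxInv_iff E Q₁ hQ₁) (maxInv_iff E Q₂ hQ₂) rfl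
  exact ⟨k, hk, hkQ⟩

end Cfsg.Agent.S1480
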