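import Cfsg.Statements.S0522
import Cfsg.Agent.S1480
import Cfsg.Agent.Lib.Lead.BGTransHyp
import Cfsg.Agent.Lib.Lead.BGTrans5

set_option autoImplicit false
open Cfsg

namespace Cfsg.Agent.S0522

/-- In a Sylow `p`-subgroup `P` with `B ⊴ P` and `C_P(B) = B`, every `p`-element of `C_G(B)` lies
in `B`. -/
theorem mem_of_scn_pelement {X : Type*} [Group X] [Finite X] {p : ℕ} [Fact p.Prime] (P : Sylow p X)
    {A : Subgroup X} (hPN : (P : Subgroup X) ≤ Subgroup.normalizer (A : Set X))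
    (hPC : (P : Subgroup X) ⊓ Subgroup.centralizer (A : Set X) = A) {y : X}
    (hy : y ∈ Subgroup.centralizer (A : Set X)) (hyp : IsPGroup p (Subgroup.zpowers y)) :
    y ∈ A := by
  have hp : p.Prime := Fact.out
  by_contra hyA
  have hAP : A ≤ (P : Subgroup X) := hPC.ge.trans inf_le_left
  have hAp : IsPGroup p A := P.2.to_le hAP
  have hAC : A ≤ Subgroup.centralizer (A : Set X) := hPC.ge.trans inf_le_right
  have hPnC : (P : Subgroup X) ≤
      Subgroup.normalizer ((Subgroup.centralizer (A : Set X) : Subgroup X) : Set X) :=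
    hPN.trans (Cfsg.Agent.Lib.Lead.BGTrans5.normalizer_le_normalizer_centralizer A)
  have h1 := Cfsg.H5.card_sup_mul_card_inf hPnC
  rw [hPC] at h1
  have hyN : Subgroup.zpowers y ≤ Subgroup.normalizer (A : Set X) :=
    Subgroup.zpowers_le.mpr (Subgroup.centralizer_le_normalizer _ hy)
  have hDp : IsPGroup p (Subgroup.zpowers y ⊔ A : Subgroup X) :=
    IsPGroup.to_sup_of_normal_right' hyp hAp hyN
  have hDC : Subgroup.zpowers y ⊔ A ≤ Subgroup.centralizer (A : Set X) :=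
    sup_le (Subgroup.zpowers_le.mpr hy) hAC
  have hlt : A < Subgroup.zpowers y ⊔ A :=
    lt_of_le_of_ne le_sup_right (fun h => hyA (h ▸ Subgroup.mem_sup_left
      (Subgroup.mem_zpowers y)))
  obtain ⟨a, ha⟩ := hAp.exists_card_eq
  obtain ⟨d, hd⟩ := hDp.exists_card_eq
  have hcardlt := Cfsg.Agent.Lib.Helper1.card_lt_of_lt hlt
  rw [ha, hd] at hcardlt
  have had : a < d := (Nat.pow_lt_pow_iff_right hp.one_lt).mp hcardlt
  have h3 : p * Nat.card A ∣ Nat.card (Subgroup.centralizer (A : Set X)) := by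
    have h4 : p ^ (a + 1) ∣ p ^ d := pow_dvd_pow p had
    rw [ha, ← pow_succ']
    exact h4.trans (hd ▸ Subgroup.card_dvd_of_le hDC)
  obtain ⟨m, hm⟩ := h3
  rw [hm] at h1
  have hPcard : Nat.card (P : Subgroup X) = p ^ (Nat.card X).factorization p :=
    P.card_eq_multiplicity
  have h4 : Nat.card ((P : Subgroup X) ⊔ Subgroup.centralizer (A : Set X) : Subgroup X) =
      Nat.card (P : Subgroup X) * p * m := by
    apply Nat.eq_of_mul_eq_mul_right (Nat.card_pos (α := A))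
    rw [h1]; ring
  have h5 : p ^ ((Nat.card X).factorization p + 1) ∣ Nat.card X := by
    have h6 : Nat.card (P : Subgroup X) * p ∣ Nat.card X :=
      (Dvd.intro m h4.symm).trans (Subgroup.card_subgroup_dvd_card _)
    rwa [hPcard, ← pow_succ] at h6
  exact Nat.pow_succ_factorization_not_dvd Nat.card_pos.ne' hp h5


/-- Transitivity Theorem (odd-order setting). Let X be a finite group of odd order in which the normalizer of every
nontrivial p-subgroup is solvable, P a Sylow p-subgroup, and B an abelian subgroup of P, normalized by P, with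
C_P(B) = B and containing an elementary abelian subgroup of order p^3. Then for every prime q ≠ p, any two q-subgroups
that are maximal among the q-subgroups normalized by B are conjugate by an element of the centralizer of B. -/
theorem result {X : Type*} [Group X] [Finite X] (hX : Odd (Nat.card X)) (p : ℕ)
    [Fact p.Prime] (hloc : ∀ T : Subgroup X, IsPGroup p T → T ≠ ⊥ → Group.IsSolvable (Subgroup.normalizer (T : Set X)))
    (P : Sylow p X) (B : Subgroup X) (hBP : B ≤ (P : Subgroup X))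
    (hBn : ∀ x ∈ (P : Subgroup X), ∀ b ∈ B, x * b * x⁻¹ ∈ B) (hBa : IsMulCommutative B)
    (hBc : (P : Subgroup X) ⊓ Subgroup.centralizer (B : Set X) = B)
    (hB3 : ∃ E : Subgroup X, E ≤ B ∧ (∀ e ∈ E, e ^ p = 1) ∧ p ^ 3 ≤ Nat.card E)
    (q : ℕ) [Fact q.Prime] (hqp : q ≠ p) (Q₁ Q₂ : Subgroup X)
    (h₁ : IsPGroup q Q₁ ∧ B ≤ Subgroup.normalizer (Q₁ : Set X) ∧
      ∀ R : Subgroup X, IsPGroup q R → B ≤ Subgroup.normalizer (R : Set X) → Q₁ ≤ R → R = Q₁)
    (h₂ : IsPGroup q Q₂ ∧ B ≤ Subgroup.normalizer (Q₂ : Set X) ∧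
      ∀ R : Subgroup X, IsPGroup q R → B ≤ Subgroup.normalizer (R : Set X) → Q₂ ≤ R → R = Q₂) :
    ∃ c ∈ Subgroup.centralizer (B : Set X), Q₂ = Q₁.map (MulAut.conj c).toMonoidHom := by
  classical
  have hp : p.Prime := Fact.out
  obtain ⟨E, hEB, hEp, hEcard⟩ := hB3
  have hBp : IsPGroup p B := P.2.to_le hBP
  have hPN : (P : Subgroup X) ≤ Subgroup.normalizer (B : Set X) :=
    Cfsg.Agent.Lib.Helper1.le_normalizer_of_forall_conj_mem hBn
  -- `p` is odd
  have hp2 : p ≠ 2 := by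
    rintro rfl
    have hE2 : IsPGroup 2 E := Cfsg.Agent.Lib.Lead.BGTrans.isPGroup_of_pow_eq_one hEp
    obtain ⟨n, hn⟩ := hE2.exists_card_eq
    have hn0 : n ≠ 0 := by
      rintro rfl
      rw [hn] at hEcard
      norm_num at hEcard
    have h2E : 2 ∣ Nat.card E := hn ▸ dvd_pow_self 2 hn0
    have h2X : 2 ∣ Nat.card X := h2E.trans (Subgroup.card_subgroup_dvd_card E)
    exact (Nat.not_even_iff_odd.mpr hX) (even_iff_two_dvd.mpr h2X)
  have hloc' : ∀ T : Subgroup X, IsPGroup p T → T ≠ ⊥ →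
      Cfsg.IsPConstrained p ↥(Subgroup.normalizer (T : Set X)) := fun T hT hT1 =>
    Cfsg.Agent.Lib.Lead.BGTransHyp.isPConstrained_of_isSolvable p (hloc T hT hT1)
  have hE3 : ¬ Cfsg.PRankLE p 2 ↥B := by
    intro h
    have h1 := h (E.subgroupOf B)
      ⟨⟨fun a b => Subtype.ext (Subtype.ext
        (congrArg Subtype.val (mul_comm' (a : B) (b : B))))⟩⟩
      (fun a ha => Subtype.ext (by simpa using hEp a.1 (Subgroup.mem_subgroupOf.mp ha)))
    rw [Nat.card_congr (Subgroup.subgroupOfEquivOfLe hEB).toEquiv] at h1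
    have h2 : p ^ 2 < p ^ 3 := Nat.pow_lt_pow_right hp.one_lt (by norm_num)
    omega
  have hfull : ∀ x ∈ Subgroup.centralizer (B : Set X), IsPGroup p (Subgroup.zpowers x) → x ∈ B :=
    fun x hx hxp => mem_of_scn_pelement P hPN hBc hx hxp
  have hm₁ : Q₁ ∈ Cfsg.maxInvSubgroups ⊤ B {q} :=
    Cfsg.Agent.Lib.Lead.BGTrans.mem_of_maxInv ⟨⟨h₁.1, h₁.2.1⟩, fun R hR hle => h₁.2.2 R hR.1 hR.2 hle⟩
  have hm₂ : Q₂ ∈ Cfsg.maxInvSubgroups ⊤ B {q} :=
    Cfsg.Agent.Lib.Lead.BGTrans.mem_of_maxInv ⟨⟨h₂.1, h₂.2.1⟩, fun R hR hle => h₂.2.2 R hR.1 hR.2 hle⟩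
  obtain ⟨k, hk, hkQ⟩ := Cfsg.Agent.S1480.result p hloc' (fun h => absurd h hp2) B hBp hBa hE3 hfull q hqp
    Q₁ hm₁ Q₂ hm₂
  exact ⟨k, Cfsg.Agent.Lib.Lead.BGTrans.piCoreOf_le _ _ hk, hkQ⟩

end Cfsg.Agent.S0522
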