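import Cfsg.Statements.S0525
import Cfsg.Agent.Lib.Helper4.Supersolvable
import Mathlib

set_option autoImplicit false
open Cfsg

namespace Cfsg.Agent.S0525

open Cfsg.Agent.Lib.Helper4

theorem map_inl_eq {G H : Type*} [Group G] [Group H] (K : Subgroup G) :
    K.map (MonoidHom.inl G H) = K.prod ⊥ := by
  ext ⟨a, b⟩
  simp only [Subgroup.mem_map, MonoidHom.inl_apply, Prod.mk.injEq, Subgroup.mem_prod,
    Subgroup.mem_bot]
  constructor
  · rintro ⟨x, hx, rfl, rfl⟩
    exact ⟨hx, rfl⟩
  · rintro ⟨ha, rfl⟩
    exact ⟨a, ha, rfl, rfl⟩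

theorem sChain_map_inl {G H : Type*} [Group G] [Group H] {B K : Subgroup G}
    (h : SChain B K) : SChain (B.map (MonoidHom.inl G H)) (K.map (MonoidHom.inl G H)) := by
  induction h with
  | base => exact SChain.base
  | @step K g hK hn ih =>
    have hn' : ((K ⊔ Subgroup.zpowers g).map (MonoidHom.inl G H)).Normal := by
      rw [map_inl_eq]
      infer_instance
    rw [Subgroup.map_sup, MonoidHom.map_zpowers] at hn' ⊢
    exact SChain.step _ ih hn'

/-- A direct product of two finite supersolvable groups is supersolvable. -/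
theorem result {G H : Type*} [Group G] [Group H] [Finite G] [Finite H] (hG : Cfsg.IsSupersolvable G) (hH : Cfsg.IsSupersolvable H) : Cfsg.IsSupersolvable (G × H) := by
  apply isSupersolvable_of_sChain
  have h1 := sChain_map_inl (H := H) (sChain_of_isSupersolvable hG)
  have h2 := (sChain_of_isSupersolvable hH).comap (MonoidHom.snd G H) (fun y => ⟨(1, y), rfl⟩)
  rw [Subgroup.map_bot, map_inl_eq] at h1
  rw [MonoidHom.comap_bot, MonoidHom.ker_snd, Subgroup.comap_top] at h2
  exact h1.trans h2

end Cfsg.Agent.S0525
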