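import Cfsg.Statements.S0527
import Cfsg.Agent.Lib.Helper4.Supersolvable
import Mathlib

set_option autoImplicit false
open Cfsg

namespace Cfsg.Agent.S0527

open Cfsg.Agent.Lib.Helper4

theorem step {G : Type*} [Group G] [Finite G] (N : Subgroup G) [N.Normal]
    (hN : (Nat.card N).Prime)
    (ih : ∀ M : Subgroup (G ⧸ N), IsCoatom M → M.index.Prime)
    (M : Subgroup G) (hM : IsCoatom M) : M.index.Prime := by
  set π := QuotientGroup.mk' N with hπ
  have hsurj : Function.Surjective π := QuotientGroup.mk'_surjective N
  by_cases hNM : N ≤ M
  · have hcomap : (M.map π).comap π = M := by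
      rw [Subgroup.comap_map_eq, hπ, QuotientGroup.ker_mk', sup_eq_left.mpr hNM]
    have hco : IsCoatom (M.map π) := by
      constructor
      · intro h
        apply hM.1
        rw [← hcomap, h, Subgroup.comap_top]
      · intro K hK
        have h1 : M ≤ K.comap π := by
          rw [← hcomap]; exact Subgroup.comap_mono hK.le
        rcases eq_or_lt_of_le h1 with h2 | h2
        · exfalso
          have : K = M.map π := by
            rw [h2, Subgroup.map_comap_eq_self_of_surjective hsurj]
          exact hK.ne this.symm
        · have := hM.2 _ h2
          rw [← Subgroup.map_comap_eq_self_of_surjective hsurj K, this,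
            Subgroup.map_top_of_surjective π hsurj]
    have := ih _ hco
    rwa [Subgroup.index_map_eq _ hsurj (by rw [hπ, QuotientGroup.ker_mk']; exact hNM)] at this
  · have hsup : M ⊔ N = ⊤ := by
      apply hM.2
      apply lt_of_le_of_ne le_sup_left
      intro h
      exact hNM (by rw [h]; exact le_sup_right)
    have hinf : M ⊓ N = ⊥ := by
      have : Fact (Nat.card N).Prime := ⟨hN⟩
      rcases Subgroup.eq_bot_or_eq_top_of_prime_card (M.subgroupOf N) with h | h
      · rwa [Subgroup.subgroupOf_eq_bot, disjoint_iff] at h
      · exfalso
        rw [Subgroup.subgroupOf_eq_top] at h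
        exact hNM h
    have hc : Subgroup.IsComplement' M N := by
      apply Subgroup.isComplement'_of_disjoint_and_mul_eq_univ (disjoint_iff.mpr hinf)
      rw [← Subgroup.mul_normal, hsup]; rfl
    rw [hc.symm.index_eq_card]
    exact hN

/-- In a finite supersolvable group the index of any maximal subgroup is a prime number. -/
theorem result {G : Type*} [Group G] [Finite G] (hG : Cfsg.IsSupersolvable G) (M : Subgroup G) (hM : IsCoatom M) : M.index.Prime := by
  revert M
  refine isSupersolvable_induction (P := fun G _ => ∀ M : Subgroup G, IsCoatom M → M.index.Prime)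
    ?_ ?_ G hG
  · intro G _ _ hs M hM
    exact absurd (Subsingleton.elim M ⊤) hM.1
  · intro G _ _ N _ hN _ _ ih
    exact step N hN ih

end Cfsg.Agent.S0527
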