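import Cfsg.Statements.S0531
import Cfsg.Agent.Lib.Helper4.Supersolvable
import Cfsg.Agent.Lib.Helper1.Hall
import Mathlib

set_option autoImplicit false
open Cfsg

namespace Cfsg.Agent.S0531

open Cfsg.Agent.Lib.Helper4

theorem step {G : Type*} [Group G] [Finite G] (N : Subgroup G) [N.Normal]
    (hN : (Nat.card N).Prime) (ih : Cfsg.HasSubgroupOfEveryOrder (G ⧸ N)) :
    Cfsg.HasSubgroupOfEveryOrder G := by
  intro d hd
  set p := Nat.card N with hp
  have hcard : Nat.card G = Nat.card (G ⧸ N) * p := Subgroup.card_eq_card_quotient_mul_card_subgroup N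
  by_cases hpd : p ∣ d
  · obtain ⟨d', rfl⟩ := hpd
    have hd' : d' ∣ Nat.card (G ⧸ N) := by
      rw [hcard, mul_comm p d'] at hd
      exact Nat.dvd_of_mul_dvd_mul_right hN.pos hd
    obtain ⟨K, hK⟩ := ih d' hd'
    refine ⟨K.comap (QuotientGroup.mk' N), ?_⟩
    rw [Cfsg.Agent.Lib.Helper1.card_comap_mk, hK, mul_comm]
  · have hcop : Nat.Coprime d p := (Nat.Coprime.symm ((Nat.Prime.coprime_iff_not_dvd hN).mpr hpd))
    have hd' : d ∣ Nat.card (G ⧸ N) := by
      rw [hcard] at hd
      exact hcop.dvd_of_dvd_mul_right hd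
    obtain ⟨Kb, hKb⟩ := ih d hd'
    set K := Kb.comap (QuotientGroup.mk' N) with hK
    have hKcard : Nat.card K = d * p := by
      rw [hK, Cfsg.Agent.Lib.Helper1.card_comap_mk, hKb]
    have hNK : N ≤ K := by
      rw [hK]
      conv_lhs => rw [← QuotientGroup.ker_mk' N]
      exact MonoidHom.ker_le_comap _ _
    have hN'card : Nat.card (N.subgroupOf K) = p := by
      rw [Nat.card_congr (Subgroup.subgroupOfEquivOfLe hNK).toEquiv]
    have hN'index : (N.subgroupOf K).index = d := by
      have := Subgroup.card_mul_index (N.subgroupOf K)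
      rw [hN'card, hKcard, mul_comm] at this
      exact Nat.eq_of_mul_eq_mul_right hN.pos this
    obtain ⟨H, hH⟩ := Subgroup.exists_right_complement'_of_coprime (N := N.subgroupOf K)
      (by rw [hN'card, hN'index]; exact hcop.symm)
    refine ⟨H.map K.subtype, ?_⟩
    rw [Nat.card_congr (Subgroup.equivMapOfInjective H K.subtype K.subtype_injective).symm.toEquiv]
    rw [← hN'index]
    exact hH.symm.index_eq_card.symm

/-- A finite supersolvable group has a subgroup of each order dividing its order. -/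
theorem result {G : Type*} [Group G] [Finite G] (hG : Cfsg.IsSupersolvable G) : Cfsg.HasSubgroupOfEveryOrder G := by
  refine isSupersolvable_induction (P := fun G _ => Cfsg.HasSubgroupOfEveryOrder G)
    ?_ ?_ G hG
  · intro G _ _ hs d hd
    rw [Nat.card_unique, Nat.dvd_one] at hd
    subst hd
    exact ⟨⊥, Subgroup.card_bot⟩
  · intro G _ _ N _ hN _ _ ih
    exact step N hN ih

end Cfsg.Agent.S0531
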