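import Cfsg.Statements.S0532
import Mathlib

set_option autoImplicit false
open Cfsg

namespace Cfsg.Agent.S0532

universe u

theorem hasSubgroupOfEveryOrder_of_mulEquiv {A B : Type*} [Group A] [Group B] (e : A ≃* B)
    (h : Cfsg.HasSubgroupOfEveryOrder A) : Cfsg.HasSubgroupOfEveryOrder B := by
  intro d hd
  rw [← Nat.card_congr e.toEquiv] at hd
  obtain ⟨K, hK⟩ := h d hd
  refine ⟨K.map e.toMonoidHom, ?_⟩
  rw [← hK]
  exact (Nat.card_congr (Subgroup.equivMapOfInjective K e.toMonoidHom e.injective).toEquiv).symm

/-- the hereditary converse-of-Lagrange property -/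
def HCLT (G : Type*) [Group G] : Prop := ∀ H : Subgroup G, Cfsg.HasSubgroupOfEveryOrder H

theorem HCLT.subgroup {G : Type*} [Group G] (h : HCLT G) (M : Subgroup G) : HCLT M := by
  intro H
  exact hasSubgroupOfEveryOrder_of_mulEquiv
    (Subgroup.equivMapOfInjective H M.subtype M.subtype_injective).symm (h (H.map M.subtype))

theorem HCLT.exists_card {G : Type*} [Group G] (h : HCLT G) (d : ℕ) (hd : d ∣ Nat.card G) :
    ∃ H : Subgroup G, Nat.card H = d := by
  have h1 := h ⊤
  have h2 := hasSubgroupOfEveryOrder_of_mulEquiv (Subgroup.topEquiv (G := G)) h1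
  exact h2 d hd

theorem exists_normal_sylow_aux (n : ℕ) : ∀ (G : Type u) [Group G] [Finite G], Nat.card G = n →
    HCLT G → ∀ (p : ℕ) [Fact p.Prime], p ∣ Nat.card G →
    (∀ q : ℕ, q.Prime → q ∣ Nat.card G → q ≤ p) → ∃ Q : Sylow p G, (Q : Subgroup G).Normal := by
  induction n using Nat.strong_induction_on with
  | _ n ih =>
    intro G _ _ hcard h p hp hdvd hmax
    have hG1 : Nat.card G ≠ 1 := by
      intro h1
      rw [h1, Nat.dvd_one] at hdvd
      exact hp.out.one_lt.ne' hdvd
    set q := (Nat.card G).minFac with hq
    have hqprime : q.Prime := Nat.minFac_prime hG1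
    have hqdvd : q ∣ Nat.card G := Nat.minFac_dvd _
    by_cases hqp : q = p
    · -- `G` is a `p`-group
      have hpg : IsPGroup p G := by
        rw [IsPGroup.iff_card]
        refine ⟨(Nat.card G).primeFactorsList.length, ?_⟩
        apply Nat.eq_prime_pow_of_unique_prime_dvd Nat.card_pos.ne'
        intro r hr hrd
        have h1 : q ≤ r := Nat.minFac_le_of_dvd hr.two_le hrd
        have h2 : r ≤ p := hmax r hr hrd
        omega
      obtain ⟨Q, hQ⟩ := IsPGroup.exists_le_sylow (hpg.to_subgroup ⊤)
      refine ⟨Q, ?_⟩
      rw [top_le_iff.mp hQ]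
      infer_instance
    · have hqltp : q < p := lt_of_le_of_ne (hmax q hqprime hqdvd) hqp
      obtain ⟨m, hm⟩ := hqdvd
      obtain ⟨M, hM⟩ := h.exists_card m ⟨q, by rw [hm, mul_comm]⟩
      have hMindex : M.index = q := by
        have := Subgroup.card_mul_index M
        rw [hM, hm, mul_comm] at this
        have hm0 : 0 < m := by
          rcases Nat.eq_zero_or_pos m with h0 | h0
          · rw [h0, mul_zero] at hm
            exact absurd hm Nat.card_pos.ne'
          · exact h0
        exact Nat.eq_of_mul_eq_mul_right hm0 this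
      have hMn : M.Normal := Subgroup.normal_of_index_eq_minFac_card hMindex
      have hpM : p ∣ Nat.card M := by
        rw [hM]
        rw [hm] at hdvd
        exact ((Nat.Prime.coprime_iff_not_dvd hp.out).mpr (fun hpq =>
          hqp ((Nat.prime_dvd_prime_iff_eq hp.out hqprime).mp hpq).symm)).dvd_of_dvd_mul_left hdvd
      have hmaxM : ∀ r : ℕ, r.Prime → r ∣ Nat.card M → r ≤ p := fun r hr hrd =>
        hmax r hr (hrd.trans (Subgroup.card_subgroup_dvd_card M))
      have hlt : Nat.card M < n := by
        rw [← hcard, hM, hm]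
        have := hqprime.two_le
        have hm0 : 0 < m := by
          rcases Nat.eq_zero_or_pos m with h0 | h0
          · rw [h0, mul_zero] at hm
            exact absurd hm Nat.card_pos.ne'
          · exact h0
        nlinarith
      obtain ⟨QM, hQM⟩ := ih _ hlt M rfl (h.subgroup M) p hpM hmaxM
      have : (QM : Subgroup M).Characteristic := Sylow.characteristic_of_normal QM hQM
      have hnormal : ((QM : Subgroup M).map M.subtype).Normal :=
        ConjAct.normal_of_characteristic_of_normal
      have hfac : (Nat.card G).factorization p = (Nat.card M).factorization p := by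
        rw [hm, hM, Nat.factorization_mul hqprime.ne_zero (by
          rintro rfl; rw [mul_zero] at hm; exact Nat.card_pos.ne' hm)]
        simp only [Finsupp.coe_add, Pi.add_apply]
        rw [Nat.Prime.factorization hqprime, Finsupp.single_apply, if_neg hqp, zero_add]
      have hcardQ : Nat.card ((QM : Subgroup M).map M.subtype) = p ^ (Nat.card G).factorization p := by
        rw [hfac, ← Sylow.card_eq_multiplicity QM]
        exact (Nat.card_congr (Subgroup.equivMapOfInjective _ M.subtype M.subtype_injective).toEquiv).symm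
      exact ⟨Sylow.ofCard _ hcardQ, hnormal⟩

/-- If each subgroup of a finite group satisfies the converse of Lagrange's theorem, then a Sylow subgroup for the largest prime dividing the group order is normal. -/
theorem result {G : Type*} [Group G] [Finite G] (h : ∀ H : Subgroup G, Cfsg.HasSubgroupOfEveryOrder H) (p : ℕ) [Fact p.Prime] (hdvd : p ∣ Nat.card G) (hmax : ∀ q : ℕ, q.Prime → q ∣ Nat.card G → q ≤ p) (P : Sylow p G) : (P : Subgroup G).Normal := by
  obtain ⟨Q, hQ⟩ := exists_normal_sylow_aux _ G rfl h p hdvd hmax
  obtain ⟨g, hg⟩ := MulAction.exists_smul_eq G Q P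
  rw [← hg, Sylow.smul_eq_of_normal]
  exact hQ

end Cfsg.Agent.S0532
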