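import Cfsg.Statements.S0529
import Cfsg.Agent.S0531
import Cfsg.Agent.S0532
import Cfsg.Agent.Lib.Helper4.Supersolvable
import Mathlib

set_option autoImplicit false
open Cfsg

namespace Cfsg.Agent.S0529

open Cfsg.Agent.Lib.Helper4

universe u

/-- a finite supersolvable group satisfies the hereditary converse of Lagrange -/
theorem hclt_of_isSupersolvable {G : Type*} [Group G] [Finite G] (hG : Cfsg.IsSupersolvable G) :
    Cfsg.Agent.S0532.HCLT G := fun H =>
  Cfsg.Agent.S0531.result (isSupersolvable_subgroup H hG)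

/-- a normal subgroup whose order is the largest prime divisor of the group order -/
theorem exists_normal_card_eq_max_prime {G : Type*} [Group G] [Finite G]
    (hG : Cfsg.IsSupersolvable G) (p : ℕ) (hp : p.Prime) (hpd : p ∣ Nat.card G)
    (hmax : ∀ q : ℕ, q.Prime → q ∣ Nat.card G → q ≤ p) :
    ∃ N : Subgroup G, N.Normal ∧ Nat.card N = p := by
  have : Fact p.Prime := ⟨hp⟩
  let P : Sylow p G := Classical.arbitrary _
  have hPn : (P : Subgroup G).Normal :=
    Cfsg.Agent.S0532.result (hclt_of_isSupersolvable hG) p hpd hmax P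
  have hPne : (P : Subgroup G) ≠ ⊥ := by
    intro h0
    have h1 := Sylow.card_eq_multiplicity P
    have h2 : Nat.card (P : Subgroup G) = 1 := by rw [h0]; exact Subgroup.card_bot
    have h3 : 0 < (Nat.card G).factorization p :=
      Nat.Prime.factorization_pos_of_dvd hp Nat.card_pos.ne' hpd
    have h4 : Nat.card (P : Subgroup G) = p ^ (Nat.card G).factorization p := h1
    rw [h2] at h4
    have := Nat.one_lt_pow h3.ne' hp.one_lt
    omega
  obtain ⟨N, hNP, hNn, hNc⟩ := exists_normal_prime_le_of_isSupersolvable hG (P : Subgroup G) hPne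
  refine ⟨N, hNn, ?_⟩
  have h1 : Nat.card N ∣ Nat.card (P : Subgroup G) := Subgroup.card_dvd_of_le hNP
  have h2 : Nat.card (P : Subgroup G) = p ^ (Nat.card G).factorization p :=
    Sylow.card_eq_multiplicity P
  rw [h2] at h1
  exact (Nat.prime_dvd_prime_iff_eq hNc hp).mp (hNc.dvd_of_dvd_pow h1)

/-- the conclusion of the statement -/
def Good (G : Type*) [Group G] : Prop :=
  ∃ (n : ℕ) (H : Fin (n + 1) → Subgroup G), H 0 = ⊥ ∧ H (Fin.last n) = ⊤ ∧ (∀ i, (H i).Normal) ∧
    (∀ i : Fin n, H i.castSucc ≤ H i.succ ∧ ((H i.castSucc).relIndex (H i.succ)).Prime) ∧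
    ∀ i j : Fin n, i ≤ j →
      (H j.castSucc).relIndex (H j.succ) ≤ (H i.castSucc).relIndex (H i.succ)

theorem good_step {G : Type*} [Group G] [Finite G] (N : Subgroup G) [N.Normal] (p : ℕ)
    (hp : p.Prime) (hN : Nat.card N = p) (hmax : ∀ q : ℕ, q.Prime → q ∣ Nat.card G → q ≤ p)
    (h : Good (G ⧸ N)) : Good G := by
  obtain ⟨n, Hb, h0, hl, hnorm, hstep, hmono⟩ := h
  set π := QuotientGroup.mk' N with hπ
  have hsurj : Function.Surjective π := QuotientGroup.mk'_surjective N
  have hrel : ∀ A B : Subgroup (G ⧸ N), (A.comap π).relIndex (B.comap π) = A.relIndex B := by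
    intro A B
    rw [Subgroup.relIndex_comap, Subgroup.map_comap_eq_self_of_surjective hsurj]
  refine ⟨n + 1, Fin.cons ⊥ (fun i => (Hb i).comap π), ?_, ?_, ?_, ?_, ?_⟩
  · rfl
  · have : Fin.last (n + 1) = (Fin.last n).succ := rfl
    rw [this, Fin.cons_succ, hl, Subgroup.comap_top]
  · intro i
    refine Fin.cases ?_ (fun j => ?_) i
    · rw [Fin.cons_zero]; infer_instance
    · rw [Fin.cons_succ]; exact (hnorm j).comap π
  · intro i
    refine Fin.cases ?_ (fun j => ?_) i
    · have e1 : (0 : Fin (n + 1)).castSucc = (0 : Fin (n + 1 + 1)) := rfl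
      rw [e1, Fin.cons_zero, Fin.cons_succ, h0, MonoidHom.comap_bot, hπ, QuotientGroup.ker_mk']
      refine ⟨bot_le, ?_⟩
      rw [Subgroup.relIndex_bot_left, hN]; exact hp
    · have e1 : j.succ.castSucc = j.castSucc.succ := rfl
      rw [e1, Fin.cons_succ, Fin.cons_succ, hrel]
      exact ⟨Subgroup.comap_mono (hstep j).1, (hstep j).2⟩
  · intro i j
    refine Fin.cases ?_ (fun j' => ?_) j
    · intro hij
      have : i = 0 := Fin.le_zero_iff.mp hij
      rw [this]
    · refine Fin.cases ?_ (fun i' => ?_) i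
      · intro _
        have e0 : (0 : Fin (n + 1)).castSucc = (0 : Fin (n + 1 + 1)) := rfl
        have e1 : j'.succ.castSucc = j'.castSucc.succ := rfl
        rw [e0, e1, Fin.cons_zero, Fin.cons_succ, Fin.cons_succ, Fin.cons_succ, hrel, h0,
          MonoidHom.comap_bot, hπ, QuotientGroup.ker_mk', Subgroup.relIndex_bot_left, hN]
        apply hmax _ (hstep j').2
        exact (Subgroup.relIndex_dvd_card _ _).trans
          ((Subgroup.card_subgroup_dvd_card _).trans (Subgroup.card_quotient_dvd_card N))
      · intro hij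
        have e1 : j'.succ.castSucc = j'.castSucc.succ := rfl
        have e2 : i'.succ.castSucc = i'.castSucc.succ := rfl
        rw [e1, e2, Fin.cons_succ, Fin.cons_succ, Fin.cons_succ, Fin.cons_succ, hrel, hrel]
        exact hmono i' j' (Fin.succ_le_succ_iff.mp hij)

theorem main (n : ℕ) : ∀ (G : Type u) [Group G] [Finite G], Nat.card G = n →
    Cfsg.IsSupersolvable G → Good G := by
  induction n using Nat.strong_induction_on with
  | _ n ih =>
    intro G _ _ hcard hG
    rcases subsingleton_or_nontrivial G with hs | hnt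
    · refine ⟨0, fun _ => ⊥, rfl, Subsingleton.elim _ _, fun _ => inferInstance,
        fun i => i.elim0, fun i => i.elim0⟩
    · have hcard1 : 1 < Nat.card G := Finite.one_lt_card
      have hne : (Nat.card G).primeFactors.Nonempty := by
        obtain ⟨q, hq, hqd⟩ := Nat.exists_prime_and_dvd hcard1.ne'
        exact ⟨q, Nat.mem_primeFactors.mpr ⟨hq, hqd, Nat.card_pos.ne'⟩⟩
      set p := (Nat.card G).primeFactors.max' hne with hp_def
      have hpmem : p ∈ (Nat.card G).primeFactors := Finset.max'_mem _ hne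
      have hp : p.Prime := (Nat.mem_primeFactors.mp hpmem).1
      have hpdvd : p ∣ Nat.card G := (Nat.mem_primeFactors.mp hpmem).2.1
      have hmax : ∀ q : ℕ, q.Prime → q ∣ Nat.card G → q ≤ p := fun q hq hqd =>
        Finset.le_max' _ q (Nat.mem_primeFactors.mpr ⟨hq, hqd, Nat.card_pos.ne'⟩)
      obtain ⟨N, hNn, hNc⟩ := exists_normal_card_eq_max_prime hG p hp hpdvd hmax
      have hq := isSupersolvable_quotient N hG
      have hlt : Nat.card (G ⧸ N) < n := by
        rw [← hcard]
        exact card_quotient_lt_of_prime N (by rw [hNc]; exact hp)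
      exact good_step N p hp hNc hmax (ih _ hlt (G ⧸ N) rfl hq)

/-- A finite supersolvable group has a chain of normal subgroups, from the trivial subgroup to the whole group, in which every step has prime index and the primes occurring are non-increasing as one goes up the chain. -/
theorem result {G : Type*} [Group G] [Finite G] (hG : Cfsg.IsSupersolvable G) : ∃ (n : ℕ) (H : Fin (n + 1) → Subgroup G), H 0 = ⊥ ∧ H (Fin.last n) = ⊤ ∧ (∀ i, (H i).Normal) ∧ (∀ i : Fin n, H i.castSucc ≤ H i.succ ∧ ((H i.castSucc).relIndex (H i.succ)).Prime) ∧ ∀ i j : Fin n, i ≤ j → (H j.castSucc).relIndex (H j.succ) ≤ (H i.castSucc).relIndex (H i.succ) := by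
  exact main _ G rfl hG

end Cfsg.Agent.S0529
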