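import Cfsg.Statements.S0530
import Cfsg.Agent.Lib.Helper4.Supersolvable
import Mathlib

set_option autoImplicit false
open Cfsg

namespace Cfsg.Agent.S0530

open Cfsg.Agent.Lib.Helper4

universe u

/-- an involution which maps `y` into `zpowers y` normalizes `zpowers y` -/
theorem mem_normalizer_zpowers {G : Type*} [Group G] (t y : G) (ht : t * t = 1)
    (h : t * y * t⁻¹ ∈ Subgroup.zpowers y) :
    t ∈ Subgroup.normalizer (Subgroup.zpowers y : Set G) := by
  have hfwd : ∀ n ∈ Subgroup.zpowers y, t * n * t⁻¹ ∈ Subgroup.zpowers y := by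
    intro n hn
    obtain ⟨k, rfl⟩ := Subgroup.mem_zpowers_iff.mp hn
    rw [← conj_zpow]
    exact Subgroup.zpow_mem _ h k
  rw [Subgroup.mem_normalizer_iff]
  intro n
  refine ⟨hfwd n, fun hn => ?_⟩
  have h2 := hfwd _ hn
  have htinv : t⁻¹ = t := inv_eq_of_mul_eq_one_left ht
  have e : t * (t * n * t⁻¹) * t⁻¹ = n := by
    rw [htinv]
    calc t * (t * n * t) * t = (t * t) * n * (t * t) := by group
      _ = n := by rw [ht, one_mul, mul_one]
  rwa [e] at h2

theorem main (p : ℕ) (hp : p.Prime) (hp2 : p ≠ 2) (n : ℕ) :
    ∀ (G : Type u) [Group G] [Finite G], Nat.card G = 2 * p ^ n → Cfsg.IsSupersolvable G := by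
  induction n with
  | zero =>
    intro G _ _ hcard
    have : Fact (Nat.Prime 2) := ⟨Nat.prime_two⟩
    apply isSupersolvable_of_isPGroup 2
    rw [IsPGroup.iff_card]
    exact ⟨1, by rw [hcard]; norm_num⟩
  | succ n ih =>
    intro G _ _ hcard
    have : Fact p.Prime := ⟨hp⟩
    have hpodd : ¬ p ∣ 2 := by
      intro h
      exact hp2 ((Nat.prime_dvd_prime_iff_eq hp Nat.prime_two).mp h)
    have hfac : (Nat.card G).factorization p = n + 1 := by
      rw [hcard, Nat.factorization_mul (by norm_num) (pow_pos hp.pos _).ne']
      simp only [Finsupp.coe_add, Pi.add_apply]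
      rw [Nat.factorization_eq_zero_of_not_dvd hpodd, Nat.Prime.factorization_pow hp]
      simp
    let P : Sylow p G := Classical.arbitrary _
    have hPcard : Nat.card (P : Subgroup G) = p ^ (n + 1) := by
      rw [← hfac]; exact Sylow.card_eq_multiplicity P
    have hPindex : (P : Subgroup G).index = 2 := by
      have := Subgroup.card_mul_index (P : Subgroup G)
      rw [hPcard, hcard, mul_comm] at this
      exact Nat.eq_of_mul_eq_mul_right (pow_pos hp.pos _) this
    have hPn : (P : Subgroup G).Normal := Subgroup.normal_of_index_eq_two hPindex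
    -- an element of order p in the centre of P
    have hPnt : Nontrivial (P : Subgroup G) := by
      rw [← Finite.one_lt_card_iff_nontrivial, hPcard]
      exact Nat.one_lt_pow (Nat.succ_ne_zero n) hp.one_lt
    have hcnt : Nontrivial (Subgroup.center (P : Subgroup G)) := P.isPGroup'.center_nontrivial
    have hdvd : p ∣ Nat.card (Subgroup.center (P : Subgroup G)) := by
      rcases (P.isPGroup'.to_subgroup (Subgroup.center (P : Subgroup G))).card_eq_or_dvd with h | h
      · exact absurd h Finite.one_lt_card.ne'
      · exact h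
    obtain ⟨z, hz⟩ := exists_prime_orderOf_dvd_card' p hdvd
    set Z : Subgroup G := (Subgroup.center (P : Subgroup G)).map (P : Subgroup G).subtype with hZ
    have hZn : Z.Normal := ConjAct.normal_of_characteristic_of_normal
    set v : G := ((z : (P : Subgroup G)) : G) with hv
    have hvZ : v ∈ Z := ⟨z, z.2, rfl⟩
    have hvord : orderOf v = p := by
      rw [hv, Subgroup.orderOf_coe, Subgroup.orderOf_coe, hz]
    -- elements of Z commute with each other and with P
    have hZcomm : ∀ a ∈ Z, ∀ x ∈ (P : Subgroup G), x * a = a * x := by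
      rintro a ⟨c, hc, rfl⟩ x hx
      have h2 := Subgroup.mem_center_iff.mp hc ⟨x, hx⟩
      exact congrArg Subtype.val h2
    have hZP : Z ≤ (P : Subgroup G) := by
      rintro a ⟨c, _, rfl⟩
      exact c.2
    -- an involution
    have h2dvd : 2 ∣ Nat.card G := by rw [hcard]; exact Dvd.intro _ rfl
    have : Fact (Nat.Prime 2) := ⟨Nat.prime_two⟩
    obtain ⟨t, ht⟩ := exists_prime_orderOf_dvd_card' 2 h2dvd
    have htt : t * t = 1 := by
      have := pow_orderOf_eq_one t
      rwa [ht, pow_two] at this
    have htP : t ∉ (P : Subgroup G) := by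
      intro h
      have h1 : orderOf t ∣ Nat.card (P : Subgroup G) := by
        have := orderOf_dvd_natCard (⟨t, h⟩ : (P : Subgroup G))
        rwa [Subgroup.orderOf_mk] at this
      rw [ht, hPcard] at h1
      have := (Nat.Prime.dvd_of_dvd_pow Nat.prime_two h1)
      exact hp2 ((Nat.prime_dvd_prime_iff_eq Nat.prime_two hp).mp this).symm
    have hsup : (P : Subgroup G) ⊔ Subgroup.zpowers t = ⊤ := by
      rw [← Subgroup.index_eq_one]
      have h1 : ((P : Subgroup G) ⊔ Subgroup.zpowers t).index ∣ 2 := by
        rw [← hPindex]; exact Subgroup.index_dvd_of_le le_sup_left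
      rcases (Nat.dvd_prime Nat.prime_two).mp h1 with h2 | h2
      · exact h2
      · exfalso
        apply htP
        have : (P : Subgroup G) = (P : Subgroup G) ⊔ Subgroup.zpowers t := by
          apply Subgroup.eq_of_le_of_card_ge le_sup_left
          have e1 := Subgroup.card_mul_index (P : Subgroup G)
          have e2 := Subgroup.card_mul_index ((P : Subgroup G) ⊔ Subgroup.zpowers t)
          rw [hPindex] at e1
          rw [h2, ← e1] at e2
          exact (Nat.eq_of_mul_eq_mul_right (by norm_num) e2).le
        rw [this]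
        exact le_sup_right (a := (P : Subgroup G)) (Subgroup.mem_zpowers t)
    -- the key element y
    obtain ⟨y, hyZ, hyord, hty⟩ : ∃ y ∈ Z, orderOf y = p ∧ t * y * t⁻¹ ∈ Subgroup.zpowers y := by
      set u := t * v * t⁻¹ with hu
      have huZ : u ∈ Z := hZn.conj_mem v hvZ t
      have huv : u * v = v * u := hZcomm v hvZ u (hZP huZ)
      have htinv : t⁻¹ = t := inv_eq_of_mul_eq_one_left htt
      have htu : t * u * t⁻¹ = v := by
        rw [hu, htinv]
        calc t * (t * v * t) * t = (t * t) * v * (t * t) := by group
          _ = v := by rw [htt, one_mul, mul_one]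
      by_cases hw : v * u = 1
      · refine ⟨v, hvZ, hvord, ?_⟩
        have : u = v⁻¹ := (inv_eq_of_mul_eq_one_right hw).symm
        rw [← hu, this]
        exact Subgroup.inv_mem _ (Subgroup.mem_zpowers v)
      · refine ⟨v * u, Z.mul_mem hvZ huZ, ?_, ?_⟩
        · have hpow : (v * u) ^ p = 1 := by
            have hcomm : Commute v u := huv.symm
            rw [hcomm.mul_pow]
            have h1 : v ^ p = 1 := by rw [← hvord]; exact pow_orderOf_eq_one v
            have h2 : u ^ p = 1 := by
              rw [hu, conj_pow, h1, mul_one, mul_inv_cancel]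
            rw [h1, h2, one_mul]
          exact orderOf_eq_prime hpow hw
        · have : t * (v * u) * t⁻¹ = v * u := by
            have e : t * (v * u) * t⁻¹ = (t * v * t⁻¹) * (t * u * t⁻¹) := by group
            rw [e, htu, ← hu, huv]
          rw [this]
          exact Subgroup.mem_zpowers _
    set N := Subgroup.zpowers y with hN
    have hNn : N.Normal := by
      rw [← Subgroup.normalizer_eq_top_iff, eq_top_iff, ← hsup, sup_le_iff]
      constructor
      · intro x hx
        rw [Subgroup.mem_normalizer_iff]
        have hc : ∀ m ∈ N, x * m * x⁻¹ = m := by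
          intro m hm
          have hmZ : m ∈ Z := by
            obtain ⟨k, rfl⟩ := Subgroup.mem_zpowers_iff.mp hm
            exact Z.zpow_mem hyZ k
          rw [hZcomm m hmZ x hx, mul_inv_cancel_right]
        intro m
        constructor
        · intro hm; rw [hc m hm]; exact hm
        · intro hm
          have h3 := hc _ hm
          have e : x * m * x⁻¹ = m := by
            have h4 : x⁻¹ * (x * (x * m * x⁻¹) * x⁻¹) * x = x⁻¹ * (x * m * x⁻¹) * x := by rw [h3]
            have l : x⁻¹ * (x * (x * m * x⁻¹) * x⁻¹) * x = x * m * x⁻¹ := by group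
            have r : x⁻¹ * (x * m * x⁻¹) * x = m := by group
            rw [l, r] at h4
            exact h4
          rw [← e]; exact hm
      · rw [Subgroup.zpowers_le]
        exact mem_normalizer_zpowers t y htt hty
    have hNc : Nat.card N = p := by rw [hN, Nat.card_zpowers, hyord]
    have hq : Nat.card (G ⧸ N) = 2 * p ^ n := by
      have := Subgroup.card_eq_card_quotient_mul_card_subgroup N
      rw [hNc, hcard, pow_succ, ← mul_assoc] at this
      exact (Nat.eq_of_mul_eq_mul_right hp.pos this).symm
    exact isSupersolvable_of_prime_normal N (by rw [hNc]; exact hp) (ih (G ⧸ N) hq)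

/-- A finite group whose order is twice a prime power is supersolvable. -/
theorem result {G : Type*} [Group G] [Finite G] (p n : ℕ) (hp : p.Prime) (hG : Nat.card G = 2 * p ^ n) : Cfsg.IsSupersolvable G := by
  by_cases hp2 : p = 2
  · subst hp2
    have : Fact (Nat.Prime 2) := ⟨Nat.prime_two⟩
    apply isSupersolvable_of_isPGroup 2
    rw [IsPGroup.iff_card]
    exact ⟨n + 1, by rw [hG, pow_succ, mul_comm]⟩
  · exact main p hp hp2 n G hG

end Cfsg.Agent.S0530
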