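import Cfsg.Statements.S0533
import Cfsg.Agent.S0532
import Cfsg.Agent.Lib.Helper4.Supersolvable
import Cfsg.Agent.Lib.Helper1.Hall
import Cfsg.Agent.Lib.Helper10.PGroup
import Mathlib

set_option autoImplicit false
open Cfsg

namespace Cfsg.Agent.S0533

open Cfsg.Agent.Lib.Helper4 Cfsg.Agent.S0532

universe u

theorem HCLT.flat {G : Type*} [Group G] (h : HCLT G) (K : Subgroup G) (d : ℕ)
    (hd : d ∣ Nat.card K) : ∃ D : Subgroup G, D ≤ K ∧ Nat.card D = d := by
  obtain ⟨D', hD'⟩ := h K d hd
  refine ⟨D'.map K.subtype, Subgroup.map_subtype_le D', ?_⟩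
  rw [← hD']
  exact (Nat.card_congr (Subgroup.equivMapOfInjective D' K.subtype K.subtype_injective).toEquiv).symm

theorem HCLT.of_flat {G : Type*} [Group G]
    (h : ∀ (K : Subgroup G) (d : ℕ), d ∣ Nat.card K → ∃ D : Subgroup G, D ≤ K ∧ Nat.card D = d) :
    HCLT G := by
  intro K d hd
  obtain ⟨D, hDK, hD⟩ := h K d hd
  exact ⟨D.subgroupOf K, by rw [Nat.card_congr (Subgroup.subgroupOfEquivOfLe hDK).toEquiv]; exact hD⟩

theorem inf_eq_bot_of_prime_of_not_le {G : Type*} [Group G] (D N : Subgroup G)
    (hN : (Nat.card N).Prime) (h : ¬ N ≤ D) : D ⊓ N = ⊥ := by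
  have : Fact (Nat.card N).Prime := ⟨hN⟩
  rcases Subgroup.eq_bot_or_eq_top_of_prime_card (D.subgroupOf N) with h' | h'
  · rwa [Subgroup.subgroupOf_eq_bot, disjoint_iff] at h'
  · exfalso
    rw [Subgroup.subgroupOf_eq_top] at h'
    exact h h'

theorem HCLT.quotient_prime {G : Type*} [Group G] [Finite G] (h : HCLT G) (N : Subgroup G)
    [N.Normal] (hN : (Nat.card N).Prime) : HCLT (G ⧸ N) := by
  apply HCLT.of_flat
  intro Kb d hd
  set r := Nat.card N with hr
  set K := Kb.comap (QuotientGroup.mk' N) with hK
  have hKcard : Nat.card K = Nat.card Kb * r := Cfsg.Agent.Lib.Helper1.card_comap_mk N Kb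
  have hdr : d * r ∣ Nat.card K := by
    rw [hKcard]; exact Nat.mul_dvd_mul_right hd r
  obtain ⟨D, hDK, hD⟩ := HCLT.flat h K (d * r) hdr
  by_cases hND : N ≤ D
  · refine ⟨D.map (QuotientGroup.mk' N), ?_, ?_⟩
    · rw [Subgroup.map_le_iff_le_comap]; exact hDK
    · have := Cfsg.Agent.Lib.Helper1.card_map_mk_of_le N hND
      rw [hD] at this
      exact Nat.eq_of_mul_eq_mul_right hN.pos this
  · have hDN : D ⊓ N = ⊥ := inf_eq_bot_of_prime_of_not_le D N hN hND
    obtain ⟨D', hD'D, hD'⟩ := HCLT.flat h D d (by rw [hD]; exact Dvd.intro _ rfl)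
    refine ⟨D'.map (QuotientGroup.mk' N), ?_, ?_⟩
    · rw [Subgroup.map_le_iff_le_comap]; exact hD'D.trans hDK
    · have hD'N : D' ⊓ N = ⊥ := by
        rw [eq_bot_iff, ← hDN]
        exact inf_le_inf_right N hD'D
      rw [Cfsg.Agent.Lib.Helper1.card_map_mk_of_disjoint N hD'N, hD']

theorem card_lt_of_ne_top {G : Type*} [Group G] [Finite G] (L : Subgroup G) (hL : L ≠ ⊤) :
    Nat.card L < Nat.card G := by
  have h1 := Subgroup.card_mul_index L
  have h2 := Subgroup.one_lt_index_of_ne_top hL
  have h3 : 0 < Nat.card L := Nat.card_pos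
  nlinarith

theorem exists_normal_prime {G : Type u} [Group G] [Finite G] [Nontrivial G] (h : HCLT G)
    (ih : ∀ L : Subgroup G, L ≠ ⊤ → Cfsg.IsSupersolvable L) :
    ∃ N : Subgroup G, N.Normal ∧ (Nat.card N).Prime := by
  have hcard1 : 1 < Nat.card G := Finite.one_lt_card
  have hne : (Nat.card G).primeFactors.Nonempty := by
    obtain ⟨q, hq, hqd⟩ := Nat.exists_prime_and_dvd hcard1.ne'
    exact ⟨q, Nat.mem_primeFactors.mpr ⟨hq, hqd, Nat.card_pos.ne'⟩⟩
  set p := (Nat.card G).primeFactors.max' hne with hp_def
  have hpmem : p ∈ (Nat.card G).primeFactors := Finset.max'_mem _ hne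
  have hp : p.Prime := (Nat.mem_primeFactors.mp hpmem).1
  have hpdvd : p ∣ Nat.card G := (Nat.mem_primeFactors.mp hpmem).2.1
  have hmax : ∀ q : ℕ, q.Prime → q ∣ Nat.card G → q ≤ p := fun q hq hqd =>
    Finset.le_max' _ q (Nat.mem_primeFactors.mpr ⟨hq, hqd, Nat.card_pos.ne'⟩)
  have : Fact p.Prime := ⟨hp⟩
  let P : Sylow p G := Classical.arbitrary _
  have hPn : (P : Subgroup G).Normal := Cfsg.Agent.S0532.result h p hpdvd hmax P
  -- a subgroup of index p
  obtain ⟨m, hm⟩ := hpdvd
  have hm0 : 0 < m := by
    rcases Nat.eq_zero_or_pos m with h0 | h0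
    · rw [h0, mul_zero] at hm; exact absurd hm Nat.card_pos.ne'
    · exact h0
  obtain ⟨L, hL⟩ := h.exists_card m ⟨p, by rw [hm, mul_comm]⟩
  have hLindex : L.index = p := by
    have := Subgroup.card_mul_index L
    rw [hL, hm, mul_comm] at this
    exact Nat.eq_of_mul_eq_mul_right hm0 this
  have hLtop : L ≠ ⊤ := by
    intro h1
    rw [h1, Subgroup.index_top] at hLindex
    exact hp.one_lt.ne hLindex
  have hPL : ¬ (P : Subgroup G) ≤ L := by
    intro hle
    have h1 : Nat.card P ∣ Nat.card L := Subgroup.card_dvd_of_le hle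
    rw [Sylow.card_eq_multiplicity, hL] at h1
    have h2 : p ^ ((Nat.card G).factorization p + 1) ∣ Nat.card G := by
      have h3 := Nat.mul_dvd_mul_left p h1
      rw [← hm] at h3
      rwa [pow_succ, mul_comm]
    exact Nat.pow_succ_factorization_not_dvd Nat.card_pos.ne' hp h2
  have hLP : L ⊔ (P : Subgroup G) = ⊤ := by
    rw [← Subgroup.index_eq_one]
    have h1 : (L ⊔ (P : Subgroup G)).index ∣ p := by
      have h0 : (L ⊔ (P : Subgroup G)).index ∣ L.index := Subgroup.index_dvd_of_le le_sup_left
      rwa [hLindex] at h0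
    rcases (Nat.dvd_prime hp).mp h1 with h2 | h2
    · exact h2
    · exfalso
      apply hPL
      have : L = L ⊔ (P : Subgroup G) := by
        apply Subgroup.eq_of_le_of_card_ge le_sup_left
        have e1 := Subgroup.card_mul_index L
        have e2 := Subgroup.card_mul_index (L ⊔ (P : Subgroup G))
        rw [hLindex] at e1
        rw [h2, ← e1] at e2
        exact (Nat.eq_of_mul_eq_mul_right hp.pos e2).le
      rw [this]; exact le_sup_right
  have hcount := Cfsg.Agent.Lib.Helper1.card_sup_mul_card_inf L (P : Subgroup G)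
  rw [hLP, Subgroup.card_top, hL, hm] at hcount
  by_cases hT : L ⊓ (P : Subgroup G) = ⊥
  · refine ⟨P, hPn, ?_⟩
    rw [hT, Subgroup.card_bot, mul_one, mul_comm] at hcount
    have : Nat.card (P : Subgroup G) = p := (Nat.eq_of_mul_eq_mul_left hm0 hcount).symm
    rw [this]; exact hp
  · -- `T = L ⊓ P` has index `p` in `P`
    set T := L ⊓ (P : Subgroup G) with hT_def
    have hTcard : p * Nat.card T = Nat.card (P : Subgroup G) := by
      have : m * (p * Nat.card T) = m * Nat.card (P : Subgroup G) := by
        rw [← hcount]; ring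
      exact Nat.eq_of_mul_eq_mul_left hm0 this
    have hTP : T ≤ (P : Subgroup G) := inf_le_right
    set T' : Subgroup (P : Subgroup G) := T.subgroupOf (P : Subgroup G) with hT'
    have hT'card : Nat.card T' = Nat.card T :=
      Nat.card_congr (Subgroup.subgroupOfEquivOfLe hTP).toEquiv
    have hT'index : T'.index = p := by
      have := Subgroup.card_mul_index T'
      rw [hT'card, ← hTcard, mul_comm] at this
      exact Nat.eq_of_mul_eq_mul_right Nat.card_pos this
    have hT'n : T'.Normal := by
      apply Subgroup.normal_of_index_eq_minFac_card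
      rw [hT'index]
      have hPc : Nat.card (P : Subgroup G) = p ^ (Nat.card G).factorization p :=
        Sylow.card_eq_multiplicity P
      have hfac : (Nat.card G).factorization p ≠ 0 := by
        intro h0
        rw [h0, pow_zero] at hPc
        rw [hPc] at hTcard
        have := hp.two_le
        have : 0 < Nat.card T := Nat.card_pos
        nlinarith
      rw [hPc, Nat.Prime.pow_minFac hp hfac]
    have hT'ne : T' ≠ ⊥ := by
      intro h0
      apply hT
      rw [hT', Subgroup.subgroupOf_eq_bot, disjoint_iff, inf_eq_left.mpr hTP] at h0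
      exact h0
    have hmeet := Cfsg.Agent.Lib.Helper10.normal_inf_center_ne_bot (p := p) P.isPGroup' T' hT'ne
    obtain ⟨z, hz, hz1⟩ : ∃ z ∈ T' ⊓ Subgroup.center (P : Subgroup G), z ≠ 1 := by
      by_contra hcon
      push Not at hcon
      apply hmeet
      rw [Subgroup.eq_bot_iff_forall]
      exact hcon
    -- the centre of `P`, as a normal subgroup of `G`
    set Z : Subgroup G := (Subgroup.center (P : Subgroup G)).map (P : Subgroup G).subtype with hZ
    have hZn : Z.Normal := ConjAct.normal_of_characteristic_of_normal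
    have hzL : (z : G) ∈ L := by
      have := (Subgroup.mem_inf.mp hz).1
      rw [hT', Subgroup.mem_subgroupOf] at this
      exact this.1
    have hzZ : (z : G) ∈ Z := ⟨z, (Subgroup.mem_inf.mp hz).2, rfl⟩
    set A' : Subgroup L := Z.subgroupOf L with hA'
    have hA'ne : A' ≠ ⊥ := by
      intro h0
      have : (⟨(z : G), hzL⟩ : L) ∈ A' := by
        rw [hA', Subgroup.mem_subgroupOf]; exact hzZ
      rw [h0, Subgroup.mem_bot] at this
      apply hz1
      apply Subtype.ext
      have h2 := congrArg (fun y : L => (y : G)) this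
      simpa using h2
    obtain ⟨N', hN'A, hN'n, hN'card⟩ :=
      exists_normal_prime_le_of_isSupersolvable (ih L hLtop) A' hA'ne
    refine ⟨N'.map L.subtype, ?_, ?_⟩
    · rw [← Subgroup.normalizer_eq_top_iff, eq_top_iff, ← hLP, sup_le_iff]
      constructor
      · have h1 := Subgroup.le_normalizer_map (H := N') L.subtype
        rw [Subgroup.normalizer_eq_top_iff.mpr hN'n, ← MonoidHom.range_eq_map,
          Subgroup.range_subtype] at h1
        exact h1
      · intro x hx
        rw [Subgroup.mem_normalizer_iff]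
        have hcomm : ∀ n ∈ N'.map L.subtype, x * n = n * x := by
          rintro n ⟨n', hn', rfl⟩
          have h1 : (n' : G) ∈ Z := by
            have := hN'A hn'
            rw [hA', Subgroup.mem_subgroupOf] at this
            exact this
          obtain ⟨c, hc, hcn⟩ := h1
          have h2 := Subgroup.mem_center_iff.mp hc ⟨x, hx⟩
          have h3 := congrArg Subtype.val h2
          simp only [Subgroup.coe_mul] at h3
          rw [show L.subtype n' = (n' : G) from rfl, ← hcn]
          exact h3
        intro n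
        constructor
        · intro hn
          rw [hcomm n hn, mul_inv_cancel_right]
          exact hn
        · intro hn
          have := hcomm _ hn
          rw [inv_mul_cancel_right] at this
          have e : x * n * x⁻¹ = n := mul_left_cancel this
          rw [← e]
          exact hn
    · rw [← Nat.card_congr (Subgroup.equivMapOfInjective N' L.subtype L.subtype_injective).toEquiv]
      exact hN'card

theorem main (n : ℕ) : ∀ (G : Type u) [Group G] [Finite G], Nat.card G = n → HCLT G →
    Cfsg.IsSupersolvable G := by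
  induction n using Nat.strong_induction_on with
  | _ n ih =>
    intro G _ _ hcard h
    rcases subsingleton_or_nontrivial G with hs | hnt
    · apply isSupersolvable_of_sChain
      have : (⊤ : Subgroup G) = ⊥ := Subsingleton.elim _ _
      rw [this]
      exact SChain.base
    · have ih' : ∀ L : Subgroup G, L ≠ ⊤ → Cfsg.IsSupersolvable L := by
        intro L hL
        refine ih (Nat.card L) ?_ L rfl (h.subgroup L)
        rw [← hcard]
        exact card_lt_of_ne_top L hL
      obtain ⟨N, hNn, hNp⟩ := exists_normal_prime h ih'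
      have hq : Cfsg.IsSupersolvable (G ⧸ N) := by
        refine ih (Nat.card (G ⧸ N)) ?_ (G ⧸ N) rfl (HCLT.quotient_prime h N hNp)
        rw [← hcard]
        exact card_quotient_lt_of_prime N hNp
      have : Fact (Nat.card N).Prime := ⟨hNp⟩
      have hcyc : IsCyclic N := isCyclic_of_prime_card rfl
      obtain ⟨g, hg⟩ := (Subgroup.isCyclic_iff_exists_zpowers_eq_top N).mp hcyc
      exact isSupersolvable_of_cyclic_normal N g hg.symm hq

/-- If every subgroup of a finite group has subgroups of all orders dividing its order, then the group is supersolvable. -/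
theorem result {G : Type*} [Group G] [Finite G] (h : ∀ H : Subgroup G, Cfsg.HasSubgroupOfEveryOrder H) : Cfsg.IsSupersolvable G := by
  exact main _ G rfl h

end Cfsg.Agent.S0533
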