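import Cfsg.Statements.S0534
import Cfsg.Agent.S0531
import Cfsg.Agent.Lib.Helper4.Supersolvable
import Cfsg.Agent.Lib.Helper1.Hall
import Mathlib

set_option autoImplicit false
open Cfsg

namespace Cfsg.Agent.S0534

open Cfsg.Agent.Lib.Helper4

universe u

theorem split (g a d : ℕ) (hg : g ≠ 0) (ha : a ≠ 0)
    (hexp : ∀ p : ℕ, p.Prime → p ∣ g → a.factorization p + 1 = g.factorization p)
    (hd : d ∣ g * a) :
    ∃ m b : ℕ, m * b = d ∧ m ∣ g ∧ Nat.Coprime m (g / m) ∧ b ∣ a := by
  classical
  have hd0 : d ≠ 0 := by
    rintro rfl
    rw [zero_dvd_iff] at hd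
    exact (Nat.mul_ne_zero hg ha) hd
  set f : ℕ →₀ ℕ := g.factorization.filter (fun p => g.factorization p ≤ d.factorization p) with hf
  have hfapp : ∀ p, f p = if g.factorization p ≤ d.factorization p then g.factorization p else 0 :=
    fun p => Finsupp.filter_apply _ _ p
  have hfle : f ≤ g.factorization := by
    intro p
    rw [hfapp]
    split_ifs
    · exact le_rfl
    · exact Nat.zero_le _
  set m := f.prod (· ^ ·) with hm
  have hmfac : m.factorization = f := Nat.factorization_prod_pow_eq_self_of_le_factorization hfle
  have hmg : m ∣ g := Nat.prod_pow_dvd_of_le_factorization hfle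
  have hm0 : m ≠ 0 := fun h => hg (by rw [h, zero_dvd_iff] at hmg; exact hmg)
  have hmd : m ∣ d := by
    rw [← Nat.factorization_le_iff_dvd hm0 hd0, hmfac]
    intro p
    rw [hfapp]
    split_ifs with h
    · exact h
    · exact Nat.zero_le _
  have hdfac : d.factorization ≤ g.factorization + a.factorization := by
    rw [← Nat.factorization_mul hg ha]
    exact (Nat.factorization_le_iff_dvd hd0 (Nat.mul_ne_zero hg ha)).mpr hd
  refine ⟨m, d / m, Nat.mul_div_cancel' hmd, hmg, ?_, ?_⟩
  · apply Nat.coprime_of_dvd'
    intro k hk hkm hkg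
    exfalso
    have h1 : m.factorization k ≠ 0 := by
      rw [Ne, Nat.factorization_eq_zero_iff]
      push Not
      exact ⟨hk, hkm, hm0⟩
    have hgm0 : g / m ≠ 0 := by
      intro h
      have := Nat.div_mul_cancel hmg
      rw [h, zero_mul] at this
      exact hg this.symm
    have h2 : (g / m).factorization k ≠ 0 := by
      rw [Ne, Nat.factorization_eq_zero_iff]
      push Not
      exact ⟨hk, hkg, hgm0⟩
    rw [Nat.factorization_div hmg, hmfac] at h2
    rw [hmfac] at h1
    simp only [Finsupp.coe_tsub, Pi.sub_apply] at h2
    rw [hfapp] at h1 h2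
    split_ifs at h1 h2 with h
    · omega
    · exact h1 rfl
  · have hb0 : d / m ≠ 0 := by
      intro h
      have := Nat.div_mul_cancel hmd
      rw [h, zero_mul] at this
      exact hd0 this.symm
    rw [← Nat.factorization_le_iff_dvd hb0 ha, Nat.factorization_div hmd, hmfac]
    intro p
    simp only [Finsupp.coe_tsub, Pi.sub_apply]
    rw [hfapp]
    have h3 := hdfac p
    simp only [Finsupp.coe_add, Pi.add_apply] at h3
    split_ifs with h
    · omega
    · rw [Nat.sub_zero]
      push Not at h
      have hgp : g.factorization p ≠ 0 := by omega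
      rw [Ne, Nat.factorization_eq_zero_iff] at hgp
      push Not at hgp
      have := hexp p hgp.1 hgp.2.1
      omega

theorem isSupersolvable_of_comm_aux (n : ℕ) : ∀ (A : Type u) [CommGroup A] [Finite A],
    Nat.card A = n → Cfsg.IsSupersolvable A := by
  induction n using Nat.strong_induction_on with
  | _ n ih =>
    intro A _ _ hcard
    rcases subsingleton_or_nontrivial A with hs | hnt
    · exact isSupersolvable_of_subsingleton
    · obtain ⟨g, hg⟩ := exists_ne (1 : A)
      set N := Subgroup.zpowers g with hN
      have hlt : Nat.card (A ⧸ N) < n := by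
        rw [← hcard, Subgroup.card_eq_card_quotient_mul_card_subgroup N]
        have h0 : 0 < Nat.card (A ⧸ N) := Nat.card_pos
        have h1 : 1 < Nat.card N := by
          rw [hN, Nat.card_zpowers]
          rcases Nat.lt_or_ge 1 (orderOf g) with h | h
          · exact h
          · exfalso
            have hpos := orderOf_pos g
            have : orderOf g = 1 := by omega
            exact hg (orderOf_eq_one_iff.mp this)
        nlinarith
      exact isSupersolvable_of_cyclic_normal N g rfl (ih _ hlt (A ⧸ N) rfl)

theorem comm_hasSubgroupOfEveryOrder (A : Type u) [CommGroup A] [Finite A] :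
    Cfsg.HasSubgroupOfEveryOrder A :=
  Cfsg.Agent.S0531.result (isSupersolvable_of_comm_aux _ A rfl)

/-- Let G be a finite solvable group and A a finite abelian group such that every prime dividing the order of A divides the order of G and, for each prime p dividing the order of G, the exponent of p in the order of A is one less than its exponent in the order of G. Then G × A has a subgroup of every order dividing its order. -/
theorem result {G A : Type*} [Group G] [CommGroup A] [Finite G] [Finite A] [Group.IsSolvable G] (hA : ∀ p : ℕ, p.Prime → p ∣ Nat.card A → p ∣ Nat.card G) (hexp : ∀ p : ℕ, p.Prime → p ∣ Nat.card G → (Nat.card A).factorization p + 1 = (Nat.card G).factorization p) : Cfsg.HasSubgroupOfEveryOrder (G × A) := by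
  intro d hd
  rw [Nat.card_prod] at hd
  obtain ⟨m, b, hmb, hmg, hcop, hba⟩ :=
    split (Nat.card G) (Nat.card A) d Nat.card_pos.ne' Nat.card_pos.ne' hexp hd
  obtain ⟨H, hH⟩ := Cfsg.Agent.Lib.Helper1.hall_exists (G := G) m (Nat.card G / m)
    (Nat.mul_div_cancel' hmg).symm hcop
  obtain ⟨B, hB⟩ := comm_hasSubgroupOfEveryOrder A b hba
  refine ⟨H.prod B, ?_⟩
  rw [Nat.card_congr (Subgroup.prodEquiv H B).toEquiv, Nat.card_prod, hH, hB, hmb]

end Cfsg.Agent.S0534
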