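import Cfsg.Statements.S0535
import Cfsg.Agent.Lib.Helper1.Hall
import Cfsg.Agent.Lib.Helper1.HallConverse
import Mathlib

set_option autoImplicit false
open Cfsg

namespace Cfsg.Agent.S0535

universe u

/-- the hypothesis of the statement -/
def Q (G : Type*) [Group G] : Prop :=
  ∀ H : Subgroup G, H ≠ ⊥ → ∀ p : ℕ, p.Prime → p ∣ Nat.card H →
    ∃ K : Subgroup H, K ≠ ⊤ ∧ ∃ k : ℕ, K.index = p ^ k

theorem Q.subgroup {G : Type*} [Group G] (h : Q G) (M : Subgroup G) : Q M := by
  intro H hH p hp hpd
  set e := Subgroup.equivMapOfInjective H M.subtype M.subtype_injective with he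
  have hH' : H.map M.subtype ≠ ⊥ := by
    intro h0
    apply hH
    rwa [Subgroup.map_eq_bot_iff_of_injective _ M.subtype_injective] at h0
  have hpd' : p ∣ Nat.card (H.map M.subtype) := by
    rwa [← Nat.card_congr e.toEquiv]
  obtain ⟨K', hK', k, hk⟩ := h (H.map M.subtype) hH' p hp hpd'
  refine ⟨K'.comap e.toMonoidHom, ?_, k, ?_⟩
  · intro h1
    apply hK'
    have := congrArg (Subgroup.map e.toMonoidHom) h1
    rwa [Subgroup.map_comap_eq_self_of_surjective e.surjective,
      Subgroup.map_top_of_surjective _ e.surjective] at this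
  · rw [Subgroup.index_comap_of_surjective _ e.surjective, hk]

/-- a proper subgroup of `p`-power index -/
theorem Q.exists_index {G : Type*} [Group G] [Nontrivial G] (h : Q G) (p : ℕ) (hp : p.Prime)
    (hpd : p ∣ Nat.card G) : ∃ M : Subgroup G, M ≠ ⊤ ∧ ∃ k : ℕ, M.index = p ^ k := by
  have hpd' : p ∣ Nat.card (⊤ : Subgroup G) := by rwa [Subgroup.card_top]
  obtain ⟨K, hK, k, hk⟩ := h ⊤ top_ne_bot p hp hpd'
  refine ⟨K.map (⊤ : Subgroup G).subtype, ?_, k, ?_⟩
  · intro h1
    apply hK
    rw [eq_top_iff]
    intro x _
    have : ((⊤ : Subgroup G).subtype x) ∈ K.map (⊤ : Subgroup G).subtype := by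
      rw [h1]; exact Subgroup.mem_top _
    obtain ⟨y, hy, hyx⟩ := this
    have : y = x := Subgroup.subtype_injective _ hyx
    rwa [← this]
  · rw [Subgroup.index_map_subtype, hk, Subgroup.index_top, mul_one]

theorem main (n : ℕ) : ∀ (G : Type u) [Group G] [Finite G], Nat.card G = n → Q G →
    Group.IsSolvable G := by
  induction n using Nat.strong_induction_on with
  | _ n ih =>
    intro G _ _ hcard h
    rcases subsingleton_or_nontrivial G with hs | hnt
    · infer_instance
    · apply Cfsg.Agent.Lib.Helper1.hall_converse
      intro p hp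
      by_cases hpd : p ∣ Nat.card G
      · obtain ⟨M, hM, k, hk⟩ := h.exists_index p hp hpd
        have hMlt : Nat.card M < n := by
          rw [← hcard]
          have h1 := Subgroup.card_mul_index M
          have h2 := Subgroup.one_lt_index_of_ne_top hM
          have h3 : 0 < Nat.card M := Nat.card_pos
          nlinarith
        have : Group.IsSolvable M := ih _ hMlt M rfl (h.subgroup M)
        have hM0 : Nat.card M ≠ 0 := Nat.card_pos.ne'
        have hsplit : Nat.card M = ordCompl[p] (Nat.card M) * ordProj[p] (Nat.card M) := by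
          rw [mul_comm]; exact (Nat.ordProj_mul_ordCompl_eq_self _ p).symm
        have hcop : (ordCompl[p] (Nat.card M)).Coprime (ordProj[p] (Nat.card M)) :=
          (Nat.Coprime.pow_left _ (Nat.coprime_ordCompl hp hM0)).symm
        obtain ⟨H, hH⟩ := Cfsg.Agent.Lib.Helper1.hall_exists _ _ hsplit hcop
        refine ⟨H.map M.subtype, ?_⟩
        have hHcard : Nat.card (H.map M.subtype) = ordCompl[p] (Nat.card M) := by
          rw [← hH]
          exact (Nat.card_congr (Subgroup.equivMapOfInjective H M.subtype M.subtype_injective).toEquiv).symm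
        have h1 := Subgroup.card_mul_index (H.map M.subtype)
        have h2 := Subgroup.card_mul_index M
        rw [hk] at h2
        rw [hHcard] at h1
        -- card G = ordCompl * (ordProj * p^k)
        have h3 : (H.map M.subtype).index = p ^ ((Nat.card M).factorization p + k) := by
          have : ordCompl[p] (Nat.card M) * (H.map M.subtype).index =
              ordCompl[p] (Nat.card M) * p ^ ((Nat.card M).factorization p + k) := by
            rw [h1, ← h2, pow_add, ← mul_assoc, mul_comm (ordCompl[p] (Nat.card M)),
              Nat.ordProj_mul_ordCompl_eq_self]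
          exact Nat.eq_of_mul_eq_mul_left (Nat.ordCompl_pos p hM0) this
        rw [h3]
        congr 1
        rw [← h1, h3, Nat.factorization_mul (Nat.ordCompl_pos p hM0).ne' (pow_pos hp.pos _).ne']
        simp only [Finsupp.coe_add, Pi.add_apply]
        rw [Nat.factorization_ordCompl, Finsupp.erase_same, zero_add, Nat.Prime.factorization_pow hp,
          Finsupp.single_eq_same]
      · refine ⟨⊤, ?_⟩
        rw [Subgroup.index_top, Nat.factorization_eq_zero_of_not_dvd hpd, pow_zero]

/-- Suppose that for every nontrivial subgroup H of a finite group and every prime p dividing the order of H there is a proper subgroup of H whose index in H is a power of p. Then the group is solvable. -/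
theorem result {G : Type*} [Group G] [Finite G] (h : ∀ H : Subgroup G, H ≠ ⊥ → ∀ p : ℕ, p.Prime → p ∣ Nat.card H → ∃ K : Subgroup H, K ≠ ⊤ ∧ ∃ k : ℕ, K.index = p ^ k) : Group.IsSolvable G := by
  exact main _ G rfl h

end Cfsg.Agent.S0535
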