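import Mathlib
import Cfsg.Statements.S0537
import Cfsg.Agent.S0536
import Cfsg.Agent.Lib.Helper1.CoprimeAbelian

set_option autoImplicit false
open Cfsg

namespace Cfsg.Agent.S0537

universe u

theorem isNilpotent_of_isMulCommutative {H : Type*} [Group H] (h : IsMulCommutative H) :
    Group.IsNilpotent H :=
  ⟨⟨1, Subgroup.upperCentralSeries_one_eq_top_iff.mpr h⟩⟩

theorem comm_of_mem {G : Type*} [Group G] (Q : Subgroup G) (h : IsMulCommutative Q) (a b : G)
    (ha : a ∈ Q) (hb : b ∈ Q) : a * b = b * a := by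
  have := mul_comm' (⟨a, ha⟩ : Q) ⟨b, hb⟩
  exact congrArg Subtype.val this

/-- the nilpotent case: `G` is a `p`-group -/
theorem nilpotent_case {G : Type u} [Group G] [Finite G] (hna : ¬ IsMulCommutative G)
    (h : ∀ H : Subgroup G, H ≠ ⊤ → IsMulCommutative H) (hnil : Group.IsNilpotent G) :
    ∃ p : ℕ, p.Prime ∧ IsPGroup p G := by
  by_contra hcon
  push Not at hcon
  obtain ⟨e⟩ := (Group.isNilpotent_of_finite_tfae (G := G)).out 0 4 |>.mp hnil
  apply hna
  apply IsMulCommutative.of_comm
  intro a b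
  obtain ⟨a', rfl⟩ := e.surjective a
  obtain ⟨b', rfl⟩ := e.surjective b
  rw [← map_mul, ← map_mul]
  congr 1
  funext p P
  have hp : (p : ℕ).Prime := Nat.prime_of_mem_primeFactors p.2
  have : Fact (p : ℕ).Prime := ⟨hp⟩
  have hne : (P : Subgroup G) ≠ ⊤ := by
    intro htop
    apply hcon p hp
    intro g
    obtain ⟨k, hk⟩ := P.2 ⟨g, by rw [htop]; exact Subgroup.mem_top g⟩
    refine ⟨k, ?_⟩
    have := congrArg Subtype.val hk
    simpa using this
  have hc := h _ hne
  show a' p P * b' p P = b' p P * a' p P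
  exact mul_comm' _ _

theorem main {G : Type u} [Group G] [Finite G] (hna : ¬ IsMulCommutative G)
    (h : ∀ H : Subgroup G, H ≠ ⊤ → IsMulCommutative H) :
    (∃ p : ℕ, p.Prime ∧ IsPGroup p G) ∨ ∃ p q : ℕ, p.Prime ∧ q.Prime ∧ p ≠ q ∧
      ∃ (P : Sylow p G) (Q : Sylow q G), IsCyclic P ∧ (Q : Subgroup G).Normal ∧
        Cfsg.IsElementaryAbelian q (Q : Subgroup G) ∧ (P : Subgroup G) ⊔ Q = ⊤ := by
  by_cases hnil : Group.IsNilpotent G
  · left; exact nilpotent_case hna h hnil
  right
  have hmin : Cfsg.IsMinimalNonNilpotent G :=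
    ⟨hnil, fun H hH => isNilpotent_of_isMulCommutative (h H hH)⟩
  obtain ⟨p, q, hp, hq, hpq, P, Q, hPc, hQn, hPQ⟩ := Cfsg.Agent.S0536.main hmin
  have : Fact p.Prime := ⟨hp⟩
  have : Fact q.Prime := ⟨hq⟩
  refine ⟨p, q, hp, hq, hpq, P, Q, hPc, hQn, ?_, hPQ⟩
  have hQtop : (Q : Subgroup G) ≠ ⊤ := by
    intro htop
    apply hnil
    have hpg : IsPGroup q G := by
      intro g
      obtain ⟨k, hk⟩ := Q.2 ⟨g, by rw [htop]; exact Subgroup.mem_top g⟩
      refine ⟨k, ?_⟩
      have := congrArg Subtype.val hk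
      simpa using this
    exact hpg.isNilpotent
  have hQc : IsMulCommutative (Q : Subgroup G) := h _ hQtop
  refine ⟨hQc, ?_⟩
  -- Ω₁(Q)
  let Ω : Subgroup G :=
    { carrier := {y | y ∈ (Q : Subgroup G) ∧ y ^ q = 1}
      mul_mem' := by
        rintro a b ⟨ha, ha'⟩ ⟨hb, hb'⟩
        refine ⟨(Q : Subgroup G).mul_mem ha hb, ?_⟩
        have hc : Commute a b := comm_of_mem _ hQc a b ha hb
        rw [hc.mul_pow, ha', hb', one_mul]
      one_mem' := ⟨(Q : Subgroup G).one_mem, one_pow q⟩
      inv_mem' := by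
        rintro a ⟨ha, ha'⟩
        exact ⟨(Q : Subgroup G).inv_mem ha, by rw [inv_pow, ha', inv_one]⟩ }
  have hΩn : Ω.Normal := by
    constructor
    rintro a ⟨ha, ha'⟩ g
    exact ⟨hQn.conj_mem a ha g, by rw [conj_pow, ha', mul_one, mul_inv_cancel]⟩
  have hΩQ : Ω ≤ (Q : Subgroup G) := fun y hy => hy.1
  have hdisj : (P : Subgroup G) ⊓ Q = ⊥ :=
    (IsPGroup.disjoint_of_ne p q hpq _ _ P.2 Q.2).eq_bot
  have hPΩ : (P : Subgroup G) ⊔ Ω = ⊤ := by
    by_contra hne
    have hc := h _ hne
    -- P centralizes Q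
    have hPN : (P : Subgroup G) ≤ Subgroup.normalizer ((Q : Subgroup G) : Set G) := by
      rw [Subgroup.normalizer_eq_top_iff.mpr hQn]; exact le_top
    have hcop : (Nat.card (P : Subgroup G)).Coprime (Nat.card (Q : Subgroup G)) :=
      IsPGroup.coprime_card_of_ne p q hpq _ _ P.2 Q.2
    have hPC : (P : Subgroup G) ≤ Subgroup.centralizer ((Q : Subgroup G) : Set G) := by
      apply Cfsg.Agent.Lib.Helper1.le_centralizer_of_centralizes_prime_order _ _ hPN hcop
      intro v hv hvp a ha
      have hvΩ : v ∈ Ω := by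
        refine ⟨hv, ?_⟩
        obtain ⟨k, hk⟩ := Cfsg.Agent.S0536.orderOf_of_mem_sylow Q v hv
        have h1 : orderOf v = q := by
          rw [hk] at hvp ⊢
          have hk1 : k = 1 := by
            by_contra hk1
            exact (Nat.Prime.not_prime_pow' hk1) hvp
          rw [hk1, pow_one]
        rw [← h1]; exact pow_orderOf_eq_one v
      exact comm_of_mem _ hc a v (le_sup_left (a := (P : Subgroup G)) ha)
        (le_sup_right (b := Ω) hvΩ)
    apply hna
    rw [← Subgroup.center_eq_top_iff, eq_top_iff, ← hPQ]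
    have hQcent : (Q : Subgroup G) ≤ Subgroup.center G := by
      intro y hy
      have hy2 : y ∈ Subgroup.centralizer (((P : Subgroup G) ⊔ Q : Subgroup G) : Set G) := by
        rw [Subgroup.mem_centralizer_iff]
        intro z hz
        have hle : (P : Subgroup G) ⊔ Q ≤ Subgroup.centralizer ({y} : Set G) := by
          refine sup_le ?_ ?_
          · intro x hx
            rw [Subgroup.mem_centralizer_iff]
            intro w hw
            rw [Set.mem_singleton_iff] at hw
            subst hw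
            exact (Subgroup.mem_centralizer_iff.mp (hPC hx) w hy)
          · intro x hx
            rw [Subgroup.mem_centralizer_iff]
            intro w hw
            rw [Set.mem_singleton_iff] at hw
            subst hw
            exact comm_of_mem _ hQc w x hy hx
        exact ((Subgroup.mem_centralizer_iff.mp (hle hz)) y rfl).symm
      rw [hPQ, Subgroup.coe_top, Subgroup.centralizer_univ] at hy2
      exact hy2
    have hPcomm : ∀ a b : G, a ∈ (P : Subgroup G) → b ∈ (P : Subgroup G) → a * b = b * a := by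
      intro a b ha hb
      have hcy : IsCyclic (P : Subgroup G) := hPc
      obtain ⟨g, hg⟩ := (Subgroup.isCyclic_iff_exists_zpowers_eq_top (P : Subgroup G)).mp hcy
      rw [← hg] at ha hb
      obtain ⟨i, rfl⟩ := Subgroup.mem_zpowers_iff.mp ha
      obtain ⟨j, rfl⟩ := Subgroup.mem_zpowers_iff.mp hb
      rw [← zpow_add, ← zpow_add, add_comm]
    have hPcent : (P : Subgroup G) ≤ Subgroup.center G := by
      intro y hy
      have hy2 : y ∈ Subgroup.centralizer (((P : Subgroup G) ⊔ Q : Subgroup G) : Set G) := by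
        rw [Subgroup.mem_centralizer_iff]
        intro z hz
        have hle : (P : Subgroup G) ⊔ Q ≤ Subgroup.centralizer ({y} : Set G) := by
          refine sup_le ?_ ?_
          · intro x hx
            rw [Subgroup.mem_centralizer_iff]
            intro w hw
            rw [Set.mem_singleton_iff] at hw
            subst hw
            exact hPcomm w x hy hx
          · intro x hx
            rw [Subgroup.mem_centralizer_iff]
            intro w hw
            rw [Set.mem_singleton_iff] at hw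
            subst hw
            exact ((Subgroup.mem_centralizer_iff.mp (hPC hy) x hx)).symm
        exact ((Subgroup.mem_centralizer_iff.mp (hle hz)) y rfl).symm
      rw [hPQ, Subgroup.coe_top, Subgroup.centralizer_univ] at hy2
      exact hy2
    exact sup_le hPcent hQcent
  -- cardinalities
  have hdisj2 : (P : Subgroup G) ⊓ Ω = ⊥ := by
    rw [eq_bot_iff, ← hdisj]
    exact inf_le_inf_left _ hΩQ
  have h1 := Cfsg.Agent.Lib.Helper1.card_sup_mul_card_inf (P : Subgroup G) Ω
  have h2 := Cfsg.Agent.Lib.Helper1.card_sup_mul_card_inf (P : Subgroup G) (Q : Subgroup G)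
  rw [hPΩ, hdisj2, Subgroup.card_top, Subgroup.card_bot, mul_one] at h1
  rw [hPQ, hdisj, Subgroup.card_top, Subgroup.card_bot, mul_one] at h2
  have hPpos : 0 < Nat.card (P : Subgroup G) := Nat.card_pos
  have hcardeq : Nat.card Ω = Nat.card (Q : Subgroup G) := by
    apply Nat.eq_of_mul_eq_mul_left hPpos
    rw [← h1, ← h2]
  have hΩeq : Ω = (Q : Subgroup G) := Subgroup.eq_of_le_of_card_ge hΩQ hcardeq.ge
  intro a ha
  rw [← hΩeq] at ha
  exact ha.2

theorem result {G : Type*} [Group G] [Finite G] (hna : ¬ IsMulCommutative G) (h : ∀ H : Subgroup G, H ≠ ⊤ → IsMulCommutative H) : (∃ p : ℕ, p.Prime ∧ IsPGroup p G) ∨ ∃ p q : ℕ, p.Prime ∧ q.Prime ∧ p ≠ q ∧ ∃ (P : Sylow p G) (Q : Sylow q G), IsCyclic P ∧ (Q : Subgroup G).Normal ∧ Cfsg.IsElementaryAbelian q (Q : Subgroup G) ∧ (P : Subgroup G) ⊔ Q = ⊤ :=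
  main hna h

end Cfsg.Agent.S0537
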