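import Cfsg.Statements.S0541
import Cfsg.Agent.S0540
import Cfsg.Agent.Lib.Helper1.Nilpotent
import Cfsg.Agent.Lib.Helper20.Subnormal
import Mathlib

set_option autoImplicit false
open Cfsg
open scoped Pointwise

namespace Cfsg.Agent.S0541

open Cfsg.Agent.S0539 Cfsg.Agent.S0540

universe u

variable {G : Type u} [Group G]

/-- the conjugates of `Z` inside `T` -/
def fam (Z T : Subgroup G) : Set (Subgroup G) := {B | (∃ g : G, B = MulAut.conj g • Z) ∧ B ≤ T}

/-- the weak closure of `Z` in `T` -/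
def wcl (Z T : Subgroup G) : Subgroup G :=
  ⨆ g ∈ {g : G | MulAut.conj g • Z ≤ T}, MulAut.conj g • Z

theorem wcl_eq_sSup (Z T : Subgroup G) : wcl Z T = sSup (fam Z T) := by
  apply le_antisymm
  · apply iSup₂_le
    intro g hg
    exact le_sSup ⟨⟨g, rfl⟩, hg⟩
  · apply sSup_le
    rintro B ⟨⟨g, rfl⟩, hB⟩
    exact le_iSup₂_of_le g hB le_rfl

theorem wcl_le (Z T : Subgroup G) : wcl Z T ≤ T := by
  apply iSup₂_le
  intro g hg
  exact hg

theorem fam_mono (Z : Subgroup G) {T T' : Subgroup G} (h : T ≤ T') : fam Z T ⊆ fam Z T' :=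
  fun _ hB => ⟨hB.1, hB.2.trans h⟩

theorem fam_conj (Z T : Subgroup G) (B : Subgroup G) (hB : B ∈ fam Z T) (k : G) (hk : k ∈ T) :
    MulAut.conj k • B ∈ fam Z T := by
  obtain ⟨⟨g, rfl⟩, hBT⟩ := hB
  refine ⟨⟨k * g, by rw [map_mul, mul_smul]⟩, ?_⟩
  intro z hz
  rw [mem_conj_smul_iff] at hz
  have := hBT hz
  have e : z = k * (k⁻¹ * z * k) * k⁻¹ := by group
  rw [e]
  exact T.mul_mem (T.mul_mem hk this) (T.inv_mem hk)

/-- `Y`-orbit join of a conjugate of `Z` -/
def orb (Z Y : Subgroup G) (g : G) : Subgroup G := ⨆ y ∈ Y, MulAut.conj (y * g) • Z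

theorem le_normalizer_orb (Z Y : Subgroup G) (g : G) :
    Y ≤ Subgroup.normalizer ((orb Z Y g : Subgroup G) : Set G) := by
  intro y' hy'
  have hmap : ∀ w ∈ Y, ∀ z ∈ orb Z Y g, w * z * w⁻¹ ∈ orb Z Y g := by
    intro w hw z hz
    unfold orb at hz
    rw [iSup_subtype'] at hz
    refine Subgroup.iSup_induction (fun y : {y // y ∈ Y} => MulAut.conj ((y : G) * g) • Z)
      (C := fun z => w * z * w⁻¹ ∈ orb Z Y g) hz ?_ ?_ ?_
    · rintro ⟨y, hy⟩ z hz
      have hle : MulAut.conj (w * y * g) • Z ≤ orb Z Y g :=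
        le_iSup₂_of_le (w * y) (Y.mul_mem hw hy) le_rfl
      apply hle
      rw [mem_conj_smul_iff] at hz ⊢
      have e : (w * y * g)⁻¹ * (w * z * w⁻¹) * (w * y * g) = (y * g)⁻¹ * z * (y * g) := by group
      rw [e]; exact hz
    · simp
    · intro a b iha ihb
      have : w * (a * b) * w⁻¹ = (w * a * w⁻¹) * (w * b * w⁻¹) := by group
      rw [this]; exact Subgroup.mul_mem _ iha ihb
  rw [Subgroup.mem_normalizer_iff]
  intro z
  refine ⟨hmap y' hy' z, fun hz => ?_⟩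
  have := hmap y'⁻¹ (Y.inv_mem hy') _ hz
  have e : y'⁻¹ * (y' * z * y'⁻¹) * y'⁻¹⁻¹ = z := by group
  rwa [e] at this

/-- Let Z and Y be subgroups of a finite group G and p a prime. Suppose that for every g in G the subgroup generated by the conjugates of g Z g⁻¹ under Y is a p-group. Then there is a Sylow p-subgroup P of G such that Y normalizes the subgroup generated by all conjugates of Z contained in P. -/
theorem result {G : Type*} [Group G] [Finite G] (p : ℕ) [Fact p.Prime] (Z Y : Subgroup G) (h : ∀ g : G, IsPGroup p ↥(⨆ y ∈ Y, MulAut.conj (y * g) • Z)) : ∃ P : Sylow p G, Y ≤ Subgroup.normalizer ((⨆ g ∈ {g : G | MulAut.conj g • Z ≤ (P : Subgroup G)}, MulAut.conj g • Z : Subgroup G) : Set G) := by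
  -- the family of admissible p-subgroups
  set 𝒯 : Set (Subgroup G) :=
    {T | IsPGroup p T ∧ wcl Z T = T ∧ Y ≤ Subgroup.normalizer (T : Set G)} with h𝒯
  have hbot : (⊥ : Subgroup G) ∈ 𝒯 := by
    refine ⟨IsPGroup.of_bot, le_bot_iff.mp (wcl_le Z ⊥), ?_⟩
    rw [Subgroup.normalizer_eq_top]; exact le_top
  obtain ⟨T, -, hT, hTmax⟩ := (Set.toFinite 𝒯).exists_le_maximal hbot
  obtain ⟨hTp, hTw, hTY⟩ := hT
  obtain ⟨P, hTP⟩ := hTp.exists_le_sylow
  refine ⟨P, ?_⟩
  change Y ≤ Subgroup.normalizer ((wcl Z (P : Subgroup G) : Subgroup G) : Set G)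
  suffices hfam : fam Z T = fam Z (P : Subgroup G) by
    rw [wcl_eq_sSup, ← hfam, ← wcl_eq_sSup, hTw]; exact hTY
  by_contra hne
  have hss : fam Z T ⊂ fam Z (P : Subgroup G) := LE.le.ssubset_of_ne (fam_mono Z hTP) hne
  have hnil : Group.IsNilpotent (P : Subgroup G) := P.isPGroup'.isNilpotent
  have hsn : ((sSup (fam Z T)).subgroupOf (P : Subgroup G)).IsSubnormal :=
    (Cfsg.Agent.Lib.Helper1.isNilpotent_iff_forall_isSubnormal.mp hnil) _
  obtain ⟨X, hXP, hXT, hXn⟩ := aux' (fam Z T) _ (P : Subgroup G) rfl hsn (fam Z (P : Subgroup G))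
    (fun B hB => hB.2) (fun B hB k hk => fam_conj Z _ B hB k hk) hss
  rw [← wcl_eq_sSup, hTw] at hXn
  obtain ⟨⟨g, rfl⟩, hXleP⟩ := hXP
  have hXnotT : ¬ MulAut.conj g • Z ≤ T := fun hle => hXT ⟨⟨g, rfl⟩, hle⟩
  -- the orbit join
  set W := orb Z Y g with hW
  have hWp : IsPGroup p W := h g
  have hWN : W ≤ Subgroup.normalizer (T : Set G) := by
    apply iSup₂_le
    intro y hy
    have e : MulAut.conj (y * g) • Z = MulAut.conj y • (MulAut.conj g • Z) := by
      rw [map_mul, mul_smul]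
    rw [e]
    have h1 : MulAut.conj y • (MulAut.conj g • Z) ≤
        MulAut.conj y • Subgroup.normalizer (T : Set G) :=
      Subgroup.pointwise_smul_le_pointwise_smul_iff.mpr hXn
    rw [← Cfsg.Agent.Lib.Helper20.smul_normalizer_eq,
      (Cfsg.Agent.S0538.conj_smul_eq_self_iff y T).mpr (hTY hy)] at h1
    exact h1
  set T₁ := T ⊔ W with hT₁
  have hT₁p : IsPGroup p T₁ := hTp.to_sup_of_normal_left' hWp hWN
  have hT₁Y : Y ≤ Subgroup.normalizer (T₁ : Set G) := fun y hy =>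
    Cfsg.Agent.S0538.mem_normalizer_sup T W y (hTY hy) (le_normalizer_orb Z Y g hy)
  have hT₁w : wcl Z T₁ = T₁ := by
    apply le_antisymm (wcl_le Z T₁)
    rw [hT₁, sup_le_iff]
    constructor
    · conv_lhs => rw [← hTw]
      rw [wcl_eq_sSup, wcl_eq_sSup]
      exact sSup_le_sSup (fam_mono Z le_sup_left)
    · apply iSup₂_le
      intro y hy
      have hle : MulAut.conj (y * g) • Z ≤ T ⊔ W :=
        (le_iSup₂_of_le (f := fun y _ => MulAut.conj (y * g) • Z) y hy le_rfl).trans le_sup_right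
      exact le_iSup₂_of_le (f := fun g' _ => MulAut.conj g' • Z) (y * g) hle le_rfl
  have hT₁mem : T₁ ∈ 𝒯 := ⟨hT₁p, hT₁w, hT₁Y⟩
  have hle : T₁ ≤ T := hTmax hT₁mem le_sup_left
  apply hXnotT
  have hXW : MulAut.conj g • Z ≤ W := by
    have := le_iSup₂_of_le (f := fun y _ => MulAut.conj (y * g) • Z) 1 Y.one_mem le_rfl
    rwa [one_mul] at this
  exact (hXW.trans le_sup_right).trans hle

end Cfsg.Agent.S0541
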