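import Cfsg.Statements.S0542
import Mathlib

set_option autoImplicit false
open Cfsg

namespace Cfsg.Agent.S0542

/-- for `N` normal and any subgroup `S` of a finite group, `[N : S ∩ N]` divides `[G : S]` -/
theorem relIndex_dvd_index_of_normal_right {K : Type*} [Group K] [Finite K] (S N : Subgroup K) [N.Normal] :
    S.relIndex N ∣ S.index := by
  have h1 : (S ⊓ N).relIndex N * N.relIndex (S ⊔ N) = (S ⊓ N).relIndex (S ⊔ N) :=
    Subgroup.relIndex_mul_relIndex _ _ _ inf_le_right le_sup_right
  have h2 : (S ⊓ N).relIndex S * S.relIndex (S ⊔ N) = (S ⊓ N).relIndex (S ⊔ N) :=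
    Subgroup.relIndex_mul_relIndex _ _ _ inf_le_left le_sup_left
  have h3 : N.relIndex (S ⊔ N) = N.relIndex S := Subgroup.relIndex_sup_right S N
  have h4 : (S ⊓ N).relIndex S = N.relIndex S := Subgroup.inf_relIndex_left S N
  have h5 : (S ⊓ N).relIndex N = S.relIndex N := Subgroup.inf_relIndex_right S N
  have h6 : N.relIndex S ≠ 0 := by
    unfold Subgroup.relIndex
    exact Subgroup.index_ne_zero_of_finite
  rw [h3, h5] at h1
  rw [h4] at h2
  have h7 : S.relIndex N = S.relIndex (S ⊔ N) := by
    have : S.relIndex N * N.relIndex S = N.relIndex S * S.relIndex (S ⊔ N) := by rw [h1, h2]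
    rw [mul_comm] at this
    exact Nat.eq_of_mul_eq_mul_left (Nat.pos_of_ne_zero h6) this
  rw [h7]
  exact Subgroup.relIndex_dvd_index_of_le le_sup_left

theorem main {G : Type*} [Group G] [Finite G] (p : ℕ) [Fact p.Prime] (S : Sylow p G)
    (H : Subgroup G) (hH : H.IsSubnormal) : ¬ p ∣ (S : Subgroup G).relIndex H := by
  induction hH with
  | top =>
    rw [Subgroup.relIndex_top_right]
    exact S.not_dvd_index
  | step H K h_le hSubn hN ih =>
    have hp : IsPGroup p ((S : Subgroup G).subgroupOf K) := S.isPGroup'.comap_subtype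
    let SK : Sylow p K := hp.toSylow ih
    have h1 := relIndex_dvd_index_of_normal_right ((S : Subgroup G).subgroupOf K) (H.subgroupOf K)
    rw [Subgroup.relIndex_subgroupOf h_le] at h1
    intro h2
    exact ih (h2.trans h1)

/-- A Sylow p-subgroup of a finite group meets every subnormal subgroup H in a Sylow p-subgroup of H. -/
theorem result {G : Type*} [Group G] [Finite G] (p : ℕ) [Fact p.Prime] (H : Subgroup G) (hH : H.IsSubnormal) (S : Sylow p G) : ∃ Q : Sylow p H, (Q : Subgroup H) = (S : Subgroup G).subgroupOf H := by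
  have hp : IsPGroup p ((S : Subgroup G).subgroupOf H) := S.isPGroup'.comap_subtype
  exact ⟨hp.toSylow (main p S H hH), rfl⟩

end Cfsg.Agent.S0542
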