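import Mathlib
import Cfsg.Statements.S0546
import Cfsg.Agent.S0545
import Cfsg.Agent.S0536

set_option autoImplicit false
open Cfsg

namespace Cfsg.Agent.S0546

/-- The normal closure of a system normalizer of a finite solvable group is the whole group. -/
theorem result {G : Type*} [Group G] [Finite G] [Group.IsSolvable G] (K : Nat.Primes → Subgroup G) (hK : Cfsg.IsComplementSystem K) : Subgroup.normalClosure ((Cfsg.systemNormalizer K : Subgroup G) : Set G) = ⊤ := by
  by_contra hne
  set C := Subgroup.normalClosure ((Cfsg.systemNormalizer K : Subgroup G) : Set G) with hC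
  have hCn : C.Normal := Subgroup.normalClosure_normal
  have hnt : Nontrivial (G ⧸ C) := by
    rw [← Finite.one_lt_card_iff_nontrivial, ← Subgroup.index_eq_card]
    exact Subgroup.one_lt_index_of_ne_top hne
  obtain ⟨Mb, hMbn, hMbr⟩ := Cfsg.Agent.S0536.exists_normal_index_prime (G := G ⧸ C)
  set M := Mb.comap (QuotientGroup.mk' C) with hM
  have hMn : M.Normal := hMbn.comap _
  have hMidx : M.index = Mb.index :=
    Subgroup.index_comap_of_surjective Mb (QuotientGroup.mk'_surjective C)
  have hCM : C ≤ M := by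
    intro x hx
    rw [hM, Subgroup.mem_comap]
    have : (QuotientGroup.mk' C) x = 1 := by
      rw [QuotientGroup.mk'_apply, QuotientGroup.eq_one_iff]; exact hx
    rw [this]; exact Mb.one_mem
  have hDM : Cfsg.systemNormalizer K ≤ M :=
    le_trans Subgroup.le_normalClosure hCM
  have h1 := Cfsg.Agent.S0545.main K hK M
  have h2 : (Cfsg.systemNormalizer K).map (QuotientGroup.mk' M) = ⊥ := by
    rw [eq_bot_iff]
    rintro _ ⟨x, hx, rfl⟩
    rw [Subgroup.mem_bot, QuotientGroup.mk'_apply, QuotientGroup.eq_one_iff]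
    exact hDM hx
  have hcard : Nat.card (G ⧸ M) = Mb.index := by
    rw [← Subgroup.index_eq_card, hMidx]
  have : Fact (Nat.card (G ⧸ M)).Prime := ⟨by rw [hcard]; exact hMbr⟩
  have h3 : Cfsg.systemNormalizer (fun p => (K p).map (QuotientGroup.mk' M)) = ⊤ := by
    unfold Cfsg.systemNormalizer
    rw [iInf_eq_top]
    intro p
    rw [Subgroup.normalizer_eq_top_iff]
    show ((K p).map (QuotientGroup.mk' M)).Normal
    rcases Subgroup.eq_bot_or_eq_top_of_prime_card ((K p).map (QuotientGroup.mk' M)) with h | h
    · rw [h]; exact Subgroup.normal_bot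
    · rw [h]; exact Subgroup.normal_top
  rw [h3, h2] at h1
  have h4 : Nat.card (G ⧸ M) = 1 := by
    rw [← Subgroup.card_top (G := G ⧸ M), h1, Subgroup.card_bot]
  rw [hcard] at h4
  rw [h4] at hMbr
  exact Nat.not_prime_one hMbr

end Cfsg.Agent.S0546
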