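import Cfsg.Statements.S0549
import Mathlib

set_option autoImplicit false
open Cfsg

namespace Cfsg.Agent.S0549

theorem sup_eq_top_of_normal {G : Type*} [Group G] (U : Subgroup G) (hU : IsCoatom U)
    (hcore : U.normalCore = ⊥) (K : Subgroup G) [K.Normal] (hK : K ≠ ⊥) : U ⊔ K = ⊤ := by
  have hnle : ¬ K ≤ U := by
    intro h
    have : K ≤ U.normalCore := Subgroup.normal_le_normalCore.mpr h
    rw [hcore] at this
    exact hK (le_bot_iff.mp this)
  apply hU.2
  apply lt_of_le_of_ne le_sup_left
  intro h
  apply hnle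
  rw [h]; exact le_sup_right

/-- Let U be a maximal subgroup of a finite group G whose normal core is trivial, and N a nontrivial normal subgroup with centralizer C. Then C ∩ U = 1, and either C = 1 or C is a minimal normal subgroup of G. -/
theorem result {G : Type*} [Group G] [Finite G] (U : Subgroup G) (hU : IsCoatom U) (hcore : U.normalCore = ⊥) (N : Subgroup G) [N.Normal] (hN : N ≠ ⊥) : Subgroup.centralizer (N : Set G) ⊓ U = ⊥ ∧ (Subgroup.centralizer (N : Set G) = ⊥ ∨ (Subgroup.centralizer (N : Set G) ≠ ⊥ ∧ ∀ K : Subgroup G, K.Normal → K ≤ Subgroup.centralizer (N : Set G) → K = ⊥ ∨ K = Subgroup.centralizer (N : Set G))) := by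
  have hUN : U ⊔ N = ⊤ := sup_eq_top_of_normal U hU hcore N hN
  have hCn : (Subgroup.centralizer (N : Set G)).Normal := Subgroup.normal_centralizer
  have part1 : Subgroup.centralizer (N : Set G) ⊓ U = ⊥ := by
    have hDn : (Subgroup.centralizer (N : Set G) ⊓ U).Normal := by
      constructor
      intro d hd g
      rw [Subgroup.mem_inf] at hd
      have hg : g ∈ U ⊔ N := by rw [hUN]; exact Subgroup.mem_top g
      rw [Subgroup.mem_sup_of_normal_right] at hg
      obtain ⟨u, hu, n, hn, rfl⟩ := hg
      have hdn : n * d * n⁻¹ = d := by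
        have := Subgroup.mem_centralizer_iff.mp hd.1
        have h2 := this n hn
        rw [h2, mul_assoc, mul_inv_cancel, mul_one]
      have : u * n * d * (u * n)⁻¹ = u * (n * d * n⁻¹) * u⁻¹ := by group
      rw [this, hdn]
      exact Subgroup.mem_inf.mpr ⟨hCn.conj_mem d hd.1 u, U.mul_mem (U.mul_mem hu hd.2) (U.inv_mem hu)⟩
    have : Subgroup.centralizer (N : Set G) ⊓ U ≤ U.normalCore :=
      Subgroup.normal_le_normalCore.mpr inf_le_right
    rw [hcore] at this
    exact le_bot_iff.mp this
  refine ⟨part1, ?_⟩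
  by_cases hC : Subgroup.centralizer (N : Set G) = ⊥
  · left; exact hC
  · right
    refine ⟨hC, ?_⟩
    intro K hKn hKC
    by_cases hK : K = ⊥
    · left; exact hK
    · right
      apply le_antisymm hKC
      intro c hc
      have hUK : U ⊔ K = ⊤ := sup_eq_top_of_normal U hU hcore K hK
      have hg : c ∈ U ⊔ K := by rw [hUK]; exact Subgroup.mem_top c
      rw [Subgroup.mem_sup_of_normal_right] at hg
      obtain ⟨u, hu, k, hk, rfl⟩ := hg
      have hu' : u ∈ Subgroup.centralizer (N : Set G) ⊓ U := by
        refine Subgroup.mem_inf.mpr ⟨?_, hu⟩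
        have : u = (u * k) * k⁻¹ := by group
        rw [this]
        exact Subgroup.mul_mem _ hc (Subgroup.inv_mem _ (hKC hk))
      rw [part1, Subgroup.mem_bot] at hu'
      rw [hu', one_mul]; exact hk

end Cfsg.Agent.S0549
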