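import Cfsg.Statements.S0548
import Cfsg.Agent.S0549
import Mathlib

set_option autoImplicit false
set_option linter.unusedSectionVars false
set_option linter.unusedVariables false
open Cfsg

namespace Cfsg.Agent.S0548

section setup

variable {G : Type*} [Group G] [Finite G] [Group.IsSolvable G] {Ω : Type*} [MulAction G Ω]
  [FaithfulSMul G Ω]

/-- the ambient set has at least two points as soon as the group is nontrivial -/
theorem nontrivial_of_ne_bot (M : Subgroup G) (hM : M ≠ ⊥) (ω : Ω) : Nontrivial Ω := by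
  by_contra hnt
  rw [not_nontrivial_iff_subsingleton] at hnt
  apply hM
  rw [eq_bot_iff]
  intro x _
  rw [Subgroup.mem_bot]
  apply FaithfulSMul.eq_of_smul_eq_smul (α := Ω)
  intro a
  exact Subsingleton.elim _ _

theorem stabilizer_coatom (hprim : MulAction.IsPreprimitive G Ω) (M : Subgroup G) (hM : M ≠ ⊥)
    (ω : Ω) : IsCoatom (MulAction.stabilizer G ω) := by
  have := nontrivial_of_ne_bot M hM ω
  exact MulAction.IsPreprimitive.isCoatom_stabilizer_of_isPreprimitive G ω

theorem stabilizer_core (hprim : MulAction.IsPreprimitive G Ω) (ω : Ω) :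
    (MulAction.stabilizer G ω).normalCore = ⊥ := by
  rw [eq_bot_iff]
  intro x hx
  rw [Subgroup.mem_bot]
  apply FaithfulSMul.eq_of_smul_eq_smul (α := Ω)
  intro a
  rw [one_smul]
  obtain ⟨g, rfl⟩ := MulAction.exists_smul_eq G ω a
  have h1 : g⁻¹ * x * g⁻¹⁻¹ ∈ MulAction.stabilizer G ω := hx g⁻¹
  rw [MulAction.mem_stabilizer_iff, inv_inv, mul_smul, mul_smul] at h1
  have := congrArg (fun y => g • y) h1
  simpa using this

theorem minimal_normal_comm (M : Subgroup G) [hMn : M.Normal] (hM : M ≠ ⊥)
    (hmin : ∀ K : Subgroup G, K.Normal → K ≤ M → K = ⊥ ∨ K = M) :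
    M ≤ Subgroup.centralizer (M : Set G) := by
  have hn : (⁅M, M⁆ : Subgroup G).Normal := Subgroup.commutator_normal M M
  have hlt : ⁅M, M⁆ < M := Group.IsSolvable.commutator_lt_of_ne_bot hM
  rcases hmin _ hn hlt.le with h | h
  · exact Subgroup.commutator_eq_bot_iff_le_centralizer.mp h
  · exact absurd h hlt.ne

theorem centralizer_eq (hprim : MulAction.IsPreprimitive G Ω) (M : Subgroup G) [hMn : M.Normal]
    (hM : M ≠ ⊥) (hmin : ∀ K : Subgroup G, K.Normal → K ≤ M → K = ⊥ ∨ K = M) (ω : Ω) :
    Subgroup.centralizer (M : Set G) = M := by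
  have hU := stabilizer_coatom hprim M hM ω
  have hc := stabilizer_core hprim ω
  have hle := minimal_normal_comm M hM hmin
  obtain ⟨_, h2⟩ := Cfsg.Agent.S0549.result _ hU hc M hM
  rcases h2 with h | ⟨_, h⟩
  · exfalso; rw [h] at hle; exact hM (le_bot_iff.mp hle)
  · rcases h M hMn hle with h' | h'
    · exact absurd h' hM
    · exact h'.symm

end setup

/-- Let a finite solvable group G act faithfully and primitively on a set, let M be a minimal normal subgroup and H the stabilizer of a point. Then H is a complement to M, no non-identity element of H centralizes M, and the only subgroups of M normalized by H are the trivial subgroup and M. -/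
theorem result {G : Type*} [Group G] [Finite G] [Group.IsSolvable G] {Ω : Type*} [MulAction G Ω] [FaithfulSMul G Ω] (hprim : MulAction.IsPreprimitive G Ω) (M : Subgroup G) [M.Normal] (hM : M ≠ ⊥) (hmin : ∀ K : Subgroup G, K.Normal → K ≤ M → K = ⊥ ∨ K = M) (ω : Ω) : Subgroup.IsComplement' M (MulAction.stabilizer G ω) ∧ MulAction.stabilizer G ω ⊓ Subgroup.centralizer (M : Set G) = ⊥ ∧ ∀ K : Subgroup G, K ≤ M → MulAction.stabilizer G ω ≤ Subgroup.normalizer (K : Set G) → K = ⊥ ∨ K = M := by
  have hU := stabilizer_coatom hprim M hM ω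
  have hc := stabilizer_core hprim ω
  have hcomm := minimal_normal_comm M hM hmin
  have hcent := centralizer_eq hprim M hM hmin ω
  obtain ⟨h1, _⟩ := Cfsg.Agent.S0549.result _ hU hc M hM
  have hUM : MulAction.stabilizer G ω ⊔ M = ⊤ :=
    Cfsg.Agent.S0549.sup_eq_top_of_normal _ hU hc M hM
  refine ⟨?_, ?_, ?_⟩
  · apply Subgroup.isComplement'_of_disjoint_and_mul_eq_univ
    · rw [disjoint_iff]
      rw [hcent] at h1
      exact h1
    · rw [← Subgroup.normal_mul, sup_comm, hUM]; rfl
  · rw [inf_comm]; exact h1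
  · intro K hKM hKU
    have hKn : K.Normal := by
      constructor
      intro k hk g
      have hg : g ∈ MulAction.stabilizer G ω ⊔ M := by rw [hUM]; exact Subgroup.mem_top g
      rw [Subgroup.mem_sup_of_normal_right] at hg
      obtain ⟨u, hu, m, hm, rfl⟩ := hg
      have hmk : m * k * m⁻¹ = k := by
        have := Subgroup.mem_centralizer_iff.mp (hcomm hm) k (hKM hk)
        rw [← this, mul_assoc, mul_inv_cancel, mul_one]
      have : u * m * k * (u * m)⁻¹ = u * (m * k * m⁻¹) * u⁻¹ := by group
      rw [this, hmk]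
      exact (Subgroup.mem_normalizer_iff.mp (hKU hu) k).mp hk
    exact hmin K hKn hKM

end Cfsg.Agent.S0548
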