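import Cfsg.Statements.S0547
import Cfsg.Agent.S0548
import Mathlib

set_option autoImplicit false
open Cfsg

namespace Cfsg.Agent.S0547

/-- Let a finite solvable group G act faithfully and primitively on a set, and let M be a minimal normal subgroup of G. Then M is transitive with trivial point stabilizers, and the number of points equals the order of M, which is a prime power p ^ d with d ≥ 1. -/
theorem result {G : Type*} [Group G] [Finite G] [Group.IsSolvable G] {Ω : Type*} [Nonempty Ω] [MulAction G Ω] [FaithfulSMul G Ω] (hprim : MulAction.IsPreprimitive G Ω) (M : Subgroup G) [M.Normal] (hM : M ≠ ⊥) (hmin : ∀ K : Subgroup G, K.Normal → K ≤ M → K = ⊥ ∨ K = M) : MulAction.IsPretransitive M Ω ∧ (∀ ω : Ω, MulAction.stabilizer M ω = ⊥) ∧ ∃ p d : ℕ, p.Prime ∧ 0 < d ∧ Nat.card Ω = p ^ d ∧ Nat.card M = p ^ d := by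
  have hMn : M.Normal := inferInstance
  have hcomm := Cfsg.Agent.S0548.minimal_normal_comm M hM hmin
  -- transitivity
  have htrans : MulAction.IsPretransitive M Ω := by
    constructor
    intro x y
    obtain ⟨g, hg⟩ := MulAction.exists_smul_eq G x y
    have hU := Cfsg.Agent.S0548.stabilizer_coatom hprim M hM x
    have hc := Cfsg.Agent.S0548.stabilizer_core hprim x
    have hUM : MulAction.stabilizer G x ⊔ M = ⊤ :=
      Cfsg.Agent.S0549.sup_eq_top_of_normal _ hU hc M hM
    have hg' : g ∈ M ⊔ MulAction.stabilizer G x := by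
      rw [sup_comm, hUM]; exact Subgroup.mem_top g
    rw [Subgroup.mem_sup_of_normal_left] at hg'
    obtain ⟨m, hm, u, hu, rfl⟩ := hg'
    refine ⟨⟨m, hm⟩, ?_⟩
    rw [mul_smul, MulAction.mem_stabilizer_iff.mp hu] at hg
    exact hg
  have hstab : ∀ ω : Ω, MulAction.stabilizer M ω = ⊥ := by
    intro ω
    obtain ⟨⟨h1, _⟩, _⟩ := Cfsg.Agent.S0548.result hprim M hM hmin ω
    rw [eq_bot_iff]
    intro m hm
    rw [Subgroup.mem_bot]
    have hm' : (m : G) ∈ M ⊓ MulAction.stabilizer G ω := by
      refine Subgroup.mem_inf.mpr ⟨m.2, ?_⟩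
      rw [MulAction.mem_stabilizer_iff]
      exact MulAction.mem_stabilizer_iff.mp hm
    have hdis : M ⊓ MulAction.stabilizer G ω = ⊥ := by
      have := (Cfsg.Agent.S0548.result hprim M hM hmin ω).1.disjoint
      exact disjoint_iff.mp this
    rw [hdis, Subgroup.mem_bot] at hm'
    exact Subtype.ext hm'
  refine ⟨htrans, hstab, ?_⟩
  -- cardinality
  obtain ⟨ω⟩ : Nonempty Ω := inferInstance
  have hcard : Nat.card Ω = Nat.card M := by
    have := MulAction.index_stabilizer_of_transitive (G := M) (x := ω)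
    rw [hstab ω, Subgroup.index_bot] at this
    exact this.symm
  -- M nontrivial
  have hMcard : 1 < Nat.card M := by
    rw [Finite.one_lt_card_iff_nontrivial]
    by_contra h
    rw [not_nontrivial_iff_subsingleton] at h
    exact hM (Subgroup.eq_bot_of_subsingleton M)
  obtain ⟨p, hp, hpd⟩ := Nat.exists_prime_and_dvd (ne_of_gt hMcard)
  haveI : Fact p.Prime := ⟨hp⟩
  -- the subgroup of elements of order dividing p
  let K : Subgroup G :=
    { carrier := {x | x ∈ M ∧ x ^ p = 1}
      mul_mem' := by
        rintro a b ⟨ha, ha'⟩ ⟨hb, hb'⟩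
        refine ⟨M.mul_mem ha hb, ?_⟩
        have hc : Commute a b := by
          have := Subgroup.mem_centralizer_iff.mp (hcomm hb) a ha
          exact this
        rw [hc.mul_pow, ha', hb', one_mul]
      one_mem' := ⟨M.one_mem, one_pow p⟩
      inv_mem' := by
        rintro a ⟨ha, ha'⟩
        exact ⟨M.inv_mem ha, by rw [inv_pow, ha', inv_one]⟩ }
  have hKn : K.Normal := by
    constructor
    rintro a ⟨ha, ha'⟩ g
    exact ⟨hMn.conj_mem a ha g, by rw [conj_pow, ha', mul_one, mul_inv_cancel]⟩
  have hKM : K ≤ M := fun x hx => hx.1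
  have hKne : K ≠ ⊥ := by
    obtain ⟨x, hx⟩ := exists_prime_orderOf_dvd_card' (G := M) p hpd
    intro hK
    have hxK : (x : G) ∈ K := by
      refine ⟨x.2, ?_⟩
      have : x ^ p = 1 := by rw [← hx]; exact pow_orderOf_eq_one x
      have := congrArg Subtype.val this
      simpa using this
    rw [hK, Subgroup.mem_bot] at hxK
    have : x = 1 := Subtype.ext hxK
    rw [this, orderOf_one] at hx
    exact hp.one_lt.ne hx
  have hKeq : K = M := (hmin K hKn hKM).resolve_left hKne
  have hpg : IsPGroup p M := by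
    intro g
    refine ⟨1, ?_⟩
    have : (g : G) ∈ K := by rw [hKeq]; exact g.2
    rw [pow_one]
    exact Subtype.ext (by simpa using this.2)
  obtain ⟨d, hd⟩ := IsPGroup.iff_card.mp hpg
  refine ⟨p, d, hp, ?_, by rw [hcard, hd], hd⟩
  rcases d with _ | d
  · rw [hd] at hMcard; simp at hMcard
  · exact Nat.succ_pos d

end Cfsg.Agent.S0547
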