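import Cfsg.Statements.S0550
import Cfsg.Agent.S0549
import Mathlib

set_option autoImplicit false
open Cfsg

namespace Cfsg.Agent.S0550

/-- two subgroups with the same join with a normal subgroup `B` that both meet `B` trivially are isomorphic -/
theorem iso_of_sup_eq {G : Type*} [Group G] (A D B : Subgroup G) [B.Normal]
    (hA : A ⊓ B = ⊥) (hD : D ⊓ B = ⊥) (h : A ⊔ B = D ⊔ B) : Nonempty (A ≃* D) := by
  let fA : A →* G ⧸ B := (QuotientGroup.mk' B).comp A.subtype
  let fD : D →* G ⧸ B := (QuotientGroup.mk' B).comp D.subtype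
  have injA : Function.Injective fA := by
    rw [← MonoidHom.ker_eq_bot_iff, eq_bot_iff]
    intro x hx
    rw [MonoidHom.mem_ker] at hx
    have hxB : (x : G) ∈ B := by
      have : (QuotientGroup.mk' B) (x : G) = 1 := hx
      rwa [QuotientGroup.mk'_apply, QuotientGroup.eq_one_iff] at this
    have : (x : G) ∈ A ⊓ B := Subgroup.mem_inf.mpr ⟨x.2, hxB⟩
    rw [hA, Subgroup.mem_bot] at this
    rw [Subgroup.mem_bot]
    exact Subtype.ext this
  have injD : Function.Injective fD := by
    rw [← MonoidHom.ker_eq_bot_iff, eq_bot_iff]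
    intro x hx
    rw [MonoidHom.mem_ker] at hx
    have hxB : (x : G) ∈ B := by
      have : (QuotientGroup.mk' B) (x : G) = 1 := hx
      rwa [QuotientGroup.mk'_apply, QuotientGroup.eq_one_iff] at this
    have : (x : G) ∈ D ⊓ B := Subgroup.mem_inf.mpr ⟨x.2, hxB⟩
    rw [hD, Subgroup.mem_bot] at this
    rw [Subgroup.mem_bot]
    exact Subtype.ext this
  have hrange : fA.range = fD.range := by
    simp only [fA, fD]
    rw [MonoidHom.range_comp, MonoidHom.range_comp, Subgroup.range_subtype, Subgroup.range_subtype,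
      Subgroup.map_eq_map_iff, QuotientGroup.ker_mk']
    exact h
  exact ⟨(MonoidHom.ofInjective injA).trans
    ((MulEquiv.subgroupCongr hrange).trans (MonoidHom.ofInjective injD).symm)⟩

/-- Let U be a maximal subgroup with trivial normal core in a finite group G, and A ≠ B two minimal normal subgroups. Then A is the centralizer of B and B that of A, U complements each of them, A and B are non-abelian, and A, B and (A ⊔ B) ∩ U are pairwise isomorphic. -/
theorem result {G : Type*} [Group G] [Finite G] (U : Subgroup G) (hU : IsCoatom U) (hcore : U.normalCore = ⊥) (A B : Subgroup G) [A.Normal] [B.Normal] (hA : A ≠ ⊥) (hB : B ≠ ⊥) (hAmin : ∀ K : Subgroup G, K.Normal → K ≤ A → K = ⊥ ∨ K = A) (hBmin : ∀ K : Subgroup G, K.Normal → K ≤ B → K = ⊥ ∨ K = B) (hAB : A ≠ B) : Subgroup.centralizer (B : Set G) = A ∧ Subgroup.centralizer (A : Set G) = B ∧ Subgroup.IsComplement' A U ∧ Subgroup.IsComplement' B U ∧ ¬ IsMulCommutative A ∧ Nonempty (A ≃* B) ∧ Nonempty (A ≃* ↥((A ⊔ B) ⊓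 U)) := by
  have hAn : A.Normal := inferInstance
  have hBn : B.Normal := inferInstance
  -- A ⊓ B = ⊥
  have hdisj : A ⊓ B = ⊥ := by
    have hn : (A ⊓ B).Normal := Subgroup.normal_inf_normal A B
    rcases hAmin (A ⊓ B) hn inf_le_left with h | h
    · exact h
    · exfalso
      have hle : A ≤ B := by rw [← h]; exact inf_le_right
      rcases hBmin A hAn hle with h' | h'
      · exact hA h'
      · exact hAB h'
  have hcomm : ∀ a ∈ A, ∀ b ∈ B, a * b = b * a := fun a ha b hb =>
    (Subgroup.commute_of_normal_of_disjoint A B hAn hBn (disjoint_iff.mpr hdisj) a b ha hb).eq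
  have hB_le : B ≤ Subgroup.centralizer (A : Set G) := by
    intro b hb
    rw [Subgroup.mem_centralizer_iff]
    intro a ha
    exact hcomm a ha b hb
  have hA_le : A ≤ Subgroup.centralizer (B : Set G) := by
    intro a ha
    rw [Subgroup.mem_centralizer_iff]
    intro b hb
    exact (hcomm a ha b hb).symm
  obtain ⟨hCAU, hCA⟩ := Cfsg.Agent.S0549.result U hU hcore A hA
  obtain ⟨hCBU, hCB⟩ := Cfsg.Agent.S0549.result U hU hcore B hB
  have hCA_eq : Subgroup.centralizer (A : Set G) = B := by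
    rcases hCA with h | ⟨_, h⟩
    · exfalso; rw [h] at hB_le; exact hB (le_bot_iff.mp hB_le)
    · rcases h B hBn hB_le with h' | h'
      · exact absurd h' hB
      · exact h'.symm
  have hCB_eq : Subgroup.centralizer (B : Set G) = A := by
    rcases hCB with h | ⟨_, h⟩
    · exfalso; rw [h] at hA_le; exact hA (le_bot_iff.mp hA_le)
    · rcases h A hAn hA_le with h' | h'
      · exact absurd h' hA
      · exact h'.symm
  have hAU : A ⊓ U = ⊥ := by rw [← hCB_eq]; exact hCBU
  have hBU : B ⊓ U = ⊥ := by rw [← hCA_eq]; exact hCAU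
  have hUA : U ⊔ A = ⊤ := Cfsg.Agent.S0549.sup_eq_top_of_normal U hU hcore A hA
  have hUB : U ⊔ B = ⊤ := Cfsg.Agent.S0549.sup_eq_top_of_normal U hU hcore B hB
  have compA : Subgroup.IsComplement' A U := by
    apply Subgroup.isComplement'_of_disjoint_and_mul_eq_univ (disjoint_iff.mpr hAU)
    rw [← Subgroup.normal_mul, sup_comm, hUA]; rfl
  have compB : Subgroup.IsComplement' B U := by
    apply Subgroup.isComplement'_of_disjoint_and_mul_eq_univ (disjoint_iff.mpr hBU)
    rw [← Subgroup.normal_mul, sup_comm, hUB]; rfl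
  have hnc : ¬ IsMulCommutative A := by
    intro hc
    have hle : A ≤ Subgroup.centralizer (A : Set G) := by
      intro a ha
      rw [Subgroup.mem_centralizer_iff]
      intro a' ha'
      have := hc.is_comm.comm (⟨a', ha'⟩ : A) ⟨a, ha⟩
      exact congrArg Subtype.val this
    rw [hCA_eq] at hle
    have : A ≤ A ⊓ B := le_inf le_rfl hle
    rw [hdisj] at this
    exact hA (le_bot_iff.mp this)
  -- D = (A ⊔ B) ⊓ U
  have hDB : ((A ⊔ B) ⊓ U) ⊓ B = ⊥ := by
    rw [eq_bot_iff]
    intro x hx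
    have h1 : x ∈ B ⊓ U := Subgroup.mem_inf.mpr
      ⟨(Subgroup.mem_inf.mp hx).2, (Subgroup.mem_inf.mp (Subgroup.mem_inf.mp hx).1).2⟩
    rwa [hBU] at h1
  have hDA : ((A ⊔ B) ⊓ U) ⊓ A = ⊥ := by
    rw [eq_bot_iff]
    intro x hx
    have h1 : x ∈ A ⊓ U := Subgroup.mem_inf.mpr
      ⟨(Subgroup.mem_inf.mp hx).2, (Subgroup.mem_inf.mp (Subgroup.mem_inf.mp hx).1).2⟩
    rwa [hAU] at h1
  have hsupB : A ⊔ B = ((A ⊔ B) ⊓ U) ⊔ B := by
    apply le_antisymm
    · intro x hx
      have hx' : x ∈ U ⊔ B := by rw [hUB]; exact Subgroup.mem_top x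
      rw [Subgroup.mem_sup_of_normal_right] at hx'
      obtain ⟨u, hu, b, hb, rfl⟩ := hx'
      have hu' : u ∈ A ⊔ B := by
        have : u = (u * b) * b⁻¹ := by group
        rw [this]
        exact Subgroup.mul_mem _ hx (Subgroup.inv_mem _ ((le_sup_right : B ≤ A ⊔ B) hb))
      exact Subgroup.mul_mem_sup (Subgroup.mem_inf.mpr ⟨hu', hu⟩) hb
    · exact sup_le inf_le_left le_sup_right
  have hsupA : B ⊔ A = ((A ⊔ B) ⊓ U) ⊔ A := by
    apply le_antisymm
    · intro x hx
      have hx' : x ∈ U ⊔ A := by rw [hUA]; exact Subgroup.mem_top x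
      rw [Subgroup.mem_sup_of_normal_right] at hx'
      obtain ⟨u, hu, a, ha, rfl⟩ := hx'
      have hu' : u ∈ A ⊔ B := by
        have : u = (u * a) * a⁻¹ := by group
        rw [this]
        rw [sup_comm] at hx
        exact Subgroup.mul_mem _ hx (Subgroup.inv_mem _ ((le_sup_left : A ≤ A ⊔ B) ha))
      exact Subgroup.mul_mem_sup (Subgroup.mem_inf.mpr ⟨hu', hu⟩) ha
    · exact sup_le (by rw [sup_comm]; exact inf_le_left) le_sup_right
  obtain ⟨e1⟩ := iso_of_sup_eq A ((A ⊔ B) ⊓ U) B hdisj hDB hsupB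
  obtain ⟨e2⟩ := iso_of_sup_eq B ((A ⊔ B) ⊓ U) A (by rw [inf_comm]; exact hdisj) hDA hsupA
  exact ⟨hCB_eq, hCA_eq, compA, compB, hnc, ⟨e1.trans e2.symm⟩, ⟨e1⟩⟩

end Cfsg.Agent.S0550
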