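import Cfsg.Statements.S0551
import Cfsg.Agent.S0549
import Cfsg.Agent.Lib.Helper4.MinNormal
import Cfsg.Agent.Lib.Helper1.SZ
import Cfsg.Agent.Lib.Helper10.PGroup
import Mathlib

set_option autoImplicit false
open Cfsg

namespace Cfsg.Agent.S0551

open Pointwise
open Cfsg.Agent.Lib.Helper4

/-- a core-free maximal subgroup forces a minimal normal subgroup of a solvable group to be
self-centralising and complemented -/
theorem setup {G : Type*} [Group G] [Finite G] [Group.IsSolvable G] (U : Subgroup G)
    (hU : IsCoatom U) (hUc : U.normalCore = ⊥) (N : Subgroup G) (hN : IsMinNormal N) :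
    Subgroup.centralizer (N : Set G) = N ∧ N ⊓ U = ⊥ ∧ N ⊔ U = ⊤ := by
  haveI : N.Normal := hN.1
  have hcomm := hN.le_centralizer
  obtain ⟨h1, h2⟩ := Cfsg.Agent.S0549.result U hU hUc N hN.2.1
  have hcent : Subgroup.centralizer (N : Set G) = N := by
    rcases h2 with h | ⟨_, h⟩
    · exfalso; rw [h] at hcomm; exact hN.2.1 (le_bot_iff.mp hcomm)
    · rcases h N hN.1 hcomm with h' | h'
      · exact absurd h' hN.2.1
      · exact h'.symm
  refine ⟨hcent, ?_, ?_⟩
  · rw [hcent] at h1; exact h1
  · rw [sup_comm]; exact Cfsg.Agent.S0549.sup_eq_top_of_normal U hU hUc N hN.2.1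

/-- In a finite solvable group all core-free maximal subgroups are conjugate. -/
theorem result {G : Type*} [Group G] [Finite G] [Group.IsSolvable G] (U V : Subgroup G) (hU : IsCoatom U) (hV : IsCoatom V) (hUc : U.normalCore = ⊥) (hVc : V.normalCore = ⊥) : ∃ g : G, MulAut.conj g • U = V := by
  classical
  have hnt : Nontrivial G := by
    by_contra h
    rw [not_nontrivial_iff_subsingleton] at h
    apply hU.1
    ext x
    simp only [Subgroup.mem_top, iff_true]
    rw [Subsingleton.elim x 1]; exact U.one_mem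
  obtain ⟨N, hN⟩ := exists_minNormal (G := G)
  haveI hNn : N.Normal := hN.1
  have hcomm := hN.le_centralizer
  obtain ⟨hcent, hNU, hNUtop⟩ := setup U hU hUc N hN
  obtain ⟨_, hNV, hNVtop⟩ := setup V hV hVc N hN
  have compU : Subgroup.IsComplement' N U :=
    Cfsg.Agent.Lib.Helper1.isComplement'_of_disjoint_of_sup_eq_top (disjoint_iff.mpr hNU) hNUtop
  have compV : Subgroup.IsComplement' N V :=
    Cfsg.Agent.Lib.Helper1.isComplement'_of_disjoint_of_sup_eq_top (disjoint_iff.mpr hNV) hNVtop
  by_cases hNtop : N = ⊤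
  · have hU' : U = ⊥ := by rw [hNtop, top_inf_eq] at hNU; exact hNU
    have hV' : V = ⊥ := by rw [hNtop, top_inf_eq] at hNV; exact hNV
    refine ⟨1, ?_⟩
    rw [map_one, one_smul, hU', hV']
  · have hQnt : Nontrivial (G ⧸ N) := QuotientGroup.nontrivial_iff.mpr hNtop
    obtain ⟨Mb, hMb⟩ := exists_minNormal (G := G ⧸ N)
    have hMbcomm := hMb.le_centralizer
    obtain ⟨q, hq, hMbq⟩ := hMb.exists_isPGroup hMbcomm
    obtain ⟨p, hp, hNp⟩ := hN.exists_isPGroup hcomm
    haveI : Fact p.Prime := ⟨hp⟩
    haveI : Fact q.Prime := ⟨hq⟩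
    set M : Subgroup G := Mb.comap (QuotientGroup.mk' N) with hMdef
    haveI hMn : M.Normal := hMb.1.comap _
    have hNM : N ≤ M := by
      intro x hx
      rw [hMdef, Subgroup.mem_comap, QuotientGroup.mk'_apply, (QuotientGroup.eq_one_iff x).mpr hx]
      exact Subgroup.one_mem _
    have hMN : ¬ M ≤ N := by
      intro h
      apply hMb.2.1
      rw [eq_bot_iff]
      intro y hy
      obtain ⟨x, rfl⟩ := QuotientGroup.mk'_surjective N y
      have hxM : x ∈ M := hy
      rw [Subgroup.mem_bot]
      exact (QuotientGroup.eq_one_iff x).mpr (h hxM)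
    -- cardinalities
    have hmap : M.map (QuotientGroup.mk' N) = Mb :=
      Subgroup.map_comap_eq_self_of_surjective (QuotientGroup.mk'_surjective N) Mb
    have hrel : N.relIndex M = Nat.card Mb := by
      have := Subgroup.relIndex_ker (QuotientGroup.mk' N) (K := M)
      rw [QuotientGroup.ker_mk', hmap] at this
      exact this
    have hcardN' : Nat.card (N.subgroupOf M) = Nat.card N :=
      Nat.card_congr (Subgroup.subgroupOfEquivOfLe hNM).toEquiv
    have hcardM : Nat.card M = Nat.card N * Nat.card Mb := by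
      rw [← hrel, ← hcardN']
      exact (Subgroup.card_mul_index (N.subgroupOf M)).symm
    obtain ⟨a, ha⟩ := IsPGroup.iff_card.mp hNp
    obtain ⟨b, hb⟩ := IsPGroup.iff_card.mp hMbq
    -- q ≠ p
    have hqp : q ≠ p := by
      intro hqp
      subst hqp
      have hMp : IsPGroup q M := by
        rw [IsPGroup.iff_card]
        exact ⟨a + b, by rw [hcardM, ha, hb, pow_add]⟩
      have hN'ne : N.subgroupOf M ≠ ⊥ := by
        intro h
        rw [Subgroup.subgroupOf_eq_bot] at h
        apply hN.2.1
        rw [← inf_of_le_left hNM]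
        exact disjoint_iff.mp h
      have hz := Cfsg.Agent.Lib.Helper10.normal_inf_center_ne_bot hMp (N.subgroupOf M) hN'ne
      -- Z := image of the centre of M
      let Z : Subgroup G := (Subgroup.center M).map M.subtype
      have hZn : Z.Normal := ConjAct.normal_of_characteristic_of_normal
      have hZNn : (Z ⊓ N).Normal := Subgroup.normal_inf_normal Z N
      have hZNne : Z ⊓ N ≠ ⊥ := by
        intro h
        apply hz
        rw [eq_bot_iff]
        intro x hx
        rw [Subgroup.mem_bot]
        have hx1 : x ∈ N.subgroupOf M := (Subgroup.mem_inf.mp hx).1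
        have hx2 : x ∈ Subgroup.center M := (Subgroup.mem_inf.mp hx).2
        have : (x : G) ∈ Z ⊓ N :=
          Subgroup.mem_inf.mpr ⟨⟨x, hx2, rfl⟩, Subgroup.mem_subgroupOf.mp hx1⟩
        rw [h, Subgroup.mem_bot] at this
        exact Subtype.ext this
      have hZN : Z ⊓ N = N := (hN.2.2 _ hZNn inf_le_right).resolve_left hZNne
      have hNZ : N ≤ Z := by rw [← hZN]; exact inf_le_left
      apply hMN
      rw [← hcent]
      intro m hm
      rw [Subgroup.mem_centralizer_iff]
      intro n hn
      obtain ⟨z, hz, rfl⟩ := hNZ hn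
      have := Subgroup.mem_center_iff.mp hz ⟨m, hm⟩
      have h2 := congrArg Subtype.val this
      simp only [Subgroup.coe_mul] at h2
      exact h2.symm
    -- Schur–Zassenhaus inside M
    have hcop : (Nat.card (N.subgroupOf M)).Coprime (N.subgroupOf M).index := by
      rw [hcardN', ha]
      show (p ^ a).Coprime (N.relIndex M)
      rw [hrel, hb]
      exact Nat.Coprime.pow _ _ ((Nat.coprime_primes hp hq).mpr (Ne.symm hqp))
    have cU : Subgroup.IsComplement' (N.subgroupOf M) (U.subgroupOf M) :=
      Cfsg.Agent.Lib.Helper1.IsComplement'.subgroupOf_of_le_left compU hNM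
    have cV : Subgroup.IsComplement' (N.subgroupOf M) (V.subgroupOf M) :=
      Cfsg.Agent.Lib.Helper1.IsComplement'.subgroupOf_of_le_left compV hNM
    obtain ⟨m, hm⟩ := Cfsg.Agent.Lib.Helper1.sz_conj (N.subgroupOf M) hcop (Or.inl inferInstance)
      (U.subgroupOf M) (V.subgroupOf M) cU cV
    have hm' : MulAut.conj (m : G) • (U ⊓ M) = V ⊓ M := by
      apply Cfsg.Agent.Lib.Helper1.conj_of_conj_subgroupOf inf_le_right inf_le_right m
      rw [Subgroup.inf_subgroupOf_right, Subgroup.inf_subgroupOf_right]
      exact hm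
    -- V is the normaliser of V ⊓ M
    have hVnorm : Subgroup.normalizer ((V ⊓ M : Subgroup G) : Set G) = V := by
      have hle : V ≤ Subgroup.normalizer ((V ⊓ M : Subgroup G) : Set G) := by
        rw [Subgroup.le_normalizer_iff]
        intro v hv k hk
        exact Subgroup.mem_inf.mpr ⟨V.mul_mem (V.mul_mem hv (Subgroup.mem_inf.mp hk).1) (V.inv_mem hv),
          hMn.conj_mem k (Subgroup.mem_inf.mp hk).2 v⟩
      by_contra hne
      have hlt : V < Subgroup.normalizer ((V ⊓ M : Subgroup G) : Set G) :=
        lt_of_le_of_ne hle (Ne.symm hne)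
      have htop := hV.2 _ hlt
      have hnorm : (V ⊓ M).Normal := Subgroup.normalizer_eq_top_iff.mp htop
      have hbot : V ⊓ M = ⊥ := by
        have : V ⊓ M ≤ V.normalCore := Subgroup.normal_le_normalCore.mpr inf_le_left
        rw [hVc] at this
        exact le_bot_iff.mp this
      -- then M ≤ N
      apply hMN
      intro x hx
      obtain ⟨n, hn, v, hv, hnv⟩ := Cfsg.Agent.Lib.Helper1.IsComplement'.exists_mul_eq compV x
      have hvM : v ∈ V ⊓ M := by
        refine Subgroup.mem_inf.mpr ⟨hv, ?_⟩
        have : v = n⁻¹ * x := by rw [← hnv]; group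
        rw [this]
        exact M.mul_mem (M.inv_mem (hNM hn)) hx
      rw [hbot, Subgroup.mem_bot] at hvM
      rw [← hnv, hvM, mul_one]; exact hn
    -- conjugate of U normalises V ⊓ M
    have hle : MulAut.conj (m : G) • U ≤ V := by
      rw [← hVnorm, Subgroup.le_normalizer_iff]
      intro y hy k hk
      rw [← hm'] at hk ⊢
      rw [Cfsg.Agent.Lib.Helper1.mem_conj_smul] at hy hk ⊢
      have : (m : G)⁻¹ * (y * k * y⁻¹) * (m : G) =
          ((m : G)⁻¹ * y * (m : G)) * ((m : G)⁻¹ * k * (m : G)) * ((m : G)⁻¹ * y * (m : G))⁻¹ := by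
        group
      rw [this]
      exact Subgroup.mem_inf.mpr
        ⟨U.mul_mem (U.mul_mem hy (Subgroup.mem_inf.mp hk).1) (U.inv_mem hy),
          hMn.conj_mem _ (Subgroup.mem_inf.mp hk).2 _⟩
    refine ⟨(m : G), ?_⟩
    apply Subgroup.eq_of_le_of_card_ge hle
    rw [Cfsg.Agent.Lib.Helper1.card_conj_smul]
    have h1 := compU.card_mul_card
    have h2 := compV.card_mul_card
    have h3 : 0 < Nat.card N := Nat.card_pos
    exact le_of_eq (Nat.eq_of_mul_eq_mul_left h3 (h2.trans h1.symm))

end Cfsg.Agent.S0551
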