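import Cfsg.Statements.S0552
import Cfsg.Agent.Lib.Helper1.Fitting
import Mathlib

set_option autoImplicit false
open Cfsg

namespace Cfsg.Agent.S0552

/-- Let σ be an automorphism of a finite solvable group G fixing every element of the Fitting subgroup. If σ is not the identity then the order of σ and the order of G have a common prime factor. -/
theorem result {G : Type*} [Group G] [Finite G] [Group.IsSolvable G] (σ : G ≃* G) (hσ : ∀ x ∈ Cfsg.fittingSubgroup G, σ x = x) (hne : σ ≠ MulEquiv.refl G) : ¬ (orderOf σ).Coprime (Nat.card G) := by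
  intro hcop
  apply hne
  have hFn : (fittingSubgroup G).Normal := Cfsg.Agent.Lib.Helper1.fittingSubgroup_normal
  have hCF := Cfsg.Agent.Lib.Helper1.centralizer_fittingSubgroup_le (G := G)
  -- z g = g⁻¹ * σ g lies in F
  have hz : ∀ g : G, g⁻¹ * σ g ∈ fittingSubgroup G := by
    intro g
    apply hCF
    rw [Subgroup.mem_centralizer_iff]
    intro f hf
    have h1 : σ (g * f * g⁻¹) = g * f * g⁻¹ := hσ _ (hFn.conj_mem f hf g)
    rw [map_mul, map_mul, map_inv, hσ f hf] at h1
    -- σ g * f * (σ g)⁻¹ = g * f * g⁻¹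
    calc f * (g⁻¹ * σ g) = g⁻¹ * (g * f * g⁻¹) * σ g := by group
      _ = g⁻¹ * (σ g * f * (σ g)⁻¹) * σ g := by rw [h1]
      _ = g⁻¹ * σ g * f := by group
  have hpow : ∀ (k : ℕ) (g : G), (σ ^ k) g = g * (g⁻¹ * σ g) ^ k := by
    intro k
    induction k with
    | zero => intro g; simp
    | succ k ih =>
      intro g
      rw [pow_succ', MulAut.mul_apply, ih, map_mul, map_pow, hσ _ (hz g), pow_succ', ← mul_assoc,
        ← mul_assoc, mul_inv_cancel, one_mul]
  ext g
  have h1 := hpow (orderOf σ) g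
  rw [pow_orderOf_eq_one, MulAut.one_apply] at h1
  have h2 : (g⁻¹ * σ g) ^ orderOf σ = 1 := by
    have : g * (g⁻¹ * σ g) ^ orderOf σ = g * 1 := by rw [mul_one]; exact h1.symm
    exact mul_left_cancel this
  have h3 : (g⁻¹ * σ g) ^ Nat.card G = 1 := pow_card_eq_one'
  have h4 : orderOf (g⁻¹ * σ g) ∣ Nat.gcd (orderOf σ) (Nat.card G) :=
    Nat.dvd_gcd (orderOf_dvd_of_pow_eq_one h2) (orderOf_dvd_of_pow_eq_one h3)
  rw [Nat.Coprime] at hcop
  rw [hcop, Nat.dvd_one, orderOf_eq_one_iff] at h4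
  simp only [MulEquiv.coe_refl, id_eq]
  calc σ g = g * (g⁻¹ * σ g) := by group
    _ = g := by rw [h4, mul_one]

end Cfsg.Agent.S0552
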