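import Mathlib
import Cfsg.Statements.S0553
import Cfsg.Agent.Lib.Helper4.MinNormal
import Cfsg.Agent.Lib.Helper1.Hall

set_option autoImplicit false
open Cfsg

namespace Cfsg.Agent.S0553

open Cfsg.Agent.Lib.Helper4

universe u

theorem all_normal_of_normal {G : Type*} [Group G] [Finite G] {p : ℕ} [Fact p.Prime]
    (P₀ : Sylow p G) (h : (P₀ : Subgroup G).Normal) :
    ∀ P : Sylow p G, (P : Subgroup G).Normal := by
  intro P
  have := Sylow.unique_of_normal P₀ h
  have h2 : P = P₀ := Subsingleton.elim _ _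
  rw [h2]; exact h

theorem of_normal_pgroup {G : Type*} [Group G] [Finite G] {p : ℕ} (hp : p.Prime)
    (N : Subgroup G) (hNn : N.Normal) (hN : IsPGroup p N) (hne : N ≠ ⊥) (hidx : ¬ p ∣ N.index) :
    ∃ p : ℕ, p.Prime ∧ p ∣ Nat.card G ∧ ∀ P : Sylow p G, (P : Subgroup G).Normal := by
  have : Fact p.Prime := ⟨hp⟩
  refine ⟨p, hp, ?_, ?_⟩
  · obtain ⟨k, hk⟩ := (IsPGroup.iff_card).mp hN
    have hk0 : k ≠ 0 := by
      rintro rfl
      rw [pow_zero] at hk
      exact hne (Subgroup.card_eq_one.mp hk)
    have h1 : p ∣ Nat.card N := by rw [hk]; exact dvd_pow_self p hk0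
    exact h1.trans (Subgroup.card_subgroup_dvd_card N)
  · apply all_normal_of_normal (hN.toSylow hidx)
    rw [IsPGroup.toSylow_coe]
    exact hNn

theorem aux (n : ℕ) : ∀ (G : Type u) [Group G] [Finite G] [Group.IsSolvable G] [Nontrivial G],
    Nat.card G = n →
    (∀ M : Subgroup G, IsCoatom M → (Nat.card M).Coprime M.index) →
    ∃ p : ℕ, p.Prime ∧ p ∣ Nat.card G ∧ ∀ P : Sylow p G, (P : Subgroup G).Normal := by
  induction n using Nat.strong_induction_on with
  | _ n ih =>
  intro G _ _ _ _ hn h
  obtain ⟨N, hN⟩ := exists_minNormal (G := G)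
  obtain ⟨p, hp, hNp⟩ := hN.exists_isPGroup hN.le_centralizer
  have hNn : N.Normal := hN.1
  have hNne : N ≠ ⊥ := hN.2.1
  have : Fact p.Prime := ⟨hp⟩
  by_cases hNtop : N = ⊤
  · apply of_normal_pgroup hp N hNn hNp hNne
    rw [hNtop, Subgroup.index_top]
    exact hp.one_lt.ne' ∘ Nat.dvd_one.mp
  -- quotient is nontrivial
  have hquot_nt : Nontrivial (G ⧸ N) := by
    rw [← Finite.one_lt_card_iff_nontrivial, ← Subgroup.index_eq_card]
    exact Subgroup.one_lt_index_of_ne_top hNtop
  have hquot_lt : Nat.card (G ⧸ N) < n := by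
    rw [← hn, ← Subgroup.index_eq_card]
    have h1 := Subgroup.card_mul_index N
    have h2 : 1 < Nat.card N := by
      rw [Finite.one_lt_card_iff_nontrivial]
      exact (Subgroup.nontrivial_iff_ne_bot N).mpr hNne
    have h3 : 0 < N.index := Nat.pos_of_ne_zero Subgroup.index_ne_zero_of_finite
    nlinarith
  have hquot : ∀ M : Subgroup (G ⧸ N), IsCoatom M → (Nat.card M).Coprime M.index := by
    intro Mb hMb
    have hsurj : Function.Surjective (QuotientGroup.mk' N) := QuotientGroup.mk'_surjective N
    have hco : IsCoatom (Mb.comap (QuotientGroup.mk' N)) := by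
      refine ⟨?_, ?_⟩
      · intro htop
        apply hMb.1
        rw [← Subgroup.map_comap_eq_self_of_surjective hsurj Mb, htop,
          ← MonoidHom.range_eq_map, MonoidHom.range_eq_top.mpr hsurj]
      · intro K hK
        have hNK : N ≤ K := by
          refine le_trans ?_ hK.le
          intro x hx
          rw [Subgroup.mem_comap]
          have : (QuotientGroup.mk' N) x = 1 := by
            rw [QuotientGroup.mk'_apply, QuotientGroup.eq_one_iff]; exact hx
          rw [this]; exact Mb.one_mem
        have h1 : Mb < K.map (QuotientGroup.mk' N) := by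
          refine lt_of_le_of_ne ?_ ?_
          · rw [← Subgroup.map_comap_eq_self_of_surjective hsurj Mb]
            exact Subgroup.map_mono hK.le
          · intro heq
            apply hK.ne
            rw [heq, Subgroup.comap_map_eq_self]
            rw [QuotientGroup.ker_mk']; exact hNK
        have h2 := hMb.2 _ h1
        rw [← Subgroup.comap_map_eq_self (f := QuotientGroup.mk' N) (H := K)
          (by rw [QuotientGroup.ker_mk']; exact hNK), h2, Subgroup.comap_top]
    have h1 := h _ hco
    rw [Subgroup.index_comap_of_surjective _ hsurj] at h1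
    have h2 : Nat.card Mb ∣ Nat.card (Mb.comap (QuotientGroup.mk' N)) := by
      have := Cfsg.Agent.Lib.Helper1.card_comap_mk N Mb
      rw [this]
      exact Dvd.intro _ rfl
    exact Nat.Coprime.coprime_dvd_left h2 h1
  obtain ⟨q, hq, hqd, hqn⟩ := ih _ hquot_lt (G ⧸ N) rfl hquot
  have : Fact q.Prime := ⟨hq⟩
  obtain ⟨Q⟩ : Nonempty (Sylow q G) := inferInstance
  have hsurj : Function.Surjective (QuotientGroup.mk' N) := QuotientGroup.mk'_surjective N
  have hQb : ((Q : Subgroup G).map (QuotientGroup.mk' N)).Normal := by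
    have := hqn (Q.mapSurjective hsurj)
    rwa [Sylow.coe_mapSurjective] at this
  have hKn : ((Q : Subgroup G) ⊔ N).Normal := by
    have h1 : (((Q : Subgroup G).map (QuotientGroup.mk' N)).comap (QuotientGroup.mk' N)).Normal :=
      hQb.comap _
    rw [Subgroup.comap_map_eq, QuotientGroup.ker_mk'] at h1
    exact h1
  have hqG : q ∣ Nat.card G := by
    refine hqd.trans ?_
    rw [← Subgroup.index_eq_card]
    exact Subgroup.index_dvd_card N
  by_cases hqp : q = p
  · subst hqp
    have h1 : IsPGroup q ((Q : Subgroup G) ⊔ N : Subgroup G) :=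
      IsPGroup.to_sup_of_normal_right Q.2 hNp
    have h2 : (Q : Subgroup G) ⊔ N = Q := Q.3 h1 le_sup_left
    rw [h2] at hKn
    exact ⟨q, hq, hqG, all_normal_of_normal Q hKn⟩
  · -- Frattini
    have hfr : Subgroup.normalizer ((Q : Subgroup G) : Set G) ⊔ ((Q : Subgroup G) ⊔ N) = ⊤ :=
      Sylow.normalizer_sup_eq_top' Q le_sup_left
    have hfr2 : Subgroup.normalizer ((Q : Subgroup G) : Set G) ⊔ N = ⊤ := by
      rw [← hfr, ← sup_assoc, sup_eq_left.mpr (Subgroup.le_normalizer (H := (Q : Subgroup G)))]
    by_cases hnorm : Subgroup.normalizer ((Q : Subgroup G) : Set G) = ⊤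
    · exact ⟨q, hq, hqG, all_normal_of_normal Q (Subgroup.normalizer_eq_top_iff.mp hnorm)⟩
    · obtain ⟨M, hM, hle⟩ := (eq_top_or_exists_le_coatom _).resolve_left hnorm
      have hMN : M ⊔ N = ⊤ := by
        rw [eq_top_iff, ← hfr2]
        exact sup_le_sup_right hle N
      have hcop := h M hM
      have hcard := Cfsg.Agent.Lib.Helper1.card_sup_mul_card_inf M N
      rw [hMN, Subgroup.card_top] at hcard
      have hMi := Subgroup.card_mul_index M
      have hNi := Subgroup.card_mul_index N
      have hMpos : 0 < Nat.card M := Nat.card_pos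
      have hNpos : 0 < Nat.card N := Nat.card_pos
      -- index M * |M ⊓ N| = |N|
      have e1 : M.index * Nat.card (M ⊓ N : Subgroup G) = Nat.card N := by
        apply Nat.eq_of_mul_eq_mul_left hMpos
        rw [← mul_assoc, hMi, hcard]
      have e2 : N.index * Nat.card (M ⊓ N : Subgroup G) = Nat.card M := by
        apply Nat.eq_of_mul_eq_mul_left hNpos
        rw [← mul_assoc, hNi, hcard, mul_comm]
      obtain ⟨k, hk⟩ := (IsPGroup.iff_card).mp hNp
      have hidx_dvd : M.index ∣ p ^ k := by rw [← hk, ← e1]; exact Dvd.intro _ rfl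
      obtain ⟨j, hj, hjeq⟩ := (Nat.dvd_prime_pow hp).mp hidx_dvd
      have hj0 : j ≠ 0 := by
        rintro rfl
        rw [pow_zero] at hjeq
        exact hM.1 (Subgroup.index_eq_one.mp hjeq)
      have hpM : ¬ p ∣ Nat.card M := by
        intro hd
        rw [hjeq] at hcop
        have : p ∣ Nat.gcd (Nat.card M) (p ^ j) := Nat.dvd_gcd hd (dvd_pow_self p hj0)
        rw [hcop] at this
        exact hp.one_lt.ne' (Nat.dvd_one.mp this)
      apply of_normal_pgroup hp N hNn hNp hNne
      intro hd
      apply hpM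
      rw [← e2]
      exact Dvd.dvd.mul_right hd _

theorem result {G : Type*} [Group G] [Finite G] [Group.IsSolvable G] [Nontrivial G] (h : ∀ M : Subgroup G, IsCoatom M → (Nat.card M).Coprime M.index) : ∃ p : ℕ, p.Prime ∧ p ∣ Nat.card G ∧ ∀ P : Sylow p G, (P : Subgroup G).Normal :=
  aux _ G rfl h

end Cfsg.Agent.S0553
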