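import Cfsg.Statements.S0554
import Cfsg.Agent.Lib.Helper4.MinNormal
import Mathlib

set_option autoImplicit false
open Cfsg
open scoped Pointwise

namespace Cfsg.Agent.S0554

open Cfsg.Agent.Lib.Helper4

universe u

theorem normal_mul_comm {G : Type*} [Group G] (N : Subgroup G) [hN : N.Normal] (R : Set G) :
    R * (N : Set G) = (N : Set G) * R := by
  ext x
  constructor
  · rintro ⟨r, hr, n, hn, rfl⟩
    exact ⟨r * n * r⁻¹, hN.conj_mem n hn r, r, hr, by group⟩
  · rintro ⟨n, hn, r, hr, rfl⟩
    refine ⟨r, hr, r⁻¹ * n * r, ?_, by group⟩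
    have := hN.conj_mem n hn r⁻¹
    rwa [inv_inv] at this

theorem mul_eq_self_of_le {G : Type*} [Group G] {N X : Subgroup G} (h : N ≤ X) :
    (X : Set G) * (N : Set G) = (X : Set G) := by
  ext x
  constructor
  · rintro ⟨a, ha, n, hn, rfl⟩
    exact X.mul_mem ha (h hn)
  · intro hx
    exact ⟨x, hx, 1, N.one_mem, mul_one x⟩

/-- absorb a normal subgroup contained in one of the factors -/
theorem absorb {G : Type*} [Group G] (N : Subgroup G) [N.Normal] :
    ∀ (t : ℕ) (X : Fin t → Subgroup G) (j : Fin t), N ≤ X j →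
      (List.ofFn (fun i => (X i : Set G))).prod * (N : Set G) =
        (List.ofFn (fun i => (X i : Set G))).prod := by
  intro t
  induction t with
  | zero => intro X j; exact j.elim0
  | succ t ih =>
    intro X j hj
    rw [List.ofFn_succ, List.prod_cons, mul_assoc]
    refine Fin.cases ?_ (fun j' => ?_) j hj
    · intro h0
      rw [normal_mul_comm N, ← mul_assoc, mul_eq_self_of_le h0]
    · intro hj'
      rw [ih (fun i => X i.succ) j' hj']

theorem main (n : ℕ) : ∀ (G : Type u) [Group G] [Finite G] [Group.IsSolvable G], Nat.card G = n →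
    ∀ (t : ℕ) (p : Fin t → ℕ) (_ : ∀ i, (p i).Prime)
      (_ : ∀ q : ℕ, q.Prime → q ∣ Nat.card G → ∃ i, p i = q) (S : (i : Fin t) → Sylow (p i) G),
      (List.ofFn (fun i => ((S i : Subgroup G) : Set G))).prod = Set.univ := by
  induction n using Nat.strong_induction_on with
  | _ n ih =>
    intro G _ _ _ hcard t p hp hall S
    rcases subsingleton_or_nontrivial G with hs | hnt
    · rw [Set.eq_univ_iff_forall]
      intro x
      rw [Subsingleton.elim x 1, Set.mem_prod_list_ofFn]
      refine ⟨fun i => ⟨1, (S i : Subgroup G).one_mem⟩, ?_⟩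
      exact Subsingleton.elim _ _
    · obtain ⟨N, hN⟩ := exists_minNormal (G := G)
      obtain ⟨q, hq, hNq⟩ := hN.exists_isPGroup hN.le_centralizer
      have hNn : N.Normal := hN.1
      have hqd : q ∣ Nat.card G := by
        have : Fact q.Prime := ⟨hq⟩
        rcases hNq.card_eq_or_dvd with h | h
        · exfalso
          exact hN.2.1 (Subgroup.card_eq_one.mp h)
        · exact h.trans (Subgroup.card_subgroup_dvd_card N)
      obtain ⟨j, rfl⟩ := hall q hq hqd
      have : ∀ i, Fact (p i).Prime := fun i => ⟨hp i⟩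
      have hNS : N ≤ (S j : Subgroup G) := hNq.le_sylow_of_normal (S j)
      set π := QuotientGroup.mk' N with hπ
      have hsurj : Function.Surjective π := QuotientGroup.mk'_surjective N
      have hlt : Nat.card (G ⧸ N) < n := by
        rw [← hcard, Subgroup.card_eq_card_quotient_mul_card_subgroup N]
        have h0 : 0 < Nat.card (G ⧸ N) := Nat.card_pos
        have h1 : 1 < Nat.card N := by
          rw [Subgroup.one_lt_card_iff_ne_bot]; exact hN.2.1
        nlinarith
      have hallq : ∀ r : ℕ, r.Prime → r ∣ Nat.card (G ⧸ N) → ∃ i, p i = r := fun r hr hrd =>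
        hall r hr (hrd.trans (Subgroup.card_quotient_dvd_card N))
      have key := ih _ hlt (G ⧸ N) rfl t p hp hallq (fun i => (S i).mapSurjective hsurj)
      rw [Set.eq_univ_iff_forall]
      intro g
      have hg : π g ∈ (List.ofFn (fun i =>
          ((((S i).mapSurjective hsurj : Sylow (p i) (G ⧸ N)) : Subgroup (G ⧸ N)) :
            Set (G ⧸ N)))).prod := by
        rw [key]; exact Set.mem_univ _
      have himg : (List.ofFn (fun i =>
          ((((S i).mapSurjective hsurj : Sylow (p i) (G ⧸ N)) : Subgroup (G ⧸ N)) :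
            Set (G ⧸ N)))).prod =
          (π : G → G ⧸ N) '' (List.ofFn (fun i => ((S i : Subgroup G) : Set G))).prod := by
        rw [Set.image_list_prod, List.map_ofFn]
        congr 1
      rw [himg] at hg
      obtain ⟨x, hx, hxg⟩ := hg
      rw [← absorb N t (fun i => (S i : Subgroup G)) j hNS]
      have hmem : x⁻¹ * g ∈ N := by
        rw [← QuotientGroup.ker_mk' N, MonoidHom.mem_ker, map_mul, map_inv, ← hπ, hxg]
        exact inv_mul_cancel _
      exact ⟨x, hx, x⁻¹ * g, hmem, by group⟩

/-- Let G be a finite solvable group and let S assign to each of t distinct primes, including every prime divisor of the order of G, a Sylow subgroup of G. Then every element of G is a product s_0 s_1 ⋯ s_(t-1) with s_i in S i, the factors taken in the given order. -/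
theorem result {G : Type*} [Group G] [Finite G] [Group.IsSolvable G] (t : ℕ) (p : Fin t → ℕ) (hp : ∀ i, (p i).Prime) (hinj : Function.Injective p) (hall : ∀ q : ℕ, q.Prime → q ∣ Nat.card G → ∃ i, p i = q) (S : (i : Fin t) → Sylow (p i) G) : ∀ g : G, ∃ s : (i : Fin t) → G, (∀ i, s i ∈ (S i : Subgroup G)) ∧ g = (List.ofFn s).prod := by
  intro g
  have h := main _ G rfl t p hp hall S
  have hg : g ∈ (List.ofFn (fun i => ((S i : Subgroup G) : Set G))).prod := by
    rw [h]; exact Set.mem_univ _
  rw [Set.mem_prod_list_ofFn] at hg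
  obtain ⟨f, hf⟩ := hg
  exact ⟨fun i => (f i : G), fun i => (f i).2, hf.symm⟩

end Cfsg.Agent.S0554
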