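import Cfsg.Statements.S0555
import Mathlib

set_option autoImplicit false
open Cfsg
open scoped commutatorElement

namespace Cfsg.Agent.S0555

/-- a cyclic normal subgroup is centralised by the commutator subgroup -/
theorem commutator_le_centralizer_of_cyclic_normal {X : Type*} [Group X] (A : Subgroup X)
    [hn : A.Normal] [hA : IsCyclic A] : commutator X ≤ Subgroup.centralizer (A : Set X) := by
  let _ := (hA.mulAutMulEquiv _).toMonoidHom.commGroupOfInjective (hA.mulAutMulEquiv _).injective
  have h := Abelianization.commutator_subset_ker A.normalizerMonoidHom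
  intro x hx
  have hxN : x ∈ Subgroup.normalizer (A : Set X) := by
    rw [Subgroup.normalizer_eq_top]; exact Subgroup.mem_top x
  -- x is a product of commutators of elements of the normalizer (= everything)
  have hx' : (⟨x, hxN⟩ : Subgroup.normalizer (A : Set X)) ∈ commutator (Subgroup.normalizer (A : Set X)) := by
    have hmap : (commutator (Subgroup.normalizer (A : Set X))).map (Subgroup.normalizer (A : Set X)).subtype =
        commutator X := by
      rw [commutator_def, Subgroup.map_commutator, ← MonoidHom.range_eq_map, Subgroup.range_subtype,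
        Subgroup.normalizer_eq_top, commutator_def]
    rw [← hmap] at hx
    obtain ⟨y, hy, hyx⟩ := hx
    have : y = ⟨x, hxN⟩ := Subtype.ext hyx
    rw [← this]; exact hy
  have := h hx'
  rw [Subgroup.normalizerMonoidHom_ker, Subgroup.mem_subgroupOf] at this
  exact this

/-- the image of a subgroup in a quotient is a quotient of the subgroup modulo the kernel part -/
theorem isCyclic_map_of_isCyclic_quotient {G : Type*} [Group G] (B A : Subgroup G) [B.Normal]
    (h : IsCyclic (↥A ⧸ B.subgroupOf A)) : IsCyclic ↥(A.map (QuotientGroup.mk' B)) := by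
  let f : A →* A.map (QuotientGroup.mk' B) := (QuotientGroup.mk' B).subgroupMap A
  have hf : Function.Surjective f := (QuotientGroup.mk' B).subgroupMap_surjective A
  have hker : B.subgroupOf A ≤ f.ker := by
    intro x hx
    rw [MonoidHom.mem_ker]
    apply Subtype.ext
    simp only [f, MonoidHom.subgroupMap_apply_coe, Subgroup.coe_one]
    rw [QuotientGroup.mk'_apply, QuotientGroup.eq_one_iff]
    exact Subgroup.mem_subgroupOf.mp hx
  let g : ↥A ⧸ B.subgroupOf A →* A.map (QuotientGroup.mk' B) := QuotientGroup.lift _ f hker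
  have hg : Function.Surjective g := by
    intro y
    obtain ⟨x, rfl⟩ := hf y
    exact ⟨QuotientGroup.mk x, by simp [g]⟩
  exact isCyclic_of_surjective g hg

/-- unpacking cyclicity of `K ⧸ A` -/
theorem exists_gen_of_isCyclic_quotient {G : Type*} [Group G] (K A : Subgroup G)
    [(A.subgroupOf K).Normal] (h : IsCyclic (↥K ⧸ A.subgroupOf K)) :
    ∃ k ∈ K, ∀ x ∈ K, ∃ n : ℤ, ∃ a ∈ A, x = k ^ n * a := by
  obtain ⟨g, hg⟩ := h
  obtain ⟨k, rfl⟩ := QuotientGroup.mk_surjective g
  refine ⟨k, k.2, fun x hx => ?_⟩
  obtain ⟨n, hn⟩ := hg (QuotientGroup.mk ⟨x, hx⟩)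
  refine ⟨n, (k : G) ^ (-n) * x, ?_, by group⟩
  have h1 : ((k ^ n : K) : ↥K ⧸ A.subgroupOf K) = ((⟨x, hx⟩ : K) : ↥K ⧸ A.subgroupOf K) := by
    rw [← hn]; rfl
  rw [QuotientGroup.eq] at h1
  rw [Subgroup.mem_subgroupOf] at h1
  simpa [zpow_neg] using h1

/-- Let i ≥ 1. If in the derived series of a group the quotient of the i-th term by the (i+1)-st and the quotient of the (i+1)-st by the (i+2)-nd are both cyclic, then the (i+1)-st and (i+2)-nd terms coincide. -/
theorem result {G : Type*} [Group G] (i : ℕ) (hi : 1 ≤ i) (h₁ : IsCyclic (↥(derivedSeries G i) ⧸ (derivedSeries G (i + 1)).subgroupOf (derivedSeries G i))) (h₂ : IsCyclic (↥(derivedSeries G (i + 1)) ⧸ (derivedSeries G (i + 2)).subgroupOf (derivedSeries G (i + 1)))) : derivedSeries G (i + 1) = derivedSeries G (i + 2) := by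
  apply le_antisymm _ ((derivedSeries_antitone G) (Nat.le_succ (i + 1)))
  set B := derivedSeries G (i + 2) with hB
  set A := derivedSeries G (i + 1) with hA
  set K := derivedSeries G i with hK
  have hsurj : Function.Surjective (QuotientGroup.mk' B) := QuotientGroup.mk'_surjective B
  -- Ā is cyclic and normal
  have hAcyc : IsCyclic ↥(A.map (QuotientGroup.mk' B)) := isCyclic_map_of_isCyclic_quotient B _ h₂
  have hAn : (A.map (QuotientGroup.mk' B)).Normal := Subgroup.Normal.map inferInstance _ hsurj
  have hcent := commutator_le_centralizer_of_cyclic_normal (A.map (QuotientGroup.mk' B))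
  -- K ≤ commutator G
  have hKc : K ≤ commutator G := by
    have : derivedSeries G 1 = commutator G := by
      rw [derivedSeries_succ, derivedSeries_zero, commutator_def]
    rw [← this]
    exact (derivedSeries_antitone G) hi
  have hKc' : ∀ x ∈ K, (QuotientGroup.mk' B x) ∈ commutator (G ⧸ B) := by
    intro x hx
    have h1 : QuotientGroup.mk' B x ∈ (commutator G).map (QuotientGroup.mk' B) :=
      Subgroup.mem_map_of_mem _ (hKc hx)
    rw [commutator_def, Subgroup.map_commutator] at h1
    rw [commutator_def]
    exact Subgroup.commutator_mono le_top le_top h1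
  have hAK : A ≤ K := (derivedSeries_antitone G) (Nat.le_succ i)
  -- elements of π(K) commute with elements of π(A)
  have hcomm : ∀ x ∈ K, ∀ a ∈ A, Commute (QuotientGroup.mk' B x) (QuotientGroup.mk' B a) := by
    intro x hx a ha
    have := hcent (hKc' x hx)
    rw [Subgroup.mem_centralizer_iff] at this
    exact (this _ (Subgroup.mem_map_of_mem _ ha)).symm
  obtain ⟨k, hk, hgen⟩ := exists_gen_of_isCyclic_quotient K A h₁
  have hkey : ∀ x ∈ K, ∀ y ∈ K, ⁅x, y⁆ ∈ B := by
    intro x hx y hy
    obtain ⟨n, a, ha, rfl⟩ := hgen x hx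
    obtain ⟨m, a', ha', rfl⟩ := hgen y hy
    rw [← QuotientGroup.ker_mk' B, MonoidHom.mem_ker, map_commutatorElement, commutatorElement_eq_one_iff_commute]
    simp only [map_mul, map_zpow]
    have hkn : ∀ j : ℤ, k ^ j ∈ K := fun j => Subgroup.zpow_mem _ hk j
    have e1 := hcomm (k ^ n) (hkn n) a' ha'
    have e2 := hcomm (k ^ m) (hkn m) a ha
    have e3 := hcomm a (hAK ha) a' ha'
    simp only [map_zpow] at e1 e2
    refine Commute.mul_left (Commute.mul_right (Commute.zpow_zpow_self _ _ _) e1) (Commute.mul_right e2.symm e3)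
  have : A = ⁅K, K⁆ := by
    rw [hA, hK, derivedSeries_succ]
  rw [this, Subgroup.commutator_le]
  exact hkey

end Cfsg.Agent.S0555
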