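import Mathlib
import Cfsg.Statements.S0556
import Cfsg.Agent.Lib.Helper1.Basic
import Cfsg.Agent.Lib.Helper1.Hall
import Cfsg.Agent.Lib.Helper1.CoprimeSylow

set_option autoImplicit false
open Cfsg

namespace Cfsg.Agent.S0556

open Pointwise
open Cfsg.Agent.Lib.Helper1

open scoped IsMulCommutative in
/-- transfer into an abelian Hall subgroup controlling its own fusion gives a normal complement -/
theorem exists_normal_complement {G : Type*} [Group G] [Finite G] (A : Subgroup G)
    [IsMulCommutative A]
    (hkey : ∀ a ∈ A, ∀ (k : ℕ) (g₀ : G), g₀⁻¹ * a ^ k * g₀ ∈ A → g₀⁻¹ * a ^ k * g₀ = a ^ k)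
    (hcop : (Nat.card A).Coprime A.index) :
    ∃ K : Subgroup G, K.Normal ∧ K.IsComplement' A ∧ commutator G ≤ K := by
  set V : G →* A := MonoidHom.transfer (MonoidHom.id A) with hV
  have hVa : ∀ a : A, V a = a ^ A.index := by
    intro a
    have := MonoidHom.transfer_eq_pow (MonoidHom.id A) (a : G) (hkey a a.2)
    rw [hV, this]
    apply Subtype.ext
    simp
  have hf : Function.Bijective (V.domRestrict A) := by
    have : ⇑(V.domRestrict A) = ⇑(powCoprime hcop) := by
      funext a
      exact hVa a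
    rw [this]
    exact (powCoprime hcop).bijective
  refine ⟨V.ker, inferInstance, ?_, Abelianization.commutator_subset_ker V⟩
  rw [Function.Bijective, ← MonoidHom.range_eq_top, MonoidHom.domRestrict_range] at hf
  have := MonoidHom.range_eq_top.mp (top_le_iff.mp (hf.2.ge.trans
    (Subgroup.map_le_range V A)))
  rw [← (Subgroup.comap_injective this).eq_iff, Subgroup.comap_top, Subgroup.comap_map_eq,
    sup_comm, SetLike.ext'_iff,
    Subgroup.normal_mul, ← MonoidHom.ker_eq_bot_iff,
    ← (Subgroup.map_injective (A : Subgroup G).subtype_injective).eq_iff,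
    MonoidHom.ker_domRestrict, Subgroup.subgroupOf_map_subtype, Subgroup.map_bot,
    Subgroup.coe_top] at hf
  exact Subgroup.isComplement'_of_disjoint_and_mul_eq_univ (disjoint_iff.2 hf.1) hf.2


/-- a normal coatom contains the commutator subgroup -/
theorem commutator_le_of_normal_coatom {G : Type*} [Group G] (A : Subgroup G) (hA : IsCoatom A)
    (hn : A.Normal) : commutator G ≤ A := by
  -- pick `x ∉ A`
  have hex : ∃ x : G, x ∉ A := by
    by_contra hcon
    push Not at hcon
    exact hA.1 (eq_top_iff.mpr fun x _ => hcon x)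
  obtain ⟨x, hx⟩ := hex
  have hsup : A ⊔ Subgroup.zpowers x = ⊤ := by
    apply hA.2
    refine lt_of_le_of_ne le_sup_left ?_
    intro heq
    apply hx
    rw [heq]
    exact (le_sup_right : Subgroup.zpowers x ≤ A ⊔ Subgroup.zpowers x) (Subgroup.mem_zpowers x)
  have hz : Subgroup.zpowers ((QuotientGroup.mk' A) x) = ⊤ := by
    have h1 : (A ⊔ Subgroup.zpowers x).map (QuotientGroup.mk' A) = ⊤ := by
      rw [hsup, ← MonoidHom.range_eq_map, MonoidHom.range_eq_top]
      exact QuotientGroup.mk'_surjective A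
    rw [Subgroup.map_sup, MonoidHom.map_zpowers, QuotientGroup.map_mk'_self, bot_sup_eq] at h1
    exact h1
  rw [commutator_def, Subgroup.commutator_le]
  intro a _ b _
  rw [← QuotientGroup.eq_one_iff, ← QuotientGroup.mk'_apply, map_commutatorElement]
  have ha : (QuotientGroup.mk' A) a ∈ Subgroup.zpowers ((QuotientGroup.mk' A) x) := by
    rw [hz]; exact Subgroup.mem_top _
  have hb : (QuotientGroup.mk' A) b ∈ Subgroup.zpowers ((QuotientGroup.mk' A) x) := by
    rw [hz]; exact Subgroup.mem_top _
  obtain ⟨i, hi⟩ := Subgroup.mem_zpowers_iff.mp ha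
  obtain ⟨j, hj⟩ := Subgroup.mem_zpowers_iff.mp hb
  rw [commutatorElement_eq_one_iff_commute, ← hi, ← hj]
  exact (Commute.refl _).zpow_zpow i j

theorem derivedSeries_two_le {G : Type*} [Group G] (K : Subgroup G) (hK : commutator G ≤ K) :
    derivedSeries G 2 ≤ ⁅K, K⁆ := by
  have h1 : derivedSeries G 1 = commutator G := by
    rw [derivedSeries_succ, derivedSeries_zero, commutator_def]
  rw [derivedSeries_succ, h1]
  exact Subgroup.commutator_mono hK hK

theorem commutator_eq_bot_of_comm {G : Type*} [Group G] (A : Subgroup G) [IsMulCommutative A] :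
    ⁅A, A⁆ = ⊥ := by
  rw [Subgroup.commutator_eq_bot_iff_le_centralizer]
  intro x hx
  rw [Subgroup.mem_centralizer_iff]
  intro y hy
  have := mul_comm' (⟨y, hy⟩ : A) ⟨x, hx⟩
  exact congrArg Subtype.val this

/-- the normal case -/
theorem of_normal {G : Type*} [Group G] (A : Subgroup G) (hA : IsCoatom A) [IsMulCommutative A]
    (hn : A.Normal) : derivedSeries G 2 = ⊥ := by
  rw [eq_bot_iff, ← commutator_eq_bot_of_comm A]
  exact derivedSeries_two_le A (commutator_le_of_normal_coatom A hA hn)


universe u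

/-- for a TI subgroup `A`, the index is `≡ 1` modulo every prime dividing `|A|` -/
theorem index_modEq_one {G : Type*} [Group G] [Finite G] (A : Subgroup G)
    (hTI : ∀ g : G, g ∉ A → A ⊓ MulAut.conj g • A = ⊥) (p : ℕ) (hp : p.Prime)
    (hpd : p ∣ Nat.card A) : A.index ≡ 1 [MOD p] := by
  have : Fact p.Prime := ⟨hp⟩
  obtain ⟨a, ha⟩ := exists_prime_orderOf_dvd_card' (G := A) p hpd
  have hao : orderOf (a : G) = p := by rw [Subgroup.orderOf_coe]; exact ha
  have hR : IsPGroup p (Subgroup.zpowers (a : G)) :=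
    IsPGroup.of_card (n := 1) (by rw [Nat.card_zpowers, hao, pow_one])
  have h1 := hR.card_modEq_card_fixedPoints (G ⧸ A)
  have hfix : MulAction.fixedPoints (Subgroup.zpowers (a : G)) (G ⧸ A) =
      {((1 : G) : G ⧸ A)} := by
    ext q
    constructor
    · intro hq
      induction q using QuotientGroup.induction_on with
      | H h =>
      rw [Set.mem_singleton_iff]
      have h2 := hq ⟨(a : G), Subgroup.mem_zpowers _⟩
      have h3 : (((a : G) * h : G) : G ⧸ A) = (h : G ⧸ A) := h2
      rw [QuotientGroup.eq] at h3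
      by_contra hne
      have hhA : h ∉ A := by
        intro hh
        apply hne
        rw [QuotientGroup.eq]
        simpa using A.inv_mem hh
      have h4 := hTI h hhA
      have h5 : (a : G) ∈ A ⊓ MulAut.conj h • A := by
        refine Subgroup.mem_inf.mpr ⟨a.2, ?_⟩
        rw [mem_conj_smul]
        have : h⁻¹ * (a : G) * h = (((a : G) * h)⁻¹ * h)⁻¹ := by group
        rw [this]; exact A.inv_mem h3
      rw [h4, Subgroup.mem_bot] at h5
      rw [h5, orderOf_one] at hao
      exact hp.one_lt.ne hao
    · intro hq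
      rw [Set.mem_singleton_iff] at hq
      subst hq
      intro x
      have hxA : (x : G) ∈ A := (Subgroup.zpowers_le.mpr a.2) x.2
      show (((x : G) * 1 : G) : G ⧸ A) = ((1 : G) : G ⧸ A)
      rw [QuotientGroup.eq]
      simpa using A.inv_mem hxA
  rw [hfix] at h1
  rw [Subgroup.index_eq_card]
  simpa using h1


/-- an abelian TI coatom forces derived length at most 2 -/
theorem frob {G : Type u} [Group G] [Finite G] (A : Subgroup G) (hA : IsCoatom A)
    [IsMulCommutative A] (hTI : ∀ g : G, g ∉ A → A ⊓ MulAut.conj g • A = ⊥) :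
    derivedSeries G 2 = ⊥ := by
  by_cases hn : A.Normal
  · exact of_normal A hA hn
  have hcomm : ∀ x ∈ A, ∀ y ∈ A, x * y = y * x := by
    intro x hx y hy
    exact congrArg Subtype.val (mul_comm' (⟨x, hx⟩ : A) ⟨y, hy⟩)
  -- Hall
  have hcop : (Nat.card A).Coprime A.index := by
    apply Nat.coprime_of_dvd'
    intro p hp hpA hpi
    have h1 := index_modEq_one A hTI p hp hpA
    have h2 : A.index ≡ 0 [MOD p] := (Nat.modEq_zero_iff_dvd).mpr hpi
    have h3 : 1 ≡ 0 [MOD p] := h1.symm.trans h2
    exact (Nat.modEq_zero_iff_dvd).mp h3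
  -- fusion control
  have hkey : ∀ a ∈ A, ∀ (k : ℕ) (g₀ : G), g₀⁻¹ * a ^ k * g₀ ∈ A →
      g₀⁻¹ * a ^ k * g₀ = a ^ k := by
    intro a ha k g₀ hmem
    have hak : a ^ k ∈ A := A.pow_mem ha k
    by_cases hg : g₀ ∈ A
    · rw [mul_assoc, hcomm _ hak _ hg, inv_mul_cancel_left]
    · have h1 : a ^ k ∈ A ⊓ MulAut.conj g₀ • A := by
        refine Subgroup.mem_inf.mpr ⟨hak, ?_⟩
        rw [mem_conj_smul]; exact hmem
      rw [hTI g₀ hg, Subgroup.mem_bot] at h1
      rw [h1]; group
  obtain ⟨K, hKn, hKc, hKcomm⟩ := exists_normal_complement A hkey hcop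
  have hKA : K ⊓ A = ⊥ := hKc.disjoint.eq_bot
  have hcard : Nat.card K * Nat.card A = Nat.card G := hKc.card_mul_card
  rw [eq_bot_iff]
  refine le_trans (derivedSeries_two_le K hKcomm) ?_
  rw [← eq_bot_iff]
  by_cases hKbot : K = ⊥
  · rw [hKbot, eq_bot_iff, Subgroup.commutator_le]
    intro a ha b hb
    rw [Subgroup.mem_bot] at ha hb ⊢
    rw [ha, hb]; simp
  -- minimality of `K`
  have hmin : ∀ L : Subgroup G, L.Normal → L ≤ K → L ≠ ⊥ → L = K := by
    intro L hLn hLK hLbot
    have hLA : A ⊓ L = ⊥ := by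
      rw [eq_bot_iff, ← hKA, inf_comm]
      exact inf_le_inf_right _ hLK
    have hsup : A ⊔ L = ⊤ := by
      apply hA.2
      refine lt_of_le_of_ne le_sup_left ?_
      intro heq
      apply hLbot
      rw [eq_bot_iff, ← hLA]
      exact le_inf (by rw [heq]; exact le_sup_right) le_rfl
    have h1 := card_sup_mul_card_inf A L
    rw [hsup, hLA, Subgroup.card_top, Subgroup.card_bot, mul_one, ← hcard, mul_comm] at h1
    have hApos : 0 < Nat.card A := Nat.card_pos
    have h2 : Nat.card K = Nat.card L := Nat.eq_of_mul_eq_mul_left hApos h1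
    exact Subgroup.eq_of_le_of_card_ge hLK h2.le
  -- `K` is an `r`-group
  have hKcard : Nat.card K ≠ 1 := fun h => hKbot (Subgroup.card_eq_one.mp h)
  obtain ⟨r, hr, hrK⟩ := Nat.exists_prime_and_dvd hKcard
  have : Fact r.Prime := ⟨hr⟩
  have hidx : A.index = Nat.card K := by
    have h1 := Subgroup.card_mul_index A
    rw [← hcard, mul_comm] at h1
    exact Nat.eq_of_mul_eq_mul_right Nat.card_pos h1
  have hact : CoprimeAct A K :=
    ⟨by rw [Subgroup.normalizer_eq_top_iff.mpr hKn]; exact le_top, by rw [← hidx]; exact hcop,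
      Or.inl (Group.isSolvable_of_comm (fun a b => mul_comm' a b))⟩
  obtain ⟨R, hR⟩ := hact.exists_invariant_sylSet r
  have hRK : R.1 ≤ K := R.2.1
  have hRcard := R.2.2
  have hRbot : R.1 ≠ ⊥ := by
    intro hb
    rw [hb, Subgroup.card_bot] at hRcard
    have hpos : 0 < (Nat.card K).factorization r :=
      Nat.Prime.factorization_pos_of_dvd hr Nat.card_pos.ne' hrK
    have : 1 < r ^ (Nat.card K).factorization r := Nat.one_lt_pow hpos.ne' hr.one_lt
    omega
  have hRn : R.1.Normal := by
    rw [← Subgroup.normalizer_eq_top_iff]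
    apply hA.2
    refine lt_of_le_of_ne hR ?_
    intro heq
    -- then `R ≤ N(R) = A`, but `R ≤ K`
    apply hRbot
    rw [eq_bot_iff, ← hKA]
    exact le_inf hRK (by rw [heq]; exact Subgroup.le_normalizer)
  have hReq : R.1 = K := hmin R.1 hRn hRK hRbot
  have hKp : IsPGroup r K := by
    rw [← hReq]
    exact IsPGroup.of_card hRcard
  -- `K` abelian
  have hcn : (⁅K, K⁆ : Subgroup G).Normal := Subgroup.commutator_normal K K
  by_contra hne
  have heq : ⁅K, K⁆ = K := hmin _ hcn (Subgroup.commutator_le_left K K) hne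
  have hnil : Group.IsNilpotent K := hKp.isNilpotent
  have hsol : Group.IsSolvable K := inferInstance
  have hnt : Nontrivial K := (Subgroup.nontrivial_iff_ne_bot K).mpr hKbot
  have hlt : commutator K < ⊤ := Group.IsSolvable.commutator_lt_top_of_nontrivial K
  have hmap : (commutator K).map K.subtype = ⁅K, K⁆ := by
    rw [commutator_def, Subgroup.map_commutator, ← MonoidHom.range_eq_map, Subgroup.range_subtype]
  have h1 : Nat.card (commutator K) < Nat.card K := by
    have := card_lt_of_lt hlt
    rwa [Subgroup.card_top] at this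
  have h2 : Nat.card ((commutator K).map K.subtype) = Nat.card (commutator K) :=
    (Nat.card_congr ((commutator K).equivMapOfInjective _ K.subtype_injective).toEquiv).symm
  rw [hmap, heq] at h2
  omega


theorem conj_smul_eq_self_iff' {G : Type*} [Group G] (g : G) (X : Subgroup G) :
    MulAut.conj g • X = X ↔ g ∈ Subgroup.normalizer (X : Set G) := by
  rw [Subgroup.mem_normalizer_iff_map_conj_eq]; rfl

/-- If a finite group has a maximal subgroup that is abelian, then the third term of its derived series is trivial (so the group is solvable of derived length at most three). -/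
theorem result {G : Type*} [Group G] [Finite G] (A : Subgroup G) (hA : IsCoatom A) [IsMulCommutative A] : derivedSeries G 3 = ⊥ := by
  by_cases hn : A.Normal
  · have h2 := of_normal A hA hn
    rw [derivedSeries_succ, h2, eq_bot_iff, Subgroup.commutator_le]
    intro a ha b hb
    rw [Subgroup.mem_bot] at ha hb ⊢
    rw [ha, hb]; simp
  have hcomm : ∀ x ∈ A, ∀ y ∈ A, x * y = y * x := by
    intro x hx y hy
    exact congrArg Subtype.val (mul_comm' (⟨x, hx⟩ : A) ⟨y, hy⟩)
  have hNA : Subgroup.normalizer (A : Set G) = A := by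
    by_contra hne
    apply hn
    rw [← Subgroup.normalizer_eq_top_iff]
    exact hA.2 _ (lt_of_le_of_ne Subgroup.le_normalizer (Ne.symm hne))
  set Z := Subgroup.center G with hZ
  have hZA : Z ≤ A := by
    have h1 : Z ≤ Subgroup.normalizer (A : Set G) := Subgroup.center_le_normalizer _
    rwa [hNA] at h1
  have hconj_ne : ∀ g : G, g ∉ A → ¬ MulAut.conj g • A ≤ A := by
    intro g hg hle
    apply hg
    have heq : MulAut.conj g • A = A :=
      Subgroup.eq_of_le_of_card_ge hle (by rw [card_conj_smul])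
    rw [conj_smul_eq_self_iff', hNA] at heq
    exact heq
  have hTI0 : ∀ g : G, g ∉ A → A ⊓ MulAut.conj g • A ≤ Z := by
    intro g hg x hx
    obtain ⟨hxA, hxAg⟩ := Subgroup.mem_inf.mp hx
    have h1 : A ≤ Subgroup.centralizer ({x} : Set G) := by
      intro y hy
      rw [Subgroup.mem_centralizer_iff]
      intro w hw
      rw [Set.mem_singleton_iff] at hw
      subst hw
      exact hcomm w hxA y hy
    have h2 : MulAut.conj g • A ≤ Subgroup.centralizer ({x} : Set G) := by
      intro y hy
      rw [Subgroup.mem_centralizer_iff]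
      intro w hw
      rw [Set.mem_singleton_iff] at hw
      subst hw
      rw [mem_conj_smul] at hy hxAg
      have h3 := hcomm _ hxAg _ hy
      have e1 : w * y = g * ((g⁻¹ * w * g) * (g⁻¹ * y * g)) * g⁻¹ := by group
      have e2 : y * w = g * ((g⁻¹ * y * g) * (g⁻¹ * w * g)) * g⁻¹ := by group
      rw [e1, e2, h3]
    have h3 : A ⊔ MulAut.conj g • A = ⊤ := by
      apply hA.2
      refine lt_of_le_of_ne le_sup_left ?_
      intro heq
      apply hconj_ne g hg
      calc MulAut.conj g • A ≤ A ⊔ MulAut.conj g • A := le_sup_right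
        _ = A := heq.symm
    rw [hZ, Subgroup.mem_center_iff]
    intro y
    have hy : y ∈ Subgroup.centralizer ({x} : Set G) := by
      have : y ∈ A ⊔ MulAut.conj g • A := by rw [h3]; exact Subgroup.mem_top y
      exact (sup_le h1 h2) this
    exact ((Subgroup.mem_centralizer_iff.mp hy) x rfl).symm
  -- the quotient
  have hsurj : Function.Surjective (QuotientGroup.mk' Z) := QuotientGroup.mk'_surjective Z
  have hone : ∀ x : G, (QuotientGroup.mk' Z) x = 1 ↔ x ∈ Z := by
    intro x
    rw [QuotientGroup.mk'_apply, QuotientGroup.eq_one_iff]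
  set Ab := A.map (QuotientGroup.mk' Z) with hAb
  have hcomap : Ab.comap (QuotientGroup.mk' Z) = A := by
    rw [hAb, Subgroup.comap_map_eq, QuotientGroup.ker_mk', sup_eq_left.mpr hZA]
  have hAbco : IsCoatom Ab := by
    refine ⟨?_, ?_⟩
    · intro htop
      apply hA.1
      rw [← hcomap, htop, Subgroup.comap_top]
    · intro Lb hLb
      have h1 : A < Lb.comap (QuotientGroup.mk' Z) := by
        rw [← hcomap]
        refine lt_of_le_of_ne (Subgroup.comap_mono hLb.le) ?_
        intro heq
        apply hLb.ne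
        rw [← Subgroup.map_comap_eq_self_of_surjective hsurj Ab,
          ← Subgroup.map_comap_eq_self_of_surjective hsurj Lb, heq]
      have h2 := hA.2 _ h1
      rw [← Subgroup.map_comap_eq_self_of_surjective hsurj Lb, h2, ← MonoidHom.range_eq_map,
        MonoidHom.range_eq_top.mpr hsurj]
  have hTI : ∀ y : G ⧸ Z, y ∉ Ab → Ab ⊓ MulAut.conj y • Ab = ⊥ := by
    intro y hy
    obtain ⟨g, rfl⟩ := hsurj y
    have hg : g ∉ A := fun hg => hy (Subgroup.mem_map_of_mem _ hg)
    rw [eq_bot_iff]
    intro x hx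
    obtain ⟨hx1, hx2⟩ := Subgroup.mem_inf.mp hx
    rw [hAb, ← map_conj_smul] at hx2
    obtain ⟨a, ha, rfl⟩ := hx1
    obtain ⟨c, hc, hca⟩ := hx2
    have h1 : a⁻¹ * c ∈ Z := by
      rw [← hone, map_mul, map_inv, hca, inv_mul_cancel]
    have hcA : c ∈ A := by
      have : c = a * (a⁻¹ * c) := by group
      rw [this]
      exact A.mul_mem ha (hZA h1)
    have hcZ : c ∈ Z := hTI0 g hg (Subgroup.mem_inf.mpr ⟨hcA, hc⟩)
    rw [Subgroup.mem_bot, ← hca, hone]
    exact hcZ
  have h2 := frob Ab hAbco hTI
  have h3 : derivedSeries G 2 ≤ Z := by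
    have h4 := map_derivedSeries_le_derivedSeries (QuotientGroup.mk' Z) 2
    rw [h2, le_bot_iff] at h4
    intro x hx
    rw [← hone]
    have : (QuotientGroup.mk' Z) x ∈ (derivedSeries G 2).map (QuotientGroup.mk' Z) :=
      Subgroup.mem_map_of_mem _ hx
    rw [h4, Subgroup.mem_bot] at this
    exact this
  rw [derivedSeries_succ, eq_bot_iff, ← commutator_eq_bot_of_comm Z]
  exact Subgroup.commutator_mono h3 h3

end Cfsg.Agent.S0556
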