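import Cfsg.Statements.S0557
import Mathlib

set_option autoImplicit false
open Cfsg

namespace Cfsg.Agent.S0557

universe u

open scoped commutatorElement

/-- the focal construction is monotone -/
theorem focalSubgroup_mono {G : Type*} [Group G] {A B : Subgroup G} (h : A ≤ B) :
    A.focalSubgroup ≤ B.focalSubgroup := by
  rw [Subgroup.focalSubgroup_def, Subgroup.focalSubgroup_def]
  apply Subgroup.closure_mono
  rintro g ⟨hg, x, hx, u, rfl⟩
  exact ⟨h hg, x, h hx, u, rfl⟩

theorem iterate_focal_mono {G : Type*} [Group G] (k : ℕ) {A B : Subgroup G} (h : A ≤ B) :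
    (fun K : Subgroup G => K.focalSubgroup)^[k] A ≤ (fun K : Subgroup G => K.focalSubgroup)^[k] B := by
  induction k generalizing A B with
  | zero => exact h
  | succ k ih =>
    rw [Function.iterate_succ_apply, Function.iterate_succ_apply]
    exact ih (focalSubgroup_mono h)

/-- focal subgroups computed in a subgroup lie in those computed in the group -/
theorem map_focalSubgroup_le {G : Type*} [Group G] (K : Subgroup G) (Y : Subgroup K) :
    Y.focalSubgroup.map K.subtype ≤ (Y.map K.subtype).focalSubgroup := by
  rw [Subgroup.focalSubgroup_def, MonoidHom.map_closure, Subgroup.closure_le]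
  rintro _ ⟨g, ⟨hg, x, hx, u, rfl⟩, rfl⟩
  apply Subgroup.subset_closure
  refine ⟨⟨_, hg, rfl⟩, (x : G), ⟨x, hx, rfl⟩, (u : G), ?_⟩
  simp [commutatorElement_def]

theorem map_iterate_focal_le {G : Type*} [Group G] (K : Subgroup G) (k : ℕ) (Y : Subgroup K) :
    ((fun L : Subgroup K => L.focalSubgroup)^[k] Y).map K.subtype ≤
      (fun L : Subgroup G => L.focalSubgroup)^[k] (Y.map K.subtype) := by
  induction k with
  | zero => exact le_rfl
  | succ k ih =>
    rw [Function.iterate_succ_apply', Function.iterate_succ_apply']
    exact (map_focalSubgroup_le K _).trans (focalSubgroup_mono ih)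

section transfer

variable {G : Type u} [Group G] [Finite G] (H : Subgroup G)

omit [Finite G] in
theorem card_quotient_focal_coprime (hHall : (Nat.card H).Coprime H.index) :
    (Nat.card (H ⧸ H.focalSubgroupOf)).Coprime H.index :=
  Nat.Coprime.coprime_dvd_left (Subgroup.card_quotient_dvd_card _) hHall

theorem transferFocal_surjective_of_hall (hHall : (Nat.card H).Coprime H.index) :
    Function.Surjective H.transferFocal := by
  intro y
  obtain ⟨z, rfl⟩ := (powCoprime (card_quotient_focal_coprime H hHall)).surjective y
  obtain ⟨x, rfl⟩ := QuotientGroup.mk_surjective z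
  exact ⟨x, H.transferFocal_eq_pow x⟩

theorem mem_ker_transferFocal_iff (hHall : (Nat.card H).Coprime H.index) (x : H) :
    (x : G) ∈ H.transferFocal.ker ↔ (x : G) ∈ H.focalSubgroup := by
  rw [MonoidHom.mem_ker, H.transferFocal_eq_pow x]
  have e := powCoprime (card_quotient_focal_coprime H hHall)
  have h1 : ((x : H ⧸ H.focalSubgroupOf) ^ H.index = 1) ↔ (x : H ⧸ H.focalSubgroupOf) = 1 := by
    constructor
    · intro h
      apply (powCoprime (card_quotient_focal_coprime H hHall)).injective
      simpa [powCoprime] using h
    · intro h; rw [h, one_pow]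
  rw [h1, QuotientGroup.eq_one_iff, Subgroup.focalSubgroupOf_def, Subgroup.mem_subgroupOf]

theorem index_ker_transferFocal (hHall : (Nat.card H).Coprime H.index) :
    H.transferFocal.ker.index = Nat.card (H ⧸ H.focalSubgroupOf) := by
  rw [Subgroup.index_ker, MonoidHom.range_eq_top.mpr (transferFocal_surjective_of_hall H hHall)]
  exact Nat.card_congr (Subgroup.topEquiv).toEquiv

end transfer

/-- membership in a normal Hall subgroup -/
theorem mem_of_pow_card_eq_one {K : Type*} [Group K] [Finite K] (N : Subgroup K) [N.Normal]
    (hcop : (Nat.card N).Coprime N.index) (y : K) (hy : y ^ Nat.card N = 1) : y ∈ N := by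
  rw [← QuotientGroup.eq_one_iff, ← orderOf_eq_one_iff]
  have h1 : orderOf (y : K ⧸ N) ∣ Nat.card N := by
    apply orderOf_dvd_of_pow_eq_one
    rw [← QuotientGroup.mk_pow, hy, QuotientGroup.mk_one]
  have h2 : orderOf (y : K ⧸ N) ∣ N.index := orderOf_dvd_natCard _
  exact Nat.eq_one_of_dvd_coprimes hcop h1 h2

theorem main (n : ℕ) : ∀ (G : Type u) [Group G] [Finite G] (H : Subgroup G),
    (Nat.card H).Coprime H.index →
    (fun K : Subgroup G => Subgroup.focalSubgroup K)^[n] H = ⊥ →
    ∃ N : Subgroup G, N.Normal ∧ Subgroup.IsComplement' N H := by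
  induction n with
  | zero =>
    intro G _ _ H _ hfoc
    have : H = ⊥ := hfoc
    rw [this]
    exact ⟨⊤, inferInstance, Subgroup.isComplement'_top_bot⟩
  | succ n ih =>
    intro G _ _ H hHall hfoc
    rw [Function.iterate_succ_apply] at hfoc
    set m := H.index with hm
    set K := H.transferFocal.ker with hK
    have hKn : K.Normal := inferInstance
    set F := H.focalSubgroup with hF
    have hFH : F ≤ H := H.focalSubgroup_le
    have hFK : F ≤ K := by
      intro x hx
      have := (mem_ker_transferFocal_iff H hHall ⟨x, hFH hx⟩).mpr hx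
      exact this
    set X : Subgroup K := F.subgroupOf K with hX
    have hXmap : X.map K.subtype = F := by
      rw [hX, Subgroup.subgroupOf_map_subtype, inf_eq_left.mpr hFK]
    have hXcard : Nat.card X = Nat.card F :=
      Nat.card_congr (Subgroup.subgroupOfEquivOfLe hFK).toEquiv
    have hFcard : Nat.card F = Nat.card H.focalSubgroupOf :=
      (Nat.card_congr (Subgroup.subgroupOfEquivOfLe hFH).toEquiv).symm
    -- counting
    have hKindex : K.index = Nat.card (H ⧸ H.focalSubgroupOf) := index_ker_transferFocal H hHall
    have e1 := Subgroup.card_mul_index K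
    have e2 := Subgroup.card_mul_index H
    have e3 := Subgroup.card_eq_card_quotient_mul_card_subgroup H.focalSubgroupOf
    have e4 := Subgroup.card_mul_index X
    have hXindex : X.index = m := by
      -- card K = card X * m
      have h5 : Nat.card K * Nat.card (H ⧸ H.focalSubgroupOf) =
          (Nat.card X * m) * Nat.card (H ⧸ H.focalSubgroupOf) := by
        calc Nat.card K * Nat.card (H ⧸ H.focalSubgroupOf) = Nat.card G := by
              rw [← hKindex]; exact e1
          _ = Nat.card H * m := e2.symm
          _ = (Nat.card (H ⧸ H.focalSubgroupOf) * Nat.card H.focalSubgroupOf) * m := by rw [← e3]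
          _ = (Nat.card X * m) * Nat.card (H ⧸ H.focalSubgroupOf) := by
              rw [hXcard, hFcard]; ring
      have h6 : Nat.card K = Nat.card X * m := Nat.eq_of_mul_eq_mul_right Nat.card_pos h5
      rw [h6] at e4
      exact Nat.eq_of_mul_eq_mul_left Nat.card_pos e4
    have hXHall : (Nat.card X).Coprime X.index := by
      rw [hXindex, hXcard]
      exact Nat.Coprime.coprime_dvd_left (Subgroup.card_dvd_of_le hFH) hHall
    have hXfoc : (fun L : Subgroup K => Subgroup.focalSubgroup L)^[n] X = ⊥ := by
      have h1 := map_iterate_focal_le K n X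
      rw [hXmap, hfoc, le_bot_iff] at h1
      exact (Subgroup.map_eq_bot_iff_of_injective _ K.subtype_injective).mp h1
    obtain ⟨N₀, hN₀n, hN₀c⟩ := ih K X hXHall hXfoc
    have hN₀card : Nat.card N₀ = m := by
      rw [← hXindex]; exact hN₀c.index_eq_card.symm
    have hN₀index : N₀.index = Nat.card X := hN₀c.symm.index_eq_card
    have hN₀cop : (Nat.card N₀).Coprime N₀.index := by
      rw [hN₀card, hN₀index, ← hXindex]; exact hXHall.symm
    refine ⟨N₀.map K.subtype, ?_, ?_⟩
    · constructor
      rintro _ ⟨n₀, hn₀, rfl⟩ g
      have hmemK : g * (n₀ : G) * g⁻¹ ∈ K := hKn.conj_mem _ n₀.2 g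
      refine ⟨⟨_, hmemK⟩, ?_, rfl⟩
      apply mem_of_pow_card_eq_one N₀ hN₀cop
      apply Subtype.ext
      have h1 : (n₀ : G) ^ Nat.card N₀ = 1 := by
        have h0 : (⟨n₀, hn₀⟩ : N₀) ^ Nat.card N₀ = 1 := pow_card_eq_one'
        have h2 : (((⟨n₀, hn₀⟩ : N₀) ^ Nat.card N₀ : N₀) : K) = 1 := by rw [h0]; rfl
        have h3 : (n₀ : K) ^ Nat.card N₀ = 1 := by
          rw [← h2]; rfl
        have h4 := congrArg (fun z : K => (z : G)) h3
        simpa using h4
      simp only [Subgroup.coe_pow, Subgroup.coe_one]
      rw [conj_pow, h1, mul_one, mul_inv_cancel]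
    · have hNcard : Nat.card (N₀.map K.subtype) = m := by
        rw [← hN₀card]
        exact (Nat.card_congr (Subgroup.equivMapOfInjective N₀ K.subtype K.subtype_injective).toEquiv).symm
      apply Subgroup.isComplement'_of_coprime
      · rw [hNcard, mul_comm]; exact e2
      · rw [hNcard]; exact hHall.symm

/-- Let H be a subgroup of a finite group G with order coprime to its index. If iterating the focal-subgroup construction starting from H reaches the trivial subgroup after finitely many steps, then H has a normal complement in G. -/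
theorem result {G : Type*} [Group G] [Finite G] (H : Subgroup G) (hHall : (Nat.card H).Coprime H.index) (n : ℕ) (hfoc : (fun K : Subgroup G => Subgroup.focalSubgroup K)^[n] H = ⊥) : ∃ N : Subgroup G, N.Normal ∧ Subgroup.IsComplement' N H := by
  exact main n G H hHall hfoc

end Cfsg.Agent.S0557
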