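import Cfsg.Statements.S0558
import Mathlib
import Cfsg.Agent.S0087
import Cfsg.Agent.Lib.Lead.Tate
import Cfsg.Agent.Lib.Helper9.Transfer
import Cfsg.Agent.Lib.Helper9.Conj
import Cfsg.Agent.Lib.Helper10.FittingHall
import Cfsg.Agent.Lib.Helper16.SylowInf
import Cfsg.Agent.Lib.Helper17.PResidual

set_option autoImplicit false
open Cfsg

namespace Cfsg.Agent.S0558

variable {G : Type*} [Group G] [Finite G]

/-- a Sylow subgroup of `H` whose normalizer in `G` is `H` is a Sylow subgroup of `G` -/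
theorem not_dvd_index_of_normalizer {p : ℕ} [Fact p.Prime] (H : Subgroup G) (P : Sylow p H)
    (hN : Subgroup.normalizer (((P : Subgroup H).map H.subtype : Subgroup G) : Set G) = H) :
    ¬ p ∣ ((P : Subgroup H).map H.subtype).index := by
  set P' := (P : Subgroup H).map H.subtype with hP'
  have hcard : Nat.card P' = p ^ (Nat.card H).factorization p := by
    rw [hP', Subgroup.card_map_of_injective H.subtype_injective]
    exact P.card_eq_multiplicity
  intro hdvd
  have h1 : p ^ ((Nat.card H).factorization p + 1) ∣ Nat.card G := by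
    rw [← Subgroup.card_mul_index P', hcard, pow_succ]
    exact Nat.mul_dvd_mul_left _ hdvd
  have h2 := Sylow.prime_pow_dvd_card_normalizer h1 hcard
  rw [hN] at h2
  exact Nat.pow_succ_factorization_not_dvd Nat.card_pos.ne' Fact.out h2

omit [Finite G] in
theorem sylow_normal (H : Subgroup G) {p : ℕ} [Fact p.Prime] (P : Sylow p H)
    (hN : Subgroup.normalizer (((P : Subgroup H).map H.subtype : Subgroup G) : Set G) = H) :
    (P : Subgroup H).Normal := by
  constructor
  intro n hn g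
  have hg : (g : G) ∈ Subgroup.normalizer (((P : Subgroup H).map H.subtype : Subgroup G) : Set G) := by
    rw [hN]; exact g.2
  have h1 := (Subgroup.mem_normalizer_iff.1 hg (n : G)).1 ⟨n, hn, rfl⟩
  obtain ⟨m, hm, hmeq⟩ := h1
  have h2 : m = g * n * g⁻¹ := Subtype.ext (by simpa using hmeq)
  rw [← h2]; exact hm

theorem nilpotent_of (H : Subgroup G)
    (hnorm : ∀ p : ℕ, p.Prime → p ∣ Nat.card H → ∀ P : Sylow p H,
      Subgroup.normalizer (((P : Subgroup H).map H.subtype : Subgroup G) : Set G) = H) :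
    Group.IsNilpotent H := by
  apply (Group.isNilpotent_of_finite_tfae.out 0 3).2
  intro p hp P
  by_cases hd : p ∣ Nat.card H
  · exact sylow_normal H P (hnorm p hp.out hd P)
  · have : (P : Subgroup H) = ⊥ := by
      rw [← Subgroup.card_eq_one, P.card_eq_multiplicity, Nat.factorization_eq_zero_of_not_dvd hd,
        pow_zero]
    rw [this]; infer_instance

theorem exists_other_prime (H : Subgroup G)
    (hnot : ∀ p : ℕ, p.Prime → ∀ P : Sylow p G, (P : Subgroup G) ≠ H)
    (hnorm : ∀ p : ℕ, p.Prime → p ∣ Nat.card H → ∀ P : Sylow p H,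
      Subgroup.normalizer (((P : Subgroup H).map H.subtype : Subgroup G) : Set G) = H)
    (p : ℕ) (hp : p.Prime) (hd : p ∣ Nat.card H) : ∃ q : ℕ, q.Prime ∧ q ≠ p ∧ q ∣ Nat.card H := by
  by_contra hcon
  push Not at hcon
  have : Fact p.Prime := ⟨hp⟩
  have hHp : IsPGroup p H := by
    have h1 : ∀ {q : ℕ}, q.Prime → q ∣ Nat.card H → q = p := fun {q} hq hqd => by
      by_contra h
      exact hcon q hq h hqd
    exact IsPGroup.of_card (Nat.eq_prime_pow_of_unique_prime_dvd Nat.card_pos.ne' h1)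
  let P : Sylow p H := default
  have hPtop : (P : Subgroup H) = ⊤ := (P.is_maximal' (hHp.to_subgroup ⊤) le_top).symm
  have hA := not_dvd_index_of_normalizer H P (hnorm p hp hd P)
  have hPH : (P : Subgroup H).map H.subtype = H := by
    rw [hPtop, ← MonoidHom.range_eq_map, Subgroup.range_subtype]
  exact hnot p hp ((P.isPGroup'.map H.subtype).toSylow hA) hPH

/-- control of fusion -/
theorem fusion (H : Subgroup G) (hnil : Group.IsNilpotent H) {p q : ℕ} [Fact p.Prime] [Fact q.Prime]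
    (hpq : p ≠ q) (P : Sylow p H) (Q : Sylow q H)
    (hNQ : Subgroup.normalizer (((Q : Subgroup H).map H.subtype : Subgroup G) : Set G) = H)
    (x : G) (hx : x ∈ (P : Subgroup H).map H.subtype) (a : G)
    (hy : a * x * a⁻¹ ∈ (P : Subgroup H).map H.subtype) :
    ∃ u ∈ (P : Subgroup H).map H.subtype, u * x * u⁻¹ = a * x * a⁻¹ := by
  have hpqc : Nat.Coprime p q := (Nat.coprime_primes Fact.out Fact.out).2 hpq
  set P' := (P : Subgroup H).map H.subtype with hP'
  set Q' := (Q : Subgroup H).map H.subtype with hQ'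
  have hP'H : P' ≤ H := Subgroup.map_subtype_le _
  have hQ'H : Q' ≤ H := Subgroup.map_subtype_le _
  have hP'p : IsPGroup p P' := P.isPGroup'.map _
  have hQ'p : IsPGroup q Q' := Q.isPGroup'.map _
  have hQA := not_dvd_index_of_normalizer H Q hNQ
  let QS : Sylow q G := hQ'p.toSylow hQA
  -- elements of coprime order in `H` commute
  have hcop : ∀ z w : G, z ∈ H → w ∈ H → (orderOf z).Coprime (orderOf w) → z * w = w * z := by
    intro z w hz hw hzw
    have h1 := Cfsg.Agent.Lib.Helper10.commute_of_coprime_orderOf H ⟨z, hz⟩ ⟨w, hw⟩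
      (by rwa [Subgroup.orderOf_mk, Subgroup.orderOf_mk])
    exact congrArg Subtype.val h1.eq
  have hordP : ∀ w ∈ P', ∃ k : ℕ, orderOf w = p ^ k := by
    intro w hw
    obtain ⟨k, hk⟩ := IsPGroup.iff_orderOf.1 hP'p ⟨w, hw⟩
    exact ⟨k, by rwa [Subgroup.orderOf_mk] at hk⟩
  have hordQ : ∀ z ∈ Q', ∃ k : ℕ, orderOf z = q ^ k := by
    intro z hz
    obtain ⟨k, hk⟩ := IsPGroup.iff_orderOf.1 hQ'p ⟨z, hz⟩
    exact ⟨k, by rwa [Subgroup.orderOf_mk] at hk⟩
  have hcomm : ∀ z ∈ Q', ∀ w ∈ P', z * w = w * z := by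
    intro z hz w hw
    obtain ⟨k, hk⟩ := hordQ z hz
    obtain ⟨l, hl⟩ := hordP w hw
    apply hcop z w (hQ'H hz) (hP'H hw)
    rw [hk, hl]
    exact Nat.Coprime.pow _ _ hpqc.symm
  set y := a * x * a⁻¹ with hydef
  set C := Subgroup.centralizer ({y} : Set G) with hC
  have hmemC : ∀ z, z ∈ C ↔ y * z = z * y := by
    intro z
    rw [hC, Subgroup.mem_centralizer_iff]
    constructor
    · intro h; exact h y rfl
    · intro h w hw
      rw [Set.mem_singleton_iff.1 hw]; exact h
  have hQC : Q' ≤ C := by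
    intro z hz
    rw [hmemC]
    exact (hcomm z hz y hy).symm
  set Y := Q'.map (MulAut.conj a).toMonoidHom with hY
  have hYp : IsPGroup q Y := hQ'p.map _
  have hYC : Y ≤ C := by
    intro w hw
    rw [hY, Cfsg.Agent.Lib.Helper9.mem_conjMap] at hw
    rw [hmemC]
    have h1 := hcomm _ hw x hx
    calc y * w = a * (x * (a⁻¹ * w * a)) * a⁻¹ := by rw [hydef]; group
      _ = a * ((a⁻¹ * w * a) * x) * a⁻¹ := by rw [h1]
      _ = w * y := by rw [hydef]; group
  obtain ⟨R, hR, _, hQR, c, hc, hYc⟩ :=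
    Cfsg.Agent.Lib.Helper9.exists_pgroup_conj_le C Q' Y hQ'p hYp hQC hYC
  have hRQ : R = Q' := QS.is_maximal' hR hQR
  rw [hRQ, hY, ← Cfsg.Agent.Lib.Helper9.conjMap_mul] at hYc
  have hnorm' := Cfsg.Agent.Lib.Helper9.mem_normalizer_of_conjMap_eq_self
    (Cfsg.Agent.Lib.Helper9.conjMap_eq_of_le hYc)
  rw [hNQ] at hnorm'
  -- `h₀ = c * a ∈ H` conjugates `x` to `y`
  have hh₀ : (c * a) * x * (c * a)⁻¹ = y := by
    have h1 := (hmemC c).1 hc
    calc (c * a) * x * (c * a)⁻¹ = c * y * c⁻¹ := by rw [hydef]; group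
      _ = y * c * c⁻¹ := by rw [h1]
      _ = y := by group
  obtain ⟨t, u, ht, hu, htu, ⟨k, hk⟩, hucop⟩ := Cfsg.Agent.Lib.Helper16.exists_p_decomp' p (c * a)
  have hzH : Subgroup.zpowers (c * a) ≤ H := Subgroup.zpowers_le.2 hnorm'
  have htH : t ∈ H := hzH ht
  have huH : u ∈ H := hzH hu
  have hux : u * x = x * u := by
    obtain ⟨l, hl⟩ := hordP x hx
    apply hcop u x huH (hP'H hx)
    rw [hl]
    exact Nat.Coprime.pow_right l hucop
  -- `t` lies in `P'`
  have htP : t ∈ P' := by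
    have hPn : (P : Subgroup H).Normal := by
      have := (Group.isNilpotent_of_finite_tfae.out 0 3).1 hnil
      exact this p inferInstance P
    have hZ : IsPGroup p (Subgroup.zpowers (⟨t, htH⟩ : H)) := by
      apply IsPGroup.of_card (n := k)
      rw [Nat.card_zpowers, Subgroup.orderOf_mk, hk]
    obtain ⟨P₂, hP₂⟩ := hZ.exists_le_sylow
    have := Sylow.unique_of_normal P hPn
    have hP₂P : P₂ = P := Subsingleton.elim _ _
    rw [hP₂P] at hP₂
    exact ⟨⟨t, htH⟩, hP₂ (Subgroup.mem_zpowers _), rfl⟩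
  refine ⟨t, htP, ?_⟩
  rw [← hh₀, htu]
  calc t * x * t⁻¹ = t * (x * u * u⁻¹) * t⁻¹ := by group
    _ = t * (u * x * u⁻¹) * t⁻¹ := by rw [hux]
    _ = t * u * x * (t * u)⁻¹ := by group

open Cfsg.Agent.Lib.Helper17 in
theorem result {G : Type*} [Group G] [Finite G] (H : Subgroup G) (hnot : ∀ p : ℕ, p.Prime → ∀ P : Sylow p G, (P : Subgroup G) ≠ H) (hnorm : ∀ p : ℕ, p.Prime → p ∣ Nat.card H → ∀ P : Sylow p H, Subgroup.normalizer (((P : Subgroup H).map H.subtype : Subgroup G) : Set G) = H) : ∃ N : Subgroup G, N.Normal ∧ Subgroup.IsComplement' N H := by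
  have hnil := nilpotent_of H hnorm
  apply Cfsg.Agent.S0087.assemble H
  · apply Nat.coprime_of_dvd
    intro p hp hd hidx
    have : Fact p.Prime := ⟨hp⟩
    let P : Sylow p H := default
    have hA := not_dvd_index_of_normalizer H P (hnorm p hp hd P)
    exact hA (dvd_trans hidx (Subgroup.index_dvd_of_le (Subgroup.map_subtype_le _)))
  · intro p hp hd
    have : Fact p.Prime := ⟨hp⟩
    obtain ⟨q, hq, hqp, hqd⟩ := exists_other_prime H hnot hnorm p hp hd
    have : Fact q.Prime := ⟨hq⟩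
    let P : Sylow p H := default
    let Q : Sylow q H := default
    have hA := not_dvd_index_of_normalizer H P (hnorm p hp hd P)
    let PS : Sylow p G := (P.isPGroup'.map H.subtype).toSylow hA
    have hfus : ∀ g ∈ (PS : Subgroup G), (∃ k : ℕ, orderOf g = p ^ k) → ∀ a : G,
        a * g * a⁻¹ ∈ (PS : Subgroup G) → ∃ h ∈ (PS : Subgroup G), h * g * h⁻¹ = a * g * a⁻¹ :=
      fun g hg _ a ha => fusion H hnil hqp.symm P Q (hnorm q hq hqd Q) g hg a ha
    have hcopidx : Nat.Coprime p (PS : Subgroup G).index :=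
      (Nat.Prime.coprime_iff_not_dvd hp).2 PS.not_dvd_index
    have h1 := Cfsg.Agent.Lib.Helper9.pResidual_sup_commutator_inf_eq (p := p) (PS : Subgroup G)
      hcopidx hfus
    have hRn : (pResidual p G).Normal := pResidual_normal
    have hNP : (pResidual p G ⊔ commutator G) ⊔ (PS : Subgroup G) = ⊤ := by
      rw [eq_top_iff, ← sylow_sup_pResidual PS]
      apply sup_le
      · exact le_sup_right
      · exact le_trans le_sup_left le_sup_left
    have h2 := Cfsg.Agent.Lib.Lead.tate_sup_eq_top PS (pResidual p G ⊔ commutator G) hNP (by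
      rw [h1, Cfsg.Agent.Lib.Lead.pResidual_eq_bot_of_isPGroup PS.isPGroup', bot_sup_eq]
      apply Subgroup.map_mono
      exact le_sup_left)
    refine ⟨pResidual p G, hRn, h2.2, ?_⟩
    obtain ⟨k, hk⟩ := IsPGroup.iff_card.1 (quotient_pResidual_isPGroup (p := p) (G := G))
    exact ⟨k, by rw [Subgroup.index_eq_card]; exact hk⟩

end Cfsg.Agent.S0558
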