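import Cfsg.Statements.S0566
import Cfsg.Agent.S0539
import Mathlib

set_option autoImplicit false
open Cfsg
open scoped Pointwise

namespace Cfsg.Agent.S0566

open Cfsg.Agent.S0539

variable {G : Type*} [Group G]

/-- if `C * D` is the carrier of a subgroup then `D * C ⊆ C * D` -/
theorem mul_subset_of_isProd {C D S : Subgroup G} (h : (S : Set G) = (C : Set G) * D) :
    (D : Set G) * C ⊆ (C : Set G) * D := by
  rintro _ ⟨d, hd, c, hc, rfl⟩
  have hdS : d ∈ S := by
    have : d ∈ (S : Set G) := by rw [h]; exact ⟨1, C.one_mem, d, hd, one_mul d⟩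
    exact this
  have hcS : c ∈ S := by
    have : c ∈ (S : Set G) := by rw [h]; exact ⟨c, hc, 1, D.one_mem, mul_one c⟩
    exact this
  have : d * c ∈ (S : Set G) := S.mul_mem hdS hcS
  rwa [h] at this

/-- if `D * C ⊆ C * D` then `C * D` is the carrier of `C ⊔ D` -/
theorem coe_sup_of_mul_subset {C D : Subgroup G} (h : (D : Set G) * C ⊆ (C : Set G) * D) :
    ((C ⊔ D : Subgroup G) : Set G) = (C : Set G) * D := by
  apply Set.Subset.antisymm
  · intro z hz
    have hz' : z ∈ C ⊔ D := hz
    rw [Subgroup.sup_eq_closure_mul] at hz'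
    clear hz
    refine Subgroup.closure_induction (p := fun z _ => z ∈ (C : Set G) * D) ?_ ?_ ?_ ?_ hz'
    · intro z hz; exact hz
    · exact ⟨1, C.one_mem, 1, D.one_mem, one_mul 1⟩
    · intro a b _ _ iha ihb
      obtain ⟨c, hc, d, hd, rfl⟩ := iha
      obtain ⟨c', hc', d', hd', rfl⟩ := ihb
      obtain ⟨c'', hc'', d'', hd'', he⟩ := h ⟨d, hd, c', hc', rfl⟩
      dsimp only at he
      refine ⟨c * c'', C.mul_mem hc hc'', d'' * d', D.mul_mem hd'' hd', ?_⟩
      dsimp only
      calc c * c'' * (d'' * d') = c * (c'' * d'') * d' := by group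
        _ = c * (d * c') * d' := by rw [he]
        _ = c * d * (c' * d') := by group
    · intro a _ iha
      obtain ⟨c, hc, d, hd, rfl⟩ := iha
      have : (c * d)⁻¹ = d⁻¹ * c⁻¹ := by group
      dsimp only
      rw [this]
      exact h ⟨d⁻¹, D.inv_mem hd, c⁻¹, C.inv_mem hc, rfl⟩
  · rintro _ ⟨c, hc, d, hd, rfl⟩
    exact Subgroup.mul_mem_sup hc hd

/-- joins of subgroups permuting with `C` permute with `C` -/
theorem iSup_mul_subset {ι : Sort*} (C : Subgroup G) (B : ι → Subgroup G)
    (h : ∀ i, ((B i : Subgroup G) : Set G) * C ⊆ (C : Set G) * (B i)) :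
    (((⨆ i, B i : Subgroup G)) : Set G) * C ⊆ (C : Set G) * ((⨆ i, B i : Subgroup G)) := by
  rintro _ ⟨j, hj, c, hc, rfl⟩
  have hj' : j ∈ ⨆ i, B i := hj
  revert c
  refine Subgroup.iSup_induction B (C := fun j => ∀ c ∈ C, j * c ∈
    (C : Set G) * ((⨆ i, B i : Subgroup G))) hj' ?_ ?_ ?_
  · intro i b hb c hc
    obtain ⟨c', hc', b', hb', he⟩ := h i ⟨b, hb, c, hc, rfl⟩
    exact ⟨c', hc', b', Subgroup.mem_iSup_of_mem i hb', he⟩
  · intro c hc
    exact ⟨c, hc, 1, Subgroup.one_mem _, by group⟩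
  · intro a b iha ihb c hc
    obtain ⟨c', hc', b', hb', he⟩ := ihb c hc
    obtain ⟨c'', hc'', a', ha', he'⟩ := iha c' hc'
    dsimp only at he he'
    refine ⟨c'', hc'', a' * b', Subgroup.mul_mem _ ha' hb', ?_⟩
    calc c'' * (a' * b') = (c'' * a') * b' := by group
      _ = a * c' * b' := by rw [he']
      _ = a * (c' * b') := by group
      _ = a * (b * c) := by rw [he]
      _ = a * b * c := by group

/-- conjugating a product decomposition -/
theorem conj_isProd {C D S : Subgroup G} (u : G) (h : (S : Set G) = (C : Set G) * D) :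
    ((MulAut.conj u • S : Subgroup G) : Set G) =
      ((MulAut.conj u • C : Subgroup G) : Set G) * ((MulAut.conj u • D : Subgroup G) : Set G) := by
  ext z
  constructor
  · intro hz
    have hz' : z ∈ MulAut.conj u • S := hz
    rw [mem_conj_smul_iff] at hz'
    have : u⁻¹ * z * u ∈ (S : Set G) := hz'
    rw [h] at this
    obtain ⟨c, hc, d, hd, he⟩ := this
    dsimp only at he
    refine ⟨u * c * u⁻¹, ?_, u * d * u⁻¹, ?_, ?_⟩
    · show u * c * u⁻¹ ∈ MulAut.conj u • C
      rw [mem_conj_smul_iff]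
      have : u⁻¹ * (u * c * u⁻¹) * u = c := by group
      rw [this]; exact hc
    · show u * d * u⁻¹ ∈ MulAut.conj u • D
      rw [mem_conj_smul_iff]
      have : u⁻¹ * (u * d * u⁻¹) * u = d := by group
      rw [this]; exact hd
    · calc u * c * u⁻¹ * (u * d * u⁻¹) = u * (c * d) * u⁻¹ := by group
        _ = u * (u⁻¹ * z * u) * u⁻¹ := by rw [he]
        _ = z := by group
  · rintro ⟨c, hc, d, hd, rfl⟩
    have hc' : c ∈ MulAut.conj u • C := hc
    have hd' : d ∈ MulAut.conj u • D := hd
    rw [mem_conj_smul_iff] at hc' hd'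
    show c * d ∈ MulAut.conj u • S
    rw [mem_conj_smul_iff]
    have : u⁻¹ * (c * d) * u ∈ (S : Set G) := by
      rw [h]
      exact ⟨u⁻¹ * c * u, hc', u⁻¹ * d * u, hd', by group⟩
    exact this

theorem conj_smul_iSup₂ (x : G) (A' : Subgroup G) (B : Subgroup G) :
    MulAut.conj x • (⨆ a ∈ A', MulAut.conj a • B) = ⨆ a ∈ A', MulAut.conj (x * a) • B := by
  apply le_antisymm
  · rw [Subgroup.pointwise_smul_subset_iff]
    apply iSup₂_le
    intro a ha
    rw [Subgroup.subset_pointwise_smul_iff, inv_inv, ← mul_smul, ← map_mul]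
    exact le_iSup₂_of_le (f := fun a _ => MulAut.conj (x * a) • B) a ha le_rfl
  · apply iSup₂_le
    intro a ha
    rw [map_mul, mul_smul]
    exact Subgroup.pointwise_smul_le_pointwise_smul_iff.mpr
      (le_iSup₂_of_le (f := fun a _ => MulAut.conj a • B) a ha le_rfl)

theorem eq_top_of_conj_smul_eq_top {S : Subgroup G} (u : G) (h : MulAut.conj u • S = ⊤) :
    S = ⊤ := by
  rw [eq_top_iff]
  intro z _
  have : u * z * u⁻¹ ∈ MulAut.conj u • S := by rw [h]; exact Subgroup.mem_top _
  rw [mem_conj_smul_iff] at this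
  have e : u⁻¹ * (u * z * u⁻¹) * u = z := by group
  rwa [e] at this

theorem main [Finite G] (A : Subgroup G) (n : ℕ) : ∀ B : Subgroup G,
    Nat.card G - Nat.card B = n →
    (∀ x : G, ∃ S : Subgroup G, S ≠ ⊤ ∧ (S : Set G) = (A : Set G) *
      ((MulAut.conj x • B : Subgroup G) : Set G)) →
    ∃ N : Subgroup G, N.Normal ∧ N ≠ ⊤ ∧ (A ≤ N ∨ B ≤ N) := by
  induction n using Nat.strong_induction_on with
  | _ n ih =>
    intro B hn h
    by_contra hno
    push Not at hno
    -- general position: all conjugates permute and give proper subgroups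
    have hgen : ∀ u v : G, ∃ S : Subgroup G, S ≠ ⊤ ∧ (S : Set G) =
        ((MulAut.conj u • A : Subgroup G) : Set G) * ((MulAut.conj v • B : Subgroup G) : Set G) := by
      intro u v
      obtain ⟨S, hS, hSe⟩ := h (u⁻¹ * v)
      refine ⟨MulAut.conj u • S, ?_, ?_⟩
      · intro htop
        exact hS (eq_top_of_conj_smul_eq_top u htop)
      · rw [conj_isProd u hSe, ← mul_smul, ← map_mul, mul_inv_cancel_left]
    -- B is a proper subgroup
    have hBtop : B ≠ ⊤ := by
      obtain ⟨S, hS, hSe⟩ := h 1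
      rw [map_one, one_smul] at hSe
      intro hB
      apply hS
      rw [eq_top_iff]
      intro z _
      have : z ∈ (S : Set G) := by
        rw [hSe]
        exact ⟨1, A.one_mem, z, by rw [hB]; exact Subgroup.mem_top z, one_mul z⟩
      exact this
    -- (1) some conjugate of A does not normalize B
    obtain ⟨g, hg⟩ : ∃ g : G, ¬ (MulAut.conj g • A ≤ Subgroup.normalizer (B : Set G)) := by
      by_contra hall
      push Not at hall
      have hBn : B.Normal := by
        rw [← Subgroup.normalizer_eq_top_iff, eq_top_iff]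
        have hcl : Subgroup.normalClosure (A : Set G) ≤ Subgroup.normalizer (B : Set G) := by
          rw [Subgroup.normalClosure, Subgroup.closure_le]
          intro z hz
          rw [Group.mem_conjugatesOfSet_iff] at hz
          obtain ⟨a, ha, hza⟩ := hz
          rw [isConj_iff] at hza
          obtain ⟨c, rfl⟩ := hza
          apply hall c
          rw [mem_conj_smul_iff]
          have e : c⁻¹ * (c * a * c⁻¹) * c = a := by group
          rw [e]; exact ha
        have hNC : Subgroup.normalClosure (A : Set G) = ⊤ := by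
          by_contra hne
          exact (hno _ Subgroup.normalClosure_normal hne).1 Subgroup.le_normalClosure
        rw [← hNC]; exact hcl
      exact (hno B hBn hBtop).2 le_rfl
    set A' := MulAut.conj g • A with hA'
    obtain ⟨H, hHtop, hHe⟩ := hgen g 1
    rw [map_one, one_smul, ← hA'] at hHe
    have hA'H : A' ≤ H := by
      intro a ha
      have : a ∈ (H : Set G) := by rw [hHe]; exact ⟨a, ha, 1, B.one_mem, mul_one a⟩
      exact this
    have hBH : B ≤ H := by
      intro b hb
      have : b ∈ (H : Set G) := by rw [hHe]; exact ⟨1, A'.one_mem, b, hb, one_mul b⟩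
      exact this
    -- (2) the normal closure of B under A'
    set B₁ := ⨆ a ∈ A', MulAut.conj a • B with hB₁
    have hBB₁ : B ≤ B₁ := by
      have := le_iSup₂_of_le (f := fun a _ => MulAut.conj a • B) 1 A'.one_mem le_rfl
      rwa [map_one, one_smul] at this
    have hB₁H : B₁ ≤ H := by
      apply iSup₂_le
      intro a ha z hz
      rw [mem_conj_smul_iff] at hz
      have e : z = a * (a⁻¹ * z * a) * a⁻¹ := by group
      rw [e]
      exact H.mul_mem (H.mul_mem (hA'H ha) (hBH hz)) (H.inv_mem (hA'H ha))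
    have hB₁ne : B₁ ≠ B := by
      intro heq
      apply hg
      intro a ha
      have h1 : MulAut.conj a • B ≤ B := by
        have h0 : MulAut.conj a • B ≤ B₁ :=
          le_iSup₂_of_le (f := fun a _ => MulAut.conj a • B) a ha le_rfl
        rwa [heq] at h0
      have h2 : MulAut.conj a • B = B := by
        apply Subgroup.eq_of_le_of_card_ge h1
        exact (Nat.card_congr (Subgroup.equivSMul (MulAut.conj a) B).toEquiv).le
      exact (Cfsg.Agent.S0538.conj_smul_eq_self_iff a B).mp h2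
    have hcardlt : Nat.card B < Nat.card B₁ := by
      rcases Nat.lt_or_ge (Nat.card B) (Nat.card B₁) with hlt | hge
      · exact hlt
      · exact absurd (Subgroup.eq_of_le_of_card_ge hBB₁ hge).symm hB₁ne
    -- (3) A permutes with all conjugates of B₁
    have hperm : ∀ x : G, (((MulAut.conj x • B₁ : Subgroup G)) : Set G) * A ⊆
        (A : Set G) * ((MulAut.conj x • B₁ : Subgroup G)) := by
      intro x
      rw [hB₁, conj_smul_iSup₂]
      have key := iSup_mul_subset A (fun a : G => ⨆ _ : a ∈ A', MulAut.conj (x * a) • B) ?_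
      · exact key
      · intro a
        apply iSup_mul_subset
        intro ha
        obtain ⟨S, -, hSe⟩ := h (x * a)
        exact mul_subset_of_isProd hSe
    -- (4) some product is everything
    obtain ⟨x, hx⟩ : ∃ x : G, (A : Set G) * ((MulAut.conj x • B₁ : Subgroup G) : Set G) = Set.univ := by
      by_contra hnone
      push Not at hnone
      have hlt : Nat.card G - Nat.card B₁ < n := by
        have h1 : Nat.card B₁ ≤ Nat.card G := Subgroup.card_le_card_group B₁
        omega
      obtain ⟨N, hNn, hNtop, hN⟩ := ih _ hlt B₁ rfl (fun x => by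
        refine ⟨A ⊔ MulAut.conj x • B₁, ?_, coe_sup_of_mul_subset (hperm x)⟩
        intro htop
        apply hnone x
        rw [← coe_sup_of_mul_subset (hperm x), htop]
        rfl)
      rcases hN with hN | hN
      · exact (hno N hNn hNtop).1 hN
      · exact (hno N hNn hNtop).2 (hBB₁.trans hN)
    -- (5) H = ⊤
    apply hHtop
    rw [eq_top_iff]
    have huniv : ∀ w : G, ∃ α ∈ A, ∃ β ∈ B₁, w = (x⁻¹ * α * x) * β := by
      intro w
      have : x * w * x⁻¹ ∈ (A : Set G) * ((MulAut.conj x • B₁ : Subgroup G) : Set G) := by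
        rw [hx]; exact Set.mem_univ _
      obtain ⟨α, hα, β', hβ', he⟩ := this
      dsimp only at he
      have hβ'' : β' ∈ MulAut.conj x • B₁ := hβ'
      rw [mem_conj_smul_iff] at hβ''
      refine ⟨α, hα, x⁻¹ * β' * x, hβ'', ?_⟩
      calc w = x⁻¹ * (x * w * x⁻¹) * x := by group
        _ = x⁻¹ * (α * β') * x := by rw [he]
        _ = x⁻¹ * α * x * (x⁻¹ * β' * x) := by group
    -- write g = β' x⁻¹ α'
    obtain ⟨α₀, hα₀, β₀, hβ₀, he₀⟩ := huniv (x⁻¹ * g⁻¹)
    -- x⁻¹ g⁻¹ = x⁻¹ α₀ x β₀  hence g = β₀⁻¹ x⁻¹ α₀⁻¹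
    have hg_eq : g = β₀⁻¹ * x⁻¹ * α₀⁻¹ := by
      have : g⁻¹ = α₀ * x * β₀ := by
        calc g⁻¹ = x * (x⁻¹ * g⁻¹) := by group
          _ = x * (x⁻¹ * α₀ * x * β₀) := by rw [he₀]
          _ = α₀ * x * β₀ := by group
      calc g = (g⁻¹)⁻¹ := by group
        _ = (α₀ * x * β₀)⁻¹ := by rw [this]
        _ = β₀⁻¹ * x⁻¹ * α₀⁻¹ := by group
    intro z _
    obtain ⟨α, hα, β, hβ, he⟩ := huniv (β₀ * z * β₀⁻¹)
    have hz : z = (β₀⁻¹ * (x⁻¹ * α * x) * β₀) * (β₀⁻¹ * β * β₀) := by
      calc z = β₀⁻¹ * (β₀ * z * β₀⁻¹) * β₀ := by group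
        _ = β₀⁻¹ * (x⁻¹ * α * x * β) * β₀ := by rw [he]
        _ = (β₀⁻¹ * (x⁻¹ * α * x) * β₀) * (β₀⁻¹ * β * β₀) := by group
    rw [hz]
    apply H.mul_mem
    · apply hA'H
      rw [hA', mem_conj_smul_iff, hg_eq]
      have e : (β₀⁻¹ * x⁻¹ * α₀⁻¹)⁻¹ * (β₀⁻¹ * (x⁻¹ * α * x) * β₀) * (β₀⁻¹ * x⁻¹ * α₀⁻¹) =
          α₀ * α * α₀⁻¹ := by group
      rw [e]
      exact A.mul_mem (A.mul_mem hα₀ hα) (A.inv_mem hα₀)
    · apply hB₁H
      exact B₁.mul_mem (B₁.mul_mem (B₁.inv_mem hβ₀) hβ) hβ₀

/-- Let A and B be nontrivial subgroups of a finite group G such that for every x the product set of A and xBx⁻¹ is a proper subgroup of G. Then there is a proper normal subgroup of G containing A or containing B. -/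
theorem result {G : Type*} [Group G] [Finite G] (A B : Subgroup G) (hA : A ≠ ⊥) (hB : B ≠ ⊥) (h : ∀ x : G, ∃ S : Subgroup G, S ≠ ⊤ ∧ (S : Set G) = (A : Set G) * ((MulAut.conj x • B : Subgroup G) : Set G)) : ∃ N : Subgroup G, N.Normal ∧ N ≠ ⊤ ∧ (A ≤ N ∨ B ≤ N) := by
  exact main A _ B rfl h

end Cfsg.Agent.S0566
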