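import Cfsg.Statements.S0567
import Mathlib

set_option autoImplicit false
open Cfsg

namespace Cfsg.Agent.S0567

open Pointwise
open scoped commutatorElement

/-- `x` normalises `A ⊔ B` as soon as conjugation by members of a subgroup `L` maps `A` and `B` into `A ⊔ B` -/
theorem le_normalizer_sup {G : Type*} [Group G] {L A B : Subgroup G}
    (hA : ∀ x ∈ L, ∀ a ∈ A, x * a * x⁻¹ ∈ A ⊔ B) (hB : ∀ x ∈ L, ∀ b ∈ B, x * b * x⁻¹ ∈ A ⊔ B) :
    L ≤ Subgroup.normalizer ((A ⊔ B : Subgroup G) : Set G) := by
  rw [Subgroup.le_normalizer_iff]
  intro x hx k hk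
  have : A ⊔ B ≤ (A ⊔ B).comap (MulAut.conj x).toMonoidHom := by
    apply sup_le
    · intro a ha
      rw [Subgroup.mem_comap]
      simpa using hA x hx a ha
    · intro b hb
      rw [Subgroup.mem_comap]
      simpa using hB x hx b hb
  have := this hk
  rw [Subgroup.mem_comap] at this
  simpa using this

/-- A subgroup H of a group G is subnormal exactly when, for some m, the subgroup obtained from G by taking the commutator with H m times in succession is contained in H. -/
theorem result {G : Type*} [Group G] (H : Subgroup G) : H.IsSubnormal ↔ ∃ m : ℕ, (fun K : Subgroup G => ⁅K, H⁆)^[m] ⊤ ≤ H := by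
  constructor
  · intro h
    induction h with
    | top => exact ⟨0, le_top⟩
    | step H K h_le hSubn hN ih =>
      obtain ⟨m, hm⟩ := ih
      refine ⟨m + 1, ?_⟩
      have hcmp : ∀ j : ℕ, (fun X : Subgroup G => ⁅X, H⁆)^[j] ⊤ ≤ (fun X : Subgroup G => ⁅X, K⁆)^[j] ⊤ := by
        intro j
        induction j with
        | zero => exact le_rfl
        | succ j ihj =>
          rw [Function.iterate_succ_apply', Function.iterate_succ_apply']
          exact Subgroup.commutator_mono ihj h_le
      rw [Function.iterate_succ_apply']
      have h1 : (fun X : Subgroup G => ⁅X, H⁆)^[m] ⊤ ≤ K := (hcmp m).trans hm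
      have h2 : K ≤ Subgroup.normalizer (H : Set G) :=
        (Subgroup.normal_subgroupOf_iff_le_normalizer h_le).mp hN
      have h3 : ⁅K, H⁆ ≤ H := by
        rw [Subgroup.commutator_comm]
        exact Subgroup.le_normalizer_iff_commutator_le_left.mp h2
      exact (Subgroup.commutator_mono h1 le_rfl).trans h3
  · rintro ⟨m, hm⟩
    set γ : ℕ → Subgroup G := fun j => (fun K : Subgroup G => ⁅K, H⁆)^[j] ⊤ with hγ
    have γsucc : ∀ j, γ (j + 1) = ⁅γ j, H⁆ := by
      intro j
      simp only [hγ]
      rw [Function.iterate_succ_apply']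
    have L1 : ∀ j, H ≤ Subgroup.normalizer (γ j : Set G) := by
      intro j
      cases j with
      | zero =>
        have : γ 0 = ⊤ := rfl
        rw [this]
        intro x _
        rw [Subgroup.mem_normalizer_iff]
        intro h; simp
      | succ j =>
        rw [γsucc]
        exact Subgroup.normalizer_commutator_ge_right (H₁ := γ j) (H₂ := H)
    have L2 : ∀ j, γ (j + 1) ≤ γ j := by
      intro j
      rw [γsucc]
      exact Subgroup.le_normalizer_iff_commutator_le_left.mp (L1 j)
    have L3 : ∀ j, H ⊔ γ j ≤ Subgroup.normalizer ((H ⊔ γ (j + 1) : Subgroup G) : Set G) := by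
      intro j
      apply sup_le
      · apply le_normalizer_sup
        · intro x hx a ha
          exact (le_sup_left : H ≤ H ⊔ γ (j + 1)) (H.mul_mem (H.mul_mem hx ha) (H.inv_mem hx))
        · intro x hx b hb
          have := L1 (j + 1) hx
          rw [Subgroup.mem_normalizer_iff] at this
          exact (le_sup_right : γ (j + 1) ≤ H ⊔ γ (j + 1)) ((this b).mp hb)
      · apply le_normalizer_sup
        · intro x hx a ha
          have h1 : x * a * x⁻¹ = ⁅x, a⁆ * a := by
            rw [commutatorElement_def]; group
          rw [h1]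
          apply Subgroup.mul_mem
          · apply (le_sup_right : γ (j + 1) ≤ H ⊔ γ (j + 1))
            rw [γsucc]
            exact Subgroup.commutator_mem_commutator hx ha
          · exact (le_sup_left : H ≤ H ⊔ γ (j + 1)) ha
        · intro x hx b hb
          have h1 : γ j ≤ Subgroup.normalizer ((γ (j + 1) : Subgroup G) : Set G) := by
            rw [γsucc]; exact Subgroup.normalizer_commutator_ge_left (H₁ := γ j) (H₂ := H)
          have := h1 hx
          rw [Subgroup.mem_normalizer_iff] at this
          exact (le_sup_right : γ (j + 1) ≤ H ⊔ γ (j + 1)) ((this b).mp hb)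
    have L4 : ∀ j, (H ⊔ γ j).IsSubnormal := by
      intro j
      induction j with
      | zero =>
        have : H ⊔ γ 0 = ⊤ := by
          have : γ 0 = ⊤ := rfl
          rw [this]; simp
        rw [this]; exact Subgroup.IsSubnormal.top
      | succ j ih =>
        have hle : H ⊔ γ (j + 1) ≤ H ⊔ γ j := sup_le_sup_left (L2 j) H
        exact Subgroup.IsSubnormal.step _ _ hle ih
          ((Subgroup.normal_subgroupOf_iff_le_normalizer hle).mpr (L3 j))
    have : H ⊔ γ m = H := sup_eq_left.mpr hm
    rw [← this]
    exact L4 m

end Cfsg.Agent.S0567
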