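import Mathlib
import Cfsg.Statements.S0569
import Cfsg.Agent.H5.CarterSys

set_option autoImplicit false
open Cfsg

namespace Cfsg.Agent.S0569

open Pointwise
open Cfsg.Agent.Lib.Helper1

/-- In a finite solvable group: each nilpotent self-normalizing subgroup contains the system normalizer of some Hall complement system, and the system normalizer of any Hall complement system lies in some nilpotent self-normalizing subgroup. -/
theorem result {G : Type*} [Group G] [Finite G] [Group.IsSolvable G] : (∀ C : Subgroup G, Cfsg.IsCarterSubgroup C → ∃ K : Nat.Primes → Subgroup G, Cfsg.IsComplementSystem K ∧ Cfsg.systemNormalizer K ≤ C) ∧ ∀ K : Nat.Primes → Subgroup G, Cfsg.IsComplementSystem K → ∃ C : Subgroup G, Cfsg.IsCarterSubgroup C ∧ Cfsg.systemNormalizer K ≤ C := by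
  refine ⟨fun C hC => Cfsg.H5.CS.exists_sysNorm_le C ⟨hC.1, hC.2⟩, fun K' hK' => ?_⟩
  obtain ⟨⟨C, hC⟩, -⟩ := Carter.carterProp _ G rfl
  obtain ⟨K, hK, hKC⟩ := Cfsg.H5.CS.exists_sysNorm_le C hC
  obtain ⟨g, hg⟩ := Cfsg.Agent.S0543.result K K' hK hK'
  refine ⟨MulAut.conj g • C, ?_, ?_⟩
  · have := Carter.isCarter_conj hC g
    exact ⟨this.1, this.2⟩
  · have h1 : K' = fun p => MulAut.conj g • K p := funext fun p => (hg p).symm
    rw [h1, Cfsg.H5.CS.systemNormalizer_conj]
    exact Subgroup.pointwise_smul_le_pointwise_smul_iff.mpr hKC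

end Cfsg.Agent.S0569
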