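import Mathlib
import Cfsg.Statements.S0576

set_option autoImplicit false
open Cfsg

namespace Cfsg.Agent.S0576

/-- Let H be a normal subgroup of a finite group G with H contained in the Frattini subgroup of G. Then the group of inner automorphisms of H is contained in the Frattini subgroup of the automorphism group of H. -/
theorem result {G : Type*} [Group G] [Finite G] (H : Subgroup G) [H.Normal] (hH : H ≤ frattini G) : (MulAut.conj : ↥H →* MulAut ↥H).range ≤ frattini (MulAut ↥H) := by
  by_contra hcon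
  have h1 : ∃ M : Subgroup (MulAut ↥H), IsCoatom M ∧
      ¬ (MulAut.conj : ↥H →* MulAut ↥H).range ≤ M := by
    by_contra hno
    push Not at hno
    apply hcon
    unfold frattini Order.radical
    exact le_iInf₂ fun M hM => hno M hM
  obtain ⟨M, hM, hIM⟩ := h1
  have hIn : ((MulAut.conj : ↥H →* MulAut ↥H).range).Normal := by
    constructor
    rintro _ ⟨h, rfl⟩ φ
    refine ⟨φ h, ?_⟩
    ext x
    simp [MulAut.conj_apply]
  have hsup : (MulAut.conj : ↥H →* MulAut ↥H).range ⊔ M = ⊤ := by
    apply hM.2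
    exact lt_of_le_of_ne le_sup_right (fun h => hIM (h ▸ le_sup_left))
  -- the preimage of `M` under the conjugation map
  have hX : H ⊔ M.comap (MulAut.conjNormal : G →* MulAut ↥H) = ⊤ := by
    rw [eq_top_iff]
    intro g _
    have hg : (MulAut.conjNormal g : MulAut ↥H) ∈
        (((MulAut.conj : ↥H →* MulAut ↥H).range ⊔ M : Subgroup (MulAut ↥H)) :
          Set (MulAut ↥H)) := by rw [hsup]; trivial
    rw [Subgroup.normal_mul] at hg
    obtain ⟨_, ⟨h, rfl⟩, m, hm, hgm⟩ := hg
    have h2 : (MulAut.conjNormal ((h : G)⁻¹ * g) : MulAut ↥H) = m := by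
      rw [map_mul, map_inv, MulAut.conjNormal_val, ← hgm, inv_mul_cancel_left]
    have h3 : (h : G)⁻¹ * g ∈ M.comap (MulAut.conjNormal : G →* MulAut ↥H) := by
      rw [Subgroup.mem_comap, h2]; exact hm
    have e : g = (h : G) * ((h : G)⁻¹ * g) := by group
    rw [e]
    exact Subgroup.mul_mem _ ((le_sup_left : H ≤ _) h.2) ((le_sup_right : _ ≤ H ⊔ _) h3)
  have hX2 : M.comap (MulAut.conjNormal : G →* MulAut ↥H) = ⊤ := by
    have h5 : M.comap (MulAut.conjNormal : G →* MulAut ↥H) ⊔ frattini G = ⊤ := by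
      refine top_le_iff.1 ?_
      calc (⊤ : Subgroup G) = H ⊔ M.comap (MulAut.conjNormal : G →* MulAut ↥H) := hX.symm
        _ ≤ M.comap (MulAut.conjNormal : G →* MulAut ↥H) ⊔ frattini G :=
          sup_le (hH.trans le_sup_right) le_sup_left
    exact frattini_nongenerating h5
  apply hIM
  rintro _ ⟨h, rfl⟩
  have h4 : (h : G) ∈ M.comap (MulAut.conjNormal : G →* MulAut ↥H) := by rw [hX2]; trivial
  rw [Subgroup.mem_comap, MulAut.conjNormal_val] at h4
  exact h4

end Cfsg.Agent.S0576
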