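import Mathlib
import Cfsg.Statements.S0577
import Cfsg.Agent.S0536
import Cfsg.Agent.S1884
import Cfsg.Agent.Lib.Helper1.Frattini
import Cfsg.Agent.Lib.Helper1.Cores
import Cfsg.Agent.Lib.Helper11.NilSylow
import Cfsg.Agent.Lib.Helper13.Sylow
import Cfsg.Agent.Lib.Helper16.SylowInf
import Cfsg.Agent.H5.Card

set_option autoImplicit false
open Cfsg
open scoped commutatorElement

namespace Cfsg.Agent.S0577

/-- a product of two normal nilpotent subgroups generating a finite group is nilpotent -/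
theorem isNilpotent_of_sup_eq_top {G : Type*} [Group G] [Finite G] (A B : Subgroup G)
    (hA : A.Normal) (hB : B.Normal) (hAn : Group.IsNilpotent A) (hBn : Group.IsNilpotent B)
    (h : A ⊔ B = ⊤) : Group.IsNilpotent G := by
  have h1 : A ≤ Cfsg.fittingSubgroup G := Cfsg.Agent.Lib.Helper1.le_fittingSubgroup hA hAn
  have h2 : B ≤ Cfsg.fittingSubgroup G := Cfsg.Agent.Lib.Helper1.le_fittingSubgroup hB hBn
  have h3 : Cfsg.fittingSubgroup G = ⊤ := top_le_iff.1 (h ▸ sup_le h1 h2)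
  have h4 : Group.IsNilpotent ↥(Cfsg.fittingSubgroup G) :=
    Cfsg.Agent.Lib.Helper1.fittingSubgroup_isNilpotent
  rw [h3] at h4
  exact (Group.isNilpotent_congr Subgroup.topEquiv).1 h4

/-- Let G be a finite minimal non-nilpotent group and Q a normal Sylow q-subgroup of G, and let D be the commutator subgroup of Q regarded in G (a normal subgroup). Then G modulo D is non-abelian and all its proper subgroups are abelian. -/
theorem result {G : Type*} [Group G] [Finite G] (hG : Cfsg.IsMinimalNonNilpotent G) (q : ℕ) [Fact q.Prime] (hq : q ∣ Nat.card G) (Q : Sylow q G) (hQ : (Q : Subgroup G).Normal) (D : Subgroup G) [D.Normal] (hD : D = (commutator ↥(Q : Subgroup G)).map (Q : Subgroup G).subtype) : ¬ IsMulCommutative (G ⧸ D) ∧ ∀ K : Subgroup (G ⧸ D), K ≠ ⊤ → IsMulCommutative K := by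
  have hqp : q.Prime := Fact.out
  obtain ⟨p₀, q₀, hp₀, hq₀, hne, P₀, Q₀, hcyc, hQ₀n, hsup⟩ := Cfsg.Agent.S0536.result hG
  obtain ⟨hnn, hprop⟩ := hG
  have : Fact p₀.Prime := ⟨hp₀⟩
  have : Fact q₀.Prime := ⟨hq₀⟩
  -- the order of `G`
  obtain ⟨a, ha⟩ := P₀.isPGroup'.exists_card_eq
  obtain ⟨b, hb⟩ := Q₀.isPGroup'.exists_card_eq
  have hcop : (Nat.card (P₀ : Subgroup G)).Coprime (Nat.card (Q₀ : Subgroup G)) := by
    rw [ha, hb]
    exact Nat.Coprime.pow _ _ ((Nat.coprime_primes hp₀ hq₀).2 hne)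
  have hcard : Nat.card G = p₀ ^ a * q₀ ^ b := by
    have h1 := Cfsg.H5.card_sup_mul_card_inf (H := (P₀ : Subgroup G)) (N := (Q₀ : Subgroup G))
      (by rw [Subgroup.normalizer_eq_top_iff.2 hQ₀n]; exact le_top)
    rw [hsup, Subgroup.card_top, disjoint_iff.1 (Subgroup.disjoint_of_coprime_natCard hcop),
      Subgroup.card_bot, mul_one, ha, hb] at h1
    exact h1
  -- `q = q₀`
  have hqq : q = q₀ := by
    rw [hcard] at hq
    rcases (Nat.Prime.dvd_mul hqp).1 hq with h | h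
    · exfalso
      have h1 : q = p₀ := (Nat.prime_dvd_prime_iff_eq hqp hp₀).1 (hqp.dvd_of_dvd_pow h)
      subst h1
      apply hnn
      obtain ⟨g, hg⟩ := MulAction.exists_smul_eq G Q P₀
      have hP₀Q : P₀ = Q := by rw [← hg]; exact Sylow.smul_eq_of_normal
      have hP₀n : (P₀ : Subgroup G).Normal := by rw [hP₀Q]; exact hQ
      exact isNilpotent_of_sup_eq_top _ _ hP₀n hQ₀n P₀.isPGroup'.isNilpotent
        Q₀.isPGroup'.isNilpotent hsup
    · exact (Nat.prime_dvd_prime_iff_eq hqp hq₀).1 (hqp.dvd_of_dvd_pow h)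
  subst hqq
  have hQQ₀ : Q₀ = Q := by
    obtain ⟨g, hg⟩ := MulAction.exists_smul_eq G Q Q₀
    rw [← hg]; exact Sylow.smul_eq_of_normal
  subst hQQ₀
  have hDcomm : D = ⁅(Q₀ : Subgroup G), (Q₀ : Subgroup G)⁆ := by
    rw [hD, Subgroup.map_subtype_commutator]
  -- `D ≤ Φ(G)`
  have hDfr : D ≤ frattini G := by
    rw [hD]
    refine le_trans (Subgroup.map_mono ?_) (Cfsg.Agent.S1884.frattini_map_subtype_le (Q₀ : Subgroup G))
    exact Cfsg.Agent.Lib.Helper1.IsPGroup.commutator_le_frattini Q₀.isPGroup'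
  refine ⟨?_, ?_⟩
  · intro hcomm
    apply hnn
    apply Cfsg.Agent.Lib.Helper1.isNilpotent_of_quotient_frattini
    have h1 : _root_.commutator G ≤ D :=
      Subgroup.Normal.quotient_commutative_iff_commutator_le.1 hcomm
    have h2 : IsMulCommutative (G ⧸ frattini G) :=
      Subgroup.Normal.quotient_commutative_iff_commutator_le.2 (h1.trans hDfr)
    let _ : CommGroup (G ⧸ frattini G) :=
      { (inferInstance : Group (G ⧸ frattini G)) with mul_comm := fun x y => mul_comm' x y }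
    exact CommGroup.isNilpotent
  · intro Kb hKb
    have hsurj := QuotientGroup.mk'_surjective D
    obtain ⟨K, hKdef⟩ : ∃ K : Subgroup G, K = Kb.comap (QuotientGroup.mk' D) := ⟨_, rfl⟩
    have hKtop : K ≠ ⊤ := by
      intro h
      apply hKb
      rw [← Subgroup.map_comap_eq_self_of_surjective hsurj Kb, ← hKdef, h,
        Subgroup.map_top_of_surjective _ hsurj]
    have hKnil : Group.IsNilpotent ↥K := hprop K hKtop
    -- commutators of elements of `K` lie in `D`
    have key : ∀ x ∈ K, ∀ y ∈ K, ⁅x, y⁆ ∈ D := by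
      -- decomposition of an element of `K`
      have hdec : ∀ x ∈ K, ∃ t u : G, t ∈ K ∧ u ∈ K ∧ x = t * u ∧ t ∈ (Q₀ : Subgroup G) ∧
          (∃ k : ℕ, orderOf t = q ^ k) ∧ (∃ j : ℕ, orderOf u = p₀ ^ j) ∧ t * u = u * t := by
        intro x hx
        obtain ⟨t, u, ht, hu, hxtu, ⟨k, hk⟩, hcu⟩ := Cfsg.Agent.Lib.Helper16.exists_p_decomp' q x
        have hzK : Subgroup.zpowers x ≤ K := Subgroup.zpowers_le.2 hx
        have htQ : t ∈ (Q₀ : Subgroup G) := by
          have hz : IsPGroup q (Subgroup.zpowers t) :=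
            IsPGroup.of_card (n := k) (by rw [Nat.card_zpowers, hk])
          obtain ⟨Q', hQ'⟩ := hz.exists_le_sylow
          obtain ⟨g, hg⟩ := MulAction.exists_smul_eq G Q₀ Q'
          have : Q' = Q₀ := by rw [← hg]; exact Sylow.smul_eq_of_normal
          rw [← this]; exact hQ' (Subgroup.mem_zpowers t)
        have huo : ∃ j : ℕ, orderOf u = p₀ ^ j := by
          have h1 : orderOf u ∣ p₀ ^ a * q ^ b := hcard ▸ orderOf_dvd_natCard u
          have h2 : orderOf u ∣ p₀ ^ a :=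
            Nat.Coprime.dvd_of_dvd_mul_right (Nat.Coprime.pow_right b hcu) h1
          obtain ⟨j, _, hj⟩ := (Nat.dvd_prime_pow hp₀).1 h2
          exact ⟨j, hj⟩
        have hcomm : t * u = u * t := by
          obtain ⟨i, rfl⟩ := Subgroup.mem_zpowers_iff.1 ht
          obtain ⟨j, rfl⟩ := Subgroup.mem_zpowers_iff.1 hu
          exact (Commute.zpow_zpow_self x i j)
        exact ⟨t, u, hzK ht, hzK hu, hxtu, htQ, ⟨k, hk⟩, huo, hcomm⟩
      -- `p₀`-elements of `K` commute
      have hpp : ∀ u ∈ K, ∀ v ∈ K, (∃ j : ℕ, orderOf u = p₀ ^ j) → (∃ j : ℕ, orderOf v = p₀ ^ j) →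
          u * v = v * u := by
        intro u hu v hv ⟨j, hj⟩ ⟨l, hl⟩
        obtain ⟨S⟩ : Nonempty (Sylow p₀ ↥K) := inferInstance
        have huS : (⟨u, hu⟩ : ↥K) ∈ S :=
          Cfsg.Agent.Lib.Helper11.mem_sylow_of_orderOf_eq_prime_pow S
            (by rw [Subgroup.orderOf_mk]; exact hj)
        have hvS : (⟨v, hv⟩ : ↥K) ∈ S :=
          Cfsg.Agent.Lib.Helper11.mem_sylow_of_orderOf_eq_prime_pow S
            (by rw [Subgroup.orderOf_mk]; exact hl)
        have hSp : IsPGroup p₀ ((S : Subgroup ↥K).map K.subtype) := S.isPGroup'.map _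
        obtain ⟨P', hP'⟩ := hSp.exists_le_sylow
        obtain ⟨g, hg⟩ := MulAction.exists_smul_eq G P₀ P'
        have hu' : u ∈ ((g • P₀ : Sylow p₀ G) : Subgroup G) := by
          rw [hg]; exact hP' ⟨⟨u, hu⟩, huS, rfl⟩
        have hv' : v ∈ ((g • P₀ : Sylow p₀ G) : Subgroup G) := by
          rw [hg]; exact hP' ⟨⟨v, hv⟩, hvS, rfl⟩
        rw [Cfsg.Agent.Lib.Helper13.mem_smul_sylow_iff] at hu' hv'
        have h1 := mul_comm' (⟨_, hu'⟩ : ↥(P₀ : Subgroup G)) ⟨_, hv'⟩
        have h2 : (g⁻¹ * u * g) * (g⁻¹ * v * g) = (g⁻¹ * v * g) * (g⁻¹ * u * g) :=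
          congrArg Subtype.val h1
        have e1 : u * v = g * ((g⁻¹ * u * g) * (g⁻¹ * v * g)) * g⁻¹ := by group
        have e2 : v * u = g * ((g⁻¹ * v * g) * (g⁻¹ * u * g)) * g⁻¹ := by group
        rw [e1, e2, h2]
      intro x hx y hy
      obtain ⟨tx, ux, htxK, huxK, rfl, htxQ, htxo, huxo, hcx⟩ := hdec x hx
      obtain ⟨ty, uy, htyK, huyK, rfl, htyQ, htyo, huyo, hcy⟩ := hdec y hy
      have hqp₀ : q ≠ p₀ := fun h => hne h.symm
      have c1 : tx * uy = uy * tx :=
        Cfsg.Agent.S0536.commute_of_nilpotent hqp₀ K hKnil tx uy htxK huyK htxo huyo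
      have c2 : ty * ux = ux * ty :=
        Cfsg.Agent.S0536.commute_of_nilpotent hqp₀ K hKnil ty ux htyK huxK htyo huxo
      have c5 : ux * uy = uy * ux := hpp ux huxK uy huyK huxo huyo
      have e : ⁅tx * ux, ty * uy⁆ = ⁅tx, ty⁆ := by
        simp only [commutatorElement_def, mul_inv_rev]
        have c1' : Commute tx uy := c1
        have c2' : Commute ty ux := c2
        have c5' : Commute ux uy := c5
        have cx' : Commute tx ux := hcx
        have cy' : Commute ty uy := hcy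
        calc tx * ux * (ty * uy) * (ux⁻¹ * tx⁻¹) * (uy⁻¹ * ty⁻¹)
            = tx * (ux * ty) * (uy * ux⁻¹) * (tx⁻¹ * uy⁻¹) * ty⁻¹ := by group
          _ = tx * (ty * ux) * (ux⁻¹ * uy) * (uy⁻¹ * tx⁻¹) * ty⁻¹ := by
              rw [c2'.eq, (c5'.inv_left).eq, (c1'.inv_inv).eq]
          _ = tx * ty * tx⁻¹ * ty⁻¹ := by group
      rw [e, hDcomm]
      exact Subgroup.commutator_mem_commutator htxQ htyQ
    refine ⟨⟨fun a b => ?_⟩⟩
    apply Subtype.ext
    obtain ⟨x, hx⟩ := hsurj a.1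
    obtain ⟨y, hy⟩ := hsurj b.1
    have hxK : x ∈ K := by rw [hKdef, Subgroup.mem_comap, hx]; exact a.2
    have hyK : y ∈ K := by rw [hKdef, Subgroup.mem_comap, hy]; exact b.2
    have h1 := key x hxK y hyK
    rw [← QuotientGroup.eq_one_iff, ← QuotientGroup.mk'_apply, map_commutatorElement,
      commutatorElement_eq_one_iff_mul_comm, hx, hy] at h1
    exact h1

end Cfsg.Agent.S0577
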