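import Cfsg.Statements.S0578
import Mathlib

set_option autoImplicit false
open Cfsg
open scoped commutatorElement

namespace Cfsg.Agent.S0578

/-- A nilpotent group in which the normalizer of every abelian subgroup centralizes it is abelian. -/
theorem comm_of_nilpotent {Q : Type*} [Group Q] [hnil : Group.IsNilpotent Q]
    (h : ∀ A : Subgroup Q, IsMulCommutative A → Subgroup.normalizer (A : Set Q) ≤ Subgroup.centralizer (A : Set Q)) :
    ∀ a b : Q, a * b = b * a := by
  by_contra hcon
  have hne : Subgroup.upperCentralSeries Q 1 ≠ Subgroup.upperCentralSeries Q 2 := by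
    intro heq
    have htop := upperCentralSeries.eq_top (by norm_num : (1 : ℕ) ≠ 2) heq
    rw [Subgroup.upperCentralSeries_one] at htop
    apply hcon
    intro a b
    have : a ∈ Subgroup.center Q := by rw [htop]; trivial
    exact (Subgroup.mem_center_iff.mp this b).symm
  have hlt : Subgroup.upperCentralSeries Q 1 < Subgroup.upperCentralSeries Q 2 :=
    lt_of_le_of_ne (Subgroup.upperCentralSeries_mono Q (by norm_num)) hne
  obtain ⟨x, hx2, hx1⟩ := SetLike.exists_of_lt hlt
  rw [Subgroup.upperCentralSeries_one] at hx1
  -- A = ⟨Z(Q), x⟩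
  set A : Subgroup Q := Subgroup.closure ((Subgroup.center Q : Set Q) ∪ {x}) with hA
  have hAab : IsMulCommutative A := by
    apply Subgroup.isMulCommutative_closure
    rintro y (hy | hy) z (hz | hz)
    · exact (Subgroup.mem_center_iff.mp hz y)
    · exact (Subgroup.mem_center_iff.mp hy z).symm
    · exact (Subgroup.mem_center_iff.mp hz y)
    · rw [Set.mem_singleton_iff] at hy hz; rw [hy, hz]
  have hZA : Subgroup.center Q ≤ A := by
    intro z hz; exact Subgroup.subset_closure (Or.inl hz)
  have hxA : x ∈ A := Subgroup.subset_closure (Or.inr rfl)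
  have hA2 : A ≤ Subgroup.upperCentralSeries Q 2 := by
    rw [hA, Subgroup.closure_le]
    rintro y (hy | hy)
    · have : Subgroup.upperCentralSeries Q 1 ≤ Subgroup.upperCentralSeries Q 2 := Subgroup.upperCentralSeries_mono Q (by norm_num)
      rw [Subgroup.upperCentralSeries_one] at this
      exact this hy
    · rw [Set.mem_singleton_iff] at hy; rw [hy]; exact hx2
  -- A is normal
  have hAn : Subgroup.normalizer (A : Set Q) = ⊤ := by
    rw [eq_top_iff]
    intro g _
    rw [Subgroup.mem_normalizer_iff']
    intro n
    have key : ∀ g : Q, ∀ n ∈ A, g * n * g⁻¹ ∈ A := by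
      intro g n hn
      have h2 := (Subgroup.mem_upperCentralSeries_succ_iff (n := 1)).mp (hA2 hn) g
      rw [Subgroup.upperCentralSeries_one] at h2
      have h3 : (n * g * n⁻¹ * g⁻¹)⁻¹ ∈ A := A.inv_mem (hZA h2)
      have h4 := A.mul_mem h3 hn
      have e : (n * g * n⁻¹ * g⁻¹)⁻¹ * n = g * n * g⁻¹ := by group
      rwa [e] at h4
    constructor
    · intro hn
      have := key g _ hn
      have e : g * (n * g) * g⁻¹ = g * n := by group
      rwa [e] at this
    · intro hn
      have := key g⁻¹ _ hn
      have e : g⁻¹ * (g * n) * g⁻¹⁻¹ = n * g := by group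
      rwa [e] at this
  have hcent := h A hAab
  rw [hAn] at hcent
  apply hx1
  rw [Subgroup.mem_center_iff]
  intro g
  have := hcent (Subgroup.mem_top g)
  rw [Subgroup.mem_centralizer_iff] at this
  exact (this x hxA).symm

/-- If in a finite group the normalizer of each abelian subgroup coincides with its centralizer, then the group is abelian. -/
theorem result {G : Type*} [Group G] [Finite G] (h : ∀ A : Subgroup G, IsMulCommutative A → Subgroup.normalizer (A : Set G) = Subgroup.centralizer (A : Set G)) : IsMulCommutative G := by
  -- Step 1: Sylow subgroups are abelian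
  have hSyl : ∀ (p : ℕ) [Fact p.Prime] (P : Sylow p G), IsMulCommutative (P : Subgroup G) := by
    intro p _ P
    have : Group.IsNilpotent (P : Subgroup G) := P.isPGroup'.isNilpotent
    apply IsMulCommutative.of_comm
    apply comm_of_nilpotent
    intro A' hA' y hy
    have hAab : IsMulCommutative (A'.map (P : Subgroup G).subtype) := inferInstance
    have hyN : (y : G) ∈ Subgroup.normalizer ((A'.map (P : Subgroup G).subtype : Subgroup G) : Set G) := by
      have := Subgroup.le_normalizer_map (P : Subgroup G).subtype (H := A') (Subgroup.mem_map_of_mem _ hy)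
      exact this
    rw [h _ hAab, Subgroup.mem_centralizer_iff] at hyN
    rw [Subgroup.mem_centralizer_iff]
    intro a ha
    apply Subtype.ext
    exact hyN a (Subgroup.mem_map_of_mem (P : Subgroup G).subtype ha)
  -- Step 2: the commutator subgroup is trivial
  have hD : commutator G = ⊥ := by
    by_contra hne
    have hcard : Nat.card (commutator G) ≠ 1 := by
      intro h1
      exact hne (Subgroup.card_eq_one.mp h1)
    obtain ⟨p, hp, hpd⟩ := Nat.exists_prime_and_dvd hcard
    have : Fact p.Prime := ⟨hp⟩
    obtain ⟨P⟩ : Nonempty (Sylow p G) := inferInstance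
    have hPab := hSyl p P
    have hP : Subgroup.normalizer ((P : Subgroup G) : Set G) ≤ Subgroup.centralizer ((P : Subgroup G) : Set G) :=
      (h _ hPab).le
    have hle : commutator G ≤ (MonoidHom.transferSylow P hP).ker := by
      rw [commutator_def, Subgroup.commutator_le]
      intro a _ b _
      rw [MonoidHom.mem_ker, map_commutatorElement, commutatorElement_eq_one_iff_commute]
      exact mul_comm' _ _
    have := Subgroup.card_dvd_of_le hle
    exact MonoidHom.not_dvd_card_ker_transferSylow P hP (hpd.trans this)
  apply IsMulCommutative.of_comm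
  intro a b
  have : ⁅a, b⁆ ∈ commutator G := by
    rw [commutator_def]
    exact Subgroup.commutator_mem_commutator (Subgroup.mem_top a) (Subgroup.mem_top b)
  rw [hD, Subgroup.mem_bot, commutatorElement_eq_one_iff_commute] at this
  exact this.eq

end Cfsg.Agent.S0578
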