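-- Statement S0580: if every maximal subgroup has prime index, the group is solvable.
import Mathlib
import Cfsg.Statements.S0580

set_option autoImplicit false
open Cfsg

namespace Cfsg.Agent.S0580

universe u

/-- A subgroup containing the normalizer of a Sylow `p`-subgroup has index `≡ 1 mod p`. -/
theorem index_modEq_one {G : Type*} [Group G] [Finite G] {p : ℕ} [Fact p.Prime] (P : Sylow p G)
    (M : Subgroup G) (hM : Subgroup.normalizer ((P : Subgroup G) : Set G) ≤ M) :
    M.index ≡ 1 [MOD p] := by
  have hPM : (P : Subgroup G) ≤ M := Subgroup.le_normalizer.trans hM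
  have h1 : Nat.card (Sylow p G) = (Subgroup.normalizer ((P : Subgroup G) : Set G)).index :=
    P.card_eq_index_normalizer
  have h2 : Nat.card (Sylow p M) =
      (Subgroup.normalizer ((P : Subgroup G) : Set G)).relIndex M := by
    rw [(P.subtype hPM).card_eq_index_normalizer]
    have : ((P.subtype hPM : Sylow p M) : Subgroup M) = (P : Subgroup G).subgroupOf M :=
      Sylow.coe_subtype P hPM
    change (Subgroup.normalizer (((P.subtype hPM : Sylow p M) : Subgroup M) : Set M)).index = _
    rw [this, ← Subgroup.subgroupOf_normalizer_eq hPM]
    rfl
  have h3 := Subgroup.relIndex_mul_index hM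
  have h4 : Nat.card (Sylow p M) * M.index = Nat.card (Sylow p G) := by rw [h1, h2, h3]
  have h5 := card_sylow_modEq_one p G
  have h6 := card_sylow_modEq_one p M
  calc M.index = 1 * M.index := (one_mul _).symm
    _ ≡ Nat.card (Sylow p M) * M.index [MOD p] := (h6.symm).mul_right _
    _ = Nat.card (Sylow p G) := h4
    _ ≡ 1 [MOD p] := h5

theorem solvable_aux : ∀ (n : ℕ) (G : Type u) [Group G] [Finite G], Nat.card G = n →
    (∀ M : Subgroup G, IsCoatom M → M.index.Prime) → Group.IsSolvable G := by
  intro n
  induction n using Nat.strong_induction_on with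
  | _ n ih =>
    intro G _ _ hn h
    by_cases htriv : Nat.card G = 1
    · have : Subsingleton G := (Nat.card_eq_one_iff_unique.mp htriv).1
      infer_instance
    -- the largest prime divisor of `|G|`
    have hne : (Nat.card G).primeFactors.Nonempty := by
      rw [Nat.nonempty_primeFactors]
      have : 0 < Nat.card G := Nat.card_pos
      omega
    obtain ⟨p, hp, hpmax⟩ := Finset.exists_max_image (Nat.card G).primeFactors id hne
    have hpp : p.Prime := Nat.prime_of_mem_primeFactors hp
    have hpd : p ∣ Nat.card G := Nat.dvd_of_mem_primeFactors hp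
    have : Fact p.Prime := ⟨hpp⟩
    obtain ⟨P⟩ : Nonempty (Sylow p G) := inferInstance
    -- `P` is normal
    have hPn : (P : Subgroup G).Normal := by
      rw [← Subgroup.normalizer_eq_top_iff]
      by_contra hnt
      rcases eq_top_or_exists_le_coatom (Subgroup.normalizer ((P : Subgroup G) : Set G)) with
        h1 | ⟨M, hM, hle⟩
      · exact hnt h1
      · have hq := h M hM
        have hmod := index_modEq_one P M hle
        have hqd : M.index ∣ Nat.card G := M.index_dvd_card
        have hqle : M.index ≤ p := hpmax M.index (by
          rw [Nat.mem_primeFactors]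
          exact ⟨hq, hqd, Nat.card_pos.ne'⟩)
        -- `q ≡ 1 mod p` and `q ≤ p` is impossible for a prime `q`
        have h2 : 2 ≤ M.index := hq.two_le
        rcases Nat.lt_or_eq_of_le hqle with hlt | heq
        · have : M.index % p = 1 % p := hmod
          rw [Nat.mod_eq_of_lt hlt, Nat.mod_eq_of_lt hpp.one_lt] at this
          omega
        · have : M.index % p = 1 % p := hmod
          rw [heq, Nat.mod_self, Nat.mod_eq_of_lt hpp.one_lt] at this
          omega
    -- the quotient is smaller
    have hPne : (P : Subgroup G) ≠ ⊥ := P.ne_bot_of_dvd_card hpd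
    have hcardP : 1 < Nat.card (P : Subgroup G) := by
      rw [Subgroup.one_lt_card_iff_ne_bot]
      exact hPne
    have hlt : Nat.card (G ⧸ (P : Subgroup G)) < n := by
      have h1 := (P : Subgroup G).card_mul_index
      rw [hn] at h1
      have h2 : (P : Subgroup G).index = Nat.card (G ⧸ (P : Subgroup G)) := rfl
      rw [← h2]
      have hpos : 0 < (P : Subgroup G).index := Nat.pos_of_ne_zero Subgroup.FiniteIndex.index_ne_zero
      nlinarith
    have hquot : Group.IsSolvable (G ⧸ (P : Subgroup G)) := by
      apply ih _ hlt (G ⧸ (P : Subgroup G)) rfl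
      intro M' hM'
      have hco := Subgroup.isCoatom_comap_of_surjective
        (QuotientGroup.mk'_surjective (P : Subgroup G)) hM'
      have := h _ hco
      rwa [Subgroup.index_comap_of_surjective _ (QuotientGroup.mk'_surjective (P : Subgroup G))]
        at this
    have hPsolv : Group.IsSolvable (P : Subgroup G) := by
      have := P.isPGroup'.isNilpotent
      infer_instance
    exact Group.isSolvable_of_ker_le_range (P : Subgroup G).subtype
      (QuotientGroup.mk' (P : Subgroup G)) (by
        rw [QuotientGroup.ker_mk', Subgroup.range_subtype])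

/-- If every maximal subgroup of a finite group has prime index, then the group is solvable. -/
theorem result {G : Type*} [Group G] [Finite G] (h : ∀ M : Subgroup G, IsCoatom M → M.index.Prime) : Group.IsSolvable G := by
  exact solvable_aux _ G rfl h

end Cfsg.Agent.S0580
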