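import Cfsg.Statements.S0582
import Mathlib
import Cfsg.Agent.S0529
import Cfsg.Agent.S0545
import Cfsg.Agent.Lib.Helper4.Supersolvable
import Cfsg.Agent.Lib.Helper1.Hall
import Cfsg.Agent.Lib.Helper1.Basic

set_option autoImplicit false
open Pointwise
open Cfsg

namespace Cfsg.Agent.S0582

universe u

open Cfsg.Agent.Lib.Helper1 Cfsg.Agent.Lib.Helper4

/-- a supersolvable group has a normal Sylow subgroup for the largest prime divisor of its order -/
theorem exists_normal_sylow_max (n : ℕ) : ∀ (G : Type u) [Group G] [Finite G], Nat.card G = n →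
    Cfsg.IsSupersolvable G → ∀ p : ℕ, p.Prime → p ∣ Nat.card G →
    (∀ q : ℕ, q.Prime → q ∣ Nat.card G → q ≤ p) →
    ∃ P : Subgroup G, P.Normal ∧ IsPGroup p P ∧ ¬ p ∣ P.index := by
  induction n using Nat.strong_induction_on with
  | _ n ih =>
  intro G _ _ hn hG p hp hpd hmax
  have : Fact p.Prime := ⟨hp⟩
  obtain ⟨N, hNn, hNcard⟩ := Cfsg.Agent.S0529.exists_normal_card_eq_max_prime hG p hp hpd hmax
  have hcardQ : Nat.card (G ⧸ N) * p = Nat.card G := by
    rw [← hNcard, ← Subgroup.index_eq_card, mul_comm, Subgroup.card_mul_index]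
  by_cases hpQ : p ∣ Nat.card (G ⧸ N)
  · have hlt : Nat.card (G ⧸ N) < n := by
      rw [← hn, ← hcardQ]
      have h0 : 0 < Nat.card (G ⧸ N) := Nat.card_pos
      have h2 : 2 ≤ p := hp.two_le
      nlinarith
    have hdvd : Nat.card (G ⧸ N) ∣ Nat.card G := Dvd.intro _ hcardQ
    obtain ⟨Pb, hPbn, hPbp, hPbi⟩ := ih _ hlt (G ⧸ N) rfl (isSupersolvable_quotient N hG) p hp hpQ
      (fun q hq hqd => hmax q hq (dvd_trans hqd hdvd))
    refine ⟨Pb.comap (QuotientGroup.mk' N), hPbn.comap _, ?_, ?_⟩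
    · obtain ⟨k, hk⟩ := IsPGroup.iff_card.1 hPbp
      apply IsPGroup.of_card (n := k + 1)
      rw [card_comap_mk, hk, hNcard, pow_succ]
    · rw [Subgroup.index_comap_of_surjective Pb (QuotientGroup.mk'_surjective N)]
      exact hPbi
  · refine ⟨N, hNn, IsPGroup.of_card (n := 1) (by rw [hNcard, pow_one]), ?_⟩
    rwa [Subgroup.index_eq_card]

/-- conjugacy in `N / P` lifts to conjugacy in `G` -/
theorem conj_lift {G : Type u} [Group G] (N P X Y : Subgroup G)
    (hPn : (P.subgroupOf N).Normal) (hX : X ≤ N) (hY : Y ≤ N) (hPX : P ≤ X) (hPY : P ≤ Y)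
    (h : ∃ c : N ⧸ P.subgroupOf N,
      MulAut.conj c • (X.subgroupOf N).map (QuotientGroup.mk' (P.subgroupOf N)) =
        (Y.subgroupOf N).map (QuotientGroup.mk' (P.subgroupOf N))) :
    ∃ x : G, MulAut.conj x • X = Y := by
  obtain ⟨c, hc⟩ := h
  obtain ⟨m, rfl⟩ := QuotientGroup.mk'_surjective _ c
  have h1 : (MulAut.conj m • X.subgroupOf N).map (QuotientGroup.mk' (P.subgroupOf N)) =
      (Y.subgroupOf N).map (QuotientGroup.mk' (P.subgroupOf N)) := by
    rw [map_conj_smul]; exact hc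
  have h2 := congrArg (Subgroup.comap (QuotientGroup.mk' (P.subgroupOf N))) h1
  rw [Subgroup.comap_map_eq, Subgroup.comap_map_eq, QuotientGroup.ker_mk'] at h2
  have h3 : P.subgroupOf N ≤ Y.subgroupOf N := Subgroup.subgroupOf_mono N hPY
  have h4 : P.subgroupOf N ≤ MulAut.conj m • X.subgroupOf N := by
    intro z hz
    rw [mem_conj_smul]
    have h5 : m⁻¹ * z * m ∈ P.subgroupOf N := by
      have := hPn.conj_mem z hz m⁻¹
      simpa using this
    exact Subgroup.subgroupOf_mono N hPX h5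
  rw [sup_eq_left.2 h3, sup_eq_left.2 h4] at h2
  exact ⟨m, conj_of_conj_subgroupOf hX hY m h2⟩

theorem main (n : ℕ) : ∀ (G : Type u) [Group G] [Finite G] (H K : Subgroup G),
    Cfsg.IsSupersolvable H → Cfsg.IsSupersolvable K → Nat.card H = n → Nat.card K = n →
    (Nat.card H).Coprime H.index → ∃ x : G, MulAut.conj x • H = K := by
  induction n using Nat.strong_induction_on with
  | _ n ih =>
  intro G _ _ H K hH hK hHn hKn hHall
  rcases Nat.lt_or_ge 1 n with h1n | h1n
  swap
  · -- trivial groups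
    have hn1 : n = 1 := by
      have : 0 < Nat.card H := Nat.card_pos
      omega
    have hH1 : H = ⊥ := Subgroup.card_eq_one.1 (hHn.trans hn1)
    have hK1 : K = ⊥ := Subgroup.card_eq_one.1 (hKn.trans hn1)
    refine ⟨1, ?_⟩
    rw [hH1, hK1]
    simp
  -- the largest prime divisor of `n`
  have hne : n.primeFactors.Nonempty := Nat.nonempty_primeFactors.2 h1n
  set p := n.primeFactors.max' hne with hpdef
  have hpmem : p ∈ n.primeFactors := Finset.max'_mem _ hne
  have hp : p.Prime := Nat.prime_of_mem_primeFactors hpmem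
  have hpn : p ∣ n := Nat.dvd_of_mem_primeFactors hpmem
  have hpmax : ∀ q : ℕ, q.Prime → q ∣ n → q ≤ p := by
    intro q hq hqn
    apply Finset.le_max'
    exact Nat.mem_primeFactors.2 ⟨hq, hqn, by omega⟩
  have : Fact p.Prime := ⟨hp⟩
  obtain ⟨PH, hPHn, hPHp, hPHi⟩ := exists_normal_sylow_max n H hHn hH p hp (hHn ▸ hpn)
    (fun q hq hqd => hpmax q hq (hHn ▸ hqd))
  obtain ⟨PK, hPKn, hPKp, hPKi⟩ := exists_normal_sylow_max n K hKn hK p hp (hKn ▸ hpn)
    (fun q hq hqd => hpmax q hq (hKn ▸ hqd))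
  have hKidx : K.index = H.index := by
    have h1 := Subgroup.card_mul_index K
    have h2 := Subgroup.card_mul_index H
    rw [hKn] at h1
    rw [hHn] at h2
    have : n * K.index = n * H.index := by rw [h1, h2]
    exact Nat.eq_of_mul_eq_mul_left (by omega) this
  have hpHidx : ¬ p ∣ H.index := by
    intro h
    exact Nat.Prime.not_coprime_iff_dvd.2 ⟨p, hp, hHn ▸ hpn, h⟩ hHall
  have hPH'i : ¬ p ∣ (PH.map H.subtype).index := by
    rw [Subgroup.index_map_subtype]
    intro h
    rcases (Nat.Prime.dvd_mul hp).1 h with h | h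
    · exact hPHi h
    · exact hpHidx h
  have hPK'i : ¬ p ∣ (PK.map K.subtype).index := by
    rw [Subgroup.index_map_subtype, hKidx]
    intro h
    rcases (Nat.Prime.dvd_mul hp).1 h with h | h
    · exact hPKi h
    · exact hpHidx h
  let S₁ : Sylow p G := (hPHp.map H.subtype).toSylow hPH'i
  let S₂ : Sylow p G := (hPKp.map K.subtype).toSylow hPK'i
  obtain ⟨g, hg⟩ := MulAction.exists_smul_eq G S₁ S₂
  have hg' : MulAut.conj g • (PH.map H.subtype) = PK.map K.subtype := by
    have h0 : ((g • S₁ : Sylow p G) : Subgroup G) = (S₂ : Subgroup G) := by rw [hg]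
    rw [Sylow.coe_subgroup_smul] at h0
    exact h0
  set P : Subgroup G := PK.map K.subtype with hP
  set H₁ : Subgroup G := MulAut.conj g • H with hH₁
  set N : Subgroup G := Subgroup.normalizer ((P : Subgroup G) : Set G) with hN
  have hPH₁ : P ≤ H₁ := by
    rw [← hg', hH₁]
    intro z hz
    rw [mem_conj_smul] at hz ⊢
    exact Subgroup.map_subtype_le _ hz
  have hPK : P ≤ K := Subgroup.map_subtype_le _
  have hKN : K ≤ N := by
    apply le_normalizer_of_forall_conj_mem'
    rintro k hk _ ⟨u, hu, rfl⟩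
    exact ⟨⟨k, hk⟩ * u * ⟨k, hk⟩⁻¹, hPKn.conj_mem u hu ⟨k, hk⟩, rfl⟩
  have hH₁N : H₁ ≤ N := by
    apply le_normalizer_of_forall_conj_mem'
    intro x hx z hz
    rw [hH₁, mem_conj_smul] at hx
    rw [← hg', mem_conj_smul] at hz ⊢
    obtain ⟨u, hu, hueq⟩ := hz
    refine ⟨⟨g⁻¹ * x * g, hx⟩ * u * ⟨g⁻¹ * x * g, hx⟩⁻¹, hPHn.conj_mem u hu _, ?_⟩
    simp only [Subgroup.coe_subtype, Subgroup.coe_mul, Subgroup.coe_inv] at hueq ⊢
    rw [hueq]; group
  have hPn : (P.subgroupOf N).Normal := Subgroup.normal_in_normalizer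
  have hH₁card : Nat.card H₁ = n := by rw [hH₁, card_conj_smul, hHn]
  have hH₁ss : Cfsg.IsSupersolvable H₁ :=
    isSupersolvable_of_mulEquiv (Subgroup.equivSMul (MulAut.conj g) H) hH
  have hH₁idx : H₁.index = H.index := Cfsg.Agent.S0545.index_conj_smul g H
  have hPcard : 1 < Nat.card P := by
    have h0 : 0 < Nat.card P := Nat.card_pos
    have h1 : Nat.card P ≠ 1 := by
      intro h
      apply hPK'i
      have h2 := Subgroup.card_mul_index P
      rw [h, one_mul] at h2
      rw [h2]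
      exact dvd_trans (hKn ▸ hpn) (Subgroup.card_subgroup_dvd_card K)
    omega
  -- data for the induction hypothesis in `N ⧸ P`
  have key : ∀ X : Subgroup G, X ≤ N → P ≤ X → Cfsg.IsSupersolvable X → Nat.card X = n →
      X.index = H.index →
      Cfsg.IsSupersolvable ((X.subgroupOf N).map (QuotientGroup.mk' (P.subgroupOf N))) ∧
      Nat.card ((X.subgroupOf N).map (QuotientGroup.mk' (P.subgroupOf N))) * Nat.card P = n ∧
      ((X.subgroupOf N).map (QuotientGroup.mk' (P.subgroupOf N))).index ∣ H.index := by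
    intro X hXN hPX hXss hXcard hXidx
    have hPN : P ≤ N := hPX.trans hXN
    refine ⟨?_, ?_, ?_⟩
    · have h1 : Cfsg.IsSupersolvable (X.subgroupOf N) :=
        isSupersolvable_of_mulEquiv (Subgroup.subgroupOfEquivOfLe hXN).symm hXss
      exact isSupersolvable_of_surjective
        ((QuotientGroup.mk' (P.subgroupOf N)).subgroupMap (X.subgroupOf N))
        (MonoidHom.subgroupMap_surjective _ _) h1
    · have h1 := card_map_mk_of_le (P.subgroupOf N) (Subgroup.subgroupOf_mono N hPX)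
      rw [Nat.card_congr (Subgroup.subgroupOfEquivOfLe hXN).toEquiv,
        Nat.card_congr (Subgroup.subgroupOfEquivOfLe hPN).toEquiv, hXcard] at h1
      exact h1
    · rw [Subgroup.index_map_eq _ (QuotientGroup.mk'_surjective _)
        (by rw [QuotientGroup.ker_mk']; exact Subgroup.subgroupOf_mono N hPX)]
      rw [← hXidx]
      exact Subgroup.relIndex_dvd_index_of_le hXN
  obtain ⟨hss1, hc1, hi1⟩ := key H₁ hH₁N hPH₁ hH₁ss hH₁card hH₁idx
  obtain ⟨hss2, hc2, hi2⟩ := key K hKN hPK hK hKn hKidx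
  set XQ := (H₁.subgroupOf N).map (QuotientGroup.mk' (P.subgroupOf N)) with hXQ
  set YQ := (K.subgroupOf N).map (QuotientGroup.mk' (P.subgroupOf N)) with hYQ
  have hlt : Nat.card XQ < n := by
    have h0 : 0 < Nat.card XQ := Nat.card_pos
    nlinarith
  have hXY : Nat.card YQ = Nat.card XQ := by
    have : Nat.card YQ * Nat.card P = Nat.card XQ * Nat.card P := by rw [hc1, hc2]
    exact Nat.eq_of_mul_eq_mul_right (by omega) this
  have hHall' : (Nat.card XQ).Coprime XQ.index := by
    apply Nat.Coprime.coprime_dvd_right hi1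
    apply Nat.Coprime.coprime_dvd_left _ hHall
    rw [hHn, ← hc1]
    exact dvd_mul_right _ _
  obtain ⟨c, hc⟩ := ih _ hlt (N ⧸ P.subgroupOf N) XQ YQ hss1 hss2 rfl hXY hHall'
  obtain ⟨x, hx⟩ := conj_lift N P H₁ K hPn hH₁N hKN hPH₁ hPK ⟨c, hc⟩
  refine ⟨x * g, ?_⟩
  rw [map_mul, mul_smul]
  exact hx

theorem result {G : Type*} [Group G] [Finite G] (H K : Subgroup G) (hH : Cfsg.IsSupersolvable H) (hK : Cfsg.IsSupersolvable K) (hcard : Nat.card H = Nat.card K) (hHall : (Nat.card H).Coprime H.index) : ∃ x : G, MulAut.conj x • H = K :=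
  main _ G H K hH hK rfl hcard.symm hHall

end Cfsg.Agent.S0582
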