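import Cfsg.Statements.S0584
import Mathlib

set_option autoImplicit false
open Cfsg
open scoped Pointwise

namespace Cfsg.Agent.S0584

/-- Let B ≤ A be normal subgroups of a finite group G with B contained in the Frattini subgroup of G. If A modulo B is nilpotent then A is nilpotent. -/
theorem result {G : Type*} [Group G] [Finite G] (A B : Subgroup G) [A.Normal] [B.Normal] (hBA : B ≤ A) (hB : B ≤ frattini G) (h : Group.IsNilpotent (↥A ⧸ B.subgroupOf A)) : Group.IsNilpotent A := by
  have q := (Group.isNilpotent_of_finite_tfae (G := A)).out 0 3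
  rw [q]; clear q
  intro p hp P
  set π := QuotientGroup.mk' (B.subgroupOf A) with hπ
  have hπs : Function.Surjective π := QuotientGroup.mk'_surjective _
  set Q : Subgroup G := (P : Subgroup A).map A.subtype with hQ
  have hQA : Q ≤ A := Subgroup.map_subtype_le _
  -- the unique Sylow subgroup of the quotient
  have huniq : Subsingleton (Sylow p (↥A ⧸ B.subgroupOf A)) := by
    have hn : ((P.mapSurjective hπs : Sylow p (↥A ⧸ B.subgroupOf A)) : Subgroup (↥A ⧸ B.subgroupOf A)).Normal := inferInstance
    have := Sylow.unique_of_normal _ hn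
    infer_instance
  -- conjugates of elements of `Q` lie in `Q ⊔ B`
  have hconj : ∀ a ∈ Q, ∀ c : G, c * a * c⁻¹ ∈ Q ⊔ B := by
    rintro _ ⟨a', ha', rfl⟩ c
    set P2 : Sylow p A := (MulAut.conjNormal c : MulAut A) • P with hP2
    have hy : (MulAut.conjNormal c : MulAut A) a' ∈ (P2 : Subgroup A) := by
      rw [hP2, Sylow.pointwise_smul_def, Subgroup.pointwise_smul_def]
      exact Subgroup.mem_map_of_mem _ ha'
    have hmap : (P2 : Subgroup A).map π = (P : Subgroup A).map π := by
      have := Subsingleton.elim (P2.mapSurjective hπs) (P.mapSurjective hπs)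
      have := congrArg (fun S : Sylow p (↥A ⧸ B.subgroupOf A) => (S : Subgroup (↥A ⧸ B.subgroupOf A))) this
      simpa using this
    have hmem : π ((MulAut.conjNormal c : MulAut A) a') ∈ (P : Subgroup A).map π := by
      rw [← hmap]; exact Subgroup.mem_map_of_mem _ hy
    obtain ⟨z, hz, hzeq⟩ := hmem
    have hker : z⁻¹ * (MulAut.conjNormal c : MulAut A) a' ∈ B.subgroupOf A := by
      rw [← QuotientGroup.ker_mk' (B.subgroupOf A), MonoidHom.mem_ker, map_mul, map_inv, ← hπ, hzeq]
      simp
    rw [Subgroup.mem_subgroupOf] at hker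
    have e : c * (A.subtype a') * c⁻¹ =
        (z : G) * (((z⁻¹ * (MulAut.conjNormal c : MulAut A) a' : A)) : G) := by
      simp [MulAut.conjNormal_apply]
    rw [e]
    exact Subgroup.mul_mem _ (Subgroup.mem_sup_left (Subgroup.mem_map_of_mem _ hz))
      (Subgroup.mem_sup_right hker)
  -- `K = normal closure of Q`
  set K : Subgroup G := Subgroup.normalClosure (Q : Set G) with hK
  have hKn : K.Normal := Subgroup.normalClosure_normal
  have hQK : Q ≤ K := Subgroup.le_normalClosure
  have hKA : K ≤ A := Subgroup.normalClosure_le_normal hQA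
  have hKQB : K ≤ Q ⊔ B := by
    rw [hK, Subgroup.normalClosure, Subgroup.closure_le]
    intro x hx
    obtain ⟨a, ha, hax⟩ := Group.mem_conjugatesOfSet_iff.mp hx
    obtain ⟨c, rfl⟩ := isConj_iff.mp hax
    exact hconj a ha c
  -- `Q` gives a Sylow subgroup of `K`
  have hpg : IsPGroup p (Q.subgroupOf K) := (P.isPGroup'.map A.subtype).comap_subtype
  have hidx : ¬ p ∣ (Q.subgroupOf K).index := by
    intro hdvd
    have h1 : Q.relIndex K * K.relIndex A = Q.relIndex A := Subgroup.relIndex_mul_relIndex Q K A hQK hKA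
    have h2 : Q.relIndex A = (P : Subgroup A).index := by
      rw [Subgroup.relIndex, hQ, Subgroup.subgroupOf,
        Subgroup.comap_map_eq_self_of_injective (Subgroup.subtype_injective A)]
    apply P.not_dvd_index
    rw [← h2, ← h1]
    exact Dvd.dvd.mul_right hdvd _
  set Q' : Sylow p K := hpg.toSylow hidx with hQ'
  have hfr := Sylow.normalizer_sup_eq_top Q'
  have hQ'map : (Q' : Subgroup K).map K.subtype = Q := by
    rw [hQ', IsPGroup.toSylow_coe, Subgroup.map_subgroupOf_eq_of_le hQK]
  rw [hQ'map] at hfr
  -- conclude `N_G(Q) = ⊤`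
  have htop : Subgroup.normalizer (Q : Set G) ⊔ frattini G = ⊤ := by
    rw [eq_top_iff, ← hfr]
    apply sup_le le_sup_left
    refine hKQB.trans (sup_le ?_ ?_)
    · exact (Subgroup.le_normalizer).trans le_sup_left
    · exact hB.trans le_sup_right
  have hN := frattini_nongenerating htop
  have hQn : Q.Normal := Subgroup.normalizer_eq_top_iff.mp hN
  exact hQn.of_map_subtype

end Cfsg.Agent.S0584
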