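import Cfsg.Statements.S0585
import Cfsg.Agent.H5.Frattini

set_option autoImplicit false
open Cfsg

namespace Cfsg.Agent.S0585

/-- If the Frattini subgroup of a finite group G is trivial, then every abelian normal subgroup of G has a complement in G. -/
theorem result {G : Type*} [Group G] [Finite G] (hΦ : frattini G = ⊥) (A : Subgroup G) [A.Normal] [IsMulCommutative A] : ∃ H : Subgroup G, Subgroup.IsComplement' A H := by
  classical
  -- choose `H` of minimal order with `A ⊔ H = ⊤`
  have hne : {H : Subgroup G | A ⊔ H = ⊤}.Nonempty := ⟨⊤, sup_top_eq _⟩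
  obtain ⟨H, hH, hmin⟩ := Set.exists_min_image {H : Subgroup G | A ⊔ H = ⊤}
    (fun H => Nat.card H) (Set.toFinite _) hne
  have hH' : A ⊔ H = ⊤ := hH
  refine ⟨H, ?_⟩
  -- `D = A ⊓ H` is normal in `G`
  have hDn : (A ⊓ H).Normal := by
    rw [← Subgroup.normalizer_eq_top_iff, eq_top_iff, ← hH']
    apply sup_le
    · -- `A` centralizes `D`
      refine le_trans ?_ (Subgroup.centralizer_le_normalizer _)
      rw [Subgroup.le_centralizer_iff]
      refine le_trans inf_le_left ?_
      exact Subgroup.le_centralizer_iff_isMulCommutative.mpr inferInstance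
    · intro h hh
      rw [Subgroup.mem_normalizer_iff]
      intro x
      constructor
      · rintro ⟨hxA, hxH⟩
        exact ⟨(inferInstance : A.Normal).conj_mem x hxA h, H.mul_mem (H.mul_mem hh hxH) (H.inv_mem hh)⟩
      · rintro ⟨hxA, hxH⟩
        constructor
        · have := (inferInstance : A.Normal).conj_mem _ hxA h⁻¹
          simpa [mul_assoc] using this
        · have := H.mul_mem (H.mul_mem (H.inv_mem hh) hxH) hh
          simpa [mul_assoc] using this
  -- `D ≤ Φ(H)`
  have hDΦ : (A ⊓ H).subgroupOf H ≤ frattini H := by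
    by_contra hcon
    obtain ⟨M', hM', hDM'⟩ := Cfsg.H5.exists_coatom_not_le_of_not_le_frattini hcon
    have htop : M' ⊔ (A ⊓ H).subgroupOf H = ⊤ := by
      have : M' < M' ⊔ (A ⊓ H).subgroupOf H := by
        apply lt_of_le_of_ne le_sup_left
        intro heq
        apply hDM'
        rw [heq]
        exact le_sup_right
      exact (hM'.lt_iff).mp this
    have hmap : M'.map H.subtype ⊔ (A ⊓ H) = H := by
      have := congrArg (Subgroup.map H.subtype) htop
      rw [Subgroup.map_sup, Subgroup.map_subgroupOf_eq_of_le inf_le_right, ← MonoidHom.range_eq_map,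
        Subgroup.range_subtype] at this
      exact this
    have hAM : A ⊔ M'.map H.subtype = ⊤ := by
      rw [eq_top_iff, ← hH']
      apply sup_le le_sup_left
      calc H = M'.map H.subtype ⊔ (A ⊓ H) := hmap.symm
        _ ≤ A ⊔ M'.map H.subtype := sup_le le_sup_right (inf_le_left.trans le_sup_left)
    have hle := hmin _ hAM
    have hlt : Nat.card (M'.map H.subtype) < Nat.card H := by
      rw [Subgroup.card_map_of_injective (Subgroup.subtype_injective H)]
      have hne : M' ≠ ⊤ := hM'.1
      by_contra hge
      push Not at hge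
      apply hne
      apply Subgroup.eq_top_of_card_eq
      exact le_antisymm (Subgroup.card_le_card_group M') hge
    exact absurd hle (not_le.mpr hlt)
  have hD : A ⊓ H = ⊥ := by
    have := Cfsg.H5.le_frattini_of_le_frattini_subgroup (N := A ⊓ H) (H := H) inf_le_right hDΦ
    rw [hΦ] at this
    exact le_bot_iff.mp this
  apply Subgroup.isComplement'_of_disjoint_and_mul_eq_univ
  · rw [disjoint_iff]; exact hD
  · rw [← Subgroup.normal_mul, hH']
    rfl

end Cfsg.Agent.S0585
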