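import Mathlib
import Cfsg.Statements.S0587
import Cfsg.Agent.H5.CoreFree
import Cfsg.Agent.H5.Cores
import Cfsg.Agent.H5.Basic
import Cfsg.Agent.H5.Omega

set_option autoImplicit false
open Cfsg

namespace Cfsg.Agent.S0587

open Subgroup Cfsg.H5

/-- a nontrivial finite `p`-subgroup has a central element of order `p` -/
theorem exists_central_of_pgroup {G : Type*} [Group G] [Finite G] {p : ℕ} [hp : Fact p.Prime]
    (L : Subgroup G) (hL : IsPGroup p L) (hL1 : L ≠ ⊥) :
    ∃ z : G, z ∈ L ⊓ centralizer (L : Set G) ∧ z ≠ 1 ∧ z ^ p = 1 := by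
  have hnt : Nontrivial L := (Subgroup.nontrivial_iff_ne_bot L).mpr hL1
  have hZnt := hL.center_nontrivial
  have hZp : IsPGroup p (Subgroup.center L) := hL.to_subgroup _
  have hdvd : p ∣ Nat.card (Subgroup.center L) := by
    rcases hZp.card_eq_or_dvd with h | h
    · exfalso
      have := Finite.one_lt_card_iff_nontrivial.mpr hZnt
      omega
    · exact h
  obtain ⟨⟨⟨z, hzL⟩, hzc⟩, hz⟩ := exists_prime_orderOf_dvd_card' (G := Subgroup.center L) p hdvd
  have hzo : orderOf z = p := by
    rw [← hz]
    rw [Subgroup.orderOf_mk, Subgroup.orderOf_mk]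
  refine ⟨z, ⟨hzL, ?_⟩, ?_, ?_⟩
  · show z ∈ centralizer (L : Set G)
    rw [mem_centralizer_iff]
    intro x hx
    have := (Subgroup.mem_center_iff.mp hzc) ⟨x, hx⟩
    exact congrArg Subtype.val this
  · intro h1
    rw [h1, orderOf_one] at hzo
    exact hp.out.one_lt.ne hzo
  · rw [← hzo]
    exact pow_orderOf_eq_one z

/-- Let G be a finite group whose largest normal p-subgroup L is nontrivial, and M a maximal subgroup of G with trivial normal core. Then L is elementary abelian, M is a complement to L, L is a minimal normal subgroup of G, the centralizer of L is L, and for every prime q such that the largest normal q-subgroup of M is nontrivial, the order of L is congruent to 1 modulo q and q ≠ p. -/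
theorem result {G : Type*} [Group G] [Finite G] (p : ℕ) [Fact p.Prime] (hL : Cfsg.pCore p G ≠ ⊥) (M : Subgroup G) (hM : IsCoatom M) (hcore : M.normalCore = ⊥) : Cfsg.IsElementaryAbelian p (Cfsg.pCore p G) ∧ Subgroup.IsComplement' (Cfsg.pCore p G) M ∧ (∀ K : Subgroup G, K.Normal → K ≤ Cfsg.pCore p G → K = ⊥ ∨ K = Cfsg.pCore p G) ∧ Subgroup.centralizer ((Cfsg.pCore p G : Subgroup G) : Set G) = Cfsg.pCore p G ∧ ∀ (q : ℕ) [Fact q.Prime], Cfsg.pCore q ↥M ≠ ⊥ → Nat.card (Cfsg.pCore p G) % q = 1 % q ∧ q ≠ p := by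
  set L := Cfsg.pCore p G with hLdef
  have hLn : L.Normal := pCore_normal p G
  have hLp : IsPGroup p L := pCore_isPGroup p G
  -- `Z = Ω₁(Z(L))`
  set Z := omegaZ p L with hZdef
  have hZn : Z.Normal := omegaZ_normal p L
  have hZL : Z ≤ L := (omegaOne_le p _).trans inf_le_left
  have hZc : Z ≤ centralizer (L : Set G) := (omegaOne_le p _).trans inf_le_right
  have hZ1 : Z ≠ ⊥ := by
    obtain ⟨z, hz, hz1, hzp⟩ := exists_central_of_pgroup L hLp hL
    intro h
    have : z ∈ Z := Subgroup.subset_closure ⟨hz, hzp⟩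
    rw [h, Subgroup.mem_bot] at this
    exact hz1 this
  have hZE : Cfsg.IsElementaryAbelian p Z := by
    apply isElementaryAbelian_closure
    · rintro x ⟨hx, -⟩ y ⟨hy, -⟩
      exact ((Subgroup.mem_centralizer_iff.mp hy.2) x hx.1)
    · rintro x ⟨-, hx⟩
      exact hx
  have hZM : Z ⊔ M = ⊤ := sup_eq_top_of_coatom hM hcore hZn hZ1
  have hLM : L ⊓ M = ⊥ := by
    apply inf_eq_bot_of_sup_eq_top hcore hZM hLn
    intro k hk x hx
    exact ((Subgroup.mem_centralizer_iff.mp (hZc hk)) x hx.1).symm
  have hLZ : L = Z := eq_of_le_of_sup_eq_top hZn hZM hZL hLM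
  have hLE : Cfsg.IsElementaryAbelian p L := by rw [hLZ]; exact hZE
  have hLcomm : ∀ x ∈ L, ∀ y ∈ L, x * y = y * x := by
    intro x hx y hy
    have := hLE.1
    exact setLike_mul_comm hx hy
  have hLMtop : L ⊔ M = ⊤ := by rw [hLZ]; exact hZM
  -- minimality
  have hmin : ∀ K : Subgroup G, K.Normal → K ≤ L → K = ⊥ ∨ K = L := by
    intro K hKn hKL
    by_cases hK1 : K = ⊥
    · exact Or.inl hK1
    · right
      have hKM : K ⊔ M = ⊤ := sup_eq_top_of_coatom hM hcore hKn hK1
      exact (eq_of_le_of_sup_eq_top hKn hKM hKL hLM).symm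
  -- centralizer
  have hCn : (centralizer (L : Set G)).Normal := Subgroup.normal_centralizer
  have hCM : centralizer (L : Set G) ⊓ M = ⊥ := by
    apply inf_eq_bot_of_sup_eq_top hcore hLMtop hCn
    intro k hk x hx
    exact (Subgroup.mem_centralizer_iff.mp hx.1) k hk
  have hLC : L ≤ centralizer (L : Set G) := by
    intro x hx
    rw [mem_centralizer_iff]
    intro y hy
    exact hLcomm y hy x hx
  have hCL : centralizer (L : Set G) = L := eq_of_le_of_sup_eq_top hLn hLMtop hLC hCM
  refine ⟨hLE, ?_, hmin, hCL, ?_⟩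
  · apply Subgroup.isComplement'_of_disjoint_and_mul_eq_univ (disjoint_iff.mpr hLM)
    rw [← Subgroup.normal_mul, hLMtop]
    rfl
  · intro q hq hQ
    set Q := (Cfsg.pCore q ↥M).map M.subtype with hQdef
    have hQM : Q ≤ M := Subgroup.map_subtype_le _
    have hQ1 : Q ≠ ⊥ := by
      intro h
      apply hQ
      rwa [hQdef, Subgroup.map_eq_bot_iff_of_injective _ M.subtype_injective] at h
    have hQq : IsPGroup q Q := (pCore_isPGroup q ↥M).map _
    have hQnM : ∀ m ∈ M, ∀ x ∈ Q, m * x * m⁻¹ ∈ Q := by
      rintro m hm _ ⟨x, hx, rfl⟩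
      have := (pCore_normal q ↥M).conj_mem x hx ⟨m, hm⟩
      exact ⟨_, this, rfl⟩
    have hLQ : L ⊓ Q = ⊥ := by
      rw [eq_bot_iff, ← hLM]
      exact inf_le_inf_left L hQM
    -- `q ≠ p`
    have hqp : q ≠ p := by
      intro hqp
      subst hqp
      -- `X = L ⊔ Q` is a normal `p`-subgroup
      have hXp : IsPGroup q (L ⊔ Q : Subgroup G) := by
        rw [sup_comm]
        exact IsPGroup.to_sup_of_normal_right' hQq hLp (by
          rw [normalizer_eq_top_iff.mpr hLn]; exact le_top)
      have hXn : (L ⊔ Q : Subgroup G).Normal := by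
        rw [← Subgroup.normalizer_eq_top_iff, eq_top_iff, ← hLMtop]
        apply sup_le
        · exact le_sup_left.trans Subgroup.le_normalizer
        · intro m hm
          rw [mem_set_normalizer_iff]
          have key : ∀ m ∈ M, ∀ x ∈ L ⊔ Q, m * x * m⁻¹ ∈ L ⊔ Q := by
            intro m hm x hx
            obtain ⟨l, hl, y, hy, rfl⟩ := Subgroup.mem_sup_of_normal_left.mp hx
            have : m * (l * y) * m⁻¹ = (m * l * m⁻¹) * (m * y * m⁻¹) := by group
            rw [this]
            exact Subgroup.mul_mem_sup (hLn.conj_mem l hl m) (hQnM m hm y hy)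
          intro d
          constructor
          · exact key m hm d
          · intro hd
            have := key m⁻¹ (M.inv_mem hm) _ hd
            have e : m⁻¹ * (m * d * m⁻¹) * m⁻¹⁻¹ = d := by group
            rwa [e] at this
      have hXL : L ⊔ Q ≤ L := le_pCore hXn hXp
      have hQL : Q ≤ L := le_sup_right.trans hXL
      apply hQ1
      rw [eq_bot_iff, ← hLQ]
      exact le_inf hQL le_rfl
    refine ⟨?_, hqp⟩
    -- fixed points
    set D := L ⊓ centralizer (Q : Set G) with hDdef
    have hDn : D.Normal := by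
      rw [← Subgroup.normalizer_eq_top_iff, eq_top_iff, ← hLMtop]
      apply sup_le
      · apply le_normalizer_of_le_centralizer
        intro l hl
        rw [mem_centralizer_iff]
        intro d hd
        exact hLcomm d hd.1 l hl
      · intro m hm
        rw [mem_set_normalizer_iff]
        have key : ∀ m ∈ M, ∀ x ∈ D, m * x * m⁻¹ ∈ D := by
          intro m hm x hx
          refine ⟨hLn.conj_mem x hx.1 m, ?_⟩
          show m * x * m⁻¹ ∈ centralizer (Q : Set G)
          rw [mem_centralizer_iff]
          intro y hy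
          have hy' : m⁻¹ * y * m⁻¹⁻¹ ∈ Q := hQnM m⁻¹ (M.inv_mem hm) y hy
          have h1 := (Subgroup.mem_centralizer_iff.mp hx.2) _ hy'
          calc y * (m * x * m⁻¹) = m * ((m⁻¹ * y * m⁻¹⁻¹) * x) * m⁻¹ := by group
            _ = m * (x * (m⁻¹ * y * m⁻¹⁻¹)) * m⁻¹ := by rw [h1]
            _ = m * x * m⁻¹ * y := by group
        intro d
        constructor
        · exact key m hm d
        · intro hd
          have := key m⁻¹ (M.inv_mem hm) _ hd
          have e : m⁻¹ * (m * d * m⁻¹) * m⁻¹⁻¹ = d := by group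
          rwa [e] at this
    have hD : D = ⊥ := by
      rcases hmin D hDn inf_le_left with h | h
      · exact h
      · exfalso
        have hLCQ : L ≤ centralizer (Q : Set G) := by
          rw [← h]; exact inf_le_right
        have hQCL : Q ≤ centralizer (L : Set G) := by
          intro y hy
          rw [mem_centralizer_iff]
          intro l hl
          exact ((Subgroup.mem_centralizer_iff.mp (hLCQ hl)) y hy).symm
        rw [hCL] at hQCL
        apply hQ1
        rw [eq_bot_iff, ← hLQ]
        exact le_inf hQCL le_rfl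
    exact card_modEq_one_of_conj_fpf L Q hQq hD

end Cfsg.Agent.S0587
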