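import Cfsg.Statements.S0588
import Mathlib

set_option autoImplicit false
open Cfsg

namespace Cfsg.Agent.S0588

/-- If a subgroup H of a finite group G contains the centralizer of every non-identity element of H, then the order of H is coprime to its index. -/
theorem result {G : Type*} [Group G] [Finite G] (H : Subgroup G) (h : ∀ x ∈ H, x ≠ 1 → Subgroup.centralizer ({x} : Set G) ≤ H) : (Nat.card H).Coprime H.index := by
  apply Nat.coprime_of_dvd
  intro p hp hpH hpI
  haveI : Fact p.Prime := ⟨hp⟩
  -- an element `x` of order `p` in `H`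
  obtain ⟨⟨x, hxH⟩, hx⟩ := exists_prime_orderOf_dvd_card' (G := H) p hpH
  have hxo : orderOf x = p := by
    rw [← hx]; exact (Subgroup.orderOf_mk x hxH).symm
  have hx1 : x ≠ 1 := by
    intro h1
    rw [h1, orderOf_one] at hxo
    exact hp.one_lt.ne hxo
  -- a Sylow subgroup `S` of `G` containing `x`
  have hPx : IsPGroup p (Subgroup.zpowers x) := by
    apply IsPGroup.of_card (n := 1)
    rw [Nat.card_zpowers, hxo, pow_one]
  obtain ⟨S, hS⟩ := hPx.exists_le_sylow
  have hxS : x ∈ (S : Subgroup G) := hS (Subgroup.mem_zpowers x)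
  haveI : Nontrivial (S : Subgroup G) := ⟨⟨⟨x, hxS⟩, 1, fun h => hx1 (congrArg Subtype.val h)⟩⟩
  haveI := S.isPGroup'.center_nontrivial
  obtain ⟨⟨⟨z, hzS⟩, hz⟩, hz1⟩ := exists_ne (1 : Subgroup.center (S : Subgroup G))
  have hz1' : z ≠ 1 := by
    intro h1
    apply hz1
    ext
    exact h1
  have hzc : ∀ s ∈ (S : Subgroup G), s * z = z * s := by
    intro s hs
    have := (Subgroup.mem_center_iff.mp hz) ⟨s, hs⟩
    exact congrArg Subtype.val this
  -- `z ∈ C(x) ≤ H`
  have hzH : z ∈ H := by
    apply h x hxH hx1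
    rw [Subgroup.mem_centralizer_iff]
    intro y hy
    rw [Set.mem_singleton_iff] at hy
    subst hy
    exact hzc y hxS
  -- `S ≤ C(z) ≤ H`
  have hSH : (S : Subgroup G) ≤ H := by
    intro s hs
    apply h z hzH hz1'
    rw [Subgroup.mem_centralizer_iff]
    intro y hy
    rw [Set.mem_singleton_iff] at hy
    subst hy
    exact (hzc s hs).symm
  have hcop := S.card_coprime_index
  have hidx : p ∣ (S : Subgroup G).index := by
    rw [← Subgroup.relIndex_mul_index hSH]
    exact Dvd.dvd.mul_left hpI _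
  have hcard : p ∣ Nat.card (S : Subgroup G) := by
    have h1 : orderOf (⟨x, hxS⟩ : (S : Subgroup G)) = p :=
      (Subgroup.orderOf_mk x hxS).trans hxo
    have h2 := orderOf_dvd_natCard (⟨x, hxS⟩ : (S : Subgroup G))
    rwa [h1] at h2
  have := Nat.eq_one_of_dvd_coprimes hcop hcard hidx
  exact hp.one_lt.ne this.symm

end Cfsg.Agent.S0588
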