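import Mathlib
import Cfsg.Statements.S0589
import Cfsg.Agent.H5.SemiRegular
import Cfsg.Agent.Lib.Helper1.Frobenius

set_option autoImplicit false
open Cfsg

namespace Cfsg.Agent.S0589

open Cfsg.Agent.Lib.Helper1
open scoped Pointwise

/-- Let H be a Frobenius complement in a finite group G and L a subgroup of G whose order divides the order of H. Then L is contained in some conjugate of H. -/
theorem result {G : Type*} [Group G] [Finite G] (H : Subgroup G) (hH : Cfsg.IsFrobeniusComplement H) (L : Subgroup G) (hL : Nat.card L ∣ Nat.card H) : ∃ x : G, L ≤ MulAut.conj x • H := by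
  by_cases hL1 : L = ⊥
  · refine ⟨1, ?_⟩
    rw [hL1]
    exact bot_le
  have hnt : Nontrivial L := (Subgroup.nontrivial_iff_ne_bot L).mpr hL1
  -- stabilizer description
  have hstab : ∀ (u : L) (a : G), u • (QuotientGroup.mk a : G ⧸ H) = QuotientGroup.mk a →
      (u : G) ∈ MulAut.conj a • H := by
    intro u a h
    have h1 : (((u : G) * a : G) : G ⧸ H) = (a : G ⧸ H) := h
    rw [QuotientGroup.eq] at h1
    rw [mem_conj_smul]
    have e : a⁻¹ * (u : G) * a = (((u : G) * a)⁻¹ * a)⁻¹ := by group
    rw [e]
    exact H.inv_mem h1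
  have hfix : ∀ u : L, u ≠ 1 → ∀ a b : G ⧸ H, u • a = a → u • b = b → a = b := by
    intro u hu a b
    induction a using QuotientGroup.induction_on with | _ a => ?_
    induction b using QuotientGroup.induction_on with | _ b => ?_
    intro ha hb
    have hu1 : (u : G) ≠ 1 := fun h => hu (Subtype.ext h)
    have := IsFrobeniusComplement.inv_mul_mem hH hu1 (hstab u a ha) (hstab u b hb)
    rw [QuotientGroup.eq]
    exact this
  have hcard : Nat.card (G ⧸ H) % Nat.card L = 1 % Nat.card L := by
    have h1 : H.index ≡ 1 [MOD Nat.card H] := IsFrobeniusComplement.index_mod_card hH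
    exact Nat.ModEq.of_dvd hL h1
  obtain ⟨a, ha⟩ := Cfsg.H5.exists_fixed_of_fix_le_one hfix hcard hnt
  induction a using QuotientGroup.induction_on with | _ a => ?_
  refine ⟨a, ?_⟩
  intro u hu
  exact hstab ⟨u, hu⟩ a (ha ⟨u, hu⟩)

end Cfsg.Agent.S0589
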