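import Mathlib
import Cfsg.Statements.S0592
import Cfsg.Agent.H5.QuadPair

set_option autoImplicit false
open Cfsg

namespace Cfsg.Agent.S0592

/-- Two quadratically acting generators of a linear group that is not a p-group, with the p'-part of the order of their product dividing q - 1, give a homomorphism onto a subgroup of SL(2, q) that is not a p-group. -/
theorem result {K : Type*} [Field K] [Fintype K] {p : ℕ} [Fact p.Prime] [CharP K p] {W : Type*} [AddCommGroup W] [Module K W] [FiniteDimensional K W] [Finite W] [Nontrivial W] (H : Subgroup (W ≃ₗ[K] W)) (a b : W ≃ₗ[K] W) (hH : H = Subgroup.closure {a, b}) (ha : ∀ w : W, a (a w - w) = a w - w) (hb : ∀ w : W, b (b w - w) = b w - w) (hnp : ¬ IsPGroup p H) (hk : ∃ e k : ℕ, orderOf (a * b) = p ^ e * k ∧ k ∣ Fintype.card K - 1) : ∃ φ : H →* Matrix.SpecialLinearGroup (Fin 2) K, ¬ IsPGroup p φ.range := by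
  subst hH
  have haH : a ∈ Subgroup.closure ({a, b} : Set (W ≃ₗ[K] W)) := Subgroup.subset_closure (by simp)
  have hbH : b ∈ Subgroup.closure ({a, b} : Set (W ≃ₗ[K] W)) := Subgroup.subset_closure (by simp)
  have hgen : Subgroup.closure ({⟨a, haH⟩, ⟨b, hbH⟩} :
      Set (Subgroup.closure ({a, b} : Set (W ≃ₗ[K] W)))) = ⊤ := by
    have h := Subgroup.closure_closure_coe_preimage (k := ({a, b} : Set (W ≃ₗ[K] W)))
    rw [← h]
    congr 1
    ext x
    simp only [Set.mem_insert_iff, Set.mem_singleton_iff, Set.mem_preimage, Subtype.ext_iff]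
  let ρ : Representation K (Subgroup.closure ({a, b} : Set (W ≃ₗ[K] W))) W :=
    (LinearEquiv.automorphismGroup.toLinearMapMonoidHom).comp (Subgroup.subtype _)
  have hρ : ∀ g w, ρ g w = (g : W ≃ₗ[K] W) w := fun g w => rfl
  have hA : (ρ ⟨a, haH⟩ - 1) * (ρ ⟨a, haH⟩ - 1) = 0 := by
    apply LinearMap.ext
    intro w
    simp only [Module.End.mul_apply, LinearMap.sub_apply, Module.End.one_apply, map_sub, hρ,
      LinearMap.zero_apply]
    have := ha w
    rw [map_sub] at this
    rw [this]; abel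
  have hB : (ρ ⟨b, hbH⟩ - 1) * (ρ ⟨b, hbH⟩ - 1) = 0 := by
    apply LinearMap.ext
    intro w
    simp only [Module.End.mul_apply, LinearMap.sub_apply, Module.End.one_apply, map_sub, hρ,
      LinearMap.zero_apply]
    have := hb w
    rw [map_sub] at this
    rw [this]; abel
  obtain ⟨e, k, hek, hk⟩ := hk
  have hfin : Finite (W ≃ₗ[K] W) := Finite.of_injective (fun f => (f : W → W)) DFunLike.coe_injective
  have hk0 : 0 < k := by
    rcases Nat.eq_zero_or_pos k with h | h
    · exfalso
      rw [h, mul_zero] at hek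
      exact (orderOf_pos (a * b)).ne' hek
    · exact h
  have hab : ((⟨a, haH⟩ : Subgroup.closure ({a, b} : Set (W ≃ₗ[K] W))) * ⟨b, hbH⟩) ^ (p ^ e * k)
      = 1 := by
    apply Subtype.ext
    rw [Subgroup.coe_pow, Subgroup.coe_mul, ← hek]
    exact pow_orderOf_eq_one _
  have hρinj : ∀ g, ρ g = 1 → g = 1 := by
    intro g hg
    apply Subtype.ext
    apply LinearEquiv.ext
    intro w
    have := congrArg (fun f : Module.End K W => f w) hg
    simpa [hρ] using this
  have hnp' : ¬ Cfsg.H5.QP.PG p ρ := by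
    intro hPG
    apply hnp
    intro g
    obtain ⟨j, hj⟩ := hPG g
    exact ⟨j, hρinj _ (by rw [map_pow]; exact hj)⟩
  exact Cfsg.H5.QP.exists_sl2 ⟨a, haH⟩ ⟨b, hbH⟩ hgen e k hk hk0 hab _ W ρ rfl hA hB hnp'

end Cfsg.Agent.S0592
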