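import Mathlib
import Cfsg.Statements.S0594
import Cfsg.Agent.H5.SL23Section
import Cfsg.Agent.H5.PSolvable3
import Cfsg.Agent.S0593

set_option autoImplicit false
open Cfsg

namespace Cfsg.Agent.S0594

/-- For odd p, two quadratic generators of a faithful group that is not a p-group, one of which acts nontrivially on a normal subgroup of order prime to p, force p = 3 and a section isomorphic to SL(2,3). -/
theorem result {G : Type*} [Group G] [Finite G] {p : ℕ} [Fact p.Prime] (hp : p ≠ 2) (V H : Subgroup G) (hV : Cfsg.IsElementaryAbelian p V) (hHV : H ≤ Subgroup.normalizer (V : Set G)) (hf : H ⊓ Subgroup.centralizer (V : Set G) = ⊥) (a b : G) (hab : H = Subgroup.closure {a, b}) (ha : ⁅⁅V, Subgroup.zpowers a⁆, Subgroup.zpowers a⁆ = ⊥) (hb : ⁅⁅V, Subgroup.zpowers b⁆, Subgroup.zpowers b⁆ = ⊥) (hnp : ¬ IsPGroup p H) (Q : Subgroup G) (hQH : Q ≤ H) (hQn : H ≤ Subgroup.normalizer (Q : Set G)) (hQ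 : (Nat.card Q).Coprime p) (hQa : ⁅Q, Subgroup.zpowers a⁆ ≠ ⊥) : p = 3 ∧ ∃ (K L : Subgroup G) (hL : (L.subgroupOf K).Normal), K ≤ H ∧ Nonempty ((K ⧸ L.subgroupOf K) ≃* Matrix.SpecialLinearGroup (Fin 2) (ZMod 3)) := by
  have hpp : p.Prime := Fact.out
  have hex : ∃ q ∈ Q, a * q ≠ q * a := by
    by_contra hcon
    push Not at hcon
    apply hQa
    rw [Subgroup.commutator_eq_bot_iff_le_centralizer]
    intro x hx
    rw [Subgroup.mem_centralizer_iff]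
    intro z hz
    rw [SetLike.mem_coe, Subgroup.mem_zpowers_iff] at hz
    obtain ⟨k, rfl⟩ := hz
    have hc : Commute a x := hcon x hx
    exact (hc.zpow_left k).eq
  obtain ⟨q, hqQ, hqa⟩ := hex
  have haH : a ∈ H := by rw [hab]; exact Subgroup.subset_closure (by simp)
  obtain ⟨X, hX⟩ : ∃ X : Subgroup G, X = Q ⊔ Subgroup.zpowers a := ⟨_, rfl⟩
  have hQX : Q ≤ X := by rw [hX]; exact le_sup_left
  have haX : a ∈ X := by rw [hX]; exact Subgroup.mem_sup_right (Subgroup.mem_zpowers a)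
  have hXH : X ≤ H := by rw [hX]; exact sup_le hQH (Subgroup.zpowers_le.2 haH)
  have hXV : X ≤ Subgroup.normalizer (V : Set G) := hXH.trans hHV
  obtain ⟨n, θ, ρ₀, hρ₀⟩ := Cfsg.H5.Lin.exists_rep V X hV hXV
  have hfaith : ∀ h : X, ρ₀ h = 1 → h = 1 := by
    intro h hh
    have h1 := (Cfsg.H5.Lin.rep_eq_one_iff θ ρ₀ hρ₀ hXV h).1 hh
    have h2 : (h : G) ∈ H ⊓ Subgroup.centralizer (V : Set G) := ⟨hXH h.2, h1⟩
    rw [hf, Subgroup.mem_bot] at h2
    exact Subtype.ext h2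
  have hA₀ : (ρ₀ ⟨a, haX⟩ - 1) * (ρ₀ ⟨a, haX⟩ - 1) = 0 :=
    Cfsg.H5.Lin.rep_quadratic θ ρ₀ hρ₀ hXV ⟨a, haX⟩ (Cfsg.Agent.S0593.quad_elementwise ha)
  have hap : (⟨a, haX⟩ : X) ^ p = 1 :=
    hfaith _ (by rw [map_pow]; exact Cfsg.H5.QP.quad_pow_char hA₀)
  have hap' : a ^ p = 1 := by
    have := congrArg Subtype.val hap
    rwa [Subgroup.coe_pow] at this
  have hsol : Cfsg.IsPSolvable p X :=
    Cfsg.H5.isPSolvable_sup_zpowers Q a hQ hap' (hQn haH) X hX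
  have hXN : X ≤ Subgroup.normalizer (Q : Set G) := hXH.trans hQn
  have hN : (Q.subgroupOf X).Normal := Subgroup.normal_subgroupOf_of_le_normalizer hXN
  have hna : (⟨a, haX⟩ : X) ∉ Cfsg.pCore p X := by
    intro hmem
    apply hqa
    have hPn : (Cfsg.pCore p X).Normal := Cfsg.H5.pCore_normal p X
    obtain ⟨a', ha'⟩ : ∃ a' : X, a' = ⟨a, haX⟩ := ⟨_, rfl⟩
    obtain ⟨q', hq'⟩ : ∃ q' : X, q' = ⟨q, hQX hqQ⟩ := ⟨_, rfl⟩
    rw [← ha'] at hmem
    have hq'N : q' ∈ Q.subgroupOf X := by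
      rw [Subgroup.mem_subgroupOf, hq']
      exact hqQ
    have hcP : q' * a' * q'⁻¹ * a'⁻¹ ∈ Cfsg.pCore p X :=
      (Cfsg.pCore p X).mul_mem (hPn.conj_mem a' hmem q') ((Cfsg.pCore p X).inv_mem hmem)
    have hcN : q' * a' * q'⁻¹ * a'⁻¹ ∈ Q.subgroupOf X := by
      have h1 : a' * q'⁻¹ * a'⁻¹ ∈ Q.subgroupOf X :=
        hN.conj_mem q'⁻¹ ((Q.subgroupOf X).inv_mem hq'N) a'
      have h2 := (Q.subgroupOf X).mul_mem hq'N h1
      have e : q' * (a' * q'⁻¹ * a'⁻¹) = q' * a' * q'⁻¹ * a'⁻¹ := by group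
      rw [e] at h2
      exact h2
    have hNc : (Nat.card (Q.subgroupOf X)).Coprime p := by
      rw [Nat.card_congr (Subgroup.subgroupOfEquivOfLe hQX).toEquiv]
      exact hQ
    have hc1 : q' * a' * q'⁻¹ * a'⁻¹ = 1 :=
      Cfsg.H5.eq_one_of_coprime_of_mem_pgroup (Cfsg.H5.coprime_orderOf_of_mem hNc hcN)
        (Cfsg.H5.pCore_isPGroup p X) hcP
    have h3 : a' * q' = q' * a' := by
      calc a' * q' = (q' * a' * q'⁻¹ * a'⁻¹)⁻¹ * (q' * a') := by group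
        _ = q' * a' := by rw [hc1, inv_one, one_mul]
    have h4 := congrArg Subtype.val h3
    rw [ha', hq'] at h4
    exact h4
  obtain ⟨hp3, hsec⟩ := Cfsg.H5.SL23.section_of_quadratic_psolv hp hsol n ρ₀ hfaith
    ⟨a, haX⟩ hA₀ hna
  obtain ⟨K, L, hL, hKX, hiso⟩ := Cfsg.H5.SL23.section_of_hasSection X hsec
  exact ⟨hp3, K, L, hL, hKX.trans hXH, hiso⟩

end Cfsg.Agent.S0594
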