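import Mathlib
import Cfsg.Statements.S0596
import Cfsg.Agent.H5.SL23Section
import Cfsg.Agent.S0593

set_option autoImplicit false
open Cfsg

namespace Cfsg.Agent.S0596

/-- For odd p, a p-separable group with a faithful action on an elementary abelian p-group that is not p-stable has p = 3 and involves SL(2,3). -/
theorem result {G : Type*} [Group G] [Finite G] {p : ℕ} [Fact p.Prime] (hp : p ≠ 2) (V H : Subgroup G) (hV : Cfsg.IsElementaryAbelian p V) (hHV : H ≤ Subgroup.normalizer (V : Set G)) (hf : H ⊓ Subgroup.centralizer (V : Set G) = ⊥) (hsep : Cfsg.IsPSolvable p H) (a : G) (haH : a ∈ H) (hq : ⁅⁅V, Subgroup.zpowers a⁆, Subgroup.zpowers a⁆ = ⊥) (hna : a ∉ (Cfsg.pCore p H).map H.subtype) : p = 3 ∧ ∃ (K L : Subgroup G) (hL : (L.subgroupOf K).Normal), K ≤ H ∧ Nonempty ((K ⧸ L.subgroupOf K) ≃* Matrix.SpecialLinearGroup (Fin 2) (ZMod 3)) := by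
  have hna' : (⟨a, haH⟩ : H) ∉ Cfsg.pCore p H := by
    intro h
    exact hna ⟨⟨a, haH⟩, h, rfl⟩
  obtain ⟨n, θ, ρ₀, hρ₀⟩ := Cfsg.H5.Lin.exists_rep V H hV hHV
  have hfaith : ∀ h : H, ρ₀ h = 1 → h = 1 := by
    intro h hh
    have h1 := (Cfsg.H5.Lin.rep_eq_one_iff θ ρ₀ hρ₀ hHV h).1 hh
    have h2 : (h : G) ∈ H ⊓ Subgroup.centralizer (V : Set G) := ⟨h.2, h1⟩
    rw [hf, Subgroup.mem_bot] at h2
    exact Subtype.ext h2
  have hA₀ : (ρ₀ ⟨a, haH⟩ - 1) * (ρ₀ ⟨a, haH⟩ - 1) = 0 :=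
    Cfsg.H5.Lin.rep_quadratic θ ρ₀ hρ₀ hHV ⟨a, haH⟩ (Cfsg.Agent.S0593.quad_elementwise hq)
  obtain ⟨hp3, hsec⟩ := Cfsg.H5.SL23.section_of_quadratic_psolv hp hsep n ρ₀ hfaith
    ⟨a, haH⟩ hA₀ hna'
  exact ⟨hp3, Cfsg.H5.SL23.section_of_hasSection H hsec⟩

end Cfsg.Agent.S0596
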