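-- Statement S0599: the Timmesfeld replacement theorem.
import Mathlib
import Cfsg.Statements.S0599
import Cfsg.Agent.H5.Replacement
import Cfsg.Agent.H5.NilAct
import Cfsg.Agent.H5.Thompson

set_option autoImplicit false
open Cfsg

namespace Cfsg.Agent.S0599

/-- The Timmesfeld replacement Theorem: replacing a best offender A by C_A([U, A]) gives a best offender with fixed points [U, A]C_V(A), still nontrivial on V if A was. -/
theorem result {G : Type*} [Group G] [Finite G] {p : ℕ} [Fact p.Prime] (V A : Subgroup G) (hV : Cfsg.IsElementaryAbelian p V) (hAV : A ≤ Subgroup.normalizer (V : Set G)) (hA : Cfsg.IsBestOffenderOn p V A) (U : Subgroup G) (hU : U ≤ V) : Cfsg.IsBestOffenderOn p V (A ⊓ Subgroup.centralizer ((⁅U, A⁆ : Subgroup G) : Set G)) ∧ V ⊓ Subgroup.centralizer ((A ⊓ Subgroup.centralizer ((⁅U, A⁆ : Subgroup G) : Set G) : Subgroup G) : Set G) = ⁅U, A⁆ ⊔ (V ⊓ Subgroup.centralizer (A : Set G)) ∧ (⁅V, A⁆ ≠ ⊥ → ⁅V, A ⊓ Subgroup.centralizer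 ((⁅U, A⁆ : Subgroup G) : Set G)⁆ ≠ ⊥) := by
  have hVc : IsMulCommutative V := hV.1
  obtain ⟨hmax, hab, hpow⟩ := hA
  obtain ⟨h1, h2⟩ := Cfsg.H5.replacement V A hAV hab hmax U hU
  set B := A ⊓ Subgroup.centralizer ((⁅U, A⁆ : Subgroup G) : Set G) with hB
  have hBA : B ≤ A := inf_le_left
  refine ⟨⟨?_, ?_, ?_⟩, h2, ?_⟩
  · intro B' hB'
    have := hmax B' (hB'.trans hBA)
    have h1' : Nat.card B * Nat.card ↥(V ⊓ Subgroup.centralizer (B : Set G)) =
        Nat.card A * Nat.card ↥(V ⊓ Subgroup.centralizer (A : Set G)) := h1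
    rw [h1']
    exact this
  · exact (Subgroup.commutator_mono hBA hBA).trans hab
  · intro b hb
    exact hpow b (hBA hb)
  · intro hne hbot
    apply hne
    rw [Subgroup.commutator_eq_bot_iff_le_centralizer] at hbot
    have hfix : Cfsg.H5.fix V B = V := inf_eq_left.mpr hbot
    rw [hfix] at h2
    have hUA : ⁅U, A⁆ ≤ ⁅V, A⁆ := Subgroup.commutator_mono hU le_rfl
    exact Cfsg.H5.commutator_eq_bot_of_sup_eq hVc (Cfsg.H5.isPGroup_of_isElementaryAbelian hV)
      hAV hpow hUA (inf_le_left : Cfsg.H5.fix V A ≤ V) (inf_le_right : Cfsg.H5.fix V A ≤ _)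
      (le_of_eq h2)

end Cfsg.Agent.S0599
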