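import Cfsg.Statements.S0603
import Cfsg.Agent.H5.Thompson

set_option autoImplicit false
open Cfsg

namespace Cfsg.Agent.S0603

/-- The Thompson subgroup of any subgroup containing J(G) is J(G) itself. -/
theorem result {G : Type*} [Group G] [Finite G] {p : ℕ} [Fact p.Prime] (U : Subgroup G) (hU : Cfsg.thompsonSubgroup p G ≤ U) : Cfsg.thompsonSubgroupOf p U = Cfsg.thompsonSubgroup p G := by
  obtain ⟨A, hA⟩ := Cfsg.H5.maxElementaryAbelianSubgroups_nonempty (G := G) p
  have hAJ : A ≤ Cfsg.thompsonSubgroup p G := le_sSup hA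
  rw [Cfsg.H5.thompsonSubgroupOf_eq_sSup hA (hAJ.trans hU)]
  unfold Cfsg.thompsonSubgroup
  congr 1
  ext B
  constructor
  · rintro ⟨hB, -⟩; exact hB
  · intro hB; exact ⟨hB, (le_sSup hB).trans hU⟩

end Cfsg.Agent.S0603
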