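import Cfsg.Statements.S0605
import Cfsg.Agent.H5.Basic

set_option autoImplicit false
open Cfsg

namespace Cfsg.Agent.S0605

/-- Elements of order p in the centralizer of the Thompson subgroup belong to the Thompson subgroup (so to its centre). -/
theorem result {G : Type*} [Group G] [Finite G] {p : ℕ} [Fact p.Prime] (x : G) (hx : x ∈ Subgroup.centralizer (Cfsg.thompsonSubgroup p G : Set G)) (ho : orderOf x = p) : x ∈ Cfsg.thompsonSubgroup p G := by
  obtain ⟨A, hA⟩ := Cfsg.H5.maxElementaryAbelianSubgroups_nonempty (G := G) p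
  have hAJ : A ≤ Cfsg.thompsonSubgroup p G := le_sSup hA
  have hxp : x ^ p = 1 := by rw [← ho]; exact pow_orderOf_eq_one x
  have hZ : Cfsg.IsElementaryAbelian p (Subgroup.zpowers x) := Cfsg.H5.isElementaryAbelian_zpowers hxp
  have hcent : A ≤ Subgroup.centralizer ((Subgroup.zpowers x : Subgroup G) : Set G) := by
    rw [Subgroup.le_centralizer_iff, Subgroup.zpowers_le]
    exact Subgroup.centralizer_le (by exact_mod_cast hAJ) hx
  have hB := Cfsg.H5.isElementaryAbelian_sup hA.1 hZ hcent
  have := Cfsg.H5.eq_of_mem_maxElementaryAbelianSubgroups_of_le hA hB le_sup_left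
  apply hAJ
  rw [← this]
  exact (le_sup_right : Subgroup.zpowers x ≤ A ⊔ Subgroup.zpowers x) (Subgroup.mem_zpowers x)

end Cfsg.Agent.S0605
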