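import Mathlib
import Cfsg.Statements.S0609
import Cfsg.Agent.H5.PSolvable
import Cfsg.Agent.H5.Thompson
import Cfsg.Agent.H5.Omega
import Cfsg.Agent.S0629
import Cfsg.Agent.Lib.Helper10.PComponent
import Cfsg.Agent.Lib.Helper16.SPE2
import Cfsg.Agent.Lib.Helper27.Thompson

set_option autoImplicit false
open Cfsg

namespace Cfsg.Agent.S0609

open Cfsg.H5 Subgroup

variable {G : Type*} [Group G]

theorem comp_subtype_injective [Finite G] {p : ℕ} [Fact p.Prime] (S R : Subgroup G) [R.Normal]
    (hS : IsPGroup p S) (hR : (Nat.card R).Coprime p) :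
    Function.Injective ((QuotientGroup.mk' R).comp S.subtype) := by
  rw [← MonoidHom.ker_eq_bot_iff, eq_bot_iff]
  intro s hs
  rw [MonoidHom.mem_ker, MonoidHom.comp_apply, QuotientGroup.mk'_apply, QuotientGroup.eq_one_iff] at hs
  have h1 : (s : G) = 1 :=
    eq_one_of_coprime_of_mem_pgroup (coprime_orderOf_of_mem hR hs) hS s.2
  rw [Subgroup.mem_bot]
  exact Subtype.ext h1

theorem map_top_subtype (S : Subgroup G) : (⊤ : Subgroup ↥S).map S.subtype = S := by
  rw [← MonoidHom.range_eq_map, Subgroup.range_subtype]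

theorem omegaZ_map_mk [Finite G] {p : ℕ} [Fact p.Prime] (S R : Subgroup G) [R.Normal]
    (hS : IsPGroup p S) (hR : (Nat.card R).Coprime p) :
    (omegaZ p S).map (QuotientGroup.mk' R) = omegaZ p (S.map (QuotientGroup.mk' R)) := by
  have hτ := comp_subtype_injective S R hS hR
  have h1 : omegaZ p S = (omegaZ p (⊤ : Subgroup ↥S)).map S.subtype := by
    rw [omegaZ_map_injective p S.subtype S.subtype_injective, map_top_subtype]
  have h2 := omegaZ_map_injective p _ hτ (⊤ : Subgroup ↥S)
  rw [← Subgroup.map_map, ← Subgroup.map_map, map_top_subtype, ← h1] at h2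
  exact h2

theorem thompsonSubgroupOf_map_mk [Finite G] {p : ℕ} [Fact p.Prime] (S R : Subgroup G) [R.Normal]
    (hS : IsPGroup p S) (hR : (Nat.card R).Coprime p) :
    (thompsonSubgroupOf p S).map (QuotientGroup.mk' R) =
      thompsonSubgroupOf p (S.map (QuotientGroup.mk' R)) := by
  have hτ := comp_subtype_injective S R hS hR
  have hinj : Function.Injective ((QuotientGroup.mk' R).subgroupMap S) := by
    intro a b hab
    apply hτ
    exact congrArg Subtype.val hab
  let e : ↥S ≃* ↥(S.map (QuotientGroup.mk' R)) :=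
    MulEquiv.ofBijective ((QuotientGroup.mk' R).subgroupMap S)
      ⟨hinj, MonoidHom.subgroupMap_surjective _ _⟩
  have h1 := thompsonSubgroup_map_equiv (p := p) e
  unfold thompsonSubgroupOf
  rw [← h1, Subgroup.map_map, Subgroup.map_map]
  rfl

/-- Thompson factorizability passes to and from the quotient by the largest normal subgroup of order prime to p. -/
theorem result {G : Type*} [Group G] [Finite G] {p : ℕ} [Fact p.Prime] : Cfsg.IsThompsonFactorizable p G ↔ Cfsg.IsThompsonFactorizable p (G ⧸ Cfsg.pPrimeCore p G) := by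
  have hRn : (pPrimeCore p G).Normal := pPrimeCore_normal p G
  have hRcop : (Nat.card (pPrimeCore p G)).Coprime p := coprime_card_pPrimeCore p G
  set π := QuotientGroup.mk' (pPrimeCore p G) with hπ
  have hπs : Function.Surjective π := QuotientGroup.mk'_surjective _
  constructor
  · intro hF Sb gb
    obtain ⟨S, rfl⟩ := Sylow.mapSurjective_surjective hπs p Sb
    obtain ⟨g, rfl⟩ := hπs gb
    obtain ⟨x, hx, c, hc, n, hn, hg⟩ := hF S g
    have hZ := omegaZ_map_mk (S : Subgroup G) (pPrimeCore p G) S.2 hRcop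
    have hJ := thompsonSubgroupOf_map_mk (S : Subgroup G) (pPrimeCore p G) S.2 hRcop
    refine ⟨1, one_mem _, π c, ?_, π n, ?_, ?_⟩
    · show π c ∈ centralizer ((omegaZ p ((S : Subgroup G).map π) : Subgroup (G ⧸ pPrimeCore p G)) :
        Set (G ⧸ pPrimeCore p G))
      rw [← hZ, mem_centralizer_iff]
      rintro _ ⟨z, hz, rfl⟩
      rw [← map_mul, ← map_mul, mem_centralizer_iff.mp hc z hz]
    · show π n ∈ normalizer ((thompsonSubgroupOf p ((S : Subgroup G).map π) :
        Subgroup (G ⧸ pPrimeCore p G)) : Set (G ⧸ pPrimeCore p G))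
      rw [← hJ]
      exact Subgroup.le_normalizer_map π (Subgroup.mem_map_of_mem π hn)
    · rw [hg, map_mul, map_mul, one_mul]
      have : π x = 1 := by
        rw [hπ, QuotientGroup.mk'_apply, QuotientGroup.eq_one_iff]; exact hx
      rw [this, one_mul]
  · intro hF S g
    have hZ := omegaZ_map_mk (S : Subgroup G) (pPrimeCore p G) S.2 hRcop
    have hJ := thompsonSubgroupOf_map_mk (S : Subgroup G) (pPrimeCore p G) S.2 hRcop
    obtain ⟨xb, hxb, cb, hcb, nb, hnb, hgb⟩ := hF (S.mapSurjective hπs) (π g)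
    rw [Cfsg.Agent.Lib.Helper10.pPrimeCore_quotient_eq_bot, Subgroup.mem_bot] at hxb
    subst hxb
    rw [one_mul] at hgb
    have hZp : IsPGroup p (omegaZ p (S : Subgroup G)) :=
      S.2.to_le ((omegaOne_le p _).trans inf_le_left)
    have hJp : IsPGroup p (thompsonSubgroupOf p (S : Subgroup G)) :=
      S.2.to_le (Cfsg.Agent.Lib.Helper27.thompsonSubgroupOf_le p _)
    have hcb' : cb ∈ centralizer (((omegaZ p (S : Subgroup G)).map π : Subgroup (G ⧸ pPrimeCore p G)) :
        Set (G ⧸ pPrimeCore p G)) := by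
      rw [hZ]; exact hcb
    have hnb' : nb ∈ normalizer (((thompsonSubgroupOf p (S : Subgroup G)).map π :
        Subgroup (G ⧸ pPrimeCore p G)) : Set (G ⧸ pPrimeCore p G)) := by
      rw [hJ]; exact hnb
    obtain ⟨c, hc, rfl⟩ := Cfsg.Agent.S0629.centralizer_map_mk_le _ (pPrimeCore p G) hZp hRcop hcb'
    obtain ⟨n, hn, rfl⟩ := Cfsg.Agent.Lib.Helper16.normalizer_map_mk_le _ (pPrimeCore p G) hJp hRcop hnb'
    refine ⟨g * (c * n)⁻¹, ?_, c, hc, n, hn, by group⟩
    rw [← QuotientGroup.eq_one_iff]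
    show π (g * (c * n)⁻¹) = 1
    rw [map_mul, map_inv, hgb, map_mul, mul_inv_cancel]

end Cfsg.Agent.S0609
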