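import Cfsg.Statements.S0611
import Cfsg.Agent.Lib.Helper20.BestOff

set_option autoImplicit false
open Cfsg

namespace Cfsg.Agent.S0611

/-- Minimal nontrivially-acting best offenders in such a faithful group have order p, commutator [V, B] of order p and fixed points of index p. -/
theorem result {G : Type*} [Group G] [Finite G] {p : ℕ} [Fact p.Prime] (V H : Subgroup G) (hV : Cfsg.IsElementaryAbelian p V) (hHV : H ≤ Subgroup.normalizer (V : Set G)) (hf : H ⊓ Subgroup.centralizer (V : Set G) = ⊥) (hS1 : Subgroup.centralizer (Cfsg.pPrimeCore p ↥H : Set ↥H) ≤ Cfsg.pPrimeCore p ↥H) (hS3 : H = ⨆ A : {A : Subgroup G // A ≤ H ∧ Cfsg.IsBestOffenderOn p V A}, (A : Subgroup G)) (hH1 : H ≠ ⊥) (A : Subgroup G) (hAH : A ≤ H) (hA : Cfsg.IsBestOffenderOn p V A) (hAV : ⁅V, A⁆ ≠ ⊥) (hmin : ∀ B : Subgroup G, B ≤ A → Cfsg.IsBestOffenderOn p V B → ⁅V, B⁆ ≠ ⊥ → B = A) : Nat.card A = p ∧ Nat.card ↥(⁅V, A⁆) = p ∧ ((V ⊓ Subgroup.centralizer (A : Set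 G))).relIndex V = p := by
  have hp : p.Prime := Fact.out
  have hS := Cfsg.Agent.Lib.Helper20.BO.setup_of (H := H) hV hHV hf
  have hO := Cfsg.Agent.Lib.Helper20.BO.off_of hHV hf hS1 hAH hA
  haveI hVc : IsMulCommutative V := hV.1
  have hA1 : A ≠ ⊥ := by
    rintro rfl
    apply hAV
    rw [Subgroup.commutator_eq_bot_iff_le_centralizer, Subgroup.le_centralizer_iff]
    exact bot_le
  obtain ⟨B, hBA, hcard, hmm⟩ := Cfsg.Agent.Lib.Helper20.BO.exists_hyperplane_mm hS hO hA1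
  have hBbo := Cfsg.Agent.Lib.Helper20.BO.isBestOffenderOn_of_mm hA hBA hmm
  have hB : B = ⊥ := by
    by_contra hB
    have h1 := Cfsg.Agent.Lib.Helper20.BO.commutator_ne_bot_of_ne_bot hf (hBA.trans hAH) hB
    have h2 := hmin B hBA hBbo h1
    have h3 := Cfsg.Agent.Lib.Helper20.BO.card_lt_of_hyperplane hcard
    rw [h2] at h3
    exact lt_irrefl _ h3
  rw [hB, Subgroup.card_bot, mul_one] at hcard
  rw [hB, Cfsg.Agent.Lib.Helper20.BO.mm_bot] at hmm
  -- `|V| = p |C_V(A)|`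
  have hVcard : Nat.card V = p * Nat.card ↥(V ⊓ Subgroup.centralizer (A : Set G)) := by
    have : Cfsg.H5.mm V A = Nat.card A * Nat.card ↥(V ⊓ Subgroup.centralizer (A : Set G)) := rfl
    rw [hmm, this, hcard]
  have hfpos : 0 < Nat.card ↥(V ⊓ Subgroup.centralizer (A : Set G)) := Nat.card_pos
  refine ⟨hcard, ?_, ?_⟩
  · -- `A` is cyclic generated by `a`
    obtain ⟨a, ha1⟩ := Subgroup.ne_bot_iff_exists_ne_one.mp hA1
    have ha1' : (a : G) ≠ 1 := fun h => ha1 (Subtype.ext h)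
    have hZ : Subgroup.zpowers (a : G) = A := by
      apply Subgroup.eq_of_le_of_card_ge (Subgroup.zpowers_le.mpr a.2)
      rw [Cfsg.Agent.Lib.Helper20.BO.card_zpowers_of_exp (hO.ea.exp a a.2) ha1', hcard]
    have hnorm : (a : G) ∈ Subgroup.normalizer (V : Set G) := hHV (hAH a.2)
    have h1 := Cfsg.Agent.Lib.Helper20.BO.card_commutator_zpowers (V := V) hnorm
    rw [hZ] at h1
    have h2 : Nat.card ↥(⁅V, A⁆) * Nat.card ↥(V ⊓ Subgroup.centralizer (A : Set G)) =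
        p * Nat.card ↥(V ⊓ Subgroup.centralizer (A : Set G)) := by
      rw [← hVcard]; exact h1
    exact Nat.eq_of_mul_eq_mul_right hfpos h2
  · have h1 := Cfsg.H5.card_mul_relIndex_of_le
      (inf_le_left : V ⊓ Subgroup.centralizer (A : Set G) ≤ V)
    rw [hVcard, mul_comm p] at h1
    exact Nat.eq_of_mul_eq_mul_left hfpos h1

end Cfsg.Agent.S0611
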