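import Cfsg.Statements.S0612
import Cfsg.Agent.Lib.Helper20.BestOff

set_option autoImplicit false
open Cfsg

namespace Cfsg.Agent.S0612

/-- In such a faithful group every nontrivial best offender decomposes as a direct product of minimal nontrivially-acting best offenders. -/
theorem result {G : Type*} [Group G] [Finite G] {p : ℕ} [Fact p.Prime] (V H : Subgroup G) (hV : Cfsg.IsElementaryAbelian p V) (hHV : H ≤ Subgroup.normalizer (V : Set G)) (hf : H ⊓ Subgroup.centralizer (V : Set G) = ⊥) (hS1 : Subgroup.centralizer (Cfsg.pPrimeCore p ↥H : Set ↥H) ≤ Cfsg.pPrimeCore p ↥H) (hS3 : H = ⨆ A : {A : Subgroup G // A ≤ H ∧ Cfsg.IsBestOffenderOn p V A}, (A : Subgroup G)) (hH1 : H ≠ ⊥) (A : Subgroup G) (hAH : A ≤ H) (hA : Cfsg.IsBestOffenderOn p V A) (hA1 : A ≠ ⊥) : ∃ (k : ℕ) (B : Fin k → Subgroup G), (∀ i, B i ≤ A ∧ Cfsg.IsBestOffenderOn p V (B i) ∧ ⁅V, B i⁆ ≠ ⊥ ∧ ∀ C : Subgroup G, C ≤ B i → Cfsg.IsBestOffenderOn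 p V C → ⁅V, C⁆ ≠ ⊥ → C = B i) ∧ iSupIndep B ∧ ⨆ i, B i = A := by
  have hp : p.Prime := Fact.out
  have hS := Cfsg.Agent.Lib.Helper20.BO.setup_of (H := H) hV hHV hf
  have hO := Cfsg.Agent.Lib.Helper20.BO.off_of hHV hf hS1 hAH hA
  haveI hVc : IsMulCommutative V := hV.1
  obtain ⟨k, f, hfam, hind, hsup⟩ :=
    Cfsg.Agent.Lib.Helper20.BO.exists_family hS (Nat.card A) A rfl hO hA1
  refine ⟨k, f, ?_, hind, hsup⟩
  intro i
  obtain ⟨hfA, hfcard, hfmm⟩ := hfam i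
  have hfne : f i ≠ ⊥ := by
    intro h
    rw [h, Subgroup.card_bot] at hfcard
    exact hp.one_lt.ne hfcard
  refine ⟨hfA, Cfsg.Agent.Lib.Helper20.BO.isBestOffenderOn_of_mm hA hfA hfmm,
    Cfsg.Agent.Lib.Helper20.BO.commutator_ne_bot_of_ne_bot hf (hfA.trans hAH) hfne, ?_⟩
  intro C hC _ hCV
  have hCne : C ≠ ⊥ := by
    rintro rfl
    apply hCV
    rw [Subgroup.commutator_eq_bot_iff_le_centralizer, Subgroup.le_centralizer_iff]
    exact bot_le
  have hdvd : Nat.card C ∣ p := hfcard ▸ Subgroup.card_dvd_of_le hC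
  rcases (Nat.dvd_prime hp).mp hdvd with h1 | h1
  · exact absurd (Subgroup.card_eq_one.mp h1) hCne
  · exact Subgroup.eq_of_le_of_card_ge hC (by rw [h1, hfcard])

end Cfsg.Agent.S0612
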