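import Cfsg.Statements.S0615
import Cfsg.Agent.Lib.Helper20.SubnIrr

set_option autoImplicit false
open Cfsg

namespace Cfsg.Agent.S0615

/-- Two subnormal subgroups acting irreducibly on their incomparable commutator modules, in a faithful group with trivial largest normal p-subgroup, generate their direct product, and the commutator module splits accordingly. -/
theorem result {G : Type*} [Group G] [Finite G] {p : ℕ} [Fact p.Prime] (V E E₁ E₂ : Subgroup G) (hV : Cfsg.IsElementaryAbelian p V) (hEV : E ≤ Subgroup.normalizer (V : Set G)) (hf : E ⊓ Subgroup.centralizer (V : Set G) = ⊥) (hgen : E = E₁ ⊔ E₂) (hs₁ : (E₁.subgroupOf E).IsSubnormal) (hs₂ : (E₂.subgroupOf E).IsSubnormal) (hOp : Cfsg.pCore p ↥E = ⊥) (hirr₁ : (∀ U : Subgroup G, U ≤ ⁅V, E₁⁆ → E₁ ≤ Subgroup.normalizer (U : Set G) → U = ⊥ ∨ U = ⁅V, E₁⁆)) (hirr₂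 : (∀ U : Subgroup G, U ≤ ⁅V, E₂⁆ → E₂ ≤ Subgroup.normalizer (U : Set G) → U = ⊥ ∨ U = ⁅V, E₂⁆)) (h12 : ¬ ⁅V, E₁⁆ ≤ ⁅V, E₂⁆) (h21 : ¬ ⁅V, E₂⁆ ≤ ⁅V, E₁⁆) (hc₁ : 2 < Nat.card E₁) (hc₂ : 2 < Nat.card E₂) : ⁅E₁, E₂⁆ = ⊥ ∧ E₁ ⊓ E₂ = ⊥ ∧ ⁅V, E₁⁆ ⊓ ⁅V, E₂⁆ = ⊥ ∧ ⁅V, E⁆ = ⁅V, E₁⁆ ⊔ ⁅V, E₂⁆ := by
  classical
  have hE₁E : E₁ ≤ E := by rw [hgen]; exact le_sup_left
  have hE₂E : E₂ ≤ E := by rw [hgen]; exact le_sup_right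
  have hcfg : Cfsg.Agent.Lib.Helper20.SI.Cfg p V E E₁ E₂ :=
    ⟨hEV, hf, Cfsg.Agent.Lib.Helper20.SI.noSnP_of_pCore hOp, ⟨hE₁E, hs₁⟩, ⟨hE₂E, hs₂⟩,
      hirr₁, hirr₂, hc₁, hc₂, h12, h21⟩
  have hk := Cfsg.Agent.Lib.Helper20.SI.key hV _ E E₁ E₂ rfl hcfg
  have hcomm : ⁅E₁, E₂⁆ = ⊥ := by
    have h := Cfsg.Agent.S0597.result V E hV hEV hf E₁ E₂ hE₁E hE₂E hs₁ hs₂ hk
    rw [hOp, Subgroup.map_bot] at h
    exact le_bot_iff.mp h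
  have hE₁c : E₁ ≤ Subgroup.centralizer (E₂ : Set G) :=
    Subgroup.commutator_eq_bot_iff_le_centralizer.mp hcomm
  have hE₁V : E₁ ≤ Subgroup.normalizer (V : Set G) := hE₁E.trans hEV
  have hE₂V : E₂ ≤ Subgroup.normalizer (V : Set G) := hE₂E.trans hEV
  have hE₁nE₂ : E₁ ≤ Subgroup.normalizer (E₂ : Set G) :=
    hE₁c.trans (Subgroup.centralizer_le_normalizer _)
  have hE₁W₂ : E₁ ≤ Subgroup.normalizer ((⁅V, E₂⁆ : Subgroup G) : Set G) :=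
    Cfsg.Agent.Lib.Helper20.BO.le_normalizer_commutator_of_le hE₁V hE₁nE₂
  have hE₁W₁ : E₁ ≤ Subgroup.normalizer ((⁅V, E₁⁆ : Subgroup G) : Set G) :=
    Cfsg.Agent.Lib.Helper20.BO.le_normalizer_commutator_of_le hE₁V Subgroup.le_normalizer
  have hWW : ⁅V, E₁⁆ ⊓ ⁅V, E₂⁆ = ⊥ := by
    have hinv : E₁ ≤ Subgroup.normalizer ((⁅V, E₁⁆ ⊓ ⁅V, E₂⁆ : Subgroup G) : Set G) :=
      Cfsg.Agent.Lib.Helper20.BO.le_normalizer_inf' hE₁W₁ hE₁W₂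
    rcases hirr₁ _ inf_le_left hinv with h | h
    · exact h
    · exact absurd (inf_eq_left.mp h) h12
  have hEE : E₁ ⊓ E₂ = ⊥ := by
    have h1 : ⁅V, E₁ ⊓ E₂⁆ ≤ ⁅V, E₁⁆ ⊓ ⁅V, E₂⁆ :=
      le_inf (Subgroup.commutator_mono le_rfl inf_le_left)
        (Subgroup.commutator_mono le_rfl inf_le_right)
    rw [hWW] at h1
    have h2 : ⁅E₁ ⊓ E₂, V⁆ = ⊥ := by
      rw [Subgroup.commutator_comm]; exact le_bot_iff.mp h1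
    have h3 : E₁ ⊓ E₂ ≤ Subgroup.centralizer (V : Set G) :=
      Subgroup.commutator_eq_bot_iff_le_centralizer.mp h2
    have h4 : E₁ ⊓ E₂ ≤ E ⊓ Subgroup.centralizer (V : Set G) :=
      le_inf (inf_le_left.trans hE₁E) h3
    rw [hf] at h4
    exact le_bot_iff.mp h4
  refine ⟨hcomm, hEE, hWW, ?_⟩
  rw [hgen]
  exact Cfsg.Agent.Lib.Helper20.BO.commutator_sup_eq hE₁V hE₂V

end Cfsg.Agent.S0615
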