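import Cfsg.Statements.S0618
import Cfsg.Agent.Lib.Helper20.FFBridge
import Cfsg.Agent.S0600
import Cfsg.Agent.S0601
import Cfsg.Agent.S0608

set_option autoImplicit false
open Cfsg

namespace Cfsg.Agent.S0618

/-- A p-separable group with trivial p'-core in which the Thompson factorization fails has p = 2 or 3, and J(G) induces on the normal closure of Ω₁(Z(S)) a group containing a normal SL(2, p). -/
theorem result {G : Type*} [Group G] [Finite G] {p : ℕ} [Fact p.Prime] (hsep : Cfsg.IsPSolvable p G) (hO : Cfsg.pPrimeCore p G = ⊥) (hnf : ¬ Cfsg.IsThompsonFactorizable p G) : (p = 2 ∨ p = 3) ∧ ∃ E : Subgroup G, Subgroup.centralizer ((⨆ S : Sylow p G, Cfsg.omegaOne p ((S : Subgroup G) ⊓ Subgroup.centralizer ((S : Subgroup G) : Set G))) : Set G) ≤ E ∧ E ≤ Cfsg.thompsonSubgroup p G ⊔ Subgroup.centralizer ((⨆ S : Sylow p G, Cfsg.omegaOne p ((S : Subgroup G) ⊓ Subgroup.centralizer ((S : Subgroup G) : Set G))) : Set G) ∧ Cfsg.thompsonSubgroup p G ⊔ Subgroup.centralizer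 ((⨆ S : Sylow p G, Cfsg.omegaOne p ((S : Subgroup G) ⊓ Subgroup.centralizer ((S : Subgroup G) : Set G))) : Set G) ≤ Subgroup.normalizer (E : Set G) ∧ ∃ hn : ((Subgroup.centralizer ((⨆ S : Sylow p G, Cfsg.omegaOne p ((S : Subgroup G) ⊓ Subgroup.centralizer ((S : Subgroup G) : Set G))) : Set G)).subgroupOf E).Normal, Nonempty ((↥E ⧸ (Subgroup.centralizer ((⨆ S : Sylow p G, Cfsg.omegaOne p ((S : Subgroup G) ⊓ Subgroup.centralizer ((S : Subgroup G) : Set G))) : Set G)).subgroupOf E) ≃* Matrix.SpecialLinearGroup (Fin 2) (ZMod p)) := by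
  classical
  have hc := Cfsg.H5.centralizer_pCore_le_of_isPSolvable hsep hO
  obtain ⟨hVn, hVe, -⟩ := Cfsg.Agent.S0601.result (p := p) hc
  have h608 := Cfsg.Agent.S0608.result (p := p) hO
  obtain ⟨V, hV⟩ : ∃ V : Subgroup G, V = ⨆ S : Sylow p G, Cfsg.omegaOne p
      (((S : Subgroup G)) ⊓ Subgroup.centralizer ((S : Subgroup G) : Set G)) := ⟨_, rfl⟩
  rw [← hV] at hVn hVe h608
  have hcent : Subgroup.centralizer ((⨆ S : Sylow p G, Cfsg.omegaOne p ((S : Subgroup G) ⊓
      Subgroup.centralizer ((S : Subgroup G) : Set G))) : Set G) =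
      Subgroup.centralizer (V : Set G) := by
    rw [hV]
    exact Cfsg.Agent.Lib.Helper20.FFB.centralizer_iSup_set _
  rw [hcent]
  haveI := hVn
  have hgen : V = ⨆ S : Sylow p G, V ⊓ Subgroup.centralizer ((S : Subgroup G) : Set G) := by
    apply le_antisymm
    · conv_lhs => rw [hV]
      apply iSup_le
      intro S
      refine le_trans (le_inf ?_ ?_)
        (le_iSup (fun S : Sylow p G => V ⊓ Subgroup.centralizer ((S : Subgroup G) : Set G)) S)
      · rw [hV]
        exact le_iSup (fun S : Sylow p G => Cfsg.omegaOne p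
          (((S : Subgroup G)) ⊓ Subgroup.centralizer ((S : Subgroup G) : Set G))) S
      · unfold Cfsg.omegaOne
        rw [Subgroup.closure_le]
        rintro x ⟨hx, -⟩
        exact (Subgroup.mem_inf.1 hx).2
    · exact iSup_le fun S => inf_le_left
  have hOp := Cfsg.Agent.S0600.result V hVe hgen
  have hJ : ¬ Cfsg.thompsonSubgroup p G ≤ Subgroup.centralizer (V : Set G) :=
    fun h => hnf (h608.mpr h)
  obtain ⟨hV'e, hHV', hf', hS1, hS3⟩ := Cfsg.Agent.Lib.Helper20.FFB.bridge V hsep hVe hOp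
  have hH1 : (Cfsg.thompsonSubgroup p G).map (Cfsg.Agent.Lib.Helper20.FFB.psi V) ≠ ⊥ := by
    rw [Ne, Subgroup.map_eq_bot_iff, Cfsg.Agent.Lib.Helper20.FFB.ker_psi]
    exact hJ
  obtain ⟨hp23, E', hE'H, hHE', ⟨iso⟩⟩ := Cfsg.Agent.Lib.Helper20.FFB.exists_sl2
    (Cfsg.Agent.Lib.Helper20.FFB.Vimg V)
    ((Cfsg.thompsonSubgroup p G).map (Cfsg.Agent.Lib.Helper20.FFB.psi V)) hV'e hHV' hf' hS1 hS3 hH1
  refine ⟨hp23, E'.comap (Cfsg.Agent.Lib.Helper20.FFB.psi V), ?_, ?_, ?_, ?_⟩
  · intro x hx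
    rw [Subgroup.mem_comap, Cfsg.Agent.Lib.Helper20.FFB.psi_eq_one V hx]
    exact one_mem _
  · intro x hx
    obtain ⟨j, hj, hjx⟩ := hE'H (Subgroup.mem_comap.mp hx)
    have h1 : j⁻¹ * x ∈ Subgroup.centralizer (V : Set G) := by
      apply (Cfsg.Agent.Lib.Helper20.FFB.mem_ker_psi V).mp
      rw [MonoidHom.mem_ker, map_mul, map_inv, hjx, inv_mul_cancel]
    have h2 : x = j * (j⁻¹ * x) := by group
    rw [h2]
    exact mul_mem (Subgroup.mem_sup_left hj) (Subgroup.mem_sup_right h1)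
  · apply sup_le
    · intro g hg
      rw [Subgroup.mem_normalizer_iff]
      intro x
      rw [Subgroup.mem_comap, Subgroup.mem_comap, map_mul, map_mul, map_inv]
      exact Subgroup.mem_normalizer_iff.mp (hHE' (Subgroup.mem_map_of_mem _ hg)) _
    · intro g hg
      rw [Subgroup.mem_normalizer_iff]
      intro x
      rw [Subgroup.mem_comap, Subgroup.mem_comap, map_mul, map_mul, map_inv,
        Cfsg.Agent.Lib.Helper20.FFB.psi_eq_one V hg, one_mul, inv_one, mul_one]
  · obtain ⟨f, hf⟩ : ∃ f : ↥(E'.comap (Cfsg.Agent.Lib.Helper20.FFB.psi V)) →* ↥E',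
        f = (Cfsg.Agent.Lib.Helper20.FFB.psi V).subgroupComap E' := ⟨_, rfl⟩
    have hfval : ∀ x, ((f x : ↥E') : Cfsg.Agent.Lib.Helper20.FFB.Hol V) =
        Cfsg.Agent.Lib.Helper20.FFB.psi V (x : G) := by
      intro x
      rw [hf]
      rfl
    have hsurj : Function.Surjective f := by
      rintro ⟨y, hy⟩
      obtain ⟨j, -, hjy⟩ := hE'H hy
      have hjE : j ∈ E'.comap (Cfsg.Agent.Lib.Helper20.FFB.psi V) := by
        rw [Subgroup.mem_comap, hjy]
        exact hy
      refine ⟨⟨j, hjE⟩, ?_⟩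
      apply Subtype.ext
      rw [hfval]
      exact hjy
    have hker : f.ker = (Subgroup.centralizer (V : Set G)).subgroupOf
        (E'.comap (Cfsg.Agent.Lib.Helper20.FFB.psi V)) := by
      ext x
      rw [MonoidHom.mem_ker, Subgroup.mem_subgroupOf,
        ← Cfsg.Agent.Lib.Helper20.FFB.mem_ker_psi V, MonoidHom.mem_ker]
      constructor
      · intro h
        rw [← hfval, h]
        rfl
      · intro h
        apply Subtype.ext
        rw [hfval, h]
        rfl
    have hn : ((Subgroup.centralizer (V : Set G)).subgroupOf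
        (E'.comap (Cfsg.Agent.Lib.Helper20.FFB.psi V))).Normal := by
      rw [← hker]
      exact MonoidHom.normal_ker f
    refine ⟨hn, ⟨?_⟩⟩
    exact (QuotientGroup.quotientMulEquivOfEq hker.symm).trans
      ((QuotientGroup.quotientKerEquivOfSurjective f hsurj).trans iso)

end Cfsg.Agent.S0618
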