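import Cfsg.Statements.S0619
import Cfsg.Agent.Lib.Helper20.FFBridge2

set_option autoImplicit false
open Cfsg
open scoped commutatorElement

namespace Cfsg.Agent.S0619

/-- For a p-separable group and a normal elementary abelian p-subgroup V with no nontrivial normal p-subgroup modulo its centralizer C, the Thompson subgroup J(G) moves Ω₁(Z(J(C))) only inside V. -/
theorem result {G : Type*} [Group G] [Finite G] {p : ℕ} [Fact p.Prime] (hsep : Cfsg.IsPSolvable p G) (V : Subgroup G) [V.Normal] (hV : Cfsg.IsElementaryAbelian p V) (hO : Cfsg.pCore p (G ⧸ Subgroup.centralizer (V : Set G)) = ⊥) : ⁅Cfsg.omegaOne p (Cfsg.centerThompsonOf p (Subgroup.centralizer (V : Set G))), Cfsg.thompsonSubgroup p G⁆ ≤ V := by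
  classical
  have hVC : V ≤ Subgroup.centralizer (V : Set G) := by
    intro v hv
    rw [Subgroup.mem_centralizer_iff]
    intro u hu
    exact congrArg Subtype.val (hV.1.is_comm.comm ⟨u, hu⟩ ⟨v, hv⟩)
  have hL1 : ∀ A₁ ∈ Cfsg.maxElementaryAbelianSubgroups p G,
      A₁ ≤ Subgroup.centralizer (V : Set G) →
      Cfsg.omegaOne p (Cfsg.centerThompsonOf p (Subgroup.centralizer (V : Set G))) ≤ A₁ := by
    intro A₁ hA₁ hA₁C
    unfold Cfsg.omegaOne
    rw [Subgroup.closure_le]
    rintro x ⟨hx, hxp⟩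
    unfold Cfsg.centerThompsonOf at hx
    rw [Subgroup.mem_inf] at hx
    have hA₁J : A₁ ≤ Cfsg.thompsonSubgroupOf p (Subgroup.centralizer (V : Set G)) := by
      rw [Cfsg.H5.thompsonSubgroupOf_eq_sSup hA₁ hA₁C]
      exact le_sSup ⟨hA₁, hA₁C⟩
    have hxc : x ∈ Subgroup.centralizer (A₁ : Set G) :=
      Subgroup.centralizer_le (by exact_mod_cast hA₁J) hx.2
    have hZ := Cfsg.H5.isElementaryAbelian_zpowers hxp
    have hcent : A₁ ≤ Subgroup.centralizer ((Subgroup.zpowers x : Subgroup G) : Set G) := by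
      rw [Subgroup.le_centralizer_iff, Subgroup.zpowers_le]
      exact hxc
    have hB := Cfsg.H5.isElementaryAbelian_sup hA₁.1 hZ hcent
    have h1 := Cfsg.H5.eq_of_mem_maxElementaryAbelianSubgroups_of_le hA₁ hB le_sup_left
    show x ∈ A₁
    rw [← h1]
    exact (le_sup_right : Subgroup.zpowers x ≤ A₁ ⊔ Subgroup.zpowers x) (Subgroup.mem_zpowers x)
  have hA : ∀ A ∈ Cfsg.maxElementaryAbelianSubgroups p G,
      ∀ w ∈ Cfsg.omegaOne p (Cfsg.centerThompsonOf p (Subgroup.centralizer (V : Set G))),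
      ∀ a ∈ A, ⁅w, a⁆ ∈ V := by
    intro A hA w hw a ha
    have hAc : IsMulCommutative A := hA.1.1
    apply Cfsg.Agent.Lib.Helper20.FFB.commutator_mem_of_mem_star V hAc _ ha
    by_cases hAC : A ≤ Subgroup.centralizer (V : Set G)
    · have hwA := hL1 A hA hAC hw
      exact Subgroup.mem_sup_left (Subgroup.mem_inf.mpr ⟨hwA, hAC hwA⟩)
    · have hstar := Cfsg.Agent.Lib.Helper20.FFB.star_mem_max V hsep hV hO hA hAC
      exact hL1 _ hstar (sup_le inf_le_right hVC) hw
  have hT : Cfsg.thompsonSubgroup p G ≤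
      (Subgroup.centralizer (((Cfsg.omegaOne p (Cfsg.centerThompsonOf p
        (Subgroup.centralizer (V : Set G)))).map (QuotientGroup.mk' V) : Subgroup (G ⧸ V)) :
        Set (G ⧸ V))).comap (QuotientGroup.mk' V) := by
    change sSup (Cfsg.maxElementaryAbelianSubgroups p G) ≤ _
    apply sSup_le
    intro A hA' a ha
    rw [Subgroup.mem_comap, Subgroup.mem_centralizer_iff]
    rintro _ ⟨w', hw', rfl⟩
    rw [← map_mul, ← map_mul]
    show ((w' * a : G) : G ⧸ V) = ((a * w' : G) : G ⧸ V)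
    rw [QuotientGroup.eq]
    have h1 := hA A hA' w'⁻¹ (inv_mem hw') a⁻¹ (inv_mem ha)
    have h2 : (w' * a)⁻¹ * (a * w') = ⁅w'⁻¹, a⁻¹⁆⁻¹ := by
      rw [commutatorElement_inv, commutatorElement_def]
      group
    rw [h2]
    exact inv_mem h1
  rw [Subgroup.commutator_le]
  intro w hw g hg
  have h1 := hT hg
  rw [Subgroup.mem_comap, Subgroup.mem_centralizer_iff] at h1
  have h2 := h1 (QuotientGroup.mk' V w) ⟨w, hw, rfl⟩
  rw [← QuotientGroup.eq_one_iff (N := V)]
  have h3 : ((⁅w, g⁆ : G) : G ⧸ V) = ⁅QuotientGroup.mk' V w, QuotientGroup.mk' V g⁆ :=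
    map_commutatorElement (QuotientGroup.mk' V) w g
  rw [h3]
  exact commutatorElement_eq_one_iff_mul_comm.mpr h2

end Cfsg.Agent.S0619
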