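import Cfsg.Statements.S0620
import Cfsg.Agent.Lib.Helper20.FFOper
import Cfsg.Agent.Lib.Helper20.FFGen
import Cfsg.Agent.S0600
import Cfsg.Agent.S0601
import Cfsg.Agent.S0608

set_option autoImplicit false
open Cfsg

namespace Cfsg.Agent.S0620

/-- Under coprime action of an elementary abelian q-group X on a p-separable group K with trivial p'-core, K is generated by the normalizer of J(S), the centralizer of Ω₁(Z(S)) and the fixed points of X. -/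
theorem result {G : Type*} [Group G] [Finite G] {p : ℕ} [Fact p.Prime] {q : ℕ} [Fact q.Prime] (K X : Subgroup G) (hXK : X ≤ Subgroup.normalizer (K : Set G)) (hX : Cfsg.IsElementaryAbelian q X) (hq : ¬ q ∣ Nat.card K) (hsep : Cfsg.IsPSolvable p ↥K) (hO : Cfsg.pPrimeCore p ↥K = ⊥) (S : Sylow p ↥K) : (Subgroup.normalizer (Cfsg.thompsonSubgroupOf p (S : Subgroup ↥K) : Set ↥K) ⊔ Subgroup.centralizer (Cfsg.omegaOne p ((S : Subgroup ↥K) ⊓ Subgroup.centralizer ((S : Subgroup ↥K) : Set ↥K)) : Set ↥K) ⊔ (Subgroup.centralizer (X : Set G)).subgroupOf K) = ⊤ := by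
  classical
  have hc := Cfsg.H5.centralizer_pCore_le_of_isPSolvable hsep hO
  obtain ⟨-, hVe, -⟩ := Cfsg.Agent.S0601.result (p := p) (G := ↥K) hc
  obtain ⟨V₀, hV₀⟩ : ∃ V₀ : Subgroup ↥K, V₀ = ⨆ S : Sylow p ↥K, Cfsg.omegaOne p
      (((S : Subgroup ↥K)) ⊓ Subgroup.centralizer ((S : Subgroup ↥K) : Set ↥K)) := ⟨_, rfl⟩
  rw [← hV₀] at hVe
  have hVchar : V₀.Characteristic := by
    rw [hV₀]
    exact Cfsg.Agent.Lib.Helper20.FFO.iSup_omegaZ_sylow_char p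
  haveI hVn : V₀.Normal := inferInstance
  have hgen : V₀ = ⨆ S : Sylow p ↥K, V₀ ⊓ Subgroup.centralizer ((S : Subgroup ↥K) : Set ↥K) := by
    apply le_antisymm
    · conv_lhs => rw [hV₀]
      apply iSup_le
      intro S
      refine le_trans (le_inf ?_ ?_)
        (le_iSup (fun S : Sylow p ↥K => V₀ ⊓ Subgroup.centralizer ((S : Subgroup ↥K) : Set ↥K)) S)
      · rw [hV₀]
        exact le_iSup (fun S : Sylow p ↥K => Cfsg.omegaOne p
          (((S : Subgroup ↥K)) ⊓ Subgroup.centralizer ((S : Subgroup ↥K) : Set ↥K))) S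
      · unfold Cfsg.omegaOne
        rw [Subgroup.closure_le]
        rintro x ⟨hx, -⟩
        exact (Subgroup.mem_inf.1 hx).2
    · exact iSup_le fun S => inf_le_left
  have hOp := Cfsg.Agent.S0600.result V₀ hVe hgen
  obtain ⟨hV'e, hHV', hf', hS1, hS3⟩ := Cfsg.Agent.Lib.Helper20.FFB.bridge V₀ hsep hVe hOp
  have hXV : ∀ x ∈ X, ∀ v : ↥K, v ∈ V₀ → ∀ h : x * (v : G) * x⁻¹ ∈ K,
      (⟨x * v * x⁻¹, h⟩ : ↥K) ∈ V₀ := by
    intro x hx v hv h
    have h1 := (Subgroup.characteristic_iff_map_eq.mp hVchar)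
      (Cfsg.Agent.Lib.Helper20.FFX.conjEquiv K x (hXK hx))
    rw [← h1]
    exact ⟨v, hv, rfl⟩
  have hYV := Cfsg.Agent.Lib.Helper20.FFO.xhat_le_normalizer_vimg K X hXK V₀ hXV
  have hYH := Cfsg.Agent.Lib.Helper20.FFO.xhat_le_normalizer_map K X hXK V₀ hXV
    (Cfsg.H5.thompsonSubgroup_characteristic (G := ↥K) p)
  have hXq : IsPGroup q X := Cfsg.H5.isPGroup_of_isElementaryAbelian hX
  have hYq := Cfsg.Agent.Lib.Helper20.FFO.xhat_isPGroup K X hXK V₀ hXV hXq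
  have hqH : ¬ q ∣ Nat.card ↥((Cfsg.thompsonSubgroup p ↥K).map
      (Cfsg.Agent.Lib.Helper20.FFB.psi V₀)) := by
    intro hdvd
    apply hq
    have h1 := Cfsg.Agent.Lib.Helper1.card_map_mul_card_inf_ker
      (Cfsg.Agent.Lib.Helper20.FFB.psi V₀) (Cfsg.thompsonSubgroup p ↥K)
    have h2 : Nat.card ↥((Cfsg.thompsonSubgroup p ↥K).map (Cfsg.Agent.Lib.Helper20.FFB.psi V₀)) ∣
        Nat.card ↥(Cfsg.thompsonSubgroup p ↥K) := Dvd.intro _ h1
    exact hdvd.trans (h2.trans (Subgroup.card_subgroup_dvd_card _))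
  have hcop : Cfsg.Agent.Lib.Helper1.CoprimeAct X K := by
    refine ⟨hXK, ?_, Or.inl ?_⟩
    · obtain ⟨n, hn⟩ := IsPGroup.iff_card.mp hXq
      rw [hn]
      apply Nat.Coprime.pow_left
      exact (Nat.Prime.coprime_iff_not_dvd (Fact.out : q.Prime)).mpr hq
    · have hXc := hX.1
      exact Group.isSolvable_of_comm (fun a b => hXc.is_comm.comm a b)
  haveI hJn : (Cfsg.thompsonSubgroup p ↥K).Normal := by
    haveI := Cfsg.H5.thompsonSubgroup_characteristic (G := ↥K) p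
    infer_instance
  obtain ⟨M, hM⟩ : ∃ M : Subgroup ↥K, M =
      Subgroup.normalizer (Cfsg.thompsonSubgroupOf p (S : Subgroup ↥K) : Set ↥K) ⊔
      Subgroup.centralizer (Cfsg.omegaOne p ((S : Subgroup ↥K) ⊓
        Subgroup.centralizer ((S : Subgroup ↥K) : Set ↥K)) : Set ↥K) ⊔
      (Subgroup.centralizer (X : Set G)).subgroupOf K := ⟨_, rfl⟩
  rw [← hM]
  have hNM : Subgroup.normalizer (Cfsg.thompsonSubgroupOf p (S : Subgroup ↥K) : Set ↥K) ≤ M := by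
    rw [hM]
    exact le_sup_left.trans le_sup_left
  have hCM : Subgroup.centralizer (Cfsg.omegaOne p ((S : Subgroup ↥K) ⊓
        Subgroup.centralizer ((S : Subgroup ↥K) : Set ↥K)) : Set ↥K) ≤ M := by
    rw [hM]
    exact le_sup_right.trans le_sup_left
  have hXM : (Subgroup.centralizer (X : Set G)).subgroupOf K ≤ M := by
    rw [hM]
    exact le_sup_right
  have hSM : (S : Subgroup ↥K) ≤ M :=
    (Cfsg.Agent.Lib.Helper20.FFG.le_normalizer_thompsonSubgroupOf p (S : Subgroup ↥K)).trans hNM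
  have hC₀M : Subgroup.centralizer (V₀ : Set ↥K) ≤ M := by
    refine le_trans (Subgroup.centralizer_le ?_) hCM
    apply SetLike.coe_subset_coe.mpr
    rw [hV₀]
    exact le_iSup (fun S : Sylow p ↥K => Cfsg.omegaOne p
      (((S : Subgroup ↥K)) ⊓ Subgroup.centralizer ((S : Subgroup ↥K) : Set ↥K))) S
  rw [eq_top_iff, ← Cfsg.Agent.Lib.Helper20.FFG.frattini_thompson S]
  apply sup_le hNM
  suffices hHP : (Cfsg.thompsonSubgroup p ↥K).map (Cfsg.Agent.Lib.Helper20.FFB.psi V₀) ≤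
      M.map (Cfsg.Agent.Lib.Helper20.FFB.psi V₀) by
    intro j hj
    obtain ⟨m, hm, hmj⟩ := hHP ⟨j, hj, rfl⟩
    have h1 : m⁻¹ * j ∈ Subgroup.centralizer (V₀ : Set ↥K) := by
      rw [← Cfsg.Agent.Lib.Helper20.FFB.mem_ker_psi, MonoidHom.mem_ker, map_mul, map_inv, hmj,
        inv_mul_cancel]
    have h2 : j = m * (m⁻¹ * j) := by group
    rw [h2]
    exact mul_mem hm (hC₀M h1)
  by_cases hH1 : (Cfsg.thompsonSubgroup p ↥K).map (Cfsg.Agent.Lib.Helper20.FFB.psi V₀) = ⊥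
  · rw [hH1]
    exact bot_le
  haveI hVc' : IsMulCommutative (Cfsg.Agent.Lib.Helper20.FFB.Vimg V₀) := hV'e.1
  have hC := Cfsg.Agent.Lib.Helper20.BO.ctx_of hV'e hHV' hf' hS1
  have hgenH := Cfsg.Agent.Lib.Helper20.BO.gen_of hV'e hHV' hf' hS1 hS3
  have hYQ := hYH.trans (Cfsg.Agent.Lib.Helper20.FFX.normalizer_le_normalizer_Qof p _)
  have hPY : (Cfsg.thompsonSubgroup p ↥K).map (Cfsg.Agent.Lib.Helper20.FFB.psi V₀) ⊓
      Subgroup.centralizer ((Cfsg.Agent.Lib.Helper20.FFO.Xhat K X hXK V₀ hXV :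
        Subgroup (Cfsg.Agent.Lib.Helper20.FFB.Hol V₀)) : Set (Cfsg.Agent.Lib.Helper20.FFB.Hol V₀)) ≤
      M.map (Cfsg.Agent.Lib.Helper20.FFB.psi V₀) := by
    intro y hy
    obtain ⟨k, hkX, hky⟩ := Cfsg.Agent.Lib.Helper20.FFO.exists_fixed_preimage K X hXK V₀ hXV
      hcop (y := y) (Subgroup.mem_inf.mpr ⟨Subgroup.map_le_range _ _ (Subgroup.mem_inf.mp hy).1,
        (Subgroup.mem_inf.mp hy).2⟩)
    exact ⟨k, hXM (Subgroup.mem_subgroupOf.mpr hkX), hky⟩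
  apply hgenH
  intro B hMB hBH
  obtain ⟨b, hb1⟩ := Subgroup.ne_bot_iff_exists_ne_one.mp hMB.ne_bot
  have hb1' : (b : Cfsg.Agent.Lib.Helper20.FFB.Hol V₀) ≠ 1 := fun h => hb1 (Subtype.ext h)
  obtain ⟨j₀, hj₀J, hj₀b⟩ := hBH b.2
  obtain ⟨j₁, hj₁z, hj₁p, hj₁ne⟩ := Cfsg.Agent.Lib.Helper20.FFG.exists_p_elt (p := p)
    (Cfsg.Agent.Lib.Helper20.FFB.psi V₀) j₀
    (by rw [hj₀b]; exact hMB.hoff.ea.exp b b.2) (by rw [hj₀b]; exact hb1')
  have hj₁B : Cfsg.Agent.Lib.Helper20.FFB.psi V₀ j₁ ∈ B := by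
    have h1 : Cfsg.Agent.Lib.Helper20.FFB.psi V₀ j₁ ∈
        (Subgroup.zpowers j₀).map (Cfsg.Agent.Lib.Helper20.FFB.psi V₀) := ⟨j₁, hj₁z, rfl⟩
    rw [MonoidHom.map_zpowers, hj₀b] at h1
    exact (Subgroup.zpowers_le.mpr b.2) h1
  have hBz : Subgroup.zpowers (Cfsg.Agent.Lib.Helper20.FFB.psi V₀ j₁) = B := by
    apply Subgroup.eq_of_le_of_card_ge (Subgroup.zpowers_le.mpr hj₁B)
    rw [Cfsg.Agent.Lib.Helper20.BO.card_zpowers_of_exp (p := p) (hMB.hoff.ea.exp _ hj₁B) hj₁ne,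
      hMB.hcard]
  obtain ⟨k, hk⟩ := Cfsg.Agent.Lib.Helper20.FFG.exists_conj_mem_sylow S hj₁p
  have hktop : k ∈ Subgroup.normalizer (Cfsg.thompsonSubgroupOf p (S : Subgroup ↥K) : Set ↥K) ⊔
      Cfsg.thompsonSubgroup p ↥K := by
    rw [Cfsg.Agent.Lib.Helper20.FFG.frattini_thompson S]
    exact Subgroup.mem_top k
  obtain ⟨n', hn', j', hj', hk'⟩ := Subgroup.mem_sup_of_normal_right.mp hktop
  apply Cfsg.Agent.Lib.Helper20.FFG.minOff_le_of_conj_le hC hgenH hMB hBH hYV hYH hYQ hYq hqH hPY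
    (h := Cfsg.Agent.Lib.Helper20.FFB.psi V₀ j') ⟨j', hj', rfl⟩
  rw [← hBz, MonoidHom.map_zpowers, Subgroup.zpowers_le]
  refine ⟨j' * j₁ * j'⁻¹, ?_, ?_⟩
  · show j' * j₁ * j'⁻¹ ∈ M
    have h1 : j' * j₁ * j'⁻¹ = n'⁻¹ * (k * j₁ * k⁻¹) * n' := by
      rw [← hk']
      group
    rw [h1]
    exact mul_mem (mul_mem (inv_mem (hNM hn')) (hSM hk)) (hNM hn')
  · rw [map_mul, map_mul, map_inv]
    rfl

end Cfsg.Agent.S0620
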