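import Cfsg.Statements.S0621
import Cfsg.Agent.Lib.Helper20.FFOper
import Cfsg.Agent.S0600
import Cfsg.Agent.S0601
import Cfsg.Agent.S0608

set_option autoImplicit false
open Cfsg

namespace Cfsg.Agent.S0621

/-- Let K be p-separable with O_p'(K) = 1, normalized by an elementary abelian q-group X for a prime q not dividing the order of K. If the Thompson factorization fails in K, then p is 2 or 3 and the fixed points of X contain a plane W of order p² and a subgroup inducing SL(2, p) on it. -/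
theorem result {G : Type*} [Group G] [Finite G] {p : ℕ} [Fact p.Prime] {q : ℕ} [Fact q.Prime] (K X : Subgroup G) (hXK : X ≤ Subgroup.normalizer (K : Set G)) (hX : Cfsg.IsElementaryAbelian q X) (hq : ¬ q ∣ Nat.card K) (hsep : Cfsg.IsPSolvable p ↥K) (hO : Cfsg.pPrimeCore p ↥K = ⊥) (hnf : ¬ Cfsg.IsThompsonFactorizable p ↥K) : (p = 2 ∨ p = 3) ∧ ∃ W D : Subgroup G, W ≤ K ⊓ Subgroup.centralizer (X : Set G) ∧ D ≤ K ⊓ Subgroup.centralizer (X : Set G) ∧ Cfsg.IsElementaryAbelian p W ∧ Nat.card W = p ^ 2 ∧ D ≤ Subgroup.normalizer (W : Set G) ∧ ∃ hn : ((Subgroup.centralizer (W : Set G)).subgroupOf D).Normal, Nonempty ((↥D ⧸ (Subgroup.centralizer (W : Set G)).subgroupOf D) ≃* Matrix.SpecialLinearGroup (Fin 2) (ZMod p)) := by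
  classical
  have hc := Cfsg.H5.centralizer_pCore_le_of_isPSolvable hsep hO
  obtain ⟨-, hVe, -⟩ := Cfsg.Agent.S0601.result (p := p) (G := ↥K) hc
  have h608 := Cfsg.Agent.S0608.result (p := p) (G := ↥K) hO
  obtain ⟨V₀, hV₀⟩ : ∃ V₀ : Subgroup ↥K, V₀ = ⨆ S : Sylow p ↥K, Cfsg.omegaOne p
      (((S : Subgroup ↥K)) ⊓ Subgroup.centralizer ((S : Subgroup ↥K) : Set ↥K)) := ⟨_, rfl⟩
  rw [← hV₀] at hVe h608
  have hVchar : V₀.Characteristic := by
    rw [hV₀]
    exact Cfsg.Agent.Lib.Helper20.FFO.iSup_omegaZ_sylow_char p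
  haveI hVn : V₀.Normal := inferInstance
  have hgen : V₀ = ⨆ S : Sylow p ↥K, V₀ ⊓ Subgroup.centralizer ((S : Subgroup ↥K) : Set ↥K) := by
    apply le_antisymm
    · conv_lhs => rw [hV₀]
      apply iSup_le
      intro S
      refine le_trans (le_inf ?_ ?_)
        (le_iSup (fun S : Sylow p ↥K => V₀ ⊓ Subgroup.centralizer ((S : Subgroup ↥K) : Set ↥K)) S)
      · rw [hV₀]
        exact le_iSup (fun S : Sylow p ↥K => Cfsg.omegaOne p
          (((S : Subgroup ↥K)) ⊓ Subgroup.centralizer ((S : Subgroup ↥K) : Set ↥K))) S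
      · unfold Cfsg.omegaOne
        rw [Subgroup.closure_le]
        rintro x ⟨hx, -⟩
        exact (Subgroup.mem_inf.1 hx).2
    · exact iSup_le fun S => inf_le_left
  have hOp := Cfsg.Agent.S0600.result V₀ hVe hgen
  have hJ : ¬ Cfsg.thompsonSubgroup p ↥K ≤ Subgroup.centralizer (V₀ : Set ↥K) :=
    fun h => hnf (h608.mpr h)
  obtain ⟨hV'e, hHV', hf', hS1, hS3⟩ := Cfsg.Agent.Lib.Helper20.FFB.bridge V₀ hsep hVe hOp
  have hH1 : (Cfsg.thompsonSubgroup p ↥K).map (Cfsg.Agent.Lib.Helper20.FFB.psi V₀) ≠ ⊥ := by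
    rw [Ne, Subgroup.map_eq_bot_iff, Cfsg.Agent.Lib.Helper20.FFB.ker_psi]
    exact hJ
  have hXV : ∀ x ∈ X, ∀ v : ↥K, v ∈ V₀ → ∀ h : x * (v : G) * x⁻¹ ∈ K,
      (⟨x * v * x⁻¹, h⟩ : ↥K) ∈ V₀ := by
    intro x hx v hv h
    have h1 := (Subgroup.characteristic_iff_map_eq.mp hVchar)
      (Cfsg.Agent.Lib.Helper20.FFX.conjEquiv K x (hXK hx))
    rw [← h1]
    exact ⟨v, hv, rfl⟩
  have hYV := Cfsg.Agent.Lib.Helper20.FFO.xhat_le_normalizer_vimg K X hXK V₀ hXV
  have hYH := Cfsg.Agent.Lib.Helper20.FFO.xhat_le_normalizer_map K X hXK V₀ hXV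
    (Cfsg.H5.thompsonSubgroup_characteristic (G := ↥K) p)
  have hXq : IsPGroup q X := Cfsg.H5.isPGroup_of_isElementaryAbelian hX
  have hYq := Cfsg.Agent.Lib.Helper20.FFO.xhat_isPGroup K X hXK V₀ hXV hXq
  have hqH : ¬ q ∣ Nat.card ↥((Cfsg.thompsonSubgroup p ↥K).map
      (Cfsg.Agent.Lib.Helper20.FFB.psi V₀)) := by
    intro hdvd
    apply hq
    have h1 := Cfsg.Agent.Lib.Helper1.card_map_mul_card_inf_ker
      (Cfsg.Agent.Lib.Helper20.FFB.psi V₀) (Cfsg.thompsonSubgroup p ↥K)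
    have h2 : Nat.card ↥((Cfsg.thompsonSubgroup p ↥K).map (Cfsg.Agent.Lib.Helper20.FFB.psi V₀)) ∣
        Nat.card ↥(Cfsg.thompsonSubgroup p ↥K) := Dvd.intro _ h1
    exact hdvd.trans (h2.trans (Subgroup.card_subgroup_dvd_card _))
  obtain ⟨hp23, W', D', hW', hD', hW'e, hW'c, hD'W', hD'bot, ⟨iso⟩⟩ :=
    Cfsg.Agent.Lib.Helper20.FFX.exists_fixed_pair hV'e hHV' hf' hS1 hS3 hH1 hYV hYH hYq hqH
  have hcop : Cfsg.Agent.Lib.Helper1.CoprimeAct X K := by
    refine ⟨hXK, ?_, Or.inl ?_⟩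
    · obtain ⟨n, hn⟩ := IsPGroup.iff_card.mp hXq
      rw [hn]
      apply Nat.Coprime.pow_left
      exact (Nat.Prime.coprime_iff_not_dvd (Fact.out : q.Prime)).mpr hq
    · have hXc := hX.1
      exact Group.isSolvable_of_comm (fun a b => hXc.is_comm.comm a b)
  have hιinj : Function.Injective (K.subtype.comp V₀.subtype) :=
    K.subtype_injective.comp V₀.subtype_injective
  have hW'range : W' ≤ (Cfsg.Agent.Lib.Helper20.FFB.iota V₀).range := hW'.trans inf_le_left
  have hmapW : (W'.comap (Cfsg.Agent.Lib.Helper20.FFB.iota V₀)).map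
      (Cfsg.Agent.Lib.Helper20.FFB.iota V₀) = W' := Subgroup.map_comap_eq_self hW'range
  have hD'H : D' ≤ (Cfsg.Agent.Lib.Helper20.FFB.psi V₀).range :=
    (hD'.trans inf_le_left).trans (Subgroup.map_le_range _ _)
  obtain ⟨WG, hWG⟩ : ∃ WG : Subgroup G, WG =
      (W'.comap (Cfsg.Agent.Lib.Helper20.FFB.iota V₀)).map (K.subtype.comp V₀.subtype) := ⟨_, rfl⟩
  obtain ⟨DG, hDG⟩ : ∃ DG : Subgroup G, DG = ((D'.comap (Cfsg.Agent.Lib.Helper20.FFB.psi V₀)) ⊓
      (Subgroup.centralizer (X : Set G)).subgroupOf K).map K.subtype := ⟨_, rfl⟩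
  refine ⟨hp23, WG, DG, ?_, ?_, ?_, ?_, ?_, ?_⟩
  · rw [hWG]
    rintro _ ⟨v, hv, rfl⟩
    refine Subgroup.mem_inf.mpr ⟨(v : ↥K).2, ?_⟩
    apply Cfsg.Agent.Lib.Helper20.FFO.coe_mem_centralizer_of_iota_mem K X hXK V₀ hXV
    exact (hW' (Subgroup.mem_comap.mp hv)).2
  · rw [hDG]
    rintro _ ⟨k, hk, rfl⟩
    exact Subgroup.mem_inf.mpr ⟨k.2, Subgroup.mem_subgroupOf.mp (Subgroup.mem_inf.mp hk).2⟩
  · rw [hWG]
    apply Cfsg.H5.isElementaryAbelian_map
    apply Cfsg.H5.isElementaryAbelian_of_map (Cfsg.Agent.Lib.Helper20.FFB.iota V₀)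
      (Cfsg.Agent.Lib.Helper20.FFB.iota_injective V₀)
    rw [hmapW]
    exact hW'e
  · rw [hWG, Subgroup.card_map_of_injective hιinj,
      ← Subgroup.card_map_of_injective (Cfsg.Agent.Lib.Helper20.FFB.iota_injective V₀), hmapW]
    exact hW'c
  · rw [hWG, hDG]
    apply Cfsg.Agent.Lib.Helper1.le_normalizer_of_forall_conj_mem
    rintro _ ⟨k, hk, rfl⟩ _ ⟨v, hv, rfl⟩
    have hkD : Cfsg.Agent.Lib.Helper20.FFB.psi V₀ k ∈ D' :=
      Subgroup.mem_comap.mp (Subgroup.mem_inf.mp hk).1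
    have hvW : Cfsg.Agent.Lib.Helper20.FFB.iota V₀ v ∈ W' := Subgroup.mem_comap.mp hv
    refine ⟨⟨k * v * k⁻¹, hVn.conj_mem v v.2 k⟩, ?_, rfl⟩
    rw [SetLike.mem_coe, Subgroup.mem_comap, ← Cfsg.Agent.Lib.Helper20.FFB.psi_conj]
    exact (Subgroup.mem_normalizer_iff.mp (hD'W' hkD) _).mp hvW
  · have hDK : DG ≤ K := by
      rw [hDG]
      exact Subgroup.map_subtype_le _
    have hDmem : ∀ d : ↥DG, ((Cfsg.Agent.Lib.Helper20.FFB.psi V₀).comp (Subgroup.inclusion hDK)) d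
        ∈ D' := by
      intro d
      have hd : (d : G) ∈ ((D'.comap (Cfsg.Agent.Lib.Helper20.FFB.psi V₀)) ⊓
          (Subgroup.centralizer (X : Set G)).subgroupOf K).map K.subtype := by
        rw [← hDG]
        exact d.2
      obtain ⟨k, hk, hkd⟩ := hd
      have h1 : Subgroup.inclusion hDK d = k := Subtype.ext hkd.symm
      rw [MonoidHom.comp_apply, h1]
      exact Subgroup.mem_comap.mp (Subgroup.mem_inf.mp hk).1
    obtain ⟨f, hf⟩ : ∃ f : ↥DG →* ↥D', f = ((Cfsg.Agent.Lib.Helper20.FFB.psi V₀).comp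
        (Subgroup.inclusion hDK)).codRestrict D' hDmem := ⟨_, rfl⟩
    have hfval : ∀ d, ((f d : ↥D') : Cfsg.Agent.Lib.Helper20.FFB.Hol V₀) =
        Cfsg.Agent.Lib.Helper20.FFB.psi V₀ (Subgroup.inclusion hDK d) := by
      intro d
      rw [hf]
      rfl
    have hsurj : Function.Surjective f := by
      rintro ⟨y, hy⟩
      obtain ⟨k, hkX, hky⟩ := Cfsg.Agent.Lib.Helper20.FFO.exists_fixed_preimage K X hXK V₀ hXV
        hcop (y := y) (Subgroup.mem_inf.mpr ⟨hD'H hy, (hD' hy).2⟩)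
      have hkDG : (k : G) ∈ DG := by
        rw [hDG]
        refine ⟨k, Subgroup.mem_inf.mpr ⟨?_, Subgroup.mem_subgroupOf.mpr hkX⟩, rfl⟩
        rw [Subgroup.mem_comap, hky]
        exact hy
      refine ⟨⟨k, hkDG⟩, ?_⟩
      apply Subtype.ext
      rw [hfval]
      have h1 : Subgroup.inclusion hDK ⟨(k : G), hkDG⟩ = k := Subtype.ext rfl
      rw [h1]
      exact hky
    have hker : f.ker = (Subgroup.centralizer (WG : Set G)).subgroupOf DG := by
      ext d
      rw [MonoidHom.mem_ker, Subgroup.mem_subgroupOf]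
      constructor
      · intro h
        have h1 : Cfsg.Agent.Lib.Helper20.FFB.psi V₀ (Subgroup.inclusion hDK d) = 1 := by
          rw [← hfval, h]
          rfl
        have h2 : Subgroup.inclusion hDK d ∈ Subgroup.centralizer (V₀ : Set ↥K) :=
          (Cfsg.Agent.Lib.Helper20.FFB.mem_ker_psi V₀).mp (MonoidHom.mem_ker.mpr h1)
        rw [Subgroup.mem_centralizer_iff, hWG]
        rintro _ ⟨v, hv, rfl⟩
        have h3 := Subgroup.mem_centralizer_iff.mp h2 (v : ↥K) v.2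
        exact congrArg Subtype.val h3
      · intro h
        have h1 : Cfsg.Agent.Lib.Helper20.FFB.psi V₀ (Subgroup.inclusion hDK d) ∈
            D' ⊓ Subgroup.centralizer (W' : Set (Cfsg.Agent.Lib.Helper20.FFB.Hol V₀)) := by
          refine Subgroup.mem_inf.mpr ⟨hDmem d, ?_⟩
          rw [Subgroup.mem_centralizer_iff]
          intro y hy
          obtain ⟨v, rfl⟩ := hW'range hy
          have hvW : v ∈ W'.comap (Cfsg.Agent.Lib.Helper20.FFB.iota V₀) := Subgroup.mem_comap.mpr hy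
          have hvWG : ((v : ↥K) : G) ∈ WG := by
            rw [hWG]
            exact ⟨v, hvW, rfl⟩
          have h2 : ((v : ↥K) : G) * (d : G) = (d : G) * ((v : ↥K) : G) :=
            Subgroup.mem_centralizer_iff.mp h _ hvWG
          have h3 := Cfsg.Agent.Lib.Helper20.FFB.psi_conj V₀ (Subgroup.inclusion hDK d) v
          have h4 : (⟨Subgroup.inclusion hDK d * v * (Subgroup.inclusion hDK d)⁻¹,
              hVn.conj_mem v v.2 (Subgroup.inclusion hDK d)⟩ : ↥V₀) = v := by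
            apply Subtype.ext
            apply Subtype.ext
            show (d : G) * ((v : ↥K) : G) * (d : G)⁻¹ = _
            rw [← h2]
            group
          rw [h4] at h3
          calc Cfsg.Agent.Lib.Helper20.FFB.iota V₀ v *
                Cfsg.Agent.Lib.Helper20.FFB.psi V₀ (Subgroup.inclusion hDK d)
              = (Cfsg.Agent.Lib.Helper20.FFB.psi V₀ (Subgroup.inclusion hDK d) *
                Cfsg.Agent.Lib.Helper20.FFB.iota V₀ v *
                (Cfsg.Agent.Lib.Helper20.FFB.psi V₀ (Subgroup.inclusion hDK d))⁻¹) *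
                Cfsg.Agent.Lib.Helper20.FFB.psi V₀ (Subgroup.inclusion hDK d) := by rw [h3]
            _ = Cfsg.Agent.Lib.Helper20.FFB.psi V₀ (Subgroup.inclusion hDK d) *
                Cfsg.Agent.Lib.Helper20.FFB.iota V₀ v := by group
        rw [hD'bot, Subgroup.mem_bot] at h1
        apply Subtype.ext
        rw [hfval, h1]
        rfl
    have hn : ((Subgroup.centralizer (WG : Set G)).subgroupOf DG).Normal := by
      rw [← hker]
      exact MonoidHom.normal_ker f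
    refine ⟨hn, ⟨?_⟩⟩
    exact (QuotientGroup.quotientMulEquivOfEq hker.symm).trans
      ((QuotientGroup.quotientKerEquivOfSurjective f hsurj).trans iso)

end Cfsg.Agent.S0621
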