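import Mathlib
import Cfsg.Statements.S0627
import Cfsg.Agent.S0624
import Cfsg.Agent.S0625
import Cfsg.Agent.Lib.Helper20.StableW
import Cfsg.Agent.Lib.Helper10.PComponent
import Cfsg.Agent.Lib.Helper16.SylowInf
import Cfsg.Agent.H5.PSolvable

set_option autoImplicit false
open Cfsg

namespace Cfsg.Agent.S0627

open Cfsg.Agent.Lib.Helper20.StableW

/-- Let G be p-separable with p ≥ 5 and S a Sylow p-subgroup. Then G = O_p'(G) N_G(W(S)), W(S) the stable normal closure of Ω₁(Z(S)). -/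
theorem result {G : Type*} [Group G] [Finite G] {p : ℕ} [Fact p.Prime] (hp : 5 ≤ p) (hsep : Cfsg.IsPSolvable p G) (S : Sylow p G) : Cfsg.pPrimeCore p G ⊔ Subgroup.normalizer (((Cfsg.stableNormalClosure p ↥(S : Subgroup G)).map (S : Subgroup G).subtype) : Set G) = ⊤ := by
  have hNn : (Cfsg.pPrimeCore p G).Normal := Cfsg.H5.pPrimeCore_normal p G
  have hNc : (Nat.card (Cfsg.pPrimeCore p G)).Coprime p := Cfsg.H5.coprime_card_pPrimeCore p G
  have hsolq : Cfsg.IsPSolvable p (G ⧸ Cfsg.pPrimeCore p G) :=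
    Cfsg.H5.isPSolvable_quotient _ hsep
  have hst : Cfsg.IsActionPStable p (G ⧸ Cfsg.pPrimeCore p G) :=
    Cfsg.Agent.S0625.result hp hsolq
  have hbot : Cfsg.pPrimeCore p (G ⧸ Cfsg.pPrimeCore p G) = ⊥ :=
    Cfsg.Agent.Lib.Helper10.pPrimeCore_quotient_eq_bot p
  have hc := Cfsg.H5.centralizer_pCore_le_of_isPSolvable hsolq hbot
  obtain ⟨π, hπ⟩ : ∃ π : G →* G ⧸ Cfsg.pPrimeCore p G,
      π = QuotientGroup.mk' (Cfsg.pPrimeCore p G) := ⟨_, rfl⟩
  have hsurj : Function.Surjective π := by rw [hπ]; exact QuotientGroup.mk'_surjective _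
  have hker : π.ker = Cfsg.pPrimeCore p G := by rw [hπ]; exact QuotientGroup.ker_mk' _
  have hSb : ((S.mapSurjective hsurj : Sylow p (G ⧸ Cfsg.pPrimeCore p G)) :
      Subgroup (G ⧸ Cfsg.pPrimeCore p G)) = (S : Subgroup G).map π := Sylow.coe_mapSurjective _ _
  have hWb := Cfsg.Agent.S0624.result hst hc (S.mapSurjective hsurj)
  have hinj : (S : Subgroup G) ⊓ π.ker = ⊥ := by
    rw [hker]
    apply (Subgroup.disjoint_of_coprime_natCard ?_).eq_bot
    obtain ⟨k, hk⟩ := IsPGroup.iff_card.1 S.isPGroup'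
    rw [hk]
    exact Nat.Coprime.pow_left k hNc.symm
  have hmap : (Wof p (S : Subgroup G)).map π = Wof p ((S : Subgroup G).map π) := Wof_map_hom hinj
  rw [← hSb] at hmap
  obtain ⟨W, hW⟩ : ∃ W : Subgroup G, W = Wof p (S : Subgroup G) := ⟨_, rfl⟩
  have hW' : W = (Cfsg.stableNormalClosure p ↥(S : Subgroup G)).map (S : Subgroup G).subtype := hW
  rw [← hW']
  rw [← hW] at hmap
  have hWS : W ≤ S := by rw [hW]; exact Wof_le
  have hWbn : (W.map π).Normal := by
    rw [hmap]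
    exact hWb
  obtain ⟨M, hM⟩ : ∃ M : Subgroup G, M = (W.map π).comap π := ⟨_, rfl⟩
  have hMn : M.Normal := by rw [hM]; exact Subgroup.Normal.comap hWbn π
  have hSM : (S : Subgroup G) ⊓ M = W := by
    apply le_antisymm
    · intro x hx
      obtain ⟨hxS, hxM⟩ := Subgroup.mem_inf.1 hx
      rw [hM, Subgroup.mem_comap] at hxM
      obtain ⟨w, hw, hwx⟩ := hxM
      have h1 : w⁻¹ * x ∈ (S : Subgroup G) ⊓ π.ker := by
        refine Subgroup.mem_inf.2
          ⟨(S : Subgroup G).mul_mem ((S : Subgroup G).inv_mem (hWS hw)) hxS, ?_⟩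
        rw [MonoidHom.mem_ker, map_mul, map_inv, hwx, inv_mul_cancel]
      rw [hinj, Subgroup.mem_bot] at h1
      have h2 : x = w := by
        calc x = w * (w⁻¹ * x) := by group
          _ = w := by rw [h1, mul_one]
      rw [h2]
      exact hw
    · intro x hx
      refine Subgroup.mem_inf.2 ⟨hWS hx, ?_⟩
      rw [hM, Subgroup.mem_comap]
      exact Subgroup.mem_map_of_mem π hx
  rw [eq_top_iff]
  intro g _
  obtain ⟨a, ha, c, hc, rfl⟩ := Cfsg.Agent.Lib.Helper16.frattini_inf_normal S M g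
  rw [hSM] at ha
  rw [hM, Subgroup.mem_comap] at hc
  obtain ⟨w, hw, hwc⟩ := hc
  have hn : w⁻¹ * c ∈ Cfsg.pPrimeCore p G := by
    rw [← hker, MonoidHom.mem_ker, map_mul, map_inv, hwc, inv_mul_cancel]
  have e : a * c = (a * w) * (w⁻¹ * c) := by group
  rw [e]
  have h1 : a * w ∈ Subgroup.normalizer (W : Set G) :=
    (Subgroup.normalizer (W : Set G)).mul_mem ha (Subgroup.le_normalizer hw)
  have h2 : (a * w) * (w⁻¹ * c) ∈ Subgroup.normalizer (W : Set G) ⊔ Cfsg.pPrimeCore p G :=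
    Subgroup.mul_mem_sup h1 hn
  rw [sup_comm] at h2
  exact h2

end Cfsg.Agent.S0627
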