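import Cfsg.Statements.S0628
import Cfsg.Agent.Lib.Helper20.StableW
import Cfsg.Agent.H5.GTMain

set_option autoImplicit false
open Cfsg

namespace Cfsg.Agent.S0628

open scoped commutatorElement
open Cfsg.H5.GT Cfsg.H5.ZJ Cfsg.Agent.Lib.Helper13 Cfsg.Agent.Lib.Helper20.StableW

universe u

section basicsW

variable {G : Type u} [Group G] [Finite G] {p : ℕ} [Fact p.Prime]

/-- the hypothesis of the theorem does not depend on the Sylow subgroup -/
theorem npc_normalizer_Wof_sylow (P Q : Sylow p G)
    (h : Cfsg.HasNormalPComplement p ↥(Subgroup.normalizer (Wof p (P : Subgroup G) : Set G))) :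
    Cfsg.HasNormalPComplement p ↥(Subgroup.normalizer (Wof p (Q : Subgroup G) : Set G)) := by
  obtain ⟨g, rfl⟩ := MulAction.exists_smul_eq G P Q
  have e0 : ((g • P : Sylow p G) : Subgroup G) =
      (P : Subgroup G).map (MulAut.conj g).toMonoidHom := rfl
  have e1 : Subgroup.normalizer (Wof p ((g • P : Sylow p G) : Subgroup G) : Set G) =
      (Subgroup.normalizer (Wof p (P : Subgroup G) : Set G)).map (MulAut.conj g).toMonoidHom := by
    rw [Subgroup.map_equiv_normalizer_eq, Wof_map_equiv, e0]
  exact npc_congr e1.symm (hasNormalPComplement_of_equiv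
    (Subgroup.equivMapOfInjective _ _ (MulAut.conj g).injective) h)


end basicsW

/-- the induction hypothesis of the main theorem -/
def IHW (p n : ℕ) : Prop :=
  ∀ (G' : Type u) [Group G'] [Finite G'], Nat.card G' < n →
    (∃ P : Sylow p G', Cfsg.HasNormalPComplement p
      ↥(Subgroup.normalizer (Wof p (P : Subgroup G') : Set G'))) →
    Cfsg.HasNormalPComplement p G'

section stepsW

variable {G : Type u} [Group G] [Finite G] {p : ℕ} [Fact p.Prime]

/-- a proper subgroup containing a Sylow `p`-subgroup has a normal `p`-complement -/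
theorem npc_of_sylow_leW (ih : IHW.{u} p (Nat.card G)) (P : Sylow p G)
    (hP : Cfsg.HasNormalPComplement p ↥(Subgroup.normalizer (Wof p (P : Subgroup G) : Set G)))
    (M : Subgroup G) (hPM : (P : Subgroup G) ≤ M) (hM : M ≠ ⊤) :
    Cfsg.HasNormalPComplement p ↥M := by
  have hcard : Nat.card ↥M < Nat.card G := by
    have := Cfsg.H5.ZJ.card_lt_of_lt (lt_top_iff_ne_top.2 hM)
    rwa [Subgroup.card_top] at this
  apply ih ↥M hcard
  refine ⟨P.subtype hPM, ?_⟩
  apply npc_normalizer_of_map
  have e1 : (Wof p ((P.subtype hPM : Sylow p ↥M) : Subgroup ↥M)).map M.subtype =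
      Wof p (P : Subgroup G) := by
    rw [Wof_map_hom (by rw [Subgroup.ker_subtype, inf_bot_eq]), Sylow.coe_subtype,
      Subgroup.map_subgroupOf_eq_of_le hPM]
  rw [e1]; exact hP

/-- Step 1 -/
theorem exists_normal_maxW (ih : IHW.{u} p (Nat.card G))
    (hall : ∀ Q : Sylow p G, Cfsg.HasNormalPComplement p
      ↥(Subgroup.normalizer (Wof p (Q : Subgroup G) : Set G)))
    (hG : ¬ Cfsg.HasNormalPComplement p G) :
    ∃ H : Subgroup G, H.Normal ∧ IsPGroup p H ∧ H ≠ ⊥ ∧
      ∀ L : Subgroup G, IsPGroup p L → Nat.card H < Nat.card L →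
        ¬ p ∣ (Subgroup.normalizer (L : Set G)).index →
        Cfsg.HasNormalPComplement p ↥(Subgroup.normalizer (L : Set G)) := by
  have hp : p.Prime := Fact.out
  obtain ⟨S, hS⟩ : ∃ S : Set (Subgroup G), S = {Q : Subgroup G | IsPGroup p Q ∧ Q ≠ ⊥ ∧
      ¬ Cfsg.HasNormalPComplement p ↥(Subgroup.normalizer (Q : Set G))} := ⟨_, rfl⟩
  have hSne : S.Nonempty := by
    by_contra hemp
    rw [Set.not_nonempty_iff_eq_empty] at hemp
    apply hG
    rw [hasNormalPComplement_iff_local]
    intro Q hQ hQne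
    by_contra hn
    have : Q ∈ S := by rw [hS]; exact ⟨hQ, hQne, hn⟩
    rw [hemp] at this; exact this
  obtain ⟨f, hf⟩ : ∃ f : Subgroup G → ℕ, f = fun Q : Subgroup G =>
      (Nat.card ↥(Subgroup.normalizer (Q : Set G))).factorization p * (Nat.card G + 1) +
        Nat.card Q := ⟨_, rfl⟩
  obtain ⟨H, hHS, hmax⟩ := Set.exists_max_image S f (Set.toFinite S) hSne
  rw [hS] at hHS
  obtain ⟨hHp, hHne, hHnpc⟩ := hHS
  have hcmp : ∀ L : Subgroup G, IsPGroup p L → L ≠ ⊥ →
      ¬ Cfsg.HasNormalPComplement p ↥(Subgroup.normalizer (L : Set G)) → f L ≤ f H := by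
    intro L h1 h2 h3
    exact hmax L (by rw [hS]; exact ⟨h1, h2, h3⟩)
  have hHcard : Nat.card H ≤ Nat.card G := Subgroup.card_le_card_group H
  have hNtop : Subgroup.normalizer (H : Set G) = ⊤ := by
    by_contra hN
    apply hHnpc
    obtain ⟨N, hNdef⟩ : ∃ N : Subgroup G, N = Subgroup.normalizer (H : Set G) := ⟨_, rfl⟩
    rw [← hNdef] at hN ⊢
    have hcardN : Nat.card ↥N < Nat.card G := by
      have := Cfsg.H5.ZJ.card_lt_of_lt (lt_top_iff_ne_top.2 hN)
      rwa [Subgroup.card_top] at this
    obtain ⟨QN⟩ : Nonempty (Sylow p ↥N) := inferInstance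
    obtain ⟨Q, hQdef⟩ : ∃ Q : Subgroup G, Q = (QN : Subgroup ↥N).map N.subtype := ⟨_, rfl⟩
    have hQp : IsPGroup p Q := by rw [hQdef]; exact QN.isPGroup'.map _
    have hQcard : Nat.card Q = p ^ (Nat.card ↥N).factorization p := by
      rw [hQdef, Subgroup.card_map_of_injective N.subtype_injective]
      exact QN.card_eq_multiplicity
    have hHN : H ≤ N := by rw [hNdef]; exact Subgroup.le_normalizer
    have hHQ : H ≤ Q := by
      have hn : (H.subgroupOf N).Normal := by rw [hNdef]; exact Subgroup.normal_in_normalizer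
      have hHp' : IsPGroup p ↥(H.subgroupOf N) := hHp.comap_subtype
      have h1 : H.subgroupOf N ≤ QN := hHp'.le_sylow_of_normal QN
      have h2 : (H.subgroupOf N).map N.subtype = H := Subgroup.map_subgroupOf_eq_of_le hHN
      rw [← h2, hQdef]; exact Subgroup.map_mono h1
    have hQne : Q ≠ ⊥ := fun h => hHne (eq_bot_iff.2 (h ▸ hHQ))
    have hZmap : (Wof p (QN : Subgroup ↥N)).map N.subtype = Wof p Q := by
      rw [Wof_map_hom (by rw [Subgroup.ker_subtype, inf_bot_eq]), hQdef]
    have hZp : IsPGroup p (Wof p Q) := hQp.to_le Wof_le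
    have hZne : Wof p Q ≠ ⊥ := Wof_ne_bot hQp hQne
    have hnpcZ : Cfsg.HasNormalPComplement p ↥(Subgroup.normalizer (Wof p Q : Set G)) := by
      by_contra hnpc
      have hle := hcmp (Wof p Q) hZp hZne hnpc
      by_cases hsyl : Nat.card Q = p ^ (Nat.card G).factorization p
      · apply hnpc
        exact hall (Sylow.ofCard Q hsyl)
      · obtain ⟨P', hP'⟩ := hQp.exists_le_sylow
        have hlt : Q < (P' : Subgroup G) := by
          refine lt_of_le_of_ne hP' (fun h => hsyl ?_)
          rw [h]; exact P'.card_eq_multiplicity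
        obtain ⟨u, huP', huN, huQ⟩ :=
          Cfsg.Agent.Lib.Helper1.exists_mem_normalizer_notMem_of_lt P'.isPGroup'.isNilpotent hlt
        obtain ⟨T, hTdef⟩ : ∃ T : Subgroup G, T = Q ⊔ Subgroup.zpowers u := ⟨_, rfl⟩
        have hTP' : T ≤ P' := by rw [hTdef]; exact sup_le hP' (Subgroup.zpowers_le.2 huP')
        have hTp : IsPGroup p T := P'.isPGroup'.to_le hTP'
        have hQT : Q < T := by
          refine lt_of_le_of_ne (by rw [hTdef]; exact le_sup_left) (fun h => huQ ?_)
          rw [h, hTdef]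
          exact (le_sup_right : Subgroup.zpowers u ≤ _) (Subgroup.mem_zpowers u)
        have hTN : T ≤ Subgroup.normalizer (Wof p Q : Set G) := by
          refine le_trans ?_ (normalizer_le_normalizer_Wof Q)
          rw [hTdef]; exact sup_le Subgroup.le_normalizer (Subgroup.zpowers_le.2 huN)
        obtain ⟨j, hj⟩ := hTp.exists_card_eq
        have hj1 : (Nat.card ↥N).factorization p < j := by
          have := Cfsg.H5.ZJ.card_lt_of_lt hQT
          rw [hQcard, hj] at this
          exact (Nat.pow_lt_pow_iff_right hp.one_lt).1 this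
        have hj2 : j ≤ (Nat.card ↥(Subgroup.normalizer (Wof p Q : Set G))).factorization p :=
          le_factorization_of_isPGroup hTN hj
        rw [hf] at hle
        simp only at hle
        rw [← hNdef] at hle
        have h5 : ((Nat.card ↥N).factorization p + 1) * (Nat.card G + 1) ≤
            (Nat.card ↥(Subgroup.normalizer (Wof p Q : Set G))).factorization p *
              (Nat.card G + 1) := Nat.mul_le_mul_right _ (by omega)
        have h6 : ((Nat.card ↥N).factorization p + 1) * (Nat.card G + 1) =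
            (Nat.card ↥N).factorization p * (Nat.card G + 1) + (Nat.card G + 1) := by ring
        omega
    apply ih ↥N hcardN
    refine ⟨QN, ?_⟩
    apply npc_normalizer_of_map
    rw [hZmap]; exact hnpcZ
  have hHn : H.Normal := Subgroup.normalizer_eq_top_iff.1 hNtop
  refine ⟨H, hHn, hHp, hHne, ?_⟩
  intro L hLp hcard hidx
  by_contra hnpc
  have hLne : L ≠ ⊥ := by
    rintro rfl
    rw [Subgroup.card_bot] at hcard
    have := Nat.card_pos (α := H)
    omega
  have hle := hcmp L hLp hLne hnpc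
  rw [hf] at hle
  simp only at hle
  have h1 := factorization_card_eq_of_not_dvd_index (p := p) _ hidx
  have h2 := factorization_card_le (p := p) (Subgroup.normalizer (H : Set G))
  rw [h1] at hle
  have h3 := Nat.mul_le_mul_right (Nat.card G + 1) h2
  omega


/-- Step 2 -/
theorem npc_quotientW (ih : IHW.{u} p (Nat.card G))
    (H : Subgroup G) [hHn : H.Normal] (hHp : IsPGroup p H) (hHne : H ≠ ⊥)
    (hstar : ∀ L : Subgroup G, IsPGroup p L → Nat.card H < Nat.card L →
        ¬ p ∣ (Subgroup.normalizer (L : Set G)).index →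
        Cfsg.HasNormalPComplement p ↥(Subgroup.normalizer (L : Set G))) :
    Cfsg.HasNormalPComplement p (G ⧸ H) := by
  have hp : p.Prime := Fact.out
  by_cases hdvd : p ∣ Nat.card (G ⧸ H)
  swap
  · exact hasNormalPComplement_of_coprime ((Nat.Prime.coprime_iff_not_dvd hp).2 hdvd).symm
  apply ih (G ⧸ H) (card_quotient_lt H hHne)
  obtain ⟨Pb⟩ : Nonempty (Sylow p (G ⧸ H)) := inferInstance
  refine ⟨Pb, ?_⟩
  have hPbne : (Pb : Subgroup (G ⧸ H)) ≠ ⊥ := Pb.ne_bot_of_dvd_card hdvd
  have hZne : Wof p (Pb : Subgroup (G ⧸ H)) ≠ ⊥ := Wof_ne_bot Pb.isPGroup' hPbne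
  apply npc_normalizer_of_comap
  obtain ⟨L, hL⟩ : ∃ L : Subgroup G,
      L = (Wof p (Pb : Subgroup (G ⧸ H))).comap (QuotientGroup.mk' H) := ⟨_, rfl⟩
  rw [← hL]
  have hLp : IsPGroup p L := by
    rw [hL]
    apply IsPGroup.comap_of_ker_isPGroup (Pb.isPGroup'.to_le Wof_le)
    rw [QuotientGroup.ker_mk']; exact hHp
  have hHL : H ≤ L := by
    intro h hh
    rw [hL, Subgroup.mem_comap, QuotientGroup.mk'_apply, (QuotientGroup.eq_one_iff h).2 hh]
    exact Subgroup.one_mem _
  have hHLne : H ≠ L := by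
    intro h
    apply hZne
    have h1 : L.map (QuotientGroup.mk' H) = Wof p (Pb : Subgroup (G ⧸ H)) := by
      rw [hL]
      exact Subgroup.map_comap_eq_self_of_surjective (QuotientGroup.mk'_surjective H) _
    rw [← h1, ← h, QuotientGroup.map_mk'_self]
  have hcard : Nat.card H < Nat.card L := Cfsg.H5.ZJ.card_lt_of_lt (lt_of_le_of_ne hHL hHLne)
  have hidx : ¬ p ∣ (Subgroup.normalizer (L : Set G)).index := by
    have e1 := Subgroup.comap_normalizer_eq_of_surjective (Wof p (Pb : Subgroup (G ⧸ H)))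
      (QuotientGroup.mk'_surjective H)
    rw [hL, ← e1, Subgroup.index_comap_of_surjective _ (QuotientGroup.mk'_surjective H)]
    intro hd
    apply Pb.not_dvd_index
    exact dvd_trans hd (Subgroup.index_dvd_of_le
      (Subgroup.le_normalizer.trans (normalizer_le_normalizer_Wof _)))
  exact hstar L hLp hcard hidx

/-- Step 3 -/
theorem pPrimeCore_eq_botW (ih : IHW.{u} p (Nat.card G))
    (hG : ¬ Cfsg.HasNormalPComplement p G) (P : Sylow p G)
    (hP : Cfsg.HasNormalPComplement p ↥(Subgroup.normalizer (Wof p (P : Subgroup G) : Set G))) :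
    Cfsg.pPrimeCore p G = ⊥ := by
  by_contra hne
  apply hG
  obtain ⟨L₀, hL₀⟩ : ∃ L₀ : Subgroup G, L₀ = Cfsg.pPrimeCore p G := ⟨_, rfl⟩
  have hL₀n : L₀.Normal := by rw [hL₀]; exact Cfsg.H5.pPrimeCore_normal p G
  have hcop : (Nat.card L₀).Coprime p := by rw [hL₀]; exact Cfsg.H5.coprime_card_pPrimeCore p G
  rw [← hL₀] at hne
  apply hasNormalPComplement_of_quotient L₀ hcop
  have hsurj := QuotientGroup.mk'_surjective L₀
  have hinj : (P : Subgroup G) ⊓ (QuotientGroup.mk' L₀).ker = ⊥ := by
    rw [QuotientGroup.ker_mk', eq_bot_iff]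
    intro x hx
    rw [Subgroup.mem_bot]
    exact Cfsg.H5.eq_one_of_coprime_of_mem_pgroup
      (Cfsg.H5.coprime_orderOf_of_mem hcop hx.2) P.isPGroup' hx.1
  have hZp : IsPGroup p (Wof p (P : Subgroup G)) := P.isPGroup'.to_le Wof_le
  by_cases hX : Subgroup.normalizer ((Wof p (P : Subgroup G) ⊔ L₀ : Subgroup G) : Set G) = ⊤
  · have hn : (Wof p (P : Subgroup G) ⊔ L₀).Normal := Subgroup.normalizer_eq_top_iff.1 hX
    have hfr := Cfsg.H5.PSt.normalizer_sup_eq_top_of_coprime L₀ hcop hZp hn
    have hφ : Function.Surjective ((QuotientGroup.mk' L₀).comp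
        (Subgroup.normalizer (Wof p (P : Subgroup G) : Set G)).subtype) := by
      intro y
      obtain ⟨g, rfl⟩ := hsurj y
      have hg : g ∈ ((L₀ ⊔ Subgroup.normalizer (Wof p (P : Subgroup G) : Set G) : Subgroup G) :
          Set G) := by rw [hfr]; trivial
      rw [Subgroup.normal_mul] at hg
      obtain ⟨n, hn, h, hh, rfl⟩ := hg
      refine ⟨⟨h, hh⟩, ?_⟩
      show QuotientGroup.mk' L₀ h = QuotientGroup.mk' L₀ (n * h)
      have h1 : QuotientGroup.mk' L₀ n = 1 := (QuotientGroup.eq_one_iff n).2 hn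
      rw [map_mul, h1, one_mul]
    exact hasNormalPComplement_of_surjective _ hφ hP
  · apply ih (G ⧸ L₀) (card_quotient_lt L₀ hne)
    refine ⟨P.mapSurjective hsurj, ?_⟩
    rw [Sylow.coe_mapSurjective, ← Wof_map_hom hinj]
    apply npc_normalizer_of_comap
    have e1 : ((Wof p (P : Subgroup G)).map (QuotientGroup.mk' L₀)).comap (QuotientGroup.mk' L₀) =
        Wof p (P : Subgroup G) ⊔ L₀ := by
      rw [Subgroup.comap_map_eq, QuotientGroup.ker_mk']
    rw [e1]
    apply npc_of_sylow_leW ih P hP _ _ hX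
    exact (Subgroup.le_normalizer.trans (normalizer_le_normalizer_Wof _)).trans
      (normalizer_le_normalizer_sup _ _)


/-- the minimal counterexample argument -/
theorem npc_of_ihW (hp2 : p ≠ 2) (ih : IHW.{u} p (Nat.card G))
    (P : Sylow p G)
    (hP : Cfsg.HasNormalPComplement p ↥(Subgroup.normalizer (Wof p (P : Subgroup G) : Set G))) :
    Cfsg.HasNormalPComplement p G := by
  have hp : p.Prime := Fact.out
  by_contra hG
  have hall : ∀ Q : Sylow p G, Cfsg.HasNormalPComplement p
      ↥(Subgroup.normalizer (Wof p (Q : Subgroup G) : Set G)) :=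
    fun Q => npc_normalizer_Wof_sylow P Q hP
  obtain ⟨H, hHn, hHp, hHne, hstar⟩ := exists_normal_maxW ih hall hG
  have hGH := npc_quotientW ih H hHp hHne hstar
  obtain ⟨Kb, hKbn, hKbcop, k, hKbidx⟩ := hasNormalPComplement_iff_exists.1 hGH
  have hsurj := QuotientGroup.mk'_surjective H
  obtain ⟨K, hKdef⟩ : ∃ K : Subgroup G, K = Kb.comap (QuotientGroup.mk' H) := ⟨_, rfl⟩
  have hKn : K.Normal := by rw [hKdef]; exact hKbn.comap _
  have hKidx : K.index = p ^ k := by
    rw [hKdef, Subgroup.index_comap_of_surjective _ hsurj]; exact hKbidx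
  have hKmap : K.map (QuotientGroup.mk' H) = Kb := by
    rw [hKdef]; exact Subgroup.map_comap_eq_self_of_surjective hsurj _
  have hKm : ∀ y ∈ K, y ^ Nat.card Kb ∈ H := by
    intro y hy
    rw [hKdef, Subgroup.mem_comap] at hy
    have h1 : (⟨QuotientGroup.mk' H y, hy⟩ : ↥Kb) ^ Nat.card ↥Kb = 1 := pow_card_eq_one'
    have h2 := congrArg Subtype.val h1
    rw [Subgroup.coe_pow, Subgroup.coe_one, ← map_pow] at h2
    exact (QuotientGroup.eq_one_iff _).1 h2
  -- `H = O_p(G)`
  have hHcore : H = Cfsg.pCore p G := by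
    have h1 : H ≤ Cfsg.pCore p G := Cfsg.H5.le_pCore hHn hHp
    refine Subgroup.eq_of_le_of_card_ge h1 ?_
    by_contra hlt
    push Not at hlt
    apply hG
    have hn := Cfsg.H5.pCore_normal p G
    have htop : Subgroup.normalizer (Cfsg.pCore p G : Set G) = ⊤ :=
      Subgroup.normalizer_eq_top_iff.2 hn
    have h2 := hstar (Cfsg.pCore p G) (Cfsg.H5.pCore_isPGroup p G) hlt
      (by rw [htop, Subgroup.index_top]; exact hp.not_dvd_one)
    exact npc_top_iff.1 (npc_congr htop h2)
  have hO : Cfsg.pPrimeCore p G = ⊥ := pPrimeCore_eq_botW ih hG P hP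
  have hHK : H ≤ K := by
    intro h hh
    rw [hKdef, Subgroup.mem_comap, QuotientGroup.mk'_apply, (QuotientGroup.eq_one_iff h).2 hh]
    exact Subgroup.one_mem _
  have hrel : (H.relIndex K).Coprime p := by
    have h2 := Subgroup.relIndex_comap (⊥ : Subgroup (G ⧸ H)) (QuotientGroup.mk' H) K
    have h3 : (⊥ : Subgroup (G ⧸ H)).comap (QuotientGroup.mk' H) = H := by
      rw [MonoidHom.comap_bot, QuotientGroup.ker_mk']
    rw [h3, Subgroup.relIndex_bot_left, hKmap] at h2
    rw [h2]; exact hKbcop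
  have hps : Cfsg.IsPSolvable p G := isPSolvable_of_series H K hHn hKn hHK hHp hrel ⟨k, hKidx⟩
  have hcent : Subgroup.centralizer (Cfsg.pCore p G : Set G) ≤ Cfsg.pCore p G :=
    Cfsg.H5.centralizer_pCore_le_of_isPSolvable hps hO
  have hHP : H ≤ P := hHp.le_sylow_of_normal P
  -- `P` is a maximal subgroup
  have hPtop : (P : Subgroup G) ≠ ⊤ := by
    intro h
    apply hG
    apply hasNormalPComplement_of_isPGroup
    have : IsPGroup p ↥(⊤ : Subgroup G) := h ▸ P.isPGroup'
    exact this.of_equiv Subgroup.topEquiv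
  have hmaxP : ∀ M : Subgroup G, (P : Subgroup G) < M → M = ⊤ := by
    intro M hPM
    by_contra hM
    have hnpcM := npc_of_sylow_leW ih P hP M hPM.le hM
    obtain ⟨D, hDn, hDcop, j, hDidx⟩ := hasNormalPComplement_iff_exists.1 hnpcM
    have hHM : H ≤ M := hHP.trans hPM.le
    have hHMn : (H.subgroupOf M).Normal := inferInstance
    have hHMp : IsPGroup p ↥(H.subgroupOf M) := hHp.comap_subtype
    have hdisj : Disjoint D (H.subgroupOf M) := by
      apply Subgroup.disjoint_of_coprime_natCard
      obtain ⟨a, ha⟩ := hHMp.exists_card_eq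
      rw [ha]; exact Nat.Coprime.pow_right a hDcop
    have hDbot : D = ⊥ := by
      rw [eq_bot_iff]
      intro d hd
      have hdC : (d : G) ∈ Subgroup.centralizer (Cfsg.pCore p G : Set G) := by
        rw [← hHcore, Subgroup.mem_centralizer_iff]
        intro h hh
        have hc := Subgroup.commute_of_normal_of_disjoint D (H.subgroupOf M) hDn hHMn hdisj d
          ⟨h, hHM hh⟩ hd (Subgroup.mem_subgroupOf.2 hh)
        exact (congrArg Subtype.val hc.eq).symm
      have hdH : (d : G) ∈ H := by rw [hHcore]; exact hcent hdC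
      have h5 : d ∈ D ⊓ H.subgroupOf M := ⟨hd, Subgroup.mem_subgroupOf.2 hdH⟩
      rw [disjoint_iff.1 hdisj] at h5
      exact h5
    have hMp : IsPGroup p ↥M := by
      apply IsPGroup.of_card (n := j)
      rw [← hDidx, hDbot, Subgroup.index_bot]
    exact hPM.ne (P.is_maximal' hMp hPM.le).symm
  have hcoat : IsCoatom ((P.mapSurjective hsurj : Sylow p (G ⧸ H)) : Subgroup (G ⧸ H)) := by
    rw [Sylow.coe_mapSurjective]
    have hcm : ((P : Subgroup G).map (QuotientGroup.mk' H)).comap (QuotientGroup.mk' H) = P := by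
      rw [Subgroup.comap_map_eq, QuotientGroup.ker_mk', sup_eq_left.2 hHP]
    constructor
    · intro h
      apply hPtop
      rw [← hcm, h, Subgroup.comap_top]
    · intro Mb hMb
      have h1 : (P : Subgroup G) < Mb.comap (QuotientGroup.mk' H) := by
        refine lt_of_le_of_ne ?_ ?_
        · rw [← hcm]; exact Subgroup.comap_mono hMb.le
        · intro h
          apply hMb.ne
          rw [← Subgroup.map_comap_eq_self_of_surjective hsurj Mb, ← h]
      have h2 := hmaxP _ h1
      rw [← Subgroup.map_comap_eq_self_of_surjective hsurj Mb, h2,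
        Subgroup.map_top_of_surjective _ hsurj]
  have hKbab := commute_of_isCoatom_sylow Kb hKbcop (P.mapSurjective hsurj) hcoat
  have hKK : ⁅K, K⁆ ≤ H := by
    rw [Subgroup.commutator_le]
    intro x hx y hy
    rw [hKdef, Subgroup.mem_comap] at hx hy
    rw [← QuotientGroup.eq_one_iff, ← QuotientGroup.mk'_apply, map_commutatorElement,
      commutatorElement_eq_one_iff_mul_comm]
    exact hKbab _ hx _ hy
  have hKP : ∀ g : G, ∃ k ∈ K, ∃ t ∈ (P : Subgroup G), g = k * t := by
    have h1 := sylow_sup_eq_top_of_index_pow K hKidx P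
    intro g
    have hg : g ∈ ((K ⊔ (P : Subgroup G) : Subgroup G) : Set G) := by
      rw [sup_comm, h1]; trivial
    rw [Subgroup.normal_mul] at hg
    obtain ⟨k', hk', t, ht, rfl⟩ := hg
    exact ⟨k', hk', t, ht, rfl⟩
  have hst : ∀ (V : Subgroup G) [V.Normal], IsPGroup p V → Cfsg.IsPStableOn p V := by
    intro V hVn hVp
    have hVH : V ≤ H := by rw [hHcore]; exact Cfsg.H5.le_pCore hVn hVp
    exact isPStableOn_of_structure hp2 H K hHp hKK (Nat.card Kb) hKbcop hKm P hKP V hVH
  have hWQ : Wof p (P : Subgroup G) ≤ Cfsg.pCore p G :=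
    Wof_le_pCore P hcent (hst (Cfsg.pCore p G) (Cfsg.H5.pCore_isPGroup p G))
  have hZn : (Wof p (P : Subgroup G)).Normal := by
    by_cases hJtop : Subgroup.normalizer (Cfsg.thompsonSubgroupOf p (P : Subgroup G) : Set G) = ⊤
    · have hτ : Cfsg.IsStableEmbedding p (P : Subgroup G).subtype := by
        refine ⟨Subgroup.subtype_injective _, inferInstance, ⟨P, ?_⟩, hcent, ?_, ?_⟩
        · exact (Subgroup.range_subtype _).symm
        · exact Subgroup.normalizer_eq_top_iff.1 hJtop
        · intro V hVn hVle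
          exact hst V (P.isPGroup'.to_le (hVle.trans (Subgroup.map_subtype_le _)))
      exact Cfsg.Agent.S0623.map_normal p _ hτ
    · have hPN := sylow_le_normalizer_thompson P
      have hNP : Subgroup.normalizer (Cfsg.thompsonSubgroupOf p (P : Subgroup G) : Set G) = P := by
        by_contra hne
        exact hJtop (hmaxP _ (lt_of_le_of_ne hPN (Ne.symm hne)))
      apply Wof_normal_of P (fun V _ hV => hst V (Cfsg.H5.isPGroup_of_isElementaryAbelian hV)) hWQ
      rw [hNP]
      exact Subgroup.le_normalizer.trans (normalizer_le_normalizer_Wof _)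
  have htop : Subgroup.normalizer (Wof p (P : Subgroup G) : Set G) = ⊤ :=
    Subgroup.normalizer_eq_top_iff.2 hZn
  exact hG (npc_top_iff.1 (npc_congr htop hP))

end stepsW

/-- the W(S)-form of the normal p-complement theorem, induction form -/
theorem gt_allW (p : ℕ) [Fact p.Prime] (hp2 : p ≠ 2) :
    ∀ n : ℕ, ∀ (G : Type u) [Group G] [Finite G], Nat.card G = n →
      (∃ P : Sylow p G, Cfsg.HasNormalPComplement p
        ↥(Subgroup.normalizer (Wof p (P : Subgroup G) : Set G))) →
      Cfsg.HasNormalPComplement p G := by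
  intro n
  induction n using Nat.strong_induction_on with
  | _ n ih =>
    intro G _ _ hn hex
    obtain ⟨P, hP⟩ := hex
    have ih' : IHW.{u} p (Nat.card G) := by
      intro G' _ _ hlt hex'
      exact ih (Nat.card G') (hn ▸ hlt) G' rfl hex'
    exact npc_of_ihW hp2 ih' P hP

/-- The normal p-complement Theorem of Thompson in the form with W(S): for odd p, G has a normal p-complement as soon as the normalizer of the characteristic subgroup W(S) of a Sylow p-subgroup S has one. -/
theorem result {G : Type*} [Group G] [Finite G] {p : ℕ} [Fact p.Prime] (hp : p ≠ 2) (S : Sylow p G) (hN : Cfsg.HasNormalPComplement p ↥(Subgroup.normalizer (((Cfsg.stableNormalClosure p ↥(S : Subgroup G)).map (S : Subgroup G).subtype) : Set G))) : Cfsg.HasNormalPComplement p G := by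
  exact gt_allW p hp _ G rfl ⟨S, hN⟩

end Cfsg.Agent.S0628
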