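-- Statement S0630: p-constraint passes to and from G / O_{p'}(G).
import Mathlib
import Cfsg.Statements.S0630
import Cfsg.Agent.S1327
import Cfsg.Agent.Lib.Helper10.PComponent
import Cfsg.Agent.Lib.Helper10.Transport

set_option autoImplicit false
open Cfsg

namespace Cfsg.Agent.S0630

open Cfsg.Agent.Lib.Helper10

/-- the layer of `Q ⧸ N` for trivial `N` -/
theorem layer_quotient_eq_bot_iff {Q : Type*} [Group Q] (N : Subgroup Q) [N.Normal] (hN : N = ⊥) :
    Cfsg.layer (Q ⧸ N) = ⊥ ↔ Cfsg.layer Q = ⊥ := by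
  let e : (Q ⧸ N) ≃* Q := (QuotientGroup.quotientMulEquivOfEq hN).trans QuotientGroup.quotientBot
  have h := map_layer e
  constructor
  · intro h1
    rw [← h, h1, Subgroup.map_bot]
  · intro h1
    rw [h1] at h
    exact (Subgroup.map_eq_bot_iff_of_injective _ e.injective).mp h

/-- p-constraint passes to and from the quotient by the largest normal subgroup of order prime to p. -/
theorem result {G : Type*} [Group G] [Finite G] {p : ℕ} [Fact p.Prime] : Cfsg.IsPConstrained p G ↔ Cfsg.IsPConstrained p (G ⧸ Cfsg.pPrimeCore p G) := by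
  rw [Cfsg.Agent.S1327.result p, Cfsg.Agent.S1327.result p, pLayer_eq_bot_iff, pLayer_eq_bot_iff]
  exact (layer_quotient_eq_bot_iff _ (pPrimeCore_quotient_eq_bot p)).symm

end Cfsg.Agent.S0630
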