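import Cfsg.Statements.S0633
import Cfsg.Agent.Lib.Helper23.HBInd4
import Cfsg.Agent.Lib.Helper23.HBGroup

set_option autoImplicit false
open Cfsg

namespace Cfsg.Agent.S0633

/-- Theorem B of Hall and Higman on the minimal polynomial of a p-element of order p^n in a p-solvable linear group on a nonzero vector space in characteristic p with no nontrivial normal p-subgroup: its degree is p^n, except when some p^n₀ - 1 (n₀ ≤ n) is a power of a prime q for which the Sylow q-subgroups are non-abelian, in which case the degree is at least p^(n-n₀)(p^n₀ - 1). -/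
theorem result {F : Type*} [Field F] {p : ℕ} [Fact p.Prime] [CharP F p] {V : Type*} [AddCommGroup V] [Module F V] [FiniteDimensional F V] [Nontrivial V] (H : Subgroup (V ≃ₗ[F] V)) [Finite H] (hsol : Cfsg.IsPSolvable p H) (hOp : Cfsg.pCore p H = ⊥) (x : V ≃ₗ[F] V) (hx : x ∈ H) (n : ℕ) (hn : orderOf x = p ^ n) (r : ℕ) (hr : minpoly F (x : Module.End F V) = (Polynomial.X - 1) ^ r) : r = p ^ n ∨ ∃ n₀ q m : ℕ, 1 ≤ n₀ ∧ n₀ ≤ n ∧ q.Prime ∧ 1 ≤ m ∧ p ^ n₀ - 1 = q ^ m ∧ (∀ Q : Sylow q H, ¬ IsMulCommutative Q) ∧ p ^ (n - n₀) * (p ^ n₀ - 1) ≤ r := by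
  classical
  have hp : p.Prime := Fact.out
  set X₀ : Module.End F V := (x : Module.End F V) with hX₀
  have hcoepow : ∀ (g : V ≃ₗ[F] V) (k : ℕ),
      ((g ^ k : V ≃ₗ[F] V) : Module.End F V) = (g : Module.End F V) ^ k := by
    intro g k
    exact map_pow (LinearEquiv.automorphismGroup.toLinearMapMonoidHom (R := F) (M := V)) g k
  -- `(X₀ - 1) ^ r = 0`
  have hXr : (X₀ - 1) ^ r = 0 := by
    have h1 := minpoly.aeval F X₀
    rw [hr] at h1
    simpa using h1
  have hxN : x ^ (p ^ n) = 1 := by rw [← hn]; exact pow_orderOf_eq_one x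
  have hX₀N : X₀ ^ (p ^ n) = 1 := by
    rw [hX₀, ← hcoepow, hxN]
    rfl
  have hXN : (X₀ - 1) ^ (p ^ n) = 0 := by
    rw [Cfsg.Agent.Lib.Helper23.HB.sub_one_pow_char_pow_alg (E := F), hX₀N, sub_self]
  -- `r ≤ p ^ n`
  have hrle : r ≤ p ^ n := by
    have h1 : minpoly F X₀ ∣ (Polynomial.X - 1) ^ (p ^ n) := by
      apply minpoly.dvd
      simpa using hXN
    rw [hr] at h1
    have h0 : (Polynomial.X - 1 : Polynomial F) ≠ 0 := Polynomial.X_sub_C_ne_zero (1 : F)
    have hnu : ¬ IsUnit (Polynomial.X - 1 : Polynomial F) := by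
      have := Polynomial.not_isUnit_X_sub_C (1 : F)
      simpa using this
    exact (pow_dvd_pow_iff h0 hnu).mp h1
  -- lower bounds from non-vanishing powers
  have hlow : ∀ e : ℕ, (X₀ - 1) ^ e ≠ 0 → e < r := by
    intro e he
    by_contra hcon
    push Not at hcon
    apply he
    obtain ⟨c, rfl⟩ := Nat.exists_eq_add_of_le hcon
    rw [pow_add, hXr, zero_mul]
  rcases Nat.eq_zero_or_pos n with hn0 | hn1
  · left
    subst hn0
    rw [pow_zero] at hrle ⊢
    have : 0 < r := hlow 0 (by rw [pow_zero]; exact one_ne_zero)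
    omega
  -- the algebraically closed extension
  let K := AlgebraicClosure F
  have hcharK : CharP K p := charP_of_injective_algebraMap (algebraMap F K).injective p
  let W := TensorProduct F K V
  let bc : Module.End F V →ₐ[F] Module.End K W := Module.End.baseChangeHom F K V
  have hbcinj : Function.Injective bc := LinearMap.baseChangeHom_injective F V K
  let ρ₀ : (V ≃ₗ[F] V) →* Module.End K W :=
    (bc : Module.End F V →* Module.End K W).comp
      (LinearEquiv.automorphismGroup.toLinearMapMonoidHom (R := F) (M := V))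
  have hρ₀ : ∀ g : V ≃ₗ[F] V, ρ₀ g = bc (g : Module.End F V) := fun g => rfl
  have hρ₀inj : Function.Injective ρ₀ := by
    intro a b hab
    rw [hρ₀, hρ₀] at hab
    have := hbcinj hab
    exact LinearEquiv.toLinearMap_injective this
  let ρ : ↥H →* Module.End K W := ρ₀.comp H.subtype
  let xH : ↥H := ⟨x, hx⟩
  have hordH : orderOf xH = p ^ n := by
    rw [← hn]
    exact Subgroup.orderOf_mk x hx
  obtain ⟨q, Q, hq, hqp, hQ, hxQ, g, hg, hgy⟩ :=
    Cfsg.Agent.Lib.Helper23.HB.exists_invariant_qsubgroup hsol hOp xH hn1 hordH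
  have hρxN : ρ xH ^ (p ^ n) = 1 := by
    rw [← map_pow]
    have : xH ^ (p ^ n) = 1 := by rw [← hordH]; exact pow_orderOf_eq_one xH
    rw [this, map_one]
  have hy : ∃ g ∈ Q, ρ (xH ^ (p ^ (n - 1)) * g * (xH ^ (p ^ (n - 1)))⁻¹) ≠ ρ g := by
    refine ⟨g, hg, ?_⟩
    intro h
    apply hgy
    exact Subtype.ext (hρ₀inj h)
  have hres := Cfsg.Agent.Lib.Helper23.HB.hallHigmanC (E := K) (p := p) ρ hq hqp Q hQ xH hxQ hn1
    hρxN hy
  have hρx : ρ xH - 1 = bc (X₀ - 1) := by
    rw [map_sub, map_one]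
    rfl
  have htransfer : ∀ e : ℕ, (ρ xH - 1) ^ e ≠ 0 → e < r := by
    intro e he
    apply hlow
    intro h0
    apply he
    rw [hρx, ← map_pow, h0, map_zero]
  rcases hres with h | ⟨⟨a, ha, b, hb, hab⟩, n₀, m, h1, h2, h3, h4, h5⟩
  · left
    have := htransfer _ h
    omega
  · right
    refine ⟨n₀, q, m, h1, h2, hq, h3, h4, ?_, ?_⟩
    · intro S hS
      have hFq : Fact q.Prime := ⟨hq⟩
      obtain ⟨S', hS'⟩ := hQ.exists_le_sylow
      obtain ⟨c, hc⟩ := MulAction.exists_smul_eq ↥H S S'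
      -- `a` and `b` lie in a conjugate of `S`
      have haS : a ∈ ((c • S : Sylow q ↥H) : Subgroup ↥H) := by rw [hc]; exact hS' ha
      have hbS : b ∈ ((c • S : Sylow q ↥H) : Subgroup ↥H) := by rw [hc]; exact hS' hb
      rw [Sylow.coe_subgroup_smul, Subgroup.mem_pointwise_smul_iff_inv_smul_mem] at haS hbS
      have hcomm := hS.is_comm.comm (⟨_, haS⟩ : S) ⟨_, hbS⟩
      have hcomm' := congrArg Subtype.val hcomm
      simp only [Subgroup.coe_mul, MulAut.smul_def, MulAut.conj_inv_apply] at hcomm'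
      apply hab
      have : a * b = b * a := by
        have h6 : c⁻¹ * (a * b) * c = c⁻¹ * (b * a) * c := by
          calc c⁻¹ * (a * b) * c = (c⁻¹ * a * c) * (c⁻¹ * b * c) := by group
            _ = (c⁻¹ * b * c) * (c⁻¹ * a * c) := hcomm'
            _ = c⁻¹ * (b * a) * c := by group
        exact mul_left_cancel (mul_right_cancel h6)
      rw [this]
    · have := htransfer _ h5
      have hpos : 0 < p ^ (n - n₀) * (p ^ n₀ - 1) := by
        apply Nat.mul_pos (pow_pos hp.pos _)
        have : 2 ≤ p ^ n₀ := by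
          calc 2 ≤ p := hp.two_le
            _ = p ^ 1 := (pow_one p).symm
            _ ≤ p ^ n₀ := Nat.pow_le_pow_right hp.pos h1
        omega
      omega

end Cfsg.Agent.S0633
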