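import Mathlib
import Cfsg.Statements.S0634
import Cfsg.Agent.H5.PSolvable

set_option autoImplicit false
open Cfsg

namespace Cfsg.Agent.S0634

open Cfsg.H5 Subgroup

variable {G : Type*} [Group G]

theorem ups_succ_even (p : ℕ) (n : ℕ) (hn : Even n) :
    (upperPSeries p G (n + 1)).1 =
      (pPrimeCore p (G ⧸ (upperPSeries p G n).1)).comap (QuotientGroup.mk' (upperPSeries p G n).1) := by
  rw [upperPSeries]
  simp only [hn, if_true]

theorem ups_succ_odd (p : ℕ) (n : ℕ) (hn : ¬ Even n) :
    (upperPSeries p G (n + 1)).1 =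
      (pCore p (G ⧸ (upperPSeries p G n).1)).comap (QuotientGroup.mk' (upperPSeries p G n).1) := by
  rw [upperPSeries]
  simp only [hn, if_false]

theorem pPrimeCore_quotient_comap_eq_bot [Finite G] (p : ℕ) (N U : Subgroup G) [N.Normal] [U.Normal]
    (hU : U = (pPrimeCore p (G ⧸ N)).comap (QuotientGroup.mk' N)) :
    pPrimeCore p (G ⧸ U) = ⊥ := by
  have hNU : N ≤ U := by
    rw [hU]
    have := Subgroup.ker_le_comap (QuotientGroup.mk' N) (pPrimeCore p (G ⧸ N))
    rwa [QuotientGroup.ker_mk'] at this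
  set Y := (pPrimeCore p (G ⧸ U)).comap (QuotientGroup.mk' U) with hY
  have hUY : U ≤ Y := by
    have := Subgroup.ker_le_comap (QuotientGroup.mk' U) (pPrimeCore p (G ⧸ U))
    rwa [QuotientGroup.ker_mk'] at this
  have hn1 : (pPrimeCore p (G ⧸ U)).Normal := pPrimeCore_normal p _
  have hYn : Y.Normal := inferInstance
  have hYmap : Y.map (QuotientGroup.mk' U) = pPrimeCore p (G ⧸ U) :=
    Subgroup.map_comap_eq_self_of_surjective (QuotientGroup.mk'_surjective U) _
  have hUmap : U.map (QuotientGroup.mk' N) = pPrimeCore p (G ⧸ N) := by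
    rw [hU]
    exact Subgroup.map_comap_eq_self_of_surjective (QuotientGroup.mk'_surjective N) _
  have hcard : (Nat.card (Y.map (QuotientGroup.mk' N))).Coprime p := by
    rw [card_map_mk', ← Subgroup.relIndex_mul_relIndex N U Y hNU hUY, ← card_map_mk', ← card_map_mk',
      hUmap, hYmap]
    exact Nat.Coprime.mul_left (coprime_card_pPrimeCore p _) (coprime_card_pPrimeCore p _)
  have hnorm : (Y.map (QuotientGroup.mk' N)).Normal :=
    Subgroup.Normal.map hYn _ (QuotientGroup.mk'_surjective N)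
  have hle : Y.map (QuotientGroup.mk' N) ≤ pPrimeCore p (G ⧸ N) := le_pPrimeCore hnorm hcard
  rw [Subgroup.map_le_iff_le_comap, ← hU] at hle
  rw [← hYmap, eq_bot_iff]
  refine (Subgroup.map_mono hle).trans ?_
  rw [QuotientGroup.map_mk'_self]

/-- In a p-soluble group each p-factor of the upper p-series contains its own centralizer in the corresponding quotient. -/
theorem result {G : Type*} [Group G] [Finite G] {p : ℕ} [Fact p.Prime] (hsol : Cfsg.IsPSolvable p G) (k : ℕ) : Subgroup.centralizer ((((Cfsg.upperPSeries p G (2 * k + 2)).1.map (QuotientGroup.mk' (Cfsg.upperPSeries p G (2 * k + 1)).1)) : Subgroup (G ⧸ (Cfsg.upperPSeries p G (2 * k + 1)).1)) : Set (G ⧸ (Cfsg.upperPSeries p G (2 * k + 1)).1)) ≤ (Cfsg.upperPSeries p G (2 * k + 2)).1.map (QuotientGroup.mk' (Cfsg.upperPSeries p G (2 * k + 1)).1) := by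
  have hodd : ¬ Even (2 * k + 1) := by
    rw [Nat.not_even_iff_odd]; exact ⟨k, rfl⟩
  have h1 : (Cfsg.upperPSeries p G (2 * k + 2)).1.map
      (QuotientGroup.mk' (Cfsg.upperPSeries p G (2 * k + 1)).1) =
      pCore p (G ⧸ (Cfsg.upperPSeries p G (2 * k + 1)).1) := by
    rw [show 2 * k + 2 = (2 * k + 1) + 1 from rfl, ups_succ_odd p (2 * k + 1) hodd]
    exact Subgroup.map_comap_eq_self_of_surjective (QuotientGroup.mk'_surjective _) _
  rw [h1]
  apply centralizer_pCore_le_of_isPSolvable (isPSolvable_quotient _ hsol)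
  exact pPrimeCore_quotient_comap_eq_bot p (Cfsg.upperPSeries p G (2 * k)).1 _
    (ups_succ_even p (2 * k) ⟨k, by ring⟩)

end Cfsg.Agent.S0634
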