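-- Statement S0642: regular 2-groups are exactly the abelian 2-groups.
import Mathlib
import Cfsg.Statements.S0642
import Cfsg.Agent.Lib.Helper23.Regular

set_option autoImplicit false
open Cfsg

namespace Cfsg.Agent.S0642

open Subgroup Cfsg.Agent.Lib.Helper23
open scoped commutatorElement

theorem comm_of_regular {G : Type*} [Group G] [Finite G] (hG : Cfsg.IsRegularPGroup 2 G) :
    ∀ (n : ℕ) (a b : G), Nat.card (closure ({a, b} : Set G)) = n → a * b = b * a := by
  intro n
  induction n using Nat.strong_induction_on with
  | _ n ih =>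
    intro a b hn
    by_contra hab
    have IH : ∀ K : Subgroup G, Nat.card K < n → ∀ x ∈ K, ∀ y ∈ K, x * y = y * x := by
      intro K hK x hx y hy
      exact ih _ (lt_of_le_of_lt (Subgroup.card_le_of_le (closure_pair_le hx hy)) hK) x y rfl
    set L := closure ({a, b} : Set G) with hL
    set c := ⁅a, b⁆ with hc
    have hcL : c ∈ ⁅L, L⁆ :=
      commutator_mem_commutator (mem_closure_pair_left a b) (mem_closure_pair_right a b)
    -- `a` commutes with `c`
    have hac : a * c = c * a := by
      have h1 := card_sup_commutator_lt hG.1 a b hab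
      rw [hn] at h1
      exact IH _ h1 a (mem_sup_left (mem_zpowers a)) c (mem_sup_right hcL)
    -- `b` commutes with `c`
    have hbc : b * c = c * b := by
      have hba : b * a ≠ a * b := fun h => hab h.symm
      have h1 := card_sup_commutator_lt hG.1 b a hba
      have hL' : closure ({b, a} : Set G) = L := by rw [hL, Set.pair_comm]
      rw [hL', hn] at h1
      exact IH _ h1 b (mem_sup_left (mem_zpowers b)) c (mem_sup_right hcL)
    -- `[L, L] ≤ ⟨c⟩`
    have hLc : ⁅L, L⁆ ≤ zpowers c := by
      apply commutator_closure_le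
      · rw [closure_le]
        have hcent : ∀ x : G, x * c = c * x → x ∈ normalizer ((zpowers c : Subgroup G) : Set G) := by
          intro x hx
          apply Subgroup.centralizer_le_normalizer
          rw [mem_centralizer_iff]
          intro y hy
          obtain ⟨k, rfl⟩ := mem_zpowers_iff.mp hy
          exact ((Commute.zpow_right (show Commute x c from hx) k).eq).symm
        rintro x (rfl | rfl)
        · exact hcent _ hac
        · exact hcent _ hbc
      · rintro s (rfl | rfl) t (rfl | rfl)
        · rw [commutatorElement_self]; exact one_mem _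
        · exact mem_zpowers _
        · rw [← commutatorElement_inv]; exact inv_mem (mem_zpowers _)
        · rw [commutatorElement_self]; exact one_mem _
    -- the regularity identity
    obtain ⟨d, hd, hmul⟩ := hG.2 a b 1
    have hd2 : d ∈ zpowers (c ^ 2) := by
      have : Cfsg.powerClosure 2 1 ⁅L, L⁆ ≤ zpowers (c ^ 2) := by
        unfold Cfsg.powerClosure
        rw [closure_le]
        rintro y ⟨x, hx, rfl⟩
        obtain ⟨k, rfl⟩ := mem_zpowers_iff.mp (hLc hx)
        rw [pow_one, SetLike.mem_coe, mem_zpowers_iff]
        refine ⟨k, ?_⟩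
        rw [← zpow_natCast, ← zpow_natCast, ← zpow_mul, ← zpow_mul, mul_comm]
      exact this hd
    obtain ⟨m, hm⟩ := mem_zpowers_iff.mp hd2
    -- `(ab)² = a² b² c⁻¹`
    have hsq : (a * b) ^ 2 = a ^ 2 * b ^ 2 * c⁻¹ := by
      have hba : b * a = c⁻¹ * (a * b) := by rw [hc, commutatorElement_def]; group
      have hac' : a * c⁻¹ = c⁻¹ * a := by
        have : a * c⁻¹ = c⁻¹ * (c * a) * c⁻¹ := by group
        rw [this, ← hac]; group
      have hbc' : b * c⁻¹ = c⁻¹ * b := by
        have : b * c⁻¹ = c⁻¹ * (c * b) * c⁻¹ := by group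
        rw [this, ← hbc]; group
      calc (a * b) ^ 2 = a * (b * a) * b := by rw [pow_two]; group
        _ = a * (c⁻¹ * (a * b)) * b := by rw [hba]
        _ = (a * c⁻¹) * a * b * b := by group
        _ = c⁻¹ * a * a * b * b := by rw [hac']
        _ = a * a * (b * (b * c⁻¹)) := by
            rw [hbc', ← mul_assoc b, hbc']
            have e1 : a * a * (c⁻¹ * b * b) = a * (a * c⁻¹) * b * b := by group
            rw [e1, hac']
            have e2 : a * (c⁻¹ * a) * b * b = (a * c⁻¹) * a * b * b := by group
            rw [e2, hac']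
        _ = a ^ 2 * b ^ 2 * c⁻¹ := by rw [pow_two, pow_two]; group
    rw [pow_one] at hmul
    have hdc : d = c⁻¹ := by
      rw [hsq] at hmul
      exact (mul_left_cancel hmul).symm
    -- `c ^ (2m + 1) = 1`
    have hpow : c ^ (2 * m + 1) = 1 := by
      have e : c ^ (2 * m) = (c ^ 2) ^ m := by
        rw [zpow_mul]; norm_cast
      rw [zpow_add, zpow_one, e, hm, hdc, inv_mul_cancel]
    have hdvd : (orderOf c : ℤ) ∣ 2 * m + 1 := orderOf_dvd_iff_zpow_eq_one.mpr hpow
    obtain ⟨k, hk⟩ := hG.1 c
    have hord : orderOf c ∣ 2 ^ k := orderOf_dvd_of_pow_eq_one hk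
    obtain ⟨j, -, hj⟩ := (Nat.dvd_prime_pow Nat.prime_two).mp hord
    have hj0 : j = 0 := by
      by_contra hj0
      have h2 : (2 : ℤ) ∣ (orderOf c : ℤ) := by
        rw [hj]
        push_cast
        exact dvd_pow_self 2 hj0
      have := h2.trans hdvd
      omega
    rw [hj0, pow_zero, orderOf_eq_one_iff] at hj
    apply hab
    exact commutatorElement_eq_one_iff_mul_comm.mp hj

/-- Among finite 2-groups the regular ones are exactly the abelian ones. -/
theorem result {G : Type*} [Group G] [Finite G] (hG : IsPGroup 2 G) : Cfsg.IsRegularPGroup 2 G ↔ ∀ a b : G, a * b = b * a := by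
  constructor
  · intro h a b
    exact comm_of_regular h _ a b rfl
  · intro h
    refine ⟨hG, fun a b n => ⟨1, one_mem _, ?_⟩⟩
    rw [mul_one]
    exact (show Commute a b from h a b).mul_pow _

end Cfsg.Agent.S0642
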