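-- Statement S0644: power subgroups in regular p-groups.
import Mathlib
import Cfsg.Statements.S0644
import Cfsg.Agent.Lib.Helper23.Regular

set_option autoImplicit false
open Cfsg

namespace Cfsg.Agent.S0644

open Subgroup Cfsg.Agent.Lib.Helper23
open scoped commutatorElement

theorem powerClosure_mono {G : Type*} [Group G] (p n : ℕ) {H K : Subgroup G} (h : H ≤ K) :
    Cfsg.powerClosure p n H ≤ Cfsg.powerClosure p n K := by
  unfold Cfsg.powerClosure
  apply Subgroup.closure_mono
  rintro y ⟨x, hx, rfl⟩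
  exact ⟨x, h hx, rfl⟩

theorem powerClosure_le {G : Type*} [Group G] (p n : ℕ) (H : Subgroup G) :
    Cfsg.powerClosure p n H ≤ H := by
  unfold Cfsg.powerClosure
  rw [closure_le]
  rintro y ⟨x, hx, rfl⟩
  exact H.pow_mem hx _

theorem pow_mem_powerClosure {G : Type*} [Group G] (p n : ℕ) {H : Subgroup G} {x : G} (hx : x ∈ H) :
    x ^ (p ^ n) ∈ Cfsg.powerClosure p n H :=
  subset_closure ⟨x, hx, rfl⟩

/-- if products of `q`-th powers of elements of `K` are `q`-th powers, then every element of the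
power closure of `K` is a `q`-th power -/
theorem exists_pow_of_mem_powerClosure {G : Type*} [Group G] (p n : ℕ) (K : Subgroup G)
    (hK : ∀ x ∈ K, ∀ y ∈ K, ∃ z ∈ K, x ^ (p ^ n) * y ^ (p ^ n) = z ^ (p ^ n)) :
    ∀ c ∈ Cfsg.powerClosure p n K, ∃ e ∈ K, c = e ^ (p ^ n) := by
  intro c hc
  unfold Cfsg.powerClosure at hc
  induction hc using closure_induction with
  | mem y hy =>
    obtain ⟨x, hx, rfl⟩ := hy
    exact ⟨x, hx, rfl⟩
  | one => exact ⟨1, K.one_mem, (one_pow _).symm⟩
  | mul a b _ _ iha ihb =>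
    obtain ⟨x, hx, rfl⟩ := iha
    obtain ⟨y, hy, rfl⟩ := ihb
    obtain ⟨z, hz, hxyz⟩ := hK x hx y hy
    exact ⟨z, hz, hxyz⟩
  | inv a _ iha =>
    obtain ⟨x, hx, rfl⟩ := iha
    exact ⟨x⁻¹, K.inv_mem hx, (inv_pow _ _).symm⟩

/-- In a regular `p`-group a product of two `p^n`-th powers is a `p^n`-th power. -/
theorem exists_pow_eq_mul {G : Type*} [Group G] [Finite G] {p : ℕ} [Fact p.Prime]
    (hG : Cfsg.IsRegularPGroup p G) (n : ℕ) :
    ∀ (m : ℕ) (x y : G), Nat.card (closure ({x, y} : Set G)) = m →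
      ∃ z ∈ closure ({x, y} : Set G), x ^ (p ^ n) * y ^ (p ^ n) = z ^ (p ^ n) := by
  intro m
  induction m using Nat.strong_induction_on with
  | _ m ih =>
    intro x y hm
    set L := closure ({x, y} : Set G) with hL
    have hxL : x ∈ L := mem_closure_pair_left x y
    have hyL : y ∈ L := mem_closure_pair_right x y
    have IH : ∀ K : Subgroup G, Nat.card K < m → ∀ a ∈ K, ∀ b ∈ K,
        ∃ z ∈ K, a ^ (p ^ n) * b ^ (p ^ n) = z ^ (p ^ n) := by
      intro K hK a ha b hb
      obtain ⟨z, hz, h⟩ := ih _ (lt_of_le_of_lt (Subgroup.card_le_of_le (closure_pair_le ha hb)) hK)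
        a b rfl
      exact ⟨z, closure_pair_le ha hb hz, h⟩
    by_cases hxy : x * y = y * x
    · exact ⟨x * y, L.mul_mem hxL hyL, ((show Commute x y from hxy).mul_pow _).symm⟩
    · obtain ⟨c, hc, hmul⟩ := hG.2 x y n
      have hLbot : L ≠ ⊥ := by
        intro h
        apply hxy
        have hx1 : x = 1 := by rw [h] at hxL; exact mem_bot.mp hxL
        rw [hx1, one_mul, mul_one]
      have hnil : Group.IsNilpotent G := hG.1.isNilpotent
      have hDlt : ⁅L, L⁆ < L := Group.IsSolvable.commutator_lt_of_ne_bot hLbot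
      have hDcard : Nat.card (⁅L, L⁆ : Subgroup G) < m := hm ▸ card_lt_of_lt' hDlt
      obtain ⟨e, he, hce⟩ := exists_pow_of_mem_powerClosure p n _ (IH _ hDcard) c hc
      -- the subgroup `K = ⟨xy⟩ [L, L]`
      have hxy' : x * y * y ≠ y * (x * y) := by
        intro h
        apply hxy
        have : x * y = y * x := by
          have h2 : x * y * y = y * x * y := by rw [h]; group
          exact mul_right_cancel h2
        exact this
      have hLeq : closure ({x * y, y} : Set G) = L := by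
        have := closure_pair_mul_inv (x * y) y
        rw [mul_inv_cancel_right] at this
        rw [hL, this]
      have hKcard := card_sup_commutator_lt hG.1 (x * y) y hxy'
      rw [hLeq, hm] at hKcard
      set K := zpowers (x * y) ⊔ ⁅L, L⁆ with hK
      have hKL : K ≤ L := sup_le (zpowers_le.mpr (L.mul_mem hxL hyL)) (commutator_le_self L)
      obtain ⟨z, hz, hzeq⟩ := IH K hKcard (x * y) (mem_sup_left (mem_zpowers _)) e⁻¹
        (mem_sup_right (inv_mem he))
      refine ⟨z, hKL hz, ?_⟩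
      rw [← hzeq, hmul, hce, inv_pow, mul_inv_cancel_right]

/-- In a regular p-group the p^n-th powers of the elements of any subgroup H form a subgroup, whose derived subgroup is contained in the subgroup generated by the p^n-th powers of elements of the derived subgroup of H. -/
theorem result {G : Type*} [Group G] [Finite G] {p : ℕ} [Fact p.Prime] (hG : Cfsg.IsRegularPGroup p G) (H : Subgroup G) (n : ℕ) : {y : G | ∃ x ∈ H, y = x ^ (p ^ n)} = (Cfsg.powerClosure p n H : Set G) ∧ ⁅Cfsg.powerClosure p n H, Cfsg.powerClosure p n H⁆ ≤ Cfsg.powerClosure p n ⁅H, H⁆ := by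
  have hmulH : ∀ x ∈ H, ∀ y ∈ H, ∃ z ∈ H, x ^ (p ^ n) * y ^ (p ^ n) = z ^ (p ^ n) := by
    intro x hx y hy
    obtain ⟨z, hz, h⟩ := exists_pow_eq_mul hG n _ x y rfl
    exact ⟨z, closure_pair_le hx hy hz, h⟩
  have h1 : {y : G | ∃ x ∈ H, y = x ^ (p ^ n)} = (Cfsg.powerClosure p n H : Set G) := by
    apply Set.Subset.antisymm
    · rintro y ⟨x, hx, rfl⟩
      exact pow_mem_powerClosure p n hx
    · intro c hc
      obtain ⟨e, he, hce⟩ := exists_pow_of_mem_powerClosure p n H hmulH c hc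
      exact ⟨e, he, hce⟩
  refine ⟨h1, ?_⟩
  rw [commutator_le]
  intro g hg h hh
  have hg' : g ∈ {y : G | ∃ x ∈ H, y = x ^ (p ^ n)} := by rw [h1]; exact hg
  obtain ⟨x, hx, rfl⟩ := hg'
  have hhH : h ∈ H := powerClosure_le p n H hh
  -- `⁅x^q, h⁆ = x^q * (h x⁻¹ h⁻¹)^q`
  set b := h * x⁻¹ * h⁻¹ with hb
  have hbH : b ∈ H := H.mul_mem (H.mul_mem hhH (H.inv_mem hx)) (H.inv_mem hhH)
  have e1 : ⁅x ^ (p ^ n), h⁆ = x ^ (p ^ n) * b ^ (p ^ n) := by
    rw [hb, conj_pow, commutatorElement_def, inv_pow]; group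
  obtain ⟨c, hc, hmul⟩ := hG.2 x b n
  have hcN : c ∈ Cfsg.powerClosure p n ⁅H, H⁆ :=
    powerClosure_mono p n (commutator_mono (closure_pair_le hx hbH) (closure_pair_le hx hbH)) hc
  have hxb : x * b = ⁅x, h⁆ := by rw [hb, commutatorElement_def]; group
  have hxbN : (x * b) ^ (p ^ n) ∈ Cfsg.powerClosure p n ⁅H, H⁆ := by
    rw [hxb]
    exact pow_mem_powerClosure p n (commutator_mem_commutator hx hhH)
  rw [e1]
  have e2 : x ^ (p ^ n) * b ^ (p ^ n) = (x * b) ^ (p ^ n) * c⁻¹ := by
    rw [hmul, mul_inv_cancel_right]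
  rw [e2]
  exact Subgroup.mul_mem _ hxbN (Subgroup.inv_mem _ hcN)

end Cfsg.Agent.S0644
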