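import Mathlib
import Cfsg.Statements.S0643
import Cfsg.Agent.S0644
import Cfsg.Agent.H5.NilAct
import Cfsg.Agent.Lib.Helper23.Regular
import Cfsg.Agent.Lib.Helper1.Frattini

set_option autoImplicit false
open Cfsg

namespace Cfsg.Agent.S0643

open Subgroup Cfsg.Agent.Lib.Helper23 Cfsg.Agent.S0644
open scoped commutatorElement

variable {G : Type*} [Group G]

/-- strong regularity relative to a subgroup -/
def SRegOn (p : ℕ) (K : Subgroup G) : Prop :=
  ∀ a ∈ K, ∀ b ∈ K, ∀ n : ℕ,
    ∃ c ∈ Cfsg.powerClosure p n ⁅closure ({a, b} : Set G), closure ({a, b} : Set G)⁆,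
      (a * b) ^ (p ^ n) = a ^ (p ^ n) * b ^ (p ^ n) * c

theorem SRegOn.mono {p : ℕ} {K K' : Subgroup G} (h : SRegOn p K) (hle : K' ≤ K) : SRegOn p K' :=
  fun a ha b hb n => h a (hle ha) b (hle hb) n

/-- the weak (first power) condition -/
def WeakReg (p : ℕ) (G : Type*) [Group G] : Prop :=
  ∀ a b : G, ∃ c ∈ ⁅closure ({a, b} : Set G), closure ({a, b} : Set G)⁆,
    (a * b) ^ p = a ^ p * b ^ p * c ^ p

theorem powerClosure_conj_mem (p n : ℕ) {H : Subgroup G} {g : G}
    (hg : g ∈ normalizer (H : Set G)) {c : G} (hc : c ∈ Cfsg.powerClosure p n H) :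
    g * c * g⁻¹ ∈ Cfsg.powerClosure p n H := by
  unfold Cfsg.powerClosure at hc ⊢
  induction hc using closure_induction with
  | mem y hy =>
    obtain ⟨x, hx, rfl⟩ := hy
    apply Subgroup.subset_closure
    refine ⟨g * x * g⁻¹, (mem_set_normalizer_iff.mp hg x).mp hx, ?_⟩
    rw [conj_pow]
  | one => simp
  | mul a b _ _ iha ihb =>
    have : g * (a * b) * g⁻¹ = (g * a * g⁻¹) * (g * b * g⁻¹) := by group
    rw [this]
    exact mul_mem iha ihb
  | inv a _ iha =>
    have : g * a⁻¹ * g⁻¹ = (g * a * g⁻¹)⁻¹ := by group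
    rw [this]
    exact inv_mem iha

/-- relative version: under relative strong regularity, a product of two `p^n`-th powers is a
`p^n`-th power. -/
theorem exists_pow_eq_mul_on [Finite G] {p : ℕ} [Fact p.Prime] (hGp : IsPGroup p G)
    (K : Subgroup G) (hK : SRegOn p K) (n : ℕ) :
    ∀ (m : ℕ) (x y : G), x ∈ K → y ∈ K → Nat.card (closure ({x, y} : Set G)) = m →
      ∃ z ∈ closure ({x, y} : Set G), x ^ (p ^ n) * y ^ (p ^ n) = z ^ (p ^ n) := by
  intro m
  induction m using Nat.strong_induction_on with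
  | _ m ih =>
    intro x y hxK hyK hm
    set L := closure ({x, y} : Set G) with hL
    have hxL : x ∈ L := mem_closure_pair_left x y
    have hyL : y ∈ L := mem_closure_pair_right x y
    have hLK : L ≤ K := closure_pair_le hxK hyK
    have IH : ∀ K' : Subgroup G, K' ≤ K → Nat.card K' < m → ∀ a ∈ K', ∀ b ∈ K',
        ∃ z ∈ K', a ^ (p ^ n) * b ^ (p ^ n) = z ^ (p ^ n) := by
      intro K' hK'K hK' a ha b hb
      obtain ⟨z, hz, h⟩ := ih _ (lt_of_le_of_lt (Subgroup.card_le_of_le (closure_pair_le ha hb)) hK')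
        a b (hK'K ha) (hK'K hb) rfl
      exact ⟨z, closure_pair_le ha hb hz, h⟩
    by_cases hxy : x * y = y * x
    · exact ⟨x * y, L.mul_mem hxL hyL, ((show Commute x y from hxy).mul_pow _).symm⟩
    · obtain ⟨c, hc, hmul⟩ := hK x hxK y hyK n
      have hLbot : L ≠ ⊥ := by
        intro h
        apply hxy
        have hx1 : x = 1 := by rw [h] at hxL; exact mem_bot.mp hxL
        rw [hx1, one_mul, mul_one]
      have hnil : Group.IsNilpotent G := hGp.isNilpotent
      have hDlt : ⁅L, L⁆ < L := Group.IsSolvable.commutator_lt_of_ne_bot hLbot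
      have hDcard : Nat.card (⁅L, L⁆ : Subgroup G) < m := hm ▸ card_lt_of_lt' hDlt
      obtain ⟨e, he, hce⟩ := exists_pow_of_mem_powerClosure p n _
        (IH _ (hDlt.le.trans hLK) hDcard) c hc
      have hxy' : x * y * y ≠ y * (x * y) := by
        intro h
        apply hxy
        have : x * y = y * x := by
          have h2 : x * y * y = y * x * y := by rw [h]; group
          exact mul_right_cancel h2
        exact this
      have hLeq : closure ({x * y, y} : Set G) = L := by
        have := closure_pair_mul_inv (x * y) y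
        rw [mul_inv_cancel_right] at this
        rw [hL, this]
      have hKcard := card_sup_commutator_lt hGp (x * y) y hxy'
      rw [hLeq, hm] at hKcard
      set K₁ := zpowers (x * y) ⊔ ⁅L, L⁆ with hK₁
      have hKL : K₁ ≤ L := sup_le (zpowers_le.mpr (L.mul_mem hxL hyL)) (commutator_le_self L)
      obtain ⟨z, hz, hzeq⟩ := IH K₁ (hKL.trans hLK) hKcard (x * y) (mem_sup_left (mem_zpowers _)) e⁻¹
        (mem_sup_right (inv_mem he))
      refine ⟨z, hKL hz, ?_⟩
      rw [← hzeq, hmul, hce, inv_pow, mul_inv_cancel_right]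

/-- relative version: elements of the power closure are powers -/
theorem exists_pow_of_mem_powerClosure_on [Finite G] {p : ℕ} [Fact p.Prime] (hGp : IsPGroup p G)
    (K : Subgroup G) (hK : SRegOn p K) (n : ℕ) (K' : Subgroup G) (hK' : K' ≤ K) :
    ∀ c ∈ Cfsg.powerClosure p n K', ∃ e ∈ K', c = e ^ (p ^ n) := by
  apply exists_pow_of_mem_powerClosure
  intro x hx y hy
  obtain ⟨z, hz, h⟩ := exists_pow_eq_mul_on hGp K hK n _ x y (hK' hx) (hK' hy) rfl
  exact ⟨z, closure_pair_le hx hy hz, h⟩

theorem closure_triple_le {K : Subgroup G} {x y z : G} (hx : x ∈ K) (hy : y ∈ K) (hz : z ∈ K) :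
    closure ({x, y, z} : Set G) ≤ K := by
  rw [closure_le]
  intro t ht
  rcases ht with rfl | rfl | rfl
  · exact hx
  · exact hy
  · exact hz

/-- three factor expansion -/
theorem pow_mul_mul_on [Finite G] {p : ℕ} [Fact p.Prime] (hGp : IsPGroup p G)
    (K : Subgroup G) (hK : SRegOn p K) (k : ℕ) (x y z : G) (hx : x ∈ K) (hy : y ∈ K) (hz : z ∈ K) :
    ∃ w ∈ ⁅closure ({x, y, z} : Set G), closure ({x, y, z} : Set G)⁆,
      (x * y * z) ^ (p ^ k) = x ^ (p ^ k) * y ^ (p ^ k) * z ^ (p ^ k) * w ^ (p ^ k) := by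
  set C := closure ({x, y, z} : Set G) with hC
  have hxC : x ∈ C := Subgroup.subset_closure (by simp)
  have hyC : y ∈ C := Subgroup.subset_closure (by simp)
  have hzC : z ∈ C := Subgroup.subset_closure (by simp)
  have hCK : C ≤ K := closure_triple_le hx hy hz
  obtain ⟨c₁, hc₁, h1⟩ := hK (x * y) (mul_mem hx hy) z hz k
  obtain ⟨c₂, hc₂, h2⟩ := hK x hx y hy k
  have hc₁' : c₁ ∈ Cfsg.powerClosure p k ⁅C, C⁆ := by
    refine powerClosure_mono p k ?_ hc₁
    have : closure ({x * y, z} : Set G) ≤ C := closure_pair_le (mul_mem hxC hyC) hzC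
    exact commutator_mono this this
  have hc₂' : c₂ ∈ Cfsg.powerClosure p k ⁅C, C⁆ := by
    refine powerClosure_mono p k ?_ hc₂
    have : closure ({x, y} : Set G) ≤ C := closure_pair_le hxC hyC
    exact commutator_mono this this
  have hnorm : C ≤ normalizer ((⁅C, C⁆ : Subgroup G) : Set G) :=
    Cfsg.H5.le_normalizer_commutator le_normalizer
  have hg : (z ^ (p ^ k))⁻¹ ∈ normalizer ((⁅C, C⁆ : Subgroup G) : Set G) :=
    hnorm (inv_mem (pow_mem hzC _))
  have hc₃ : (z ^ (p ^ k))⁻¹ * c₂ * (z ^ (p ^ k))⁻¹⁻¹ * c₁ ∈ Cfsg.powerClosure p k ⁅C, C⁆ :=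
    mul_mem (powerClosure_conj_mem p k hg hc₂') hc₁'
  obtain ⟨w, hw, hwe⟩ := exists_pow_of_mem_powerClosure_on hGp K hK k ⁅C, C⁆
    ((commutator_le_self C).trans hCK) _ hc₃
  refine ⟨w, hw, ?_⟩
  rw [← hwe, h1, h2]
  group

/-- commutators of `p`-th powers lie in the power closure of the derived subgroup -/
theorem comm_pow_mem [Finite G] {p : ℕ} (L U : Subgroup G) (hU : SRegOn p U)
    (hDU : ⁅L, L⁆ ≤ U) (u g : G) (huL : u ∈ L) (hgL : g ∈ L) (hu : u ∈ U) :
    ⁅u ^ p, g⁆ ∈ Cfsg.powerClosure p 1 ⁅L, L⁆ := by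
  have hgu : g * u * g⁻¹ ∈ U := by
    have h1 : ⁅g, u⁆ ∈ ⁅L, L⁆ := commutator_mem_commutator hgL huL
    have : g * u * g⁻¹ = ⁅g, u⁆ * u := by
      rw [commutatorElement_def]; group
    rw [this]
    exact mul_mem (hDU h1) hu
  obtain ⟨c₁, hc₁, h⟩ := hU u hu (g * u * g⁻¹)⁻¹ (inv_mem hgu) 1
  have hguL : g * u * g⁻¹ ∈ L := mul_mem (mul_mem hgL huL) (inv_mem hgL)
  have hc₁' : c₁ ∈ Cfsg.powerClosure p 1 ⁅L, L⁆ := by
    refine powerClosure_mono p 1 ?_ hc₁
    have : closure ({u, (g * u * g⁻¹)⁻¹} : Set G) ≤ L := closure_pair_le huL (inv_mem hguL)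
    exact commutator_mono this this
  have hug : u * (g * u * g⁻¹)⁻¹ = ⁅u, g⁆ := by
    rw [commutatorElement_def]; group
  have h2 : (⁅u, g⁆) ^ (p ^ 1) ∈ Cfsg.powerClosure p 1 ⁅L, L⁆ :=
    pow_mem_powerClosure p 1 (commutator_mem_commutator huL hgL)
  have h3 : ⁅u ^ p, g⁆ = (⁅u, g⁆) ^ (p ^ 1) * c₁⁻¹ := by
    rw [← hug, h, pow_one, mul_inv_cancel_right, commutatorElement_def, inv_pow, conj_pow]
    group
  rw [h3]
  exact mul_mem h2 (inv_mem hc₁')

theorem sRegOn_of_weakReg [Finite G] {p : ℕ} [Fact p.Prime] (hGp : IsPGroup p G)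
    (hW : WeakReg p G) :
    ∀ (m : ℕ) (a b : G), Nat.card (closure ({a, b} : Set G)) = m → ∀ n : ℕ,
      ∃ c ∈ Cfsg.powerClosure p n ⁅closure ({a, b} : Set G), closure ({a, b} : Set G)⁆,
        (a * b) ^ (p ^ n) = a ^ (p ^ n) * b ^ (p ^ n) * c := by
  intro m
  induction m using Nat.strong_induction_on with
  | _ m ih =>
    intro a b hm n
    set L := closure ({a, b} : Set G) with hL
    have haL : a ∈ L := mem_closure_pair_left a b
    have hbL : b ∈ L := mem_closure_pair_right a b
    -- proper subgroups are strongly regular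
    have IH : ∀ K : Subgroup G, Nat.card K < m → SRegOn p K := by
      intro K hK a' ha' b' hb' n'
      exact ih _ (lt_of_le_of_lt (Subgroup.card_le_of_le (closure_pair_le ha' hb')) hK) a' b' rfl n'
    by_cases hab : a * b = b * a
    · refine ⟨1, one_mem _, ?_⟩
      rw [mul_one]
      exact (show Commute a b from hab).mul_pow _
    rcases n with _ | k
    · refine ⟨1, one_mem _, ?_⟩
      simp
    -- the derived subgroup
    set D := ⁅L, L⁆ with hD
    have hLbot : L ≠ ⊥ := by
      intro h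
      apply hab
      have hx1 : a = 1 := by rw [h] at haL; exact mem_bot.mp haL
      rw [hx1, one_mul, mul_one]
    have hnil : Group.IsNilpotent G := hGp.isNilpotent
    have hDlt : D < L := Group.IsSolvable.commutator_lt_of_ne_bot hLbot
    have hDL : D ≤ L := hDlt.le
    have hDcard : Nat.card D < m := hm ▸ card_lt_of_lt' hDlt
    have hDreg : SRegOn p D := IH D hDcard
    -- the subgroups ⟨a⟩D and ⟨b⟩D
    have hUa : Nat.card (zpowers a ⊔ D : Subgroup G) < m := by
      have := card_sup_commutator_lt hGp a b hab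
      rwa [hm] at this
    have hUb : Nat.card (zpowers b ⊔ D : Subgroup G) < m := by
      have := card_sup_commutator_lt hGp b a (fun h => hab h.symm)
      have hpair : ({b, a} : Set G) = {a, b} := Set.pair_comm b a
      rw [hpair, hm] at this
      exact this
    -- the Frattini subgroup of L
    set M := (frattini ↥L).map L.subtype with hM
    have hLp : IsPGroup p ↥L := hGp.to_subgroup L
    have hML : M ≤ L := Subgroup.map_subtype_le _
    have hMne : M ≠ L := by
      intro h
      have h1 : frattini ↥L = ⊤ := by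
        apply Subgroup.map_injective L.subtype_injective
        rw [← hM, h, ← MonoidHom.range_eq_map, Subgroup.range_subtype]
      have h2 : (⊥ : Subgroup ↥L) = ⊤ := frattini_nongenerating (by rw [h1, bot_sup_eq])
      apply hLbot
      have h3 := congrArg (Subgroup.map L.subtype) h2
      rw [Subgroup.map_bot, ← MonoidHom.range_eq_map, Subgroup.range_subtype] at h3
      exact h3.symm
    have hMcard : Nat.card M < m := hm ▸ card_lt_of_lt' (lt_of_le_of_ne hML hMne)
    have hMreg : SRegOn p M := IH M hMcard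
    have hDM : D ≤ M := by
      rw [hD, ← Subgroup.map_subtype_commutator]
      exact Subgroup.map_mono (Cfsg.Agent.Lib.Helper1.IsPGroup.commutator_le_frattini hLp)
    have hpowM : ∀ x ∈ L, x ^ p ∈ M := by
      intro x hx
      have := Cfsg.Agent.Lib.Helper1.IsPGroup.pow_mem_frattini hLp (⟨x, hx⟩ : ↥L)
      exact ⟨_, this, rfl⟩
    -- weak regularity
    obtain ⟨c, hc, hweak⟩ := hW a b
    have hcD : c ∈ D := hc
    -- the power closure E of D
    set E := Cfsg.powerClosure p 1 D with hE
    have hLE : L ≤ normalizer (E : Set G) := by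
      intro g hg
      have hgD : g ∈ normalizer (D : Set G) :=
        Cfsg.H5.le_normalizer_commutator (le_normalizer (H := L)) hg
      have hgD' : g⁻¹ ∈ normalizer (D : Set G) := inv_mem hgD
      rw [mem_set_normalizer_iff]
      intro e
      constructor
      · intro he
        exact powerClosure_conj_mem p 1 hgD he
      · intro he
        have := powerClosure_conj_mem p 1 hgD' he
        have e' : g⁻¹ * (g * e * g⁻¹) * g⁻¹⁻¹ = e := by group
        rw [e'] at this
        exact this
    -- commutators of p-th powers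
    have hcomm : ∀ u ∈ ({a, b, c} : Set G), ∀ g ∈ L, ⁅u ^ p, g⁆ ∈ E := by
      intro u hu g hg
      rcases hu with rfl | rfl | rfl
      · exact comm_pow_mem L (zpowers u ⊔ D) (IH _ hUa) le_sup_right u g haL hg
          (mem_sup_left (mem_zpowers _))
      · exact comm_pow_mem L (zpowers u ⊔ D) (IH _ hUb) le_sup_right u g hbL hg
          (mem_sup_left (mem_zpowers _))
      · exact comm_pow_mem L D hDreg le_rfl u g (hDL hcD) hg hcD
    have hxL : a ^ p ∈ L := pow_mem haL _
    have hyL : b ^ p ∈ L := pow_mem hbL _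
    have hzL : c ^ p ∈ L := pow_mem (hDL hcD) _
    have hT : ⁅closure ({a ^ p, b ^ p, c ^ p} : Set G), closure ({a ^ p, b ^ p, c ^ p} : Set G)⁆ ≤ E := by
      apply commutator_closure_le
      · exact (closure_triple_le hxL hyL hzL).trans hLE
      · intro s hs t ht
        have htL : t ∈ L := by
          rcases ht with rfl | rfl | rfl
          · exact hxL
          · exact hyL
          · exact hzL
        rcases hs with rfl | rfl | rfl
        · exact hcomm a (by simp) t htL
        · exact hcomm b (by simp) t htL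
        · exact hcomm c (by simp) t htL
    -- three factor expansion in M
    obtain ⟨w, hw, hexp⟩ := pow_mul_mul_on hGp M hMreg k (a ^ p) (b ^ p) (c ^ p)
      (hpowM a haL) (hpowM b hbL) (hpowM c (hDL hcD))
    obtain ⟨v, hv, hwv⟩ := exists_pow_of_mem_powerClosure_on hGp D hDreg 1 D le_rfl w (hT hw)
    obtain ⟨f, hf, hcf⟩ := exists_pow_eq_mul_on hGp D hDreg (k + 1) _ c v hcD hv rfl
    have hfD : f ∈ D := closure_pair_le hcD hv hf
    refine ⟨f ^ (p ^ (k + 1)), pow_mem_powerClosure p (k + 1) hfD, ?_⟩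
    have e1 : ∀ g : G, g ^ (p ^ (k + 1)) = (g ^ p) ^ (p ^ k) := by
      intro g
      rw [← pow_mul, pow_succ']
    rw [← hcf, e1 (a * b), hweak, hexp, hwv, pow_one, ← e1, ← e1, ← e1, ← e1]
    group

/-- Kemhadze's criterion: a finite p-group is regular exactly when (ab)^p = a^p b^p c^p always holds for some c in the derived subgroup of the subgroup generated by a and b. -/
theorem result {G : Type*} [Group G] [Finite G] {p : ℕ} [Fact p.Prime] (hG : IsPGroup p G) : Cfsg.IsRegularPGroup p G ↔ ∀ a b : G, ∃ c ∈ ⁅Subgroup.closure ({a, b} : Set G), Subgroup.closure ({a, b} : Set G)⁆, (a * b) ^ p = a ^ p * b ^ p * c ^ p := by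
  constructor
  · intro hR a b
    obtain ⟨c, hc, h⟩ := hR.2 a b 1
    have hset := (Cfsg.Agent.S0644.result hR
      ⁅Subgroup.closure ({a, b} : Set G), Subgroup.closure ({a, b} : Set G)⁆ 1).1
    have hc' : c ∈ {y : G | ∃ x ∈ ⁅Subgroup.closure ({a, b} : Set G), Subgroup.closure ({a, b} : Set G)⁆,
        y = x ^ (p ^ 1)} := by
      rw [hset]; exact hc
    obtain ⟨d, hd, rfl⟩ := hc'
    refine ⟨d, hd, ?_⟩
    simpa using h
  · intro hW
    exact ⟨hG, fun a b n => sRegOn_of_weakReg hG hW _ a b rfl n⟩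

end Cfsg.Agent.S0643
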