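import Mathlib
import Cfsg.Statements.S0645
import Cfsg.Agent.H5.CyclicMax

set_option autoImplicit false
open Cfsg

namespace Cfsg.Agent.S0645

open Cfsg.H5 Finset

/-- membership in `zpowers` of an element of finite order gives a natural exponent -/
theorem exists_pow_of_mem_zpowers {G : Type*} [Group G] [Finite G] {c y : G}
    (h : y ∈ Subgroup.zpowers c) : ∃ k : ℕ, c ^ k = y := by
  rw [← mem_powers_iff_mem_zpowers] at h
  exact (Submonoid.mem_powers_iff _ _).mp h

/-- Classification of p-groups with a cyclic maximal subgroup, odd p: a non-abelian one of order p^n has generators a of order p^(n-1) and b of order p, b outside the cyclic subgroup generated by a, with b a b⁻¹ = a^(1 + p^(n-2)). -/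
theorem result {G : Type*} [Group G] [Finite G] {p : ℕ} [Fact p.Prime] (hp : p ≠ 2) (n : ℕ) (hn : 3 ≤ n) (hG : Nat.card G = p ^ n) (C : Subgroup G) (hC : IsCyclic C) (hCi : C.index = p) (hna : ∃ x y : G, x * y ≠ y * x) : ∃ a b : G, orderOf a = p ^ (n - 1) ∧ orderOf b = p ∧ b ∉ Subgroup.zpowers a ∧ b * a * b⁻¹ = a ^ (1 + p ^ (n - 2)) := by
  have hpp : p.Prime := Fact.out
  obtain ⟨c, hCz, hord, hCn, hpow, hcomm⟩ :=
    exists_generator_of_cyclic_index hpp (by omega) hG C hC hCi
  set m := n - 1 with hm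
  have hm2 : 2 ≤ m := by omega
  have hnm : n - 2 = m - 1 := by omega
  rw [hnm]
  have hq1 : 1 < p ^ m := Nat.one_lt_pow (by omega) hpp.one_lt
  have hpm : p ^ m = p ^ (m - 1) * p := by
    rw [← pow_succ]
    congr 1
    omega
  -- an element outside `C`
  have hex : ∃ x : G, x ∉ C := by
    by_contra hcon
    push Not at hcon
    have : C = ⊤ := by
      rw [eq_top_iff]
      intro g _
      exact hcon g
    rw [this, Subgroup.index_top] at hCi
    exact hpp.one_lt.ne hCi
  obtain ⟨x, hxC⟩ := hex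
  -- conjugation exponent
  have hxc : x * c * x⁻¹ ∈ Subgroup.zpowers c := by
    rw [← hCz]
    exact hCn.conj_mem c (by rw [hCz]; exact Subgroup.mem_zpowers c) x
  obtain ⟨r, hr⟩ := exists_pow_of_mem_zpowers hxc
  have hr' : x * c * x⁻¹ = c ^ r := hr.symm
  -- `r ^ p ≡ 1`
  have hrp : r ^ p ≡ 1 [MOD p ^ m] := by
    have h1 := pow_conj_eq hr' p
    have h2 : x ^ p ∈ Subgroup.zpowers c := by rw [← hCz]; exact hpow x
    obtain ⟨s, hs⟩ := exists_pow_of_mem_zpowers h2
    have h3 : x ^ p * c * (x ^ p)⁻¹ = c := by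
      rw [← hs]
      have : c ^ s * c = c * c ^ s := (pow_mul_comm' c s)
      rw [this]
      group
    rw [h3] at h1
    have h4 : c ^ (r ^ p) = c ^ 1 := by rw [← h1, pow_one]
    rw [pow_eq_pow_iff_modEq, hord] at h4
    exact h4
  have hr1 : r ≡ 1 [MOD p ^ (m - 1)] :=
    modEq_one_of_pow_prime_modEq_one hpp hp (by omega) hrp
  have hrne : ¬ r ≡ 1 [MOD p ^ m] := by
    intro h
    have h1 : c ^ r = c ^ 1 := by
      rw [pow_eq_pow_iff_modEq, hord]
      exact h
    rw [pow_one] at h1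
    have h2 : x * c = c * x := by
      calc x * c = (x * c * x⁻¹) * x := by group
        _ = c * x := by rw [hr', h1]
    obtain ⟨a, b, hab⟩ := hna
    exact hab (hcomm x hxC h2 a b)
  have hr0 : 1 ≤ r := by
    rcases Nat.eq_zero_or_pos r with h | h
    · exfalso
      rw [h, pow_zero] at hr'
      have : c = 1 := by
        have : c = x⁻¹ * (x * c * x⁻¹) * x := by group
        rw [this, hr']
        group
      rw [this, orderOf_one] at hord
      omega
    · exact h
  -- `r = 1 + k p^(m-1)`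
  have hdvd : p ^ (m - 1) ∣ r - 1 := (Nat.modEq_iff_dvd' hr0).mp hr1.symm
  obtain ⟨k, hk⟩ := hdvd
  have hrk : r = 1 + k * p ^ (m - 1) := by
    rw [mul_comm] at hk
    omega
  have hpk : ¬ p ∣ k := by
    rintro ⟨w, rfl⟩
    apply hrne
    apply ((Nat.modEq_iff_dvd' hr0).mpr _).symm
    rw [hk]
    refine ⟨w, ?_⟩
    rw [hpm]
    ring
  have hcop : Nat.Coprime k p := (Nat.Coprime.symm ((Nat.Prime.coprime_iff_not_dvd hpp).mpr hpk))
  obtain ⟨j, -, hj⟩ := Nat.exists_mul_mod_eq_one_of_coprime hcop hpp.one_lt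
  -- `x' = x ^ j`
  have hjk : ∃ w, k * j = 1 + p * w := by
    refine ⟨k * j / p, ?_⟩
    have := Nat.div_add_mod (k * j) p
    rw [hj] at this
    omega
  obtain ⟨w, hw⟩ := hjk
  have hR : r ^ j ≡ 1 + p ^ (m - 1) [MOD p ^ m] := by
    rw [hrk]
    have h1 := one_add_pow_modEq (k * p ^ (m - 1)) j
    have hd : p ^ m ∣ (k * p ^ (m - 1)) ^ 2 := by
      rw [mul_pow, ← pow_mul]
      apply Dvd.dvd.mul_left
      exact pow_dvd_pow p (by omega)
    have h2 := h1.of_dvd hd
    refine h2.trans ?_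
    have h3 : j * (k * p ^ (m - 1)) = p ^ (m - 1) + w * p ^ m := by
      have : j * (k * p ^ (m - 1)) = (k * j) * p ^ (m - 1) := by ring
      rw [this, hw, hpm]
      ring
    rw [h3, ← add_assoc]
    have : w * p ^ m ≡ 0 [MOD p ^ m] := Nat.modEq_zero_iff_dvd.mpr (dvd_mul_left _ _)
    have := Nat.ModEq.add_left (1 + p ^ (m - 1)) this
    simpa using this
  set x' := x ^ j with hx'
  have hx'c : x' * c * x'⁻¹ = c ^ (1 + p ^ (m - 1)) := by
    rw [hx', pow_conj_eq hr' j, pow_eq_pow_iff_modEq, hord]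
    exact hR
  have hpj : ¬ p ∣ j := by
    rintro ⟨v, rfl⟩
    have : k * (p * v) % p = 0 := by
      rw [← mul_assoc, mul_comm k p, mul_assoc]
      exact Nat.mul_mod_right _ _
    omega
  have hx'C : x' ∉ C := by
    intro h
    have hcop' : Nat.Coprime j p := (Nat.Coprime.symm ((Nat.Prime.coprime_iff_not_dvd hpp).mpr hpj))
    obtain ⟨u, -, hu⟩ := Nat.exists_mul_mod_eq_one_of_coprime hcop' hpp.one_lt
    have hju : j * u = 1 + p * (j * u / p) := by
      have := Nat.div_add_mod (j * u) p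
      rw [hu] at this
      omega
    have h1 : x ^ (j * u) ∈ C := by
      rw [pow_mul]
      exact C.pow_mem h u
    rw [hju, pow_add, pow_one, pow_mul] at h1
    have h2 : (x ^ p) ^ (j * u / p) ∈ C := C.pow_mem (hpow x) _
    have h3 := C.mul_mem h1 (C.inv_mem h2)
    rw [mul_inv_cancel_right] at h3
    exact hxC h3
  -- `x' ^ p = c ^ s` with `p ∣ s`
  have h2 : x' ^ p ∈ Subgroup.zpowers c := by rw [← hCz]; exact hpow x'
  obtain ⟨s, hs⟩ := exists_pow_of_mem_zpowers h2
  have hps : p ∣ s := by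
    by_contra hps
    have hcop' : Nat.Coprime s (p ^ m) :=
      Nat.Coprime.pow_right m (Nat.Coprime.symm ((Nat.Prime.coprime_iff_not_dvd hpp).mpr hps))
    obtain ⟨u, -, hu⟩ := Nat.exists_mul_mod_eq_one_of_coprime hcop' hq1
    have h3 : c ^ (s * u) = c ^ 1 := by
      rw [pow_eq_pow_iff_modEq, hord]
      unfold Nat.ModEq
      rw [hu, Nat.mod_eq_of_lt hq1]
    rw [pow_one, pow_mul, hs, ← pow_mul] at h3
    -- `c` is a power of `x'`
    have h4 : x' * c * x'⁻¹ = c := by
      rw [← h3]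
      have : x' * x' ^ (p * u) = x' ^ (p * u) * x' := (pow_mul_comm' x' (p * u)).symm
      rw [this]
      group
    rw [hx'c] at h4
    have h5 : c ^ (1 + p ^ (m - 1)) = c ^ 1 := by rw [h4, pow_one]
    rw [pow_eq_pow_iff_modEq, hord] at h5
    have h6 : p ^ m ∣ (1 + p ^ (m - 1)) - 1 := (Nat.modEq_iff_dvd' (by omega)).mp h5.symm
    rw [Nat.add_sub_cancel_left] at h6
    have h7 := Nat.le_of_dvd (pow_pos hpp.pos _) h6
    have h8 : p ^ (m - 1) < p ^ m := Nat.pow_lt_pow_right hpp.one_lt (by omega)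
    omega
  obtain ⟨t, rfl⟩ := hps
  -- the element `b`
  set u := (p ^ m - 1) * t with hu
  set b := c ^ u * x' with hb
  have hbp : b ^ p = 1 := by
    rw [hb, mul_pow_eq hx'c, ← hs, ← pow_add]
    apply orderOf_dvd_iff_pow_eq_one.mp
    rw [hord]
    have hS := geom_sum_modEq hpp hp hm2
    have h3 : u * ∑ i ∈ range p, (1 + p ^ (m - 1)) ^ i + p * t ≡ u * p + p * t [MOD p ^ m] :=
      Nat.ModEq.add_right _ (Nat.ModEq.mul_left _ hS)
    have h4 : u * p + p * t = p ^ m * (t * p) := by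
      rw [hu]
      have : 1 ≤ p ^ m := by omega
      obtain ⟨Q, hQ⟩ : ∃ Q, p ^ m = Q + 1 := ⟨p ^ m - 1, by omega⟩
      rw [hQ, Nat.add_sub_cancel]
      ring
    rw [h4] at h3
    have h5 : p ^ m * (t * p) ≡ 0 [MOD p ^ m] := Nat.modEq_zero_iff_dvd.mpr (dvd_mul_right _ _)
    exact Nat.modEq_zero_iff_dvd.mp (h3.trans h5)
  have hbC : b ∉ Subgroup.zpowers c := by
    intro h
    apply hx'C
    rw [hCz]
    have h1 : c ^ u ∈ Subgroup.zpowers c := Subgroup.pow_mem _ (Subgroup.mem_zpowers c) u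
    have h3 := (Subgroup.zpowers c).mul_mem ((Subgroup.zpowers c).inv_mem h1) h
    rw [hb, inv_mul_cancel_left] at h3
    exact h3
  have hb1 : b ≠ 1 := by
    intro h
    apply hbC
    rw [h]
    exact one_mem _
  refine ⟨c, b, hord, orderOf_eq_prime hbp hb1, hbC, ?_⟩
  have : b * c * b⁻¹ = c ^ u * (x' * c * x'⁻¹) * (c ^ u)⁻¹ := by
    rw [hb]
    group
  rw [this, hx'c]
  have : c ^ u * c ^ (1 + p ^ (m - 1)) = c ^ (1 + p ^ (m - 1)) * c ^ u := by
    rw [← pow_add, ← pow_add, add_comm]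
  rw [this, mul_inv_cancel_right]

end Cfsg.Agent.S0645
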