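import Mathlib
import Cfsg.Statements.S0646
import Cfsg.Agent.H5.CyclicMax2

set_option autoImplicit false
open Cfsg

namespace Cfsg.Agent.S0646

open Cfsg.H5 Finset

/-- Classification of non-abelian 2-groups with a cyclic maximal subgroup: dihedral, generalized quaternion, and for order at least 16 the modular group and the semidihedral group, each given by generators a (of index 2) and b with the stated relations. -/
theorem result {G : Type*} [Group G] [Finite G] (n : ℕ) (hn : 3 ≤ n) (hG : Nat.card G = 2 ^ n) (C : Subgroup G) (hC : IsCyclic C) (hCi : C.index = 2) (hna : ∃ x y : G, x * y ≠ y * x) : ∃ a b : G, orderOf a = 2 ^ (n - 1) ∧ b ∉ Subgroup.zpowers a ∧ ((b ^ 2 = 1 ∧ b * a * b⁻¹ = a⁻¹) ∨ (b ^ 2 = a ^ (2 ^ (n - 2)) ∧ b * a * b⁻¹ = a⁻¹) ∨ (4 ≤ n ∧ b ^ 2 = 1 ∧ b * a * b⁻¹ = a ^ (1 + 2 ^ (n - 2))) ∨ (4 ≤ n ∧ b ^ 2 = 1 ∧ b * a * b⁻¹ = a ^ (2 ^ (n - 2) - 1))) := by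
  obtain ⟨c, hCz, hord, hCn, hpow, hcomm⟩ :=
    exists_generator_of_cyclic_index Nat.prime_two (by omega) hG C hC hCi
  set m := n - 1 with hm
  have hm2 : 2 ≤ m := by omega
  have hnm : n - 2 = m - 1 := by omega
  rw [hnm]
  have hq1 : 1 < 2 ^ m := Nat.one_lt_pow (by omega) (by norm_num)
  have hqm : (2 : ℕ) ^ m = 2 * 2 ^ (m - 1) := by
    have : m = (m - 1) + 1 := by omega
    conv_lhs => rw [this, pow_succ]
    ring
  have hcC : c ∈ C := by rw [hCz]; exact Subgroup.mem_zpowers c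
  have hcq : c ^ (2 ^ m) = 1 := by rw [← hord]; exact pow_orderOf_eq_one c
  -- an element outside `C`
  have hex : ∃ x : G, x ∉ C := by
    by_contra hcon
    push Not at hcon
    have : C = ⊤ := by
      rw [eq_top_iff]
      intro g _
      exact hcon g
    rw [this, Subgroup.index_top] at hCi
    omega
  obtain ⟨x, hxC⟩ := hex
  -- conjugation exponent
  have hxc : x * c * x⁻¹ ∈ Subgroup.zpowers c := by
    rw [← hCz]
    exact hCn.conj_mem c hcC x
  obtain ⟨r₀, hr₀⟩ := exists_pow_of_mem_zpowers hxc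
  set r := r₀ % 2 ^ m with hrdef
  have hrlt : r < 2 ^ m := Nat.mod_lt _ (by omega)
  have hr' : x * c * x⁻¹ = c ^ r := by
    rw [hrdef, ← hord, pow_mod_orderOf]
    exact hr₀.symm
  -- `x ^ 2 = c ^ s`
  have h2 : x ^ 2 ∈ Subgroup.zpowers c := by rw [← hCz]; exact hpow x
  obtain ⟨s, hs⟩ := exists_pow_of_mem_zpowers h2
  -- `r ^ 2 ≡ 1`
  have hr2 : r ^ 2 ≡ 1 [MOD 2 ^ m] := by
    have h1 := pow_conj_eq hr' 2
    have h3 : x ^ 2 * c * (x ^ 2)⁻¹ = c := by
      rw [← hs]
      have : c ^ s * c = c * c ^ s := (pow_mul_comm' c s)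
      rw [this]
      group
    rw [h3] at h1
    have h4 : c ^ (r ^ 2) = c ^ 1 := by rw [← h1, pow_one]
    rw [pow_eq_pow_iff_modEq, hord] at h4
    exact h4
  -- `r s ≡ s`
  have hrs : r * s ≡ s [MOD 2 ^ m] := by
    have h1 := conj_pow_eq hr' s
    rw [hs] at h1
    have h3 : x * x ^ 2 * x⁻¹ = x ^ 2 := by group
    rw [h3, ← hs, pow_eq_pow_iff_modEq, hord] at h1
    exact h1.symm
  have hr1 : r ≠ 1 := by
    intro h
    rw [h, pow_one] at hr'
    have h2 : x * c = c * x := by
      calc x * c = (x * c * x⁻¹) * x := by group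
        _ = c * x := by rw [hr']
    obtain ⟨a, b, hab⟩ := hna
    exact hab (hcomm x hxC h2 a b)
  have hxz : x ∉ Subgroup.zpowers c := by rw [← hCz]; exact hxC
  by_cases hcase : r + 1 = 2 ^ m
  · -- dihedral or quaternion
    have hinv : c ^ r = c⁻¹ := by
      apply eq_inv_of_mul_eq_one_left
      rw [← pow_succ, hcase, hcq]
    have h3 : 2 ^ m ∣ 2 * s := by
      have h4 : r * s + s ≡ s + s [MOD 2 ^ m] := Nat.ModEq.add_right s hrs
      have h5 : r * s + s = 2 ^ m * s := by rw [← hcase]; ring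
      rw [h5] at h4
      have h6 : 2 ^ m * s ≡ 0 [MOD 2 ^ m] := Nat.modEq_zero_iff_dvd.mpr (dvd_mul_right _ _)
      have := Nat.modEq_zero_iff_dvd.mp (h4.symm.trans h6)
      rwa [← two_mul] at this
    rw [hqm] at h3
    have h4 : 2 ^ (m - 1) ∣ s := Nat.dvd_of_mul_dvd_mul_left (by norm_num) h3
    obtain ⟨s', rfl⟩ := h4
    refine ⟨c, x, hord, hxz, ?_⟩
    rcases Nat.even_or_odd s' with ⟨w, hw⟩ | ⟨w, hw⟩
    · left
      refine ⟨?_, by rw [hr', hinv]⟩
      rw [← hs, hw]
      have : 2 ^ (m - 1) * (w + w) = 2 ^ m * w := by rw [hqm]; ring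
      rw [this, pow_mul, hcq, one_pow]
    · right; left
      refine ⟨?_, by rw [hr', hinv]⟩
      rw [← hs, hw]
      have : 2 ^ (m - 1) * (2 * w + 1) = 2 ^ m * w + 2 ^ (m - 1) := by rw [hqm]; ring
      rw [this, pow_add, pow_mul, hcq, one_pow, one_mul]
  · have hcases := sq_modEq_one_two_pow_cases hm2 hrlt hr2
    have hm3 : 3 ≤ m := by
      by_contra hlt
      have hm' : m = 2 := by omega
      rw [hm'] at hcases hcase
      norm_num at hcases hcase
      omega
    have hn4 : 4 ≤ n := by omega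
    obtain ⟨Z, hZ⟩ : ∃ Z, Z = 2 ^ (m - 3) := ⟨_, rfl⟩
    have hZpos : 0 < Z := by rw [hZ]; exact pow_pos (by norm_num) _
    have hq8 : (2 : ℕ) ^ m = 8 * Z := by
      have : m = (m - 3) + 3 := by omega
      conv_lhs => rw [this, pow_add]
      rw [hZ]
      ring
    have hq4 : (2 : ℕ) ^ (m - 1) = 4 * Z := by
      have : m - 1 = (m - 3) + 2 := by omega
      rw [this, pow_add, hZ]
      ring
    rcases hcases with h | h | h | h
    · exact absurd h hr1
    · -- modular group
      have h3 : 2 ^ m ∣ 2 ^ (m - 1) * s := by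
        have h4 := (Nat.modEq_iff_dvd' (by rw [h]; nlinarith)).mp hrs.symm
        have h5 : r * s - s = 2 ^ (m - 1) * s := by
          rw [h]
          have : (1 + 2 ^ (m - 1)) * s = s + 2 ^ (m - 1) * s := by ring
          omega
        rwa [h5] at h4
      have h4 : 2 ∣ s := by
        rw [hqm, mul_comm 2] at h3
        have := Nat.dvd_of_mul_dvd_mul_left (pow_pos (by norm_num) _) h3
        exact this
      obtain ⟨t, rfl⟩ := h4
      obtain ⟨Y, hY⟩ : ∃ Y, 10 * Z = Y + 1 := ⟨10 * Z - 1, by omega⟩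
      refine ⟨c, c ^ (t * Y) * x, hord, ?_, ?_⟩
      · rw [← hCz]; exact pow_mul_notMem hcC hxC _
      right; right; left
      refine ⟨hn4, ?_, ?_⟩
      · rw [mul_pow_eq hr', ← hs, ← pow_add]
        apply orderOf_dvd_iff_pow_eq_one.mp
        rw [hord, hq8]
        have hsum : ∑ i ∈ range 2, r ^ i = 1 + r := by
          simp [Finset.sum_range_succ]
        rw [hsum, h, hq4]
        refine ⟨t * (5 * Z + 2), ?_⟩
        calc t * Y * (1 + (1 + 4 * Z)) + 2 * t = 2 * t * (Y + 1) + 4 * Z * t * Y := by ring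
          _ = 2 * t * (10 * Z) + 4 * Z * t * Y := by rw [hY]
          _ = 4 * Z * t * (Y + 1) + 16 * Z * t := by ring
          _ = 4 * Z * t * (10 * Z) + 16 * Z * t := by rw [hY]
          _ = 8 * Z * (t * (5 * Z + 2)) := by ring
      · rw [conj_pow_mul_eq hr', h]
    · -- semidihedral group
      have hr4 : r = 4 * Z - 1 := by omega
      have h3 : 2 ^ m ∣ (r - 1) * s := by
        have h4 := (Nat.modEq_iff_dvd' (by
          have : 1 ≤ r := by omega
          nlinarith)).mp hrs.symm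
        have h5 : r * s - s = (r - 1) * s := by
          obtain ⟨r', hr''⟩ : ∃ r', r = r' + 1 := ⟨r - 1, by omega⟩
          rw [hr'', Nat.add_sub_cancel]
          have : (r' + 1) * s = r' * s + s := by ring
          omega
        rwa [h5] at h4
      have h4 : r - 1 = 2 * (2 * Z - 1) := by omega
      rw [h4, hqm, mul_assoc] at h3
      have h5 : 2 ^ (m - 1) ∣ (2 * Z - 1) * s := Nat.dvd_of_mul_dvd_mul_left (by norm_num) h3
      have hc : Nat.Coprime (2 ^ (m - 1)) (2 * Z - 1) := by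
        apply Nat.Coprime.pow_left
        rw [Nat.coprime_two_left]
        exact ⟨Z - 1, by omega⟩
      have h6 : 2 ^ (m - 1) ∣ s := hc.dvd_of_dvd_mul_left h5
      obtain ⟨s', rfl⟩ := h6
      have hrr : 2 ^ (m - 1) - 1 = r := by omega
      rcases Nat.even_or_odd s' with ⟨w, hw⟩ | ⟨w, hw⟩
      · refine ⟨c, x, hord, hxz, ?_⟩
        right; right; right
        refine ⟨hn4, ?_, by rw [hr', hrr]⟩
        rw [← hs, hw]
        have : 2 ^ (m - 1) * (w + w) = 2 ^ m * w := by rw [hqm]; ring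
        rw [this, pow_mul, hcq, one_pow]
      · refine ⟨c, c ^ 1 * x, hord, ?_, ?_⟩
        · rw [← hCz]; exact pow_mul_notMem hcC hxC _
        right; right; right
        refine ⟨hn4, ?_, by rw [conj_pow_mul_eq hr', hrr]⟩
        rw [mul_pow_eq hr', ← hs, ← pow_add]
        apply orderOf_dvd_iff_pow_eq_one.mp
        rw [hord]
        have hsum : ∑ i ∈ range 2, r ^ i = 1 + r := by
          simp [Finset.sum_range_succ]
        rw [hsum, hw]
        refine ⟨w + 1, ?_⟩
        have : 1 * (1 + r) + 2 ^ (m - 1) * (2 * w + 1) = 2 ^ (m - 1) * (2 * w + 2) := by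
          have : 1 + r = 2 ^ (m - 1) := by omega
          rw [one_mul, this]
          ring
        rw [this, hqm]
        ring
    · exact absurd h hcase

end Cfsg.Agent.S0646
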