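import Cfsg.Statements.S0647

set_option autoImplicit false
open Cfsg

namespace Cfsg.Agent.S0647

/-- For a nonempty family of maximal abelian subgroups of a finite group, the intersection of the family is the centre of the subgroup it generates, which is also the full centralizer of that subgroup. -/
theorem result {S : Type*} [Group S] [Finite S] (𝒜 : Set (Subgroup S)) (hne : 𝒜.Nonempty) (hab : ∀ A ∈ 𝒜, IsMulCommutative A) (hmax : ∀ A ∈ 𝒜, ∀ B : Subgroup S, IsMulCommutative B → A ≤ B → B = A) : sInf 𝒜 = sSup 𝒜 ⊓ Subgroup.centralizer ((sSup 𝒜 : Subgroup S) : Set S) ∧ sInf 𝒜 = Subgroup.centralizer ((sSup 𝒜 : Subgroup S) : Set S) := by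
  -- key: the centralizer of the join is the intersection
  have h1 : sInf 𝒜 ≤ Subgroup.centralizer ((sSup 𝒜 : Subgroup S) : Set S) := by
    rw [Subgroup.le_centralizer_iff]
    apply sSup_le
    intro A hA
    rw [Subgroup.le_centralizer_iff]
    have : IsMulCommutative A := hab A hA
    refine le_trans (sInf_le hA) ?_
    exact Subgroup.le_centralizer_iff_isMulCommutative.mpr this
  have h2 : Subgroup.centralizer ((sSup 𝒜 : Subgroup S) : Set S) ≤ sInf 𝒜 := by
    apply le_sInf
    intro A hA x hx
    have hA' : IsMulCommutative A := hab A hA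
    -- B = closure (A ∪ {x}) is abelian
    have hxA : ∀ a ∈ A, a * x = x * a := by
      intro a ha
      exact (Subgroup.mem_centralizer_iff.mp hx) a (Subgroup.mem_sSup_of_mem hA ha)
    have hB : IsMulCommutative (Subgroup.closure ((A : Set S) ∪ {x})) := by
      apply Subgroup.isMulCommutative_closure
      rintro y (hy | hy) z (hz | hz)
      · exact setLike_mul_comm hy hz
      · rw [Set.mem_singleton_iff] at hz; subst hz; exact hxA y hy
      · rw [Set.mem_singleton_iff] at hy; subst hy; exact (hxA z hz).symm
      · rw [Set.mem_singleton_iff] at hy hz; subst hy; subst hz; rfl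
    have hle : A ≤ Subgroup.closure ((A : Set S) ∪ {x}) := by
      intro a ha
      exact Subgroup.subset_closure (Or.inl ha)
    have := hmax A hA _ hB hle
    rw [← this]
    exact Subgroup.subset_closure (Or.inr rfl)
  have h3 : sInf 𝒜 = Subgroup.centralizer ((sSup 𝒜 : Subgroup S) : Set S) := le_antisymm h1 h2
  refine ⟨?_, h3⟩
  apply le_antisymm
  · apply le_inf _ h1
    obtain ⟨A, hA⟩ := hne
    exact le_trans (sInf_le hA) (le_sSup hA)
  · exact le_trans inf_le_right h2

end Cfsg.Agent.S0647
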