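import Mathlib
import Cfsg.Statements.S0648
import Cfsg.Agent.Lib.Helper23.Regular

set_option autoImplicit false
open Cfsg

namespace Cfsg.Agent.S0648

open Subgroup
open scoped commutatorElement

variable {G : Type*} [Group G]

theorem conj_eq_of_comm {x c : G} (h : x * c = c * x) : x * c * x⁻¹ = c := by
  rw [h, mul_inv_cancel_right]

theorem comm_mul_left (x y z : G) : ⁅x * y, z⁆ = x * ⁅y, z⁆ * x⁻¹ * ⁅x, z⁆ := by
  simp only [commutatorElement_def]; group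

theorem comm_mul_right (x y z : G) : ⁅x, y * z⁆ = ⁅x, y⁆ * (y * ⁅x, z⁆ * y⁻¹) := by
  simp only [commutatorElement_def]; group

/-- the basic facts: `N = [B, A]` centralizes `B'` and `N'` is central in `B`. -/
theorem basic (A B : Subgroup G) (hAB : A ≤ normalizer (B : Set G)) (hc : ⁅⁅B, B⁆, A⁆ = ⊥) :
    ⁅B, A⁆ ≤ B ∧ ⁅⁅B, A⁆, ⁅B, B⁆⁆ = ⊥ ∧ ⁅⁅⁅B, A⁆, ⁅B, A⁆⁆, B⁆ = ⊥ := by
  have hNB : ⁅B, A⁆ ≤ B := Subgroup.le_normalizer_iff_commutator_le_left.mp hAB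
  have h1 : ⁅⁅B, A⁆, ⁅B, B⁆⁆ = ⊥ := by
    apply Subgroup.commutator_commutator_eq_bot_of_rotate
    · rw [Subgroup.commutator_comm A, hc]
      exact Subgroup.commutator_bot_left B
    · rw [eq_bot_iff, ← hc]
      exact Subgroup.commutator_mono (Subgroup.commutator_mono (Subgroup.commutator_le_self B) le_rfl)
        le_rfl
  refine ⟨hNB, h1, ?_⟩
  apply Subgroup.commutator_commutator_eq_bot_of_rotate
  · rw [eq_bot_iff, ← h1, Subgroup.commutator_comm ⁅B, A⁆ ⁅B, B⁆]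
    exact Subgroup.commutator_mono (Subgroup.commutator_mono hNB le_rfl) le_rfl
  · rw [eq_bot_iff, ← h1, Subgroup.commutator_comm ⁅B, A⁆ ⁅B, B⁆]
    exact Subgroup.commutator_mono (Subgroup.commutator_mono le_rfl hNB) le_rfl

/-- The key identity. -/
theorem key_eq (B N : Subgroup G) (hNB : N ≤ B)
    (hBp : ∀ d ∈ ⁅B, B⁆, ∀ n ∈ N, n * d = d * n)
    (hNZ : ∀ z ∈ ⁅N, N⁆, ∀ y ∈ B, y * z = z * y)
    (b x w l : G) (hb : b ∈ B) (hx : x ∈ N) (hw : w ∈ N) (hl : l ∈ N) :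
    ⁅b * x, w * l⁆ = ⁅x, w⁆ * ⁅x, l⁆ * ⁅b, w⁆ * ⁅b, l⁆ := by
  have hP : ⁅x, w⁆ ∈ ⁅N, N⁆ := commutator_mem_commutator hx hw
  have hQ : ⁅x, l⁆ ∈ ⁅N, N⁆ := commutator_mem_commutator hx hl
  have hR : ⁅b, l⁆ ∈ ⁅B, B⁆ := commutator_mem_commutator hb (hNB hl)
  have h1 : ⁅x, w * l⁆ = ⁅x, w⁆ * ⁅x, l⁆ := by
    rw [comm_mul_right, conj_eq_of_comm (hNZ _ hQ w (hNB hw))]
  have h2 : ⁅b, w * l⁆ = ⁅b, w⁆ * ⁅b, l⁆ := by
    rw [comm_mul_right, conj_eq_of_comm (hBp _ hR w hw)]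
  have h3 : ⁅x, w * l⁆ ∈ ⁅N, N⁆ := commutator_mem_commutator hx (mul_mem hw hl)
  rw [comm_mul_left, conj_eq_of_comm (hNZ _ h3 b hb), h1, h2]
  group

/-- If A acts on B centralizing [B, B], then [B, A] has derived subgroup central in B, and for abelian A and b ∈ B with [[b, A], A, A] = 1 the derived subgroup of the subgroup [b, A] generated by the commutators of b with A has exponent dividing 2. -/
theorem result {G : Type*} [Group G] [Finite G] (A B : Subgroup G) (hAB : A ≤ Subgroup.normalizer (B : Set G)) (hc : ⁅⁅B, B⁆, A⁆ = ⊥) : ⁅⁅B, A⁆, ⁅B, A⁆⁆ ≤ B ⊓ Subgroup.centralizer (B : Set G) ∧ (IsMulCommutative A → ∀ b ∈ B, ⁅⁅(Subgroup.closure {g : G | ∃ a ∈ A, g = b⁻¹ * a * b * a⁻¹}), A⁆, A⁆ = ⊥ → ∀ w ∈ ⁅(Subgroup.closure {g : G | ∃ a ∈ A, g = b⁻¹ * a * b * a⁻¹}), (Subgroup.closure {g : G | ∃ a ∈ A, g = b⁻¹ * a * b * a⁻¹})⁆, w ^ 2 = 1) := by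
  obtain ⟨hNB, hNB', hN'B⟩ := basic A B hAB hc
  set N := ⁅B, A⁆ with hN
  have hN'Z : ⁅N, N⁆ ≤ B ⊓ Subgroup.centralizer (B : Set G) := by
    refine le_inf ((Subgroup.commutator_le_self N).trans hNB) ?_
    exact Subgroup.commutator_eq_bot_iff_le_centralizer.mp hN'B
  refine ⟨hN'Z, ?_⟩
  intro hA b hb hq w hw
  set S : Set G := {g : G | ∃ a ∈ A, g = b⁻¹ * a * b * a⁻¹} with hS
  set X := Subgroup.closure S with hX
  -- commutation facts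
  have hBA : ∀ d ∈ ⁅B, B⁆, ∀ a ∈ A, a * d = d * a := by
    intro d hd a ha
    have := Subgroup.commutator_eq_bot_iff_le_centralizer.mp hc hd
    exact (Subgroup.mem_centralizer_iff.mp this a ha)
  have hBp : ∀ d ∈ ⁅B, B⁆, ∀ n ∈ N, n * d = d * n := by
    intro d hd n hn
    have := Subgroup.commutator_eq_bot_iff_le_centralizer.mp hNB' hn
    exact (Subgroup.mem_centralizer_iff.mp this d hd).symm
  have hNZ : ∀ z ∈ ⁅N, N⁆, ∀ y ∈ B, y * z = z * y := by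
    intro z hz y hy
    exact Subgroup.mem_centralizer_iff.mp (hN'Z hz).2 y hy
  have hKA : ∀ l ∈ ⁅X, A⁆, ∀ a ∈ A, a * l = l * a := by
    intro l hl a ha
    have := Subgroup.commutator_eq_bot_iff_le_centralizer.mp hq hl
    exact Subgroup.mem_centralizer_iff.mp this a ha
  have hAcomm : ∀ a ∈ A, ∀ a' ∈ A, a * a' = a' * a := by
    intro a ha a' ha'
    exact setLike_mul_comm ha ha'
  -- generators
  have hxN : ∀ a ∈ A, b⁻¹ * a * b * a⁻¹ ∈ N := by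
    intro a ha
    have : b⁻¹ * a * b * a⁻¹ = ⁅b⁻¹, a⁆ := by rw [commutatorElement_def]; group
    rw [this]
    exact commutator_mem_commutator (inv_mem hb) ha
  have hxX : ∀ a ∈ A, b⁻¹ * a * b * a⁻¹ ∈ X := fun a ha => Subgroup.subset_closure ⟨a, ha, rfl⟩
  have hXN : X ≤ N := by
    rw [hX, Subgroup.closure_le]
    rintro g ⟨a, ha, rfl⟩
    exact hxN a ha
  -- X is A-invariant
  have hAX : A ≤ normalizer (X : Set G) := by
    have hconj : ∀ a ∈ A, ∀ g ∈ X, a * g * a⁻¹ ∈ X := by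
      intro a ha g hg
      rw [hX] at hg
      induction hg using Subgroup.closure_induction with
      | mem y hy =>
        obtain ⟨a', ha', rfl⟩ := hy
        have : a * (b⁻¹ * a' * b * a'⁻¹) * a⁻¹ =
            (b⁻¹ * a * b * a⁻¹)⁻¹ * (b⁻¹ * (a * a') * b * (a * a')⁻¹) := by group
        rw [this]
        exact mul_mem (inv_mem (hxX a ha)) (hxX (a * a') (mul_mem ha ha'))
      | one => simp
      | mul u v _ _ hu hv =>
        have : a * (u * v) * a⁻¹ = (a * u * a⁻¹) * (a * v * a⁻¹) := by group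
        rw [this]; exact mul_mem hu hv
      | inv u _ hu =>
        have : a * u⁻¹ * a⁻¹ = (a * u * a⁻¹)⁻¹ := by group
        rw [this]; exact inv_mem hu
    intro a ha
    rw [mem_set_normalizer_iff]
    intro g
    constructor
    · exact hconj a ha g
    · intro hg
      have := hconj a⁻¹ (inv_mem ha) _ hg
      have e : a⁻¹ * (a * g * a⁻¹) * a⁻¹⁻¹ = g := by group
      rwa [e] at this
  have hKX : ⁅X, A⁆ ≤ X := Subgroup.le_normalizer_iff_commutator_le_left.mp hAX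
  have hκ : ∀ a ∈ A, ∀ u ∈ X, u⁻¹ * a * u * a⁻¹ ∈ ⁅X, A⁆ := by
    intro a ha u hu
    have : u⁻¹ * a * u * a⁻¹ = ⁅u⁻¹, a⁆ := by rw [commutatorElement_def]; group
    rw [this]
    exact commutator_mem_commutator (inv_mem hu) ha
  -- Eq1
  have eq1 : ∀ a ∈ A, ∀ u ∈ X, ⁅b⁻¹ * a * b * a⁻¹, u⁆ * ⁅b⁻¹ * a * b * a⁻¹, u⁻¹ * a * u * a⁻¹⁆ *
      ⁅b, u⁻¹ * a * u * a⁻¹⁆ = 1 := by
    intro a ha u hu
    have hl : u⁻¹ * a * u * a⁻¹ ∈ N := hXN (hKX (hκ a ha u hu))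
    have h1 := key_eq B N hNB hBp hNZ b (b⁻¹ * a * b * a⁻¹) u (u⁻¹ * a * u * a⁻¹) hb (hxN a ha)
      (hXN hu) hl
    have h2 : ⁅b * (b⁻¹ * a * b * a⁻¹), u * (u⁻¹ * a * u * a⁻¹)⁆ = a * ⁅b, u⁆ * a⁻¹ := by
      simp only [commutatorElement_def]; group
    have h3 : a * ⁅b, u⁆ * a⁻¹ = ⁅b, u⁆ :=
      conj_eq_of_comm (hBA _ (commutator_mem_commutator hb (hNB (hXN hu))) a ha)
    rw [h2, h3] at h1
    -- ⁅b,u⁆ = P * Q * ⁅b,u⁆ * R with P Q central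
    have hP : ⁅b⁻¹ * a * b * a⁻¹, u⁆ ∈ ⁅N, N⁆ := commutator_mem_commutator (hxN a ha) (hXN hu)
    have hQ : ⁅b⁻¹ * a * b * a⁻¹, u⁻¹ * a * u * a⁻¹⁆ ∈ ⁅N, N⁆ :=
      commutator_mem_commutator (hxN a ha) hl
    have hbu : ⁅b, u⁆ ∈ B := (Subgroup.commutator_le_self B) (commutator_mem_commutator hb (hNB (hXN hu)))
    have hPQ := hNZ _ (mul_mem hP hQ) _ hbu
    have h4 : ⁅b, u⁆ = ⁅b, u⁆ * (⁅b⁻¹ * a * b * a⁻¹, u⁆ * ⁅b⁻¹ * a * b * a⁻¹, u⁻¹ * a * u * a⁻¹⁆ *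
        ⁅b, u⁻¹ * a * u * a⁻¹⁆) := by
      conv_lhs => rw [h1]
      rw [← hPQ]
      group
    have h5 : ⁅b, u⁆ * 1 = ⁅b, u⁆ * (⁅b⁻¹ * a * b * a⁻¹, u⁆ * ⁅b⁻¹ * a * b * a⁻¹, u⁻¹ * a * u * a⁻¹⁆ *
        ⁅b, u⁻¹ * a * u * a⁻¹⁆) := by
      rw [mul_one]; exact h4
    exact (mul_left_cancel h5).symm
  -- generators commute with K
  have hxK : ∀ a ∈ A, ∀ l ∈ ⁅X, A⁆, ⁅b⁻¹ * a * b * a⁻¹, l⁆ = 1 := by
    intro a ha l hl
    have h1 := eq1 a ha l (hKX hl)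
    have h2 : l⁻¹ * a * l * a⁻¹ = 1 := by
      have := hKA l hl a ha
      calc l⁻¹ * a * l * a⁻¹ = l⁻¹ * (a * l) * a⁻¹ := by group
        _ = l⁻¹ * (l * a) * a⁻¹ := by rw [this]
        _ = 1 := by group
    rw [h2] at h1
    simpa using h1
  -- Eq2
  have eq2 : ∀ a ∈ A, ∀ u ∈ X, ⁅b⁻¹ * a * b * a⁻¹, u⁆ = (⁅b, u⁻¹ * a * u * a⁻¹⁆)⁻¹ := by
    intro a ha u hu
    have h1 := eq1 a ha u hu
    rw [hxK a ha _ (hκ a ha u hu), mul_one] at h1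
    exact eq_inv_of_mul_eq_one_left h1
  -- commutators of generators are involutions
  have hinv : ∀ a ∈ A, ∀ a' ∈ A,
      ⁅b⁻¹ * a * b * a⁻¹, b⁻¹ * a' * b * a'⁻¹⁆ ^ 2 = 1 := by
    intro a ha a' ha'
    set x := b⁻¹ * a * b * a⁻¹ with hx
    set y := b⁻¹ * a' * b * a'⁻¹ with hy
    have hxy1 := eq2 a ha y (hxX a' ha')
    have hxy2 := eq2 a' ha' x (hxX a ha)
    -- relation between the two κ's
    have hrel : y⁻¹ * a * y * a⁻¹ = ⁅y⁻¹, x⁻¹⁆ * (x⁻¹ * a' * x * a'⁻¹) := by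
      have e1 : x * y * (y⁻¹ * a * y * a⁻¹) = b⁻¹ * (a * a') * b * (a * a')⁻¹ := by
        rw [hx, hy]; group
      have e2 : y * x * (x⁻¹ * a' * x * a'⁻¹) = b⁻¹ * (a' * a) * b * (a' * a)⁻¹ := by
        rw [hx, hy]; group
      rw [hAcomm a ha a' ha'] at e1
      have e3 : x * y * (y⁻¹ * a * y * a⁻¹) = y * x * (x⁻¹ * a' * x * a'⁻¹) := e1.trans e2.symm
      calc y⁻¹ * a * y * a⁻¹ = (x * y)⁻¹ * (x * y * (y⁻¹ * a * y * a⁻¹)) := by group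
        _ = (x * y)⁻¹ * (y * x * (x⁻¹ * a' * x * a'⁻¹)) := by rw [e3]
        _ = ⁅y⁻¹, x⁻¹⁆ * (x⁻¹ * a' * x * a'⁻¹) := by rw [commutatorElement_def]; group
    have hd : ⁅y⁻¹, x⁻¹⁆ ∈ ⁅N, N⁆ :=
      commutator_mem_commutator (inv_mem (hxN a' ha')) (inv_mem (hxN a ha))
    have hκ'B : x⁻¹ * a' * x * a'⁻¹ ∈ B := hNB (hXN (hKX (hκ a' ha' x (hxX a ha))))
    have hb2 : ⁅b, y⁻¹ * a * y * a⁻¹⁆ = ⁅b, x⁻¹ * a' * x * a'⁻¹⁆ := by
      rw [hrel, comm_mul_right]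
      have h1 : ⁅b, ⁅y⁻¹, x⁻¹⁆⁆ = 1 := by
        rw [commutatorElement_eq_one_iff_mul_comm]
        exact hNZ _ hd b hb
      have h2 : ⁅b, x⁻¹ * a' * x * a'⁻¹⁆ ∈ B :=
        (Subgroup.commutator_le_self B) (commutator_mem_commutator hb hκ'B)
      rw [h1, one_mul, (hNZ _ hd _ h2).symm, mul_inv_cancel_right]
    have hsymm : ⁅x, y⁆ = ⁅y, x⁆ := by rw [hxy1, hxy2, hb2]
    have hinv' : ⁅x, y⁆ = (⁅x, y⁆)⁻¹ := by
      conv_rhs => rw [commutatorElement_inv]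
      exact hsymm
    rw [pow_two]
    conv_lhs => arg 1; rw [hinv']
    exact inv_mul_cancel _
  -- the subgroup of central involutions
  let E : Subgroup G :=
    { carrier := {z | z ∈ B ⊓ Subgroup.centralizer (B : Set G) ∧ z ^ 2 = 1}
      one_mem' := ⟨one_mem _, one_pow 2⟩
      mul_mem' := by
        rintro u v ⟨hu, hu2⟩ ⟨hv, hv2⟩
        refine ⟨mul_mem hu hv, ?_⟩
        have hcomm : u * v = v * u := (Subgroup.mem_centralizer_iff.mp hv.2 u hu.1)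
        rw [(show Commute u v from hcomm).mul_pow, hu2, hv2, one_mul]
      inv_mem' := by
        rintro u ⟨hu, hu2⟩
        exact ⟨inv_mem hu, by rw [inv_pow, hu2, inv_one]⟩ }
  have hXE : ⁅X, X⁆ ≤ E := by
    apply Cfsg.Agent.Lib.Helper23.commutator_closure_le
    · intro g hg
      have hgB : g ∈ B := hNB (hXN hg)
      rw [mem_set_normalizer_iff]
      intro z
      have key : ∀ z ∈ E, ∀ g ∈ B, g * z * g⁻¹ = z := by
        intro z hz g hg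
        exact conj_eq_of_comm (Subgroup.mem_centralizer_iff.mp hz.1.2 g hg)
      constructor
      · intro hz
        rw [key z hz g hgB]; exact hz
      · intro hz
        have h1 := key _ hz g⁻¹ (inv_mem hgB)
        have e : g⁻¹ * (g * z * g⁻¹) * g⁻¹⁻¹ = z := by group
        rw [e] at h1
        rw [h1]; exact hz
    · rintro s ⟨a, ha, rfl⟩ t ⟨a', ha', rfl⟩
      refine ⟨hN'Z (commutator_mem_commutator (hxN a ha) (hxN a' ha')), hinv a ha a' ha'⟩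
  exact (hXE hw).2

end Cfsg.Agent.S0648
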