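import Cfsg.Statements.S0649
import Mathlib

set_option autoImplicit false
open Cfsg

namespace Cfsg.Agent.S0649

/-- In the Glauberman replacement situation, if B does not normalize A then some element of B normalizes N_S(A) without normalizing A. -/
theorem result {S : Type*} [Group S] [Finite S] {p : ℕ} [Fact p.Prime] (hS : IsPGroup p S) (B : Subgroup S) [B.Normal] (hB2 : p = 2 → IsMulCommutative B) (A : Subgroup S) (hA : IsMulCommutative A) (hBA : ⁅B, B⁆ ≤ A) (hnot : ¬ B ≤ Subgroup.normalizer (A : Set S)) : ∃ b ∈ B, b ∈ Subgroup.normalizer ((Subgroup.normalizer (A : Set S)) : Set S) ∧ b ∉ Subgroup.normalizer (A : Set S) := by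
  set N := Subgroup.normalizer (A : Set S) with hN
  set K := N ⊔ B with hK
  have hNK : N ≤ K := le_sup_left
  have hKnil : Group.IsNilpotent K := (hS.to_subgroup K).isNilpotent
  have hcond := normalizerCondition_of_isNilpotent (G := K)
  have hlt : N.subgroupOf K < ⊤ := by
    rw [lt_top_iff_ne_top, Ne, Subgroup.subgroupOf_eq_top]
    intro h
    exact hnot (le_sup_right.trans h)
  have h2 := hcond _ hlt
  obtain ⟨x', hx'n, hx'N⟩ := SetLike.exists_of_lt h2
  obtain ⟨x, hxK⟩ := x'
  rw [Subgroup.mem_subgroupOf] at hx'N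
  -- x normalizes N
  have hxN : x ∈ Subgroup.normalizer (N : Set S) := by
    rw [Subgroup.mem_normalizer_iff]
    intro n
    constructor
    · intro hn
      have := (Subgroup.mem_normalizer_iff.mp hx'n ⟨n, hNK hn⟩).mp (by rw [Subgroup.mem_subgroupOf]; exact hn)
      rw [Subgroup.mem_subgroupOf] at this
      exact this
    · intro hn
      have hnK : n ∈ K := by
        have h3 : x⁻¹ * (x * n * x⁻¹) * x ∈ K := K.mul_mem (K.mul_mem (K.inv_mem hxK) (hNK hn)) hxK
        have e : x⁻¹ * (x * n * x⁻¹) * x = n := by group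
        rwa [e] at h3
      have := (Subgroup.mem_normalizer_iff.mp hx'n ⟨n, hnK⟩).mpr (by rw [Subgroup.mem_subgroupOf]; exact hn)
      rw [Subgroup.mem_subgroupOf] at this
      exact this
  obtain ⟨n, hn, b, hb, rfl⟩ := Subgroup.mem_sup_of_normal_right.mp hxK
  refine ⟨b, hb, ?_, ?_⟩
  · have h3 : n⁻¹ * (n * b) ∈ Subgroup.normalizer (N : Set S) :=
      Subgroup.mul_mem _ (Subgroup.inv_mem _ (Subgroup.le_normalizer hn)) hxN
    have e : n⁻¹ * (n * b) = b := by group
    rwa [e] at h3
  · intro hbN
    exact hx'N (N.mul_mem hn hbN)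

end Cfsg.Agent.S0649
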