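import Cfsg.Statements.S0655
import Cfsg.Agent.H5.Thompson

set_option autoImplicit false
open Cfsg

namespace Cfsg.Agent.S0655

/-- In a p-group the intersection of all elementary abelian subgroups of largest order is the subgroup generated by the elements of order dividing p in the centre (equivalently the centralizer) of the elementary-version Thompson subgroup. -/
theorem result {S : Type*} [Group S] [Finite S] {p : ℕ} [Fact p.Prime] (hS : IsPGroup p S) : sInf (Cfsg.maxElementaryAbelianSubgroups p S) = Cfsg.omegaCenterThompson p S ∧ Cfsg.omegaCenterThompson p S = Cfsg.omegaOne p (Subgroup.centralizer (Cfsg.thompsonSubgroup p S : Set S)) := by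
  obtain ⟨A₀, hA₀⟩ := Cfsg.H5.maxElementaryAbelianSubgroups_nonempty (G := S) p
  have ha : sInf (Cfsg.maxElementaryAbelianSubgroups p S) ≤ Cfsg.omegaCenterThompson p S := by
    intro x hx
    rw [Subgroup.mem_sInf] at hx
    apply Subgroup.subset_closure
    refine ⟨⟨le_sSup hA₀ (hx A₀ hA₀), ?_⟩, hA₀.1.2 x (hx A₀ hA₀)⟩
    -- x centralizes J
    have : Cfsg.thompsonSubgroup p S ≤ Subgroup.centralizer ({x} : Set S) := by
      apply sSup_le
      intro A hA a ha
      rw [Subgroup.mem_centralizer_iff]
      intro y hy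
      rw [Set.mem_singleton_iff] at hy
      subst hy
      have := hA.1.1
      exact setLike_mul_comm (hx A hA) ha
    show x ∈ Subgroup.centralizer (Cfsg.thompsonSubgroup p S : Set S)
    rw [Subgroup.mem_centralizer_iff]
    intro y hy
    have := this hy
    rw [Subgroup.mem_centralizer_iff] at this
    exact (this x rfl).symm
  have hb : Cfsg.omegaCenterThompson p S ≤ Cfsg.omegaOne p (Subgroup.centralizer (Cfsg.thompsonSubgroup p S : Set S)) := by
    apply Subgroup.closure_mono
    rintro x ⟨hx, hxp⟩
    exact ⟨hx.2, hxp⟩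
  have hc : Cfsg.omegaOne p (Subgroup.centralizer (Cfsg.thompsonSubgroup p S : Set S)) ≤ sInf (Cfsg.maxElementaryAbelianSubgroups p S) := by
    unfold Cfsg.omegaOne
    rw [Subgroup.closure_le]
    rintro x ⟨hx, hxp⟩
    rw [SetLike.mem_coe, Subgroup.mem_sInf]
    intro A hA
    have hAJ : A ≤ Cfsg.thompsonSubgroup p S := le_sSup hA
    have hZ : Cfsg.IsElementaryAbelian p (Subgroup.zpowers x) := Cfsg.H5.isElementaryAbelian_zpowers hxp
    have hcent : A ≤ Subgroup.centralizer ((Subgroup.zpowers x : Subgroup S) : Set S) := by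
      rw [Subgroup.le_centralizer_iff, Subgroup.zpowers_le]
      exact Subgroup.centralizer_le (by exact_mod_cast hAJ) hx
    have hB := Cfsg.H5.isElementaryAbelian_sup hA.1 hZ hcent
    have := Cfsg.H5.eq_of_mem_maxElementaryAbelianSubgroups_of_le hA hB le_sup_left
    rw [← this]
    exact (le_sup_right : Subgroup.zpowers x ≤ A ⊔ Subgroup.zpowers x) (Subgroup.mem_zpowers x)
  exact ⟨le_antisymm ha (hb.trans hc), le_antisymm hb (hc.trans ha)⟩

end Cfsg.Agent.S0655
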