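import Mathlib
import Cfsg.Statements.S0656
import Cfsg.Agent.H5.SL2pSection
import Cfsg.Agent.S0593

set_option autoImplicit false
open Cfsg

namespace Cfsg.Agent.S0656

/-- For odd p, a faithful group on an elementary abelian p-group with no nontrivial normal p-subgroup in which some nontrivial p-element acts quadratically has a section isomorphic to SL(2, p). -/
theorem result {G : Type*} [Group G] [Finite G] {p : ℕ} [Fact p.Prime] (hp : p ≠ 2) (V H : Subgroup G) (hV : Cfsg.IsElementaryAbelian p V) (hHV : H ≤ Subgroup.normalizer (V : Set G)) (hf : H ⊓ Subgroup.centralizer (V : Set G) = ⊥) (hO : Cfsg.pCore p ↥H = ⊥) (x : G) (hxH : x ∈ H) (hx1 : x ≠ 1) (hxp : ∃ k : ℕ, orderOf x = p ^ k) (hq : ⁅⁅V, Subgroup.zpowers x⁆, Subgroup.zpowers x⁆ = ⊥) : ∃ (K L : Subgroup G) (hL : (L.subgroupOf K).Normal), K ≤ H ∧ Nonempty ((K ⧸ L.subgroupOf K) ≃* Matrix.SpecialLinearGroup (Fin 2)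 (ZMod p)) := by
  obtain ⟨n, θ, ρ₀, hρ₀⟩ := Cfsg.H5.Lin.exists_rep V H hV hHV
  have hfaith : ∀ h : H, ρ₀ h = 1 → h = 1 := by
    intro h hh
    have h1 := (Cfsg.H5.Lin.rep_eq_one_iff θ ρ₀ hρ₀ hHV h).1 hh
    have h2 : (h : G) ∈ H ⊓ Subgroup.centralizer (V : Set G) := ⟨h.2, h1⟩
    rw [hf, Subgroup.mem_bot] at h2
    exact Subtype.ext h2
  have hA₀ : (ρ₀ ⟨x, hxH⟩ - 1) * (ρ₀ ⟨x, hxH⟩ - 1) = 0 :=
    Cfsg.H5.Lin.rep_quadratic θ ρ₀ hρ₀ hHV ⟨x, hxH⟩ (Cfsg.Agent.S0593.quad_elementwise hq)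
  have hna : (⟨x, hxH⟩ : H) ∉ Cfsg.pCore p H := by
    rw [hO, Subgroup.mem_bot]
    intro h
    exact hx1 (congrArg Subtype.val h)
  have hsec := Cfsg.H5.SL2p.section_of_quadratic hp n ρ₀ hfaith ⟨x, hxH⟩ hA₀ hna
  exact Cfsg.H5.SL2p.section_of_hasSectionP H hsec

end Cfsg.Agent.S0656
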