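import Mathlib
import Cfsg.Statements.S0657
import Cfsg.Agent.H5.SL2pStable
import Cfsg.Agent.Lib.Helper10.PComponent

set_option autoImplicit false
open Cfsg

namespace Cfsg.Agent.S0657

/-- For odd p, a group that fails to be p-stable modulo its largest normal subgroup of order prime to p, and whose upper p-series does not stop there, has a section isomorphic to SL(2, p). -/
theorem result {G : Type*} [Group G] [Finite G] {p : ℕ} [Fact p.Prime] (hp : p ≠ 2) (hO : Cfsg.pPrimeCore p G < Cfsg.pPrimePCore p G) (hns : ¬ Cfsg.IsPStable p (G ⧸ Cfsg.pPrimeCore p G)) : ∃ (K L : Subgroup G) (hL : (L.subgroupOf K).Normal), K ≤ ⊤ ∧ Nonempty ((K ⧸ L.subgroupOf K) ≃* Matrix.SpecialLinearGroup (Fin 2) (ZMod p)) := by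
  apply Cfsg.H5.SL2p.section_of_hasSectionP_top
  by_contra hno
  apply hns
  have hpp : p.Prime := Fact.out
  have hX : ¬ Cfsg.H5.SL2p.HasSectionP p (G ⧸ Cfsg.pPrimeCore p G) := fun h =>
    hno (Cfsg.H5.SL2p.hasSectionP_of_surjective (QuotientGroup.mk' _)
      (QuotientGroup.mk'_surjective _) h)
  have hbot := Cfsg.Agent.Lib.Helper10.pPrimeCore_quotient_eq_bot (G := G) p
  refine ⟨hpp.odd_of_ne_two hp, ?_, ?_⟩
  · intro h0
    apply hO.ne
    unfold Cfsg.pPrimePCore
    rw [h0, MonoidHom.comap_bot, QuotientGroup.ker_mk']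
  · intro A P hA hP hAP hPle hPn hquad
    rw [Cfsg.H5.PSt.img_le_iff]
    intro a haA haN
    rw [hbot, bot_sup_eq] at hPn
    haveI := hPn
    refine Cfsg.H5.SL2p.inOp_of_not_hasSectionP hp hX P hP a ?_
    rw [eq_bot_iff, ← hquad]
    exact Subgroup.commutator_mono (Subgroup.commutator_mono le_rfl
      ((Subgroup.zpowers_le).2 haA)) ((Subgroup.zpowers_le).2 haA)

end Cfsg.Agent.S0657
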