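import Mathlib
import Cfsg.Statements.S0661
import Cfsg.Agent.H5.Cores
import Cfsg.Agent.Lib.Helper17.Coprime
import Cfsg.Agent.Lib.Helper16.SPE2

set_option autoImplicit false
open Cfsg

namespace Cfsg.Agent.S0661

open Cfsg.H5 Subgroup

theorem eq_one_of_coprime_of_mem_pgroup {G : Type*} [Group G] {p : ℕ} {g : G}
    (hg : (orderOf g).Coprime p) {Q : Subgroup G} (hQ : IsPGroup p Q) (hgQ : g ∈ Q) : g = 1 := by
  obtain ⟨k, hk⟩ := hQ ⟨g, hgQ⟩
  have h2 : orderOf g ∣ p ^ k := by
    apply orderOf_dvd_of_pow_eq_one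
    simpa using congrArg Subtype.val hk
  have h3 : orderOf g = 1 := Nat.Coprime.eq_one_of_dvd (Nat.Coprime.pow_right k hg) h2
  exact orderOf_eq_one_iff.mp h3

theorem coprime_orderOf_of_mem {G : Type*} [Group G] [Finite G] {p : ℕ} {X : Subgroup G}
    (hX : (Nat.card X).Coprime p) {g : G} (hg : g ∈ X) : (orderOf g).Coprime p :=
  Nat.Coprime.coprime_dvd_left (Subgroup.orderOf_dvd_natCard X hg) hX

/-- If, modulo the largest normal subgroup of order prime to p, the largest normal p-subgroup contains its centralizer, then for every p-subgroup P the p'-core of N_G(P) is just O_p'(G) ∩ N_G(P). -/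
theorem result {G : Type*} [Group G] [Finite G] {p : ℕ} [Fact p.Prime] (hc : Subgroup.centralizer (Cfsg.pCore p (G ⧸ Cfsg.pPrimeCore p G) : Set (G ⧸ Cfsg.pPrimeCore p G)) ≤ Cfsg.pCore p (G ⧸ Cfsg.pPrimeCore p G)) (P : Subgroup G) (hP : IsPGroup p P) : (Cfsg.pPrimeCore p ↥(Subgroup.normalizer (P : Set G))).map (Subgroup.normalizer (P : Set G)).subtype = Cfsg.pPrimeCore p G ⊓ Subgroup.normalizer (P : Set G) := by
  set N := Subgroup.normalizer (P : Set G) with hN
  have hRn : (pPrimeCore p G).Normal := pPrimeCore_normal p G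
  have hRcop : (Nat.card (pPrimeCore p G)).Coprime p := coprime_card_pPrimeCore p G
  set X := (pPrimeCore p ↥N).map N.subtype with hX
  have hXcop : (Nat.card X).Coprime p := by
    rw [hX, Subgroup.card_map_of_injective N.subtype_injective]
    exact coprime_card_pPrimeCore p N
  have hPN : P ≤ N := Subgroup.le_normalizer
  apply le_antisymm
  · refine le_inf ?_ (Subgroup.map_subtype_le _)
    intro x hx
    have hxN : x ∈ N := Subgroup.map_subtype_le _ hx
    have hXnorm : ∀ n ∈ N, ∀ y ∈ X, n * y * n⁻¹ ∈ X := by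
      rintro n hn _ ⟨y, hy, rfl⟩
      exact ⟨⟨n, hn⟩ * y * ⟨n, hn⟩⁻¹, (pPrimeCore_normal p N).conj_mem y hy ⟨n, hn⟩, rfl⟩
    have hXP : ∀ y, y ∈ X → y ∈ P → y = 1 := fun y hyX hyP =>
      eq_one_of_coprime_of_mem_pgroup (coprime_orderOf_of_mem hXcop hyX) hP hyP
    -- x commutes with P
    have hxP : ∀ y ∈ P, x * y = y * x := by
      intro y hy
      have h1 : x * y * x⁻¹ * y⁻¹ ∈ X := by
        have := hXnorm y (hPN hy) x⁻¹ (inv_mem hx)
        have h2 := mul_mem hx this
        convert h2 using 1
        group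
      have h2 : x * y * x⁻¹ * y⁻¹ ∈ P := by
        have := (mem_set_normalizer_iff.mp hxN y).mp hy
        exact mul_mem this (inv_mem hy)
      have h3 := hXP _ h1 h2
      calc x * y = (x * y * x⁻¹ * y⁻¹) * (y * x) := by group
        _ = y * x := by rw [h3, one_mul]
    set π := QuotientGroup.mk' (pPrimeCore p G) with hπ
    set Qb := pCore p (G ⧸ pPrimeCore p G) with hQb
    have hQbn : Qb.Normal := pCore_normal p _
    have hQbp : IsPGroup p Qb := pCore_isPGroup p _
    have hB : IsPGroup p (P.map π) := hP.map π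
    have hxcop : (orderOf x).Coprime p := coprime_orderOf_of_mem hXcop hx
    have ha : (orderOf (π x)).Coprime p :=
      Nat.Coprime.coprime_dvd_left (orderOf_map_dvd π x) hxcop
    have hab : ∀ b ∈ P.map π, π x * b = b * π x := by
      rintro _ ⟨y, hy, rfl⟩
      rw [← map_mul, ← map_mul, hxP y hy]
    have hcent : ∀ z ∈ Qb, π x * z = z * π x := by
      apply Cfsg.Agent.Lib.Helper17.thompson_AxB hB ha hab (Nat.card Qb) Qb rfl hQbp
      · rw [Subgroup.normalizer_eq_top_iff.mpr hQbn]; trivial
      · rw [Subgroup.normalizer_eq_top_iff.mpr hQbn]; exact le_top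
      · intro z hz hzB
        have hzn : z ∈ Subgroup.normalizer ((P.map π : Subgroup (G ⧸ pPrimeCore p G)) : Set (G ⧸ pPrimeCore p G)) := by
          rw [mem_set_normalizer_iff]
          intro b
          have key : ∀ b ∈ P.map π, z * b * z⁻¹ = b := by
            intro b hb
            have := hzB b hb
            rw [← this, mul_assoc, mul_inv_cancel, mul_one]
          constructor
          · intro hb
            rw [key b hb]; exact hb
          · intro hb
            have h1 := key _ hb
            have h2 : z * (z * b * z⁻¹) * z⁻¹ = z * b * z⁻¹ := h1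
            have h3 : z * b * z⁻¹ = b := by
              calc z * b * z⁻¹ = z⁻¹ * (z * (z * b * z⁻¹) * z⁻¹) * z := by group
                _ = z⁻¹ * (z * b * z⁻¹) * z := by rw [h2]
                _ = b := by group
            rw [← h3]; exact hb
        obtain ⟨y, hyN, rfl⟩ := Cfsg.Agent.Lib.Helper16.normalizer_map_mk_le P (pPrimeCore p G) hP hRcop hzn
        have h1 : x * y * x⁻¹ * y⁻¹ ∈ X := by
          have := hXnorm y hyN x⁻¹ (inv_mem hx)
          have h2 := mul_mem hx this
          convert h2 using 1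
          group
        have h2 : π (x * y * x⁻¹ * y⁻¹) ∈ Qb := by
          simp only [map_mul, map_inv]
          exact mul_mem (hQbn.conj_mem _ hz _) (inv_mem hz)
        have h3 : (orderOf (π (x * y * x⁻¹ * y⁻¹))).Coprime p :=
          Nat.Coprime.coprime_dvd_left (orderOf_map_dvd π _) (coprime_orderOf_of_mem hXcop h1)
        have h4 := eq_one_of_coprime_of_mem_pgroup h3 hQbp h2
        simp only [map_mul, map_inv] at h4
        calc π x * π y = (π x * π y * (π x)⁻¹ * (π y)⁻¹) * (π y * π x) := by group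
          _ = π y * π x := by rw [h4, one_mul]
    have hxc : π x ∈ Subgroup.centralizer (Qb : Set (G ⧸ pPrimeCore p G)) := by
      rw [Subgroup.mem_centralizer_iff]
      intro z hz
      exact (hcent z hz).symm
    have h5 := eq_one_of_coprime_of_mem_pgroup ha hQbp (hc hxc)
    rw [hπ, QuotientGroup.mk'_apply, QuotientGroup.eq_one_iff] at h5
    exact h5
  · rintro g ⟨hgR, hgN⟩
    refine ⟨⟨g, hgN⟩, ?_, rfl⟩
    have hle : (pPrimeCore p G).subgroupOf N ≤ pPrimeCore p ↥N := by
      apply le_pPrimeCore inferInstance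
      have h1 : Nat.card ((pPrimeCore p G).subgroupOf N) ∣ Nat.card (pPrimeCore p G) := by
        rw [← Subgroup.inf_subgroupOf_right,
          Nat.card_congr (Subgroup.subgroupOfEquivOfLe (inf_le_right : pPrimeCore p G ⊓ N ≤ N)).toEquiv]
        exact Subgroup.card_dvd_of_le inf_le_left
      exact Nat.Coprime.coprime_dvd_left h1 hRcop
    exact hle hgR

end Cfsg.Agent.S0661
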