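import Mathlib
import Cfsg.Statements.S0663
import Cfsg.Agent.H5.NilAct

set_option autoImplicit false
open Cfsg

namespace Cfsg.Agent.S0663

open Subgroup Cfsg.H5
open scoped commutatorElement

variable {L : Type*} [Group L]

theorem card_mul_relIndex' {H K : Subgroup L} (h : H ≤ K) :
    Nat.card H * H.relIndex K = Nat.card K := by
  have := Subgroup.relIndex_mul_relIndex ⊥ H K bot_le h
  rwa [Subgroup.relIndex_bot_left, Subgroup.relIndex_bot_left] at this

theorem iter_basic (N G : Subgroup L) (hGN : G ≤ normalizer (N : Set L)) :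
    ∀ i, iterCommutator N G i ≤ N ∧ G ≤ normalizer (iterCommutator N G i : Set L) ∧
      iterCommutator N G (i + 1) ≤ iterCommutator N G i := by
  intro i
  induction i with
  | zero =>
    exact ⟨le_rfl, hGN, Subgroup.le_normalizer_iff_commutator_le_left.mp hGN⟩
  | succ i ih =>
    obtain ⟨h1, h2, h3⟩ := ih
    have h4 : G ≤ normalizer ((iterCommutator N G (i + 1) : Subgroup L) : Set L) :=
      le_normalizer_commutator h2
    exact ⟨h3.trans h1, h4, Subgroup.le_normalizer_iff_commutator_le_left.mp h4⟩

theorem iter_antitone (N G : Subgroup L) (hGN : G ≤ normalizer (N : Set L)) :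
    Antitone (iterCommutator N G) :=
  antitone_nat_of_succ_le fun i => (iter_basic N G hGN i).2.2

theorem iter_lt [Finite L] {p : ℕ} [Fact p.Prime] (N G : Subgroup L) (hN : IsPGroup p N)
    (hG : IsPGroup p G) (hGN : G ≤ normalizer (N : Set L)) (i : ℕ)
    (hi : iterCommutator N G i ≠ ⊥) : iterCommutator N G (i + 1) < iterCommutator N G i := by
  obtain ⟨h1, h2, h3⟩ := iter_basic N G hGN i
  refine lt_of_le_of_ne h3 ?_
  intro h
  apply hi
  apply eq_bot_of_le_commutator_pgroups' (hN.to_le h1) hG h2
  exact h.ge

/-- the chain hypothesis -/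
def CH (p n : ℕ) (N G : Subgroup L) : Prop :=
  ∀ i, i ≤ n → Nat.card (iterCommutator N G i) = p ^ (n - i)

theorem pow_lt_of_lt [Finite L] {p : ℕ} [hp : Fact p.Prime] {A B : Subgroup L} (hB : IsPGroup p B)
    (hAB : A < B) : Nat.card A * p ≤ Nat.card B := by
  have h1 := card_mul_relIndex' hAB.le
  rw [← h1]
  apply Nat.mul_le_mul_left
  -- relIndex is a nontrivial power of p
  have h2 : A.relIndex B ≠ 1 := by
    intro h
    exact hAB.not_ge (Subgroup.relIndex_eq_one.mp h)
  obtain ⟨k, hk⟩ := hB.exists_card_eq
  have h3 : A.relIndex B ∣ p ^ k := hk ▸ Subgroup.relIndex_dvd_card A B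
  obtain ⟨j, -, hj⟩ := (Nat.dvd_prime_pow hp.out).mp h3
  rw [hj] at h2 ⊢
  rcases j with _ | j
  · exact absurd (pow_zero p) h2
  · rw [pow_succ]
    exact Nat.le_mul_of_pos_left _ (pow_pos hp.out.pos j)

theorem ch_of_uniserial [Finite L] {p : ℕ} [Fact p.Prime] (N G : Subgroup L)
    (hGN : G ≤ normalizer (N : Set L)) (n : ℕ) (hn : Nat.card N = p ^ n)
    (hU : ∀ H : Subgroup L, H ≤ N → G ≤ Subgroup.normalizer (H : Set L) → H ≠ ⊥ →
      (⁅H, G⁆).relIndex H = p) : CH p n N G := by
  have hp : p.Prime := Fact.out
  intro i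
  induction i with
  | zero => intro _; exact hn
  | succ i ih =>
    intro hi
    have hi' : i ≤ n := by omega
    have hc := ih hi'
    obtain ⟨h1, h2, h3⟩ := iter_basic N G hGN i
    have hne : iterCommutator N G i ≠ ⊥ := by
      intro h
      rw [h, Subgroup.card_bot] at hc
      have : 1 < p ^ (n - i) := Nat.one_lt_pow (by omega) hp.one_lt
      omega
    have hidx := hU _ h1 h2 hne
    have hmul := card_mul_relIndex' h3
    have e : iterCommutator N G (i + 1) = ⁅iterCommutator N G i, G⁆ := rfl
    rw [e] at hmul ⊢
    rw [hidx, hc] at hmul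
    have : n - i = (n - (i + 1)) + 1 := by omega
    rw [this, pow_succ] at hmul
    exact Nat.eq_of_mul_eq_mul_right hp.pos hmul

theorem ch_of_ne_bot [Finite L] {p : ℕ} [Fact p.Prime] (N G : Subgroup L) (hN : IsPGroup p N)
    (hG : IsPGroup p G)
    (hGN : G ≤ normalizer (N : Set L)) (n : ℕ) (hn : Nat.card N = p ^ n)
    (h : iterCommutator N G (n - 1) ≠ ⊥ ∨ n = 0) : CH p n N G := by
  have hp : p.Prime := Fact.out
  rcases h with h | h
  · have hanti := iter_antitone N G hGN
    by_cases hn0 : n = 0
    · subst hn0
      intro i hi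
      have : i = 0 := by omega
      subst this
      exact hn
    -- c_i = card N_i * p^i is non-increasing for i ≤ n - 1
    have hne : ∀ i, i ≤ n - 1 → iterCommutator N G i ≠ ⊥ := by
      intro i hi hbot
      apply h
      rw [eq_bot_iff, ← hbot]
      exact hanti hi
    have hstep : ∀ i, i + 1 ≤ n - 1 →
        Nat.card (iterCommutator N G (i + 1)) * p ^ (i + 1) ≤ Nat.card (iterCommutator N G i) * p ^ i := by
      intro i hi
      have hlt := iter_lt N G hN hG hGN i (hne i (by omega))
      have := pow_lt_of_lt (hN.to_le (iter_basic N G hGN i).1) hlt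
      calc Nat.card (iterCommutator N G (i + 1)) * p ^ (i + 1)
          = (Nat.card (iterCommutator N G (i + 1)) * p) * p ^ i := by rw [pow_succ]; ring
        _ ≤ Nat.card (iterCommutator N G i) * p ^ i := Nat.mul_le_mul_right _ this
    have hmono : ∀ i j, i ≤ j → j ≤ n - 1 →
        Nat.card (iterCommutator N G j) * p ^ j ≤ Nat.card (iterCommutator N G i) * p ^ i := by
      intro i j hij
      induction j, hij using Nat.le_induction with
      | base => intro _; exact le_rfl
      | succ j hij ih =>
        intro hj
        exact (hstep j hj).trans (ih (by omega))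
    have hlast : p ^ n ≤ Nat.card (iterCommutator N G (n - 1)) * p ^ (n - 1) := by
      have hge : p ≤ Nat.card (iterCommutator N G (n - 1)) := by
        have hPg : IsPGroup p (iterCommutator N G (n - 1)) := hN.to_le (iter_basic N G hGN _).1
        obtain ⟨k, hk⟩ := hPg.exists_card_eq
        rw [hk]
        rcases k with _ | k
        · exfalso
          apply h
          rw [pow_zero] at hk
          exact (Subgroup.card_eq_one).mp hk
        · rw [pow_succ]
          exact Nat.le_mul_of_pos_left _ (pow_pos hp.pos k)
      calc p ^ n = p * p ^ (n - 1) := by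
            rw [← pow_succ']; congr 1; omega
        _ ≤ _ := Nat.mul_le_mul_right _ hge
    have hfirst : Nat.card (iterCommutator N G 0) * p ^ 0 = p ^ n := by
      rw [pow_zero, mul_one]; exact hn
    have hall : ∀ i, i ≤ n - 1 → Nat.card (iterCommutator N G i) * p ^ i = p ^ n := by
      intro i hi
      apply le_antisymm
      · rw [← hfirst]; exact hmono 0 i (Nat.zero_le _) hi
      · exact hlast.trans (hmono i (n - 1) hi le_rfl)
    intro i hi
    by_cases hi' : i ≤ n - 1
    · have := hall i hi'
      have e : p ^ n = p ^ (n - i) * p ^ i := by rw [← pow_add]; congr 1; omega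
      rw [e] at this
      exact Nat.eq_of_mul_eq_mul_right (pow_pos hp.pos i) this
    · have hin : i = n := by omega
      subst hin
      rw [Nat.sub_self, pow_zero]
      -- N_n < N_{n-1} of order p
      have h1 : Nat.card (iterCommutator N G (i - 1)) = p := by
        have := hall (i - 1) le_rfl
        have e : p ^ i = p * p ^ (i - 1) := by rw [← pow_succ']; congr 1; omega
        rw [e] at this
        exact Nat.eq_of_mul_eq_mul_right (pow_pos hp.pos _) this
      have hlt := iter_lt N G hN hG hGN (i - 1) h
      have e2 : i - 1 + 1 = i := by omega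
      rw [e2] at hlt
      have h2 := pow_lt_of_lt (hN.to_le (iter_basic N G hGN (i - 1)).1) hlt
      rw [h1] at h2
      have h3 : Nat.card (iterCommutator N G i) ≤ 1 := by
        by_contra hcon
        push Not at hcon
        have : 2 * p ≤ Nat.card (iterCommutator N G i) * p := Nat.mul_le_mul_right _ hcon
        have := hp.pos
        omega
      have h4 : 0 < Nat.card (iterCommutator N G i) := Nat.card_pos
      omega
  · subst h
    intro i hi
    have : i = 0 := by omega
    subst this
    exact hn

theorem eq_of_lt_of_le_card [Finite L] {p : ℕ} [hp : Fact p.Prime] {A B C : Subgroup L} (k : ℕ)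
    (hC : IsPGroup p C) (hAB : A < B) (hBC : B ≤ C) (hA : Nat.card A = p ^ k)
    (hC' : Nat.card C = p ^ (k + 1)) : B = C := by
  apply Subgroup.eq_of_le_of_card_ge hBC
  have := pow_lt_of_lt (hC.to_le hBC) hAB
  rw [hC', pow_succ, ← hA]
  exact this

theorem eq_of_le_of_lt_card [Finite L] {p : ℕ} [hp : Fact p.Prime] {A B C : Subgroup L} (k : ℕ)
    (hC : IsPGroup p C) (hAB : A ≤ B) (hBC : B < C) (hA : Nat.card A = p ^ k)
    (hC' : Nat.card C = p ^ (k + 1)) : B = A := by
  symm
  apply Subgroup.eq_of_le_of_card_ge hAB
  have := pow_lt_of_lt hC hBC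
  rw [hC', pow_succ] at this
  rw [hA]
  exact Nat.le_of_mul_le_mul_right this hp.out.pos

/-- Under the chain hypothesis, all terms are normalized by `N ⊔ G` and `[N_i, N ⊔ G] ≤ N_{i+1}`. -/
theorem normal_of_ch [Finite L] {p : ℕ} [Fact p.Prime] (N G : Subgroup L) (hN : IsPGroup p N)
    (hG : IsPGroup p G) (hGN : G ≤ normalizer (N : Set L)) (n : ℕ) (hch : CH p n N G) :
    ∀ i, N ⊔ G ≤ normalizer (iterCommutator N G i : Set L) ∧
      ⁅iterCommutator N G i, N ⊔ G⁆ ≤ iterCommutator N G (i + 1) := by
  have hp : p.Prime := Fact.out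
  have hΓ : IsPGroup p (N ⊔ G : Subgroup L) := hN.to_sup_of_normal_left' hG hGN
  have key : ∀ i, N ⊔ G ≤ normalizer (iterCommutator N G i : Set L) →
      ⁅iterCommutator N G i, N ⊔ G⁆ = iterCommutator N G (i + 1) := by
    intro i hi
    by_cases hbot : iterCommutator N G i = ⊥
    · have e : iterCommutator N G (i + 1) = ⁅iterCommutator N G i, G⁆ := rfl
      rw [e, hbot, Subgroup.commutator_bot_left, Subgroup.commutator_bot_left]
    · have hle : ⁅iterCommutator N G i, N ⊔ G⁆ ≤ iterCommutator N G i :=
        Subgroup.le_normalizer_iff_commutator_le_left.mp hi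
      have hlt : ⁅iterCommutator N G i, N ⊔ G⁆ < iterCommutator N G i := by
        refine lt_of_le_of_ne hle ?_
        intro h
        apply hbot
        exact eq_bot_of_le_commutator_pgroups' (hN.to_le (iter_basic N G hGN i).1) hΓ hi h.ge
      have hge : iterCommutator N G (i + 1) ≤ ⁅iterCommutator N G i, N ⊔ G⁆ :=
        Subgroup.commutator_mono le_rfl le_sup_right
      have hin : i < n := by
        by_contra hcon
        push Not at hcon
        have hnle : iterCommutator N G i ≤ iterCommutator N G n := iter_antitone N G hGN hcon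
        have hc := hch n le_rfl
        rw [Nat.sub_self, pow_zero] at hc
        have := (Subgroup.card_eq_one).mp hc
        rw [this, le_bot_iff] at hnle
        exact hbot hnle
      have hc1 := hch (i + 1) (by omega)
      have hc2 := hch i (by omega)
      have e : n - i = (n - (i + 1)) + 1 := by omega
      rw [e] at hc2
      exact eq_of_le_of_lt_card (n - (i + 1)) (hN.to_le (iter_basic N G hGN i).1) hge hlt hc1 hc2
  have hnorm : ∀ i, N ⊔ G ≤ normalizer (iterCommutator N G i : Set L) := by
    intro i
    induction i with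
    | zero => exact sup_le le_normalizer hGN
    | succ i ih =>
      rw [← key i ih]
      exact le_normalizer_commutator ih
  intro i
  exact ⟨hnorm i, (key i (hnorm i)).le⟩

theorem comm_sup_le [Finite L] (N G H A B : Subgroup L)
    (hGH : G ≤ normalizer (H : Set L))
    (hHB : H ≤ normalizer (B : Set L)) (hAB : A ≤ normalizer (B : Set L))
    (hAH : ⁅A, H⁆ ≤ B) (hAG : ⁅A, G⁆ ≤ B) :
    ⁅H ⊔ A, G⁆ ≤ H ⊔ B := by
  set T := H ⊔ B with hT
  have hHT : H ≤ T := le_sup_left
  have hBT : B ≤ T := le_sup_right
  have hHnT : H ≤ normalizer (T : Set L) := by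
    intro h hh
    have h1 : h ∈ normalizer (H : Set L) := le_normalizer hh
    have h2 : h ∈ normalizer (B : Set L) := hHB hh
    apply mem_normalizer_of_map_conj_eq
    rw [hT, Subgroup.map_sup, map_conj_eq_of_mem_normalizer h1, map_conj_eq_of_mem_normalizer h2]
  have hAnT : A ≤ normalizer (T : Set L) := by
    intro z hz
    apply mem_normalizer_of_map_conj_eq
    apply Subgroup.eq_of_le_of_card_ge
    · rw [hT, Subgroup.map_sup, map_conj_eq_of_mem_normalizer (hAB hz)]
      apply sup_le _ le_sup_right
      rintro _ ⟨h, hh, rfl⟩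
      show z * h * z⁻¹ ∈ H ⊔ B
      have h1 : ⁅z, h⁆ ∈ B := hAH (commutator_mem_commutator hz hh)
      have : z * h * z⁻¹ = ⁅z, h⁆ * h := by rw [commutatorElement_def]; group
      rw [this]
      exact mul_mem (hBT h1) (hHT hh)
    · rw [Subgroup.card_map_of_injective (MulAut.conj z).injective]
  rw [Subgroup.commutator_le]
  intro x hx g hg
  have key : x ∈ normalizer (T : Set L) ∧ ∀ g ∈ G, ⁅x, g⁆ ∈ T := by
    rw [Subgroup.sup_eq_closure] at hx
    induction hx using Subgroup.closure_induction with
    | mem y hy =>
      rcases hy with hy | hy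
      · refine ⟨hHnT hy, fun g hg => hHT ?_⟩
        have h1 : g * y⁻¹ * g⁻¹ ∈ H := (mem_set_normalizer_iff.mp (hGH hg) y⁻¹).mp (inv_mem hy)
        have : ⁅y, g⁆ = y * (g * y⁻¹ * g⁻¹) := by rw [commutatorElement_def]; group
        rw [this]
        exact mul_mem hy h1
      · exact ⟨hAnT hy, fun g hg => hBT (hAG (commutator_mem_commutator hy hg))⟩
    | one =>
      refine ⟨one_mem _, fun g _ => ?_⟩
      rw [commutatorElement_one_left]; exact one_mem _
    | mul u v _ _ hu hv =>
      refine ⟨mul_mem hu.1 hv.1, fun g hg => ?_⟩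
      have : ⁅u * v, g⁆ = u * ⁅v, g⁆ * u⁻¹ * ⁅u, g⁆ := by
        simp only [commutatorElement_def]; group
      rw [this]
      exact mul_mem ((mem_set_normalizer_iff.mp hu.1 _).mp (hv.2 g hg)) (hu.2 g hg)
    | inv u _ hu =>
      refine ⟨inv_mem hu.1, fun g hg => ?_⟩
      have : ⁅u⁻¹, g⁆ = u⁻¹ * (⁅u, g⁆)⁻¹ * u⁻¹⁻¹ := by
        simp only [commutatorElement_def]; group
      rw [this]
      exact (mem_set_normalizer_iff.mp (inv_mem hu.1) _).mp (inv_mem (hu.2 g hg))
  exact key.2 g hg

/-- Under the chain hypothesis, every `G`-invariant subgroup is a term of the chain. -/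
theorem eq_iter_of_ch [Finite L] {p : ℕ} [Fact p.Prime] (N G : Subgroup L) (hN : IsPGroup p N)
    (hG : IsPGroup p G) (hGN : G ≤ normalizer (N : Set L)) (n : ℕ) (hch : CH p n N G)
    (H : Subgroup L) (hHN : H ≤ N) (hGH : G ≤ normalizer (H : Set L)) :
    ∃ i ≤ n, H = iterCommutator N G i := by
  have hp : p.Prime := Fact.out
  have hanti := iter_antitone N G hGN
  have hnc := normal_of_ch N G hN hG hGN n hch
  have hbotn : iterCommutator N G n = ⊥ := by
    have hc := hch n le_rfl
    rw [Nat.sub_self, pow_zero] at hc
    exact (Subgroup.card_eq_one).mp hc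
  have main : ∀ k i, n - i = k → i ≤ n → H ≤ iterCommutator N G i →
      ∃ j ≤ n, H = iterCommutator N G j := by
    intro k
    induction k with
    | zero =>
      intro i hk hi hH
      have hin : i = n := by omega
      subst hin
      refine ⟨i, le_rfl, ?_⟩
      rw [hbotn] at hH ⊢
      exact le_bot_iff.mp hH
    | succ k ih =>
      intro i hk hi hH
      by_cases hH' : H ≤ iterCommutator N G (i + 1)
      · exact ih (i + 1) (by omega) (by omega) hH'
      · refine ⟨i, hi, ?_⟩
        have hsup : ∀ j, i + 1 ≤ j → H ⊔ iterCommutator N G j = iterCommutator N G i := by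
          intro j hj
          induction j, hj using Nat.le_induction with
          | base =>
            have hlt : iterCommutator N G (i + 1) < H ⊔ iterCommutator N G (i + 1) := by
              refine lt_of_le_of_ne le_sup_right ?_
              intro h
              apply hH'
              rw [h]; exact le_sup_left
            have hle : H ⊔ iterCommutator N G (i + 1) ≤ iterCommutator N G i :=
              sup_le hH (hanti (Nat.le_succ i))
            have hc1 := hch (i + 1) (by omega)
            have hc2 := hch i hi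
            have e : n - i = (n - (i + 1)) + 1 := by omega
            rw [e] at hc2
            exact eq_of_lt_of_le_card (n - (i + 1)) (hN.to_le (iter_basic N G hGN i).1) hlt hle hc1 hc2
          | succ j hj ihj =>
            apply le_antisymm
            · exact sup_le hH (hanti (by omega))
            · have hstep := comm_sup_le N G H (iterCommutator N G j) (iterCommutator N G (j + 1)) hGH
                ((hHN.trans le_sup_left).trans (hnc (j + 1)).1)
                (((iter_basic N G hGN j).1.trans le_sup_left).trans (hnc (j + 1)).1)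
                ((Subgroup.commutator_mono le_rfl (hHN.trans le_sup_left)).trans (hnc j).2)
                le_rfl
              rw [ihj] at hstep
              have h1 : iterCommutator N G j ≤ H ⊔ iterCommutator N G (j + 1) :=
                (hanti hj).trans hstep
              rw [← ihj]
              exact sup_le le_sup_left h1
        have := hsup n (by omega)
        rw [hbotn, sup_bot_eq] at this
        exact this
  exact main (n - 0) 0 rfl (Nat.zero_le n) hHN

/-- A p-group acts uniserially on a p-group N of order p^n exactly when the iterated commutator chain from N has length n; in that case the chain terms are all the invariant subgroups of N and they are normal in N. -/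
theorem result {L : Type*} [Group L] [Finite L] {p : ℕ} [Fact p.Prime] (N G : Subgroup L) (hN : IsPGroup p N) (hG : IsPGroup p G) (hGN : G ≤ Subgroup.normalizer (N : Set L)) (n : ℕ) (hn : Nat.card N = p ^ n) : ((∀ H : Subgroup L, H ≤ N → G ≤ Subgroup.normalizer (H : Set L) → H ≠ ⊥ → (⁅H, G⁆).relIndex H = p) ↔ Cfsg.iterCommutator N G (n - 1) ≠ ⊥ ∨ n = 0) ∧ ((∀ H : Subgroup L, H ≤ N → G ≤ Subgroup.normalizer (H : Set L) → H ≠ ⊥ → (⁅H, G⁆).relIndex H = p) → ∀ H : Subgroup L, H ≤ N → G ≤ Subgroup.normalizer (H : Set L) → (∃ i ≤ n, H = Cfsg.iterCommutator N G i) ∧ N ≤ Subgroup.normalizer (H : Set L)) := by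
  have hp : p.Prime := Fact.out
  refine ⟨⟨?_, ?_⟩, ?_⟩
  · intro hU
    have hch := ch_of_uniserial N G hGN n hn hU
    by_cases hn0 : n = 0
    · right; exact hn0
    · left
      intro hbot
      have hc := hch (n - 1) (Nat.sub_le n 1)
      rw [hbot, Subgroup.card_bot] at hc
      have : 1 < p ^ (n - (n - 1)) := Nat.one_lt_pow (by omega) hp.one_lt
      omega
  · intro h H hHN hGH hH1
    have hch := ch_of_ne_bot N G hN hG hGN n hn h
    obtain ⟨i, hi, rfl⟩ := eq_iter_of_ch N G hN hG hGN n hch H hHN hGH
    have hin : i < n := by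
      by_contra hcon
      have : i = n := by omega
      subst this
      have hc := hch i le_rfl
      rw [Nat.sub_self, pow_zero] at hc
      exact hH1 ((Subgroup.card_eq_one).mp hc)
    have hc1 := hch (i + 1) (by omega)
    have hc2 := hch i hi
    have hmul := card_mul_relIndex' (iter_basic N G hGN i).2.2
    have e : iterCommutator N G (i + 1) = ⁅iterCommutator N G i, G⁆ := rfl
    rw [hc1, hc2, e] at hmul
    have e2 : n - i = (n - (i + 1)) + 1 := by omega
    rw [e2, pow_succ] at hmul
    exact Nat.eq_of_mul_eq_mul_left (pow_pos hp.pos _) hmul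
  · intro hU H hHN hGH
    have hch := ch_of_uniserial N G hGN n hn hU
    obtain ⟨i, hi, rfl⟩ := eq_iter_of_ch N G hN hG hGN n hch H hHN hGH
    exact ⟨⟨i, hi, rfl⟩, le_sup_left.trans (normal_of_ch N G hN hG hGN n hch i).1⟩

end Cfsg.Agent.S0663
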