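import Mathlib
import Cfsg.Statements.S0666
import Cfsg.Agent.H5.FrobAct
import Cfsg.Agent.Lib.Helper18.FrobeniusThm

set_option autoImplicit false
open Cfsg

namespace Cfsg.Agent.S0666

open scoped IsMulCommutative

/-- conjugation action of a subgroup `F ≤ N_G(V)` on `V` -/
def conjHom {G : Type*} [Group G] (V F : Subgroup G)
    (hFV : F ≤ Subgroup.normalizer (V : Set G)) : ↥F →* MulAut ↥V where
  toFun g :=
    { toFun := fun v => ⟨(g : G) * v * (g : G)⁻¹,
        ((Subgroup.mem_normalizer_iff.mp (hFV g.2)) v).mp v.2⟩
      invFun := fun v => ⟨(g : G)⁻¹ * v * (g : G), by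
        have := ((Subgroup.mem_normalizer_iff.mp (hFV (F.inv_mem g.2))) v).mp v.2
        simpa using this⟩
      left_inv := fun v => by
        apply Subtype.ext
        show (g : G)⁻¹ * ((g : G) * v * (g : G)⁻¹) * (g : G) = v
        group
      right_inv := fun v => by
        apply Subtype.ext
        show (g : G) * ((g : G)⁻¹ * v * (g : G)) * (g : G)⁻¹ = v
        group
      map_mul' := fun v w => by
        apply Subtype.ext
        show (g : G) * ((v : G) * w) * (g : G)⁻¹ = ((g : G) * v * (g : G)⁻¹) * ((g : G) * w * (g : G)⁻¹)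
        group }
  map_one' := by
    apply MulEquiv.ext
    intro v
    apply Subtype.ext
    show ((1 : F) : G) * v * ((1 : F) : G)⁻¹ = v
    simp
  map_mul' := fun g h => by
    apply MulEquiv.ext
    intro v
    apply Subtype.ext
    show ((g * h : F) : G) * v * ((g * h : F) : G)⁻¹ = (g : G) * ((h : G) * v * (h : G)⁻¹) * (g : G)⁻¹
    rw [Subgroup.coe_mul]
    group

theorem conjHom_apply {G : Type*} [Group G] (V F : Subgroup G)
    (hFV : F ≤ Subgroup.normalizer (V : Set G)) (g : F) (v : V) :
    ((conjHom V F hFV g v : V) : G) = (g : G) * v * (g : G)⁻¹ := rfl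

/-- A Frobenius group acting on a nontrivial abelian group of order prime to that of its kernel, with the kernel acting without nontrivial fixed points, has a complement with a nontrivial fixed point. -/
theorem result {G : Type*} [Group G] [Finite G] (V F : Subgroup G) (hVab : IsMulCommutative V) (hV1 : V ≠ ⊥) (hFV : F ≤ Subgroup.normalizer (V : Set G)) (H : Subgroup ↥F) (hH : Cfsg.IsFrobeniusComplement H) (hcop : (Nat.card V).Coprime (Nat.card (Cfsg.frobeniusKernel H))) (hCK : V ⊓ Subgroup.centralizer (Subtype.val '' Cfsg.frobeniusKernel H : Set G) = ⊥) : V ⊓ Subgroup.centralizer ((H.map F.subtype : Subgroup G) : Set G) ≠ ⊥ := by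
  intro hCH
  obtain ⟨N, hNeq, hNn, hcompl⟩ :=
    Cfsg.Agent.Lib.Helper18.frobenius_kernel_subgroup H hH
  have := hVab
  have hcardN : Nat.card N = Nat.card (Cfsg.frobeniusKernel H) := by
    rw [← hNeq]
    rfl
  have key : ∀ v : V, v = 1 := by
    apply Cfsg.H5.frobenius_fixed_points (conjHom V F hFV) H N
    · exact disjoint_iff.mp hcompl.disjoint
    · exact hcompl.card_mul_card
    · exact hH.2.2
    · rw [hcardN]; exact hcop
    · intro v hv
      have : (v : G) ∈ V ⊓ Subgroup.centralizer (Subtype.val '' Cfsg.frobeniusKernel H : Set G) := by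
        refine ⟨v.2, ?_⟩
        show (v : G) ∈ Subgroup.centralizer (Subtype.val '' Cfsg.frobeniusKernel H : Set G)
        rw [Subgroup.mem_centralizer_iff]
        rintro _ ⟨k, hk, rfl⟩
        have hkN : k ∈ N := by
          have : k ∈ (N : Set F) := by rw [hNeq]; exact hk
          exact this
        have h1 := congrArg Subtype.val (hv k hkN)
        rw [conjHom_apply] at h1
        calc (k : G) * v = ((k : G) * v * (k : G)⁻¹) * k := by group
          _ = v * k := by rw [h1]
      rw [hCK, Subgroup.mem_bot] at this
      exact Subtype.ext this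
    · intro v hv
      have : (v : G) ∈ V ⊓ Subgroup.centralizer ((H.map F.subtype : Subgroup G) : Set G) := by
        refine ⟨v.2, ?_⟩
        show (v : G) ∈ Subgroup.centralizer ((H.map F.subtype : Subgroup G) : Set G)
        rw [Subgroup.mem_centralizer_iff]
        rintro _ ⟨k, hk, rfl⟩
        have h1 := congrArg Subtype.val (hv k hk)
        rw [conjHom_apply] at h1
        show (k : G) * v = v * (k : G)
        calc (k : G) * v = ((k : G) * v * (k : G)⁻¹) * k := by group
          _ = v * k := by rw [h1]
      rw [hCH, Subgroup.mem_bot] at this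
      exact Subtype.ext this
  apply hV1
  rw [eq_bot_iff]
  intro x hx
  rw [Subgroup.mem_bot]
  exact congrArg Subtype.val (key ⟨x, hx⟩)

end Cfsg.Agent.S0666
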