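import Cfsg.Statements.S0668
import Mathlib

set_option autoImplicit false
open Cfsg

namespace Cfsg.Agent.S0668

open scoped Classical in
/-- The linear map attached to a function on orbits of pairs. -/
noncomputable def orbitHom {G : Type*} [Group G] {K : Type*} [Field K] {Ω₁ Ω₂ : Type*} [Fintype Ω₁]
    [MulAction G Ω₁] [MulAction G Ω₂] :
    (MulAction.orbitRel.Quotient G (Ω₁ × Ω₂) → K) →ₗ[K] ((Ω₁ → K) →ₗ[K] (Ω₂ → K)) where
  toFun c :=
    { toFun := fun u y => ∑ x, c (Quotient.mk'' (x, y)) * u x
      map_add' := by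
        intro u v
        ext y
        simp only [Pi.add_apply, mul_add, Finset.sum_add_distrib]
      map_smul' := by
        intro r u
        ext y
        simp only [Pi.smul_apply, smul_eq_mul, RingHom.id_apply, Finset.mul_sum]
        apply Finset.sum_congr rfl
        intro x _
        ring }
  map_add' := by
    intro c d
    apply LinearMap.ext
    intro u
    funext y
    simp only [Pi.add_apply, add_mul, Finset.sum_add_distrib, LinearMap.coe_mk, AddHom.coe_mk,
      LinearMap.add_apply]
  map_smul' := by
    intro r c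
    apply LinearMap.ext
    intro u
    funext y
    simp only [Pi.smul_apply, smul_eq_mul, RingHom.id_apply, Finset.mul_sum, LinearMap.coe_mk,
      AddHom.coe_mk, LinearMap.smul_apply]
    apply Finset.sum_congr rfl
    intro x _
    ring

theorem orbitHom_apply {G : Type*} [Group G] {K : Type*} [Field K] {Ω₁ Ω₂ : Type*} [Fintype Ω₁]
    [MulAction G Ω₁] [MulAction G Ω₂] (c : MulAction.orbitRel.Quotient G (Ω₁ × Ω₂) → K)
    (u : Ω₁ → K) (y : Ω₂) :
    orbitHom (G := G) c u y = ∑ x, c (Quotient.mk'' (x, y)) * u x := rfl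

/-- The equivariant linear maps between the permutation modules of two finite `G`-sets form a space whose dimension is the number of `G`-orbits on the product of the two sets. -/
theorem result {G : Type*} [Group G] {K : Type*} [Field K] {Ω₁ Ω₂ : Type*} [Fintype Ω₁] [Fintype Ω₂] [MulAction G Ω₁] [MulAction G Ω₂] : Module.finrank K ((Cfsg.permRep K G Ω₁).linHom (Cfsg.permRep K G Ω₂)).invariants = Nat.card (MulAction.orbitRel.Quotient G (Ω₁ × Ω₂)) := by
  classical
  set Q := MulAction.orbitRel.Quotient G (Ω₁ × Ω₂) with hQ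
  have hfinQ : Finite Q := inferInstanceAs (Finite (Quotient _))
  letI : Fintype Q := Fintype.ofFinite Q
  have hinj : Function.Injective (orbitHom (G := G) (K := K) (Ω₁ := Ω₁) (Ω₂ := Ω₂)) := by
    rw [← LinearMap.ker_eq_bot, LinearMap.ker_eq_bot']
    intro c hc
    ext q
    induction q using Quotient.inductionOn' with | _ xy => ?_
    obtain ⟨x, y⟩ := xy
    have := congrFun (LinearMap.congr_fun hc (Pi.single x 1)) y
    rw [orbitHom_apply] at this
    simp only [Pi.single_apply, mul_ite, mul_one, mul_zero, Finset.sum_ite_eq', Finset.mem_univ,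
      if_true] at this
    exact this
  have hrange : LinearMap.range (orbitHom (G := G) (K := K) (Ω₁ := Ω₁) (Ω₂ := Ω₂)) =
      ((Cfsg.permRep K G Ω₁).linHom (Cfsg.permRep K G Ω₂)).invariants := by
    apply le_antisymm
    · rintro _ ⟨c, rfl⟩
      rw [Representation.mem_invariants]
      intro g
      rw [Representation.linHom_apply]
      apply LinearMap.ext
      intro u
      funext y
      show orbitHom c ((Cfsg.permRep K G Ω₁) g⁻¹ u) (g⁻¹ • y) = orbitHom c u y
      rw [orbitHom_apply, orbitHom_apply]
      apply Fintype.sum_equiv (MulAction.toPerm g)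
      intro x
      show c (Quotient.mk'' (x, g⁻¹ • y)) * u (g⁻¹⁻¹ • x) = c (Quotient.mk'' (g • x, y)) * u (g • x)
      rw [inv_inv]
      congr 2
      rw [Quotient.eq'', MulAction.orbitRel_apply]
      refine ⟨g⁻¹, ?_⟩
      show (g⁻¹ • g • x, g⁻¹ • y) = (x, g⁻¹ • y)
      rw [inv_smul_smul]
    · intro f hf
      rw [Representation.mem_invariants] at hf
      -- the function on orbits attached to `f`
      have hwd : ∀ p p' : Ω₁ × Ω₂, MulAction.orbitRel G (Ω₁ × Ω₂) p p' →
          f (Pi.single p.1 1) p.2 = f (Pi.single p'.1 1) p'.2 := by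
        rintro ⟨x, y⟩ ⟨x', y'⟩ hpp
        rw [MulAction.orbitRel_apply] at hpp
        obtain ⟨g, hg⟩ := hpp
        have h1 : g • x' = x := congrArg Prod.fst hg
        have h2 : g • y' = y := congrArg Prod.snd hg
        have := hf g
        rw [Representation.linHom_apply] at this
        have h3 := congrFun (LinearMap.congr_fun this (Pi.single x 1)) y
        show f (Pi.single x 1) y = f (Pi.single x' 1) y'
        rw [← h3]
        show f ((Cfsg.permRep K G Ω₁) g⁻¹ (Pi.single x 1)) (g⁻¹ • y) = f (Pi.single x' 1) y'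
        have h4 : (Cfsg.permRep K G Ω₁) g⁻¹ (Pi.single x 1) = Pi.single x' 1 := by
          ext z
          show (Pi.single x (1 : K) : Ω₁ → K) (g⁻¹⁻¹ • z) = (Pi.single x' (1 : K) : Ω₁ → K) z
          rw [inv_inv, Pi.single_apply, Pi.single_apply, ← h1]
          simp only [smul_left_cancel_iff]
        rw [h4, ← h2, inv_smul_smul]
      refine ⟨fun q => Quotient.liftOn' q (fun p => f (Pi.single p.1 1) p.2) hwd, ?_⟩
      apply LinearMap.ext
      intro u
      funext y
      rw [orbitHom_apply]
      have hu : u = ∑ x, u x • Pi.single x (1 : K) := by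
        ext z
        simp [Finset.sum_apply, Pi.single_apply]
      conv_rhs => rw [hu]
      rw [map_sum, Finset.sum_apply]
      apply Finset.sum_congr rfl
      intro x _
      rw [map_smul, Pi.smul_apply, smul_eq_mul, mul_comm]
      rfl
  have e := LinearEquiv.ofInjective (orbitHom (G := G) (K := K) (Ω₁ := Ω₁) (Ω₂ := Ω₂)) hinj
  rw [← hrange, ← e.finrank_eq, Module.finrank_fintype_fun_eq_card, Nat.card_eq_fintype_card]

end Cfsg.Agent.S0668
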