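import Cfsg.Statements.S0669
import Mathlib

set_option autoImplicit false
open Cfsg

namespace Cfsg.Agent.S0669

/-- The rank of a transitive action: orbits on ordered pairs correspond to orbits of a point stabiliser. -/
theorem result {G : Type*} [Group G] {Ω : Type*} [Finite Ω] [MulAction G Ω] [MulAction.IsPretransitive G Ω] (a : Ω) : Nat.card (MulAction.orbitRel.Quotient G (Ω × Ω)) = Nat.card (MulAction.orbitRel.Quotient (MulAction.stabilizer G a) Ω) := by
  symm
  let f : MulAction.orbitRel.Quotient (MulAction.stabilizer G a) Ω →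
      MulAction.orbitRel.Quotient G (Ω × Ω) :=
    Quotient.map' (fun y => (a, y)) (by
      intro y y' hyy'
      rw [MulAction.orbitRel_apply] at hyy' ⊢
      obtain ⟨⟨h, hh⟩, rfl⟩ := hyy'
      refine ⟨h, ?_⟩
      show (h • a, h • y') = (a, (⟨h, hh⟩ : MulAction.stabilizer G a) • y')
      rw [MulAction.mem_stabilizer_iff.mp hh]
      rfl)
  apply Nat.card_congr (Equiv.ofBijective f ⟨?_, ?_⟩)
  · intro q q'
    induction q using Quotient.inductionOn' with | _ y => ?_
    induction q' using Quotient.inductionOn' with | _ y' => ?_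
    intro h
    have h' : (Quotient.mk'' (a, y) : MulAction.orbitRel.Quotient G (Ω × Ω)) = Quotient.mk'' (a, y') := h
    rw [Quotient.eq''] at h' ⊢
    rw [MulAction.orbitRel_apply] at h' ⊢
    obtain ⟨g, hg⟩ := h'
    have h1 : g • a = a := congrArg Prod.fst hg
    have h2 : g • y' = y := congrArg Prod.snd hg
    exact ⟨⟨g, MulAction.mem_stabilizer_iff.mpr h1⟩, h2⟩
  · intro q
    induction q using Quotient.inductionOn' with | _ xy => ?_
    obtain ⟨x, y⟩ := xy
    obtain ⟨g, hg⟩ := MulAction.exists_smul_eq G x a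
    refine ⟨Quotient.mk'' (g • y), ?_⟩
    show (Quotient.mk'' (a, g • y) : MulAction.orbitRel.Quotient G (Ω × Ω)) = Quotient.mk'' (x, y)
    rw [Quotient.eq'', MulAction.orbitRel_apply]
    refine ⟨g, ?_⟩
    show (g • x, g • y) = (a, g • y)
    rw [hg]

end Cfsg.Agent.S0669
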