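import Cfsg.Statements.S0670
import Cfsg.Agent.H5.SylowTrans
import Cfsg.Agent.H5.PGroupRep

set_option autoImplicit false
open Cfsg

namespace Cfsg.Agent.S0670

/-- A nonzero subrepresentation of the permutation module of a transitive action of degree `p ^ f`
in characteristic `p` contains a nonzero constant function. -/
theorem one_mem {G : Type*} [Group G] [Finite G] {K : Type*} [Field K] {p f : ℕ} [Fact p.Prime]
    [CharP K p] {Ω : Type*} [Fintype Ω] [MulAction G Ω] [MulAction.IsPretransitive G Ω]
    (hcard : Fintype.card Ω = p ^ f) (W : Subrepresentation (Cfsg.permRep K G Ω))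
    (hW : W.toSubmodule ≠ ⊥) : (fun _ => 1 : Ω → K) ∈ W.toSubmodule := by
  classical
  obtain ⟨P⟩ : Nonempty (Sylow p G) := inferInstance
  have hcard' : Nat.card Ω = p ^ f := by rw [Nat.card_eq_fintype_card, hcard]
  have htrans := Cfsg.H5.sylow_transitive_of_card_prime_pow hcard' P
  -- the restriction of the permutation representation to `P`
  let ρ : (P : Subgroup G) →* ((Ω → K) →ₗ[K] (Ω → K)) :=
    (Cfsg.permRep K G Ω).comp (P : Subgroup G).subtype
  have hρ : ∀ (g : (P : Subgroup G)) (u : Ω → K), ρ g u = Cfsg.permRep K G Ω (g : G) u :=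
    fun _ _ => rfl
  obtain ⟨u, huW, hu0, hfix⟩ := Cfsg.H5.exists_fixed_vector_of_isPGroup (p := p) P.isPGroup' ρ
    W.toSubmodule (fun g w hw => W.apply_mem_toSubmodule (g : G) hw) hW
  -- `u` is constant
  have hconst : ∀ x y : Ω, u x = u y := by
    intro x y
    obtain ⟨g, hg, hgxy⟩ := htrans x y
    have h1 := congrFun (hfix ⟨g, hg⟩) y
    rw [hρ] at h1
    have h2 : (Cfsg.permRep K G Ω g u) y = u (g⁻¹ • y) := rfl
    rw [h2, ← hgxy, inv_smul_smul] at h1
    rw [h1, hgxy]
  have hne : Nonempty Ω := by
    rw [← Fintype.card_pos_iff, hcard]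
    exact pow_pos (Fact.out : p.Prime).pos f
  obtain ⟨x₀⟩ := hne
  have hc : u x₀ ≠ 0 := by
    intro h
    apply hu0
    funext y
    rw [hconst y x₀, h]; rfl
  have h3 : (fun _ => 1 : Ω → K) = (u x₀)⁻¹ • u := by
    funext y
    rw [Pi.smul_apply, hconst y x₀, smul_eq_mul, inv_mul_cancel₀ hc]
  rw [h3]
  exact W.toSubmodule.smul_mem _ huW

/-- In characteristic `p`, the permutation module of a transitive action of degree `p ^ f` has the line of constant functions as its only irreducible submodule: every non-zero subrepresentation contains it. -/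
theorem result {G : Type*} [Group G] [Finite G] {K : Type*} [Field K] {p f : ℕ} [Fact p.Prime] [CharP K p] {Ω : Type*} [Fintype Ω] [MulAction G Ω] [MulAction.IsPretransitive G Ω] (hf : 1 ≤ f) (hcard : Fintype.card Ω = p ^ f) (W : Subrepresentation (Cfsg.permRep K G Ω)) (hW : W.toSubmodule ≠ ⊥) : (Cfsg.permConstants K G Ω).toSubmodule ≤ W.toSubmodule := by
  show Submodule.span K {fun _ => 1} ≤ W.toSubmodule
  rw [Submodule.span_singleton_le_iff_mem]
  exact one_mem hcard W hW

end Cfsg.Agent.S0670
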