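import Cfsg.Statements.S0671
import Cfsg.Agent.S0670

set_option autoImplicit false
open Cfsg

namespace Cfsg.Agent.S0671

open Matrix

section
variable {G : Type*} [Group G] {K : Type*} [Field K] {Ω : Type*} [Fintype Ω] [MulAction G Ω]

/-- multiplication by a `G`-invariant matrix commutes with the permutation action -/
theorem permRep_mulVec (A : Matrix Ω Ω K) (hA : ∀ (g : G) (x y : Ω), A (g • x) (g • y) = A x y)
    (g : G) (m : Ω → K) :
    Cfsg.permRep K G Ω g (A *ᵥ m) = A *ᵥ (Cfsg.permRep K G Ω g m) := by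
  funext x
  show (A *ᵥ m) (g⁻¹ • x) = (A *ᵥ (fun y => m (g⁻¹ • y))) x
  simp only [Matrix.mulVec, dotProduct]
  rw [← Equiv.sum_comp (MulAction.toPerm g) (fun y => A x y * m (g⁻¹ • y))]
  apply Finset.sum_congr rfl
  intro y _
  simp only [MulAction.toPerm_apply, inv_smul_smul]
  rw [← hA g (g⁻¹ • x) y, smul_inv_smul]

theorem sum_permRep (g : G) (m : Ω → K) : ∑ x, Cfsg.permRep K G Ω g m x = ∑ x, m x := by
  show ∑ x, m (g⁻¹ • x) = ∑ x, m x
  exact Equiv.sum_comp (MulAction.toPerm g⁻¹) m

/-- image of a subrepresentation under an invariant matrix -/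
noncomputable def imageSub (A : Matrix Ω Ω K) (hA : ∀ (g : G) (x y : Ω), A (g • x) (g • y) = A x y)
    (V : Subrepresentation (Cfsg.permRep K G Ω)) : Subrepresentation (Cfsg.permRep K G Ω) where
  toSubmodule := V.toSubmodule.map (Matrix.mulVecLin A)
  apply_mem_toSubmodule g v hv := by
    obtain ⟨m, hm, rfl⟩ := hv
    refine ⟨Cfsg.permRep K G Ω g m, V.apply_mem_toSubmodule g hm, ?_⟩
    rw [Matrix.mulVecLin_apply, Matrix.mulVecLin_apply, permRep_mulVec A hA]

/-- the whole module as a subrepresentation -/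
noncomputable def topSub : Subrepresentation (Cfsg.permRep K G Ω) where
  toSubmodule := ⊤
  apply_mem_toSubmodule _ _ _ := trivial

theorem mem_sumZero (m : Ω → K) : m ∈ (Cfsg.permSumZero K G Ω).toSubmodule ↔ ∑ x, m x = 0 := Iff.rfl

end

/-- the key lemma: every balanced invariant matrix has all its columns equal -/
theorem columns_eq {G : Type*} [Group G] [Finite G] {K : Type*} [Field K] {p f : ℕ} [Fact p.Prime]
    [CharP K p] {Ω : Type*} [Fintype Ω] [MulAction G Ω] [MulAction.IsPretransitive G Ω]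
    (hcard : Fintype.card Ω = p ^ f)
    (h : ∀ W W' : Subrepresentation (Cfsg.permRep K G Ω),
      (Cfsg.permConstants K G Ω).toSubmodule ≤ W.toSubmodule → W.toSubmodule < W'.toSubmodule →
      W'.toSubmodule ≤ (Cfsg.permSumZero K G Ω).toSubmodule →
      ∃ g : G, ∃ v ∈ W'.toSubmodule, Cfsg.permRep K G Ω g v - v ∉ W.toSubmodule)
    (A : Matrix Ω Ω K) (hA : ∀ (g : G) (x y : Ω), A (g • x) (g • y) = A x y)
    (hcol : ∀ y, ∑ x, A x y = 0) (x y z : Ω) : A z x = A z y := by
  classical
  by_contra hne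
  have hAT : ∀ (g : G) (x y : Ω), Aᵀ (g • x) (g • y) = Aᵀ x y := fun g x y => hA g y x
  set W := imageSub A hA (Cfsg.permSumZero K G Ω) with hW
  set W' := imageSub A hA (topSub (G := G) (K := K) (Ω := Ω)) with hW'
  -- `W ≠ ⊥`
  have hWne : W.toSubmodule ≠ ⊥ := by
    intro hbot
    have hmem : A *ᵥ (Pi.single x 1 - Pi.single y 1) ∈ W.toSubmodule := by
      refine ⟨Pi.single x 1 - Pi.single y 1, (mem_sumZero (G := G) _).mpr ?_, rfl⟩
      simp [Finset.sum_sub_distrib]
    rw [hbot, Submodule.mem_bot] at hmem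
    have := congrFun hmem z
    rw [Matrix.mulVec_sub, Pi.sub_apply, Matrix.mulVec_single_one, Matrix.mulVec_single_one] at this
    simp only [Pi.zero_apply, Matrix.col_apply] at this
    exact hne (sub_eq_zero.mp this)
  have hCW : (Cfsg.permConstants K G Ω).toSubmodule ≤ W.toSubmodule := by
    show Submodule.span K {fun _ => 1} ≤ W.toSubmodule
    rw [Submodule.span_singleton_le_iff_mem]
    exact Cfsg.Agent.S0670.one_mem hcard W hWne
  have hWW' : W.toSubmodule ≤ W'.toSubmodule := Submodule.map_mono le_top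
  have hsum : ∀ m : Ω → K, ∑ x, (A *ᵥ m) x = 0 := by
    intro m
    simp only [Matrix.mulVec, dotProduct]
    rw [Finset.sum_comm]
    apply Finset.sum_eq_zero
    intro y _
    rw [← Finset.sum_mul, hcol, zero_mul]
  have hW'M : W'.toSubmodule ≤ (Cfsg.permSumZero K G Ω).toSubmodule := by
    rintro _ ⟨m, _, rfl⟩
    exact hsum m
  -- the transpose has `1` in its image
  have hATne : (imageSub Aᵀ hAT (topSub (G := G) (K := K) (Ω := Ω))).toSubmodule ≠ ⊥ := by
    intro hbot
    have hmem : Aᵀ *ᵥ (Pi.single z 1) ∈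
        (imageSub Aᵀ hAT (topSub (G := G) (K := K) (Ω := Ω))).toSubmodule :=
      ⟨Pi.single z 1, trivial, rfl⟩
    rw [hbot, Submodule.mem_bot] at hmem
    have h1 := congrFun hmem x
    have h2 := congrFun hmem y
    rw [Matrix.mulVec_single_one] at h1 h2
    simp only [Pi.zero_apply, Matrix.col_apply, Matrix.transpose_apply] at h1 h2
    exact hne (h1.trans h2.symm)
  obtain ⟨n, -, hn⟩ := Cfsg.Agent.S0670.one_mem hcard _ hATne
  have hn' : Aᵀ *ᵥ n = fun _ => 1 := hn
  have hker : ∀ u : Ω → K, A *ᵥ u = 0 → ∑ x, u x = 0 := by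
    intro u hu
    have h1 : ∑ x, u x = u ⬝ᵥ (Aᵀ *ᵥ n) := by
      rw [hn']
      simp [dotProduct]
    rw [h1, Matrix.dotProduct_mulVec, Matrix.vecMul_transpose, hu, zero_dotProduct]
  have hneq : W.toSubmodule ≠ W'.toSubmodule := by
    intro heq
    have hmem : A *ᵥ (Pi.single z 1) ∈ W'.toSubmodule := ⟨Pi.single z 1, trivial, rfl⟩
    rw [← heq] at hmem
    obtain ⟨m0, hm0, hm0'⟩ := hmem
    have hm0s : ∑ x, m0 x = 0 := hm0
    have h1 : A *ᵥ (Pi.single z 1 - m0) = 0 := by
      rw [Matrix.mulVec_sub]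
      rw [Matrix.mulVecLin_apply] at hm0'
      rw [hm0', sub_self]
    have h2 := hker _ h1
    simp only [Pi.sub_apply, Finset.sum_sub_distrib, hm0s, sub_zero] at h2
    simp at h2
  obtain ⟨g, v, ⟨m, -, rfl⟩, hv⟩ := h W W' hCW (lt_of_le_of_ne hWW' hneq) hW'M
  apply hv
  refine ⟨Cfsg.permRep K G Ω g m - m, ?_, ?_⟩
  · show ∑ x, (Cfsg.permRep K G Ω g m - m) x = 0
    simp only [Pi.sub_apply, Finset.sum_sub_distrib]
    rw [sum_permRep, sub_self]
  · rw [map_sub, Matrix.mulVecLin_apply, Matrix.mulVecLin_apply, permRep_mulVec A hA]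

/-- If the heart of the permutation module in characteristic `p` of a transitive action of degree `p ^ f` has no trivial composition factor, the action is doubly transitive. The hypothesis is phrased without composition series: no invariant subspaces `W < W'` between the constants and the sum-zero functions with trivial action on the quotient. -/
theorem result {G : Type*} [Group G] [Finite G] {K : Type*} [Field K] {p f : ℕ} [Fact p.Prime] [CharP K p] {Ω : Type*} [Fintype Ω] [MulAction G Ω] [MulAction.IsPretransitive G Ω] (hf : 1 ≤ f) (hcard : Fintype.card Ω = p ^ f) (h : ∀ W W' : Subrepresentation (Cfsg.permRep K G Ω), (Cfsg.permConstants K G Ω).toSubmodule ≤ W.toSubmodule → W.toSubmodule < W'.toSubmodule → W'.toSubmodule ≤ (Cfsg.permSumZero K G Ω).toSubmodule → ∃ g : G, ∃ v ∈ W'.toSubmodule, Cfsg.permRep K G Ω g v - v ∉ W.toSubmodule) : MulAction.IsMultiplyPretransitive G Ω 2 := by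
  classical
  rw [MulAction.is_two_pretransitive_iff]
  intro a b c d hab hcd
  by_contra hno
  -- the orbital of `(a, b)`
  let O : Ω → Ω → Prop := fun x y => ∃ g : G, g • a = x ∧ g • b = y
  have hO : ∀ (g : G) (x y : Ω), O (g • x) (g • y) ↔ O x y := by
    intro g x y
    constructor
    · rintro ⟨k, hk1, hk2⟩
      refine ⟨g⁻¹ * k, ?_, ?_⟩
      · rw [mul_smul, hk1, inv_smul_smul]
      · rw [mul_smul, hk2, inv_smul_smul]
    · rintro ⟨k, hk1, hk2⟩
      refine ⟨g * k, ?_, ?_⟩
      · rw [mul_smul, hk1]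
      · rw [mul_smul, hk2]
  let A : Matrix Ω Ω K := fun x y => if O x y then 1 else 0
  have hA : ∀ (g : G) (x y : Ω), A (g • x) (g • y) = A x y := by
    intro g x y
    show (if O (g • x) (g • y) then (1 : K) else 0) = if O x y then 1 else 0
    rw [if_congr (hO g x y) rfl rfl]
  -- column sums are constant
  set κ : K := ∑ x, A x a with hκ
  have hcolA : ∀ y, ∑ x, A x y = κ := by
    intro y
    obtain ⟨g, rfl⟩ := MulAction.exists_smul_eq G a y
    rw [hκ, ← Equiv.sum_comp (MulAction.toPerm g) (fun x => A x (g • a))]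
    apply Finset.sum_congr rfl
    intro x _
    exact hA g x a
  let B : Matrix Ω Ω K := fun x y => A x y - if x = y then κ else 0
  have hB : ∀ (g : G) (x y : Ω), B (g • x) (g • y) = B x y := by
    intro g x y
    show A (g • x) (g • y) - (if g • x = g • y then κ else 0) = A x y - if x = y then κ else 0
    rw [hA, if_congr (smul_left_cancel_iff g) rfl rfl]
  have hBcol : ∀ y, ∑ x, B x y = 0 := by
    intro y
    show ∑ x, (A x y - if x = y then κ else 0) = 0
    rw [Finset.sum_sub_distrib, hcolA]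
    simp
  have key := columns_eq hcard h B hB hBcol
  have hOab : O a b := ⟨1, one_smul _ _, one_smul _ _⟩
  have hOcd : ¬ O c d := hno
  have h1 : B a b = 1 := by
    show (if O a b then (1 : K) else 0) - (if a = b then κ else 0) = 1
    rw [if_pos hOab, if_neg hab, sub_zero]
  have h2 : B c d = 0 := by
    show (if O c d then (1 : K) else 0) - (if c = d then κ else 0) = 0
    rw [if_neg hOcd, if_neg hcd, sub_zero]
  have h3 : B a a = B c c := by
    obtain ⟨g, rfl⟩ := MulAction.exists_smul_eq G a c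
    exact (hB g a a).symm
  have h4 : (1 : K) = 0 := by
    rw [← h1, key b a a, h3, key c d c, h2]
  exact one_ne_zero h4

end Cfsg.Agent.S0671
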