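import Mathlib
import Cfsg.Statements.S0680
import Cfsg.Agent.H5.SharpTwo

set_option autoImplicit false
open Cfsg

namespace Cfsg.Agent.S0680

open Cfsg.H5.SharpTwo MulAction

/-- the embedding of an ordered pair of distinct points -/
def pairEmb {α : Type*} (a b : α) (hab : a ≠ b) : Fin 2 ↪ α :=
  ⟨![a, b], by
    intro i j h
    fin_cases i <;> fin_cases j
    · rfl
    · exact absurd h hab
    · exact absurd h.symm hab
    · rfl⟩

theorem sharp_of_stabilizer {α : Type*} (G : Subgroup (Equiv.Perm α))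
    (hsharp : ∀ x : Fin 2 ↪ α, MulAction.stabilizer G x = ⊥) : Sharp G α := by
  intro g a b hab ha hb
  have : g ∈ MulAction.stabilizer G (pairEmb a b hab) := by
    rw [MulAction.mem_stabilizer_iff]
    ext i
    fin_cases i
    · exact ha
    · exact hb
  rw [hsharp] at this
  exact Subgroup.mem_bot.mp this

theorem twoTrans_of_pretransitive {α : Type*} (G : Subgroup (Equiv.Perm α))
    [MulAction.IsMultiplyPretransitive G α 2] : TwoTrans G α := by
  intro a b c d hab hcd
  obtain ⟨g, hg⟩ := MulAction.exists_smul_eq G (pairEmb a b hab) (pairEmb c d hcd)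
  refine ⟨g, ?_, ?_⟩
  · exact congrFun (congrArg (fun f : Fin 2 ↪ α => (f : Fin 2 → α)) hg) 0
  · exact congrFun (congrArg (fun f : Fin 2 ↪ α => (f : Fin 2 → α)) hg) 1

/-- A finite sharply doubly transitive permutation group has degree a prime power `p ^ j`; a Sylow `p`-subgroup is normal, elementary abelian and regular, and consists of the identity together with the elements without fixed points. (Frobenius' Theorem is not needed.) -/
theorem result {α : Type*} [Fintype α] [DecidableEq α] (G : Subgroup (Equiv.Perm α)) [MulAction.IsMultiplyPretransitive G α 2] (hsharp : ∀ x : Fin 2 ↪ α, MulAction.stabilizer G x = ⊥) (h2 : 2 ≤ Fintype.card α) : ∃ p j : ℕ, p.Prime ∧ 1 ≤ j ∧ Fintype.card α = p ^ j ∧ ∀ (hp : Fact p.Prime) (P : Sylow p G), (P : Subgroup G).Normal ∧ IsMulCommutative (P : Subgroup G) ∧ (∀ x ∈ (P : Subgroup G), x ^ p = 1) ∧ MulAction.IsPretransitive (P : Subgroup G) α ∧ (∀ a : α, MulAction.stabilizer (P : Subgroup G) a = ⊥) ∧ ∀ g : G, g ∈ (P : Subgroup G) ↔ g = 1 ∨ ∀ a : α,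 g • a ≠ a := by
  have hS : Sharp G α := sharp_of_stabilizer G hsharp
  have hT : TwoTrans G α := twoTrans_of_pretransitive G
  have hn : ∃ a b : α, a ≠ b := Fintype.one_lt_card_iff.mp h2
  obtain ⟨p, j, hp, hj, hcard, hexp⟩ := exists_prime_exponent hS hT hn
  rw [Nat.card_eq_fintype_card] at hcard
  refine ⟨p, j, hp, hj, hcard, ?_⟩
  intro hp' P
  have hPG : IsPGroup p (kernel hS hT hn) := by
    rintro ⟨k, hk⟩
    refine ⟨1, ?_⟩
    rw [pow_one]
    exact Subtype.ext (hexp k hk)
  have hpd : p ∣ Nat.card α := by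
    rw [Nat.card_eq_fintype_card, hcard]
    exact dvd_pow_self p (by omega)
  have hPK : (P : Subgroup G) = kernel hS hT hn := sylow_eq_kernel hS hT hn hpd hPG P
  have hmem : ∀ g : G, g ∈ (P : Subgroup G) ↔ g ∈ kernel hS hT hn := fun g => by rw [hPK]
  refine ⟨?_, ?_, ?_, ?_, ?_, ?_⟩
  · rw [hPK]; exact kernel_normal hS hT hn
  · constructor
    constructor
    intro a b
    exact Subtype.ext (kernel_comm hS hT hn a.1 ((hmem _).mp a.2) b.1 ((hmem _).mp b.2))
  · intro x hx
    exact hexp x ((hmem x).mp hx)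
  · constructor
    intro a c
    obtain ⟨k, hk, hka⟩ := exists_mem_kernel_smul_eq hS hT hn a c
    exact ⟨⟨k, (hmem k).mpr hk⟩, hka⟩
  · intro a
    rw [eq_bot_iff]
    rintro ⟨x, hx⟩ hxa
    rw [MulAction.mem_stabilizer_iff] at hxa
    have hxa' : x • a = a := hxa
    have := eq_one_of_mem_kernel_of_smul_eq hS hT hn ((hmem x).mp hx) hxa'
    rw [Subgroup.mem_bot]
    exact Subtype.ext this
  · intro g
    rw [hmem, mem_kernel]
    rfl

end Cfsg.Agent.S0680
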