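import Cfsg.Statements.S0681
import Cfsg.Agent.H5.NearField

set_option autoImplicit false
open Cfsg

namespace Cfsg.Agent.S0681

open Cfsg.H5

/-- The affine maps `x ↦ x * a + b`, `a ≠ 0`, of a near-field form a sharply doubly transitive permutation group. -/
theorem result {F : Type*} [Cfsg.NearField F] : ∃ H : Subgroup (Equiv.Perm F), (∀ σ : Equiv.Perm F, σ ∈ H ↔ ∃ a b : F, a ≠ 0 ∧ ∀ x : F, σ x = x * a + b) ∧ MulAction.IsMultiplyPretransitive H F 2 ∧ ∀ x : Fin 2 ↪ F, MulAction.stabilizer H x = ⊥ := by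
  refine ⟨nfAffineGroup F, fun σ => Iff.rfl, ?_, ?_⟩
  · rw [MulAction.is_two_pretransitive_iff]
    intro x1 x2 y1 y2 hx hy
    -- a = (x2 - x1)⁻¹ * (y2 - y1), b = -(x1 * a) + y1
    have hx' : x2 + -x1 ≠ 0 := by
      intro h
      apply hx
      have := eq_neg_of_add_eq_zero_left h
      rw [neg_neg] at this
      exact this.symm
    have hy' : y2 + -y1 ≠ 0 := by
      intro h
      apply hy
      have := eq_neg_of_add_eq_zero_left h
      rw [neg_neg] at this
      exact this.symm
    obtain ⟨c, hc1, hc2⟩ := NearField.exists_inv (x2 + -x1) hx'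
    have hc : c ≠ 0 := by
      intro h
      rw [h, NearField.mul_zero] at hc1
      exact NearField.zero_ne_one hc1
    set a := c * (y2 + -y1) with ha
    have ha0 : a ≠ 0 := nf_mul_ne_zero hc hy'
    set b := -(x1 * a) + y1 with hb
    refine ⟨⟨nfAffine a b ha0, a, b, ha0, fun x => rfl⟩, ?_, ?_⟩
    · show nfAffine a b ha0 x1 = y1
      rw [nfAffine_apply, hb, add_neg_cancel_left]
    · show nfAffine a b ha0 x2 = y2
      rw [nfAffine_apply, hb, ← add_assoc, ← nf_sub_mul, ha, ← mul_assoc, hc1, one_mul,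
        neg_add_cancel_right]
  · intro x
    rw [eq_bot_iff]
    rintro ⟨σ, a, b, ha, hσ⟩ hstab
    rw [MulAction.mem_stabilizer_iff] at hstab
    have h0 : σ (x 0) = x 0 := by
      have := congrArg (fun f : Fin 2 ↪ F => f 0) hstab
      exact this
    have h1 : σ (x 1) = x 1 := by
      have := congrArg (fun f : Fin 2 ↪ F => f 1) hstab
      exact this
    rw [hσ] at h0 h1
    have hne : x 0 + -(x 1) ≠ 0 := by
      intro h
      have := eq_neg_of_add_eq_zero_left h
      rw [neg_neg] at this
      have := x.injective this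
      exact absurd this (by decide)
    -- (x0 - x1) * a = x0 - x1
    have h2 : (x 0 + -(x 1)) * a = x 0 + -(x 1) := by
      rw [nf_sub_mul]
      have e0 : x 0 * a = x 0 + -b := eq_add_neg_of_add_eq h0
      have e1 : x 1 * a = x 1 + -b := eq_add_neg_of_add_eq h1
      rw [e0, e1, neg_add_rev, neg_neg, add_assoc, neg_add_cancel_left]
    obtain ⟨c, hc1, hc2⟩ := NearField.exists_inv _ hne
    have ha1 : a = 1 := by
      have h3 : c * ((x 0 + -(x 1)) * a) = c * (x 0 + -(x 1)) := by rw [h2]
      rwa [← mul_assoc, hc2, one_mul] at h3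
    have hb0 : b = 0 := by
      rw [ha1, mul_one] at h0
      exact add_left_cancel (a := x 0) (by rw [h0, add_zero])
    rw [Subgroup.mem_bot]
    apply Subtype.ext
    ext y
    show σ y = y
    rw [hσ, ha1, hb0, mul_one, add_zero]

end Cfsg.Agent.S0681
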