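import Cfsg.Statements.S0682
import Cfsg.Agent.H5.NearField

set_option autoImplicit false
open Cfsg

namespace Cfsg.Agent.S0682

open Cfsg.H5

/-- A finite near-field has prime-power order; its additive group is commutative of prime exponent. -/
theorem result {F : Type*} [Cfsg.NearField F] [Finite F] : ∃ p j : ℕ, p.Prime ∧ 1 ≤ j ∧ Nat.card F = p ^ j ∧ (∀ x y : F, x + y = y + x) ∧ ∀ x : F, p • x = 0 := by
  have hnt : Nontrivial F := ⟨⟨0, 1, NearField.zero_ne_one⟩⟩
  have hcard : Nat.card F ≠ 1 := by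
    intro h
    have := (Nat.card_eq_one_iff_unique.mp h).1
    exact not_subsingleton F this
  obtain ⟨p, hp, hpd⟩ := Nat.exists_prime_and_dvd hcard
  haveI : Fact p.Prime := ⟨hp⟩
  obtain ⟨x, hx⟩ := exists_prime_addOrderOf_dvd_card' (G := F) p hpd
  have hx0 : x ≠ 0 := by
    intro h
    rw [h, addOrderOf_zero] at hx
    exact hp.one_lt.ne hx
  have hpx : p • x = 0 := by rw [← hx]; exact addOrderOf_nsmul_eq_zero x
  have hexp : ∀ y : F, p • y = 0 := by
    intro y
    obtain ⟨a, rfl⟩ := nf_exists_mul_eq hx0 y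
    rw [← nf_nsmul_mul, hpx, nf_zero_mul]
  -- the additive group is a `p`-group
  have hPG : IsPGroup p (Multiplicative F) := by
    intro g
    refine ⟨1, ?_⟩
    rw [pow_one]
    exact congrArg Multiplicative.ofAdd (hexp g.toAdd)
  obtain ⟨j, hj⟩ := IsPGroup.iff_card.mp hPG
  have hj' : Nat.card F = p ^ j := by rw [← hj]; rfl
  have hj1 : 1 ≤ j := by
    rcases Nat.eq_zero_or_pos j with h | h
    · rw [h, pow_zero] at hj'; exact absurd hj' hcard
    · exact h
  -- commutativity via the centre
  haveI : Nontrivial (Multiplicative F) := ⟨⟨Multiplicative.ofAdd 0, Multiplicative.ofAdd 1,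
    fun h => NearField.zero_ne_one (Multiplicative.ofAdd.injective h)⟩⟩
  have hZ := hPG.center_nontrivial
  obtain ⟨⟨z, hz⟩, hz1⟩ := exists_ne (1 : Subgroup.center (Multiplicative F))
  have hz0 : z.toAdd ≠ 0 := by
    intro h
    apply hz1
    ext
    exact Multiplicative.toAdd.injective h
  have hzc : ∀ w : F, w + z.toAdd = z.toAdd + w := by
    intro w
    have := Subgroup.mem_center_iff.mp hz (Multiplicative.ofAdd w)
    exact congrArg Multiplicative.toAdd this
  have hcomm : ∀ y w : F, y + w = w + y := by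
    intro y w
    by_cases hy : y = 0
    · rw [hy, zero_add, add_zero]
    obtain ⟨a, ha⟩ := nf_exists_mul_eq hz0 y
    have ha0 : a ≠ 0 := by
      intro h
      rw [h, NearField.mul_zero] at ha
      exact hy ha.symm
    obtain ⟨c, hc1, hc2⟩ := NearField.exists_inv a ha0
    have hw : w = (w * c) * a := by rw [mul_assoc, hc2, mul_one]
    rw [← ha, hw, ← nf_add_mul, ← nf_add_mul, hzc]
  exact ⟨p, j, hp, hj1, hj', hcomm, hexp⟩

end Cfsg.Agent.S0682
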