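import Mathlib
import Cfsg.Statements.S0683
import Cfsg.Agent.H5.SharpTwoNF
import Cfsg.Agent.S0680

set_option autoImplicit false
open Cfsg

namespace Cfsg.Agent.S0683

open Cfsg.H5.SharpTwo MulAction

/-- A finite sharply doubly transitive permutation group is the affine group of a near-field: the permuted set carries a near-field structure for which the group consists exactly of the maps `x ↦ x * a + b` with `a ≠ 0`. -/
theorem result {α : Type*} [Fintype α] [DecidableEq α] (H : Subgroup (Equiv.Perm α)) [MulAction.IsMultiplyPretransitive H α 2] (hsharp : ∀ x : Fin 2 ↪ α, MulAction.stabilizer H x = ⊥) (h2 : 2 ≤ Fintype.card α) : ∃ _ : Cfsg.NearField α, ∀ σ : Equiv.Perm α, σ ∈ H ↔ ∃ a b : α, a ≠ 0 ∧ ∀ x : α, σ x = x * a + b := by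
  have hS : Sharp H α := Cfsg.Agent.S0680.sharp_of_stabilizer H hsharp
  have hT : TwoTrans H α := Cfsg.Agent.S0680.twoTrans_of_pretransitive H
  have hn : ∃ a b : α, a ≠ b := Fintype.one_lt_card_iff.mp h2
  obtain ⟨NF, h1, h2'⟩ := exists_nearField hS hT hn
  refine ⟨NF, ?_⟩
  intro σ
  constructor
  · intro hσ
    obtain ⟨a, b, ha, hab⟩ := h1 ⟨σ, hσ⟩
    exact ⟨a, b, ha, fun x => hab x⟩
  · rintro ⟨a, b, ha, hab⟩
    obtain ⟨g, hg⟩ := h2' a b ha
    have : σ = (g : Equiv.Perm α) := by
      ext x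
      rw [hab x]
      exact (hg x).symm
    rw [this]
    exact g.2

end Cfsg.Agent.S0683
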