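import Mathlib
import Cfsg.Statements.S0686
import Cfsg.Agent.S0690
import Cfsg.Agent.Lib.Helper12.MinNonab

set_option autoImplicit false
open Cfsg

namespace Cfsg.Agent.S0686

/-- In a linear group over the prime field that is regular on non-zero vectors and has no irreducible cyclic normal subgroup, let `A` be a maximal normal abelian subgroup and `N` a normal subgroup centralising `A` that is minimal among non-abelian normal subgroups centralising `A`. Then `N` is quaternion of order 8 or isomorphic to `SL(2,5)`. -/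
theorem result {p : ℕ} [Fact p.Prime] {V : Type*} [AddCommGroup V] [Module (ZMod p) V] [Finite V] (H : Subgroup (V ≃ₗ[ZMod p] V)) (hreg : ∀ v w : V, v ≠ 0 → w ≠ 0 → ∃! h : H, (h : V ≃ₗ[ZMod p] V) v = w) (hI : ∀ A : Subgroup H, A.Normal → IsCyclic A → ∃ W : Submodule (ZMod p) V, W ≠ ⊥ ∧ W ≠ ⊤ ∧ ∀ a ∈ A, ∀ v ∈ W, ((a : H) : V ≃ₗ[ZMod p] V) v ∈ W) (A : Subgroup H) (hAn : A.Normal) (hAc : IsMulCommutative A) (hAmax : ∀ B : Subgroup H, B.Normal → IsMulCommutative B → A ≤ B → B = A) (N : Subgroup H) (hNn : N.Normal) (hNle : N ≤ Subgroup.centralizer (A : Set H)) (hNna : ¬ IsMulCommutative N) (hNmin : ∀ M : Subgroup H, M.Normal → M ≤ N → ¬ IsMulCommutative M → M = N) : Nonempty (N ≃* QuaternionGroup 2) ∨ Nonempty (N ≃* Matrix.SpecialLinearGroup (Fin 2) (ZMod 5)) := by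
  classical
  have hfree : ∀ h : H, ∀ v : V, v ≠ 0 → (h : V ≃ₗ[ZMod p] V) v = v → h = 1 := by
    intro h v hv hhv
    obtain ⟨h₀, -, huniq⟩ := hreg v v hv hv
    rw [huniq h hhv, huniq 1 rfl]
  obtain ⟨Wb, hWb, hWt, -⟩ := hI ⊥ inferInstance inferInstance
  have : Nontrivial V := by
    by_contra hnt
    rw [not_nontrivial_iff_subsingleton] at hnt
    exact hWb (Subsingleton.elim _ _)
  have : Finite H := by
    apply Finite.of_injective (fun h : H => ((h : V ≃ₗ[ZMod p] V) : V → V))
    intro h h' hh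
    apply Subtype.ext
    apply DFunLike.coe_injective
    exact hh
  have hAC : Cfsg.H5.NearQ8.AbCyc H :=
    fun B hB => Cfsg.Agent.S0684.isCyclic_of_semiregular H hfree B hB
  by_cases hnp : ⁅N, N⁆ = N
  · right
    have hperf : commutator N = ⊤ := by
      apply Subgroup.map_injective N.subtype_injective
      rw [Subgroup.map_subtype_commutator, hnp, ← MonoidHom.range_eq_map, Subgroup.range_subtype]
    have hne : N ≠ ⊥ := by
      rintro rfl
      exact hNna inferInstance
    exact Cfsg.Agent.Lib.Helper12.MinNonab.sl25_of_perfect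
      (fun B h1 h2 h3 => Cfsg.Agent.S0690.result B h1 h2 h3) H hfree N hperf hne
  · left
    exact Cfsg.Agent.Lib.Helper12.MinNonab.quat_of_min_nonabelian hAC A hAn hAc hAmax N hNn hNle
      hNna hNmin hnp

end Cfsg.Agent.S0686
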