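import Cfsg.Statements.S0691
import Cfsg.Agent.H5.Mat2

set_option autoImplicit false
open Cfsg

namespace Cfsg.Agent.S0691

open Cfsg.H5.Mat2

def gens : List M4 := [(2, 0, 0, 3), (0, 4, 1, 0), (1, 2, 1, 3)]
def ginv : List M4 := [(3, 0, 0, 2), (0, 1, 4, 0), (3, 3, 4, 1)]
def elts : List M4 := [(1, 0, 0, 1), (2, 0, 0, 3), (0, 4, 1, 0), (1, 2, 1, 3), (4, 0, 0, 4), (0, 3, 3, 0), (2, 4, 3, 4), (0, 2, 2, 0), (4, 2, 1, 2), (2, 1, 2, 4), (3, 3, 4, 1), (3, 0, 0, 2), (0, 1, 4, 0), (4, 3, 4, 2), (3, 4, 3, 1), (1, 1, 2, 3), (3, 1, 2, 1), (1, 4, 3, 3), (1, 3, 4, 3), (3, 2, 1, 1), (2, 2, 1, 4), (2, 3, 4, 4), (4, 4, 3, 2), (4, 1, 2, 2)]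

theorem closed_check : (elts.all fun x => (gens ++ ginv).all fun g => elts.contains (mul4 5 x g)) = true := by
  decide

theorem bfs_check : checkBFS 5 gens [] elts = true := by decide

theorem nodup_check : elts.Nodup := by decide

theorem red_check : (elts.all fun x => red 5 x) = true := by decide

theorem fix_check : (elts.all fun x => fixFree 5 x) = true := by decide

/-- An exceptional sharply doubly transitive group of degree 5^2: the listed matrices generate a subgroup of GL(2,5) of order 24 acting regularly on the non-zero vectors. -/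
theorem result (A : Matrix.GeneralLinearGroup (Fin 2) (ZMod 5)) (B : Matrix.GeneralLinearGroup (Fin 2) (ZMod 5)) (C : Matrix.GeneralLinearGroup (Fin 2) (ZMod 5)) (hA : (A : Matrix (Fin 2) (Fin 2) (ZMod 5)) = !![2, 0; 0, -2]) (hB : (B : Matrix (Fin 2) (Fin 2) (ZMod 5)) = !![0, -1; 1, 0]) (hC : (C : Matrix (Fin 2) (Fin 2) (ZMod 5)) = !![1, 2; 1, -2]) : Nat.card (Subgroup.closure ({A, B, C} : Set (Matrix.GeneralLinearGroup (Fin 2) (ZMod 5)))) = 24 ∧ ∀ v w : Fin 2 → ZMod 5, v ≠ 0 → w ≠ 0 → ∃! h : Subgroup.closure ({A, B, C} : Set (Matrix.GeneralLinearGroup (Fin 2) (ZMod 5))), Matrix.mulVec ((h : Matrix.GeneralLinearGroup (Fin 2) (ZMod 5)) : Matrix (Fin 2) (Fin 2) (ZMod 5)) v = w := by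
  have : Fact (Nat.Prime 5) := ⟨by norm_num⟩
  have hA' : (A : Matrix (Fin 2) (Fin 2) (ZMod 5)) = toMat 5 (2, 0, 0, 3) := by
    rw [hA]; ext i j; fin_cases i <;> fin_cases j <;> rfl
  have hB' : (B : Matrix (Fin 2) (Fin 2) (ZMod 5)) = toMat 5 (0, 4, 1, 0) := by
    rw [hB]; ext i j; fin_cases i <;> fin_cases j <;> rfl
  have hC' : (C : Matrix (Fin 2) (Fin 2) (ZMod 5)) = toMat 5 (1, 2, 1, 3) := by
    rw [hC]; ext i j; fin_cases i <;> fin_cases j <;> rfl
  have hgen : ∀ g ∈ ({A, B, C} : Set (Matrix.GeneralLinearGroup (Fin 2) (ZMod 5))),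
      ∃ x ∈ gens, (g : Matrix (Fin 2) (Fin 2) (ZMod 5)) = toMat 5 x := by
    rintro g (rfl | rfl | rfl)
    · exact ⟨_, by decide, hA'⟩
    · exact ⟨_, by decide, hB'⟩
    · exact ⟨_, by decide, hC'⟩
  have hginv : ∀ g ∈ ({A, B, C} : Set (Matrix.GeneralLinearGroup (Fin 2) (ZMod 5))),
      ∃ x ∈ ginv, ((g⁻¹ : Matrix.GeneralLinearGroup (Fin 2) (ZMod 5)) : Matrix (Fin 2) (Fin 2) (ZMod 5)) = toMat 5 x := by
    rintro g (rfl | rfl | rfl)
    · exact ⟨(3, 0, 0, 2), by decide, coe_inv_eq hA' (by decide)⟩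
    · exact ⟨(0, 1, 4, 0), by decide, coe_inv_eq hB' (by decide)⟩
    · exact ⟨(3, 3, 4, 1), by decide, coe_inv_eq hC' (by decide)⟩
  have hgen' : ∀ x ∈ gens, ∃ g ∈ ({A, B, C} : Set (Matrix.GeneralLinearGroup (Fin 2) (ZMod 5))),
      (g : Matrix (Fin 2) (Fin 2) (ZMod 5)) = toMat 5 x := by
    intro x hx
    simp only [gens, List.mem_cons, List.mem_nil_iff, or_false] at hx
    rcases hx with rfl | rfl | rfl
    · exact ⟨A, by simp, hA'⟩
    · exact ⟨B, by simp, hB'⟩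
    · exact ⟨C, by simp, hC'⟩
  have hclosed : ∀ x ∈ elts, ∀ g ∈ gens ++ ginv, mul4 5 x g ∈ elts := by
    intro x hx g hg
    have h1 := List.all_eq_true.mp closed_check x hx
    have h2 := List.all_eq_true.mp h1 g hg
    simpa using h2
  have hI := fun h hh => exists_mem_of_mem_closure ({A, B, C} : Set (Matrix.GeneralLinearGroup (Fin 2) (ZMod 5)))
    gens ginv elts hgen hginv (by decide) hclosed (h := h) hh
  have hIII := exists_closure_of_mem ({A, B, C} : Set (Matrix.GeneralLinearGroup (Fin 2) (ZMod 5)))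
    gens elts hgen' bfs_check
  have hred : ∀ x ∈ elts, red 5 x = true := fun x hx => List.all_eq_true.mp red_check x hx
  have hcard := card_closure_eq _ elts hI hIII nodup_check hred
  have hcard' : Nat.card (Subgroup.closure ({A, B, C} : Set (Matrix.GeneralLinearGroup (Fin 2) (ZMod 5)))) = 24 := by
    rw [hcard]; rfl
  refine ⟨hcard', ?_⟩
  apply existsUnique_of_free
  · rw [hcard']; norm_num
  · intro h hh v hv hhv
    obtain ⟨x, hx, hhx⟩ := hI h hh
    exact eq_one_of_mulVec_eq hhx (List.all_eq_true.mp fix_check x hx) hv hhv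

end Cfsg.Agent.S0691
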