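import Cfsg.Statements.S0692
import Cfsg.Agent.H5.Mat2

set_option autoImplicit false
open Cfsg

namespace Cfsg.Agent.S0692

open Cfsg.H5.Mat2

def gens : List M4 := [(0, 10, 1, 0), (2, 4, 1, 8)]
def ginv : List M4 := [(0, 1, 10, 0), (8, 7, 10, 2)]
def elts : List M4 := [(1, 0, 0, 1), (0, 10, 1, 0), (2, 4, 1, 8), (10, 0, 0, 10), (10, 3, 2, 4), (4, 9, 8, 10), (8, 7, 10, 2), (0, 1, 10, 0), (9, 7, 10, 3), (3, 1, 4, 9), (1, 9, 8, 7), (6, 0, 4, 2), (7, 3, 2, 1), (1, 8, 9, 7), (7, 2, 3, 1), (3, 4, 1, 9), (7, 9, 6, 0), (9, 10, 7, 3), (0, 5, 2, 7), (1, 2, 10, 10), (6, 8, 5, 5), (8, 10, 7, 2), (10, 2, 3, 4), (5, 0, 7, 9), (4, 8, 9, 10), (9, 4, 0, 5), (1, 1, 1, 2), (6, 6, 6, 8), (5, 7, 0, 9), (2, 10, 10, 1), (8, 5, 5, 6), (9, 0, 4, 5), (4, 2, 5, 0), (2, 1, 4, 8), (0, 6, 9, 4), (10, 9, 1, 1), (5, 3, 6, 6), (0, 2, 5, 7), (1, 10, 2, 10), (6, 5, 8, 5), (7, 6, 9, 0), (6, 10, 9, 6), (3, 0, 10, 4), (10,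 6, 5, 2), (2, 7, 0, 6), (10, 10, 10, 9), (5, 5, 5, 3), (6, 4, 0, 2), (9, 1, 1, 10), (3, 6, 6, 5), (2, 0, 7, 6), (2, 5, 6, 10), (1, 7, 3, 0), (6, 9, 10, 6), (10, 5, 6, 2), (0, 8, 4, 1), (6, 1, 2, 6), (4, 0, 1, 3), (0, 9, 6, 4), (10, 1, 9, 1), (5, 6, 3, 6), (4, 5, 2, 0), (5, 1, 2, 5), (8, 0, 1, 7), (1, 5, 6, 9), (5, 9, 10, 5), (7, 10, 0, 8), (9, 5, 6, 1), (10, 8, 4, 0), (3, 3, 3, 7), (8, 9, 9, 2), (0, 7, 3, 10), (9, 6, 5, 1), (10, 4, 8, 0), (5, 2, 1, 5), (1, 6, 5, 9), (0, 3, 7, 10), (5, 10, 9, 5), (7, 0, 10, 8), (8, 4, 3, 3), (2, 9, 8, 9), (8, 1, 0, 7), (3, 8, 7, 8), (9, 3, 2, 2), (3, 5, 9, 8), (7, 1, 5, 4), (6, 2, 1, 6), (4, 1, 0, 3), (2, 6, 5, 10), (1, 3, 7, 0), (8, 8, 8, 4), (3, 2, 2, 9), (0, 4, 8, 1), (4, 3, 3, 8), (9, 9, 9, 3), (2, 3, 3, 5), (6, 7, 7, 1), (3, 10, 0, 4), (5, 8, 8, 2), (1, 4, 4, 6), (3, 7, 8, 8), (9, 2, 3, 2), (8, 3, 4, 3), (2, 8, 9, 9), (8, 6, 2, 3), (4, 10, 6, 7), (3,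 9, 5, 8), (7, 5, 1, 4), (5, 4, 4, 10), (7, 7, 7, 4), (6, 3, 3, 9), (7, 8, 8, 3), (2, 2, 2, 8), (9, 8, 8, 6), (10, 7, 7, 5), (4, 7, 7, 7), (8, 2, 6, 3), (4, 6, 10, 7), (7, 4, 4, 4), (4, 4, 4, 7)]

set_option maxRecDepth 100000 in
theorem closed_check : (elts.all fun x => (gens ++ ginv).all fun g => elts.contains (mul4 11 x g)) = true := by
  decide

set_option maxRecDepth 100000 in
theorem bfs_check : checkBFS 11 gens [] elts = true := by decide

set_option maxRecDepth 100000 in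
theorem nodup_check : elts.Nodup := by decide

set_option maxRecDepth 100000 in
theorem red_check : (elts.all fun x => red 11 x) = true := by decide

set_option maxRecDepth 100000 in
theorem fix_check : (elts.all fun x => fixFree 11 x) = true := by decide

set_option maxRecDepth 100000 in
theorem one_mem : one4 ∈ elts := by decide

set_option maxRecDepth 100000 in
theorem length_elts : elts.length = 120 := by decide

/-- An exceptional sharply doubly transitive group of degree 11^2: the listed matrices generate a subgroup of GL(2,11) of order 120 acting regularly on the non-zero vectors. -/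
theorem result (A : Matrix.GeneralLinearGroup (Fin 2) (ZMod 11)) (B : Matrix.GeneralLinearGroup (Fin 2) (ZMod 11)) (hA : (A : Matrix (Fin 2) (Fin 2) (ZMod 11)) = !![0, -1; 1, 0]) (hB : (B : Matrix (Fin 2) (Fin 2) (ZMod 11)) = !![2, 4; 1, -3]) : Nat.card (Subgroup.closure ({A, B} : Set (Matrix.GeneralLinearGroup (Fin 2) (ZMod 11)))) = 120 ∧ ∀ v w : Fin 2 → ZMod 11, v ≠ 0 → w ≠ 0 → ∃! h : Subgroup.closure ({A, B} : Set (Matrix.GeneralLinearGroup (Fin 2) (ZMod 11))), Matrix.mulVec ((h : Matrix.GeneralLinearGroup (Fin 2) (ZMod 11)) : Matrix (Fin 2) (Fin 2) (ZMod 11)) v = w := by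
  have : Fact (Nat.Prime 11) := ⟨by norm_num⟩
  have hA' : (A : Matrix (Fin 2) (Fin 2) (ZMod 11)) = toMat 11 (0, 10, 1, 0) := by
    rw [hA]; ext i j; fin_cases i <;> fin_cases j <;> rfl
  have hB' : (B : Matrix (Fin 2) (Fin 2) (ZMod 11)) = toMat 11 (2, 4, 1, 8) := by
    rw [hB]; ext i j; fin_cases i <;> fin_cases j <;> rfl
  have hgen : ∀ g ∈ ({A, B} : Set (Matrix.GeneralLinearGroup (Fin 2) (ZMod 11))),
      ∃ x ∈ gens, (g : Matrix (Fin 2) (Fin 2) (ZMod 11)) = toMat 11 x := by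
    rintro g (rfl | rfl)
    · exact ⟨_, by decide, hA'⟩
    · exact ⟨_, by decide, hB'⟩
  have hginv : ∀ g ∈ ({A, B} : Set (Matrix.GeneralLinearGroup (Fin 2) (ZMod 11))),
      ∃ x ∈ ginv, ((g⁻¹ : Matrix.GeneralLinearGroup (Fin 2) (ZMod 11)) : Matrix (Fin 2) (Fin 2) (ZMod 11)) = toMat 11 x := by
    rintro g (rfl | rfl)
    · exact ⟨(0, 1, 10, 0), by decide, coe_inv_eq hA' (by decide)⟩
    · exact ⟨(8, 7, 10, 2), by decide, coe_inv_eq hB' (by decide)⟩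
  have hgen' : ∀ x ∈ gens, ∃ g ∈ ({A, B} : Set (Matrix.GeneralLinearGroup (Fin 2) (ZMod 11))),
      (g : Matrix (Fin 2) (Fin 2) (ZMod 11)) = toMat 11 x := by
    intro x hx
    simp only [gens, List.mem_cons, List.mem_nil_iff, or_false] at hx
    rcases hx with rfl | rfl
    · exact ⟨A, by simp, hA'⟩
    · exact ⟨B, by simp, hB'⟩
  have hclosed : ∀ x ∈ elts, ∀ g ∈ gens ++ ginv, mul4 11 x g ∈ elts := by
    intro x hx g hg
    have h1 := List.all_eq_true.mp closed_check x hx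
    have h2 := List.all_eq_true.mp h1 g hg
    simpa using h2
  have hI := fun h hh => exists_mem_of_mem_closure ({A, B} : Set (Matrix.GeneralLinearGroup (Fin 2) (ZMod 11)))
    gens ginv elts hgen hginv one_mem hclosed (h := h) hh
  have hIII := exists_closure_of_mem ({A, B} : Set (Matrix.GeneralLinearGroup (Fin 2) (ZMod 11)))
    gens elts hgen' bfs_check
  have hred : ∀ x ∈ elts, red 11 x = true := fun x hx => List.all_eq_true.mp red_check x hx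
  have hcard := card_closure_eq _ elts hI hIII nodup_check hred
  have hcard' : Nat.card (Subgroup.closure ({A, B} : Set (Matrix.GeneralLinearGroup (Fin 2) (ZMod 11)))) = 120 := by
    rw [hcard, length_elts]
  refine ⟨hcard', ?_⟩
  apply existsUnique_of_free
  · rw [hcard']; norm_num
  · intro h hh v hv hhv
    obtain ⟨x, hx, hhx⟩ := hI h hh
    exact eq_one_of_mulVec_eq hhx (List.all_eq_true.mp fix_check x hx) hv hhv

end Cfsg.Agent.S0692
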