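import Cfsg.Statements.S0693
import Cfsg.Agent.H5.Mat2

set_option autoImplicit false
open Cfsg

namespace Cfsg.Agent.S0693

open Cfsg.H5.Mat2

def gens : List M4 := [(0, 58, 1, 0), (9, 15, 49, 49)]
def ginv : List M4 := [(0, 1, 58, 0), (49, 44, 10, 9)]
def elts : List M4 := [(1, 0, 0, 1), (0, 58, 1, 0), (9, 15, 49, 49), (58, 0, 0, 58), (10, 10, 9, 15), (15, 50, 49, 10), (49, 44, 10, 9), (0, 1, 58, 0), (50, 44, 10, 10), (10, 49, 15, 50), (49, 50, 49, 44), (48, 20, 46, 45), (44, 10, 9, 49), (49, 49, 50, 44), (44, 9, 10, 49), (10, 15, 49, 50), (13, 14, 48, 20), (50, 10, 44, 10), (20, 11, 45, 13), (55, 48, 23, 4), (1, 29, 4, 58), (49, 10, 44, 9), (10, 9, 10, 15), (11, 39, 13, 14), (15, 49, 50, 10), (14, 46, 20, 11), (36, 55, 55, 48), (55, 1, 1, 29), (11, 13, 39, 14), (48, 4, 4, 36), (29, 58, 58, 55), (14, 20, 46, 11), (46, 45, 11, 39), (9, 49, 15, 49), (39, 48, 14, 46), (4, 11, 36, 55), (58, 30, 55, 1), (20, 45, 11, 13), (55, 23, 48, 4), (1, 4, 29, 58),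 (13, 48, 14, 20), (28, 35, 34, 32), (38, 31, 30, 54), (35, 32, 31, 25), (45, 13, 39, 48), (23, 4, 4, 11), (4, 58, 58, 30), (48, 46, 20, 45), (11, 55, 55, 23), (30, 1, 1, 4), (45, 39, 13, 48), (25, 27, 28, 35), (29, 5, 38, 31), (28, 34, 35, 32), (35, 31, 32, 25), (31, 21, 54, 29), (32, 24, 25, 28), (54, 28, 29, 38), (39, 14, 48, 46), (4, 36, 11, 55), (58, 55, 30, 1), (46, 11, 45, 39), (31, 24, 25, 27), (21, 28, 29, 5), (24, 27, 28, 34), (27, 34, 35, 31), (5, 30, 31, 21), (34, 31, 32, 24), (30, 21, 54, 28), (5, 38, 38, 53), (10, 19, 19, 48), (28, 5, 38, 30), (34, 32, 31, 24), (30, 54, 21, 28), (31, 25, 24, 27), (24, 28, 27, 34), (28, 38, 5, 30), (27, 35, 34, 31), (5, 31, 30, 21), (21, 6, 5, 38), (40, 11, 10, 19), (21, 29, 28, 5), (38, 54, 53, 21), (19, 49, 48, 40), (18, 19, 45, 41), (25, 16, 42, 34), (32, 25, 24, 28), (54, 29, 28, 38), (25, 28, 27, 35), (29, 38, 5, 31), (54, 21, 21, 6), (49, 40, 40, 11), (31, 54, 21, 29), (6, 38, 38, 54), (11, 19,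 19, 49), (14, 18, 18, 19), (17, 25, 25, 16), (38, 30, 31, 54), (19, 41, 41, 14), (16, 34, 34, 17), (38, 53, 54, 21), (19, 48, 49, 40), (21, 5, 6, 38), (40, 10, 11, 19), (41, 40, 14, 18), (34, 43, 17, 25), (18, 45, 19, 41), (25, 42, 16, 34), (42, 34, 34, 43), (56, 52, 52, 3), (40, 18, 18, 45), (53, 21, 21, 5), (48, 40, 40, 10), (45, 41, 41, 40), (43, 25, 25, 42), (7, 56, 56, 52), (41, 14, 40, 18), (34, 17, 43, 25), (52, 3, 3, 7), (3, 7, 7, 56)]
def scal : List ℕ := [1, 4, 16, 5, 20, 21, 25, 41, 46, 7, 28, 53, 35, 22, 29, 57, 51, 27, 49, 19, 17, 9, 36, 26, 45, 3, 12, 48, 15]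

set_option maxRecDepth 100000 in
theorem closed_check : (elts.all fun x => (gens ++ ginv).all fun g => elts.contains (mul4 59 x g)) = true := by
  decide

set_option maxRecDepth 100000 in
theorem bfs_check : checkBFS 59 gens [] elts = true := by decide

set_option maxRecDepth 100000 in
theorem nodup_check : elts.Nodup := by decide

set_option maxRecDepth 100000 in
theorem red_check : (elts.all fun x => red 59 x) = true := by decide

set_option maxRecDepth 100000 in
theorem fix_check : (elts.all fun x => scal.all fun s => fixFreeS 59 x s) = true := by decide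

set_option maxRecDepth 100000 in
theorem one_mem : one4 ∈ elts := by decide

set_option maxRecDepth 100000 in
theorem length_elts : elts.length = 120 := by decide

theorem length_scal : scal.length = 29 := by decide

theorem scal_closed : (scal.all fun s => scal.contains ((s * 4) % 59) && scal.contains ((s * 15) % 59)) = true := by
  decide

theorem four_mul_fifteen : ((4 : ℕ) : ZMod 59) * ((15 : ℕ) : ZMod 59) = 1 := by decide

theorem four_pow : (((4 : ℕ) : ZMod 59)) ^ 29 = 1 := by decide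

theorem four_ne_one : ¬ ((4 : ZMod 59) = 1) := by decide

/-- An exceptional sharply doubly transitive group of degree 59^2: the listed matrices generate a subgroup of GL(2,59) of order 3480 acting regularly on the non-zero vectors. -/
theorem result (A : Matrix.GeneralLinearGroup (Fin 2) (ZMod 59)) (B : Matrix.GeneralLinearGroup (Fin 2) (ZMod 59)) (C : Matrix.GeneralLinearGroup (Fin 2) (ZMod 59)) (hA : (A : Matrix (Fin 2) (Fin 2) (ZMod 59)) = !![0, -1; 1, 0]) (hB : (B : Matrix (Fin 2) (Fin 2) (ZMod 59)) = !![9, 15; -10, -10]) (hC : (C : Matrix (Fin 2) (Fin 2) (ZMod 59)) = !![4, 0; 0, 4]) : Nat.card (Subgroup.closure ({A, B, C} : Set (Matrix.GeneralLinearGroup (Fin 2) (ZMod 59)))) = 3480 ∧ ∀ v w : Fin 2 → ZMod 59, v ≠ 0 → w ≠ 0 → ∃! h : Subgroup.closure ({A, B, C} : Set (Matrix.GeneralLinearGroup (Fin 2) (ZMod 59))), Matrix.mulVec ((h : Matrix.GeneralLinearGroup (Fin 2) (ZMod 59)) : Matrix (Fin 2) (Fin 2) (ZMod 59)) v = w := by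
  have hp59 : Fact (Nat.Prime 59) := ⟨by norm_num⟩
  have hp29 : Fact (Nat.Prime 29) := ⟨by norm_num⟩
  have hA' : (A : Matrix (Fin 2) (Fin 2) (ZMod 59)) = toMat 59 (0, 58, 1, 0) := by
    rw [hA]; ext i j; fin_cases i <;> fin_cases j <;> rfl
  have hB' : (B : Matrix (Fin 2) (Fin 2) (ZMod 59)) = toMat 59 (9, 15, 49, 49) := by
    rw [hB]; ext i j; fin_cases i <;> fin_cases j <;> rfl
  have hC' : (C : Matrix (Fin 2) (Fin 2) (ZMod 59)) = ((4 : ℕ) : ZMod 59) • (1 : Matrix (Fin 2) (Fin 2) (ZMod 59)) := by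
    rw [hC]; ext i j; fin_cases i <;> fin_cases j <;> simp
  have hCinv : ((C⁻¹ : Matrix.GeneralLinearGroup (Fin 2) (ZMod 59)) : Matrix (Fin 2) (Fin 2) (ZMod 59)) =
      ((15 : ℕ) : ZMod 59) • (1 : Matrix (Fin 2) (Fin 2) (ZMod 59)) := by
    apply Units.inv_eq_of_mul_eq_one_right
    rw [hC', Matrix.smul_mul, Matrix.mul_smul, Matrix.mul_one, smul_smul]
    rw [four_mul_fifteen, one_smul]
  -- Part I for the full group
  have hgen : ∀ g ∈ ({A, B, C} : Set (Matrix.GeneralLinearGroup (Fin 2) (ZMod 59))),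
      (∃ x ∈ gens, (g : Matrix (Fin 2) (Fin 2) (ZMod 59)) = toMat 59 x) ∨
      (g : Matrix (Fin 2) (Fin 2) (ZMod 59)) = ((4 : ℕ) : ZMod 59) • (1 : Matrix (Fin 2) (Fin 2) (ZMod 59)) := by
    rintro g (rfl | rfl | rfl)
    · exact Or.inl ⟨_, by decide, hA'⟩
    · exact Or.inl ⟨_, by decide, hB'⟩
    · exact Or.inr hC'
  have hginv : ∀ g ∈ ({A, B, C} : Set (Matrix.GeneralLinearGroup (Fin 2) (ZMod 59))),
      (∃ x ∈ ginv, ((g⁻¹ : Matrix.GeneralLinearGroup (Fin 2) (ZMod 59)) : Matrix (Fin 2) (Fin 2) (ZMod 59)) = toMat 59 x) ∨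
      ((g⁻¹ : Matrix.GeneralLinearGroup (Fin 2) (ZMod 59)) : Matrix (Fin 2) (Fin 2) (ZMod 59)) =
        ((15 : ℕ) : ZMod 59) • (1 : Matrix (Fin 2) (Fin 2) (ZMod 59)) := by
    rintro g (rfl | rfl | rfl)
    · exact Or.inl ⟨(0, 1, 58, 0), by decide, coe_inv_eq hA' (by decide)⟩
    · exact Or.inl ⟨(49, 44, 10, 9), by decide, coe_inv_eq hB' (by decide)⟩
    · exact Or.inr hCinv
  have hclosed : ∀ x ∈ elts, ∀ g ∈ gens ++ ginv, mul4 59 x g ∈ elts := by
    intro x hx g hg
    have h1 := List.all_eq_true.mp closed_check x hx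
    have h2 := List.all_eq_true.mp h1 g hg
    simpa using h2
  have hclosedS : ∀ s ∈ scal, (s * 4) % 59 ∈ scal ∧ (s * 15) % 59 ∈ scal := by
    intro s hs
    have h1 := List.all_eq_true.mp scal_closed s hs
    simpa using h1
  have hI := fun h hh => exists_mem_of_mem_closure_scal
    ({A, B, C} : Set (Matrix.GeneralLinearGroup (Fin 2) (ZMod 59)))
    gens ginv elts 4 15 scal hgen hginv one_mem (by decide) hclosed hclosedS (h := h) hh
  -- the subgroup generated by A and B has order 120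
  have hgen0 : ∀ g ∈ ({A, B} : Set (Matrix.GeneralLinearGroup (Fin 2) (ZMod 59))),
      ∃ x ∈ gens, (g : Matrix (Fin 2) (Fin 2) (ZMod 59)) = toMat 59 x := by
    rintro g (rfl | rfl)
    · exact ⟨_, by decide, hA'⟩
    · exact ⟨_, by decide, hB'⟩
  have hginv0 : ∀ g ∈ ({A, B} : Set (Matrix.GeneralLinearGroup (Fin 2) (ZMod 59))),
      ∃ x ∈ ginv, ((g⁻¹ : Matrix.GeneralLinearGroup (Fin 2) (ZMod 59)) : Matrix (Fin 2) (Fin 2) (ZMod 59)) = toMat 59 x := by
    rintro g (rfl | rfl)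
    · exact ⟨(0, 1, 58, 0), by decide, coe_inv_eq hA' (by decide)⟩
    · exact ⟨(49, 44, 10, 9), by decide, coe_inv_eq hB' (by decide)⟩
  have hgen0' : ∀ x ∈ gens, ∃ g ∈ ({A, B} : Set (Matrix.GeneralLinearGroup (Fin 2) (ZMod 59))),
      (g : Matrix (Fin 2) (Fin 2) (ZMod 59)) = toMat 59 x := by
    intro x hx
    simp only [gens, List.mem_cons, List.mem_nil_iff, or_false] at hx
    rcases hx with rfl | rfl
    · exact ⟨A, by simp, hA'⟩
    · exact ⟨B, by simp, hB'⟩
  have hI0 := fun h hh => exists_mem_of_mem_closure ({A, B} : Set (Matrix.GeneralLinearGroup (Fin 2) (ZMod 59)))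
    gens ginv elts hgen0 hginv0 one_mem hclosed (h := h) hh
  have hIII0 := exists_closure_of_mem ({A, B} : Set (Matrix.GeneralLinearGroup (Fin 2) (ZMod 59)))
    gens elts hgen0' bfs_check
  have hred : ∀ x ∈ elts, red 59 x = true := fun x hx => List.all_eq_true.mp red_check x hx
  have hcard0 : Nat.card (Subgroup.closure ({A, B} : Set (Matrix.GeneralLinearGroup (Fin 2) (ZMod 59)))) = 120 := by
    rw [card_closure_eq _ elts hI0 hIII0 nodup_check hred, length_elts]
  -- the order of C is 29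
  have hC29 : C ^ 29 = 1 := by
    apply Units.ext
    rw [Units.val_pow_eq_pow_val, hC', smul_pow, one_pow, Units.val_one]
    rw [four_pow, one_smul]
  have hC1 : C ≠ 1 := by
    intro h
    have h2 : (C : Matrix (Fin 2) (Fin 2) (ZMod 59)) 0 0 = (1 : Matrix (Fin 2) (Fin 2) (ZMod 59)) 0 0 := by
      rw [h]; rfl
    rw [hC] at h2
    simp at h2
    exact four_ne_one h2
  have hordC : orderOf C = 29 := orderOf_eq_prime hC29 hC1
  -- the order of the full group
  set H := Subgroup.closure ({A, B, C} : Set (Matrix.GeneralLinearGroup (Fin 2) (ZMod 59))) with hH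
  have h120 : 120 ∣ Nat.card H := by
    rw [← hcard0]
    apply Subgroup.card_dvd_of_le
    apply Subgroup.closure_mono
    intro g hg
    rcases hg with rfl | rfl
    · simp
    · simp
  have h29 : 29 ∣ Nat.card H := by
    rw [← hordC]
    have hCH : C ∈ H := Subgroup.subset_closure (by simp)
    have := orderOf_dvd_natCard (⟨C, hCH⟩ : H)
    rwa [Subgroup.orderOf_mk] at this
  have h3480 : 3480 ∣ Nat.card H := by
    have : Nat.Coprime 120 29 := by norm_num
    exact this.mul_dvd_of_dvd_of_dvd h120 h29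
  have hle : Nat.card H ≤ 3480 := by
    have := card_le_of_scal H elts scal (fun h hh => hI h hh)
    rwa [length_elts, length_scal] at this
  have hfin : Finite (Matrix.GeneralLinearGroup (Fin 2) (ZMod 59)) := by
    have : NeZero (59 : ℕ) := ⟨by norm_num⟩
    infer_instance
  have hpos : 0 < Nat.card H := Nat.card_pos
  have hcard : Nat.card H = 3480 := le_antisymm hle (Nat.le_of_dvd hpos h3480)
  refine ⟨hcard, ?_⟩
  apply existsUnique_of_free
  · rw [hcard]; norm_num
  · intro h hh v hv hhv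
    obtain ⟨x, hx, s, hs, hhx⟩ := hI h hh
    have h1 := List.all_eq_true.mp fix_check x hx
    have h2 := List.all_eq_true.mp h1 s hs
    exact eq_one_of_mulVec_eq_scal hhx h2 hv hhv

end Cfsg.Agent.S0693
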