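import Mathlib
import Cfsg.Statements.S0695
import Cfsg.Agent.H5.RegNormal

set_option autoImplicit false
open Cfsg

namespace Cfsg.Agent.S0695

open MulAction SubMulAction Cfsg.H5

/-- A regular normal subgroup of a doubly primitive group of finite degree at least 2 is an elementary abelian 2-group (and the degree is a power of 2), unless the degree is 3. -/
theorem result {G : Type*} [Group G] {X : Type*} [Fintype X] [MulAction G X] (hX : 2 ≤ Fintype.card X) (h2 : MulAction.IsMultiplyPreprimitive G X 2) (N : Subgroup G) [N.Normal] (htrans : MulAction.IsPretransitive N X) (hreg : ∀ x : X, MulAction.stabilizer N x = ⊥) : Fintype.card X = 3 ∨ (IsMulCommutative N ∧ (∀ n ∈ N, n ^ 2 = 1) ∧ ∃ m : ℕ, Fintype.card X = 2 ^ m) := by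
  classical
  have hne : Nonempty X := Fintype.card_pos_iff.mp (by omega)
  obtain ⟨a⟩ := hne
  have hprim : IsPreprimitive (fixingSubgroup G ({a} : Set X))
      (ofFixingSubgroup G ({a} : Set X)) :=
    h2.isPreprimitive_ofFixingSubgroup (by rw [Set.encard_singleton]; rfl)
  have hcardN : Nat.card N = Nat.card X := card_eq_of_regular N hreg a
  have hfinN : Finite N := by
    apply Nat.finite_of_card_ne_zero
    rw [hcardN, Nat.card_eq_fintype_card]
    omega
  by_cases hexp : ∀ n : N, n * n = 1
  · right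
    have hinv : ∀ n : N, n⁻¹ = n := fun n => (eq_inv_of_mul_eq_one_left (hexp n)).symm
    refine ⟨⟨⟨fun x y => ?_⟩⟩, ?_, ?_⟩
    · calc x * y = (x * y)⁻¹ := (hinv _).symm
        _ = y⁻¹ * x⁻¹ := mul_inv_rev x y
        _ = y * x := by rw [hinv, hinv]
    · intro n hn
      have := congrArg Subtype.val (hexp ⟨n, hn⟩)
      rw [sq]
      exact this
    · have hp : IsPGroup 2 N := by
        intro n
        refine ⟨1, ?_⟩
        rw [pow_one, sq]
        exact hexp n
      have : Fact (Nat.Prime 2) := ⟨Nat.prime_two⟩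
      obtain ⟨m, hm⟩ := IsPGroup.iff_card.mp hp
      refine ⟨m, ?_⟩
      rw [← Nat.card_eq_fintype_card, ← hcardN, hm]
  · left
    push Not at hexp
    obtain ⟨n₀, hn₀⟩ := hexp
    have hν : ∀ x : X, ∃ n : N, n • a = x := fun x => MulAction.exists_smul_eq N a x
    choose ν hν using hν
    have hνu : ∀ n : N, ν (n • a) = n := fun n =>
      eq_of_smul_eq_of_stabilizer_eq_bot N hreg (hν (n • a))
    -- points different from `a`
    have hne_a : ∀ n : N, n ≠ 1 → n • a ∉ ({a} : Set X) := by
      intro n hn h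
      rw [Set.mem_singleton_iff] at h
      apply hn
      apply eq_of_smul_eq_of_stabilizer_eq_bot N hreg (a := a)
      rw [h, one_smul]
    have hν1 : ∀ y : ofFixingSubgroup G ({a} : Set X), ν (y : X) ≠ 1 := by
      intro y h
      have := hν (y : X)
      rw [h, one_smul] at this
      exact y.2 this.symm
    let ι : ofFixingSubgroup G ({a} : Set X) → ofFixingSubgroup G ({a} : Set X) :=
      fun y => ⟨(ν (y : X))⁻¹ • a, hne_a _ (inv_ne_one.mpr (hν1 y))⟩
    have hι : ∀ (g : fixingSubgroup G ({a} : Set X)) (y : ofFixingSubgroup G ({a} : Set X)),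
        ι (g • y) = g • ι y := by
      intro g y
      have hga : (g : G) • a = a := (mem_fixingSubgroup_iff G).mp g.2 a rfl
      have hga' : (g : G)⁻¹ • a = a := inv_smul_eq_iff.mpr hga.symm
      apply Subtype.ext
      show (ν ((g : G) • (y : X)))⁻¹ • a = (g : G) • ((ν (y : X))⁻¹ • a)
      have hc : ν ((g : G) • (y : X)) =
          ⟨(g : G) * (ν (y : X) : G) * (g : G)⁻¹, ‹N.Normal›.conj_mem _ (ν (y : X)).2 _⟩ := by
        have h1 : (g : G) • (y : X) = (⟨(g : G) * (ν (y : X) : G) * (g : G)⁻¹,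
            ‹N.Normal›.conj_mem _ (ν (y : X)).2 _⟩ : N) • a := by
          show (g : G) • (y : X) = ((g : G) * (ν (y : X) : G) * (g : G)⁻¹) • a
          rw [mul_smul, mul_smul, hga']
          congr 1
          exact (hν (y : X)).symm
        rw [h1, hνu]
      rw [hc]
      show ((g : G) * (ν (y : X) : G) * (g : G)⁻¹)⁻¹ • a = (g : G) • ((ν (y : X) : G)⁻¹ • a)
      have e : ((g : G) * (ν (y : X) : G) * (g : G)⁻¹)⁻¹ = (g : G) * (ν (y : X) : G)⁻¹ * (g : G)⁻¹ := by
        group
      rw [e, mul_smul, mul_smul, hga']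
    have hinv : ∀ y, ι (ι y) = y := by
      intro y
      apply Subtype.ext
      show (ν ((ν (y : X))⁻¹ • a))⁻¹ • a = (y : X)
      rw [hνu, inv_inv, hν]
    have hn₀1 : n₀ ≠ 1 := by
      intro h
      apply hn₀
      rw [h, one_mul]
    let y₀ : ofFixingSubgroup G ({a} : Set X) := ⟨n₀ • a, hne_a n₀ hn₀1⟩
    have hy₀ : ι y₀ ≠ y₀ := by
      intro h
      have h1 : (ν (n₀ • a))⁻¹ • a = n₀ • a := congrArg Subtype.val h
      rw [hνu] at h1
      have h2 := eq_of_smul_eq_of_stabilizer_eq_bot N hreg h1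
      apply hn₀
      calc n₀ * n₀ = n₀⁻¹ * n₀ := by rw [h2]
        _ = 1 := inv_mul_cancel n₀
    have hc := card_eq_two_of_equivariant_involution ι hι hinv y₀ hy₀
    have h3 : Nat.card (ofFixingSubgroup G ({a} : Set X)) = (({a} : Set X)ᶜ).ncard :=
      Nat.card_coe_set_eq _
    have h4 := Set.ncard_add_ncard_compl ({a} : Set X)
    rw [Set.ncard_singleton, Nat.card_eq_fintype_card] at h4
    omega

end Cfsg.Agent.S0695
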