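import Mathlib
import Cfsg.Statements.S0696
import Cfsg.Agent.H5.RegNormal
import Cfsg.Agent.S0695

set_option autoImplicit false
open Cfsg

namespace Cfsg.Agent.S0696

open MulAction SubMulAction Cfsg.H5

/-- A triply primitive group of degree at least 3 having a regular normal subgroup has degree 3 or 4. -/
theorem result {G : Type*} [Group G] {X : Type*} [Fintype X] [MulAction G X] (hX : 3 ≤ Fintype.card X) (h3 : MulAction.IsMultiplyPreprimitive G X 3) (N : Subgroup G) [N.Normal] (htrans : MulAction.IsPretransitive N X) (hreg : ∀ x : X, MulAction.stabilizer N x = ⊥) : Fintype.card X = 3 ∨ Fintype.card X = 4 := by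
  classical
  have h2 : MulAction.IsMultiplyPreprimitive G X 2 := by
    apply isMultiplyPreprimitive_of_le G X h3 (by norm_num)
    rw [ENat.card_eq_coe_fintype_card]
    exact_mod_cast hX
  rcases Cfsg.Agent.S0695.result (by omega) h2 N htrans hreg with h | ⟨hcomm, hexp, m, hm⟩
  · exact Or.inl h
  right
  have hne : Nonempty X := Fintype.card_pos_iff.mp (by omega)
  obtain ⟨a⟩ := hne
  have hcardN : Nat.card N = Nat.card X := card_eq_of_regular N hreg a
  have hfinN : Finite N := by
    apply Nat.finite_of_card_ne_zero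
    rw [hcardN, Nat.card_eq_fintype_card]
    omega
  have hnt : Nontrivial N := by
    rw [← Finite.one_lt_card_iff_nontrivial, hcardN, Nat.card_eq_fintype_card]
    omega
  obtain ⟨n₀, hn₀⟩ := exists_ne (1 : N)
  have hsq : n₀ * n₀ = 1 := by
    apply Subtype.ext
    have := hexp n₀ n₀.2
    rw [sq] at this
    exact this
  have hn₀inv : n₀⁻¹ = n₀ := (eq_inv_of_mul_eq_one_left hsq).symm
  have hfree : ∀ x : X, n₀ • x ≠ x := by
    intro x h
    apply hn₀
    apply eq_of_smul_eq_of_stabilizer_eq_bot N hreg (a := x)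
    rw [h, one_smul]
  have hab : a ≠ n₀ • a := fun h => hfree a h.symm
  set s : Set X := {a, n₀ • a} with hs
  have hprim : IsPreprimitive (fixingSubgroup G s) (ofFixingSubgroup G s) :=
    h3.isPreprimitive_ofFixingSubgroup (by rw [hs, Set.encard_pair hab]; rfl)
  have hmem : ∀ y : X, y ∉ s → n₀ • y ∉ s := by
    intro y hy h
    rcases h with h | h
    · apply hy
      right
      have : y = n₀⁻¹ • a := by rw [← h, inv_smul_smul]
      rw [this, hn₀inv]
      rfl
    · apply hy
      left
      exact smul_left_cancel n₀ h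
  let ι : ofFixingSubgroup G s → ofFixingSubgroup G s := fun y => ⟨n₀ • (y : X), hmem _ y.2⟩
  have hι : ∀ (g : fixingSubgroup G s) (y : ofFixingSubgroup G s), ι (g • y) = g • ι y := by
    intro g y
    have hga : (g : G) • a = a := (mem_fixingSubgroup_iff G).mp g.2 a (Or.inl rfl)
    have hgb : (g : G) • (n₀ • a) = n₀ • a := (mem_fixingSubgroup_iff G).mp g.2 _ (Or.inr rfl)
    have hga' : (g : G)⁻¹ • a = a := inv_smul_eq_iff.mpr hga.symm
    have hc : (⟨(g : G) * (n₀ : G) * (g : G)⁻¹, ‹N.Normal›.conj_mem _ n₀.2 _⟩ : N) = n₀ := by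
      apply eq_of_smul_eq_of_stabilizer_eq_bot N hreg (a := a)
      show ((g : G) * (n₀ : G) * (g : G)⁻¹) • a = n₀ • a
      rw [mul_smul, mul_smul, hga']
      exact hgb
    have hc' : (g : G) * (n₀ : G) = (n₀ : G) * (g : G) := by
      have : (g : G) * (n₀ : G) * (g : G)⁻¹ = (n₀ : G) := congrArg Subtype.val hc
      calc (g : G) * (n₀ : G) = ((g : G) * (n₀ : G) * (g : G)⁻¹) * g := by group
        _ = (n₀ : G) * g := by rw [this]
    apply Subtype.ext
    show (n₀ : G) • ((g : G) • (y : X)) = (g : G) • ((n₀ : G) • (y : X))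
    rw [← mul_smul, ← mul_smul, hc']
  have hinv : ∀ y, ι (ι y) = y := by
    intro y
    apply Subtype.ext
    show n₀ • (n₀ • (y : X)) = y
    rw [← mul_smul, hsq, one_smul]
  have h3' : Nat.card (ofFixingSubgroup G s) = (sᶜ).ncard := Nat.card_coe_set_eq _
  have h4 := Set.ncard_add_ncard_compl s
  have h5 : s.ncard = 2 := Set.ncard_pair hab
  rw [h5, Nat.card_eq_fintype_card] at h4
  have hYne : Nonempty (ofFixingSubgroup G s) := by
    apply (Nat.card_pos_iff.mp _).1
    rw [h3']
    omega
  obtain ⟨y₀⟩ := hYne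
  have hy₀ : ι y₀ ≠ y₀ := by
    intro h
    exact hfree (y₀ : X) (congrArg Subtype.val h)
  have hc := card_eq_two_of_equivariant_involution ι hι hinv y₀ hy₀
  omega

end Cfsg.Agent.S0696
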