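import Mathlib
import Cfsg.Statements.S0697
import Cfsg.Agent.H5.KPrim

set_option autoImplicit false
open Cfsg

namespace Cfsg.Agent.S0697

open MulAction

/-- In a `k`-primitive permutation group which is not the whole symmetric group, a non-trivial non-regular normal subgroup is `k`-transitive. -/
theorem result {α : Type*} [Fintype α] [DecidableEq α] (G : Subgroup (Equiv.Perm α)) {k : ℕ} (hk : 1 ≤ k) (hkn : k ≤ Fintype.card α) (hG : MulAction.IsMultiplyPreprimitive G α k) (htop : G ≠ ⊤) (H : Subgroup G) [H.Normal] (hH : H ≠ ⊥) (hnr : ∃ a : α, MulAction.stabilizer H a ≠ ⊥) : MulAction.IsMultiplyPretransitive H α k := by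
  apply Cfsg.H5.KPrim.isMultiplyPretransitive_of_normal k hk (M := G) (X := α)
  · rw [Nat.card_eq_fintype_card]
    exact hkn
  · exact hG
  · intro hsurj
    apply htop
    rw [eq_top_iff]
    intro σ _
    obtain ⟨g, hg⟩ := hsurj σ
    have : (g : Equiv.Perm α) = σ := by
      rw [← hg]
      ext x
      rfl
    rw [← this]
    exact g.2
  · obtain ⟨a, ha⟩ := hnr
    have : ∃ h : H, h ∈ MulAction.stabilizer H a ∧ h ≠ 1 := by
      by_contra hcon
      push Not at hcon
      apply ha
      rw [eq_bot_iff]
      intro h hh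
      rw [Subgroup.mem_bot]
      exact hcon h hh
    obtain ⟨h, hh, hh1⟩ := this
    have hne : ((h : G) : Equiv.Perm α) ≠ 1 := by
      intro h1
      apply hh1
      apply Subtype.ext
      apply Subtype.ext
      exact h1
    have hex : ∃ b : α, ((h : G) : Equiv.Perm α) b ≠ b := by
      by_contra hcon
      push Not at hcon
      apply hne
      ext x
      exact hcon x
    obtain ⟨b, hb⟩ := hex
    exact ⟨(h : G), h.2, a, b, hh, hb⟩

end Cfsg.Agent.S0697
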