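-- Statement S0698.
import Cfsg.Statements.S0698
import Cfsg.Agent.Lib.Helper29.MultTrans

set_option autoImplicit false
open Cfsg

namespace Cfsg.Agent.S0698

/-- Jordan's Theorem on normal subgroups of multiply transitive groups: if `G` is `k`-transitive (`k > 1`) of degree greater than `k`, a non-trivial normal subgroup is `(k-1)`-transitive, except possibly for `k = 3` when it may be an elementary abelian 2-group. -/
theorem result {α : Type*} [Fintype α] [DecidableEq α] (G : Subgroup (Equiv.Perm α)) {k : ℕ} (hk : 1 < k) (hdeg : k < Fintype.card α) (hG : MulAction.IsMultiplyPretransitive G α k) (N : Subgroup G) [N.Normal] (hN : N ≠ ⊥) : MulAction.IsMultiplyPretransitive N α (k - 1) ∨ (k = 3 ∧ IsMulCommutative N ∧ ∀ n ∈ N, n ^ 2 = 1) := by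
  classical
  open Cfsg.Agent.Helper29.MultTrans in
  have hfix : FixesOn G ∅ := fun _ _ s hs => absurd hs (Set.notMem_empty s)
  have hNG : N.map G.subtype ≤ G := by
    rintro _ ⟨n, _, rfl⟩; exact n.2
  have hnorm : NormalizedBy G (N.map G.subtype) := by
    rintro g hg _ ⟨n, hn, rfl⟩
    refine ⟨⟨g, hg⟩ * n * ⟨g, hg⟩⁻¹, ?_, rfl⟩
    exact ‹N.Normal›.conj_mem n hn ⟨g, hg⟩
  have hN' : N.map G.subtype ≠ ⊥ := by
    intro h
    exact hN ((Subgroup.map_eq_bot_iff_of_injective N G.subtype_injective).mp h)
  have hcard : Nat.card α = Fintype.card α := Nat.card_eq_fintype_card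
  have hT : Trans G ∅ k := trans_of_isMultiplyPretransitive G k hG (by rw [hcard]; omega)
  have hd : k < ((∅ : Set α)ᶜ).ncard := by
    rw [Set.compl_empty, Set.ncard_univ, hcard]; exact hdeg
  rcases jordan k (by omega) G (N.map G.subtype) ∅ hfix hNG hnorm hN' hT hd with h | ⟨hk3, _, hexp⟩
  · exact Or.inl (isMultiplyPretransitive_of_trans G N (k - 1) h)
  · right
    have hexp' : ∀ n ∈ N, n ^ 2 = 1 := by
      intro n hn
      have := hexp (G.subtype n) ⟨n, hn, rfl⟩
      apply Subtype.ext
      rw [pow_two]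
      exact this
    refine ⟨hk3, ⟨⟨fun a b => ?_⟩⟩, hexp'⟩
    have ha := hexp' a a.2
    have hb := hexp' b b.2
    have hab := hexp' (a * b) (N.mul_mem a.2 b.2)
    apply Subtype.ext
    show (a : G) * b = b * a
    have h1 : (a : G) * b * (a * b) = 1 := by rw [← pow_two]; exact hab
    have h2 : (a : G) * a = 1 := by rw [← pow_two]; exact ha
    have h3 : (b : G) * b = 1 := by rw [← pow_two]; exact hb
    calc (a : G) * b = (a : G) * b * ((a * b) * (b * a)) := by
            rw [show ((a : G) * b) * (b * a) = a * (b * b) * a by group, h3, mul_one, h2, mul_one]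
      _ = ((a : G) * b * (a * b)) * (b * a) := by group
      _ = b * a := by rw [h1, one_mul]

end Cfsg.Agent.S0698
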