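-- Statement S0699.
import Cfsg.Statements.S0699
import Cfsg.Agent.Lib.Helper29.Generous

set_option autoImplicit false
open Cfsg

namespace Cfsg.Agent.S0699

open Cfsg.Agent.Helper29.MultTrans Cfsg.Agent.Helper29.Generous

variable {α : Type*}

open scoped Pointwise

theorem isPGroup_zpowers {G : Type*} [Group G] {p k : ℕ} (x : G) (hx : x ^ p ^ k = 1) :
    IsPGroup p (Subgroup.zpowers x) := by
  rintro ⟨g, hg⟩
  obtain ⟨i, rfl⟩ := Subgroup.mem_zpowers_iff.mp hg
  refine ⟨k, ?_⟩
  ext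
  simp only [Subgroup.coe_pow, Subgroup.coe_one]
  rw [← zpow_natCast, ← zpow_mul, mul_comm, zpow_mul, zpow_natCast, hx, one_zpow]

/-- a `p`-group of permutations fixes a point in every invariant set of size prime to `p` -/
theorem exists_fixed_of_pgroup {p : ℕ} [Fact p.Prime] {P : Subgroup (Equiv.Perm α)} (hP : IsPGroup p P)
    (T : Set α) (hinv : ∀ g ∈ P, ∀ z ∈ T, g z ∈ T) (hcard : ¬ p ∣ Nat.card T) :
    ∃ y ∈ T, ∀ g ∈ P, g y = y := by
  let sub : SubMulAction P α :=
    { carrier := T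
      smul_mem' := fun q z hz => hinv q.1 q.2 z hz }
  have hcard' : ¬ p ∣ Nat.card sub := hcard
  obtain ⟨⟨y, hy⟩, hfix⟩ := hP.nonempty_fixed_point_of_prime_not_dvd_card sub hcard'
  refine ⟨y, hy, fun g hg => ?_⟩
  have := hfix ⟨g, hg⟩
  exact congrArg Subtype.val this

theorem odd_pow_swap {t : Equiv.Perm α} {a b : α} (hab : t a = b) (hba : t b = a) {m : ℕ} (hm : Odd m) :
    (t ^ m) a = b ∧ (t ^ m) b = a := by
  obtain ⟨j, rfl⟩ := hm
  have h2 : ∀ j : ℕ, (t ^ (2 * j)) a = a ∧ (t ^ (2 * j)) b = b := by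
    intro j
    induction j with
    | zero => simp
    | succ j ih =>
      rw [show 2 * (j + 1) = 2 * j + 1 + 1 by ring, pow_succ, pow_succ]
      simp only [Equiv.Perm.mul_apply]
      rw [hab, hba, hab]
      exact ih
  rw [pow_succ]
  simp only [Equiv.Perm.mul_apply]
  rw [hab, hba]
  exact ⟨(h2 j).2, (h2 j).1⟩

/-- in a 2-transitive group of odd degree, two points are swapped by an element fixing a third point -/
theorem exists_swap_fix [Fintype α] [DecidableEq α] {N : Subgroup (Equiv.Perm α)} (hodd : Odd (Fintype.card α))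
    (hN2 : Trans N ∅ 2) {a b : α} (hab : a ≠ b) :
    ∃ t ∈ N, ∃ c, c ≠ a ∧ c ≠ b ∧ t a = b ∧ t b = a ∧ t c = c := by
  obtain ⟨t0, ht0, h1, h2⟩ := hN2.two le_rfl hab hab.symm (Set.notMem_empty _) (Set.notMem_empty _)
    (Set.notMem_empty _) (Set.notMem_empty _)
  obtain ⟨k, m, hm, hkm⟩ := Nat.exists_eq_two_pow_mul_odd (orderOf_pos t0).ne'
  have ht : (t0 ^ m) ^ 2 ^ k = 1 := by
    rw [← pow_mul, mul_comm, ← hkm, pow_orderOf_eq_one]
  obtain ⟨hta, htb⟩ := odd_pow_swap h1 h2 hm
  have hP := isPGroup_zpowers (p := 2) (t0 ^ m) ht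
  have hTc : Nat.card (({a, b} : Set α)ᶜ : Set α) + 2 = Fintype.card α := by
    rw [Nat.card_coe_set_eq, ← Nat.card_eq_fintype_card, ← Set.ncard_add_ncard_compl ({a, b} : Set α),
      Set.ncard_pair hab]
    ring
  have hst : t0 ^ m ∈ MulAction.stabilizer (Equiv.Perm α) (({a, b} : Set α)ᶜ) := by
    rw [MulAction.mem_stabilizer_iff, Set.smul_set_compl, Set.smul_set_insert, Set.smul_set_singleton]
    show ({(t0 ^ m) a, (t0 ^ m) b} : Set α)ᶜ = _
    rw [hta, htb, Set.pair_comm]
  obtain ⟨c, hc, hfix⟩ := exists_fixed_of_pgroup hP (({a, b} : Set α)ᶜ) (by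
    intro g hg z hz
    have hg' := Subgroup.zpowers_le.mpr hst hg
    rw [MulAction.mem_stabilizer_iff] at hg'
    rw [← hg']
    exact Set.smul_mem_smul_set hz) (by
    obtain ⟨r, hr⟩ := hodd
    omega)
  rw [Set.mem_compl_iff, Set.mem_insert_iff, Set.mem_singleton_iff, not_or] at hc
  exact ⟨t0 ^ m, N.pow_mem ht0 m, c, hc.1, hc.2, hta, htb, hfix _ (Subgroup.mem_zpowers _)⟩


theorem trans_one_of_forall {H : Subgroup (Equiv.Perm α)} {S : Set α}
    (h : ∀ x x', x ∉ S → x' ∉ S → ∃ g ∈ H, g x = x') : Trans H S 1 := by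
  intro l l' hl hlen _ _ hS hS'
  match l, l', hl, hlen with
  | [], [], _, _ => exact ⟨1, H.one_mem, rfl⟩
  | [y], [y'], _, _ =>
    obtain ⟨g, hg, hgy⟩ := h y y' (hS y (by simp)) (hS' y' (by simp))
    exact ⟨g, hg, by simp [hgy]⟩
  | [], _ :: _, h, _ => simp at h
  | _ :: _, [], h, _ => simp at h
  | _ :: _ :: _, _, _, h => simp at h
  | [_], _ :: _ :: _, h, _ => simp at h

theorem generous [Fintype α] [DecidableEq α] {G N : Subgroup (Equiv.Perm α)} (hodd : Odd (Fintype.card α))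
    (hnorm : NormalizedBy G N) (hG3 : Trans G ∅ 3) (hN2 : Trans N ∅ 2)
    {a b x : α} (hab : a ≠ b) (hxa : x ≠ a) (hxb : x ≠ b) :
    ∃ t ∈ N, t a = b ∧ t b = a ∧ t x = x := by
  obtain ⟨t, ht, c, hca, hcb, hta, htb, htc⟩ := exists_swap_fix hodd hN2 hab
  obtain ⟨w, hw, hmap⟩ := hG3 [a, b, c] [a, b, x] rfl (by simp)
    (by simp [hab, hca.symm, hcb.symm]) (by simp [hab, hxa.symm, hxb.symm]) (fun _ _ => by simp)
    (fun _ _ => by simp)
  simp only [List.map_cons, List.map_nil, List.cons.injEq, and_true] at hmap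
  obtain ⟨hwa, hwb, hwc⟩ := hmap
  have hwa' : w⁻¹ a = a := by rw [Equiv.Perm.inv_def, Equiv.symm_apply_eq, hwa]
  have hwb' : w⁻¹ b = b := by rw [Equiv.Perm.inv_def, Equiv.symm_apply_eq, hwb]
  have hwx' : w⁻¹ x = c := by rw [Equiv.Perm.inv_def, Equiv.symm_apply_eq, hwc]
  refine ⟨w * t * w⁻¹, hnorm w hw t ht, ?_, ?_, ?_⟩
  · simp only [Equiv.Perm.mul_apply, hwa', hta, hwb]
  · simp only [Equiv.Perm.mul_apply, hwb', htb, hwa]
  · simp only [Equiv.Perm.mul_apply, hwx', htc, hwc]


theorem z2_cases : ∀ i : ZMod 2, i = 0 ∨ i = 1 := by decide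

theorem z2_ne : (1 : ZMod 2) ≠ 0 := by decide

theorem z2_add : (1 : ZMod 2) + 1 = 0 := by decide

/-- the family `0 ↦ u, 1 ↦ v` -/
def pairFam (u v : α) : ZMod 2 → α := fun i => if i = 0 then u else v

theorem pairFam_zero (u v : α) : pairFam u v 0 = u := by simp [pairFam]

theorem pairFam_one (u v : α) : pairFam u v 1 = v := by simp [pairFam]

theorem pairFam_injective {u v : α} (h : u ≠ v) : Function.Injective (pairFam u v) := by
  intro i j hij
  rcases z2_cases i with rfl | rfl <;> rcases z2_cases j with rfl | rfl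
  · rfl
  · rw [pairFam_zero, pairFam_one] at hij; exact absurd hij h
  · rw [pairFam_zero, pairFam_one] at hij; exact absurd hij.symm h
  · rfl

theorem wagner_trans [Fintype α] [DecidableEq α] {G N : Subgroup (Equiv.Perm α)}
    (hodd : Odd (Fintype.card α)) (h5 : 5 ≤ Fintype.card α)
    (hnorm : NormalizedBy G N) (hG3 : Trans G ∅ 3) (hN2 : Trans N ∅ 2) : Trans N ∅ 3 := by
  classical
  obtain ⟨a, b, hab⟩ := Fintype.exists_pair_of_one_lt_card (by omega : 1 < Fintype.card α)
  let γ : ZMod 2 → α := pairFam a b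
  have hγ0 : γ 0 = a := pairFam_zero a b
  have hγ1 : γ 1 = b := pairFam_one a b
  have hγ : Function.Injective γ := pairFam_injective hab
  have hS : ∀ z, z ∈ (((∅ : Finset α) : Set α) ∪ Set.range γ) ↔ z = a ∨ z = b := by
    intro z
    simp only [Finset.coe_empty, Set.empty_union, Set.mem_range]
    constructor
    · rintro ⟨i, rfl⟩
      rcases z2_cases i with rfl | rfl
      · left; exact hγ0
      · right; exact hγ1
    · rintro (rfl | rfl)
      · exact ⟨0, hγ0⟩
      · exact ⟨1, hγ1⟩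
  have hgen : ∀ x, x ∉ (((∅ : Finset α) : Set α) ∪ Set.range γ) → ∃ h ∈ N,
      (∀ z ∈ ((∅ : Finset α) : Set α), h z = z) ∧ (∀ i, h (γ i) = γ (i + 1)) ∧ h x = x := by
    intro x hx
    rw [hS, not_or] at hx
    obtain ⟨t, ht, hta, htb, htx⟩ := generous hodd hnorm hG3 hN2 hab hx.1 hx.2
    refine ⟨t, ht, fun z hz => absurd hz (by simp), fun i => ?_, htx⟩
    rcases z2_cases i with rfl | rfl
    · rw [hγ0, zero_add, hγ1]; exact hta
    · rw [hγ1, z2_add, hγ0]; exact htb
  obtain ⟨c0, hc0a, hc0b⟩ : ∃ c0, c0 ≠ a ∧ c0 ≠ b := by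
    obtain ⟨c0, _, hc0⟩ := exists_outside (S := (∅ : Set α)) ({a, b} : Finset α) (by
      rw [Set.compl_empty, Set.ncard_univ, Nat.card_eq_fintype_card]
      have := Finset.card_le_two (a := a) (b := b)
      omega)
    rw [Finset.mem_insert, Finset.mem_singleton, not_or] at hc0
    exact ⟨c0, hc0.1, hc0.2⟩
  obtain ⟨h, hh, hh0, hh1, _⟩ := hgen c0 (by rw [hS, not_or]; exact ⟨hc0a, hc0b⟩)
  obtain ⟨Q⟩ := (inferInstance : Nonempty (Sylow 2 (cycStab N ((∅ : Finset α) : Set α) γ)))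
  -- no two fixed points
  have hno : ∀ y1 y2 : α, y1 ≠ y2 →
      (∀ q : cycStab N ((∅ : Finset α) : Set α) γ, q ∈ Q → (q : Equiv.Perm α) y1 = y1) →
      (∀ q : cycStab N ((∅ : Finset α) : Set α) γ, q ∈ Q → (q : Equiv.Perm α) y2 = y2) → False := by
    intro y1 y2 hy hf1 hf2
    refine no_fixed_family N ∅ hγ (fun i => Finset.notMem_empty _) (by simpa using hN2) hh hh0 hh1 Q
      (pairFam y1 y2) (pairFam_injective hy) (fun i => Finset.notMem_empty _) ?_
    intro q hq i
    rcases z2_cases i with rfl | rfl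
    · rw [pairFam_zero]; exact hf1 q hq
    · rw [pairFam_one]; exact hf2 q hq
  -- the image of Q as a 2-group of permutations
  have hP : IsPGroup 2 ((Q : Subgroup (cycStab N ((∅ : Finset α) : Set α) γ)).map
      (cycStab N ((∅ : Finset α) : Set α) γ).subtype) := Q.isPGroup'.map _
  have hPfix : ∀ y, (∀ g ∈ (Q : Subgroup (cycStab N ((∅ : Finset α) : Set α) γ)).map
      (cycStab N ((∅ : Finset α) : Set α) γ).subtype, g y = y) →
      ∀ q : cycStab N ((∅ : Finset α) : Set α) γ, q ∈ Q → (q : Equiv.Perm α) y = y :=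
    fun y hy q hq => hy _ ⟨q, hq, rfl⟩
  have hPcyc : ∀ g ∈ (Q : Subgroup (cycStab N ((∅ : Finset α) : Set α) γ)).map
      (cycStab N ((∅ : Finset α) : Set α) γ).subtype, g ∈ cycStab N ((∅ : Finset α) : Set α) γ := by
    rintro _ ⟨q, _, rfl⟩
    exact q.2
  -- invariance of the complement of {a,b}
  have hcompl : ∀ g ∈ cycStab N ((∅ : Finset α) : Set α) γ, ∀ z,
      z ∉ (((∅ : Finset α) : Set α) ∪ Set.range γ) → g z ∉ (((∅ : Finset α) : Set α) ∪ Set.range γ) := by
    intro g hg z hz hgz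
    apply hz
    rcases hgz with hgz | ⟨i, hi⟩
    · simp at hgz
    · obtain ⟨_, _, j, hj⟩ := (cycStab N ((∅ : Finset α) : Set α) γ).inv_mem hg
      right
      refine ⟨i + j, ?_⟩
      rw [← hj, hi, Equiv.Perm.inv_def, Equiv.symm_apply_apply]
  -- a fixed point outside {a,b}
  have hTc : Nat.card ((((∅ : Finset α) : Set α) ∪ Set.range γ)ᶜ : Set α) + 2 = Fintype.card α := by
    have : (((∅ : Finset α) : Set α) ∪ Set.range γ) = {a, b} := by
      ext z
      rw [hS]
      simp
    rw [this, Nat.card_coe_set_eq, ← Nat.card_eq_fintype_card, ← Set.ncard_add_ncard_compl ({a, b} : Set α),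
      Set.ncard_pair hab]
    ring
  obtain ⟨y1, hy1S, hy1fix⟩ := exists_fixed_of_pgroup hP ((((∅ : Finset α) : Set α) ∪ Set.range γ)ᶜ)
    (fun g hg z hz => hcompl g (hPcyc g hg) z hz) (by
      obtain ⟨r, hr⟩ := hodd
      omega)
  have hy1fix' := hPfix y1 hy1fix
  -- every point outside {a,b} is in the orbit of y1
  have hclaim : ∀ x, x ∉ (((∅ : Finset α) : Set α) ∪ Set.range γ) →
      x ∈ porb N (((∅ : Finset α) : Set α) ∪ Set.range γ) y1 := by
    intro x hx
    by_contra hxO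
    -- the orbit of x has even size
    have hO2 : 2 ∣ Nat.card (porb N (((∅ : Finset α) : Set α) ∪ Set.range γ) x) := by
      by_contra hnd
      obtain ⟨y2, hy2, hy2fix⟩ := exists_fixed_in_porb (hgen x hx) Q hnd
      refine hno y1 y2 ?_ hy1fix' hy2fix
      rintro rfl
      apply hxO
      have := porb_eq_of_mem hy2
      rw [this]
      exact mem_porb_self _ _ _
    -- the orbit of y1 has odd size
    have hO1 : ¬ 2 ∣ Nat.card (porb N (((∅ : Finset α) : Set α) ∪ Set.range γ) y1) := by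
      intro hdvd
      have hT : Nat.card ((porb N (((∅ : Finset α) : Set α) ∪ Set.range γ) y1 \ {y1} : Set α)) + 1 =
          Nat.card (porb N (((∅ : Finset α) : Set α) ∪ Set.range γ) y1) := by
        rw [Nat.card_coe_set_eq, Nat.card_coe_set_eq]
        exact Set.ncard_sdiff_singleton_add_one (mem_porb_self _ _ _) (Set.toFinite _)
      obtain ⟨y3, hy3, hy3fix⟩ := exists_fixed_of_pgroup hP
        (porb N (((∅ : Finset α) : Set α) ∪ Set.range γ) y1 \ {y1})
        (by
          intro g hg z hz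
          refine ⟨cycStab_porb (hgen y1 hy1S) (hPcyc g hg) hz.1, ?_⟩
          intro hgz
          rw [Set.mem_singleton_iff] at hgz
          apply hz.2
          rw [Set.mem_singleton_iff]
          apply g.injective
          rw [hgz, hy1fix g hg])
        (by omega)
      exact hno y1 y3 (fun h => hy3.2 (by rw [Set.mem_singleton_iff]; exact h.symm)) hy1fix' (hPfix y3 hy3fix)
    -- the two orbits have the same size
    have hy1ab := (not_congr (hS y1)).mp hy1S
    have hxab := (not_congr (hS x)).mp hx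
    rw [not_or] at hy1ab hxab
    obtain ⟨w, hw, hmap⟩ := hG3 [a, b, y1] [a, b, x] rfl (by simp)
      (by simp [hab, Ne.symm hy1ab.1, Ne.symm hy1ab.2]) (by simp [hab, Ne.symm hxab.1, Ne.symm hxab.2])
      (fun _ _ => by simp) (fun _ _ => by simp)
    simp only [List.map_cons, List.map_nil, List.cons.injEq, and_true] at hmap
    obtain ⟨hwa, hwb, hwy⟩ := hmap
    have hwS : ∀ z ∈ (((∅ : Finset α) : Set α) ∪ Set.range γ), w z = z ∧ w⁻¹ z = z := by
      intro z hz
      rw [hS] at hz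
      rcases hz with rfl | rfl
      · exact ⟨hwa, by rw [Equiv.Perm.inv_def, Equiv.symm_apply_eq, hwa]⟩
      · exact ⟨hwb, by rw [Equiv.Perm.inv_def, Equiv.symm_apply_eq, hwb]⟩
    have himg : w '' (porb N (((∅ : Finset α) : Set α) ∪ Set.range γ) y1) =
        porb N (((∅ : Finset α) : Set α) ∪ Set.range γ) x := by
      ext z
      constructor
      · rintro ⟨_, ⟨k, hk, rfl⟩, rfl⟩
        refine ⟨w * k * w⁻¹, ⟨hnorm w hw k hk.1, fun u hu => ?_⟩, ?_⟩
        · simp only [Equiv.Perm.mul_apply]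
          rw [(hwS u hu).2, hk.2 u hu, (hwS u hu).1]
        · simp only [Equiv.Perm.mul_apply]
          rw [← hwy, Equiv.Perm.inv_def, Equiv.symm_apply_apply]
      · rintro ⟨k, hk, rfl⟩
        refine ⟨(w⁻¹ * k * w) y1, ⟨w⁻¹ * k * w, ⟨?_, fun u hu => ?_⟩, rfl⟩, ?_⟩
        · have := hnorm w⁻¹ (G.inv_mem hw) k hk.1
          rwa [inv_inv] at this
        · simp only [Equiv.Perm.mul_apply]
          rw [(hwS u hu).1, hk.2 u hu, (hwS u hu).2]
        · simp only [Equiv.Perm.mul_apply]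
          rw [hwy, Equiv.Perm.inv_def, Equiv.apply_symm_apply]
    have hcardeq : Nat.card (porb N (((∅ : Finset α) : Set α) ∪ Set.range γ) x) =
        Nat.card (porb N (((∅ : Finset α) : Set α) ∪ Set.range γ) y1) := by
      rw [← himg, Nat.card_coe_set_eq, Nat.card_coe_set_eq, Set.ncard_image_of_injective _ w.injective]
    rw [hcardeq] at hO2
    exact hO1 hO2
  -- assemble
  have hfix0 : FixesOn N ∅ := fun _ _ s hs => absurd hs (Set.notMem_empty s)
  have hfixa : FixesOn (pstab N a) (insert a ∅) := hfix0.stab a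
  have hNa1 : Trans (pstab N a) (insert a ∅) 1 := hN2.stab (Set.notMem_empty a)
  have hNab1 : Trans (pstab (pstab N a) b) (insert b (insert a ∅)) 1 := by
    apply trans_one_of_forall
    intro x x' hx hx'
    have hx1 : x ∉ (((∅ : Finset α) : Set α) ∪ Set.range γ) := by
      rw [hS]
      simpa [or_comm] using hx
    have hx'1 : x' ∉ (((∅ : Finset α) : Set α) ∪ Set.range γ) := by
      rw [hS]
      simpa [or_comm] using hx'
    have h1 := hclaim x hx1
    have h2 := hclaim x' hx'1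
    rw [← porb_eq_of_mem h1] at h2
    obtain ⟨k, hk, hkx⟩ := h2
    refine ⟨k, ?_, hkx⟩
    rw [mem_pstab, mem_pstab]
    exact ⟨⟨hk.1, hk.2 a ((hS a).mpr (Or.inl rfl))⟩, hk.2 b ((hS b).mpr (Or.inr rfl))⟩
  have hNa2 : Trans (pstab N a) (insert a ∅) 2 :=
    Trans.of_stab hfixa (by simp [hab.symm]) hNa1 hNab1
  exact Trans.of_stab hfix0 (Set.notMem_empty a) (hN2.mono (by norm_num)) hNa2


/-- Wagner's Theorem: a non-trivial normal subgroup of a triply transitive permutation group of odd degree at least 5 is triply transitive. -/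
theorem result {α : Type*} [Fintype α] [DecidableEq α] (G : Subgroup (Equiv.Perm α)) (hodd : Odd (Fintype.card α)) (h5 : 5 ≤ Fintype.card α) (hG : MulAction.IsMultiplyPretransitive G α 3) (N : Subgroup G) [N.Normal] (hN : N ≠ ⊥) : MulAction.IsMultiplyPretransitive N α 3 := by
  classical
  have hfix : FixesOn G ∅ := fun _ _ s hs => absurd hs (Set.notMem_empty s)
  have hNG : N.map G.subtype ≤ G := by
    rintro _ ⟨n, _, rfl⟩; exact n.2
  have hnorm : NormalizedBy G (N.map G.subtype) := by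
    rintro g hg _ ⟨n, hn, rfl⟩
    refine ⟨⟨g, hg⟩ * n * ⟨g, hg⟩⁻¹, ?_, rfl⟩
    exact ‹N.Normal›.conj_mem n hn ⟨g, hg⟩
  have hN' : N.map G.subtype ≠ ⊥ := by
    intro h
    exact hN ((Subgroup.map_eq_bot_iff_of_injective N G.subtype_injective).mp h)
  have hcard : Nat.card α = Fintype.card α := Nat.card_eq_fintype_card
  have hT : Trans G ∅ 3 := trans_of_isMultiplyPretransitive G 3 hG (by rw [hcard]; omega)
  have hd : 3 < ((∅ : Set α)ᶜ).ncard := by
    rw [Set.compl_empty, Set.ncard_univ, hcard]; omega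
  rcases jordan 3 (by norm_num) G (N.map G.subtype) ∅ hfix hNG hnorm hN' hT hd with h | ⟨_, hsemi, hexp⟩
  · exact isMultiplyPretransitive_of_trans G N 3 (wagner_trans hodd h5 hnorm hT h)
  · exfalso
    obtain ⟨t, ht1⟩ := Subgroup.ne_bot_iff_exists_ne_one.mp hN'
    have ht2 := hexp t t.2
    have hP : IsPGroup 2 (Subgroup.zpowers (t : Equiv.Perm α)) :=
      isPGroup_zpowers (k := 1) _ (by rw [pow_one, pow_two]; exact ht2)
    obtain ⟨y, _, hy⟩ := exists_fixed_of_pgroup hP Set.univ (fun _ _ _ _ => Set.mem_univ _) (by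
      rw [Nat.card_coe_set_eq, Set.ncard_univ, hcard]
      obtain ⟨r, hr⟩ := hodd
      omega)
    have := hsemi t t.2 y (Set.notMem_empty y) (hy _ (Subgroup.mem_zpowers _))
    exact ht1 (Subtype.ext this)

end Cfsg.Agent.S0699
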