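-- Statement S0700.
import Cfsg.Statements.S0700
import Mathlib

set_option autoImplicit false
open Cfsg

namespace Cfsg.Agent.S0700

open MulAction
open scoped Pointwise

section core
variable {G α : Type*} [Group G] [MulAction G α]

/-- `B` is a block for the subgroup `N`, in elementwise form -/
def NBlock (N : Subgroup G) (B : Set α) : Prop :=
  ∀ x ∈ N, x • B = B ∨ Disjoint (x • B) B

theorem NBlock.smul {N : Subgroup G} [hN : N.Normal] {B : Set α} (hB : NBlock N B) (g : G) :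
    NBlock N (g • B) := by
  intro x hx
  have hx' : g⁻¹ * x * g ∈ N := by
    have := hN.conj_mem x hx g⁻¹
    simpa using this
  have e : x • g • B = g • (g⁻¹ * x * g) • B := by
    rw [smul_smul, smul_smul]
    congr 1
    group
  rcases hB _ hx' with h | h
  · left
    rw [e, h]
  · right
    rw [e]
    exact Set.disjoint_smul_set.mpr h

theorem NBlock.inter {N : Subgroup G} {B1 B2 : Set α} (h1 : NBlock N B1) (h2 : NBlock N B2) :
    NBlock N (B1 ∩ B2) := by
  intro x hx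
  rcases h1 x hx with e1 | d1
  · rcases h2 x hx with e2 | d2
    · left
      rw [Set.smul_set_inter, e1, e2]
    · right
      exact d2.mono (Set.smul_set_mono Set.inter_subset_right) Set.inter_subset_right
  · right
    exact d1.mono (Set.smul_set_mono Set.inter_subset_left) Set.inter_subset_left

theorem smul_ne_univ {B : Set α} (hnu : B ≠ Set.univ) (g : G) : g • B ≠ Set.univ := by
  intro h
  apply hnu
  have h1 := congrArg (fun S => g⁻¹ • S) h
  simpa using h1

/-- the translates of a minimal nontrivial block form a linear space, forcing `N_a ∩ N_b = 1` -/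
theorem lines_frobenius [FaithfulSMul G α] [Finite α]
    (h2 : ∀ a b c d : α, a ≠ b → c ≠ d → ∃ g : G, g • a = c ∧ g • b = d)
    (N : Subgroup G) [N.Normal] (B0 : Set α) (hB0 : NBlock N B0) (hns : ¬ B0.Subsingleton)
    (hnu : B0 ≠ Set.univ)
    (hmin : ∀ B : Set α, NBlock N B → ¬ B.Subsingleton → B ≠ Set.univ → B0.ncard ≤ B.ncard) :
    ∀ a b : α, a ≠ b → ∀ x ∈ N, x • a = a → x • b = b → x = 1 := by
  have hsub : ∀ g1 g2 : G, ∀ u v : α, u ≠ v → u ∈ g1 • B0 → v ∈ g1 • B0 → u ∈ g2 • B0 →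
      v ∈ g2 • B0 → g1 • B0 ⊆ g2 • B0 := by
    intro g1 g2 u v huv hu1 hv1 hu2 hv2
    have hI : NBlock N (g1 • B0 ∩ g2 • B0) := (hB0.smul g1).inter (hB0.smul g2)
    have hIns : ¬ (g1 • B0 ∩ g2 • B0).Subsingleton := by
      intro hs
      exact huv (hs ⟨hu1, hu2⟩ ⟨hv1, hv2⟩)
    have hIu : g1 • B0 ∩ g2 • B0 ≠ Set.univ := by
      intro h
      apply smul_ne_univ hnu g1
      apply Set.eq_univ_of_univ_subset
      rw [← h]
      exact Set.inter_subset_left
    have hcard := hmin _ hI hIns hIu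
    have hc1 : (g1 • B0).ncard = B0.ncard := Set.ncard_smul_set g1 B0
    have heq : g1 • B0 ∩ g2 • B0 = g1 • B0 :=
      Set.eq_of_subset_of_ncard_le Set.inter_subset_left (by rw [hc1]; exact hcard)
        (Set.toFinite _)
    rw [← heq]
    exact Set.inter_subset_right
  have hL2 : ∀ g1 g2 : G, ∀ u v : α, u ≠ v → u ∈ g1 • B0 → v ∈ g1 • B0 → u ∈ g2 • B0 →
      v ∈ g2 • B0 → g1 • B0 = g2 • B0 := by
    intro g1 g2 u v huv hu1 hv1 hu2 hv2
    exact Set.Subset.antisymm (hsub g1 g2 u v huv hu1 hv1 hu2 hv2)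
      (hsub g2 g1 u v huv hu2 hv2 hu1 hv1)
  have hL3 : ∀ a b : α, a ≠ b → ∃ g : G, a ∈ g • B0 ∧ b ∈ g • B0 := by
    intro a b hab
    obtain ⟨u, hu, v, hv, huv⟩ := Set.not_subsingleton_iff.mp hns
    obtain ⟨g, hga, hgb⟩ := h2 u v a b huv hab
    exact ⟨g, hga ▸ Set.smul_mem_smul_set hu, hgb ▸ Set.smul_mem_smul_set hv⟩
  have hL4 : ∀ g : G, ∀ a : α, a ∈ g • B0 → ∀ x ∈ N, x • a = a → x • g • B0 = g • B0 := by
    intro g a ha x hx hxa
    rcases (hB0.smul g) x hx with h | h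
    · exact h
    · exfalso
      have h1 : a ∈ x • g • B0 := by
        have := Set.smul_mem_smul_set (a := x) ha
        rwa [hxa] at this
      exact Set.disjoint_left.mp h h1 ha
  have hK1 : ∀ a b : α, a ≠ b → ∀ x ∈ N, x • a = a → x • b = b → ∀ c : α,
      (∀ g : G, a ∈ g • B0 → b ∈ g • B0 → c ∉ g • B0) → x • c = c := by
    intro a b hab x hx hxa hxb c hc
    have hac : a ≠ c := by
      rintro rfl
      obtain ⟨g, hga, hgb⟩ := hL3 a b hab
      exact hc g hga hgb hga
    have hbc : b ≠ c := by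
      rintro rfl
      obtain ⟨g, hga, hgb⟩ := hL3 a b hab
      exact hc g hga hgb hgb
    obtain ⟨g1, h1a, h1c⟩ := hL3 a c hac
    obtain ⟨g2, h2b, h2c⟩ := hL3 b c hbc
    have e1 := hL4 g1 a h1a x hx hxa
    have e2 := hL4 g2 b h2b x hx hxb
    have hxc1 : x • c ∈ g1 • B0 := by
      rw [← e1]
      exact Set.smul_mem_smul_set h1c
    have hxc2 : x • c ∈ g2 • B0 := by
      rw [← e2]
      exact Set.smul_mem_smul_set h2c
    by_contra hne
    have heq := hL2 g1 g2 (x • c) c hne hxc1 h1c hxc2 h2c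
    exact hc g1 h1a (heq ▸ h2b) h1c
  intro a b hab x hx hxa hxb
  obtain ⟨g0, h0a, h0b⟩ := hL3 a b hab
  have hoff : ∀ c, c ∉ g0 • B0 → x • c = c := by
    intro c hc
    apply hK1 a b hab x hx hxa hxb c
    intro g hga hgb
    rw [hL2 g g0 a b hab hga hgb h0a h0b]
    exact hc
  obtain ⟨d, hd⟩ : ∃ d, d ∉ g0 • B0 := by
    by_contra hcon
    push Not at hcon
    exact smul_ne_univ hnu g0 (Set.eq_univ_of_forall hcon)
  have hxd := hoff d hd
  have had : a ≠ d := by
    rintro rfl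
    exact hd h0a
  apply FaithfulSMul.eq_of_smul_eq_smul (α := α)
  intro c
  rw [one_smul]
  by_cases hc : c ∈ g0 • B0
  · by_cases hca : c = a
    · rw [hca]
      exact hxa
    · apply hK1 a d had x hx hxa hxd c
      intro g hga hgd hgc
      have e := hL2 g g0 a c (Ne.symm hca) hga hgc h0a hc
      exact hd (e ▸ hgd)
  · exact hoff c hc

/-- a normal Frobenius subgroup of a 2-transitive group contains a regular normal subgroup of the
big group -/
theorem kernel [FaithfulSMul G α] [Finite α] [Finite G]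
    (h2 : ∀ a b c d : α, a ≠ b → c ≠ d → ∃ g : G, g • a = c ∧ g • b = d)
    (N : Subgroup G) [hNn : N.Normal] (hNt : ∀ a b : α, ∃ x ∈ N, x • a = b)
    (hfrob : ∀ a b : α, a ≠ b → ∀ x ∈ N, x • a = a → x • b = b → x = 1)
    (a0 : α) (x0 : G) (hx0 : x0 ∈ N) (hx01 : x0 ≠ 1) (hx0a : x0 • a0 = a0) :
    ∃ K : Subgroup G, K.Normal ∧ K ≤ N ∧ K ≠ ⊥ ∧ K ≠ N := by
  classical
  have := Fintype.ofFinite G
  have := Fintype.ofFinite α
  obtain ⟨n, hn⟩ : ∃ n : ℕ, n = Fintype.card α := ⟨_, rfl⟩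
  obtain ⟨S, hS⟩ : ∃ S : α → Finset G, ∀ c x, x ∈ S c ↔ (x ∈ N ∧ x • c = c) :=
    ⟨fun c => Finset.univ.filter (fun x => x ∈ N ∧ x • c = c), by intro c x; simp⟩
  obtain ⟨NN, hNN⟩ : ∃ NN : Finset G, ∀ x, x ∈ NN ↔ x ∈ N :=
    ⟨Finset.univ.filter (· ∈ N), by intro x; simp⟩
  obtain ⟨D, hD⟩ : ∃ D : Finset G, ∀ x, x ∈ D ↔ (x ∈ N ∧ ∀ c : α, x • c ≠ c) :=
    ⟨Finset.univ.filter (fun x => x ∈ N ∧ ∀ c : α, x • c ≠ c), by intro x; simp⟩
  obtain ⟨E, hE⟩ : ∃ E : Finset G, ∀ x, x ∈ E ↔ (x ∈ N ∧ x ≠ 1 ∧ ∃ c : α, x • c = c) :=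
    ⟨Finset.univ.filter (fun x => x ∈ N ∧ x ≠ 1 ∧ ∃ c : α, x • c = c), by intro x; simp⟩
  obtain ⟨h, hh⟩ : ∃ h : ℕ, h = (S a0).card := ⟨_, rfl⟩
  have hScard : ∀ c, (S c).card = h := by
    intro c
    obtain ⟨u, hu, hua⟩ := hNt a0 c
    have hua' : u⁻¹ • c = a0 := by rw [inv_smul_eq_iff, hua]
    rw [hh]
    symm
    apply Finset.card_bij (fun x _ => u * x * u⁻¹)
    · intro x hx
      rw [hS] at hx ⊢
      refine ⟨hNn.conj_mem x hx.1 u, ?_⟩
      rw [mul_smul, mul_smul, hua', hx.2, hua]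
    · intro x _ y _ hxy
      simpa using hxy
    · intro y hy
      rw [hS] at hy
      refine ⟨u⁻¹ * y * u, ?_, by group⟩
      rw [hS]
      refine ⟨by simpa using hNn.conj_mem y hy.1 u⁻¹, ?_⟩
      rw [mul_smul, mul_smul, hua, hy.2, hua']
  have hone : ∀ c, (1 : G) ∈ S c := fun c => (hS c 1).mpr ⟨N.one_mem, one_smul _ _⟩
  have hhpos : 1 ≤ h := by
    rw [hh]
    exact Finset.card_pos.mpr ⟨1, hone a0⟩
  have hNNcard : NN.card = n * h := by
    rw [Finset.card_eq_sum_card_fiberwise (f := fun x : G => x • a0) (s := NN)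
      (t := Finset.univ) (fun x _ => Finset.mem_coe.mpr (Finset.mem_univ _))]
    rw [Finset.sum_const_nat (m := h), Finset.card_univ, hn]
    intro c _
    obtain ⟨u, hu, hua⟩ := hNt a0 c
    have hua' : u⁻¹ • c = a0 := by rw [inv_smul_eq_iff, hua]
    rw [hh]
    symm
    apply Finset.card_bij (fun x _ => u * x)
    · intro x hx
      rw [hS] at hx
      rw [Finset.mem_filter, hNN]
      refine ⟨N.mul_mem hu hx.1, ?_⟩
      rw [mul_smul, hx.2, hua]
    · intro x _ y _ hxy
      simpa using hxy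
    · intro y hy
      rw [Finset.mem_filter, hNN] at hy
      refine ⟨u⁻¹ * y, ?_, by group⟩
      rw [hS]
      refine ⟨N.mul_mem (N.inv_mem hu) hy.1, ?_⟩
      rw [mul_smul, hy.2, hua']
  have hEcard : E.card = n * (h - 1) := by
    have hEq : E = Finset.univ.biUnion (fun c => S c \ {1}) := by
      ext x
      rw [hE, Finset.mem_biUnion]
      constructor
      · rintro ⟨hxN, hx1, c, hc⟩
        refine ⟨c, Finset.mem_univ _, Finset.mem_sdiff.mpr ⟨(hS c x).mpr ⟨hxN, hc⟩, ?_⟩⟩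
        rw [Finset.mem_singleton]
        exact hx1
      · rintro ⟨c, _, hxc⟩
        rw [Finset.mem_sdiff, hS, Finset.mem_singleton] at hxc
        exact ⟨hxc.1.1, hxc.2, c, hxc.1.2⟩
    rw [hEq, Finset.card_biUnion]
    · rw [Finset.sum_const_nat (m := h - 1), Finset.card_univ, hn]
      intro c _
      rw [Finset.card_sdiff_of_subset (Finset.singleton_subset_iff.mpr (hone c)), hScard,
        Finset.card_singleton]
    · intro c _ c' _ hcc'
      show Disjoint (S c \ {1}) (S c' \ {1})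
      rw [Finset.disjoint_left]
      intro x hx hx'
      rw [Finset.mem_sdiff, hS, Finset.mem_singleton] at hx hx'
      exact hx.2 (hfrob c c' hcc' x hx.1.1 hx.1.2 hx'.1.2)
  have hpart : NN.card = D.card + (E.card + 1) := by
    have h1 := Finset.card_filter_add_card_filter_not (s := NN) (fun x => ∃ c : α, x • c = c)
    have e1 : NN.filter (fun x => ∃ c : α, x • c = c) = insert 1 E := by
      ext x
      rw [Finset.mem_filter, hNN, Finset.mem_insert, hE]
      constructor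
      · rintro ⟨hxN, c, hc⟩
        by_cases hx1 : x = 1
        · left
          exact hx1
        · right
          exact ⟨hxN, hx1, c, hc⟩
      · rintro (rfl | ⟨hxN, _, c, hc⟩)
        · exact ⟨N.one_mem, a0, one_smul _ _⟩
        · exact ⟨hxN, c, hc⟩
    have e2 : NN.filter (fun x => ¬ ∃ c : α, x • c = c) = D := by
      ext x
      rw [Finset.mem_filter, hNN, hD]
      constructor
      · rintro ⟨hxN, hnc⟩
        exact ⟨hxN, fun c hc => hnc ⟨c, hc⟩⟩
      · rintro ⟨hxN, hder⟩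
        exact ⟨hxN, fun ⟨c, hc⟩ => hder c hc⟩
    have h1E : (1 : G) ∉ E := by
      rw [hE]
      exact fun h => h.2.1 rfl
    rw [e1, e2, Finset.card_insert_of_notMem h1E] at h1
    omega
  have hn2 : 2 ≤ n := by
    obtain ⟨b, hb⟩ : ∃ b : α, x0 • b ≠ b := by
      by_contra hcon
      push Not at hcon
      apply hx01
      apply FaithfulSMul.eq_of_smul_eq_smul (α := α)
      intro c
      rw [hcon c, one_smul]
    rw [hn]
    exact Fintype.one_lt_card_iff.mpr ⟨b, x0 • b, fun e => hb e.symm⟩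
  have hDcard : D.card = n - 1 := by
    obtain ⟨h', rfl⟩ : ∃ h', h = h' + 1 := ⟨h - 1, by omega⟩
    rw [hNNcard, hEcard, Nat.add_sub_cancel, Nat.mul_succ] at hpart
    omega
  obtain ⟨d0, hd0⟩ : D.Nonempty := Finset.card_pos.mp (by omega)
  have hd0' := (hD d0).mp hd0
  have hsurj : ∀ c b : α, b ≠ c → ∃ d ∈ D, d • c = b := by
    intro c b hbc
    obtain ⟨g, hgc, hgb⟩ := h2 c (d0 • c) c b (hd0'.2 c).symm hbc.symm
    have hgc' : g⁻¹ • c = c := by rw [inv_smul_eq_iff, hgc]
    refine ⟨g * d0 * g⁻¹, (hD _).mpr ⟨hNn.conj_mem d0 hd0'.1 g, ?_⟩, ?_⟩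
    · intro c' hc'
      apply hd0'.2 (g⁻¹ • c')
      rw [mul_smul, mul_smul, smul_eq_iff_eq_inv_smul] at hc'
      exact hc'
    · rw [mul_smul, mul_smul, hgc', hgb]
  have hinj : ∀ c : α, ∀ d ∈ D, ∀ d' ∈ D, d • c = d' • c → d = d' := by
    intro c d hd d' hd' hdd
    have hcard : D.card ≤ (Finset.univ.erase c).card := by
      rw [Finset.card_erase_of_mem (Finset.mem_univ c), Finset.card_univ, hDcard, hn]
    exact Finset.inj_on_of_surj_on_of_card_le (s := D) (t := Finset.univ.erase c)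
      (fun x _ => x • c)
      (fun x hx => Finset.mem_erase.mpr ⟨((hD x).mp hx).2 c, Finset.mem_univ _⟩)
      (fun b hb => by
        obtain ⟨d, hd, hdb⟩ := hsurj c b (Finset.mem_erase.mp hb).1
        exact ⟨d, hd, hdb⟩)
      hcard hd hd' hdd
  let K : Subgroup G :=
    { carrier := {x | x ∈ N ∧ (x = 1 ∨ ∀ c : α, x • c ≠ c)}
      one_mem' := ⟨N.one_mem, Or.inl rfl⟩
      mul_mem' := by
        rintro x y ⟨hxN, hx⟩ ⟨hyN, hy⟩
        refine ⟨N.mul_mem hxN hyN, ?_⟩
        rcases hx with rfl | hx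
        · rw [one_mul]
          exact hy
        rcases hy with rfl | hy
        · rw [mul_one]
          exact Or.inr hx
        by_cases hxy : x * y = 1
        · exact Or.inl hxy
        · right
          intro c hc
          apply hxy
          have hxinv : x⁻¹ ∈ D := (hD _).mpr ⟨N.inv_mem hxN, fun c' hc' => hx c' (by
            rw [inv_smul_eq_iff] at hc'
            exact hc'.symm)⟩
          have hyD : y ∈ D := (hD _).mpr ⟨hyN, hy⟩
          have e : y • c = x⁻¹ • c := by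
            rw [eq_inv_smul_iff, ← mul_smul]
            exact hc
          have e' := hinj c y hyD x⁻¹ hxinv e
          rw [e', mul_inv_cancel]
      inv_mem' := by
        rintro x ⟨hxN, hx⟩
        refine ⟨N.inv_mem hxN, ?_⟩
        rcases hx with rfl | hx
        · left
          exact inv_one
        · right
          intro c hc
          exact hx c (by
            rw [inv_smul_eq_iff] at hc
            exact hc.symm) }
  refine ⟨K, ⟨?_⟩, fun x hx => hx.1, ?_, ?_⟩
  · rintro x ⟨hxN, hx⟩ g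
    refine ⟨hNn.conj_mem x hxN g, ?_⟩
    rcases hx with rfl | hx
    · left
      group
    · right
      intro c hc
      apply hx (g⁻¹ • c)
      rw [mul_smul, mul_smul, smul_eq_iff_eq_inv_smul] at hc
      exact hc
  · intro hbot
    have hd0K : d0 ∈ K := ⟨hd0'.1, Or.inr hd0'.2⟩
    rw [hbot, Subgroup.mem_bot] at hd0K
    apply hd0'.2 a0
    rw [hd0K, one_smul]
  · intro hKN
    have hx0K : x0 ∈ K := by rw [hKN]; exact hx0
    rcases hx0K.2 with h1 | h1
    · exact hx01 h1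
    · exact h1 a0 hx0a


/-- the regular case: `N` is elementary abelian -/
theorem regular_case [FaithfulSMul G α] [Finite G]
    (h2 : ∀ a b c d : α, a ≠ b → c ≠ d → ∃ g : G, g • a = c ∧ g • b = d)
    (N : Subgroup G) [hNn : N.Normal] (hN : N ≠ ⊥)
    (hreg : ∀ a : α, ∀ x ∈ N, x • a = a → x = 1) :
    (∀ x ∈ N, ∀ y ∈ N, x * y = y * x) ∧ ∃ p : ℕ, p.Prime ∧ ∀ x ∈ N, x ^ p = 1 := by
  obtain ⟨x0, hx0, hx01⟩ := N.bot_or_exists_ne_one.resolve_left hN
  have hne : Nonempty α := by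
    by_contra hemp
    apply hx01
    apply FaithfulSMul.eq_of_smul_eq_smul (α := α)
    intro c
    exact absurd ⟨c⟩ hemp
  obtain ⟨a⟩ := hne
  have hconj : ∀ x ∈ N, ∀ y ∈ N, x ≠ 1 → y ≠ 1 → ∃ g : G, g * x * g⁻¹ = y := by
    intro x hx y hy hx1 hy1
    have hxa : x • a ≠ a := fun e => hx1 (hreg a x hx e)
    have hya : y • a ≠ a := fun e => hy1 (hreg a y hy e)
    obtain ⟨g, hga, hgx⟩ := h2 a (x • a) a (y • a) hxa.symm hya.symm
    have hga' : g⁻¹ • a = a := by rw [inv_smul_eq_iff, hga]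
    refine ⟨g, ?_⟩
    have hmem : y⁻¹ * (g * x * g⁻¹) ∈ N := N.mul_mem (N.inv_mem hy) (hNn.conj_mem x hx g)
    have hfix : (y⁻¹ * (g * x * g⁻¹)) • a = a := by
      rw [mul_smul, mul_smul, mul_smul, hga', hgx, inv_smul_smul]
    have e := hreg a _ hmem hfix
    exact (inv_mul_eq_one.mp e).symm
  have hord : orderOf x0 ≠ 1 := by rwa [Ne, orderOf_eq_one_iff]
  have hpos : 0 < orderOf x0 := orderOf_pos x0
  obtain ⟨p, hp⟩ : ∃ p : ℕ, p = (orderOf x0).minFac := ⟨_, rfl⟩
  have hpp : p.Prime := by rw [hp]; exact Nat.minFac_prime hord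
  have hpd : p ∣ orderOf x0 := by rw [hp]; exact Nat.minFac_dvd _
  obtain ⟨z, hz⟩ : ∃ z : G, z = x0 ^ (orderOf x0 / p) := ⟨_, rfl⟩
  have hzN : z ∈ N := by rw [hz]; exact N.pow_mem hx0 _
  have hzp : z ^ p = 1 := by
    rw [hz, ← pow_mul, Nat.div_mul_cancel hpd, pow_orderOf_eq_one]
  have hz1 : z ≠ 1 := by
    intro e
    rw [hz] at e
    have hdvd := orderOf_dvd_of_pow_eq_one e
    have h1 : orderOf x0 / p < orderOf x0 := Nat.div_lt_self hpos hpp.one_lt
    have h2' : 0 < orderOf x0 / p := Nat.div_pos (Nat.le_of_dvd hpos hpd) hpp.pos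
    exact absurd (Nat.le_of_dvd h2' hdvd) (by omega)
  have hexp : ∀ x ∈ N, x ^ p = 1 := by
    intro x hx
    by_cases hx1 : x = 1
    · rw [hx1, one_pow]
    · obtain ⟨g, hg⟩ := hconj z hzN x hx hz1 hx1
      rw [← hg, conj_pow, hzp, mul_one, mul_inv_cancel]
  refine ⟨?_, p, hpp, hexp⟩
  have : Fact p.Prime := ⟨hpp⟩
  have hPG : IsPGroup p N := by
    intro y
    refine ⟨1, ?_⟩
    rw [pow_one]
    apply Subtype.ext
    rw [Subgroup.coe_pow, Subgroup.coe_one]
    exact hexp y.1 y.2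
  have : Nontrivial N := ⟨⟨⟨x0, hx0⟩, 1, fun e => hx01 (congrArg Subtype.val e)⟩⟩
  have := hPG.center_nontrivial
  obtain ⟨w, hw⟩ := exists_ne (1 : Subgroup.center N)
  have hwc : ∀ y : N, y * w.1 = w.1 * y := fun y => (Subgroup.mem_center_iff.mp w.2 y)
  have hc1 : (w.1.1 : G) ≠ 1 := by
    intro e
    apply hw
    apply Subtype.ext
    apply Subtype.ext
    exact e
  have hcc : ∀ y ∈ N, y * (w.1.1 : G) = (w.1.1 : G) * y := by
    intro y hy
    exact congrArg Subtype.val (hwc ⟨y, hy⟩)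
  have hcentral : ∀ x ∈ N, ∀ y ∈ N, y * x = x * y := by
    intro x hx y hy
    by_cases hx1 : x = 1
    · rw [hx1, mul_one, one_mul]
    · obtain ⟨g, hg⟩ := hconj (w.1.1 : G) w.1.2 x hx hc1 hx1
      have hy' : g⁻¹ * y * g ∈ N := by simpa using hNn.conj_mem y hy g⁻¹
      have e := hcc _ hy'
      rw [← hg]
      calc y * (g * (w.1.1 : G) * g⁻¹) = g * ((g⁻¹ * y * g) * (w.1.1 : G)) * g⁻¹ := by group
        _ = g * ((w.1.1 : G) * (g⁻¹ * y * g)) * g⁻¹ := by rw [e]
        _ = g * (w.1.1 : G) * g⁻¹ * y := by group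
  intro x hx y hy
  exact hcentral y hy x hx

/-- in the non-regular case every block of `N` is trivial -/
theorem no_block [FaithfulSMul G α] [Finite α] [Finite G]
    (h2 : ∀ a b c d : α, a ≠ b → c ≠ d → ∃ g : G, g • a = c ∧ g • b = d)
    (N : Subgroup G) [hNn : N.Normal]
    (hmin : ∀ M : Subgroup G, M.Normal → M ≤ N → M = ⊥ ∨ M = N)
    (hNt : ∀ a b : α, ∃ x ∈ N, x • a = b)
    (a0 : α) (x0 : G) (hx0 : x0 ∈ N) (hx01 : x0 ≠ 1) (hx0a : x0 • a0 = a0) :
    ∀ B : Set α, NBlock N B → B.Subsingleton ∨ B = Set.univ := by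
  by_contra hcon
  push Not at hcon
  obtain ⟨B1, hB1, hns1, hnu1⟩ := hcon
  have hSne : {k : ℕ | ∃ B : Set α, (NBlock N B ∧ ¬ B.Subsingleton ∧ B ≠ Set.univ) ∧
      B.ncard = k}.Nonempty :=
    ⟨_, B1, ⟨hB1, Set.not_subsingleton_iff.mpr hns1, hnu1⟩, rfl⟩
  obtain ⟨B0, ⟨hB0, hns, hnu⟩, hcard0⟩ := Nat.sInf_mem hSne
  have hminB : ∀ B : Set α, NBlock N B → ¬ B.Subsingleton → B ≠ Set.univ →
      B0.ncard ≤ B.ncard := by
    intro B h1 h2' h3
    rw [hcard0]
    exact Nat.sInf_le ⟨B, ⟨h1, h2', h3⟩, rfl⟩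
  have hfrob := lines_frobenius h2 N B0 hB0 hns hnu hminB
  obtain ⟨K, hKn, hKN, hK1, hK2⟩ := kernel h2 N hNt hfrob a0 x0 hx0 hx01 hx0a
  rcases hmin K hKn hKN with h | h
  · exact hK1 h
  · exact hK2 h

/-- a nontrivial subgroup of `N` normalised by `N` -/
def QN (N M : Subgroup G) : Prop := M ≤ N ∧ M ≠ ⊥ ∧ ∀ x ∈ N, ∀ k ∈ M, x * k * x⁻¹ ∈ M

/-- conjugate subgroup -/
def cj (g : G) (M : Subgroup G) : Subgroup G := M.map (MulAut.conj g).toMonoidHom

omit [MulAction G α] in
theorem mem_cj {g y : G} {M : Subgroup G} : y ∈ cj g M ↔ g⁻¹ * y * g ∈ M := by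
  unfold cj
  rw [Subgroup.mem_map_equiv]
  simp [MulAut.conj_symm_apply]

omit [MulAction G α] in
theorem card_cj (g : G) (M : Subgroup G) : Nat.card (cj g M) = Nat.card M :=
  Subgroup.card_map_of_injective (MulAut.conj g).injective

omit [MulAction G α] in
theorem QN.cj {N M : Subgroup G} [hNn : N.Normal] (hM : QN N M) (g : G) : QN N (cj g M) := by
  obtain ⟨h1, h2, h3⟩ := hM
  refine ⟨?_, ?_, ?_⟩
  · intro y hy
    rw [mem_cj] at hy
    have := hNn.conj_mem _ (h1 hy) g
    simpa [mul_assoc] using this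
  · intro hbot
    apply h2
    rw [eq_bot_iff]
    intro k hk
    have : g * k * g⁻¹ ∈ Cfsg.Agent.S0700.cj g M := by
      rw [mem_cj]
      simpa [mul_assoc] using hk
    rw [hbot, Subgroup.mem_bot] at this
    rw [Subgroup.mem_bot]
    have e : k = g⁻¹ * (g * k * g⁻¹) * g := by group
    rw [e, this]
    group
  · intro x hx y hy
    rw [mem_cj] at hy ⊢
    have hx' : g⁻¹ * x * g ∈ N := by simpa using hNn.conj_mem x hx g⁻¹
    have := h3 _ hx' _ hy
    have e : g⁻¹ * (x * y * x⁻¹) * g = g⁻¹ * x * g * (g⁻¹ * y * g) * (g⁻¹ * x * g)⁻¹ := by group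
    rw [e]
    exact this


/-- the orbit of a point under a subgroup normalised by `N` is a block of `N` -/
theorem orbit_block {N M : Subgroup G} (hM : ∀ x ∈ N, ∀ k ∈ M, x * k * x⁻¹ ∈ M) (a : α) :
    NBlock N {b | ∃ k ∈ M, k • a = b} := by
  intro x hx
  have hx' : x⁻¹ ∈ N := N.inv_mem hx
  have hdesc : x • {b : α | ∃ k ∈ M, k • a = b} = {b | ∃ k ∈ M, k • x • a = b} := by
    ext b
    constructor
    · rintro ⟨b', ⟨k, hk, rfl⟩, rfl⟩
      refine ⟨x * k * x⁻¹, hM x hx k hk, ?_⟩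
      show (x * k * x⁻¹) • x • a = x • k • a
      rw [mul_smul, mul_smul, inv_smul_smul]
    · rintro ⟨k, hk, rfl⟩
      refine ⟨(x⁻¹ * k * x) • a, ⟨x⁻¹ * k * x, by simpa using hM x⁻¹ hx' k hk, rfl⟩, ?_⟩
      show x • (x⁻¹ * k * x) • a = k • x • a
      rw [mul_smul, mul_smul, smul_inv_smul]
  by_cases hmem : ∃ k0 ∈ M, k0 • a = x • a
  · left
    obtain ⟨k0, hk0, hk0a⟩ := hmem
    rw [hdesc]
    ext b
    constructor
    · rintro ⟨k, hk, rfl⟩
      exact ⟨k * k0, M.mul_mem hk hk0, by rw [mul_smul, hk0a]⟩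
    · rintro ⟨k, hk, rfl⟩
      refine ⟨k * k0⁻¹, M.mul_mem hk (M.inv_mem hk0), ?_⟩
      rw [mul_smul, ← hk0a, inv_smul_smul]
  · right
    rw [hdesc, Set.disjoint_left]
    rintro b ⟨k, hk, rfl⟩ ⟨k', hk', hk'a⟩
    apply hmem
    refine ⟨k⁻¹ * k', M.mul_mem (M.inv_mem hk) hk', ?_⟩
    rw [mul_smul, hk'a, inv_smul_smul]

theorem trans_of_QN [FaithfulSMul G α] {N M : Subgroup G}
    (hNt : ∀ a b : α, ∃ x ∈ N, x • a = b)
    (hprim : ∀ B : Set α, NBlock N B → B.Subsingleton ∨ B = Set.univ)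
    (hM : QN N M) : ∀ a b : α, ∃ k ∈ M, k • a = b := by
  obtain ⟨hMN, hM1, hMn⟩ := hM
  have key : ∀ a : α, {b | ∃ k ∈ M, k • a = b} = Set.univ := by
    intro a
    rcases hprim _ (orbit_block hMn a) with hs | hu
    · exfalso
      apply hM1
      rw [eq_bot_iff]
      intro k hk
      rw [Subgroup.mem_bot]
      have hfixa : ∀ k ∈ M, k • a = a := by
        intro k hk
        exact hs ⟨k, hk, rfl⟩ ⟨1, M.one_mem, one_smul _ _⟩
      apply FaithfulSMul.eq_of_smul_eq_smul (α := α)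
      intro c
      rw [one_smul]
      obtain ⟨x, hx, hxa⟩ := hNt a c
      have h1 : x⁻¹ * k * x ∈ M := by simpa using hMn x⁻¹ (N.inv_mem hx) k hk
      have h2 := hfixa _ h1
      rw [← hxa]
      calc k • x • a = x • (x⁻¹ * k * x) • a := by rw [mul_smul, mul_smul, smul_inv_smul]
        _ = x • a := by rw [h2]
    · exact hu
  intro a b
  have hb : b ∈ {b | ∃ k ∈ M, k • a = b} := by
    rw [key a]
    exact Set.mem_univ b
  exact hb

/-- in the non-regular primitive case, `N` has no proper nontrivial subgroup normalised by `N` -/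
theorem simple_core [FaithfulSMul G α] [Finite G]
    (h2 : ∀ a b c d : α, a ≠ b → c ≠ d → ∃ g : G, g • a = c ∧ g • b = d)
    (N : Subgroup G) [hNn : N.Normal]
    (hmin : ∀ M : Subgroup G, M.Normal → M ≤ N → M = ⊥ ∨ M = N)
    (hNt : ∀ a b : α, ∃ x ∈ N, x • a = b)
    (hprim : ∀ B : Set α, NBlock N B → B.Subsingleton ∨ B = Set.univ)
    (a0 : α) (x0 : G) (hx0 : x0 ∈ N) (hx01 : x0 ≠ 1) (hx0a : x0 • a0 = a0)
    (K0 : Subgroup G) (hK0 : QN N K0) : K0 = N := by
  have hSne : {k : ℕ | ∃ M : Subgroup G, QN N M ∧ Nat.card M = k}.Nonempty :=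
    ⟨_, K0, hK0, rfl⟩
  obtain ⟨K, hK, hcardK⟩ := Nat.sInf_mem hSne
  have hminK : ∀ M : Subgroup G, QN N M → Nat.card K ≤ Nat.card M := by
    intro M hM
    rw [hcardK]
    exact Nat.sInf_le ⟨M, hM, rfl⟩
  by_cases hKN : K = N
  · exact Subgroup.eq_of_le_of_card_ge hK0.1 (by rw [← hKN]; exact hminK K0 hK0)
  exfalso
  have hinf : ∀ M : Subgroup G, QN N M → Nat.card M = Nat.card K → M ≠ K → K ⊓ M = ⊥ := by
    intro M hM hcM hMK
    by_contra hne
    have hQI : QN N (K ⊓ M) := ⟨inf_le_left.trans hK.1, hne,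
      fun x hx k hk => ⟨hK.2.2 x hx k hk.1, hM.2.2 x hx k hk.2⟩⟩
    have h1 := hminK _ hQI
    have h2' : K ⊓ M = K := Subgroup.eq_of_le_of_card_ge inf_le_left h1
    have h3 : K ≤ M := by
      rw [← h2']
      exact inf_le_right
    exact hMK (Subgroup.eq_of_le_of_card_ge h3 (le_of_eq hcM)).symm
  have hcomm : ∀ M : Subgroup G, QN N M → K ⊓ M = ⊥ → ∀ k ∈ K, ∀ m ∈ M, k * m = m * k := by
    intro M hM hbot k hk m hm
    have h1 : k * m * k⁻¹ * m⁻¹ ∈ K ⊓ M := by
      constructor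
      · have h3 := hK.2.2 m (hM.1 hm) k⁻¹ (K.inv_mem hk)
        have e : k * m * k⁻¹ * m⁻¹ = k * (m * k⁻¹ * m⁻¹) := by group
        rw [e]
        exact K.mul_mem hk h3
      · have h3 := hM.2.2 k (hK.1 hk) m hm
        exact M.mul_mem h3 (M.inv_mem hm)
    rw [hbot, Subgroup.mem_bot] at h1
    have e : k * m = (k * m * k⁻¹ * m⁻¹) * (m * k) := by group
    rw [e, h1, one_mul]
  obtain ⟨g0, hg0⟩ : ∃ g : G, cj g K ≠ K := by
    by_contra hcon
    push Not at hcon
    have hKnorm : K.Normal := by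
      constructor
      intro k hk g
      rw [← hcon g, mem_cj]
      simpa [mul_assoc] using hk
    rcases hmin K hKnorm hK.1 with h | h
    · exact hK.2.1 h
    · exact hKN h
  obtain ⟨K', hK'def⟩ : ∃ K' : Subgroup G, K' = cj g0 K := ⟨_, rfl⟩
  have hQK' : QN N K' := by rw [hK'def]; exact hK.cj g0
  have hcK' : Nat.card K' = Nat.card K := by rw [hK'def]; exact card_cj g0 K
  have hK'K : K' ≠ K := by rw [hK'def]; exact hg0
  have hbot := hinf K' hQK' hcK' hK'K
  have hc := hcomm K' hQK' hbot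
  have hKt := trans_of_QN hNt hprim hK
  have hK't := trans_of_QN hNt hprim hQK'
  have hKreg : ∀ a : α, ∀ k ∈ K, k • a = a → k = 1 := by
    intro a k hk hka
    apply FaithfulSMul.eq_of_smul_eq_smul (α := α)
    intro b
    rw [one_smul]
    obtain ⟨k', hk', rfl⟩ := hK't a b
    rw [← mul_smul, hc k hk k' hk', mul_smul, hka]
  have hK'reg : ∀ a : α, ∀ k' ∈ K', k' • a = a → k' = 1 := by
    intro a k' hk' hka
    apply FaithfulSMul.eq_of_smul_eq_smul (α := α)
    intro b
    rw [one_smul]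
    obtain ⟨k, hk, rfl⟩ := hKt a b
    rw [← mul_smul, ← hc k hk k' hk', mul_smul, hka]
  have hcent : ∀ c ∈ N, (∀ k ∈ K, c * k = k * c) → c ∈ K' := by
    intro c hcN hck
    obtain ⟨k', hk', hk'a⟩ := hK't a0 (c • a0)
    have hy1 : k'⁻¹ * c = 1 := by
      apply FaithfulSMul.eq_of_smul_eq_smul (α := α)
      intro b
      rw [one_smul]
      obtain ⟨k, hk, rfl⟩ := hKt a0 b
      have e1 : (k'⁻¹ * c) * k = k * (k'⁻¹ * c) := by
        have e2 := hc k hk k' hk'
        have e3 := hck k hk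
        have e4 : k'⁻¹ * k = k * k'⁻¹ := by
          rw [inv_mul_eq_iff_eq_mul, ← mul_assoc, ← e2, mul_assoc, mul_inv_cancel, mul_one]
        rw [mul_assoc, e3, ← mul_assoc, e4, mul_assoc]
      rw [← mul_smul, e1, mul_smul, mul_smul, ← hk'a, inv_smul_smul]
    have e : c = k' := by
      rw [inv_mul_eq_one] at hy1
      exact hy1.symm
    rw [e]
    exact hk'
  have hdich : ∀ M : Subgroup G, QN N M → Nat.card M = Nat.card K → M = K ∨ M = K' := by
    intro M hM hcM
    by_cases hMK : M = K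
    · left
      exact hMK
    · right
      have hb := hinf M hM hcM hMK
      have hcm := hcomm M hM hb
      have hle : M ≤ K' := by
        intro m hm
        exact hcent m (hM.1 hm) (fun k hk => (hcm k hk m hm).symm)
      exact Subgroup.eq_of_le_of_card_ge hle (by rw [hcK', hcM])
  have hsupN : (K ⊔ K').Normal := by
    constructor
    intro x hx g
    have hmap : (K ⊔ K').map (MulAut.conj g).toMonoidHom ≤ K ⊔ K' := by
      rw [Subgroup.map_sup]
      apply sup_le
      · rcases hdich (cj g K) (hK.cj g) (card_cj g K) with h | h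
        · exact (le_of_eq h).trans le_sup_left
        · exact (le_of_eq h).trans le_sup_right
      · rcases hdich (cj g K') (hQK'.cj g) ((card_cj g K').trans hcK') with h | h
        · exact (le_of_eq h).trans le_sup_left
        · exact (le_of_eq h).trans le_sup_right
    apply hmap
    exact ⟨x, hx, rfl⟩
  have hsup : K ⊔ K' = N := by
    rcases hmin (K ⊔ K') hsupN (sup_le hK.1 hQK'.1) with h | h
    · exfalso
      apply hK.2.1
      rw [eq_bot_iff, ← h]
      exact le_sup_left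
    · exact h
  have hdec : ∀ x ∈ N, ∃ k ∈ K, ∃ k' ∈ K', x = k * k' := by
    let P : Subgroup G :=
      { carrier := {x | ∃ k ∈ K, ∃ k' ∈ K', x = k * k'}
        one_mem' := ⟨1, K.one_mem, 1, K'.one_mem, (mul_one 1).symm⟩
        mul_mem' := by
          rintro _ _ ⟨k1, hk1, k1', hk1', rfl⟩ ⟨k2, hk2, k2', hk2', rfl⟩
          refine ⟨k1 * k2, K.mul_mem hk1 hk2, k1' * k2', K'.mul_mem hk1' hk2', ?_⟩
          have e := hc k2 hk2 k1' hk1'
          calc k1 * k1' * (k2 * k2') = k1 * (k1' * k2) * k2' := by group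
            _ = k1 * (k2 * k1') * k2' := by rw [e]
            _ = k1 * k2 * (k1' * k2') := by group
        inv_mem' := by
          rintro _ ⟨k, hk, k', hk', rfl⟩
          refine ⟨k⁻¹, K.inv_mem hk, k'⁻¹, K'.inv_mem hk', ?_⟩
          have e := hc k⁻¹ (K.inv_mem hk) k'⁻¹ (K'.inv_mem hk')
          rw [mul_inv_rev, e] }
    have hle : K ⊔ K' ≤ P := by
      apply sup_le
      · intro k hk
        exact ⟨k, hk, 1, K'.one_mem, (mul_one k).symm⟩
      · intro k' hk'
        exact ⟨1, K.one_mem, k', hk', (one_mul k').symm⟩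
    intro x hx
    rw [← hsup] at hx
    exact hle hx
  have hpow : ∀ v ∈ K, ∀ w ∈ K', w • a0 = v • a0 → ∀ j : ℕ, w ^ j • a0 = v ^ j • a0 := by
    intro v hv w hw hwv j
    induction j with
    | zero => simp
    | succ j ih =>
      rw [pow_succ, mul_smul, hwv, ← mul_smul, ← hc v hv (w ^ j) (K'.pow_mem hw j), mul_smul, ih,
        ← mul_smul, ← pow_succ']
  have hord_eq : ∀ v ∈ K, ∀ w ∈ K', w • a0 = v • a0 → orderOf w = orderOf v := by
    intro v hv w hw hwv
    apply orderOf_eq_orderOf_iff.mpr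
    intro j
    have hj := hpow v hv w hw hwv j
    constructor
    · intro e
      apply hKreg a0 _ (K.pow_mem hv j)
      rw [← hj, e, one_smul]
    · intro e
      apply hK'reg a0 _ (K'.pow_mem hw j)
      rw [hj, e, one_smul]
  have hsame : ∀ u ∈ K, ∀ v ∈ K, u ≠ 1 → v ≠ 1 → orderOf u = orderOf v := by
    intro u hu v hv hu1 hv1
    have hua : u • a0 ≠ a0 := fun e => hu1 (hKreg a0 u hu e)
    have hva : v • a0 ≠ a0 := fun e => hv1 (hKreg a0 v hv e)
    obtain ⟨g, hga, hgu⟩ := h2 a0 (u • a0) a0 (v • a0) hua.symm hva.symm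
    have hga' : g⁻¹ • a0 = a0 := by rw [inv_smul_eq_iff, hga]
    have hconj_a : (g * u * g⁻¹) • a0 = v • a0 := by
      rw [mul_smul, mul_smul, hga', hgu]
    have hmem : g * u * g⁻¹ ∈ cj g K := by
      rw [mem_cj]
      simpa [mul_assoc] using hu
    have hoc : orderOf (g * u * g⁻¹) = orderOf u :=
      orderOf_injective (MulAut.conj g).toMonoidHom (MulAut.conj g).injective u
    rcases hdich (cj g K) (hK.cj g) (card_cj g K) with h | h
    · rw [h] at hmem
      have e : g * u * g⁻¹ = v := by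
        have hfix : (v⁻¹ * (g * u * g⁻¹)) • a0 = a0 := by
          rw [mul_smul, hconj_a, inv_smul_smul]
        have e1 := hKreg a0 _ (K.mul_mem (K.inv_mem hv) hmem) hfix
        exact (inv_mul_eq_one.mp e1).symm
      rw [← e, hoc]
    · rw [h] at hmem
      rw [← hord_eq v hv _ hmem hconj_a, hoc]
  -- a central element of `K`
  obtain ⟨u0, hu0, hu01⟩ := K.bot_or_exists_ne_one.resolve_left hK.2.1
  have hord : orderOf u0 ≠ 1 := by rwa [Ne, orderOf_eq_one_iff]
  have hpos : 0 < orderOf u0 := orderOf_pos u0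
  obtain ⟨p, hp⟩ : ∃ p : ℕ, p = (orderOf u0).minFac := ⟨_, rfl⟩
  have hpp : p.Prime := by rw [hp]; exact Nat.minFac_prime hord
  have hpd : p ∣ orderOf u0 := by rw [hp]; exact Nat.minFac_dvd _
  obtain ⟨z0, hz0⟩ : ∃ z0 : G, z0 = u0 ^ (orderOf u0 / p) := ⟨_, rfl⟩
  have hz0K : z0 ∈ K := by rw [hz0]; exact K.pow_mem hu0 _
  have hz0p : z0 ^ p = 1 := by
    rw [hz0, ← pow_mul, Nat.div_mul_cancel hpd, pow_orderOf_eq_one]
  have hz01 : z0 ≠ 1 := by
    intro e
    rw [hz0] at e
    have hdvd := orderOf_dvd_of_pow_eq_one e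
    have h1 : orderOf u0 / p < orderOf u0 := Nat.div_lt_self hpos hpp.one_lt
    have h2' : 0 < orderOf u0 / p := Nat.div_pos (Nat.le_of_dvd hpos hpd) hpp.pos
    exact absurd (Nat.le_of_dvd h2' hdvd) (by omega)
  have hexp : ∀ k ∈ K, k ^ p = 1 := by
    intro k hk
    by_cases hk1 : k = 1
    · rw [hk1, one_pow]
    · have e := hsame k hk z0 hz0K hk1 hz01
      rw [← orderOf_dvd_iff_pow_eq_one, e]
      exact orderOf_dvd_of_pow_eq_one hz0p
  have : Fact p.Prime := ⟨hpp⟩
  have hPG : IsPGroup p K := by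
    intro y
    refine ⟨1, ?_⟩
    rw [pow_one]
    apply Subtype.ext
    rw [Subgroup.coe_pow, Subgroup.coe_one]
    exact hexp y.1 y.2
  have : Nontrivial K := ⟨⟨⟨u0, hu0⟩, 1, fun e => hu01 (congrArg Subtype.val e)⟩⟩
  have := hPG.center_nontrivial
  obtain ⟨w, hw⟩ := exists_ne (1 : Subgroup.center K)
  have hwc : ∀ y : K, y * w.1 = w.1 * y := fun y => (Subgroup.mem_center_iff.mp w.2 y)
  obtain ⟨z, hzdef⟩ : ∃ z : G, z = (w.1.1 : G) := ⟨_, rfl⟩
  have hzK : z ∈ K := by rw [hzdef]; exact w.1.2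
  have hz1 : z ≠ 1 := by
    intro e
    apply hw
    apply Subtype.ext
    apply Subtype.ext
    rw [← hzdef]
    exact e
  have hzc : ∀ k ∈ K, k * z = z * k := by
    intro k hk
    rw [hzdef]
    exact congrArg Subtype.val (hwc ⟨k, hk⟩)
  have hfixb : ∀ x ∈ N, x • a0 = a0 → x • z • a0 = z • a0 := by
    intro x hx hxa
    obtain ⟨k, hk, k', hk', rfl⟩ := hdec x hx
    have e1 : k' * z = z * k' := (hc z hzK k' hk').symm
    have e2 : k * z = z * k := hzc k hk
    calc (k * k') • z • a0 = (k * (k' * z)) • a0 := by rw [← mul_smul, mul_assoc]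
      _ = (k * (z * k')) • a0 := by rw [e1]
      _ = ((k * z) * k') • a0 := by rw [mul_assoc]
      _ = ((z * k) * k') • a0 := by rw [e2]
      _ = z • (k * k') • a0 := by rw [mul_assoc, mul_smul]
      _ = z • a0 := by rw [hxa]
  have hzb : z • a0 ≠ a0 := fun e => hz1 (hKreg a0 z hzK e)
  apply hx01
  apply FaithfulSMul.eq_of_smul_eq_smul (α := α)
  intro c
  rw [one_smul]
  by_cases hca : c = a0
  · rw [hca]
    exact hx0a
  · obtain ⟨g, hga, hgb⟩ := h2 a0 (z • a0) a0 c hzb.symm (Ne.symm hca)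
    have hga' : g⁻¹ • a0 = a0 := by rw [inv_smul_eq_iff, hga]
    have hy : g⁻¹ * x0 * g ∈ N := by simpa using hNn.conj_mem x0 hx0 g⁻¹
    have hya : (g⁻¹ * x0 * g) • a0 = a0 := by
      rw [mul_smul, mul_smul, hga, hx0a, hga']
    have hyb := hfixb _ hy hya
    rw [mul_smul, mul_smul, hgb, inv_smul_eq_iff] at hyb
    exact hyb.trans hgb

end core


/-- Burnside's theorem for an abstract faithful doubly transitive action -/
theorem core_main {G α : Type*} [Group G] [MulAction G α] [FaithfulSMul G α] [Finite α]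
    (hG : MulAction.IsMultiplyPretransitive G α 2) (N : Subgroup G) [hNn : N.Normal] (hN : N ≠ ⊥)
    (hmin : ∀ M : Subgroup G, M.Normal → M ≤ N → M = ⊥ ∨ M = N) :
    (IsMulCommutative N ∧ (∃ p : ℕ, p.Prime ∧ ∀ n ∈ N, n ^ p = 1) ∧
      ∀ a : α, MulAction.stabilizer N a = ⊥) ∨
    (IsSimpleGroup N ∧ MulAction.IsPreprimitive N α) := by
  classical
  have hfinG : Finite G :=
    Finite.of_injective (MulAction.toPermHom G α) MulAction.toPerm_injective
  have h2 : ∀ a b c d : α, a ≠ b → c ≠ d → ∃ g : G, g • a = c ∧ g • b = d := by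
    intro a b c d hab hcd
    exact MulAction.is_two_pretransitive_iff.mp hG hab hcd
  have hprimG : MulAction.IsPreprimitive G α := MulAction.isPreprimitive_of_is_two_pretransitive hG
  obtain ⟨y0, hy0, hy01⟩ := N.bot_or_exists_ne_one.resolve_left hN
  have hNt' : MulAction.IsPretransitive N α := by
    apply MulAction.IsQuasiPreprimitive.isPretransitive_of_normal (G := G) (X := α)
    intro hfix
    apply hy01
    apply FaithfulSMul.eq_of_smul_eq_smul (α := α)
    intro c
    rw [one_smul]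
    have hc : c ∈ MulAction.fixedPoints N α := by
      rw [hfix]
      exact Set.mem_univ c
    exact hc ⟨y0, hy0⟩
  have hNt : ∀ a b : α, ∃ x ∈ N, x • a = b := by
    intro a b
    obtain ⟨x, hx⟩ := hNt'.exists_smul_eq a b
    exact ⟨x.1, x.2, hx⟩
  by_cases hreg : ∀ a : α, ∀ x ∈ N, x • a = a → x = 1
  · left
    obtain ⟨hcomm, p, hp, hexp⟩ := regular_case h2 N hN hreg
    refine ⟨⟨⟨fun x y => Subtype.ext (hcomm x.1 x.2 y.1 y.2)⟩⟩, ⟨p, hp, hexp⟩, ?_⟩
    intro a
    rw [eq_bot_iff]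
    intro x hx
    rw [Subgroup.mem_bot]
    apply Subtype.ext
    exact hreg a x.1 x.2 hx
  · right
    push Not at hreg
    obtain ⟨a0, x0, hx0, hx0a, hx01⟩ := hreg
    have hprim := no_block h2 N hmin hNt a0 x0 hx0 hx01 hx0a
    constructor
    · have hnt : Nontrivial N := ⟨⟨⟨x0, hx0⟩, 1, fun e => hx01 (congrArg Subtype.val e)⟩⟩
      refine { toNontrivial := hnt, eq_bot_or_eq_top_of_normal := fun H hH => ?_ }
      by_cases hHbot : H = ⊥
      · left
        exact hHbot
      · right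
        have hQ : QN N (H.map N.subtype) := by
          refine ⟨Subgroup.map_subtype_le H, ?_, ?_⟩
          · intro hb
            exact hHbot ((Subgroup.map_eq_bot_iff_of_injective H N.subtype_injective).mp hb)
          · rintro x hx _ ⟨z, hz, rfl⟩
            refine ⟨(⟨x, hx⟩ : N) * z * (⟨x, hx⟩ : N)⁻¹, hH.conj_mem z hz ⟨x, hx⟩, ?_⟩
            simp
        have hK0 := simple_core h2 N hmin hNt hprim a0 x0 hx0 hx01 hx0a _ hQ
        rw [eq_top_iff]
        intro y _
        have hy : (y : G) ∈ H.map N.subtype := by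
          rw [hK0]
          exact y.2
        obtain ⟨z, hz, hzy⟩ := hy
        have e : z = y := Subtype.ext hzy
        rw [← e]
        exact hz
    · refine { toIsPretransitive := hNt', isTrivialBlock_of_isBlock := ?_ }
      intro B hB
      apply hprim
      intro x hx
      exact (MulAction.isBlock_iff_smul_eq_or_disjoint.mp hB) ⟨x, hx⟩

/-- Burnside's Theorem on doubly transitive groups: a minimal normal subgroup of a finite doubly transitive permutation group is elementary abelian and regular, or simple and primitive. -/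
theorem result {α : Type*} [Fintype α] [DecidableEq α] (G : Subgroup (Equiv.Perm α)) (hG : MulAction.IsMultiplyPretransitive G α 2) (N : Subgroup G) [N.Normal] (hN : N ≠ ⊥) (hmin : ∀ M : Subgroup G, M.Normal → M ≤ N → M = ⊥ ∨ M = N) : (IsMulCommutative N ∧ (∃ p : ℕ, p.Prime ∧ ∀ n ∈ N, n ^ p = 1) ∧ ∀ a : α, MulAction.stabilizer N a = ⊥) ∨ (IsSimpleGroup N ∧ MulAction.IsPreprimitive N α) := by
  have hfaith : FaithfulSMul G α := by
    constructor
    intro x y hxy
    apply Subtype.ext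
    apply Equiv.ext
    intro a
    exact hxy a
  exact core_main hG N hN hmin

end Cfsg.Agent.S0700
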