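import Cfsg.Statements.S0701

set_option autoImplicit false
open Cfsg

namespace Cfsg.Agent.S0701

theorem result {α : Type*} (G : Subgroup (Equiv.Perm α)) [MulAction.IsPretransitive G α] : (∀ c ∈ Subgroup.centralizer (G : Set (Equiv.Perm α)), ∀ a : α, c a = a → c = 1) ∧ (MulAction.IsPretransitive (Subgroup.centralizer (G : Set (Equiv.Perm α))) α ↔ ∀ a : α, MulAction.stabilizer G a = ⊥) := by
  have key : ∀ c ∈ Subgroup.centralizer (G : Set (Equiv.Perm α)), ∀ g ∈ G, ∀ x : α, c (g x) = g (c x) := by
    intro c hc g hg x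
    have := hc g hg
    have h2 := congrArg (fun f : Equiv.Perm α => f x) this
    simpa using h2.symm
  refine ⟨?_, ?_, ?_⟩
  · intro c hc a hca
    ext b
    obtain ⟨g, hg⟩ := MulAction.exists_smul_eq G a b
    have hgb : (g : Equiv.Perm α) a = b := hg
    rw [← hgb, key c hc g g.2 a, hca]
    simp
  · intro htr a
    rw [eq_bot_iff]
    intro g hg
    rw [Subgroup.mem_bot]
    have hga : (g : Equiv.Perm α) a = a := hg
    apply Subtype.ext
    ext b
    obtain ⟨c, hc⟩ := htr.exists_smul_eq a b
    have hcb : (c : Equiv.Perm α) a = b := hc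
    rw [← hcb, ← key c c.2 g g.2 a, hga]
    simp
  · intro hreg
    refine ⟨fun a b => ?_⟩
    have hbij : ∀ x : α, Function.Bijective (fun g : G => (g : Equiv.Perm α) x) := by
      intro x
      refine ⟨?_, ?_⟩
      · intro g h hgh
        have : g⁻¹ * h ∈ MulAction.stabilizer G x := by
          rw [MulAction.mem_stabilizer_iff]
          change ((g⁻¹ * h : G) : Equiv.Perm α) x = x
          have h1 : (g : Equiv.Perm α) x = (h : Equiv.Perm α) x := hgh
          simp [← h1]
        rw [hreg x, Subgroup.mem_bot] at this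
        have := inv_mul_eq_one.mp this
        exact this
      · intro y
        obtain ⟨g, hg⟩ := MulAction.exists_smul_eq G x y
        exact ⟨g, hg⟩
    let ea : G ≃ α := Equiv.ofBijective _ (hbij a)
    let eb : G ≃ α := Equiv.ofBijective _ (hbij b)
    let c : Equiv.Perm α := ea.symm.trans eb
    have hea : ∀ g : G, ea g = (g : Equiv.Perm α) a := fun g => rfl
    have heb : ∀ g : G, eb g = (g : Equiv.Perm α) b := fun g => rfl
    have hc : c ∈ Subgroup.centralizer (G : Set (Equiv.Perm α)) := by
      intro h hh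
      ext x
      obtain ⟨g, rfl⟩ := ea.surjective x
      have h1 : h (ea g) = ea (⟨h, hh⟩ * g) := by
        rw [hea, hea]; rfl
      simp only [Equiv.Perm.coe_mul, Function.comp_apply]
      rw [h1]
      simp only [c, Equiv.trans_apply, Equiv.symm_apply_apply]
      rw [heb, heb]; rfl
    refine ⟨⟨c, hc⟩, ?_⟩
    change c a = b
    have : a = ea 1 := by rw [hea]; simp
    rw [this]
    simp only [c, Equiv.trans_apply, Equiv.symm_apply_apply]
    rw [heb]; simp

end Cfsg.Agent.S0701
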