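import Cfsg.Statements.S0702
import Mathlib

set_option autoImplicit false
open Cfsg

namespace Cfsg.Agent.S0702

theorem result {α : Type*} [Finite α] (G : Subgroup (Equiv.Perm α)) [MulAction.IsPretransitive G α] (a : α) : Nonempty (Subgroup.centralizer (G : Set (Equiv.Perm α)) ≃* Subgroup.normalizer ((MulAction.stabilizer G a : Subgroup G) : Set G) ⧸ (MulAction.stabilizer G a).subgroupOf (Subgroup.normalizer ((MulAction.stabilizer G a : Subgroup G) : Set G))) ∧ MulAction.orbit (Subgroup.centralizer (G : Set (Equiv.Perm α))) a = MulAction.fixedPoints (MulAction.stabilizer G a) α := by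
  classical
  set K := MulAction.stabilizer G a with hK
  set N := Subgroup.normalizer (K : Set G) with hN
  set C := Subgroup.centralizer (G : Set (Equiv.Perm α)) with hC
  have key : ∀ c ∈ C, ∀ g : G, ∀ x : α, c (g • x) = g • (c x) := by
    intro c hc g x
    have := hc g g.2
    have h2 := congrArg (fun f : Equiv.Perm α => f x) this
    change c ((g : Equiv.Perm α) x) = (g : Equiv.Perm α) (c x)
    simpa using h2.symm
  let σ : α → G := fun x => Classical.choose (MulAction.exists_smul_eq G a x)
  have hσ : ∀ x, σ x • a = x := fun x => Classical.choose_spec (MulAction.exists_smul_eq G a x)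
  let f : G → α → α := fun n x => σ x • n⁻¹ • a
  have hwd : ∀ n ∈ N, ∀ g : G, f n (g • a) = g • n⁻¹ • a := by
    intro n hn g
    simp only [f]
    set g' := σ (g • a)
    have h1 : g' • a = g • a := hσ _
    have h2 : g⁻¹ * g' ∈ K := by
      rw [hK, MulAction.mem_stabilizer_iff, mul_smul, h1, inv_smul_smul]
    have h3 : n * (g⁻¹ * g') * n⁻¹ ∈ K := (Subgroup.mem_normalizer_iff.mp hn _).mp h2
    rw [hK, MulAction.mem_stabilizer_iff] at h3
    have : g' • n⁻¹ • a = g • n⁻¹ • (n * (g⁻¹ * g') * n⁻¹) • a := by simp [mul_smul]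
    rw [this, h3]
  have hcomp : ∀ n ∈ N, ∀ m ∈ N, ∀ x, f n (f m x) = f (n * m) x := by
    intro n hn m hm x
    obtain ⟨g, rfl⟩ := MulAction.exists_smul_eq G a x
    rw [hwd m hm g, ← mul_smul, hwd n hn (g * m⁻¹), hwd (n * m) (N.mul_mem hn hm) g]
    simp [mul_smul]
  have hone : ∀ x, f 1 x = x := by
    intro x
    obtain ⟨g, rfl⟩ := MulAction.exists_smul_eq G a x
    rw [hwd 1 N.one_mem g]; simp
  -- the permutation attached to n ∈ N
  let P : N → Equiv.Perm α := fun n =>
    { toFun := f n.1
      invFun := f (n.1)⁻¹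
      left_inv := fun x => by
        rw [hcomp _ (N.inv_mem n.2) _ n.2, inv_mul_cancel, hone]
      right_inv := fun x => by
        rw [hcomp _ n.2 _ (N.inv_mem n.2), mul_inv_cancel, hone] }
  have hPC : ∀ n : N, P n ∈ C := by
    intro n h hh
    ext x
    obtain ⟨g, rfl⟩ := MulAction.exists_smul_eq G a x
    change h (f n.1 (g • a)) = f n.1 (h (g • a))
    have e1 : h (g • a) = ((⟨h, hh⟩ : G) * g) • a := by rw [mul_smul]; rfl
    rw [e1, hwd n.1 n.2, hwd n.1 n.2, mul_smul]; rfl
  let φ : N →* C :=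
    { toFun := fun n => ⟨P n, hPC n⟩
      map_one' := by
        apply Subtype.ext
        ext x
        exact hone x
      map_mul' := fun n m => by
        apply Subtype.ext
        ext x
        change f (n.1 * m.1) x = f n.1 (f m.1 x)
        rw [hcomp _ n.2 _ m.2] }
  have hφapp : ∀ (n : N) (g : G), (φ n : Equiv.Perm α) (g • a) = g • (n.1)⁻¹ • a := by
    intro n g
    exact hwd n.1 n.2 g
  -- surjectivity
  have hsurj : ∀ c ∈ C, ∀ g₀ : G, c a = g₀ • a → g₀⁻¹ ∈ N ∧ ∀ hn : g₀⁻¹ ∈ N, ((φ ⟨g₀⁻¹, hn⟩ : C) : Equiv.Perm α) = c := by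
    intro c hc g₀ hg₀
    have hcinv : c⁻¹ ∈ C := C.inv_mem hc
    have hg₀' : c⁻¹ a = g₀⁻¹ • a := by
      have h1 : c⁻¹ (g₀ • a) = a := by rw [← hg₀]; simp
      rw [key c⁻¹ hcinv g₀ a] at h1
      have h2 : g₀⁻¹ • (g₀ • c⁻¹ a) = g₀⁻¹ • a := by rw [h1]
      rw [inv_smul_smul] at h2
      exact h2
    have hsub1 : ∀ k ∈ K, g₀⁻¹ * k * g₀ ∈ K := by
      intro k hk
      rw [hK, MulAction.mem_stabilizer_iff] at hk ⊢
      have h1 : k • (c a) = c a := by rw [← key c hc k a, hk]
      rw [hg₀] at h1
      rw [mul_smul, mul_smul, h1, inv_smul_smul]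
    have hsub2 : ∀ k ∈ K, g₀ * k * g₀⁻¹ ∈ K := by
      intro k hk
      rw [hK, MulAction.mem_stabilizer_iff] at hk ⊢
      have h1 : k • (c⁻¹ a) = c⁻¹ a := by rw [← key c⁻¹ hcinv k a, hk]
      rw [hg₀'] at h1
      rw [mul_smul, mul_smul, h1, smul_inv_smul]
    have hmemN : g₀⁻¹ ∈ N := by
      rw [hN, Subgroup.mem_normalizer_iff]
      intro k
      constructor
      · intro hk
        simpa using hsub1 k hk
      · intro hk
        have := hsub2 _ hk
        simpa [mul_assoc] using this
    refine ⟨hmemN, fun hn => ?_⟩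
    ext x
    obtain ⟨g, rfl⟩ := MulAction.exists_smul_eq G a x
    rw [hφapp, key c hc g a, hg₀]
    simp
  have hφsurj : Function.Surjective φ := by
    rintro ⟨c, hc⟩
    obtain ⟨g₀, hg₀⟩ := MulAction.exists_smul_eq G a (c a)
    obtain ⟨hn, heq⟩ := hsurj c hc g₀ hg₀.symm
    exact ⟨⟨g₀⁻¹, hn⟩, Subtype.ext (heq hn)⟩
  have hker : φ.ker = K.subgroupOf N := by
    ext n
    rw [MonoidHom.mem_ker, Subgroup.mem_subgroupOf]
    constructor
    · intro h
      have h1 := hφapp n 1
      rw [h] at h1
      simp only [one_smul, OneMemClass.coe_one, Equiv.Perm.coe_one, id_eq] at h1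
      rw [hK, MulAction.mem_stabilizer_iff]
      have : (n.1) • (n.1)⁻¹ • a = (n.1) • a := by rw [← h1]
      rw [smul_inv_smul] at this
      exact this.symm
    · intro h
      apply Subtype.ext
      ext x
      obtain ⟨g, rfl⟩ := MulAction.exists_smul_eq G a x
      rw [hφapp]
      have : (n.1)⁻¹ • a = a := by
        have := K.inv_mem h
        rw [hK, MulAction.mem_stabilizer_iff] at this
        exact this
      rw [this]; rfl
  refine ⟨⟨?_⟩, ?_⟩
  · exact ((QuotientGroup.quotientMulEquivOfEq hker).symm.trans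
      (QuotientGroup.quotientKerEquivOfSurjective φ hφsurj)).symm
  · ext x
    constructor
    · rintro ⟨c, rfl⟩
      intro k
      have hk : (k : G) • a = a := k.2
      change (k : G) • ((c : Equiv.Perm α) a) = (c : Equiv.Perm α) a
      rw [← key c c.2 k a, hk]
    · intro hx
      obtain ⟨g₀, rfl⟩ := MulAction.exists_smul_eq G a x
      -- K ≤ stabilizer (g₀ • a) = conj K
      have hle : K ≤ K.map (MulAut.conj g₀).toMonoidHom := by
        rw [hK, ← MulAction.stabilizer_smul_eq_stabilizer_map_conj]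
        intro k hk
        rw [MulAction.mem_stabilizer_iff]
        exact hx ⟨k, hk⟩
      haveI : Finite G := Subtype.finite
      have heq : K = K.map (MulAut.conj g₀).toMonoidHom := by
        apply Subgroup.eq_of_le_of_card_ge hle
        rw [Subgroup.card_map_of_injective (MulAut.conj g₀).injective]
      have hmemN : g₀ ∈ N := by
        rw [hN, Subgroup.mem_normalizer_iff]
        intro k
        constructor
        · intro hk
          rw [heq]
          exact ⟨k, hk, rfl⟩
        · intro hk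
          rw [heq] at hk
          obtain ⟨k', hk', hkk⟩ := hk
          have : g₀ * k' * g₀⁻¹ = g₀ * k * g₀⁻¹ := hkk
          have : k' = k := by simpa using this
          rw [← this]; exact hk'
      refine ⟨φ ⟨g₀⁻¹, N.inv_mem hmemN⟩, ?_⟩
      have := hφapp ⟨g₀⁻¹, N.inv_mem hmemN⟩ 1
      simp only [one_smul, inv_inv] at this
      exact this

end Cfsg.Agent.S0702
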