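import Cfsg.Statements.S0703
import Mathlib
import Cfsg.Agent.S0701

set_option autoImplicit false
open Cfsg

namespace Cfsg.Agent.S0703

section
variable {α : Type*} (G : Subgroup (Equiv.Perm α)) (M : Subgroup G)

theorem mem_map_iff (x : Equiv.Perm α) :
    x ∈ M.map G.subtype ↔ ∃ h : x ∈ G, (⟨x, h⟩ : G) ∈ M := by
  constructor
  · rintro ⟨m, hm, rfl⟩
    exact ⟨m.2, hm⟩
  · rintro ⟨h, hm⟩
    exact ⟨⟨x, h⟩, hm, rfl⟩

theorem trans_map (htrans : MulAction.IsPretransitive M α) :
    MulAction.IsPretransitive (M.map G.subtype : Subgroup (Equiv.Perm α)) α := by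
  refine ⟨fun a b => ?_⟩
  obtain ⟨m, hm⟩ := htrans.exists_smul_eq a b
  refine ⟨⟨(m : G), ⟨(m : G), m.2, rfl⟩⟩, ?_⟩
  exact hm

/-- an abelian transitive group is self-centralising -/
theorem centralizer_eq (hab : IsMulCommutative M) (htrans : MulAction.IsPretransitive M α) :
    Subgroup.centralizer ((M.map G.subtype : Subgroup (Equiv.Perm α)) : Set (Equiv.Perm α)) =
      M.map G.subtype := by
  haveI := trans_map G M htrans
  have hle : M.map G.subtype ≤
      Subgroup.centralizer ((M.map G.subtype : Subgroup (Equiv.Perm α)) : Set (Equiv.Perm α)) := by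
    rintro x ⟨m, hm, rfl⟩ y ⟨n, hn, rfl⟩
    have := hab.is_comm.comm (⟨m, hm⟩ : M) ⟨n, hn⟩
    have h2 : m * n = n * m := congrArg Subtype.val this
    have h3 := congrArg (G.subtype) h2
    simpa using h3.symm
  apply le_antisymm _ hle
  intro c hc
  have semi := (Cfsg.Agent.S0701.result (M.map G.subtype : Subgroup (Equiv.Perm α))).1
  by_cases hα : Nonempty α
  · obtain ⟨a⟩ := hα
    obtain ⟨m, hm⟩ := MulAction.exists_smul_eq (M.map G.subtype : Subgroup (Equiv.Perm α)) a (c a)
    have hm' : (m : Equiv.Perm α) a = c a := hm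
    have hmc : (m : Equiv.Perm α)⁻¹ * c ∈
        Subgroup.centralizer ((M.map G.subtype : Subgroup (Equiv.Perm α)) : Set (Equiv.Perm α)) :=
      Subgroup.mul_mem _ (Subgroup.inv_mem _ (hle m.2)) hc
    have h1 := semi _ hmc a (by simp [← hm'])
    have : c = (m : Equiv.Perm α) := by
      rw [inv_mul_eq_one] at h1; exact h1.symm
    rw [this]; exact m.2
  · have : c = 1 := by
      ext x
      exact absurd ⟨x⟩ hα
    rw [this]; exact Subgroup.one_mem _

end

theorem result {α : Type*} [Finite α] (G : Subgroup (Equiv.Perm α)) (M : Subgroup G) [M.Normal] (hM : M ≠ ⊥) (hmin : ∀ L : Subgroup G, L.Normal → L ≤ M → L = ⊥ ∨ L = M) (hab : IsMulCommutative M) (htrans : MulAction.IsPretransitive M α) : Subgroup.centralizer ((M.map G.subtype : Subgroup (Equiv.Perm α)) : Set (Equiv.Perm α)) = M.map G.subtype ∧ (∀ a : α, MulAction.stabilizer M a = ⊥) ∧ (∃ p : ℕ, p.Prime ∧ ∀ m ∈ M, m ^ p = 1) ∧ ∀ L : Subgroup G, L.Normal → L ≠ ⊥ → (∀ L' : Subgroup G, L'.Normal → L' ≤ L → L' = ⊥ ∨ L' = L) → L = M := by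
  classical
  have hcent := centralizer_eq G M hab htrans
  haveI := trans_map G M htrans
  have semi := (Cfsg.Agent.S0701.result (M.map G.subtype : Subgroup (Equiv.Perm α))).1
  refine ⟨hcent, ?_, ?_, ?_⟩
  · intro a
    rw [eq_bot_iff]
    intro m hm
    rw [Subgroup.mem_bot]
    have hma : ((m : G) : Equiv.Perm α) a = a := hm
    have hmem : ((m : G) : Equiv.Perm α) ∈ M.map G.subtype := ⟨(m : G), m.2, rfl⟩
    rw [← hcent] at hmem
    have := semi _ hmem a hma
    apply Subtype.ext
    apply Subtype.ext
    exact this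
  · -- elementary abelian
    haveI : Finite G := inferInstance
    haveI : Fintype M := Fintype.ofFinite M
    have hcard : 1 < Nat.card M := by
      rw [Finite.one_lt_card_iff_nontrivial]
      exact (Subgroup.nontrivial_iff_ne_bot M).mpr hM
    obtain ⟨p, hp, hpd⟩ := Nat.exists_prime_and_dvd (Nat.ne_of_gt hcard)
    haveI : Fact p.Prime := ⟨hp⟩
    refine ⟨p, hp, ?_⟩
    let L : Subgroup G :=
      { carrier := {g | g ∈ M ∧ g ^ p = 1}
        mul_mem' := by
          rintro x y ⟨hx, hx'⟩ ⟨hy, hy'⟩
          refine ⟨M.mul_mem hx hy, ?_⟩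
          have hc := hab.is_comm.comm (⟨x, hx⟩ : M) ⟨y, hy⟩
          have hc' : x * y = y * x := congrArg Subtype.val hc
          rw [(show Commute x y from hc').mul_pow, hx', hy', one_mul]
        one_mem' := ⟨M.one_mem, one_pow _⟩
        inv_mem' := by
          rintro x ⟨hx, hx'⟩
          exact ⟨M.inv_mem hx, by rw [inv_pow, hx', inv_one]⟩ }
    have hLn : L.Normal := by
      constructor
      rintro x ⟨hx, hx'⟩ g
      refine ⟨‹M.Normal›.conj_mem x hx g, ?_⟩
      rw [conj_pow, hx', mul_one, mul_inv_cancel]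
    have hLM : L ≤ M := fun x hx => hx.1
    have hLne : L ≠ ⊥ := by
      rw [Nat.card_eq_fintype_card] at hpd
      obtain ⟨x, hx⟩ := exists_prime_orderOf_dvd_card p hpd
      intro hbot
      have hxL : (x : G) ∈ L := by
        refine ⟨x.2, ?_⟩
        have := pow_orderOf_eq_one x
        rw [hx] at this
        exact_mod_cast congrArg Subtype.val this
      rw [hbot, Subgroup.mem_bot] at hxL
      have hx1 : x = 1 := Subtype.ext hxL
      rw [hx1, orderOf_one] at hx
      exact hp.one_lt.ne hx
    rcases hmin L hLn hLM with h | h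
    · exact absurd h hLne
    · intro m hm
      rw [← h] at hm
      exact hm.2
  · intro L hLn hLne hLmin
    have hinf : (L ⊓ M).Normal := by
      haveI := hLn
      infer_instance
    rcases hmin (L ⊓ M) hinf inf_le_right with h | h
    · exfalso
      -- L and M commute
      have hdisj : Disjoint L M := disjoint_iff.mpr h
      have hcomm : ∀ x ∈ L, ∀ y ∈ M, x * y = y * x := by
        intro x hx y hy
        exact (Subgroup.commute_of_normal_of_disjoint L M hLn ‹M.Normal› hdisj x y hx hy)
      have hLle : L ≤ M := by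
        intro x hx
        have : (x : Equiv.Perm α) ∈
            Subgroup.centralizer ((M.map G.subtype : Subgroup (Equiv.Perm α)) : Set (Equiv.Perm α)) := by
          rintro y ⟨m, hm, rfl⟩
          have := hcomm x hx m hm
          have h3 := congrArg (G.subtype) this
          simpa using h3.symm
        rw [hcent] at this
        obtain ⟨m, hm, hmx⟩ := this
        have : m = x := Subtype.ext hmx
        rw [← this]; exact hm
      apply hLne
      rw [← h]
      exact (inf_eq_left.mpr hLle).symm
    · have hML : M ≤ L := by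
        rw [← h]; exact inf_le_left
      rcases hLmin M ‹M.Normal› hML with h' | h'
      · exact absurd h' hM
      · exact h'.symm

end Cfsg.Agent.S0703
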