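import Cfsg.Statements.S0704
import Mathlib
import Cfsg.Agent.S0701

set_option autoImplicit false
open Cfsg

namespace Cfsg.Agent.S0704

section
variable {α : Type*} (G : Subgroup (Equiv.Perm α))

theorem trans_map (M : Subgroup G) (htrans : MulAction.IsPretransitive M α) :
    MulAction.IsPretransitive (M.map G.subtype : Subgroup (Equiv.Perm α)) α := by
  refine ⟨fun a b => ?_⟩
  obtain ⟨m, hm⟩ := htrans.exists_smul_eq a b
  refine ⟨⟨(m : G), ⟨(m : G), m.2, rfl⟩⟩, ?_⟩
  exact hm

/-- two distinct minimal normal subgroups meet trivially -/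
theorem inf_eq_bot_of_min (M N : Subgroup G) [M.Normal] [N.Normal] (hM : M ≠ ⊥)
    (hMmin : ∀ L : Subgroup G, L.Normal → L ≤ M → L = ⊥ ∨ L = M)
    (hNmin : ∀ L : Subgroup G, L.Normal → L ≤ N → L = ⊥ ∨ L = N) (hMN : M ≠ N) : M ⊓ N = ⊥ := by
  have hinf : (M ⊓ N).Normal := inferInstance
  rcases hMmin (M ⊓ N) hinf inf_le_left with h | h
  · exact h
  · exfalso
    have hle : M ≤ N := by rw [← h]; exact inf_le_right
    rcases hNmin M inferInstance hle with h' | h'
    · exact hM h'
    · exact hMN h'

/-- if `M`, `N` commute elementwise, `M` is transitive and `N` is transitive then the centraliser of `M` is `N` -/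
theorem centralizer_eq (M N : Subgroup G) (hcomm : ∀ x ∈ M, ∀ y ∈ N, x * y = y * x)
    (hMt : MulAction.IsPretransitive M α) (hNt : MulAction.IsPretransitive N α) :
    Subgroup.centralizer ((M.map G.subtype : Subgroup (Equiv.Perm α)) : Set (Equiv.Perm α)) =
      N.map G.subtype := by
  haveI := trans_map G M hMt
  haveI := trans_map G N hNt
  have hle : N.map G.subtype ≤
      Subgroup.centralizer ((M.map G.subtype : Subgroup (Equiv.Perm α)) : Set (Equiv.Perm α)) := by
    rintro x ⟨n, hn, rfl⟩ y ⟨m, hm, rfl⟩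
    have h2 := hcomm m hm n hn
    have h3 := congrArg (G.subtype) h2
    simpa using h3
  apply le_antisymm _ hle
  intro c hc
  have semi := (Cfsg.Agent.S0701.result (M.map G.subtype : Subgroup (Equiv.Perm α))).1
  by_cases hα : Nonempty α
  · obtain ⟨a⟩ := hα
    obtain ⟨n, hn⟩ := MulAction.exists_smul_eq (N.map G.subtype : Subgroup (Equiv.Perm α)) a (c a)
    have hn' : (n : Equiv.Perm α) a = c a := hn
    have hnc : (n : Equiv.Perm α)⁻¹ * c ∈
        Subgroup.centralizer ((M.map G.subtype : Subgroup (Equiv.Perm α)) : Set (Equiv.Perm α)) :=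
      Subgroup.mul_mem _ (Subgroup.inv_mem _ (hle n.2)) hc
    have h1 := semi _ hnc a (by simp [← hn'])
    have : c = (n : Equiv.Perm α) := by
      rw [inv_mul_eq_one] at h1; exact h1.symm
    rw [this]; exact n.2
  · have : c = 1 := by
      ext x
      exact absurd ⟨x⟩ hα
    rw [this]; exact Subgroup.one_mem _

theorem stab_eq_bot (M N : Subgroup G) (hcomm : ∀ x ∈ M, ∀ y ∈ N, x * y = y * x)
    (hMt : MulAction.IsPretransitive M α) (a : α) : MulAction.stabilizer N a = ⊥ := by
  haveI := trans_map G M hMt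
  have semi := (Cfsg.Agent.S0701.result (M.map G.subtype : Subgroup (Equiv.Perm α))).1
  rw [eq_bot_iff]
  intro n hn
  rw [Subgroup.mem_bot]
  have hna : ((n : G) : Equiv.Perm α) a = a := hn
  have hmem : ((n : G) : Equiv.Perm α) ∈
      Subgroup.centralizer ((M.map G.subtype : Subgroup (Equiv.Perm α)) : Set (Equiv.Perm α)) := by
    rintro y ⟨m, hm, rfl⟩
    have h2 := hcomm m hm n n.2
    have h3 := congrArg (G.subtype) h2
    simpa using h3
  have := semi _ hmem a hna
  apply Subtype.ext
  apply Subtype.ext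
  exact this

theorem orbitMap_bijective (M : Subgroup G) (hMt : MulAction.IsPretransitive M α)
    (hreg : ∀ a : α, MulAction.stabilizer M a = ⊥) (a : α) :
    Function.Bijective (fun m : M => m • a) := by
  constructor
  · intro x y hxy
    have : x⁻¹ * y ∈ MulAction.stabilizer M a := by
      rw [MulAction.mem_stabilizer_iff, mul_smul]
      have h1 : x • a = y • a := hxy
      rw [← h1, inv_smul_smul]
    rw [hreg a, Subgroup.mem_bot] at this
    exact inv_mul_eq_one.mp this
  · intro b
    exact hMt.exists_smul_eq a b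

end

theorem result {α : Type*} (G : Subgroup (Equiv.Perm α)) (M N : Subgroup G) [M.Normal] [N.Normal] (hM : M ≠ ⊥) (hN : N ≠ ⊥) (hMmin : ∀ L : Subgroup G, L.Normal → L ≤ M → L = ⊥ ∨ L = M) (hNmin : ∀ L : Subgroup G, L.Normal → L ≤ N → L = ⊥ ∨ L = N) (hMN : M ≠ N) (hMt : MulAction.IsPretransitive M α) (hNt : MulAction.IsPretransitive N α) : (∀ a : α, MulAction.stabilizer M a = ⊥) ∧ (∀ a : α, MulAction.stabilizer N a = ⊥) ∧ ¬ IsMulCommutative M ∧ Nonempty (M ≃* N) ∧ Subgroup.centralizer ((M.map G.subtype : Subgroup (Equiv.Perm α)) : Set (Equiv.Perm α)) = N.map G.subtype ∧ Subgroup.centralizer ((N.map G.subtype : Subgroup (Equiv.Perm α)) : Set (Equiv.Perm α)) = M.map G.subtype ∧ ∀ L : Subgroup G, L.Normal → L ≠ ⊥ → (∀ L' : Subgroup G, L'.Normal → L' ≤ L → L' = ⊥ ∨ L' = L) → L = M ∨ L = N := by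
  classical
  have hinf := inf_eq_bot_of_min G M N hM hMmin hNmin hMN
  have hdisj : Disjoint M N := disjoint_iff.mpr hinf
  have hcomm : ∀ x ∈ M, ∀ y ∈ N, x * y = y * x := fun x hx y hy =>
    Subgroup.commute_of_normal_of_disjoint M N inferInstance inferInstance hdisj x y hx hy
  have hcomm' : ∀ x ∈ N, ∀ y ∈ M, x * y = y * x := fun x hx y hy => (hcomm y hy x hx).symm
  have hMreg : ∀ a : α, MulAction.stabilizer M a = ⊥ := stab_eq_bot G N M hcomm' hNt
  have hNreg : ∀ a : α, MulAction.stabilizer N a = ⊥ := stab_eq_bot G M N hcomm hMt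
  have hCM := centralizer_eq G M N hcomm hMt hNt
  have hCN := centralizer_eq G N M hcomm' hNt hMt
  have hα : Nonempty α := by
    by_contra hα
    apply hM
    rw [eq_bot_iff]
    intro m _
    rw [Subgroup.mem_bot]
    apply Subtype.ext
    ext x
    exact absurd ⟨x⟩ hα
  obtain ⟨a⟩ := hα
  refine ⟨hMreg, hNreg, ?_, ?_, hCM, hCN, ?_⟩
  · intro hab
    apply hM
    have hle : M ≤ N := by
      intro m hm
      have : ((m : G) : Equiv.Perm α) ∈
          Subgroup.centralizer ((M.map G.subtype : Subgroup (Equiv.Perm α)) : Set (Equiv.Perm α)) := by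
        rintro y ⟨m', hm', rfl⟩
        have := hab.is_comm.comm (⟨m', hm'⟩ : M) ⟨m, hm⟩
        have h2 : m' * m = m * m' := congrArg Subtype.val this
        have h3 := congrArg (G.subtype) h2
        simpa using h3
      rw [hCM] at this
      obtain ⟨n, hn, hnm⟩ := this
      have : n = m := Subtype.ext hnm
      rw [← this]; exact hn
    rw [← hinf]
    exact (inf_eq_left.mpr hle).symm
  · -- the isomorphism
    let eM : M ≃ α := Equiv.ofBijective _ (orbitMap_bijective G M hMt hMreg a)
    let eN : N ≃ α := Equiv.ofBijective _ (orbitMap_bijective G N hNt hNreg a)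
    let ν : M ≃ N := eM.trans eN.symm
    have hν : ∀ m : M, (ν m) • a = m • a := by
      intro m
      change eN (eN.symm (eM m)) = eM m
      simp
    have hsmul : ∀ (m : M) (n : N) (x : α), m • (n • x) = n • (m • x) := by
      intro m n x
      change ((m : G) : Equiv.Perm α) (((n : G) : Equiv.Perm α) x) =
        ((n : G) : Equiv.Perm α) (((m : G) : Equiv.Perm α) x)
      have h2 := hcomm m m.2 n n.2
      have h3 := congrArg (fun g : G => (g : Equiv.Perm α) x) h2
      simpa using h3
    have hνmul : ∀ m₁ m₂ : M, ν (m₁ * m₂) = ν m₂ * ν m₁ := by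
      intro m₁ m₂
      apply (orbitMap_bijective G N hNt hNreg a).1
      change ν (m₁ * m₂) • a = (ν m₂ * ν m₁) • a
      rw [hν, mul_smul, mul_smul, hν, ← hsmul, hν]
    refine ⟨{ toFun := fun m => (ν m)⁻¹
              invFun := fun n => ν.symm n⁻¹
              left_inv := fun m => by simp
              right_inv := fun n => by simp
              map_mul' := fun m₁ m₂ => by rw [hνmul, mul_inv_rev] }⟩
  · intro L hLn hLne hLmin
    by_cases hLM : L = M
    · left; exact hLM
    · right
      haveI := hLn
      have hinfL : L ⊓ M = ⊥ := inf_eq_bot_of_min G L M hLne hLmin hMmin hLM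
      have hdisjL : Disjoint L M := disjoint_iff.mpr hinfL
      have hcommL : ∀ x ∈ L, ∀ y ∈ M, x * y = y * x := fun x hx y hy =>
        Subgroup.commute_of_normal_of_disjoint L M inferInstance inferInstance hdisjL x y hx hy
      have hle : L ≤ N := by
        intro x hx
        have : ((x : G) : Equiv.Perm α) ∈
            Subgroup.centralizer ((M.map G.subtype : Subgroup (Equiv.Perm α)) : Set (Equiv.Perm α)) := by
          rintro y ⟨m', hm', rfl⟩
          have h2 := hcommL x hx m' hm'
          have h3 := congrArg (G.subtype) h2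
          simpa using h3.symm
        rw [hCM] at this
        obtain ⟨n, hn, hnm⟩ := this
        have : n = x := Subtype.ext hnm
        rw [← this]; exact hn
      rcases hNmin L hLn hle with h | h
      · exact absurd h hLne
      · exact h

end Cfsg.Agent.S0704
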