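import Cfsg.Statements.S0705
import Mathlib

set_option autoImplicit false
open Cfsg
open scoped Pointwise

namespace Cfsg.Agent.S0705

/-- Helper: any permutation of a set of at most `k+1` points is induced by an element of `G`. -/
theorem induce {α : Type*} [Fintype α] [DecidableEq α] (G : Subgroup (Equiv.Perm α)) {k : ℕ} (hk : k < Fintype.card α) (hgen : ∀ s : Finset α, s.card = k + 1 → ∀ σ : Equiv.Perm ↥s, ∃ g ∈ G, ∀ x : ↥s, g (x : α) = σ x)
    (t : Finset α) (ht : t.card ≤ k + 1) (f : Equiv.Perm α) (hf : ∀ x, f x ∈ t ↔ x ∈ t) :
    ∃ g ∈ G, ∀ x ∈ t, g x = f x := by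
  obtain ⟨t', htt', hcard⟩ := Finset.exists_superset_card_eq ht (by omega)
  let f'' : Equiv.Perm α := Equiv.Perm.ofSubtype (f.subtypePerm hf)
  have hf''mem : ∀ x ∈ t, f'' x = f x := by
    intro x hx
    have := Equiv.Perm.ofSubtype_apply_of_mem (f.subtypePerm hf) (a := x) hx
    rw [this]; rfl
  have hf''nmem : ∀ x, x ∉ t → f'' x = x := by
    intro x hx
    exact Equiv.Perm.ofSubtype_apply_of_not_mem (f.subtypePerm hf) hx
  have hpres : ∀ x, f'' x ∈ t' ↔ x ∈ t' := by
    intro x
    by_cases hx : x ∈ t
    · rw [hf''mem x hx]
      constructor
      · intro _; exact htt' hx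
      · intro _; exact htt' ((hf x).mpr hx)
    · rw [hf''nmem x hx]
  obtain ⟨g, hg, hgx⟩ := hgen t' hcard (f''.subtypePerm hpres)
  refine ⟨g, hg, fun x hx => ?_⟩
  have := hgx ⟨x, htt' hx⟩
  rw [this, Equiv.Perm.subtypePerm_apply]
  exact hf''mem x hx

theorem result {α : Type*} [Fintype α] [DecidableEq α] (G : Subgroup (Equiv.Perm α)) {k : ℕ} (hk : k < Fintype.card α) (hgen : ∀ s : Finset α, s.card = k + 1 → ∀ σ : Equiv.Perm ↥s, ∃ g ∈ G, ∀ x : ↥s, g (x : α) = σ x) : MulAction.IsMultiplyPretransitive G α k ∧ ∀ s : Finset α, s.card = k → ∀ a b : α, a ∉ s → b ∉ s → (∃ g ∈ G, g • s = s ∧ g a = b) → ∃ g ∈ G, (∀ x ∈ s, g x = x) ∧ g a = b := by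
  constructor
  · rw [MulAction.isMultiplyPretransitive_iff]
    intro x y
    have key : ∀ i : ℕ, i ≤ k → ∃ g ∈ G, ∀ j : Fin k, (j : ℕ) < i → g (x j) = y j := by
      intro i
      induction i with
      | zero => intro _; exact ⟨1, G.one_mem, fun j hj => absurd hj (Nat.not_lt_zero _)⟩
      | succ i ih =>
        intro hi
        obtain ⟨g, hg, hgj⟩ := ih (by omega)
        let ii : Fin k := ⟨i, by omega⟩
        let t : Finset α := (Finset.univ.filter (fun j : Fin k => (j : ℕ) < i)).image y ∪ {g (x ii), y ii}
        have ht : t.card ≤ k + 1 := by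
          have h1 : ((Finset.univ.filter (fun j : Fin k => (j : ℕ) < i)).image y).card ≤ i := by
            refine le_trans Finset.card_image_le ?_
            have : (Finset.univ.filter (fun j : Fin k => (j : ℕ) < i)).card ≤ i := by
              have hsub : (Finset.univ.filter (fun j : Fin k => (j : ℕ) < i)).map Fin.valEmbedding ⊆ Finset.range i := by
                intro n hn
                simp only [Finset.mem_map, Finset.mem_filter, Finset.mem_univ, true_and] at hn
                obtain ⟨j, hj, rfl⟩ := hn
                simpa using hj
              have := Finset.card_le_card hsub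
              simpa using this
            exact this
          have h2 : ({g (x ii), y ii} : Finset α).card ≤ 2 := Finset.card_le_two
          have := Finset.card_union_le ((Finset.univ.filter (fun j : Fin k => (j : ℕ) < i)).image y) {g (x ii), y ii}
          change ((Finset.univ.filter (fun j : Fin k => (j : ℕ) < i)).image y ∪ {g (x ii), y ii}).card ≤ k + 1
          omega
        have hf : ∀ z, Equiv.swap (g (x ii)) (y ii) z ∈ t ↔ z ∈ t := by
          have h1 : g (x ii) ∈ t := by simp [t]
          have h2 : y ii ∈ t := by simp [t]
          intro z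
          by_cases hz1 : z = g (x ii)
          · rw [hz1, Equiv.swap_apply_left]; exact ⟨fun _ => h1, fun _ => h2⟩
          · by_cases hz2 : z = y ii
            · rw [hz2, Equiv.swap_apply_right]; exact ⟨fun _ => h2, fun _ => h1⟩
            · rw [Equiv.swap_apply_of_ne_of_ne hz1 hz2]
        obtain ⟨h, hh, hhx⟩ := induce G hk hgen t ht _ hf
        refine ⟨h * g, G.mul_mem hh hg, fun j hj => ?_⟩
        rw [Equiv.Perm.mul_apply]
        rcases Nat.lt_succ_iff_lt_or_eq.mp hj with hlt | heq
        · rw [hgj j hlt]
          have hmem : y j ∈ t := by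
            simp only [t, Finset.mem_union, Finset.mem_image, Finset.mem_filter, Finset.mem_univ, true_and]
            left; exact ⟨j, hlt, rfl⟩
          rw [hhx _ hmem]
          apply Equiv.swap_apply_of_ne_of_ne
          · intro h1
            rw [← hgj j hlt] at h1
            have := x.injective (g.injective h1)
            rw [this] at hlt
            simp [ii] at hlt
          · intro h1
            have := y.injective h1
            rw [this] at hlt
            simp [ii] at hlt
        · have : j = ii := Fin.ext heq
          rw [this]
          have hmem : g (x ii) ∈ t := by simp [t]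
          rw [hhx _ hmem, Equiv.swap_apply_left]
    obtain ⟨g, hg, hgj⟩ := key k le_rfl
    refine ⟨⟨g, hg⟩, ?_⟩
    ext j
    exact hgj j j.2
  · intro s hs a b has hbs ⟨g, hg, hgs, hga⟩
    have hginv : ∀ z, g⁻¹ z ∈ s ↔ z ∈ s := by
      intro z
      constructor
      · intro h
        have : g (g⁻¹ z) ∈ g • s := Finset.smul_mem_smul_finset h
        rw [hgs] at this
        simpa using this
      · intro h
        rw [← hgs] at h
        obtain ⟨w, hw, hwz⟩ := Finset.mem_smul_finset.mp h
        have : g⁻¹ z = w := by rw [← hwz]; simp
        rw [this]; exact hw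
    let f : Equiv.Perm α := Equiv.swap a (g⁻¹ a) * g⁻¹
    have hfs : ∀ z ∈ s, f z = g⁻¹ z := by
      intro z hz
      simp only [f, Equiv.Perm.mul_apply]
      apply Equiv.swap_apply_of_ne_of_ne
      · intro h; exact has (h ▸ (hginv z).mpr hz)
      · intro h; exact has ((g⁻¹).injective h ▸ hz)
    have hfa : f a = a := by
      simp [f]
    have hf : ∀ z, f z ∈ insert a s ↔ z ∈ insert a s := by
      intro z
      by_cases hza : z = a
      · rw [hza, hfa]
      · by_cases hzs : z ∈ s
        · rw [hfs z hzs]
          constructor
          · intro _; exact Finset.mem_insert_of_mem hzs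
          · intro _; exact Finset.mem_insert_of_mem ((hginv z).mpr hzs)
        · constructor
          · intro h
            exfalso
            rw [Finset.mem_insert] at h
            rcases h with h | h
            · rw [← hfa] at h
              exact hza (f.injective h)
            · -- f z ∈ s, so z = f⁻¹ ... derive z ∈ s
              have : f (g (f z)) = f z := by
                rw [hfs (g (f z))]
                · simp
                · have := (hginv (g (f z))).mp (by simpa using h)
                  exact this
              have hz' := f.injective this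
              apply hzs
              rw [← hz']
              exact (hginv (g (f z))).mp (by simpa using h)
          · intro h
            exfalso
            rw [Finset.mem_insert] at h
            rcases h with h | h
            · exact hza h
            · exact hzs h
    obtain ⟨h, hh, hhx⟩ := induce G hk hgen (insert a s) (by rw [Finset.card_insert_of_notMem has, hs]) f hf
    refine ⟨g * h, G.mul_mem hg hh, ?_, ?_⟩
    · intro z hz
      rw [Equiv.Perm.mul_apply, hhx z (Finset.mem_insert_of_mem hz), hfs z hz]
      simp
    · rw [Equiv.Perm.mul_apply, hhx a (Finset.mem_insert_self a s), hfa, hga]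

end Cfsg.Agent.S0705
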