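-- Statement S0706.
import Cfsg.Statements.S0706
import Cfsg.Agent.S0705
import Cfsg.Agent.Lib.Helper29.Generous

set_option autoImplicit false
open Cfsg

namespace Cfsg.Agent.S0706

open Cfsg.Agent.Helper29.MultTrans Cfsg.Agent.Helper29.Generous

theorem orbit_eq_porb {α : Type*} (G : Subgroup (Equiv.Perm α)) (S : Set α) (x : α) :
    MulAction.orbit (fixingSubgroup G S) x = porb G S x := by
  ext z
  constructor
  · rintro ⟨⟨⟨g, hgG⟩, hg⟩, rfl⟩
    refine ⟨g, ⟨hgG, fun w hw => ?_⟩, rfl⟩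
    exact (mem_fixingSubgroup_iff G).mp hg w hw
  · rintro ⟨g, ⟨hgG, hg⟩, rfl⟩
    refine ⟨⟨⟨g, hgG⟩, ?_⟩, rfl⟩
    rw [mem_fixingSubgroup_iff]
    intro w hw
    exact hg w hw

/-- In a generously `k`-transitive permutation group, for a prime `p ≤ k` and a `k`-set `Γ`, there are no `p` points outside `Γ` lying in distinct orbits of the pointwise stabiliser of `Γ` all of length prime to `p` (at most `p - 1` such orbits). -/
theorem result {α : Type*} [Fintype α] [DecidableEq α] (G : Subgroup (Equiv.Perm α)) {k : ℕ} (hk : k < Fintype.card α) (hgen : ∀ s : Finset α, s.card = k + 1 → ∀ σ : Equiv.Perm ↥s, ∃ g ∈ G, ∀ x : ↥s, g (x : α) = σ x) {p : ℕ} (hp : p.Prime) (hpk : p ≤ k) (Γ : Finset α) (hΓ : Γ.card = k) (f : Fin p → α) (hf : ∀ i, f i ∉ Γ) (hdist : ∀ i j, i ≠ j → f j ∉ MulAction.orbit (fixingSubgroup G (Γ : Set α)) (f i)) : ∃ i, p ∣ Nat.card (MulAction.orbit (fixingSubgroup G (Γ : Set α)) (f i)) := by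
  classical
  by_contra hcon
  push Not at hcon
  have : Fact p.Prime := ⟨hp⟩
  have hGk : MulAction.IsMultiplyPretransitive G α k := (Cfsg.Agent.S0705.result G hk hgen).1
  have hT : Trans G ∅ k := trans_of_isMultiplyPretransitive G k hGk
    (by rw [Nat.card_eq_fintype_card]; exact hk.le)
  -- choose the cycle
  obtain ⟨Γ1, hΓ1, hΓ1c⟩ := Finset.exists_subset_card_eq (hΓ ▸ hpk : p ≤ Γ.card)
  have hΓ0c : (Γ \ Γ1).card + p = k := by
    rw [Finset.card_sdiff_of_subset hΓ1, hΓ1c, hΓ]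
    omega
  let e : ZMod p ≃ ↥Γ1 := Fintype.equivOfCardEq (by rw [ZMod.card, Fintype.card_coe, hΓ1c])
  let γ : ZMod p → α := fun i => (e i : α)
  have hγ : Function.Injective γ := fun i j hij => e.injective (Subtype.ext hij)
  have hγ1 : ∀ i, γ i ∈ Γ1 := fun i => (e i).2
  have hγ0 : ∀ i, γ i ∉ Γ \ Γ1 := fun i h => (Finset.mem_sdiff.mp h).2 (hγ1 i)
  have hrange : Set.range γ = (Γ1 : Set α) := by
    ext z
    constructor
    · rintro ⟨i, rfl⟩
      exact hγ1 i
    · intro hz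
      exact ⟨e.symm ⟨z, hz⟩, by simp [γ]⟩
  have hunion : ((Γ \ Γ1 : Finset α) : Set α) ∪ Set.range γ = (Γ : Set α) := by
    rw [hrange, ← Finset.coe_union, Finset.sdiff_union_of_subset hΓ1]
  -- generosity at a point outside Γ
  have hgen' : ∀ x, x ∉ Γ → ∃ h ∈ G, (∀ z ∈ ((Γ \ Γ1 : Finset α) : Set α), h z = z) ∧
      (∀ i, h (γ i) = γ (i + 1)) ∧ h x = x := by
    intro x hx
    let τ : Equiv.Perm α := (Equiv.addRight (1 : ZMod p)).extendDomain (Equiv.ofInjective γ hγ)
    have hτ1 : ∀ i, τ (γ i) = γ (i + 1) := by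
      intro i
      have := Equiv.Perm.extendDomain_apply_image (Equiv.addRight (1 : ZMod p))
        (Equiv.ofInjective γ hγ) i
      simpa using this
    have hτ0 : ∀ z, z ∉ Set.range γ → τ z = z := fun z hz =>
      Equiv.Perm.extendDomain_apply_not_subtype _ _ hz
    have hτs : ∀ z, τ z ∈ insert x Γ ↔ z ∈ insert x Γ := by
      intro z
      by_cases hz : z ∈ Set.range γ
      · obtain ⟨i, rfl⟩ := hz
        rw [hτ1]
        constructor
        · intro _
          exact Finset.mem_insert_of_mem (hΓ1 (hγ1 i))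
        · intro _
          exact Finset.mem_insert_of_mem (hΓ1 (hγ1 _))
      · rw [hτ0 z hz]
    obtain ⟨g, hg, hgσ⟩ := hgen (insert x Γ) (by rw [Finset.card_insert_of_notMem hx, hΓ])
      (τ.subtypePerm hτs)
    have hgτ : ∀ z ∈ insert x Γ, g z = τ z := fun z hz => hgσ ⟨z, hz⟩
    refine ⟨g, hg, ?_, ?_, ?_⟩
    · intro z hz
      rw [Finset.mem_coe, Finset.mem_sdiff] at hz
      rw [hgτ z (Finset.mem_insert_of_mem hz.1)]
      apply hτ0
      rw [hrange]
      exact hz.2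
    · intro i
      rw [hgτ _ (Finset.mem_insert_of_mem (hΓ1 (hγ1 i))), hτ1]
    · rw [hgτ x (Finset.mem_insert_self _ _)]
      apply hτ0
      rw [hrange]
      exact fun h => hx (hΓ1 h)
  obtain ⟨h, hh, hh0, hh1, _⟩ := hgen' (f ⟨0, hp.pos⟩) (hf _)
  obtain ⟨Q⟩ := (inferInstance : Nonempty (Sylow p (cycStab G ((Γ \ Γ1 : Finset α) : Set α) γ)))
  -- fixed points in the orbits
  have hfixed : ∀ i : Fin p, ∃ y ∈ porb G (Γ : Set α) (f i),
      ∀ q : cycStab G ((Γ \ Γ1 : Finset α) : Set α) γ, q ∈ Q → (q : Equiv.Perm α) y = y := by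
    intro i
    have h1 := hcon i
    rw [orbit_eq_porb, ← hunion] at h1
    have := exists_fixed_in_porb (hgen' (f i) (hf i)) Q h1
    rwa [hunion] at this
  choose y hy hyfix using hfixed
  let e2 : ZMod p ≃ Fin p := Fintype.equivOfCardEq (by rw [ZMod.card, Fintype.card_fin])
  have hyinj : Function.Injective y := by
    intro i j hij
    by_contra hne
    apply hdist i j hne
    rw [orbit_eq_porb]
    have h1 := porb_eq_of_mem (hy i)
    have h2 := porb_eq_of_mem (hy j)
    rw [hij, h2] at h1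
    rw [← h1]
    exact mem_porb_self _ _ _
  refine no_fixed_family G (Γ \ Γ1) hγ hγ0 (hΓ0c ▸ hT) hh hh0 hh1 Q (y ∘ e2)
    (hyinj.comp e2.injective) ?_ ?_
  · intro i hmem
    exact porb_not_mem (hy (e2 i)) (by simpa using hf (e2 i)) (Finset.mem_coe.mpr (Finset.mem_sdiff.mp hmem).1)
  · intro q hq i
    exact hyfix (e2 i) q hq

end Cfsg.Agent.S0706
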