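import Cfsg.Statements.S0707
import Mathlib

set_option autoImplicit false
open Cfsg

namespace Cfsg.Agent.S0707

theorem result {α : Type*} (G : Subgroup (Equiv.Perm α)) [MulAction.IsPreprimitive G α] (h : ¬ (Nat.card α).Prime ∨ ∃ a : α, MulAction.stabilizer G a ≠ ⊥) {a b : α} (hab : a ≠ b) : MulAction.stabilizer G a ≠ MulAction.stabilizer G b := by
  intro hstab
  have : Nontrivial α := ⟨⟨a, b, hab⟩⟩
  obtain ⟨g, hg⟩ := MulAction.exists_smul_eq G a b
  have hcoatom : IsCoatom (MulAction.stabilizer G a) :=
    MulAction.IsPreprimitive.isCoatom_stabilizer_of_isPreprimitive G a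
  -- g normalizes the stabilizer
  have hconj : MulAction.stabilizer G b = (MulAction.stabilizer G a).map (MulAut.conj g).toMonoidHom := by
    rw [← hg]; exact MulAction.stabilizer_smul_eq_stabilizer_map_conj g a
  have hgN : g ∈ Subgroup.normalizer ((MulAction.stabilizer G a : Subgroup G) : Set G) := by
    rw [Subgroup.mem_normalizer_iff]
    intro k
    constructor
    · intro hk
      have : g * k * g⁻¹ ∈ (MulAction.stabilizer G a).map (MulAut.conj g).toMonoidHom :=
        ⟨k, hk, rfl⟩
      rw [← hconj, ← hstab] at this
      exact this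
    · intro hk
      rw [hstab, hconj] at hk
      obtain ⟨k', hk', hkk⟩ := hk
      have : k' = k := by
        have : g * k' * g⁻¹ = g * k * g⁻¹ := hkk
        simpa using this
      rw [← this]; exact hk'
  have hgna : g ∉ MulAction.stabilizer G a := by
    intro hga
    rw [MulAction.mem_stabilizer_iff] at hga
    exact hab (hga.symm.trans hg)
  have hNtop : Subgroup.normalizer ((MulAction.stabilizer G a : Subgroup G) : Set G) = ⊤ := by
    by_contra hne
    have hle : MulAction.stabilizer G a ≤ Subgroup.normalizer ((MulAction.stabilizer G a : Subgroup G) : Set G) :=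
      Subgroup.le_normalizer
    have := hcoatom.2 _ (lt_of_le_of_ne hle ?_)
    · exact hne this
    · intro heq
      apply hgna
      rw [heq]; exact hgN
  have hnormal : (MulAction.stabilizer G a).Normal := Subgroup.normalizer_eq_top_iff.mp hNtop
  have hfix : MulAction.fixedPoints (MulAction.stabilizer G a) α = Set.univ := by
    by_contra hne
    have htr : MulAction.IsPretransitive (MulAction.stabilizer G a) α :=
      MulAction.IsQuasiPreprimitive.isPretransitive_of_normal hne
    obtain ⟨k, hk⟩ := htr.exists_smul_eq a b
    have hk1 : (k : G) • a = b := hk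
    have hk2 : (k : G) • a = a := k.2
    exact hab (hk2.symm.trans hk1)
  have hbot : MulAction.stabilizer G a = ⊥ := by
    rw [eq_bot_iff]
    intro k hk
    rw [Subgroup.mem_bot]
    apply Subtype.ext
    ext x
    have hx : x ∈ MulAction.fixedPoints (MulAction.stabilizer G a) α := by rw [hfix]; trivial
    exact hx ⟨k, hk⟩
  -- all stabilizers are trivial
  have hall : ∀ x : α, MulAction.stabilizer G x = ⊥ := by
    intro x
    obtain ⟨k, rfl⟩ := MulAction.exists_smul_eq G a x
    rw [MulAction.stabilizer_smul_eq_stabilizer_map_conj, hbot, Subgroup.map_bot]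
  rcases h with h | ⟨x, hx⟩
  · apply h
    -- G has prime order and α ≃ G
    rw [hbot] at hcoatom
    have hnt : Nontrivial G := ⟨⟨g, 1, fun h1 => hgna (h1 ▸ Subgroup.one_mem _)⟩⟩
    have : IsSimpleOrder (Subgroup G) := by
      refine ⟨fun H => ?_⟩
      by_cases hH : H = ⊥
      · exact Or.inl hH
      · exact Or.inr (hcoatom.2 H (bot_lt_iff_ne_bot.mpr hH))
    have hcard : (Nat.card G).Prime := by
      have : IsSimpleGroup G := ⟨fun H _ => IsSimpleOrder.eq_bot_or_eq_top H⟩
      obtain ⟨k, hk⟩ := exists_ne (1 : G)
      have hz : Subgroup.zpowers k = ⊤ :=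
        (IsSimpleOrder.eq_bot_or_eq_top (Subgroup.zpowers k)).resolve_left (Subgroup.zpowers_ne_bot.2 hk)
      have : IsCyclic G := ⟨⟨k, (Subgroup.eq_top_iff' _).1 hz⟩⟩
      have : IsMulCommutative G := IsCyclic.isMulCommutative
      exact Group.is_simple_iff_prime_card.mp inferInstance
    have he : G ≃ α := by
      refine Equiv.ofBijective (fun k => k • a) ⟨?_, ?_⟩
      · intro k k' hkk
        have : k⁻¹ * k' ∈ MulAction.stabilizer G a := by
          rw [MulAction.mem_stabilizer_iff, mul_smul]
          have h1 : k • a = k' • a := hkk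
          rw [← h1, inv_smul_smul]
        rw [hbot, Subgroup.mem_bot] at this
        exact inv_mul_eq_one.mp this
      · intro y
        exact MulAction.exists_smul_eq G a y
    rw [← Nat.card_congr he]
    exact hcard
  · exact hx (hall x)

end Cfsg.Agent.S0707
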