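-- Statement S0709.
import Cfsg.Statements.S0709
import Cfsg.Agent.Lib.Helper29.MultTrans

set_option autoImplicit false
open Cfsg

namespace Cfsg.Agent.S0709

open Cfsg.Agent.Helper29.MultTrans

variable {α : Type*}

theorem trans_one_of_forall {H : Subgroup (Equiv.Perm α)} {S : Set α}
    (h : ∀ x x', x ∉ S → x' ∉ S → ∃ g ∈ H, g x = x') : Trans H S 1 := by
  intro l l' hl hlen _ _ hS hS'
  match l, l', hl, hlen with
  | [], [], _, _ => exact ⟨1, H.one_mem, rfl⟩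
  | [y], [y'], _, _ =>
    obtain ⟨g, hg, hgy⟩ := h y y' (hS y (by simp)) (hS' y' (by simp))
    exact ⟨g, hg, by simp [hgy]⟩
  | [], _ :: _, h, _ => simp at h
  | _ :: _, [], h, _ => simp at h
  | _ :: _ :: _, _, _, h => simp at h
  | [_], _ :: _ :: _, h, _ => simp at h

theorem Trans.mono_group {H H' : Subgroup (Equiv.Perm α)} {S : Set α} {m : ℕ} (h : Trans H S m)
    (hle : H ≤ H') : Trans H' S m := by
  intro l l' hl hlen hn hn' hS hS'
  obtain ⟨g, hg, hmap⟩ := h l l' hl hlen hn hn' hS hS'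
  exact ⟨g, hle hg, hmap⟩

/-- one-point extension, relative version -/
theorem extension {K : Subgroup (Equiv.Perm α)} {S : Set α} {k : ℕ} (hk : 2 ≤ k) (hKfix : FixesOn K S)
    (hKT : Trans K S k) {p x y : α} (hp : p ∈ S) (hx : x ∉ S) (hy : y ∉ S) (hxy : x ≠ y)
    {h g : Equiv.Perm α} (hg : g ∈ K) (hhp : h p = x) (hhx : h x = p)
    (hhS : ∀ z ∈ S, z ≠ p → h z = z) (hgx : g x = y)
    (h6 : (g * h) ^ 3 ∈ K) (h7 : h ^ 2 ∈ K) (h8 : ∀ f ∈ K, f x = x → h * f * h⁻¹ ∈ K) :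
    FixesOn (Subgroup.closure ((K : Set (Equiv.Perm α)) ∪ {h})) (S \ {p}) ∧
    Trans (Subgroup.closure ((K : Set (Equiv.Perm α)) ∪ {h})) (S \ {p}) (k + 1) ∧
    ∀ f ∈ Subgroup.closure ((K : Set (Equiv.Perm α)) ∪ {h}), f p = p → f ∈ K := by
  classical
  have hinv : h⁻¹ = (h ^ 2)⁻¹ * h := by rw [pow_two]; group
  have hAB : h⁻¹ * g * h⁻¹ =
      ((h ^ 2)⁻¹ * g⁻¹ * (g * h) ^ 3 * (h ^ 2)⁻¹) * h * (g⁻¹ * (h ^ 2)⁻¹) := by
    rw [show (g * h) ^ 3 = g * h * (g * h) * (g * h) by rw [pow_succ, pow_two], pow_two]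
    group
  have hA : (h ^ 2)⁻¹ * g⁻¹ * (g * h) ^ 3 * (h ^ 2)⁻¹ ∈ K :=
    K.mul_mem (K.mul_mem (K.mul_mem (K.inv_mem h7) (K.inv_mem hg)) h6) (K.inv_mem h7)
  have hB : g⁻¹ * (h ^ 2)⁻¹ ∈ K := K.mul_mem (K.inv_mem hg) (K.inv_mem h7)
  have h8' : ∀ f ∈ K, f x = x → h * f * h ∈ K := by
    intro f hf hfx
    have : h * f * h = (h * f * h⁻¹) * h ^ 2 := by rw [pow_two]; group
    rw [this]
    exact K.mul_mem (h8 f hf hfx) h7
  have key2 : ∀ f ∈ K, h * f * h ∈ K ∨ ∃ a ∈ K, ∃ b ∈ K, h * f * h = a * h * b := by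
    intro f hf
    by_cases hfx : f x = x
    · exact Or.inl (h8' f hf hfx)
    · right
      have hzS : f x ∉ S := hKfix.not_mem hf hx
      obtain ⟨f1, hf1, hf1x, hf1y⟩ := hKT.two hk hxy (Ne.symm hfx) hx hy hx hzS
      have hf2 : g⁻¹ * f1⁻¹ * f ∈ K := K.mul_mem (K.mul_mem (K.inv_mem hg) (K.inv_mem hf1)) hf
      have hf2x : (g⁻¹ * f1⁻¹ * f) x = x := by
        have e1 : f1⁻¹ (f x) = y := by rw [Equiv.Perm.inv_def, Equiv.symm_apply_eq, hf1y]
        have e2 : g⁻¹ y = x := by rw [Equiv.Perm.inv_def, Equiv.symm_apply_eq, hgx]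
        simp only [Equiv.Perm.mul_apply]
        rw [e1, e2]
      have e1 := h8' f1 hf1 hf1x
      have e2 := h8' _ hf2 hf2x
      refine ⟨(h * f1 * h) * ((h ^ 2)⁻¹ * g⁻¹ * (g * h) ^ 3 * (h ^ 2)⁻¹), K.mul_mem e1 hA,
        (g⁻¹ * (h ^ 2)⁻¹) * (h * (g⁻¹ * f1⁻¹ * f) * h), K.mul_mem hB e2, ?_⟩
      calc h * f * h = (h * f1 * h) * (h⁻¹ * g * h⁻¹) * (h * (g⁻¹ * f1⁻¹ * f) * h) := by group
        _ = _ := by rw [hAB]; group
  have hS : ∀ f ∈ Subgroup.closure ((K : Set (Equiv.Perm α)) ∪ {h}),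
      f ∈ K ∨ ∃ a ∈ K, ∃ b ∈ K, f = a * h * b := by
    intro f hf
    induction hf using Subgroup.closure_induction with
    | mem f hf =>
      rcases hf with hf | hf
      · exact Or.inl hf
      · rw [Set.mem_singleton_iff] at hf
        exact Or.inr ⟨1, K.one_mem, 1, K.one_mem, by rw [hf, one_mul, mul_one]⟩
    | one => exact Or.inl K.one_mem
    | mul p q _ _ hp hq =>
      rcases hp with hp | ⟨a, ha, b, hb, rfl⟩
      · rcases hq with hq | ⟨a', ha', b', hb', rfl⟩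
        · exact Or.inl (K.mul_mem hp hq)
        · exact Or.inr ⟨p * a', K.mul_mem hp ha', b', hb', by group⟩
      · rcases hq with hq | ⟨a', ha', b', hb', rfl⟩
        · exact Or.inr ⟨a, ha, b * q, K.mul_mem hb hq, by group⟩
        · rcases key2 (b * a') (K.mul_mem hb ha') with h9 | ⟨a'', ha'', b'', hb'', h9⟩
          · left
            have : a * h * b * (a' * h * b') = a * (h * (b * a') * h) * b' := by group
            rw [this]
            exact K.mul_mem (K.mul_mem ha h9) hb'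
          · right
            refine ⟨a * a'', K.mul_mem ha ha'', b'' * b', K.mul_mem hb'' hb', ?_⟩
            have : a * h * b * (a' * h * b') = a * (h * (b * a') * h) * b' := by group
            rw [this, h9]
            group
    | inv p _ hp =>
      rcases hp with hp | ⟨a, ha, b, hb, rfl⟩
      · exact Or.inl (K.inv_mem hp)
      · right
        refine ⟨b⁻¹ * (h ^ 2)⁻¹, K.mul_mem (K.inv_mem hb) (K.inv_mem h7), a⁻¹, K.inv_mem ha, ?_⟩
        rw [mul_inv_rev, mul_inv_rev, hinv]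
        group
  have hKΓ : K ≤ Subgroup.closure ((K : Set (Equiv.Perm α)) ∪ {h}) := fun f hf =>
    Subgroup.subset_closure (Or.inl hf)
  have hhΓ : h ∈ Subgroup.closure ((K : Set (Equiv.Perm α)) ∪ {h}) :=
    Subgroup.subset_closure (Or.inr rfl)
  have hstab : ∀ f ∈ Subgroup.closure ((K : Set (Equiv.Perm α)) ∪ {h}), f p = p → f ∈ K := by
    intro f hf hfp
    rcases hS f hf with hK | ⟨a, ha, b, hb, rfl⟩
    · exact hK
    · exfalso
      simp only [Equiv.Perm.mul_apply] at hfp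
      rw [hKfix b hb p hp, hhp] at hfp
      exact hKfix.not_mem ha hx (hfp ▸ hp)
  have hfixΓ : FixesOn (Subgroup.closure ((K : Set (Equiv.Perm α)) ∪ {h})) (S \ {p}) := by
    intro f hf z hz
    rcases hS f hf with hK | ⟨a, ha, b, hb, rfl⟩
    · exact hKfix f hK z hz.1
    · simp only [Equiv.Perm.mul_apply]
      rw [hKfix b hb z hz.1, hhS z hz.1 (fun h => hz.2 (by rw [Set.mem_singleton_iff]; exact h)),
        hKfix a ha z hz.1]
  refine ⟨hfixΓ, ?_, hstab⟩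
  have hpS : p ∉ S \ {p} := fun h => h.2 rfl
  have hto_p : ∀ u, u ∉ S \ {p} → ∃ γ ∈ Subgroup.closure ((K : Set (Equiv.Perm α)) ∪ {h}), γ u = p := by
    intro u hu
    by_cases hup : u = p
    · exact ⟨1, Subgroup.one_mem _, by rw [hup]; rfl⟩
    · have huS : u ∉ S := fun h => hu ⟨h, hup⟩
      obtain ⟨f, hf, hfu⟩ := hKT.one (by omega) huS hx
      exact ⟨h * f, Subgroup.mul_mem _ hhΓ (hKΓ hf), by rw [Equiv.Perm.mul_apply, hfu, hhx]⟩
  have h1 : Trans (Subgroup.closure ((K : Set (Equiv.Perm α)) ∪ {h})) (S \ {p}) 1 := by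
    apply trans_one_of_forall
    intro u v hu hv
    obtain ⟨γ1, hγ1, h1⟩ := hto_p u hu
    obtain ⟨γ2, hγ2, h2⟩ := hto_p v hv
    refine ⟨γ2⁻¹ * γ1, Subgroup.mul_mem _ (Subgroup.inv_mem _ hγ2) hγ1, ?_⟩
    rw [Equiv.Perm.mul_apply, h1, Equiv.Perm.inv_def, Equiv.symm_apply_eq, h2]
  have hins : insert p (S \ {p}) = S := by
    rw [Set.insert_sdiff_singleton, Set.insert_eq_of_mem hp]
  have h2 : Trans (pstab (Subgroup.closure ((K : Set (Equiv.Perm α)) ∪ {h})) p) (insert p (S \ {p})) k := by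
    rw [hins]
    apply Trans.mono_group hKT
    intro f hf
    exact mem_pstab.mpr ⟨hKΓ hf, hKfix f hf p hp⟩
  exact Trans.of_stab hfixΓ hpS h1 h2


theorem isMultiplyPretransitive_of_trans' (Γ : Subgroup (Equiv.Perm α)) (j : ℕ)
    (h : Trans Γ ∅ j) : MulAction.IsMultiplyPretransitive Γ α j := by
  constructor
  intro x y
  obtain ⟨g, hg, hmap⟩ := h (List.ofFn x) (List.ofFn y) (by simp) (by simp)
    (List.nodup_ofFn.mpr x.injective) (List.nodup_ofFn.mpr y.injective) (fun _ _ => by simp) (fun _ _ => by simp)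
  refine ⟨⟨g, hg⟩, ?_⟩
  ext i
  rw [List.map_ofFn, List.ofFn_inj] at hmap
  exact congrFun hmap i

theorem trans_two_of_forall {H : Subgroup (Equiv.Perm α)} {S : Set α}
    (h : ∀ a b c d, a ∉ S → b ∉ S → c ∉ S → d ∉ S → a ≠ b → c ≠ d → ∃ g ∈ H, g a = c ∧ g b = d) :
    Trans H S 2 := by
  intro l l' hl hlen hn hn' hS hS'
  match l, l', hl, hlen with
  | [], [], _, _ => exact ⟨1, H.one_mem, rfl⟩
  | [a], [c], _, _ =>
    by_cases hac : a = c
    · exact ⟨1, H.one_mem, by simp [hac]⟩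
    · obtain ⟨g, hg, hga, _⟩ := h a c c a (hS a (by simp)) (hS' c (by simp)) (hS' c (by simp))
        (hS a (by simp)) hac (Ne.symm hac)
      exact ⟨g, hg, by simp [hga]⟩
  | [a, b], [c, d], _, _ =>
    have hab : a ≠ b := by simpa using hn
    have hcd : c ≠ d := by simpa using hn'
    obtain ⟨g, hg, hga, hgb⟩ := h a b c d (hS a (by simp)) (hS b (by simp)) (hS' c (by simp))
      (hS' d (by simp)) hab hcd
    exact ⟨g, hg, by simp [hga, hgb]⟩
  | [], _ :: _, h, _ => simp at h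
  | _ :: _, [], h, _ => simp at h
  | _ :: _ :: _ :: _, _, _, h => simp at h
  | [_], _ :: _ :: _, h, _ => simp at h
  | [_, _], [_], h, _ => simp at h
  | [_, _], _ :: _ :: _ :: _, h, _ => simp at h

/-- the `j`-th group of the tower -/
def Gj (G : Subgroup (Equiv.Perm α)) (s : ℕ → Equiv.Perm α) (j : ℕ) : Subgroup (Equiv.Perm α) :=
  Subgroup.closure ((G : Set (Equiv.Perm α)) ∪ {x | ∃ i : ℕ, 2 ≤ i ∧ i + 1 ≤ j ∧ x = s i})

/-- the points still to be added at stage `j` -/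
def Sj (q : ℕ → α) (t j : ℕ) : Set α := {x | ∃ i : ℕ, j < i ∧ i ≤ t ∧ x = q i}

theorem le_Gj (G : Subgroup (Equiv.Perm α)) (s : ℕ → Equiv.Perm α) (j : ℕ) : G ≤ Gj G s j :=
  fun f hf => Subgroup.subset_closure (Or.inl hf)

theorem s_mem_Gj (G : Subgroup (Equiv.Perm α)) (s : ℕ → Equiv.Perm α) {i j : ℕ} (hi : 2 ≤ i)
    (hij : i + 1 ≤ j) : s i ∈ Gj G s j :=
  Subgroup.subset_closure (Or.inr ⟨i, hi, hij, rfl⟩)

theorem Gj_mono (G : Subgroup (Equiv.Perm α)) (s : ℕ → Equiv.Perm α) {j j' : ℕ} (h : j ≤ j') :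
    Gj G s j ≤ Gj G s j' := by
  apply Subgroup.closure_mono
  rintro f (hf | ⟨i, hi, hij, rfl⟩)
  · exact Or.inl hf
  · exact Or.inr ⟨i, hi, by omega, rfl⟩

theorem Gj_two (G : Subgroup (Equiv.Perm α)) (s : ℕ → Equiv.Perm α) : Gj G s 2 = G := by
  apply le_antisymm
  · rw [Gj, Subgroup.closure_le]
    rintro f (hf | ⟨i, hi, hij, rfl⟩)
    · exact hf
    · omega
  · exact le_Gj G s 2

theorem Gj_succ (G : Subgroup (Equiv.Perm α)) (s : ℕ → Equiv.Perm α) {j : ℕ} (hj : 2 ≤ j) :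
    Subgroup.closure ((Gj G s j : Set (Equiv.Perm α)) ∪ {s j}) = Gj G s (j + 1) := by
  apply le_antisymm
  · rw [Subgroup.closure_le]
    rintro f (hf | hf)
    · exact Gj_mono G s (Nat.le_succ j) hf
    · rw [Set.mem_singleton_iff] at hf
      rw [hf]
      exact s_mem_Gj G s hj le_rfl
  · rw [Gj, Subgroup.closure_le]
    rintro f (hf | ⟨i, hi, hij, rfl⟩)
    · exact Subgroup.subset_closure (Or.inl (le_Gj G s j hf))
    · by_cases hij' : i = j
      · rw [hij']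
        exact Subgroup.subset_closure (Or.inr rfl)
      · exact Subgroup.subset_closure (Or.inl (s_mem_Gj G s hi (by omega)))


theorem Sj_succ {q : ℕ → α} {t j : ℕ}
    (hdist : ∀ i j : ℕ, 1 ≤ i → i ≤ t → 1 ≤ j → j ≤ t → i ≠ j → q i ≠ q j) (hjt : j + 1 ≤ t) :
    Sj q t j \ {q (j + 1)} = Sj q t (j + 1) := by
  ext z
  constructor
  · rintro ⟨⟨i, hi, hit, rfl⟩, hne⟩
    refine ⟨i, ?_, hit, rfl⟩
    by_contra hcon
    have : i = j + 1 := by omega
    subst this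
    exact hne rfl
  · rintro ⟨i, hi, hit, rfl⟩
    exact ⟨⟨i, by omega, hit, rfl⟩, fun h => hdist i (j + 1) (by omega) hit (by omega) hjt (by omega) h⟩

theorem conj_formula (a σ : Equiv.Perm α) : σ * a * σ⁻¹ = a⁻¹ * (a * σ) ^ 2 * (σ ^ 2)⁻¹ := by
  rw [pow_two, pow_two]
  group

/-- Witt's Lemma for constructing transitive extensions. Points `q 1, …, q t` (`t ≥ 2`) of a finite set are given; `G` fixes `q i` for `i ≥ 3` and is doubly transitive on the remaining points; `s 1 ∈ G` swaps `q 1, q 2`; for `2 ≤ i ≤ t-1`, `s i` swaps `q i, q (i+1)` and fixes the other `q j`; with `H` the stabiliser of `q 1, q 2` in `G`: `s i ^ 2 ∈ H`, `(s i * s (i+1)) ^ 3 ∈ H`, `(s i * s j) ^ 2 ∈ H` for `j ≥ i + 2`, and `s i` (`i ≥ 2`) normalises the stabiliser of `q 2` in `G`. Then `G` and the `s i` generate a `t`-transitive group whose pointwise stabiliser of the `q`'s is `H`. -/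
theorem result {α : Type*} [Fintype α] [DecidableEq α] (t : ℕ) (ht : 2 ≤ t) (q : ℕ → α) (hq : ∀ i j : ℕ, 1 ≤ i → i ≤ t → 1 ≤ j → j ≤ t → q i = q j → i = j) (G : Subgroup (Equiv.Perm α)) (hfix : ∀ g ∈ G, ∀ i : ℕ, 3 ≤ i → i ≤ t → g (q i) = q i) (h2 : ∀ a b c d : α, (∀ i, 3 ≤ i → i ≤ t → a ≠ q i ∧ b ≠ q i ∧ c ≠ q i ∧ d ≠ q i) → a ≠ b → c ≠ d → ∃ g ∈ G, g a = c ∧ g b = d) (s : ℕ → Equiv.Perm α) (hs1 : s 1 ∈ G) (hs1q : s 1 (q 1) = q 2 ∧ s 1 (q 2) = q 1) (hsq : ∀ i : ℕ, 2 ≤ i → i + 1 ≤ t → s i (q i) = q (i + 1) ∧ s i (q (i + 1)) = q i ∧ ∀ j : ℕ, 1 ≤ j → j ≤ t → j ≠ i → j ≠ i + 1 → s i (q j) = q j) (H : Subgroup (Equiv.Perm α)) (hH : H = G ⊓ MulAction.stabilizer (Equiv.Perm α) (q 1) ⊓ MulAction.stabilizer (Equiv.Perm α) (q 2)) (hsq2 : ∀ i : ℕ, 1 ≤ i → i + 1 ≤ t → s i ^ 2 ∈ H) (hbraid : ∀ i : ℕ, 1 ≤ i → i + 2 ≤ t → (s i * s (i + 1)) ^ 3 ∈ H) (hcomm : ∀ i j : ℕ, 1 ≤ i → i + 2 ≤ j → j + 1 ≤ t → (s i * s j) ^ 2 ∈ H ∧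 (s j * s i) ^ 2 ∈ H) (hnorm : ∀ i : ℕ, 2 ≤ i → i + 1 ≤ t → ∀ g ∈ G ⊓ MulAction.stabilizer (Equiv.Perm α) (q 2), s i * g * (s i)⁻¹ ∈ G ⊓ MulAction.stabilizer (Equiv.Perm α) (q 2)) : MulAction.IsMultiplyPretransitive ↥(Subgroup.closure ((G : Set (Equiv.Perm α)) ∪ {x | ∃ i : ℕ, 2 ≤ i ∧ i + 1 ≤ t ∧ x = s i})) α t ∧ Subgroup.closure ((G : Set (Equiv.Perm α)) ∪ {x | ∃ i : ℕ, 2 ≤ i ∧ i + 1 ≤ t ∧ x = s i}) ⊓ fixingSubgroup (Equiv.Perm α) {x | ∃ i : ℕ, 1 ≤ i ∧ i ≤ t ∧ x = q i} = H := by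
  classical
  have hHG : H ≤ G := by
    rw [hH]
    exact inf_le_left.trans inf_le_left
  have hdist : ∀ i j : ℕ, 1 ≤ i → i ≤ t → 1 ≤ j → j ≤ t → i ≠ j → q i ≠ q j :=
    fun i j hi hi' hj hj' hne h => hne (hq i j hi hi' hj hj' h)
  have hnormG : ∀ i : ℕ, 2 ≤ i → i + 1 ≤ t → ∀ f ∈ G, f (q 2) = q 2 → s i * f * (s i)⁻¹ ∈ G := by
    intro i hi hit f hf hfq
    exact (Subgroup.mem_inf.mp (hnorm i hi hit f (Subgroup.mem_inf.mpr
      ⟨hf, MulAction.mem_stabilizer_iff.mpr hfq⟩))).1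
  -- `s j` normalises `G` for `j ≥ 3`
  have hNG : ∀ j : ℕ, 3 ≤ j → j + 1 ≤ t → ∀ f ∈ G, s j * f * (s j)⁻¹ ∈ G := by
    intro j hj hjt f hf
    have hσ2 : (s j ^ 2)⁻¹ ∈ G := G.inv_mem (hHG (hsq2 j (by omega) hjt))
    have hs1c : s j * s 1 * (s j)⁻¹ ∈ G := by
      rw [conj_formula]
      exact G.mul_mem (G.mul_mem (G.inv_mem hs1) (hHG (hcomm 1 j le_rfl (by omega) hjt).1)) hσ2
    by_cases hfq : f (q 2) = q 2
    · exact hnormG j (by omega) hjt f hf hfq
    · have hz : ∀ i, 3 ≤ i → i ≤ t → f (q 2) ≠ q i := by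
        intro i hi hit h
        have h3 := hfix f⁻¹ (G.inv_mem hf) i hi hit
        rw [← h, Equiv.Perm.inv_def, Equiv.symm_apply_apply] at h3
        exact hfq h3.symm
      obtain ⟨f1, hf1, hf1a, hf1b⟩ := h2 (q 2) (q 1) (q 2) (f (q 2))
        (fun i hi hit => ⟨hdist 2 i (by omega) (by omega) (by omega) hit (by omega),
          hdist 1 i (by omega) (by omega) (by omega) hit (by omega),
          hdist 2 i (by omega) (by omega) (by omega) hit (by omega), hz i hi hit⟩)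
        (hdist 2 1 (by omega) (by omega) (by omega) (by omega) (by omega)) (Ne.symm hfq)
      have hf2 : (s 1)⁻¹ * f1⁻¹ * f ∈ G := G.mul_mem (G.mul_mem (G.inv_mem hs1) (G.inv_mem hf1)) hf
      have hf2q : ((s 1)⁻¹ * f1⁻¹ * f) (q 2) = q 2 := by
        have e1 : f1⁻¹ (f (q 2)) = q 1 := by rw [Equiv.Perm.inv_def, Equiv.symm_apply_eq, hf1b]
        have e2 : (s 1)⁻¹ (q 1) = q 2 := by rw [Equiv.Perm.inv_def, Equiv.symm_apply_eq, hs1q.2]
        simp only [Equiv.Perm.mul_apply]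
        rw [e1, e2]
      have e : s j * f * (s j)⁻¹ = (s j * f1 * (s j)⁻¹) * (s j * s 1 * (s j)⁻¹) *
          (s j * ((s 1)⁻¹ * f1⁻¹ * f) * (s j)⁻¹) := by group
      rw [e]
      exact G.mul_mem (G.mul_mem (hnormG j (by omega) hjt f1 hf1 hf1a) hs1c)
        (hnormG j (by omega) hjt _ hf2 hf2q)
  -- the tower
  have main : ∀ m : ℕ, m + 2 ≤ t →
      FixesOn (Gj G s (m + 2)) (Sj q t (m + 2)) ∧ Trans (Gj G s (m + 2)) (Sj q t (m + 2)) (m + 2) ∧
      (∀ f ∈ Gj G s (m + 2), (∀ i, 1 ≤ i → i ≤ m + 2 → f (q i) = q i) → f ∈ H) ∧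
      (1 ≤ m → ∀ f ∈ Gj G s (m + 2), f (q (m + 2)) = q (m + 2) → f ∈ Gj G s (m + 1)) := by
    intro m
    induction m with
    | zero =>
      intro _
      show FixesOn (Gj G s 2) (Sj q t 2) ∧ Trans (Gj G s 2) (Sj q t 2) 2 ∧
        (∀ f ∈ Gj G s 2, (∀ i, 1 ≤ i → i ≤ 2 → f (q i) = q i) → f ∈ H) ∧
        (1 ≤ 0 → ∀ f ∈ Gj G s 2, f (q 2) = q 2 → f ∈ Gj G s 1)
      rw [Gj_two]
      refine ⟨?_, ?_, ?_, fun h => absurd h (by omega)⟩
      · rintro g hg z ⟨i, hi, hit, rfl⟩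
        exact hfix g hg i (by omega) hit
      · apply trans_two_of_forall
        intro a b c d ha hb hc hd hab hcd
        exact h2 a b c d (fun i hi hit => ⟨fun h => ha ⟨i, by omega, hit, h⟩,
          fun h => hb ⟨i, by omega, hit, h⟩, fun h => hc ⟨i, by omega, hit, h⟩,
          fun h => hd ⟨i, by omega, hit, h⟩⟩) hab hcd
      · intro f hf hfq
        rw [hH]
        exact Subgroup.mem_inf.mpr ⟨Subgroup.mem_inf.mpr ⟨hf, MulAction.mem_stabilizer_iff.mpr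
          (hfq 1 le_rfl (by omega))⟩, MulAction.mem_stabilizer_iff.mpr (hfq 2 (by omega) le_rfl)⟩
    | succ m ih =>
      intro hmt
      obtain ⟨ihfix, ihT, ihH, ihc⟩ := ih (by omega)
      show FixesOn (Gj G s (m + 2 + 1)) (Sj q t (m + 2 + 1)) ∧
        Trans (Gj G s (m + 2 + 1)) (Sj q t (m + 2 + 1)) (m + 2 + 1) ∧
        (∀ f ∈ Gj G s (m + 2 + 1), (∀ i, 1 ≤ i → i ≤ m + 2 + 1 → f (q i) = q i) → f ∈ H) ∧
        (1 ≤ m + 1 → ∀ f ∈ Gj G s (m + 2 + 1), f (q (m + 2 + 1)) = q (m + 2 + 1) → f ∈ Gj G s (m + 2))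
      have hjt : m + 2 + 1 ≤ t := by omega
      have hsqj := hsq (m + 2) (by omega) hjt
      have hp : q (m + 2 + 1) ∈ Sj q t (m + 2) := ⟨m + 2 + 1, by omega, hjt, rfl⟩
      have hx : q (m + 2) ∉ Sj q t (m + 2) := by
        rintro ⟨i, hi, hit, h⟩
        exact hdist (m + 2) i (by omega) (by omega) (by omega) hit (by omega) h
      have hy : q (m + 1) ∉ Sj q t (m + 2) := by
        rintro ⟨i, hi, hit, h⟩
        exact hdist (m + 1) i (by omega) (by omega) (by omega) hit (by omega) h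
      have hxy : q (m + 2) ≠ q (m + 1) :=
        hdist (m + 2) (m + 1) (by omega) (by omega) (by omega) (by omega) (by omega)
      have hg : s (m + 1) ∈ Gj G s (m + 2) := by
        by_cases hm0 : m = 0
        · subst hm0
          exact le_Gj G s _ hs1
        · exact s_mem_Gj G s (by omega) (by omega)
      have hhS : ∀ z ∈ Sj q t (m + 2), z ≠ q (m + 2 + 1) → s (m + 2) z = z := by
        rintro _ ⟨i, hi, hit, rfl⟩ hne
        exact hsqj.2.2 i (by omega) hit (by omega) (by rintro rfl; exact hne rfl)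
      have hgx : s (m + 1) (q (m + 2)) = q (m + 1) := by
        by_cases hm0 : m = 0
        · subst hm0
          exact hs1q.2
        · exact (hsq (m + 1) (by omega) (by omega)).2.1
      have h6 : (s (m + 1) * s (m + 2)) ^ 3 ∈ Gj G s (m + 2) :=
        le_Gj G s _ (hHG (hbraid (m + 1) (by omega) (by omega)))
      have h7H : s (m + 2) ^ 2 ∈ H := hsq2 (m + 2) (by omega) hjt
      have h7 : s (m + 2) ^ 2 ∈ Gj G s (m + 2) := le_Gj G s _ (hHG h7H)
      have hN : 1 ≤ m → ∀ f ∈ Gj G s (m + 1), s (m + 2) * f * (s (m + 2))⁻¹ ∈ Gj G s (m + 1) := by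
        intro hm1 f hf
        have hf' : f ∈ Subgroup.closure ((G : Set (Equiv.Perm α)) ∪
            {x | ∃ i : ℕ, 2 ≤ i ∧ i + 1 ≤ m + 1 ∧ x = s i}) := hf
        clear hf
        induction hf' using Subgroup.closure_induction with
        | mem f hf =>
          rcases hf with hf | ⟨i, hi, hij, rfl⟩
          · exact le_Gj G s _ (hNG (m + 2) (by omega) hjt f hf)
          · rw [conj_formula]
            exact Subgroup.mul_mem _ (Subgroup.mul_mem _ (Subgroup.inv_mem _ (s_mem_Gj G s hi hij))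
              (le_Gj G s _ (hHG (hcomm i (m + 2) (by omega) (by omega) hjt).1)))
              (Subgroup.inv_mem _ (le_Gj G s _ (hHG h7H)))
        | one =>
          rw [mul_one, mul_inv_cancel]
          exact Subgroup.one_mem _
        | mul a b _ _ ha hb =>
          have : s (m + 2) * (a * b) * (s (m + 2))⁻¹ =
            (s (m + 2) * a * (s (m + 2))⁻¹) * (s (m + 2) * b * (s (m + 2))⁻¹) := by group
          rw [this]
          exact Subgroup.mul_mem _ ha hb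
        | inv a _ ha =>
          have : s (m + 2) * a⁻¹ * (s (m + 2))⁻¹ = (s (m + 2) * a * (s (m + 2))⁻¹)⁻¹ := by group
          rw [this]
          exact Subgroup.inv_mem _ ha
      have h8 : ∀ f ∈ Gj G s (m + 2), f (q (m + 2)) = q (m + 2) →
          s (m + 2) * f * (s (m + 2))⁻¹ ∈ Gj G s (m + 2) := by
        intro f hf hfq
        by_cases hm0 : m = 0
        · subst hm0
          have hf' : f ∈ G := by
            have := hf
            rw [show (0 + 2 : ℕ) = 2 from rfl, Gj_two] at this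
            exact this
          exact le_Gj G s _ (hnormG 2 le_rfl (by omega) f hf' hfq)
        · have hf1 := ihc (by omega) f hf hfq
          exact Gj_mono G s (by omega : m + 1 ≤ m + 2) (hN (by omega) f hf1)
      obtain ⟨efix, eT, estab⟩ := extension (by omega : 2 ≤ m + 2) ihfix ihT hp hx hy hxy hg hsqj.2.1
        hsqj.1 hhS hgx h6 h7 h8
      rw [Gj_succ G s (by omega : 2 ≤ m + 2), Sj_succ hdist hjt] at efix eT
      rw [Gj_succ G s (by omega : 2 ≤ m + 2)] at estab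
      refine ⟨efix, eT, ?_, ?_⟩
      · intro f hf hfq
        have hf' := estab f hf (hfq (m + 2 + 1) (by omega) le_rfl)
        exact ihH f hf' (fun i hi hij => hfq i hi (by omega))
      · intro _ f hf hfq
        exact estab f hf hfq
  obtain ⟨m, rfl⟩ : ∃ m, t = m + 2 := ⟨t - 2, by omega⟩
  obtain ⟨_, hT, hHd, _⟩ := main m le_rfl
  have hSempty : Sj q (m + 2) (m + 2) = ∅ := by
    ext z
    simp only [Sj, Set.mem_ofPred_eq, Set.mem_empty_iff_false, iff_false, not_exists]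
    intro i hi
    omega
  rw [hSempty] at hT
  refine ⟨isMultiplyPretransitive_of_trans' _ _ hT, ?_⟩
  apply le_antisymm
  · intro f hf
    rw [Subgroup.mem_inf] at hf
    apply hHd f hf.1
    intro i hi hit
    exact (mem_fixingSubgroup_iff _).mp hf.2 (q i) ⟨i, hi, hit, rfl⟩
  · intro f hf
    have hfG := hHG hf
    rw [hH] at hf
    have hf1 : f (q 1) = q 1 := MulAction.mem_stabilizer_iff.mp (Subgroup.mem_inf.mp (Subgroup.mem_inf.mp hf).1).2
    have hf2 : f (q 2) = q 2 := MulAction.mem_stabilizer_iff.mp (Subgroup.mem_inf.mp hf).2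
    refine Subgroup.mem_inf.mpr ⟨le_Gj G s _ hfG, ?_⟩
    rw [mem_fixingSubgroup_iff]
    rintro _ ⟨i, hi, hit, rfl⟩
    by_cases h1 : i = 1
    · rw [h1]; exact hf1
    · by_cases h2' : i = 2
      · rw [h2']; exact hf2
      · exact hfix f hfG i (by omega) hit

end Cfsg.Agent.S0709
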