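import Cfsg.Statements.S0710
import Mathlib

set_option autoImplicit false
open Cfsg

namespace Cfsg.Agent.S0710

open Subgroup

theorem result {α : Type*} [Fintype α] [DecidableEq α] (hα : Fintype.card α = 13) (G : Subgroup (Equiv.Perm α)) [MulAction.IsPretransitive G α] : Nat.card G ≠ 13 * 12 * 11 * 10 * 9 * 8 := by
  intro hG
  haveI : Fact (Nat.Prime 13) := ⟨by norm_num⟩
  haveI : Finite G := Subtype.finite
  obtain P : Sylow 13 G := default
  -- |P| = 13
  obtain ⟨k, hk⟩ := (P.2 : IsPGroup 13 P).exists_card_eq
  have h13dvd : 13 ∣ Nat.card G := by rw [hG]; norm_num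
  have hPdvd : 13 ∣ Nat.card P := P.dvd_card_of_dvd_card h13dvd
  have hPG : Nat.card P ∣ Nat.card G := Subgroup.card_subgroup_dvd_card _
  have hk1 : k = 1 := by
    rcases Nat.lt_or_ge k 1 with h | h
    · have : k = 0 := by omega
      rw [this, pow_zero] at hk
      rw [hk] at hPdvd
      norm_num at hPdvd
    · rcases Nat.lt_or_ge 1 k with h2 | h2
      · exfalso
        have : 13 ^ 2 ∣ Nat.card G := by
          refine dvd_trans ?_ hPG
          rw [hk]
          exact pow_dvd_pow 13 h2
        rw [hG] at this
        norm_num at this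
      · omega
  rw [hk1, pow_one] at hk
  -- P is cyclic
  haveI hPc : IsCyclic P := isCyclic_of_prime_card hk
  haveI : IsMulCommutative (P : Subgroup G) := IsCyclic.isMulCommutative
  obtain ⟨g, hg⟩ := IsCyclic.exists_generator (α := P)
  have hgord : orderOf g = 13 := by
    rw [orderOf_eq_card_of_forall_mem_zpowers hg, hk]
  let σ : Equiv.Perm α := ((g : G) : Equiv.Perm α)
  have hσord : orderOf σ = 13 := by
    rw [← hgord]
    simp only [σ]
    rw [Subgroup.orderOf_coe, Subgroup.orderOf_coe]
  obtain ⟨n, hn⟩ := Equiv.Perm.cycleType_prime_order (σ := σ) (by rw [hσord]; norm_num)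
  rw [hσord] at hn
  have hsum := Equiv.Perm.sum_cycleType_le σ
  rw [hn, hα] at hsum
  simp only [Multiset.sum_replicate, smul_eq_mul] at hsum
  have hn0 : n = 0 := by omega
  rw [hn0] at hn
  have hcent : Nat.card (Subgroup.centralizer ({σ} : Set (Equiv.Perm α))) = 13 := by
    rw [Equiv.Perm.nat_card_centralizer, hn, hα]
    simp
  -- C = centralizer of P in G has order 13
  set C := Subgroup.centralizer ((P : Subgroup G) : Set G) with hC
  have hPC : (P : Subgroup G) ≤ C := Subgroup.le_centralizer (P : Subgroup G)
  have hCle : Nat.card C ≤ 13 := by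
    rw [← hcent]
    apply Nat.card_le_card_of_injective (fun c : C => (⟨((c : G) : Equiv.Perm α), by
      rw [Subgroup.mem_centralizer_singleton_iff]
      have := c.2 (g : G) g.2
      have h2 := congrArg (fun x : G => (x : Equiv.Perm α)) this
      simpa using h2.symm⟩ : Subgroup.centralizer ({σ} : Set (Equiv.Perm α))))
    intro c c' h
    apply Subtype.ext
    apply Subtype.ext
    have h' := congrArg Subtype.val h
    exact h'
  have hCcard : Nat.card C = 13 := by
    have h1 : Nat.card P ∣ Nat.card C := Subgroup.card_dvd_of_le hPC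
    rw [hk] at h1
    have hpos : 0 < Nat.card C := Nat.card_pos
    obtain ⟨m, hm⟩ := h1
    have : m = 1 := by
      rcases Nat.lt_or_ge m 1 with h | h
      · have : m = 0 := by omega
        rw [this] at hm; omega
      · rcases Nat.lt_or_ge 1 m with h2 | h2
        · rw [hm] at hCle; nlinarith
        · omega
    rw [hm, this]
  -- relative index of C in N divides 12
  set N := Subgroup.normalizer ((P : Subgroup G) : Set G) with hN
  have key := Subgroup.card_dvd_of_injective _ (QuotientGroup.kerLift_injective (P : Subgroup G).normalizerMonoidHom)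
  rw [Subgroup.normalizerMonoidHom_ker, ← Subgroup.index, ← Subgroup.relIndex] at key
  rw [IsCyclic.card_mulAut, hk] at key
  have htot : Nat.totient 13 = 12 := by
    rw [Nat.totient_prime (by norm_num)]
  rw [htot] at key
  -- count
  have hCN : C ≤ N := Subgroup.centralizer_le_normalizer _
  have h1 : C.relIndex N * N.index = C.index := Subgroup.relIndex_mul_index hCN
  have h2 : Nat.card C * C.index = Nat.card G := Subgroup.card_mul_index C
  have h3 : Nat.card (Sylow 13 G) = N.index := P.card_eq_index_normalizer
  have h4 : Nat.card (Sylow 13 G) ≡ 1 [MOD 13] := card_sylow_modEq_one 13 G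
  rw [h3] at h4
  rw [hCcard, ← h1, hG] at h2
  have hd : C.relIndex N ∣ 12 := key
  have hdle : C.relIndex N ≤ 12 := Nat.le_of_dvd (by norm_num) hd
  have hdpos : 0 < C.relIndex N := Nat.pos_of_dvd_of_pos hd (by norm_num)
  unfold Nat.ModEq at h4
  generalize C.relIndex N = d at *
  generalize N.index = n at *
  interval_cases d <;> omega

end Cfsg.Agent.S0710
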