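-- Statement S0714.
import Cfsg.Statements.S0714
-- import your own Cfsg.Agent.* helpers here

set_option autoImplicit false
open Cfsg

namespace Cfsg.Agent.S0714

variable {α : Type*} [DecidableEq α]

/-- the 3-cycle x → y → z → x -/
def cyc (x y z : α) : Equiv.Perm α := Equiv.swap x y * Equiv.swap y z

theorem cyc_left {x y z : α} (hxy : x ≠ y) (hxz : x ≠ z) : cyc x y z x = y := by
  unfold cyc
  rw [Equiv.Perm.mul_apply, Equiv.swap_apply_of_ne_of_ne hxy hxz, Equiv.swap_apply_left]

theorem cyc_mid {x y z : α} (hxz : x ≠ z) (hyz : y ≠ z) : cyc x y z y = z := by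
  unfold cyc
  rw [Equiv.Perm.mul_apply, Equiv.swap_apply_left, Equiv.swap_apply_of_ne_of_ne hxz.symm hyz.symm]

theorem cyc_right {x y z : α} : cyc x y z z = x := by
  unfold cyc
  rw [Equiv.Perm.mul_apply, Equiv.swap_apply_right, Equiv.swap_apply_right]

theorem cyc_other {x y z w : α} (hx : w ≠ x) (hy : w ≠ y) (hz : w ≠ z) : cyc x y z w = w := by
  unfold cyc
  rw [Equiv.Perm.mul_apply, Equiv.swap_apply_of_ne_of_ne hy hz, Equiv.swap_apply_of_ne_of_ne hx hy]

theorem cyc_sign {x y z : α} [Fintype α] (hxy : x ≠ y) (hyz : y ≠ z) : Equiv.Perm.sign (cyc x y z) = 1 := by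
  unfold cyc
  rw [map_mul, Equiv.Perm.sign_swap hxy, Equiv.Perm.sign_swap hyz]
  rfl

theorem swap_swap_sign {x y z w : α} [Fintype α] (hxy : x ≠ y) (hzw : z ≠ w) :
    Equiv.Perm.sign (Equiv.swap x y * Equiv.swap z w) = 1 := by
  rw [map_mul, Equiv.Perm.sign_swap hxy, Equiv.Perm.sign_swap hzw]
  rfl

/-- invariance under precomposition with even permutations -/
theorem comp_mem [Fintype α] {K : Type*} [Field K]
    (W : Subrepresentation (Cfsg.permRep K (alternatingGroup α) α)) {v : α → K} (hv : v ∈ W.toSubmodule)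
    (τ : Equiv.Perm α) (hτ : Equiv.Perm.sign τ = 1) : (fun x => v (τ x)) ∈ W.toSubmodule := by
  have h := W.apply_mem_toSubmodule (⟨τ, Equiv.Perm.mem_alternatingGroup.mpr hτ⟩⁻¹ : alternatingGroup α) hv
  have : (Cfsg.permRep K (alternatingGroup α) α) (⟨τ, Equiv.Perm.mem_alternatingGroup.mpr hτ⟩⁻¹ : alternatingGroup α) v
      = fun x => v (τ x) := by
    funext x
    simp [Cfsg.permRep, Subgroup.smul_def, Equiv.Perm.inv_def]
  rw [this] at h
  exact h


theorem exists_two_more [Fintype α] (hα : 5 ≤ Fintype.card α) (i j k : α) :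
    ∃ l m : α, l ≠ i ∧ l ≠ j ∧ l ≠ k ∧ m ≠ i ∧ m ≠ j ∧ m ≠ k ∧ m ≠ l := by
  have h1 : ({i, j, k} : Finset α).card < (Finset.univ : Finset α).card := by
    rw [Finset.card_univ]
    exact lt_of_le_of_lt (Finset.card_le_three) (by omega)
  obtain ⟨l, _, hl⟩ := Finset.exists_mem_notMem_of_card_lt_card h1
  have h2 : ({i, j, k, l} : Finset α).card < (Finset.univ : Finset α).card := by
    rw [Finset.card_univ]
    exact lt_of_le_of_lt (Finset.card_le_four) (by omega)
  obtain ⟨m, _, hm⟩ := Finset.exists_mem_notMem_of_card_lt_card h2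
  simp only [Finset.mem_insert, Finset.mem_singleton, not_or] at hl hm
  exact ⟨l, m, hl.1, hl.2.1, hl.2.2, hm.1, hm.2.1, hm.2.2.1, hm.2.2.2⟩

theorem exists_one_more [Fintype α] (hα : 5 ≤ Fintype.card α) (i j : α) :
    ∃ k : α, k ≠ i ∧ k ≠ j := by
  have h1 : ({i, j} : Finset α).card < (Finset.univ : Finset α).card := by
    rw [Finset.card_univ]
    exact lt_of_le_of_lt (Finset.card_le_two) (by omega)
  obtain ⟨l, _, hl⟩ := Finset.exists_mem_notMem_of_card_lt_card h1
  simp only [Finset.mem_insert, Finset.mem_singleton, not_or] at hl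
  exact ⟨l, hl.1, hl.2⟩

/-- from a non-constant vector to a difference of basis vectors -/
theorem exists_diff_mem [Fintype α] (hα : 5 ≤ Fintype.card α) {K : Type*} [Field K]
    (W : Subrepresentation (Cfsg.permRep K (alternatingGroup α) α)) {v : α → K} (hv : v ∈ W.toSubmodule)
    {i j : α} (hij : v i ≠ v j) :
    ∃ p q : α, p ≠ q ∧ (Pi.single p (1 : K) - Pi.single q (1 : K) : α → K) ∈ W.toSubmodule := by
  have hne : i ≠ j := fun h => hij (by rw [h])
  obtain ⟨k, hki, hkj⟩ := exists_one_more hα i j
  obtain ⟨l, m, hli, hlj, hlk, hmi, hmj, hmk, hml⟩ := exists_two_more hα i j k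
  -- first difference
  set u : α → K := v - fun x => v (cyc i j k x) with hu
  have huS : u ∈ W.toSubmodule :=
    W.toSubmodule.sub_mem hv (comp_mem W hv _ (cyc_sign hne (Ne.symm hkj)))
  have hui : u i = v i - v j := by
    rw [hu]; simp only [Pi.sub_apply]; rw [cyc_left hne (Ne.symm hki)]
  have hul : u l = 0 := by
    rw [hu]; simp only [Pi.sub_apply]; rw [cyc_other hli hlj hlk, sub_self]
  have hum : u m = 0 := by
    rw [hu]; simp only [Pi.sub_apply]; rw [cyc_other hmi hmj hmk, sub_self]
  -- second difference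
  set d : α → K := u - fun x => u (cyc i l m x) with hd
  have hdS : d ∈ W.toSubmodule :=
    W.toSubmodule.sub_mem huS (comp_mem W huS _ (cyc_sign (Ne.symm hli) (Ne.symm hml)))
  have hdeq : d = (u i) • (Pi.single i (1 : K) - Pi.single m (1 : K) : α → K) := by
    funext w
    rw [hd]
    simp only [Pi.sub_apply, Pi.smul_apply, smul_eq_mul]
    by_cases h1 : w = i
    · subst h1
      rw [cyc_left (Ne.symm hli) (Ne.symm hmi), hul, Pi.single_eq_same, Pi.single_eq_of_ne (Ne.symm hmi)]
      ring
    by_cases h2 : w = l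
    · subst h2
      rw [cyc_mid (Ne.symm hmi) (Ne.symm hml), hul, hum, Pi.single_eq_of_ne h1, Pi.single_eq_of_ne (Ne.symm hml)]
      ring
    by_cases h3 : w = m
    · subst h3
      rw [cyc_right, hum, Pi.single_eq_of_ne h1, Pi.single_eq_same]
      ring
    rw [cyc_other h1 h2 h3, Pi.single_eq_of_ne h1, Pi.single_eq_of_ne h3]
    ring
  have hui0 : u i ≠ 0 := by rw [hui]; exact sub_ne_zero.mpr hij
  refine ⟨i, m, Ne.symm hmi, ?_⟩
  have := W.toSubmodule.smul_mem (u i)⁻¹ hdS
  rw [hdeq, smul_smul, inv_mul_cancel₀ hui0, one_smul] at this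
  exact this

/-- all differences -/
theorem all_diff_mem [Fintype α] {K : Type*} [Field K]
    (W : Subrepresentation (Cfsg.permRep K (alternatingGroup α) α)) {p q : α} (hpq : p ≠ q)
    (h : (Pi.single p (1 : K) - Pi.single q (1 : K) : α → K) ∈ W.toSubmodule) (x y : α) :
    (Pi.single x (1 : K) - Pi.single y (1 : K) : α → K) ∈ W.toSubmodule := by
  have hall : ∀ z, (Pi.single z (1 : K) - Pi.single p (1 : K) : α → K) ∈ W.toSubmodule := by
    intro z
    by_cases hzp : z = p
    · rw [hzp, sub_self]; exact W.toSubmodule.zero_mem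
    by_cases hzq : z = q
    · rw [hzq]
      have := W.toSubmodule.neg_mem h
      rwa [neg_sub] at this
    have h1 := comp_mem W h (cyc p q z) (cyc_sign hpq (Ne.symm hzq))
    have h2 : (fun w => (Pi.single p (1 : K) - Pi.single q (1 : K) : α → K) (cyc p q z w))
        = (Pi.single z (1 : K) - Pi.single p (1 : K) : α → K) := by
      funext w
      simp only [Pi.sub_apply, Pi.single_apply]
      have e1 : cyc p q z w = p ↔ w = z := by
        constructor
        · intro hw
          apply (cyc p q z).injective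
          rw [hw, cyc_right]
        · intro hw; rw [hw, cyc_right]
      have e2 : cyc p q z w = q ↔ w = p := by
        constructor
        · intro hw
          apply (cyc p q z).injective
          rw [hw, cyc_left hpq (Ne.symm hzp)]
        · intro hw; rw [hw, cyc_left hpq (Ne.symm hzp)]
      simp only [e1, e2]
    rw [h2] at h1
    exact h1
  have := W.toSubmodule.sub_mem (hall x) (hall y)
  rwa [sub_sub_sub_cancel_right] at this

theorem sumZero_le [Fintype α] {K : Type*} [Field K]
    (W : Subrepresentation (Cfsg.permRep K (alternatingGroup α) α))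
    (h : ∀ x y : α, (Pi.single x (1 : K) - Pi.single y (1 : K) : α → K) ∈ W.toSubmodule) :
    (Cfsg.permSumZero K (alternatingGroup α) α).toSubmodule ≤ W.toSubmodule := by
  intro v hv
  have hv' : ∑ x, v x = 0 := hv
  rcases isEmpty_or_nonempty α with he | ⟨⟨x0⟩⟩
  · have : v = 0 := funext fun x => (he.false x).elim
    rw [this]; exact W.toSubmodule.zero_mem
  have key : v = ∑ x, v x • (Pi.single x (1 : K) - Pi.single x0 (1 : K) : α → K) := by
    funext w
    simp only [Finset.sum_apply, Pi.smul_apply, Pi.sub_apply, smul_eq_mul, mul_sub,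
      Finset.sum_sub_distrib, Pi.single_apply, mul_ite, mul_one, mul_zero]
    rw [Finset.sum_ite_eq]
    by_cases hw : w = x0
    · simp [hw, hv']
    · simp [hw]
  rw [key]
  exact W.toSubmodule.sum_mem fun x _ => W.toSubmodule.smul_mem _ (h x x0)



/-- Over any field, the permutation module of the alternating group of degree at least 5 has exactly four invariant subspaces: zero, the constant functions, the functions with coordinate sum zero, and everything. -/
theorem result {α : Type*} [Fintype α] [DecidableEq α] (hα : 5 ≤ Fintype.card α) {K : Type*} [Field K] (W : Subrepresentation (Cfsg.permRep K (alternatingGroup α) α)) : W.toSubmodule = ⊥ ∨ W = Cfsg.permConstants K (alternatingGroup α) α ∨ W = Cfsg.permSumZero K (alternatingGroup α) α ∨ W.toSubmodule = ⊤ := by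
  by_cases hconst : ∀ v ∈ W.toSubmodule, ∀ i j, v i = v j
  · by_cases hbot : W.toSubmodule = ⊥
    · exact Or.inl hbot
    · right; left
      apply Subrepresentation.toSubmodule_injective
      show W.toSubmodule = Submodule.span K {fun _ => 1}
      obtain ⟨v, hv, hv0⟩ := Submodule.exists_mem_ne_zero_of_ne_bot hbot
      have hne : ∃ x0, v x0 ≠ 0 := by
        by_contra hcon
        push Not at hcon
        exact hv0 (funext hcon)
      obtain ⟨x0, hx0⟩ := hne
      apply le_antisymm
      · intro u hu
        rw [Submodule.mem_span_singleton]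
        refine ⟨u x0, funext fun w => ?_⟩
        simp only [Pi.smul_apply, smul_eq_mul, mul_one]
        exact hconst u hu x0 w
      · rw [Submodule.span_singleton_le_iff_mem]
        have h1 := W.toSubmodule.smul_mem (v x0)⁻¹ hv
        have h2 : (v x0)⁻¹ • v = fun _ => (1 : K) := by
          funext w
          simp only [Pi.smul_apply, smul_eq_mul]
          rw [hconst v hv w x0, inv_mul_cancel₀ hx0]
        rw [h2] at h1
        exact h1
  · push Not at hconst
    obtain ⟨v, hv, i, j, hij⟩ := hconst
    obtain ⟨p, q, hpq, hd⟩ := exists_diff_mem hα W hv hij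
    have hall := all_diff_mem W hpq hd
    have hle := sumZero_le W hall
    right; right
    by_cases htop : W.toSubmodule = ⊤
    · exact Or.inr htop
    · left
      apply Subrepresentation.toSubmodule_injective
      refine le_antisymm ?_ hle
      intro u hu
      by_contra hsum
      apply htop
      rw [eq_top_iff]
      intro t _
      have hs : ∑ x, u x ≠ 0 := hsum
      have h1 : t - ((∑ x, t x) / (∑ x, u x)) • u ∈ (Cfsg.permSumZero K (alternatingGroup α) α).toSubmodule := by
        show ∑ x, (t - ((∑ x, t x) / (∑ x, u x)) • u) x = 0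
        simp only [Pi.sub_apply, Pi.smul_apply, smul_eq_mul, Finset.sum_sub_distrib, ← Finset.mul_sum]
        rw [div_mul_cancel₀ _ hs, sub_self]
      have := W.toSubmodule.add_mem (hle h1) (W.toSubmodule.smul_mem ((∑ x, t x) / (∑ x, u x)) hu)
      rwa [sub_add_cancel] at this

end Cfsg.Agent.S0714
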