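import Cfsg.Statements.S0716
import Cfsg.Agent.Lib.Helper2.RankFive

set_option autoImplicit false
open Cfsg

namespace Cfsg.Agent.S0716

/-- (a) If all non-principal irreducible constituents of the permutation character of a transitive group have the same degree `f`, the character is multiplicity-free and all non-trivial subdegrees equal `f`. (b) A transitive group of rank at most 5 has multiplicity-free permutation character. -/
theorem result {G : Type*} [Group G] [Fintype G] {Ω : Type*} [Fintype Ω] [MulAction G Ω] [MulAction.IsPretransitive G Ω] (a : Ω) : ((f : ℕ) → (∀ χ : G → ℂ, Cfsg.IsIrrCharacter G χ → χ ≠ (fun _ => 1) → Cfsg.classInner (fun g : G => (Nat.card (MulAction.fixedBy Ω g) : ℂ)) χ ≠ 0 → χ 1 = f) → (∀ χ : G → ℂ, Cfsg.IsIrrCharacter G χ → Cfsg.classInner (fun g : G => (Nat.card (MulAction.fixedBy Ω g) : ℂ)) χ = 0 ∨ Cfsg.classInner (fun g : G => (Nat.card (MulAction.fixedBy Ω g) : ℂ)) χ = 1) ∧ ∀ b : Ω, b ≠ a → Nat.card (MulAction.orbit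 (MulAction.stabilizer G a) b) = f) ∧ (Nat.card (MulAction.orbitRel.Quotient (MulAction.stabilizer G a) Ω) ≤ 5 → ∀ χ : G → ℂ, Cfsg.IsIrrCharacter G χ → Cfsg.classInner (fun g : G => (Nat.card (MulAction.fixedBy Ω g) : ℂ)) χ = 0 ∨ Cfsg.classInner (fun g : G => (Nat.card (MulAction.fixedBy Ω g) : ℂ)) χ = 1) := by
  classical
  have hconv : ∀ (h : ∀ χ : Cfsg.IrrCharacter G, Cfsg.Agent.Lib.Helper2.RankFive.mult Ω χ ≤ 1)
      (χ : G → ℂ), Cfsg.IsIrrCharacter G χ →
      Cfsg.classInner (fun g : G => (Nat.card (MulAction.fixedBy Ω g) : ℂ)) χ = 0 ∨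
      Cfsg.classInner (fun g : G => (Nat.card (MulAction.fixedBy Ω g) : ℂ)) χ = 1 := by
    intro h χ hχ
    have h1 := Cfsg.Agent.Lib.Helper2.RankFive.mult_spec (G := G) a ⟨χ, hχ⟩
    have h2 := h ⟨χ, hχ⟩
    have h3 : Cfsg.Agent.Lib.Helper2.RankFive.mult Ω (⟨χ, hχ⟩ : Cfsg.IrrCharacter G) = 0 ∨
        Cfsg.Agent.Lib.Helper2.RankFive.mult Ω (⟨χ, hχ⟩ : Cfsg.IrrCharacter G) = 1 := by omega
    rcases h3 with h3 | h3
    · left
      rw [h3, Nat.cast_zero] at h1
      exact h1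
    · right
      rw [h3, Nat.cast_one] at h1
      exact h1
  refine ⟨fun f hf => ?_, fun hr => ?_⟩
  · have h := Cfsg.Agent.Lib.Helper2.RankFive.part_one (G := G) a f hf
    exact ⟨hconv h.1, h.2⟩
  · exact hconv (Cfsg.Agent.Lib.Helper2.RankFive.part_two (G := G) a hr)

end Cfsg.Agent.S0716
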