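-- Statement S0718
import Cfsg.Statements.S0718
import Mathlib
import Cfsg.Agent.Lib.Helper6.CentRing

set_option autoImplicit false
open Cfsg

namespace Cfsg.Agent.S0718

open Cfsg.Agent.Lib.Helper6.CentRing Cfsg.Agent.Lib.Helper2 Module

/-- Multiplicity-freeness of the permutation character is equivalent to commutativity of the centraliser ring, i.e. of the algebra of `G`-equivariant endomorphisms of the complex permutation module. -/
theorem result {G : Type*} [Group G] [Fintype G] {Ω : Type*} [Fintype Ω] [MulAction G Ω] : (∀ χ : G → ℂ, Cfsg.IsIrrCharacter G χ → Cfsg.classInner (fun g : G => (Nat.card (MulAction.fixedBy Ω g) : ℂ)) χ = 0 ∨ Cfsg.classInner (fun g : G => (Nat.card (MulAction.fixedBy Ω g) : ℂ)) χ = 1) ↔ ∀ S T : (Ω → ℂ) →ₗ[ℂ] (Ω → ℂ), S ∈ ((Cfsg.permRep ℂ G Ω).linHom (Cfsg.permRep ℂ G Ω)).invariants → T ∈ ((Cfsg.permRep ℂ G Ω).linHom (Cfsg.permRep ℂ G Ω)).invariants → S ∘ₗ T = T ∘ₗ S := by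
  classical
  haveI : Fintype (Cfsg.IrrCharacter G) := Fintype.ofFinite _
  constructor
  · intro h S T hS hT
    have hmf : ∀ χ : Cfsg.IrrCharacter G, mult Ω χ ≤ 1 := by
      intro χ
      have h1 := mult_spec (Ω := Ω) χ
      rcases h χ.1 χ.2 with h0 | h0
      · have : (mult Ω χ : ℂ) = 0 := by rw [← h1]; exact h0
        have : mult Ω χ = 0 := by exact_mod_cast this
        omega
      · have : (mult Ω χ : ℂ) = 1 := by rw [← h1]; exact h0
        have : mult Ω χ = 1 := by exact_mod_cast this
        omega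
    exact comm_of_multfree hmf S T hS hT
  · intro h χ hχ
    obtain ⟨n, σ, hσ, rfl⟩ := hχ
    have h1 : Cfsg.classInner (pch G Ω) σ.character
        = (finrank ℂ (Representation.IntertwiningMap σ (Cfsg.permRep ℂ G Ω)) : ℂ) := by
      rw [← permRep_character]
      exact classInner_char_char _ _
    change Cfsg.classInner (pch G Ω) σ.character = 0 ∨ Cfsg.classInner (pch G Ω) σ.character = 1
    rw [h1]
    by_contra hne
    push Not at hne
    have h2 : 2 ≤ finrank ℂ (Representation.IntertwiningMap σ (Cfsg.permRep ℂ G Ω)) := by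
      rcases hne with ⟨h0, h1'⟩
      have h0' : finrank ℂ (Representation.IntertwiningMap σ (Cfsg.permRep ℂ G Ω)) ≠ 0 := by
        intro h; apply h0; rw [h]; simp
      have h1'' : finrank ℂ (Representation.IntertwiningMap σ (Cfsg.permRep ℂ G Ω)) ≠ 1 := by
        intro h; apply h1'; rw [h]; simp
      omega
    obtain ⟨S, T, hS, hT, hne'⟩ := exists_not_comm (Cfsg.permRep ℂ G Ω) σ hσ h2
    exact hne' (h S T ((mem_cent_iff S).mpr hS) ((mem_cent_iff T).mpr hT))

end Cfsg.Agent.S0718
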