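-- Statement S0717
import Cfsg.Statements.S0717
import Mathlib
import Cfsg.Agent.Lib.Helper6.CentRing2
import Cfsg.Agent.S0718

set_option autoImplicit false
open Cfsg

namespace Cfsg.Agent.S0717

open Cfsg.Agent.Lib.Helper6.CentRing Cfsg.Agent.Lib.Helper2 Module

/-- All suborbits of a transitive group are self-paired (every pair of points is interchanged by some group element) if and only if the permutation character is multiplicity-free and each of its irreducible constituents is real-valued. -/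
theorem result {G : Type*} [Group G] [Fintype G] {Ω : Type*} [Fintype Ω] [MulAction G Ω] [MulAction.IsPretransitive G Ω] : (∀ a b : Ω, ∃ g : G, g • a = b ∧ g • b = a) ↔ ∀ χ : G → ℂ, Cfsg.IsIrrCharacter G χ → Cfsg.classInner (fun g : G => (Nat.card (MulAction.fixedBy Ω g) : ℂ)) χ ≠ 0 → Cfsg.classInner (fun g : G => (Nat.card (MulAction.fixedBy Ω g) : ℂ)) χ = 1 ∧ ∀ g : G, (starRingEnd ℂ) (χ g) = χ g := by
  classical
  haveI : Fintype (Cfsg.IrrCharacter G) := Fintype.ofFinite _
  constructor
  · intro hgen χ hχ hne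
    have hsym := transpose_of_generous (G := G) (Ω := Ω) hgen
    have hcomm := comm_of_symm (G := G) (Ω := Ω) hsym
    have hmf := (Cfsg.Agent.S0718.result (G := G) (Ω := Ω)).mpr hcomm χ hχ
    have h1 : Cfsg.classInner (fun g : G => (Nat.card (MulAction.fixedBy Ω g) : ℂ)) χ = 1 :=
      hmf.resolve_left hne
    refine ⟨h1, ?_⟩
    have hm : mult Ω (⟨χ, hχ⟩ : Cfsg.IrrCharacter G) ≠ 0 := by
      intro h0
      have := mult_spec (Ω := Ω) (⟨χ, hχ⟩ : Cfsg.IrrCharacter G)
      rw [h0, Nat.cast_zero] at this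
      exact hne this
    exact real_of_eop_transpose (Ω := Ω) ⟨χ, hχ⟩ hm (hsym _ (eop_mem_cent _))
  · intro h
    apply swap_of_symm (G := G) (Ω := Ω)
    apply transpose_of_multfree_real
    intro χ hm
    have hs := mult_spec (Ω := Ω) χ
    have hne : Cfsg.classInner (fun g : G => (Nat.card (MulAction.fixedBy Ω g) : ℂ)) χ.1 ≠ 0 := by
      change Cfsg.classInner (pch G Ω) (χ : G → ℂ) ≠ 0
      rw [hs]
      exact_mod_cast hm
    obtain ⟨h1, h2⟩ := h χ.1 χ.2 hne
    refine ⟨?_, h2⟩
    have : (mult Ω χ : ℂ) = 1 := by rw [← hs]; exact h1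
    exact_mod_cast this

end Cfsg.Agent.S0717
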