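-- Statement S0719
import Cfsg.Statements.S0719
import Mathlib
import Cfsg.Agent.Lib.Helper6.RankThree

set_option autoImplicit false
open Cfsg

namespace Cfsg.Agent.S0719

open Cfsg.Agent.Lib.Helper6.CentRing Cfsg.Agent.Lib.Helper2

theorem nat_of_d (m k : ℕ) (d : ℤ) (h1 : (m : ℤ) = 2 * d ^ 2 - 2 * d + 1)
    (h2 : (k : ℤ) = (m : ℤ) - d) :
    ∃ a : ℕ, m = 2 * a ^ 2 + 2 * a + 1 ∧ (k = a * (2 * a + 1) ∨ k = (a + 1) * (2 * a + 1)) := by
  rcases le_or_gt 1 d with hd | hd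
  · obtain ⟨a, ha⟩ := Int.eq_ofNat_of_zero_le (show 0 ≤ d - 1 by linarith)
    have hd' : d = (a : ℤ) + 1 := by linarith
    subst hd'
    refine ⟨a, ?_, Or.inl ?_⟩
    · have : (m : ℤ) = ((2 * a ^ 2 + 2 * a + 1 : ℕ) : ℤ) := by
        push_cast
        linear_combination h1
      exact_mod_cast this
    · have : (k : ℤ) = ((a * (2 * a + 1) : ℕ) : ℤ) := by
        push_cast
        linear_combination h2 + h1
      exact_mod_cast this
  · obtain ⟨a, ha⟩ := Int.eq_ofNat_of_zero_le (show 0 ≤ -d by linarith)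
    have hd' : d = -(a : ℤ) := by linarith
    subst hd'
    refine ⟨a, ?_, Or.inr ?_⟩
    · have : (m : ℤ) = ((2 * a ^ 2 + 2 * a + 1 : ℕ) : ℤ) := by
        push_cast
        linear_combination h1
      exact_mod_cast this
    · have : (k : ℤ) = (((a + 1) * (2 * a + 1) : ℕ) : ℤ) := by
        push_cast
        linear_combination h2 + h1
      exact_mod_cast this

theorem a_unique (a a' : ℕ) (h : 2 * a ^ 2 + 2 * a + 1 = 2 * a' ^ 2 + 2 * a' + 1) : a = a' := by
  rcases lt_trichotomy a a' with h' | h' | h'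
  · nlinarith
  · exact h'
  · nlinarith

/-- A primitive rank-3 group of degree 2m whose permutation character is 1 + χ₁ + χ₂ with χ₁(1) = m − 1 and χ₂(1) = m has m = 2a² + 2a + 1 for a positive integer a, and its two non-trivial subdegrees are a(2a+1) and (a+1)(2a+1). -/
theorem result {G : Type*} [Group G] [Fintype G] {Ω : Type*} [Fintype Ω] [MulAction G Ω] (hprim : MulAction.IsPreprimitive G Ω) {m : ℕ} (hm : Fintype.card Ω = 2 * m) (a₀ : Ω) (hrank : Nat.card (MulAction.orbitRel.Quotient (MulAction.stabilizer G a₀) Ω) = 3) (χ₁ χ₂ : G → ℂ) (h₁ : Cfsg.IsIrrCharacter G χ₁) (h₂ : Cfsg.IsIrrCharacter G χ₂) (hπ : (fun g : G => (Nat.card (MulAction.fixedBy Ω g) : ℂ)) = fun g => 1 + χ₁ g + χ₂ g) (hd₁ : χ₁ 1 = (m : ℂ) - 1) (hd₂ : χ₂ 1 = m) : ∃ a : ℕ, 0 < a ∧ m = 2 * a ^ 2 + 2 * a + 1 ∧ ∀ b : Ω, b ≠ a₀ → Nat.card (MulAction.orbit (MulAction.stabilizer G a₀) b) = a * (2 * a + 1) ∨ Nat.card (MulAction.orbit (MulAction.stabilizer G a₀) b)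 = (a + 1) * (2 * a + 1) := by
  classical
  haveI : Fintype (Cfsg.IrrCharacter G) := Fintype.ofFinite _
  haveI := hprim
  have heven : Even (Fintype.card Ω) := ⟨m, by rw [hm]; ring⟩
  have key : ∀ b : Ω, b ≠ a₀ → ∃ a : ℕ, m = 2 * a ^ 2 + 2 * a + 1 ∧
      (Nat.card (MulAction.orbit (MulAction.stabilizer G a₀) b) = a * (2 * a + 1) ∨
        Nat.card (MulAction.orbit (MulAction.stabilizer G a₀) b) = (a + 1) * (2 * a + 1)) := by
    intro b hb
    obtain ⟨d, hd1, hd2⟩ := rank3_analysis (G := G) (Ω := Ω) m hm a₀ hrank χ₁ χ₂ h₁ h₂ hπ hd₁ hd₂ b hb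
    exact nat_of_d m _ d hd1 hd2
  -- some point other than a₀
  obtain ⟨b₀, hb₀⟩ : ∃ b : Ω, b ≠ a₀ := by
    by_contra hcon
    push Not at hcon
    haveI : Subsingleton Ω := ⟨fun x y => (hcon x).trans (hcon y).symm⟩
    haveI : Subsingleton (MulAction.orbitRel.Quotient (MulAction.stabilizer G a₀) Ω) :=
      Quotient.instSubsingletonQuotient _
    have h1 : Nat.card (MulAction.orbitRel.Quotient (MulAction.stabilizer G a₀) Ω) ≤ 1 :=
      Finite.card_le_one_iff_subsingleton.mpr this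
    omega
  obtain ⟨a, ha1, ha2⟩ := key b₀ hb₀
  refine ⟨a, ?_, ha1, ?_⟩
  · rcases Nat.eq_zero_or_pos a with h0 | h0
    · exfalso
      subst h0
      have hne := prim_orbit_card_ne_one (G := G) a₀ b₀ hb₀ hrank heven
      haveI : Nonempty (MulAction.orbit (MulAction.stabilizer G a₀) b₀) :=
        ⟨⟨b₀, MulAction.mem_orbit_self b₀⟩⟩
      have hpos : 0 < Nat.card (MulAction.orbit (MulAction.stabilizer G a₀) b₀) := Nat.card_pos
      rcases ha2 with h | h
      · rw [h] at hpos; omega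
      · apply hne; rw [h]
    · exact h0
  · intro b hb
    obtain ⟨a', ha'1, ha'2⟩ := key b hb
    have : a' = a := a_unique a' a (by rw [← ha1, ← ha'1])
    subst this
    exact ha'2

end Cfsg.Agent.S0719
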