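import Cfsg.Statements.S0723
import Cfsg.Agent.S0722
import Cfsg.Agent.Lib.Helper25.ONanScottMain

set_option autoImplicit false
open Cfsg

namespace Cfsg.Agent.S0723

/-- The core of the O'Nan–Scott Theorem. Let `H` be a primitive permutation group on a finite set whose unique minimal normal subgroup `N` is non-abelian, and `K` a point stabiliser. Then there are a non-abelian simple group `T` and an isomorphism `N ≃* T^m` (`m ≥ 1`) under which `K ⊓ N` becomes either a product `∏ K_i` of proper subgroups `K_i < T`, or the set of functions constant on each block of a partition of the index set into blocks of one common size `k ≥ 2`. -/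
theorem result {α : Type*} [Finite α] (H : Subgroup (Equiv.Perm α)) [MulAction.IsPreprimitive H α] (N : Subgroup H) [N.Normal] (hN : N ≠ ⊥) (hmin : ∀ M : Subgroup H, M.Normal → M ≤ N → M = ⊥ ∨ M = N) (huniq : ∀ L : Subgroup H, L.Normal → L ≠ ⊥ → (∀ M : Subgroup H, M.Normal → M ≤ L → M = ⊥ ∨ M = L) → L = N) (hnab : ¬ IsMulCommutative N) (a : α) : ∃ (T : Type) (_ : Group T) (m : ℕ) (e : N ≃* (Fin m → T)), IsSimpleGroup T ∧ ¬ IsMulCommutative T ∧ 0 < m ∧ ((∃ K : Fin m → Subgroup T, (∀ i, K i ≠ ⊤) ∧ ∀ n : N, (n : H) ∈ MulAction.stabilizer H a ↔ ∀ i, e n i ∈ K i) ∨ (∃ (k : ℕ) (c : Fin m → Fin m), 2 ≤ k ∧ (∀ j : Fin m, Nat.card {i : Fin m // c i = j} = k ∨ Nat.card {i : Fin m // c i = j} = 0) ∧ ∀ n : N, (n : H) ∈ MulAction.stabilizer H a ↔ ∀ i j : Fin m, c i = c j → e n i = e n j)) := by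
  classical
  have hnt : Nontrivial α := by
    by_contra hnt
    rw [not_nontrivial_iff_subsingleton] at hnt
    apply hN
    rw [eq_bot_iff]
    intro n _
    rw [Subgroup.mem_bot]
    apply Subtype.ext
    ext x
    exact Subsingleton.elim _ _
  have hcoatom : IsCoatom (MulAction.stabilizer H a) :=
    MulAction.IsPreprimitive.isCoatom_stabilizer_of_isPreprimitive H a
  have hNK : ¬ N ≤ MulAction.stabilizer H a := by
    intro hle
    apply hN
    rw [eq_bot_iff]
    intro n hn
    rw [Subgroup.mem_bot]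
    apply Subtype.ext
    ext b
    obtain ⟨h, rfl⟩ := MulAction.exists_smul_eq H a b
    have h1 : h⁻¹ * n * h ∈ N := by
      have := (inferInstance : N.Normal).conj_mem n hn h⁻¹
      rwa [inv_inv] at this
    have h2 : (h⁻¹ * n * h) • a = a := MulAction.mem_stabilizer_iff.mp (hle h1)
    have h3 : n • (h • a) = h • ((h⁻¹ * n * h) • a) := by
      rw [← mul_smul, ← mul_smul]
      congr 1
      group
    have h4 : n • (h • a) = h • a := by rw [h3, h2]
    exact h4
  have hsup : N ⊔ MulAction.stabilizer H a = ⊤ := by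
    have hlt : MulAction.stabilizer H a < N ⊔ MulAction.stabilizer H a := by
      apply lt_of_le_of_ne le_sup_right
      intro h
      apply hNK
      rw [h]
      exact le_sup_left
    exact hcoatom.2 _ hlt
  have hnab' : ∃ x ∈ N, ∃ y ∈ N, x * y ≠ y * x := by
    by_contra h
    push Not at h
    apply hnab
    exact ⟨⟨fun x y => Subtype.ext (h x x.2 y y.2)⟩⟩
  exact Cfsg.Agent.Lib.Helper25.ONanScott.main N hN hmin hnab' (MulAction.stabilizer H a) hsup hNK
    (fun X hX hKX hinv => Cfsg.Agent.S0722.result H N hN hmin a X hX hKX hinv)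

end Cfsg.Agent.S0723
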