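import Cfsg.Statements.S0724
import Mathlib

set_option autoImplicit false
open Cfsg

namespace Cfsg.Agent.S0724

open Polynomial in
theorem result {α : Type*} [Fintype α] [DecidableEq α] (G : Subgroup (Equiv.Perm α)) (L : Finset ℕ) (hL : ∀ g ∈ G, g ≠ 1 → Nat.card (MulAction.fixedBy α g) ∈ L) : Nat.card G ∣ ∏ l ∈ L, (Fintype.card α - l) := by
  classical
  haveI : Fintype G := Fintype.ofFinite G
  -- number of fixed points
  let π : G → ℤ := fun g => (Nat.card (MulAction.fixedBy α (g : Equiv.Perm α)) : ℤ)
  -- Burnside on α^k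
  have hpow : ∀ k : ℕ, (Fintype.card G : ℤ) ∣ ∑ g : G, (π g) ^ k := by
    intro k
    have hB := MulAction.sum_card_fixedBy_eq_card_orbits_mul_card_group G (Fin k → α)
    have hfix : ∀ g : G, Fintype.card (MulAction.fixedBy (Fin k → α) g) = (Nat.card (MulAction.fixedBy α (g : Equiv.Perm α))) ^ k := by
      intro g
      rw [← Nat.card_eq_fintype_card]
      have e : MulAction.fixedBy (Fin k → α) g ≃ (Fin k → MulAction.fixedBy α (g : Equiv.Perm α)) :=
        { toFun := fun f i => ⟨f.1 i, by
            have := f.2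
            rw [MulAction.mem_fixedBy] at this ⊢
            exact congrFun this i⟩
          invFun := fun f => ⟨fun i => (f i).1, by
            rw [MulAction.mem_fixedBy]
            funext i
            exact (f i).2⟩
          left_inv := fun f => rfl
          right_inv := fun f => rfl }
      rw [Nat.card_congr e, Nat.card_pi]
      simp
    refine ⟨(Fintype.card (Quotient (MulAction.orbitRel G (Fin k → α))) : ℤ), ?_⟩
    have : (∑ g : G, (π g) ^ k) = ((∑ g : G, Fintype.card (MulAction.fixedBy (Fin k → α) g) : ℕ) : ℤ) := by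
      push_cast
      refine Finset.sum_congr rfl fun g _ => ?_
      rw [hfix g]; push_cast; rfl
    rw [this, hB]; push_cast; ring
  have hpoly : ∀ P : ℤ[X], (Fintype.card G : ℤ) ∣ ∑ g : G, P.eval (π g) := by
    intro P
    have : ∀ g : G, P.eval (π g) = ∑ k ∈ Finset.range (P.natDegree + 1), P.coeff k * (π g) ^ k := by
      intro g
      rw [Polynomial.eval_eq_sum_range]
    simp_rw [this]
    rw [Finset.sum_comm]
    apply Finset.dvd_sum
    intro k _
    rw [← Finset.mul_sum]
    exact Dvd.dvd.mul_left (hpow k) _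
  let P : ℤ[X] := ∏ l ∈ L, (X - C (l : ℤ))
  have hP := hpoly P
  have hPeval : ∀ x : ℤ, P.eval x = ∏ l ∈ L, (x - (l : ℤ)) := by
    intro x
    simp [P, Polynomial.eval_prod]
  have hzero : ∀ g : G, g ≠ 1 → P.eval (π g) = 0 := by
    intro g hg
    rw [hPeval]
    have hmem := hL g g.2 (fun h => hg (Subtype.ext h))
    exact Finset.prod_eq_zero hmem (by simp [π])
  have hsum : ∑ g : G, P.eval (π g) = P.eval (π 1) := by
    apply Finset.sum_eq_single
    · intro g _ hg; exact hzero g hg
    · intro h; exact absurd (Finset.mem_univ _) h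
  rw [hsum, hPeval] at hP
  have hπ1 : π 1 = (Fintype.card α : ℤ) := by
    simp only [π]
    congr 1
    rw [Nat.card_eq_fintype_card]
    have : MulAction.fixedBy α ((1 : G) : Equiv.Perm α) = Set.univ := by
      ext x; simp [MulAction.mem_fixedBy]
    simp [this]
  rw [hπ1] at hP
  rw [Nat.card_eq_fintype_card]
  by_cases hex : ∃ l ∈ L, Fintype.card α ≤ l
  · obtain ⟨l, hl, hle⟩ := hex
    rw [Finset.prod_eq_zero hl (Nat.sub_eq_zero_of_le hle)]
    exact dvd_zero _
  · push_neg at hex
    have : ((∏ l ∈ L, (Fintype.card α - l) : ℕ) : ℤ) = ∏ l ∈ L, ((Fintype.card α : ℤ) - (l : ℤ)) := by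
      push_cast
      refine Finset.prod_congr rfl fun l hl => ?_
      rw [Nat.cast_sub (hex l hl).le]
    rw [← this] at hP
    exact_mod_cast hP

end Cfsg.Agent.S0724
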