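import Cfsg.Statements.S0726
import Mathlib

set_option autoImplicit false
open Cfsg

namespace Cfsg.Agent.S0726

theorem result {G : Type*} [Group G] : Subgroup.centralizer ((MulAction.toPermHom G G).range : Set (Equiv.Perm G)) = (MulAction.toPermHom Gᵐᵒᵖ G).range ∧ ∀ H : Subgroup (Equiv.Perm G), H ≤ Subgroup.centralizer ((MulAction.toPermHom G G).range : Set (Equiv.Perm G)) → MulAction.IsPretransitive H G → H = (MulAction.toPermHom Gᵐᵒᵖ G).range := by
  have h1 : Subgroup.centralizer ((MulAction.toPermHom G G).range : Set (Equiv.Perm G)) = (MulAction.toPermHom Gᵐᵒᵖ G).range := by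
    ext c
    constructor
    · intro hc
      refine ⟨MulOpposite.op (c 1), ?_⟩
      ext x
      have := hc (MulAction.toPermHom G G x) ⟨x, rfl⟩
      have h2 := congrArg (fun f : Equiv.Perm G => f 1) this
      simp only [Equiv.Perm.coe_mul, Function.comp_apply, MulAction.toPermHom_apply,
        MulAction.toPerm_apply, smul_eq_mul, mul_one] at h2
      simp [h2]
    · rintro ⟨a, rfl⟩
      rintro _ ⟨g, rfl⟩
      ext x
      simp [mul_assoc]
  refine ⟨h1, ?_⟩
  intro H hH htr
  rw [h1] at hH
  apply le_antisymm hH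
  rintro _ ⟨a, rfl⟩
  obtain ⟨h, hh⟩ := htr.exists_smul_eq (1 : G) (MulOpposite.unop a)
  obtain ⟨b, hb⟩ := hH h.2
  have hh' : (h : Equiv.Perm G) 1 = MulOpposite.unop a := hh
  rw [← hb] at hh'
  simp only [MulAction.toPermHom_apply, MulAction.toPerm_apply, MulOpposite.smul_eq_mul_unop, one_mul] at hh'
  have : b = a := MulOpposite.unop_injective hh'
  rw [← this, hb]
  exact h.2

end Cfsg.Agent.S0726
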