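-- Statement S0727.
import Mathlib
import Cfsg.Statements.S0727
import Cfsg.Agent.Lib.Helper29.SharpThree
import Cfsg.Agent.Lib.Helper4.SharpTrans

set_option autoImplicit false
open Cfsg

namespace Cfsg.Agent.S0727

open Cfsg.Agent.Helper29.SharpThree

/-- the embedding of an ordered triple of distinct points -/
def tripleEmb {α : Type*} (a b c : α) (hab : a ≠ b) (hac : a ≠ c) (hbc : b ≠ c) : Fin 3 ↪ α :=
  ⟨![a, b, c], by
    intro i j h
    fin_cases i <;> fin_cases j <;>
      first
        | rfl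
        | (exfalso; revert h; simp [hab, hac, hbc, hab.symm, hac.symm, hbc.symm])⟩

/-- A sharply triply transitive permutation group of degree `2^f + 1` is isomorphic to the projective general linear group of degree 2 over the field with `2^f` elements. -/
theorem result {α : Type*} [Fintype α] [DecidableEq α] {f : ℕ} (hf : 1 ≤ f) (hα : Fintype.card α = 2 ^ f + 1) (G : Subgroup (Equiv.Perm α)) (h3 : MulAction.IsMultiplyPretransitive G α 3) (hsharp : ∀ x : Fin 3 ↪ α, MulAction.stabilizer G x = ⊥) : ∃ (F : Type) (_ : Field F) (_ : Fintype F), Fintype.card F = 2 ^ f ∧ Nonempty (G ≃* Matrix.ProjGenLinGroup (Fin 2) F) := by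
  classical
  have hT3 : T3 G α := by
    intro a b c a' b' c' hab hac hbc hab' hac' hbc'
    haveI := h3
    obtain ⟨g, hg⟩ := MulAction.exists_smul_eq G (tripleEmb a b c hab hac hbc)
      (tripleEmb a' b' c' hab' hac' hbc')
    refine ⟨g, ?_, ?_, ?_⟩
    · exact congrFun (congrArg (fun e : Fin 3 ↪ α => (e : Fin 3 → α)) hg) 0
    · exact congrFun (congrArg (fun e : Fin 3 ↪ α => (e : Fin 3 → α)) hg) 1
    · exact congrFun (congrArg (fun e : Fin 3 ↪ α => (e : Fin 3 → α)) hg) 2
  have hS3 : S3 G α := by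
    intro g a b c hab hac hbc ha hb hc
    have hmem : g ∈ MulAction.stabilizer G (tripleEmb a b c hab hac hbc) := by
      rw [MulAction.mem_stabilizer_iff]
      ext i
      fin_cases i
      · exact ha
      · exact hb
      · exact hc
    rw [hsharp] at hmem
    exact Subgroup.mem_bot.mp hmem
  have hcardα : Nat.card α = 2 ^ f + 1 := by
    rw [Nat.card_eq_fintype_card]
    exact hα
  have hpos : 1 ≤ 2 ^ f := Nat.one_le_two_pow
  have h2f : 2 ≤ 2 ^ f := by
    calc 2 = 2 ^ 1 := by norm_num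
      _ ≤ 2 ^ f := Nat.pow_le_pow_right (by norm_num) hf
  have hG : Nat.card G = (Nat.card α).descFactorial 3 :=
    Cfsg.Agent.Helper4.SharpTrans.card_eq ⟨h3, hsharp⟩ (by rw [hcardα]; omega)
  have hcard : 2 ^ f * ((2 ^ f) ^ 2 - 1) ≤ Nat.card G := by
    rw [hG, hcardα]
    obtain ⟨m, hm⟩ : ∃ m, 2 ^ f = m + 1 := ⟨2 ^ f - 1, by omega⟩
    rw [hm]
    have e1 : (m + 1) ^ 2 - 1 = m * (m + 2) := by
      have h1 : (m + 1) ^ 2 = m * (m + 2) + 1 := by ring
      rw [h1, Nat.add_sub_cancel]
    have e2 : (m + 1 + 1).descFactorial 3 = (m + 1 + 1) * ((m + 1) * m) := by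
      rw [Nat.succ_descFactorial_succ, Nat.succ_descFactorial_succ, Nat.descFactorial_one]
    rw [e1, e2]
    exact le_of_eq (by ring)
  haveI : Fact (Nat.Prime 2) := ⟨Nat.prime_two⟩
  letI : Fintype (GaloisField 2 f) := Fintype.ofFinite _
  have hF : Fintype.card (GaloisField 2 f) = 2 ^ f := by
    rw [← Nat.card_eq_fintype_card]
    exact GaloisField.card 2 f (by omega)
  obtain ⟨e⟩ := main (G := G) (Ω := α) f hcardα hf hT3 hS3 hcard hF
  refine ⟨GaloisField 2 f, inferInstance, inferInstance, hF, ?_⟩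
  have hbij : Function.Bijective
      (Matrix.ProjectiveSpecialLinearGroup.toPGL (n := Fin 2) (R := GaloisField 2 f)) := by
    refine ⟨Matrix.ProjectiveSpecialLinearGroup.toPGL_injective,
      Matrix.ProjectiveSpecialLinearGroup.toPGL_surj_of_roots ?_⟩
    intro r
    obtain ⟨s, hs⟩ := FiniteField.isSquare_of_char_two (ringChar.eq (GaloisField 2 f) 2)
      (r : GaloisField 2 f)
    have hs0 : s ≠ 0 := by
      rintro rfl
      rw [mul_zero] at hs
      exact r.ne_zero hs
    refine ⟨Units.mk0 s hs0, ?_⟩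
    apply Units.ext
    rw [Fintype.card_fin, Units.val_pow_eq_pow_val, Units.val_mk0, pow_two]
    exact hs.symm
  exact ⟨e.trans (MulEquiv.ofBijective _ hbij)⟩

end Cfsg.Agent.S0727
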