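import Mathlib
import Cfsg.Statements.S0730
import Cfsg.Agent.Lib.Helper3.S3QB
import Cfsg.Agent.Lib.Helper3.S3QC
import Cfsg.Agent.Lib.Helper3.S3QD

set_option autoImplicit false
open Cfsg

namespace Cfsg.Agent.S0730

open Cfsg.Agent.Lib.Helper3.S3Q Cfsg.Agent.Helper29.SharpThree

/-- an embedding of `Fin 3` from three distinct points -/
def tripleEmb' {α : Type*} (a b c : α) (hab : a ≠ b) (hac : a ≠ c) (hbc : b ≠ c) : Fin 3 ↪ α :=
  ⟨![a, b, c], by
    intro i j h
    fin_cases i <;> fin_cases j <;> simp_all⟩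

/-- A sharply triply transitive group of degree `p^f + 1`, `p` an odd prime and `f` odd, is isomorphic to the projective general linear group of degree 2 over the field with `p^f` elements (for even `f` there is a second, twisted, group). -/
theorem result {α : Type*} [Fintype α] [DecidableEq α] {p f : ℕ} (hp : p.Prime) (hp2 : p ≠ 2) (hfo : Odd f) (hα : Fintype.card α = p ^ f + 1) (G : Subgroup (Equiv.Perm α)) (h3 : MulAction.IsMultiplyPretransitive G α 3) (hsharp : ∀ x : Fin 3 ↪ α, MulAction.stabilizer G x = ⊥) : ∃ (F : Type) (_ : Field F) (_ : Fintype F), Fintype.card F = p ^ f ∧ Nonempty (G ≃* Matrix.ProjGenLinGroup (Fin 2) F) := by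
  classical
  haveI : Fact p.Prime := ⟨hp⟩
  have hp3 : 3 ≤ p := by
    have := hp.two_le
    omega
  have hf1 : 1 ≤ f := by
    obtain ⟨j, hj⟩ := hfo
    omega
  have hq3 : 3 ≤ p ^ f := by
    calc 3 ≤ p := hp3
      _ = p ^ 1 := (pow_one p).symm
      _ ≤ p ^ f := Nat.pow_le_pow_right (by omega) hf1
  have hcardα : Nat.card α = p ^ f + 1 := by
    rw [Nat.card_eq_fintype_card]
    exact hα
  have hT3 : T3 G α := by
    intro a b c a' b' c' hab hac hbc hab' hac' hbc'
    haveI := h3
    obtain ⟨g, hg⟩ := MulAction.exists_smul_eq G (tripleEmb' a b c hab hac hbc)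
      (tripleEmb' a' b' c' hab' hac' hbc')
    refine ⟨g, ?_, ?_, ?_⟩
    · exact congrFun (congrArg (fun e : Fin 3 ↪ α => (e : Fin 3 → α)) hg) 0
    · exact congrFun (congrArg (fun e : Fin 3 ↪ α => (e : Fin 3 → α)) hg) 1
    · exact congrFun (congrArg (fun e : Fin 3 ↪ α => (e : Fin 3 → α)) hg) 2
  have hS3 : S3 G α := by
    intro g a b c hab hac hbc ha hb hc
    have hmem : g ∈ MulAction.stabilizer G (tripleEmb' a b c hab hac hbc) := by
      rw [MulAction.mem_stabilizer_iff]
      ext i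
      fin_cases i
      · exact ha
      · exact hb
      · exact hc
    rw [hsharp] at hmem
    exact Subgroup.mem_bot.mp hmem
  have hcG : Nat.card G = (p ^ f + 1) * (p ^ f) * (p ^ f - 1) := by
    have hc := Cfsg.Agent.Helper4.SharpTrans.card_eq ⟨h3, hsharp⟩ (by rw [hcardα]; omega)
    rw [hcardα] at hc
    obtain ⟨m, hm⟩ : ∃ m, p ^ f = m + 1 := ⟨p ^ f - 1, by omega⟩
    rw [hm] at hc ⊢
    rw [Nat.succ_descFactorial_succ, Nat.succ_descFactorial_succ, Nat.descFactorial_one] at hc
    rw [hc, Nat.add_sub_cancel]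
    ring
  by_cases hq : p ^ f = 3
  · -- the symmetric group of degree 4
    have hp3' : p = 3 := by
      have h1 : p ∣ 3 := by
        rw [← hq]
        exact dvd_pow_self p (by omega)
      exact (Nat.prime_dvd_prime_iff_eq hp Nat.prime_three).1 h1
    subst hp3'
    refine ⟨ZMod 3, inferInstance, inferInstance, by rw [ZMod.card, hq], ?_⟩
    apply pgl_three (by rw [hα, hq]) G
    rw [hcG, hq]
  · have hq5 : 5 ≤ p ^ f := by
      have hodd : Odd (p ^ f) := (hp.odd_of_ne_two hp2).pow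
      obtain ⟨j, hj⟩ := hodd
      omega
    have H : Hyp3 G α (p ^ f) := ⟨hT3, hS3, hcardα, hq3⟩
    obtain ⟨N₁, hN₁n, F, iF, iFT, hcF, ⟨e⟩, hidx, hcard, hcent⟩ :=
      H.exists_psl hp hp2 rfl hq5 h3 hsharp
    haveI := hN₁n
    refine ⟨F, iF, iFT, hcF, ?_⟩
    exact pgl_of_normal_psl_odd hfo hcF N₁ e hcent hidx (by rw [hcF]; exact hcard)

end Cfsg.Agent.S0730
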