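import Cfsg.Statements.S0733
import Mathlib

set_option autoImplicit false
open Cfsg

namespace Cfsg.Agent.S0733

open scoped Pointwise

theorem result {p : ℕ} [Fact p.Prime] {V : Type*} [AddCommGroup V] [Module (ZMod p) V] [Finite V] [Nontrivial V] (G₀ : Subgroup (V ≃ₗ[ZMod p] V)) (G : Subgroup (Equiv.Perm V)) (hG : ∀ σ : Equiv.Perm V, σ ∈ G ↔ ∃ g ∈ G₀, ∃ b : V, ∀ x : V, σ x = (g : V ≃ₗ[ZMod p] V) x + b) : MulAction.IsPreprimitive G V ↔ ∀ W : Submodule (ZMod p) V, (∀ g ∈ G₀, ∀ v ∈ W, (g : V ≃ₗ[ZMod p] V) v ∈ W) → W = ⊥ ∨ W = ⊤ := by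
  -- translations
  have htrans : ∀ b : V, Equiv.addRight b ∈ G := by
    intro b
    rw [hG]
    exact ⟨1, G₀.one_mem, b, fun x => by simp⟩
  have hlin : ∀ g ∈ G₀, (g : V ≃ₗ[ZMod p] V).toEquiv ∈ G := by
    intro g hg
    rw [hG]
    exact ⟨g, hg, 0, fun x => by simp⟩
  have hpre : MulAction.IsPretransitive G V := by
    refine ⟨fun x y => ⟨⟨Equiv.addRight (y - x), htrans _⟩, ?_⟩⟩
    change Equiv.addRight (y - x) x = y
    simp
  constructor
  · intro hprim W hW
    have hblock : MulAction.IsBlock G (W : Set V) := by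
      rw [MulAction.isBlock_iff_smul_eq_of_nonempty]
      rintro ⟨σ, hσ⟩ hne
      obtain ⟨g, hg, b, hgb⟩ := (hG σ).mp hσ
      obtain ⟨y, ⟨w, hw, rfl⟩, hy⟩ := hne
      have hy' : σ w ∈ W := hy
      rw [hgb] at hy'
      have hbW : b ∈ W := by
        have := W.sub_mem hy' (hW g hg w hw)
        simpa using this
      ext z
      constructor
      · rintro ⟨w', hw', rfl⟩
        change σ w' ∈ W
        rw [hgb]
        exact W.add_mem (hW g hg w' hw') hbW
      · intro hz
        refine ⟨(g⁻¹ : V ≃ₗ[ZMod p] V) (z - b), ?_, ?_⟩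
        · exact hW g⁻¹ (G₀.inv_mem hg) _ (W.sub_mem hz hbW)
        · change σ _ = z
          rw [hgb]
          have : g ((g⁻¹ : V ≃ₗ[ZMod p] V) (z - b)) = z - b := by
            change (g * g⁻¹) (z - b) = z - b
            simp
          rw [this]; simp
    rcases hprim.isTrivialBlock_of_isBlock hblock with hs | hu
    · left
      rw [eq_bot_iff]
      intro w hw
      rw [Submodule.mem_bot]
      exact hs hw W.zero_mem
    · right
      rw [eq_top_iff]
      intro w _
      have : w ∈ (W : Set V) := by rw [hu]; trivial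
      exact this
  · intro hirr
    apply MulAction.IsPreprimitive.of_isTrivialBlock_base (0 : V)
    intro B h0 hB
    rw [MulAction.isBlock_iff_smul_eq_of_nonempty] at hB
    have hadd : ∀ a ∈ B, ∀ b ∈ B, a + b ∈ B := by
      intro a ha b hb
      have h1 : ((⟨Equiv.addRight b, htrans b⟩ : G) • B) = B := by
        apply hB
        refine ⟨b, ⟨0, h0, ?_⟩, hb⟩
        change Equiv.addRight b 0 = b
        simp
      rw [← h1]
      exact ⟨a, ha, rfl⟩
    have hnsmul : ∀ n : ℕ, ∀ a ∈ B, n • a ∈ B := by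
      intro n a ha
      induction n with
      | zero => simpa using h0
      | succ n ih => rw [succ_nsmul]; exact hadd _ ih _ ha
    let W : Submodule (ZMod p) V :=
      { carrier := B
        add_mem' := fun {a b} ha hb => hadd a ha b hb
        zero_mem' := h0
        smul_mem' := by
          intro c x hx
          have : c • x = c.val • x := by
            rw [← Nat.cast_smul_eq_nsmul (ZMod p) c.val x, ZMod.natCast_zmod_val]
          rw [this]
          exact hnsmul _ x hx }
    have hWinv : ∀ g ∈ G₀, ∀ v ∈ W, (g : V ≃ₗ[ZMod p] V) v ∈ W := by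
      intro g hg v hv
      have h1 : ((⟨(g : V ≃ₗ[ZMod p] V).toEquiv, hlin g hg⟩ : G) • B) = B := by
        apply hB
        refine ⟨0, ⟨0, h0, ?_⟩, h0⟩
        change (g : V ≃ₗ[ZMod p] V).toEquiv 0 = 0
        simp
      change g v ∈ B
      rw [← h1]
      exact ⟨v, hv, rfl⟩
    rcases hirr W hWinv with hbot | htop
    · left
      intro x hx y hy
      have hx' : x ∈ W := hx
      have hy' : y ∈ W := hy
      rw [hbot, Submodule.mem_bot] at hx' hy'
      rw [hx', hy']
    · right
      rw [Set.eq_univ_iff_forall]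
      intro x
      have : x ∈ W := by rw [htop]; trivial
      exact this

end Cfsg.Agent.S0733
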