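import Cfsg.Statements.S0734
import Mathlib

set_option autoImplicit false
open Cfsg

namespace Cfsg.Agent.S0734

open scoped Pointwise

theorem result {G : Type*} [Group G] {Ω : Type*} [Finite Ω] [MulAction G Ω] [MulAction.IsPretransitive G Ω] [Nontrivial Ω] : MulAction.IsPreprimitive G Ω ↔ ∀ a b : Ω, a ≠ b → (SimpleGraph.fromRel fun x y : Ω => ∃ g : G, g • a = x ∧ g • b = y).Connected := by
  constructor
  · intro hprim a b hab
    set Γ := (SimpleGraph.fromRel fun x y : Ω => ∃ g : G, g • a = x ∧ g • b = y) with hΓ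
    -- G acts by graph homs
    have hadj : ∀ (h : G) (x y : Ω), Γ.Adj x y → Γ.Adj (h • x) (h • y) := by
      intro h x y hxy
      rw [hΓ, SimpleGraph.fromRel_adj] at hxy ⊢
      obtain ⟨hne, hr⟩ := hxy
      refine ⟨fun heq => hne (MulAction.injective h heq), ?_⟩
      rcases hr with ⟨g, h1, h2⟩ | ⟨g, h1, h2⟩
      · left; exact ⟨h * g, by rw [mul_smul, h1], by rw [mul_smul, h2]⟩
      · right; exact ⟨h * g, by rw [mul_smul, h1], by rw [mul_smul, h2]⟩
    let φ : G → (Γ →g Γ) := fun h => ⟨fun x => h • x, fun {x y} hxy => hadj h x y hxy⟩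
    have hreach : ∀ (h : G) (x y : Ω), Γ.Reachable x y → Γ.Reachable (h • x) (h • y) := by
      intro h x y hxy
      exact hxy.map (φ h)
    let B : Set Ω := {x | Γ.Reachable a x}
    have hBblock : MulAction.IsBlock G B := by
      rw [MulAction.isBlock_iff_smul_eq_of_nonempty]
      intro g hne
      obtain ⟨y, ⟨x, hx, rfl⟩, hy⟩ := hne
      have hx' : Γ.Reachable a x := hx
      have hy' : Γ.Reachable a (g • x) := hy
      have haga : Γ.Reachable a (g • a) := hy'.trans (hreach g a x hx').symm
      ext z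
      constructor
      · rintro ⟨w, hw, rfl⟩
        have hw' : Γ.Reachable a w := hw
        exact haga.trans (hreach g a w hw')
      · intro hz
        have hz' : Γ.Reachable a z := hz
        refine ⟨g⁻¹ • z, ?_, by simp⟩
        change Γ.Reachable a (g⁻¹ • z)
        have h1 := hreach g⁻¹ (g • a) z (haga.symm.trans hz')
        rw [inv_smul_smul] at h1
        exact h1
    have hab' : Γ.Adj a b := by
      rw [hΓ, SimpleGraph.fromRel_adj]
      exact ⟨hab, Or.inl ⟨1, by simp, by simp⟩⟩
    have haB : a ∈ B := SimpleGraph.Reachable.refl a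
    have hbB : b ∈ B := hab'.reachable
    have hBuniv : B = Set.univ := by
      rcases hprim.isTrivialBlock_of_isBlock hBblock with hs | hu
      · exact absurd (hs haB hbB) hab
      · exact hu
    rw [SimpleGraph.connected_iff]
    refine ⟨?_, ⟨a⟩⟩
    intro x y
    have hx : x ∈ B := by rw [hBuniv]; trivial
    have hy : y ∈ B := by rw [hBuniv]; trivial
    exact (SimpleGraph.Reachable.symm hx).trans hy
  · intro hconn
    refine ⟨?_⟩
    intro B hB
    by_contra hnt
    unfold MulAction.IsTrivialBlock at hnt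
    push Not at hnt
    obtain ⟨hns, hnu⟩ := hnt
    obtain ⟨a, ha, b, hb, hab⟩ := hns
    have hc := hconn a b hab
    set Γ := (SimpleGraph.fromRel fun x y : Ω => ∃ g : G, g • a = x ∧ g • b = y) with hΓ
    apply hnu
    rw [Set.eq_univ_iff_forall]
    intro z
    have hreach : Γ.Reachable a z := hc.preconnected a z
    -- edges stay in B
    have hstep : ∀ x y : Ω, Γ.Adj x y → x ∈ B → y ∈ B := by
      intro x y hxy hx
      rw [hΓ, SimpleGraph.fromRel_adj] at hxy
      obtain ⟨_, hr⟩ := hxy
      rcases hr with ⟨g, h1, h2⟩ | ⟨g, h1, h2⟩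
      · have hxg : x ∈ g • B := ⟨a, ha, h1⟩
        have : g • B = B := by
          rw [MulAction.isBlock_iff_smul_eq_of_nonempty] at hB
          exact hB ⟨x, hxg, hx⟩
        rw [← this]; exact ⟨b, hb, h2⟩
      · have hxg : x ∈ g • B := ⟨b, hb, h2⟩
        have : g • B = B := by
          rw [MulAction.isBlock_iff_smul_eq_of_nonempty] at hB
          exact hB ⟨x, hxg, hx⟩
        rw [← this]; exact ⟨a, ha, h1⟩
    have hwalk : ∀ (x y : Ω) (w : Γ.Walk x y), x ∈ B → y ∈ B := by
      intro x y w
      induction w with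
      | nil => exact id
      | cons hadj _ ih => exact fun hx => ih (hstep _ _ hadj hx)
    obtain ⟨w⟩ := hreach
    exact hwalk a z w ha

end Cfsg.Agent.S0734
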