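import Cfsg.Statements.S0735
import Mathlib

set_option autoImplicit false
open Cfsg

namespace Cfsg.Agent.S0735

open MulAction

open scoped Pointwise

theorem pair_move {α : Type*} [DecidableEq α] (G : Subgroup (Equiv.Perm α))
    (h2 : MulAction.IsPretransitive G (Set.powersetCard α 2)) {a b c d : α} (hab : a ≠ b) (hcd : c ≠ d) :
    ∃ g : G, (g • a = c ∧ g • b = d) ∨ (g • a = d ∧ g • b = c) := by
  obtain ⟨g, hg⟩ := h2.exists_smul_eq (Set.powersetCard.ofCard (Finset.card_pair hab))
    (Set.powersetCard.ofCard (Finset.card_pair hcd))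
  refine ⟨g, ?_⟩
  have hg0 : ((g : Equiv.Perm α) • (Set.powersetCard.ofCard (Finset.card_pair hab) : Set.powersetCard α 2))
      = Set.powersetCard.ofCard (Finset.card_pair hcd) := hg
  have hg' := congrArg Subtype.val hg0
  rw [Set.powersetCard.coe_smul] at hg'
  simp only [Set.powersetCard.val_ofCard] at hg'
  have ha : g • a ∈ ({c, d} : Finset α) := by
    rw [← hg']; exact Finset.smul_mem_smul_finset (a := (g : Equiv.Perm α)) (by simp)
  have hb : g • b ∈ ({c, d} : Finset α) := by
    rw [← hg']; exact Finset.smul_mem_smul_finset (a := (g : Equiv.Perm α)) (by simp)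
  have hne : g • a ≠ g • b := fun h => hab (MulAction.injective g h)
  simp only [Finset.mem_insert, Finset.mem_singleton] at ha hb
  rcases ha with ha | ha <;> rcases hb with hb | hb
  · exact absurd (ha.trans hb.symm) hne
  · exact Or.inl ⟨ha, hb⟩
  · exact Or.inr ⟨ha, hb⟩
  · exact absurd (ha.trans hb.symm) hne

theorem result {α : Type*} [Fintype α] [DecidableEq α] (G : Subgroup (Equiv.Perm α)) (h2 : MulAction.IsPretransitive G (Set.powersetCard α 2)) (hα : 3 ≤ Fintype.card α) : (Even (Nat.card G) → MulAction.IsMultiplyPretransitive G α 2) ∧ (G ≠ ⊥ → MulAction.IsPreprimitive G α) := by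
  constructor
  · intro heven
    -- an involution
    have h2dvd : 2 ∣ Nat.card G := heven.two_dvd
    obtain ⟨t, ht⟩ := exists_prime_orderOf_dvd_card' 2 h2dvd
    have ht1 : t ≠ 1 := by
      intro h; rw [h, orderOf_one] at ht; omega
    have htt : t * t = 1 := by
      rw [← pow_two, ← ht]; exact pow_orderOf_eq_one t
    -- t moves a point
    have : ∃ a : α, t • a ≠ a := by
      by_contra hne
      push Not at hne
      apply ht1
      apply Subtype.ext
      ext x
      exact hne x
    obtain ⟨a, ha⟩ := this
    set b := t • a with hb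
    have htb : t • b = a := by
      rw [hb, ← mul_smul, htt, one_smul]
    have hab : a ≠ b := fun h => ha h.symm
    -- every ordered pair is the image of (a, b)
    have key : ∀ c d : α, c ≠ d → ∃ g : G, g • a = c ∧ g • b = d := by
      intro c d hcd
      obtain ⟨g, hg | hg⟩ := pair_move G h2 hab hcd
      · exact ⟨g, hg⟩
      · refine ⟨g * t, ?_, ?_⟩
        · rw [mul_smul, ← hb]; exact hg.2
        · rw [mul_smul, htb]; exact hg.1
    rw [is_two_pretransitive_iff]
    intro c d c' d' hcd hcd'
    obtain ⟨g, hg1, hg2⟩ := key c d hcd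
    obtain ⟨g', hg1', hg2'⟩ := key c' d' hcd'
    refine ⟨g' * g⁻¹, ?_, ?_⟩
    · rw [mul_smul, ← hg1, inv_smul_smul, hg1']
    · rw [mul_smul, ← hg2, inv_smul_smul, hg2']
  · intro _
    -- third point
    have third : ∀ a b : α, ∃ c : α, c ≠ a ∧ c ≠ b := by
      intro a b
      by_contra hne
      push Not at hne
      have hsub : (Finset.univ : Finset α) ⊆ {a, b} := by
        intro c _
        by_cases hca : c = a
        · simp [hca]
        · simp [hne c hca]
      have := Finset.card_le_card hsub
      rw [Finset.card_univ] at this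
      have h2 : ({a, b} : Finset α).card ≤ 2 := Finset.card_le_two
      omega
    have htrans : IsPretransitive G α := by
      refine ⟨fun a b => ?_⟩
      by_cases hab : a = b
      · exact ⟨1, by simp [hab]⟩
      · obtain ⟨c, hca, hcb⟩ := third a b
        obtain ⟨g, hg | hg⟩ := pair_move G h2 (Ne.symm hca) (Ne.symm hcb)
        · exact ⟨g, hg.1⟩
        · refine ⟨g * g, ?_⟩
          rw [mul_smul, hg.1, hg.2]
    refine ⟨?_⟩
    intro B hB
    rcases B.subsingleton_or_nontrivial with h | h
    · left; exact h
    · right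
      obtain ⟨a, ha, b, hb, hab⟩ := h
      rw [Set.eq_univ_iff_forall]
      intro c
      by_cases hca : c = a
      · rw [hca]; exact ha
      · obtain ⟨g, hg | hg⟩ := pair_move G h2 hab (Ne.symm hca)
        · have hgB : g • B = B := by
            rw [MulAction.isBlock_iff_smul_eq_of_nonempty] at hB
            exact hB ⟨a, ⟨a, ha, hg.1⟩, ha⟩
          rw [← hgB, ← hg.2]; exact Set.smul_mem_smul_set hb
        · have hgB : g • B = B := by
            rw [MulAction.isBlock_iff_smul_eq_of_nonempty] at hB
            exact hB ⟨a, ⟨b, hb, hg.2⟩, ha⟩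
          rw [← hgB, ← hg.1]; exact Set.smul_mem_smul_set ha

end Cfsg.Agent.S0735
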