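import Mathlib
import Cfsg.Statements.S0736

set_option autoImplicit false
open Cfsg

namespace Cfsg.Agent.S0736

/-- `p` does not divide `C(k + p^a - 1, k)` when `p^a ∣ k` (Lucas). -/
theorem not_dvd_choose (p : ℕ) [hp : Fact p.Prime] :
    ∀ (a k : ℕ), p ^ a ∣ k → ¬ p ∣ Nat.choose (k + p ^ a - 1) k := by
  intro a
  induction a with
  | zero =>
    intro k _ h
    rw [pow_zero, Nat.add_sub_cancel, Nat.choose_self] at h
    exact hp.out.one_lt.ne' (Nat.dvd_one.mp h)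
  | succ a ih =>
    intro k hk h
    obtain ⟨k', rfl⟩ : p ∣ k := dvd_trans (dvd_pow_self p (Nat.succ_ne_zero a)) hk
    have hppos : 0 < p := hp.out.pos
    have hk' : p ^ a ∣ k' := by
      rw [pow_succ'] at hk
      exact Nat.dvd_of_mul_dvd_mul_left hppos hk
    have hpos : 0 < p ^ a := pow_pos hppos a
    obtain ⟨t, ht⟩ := Nat.exists_eq_succ_of_ne_zero hpos.ne'
    have hn : p * k' + p ^ (a + 1) - 1 = (p - 1) + p * (k' + t) := by
      rw [pow_succ', ht]
      have e1 : p * (t + 1) = p * t + p := by ring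
      have e2 : p * (k' + t) = p * k' + p * t := by ring
      rw [Nat.succ_eq_add_one, e1, e2]
      omega
    have hdm : (p * k' + p ^ (a + 1) - 1) / p = k' + t ∧
        (p * k' + p ^ (a + 1) - 1) % p = p - 1 := by
      rw [Nat.div_mod_unique hppos]
      exact ⟨hn.symm, by omega⟩
    have hl := Choose.choose_modEq_choose_mod_mul_choose_div_nat
      (n := p * k' + p ^ (a + 1) - 1) (k := p * k') (p := p)
    rw [hdm.1, hdm.2, Nat.mul_mod_right, Nat.mul_div_cancel_left k' hppos, Nat.choose_zero_right,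
      one_mul] at hl
    have h2 : p ∣ Nat.choose (k' + t) k' := (Nat.ModEq.dvd_iff hl (dvd_refl p)).mp h
    apply ih k' hk'
    have e3 : k' + p ^ a - 1 = k' + t := by rw [ht]; omega
    rw [e3]
    exact h2

/-- Number of `k`-subsets of `T` containing a given `(k-1)`-subset. -/
theorem card_supersets {α : Type*} [DecidableEq α] (T Δ : Finset α) (k : ℕ) (hk : 1 ≤ k)
    (hΔ : Δ.card = k - 1) (hsub : Δ ⊆ T) :
    ((T.powersetCard k).filter (fun Γ => Δ ⊆ Γ)).card = T.card - (k - 1) := by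
  have h1 : (T.powersetCard k).filter (fun Γ => Δ ⊆ Γ) =
      (T \ Δ).image (fun x => insert x Δ) := by
    ext Γ
    simp only [Finset.mem_filter, Finset.mem_powersetCard, Finset.mem_image, Finset.mem_sdiff]
    constructor
    · rintro ⟨⟨hΓT, hΓk⟩, hΔΓ⟩
      have hcard : (Γ \ Δ).card = 1 := by
        rw [Finset.card_sdiff_of_subset hΔΓ, hΓk, hΔ]
        omega
      obtain ⟨x, hx⟩ := Finset.card_eq_one.mp hcard
      have hxmem : x ∈ Γ \ Δ := by
        rw [hx]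
        exact Finset.mem_singleton_self x
      rw [Finset.mem_sdiff] at hxmem
      refine ⟨x, ⟨hΓT hxmem.1, hxmem.2⟩, ?_⟩
      rw [Finset.insert_eq, ← hx, Finset.sdiff_union_of_subset hΔΓ]
    · rintro ⟨x, ⟨hxT, hxΔ⟩, rfl⟩
      refine ⟨⟨Finset.insert_subset hxT hsub, ?_⟩, Finset.subset_insert x Δ⟩
      rw [Finset.card_insert_of_notMem hxΔ, hΔ]
      omega
  rw [h1, Finset.card_image_of_injOn, Finset.card_sdiff_of_subset hsub, hΔ]
  intro x hx y hy hxy
  simp only [Finset.coe_sdiff, Set.mem_sdiff, Finset.mem_coe] at hx hy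
  have hxy' : insert x Δ = insert y Δ := hxy
  have hmem : x ∈ insert y Δ := by
    rw [← hxy']
    exact Finset.mem_insert_self x Δ
  rcases Finset.mem_insert.mp hmem with h | h
  · exact h
  · exact absurd h hx.2

section

variable {α : Type*} [Fintype α] [DecidableEq α]

/-- Finset-level homogeneity. -/
def Homog (G : Subgroup (Equiv.Perm α)) (j : ℕ) : Prop :=
  ∀ s t : Finset α, s.card = j → t.card = j → ∃ g ∈ G, s.image (g : α → α) = t

theorem homog_of_pretrans (G : Subgroup (Equiv.Perm α)) (j : ℕ)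
    (h : MulAction.IsPretransitive G (Set.powersetCard α j)) : Homog G j := by
  intro s t hs ht
  obtain ⟨g, hg⟩ := h.exists_smul_eq
    (⟨s, Set.powersetCard.mem_iff.mpr hs⟩ : Set.powersetCard α j)
    ⟨t, Set.powersetCard.mem_iff.mpr ht⟩
  refine ⟨g.1, g.2, ?_⟩
  have h1 := congrArg Subtype.val hg
  exact h1

theorem pretrans_of_homog (G : Subgroup (Equiv.Perm α)) (j : ℕ) (h : Homog G j) :
    MulAction.IsPretransitive G (Set.powersetCard α j) := by
  refine ⟨fun x y => ?_⟩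
  obtain ⟨g, hg, hgxy⟩ := h x.1 y.1 (Set.powersetCard.mem_iff.mp x.2)
    (Set.powersetCard.mem_iff.mp y.2)
  refine ⟨⟨g, hg⟩, Subtype.ext ?_⟩
  exact hgxy

theorem homog_pred (G : Subgroup (Equiv.Perm α)) {k : ℕ} (hk : 2 ≤ k) (hG : Homog G k)
    (hq : ∀ q : ℕ, IsPrimePow q → q ∣ k → k + q - 1 ≤ Fintype.card α) : Homog G (k - 1) := by
  classical
  intro Δ₀ Δ₁ hΔ₀ hΔ₁
  obtain ⟨p₀, hp₀, hp₀k⟩ := Nat.exists_prime_and_dvd (show k ≠ 1 by omega)
  have hn : k + 1 ≤ Fintype.card α := by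
    have h1 := hq p₀ hp₀.isPrimePow hp₀k
    have h2 := hp₀.two_le
    omega
  obtain ⟨Orb, memOrb⟩ : ∃ Orb : Finset (Finset α),
      ∀ Δ, Δ ∈ Orb ↔ ∃ g ∈ G, Δ₀.image (g : α → α) = Δ :=
    ⟨Finset.univ.filter (fun Δ => ∃ g ∈ G, Δ₀.image (g : α → α) = Δ), fun Δ => by simp⟩
  have cardOrb : ∀ Δ ∈ Orb, Δ.card = k - 1 := by
    intro Δ hΔ
    obtain ⟨g, _, rfl⟩ := (memOrb Δ).mp hΔ
    rw [Finset.card_image_of_injective _ g.injective, hΔ₀]
  have invOrb : ∀ h ∈ G, ∀ Δ ∈ Orb, Δ.image (h : α → α) ∈ Orb := by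
    intro h hh Δ hΔ
    obtain ⟨g, hg, rfl⟩ := (memOrb Δ).mp hΔ
    rw [memOrb]
    exact ⟨h * g, G.mul_mem hh hg, by rw [Finset.image_image]; rfl⟩
  obtain ⟨m, hm⟩ : ∃ m : Finset α → ℕ, ∀ Γ, m Γ = (Orb.filter (fun Δ => Δ ⊆ Γ)).card :=
    ⟨fun Γ => (Orb.filter (fun Δ => Δ ⊆ Γ)).card, fun Γ => rfl⟩
  have m_le : ∀ h ∈ G, ∀ Γ, m Γ ≤ m (Γ.image (h : α → α)) := by
    intro h hh Γ
    rw [hm, hm]
    apply Finset.card_le_card_of_injOn (fun Δ => Δ.image (h : α → α))
    · intro Δ hΔ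
      have hΔ' : Δ ∈ Orb.filter (fun Δ => Δ ⊆ Γ) := hΔ
      rw [Finset.mem_filter] at hΔ'
      show Δ.image (h : α → α) ∈ Orb.filter (fun Δ => Δ ⊆ Γ.image (h : α → α))
      rw [Finset.mem_filter]
      exact ⟨invOrb h hh Δ hΔ'.1, Finset.image_subset_image hΔ'.2⟩
    · intro Δ _ Δ' _ hΔΔ'
      exact Finset.image_injective h.injective hΔΔ'
  have m_eq : ∀ Γ Γ' : Finset α, Γ.card = k → Γ'.card = k → m Γ = m Γ' := by
    intro Γ Γ' h1 h2
    obtain ⟨g, hg, hgΓ⟩ := hG Γ Γ' h1 h2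
    obtain ⟨g', hg', hgΓ'⟩ := hG Γ' Γ h2 h1
    apply le_antisymm
    · have h3 := m_le g hg Γ
      rwa [hgΓ] at h3
    · have h3 := m_le g' hg' Γ'
      rwa [hgΓ'] at h3
  -- a `k`-set containing `Δ₀`
  obtain ⟨Γ₀, hΔ₀Γ₀, -, hΓ₀⟩ := Finset.exists_subsuperset_card_eq (Finset.subset_univ Δ₀)
    (show Δ₀.card ≤ k by omega) (show k ≤ (Finset.univ : Finset α).card by
      rw [Finset.card_univ]; omega)
  have hm0 : 1 ≤ m Γ₀ := by
    rw [hm]
    apply Finset.card_pos.mpr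
    refine ⟨Δ₀, Finset.mem_filter.mpr ⟨(memOrb Δ₀).mpr ⟨1, G.one_mem, ?_⟩, hΔ₀Γ₀⟩⟩
    rw [Equiv.Perm.coe_one, Finset.image_id]
  -- the members of `Orb` inside a `k`-set
  have hsubF : ∀ Γ : Finset α, Orb.filter (fun Δ => Δ ⊆ Γ) ⊆ Γ.powersetCard (k - 1) := by
    intro Γ Δ hΔ
    rw [Finset.mem_filter] at hΔ
    exact Finset.mem_powersetCard.mpr ⟨hΔ.2, cardOrb Δ hΔ.1⟩
  have hmk : m Γ₀ ≤ k := by
    rw [hm]
    have h1 := Finset.card_le_card (hsubF Γ₀)
    rw [Finset.card_powersetCard, hΓ₀] at h1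
    have h2 : Nat.choose k (k - 1) = k := by
      rw [Nat.choose_symm (by omega : 1 ≤ k), Nat.choose_one_right]
    rw [h2] at h1
    exact h1
  -- key divisibility
  have key : ∀ q : ℕ, 1 ≤ q → k + q - 1 ≤ Fintype.card α →
      q ∣ Nat.choose (k + q - 1) k * m Γ₀ := by
    intro q hq1 hqn
    obtain ⟨T, -, hT⟩ := Finset.exists_subset_card_eq
      (show k + q - 1 ≤ (Finset.univ : Finset α).card by rw [Finset.card_univ]; exact hqn)
    have h1 : ∑ Γ ∈ T.powersetCard k, m Γ = Nat.choose (k + q - 1) k * m Γ₀ := by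
      rw [Finset.sum_congr rfl
        (fun Γ hΓ => m_eq Γ Γ₀ (Finset.mem_powersetCard.mp hΓ).2 hΓ₀),
        Finset.sum_const, Finset.card_powersetCard, hT, smul_eq_mul]
    rw [← h1]
    have h2 := Finset.sum_card_bipartiteAbove_eq_sum_card_bipartiteBelow
      (s := T.powersetCard k) (t := Orb) (fun Γ Δ => Δ ⊆ Γ)
    have h3 : ∑ Γ ∈ T.powersetCard k, m Γ =
        ∑ Δ ∈ Orb, ((T.powersetCard k).filter (fun Γ => Δ ⊆ Γ)).card := by
      rw [Finset.sum_congr rfl (fun Γ _ => hm Γ)]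
      exact h2
    rw [h3]
    apply Finset.dvd_sum
    intro Δ hΔ
    by_cases hsub : Δ ⊆ T
    · rw [card_supersets T Δ k (by omega) (cardOrb Δ hΔ) hsub, hT]
      have e : k + q - 1 - (k - 1) = q := by omega
      rw [e]
    · have h4 : (T.powersetCard k).filter (fun Γ => Δ ⊆ Γ) = ∅ := by
        rw [Finset.filter_eq_empty_iff]
        intro Γ hΓ hΔΓ
        exact hsub (hΔΓ.trans (Finset.mem_powersetCard.mp hΓ).1)
      rw [h4, Finset.card_empty]
      exact dvd_zero q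
  -- `k ∣ m Γ₀`
  have hkm : k ∣ m Γ₀ := by
    have hk0 : k ≠ 0 := by omega
    have hm0' : m Γ₀ ≠ 0 := by omega
    rw [← Nat.factorization_prime_le_iff_dvd hk0 hm0']
    intro p hp
    by_cases hpk : p ∣ k
    · have hfac : 1 ≤ k.factorization p :=
        (hp.dvd_iff_one_le_factorization hk0).mp hpk
      have hqdvd : p ^ k.factorization p ∣ k := Nat.ordProj_dvd k p
      have hqpp : IsPrimePow (p ^ k.factorization p) :=
        hp.isPrimePow.pow (by omega)
      have hqn := hq _ hqpp hqdvd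
      have h1 := key (p ^ k.factorization p) (Nat.one_le_pow _ _ hp.pos) hqn
      have : Fact p.Prime := ⟨hp⟩
      have hcop : Nat.Coprime (p ^ k.factorization p)
          (Nat.choose (k + p ^ k.factorization p - 1) k) := by
        apply Nat.Coprime.pow_left
        rw [Nat.Prime.coprime_iff_not_dvd hp]
        exact not_dvd_choose p _ k hqdvd
      have h2 : p ^ k.factorization p ∣ m Γ₀ := hcop.dvd_of_dvd_mul_left h1
      exact (hp.pow_dvd_iff_le_factorization hm0').mp h2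
    · rw [Nat.factorization_eq_zero_of_not_dvd hpk]
      exact Nat.zero_le _
  have hmeq : m Γ₀ = k := by
    obtain ⟨c, hc⟩ := hkm
    have hc1 : c = 1 := by
      have hc0 : c ≠ 0 := by
        rintro rfl
        omega
      by_contra hne
      have h2 : 2 ≤ c := by omega
      have h3 : k * 2 ≤ k * c := Nat.mul_le_mul_left k h2
      omega
    rw [hc, hc1, mul_one]
  -- conclude for `Δ₁`
  obtain ⟨Γ₁, hΔ₁Γ₁, -, hΓ₁⟩ := Finset.exists_subsuperset_card_eq (Finset.subset_univ Δ₁)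
    (show Δ₁.card ≤ k by omega) (show k ≤ (Finset.univ : Finset α).card by
      rw [Finset.card_univ]; omega)
  have hm1 : m Γ₁ = k := by rw [m_eq Γ₁ Γ₀ hΓ₁ hΓ₀, hmeq]
  have hfull : Orb.filter (fun Δ => Δ ⊆ Γ₁) = Γ₁.powersetCard (k - 1) := by
    apply Finset.eq_of_subset_of_card_le (hsubF Γ₁)
    rw [← hm, hm1, Finset.card_powersetCard, hΓ₁, Nat.choose_symm (by omega : 1 ≤ k),
      Nat.choose_one_right]
  have hΔ₁mem : Δ₁ ∈ Orb.filter (fun Δ => Δ ⊆ Γ₁) := by
    rw [hfull]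
    exact Finset.mem_powersetCard.mpr ⟨hΔ₁Γ₁, hΔ₁⟩
  exact (memOrb Δ₁).mp (Finset.mem_filter.mp hΔ₁mem).1

end

/-- A `k`-homogeneous permutation group of degree `n`, `k ≥ 2`, with `k + q - 1 ≤ n` for every prime power `q` dividing `k`, is `(k-1)`-homogeneous. -/
theorem result {α : Type*} [Fintype α] [DecidableEq α] (G : Subgroup (Equiv.Perm α)) {k : ℕ} (hk : 2 ≤ k) (hG : MulAction.IsPretransitive G (Set.powersetCard α k)) (hq : ∀ q : ℕ, IsPrimePow q → q ∣ k → k + q - 1 ≤ Fintype.card α) : MulAction.IsPretransitive G (Set.powersetCard α (k - 1)) := by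
  exact pretrans_of_homog G (k - 1) (homog_pred G hk (homog_of_pretrans G k hG) hq)

end Cfsg.Agent.S0736
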