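import Cfsg.Statements.S0740
import Mathlib

set_option autoImplicit false
open Cfsg

namespace Cfsg.Agent.S0740

open MulAction
open scoped Pointwise

section General

variable {G Ω : Type*} [Group G] [MulAction G Ω]

theorem fixedPoints_zpowers_eq (s : G) : fixedPoints (Subgroup.zpowers s) Ω = fixedBy Ω s := by
  ext x
  constructor
  · intro hx
    exact hx ⟨s, Subgroup.mem_zpowers s⟩
  · intro hx g
    have hs : s ∈ stabilizer G x := hx
    have hle : Subgroup.zpowers s ≤ stabilizer G x := by
      rw [Subgroup.zpowers_le]; exact hs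
    exact hle g.2

/-- parity of the number of fixed points of an involution -/
theorem card_fixedBy_modEq [Finite Ω] (s : G) (hs : orderOf s = 2) :
    Nat.card Ω ≡ Nat.card (fixedBy Ω s) [MOD 2] := by
  haveI : Fact (Nat.Prime 2) := ⟨Nat.prime_two⟩
  have hP : IsPGroup 2 (Subgroup.zpowers s) := by
    apply IsPGroup.of_card (n := 1)
    rw [Nat.card_zpowers, hs, pow_one]
  have := hP.card_modEq_card_fixedPoints Ω
  rw [fixedPoints_zpowers_eq] at this
  exact this

theorem card_fixedBy_le_two [Finite Ω]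
    (h3 : ∀ g : G, ∀ a b c : Ω, a ≠ b → b ≠ c → a ≠ c → g • a = a → g • b = b → g • c = c → g = 1)
    (s : G) (hs : s ≠ 1) : Nat.card (fixedBy Ω s) ≤ 2 := by
  classical
  by_contra hlt
  push Not at hlt
  rw [Nat.card_coe_set_eq, Set.ncard_eq_toFinset_card (fixedBy Ω s), Finset.two_lt_card] at hlt
  obtain ⟨a, ha, b, hb, c, hc, hab, hac, hbc⟩ := hlt
  simp only [Set.Finite.mem_toFinset] at ha hb hc
  exact hs (h3 s a b c hab hbc hac ha hb hc)

theorem card_fixedBy_conj (z h : G) : Nat.card (fixedBy Ω (h * z * h⁻¹)) = Nat.card (fixedBy Ω z) := by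
  rw [← smul_fixedBy, Nat.card_coe_set_eq, Nat.card_coe_set_eq, Set.ncard_smul_set]

end General

theorem result {G Ω : Type*} [Group G] [Finite G] [MulAction G Ω] [Fintype Ω] (hZ : Cfsg.IsZassenhausGroup G Ω) {a b : Ω} (hab : a ≠ b) : (∃ s : G, orderOf s = 2 ∧ s • a = b ∧ s • b = a) ∧ (∀ s : G, orderOf s = 2 → s • a = b → s • b = a → (Odd (Fintype.card Ω) → Nat.card (MulAction.fixedBy Ω s) = 1) ∧ (Even (Fintype.card Ω) → Nat.card (MulAction.fixedBy Ω s) = 0 ∨ Nat.card (MulAction.fixedBy Ω s) = 2)) ∧ (Even (Fintype.card Ω) → Even (Nat.card ↥(MulAction.stabilizer G a ⊓ MulAction.stabilizer G b)) → ∃ s : G, orderOf s = 2 ∧ s • a = b ∧ s • b = a ∧ Nat.card (MulAction.fixedBy Ω s) = 2) := by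
  obtain ⟨hfaith, h2t, h3, ⟨g₀, hg₀1, a₀, b₀, hab₀, hg₀a, hg₀b⟩, _⟩ := hZ
  rw [is_two_pretransitive_iff] at h2t
  haveI : Fact (Nat.Prime 2) := ⟨Nat.prime_two⟩
  -- an involution z moving c to d ≠ c can be conjugated to swap a and b
  have conj_swap : ∀ z : G, orderOf z = 2 → ∃ s : G, orderOf s = 2 ∧ s • a = b ∧ s • b = a ∧
      Nat.card (fixedBy Ω s) = Nat.card (fixedBy Ω z) := by
    intro z hz
    have hz1 : z ≠ 1 := by
      intro h; rw [h, orderOf_one] at hz; omega
    have hzz : z * z = 1 := by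
      rw [← pow_two, ← hz]; exact pow_orderOf_eq_one z
    have : ∃ c : Ω, z • c ≠ c := by
      by_contra hne
      push Not at hne
      apply hz1
      apply hfaith.eq_of_smul_eq_smul
      intro x
      rw [hne x, one_smul]
    obtain ⟨c, hc⟩ := this
    obtain ⟨h, hh1, hh2⟩ := h2t (Ne.symm hc) hab
    refine ⟨h * z * h⁻¹, ?_, ?_, ?_, card_fixedBy_conj z h⟩
    · rw [← hz]
      exact orderOf_injective (MulAut.conj h).toMonoidHom (MulAut.conj h).injective z
    · rw [mul_smul, mul_smul, ← hh1, inv_smul_smul, hh2]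
    · rw [mul_smul, mul_smul, ← hh2, inv_smul_smul, ← mul_smul z z, hzz, one_smul, hh1]
  refine ⟨?_, ?_, ?_⟩
  · -- G has even order
    obtain ⟨g, hga, hgb⟩ := h2t hab (Ne.symm hab)
    have hgeven : 2 ∣ orderOf g := by
      by_contra hodd
      have hodd' : Odd (orderOf g) := Nat.odd_iff.mpr (by omega)
      obtain ⟨k, hk⟩ := hodd'
      have h1 : g ^ (orderOf g) = 1 := pow_orderOf_eq_one g
      have hg2 : ∀ j : ℕ, (g ^ (2 * j)) • a = a ∧ (g ^ (2 * j)) • b = b := by
        intro j
        induction j with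
        | zero => simp
        | succ j ih =>
          rw [show 2 * (j + 1) = 2 * j + 1 + 1 by ring, pow_succ, pow_succ, mul_smul, mul_smul, mul_smul,
            mul_smul, hga, hgb, hga]
          exact ih
      have : g ^ (orderOf g) • a = b := by
        rw [hk, pow_succ, mul_smul, hga]
        exact (hg2 k).2
      rw [h1, one_smul] at this
      exact hab this
    have h2G : 2 ∣ Nat.card G := hgeven.trans (orderOf_dvd_natCard g)
    obtain ⟨z, hz⟩ := exists_prime_orderOf_dvd_card' 2 h2G
    obtain ⟨s, hs, hsa, hsb, _⟩ := conj_swap z hz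
    exact ⟨s, hs, hsa, hsb⟩
  · intro s hs hsa hsb
    have hs1 : s ≠ 1 := by
      intro h; rw [h, orderOf_one] at hs; omega
    have hle := card_fixedBy_le_two h3 s hs1
    have hmod := card_fixedBy_modEq (Ω := Ω) s hs
    rw [Nat.card_eq_fintype_card] at hmod
    unfold Nat.ModEq at hmod
    constructor
    · intro hodd
      have := Nat.odd_iff.mp hodd
      interval_cases (Nat.card (fixedBy Ω s)) <;> omega
    · intro heven
      have := Nat.even_iff.mp heven
      interval_cases (Nat.card (fixedBy Ω s)) <;> omega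
  · intro _ hHeven
    obtain ⟨z, hz⟩ := exists_prime_orderOf_dvd_card' 2 hHeven.two_dvd
    have hz' : orderOf (z : G) = 2 := by rw [Subgroup.orderOf_coe]; exact hz
    have hz1 : (z : G) ≠ 1 := by
      intro h; rw [h, orderOf_one] at hz'; omega
    have hza : (z : G) • a = a := z.2.1
    have hzb : (z : G) • b = b := z.2.2
    have hzfix : Nat.card (fixedBy Ω (z : G)) = 2 := by
      apply le_antisymm (card_fixedBy_le_two h3 _ hz1)
      classical
      rw [Nat.card_coe_set_eq, Set.ncard_eq_toFinset_card (fixedBy Ω (z : G))]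
      have hsub : ({a, b} : Finset Ω) ⊆ (Set.toFinite (fixedBy Ω (z : G))).toFinset := by
        intro x hx
        simp only [Finset.mem_insert, Finset.mem_singleton] at hx
        simp only [Set.Finite.mem_toFinset]
        rcases hx with rfl | rfl
        · exact hza
        · exact hzb
      have := Finset.card_le_card hsub
      rwa [Finset.card_pair hab] at this
    obtain ⟨s, hs, hsa, hsb, hcard⟩ := conj_swap (z : G) hz'
    exact ⟨s, hs, hsa, hsb, hcard.trans hzfix⟩

end Cfsg.Agent.S0740
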