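import Cfsg.Statements.S0743
import Mathlib

set_option autoImplicit false
open Cfsg

namespace Cfsg.Agent.S0743

open MulAction SubMulAction Subgroup

open scoped Pointwise

/-- Gleason's lemma, transitivity version. -/
theorem gleason_one {G α : Type*} [Group G] [MulAction G α] [Finite α] {p : ℕ} (hp : p.Prime)
    (h : ∀ a : α, ∃ P : Subgroup G, IsPGroup p P ∧ fixedPoints P α = {a}) :
    IsPretransitive G α := by
  haveI : Fact p.Prime := ⟨hp⟩
  -- key: for every a b, b ∈ orbit G a
  have key : ∀ a b : α, b ∈ orbit G a := by
    intro a b
    by_contra hb
    obtain ⟨Pa, hPa, hfa⟩ := h a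
    obtain ⟨Pb, hPb, hfb⟩ := h b
    -- Pa acts on orbit G a with exactly one fixed point
    have h1 : Nat.card (orbit G a) ≡ Nat.card (fixedPoints Pa (orbit G a)) [MOD p] :=
      hPa.card_modEq_card_fixedPoints (orbit G a)
    have h2 : Nat.card (orbit G a) ≡ Nat.card (fixedPoints Pb (orbit G a)) [MOD p] :=
      hPb.card_modEq_card_fixedPoints (orbit G a)
    have hca : Nat.card (fixedPoints Pa (orbit G a)) = 1 := by
      rw [Nat.card_eq_one_iff_unique]
      refine ⟨⟨?_⟩, ⟨⟨⟨a, mem_orbit_self a⟩, ?_⟩⟩⟩
      · rintro ⟨⟨x, hx⟩, hxf⟩ ⟨⟨y, hy⟩, hyf⟩
        have hx' : x ∈ fixedPoints Pa α := by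
          intro g
          have := hxf g
          exact congrArg Subtype.val this
        have hy' : y ∈ fixedPoints Pa α := by
          intro g
          have := hyf g
          exact congrArg Subtype.val this
        rw [hfa] at hx' hy'
        have hx'' : x = a := hx'
        have hy'' : y = a := hy'
        subst hx''; subst hy''; rfl
      · intro g
        apply Subtype.ext
        have : a ∈ fixedPoints Pa α := by rw [hfa]; rfl
        exact this g
    have hcb : Nat.card (fixedPoints Pb (orbit G a)) = 0 := by
      rw [Nat.card_eq_zero]
      left
      refine ⟨?_⟩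
      rintro ⟨⟨x, hx⟩, hxf⟩
      have hx' : x ∈ fixedPoints Pb α := by
        intro g
        have := hxf g
        exact congrArg Subtype.val this
      rw [hfb] at hx'
      have hx'' : x = b := hx'
      exact hb (hx'' ▸ hx)
    rw [hca] at h1
    rw [hcb] at h2
    have := h1.symm.trans h2
    have h3 : p ∣ 1 := (Nat.modEq_zero_iff_dvd.mp this)
    exact hp.one_lt.ne' (Nat.dvd_one.mp h3)
  exact ⟨fun a b => key a b⟩

theorem gleason {G α : Type*} [Group G] [MulAction G α] [Finite α] {p : ℕ} (hp : p.Prime)
    {k : ℕ} (hk : 1 ≤ k) (hkn : k < Nat.card α)
    (h : ∀ s : Set α, s.ncard = k → ∃ P : Subgroup G, IsPGroup p P ∧ fixedPoints P α = s) :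
    IsMultiplyPretransitive G α k := by
  induction k generalizing G α with
  | zero => omega
  | succ k ih =>
    rcases Nat.eq_zero_or_pos k with hk0 | hkpos
    · subst hk0
      rw [is_one_pretransitive_iff]
      apply gleason_one hp
      intro a
      exact h {a} (by simp)
    · -- stabilizers are k-transitive
      have hstab : ∀ a : α, IsMultiplyPretransitive (stabilizer G a) (ofStabilizer G a) k := by
        intro a
        apply ih hkpos
        · have := nat_card_ofStabilizer_add_one_eq (G := G) a
          omega
        · intro s' hs'
          have ha' : a ∉ Subtype.val '' s' := by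
            intro h; rw [Set.mem_image] at h; obtain ⟨x, hx⟩ := h
            apply x.prop; rw [hx.right]; exact Set.mem_singleton a
          have hcard : (insert a (Subtype.val '' s')).ncard = k + 1 := by
            rw [Set.ncard_insert_of_notMem ha', Set.ncard_image_of_injective _ Subtype.val_injective, hs']
          obtain ⟨P, hP, hfix⟩ := h _ hcard
          have hPle : P ≤ stabilizer G a := by
            intro g hg
            have : a ∈ fixedPoints P α := by rw [hfix]; exact Set.mem_insert _ _
            exact this ⟨g, hg⟩
          refine ⟨P.subgroupOf (stabilizer G a), hP.comap_subtype, ?_⟩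
          ext x
          constructor
          · intro hx
            have hx' : (x : α) ∈ fixedPoints P α := by
              intro g
              have := hx ⟨⟨g.1, hPle g.2⟩, by simp [mem_subgroupOf]⟩
              exact congrArg Subtype.val this
            rw [hfix] at hx'
            rcases hx' with hxa | ⟨y, hy, hyx⟩
            · exact absurd hxa x.prop
            · have : y = x := Subtype.ext hyx
              exact this ▸ hy
          · intro hx g
            apply Subtype.ext
            have hx' : (x : α) ∈ fixedPoints P α := by
              rw [hfix]; exact Set.mem_insert_of_mem _ ⟨x, hx, rfl⟩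
            have hg : (g : G) ∈ P := by
              have := g.2
              rw [mem_subgroupOf] at this
              exact this
            exact hx' ⟨(g : G), hg⟩
      -- G is transitive
      have htrans : IsPretransitive G α := by
        refine ⟨fun a b => ?_⟩
        by_cases hab : a = b
        · exact ⟨1, by simp [hab]⟩
        · -- a third point
          have hcard3 : 2 < Nat.card α := by omega
          have : ∃ c : α, c ≠ a ∧ c ≠ b := by
            by_contra hne
            push Not at hne
            have hsub : (Set.univ : Set α) ⊆ {a, b} := by
              intro c _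
              by_cases hca : c = a
              · simp [hca]
              · simp [hne c hca]
            have := Set.ncard_le_ncard hsub
            rw [Set.ncard_univ] at this
            have h2 : ({a, b} : Set α).ncard = 2 := Set.ncard_pair hab
            omega
          obtain ⟨c, hca, hcb⟩ := this
          have hc := hstab c
          have hc1 : IsMultiplyPretransitive (stabilizer G c) (ofStabilizer G c) 1 := by
            apply isMultiplyPretransitive_of_le (n := k) hkpos
            have := nat_card_ofStabilizer_add_one_eq (G := G) c
            omega
          rw [is_one_pretransitive_iff] at hc1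
          obtain ⟨g, hg⟩ := hc1.exists_smul_eq ⟨a, fun h => hca h.symm⟩ ⟨b, fun h => hcb h.symm⟩
          exact ⟨g.1, congrArg Subtype.val hg⟩
      obtain ⟨a⟩ : Nonempty α := by
        rw [← Finite.card_pos_iff]; omega
      exact (ofStabilizer.isMultiplyPretransitive (a := a)).mpr (hstab a)

theorem result {α : Type*} [Fintype α] [DecidableEq α] (G : Subgroup (Equiv.Perm α)) {p k : ℕ} (hp : p.Prime) (hk : 1 ≤ k) (hkn : k < Fintype.card α) (h : ∀ s : Finset α, s.card = k → ∃ P : Subgroup G, IsPGroup p P ∧ MulAction.fixedPoints P α = (s : Set α)) : MulAction.IsMultiplyPretransitive G α k := by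
  apply gleason hp hk
  · rw [Nat.card_eq_fintype_card]; exact hkn
  · intro s hs
    obtain ⟨P, hP, hfix⟩ := h s.toFinite.toFinset (by rw [← hs, Set.ncard_eq_toFinset_card s])
    exact ⟨P, hP, by rw [hfix]; simp⟩

end Cfsg.Agent.S0743
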