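import Cfsg.Statements.S0744
import Mathlib

set_option autoImplicit false
open Cfsg

namespace Cfsg.Agent.S0744

open MulAction SubMulAction Subgroup

open scoped Pointwise

/-- If all stabilizers have the same order `m`, then `|H|` divides `|X| * m`. -/
theorem card_dvd_of_stabilizers {H X : Type*} [Group H] [MulAction H X] [Finite H] [Finite X]
    (m : ℕ) (hm : ∀ x : X, Nat.card (stabilizer H x) = m) : Nat.card H ∣ Nat.card X * m := by
  classical
  cases nonempty_fintype H
  cases nonempty_fintype X
  have hcf := MulAction.card_eq_sum_card_group_div_card_stabilizer H X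
  have hterm : ∀ ω : Quotient (orbitRel H X),
      Fintype.card H / Fintype.card (stabilizer H ω.out) = Fintype.card H / m := by
    intro ω
    rw [← hm ω.out, Nat.card_eq_fintype_card]
  simp_rw [hterm] at hcf
  rw [Finset.sum_const, smul_eq_mul] at hcf
  rcases isEmpty_or_nonempty X with he | ⟨⟨x⟩⟩
  · simp
  · have hdvd : m ∣ Fintype.card H := by
      rw [← hm x, ← Nat.card_eq_fintype_card]
      exact Subgroup.card_subgroup_dvd_card _
    rw [Nat.card_eq_fintype_card, Nat.card_eq_fintype_card, hcf, mul_assoc, Nat.div_mul_cancel hdvd]
    exact Dvd.intro_left _ rfl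

/-- The sub-action of a subgroup on an invariant set. -/
def subAct {G α : Type*} [Group G] [MulAction G α] (H : Subgroup G) (Y : Set α)
    (hY : ∀ h ∈ H, ∀ y ∈ Y, h • y ∈ Y) : SubMulAction H α where
  carrier := Y
  smul_mem' := fun h _ hy => hY h.1 h.2 _ hy

theorem card_dvd_of_inf_stabilizers {G α : Type*} [Group G] [MulAction G α] [Finite G] [Finite α]
    (H : Subgroup G) (Y : Set α) (hY : ∀ h ∈ H, ∀ y ∈ Y, h • y ∈ Y) (m : ℕ)
    (hm : ∀ y ∈ Y, Nat.card (H ⊓ stabilizer G y : Subgroup G) = m) :
    Nat.card H ∣ Y.ncard * m := by
  have := card_dvd_of_stabilizers (H := H) (X := subAct H Y hY) m ?_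
  · rw [← Nat.card_coe_set_eq]
    exact this
  · rintro ⟨y, hy⟩
    rw [← hm y hy]
    refine Nat.card_congr ?_
    exact
      { toFun := fun h => ⟨h.1.1, Subgroup.mem_inf.mpr ⟨h.1.2, by
          rw [mem_stabilizer_iff]
          exact congrArg Subtype.val h.2⟩⟩
        invFun := fun g => ⟨⟨g.1, g.2.1⟩, by
          rw [mem_stabilizer_iff]
          apply Subtype.ext
          exact g.2.2⟩
        left_inv := fun h => rfl
        right_inv := fun g => rfl }

theorem base_case {G α : Type*} [Group G] [MulAction G α] [FaithfulSMul G α] [Finite α]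
    (l m : ℕ) (hl : 1 < l)
    (h1 : ∀ a : α, Nat.card (stabilizer G a) = l)
    (h2 : ∀ a b : α, a ≠ b → Nat.card (stabilizer G a ⊓ stabilizer G b : Subgroup G) = m) :
    IsPretransitive G α := by
  haveI : Finite G := by
    have : Function.Injective (MulAction.toPermHom G α) := MulAction.toPerm_injective
    exact Finite.of_injective _ this
  refine ⟨fun a b => ?_⟩
  by_contra hb
  have hb' : b ∉ orbit G a := hb
  -- orbits have the same cardinality
  have hNa : Nat.card (orbit G a) * l = Nat.card G := by
    rw [← h1 a, Nat.card_coe_set_eq, ← MulAction.index_stabilizer]; exact Subgroup.index_mul_card _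
  have hNb : Nat.card (orbit G b) * l = Nat.card G := by
    rw [← h1 b, Nat.card_coe_set_eq, ← MulAction.index_stabilizer]; exact Subgroup.index_mul_card _
  have hlpos : 0 < l := by omega
  have hN : Nat.card (orbit G a) = Nat.card (orbit G b) :=
    Nat.eq_of_mul_eq_mul_right hlpos (hNa.trans hNb.symm)
  have hab : a ≠ b := fun h => hb' (h ▸ mem_orbit_self a)
  -- H = stabilizer G a acts on orbit G b
  have hd1 : l ∣ (orbit G b).ncard * m := by
    rw [← h1 a]
    apply card_dvd_of_inf_stabilizers (stabilizer G a) (orbit G b)
    · intro h _ y hy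
      rw [← MulAction.orbit_eq_iff, MulAction.orbit_smul, MulAction.orbit_eq_iff]; exact hy
    · intro y hy
      apply h2
      intro hay
      apply hb'
      rw [hay]
      obtain ⟨g, rfl⟩ := hy
      exact ⟨g⁻¹, by simp⟩
  have hd2 : l ∣ ((orbit G a) \ {a}).ncard * m := by
    rw [← h1 a]
    apply card_dvd_of_inf_stabilizers (stabilizer G a) ((orbit G a) \ {a})
    · rintro h hh y ⟨hy, hya⟩
      refine ⟨?_, ?_⟩
      · rw [← MulAction.orbit_eq_iff, MulAction.orbit_smul, MulAction.orbit_eq_iff]; exact hy
      · intro hhy
        apply hya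
        have : h • y = a := hhy
        have h3 : h • a = a := hh
        rw [← h3] at this
        exact MulAction.injective h this
    · rintro y ⟨_, hya⟩
      exact h2 a y (fun h => hya h.symm)
  have hcard : ((orbit G a) \ {a}).ncard + 1 = (orbit G b).ncard := by
    rw [Set.ncard_diff_singleton_add_one (mem_orbit_self a)]
    rw [← Nat.card_coe_set_eq, ← Nat.card_coe_set_eq]
    exact hN
  have hlm : l ∣ m := by
    rw [← hcard, add_mul, one_mul] at hd1
    exact (Nat.dvd_add_right hd2).mp hd1
  -- m ≤ l since subgroup
  have hml : m ≤ l := by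
    rw [← h1 a, ← h2 a b hab]
    exact Subgroup.card_le_of_le inf_le_left
  have hmpos : 0 < m := by
    rw [← h2 a b hab]; exact Nat.card_pos
  have hlem : l = m := le_antisymm (Nat.le_of_dvd hmpos hlm) hml
  -- so the stabilizer of a fixes every point
  have hfix : ∀ x : α, stabilizer G a ≤ stabilizer G x := by
    intro x
    by_cases hax : a = x
    · rw [hax]
    · have hle : stabilizer G a ⊓ stabilizer G x ≤ stabilizer G a := inf_le_left
      have heq : stabilizer G a ⊓ stabilizer G x = stabilizer G a := by
        apply Subgroup.eq_of_le_of_card_ge hle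
        rw [h1 a, h2 a x hax, hlem]
      rw [← heq]; exact inf_le_right
  have hbot : stabilizer G a = ⊥ := by
    rw [eq_bot_iff]
    intro g hg
    rw [Subgroup.mem_bot]
    apply FaithfulSMul.eq_of_smul_eq_smul (α := α)
    intro x
    rw [one_smul]
    exact hfix x hg
  have := h1 a
  rw [hbot] at this
  simp at this
  omega

theorem main {G α : Type*} [Group G] [MulAction G α] [FaithfulSMul G α] [Finite α]
    {j : ℕ} (hj : 1 ≤ j) (hjn : j + 1 ≤ Nat.card α) (l m : ℕ) (hl : 1 < l)
    (h1 : ∀ s : Set α, s.ncard = j → Nat.card (fixingSubgroup G s) = l)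
    (h2 : ∀ s : Set α, s.ncard = j + 1 → Nat.card (fixingSubgroup G s) = m) :
    IsMultiplyPretransitive G α j := by
  induction j generalizing G α with
  | zero => omega
  | succ j ih =>
    rcases Nat.eq_zero_or_pos j with hj0 | hjpos
    · subst hj0
      rw [is_one_pretransitive_iff]
      apply base_case l m hl
      · intro a
        rw [← h1 {a} (by simp)]
        have : fixingSubgroup G ({a} : Set α) = stabilizer G a := by
          ext g; simp [mem_fixingSubgroup_iff]
        rw [this]
      · intro a b hab
        rw [← h2 {a, b} (by simp [Set.ncard_pair hab])]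
        have : fixingSubgroup G ({a, b} : Set α) = stabilizer G a ⊓ stabilizer G b := by
          ext g; simp [mem_fixingSubgroup_iff]
        rw [this]
    · have hstab : ∀ a : α, IsMultiplyPretransitive (stabilizer G a) (ofStabilizer G a) j := by
        intro a
        haveI : FaithfulSMul (stabilizer G a) (ofStabilizer G a) := by
          refine ⟨fun {g₁ g₂} h => ?_⟩
          apply Subtype.ext
          apply FaithfulSMul.eq_of_smul_eq_smul (α := α)
          intro x
          by_cases hx : x = a
          · rw [hx]
            have e1 : (g₁ : G) • a = a := g₁.2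
            have e2 : (g₂ : G) • a = a := g₂.2
            rw [e1, e2]
          · have := h ⟨x, hx⟩
            exact congrArg Subtype.val this
        have hins : ∀ s' : Set (ofStabilizer G a), (insert a (Subtype.val '' s')).ncard = s'.ncard + 1 := by
          intro s'
          have ha' : a ∉ Subtype.val '' s' := by
            intro h; rw [Set.mem_image] at h; obtain ⟨x, hx⟩ := h
            apply x.prop; rw [hx.right]; exact Set.mem_singleton a
          rw [Set.ncard_insert_of_notMem ha', Set.ncard_image_of_injective _ Subtype.val_injective]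
        refine ih hjpos ?_ ?_ ?_
        rotate_left
        · intro s' hs'
          rw [← h1 (insert a (Subtype.val '' s')) (by rw [hins, hs'])]
          exact (Nat.card_congr (fixingSubgroupInsertEquiv a s').toEquiv).symm
        · intro s' hs'
          rw [← h2 (insert a (Subtype.val '' s')) (by rw [hins, hs'])]
          exact (Nat.card_congr (fixingSubgroupInsertEquiv a s').toEquiv).symm
        · have := nat_card_ofStabilizer_add_one_eq (G := G) a
          omega
      -- G is transitive
      have htrans : IsPretransitive G α := by
        refine ⟨fun a b => ?_⟩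
        by_cases hab : a = b
        · exact ⟨1, by simp [hab]⟩
        · have hcard3 : 2 < Nat.card α := by omega
          have : ∃ c : α, c ≠ a ∧ c ≠ b := by
            by_contra hne
            push Not at hne
            have hsub : (Set.univ : Set α) ⊆ {a, b} := by
              intro c _
              by_cases hca : c = a
              · simp [hca]
              · simp [hne c hca]
            have := Set.ncard_le_ncard hsub
            rw [Set.ncard_univ] at this
            have h2 : ({a, b} : Set α).ncard = 2 := Set.ncard_pair hab
            omega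
          obtain ⟨c, hca, hcb⟩ := this
          have hc := hstab c
          have hc1 : IsMultiplyPretransitive (stabilizer G c) (ofStabilizer G c) 1 := by
            apply isMultiplyPretransitive_of_le (n := j) hjpos
            have := nat_card_ofStabilizer_add_one_eq (G := G) c
            omega
          rw [is_one_pretransitive_iff] at hc1
          obtain ⟨g, hg⟩ := hc1.exists_smul_eq ⟨a, fun h => hca h.symm⟩ ⟨b, fun h => hcb h.symm⟩
          exact ⟨g.1, congrArg Subtype.val hg⟩
      obtain ⟨a⟩ : Nonempty α := by
        rw [← Finite.card_pos_iff]; omega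
      exact (ofStabilizer.isMultiplyPretransitive (a := a)).mpr (hstab a)

theorem result {α : Type*} [Fintype α] [DecidableEq α] (G : Subgroup (Equiv.Perm α)) {k : ℕ} (hk : 1 < k) (hkn : k ≤ Fintype.card α) (l m : ℕ) (hl : 1 < l) (hkm1 : ∀ s : Finset α, s.card = k - 1 → Nat.card (fixingSubgroup G (s : Set α)) = l) (hkm : ∀ s : Finset α, s.card = k → Nat.card (fixingSubgroup G (s : Set α)) = m) : MulAction.IsMultiplyPretransitive G α (k - 1) := by
  obtain ⟨j, rfl⟩ : ∃ j, k = j + 1 := ⟨k - 1, by omega⟩
  simp only [Nat.add_sub_cancel] at hkm1 ⊢
  apply main (by omega) _ l m hl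
  · intro s hs
    have := hkm1 s.toFinite.toFinset (by rw [← hs, Set.ncard_eq_toFinset_card s])
    simpa using this
  · intro s hs
    have := hkm s.toFinite.toFinset (by rw [← hs, Set.ncard_eq_toFinset_card s])
    simpa using this
  · rw [Nat.card_eq_fintype_card]; exact hkn

end Cfsg.Agent.S0744
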