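import Cfsg.Statements.S0754
import Mathlib

set_option autoImplicit false
open Cfsg

namespace Cfsg.Agent.S0754

theorem result {F : Type*} [Field F] [Fintype F] {q : ℕ} (hF : Fintype.card F = q ^ 2) (μ : F) (hμ : μ ≠ 0) (hμq : μ ^ q = μ) : Nat.card {x : F // x ^ (q + 1) = μ} = q + 1 := by
  classical
  have hq2 : 2 ≤ q := by
    have h1 : 1 < Fintype.card F := Fintype.one_lt_card
    rw [hF] at h1
    by_contra h
    push Not at h
    interval_cases q <;> omega
  have hcardU : Nat.card Fˣ = q ^ 2 - 1 := by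
    rw [Nat.card_eq_fintype_card, Fintype.card_units, hF]
  have hfac : q ^ 2 - 1 = (q - 1) * (q + 1) := by
    obtain ⟨k, rfl⟩ : ∃ k, q = k + 1 := ⟨q - 1, by omega⟩
    simp only [Nat.add_sub_cancel]
    have : (k + 1) ^ 2 = k * (k + 1 + 1) + 1 := by ring
    rw [this, Nat.add_sub_cancel]
  let φ : Fˣ →* Fˣ := powMonoidHom (q + 1)
  let ψ : Fˣ →* Fˣ := powMonoidHom (q - 1)
  have hkerφ : Nat.card φ.ker = q + 1 := by
    rw [IsCyclic.card_powMonoidHom_ker, hcardU, hfac]
    exact Nat.gcd_eq_right (Dvd.intro_left _ rfl)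
  have hrangeφ : Nat.card φ.range = q - 1 := by
    rw [IsCyclic.card_powMonoidHom_range, hcardU, hfac,
      Nat.gcd_eq_right (Dvd.intro_left _ rfl), Nat.mul_div_cancel _ (by omega)]
  have hkerψ : Nat.card ψ.ker = q - 1 := by
    rw [IsCyclic.card_powMonoidHom_ker, hcardU, hfac]
    exact Nat.gcd_eq_right (Dvd.intro _ rfl)
  have hle : φ.range ≤ ψ.ker := by
    rintro _ ⟨x, rfl⟩
    rw [MonoidHom.mem_ker]
    change (x ^ (q + 1)) ^ (q - 1) = 1
    rw [← pow_mul, mul_comm, ← hfac, ← hcardU]
    exact pow_card_eq_one'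
  have heq : φ.range = ψ.ker := by
    apply Subgroup.eq_of_le_of_card_ge hle
    rw [hkerψ, hrangeφ]
  -- μ as a unit
  let u : Fˣ := Units.mk0 μ hμ
  have hu : u ∈ ψ.ker := by
    rw [MonoidHom.mem_ker]
    change u ^ (q - 1) = 1
    apply Units.ext
    simp only [u, Units.val_pow_eq_pow_val, Units.val_mk0, Units.val_one]
    have : μ ^ (q - 1) * μ = μ := by
      rw [← pow_succ, Nat.sub_add_cancel (by omega)]; exact hμq
    have h2 : (μ ^ (q - 1) - 1) * μ = 0 := by rw [sub_mul, this, one_mul, sub_self]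
    rcases mul_eq_zero.mp h2 with h | h
    · exact sub_eq_zero.mp h
    · exact absurd h hμ
  rw [← heq] at hu
  obtain ⟨x₀, hx₀⟩ := hu
  have hx₀' : x₀ ^ (q + 1) = u := hx₀
  refine (Nat.card_congr ?_).trans hkerφ
  exact
    { toFun := fun x => ⟨Units.mk0 x.1 (by
          intro h
          have := x.2
          rw [h, zero_pow (by omega)] at this
          exact hμ this.symm) * x₀⁻¹, by
        rw [MonoidHom.mem_ker]
        change (_ * x₀⁻¹) ^ (q + 1) = 1
        rw [mul_pow, inv_pow, hx₀']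
        apply Units.ext
        simp only [Units.val_mul, Units.val_pow_eq_pow_val, Units.val_mk0, Units.val_one]
        rw [x.2]
        simp [u, hμ]⟩
      invFun := fun k => ⟨((k.1 * x₀ : Fˣ) : F), by
        have hk : k.1 ^ (q + 1) = 1 := k.2
        rw [← Units.val_pow_eq_pow_val, mul_pow, hk, one_mul, hx₀']
        rfl⟩
      left_inv := fun x => by
        apply Subtype.ext
        simp
      right_inv := fun k => by
        apply Subtype.ext
        apply Units.ext
        simp }

end Cfsg.Agent.S0754
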