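import Cfsg.Statements.S0757
import Mathlib

set_option autoImplicit false
open Cfsg

namespace Cfsg.Agent.S0757

open QuadraticMap

theorem toMatrix'_wss {F : Type*} [Field F] [Invertible (2:F)] {ι : Type*} [Fintype ι] [DecidableEq ι] (w : ι → F) :
    QuadraticForm.toMatrix' (weightedSumSquares F w) = Matrix.diagonal w := by
  have h2 : (2 : F) ≠ 0 := Invertible.ne_zero 2
  ext i j
  rw [QuadraticForm.toMatrix', LinearMap.toMatrix₂'_apply, QuadraticMap.associated_apply]
  simp only [weightedSumSquares_apply, Pi.add_apply, smul_eq_mul, Matrix.diagonal_apply]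
  by_cases hij : i = j
  · subst hij
    simp only [Pi.single_apply, if_true]
    have : ∀ x, w x * (((if x = i then (1:F) else 0) + if x = i then 1 else 0) *
                ((if x = i then 1 else 0) + if x = i then 1 else 0)) = if x = i then 4 * w i else 0 := by
      intro x; split_ifs with h
      · subst h; ring
      · ring
    have h1 : ∀ x, w x * ((if x = i then (1:F) else 0) * (if x = i then 1 else 0)) = if x = i then w i else 0 := by
      intro x; split_ifs with h
      · subst h; ring
      · ring
    simp only [this, h1, Finset.sum_ite_eq', Finset.mem_univ, if_true]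
    simp
    field_simp
    ring
  · simp only [Pi.single_apply, if_neg hij]
    have : ∀ x, w x * (((if x = i then (1:F) else 0) + if x = j then 1 else 0) *
                ((if x = i then 1 else 0) + if x = j then 1 else 0)) = (if x = i then w i else 0) + (if x = j then w j else 0) := by
      intro x
      by_cases h1 : x = i
      · subst h1; simp [hij]
      · by_cases h2 : x = j
        · subst h2; simp [h1]
        · simp [h1, h2]
    have h1 : ∀ x, w x * ((if x = i then (1:F) else 0) * (if x = i then 1 else 0)) = if x = i then w i else 0 := by
      intro x; split_ifs with h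
      · subst h; ring
      · ring
    have h1' : ∀ x, w x * ((if x = j then (1:F) else 0) * (if x = j then 1 else 0)) = if x = j then w j else 0 := by
      intro x; split_ifs with h
      · subst h; ring
      · ring
    simp only [this, h1, h1', Finset.sum_add_distrib, Finset.sum_ite_eq', Finset.mem_univ, if_true]
    simp

theorem result {F : Type*} [Field F] (h2 : (2 : F) ≠ 0) (n : ℕ) (α : F) (hα : ¬ IsSquare α) : ¬ (QuadraticMap.weightedSumSquares F (fun _ : Fin (n + 1) => (1 : F))).Equivalent (QuadraticMap.weightedSumSquares F (fun i : Fin (n + 1) => if i = Fin.last n then α else (1 : F))) := by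
  rintro ⟨e⟩
  haveI : Invertible (2 : F) := invertibleOfNonzero h2
  have hcomp : (QuadraticMap.weightedSumSquares F (fun _ : Fin (n + 1) => (1 : F))) =
      (QuadraticMap.weightedSumSquares F (fun i : Fin (n + 1) => if i = Fin.last n then α else (1 : F))).comp
        (e.toLinearEquiv : (Fin (n + 1) → F) →ₗ[F] (Fin (n + 1) → F)) := by
    ext x
    simp only [QuadraticMap.comp_apply]
    exact (e.map_app x).symm
  have hd := congrArg QuadraticForm.discr' hcomp
  rw [QuadraticForm.discr'_comp] at hd
  simp only [QuadraticForm.discr', toMatrix'_wss, Matrix.det_diagonal] at hd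
  have h1 : ∏ i : Fin (n + 1), (if i = Fin.last n then α else (1 : F)) = α := by
    rw [Finset.prod_ite_eq' Finset.univ (Fin.last n) (fun _ => α)] <;> simp
  rw [h1] at hd
  simp only [Finset.prod_const_one] at hd
  set d := (LinearMap.toMatrix' (e.toLinearEquiv : (Fin (n + 1) → F) →ₗ[F] (Fin (n + 1) → F))).det with hd'
  have hd0 : d ≠ 0 := by
    intro h
    rw [h] at hd
    simp at hd
  apply hα
  refine ⟨d⁻¹, ?_⟩
  field_simp
  rw [hd]; ring

end Cfsg.Agent.S0757
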