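import Cfsg.Statements.S0758
import Mathlib

set_option autoImplicit false
open Cfsg

namespace Cfsg.Agent.S0758

theorem result {F : Type*} [Field F] [Fintype F] (h2 : (2 : F) ≠ 0) (α : F) (hα : ¬ IsSquare α) : ((∃ x y : F, (x ≠ 0 ∨ y ≠ 0) ∧ x ^ 2 + y ^ 2 = 0) ↔ Fintype.card F % 4 = 1) ∧ ((∃ x y : F, (x ≠ 0 ∨ y ≠ 0) ∧ x ^ 2 + α * y ^ 2 = 0) ↔ Fintype.card F % 4 = 3) := by
  classical
  have hchar : ringChar F ≠ 2 := by
    intro h
    apply h2
    have := ringChar.spec F 2
    rw [h] at this
    have h3 : ((2 : ℕ) : F) = 0 := this.mpr dvd_rfl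
    exact_mod_cast h3
  have hodd : Fintype.card F % 2 = 1 := FiniteField.odd_card_of_char_ne_two hchar
  have hm1 : IsSquare (-1 : F) ↔ Fintype.card F % 4 = 1 := by
    rw [FiniteField.isSquare_neg_one_iff]
    omega
  have hα0 : α ≠ 0 := by
    intro h; apply hα; rw [h]; exact IsSquare.zero
  -- general: nontrivial zero of x^2 + c y^2 iff -c is a square (c ≠ 0)
  have hgen : ∀ c : F, c ≠ 0 → ((∃ x y : F, (x ≠ 0 ∨ y ≠ 0) ∧ x ^ 2 + c * y ^ 2 = 0) ↔ IsSquare (-c)) := by
    intro c hc
    constructor
    · rintro ⟨x, y, hxy, h⟩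
      have hy : y ≠ 0 := by
        intro hy
        rw [hy] at h
        simp at h
        rcases hxy with hx | hy'
        · exact hx h
        · exact hy' hy
      refine ⟨x / y, ?_⟩
      field_simp
      linear_combination -h
    · rintro ⟨z, hz⟩
      refine ⟨z, 1, Or.inr one_ne_zero, ?_⟩
      linear_combination -hz
  constructor
  · have := hgen 1 one_ne_zero
    simp only [one_mul] at this
    rw [this, hm1]
  · rw [hgen α hα0]
    have hχα : quadraticChar F α = -1 := quadraticChar_neg_one_iff_not_isSquare.mpr hα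
    have hnα0 : -α ≠ 0 := neg_ne_zero.mpr hα0
    rw [← quadraticChar_one_iff_isSquare hnα0]
    have : quadraticChar F (-α) = quadraticChar F (-1) * quadraticChar F α := by
      rw [← map_mul]; simp
    rw [this, hχα]
    have hm1' : quadraticChar F (-1) = -1 ↔ ¬ IsSquare (-1 : F) := quadraticChar_neg_one_iff_not_isSquare
    rw [hm1] at hm1'
    constructor
    · intro h
      have : quadraticChar F (-1) = -1 := by linarith
      have := hm1'.mp this
      omega
    · intro h
      have : quadraticChar F (-1) = -1 := hm1'.mpr (by omega)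
      rw [this]; norm_num

end Cfsg.Agent.S0758
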