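-- Statement S0759
import Cfsg.Statements.S0759
import Mathlib
import Cfsg.Agent.Lib.Helper6.Lagrangian

set_option autoImplicit false
open Cfsg

namespace Cfsg.Agent.S0759

open Module Cfsg.Agent.Lib.Helper6

/-- Type of the orthonormal form: over a finite field of odd order q and for m ≥ 1, the quadratic form Σ_(i<2m) x_i² on F^(2m) admits an m-dimensional subspace on which it vanishes identically if and only if it is not the case that q ≡ 3 (mod 4) and m is odd. -/
theorem result {F : Type*} [Field F] [Fintype F] (h2 : (2 : F) ≠ 0) (m : ℕ) (hm : 1 ≤ m) : (∃ W : Submodule F (Fin (2 * m) → F), Module.finrank F W = m ∧ ∀ w ∈ W, ∑ i, w i ^ 2 = 0) ↔ ¬ (Fintype.card F % 4 = 3 ∧ Odd m) := by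
  classical
  let B : LinearMap.BilinForm F (Fin (2 * m) → F) := Matrix.toBilin' 1
  have hBapp : ∀ x y : Fin (2 * m) → F, B x y = ∑ i, x i * y i := by
    intro x y
    simp [B, Matrix.toBilin'_apply', dotProduct]
  have hS : B.IsSymm := ⟨fun x y => by
    rw [hBapp, hBapp]; simp [mul_comm]⟩
  have hdet : (LinearMap.BilinForm.toMatrix (Pi.basisFun F (Fin (2 * m))) B).det = 1 := by
    rw [LinearMap.BilinForm.toMatrix_basisFun, LinearMap.BilinForm.toMatrix'_toBilin']
    simp
  have hB : B.Nondegenerate := by
    rw [LinearMap.BilinForm.nondegenerate_iff_det_ne_zero (Pi.basisFun F (Fin (2 * m))), hdet]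
    exact one_ne_zero
  have hV : finrank F (Fin (2 * m) → F) = 2 * m := by simp
  have hcrit := hasTI_iff_isSquare h2 B hS hB m hV (Pi.basisFun F (Fin (2 * m)))
  rw [hdet, mul_one] at hcrit
  have h1 : (∃ W : Submodule F (Fin (2 * m) → F), Module.finrank F W = m ∧
      ∀ w ∈ W, ∑ i, w i ^ 2 = 0) ↔ HasTI B m := by
    constructor
    · rintro ⟨W, hW, hQ⟩
      refine ⟨W, hW, ?_⟩
      intro x hx y hy
      have e1 := hQ (x + y) (W.add_mem hx hy)
      have e2 := hQ x hx
      have e3 := hQ y hy
      have : (2 : F) * B x y = 0 := by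
        rw [hBapp, Finset.mul_sum]
        have : ∑ i, (x + y) i ^ 2 - ∑ i, x i ^ 2 - ∑ i, y i ^ 2 = ∑ i, 2 * (x i * y i) := by
          rw [← Finset.sum_sub_distrib, ← Finset.sum_sub_distrib]
          apply Finset.sum_congr rfl
          intro i _
          simp only [Pi.add_apply]
          ring
        rw [← this, e1, e2, e3]; ring
      rcases mul_eq_zero.mp this with h | h
      · exact absurd h h2
      · exact h
    · rintro ⟨W, hW, hQ⟩
      refine ⟨W, hW, ?_⟩
      intro w hw
      have := hQ w hw w hw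
      rw [hBapp] at this
      rw [← this]
      apply Finset.sum_congr rfl
      intro i _
      ring
  rw [h1, hcrit]
  rcases Nat.even_or_odd m with he | ho
  · rw [he.neg_one_pow]
    simp only [IsSquare.one, true_iff]
    rintro ⟨_, ho⟩
    exact (Nat.not_even_iff_odd.mpr ho) he
  · rw [ho.neg_one_pow, FiniteField.isSquare_neg_one_iff]
    constructor
    · rintro h ⟨h3, _⟩
      exact h h3
    · intro h h3
      exact h ⟨h3, ho⟩

end Cfsg.Agent.S0759
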