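import Cfsg.Statements.S0762
import Mathlib

set_option autoImplicit false
open Cfsg

namespace Cfsg.Agent.S0762

theorem result {F V : Type*} [Field F] [Finite F] [CharP F 2] [AddCommGroup V] [Module F V] [FiniteDimensional F V] (Q : QuadraticForm F V) (h3 : 3 ≤ Module.finrank F V) : ∃ v : V, v ≠ 0 ∧ Q v = 0 := by
  classical
  haveI : Fintype F := Fintype.ofFinite F
  -- a nonzero vector
  have hnt : Nontrivial V := by
    apply Module.nontrivial_of_finrank_pos (R := F); omega
  obtain ⟨u, hu⟩ := exists_ne (0 : V)
  by_cases hQu : Q u = 0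
  · exact ⟨u, hu, hQu⟩
  -- the functional B u
  let f : V →ₗ[F] F := QuadraticMap.polarBilin Q u
  have hker : 2 ≤ Module.finrank F (LinearMap.ker f) := by
    have h1 := LinearMap.finrank_range_add_finrank_ker f
    have h2 : Module.finrank F (LinearMap.range f) ≤ 1 := by
      have := Submodule.finrank_le (LinearMap.range f)
      rwa [Module.finrank_self] at this
    omega
  have : ∃ v ∈ LinearMap.ker f, v ∉ Submodule.span F {u} := by
    by_contra hne
    push Not at hne
    have hle : LinearMap.ker f ≤ Submodule.span F {u} := hne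
    have h1 := Submodule.finrank_mono hle
    have h2 : Module.finrank F (Submodule.span F {u}) ≤ 1 := by
      have := finrank_span_le_card (R := F) ({u} : Set V)
      simpa using this
    omega
  obtain ⟨v, hv, hvu⟩ := this
  have hBuv : QuadraticMap.polar Q u v = 0 := hv
  -- square root
  have hchar : ringChar F = 2 := ringChar.eq F 2
  obtain ⟨a, ha⟩ := FiniteField.isSquare_of_char_two hchar (Q v / Q u)
  refine ⟨a • u + v, ?_, ?_⟩
  · intro h
    apply hvu
    have : v = (-a) • u := by
      rw [neg_smul]; exact eq_neg_of_add_eq_zero_right h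
    rw [this]
    exact Submodule.smul_mem _ _ (Submodule.mem_span_singleton_self u)
  · rw [QuadraticMap.map_add Q, QuadraticMap.map_smul, QuadraticMap.polar_smul_left, hBuv, smul_zero,
      add_zero, smul_eq_mul, ← ha, div_mul_cancel₀ _ hQu]
    exact CharTwo.add_self_eq_zero (Q v)

end Cfsg.Agent.S0762
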