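import Cfsg.Statements.S0763
import Mathlib

set_option autoImplicit false
open Cfsg

namespace Cfsg.Agent.S0763

section
variable {F V : Type*} [Field F] [CharP F 2] [AddCommGroup V] [Module F V]

theorem polar_self_zero (Q : QuadraticForm F V) (x : V) : QuadraticMap.polar Q x x = 0 := by
  rw [QuadraticMap.polar_self, two_nsmul, ← two_mul, CharTwo.two_eq_zero, zero_mul]

theorem Q_add' (Q : QuadraticForm F V) (x y : V) : Q (x + y) = Q x + Q y + QuadraticMap.polar Q x y := by
  unfold QuadraticMap.polar; ring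

theorem indep_of_polar (Q : QuadraticForm F V) (v w : V) (h : QuadraticMap.polar Q v w = 1) :
    LinearIndependent F ![v, w] := by
  rw [LinearIndependent.pair_iff]
  intro s t hst
  have h1 : QuadraticMap.polar Q (s • v + t • w) w = 0 := by
    rw [hst]; simp [QuadraticMap.polar]
  have h2 : QuadraticMap.polar Q v (s • v + t • w) = 0 := by
    rw [hst]; simp [QuadraticMap.polar]
  rw [QuadraticMap.polar_add_left, QuadraticMap.polar_smul_left, QuadraticMap.polar_smul_left, h,
    polar_self_zero] at h1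
  rw [QuadraticMap.polar_add_right, QuadraticMap.polar_smul_right, QuadraticMap.polar_smul_right, h,
    polar_self_zero] at h2
  simp only [smul_eq_mul, mul_one, mul_zero, add_zero, zero_add] at h1 h2
  exact ⟨h1, h2⟩

theorem exists_polar_one (Q : QuadraticForm F V) (hQ : (QuadraticMap.polarBilin Q).Nondegenerate) (v : V)
    (hv : v ≠ 0) : ∃ w : V, QuadraticMap.polar Q v w = 1 := by
  have : ∃ w : V, QuadraticMap.polar Q v w ≠ 0 := by
    by_contra hcon
    push Not at hcon
    apply hv
    apply hQ.1 v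
    intro y
    simpa using hcon y
  obtain ⟨w, hw⟩ := this
  refine ⟨(QuadraticMap.polar Q v w)⁻¹ • w, ?_⟩
  rw [QuadraticMap.polar_smul_right, smul_eq_mul, inv_mul_cancel₀ hw]

end

theorem result {F V : Type*} [Field F] [Finite F] [CharP F 2] [AddCommGroup V] [Module F V] (Q : QuadraticForm F V) (h2 : Module.finrank F V = 2) (hQ : (QuadraticMap.polarBilin Q).Nondegenerate) : (∃ v w : V, LinearIndependent F ![v, w] ∧ Q v = 0 ∧ Q w = 0 ∧ QuadraticMap.polar Q v w = 1) ∨ (∃ (v w : V) (μ : F), LinearIndependent F ![v, w] ∧ (∀ x : F, x ^ 2 + x + μ ≠ 0) ∧ Q v = 1 ∧ Q w = μ ∧ QuadraticMap.polar Q v w = 1) := by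
  have h2F : (2 : F) = 0 := CharTwo.two_eq_zero
  by_cases hiso : ∃ v : V, v ≠ 0 ∧ Q v = 0
  · left
    obtain ⟨v, hv, hQv⟩ := hiso
    obtain ⟨w₁, hw₁⟩ := exists_polar_one Q hQ v hv
    refine ⟨v, w₁ + Q w₁ • v, ?_, hQv, ?_, ?_⟩
    · apply indep_of_polar Q
      rw [QuadraticMap.polar_add_right, QuadraticMap.polar_smul_right, polar_self_zero, hw₁]
      simp
    · rw [Q_add', QuadraticMap.map_smul, hQv, QuadraticMap.polar_smul_right, QuadraticMap.polar_comm, hw₁]
      simp only [smul_eq_mul, mul_zero, add_zero, mul_one]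
      rw [← two_mul, h2F, zero_mul]
    · rw [QuadraticMap.polar_add_right, QuadraticMap.polar_smul_right, polar_self_zero, hw₁]
      simp
  · right
    push Not at hiso
    haveI : Nontrivial V := by
      apply Module.nontrivial_of_finrank_pos (R := F)
      omega
    obtain ⟨v₀, hv₀⟩ := exists_ne (0 : V)
    have ha : Q v₀ ≠ 0 := hiso v₀ hv₀
    obtain ⟨c, hc⟩ := FiniteField.isSquare_of_char_two (ringChar.eq F 2) (Q v₀)
    have hc0 : c ≠ 0 := by
      rintro rfl
      apply ha
      rw [hc, mul_zero]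
    set v := c⁻¹ • v₀ with hv
    have hv0 : v ≠ 0 := smul_ne_zero (inv_ne_zero hc0) hv₀
    have hQv : Q v = 1 := by
      rw [hv, QuadraticMap.map_smul, hc, smul_eq_mul]
      field_simp
    obtain ⟨w, hw⟩ := exists_polar_one Q hQ v hv0
    have hind := indep_of_polar Q v w hw
    refine ⟨v, w, Q w, hind, ?_, hQv, rfl, hw⟩
    intro x hx
    have h1 : Q (x • v + w) = 0 := by
      rw [Q_add', QuadraticMap.map_smul, hQv, QuadraticMap.polar_smul_left, hw]
      simp only [smul_eq_mul, mul_one]
      linear_combination hx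
    have h3 : x • v + w = 0 := by
      by_contra hne
      exact hiso _ hne h1
    have := (LinearIndependent.pair_iff.mp hind) x 1 (by rw [one_smul]; exact h3)
    exact one_ne_zero this.2

end Cfsg.Agent.S0763
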