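import Cfsg.Statements.S0767
import Cfsg.Agent.Lib.Helper6.Symp

set_option autoImplicit false
open Cfsg

namespace Cfsg.Agent.S0767

open Matrix Cfsg.Agent.Lib.Helper6

theorem result {F : Type*} [Field F] (m : ℕ) (v : Fin m ⊕ Fin m → F) : (∀ c d : F, Cfsg.sympTransvection m v c * Cfsg.sympTransvection m v d = Cfsg.sympTransvection m v (c + d)) ∧ ∀ (A : Matrix (Fin m ⊕ Fin m) (Fin m ⊕ Fin m) F) (a : F), A ∈ Matrix.symplecticGroup (Fin m) F → A.mulVec v = a • v → ∀ c : F, ∃ d : F, A * Cfsg.sympTransvection m v c * A⁻¹ = Cfsg.sympTransvection m v d := by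
  refine ⟨fun c d => sympTransvection_mul v c d, ?_⟩
  intro A a hA hAv c
  refine ⟨c * a * a, ?_⟩
  have hdet : IsUnit A.det := SymplecticGroup.symplectic_det hA
  have hAinv : A * A⁻¹ = 1 := Matrix.mul_nonsing_inv A hdet
  have hpres := (mem_symplecticGroup_iff_preserves A).mp hA
  apply matrix_ext_mulVec
  intro x
  rw [← mulVec_mulVec, ← mulVec_mulVec, sympTransvection_mulVec, sympTransvection_mulVec, mulVec_add,
    mulVec_mulVec, hAinv, one_mulVec, mulVec_smul, hAv]
  have h1 : Cfsg.sympForm m F (A⁻¹ *ᵥ x) v = a * Cfsg.sympForm m F x v := by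
    have := hpres (A⁻¹ *ᵥ x) v
    rw [mulVec_mulVec, hAinv, one_mulVec, hAv, sympForm_smul_right] at this
    exact this.symm
  rw [h1, smul_smul]
  congr 2
  ring

end Cfsg.Agent.S0767
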