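import Cfsg.Statements.S0769
import Mathlib

set_option autoImplicit false
open Cfsg

namespace Cfsg.Agent.S0769

open Matrix

section
variable {F : Type*} [Field F] {n : ℕ}

/-- lower triangular matrices with nonzero diagonal -/
def LowerT (F : Type*) [Field F] (n : ℕ) : Type _ :=
  {M : Matrix (Fin n) (Fin n) F // (∀ i j : Fin n, i < j → M i j = 0) ∧ ∀ i, M i i ≠ 0}

theorem det_lower (M : Matrix (Fin n) (Fin n) F) (h : ∀ i j : Fin n, i < j → M i j = 0) :
    M.det = ∏ i, M i i := by
  apply Matrix.det_of_lowerTriangular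
  intro i j hij
  exact h i j hij

noncomputable def equiv1 : {g : Matrix.GeneralLinearGroup (Fin n) F //
    ∀ i j : Fin n, i < j → (g : Matrix (Fin n) (Fin n) F) i j = 0} ≃ LowerT F n where
  toFun g := ⟨(g.1 : Matrix (Fin n) (Fin n) F), g.2, by
    have hdet : (g.1 : Matrix (Fin n) (Fin n) F).det ≠ 0 := by
      have := Matrix.GeneralLinearGroup.det_ne_zero g.1
      exact this
    rw [det_lower _ g.2] at hdet
    intro i
    exact (Finset.prod_ne_zero_iff.mp hdet) i (Finset.mem_univ i)⟩
  invFun M := ⟨Matrix.GeneralLinearGroup.mk'' M.1 (by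
    rw [det_lower _ M.2.1]
    exact isUnit_iff_ne_zero.mpr (Finset.prod_ne_zero_iff.mpr fun i _ => M.2.2 i)), M.2.1⟩
  left_inv g := by
    apply Subtype.ext
    apply Units.ext
    rfl
  right_inv M := by
    apply Subtype.ext
    rfl

def equiv2 : LowerT F n ≃ ((i : Fin n) → (Fin i → F)) × (Fin n → Fˣ) where
  toFun M := (fun i k => M.1 i ⟨k, lt_trans k.2 i.2⟩, fun i => Units.mk0 (M.1 i i) (M.2.2 i))
  invFun p := ⟨fun i j => if h : j < i then p.1 i ⟨j, h⟩ else if j = i then (p.2 i : F) else 0, by
    constructor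
    · intro i j hij
      have h1 : ¬ j < i := not_lt.mpr hij.le
      have h2 : j ≠ i := hij.ne'
      simp [h1, h2]
    · intro i
      simp⟩
  left_inv M := by
    apply Subtype.ext
    ext i j
    simp only
    by_cases h : j < i
    · simp [h]
    · by_cases h2 : j = i
      · subst h2; simp
      · have : i < j := lt_of_le_of_ne (not_lt.mp h) (Ne.symm h2)
        simp [h, h2, M.2.1 i j this]
  right_inv p := by
    apply Prod.ext
    · funext i k
      have : (⟨k, lt_trans k.2 i.2⟩ : Fin n) < i := k.2
      simp [this]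
    · funext i
      apply Units.ext
      simp

end

theorem result {F : Type*} [Field F] [Fintype F] {q : ℕ} (hF : Fintype.card F = q) (n : ℕ) : Nat.card {g : Matrix.GeneralLinearGroup (Fin n) F // ∀ i j : Fin n, i < j → (g : Matrix (Fin n) (Fin n) F) i j = 0} = q ^ (n * (n - 1) / 2) * (q - 1) ^ n := by
  classical
  rw [Nat.card_congr (equiv1.trans equiv2), Nat.card_prod, Nat.card_eq_fintype_card, Nat.card_eq_fintype_card,
    Fintype.card_pi, Fintype.card_fun, Fintype.card_units, Fintype.card_fin, hF]
  congr 1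
  simp only [Fintype.card_fun, Fintype.card_fin, hF]
  rw [Finset.prod_pow_eq_pow_sum, Fin.sum_univ_eq_sum_range (fun i => i) n, Finset.sum_range_id]

end Cfsg.Agent.S0769
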