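import Cfsg.Statements.S0770
import Mathlib

set_option autoImplicit false
open Cfsg

namespace Cfsg.Agent.S0770

open Matrix

section
variable {F : Type*} [Field F] {n : ℕ}

abbrev Tgrp (F : Type*) [Field F] (n : ℕ) : Subgroup (Matrix.GeneralLinearGroup (Fin n) F) :=
  (Units.map (Matrix.diagonalRingHom (Fin n) F).toMonoidHom).range

theorem mem_T_iff (x : Matrix.GeneralLinearGroup (Fin n) F) :
    x ∈ Tgrp F n ↔ ∃ d : Fin n → F, (∀ i, d i ≠ 0) ∧ (x : Matrix (Fin n) (Fin n) F) = Matrix.diagonal d := by
  constructor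
  · rintro ⟨u, rfl⟩
    refine ⟨(u : Fin n → F), ?_, rfl⟩
    intro i hi
    have h1 : ((u * u⁻¹ : (Fin n → F)ˣ) : Fin n → F) i = 1 := by
      rw [mul_inv_cancel]; rfl
    rw [Units.val_mul, Pi.mul_apply, hi, zero_mul] at h1
    exact zero_ne_one h1
  · rintro ⟨d, hd, hx⟩
    let u : (Fin n → F)ˣ := MulEquiv.piUnits.symm (fun i => Units.mk0 (d i) (hd i))
    refine ⟨u, ?_⟩
    apply Units.ext
    rw [hx]
    change Matrix.diagonal (u : Fin n → F) = Matrix.diagonal d
    congr 1

theorem gl_mul_inv (g : Matrix.GeneralLinearGroup (Fin n) F) :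
    (g : Matrix (Fin n) (Fin n) F) * ((g⁻¹ : Matrix.GeneralLinearGroup (Fin n) F) : Matrix (Fin n) (Fin n) F) = 1 := by
  rw [← Matrix.GeneralLinearGroup.coe_mul, mul_inv_cancel, Matrix.GeneralLinearGroup.coe_one]

theorem gl_inv_mul (g : Matrix.GeneralLinearGroup (Fin n) F) :
    ((g⁻¹ : Matrix.GeneralLinearGroup (Fin n) F) : Matrix (Fin n) (Fin n) F) * (g : Matrix (Fin n) (Fin n) F) = 1 := by
  rw [← Matrix.GeneralLinearGroup.coe_mul, inv_mul_cancel, Matrix.GeneralLinearGroup.coe_one]

/-- `g h g⁻¹ = D` iff `g h = D g` -/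
theorem conj_eq_iff (g h : Matrix.GeneralLinearGroup (Fin n) F) (D : Matrix (Fin n) (Fin n) F) :
    ((g * h * g⁻¹ : Matrix.GeneralLinearGroup (Fin n) F) : Matrix (Fin n) (Fin n) F) = D ↔
      (g : Matrix (Fin n) (Fin n) F) * (h : Matrix (Fin n) (Fin n) F) = D * (g : Matrix (Fin n) (Fin n) F) := by
  rw [Matrix.GeneralLinearGroup.coe_mul, Matrix.GeneralLinearGroup.coe_mul]
  constructor
  · intro hD
    rw [← hD, Matrix.mul_assoc, gl_inv_mul, Matrix.mul_one]
  · intro hD
    rw [hD, Matrix.mul_assoc, gl_mul_inv, Matrix.mul_one]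

theorem row_ne_zero (g : Matrix.GeneralLinearGroup (Fin n) F) (i : Fin n) :
    ∃ j, (g : Matrix (Fin n) (Fin n) F) i j ≠ 0 := by
  by_contra hcon
  push Not at hcon
  have := congrFun (congrFun (gl_mul_inv g) i) i
  rw [Matrix.mul_apply, Matrix.one_apply_eq] at this
  simp only [hcon, zero_mul, Finset.sum_const_zero] at this
  exact zero_ne_one this

end

theorem result {F : Type*} [Field F] (hF : ∃ a : F, a ≠ 0 ∧ a ≠ 1) (n : ℕ) (g : Matrix.GeneralLinearGroup (Fin n) F) : g ∈ Subgroup.normalizer ((Units.map (Matrix.diagonalRingHom (Fin n) F).toMonoidHom).range : Subgroup (Matrix.GeneralLinearGroup (Fin n) F)) ↔ ∀ i : Fin n, ∃! j : Fin n, (g : Matrix (Fin n) (Fin n) F) i j ≠ 0 := by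
  classical
  set G : Matrix (Fin n) (Fin n) F := (g : Matrix (Fin n) (Fin n) F) with hG
  rw [Subgroup.mem_normalizer_iff]
  constructor
  · intro hnorm i
    obtain ⟨j, hj⟩ := row_ne_zero g i
    refine ⟨j, hj, ?_⟩
    intro k hk
    by_contra hkj
    obtain ⟨a, ha0, ha1⟩ := hF
    -- the diagonal matrix with a at position j
    let d : Fin n → F := fun l => if l = j then a else 1
    have hd : ∀ l, d l ≠ 0 := by
      intro l
      simp only [d]
      split_ifs
      · exact ha0
      · exact one_ne_zero
    obtain ⟨h, hh⟩ : ∃ h : Matrix.GeneralLinearGroup (Fin n) F,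
        (h : Matrix (Fin n) (Fin n) F) = Matrix.diagonal d := by
      have hmem : ∃ x : Matrix.GeneralLinearGroup (Fin n) F, x ∈ Tgrp F n ∧
          (x : Matrix (Fin n) (Fin n) F) = Matrix.diagonal d := by
        let u : (Fin n → F)ˣ := MulEquiv.piUnits.symm (fun i => Units.mk0 (d i) (hd i))
        exact ⟨Units.map (Matrix.diagonalRingHom (Fin n) F).toMonoidHom u, ⟨u, rfl⟩, rfl⟩
      obtain ⟨x, _, hx⟩ := hmem
      exact ⟨x, hx⟩
    have hhT : h ∈ Tgrp F n := (mem_T_iff h).mpr ⟨d, hd, hh⟩
    have := (hnorm h).mp hhT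
    obtain ⟨e, he, hE⟩ := (mem_T_iff _).mp this
    rw [conj_eq_iff, hh] at hE
    have h1 := congrFun (congrFun hE i) j
    have h2 := congrFun (congrFun hE i) k
    rw [Matrix.mul_diagonal, Matrix.diagonal_mul] at h1 h2
    simp only [d, if_pos rfl, if_neg hkj] at h1 h2
    have he_i : e i = a := by
      have : (a - e i) * G i j = 0 := by rw [hG]; linear_combination h1
      rcases mul_eq_zero.mp this with h3 | h3
      · exact (sub_eq_zero.mp h3).symm
      · exact absurd h3 hj
    rw [he_i] at h2
    have : (1 - a) * G i k = 0 := by rw [hG]; linear_combination h2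
    rcases mul_eq_zero.mp this with h3 | h3
    · exact ha1 (sub_eq_zero.mp h3).symm
    · exact hk h3
  · intro hmono
    choose π hπ hπu using hmono
    have hzero : ∀ i k, k ≠ π i → G i k = 0 := by
      intro i k hk
      by_contra h
      exact hk (hπu i k h)
    have hπinj : Function.Injective π := by
      intro i i' hii'
      by_contra hne
      have h1 := congrFun (congrFun (gl_mul_inv g) i) i
      have h2 := congrFun (congrFun (gl_mul_inv g) i') i
      rw [Matrix.mul_apply, Matrix.one_apply_eq, Finset.sum_eq_single (π i)] at h1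
      · rw [Matrix.mul_apply, Matrix.one_apply_ne (Ne.symm hne), Finset.sum_eq_single (π i')] at h2
        · rw [← hii'] at h2
          rcases mul_eq_zero.mp h2 with h3 | h3
          · rw [hii'] at h3; exact hπ i' h3
          · rw [h3, mul_zero] at h1
            exact zero_ne_one h1
        · intro k _ hk
          rw [← hG, hzero i' k hk, zero_mul]
        · intro h; exact absurd (Finset.mem_univ _) h
      · intro k _ hk
        rw [← hG, hzero i k hk, zero_mul]
      · intro h; exact absurd (Finset.mem_univ _) h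
    have hπsurj : Function.Surjective π := Finite.injective_iff_surjective.mp hπinj
    intro h
    constructor
    · intro hh
      obtain ⟨d, hd, hD⟩ := (mem_T_iff h).mp hh
      rw [mem_T_iff]
      refine ⟨fun i => d (π i), fun i => hd _, ?_⟩
      rw [conj_eq_iff, hD]
      ext i k
      rw [Matrix.mul_diagonal, Matrix.diagonal_mul]
      by_cases hk : k = π i
      · rw [hk, mul_comm]
      · rw [← hG, hzero i k hk, zero_mul, mul_zero]
    · intro hh
      obtain ⟨e, he, hE⟩ := (mem_T_iff _).mp hh
      rw [conj_eq_iff] at hE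
      rw [mem_T_iff]
      -- row π i of h
      have hrow : ∀ i k, (h : Matrix (Fin n) (Fin n) F) (π i) k = if k = π i then e i else 0 := by
        intro i k
        have h1 := congrFun (congrFun hE i) k
        rw [Matrix.diagonal_mul, Matrix.mul_apply, Finset.sum_eq_single (π i)] at h1
        · by_cases hk : k = π i
          · rw [if_pos hk]
            rw [hk] at h1 ⊢
            have : G i (π i) * ((h : Matrix (Fin n) (Fin n) F) (π i) (π i) - e i) = 0 := by
              rw [hG]; linear_combination h1
            rcases mul_eq_zero.mp this with h3 | h3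
            · exact absurd h3 (hπ i)
            · exact sub_eq_zero.mp h3
          · rw [if_neg hk]
            rw [← hG, hzero i k hk, mul_zero] at h1
            rcases mul_eq_zero.mp h1 with h3 | h3
            · exact absurd h3 (hπ i)
            · exact h3
        · intro l _ hl
          rw [← hG, hzero i l hl, zero_mul]
        · intro hc; exact absurd (Finset.mem_univ _) hc
      let ρ : Fin n → Fin n := Function.surjInv hπsurj
      have hρ : ∀ r, π (ρ r) = r := Function.surjInv_eq hπsurj
      refine ⟨fun r => e (ρ r), fun r => he _, ?_⟩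
      ext r k
      have := hrow (ρ r) k
      rw [hρ r] at this
      rw [this, Matrix.diagonal_apply]
      by_cases hk : k = r
      · rw [if_pos hk, if_pos hk.symm]
      · rw [if_neg hk, if_neg (Ne.symm hk)]

end Cfsg.Agent.S0770
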