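import Cfsg.Statements.S0771
import Mathlib

set_option autoImplicit false
open Cfsg

namespace Cfsg.Agent.S0771

open Matrix

section
variable {F : Type*} [Field F] {n k : ℕ}

/-- the splitting of the index set -/
def eqv (hk : k ≤ n) : Fin k ⊕ Fin (n - k) ≃ Fin n :=
  finSumFinEquiv.trans (finCongr (by omega))

theorem eqv_inl (hk : k ≤ n) (i : Fin k) : ((eqv hk (Sum.inl i) : Fin n) : ℕ) = i := by
  simp [eqv]

theorem eqv_inr (hk : k ≤ n) (j : Fin (n - k)) : ((eqv hk (Sum.inr j) : Fin n) : ℕ) = k + j := by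
  simp [eqv]

abbrev Wset (F : Type*) [Field F] (n k : ℕ) : Set (Fin n → F) :=
  {v : Fin n → F | ∀ i : Fin n, k ≤ (i : ℕ) → v i = 0}

theorem mem_W_iff (hk : k ≤ n) (v : Fin n → F) :
    v ∈ Wset F n k ↔ ∀ j : Fin (n - k), v (eqv hk (Sum.inr j)) = 0 := by
  constructor
  · intro hv j
    apply hv
    rw [eqv_inr]; omega
  · intro hv i hi
    have hlt : (i : ℕ) - k < n - k := by have := i.2; omega
    have : i = eqv hk (Sum.inr ⟨(i : ℕ) - k, hlt⟩) := by
      apply Fin.ext
      rw [eqv_inr]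
      simp only
      omega
    rw [this]; exact hv _

theorem mulVec_comp (hk : k ≤ n) (M : Matrix (Fin n) (Fin n) F) (v : Fin n → F) :
    (M *ᵥ v) ∘ (eqv hk) = (M.submatrix (eqv hk) (eqv hk)) *ᵥ (v ∘ eqv hk) := by
  rw [Matrix.submatrix_mulVec_equiv]
  congr 2
  ext i
  simp

theorem det_blocks (M : Matrix (Fin k ⊕ Fin (n - k)) (Fin k ⊕ Fin (n - k)) F) (h0 : M.toBlocks₂₁ = 0) :
    M.det = M.toBlocks₁₁.det * M.toBlocks₂₂.det := by
  conv_lhs => rw [← Matrix.fromBlocks_toBlocks M, h0]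
  exact Matrix.det_fromBlocks_zero₂₁ _ _ _

theorem memP_iff (hk : k ≤ n) (g : Matrix.GeneralLinearGroup (Fin n) F) :
    g ∈ Cfsg.stabilizing (Cfsg.glToMat (Fin n) F) (Wset F n k) ↔
      ((g : Matrix (Fin n) (Fin n) F).submatrix (eqv hk) (eqv hk)).toBlocks₂₁ = 0 := by
  set M := (g : Matrix (Fin n) (Fin n) F) with hM
  set M' := M.submatrix (eqv hk) (eqv hk) with hM'
  constructor
  · intro hg
    ext i j
    have h1 : (Pi.single (eqv hk (Sum.inl j)) 1 : Fin n → F) ∈ Wset F n k := by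
      intro l hl
      rw [Pi.single_apply, if_neg]
      intro h
      rw [h, eqv_inl] at hl
      have := j.2; omega
    have h2 := (hg _).mp h1
    change M *ᵥ _ ∈ Wset F n k at h2
    rw [mem_W_iff hk] at h2
    have h3 := h2 i
    rw [Matrix.mulVec_single_one] at h3
    exact h3
  · intro h0
    have hdet : M'.det ≠ 0 := by
      rw [hM', Matrix.det_submatrix_equiv_self]
      exact Matrix.GeneralLinearGroup.det_ne_zero g
    rw [det_blocks M' h0] at hdet
    have hD : M'.toBlocks₂₂.det ≠ 0 := right_ne_zero_of_mul hdet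
    intro v
    change v ∈ Wset F n k ↔ M *ᵥ v ∈ Wset F n k
    rw [mem_W_iff hk, mem_W_iff hk]
    have key : ∀ j : Fin (n - k), (M *ᵥ v) (eqv hk (Sum.inr j)) =
        (M'.toBlocks₂₁ *ᵥ ((v ∘ eqv hk) ∘ Sum.inl) + M'.toBlocks₂₂ *ᵥ ((v ∘ eqv hk) ∘ Sum.inr)) j := by
      intro j
      have h1 := congrFun (mulVec_comp hk M v) (Sum.inr j)
      rw [Function.comp_apply] at h1
      rw [h1, ← hM']
      conv_lhs => rw [← Matrix.fromBlocks_toBlocks M', Matrix.fromBlocks_mulVec]
      rfl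
    simp only [key, h0, Matrix.zero_mulVec, zero_add]
    constructor
    · intro hv j
      have : (v ∘ eqv hk) ∘ Sum.inr = 0 := by
        ext j'; exact hv j'
      rw [this, Matrix.mulVec_zero]; rfl
    · intro hv j
      have h1 : M'.toBlocks₂₂ *ᵥ ((v ∘ eqv hk) ∘ Sum.inr) = 0 := funext hv
      have hunit : IsUnit M'.toBlocks₂₂.det := isUnit_iff_ne_zero.mpr hD
      have h2 : (M'.toBlocks₂₂)⁻¹ *ᵥ (M'.toBlocks₂₂ *ᵥ ((v ∘ eqv hk) ∘ Sum.inr)) = 0 := by
        rw [h1, Matrix.mulVec_zero]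
      rw [Matrix.mulVec_mulVec, Matrix.nonsing_inv_mul _ hunit, Matrix.one_mulVec] at h2
      exact congrFun h2 j

/-- block upper triangular invertible matrices -/
def Q (F : Type*) [Field F] (n k : ℕ) : Type _ :=
  {M : Matrix (Fin k ⊕ Fin (n - k)) (Fin k ⊕ Fin (n - k)) F // M.toBlocks₂₁ = 0 ∧ M.det ≠ 0}

noncomputable def equiv1 (hk : k ≤ n) :
    ↥(Cfsg.stabilizing (Cfsg.glToMat (Fin n) F) (Wset F n k)) ≃ Q F n k where
  toFun g := ⟨(g.1 : Matrix (Fin n) (Fin n) F).submatrix (eqv hk) (eqv hk), (memP_iff hk g.1).mp g.2, by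
    rw [Matrix.det_submatrix_equiv_self]
    exact Matrix.GeneralLinearGroup.det_ne_zero g.1⟩
  invFun M := ⟨Matrix.GeneralLinearGroup.mkOfDetNeZero (M.1.submatrix (eqv hk).symm (eqv hk).symm) (by
      rw [Matrix.det_submatrix_equiv_self]; exact M.2.2), by
    rw [memP_iff hk]
    have : (Matrix.GeneralLinearGroup.mkOfDetNeZero (M.1.submatrix (eqv hk).symm (eqv hk).symm) (by
      rw [Matrix.det_submatrix_equiv_self]; exact M.2.2) : Matrix (Fin n) (Fin n) F) =
        M.1.submatrix (eqv hk).symm (eqv hk).symm := rfl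
    rw [this, Matrix.submatrix_submatrix]
    simp only [Equiv.symm_comp_self, Matrix.submatrix_id_id]
    exact M.2.1⟩
  left_inv g := by
    apply Subtype.ext
    apply Units.ext
    change ((g.1 : Matrix (Fin n) (Fin n) F).submatrix (eqv hk) (eqv hk)).submatrix (eqv hk).symm (eqv hk).symm = _
    rw [Matrix.submatrix_submatrix]
    simp
  right_inv M := by
    apply Subtype.ext
    change (M.1.submatrix (eqv hk).symm (eqv hk).symm).submatrix (eqv hk) (eqv hk) = _
    rw [Matrix.submatrix_submatrix]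
    simp

noncomputable def equiv2 :
    Q F n k ≃ (Matrix.GeneralLinearGroup (Fin k) F × Matrix.GeneralLinearGroup (Fin (n - k)) F) ×
      Matrix (Fin k) (Fin (n - k)) F where
  toFun M := ((Matrix.GeneralLinearGroup.mkOfDetNeZero M.1.toBlocks₁₁ (by
      have := M.2.2
      rw [det_blocks M.1 M.2.1] at this
      exact left_ne_zero_of_mul this),
    Matrix.GeneralLinearGroup.mkOfDetNeZero M.1.toBlocks₂₂ (by
      have := M.2.2
      rw [det_blocks M.1 M.2.1] at this
      exact right_ne_zero_of_mul this)), M.1.toBlocks₁₂)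
  invFun p := ⟨Matrix.fromBlocks (p.1.1 : Matrix (Fin k) (Fin k) F) p.2 0
      (p.1.2 : Matrix (Fin (n - k)) (Fin (n - k)) F), by simp, by
    rw [Matrix.det_fromBlocks_zero₂₁]
    exact mul_ne_zero (Matrix.GeneralLinearGroup.det_ne_zero _) (Matrix.GeneralLinearGroup.det_ne_zero _)⟩
  left_inv M := by
    apply Subtype.ext
    change Matrix.fromBlocks M.1.toBlocks₁₁ M.1.toBlocks₁₂ 0 M.1.toBlocks₂₂ = M.1
    conv_rhs => rw [← Matrix.fromBlocks_toBlocks M.1, M.2.1]
  right_inv p := by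
    obtain ⟨⟨A, D⟩, B⟩ := p
    refine Prod.ext (Prod.ext ?_ ?_) ?_
    · apply Units.ext
      change (Matrix.fromBlocks (A : Matrix (Fin k) (Fin k) F) B 0
        (D : Matrix (Fin (n - k)) (Fin (n - k)) F)).toBlocks₁₁ = _
      simp
    · apply Units.ext
      change (Matrix.fromBlocks (A : Matrix (Fin k) (Fin k) F) B 0
        (D : Matrix (Fin (n - k)) (Fin (n - k)) F)).toBlocks₂₂ = _
      simp
    · change (Matrix.fromBlocks (A : Matrix (Fin k) (Fin k) F) B 0
        (D : Matrix (Fin (n - k)) (Fin (n - k)) F)).toBlocks₁₂ = _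
      simp

end

theorem result {F : Type*} [Field F] [Fintype F] {q : ℕ} (hF : Fintype.card F = q) (n k : ℕ) (hk : k ≤ n) : Nat.card ↥(Cfsg.stabilizing (Cfsg.glToMat (Fin n) F) {v : Fin n → F | ∀ i : Fin n, k ≤ (i : ℕ) → v i = 0}) = q ^ (k * (n - k)) * (∏ i : Fin k, (q ^ k - q ^ (i : ℕ))) * ∏ i : Fin (n - k), (q ^ (n - k) - q ^ (i : ℕ)) := by
  classical
  have hmat : Fintype.card (Matrix (Fin k) (Fin (n - k)) F) = q ^ (k * (n - k)) := by
    have : Fintype.card (Matrix (Fin k) (Fin (n - k)) F) = Fintype.card (Fin k → Fin (n - k) → F) := by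
      apply Fintype.card_congr
      exact Equiv.refl _
    rw [this, Fintype.card_fun, Fintype.card_fun, hF, Fintype.card_fin, Fintype.card_fin, ← pow_mul,
      mul_comm]
  rw [Nat.card_congr ((equiv1 hk).trans equiv2), Nat.card_prod, Nat.card_prod, Matrix.card_GL_field,
    Matrix.card_GL_field, hF, Nat.card_eq_fintype_card, hmat]
  ring

end Cfsg.Agent.S0771
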