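-- Statement S0773
import Cfsg.Statements.S0773
import Mathlib
import Cfsg.Agent.S0771

set_option autoImplicit false
open Cfsg

namespace Cfsg.Agent.S0773

open Matrix Module Cfsg.Agent.S0771

variable {F : Type*} [Field F] {n : ℕ}

/-- the parabolic subgroup -/
abbrev P (F : Type*) [Field F] (n k : ℕ) : Subgroup (Matrix.GeneralLinearGroup (Fin n) F) :=
  Cfsg.stabilizing (Cfsg.glToMat (Fin n) F) (Wset F n k)

theorem memP_entry {k : ℕ} (hk : k ≤ n) (g : Matrix.GeneralLinearGroup (Fin n) F) :
    g ∈ P F n k ↔ ∀ i j : Fin n, k ≤ (i : ℕ) → (j : ℕ) < k →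
      (g : Matrix (Fin n) (Fin n) F) i j = 0 := by
  rw [memP_iff hk]
  constructor
  · intro h i j hi hj
    have hlt : (i : ℕ) - k < n - k := by have := i.2; omega
    have hi' : i = eqv hk (Sum.inr ⟨(i : ℕ) - k, hlt⟩) := by
      apply Fin.ext; rw [eqv_inr]; simp; omega
    have hj' : j = eqv hk (Sum.inl ⟨(j : ℕ), hj⟩) := by
      apply Fin.ext; rw [eqv_inl]
    have := congrFun (congrFun h ⟨(i : ℕ) - k, hlt⟩) ⟨(j : ℕ), hj⟩
    rw [hi', hj']
    exact this
  · intro h
    ext i j
    apply h
    · rw [eqv_inr]; omega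
    · rw [eqv_inl]; exact j.2

/-- transpose and reverse the indices -/
def tau (M : Matrix (Fin n) (Fin n) F) : Matrix (Fin n) (Fin n) F :=
  Mᵀ.submatrix Fin.rev Fin.rev

theorem tau_apply (M : Matrix (Fin n) (Fin n) F) (i j : Fin n) : tau M i j = M j.rev i.rev := rfl

theorem tau_mul (M N : Matrix (Fin n) (Fin n) F) : tau (M * N) = tau N * tau M := by
  unfold tau
  rw [Matrix.transpose_mul]
  exact (Matrix.submatrix_mul_equiv (e₂ := Fin.revPerm) _ _ _ _).symm

theorem tau_one : tau (1 : Matrix (Fin n) (Fin n) F) = 1 := by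
  ext i j
  rw [tau_apply, Matrix.one_apply, Matrix.one_apply]
  simp [eq_comm]

theorem tau_tau (M : Matrix (Fin n) (Fin n) F) : tau (tau M) = M := by
  ext i j
  rw [tau_apply, tau_apply, Fin.rev_rev, Fin.rev_rev]

/-- the inverse-transpose-reverse automorphism of `GL_n` -/
def theta : Matrix.GeneralLinearGroup (Fin n) F ≃* Matrix.GeneralLinearGroup (Fin n) F where
  toFun g := ⟨tau (g⁻¹ : Matrix.GeneralLinearGroup (Fin n) F).val, tau g.val, by
    rw [← tau_mul, Units.mul_inv, tau_one], by
    rw [← tau_mul, Units.inv_mul, tau_one]⟩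
  invFun g := ⟨tau (g⁻¹ : Matrix.GeneralLinearGroup (Fin n) F).val, tau g.val, by
    rw [← tau_mul, Units.mul_inv, tau_one], by
    rw [← tau_mul, Units.inv_mul, tau_one]⟩
  left_inv g := by
    apply Units.ext
    change tau (tau g.val) = g.val
    exact tau_tau _
  right_inv g := by
    apply Units.ext
    change tau (tau g.val) = g.val
    exact tau_tau _
  map_mul' g h := by
    apply Units.ext
    change tau ((g * h)⁻¹ : Matrix.GeneralLinearGroup (Fin n) F).val =
      tau (g⁻¹ : Matrix.GeneralLinearGroup (Fin n) F).val *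
        tau (h⁻¹ : Matrix.GeneralLinearGroup (Fin n) F).val
    rw [← tau_mul, _root_.mul_inv_rev]
    rfl

theorem theta_val (g : Matrix.GeneralLinearGroup (Fin n) F) :
    (theta g).val = tau (g⁻¹ : Matrix.GeneralLinearGroup (Fin n) F).val := rfl

theorem theta_theta (g : Matrix.GeneralLinearGroup (Fin n) F) : theta (theta g) = g :=
  theta.left_inv g

theorem theta_mem {k : ℕ} (hk : k ≤ n) (g : Matrix.GeneralLinearGroup (Fin n) F)
    (hg : g ∈ P F n k) : theta g ∈ P F n (n - k) := by
  rw [memP_entry (Nat.sub_le n k)]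
  intro i j hi hj
  change (theta g).val i j = 0
  rw [theta_val, tau_apply]
  have hg' : g⁻¹ ∈ P F n k := (P F n k).inv_mem hg
  rw [memP_entry hk] at hg'
  apply hg'
  · rw [Fin.val_rev]; have := j.2; omega
  · rw [Fin.val_rev]; have := i.2; omega

theorem map_theta {k : ℕ} (hk : k ≤ n) :
    (P F n k).map (theta (F := F) (n := n)).toMonoidHom = P F n (n - k) := by
  apply le_antisymm
  · rintro _ ⟨g, hg, rfl⟩
    exact theta_mem hk g hg
  · intro h hh
    refine ⟨theta h, ?_, theta_theta h⟩
    have := theta_mem (Nat.sub_le n k) h hh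
    rw [memP_entry (Nat.sub_le n (n - k))] at this
    rw [SetLike.mem_coe, memP_entry hk]
    intro i j hi hj
    apply this <;> omega

/-- the coordinate subspace as a submodule -/
def Wsub (F : Type*) [Field F] (n j : ℕ) : Submodule F (Fin n → F) where
  carrier := Wset F n j
  add_mem' := by
    intro a b ha hb i hi
    simp [ha i hi, hb i hi]
  zero_mem' := by intro i _; rfl
  smul_mem' := by
    intro c a ha i hi
    simp [ha i hi]

theorem mem_Wsub {j : ℕ} (v : Fin n → F) : v ∈ Wsub F n j ↔ ∀ i : Fin n, j ≤ (i : ℕ) → v i = 0 :=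
  Iff.rfl

/-- the coordinate subspace has the expected dimension -/
noncomputable def WsubEquiv {j : ℕ} (hj : j ≤ n) : Wsub F n j ≃ₗ[F] (Fin j → F) where
  toFun v := fun a => v.1 (Fin.castLE hj a)
  invFun w := ⟨fun i => if h : (i : ℕ) < j then w ⟨i, h⟩ else 0, by
    intro i hi
    simp only
    rw [dif_neg (by omega)]⟩
  left_inv := by
    rintro ⟨v, hv⟩
    apply Subtype.ext
    funext i
    simp only
    by_cases h : (i : ℕ) < j
    · rw [dif_pos h]; rfl
    · rw [dif_neg h]
      exact (hv i (by omega)).symm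
  right_inv := by
    intro w
    funext a
    simp
  map_add' := by
    intro a b
    rfl
  map_smul' := by
    intro c a
    rfl

theorem finrank_Wsub {j : ℕ} (hj : j ≤ n) : finrank F (Wsub F n j) = j := by
  rw [(WsubEquiv hj).finrank_eq, Module.finrank_fin_fun]

/-- elementary transvections in `GL_n` -/
noncomputable def elemT (a b : Fin n) (hab : a ≠ b) : Matrix.GeneralLinearGroup (Fin n) F :=
  Matrix.GeneralLinearGroup.mkOfDetNeZero (Matrix.transvection a b (1 : F)) (by
    rw [Matrix.det_transvection_of_ne a b hab]; exact one_ne_zero)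

theorem elemT_mulVec (a b : Fin n) (hab : a ≠ b) (v : Fin n → F) :
    (elemT a b hab : Matrix.GeneralLinearGroup (Fin n) F).val *ᵥ v =
      v + v b • (Pi.single a 1 : Fin n → F) := by
  change (Matrix.transvection a b (1 : F)) *ᵥ v = _
  unfold Matrix.transvection
  rw [Matrix.add_mulVec, Matrix.one_mulVec]
  congr 1
  ext i
  simp only [Matrix.mulVec, dotProduct, Matrix.single_apply, Pi.smul_apply, Pi.single_apply,
    smul_eq_mul]
  by_cases h : i = a
  · subst h
    simp
  · have h' : ¬ a = i := fun h' => h h'.symm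
    simp [h, h']

theorem elemT_mem {j : ℕ} (hj : j ≤ n) (a b : Fin n) (hab : a ≠ b)
    (hallow : ¬ (j ≤ (a : ℕ) ∧ (b : ℕ) < j)) : (elemT a b hab : GL (Fin n) F) ∈ P F n j := by
  rw [memP_entry hj]
  intro i l hi hl
  change (Matrix.transvection a b (1 : F)) i l = 0
  unfold Matrix.transvection
  rw [Matrix.add_apply, Matrix.one_apply, Matrix.single_apply]
  have h1 : i ≠ l := by
    intro h; rw [h] at hi; omega
  rw [if_neg h1, zero_add]
  split_ifs with h
  · exfalso
    apply hallow
    rw [h.1, h.2]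
    exact ⟨hi, hl⟩
  · rfl

theorem vec_decomp (v : Fin n → F) : v = ∑ a, v a • (Pi.single a 1 : Fin n → F) := by
  ext i
  simp [Finset.sum_apply, Pi.single_apply]

/-- subspaces invariant under a maximal parabolic -/
theorem invariant_subspace {j : ℕ} (hjn : j ≤ n) (S : Submodule F (Fin n → F))
    (hS : ∀ h ∈ P F n j, ∀ v ∈ S, (h : GL (Fin n) F).val *ᵥ v ∈ S) :
    S = ⊥ ∨ S = Wsub F n j ∨ S = ⊤ := by
  classical
  have key : ∀ v ∈ S, ∀ a b : Fin n, a ≠ b → ¬ (j ≤ (a : ℕ) ∧ (b : ℕ) < j) →
      v b • (Pi.single a 1 : Fin n → F) ∈ S := by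
    intro v hv a b hab hallow
    have h1 := hS _ (elemT_mem hjn a b hab hallow) v hv
    rw [elemT_mulVec] at h1
    have h2 := S.sub_mem h1 hv
    simpa using h2
  -- main extraction lemma
  have extract : ∀ v ∈ S, ∀ b : Fin n, v b ≠ 0 → ∀ A : Fin n → Prop,
      (∀ a, A a → a ≠ b → ¬ (j ≤ (a : ℕ) ∧ (b : ℕ) < j)) → (∀ a, ¬ A a → v a = 0) → A b →
      ∀ a, A a → (Pi.single a 1 : Fin n → F) ∈ S := by
    intro v hv b hb A hA hAv hAb
    have hoth : ∀ a, A a → a ≠ b → (Pi.single a 1 : Fin n → F) ∈ S := by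
      intro a ha hab
      have h1 := key v hv a b hab (hA a ha hab)
      have h2 := S.smul_mem (v b)⁻¹ h1
      rwa [smul_smul, inv_mul_cancel₀ hb, one_smul] at h2
    have hb' : (Pi.single b 1 : Fin n → F) ∈ S := by
      have h1 : v b • (Pi.single b 1 : Fin n → F) =
          v - ∑ a ∈ Finset.univ.erase b, v a • (Pi.single a 1 : Fin n → F) := by
        rw [eq_sub_iff_add_eq,
          Finset.add_sum_erase _ (fun a => v a • (Pi.single a 1 : Fin n → F)) (Finset.mem_univ b)]
        exact (vec_decomp v).symm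
      have h2 : v b • (Pi.single b 1 : Fin n → F) ∈ S := by
        rw [h1]
        apply S.sub_mem hv
        apply S.sum_mem
        intro a ha
        by_cases hAa : A a
        · exact S.smul_mem _ (hoth a hAa (Finset.ne_of_mem_erase ha))
        · rw [hAv a hAa, zero_smul]; exact S.zero_mem
      have h3 := S.smul_mem (v b)⁻¹ h2
      rwa [smul_smul, inv_mul_cancel₀ hb, one_smul] at h3
    intro a ha
    by_cases hab : a = b
    · rw [hab]; exact hb'
    · exact hoth a ha hab
  by_cases h1 : S ≤ Wsub F n j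
  · by_cases h0 : S = ⊥
    · left; exact h0
    · right; left
      obtain ⟨v, hv, hv0⟩ := (Submodule.ne_bot_iff S).mp h0
      obtain ⟨b, hb⟩ : ∃ b, v b ≠ 0 := by
        by_contra hcon
        push Not at hcon
        exact hv0 (funext hcon)
      have hvW := h1 hv
      have hbj : (b : ℕ) < j := by
        by_contra hcon
        exact hb (hvW b (by omega))
      have hall := extract v hv b hb (fun a => (a : ℕ) < j) (by
        intro a ha _ hcon; omega) (by
        intro a ha; exact hvW a (by omega)) hbj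
      apply le_antisymm h1
      intro w hw
      rw [vec_decomp w]
      apply S.sum_mem
      intro a _
      by_cases ha : (a : ℕ) < j
      · exact S.smul_mem _ (hall a ha)
      · rw [hw a (by omega), zero_smul]; exact S.zero_mem
  · right; right
    obtain ⟨v, hv, hvW⟩ := SetLike.not_le_iff_exists.mp h1
    obtain ⟨b, hbj, hb⟩ : ∃ b : Fin n, j ≤ (b : ℕ) ∧ v b ≠ 0 := by
      by_contra hcon
      push Not at hcon
      exact hvW (fun i hi => hcon i hi)
    have hall := extract v hv b hb (fun _ => True) (by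
      intro a _ _ hcon; omega) (by
      intro a ha; exact absurd trivial ha) trivial
    rw [eq_top_iff]
    intro w _
    rw [vec_decomp w]
    apply S.sum_mem
    intro a _
    exact S.smul_mem _ (hall a trivial)

/-- The stabilisers in GL_n(F), F finite, of the coordinate subspaces of dimensions k and n − k are isomorphic groups, but when 2k ≠ n (and 0 < k < n) no element of GL_n conjugates one onto the other. -/
theorem result {F : Type*} [Field F] [Finite F] (n k : ℕ) (hk0 : 0 < k) (hkn : k < n) (h2 : 2 * k ≠ n) : Nonempty (↥(Cfsg.stabilizing (Cfsg.glToMat (Fin n) F) {v : Fin n → F | ∀ i : Fin n, k ≤ (i : ℕ) → v i = 0}) ≃* ↥(Cfsg.stabilizing (Cfsg.glToMat (Fin n) F) {v : Fin n → F | ∀ i : Fin n, n - k ≤ (i : ℕ) → v i = 0})) ∧ ∀ g : Matrix.GeneralLinearGroup (Fin n) F, (Cfsg.stabilizing (Cfsg.glToMat (Fin n) F) {v : Fin n → F | ∀ i : Fin n, k ≤ (i : ℕ) → v i = 0}).map (MulAut.conj g).toMonoidHom ≠ Cfsg.stabilizing (Cfsg.glToMat (Fin n) F) {v : Fin n → F | ∀ i : Fin n, n - k ≤ (i : ℕ) → v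 i = 0} := by
  have hk : k ≤ n := le_of_lt hkn
  refine ⟨⟨((theta (F := F) (n := n)).subgroupMap (P F n k)).trans
    (MulEquiv.subgroupCongr (map_theta hk))⟩, ?_⟩
  intro g hconj
  change (P F n k).map (MulAut.conj g).toMonoidHom = P F n (n - k) at hconj
  let φ : (Fin n → F) →ₗ[F] (Fin n → F) := Matrix.mulVecLin g.val
  have hφ : ∀ v, φ v = g.val *ᵥ v := fun v => rfl
  have hφinj : Function.Injective φ := by
    intro v w hvw
    have := congrArg (fun x => (g⁻¹ : GL (Fin n) F).val *ᵥ x) hvw
    simp only [hφ, Matrix.mulVec_mulVec] at this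
    rw [← Units.val_mul, inv_mul_cancel] at this
    simpa using this
  set U := (Wsub F n k).map φ with hU
  have hUinv : ∀ h ∈ P F n (n - k), ∀ u ∈ U, (h : GL (Fin n) F).val *ᵥ u ∈ U := by
    intro h hh u hu
    rw [← hconj] at hh
    obtain ⟨p, hp, rfl⟩ := hh
    obtain ⟨v, hv, rfl⟩ := hu
    refine ⟨p.val *ᵥ v, (hp v).mp hv, ?_⟩
    rw [hφ, hφ]
    change _ = (g * p * g⁻¹ : GL (Fin n) F).val *ᵥ _
    have e1 : (g * p * g⁻¹ : GL (Fin n) F).val * g.val = g.val * p.val := by
      rw [← Units.val_mul, ← Units.val_mul]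
      congr 1
      group
    rw [Matrix.mulVec_mulVec, Matrix.mulVec_mulVec, e1]
  have hUdim : finrank F U = k := by
    rw [hU, ← (Submodule.equivMapOfInjective φ hφinj (Wsub F n k)).finrank_eq, finrank_Wsub hk]
  rcases invariant_subspace (Nat.sub_le n k) U hUinv with h | h | h
  · rw [h, finrank_bot] at hUdim; omega
  · rw [h, finrank_Wsub (Nat.sub_le n k)] at hUdim; omega
  · rw [h, finrank_top, Module.finrank_fin_fun] at hUdim; omega

end Cfsg.Agent.S0773
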