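-- Statement S0772
import Cfsg.Statements.S0772
import Mathlib
import Cfsg.Agent.S0773

set_option autoImplicit false
open Cfsg

namespace Cfsg.Agent.S0772

open Matrix Module Cfsg.Agent.S0771 Cfsg.Agent.S0773

variable {F : Type*} [Field F] {n : ℕ}

/-- the transvection `1 + u φᵀ` as an element of `GL_n` -/
noncomputable def tv (u φ : Fin n → F) (h : φ ⬝ᵥ u = 0) : GL (Fin n) F :=
  ⟨1 + vecMulVec u φ, 1 - vecMulVec u φ, by
    rw [add_mul, mul_sub, mul_sub, mul_one, one_mul, vecMulVec_mul_vecMulVec, h, zero_smul]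
    simp, by
    rw [sub_mul, mul_add, mul_add, mul_one, one_mul, vecMulVec_mul_vecMulVec, h, zero_smul]
    simp⟩

theorem tv_val (u φ : Fin n → F) (h : φ ⬝ᵥ u = 0) : (tv u φ h).val = 1 + vecMulVec u φ := rfl

/-- transvections in the parabolic -/
theorem tv_mem_P {k : ℕ} (hk : k ≤ n) (u φ : Fin n → F) (h : φ ⬝ᵥ u = 0)
    (h' : (∀ i : Fin n, k ≤ (i : ℕ) → u i = 0) ∨ (∀ j : Fin n, (j : ℕ) < k → φ j = 0)) :
    tv u φ h ∈ P F n k := by
  rw [memP_entry hk]
  intro i j hi hj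
  change (1 + vecMulVec u φ) i j = 0
  rw [Matrix.add_apply, Matrix.one_apply, vecMulVec_apply]
  have hij : i ≠ j := by
    intro e; rw [e] at hi; omega
  rw [if_neg hij, zero_add]
  rcases h' with h' | h'
  · rw [h' i hi, zero_mul]
  · rw [h' j hj, mul_zero]

/-- conjugating a transvection -/
theorem conj_tv (g : GL (Fin n) F) (u φ : Fin n → F) (h : φ ⬝ᵥ u = 0)
    (h' : (φ ᵥ* (g⁻¹ : GL (Fin n) F).val) ⬝ᵥ (g.val *ᵥ u) = 0) :
    g * tv u φ h * g⁻¹ = tv (g.val *ᵥ u) (φ ᵥ* (g⁻¹ : GL (Fin n) F).val) h' := by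
  apply Units.ext
  rw [Units.val_mul, Units.val_mul, tv_val, tv_val, mul_add, add_mul, mul_one, Units.mul_inv,
    mul_vecMulVec, vecMulVec_mul]

theorem conj_tv_dot (g : GL (Fin n) F) (u φ : Fin n → F) :
    (φ ᵥ* (g⁻¹ : GL (Fin n) F).val) ⬝ᵥ (g.val *ᵥ u) = φ ⬝ᵥ u := by
  rw [dotProduct_mulVec, vecMul_vecMul, Units.inv_mul, vecMul_one]

/-- a rank-one perturbation of the identity as an element of `GL_n` -/
noncomputable def gtv (d ψ : Fin n → F) (h : 1 + ψ ⬝ᵥ d ≠ 0) : GL (Fin n) F :=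
  Matrix.GeneralLinearGroup.mkOfDetNeZero (1 + vecMulVec d ψ) (by
    have : vecMulVec d ψ = replicateCol Unit d * replicateRow Unit ψ := by
      rw [← Matrix.vecMulVec_eq Unit]
    rw [this, det_one_add_replicateCol_mul_replicateRow]
    exact h)

theorem gtv_val (d ψ : Fin n → F) (h : 1 + ψ ⬝ᵥ d ≠ 0) : (gtv d ψ h).val = 1 + vecMulVec d ψ := rfl

theorem gtv_mem_P {k : ℕ} (hk : k ≤ n) (d ψ : Fin n → F) (h : 1 + ψ ⬝ᵥ d ≠ 0)
    (h' : ∀ j : Fin n, (j : ℕ) < k → ψ j = 0) : gtv d ψ h ∈ P F n k := by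
  rw [memP_entry hk]
  intro i j hi hj
  change (1 + vecMulVec d ψ) i j = 0
  rw [Matrix.add_apply, Matrix.one_apply, vecMulVec_apply]
  have hij : i ≠ j := by
    intro e; rw [e] at hi; omega
  rw [if_neg hij, zero_add, h' j hj, mul_zero]

/-- if `H` properly contains the parabolic then it contains every transvection -/
theorem all_tv_mem {k : ℕ} (hkn : k ≤ n) (H : Subgroup (GL (Fin n) F))
    (hPH : P F n k < H) (u φ : Fin n → F) (h : φ ⬝ᵥ u = 0) : tv u φ h ∈ H := by
  classical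
  obtain ⟨h₀, hh₀H, hh₀P⟩ := SetLike.exists_of_lt hPH
  have hP : P F n k ≤ H := le_of_lt hPH
  rw [memP_entry hkn] at hh₀P
  push Not at hh₀P
  obtain ⟨i₀, j₀, hi₀, hj₀, hne⟩ := hh₀P
  set u₀ : Fin n → F := h₀.val *ᵥ (Pi.single j₀ 1) with hu₀
  have hu₀i : u₀ i₀ ≠ 0 := by
    rw [hu₀, Matrix.mulVec_single_one]
    exact hne
  -- claim B
  have hB : ∀ (φ' : Fin n → F) (hφ' : φ' ⬝ᵥ u₀ = 0), tv u₀ φ' hφ' ∈ H := by
    intro φ' hφ'
    have h1 : (φ' ᵥ* h₀.val) ⬝ᵥ (Pi.single j₀ 1 : Fin n → F) = 0 := by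
      rw [← dotProduct_mulVec]; exact hφ'
    have h2 : tv (Pi.single j₀ 1) (φ' ᵥ* h₀.val) h1 ∈ H := by
      apply hP
      apply tv_mem_P hkn
      left
      intro i hi
      rw [Pi.single_apply, if_neg]
      intro e; rw [e] at hi; omega
    have h3 := H.mul_mem (H.mul_mem hh₀H h2) (H.inv_mem hh₀H)
    rw [conj_tv h₀ _ _ h1 (by rw [conj_tv_dot]; exact h1)] at h3
    have h4 : tv u₀ φ' hφ' = tv (h₀.val *ᵥ Pi.single j₀ 1)
        ((φ' ᵥ* h₀.val) ᵥ* (h₀⁻¹ : GL (Fin n) F).val) (by rw [conj_tv_dot]; exact h1) := by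
      apply Units.ext
      rw [tv_val, tv_val, vecMul_vecMul, Units.mul_inv, vecMul_one]
    rw [h4]
    exact h3
  -- the case u ∈ W
  by_cases huW : ∀ i : Fin n, k ≤ (i : ℕ) → u i = 0
  · exact hP (tv_mem_P hkn u φ h (Or.inl huW))
  push Not at huW
  obtain ⟨i₁, hi₁, hui₁⟩ := huW
  -- find ψ supported on indices ≥ k with ψ·u₀ = 1 and ψ·u ≠ 0
  have hψ : ∃ ψ : Fin n → F, (∀ j : Fin n, (j : ℕ) < k → ψ j = 0) ∧ ψ ⬝ᵥ u₀ = 1 ∧ ψ ⬝ᵥ u ≠ 0 := by
    have hψ' : ∃ ψ : Fin n → F, (∀ j : Fin n, (j : ℕ) < k → ψ j = 0) ∧ ψ ⬝ᵥ u₀ ≠ 0 ∧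
        ψ ⬝ᵥ u ≠ 0 := by
      have hs : ∀ (i : Fin n), k ≤ (i : ℕ) → ∀ j : Fin n, (j : ℕ) < k →
          (Pi.single i 1 : Fin n → F) j = 0 := by
        intro i hi j hj
        rw [Pi.single_apply, if_neg]
        intro e; rw [e] at hj; omega
      by_cases c1 : u i₀ = 0
      · by_cases c2 : u₀ i₁ = 0
        · refine ⟨Pi.single i₀ 1 + Pi.single i₁ 1, ?_, ?_, ?_⟩
          · intro j hj
            rw [Pi.add_apply, hs i₀ hi₀ j hj, hs i₁ hi₁ j hj, add_zero]
          · rw [add_dotProduct, single_dotProduct, single_dotProduct, c2]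
            simpa using hu₀i
          · rw [add_dotProduct, single_dotProduct, single_dotProduct, c1]
            simpa using hui₁
        · refine ⟨Pi.single i₁ 1, hs i₁ hi₁, ?_, ?_⟩
          · rw [single_dotProduct]; simpa using c2
          · rw [single_dotProduct]; simpa using hui₁
      · refine ⟨Pi.single i₀ 1, hs i₀ hi₀, ?_, ?_⟩
        · rw [single_dotProduct]; simpa using hu₀i
        · rw [single_dotProduct]; simpa using c1
    obtain ⟨ψ, h1, h2, h3⟩ := hψ'
    refine ⟨(ψ ⬝ᵥ u₀)⁻¹ • ψ, ?_, ?_, ?_⟩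
    · intro j hj
      rw [Pi.smul_apply, h1 j hj, smul_zero]
    · rw [smul_dotProduct, smul_eq_mul, inv_mul_cancel₀ h2]
    · rw [smul_dotProduct, smul_eq_mul]
      exact mul_ne_zero (inv_ne_zero h2) h3
  obtain ⟨ψ, hψW, hψu₀, hψu⟩ := hψ
  have hdet : 1 + ψ ⬝ᵥ (u - u₀) ≠ 0 := by
    rw [dotProduct_sub, hψu₀]
    simpa using hψu
  set p := gtv (u - u₀) ψ hdet with hp
  have hpH : p ∈ H := hP (gtv_mem_P hkn _ _ hdet hψW)
  have hpu₀ : p.val *ᵥ u₀ = u := by
    rw [hp, gtv_val, add_mulVec, one_mulVec, vecMulVec_mulVec, hψu₀]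
    simp
  have h1 : (φ ᵥ* p.val) ⬝ᵥ u₀ = 0 := by
    rw [← dotProduct_mulVec, hpu₀]; exact h
  have h2 := H.mul_mem (H.mul_mem hpH (hB _ h1)) (H.inv_mem hpH)
  rw [conj_tv p _ _ h1 (by rw [conj_tv_dot]; exact h1)] at h2
  have h3 : tv u φ h = tv (p.val *ᵥ u₀) ((φ ᵥ* p.val) ᵥ* (p⁻¹ : GL (Fin n) F).val)
      (by rw [conj_tv_dot]; exact h1) := by
    apply Units.ext
    rw [tv_val, tv_val, vecMul_vecMul, Units.mul_inv, vecMul_one, hpu₀]
  rw [h3]
  exact h2

theorem transvection_eq (a b : Fin n) (c : F) :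
    Matrix.transvection a b c = 1 + vecMulVec (c • (Pi.single a 1 : Fin n → F)) (Pi.single b 1) := by
  unfold Matrix.transvection
  congr 1
  ext i j
  simp only [Matrix.single_apply, vecMulVec_apply, Pi.smul_apply, Pi.single_apply, smul_eq_mul]
  by_cases h1 : a = i <;> by_cases h2 : b = j <;> simp [h1, h2, eq_comm]

/-- Maximal parabolics are maximal: over a finite field, for 0 < k < n the stabiliser in GL_n of the span of the first k coordinate vectors is a maximal proper subgroup. -/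
theorem result {F : Type*} [Field F] [Finite F] (n k : ℕ) (hk0 : 0 < k) (hkn : k < n) : IsCoatom (Cfsg.stabilizing (Cfsg.glToMat (Fin n) F) {v : Fin n → F | ∀ i : Fin n, k ≤ (i : ℕ) → v i = 0}) := by
  classical
  have hk : k ≤ n := le_of_lt hkn
  change IsCoatom (P F n k)
  constructor
  · -- P ≠ ⊤
    intro htop
    let a : Fin n := ⟨k, hkn⟩
    let b : Fin n := ⟨0, by omega⟩
    have hab : (Pi.single b 1 : Fin n → F) ⬝ᵥ (Pi.single a 1 : Fin n → F) = 0 := by
      rw [single_dotProduct, Pi.single_apply, if_neg]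
      · simp
      · intro e
        have := congrArg Fin.val e
        simp [a, b] at this
        omega
    have hmem : tv (Pi.single a 1) (Pi.single b 1) hab ∈ P F n k := by
      rw [htop]; trivial
    rw [memP_entry hk] at hmem
    have := hmem a b (le_refl k) hk0
    change (1 + vecMulVec (Pi.single a 1 : Fin n → F) (Pi.single b 1)) a b = 0 at this
    rw [Matrix.add_apply, vecMulVec_apply, Matrix.one_apply, if_neg] at this
    · simp at this
    · intro e
      have := congrArg Fin.val e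
      simp [a, b] at this
      omega
  · intro H hPH
    have hP : P F n k ≤ H := le_of_lt hPH
    -- matrices realised by elements of H
    let S : Set (Matrix (Fin n) (Fin n) F) := {M | ∃ x ∈ H, (x : GL (Fin n) F).val = M}
    have hSmul : ∀ M N, M ∈ S → N ∈ S → M * N ∈ S := by
      rintro _ _ ⟨x, hx, rfl⟩ ⟨y, hy, rfl⟩
      exact ⟨x * y, H.mul_mem hx hy, rfl⟩
    have hSone : (1 : Matrix (Fin n) (Fin n) F) ∈ S := ⟨1, H.one_mem, rfl⟩
    have hStv : ∀ t : Matrix.TransvectionStruct (Fin n) F, t.toMatrix ∈ S := by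
      intro t
      have hdot : (Pi.single t.j 1 : Fin n → F) ⬝ᵥ (t.c • (Pi.single t.i 1 : Fin n → F)) = 0 := by
        rw [dotProduct_smul, single_dotProduct, Pi.single_apply, if_neg (Ne.symm t.hij).symm.symm]
        simp
      refine ⟨tv _ _ hdot, all_tv_mem hk H hPH _ _ hdot, ?_⟩
      rw [tv_val, Matrix.TransvectionStruct.toMatrix, transvection_eq]
    have hSlist : ∀ L : List (Matrix.TransvectionStruct (Fin n) F),
        (L.map Matrix.TransvectionStruct.toMatrix).prod ∈ S := by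
      intro L
      induction L with
      | nil => simpa using hSone
      | cons t L ih =>
        rw [List.map_cons, List.prod_cons]
        exact hSmul _ _ (hStv t) ih
    rw [eq_top_iff]
    intro g _
    obtain ⟨L, L', D, hg⟩ := Matrix.Pivot.exists_list_transvec_mul_diagonal_mul_list_transvec g.val
    have hdet : (Matrix.diagonal D).det ≠ 0 := by
      have h1 := congrArg Matrix.det hg
      rw [Matrix.det_mul, Matrix.det_mul, Matrix.TransvectionStruct.det_toMatrix_prod,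
        Matrix.TransvectionStruct.det_toMatrix_prod, one_mul, mul_one] at h1
      rw [← h1]
      exact Matrix.GeneralLinearGroup.det_ne_zero g
    have hD : Matrix.diagonal D ∈ S := by
      refine ⟨Matrix.GeneralLinearGroup.mkOfDetNeZero (Matrix.diagonal D) hdet, hP ?_, rfl⟩
      rw [memP_entry hk]
      intro i j hi hj
      change Matrix.diagonal D i j = 0
      rw [Matrix.diagonal_apply, if_neg]
      intro e; rw [e] at hi; omega
    have hgS : g.val ∈ S := by
      rw [hg]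
      exact hSmul _ _ (hSmul _ _ (hSlist L) hD) (hSlist L')
    obtain ⟨x, hx, hxg⟩ := hgS
    have : x = g := Units.ext hxg
    rw [← this]
    exact hx

end Cfsg.Agent.S0772
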