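-- Statement S0774
import Cfsg.Statements.S0774
import Mathlib
import Cfsg.Agent.S0769

set_option autoImplicit false
open Cfsg

namespace Cfsg.Agent.S0774

open Matrix

section
variable {F : Type*} [Field F] {m : ℕ}

abbrev Vk (F : Type*) [Field F] (m : ℕ) (k : Fin m) : Set (Fin m ⊕ Fin m → F) :=
  {v : Fin m ⊕ Fin m → F | (∀ i : Fin m, (k : ℕ) < (i : ℕ) → v (Sum.inl i) = 0) ∧
    ∀ i : Fin m, v (Sum.inr i) = 0}

abbrev Bor (F : Type*) [Field F] (m : ℕ) : Subgroup (Matrix.symplecticGroup (Fin m) F) :=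
  ⨅ k : Fin m, Cfsg.stabilizing (Cfsg.spToMat m F) (Vk F m k)

/-- forward stabilisation suffices over a finite field -/
theorem stab_of_forward [Finite F] {ι : Type} [Fintype ι] [DecidableEq ι] (M N : Matrix ι ι F)
    (hNM : N * M = 1) (S : Set (ι → F)) (h : ∀ v ∈ S, M *ᵥ v ∈ S) (v : ι → F) :
    v ∈ S ↔ M *ᵥ v ∈ S := by
  refine ⟨h v, fun hv => ?_⟩
  let f : S → S := fun w => ⟨M *ᵥ w.1, h w.1 w.2⟩
  have hinj : Function.Injective f := by
    intro w₁ w₂ h12
    have h1 : M *ᵥ w₁.1 = M *ᵥ w₂.1 := congrArg Subtype.val h12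
    have h2 := congrArg (fun x => N *ᵥ x) h1
    simp only [mulVec_mulVec, hNM, one_mulVec] at h2
    exact Subtype.ext h2
  obtain ⟨w, hw⟩ := (Finite.injective_iff_surjective.mp hinj) ⟨M *ᵥ v, hv⟩
  have h1 : M *ᵥ w.1 = M *ᵥ v := congrArg Subtype.val hw
  have h2 := congrArg (fun x => N *ᵥ x) h1
  simp only [mulVec_mulVec, hNM, one_mulVec] at h2
  rw [← h2]
  exact w.2

theorem mem_Bor_iff [Finite F] (g : Matrix.symplecticGroup (Fin m) F) :
    g ∈ Bor F m ↔ (∀ i j : Fin m, g.1 (Sum.inr i) (Sum.inl j) = 0) ∧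
      ∀ i j : Fin m, j < i → g.1 (Sum.inl i) (Sum.inl j) = 0 := by
  rw [Subgroup.mem_iInf]
  constructor
  · intro h
    have key : ∀ j : Fin m, (fun x => g.1 x (Sum.inl j)) ∈ Vk F m j := by
      intro j
      have h1 : (Pi.single (Sum.inl j) 1 : Fin m ⊕ Fin m → F) ∈ Vk F m j := by
        constructor
        · intro i hi
          rw [Pi.single_eq_of_ne]
          intro h'
          have h'' : i = j := Sum.inl_injective h'
          rw [h''] at hi
          exact lt_irrefl _ hi
        · intro i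
          rw [Pi.single_eq_of_ne]
          exact Sum.inr_ne_inl
      have h2 := (h j _).mp h1
      change g.1 *ᵥ _ ∈ _ at h2
      rw [mulVec_single_one] at h2
      exact h2
    constructor
    · intro i j
      exact (key j).2 i
    · intro i j hij
      exact (key j).1 i hij
  · rintro ⟨hc, ha⟩ k
    have hinv : ((g⁻¹ : symplecticGroup (Fin m) F) : Matrix (Fin m ⊕ Fin m) (Fin m ⊕ Fin m) F) * g.1
        = 1 := by
      have := congrArg Subtype.val (inv_mul_cancel g)
      exact this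
    intro v
    change v ∈ Vk F m k ↔ g.1 *ᵥ v ∈ Vk F m k
    apply stab_of_forward g.1 _ hinv
    intro v hv
    constructor
    · intro i hi
      rw [show (g.1 *ᵥ v) (Sum.inl i) = ∑ x, g.1 (Sum.inl i) x * v x from rfl,
        Fintype.sum_sum_type]
      have e1 : ∑ j : Fin m, g.1 (Sum.inl i) (Sum.inl j) * v (Sum.inl j) = 0 := by
        apply Finset.sum_eq_zero
        intro j _
        by_cases hjk : (k : ℕ) < (j : ℕ)
        · rw [hv.1 j hjk, mul_zero]
        · have hji : j < i := by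
            rw [Fin.lt_def]
            omega
          rw [ha i j hji, zero_mul]
      have e2 : ∑ j : Fin m, g.1 (Sum.inl i) (Sum.inr j) * v (Sum.inr j) = 0 := by
        apply Finset.sum_eq_zero
        intro j _
        rw [hv.2 j, mul_zero]
      rw [e1, e2, add_zero]
    · intro i
      rw [show (g.1 *ᵥ v) (Sum.inr i) = ∑ x, g.1 (Sum.inr i) x * v x from rfl,
        Fintype.sum_sum_type]
      have e1 : ∑ j : Fin m, g.1 (Sum.inr i) (Sum.inl j) * v (Sum.inl j) = 0 := by
        apply Finset.sum_eq_zero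
        intro j _
        rw [hc i j, zero_mul]
      have e2 : ∑ j : Fin m, g.1 (Sum.inr i) (Sum.inr j) * v (Sum.inr j) = 0 := by
        apply Finset.sum_eq_zero
        intro j _
        rw [hv.2 j, mul_zero]
      rw [e1, e2, add_zero]

theorem gl_inv_mul (X : Matrix.GeneralLinearGroup (Fin m) F) :
    ((X⁻¹ : Matrix.GeneralLinearGroup (Fin m) F) : Matrix (Fin m) (Fin m) F) *
      (X : Matrix (Fin m) (Fin m) F) = 1 := by
  rw [← Matrix.GeneralLinearGroup.coe_mul, inv_mul_cancel, Matrix.GeneralLinearGroup.coe_one]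

theorem gl_mul_inv (X : Matrix.GeneralLinearGroup (Fin m) F) :
    (X : Matrix (Fin m) (Fin m) F) *
      ((X⁻¹ : Matrix.GeneralLinearGroup (Fin m) F) : Matrix (Fin m) (Fin m) F) = 1 := by
  rw [← Matrix.GeneralLinearGroup.coe_mul, mul_inv_cancel, Matrix.GeneralLinearGroup.coe_one]

/-- the parametrisation of the Borel subgroup -/
def phiMat (L : Matrix.GeneralLinearGroup (Fin m) F) (S : Matrix (Fin m) (Fin m) F) :
    Matrix (Fin m ⊕ Fin m) (Fin m ⊕ Fin m) F :=
  fromBlocks ((L : Matrix (Fin m) (Fin m) F)ᵀ) ((L : Matrix (Fin m) (Fin m) F)ᵀ * S) 0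
    ((L⁻¹ : Matrix.GeneralLinearGroup (Fin m) F) : Matrix (Fin m) (Fin m) F)

theorem phiMat_mem (L : Matrix.GeneralLinearGroup (Fin m) F) (S : Matrix (Fin m) (Fin m) F)
    (hS : Sᵀ = S) : phiMat L S ∈ Matrix.symplecticGroup (Fin m) F := by
  unfold phiMat
  rw [SymplecticGroup.fromBlocks_mem_iff]
  refine ⟨by simp, ?_, ?_⟩
  · rw [transpose_mul, transpose_transpose, hS, Matrix.mul_assoc, gl_mul_inv, Matrix.mul_one,
      ← Matrix.mul_assoc, ← transpose_mul, gl_mul_inv, transpose_one, Matrix.one_mul]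
  · rw [transpose_transpose, gl_mul_inv]
    simp

theorem phi_mem_Bor [Finite F] (L : Matrix.GeneralLinearGroup (Fin m) F)
    (hL : ∀ i j : Fin m, i < j → (L : Matrix (Fin m) (Fin m) F) i j = 0)
    (S : Matrix (Fin m) (Fin m) F) (hS : Sᵀ = S) :
    (⟨phiMat L S, phiMat_mem L S hS⟩ : Matrix.symplecticGroup (Fin m) F) ∈ Bor F m := by
  rw [mem_Bor_iff]
  constructor
  · intro i j
    change phiMat L S (Sum.inr i) (Sum.inl j) = 0
    unfold phiMat
    rw [fromBlocks_apply₂₁, Matrix.zero_apply]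
  · intro i j hij
    change phiMat L S (Sum.inl i) (Sum.inl j) = 0
    unfold phiMat
    rw [fromBlocks_apply₁₁, transpose_apply]
    exact hL j i hij

theorem phi_surj [Finite F] (g : Matrix.symplecticGroup (Fin m) F) (hg : g ∈ Bor F m) :
    ∃ (L : Matrix.GeneralLinearGroup (Fin m) F) (S : Matrix (Fin m) (Fin m) F),
      (∀ i j : Fin m, i < j → (L : Matrix (Fin m) (Fin m) F) i j = 0) ∧ Sᵀ = S ∧
        phiMat L S = g.1 := by
  rw [mem_Bor_iff] at hg
  obtain ⟨hc, ha⟩ := hg
  obtain ⟨M, hM⟩ : ∃ M : Matrix (Fin m ⊕ Fin m) (Fin m ⊕ Fin m) F, M = g.1 := ⟨_, rfl⟩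
  rw [← hM] at hc ha ⊢
  obtain ⟨a, ha'⟩ : ∃ a, a = M.toBlocks₁₁ := ⟨_, rfl⟩
  obtain ⟨b, hb'⟩ : ∃ b, b = M.toBlocks₁₂ := ⟨_, rfl⟩
  obtain ⟨c, hc'⟩ : ∃ c, c = M.toBlocks₂₁ := ⟨_, rfl⟩
  obtain ⟨d, hd'⟩ : ∃ d, d = M.toBlocks₂₂ := ⟨_, rfl⟩
  have hMb : M = fromBlocks a b c d := by
    rw [ha', hb', hc', hd', fromBlocks_toBlocks]
  have hc0 : c = 0 := by
    rw [hc']
    ext i j
    exact hc i j
  have haa : ∀ i j : Fin m, j < i → a i j = 0 := by
    intro i j hij
    rw [ha']
    exact ha i j hij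
  have hmem : fromBlocks a b c d ∈ Matrix.symplecticGroup (Fin m) F := by
    rw [← hMb, hM]; exact g.2
  rw [SymplecticGroup.fromBlocks_mem_iff, hc0] at hmem
  have had : aᵀ * d = 1 := by
    have := hmem.2.2
    simpa using this
  have hbd : bᵀ * d = dᵀ * b := hmem.2.1
  have hda : d * aᵀ = 1 := mul_eq_one_comm.mp had
  have h3 : a * dᵀ = 1 := by
    have := congrArg transpose hda
    rw [transpose_mul, transpose_transpose, transpose_one] at this
    exact this
  refine ⟨⟨aᵀ, d, had, hda⟩, dᵀ * b, ?_, ?_, ?_⟩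
  · intro i j hij
    change aᵀ i j = 0
    rw [transpose_apply]
    exact haa j i hij
  · rw [transpose_mul, transpose_transpose, hbd]
  · rw [hMb, hc0]
    unfold phiMat
    change fromBlocks (aᵀᵀ) (aᵀᵀ * (dᵀ * b)) 0 d = _
    rw [transpose_transpose, ← Matrix.mul_assoc, h3, Matrix.one_mul]

/-- symmetric matrices are parametrised by their lower triangle and diagonal -/
def symEquiv : {S : Matrix (Fin m) (Fin m) F // Sᵀ = S} ≃
    ((i : Fin m) → (Fin i → F)) × (Fin m → F) where
  toFun S := (fun i k => S.1 i ⟨k, lt_trans k.2 i.2⟩, fun i => S.1 i i)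
  invFun p := ⟨Matrix.of fun i j => if h : j < i then p.1 i ⟨j, h⟩ else
      if h' : i < j then p.1 j ⟨i, h'⟩ else p.2 i, by
    ext i j
    simp only [transpose_apply, of_apply]
    rcases lt_trichotomy i j with h | h | h
    · have h1 : ¬ j < i := not_lt.mpr h.le
      simp [h, h1]
    · subst h; simp
    · have h1 : ¬ i < j := not_lt.mpr h.le
      simp [h, h1]⟩
  left_inv S := by
    apply Subtype.ext
    ext i j
    simp only [of_apply]
    rcases lt_trichotomy i j with h | h | h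
    · have h1 : ¬ j < i := not_lt.mpr h.le
      simp only [h1, h, dif_neg, dif_pos, not_false_eq_true]
      exact congrFun (congrFun S.2 i) j
    · subst h; simp
    · simp [h]
  right_inv p := by
    apply Prod.ext
    · funext i k
      have : (⟨k, lt_trans k.2 i.2⟩ : Fin m) < i := k.2
      simp [this]
    · funext i
      simp

theorem card_sym [Fintype F] {q : ℕ} (hF : Fintype.card F = q) :
    Nat.card {S : Matrix (Fin m) (Fin m) F // Sᵀ = S} = q ^ (m * (m - 1) / 2) * q ^ m := by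
  classical
  rw [Nat.card_congr symEquiv, Nat.card_prod, Nat.card_eq_fintype_card, Nat.card_eq_fintype_card,
    Fintype.card_pi, Fintype.card_fun, Fintype.card_fin, hF]
  congr 1
  simp only [Fintype.card_fun, Fintype.card_fin, hF]
  rw [Finset.prod_pow_eq_pow_sum, Fin.sum_univ_eq_sum_range (fun i => i) m, Finset.sum_range_id]

end

/-- Borel subgroup of the symplectic group: the elements of Sp_2m(q) stabilising each of the totally isotropic coordinate subspaces ⟨e_0, ..., e_k⟩ (k < m) form a subgroup of order q^(m²) (q − 1)^m. -/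
theorem result {F : Type*} [Field F] [Fintype F] {q : ℕ} (hF : Fintype.card F = q) (m : ℕ) : Nat.card ↥(⨅ k : Fin m, Cfsg.stabilizing (Cfsg.spToMat m F) {v : Fin m ⊕ Fin m → F | (∀ i : Fin m, (k : ℕ) < (i : ℕ) → v (Sum.inl i) = 0) ∧ ∀ i : Fin m, v (Sum.inr i) = 0}) = q ^ (m ^ 2) * (q - 1) ^ m := by
  classical
  change Nat.card (Bor F m) = _
  let Φ : {g : Matrix.GeneralLinearGroup (Fin m) F //
        ∀ i j : Fin m, i < j → (g : Matrix (Fin m) (Fin m) F) i j = 0} ×
      {S : Matrix (Fin m) (Fin m) F // Sᵀ = S} → Bor F m :=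
    fun p => ⟨⟨phiMat p.1.1 p.2.1, phiMat_mem p.1.1 p.2.1 p.2.2⟩,
      phi_mem_Bor p.1.1 p.1.2 p.2.1 p.2.2⟩
  have hbij : Function.Bijective Φ := by
    constructor
    · intro p p' h
      have h0 : phiMat p.1.1 p.2.1 = phiMat p'.1.1 p'.2.1 :=
        congrArg (fun x : Bor F m => (x.1.1 : Matrix (Fin m ⊕ Fin m) (Fin m ⊕ Fin m) F)) h
      unfold phiMat at h0
      rw [fromBlocks_inj] at h0
      obtain ⟨h1, h2, -, -⟩ := h0
      have h3 : p.1.1 = p'.1.1 := Units.ext (transpose_injective h1)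
      have h4 : p.2.1 = p'.2.1 := by
        rw [h3] at h2
        have := congrArg (fun X => ((p'.1.1⁻¹ : Matrix.GeneralLinearGroup (Fin m) F) :
          Matrix (Fin m) (Fin m) F)ᵀ * X) h2
        simp only [← Matrix.mul_assoc, ← transpose_mul, gl_mul_inv, transpose_one,
          Matrix.one_mul] at this
        exact this
      exact Prod.ext (Subtype.ext h3) (Subtype.ext h4)
    · intro g
      obtain ⟨L, S, hL, hS, h⟩ := phi_surj g.1 g.2
      exact ⟨(⟨L, hL⟩, ⟨S, hS⟩), Subtype.ext (Subtype.ext h)⟩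
  rw [← Nat.card_congr (Equiv.ofBijective Φ hbij), Nat.card_prod, Cfsg.Agent.S0769.result hF m,
    card_sym hF]
  obtain ⟨c, hc⟩ := Nat.even_mul_pred_self m
  have h1 : m * (m - 1) / 2 = c := by omega
  have h2 : m ^ 2 = c + c + m := by
    rw [← hc]
    cases m with
    | zero => rfl
    | succ k => simp only [Nat.add_sub_cancel]; ring
  rw [h1, h2, pow_add, pow_add]
  ring

end Cfsg.Agent.S0774
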