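-- Statement S0828
import Cfsg.Statements.S0828
import Mathlib
import Cfsg.Agent.S0776

set_option autoImplicit false
open Cfsg

namespace Cfsg.Agent.S0828

open Matrix Module Cfsg.Agent.Lib.Helper6 Cfsg.Agent.S0776

theorem card_fiber {A B : Type*} [Finite A] [Finite B] (f : A → B) (k : ℕ)
    (h : ∀ b, Nat.card {a // f a = b} = k) : Nat.card A = k * Nat.card B := by
  haveI := Fintype.ofFinite B
  rw [← Nat.card_congr (Equiv.sigmaFiberEquiv f), Nat.card_sigma]
  simp [h, Nat.card_eq_fintype_card, mul_comm]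

section
variable {F : Type*} [Field F] [Fintype F] {V : Type*} [AddCommGroup V] [Module F V] [Finite V]

theorem card_diff (S W : Submodule F V) (h : S ≤ W) :
    Nat.card {w : V // w ∈ W ∧ w ∉ S} = Nat.card W - Nat.card S := by
  have e1 : Nat.card {w : V // w ∈ W ∧ w ∉ S} = ((W : Set V) \ (S : Set V)).ncard := by
    rw [← Nat.card_coe_set_eq]; rfl
  rw [e1, Set.ncard_sdiff h (Set.toFinite _), ← Nat.card_coe_set_eq, ← Nat.card_coe_set_eq]
  rfl

theorem card_sub {q : ℕ} (hF : Fintype.card F = q) (W : Submodule F V) :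
    Nat.card W = q ^ finrank F W := by
  haveI : Module.Finite F V := Module.Finite.of_finite
  rw [natCard_eq_pow_finrank (K := F) (V := W), Nat.card_eq_fintype_card, hF]

end

section
variable {F : Type*} [Field F] [Fintype F]

local notation "V4" => (Fin 2 ⊕ Fin 2 → F)

/-- the perpendicular hyperplane of a nonzero vector has dimension 3 -/
theorem finrank_perp (v : V4) (hv : v ≠ 0) : finrank F (LinearMap.ker (sB 2 F v)) = 3 := by
  have hne : sB 2 F v ≠ 0 := by
    intro h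
    apply hv
    apply sB_nondeg 2 v
    intro y
    rw [← sB_apply, h]
    rfl
  have hsurj : LinearMap.range (sB 2 F v) = ⊤ :=
    LinearMap.range_eq_top.mpr (LinearMap.surjective_of_ne_zero hne)
  have h1 := LinearMap.finrank_range_add_finrank_ker (sB 2 F v)
  rw [hsurj, finrank_top, Module.finrank_self, Module.finrank_pi, Fintype.card_sum,
    Fintype.card_fin] at h1
  omega

theorem span_pair_isotropic (v w : V4) (hvw : Cfsg.sympForm 2 F v w = 0) :
    ∀ x ∈ Submodule.span F {v, w}, ∀ y ∈ Submodule.span F {v, w}, Cfsg.sympForm 2 F x y = 0 := by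
  intro x hx y hy
  rw [Submodule.mem_span_pair] at hx hy
  obtain ⟨a, b, rfl⟩ := hx
  obtain ⟨c, d, rfl⟩ := hy
  simp only [sympForm_add_left, sympForm_add_right, sympForm_smul_left, sympForm_smul_right,
    sympForm_self, hvw, sympForm_swap w v]
  ring

theorem finrank_span_pair (v w : V4) (hv : v ≠ 0) (hw : w ∉ Submodule.span F {v}) :
    finrank F (Submodule.span F {v, w}) = 2 := by
  have hli : LinearIndependent F ![v, w] := by
    rw [LinearIndependent.pair_iff' hv]
    intro a ha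
    apply hw
    rw [← ha]
    exact Submodule.smul_mem _ _ (Submodule.subset_span rfl)
  have h1 := finrank_span_eq_card hli
  have h2 : Set.range ![v, w] = {v, w} := by
    ext x
    simp [eq_comm, or_comm]
  rw [h2] at h1
  rw [h1]
  rfl

theorem two_le_card {q : ℕ} (hF : Fintype.card F = q) : 2 ≤ q := by
  rw [← hF]; exact Fintype.one_lt_card

theorem lines_through {q : ℕ} (hF : Fintype.card F = q) (v : V4) (hv : v ≠ 0) :
    Nat.card {W : Submodule F V4 // finrank F W = 2 ∧ v ∈ W ∧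
      ∀ u ∈ W, ∀ w ∈ W, Cfsg.sympForm 2 F u w = 0} = q + 1 := by
  classical
  have hq := two_le_card hF
  let f : {w : V4 // w ∈ LinearMap.ker (sB 2 F v) ∧ w ∉ Submodule.span F {v}} →
      {W : Submodule F V4 // finrank F W = 2 ∧ v ∈ W ∧
        ∀ u ∈ W, ∀ w ∈ W, Cfsg.sympForm 2 F u w = 0} := fun a =>
    ⟨Submodule.span F {v, a.1}, finrank_span_pair v a.1 hv a.2.2,
      Submodule.subset_span (by simp), span_pair_isotropic v a.1 (LinearMap.mem_ker.mp a.2.1)⟩
  have hfib : ∀ W, Nat.card {a // f a = W} = q ^ 2 - q := by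
    intro W
    have hvW : Submodule.span F {v} ≤ W.1 := by
      rw [Submodule.span_singleton_le_iff_mem]; exact W.2.2.1
    have hc : Nat.card {w : V4 // w ∈ W.1 ∧ w ∉ Submodule.span F {v}} = q ^ 2 - q := by
      rw [card_diff _ _ hvW, card_sub hF, card_sub hF, W.2.1, finrank_span_singleton hv, pow_one]
    rw [← hc]
    apply Nat.card_congr
    refine
      { toFun := fun a => ⟨a.1.1, ?_, a.1.2.2⟩
        invFun := fun w => ⟨⟨w.1, ?_, w.2.2⟩, ?_⟩
        left_inv := fun a => Subtype.ext (Subtype.ext rfl)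
        right_inv := fun w => Subtype.ext rfl }
    · have h1 : Submodule.span F {v, a.1.1} = W.1 := congrArg Subtype.val a.2
      rw [← h1]
      exact Submodule.subset_span (by simp)
    · exact LinearMap.mem_ker.mpr (W.2.2.2 v W.2.2.1 w.1 w.2.1)
    · apply Subtype.ext
      change Submodule.span F {v, w.1} = W.1
      apply Submodule.eq_of_le_of_finrank_eq
      · rw [Submodule.span_le]
        intro x hx
        rcases hx with rfl | rfl
        · exact W.2.2.1
        · exact w.2.1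
      · rw [finrank_span_pair v w.1 hv w.2.2, W.2.1]
  have h1 := card_fiber f (q ^ 2 - q) hfib
  have hvk : Submodule.span F {v} ≤ LinearMap.ker (sB 2 F v) := by
    rw [Submodule.span_singleton_le_iff_mem, LinearMap.mem_ker]
    exact sympForm_self v
  rw [card_diff _ _ hvk, card_sub hF, card_sub hF, finrank_perp v hv, finrank_span_singleton hv,
    pow_one] at h1
  have h2 : q ^ 3 - q = (q ^ 2 - q) * (q + 1) := by
    have e1 : q ≤ q ^ 2 := by nlinarith
    have e2 : q ≤ q ^ 3 := by nlinarith [pow_pos (by omega : 0 < q) 2]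
    zify [e1, e2]
    ring
  rw [h2] at h1
  have hpos : 0 < q ^ 2 - q := by
    have : q < q ^ 2 := by nlinarith
    omega
  exact (Nat.eq_of_mul_eq_mul_left hpos h1).symm

end

theorem result {F : Type*} [Field F] [Fintype F] {q : ℕ} (hF : Fintype.card F = q) : Nat.card {W : Submodule F (Fin 2 ⊕ Fin 2 → F) // Module.finrank F W = 2 ∧ ∀ u ∈ W, ∀ v ∈ W, Cfsg.sympForm 2 F u v = 0} = (q + 1) * (q ^ 2 + 1) ∧ ∀ v : Fin 2 ⊕ Fin 2 → F, v ≠ 0 → Nat.card {W : Submodule F (Fin 2 ⊕ Fin 2 → F) // Module.finrank F W = 2 ∧ v ∈ W ∧ ∀ u ∈ W, ∀ w ∈ W, Cfsg.sympForm 2 F u w = 0} = q + 1 := by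
  classical
  refine ⟨?_, fun v hv => lines_through hF v hv⟩
  have hq := two_le_card hF
  let g₂ : {p : (Fin 2 ⊕ Fin 2 → F) × Submodule F (Fin 2 ⊕ Fin 2 → F) //
        (Module.finrank F p.2 = 2 ∧ ∀ u ∈ p.2, ∀ v ∈ p.2, Cfsg.sympForm 2 F u v = 0) ∧
          p.1 ∈ p.2 ∧ p.1 ≠ 0} →
      {W : Submodule F (Fin 2 ⊕ Fin 2 → F) // Module.finrank F W = 2 ∧
        ∀ u ∈ W, ∀ v ∈ W, Cfsg.sympForm 2 F u v = 0} := fun p => ⟨p.1.2, p.2.1⟩
  have hfib₂ : ∀ W, Nat.card {p // g₂ p = W} = q ^ 2 - 1 := by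
    intro W
    have hc : Nat.card {w : Fin 2 ⊕ Fin 2 → F // w ∈ W.1 ∧
        w ∉ (⊥ : Submodule F (Fin 2 ⊕ Fin 2 → F))} = q ^ 2 - 1 := by
      rw [card_diff _ _ bot_le, card_sub hF, card_sub hF, W.2.1, finrank_bot, pow_zero]
    rw [← hc]
    apply Nat.card_congr
    refine
      { toFun := fun p => ⟨p.1.1.1, ?_, ?_⟩
        invFun := fun w => ⟨⟨(w.1, W.1), W.2, w.2.1, ?_⟩, rfl⟩
        left_inv := fun p => ?_
        right_inv := fun w => Subtype.ext rfl }
    · have h1 : p.1.1.2 = W.1 := congrArg Subtype.val p.2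
      rw [← h1]
      exact p.1.2.2.1
    · rw [Submodule.mem_bot]
      exact p.1.2.2.2
    · intro h0
      exact w.2.2 ((Submodule.mem_bot F).mpr h0)
    · have h1 : p.1.1.2 = W.1 := congrArg Subtype.val p.2
      exact Subtype.ext (Subtype.ext (Prod.ext rfl h1.symm))
  let g₁ : {p : (Fin 2 ⊕ Fin 2 → F) × Submodule F (Fin 2 ⊕ Fin 2 → F) //
        (Module.finrank F p.2 = 2 ∧ ∀ u ∈ p.2, ∀ v ∈ p.2, Cfsg.sympForm 2 F u v = 0) ∧
          p.1 ∈ p.2 ∧ p.1 ≠ 0} → {v : Fin 2 ⊕ Fin 2 → F // v ≠ 0} := fun p => ⟨p.1.1, p.2.2.2⟩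
  have hfib₁ : ∀ v, Nat.card {p // g₁ p = v} = q + 1 := by
    intro v
    rw [← lines_through hF v.1 v.2]
    apply Nat.card_congr
    refine
      { toFun := fun p => ⟨p.1.1.2, p.1.2.1.1, ?_, p.1.2.1.2⟩
        invFun := fun W => ⟨⟨(v.1, W.1), ⟨W.2.1, W.2.2.2⟩, W.2.2.1, v.2⟩, rfl⟩
        left_inv := fun p => ?_
        right_inv := fun W => Subtype.ext rfl }
    · have h1 : p.1.1.1 = v.1 := congrArg Subtype.val p.2
      rw [← h1]
      exact p.1.2.2.1
    · have h1 : p.1.1.1 = v.1 := congrArg Subtype.val p.2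
      exact Subtype.ext (Subtype.ext (Prod.ext h1.symm rfl))
  have h2 := card_fiber g₂ (q ^ 2 - 1) hfib₂
  have h1 := card_fiber g₁ (q + 1) hfib₁
  have hnz : Nat.card {v : Fin 2 ⊕ Fin 2 → F // v ≠ 0} = q ^ 4 - 1 := by
    have hc : Nat.card {w : Fin 2 ⊕ Fin 2 → F // w ∈ (⊤ : Submodule F (Fin 2 ⊕ Fin 2 → F)) ∧
        w ∉ (⊥ : Submodule F (Fin 2 ⊕ Fin 2 → F))} = q ^ 4 - 1 := by
      rw [card_diff _ _ bot_le, card_sub hF, card_sub hF, finrank_top, finrank_bot, pow_zero,
        Module.finrank_pi, Fintype.card_sum, Fintype.card_fin]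
    rw [← hc]
    apply Nat.card_congr
    exact
      { toFun := fun v => ⟨v.1, Submodule.mem_top, fun h => v.2 ((Submodule.mem_bot F).mp h)⟩
        invFun := fun w => ⟨w.1, fun h => w.2.2 ((Submodule.mem_bot F).mpr h)⟩
        left_inv := fun v => rfl
        right_inv := fun w => rfl }
  rw [hnz] at h1
  rw [h1] at h2
  have h3 : (q + 1) * (q ^ 4 - 1) = (q ^ 2 - 1) * ((q + 1) * (q ^ 2 + 1)) := by
    have e1 : 1 ≤ q ^ 2 := Nat.one_le_pow _ _ (by omega)
    have e2 : 1 ≤ q ^ 4 := Nat.one_le_pow _ _ (by omega)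
    zify [e1, e2]
    ring
  rw [h3] at h2
  have hpos : 0 < q ^ 2 - 1 := by
    have : 1 < q ^ 2 := by nlinarith
    omega
  exact (Nat.eq_of_mul_eq_mul_left hpos h2).symm

end Cfsg.Agent.S0828
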