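-- Statement S0775
import Cfsg.Statements.S0775
import Mathlib
import Cfsg.Agent.S0828
import Cfsg.Agent.S0749
import Cfsg.Agent.S0245
import Cfsg.Agent.S0774

set_option autoImplicit false
open Cfsg

namespace Cfsg.Agent.S0775

open Matrix Module Cfsg.Agent.Lib.Helper6 Cfsg.Agent.S0776 Cfsg.Agent.S0828

section
variable {F : Type*} [Field F] {m : ℕ}

theorem sB_nondegenerate (m : ℕ) : (sB m F).Nondegenerate := by
  have hrefl : (sB m F).IsRefl := (sB_alt m).isRefl
  have hr : LinearMap.IsRefl (sB m F) := fun x y h => hrefl x y h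
  exact (LinearMap.IsRefl.nondegenerate_iff_separatingLeft hr).mpr
    (fun u hu => sB_nondeg m u hu)

/-- isotropic frames -/
abbrev IsoFrame (F : Type*) [Field F] (m k : ℕ) : Type _ :=
  {s : Fin k → (Fin m ⊕ Fin m → F) // LinearIndependent F s ∧
    ∀ i j, Cfsg.sympForm m F (s i) (s j) = 0}

theorem mem_perp_iff {k : ℕ} (s : Fin k → (Fin m ⊕ Fin m → F)) (v : Fin m ⊕ Fin m → F) :
    v ∈ (sB m F).orthogonal (Submodule.span F (Set.range s)) ↔
      ∀ i, Cfsg.sympForm m F (s i) v = 0 := by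
  rw [LinearMap.BilinForm.mem_orthogonal_iff]
  constructor
  · intro h i
    exact h (s i) (Submodule.subset_span ⟨i, rfl⟩)
  · intro h n hn
    change Cfsg.sympForm m F n v = 0
    refine Submodule.span_induction ?_ ?_ ?_ ?_ hn
    · rintro _ ⟨i, rfl⟩
      exact h i
    · exact sympForm_zero_left v
    · intro x y _ _ hx hy
      rw [sympForm_add_left, hx, hy, add_zero]
    · intro a x _ hx
      rw [sympForm_smul_left, hx, mul_zero]

theorem span_le_perp {k : ℕ} (s : Fin k → (Fin m ⊕ Fin m → F))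
    (hiso : ∀ i j, Cfsg.sympForm m F (s i) (s j) = 0) :
    Submodule.span F (Set.range s) ≤ (sB m F).orthogonal (Submodule.span F (Set.range s)) := by
  rw [Submodule.span_le]
  rintro _ ⟨j, rfl⟩
  rw [SetLike.mem_coe, mem_perp_iff]
  intro i
  exact hiso i j

theorem span_isotropic {k : ℕ} (s : Fin k → (Fin m ⊕ Fin m → F))
    (hiso : ∀ i j, Cfsg.sympForm m F (s i) (s j) = 0) :
    ∀ a ∈ Submodule.span F (Set.range s), ∀ b ∈ Submodule.span F (Set.range s),
      Cfsg.sympForm m F a b = 0 := by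
  intro a ha b hb
  have h1 := span_le_perp s hiso hb
  rw [LinearMap.BilinForm.mem_orthogonal_iff] at h1
  exact h1 a ha

theorem iso_cons {k : ℕ} (s : Fin k → (Fin m ⊕ Fin m → F)) (v : Fin m ⊕ Fin m → F)
    (hs : ∀ i j, Cfsg.sympForm m F (s i) (s j) = 0)
    (hv : ∀ i, Cfsg.sympForm m F (s i) v = 0) (i j : Fin (k + 1)) :
    Cfsg.sympForm m F ((Fin.cons v s : Fin (k + 1) → (Fin m ⊕ Fin m → F)) i)
      ((Fin.cons v s : Fin (k + 1) → (Fin m ⊕ Fin m → F)) j) = 0 := by
  refine Fin.cases ?_ (fun i' => ?_) i <;> refine Fin.cases ?_ (fun j' => ?_) j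
  · simp only [Fin.cons_zero]
    exact sympForm_self _
  · simp only [Fin.cons_zero, Fin.cons_succ]
    rw [sympForm_swap, hv j', neg_zero]
  · simp only [Fin.cons_zero, Fin.cons_succ]
    exact hv i'
  · simp only [Fin.cons_succ]
    exact hs i' j'

/-- one more vector -/
def frameEquiv (k : ℕ) (b : IsoFrame F m k) :
    {s : IsoFrame F m (k + 1) // Fin.tail s.1 = b.1} ≃
    {v : Fin m ⊕ Fin m → F //
      v ∈ (sB m F).orthogonal (Submodule.span F (Set.range b.1)) ∧
        v ∉ Submodule.span F (Set.range b.1)} where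
  toFun s := ⟨s.1.1 0, by
      have h : s.1.1 0 ∈ (sB m F).orthogonal (Submodule.span F (Set.range (Fin.tail s.1.1))) :=
        (mem_perp_iff _ _).mpr (fun i => s.1.2.2 i.succ 0)
      rw [s.2] at h
      exact h, by
      have h := (linearIndependent_finSucc.mp s.1.2.1).2
      rw [s.2] at h
      exact h⟩
  invFun v := ⟨⟨Fin.cons v.1 b.1, linearIndependent_finCons.mpr ⟨b.2.1, v.2.2⟩,
    iso_cons b.1 v.1 b.2.2 ((mem_perp_iff _ _).mp v.2.1)⟩, Fin.tail_cons _ _⟩
  left_inv s := by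
    apply Subtype.ext
    apply Subtype.ext
    change Fin.cons (s.1.1 0) b.1 = s.1.1
    have h := Fin.cons_self_tail s.1.1
    rw [s.2] at h
    exact h
  right_inv v := by
    apply Subtype.ext
    change (Fin.cons v.1 b.1 : Fin (k + 1) → (Fin m ⊕ Fin m → F)) 0 = v.1
    rw [Fin.cons_zero]

end

section
variable {F : Type*} [Field F] [Fintype F] {m : ℕ}

theorem card_fiber_frame {q : ℕ} (hF : Fintype.card F = q) {k : ℕ}
    (s : Fin k → (Fin m ⊕ Fin m → F)) (hli : LinearIndependent F s)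
    (hiso : ∀ i j, Cfsg.sympForm m F (s i) (s j) = 0) :
    Nat.card {v : Fin m ⊕ Fin m → F //
      v ∈ (sB m F).orthogonal (Submodule.span F (Set.range s)) ∧
        v ∉ Submodule.span F (Set.range s)} = q ^ (2 * m - k) - q ^ k := by
  rw [card_diff _ _ (span_le_perp s hiso), card_sub hF, card_sub hF,
    LinearMap.BilinForm.finrank_orthogonal (sB_nondegenerate m), finrank_span_eq_card hli,
    Module.finrank_pi, Fintype.card_sum, Fintype.card_fin, Fintype.card_fin]
  have : m + m - k = 2 * m - k := by omega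
  rw [this]

theorem card_isoFrame {q : ℕ} (hF : Fintype.card F = q) (k : ℕ) :
    Nat.card (IsoFrame F m k) = ∏ i ∈ Finset.range k, (q ^ (2 * m - i) - q ^ i) := by
  induction k with
  | zero =>
    simp only [Finset.range_zero, Finset.prod_empty]
    haveI : Unique (IsoFrame F m 0) :=
      ⟨⟨⟨Fin.elim0, linearIndependent_empty_type, fun i => i.elim0⟩⟩,
        fun s => Subtype.ext (funext fun i => i.elim0)⟩
    exact Nat.card_unique
  | succ k ih =>
    have h1 := card_fiber (fun s : IsoFrame F m (k + 1) =>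
        (⟨Fin.tail s.1, (linearIndependent_finSucc.mp s.2.1).1,
          fun i j => s.2.2 i.succ j.succ⟩ : IsoFrame F m k)) (q ^ (2 * m - k) - q ^ k)
      (fun b => by
        rw [← card_fiber_frame hF b.1 b.2.1 b.2.2, ← Nat.card_congr (frameEquiv k b)]
        apply Nat.card_congr
        exact Equiv.subtypeEquivRight (fun s => by
          constructor
          · intro h
            exact congrArg Subtype.val h
          · intro h
            exact Subtype.ext h))
    rw [h1, Finset.prod_range_succ, ih, mul_comm]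

theorem sp_inv_mul (g : Matrix.symplecticGroup (Fin m) F) :
    ((g⁻¹ : Matrix.symplecticGroup (Fin m) F) : Matrix (Fin m ⊕ Fin m) (Fin m ⊕ Fin m) F) * g.1
      = 1 := congrArg Subtype.val (inv_mul_cancel g)

/-- Witt: the symplectic group is transitive on isotropic frames -/
theorem exists_sp_of_frames {k : ℕ} (s s' : IsoFrame F m k) :
    ∃ g : Matrix.symplecticGroup (Fin m) F, ∀ i, g.1 *ᵥ s.1 i = s'.1 i := by
  classical
  let bX : Basis (Fin k) F (Submodule.span F (Set.range s.1)) := Basis.span s.2.1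
  let bY : Basis (Fin k) F (Submodule.span F (Set.range s'.1)) := Basis.span s'.2.1
  let φ : Submodule.span F (Set.range s.1) ≃ₗ[F] Submodule.span F (Set.range s'.1) :=
    bX.equiv bY (Equiv.refl _)
  have hφ : ∀ x x' : Submodule.span F (Set.range s.1),
      sB m F (φ x : Fin m ⊕ Fin m → F) (φ x' : Fin m ⊕ Fin m → F) =
        sB m F (x : Fin m ⊕ Fin m → F) (x' : Fin m ⊕ Fin m → F) := by
    intro x x'
    rw [sB_apply, sB_apply, span_isotropic s.1 s.2.2 _ x.2 _ x'.2,
      span_isotropic s'.1 s'.2.2 _ (φ x).2 _ (φ x').2]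
  obtain ⟨g, hg, hgx⟩ := Cfsg.Agent.S0749.result (sB m F) (sB_nondegenerate m) (sB_alt m) _ _ φ hφ
  have e : ∀ x, LinearMap.toMatrix' g.toLinearMap *ᵥ x = g x := fun x => by
    rw [← Matrix.toLin'_apply, Matrix.toLin'_toMatrix']
    rfl
  refine ⟨⟨LinearMap.toMatrix' g.toLinearMap, ?_⟩, ?_⟩
  · rw [mem_symplecticGroup_iff_preserves]
    intro u v
    rw [e u, e v]
    exact hg u v
  · intro i
    change LinearMap.toMatrix' g.toLinearMap *ᵥ s.1 i = s'.1 i
    rw [e]
    have h1 : (⟨s.1 i, Submodule.subset_span ⟨i, rfl⟩⟩ : Submodule.span F (Set.range s.1)) = bX i := by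
      apply Subtype.ext
      rw [Basis.span_apply]
    have h2 := hgx ⟨s.1 i, Submodule.subset_span ⟨i, rfl⟩⟩
    rw [h1, Basis.equiv_apply] at h2
    change g (bX i : Fin m ⊕ Fin m → F) = _ at h2
    rw [Basis.span_apply] at h2
    change g (s.1 i) = s'.1 i
    rw [h2]
    simp only [Equiv.refl_apply]
    rw [Basis.span_apply]

theorem act_li {k : ℕ} (g : Matrix.symplecticGroup (Fin m) F) (s : Fin k → (Fin m ⊕ Fin m → F))
    (hs : LinearIndependent F s) : LinearIndependent F (fun i => g.1 *ᵥ s i) := by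
  have hker : LinearMap.ker (Matrix.mulVecLin g.1) = ⊥ := by
    rw [LinearMap.ker_eq_bot]
    intro x y hxy
    have h2 := congrArg (fun z => (g⁻¹ : Matrix.symplecticGroup (Fin m) F).1 *ᵥ z) hxy
    simp only [Matrix.mulVecLin_apply, Matrix.mulVec_mulVec, sp_inv_mul, Matrix.one_mulVec] at h2
    exact h2
  exact hs.map' (Matrix.mulVecLin g.1) hker

/-- the action on frames -/
def act {k : ℕ} (g : Matrix.symplecticGroup (Fin m) F) (s : IsoFrame F m k) : IsoFrame F m k :=
  ⟨fun i => g.1 *ᵥ s.1 i, act_li g s.1 s.2.1, fun i j => by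
    rw [(mem_symplecticGroup_iff_preserves g.1).mp g.2]
    exact s.2.2 i j⟩

theorem act_mul {k : ℕ} (g h : Matrix.symplecticGroup (Fin m) F) (s : IsoFrame F m k) :
    act (g * h) s = act g (act h s) := by
  apply Subtype.ext
  funext i
  change (g.1 * h.1) *ᵥ s.1 i = g.1 *ᵥ (h.1 *ᵥ s.1 i)
  rw [Matrix.mulVec_mulVec]

theorem act_one {k : ℕ} (s : IsoFrame F m k) : act (1 : Matrix.symplecticGroup (Fin m) F) s = s := by
  apply Subtype.ext
  funext i
  change (1 : Matrix (Fin m ⊕ Fin m) (Fin m ⊕ Fin m) F) *ᵥ s.1 i = s.1 i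
  rw [Matrix.one_mulVec]

theorem card_fiber_act {k : ℕ} (s₀ x : IsoFrame F m k) :
    Nat.card {g : Matrix.symplecticGroup (Fin m) F // act g s₀ = x} =
      Nat.card {g : Matrix.symplecticGroup (Fin m) F // act g s₀ = s₀} := by
  obtain ⟨gx, hgx⟩ := exists_sp_of_frames s₀ x
  have hgx' : act gx s₀ = x := Subtype.ext (funext hgx)
  apply Nat.card_congr
  exact
    { toFun := fun g => ⟨gx⁻¹ * g.1, by
        rw [act_mul, g.2, ← hgx', ← act_mul, inv_mul_cancel, act_one]⟩
      invFun := fun g => ⟨gx * g.1, by rw [act_mul, g.2, hgx']⟩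
      left_inv := fun g => Subtype.ext (by simp)
      right_inv := fun g => Subtype.ext (by simp) }

theorem card_sp_eq {k : ℕ} (s₀ : IsoFrame F m k) :
    Nat.card (Matrix.symplecticGroup (Fin m) F) =
      Nat.card {g : Matrix.symplecticGroup (Fin m) F // act g s₀ = s₀} *
        Nat.card (IsoFrame F m k) :=
  card_fiber (fun g => act g s₀) _ (fun x => card_fiber_act s₀ x)

theorem forward_of_frame {k : ℕ} (W : Submodule F (Fin m ⊕ Fin m → F)) (s₀ : IsoFrame F m k)
    (hs₀ : Submodule.span F (Set.range s₀.1) = W) (g : Matrix.symplecticGroup (Fin m) F)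
    (hg : ∀ i, g.1 *ᵥ s₀.1 i ∈ W) : ∀ v ∈ W, g.1 *ᵥ v ∈ W := by
  intro v hv
  rw [← hs₀] at hv
  refine Submodule.span_induction ?_ ?_ ?_ ?_ hv
  · rintro _ ⟨i, rfl⟩
    exact hg i
  · rw [Matrix.mulVec_zero]
    exact W.zero_mem
  · intro x y _ _ hx hy
    rw [Matrix.mulVec_add]
    exact W.add_mem hx hy
  · intro a x _ hx
    rw [Matrix.mulVec_smul]
    exact W.smul_mem a hx

theorem card_stab_eq {k : ℕ} (W : Submodule F (Fin m ⊕ Fin m → F))
    (hW : ∀ u ∈ W, ∀ v ∈ W, Cfsg.sympForm m F u v = 0) (s₀ : IsoFrame F m k)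
    (hs₀ : Submodule.span F (Set.range s₀.1) = W) :
    Nat.card ↥(Cfsg.stabilizing (Cfsg.spToMat m F) (W : Set (Fin m ⊕ Fin m → F))) =
      Nat.card {g : Matrix.symplecticGroup (Fin m) F // act g s₀ = s₀} *
        Nat.card {y : Fin k → W // LinearIndependent F y} := by
  have hs₀W : ∀ i, s₀.1 i ∈ W := fun i => by
    rw [← hs₀]
    exact Submodule.subset_span ⟨i, rfl⟩
  let Ψ : ↥(Cfsg.stabilizing (Cfsg.spToMat m F) (W : Set (Fin m ⊕ Fin m → F))) →
      {y : Fin k → W // LinearIndependent F y} := fun g =>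
    ⟨fun i => ⟨g.1.1 *ᵥ s₀.1 i, (g.2 _).mp (hs₀W i)⟩,
      LinearIndependent.of_comp W.subtype (act_li g.1 s₀.1 s₀.2.1)⟩
  refine card_fiber Ψ _ (fun y => ?_)
  have hyli : LinearIndependent F (fun i => ((y.1 i : W) : Fin m ⊕ Fin m → F)) :=
    y.2.map' W.subtype (Submodule.ker_subtype W)
  rw [← card_fiber_act s₀ ⟨fun i => ((y.1 i : W) : Fin m ⊕ Fin m → F), hyli,
    fun i j => hW _ (y.1 i).2 _ (y.1 j).2⟩]
  apply Nat.card_congr
  refine
    { toFun := fun g => ⟨g.1.1, ?_⟩
      invFun := fun g => ⟨⟨g.1, ?_⟩, ?_⟩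
      left_inv := fun g => Subtype.ext (Subtype.ext rfl)
      right_inv := fun g => Subtype.ext rfl }
  · apply Subtype.ext
    funext i
    have h1 := congrArg (fun z : {y : Fin k → W // LinearIndependent F y} =>
      ((z.1 i : W) : Fin m ⊕ Fin m → F)) g.2
    exact h1
  · intro v
    change v ∈ (W : Set (Fin m ⊕ Fin m → F)) ↔ g.1.1 *ᵥ v ∈ (W : Set (Fin m ⊕ Fin m → F))
    apply Cfsg.Agent.S0774.stab_of_forward g.1.1 _ (sp_inv_mul g.1)
    apply forward_of_frame W s₀ hs₀ g.1
    intro i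
    have h1 := congrFun (congrArg Subtype.val g.2) i
    change g.1.1 *ᵥ s₀.1 i = _ at h1
    rw [h1]
    exact (y.1 i).2
  · apply Subtype.ext
    funext i
    apply Subtype.ext
    exact congrFun (congrArg Subtype.val g.2) i

theorem arith_id (q m : ℕ) : ∀ k, k ≤ m →
    q ^ (k * (k + 1) / 2 + 2 * k * (m - k)) * (q ^ ((m - k) ^ 2) *
      ∏ i ∈ Finset.range (m - k), (q ^ (2 * (i + 1)) - 1)) *
      ∏ i ∈ Finset.range k, (q ^ (2 * m - i) - q ^ i) =
    q ^ (m ^ 2) * ∏ i ∈ Finset.range m, (q ^ (2 * (i + 1)) - 1)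
  | 0, _ => by simp
  | k + 1, hk => by
    have ih := arith_id q m k (by omega)
    rw [← ih]
    obtain ⟨d, hd⟩ : ∃ d, m = k + 1 + d := ⟨m - (k + 1), by omega⟩
    subst hd
    have e1 : k + 1 + d - (k + 1) = d := by omega
    have e2 : k + 1 + d - k = d + 1 := by omega
    rw [e1, e2, Finset.prod_range_succ (fun i => q ^ (2 * (i + 1)) - 1) d,
      Finset.prod_range_succ (fun i => q ^ (2 * (k + 1 + d) - i) - q ^ i) k]
    have e3 : (k + 1) * (k + 1 + 1) / 2 = k * (k + 1) / 2 + (k + 1) := by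
      have : (k + 1) * (k + 1 + 1) = k * (k + 1) + 2 * (k + 1) := by ring
      rw [this, Nat.add_mul_div_left _ _ (by norm_num : 0 < 2)]
    have e4 : q ^ (2 * (k + 1 + d) - k) - q ^ k = q ^ k * (q ^ (2 * (d + 1)) - 1) := by
      rw [Nat.mul_sub, mul_one, ← pow_add]
      congr 2
      omega
    rw [e3, e4]
    generalize k * (k + 1) / 2 = T
    generalize ∏ i ∈ Finset.range d, (q ^ (2 * (i + 1)) - 1) = B
    generalize ∏ i ∈ Finset.range k, (q ^ (2 * (k + 1 + d) - i) - q ^ i) = C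
    generalize q ^ (2 * (d + 1)) - 1 = Z
    ring

end

/-- Maximal parabolics of the symplectic group: if W is a k-dimensional subspace of F^(2m) on which the symplectic form vanishes identically, its stabiliser in Sp_2m(q) has order q^(k(k+1)/2 + 2k(m−k)) · |Sp_(2m−2k)(q)| · |GL_k(q)|. -/
theorem result {F : Type*} [Field F] [Fintype F] {q : ℕ} (hF : Fintype.card F = q) (m k : ℕ) (hk : k ≤ m) (W : Submodule F (Fin m ⊕ Fin m → F)) (hWk : Module.finrank F W = k) (hW : ∀ u ∈ W, ∀ v ∈ W, Cfsg.sympForm m F u v = 0) : Nat.card ↥(Cfsg.stabilizing (Cfsg.spToMat m F) (W : Set (Fin m ⊕ Fin m → F))) = q ^ (k * (k + 1) / 2 + 2 * k * (m - k)) * (q ^ ((m - k) ^ 2) * ∏ i ∈ Finset.range (m - k), (q ^ (2 * (i + 1)) - 1)) * ∏ i : Fin k, (q ^ k - q ^ (i : ℕ)) := by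
  classical
  have hq : 2 ≤ q := two_le_card hF
  let b : Basis (Fin k) F W := Module.finBasisOfFinrankEq F W hWk
  have hli : LinearIndependent F (fun i => ((b i : W) : Fin m ⊕ Fin m → F)) :=
    b.linearIndependent.map' W.subtype (Submodule.ker_subtype W)
  let s₀ : IsoFrame F m k := ⟨fun i => ((b i : W) : Fin m ⊕ Fin m → F), hli,
    fun i j => hW _ (b i).2 _ (b j).2⟩
  have hs₀ : Submodule.span F (Set.range s₀.1) = W := by
    have h1 : Set.range s₀.1 = W.subtype '' Set.range b := by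
      rw [← Set.range_comp]
      rfl
    rw [h1, ← Submodule.map_span, b.span_eq, Submodule.map_top, Submodule.range_subtype]
  have h1 := card_sp_eq s₀
  have h2 := card_stab_eq W hW s₀ hs₀
  have h3 : Nat.card {y : Fin k → W // LinearIndependent F y} =
      ∏ i : Fin k, (q ^ k - q ^ (i : ℕ)) := by
    rw [card_linearIndependent (K := F) (V := W) (le_of_eq hWk.symm), hF, hWk]
  have h4 := card_isoFrame (m := m) hF k
  have h5 := Cfsg.Agent.S0245.result hF m
  have h6 := arith_id q m k hk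
  have hC : 0 < ∏ i ∈ Finset.range k, (q ^ (2 * m - i) - q ^ i) := by
    apply Finset.prod_pos
    intro i hi
    rw [Finset.mem_range] at hi
    exact Nat.sub_pos_of_lt (Nat.pow_lt_pow_right (by omega) (by omega))
  apply Nat.eq_of_mul_eq_mul_right hC
  have h7 : Nat.card {g : Matrix.symplecticGroup (Fin m) F // act g s₀ = s₀} *
      ∏ i ∈ Finset.range k, (q ^ (2 * m - i) - q ^ i) =
      q ^ (k * (k + 1) / 2 + 2 * k * (m - k)) * (q ^ ((m - k) ^ 2) *
        ∏ i ∈ Finset.range (m - k), (q ^ (2 * (i + 1)) - 1)) *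
        ∏ i ∈ Finset.range k, (q ^ (2 * m - i) - q ^ i) := by
    rw [h6, ← h5, h1, h4]
  rw [h2, h3]
  calc Nat.card {g : Matrix.symplecticGroup (Fin m) F // act g s₀ = s₀} *
        (∏ i : Fin k, (q ^ k - q ^ (i : ℕ))) * ∏ i ∈ Finset.range k, (q ^ (2 * m - i) - q ^ i)
      = (∏ i : Fin k, (q ^ k - q ^ (i : ℕ))) *
        (Nat.card {g : Matrix.symplecticGroup (Fin m) F // act g s₀ = s₀} *
          ∏ i ∈ Finset.range k, (q ^ (2 * m - i) - q ^ i)) := by ring
    _ = _ := by rw [h7]; ring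

end Cfsg.Agent.S0775

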