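-- Statement S0777
import Cfsg.Statements.S0777
import Mathlib
import Cfsg.Agent.S0774
import Cfsg.Agent.S0776
import Cfsg.Agent.Lib.Helper6.Symp

set_option autoImplicit false
open Cfsg

namespace Cfsg.Agent.S0777

open Matrix Cfsg.Agent.Lib.Helper6 Cfsg.Agent.S0776

/-- the torus -/
abbrev Tor (F : Type*) [Field F] (m : ℕ) : Subgroup (Matrix.symplecticGroup (Fin m) F) :=
  ⨅ i : Fin m ⊕ Fin m, Cfsg.stabilizing (Cfsg.spToMat m F)
    ((Submodule.span F {(Pi.single i (1 : F) : Fin m ⊕ Fin m → F)} :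
      Submodule F (Fin m ⊕ Fin m → F)) : Set (Fin m ⊕ Fin m → F))

/-- the sign of the form on the standard basis -/
def eps (F : Type*) [Field F] {m : ℕ} : Fin m ⊕ Fin m → F
  | Sum.inl _ => -1
  | Sum.inr _ => 1

section
variable {F : Type*} [Field F] {m : ℕ}

theorem eps_mul_self (i : Fin m ⊕ Fin m) : eps F i * eps F i = 1 := by
  rcases i with i | i <;> simp [eps]

theorem eps_ne_zero (i : Fin m ⊕ Fin m) : eps F i ≠ 0 := by
  rcases i with i | i <;> simp [eps]

theorem eps_swap (i : Fin m ⊕ Fin m) : eps F i.swap = - eps F i := by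
  rcases i with i | i <;> simp [eps]

theorem form_single (i j : Fin m ⊕ Fin m) :
    Cfsg.sympForm m F (Pi.single i 1) (Pi.single j 1) = if j = i.swap then eps F i else 0 := by
  rw [sympForm_single_single]
  rcases i with a | a <;> rcases j with b | b <;> simp [eps, eq_comm]

theorem form_smul_single (a b : F) (i j : Fin m ⊕ Fin m) :
    Cfsg.sympForm m F (a • Pi.single i 1) (b • Pi.single j 1) =
      if j = i.swap then a * b * eps F i else 0 := by
  rw [sympForm_smul_left, sympForm_smul_right, form_single]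
  split_ifs <;> ring

theorem form_key (A : Matrix (Fin m ⊕ Fin m) (Fin m ⊕ Fin m) F) (u v : Fin m ⊕ Fin m → F) :
    Cfsg.sympForm m F (A *ᵥ u) (A *ᵥ v) = u ⬝ᵥ ((Aᵀ * Matrix.J (Fin m) F * A) *ᵥ v) := by
  rw [sympForm_def]
  symm
  rw [← mulVec_mulVec, ← mulVec_mulVec, dotProduct_mulVec, vecMul_transpose]

/-- it is enough to check the standard basis -/
theorem mem_sp_of_basis (A : Matrix (Fin m ⊕ Fin m) (Fin m ⊕ Fin m) F)
    (h : ∀ i j, Cfsg.sympForm m F (A *ᵥ Pi.single i 1) (A *ᵥ Pi.single j 1) =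
      Cfsg.sympForm m F (Pi.single i 1) (Pi.single j 1)) :
    A ∈ Matrix.symplecticGroup (Fin m) F := by
  rw [SymplecticGroup.mem_iff']
  ext i j
  have := h i j
  rw [form_key, sympForm_def] at this
  simpa using this

theorem sp_inv_mul (g : Matrix.symplecticGroup (Fin m) F) :
    ((g⁻¹ : Matrix.symplecticGroup (Fin m) F) : Matrix (Fin m ⊕ Fin m) (Fin m ⊕ Fin m) F) * g.1
      = 1 := congrArg Subtype.val (inv_mul_cancel g)

theorem sp_mul_inv (g : Matrix.symplecticGroup (Fin m) F) :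
    g.1 * ((g⁻¹ : Matrix.symplecticGroup (Fin m) F) : Matrix (Fin m ⊕ Fin m) (Fin m ⊕ Fin m) F)
      = 1 := congrArg Subtype.val (mul_inv_cancel g)

theorem sp_injective (g : Matrix.symplecticGroup (Fin m) F) {u v : Fin m ⊕ Fin m → F}
    (h : g.1 *ᵥ u = g.1 *ᵥ v) : u = v := by
  have h2 := congrArg (fun z => (g⁻¹ : Matrix.symplecticGroup (Fin m) F).1 *ᵥ z) h
  simp only [Matrix.mulVec_mulVec, sp_inv_mul, Matrix.one_mulVec] at h2
  exact h2

theorem col_of_offdiag (M : Matrix (Fin m ⊕ Fin m) (Fin m ⊕ Fin m) F)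
    (h : ∀ i j, i ≠ j → M i j = 0) (j : Fin m ⊕ Fin m) :
    M *ᵥ Pi.single j 1 = M j j • Pi.single j 1 := by
  ext i
  rw [mulVec_single_one, Pi.smul_apply, Pi.single_apply, smul_eq_mul]
  change M i j = _
  by_cases hij : i = j
  · subst hij; simp
  · rw [h i j hij]; simp [hij]

/-- the torus consists of the diagonal matrices -/
theorem mem_Tor_iff [Finite F] (g : Matrix.symplecticGroup (Fin m) F) :
    g ∈ Tor F m ↔ ∀ i j, i ≠ j → g.1 i j = 0 := by
  rw [Subgroup.mem_iInf]
  constructor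
  · intro h i j hij
    have h1 := (h j (Pi.single j 1)).mp (Submodule.mem_span_singleton_self _)
    change g.1 *ᵥ Pi.single j 1 ∈ Submodule.span F {(Pi.single j (1 : F) : Fin m ⊕ Fin m → F)} at h1
    rw [Submodule.mem_span_singleton] at h1
    obtain ⟨c, hc⟩ := h1
    have h2 := congrFun hc i
    rw [mulVec_single_one, Pi.smul_apply, Pi.single_apply, if_neg hij, smul_zero] at h2
    exact h2.symm
  · intro h j v
    change v ∈ ((Submodule.span F {(Pi.single j (1 : F) : Fin m ⊕ Fin m → F)} :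
      Submodule F (Fin m ⊕ Fin m → F)) : Set (Fin m ⊕ Fin m → F)) ↔ g.1 *ᵥ v ∈ _
    apply Cfsg.Agent.S0774.stab_of_forward g.1 _ (sp_inv_mul g)
    intro w hw
    rw [SetLike.mem_coe, Submodule.mem_span_singleton] at hw ⊢
    obtain ⟨c, rfl⟩ := hw
    refine ⟨c * g.1 j j, ?_⟩
    rw [mulVec_smul, col_of_offdiag g.1 h j, smul_smul]

theorem diag_mem_sp (d : Fin m ⊕ Fin m → F) (hd : ∀ j, d j * d j.swap = 1) :
    Matrix.diagonal d ∈ Matrix.symplecticGroup (Fin m) F := by
  apply mem_sp_of_basis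
  intro i j
  have e : ∀ k : Fin m ⊕ Fin m, Matrix.diagonal d *ᵥ Pi.single k 1 = d k • Pi.single k 1 := by
    intro k
    have := col_of_offdiag (Matrix.diagonal d) (fun a b hab => Matrix.diagonal_apply_ne _ hab) k
    rw [Matrix.diagonal_apply_eq] at this
    exact this
  rw [e i, e j, form_smul_single, form_single]
  by_cases hj : j = i.swap
  · rw [if_pos hj, if_pos hj, hj, hd, one_mul]
  · rw [if_neg hj, if_neg hj]

/-- the diagonal entries of a special torus element -/
def dvec (a : Fin m ⊕ Fin m) (x : F) : Fin m ⊕ Fin m → F :=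
  fun j => if j = a then x else if j = a.swap then x⁻¹ else 1

theorem swap_ne (a : Fin m ⊕ Fin m) : a.swap ≠ a := by
  rcases a with a | a <;> simp

theorem dvec_mul (a : Fin m ⊕ Fin m) (x : F) (hx : x ≠ 0) (j : Fin m ⊕ Fin m) :
    dvec a x j * dvec a x j.swap = 1 := by
  unfold dvec
  by_cases h1 : j = a
  · subst h1
    rw [if_pos rfl, if_neg (swap_ne j), if_pos rfl, mul_inv_cancel₀ hx]
  · by_cases h2 : j = a.swap
    · subst h2
      rw [if_neg h1, if_pos rfl, Sum.swap_swap, if_pos rfl, inv_mul_cancel₀ hx]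
    · have h3 : j.swap ≠ a := by
        intro h
        apply h2
        rw [← h, Sum.swap_swap]
      have h4 : j.swap ≠ a.swap := by
        intro h
        apply h1
        have := congrArg Sum.swap h
        rwa [Sum.swap_swap, Sum.swap_swap] at this
      rw [if_neg h1, if_neg h2, if_neg h3, if_neg h4, mul_one]

/-- every column has at most one non-zero entry -/
def IsMono (M : Matrix (Fin m ⊕ Fin m) (Fin m ⊕ Fin m) F) : Prop :=
  ∀ j, ∃ i, ∀ i', i' ≠ i → M i' j = 0

theorem exists_sq_ne_one [Fintype F] (hq : 4 ≤ Fintype.card F) : ∃ x : F, x ≠ 0 ∧ x * x ≠ 1 := by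
  classical
  have h1 : ({0, 1, -1} : Finset F).card < Fintype.card F := by
    have : ({0, 1, -1} : Finset F).card ≤ 3 := Finset.card_le_three
    omega
  obtain ⟨x, hx⟩ : ∃ x : F, x ∉ ({0, 1, -1} : Finset F) := by
    by_contra hcon
    push Not at hcon
    have : ({0, 1, -1} : Finset F) = Finset.univ := Finset.eq_univ_iff_forall.mpr hcon
    rw [this, Finset.card_univ] at h1
    omega
  simp only [Finset.mem_insert, Finset.mem_singleton, not_or] at hx
  refine ⟨x, hx.1, ?_⟩
  intro h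
  have : (x - 1) * (x + 1) = 0 := by linear_combination h
  rcases mul_eq_zero.mp this with h | h
  · exact hx.2.1 (sub_eq_zero.mp h)
  · exact hx.2.2 (eq_neg_of_add_eq_zero_left h)

theorem mono_of_mem_normalizer [Fintype F] (hq : 4 ≤ Fintype.card F)
    (g : Matrix.symplecticGroup (Fin m) F)
    (hg : g ∈ Subgroup.normalizer (Tor F m : Set (Matrix.symplecticGroup (Fin m) F))) :
    IsMono g.1 := by
  classical
  intro j
  obtain ⟨x, hx0, hx1⟩ := exists_sq_ne_one hq
  have hv0 : g.1 *ᵥ Pi.single j 1 ≠ 0 := by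
    intro h
    have h1 : g.1 *ᵥ Pi.single j 1 = g.1 *ᵥ 0 := by rw [h, mulVec_zero]
    have h2 := congrFun (sp_injective g h1) j
    simp at h2
  obtain ⟨a, ha⟩ : ∃ a, (g.1 *ᵥ Pi.single j 1) a ≠ 0 := by
    by_contra hcon
    push Not at hcon
    exact hv0 (funext hcon)
  refine ⟨a, ?_⟩
  intro b hba
  by_contra hb
  have hb : (g.1 *ᵥ Pi.single j 1) b ≠ 0 := by
    rw [mulVec_single_one]
    exact hb
  -- the torus element
  let t : Matrix.symplecticGroup (Fin m) F :=
    ⟨Matrix.diagonal (dvec a x), diag_mem_sp _ (dvec_mul a x hx0)⟩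
  have ht : t ∈ Tor F m := by
    rw [mem_Tor_iff]
    intro i k hik
    exact Matrix.diagonal_apply_ne _ hik
  have h1 : g⁻¹ * t * g ∈ Tor F m := (Subgroup.mem_set_normalizer_iff''.mp hg t).mp ht
  rw [mem_Tor_iff] at h1
  have h2 := col_of_offdiag _ h1 j
  set lam := (g⁻¹ * t * g).1 j j with hlam
  have h3 : t.1 *ᵥ (g.1 *ᵥ Pi.single j 1) = lam • (g.1 *ᵥ Pi.single j 1) := by
    have e1 : (g⁻¹ * t * g).1 = (g⁻¹ : Matrix.symplecticGroup (Fin m) F).1 * t.1 * g.1 := rfl
    rw [e1] at h2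
    have h4 := congrArg (fun z => g.1 *ᵥ z) h2
    simp only [mulVec_mulVec, ← Matrix.mul_assoc, sp_mul_inv, Matrix.one_mul] at h4
    rw [← mulVec_mulVec] at h4
    rw [h4, mulVec_smul]
  have h5 : ∀ i, dvec a x i * (g.1 *ᵥ Pi.single j 1) i = lam * (g.1 *ᵥ Pi.single j 1) i := by
    intro i
    have := congrFun h3 i
    change (Matrix.diagonal (dvec a x) *ᵥ (g.1 *ᵥ Pi.single j 1)) i = _ at this
    rw [mulVec_diagonal, Pi.smul_apply, smul_eq_mul] at this
    exact this
  have h6 : lam = x := by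
    have := h5 a
    have e : dvec a x a = x := by simp [dvec]
    rw [e] at this
    exact (mul_right_cancel₀ ha this).symm
  have h7 : dvec a x b = x := by
    have := h5 b
    rw [h6] at this
    exact mul_right_cancel₀ hb this
  unfold dvec at h7
  rw [if_neg hba] at h7
  by_cases hbs : b = a.swap
  · rw [if_pos hbs] at h7
    apply hx1
    rw [← h7] 
    nth_rewrite 1 [h7]
    exact mul_inv_cancel₀ hx0
  · rw [if_neg hbs] at h7
    apply hx1
    rw [← h7, mul_one]

/-- a monomial symplectic matrix is a permutation matrix times a diagonal one -/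
theorem exists_perm_of_mono [Finite F] (g : Matrix.symplecticGroup (Fin m) F) (hg : IsMono g.1) :
    ∃ (σ : Equiv.Perm (Fin m ⊕ Fin m)) (c : Fin m ⊕ Fin m → F), (∀ j, c j ≠ 0) ∧
      ∀ i j, g.1 i j = if i = σ j then c j else 0 := by
  classical
  choose f hf using hg
  have hcol : ∀ j, g.1 *ᵥ Pi.single j 1 = g.1 (f j) j • Pi.single (f j) 1 := by
    intro j
    ext i
    rw [mulVec_single_one, Pi.smul_apply, Pi.single_apply, smul_eq_mul]
    change g.1 i j = _
    by_cases hi : i = f j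
    · subst hi; simp
    · rw [hf j i hi, if_neg hi, mul_zero]
  have hc : ∀ j, g.1 (f j) j ≠ 0 := by
    intro j h
    have h1 : g.1 *ᵥ Pi.single j 1 = g.1 *ᵥ 0 := by rw [hcol, h, zero_smul, mulVec_zero]
    have h2 := congrFun (sp_injective g h1) j
    simp at h2
  have hinj : Function.Injective f := by
    intro j l hjl
    by_contra hne
    have h1 : g.1 *ᵥ (g.1 (f l) l • Pi.single j 1 - g.1 (f j) j • Pi.single l 1) = g.1 *ᵥ 0 := by
      rw [mulVec_sub, mulVec_smul, mulVec_smul, hcol, hcol, hjl, mulVec_zero, smul_smul, smul_smul,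
        mul_comm, sub_self]
    have h2 := congrFun (sp_injective g h1) j
    simp only [Pi.sub_apply, Pi.smul_apply, Pi.single_eq_same, smul_eq_mul, mul_one,
      Pi.single_apply, if_neg hne, mul_zero, sub_zero, Pi.zero_apply] at h2
    exact hc l h2
  refine ⟨Equiv.ofBijective f (Finite.injective_iff_bijective.mp hinj), fun j => g.1 (f j) j, hc, ?_⟩
  intro i j
  rw [Equiv.ofBijective_apply]
  by_cases hi : i = f j
  · subst hi; simp
  · rw [hf j i hi, if_neg hi]

theorem mono_col (M : Matrix (Fin m ⊕ Fin m) (Fin m ⊕ Fin m) F)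
    (σ : Equiv.Perm (Fin m ⊕ Fin m)) (c : Fin m ⊕ Fin m → F)
    (hM : ∀ i j, M i j = if i = σ j then c j else 0) (j : Fin m ⊕ Fin m) :
    M *ᵥ Pi.single j 1 = c j • Pi.single (σ j) 1 := by
  classical
  ext i
  rw [mulVec_single_one, Pi.smul_apply, Pi.single_apply, smul_eq_mul]
  change M i j = _
  rw [hM]
  split_ifs <;> simp

/-- the constraints on a monomial symplectic matrix -/
theorem mono_constraints (g : Matrix.symplecticGroup (Fin m) F)
    (σ : Equiv.Perm (Fin m ⊕ Fin m)) (c : Fin m ⊕ Fin m → F)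
    (hM : ∀ i j, g.1 i j = if i = σ j then c j else 0) (j : Fin m ⊕ Fin m) :
    σ j.swap = (σ j).swap ∧ c j * c j.swap * eps F (σ j) = eps F j := by
  have h1 := (mem_symplecticGroup_iff_preserves g.1).mp g.2 (Pi.single j 1) (Pi.single j.swap 1)
  rw [mono_col g.1 σ c hM, mono_col g.1 σ c hM, form_smul_single, form_single, if_pos rfl] at h1
  by_cases h : σ j.swap = (σ j).swap
  · rw [if_pos h] at h1
    exact ⟨h, h1⟩
  · rw [if_neg h] at h1
    exact absurd h1.symm (eps_ne_zero j)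

/-- a matrix of monomial shape satisfying the constraints is symplectic -/
theorem mono_mem_sp (M : Matrix (Fin m ⊕ Fin m) (Fin m ⊕ Fin m) F)
    (σ : Equiv.Perm (Fin m ⊕ Fin m)) (c : Fin m ⊕ Fin m → F)
    (hM : ∀ i j, M i j = if i = σ j then c j else 0)
    (hσ : ∀ j, σ j.swap = (σ j).swap)
    (hc : ∀ j, c j * c j.swap * eps F (σ j) = eps F j) :
    M ∈ Matrix.symplecticGroup (Fin m) F := by
  apply mem_sp_of_basis
  intro i j
  rw [mono_col M σ c hM, mono_col M σ c hM, form_smul_single, form_single]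
  by_cases hj : j = i.swap
  · subst hj
    rw [if_pos (hσ i), if_pos rfl, hc]
  · rw [if_neg hj, if_neg]
    intro h
    apply hj
    rw [← hσ i] at h
    exact σ.injective h

/-- monomial symplectic matrices normalise the torus -/
theorem mem_normalizer_of_mono [Finite F] (g : Matrix.symplecticGroup (Fin m) F)
    (hg : IsMono g.1) :
    g ∈ Subgroup.normalizer (Tor F m : Set (Matrix.symplecticGroup (Fin m) F)) := by
  classical
  obtain ⟨σ, c, hc0, hM⟩ := exists_perm_of_mono g hg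
  have hcol := mono_col g.1 σ c hM
  -- `g t g⁻¹ ∈ T` implies `t ∈ T`
  have key : ∀ t : Matrix.symplecticGroup (Fin m) F, g * t * g⁻¹ ∈ Tor F m → t ∈ Tor F m := by
    intro t ht
    rw [mem_Tor_iff] at ht ⊢
    have h2 := fun j => col_of_offdiag _ ht (σ j)
    have h3 : ∀ j, ∃ lam : F, t.1 *ᵥ Pi.single j 1 = lam • Pi.single j 1 := by
      intro j
      obtain ⟨lam, h4⟩ : ∃ lam : F, (g * t * g⁻¹).1 *ᵥ Pi.single (σ j) 1 =
          lam • Pi.single (σ j) 1 := ⟨_, h2 j⟩
      refine ⟨lam, ?_⟩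
      apply sp_injective g
      have e1 : (g * t * g⁻¹).1 = g.1 * t.1 * (g⁻¹ : Matrix.symplecticGroup (Fin m) F).1 := rfl
      rw [e1] at h4
      have h5 : g.1 *ᵥ Pi.single j 1 = c j • Pi.single (σ j) 1 := hcol j
      have h6 : (Pi.single (σ j) 1 : Fin m ⊕ Fin m → F) = (c j)⁻¹ • (g.1 *ᵥ Pi.single j 1) := by
        rw [h5, smul_smul, inv_mul_cancel₀ (hc0 j), one_smul]
      rw [mulVec_smul, h5, smul_comm, ← h4, h6]
      rw [mulVec_smul, smul_smul, mul_inv_cancel₀ (hc0 j), one_smul, mulVec_mulVec, mulVec_mulVec,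
        Matrix.mul_assoc, Matrix.mul_assoc, sp_inv_mul, Matrix.mul_one]
    intro i j hij
    obtain ⟨lam, hlam⟩ := h3 j
    have := congrFun hlam i
    rw [mulVec_single_one, Pi.smul_apply, Pi.single_apply, if_neg hij, smul_zero] at this
    exact this
  rw [Subgroup.mem_normalizer_iff]
  intro t
  constructor
  · intro ht
    -- conjugation by `g⁻¹` maps the torus injectively into itself, hence onto
    let φ : Tor F m → Tor F m := fun s => ⟨g⁻¹ * s.1 * g, key _ (by
      have : g * (g⁻¹ * s.1 * g) * g⁻¹ = s.1 := by group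
      rw [this]
      exact s.2)⟩
    have hinj : Function.Injective φ := by
      intro s s' h
      have h1 : g⁻¹ * s.1 * g = g⁻¹ * s'.1 * g := congrArg Subtype.val h
      apply Subtype.ext
      have h2 : g * (g⁻¹ * s.1 * g) * g⁻¹ = g * (g⁻¹ * s'.1 * g) * g⁻¹ := by rw [h1]
      have e1 : g * (g⁻¹ * s.1 * g) * g⁻¹ = s.1 := by group
      have e2 : g * (g⁻¹ * s'.1 * g) * g⁻¹ = s'.1 := by group
      rw [e1, e2] at h2
      exact h2
    obtain ⟨s, hs⟩ := (Finite.injective_iff_surjective.mp hinj) ⟨t, ht⟩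
    have h1 : g⁻¹ * s.1 * g = t := congrArg Subtype.val hs
    rw [← h1]
    have : g * (g⁻¹ * s.1 * g) * g⁻¹ = s.1 := by group
    rw [this]
    exact s.2
  · exact key t

end

/-- the swap permutation -/
abbrev swP (m : ℕ) : Equiv.Perm (Fin m ⊕ Fin m) := Equiv.sumComm (Fin m) (Fin m)

theorem card_Cen (m : ℕ) : Nat.card (Subgroup.centralizer {swP m}) = 2 ^ m * m.factorial := by
  classical
  have h1 : (swP m) ^ 2 = 1 := by
    ext j
    simp [sq]
  have h2 : (swP m).cycleType = Multiset.replicate (Multiset.card (swP m).cycleType) 2 :=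
    Equiv.Perm.cycleType_of_pow_prime_eq_one h1
  have h3 : (swP m).cycleType.sum = 2 * m := by
    rw [Equiv.Perm.sum_cycleType]
    have : (swP m).support = Finset.univ := by
      ext j
      simp only [Equiv.Perm.mem_support, Finset.mem_univ, iff_true]
      rcases j with j | j <;> simp
    rw [this, Finset.card_univ, Fintype.card_sum, Fintype.card_fin]
    ring
  have h4 : Multiset.card (swP m).cycleType = m := by
    rw [h2] at h3
    simp at h3
    omega
  rw [Equiv.Perm.nat_card_centralizer, h2, h4]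
  rcases Nat.eq_zero_or_pos m with rfl | hm
  · simp
  · rw [Multiset.toFinset_replicate, if_neg (by omega), Finset.prod_singleton,
      Multiset.count_replicate_self, Multiset.sum_replicate, Multiset.prod_replicate,
      Fintype.card_sum, Fintype.card_fin]
    have : m + m - m • 2 = 0 := by simp; omega
    rw [this]
    simp

theorem mem_Cen_iff {m : ℕ} (σ : Equiv.Perm (Fin m ⊕ Fin m)) :
    σ ∈ Subgroup.centralizer {swP m} ↔ ∀ j, σ j.swap = (σ j).swap := by
  rw [Subgroup.mem_centralizer_singleton_iff]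
  constructor
  · intro h j
    have := congrArg (fun τ : Equiv.Perm (Fin m ⊕ Fin m) => τ j) h
    simpa using this
  · intro h
    ext j
    simpa using h j

section
variable {F : Type*} [Field F] {m : ℕ}

/-- the coefficients of the monomial matrix -/
def cf (σ : Equiv.Perm (Fin m ⊕ Fin m)) (c : Fin m → Fˣ) : Fin m ⊕ Fin m → F
  | Sum.inl i => (c i : F)
  | Sum.inr i => -(eps F (σ (Sum.inl i))) * ((c i : F))⁻¹

theorem cf_ne_zero (σ : Equiv.Perm (Fin m ⊕ Fin m)) (c : Fin m → Fˣ) (j : Fin m ⊕ Fin m) :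
    cf σ c j ≠ 0 := by
  rcases j with i | i
  · exact (c i).ne_zero
  · exact mul_ne_zero (neg_ne_zero.mpr (eps_ne_zero _)) (inv_ne_zero (c i).ne_zero)

theorem cf_constraint (σ : Equiv.Perm (Fin m ⊕ Fin m)) (hσ : ∀ j, σ j.swap = (σ j).swap)
    (c : Fin m → Fˣ) (j : Fin m ⊕ Fin m) :
    cf σ c j * cf σ c j.swap * eps F (σ j) = eps F j := by
  rcases j with i | i
  · change (c i : F) * (-(eps F (σ (Sum.inl i))) * ((c i : F))⁻¹) * eps F (σ (Sum.inl i)) = -1
    have h1 := eps_mul_self (F := F) (σ (Sum.inl i))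
    have h2 : (c i : F) * (c i : F)⁻¹ = 1 := mul_inv_cancel₀ (c i).ne_zero
    linear_combination (-(c i : F) * (c i : F)⁻¹) * h1 - h2
  · change (-(eps F (σ (Sum.inl i))) * ((c i : F))⁻¹) * (c i : F) * eps F (σ (Sum.inr i)) = 1
    have h0 : σ (Sum.inr i) = (σ (Sum.inl i)).swap := hσ (Sum.inl i)
    rw [h0, eps_swap]
    have h1 := eps_mul_self (F := F) (σ (Sum.inl i))
    have h2 : (c i : F)⁻¹ * (c i : F) = 1 := inv_mul_cancel₀ (c i).ne_zero
    linear_combination ((c i : F)⁻¹ * (c i : F)) * h1 + h2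

/-- the monomial matrix -/
def MM (σ : Equiv.Perm (Fin m ⊕ Fin m)) (c : Fin m → Fˣ) :
    Matrix (Fin m ⊕ Fin m) (Fin m ⊕ Fin m) F :=
  Matrix.of (fun i j => if i = σ j then cf σ c j else 0)

theorem MM_apply (σ : Equiv.Perm (Fin m ⊕ Fin m)) (c : Fin m → Fˣ) (i j : Fin m ⊕ Fin m) :
    MM σ c i j = if i = σ j then cf σ c j else 0 := rfl

theorem MM_mono (σ : Equiv.Perm (Fin m ⊕ Fin m)) (c : Fin m → Fˣ) : IsMono (MM σ c) := by
  intro j
  refine ⟨σ j, fun i' hi' => ?_⟩
  rw [MM_apply, if_neg hi']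

/-- the parametrisation of the normaliser -/
noncomputable def Phi [Finite F]
    (p : ↥(Subgroup.centralizer {swP m}) × (Fin m → Fˣ)) :
    ↥(Subgroup.normalizer (Tor F m : Set (Matrix.symplecticGroup (Fin m) F))) :=
  ⟨⟨MM p.1.1 p.2, mono_mem_sp _ p.1.1 (cf p.1.1 p.2) (MM_apply p.1.1 p.2)
    ((mem_Cen_iff p.1.1).mp p.1.2) (cf_constraint p.1.1 ((mem_Cen_iff p.1.1).mp p.1.2) p.2)⟩,
    mem_normalizer_of_mono _ (MM_mono p.1.1 p.2)⟩

theorem Phi_val [Finite F] (p : ↥(Subgroup.centralizer {swP m}) × (Fin m → Fˣ)) :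
    ((Phi (F := F) p).1 : Matrix.symplecticGroup (Fin m) F).1 = MM p.1.1 p.2 := rfl

theorem Phi_injective [Finite F] : Function.Injective (Phi (F := F) (m := m)) := by
  rintro ⟨σ, c⟩ ⟨σ', c'⟩ h
  have hM : MM (F := F) σ.1 c = MM σ'.1 c' := by
    have := congrArg (fun z => (z.1 : Matrix.symplecticGroup (Fin m) F).1) h
    exact this
  have hσ : σ.1 = σ'.1 := by
    ext j
    have h1 := congrFun (congrFun hM (σ.1 j)) j
    rw [MM_apply, MM_apply, if_pos rfl] at h1
    by_contra hne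
    rw [if_neg hne] at h1
    exact cf_ne_zero _ _ _ h1
  have hσ' : σ = σ' := Subtype.ext hσ
  subst hσ'
  have hc : c = c' := by
    funext i
    have h1 := congrFun (congrFun hM (σ.1 (Sum.inl i))) (Sum.inl i)
    rw [MM_apply, MM_apply, if_pos rfl, if_pos rfl] at h1
    exact Units.ext h1
  rw [hc]

theorem Phi_surjective [Fintype F] (hq : 4 ≤ Fintype.card F) :
    Function.Surjective (Phi (F := F) (m := m)) := by
  intro g
  have hmono := mono_of_mem_normalizer hq g.1 g.2
  obtain ⟨σ, c₀, hc0, hM⟩ := exists_perm_of_mono g.1 hmono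
  have hcon := mono_constraints g.1 σ c₀ hM
  have hσ : σ ∈ Subgroup.centralizer {swP m} := (mem_Cen_iff σ).mpr (fun j => (hcon j).1)
  refine ⟨(⟨σ, hσ⟩, fun i => Units.mk0 (c₀ (Sum.inl i)) (hc0 _)), ?_⟩
  apply Subtype.ext
  apply Subtype.ext
  rw [Phi_val]
  ext i j
  rw [MM_apply, hM]
  by_cases hij : i = σ j
  · rw [if_pos hij, if_pos hij]
    rcases j with k | k
    · rfl
    · change -(eps F (σ (Sum.inl k))) * (c₀ (Sum.inl k))⁻¹ = c₀ (Sum.inr k)
      have h1 := (hcon (Sum.inl k)).2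
      change c₀ (Sum.inl k) * c₀ (Sum.inr k) * eps F (σ (Sum.inl k)) = -1 at h1
      have h2 := eps_mul_self (F := F) (σ (Sum.inl k))
      have h3 := hc0 (Sum.inl k)
      field_simp
      linear_combination (-(eps F (σ (Sum.inl k)))) * h1 + (c₀ (Sum.inl k) * c₀ (Sum.inr k)) * h2
  · rw [if_neg hij, if_neg hij]

end

/-- Weyl group of type C_m: for q ≥ 4 the diagonal matrices of Sp_2m(q) form a torus T ≅ (C_(q−1))^m (the elements stabilising every coordinate axis), and the normaliser of T in Sp_2m(q) has order 2^m · m! · (q − 1)^m. -/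
theorem result {F : Type*} [Field F] [Fintype F] {q : ℕ} (hF : Fintype.card F = q) (hq : 4 ≤ q) (m : ℕ) : Nat.card ↥(Subgroup.normalizer (⨅ i : Fin m ⊕ Fin m, Cfsg.stabilizing (Cfsg.spToMat m F) ((Submodule.span F {(Pi.single i (1 : F) : Fin m ⊕ Fin m → F)} : Submodule F (Fin m ⊕ Fin m → F)) : Set (Fin m ⊕ Fin m → F)) : Set (Matrix.symplecticGroup (Fin m) F))) = 2 ^ m * Nat.factorial m * (q - 1) ^ m := by
  classical
  have hbij : Function.Bijective (Phi (F := F) (m := m)) :=
    ⟨Phi_injective, Phi_surjective (by rw [hF]; exact hq)⟩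
  have h1 := Nat.card_congr (Equiv.ofBijective _ hbij)
  have hset : (⨅ i : Fin m ⊕ Fin m, Cfsg.stabilizing (Cfsg.spToMat m F) ((Submodule.span F {(Pi.single i (1 : F) : Fin m ⊕ Fin m → F)} : Submodule F (Fin m ⊕ Fin m → F)) : Set (Fin m ⊕ Fin m → F)) : Set (Matrix.symplecticGroup (Fin m) F)) = (Tor F m : Set (Matrix.symplecticGroup (Fin m) F)) := by
    rw [Subgroup.coe_iInf]
    rfl
  rw [hset, ← h1, Nat.card_prod, card_Cen, Nat.card_fun, Nat.card_eq_fintype_card (α := Fˣ),
    Fintype.card_units, hF, Nat.card_eq_fintype_card (α := Fin m), Fintype.card_fin]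

end Cfsg.Agent.S0777
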