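import Cfsg.Statements.S0778
import Mathlib

set_option autoImplicit false
open Cfsg

namespace Cfsg.Agent.S0778

open Matrix

section
variable {F : Type*} [Field F] (m : ℕ)

abbrev Wset : Set (Fin m ⊕ Fin m → F) := {v : Fin m ⊕ Fin m → F | ∀ i : Fin m, v (Sum.inr i) = 0}
abbrev Uset : Set (Fin m ⊕ Fin m → F) := {v : Fin m ⊕ Fin m → F | ∀ i : Fin m, v (Sum.inl i) = 0}

abbrev Levi : Subgroup (Matrix.symplecticGroup (Fin m) F) :=
  Cfsg.stabilizing (Cfsg.spToMat m F) (Wset m) ⊓ Cfsg.stabilizing (Cfsg.spToMat m F) (Uset m)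

theorem gl_inv_mul (X : Matrix.GeneralLinearGroup (Fin m) F) :
    ((X⁻¹ : Matrix.GeneralLinearGroup (Fin m) F) : Matrix (Fin m) (Fin m) F) * (X : Matrix (Fin m) (Fin m) F) = 1 := by
  rw [← Matrix.GeneralLinearGroup.coe_mul, inv_mul_cancel, Matrix.GeneralLinearGroup.coe_one]

theorem gl_mul_inv (X : Matrix.GeneralLinearGroup (Fin m) F) :
    (X : Matrix (Fin m) (Fin m) F) * ((X⁻¹ : Matrix.GeneralLinearGroup (Fin m) F) : Matrix (Fin m) (Fin m) F) = 1 := by
  rw [← Matrix.GeneralLinearGroup.coe_mul, mul_inv_cancel, Matrix.GeneralLinearGroup.coe_one]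

/-- block-diagonal embedding -/
def blockMat (X : Matrix.GeneralLinearGroup (Fin m) F) : Matrix (Fin m ⊕ Fin m) (Fin m ⊕ Fin m) F :=
  fromBlocks (X : Matrix (Fin m) (Fin m) F) 0 0
    ((X⁻¹ : Matrix.GeneralLinearGroup (Fin m) F) : Matrix (Fin m) (Fin m) F)ᵀ

theorem blockMat_mem (X : Matrix.GeneralLinearGroup (Fin m) F) :
    blockMat m X ∈ Matrix.symplecticGroup (Fin m) F := by
  unfold blockMat
  rw [SymplecticGroup.fromBlocks_mem_iff]
  refine ⟨by simp, by simp, ?_⟩
  rw [← transpose_mul, gl_inv_mul]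
  simp

def psi : Matrix.GeneralLinearGroup (Fin m) F →* Matrix.symplecticGroup (Fin m) F where
  toFun X := ⟨blockMat m X, blockMat_mem m X⟩
  map_one' := by
    apply Subtype.ext
    simp [blockMat]
  map_mul' X Y := by
    apply Subtype.ext
    simp only [blockMat, Submonoid.coe_mul, fromBlocks_multiply, _root_.mul_inv_rev, Matrix.GeneralLinearGroup.coe_mul,
      transpose_mul, mul_zero, add_zero, zero_mul, zero_add]

theorem blockMat_mulVec (X : Matrix.GeneralLinearGroup (Fin m) F) (v : Fin m ⊕ Fin m → F) :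
    blockMat m X *ᵥ v = Sum.elim ((X : Matrix (Fin m) (Fin m) F) *ᵥ (v ∘ Sum.inl))
      (((X⁻¹ : Matrix.GeneralLinearGroup (Fin m) F) : Matrix (Fin m) (Fin m) F)ᵀ *ᵥ (v ∘ Sum.inr)) := by
  have hv : v = Sum.elim (v ∘ Sum.inl) (v ∘ Sum.inr) := by
    ext (i | i) <;> rfl
  conv_lhs => rw [hv]
  unfold blockMat
  rw [fromBlocks_mulVec]
  simp

theorem psi_mem (X : Matrix.GeneralLinearGroup (Fin m) F) : psi m X ∈ Levi (F := F) m := by
  constructor
  · intro v
    change v ∈ Wset m ↔ blockMat m X *ᵥ v ∈ Wset m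
    rw [blockMat_mulVec]
    simp only [Set.mem_setOf_eq, Sum.elim_inr]
    constructor
    · intro h i
      have : v ∘ Sum.inr = 0 := funext h
      rw [this, mulVec_zero]; rfl
    · intro h i
      have h0 : ((X⁻¹ : Matrix.GeneralLinearGroup (Fin m) F) : Matrix (Fin m) (Fin m) F)ᵀ *ᵥ (v ∘ Sum.inr) = 0 :=
        funext h
      have := congrArg (fun w => (X : Matrix (Fin m) (Fin m) F)ᵀ *ᵥ w) h0
      simp only [mulVec_mulVec, ← transpose_mul, gl_inv_mul, transpose_one, one_mulVec, mulVec_zero] at this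
      exact congrFun this i
  · intro v
    change v ∈ Uset m ↔ blockMat m X *ᵥ v ∈ Uset m
    rw [blockMat_mulVec]
    simp only [Set.mem_setOf_eq, Sum.elim_inl]
    constructor
    · intro h i
      have : v ∘ Sum.inl = 0 := funext h
      rw [this, mulVec_zero]; rfl
    · intro h i
      have h0 : (X : Matrix (Fin m) (Fin m) F) *ᵥ (v ∘ Sum.inl) = 0 := funext h
      have := congrArg (fun w => ((X⁻¹ : Matrix.GeneralLinearGroup (Fin m) F) : Matrix (Fin m) (Fin m) F) *ᵥ w) h0
      simp only [mulVec_mulVec, gl_inv_mul, one_mulVec, mulVec_zero] at this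
      exact congrFun this i

theorem psi_injective : Function.Injective (psi (F := F) m) := by
  intro X Y h
  have h1 := congrArg (fun A : Matrix.symplecticGroup (Fin m) F => (A : Matrix (Fin m ⊕ Fin m) (Fin m ⊕ Fin m) F).toBlocks₁₁) h
  simp only [psi, MonoidHom.coe_mk, OneHom.coe_mk, blockMat, toBlocks_fromBlocks₁₁] at h1
  exact Units.ext h1

theorem eq_zero_of_mulVec {k l : Type*} [Fintype k] [Fintype l] [DecidableEq l] (c : Matrix k l F)
    (h : ∀ x : l → F, c *ᵥ x = 0) : c = 0 := by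
  ext i j
  have := congrFun (h (Pi.single j 1)) i
  simpa using this

theorem psi_surj (A : Matrix.symplecticGroup (Fin m) F) (hA : A ∈ Levi (F := F) m) :
    ∃ X, psi m X = A := by
  obtain ⟨hW, hU⟩ := hA
  set M : Matrix (Fin m ⊕ Fin m) (Fin m ⊕ Fin m) F := (A : Matrix (Fin m ⊕ Fin m) (Fin m ⊕ Fin m) F) with hM
  set a := M.toBlocks₁₁ with ha
  set b := M.toBlocks₁₂ with hb
  set c := M.toBlocks₂₁ with hc
  set d := M.toBlocks₂₂ with hd
  have hMb : M = fromBlocks a b c d := (fromBlocks_toBlocks M).symm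
  have hc0 : c = 0 := by
    apply eq_zero_of_mulVec
    intro x
    have h1 : (Sum.elim x 0 : Fin m ⊕ Fin m → F) ∈ Wset m := by
      intro i; simp
    have h2 := (hW _).mp h1
    change M *ᵥ _ ∈ Wset m at h2
    rw [hMb, fromBlocks_mulVec] at h2
    ext i
    have := h2 i
    simpa using this
  have hb0 : b = 0 := by
    apply eq_zero_of_mulVec
    intro x
    have h1 : (Sum.elim 0 x : Fin m ⊕ Fin m → F) ∈ Uset m := by
      intro i; simp
    have h2 := (hU _).mp h1
    change M *ᵥ _ ∈ Uset m at h2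
    rw [hMb, fromBlocks_mulVec] at h2
    ext i
    have := h2 i
    simpa using this
  have hmem : fromBlocks a b c d ∈ Matrix.symplecticGroup (Fin m) F := by
    rw [← hMb]; exact A.2
  rw [SymplecticGroup.fromBlocks_mem_iff, hb0, hc0] at hmem
  have had : aᵀ * d = 1 := by
    have := hmem.2.2
    simpa using this
  have hda : dᵀ * a = 1 := by
    have := congrArg transpose had
    simpa using this
  have had' : a * dᵀ = 1 := mul_eq_one_comm.mp hda
  let X : Matrix.GeneralLinearGroup (Fin m) F := ⟨a, dᵀ, had', hda⟩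
  refine ⟨X, ?_⟩
  apply Subtype.ext
  change blockMat m X = M
  rw [hMb, hb0, hc0]
  unfold blockMat
  congr 1

end

theorem result {F : Type*} [Field F] (m : ℕ) : Nonempty (↥(Cfsg.stabilizing (Cfsg.spToMat m F) {v : Fin m ⊕ Fin m → F | ∀ i : Fin m, v (Sum.inr i) = 0} ⊓ Cfsg.stabilizing (Cfsg.spToMat m F) {v : Fin m ⊕ Fin m → F | ∀ i : Fin m, v (Sum.inl i) = 0}) ≃* Matrix.GeneralLinearGroup (Fin m) F) := by
  let f : Matrix.GeneralLinearGroup (Fin m) F →* Levi (F := F) m := (psi m).codRestrict _ (psi_mem m)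
  have hf : Function.Bijective f := by
    constructor
    · intro X Y h
      apply psi_injective m
      exact congrArg Subtype.val h
    · intro A
      obtain ⟨X, hX⟩ := psi_surj m A.1 A.2
      exact ⟨X, Subtype.ext hX⟩
  exact ⟨(MulEquiv.ofBijective f hf).symm⟩

end Cfsg.Agent.S0778
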