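-- Statement S0782
import Cfsg.Statements.S0782
import Mathlib
import Cfsg.Agent.S0828
import Cfsg.Agent.S0751
import Cfsg.Agent.S0277
import Cfsg.Agent.S0285
import Cfsg.Agent.S0781
import Cfsg.Agent.S0774
import Cfsg.Agent.Lib.Helper6.UnitaryCount
import Cfsg.Agent.Lib.Helper16.UnitaryCount4

set_option autoImplicit false
open Cfsg

namespace Cfsg.Agent.S0782

open Matrix Module Cfsg.Agent.Lib.Helper6 Cfsg.Agent.S0779

section
variable {F : Type*} [Field F] [Fintype F] {q n : ℕ}

/-- decomposition of the standard unitary space along a hyperbolic pair -/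
theorem exists_decomp (hF : Fintype.card F = q ^ 2) (x : Fin n → F) (hx : x ≠ 0)
    (hxx : hermForm n F q x x = 0) :
    ∃ (x' : Fin n → F) (L : (Fin n → F) →ₗ[F] (Fin (n - 2) → F))
      (ψ : (Fin (n - 2) → F) →ₗ[F] (Fin n → F)),
      hermForm n F q x x' = 1 ∧ hermForm n F q x' x = 1 ∧ hermForm n F q x' x' = 0 ∧
      L x = 0 ∧ (∀ u, L (ψ u) = u) ∧
      (∀ y, hermForm n F q y x = 0 → y = hermForm n F q y x' • x + ψ (L y)) ∧
      (∀ u, hermForm n F q (ψ u) x = 0) ∧ (∀ u, hermForm n F q (ψ u) x' = 0) ∧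
      (∀ u u', hermForm n F q (ψ u) (ψ u') = hermForm (n - 2) F q u u') := by
  classical
  obtain ⟨x', hx'x, hxx', hx'x'⟩ := exists_herm_partner hF x hx hxx
  obtain ⟨U, φ, hmemU, hφ⟩ := Cfsg.Agent.S0781.exists_perp_iso hF x x' hxx hx'x hxx' hx'x'
  have hdec : ∀ y : Fin n → F,
      y - hermForm n F q y x' • x - hermForm n F q y x • x' ∈ U := by
    intro y
    rw [hmemU]
    constructor
    · rw [herm_sub_left', herm_sub_left', herm_smul_left, herm_smul_left, hxx, hx'x]; ring
    · rw [herm_sub_left', herm_sub_left', herm_smul_left, herm_smul_left, hxx', hx'x']; ring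
  let p0 : (Fin n → F) →ₗ[F] (Fin n → F) :=
    LinearMap.id - (hermB n hF x').smulRight x - (hermB n hF x).smulRight x'
  have hp0 : ∀ y, p0 y = y - hermForm n F q y x' • x - hermForm n F q y x • x' := fun y => rfl
  let pU : (Fin n → F) →ₗ[F] U := LinearMap.codRestrict U p0 (fun y => by rw [hp0]; exact hdec y)
  have hpU : ∀ y, ((pU y : U) : Fin n → F) =
      y - hermForm n F q y x' • x - hermForm n F q y x • x' := fun y => rfl
  refine ⟨x', φ.toLinearMap ∘ₗ pU, U.subtype ∘ₗ φ.symm.toLinearMap, hxx', hx'x, hx'x', ?_, ?_, ?_,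
    ?_, ?_, ?_⟩
  · have h0 : pU x = 0 := by
      apply Subtype.ext
      rw [hpU, hxx', hxx]
      simp
    change φ (pU x) = 0
    rw [h0, map_zero]
  · intro u
    change φ (pU ((φ.symm u : U) : Fin n → F)) = u
    have h0 : pU ((φ.symm u : U) : Fin n → F) = φ.symm u := by
      apply Subtype.ext
      rw [hpU, ((hmemU _).mp (φ.symm u).2).1, ((hmemU _).mp (φ.symm u).2).2]
      simp
    rw [h0, LinearEquiv.apply_symm_apply]
  · intro y hy
    change y = _ + ((φ.symm (φ (pU y)) : U) : Fin n → F)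
    rw [LinearEquiv.symm_apply_apply, hpU, hy]
    simp
  · intro u
    exact ((hmemU _).mp (φ.symm u).2).1
  · intro u
    exact ((hmemU _).mp (φ.symm u).2).2
  · intro u u'
    have := hφ (φ.symm u) (φ.symm u')
    rw [LinearEquiv.apply_symm_apply, LinearEquiv.apply_symm_apply] at this
    exact this.symm

/-- isotropic frames -/
abbrev HFrame (F : Type*) [Field F] (q n k : ℕ) : Type _ :=
  {s : Fin k → (Fin n → F) // LinearIndependent F s ∧
    ∀ i j, hermForm n F q (s i) (s j) = 0}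

theorem card_fiber_first (hF : Fintype.card F = q ^ 2) (k : ℕ) (x : Fin n → F) (hx : x ≠ 0)
    (hxx : hermForm n F q x x = 0) :
    Nat.card {s : HFrame F q n (k + 1) // s.1 0 = x} =
      (q ^ 2) ^ k * Nat.card (HFrame F q (n - 2) k) := by
  classical
  obtain ⟨x', L, ψ, hxx', hx'x, hx'x', hLx, hLψ, hdec, hψx, hψx', hψψ⟩ :=
    exists_decomp hF x hx hxx
  have hxψ : ∀ u, hermForm n F q x (ψ u) = 0 := fun u => herm_swap_zero hF (hψx u)
  have hcard : Nat.card ((Fin k → F) × HFrame F q (n - 2) k) =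
      (q ^ 2) ^ k * Nat.card (HFrame F q (n - 2) k) := by
    rw [Nat.card_prod, Nat.card_fun, Nat.card_eq_fintype_card (α := F), hF,
      Nat.card_eq_fintype_card (α := Fin k), Fintype.card_fin]
  rw [← hcard]
  apply Nat.card_congr
  refine
    { toFun := fun s => (fun i => hermForm n F q (s.1.1 i.succ) x',
        ⟨fun i => L (s.1.1 i.succ), ?_, ?_⟩)
      invFun := fun p => ⟨⟨Fin.cons x (fun i => p.1 i • x + ψ (p.2.1 i)), ?_, ?_⟩, ?_⟩
      left_inv := fun s => ?_
      right_inv := fun p => ?_ }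
  · -- linear independence of the images
    rw [Fintype.linearIndependent_iff]
    intro c hc
    have h1 : L (∑ i, c i • s.1.1 i.succ) = 0 := by
      rw [map_sum]
      simp only [map_smul]
      exact hc
    have h2 : hermForm n F q (∑ i, c i • s.1.1 i.succ) x = 0 := by
      have : ∀ (t : Finset (Fin k)), hermForm n F q (∑ i ∈ t, c i • s.1.1 i.succ) x = 0 := by
        intro t
        induction t using Finset.induction_on with
        | empty => simp [herm_zero_left]
        | insert a t ha ih =>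
          rw [Finset.sum_insert ha, herm_add_left, ih, herm_smul_left]
          have := s.1.2.2 a.succ 0
          rw [s.2] at this
          rw [this]
          ring
      exact this _
    have h3 := hdec _ h2
    rw [h1, map_zero, add_zero] at h3
    have hli := Fintype.linearIndependent_iff.mp s.1.2.1
      (Fin.cons (-(hermForm n F q (∑ i, c i • s.1.1 i.succ) x')) c) (by
        rw [Fin.sum_univ_succ]
        simp only [Fin.cons_zero, Fin.cons_succ]
        rw [s.2, neg_smul, ← h3]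
        abel)
    intro i
    have := hli i.succ
    simpa using this
  · intro i j
    have hi : hermForm n F q (s.1.1 i.succ) x = 0 := by
      have := s.1.2.2 i.succ 0
      rwa [s.2] at this
    have hj : hermForm n F q (s.1.1 j.succ) x = 0 := by
      have := s.1.2.2 j.succ 0
      rwa [s.2] at this
    have hij := s.1.2.2 i.succ j.succ
    rw [hdec _ hi, hdec _ hj] at hij
    simp only [herm_add_left, herm_add_right hF, herm_smul_left, herm_smul_right, hxx, hxψ, hψx,
      hψψ] at hij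
    simpa using hij
  · -- linear independence of the lifted frame
    rw [Fintype.linearIndependent_iff]
    intro g hg
    rw [Fin.sum_univ_succ] at hg
    simp only [Fin.cons_zero, Fin.cons_succ] at hg
    have h1 := congrArg L hg
    rw [map_add, map_smul, hLx, smul_zero, zero_add, map_sum, map_zero] at h1
    simp only [map_smul, map_add, hLx, smul_zero, zero_add, hLψ] at h1
    have h2 := Fintype.linearIndependent_iff.mp p.2.2.1 (fun i => g i.succ) h1
    simp only [h2, zero_smul, Finset.sum_const_zero, add_zero] at hg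
    have h3 : g 0 = 0 := by
      rcases smul_eq_zero.mp hg with h | h
      · exact h
      · exact absurd h hx
    intro j
    refine Fin.cases h3 (fun i => h2 i) j
  · intro i j
    refine Fin.cases ?_ (fun i' => ?_) i <;> refine Fin.cases ?_ (fun j' => ?_) j
    · simp only [Fin.cons_zero]
      exact hxx
    · simp only [Fin.cons_zero, Fin.cons_succ]
      rw [herm_add_right hF, herm_smul_right, hxx, hxψ]
      ring
    · simp only [Fin.cons_zero, Fin.cons_succ]
      rw [herm_add_left, herm_smul_left, hxx, hψx]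
      ring
    · simp only [Fin.cons_succ]
      rw [herm_add_left, herm_add_right hF, herm_add_right hF, herm_smul_left, herm_smul_left,
        herm_smul_right, herm_smul_right, hxx, hxψ, hψx, hψψ, p.2.2.2 i' j']
      ring
  · change (Fin.cons x (fun i => p.1 i • x + ψ (p.2.1 i)) : Fin (k + 1) → (Fin n → F)) 0 = x
    rw [Fin.cons_zero]
  · apply Subtype.ext
    apply Subtype.ext
    funext j
    refine Fin.cases ?_ (fun i => ?_) j
    · simp only [Fin.cons_zero]
      exact s.2.symm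
    · simp only [Fin.cons_succ]
      have hi : hermForm n F q (s.1.1 i.succ) x = 0 := by
        have := s.1.2.2 i.succ 0
        rwa [s.2] at this
      exact (hdec _ hi).symm
  · apply Prod.ext
    · funext i
      simp only [Fin.cons_succ]
      rw [herm_add_left, herm_smul_left, hxx', hψx']
      ring
    · apply Subtype.ext
      funext i
      simp only [Fin.cons_succ]
      rw [map_add, map_smul, hLx, smul_zero, zero_add, hLψ]

theorem card_frame_succ (hF : Fintype.card F = q ^ 2) (k : ℕ) :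
    Nat.card (HFrame F q n (k + 1)) =
      (q ^ 2) ^ k * Nat.card (HFrame F q (n - 2) k) * isoNZ n F q := by
  unfold isoNZ
  refine Cfsg.Agent.S0828.card_fiber (fun s : HFrame F q n (k + 1) =>
    (⟨s.1 0, s.2.1.ne_zero 0, s.2.2 0 0⟩ :
      {v : Fin n → F // v ≠ 0 ∧ hermForm n F q v v = 0})) _ (fun b => ?_)
  rw [← card_fiber_first hF k b.1 b.2.1 b.2.2]
  apply Nat.card_congr
  exact Equiv.subtypeEquivRight
    (fun s => ⟨fun h => congrArg Subtype.val h, fun h => Subtype.ext h⟩)

theorem card_frame_zero : Nat.card (HFrame F q n 0) = 1 := by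
  haveI : Unique (HFrame F q n 0) :=
    ⟨⟨⟨Fin.elim0, linearIndependent_empty_type, fun i => i.elim0⟩⟩,
      fun s => Subtype.ext (funext fun i => i.elim0)⟩
  exact Nat.card_unique

/-- the closed formula for the number of non-zero isotropic vectors -/
def isoF (q n : ℕ) : ℕ :=
  if Even n then (q ^ n - 1) * (q ^ (n - 1) + 1) else (q ^ n + 1) * (q ^ (n - 1) - 1)

theorem isoNZ_eq (hF : Fintype.card F = q ^ 2) (n : ℕ) : isoNZ n F q = isoF q n := by
  have h1 := normCount_zero_eq (n := n) hF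
  have h2 := Cfsg.Agent.S0285.result hF n
  have h3 : normCount n F q (0 : F) = isoF q n + 1 := h2
  unfold isoF
  unfold isoF at h3
  omega

/-- the order formula of `GU` -/
def gu (q m : ℕ) : ℕ :=
  q ^ (m * (m - 1) / 2) * ∏ i ∈ Finset.range m, (if Even i then q ^ (i + 1) + 1 else q ^ (i + 1) - 1)

theorem gu_step (q m : ℕ) : gu q (m + 2) = q ^ (2 * (m + 2) - 3) * isoF q (m + 2) * gu q m := by
  unfold gu
  rw [Finset.prod_range_succ, Finset.prod_range_succ]
  have e1 : (m + 2) * (m + 2 - 1) / 2 = m * (m - 1) / 2 + (2 * m + 1) := by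
    have : (m + 2) * (m + 2 - 1) = m * (m - 1) + 2 * (2 * m + 1) := by
      rcases m with _ | r
      · rfl
      · have h1 : r + 1 + 2 - 1 = r + 2 := by omega
        have h2 : r + 1 - 1 = r := by omega
        rw [h1, h2]
        ring
    rw [this, Nat.add_mul_div_left _ _ (by norm_num : 0 < 2)]
  have e2 : 2 * (m + 2) - 3 = 2 * m + 1 := by omega
  rw [e1, e2, pow_add]
  have e3 : (if Even m then q ^ (m + 1) + 1 else q ^ (m + 1) - 1) *
      (if Even (m + 1) then q ^ (m + 1 + 1) + 1 else q ^ (m + 1 + 1) - 1) = isoF q (m + 2) := by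
    unfold isoF
    have e4 : m + 2 - 1 = m + 1 := by omega
    rw [e4]
    by_cases hm : Even m
    · have h1 : ¬ Even (m + 1) := by
        rw [Nat.even_add_one]; exact not_not.mpr hm
      have h2 : Even (m + 2) := by
        rw [Nat.even_add]; simp [hm]
      rw [if_pos hm, if_neg h1, if_pos h2]
      ring
    · have h1 : Even (m + 1) := by
        rw [Nat.even_add_one]; exact hm
      have h2 : ¬ Even (m + 2) := by
        rw [Nat.even_add]; simp [hm]
      rw [if_neg hm, if_pos h1, if_neg h2]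
      ring
  rw [← e3]
  ring

theorem arith_main (hF : Fintype.card F = q ^ 2) : ∀ (k n : ℕ), 2 * k ≤ n →
    q ^ (k * (2 * n - 3 * k)) * gu q (n - 2 * k) * Nat.card (HFrame F q n k) = gu q n
  | 0, n, _ => by
    rw [card_frame_zero]
    simp
  | k + 1, n, hk => by
    obtain ⟨d, rfl⟩ : ∃ d, n = d + 2 * k + 2 := ⟨n - (2 * k + 2), by omega⟩
    have ih := arith_main hF k (d + 2 * k) (by omega)
    rw [card_frame_succ hF k, isoNZ_eq hF]
    have e1 : d + 2 * k + 2 - 2 = d + 2 * k := by omega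
    have e2 : d + 2 * k + 2 - 2 * (k + 1) = d := by omega
    have e3 : d + 2 * k - 2 * k = d := by omega
    have e4 : (k + 1) * (2 * (d + 2 * k + 2) - 3 * (k + 1)) = (k + 1) * (k + 1 + 2 * d) := by
      congr 1; omega
    have e5 : k * (2 * (d + 2 * k) - 3 * k) = k * (k + 2 * d) := by
      congr 1; omega
    rw [e3, e5] at ih
    rw [e1, e2, e4]
    have e6 : d + 2 * k + 2 = (d + 2 * k) + 2 := by ring
    rw [e6, gu_step, ← ih]
    have e7 : 2 * (d + 2 * k + 2) - 3 = 4 * k + 2 * d + 1 := by omega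
    rw [e7]
    have e8 : (k + 1) * (k + 1 + 2 * d) + 2 * k = k * (k + 2 * d) + (4 * k + 2 * d + 1) := by ring
    have e9 : q ^ ((k + 1) * (k + 1 + 2 * d)) * (q ^ 2) ^ k =
        q ^ (k * (k + 2 * d)) * q ^ (4 * k + 2 * d + 1) := by
      rw [← pow_mul, ← pow_add, ← pow_add, ← e8]
    calc q ^ ((k + 1) * (k + 1 + 2 * d)) * gu q d *
          ((q ^ 2) ^ k * Nat.card (HFrame F q (d + 2 * k) k) * isoF q (d + 2 * k + 2))
        = (q ^ ((k + 1) * (k + 1 + 2 * d)) * (q ^ 2) ^ k) * (gu q d *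
          Nat.card (HFrame F q (d + 2 * k) k) * isoF q (d + 2 * k + 2)) := by ring
      _ = _ := by rw [e9]; ring

theorem span_isotropic (hF : Fintype.card F = q ^ 2) {k : ℕ} (s : Fin k → (Fin n → F))
    (hiso : ∀ i j, hermForm n F q (s i) (s j) = 0) :
    ∀ a ∈ Submodule.span F (Set.range s), ∀ b ∈ Submodule.span F (Set.range s),
      hermForm n F q a b = 0 := by
  intro a ha b hb
  refine Submodule.span_induction ?_ ?_ ?_ ?_ ha
  · rintro _ ⟨i, rfl⟩
    refine Submodule.span_induction ?_ ?_ ?_ ?_ hb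
    · rintro _ ⟨j, rfl⟩
      exact hiso i j
    · exact herm_zero_right hF _
    · intro x y _ _ hx hy
      rw [herm_add_right hF, hx, hy, add_zero]
    · intro c x _ hx
      rw [herm_smul_right, hx, mul_zero]
  · exact herm_zero_left _
  · intro x y _ _ hx hy
    rw [herm_add_left, hx, hy, add_zero]
  · intro c x _ hx
    rw [herm_smul_left, hx, mul_zero]

/-- the matrix of an element of `GU` -/
abbrev mat (g : ↥(Cfsg.GU n F q)) : Matrix (Fin n) (Fin n) F :=
  ((g : Matrix.GeneralLinearGroup (Fin n) F) : Matrix (Fin n) (Fin n) F)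

theorem mat_mul (g h : ↥(Cfsg.GU n F q)) : mat (g * h) = mat g * mat h := rfl

theorem mat_one : mat (1 : ↥(Cfsg.GU n F q)) = 1 := rfl

theorem mat_inv_mul (g : ↥(Cfsg.GU n F q)) : mat g⁻¹ * mat g = 1 := by
  rw [← mat_mul, inv_mul_cancel, mat_one]

/-- Witt: the unitary group is transitive on isotropic frames -/
theorem exists_gu_of_frames (hF : Fintype.card F = q ^ 2) {k : ℕ} (s s' : HFrame F q n k) :
    ∃ g : ↥(Cfsg.GU n F q), ∀ i, mat g *ᵥ s.1 i = s'.1 i := by
  classical
  let bX : Basis (Fin k) F (Submodule.span F (Set.range s.1)) := Basis.span s.2.1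
  let bY : Basis (Fin k) F (Submodule.span F (Set.range s'.1)) := Basis.span s'.2.1
  let φ : Submodule.span F (Set.range s.1) ≃ₗ[F] Submodule.span F (Set.range s'.1) :=
    bX.equiv bY (Equiv.refl _)
  have hφ : ∀ x x' : Submodule.span F (Set.range s.1),
      hermB n hF (φ x : Fin n → F) (φ x' : Fin n → F) =
        hermB n hF (x : Fin n → F) (x' : Fin n → F) := by
    intro x x'
    rw [hermB_apply, hermB_apply, span_isotropic hF s.1 s.2.2 _ x'.2 _ x.2,
      span_isotropic hF s'.1 s'.2.2 _ (φ x').2 _ (φ x).2]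
  obtain ⟨g, hg, hgx⟩ := Cfsg.Agent.S0751.result (conjQ hF) (conjQ_ne_id hF) (conjQ_conjQ hF)
    (hermB n hF) (hermB_isSymm hF) (Cfsg.Agent.Lib.Helper16.hermB_nondeg hF n) _ _ φ hφ
  have e : ∀ x, LinearMap.toMatrix' g.toLinearMap *ᵥ x = g x := fun x => by
    rw [← Matrix.toLin'_apply, Matrix.toLin'_toMatrix']
    rfl
  obtain ⟨γ, hγ⟩ := exists_GU_of_pres hF (LinearMap.toMatrix' g.toLinearMap) (by
    intro u v
    rw [e u, e v]
    have := hg v u
    rw [hermB_apply, hermB_apply] at this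
    exact this)
  refine ⟨γ, ?_⟩
  intro i
  change mat γ *ᵥ s.1 i = s'.1 i
  have hγ' : mat γ = LinearMap.toMatrix' g.toLinearMap := hγ
  rw [hγ', e]
  have h1 : (⟨s.1 i, Submodule.subset_span ⟨i, rfl⟩⟩ : Submodule.span F (Set.range s.1)) = bX i := by
    apply Subtype.ext
    rw [Basis.span_apply]
  have h2 := hgx ⟨s.1 i, Submodule.subset_span ⟨i, rfl⟩⟩
  rw [h1, Basis.equiv_apply] at h2
  change g (bX i : Fin n → F) = _ at h2
  rw [Basis.span_apply] at h2
  rw [h2]
  simp only [Equiv.refl_apply]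
  rw [Basis.span_apply]

theorem act_li {k : ℕ} (g : ↥(Cfsg.GU n F q)) (s : Fin k → (Fin n → F))
    (hs : LinearIndependent F s) : LinearIndependent F (fun i => mat g *ᵥ s i) := by
  have hker : LinearMap.ker (Matrix.mulVecLin (mat g)) = ⊥ := by
    rw [LinearMap.ker_eq_bot]
    intro x y hxy
    have h2 := congrArg (fun z => mat g⁻¹ *ᵥ z) hxy
    simp only [Matrix.mulVecLin_apply, Matrix.mulVec_mulVec, mat_inv_mul, Matrix.one_mulVec] at h2
    exact h2
  exact hs.map' (Matrix.mulVecLin (mat g)) hker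

/-- the action on frames -/
def act {k : ℕ} (g : ↥(Cfsg.GU n F q)) (s : HFrame F q n k) : HFrame F q n k :=
  ⟨fun i => mat g *ᵥ s.1 i, act_li g s.1 s.2.1, fun i j => by
    rw [GU_pres g]
    exact s.2.2 i j⟩

theorem act_mul {k : ℕ} (g h : ↥(Cfsg.GU n F q)) (s : HFrame F q n k) :
    act (g * h) s = act g (act h s) := by
  apply Subtype.ext
  funext i
  change (mat g * mat h) *ᵥ s.1 i = mat g *ᵥ (mat h *ᵥ s.1 i)
  rw [Matrix.mulVec_mulVec]

theorem act_one {k : ℕ} (s : HFrame F q n k) : act (1 : ↥(Cfsg.GU n F q)) s = s := by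
  apply Subtype.ext
  funext i
  change (1 : Matrix (Fin n) (Fin n) F) *ᵥ s.1 i = s.1 i
  rw [Matrix.one_mulVec]

theorem card_fiber_act (hF : Fintype.card F = q ^ 2) {k : ℕ} (s₀ x : HFrame F q n k) :
    Nat.card {g : ↥(Cfsg.GU n F q) // act g s₀ = x} =
      Nat.card {g : ↥(Cfsg.GU n F q) // act g s₀ = s₀} := by
  obtain ⟨gx, hgx⟩ := exists_gu_of_frames hF s₀ x
  have hgx' : act gx s₀ = x := Subtype.ext (funext hgx)
  apply Nat.card_congr
  exact
    { toFun := fun g => ⟨gx⁻¹ * g.1, by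
        rw [act_mul, g.2, ← hgx', ← act_mul, inv_mul_cancel, act_one]⟩
      invFun := fun g => ⟨gx * g.1, by rw [act_mul, g.2, hgx']⟩
      left_inv := fun g => Subtype.ext (by simp)
      right_inv := fun g => Subtype.ext (by simp) }

theorem card_gu_eq (hF : Fintype.card F = q ^ 2) {k : ℕ} (s₀ : HFrame F q n k) :
    Nat.card ↥(Cfsg.GU n F q) =
      Nat.card {g : ↥(Cfsg.GU n F q) // act g s₀ = s₀} * Nat.card (HFrame F q n k) :=
  Cfsg.Agent.S0828.card_fiber (fun g => act g s₀) _ (fun x => card_fiber_act hF s₀ x)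

/-- the stabiliser of a subspace in `GU` -/
def stabGU (W : Submodule F (Fin n → F)) : Subgroup ↥(Cfsg.GU n F q) :=
  (Cfsg.stabilizing (Units.coeHom (Matrix (Fin n) (Fin n) F))
    (W : Set (Fin n → F))).subgroupOf (Cfsg.GU n F q)

theorem mem_stabGU (W : Submodule F (Fin n → F)) (g : ↥(Cfsg.GU n F q)) :
    g ∈ stabGU W ↔ ∀ v, v ∈ W ↔ mat g *ᵥ v ∈ W := Iff.rfl

theorem forward_of_frame {k : ℕ} (W : Submodule F (Fin n → F)) (s₀ : HFrame F q n k)
    (hs₀ : Submodule.span F (Set.range s₀.1) = W) (M : Matrix (Fin n) (Fin n) F)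
    (hg : ∀ i, M *ᵥ s₀.1 i ∈ W) : ∀ v ∈ W, M *ᵥ v ∈ W := by
  intro v hv
  rw [← hs₀] at hv
  refine Submodule.span_induction ?_ ?_ ?_ ?_ hv
  · rintro _ ⟨i, rfl⟩
    exact hg i
  · rw [Matrix.mulVec_zero]
    exact W.zero_mem
  · intro x y _ _ hx hy
    rw [Matrix.mulVec_add]
    exact W.add_mem hx hy
  · intro a x _ hx
    rw [Matrix.mulVec_smul]
    exact W.smul_mem a hx

theorem mem_stabGU_of_forward (W : Submodule F (Fin n → F)) (g : ↥(Cfsg.GU n F q))
    (h : ∀ v ∈ W, mat g *ᵥ v ∈ W) : g ∈ stabGU W := by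
  rw [mem_stabGU]
  intro v
  exact Cfsg.Agent.S0774.stab_of_forward (mat g) (mat g⁻¹) (mat_inv_mul g) _ h v

theorem card_stab_eq (hF : Fintype.card F = q ^ 2) {k : ℕ} (W : Submodule F (Fin n → F))
    (hW : ∀ u ∈ W, ∀ v ∈ W, hermForm n F q u v = 0) (s₀ : HFrame F q n k)
    (hs₀ : Submodule.span F (Set.range s₀.1) = W) :
    Nat.card ↥(stabGU (q := q) W) =
      Nat.card {g : ↥(Cfsg.GU n F q) // act g s₀ = s₀} *
        Nat.card {y : Fin k → W // LinearIndependent F y} := by
  have hs₀W : ∀ i, s₀.1 i ∈ W := fun i => by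
    rw [← hs₀]
    exact Submodule.subset_span ⟨i, rfl⟩
  let Ψ : ↥(stabGU (q := q) W) → {y : Fin k → W // LinearIndependent F y} := fun g =>
    ⟨fun i => ⟨mat g.1 *ᵥ s₀.1 i, ((mem_stabGU W g.1).mp g.2 _).mp (hs₀W i)⟩,
      LinearIndependent.of_comp W.subtype (act_li g.1 s₀.1 s₀.2.1)⟩
  refine Cfsg.Agent.S0828.card_fiber Ψ _ (fun y => ?_)
  have hyli : LinearIndependent F (fun i => ((y.1 i : W) : Fin n → F)) :=
    y.2.map' W.subtype (Submodule.ker_subtype W)
  rw [← card_fiber_act hF s₀ ⟨fun i => ((y.1 i : W) : Fin n → F), hyli,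
    fun i j => hW _ (y.1 i).2 _ (y.1 j).2⟩]
  apply Nat.card_congr
  refine
    { toFun := fun g => ⟨g.1.1, ?_⟩
      invFun := fun g => ⟨⟨g.1, ?_⟩, ?_⟩
      left_inv := fun g => Subtype.ext (Subtype.ext rfl)
      right_inv := fun g => Subtype.ext rfl }
  · apply Subtype.ext
    funext i
    have h1 := congrArg (fun z : {y : Fin k → W // LinearIndependent F y} =>
      ((z.1 i : W) : Fin n → F)) g.2
    exact h1
  · apply mem_stabGU_of_forward
    apply forward_of_frame W s₀ hs₀ (mat g.1)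
    intro i
    have h1 := congrFun (congrArg Subtype.val g.2) i
    change mat g.1 *ᵥ s₀.1 i = _ at h1
    rw [h1]
    exact (y.1 i).2
  · apply Subtype.ext
    funext i
    apply Subtype.ext
    exact congrFun (congrArg Subtype.val g.2) i

/-- an element of the stabiliser with prescribed determinant of norm one -/
theorem exists_stab_det (hF : Fintype.card F = q ^ 2) (hn : 1 ≤ n) (W : Submodule F (Fin n → F))
    (hW : ∀ u ∈ W, ∀ v ∈ W, hermForm n F q u v = 0) (c : F) (hc : c ^ (q + 1) = 1) :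
    ∃ g : ↥(Cfsg.GU n F q), g ∈ stabGU W ∧ (mat g).det = c := by
  classical
  by_cases hW0 : W = ⊥
  · let d : Fin n → F := Function.update (fun _ => (1 : F)) ⟨0, hn⟩ c
    have hd : ∀ i, d i ^ (q + 1) = 1 := by
      intro i
      by_cases hi : i = ⟨0, hn⟩
      · subst hi; simp only [d, Function.update_self]; exact hc
      · simp only [d, Function.update_of_ne hi, one_pow]
    obtain ⟨g, hg⟩ := exists_GU_of_pres hF (Matrix.diagonal d) (diag_pres d hd)
    refine ⟨g, ?_, ?_⟩
    · apply mem_stabGU_of_forward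
      intro v hv
      rw [hW0, Submodule.mem_bot] at hv
      rw [hv, Matrix.mulVec_zero]
      exact W.zero_mem
    · change (mat g).det = c
      have hg' : mat g = Matrix.diagonal d := hg
      rw [hg', Matrix.det_diagonal, Finset.prod_eq_single (⟨0, hn⟩ : Fin n)]
      · simp only [d, Function.update_self]
      · intro i _ hi
        simp only [d, Function.update_of_ne hi]
      · intro h; exact absurd (Finset.mem_univ _) h
  · obtain ⟨w, hwW, hw0⟩ := Submodule.exists_mem_ne_zero_of_ne_bot hW0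
    have hww := hW w hwW w hwW
    obtain ⟨w', hw'w, hww', hw'w'⟩ := exists_herm_partner hF w hw0 hww
    obtain ⟨t, ht0, ht⟩ := hilbert90 (conjQ hF) (conjQ_ne_id hF) (conjQ_conjQ hF) c (by
      rw [conjQ_apply, ← pow_succ', hc])
    rw [conjQ_apply] at ht
    have htq0 : t ^ q ≠ 0 := pow_ne_zero _ ht0
    have hC1 : (t - 1) ^ q + ((t ^ q)⁻¹ - 1) + ((t ^ q)⁻¹ - 1) * (t - 1) ^ q = 0 := by
      rw [Cfsg.Agent.S0781.sub_pow_q hF, one_pow]
      field_simp
      ring
    have hC2 : ((t ^ q)⁻¹ - 1) ^ q + (t - 1) + (t - 1) * ((t ^ q)⁻¹ - 1) ^ q = 0 := by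
      rw [Cfsg.Agent.S0781.sub_pow_q hF, one_pow, inv_pow, pow_q_q hF]
      field_simp
      ring
    obtain ⟨g, hg⟩ := exists_GU_of_pres hF
      (Cfsg.Agent.S0781.Bm q 1 (t - 1) ((t ^ q)⁻¹ - 1) w w')
      (Cfsg.Agent.S0781.Bm_pres hF 1 (t - 1) ((t ^ q)⁻¹ - 1) w w' hww hw'w' hww' hw'w
        (by simp) hC1 hC2)
    have hg' : mat g = Cfsg.Agent.S0781.Bm q 1 (t - 1) ((t ^ q)⁻¹ - 1) w w' := hg
    refine ⟨g, ?_, ?_⟩
    · apply mem_stabGU_of_forward
      intro v hv
      rw [hg', Cfsg.Agent.S0781.Bm_mulVec _ _ _ _ _ v hw'w', hW v hv w hwW, one_smul, mul_zero,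
        zero_smul, add_zero]
      exact W.add_mem hv (W.smul_mem _ hwW)
    · rw [hg', Cfsg.Agent.S0781.Bm_det _ _ _ _ _ hww' hw'w, one_pow, one_mul]
      have : (1 + (t - 1)) * (1 + ((t ^ q)⁻¹ - 1)) = t * (t ^ q)⁻¹ := by ring
      rw [this]
      nth_rewrite 1 [ht]
      rw [mul_assoc, mul_inv_cancel₀ htq0, mul_one]

/-- the determinant on the stabiliser -/
noncomputable def stabDet (W : Submodule F (Fin n → F)) : ↥(stabGU (q := q) W) →* Fˣ :=
  (Cfsg.Agent.Lib.Helper16.guDet n).comp (stabGU (q := q) W).subtype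

theorem stabDet_val (W : Submodule F (Fin n → F)) (g : ↥(stabGU (q := q) W)) :
    ((stabDet W g : Fˣ) : F) = (mat g.1).det := rfl

theorem card_ker_stabDet (W : Submodule F (Fin n → F)) :
    Nat.card (stabDet (q := q) W).ker =
      Nat.card ↥((Cfsg.stabilizing (Cfsg.slToMat n F) (W : Set (Fin n → F))).subgroupOf
        (Cfsg.SU n F q)) := by
  classical
  symm
  let f : ↥((Cfsg.stabilizing (Cfsg.slToMat n F) (W : Set (Fin n → F))).subgroupOf
        (Cfsg.SU n F q)) → (stabDet (q := q) W).ker := fun s =>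
    ⟨⟨⟨Matrix.SpecialLinearGroup.toGL s.1.1, s.1.2⟩, s.2⟩, by
      rw [MonoidHom.mem_ker]
      apply Units.ext
      rw [stabDet_val]
      exact s.1.1.2⟩
  apply Nat.card_eq_of_bijective f
  constructor
  · intro s s' h
    apply Subtype.ext
    apply Subtype.ext
    apply Matrix.SpecialLinearGroup.toGL_injective
    exact congrArg (fun x => (x.1.1.1 : Matrix.GeneralLinearGroup (Fin n) F)) h
  · intro g
    have hdet : (mat g.1.1).det = 1 := by
      have := g.2
      rw [MonoidHom.mem_ker] at this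
      rw [← stabDet_val, this, Units.val_one]
    refine ⟨⟨⟨⟨_, hdet⟩, ?_⟩, ?_⟩, ?_⟩
    · intro u v
      exact g.1.1.2 u v
    · exact g.1.2
    · apply Subtype.ext
      apply Subtype.ext
      apply Subtype.ext
      apply Units.ext
      rfl

theorem card_range_stabDet (hF : Fintype.card F = q ^ 2) (hn : 1 ≤ n)
    (W : Submodule F (Fin n → F)) (hW : ∀ u ∈ W, ∀ v ∈ W, hermForm n F q u v = 0) :
    Nat.card (stabDet (q := q) W).range = q + 1 := by
  classical
  have h1 : Nat.card {x : F // x ^ (q + 1) = 1} = q + 1 := by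
    rw [Cfsg.Agent.Lib.Helper16.card_pow_fiber hF 1 (one_pow q), if_neg one_ne_zero]
  rw [← h1]
  let f : (stabDet (q := q) W).range → {x : F // x ^ (q + 1) = 1} := fun u =>
    ⟨((u.1 : Fˣ) : F), by
      obtain ⟨g, hg⟩ := u.2
      rw [← hg, stabDet_val]
      exact det_norm_of_pres hF _ (GU_pres g.1)⟩
  apply Nat.card_eq_of_bijective f
  constructor
  · intro u u' h
    apply Subtype.ext
    apply Units.ext
    exact congrArg Subtype.val h
  · intro x
    obtain ⟨g, hgW, hgdet⟩ := exists_stab_det hF hn W hW x.1 x.2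
    refine ⟨⟨stabDet W ⟨g, hgW⟩, ⟨⟨g, hgW⟩, rfl⟩⟩, ?_⟩
    apply Subtype.ext
    simp only [f]
    rw [stabDet_val]
    exact hgdet

theorem card_stab_mul (hF : Fintype.card F = q ^ 2) (hn : 1 ≤ n)
    (W : Submodule F (Fin n → F)) (hW : ∀ u ∈ W, ∀ v ∈ W, hermForm n F q u v = 0) :
    (q + 1) * Nat.card ↥((Cfsg.stabilizing (Cfsg.slToMat n F) (W : Set (Fin n → F))).subgroupOf
        (Cfsg.SU n F q)) = Nat.card ↥(stabGU (q := q) W) := by
  have h1 := Subgroup.card_mul_index (stabDet (q := q) W).ker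
  rw [Subgroup.index_ker, card_range_stabDet hF hn W hW, card_ker_stabDet] at h1
  rw [← h1, mul_comm]

end

/-- Maximal parabolics of SU_n(q): if W is a k-dimensional subspace of F^n (n ≥ 1, |F| = q²) on which the Hermitian form vanishes, then (q + 1) times the order of its stabiliser in SU_n(q) equals q^(k(2n−3k)) · |GL_k(q²)| · |GU_(n−2k)(q)|, where |GU_m(q)| = q^(m(m−1)/2) Π_(i=1..m) (q^i − (−1)^i). -/
theorem result {F : Type*} [Field F] [Fintype F] {q : ℕ} (hF : Fintype.card F = q ^ 2) (n k : ℕ) (hn : 1 ≤ n) (hk : 2 * k ≤ n) (W : Submodule F (Fin n → F)) (hWk : Module.finrank F W = k) (hW : ∀ u ∈ W, ∀ v ∈ W, Cfsg.hermForm n F q u v = 0) : (q + 1) * Nat.card ↥((Cfsg.stabilizing (Cfsg.slToMat n F) (W : Set (Fin n → F))).subgroupOf (Cfsg.SU n F q)) = q ^ (k * (2 * n - 3 * k)) * (∏ i : Fin k, ((q ^ 2) ^ k - (q ^ 2) ^ (i : ℕ))) * (q ^ ((n - 2 * k) * ((n - 2 * k) - 1) / 2) * ∏ i ∈ Finset.range (n - 2 * k), (if Even i then q ^ (i + 1) + 1 else q ^ (i + 1) - 1)) := by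
  classical
  let b : Basis (Fin k) F W := Module.finBasisOfFinrankEq F W hWk
  have hli : LinearIndependent F (fun i => ((b i : W) : Fin n → F)) :=
    b.linearIndependent.map' W.subtype (Submodule.ker_subtype W)
  let s₀ : HFrame F q n k := ⟨fun i => ((b i : W) : Fin n → F), hli,
    fun i j => hW _ (b i).2 _ (b j).2⟩
  have hs₀ : Submodule.span F (Set.range s₀.1) = W := by
    have h1 : Set.range s₀.1 = W.subtype '' Set.range b := by
      rw [← Set.range_comp]
      rfl
    rw [h1, ← Submodule.map_span, b.span_eq, Submodule.map_top, Submodule.range_subtype]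
  have h0 := card_stab_mul hF hn W hW
  have h1 := card_gu_eq hF s₀
  have h2 := card_stab_eq hF W hW s₀ hs₀
  have h3 : Nat.card {y : Fin k → W // LinearIndependent F y} =
      ∏ i : Fin k, ((q ^ 2) ^ k - (q ^ 2) ^ (i : ℕ)) := by
    rw [card_linearIndependent (K := F) (V := W) (le_of_eq hWk.symm), hF, hWk]
  have h4 := arith_main hF k n hk
  have h5 : Nat.card ↥(Cfsg.GU n F q) = gu q n := Cfsg.Agent.S0277.result hF n
  have hH : 0 < Nat.card (HFrame F q n k) := by
    haveI : Nonempty (HFrame F q n k) := ⟨s₀⟩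
    exact Nat.card_pos
  apply Nat.eq_of_mul_eq_mul_right hH
  rw [h0, h2, h3]
  change _ = q ^ (k * (2 * n - 3 * k)) * (∏ i : Fin k, ((q ^ 2) ^ k - (q ^ 2) ^ (i : ℕ))) *
    gu q (n - 2 * k) * Nat.card (HFrame F q n k)
  calc Nat.card {g : ↥(Cfsg.GU n F q) // act g s₀ = s₀} *
        (∏ i : Fin k, ((q ^ 2) ^ k - (q ^ 2) ^ (i : ℕ))) * Nat.card (HFrame F q n k)
      = (∏ i : Fin k, ((q ^ 2) ^ k - (q ^ 2) ^ (i : ℕ))) *
        (Nat.card {g : ↥(Cfsg.GU n F q) // act g s₀ = s₀} * Nat.card (HFrame F q n k)) := by ring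
    _ = (∏ i : Fin k, ((q ^ 2) ^ k - (q ^ 2) ^ (i : ℕ))) * gu q n := by rw [← h1, h5]
    _ = (∏ i : Fin k, ((q ^ 2) ^ k - (q ^ 2) ^ (i : ℕ))) *
        (q ^ (k * (2 * n - 3 * k)) * gu q (n - 2 * k) * Nat.card (HFrame F q n k)) := by rw [h4]
    _ = _ := by ring

end Cfsg.Agent.S0782
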