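-- Statement S0783
import Cfsg.Statements.S0783
import Mathlib
import Cfsg.Agent.Lib.Helper6.Unitary2

set_option autoImplicit false
open Cfsg

namespace Cfsg.Agent.S0783

open Matrix Module Cfsg.Agent.Lib.Helper6 Cfsg.Agent.S0779

theorem cyclic_equiv (G : Type*) [Group G] [IsCyclic G] (d : ℕ) (h : Nat.card G = d) :
    Nonempty (G ≃* Multiplicative (ZMod d)) := by
  subst h
  exact ⟨(zmodCyclicMulEquiv ‹_›).symm⟩

theorem exists_root {G : Type*} [CommGroup G] {N : ℕ} (hN : 0 < N) (ζ : G)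
    (hζ : IsPrimitiveRoot ζ N) (n d e : ℕ) (he : N = d * e) (hd : d = Nat.gcd n N) (c : G)
    (hc : c ∈ Subgroup.zpowers ζ) (hce : c ^ e = 1) :
    ∃ a : G, a ^ N = 1 ∧ a ^ n = c := by
  obtain ⟨j, rfl⟩ := hc
  have h1 : ((N : ℕ) : ℤ) ∣ j * e := by
    rw [← hζ.zpow_eq_one_iff_dvd, _root_.zpow_mul, zpow_natCast]
    exact hce
  have hepos : 0 < e := by
    rcases Nat.eq_zero_or_pos e with h | h
    · subst h; omega
    · exact h
  have h2 : (d : ℤ) ∣ j := by
    rw [he] at h1
    push_cast at h1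
    exact Int.dvd_of_mul_dvd_mul_right (by positivity) h1
  obtain ⟨j', rfl⟩ := h2
  have hbez : (d : ℤ) = n * Nat.gcdA n N + N * Nat.gcdB n N := by
    rw [hd]; exact Nat.gcd_eq_gcd_ab n N
  refine ⟨ζ ^ (Nat.gcdA n N * j'), ?_, ?_⟩
  · rw [← zpow_natCast, ← _root_.zpow_mul, mul_comm, _root_.zpow_mul, zpow_natCast, hζ.pow_eq_one, _root_.one_zpow]
  · rw [← zpow_natCast, ← _root_.zpow_mul]
    have : Nat.gcdA n N * j' * (n : ℤ) = d * j' - N * (Nat.gcdB n N * j') := by
      rw [hbez]; ring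
    rw [this, _root_.zpow_sub, _root_.zpow_mul ζ N, zpow_natCast, hζ.pow_eq_one, _root_.one_zpow, inv_one, mul_one]

section
variable {F : Type*} [Field F] [Fintype F] {q n : ℕ}

theorem det_GU (hF : Fintype.card F = q ^ 2) (g : ↥(Cfsg.GU n F q)) :
    (Matrix.GeneralLinearGroup.det (g : Matrix.GeneralLinearGroup (Fin n) F)) ^ (q + 1) = 1 := by
  apply Units.ext
  rw [Units.val_pow_eq_pow_val, Units.val_one]
  exact det_norm_of_pres hF _ (GU_pres g)

/-- scalar unitary matrices are central -/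
theorem scalar_mem_center (hF : Fintype.card F = q ^ 2) (a : F) (ha : a ^ (q + 1) = 1) :
    ∃ z : ↥(Cfsg.GU n F q), z ∈ Subgroup.center ↥(Cfsg.GU n F q) ∧
      ((z : Matrix.GeneralLinearGroup (Fin n) F) : Matrix (Fin n) (Fin n) F) =
        a • (1 : Matrix (Fin n) (Fin n) F) := by
  obtain ⟨z, hz⟩ := exists_GU_of_pres hF (a • (1 : Matrix (Fin n) (Fin n) F)) (smul_pres a ha)
  refine ⟨z, ?_, hz⟩
  rw [Subgroup.mem_center_iff]
  intro g
  apply Subtype.ext
  apply Units.ext
  change ((g : Matrix.GeneralLinearGroup (Fin n) F) : Matrix (Fin n) (Fin n) F) *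
      ((z : Matrix.GeneralLinearGroup (Fin n) F) : Matrix (Fin n) (Fin n) F) =
    ((z : Matrix.GeneralLinearGroup (Fin n) F) : Matrix (Fin n) (Fin n) F) *
      ((g : Matrix.GeneralLinearGroup (Fin n) F) : Matrix (Fin n) (Fin n) F)
  rw [hz, Matrix.mul_smul, Matrix.smul_mul, Matrix.mul_one, Matrix.one_mul]

/-- central elements are scalar -/
theorem center_scalar (hF : Fintype.card F = q ^ 2) (hn : 1 ≤ n) (z : ↥(Cfsg.GU n F q))
    (hz : z ∈ Subgroup.center ↥(Cfsg.GU n F q)) :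
    ∃ a : F, a ^ (q + 1) = 1 ∧
      ((z : Matrix.GeneralLinearGroup (Fin n) F) : Matrix (Fin n) (Fin n) F) =
        a • (1 : Matrix (Fin n) (Fin n) F) := by
  rw [Subgroup.mem_center_iff] at hz
  have hcomm : ∀ M : Matrix (Fin n) (Fin n) F,
      (∀ x y, hermForm n F q (M *ᵥ x) (M *ᵥ y) = hermForm n F q x y) →
      ((z : Matrix.GeneralLinearGroup (Fin n) F) : Matrix (Fin n) (Fin n) F) * M =
        M * ((z : Matrix.GeneralLinearGroup (Fin n) F) : Matrix (Fin n) (Fin n) F) := by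
    intro M hM
    obtain ⟨g, hg⟩ := exists_GU_of_pres hF M hM
    have := hz g
    have h2 := congrArg (fun t : ↥(Cfsg.GU n F q) =>
      ((t : Matrix.GeneralLinearGroup (Fin n) F) : Matrix (Fin n) (Fin n) F)) this
    change ((g : Matrix.GeneralLinearGroup (Fin n) F) : Matrix (Fin n) (Fin n) F) *
      ((z : Matrix.GeneralLinearGroup (Fin n) F) : Matrix (Fin n) (Fin n) F) =
    ((z : Matrix.GeneralLinearGroup (Fin n) F) : Matrix (Fin n) (Fin n) F) *
      ((g : Matrix.GeneralLinearGroup (Fin n) F) : Matrix (Fin n) (Fin n) F) at h2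
    rw [hg] at h2
    exact h2.symm
  obtain ⟨a, ha⟩ := scalar_of_commute hF hn
    ((z : Matrix.GeneralLinearGroup (Fin n) F) : Matrix (Fin n) (Fin n) F)
    (fun d hd => hcomm _ (diag_pres d hd)) (fun i j => hcomm _ (swap_pres i j))
  refine ⟨a, ?_, ha⟩
  have h1 := GU_pres z (Pi.single ⟨0, hn⟩ 1) (Pi.single ⟨0, hn⟩ 1)
  rw [ha, Matrix.smul_mulVec, Matrix.one_mulVec, herm_smul_left, herm_smul_right,
    herm_single_right hF] at h1
  simp only [Pi.single_eq_same, mul_one] at h1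
  rw [pow_succ', h1]

end

theorem result {F : Type*} [Field F] [Fintype F] {q : ℕ} (hF : Fintype.card F = q ^ 2) (n : ℕ) (hn : 2 ≤ n) : ∃ φ : ↥(Cfsg.GU n F q) →* Multiplicative (ZMod (Nat.gcd n (q + 1))), Function.Surjective φ ∧ φ.ker = (Matrix.GeneralLinearGroup.det : Matrix.GeneralLinearGroup (Fin n) F →* Fˣ).ker.subgroupOf (Cfsg.GU n F q) ⊔ Subgroup.center ↥(Cfsg.GU n F q) := by
  classical
  obtain ⟨d, hd⟩ : ∃ d, d = Nat.gcd n (q + 1) := ⟨_, rfl⟩
  rw [← hd]
  have hdN : d ∣ q + 1 := hd ▸ Nat.gcd_dvd_right _ _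
  have hdn : d ∣ n := hd ▸ Nat.gcd_dvd_left _ _
  have hdpos : 0 < d := hd ▸ Nat.gcd_pos_of_pos_right _ (Nat.succ_pos q)
  obtain ⟨e, he⟩ := hdN
  obtain ⟨ζ, hζ⟩ := exists_prim_root hF
  have hξ : IsPrimitiveRoot (ζ ^ e) d := hζ.pow (Nat.succ_pos q) (by
    change q + 1 = e * d
    rw [he]; ring)
  haveI : NeZero d := ⟨hdpos.ne'⟩
  have hcard : Nat.card (rootsOfUnity d F) = d := hξ.card_rootsOfUnity'
  obtain ⟨ε⟩ : Nonempty (rootsOfUnity d F ≃* Multiplicative (ZMod d)) := cyclic_equiv _ d hcard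
  let detGU : ↥(Cfsg.GU n F q) →* Fˣ :=
    Matrix.GeneralLinearGroup.det.comp (Cfsg.GU n F q).subtype
  have hdet : ∀ g, (detGU g) ^ (q + 1) = 1 := fun g => det_GU hF g
  let θ : ↥(Cfsg.GU n F q) →* rootsOfUnity d F :=
    ((powMonoidHom e).comp detGU).codRestrict _ (fun g => by
      rw [mem_rootsOfUnity]
      change ((detGU g) ^ e) ^ d = 1
      rw [← pow_mul, mul_comm, ← he]
      exact hdet g)
  have hθ : ∀ g, ((θ g : rootsOfUnity d F) : Fˣ) = (detGU g) ^ e := fun g => rfl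
  have hn1 : 1 ≤ n := by omega
  refine ⟨ε.toMonoidHom.comp θ, ?_, ?_⟩
  · intro y
    obtain ⟨ω, rfl⟩ := ε.surjective y
    have hω : (ω : Fˣ) ∈ Subgroup.zpowers (ζ ^ e) := by
      rw [hξ.zpowers_eq]; exact ω.2
    obtain ⟨j, hj⟩ := hω
    have hj' : (ζ ^ e) ^ j = (ω : Fˣ) := hj
    have hc : ((ζ ^ j : Fˣ) : F) ^ (q + 1) = 1 := by
      rw [← Units.val_pow_eq_pow_val, ← zpow_natCast, ← _root_.zpow_mul, mul_comm,
        _root_.zpow_mul, zpow_natCast, hζ.pow_eq_one, _root_.one_zpow, Units.val_one]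
    obtain ⟨g, hg⟩ := exists_GU_of_pres hF
      (Matrix.diagonal (Function.update (fun _ => (1 : F)) ⟨0, hn1⟩ ((ζ ^ j : Fˣ) : F)))
      (diag_pres _ (by
        intro i
        by_cases hi : i = ⟨0, hn1⟩
        · subst hi; rw [Function.update_self]; exact hc
        · rw [Function.update_of_ne hi]; exact one_pow _))
    have hdetg : detGU g = ζ ^ j := by
      apply Units.ext
      change Matrix.det ((g : Matrix.GeneralLinearGroup (Fin n) F) : Matrix (Fin n) (Fin n) F) = _
      rw [hg, Matrix.det_diagonal, Finset.prod_update_of_mem (Finset.mem_univ _)]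
      simp
    refine ⟨g, ?_⟩
    change ε (θ g) = ε ω
    congr 1
    apply Subtype.ext
    rw [hθ, hdetg, ← hj', ← zpow_natCast, ← zpow_natCast, ← _root_.zpow_mul, ← _root_.zpow_mul,
      mul_comm]
  · have hker : ∀ g, g ∈ (ε.toMonoidHom.comp θ).ker ↔ (detGU g) ^ e = 1 := by
      intro g
      rw [MonoidHom.mem_ker]
      change ε (θ g) = 1 ↔ _
      rw [EmbeddingLike.map_eq_one_iff, ← hθ]
      exact (OneMemClass.coe_eq_one).symm
    apply le_antisymm
    · intro g hg
      rw [hker] at hg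
      have hcz : detGU g ∈ Subgroup.zpowers ζ := by
        rw [hζ.zpowers_eq, mem_rootsOfUnity]; exact hdet g
      obtain ⟨a, ha1, han⟩ := exists_root (Nat.succ_pos q) ζ hζ n d e he hd (detGU g) hcz hg
      obtain ⟨z, hzc, hzm⟩ := scalar_mem_center (n := n) hF (a : F) (by
        rw [← Units.val_pow_eq_pow_val, ha1, Units.val_one])
      have hg' : g = (g * z⁻¹) * z := by group
      rw [hg']
      apply Subgroup.mul_mem_sup
      · rw [Subgroup.mem_subgroupOf, MonoidHom.mem_ker]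
        have hdz : detGU z = a ^ n := by
          apply Units.ext
          change Matrix.det ((z : Matrix.GeneralLinearGroup (Fin n) F) :
            Matrix (Fin n) (Fin n) F) = _
          rw [hzm, Matrix.det_smul, Matrix.det_one, mul_one, Fintype.card_fin,
            Units.val_pow_eq_pow_val]
        change detGU (g * z⁻¹) = 1
        rw [map_mul, map_inv, hdz, han, mul_inv_cancel]
      · exact hzc
    · apply sup_le
      · intro g hg
        rw [Subgroup.mem_subgroupOf, MonoidHom.mem_ker] at hg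
        rw [hker]
        have : detGU g = 1 := hg
        rw [this, one_pow]
      · intro z hz
        rw [hker]
        obtain ⟨a, ha1, hzm⟩ := center_scalar hF hn1 z hz
        apply Units.ext
        rw [Units.val_pow_eq_pow_val, Units.val_one]
        change (Matrix.det ((z : Matrix.GeneralLinearGroup (Fin n) F) :
            Matrix (Fin n) (Fin n) F)) ^ e = 1
        rw [hzm, Matrix.det_smul, Matrix.det_one, mul_one, Fintype.card_fin]
        obtain ⟨n', rfl⟩ := hdn
        rw [← pow_mul]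
        have : d * n' * e = (q + 1) * n' := by rw [he]; ring
        rw [this, pow_mul, ha1, one_pow]

end Cfsg.Agent.S0783
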