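-- Statement S0787
import Cfsg.Statements.S0787
import Mathlib
import Cfsg.Agent.Lib.Helper6.Dickson

set_option autoImplicit false
open Cfsg

namespace Cfsg.Agent.S0787

open Cfsg.Agent.Lib.Helper6 Cfsg.Agent.S0792

theorem existsUnique_index_two_core {G : Type*} [Group G] [Finite G] (S : Subgroup G)
    (hSidx : S.index = 1 ∨ S.index = 2) (hrel : (commutator G).relIndex S = 2)
    (hN : ∀ H : Subgroup ↥S, H.index = 2 → (H.map S.subtype).Normal) :
    ∃! H : Subgroup ↥S, H.index = 2 := by
  refine ⟨(commutator G).subgroupOf S, hrel, ?_⟩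
  intro H hH
  have hnorm := hN H hH
  have hidx : (H.map S.subtype).index = 2 ∨ (H.map S.subtype).index = 4 := by
    rw [Subgroup.index_map_subtype, hH]
    rcases hSidx with h | h <;> rw [h]
    · left; rfl
    · right; rfl
  have hcomm : IsMulCommutative (G ⧸ H.map S.subtype) := by
    rcases hidx with h | h
    · rw [Subgroup.index_eq_card] at h
      have : Fact (Nat.Prime 2) := ⟨Nat.prime_two⟩
      exact (isCyclic_of_prime_card h).isMulCommutative
    · rw [Subgroup.index_eq_card] at h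
      have : Fact (Nat.Prime 2) := ⟨Nat.prime_two⟩
      exact IsPGroup.isMulCommutative_of_card_eq_prime_sq (p := 2) h
  have hle : commutator G ≤ H.map S.subtype :=
    Subgroup.Normal.quotient_commutative_iff_commutator_le.mp hcomm
  have hle' : (commutator G).subgroupOf S ≤ H := by
    intro x hx
    rw [Subgroup.mem_subgroupOf] at hx
    obtain ⟨y, hy, hyx⟩ := hle hx
    have : y = x := Subtype.ext hyx
    rw [← this]
    exact hy
  have h1 := Subgroup.relIndex_mul_index hle'
  have h2 : ((commutator G).subgroupOf S).index = 2 := hrel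
  rw [hH, h2] at h1
  have h3 : ((commutator G).subgroupOf S).relIndex H = 1 := by omega
  exact le_antisymm (Subgroup.relIndex_eq_one.mp h3) hle'

theorem normal_of_pairs {G : Type*} [Group G] (S : Subgroup G) [hSn : S.Normal]
    (R : Set G) (hR : Subgroup.closure R = ⊤) (hinv : ∀ r ∈ R, r * r = 1)
    (hS : S = Subgroup.closure {g | ∃ a ∈ R, ∃ b ∈ R, g = a * b})
    (H : Subgroup ↥S) (hH : H.index = 2) : (H.map S.subtype).Normal := by
  set H' := H.map S.subtype with hH'
  have hH'S : H' ≤ S := Subgroup.map_subtype_le H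
  have hmem : ∀ (x : G) (hx : x ∈ S), x ∈ H' ↔ (⟨x, hx⟩ : ↥S) ∈ H := by
    intro x hx
    constructor
    · rintro ⟨y, hy, hyx⟩
      have : y = ⟨x, hx⟩ := Subtype.ext hyx
      rw [← this]
      exact hy
    · intro h
      exact ⟨⟨x, hx⟩, h, rfl⟩
  have hA : ∀ x y : G, x ∈ S → y ∈ S → (x * y ∈ H' ↔ (x ∈ H' ↔ y ∈ H')) := by
    intro x y hx hy
    rw [hmem x hx, hmem y hy, hmem (x * y) (S.mul_mem hx hy)]
    exact Subgroup.mul_mem_iff_of_index_two hH (a := ⟨x, hx⟩) (b := ⟨y, hy⟩)
  have hpair : ∀ a ∈ R, ∀ b ∈ R, a * b ∈ S := by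
    intro a ha b hb
    rw [hS]
    exact Subgroup.subset_closure ⟨a, ha, b, hb, rfl⟩
  have hrinv : ∀ r ∈ R, r⁻¹ = r := fun r hr => inv_eq_of_mul_eq_one_left (hinv r hr)
  have hfact : ∀ r ∈ R, ∀ s ∈ S, (r * s * r⁻¹ ∈ H' ↔ s ∈ H') := by
    intro r hr s hs
    rw [hS] at hs
    induction hs using Subgroup.closure_induction with
    | mem s hs =>
      obtain ⟨a, ha, b, hb, rfl⟩ := hs
      have e1 : r * (a * b) * r⁻¹ = (r * a) * (b * r) := by rw [hrinv r hr]; group
      have e2 : a * b = (r * a)⁻¹ * (b * r)⁻¹ := by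
        rw [mul_inv_rev, mul_inv_rev, hrinv r hr, hrinv a ha, hrinv b hb, mul_assoc,
          ← mul_assoc r r b, hinv r hr, one_mul]
      rw [e1, hA _ _ (hpair r hr a ha) (hpair b hb r hr)]
      rw [e2, hA _ _ (S.inv_mem (hpair r hr a ha)) (S.inv_mem (hpair b hb r hr)), inv_mem_iff,
        inv_mem_iff]
    | one => simp
    | mul x y hx hy ihx ihy =>
      rw [← hS] at hx hy
      have e1 : r * (x * y) * r⁻¹ = (r * x * r⁻¹) * (r * y * r⁻¹) := by group
      rw [e1, hA _ _ (hSn.conj_mem x hx r) (hSn.conj_mem y hy r), ihx, ihy, hA _ _ hx hy]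
    | inv x hx ihx =>
      have e1 : r * x⁻¹ * r⁻¹ = (r * x * r⁻¹)⁻¹ := by group
      rw [e1, inv_mem_iff, inv_mem_iff, ihx]
  have hnormalizer : Subgroup.normalizer (H' : Set G) = ⊤ := by
    rw [eq_top_iff, ← hR, Subgroup.closure_le]
    intro r hr
    rw [SetLike.mem_coe, Subgroup.mem_normalizer_iff]
    intro h
    by_cases hs : h ∈ S
    · exact (hfact r hr h hs).symm
    · constructor
      · intro hh
        exact absurd (hH'S hh) hs
      · intro hh
        exfalso
        apply hs
        have := hSn.conj_mem _ (hH'S hh) r⁻¹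
        have e : r⁻¹ * (r * h * r⁻¹) * r⁻¹⁻¹ = h := by group
        rw [e] at this
        exact this
  exact Subgroup.normalizer_eq_top_iff.mp hnormalizer

theorem mem_special_iff {F : Type*} [Field F] {n : ℕ} (Q : QuadraticForm F (Fin n → F))
    (g : ↥(Cfsg.isometryGroup F ⇑Q)) :
    g ∈ Cfsg.specialIsometryGroup F ⇑Q ↔ (imat Q g).det = 1 := by
  change g ∈ (Matrix.GeneralLinearGroup.det.comp (Cfsg.isometryGroup F ⇑Q).subtype).ker ↔ _
  rw [MonoidHom.mem_ker]
  constructor
  · intro h
    exact congrArg Units.val h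
  · intro h
    exact Units.ext h

/-- Existence and uniqueness of Ω: if F is finite, n ≥ 2, Q is a quadratic form on F^n with non-degenerate polar form and (|F|, n) ≠ (2, 4), then the group of isometries of determinant one has a unique subgroup of index 2. -/
theorem result {F : Type*} [Field F] [Fintype F] {n : ℕ} (hn : 2 ≤ n) (Q : QuadraticForm F (Fin n → F)) (hQ : (QuadraticMap.polarBilin Q).Nondegenerate) (h : Fintype.card F ≠ 2 ∨ n ≠ 4) : ∃! H : Subgroup ↥(Cfsg.specialIsometryGroup F ⇑Q), H.index = 2 := by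
  classical
  have htop := Cfsg.Agent.S0786.closure_Rset_eq_top Q hQ h
  have hle : Cfsg.Omega F ⇑Q ≤ Cfsg.specialIsometryGroup F ⇑Q :=
    Abelianization.commutator_subset_ker _
  by_cases h2 : (2 : F) = 0
  · -- characteristic two
    obtain ⟨δ, -, -, -, hidx⟩ := dickson_main Q h2 hQ hn h
    have hStop : Cfsg.specialIsometryGroup F ⇑Q = ⊤ := by
      rw [eq_top_iff, ← htop, Subgroup.closure_le]
      rintro r ⟨u, hu, hr⟩
      rw [SetLike.mem_coe, mem_special_iff]
      change imat Q r = _ at hr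
      rw [hr, (Cfsg.Agent.S0784.result Q u hu).2.2.2]
      linear_combination -h2
    have hSidx : (Cfsg.specialIsometryGroup F ⇑Q).index = 1 := by
      rw [hStop]; exact Subgroup.index_top
    have hrel : (Cfsg.Omega F ⇑Q).relIndex (Cfsg.specialIsometryGroup F ⇑Q) = 2 := by
      have := Subgroup.relIndex_mul_index hle
      rw [hSidx, hidx] at this
      omega
    apply existsUnique_index_two_core _ (Or.inl hSidx) hrel
    intro H hH
    apply Subgroup.normal_of_index_eq_two
    rw [Subgroup.index_map_subtype, hH, hSidx]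
  · -- odd characteristic
    obtain ⟨θ, -, -, hidx⟩ := spinor_main Q h2 hQ hn
    obtain ⟨a, -, ha⟩ : ∃ a : Fin n → F, True ∧ Q a ≠ 0 := by
      obtain ⟨v₁, v₂, hv₁, hv₂, -⟩ := exists_refl_sign_ne Q h2 hQ hn 1 one_ne_zero
      exact ⟨v₁, trivial, hv₁⟩
    have hSker : Cfsg.specialIsometryGroup F ⇑Q = (detSign Q h2 hQ).ker := by
      ext g
      rw [mem_special_iff, MonoidHom.mem_ker, detSign_eq_one_iff]
    have hSidx : (Cfsg.specialIsometryGroup F ⇑Q).index = 2 := by
      rw [hSker]
      exact index_ker_of_surj _ (mkRefl Q a ha) (detSign_refl Q h2 hQ a ha)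
    have hrel : (Cfsg.Omega F ⇑Q).relIndex (Cfsg.specialIsometryGroup F ⇑Q) = 2 := by
      have := Subgroup.relIndex_mul_index hle
      rw [hSidx, hidx] at this
      omega
    haveI : (Cfsg.specialIsometryGroup F ⇑Q).Normal := by
      rw [hSker]; infer_instance
    apply existsUnique_index_two_core _ (Or.inr hSidx) hrel
    intro H hH
    apply normal_of_pairs _ (Rset Q) htop _ _ H hH
    · rintro r ⟨u, hu, hr⟩
      rw [eq_mkRefl Q u hu r hr]
      exact mkRefl_mul_self Q u hu
    · rw [Cfsg.Agent.S0792.result h2 Q hQ]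
      congr 1
      ext g
      constructor
      · rintro ⟨u, v, hu, hv, hg⟩
        refine ⟨mkRefl Q u hu, ⟨u, hu, rfl⟩, mkRefl Q v hv, ⟨v, hv, rfl⟩, ?_⟩
        apply Subtype.ext
        apply Units.ext
        exact hg
      · rintro ⟨a, ⟨u, hu, hau⟩, b, ⟨v, hv, hbv⟩, rfl⟩
        refine ⟨u, v, hu, hv, ?_⟩
        change imat Q a * imat Q b = _
        rw [← hau, ← hbv]

end Cfsg.Agent.S0787
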