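import Cfsg.Statements.S0793
import Cfsg.Agent.Lib.Helper6.Quad

set_option autoImplicit false
open Cfsg

namespace Cfsg.Agent.S0793

open Matrix Cfsg.Agent.Lib.Helper6

theorem matrix_ext_mulVec {F : Type*} [Field F] {n : Type*} [Fintype n] [DecidableEq n] {A B : Matrix n n F}
    (h : ∀ x, A *ᵥ x = B *ᵥ x) : A = B := by
  apply Matrix.toLin'.injective
  apply LinearMap.ext
  intro x
  simp [h x]

theorem result {F : Type*} [Field F] {n : ℕ} (Q : QuadraticForm F (Fin n → F)) (u v : Fin n → F) (hu : Q u = 0) (hv : Q v = 0) (huv : QuadraticMap.polar ⇑Q u v = 0) : (∀ c x, Q ((Cfsg.siegelMatrix ⇑Q u v c).mulVec x) = Q x) ∧ (∀ c, (Cfsg.siegelMatrix ⇑Q u v c).mulVec u = u ∧ (Cfsg.siegelMatrix ⇑Q u v c).mulVec v = v) ∧ ∀ c d, Cfsg.siegelMatrix ⇑Q u v c * Cfsg.siegelMatrix ⇑Q u v d = Cfsg.siegelMatrix ⇑Q u v (c + d) := by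
  have hvu : QuadraticMap.polar ⇑Q v u = 0 := by rw [QuadraticMap.polar_comm]; exact huv
  have huu : QuadraticMap.polar ⇑Q u u = 0 := by rw [QuadraticMap.polar_self, hu, smul_zero]
  have hvv : QuadraticMap.polar ⇑Q v v = 0 := by rw [QuadraticMap.polar_self, hv, smul_zero]
  refine ⟨?_, ?_, ?_⟩
  · intro c x
    rw [siegelMatrix_mulVec, Q_sub, Q_add, Q_smul, Q_smul, hu, hv]
    simp only [QuadraticMap.polar_add_left, QuadraticMap.polar_smul_left, QuadraticMap.polar_smul_right,
      smul_eq_mul, huv, hvu, huu, hvv, mul_zero, add_zero]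
    rw [QuadraticMap.polar_comm ⇑Q x v, QuadraticMap.polar_comm ⇑Q x u]
    ring
  · intro c
    constructor
    · rw [siegelMatrix_mulVec, huu, hvu, mul_zero, zero_smul, zero_smul, add_zero, sub_zero]
    · rw [siegelMatrix_mulVec, huv, hvv, mul_zero, zero_smul, zero_smul, add_zero, sub_zero]
  · intro c d
    apply matrix_ext_mulVec
    intro x
    rw [← mulVec_mulVec, siegelMatrix_mulVec, siegelMatrix_mulVec, siegelMatrix_mulVec]
    simp only [QuadraticMap.polar_add_right, QuadraticMap.polar_sub_right, QuadraticMap.polar_smul_right,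
      smul_eq_mul, huv, hvu, huu, hvv, mul_zero, add_zero, sub_zero]
    ext i
    simp only [Pi.add_apply, Pi.sub_apply, Pi.smul_apply, smul_eq_mul]
    ring

end Cfsg.Agent.S0793
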