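-- Statement S0794
import Cfsg.Statements.S0794
import Mathlib
import Cfsg.Agent.S0793
import Cfsg.Agent.S0785

set_option autoImplicit false
open Cfsg

namespace Cfsg.Agent.S0794

open Matrix Cfsg.Agent.Lib.Helper6

section
variable {F : Type*} [Field F] {n : ℕ} (Q : QuadraticForm F (Fin n → F))

local notation "Mat" => Matrix (Fin n) (Fin n) F
local notation "GLn" => Matrix.GeneralLinearGroup (Fin n) F

/-- the torus element acting by `lam` on `u` and `lam⁻¹` on `u'` -/
def Hm (u u' : Fin n → F) (lam : F) : Mat :=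
  1 + (lam - 1) • Matrix.vecMulVec u (Cfsg.polarVec ⇑Q u') +
    (lam⁻¹ - 1) • Matrix.vecMulVec u' (Cfsg.polarVec ⇑Q u)

theorem Hm_mulVec (u u' : Fin n → F) (lam : F) (x : Fin n → F) :
    Hm Q u u' lam *ᵥ x = x + ((lam - 1) * QuadraticMap.polar ⇑Q u' x) • u +
      ((lam⁻¹ - 1) * QuadraticMap.polar ⇑Q u x) • u' := by
  unfold Hm
  rw [add_mulVec, add_mulVec, one_mulVec, smul_mulVec, smul_mulVec, vecMulVec_mulVec,
    vecMulVec_mulVec, polarVec_dot, polarVec_dot]
  ext i
  simp only [Pi.add_apply, Pi.smul_apply, MulOpposite.smul_eq_mul_unop, MulOpposite.unop_op,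
    smul_eq_mul]
  ring

variable {Q}

theorem Hm_Hm (u u' : Fin n → F) (hu : Q u = 0) (hu' : Q u' = 0)
    (huu' : QuadraticMap.polar ⇑Q u u' = 1) (lam : F) (hlam : lam ≠ 0) :
    Hm Q u u' lam * Hm Q u u' lam⁻¹ = 1 := by
  have h1 : QuadraticMap.polar ⇑Q u u = 0 := by rw [QuadraticMap.polar_self, hu, smul_zero]
  have h2 : QuadraticMap.polar ⇑Q u' u' = 0 := by rw [QuadraticMap.polar_self, hu', smul_zero]
  have h3 : QuadraticMap.polar ⇑Q u' u = 1 := by rw [QuadraticMap.polar_comm]; exact huu'
  apply Cfsg.Agent.S0793.matrix_ext_mulVec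
  intro x
  rw [← mulVec_mulVec, one_mulVec, Hm_mulVec, Hm_mulVec]
  simp only [QuadraticMap.polar_add_right, QuadraticMap.polar_smul_right, smul_eq_mul, h1, h2, h3,
    huu', inv_inv, mul_zero, add_zero, mul_one]
  ext i
  simp only [Pi.add_apply, Pi.smul_apply, smul_eq_mul]
  field_simp
  ring

theorem Hm_pres (u u' : Fin n → F) (hu : Q u = 0) (hu' : Q u' = 0)
    (huu' : QuadraticMap.polar ⇑Q u u' = 1) (lam : F) (hlam : lam ≠ 0) (x : Fin n → F) :
    Q (Hm Q u u' lam *ᵥ x) = Q x := by
  rw [Hm_mulVec, Q_add, Q_add, Q_smul, Q_smul, hu, hu']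
  simp only [QuadraticMap.polar_add_left, QuadraticMap.polar_smul_left, QuadraticMap.polar_smul_right,
    smul_eq_mul, huu', mul_zero, add_zero, mul_one]
  rw [QuadraticMap.polar_comm ⇑Q x u, QuadraticMap.polar_comm ⇑Q x u']
  field_simp
  ring

end

theorem result {F : Type*} [Field F] [Fintype F] (h2 : (2 : F) ≠ 0) {n : ℕ} (hn : 5 ≤ n) (Q : QuadraticForm F (Fin n → F)) (hQ : (QuadraticMap.polarBilin Q).Nondegenerate) (u v : Fin n → F) (hu : Q u = 0) (hv : Q v = 0) (huv : QuadraticMap.polar ⇑Q u v = 0) (c : F) (g : ↥(Cfsg.isometryGroup F ⇑Q)) (hg : ((g : Matrix.GeneralLinearGroup (Fin n) F) : Matrix (Fin n) (Fin n) F) = Cfsg.siegelMatrix ⇑Q u v c) : g ∈ commutatorSet ↥(Cfsg.isometryGroup F ⇑Q) ∧ g ∈ Cfsg.Omega F ⇑Q := by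
  classical
  suffices hcomm : g ∈ commutatorSet ↥(Cfsg.isometryGroup F ⇑Q) by
    refine ⟨hcomm, ?_⟩
    change g ∈ commutator ↥(Cfsg.isometryGroup F ⇑Q)
    rw [commutator_eq_closure]
    exact Subgroup.subset_closure hcomm
  have hnd : ∀ x : Fin n → F, (∀ y, QuadraticMap.polar ⇑Q x y = 0) → x = 0 := fun x hx =>
    hQ.1 x hx
  by_cases hw : ∃ w, QuadraticMap.polar ⇑Q u w = 1 ∧ QuadraticMap.polar ⇑Q v w = 0
  · obtain ⟨w, hw1, hw2⟩ := hw
    have huu : QuadraticMap.polar ⇑Q u u = 0 := by rw [QuadraticMap.polar_self, hu, smul_zero]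
    have hvu : QuadraticMap.polar ⇑Q v u = 0 := by rw [QuadraticMap.polar_comm]; exact huv
    obtain ⟨u', hu'def⟩ : ∃ u', u' = w - Q w • u := ⟨_, rfl⟩
    have huu' : QuadraticMap.polar ⇑Q u u' = 1 := by
      rw [hu'def, QuadraticMap.polar_sub_right, QuadraticMap.polar_smul_right, huu, hw1]
      simp
    have hvu' : QuadraticMap.polar ⇑Q v u' = 0 := by
      rw [hu'def, QuadraticMap.polar_sub_right, QuadraticMap.polar_smul_right, hvu, hw2]
      simp
    have hu' : Q u' = 0 := by
      rw [hu'def, Q_sub, Q_smul, hu, QuadraticMap.polar_smul_right, QuadraticMap.polar_comm, hw1]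
      simp
    have h2inv : (2 : F)⁻¹ ≠ 0 := inv_ne_zero h2
    -- the torus element
    let hh : ↥(Cfsg.isometryGroup F ⇑Q) :=
      ⟨⟨Hm Q u u' 2, Hm Q u u' 2⁻¹, Hm_Hm u u' hu hu' huu' 2 h2, by
        have := Hm_Hm u u' hu hu' huu' 2⁻¹ h2inv
        rwa [inv_inv] at this⟩, by
        rw [Cfsg.Agent.S0785.mem_isometryGroup_iff]
        exact Hm_pres u u' hu hu' huu' 2 h2⟩
    have hhval : ((hh : Matrix.GeneralLinearGroup (Fin n) F) : Matrix (Fin n) (Fin n) F) =
      Hm Q u u' 2 := rfl
    -- key identity: h * g = g * g * h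
    have key : hh * g = g * g * hh := by
      apply Subtype.ext
      apply Units.ext
      change ((hh : Matrix.GeneralLinearGroup (Fin n) F) : Matrix (Fin n) (Fin n) F) *
        ((g : Matrix.GeneralLinearGroup (Fin n) F) : Matrix (Fin n) (Fin n) F) =
        ((g : Matrix.GeneralLinearGroup (Fin n) F) : Matrix (Fin n) (Fin n) F) *
        ((g : Matrix.GeneralLinearGroup (Fin n) F) : Matrix (Fin n) (Fin n) F) *
        ((hh : Matrix.GeneralLinearGroup (Fin n) F) : Matrix (Fin n) (Fin n) F)
      rw [hhval, hg, (Cfsg.Agent.S0793.result Q u v hu hv huv).2.2]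
      apply Cfsg.Agent.S0793.matrix_ext_mulVec
      intro x
      rw [← mulVec_mulVec, ← mulVec_mulVec, siegelMatrix_mulVec, siegelMatrix_mulVec, Hm_mulVec,
        Hm_mulVec]
      simp only [QuadraticMap.polar_add_right, QuadraticMap.polar_sub_right,
        QuadraticMap.polar_smul_right, smul_eq_mul, huu, huv, hvu, huu', hvu', mul_zero, add_zero,
        sub_zero, mul_one]
      have e1 : QuadraticMap.polar ⇑Q u' v = 0 := by rw [QuadraticMap.polar_comm]; exact hvu'
      have e2 : QuadraticMap.polar ⇑Q u' u = 1 := by rw [QuadraticMap.polar_comm]; exact huu'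
      simp only [e1, e2, mul_zero, mul_one, add_zero, sub_zero]
      ext i
      simp only [Pi.add_apply, Pi.sub_apply, Pi.smul_apply, smul_eq_mul]
      field_simp
      ring
    rw [mem_commutatorSet_iff]
    refine ⟨hh, g, ?_⟩
    rw [commutatorElement_def, key]
    group
  · -- degenerate case: the matrix is the identity
    push Not at hw
    have hker : ∀ w, QuadraticMap.polar ⇑Q v w = 0 → QuadraticMap.polar ⇑Q u w = 0 := by
      intro w hvw
      by_contra hne
      apply hw ((QuadraticMap.polar ⇑Q u w)⁻¹ • w)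
      · rw [QuadraticMap.polar_smul_right, smul_eq_mul, inv_mul_cancel₀ hne]
      · rw [QuadraticMap.polar_smul_right, hvw, smul_zero]
    have hone : Cfsg.siegelMatrix ⇑Q u v c = 1 := by
      by_cases hv0 : v = 0
      · have hu0 : u = 0 := by
          apply hnd
          intro y
          apply hker
          rw [hv0, QuadraticMap.polar_zero_left]
        apply Cfsg.Agent.S0793.matrix_ext_mulVec
        intro x
        rw [siegelMatrix_mulVec, hu0, hv0]
        simp
      · obtain ⟨w₀, hw₀⟩ : ∃ w₀, QuadraticMap.polar ⇑Q v w₀ = 1 := by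
          by_contra hcon
          push Not at hcon
          apply hv0
          apply hnd
          intro y
          by_contra hne
          apply hcon ((QuadraticMap.polar ⇑Q v y)⁻¹ • y)
          rw [QuadraticMap.polar_smul_right, smul_eq_mul, inv_mul_cancel₀ hne]
        have hua : u = QuadraticMap.polar ⇑Q u w₀ • v := by
          rw [← sub_eq_zero]
          apply hnd
          intro y
          have h1 := hker (y - QuadraticMap.polar ⇑Q v y • w₀) (by
            rw [QuadraticMap.polar_sub_right, QuadraticMap.polar_smul_right, hw₀]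
            simp)
          rw [QuadraticMap.polar_sub_right, QuadraticMap.polar_smul_right] at h1
          rw [QuadraticMap.polar_sub_left, QuadraticMap.polar_smul_left]
          simp only [smul_eq_mul] at h1 ⊢
          linear_combination h1
        apply Cfsg.Agent.S0793.matrix_ext_mulVec
        intro x
        rw [siegelMatrix_mulVec, one_mulVec]
        obtain ⟨a, ha⟩ : ∃ a, a = QuadraticMap.polar ⇑Q u w₀ := ⟨_, rfl⟩
        rw [← ha] at hua
        rw [hua, QuadraticMap.polar_smul_left]
        ext i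
        simp only [Pi.add_apply, Pi.sub_apply, Pi.smul_apply, smul_eq_mul]
        ring
    have hg1 : g = 1 := by
      apply Subtype.ext
      apply Units.ext
      change ((g : Matrix.GeneralLinearGroup (Fin n) F) : Matrix (Fin n) (Fin n) F) = 1
      rw [hg, hone]
    rw [hg1, mem_commutatorSet_iff]
    exact ⟨1, 1, by simp⟩

end Cfsg.Agent.S0794
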