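-- Statement S0795
import Cfsg.Statements.S0795
import Mathlib
import Cfsg.Agent.Lib.Helper6.OmegaSimple

set_option autoImplicit false
open Cfsg

namespace Cfsg.Agent.S0795

open Cfsg.Agent.Lib.Helper6 Cfsg.Agent.Lib.Helper15 Matrix

section
variable {F : Type*} [Field F] [Fintype F] {n : ℕ} (Q : QuadraticForm F (Fin n → F))

/-- the set of long root elements -/
def longSet : Set ↥(Cfsg.isometryGroup F ⇑Q) :=
  {g | ∃ (u v : Fin n → F) (c : F), Q u = 0 ∧ Q v = 0 ∧ QuadraticMap.polar ⇑Q u v = 0 ∧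
    ((g : Matrix.GeneralLinearGroup (Fin n) F) : Matrix (Fin n) (Fin n) F) =
      Cfsg.siegelMatrix ⇑Q u v c}

omit [Fintype F] in
theorem sieg_eq_siegelMatrix (u w : Fin n → F) (hw : Q w = 0) :
    sieg Q u w = Cfsg.siegelMatrix ⇑Q w u 1 := by
  apply matrix_ext_mulVec
  intro x
  rw [sieg_mulVec, siegelMatrix_mulVec, hw]
  ext i
  simp only [Pi.add_apply, Pi.smul_apply, Pi.sub_apply, smul_eq_mul]
  ring

omit [Fintype F] in
/-- Siegel transformations with both vectors singular are long root elements -/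
theorem siegIso_mem_longSet (u w : Fin n → F) (hu : Q u = 0) (huw : QuadraticMap.polar (⇑Q) u w = 0)
    (hw : Q w = 0) : siegIso Q u w hu huw ∈ Subgroup.closure (longSet Q) := by
  apply Subgroup.subset_closure
  refine ⟨w, u, 1, hw, hu, by rw [QuadraticMap.polar_comm]; exact huw, ?_⟩
  exact sieg_eq_siegelMatrix Q u w hw

theorem siegIso_mem_closure_longSet (hQ : (QuadraticMap.polarBilin Q).Nondegenerate)
    (h5 : 5 ≤ n) (u w : Fin n → F) (hu : Q u = 0) (huw : QuadraticMap.polar (⇑Q) u w = 0) :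
    siegIso Q u w hu huw ∈ Subgroup.closure (longSet Q) := by
  have hfin : 5 ≤ Module.finrank F (Fin n → F) := by
    rw [Module.finrank_fintype_fun_eq_card, Fintype.card_fin]; exact h5
  by_cases hu0 : u = 0
  · subst hu0
    have : siegIso Q 0 w hu huw = 1 := by
      apply iso_ext_gact
      intro x
      rw [gact_siegIso, gact_one]
      simp
    rw [this]
    exact Subgroup.one_mem _
  obtain ⟨z₁, z₂, hz₁, hz₂, hz12, huz₁, huz₂⟩ := exists_hyp_pair_perp Q hQ hfin u hu0 hu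
  obtain ⟨α, hα⟩ : ∃ α, α = QuadraticMap.polar (⇑Q) z₂ w := ⟨_, rfl⟩
  obtain ⟨β, hβ⟩ : ∃ β, β = QuadraticMap.polar (⇑Q) z₁ w := ⟨_, rfl⟩
  obtain ⟨w₀, hw₀⟩ : ∃ w₀, w₀ = w - α • z₁ - β • z₂ := ⟨_, rfl⟩
  have h1 : QuadraticMap.polar (⇑Q) z₁ w₀ = 0 := by
    rw [hw₀, QuadraticMap.polar_sub_right, QuadraticMap.polar_sub_right,
      QuadraticMap.polar_smul_right, QuadraticMap.polar_smul_right, QuadraticMap.polar_self, hz₁,
      hz12, ← hβ]
    simp
  have h2 : QuadraticMap.polar (⇑Q) z₂ w₀ = 0 := by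
    rw [hw₀, QuadraticMap.polar_sub_right, QuadraticMap.polar_sub_right,
      QuadraticMap.polar_smul_right, QuadraticMap.polar_smul_right, QuadraticMap.polar_self, hz₂,
      QuadraticMap.polar_comm (⇑Q) z₂ z₁, hz12, ← hα]
    simp
  have h0 : QuadraticMap.polar (⇑Q) u w₀ = 0 := by
    rw [hw₀, QuadraticMap.polar_sub_right, QuadraticMap.polar_sub_right,
      QuadraticMap.polar_smul_right, QuadraticMap.polar_smul_right, huw, huz₁, huz₂]
    simp
  -- the five singular pieces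
  obtain ⟨p₁, hp₁⟩ : ∃ p₁, p₁ = w₀ + (-(Q w₀)) • z₁ + (1 : F) • z₂ := ⟨_, rfl⟩
  have hQp₁ : Q p₁ = 0 := by
    rw [hp₁, Q_expand, hz₁, hz₂, hz12, QuadraticMap.polar_comm (⇑Q) w₀ z₁,
      QuadraticMap.polar_comm (⇑Q) w₀ z₂, h1, h2]
    ring
  have hup₁ : QuadraticMap.polar (⇑Q) u p₁ = 0 := by
    rw [hp₁, QuadraticMap.polar_add_right, QuadraticMap.polar_add_right,
      QuadraticMap.polar_smul_right, QuadraticMap.polar_smul_right, h0, huz₁, huz₂]
    simp
  have hsm : ∀ (t : F) (z : Fin n → F), QuadraticMap.polar (⇑Q) u z = 0 →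
      QuadraticMap.polar (⇑Q) u (t • z) = 0 := by
    intro t z hz
    rw [QuadraticMap.polar_smul_right, hz, smul_zero]
  have hQsm : ∀ (t : F) (z : Fin n → F), Q z = 0 → Q (t • z) = 0 := by
    intro t z hz
    rw [Q_smul, hz, mul_zero]
  have hdecomp : w = p₁ + (Q w₀ - 1 + α) • z₁ + (β - 1) • z₂ + (1 : F) • z₁ := by
    rw [hp₁, hw₀]
    ext i
    simp only [Pi.add_apply, Pi.sub_apply, Pi.smul_apply, smul_eq_mul]
    ring
  have e : siegIso Q u w hu huw =
      siegIso Q u p₁ hu hup₁ * siegIso Q u ((Q w₀ - 1 + α) • z₁) hu (hsm _ _ huz₁) *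
        siegIso Q u ((β - 1) • z₂) hu (hsm _ _ huz₂) *
        siegIso Q u ((1 : F) • z₁) hu (hsm _ _ huz₁) := by
    rw [siegIso_mul, siegIso_mul, siegIso_mul]
    exact siegIso_congr Q u w _ hu huw hdecomp
  rw [e]
  exact Subgroup.mul_mem _ (Subgroup.mul_mem _ (Subgroup.mul_mem _
    (siegIso_mem_longSet Q u p₁ hu hup₁ hQp₁)
    (siegIso_mem_longSet Q u _ hu _ (hQsm _ _ hz₁)))
    (siegIso_mem_longSet Q u _ hu _ (hQsm _ _ hz₂)))
    (siegIso_mem_longSet Q u _ hu _ (hQsm _ _ hz₁))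

end

/-- Generation of Ω by root elements: for q odd, n ≥ 5 and Q with non-degenerate polar form on F^n, the commutator subgroup of the isometry group equals the subgroup generated by the isometries whose matrices are Siegel transformations T_(u,v)(c) with u, v singular and orthogonal. -/
theorem result {F : Type*} [Field F] [Fintype F] (h2 : (2 : F) ≠ 0) {n : ℕ} (hn : 5 ≤ n) (Q : QuadraticForm F (Fin n → F)) (hQ : (QuadraticMap.polarBilin Q).Nondegenerate) : Cfsg.Omega F ⇑Q = Subgroup.closure {g : ↥(Cfsg.isometryGroup F ⇑Q) | ∃ (u v : Fin n → F) (c : F), Q u = 0 ∧ Q v = 0 ∧ QuadraticMap.polar ⇑Q u v = 0 ∧ ((g : Matrix.GeneralLinearGroup (Fin n) F) : Matrix (Fin n) (Fin n) F) = Cfsg.siegelMatrix ⇑Q u v c} := by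
  classical
  have h5 : 5 ≤ Fintype.card (Fin n) := by rw [Fintype.card_fin]; exact hn
  change Cfsg.Omega F ⇑Q = Subgroup.closure (longSet Q)
  apply le_antisymm
  · rw [← Sg_eq_Omega Q hQ h5]
    unfold Sg
    rw [Subgroup.closure_le]
    rintro g ⟨u, w, hu, huw, rfl⟩
    exact siegIso_mem_closure_longSet Q hQ hn u w hu huw
  · rw [Subgroup.closure_le]
    rintro g ⟨u, v, c, hu, hv, huv, hg⟩
    -- `g` is the Siegel transformation `ρ_{v, c u}`
    have hvu : QuadraticMap.polar (⇑Q) v (c • u) = 0 := by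
      rw [QuadraticMap.polar_smul_right, QuadraticMap.polar_comm, huv, smul_zero]
    have e : g = siegIso Q v (c • u) hv hvu := by
      apply Subtype.ext
      apply Units.ext
      rw [hg]
      apply matrix_ext_mulVec
      intro x
      change _ = sieg Q v (c • u) *ᵥ x
      rw [sieg_mulVec, siegelMatrix_mulVec, Q_smul, hu]
      simp only [QuadraticMap.polar_smul_left, smul_eq_mul, smul_smul]
      ext i
      simp only [Pi.add_apply, Pi.smul_apply, Pi.sub_apply, smul_eq_mul]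
      ring
    rw [e]
    exact siegIso_mem_Omega Q hQ h5 v (c • u) hv hvu

end Cfsg.Agent.S0795
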