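import Cfsg.Statements.S0796
import Mathlib

set_option autoImplicit false
open Cfsg

namespace Cfsg.Agent.S0796

open MulAction

theorem result {G X : Type*} [Group G] [Finite G] [MulAction G X] [FaithfulSMul G X] (hprim : MulAction.IsPreprimitive G X) (x : X) (A : Subgroup G) (hA : A ≤ MulAction.stabilizer G x) (hAn : (A.subgroupOf (MulAction.stabilizer G x)).Normal) (hgen : Subgroup.normalClosure (A : Set G) = ⊤) (K : Subgroup G) [K.Normal] (hK : K ≠ ⊥) : ∃ (B : Subgroup A) (_ : B.Normal), Nonempty (G ⧸ K ≃* A ⧸ B) := by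
  -- K is transitive
  have hKfix : fixedPoints K X ≠ Set.univ := by
    intro h
    apply hK
    rw [eq_bot_iff]
    intro k hk
    rw [Subgroup.mem_bot]
    apply FaithfulSMul.eq_of_smul_eq_smul (α := X)
    intro y
    rw [one_smul]
    have : y ∈ fixedPoints K X := by rw [h]; trivial
    exact this ⟨k, hk⟩
  have hKtr : IsPretransitive K X := IsQuasiPreprimitive.isPretransitive_of_normal hKfix
  -- A ⊔ K = ⊤
  have hconj : ∀ g : G, ∀ a ∈ A, g * a * g⁻¹ ∈ A ⊔ K := by
    intro g a ha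
    obtain ⟨k, hk⟩ := hKtr.exists_smul_eq x (g • x)
    have hk' : (k : G) • x = g • x := hk
    set h := (k : G)⁻¹ * g with hh
    have hhx : h ∈ stabilizer G x := by
      rw [mem_stabilizer_iff, hh, mul_smul, ← hk', inv_smul_smul]
    have hg : g = (k : G) * h := by rw [hh]; group
    have ha' : h * a * h⁻¹ ∈ A := by
      have := hAn.conj_mem ⟨a, hA ha⟩ (by rw [Subgroup.mem_subgroupOf]; exact ha) ⟨h, hhx⟩
      rw [Subgroup.mem_subgroupOf] at this
      exact this
    set a' := h * a * h⁻¹ with ha'def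
    have e : g * a * g⁻¹ = a' * ((a'⁻¹ * (k : G) * a'⁻¹⁻¹) * (k : G)⁻¹) := by
      rw [hg, ha'def]; group
    rw [e]
    apply Subgroup.mul_mem_sup ha'
    exact K.mul_mem (Subgroup.Normal.conj_mem inferInstance _ k.2 _) (K.inv_mem k.2)
  have htop : A ⊔ K = ⊤ := by
    rw [eq_top_iff, ← hgen, Subgroup.normalClosure, Subgroup.closure_le]
    intro y hy
    rw [Group.mem_conjugatesOfSet_iff] at hy
    obtain ⟨a, ha, hay⟩ := hy
    rw [isConj_iff] at hay
    obtain ⟨c, rfl⟩ := hay
    exact hconj c a ha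
  let φ : A →* G ⧸ K := (QuotientGroup.mk' K).comp A.subtype
  have hφ : Function.Surjective φ := by
    intro q
    obtain ⟨g, rfl⟩ := QuotientGroup.mk_surjective q
    have hg : g ∈ ((A ⊔ K : Subgroup G) : Set G) := by rw [htop]; trivial
    rw [Subgroup.mul_normal] at hg
    obtain ⟨a, ha, k, hk, rfl⟩ := hg
    refine ⟨⟨a, ha⟩, ?_⟩
    change (QuotientGroup.mk a : G ⧸ K) = QuotientGroup.mk (a * k)
    rw [QuotientGroup.eq]
    simpa using hk
  exact ⟨φ.ker, inferInstance, ⟨(QuotientGroup.quotientKerEquivOfSurjective φ hφ).symm⟩⟩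

end Cfsg.Agent.S0796
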