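-- Statement S0797
import Cfsg.Statements.S0797
import Mathlib
import Cfsg.Agent.Lib.Helper6.Spinor
import Cfsg.Agent.Lib.Helper6.IndexTwo

set_option autoImplicit false
open Cfsg

namespace Cfsg.Agent.S0797

open Cfsg.Agent.Lib.Helper6

/-- O^ε_2m(q) ≅ Ω.2² for q odd: if F is finite of odd characteristic, n ≥ 2 is even and Q has non-degenerate polar form on F^n, the isometry group of Q has exactly three subgroups of index 2. -/
theorem result {F : Type*} [Field F] [Fintype F] (h2 : (2 : F) ≠ 0) {n : ℕ} (hn : 2 ≤ n) (heven : Even n) (Q : QuadraticForm F (Fin n → F)) (hQ : (QuadraticMap.polarBilin Q).Nondegenerate) : Nat.card {H : Subgroup ↥(Cfsg.isometryGroup F ⇑Q) // H.index = 2} = 3 := by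
  classical
  obtain ⟨θ, -, hmem, hidx⟩ := spinor_main Q h2 hQ hn
  set ψ : ↥(Cfsg.isometryGroup F ⇑Q) →* ℤˣ × ℤˣ := (detSign Q h2 hQ).prod θ with hψ
  have hker : ψ.ker = Cfsg.Omega F ⇑Q := by
    ext g
    rw [hmem g, MonoidHom.mem_ker, hψ, MonoidHom.prod_apply, Prod.mk_eq_one, detSign_eq_one_iff]
  have hcard : Nat.card ψ.range = 4 := by
    rw [← Subgroup.index_ker, hker, hidx]
  have htop : ψ.range = ⊤ := by
    apply Subgroup.eq_top_of_card_eq
    rw [hcard, Nat.card_prod]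
    simp
  have hsurj : Function.Surjective ψ := MonoidHom.range_eq_top.mp htop
  obtain ⟨a, ha⟩ := hsurj (-1, 1)
  obtain ⟨b, hb⟩ := hsurj (-1, -1)
  rw [hψ, MonoidHom.prod_apply, Prod.mk.injEq] at ha hb
  apply card_index_two_eq_three (detSign Q h2 hQ) θ a b ha.1 ha.2 hb.1 hb.2
  intro g h1 h3
  exact (hmem g).mpr ⟨(detSign_eq_one_iff Q h2 hQ g).mp h1, h3⟩

end Cfsg.Agent.S0797
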