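-- Statement S0798
import Cfsg.Statements.S0798
import Mathlib
import Cfsg.Agent.Lib.Helper6.ReflClass

set_option autoImplicit false
open Cfsg

namespace Cfsg.Agent.S0798

open Cfsg.Agent.Lib.Helper6

/-- For q odd, n ≥ 2 even, Q with non-degenerate polar form (n, |F|) ≠ (4, 3), and a fixed c ≠ 0: the subgroup of the isometry group generated by the reflections r_v with Q(v) ∈ c·(F^×)² has index 2. -/
theorem result {F : Type*} [Field F] [Fintype F] (h2 : (2 : F) ≠ 0) {n : ℕ} (hn : 2 ≤ n) (heven : Even n) (Q : QuadraticForm F (Fin n → F)) (hQ : (QuadraticMap.polarBilin Q).Nondegenerate) (h43 : ¬ (n = 4 ∧ Fintype.card F = 3)) (c : F) (hc : c ≠ 0) : (Subgroup.closure {g : ↥(Cfsg.isometryGroup F ⇑Q) | ∃ (v : Fin n → F) (t : F), t ≠ 0 ∧ Q v = c * t ^ 2 ∧ ((g : Matrix.GeneralLinearGroup (Fin n) F) : Matrix (Fin n) (Fin n) F) = Cfsg.reflectionMatrix ⇑Q v}).index = 2 := by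
  classical
  change (Rc Q c).index = 2
  obtain ⟨k, hk⟩ := heven
  by_cases h : n = 2
  · subst h
    exact index_Rc_plane Q h2 hQ c hc
  · apply index_Rc_of_four_le Q h2 hQ (by omega) _ c hc
    by_cases h3 : Fintype.card F = 3
    · right
      have : n ≠ 4 := fun h4 => h43 ⟨h4, h3⟩
      omega
    · exact Or.inl h3

end Cfsg.Agent.S0798
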