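import Cfsg.Statements.S0800
import Mathlib

set_option autoImplicit false
open Cfsg

namespace Cfsg.Agent.S0800

open Matrix Polynomial

section
variable {F : Type*} [Field F]

/-- Cayley–Hamilton for 2×2 matrices of determinant one. -/
theorem sq_eq (G : Matrix (Fin 2) (Fin 2) F) (hdet : G.det = 1) :
    G * G - G.trace • G + 1 = 0 := by
  have h := Matrix.aeval_self_charpoly G
  rw [Matrix.charpoly_fin_two, hdet] at h
  simpa [sq, Algebra.smul_def] using h

theorem unipotent_of_fix (u : Matrix (Fin 2) (Fin 2) F) (hdet : u.det = 1) (v : Fin 2 → F) (hv : v ≠ 0)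
    (huv : u *ᵥ v = v) : (u - 1) * (u - 1) = 0 := by
  have hd : (u - 1).det = 0 := by
    apply Matrix.exists_mulVec_eq_zero_iff.mp
    refine ⟨v, hv, ?_⟩
    rw [sub_mulVec, huv, one_mulVec, sub_self]
  have htr : u.trace = 2 := by
    rw [Matrix.det_fin_two] at hd hdet
    rw [Matrix.trace_fin_two]
    simp only [Matrix.sub_apply, one_apply_eq, ne_eq, Fin.isValue, zero_ne_one, not_false_eq_true,
      one_apply_ne, sub_zero, one_ne_zero] at hd
    linear_combination hdet - hd
  have h := sq_eq u hdet
  rw [htr] at h
  have : (u - 1) * (u - 1) = u * u - (2 : F) • u + 1 := by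
    rw [sub_mul, mul_sub, mul_one, one_mul, two_smul]
    abel
  rw [this, h]

end

theorem result {F : Type*} [Field F] [Fintype F] {q : ℕ} (hF : Fintype.card F = q) (p : ℕ) [Fact p.Prime] [CharP F p] (g : Matrix.SpecialLinearGroup (Fin 2) F) (hg : Nat.Coprime (orderOf g) p) : orderOf g ∣ q - 1 ∨ orderOf g ∣ q + 1 := by
  classical
  set G : Matrix (Fin 2) (Fin 2) F := (g : Matrix (Fin 2) (Fin 2) F) with hG
  set Gi : Matrix (Fin 2) (Fin 2) F := ((g⁻¹ : Matrix.SpecialLinearGroup (Fin 2) F) : Matrix (Fin 2) (Fin 2) F) with hGi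
  have hGGi : G * Gi = 1 := by
    rw [hG, hGi, ← Matrix.SpecialLinearGroup.coe_mul, mul_inv_cancel, Matrix.SpecialLinearGroup.coe_one]
  have hGiG : Gi * G = 1 := by
    rw [hG, hGi, ← Matrix.SpecialLinearGroup.coe_mul, inv_mul_cancel, Matrix.SpecialLinearGroup.coe_one]
  have hdet : G.det = 1 := g.2
  have hq1 : 1 < q := by rw [← hF]; exact Fintype.one_lt_card
  have hpow : ∀ k : ℕ, ((g ^ k : Matrix.SpecialLinearGroup (Fin 2) F) : Matrix (Fin 2) (Fin 2) F) = G ^ k :=
    fun k => Matrix.SpecialLinearGroup.coe_pow g k
  have hord : ∀ k : ℕ, G ^ k = 1 → orderOf g ∣ k := by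
    intro k hk
    apply orderOf_dvd_of_pow_eq_one
    apply Subtype.ext
    rw [hpow, hk]; rfl
  by_cases hev : ∃ (v : Fin 2 → F) (lam : F), v ≠ 0 ∧ G *ᵥ v = lam • v
  · -- eigenvector case
    left
    obtain ⟨v, lam, hv, hGv⟩ := hev
    have hlam : lam ≠ 0 := by
      intro h0
      rw [h0, zero_smul] at hGv
      have : Gi *ᵥ (G *ᵥ v) = 0 := by rw [hGv, mulVec_zero]
      rw [mulVec_mulVec, hGiG, one_mulVec] at this
      exact hv this
    have hpowv : ∀ k : ℕ, (G ^ k) *ᵥ v = lam ^ k • v := by
      intro k
      induction k with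
      | zero => simp
      | succ k ih =>
        rw [pow_succ, ← mulVec_mulVec, hGv, mulVec_smul, ih, smul_smul, pow_succ, mul_comm]
    have hu : (G ^ (q - 1)) *ᵥ v = v := by
      rw [hpowv, ← hF, FiniteField.pow_card_sub_one_eq_one lam hlam, one_smul]
    have hudet : (G ^ (q - 1)).det = 1 := by rw [det_pow, hdet, one_pow]
    have hN := unipotent_of_fix (G ^ (q - 1)) hudet v hv hu
    haveI : CharP (Matrix (Fin 2) (Fin 2) F) p := Matrix.charP p
    have hp2 : 2 ≤ p := (Fact.out : p.Prime).two_le
    have hup : (G ^ (q - 1)) ^ p = 1 := by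
      have h1 : G ^ (q - 1) = (G ^ (q - 1) - 1) + 1 := by abel
      rw [h1, add_pow_char_of_commute p (Commute.one_right _), one_pow]
      have : (G ^ (q - 1) - 1) ^ p = 0 := by
        have : p = 2 + (p - 2) := by omega
        rw [this, pow_add, sq, hN, zero_mul]
      rw [this, zero_add]
    rw [← pow_mul] at hup
    have := hord _ hup
    exact hg.dvd_of_dvd_mul_right this
  · -- no eigenvector
    push Not at hev
    -- g^q satisfies the characteristic polynomial
    have hCH := sq_eq G hdet
    set t := G.trace with ht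
    set χ : F[X] := X ^ 2 - C t * X + 1 with hχ
    have hχG : aeval G χ = 0 := by
      rw [hχ]
      simp only [map_add, map_sub, map_pow, aeval_X, map_mul, aeval_C, map_one]
      rw [sq, Algebra.algebraMap_eq_smul_one, smul_mul_assoc, one_mul]
      exact hCH
    have hχH : aeval (G ^ q) χ = 0 := by
      have h1 : aeval (G ^ q) χ = aeval G (expand F q χ) := by rw [expand_aeval]
      rw [h1, ← hF, FiniteField.expand_card, map_pow, hχG, zero_pow Fintype.card_ne_zero]
    set H := G ^ q with hH
    have hHeq : H * H - t • H + 1 = 0 := by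
      have := hχH
      rw [hχ] at this
      simp only [map_add, map_sub, map_pow, aeval_X, map_mul, aeval_C, map_one] at this
      rw [sq, Algebra.algebraMap_eq_smul_one, smul_mul_assoc, one_mul] at this
      exact this
    have hsum : G + Gi = t • (1 : Matrix (Fin 2) (Fin 2) F) := by
      have : (G * G - t • G + 1) * Gi = 0 := by rw [hCH, zero_mul]
      rw [add_mul, sub_mul, mul_assoc, hGGi, mul_one, one_mul, smul_mul_assoc, hGGi] at this
      rw [← sub_eq_zero, ← this]
      abel
    have hcomm : Commute H G := (Commute.refl G).pow_left q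
    have hcommi : Commute H Gi := by
      have : Commute G Gi := by
        change G * Gi = Gi * G
        rw [hGGi, hGiG]
      exact this.pow_left q
    have hprod : (H - G) * (H - Gi) = 0 := by
      have : (H - G) * (H - Gi) = H * H - (G + Gi) * H + 1 := by
        rw [sub_mul, mul_sub, mul_sub, hGGi, add_mul, hcommi.eq]
        abel
      rw [this, hsum, smul_mul_assoc, one_mul, hHeq]
    -- A * B = 0
    have hq' : q = (q - 1) + 1 := by omega
    have hAB : (G ^ (q - 1) - 1) * (G ^ (q + 1) - 1) = 0 := by
      have e1 : H - G = G * (G ^ (q - 1) - 1) := by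
        rw [mul_sub, mul_one, ← pow_succ', ← hq']
      have e2 : (H - Gi) * G = G ^ (q + 1) - 1 := by
        rw [sub_mul, hGiG, ← pow_succ]
      have : G * ((G ^ (q - 1) - 1) * (G ^ (q + 1) - 1)) = 0 := by
        rw [← mul_assoc, ← e1, ← e2, ← mul_assoc, hprod, zero_mul]
      have h2 : Gi * (G * ((G ^ (q - 1) - 1) * (G ^ (q + 1) - 1))) = 0 := by rw [this, mul_zero]
      rwa [← mul_assoc, hGiG, one_mul] at h2
    by_cases hB : G ^ (q + 1) - 1 = 0
    · right
      exact hord _ (sub_eq_zero.mp hB)
    · left
      apply hord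
      rw [← sub_eq_zero]
      set A := G ^ (q - 1) - 1 with hA
      set B := G ^ (q + 1) - 1 with hBdef
      obtain ⟨w, hw⟩ : ∃ w : Fin 2 → F, B *ᵥ w ≠ 0 := by
        by_contra hcon
        push Not at hcon
        apply hB
        apply Matrix.toLin'.injective
        apply LinearMap.ext
        intro x
        simp [hcon x]
      set v := B *ᵥ w with hv
      have hAv : A *ᵥ v = 0 := by
        rw [hv, mulVec_mulVec, hAB, zero_mulVec]
      have hAG : A * G = G * A := by
        rw [hA, sub_mul, mul_sub, one_mul, mul_one, ← pow_succ, ← pow_succ']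
      have hAGv : A *ᵥ (G *ᵥ v) = 0 := by
        rw [mulVec_mulVec, hAG, ← mulVec_mulVec, hAv, mulVec_zero]
      -- v, G v independent
      set M : Matrix (Fin 2) (Fin 2) F := Matrix.of ![![v 0, (G *ᵥ v) 0], ![v 1, (G *ᵥ v) 1]] with hM
      have hAM : A * M = 0 := by
        ext i j
        have h1 := congrFun hAv i
        have h2 := congrFun hAGv i
        simp only [mulVec, dotProduct, Fin.sum_univ_two, Pi.zero_apply] at h1 h2
        fin_cases j
        · simp only [hM, mul_apply, Fin.sum_univ_two, Matrix.zero_apply]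
          simpa using h1
        · simp only [hM, mul_apply, Fin.sum_univ_two, Matrix.zero_apply]
          simpa using h2
      have hMdet : M.det ≠ 0 := by
        intro h0
        rw [hM, Matrix.det_fin_two_of] at h0
        by_cases hv0 : v 0 = 0
        · have hv1 : v 1 ≠ 0 := by
            intro hv1
            apply hw
            ext i
            fin_cases i
            · exact hv0
            · exact hv1
          apply hev v ((G *ᵥ v) 1 / v 1) hw
          ext i
          fin_cases i
          · simp only [Fin.zero_eta, Fin.isValue, Pi.smul_apply, smul_eq_mul]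
            rw [hv0, mul_zero]
            rw [hv0, zero_mul, zero_sub, neg_eq_zero] at h0
            rcases mul_eq_zero.mp h0 with h | h
            · exact h
            · exact absurd h hv1
          · simp only [Fin.mk_one, Fin.isValue, Pi.smul_apply, smul_eq_mul]
            field_simp
        · apply hev v ((G *ᵥ v) 0 / v 0) hw
          ext i
          fin_cases i
          · simp only [Fin.zero_eta, Fin.isValue, Pi.smul_apply, smul_eq_mul]
            field_simp
          · simp only [Fin.mk_one, Fin.isValue, Pi.smul_apply, smul_eq_mul]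
            field_simp
            linear_combination h0
      have hMunit : IsUnit M.det := isUnit_iff_ne_zero.mpr hMdet
      have : A * M * M⁻¹ = 0 := by rw [hAM, zero_mul]
      rwa [mul_assoc, Matrix.mul_nonsing_inv _ hMunit, mul_one] at this

end Cfsg.Agent.S0800
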