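import Cfsg.Statements.S0806
import Cfsg.Agent.Lib.Helper15.Dk8

set_option autoImplicit false
open Cfsg

namespace Cfsg.Agent.S0806

open Cfsg.Agent.Lib.Helper15 Cfsg.Agent.Lib.Helper15.Dk in
/-- Minimal index (Galois): if q ∉ {2, 3, 5, 7, 9, 11} then every proper subgroup of PSL_2(q) has index ≥ q + 1, and some subgroup has index exactly q + 1. -/
theorem result {F : Type*} [Field F] [Fintype F] {q : ℕ} (hF : Fintype.card F = q) (hq : q ∉ ({2, 3, 5, 7, 9, 11} : Finset ℕ)) : (∀ H : Subgroup (Matrix.ProjectiveSpecialLinearGroup (Fin 2) F), H ≠ ⊤ → q + 1 ≤ H.index) ∧ ∃ H : Subgroup (Matrix.ProjectiveSpecialLinearGroup (Fin 2) F), H.index = q + 1 := by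
  subst hF
  obtain ⟨p, hp⟩ := CharP.exists F
  have hpr : Fact p.Prime := ⟨CharP.char_is_prime F p⟩
  refine ⟨?_, Bbar F, index_Bbar⟩
  intro H hH
  have h1 := card_mul_le_of_ne_top p H hH hq
  have h2 := Subgroup.index_mul_card H
  have h3 := card_PSL2_mul (F := F)
  have hq1 : 1 < Fintype.card F := Fintype.one_lt_card
  have hsq := Dk.sq_sub_one_eq (Fintype.card F) hq1.le
  by_contra hlt
  rw [not_le] at hlt
  have hHpos : 0 < Nat.card H := Nat.card_pos
  have hz : 0 < Nat.card (Subgroup.center (Matrix.SpecialLinearGroup (Fin 2) F)) := Nat.card_pos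
  have h4 : H.index * (Nat.card H * Nat.card (Subgroup.center (Matrix.SpecialLinearGroup (Fin 2) F))) =
      Fintype.card F * (Fintype.card F ^ 2 - 1) := by
    rw [← mul_assoc, h2, h3]
  have h5 : H.index * (Nat.card H * Nat.card (Subgroup.center (Matrix.SpecialLinearGroup (Fin 2) F))) <
      (Fintype.card F + 1) * (Fintype.card F * (Fintype.card F - 1)) := by
    apply Nat.mul_lt_mul_of_lt_of_le hlt h1
    apply Nat.mul_pos <;> omega
  rw [h4, hsq] at h5
  have : (Fintype.card F + 1) * (Fintype.card F * (Fintype.card F - 1)) =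
      Fintype.card F * ((Fintype.card F - 1) * (Fintype.card F + 1)) := by ring
  rw [this] at h5
  exact lt_irrefl _ h5

end Cfsg.Agent.S0806
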