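-- Statement S0818
import Cfsg.Statements.S0818
import Mathlib
import Cfsg.Agent.Lib.Helper6.AutOrt21

set_option autoImplicit false
open Cfsg Cfsg.Agent.Lib.Helper6.AutOrt Cfsg.Agent.Lib.Helper15 QuadraticMap

namespace Cfsg.Agent.S0818

/-- |Aut(PΩ⁻_2m(q))| for q = p^f, m ≥ 4 (form quadFormMinus (m−1) with anisotropic binary part): |PΩ⁻_2m(q)| times f, times 2 if p = 2, and times 4 or 8 if p is odd according as m(q−1)/2 is even or odd. -/
theorem result {F : Type*} [Field F] [Fintype F] (p f : ℕ) [Fact p.Prime] (hf : 1 ≤ f) (hF : Fintype.card F = p ^ f) (m : ℕ) (hm : 4 ≤ m) (a b : F) (hab : ∀ z₁ z₂ : F, z₁ ^ 2 + a * z₁ * z₂ + b * z₂ ^ 2 = 0 → z₁ = 0 ∧ z₂ = 0) : Nat.card (MulAut (Cfsg.POmega F (Cfsg.quadFormMinus (m - 1) F a b))) = (if p = 2 then 2 else (if Even (m * (p ^ f - 1) / 2) then 4 else 8)) * f * Nat.card (Cfsg.POmega F (Cfsg.quadFormMinus (m - 1) F a b)) := by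
  classical
  have hfun : Cfsg.quadFormMinus (m - 1) F a b = ⇑(Qgen (m - 1) (binForm a b)) := by
    funext v
    rw [Qgen_apply, binForm_apply]
    rfl
  rw [hfun]
  have hk : 3 ≤ m - 1 := by omega
  haveI := std_minus (F := F) a b hab hk
  haveI : CharP F p := charP_of_card_pow' hF
  have hP := HP_minus (F := F) a b hab hk
  have h1 := card_aut_eq p hP (fun σ => by
    obtain ⟨Φ, h, -⟩ := exists_fieldMinus (m - 1) a b hab σ
    exact ⟨Φ, h⟩)
  have hnd := nondegenerate_Qgen (m - 1) (binForm a b) (nondegenerate_binForm a b hab)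
  have h5 : 5 ≤ Fintype.card ((Fin (m - 1) ⊕ Fin (m - 1)) ⊕ Fin 2) := by rw [card_JJ]; omega
  rw [h1, card_ringAut' hF hf]
  by_cases hp2 : p = 2
  · rw [if_pos hp2]
    subst hp2
    have h2 : (2 : F) = 0 := by
      have := CharP.cast_eq_zero F 2
      exact_mod_cast this
    rw [card_pgoAut_two _ h2 hnd h5 (minusTriple' F (m - 1) (binForm a b) hk)]
    ring
  · rw [if_neg hp2]
    have hodd : Odd p := (Fact.out : p.Prime).odd_of_ne_two hp2
    have hoddq : Odd (p ^ f) := hodd.pow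
    have hoddF : Odd (Fintype.card F) := by rw [hF]; exact hoddq
    rw [card_pgoAut_minus_odd a b hab hoddF hk, hF]
    have harith : ∀ q : ℕ, Odd q → ((Even (m - 1) ∧ q % 4 = 3) ↔ ¬ Even (m * (q - 1) / 2)) := by
      intro q hq
      obtain ⟨t, rfl⟩ := hq
      have e1 : m * (2 * t + 1 - 1) / 2 = m * t := by
        rw [Nat.add_sub_cancel, ← mul_assoc, mul_comm m 2, mul_assoc, Nat.mul_div_cancel_left _ (by omega)]
      rw [e1, Nat.not_even_iff_odd, Nat.odd_mul]
      constructor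
      · rintro ⟨h1, h2⟩
        refine ⟨?_, ?_⟩
        · obtain ⟨r, hr⟩ := h1
          exact ⟨r, by omega⟩
        · rw [← Nat.not_even_iff_odd]
          rintro ⟨r, hr⟩
          omega
      · rintro ⟨⟨r, hr⟩, ⟨s, hs⟩⟩
        exact ⟨⟨r, by omega⟩, by omega⟩
    have h3 := harith (p ^ f) hoddq
    by_cases hc : Even (m - 1) ∧ p ^ f % 4 = 3
    · rw [if_pos hc, if_neg (h3.mp hc)]
      ring
    · rw [if_neg hc, if_pos (by
        by_contra h
        exact hc (h3.mpr h))]
      ring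

end Cfsg.Agent.S0818
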