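import Cfsg.Statements.S2579
import Cfsg.Agent.Lib.Helper15.Transvection

set_option autoImplicit false
open Cfsg

namespace Cfsg.Agent.S2579

open Cfsg.Agent.Lib.Helper15 Matrix

/-- Over a finite field and for n ≥ 3, any two transvections are conjugate in SL_n. -/
theorem result {F : Type*} [Field F] [Finite F] {n : ℕ} (hn : 3 ≤ n) (s t : Matrix.SpecialLinearGroup (Fin n) F) (hs : Cfsg.IsTransvection (s : Matrix (Fin n) (Fin n) F)) (ht : Cfsg.IsTransvection (t : Matrix (Fin n) (Fin n) F)) : IsConj s t := by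
  classical
  obtain ⟨m, rfl⟩ : ∃ m, n = m + 3 := ⟨n - 3, by omega⟩
  obtain ⟨gs, hgs, hs'⟩ := exists_conj_stdTrv (m := m + 1) (s : Matrix (Fin (m + 3)) (Fin (m + 3)) F) hs.1 hs.2
  obtain ⟨gt, hgt, ht'⟩ := exists_conj_stdTrv (m := m + 1) (t : Matrix (Fin (m + 3)) (Fin (m + 3)) F) ht.1 ht.2
  set c : F := gs.det * (gt.det)⁻¹ with hc
  set h : Matrix (Fin (m + 3)) (Fin (m + 3)) F := gt * diagTwo m c * gs⁻¹ with hh
  have hgs0 : gs.det ≠ 0 := hgs.ne_zero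
  have hgt0 : gt.det ≠ 0 := hgt.ne_zero
  have hdet : h.det = 1 := by
    rw [hh, Matrix.det_mul, Matrix.det_mul, det_diagTwo, Matrix.det_nonsing_inv, Ring.inverse_eq_inv', hc]
    field_simp
  have h1 : gs⁻¹ * (s : Matrix (Fin (m + 3)) (Fin (m + 3)) F) = stdTrv (m + 1) * gs⁻¹ := by
    calc gs⁻¹ * (s : Matrix (Fin (m + 3)) (Fin (m + 3)) F)
        = gs⁻¹ * (s : Matrix (Fin (m + 3)) (Fin (m + 3)) F) * (gs * gs⁻¹) := by
          rw [Matrix.mul_nonsing_inv _ hgs, Matrix.mul_one]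
      _ = gs⁻¹ * ((s : Matrix (Fin (m + 3)) (Fin (m + 3)) F) * gs) * gs⁻¹ := by
          simp only [Matrix.mul_assoc]
      _ = gs⁻¹ * (gs * stdTrv (m + 1)) * gs⁻¹ := by rw [hs']
      _ = (gs⁻¹ * gs) * stdTrv (m + 1) * gs⁻¹ := by
          simp only [Matrix.mul_assoc]
      _ = stdTrv (m + 1) * gs⁻¹ := by
          rw [Matrix.nonsing_inv_mul _ hgs, Matrix.one_mul]
  have hcomm : h * (s : Matrix (Fin (m + 3)) (Fin (m + 3)) F) = (t : Matrix (Fin (m + 3)) (Fin (m + 3)) F) * h := by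
    rw [hh, Matrix.mul_assoc, h1, ← Matrix.mul_assoc, Matrix.mul_assoc gt, diagTwo_comm, ← Matrix.mul_assoc, ← ht']
    simp only [Matrix.mul_assoc]
  rw [isConj_iff]
  obtain ⟨H, hH⟩ : ∃ H : Matrix.SpecialLinearGroup (Fin (m + 3)) F, (H : Matrix (Fin (m + 3)) (Fin (m + 3)) F) = h :=
    ⟨⟨h, hdet⟩, rfl⟩
  refine ⟨H, ?_⟩
  rw [mul_inv_eq_iff_eq_mul]
  apply Subtype.ext
  rw [Matrix.SpecialLinearGroup.coe_mul, Matrix.SpecialLinearGroup.coe_mul, hH]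
  exact hcomm

end Cfsg.Agent.S2579
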