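-- Statement S0820
import Cfsg.Statements.S0820
import Mathlib
import Cfsg.Agent.S2579

set_option autoImplicit false
open Cfsg

namespace Cfsg.Agent.S0820

open Matrix

section
variable {F : Type*} [Field F] [Fintype F]

theorem two_eq_zero (hF : Fintype.card F = 4) : (2 : F) = 0 := by
  have h := FiniteField.cast_card_eq_zero F
  rw [hF] at h
  have h4 : (2 : F) * 2 = 0 := by
    have : ((4 : ℕ) : F) = 2 * 2 := by norm_num
    rw [← this]; exact h
  rcases mul_self_eq_zero.mp h4 with h2
  exact h2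

theorem rank_le_one_of_sq_zero (N : Matrix (Fin 3) (Fin 3) F) (hN : N * N = 0) : N.rank ≤ 1 := by
  have h1 : LinearMap.range N.mulVecLin ≤ LinearMap.ker N.mulVecLin := by
    rintro _ ⟨v, rfl⟩
    rw [LinearMap.mem_ker, Matrix.mulVecLin_apply, Matrix.mulVecLin_apply, Matrix.mulVec_mulVec, hN,
      Matrix.zero_mulVec]
  have h2 := LinearMap.finrank_range_add_finrank_ker N.mulVecLin
  have h3 := Submodule.finrank_mono h1
  rw [Module.finrank_pi, Fintype.card_fin] at h2
  have h4 : N.rank = Module.finrank F (LinearMap.range N.mulVecLin) := rfl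
  omega

theorem rank_pos_of_ne_zero (N : Matrix (Fin 3) (Fin 3) F) (hN : N ≠ 0) : 1 ≤ N.rank := by
  by_contra hcon
  have h0 : Module.finrank F (LinearMap.range N.mulVecLin) = 0 := by
    have h4 : N.rank = Module.finrank F (LinearMap.range N.mulVecLin) := rfl
    omega
  rw [Submodule.finrank_eq_zero] at h0
  apply hN
  ext i j
  have h1 : N.mulVecLin (Pi.single j 1) ∈ LinearMap.range N.mulVecLin := ⟨_, rfl⟩
  rw [h0, Submodule.mem_bot, Matrix.mulVecLin_apply] at h1
  have := congrFun h1 i
  rw [Matrix.mulVec_single_one] at this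
  exact this

/-- an involution of `PSL_3(4)` lifts to a transvection -/
theorem exists_transvection_lift (hF : Fintype.card F = 4)
    (x : Matrix.ProjectiveSpecialLinearGroup (Fin 3) F) (hx : orderOf x = 2) :
    ∃ A : Matrix.SpecialLinearGroup (Fin 3) F,
      (QuotientGroup.mk A : Matrix.ProjectiveSpecialLinearGroup (Fin 3) F) = x ∧
      Cfsg.IsTransvection (A : Matrix (Fin 3) (Fin 3) F) := by
  classical
  have h2 := two_eq_zero hF
  obtain ⟨A₀, rfl⟩ := QuotientGroup.mk_surjective x
  have hx2 : (QuotientGroup.mk A₀ : Matrix.ProjectiveSpecialLinearGroup (Fin 3) F) ^ 2 = 1 := by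
    rw [← hx]; exact pow_orderOf_eq_one _
  have hx1 : (QuotientGroup.mk A₀ : Matrix.ProjectiveSpecialLinearGroup (Fin 3) F) ≠ 1 := by
    intro h
    rw [h, orderOf_one] at hx
    omega
  rw [← QuotientGroup.mk_pow, QuotientGroup.eq_one_iff, Matrix.SpecialLinearGroup.mem_center_iff] at hx2
  obtain ⟨r, hr3, hr⟩ := hx2
  rw [Fintype.card_fin] at hr3
  have hZmem : (A₀ ^ 2) ∈ Subgroup.center (Matrix.SpecialLinearGroup (Fin 3) F) :=
    Matrix.SpecialLinearGroup.mem_center_iff.mpr ⟨r, by rw [Fintype.card_fin]; exact hr3, hr⟩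
  set Z : Matrix.SpecialLinearGroup (Fin 3) F := A₀ ^ 2 with hZ
  have hZ3 : Z ^ 3 = 1 := by
    apply Subtype.ext
    rw [Matrix.SpecialLinearGroup.coe_pow, ← hr, ← map_pow, hr3, map_one]
    rfl
  have hcomm : Z * A₀ = A₀ * Z := (Subgroup.mem_center_iff.mp hZmem A₀).symm
  refine ⟨Z * A₀, ?_, ?_⟩
  · rw [QuotientGroup.mk_mul, (QuotientGroup.eq_one_iff Z).mpr hZmem, one_mul]
  · have hA2 : (Z * A₀) ^ 2 = 1 := by
      have e : (Z * A₀) ^ 2 = Z * Z * (A₀ ^ 2) := by
        rw [sq, sq, mul_assoc, ← mul_assoc A₀ Z A₀, ← hcomm]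
        simp only [mul_assoc]
      rw [e, ← hZ, ← hZ3, pow_succ, pow_succ, pow_one]
    have hA1 : Z * A₀ ≠ 1 := by
      intro h
      apply hx1
      have : (QuotientGroup.mk (Z * A₀) : Matrix.ProjectiveSpecialLinearGroup (Fin 3) F) = 1 := by
        rw [h]; rfl
      rw [QuotientGroup.mk_mul, (QuotientGroup.eq_one_iff Z).mpr hZmem, one_mul] at this
      exact this
    set M : Matrix (Fin 3) (Fin 3) F := ((Z * A₀ : Matrix.SpecialLinearGroup (Fin 3) F) :
      Matrix (Fin 3) (Fin 3) F) with hM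
    have hM2 : M * M = 1 := by
      have := congrArg (fun B : Matrix.SpecialLinearGroup (Fin 3) F =>
        (B : Matrix (Fin 3) (Fin 3) F)) hA2
      simp only [Matrix.SpecialLinearGroup.coe_pow, Matrix.SpecialLinearGroup.coe_one] at this
      rw [sq] at this
      exact this
    have hM1 : M ≠ 1 := by
      intro h
      apply hA1
      apply Subtype.ext
      exact h
    have hsq : (M - 1) * (M - 1) = 0 := by
      have : (M - 1) * (M - 1) = M * M - (2 : F) • M + 1 := by
        rw [two_smul]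
        noncomm_ring
      rw [this, hM2, h2, zero_smul]
      have : (1 : Matrix (Fin 3) (Fin 3) F) - 0 + 1 = (2 : F) • 1 := by
        rw [two_smul]; abel
      rw [this, h2, zero_smul]
    refine ⟨le_antisymm (rank_le_one_of_sq_zero _ hsq) (rank_pos_of_ne_zero _ ?_), hsq⟩
    intro h
    exact hM1 (sub_eq_zero.mp h)

end

/-- Any two elements of order 2 of PSL_3(4) are conjugate. -/
theorem result {F : Type*} [Field F] [Fintype F] (hF : Fintype.card F = 4) (x y : Matrix.ProjectiveSpecialLinearGroup (Fin 3) F) (hx : orderOf x = 2) (hy : orderOf y = 2) : IsConj x y := by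
  obtain ⟨A, rfl, hA⟩ := exists_transvection_lift hF x hx
  obtain ⟨B, rfl, hB⟩ := exists_transvection_lift hF y hy
  have h := Cfsg.Agent.S2579.result (by norm_num) A B hA hB
  exact (QuotientGroup.mk' (Subgroup.center (Matrix.SpecialLinearGroup (Fin 3) F))).map_isConj h

end Cfsg.Agent.S0820
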