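-- Statement S0821
import Cfsg.Statements.S0821
import Mathlib
import Cfsg.Agent.Lib.Helper6.OmInvol3
import Cfsg.Agent.Lib.Helper6.SpInvol2

set_option autoImplicit false
open Cfsg

namespace Cfsg.Agent.S0821

/-- PSp_2m(q) ≇ PΩ_(2m+1)(q) for q odd and m ≥ 3 (they have the same order). -/
theorem result {F : Type*} [Field F] [Fintype F] (hodd : Odd (Fintype.card F)) (m : ℕ) (hm : 3 ≤ m) : IsEmpty (Cfsg.PSp m F ≃* Cfsg.POmega F (Cfsg.quadFormOdd m F)) := by
  classical
  have h2 : (2 : F) ≠ 0 := Cfsg.Agent.Lib.Helper6.two_ne_zero_of_odd_card hodd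
  have hfun : Cfsg.quadFormOdd m F = ⇑(Cfsg.Agent.Lib.Helper6.QOdd F m) :=
    (funext (Cfsg.Agent.Lib.Helper6.QOdd_apply F m)).symm
  rw [hfun]
  constructor
  intro e
  obtain ⟨y, hy1, hy2, hy3⟩ := Cfsg.Agent.Lib.Helper6.OmInvol.pomega_invols (F := F) h2 hm
  obtain ⟨j, k, hjk, g, hg⟩ := Cfsg.Agent.Lib.Helper6.SpInvol.psp_pigeonhole h2 hm
    (fun k => e.symm (y k))
    (by
      intro k h
      apply hy1 k
      have := congrArg e h
      simpa using this)
    (by
      intro k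
      rw [← map_mul, hy2, map_one])
  apply hy3 j k hjk (e g)
  have := congrArg e hg
  simpa using this

end Cfsg.Agent.S0821
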