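-- Statement S0823
import Cfsg.Statements.S0823
import Mathlib
import Cfsg.Agent.S0286
import Cfsg.Agent.S0291

set_option autoImplicit false
open Cfsg

namespace Cfsg.Agent.S0823

open Matrix
open scoped LinearAlgebra.Projectivization

/-- the orthogonal group -/
abbrev GG (F : Type*) [Field F] : Type _ :=
  ↥(Cfsg.isometryGroup F (Cfsg.quadFormOdd 1 F))

/-- the special orthogonal group -/
abbrev SS (F : Type*) [Field F] : Type _ :=
  ↥(Cfsg.specialIsometryGroup F (Cfsg.quadFormOdd 1 F))

theorem card_fiber' {A B : Type*} [Finite A] [Finite B] (f : A → B) (k : ℕ)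
    (h : ∀ b, Nat.card {a // f a = b} = k) : Nat.card A = k * Nat.card B := by
  haveI := Fintype.ofFinite B
  rw [← Nat.card_congr (Equiv.sigmaFiberEquiv f), Nat.card_sigma]
  simp [h, Nat.card_eq_fintype_card, mul_comm]

section
variable {F : Type*} [Field F]

local notation "II" => (Unit ⊕ (Fin 1 ⊕ Fin 1))
local notation "QQ" => Cfsg.quadFormOdd 1 F

theorem three_eq_zero [Fintype F] (hF : Fintype.card F = 3) : (3 : F) = 0 := by
  have := FiniteField.cast_card_eq_zero F
  rw [hF] at this
  exact_mod_cast this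

theorem Q_smul (a : F) (v : II → F) : QQ (a • v) = a ^ 2 * QQ v := by
  simp only [Cfsg.quadFormOdd, Pi.smul_apply, smul_eq_mul, Finset.univ_unique,
    Finset.sum_singleton]
  ring

theorem smul_vec (g : SS F) (v : II → F) :
    g • v = (((g : GG F) : Matrix.GeneralLinearGroup II F) : Matrix II II F) *ᵥ v := rfl

theorem Q_pres (g : SS F) (v : II → F) : QQ (g • v) = QQ v := by
  have := (g : GG F).2 v v
  exact this

end

/-- singular points -/
def SingP (F : Type*) [Field F] :
    SubMulAction (SS F) (ℙ F ((Unit ⊕ (Fin 1 ⊕ Fin 1)) → F)) where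
  carrier := {p | Cfsg.quadFormOdd 1 F p.rep = 0}
  smul_mem' := by
    intro g p hp
    simp only [Set.mem_setOf_eq] at hp ⊢
    have h1 : g • p = Projectivization.mk F (g • p.rep) ((smul_ne_zero_iff_ne g).mpr p.rep_nonzero) := by
      conv_lhs => rw [← p.mk_rep]
      exact Projectivization.smul_mk
        (((g : GG F) : Matrix.GeneralLinearGroup (Unit ⊕ (Fin 1 ⊕ Fin 1)) F)) p.rep_nonzero
    obtain ⟨a, ha⟩ := Projectivization.exists_smul_eq_mk_rep F (g • p.rep)
      ((smul_ne_zero_iff_ne g).mpr p.rep_nonzero)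
    rw [h1, ← ha]
    have : (a • g • p.rep : (Unit ⊕ (Fin 1 ⊕ Fin 1)) → F) = (a : F) • g • p.rep := rfl
    rw [this, Q_smul, Q_pres, hp, mul_zero]

section
variable {F : Type*} [Field F] [Fintype F]

local notation "II" => (Unit ⊕ (Fin 1 ⊕ Fin 1))
local notation "QQ" => Cfsg.quadFormOdd 1 F

theorem mk_mem_iff (v : II → F) (hv : v ≠ 0) :
    Projectivization.mk F v hv ∈ SingP F ↔ QQ v = 0 := by
  obtain ⟨a, ha⟩ := Projectivization.exists_smul_eq_mk_rep F v hv
  change QQ (Projectivization.mk F v hv).rep = 0 ↔ _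
  rw [← ha]
  have : (a • v : II → F) = (a : F) • v := rfl
  rw [this, Q_smul]
  simp

theorem smul_mk' (g : SS F) (v : II → F) (hv : v ≠ 0) :
    g • Projectivization.mk F v hv =
      Projectivization.mk F (g • v) ((smul_ne_zero_iff_ne g).mpr hv) :=
  Projectivization.smul_mk
    (((g : GG F) : Matrix.GeneralLinearGroup (Unit ⊕ (Fin 1 ⊕ Fin 1)) F)) hv

theorem card_units (hF : Fintype.card F = 3) : Nat.card Fˣ = 2 := by
  classical
  rw [Nat.card_eq_fintype_card, Fintype.card_units, hF]

theorem card_X (hF : Fintype.card F = 3) :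
    Nat.card {v : II → F // QQ v = 0 ∧ v ≠ 0} = 8 := by
  have h := Cfsg.Agent.S0291.result hF (by decide) 1
  have h9 : Nat.card {v : II → F // QQ v = 0} = 9 := by
    rw [h]
    norm_num
  have e1 : Nat.card {v : II → F // QQ v = 0 ∧ v ≠ 0} = ({v : II → F | QQ v = 0} \ {0}).ncard := by
    rw [← Nat.card_coe_set_eq]
    rfl
  have h0 : (0 : II → F) ∈ {v : II → F | QQ v = 0} := by
    simp [Cfsg.quadFormOdd]
  rw [e1, Set.ncard_diff_singleton_of_mem h0, ← Nat.card_coe_set_eq]
  change Nat.card {v : II → F // QQ v = 0} - 1 = 8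
  rw [h9]

/-- the map from singular vectors to singular points -/
def toPt (x : {v : II → F // QQ v = 0 ∧ v ≠ 0}) : SingP F :=
  ⟨Projectivization.mk F x.1 x.2.2, (mk_mem_iff x.1 x.2.2).mpr x.2.1⟩

theorem card_fib (hF : Fintype.card F = 3) (p : SingP F) :
    Nat.card {x : {v : II → F // QQ v = 0 ∧ v ≠ 0} // toPt x = p} = 2 := by
  rw [← card_units hF]
  symm
  have hp : QQ p.1.rep = 0 := p.2
  let φ : Fˣ → {x : {v : II → F // QQ v = 0 ∧ v ≠ 0} // toPt x = p} := fun a =>
    ⟨⟨(a : F) • p.1.rep, by rw [Q_smul, hp, mul_zero],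
      smul_ne_zero a.ne_zero p.1.rep_nonzero⟩, by
        apply Subtype.ext
        change Projectivization.mk F ((a : F) • p.1.rep) _ = p.1
        conv_rhs => rw [← p.1.mk_rep]
        rw [Projectivization.mk_eq_mk_iff]
        exact ⟨a, rfl⟩⟩
  apply Nat.card_congr
  apply Equiv.ofBijective φ
  constructor
  · intro a b hab
    have h1 : (a : F) • p.1.rep = (b : F) • p.1.rep := congrArg (fun x => x.1.1) hab
    apply Units.ext
    exact smul_left_injective F p.1.rep_nonzero h1
  · rintro ⟨⟨v, hv1, hv2⟩, hx⟩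
    have h1 : Projectivization.mk F v hv2 = p.1 := congrArg Subtype.val hx
    conv_rhs at h1 => rw [← p.1.mk_rep]
    rw [Projectivization.mk_eq_mk_iff] at h1
    obtain ⟨a, ha⟩ := h1
    refine ⟨a, ?_⟩
    apply Subtype.ext
    apply Subtype.ext
    exact ha

theorem card_SingP (hF : Fintype.card F = 3) : Nat.card (SingP F) = 4 := by
  have h := card_fiber' (toPt (F := F)) 2 (card_fib hF)
  rw [card_X hF] at h
  omega

theorem card_SS (hF : Fintype.card F = 3) : 24 ≤ Nat.card (SS F) := by
  have h := Cfsg.Agent.S0286.result hF (by decide) 1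
  have h48 : Nat.card (GG F) = 48 := by
    rw [h]
    simp [Finset.prod_range_one]
  let φ : GG F →* Fˣ :=
    Matrix.GeneralLinearGroup.det.comp (Cfsg.isometryGroup F (Cfsg.quadFormOdd 1 F)).subtype
  have h1 : Nat.card (GG F) = Nat.card φ.ker * Nat.card φ.range := by
    rw [← Subgroup.index_ker, Subgroup.card_mul_index]
  have h2 : Nat.card φ.range ≤ 2 := by
    rw [← card_units hF]
    exact Subgroup.card_le_card_group _
  have h3 : Nat.card (SS F) = Nat.card φ.ker := rfl
  rw [h3]
  rw [h48] at h1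
  nlinarith

theorem ne_zero_of_apply {v : II → F} (i : II) (h : v i ≠ 0) : v ≠ 0 := by
  rintro rfl
  exact h rfl

theorem unit_sq (hF : Fintype.card F = 3) (a : Fˣ) : (a : F) ^ 2 = 1 := by
  classical
  have h1 : a ^ Fintype.card Fˣ = 1 := pow_card_eq_one
  rw [Fintype.card_units, hF] at h1
  have := congrArg (fun u : Fˣ => (u : F)) h1
  simpa using this

theorem inj (hF : Fintype.card F = 3) :
    Function.Injective (MulAction.toPermHom (SS F) (SingP F)) := by
  classical
  have h3 := three_eq_zero hF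
  rw [injective_iff_map_eq_one]
  intro g hg
  have hfix : ∀ v : II → F, QQ v = 0 → v ≠ 0 → ∃ a : Fˣ, g • v = (a : F) • v := by
    intro v h1 h2
    have h3 := congrArg (fun σ : Equiv.Perm (SingP F) =>
      ((σ ⟨Projectivization.mk F v h2, (mk_mem_iff v h2).mpr h1⟩ : SingP F) :
        ℙ F (II → F))) hg
    change g • Projectivization.mk F v h2 = Projectivization.mk F v h2 at h3
    rw [smul_mk', Projectivization.mk_eq_mk_iff] at h3
    obtain ⟨a, ha⟩ := h3
    exact ⟨a, ha.symm⟩
  set w : II → F := Pi.single (Sum.inl ()) 1 with hw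
  set e : II → F := Pi.single (Sum.inr (Sum.inl 0)) 1 with he
  set f : II → F := Pi.single (Sum.inr (Sum.inr 0)) 1 with hf
  obtain ⟨a, ha⟩ := hfix e (by simp [he, Cfsg.quadFormOdd])
    (ne_zero_of_apply (Sum.inr (Sum.inl 0)) (by simp [he]))
  obtain ⟨b, hb⟩ := hfix f (by simp [hf, Cfsg.quadFormOdd])
    (ne_zero_of_apply (Sum.inr (Sum.inr 0)) (by simp [hf]))
  obtain ⟨c, hc⟩ := hfix (w + e - f) (by simp [hw, he, hf, Cfsg.quadFormOdd])
    (ne_zero_of_apply (Sum.inl ()) (by simp [hw, he, hf]))
  obtain ⟨d, hd⟩ := hfix (w - e + f) (by simp [hw, he, hf, Cfsg.quadFormOdd])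
    (ne_zero_of_apply (Sum.inl ()) (by simp [hw, he, hf]))
  rw [smul_sub, smul_add, ha, hb] at hc
  rw [smul_add, smul_sub, ha, hb] at hd
  have hgw1 : g • w = (c : F) • (w + e - f) - (a : F) • e + (b : F) • f := by
    rw [← hc]; abel
  have hgw2 : g • w = (d : F) • (w - e + f) + (a : F) • e - (b : F) • f := by
    rw [← hd]; abel
  have h0 := congrFun (hgw1.symm.trans hgw2) (Sum.inl ())
  have h1 := congrFun (hgw1.symm.trans hgw2) (Sum.inr (Sum.inl 0))
  have h2 := congrFun (hgw1.symm.trans hgw2) (Sum.inr (Sum.inr 0))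
  simp [hw, he, hf] at h0 h1 h2
  have hac : (a : F) = c := by linear_combination h1 + h0 + (a - c : F) * h3
  have hbc : (b : F) = c := by linear_combination (-1 : F) * h2 + h0 + (b - c : F) * h3
  have hgw : g • w = (c : F) • w := by
    rw [hgw1, hac, hbc]
    simp only [smul_add, smul_sub]
    abel
  rw [hac] at ha
  rw [hbc] at hb
  have hcol : ∀ j : II, g • (Pi.single j 1 : II → F) = (c : F) • Pi.single j 1 := by
    rintro (j | j | j)
    · exact hgw
    · rw [Subsingleton.elim j 0]; exact ha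
    · rw [Subsingleton.elim j 0]; exact hb
  have hM : (((g : GG F) : Matrix.GeneralLinearGroup II F) : Matrix II II F) = (c : F) • 1 := by
    ext i j
    have := congrFun (hcol j) i
    rw [smul_vec, mulVec_single_one] at this
    change (((g : GG F) : Matrix.GeneralLinearGroup II F) : Matrix II II F) i j = _ at this
    rw [this, Matrix.smul_apply, Matrix.one_apply, Pi.smul_apply, Pi.single_apply]
  have hdet : (((g : GG F) : Matrix.GeneralLinearGroup II F) : Matrix II II F).det = 1 := by
    have := g.2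
    have h5 : Matrix.GeneralLinearGroup.det ((g : GG F) : Matrix.GeneralLinearGroup II F) = 1 := this
    have := congrArg (fun u : Fˣ => (u : F)) h5
    simpa using this
  rw [hM, Matrix.det_smul, Matrix.det_one, mul_one] at hdet
  have hc1 : (c : F) = 1 := by
    have h6 := unit_sq hF c
    have h7 : (c : F) ^ 3 = 1 := by simpa using hdet
    calc (c : F) = c * c ^ 2 := by rw [h6, mul_one]
      _ = c ^ 3 := by ring
      _ = 1 := h7
  rw [hc1, one_smul] at hM
  apply Subtype.ext
  apply Subtype.ext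
  apply Units.ext
  exact hM

end

/-- SO_3(3) ≅ S_4: the determinant-one isometries of the form x_0² + x_1y_1 over the field with 3 elements form a group isomorphic to the symmetric group on 4 letters. -/
theorem result {F : Type*} [Field F] [Fintype F] (hF : Fintype.card F = 3) : Nonempty (↥(Cfsg.specialIsometryGroup F (Cfsg.quadFormOdd 1 F)) ≃* Equiv.Perm (Fin 4)) := by
  classical
  have hinj := inj hF
  have hcard : Nat.card (Equiv.Perm (SingP F)) ≤ Nat.card (SS F) := by
    rw [Nat.card_perm, card_SingP hF]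
    exact card_SS hF
  have hbij := hinj.bijective_of_nat_card_le hcard
  have e1 : SS F ≃* Equiv.Perm (SingP F) := MulEquiv.ofBijective _ hbij
  have e2 : SingP F ≃ Fin 4 := Finite.equivFinOfCardEq (card_SingP hF)
  exact ⟨e1.trans e2.permCongrHom⟩

end Cfsg.Agent.S0823
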