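-- Statement S0824
import Cfsg.Statements.S0824
import Mathlib
import Cfsg.Agent.S0288
import Cfsg.Agent.S0290

set_option autoImplicit false
open Cfsg

namespace Cfsg.Agent.S0824

open Matrix

/-- the group -/
abbrev GG (F : Type*) [Field F] : Type _ :=
  ↥(Cfsg.isometryGroup F (Cfsg.quadFormMinus 1 F 1 1))

section
variable {F : Type*} [Field F] [Fintype F]

local notation "II" => ((Fin 1 ⊕ Fin 1) ⊕ Fin 2)
local notation "QQ" => Cfsg.quadFormMinus 1 F 1 1

theorem two_eq_zero (hF : Fintype.card F = 2) : (2 : F) = 0 := by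
  have := FiniteField.cast_card_eq_zero F
  rw [hF] at this
  exact_mod_cast this

theorem zero_or_one (hF : Fintype.card F = 2) (x : F) : x = 0 ∨ x = 1 := by
  classical
  by_contra hcon
  push Not at hcon
  have h1 : ({0, 1, x} : Finset F).card = 3 := by
    rw [Finset.card_insert_of_notMem, Finset.card_insert_of_notMem, Finset.card_singleton]
    · simp only [Finset.mem_singleton]
      exact fun h => hcon.2 h.symm
    · simp only [Finset.mem_insert, Finset.mem_singleton, not_or]
      exact ⟨zero_ne_one, fun h => hcon.1 h.symm⟩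
  have h2 := Finset.card_le_univ ({0, 1, x} : Finset F)
  omega

theorem hab (hF : Fintype.card F = 2) (z₁ z₂ : F)
    (h : z₁ ^ 2 + 1 * z₁ * z₂ + 1 * z₂ ^ 2 = 0) : z₁ = 0 ∧ z₂ = 0 := by
  have h2 := two_eq_zero hF
  rcases zero_or_one hF z₁ with rfl | rfl <;> rcases zero_or_one hF z₂ with rfl | rfl
  · exact ⟨rfl, rfl⟩
  · exfalso
    simp at h
  · exfalso
    simp at h
  · exfalso
    have : (1 : F) = 0 := by linear_combination h - h2
    exact one_ne_zero this

theorem card_G (hF : Fintype.card F = 2) : Nat.card (GG F) = 120 := by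
  have h := Cfsg.Agent.S0288.result hF 2 (by norm_num) 1 1 (hab hF)
  rw [h]
  simp [Finset.prod_range_one]

/-- the singular non-zero vectors -/
def Sing (F : Type*) [Field F] :
    SubMulAction (GG F) (((Fin 1 ⊕ Fin 1) ⊕ Fin 2) → F) where
  carrier := {v | Cfsg.quadFormMinus 1 F 1 1 v = 0 ∧ v ≠ 0}
  smul_mem' := by
    rintro g v ⟨h1, h2⟩
    refine ⟨?_, (smul_ne_zero_iff_ne g).mpr h2⟩
    have := g.2 v v
    exact this.trans h1

theorem card_Sing (hF : Fintype.card F = 2) : Nat.card (Sing F) = 5 := by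
  have h := Cfsg.Agent.S0290.result hF 2 (by norm_num) 1 1 (hab hF)
  have h6 : Nat.card {v : II → F // QQ v = 0} = 6 := by
    rw [h]
    norm_num
  have e1 : Nat.card (Sing F) = ({v : II → F | QQ v = 0} \ {0}).ncard := by
    rw [← Nat.card_coe_set_eq]
    apply Nat.card_congr
    exact Equiv.subtypeEquivRight (p := fun v => v ∈ Sing F)
      (q := fun v => v ∈ ({v : II → F | QQ v = 0} \ {0})) (fun v => Iff.rfl)
  have h0 : (0 : II → F) ∈ {v : II → F | QQ v = 0} := by
    simp [Cfsg.quadFormMinus]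
  rw [e1, Set.ncard_diff_singleton_of_mem h0, ← Nat.card_coe_set_eq]
  change Nat.card {v : II → F // QQ v = 0} - 1 = 5
  rw [h6]

theorem smul_vec (g : GG F) (v : II → F) :
    g • v = ((g : Matrix.GeneralLinearGroup II F) : Matrix II II F) *ᵥ v := rfl

theorem Q_e1 : QQ (Pi.single (Sum.inl (Sum.inl 0)) 1 : II → F) = 0 := by
  simp [Cfsg.quadFormMinus]

theorem Q_e2 : QQ (Pi.single (Sum.inl (Sum.inr 0)) 1 : II → F) = 0 := by
  simp [Cfsg.quadFormMinus]

theorem Q_s1 (hF : Fintype.card F = 2) :
    QQ ((Pi.single (Sum.inl (Sum.inl 0)) 1 : II → F) + Pi.single (Sum.inl (Sum.inr 0)) 1 +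
      Pi.single (Sum.inr 0) 1) = 0 := by
  have h2 := two_eq_zero hF
  simp [Cfsg.quadFormMinus]
  linear_combination h2

theorem Q_s2 (hF : Fintype.card F = 2) :
    QQ ((Pi.single (Sum.inl (Sum.inl 0)) 1 : II → F) + Pi.single (Sum.inl (Sum.inr 0)) 1 +
      Pi.single (Sum.inr 1) 1) = 0 := by
  have h2 := two_eq_zero hF
  simp [Cfsg.quadFormMinus]
  linear_combination h2

theorem ne_zero_of_apply {v : II → F} (i : II) (h : v i ≠ 0) : v ≠ 0 := by
  rintro rfl
  exact h rfl

theorem inj (hF : Fintype.card F = 2) :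
    Function.Injective (MulAction.toPermHom (GG F) (Sing F)) := by
  classical
  rw [injective_iff_map_eq_one]
  intro g hg
  have hfix : ∀ v : II → F, QQ v = 0 → v ≠ 0 → g • v = v := by
    intro v h1 h2
    have h3 := congrArg (fun σ : Equiv.Perm (Sing F) => ((σ ⟨v, h1, h2⟩ : Sing F) : II → F)) hg
    exact h3
  have h1 := hfix _ Q_e1 (ne_zero_of_apply (Sum.inl (Sum.inl 0)) (by simp))
  have h2 := hfix _ Q_e2 (ne_zero_of_apply (Sum.inl (Sum.inr 0)) (by simp))
  have h3 := hfix _ (Q_s1 hF) (ne_zero_of_apply (Sum.inr 0) (by simp))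
  have h4 := hfix _ (Q_s2 hF) (ne_zero_of_apply (Sum.inr 1) (by simp))
  rw [smul_add, smul_add, h1, h2, add_right_inj] at h3 h4
  -- g fixes all basis vectors
  have hcol : ∀ j : II, g • (Pi.single j 1 : II → F) = Pi.single j 1 := by
    rintro ((j | j) | j)
    · rw [Subsingleton.elim j 0]; exact h1
    · rw [Subsingleton.elim j 0]; exact h2
    · fin_cases j
      · exact h3
      · exact h4
  apply Subtype.ext
  apply Units.ext
  change ((g : Matrix.GeneralLinearGroup II F) : Matrix II II F) = 1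
  ext i j
  have := congrFun (hcol j) i
  rw [smul_vec, mulVec_single_one] at this
  rw [Matrix.one_apply]
  change ((g : Matrix.GeneralLinearGroup II F) : Matrix II II F) i j = _ at this
  rw [this, Pi.single_apply]

end

/-- O⁻_4(2) ≅ S_5: the isometry group of the form x y + z_1² + z_1 z_2 + z_2² over the field with 2 elements is isomorphic to the symmetric group on 5 letters. -/
theorem result {F : Type*} [Field F] [Fintype F] (hF : Fintype.card F = 2) : Nonempty (↥(Cfsg.isometryGroup F (Cfsg.quadFormMinus 1 F 1 1)) ≃* Equiv.Perm (Fin 5)) := by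
  classical
  have hinj := inj hF
  have hcard : Nat.card (Equiv.Perm (Sing F)) ≤ Nat.card (GG F) := by
    rw [Nat.card_perm, card_Sing hF, card_G hF]
    decide
  have hbij := hinj.bijective_of_nat_card_le hcard
  have e1 : GG F ≃* Equiv.Perm (Sing F) := MulEquiv.ofBijective _ hbij
  have e2 : Sing F ≃ Fin 5 := Finite.equivFinOfCardEq (card_Sing hF)
  exact ⟨e1.trans e2.permCongrHom⟩

end Cfsg.Agent.S0824

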