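-- Statement S0826
import Cfsg.Statements.S0826
import Mathlib
import Cfsg.Agent.S0776

set_option autoImplicit false
open Cfsg

namespace Cfsg.Agent.S0826

open Matrix Cfsg.Agent.Lib.Helper6

section
variable {N : ℕ}

theorem add_self' (a : ZMod 2) : a + a = 0 := CharTwo.add_self_eq_zero a

theorem mul_self' (a : ZMod 2) : a * a = a := by
  fin_cases a <;> rfl

/-- the dot product as a bilinear form -/
def dotB (N : ℕ) : LinearMap.BilinForm (ZMod 2) (Fin N → ZMod 2) :=
  LinearMap.mk₂ (ZMod 2) (fun x y => x ⬝ᵥ y) add_dotProduct smul_dotProduct dotProduct_add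
    dotProduct_smul

theorem dotB_apply (x y : Fin N → ZMod 2) : dotB N x y = ∑ i, x i * y i := rfl

/-- even weight vectors vanishing at `l` -/
def U (l : Fin N) : Submodule (ZMod 2) (Fin N → ZMod 2) where
  carrier := {x | ∑ i, x i = 0 ∧ x l = 0}
  add_mem' := by
    rintro a b ⟨ha1, ha2⟩ ⟨hb1, hb2⟩
    refine ⟨?_, ?_⟩
    · simp only [Pi.add_apply, Finset.sum_add_distrib, ha1, hb1, add_zero]
    · simp only [Pi.add_apply, ha2, hb2, add_zero]
  zero_mem' := ⟨by simp, rfl⟩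
  smul_mem' := by
    rintro c x ⟨h1, h2⟩
    refine ⟨?_, ?_⟩
    · simp only [Pi.smul_apply, smul_eq_mul, ← Finset.mul_sum, h1, mul_zero]
    · simp only [Pi.smul_apply, smul_eq_mul, h2, mul_zero]

theorem mem_U (l : Fin N) (x : Fin N → ZMod 2) : x ∈ U l ↔ ∑ i, x i = 0 ∧ x l = 0 := Iff.rfl

/-- the action of a permutation, corrected by a multiple of the all-one vector -/
def act (l : Fin N) (σ : Equiv.Perm (Fin N)) : (Fin N → ZMod 2) →ₗ[ZMod 2] (Fin N → ZMod 2) where
  toFun x := fun i => x (σ⁻¹ i) + x (σ⁻¹ l)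
  map_add' x y := by
    funext i
    simp only [Pi.add_apply]
    ring
  map_smul' c x := by
    funext i
    simp only [Pi.smul_apply, smul_eq_mul, RingHom.id_apply]
    ring

theorem act_apply (l : Fin N) (σ : Equiv.Perm (Fin N)) (x : Fin N → ZMod 2) (i : Fin N) :
    act l σ x i = x (σ⁻¹ i) + x (σ⁻¹ l) := rfl

theorem sum_perm (σ : Equiv.Perm (Fin N)) (x : Fin N → ZMod 2) :
    ∑ i, x (σ⁻¹ i) = ∑ i, x i := Equiv.sum_comp σ⁻¹ x

theorem act_mem (hN : Even N) (l : Fin N) (σ : Equiv.Perm (Fin N)) (x : Fin N → ZMod 2)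
    (hx : x ∈ U l) : act l σ x ∈ U l := by
  obtain ⟨h1, h2⟩ := hx
  refine ⟨?_, ?_⟩
  · simp only [act_apply, Finset.sum_add_distrib, sum_perm, h1, Finset.sum_const, Finset.card_univ,
      Fintype.card_fin, zero_add, nsmul_eq_mul]
    have : (N : ZMod 2) = 0 := (ZMod.natCast_eq_zero_iff_even).mpr hN
    rw [this, zero_mul]
  · rw [act_apply]; exact add_self' _

theorem act_one (l : Fin N) (x : Fin N → ZMod 2) (hx : x ∈ U l) : act l 1 x = x := by
  funext i
  rw [act_apply]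
  simp [hx.2]

theorem act_mul (l : Fin N) (σ τ : Equiv.Perm (Fin N)) (x : Fin N → ZMod 2) :
    act l (σ * τ) x = act l σ (act l τ x) := by
  funext i
  simp only [act_apply]
  have e1 : (σ * τ)⁻¹ i = τ⁻¹ (σ⁻¹ i) := by rw [_root_.mul_inv_rev]; rfl
  have e2 : (σ * τ)⁻¹ l = τ⁻¹ (σ⁻¹ l) := by rw [_root_.mul_inv_rev]; rfl
  rw [e1, e2]
  have := add_self' (x (τ⁻¹ l))
  linear_combination -this

theorem act_dot (hN : Even N) (l : Fin N) (σ : Equiv.Perm (Fin N)) (x y : Fin N → ZMod 2)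
    (hx : x ∈ U l) (hy : y ∈ U l) : dotB N (act l σ x) (act l σ y) = dotB N x y := by
  rw [dotB_apply, dotB_apply]
  simp only [act_apply]
  have e : ∀ i, (x (σ⁻¹ i) + x (σ⁻¹ l)) * (y (σ⁻¹ i) + y (σ⁻¹ l)) =
      x (σ⁻¹ i) * y (σ⁻¹ i) + y (σ⁻¹ l) * x (σ⁻¹ i) + x (σ⁻¹ l) * y (σ⁻¹ i) +
        x (σ⁻¹ l) * y (σ⁻¹ l) := fun i => by ring
  simp only [e, Finset.sum_add_distrib, ← Finset.mul_sum, sum_perm, hx.1, hy.1, mul_zero, add_zero,
    Finset.sum_const, Finset.card_univ, Fintype.card_fin, nsmul_eq_mul]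
  have : (N : ZMod 2) = 0 := (ZMod.natCast_eq_zero_iff_even).mpr hN
  rw [this]
  simp only [zero_mul, mul_zero, add_zero]
  exact Equiv.sum_comp σ⁻¹ (fun i => x i * y i)

theorem natCast_zero_of_even (hN : Even N) : (N : ZMod 2) = 0 :=
  (ZMod.natCast_eq_zero_iff_even).mpr hN

/-- weight two vectors -/
theorem pair_mem (l i j : Fin N) (hi : i ≠ l) (hj : j ≠ l) (hij : i ≠ j) :
    (Pi.single i 1 + Pi.single j 1 : Fin N → ZMod 2) ∈ U l := by
  refine ⟨?_, ?_⟩
  · simp only [Pi.add_apply, Finset.sum_add_distrib, Finset.sum_pi_single', Finset.mem_univ, if_true]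
    exact add_self' 1
  · simp [Pi.single_apply, hi.symm, hj.symm]

theorem dot_pair (u : Fin N → ZMod 2) (i j : Fin N) :
    dotB N u (Pi.single i 1 + Pi.single j 1) = u i + u j := by
  rw [map_add]
  simp [dotB_apply, Pi.single_apply]

theorem nondeg_U (hN : Even N) (hN3 : 3 ≤ N) (l : Fin N) (u : Fin N → ZMod 2) (hu : u ∈ U l)
    (h : ∀ u' ∈ U l, dotB N u u' = 0) : u = 0 := by
  classical
  -- a point different from `l`
  obtain ⟨i₀, hi₀⟩ : ∃ i₀ : Fin N, i₀ ≠ l := by
    by_cases hl : l = ⟨0, by omega⟩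
    · exact ⟨⟨1, by omega⟩, by rw [hl]; simp [Fin.ext_iff]⟩
    · exact ⟨⟨0, by omega⟩, fun h => hl h.symm⟩
  have hc : ∀ i, i ≠ l → u i = u i₀ := by
    intro i hi
    by_cases hii : i = i₀
    · rw [hii]
    · have := h _ (pair_mem l i i₀ hi hi₀ hii)
      rw [dot_pair] at this
      have h2 := add_self' (u i₀)
      linear_combination this - h2
  have hform : u = fun i => u i₀ - (Pi.single l (u i₀) : Fin N → ZMod 2) i := by
    funext i
    by_cases hi : i = l
    · subst hi; simp [hu.2]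
    · simp [Pi.single_apply, hi, hc i hi]
  have hsum := hu.1
  rw [hform] at hsum
  simp only [Finset.sum_sub_distrib, Finset.sum_const, Finset.card_univ, Fintype.card_fin,
    nsmul_eq_mul, natCast_zero_of_even hN, zero_mul, Finset.sum_pi_single', Finset.mem_univ,
    if_true, zero_sub, neg_eq_zero] at hsum
  rw [hform]
  funext i
  simp [hsum]

theorem finrank_U (hN3 : 3 ≤ N) (l : Fin N) : Module.finrank (ZMod 2) (U l) = N - 2 := by
  classical
  obtain ⟨i₀, hi₀⟩ : ∃ i₀ : Fin N, i₀ ≠ l := by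
    by_cases hl : l = ⟨0, by omega⟩
    · exact ⟨⟨1, by omega⟩, by rw [hl]; simp [Fin.ext_iff]⟩
    · exact ⟨⟨0, by omega⟩, fun h => hl h.symm⟩
  let f : (Fin N → ZMod 2) →ₗ[ZMod 2] ZMod 2 := ∑ i, LinearMap.proj i
  let T : (Fin N → ZMod 2) →ₗ[ZMod 2] ZMod 2 × ZMod 2 := f.prod (LinearMap.proj l)
  have hf : ∀ x, f x = ∑ i, x i := fun x => by simp [f]
  have hT : ∀ x, T x = (∑ i, x i, x l) := fun x => by rw [← hf]; rfl
  have hker : LinearMap.ker T = U l := by
    ext x
    rw [LinearMap.mem_ker, mem_U, hT, Prod.mk_eq_zero]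
  have hsurj : LinearMap.range T = ⊤ := by
    rw [LinearMap.range_eq_top]
    rintro ⟨a, b⟩
    refine ⟨(a - b) • Pi.single i₀ 1 + b • Pi.single l 1, ?_⟩
    rw [hT, Prod.mk.injEq]
    constructor
    · simp only [Pi.add_apply, Pi.smul_apply, smul_eq_mul, Finset.sum_add_distrib,
        ← Finset.mul_sum, Finset.sum_pi_single', Finset.mem_univ, if_true, mul_one]
      ring
    · simp [Pi.single_apply, hi₀.symm]
  have h1 := LinearMap.finrank_range_add_finrank_ker T
  rw [hsurj, hker, finrank_top, Module.finrank_prod, Module.finrank_self, Module.finrank_pi,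
    Fintype.card_fin] at h1
  omega

theorem exists_notMem (hN : 5 ≤ N) (s : Finset (Fin N)) (hs : s.card ≤ 4) : ∃ x, x ∉ s := by
  have : s.card < (Finset.univ : Finset (Fin N)).card := by
    rw [Finset.card_univ, Fintype.card_fin]; omega
  obtain ⟨e, -, he⟩ := Finset.exists_mem_notMem_of_card_lt_card this
  exact ⟨e, he⟩

theorem pair_apply (i j x : Fin N) :
    (Pi.single i 1 + Pi.single j 1 : Fin N → ZMod 2) x =
      (if x = i then 1 else 0) + (if x = j then 1 else 0) := by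
  simp [Pi.single_apply]

theorem faithful (hN : 5 ≤ N) (l : Fin N) (σ : Equiv.Perm (Fin N))
    (h : ∀ u ∈ U l, act l σ u = u) : σ = 1 := by
  classical
  have hstar : ∀ u ∈ U l, ∀ i, u (σ⁻¹ i) + u (σ⁻¹ l) = u i := by
    intro u hu i
    have := congrFun (h u hu) i
    rwa [act_apply] at this
  -- step 1
  have hl : σ⁻¹ l = l := by
    by_contra hp
    obtain ⟨j, hj⟩ := exists_notMem hN {σ⁻¹ l, l} (by
      refine (Finset.card_le_two).trans (by norm_num))
    simp only [Finset.mem_insert, Finset.mem_singleton, not_or] at hj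
    have hu := pair_mem l (σ⁻¹ l) j hp hj.2 (Ne.symm hj.1)
    obtain ⟨i, hi⟩ := exists_notMem hN {σ⁻¹ l, j, σ (σ⁻¹ l), σ j} Finset.card_le_four
    simp only [Finset.mem_insert, Finset.mem_singleton, not_or] at hi
    have h1 := hstar _ hu i
    rw [pair_apply, pair_apply, pair_apply] at h1
    have e1 : σ⁻¹ i ≠ σ⁻¹ l := by
      intro he
      apply hi.2.2.1
      rw [← he]; simp
    have e2 : σ⁻¹ i ≠ j := by
      intro he
      apply hi.2.2.2
      rw [← he]; simp
    simp only [if_neg e1, if_neg e2, if_neg hi.1, if_neg hi.2.1, if_pos, if_neg (Ne.symm hj.1)]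
      at h1
    simp at h1
  -- step 2
  have hall : ∀ i, σ⁻¹ i = i := by
    intro i
    by_cases hil : i = l
    · rw [hil]; exact hl
    by_contra hne
    have hi'l : σ⁻¹ i ≠ l := by
      intro he
      apply hil
      have : σ⁻¹ i = σ⁻¹ l := by rw [he, hl]
      exact (σ⁻¹).injective this
    obtain ⟨j, hj⟩ := exists_notMem hN {i, σ⁻¹ i, l} (Finset.card_le_three.trans (by norm_num))
    simp only [Finset.mem_insert, Finset.mem_singleton, not_or] at hj
    have hu := pair_mem l i j hil hj.2.2 (Ne.symm hj.1)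
    have h1 := hstar _ hu i
    rw [hl, pair_apply, pair_apply, pair_apply] at h1
    simp only [if_neg hne, if_neg (Ne.symm hj.2.1), if_neg (Ne.symm hil), if_neg (Ne.symm hj.2.2),
      if_pos, if_neg (Ne.symm hj.1)] at h1
    simp at h1
  have : σ⁻¹ = 1 := Equiv.ext hall
  exact inv_eq_one.mp this

end

theorem result (n : ℕ) (hn : 3 ≤ n) : ∃ f : Equiv.Perm (Fin (2 * n)) →* Matrix.symplecticGroup (Fin (n - 1)) (ZMod 2), Function.Injective f := by
  classical
  have hN : Even (2 * n) := even_two_mul n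
  have hN3 : 3 ≤ 2 * n := by omega
  have hN5 : 5 ≤ 2 * n := by omega
  let l : Fin (2 * n) := ⟨2 * n - 1, by omega⟩
  obtain ⟨φ, hφ⟩ := Cfsg.Agent.S0776.exists_std ((dotB (2 * n)).restrict (U l))
    (fun x => by
      change dotB (2 * n) (x : Fin (2 * n) → ZMod 2) (x : Fin (2 * n) → ZMod 2) = 0
      rw [dotB_apply]
      simp only [mul_self']
      exact x.2.1)
    (fun u hu => Subtype.ext (nondeg_U hN hN3 l u u.2 (fun u' hu' => hu ⟨u', hu'⟩)))
    (n - 1) (by rw [finrank_U hN3 l]; omega)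
  have hφ' : ∀ x y : U l, Cfsg.sympForm (n - 1) (ZMod 2) (φ x) (φ y) =
      dotB (2 * n) (x : Fin (2 * n) → ZMod 2) (y : Fin (2 * n) → ZMod 2) := hφ
  let ρ : Equiv.Perm (Fin (2 * n)) → (U l →ₗ[ZMod 2] U l) := fun σ =>
    (act l σ).restrict (fun x hx => act_mem hN l σ x hx)
  have hρ : ∀ σ (u : U l), ((ρ σ u : U l) : Fin (2 * n) → ZMod 2) = act l σ u := fun _ _ => rfl
  let M : Equiv.Perm (Fin (2 * n)) → Matrix (Fin (n - 1) ⊕ Fin (n - 1)) (Fin (n - 1) ⊕ Fin (n - 1))
      (ZMod 2) := fun σ =>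
    LinearMap.toMatrix' (φ.toLinearMap ∘ₗ ρ σ ∘ₗ φ.symm.toLinearMap)
  have hM : ∀ σ x, M σ *ᵥ x = φ (ρ σ (φ.symm x)) := by
    intro σ x
    simp only [M]
    rw [← Matrix.toLin'_apply, Matrix.toLin'_toMatrix']
    rfl
  have hMmem : ∀ σ, M σ ∈ Matrix.symplecticGroup (Fin (n - 1)) (ZMod 2) := by
    intro σ
    rw [mem_symplecticGroup_iff_preserves]
    intro x y
    rw [hM, hM, hφ', hρ, hρ, act_dot hN l σ _ _ (φ.symm x).2 (φ.symm y).2, ← hφ',
      LinearEquiv.apply_symm_apply, LinearEquiv.apply_symm_apply]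
  have hM1 : M 1 = 1 := by
    apply matrix_ext_mulVec
    intro x
    rw [hM, Matrix.one_mulVec]
    have : ρ 1 (φ.symm x) = φ.symm x := Subtype.ext (by rw [hρ]; exact act_one l _ (φ.symm x).2)
    rw [this, LinearEquiv.apply_symm_apply]
  have hMmul : ∀ σ τ, M (σ * τ) = M σ * M τ := by
    intro σ τ
    apply matrix_ext_mulVec
    intro x
    rw [← Matrix.mulVec_mulVec, hM, hM, hM, LinearEquiv.symm_apply_apply]
    congr 1
    apply Subtype.ext
    rw [hρ, hρ, hρ, act_mul]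
  refine ⟨{ toFun := fun σ => ⟨M σ, hMmem σ⟩
            map_one' := Subtype.ext hM1
            map_mul' := fun σ τ => Subtype.ext (hMmul σ τ) }, ?_⟩
  rw [injective_iff_map_eq_one]
  intro σ hσ
  have h1 : M σ = 1 := congrArg Subtype.val hσ
  apply faithful hN5 l σ
  intro u hu
  have h2 := hM σ (φ ⟨u, hu⟩)
  rw [h1, Matrix.one_mulVec, LinearEquiv.symm_apply_apply] at h2
  have h3 := congrArg Subtype.val (φ.injective h2)
  rw [hρ] at h3
  exact h3.symm

end Cfsg.Agent.S0826
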