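-- Statement S0830
import Cfsg.Statements.S0830
import Mathlib
import Cfsg.Agent.Lib.Helper6.UnitaryCount

set_option autoImplicit false
open Cfsg

namespace Cfsg.Agent.S0830

open Cfsg.Agent.Lib.Helper6

/-- The unitary quadrangle of PSU_5(q): with |F| = q², the number of 2-dimensional subspaces of F^5 on which the Hermitian form vanishes is (q³ + 1)(q⁵ + 1). -/
theorem result {F : Type*} [Field F] [Fintype F] {q : ℕ} (hF : Fintype.card F = q ^ 2) : Nat.card {W : Submodule F (Fin 5 → F) // Module.finrank F W = 2 ∧ ∀ u ∈ W, ∀ v ∈ W, Cfsg.hermForm 5 F q u v = 0} = (q ^ 3 + 1) * (q ^ 5 + 1) := by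
  have hq := two_le_q hF
  have h0 := herm_lines_count (n := 5) hF (by norm_num)
  have hA := isoCount_formula hF 5
  have hB := isoCount_formula hF 3
  rw [normCount_zero_eq hF] at hA hB
  have e1 : q ^ 2 ≤ (q ^ 2) ^ 2 := by nlinarith [Nat.one_le_pow 2 q (by omega)]
  have e2 : 1 ≤ (q ^ 2) ^ 2 := Nat.one_le_pow _ _ (by positivity)
  have h0' := congrArg (Nat.cast : ℕ → ℤ) h0
  simp only [show (5 : ℕ) - 2 = 3 from rfl] at h0'
  push_cast [e1, e2] at h0' hA hB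
  have hqz : (2 : ℤ) ≤ (q : ℤ) := by exact_mod_cast hq
  have hne : ((q : ℤ) * q * ((((q : ℤ) ^ 2) ^ 2 - (q : ℤ) ^ 2) * (((q : ℤ) ^ 2) ^ 2 - 1))) ≠ 0 := by
    have h1 : (0 : ℤ) < (q : ℤ) := by linarith
    have h2 : (0 : ℤ) < ((q : ℤ) ^ 2) ^ 2 - (q : ℤ) ^ 2 := by nlinarith
    have h3 : (0 : ℤ) < ((q : ℤ) ^ 2) ^ 2 - 1 := by nlinarith
    positivity
  have key : ((q : ℤ) * q * ((((q : ℤ) ^ 2) ^ 2 - (q : ℤ) ^ 2) * (((q : ℤ) ^ 2) ^ 2 - 1))) *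
      ((Nat.card {W : Submodule F (Fin 5 → F) // Module.finrank F W = 2 ∧
        ∀ u ∈ W, ∀ v ∈ W, Cfsg.hermForm 5 F q u v = 0} : ℕ) : ℤ) =
      ((q : ℤ) * q * ((((q : ℤ) ^ 2) ^ 2 - (q : ℤ) ^ 2) * (((q : ℤ) ^ 2) ^ 2 - 1))) *
        (((q ^ 3 + 1) * (q ^ 5 + 1) : ℕ) : ℤ) := by
    push_cast
    linear_combination ((q : ℤ) * q) * h0' + ((q : ℤ) ^ 3 * (isoNZ 3 F q : ℤ)) * hA +
      ((q : ℤ) ^ 2 * ((q : ℤ) ^ (2 * 5) + (-1) ^ 5 * ((q : ℤ) - 1) * (q : ℤ) ^ 5 - q)) * hB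
  exact_mod_cast mul_left_cancel₀ hne key

end Cfsg.Agent.S0830
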