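-- Statement S0832
import Cfsg.Statements.S0832
import Mathlib
import Cfsg.Agent.Lib.Helper6.Hyperbolic
import Cfsg.Agent.Lib.Helper15.QuadF2a

set_option autoImplicit false
open Cfsg

namespace Cfsg.Agent.S0832

open Module Cfsg.Agent.Lib.Helper6 Cfsg.Agent.Lib.Helper15

/-- the standard totally singular subspace of the plus form -/
def stdTS (F : Type*) [Field F] (m : ℕ) : Submodule F (Fin m ⊕ Fin m → F) where
  carrier := {v | ∀ i, v (Sum.inr i) = 0}
  add_mem' := by
    intro a b ha hb i
    simp [ha i, hb i]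
  zero_mem' := by intro i; rfl
  smul_mem' := by
    intro c a ha i
    simp [ha i]

theorem stdTS_ts (F : Type*) [Field F] (m : ℕ) : TS (QPlus F m) (stdTS F m) := by
  intro v hv
  rw [QPlus_apply]
  unfold Cfsg.quadFormPlus
  apply Finset.sum_eq_zero
  intro i _
  rw [hv i, mul_zero]

theorem stdTS_finrank (F : Type*) [Field F] (m : ℕ) : finrank F (stdTS F m) = m := by
  let φ : (Fin m → F) →ₗ[F] (Fin m ⊕ Fin m → F) :=
    { toFun := fun w => Sum.elim w 0
      map_add' := by
        intro a b; funext j; rcases j with j | j <;> simp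
      map_smul' := by
        intro c a; funext j; rcases j with j | j <;> simp }
  have hφ : Function.Injective φ := by
    intro a b h
    funext i
    have := congrFun h (Sum.inl i)
    simpa [φ] using this
  have hr : LinearMap.range φ = stdTS F m := by
    ext v
    constructor
    · rintro ⟨w, rfl⟩ i
      simp [φ]
    · intro hv
      refine ⟨fun i => v (Sum.inl i), ?_⟩
      funext j
      rcases j with j | j
      · simp [φ]
      · simp [φ, hv j]
  rw [← hr, LinearMap.finrank_range_of_inj hφ, Module.finrank_fin_fun]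

/-- For the form Σ x_i y_i on F^(2m) over a finite field, m ≥ 1: an (m−1)-dimensional subspace on which the form vanishes is contained in exactly two m-dimensional subspaces on which it vanishes. -/
theorem result {F : Type*} [Field F] [Finite F] (m : ℕ) (hm : 1 ≤ m) (U : Submodule F (Fin m ⊕ Fin m → F)) (hU : Module.finrank F U + 1 = m ∧ ∀ u ∈ U, Cfsg.quadFormPlus m F u = 0) : Nat.card {W : Submodule F (Fin m ⊕ Fin m → F) // Module.finrank F W = m ∧ (∀ w ∈ W, Cfsg.quadFormPlus m F w = 0) ∧ U ≤ W} = 2 := by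
  have hV : finrank F (Fin m ⊕ Fin m → F) = 2 * m := by
    rw [Module.finrank_fintype_fun_eq_card]; simp; ring
  have hUts : TS (QPlus F m) U := fun u hu => by rw [QPlus_apply]; exact hU.2 u hu
  obtain ⟨W₁, W₂, hne, ⟨h1a, h1b, h1c⟩, ⟨h2a, h2b, h2c⟩, huniq⟩ :=
    exists_two_extensions (QPlus F m) (nondegenerate_QPlus F m) m hV (stdTS F m) (stdTS_ts F m)
      (stdTS_finrank F m) U hUts hU.1
  have hts : ∀ W : Submodule F (Fin m ⊕ Fin m → F), TS (QPlus F m) W ↔
      ∀ w ∈ W, Cfsg.quadFormPlus m F w = 0 := by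
    intro W
    constructor
    · intro h w hw
      rw [← QPlus_apply]; exact h w hw
    · intro h w hw
      rw [QPlus_apply]; exact h w hw
  rw [Nat.card_eq_two_iff]
  refine ⟨⟨W₁, h1b, (hts W₁).mp h1a, h1c⟩, ⟨W₂, h2b, (hts W₂).mp h2a, h2c⟩, ?_, ?_⟩
  · intro h
    exact hne (congrArg Subtype.val h)
  · ext ⟨W, hWm, hWts, hUW⟩
    simp only [Set.mem_insert_iff, Set.mem_singleton_iff, Set.mem_univ, iff_true, Subtype.mk.injEq]
    exact huniq W ((hts W).mpr hWts) hWm hUW

end Cfsg.Agent.S0832
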