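-- Statement S0831
import Cfsg.Statements.S0831
import Mathlib
import Cfsg.Agent.Lib.Helper6.Hyperbolic2
import Cfsg.Agent.S0832

set_option autoImplicit false
open Cfsg

namespace Cfsg.Agent.S0831

open Module Cfsg.Agent.Lib.Helper6 Cfsg.Agent.Lib.Helper15

/-- The two families of maximal totally singular subspaces of the hyperbolic quadric: for the form Σ x_i y_i on F^(2m), m ≥ 1, and m-dimensional subspaces U, W, X on which it vanishes, the parities of m − dim(U ∩ W), m − dim(W ∩ X) and m − dim(U ∩ X) sum to an even number (so 'even codimension of the intersection' is an equivalence relation), and there exist two such subspaces meeting in codimension 1 (so there are exactly two classes). -/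
theorem result {F : Type*} [Field F] (m : ℕ) (hm : 1 ≤ m) : (∀ U W X : Submodule F (Fin m ⊕ Fin m → F), (Module.finrank F U = m ∧ ∀ w ∈ U, Cfsg.quadFormPlus m F w = 0) → (Module.finrank F W = m ∧ ∀ w ∈ W, Cfsg.quadFormPlus m F w = 0) → (Module.finrank F X = m ∧ ∀ w ∈ X, Cfsg.quadFormPlus m F w = 0) → Even ((m - Module.finrank F ↥(U ⊓ W)) + (m - Module.finrank F ↥(W ⊓ X)) + (m - Module.finrank F ↥(U ⊓ X)))) ∧ ∃ U W : Submodule F (Fin m ⊕ Fin m → F), (Module.finrank F U = m ∧ ∀ w ∈ U, Cfsg.quadFormPlus m F w = 0) ∧ (Module.finrank F W = m ∧ ∀ w ∈ W, Cfsg.quadFormPlus m F w = 0) ∧ Module.finrank F ↥(U ⊓ W) + 1 = m := by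
  have hV : finrank F (Fin m ⊕ Fin m → F) = 2 * m := by
    rw [Module.finrank_fintype_fun_eq_card]; simp; ring
  have hQ := nondegenerate_QPlus F m
  have hts : ∀ W : Submodule F (Fin m ⊕ Fin m → F), TS (QPlus F m) W ↔
      ∀ w ∈ W, Cfsg.quadFormPlus m F w = 0 := by
    intro W
    constructor
    · intro h w hw
      rw [← QPlus_apply]; exact h w hw
    · intro h w hw
      rw [QPlus_apply]; exact h w hw
  constructor
  · intro U W X hU hW hX
    exact parity_three (QPlus F m) hQ m hV _ U W X ((hts U).mpr hU.2) hU.1 ((hts W).mpr hW.2) hW.1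
      ((hts X).mpr hX.2) hX.1 rfl
  · -- a totally singular subspace of dimension m - 1
    have hle : m - 1 ≤ finrank F (Cfsg.Agent.S0832.stdTS F m) := by
      rw [Cfsg.Agent.S0832.stdTS_finrank]; omega
    obtain ⟨f, hf⟩ := exists_linearIndependent_of_le_finrank hle
    let H : Submodule F (Fin m ⊕ Fin m → F) :=
      (Submodule.span F (Set.range f)).map (Cfsg.Agent.S0832.stdTS F m).subtype
    have hHle : H ≤ Cfsg.Agent.S0832.stdTS F m := Submodule.map_subtype_le _ _
    have hHts : TS (QPlus F m) H := (Cfsg.Agent.S0832.stdTS_ts F m).mono hHle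
    have hHdim : finrank F H + 1 = m := by
      have h1 : finrank F H = finrank F (Submodule.span F (Set.range f)) :=
        (Submodule.equivSubtypeMap _ _).symm.finrank_eq
      rw [h1, finrank_span_eq_card hf]
      simp; omega
    obtain ⟨W₁, W₂, hne, ⟨h1a, h1b, h1c⟩, ⟨h2a, h2b, h2c⟩, _⟩ :=
      exists_two_extensions (QPlus F m) hQ m hV (Cfsg.Agent.S0832.stdTS F m)
        (Cfsg.Agent.S0832.stdTS_ts F m) (Cfsg.Agent.S0832.stdTS_finrank F m) H hHts hHdim
    refine ⟨W₁, W₂, ⟨h1b, (hts W₁).mp h1a⟩, ⟨h2b, (hts W₂).mp h2a⟩, ?_⟩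
    have e1 : H ≤ W₁ ⊓ W₂ := le_inf h1c h2c
    have e2 := Submodule.finrank_mono e1
    have e3 : W₁ ⊓ W₂ < W₁ := by
      apply lt_of_le_of_ne inf_le_left
      intro h
      apply hne
      have hle : W₁ ≤ W₂ := by rw [← h]; exact inf_le_right
      exact Submodule.eq_of_le_of_finrank_le hle (by omega)
    have e4 := Submodule.finrank_lt_finrank_of_lt e3
    omega

end Cfsg.Agent.S0831
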