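-- Statement S0833
import Cfsg.Statements.S0833
import Mathlib
import Cfsg.Agent.S0752

set_option autoImplicit false
open Cfsg

namespace Cfsg.Agent.S0833

open Module TensorProduct

/-- A nondegenerate alternating form in dimension `2k` has a totally isotropic `k`-subspace. -/
theorem lagrangian {F U : Type*} [Field F] [AddCommGroup U] [Module F U] [FiniteDimensional F U]
    (B : LinearMap.BilinForm F U) (hB : B.Nondegenerate) (hA : B.IsAlt) (k : ℕ)
    (hU : finrank F U = 2 * k) :
    ∃ L : Submodule F U, finrank F L = k ∧ ∀ x ∈ L, ∀ y ∈ L, B x y = 0 := by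
  classical
  obtain ⟨m, r, b, hef, hee, hff, hr⟩ := Cfsg.Agent.S0752.result B hA
  have hr0 : r = 0 := by
    by_contra h
    have hpos : 0 < r := Nat.pos_of_ne_zero h
    have h1 : b (Sum.inr ⟨0, hpos⟩) = 0 := hB.1 _ (hr ⟨0, hpos⟩)
    exact b.ne_zero _ h1
  have hcard : finrank F U = 2 * m + r := by
    rw [finrank_eq_card_basis b]
    simp [two_mul]
  have hm : m = k := by omega
  refine ⟨Submodule.span F (Set.range (fun i : Fin m => b (Sum.inl (Sum.inl i)))), ?_, ?_⟩
  · have hli : LinearIndependent F (fun i : Fin m => b (Sum.inl (Sum.inl i))) :=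
      b.linearIndependent.comp (fun i : Fin m => Sum.inl (Sum.inl i))
        (fun i j h => by simpa using h)
    rw [finrank_span_eq_card hli]
    simp [hm]
  · intro x hx y hy
    induction hx using Submodule.span_induction with
    | mem x hx =>
      obtain ⟨i, rfl⟩ := hx
      induction hy using Submodule.span_induction with
      | mem y hy =>
        obtain ⟨j, rfl⟩ := hy
        exact hee i j
      | zero => simp
      | add y z _ _ hy hz => rw [map_add, hy, hz, add_zero]
      | smul c y _ hy => rw [map_smul, hy, smul_zero]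
    | zero => simp
    | add x z _ _ hx hz => rw [map_add, LinearMap.add_apply, hx, hz, add_zero]
    | smul c x _ hx => rw [map_smul, LinearMap.smul_apply, hx, smul_zero]

/-- Gram matrix of a tensor product form in the tensor product basis. -/
theorem toMatrix_tmul {F U W ι κ : Type*} [Field F] [AddCommGroup U] [Module F U]
    [AddCommGroup W] [Module F W] [Fintype ι] [Fintype κ] [DecidableEq ι] [DecidableEq κ]
    (B₁ : LinearMap.BilinForm F U) (B₂ : LinearMap.BilinForm F W)
    (b₁ : Basis ι F U) (b₂ : Basis κ F W) :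
    LinearMap.BilinForm.toMatrix (b₁.tensorProduct b₂) (B₁.tmul B₂) =
      Matrix.kroneckerMap (· * ·) (LinearMap.BilinForm.toMatrix b₁ B₁)
        (LinearMap.BilinForm.toMatrix b₂ B₂) := by
  ext ⟨i, j⟩ ⟨i', j'⟩
  simp [LinearMap.BilinForm.toMatrix_apply, Basis.tensorProduct_apply, mul_comm]

theorem nondegenerate_tmul {F U W : Type*} [Field F] [AddCommGroup U] [Module F U]
    [FiniteDimensional F U] [AddCommGroup W] [Module F W] [FiniteDimensional F W]
    (B₁ : LinearMap.BilinForm F U) (B₂ : LinearMap.BilinForm F W)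
    (h₁ : B₁.Nondegenerate) (h₂ : B₂.Nondegenerate) : (B₁.tmul B₂).Nondegenerate := by
  classical
  let b₁ := Module.finBasis F U
  let b₂ := Module.finBasis F W
  apply (LinearMap.BilinForm.nondegenerate_iff_det_ne_zero
    (B := (B₁.tmul B₂ : LinearMap.BilinForm F (U ⊗[F] W))) (b₁.tensorProduct b₂)).mpr
  rw [toMatrix_tmul]
  have e1 := (LinearMap.BilinForm.nondegenerate_iff_det_ne_zero b₁).mp h₁
  have e2 := (LinearMap.BilinForm.nondegenerate_iff_det_ne_zero b₂).mp h₂
  change (Matrix.kroneckerMap (· * ·) _ _).det ≠ 0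
  rw [Matrix.det_kronecker]
  exact mul_ne_zero (pow_ne_zero _ e1) (pow_ne_zero _ e2)

/-- If `L` is totally isotropic for `B₁` then the image of `L ⊗ W` is totally isotropic. -/
theorem tensor_isotropic {F U W : Type*} [Field F] [AddCommGroup U] [Module F U]
    [FiniteDimensional F U] [AddCommGroup W] [Module F W] [FiniteDimensional F W]
    (B₁ : LinearMap.BilinForm F U) (B₂ : LinearMap.BilinForm F W) (L : Submodule F U)
    (hL : ∀ x ∈ L, ∀ y ∈ L, B₁ x y = 0) :
    ∃ X : Submodule F (U ⊗[F] W), finrank F X = finrank F L * finrank F W ∧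
      ∀ x ∈ X, ∀ y ∈ X, (B₁.tmul B₂) x y = 0 := by
  classical
  let φ : L ⊗[F] W →ₗ[F] U ⊗[F] W := LinearMap.rTensor W L.subtype
  have hφ : Function.Injective φ :=
    Module.Flat.rTensor_preserves_injective_linearMap L.subtype L.subtype_injective
  refine ⟨LinearMap.range φ, ?_, ?_⟩
  · rw [LinearMap.finrank_range_of_inj hφ, Module.finrank_tensorProduct]
  · rintro _ ⟨x, rfl⟩ _ ⟨y, rfl⟩
    induction x using TensorProduct.induction_on with
    | zero => simp
    | add x z hx hz => rw [map_add, map_add, LinearMap.add_apply, hx, hz, add_zero]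
    | tmul l w =>
      induction y using TensorProduct.induction_on with
      | zero => simp
      | add x z hx hz => rw [map_add, map_add, hx, hz, add_zero]
      | tmul l' w' =>
        simp only [φ, LinearMap.rTensor_tmul, Submodule.subtype_apply,
          LinearMap.BilinForm.tensorDistrib_tmul, hL l l.2 l' l'.2, smul_zero]

/-- If B₁, B₂ are non-degenerate alternating forms on U (dim 2k) and W (dim 2l), then B₁ ⊗ B₂ on U ⊗ W is symmetric, non-degenerate, and vanishes identically on some subspace of dimension 2kl (half of dim U ⊗ W). -/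
theorem result {F U W : Type*} [Field F] [Fintype F] [AddCommGroup U] [Module F U] [FiniteDimensional F U] [AddCommGroup W] [Module F W] [FiniteDimensional F W] (B₁ : LinearMap.BilinForm F U) (B₂ : LinearMap.BilinForm F W) (h₁ : B₁.Nondegenerate) (h₂ : B₂.Nondegenerate) (hA₁ : B₁.IsAlt) (hA₂ : B₂.IsAlt) (k l : ℕ) (hU : Module.finrank F U = 2 * k) (hW : Module.finrank F W = 2 * l) : (B₁.tmul B₂).IsSymm ∧ (B₁.tmul B₂).Nondegenerate ∧ (∃ X : Submodule F (TensorProduct F U W), Module.finrank F X = 2 * k * l ∧ ∀ x ∈ X, ∀ y ∈ X, (B₁.tmul B₂) x y = 0) := by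
  refine ⟨?_, nondegenerate_tmul B₁ B₂ h₁ h₂, ?_⟩
  · rw [LinearMap.isSymm_iff_eq_flip]
    apply TensorProduct.ext'
    intro x₁ x₂
    apply LinearMap.ext
    intro z
    induction z using TensorProduct.induction_on with
    | zero => simp
    | add a b ha hb => rw [map_add, map_add, ha, hb]
    | tmul y₁ y₂ =>
      simp only [LinearMap.flip_apply, LinearMap.BilinForm.tensorDistrib_tmul]
      rw [← hA₁.neg_eq x₁ y₁, ← hA₂.neg_eq x₂ y₂]
      simp
  · obtain ⟨L, hLk, hL⟩ := lagrangian B₁ h₁ hA₁ k hU
    obtain ⟨X, hX, hX0⟩ := tensor_isotropic B₁ B₂ L hL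
    refine ⟨X, ?_, hX0⟩
    rw [hX, hLk, hW]
    ring

end Cfsg.Agent.S0833
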