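-- Statement S0834
import Cfsg.Statements.S0834
import Mathlib
import Cfsg.Agent.S0833
import Cfsg.Agent.Lib.Helper6.Lagrangian

set_option autoImplicit false
open Cfsg

namespace Cfsg.Agent.S0834

open Module TensorProduct Cfsg.Agent.Lib.Helper6

/-- Over a finite field with 2 ≠ 0: if B₁ on U (dim 2k, k ≥ 1) and B₂ on W (dim 2l, l ≥ 1) are non-degenerate symmetric forms admitting no totally isotropic subspaces of dimensions k, resp. l (minus type), then B₁ ⊗ B₂ admits a totally isotropic subspace of dimension 2kl (plus type). -/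
theorem result {F U W : Type*} [Field F] [Fintype F] [AddCommGroup U] [Module F U] [FiniteDimensional F U] [AddCommGroup W] [Module F W] [FiniteDimensional F W] (h2 : (2 : F) ≠ 0) (B₁ : LinearMap.BilinForm F U) (B₂ : LinearMap.BilinForm F W) (h₁ : B₁.Nondegenerate) (h₂ : B₂.Nondegenerate) (hS₁ : B₁.IsSymm) (hS₂ : B₂.IsSymm) (k l : ℕ) (hk : 1 ≤ k) (hl : 1 ≤ l) (hU : Module.finrank F U = 2 * k) (hW : Module.finrank F W = 2 * l) (hm₁ : ¬ (∃ X : Submodule F (U), Module.finrank F X = k ∧ ∀ x ∈ X, ∀ y ∈ X, (B₁) x y = 0)) (hm₂ : ¬ (∃ X : Submodule F (W), Module.finrank F X = l ∧ ∀ x ∈ X, ∀ y ∈ X, (B₂) x y = 0)) : (∃ X : Submodule F (TensorProduct F U W), Module.finrank F X = 2 * k * l ∧ ∀ x ∈ X, ∀ y ∈ X, (B₁.tmul B₂) x y = 0) := by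
  classical
  let b₁ := Module.finBasis F U
  let b₂ := Module.finBasis F W
  have hdim : finrank F (U ⊗[F] W) = 2 * (2 * k * l) := by
    rw [Module.finrank_tensorProduct, hU, hW]; ring
  have hsymm : LinearMap.BilinForm.IsSymm (B₁.tmul B₂) :=
    LinearMap.BilinForm.isSymm_iff.mpr (LinearMap.IsSymm.tmul
      (LinearMap.BilinForm.isSymm_iff.mp hS₁) (LinearMap.BilinForm.isSymm_iff.mp hS₂))
  have e1 : Fintype.card (Fin (finrank F U)) = 2 * k := by rw [Fintype.card_fin, hU]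
  have e2 : Fintype.card (Fin (finrank F W)) = 2 * l := by rw [Fintype.card_fin, hW]
  have hnd := Cfsg.Agent.S0833.nondegenerate_tmul B₁ B₂ h₁ h₂
  have key := (hasTI_iff_isSquare h2 (B₁.tmul B₂) hsymm hnd (2 * k * l) hdim
    (b₁.tensorProduct b₂)).mpr ?_
  · exact key
  · rw [Cfsg.Agent.S0833.toMatrix_tmul]
    change IsSquare (_ * (Matrix.kroneckerMap (· * ·) _ _).det)
    rw [Matrix.det_kronecker, e1, e2]
    have he : ((-1 : F)) ^ (2 * k * l) = 1 := by
      rw [mul_assoc, pow_mul]; simp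
    rw [he, one_mul]
    refine ⟨(LinearMap.BilinForm.toMatrix b₁ B₁).det ^ l *
      (LinearMap.BilinForm.toMatrix b₂ B₂).det ^ k, ?_⟩
    ring

end Cfsg.Agent.S0834
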