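-- Statement S0835
import Cfsg.Statements.S0835
import Mathlib
import Cfsg.Agent.S0833
import Cfsg.Agent.Lib.Helper6.Lagrangian

set_option autoImplicit false
open Cfsg

namespace Cfsg.Agent.S0835

open Module TensorProduct Cfsg.Agent.Lib.Helper6

/-- Over a finite field with 2 ≠ 0: if B₁ on U (dim 2k, k ≥ 1) is non-degenerate symmetric of minus type (no totally isotropic k-subspace) and B₂ on W (dim 2l + 1) is non-degenerate symmetric, then B₁ ⊗ B₂ (dimension 2k(2l+1)) admits no totally isotropic subspace of dimension k(2l+1) (minus type). -/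
theorem result {F U W : Type*} [Field F] [Fintype F] [AddCommGroup U] [Module F U] [FiniteDimensional F U] [AddCommGroup W] [Module F W] [FiniteDimensional F W] (h2 : (2 : F) ≠ 0) (B₁ : LinearMap.BilinForm F U) (B₂ : LinearMap.BilinForm F W) (h₁ : B₁.Nondegenerate) (h₂ : B₂.Nondegenerate) (hS₁ : B₁.IsSymm) (hS₂ : B₂.IsSymm) (k l : ℕ) (hk : 1 ≤ k) (hU : Module.finrank F U = 2 * k) (hW : Module.finrank F W = 2 * l + 1) (hm₁ : ¬ (∃ X : Submodule F (U), Module.finrank F X = k ∧ ∀ x ∈ X, ∀ y ∈ X, (B₁) x y = 0)) : ¬ (∃ X : Submodule F (TensorProduct F U W), Module.finrank F X = k * (2 * l + 1) ∧ ∀ x ∈ X, ∀ y ∈ X, (B₁.tmul B₂) x y = 0) := by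
  classical
  let b₁ := Module.finBasis F U
  let b₂ := Module.finBasis F W
  have hdim : finrank F (U ⊗[F] W) = 2 * (k * (2 * l + 1)) := by
    rw [Module.finrank_tensorProduct, hU, hW]; ring
  have hsymm : LinearMap.BilinForm.IsSymm (B₁.tmul B₂) :=
    LinearMap.BilinForm.isSymm_iff.mpr (LinearMap.IsSymm.tmul
      (LinearMap.BilinForm.isSymm_iff.mp hS₁) (LinearMap.BilinForm.isSymm_iff.mp hS₂))
  have e1 : Fintype.card (Fin (finrank F U)) = 2 * k := by rw [Fintype.card_fin, hU]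
  have e2 : Fintype.card (Fin (finrank F W)) = 2 * l + 1 := by rw [Fintype.card_fin, hW]
  have hns : ¬ IsSquare ((-1) ^ k * (LinearMap.BilinForm.toMatrix b₁ B₁).det) := by
    intro h
    exact hm₁ ((hasTI_iff_isSquare h2 B₁ hS₁ h₁ k hU b₁).mpr h)
  have hd2 : (LinearMap.BilinForm.toMatrix b₂ B₂).det ≠ 0 :=
    (LinearMap.BilinForm.nondegenerate_iff_det_ne_zero b₂).mp h₂
  intro hX
  have key := isSquare_of_hasTI (B₁.tmul B₂) hsymm (k * (2 * l + 1)) hdim hX
    (b₁.tensorProduct b₂)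
  rw [Cfsg.Agent.S0833.toMatrix_tmul] at key
  change IsSquare (_ * (Matrix.kroneckerMap (· * ·) _ _).det) at key
  rw [Matrix.det_kronecker, e1, e2] at key
  obtain ⟨a, ha⟩ : ∃ a, a = (-1) ^ k * (LinearMap.BilinForm.toMatrix b₁ B₁).det := ⟨_, rfl⟩
  obtain ⟨d, hd⟩ : ∃ d, d = (LinearMap.BilinForm.toMatrix b₂ B₂).det := ⟨_, rfl⟩
  rw [← ha] at hns
  rw [← hd] at hd2
  have ha0 : a ≠ 0 := by
    rintro rfl
    exact hns IsSquare.zero
  have hrew : (-1 : F) ^ (k * (2 * l + 1)) *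
      ((LinearMap.BilinForm.toMatrix b₁ B₁).det ^ (2 * l + 1) *
        (LinearMap.BilinForm.toMatrix b₂ B₂).det ^ (2 * k)) = a * (a ^ l * d ^ k) ^ 2 := by
    rw [ha, hd, pow_mul]
    ring
  rw [hrew] at key
  obtain ⟨s, hs⟩ := key
  apply hns
  have ht : a ^ l * d ^ k ≠ 0 := mul_ne_zero (pow_ne_zero _ ha0) (pow_ne_zero _ hd2)
  refine ⟨s / (a ^ l * d ^ k), ?_⟩
  field_simp
  linear_combination hs

end Cfsg.Agent.S0835
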