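import Cfsg.Statements.S0836
import Mathlib

set_option autoImplicit false
open Cfsg

namespace Cfsg.Agent.S0836

open Matrix

theorem comm_transv {F : Type*} [Field F] {n : Type*} [Fintype n] [DecidableEq n] (i j k : n)
    (hij : i ≠ j) (hik : i ≠ k) (hkj : k ≠ j) (a b : F) :
    transvection i k a * transvection k j b * transvection i k (-a) * transvection k j (-b)
      = transvection i j (a * b) := by
  have e1 : ∀ x y : F, single i k x * single i k y = 0 := fun x y => by
    rw [single_mul_single_of_ne]; exact hik.symm
  have e2 : ∀ x y : F, single k j x * single i k y = 0 := fun x y => by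
    rw [single_mul_single_of_ne]; exact hij.symm
  have e3 : ∀ x y : F, single i j x * single i k y = 0 := fun x y => by
    rw [single_mul_single_of_ne]; exact hij.symm
  have e4 : ∀ x y : F, single k j x * single k j y = 0 := fun x y => by
    rw [single_mul_single_of_ne]; exact hkj.symm
  have e5 : ∀ x y : F, single i j x * single k j y = 0 := fun x y => by
    rw [single_mul_single_of_ne]; exact hkj.symm
  simp only [transvection, Matrix.mul_add, Matrix.add_mul, Matrix.mul_one, Matrix.one_mul,
    single_mul_single_same, e1, e2, e3, e4, e5, add_zero]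
  have h1 : single i k a + single i k (-a) = (0 : Matrix n n F) := by
    rw [← single_add, add_neg_cancel, single_zero]
  have h2 : single k j b + single k j (-b) = (0 : Matrix n n F) := by
    rw [← single_add, add_neg_cancel, single_zero]
  have h3 : single i j (a * b) + single i j (a * -b) + single i j (-a * -b) = (single i j (a * b) : Matrix n n F) := by
    rw [← single_add, ← single_add]; congr 1; ring
  calc 1 + single i k a + (single k j b + single i j (a * b)) + single i k (-a) +
      (single k j (-b) + single i j (a * -b) + single i j (-a * -b))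
      = 1 + (single i k a + single i k (-a)) + (single k j b + single k j (-b))
        + (single i j (a * b) + single i j (a * -b) + single i j (-a * -b)) := by abel
    _ = 1 + single i j (a * b) := by rw [h1, h2, h3]; simp

theorem t01 {F : Type*} [Field F] (b : F) : transvection (0 : Fin 2) 1 b = !![1, b; 0, 1] := by
  ext a c
  fin_cases a <;> fin_cases c <;> simp [transvection, single]

theorem t10 {F : Type*} [Field F] (b : F) : transvection (1 : Fin 2) 0 b = !![1, 0; b, 1] := by
  ext a c
  fin_cases a <;> fin_cases c <;> simp [transvection, single]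

/-- a transvection as an element of the special linear group -/
def tSL {F : Type*} [Field F] {n : ℕ} (i j : Fin n) (hij : i ≠ j) (c : F) :
    Matrix.SpecialLinearGroup (Fin n) F :=
  ⟨transvection i j c, det_transvection_of_ne i j hij c⟩

theorem tSL_inv {F : Type*} [Field F] {n : ℕ} (i j : Fin n) (hij : i ≠ j) (c : F) :
    (tSL i j hij c)⁻¹ = tSL i j hij (-c) := by
  apply inv_eq_of_mul_eq_one_right
  apply Subtype.ext
  change transvection i j c * transvection i j (-c) = 1
  rw [transvection_mul_transvection_same i j hij, add_neg_cancel, transvection_zero]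

theorem result {F : Type*} [Field F] (n : ℕ) (hn : 3 ≤ n ∨ (n = 2 ∧ ∃ x : F, x ≠ 0 ∧ x ^ 2 ≠ 1)) (i j : Fin n) (hij : i ≠ j) (c : F) (t : Matrix.SpecialLinearGroup (Fin n) F) (ht : (t : Matrix (Fin n) (Fin n) F) = Matrix.transvection i j c) : t ∈ commutatorSet (Matrix.SpecialLinearGroup (Fin n) F) := by
  rcases hn with hn | ⟨rfl, x, hx0, hx1⟩
  · -- a third index
    have : ∃ k : Fin n, k ≠ i ∧ k ≠ j := by
      by_contra hne
      push Not at hne
      have hsub : (Finset.univ : Finset (Fin n)) ⊆ {i, j} := by
        intro k _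
        by_cases hki : k = i
        · simp [hki]
        · simp [hne k hki]
      have := Finset.card_le_card hsub
      rw [Finset.card_univ, Fintype.card_fin] at this
      have h2 : ({i, j} : Finset (Fin n)).card ≤ 2 := Finset.card_le_two
      omega
    obtain ⟨k, hki, hkj⟩ := this
    refine ⟨tSL i k (Ne.symm hki) c, tSL k j hkj 1, ?_⟩
    rw [commutatorElement_def, tSL_inv, tSL_inv]
    apply Subtype.ext
    rw [ht]
    change transvection i k c * transvection k j 1 * transvection i k (-c) * transvection k j (-1) = _
    rw [comm_transv i j k hij (Ne.symm hki) hkj, mul_one]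
  · have hx2 : x ^ 2 - 1 ≠ 0 := sub_ne_zero.mpr hx1
    have hx2' : 1 - x ^ 2 ≠ 0 := sub_ne_zero.mpr (Ne.symm hx1)
    let g₁ : Matrix.SpecialLinearGroup (Fin 2) F := ⟨!![x, 0; 0, x⁻¹], by simp [det_fin_two, hx0]⟩
    let g₁' : Matrix.SpecialLinearGroup (Fin 2) F := ⟨!![x⁻¹, 0; 0, x], by simp [det_fin_two, hx0]⟩
    have hg₁ : g₁⁻¹ = g₁' := by
      apply inv_eq_of_mul_eq_one_right
      apply Subtype.ext
      change (!![x, 0; 0, x⁻¹] : Matrix (Fin 2) (Fin 2) F) * !![x⁻¹, 0; 0, x] = 1
      ext a b
      fin_cases a <;> fin_cases b <;> simp [Matrix.mul_apply, Fin.sum_univ_two, hx0]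
    fin_cases i <;> fin_cases j
    · exact absurd rfl hij
    · have h01 : (0 : Fin 2) ≠ 1 := by decide
      refine ⟨g₁, tSL 0 1 h01 (c / (x ^ 2 - 1)), ?_⟩
      rw [commutatorElement_def, hg₁, tSL_inv]
      apply Subtype.ext
      rw [ht]
      change (!![x, 0; 0, x⁻¹] : Matrix (Fin 2) (Fin 2) F) * transvection 0 1 (c / (x ^ 2 - 1)) * !![x⁻¹, 0; 0, x]
        * transvection 0 1 (-(c / (x ^ 2 - 1))) = transvection 0 1 c
      rw [t01, t01, t01]
      simp only [Matrix.mul_fin_two]
      ext a b
      fin_cases a <;> fin_cases b <;> simp <;> field_simp <;> ring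
    · have h10 : (1 : Fin 2) ≠ 0 := by decide
      refine ⟨g₁, tSL 1 0 h10 (c * x ^ 2 / (1 - x ^ 2)), ?_⟩
      rw [commutatorElement_def, hg₁, tSL_inv]
      apply Subtype.ext
      rw [ht]
      change (!![x, 0; 0, x⁻¹] : Matrix (Fin 2) (Fin 2) F) * transvection 1 0 (c * x ^ 2 / (1 - x ^ 2)) * !![x⁻¹, 0; 0, x]
        * transvection 1 0 (-(c * x ^ 2 / (1 - x ^ 2))) = transvection 1 0 c
      rw [t10, t10, t10]
      simp only [Matrix.mul_fin_two]
      ext a b
      fin_cases a <;> fin_cases b <;> simp <;> field_simp <;> ring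
    · exact absurd rfl hij

end Cfsg.Agent.S0836
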