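-- Statement S0837
import Cfsg.Statements.S0837
import Mathlib
import Cfsg.Agent.Lib.Helper6.Unitary
import Cfsg.Agent.Lib.Helper6.Symp

set_option autoImplicit false
open Cfsg

namespace Cfsg.Agent.S0837

open Matrix Module Cfsg.Agent.Lib.Helper6 Cfsg.Agent.S0779

section comp

variable {F : Type*} [Field F] {n k : ℕ} (U U' : Submodule F (Fin n → F)) (hc : IsCompl U U')
  (φ : U ≃ₗ[F] (Fin k → F))

/-- component matrix of `A` on `U` -/
noncomputable def cmp (A : Matrix (Fin n) (Fin n) F) : Matrix (Fin k) (Fin k) F :=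
  LinearMap.toMatrix' (φ.toLinearMap ∘ₗ U.projectionOnto U' hc ∘ₗ Matrix.toLin' A ∘ₗ
    U.subtype ∘ₗ φ.symm.toLinearMap)

theorem cmp_mulVec (A : Matrix (Fin n) (Fin n) F) (x : Fin k → F) :
    cmp U U' hc φ A *ᵥ x =
      φ (U.projectionOnto U' hc (A *ᵥ (φ.symm x : Fin n → F))) := by
  unfold cmp
  rw [← Matrix.toLin'_apply, Matrix.toLin'_toMatrix']
  rfl

theorem cmp_mulVec_of_mem (A : Matrix (Fin n) (Fin n) F)
    (hA : ∀ u ∈ U, A *ᵥ u ∈ U) (u : U) :
    cmp U U' hc φ A *ᵥ (φ u) = φ ⟨A *ᵥ (u : Fin n → F), hA u u.2⟩ := by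
  rw [cmp_mulVec, LinearEquiv.symm_apply_apply,
    Submodule.projectionOnto_apply_of_mem_left hc (hA u u.2)]

theorem cmp_one : cmp U U' hc φ 1 = 1 := by
  apply matrix_ext_mulVec
  intro x
  rw [cmp_mulVec, Matrix.one_mulVec, Matrix.one_mulVec, Submodule.projectionOnto_apply_left,
    LinearEquiv.apply_symm_apply]

theorem cmp_mul (A B : Matrix (Fin n) (Fin n) F) (hB : ∀ u ∈ U, B *ᵥ u ∈ U) :
    cmp U U' hc φ (A * B) = cmp U U' hc φ A * cmp U U' hc φ B := by
  apply matrix_ext_mulVec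
  intro x
  rw [← Matrix.mulVec_mulVec]
  obtain ⟨u, rfl⟩ := φ.surjective x
  rw [cmp_mulVec_of_mem U U' hc φ B hB u, cmp_mulVec, cmp_mulVec, LinearEquiv.symm_apply_apply,
    LinearEquiv.symm_apply_apply, Matrix.mulVec_mulVec]

theorem cmp_pres (q : ℕ)
    (hφ : ∀ x y : U, Cfsg.hermForm k F q (φ x) (φ y) = Cfsg.hermForm n F q x y)
    (A : Matrix (Fin n) (Fin n) F) (hA : ∀ u ∈ U, A *ᵥ u ∈ U)
    (hAs : ∀ x y, Cfsg.hermForm n F q (A *ᵥ x) (A *ᵥ y) = Cfsg.hermForm n F q x y) :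
    ∀ x y, Cfsg.hermForm k F q (cmp U U' hc φ A *ᵥ x) (cmp U U' hc φ A *ᵥ y) =
      Cfsg.hermForm k F q x y := by
  intro x y
  obtain ⟨u, rfl⟩ := φ.surjective x
  obtain ⟨v, rfl⟩ := φ.surjective y
  rw [cmp_mulVec_of_mem U U' hc φ A hA u, cmp_mulVec_of_mem U U' hc φ A hA v, hφ, hφ]
  exact hAs u v

end comp

section main

variable {F : Type*} [Field F] [Fintype F] {q : ℕ}

theorem herm_sub_left {n : ℕ} (x y z : Fin n → F) :
    Cfsg.hermForm n F q (x - y) z = Cfsg.hermForm n F q x z - Cfsg.hermForm n F q y z := by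
  simp only [hermForm, Pi.sub_apply, sub_mul, Finset.sum_sub_distrib]

/-- the orthogonal complement -/
def perp (n : ℕ) (q : ℕ) (W : Submodule F (Fin n → F)) : Submodule F (Fin n → F) where
  carrier := {x | ∀ w ∈ W, Cfsg.hermForm n F q x w = 0}
  add_mem' := by
    intro a b ha hb w hw
    rw [herm_add_left, ha w hw, hb w hw, add_zero]
  zero_mem' := fun w _ => herm_zero_left w
  smul_mem' := by
    intro c x hx w hw
    rw [herm_smul_left, hx w hw, mul_zero]

theorem mem_perp {n : ℕ} (W : Submodule F (Fin n → F)) (x : Fin n → F) :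
    x ∈ perp n q W ↔ ∀ w ∈ W, Cfsg.hermForm n F q x w = 0 := Iff.rfl

/-- a stabilising unitary matrix also stabilises the orthogonal complement -/
theorem stab_perp {n : ℕ} (W : Submodule F (Fin n → F))
    (A A' : Matrix (Fin n) (Fin n) F) (hAA' : A * A' = 1)
    (hAs : ∀ x y, Cfsg.hermForm n F q (A *ᵥ x) (A *ᵥ y) = Cfsg.hermForm n F q x y)
    (hA : ∀ v, v ∈ W ↔ A *ᵥ v ∈ W) :
    ∀ u ∈ perp n q W, A *ᵥ u ∈ perp n q W := by
  intro u hu w hw
  have hinv : A *ᵥ (A' *ᵥ w) = w := by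
    rw [Matrix.mulVec_mulVec, hAA', Matrix.one_mulVec]
  have hw' : A' *ᵥ w ∈ W := by
    rw [hA, hinv]; exact hw
  rw [← hinv, hAs]
  exact hu _ hw'

end main

theorem result {F : Type*} [Field F] [Fintype F] {q : ℕ} (hF : Fintype.card F = q ^ 2) (n k : ℕ) (hk : k ≤ n) (W : Submodule F (Fin n → F)) (hWk : Module.finrank F W = k) (hW : ∀ u ∈ W, (∀ v ∈ W, Cfsg.hermForm n F q u v = 0) → u = 0) : Nonempty (↥((Cfsg.stabilizing (Cfsg.glToMat (Fin n) F) (W : Set (Fin n → F))).subgroupOf (Cfsg.GU n F q)) ≃* ↥(Cfsg.GU k F q) × ↥(Cfsg.GU (n - k) F q)) := by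
  classical
  -- the isometry on `W`
  obtain ⟨φ₁, hφ₁⟩ := exists_std_herm hF ((hermB n hF).domRestrict₁₂ W W)
    ⟨fun x y => (hermB_isSymm hF).eq (x : Fin n → F) (y : Fin n → F)⟩
    (fun u hu => Subtype.ext (hW u u.2 (fun v hv => herm_swap_zero hF (hu ⟨v, hv⟩)))) k hWk
  have hφ₁' : ∀ x y : W, Cfsg.hermForm k F q (φ₁ x) (φ₁ y) =
      Cfsg.hermForm n F q (x : Fin n → F) (y : Fin n → F) := hφ₁
  obtain ⟨Wp, hWp⟩ : ∃ Wp, Wp = perp n q W := ⟨_, rfl⟩
  have hmemWp : ∀ u, u ∈ Wp ↔ ∀ w ∈ W, Cfsg.hermForm n F q u w = 0 := by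
    intro u; rw [hWp]; exact mem_perp W u
  -- complement
  have hc : IsCompl W Wp := by
    constructor
    · rw [Submodule.disjoint_def]
      intro x hx hx'
      exact hW x hx ((hmemWp x).mp hx')
    · rw [Submodule.codisjoint_iff_exists_add_eq]
      intro x
      let t : Fin k → F := fun i => Cfsg.hermForm n F q x ((φ₁.symm (Pi.single i 1) : W) : Fin n → F)
      refine ⟨(φ₁.symm t : W), x - (φ₁.symm t : W), (φ₁.symm t).2, ?_, by abel⟩
      rw [hmemWp]
      -- linear functionals in `c` where `w = φ₁.symm c`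
      let f₁ : (Fin k → F) →ₗ[F] F := (hermB n hF x) ∘ₗ W.subtype ∘ₗ φ₁.symm.toLinearMap
      let f₂ : (Fin k → F) →ₗ[F] F := hermB k hF t
      have hf : f₁ = f₂ := by
        apply LinearMap.pi_ext
        intro i a
        have : (Pi.single i a : Fin k → F) = a • Pi.single i 1 := by
          rw [← Pi.single_smul]; simp
        rw [this, map_smul, map_smul]
        congr 1
        change Cfsg.hermForm n F q ((φ₁.symm (Pi.single i 1) : W) : Fin n → F) x =
          Cfsg.hermForm k F q (Pi.single i 1) t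
        rw [← herm_conj hF, ← herm_conj hF t, herm_single_right hF]
      intro w hw
      rw [herm_sub_left]
      have e1 : Cfsg.hermForm n F q ((φ₁.symm t : W) : Fin n → F) w =
          Cfsg.hermForm k F q t (φ₁ ⟨w, hw⟩) := by
        rw [← hφ₁' (φ₁.symm t) ⟨w, hw⟩, LinearEquiv.apply_symm_apply]
      have e2 : Cfsg.hermForm n F q w x = Cfsg.hermForm k F q (φ₁ ⟨w, hw⟩) t := by
        have := congrArg (fun f => f (φ₁ ⟨w, hw⟩)) hf
        simpa [f₁, f₂, hermB_apply] using this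
      rw [e1, ← herm_conj hF w x, e2, herm_conj hF, sub_self]
  have hdim : Module.finrank F Wp = n - k := by
    have h1 := Submodule.finrank_add_eq_of_isCompl hc
    rw [Module.finrank_pi, Fintype.card_fin] at h1
    omega
  have hsplit : ∀ x : Fin n → F,
      ((W.projectionOnto Wp hc x : W) : Fin n → F) +
        ((Wp.projectionOnto W hc.symm x : Wp) : Fin n → F) = x := by
    intro x
    have := Submodule.projection_add_projection_eq_self hc x
    simpa using this
  obtain ⟨φ₂, hφ₂⟩ := exists_std_herm hF ((hermB n hF).domRestrict₁₂ Wp Wp)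
    ⟨fun x y => (hermB_isSymm hF).eq (x : Fin n → F) (y : Fin n → F)⟩
    (by
      intro u hu
      apply Subtype.ext
      apply herm_nondeg hF
      intro y
      rw [← hsplit y, herm_add_right hF]
      have h1 : Cfsg.hermForm n F q (u : Fin n → F)
          ((W.projectionOnto Wp hc y : W) : Fin n → F) = 0 :=
        (hmemWp u).mp u.2 _ (Subtype.mem _)
      have h2 := hu (Wp.projectionOnto W hc.symm y)
      have h2' : Cfsg.hermForm n F q (u : Fin n → F)
          ((Wp.projectionOnto W hc.symm y : Wp) : Fin n → F) = 0 := herm_swap_zero hF h2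
      rw [h1, h2', add_zero]) (n - k) hdim
  have hφ₂' : ∀ x y : Wp, Cfsg.hermForm (n - k) F q (φ₂ x) (φ₂ y) =
      Cfsg.hermForm n F q (x : Fin n → F) (y : Fin n → F) := hφ₂
  -- abbreviations
  let G := ↥((Cfsg.stabilizing (Cfsg.glToMat (Fin n) F) (W : Set (Fin n → F))).subgroupOf
    (Cfsg.GU n F q))
  let M : G → Matrix (Fin n) (Fin n) F := fun g =>
    (((g.1 : ↥(Cfsg.GU n F q)) : Matrix.GeneralLinearGroup (Fin n) F) : Matrix (Fin n) (Fin n) F)
  have hMpres : ∀ g : G, ∀ x y, Cfsg.hermForm n F q (M g *ᵥ x) (M g *ᵥ y) =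
      Cfsg.hermForm n F q x y := fun g => g.1.2
  have hMstab : ∀ g : G, ∀ v, v ∈ W ↔ M g *ᵥ v ∈ W := fun g => Subgroup.mem_subgroupOf.mp g.2
  have hst1 : ∀ g : G, ∀ u ∈ W, M g *ᵥ u ∈ W := fun g u hu => (hMstab g u).mp hu
  have hMinv : ∀ g : G, M g * M g⁻¹ = 1 := by
    intro g
    change (((g.1 : ↥(Cfsg.GU n F q)) : Matrix.GeneralLinearGroup (Fin n) F) :
      Matrix (Fin n) (Fin n) F) * ((((g.1 : ↥(Cfsg.GU n F q)) :
        Matrix.GeneralLinearGroup (Fin n) F)⁻¹ : Matrix.GeneralLinearGroup (Fin n) F) :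
          Matrix (Fin n) (Fin n) F) = 1
    exact Units.mul_inv _
  have hst2 : ∀ g : G, ∀ u ∈ Wp, M g *ᵥ u ∈ Wp := by
    intro g u hu
    rw [hWp] at hu ⊢
    exact stab_perp W (M g) (M g⁻¹) (hMinv g) (hMpres g) (hMstab g) u hu
  let Ψ₁ : G →* Matrix (Fin k) (Fin k) F :=
    { toFun := fun g => cmp W Wp hc φ₁ (M g)
      map_one' := cmp_one W Wp hc φ₁
      map_mul' := fun g h => cmp_mul W Wp hc φ₁ (M g) (M h) (hst1 h) }
  let Ψ₂ : G →* Matrix (Fin (n - k)) (Fin (n - k)) F :=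
    { toFun := fun g => cmp Wp W hc.symm φ₂ (M g)
      map_one' := cmp_one Wp W hc.symm φ₂
      map_mul' := fun g h => cmp_mul Wp W hc.symm φ₂ (M g) (M h) (hst2 h) }
  have hΨ₁ : ∀ g : G, Ψ₁.toHomUnits g ∈ Cfsg.GU k F q := by
    intro g x y
    exact cmp_pres W Wp hc φ₁ q hφ₁' (M g) (hst1 g) (hMpres g) x y
  have hΨ₂ : ∀ g : G, Ψ₂.toHomUnits g ∈ Cfsg.GU (n - k) F q := by
    intro g x y
    exact cmp_pres Wp W hc.symm φ₂ q hφ₂' (M g) (hst2 g) (hMpres g) x y
  let Φ : G →* ↥(Cfsg.GU k F q) × ↥(Cfsg.GU (n - k) F q) :=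
    (Ψ₁.toHomUnits.codRestrict (Cfsg.GU k F q) hΨ₁).prod
      (Ψ₂.toHomUnits.codRestrict (Cfsg.GU (n - k) F q) hΨ₂)
  refine ⟨MulEquiv.ofBijective Φ ⟨?_, ?_⟩⟩
  · intro g h hgh
    have e1 : cmp W Wp hc φ₁ (M g) = cmp W Wp hc φ₁ (M h) :=
      congrArg (fun p => (((p.1 : ↥(Cfsg.GU k F q)) : Matrix.GeneralLinearGroup (Fin k) F) :
        Matrix (Fin k) (Fin k) F)) hgh
    have e2 : cmp Wp W hc.symm φ₂ (M g) = cmp Wp W hc.symm φ₂ (M h) :=
      congrArg (fun p => (((p.2 : ↥(Cfsg.GU (n - k) F q)) :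
        Matrix.GeneralLinearGroup (Fin (n - k)) F) : Matrix (Fin (n - k)) (Fin (n - k)) F)) hgh
    apply Subtype.ext
    apply Subtype.ext
    apply Units.ext
    change M g = M h
    apply matrix_ext_mulVec
    intro x
    have hW1 : ∀ u : W, M g *ᵥ (u : Fin n → F) = M h *ᵥ (u : Fin n → F) := by
      intro u
      have := congrArg (fun M' => M' *ᵥ (φ₁ u)) e1
      beta_reduce at this
      rw [cmp_mulVec_of_mem W Wp hc φ₁ _ (hst1 g) u, cmp_mulVec_of_mem W Wp hc φ₁ _ (hst1 h) u]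
        at this
      exact congrArg Subtype.val (φ₁.injective this)
    have hW2 : ∀ u : Wp, M g *ᵥ (u : Fin n → F) = M h *ᵥ (u : Fin n → F) := by
      intro u
      have := congrArg (fun M' => M' *ᵥ (φ₂ u)) e2
      beta_reduce at this
      rw [cmp_mulVec_of_mem Wp W hc.symm φ₂ _ (hst2 g) u,
        cmp_mulVec_of_mem Wp W hc.symm φ₂ _ (hst2 h) u] at this
      exact congrArg Subtype.val (φ₂.injective this)
    rw [← hsplit x, Matrix.mulVec_add, Matrix.mulVec_add, hW1, hW2]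
  · rintro ⟨A₁, A₂⟩
    obtain ⟨B₁, hB₁⟩ : ∃ B₁ : Matrix (Fin k) (Fin k) F, B₁ =
      ((A₁ : Matrix.GeneralLinearGroup (Fin k) F) : Matrix (Fin k) (Fin k) F) := ⟨_, rfl⟩
    obtain ⟨B₂, hB₂⟩ : ∃ B₂ : Matrix (Fin (n - k)) (Fin (n - k)) F, B₂ =
      ((A₂ : Matrix.GeneralLinearGroup (Fin (n - k)) F) : Matrix (Fin (n - k)) (Fin (n - k)) F) :=
      ⟨_, rfl⟩
    have hB₁p : ∀ x y, Cfsg.hermForm k F q (B₁ *ᵥ x) (B₁ *ᵥ y) = Cfsg.hermForm k F q x y := by
      rw [hB₁]; exact A₁.2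
    have hB₂p : ∀ x y, Cfsg.hermForm (n - k) F q (B₂ *ᵥ x) (B₂ *ᵥ y) =
        Cfsg.hermForm (n - k) F q x y := by
      rw [hB₂]; exact A₂.2
    have hB₂inj : ∀ x, B₂ *ᵥ x = 0 → x = 0 := by
      intro x hx
      apply herm_nondeg hF
      intro y
      rw [← hB₂p, hx, herm_zero_left]
    let a₁ : (Fin n → F) → W := fun x => φ₁.symm (B₁ *ᵥ φ₁ (W.projectionOnto Wp hc x))
    let a₂ : (Fin n → F) → Wp := fun x => φ₂.symm (B₂ *ᵥ φ₂ (Wp.projectionOnto W hc.symm x))
    let h : (Fin n → F) →ₗ[F] (Fin n → F) :=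
      W.subtype ∘ₗ φ₁.symm.toLinearMap ∘ₗ Matrix.toLin' B₁ ∘ₗ φ₁.toLinearMap ∘ₗ
          W.projectionOnto Wp hc
      + Wp.subtype ∘ₗ φ₂.symm.toLinearMap ∘ₗ Matrix.toLin' B₂ ∘ₗ
          φ₂.toLinearMap ∘ₗ Wp.projectionOnto W hc.symm
    have hh : ∀ x, LinearMap.toMatrix' h *ᵥ x =
        (a₁ x : Fin n → F) + (a₂ x : Fin n → F) := by
      intro x
      rw [← Matrix.toLin'_apply, Matrix.toLin'_toMatrix']
      rfl
    have hform : ∀ x y, Cfsg.hermForm n F q (LinearMap.toMatrix' h *ᵥ x) (LinearMap.toMatrix' h *ᵥ y)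
        = Cfsg.hermForm n F q x y := by
      intro x y
      rw [hh, hh, herm_add_left, herm_add_right hF, herm_add_right hF]
      have c1 : Cfsg.hermForm n F q (a₁ x : Fin n → F) (a₂ y : Fin n → F) = 0 :=
        herm_swap_zero hF ((hmemWp _).mp (a₂ y).2 _ (a₁ x).2)
      have c2 : Cfsg.hermForm n F q (a₂ x : Fin n → F) (a₁ y : Fin n → F) = 0 :=
        (hmemWp _).mp (a₂ x).2 _ (a₁ y).2
      have d1 : Cfsg.hermForm n F q (a₁ x : Fin n → F) (a₁ y : Fin n → F) =
          Cfsg.hermForm n F q ((W.projectionOnto Wp hc x : W) : Fin n → F)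
            ((W.projectionOnto Wp hc y : W) : Fin n → F) := by
        rw [← hφ₁', ← hφ₁']
        simp only [a₁, LinearEquiv.apply_symm_apply]
        exact hB₁p _ _
      have d2 : Cfsg.hermForm n F q (a₂ x : Fin n → F) (a₂ y : Fin n → F) =
          Cfsg.hermForm n F q ((Wp.projectionOnto W hc.symm x : Wp) : Fin n → F)
            ((Wp.projectionOnto W hc.symm y : Wp) : Fin n → F) := by
        rw [← hφ₂', ← hφ₂']
        simp only [a₂, LinearEquiv.apply_symm_apply]
        exact hB₂p _ _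
      rw [c1, c2, d1, d2]
      conv_rhs => rw [← hsplit x, ← hsplit y]
      rw [herm_add_left, herm_add_right hF, herm_add_right hF]
      have c3 : Cfsg.hermForm n F q ((W.projectionOnto Wp hc x : W) : Fin n → F)
            ((Wp.projectionOnto W hc.symm y : Wp) : Fin n → F) = 0 :=
        herm_swap_zero hF ((hmemWp _).mp (Subtype.mem _) _ (Subtype.mem _))
      have c4 : Cfsg.hermForm n F q ((Wp.projectionOnto W hc.symm x : Wp) : Fin n → F)
            ((W.projectionOnto Wp hc y : W) : Fin n → F) = 0 :=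
        (hmemWp _).mp (Subtype.mem _) _ (Subtype.mem _)
      rw [c3, c4]
    have hunit : IsUnit (LinearMap.toMatrix' h) := by
      rw [← Matrix.mulVec_injective_iff_isUnit]
      intro x y hxy
      have h0 : LinearMap.toMatrix' h *ᵥ (x - y) = 0 := by
        rw [Matrix.mulVec_sub, hxy, sub_self]
      have : x - y = 0 := by
        apply herm_nondeg hF
        intro z
        rw [← hform, h0, herm_zero_left]
      exact sub_eq_zero.mp this
    have hstab : ∀ v, v ∈ W ↔ LinearMap.toMatrix' h *ᵥ v ∈ W := by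
      intro v
      constructor
      · intro hv
        rw [hh]
        have e0 : Wp.projectionOnto W hc.symm v = 0 :=
          (Submodule.projectionOnto_apply_eq_zero_iff hc.symm).mpr hv
        have e1 : a₂ v = 0 := by
          simp only [a₂, e0, map_zero, Matrix.mulVec_zero]
        rw [e1]
        simp
      · intro hv
        rw [hh] at hv
        have h2 : (a₂ v : Fin n → F) ∈ W := by
          have := W.sub_mem hv (a₁ v).2
          simpa using this
        have h3 : (a₂ v : Fin n → F) = 0 := by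
          have h3' : (a₂ v : Fin n → F) ∈ W ⊓ Wp := ⟨h2, (a₂ v).2⟩
          rw [hc.inf_eq_bot] at h3'
          exact h3'
        have h4 : a₂ v = 0 := Subtype.ext h3
        have h5 : B₂ *ᵥ φ₂ (Wp.projectionOnto W hc.symm v) = 0 := by
          have := congrArg φ₂ h4
          simpa [a₂] using this
        have h6 : φ₂ (Wp.projectionOnto W hc.symm v) = 0 := hB₂inj _ h5
        have h7 : Wp.projectionOnto W hc.symm v = 0 := by simpa using h6
        exact (Submodule.projectionOnto_apply_eq_zero_iff hc.symm).mp h7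
    have hval : ((hunit.unit : Matrix.GeneralLinearGroup (Fin n) F) : Matrix (Fin n) (Fin n) F) =
        LinearMap.toMatrix' h := IsUnit.unit_spec hunit
    have hGU : hunit.unit ∈ Cfsg.GU n F q := by
      intro x y
      change Cfsg.hermForm n F q
        (((hunit.unit : Matrix.GeneralLinearGroup (Fin n) F) : Matrix (Fin n) (Fin n) F) *ᵥ x)
        (((hunit.unit : Matrix.GeneralLinearGroup (Fin n) F) : Matrix (Fin n) (Fin n) F) *ᵥ y) = _
      rw [hval]
      exact hform x y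
    have hSt : (⟨hunit.unit, hGU⟩ : ↥(Cfsg.GU n F q)) ∈
        (Cfsg.stabilizing (Cfsg.glToMat (Fin n) F) (W : Set (Fin n → F))).subgroupOf
          (Cfsg.GU n F q) := by
      rw [Subgroup.mem_subgroupOf]
      intro v
      change v ∈ W ↔
        ((hunit.unit : Matrix.GeneralLinearGroup (Fin n) F) : Matrix (Fin n) (Fin n) F) *ᵥ v ∈ W
      rw [hval]
      exact hstab v
    refine ⟨⟨⟨hunit.unit, hGU⟩, hSt⟩, ?_⟩
    apply Prod.ext <;> apply Subtype.ext <;> apply Units.ext
    · change cmp W Wp hc φ₁ ((hunit.unit : Matrix.GeneralLinearGroup (Fin n) F) :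
        Matrix (Fin n) (Fin n) F) = ((A₁ : Matrix.GeneralLinearGroup (Fin k) F) :
          Matrix (Fin k) (Fin k) F)
      rw [hval, ← hB₁]
      apply matrix_ext_mulVec
      intro x
      rw [cmp_mulVec, hh]
      have p1 : W.projectionOnto Wp hc ((φ₁.symm x : W) : Fin n → F) = φ₁.symm x :=
        Submodule.projectionOnto_apply_left hc _
      have p2 : Wp.projectionOnto W hc.symm ((φ₁.symm x : W) : Fin n → F) = 0 :=
        Submodule.projectionOnto_apply_right hc.symm _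
      have q2 : a₂ ((φ₁.symm x : W) : Fin n → F) = 0 := by
        simp only [a₂, p2, map_zero, Matrix.mulVec_zero]
      rw [q2]
      simp only [ZeroMemClass.coe_zero, add_zero]
      rw [Submodule.projectionOnto_apply_left]
      simp only [a₁, p1, LinearEquiv.apply_symm_apply]
    · change cmp Wp W hc.symm φ₂ ((hunit.unit : Matrix.GeneralLinearGroup (Fin n) F) :
        Matrix (Fin n) (Fin n) F) = ((A₂ : Matrix.GeneralLinearGroup (Fin (n - k)) F) :
          Matrix (Fin (n - k)) (Fin (n - k)) F)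
      rw [hval, ← hB₂]
      apply matrix_ext_mulVec
      intro x
      rw [cmp_mulVec, hh]
      have p1 : Wp.projectionOnto W hc.symm ((φ₂.symm x : Wp) : Fin n → F) = φ₂.symm x :=
        Submodule.projectionOnto_apply_left hc.symm _
      have p2 : W.projectionOnto Wp hc ((φ₂.symm x : Wp) : Fin n → F) = 0 :=
        Submodule.projectionOnto_apply_right hc _
      have q2 : a₁ ((φ₂.symm x : Wp) : Fin n → F) = 0 := by
        simp only [a₁, p2, map_zero, Matrix.mulVec_zero]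
      rw [q2]
      simp only [ZeroMemClass.coe_zero, zero_add]
      rw [Submodule.projectionOnto_apply_left]
      simp only [a₂, p1, LinearEquiv.apply_symm_apply]

end Cfsg.Agent.S0837
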