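import Cfsg.Statements.S0838
import Mathlib
import Cfsg.Agent.S0756

set_option autoImplicit false
open Cfsg

namespace Cfsg.Agent.S0838

open LinearMap LinearMap.BilinForm Module Matrix

section
variable {F : Type*} [Field F] {n : ℕ} {V : Type*} [AddCommGroup V] [Module F V]

/-- a basis in normal form: orthogonal, norms `1,…,1,ε` -/
def IsNormal (B : LinearMap.BilinForm F V) (b : Module.Basis (Fin (n + 1)) F V) (ε : F) : Prop :=
  (∀ i j, i ≠ j → B (b i) (b j) = 0) ∧ (∀ i, i ≠ Fin.last n → B (b i) (b i) = 1) ∧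
    B (b (Fin.last n)) (b (Fin.last n)) = ε

theorem gram_eq (B : LinearMap.BilinForm F V) (b : Module.Basis (Fin (n + 1)) F V) (ε : F)
    (h : IsNormal B b ε) :
    LinearMap.BilinForm.toMatrix b B = Matrix.diagonal (fun i => if i = Fin.last n then ε else 1) := by
  ext i j
  rw [LinearMap.BilinForm.toMatrix_apply, Matrix.diagonal_apply]
  by_cases hij : i = j
  · subst hij
    rw [if_pos rfl]
    by_cases hi : i = Fin.last n
    · rw [if_pos hi, hi]; exact h.2.2
    · rw [if_neg hi]; exact h.2.1 i hi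
  · rw [if_neg hij]; exact h.1 i j hij

theorem det_gram (B : LinearMap.BilinForm F V) (b : Module.Basis (Fin (n + 1)) F V) (ε : F)
    (h : IsNormal B b ε) : (LinearMap.BilinForm.toMatrix b B).det = ε := by
  rw [gram_eq B b ε h, Matrix.det_diagonal, Finset.prod_eq_single (Fin.last n)]
  · rw [if_pos rfl]
  · intro i _ hi
    rw [if_neg hi]
  · intro h; exact absurd (Finset.mem_univ _) h

/-- isometry between forms with equal Gram matrices -/
theorem isometry_of_normal (B B' : LinearMap.BilinForm F V) (b b' : Module.Basis (Fin (n + 1)) F V) (ε : F)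
    (h : IsNormal B b ε) (h' : IsNormal B' b' ε) :
    ∀ u v, B' (b.equiv b' (Equiv.refl _) u) (b.equiv b' (Equiv.refl _) v) = B u v := by
  set g := b.equiv b' (Equiv.refl _) with hg
  have : B'.comp (g : V →ₗ[F] V) (g : V →ₗ[F] V) = B := by
    apply LinearMap.BilinForm.ext_basis b
    intro i j
    simp only [LinearMap.BilinForm.comp_apply, LinearEquiv.coe_coe, hg, Module.Basis.equiv_apply,
      Equiv.refl_apply]
    have e1 := congrFun (congrFun (gram_eq B b ε h) i) j
    have e2 := congrFun (congrFun (gram_eq B' b' ε h') i) j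
    rw [LinearMap.BilinForm.toMatrix_apply] at e1 e2
    rw [e1, e2]
  intro u v
  have h2 := congrFun (congrArg DFunLike.coe (congrFun (congrArg DFunLike.coe this) u)) v
  simpa using h2

/-- the discriminant changes by a square -/
theorem det_change (B : LinearMap.BilinForm F V) (b c : Module.Basis (Fin (n + 1)) F V) :
    ∃ s : F, s ≠ 0 ∧ (LinearMap.BilinForm.toMatrix c B).det = s * s * (LinearMap.BilinForm.toMatrix b B).det := by
  refine ⟨(b.toMatrix c).det, ?_, ?_⟩
  · haveI := Module.Basis.invertibleToMatrix b c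
    exact (Matrix.isUnit_det_of_invertible (b.toMatrix c)).ne_zero
  · rw [← LinearMap.BilinForm.toMatrix_mul_basis_toMatrix b c B, Matrix.det_mul, Matrix.det_mul,
      Matrix.det_transpose]
    ring

end

theorem result {F : Type*} [Field F] [Fintype F] (h2 : (2 : F) ≠ 0) {n : ℕ} (hn : Odd n) (Q₁ Q₂ : QuadraticForm F (Fin n → F)) (h₁ : (QuadraticMap.polarBilin Q₁).Nondegenerate) (h₂ : (QuadraticMap.polarBilin Q₂).Nondegenerate) : ∃ (g : (Fin n → F) ≃ₗ[F] (Fin n → F)) (c : F), c ≠ 0 ∧ ∀ v, Q₂ (g v) = c * Q₁ v := by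
  classical
  obtain ⟨k, hk⟩ := hn
  obtain ⟨m, rfl⟩ : ∃ m, n = m + 1 := ⟨2 * k, hk⟩
  have hm : m = 2 * k := by omega
  set B₁ : LinearMap.BilinForm F (Fin (m + 1) → F) := QuadraticMap.polarBilin Q₁ with hB₁
  set B₂ : LinearMap.BilinForm F (Fin (m + 1) → F) := QuadraticMap.polarBilin Q₂ with hB₂
  have hS₁ : LinearMap.BilinForm.IsSymm B₁ := ⟨fun x y => QuadraticMap.polar_comm _ x y⟩
  have hS₂ : LinearMap.BilinForm.IsSymm B₂ := ⟨fun x y => QuadraticMap.polar_comm _ x y⟩
  have hchar : ringChar F ≠ 2 := by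
    intro h
    haveI : CharP F 2 := ringChar.of_eq h
    exact h2 (CharTwo.two_eq_zero)
  obtain ⟨α, hα⟩ := FiniteField.exists_nonsquare hchar
  have hα0 : α ≠ 0 := by rintro rfl; exact hα (IsSquare.zero)
  have hdim : Module.finrank F (Fin (m + 1) → F) = m + 1 := by simp
  -- Q from B
  have hQ : ∀ (Q : QuadraticForm F (Fin (m + 1) → F)) (v : Fin (m + 1) → F),
      QuadraticMap.polarBilin Q v v = 2 * Q v := by
    intro Q v
    rw [QuadraticMap.polarBilin_apply_apply, QuadraticMap.polar_self, two_nsmul, two_mul]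
  have finish : ∀ (g : (Fin (m + 1) → F) ≃ₗ[F] (Fin (m + 1) → F)) (c : F), c ≠ 0 →
      (∀ u v, B₂ (g u) (g v) = c * B₁ u v) →
      ∃ (g : (Fin (m + 1) → F) ≃ₗ[F] (Fin (m + 1) → F)) (c : F), c ≠ 0 ∧ ∀ v, Q₂ (g v) = c * Q₁ v := by
    intro g c hc hg
    refine ⟨g, c, hc, fun v => ?_⟩
    have := hg v v
    rw [hB₁, hB₂, hQ, hQ] at this
    have h3 : 2 * (Q₂ (g v) - c * Q₁ v) = 0 := by linear_combination this
    rcases mul_eq_zero.mp h3 with h | h
    · exact absurd h h2
    · exact sub_eq_zero.mp h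
  obtain ⟨b₁, hb₁a, hb₁b, hb₁c⟩ := Cfsg.Agent.S0756.result h2 B₁ hS₁ h₁ hdim α hα
  obtain ⟨b₂, hb₂a, hb₂b, hb₂c⟩ := Cfsg.Agent.S0756.result h2 B₂ hS₂ h₂ hdim α hα
  -- normal forms
  obtain ⟨ε₁, hε₁, hN₁⟩ : ∃ ε₁, (ε₁ = 1 ∨ ε₁ = α) ∧ IsNormal B₁ b₁ ε₁ :=
    ⟨_, hb₁c, hb₁a, hb₁b, rfl⟩
  obtain ⟨ε₂, hε₂, hN₂⟩ : ∃ ε₂, (ε₂ = 1 ∨ ε₂ = α) ∧ IsNormal B₂ b₂ ε₂ :=
    ⟨_, hb₂c, hb₂a, hb₂b, rfl⟩
  by_cases heq : ε₁ = ε₂
  · subst heq
    apply finish (b₁.equiv b₂ (Equiv.refl _)) 1 one_ne_zero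
    intro u v
    rw [one_mul]
    exact isometry_of_normal B₁ B₂ b₁ b₂ ε₁ hN₁ hN₂ u v
  · -- scale by α
    set B₁' : LinearMap.BilinForm F (Fin (m + 1) → F) := α • B₁ with hB₁'
    have hS₁' : LinearMap.BilinForm.IsSymm B₁' := ⟨fun x y => by
      simp only [hB₁', LinearMap.smul_apply, hS₁.eq x y]⟩
    have hnd₁' : LinearMap.BilinForm.Nondegenerate B₁' := by
      constructor
      · intro x hx
        apply h₁.1 x
        intro y
        have := hx y
        simp only [hB₁', LinearMap.smul_apply, smul_eq_mul] at this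
        rcases mul_eq_zero.mp this with h | h
        · exact absurd h hα0
        · exact h
      · intro y hy
        apply h₁.2 y
        intro x
        have := hy x
        simp only [hB₁', LinearMap.smul_apply, smul_eq_mul] at this
        rcases mul_eq_zero.mp this with h | h
        · exact absurd h hα0
        · exact h
    obtain ⟨c₁, hc₁a, hc₁b, hc₁c⟩ := Cfsg.Agent.S0756.result h2 B₁' hS₁' hnd₁' hdim α hα
    obtain ⟨ε₁', hε₁', hN₁'⟩ : ∃ ε, (ε = 1 ∨ ε = α) ∧ IsNormal B₁' c₁ ε :=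
      ⟨_, hc₁c, hc₁a, hc₁b, rfl⟩
    -- discriminants
    obtain ⟨s, hs0, hs⟩ := det_change B₁' b₁ c₁
    rw [det_gram B₁' c₁ ε₁' hN₁'] at hs
    have hgram' : LinearMap.BilinForm.toMatrix b₁ B₁' = α • LinearMap.BilinForm.toMatrix b₁ B₁ := by
      ext i j
      simp [LinearMap.BilinForm.toMatrix_apply, hB₁']
    rw [hgram', Matrix.det_smul, det_gram B₁ b₁ ε₁ hN₁, Fintype.card_fin, hm] at hs
    have hs' : ε₁' = (s * α ^ k) * (s * α ^ k) * (α * ε₁) := by
      rw [hs]; ring
    have hne : ε₁' ≠ ε₁ := by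
      intro he
      rw [he] at hs'
      have hε₁0 : ε₁ ≠ 0 := by
        rcases hε₁ with h | h
        · rw [h]; exact one_ne_zero
        · rw [h]; exact hα0
      apply hα
      have hsk : s * α ^ k ≠ 0 := mul_ne_zero hs0 (pow_ne_zero _ hα0)
      refine ⟨(s * α ^ k)⁻¹, ?_⟩
      field_simp
      have : ε₁ * (1 - (s * α ^ k) * (s * α ^ k) * α) = 0 := by linear_combination hs'
      rcases mul_eq_zero.mp this with h | h
      · exact absurd h hε₁0
      · linear_combination -h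
    have heq' : ε₁' = ε₂ := by
      rcases hε₁ with h1 | h1 <;> rcases hε₂ with h2' | h2' <;> rcases hε₁' with h3 | h3
      all_goals first
        | (exfalso; apply heq; rw [h1, h2']; done)
        | (exfalso; apply hne; rw [h1, h3]; done)
        | (rw [h3, h2']; done)
    rw [heq'] at hN₁'
    apply finish (c₁.equiv b₂ (Equiv.refl _)) α hα0
    intro u v
    have := isometry_of_normal B₁' B₂ c₁ b₂ ε₂ hN₁' hN₂ u v
    rw [this, hB₁']
    simp

end Cfsg.Agent.S0838
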