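import Cfsg.Statements.S0839
import Mathlib

set_option autoImplicit false
open Cfsg

namespace Cfsg.Agent.S0839

open Matrix

section
variable {ι : Type} [Fintype ι] [DecidableEq ι] {F : Type*} [Field F]

/-- a rank-one matrix is an outer product -/
theorem exists_vecMulVec_of_rank_eq_one (N : Matrix ι ι F) (h : N.rank = 1) :
    ∃ u w : ι → F, N = vecMulVec u w := by
  unfold Matrix.rank at h
  obtain ⟨⟨u, hu⟩, -, hspan⟩ := finrank_eq_one_iff'.mp h
  have : ∀ j : ι, ∃ c : F, c • u = N *ᵥ (Pi.single j 1) := by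
    intro j
    have hmem : N *ᵥ (Pi.single j 1) ∈ LinearMap.range N.mulVecLin := ⟨Pi.single j 1, rfl⟩
    obtain ⟨c, hc⟩ := hspan ⟨_, hmem⟩
    exact ⟨c, congrArg Subtype.val hc⟩
  choose c hc using this
  refine ⟨u, c, ?_⟩
  ext i j
  have := congrFun (hc j) i
  simp only [Pi.smul_apply, smul_eq_mul, mulVec_single_one, col_apply] at this
  rw [vecMulVec_apply, ← this, mul_comm]

/-- an `SL` matrix moving a nonzero row vector to a multiple of the first basis vector -/
theorem exists_sl_vecMul {n : ℕ} (c : Fin (n + 2) → F) (hc : c ≠ 0) :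
    ∃ (g : Matrix.SpecialLinearGroup (Fin (n + 2)) F) (d : F), d ≠ 0 ∧
      c ᵥ* (g : Matrix (Fin (n + 2)) (Fin (n + 2)) F) = d • Pi.single 0 1 := by
  -- first arrange c 0 ≠ 0
  have step1 : ∃ (g1 : Matrix.SpecialLinearGroup (Fin (n + 2)) F),
      (c ᵥ* (g1 : Matrix (Fin (n + 2)) (Fin (n + 2)) F)) 0 ≠ 0 := by
    by_cases h0 : c 0 = 0
    · obtain ⟨k, hk⟩ : ∃ k, c k ≠ 0 := by
        by_contra hcon
        push Not at hcon
        exact hc (funext hcon)
      have hk0 : k ≠ 0 := by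
        rintro rfl
        exact hk h0
      refine ⟨⟨Matrix.transvection k 0 1, Matrix.det_transvection_of_ne k 0 hk0 1⟩, ?_⟩
      change (c ᵥ* Matrix.transvection k 0 1) 0 ≠ 0
      rw [Matrix.transvection, vecMul_add, vecMul_one, Pi.add_apply, h0, zero_add]
      simp only [vecMul, dotProduct, single_apply, and_true]
      rw [Finset.sum_eq_single k]
      · simpa using hk
      · intro b _ hb
        simp [hb.symm]
      · intro h; exact absurd (Finset.mem_univ k) h
    · exact ⟨1, by simpa using h0⟩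
  obtain ⟨g1, hg1⟩ := step1
  set c' := c ᵥ* (g1 : Matrix (Fin (n + 2)) (Fin (n + 2)) F) with hc'
  set r : Fin (n + 2) → F := fun j => if j = 0 then 0 else -(c' j / c' 0) with hr
  set M2 : Matrix (Fin (n + 2)) (Fin (n + 2)) F := 1 + vecMulVec (Pi.single 0 1) r with hM2
  have hdet : M2.det = 1 := by
    have : vecMulVec (Pi.single (0 : Fin (n + 2)) (1 : F)) r =
        replicateCol Unit (Pi.single 0 1 : Fin (n + 2) → F) * replicateRow Unit r := by
      rw [← Matrix.vecMulVec_eq Unit]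
    rw [hM2, this, det_one_add_replicateCol_mul_replicateRow]
    simp [hr]
  set g2 : Matrix.SpecialLinearGroup (Fin (n + 2)) F := ⟨M2, hdet⟩ with hg2
  refine ⟨g1 * g2, c' 0, hg1, ?_⟩
  rw [Matrix.SpecialLinearGroup.coe_mul, ← vecMul_vecMul, ← hc']
  change c' ᵥ* M2 = _
  rw [hM2, vecMul_add, vecMul_one, vecMul_vecMulVec]
  ext j
  by_cases hj : j = 0
  · subst hj
    simp [hr]
  · simp only [Pi.add_apply, Pi.smul_apply, smul_eq_mul, hr, if_neg hj, Pi.single_apply]
    simp only [dotProduct, Pi.single_apply, mul_ite, mul_one, mul_zero, Finset.sum_ite_eq', Finset.mem_univ, if_true]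
    field_simp
    ring

end

theorem result {F : Type*} [Field F] (n : ℕ) (t : Matrix.SpecialLinearGroup (Fin (n + 2)) F) (ht : Cfsg.IsTransvection (t : Matrix (Fin (n + 2)) (Fin (n + 2)) F)) : ∃ (g : Matrix.SpecialLinearGroup (Fin (n + 2)) F) (v : Fin (n + 2) → F), v 0 = 0 ∧ ((g⁻¹ * t * g : Matrix.SpecialLinearGroup (Fin (n + 2)) F) : Matrix (Fin (n + 2)) (Fin (n + 2)) F) = 1 + Matrix.vecMulVec v (Pi.single 0 1) := by
  obtain ⟨hrank, hsq⟩ := ht
  obtain ⟨u, c, hN⟩ := exists_vecMulVec_of_rank_eq_one _ hrank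
  have hN0 : vecMulVec u c ≠ 0 := by
    intro h0
    rw [hN, h0, Matrix.rank_zero] at hrank
    exact zero_ne_one hrank
  have hcu : c ⬝ᵥ u = 0 := by
    rw [hN, vecMulVec_mul_vecMulVec, vecMulVec_smul] at hsq
    by_contra hne
    apply hN0
    have := congrArg (fun M => (c ⬝ᵥ u)⁻¹ • M) hsq
    simpa [smul_smul, inv_mul_cancel₀ hne] using this
  have hc0 : c ≠ 0 := by
    rintro rfl
    exact hN0 (vecMulVec_zero u)
  obtain ⟨g, d, hd, hg⟩ := exists_sl_vecMul c hc0
  set Gi : Matrix (Fin (n + 2)) (Fin (n + 2)) F :=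
    ((g⁻¹ : Matrix.SpecialLinearGroup (Fin (n + 2)) F) : Matrix (Fin (n + 2)) (Fin (n + 2)) F) with hGi
  set G : Matrix (Fin (n + 2)) (Fin (n + 2)) F := (g : Matrix (Fin (n + 2)) (Fin (n + 2)) F) with hG
  have hGiG : Gi * G = 1 := by
    rw [hG, hGi, ← Matrix.SpecialLinearGroup.coe_mul, inv_mul_cancel, Matrix.SpecialLinearGroup.coe_one]
  have hGGi : G * Gi = 1 := by
    rw [hG, hGi, ← Matrix.SpecialLinearGroup.coe_mul, mul_inv_cancel, Matrix.SpecialLinearGroup.coe_one]
  have ht' : (t : Matrix (Fin (n + 2)) (Fin (n + 2)) F) = 1 + vecMulVec u c := by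
    rw [← hN]; abel
  refine ⟨g, d • (Gi *ᵥ u), ?_, ?_⟩
  · -- zero-th coordinate vanishes
    have h1 : c ⬝ᵥ u = (c ᵥ* G) ⬝ᵥ (Gi *ᵥ u) := by
      rw [← dotProduct_mulVec, mulVec_mulVec, hGGi, one_mulVec]
    rw [hg, hcu] at h1
    simp only [smul_dotProduct, single_dotProduct, one_mul, smul_eq_mul] at h1
    simp only [Pi.smul_apply, smul_eq_mul]
    rw [← h1]
  · rw [Matrix.SpecialLinearGroup.coe_mul, Matrix.SpecialLinearGroup.coe_mul, ← hGi, ← hG, ht', mul_add,
      add_mul, mul_one, hGiG, mul_vecMulVec, vecMulVec_mul, hg, smul_vecMulVec, vecMulVec_smul]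

end Cfsg.Agent.S0839
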