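import Cfsg.Statements.S0840
import Mathlib
import Cfsg.Agent.Lib.Helper2.Column
import Cfsg.Agent.Lib.Helper2.Regular
import Cfsg.Agent.Lib.Helper25.GenOrtho

set_option autoImplicit false
open Cfsg

namespace Cfsg.Agent.S0840

open scoped ComplexConjugate
open Cfsg.Agent.Lib.Helper2

section
variable {G : Type*} [Group G] [Fintype G]

theorem indicator_eq [Fintype (Cfsg.IrrCharacter G)] (g u : G) [Decidable (IsConj g u)] :
    (if IsConj g u then (1 : ℂ) else 0) =
      (Nat.card (Subgroup.centralizer ({g} : Set G)) : ℂ)⁻¹ *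
        ∑ χ : Cfsg.IrrCharacter G, (χ : G → ℂ) g * conj ((χ : G → ℂ) u) := by
  have hne : (Nat.card (Subgroup.centralizer ({g} : Set G)) : ℂ) ≠ 0 := by
    exact_mod_cast (Nat.card_pos (α := Subgroup.centralizer ({g} : Set G))).ne'
  rw [column_orthogonality g u]
  split_ifs
  · rw [inv_mul_cancel₀ hne]
  · rw [mul_zero]

theorem conv_eq (χ ψ : Cfsg.IrrCharacter G) (c : G) :
    ∑ x : G, (ψ : G → ℂ) x * (χ : G → ℂ) (x⁻¹ * c) =
      if χ = ψ then (Nat.card G : ℂ) * (χ : G → ℂ) c / (χ : G → ℂ) 1 else 0 := by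
  have h := Cfsg.Agent.Lib.Helper25.sum_char_mul_char_inv χ.2 ψ.2 c
  have hcf := IrrCharacter.isClassFunction χ
  have : ∑ x : G, (ψ : G → ℂ) x * (χ : G → ℂ) (x⁻¹ * c) =
      ∑ h : G, (χ : G → ℂ) (c * h) * (ψ : G → ℂ) h⁻¹ := by
    apply Fintype.sum_equiv (Equiv.inv G)
    intro x
    simp only [Equiv.inv_apply, inv_inv]
    rw [mul_comm]
    congr 1
    have := hcf (c * x⁻¹) x⁻¹
    rw [← this]
    congr 1
    group
  rw [this, h]
  by_cases hχψ : χ = ψ
  · subst hχψ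
    simp
  · have : (χ : G → ℂ) ≠ (ψ : G → ℂ) := fun h => hχψ (Subtype.ext h)
    rw [if_neg hχψ, if_neg this]

end

theorem result {G : Type*} [Group G] [Finite G] (a b c : G) : (Nat.card {p : G × G // IsConj a p.1 ∧ IsConj b p.2 ∧ p.1 * p.2 = c} : ℂ) = (Nat.card {x : G // IsConj a x} : ℂ) * (Nat.card {x : G // IsConj b x} : ℂ) / (Nat.card G : ℂ) * ∑ᶠ χ : Cfsg.IrrCharacter G, (χ : G → ℂ) a * (χ : G → ℂ) b * conj ((χ : G → ℂ) c) / (χ : G → ℂ) 1 := by
  classical
  haveI : Fintype G := Fintype.ofFinite G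
  haveI : Fintype (Cfsg.IrrCharacter G) := Fintype.ofFinite _
  rw [finsum_eq_sum_of_fintype]
  -- Step 1
  have hN : (Nat.card {p : G × G // IsConj a p.1 ∧ IsConj b p.2 ∧ p.1 * p.2 = c} : ℂ)
      = ∑ x : G, (if IsConj a x then (1:ℂ) else 0) * (if IsConj b (x⁻¹ * c) then 1 else 0) := by
    have e : {p : G × G // IsConj a p.1 ∧ IsConj b p.2 ∧ p.1 * p.2 = c} ≃
        {x : G // IsConj a x ∧ IsConj b (x⁻¹ * c)} :=
      { toFun := fun p => ⟨p.1.1, p.2.1, by
          have h3 := p.2.2.2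
          have : p.1.1⁻¹ * c = p.1.2 := by
            rw [inv_mul_eq_iff_eq_mul]; exact h3.symm
          rw [this]; exact p.2.2.1⟩
        invFun := fun x => ⟨(x.1, x.1⁻¹ * c), x.2.1, x.2.2, by group⟩
        left_inv := by
          rintro ⟨⟨x, y⟩, h1, h2, h3⟩
          apply Subtype.ext
          simp only [Prod.mk.injEq, true_and]
          rw [inv_mul_eq_iff_eq_mul]; exact h3.symm
        right_inv := by
          rintro ⟨x, h1, h2⟩
          rfl }
    rw [Nat.card_congr e, Nat.card_eq_fintype_card, Fintype.card_subtype]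
    simp only [← ite_and, mul_ite, mul_one, mul_zero]
    rw [Finset.sum_boole]
    congr 2
    ext x
    simp [and_comm]
  rw [hN]
  set cA : ℂ := (Nat.card (Subgroup.centralizer ({a} : Set G)) : ℂ) with hcA
  set cB : ℂ := (Nat.card (Subgroup.centralizer ({b} : Set G)) : ℂ) with hcB
  have hcA0 : cA ≠ 0 := by
    rw [hcA]; exact_mod_cast (Nat.card_pos (α := Subgroup.centralizer ({a} : Set G))).ne'
  have hcB0 : cB ≠ 0 := by
    rw [hcB]; exact_mod_cast (Nat.card_pos (α := Subgroup.centralizer ({b} : Set G))).ne'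
  have hG0 : (Nat.card G : ℂ) ≠ 0 := by
    exact_mod_cast (Nat.card_pos (α := G)).ne'
  have hkA : cA * (Nat.card {x : G // IsConj a x} : ℂ) = (Nat.card G : ℂ) := by
    rw [hcA]; exact_mod_cast card_centralizer_mul_card_conj a
  have hkB : cB * (Nat.card {x : G // IsConj b x} : ℂ) = (Nat.card G : ℂ) := by
    rw [hcB]; exact_mod_cast card_centralizer_mul_card_conj b
  have hkA' : (Nat.card {x : G // IsConj a x} : ℂ) = (Nat.card G : ℂ) / cA := by
    rw [← hkA]; field_simp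
  have hkB' : (Nat.card {x : G // IsConj b x} : ℂ) = (Nat.card G : ℂ) / cB := by
    rw [← hkB]; field_simp
  rw [hkA', hkB']
  -- expand indicators
  have step : ∀ x : G, (if IsConj a x then (1:ℂ) else 0) * (if IsConj b (x⁻¹ * c) then 1 else 0) =
      cA⁻¹ * cB⁻¹ * ∑ ψ : Cfsg.IrrCharacter G, ∑ χ : Cfsg.IrrCharacter G,
        (ψ : G → ℂ) a * (χ : G → ℂ) b * conj ((ψ : G → ℂ) x * (χ : G → ℂ) (x⁻¹ * c)) := by
    intro x
    rw [indicator_eq a x, indicator_eq b (x⁻¹ * c), ← hcA, ← hcB]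
    rw [mul_mul_mul_comm, Finset.sum_mul_sum]
    congr 1
    apply Finset.sum_congr rfl
    intro ψ _
    apply Finset.sum_congr rfl
    intro χ _
    rw [map_mul]
    ring
  simp only [step]
  rw [← Finset.mul_sum, Finset.sum_comm]
  have step2 : ∀ ψ : Cfsg.IrrCharacter G, ∑ x : G, ∑ χ : Cfsg.IrrCharacter G,
        (ψ : G → ℂ) a * (χ : G → ℂ) b * conj ((ψ : G → ℂ) x * (χ : G → ℂ) (x⁻¹ * c)) =
      (ψ : G → ℂ) a * (ψ : G → ℂ) b * conj ((Nat.card G : ℂ) * (ψ : G → ℂ) c / (ψ : G → ℂ) 1) := by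
    intro ψ
    rw [Finset.sum_comm]
    have : ∀ χ : Cfsg.IrrCharacter G, ∑ x : G,
        (ψ : G → ℂ) a * (χ : G → ℂ) b * conj ((ψ : G → ℂ) x * (χ : G → ℂ) (x⁻¹ * c)) =
        (ψ : G → ℂ) a * (χ : G → ℂ) b *
          conj (if χ = ψ then (Nat.card G : ℂ) * (χ : G → ℂ) c / (χ : G → ℂ) 1 else 0) := by
      intro χ
      rw [← Finset.mul_sum, ← map_sum, conv_eq]
    simp only [this]
    rw [Finset.sum_eq_single ψ]
    · simp
    · intro χ _ hne
      rw [if_neg hne]; simp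
    · intro h; exact absurd (Finset.mem_univ ψ) h
  simp only [step2]
  rw [Finset.mul_sum, Finset.mul_sum]
  apply Finset.sum_congr rfl
  intro ψ _
  have h1 : conj ((ψ : G → ℂ) 1) = (ψ : G → ℂ) 1 :=
    IsCharacter.conj_apply_one (IsIrrCharacter.isCharacter ψ.2)
  rw [map_div₀, map_mul, h1, Complex.conj_natCast]
  field_simp

end Cfsg.Agent.S0840
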