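import Mathlib
import Cfsg.Statements.S0849
import Cfsg.Agent.Lib.Helper7.Induced

set_option autoImplicit false
open Cfsg

namespace Cfsg.Agent.S0849

open Cfsg.Agent.Lib.Helper7

theorem sq_eq_one_of_isConj {G : Type*} [Group G] {u a : G} (hu : orderOf u = 2) (h : IsConj u a) :
    a * a = 1 := by
  obtain ⟨c, rfl⟩ := isConj_iff.mp h
  have : u * u = 1 := by
    have := pow_orderOf_eq_one u
    rwa [hu, pow_two] at this
  calc c * u * c⁻¹ * (c * u * c⁻¹) = c * (u * u) * c⁻¹ := by group
    _ = 1 := by rw [this]; group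

/-- Let H be a subgroup of a finite group G and S a subset of H that is mapped to itself under conjugation by H, is disjoint from its conjugate by any element outside H, and is closed under inverses. Let φ be a class function of H vanishing on H away from S, and let u, v be involutions of G. Then the sum of the induced function of φ over all products a * b with a conjugate to u and b conjugate to v equals the index of H times the sum of φ (a * b) over such pairs with a and b in H. -/
theorem result {G : Type*} [Group G] [Fintype G] (H : Subgroup G) (S : Set G) (hSH : S ⊆ H) (hHS : ∀ h ∈ H, ∀ s ∈ S, h * s * h⁻¹ ∈ S) (hTI : ∀ g : G, g ∉ H → ∀ s ∈ S, g * s * g⁻¹ ∉ S) (hinv : ∀ s ∈ S, s⁻¹ ∈ S) (φ : H → ℂ) (hφ : Cfsg.IsClassFunction H φ) (hφS : ∀ x : H, (x : G) ∉ S → φ x = 0) (u v : G) (hu : orderOf u = 2) (hv : orderOf v = 2) : ∑ᶠ p ∈ {p : G × G | IsConj u p.1 ∧ IsConj v p.2}, Cfsg.indFun H φ (p.1 * p.2) = (H.index : ℂ) * ∑ᶠ p ∈ {p : H × H | IsConj u (p.1 : G) ∧ IsConj v (p.2 : G)}, φ (p.1 * p.2) := by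
  classical
  have : Fintype H := Fintype.ofFinite H
  set A : Set (G × G) := {p : G × G | IsConj u p.1 ∧ IsConj v p.2} with hA
  set AH : Set (H × H) := {p : H × H | IsConj u (p.1 : G) ∧ IsConj v (p.2 : G)} with hAH
  set φ0 := extendByZero H φ with hφ0
  -- Step 1: conjugation invariance of the sum
  have step1 : ∀ x : G, ∑ p : G × G, A.indicator (fun p => φ0 (x⁻¹ * (p.1 * p.2) * x)) p =
      ∑ p : G × G, A.indicator (fun p => φ0 (p.1 * p.2)) p := by
    intro x
    let e : G × G ≃ G × G :=
      { toFun := fun p => (x⁻¹ * p.1 * x, x⁻¹ * p.2 * x)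
        invFun := fun p => (x * p.1 * x⁻¹, x * p.2 * x⁻¹)
        left_inv := fun p => by ext <;> simp [mul_assoc]
        right_inv := fun p => by ext <;> simp [mul_assoc] }
    apply Fintype.sum_equiv e
    intro p
    have hmem : p ∈ A ↔ e p ∈ A := by
      simp only [hA, Set.mem_setOf_eq, e, Equiv.coe_fn_mk]
      have h1 : ∀ w a : G, IsConj w a ↔ IsConj w (x⁻¹ * a * x) := by
        intro w a
        have : IsConj a (x⁻¹ * a * x) := isConj_iff.mpr ⟨x⁻¹, by simp⟩
        exact ⟨fun h => h.trans this, fun h => h.trans this.symm⟩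
      rw [← h1, ← h1]
    by_cases hp : p ∈ A
    · rw [Set.indicator_of_mem hp, Set.indicator_of_mem (hmem.mp hp)]
      simp only [e, Equiv.coe_fn_mk]
      congr 1
      group
    · rw [Set.indicator_of_notMem hp, Set.indicator_of_notMem (fun h => hp (hmem.mpr h))]
  -- Step 3: the sum over pairs in G equals the sum over pairs in H
  have step3 : ∑ p : G × G, A.indicator (fun p => φ0 (p.1 * p.2)) p =
      ∑ p : H × H, AH.indicator (fun p => φ (p.1 * p.2)) p := by
    let ι : H × H → G × G := fun p => ((p.1 : G), (p.2 : G))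
    have hι : Function.Injective ι := by
      intro p q hpq
      simp only [ι, Prod.mk.injEq] at hpq
      exact Prod.ext (Subtype.ext hpq.1) (Subtype.ext hpq.2)
    have hzero : ∀ p : G × G, p ∉ Set.range ι → A.indicator (fun p => φ0 (p.1 * p.2)) p = 0 := by
      intro p hp
      by_contra hne
      have hpA : p ∈ A := by
        by_contra hpA
        exact hne (Set.indicator_of_notMem hpA _)
      rw [Set.indicator_of_mem hpA] at hne
      obtain ⟨hab, hφne⟩ := extendByZero_ne_zero H φ hne
      have habS : p.1 * p.2 ∈ S := by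
        by_contra h
        exact hφne (hφS ⟨p.1 * p.2, hab⟩ h)
      have ha2 : p.1 * p.1 = 1 := sq_eq_one_of_isConj hu hpA.1
      have hb2 : p.2 * p.2 = 1 := sq_eq_one_of_isConj hv hpA.2
      have hainv : p.1⁻¹ = p.1 := inv_eq_of_mul_eq_one_left ha2
      have hbinv : p.2⁻¹ = p.2 := inv_eq_of_mul_eq_one_left hb2
      have hconj : p.1 * (p.1 * p.2) * p.1⁻¹ = (p.1 * p.2)⁻¹ := by
        rw [mul_inv_rev, hainv, hbinv, ← mul_assoc, ha2, one_mul]
      have haH : p.1 ∈ H := by
        by_contra h
        apply hTI p.1 h (p.1 * p.2) habS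
        rw [hconj]
        exact hinv _ habS
      have hbH : p.2 ∈ H := by
        have : p.2 = p.1⁻¹ * (p.1 * p.2) := by group
        rw [this]
        exact H.mul_mem (H.inv_mem haH) hab
      exact hp ⟨(⟨p.1, haH⟩, ⟨p.2, hbH⟩), rfl⟩
    rw [← Finset.sum_subset (Finset.subset_univ (Finset.univ.map ⟨ι, hι⟩))]
    · rw [Finset.sum_map]
      apply Finset.sum_congr rfl
      intro p _
      simp only [Function.Embedding.coeFn_mk]
      by_cases hp : p ∈ AH
      · have hp' : ι p ∈ A := hp
        rw [Set.indicator_of_mem hp, Set.indicator_of_mem hp']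
        simp only [ι, hφ0]
        exact extendByZero_apply_coe H φ (p.1 * p.2)
      · have hp' : ι p ∉ A := hp
        rw [Set.indicator_of_notMem hp, Set.indicator_of_notMem hp']
    · intro p _ hp
      apply hzero
      rintro ⟨q, rfl⟩
      exact hp (Finset.mem_map.mpr ⟨q, Finset.mem_univ _, rfl⟩)
  -- assemble
  rw [finsum_mem_def, finsum_mem_def, finsum_eq_sum_of_fintype, finsum_eq_sum_of_fintype, ← step3]
  have hind : ∀ p : G × G, A.indicator (fun p => indFun H φ (p.1 * p.2)) p =
      (Nat.card H : ℂ)⁻¹ * ∑ x : G, A.indicator (fun p => φ0 (x⁻¹ * (p.1 * p.2) * x)) p := by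
    intro p
    by_cases hp : p ∈ A
    · rw [Set.indicator_of_mem hp, indFun_apply]
      congr 1
      apply Finset.sum_congr rfl
      intro x _
      rw [Set.indicator_of_mem hp]
    · rw [Set.indicator_of_notMem hp]
      simp [Set.indicator_of_notMem hp]
  simp_rw [hind]
  rw [← Finset.mul_sum, Finset.sum_comm]
  simp_rw [step1]
  rw [Finset.sum_const, Finset.card_univ, nsmul_eq_mul, ← mul_assoc]
  congr 1
  have h1 : (H.index : ℂ) * (Nat.card H : ℂ) = (Fintype.card G : ℂ) := by
    rw [← Nat.cast_mul, Subgroup.index_mul_card, Nat.card_eq_fintype_card]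
  have h2 : (Nat.card H : ℂ) ≠ 0 := by
    have : 0 < Nat.card H := Nat.card_pos
    exact_mod_cast this.ne'
  rw [← h1]
  field_simp

end Cfsg.Agent.S0849
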