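import Mathlib
import Cfsg.Statements.S0850
import Cfsg.Agent.Lib.Helper7.Induced
import Cfsg.Agent.Lib.Helper7.Orbits

set_option autoImplicit false
open Cfsg

namespace Cfsg.Agent.S0850

open Cfsg.Agent.Lib.Helper7

/-- conjugation action of the normalizer on the subgroup -/
@[reducible] def conjMulAction {G : Type*} [Group G] (K : Subgroup G) :
    MulAction ↥(Subgroup.normalizer (K : Set G)) ↥K where
  smul g k := ⟨g * k * g⁻¹, (Subgroup.mem_normalizer_iff.mp g.2 k).mp k.2⟩
  one_smul k := by
    apply Subtype.ext
    show ((1 : ↥(Subgroup.normalizer (K : Set G))) : G) * k * ((1 : ↥(Subgroup.normalizer (K : Set G))) : G)⁻¹ = k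
    simp
  mul_smul g h k := by
    apply Subtype.ext
    show ((g * h : ↥(Subgroup.normalizer (K : Set G))) : G) * k * ((g * h : ↥(Subgroup.normalizer (K : Set G))) : G)⁻¹ = (g : G) * ((h : G) * k * (h : G)⁻¹) * (g : G)⁻¹
    simp [mul_assoc]

theorem coprime_index_card {G : Type*} [Group G] [Finite G] (K : Subgroup G)
    (hC : ∀ k ∈ K, k ≠ 1 → Subgroup.centralizer ({k} : Set G) ≤ K) :
    Nat.Coprime (K.subgroupOf (Subgroup.normalizer (K : Set G))).index (Nat.card K) := by
  let _ := conjMulAction K
  have hsmul : ∀ (g : ↥(Subgroup.normalizer (K : Set G))) (k : ↥K), ((g • k : ↥K) : G) = g * k * (g : G)⁻¹ := fun _ _ => rfl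
  have key : Nat.card K ≡ 1 [MOD (K.subgroupOf (Subgroup.normalizer (K : Set G))).index] := by
    apply card_modEq_one_of_orbits (P := ↥(Subgroup.normalizer (K : Set G))) _ (1 : ↥K)
    · intro g
      apply Subtype.ext
      rw [hsmul]
      simp
    · intro k hk
      have hle : MulAction.stabilizer ↥(Subgroup.normalizer (K : Set G)) k ≤ K.subgroupOf (Subgroup.normalizer (K : Set G)) := by
        intro g hg
        rw [MulAction.mem_stabilizer_iff] at hg
        rw [Subgroup.mem_subgroupOf]
        apply hC k k.2 (fun h => hk (Subtype.ext h))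
        rw [Subgroup.mem_centralizer_iff]
        intro y hy
        rw [Set.mem_singleton_iff] at hy
        subst hy
        have := congrArg Subtype.val hg
        rw [hsmul] at this
        calc (k : G) * g = (g * k * (g : G)⁻¹) * g := by rw [this]
          _ = g * k := by group
      have := Subgroup.index_dvd_of_le hle
      rwa [MulAction.index_stabilizer, ← Nat.card_coe_set_eq] at this
  set e := (K.subgroupOf (Subgroup.normalizer (K : Set G))).index with he
  have hKpos : 0 < Nat.card K := Nat.card_pos
  have h1 : e ∣ Nat.card K - 1 := (Nat.modEq_iff_dvd' hKpos).mp key.symm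
  rw [Nat.coprime_iff_gcd_eq_one]
  have h2 : Nat.gcd e (Nat.card K) ∣ Nat.card K - 1 := (Nat.gcd_dvd_left _ _).trans h1
  have h3 : Nat.gcd e (Nat.card K) ∣ Nat.card K := Nat.gcd_dvd_right _ _
  have h4 : Nat.gcd e (Nat.card K) ∣ 1 := by
    have := (Nat.dvd_sub h3 h2)
    rwa [Nat.sub_sub_self hKpos] at this
  exact Nat.dvd_one.mp h4

theorem part1 {G : Type*} [Group G] [Finite G] (K : Subgroup G)
    (hC : ∀ k ∈ K, k ≠ 1 → Subgroup.centralizer ({k} : Set G) ≤ K) :
    ∀ x ∈ Subgroup.normalizer (K : Set G), x ∉ K → ∀ g : G, g * x * g⁻¹ ∉ K := by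
  intro x hxN hxK g hy
  apply hxK
  set e := (K.subgroupOf (Subgroup.normalizer (K : Set G))).index with he
  have hcop := coprime_index_card K hC
  have horder : orderOf x ∣ Nat.card K := by
    have h1 : orderOf (g * x * g⁻¹) = orderOf x := by
      have := orderOf_injective (MulAut.conj g).toMonoidHom (MulAut.conj g).injective x
      simpa using this
    rw [← h1]
    exact Subgroup.orderOf_dvd_natCard K hy
  have hcop' : Nat.Coprime e (orderOf x) := Nat.Coprime.coprime_dvd_right horder hcop
  obtain ⟨m, hm⟩ := exists_pow_eq_self_of_coprime hcop'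
  have hnorm : (K.subgroupOf (Subgroup.normalizer (K : Set G))).Normal := Subgroup.normal_in_normalizer
  have hmem := Subgroup.pow_index_mem (K.subgroupOf (Subgroup.normalizer (K : Set G))) ⟨x, hxN⟩
  rw [Subgroup.mem_subgroupOf] at hmem
  have hmem' : x ^ e ∈ K := by simpa using hmem
  rw [← hm]
  exact K.pow_mem hmem' m

/-- Let K be a subgroup of the finite group G that meets each conjugate by an element outside its normalizer N trivially, is properly contained in N, and contains the centralizer of each of its non-identity elements (a T.I. subgroup with Frobenius normalizer). Then no element of N outside K is conjugate in G to an element of K, and for every class function ϑ of N that vanishes on N away from K and at the identity, the function induced from ϑ to G agrees with ϑ on all of N. -/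
theorem result {G : Type*} [Group G] [Fintype G] (K : Subgroup G) (hTI : ∀ g : G, g ∉ Subgroup.normalizer (K : Set G) → ∀ k ∈ K, g * k * g⁻¹ ∈ K → k = 1) (hlt : K < Subgroup.normalizer (K : Set G)) (hC : ∀ k ∈ K, k ≠ 1 → Subgroup.centralizer ({k} : Set G) ≤ K) : (∀ x ∈ Subgroup.normalizer (K : Set G), x ∉ K → ∀ g : G, g * x * g⁻¹ ∉ K) ∧ ∀ (ϑ : Subgroup.normalizer (K : Set G) → ℂ), Cfsg.IsClassFunction (Subgroup.normalizer (K : Set G)) ϑ → (∀ x : Subgroup.normalizer (K : Set G), (x : G) ∉ K → ϑ x = 0) → ϑ 1 = 0 → ∀ x : Subgroup.normalizer (K : Set G), Cfsg.indFun (Subgroup.normalizer (K : Set G)) ϑ x = ϑ x := by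
  classical
  have hpart1 := part1 K hC
  refine ⟨hpart1, ?_⟩
  set N := Subgroup.normalizer (K : Set G) with hN
  intro ϑ hcf hvan h1 x
  rw [indFun_apply]
  have hNpos : (Nat.card N : ℂ) ≠ 0 := by
    have : 0 < Nat.card N := Nat.card_pos
    exact_mod_cast this.ne'
  by_cases hxK : (x : G) ∈ K
  · by_cases hx1 : x = 1
    · subst hx1
      simp only [Subgroup.coe_one, mul_one, inv_mul_cancel]
      have : extendByZero N ϑ 1 = 0 := by
        have := extendByZero_apply_coe N ϑ 1
        rw [h1] at this
        simpa using this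
      simp [this, h1]
    · -- x ∈ K \ 1
      have hterm : ∀ g : G, extendByZero N ϑ (g⁻¹ * x * g) = if g ∈ N then ϑ x else 0 := by
        intro g
        by_cases hg : g ∈ N
        · rw [if_pos hg]
          have hmem : g⁻¹ * x * g ∈ N := N.mul_mem (N.mul_mem (N.inv_mem hg) x.2) hg
          rw [extendByZero_apply_mem N ϑ hmem]
          have := hcf x ⟨g⁻¹, N.inv_mem hg⟩
          rw [← this]
          congr 1
          apply Subtype.ext
          simp
        · rw [if_neg hg]
          by_contra hne
          obtain ⟨hmem, hne'⟩ := extendByZero_ne_zero N ϑ hne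
          have hinK : g⁻¹ * x * g ∈ K := by
            by_contra h
            exact hne' (hvan ⟨_, hmem⟩ h)
          have hginv : g⁻¹ ∉ N := fun h => hg (by simpa using N.inv_mem h)
          have := hTI g⁻¹ hginv x hxK (by simpa using hinK)
          exact hx1 (Subtype.ext this)
      simp_rw [hterm]
      rw [Finset.sum_ite, Finset.sum_const_zero, add_zero, Finset.sum_const, nsmul_eq_mul]
      have hcard : (Finset.filter (fun g => g ∈ N) Finset.univ).card = Nat.card N := by
        rw [Nat.card_eq_fintype_card, Fintype.card_subtype]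
      rw [hcard, ← mul_assoc, inv_mul_cancel₀ hNpos, one_mul]
  · -- x ∈ N \ K
    rw [hvan x hxK]
    have hterm : ∀ g : G, extendByZero N ϑ (g⁻¹ * x * g) = 0 := by
      intro g
      by_contra hne
      obtain ⟨hmem, hne'⟩ := extendByZero_ne_zero N ϑ hne
      have hinK : g⁻¹ * x * g ∈ K := by
        by_contra h
        exact hne' (hvan ⟨_, hmem⟩ h)
      have := hpart1 x x.2 hxK g⁻¹
      apply this
      simpa using hinK
    simp [hterm]

end Cfsg.Agent.S0850
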