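import Cfsg.Statements.S0852
import Cfsg.Agent.Lib.Helper11.FrobGen2

set_option autoImplicit false
open Cfsg

namespace Cfsg.Agent.S0852

/-- Let K be a subgroup of the finite group G that meets each conjugate by an element outside its normalizer N trivially, is properly contained in N, and contains the centralizer of each of its non-identity elements (a T.I. subgroup with Frobenius normalizer). Let S be the set of irreducible characters of N taking at some element of K a value different from their degree, suppose S has at least two members, and let star be a linear isometry on the integer span of S into the generalized characters of G that agrees with induction on the members vanishing at the identity (so S is coherent, with star as the extending isometry). Then an irreducible character ψ of G is of the form star χ or -star χ for some χ in S if and only if ψ is not constant on the non-identity elements of K. -/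
theorem result {G : Type*} [Group G] [Fintype G] (K : Subgroup G) (hTI : ∀ g : G, g ∉ Subgroup.normalizer (K : Set G) → ∀ k ∈ K, g * k * g⁻¹ ∈ K → k = 1) (hlt : K < Subgroup.normalizer (K : Set G)) (hC : ∀ k ∈ K, k ≠ 1 → Subgroup.centralizer ({k} : Set G) ≤ K) [Fintype ↥(Subgroup.normalizer (K : Set G))] (S : Set (↥(Subgroup.normalizer (K : Set G)) → ℂ)) (hS : S = {χ : ↥(Subgroup.normalizer (K : Set G)) → ℂ | Cfsg.IsIrrCharacter ↥(Subgroup.normalizer (K : Set G)) χ ∧ ∃ k : ↥(Subgroup.normalizer (K : Set G)), (k : G) ∈ K ∧ χ k ≠ χ 1}) (htwo : ∃ χ ∈ S, ∃ ξ ∈ S, χ ≠ ξ) (star : (↥(Subgroup.normalizer (K : Set G)) → ℂ) → (G → ℂ)) (hstar : Cfsg.IsLinearIsometryOn (Cfsg.zspan S) star) (hext : ∀ α ∈ Cfsg.zspanOn S ({1}ᶜ : Set ↥(Subgroup.normalizer (K : Set G))), star α = Cfsg.indFun (Subgroup.normalizer (K : Set G)) α) (ψ : G → ℂ) (hψ : Cfsg.IsIrrCharacter G ψ) : (∃ χ ∈ S, ψ = star χ ∨ ψ = -star χ) ↔ ∃ a ∈ K, ∃ b ∈ K, a ≠ 1 ∧ b ≠ 1 ∧ ψ a ≠ ψ b := by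
  classical
  have hHL : K ≤ Subgroup.normalizer (K : Set G) := hlt.le
  have hLH : ¬ Subgroup.normalizer (K : Set G) ≤ K := not_le_of_gt hlt
  have hHn : ∀ x ∈ Subgroup.normalizer (K : Set G), ∀ h ∈ K, x * h * x⁻¹ ∈ K := by
    intro x hx h hh
    exact ((Subgroup.mem_normalizer_iff).1 hx h).1 hh
  have hcent : ∀ h ∈ K, h ≠ 1 → ∀ x ∈ Subgroup.normalizer (K : Set G), x * h = h * x →
      x ∈ K := by
    intro h hh hh1 x _ hxh
    apply hC h hh hh1
    rw [Subgroup.mem_centralizer_iff]
    intro y hy
    rw [Set.mem_singleton_iff] at hy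
    rw [hy]
    exact hxh.symm
  have hTI' : Cfsg.IsTISubset (K : Set G) := fun g hg x hx h => hTI g hg x hx h
  subst hS
  have C := Cfsg.Agent.Lib.Helper11.frobCtx0_of K _ hHL hHn hcent hTI' rfl star hstar hext
  haveI := C.normal
  have hirrS := Cfsg.Agent.Lib.Helper11.frob_irr_of_cent K _ hcent
  have hset := Cfsg.Agent.Lib.Helper11.irr_nontriv_eq_induced K _ hirrS
  have hK1 : K ≠ ⊥ := by
    intro hbot
    obtain ⟨χ, ⟨-, k, hk, hne⟩, -⟩ := htwo
    apply hne
    have hk1 : (k : G) = 1 := (Subgroup.eq_bot_iff_forall K).1 hbot _ hk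
    have : k = 1 := Subtype.ext hk1
    rw [this]
  have hnt : ∀ χ ∈ Cfsg.inducedIrrAbove (K.subgroupOf (Subgroup.normalizer (K : Set G))) ⊥,
      ∃ x : ↥(Subgroup.normalizer (K : Set G)), (x : G) ∈ K ∧ χ x ≠ χ 1 := by
    intro χ hχ
    rw [← hset] at hχ
    exact hχ.2
  rw [hset] at htwo ⊢
  exact Cfsg.Agent.Lib.Helper11.frob_star_irr_iff K _ hHL hLH hK1 hcent star C htwo hnt ψ hψ

end Cfsg.Agent.S0852
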