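import Mathlib
import Cfsg.Statements.S0854
import Cfsg.Agent.Lib.Helper11.Clifford2

set_option autoImplicit false
open Cfsg

namespace Cfsg.Agent.S0854

open scoped ComplexConjugate
open Cfsg.Agent.Lib.Helper2 Cfsg.Agent.Lib.Helper11

/-- inner products over `H.subgroupOf T` and over `H` agree -/
theorem classInner_subgroupOf {G : Type*} [Group G] (H T : Subgroup G) [Fintype H]
    [Fintype (H.subgroupOf T)] (hHT : H ≤ T) (a : H → ℂ) (b : T → ℂ) :
    Cfsg.classInner (fun x : H.subgroupOf T => a ⟨(x : T), Subgroup.mem_subgroupOf.mp x.2⟩)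
      (fun x : H.subgroupOf T => b x)
      = Cfsg.classInner a (fun n : H => b ⟨(n : G), hHT n.2⟩) := by
  rw [classInner_def, classInner_def]
  have hcard : Nat.card (H.subgroupOf T) = Nat.card H :=
    Nat.card_congr (Subgroup.subgroupOfEquivOfLe hHT).toEquiv
  rw [hcard]
  congr 1
  apply Fintype.sum_equiv (Subgroup.subgroupOfEquivOfLe hHT).toEquiv
  intro x
  rfl

theorem result {G : Type*} [Group G] [Fintype G] (H : Subgroup G) [hN : H.Normal] [Fintype H] (ϑ : H → ℂ) (hϑ : Cfsg.IsIrrCharacter H ϑ) (T : Subgroup G) [Fintype T] (hT : ∀ g : G, g ∈ T ↔ ∀ n : H, ϑ ⟨g * n * g⁻¹, hN.conj_mem (n : G) n.2 g⟩ = ϑ n) (hHT : H ≤ T) (χ : G → ℂ) (hχ : Cfsg.IsIrrCharacter G χ) (hcon : Cfsg.classInner (fun n : H => χ n) ϑ ≠ 0) : ∃ ψ : T → ℂ, Cfsg.IsIrrCharacter T ψ ∧ Cfsg.indFun T ψ = χ ∧ Cfsg.classInner (fun n : H => ψ ⟨(n : G), hHT n.2⟩) ϑ = Cfsg.classInner (fun n : H => χ n) ϑ := by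
  classical
  have : Fintype (H.subgroupOf T) := Fintype.ofFinite _
  have : Fintype (Cfsg.IrrCharacter T) := Fintype.ofFinite _
  have hχcf : Cfsg.IsClassFunction G χ :=
    IrrCharacter.isClassFunction (⟨χ, hχ⟩ : Cfsg.IrrCharacter G)
  have hT' : ∀ g : G, g ∈ T ↔ conjFn H g ϑ = ϑ := by
    intro g
    rw [hT g]
    constructor
    · intro h; funext n; exact h n
    · intro h n; exact congrFun h n
  set θ' : H.subgroupOf T → ℂ := fun x => ϑ ⟨(x : T), Subgroup.mem_subgroupOf.mp x.2⟩ with hθ'def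
  set Θ := Cfsg.indFun (H.subgroupOf T) θ' with hΘ
  have htrans : Cfsg.indFun T Θ = Cfsg.indFun H ϑ := indFun_trans H T hHT ϑ
  have hexp := classFunction_expansion Θ (indFun_isClassFunction (H.subgroupOf T) θ')
  -- the multiplicity
  have hfrob : Cfsg.classInner (Cfsg.indFun H ϑ) χ = Cfsg.classInner ϑ (fun n : H => χ n) :=
    frobenius_reciprocity H ϑ χ hχcf
  have hne : Cfsg.classInner (Cfsg.indFun H ϑ) χ ≠ 0 := by
    rw [hfrob, ← classInner_conj_symm]
    intro h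
    apply hcon
    have := congrArg conj h
    simpa using this
  have hsum : Cfsg.classInner (Cfsg.indFun H ϑ) χ
      = ∑ μ : Cfsg.IrrCharacter T, Cfsg.classInner Θ (μ : T → ℂ)
          * Cfsg.classInner (Cfsg.indFun T (μ : T → ℂ)) χ := by
    rw [← htrans]
    conv_lhs => rw [hexp]
    rw [indFun_sum, classInner_sum_left]
    apply Finset.sum_congr rfl
    intro μ _
    rw [indFun_smul, classInner_smul_left]
  rw [hsum] at hne
  obtain ⟨μ, _, hμ⟩ := Finset.exists_ne_zero_of_sum_ne_zero hne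
  have hμ1 : Cfsg.classInner Θ (μ : T → ℂ) ≠ 0 := left_ne_zero_of_mul hμ
  have hμ2 : Cfsg.classInner (Cfsg.indFun T (μ : T → ℂ)) χ ≠ 0 := right_ne_zero_of_mul hμ
  have hcc := clifford_correspondence H T ϑ hϑ hT' hHT μ.1 μ.1 μ.2 μ.2 hμ1 hμ1
  have hindμ : Cfsg.indFun T (μ : T → ℂ) = χ := eq_of_irr_of_classInner_ne_zero hcc.1 hχ hμ2
  have hχχ : Cfsg.classInner χ χ = 1 := classInner_irrCharacter_self (⟨χ, hχ⟩ : Cfsg.IrrCharacter G)
  have hsum2 : ∑ ν : Cfsg.IrrCharacter T, Cfsg.classInner Θ (ν : T → ℂ)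
          * Cfsg.classInner (Cfsg.indFun T (ν : T → ℂ)) χ = Cfsg.classInner Θ (μ : T → ℂ) := by
    rw [Finset.sum_eq_single μ]
    · rw [hindμ, hχχ, mul_one]
    · intro ν _ hν
      by_contra h0
      have hν1 : Cfsg.classInner Θ (ν : T → ℂ) ≠ 0 := left_ne_zero_of_mul h0
      have hν2 : Cfsg.classInner (Cfsg.indFun T (ν : T → ℂ)) χ ≠ 0 := right_ne_zero_of_mul h0
      have hcc' := clifford_correspondence H T ϑ hϑ hT' hHT ν.1 μ.1 ν.2 μ.2 hν1 hμ1
      have hindν : Cfsg.indFun T (ν : T → ℂ) = χ := eq_of_irr_of_classInner_ne_zero hcc'.1 hχ hν2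
      exact hν (Subtype.ext (hcc'.2 (hindν.trans hindμ.symm)))
    · intro h; exact absurd (Finset.mem_univ _) h
  refine ⟨μ.1, μ.2, hindμ, ?_⟩
  have hfrobT : Cfsg.classInner Θ (μ : T → ℂ)
      = Cfsg.classInner θ' (fun x : H.subgroupOf T => (μ : T → ℂ) x) :=
    frobenius_reciprocity (H.subgroupOf T) θ' μ.1 (IrrCharacter.isClassFunction μ)
  have hre := classInner_subgroupOf H T hHT ϑ μ.1
  have key : Cfsg.classInner ϑ (fun n : H => χ n)
      = Cfsg.classInner ϑ (fun n : H => (μ : T → ℂ) ⟨(n : G), hHT n.2⟩) := by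
    rw [← hfrob, hsum, hsum2, hfrobT]
    exact hre
  rw [← classInner_conj_symm, ← key, classInner_conj_symm]

end Cfsg.Agent.S0854
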