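import Mathlib
import Cfsg.Statements.S0856
import Cfsg.Agent.Lib.Helper7.Gallagher

set_option autoImplicit false
open Cfsg

namespace Cfsg.Agent.S0856

open scoped ComplexConjugate
open Cfsg.Agent.Lib.Helper2 Cfsg.Agent.Lib.Helper11 Cfsg.Agent.Lib.Helper7

theorem result {G : Type*} [Group G] [Fintype G] (N : Subgroup G) [hN : N.Normal] (φ ϑ : N → ℂ) (hφ : Cfsg.IsIrrCharacter N φ) (hϑ : Cfsg.IsIrrCharacter N ϑ) (hφinv : ∀ (g : G) (n : N), φ ⟨g * n * g⁻¹, hN.conj_mem (n : G) n.2 g⟩ = φ n) (hϑinv : ∀ (g : G) (n : N), ϑ ⟨g * n * g⁻¹, hN.conj_mem (n : G) n.2 g⟩ = ϑ n) (hprod : Cfsg.IsIrrCharacter N (φ * ϑ)) (χ : G → ℂ) (hχ : Cfsg.IsIrrCharacter G χ) (hext : ∀ n : N, χ n = ϑ n) : Set.BijOn (fun β : G → ℂ => β * χ) {β : G → ℂ | Cfsg.IsIrrCharacter G β ∧ Cfsg.classInner (Cfsg.indFun N φ) β ≠ 0} {ψ : G → ℂ | Cfsg.IsIrrCharacter G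 ψ ∧ Cfsg.classInner (Cfsg.indFun N (φ * ϑ)) ψ ≠ 0} := by
  classical
  have : Fintype N := Fintype.ofFinite N
  have hϑeq : ϑ = fun n : N => χ n := by
    funext n; exact (hext n).symm
  have hφinv' : ∀ g : G, conjFn N g φ = φ := by
    intro g; funext n; exact hφinv g n
  rw [hϑeq] at hprod
  obtain ⟨h1, h2, h3⟩ := gallagher_rigidity N hφ hφinv' (IsIrrCharacter.isCharacter hχ) hprod
  rw [hϑeq]
  refine ⟨?_, ?_, ?_⟩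
  · rintro β ⟨hβ, hβne⟩
    obtain ⟨hirr, heq⟩ := h1 β hβ hβne
    exact ⟨hirr, by rw [heq]; exact hβne⟩
  · rintro β ⟨hβ, hβne⟩ β' ⟨hβ', hβ'ne⟩ heq
    exact h2 β β' hβ hβ' hβne hβ'ne heq
  · rintro ψ ⟨hψ, hψne⟩
    obtain ⟨β, hβ, hβne, heq⟩ := h3 ψ hψ hψne
    exact ⟨β, ⟨hβ, hβne⟩, heq⟩

end Cfsg.Agent.S0856
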