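import Mathlib
import Cfsg.Statements.S0859
import Cfsg.Agent.Lib.Helper2.MGroup
import Cfsg.Agent.Lib.Helper2.Ito
import Cfsg.Agent.Lib.Helper11.Clifford2
import Cfsg.Agent.Lib.Helper24.CliffordGeneral
import Cfsg.Agent.Lib.Helper7.CliffordCentral
import Cfsg.Agent.Lib.Helper25.AGroup
import Cfsg.Agent.Lib.Helper25.Kernel
import Cfsg.Agent.Lib.Helper25.LinearChar
import Cfsg.Agent.Lib.Helper25.Constituent

set_option autoImplicit false
open Cfsg

namespace Cfsg.Agent.S0859

open Cfsg.Agent.Lib.Helper2 Cfsg.Agent.Lib.Helper11 Cfsg.Agent.Lib.Helper24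
  Cfsg.Agent.Lib.Helper25
open scoped ComplexConjugate

universe u

/-- a character of degree zero vanishes -/
theorem eq_zero_of_apply_one {G : Type*} [Group G] {Ψ : G → ℂ} (h : Cfsg.IsCharacter G Ψ)
    (h1 : Ψ 1 = 0) : Ψ = 0 := by
  obtain ⟨n, ρ, rfl⟩ := h
  rw [Representation.char_one] at h1
  have hn : Module.finrank ℂ (Fin n → ℂ) = 0 := by exact_mod_cast h1
  rw [Module.finrank_fin_fun] at hn
  subst hn
  funext g
  have : ρ g = 0 := Subsingleton.elim _ _
  simp [Representation.character, this]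

/-- an irreducible character trivial on the commutator subgroup is linear -/
theorem linear_of_commutator_le_ker {K : Type*} [Group K] [Fintype K] {μ : K → ℂ}
    (hμ : Cfsg.IsIrrCharacter K μ) (hker : ∀ c ∈ commutator K, μ c = μ 1) : μ 1 = 1 := by
  obtain ⟨ν, hν, hνμ⟩ := exists_deflation (commutator K) hμ hker
  have hab : ∀ a b : K ⧸ commutator K, a * b = b * a := by
    intro a b
    have h := @mul_comm (Abelianization K) _ a b
    exact h
  have h1 := IsIrrCharacter.apply_one_of_comm hab hν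
  rw [hνμ 1]
  exact h1

/-- transport of the class inner product along a group isomorphism -/
theorem classInner_comp_mulEquiv {K K' : Type*} [Group K] [Group K'] [Fintype K] [Fintype K']
    (e : K' ≃* K) (φ ψ : K → ℂ) :
    Cfsg.classInner (φ ∘ e) (ψ ∘ e) = Cfsg.classInner φ ψ := by
  rw [classInner_def, classInner_def, Nat.card_congr e.toEquiv]
  congr 1
  exact Equiv.sum_comp e.toEquiv (fun k => φ k * conj (ψ k))

/-- If `ξ^H` is irreducible and restricts irreducibly to `N`, then `ξ` restricts irreducibly to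
`N ∩ T`. -/
theorem restrict_subgroupOf_irr {H : Type u} [Group H] [Fintype H] (N T : Subgroup H)
    (ξ : T → ℂ) (hξ : Cfsg.IsIrrCharacter T ξ)
    (hind : Cfsg.IsIrrCharacter H (Cfsg.indFun T ξ))
    (hN : Cfsg.IsIrrCharacter N (fun x : N => Cfsg.indFun T ξ x)) :
    Cfsg.IsIrrCharacter ↥(N.subgroupOf T) (fun x : ↥(N.subgroupOf T) => ξ x) := by
  classical
  have : Fintype T := Fintype.ofFinite T
  have : Fintype N := Fintype.ofFinite N
  have : Fintype ↥(N.subgroupOf T) := Fintype.ofFinite _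
  have : Fintype ↥(T.subgroupOf N) := Fintype.ofFinite _
  set ψ := Cfsg.indFun T ξ with hψdef
  have hψchar := IsIrrCharacter.isCharacter hind
  have hψcf : Cfsg.IsClassFunction H ψ := IsCharacter.isClassFunction hψchar
  have hξchar := IsIrrCharacter.isCharacter hξ
  set ξ₁ : ↥(N.subgroupOf T) → ℂ := fun x => ξ x with hξ₁
  have hξ₁char : Cfsg.IsCharacter ↥(N.subgroupOf T) ξ₁ :=
    IsCharacter.restrict hξchar (N.subgroupOf T)
  have hξ₁ne : ξ₁ ≠ 0 := by
    intro h
    have := congrFun h 1
    exact IsIrrCharacter.apply_one_ne_zero hξ this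
  obtain ⟨ζ, Ψ, hΨ, hsum⟩ := exists_irr_add_of_ne_zero hξ₁char hξ₁ne
  -- `ψ_T = ξ + Ψ₂`
  have h1 : Cfsg.classInner (fun t : T => ψ t) ξ ≠ 0 := by
    have hfr := frobenius_reciprocity T ξ ψ hψcf
    have h11 : Cfsg.classInner ψ ψ = 1 :=
      classInner_irrCharacter_self (⟨ψ, hind⟩ : Cfsg.IrrCharacter H)
    rw [← hψdef, h11] at hfr
    rw [← classInner_conj_symm, ← hfr]
    simp
  obtain ⟨Ψ₂, hΨ₂, hsum₂⟩ :=
    exists_add_of_classInner_ne_zero (IsCharacter.restrict hψchar T) ⟨ξ, hξ⟩ h1
  have hres : (fun x : ↥(N.subgroupOf T) => ψ ((x : T) : H))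
      = (ζ : ↥(N.subgroupOf T) → ℂ) + Ψ + (fun x : ↥(N.subgroupOf T) => Ψ₂ x) := by
    funext x
    have h2 := congrFun hsum₂ (x : T)
    have h3 := congrFun hsum x
    simp only [Pi.add_apply] at h2 h3 ⊢
    rw [h2, ← h3]
  have hΨ₂res : Cfsg.IsCharacter ↥(N.subgroupOf T) (fun x : ↥(N.subgroupOf T) => Ψ₂ x) :=
    IsCharacter.restrict hΨ₂ (N.subgroupOf T)
  obtain ⟨a, ha⟩ := classInner_isCharacter_nat hΨ (IsIrrCharacter.isCharacter ζ.2)
  obtain ⟨b, hb⟩ := classInner_isCharacter_nat hΨ₂res (IsIrrCharacter.isCharacter ζ.2)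
  have hm : Cfsg.classInner (fun x : ↥(N.subgroupOf T) => ψ ((x : T) : H)) (ζ : _ → ℂ)
      = ((1 + a + b : ℕ) : ℂ) := by
    rw [hres, classInner_add_left, classInner_add_left, classInner_irrCharacter_self, ha, hb]
    push_cast
    ring
  -- the isomorphism between the two incarnations of `N ∩ T`
  let e : ↥(T.subgroupOf N) ≃* ↥(N.subgroupOf T) :=
    { toFun := fun x => ⟨⟨((x : N) : H), Subgroup.mem_subgroupOf.mp x.2⟩,
        Subgroup.mem_subgroupOf.mpr (x : N).2⟩
      invFun := fun x => ⟨⟨((x : T) : H), Subgroup.mem_subgroupOf.mp x.2⟩,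
        Subgroup.mem_subgroupOf.mpr (x : T).2⟩
      left_inv := fun x => rfl
      right_inv := fun x => rfl
      map_mul' := fun x y => rfl }
  have hζ' : Cfsg.IsIrrCharacter ↥(T.subgroupOf N) ((ζ : _ → ℂ) ∘ e) :=
    isIrrCharacter_comp_equiv e ζ.2
  have hm' : Cfsg.classInner (fun h : ↥(T.subgroupOf N) => (fun x : N => ψ x) h)
      ((ζ : _ → ℂ) ∘ e) = ((1 + a + b : ℕ) : ℂ) := by
    rw [← hm, ← classInner_comp_mulEquiv e]
    rfl
  obtain ⟨x, hx⟩ := IsCharacter.apply_one hξchar
  obtain ⟨z, hz⟩ := IsCharacter.apply_one (IsIrrCharacter.isCharacter ζ.2)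
  obtain ⟨y, hy⟩ := IsCharacter.apply_one hΨ
  have hxzy : x = z + y := by
    have h4 := congrFun hsum 1
    simp only [Pi.add_apply, hξ₁] at h4
    have h5 : ξ ((1 : ↥(N.subgroupOf T)) : T) = ξ 1 := rfl
    rw [h5, hx, hz, hy] at h4
    exact_mod_cast h4
  have hd : (fun x : N => ψ x) 1 = ((T.index * x : ℕ) : ℂ) := by
    change ψ ((1 : N) : H) = _
    rw [OneMemClass.coe_one, hψdef, indFun_apply_one, hx]
    push_cast
    rfl
  have he : ((ζ : _ → ℂ) ∘ e) 1 = (z : ℂ) := by
    simp only [Function.comp_apply, map_one]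
    exact hz
  have hineq := mult_restrict_mul_degree_le (G := ↥N) (T.subgroupOf N)
    (⟨fun x : N => ψ x, hN⟩ : Cfsg.IrrCharacter N) (IsIrrCharacter.isCharacter hζ') hm' hd he
  have hidx : (T.subgroupOf N).index ≤ T.index := by
    have h6 : (T.subgroupOf N).index = T.relIndex N := rfl
    rw [h6]
    have h7 : T.relIndex ⊤ ≠ 0 := by
      rw [Subgroup.relIndex_top_right]
      exact Subgroup.index_ne_zero_of_finite
    have := Subgroup.relIndex_le_of_le_right (H := T) (le_top : N ≤ ⊤) h7
    rwa [Subgroup.relIndex_top_right] at this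
  have hTpos : 0 < T.index := Nat.pos_of_ne_zero Subgroup.index_ne_zero_of_finite
  have hy0 : y = 0 := by
    by_contra hy0
    have hypos : 0 < y := Nat.pos_of_ne_zero hy0
    have h8 : (T.subgroupOf N).index * z ≤ T.index * z := Nat.mul_le_mul_right z hidx
    have h9 : T.index * x ≤ (1 + a + b) * (T.index * x) := by
      apply Nat.le_mul_of_pos_left
      omega
    have h10 : T.index * z < T.index * x := by
      apply Nat.mul_lt_mul_of_pos_left _ hTpos
      omega
    omega
  have hΨ0 : Ψ = 0 := eq_zero_of_apply_one hΨ (by rw [hy, hy0]; simp)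
  rw [hΨ0, add_zero] at hsum
  rw [hsum]
  exact ζ.2

/-- the derived series of a subgroup, computed in the ambient group -/
def dser {H : Type*} [Group H] (N : Subgroup H) : ℕ → Subgroup H
  | 0 => N
  | (i + 1) => ⁅dser N i, dser N i⁆

theorem dser_normal {H : Type*} [Group H] (N : Subgroup H) [N.Normal] :
    ∀ i, (dser N i).Normal := by
  intro i
  induction i with
  | zero => exact (inferInstance : N.Normal)
  | succ i ih =>
    have := ih
    exact Subgroup.commutator_normal (dser N i) (dser N i)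

theorem dser_le_derivedSeries {H : Type*} [Group H] (N : Subgroup H) :
    ∀ i, dser N i ≤ derivedSeries H i := by
  intro i
  induction i with
  | zero => exact le_top
  | succ i ih => exact Subgroup.commutator_mono ih ih

theorem dser_le {H : Type*} [Group H] (N : Subgroup H) [N.Normal] : ∀ i, dser N i ≤ N := by
  intro i
  induction i with
  | zero => exact le_rfl
  | succ i ih =>
    have := dser_normal N i
    exact (Subgroup.commutator_le_left (dser N i) (dser N i)).trans ih

theorem dser_succ_le {H : Type*} [Group H] (N : Subgroup H) [N.Normal] (i : ℕ) :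
    dser N (i + 1) ≤ ⁅N, N⁆ :=
  Subgroup.commutator_mono (dser_le N i) (dser_le N i)

/-- If `N ⊴ H` has abelian Sylow subgroups, `H` is solvable and `ψ ∈ Irr(H)` restricts
irreducibly to `N`, then `ψ` is monomial. -/
theorem key : ∀ (n : ℕ) (H : Type u) [Group H] [Fintype H] [Group.IsSolvable H]
    (N : Subgroup H) [N.Normal], Fintype.card H = n → AGroup ↥N →
    ∀ ψ : H → ℂ, Cfsg.IsIrrCharacter H ψ → Cfsg.IsIrrCharacter N (fun x : N => ψ x) →
    ∃ (U : Subgroup H) (lam : U → ℂ), Cfsg.IsCharacter U lam ∧ lam 1 = 1 ∧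
      Cfsg.indFun U lam = ψ := by
  intro n
  induction n using Nat.strong_induction_on with
  | _ n ih =>
  intro H _ _ hsolv N _ hcard hA ψ hψ hψN
  classical
  have hψchar := IsIrrCharacter.isCharacter hψ
  have hψcf : Cfsg.IsClassFunction H ψ := IsCharacter.isClassFunction hψchar
  have : Fintype N := Fintype.ofFinite N
  by_cases hlin : ψ 1 = 1
  · exact ⟨⊤, fun h => ψ h, IsCharacter.restrict hψchar ⊤, hlin, MGroup.indFun_top hψcf⟩
  obtain ⟨Kψ, hKn, hK⟩ := exists_kernel hψchar
  have := hKn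
  -- `N'` is not in the kernel
  have hNK : ¬ ⁅N, N⁆ ≤ Kψ := by
    intro hle
    apply hlin
    have h1 := linear_of_commutator_le_ker hψN (by
      intro c hc
      have hc' : (c : H) ∈ ⁅N, N⁆ := by
        rw [← Subgroup.map_subtype_commutator]
        exact ⟨c, hc, rfl⟩
      exact (hK _).mp (hle hc'))
    exact h1
  -- the last term of the derived series outside the kernel
  have hex : ∃ j, dser N j ≤ Kψ := by
    obtain ⟨r, hr⟩ := hsolv.solvable
    exact ⟨r, (dser_le_derivedSeries N r).trans (hr ▸ bot_le)⟩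
  have hj0 : Nat.find hex ≠ 0 := by
    intro h0
    have := Nat.find_spec hex
    rw [h0] at this
    exact hNK ((Subgroup.commutator_le_left N N).trans this)
  have hj1 : Nat.find hex ≠ 1 := by
    intro h1
    have := Nat.find_spec hex
    rw [h1] at this
    exact hNK this
  obtain ⟨i, hi⟩ : ∃ i, Nat.find hex = i + 2 := ⟨Nat.find hex - 2, by omega⟩
  set B := dser N (i + 1) with hBdef
  have hBn : B.Normal := dser_normal N (i + 1)
  have hBN : B ≤ N := dser_le N (i + 1)
  have hBN' : B ≤ ⁅N, N⁆ := dser_succ_le N i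
  have hBK : ¬ B ≤ Kψ := Nat.find_min hex (by omega)
  have hBBK : ⁅B, B⁆ ≤ Kψ := by
    have := Nat.find_spec hex
    rw [hi] at this
    exact this
  have : Fintype B := Fintype.ofFinite B
  obtain ⟨μ, hμ⟩ := Cfsg.Agent.Lib.Helper7.exists_constituent_restrict (N := B) ⟨ψ, hψ⟩
  have hμcf : Cfsg.IsClassFunction B (μ : B → ℂ) := IrrCharacter.isClassFunction μ
  set T := inertia B (μ : B → ℂ) with hTdef
  have hBT : B ≤ T := le_inertia B hμcf
  by_cases hT : T = ⊤
  · -- homogeneous case: impossible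
    exfalso
    have hinv : ∀ g : H, conjFun B g (μ : B → ℂ) = μ := by
      intro g
      have : g ∈ T := by rw [hT]; trivial
      exact this
    have hcl := clifford_restriction B hψ μ.2 hμ
    have hset : {φ : B → ℂ | ∃ g : H, φ = conjFun B g (μ : B → ℂ)} = {(μ : B → ℂ)} := by
      ext φ
      constructor
      · rintro ⟨g, rfl⟩; exact hinv g
      · intro h; exact ⟨1, by rw [Set.mem_singleton_iff.mp h, conjFun_one]⟩
    rw [hset, finsum_mem_singleton] at hcl
    set e := Cfsg.classInner (fun b : B => ψ b) (μ : B → ℂ) with he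
    have hval : ∀ b : B, ψ b = e * (μ : B → ℂ) b := by
      intro b
      have := congrFun hcl b
      simpa using this
    have hμ1 : (μ : B → ℂ) 1 = 1 := by
      apply linear_of_commutator_le_ker μ.2
      intro c hc
      have hc' : (c : H) ∈ ⁅B, B⁆ := by
        rw [← Subgroup.map_subtype_commutator]
        exact ⟨c, hc, rfl⟩
      have h1 := (hK _).mp (hBBK hc')
      have h2 := hval c
      have h3 := hval 1
      rw [OneMemClass.coe_one] at h3
      rw [h1, h3] at h2
      exact (mul_left_cancel₀ hμ h2).symm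
    obtain ⟨f, hf⟩ := exists_hom_of_linear (IsIrrCharacter.isCharacter μ.2) hμ1
    -- commutators of `B` with `N` lie in the kernel
    have hcomm : ∀ b ∈ B, ∀ x ∈ N, (b * x)⁻¹ * (x * b) ∈ Kψ := by
      intro b hb x _
      have hb' : x⁻¹ * b⁻¹ * x⁻¹⁻¹ ∈ B := hBn.conj_mem _ (B.inv_mem hb) _
      have hprod : (b * x)⁻¹ * (x * b) = (x⁻¹ * b⁻¹ * x⁻¹⁻¹) * b := by group
      rw [hK, hprod]
      have h1 := hval (⟨x⁻¹ * b⁻¹ * x⁻¹⁻¹, hb'⟩ * ⟨b, hb⟩)
      have h2 : (μ : B → ℂ) (⟨x⁻¹ * b⁻¹ * x⁻¹⁻¹, hb'⟩ * ⟨b, hb⟩) = 1 := by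
        rw [hf, map_mul]
        have h3 : (μ : B → ℂ) ⟨x⁻¹ * b⁻¹ * x⁻¹⁻¹, hb'⟩ = (μ : B → ℂ) ⟨b⁻¹, B.inv_mem hb⟩ := by
          have := congrFun (hinv x⁻¹) ⟨b⁻¹, B.inv_mem hb⟩
          rw [conjFun_apply] at this
          exact this
        rw [hf, hf] at h3
        have h4 : f ⟨x⁻¹ * b⁻¹ * x⁻¹⁻¹, hb'⟩ = f ⟨b⁻¹, B.inv_mem hb⟩ := Units.ext h3
        rw [h4, ← map_mul]
        have : (⟨b⁻¹, B.inv_mem hb⟩ : B) * ⟨b, hb⟩ = 1 := by
          apply Subtype.ext
          simp
        rw [this, map_one, Units.val_one]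
      have h5 := hval 1
      rw [OneMemClass.coe_one, hμ1, mul_one] at h5
      have h6 : ((⟨x⁻¹ * b⁻¹ * x⁻¹⁻¹, hb'⟩ * ⟨b, hb⟩ : B) : H) = x⁻¹ * b⁻¹ * x⁻¹⁻¹ * b := rfl
      rw [h6, h2, mul_one] at h1
      rw [h1, h5]
    -- Taunt's lemma in `N / (N ∩ ker ψ)`
    apply hBK
    intro b hb
    have hκn : (Kψ.subgroupOf N).Normal := inferInstance
    have hAq : AGroup (↥N ⧸ Kψ.subgroupOf N) :=
      AGroup.of_surjective hA (QuotientGroup.mk' (Kψ.subgroupOf N))
        (QuotientGroup.mk'_surjective _)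
    have hz := AGroup.center_inf_commutator hAq
      (QuotientGroup.mk' (Kψ.subgroupOf N) ⟨b, hBN hb⟩) (by
        rw [Subgroup.mem_center_iff]
        intro q
        obtain ⟨x, rfl⟩ := QuotientGroup.mk'_surjective (Kψ.subgroupOf N) q
        rw [← map_mul, ← map_mul]
        simp only [QuotientGroup.mk'_apply]
        rw [eq_comm, QuotientGroup.eq, Subgroup.mem_subgroupOf]
        have := hcomm b hb x x.2
        simpa using this) (by
        have hbc : (⟨b, hBN hb⟩ : N) ∈ commutator ↥N := by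
          have h1 : b ∈ (commutator ↥N).map N.subtype := by
            rw [Subgroup.map_subtype_commutator]
            exact hBN' hb
          obtain ⟨c, hc, hcb⟩ := h1
          have : c = ⟨b, hBN hb⟩ := Subtype.ext hcb
          rw [← this]; exact hc
        have hle : (commutator ↥N).map (QuotientGroup.mk' (Kψ.subgroupOf N))
            ≤ commutator (↥N ⧸ Kψ.subgroupOf N) := by
          rw [commutator_def, Subgroup.map_commutator, commutator_def]
          exact Subgroup.commutator_mono le_top le_top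
        exact hle ⟨_, hbc, rfl⟩)
    rw [QuotientGroup.mk'_apply, QuotientGroup.eq_one_iff, Subgroup.mem_subgroupOf] at hz
    exact hz
  · -- induced from the proper inertia subgroup
    have : Fintype T := Fintype.ofFinite T
    obtain ⟨ξ, hξ1, hξ2⟩ := exists_liesOver_between B T hBT ⟨ψ, hψ⟩ μ hμ
    have hcc := clifford_general B T (μ : B → ℂ) μ.2 (fun g hg => hg) hBT ξ ξ ξ.2 ξ.2 hξ2 hξ2
    have hind : Cfsg.indFun T (ξ : T → ℂ) = ψ := by
      apply eq_of_irr_of_classInner_ne_zero' hcc.1 hψ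
      rw [frobenius_reciprocity T _ ψ hψcf, ← classInner_conj_symm]
      intro h
      apply hξ1
      have := congrArg conj h
      simpa using this
    have hTcard : Fintype.card T < n := by
      rw [← hcard, ← Nat.card_eq_fintype_card, ← Nat.card_eq_fintype_card]
      apply lt_of_le_of_ne (Subgroup.card_le_card_group T)
      intro h
      exact hT ((Subgroup.card_eq_iff_eq_top T).mp h)
    have hξN := restrict_subgroupOf_irr N T (ξ : T → ℂ) ξ.2 (by rw [hind]; exact hψ)
      (by rw [hind]; exact hψN)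
    have hAT : AGroup ↥(N.subgroupOf T) := by
      let f : ↥(N.subgroupOf T) →* ↥N :=
        (T.subtype.comp (N.subgroupOf T).subtype).codRestrict N
          (fun x => Subgroup.mem_subgroupOf.mp x.2)
      apply AGroup.of_injective hA f
      intro x y hxy
      apply Subtype.ext
      apply Subtype.ext
      exact congrArg (fun w : ↥N => (w : H)) hxy
    obtain ⟨S, lam, hlam, hlam1, hlamind⟩ :=
      ih (Fintype.card T) hTcard T (N.subgroupOf T) rfl hAT (ξ : T → ℂ) ξ.2 hξN
    let eS : S ≃* S.map T.subtype := S.equivMapOfInjective T.subtype T.subtype_injective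
    have hle : S.map T.subtype ≤ T := Subgroup.map_subtype_le S
    have heS : ∀ (t : T) (ht : t ∈ S) (ht' : (t : H) ∈ S.map T.subtype),
        eS.symm ⟨(t : H), ht'⟩ = ⟨t, ht⟩ := by
      intro t ht ht'
      rw [MulEquiv.symm_apply_eq]
      apply Subtype.ext
      rfl
    refine ⟨S.map T.subtype, lam ∘ eS.symm, IsCharacter.comp hlam eS.symm.toMonoidHom, ?_, ?_⟩
    · simp only [Function.comp_apply, map_one]
      exact hlam1
    · rw [← hind, ← hlamind, ← indFun_trans (S.map T.subtype) T hle]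
      congr 1
      have hSeq : (S.map T.subtype).subgroupOf T = S :=
        Subgroup.comap_map_eq_self_of_injective T.subtype_injective S
      apply MGroup.indFun_congr hSeq
      intro t ht ht'
      simp only [Function.comp_apply]
      rw [heS t ht' (Subgroup.mem_subgroupOf.mp ht)]

/-- Let G be a finite solvable group and N a normal subgroup such that for every prime p every Sylow p-subgroup of N is abelian. Suppose every irreducible character of G is induced from an irreducible character of some subgroup containing N whose restriction to N is irreducible. Then every irreducible character of G is induced from a character of degree 1 of some subgroup. -/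
theorem result {G : Type*} [Group G] [Fintype G] [Group.IsSolvable G] (N : Subgroup G) [N.Normal] (hab : ∀ (p : ℕ) [Fact p.Prime] (P : Sylow p N), ∀ a ∈ P, ∀ b ∈ P, a * b = b * a) (hrel : ∀ χ : G → ℂ, Cfsg.IsIrrCharacter G χ → ∃ (H : Subgroup G) (hNH : N ≤ H) (ψ : H → ℂ), Cfsg.IsIrrCharacter H ψ ∧ Cfsg.indFun H ψ = χ ∧ Cfsg.IsIrrCharacter N (fun n : N => ψ ⟨(n : G), hNH n.2⟩)) (χ : G → ℂ) (hχ : Cfsg.IsIrrCharacter G χ) : ∃ (U : Subgroup G) (lam : U → ℂ), Cfsg.IsCharacter U lam ∧ lam 1 = 1 ∧ Cfsg.indFun U lam = χ := by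
  classical
  obtain ⟨H, hNH, ψ, hψ, hψind, hψN⟩ := hrel χ hχ
  have : Fintype H := Fintype.ofFinite H
  have hA : AGroup ↥N := hab
  have hA' : AGroup ↥(N.subgroupOf H) :=
    AGroup.of_injective hA (Subgroup.subgroupOfEquivOfLe hNH).toMonoidHom
      (Subgroup.subgroupOfEquivOfLe hNH).injective
  have hψN' : Cfsg.IsIrrCharacter ↥(N.subgroupOf H) (fun x : ↥(N.subgroupOf H) => ψ x) := by
    have := isIrrCharacter_comp_equiv (Subgroup.subgroupOfEquivOfLe hNH) hψN
    convert this using 1
    funext x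
    rfl
  obtain ⟨S, lam, hlam, hlam1, hlamind⟩ :=
    key (Fintype.card H) H (N.subgroupOf H) rfl hA' ψ hψ hψN'
  let eS : S ≃* S.map H.subtype := S.equivMapOfInjective H.subtype H.subtype_injective
  have hle : S.map H.subtype ≤ H := Subgroup.map_subtype_le S
  have heS : ∀ (t : H) (ht : t ∈ S) (ht' : (t : G) ∈ S.map H.subtype),
      eS.symm ⟨(t : G), ht'⟩ = ⟨t, ht⟩ := by
    intro t ht ht'
    rw [MulEquiv.symm_apply_eq]
    apply Subtype.ext
    rfl
  refine ⟨S.map H.subtype, lam ∘ eS.symm, IsCharacter.comp hlam eS.symm.toMonoidHom, ?_, ?_⟩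
  · simp only [Function.comp_apply, map_one]
    exact hlam1
  · rw [← hψind, ← hlamind, ← indFun_trans (S.map H.subtype) H hle]
    congr 1
    have hSeq : (S.map H.subtype).subgroupOf H = S :=
      Subgroup.comap_map_eq_self_of_injective H.subtype_injective S
    apply MGroup.indFun_congr hSeq
    intro t ht ht'
    simp only [Function.comp_apply]
    rw [heS t ht' (Subgroup.mem_subgroupOf.mp ht)]

end Cfsg.Agent.S0859
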