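import Mathlib
import Cfsg.Statements.S0860
import Cfsg.Agent.Lib.Helper2.Column
import Cfsg.Agent.Lib.Helper7.ClassCount
import Cfsg.Agent.Lib.Helper7.Orbits2

set_option autoImplicit false
open Cfsg

namespace Cfsg.Agent.S0860

open Cfsg.Agent.Lib.Helper2 Cfsg.Agent.Lib.Helper7
open scoped ComplexConjugate

/-- Summing a class function weighted by centralizer orders. -/
theorem h7_sum_classes {G : Type*} [Group G] [Fintype G] [DecidableEq (ConjClasses G)]
    [Fintype (ConjClasses G)] (F : ConjClasses G → ℂ) :
    ∑ g : G, F (ConjClasses.mk g) * (Nat.card (Subgroup.centralizer ({g} : Set G)) : ℂ) =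
      (Nat.card G : ℂ) * ∑ C : ConjClasses G, F C := by
  classical
  rw [← Finset.sum_fiberwise Finset.univ (fun g : G => ConjClasses.mk g), Finset.mul_sum]
  apply Finset.sum_congr rfl
  intro C _
  obtain ⟨g₀, rfl⟩ := ConjClasses.exists_rep C
  have h1 : ∀ g ∈ Finset.univ.filter (fun g : G => ConjClasses.mk g = ConjClasses.mk g₀),
      F (ConjClasses.mk g) * (Nat.card (Subgroup.centralizer ({g} : Set G)) : ℂ) =
      F (ConjClasses.mk g₀) * (Nat.card (Subgroup.centralizer ({g₀} : Set G)) : ℂ) := by
    intro g hg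
    rw [Finset.mem_filter] at hg
    have hc : IsConj g₀ g := (ConjClasses.mk_eq_mk_iff_isConj.mp hg.2).symm
    rw [hg.2, card_centralizer_eq_of_isConj hc]
  rw [Finset.sum_congr rfl h1, Finset.sum_const, nsmul_eq_mul]
  have h2 : (Finset.univ.filter (fun g : G => ConjClasses.mk g = ConjClasses.mk g₀)).card =
      Nat.card {y : G // IsConj g₀ y} := by
    rw [Nat.card_eq_fintype_card, Fintype.card_subtype]
    congr 1
    ext g
    simp only [Finset.mem_filter, Finset.mem_univ, true_and]
    rw [ConjClasses.mk_eq_mk_iff_isConj]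
    exact ⟨fun h => h.symm, fun h => h.symm⟩
  rw [h2]
  have h3 := card_isConj_mul_card_centralizer g₀
  have h4 : (Nat.card {y : G // IsConj g₀ y} : ℂ) *
      (Nat.card (Subgroup.centralizer ({g₀} : Set G)) : ℂ) = (Nat.card G : ℂ) := by
    exact_mod_cast h3
  rw [← h4]; ring

/-- Let a group A act on the set of irreducible characters and on the set of conjugacy classes of a finite group G in such a way that (a • χ) evaluated on the class a • C equals χ evaluated on C, for all a, χ and C. Then every element of A fixes exactly as many irreducible characters as it fixes conjugacy classes. -/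
theorem result {G : Type*} [Group G] [Finite G] {A : Type*} [Group A] [MulAction A (Cfsg.IrrCharacter G)] [MulAction A (ConjClasses G)] (hcompat : ∀ (a : A) (χ : Cfsg.IrrCharacter G) (g g' : G), ConjClasses.mk g' = a • ConjClasses.mk g → ((a • χ : Cfsg.IrrCharacter G) : G → ℂ) g' = (χ : G → ℂ) g) (a : A) : Nat.card {χ : Cfsg.IrrCharacter G // a • χ = χ} = Nat.card {C : ConjClasses G // a • C = C} := by
  classical
  have : Fintype G := Fintype.ofFinite G
  have : Fintype (Cfsg.IrrCharacter G) := Fintype.ofFinite _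
  have : Fintype (ConjClasses G) := Fintype.ofFinite _
  -- representative map
  let τ : G → G := fun g => Classical.choose (ConjClasses.exists_rep (a⁻¹ • ConjClasses.mk g))
  have hτ' : ∀ g : G, ConjClasses.mk (τ g) = a⁻¹ • ConjClasses.mk g := fun g =>
    Classical.choose_spec (ConjClasses.exists_rep (a⁻¹ • ConjClasses.mk g))
  have hτ : ∀ g : G, ConjClasses.mk g = a • ConjClasses.mk (τ g) := by
    intro g
    rw [hτ' g, smul_inv_smul]
  have hval : ∀ (χ : Cfsg.IrrCharacter G) (g : G),
      ((a • χ : Cfsg.IrrCharacter G) : G → ℂ) g = (χ : G → ℂ) (τ g) :=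
    fun χ g => hcompat a χ (τ g) g (hτ g)
  have hGne : (Nat.card G : ℂ) ≠ 0 := card_ne_zero_complex
  -- count of fixed characters
  have h1 : (Nat.card {χ : Cfsg.IrrCharacter G // a • χ = χ} : ℂ) =
      ∑ χ : Cfsg.IrrCharacter G, Cfsg.classInner ((a • χ : Cfsg.IrrCharacter G) : G → ℂ) (χ : G → ℂ) := by
    rw [Nat.card_eq_fintype_card, Fintype.card_subtype]
    rw [Finset.card_filter]
    push_cast
    apply Finset.sum_congr rfl
    intro χ _
    rw [classInner_irrCharacter]
  have h2 : ∑ χ : Cfsg.IrrCharacter G, Cfsg.classInner ((a • χ : Cfsg.IrrCharacter G) : G → ℂ) (χ : G → ℂ) =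
      (Nat.card G : ℂ)⁻¹ * ∑ g : G, (if IsConj (τ g) g then
        (Nat.card (Subgroup.centralizer ({τ g} : Set G)) : ℂ) else 0) := by
    simp only [Cfsg.classInner]
    rw [← Finset.mul_sum, Finset.sum_comm]
    congr 1
    apply Finset.sum_congr rfl
    intro g _
    rw [← column_orthogonality (τ g) g]
    apply Finset.sum_congr rfl
    intro χ _
    rw [hval]
  have h3 : ∀ g : G, (if IsConj (τ g) g then
        (Nat.card (Subgroup.centralizer ({τ g} : Set G)) : ℂ) else 0) =
      (if a⁻¹ • ConjClasses.mk g = ConjClasses.mk g then (1 : ℂ) else 0) *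
        (Nat.card (Subgroup.centralizer ({g} : Set G)) : ℂ) := by
    intro g
    have hiff : IsConj (τ g) g ↔ a⁻¹ • ConjClasses.mk g = ConjClasses.mk g := by
      rw [← ConjClasses.mk_eq_mk_iff_isConj, hτ' g]
    by_cases h : IsConj (τ g) g
    · rw [if_pos h, if_pos (hiff.mp h), one_mul, card_centralizer_eq_of_isConj h]
    · rw [if_neg h, if_neg (fun h' => h (hiff.mpr h')), zero_mul]
  have h4 : (Nat.card {χ : Cfsg.IrrCharacter G // a • χ = χ} : ℂ) =
      (Nat.card {C : ConjClasses G // a • C = C} : ℂ) := by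
    rw [h1, h2, Finset.sum_congr rfl (fun g _ => h3 g),
      h7_sum_classes (fun C => if a⁻¹ • C = C then (1 : ℂ) else 0),
      ← mul_assoc, inv_mul_cancel₀ hGne, one_mul]
    rw [Nat.card_eq_fintype_card, Fintype.card_subtype, Finset.card_filter]
    push_cast
    apply Finset.sum_congr rfl
    intro C _
    have : a⁻¹ • C = C ↔ a • C = C := by
      constructor
      · intro h; rw [inv_smul_eq_iff] at h; exact h.symm
      · intro h; rw [inv_smul_eq_iff]; exact h.symm
    simp only [this]
  exact_mod_cast h4

end Cfsg.Agent.S0860
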