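import Mathlib
import Cfsg.Prelude.Def_Blocks
import Cfsg.Agent.Lib.Helper24.GaloisProd
import Cfsg.Agent.Lib.Helper2.Orthogonality
import Cfsg.Agent.Lib.Helper25.CharBasic

set_option autoImplicit false

namespace Cfsg

namespace Agent.S4574

open Cfsg.Agent.Lib.Helper24
open scoped ComplexConjugate

/-- Equality case of the triangle inequality for unit complex numbers. -/
theorem all_eq_of_norm_sum_eq (n : ℕ) (μ : Fin n → ℂ) (hμ : ∀ i, ‖μ i‖ = 1)
    (h : ‖∑ i, μ i‖ = (n : ℝ)) : ∀ i j, μ i = μ j := by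
  rcases Nat.eq_zero_or_pos n with h0 | hpos
  · subst h0; intro i; exact i.elim0
  have hn : (0 : ℝ) < (n : ℝ) := by exact_mod_cast hpos
  set s : ℂ := ∑ i, μ i with hs
  set c : ℂ := s / (n : ℂ) with hc
  have hcn : ‖c‖ = 1 := by
    rw [hc, norm_div, h, Complex.norm_natCast, div_self hn.ne']
  have hcc : conj c * c = 1 := by
    rw [mul_comm, Complex.mul_conj, Complex.normSq_eq_norm_sq, hcn]; simp
  -- each Re (conj c * μ i) ≤ 1 and they sum to n
  have hle : ∀ i, (conj c * μ i).re ≤ 1 := by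
    intro i
    calc (conj c * μ i).re ≤ ‖conj c * μ i‖ := Complex.re_le_norm _
      _ = 1 := by rw [norm_mul, Complex.norm_conj, hcn, hμ i, one_mul]
  have hsum : ∑ i, (conj c * μ i).re = (n : ℝ) := by
    rw [← Complex.re_sum, ← Finset.mul_sum, ← hs]
    have hnC : (n : ℂ) ≠ 0 := by exact_mod_cast hpos.ne'
    have : s = (n : ℂ) * c := by
      rw [hc, mul_div_cancel₀ _ hnC]
    rw [this, ← mul_assoc, mul_comm (conj c), mul_assoc, hcc, mul_one]
    simp
  have heq : ∀ i, (conj c * μ i).re = 1 := by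
    by_contra hcon
    push Not at hcon
    obtain ⟨i0, hi0⟩ := hcon
    have hlt : (conj c * μ i0).re < 1 := lt_of_le_of_ne (hle i0) hi0
    have : ∑ i, (conj c * μ i).re < ∑ _i : Fin n, (1 : ℝ) :=
      Finset.sum_lt_sum (fun i _ => hle i) ⟨i0, Finset.mem_univ _, hlt⟩
    rw [hsum] at this
    simp at this
  have hone : ∀ i, conj c * μ i = 1 := by
    intro i
    have h1 : ‖conj c * μ i‖ = 1 := by rw [norm_mul, Complex.norm_conj, hcn, hμ i, one_mul]
    have h2 := heq i
    apply Complex.ext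
    · rw [h2, Complex.one_re]
    · have h3 : ‖conj c * μ i‖ ^ 2 = 1 := by rw [h1]; ring
      rw [← Complex.normSq_eq_norm_sq, Complex.normSq_apply, h2] at h3
      have h4 : (conj c * μ i).im * (conj c * μ i).im = 0 := by linarith
      rw [Complex.one_im]
      exact mul_self_eq_zero.mp h4
  have hμc : ∀ i, μ i = c := by
    intro i
    calc μ i = (c * conj c) * μ i := by rw [mul_comm c, hcc, one_mul]
      _ = c * (conj c * μ i) := by ring
      _ = c := by rw [hone i, mul_one]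
  intro i j
  rw [hμc i, hμc j]

section

variable {G : Type*} [Group G] [Fintype G]
variable {V : Type*} [AddCommGroup V] [Module ℂ V] [FiniteDimensional ℂ V]

theorem galois_bound (ρ : Representation ℂ G V) [NeZero (Nat.card G)] (g : G)
    (h : ρ.character g ≠ 0) :
    (∀ k : (ZMod (Nat.card G))ˣ, ρ.character (g ^ (k : ZMod (Nat.card G)).val) ≠ 0) ∧
    (Fintype.card (ZMod (Nat.card G))ˣ : ℝ) ≤ ∑ k : (ZMod (Nat.card G))ˣ,
      ‖ρ.character (g ^ (k : ZMod (Nat.card G)).val)‖ ^ 2 := by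
  obtain ⟨μ, hμ, h1, _⟩ := Cfsg.Agent.Lib.Helper2.exists_eigenvalues ρ g
  have hμe : ∀ i, μ i ^ Nat.card G = 1 := by
    intro i
    obtain ⟨c, hc⟩ := orderOf_dvd_natCard g
    rw [hc, pow_mul, hμ i, one_pow]
  have h0 : (∑ i, μ i) ≠ 0 := by
    have := h1 1
    rw [pow_one] at this
    simp only [pow_one] at this
    rw [← this]; exact h
  obtain ⟨ha, hb⟩ := card_units_le_sum_normSq (Nat.card G) _ μ hμe h0
  simp only [← h1] at ha hb
  exact ⟨ha, hb⟩

theorem norm_pow_eq (ρ : Representation ℂ G V) (g : G)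
    (h : ‖ρ.character g‖ = (Module.finrank ℂ V : ℝ)) (k : ℕ) :
    ‖ρ.character (g ^ k)‖ = (Module.finrank ℂ V : ℝ) := by
  obtain ⟨μ, hμ, h1, _⟩ := Cfsg.Agent.Lib.Helper2.exists_eigenvalues ρ g
  have hμn : ∀ i, ‖μ i‖ = 1 := fun i =>
    Complex.norm_eq_one_of_pow_eq_one (hμ i) (orderOf_pos g).ne'
  have h2 := h1 1
  simp only [pow_one] at h2
  rw [h2] at h
  have hall := all_eq_of_norm_sum_eq _ μ hμn h
  rw [h1 k]
  rcases Nat.eq_zero_or_pos (Module.finrank ℂ V) with h0 | hpos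
  · have : IsEmpty (Fin (Module.finrank ℂ V)) := by rw [h0]; infer_instance
    simp [h0]
  · let i0 : Fin (Module.finrank ℂ V) := ⟨0, hpos⟩
    have : ∀ i, μ i ^ k = μ i0 ^ k := fun i => by rw [hall i i0]
    rw [Finset.sum_congr rfl (fun i _ => this i), Finset.sum_const, Finset.card_univ,
      Fintype.card_fin, nsmul_eq_mul, norm_mul, norm_pow, hμn, one_pow, mul_one,
      Complex.norm_natCast]

theorem pow_pow_inv [NeZero (Nat.card G)] (k : (ZMod (Nat.card G))ˣ) (g : G) :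
    (g ^ (k : ZMod (Nat.card G)).val) ^ ((k⁻¹ : (ZMod (Nat.card G))ˣ) : ZMod (Nat.card G)).val
      = g := by
  rw [← pow_mul, ← pow_mod_natCard, ← ZMod.val_mul, ← Units.val_mul, mul_inv_cancel,
    Units.val_one, ZMod.val_one_eq_one_mod, pow_mod_natCard, pow_one]

/-- the power map as a permutation of `G` -/
noncomputable def powPerm [NeZero (Nat.card G)] (k : (ZMod (Nat.card G))ˣ) : G ≃ G where
  toFun g := g ^ (k : ZMod (Nat.card G)).val
  invFun g := g ^ ((k⁻¹ : (ZMod (Nat.card G))ˣ) : ZMod (Nat.card G)).val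
  left_inv g := pow_pow_inv k g
  right_inv g := by
    have := pow_pow_inv k⁻¹ g
    rwa [inv_inv] at this

open Classical in
/-- The key inequality on the set `W` of elements where `χ` is neither zero nor of full norm. -/
theorem card_W_le (ρ : Representation ℂ G V) :
    ((Finset.univ.filter (fun g : G => ρ.character g ≠ 0 ∧
        ‖ρ.character g‖ ≠ (Module.finrank ℂ V : ℝ))).card : ℝ)
      ≤ ∑ g ∈ Finset.univ.filter (fun g : G => ρ.character g ≠ 0 ∧
        ‖ρ.character g‖ ≠ (Module.finrank ℂ V : ℝ)), ‖ρ.character g‖ ^ 2 := by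
  haveI : NeZero (Nat.card G) := ⟨Nat.card_pos.ne'⟩
  set W := Finset.univ.filter (fun g : G => ρ.character g ≠ 0 ∧
        ‖ρ.character g‖ ≠ (Module.finrank ℂ V : ℝ)) with hW
  -- stability of W under power maps
  have hstab1 : ∀ (k : (ZMod (Nat.card G))ˣ) (g : G), g ∈ W → powPerm k g ∈ W := by
    intro k g hg
    rw [hW, Finset.mem_filter] at hg ⊢
    refine ⟨Finset.mem_univ _, (galois_bound ρ g hg.2.1).1 k, ?_⟩
    intro h
    apply hg.2.2
    have := norm_pow_eq ρ (powPerm k g) h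
      ((k⁻¹ : (ZMod (Nat.card G))ˣ) : ZMod (Nat.card G)).val
    rwa [show powPerm k g = g ^ (k : ZMod (Nat.card G)).val from rfl, pow_pow_inv] at this
  have hstab : ∀ (k : (ZMod (Nat.card G))ˣ) (g : G), g ∈ W ↔ powPerm k g ∈ W := by
    intro k g
    refine ⟨hstab1 k g, fun h => ?_⟩
    have := hstab1 k⁻¹ _ h
    rwa [show powPerm k⁻¹ (powPerm k g) = g from pow_pow_inv k g] at this
  set φ : ℝ := (Fintype.card (ZMod (Nat.card G))ˣ : ℝ) with hφ
  have hφpos : 0 < φ := by
    rw [hφ]; exact_mod_cast Fintype.card_pos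
  -- double sum
  have h1 : φ * ∑ g ∈ W, ‖ρ.character g‖ ^ 2
      = ∑ g ∈ W, ∑ k : (ZMod (Nat.card G))ˣ,
          ‖ρ.character (g ^ (k : ZMod (Nat.card G)).val)‖ ^ 2 := by
    rw [Finset.sum_comm]
    rw [hφ, ← nsmul_eq_mul, ← Finset.card_univ, ← Finset.sum_const]
    apply Finset.sum_congr rfl; intro k _
    symm
    apply Finset.sum_equiv (powPerm k)
    · intro g; exact hstab k g
    · intro g _; rfl
  have h2 : ∑ g ∈ W, φ ≤ ∑ g ∈ W, ∑ k : (ZMod (Nat.card G))ˣ,
          ‖ρ.character (g ^ (k : ZMod (Nat.card G)).val)‖ ^ 2 := by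
    apply Finset.sum_le_sum
    intro g hg
    rw [hW, Finset.mem_filter] at hg
    exact (galois_bound ρ g hg.2.1).2
  rw [← h1, Finset.sum_const, nsmul_eq_mul, mul_comm] at h2
  exact le_of_mul_le_mul_left h2 hφpos

end

section Main

variable {G : Type*} [Group G] [Fintype G]

open Classical in
theorem main_real {n : ℕ} (ρ : Representation ℂ G (Fin n → ℂ)) (hirr : ρ.IsIrreducible)
    (hn : 1 ≤ n) (Z V : Finset G) (hZ : ∀ g, g ∈ Z ↔ ‖ρ.character g‖ = (n : ℝ))
    (hV : ∀ g, g ∈ V ↔ ρ.character g = 0) :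
    ((n : ℝ) ^ 2 - 1) * (Z.card : ℝ) ≤ (V.card : ℝ) ∧
    ((∀ g : G, ‖ρ.character g‖ = 0 ∨ ‖ρ.character g‖ = 1 ∨ ‖ρ.character g‖ = (n : ℝ)) →
      ((n : ℝ) ^ 2 - 1) * (Z.card : ℝ) = (V.card : ℝ)) := by
  have hfin : (Module.finrank ℂ (Fin n → ℂ) : ℝ) = (n : ℝ) := by
    rw [Module.finrank_fin_fun]
  set W := Finset.univ.filter (fun g : G => ρ.character g ≠ 0 ∧
        ‖ρ.character g‖ ≠ (Module.finrank ℂ (Fin n → ℂ) : ℝ)) with hW
  have hWmem : ∀ g, g ∈ W ↔ ρ.character g ≠ 0 ∧ ‖ρ.character g‖ ≠ (n : ℝ) := by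
    intro g; rw [hW, Finset.mem_filter, hfin]; simp
  have hnR : (1 : ℝ) ≤ (n : ℝ) := by exact_mod_cast hn
  -- disjointness
  have hZV : Disjoint Z V := by
    rw [Finset.disjoint_left]
    intro g hgZ hgV
    rw [hZ] at hgZ; rw [hV] at hgV
    rw [hgV, norm_zero] at hgZ
    linarith
  have hZW : Disjoint Z W := by
    rw [Finset.disjoint_left]
    intro g hgZ hgW
    rw [hZ] at hgZ; rw [hWmem] at hgW
    exact hgW.2 hgZ
  have hVW : Disjoint V W := by
    rw [Finset.disjoint_left]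
    intro g hgV hgW
    rw [hV] at hgV; rw [hWmem] at hgW
    exact hgW.1 hgV
  have hunion : Finset.univ = (Z ∪ V) ∪ W := by
    ext g
    simp only [Finset.mem_univ, Finset.mem_union, true_iff, hZ, hV, hWmem]
    by_cases h1 : ‖ρ.character g‖ = (n : ℝ)
    · exact Or.inl (Or.inl h1)
    · by_cases h2 : ρ.character g = 0
      · exact Or.inl (Or.inr h2)
      · exact Or.inr ⟨h2, h1⟩
  have hdisj : Disjoint (Z ∪ V) W := Finset.disjoint_union_left.mpr ⟨hZW, hVW⟩
  have hcard : (Fintype.card G : ℝ) = (Z.card : ℝ) + (V.card : ℝ) + (W.card : ℝ) := by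
    rw [← Finset.card_univ, hunion, Finset.card_union_of_disjoint hdisj,
      Finset.card_union_of_disjoint hZV]
    push_cast; ring
  -- the norm square sum
  have hsum : ∑ g : G, ‖ρ.character g‖ ^ 2 = (Fintype.card G : ℝ) := by
    have h := Cfsg.Agent.Lib.Helper2.classInner_irr_self ρ
    rw [Cfsg.Agent.Lib.Helper2.classInner_def] at h
    have hGne : (Nat.card G : ℂ) ≠ 0 := Cfsg.Agent.Lib.Helper2.card_ne_zero_complex
    have h2 : ∑ g : G, ρ.character g * conj (ρ.character g) = (Nat.card G : ℂ) := by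
      field_simp at h
      exact h
    have h3 : ∀ g : G, ρ.character g * conj (ρ.character g)
        = ((‖ρ.character g‖ ^ 2 : ℝ) : ℂ) := by
      intro g
      rw [Complex.mul_conj, Complex.normSq_eq_norm_sq]
    rw [Finset.sum_congr rfl (fun g _ => h3 g), ← Complex.ofReal_sum,
      Nat.card_eq_fintype_card] at h2
    exact_mod_cast h2
  have hsplit : ∑ g : G, ‖ρ.character g‖ ^ 2
      = (n : ℝ) ^ 2 * (Z.card : ℝ) + ∑ g ∈ W, ‖ρ.character g‖ ^ 2 := by
    rw [hunion, Finset.sum_union hdisj, Finset.sum_union hZV]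
    have h1 : ∑ g ∈ Z, ‖ρ.character g‖ ^ 2 = (n : ℝ) ^ 2 * (Z.card : ℝ) := by
      rw [Finset.sum_congr rfl (fun g hg => by rw [(hZ g).mp hg]), Finset.sum_const,
        nsmul_eq_mul, mul_comm]
    have h2 : ∑ g ∈ V, ‖ρ.character g‖ ^ 2 = 0 := by
      apply Finset.sum_eq_zero
      intro g hg
      rw [(hV g).mp hg, norm_zero]; ring
    rw [h1, h2, add_zero]
  have hWle := card_W_le ρ
  rw [← hW] at hWle
  constructor
  · nlinarith
  · intro hall
    have hWeq : ∑ g ∈ W, ‖ρ.character g‖ ^ 2 = (W.card : ℝ) := by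
      have : ∀ g ∈ W, ‖ρ.character g‖ ^ 2 = 1 := by
        intro g hg
        rw [hWmem] at hg
        rcases hall g with h | h | h
        · exact absurd (norm_eq_zero.mp h) hg.1
        · rw [h]; ring
        · exact absurd h hg.2
      rw [Finset.sum_congr rfl this, Finset.sum_const, nsmul_eq_mul, mul_one]
    nlinarith

end Main

theorem result {G : Type*} [Group G] [Fintype G] [DecidableEq G] (χ : G → ℂ) (hχ : Cfsg.IsIrrCharacter G χ) : (Cfsg.charDegree χ ^ 2 - 1) * (Finset.univ.filter (fun g : G => ‖χ g‖ = (Cfsg.charDegree χ : ℝ))).card ≤ (Finset.univ.filter (fun g : G => χ g = 0)).card ∧ ((∀ g : G, ‖χ g‖ = 0 ∨ ‖χ g‖ = 1 ∨ ‖χ g‖ = (Cfsg.charDegree χ : ℝ)) → (Cfsg.charDegree χ ^ 2 - 1) * (Finset.univ.filter (fun g : G => ‖χ g‖ = (Cfsg.charDegree χ : ℝ))).card = (Finset.univ.filter (fun g : G => χ g = 0)).card) := by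
  have hpos := Cfsg.Agent.Lib.Helper25.irr_degree_pos hχ
  obtain ⟨n, ρ, hirr, rfl⟩ := hχ
  rw [Cfsg.Agent.Lib.Helper25.charDegree_rep] at hpos ⊢
  have hmain := main_real ρ hirr hpos
    (Finset.univ.filter (fun g : G => ‖ρ.character g‖ = (n : ℝ)))
    (Finset.univ.filter (fun g : G => ρ.character g = 0))
    (fun g => by simp) (fun g => by simp)
  have hcast : ((n ^ 2 - 1 : ℕ) : ℝ) = (n : ℝ) ^ 2 - 1 := by
    have : 1 ≤ n ^ 2 := Nat.one_le_pow _ _ hpos
    rw [Nat.cast_sub this]; push_cast; ring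
  constructor
  · have h1 := hmain.1
    rw [← hcast] at h1
    exact_mod_cast h1
  · intro hall
    have h1 := hmain.2 hall
    rw [← hcast] at h1
    exact_mod_cast h1

end Agent.S4574

end Cfsg
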