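import Cfsg.Statements.S0861
import Cfsg.Agent.S4574
import Cfsg.Agent.Lib.Helper2.Ito
import Cfsg.Agent.Lib.Helper2.Column
import Cfsg.Agent.Lib.Helper2.Regular
import Cfsg.Agent.Lib.Helper7.PCongr
import Cfsg.Agent.Lib.Helper7.LinearChar
import Cfsg.Agent.Lib.Helper24.Loc
import Cfsg.Agent.Lib.Helper25.Kernel
import Cfsg.Agent.Lib.Helper25.EvenDegree
import Cfsg.Agent.Lib.Helper2.BurnsidePQ

set_option autoImplicit false
open Cfsg
open Cfsg.Agent.Lib.Helper7 Cfsg.Agent.Lib.Helper2 Cfsg.Agent.Lib.Helper24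
open scoped ComplexConjugate

namespace Cfsg.Agent.S0861

/-- Let P be a normal abelian Sylow p-subgroup of the finite group G and suppose some element g of P has centralizer exactly P. Then the number of irreducible characters of G is at most the order of P, and if equality holds then G / P is abelian (the commutator subgroup lies in P). -/
theorem result {G : Type*} [Group G] [Finite G] (p : ℕ) [Fact p.Prime] (P : Sylow p G) [(P : Subgroup G).Normal] (hab : ∀ a ∈ P, ∀ b ∈ P, a * b = b * a) (g : G) (hg : g ∈ P) (hC : Subgroup.centralizer ({g} : Set G) = P) : Nat.card (Cfsg.IrrCharacter G) ≤ Nat.card P ∧ (Nat.card (Cfsg.IrrCharacter G) = Nat.card P → commutator G ≤ P) := by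
  classical
  letI : Fintype G := Fintype.ofFinite G
  letI : Fintype (Cfsg.IrrCharacter G) := Fintype.ofFinite _
  haveI : NeZero (Nat.card G) := ⟨Nat.card_pos.ne'⟩
  have hp : p.Prime := Fact.out
  obtain ⟨M, hM⟩ := Cfsg.Agent.Lib.Helper25.exists_isPModular p hp
  -- (1) no irreducible character vanishes at `g`
  have hne : ∀ χ : Cfsg.IrrCharacter G, (χ : G → ℂ) g ≠ 0 := by
    intro χ h0
    obtain ⟨d, hd, hdvd⟩ := ito_aux (Nat.card G) G rfl (χ : G → ℂ) χ.2 (P : Subgroup G)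
      (fun a ha b hb => hab a ha b hb)
    have hpd : ¬ p ∣ d := fun h => P.not_dvd_index (h.trans hdvd)
    obtain ⟨k, hk⟩ := (IsPGroup.iff_orderOf.mp P.isPGroup') ⟨g, hg⟩
    have hk' : orderOf g = p ^ k := by rw [← hk, Subgroup.orderOf_mk]
    have h1 := char_mul_sub_memLocalIdeal hM (χ : G → ℂ) (IsIrrCharacter.isCharacter χ.2) g 1
      (by simp) ⟨k, hk'⟩
    rw [mul_one, h0, hd, zero_sub] at h1
    have h2 := memLocalIdeal_neg h1
    rw [neg_neg] at h2
    exact hpd ((memLocalIdeal_natCast_iff hM d).mp h2)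
  -- (2) centralizers of the powers
  have hCk : ∀ k : (ZMod (Nat.card G))ˣ,
      Subgroup.centralizer ({g ^ (k : ZMod (Nat.card G)).val} : Set G) = P := by
    intro k
    apply le_antisymm
    · intro x hx
      rw [← hC, Subgroup.mem_centralizer_iff]
      intro y hy
      rw [Set.mem_singleton_iff] at hy
      rw [hy]
      have h1 : x * g ^ (k : ZMod (Nat.card G)).val = g ^ (k : ZMod (Nat.card G)).val * x :=
        ((Subgroup.mem_centralizer_iff.mp hx) _ rfl).symm
      have h2 : Commute x (g ^ (k : ZMod (Nat.card G)).val) := h1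
      have h3 := h2.pow_right ((k⁻¹ : (ZMod (Nat.card G))ˣ) : ZMod (Nat.card G)).val
      rw [Cfsg.Agent.S4574.pow_pow_inv] at h3
      exact h3.eq.symm
    · rw [← hC]
      intro x hx
      rw [Subgroup.mem_centralizer_iff] at hx ⊢
      intro y hy
      rw [Set.mem_singleton_iff] at hy
      rw [hy]
      have h2 : Commute x g := (hx g rfl).symm
      exact (h2.pow_right _).eq.symm
  -- (3) column orthogonality
  have hcol : ∀ k : (ZMod (Nat.card G))ˣ,
      ∑ χ : Cfsg.IrrCharacter G, ‖(χ : G → ℂ) (g ^ (k : ZMod (Nat.card G)).val)‖ ^ 2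
        = (Nat.card P : ℝ) := by
    intro k
    have h1 := column_orthogonality (g ^ (k : ZMod (Nat.card G)).val)
      (g ^ (k : ZMod (Nat.card G)).val)
    rw [if_pos (IsConj.refl _), hCk k] at h1
    have h2 : ((∑ χ : Cfsg.IrrCharacter G,
        ‖(χ : G → ℂ) (g ^ (k : ZMod (Nat.card G)).val)‖ ^ 2 : ℝ) : ℂ) = ((Nat.card P : ℝ) : ℂ) := by
      push_cast
      rw [← h1]
      apply Finset.sum_congr rfl
      intro χ _
      rw [Complex.mul_conj, Complex.normSq_eq_norm_sq]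
      push_cast
      rfl
    exact Complex.ofReal_injective h2
  -- (4) Galois bound for each character
  have hgal : ∀ χ : Cfsg.IrrCharacter G,
      (Fintype.card (ZMod (Nat.card G))ˣ : ℝ) ≤ ∑ k : (ZMod (Nat.card G))ˣ,
        ‖(χ : G → ℂ) (g ^ (k : ZMod (Nat.card G)).val)‖ ^ 2 := by
    intro χ
    obtain ⟨n, ρ, hρ, hρχ⟩ := χ.2
    have := (Cfsg.Agent.S4574.galois_bound ρ g (by rw [hρχ]; exact hne χ)).2
    rw [hρχ] at this
    exact this
  set φ := (Fintype.card (ZMod (Nat.card G))ˣ : ℝ) with hφ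
  have hφpos : 0 < φ := by
    rw [hφ]
    exact_mod_cast Fintype.card_pos
  have hdouble : ∑ χ : Cfsg.IrrCharacter G, ∑ k : (ZMod (Nat.card G))ˣ,
      ‖(χ : G → ℂ) (g ^ (k : ZMod (Nat.card G)).val)‖ ^ 2 = φ * (Nat.card P : ℝ) := by
    rw [Finset.sum_comm, Finset.sum_congr rfl (fun k _ => hcol k), Finset.sum_const,
      Finset.card_univ, nsmul_eq_mul]
  have hcardIrr : (Nat.card (Cfsg.IrrCharacter G) : ℝ) * φ ≤ φ * (Nat.card P : ℝ) := by
    rw [← hdouble, Nat.card_eq_fintype_card, ← Finset.card_univ, ← nsmul_eq_mul,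
      ← Finset.sum_const]
    exact Finset.sum_le_sum (fun χ _ => hgal χ)
  have hle : (Nat.card (Cfsg.IrrCharacter G) : ℝ) ≤ (Nat.card P : ℝ) := by
    rw [mul_comm] at hcardIrr
    exact le_of_mul_le_mul_left hcardIrr hφpos
  refine ⟨by exact_mod_cast hle, ?_⟩
  intro heq
  -- equality: each Galois sum equals `φ`
  have heach : ∀ χ : Cfsg.IrrCharacter G, ∑ k : (ZMod (Nat.card G))ˣ,
      ‖(χ : G → ℂ) (g ^ (k : ZMod (Nat.card G)).val)‖ ^ 2 = φ := by
    have hsum0 : ∑ χ : Cfsg.IrrCharacter G, ((∑ k : (ZMod (Nat.card G))ˣ,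
        ‖(χ : G → ℂ) (g ^ (k : ZMod (Nat.card G)).val)‖ ^ 2) - φ) = 0 := by
      rw [Finset.sum_sub_distrib, hdouble, Finset.sum_const, Finset.card_univ, nsmul_eq_mul,
        ← Nat.card_eq_fintype_card, heq]
      ring
    intro χ
    have := (Finset.sum_eq_zero_iff_of_nonneg (fun χ _ => sub_nonneg.mpr (hgal χ))).mp hsum0 χ
      (Finset.mem_univ _)
    linarith
  -- irreducible characters of `G ⧸ P` are linear
  letI : Fintype (G ⧸ (P : Subgroup G)) := Fintype.ofFinite _
  letI : Fintype (Cfsg.IrrCharacter (G ⧸ (P : Subgroup G))) := Fintype.ofFinite _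
  have hlin : ∀ ψ : Cfsg.IrrCharacter (G ⧸ (P : Subgroup G)),
      (ψ : G ⧸ (P : Subgroup G) → ℂ) 1 = 1 := by
    intro ψ
    have hinf := Cfsg.Agent.Lib.Helper25.isIrrCharacter_inflation (P : Subgroup G) ψ.2
    have h1 := heach ⟨_, hinf⟩
    have h2 : ∀ k : (ZMod (Nat.card G))ˣ,
        ‖(ψ : G ⧸ (P : Subgroup G) → ℂ) ((g ^ (k : ZMod (Nat.card G)).val : G) : G ⧸ (P : Subgroup G))‖ ^ 2
        = ‖(ψ : G ⧸ (P : Subgroup G) → ℂ) 1‖ ^ 2 := by
      intro k
      have : ((g ^ (k : ZMod (Nat.card G)).val : G) : G ⧸ (P : Subgroup G)) = 1 := by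
        rw [QuotientGroup.eq_one_iff]
        exact Subgroup.pow_mem _ hg _
      rw [this]
    have h3 : ∑ k : (ZMod (Nat.card G))ˣ,
        ‖(ψ : G ⧸ (P : Subgroup G) → ℂ) ((g ^ (k : ZMod (Nat.card G)).val : G) : G ⧸ (P : Subgroup G))‖ ^ 2
        = φ := h1
    rw [Finset.sum_congr rfl (fun k _ => h2 k), Finset.sum_const, Finset.card_univ,
      nsmul_eq_mul] at h3
    have h4 : ‖(ψ : G ⧸ (P : Subgroup G) → ℂ) 1‖ ^ 2 = 1 := by
      have : φ * ‖(ψ : G ⧸ (P : Subgroup G) → ℂ) 1‖ ^ 2 = φ * 1 := by rw [mul_one]; exact h3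
      exact mul_left_cancel₀ hφpos.ne' this
    have h5 := Cfsg.Agent.Lib.Helper25.char_one_eq_charDegree (IsIrrCharacter.isCharacter ψ.2)
    rw [h5, Complex.norm_natCast] at h4
    have h6 : (Cfsg.charDegree (ψ : G ⧸ (P : Subgroup G) → ℂ)) ^ 2 = 1 := by exact_mod_cast h4
    have h7 : Cfsg.charDegree (ψ : G ⧸ (P : Subgroup G) → ℂ) = 1 := by
      rcases Nat.pow_eq_one.mp h6 with h | h
      · exact h
      · omega
    rw [h5, h7]; simp
  rw [commutator_def, Subgroup.commutator_le]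
  intro a _ b _
  rw [← QuotientGroup.eq_one_iff, commutatorElement_def]
  set c : G ⧸ (P : Subgroup G) := ((a * b * a⁻¹ * b⁻¹ : G) : G ⧸ (P : Subgroup G)) with hc
  have hψc : ∀ ψ : Cfsg.IrrCharacter (G ⧸ (P : Subgroup G)),
      (ψ : G ⧸ (P : Subgroup G) → ℂ) c = 1 := by
    intro ψ
    have hch := IsIrrCharacter.isCharacter ψ.2
    have h1 := hlin ψ
    rw [hc, QuotientGroup.mk_mul, QuotientGroup.mk_mul,
      QuotientGroup.mk_mul, QuotientGroup.mk_inv, QuotientGroup.mk_inv,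
      linear_char_mul hch h1, linear_char_mul hch h1, linear_char_mul hch h1,
      linear_char_inv hch h1, linear_char_inv hch h1]
    have ha := linear_char_ne_zero hch h1 (a : G ⧸ (P : Subgroup G))
    have hb := linear_char_ne_zero hch h1 (b : G ⧸ (P : Subgroup G))
    field_simp
  have hsum := sum_irr_degree_mul (G := G ⧸ (P : Subgroup G)) c
  rw [Finset.sum_congr rfl (fun ψ _ => by rw [hlin ψ, hψc ψ, mul_one]), Finset.sum_const,
    Finset.card_univ, nsmul_eq_mul, mul_one] at hsum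
  by_contra hne1
  rw [if_neg hne1] at hsum
  have hpos : 0 < Fintype.card (Cfsg.IrrCharacter (G ⧸ (P : Subgroup G))) :=
    Fintype.card_pos_iff.mpr ⟨trivialIrr _⟩
  have : (Fintype.card (Cfsg.IrrCharacter (G ⧸ (P : Subgroup G))) : ℂ) ≠ 0 := by
    exact_mod_cast hpos.ne'
  exact this hsum

end Cfsg.Agent.S0861
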