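import Mathlib
import Cfsg.Statements.S0863
import Cfsg.Agent.Lib.Helper25.DetSolv

set_option autoImplicit false
open Cfsg Cfsg.Agent.Lib.Helper25 Cfsg.Agent.Lib.Helper7

namespace Cfsg.Agent.S0863

/-- Let N be a normal subgroup of the finite group G with G / N solvable, and ϑ an irreducible character of N, invariant under conjugation by G, of degree d coprime to the index of N. Then ϑ is the restriction of an irreducible character of G if and only if the determinantal character of ϑ is the restriction of a character of G of degree 1. -/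
theorem result {G : Type*} [Group G] [Finite G] (N : Subgroup G) [hN : N.Normal] (hsolv : Group.IsSolvable (G ⧸ N)) (ϑ : N → ℂ) (hϑ : Cfsg.IsIrrCharacter N ϑ) (hinv : ∀ (g : G) (n : N), ϑ ⟨g * n * g⁻¹, hN.conj_mem (n : G) n.2 g⟩ = ϑ n) (d : ℕ) (hd : ϑ 1 = d) (hcop : Nat.Coprime N.index d) : (∃ χ : G → ℂ, Cfsg.IsIrrCharacter G χ ∧ (∀ n : N, χ n = ϑ n)) ↔ ∃ μ : G → ℂ, Cfsg.IsCharacter G μ ∧ μ 1 = 1 ∧ ∀ n : N, μ n = Cfsg.detChar ϑ n := by
  constructor
  · rintro ⟨χ, hχ, hχN⟩
    have hχc := isCharacter_of_irr hχ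
    obtain ⟨h1, h2⟩ := detChar_isLinear hχc
    refine ⟨detChar χ, h1, h2, ?_⟩
    intro n
    have h3 := detChar_comp_hom N.subtype hχc
    have h4 : (fun k : N => χ (N.subtype k)) = ϑ := funext hχN
    rw [h4] at h3
    exact (congrFun h3 n).symm
  · rintro ⟨μ, hμ, hμ1, hμN⟩
    obtain ⟨μ', hμ'⟩ := Cfsg.Agent.Lib.Helper7.exists_hom_of_linear hμ hμ1
    have hμ'N : ∀ n : N, ((μ' n : ℂˣ) : ℂ) = detChar ϑ n := by
      intro n
      rw [← hμN n, ← hμ']
      rfl
    exact exists_ext_of_det_solvable N.index G N rfl hsolv ϑ hϑ hinv d hd hcop μ' hμ'N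

end Cfsg.Agent.S0863
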