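import Mathlib
import Cfsg.Statements.S0864
import Cfsg.Agent.Lib.Helper7.LinearExt

set_option autoImplicit false
open Cfsg

namespace Cfsg.Agent.S0864

open Cfsg.Agent.Lib.Helper7

theorem result {G : Type*} [Group G] [Finite G] (N : Subgroup G) [hN : N.Normal] (lam : N → ℂ) (hlam : Cfsg.IsCharacter N lam ∧ lam 1 = 1) (hinv : ∀ (g : G) (n : N), lam ⟨g * n * g⁻¹, hN.conj_mem (n : G) n.2 g⟩ = lam n) (hsyl : ∀ p : ℕ, p.Prime → p ∣ orderOf lam → ∃ (H : Subgroup G) (hNH : N ≤ H) (ν : H → ℂ), Nat.Coprime H.index p ∧ (∃ k : ℕ, N.relIndex H = p ^ k) ∧ Cfsg.IsCharacter H ν ∧ ν 1 = 1 ∧ ∀ n : N, ν ⟨(n : G), hNH n.2⟩ = lam n) : ∃ μ : G → ℂ, Cfsg.IsCharacter G μ ∧ μ 1 = 1 ∧ ∀ n : N, μ n = lam n := by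
  obtain ⟨φ, hφ⟩ := exists_hom_of_linear hlam.1 hlam.2
  have hφn : ∀ n : N, ((φ n : ℂˣ) : ℂ) = lam n := fun n => congrFun hφ n
  have hinv' : ∀ (g : G) (n : N), φ ⟨g * n * g⁻¹, hN.conj_mem (n : G) n.2 g⟩ = φ n := by
    intro g n
    apply Units.ext
    rw [hφn, hφn, hinv]
  have hord : orderOf lam = orderOf φ := by rw [← hφ, orderOf_coeFunHom]
  obtain ⟨μ, hμ⟩ := exists_extension_of_local N φ hinv' (by
    intro p hp hpm
    rw [← hord] at hpm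
    obtain ⟨H, hNH, ν, hcop, _, hνc, hν1, hνN⟩ := hsyl p hp hpm
    obtain ⟨ν', hν'⟩ := exists_hom_of_linear hνc hν1
    refine ⟨H, hNH, ν', hcop, fun n => ?_⟩
    apply Units.ext
    rw [hφn, ← hνN n, ← hν']
    rfl)
  refine ⟨coeFunHom G μ, (isCharacter_coeFunHom μ).1, (isCharacter_coeFunHom μ).2, fun n => ?_⟩
  rw [coeFunHom_apply, hμ n, hφn]

end Cfsg.Agent.S0864
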