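import Mathlib
import Cfsg.Statements.S0865
import Cfsg.Agent.Lib.Helper7.LinearExt

set_option autoImplicit false
open Cfsg

namespace Cfsg.Agent.S0865

open Cfsg.Agent.Lib.Helper7

theorem result {G : Type*} [Group G] [Finite G] (N : Subgroup G) [hN : N.Normal] (lam : N → ℂ) (hlam : Cfsg.IsCharacter N lam ∧ lam 1 = 1) (hinv : ∀ (g : G) (n : N), lam ⟨g * n * g⁻¹, hN.conj_mem (n : G) n.2 g⟩ = lam n) (hcop : Nat.Coprime N.index (orderOf lam)) : ∃ μ : G → ℂ, (Cfsg.IsCharacter G μ ∧ μ 1 = 1 ∧ (∀ n : N, μ n = lam n) ∧ orderOf μ = orderOf lam) ∧ ∀ μ' : G → ℂ, Cfsg.IsCharacter G μ' ∧ μ' 1 = 1 → (∀ n : N, μ' n = lam n) → Nat.Coprime N.index (orderOf μ') → μ' = μ := by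
  obtain ⟨φ, hφ⟩ := exists_hom_of_linear hlam.1 hlam.2
  have hφn : ∀ n : N, ((φ n : ℂˣ) : ℂ) = lam n := fun n => congrFun hφ n
  have hinv' : ∀ (g : G) (n : N), φ ⟨g * n * g⁻¹, hN.conj_mem (n : G) n.2 g⟩ = φ n := by
    intro g n
    apply Units.ext
    rw [hφn, hφn, hinv]
  have hord : orderOf lam = orderOf φ := by rw [← hφ, orderOf_coeFunHom]
  rw [hord] at hcop
  obtain ⟨μ, hμN, hμord, hμuniq⟩ := exists_unique_extension_of_coprime N φ hinv' hcop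
  refine ⟨coeFunHom G μ, ⟨(isCharacter_coeFunHom μ).1, (isCharacter_coeFunHom μ).2, fun n => ?_, ?_⟩,
    ?_⟩
  · rw [coeFunHom_apply, hμN n, hφn]
  · rw [orderOf_coeFunHom, hμord, hord]
  · intro μ' hμ' hμ'N hcop'
    obtain ⟨ψ, hψ⟩ := exists_hom_of_linear hμ'.1 hμ'.2
    rw [← hψ, orderOf_coeFunHom] at hcop'
    rw [← hψ]
    congr 1
    apply hμuniq ψ _ hcop'
    intro n
    apply Units.ext
    rw [hφn, ← hμ'N n, ← hψ]
    rfl

end Cfsg.Agent.S0865
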