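import Mathlib
import Cfsg.Statements.S0868
import Cfsg.Agent.Lib.Helper7.Gallagher
import Cfsg.Agent.Lib.Helper7.Averaging

set_option autoImplicit false
open Cfsg

namespace Cfsg.Agent.S0868

open scoped ComplexConjugate
open Cfsg.Agent.Lib.Helper2 Cfsg.Agent.Lib.Helper11 Cfsg.Agent.Lib.Helper7

theorem result {G : Type*} [Group G] [Fintype G] (N : Subgroup G) [N.Normal] [Fintype N] (χ : G → ℂ) (hχ : Cfsg.IsIrrCharacter G χ) (hχN : Cfsg.IsIrrCharacter N (fun n : N => χ n)) (ψ : G → ℂ) (hψ : Cfsg.IsIrrCharacter G ψ) (η : G → ℂ) (hη : η = fun g => (Nat.card N : ℂ)⁻¹ * ∑ n : N, ψ ((n : G) * g) * conj (χ ((n : G) * g))) : (Cfsg.classInner (fun n : N => ψ n) (fun n : N => χ n) ≠ 0 → Cfsg.IsIrrCharacter G η) ∧ (Cfsg.classInner (fun n : N => ψ n) (fun n : N => χ n) = 0 → η = 0) ∧ (ψ = χ → η = fun _ => 1) := by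
  classical
  have : Fintype (Cfsg.IrrCharacter G) := Fintype.ofFinite _
  have hχcf : Cfsg.IsClassFunction G χ :=
    IrrCharacter.isClassFunction (⟨χ, hχ⟩ : Cfsg.IrrCharacter G)
  have hψcf : Cfsg.IsClassFunction G ψ :=
    IrrCharacter.isClassFunction (⟨ψ, hψ⟩ : Cfsg.IrrCharacter G)
  have hψψ : Cfsg.classInner ψ ψ = 1 := classInner_irrCharacter_self (⟨ψ, hψ⟩ : Cfsg.IrrCharacter G)
  -- the trivial character of N
  set φ : N → ℂ := fun _ => 1 with hφdef
  have hφ : Cfsg.IsIrrCharacter N φ := by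
    have := isIrrCharacter_of_monoidHom (1 : N →* ℂˣ)
    convert this using 1
    funext n
    simp [hφdef]
  have hφinv : ∀ g : G, conjFn N g φ = φ := fun g => rfl
  have hprodeq : (φ * fun n : N => χ n) = fun n : N => χ n := by
    funext n
    simp [hφdef]
  have hprod : Cfsg.IsIrrCharacter N (φ * fun n : N => χ n) := by rw [hprodeq]; exact hχN
  obtain ⟨h1, h2, h3⟩ := gallagher_rigidity N hφ hφinv (IsIrrCharacter.isCharacter hχ) hprod
  rw [hprodeq] at h1 h3
  -- the averaging operator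
  set A : (G → ℂ) → (G → ℂ) := fun f g => (Nat.card N : ℂ)⁻¹ * ∑ n : N, f ((n : G) * g) with hA
  set θ : G → ℂ := fun g => ψ g * conj (χ g) with hθ
  have hηA : η = A θ := hη
  have hθcf : Cfsg.IsClassFunction G θ := by
    intro g h
    simp only [hθ]
    rw [hψcf g h, hχcf g h]
  have hexp := classFunction_expansion θ hθcf
  have hinner : ∀ μ : G → ℂ, Cfsg.classInner θ μ = Cfsg.classInner ψ (μ * χ) := by
    intro μ
    rw [classInner_def, classInner_def]
    congr 1
    apply Finset.sum_congr rfl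
    intro g _
    simp only [hθ, Pi.mul_apply, map_mul]
    ring
  have hAlin : A θ = ∑ μ : Cfsg.IrrCharacter G,
      Cfsg.classInner ψ ((μ : G → ℂ) * χ) • A (μ : G → ℂ) := by
    funext g
    have hθg : ∀ x : G, θ x = ∑ μ : Cfsg.IrrCharacter G,
        Cfsg.classInner ψ ((μ : G → ℂ) * χ) * (μ : G → ℂ) x := by
      intro x
      have := congrFun hexp x
      rw [this, Finset.sum_apply]
      apply Finset.sum_congr rfl
      intro μ _
      rw [Pi.smul_apply, smul_eq_mul, hinner]
    simp only [hA, Finset.sum_apply, Pi.smul_apply, smul_eq_mul]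
    simp_rw [hθg]
    rw [Finset.sum_comm, Finset.mul_sum]
    apply Finset.sum_congr rfl
    intro μ _
    rw [← Finset.mul_sum]
    ring
  -- avg and Irr(G | 1_N)
  have havg : ∀ μ : G → ℂ, Cfsg.IsIrrCharacter G μ → A μ = μ ∨ A μ = 0 := by
    intro μ hμ
    rcases avg_irr N hμ with h | h
    · left; funext g; exact h g
    · right; funext g; exact h g
  have hfrob : ∀ μ : G → ℂ, Cfsg.IsIrrCharacter G μ →
      Cfsg.classInner (Cfsg.indFun N φ) μ = conj (A μ 1) := by
    intro μ hμ
    rw [frobenius_reciprocity N φ μ (IrrCharacter.isClassFunction (⟨μ, hμ⟩ : Cfsg.IrrCharacter G)),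
      classInner_def]
    simp only [hA, hφdef, one_mul, mul_one, map_mul, map_inv₀, map_natCast, map_sum]
  have hmem_of_avg : ∀ μ : G → ℂ, Cfsg.IsIrrCharacter G μ → A μ = μ →
      Cfsg.classInner (Cfsg.indFun N φ) μ ≠ 0 := by
    intro μ hμ hAμ
    rw [hfrob μ hμ, hAμ]
    intro h
    have := congrArg conj h
    simp only [Complex.conj_conj, map_zero] at this
    exact IsIrrCharacter.apply_one_ne_zero hμ this
  have havg_of_mem : ∀ μ : G → ℂ, Cfsg.IsIrrCharacter G μ →
      Cfsg.classInner (Cfsg.indFun N φ) μ ≠ 0 → A μ = μ := by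
    intro μ hμ hne
    rcases havg μ hμ with h | h
    · exact h
    · exfalso; apply hne; rw [hfrob μ hμ, h]; simp
  -- the two key claims
  have claimA : ∀ β : G → ℂ, Cfsg.IsIrrCharacter G β → A β = β → β * χ = ψ → η = β := by
    intro β hβ hAβ hβχ
    rw [hηA, hAlin, Finset.sum_eq_single (⟨β, hβ⟩ : Cfsg.IrrCharacter G)]
    · simp only
      rw [hβχ, hψψ, one_smul, hAβ]
    · intro μ _ hμne
      rcases havg μ.1 μ.2 with h | h
      · have hirr := (h1 μ.1 μ.2 (hmem_of_avg μ.1 μ.2 h)).1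
        have hne : ψ ≠ (μ : G → ℂ) * χ := by
          intro heq
          apply hμne
          apply Subtype.ext
          exact h2 μ.1 β μ.2 hβ (hmem_of_avg μ.1 μ.2 h) (hmem_of_avg β hβ hAβ) (heq.symm.trans hβχ.symm)
        rw [classInner_irr_eq_ite hψ hirr, if_neg hne, zero_smul]
      · rw [h, smul_zero]
    · intro h; exact absurd (Finset.mem_univ _) h
  have claimB : (¬ ∃ β : G → ℂ, Cfsg.IsIrrCharacter G β ∧ A β = β ∧ β * χ = ψ) → η = 0 := by
    intro hno
    rw [hηA, hAlin]
    apply Finset.sum_eq_zero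
    intro μ _
    rcases havg μ.1 μ.2 with h | h
    · have hirr := (h1 μ.1 μ.2 (hmem_of_avg μ.1 μ.2 h)).1
      have hne : ψ ≠ (μ : G → ℂ) * χ := by
        intro heq
        exact hno ⟨μ.1, μ.2, h, heq.symm⟩
      rw [classInner_irr_eq_ite hψ hirr, if_neg hne, zero_smul]
    · rw [h, smul_zero]
  have hfrob2 : Cfsg.classInner (Cfsg.indFun N (fun n : N => χ n)) ψ
      = conj (Cfsg.classInner (fun n : N => ψ n) (fun n : N => χ n)) := by
    rw [frobenius_reciprocity N _ ψ hψcf, classInner_conj_symm]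
  refine ⟨?_, ?_, ?_⟩
  · intro hne
    have hne' : Cfsg.classInner (Cfsg.indFun N (fun n : N => χ n)) ψ ≠ 0 := by
      rw [hfrob2]
      intro h
      have := congrArg conj h
      simp only [Complex.conj_conj, map_zero] at this
      exact hne this
    obtain ⟨β, hβ, hβne, hβχ⟩ := h3 ψ hψ hne'
    rw [claimA β hβ (havg_of_mem β hβ hβne) hβχ]
    exact hβ
  · intro h0
    apply claimB
    rintro ⟨β, hβ, hAβ, hβχ⟩
    have := (h1 β hβ (hmem_of_avg β hβ hAβ)).2
    rw [hβχ, hfrob2, h0, map_zero] at this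
    exact hmem_of_avg β hβ hAβ this.symm
  · intro hψχ
    have h1irr : Cfsg.IsIrrCharacter G (fun _ : G => (1 : ℂ)) := by
      have := isIrrCharacter_of_monoidHom (1 : G →* ℂˣ)
      convert this using 1
      funext g
      simp
    apply claimA _ h1irr
    · funext g
      simp only [hA]
      rw [Finset.sum_const, Finset.card_univ, ← Nat.card_eq_fintype_card, nsmul_eq_mul, mul_one]
      have hNne : (Nat.card N : ℂ) ≠ 0 := card_ne_zero_complex
      field_simp
    · rw [hψχ]
      funext g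
      simp

end Cfsg.Agent.S0868
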