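import Mathlib
import Cfsg.Statements.S0869

set_option autoImplicit false
open Cfsg

namespace Cfsg.Agent.S0869

/-- Let S be a nonempty finite type and R an additive subgroup of the integer-valued functions on S that is closed under pointwise multiplication. If the constant function 1 is not in R, then there exist a point x of S and a prime p such that p divides f x for every f in R. -/
theorem result {S : Type*} [Finite S] [Nonempty S] (R : AddSubgroup (S → ℤ)) (hmul : ∀ f ∈ R, ∀ g ∈ R, f * g ∈ R) (h1 : (1 : S → ℤ) ∉ R) : ∃ (x : S) (p : ℕ), p.Prime ∧ ∀ f ∈ R, (p : ℤ) ∣ f x := by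
  classical
  by_contra hcon
  push Not at hcon
  have : Fintype S := Fintype.ofFinite S
  -- for each x there is f ∈ R with f x = 1
  have hx : ∀ x : S, ∃ f ∈ R, f x = 1 := by
    intro x
    let ev : (S → ℤ) →+ ℤ := Pi.evalAddMonoidHom (fun _ => ℤ) x
    obtain ⟨a, ha⟩ := Int.subgroup_cyclic (R.map ev)
    have hmem : ∀ f ∈ R, ∃ n : ℤ, n • a = f x := by
      intro f hf
      have : ev f ∈ R.map ev := AddSubgroup.mem_map_of_mem ev hf
      rw [ha, AddSubgroup.mem_closure_singleton] at this
      exact this
    by_cases hna : a.natAbs = 1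
    · have h1mem : (1 : ℤ) ∈ R.map ev := by
        rw [ha, AddSubgroup.mem_closure_singleton]
        rcases Int.natAbs_eq a with h | h
        · refine ⟨1, ?_⟩
          rw [h, hna]; simp
        · refine ⟨-1, ?_⟩
          rw [h, hna]; simp
      obtain ⟨f, hf, hfx⟩ := AddSubgroup.mem_map.mp h1mem
      exact ⟨f, hf, hfx⟩
    · exfalso
      obtain ⟨f, hf, hndvd⟩ := hcon x (a.natAbs.minFac) (Nat.minFac_prime hna)
      apply hndvd
      obtain ⟨n, hn⟩ := hmem f hf
      rw [← hn]
      have h2 : ((a.natAbs.minFac : ℕ) : ℤ) ∣ a := by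
        rw [Int.natCast_dvd]
        exact Nat.minFac_dvd _
      simpa using Dvd.dvd.mul_left h2 n
  choose F hFR hF1 using hx
  have key : ∀ T : Finset S, ∃ g ∈ R, ∏ x ∈ T, (1 - F x) = 1 - g := by
    intro T
    induction T using Finset.induction_on with
    | empty => exact ⟨0, R.zero_mem, by simp⟩
    | insert a T ha ih =>
      obtain ⟨g, hg, hprod⟩ := ih
      refine ⟨F a + g - F a * g, R.sub_mem (R.add_mem (hFR a) hg) (hmul _ (hFR a) _ hg), ?_⟩
      rw [Finset.prod_insert ha, hprod]
      ring
  obtain ⟨g, hg, hprod⟩ := key Finset.univ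
  have hzero : ∏ x : S, (1 - F x) = 0 := by
    funext y
    rw [Finset.prod_apply]
    apply Finset.prod_eq_zero (Finset.mem_univ y)
    simp [hF1 y]
  rw [hzero] at hprod
  have : g = 1 := by
    have := sub_eq_zero.mp hprod.symm
    exact this.symm
  exact h1 (this ▸ hg)

end Cfsg.Agent.S0869
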