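import Cfsg.Statements.S0875
import Cfsg.Agent.Lib.Helper7.AIntSpan
import Cfsg.Agent.Lib.Helper7.PiParts

set_option autoImplicit false
open Cfsg
open Cfsg.Agent.Lib.Helper7 Cfsg.Agent.Lib.Helper2

namespace Cfsg.Agent.S0875

/-- Let G be a finite group of order m * n with m and n coprime, and g an element whose order is coprime to m. Every x in G factors uniquely as x = u * v with u, v commuting, the order of u coprime to n and the order of v coprime to m; let ϑ be the function on G equal to n at those x whose factor v is conjugate to g and equal to 0 elsewhere. Then ϑ is a linear combination of the irreducible characters of G with algebraic-integer coefficients. -/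
theorem result {G : Type*} [Group G] [Fintype G] (m n : ℕ) (hmn : Nat.card G = m * n) (hcop : Nat.Coprime m n) (g : G) (hg : Nat.Coprime (orderOf g) m) (ϑ : G → ℂ) (hϑ1 : ∀ x : G, (∃ v : G, IsConj v g ∧ (∃ u : G, x = u * v ∧ Commute u v ∧ Nat.Coprime (orderOf u) n ∧ Nat.Coprime (orderOf v) m)) → ϑ x = n) (hϑ0 : ∀ x : G, (¬ ∃ v : G, IsConj v g ∧ (∃ u : G, x = u * v ∧ Commute u v ∧ Nat.Coprime (orderOf u) n ∧ Nat.Coprime (orderOf v) m)) → ϑ x = 0) : ∃ c : Cfsg.IrrCharacter G → ℂ, (∀ χ, c χ ∈ Cfsg.AlgInt) ∧ ϑ = ∑ᶠ χ : Cfsg.IrrCharacter G, c χ • (χ : G → ℂ) := by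
  classical
  have hord : ∀ x : G, orderOf x ∣ m * n := fun x => hmn ▸ orderOf_dvd_natCard x
  -- Step 1: explicit formula
  have hϑ : ∀ x : G, ϑ x = if IsConj (x ^ piExp hcop) g then (n : ℂ) else 0 := by
    intro x
    by_cases hx : IsConj (x ^ piExp hcop) g
    · rw [if_pos hx]
      apply hϑ1
      obtain ⟨u, v, huv, hc, hu, hv, -, -⟩ := exists_pi_decomp hcop x (hord x)
      have e : x ^ piExp hcop = v := pow_piExp_eq hcop huv hc hu hv
      exact ⟨v, e ▸ hx, u, huv, hc, Nat.Coprime.coprime_dvd_left hu hcop,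
        Nat.Coprime.coprime_dvd_left hv hcop.symm⟩
    · rw [if_neg hx]
      apply hϑ0
      rintro ⟨v, hvg, u, huv, hc, hu, hv⟩
      apply hx
      have hu' : orderOf u ∣ m := Nat.Coprime.dvd_of_dvd_mul_right hu (hord u)
      have hv' : orderOf v ∣ n := Nat.Coprime.dvd_of_dvd_mul_left hv (hord v)
      rw [pow_piExp_eq hcop huv hc hu' hv']
      exact hvg
  -- Step 2: class function
  have hcf : Cfsg.IsClassFunction G ϑ := by
    intro x h
    rw [hϑ, hϑ]
    have e : (h * x * h⁻¹) ^ piExp hcop = h * x ^ piExp hcop * h⁻¹ := conj_pow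
    rw [e]
    have : IsConj (h * x ^ piExp hcop * h⁻¹) g ↔ IsConj (x ^ piExp hcop) g := by
      constructor
      · intro h1
        exact (isConj_iff.mpr ⟨h, rfl⟩ : IsConj (x ^ piExp hcop) (h * x ^ piExp hcop * h⁻¹)).trans h1
      · intro h1
        exact (isConj_iff.mpr ⟨h, rfl⟩ : IsConj (x ^ piExp hcop) (h * x ^ piExp hcop * h⁻¹)).symm.trans h1
    simp only [this]
  apply exists_coeff_of_mem_aSpan
  apply mem_aSpan_of_elementary hcf
  intro q hq E hE
  letI : Fintype E := Fintype.ofFinite E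
  have hEcard : Nat.card E ∣ m * n := hmn ▸ Subgroup.card_subgroup_dvd_card E
  obtain ⟨A, B, hAn, hBn, hA, hB, hc, hdisj, hcardAB, hcA, hcB⟩ :=
    exists_hall_decomp_of_isElementary hq hE hcop hEcard
  letI : Fintype B := Fintype.ofFinite B
  set eq := prodEquivOfCommute A B hc hdisj hcardAB with heq
  set proj : E →* B := (MonoidHom.snd A B).comp eq.symm.toMonoidHom with hproj
  set φ : B → ℂ := fun b => if IsConj (((b : E) : G)) g then (n : ℂ) else 0 with hφ
  have hfun : (fun e : E => ϑ e) = fun e : E => φ (proj e) := by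
    funext e
    obtain ⟨⟨a, b⟩, rfl⟩ := eq.surjective e
    have h1 : proj (eq (a, b)) = b := by
      rw [hproj]
      simp only [MonoidHom.coe_comp, Function.comp_apply, MulEquiv.coe_toMonoidHom,
        MulEquiv.symm_apply_apply, MonoidHom.coe_snd]
    rw [h1, hϑ, hφ]
    have h2 : eq (a, b) = (a : E) * (b : E) := by
      rw [heq, prodEquivOfCommute_apply]
    have ha : orderOf (a : E) ∣ m :=
      Nat.Coprime.dvd_of_dvd_mul_right ((hA a).mp a.2) ((orderOf_dvd_natCard _).trans hEcard)
    have hb : orderOf (b : E) ∣ n :=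
      Nat.Coprime.dvd_of_dvd_mul_left ((hB b).mp b.2) ((orderOf_dvd_natCard _).trans hEcard)
    have h3 : (eq (a, b)) ^ piExp hcop = (b : E) :=
      pow_piExp_eq hcop h2 (hc a a.2 b b.2) ha hb
    have h4 : ((eq (a, b) : E) : G) ^ piExp hcop = ((b : E) : G) := by
      rw [← h3]; rfl
    simp only [h4]
  rw [hfun]
  apply aSpan_comp _ proj
  apply mem_aSpan_of_values _ n
  · have h1 : Nat.card B ∣ m * n :=
      (Subgroup.card_subgroup_dvd_card B).trans hEcard
    exact Nat.Coprime.dvd_of_dvd_mul_left hcB h1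
  · intro b
    rw [hφ]
    by_cases hb : IsConj (((b : E) : G)) g
    · exact ⟨1, one_mem _, by simp only [if_pos hb, mul_one]⟩
    · exact ⟨0, zero_mem _, by simp only [if_neg hb, mul_zero]⟩
  · intro b h
    rw [hφ]
    have : IsConj ((((h * b * h⁻¹ : B) : E) : G)) g ↔ IsConj (((b : E) : G)) g := by
      have e : ((((h * b * h⁻¹ : B) : E) : G)) = ((h : E) : G) * ((b : E) : G) * ((h : E) : G)⁻¹ := by
        push_cast; rfl
      rw [e]
      constructor
      · intro h1
        exact (isConj_iff.mpr ⟨((h : E) : G), rfl⟩ :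
          IsConj (((b : E) : G)) (((h : E) : G) * ((b : E) : G) * ((h : E) : G)⁻¹)).trans h1
      · intro h1
        exact (isConj_iff.mpr ⟨((h : E) : G), rfl⟩ :
          IsConj (((b : E) : G)) (((h : E) : G) * ((b : E) : G) * ((h : E) : G)⁻¹)).symm.trans h1
    simp only [this]

end Cfsg.Agent.S0875
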