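import Cfsg.Statements.S0876
import Cfsg.Agent.S0875
import Cfsg.Agent.Lib.Helper7.PCongr
import Cfsg.Agent.Lib.Helper7.PPartFn
import Cfsg.Agent.Lib.Helper24.Loc

set_option autoImplicit false
open Cfsg
open Cfsg.Agent.Lib.Helper7 Cfsg.Agent.Lib.Helper2 Cfsg.Agent.Lib.Helper24

namespace Cfsg.Agent.S0876

/-- Let G be a finite group, p a prime and M a maximal ideal of the ring of algebraic integers containing p. Let x, y be elements with p-parts a and b (so a⁻¹ * x and b⁻¹ * y are their p-regular parts). Then a⁻¹ * x and b⁻¹ * y are conjugate in G if and only if, for every irreducible character χ, the difference χ x - χ y lies in the local ideal at M. -/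
theorem result {G : Type*} [Group G] [Finite G] (p : ℕ) (M : Ideal Cfsg.AlgInt) (hM : Cfsg.IsPModular p M) (x y a b : G) (ha : Cfsg.IsPPart p x a) (hb : Cfsg.IsPPart p y b) : IsConj (a⁻¹ * x) (b⁻¹ * y) ↔ ∀ χ : Cfsg.IrrCharacter G, Cfsg.MemLocalIdeal M ((χ : G → ℂ) x - (χ : G → ℂ) y) := by
  classical
  letI : Fintype G := Fintype.ofFinite G
  letI : Fintype (Cfsg.IrrCharacter G) := Fintype.ofFinite _
  have hp : p.Prime := hM.1
  haveI : Fact p.Prime := ⟨hp⟩
  obtain ⟨x', hx1, hx2, hx3, hx4⟩ := id ha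
  obtain ⟨y', hy1, hy2, hy3, hy4⟩ := id hb
  have ex : a⁻¹ * x = x' := by rw [← hx1]; group
  have ey : b⁻¹ * y = y' := by rw [← hy1]; group
  rw [ex, ey]
  have hcong : ∀ χ : Cfsg.IrrCharacter G, Cfsg.MemLocalIdeal M ((χ : G → ℂ) x - (χ : G → ℂ) x') := by
    intro χ
    rw [← hx1]
    exact char_mul_sub_memLocalIdeal hM _ (IsIrrCharacter.isCharacter χ.2) a x' hx2 hx3
  have hcongy : ∀ χ : Cfsg.IrrCharacter G, Cfsg.MemLocalIdeal M ((χ : G → ℂ) y - (χ : G → ℂ) y') := by
    intro χ
    rw [← hy1]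
    exact char_mul_sub_memLocalIdeal hM _ (IsIrrCharacter.isCharacter χ.2) b y' hy2 hy3
  constructor
  · intro hconj χ
    obtain ⟨c, hc⟩ := isConj_iff.mp hconj
    have h1 : (χ : G → ℂ) y' = (χ : G → ℂ) x' := by
      rw [← hc]
      exact IsCharacter.isClassFunction (IsIrrCharacter.isCharacter χ.2) x' c
    have e : (χ : G → ℂ) x - (χ : G → ℂ) y
        = ((χ : G → ℂ) x - (χ : G → ℂ) x') - ((χ : G → ℂ) y - (χ : G → ℂ) y') := by
      rw [h1]; ring
    rw [e]
    exact memLocalIdeal_sub hM (hcong χ) (hcongy χ)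
  · intro h
    by_contra hnc
    have hG0 : Nat.card G ≠ 0 := Nat.card_pos.ne'
    set m := p ^ (Nat.card G).factorization p with hm
    set n := Nat.card G / p ^ (Nat.card G).factorization p with hn
    have hmn : Nat.card G = m * n := (Nat.ordProj_mul_ordCompl_eq_self (Nat.card G) p).symm
    have hpn : Nat.Coprime p n := Nat.coprime_ordCompl hp hG0
    have hcop : Nat.Coprime m n := Nat.Coprime.pow_left _ hpn
    have hord : ∀ z : G, orderOf z ∣ m * n := fun z => hmn ▸ orderOf_dvd_natCard z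
    have hx'm : Nat.Coprime (orderOf x') m :=
      Nat.Coprime.pow_right _ ((Nat.Prime.coprime_iff_not_dvd hp).mpr hx4).symm
    set ϑ : G → ℂ := fun z => if (∃ v : G, IsConj v x' ∧ (∃ u : G, z = u * v ∧ Commute u v ∧
      Nat.Coprime (orderOf u) n ∧ Nat.Coprime (orderOf v) m)) then (n : ℂ) else 0 with hϑ
    obtain ⟨c, hc, hsum⟩ := Cfsg.Agent.S0875.result m n hmn hcop x' hx'm ϑ
      (fun z hz => by rw [hϑ]; exact if_pos hz) (fun z hz => by rw [hϑ]; exact if_neg hz)
    rw [finsum_eq_sum_of_fintype] at hsum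
    have hϑx : ϑ x = n := by
      rw [hϑ]
      apply if_pos
      refine ⟨x', IsConj.refl _, a, hx1.symm, hx2, ?_, hx'm⟩
      obtain ⟨j, hj⟩ := hx3
      rw [hj]
      exact Nat.Coprime.pow_left _ hpn
    have hϑy : ϑ y = 0 := by
      rw [hϑ]
      apply if_neg
      rintro ⟨v, hv, u, huv, hcuv, hu, hvm⟩
      apply hnc
      have hu' : orderOf u ∣ m := Nat.Coprime.dvd_of_dvd_mul_right hu (hord u)
      have hv' : orderOf v ∣ n := Nat.Coprime.dvd_of_dvd_mul_left hvm (hord v)
      have hpv : ¬ p ∣ orderOf v := by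
        intro hd
        have h1 : p ∣ Nat.gcd p n := Nat.dvd_gcd dvd_rfl (hd.trans hv')
        rw [hpn] at h1
        exact hp.one_lt.ne' (Nat.dvd_one.mp h1)
      have hub : Cfsg.IsPPart p y u :=
        ⟨v, huv.symm, hcuv, (Nat.dvd_prime_pow hp).mp hu' |>.imp (fun j hj => hj.2), hpv⟩
      have e1 : u = b := by
        rw [← pPt_eq_of_isPPart p hub, pPt_eq_of_isPPart p hb]
      have e2 : v = y' := by
        have : u * v = u * y' := by rw [← huv, e1, hy1]
        exact mul_left_cancel this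
      rw [← e2]
      exact hv.symm
    have hdiff : Cfsg.MemLocalIdeal M (ϑ x - ϑ y) := by
      rw [hsum, Finset.sum_apply, Finset.sum_apply, ← Finset.sum_sub_distrib]
      apply memLocalIdeal_sum hM
      intro χ _
      rw [Pi.smul_apply, Pi.smul_apply, smul_eq_mul, smul_eq_mul, ← mul_sub]
      exact memLocalIdeal_mul_left hM (memLocalRing_of_isIntegral hM (hc χ)) (h χ)
    rw [hϑx, hϑy, sub_zero, memLocalIdeal_natCast_iff hM] at hdiff
    have h1 : p ∣ Nat.gcd p n := Nat.dvd_gcd dvd_rfl hdiff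
    rw [hpn] at h1
    exact hp.one_lt.ne' (Nat.dvd_one.mp h1)

end Cfsg.Agent.S0876
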