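import Mathlib
import Cfsg.Statements.S0879

set_option autoImplicit false
open Cfsg

namespace Cfsg.Agent.S0879

theorem h7_main {G Ω : Type*} [Group G] [Finite G] [MulAction G Ω] [Fintype Ω]
    (hZ : Cfsg.IsZassenhausGroup G Ω) {a b : Ω} (hab : a ≠ b) (E : Subgroup G)
    (hE : E = MulAction.stabilizer G a ⊓ MulAction.stabilizer G b) :
    (∀ g : G, g ∉ Subgroup.normalizer (E : Set G) → ∀ x ∈ E, g * x * g⁻¹ ∈ E → x = 1) ∧
    (E.subgroupOf (Subgroup.normalizer (E : Set G))).index = 2 := by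
  obtain ⟨hfaith, h2t, h3, ⟨g₀, hg₀, a', b', hab', hga', hgb'⟩, -⟩ := hZ
  rw [MulAction.is_two_pretransitive_iff] at h2t
  have hmemE : ∀ x : G, x ∈ E ↔ x • a = a ∧ x • b = b := by
    intro x
    rw [hE, Subgroup.mem_inf, MulAction.mem_stabilizer_iff, MulAction.mem_stabilizer_iff]
  -- F1
  have F1 : ∀ g : G, ((g • a = a ∧ g • b = b) ∨ (g • a = b ∧ g • b = a)) →
      g ∈ Subgroup.normalizer (E : Set G) := by
    intro g hg
    rw [Subgroup.mem_normalizer_iff]
    intro h
    rw [hmemE, hmemE]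
    rcases hg with ⟨h1, h2⟩ | ⟨h1, h2⟩
    · have h1' : g⁻¹ • a = a := by rw [inv_smul_eq_iff, h1]
      have h2' : g⁻¹ • b = b := by rw [inv_smul_eq_iff, h2]
      rw [mul_smul, mul_smul, mul_smul, mul_smul, h1', h2']
      constructor
      · rintro ⟨ha, hb⟩; rw [ha, hb]; exact ⟨h1, h2⟩
      · rintro ⟨ha, hb⟩
        constructor
        · have := congrArg (fun z => g⁻¹ • z) ha
          simpa [h1'] using this
        · have := congrArg (fun z => g⁻¹ • z) hb
          simpa [h2'] using this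
    · have h1' : g⁻¹ • b = a := by rw [inv_smul_eq_iff, h1]
      have h2' : g⁻¹ • a = b := by rw [inv_smul_eq_iff, h2]
      rw [mul_smul, mul_smul, mul_smul, mul_smul, h1', h2']
      constructor
      · rintro ⟨ha, hb⟩; rw [ha, hb]; exact ⟨h2, h1⟩
      · rintro ⟨ha, hb⟩
        constructor
        · have := congrArg (fun z => g⁻¹ • z) hb
          simpa [h1'] using this
        · have := congrArg (fun z => g⁻¹ • z) ha
          simpa [h2'] using this
  -- F2
  have F2 : ∀ g x : G, x ∈ E → x ≠ 1 → g * x * g⁻¹ ∈ E →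
      ((g • a = a ∧ g • b = b) ∨ (g • a = b ∧ g • b = a)) := by
    intro g x hx hx1 hgx
    have hy1 : g * x * g⁻¹ ≠ 1 := by
      intro h
      apply hx1
      have : x = g⁻¹ * (g * x * g⁻¹) * g := by group
      rw [this, h]; group
    obtain ⟨hxa, hxb⟩ := (hmemE x).mp hx
    obtain ⟨hya, hyb⟩ := (hmemE _).mp hgx
    have hyga : (g * x * g⁻¹) • (g • a) = g • a := by
      rw [mul_smul, mul_smul, inv_smul_smul, hxa]
    have hygb : (g * x * g⁻¹) • (g • b) = g • b := by
      rw [mul_smul, mul_smul, inv_smul_smul, hxb]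
    have hne : g • a ≠ g • b := fun h => hab (MulAction.injective g h)
    have hA : g • a = a ∨ g • a = b := by
      by_contra hcon
      push Not at hcon
      exact hy1 (h3 _ a b (g • a) hab hcon.2.symm hcon.1.symm hya hyb hyga)
    have hB : g • b = a ∨ g • b = b := by
      by_contra hcon
      push Not at hcon
      exact hy1 (h3 _ a b (g • b) hab hcon.2.symm hcon.1.symm hya hyb hygb)
    rcases hA with hA | hA <;> rcases hB with hB | hB
    · exact absurd (hA.trans hB.symm) hne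
    · left; exact ⟨hA, hB⟩
    · right; exact ⟨hA, hB⟩
    · exact absurd (hA.trans hB.symm) hne
  -- F3
  have F3 : ∃ x ∈ E, x ≠ 1 := by
    obtain ⟨k, hka, hkb⟩ := h2t hab' hab
    refine ⟨k * g₀ * k⁻¹, ?_, ?_⟩
    · rw [hmemE]
      have h1' : k⁻¹ • a = a' := by rw [inv_smul_eq_iff, hka]
      have h2' : k⁻¹ • b = b' := by rw [inv_smul_eq_iff, hkb]
      rw [mul_smul, mul_smul, mul_smul, mul_smul, h1', h2', hga', hgb']
      exact ⟨hka, hkb⟩
    · intro h
      apply hg₀
      have : g₀ = k⁻¹ * (k * g₀ * k⁻¹) * k := by group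
      rw [this, h]; group
  obtain ⟨x₀, hx₀, hx₀1⟩ := F3
  have F4 : ∀ g : G, g ∈ Subgroup.normalizer (E : Set G) →
      ((g • a = a ∧ g • b = b) ∨ (g • a = b ∧ g • b = a)) := by
    intro g hg
    exact F2 g x₀ hx₀ hx₀1 ((Subgroup.mem_normalizer_iff.mp hg x₀).mp hx₀)
  refine ⟨?_, ?_⟩
  · intro g hg x hx hgx
    by_contra hx1
    exact hg (F1 g (F2 g x hx hx1 hgx))
  · rw [Subgroup.index_eq_two_iff]
    obtain ⟨t, hta, htb⟩ := h2t hab hab.symm
    refine ⟨⟨t, F1 t (Or.inr ⟨hta, htb⟩)⟩, ?_⟩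
    rintro ⟨g, hg⟩
    rw [Subgroup.mem_subgroupOf, Subgroup.mem_subgroupOf]
    show Xor (g * t ∈ E) (g ∈ E)
    rw [hmemE, hmemE, mul_smul, mul_smul, hta, htb]
    rcases F4 g hg with ⟨h1, h2⟩ | ⟨h1, h2⟩
    · right
      refine ⟨⟨h1, h2⟩, ?_⟩
      rintro ⟨h, -⟩
      rw [h2] at h
      exact hab h.symm
    · left
      refine ⟨⟨h2, h1⟩, ?_⟩
      rintro ⟨h, -⟩
      rw [h1] at h
      exact hab h.symm

/-- Let G be a Zassenhaus group on the finite set Ω and E the stabilizer of two distinct points a, b. Then an element outside the normalizer of E conjugates no non-identity element of E into E, and E has index 2 in its normalizer. -/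
theorem result {G Ω : Type*} [Group G] [Finite G] [MulAction G Ω] [Fintype Ω] (hZ : Cfsg.IsZassenhausGroup G Ω) {a b : Ω} (hab : a ≠ b) : (∀ g : G, g ∉ Subgroup.normalizer ((MulAction.stabilizer G a ⊓ MulAction.stabilizer G b : Subgroup G) : Set G) → ∀ x ∈ (MulAction.stabilizer G a ⊓ MulAction.stabilizer G b : Subgroup G), g * x * g⁻¹ ∈ (MulAction.stabilizer G a ⊓ MulAction.stabilizer G b : Subgroup G) → x = 1) ∧ ((MulAction.stabilizer G a ⊓ MulAction.stabilizer G b : Subgroup G).subgroupOf (Subgroup.normalizer ((MulAction.stabilizer G a ⊓ MulAction.stabilizer G b : Subgroup G) : Set G))).index = 2 :=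
  h7_main hZ hab _ rfl

end Cfsg.Agent.S0879
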