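import Cfsg.Statements.S0880
import Cfsg.Agent.Lib.Helper11.ZassCount

set_option autoImplicit false
open Cfsg

namespace Cfsg.Agent.S0880

/-- Let G be a finite simple Zassenhaus group on Ω with n points whose two-point stabilizer E has odd order less than n - 2. Then there are two elements of G, each fixing no point of Ω, that are not conjugate. -/
theorem result {G Ω : Type*} [Group G] [Finite G] [MulAction G Ω] [Fintype Ω] (hZ : Cfsg.IsZassenhausGroup G Ω) {a b : Ω} (hab : a ≠ b) [IsSimpleGroup G] (hodd : Odd (Nat.card ↥(MulAction.stabilizer G a ⊓ MulAction.stabilizer G b : Subgroup G))) (hlt : Nat.card ↥(MulAction.stabilizer G a ⊓ MulAction.stabilizer G b : Subgroup G) < Fintype.card Ω - 2) : ∃ x y : G, (∀ c : Ω, x • c ≠ c) ∧ (∀ c : Ω, y • c ≠ c) ∧ ¬ IsConj x y := by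
  classical
  haveI : Fintype G := Fintype.ofFinite G
  by_contra hcon
  push Not at hcon
  have hcount := Cfsg.Agent.Lib.Helper11.zc_fpf_count hZ hab
  have hG := Cfsg.Agent.Lib.Helper11.zc_card_group hZ hab
  have hn3 := Cfsg.Agent.Lib.Helper11.zc_three_le_card hZ hab
  have he2 := Cfsg.Agent.Lib.Helper11.zc_one_lt_card hZ hab
  rw [← Nat.card_eq_fintype_card (α := G)] at hcount
  set e := Nat.card ↥(MulAction.stabilizer G a ⊓ MulAction.stabilizer G b : Subgroup G) with he
  have he3 : 3 ≤ e := by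
    obtain ⟨k, hk⟩ := hodd
    omega
  obtain ⟨m, hm⟩ : ∃ m, Fintype.card Ω = m + 3 := ⟨Fintype.card Ω - 3, by omega⟩
  rw [hm] at hcount hG
  have e1 : m + 3 - 2 = m + 1 := by omega
  have e2 : m + 3 - 1 = m + 2 := by omega
  rw [e1, e2] at hcount
  rw [e2] at hG
  set F := Nat.card {g : G // ∀ c : Ω, g • c ≠ c} with hF
  have hbig : (m + 3) * ((m + 2) * 3) ≤ (m + 3) * ((m + 2) * e) :=
    Nat.mul_le_mul_left _ (Nat.mul_le_mul_left _ he3)
  have hFpos : 0 < F := by
    by_contra h0
    have hF0 : F = 0 := by omega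
    rw [hF0, hG] at hcount
    nlinarith
  obtain ⟨x, hx⟩ : Nonempty {g : G // ∀ c : Ω, g • c ≠ c} := (Nat.card_pos_iff.mp hFpos).1
  have hFeq : F = Nat.card {y : G // IsConj x y} := by
    apply Nat.card_congr
    apply Equiv.subtypeEquivRight
    intro y
    constructor
    · intro hy
      exact hcon x y hx hy
    · intro hxy c hc
      obtain ⟨g, rfl⟩ := isConj_iff.mp hxy
      apply hx (g⁻¹ • c)
      have h1 : g⁻¹ • ((g * x * g⁻¹) • c) = g⁻¹ • c := by rw [hc]
      rw [mul_smul, mul_smul, inv_smul_smul] at h1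
      exact h1
  have hcl := Cfsg.Agent.Lib.Helper7.card_isConj_mul_card_centralizer x
  rw [← hFeq, hG] at hcl
  rw [hG] at hcount
  set c := Nat.card (Subgroup.centralizer ({x} : Set G)) with hc
  rcases Nat.lt_or_ge c 3 with hc3 | hc3
  · have h1 : F * c ≤ F * 2 := Nat.mul_le_mul_left _ (by omega)
    nlinarith
  · have h1 : F * 3 ≤ F * c := Nat.mul_le_mul_left _ hc3
    nlinarith

end Cfsg.Agent.S0880
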