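import Cfsg.Statements.S0881
import Cfsg.Agent.Lib.Helper11.ZassFrob
import Cfsg.Agent.Lib.Helper11.IndLinear
import Cfsg.Agent.Lib.Lead.Focal

set_option autoImplicit false
open Cfsg

namespace Cfsg.Agent.S0881

open Cfsg.Agent.Lib.Helper11 Cfsg.Agent.Lib.Helper2 Cfsg.Agent.Lib.Helper7 Cfsg.Agent.Lib.Helper3.Zass
open scoped commutatorElement

/-- Let G be a finite simple Zassenhaus group on Ω with n points, a ≠ b points with two-point stabilizer E of odd order less than n - 2, and let H be the subgroup of the stabilizer of a consisting of the identity and the elements fixing no point other than a (given here as a subgroup of the stabilizer of order one less than the number of points whose non-identity elements fix only a; it is the Frobenius kernel of the stabilizer). Let μ be a character of degree 1 of the stabilizer of a that is identically 1 on H but not identically 1. Then the function induced from μ to G is an irreducible character of G, and it takes the value 1 at every non-identity element of H. -/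
theorem result {G Ω : Type*} [Group G] [Fintype G] [MulAction G Ω] [Fintype Ω] (hZ : Cfsg.IsZassenhausGroup G Ω) {a b : Ω} (hab : a ≠ b) [IsSimpleGroup G] (hodd : Odd (Nat.card ↥(MulAction.stabilizer G a ⊓ MulAction.stabilizer G b : Subgroup G))) (hlt : Nat.card ↥(MulAction.stabilizer G a ⊓ MulAction.stabilizer G b : Subgroup G) < Fintype.card Ω - 2) (H : Subgroup G) (hHa : H ≤ MulAction.stabilizer G a) (hHcard : Nat.card H + 1 = Fintype.card Ω) (hHfix : ∀ u ∈ H, u ≠ 1 → ∀ c : Ω, u • c = c → c = a) (μ : MulAction.stabilizer G a → ℂ) (hμ : Cfsg.IsCharacter (MulAction.stabilizer G a) μ ∧ μ 1 = 1) (hμH : ∀ u : MulAction.stabilizer G a, (u : G) ∈ H → μ u = 1) (hμne : μ ≠ fun _ => 1) : Cfsg.IsIrrCharacter G (Cfsg.indFun (MulAction.stabilizer G a) μ) ∧ ∀ u ∈ H, u ≠ 1 → Cfsg.indFun (MulAction.stabilizer G a) μ u = 1 := by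
  classical
  have hμc := hμ.1
  have hμ1 := hμ.2
  have hN0 : (Nat.card (MulAction.stabilizer G a) : ℂ) ≠ 0 := by
    have : 0 < Nat.card (MulAction.stabilizer G a) := Nat.card_pos
    exact_mod_cast this.ne'
  constructor
  · apply isIrrCharacter_indFun_linear _ hμc hμ1
    intro x hxN
    by_contra hcon
    push Not at hcon
    have hac : a ≠ x • a := fun h => hxN (MulAction.mem_stabilizer_iff.mpr h.symm)
    -- the two point stabilizer of `a` and `x • a`
    have hE'odd : Odd (Nat.card ↥(MulAction.stabilizer G a ⊓ MulAction.stabilizer G (x • a) :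
        Subgroup G)) := by
      rw [zc_card_stab_inf_eq hZ hab hac]; exact hodd
    have hcomm : commutator G = ⊤ := zc_commutator_eq_top hZ hab
    have hfoc : (MulAction.stabilizer G a ⊓ MulAction.stabilizer G (x • a) :
        Subgroup G).focalSubgroup =
        (MulAction.stabilizer G a ⊓ MulAction.stabilizer G (x • a) : Subgroup G) := by
      have hcop : (Nat.card (↥(MulAction.stabilizer G a ⊓ MulAction.stabilizer G (x • a) :
          Subgroup G) ⧸ (MulAction.stabilizer G a ⊓ MulAction.stabilizer G (x • a) :
          Subgroup G).focalSubgroupOf)).Coprime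
          (MulAction.stabilizer G a ⊓ MulAction.stabilizer G (x • a) : Subgroup G).index :=
        Nat.Coprime.coprime_dvd_left (Subgroup.card_quotient_dvd_card _)
          (zc_coprime_index hZ hac hE'odd)
      have h1 := Cfsg.Agent.Lib.Lead.commutator_inf_eq_focal
        (MulAction.stabilizer G a ⊓ MulAction.stabilizer G (x • a) : Subgroup G) hcop
      rw [hcomm, top_inf_eq] at h1
      exact h1.symm
    -- the kernel of `μ` as a subgroup of `G`
    have hle : (MulAction.stabilizer G a ⊓ MulAction.stabilizer G (x • a) :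
        Subgroup G).focalSubgroup ≤
        ((linearCharHom hμc hμ1).ker).map (MulAction.stabilizer G a).subtype := by
      rw [Subgroup.focalSubgroup_def, Subgroup.closure_le]
      rintro g ⟨hgE, y, hyE, u, rfl⟩
      have hyN : y ∈ MulAction.stabilizer G a := (Subgroup.mem_inf.mp hyE).1
      have hvE : u * y⁻¹ * u⁻¹ ∈ (MulAction.stabilizer G a ⊓ MulAction.stabilizer G (x • a) :
          Subgroup G) := by
        have h1 : u * y⁻¹ * u⁻¹ = y⁻¹ * ⁅y, u⁆ := by
          rw [commutatorElement_def]; group
        rw [h1]
        exact Subgroup.mul_mem _ (Subgroup.inv_mem _ hyE) hgE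
      have hvN : u * y⁻¹ * u⁻¹ ∈ MulAction.stabilizer G a := (Subgroup.mem_inf.mp hvE).1
      have key : μ ⟨u * y⁻¹ * u⁻¹, hvN⟩ = μ (⟨y, hyN⟩ : MulAction.stabilizer G a)⁻¹ := by
        by_cases hy1 : y = 1
        · subst hy1
          congr 1
          apply Subtype.ext
          simp
        · have hyinv1 : y⁻¹ ≠ 1 := fun h => hy1 (inv_eq_one.mp h)
          have hv1 : u * y⁻¹ * u⁻¹ ≠ 1 := by
            intro h
            apply hyinv1
            have h2 : y⁻¹ = u⁻¹ * (u * y⁻¹ * u⁻¹) * u := by group
            rw [h2, h]; group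
          by_cases hua : u • a = a
          · have h2 : (⟨u * y⁻¹ * u⁻¹, hvN⟩ : MulAction.stabilizer G a) =
                (⟨u, hua⟩ : MulAction.stabilizer G a)⁻¹⁻¹ *
                  (⟨y, hyN⟩ : MulAction.stabilizer G a)⁻¹ *
                  (⟨u, hua⟩ : MulAction.stabilizer G a)⁻¹ := by
              apply Subtype.ext
              simp
            rw [h2, linear_char_conj_apply _ hμc hμ1]
          · -- `u • a = x • a`
            have hya : y⁻¹ • a = a := by
              have := MulAction.mem_stabilizer_iff.mp hyN
              rw [inv_smul_eq_iff, this]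
            have hvfix : (u * y⁻¹ * u⁻¹) • (u • a) = u • a := by
              rw [mul_smul, inv_smul_smul, mul_smul, hya]
            have huc : u • a = x • a := by
              by_contra hne
              apply hv1
              exact fix3 hZ (u * y⁻¹ * u⁻¹) hac (Ne.symm hne) (Ne.symm hua)
                (MulAction.mem_stabilizer_iff.mp hvN)
                (MulAction.mem_stabilizer_iff.mp (Subgroup.mem_inf.mp hvE).2) hvfix
            have hz : x⁻¹ * u ∈ MulAction.stabilizer G a := by
              rw [MulAction.mem_stabilizer_iff, mul_smul, huc, inv_smul_smul]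
            have hk : x⁻¹ * (u * y⁻¹ * u⁻¹) * x ∈ MulAction.stabilizer G a := by
              have h3 : x⁻¹ * (u * y⁻¹ * u⁻¹) * x = (x⁻¹ * u) * y⁻¹ * (x⁻¹ * u)⁻¹ := by group
              rw [h3]
              exact Subgroup.mul_mem _ (Subgroup.mul_mem _ hz (Subgroup.inv_mem _ hyN))
                (Subgroup.inv_mem _ hz)
            have h4 := hcon ⟨u * y⁻¹ * u⁻¹, hvN⟩ hk
            rw [h4]
            have h5 : (⟨x⁻¹ * (u * y⁻¹ * u⁻¹) * x, hk⟩ : MulAction.stabilizer G a) =
                (⟨x⁻¹ * u, hz⟩ : MulAction.stabilizer G a)⁻¹⁻¹ *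
                  (⟨y, hyN⟩ : MulAction.stabilizer G a)⁻¹ *
                  (⟨x⁻¹ * u, hz⟩ : MulAction.stabilizer G a)⁻¹ := by
              apply Subtype.ext
              simp only [Subgroup.coe_mul, Subgroup.coe_inv, inv_inv]
              group
            rw [h5, linear_char_conj_apply _ hμc hμ1]
      rw [SetLike.mem_coe, Subgroup.mem_map]
      refine ⟨⟨y, hyN⟩ * ⟨u * y⁻¹ * u⁻¹, hvN⟩, ?_, ?_⟩
      · rw [MonoidHom.mem_ker]
        show μ (⟨y, hyN⟩ * ⟨u * y⁻¹ * u⁻¹, hvN⟩) = 1
        rw [linear_char_mul hμc hμ1, key, linear_char_inv hμc hμ1,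
          mul_inv_cancel₀ (linear_char_ne_zero hμc hμ1 _)]
      · simp only [Subgroup.coe_subtype, Subgroup.coe_mul, commutatorElement_def]
        group
    have hC1 : ∀ k (hk : k ∈ (MulAction.stabilizer G a ⊓ MulAction.stabilizer G (x • a) :
        Subgroup G)), μ ⟨k, (Subgroup.mem_inf.mp hk).1⟩ = 1 := by
      intro k hk
      have h1 : k ∈ ((linearCharHom hμc hμ1).ker).map (MulAction.stabilizer G a).subtype := by
        apply hle
        rw [hfoc]; exact hk
      obtain ⟨k', hk', hkk⟩ := Subgroup.mem_map.mp h1
      have h2 : k' = ⟨k, (Subgroup.mem_inf.mp hk).1⟩ := Subtype.ext hkk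
      rw [← h2]
      exact MonoidHom.mem_ker.mp hk'
    apply hμne
    funext k
    obtain ⟨u, hu, s, hs, hks⟩ := zc_stab_eq_mul hZ hac H hHa hHcard hHfix k.1 k.2
    have h1 : k = (⟨u, hHa hu⟩ : MulAction.stabilizer G a) *
        ⟨s, (Subgroup.mem_inf.mp hs).1⟩ := Subtype.ext hks
    rw [h1, linear_char_mul hμc hμ1, hμH _ hu, hC1 s hs, mul_one]
  · intro u hu hu1
    rw [Cfsg.Agent.Lib.Helper2.indFun_apply]
    have huN : u ∈ MulAction.stabilizer G a := hHa hu
    have h2 : ∀ x : G, extendByZero (MulAction.stabilizer G a) μ (x⁻¹ * u * x) =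
        if x ∈ MulAction.stabilizer G a then 1 else 0 := by
      intro x
      by_cases hx : x ∈ MulAction.stabilizer G a
      · rw [if_pos hx]
        have h3 : x⁻¹ * u * x = (((⟨x, hx⟩ : MulAction.stabilizer G a)⁻¹ * ⟨u, huN⟩ *
            ⟨x, hx⟩ : MulAction.stabilizer G a) : G) := by
          simp
        rw [h3, extendByZero_coe, linear_char_conj_apply _ hμc hμ1]
        exact hμH _ hu
      · rw [if_neg hx]
        apply extendByZero_of_not_mem
        intro hmem
        apply hx
        rw [MulAction.mem_stabilizer_iff] at hmem ⊢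
        have h4 : u • (x • a) = x • a := by
          have h5 := congrArg (fun t => x • t) hmem
          simp only [mul_smul, smul_inv_smul] at h5
          exact h5
        exact hHfix u hu hu1 _ h4
    simp only [h2]
    rw [Finset.sum_boole]
    have h3 : (Finset.univ.filter (fun x : G => x ∈ MulAction.stabilizer G a)).card =
        Nat.card (MulAction.stabilizer G a) := by
      rw [Nat.card_eq_fintype_card, Fintype.card_subtype]
    rw [h3]
    field_simp

end Cfsg.Agent.S0881
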