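import Cfsg.Statements.S0882
import Cfsg.Agent.Lib.Helper11.ZassSimple

set_option autoImplicit false
open Cfsg

namespace Cfsg.Agent.S0882

open Cfsg.Agent.Lib.Helper11 Cfsg.Agent.Lib.Helper3.Zass

/-- Let G be a finite simple Zassenhaus group on Ω with n = h + 1 points whose two-point stabilizer E has odd order e with 2e < h - 1. Then any two involutions of G are conjugate, and the number of involutions is e * (h + 1) if h is even and e * h if h is odd. -/
theorem result {G Ω : Type*} [Group G] [Finite G] [MulAction G Ω] [Fintype Ω] (hZ : Cfsg.IsZassenhausGroup G Ω) {a b : Ω} (hab : a ≠ b) [IsSimpleGroup G] (h e : ℕ) (hh : Fintype.card Ω = h + 1) (he : Nat.card ↥(MulAction.stabilizer G a ⊓ MulAction.stabilizer G b : Subgroup G) = e) (hodd : Odd e) (hlt : 2 * e < h - 1) : (∀ x y : G, orderOf x = 2 → orderOf y = 2 → IsConj x y) ∧ Nat.card {x : G // orderOf x = 2} = (if Even h then e * (h + 1) else e * h) := by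
  classical
  haveI : Fintype G := Fintype.ofFinite G
  have hoddE : Odd (Nat.card ↥(MulAction.stabilizer G a ⊓ MulAction.stabilizer G b :
      Subgroup G)) := by rw [he]; exact hodd
  have hn3 := zc_three_le_card hZ hab
  -- two involutions swapping `a` and `b` are conjugate
  have hswapconj : ∀ t₁ t₂ : G, zinv t₁ → zinv t₂ → t₁ • a = b → t₂ • a = b →
      IsConj t₁ t₂ := by
    intro t₁ t₂ h₁ h₂ h₁a h₂a
    have h₁b : t₁ • b = a := zinv_swap h₁ h₁a
    have h₂b : t₂ • b = a := zinv_swap h₂ h₂a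
    have h₁inv : t₁⁻¹ = t₁ := inv_eq_of_mul_eq_one_right h₁.2
    have h₂inv : t₂⁻¹ = t₂ := inv_eq_of_mul_eq_one_right h₂.2
    have hsE : t₁ * t₂ ∈ (MulAction.stabilizer G a ⊓ MulAction.stabilizer G b : Subgroup G) := by
      rw [Subgroup.mem_inf, MulAction.mem_stabilizer_iff, MulAction.mem_stabilizer_iff]
      constructor
      · rw [mul_smul, h₂a, h₁b]
      · rw [mul_smul, h₂b, h₁a]
    have hsconj : t₁ * (t₁ * t₂) * t₁⁻¹ = (t₁ * t₂)⁻¹ := by
      rw [mul_inv_rev, h₁inv, h₂inv]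
      calc t₁ * (t₁ * t₂) * t₁ = (t₁ * t₁) * t₂ * t₁ := by group
        _ = t₂ * t₁ := by rw [h₁.2, one_mul]
    have hsodd : Odd (orderOf (t₁ * t₂)) := by
      have hdvd : orderOf (⟨t₁ * t₂, hsE⟩ : ↥(MulAction.stabilizer G a ⊓
          MulAction.stabilizer G b : Subgroup G)) ∣ Nat.card ↥(MulAction.stabilizer G a ⊓
          MulAction.stabilizer G b : Subgroup G) := orderOf_dvd_natCard _
      rw [Subgroup.orderOf_mk] at hdvd
      exact Odd.of_dvd_nat hoddE hdvd
    obtain ⟨m, hm⟩ := hsodd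
    have hrr : (t₁ * t₂) ^ (m + 1) * (t₁ * t₂) ^ (m + 1) = t₁ * t₂ := by
      rw [← pow_add]
      have h3 : m + 1 + (m + 1) = orderOf (t₁ * t₂) + 1 := by omega
      rw [h3, pow_succ, pow_orderOf_eq_one, one_mul]
    have hrconj : t₁ * (t₁ * t₂) ^ (m + 1) * t₁⁻¹ = ((t₁ * t₂) ^ (m + 1))⁻¹ := by
      rw [← conj_pow, hsconj, inv_pow]
    rw [isConj_iff]
    refine ⟨((t₁ * t₂) ^ (m + 1))⁻¹, ?_⟩
    rw [inv_inv]
    have h4 : t₁ * (t₁ * t₂) ^ (m + 1) = ((t₁ * t₂) ^ (m + 1))⁻¹ * t₁ := by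
      rw [← hrconj]; group
    rw [← h4, mul_assoc, hrr, ← mul_assoc, h₁.2, one_mul]
  have hto : ∀ x : G, zinv x → ∃ x' : G, IsConj x x' ∧ zinv x' ∧ x' • a = b := by
    intro x hx
    have hex : ∃ c : Ω, x • c ≠ c := by
      by_contra hall
      push Not at hall
      apply hx.1
      haveI := hZ.1
      apply FaithfulSMul.eq_of_smul_eq_smul (α := Ω)
      intro c
      rw [hall c, one_smul]
    obtain ⟨c, hc⟩ := hex
    obtain ⟨g, hgc, hgd⟩ := two_trans hZ (Ne.symm hc) hab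
    refine ⟨g * x * g⁻¹, isConj_iff.mpr ⟨g, rfl⟩, zinv_conj hx g, ?_⟩
    have h1 : g⁻¹ • a = c := by rw [inv_smul_eq_iff, hgc]
    rw [mul_smul, mul_smul, h1, hgd]
  have hpart1 : ∀ x y : G, zinv x → zinv y → IsConj x y := by
    intro x y hx hy
    obtain ⟨x', hxx', hx', hx'a⟩ := hto x hx
    obtain ⟨y', hyy', hy', hy'a⟩ := hto y hy
    exact hxx'.trans ((hswapconj x' y' hx' hy' hx'a hy'a).trans hyy'.symm)
  have hcardeq : Nat.card {x : G // orderOf x = 2} = Nat.card {t : G // zinv t} :=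
    Nat.card_congr (Equiv.subtypeEquivRight zinv_iff_orderOf)
  refine ⟨fun x y hx hy => hpart1 x y ((zinv_iff_orderOf x).mp hx)
    ((zinv_iff_orderOf y).mp hy), ?_⟩
  rw [hcardeq]
  by_cases hpar : Even h
  · rw [if_pos hpar]
    have hoddn : Odd (Fintype.card Ω) := by rw [hh]; exact Even.add_one hpar
    obtain ⟨-, hia⟩ := ZInv_of_odd hZ hoddn hab
    obtain ⟨-, hI⟩ := zi_stab_eq_swap hZ hoddn hab
    rw [hI, hia, he, hh, mul_comm]
  · rw [if_neg hpar]
    have hevenn : Even (Fintype.card Ω) := by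
      rw [hh]; exact (Nat.not_even_iff_odd.mp hpar).add_one
    have hI := zi_card_eq_add hZ hab
    have h0 : zJ G a a = 0 := by
      unfold zJ
      rw [Nat.card_eq_zero]
      left
      constructor
      rintro ⟨t, ht, hta⟩
      exact zi_fpf_of_even hZ hab hoddE hevenn ht a hta
    have hj : zJ G a b = e := by
      rw [zJ_eq_of_ZInv hZ hab (ZInv_of_simple hZ hab hoddE) hoddE, he]
    rw [hI, h0, hj, hh, Nat.add_sub_cancel, zero_add, mul_comm]

end Cfsg.Agent.S0882
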