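import Cfsg.Statements.S0883
import Cfsg.Agent.Lib.Helper11.ZassInvol

set_option autoImplicit false
open Cfsg

namespace Cfsg.Agent.S0883

open Cfsg.Agent.Lib.Helper11 Cfsg.Agent.Lib.Helper3.Zass

/-- Let G be a finite simple Zassenhaus group on Ω with h + 1 points whose two-point stabilizer E has odd order e with 2e < h - 1, and let H be the subgroup of the stabilizer of a consisting of the identity and the elements fixing no point other than a (given here as a subgroup of the stabilizer of order one less than the number of points whose non-identity elements fix only a; it is the Frobenius kernel of the stabilizer). If a non-identity element u of H is a product of two involutions of G, then u is an involution. -/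
theorem result {G Ω : Type*} [Group G] [Finite G] [MulAction G Ω] [Fintype Ω] (hZ : Cfsg.IsZassenhausGroup G Ω) {a b : Ω} (hab : a ≠ b) [IsSimpleGroup G] (h e : ℕ) (hh : Fintype.card Ω = h + 1) (he : Nat.card ↥(MulAction.stabilizer G a ⊓ MulAction.stabilizer G b : Subgroup G) = e) (hodd : Odd e) (hlt : 2 * e < h - 1) (H : Subgroup G) (hHa : H ≤ MulAction.stabilizer G a) (hHcard : Nat.card H + 1 = Fintype.card Ω) (hHfix : ∀ u ∈ H, u ≠ 1 → ∀ c : Ω, u • c = c → c = a) (u : G) (hu : u ∈ H) (hu1 : u ≠ 1) (x y : G) (hx : orderOf x = 2) (hy : orderOf y = 2) (hxy : x * y = u) : orderOf u = 2 := by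
  classical
  haveI : Fintype G := Fintype.ofFinite G
  have hxi : zinv x := (zinv_iff_orderOf x).mp hx
  have hyi : zinv y := (zinv_iff_orderOf y).mp hy
  have hxinv : x⁻¹ = x := inv_eq_of_mul_eq_one_right hxi.2
  have hconj : x * u * x⁻¹ = u⁻¹ := by
    have h1 : u⁻¹ = y * x := by
      rw [← hxy, mul_inv_rev, hxinv, inv_eq_of_mul_eq_one_right hyi.2]
    rw [h1, ← hxy, hxinv]
    calc x * (x * y) * x = (x * x) * y * x := by group
      _ = y * x := by rw [hxi.2, one_mul]
  have hua : u • a = a := MulAction.mem_stabilizer_iff.mp (hHa hu)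
  have huinvH : u⁻¹ ∈ H := H.inv_mem hu
  have huinv1 : u⁻¹ ≠ 1 := fun h => hu1 (inv_eq_one.mp h)
  have hxa : x • a = a := by
    apply hHfix u⁻¹ huinvH huinv1
    rw [← hconj, mul_smul, mul_smul, inv_smul_smul, hua]
  have hya : y • a = a := by
    have h1 : y = x * u := by rw [← hxy, ← mul_assoc, hxi.2, one_mul]
    rw [h1, mul_smul, hua, hxa]
  have hoddn : Odd (Fintype.card Ω) := by
    by_contra hne
    rw [Nat.not_odd_iff_even] at hne
    have hodde : Odd (Nat.card ↥(MulAction.stabilizer G a ⊓ MulAction.stabilizer G b :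
        Subgroup G)) := by rw [he]; exact hodd
    exact zi_fpf_of_even hZ hab hodde hne hxi a hxa
  obtain ⟨K, hFD, hK, hcard⟩ := exists_point_kernel hZ hab
  rw [zc_card_orbit_stab hZ hab] at hcard
  have hCx := (zi_centralizer_eq hZ hoddn hab K hK hcard ⟨x, hxa⟩ hxi).1
  have hyK : (⟨y, hya⟩ : MulAction.stabilizer G a) ∈ K := by
    rw [hK]; right
    intro c hca hyc
    obtain ⟨c0, hc0, hcu⟩ := invol_fix hZ hoddn y hyi.1 hyi.2
    apply hca
    rw [hcu c hyc, hcu a hya]
  rw [← hCx] at hyK
  have hcomm : (⟨x, hxa⟩ : MulAction.stabilizer G a) * ⟨y, hya⟩ = ⟨y, hya⟩ * ⟨x, hxa⟩ :=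
    Subgroup.mem_centralizer_iff.mp hyK _ rfl
  have hcomm' : x * y = y * x := congrArg Subtype.val hcomm
  rw [zinv_iff_orderOf]
  refine ⟨hu1, ?_⟩
  rw [← hxy]
  calc x * y * (x * y) = x * (y * x) * y := by group
    _ = x * (x * y) * y := by rw [← hcomm']
    _ = (x * x) * (y * y) := by group
    _ = 1 := by rw [hxi.2, hyi.2, one_mul]

end Cfsg.Agent.S0883
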