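import Cfsg.Statements.S0884
import Cfsg.Agent.Lib.Helper11.ZassPairs
import Cfsg.Agent.Lib.Helper11.ZassSimple

set_option autoImplicit false
open Cfsg

namespace Cfsg.Agent.S0884

open Cfsg.Agent.Lib.Helper11 Cfsg.Agent.Lib.Helper3.Zass

theorem arith_k2 (N e A2 k2 : ℕ) (hN : 0 < N) (he : 0 < e)
    (h1 : A2 * e = k2 * (N * e)) (h2 : 2 * A2 + N = N * e) : 2 * k2 + 1 = e := by
  have h3 : (N * e) * (2 * k2 + 1) = (N * e) * e := by
    calc (N * e) * (2 * k2 + 1) = 2 * (k2 * (N * e)) + N * e := by ring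
      _ = 2 * (A2 * e) + N * e := by rw [h1]
      _ = (2 * A2 + N) * e := by ring
      _ = (N * e) * e := by rw [h2]
  exact Nat.eq_of_mul_eq_mul_left (Nat.mul_pos hN he) h3

theorem arith_odd (n1 f k3 B3 : ℕ) (hn1 : 0 < n1)
    (hpairs : 2 * ((n1 + 1) * (f + 1) * ((n1 + 1) * (f + 1))) ≤
      2 * ((n1 + 1) * (f + 1)) + 2 * ((n1 + 1) * ((f + 1) * f)) +
        (n1 + 1) * (n1 * ((f + 1) * f)) + 2 * B3)
    (hB3 : B3 ≤ k3 * ((n1 + 1) * (n1 * (f + 1)))) : f + 2 ≤ 2 * k3 := by
  by_contra hcon
  push Not at hcon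
  have h1 : 2 * k3 ≤ f + 1 := by omega
  have h2 : 2 * k3 * ((n1 + 1) * (n1 * (f + 1))) ≤ (f + 1) * ((n1 + 1) * (n1 * (f + 1))) :=
    Nat.mul_le_mul_right _ h1
  have h3 : 0 < (n1 + 1) * (n1 * (f + 1)) := by positivity
  nlinarith

theorem arith_even (n2 f k3 B3 : ℕ) (hlt : 2 * (f + 1) < n2)
    (hpairs : 2 * ((n2 + 1) * (f + 1) * ((n2 + 1) * (f + 1))) ≤
      2 * ((n2 + 1) * (f + 1)) + 2 * 0 +
        (n2 + 2) * ((n2 + 1) * ((f + 1) * f)) + 2 * B3)
    (hB3 : B3 ≤ k3 * ((n2 + 2) * ((n2 + 1) * (f + 1)))) : f + 1 ≤ 2 * k3 := by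
  by_contra hcon
  push Not at hcon
  have h1 : 2 * k3 ≤ f := by omega
  have h2 : 2 * k3 * ((n2 + 2) * ((n2 + 1) * (f + 1))) ≤ f * ((n2 + 2) * ((n2 + 1) * (f + 1))) :=
    Nat.mul_le_mul_right _ h1
  have h3 : 0 < (n2 + 1) * (f + 1) := by positivity
  have h4 : 2 * (f + 1) * ((n2 + 1) * (f + 1)) < n2 * ((n2 + 1) * (f + 1)) :=
    Nat.mul_lt_mul_of_pos_right hlt h3
  nlinarith


/-- Let G be a finite simple Zassenhaus group on Ω with h + 1 points whose two-point stabilizer E has odd order e with 2e < h - 1, and let H be the subgroup of the stabilizer of a consisting of the identity and the elements fixing no point other than a (given here as a subgroup of the stabilizer of order one less than the number of points whose non-identity elements fix only a; it is the Frobenius kernel of the stabilizer). Then at least e conjugacy classes of G contain no element of H. -/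
theorem result {G Ω : Type*} [Group G] [Finite G] [MulAction G Ω] [Fintype Ω] (hZ : Cfsg.IsZassenhausGroup G Ω) {a b : Ω} (hab : a ≠ b) [IsSimpleGroup G] (h e : ℕ) (hh : Fintype.card Ω = h + 1) (he : Nat.card ↥(MulAction.stabilizer G a ⊓ MulAction.stabilizer G b : Subgroup G) = e) (hodd : Odd e) (hlt : 2 * e < h - 1) (H : Subgroup G) (hHa : H ≤ MulAction.stabilizer G a) (hHcard : Nat.card H + 1 = Fintype.card Ω) (hHfix : ∀ u ∈ H, u ≠ 1 → ∀ c : Ω, u • c = c → c = a) : e ≤ Nat.card {C : ConjClasses G // ∀ g : G, ConjClasses.mk g = C → g ∉ H} := by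
  classical
  haveI : Fintype G := Fintype.ofFinite G
  have hoddE : Odd (Nat.card ↥(MulAction.stabilizer G a ⊓ MulAction.stabilizer G b :
      Subgroup G)) := by rw [he]; exact hodd
  have hn3 := zc_three_le_card hZ hab
  have he1 := zc_one_lt_card hZ hab
  rw [he] at he1
  have hoddcd : ∀ c d : Ω, c ≠ d → Odd (Nat.card ↥(MulAction.stabilizer G c ⊓
      MulAction.stabilizer G d : Subgroup G)) := by
    intro c d hcd
    rw [zc_card_stab_inf_eq hZ hab hcd]; exact hoddE
  have hIall : ∀ c d : Ω, c ≠ d → ZInv G c d :=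
    fun c d hcd => ZInv_of_simple hZ hcd (hoddcd c d hcd)
  have hjcd : ∀ c d : Ω, c ≠ d → zJ G c d = e := by
    intro c d hcd
    rw [zJ_eq_of_ZInv hZ hcd (hIall c d hcd) (hoddcd c d hcd), zc_card_stab_inf_eq hZ hab hcd,
      he]
  have hGcard : Nat.card G = Fintype.card Ω * ((Fintype.card Ω - 1) * e) := by
    rw [zc_card_group hZ hab, he]
  -- classes of elements with exactly two fixed points
  have hk2eq : 2 * Nat.card {c : ConjClasses G // ∃ g : G, ConjClasses.mk g = c ∧
      zfix Ω g = 2} + 1 = e := by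
    have h1 := Cfsg.Agent.Lib.Helper7.card_mul_eq_card_classes_mul_card
      (fun g : G => zfix Ω g = 2)
      (fun x y hxy hx => by rw [zfix_isConj hxy]; exact hx) e
      (fun x hx => by rw [zc_card_centralizer_two hZ hab hoddE hIall hx, he])
    have h2 := zc_two_count hZ hab
    have hG' : Nat.card G = Fintype.card Ω * (Fintype.card Ω - 1) * e := by
      rw [hGcard]; ring
    rw [← Nat.card_eq_fintype_card (α := G), hG'] at h2
    rw [hG'] at h1
    exact arith_k2 (Fintype.card Ω * (Fintype.card Ω - 1)) e _ _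
      (Nat.mul_pos (by omega) (by omega)) (by omega) h1 h2
  -- classes of fixed point free elements
  have hB3 := zB3_le (G := G) (Ω := Ω)
  have hpairs := zp_pairs_bound (G := G) (Ω := Ω)
  have hsw : ∑ c : Ω, ∑ d ∈ Finset.univ.erase c, (zJ G c d * zJ G c d - zJ G c d) =
      Fintype.card Ω * ((Fintype.card Ω - 1) * (e * e - e)) := by
    have h1 : ∀ c : Ω, ∑ d ∈ Finset.univ.erase c, (zJ G c d * zJ G c d - zJ G c d) =
        (Fintype.card Ω - 1) * (e * e - e) := by
      intro c
      rw [Finset.sum_congr rfl (fun d hd => by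
        rw [hjcd c d (Ne.symm (Finset.ne_of_mem_erase hd))])]
      rw [Finset.sum_const, Finset.card_erase_of_mem (Finset.mem_univ c), Finset.card_univ,
        smul_eq_mul]
    rw [Finset.sum_congr rfl (fun c _ => h1 c), Finset.sum_const, Finset.card_univ, smul_eq_mul]
  obtain ⟨f, hf⟩ : ∃ f, e = f + 1 := ⟨e - 1, by omega⟩
  have hE2 : e * e - e = (f + 1) * f := by
    rw [hf]
    have : (f + 1) * (f + 1) = (f + 1) * f + (f + 1) := by ring
    omega
  rw [hsw, hE2] at hpairs
  rw [hGcard] at hB3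
  have hk3 : e + 1 ≤ 2 * Nat.card {c : ConjClasses G // ∃ g : G, ConjClasses.mk g = c ∧
      zfix Ω g = 0} := by
    by_cases hpar : Odd (Fintype.card Ω)
    · obtain ⟨-, hia⟩ := ZInv_of_odd hZ hpar hab
      obtain ⟨-, hI⟩ := zi_stab_eq_swap hZ hpar hab
      rw [he] at hia
      have hcc : ∀ c : Ω, zJ G c c = e := fun c => by rw [zJ_self_eq hZ a c, hia]
      rw [hI, hia, Finset.sum_congr rfl (fun c _ => by rw [hcc c]), Finset.sum_const,
        Finset.card_univ, smul_eq_mul, hE2] at hpairs
      obtain ⟨n1, hn1⟩ : ∃ n1, Fintype.card Ω = n1 + 1 := ⟨Fintype.card Ω - 1, by omega⟩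
      rw [hn1, hf] at hpairs hB3
      rw [Nat.add_sub_cancel] at hpairs hB3
      have := arith_odd n1 f _ _ (by omega) hpairs hB3
      omega
    · rw [Nat.not_odd_iff_even] at hpar
      have hI := zi_card_eq_add hZ hab
      have h0 : ∀ c : Ω, zJ G c c = 0 := by
        intro c
        unfold zJ
        rw [Nat.card_eq_zero]
        left
        constructor
        rintro ⟨t, ht, hta⟩
        exact zi_fpf_of_even hZ hab hoddE hpar ht c hta
      rw [h0 a, hjcd a b hab, zero_add] at hI
      have hz0 : ∑ c : Ω, (zJ G c c * zJ G c c - zJ G c c) = 0 :=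
        Finset.sum_eq_zero (fun c _ => by simp [h0 c])
      rw [hI, hz0] at hpairs
      obtain ⟨n2, hn2⟩ : ∃ n2, Fintype.card Ω = n2 + 2 := ⟨Fintype.card Ω - 2, by omega⟩
      rw [hn2, hf] at hpairs hB3
      have e1 : n2 + 2 - 1 = n2 + 1 := by omega
      rw [e1] at hpairs hB3
      have hlt' : 2 * (f + 1) < n2 := by
        rw [hh] at hn2
        omega
      have h1 := arith_even n2 f _ _ hlt' hpairs hB3
      obtain ⟨k, hk⟩ := hodd
      omega
  -- the two families of classes avoid `H`
  have hzH : ∀ u ∈ H, zfix Ω u ≠ 2 ∧ zfix Ω u ≠ 0 := by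
    intro u hu
    by_cases hu1 : u = 1
    · subst hu1
      rw [zfix_one]
      constructor <;> omega
    · have hua : u • a = a := MulAction.mem_stabilizer_iff.mp (hHa hu)
      have h1 : zfix Ω u = 1 := by
        unfold zfix
        rw [Finset.card_eq_one]
        refine ⟨a, ?_⟩
        ext c
        simp only [Finset.mem_filter, Finset.mem_univ, true_and, Finset.mem_singleton]
        constructor
        · intro hc; exact hHfix u hu hu1 c hc
        · intro hc; rw [hc]; exact hua
      rw [h1]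
      constructor <;> omega
  let φ : {c : ConjClasses G // ∃ g : G, ConjClasses.mk g = c ∧ zfix Ω g = 2} ⊕
      {c : ConjClasses G // ∃ g : G, ConjClasses.mk g = c ∧ zfix Ω g = 0} →
      {C : ConjClasses G // ∀ g : G, ConjClasses.mk g = C → g ∉ H} :=
    Sum.elim
      (fun c => ⟨c.1, by
        obtain ⟨g₀, hg₀, hz⟩ := c.2
        intro g hg hgH
        have hconj : IsConj g₀ g := ConjClasses.mk_eq_mk_iff_isConj.mp (hg₀.trans hg.symm)
        have := zfix_isConj (Ω := Ω) hconj
        rw [hz] at this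
        exact (hzH g hgH).1 this⟩)
      (fun c => ⟨c.1, by
        obtain ⟨g₀, hg₀, hz⟩ := c.2
        intro g hg hgH
        have hconj : IsConj g₀ g := ConjClasses.mk_eq_mk_iff_isConj.mp (hg₀.trans hg.symm)
        have := zfix_isConj (Ω := Ω) hconj
        rw [hz] at this
        exact (hzH g hgH).2 this⟩)
  have hφ : Function.Injective φ := by
    intro x y hxy
    have hval : (φ x).1 = (φ y).1 := congrArg Subtype.val hxy
    rcases x with x | x <;> rcases y with y | y
    · simp only [φ, Sum.elim_inl] at hval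
      exact congrArg Sum.inl (Subtype.ext hval)
    · exfalso
      simp only [φ, Sum.elim_inl, Sum.elim_inr] at hval
      obtain ⟨g, hg, hz⟩ := x.2
      obtain ⟨g', hg', hz'⟩ := y.2
      have hconj : IsConj g g' :=
        ConjClasses.mk_eq_mk_iff_isConj.mp (hg.trans (hval.trans hg'.symm))
      have := zfix_isConj (Ω := Ω) hconj
      omega
    · exfalso
      simp only [φ, Sum.elim_inl, Sum.elim_inr] at hval
      obtain ⟨g, hg, hz⟩ := x.2
      obtain ⟨g', hg', hz'⟩ := y.2
      have hconj : IsConj g g' :=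
        ConjClasses.mk_eq_mk_iff_isConj.mp (hg.trans (hval.trans hg'.symm))
      have := zfix_isConj (Ω := Ω) hconj
      omega
    · simp only [φ, Sum.elim_inr] at hval
      exact congrArg Sum.inr (Subtype.ext hval)
  have hcard := Nat.card_le_card_of_injective φ hφ
  rw [Nat.card_sum] at hcard
  omega

end Cfsg.Agent.S0884
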