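import Cfsg.Statements.S0887
import Cfsg.Agent.Lib.Helper2.DegreeRatio

set_option autoImplicit false
open Cfsg

namespace Cfsg.Agent.S0887

/-- Let N be a normal subgroup of the finite group G, χ an irreducible character of G and ϑ an irreducible character of N having nonzero inner product with the restriction of χ. If χ 1 = c and ϑ 1 = d as natural numbers, then d divides c and c / d divides the index of N. -/
theorem result {G : Type*} [Group G] [Fintype G] (N : Subgroup G) [N.Normal] [Fintype N] (χ : G → ℂ) (hχ : Cfsg.IsIrrCharacter G χ) (ϑ : N → ℂ) (hϑ : Cfsg.IsIrrCharacter N ϑ) (hcon : Cfsg.classInner (fun n : N => χ n) ϑ ≠ 0) (c d : ℕ) (hc : χ 1 = c) (hd : ϑ 1 = d) : d ∣ c ∧ c / d ∣ N.index := by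
  obtain ⟨b, d', hd', hbd, hb⟩ := Cfsg.Agent.Lib.Helper2.DegreeRatio.main N χ hχ ϑ hϑ hcon
  have hdd : d' = d := by
    have : (d' : ℂ) = (d : ℂ) := by rw [← hd', hd]
    exact_mod_cast this
  subst hdd
  have hcb : c = b * d' := by
    have : (c : ℂ) = ((b * d' : ℕ) : ℂ) := by rw [← hc, hbd]
    exact_mod_cast this
  have hdpos : 0 < d' := by
    rcases Nat.eq_zero_or_pos d' with h | h
    · exfalso
      apply Cfsg.Agent.Lib.Helper2.IsIrrCharacter.apply_one_ne_zero hϑ
      rw [hd, h, Nat.cast_zero]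
    · exact h
  subst hcb
  refine ⟨Dvd.intro_left b rfl, ?_⟩
  rw [Nat.mul_div_cancel b hdpos]
  exact hb

end Cfsg.Agent.S0887
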