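import Mathlib
import Cfsg.Statements.S0893
import Cfsg.Agent.Lib.Helper7.Extraspecial
import Cfsg.Agent.Lib.Helper7.Induced
import Cfsg.Agent.Lib.Helper2.Induction
import Cfsg.Agent.Lib.Helper25.LinearChar

set_option autoImplicit false
open Cfsg

namespace Cfsg.Agent.S0893

open Cfsg.Agent.Lib.Helper7 Cfsg.Agent.Lib.Helper2
open scoped ComplexConjugate commutatorElement

/-- Let P be an extraspecial p-group of order p ^ (2 * n + 1), A an abelian subgroup of order p ^ (n + 1), and λ a character of A of degree 1 that is not identically 1 on the elements of A lying in the centre of P. Then the function induced from λ to P is an irreducible character of P and vanishes at every element outside the centre. -/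
theorem result {P : Type*} [Group P] [Fintype P] (p n : ℕ) [Fact p.Prime] (hP : Cfsg.IsExtraspecial p P) (hcard : Nat.card P = p ^ (2 * n + 1)) (A : Subgroup P) (hab : ∀ a ∈ A, ∀ b ∈ A, a * b = b * a) (hA : Nat.card A = p ^ (n + 1)) (lam : A → ℂ) (hlam : Cfsg.IsCharacter A lam ∧ lam 1 = 1) (hZ : ∃ a : A, (a : P) ∈ Subgroup.center P ∧ lam a ≠ 1) : Cfsg.IsIrrCharacter P (Cfsg.indFun A lam) ∧ ∀ x : P, x ∉ Subgroup.center P → Cfsg.indFun A lam x = 0 := by
  classical
  have hp : p.Prime := Fact.out
  obtain ⟨⟨hpg, hfr, hcomm⟩, hcZ⟩ := hP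
  obtain ⟨hlc, hl1⟩ := hlam
  obtain ⟨a₀, ha₀Z, ha₀⟩ := hZ
  have hmul : ∀ a b : A, lam (a * b) = lam a * lam b :=
    Cfsg.Agent.Lib.Helper25.linear_char_mul hlc hl1
  have ha₀1 : (a₀ : P) ≠ 1 := by
    intro h
    apply ha₀
    have : a₀ = 1 := Subtype.ext h
    rw [this, hl1]
  -- Z ≤ A
  have hZA : Subgroup.center P ≤ A := by
    intro z hz
    have := mem_zpowers_of_center_prime hcZ ha₀Z ha₀1 hz
    exact (Subgroup.zpowers_le.mpr a₀.2) this
  -- λ z ≠ 1 for z ∈ Z, z ≠ 1
  have hlz : ∀ z : P, ∀ hz : z ∈ Subgroup.center P, z ≠ 1 → lam ⟨z, hZA hz⟩ ≠ 1 := by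
    intro z hz hz1 h
    apply ha₀
    have hmem := mem_zpowers_of_center_prime hcZ hz hz1 ha₀Z
    rw [← mem_powers_iff_mem_zpowers] at hmem
    obtain ⟨k, hk⟩ := Submonoid.mem_powers_iff _ _ |>.mp hmem
    have hk' : a₀ = (⟨z, hZA hz⟩ : A) ^ k := Subtype.ext hk.symm
    have hpow : ∀ j : ℕ, lam ((⟨z, hZA hz⟩ : A) ^ j) = 1 := by
      intro j
      induction j with
      | zero => rw [pow_zero, hl1]
      | succ j ih => rw [pow_succ, hmul, ih, h, one_mul]
    rw [hk', hpow]
  -- ext (y * z) = ext y * λ z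
  have hext : ∀ (y z : P) (hz : z ∈ Subgroup.center P),
      extendByZero A lam (y * z) = extendByZero A lam y * lam ⟨z, hZA hz⟩ := by
    intro y z hz
    by_cases hy : y ∈ A
    · rw [extendByZero_apply_mem A lam hy, extendByZero_apply_mem A lam (A.mul_mem hy (hZA hz)),
        ← hmul]
      rfl
    · have hyz : y * z ∉ A := by
        intro h
        apply hy
        have := A.mul_mem h (A.inv_mem (hZA hz))
        rwa [mul_inv_cancel_right] at this
      rw [extendByZero_apply_not_mem A lam hy, extendByZero_apply_not_mem A lam hyz, zero_mul]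
  have hφz : ∀ (x z : P) (hz : z ∈ Subgroup.center P),
      indFun A lam (x * z) = lam ⟨z, hZA hz⟩ * indFun A lam x := by
    intro x z hz
    rw [Cfsg.Agent.Lib.Helper7.indFun_apply, Cfsg.Agent.Lib.Helper7.indFun_apply, mul_left_comm]
    congr 1
    rw [Finset.mul_sum]
    apply Finset.sum_congr rfl
    intro g _
    have : g⁻¹ * (x * z) * g = (g⁻¹ * x * g) * z := by
      have hzg : g * z = z * g := (Subgroup.mem_center_iff.mp hz g)
      calc g⁻¹ * (x * z) * g = g⁻¹ * x * (z * g) := by group
        _ = g⁻¹ * x * (g * z) := by rw [hzg]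
        _ = (g⁻¹ * x * g) * z := by group
    rw [this, hext _ z hz, mul_comm]
  have hcf := indFun_isClassFunction A lam
  -- vanishing off the centre
  have hvanish : ∀ x : P, x ∉ Subgroup.center P → indFun A lam x = 0 := by
    intro x hx
    have hex : ∃ g : P, x⁻¹ * g⁻¹ * x * g ≠ 1 := by
      by_contra hall
      push Not at hall
      apply hx
      rw [Subgroup.mem_center_iff]
      intro g
      have := hall g
      have h2 : g * x = x * g * (x⁻¹ * g⁻¹ * x * g)⁻¹ := by group
      rw [h2, this, inv_one, mul_one]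
    obtain ⟨g, hg⟩ := hex
    have hzc : x⁻¹ * g⁻¹ * x * g ∈ Subgroup.center P := by
      rw [← hcomm]
      have : x⁻¹ * g⁻¹ * x * g = ⁅x⁻¹, g⁻¹⁆ := by
        rw [commutatorElement_def]; group
      rw [this]
      exact Subgroup.commutator_mem_commutator (Subgroup.mem_top _) (Subgroup.mem_top _)
    have h1 := hφz x _ hzc
    have h2 : x * (x⁻¹ * g⁻¹ * x * g) = g⁻¹ * x * g⁻¹⁻¹ := by group
    rw [h2, hcf x g⁻¹] at h1
    have h4 : (1 - lam ⟨_, hZA hzc⟩) * indFun A lam x = 0 := by
      rw [sub_mul, one_mul, ← h1, sub_self]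
    rcases mul_eq_zero.mp h4 with h | h
    · exact absurd (sub_eq_zero.mp h).symm (hlz _ hzc hg)
    · exact h
  refine ⟨?_, hvanish⟩
  -- values on the centre
  have hAne : (Nat.card A : ℂ) ≠ 0 := by
    rw [hA]; exact_mod_cast (pow_pos hp.pos _).ne'
  have hval : ∀ z : P, ∀ hz : z ∈ Subgroup.center P,
      indFun A lam z = (p : ℂ) ^ n * lam ⟨z, hZA hz⟩ := by
    intro z hz
    rw [Cfsg.Agent.Lib.Helper7.indFun_apply]
    have : ∀ g : P, extendByZero A lam (g⁻¹ * z * g) = lam ⟨z, hZA hz⟩ := by
      intro g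
      have hzg : g⁻¹ * z * g = z := by
        have := (Subgroup.mem_center_iff.mp hz g)
        calc g⁻¹ * z * g = g⁻¹ * (z * g) := by group
          _ = g⁻¹ * (g * z) := by rw [this]
          _ = z := by group
      rw [hzg, extendByZero_apply_mem A lam (hZA hz)]
    rw [Finset.sum_congr rfl (fun g _ => this g), Finset.sum_const, nsmul_eq_mul, Finset.card_univ,
      ← Nat.card_eq_fintype_card, hcard, hA, ← mul_assoc]
    congr 1
    push_cast
    have hpne : (p : ℂ) ≠ 0 := by exact_mod_cast hp.ne_zero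
    field_simp
    ring
  apply isIrrCharacter_of_classInner_self_eq_one (indFun_isCharacter A lam hlc)
  rw [classInner_def]
  have hsplit : ∑ x : P, indFun A lam x * conj (indFun A lam x) =
      ∑ x ∈ Finset.univ.filter (fun x : P => x ∈ Subgroup.center P), ((p : ℂ) ^ n) ^ 2 := by
    rw [Finset.sum_filter]
    apply Finset.sum_congr rfl
    intro x _
    by_cases hx : x ∈ Subgroup.center P
    · rw [if_pos hx, hval x hx, Complex.mul_conj, Complex.normSq_eq_norm_sq, norm_mul,
        Cfsg.Agent.Lib.Helper25.norm_linear_char hlc hl1, mul_one, norm_pow, Complex.norm_natCast]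
      push_cast
      rfl
    · rw [if_neg hx, hvanish x hx, zero_mul]
  rw [hsplit, Finset.sum_const, nsmul_eq_mul]
  have hcardZ : (Finset.univ.filter (fun x : P => x ∈ Subgroup.center P)).card = p := by
    rw [← hcZ, Nat.card_eq_fintype_card, Fintype.card_subtype]
  rw [hcardZ, hcard]
  have hpne : (p : ℂ) ≠ 0 := by exact_mod_cast hp.ne_zero
  push_cast
  field_simp
  ring

end Cfsg.Agent.S0893
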