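import Mathlib
import Cfsg.Statements.S0894
import Cfsg.Agent.Lib.Helper7.Extraspecial
import Cfsg.Agent.Lib.Helper2.Regular

set_option autoImplicit false
open Cfsg

namespace Cfsg.Agent.S0894

open Cfsg.Agent.Lib.Helper7 Cfsg.Agent.Lib.Helper2

/-- Let P be an extraspecial p-group of order p ^ (2 * n + 1). Then every irreducible character of P has degree 1 or p ^ n, and exactly p - 1 of them have degree p ^ n. -/
theorem result {P : Type*} [Group P] [Finite P] (p n : ℕ) [Fact p.Prime] (hP : Cfsg.IsExtraspecial p P) (hcard : Nat.card P = p ^ (2 * n + 1)) : (∀ χ : Cfsg.IrrCharacter P, (χ : P → ℂ) 1 = 1 ∨ (χ : P → ℂ) 1 = (p : ℂ) ^ n) ∧ Nat.card {χ : Cfsg.IrrCharacter P // (χ : P → ℂ) 1 = (p : ℂ) ^ n} = p - 1 := by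
  classical
  have hp : p.Prime := Fact.out
  have : Fintype P := Fintype.ofFinite P
  have : Fintype (Cfsg.IrrCharacter P) := Fintype.ofFinite _
  obtain ⟨⟨hpg, hfr, hcomm⟩, hZ⟩ := hP
  -- degrees
  have hdeg : ∀ χ : Cfsg.IrrCharacter P, (χ : P → ℂ) 1 = 1 ∨ (χ : P → ℂ) 1 = (p : ℂ) ^ n := by
    rintro ⟨χ, d, ρ, hirr, rfl⟩
    have h1 : ρ.character 1 = (d : ℂ) := by
      rw [Representation.char_one]; simp
    have hfr : Module.finrank ℂ (Fin d → ℂ) = d := by simp
    show ρ.character 1 = 1 ∨ ρ.character 1 = (p : ℂ) ^ n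
    rw [h1]
    rcases extraspecial_irr_dichotomy hcomm hZ ρ hirr with h | ⟨-, h⟩
    · left; rw [hfr] at h; rw [h]; simp
    · right
      rw [hfr, hcard] at h
      have hppos : 0 < p := hp.pos
      have h2 : d ^ 2 = (p ^ n) ^ 2 := by
        have h' : d ^ 2 * p = (p ^ n) ^ 2 * p := by rw [h]; ring
        exact Nat.eq_of_mul_eq_mul_right hppos h'
      have h3 : d = p ^ n := by
        have := (Nat.pow_left_injective (n := 2) (by norm_num)) h2
        exact this
      rw [h3]; push_cast; rfl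
  refine ⟨hdeg, ?_⟩
  -- n ≥ 1
  have hn : 1 ≤ n := by
    by_contra hn0
    have hn0' : n = 0 := by omega
    rw [hn0', mul_zero, zero_add, pow_one] at hcard
    have htop : Subgroup.center P = ⊤ := Subgroup.eq_top_of_card_eq _ (by rw [hZ, hcard])
    have hcomm' : ∀ a b : P, a * b = b * a := by
      intro a b
      have : b ∈ Subgroup.center P := by rw [htop]; exact Subgroup.mem_top b
      exact (Subgroup.mem_center_iff.mp this a)
    have hbot : commutator P = ⊥ := by
      rw [commutator_def, Subgroup.commutator_eq_bot_iff_le_centralizer]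
      intro a _
      rw [Subgroup.mem_centralizer_iff]
      intro b _
      exact hcomm' b a
    rw [hbot] at hcomm
    have : Nat.card (⊥ : Subgroup P) = p := by rw [hcomm, hZ]
    rw [Subgroup.card_bot] at this
    exact hp.one_lt.ne this
  have hpn1 : (p : ℂ) ^ n ≠ 1 := by
    have : (p ^ n : ℕ) ≠ 1 := by
      have h1 : 1 < p ^ n := Nat.one_lt_pow (by omega) hp.one_lt
      omega
    exact_mod_cast this
  -- the sum of squares
  have hsum := sum_irr_degree_sq (G := P)
  rw [← Finset.sum_filter_add_sum_filter_not Finset.univ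
    (fun χ : Cfsg.IrrCharacter P => (χ : P → ℂ) 1 = 1)] at hsum
  have hs1 : ∑ χ ∈ Finset.univ.filter (fun χ : Cfsg.IrrCharacter P => (χ : P → ℂ) 1 = 1),
      (χ : P → ℂ) 1 ^ 2 =
      ((Finset.univ.filter (fun χ : Cfsg.IrrCharacter P => (χ : P → ℂ) 1 = 1)).card : ℂ) := by
    rw [Finset.sum_congr rfl (g := fun _ => (1 : ℂ))]
    · simp
    · intro χ hχ
      rw [(Finset.mem_filter.mp hχ).2]; ring
  have hs2 : ∑ χ ∈ Finset.univ.filter (fun χ : Cfsg.IrrCharacter P => ¬ (χ : P → ℂ) 1 = 1),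
      (χ : P → ℂ) 1 ^ 2 =
      ((Finset.univ.filter (fun χ : Cfsg.IrrCharacter P => ¬ (χ : P → ℂ) 1 = 1)).card : ℂ) *
        ((p : ℂ) ^ n) ^ 2 := by
    rw [Finset.sum_congr rfl (g := fun _ => ((p : ℂ) ^ n) ^ 2)]
    · simp
    · intro χ hχ
      rcases hdeg χ with h | h
      · exact absurd h (Finset.mem_filter.mp hχ).2
      · rw [h]
  rw [hs1, hs2] at hsum
  have hfilt : Finset.univ.filter (fun χ : Cfsg.IrrCharacter P => ¬ (χ : P → ℂ) 1 = 1) =
      Finset.univ.filter (fun χ : Cfsg.IrrCharacter P => (χ : P → ℂ) 1 = (p : ℂ) ^ n) := by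
    ext χ
    simp only [Finset.mem_filter, Finset.mem_univ, true_and]
    constructor
    · intro h
      rcases hdeg χ with h' | h'
      · exact absurd h' h
      · exact h'
    · intro h h'
      rw [h] at h'
      exact hpn1 h'
  have hlin : (Finset.univ.filter (fun χ : Cfsg.IrrCharacter P => (χ : P → ℂ) 1 = 1)).card =
      p ^ (2 * n) := by
    have h1 := card_linear_irrCharacter (G := P)
    rw [Nat.card_eq_fintype_card, Fintype.card_subtype] at h1
    rw [h1, hcomm]
    have h2 := Subgroup.card_mul_index (Subgroup.center P)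
    rw [hZ, hcard, pow_succ, mul_comm] at h2
    exact Nat.eq_of_mul_eq_mul_right hp.pos h2
  rw [Nat.card_eq_fintype_card, Fintype.card_subtype, ← hfilt]
  set N := (Finset.univ.filter (fun χ : Cfsg.IrrCharacter P => ¬ (χ : P → ℂ) 1 = 1)).card with hN
  rw [hlin, hcard] at hsum
  have hnat : p ^ (2 * n) + N * (p ^ n) ^ 2 = p ^ (2 * n + 1) := by exact_mod_cast hsum
  have h3 : (p ^ n) ^ 2 = p ^ (2 * n) := by rw [← pow_mul, mul_comm]
  rw [h3, pow_succ] at hnat
  have hpos : 0 < p ^ (2 * n) := pow_pos hp.pos _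
  have h4 : p ^ (2 * n) * (1 + N) = p ^ (2 * n) * p := by
    rw [mul_add, mul_one, mul_comm (p ^ (2 * n)) N]; exact hnat
  have h5 := Nat.eq_of_mul_eq_mul_left hpos h4
  omega

end Cfsg.Agent.S0894
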