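import Mathlib
import Cfsg.Statements.S0895
import Cfsg.Agent.Lib.Helper24.FrobSchur
import Cfsg.Agent.Lib.Helper25.Irred
import Cfsg.Agent.S4475

set_option autoImplicit false
open Cfsg

namespace Cfsg.Agent.S0895

open scoped ComplexConjugate

/-- An invariant nonzero bilinear form of an irreducible representation is nondegenerate. -/
theorem h7_det_ne_zero {G : Type*} [Group G] (n : ℕ) (ρ : Representation ℂ G (Fin n → ℂ))
    (hirr : ρ.IsIrreducible) (M : Matrix (Fin n) (Fin n) ℂ) (hM0 : M ≠ 0)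
    (hM : ∀ g : G, (LinearMap.toMatrix' (ρ g)).transpose * M * LinearMap.toMatrix' (ρ g) = M) :
    M.det ≠ 0 := by
  obtain ⟨_, hW⟩ := (Cfsg.Agent.Lib.Helper25.isIrreducible_iff ρ).mp hirr
  have hcomm : ∀ g : G, M * LinearMap.toMatrix' (ρ g) =
      (LinearMap.toMatrix' (ρ g⁻¹)).transpose * M := by
    intro g
    have h1 := hM g⁻¹
    have h2 : LinearMap.toMatrix' (ρ g⁻¹) * LinearMap.toMatrix' (ρ g) = 1 := by
      rw [← LinearMap.toMatrix'_mul, ← map_mul, inv_mul_cancel, map_one]
      exact LinearMap.toMatrix'_one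
    calc M * LinearMap.toMatrix' (ρ g)
        = ((LinearMap.toMatrix' (ρ g⁻¹)).transpose * M * LinearMap.toMatrix' (ρ g⁻¹)) *
            LinearMap.toMatrix' (ρ g) := by rw [h1]
      _ = (LinearMap.toMatrix' (ρ g⁻¹)).transpose * M *
            (LinearMap.toMatrix' (ρ g⁻¹) * LinearMap.toMatrix' (ρ g)) := by
          rw [Matrix.mul_assoc]
      _ = (LinearMap.toMatrix' (ρ g⁻¹)).transpose * M := by rw [h2, Matrix.mul_one]
  have hinv : ∀ g : G, ∀ v ∈ LinearMap.ker (Matrix.mulVecLin M), ρ g v ∈ LinearMap.ker (Matrix.mulVecLin M) := by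
    intro g v hv
    rw [LinearMap.mem_ker, Matrix.mulVecLin_apply] at hv ⊢
    have : ρ g v = (LinearMap.toMatrix' (ρ g)).mulVec v := (LinearMap.toMatrix'_mulVec (ρ g) v).symm
    rw [this, Matrix.mulVec_mulVec, hcomm g, ← Matrix.mulVec_mulVec, hv, Matrix.mulVec_zero]
  rcases hW _ hinv with h | h
  · rw [Matrix.ker_mulVecLin_eq_bot_iff] at h
    have hinj : Function.Injective M.mulVec := by
      intro v w hvw
      have : M.mulVec (v - w) = 0 := by rw [Matrix.mulVec_sub, hvw, sub_self]
      exact sub_eq_zero.mp (h _ this)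
    have hu := Matrix.mulVec_injective_iff_isUnit.mp hinj
    exact ((Matrix.isUnit_iff_isUnit_det M).mp hu).ne_zero
  · exfalso
    apply hM0
    have h0 : Matrix.mulVecLin M = 0 := LinearMap.ker_eq_top.mp h
    ext i j
    have := congrFun (congrArg (fun f => f (Pi.single j 1)) h0) i
    simpa [Matrix.mulVecLin_apply] using this

/-- Let χ be a real-valued irreducible character of a finite group G whose degree is an odd natural number. Then the average over s in G of χ (s * s) equals 1. -/
theorem result {G : Type*} [Group G] [Fintype G] (χ : G → ℂ) (hχ : Cfsg.IsIrrCharacter G χ) (hreal : ∀ g : G, (χ g).im = 0) (d : ℕ) (hd : χ 1 = d) (hodd : Odd d) : (Nat.card G : ℂ)⁻¹ * ∑ s : G, χ (s * s) = 1 := by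
  obtain ⟨n, ρ, hirr, rfl⟩ := hχ
  have hn : n = d := by
    have h1 : ρ.character 1 = (n : ℂ) := by
      rw [Representation.char_one]; simp
    rw [h1] at hd
    exact_mod_cast hd
  obtain ⟨⟨M, hM0, hMinv⟩, hall⟩ := Cfsg.Agent.S4475.result n ρ hirr hreal
  have hfin := (Cfsg.Agent.Lib.Helper24.finrank_Inv_eq_one_iff ρ hirr).mpr hreal
  rcases Cfsg.Agent.Lib.Helper24.fs_of_finrank_eq_one ρ hfin with h | h
  · exact h
  · exfalso
    have hT := hall M hMinv
    rw [h] at hT
    have hdet := congrArg Matrix.det hT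
    have hodd' : Odd n := hn ▸ hodd
    rw [Matrix.det_transpose, Matrix.det_smul, Fintype.card_fin, Odd.neg_one_pow hodd'] at hdet
    have hne := h7_det_ne_zero n ρ hirr M hM0 hMinv
    have : M.det = 0 := by linear_combination hdet / 2
    exact hne this

end Cfsg.Agent.S0895
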