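import Mathlib
import Cfsg.Statements.S0900
import Cfsg.Agent.Lib.Helper2.Clifford
import Cfsg.Agent.Lib.Helper2.Regular
import Cfsg.Agent.Lib.Helper2.Linear

set_option autoImplicit false
open Cfsg

namespace Cfsg.Agent.S0900

open scoped ComplexConjugate
open Cfsg.Agent.Lib.Helper2

/-- splitting a sum over `G` into the part over `N` and the rest -/
theorem sum_split {G : Type*} [Group G] [Fintype G] (N : Subgroup G) [Fintype N]
    [DecidablePred (fun g : G => g ∈ N)] (f : G → ℂ) :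
    ∑ g : G, f g = ∑ n : N, f n + ∑ g ∈ Finset.univ.filter (fun g : G => ¬ g ∈ N), f g := by
  rw [← Finset.sum_filter_add_sum_filter_not Finset.univ (fun g : G => g ∈ N) f]
  congr 1
  rw [← Finset.sum_subtype (Finset.univ.filter (fun g : G => g ∈ N)) (p := fun g => g ∈ N)
    (by intro x; simp) f]

/-- If `ϑ` is invariant, the restriction of `χ` is a natural multiple of `ϑ`. -/
theorem res_eq_of_invariant {G : Type*} [Group G] [Fintype G] (N : Subgroup G) [hN : N.Normal]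
    [Fintype N] (χ : G → ℂ) (hχ : Cfsg.IsIrrCharacter G χ) (ϑ : N → ℂ)
    (hϑ : Cfsg.IsIrrCharacter N ϑ) (hcon : Cfsg.classInner (fun n : N => χ n) ϑ ≠ 0)
    (hinv : ∀ (g : G) (n : N), ϑ ⟨g * n * g⁻¹, hN.conj_mem (n : G) n.2 g⟩ = ϑ n) :
    ∃ e : ℕ, Cfsg.classInner (fun n : N => χ n) ϑ = (e : ℂ) ∧
      (fun n : N => χ n) = (e : ℂ) • ϑ := by
  obtain ⟨e, he⟩ := classInner_isCharacter_nat
    (IsCharacter.restrict (IsIrrCharacter.isCharacter hχ) N) (IsIrrCharacter.isCharacter hϑ)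
  refine ⟨e, he, ?_⟩
  have hcl := clifford_restriction N hχ hϑ hcon
  have hS : {ψ : N → ℂ | ∃ g : G, ψ = conjFun N g ϑ} = {ϑ} := by
    ext ψ
    simp only [Set.mem_ofPred_eq, Set.mem_singleton_iff]
    constructor
    · rintro ⟨g, rfl⟩
      funext n
      exact hinv g n
    · rintro rfl
      exact ⟨1, (conjFun_one N ψ).symm⟩
  rw [hS, finsum_mem_singleton, he] at hcl
  exact hcl

theorem result {G : Type*} [Group G] [Fintype G] (N : Subgroup G) [hN : N.Normal] [Fintype N] (χ : G → ℂ) (hχ : Cfsg.IsIrrCharacter G χ) (ϑ : N → ℂ) (hϑ : Cfsg.IsIrrCharacter N ϑ) (hcon : Cfsg.classInner (fun n : N => χ n) ϑ ≠ 0) : ((∃ e : ℕ, (fun n : N => χ n) = (e : ℂ) • ϑ ∧ e ^ 2 = N.index) ↔ ((∀ g : G, g ∉ N → χ g = 0) ∧ ∀ (g : G) (n : N), ϑ ⟨g * n * g⁻¹, hN.conj_mem (n : G) n.2 g⟩ = ϑ n)) ∧ ((∃ e : ℕ, (fun n : N => χ n) = (e : ℂ) • ϑ ∧ e ^ 2 = N.index) ↔ (∀ (g : G) (n : N), ϑ ⟨g * n * g⁻¹, hN.conj_mem (n : G) n.2 g⟩ = ϑ n ∧ ∀ ψ : G → ℂ, Cfsg.IsIrrCharacter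 G ψ → Cfsg.classInner (Cfsg.indFun N ϑ) ψ ≠ 0 → ψ = χ)) := by
  classical
  have hχcf : Cfsg.IsClassFunction G χ :=
    IrrCharacter.isClassFunction (⟨χ, hχ⟩ : Cfsg.IrrCharacter G)
  have hχχ : Cfsg.classInner χ χ = 1 := classInner_irrCharacter_self (⟨χ, hχ⟩ : Cfsg.IrrCharacter G)
  have hϑϑ : Cfsg.classInner ϑ ϑ = 1 := classInner_irrCharacter_self (⟨ϑ, hϑ⟩ : Cfsg.IrrCharacter N)
  have hGne : (Nat.card G : ℂ) ≠ 0 := card_ne_zero_complex
  have hNne : (Nat.card N : ℂ) ≠ 0 := card_ne_zero_complex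
  have hidx : (Nat.card N : ℂ) * (N.index : ℂ) = (Nat.card G : ℂ) := by
    exact_mod_cast N.card_mul_index
  have hidx0 : N.index ≠ 0 := Subgroup.index_ne_zero_of_finite
  -- sum formulas
  have hsumG : ∑ g : G, χ g * conj (χ g) = (Nat.card G : ℂ) := by
    have := hχχ
    rw [classInner_def] at this
    field_simp at this
    exact this
  -- (a) ⇒ invariance
  have ha_inv : (∃ e : ℕ, (fun n : N => χ n) = (e : ℂ) • ϑ ∧ e ^ 2 = N.index) →
      ∀ (g : G) (n : N), ϑ ⟨g * n * g⁻¹, hN.conj_mem (n : G) n.2 g⟩ = ϑ n := by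
    rintro ⟨e, he, he2⟩ g n
    have he0 : (e : ℂ) ≠ 0 := by
      intro h
      have : e = 0 := by exact_mod_cast h
      rw [this] at he2
      exact hidx0 (by simpa using he2.symm)
    have h1 := congrFun he ⟨g * n * g⁻¹, hN.conj_mem (n : G) n.2 g⟩
    have h2 := congrFun he n
    simp only [Pi.smul_apply, smul_eq_mul] at h1 h2
    rw [hχcf n g, h2] at h1
    exact (mul_left_cancel₀ he0 h1).symm
  -- (a) ⇒ sum over N
  have ha_sumN : ∀ e : ℕ, (fun n : N => χ n) = (e : ℂ) • ϑ →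
      ∑ n : N, χ n * conj (χ n) = (e : ℂ) ^ 2 * (Nat.card N : ℂ) := by
    intro e he
    have h1 : Cfsg.classInner (fun n : N => χ n) (fun n : N => χ n) = (e : ℂ) ^ 2 := by
      rw [he, classInner_smul_left, classInner_smul_right, hϑϑ]
      simp [sq]
    rw [classInner_def] at h1
    field_simp at h1
    rw [h1, mul_comm]
  refine ⟨⟨fun ha => ⟨?_, ha_inv ha⟩, ?_⟩, ⟨fun ha => ?_, ?_⟩⟩
  · -- (a) ⇒ vanishing
    obtain ⟨e, he, he2⟩ := ha
    have hN' := ha_sumN e he
    have hsplit := sum_split N (fun g => χ g * conj (χ g))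
    rw [hsumG, hN'] at hsplit
    have he2' : (e : ℂ) ^ 2 = (N.index : ℂ) := by exact_mod_cast he2
    rw [he2', mul_comm, hidx] at hsplit
    have hzero : ∑ g ∈ Finset.univ.filter (fun g : G => g ∉ N), χ g * conj (χ g) = 0 := by
      have := hsplit
      linear_combination -this
    have hzero' : ∑ g ∈ Finset.univ.filter (fun g : G => g ∉ N), Complex.normSq (χ g) = 0 := by
      have : ((∑ g ∈ Finset.univ.filter (fun g : G => g ∉ N), Complex.normSq (χ g) : ℝ) : ℂ) = 0 := by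
        rw [← hzero]
        push_cast
        apply Finset.sum_congr rfl
        intro g _
        rw [Complex.mul_conj]
      exact_mod_cast this
    intro g hg
    have := (Finset.sum_eq_zero_iff_of_nonneg (fun g _ => Complex.normSq_nonneg (χ g))).mp hzero' g
      (by simp [hg])
    exact Complex.normSq_eq_zero.mp this
  · -- (b) ⇒ (a)
    rintro ⟨hvan, hinv⟩
    obtain ⟨e, he, hres⟩ := res_eq_of_invariant N χ hχ ϑ hϑ hcon hinv
    refine ⟨e, hres, ?_⟩
    have hN' := ha_sumN e hres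
    have hsplit := sum_split N (fun g => χ g * conj (χ g))
    rw [hsumG, hN'] at hsplit
    have hzero : ∑ g ∈ Finset.univ.filter (fun g : G => g ∉ N), χ g * conj (χ g) = 0 := by
      apply Finset.sum_eq_zero
      intro g hg
      rw [Finset.mem_filter] at hg
      rw [hvan g hg.2, zero_mul]
    rw [hzero, add_zero, ← hidx] at hsplit
    have : (N.index : ℂ) = (e : ℂ) ^ 2 := by
      have h := hsplit
      rw [mul_comm] at h
      exact mul_right_cancel₀ hNne h
    exact_mod_cast this.symm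
  · -- (a) ⇒ (c)
    have hinv := ha_inv ha
    obtain ⟨e, he, he2⟩ := ha
    intro g n
    refine ⟨hinv g n, ?_⟩
    intro ψ hψ hψne
    have hconj : ∀ x : G, conjFun N x ϑ = ϑ := by
      intro x; funext n; exact hinv x n
    have h11 : Cfsg.classInner (Cfsg.indFun N ϑ) (Cfsg.indFun N ϑ) = (N.index : ℂ) := by
      rw [classInner_indFun_indFun]
      simp only [hconj, hϑϑ]
      rw [Finset.sum_const, Finset.card_univ, nsmul_eq_mul, mul_one, ← Nat.card_eq_fintype_card,
        ← hidx]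
      field_simp
    have h12 : Cfsg.classInner (Cfsg.indFun N ϑ) χ = (e : ℂ) := by
      rw [frobenius_reciprocity N ϑ χ hχcf, he, classInner_smul_right, hϑϑ]
      simp
    have h21 : Cfsg.classInner χ (Cfsg.indFun N ϑ) = (e : ℂ) := by
      rw [← classInner_conj_symm, h12]
      simp
    have he2' : (e : ℂ) ^ 2 = (N.index : ℂ) := by exact_mod_cast he2
    have hzero : Cfsg.classInner (Cfsg.indFun N ϑ - (e : ℂ) • χ) (Cfsg.indFun N ϑ - (e : ℂ) • χ) = 0 := by
      rw [classInner_sub_left, classInner_sub_right, classInner_sub_right, classInner_smul_left,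
        classInner_smul_left, classInner_smul_right, classInner_smul_right, h11, h12, h21, hχχ,
        ← he2']
      simp
      ring
    have heq : Cfsg.indFun N ϑ = (e : ℂ) • χ := sub_eq_zero.mp (eq_zero_of_classInner_self_eq_zero _ hzero)
    rw [heq, classInner_smul_left] at hψne
    have hne : Cfsg.classInner χ ψ ≠ 0 := right_ne_zero_of_mul hψne
    by_contra hne'
    apply hne
    have : (⟨χ, hχ⟩ : Cfsg.IrrCharacter G) ≠ ⟨ψ, hψ⟩ := by
      intro h
      exact hne' (congrArg Subtype.val h).symm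
    exact classInner_irrCharacter_ne this
  · -- (c) ⇒ (a)
    intro hc
    have hinv : ∀ (g : G) (n : N), ϑ ⟨g * n * g⁻¹, hN.conj_mem (n : G) n.2 g⟩ = ϑ n :=
      fun g n => (hc g n).1
    have hconst := (hc 1 1).2
    obtain ⟨e, he, hres⟩ := res_eq_of_invariant N χ hχ ϑ hϑ hcon hinv
    refine ⟨e, hres, ?_⟩
    have : Fintype (Cfsg.IrrCharacter G) := Fintype.ofFinite _
    have hconj : ∀ x : G, conjFun N x ϑ = ϑ := by
      intro x; funext n; exact hinv x n
    have hexp := classFunction_expansion (Cfsg.indFun N ϑ) (indFun_isClassFunction N ϑ)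
    have h12 : Cfsg.classInner (Cfsg.indFun N ϑ) χ = (e : ℂ) := by
      rw [frobenius_reciprocity N ϑ χ hχcf, hres, classInner_smul_right, hϑϑ]
      simp
    have hsum : ∑ ψ : Cfsg.IrrCharacter G, Cfsg.classInner (Cfsg.indFun N ϑ) (ψ : G → ℂ) • (ψ : G → ℂ)
        = (e : ℂ) • χ := by
      rw [Finset.sum_eq_single (⟨χ, hχ⟩ : Cfsg.IrrCharacter G)]
      · rw [h12]
      · intro ψ _ hψ
        by_cases h0 : Cfsg.classInner (Cfsg.indFun N ϑ) (ψ : G → ℂ) = 0
        · rw [h0, zero_smul]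
        · exact absurd (Subtype.ext (hconst ψ.1 ψ.2 h0)) hψ
      · intro h; exact absurd (Finset.mem_univ _) h
    rw [hsum] at hexp
    have h1 := congrFun hexp 1
    rw [indFun_apply_one] at h1
    have h2 := congrFun hres 1
    simp only [Pi.smul_apply, smul_eq_mul] at h1 h2
    have hχ1 : χ 1 = (e : ℂ) * ϑ 1 := h2
    rw [hχ1, ← mul_assoc] at h1
    have hϑ1 : ϑ 1 ≠ 0 := IsIrrCharacter.apply_one_ne_zero hϑ
    have : (N.index : ℂ) = (e : ℂ) * (e : ℂ) := mul_right_cancel₀ hϑ1 h1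
    rw [sq]
    exact_mod_cast this.symm

end Cfsg.Agent.S0900
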