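import Cfsg.Statements.S0902
import Cfsg.Agent.S4574
import Cfsg.Agent.Lib.Helper7.GaloisPrimes
import Cfsg.Agent.Lib.Helper24.BlockBasic
import Cfsg.Agent.Lib.Helper2.CharBasic

set_option autoImplicit false
open Cfsg
open Cfsg.Agent.Lib.Helper7 Cfsg.Agent.Lib.Helper2 Cfsg.Agent.Lib.Helper24
open Module

namespace Cfsg.Agent.S0902

theorem centralizer_pow_unit {G : Type*} [Group G] [Fintype G] [NeZero (Nat.card G)]
    (k : (ZMod (Nat.card G))ˣ) (g : G) :
    Subgroup.centralizer ({g ^ (k : ZMod (Nat.card G)).val} : Set G)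
      = Subgroup.centralizer ({g} : Set G) := by
  apply le_antisymm
  · intro x hx
    rw [Subgroup.mem_centralizer_iff]
    intro y hy
    rw [Set.mem_singleton_iff] at hy
    rw [hy]
    have h1 : x * g ^ (k : ZMod (Nat.card G)).val = g ^ (k : ZMod (Nat.card G)).val * x :=
      ((Subgroup.mem_centralizer_iff.mp hx) _ rfl).symm
    have h2 : Commute x (g ^ (k : ZMod (Nat.card G)).val) := h1
    have h3 := h2.pow_right ((k⁻¹ : (ZMod (Nat.card G))ˣ) : ZMod (Nat.card G)).val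
    rw [Cfsg.Agent.S4574.pow_pow_inv] at h3
    exact h3.eq.symm
  · intro x hx
    rw [Subgroup.mem_centralizer_iff] at hx ⊢
    intro y hy
    rw [Set.mem_singleton_iff] at hy
    rw [hy]
    have h2 : Commute x g := (hx g rfl).symm
    exact (h2.pow_right _).eq.symm

/-- If two irreducible characters of a finite group lie in the same block relative to one maximal ideal M of the algebraic integers containing the prime p, then at every element the difference of their central characters is an algebraic integer lying in every maximal ideal containing p; in particular they lie in the same block relative to any such ideal. -/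
theorem result {G : Type*} [Group G] [Finite G] (p : ℕ) [Fact p.Prime] (M : Ideal Cfsg.AlgInt) (hM : Cfsg.IsPModular p M) (χ ψ : Cfsg.IrrCharacter G) (h : Cfsg.SameBlock M (χ : G → ℂ) (ψ : G → ℂ)) (M' : Ideal Cfsg.AlgInt) (hM' : Cfsg.IsPModular p M') (g : G) : ∃ r : Cfsg.AlgInt, r ∈ M' ∧ (r : ℂ) = Cfsg.centralChar (χ : G → ℂ) g - Cfsg.centralChar (ψ : G → ℂ) g := by
  classical
  letI : Fintype G := Fintype.ofFinite G
  haveI : NeZero (Nat.card G) := ⟨Nat.card_pos.ne'⟩
  obtain ⟨n1, ρ1, hirr1, hρ1⟩ := χ.2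
  obtain ⟨n2, ρ2, hirr2, hρ2⟩ := ψ.2
  obtain ⟨μ, hμ, hμs, -⟩ := exists_eigenvalues ρ1 g
  obtain ⟨ν, hν, hνs, -⟩ := exists_eigenvalues ρ2 g
  have hμn : ∀ i, μ i ^ Nat.card G = 1 := by
    intro i
    obtain ⟨c, hc⟩ := orderOf_dvd_natCard g
    rw [hc, pow_mul, hμ i, one_pow]
  have hνn : ∀ i, ν i ^ Nat.card G = 1 := by
    intro i
    obtain ⟨c, hc⟩ := orderOf_dvd_natCard g
    rw [hc, pow_mul, hν i, one_pow]
  set idx := (Subgroup.centralizer ({g} : Set G)).index with hidx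
  set c1 : ℚ := (idx : ℚ) / (finrank ℂ (Fin n1 → ℂ) : ℚ) with hc1
  set c2 : ℚ := (idx : ℚ) / (finrank ℂ (Fin n2 → ℂ) : ℚ) with hc2
  have hχ1 : (χ : G → ℂ) 1 = (finrank ℂ (Fin n1 → ℂ) : ℂ) := by
    rw [← hρ1]; exact Representation.char_one ρ1
  have hψ1 : (ψ : G → ℂ) 1 = (finrank ℂ (Fin n2 → ℂ) : ℂ) := by
    rw [← hρ2]; exact Representation.char_one ρ2
  have hcc : ∀ m : ℕ, Subgroup.centralizer ({g ^ m} : Set G) = Subgroup.centralizer ({g} : Set G) →
      Cfsg.centralChar (χ : G → ℂ) (g ^ m) - Cfsg.centralChar (ψ : G → ℂ) (g ^ m)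
      = (c1 : ℂ) * ∑ i, μ i ^ m - (c2 : ℂ) * ∑ j, ν j ^ m := by
    intro m hm
    unfold Cfsg.centralChar
    rw [hm, hχ1, hψ1, ← hidx]
    have e1 : (χ : G → ℂ) (g ^ m) = ∑ i, μ i ^ m := by rw [← hρ1]; exact hμs m
    have e2 : (ψ : G → ℂ) (g ^ m) = ∑ i, ν i ^ m := by rw [← hρ2]; exact hνs m
    rw [e1, e2, hc1, hc2]
    push_cast
    ring
  have hfor : ∀ k : (ZMod (Nat.card G))ˣ,
      Cfsg.centralChar (χ : G → ℂ) (g ^ (k : ZMod (Nat.card G)).val)
        - Cfsg.centralChar (ψ : G → ℂ) (g ^ (k : ZMod (Nat.card G)).val)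
      = (c1 : ℂ) * ∑ i, μ i ^ (k : ZMod (Nat.card G)).val
        - (c2 : ℂ) * ∑ j, ν j ^ (k : ZMod (Nat.card G)).val :=
    fun k => hcc _ (centralizer_pow_unit k g)
  obtain ⟨r, hr, hrv⟩ := mem_of_forall_conj_mem (Nat.card G) hM hM' _ _ μ ν hμn hνn c1 c2
    (fun k => by
      rw [← hfor k]
      exact IsIntegral.sub (centralChar_isIntegral χ _) (centralChar_isIntegral ψ _))
    (fun k => by
      rw [← hfor k]
      exact h _)
  refine ⟨r, hr, ?_⟩
  rw [hrv]
  have := hcc 1 (by rw [pow_one])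
  simp only [pow_one] at this
  exact this.symm

end Cfsg.Agent.S0902
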