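import Mathlib
import Cfsg.Statements.S0903

set_option autoImplicit false
open Cfsg

namespace Cfsg.Agent.S0903

theorem isConj_conj {G : Type*} [Group G] (g x u : G) (h : IsConj g x) : IsConj g (u * x * u⁻¹) :=
  h.trans (isConj_iff.mpr ⟨u, rfl⟩)

/-- simultaneous conjugation on pairs with prescribed classes and product -/
@[reducible] def pairAction {G : Type*} [Group G] (P : Subgroup G) (c : G)
    (hc : c ∈ Subgroup.centralizer (P : Set G)) (g h : G) :
    MulAction P {xy : G × G // IsConj g xy.1 ∧ IsConj h xy.2 ∧ xy.1 * xy.2 = c} where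
  smul u xy := ⟨(u * xy.1.1 * (u : G)⁻¹, u * xy.1.2 * (u : G)⁻¹),
    isConj_conj g _ u xy.2.1, isConj_conj h _ u xy.2.2.1, by
      have h1 : (u : G) * xy.1.1 * (u : G)⁻¹ * ((u : G) * xy.1.2 * (u : G)⁻¹) = u * (xy.1.1 * xy.1.2) * (u : G)⁻¹ := by group
      show (u : G) * xy.1.1 * (u : G)⁻¹ * ((u : G) * xy.1.2 * (u : G)⁻¹) = c
      rw [h1, xy.2.2.2]
      have := Subgroup.mem_centralizer_iff.mp hc u u.2
      rw [this]; group⟩
  one_smul xy := by
    apply Subtype.ext
    show ((((1 : P) : G) * xy.1.1 * ((1 : P) : G)⁻¹), (((1 : P) : G) * xy.1.2 * ((1 : P) : G)⁻¹)) = xy.1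
    simp
  mul_smul u v xy := by
    apply Subtype.ext
    show ((((u * v : P) : G) * xy.1.1 * ((u * v : P) : G)⁻¹), (((u * v : P) : G) * xy.1.2 * ((u * v : P) : G)⁻¹)) =
      ((u : G) * ((v : G) * xy.1.1 * (v : G)⁻¹) * (u : G)⁻¹, (u : G) * ((v : G) * xy.1.2 * (v : G)⁻¹) * (u : G)⁻¹)
    simp [mul_assoc]

/-- Let P be a p-subgroup of the finite group G, let c centralize P and let g, h ∈ G. The number of pairs (x, y) with x conjugate to g, y conjugate to h and x * y = c is congruent modulo p to the number of such pairs in which x and y both centralize P. (This is why the Brauer map on class sums is multiplicative.) -/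
theorem result {G : Type*} [Group G] [Finite G] (p : ℕ) [Fact p.Prime] (P : Subgroup G) (hP : IsPGroup p P) (c : G) (hc : c ∈ Subgroup.centralizer (P : Set G)) (g h : G) : Nat.card {xy : G × G // IsConj g xy.1 ∧ IsConj h xy.2 ∧ xy.1 * xy.2 = c} ≡ Nat.card {xy : G × G // IsConj g xy.1 ∧ IsConj h xy.2 ∧ xy.1 * xy.2 = c ∧ xy.1 ∈ Subgroup.centralizer (P : Set G) ∧ xy.2 ∈ Subgroup.centralizer (P : Set G)} [MOD p] := by
  classical
  let _ := pairAction P c hc g h
  have hsmul : ∀ (u : P) (xy : {xy : G × G // IsConj g xy.1 ∧ IsConj h xy.2 ∧ xy.1 * xy.2 = c}),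
      ((u • xy : {xy : G × G // IsConj g xy.1 ∧ IsConj h xy.2 ∧ xy.1 * xy.2 = c}) : G × G) =
        (u * xy.1.1 * (u : G)⁻¹, u * xy.1.2 * (u : G)⁻¹) := fun _ _ => rfl
  have hmod := hP.card_modEq_card_fixedPoints {xy : G × G // IsConj g xy.1 ∧ IsConj h xy.2 ∧ xy.1 * xy.2 = c}
  refine hmod.trans ?_
  have hcentr : ∀ x : G, x ∈ Subgroup.centralizer (P : Set G) ↔ ∀ u : P, (u : G) * x * (u : G)⁻¹ = x := by
    intro x
    rw [Subgroup.mem_centralizer_iff]
    constructor
    · intro hx u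
      rw [hx u u.2]; group
    · intro hx u hu
      have := hx ⟨u, hu⟩
      simp only at this
      calc u * x = (u * x * u⁻¹) * u := by group
        _ = x * u := by rw [this]
  rw [Nat.card_congr]
  refine
    { toFun := fun xy => ⟨xy.1.1, xy.1.2.1, xy.1.2.2.1, xy.1.2.2.2, ?_, ?_⟩
      invFun := fun xy => ⟨⟨xy.1, xy.2.1, xy.2.2.1, xy.2.2.2.1⟩, ?_⟩
      left_inv := fun xy => rfl
      right_inv := fun xy => rfl }
  · rw [hcentr]
    intro u
    have := MulAction.mem_fixedPoints.mp xy.2 u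
    have := congrArg (fun e : {xy : G × G // IsConj g xy.1 ∧ IsConj h xy.2 ∧ xy.1 * xy.2 = c} => (e : G × G).1) this
    simpa [hsmul] using this
  · rw [hcentr]
    intro u
    have := MulAction.mem_fixedPoints.mp xy.2 u
    have := congrArg (fun e : {xy : G × G // IsConj g xy.1 ∧ IsConj h xy.2 ∧ xy.1 * xy.2 = c} => (e : G × G).2) this
    simpa [hsmul] using this
  · rw [MulAction.mem_fixedPoints]
    intro u
    apply Subtype.ext
    rw [hsmul]
    have h1 := (hcentr _).mp xy.2.2.2.2.1 u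
    have h2 := (hcentr _).mp xy.2.2.2.2.2 u
    exact Prod.ext h1 h2

end Cfsg.Agent.S0903
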