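import Cfsg.Statements.S0905
import Cfsg.Agent.Lib.Helper7.AugIdeal
import Cfsg.Agent.Lib.Helper1.Cores

set_option autoImplicit false
open Cfsg
open Cfsg.Agent.Lib.Helper7

namespace Cfsg.Agent.S0905

/-- conjugation by a normal subgroup on the part of a conjugacy class in a coset -/
@[reducible] def cosetConjAction {G : Type*} [Group G] (Q : Subgroup G) [hQ : Q.Normal] (g : G)
    (c : G ⧸ Q) : MulAction Q {x : G // IsConj g x ∧ (x : G ⧸ Q) = c} where
  smul u x := ⟨(u : G) * x.1 * (u : G)⁻¹, x.2.1.trans (isConj_iff.mpr ⟨u, rfl⟩), by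
    rw [QuotientGroup.mk_mul, QuotientGroup.mk_mul, QuotientGroup.mk_inv,
      (QuotientGroup.eq_one_iff (u : G)).mpr u.2, one_mul, inv_one, mul_one]
    exact x.2.2⟩
  one_smul x := by
    apply Subtype.ext
    show ((1 : Q) : G) * x.1 * ((1 : Q) : G)⁻¹ = x.1
    simp
  mul_smul u v x := by
    apply Subtype.ext
    show ((u * v : Q) : G) * x.1 * ((u * v : Q) : G)⁻¹
      = (u : G) * ((v : G) * x.1 * (v : G)⁻¹) * (u : G)⁻¹
    simp [mul_assoc]

/-- Let F be a field of characteristic p and let g be an element of the finite group G no conjugate of which centralizes O_p(G). Then the class sum of g is a nilpotent element of the group algebra F[G]. -/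
theorem result {G : Type*} [Group G] [Finite G] (p : ℕ) [Fact p.Prime] (F : Type*) [Field F] [CharP F p] (g : G) (hg : ∀ x : G, IsConj g x → x ∉ Subgroup.centralizer (Cfsg.pCore p G : Set G)) : IsNilpotent (∑ᶠ x ∈ ConjClasses.carrier (ConjClasses.mk g), MonoidAlgebra.single x (1 : F) : MonoidAlgebra F G) := by
  classical
  letI : Fintype G := Fintype.ofFinite G
  set Q := Cfsg.pCore p G with hQdef
  haveI hQn : Q.Normal := Cfsg.Agent.Lib.Helper1.pCore_normal p
  have hQp : IsPGroup p Q := Cfsg.Agent.Lib.Helper1.pCore_isPGroup p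
  refine ⟨Nat.card G, ?_⟩
  apply pow_card_eq_zero_of_mapDomain_eq_zero F Q hQp
  have hfin : (ConjClasses.carrier (ConjClasses.mk g)).Finite := Set.toFinite _
  rw [finsum_mem_eq_finite_toFinset_sum _ hfin]
  have hmap : MonoidAlgebra.mapDomain (fun x : G => (x : G ⧸ Q))
      (∑ x ∈ hfin.toFinset, MonoidAlgebra.single x (1 : F))
      = ∑ x ∈ hfin.toFinset, MonoidAlgebra.single ((x : G ⧸ Q)) (1 : F) := by
    have := map_sum (MonoidAlgebra.mapDomainRingHom F (QuotientGroup.mk' Q))
      (fun x : G => MonoidAlgebra.single x (1 : F)) hfin.toFinset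
    simp only [MonoidAlgebra.mapDomainRingHom_apply, MonoidAlgebra.mapDomain_single] at this
    exact this
  rw [hmap]
  apply MonoidAlgebra.coeff_injective
  ext c
  rw [MonoidAlgebra.coeff_sum, Finsupp.finsetSum_apply]
  simp only [MonoidAlgebra.coeff_single, Finsupp.single_apply, MonoidAlgebra.coeff_zero,
    Finsupp.coe_zero, Pi.zero_apply]
  rw [Finset.sum_boole]
  rw [CharP.cast_eq_zero_iff F p]
  -- the fibre has cardinality divisible by `p`
  let _ := cosetConjAction Q g c
  have hmod := hQp.card_modEq_card_fixedPoints {x : G // IsConj g x ∧ (x : G ⧸ Q) = c}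
  have hfix : IsEmpty (MulAction.fixedPoints Q {x : G // IsConj g x ∧ (x : G ⧸ Q) = c}) := by
    constructor
    rintro ⟨x, hx⟩
    apply hg x.1 x.2.1
    rw [Subgroup.mem_centralizer_iff]
    intro u hu
    have h1 := MulAction.mem_fixedPoints.mp hx ⟨u, hu⟩
    have h2 : u * x.1 * u⁻¹ = x.1 := congrArg Subtype.val h1
    calc u * x.1 = (u * x.1 * u⁻¹) * u := by group
      _ = x.1 * u := by rw [h2]
  have h0 : Nat.card (MulAction.fixedPoints Q {x : G // IsConj g x ∧ (x : G ⧸ Q) = c}) = 0 :=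
    Nat.card_of_isEmpty
  rw [h0] at hmod
  have hdvd : p ∣ Nat.card {x : G // IsConj g x ∧ (x : G ⧸ Q) = c} :=
    (Nat.modEq_zero_iff_dvd).mp hmod
  convert hdvd using 1
  rw [Nat.card_eq_fintype_card, Fintype.card_subtype]
  congr 1
  ext x
  simp only [Finset.mem_filter, Set.Finite.mem_toFinset, Finset.mem_univ, true_and]
  rw [ConjClasses.mem_carrier_iff_mk_eq, ConjClasses.mk_eq_mk_iff_isConj]
  constructor
  · rintro ⟨h1, h2⟩
    exact ⟨h1.symm, h2⟩
  · rintro ⟨h1, h2⟩
    exact ⟨h1.symm, h2⟩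

end Cfsg.Agent.S0905
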