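import Mathlib
import Cfsg.Statements.S0916
import Cfsg.Agent.Lib.Helper13.Sylow
import Cfsg.Agent.Lib.Helper13.PGroup
import Cfsg.Agent.Lib.Helper7.SylowBasic

set_option autoImplicit false
open Cfsg

namespace Cfsg.Agent.S0916

open Cfsg.Agent.Lib.Helper7 Cfsg.Agent.Lib.Helper13

theorem part1 {G : Type*} [Group G] [Finite G] (p : ℕ) [Fact p.Prime] (P : Subgroup G) (hP : IsPGroup p P)
    (g : G) (H : Subgroup G) (hH : H = Subgroup.centralizer ({g} : Set G)) (S : Sylow p H)
    (hS : (S : Subgroup H).map H.subtype = P) :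
    (∃ c : G, IsConj g c ∧ c ∈ Subgroup.centralizer (P : Set G)) ∧ (∀ c₁ c₂ : G, IsConj g c₁ → IsConj g c₂ → c₁ ∈ Subgroup.centralizer (P : Set G) → c₂ ∈ Subgroup.centralizer (P : Set G) → ∃ n ∈ Subgroup.normalizer (P : Set G), n * c₁ * n⁻¹ = c₂) := by
  have hPH : P ≤ H := by
    rw [← hS]; exact Subgroup.map_subtype_le _
  have hPcard : Nat.card P = Nat.card (S : Subgroup H) := by
    rw [← hS, Subgroup.card_map_of_injective H.subtype_injective]
  refine ⟨⟨g, IsConj.refl g, ?_⟩, ?_⟩
  · rw [Subgroup.mem_centralizer_iff]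
    intro u hu
    have hu' : u ∈ Subgroup.centralizer ({g} : Set G) := hH ▸ hPH hu
    have := Subgroup.mem_centralizer_iff.mp hu' g (Set.mem_singleton g)
    exact this.symm
  · intro c₁ c₂ h1 h2 hc1 hc2
    obtain ⟨a, rfl⟩ := isConj_iff.mp h1
    obtain ⟨b, rfl⟩ := isConj_iff.mp h2
    -- P₁ = a⁻¹ P a, P₂ = b⁻¹ P b
    have hconjH : ∀ (d : G), d * g * d⁻¹ ∈ Subgroup.centralizer (P : Set G) → ∀ u ∈ P, d⁻¹ * u * d ∈ H := by
      intro d hd u hu
      rw [hH, Subgroup.mem_centralizer_iff]
      intro w hw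
      rw [Set.mem_singleton_iff] at hw
      subst hw
      have := Subgroup.mem_centralizer_iff.mp hd u hu
      -- u * (d w d⁻¹) = (d w d⁻¹) * u
      calc w * (d⁻¹ * u * d) = d⁻¹ * ((d * w * d⁻¹) * u) * d := by group
        _ = d⁻¹ * (u * (d * w * d⁻¹)) * d := by rw [this]
        _ = d⁻¹ * u * d * w := by group
    let P₁ : Subgroup G := P.map (MulAut.conj a⁻¹).toMonoidHom
    let P₂ : Subgroup G := P.map (MulAut.conj b⁻¹).toMonoidHom
    have hP₁H : P₁ ≤ H := by
      rintro x ⟨u, hu, rfl⟩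
      have := hconjH a hc1 u hu
      simpa using this
    have hP₂H : P₂ ≤ H := by
      rintro x ⟨u, hu, rfl⟩
      have := hconjH b hc2 u hu
      simpa using this
    have hP₁p : IsPGroup p P₁ := hP.map _
    have hP₂p : IsPGroup p P₂ := hP.map _
    have hP₂card : Nat.card P₂ = Nat.card (S : Subgroup H) := by
      rw [Subgroup.card_map_of_injective (MulAut.conj b⁻¹).injective, hPcard]
    have hrel : ¬ p ∣ P₂.relIndex H := by
      have h3 := card_mul_relIndex hP₂H
      have h4 := (S : Subgroup H).card_mul_index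
      rw [hP₂card] at h3
      have : P₂.relIndex H = (S : Subgroup H).index :=
        Nat.eq_of_mul_eq_mul_left Nat.card_pos (h3.trans h4.symm)
      rw [this]
      exact S.not_dvd_index
    obtain ⟨x, hxH, hx⟩ := exists_conj_le_of_relIndex H P₂ P₁ hP₂p hrel hP₁H hP₁p
    refine ⟨b * x * a⁻¹, ?_, ?_⟩
    · apply Subgroup.mem_normalizer_fintype
      intro u hu
      have huP : u ∈ P := hu
      have h5 : a⁻¹ * u * a ∈ P₁ := ⟨u, huP, by simp⟩
      obtain ⟨v, hv, hv'⟩ := hx _ h5
      show b * x * a⁻¹ * u * (b * x * a⁻¹)⁻¹ ∈ P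
      have h6 : b * x * a⁻¹ * u * (b * x * a⁻¹)⁻¹ = b * (x * (a⁻¹ * u * a) * x⁻¹) * b⁻¹ := by group
      rw [h6, ← hv']
      simp only [MulEquiv.coe_toMonoidHom, MulAut.conj_apply, inv_inv]
      have : b * (b⁻¹ * v * b) * b⁻¹ = v := by group
      rw [this]; exact hv
    · have hxg : x * g = g * x := by
        have hx' : x ∈ Subgroup.centralizer ({g} : Set G) := hH ▸ hxH
        have := Subgroup.mem_centralizer_iff.mp hx' g (Set.mem_singleton g)
        exact this.symm
      calc b * x * a⁻¹ * (a * g * a⁻¹) * (b * x * a⁻¹)⁻¹ = b * (x * g) * x⁻¹ * b⁻¹ := by group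
        _ = b * (g * x) * x⁻¹ * b⁻¹ := by rw [hxg]
        _ = b * g * b⁻¹ := by group

theorem part2 {G : Type*} [Group G] [Finite G] (p : ℕ) [Fact p.Prime] (P : Subgroup G) (hP : IsPGroup p P)
    (c : G) (hc : c ∈ Subgroup.centralizer (P : Set G))
    (H : Subgroup G) (hH : H = Subgroup.centralizer ({c} : Set G))
    (M : Subgroup G) (hM : M = H ⊓ Subgroup.normalizer (P : Set G))
    (S : Sylow p M)
    (hS : (S : Subgroup M).map M.subtype = P) :
    ∃ S' : Sylow p H, (S' : Subgroup H).map H.subtype = P := by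
  have hPH : P ≤ H := by
    intro u hu
    rw [hH, Subgroup.mem_centralizer_iff]
    intro w hw
    rw [Set.mem_singleton_iff] at hw
    subst hw
    exact (Subgroup.mem_centralizer_iff.mp hc u hu).symm
  have hP' : IsPGroup p (P.subgroupOf H) := hP.comap_subtype
  obtain ⟨Q, hQ⟩ := hP'.exists_le_sylow
  refine ⟨Q, ?_⟩
  set Q₀ : Subgroup G := (Q : Subgroup H).map H.subtype with hQ₀
  have hQ₀p : IsPGroup p Q₀ := Q.2.map _
  have hPQ₀ : P ≤ Q₀ := by
    have := Subgroup.map_mono (f := H.subtype) hQ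
    rwa [Subgroup.subgroupOf_map_subtype, inf_eq_left.mpr hPH] at this
  by_contra hne
  have hlt : P < Q₀ := lt_of_le_of_ne hPQ₀ (fun h => hne h.symm)
  have h1 := lt_inf_normalizer_of_lt Q₀ P hQ₀p hlt
  set T := Q₀ ⊓ Subgroup.normalizer (P : Set G) with hT
  have hTM : T ≤ M := by
    rw [hM]
    apply inf_le_inf_right
    exact Subgroup.map_subtype_le _
  have hTp : IsPGroup p T := hQ₀p.to_le inf_le_left
  have hT' : IsPGroup p (T.subgroupOf M) := hTp.comap_subtype
  have hSle : (S : Subgroup M) ≤ T.subgroupOf M := by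
    intro x hx
    rw [Subgroup.mem_subgroupOf]
    apply h1.le
    rw [← hS]
    exact Subgroup.mem_map_of_mem _ hx
  have h2 := S.is_maximal' hT' hSle
  have h3 : T = P := by
    have := congrArg (Subgroup.map M.subtype) h2
    rwa [Subgroup.subgroupOf_map_subtype, inf_eq_left.mpr hTM, hS] at this
  exact h1.ne h3.symm

/-- Let P be a p-subgroup of the finite group G, C its centralizer and N its normalizer. Say that a conjugacy class (of G, or of N) has defect group P when P is a Sylow p-subgroup of the centralizer (in G, respectively in N) of some element of the class. Then: (i) if the class of g in G has defect group P, the elements of that class lying in C form a single N-class, again with defect group P; (ii) every N-class with defect group P arises this way from exactly one G-class with defect group P. -/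
theorem result {G : Type*} [Group G] [Finite G] (p : ℕ) [Fact p.Prime] (P : Subgroup G) (hP : IsPGroup p P) : (∀ g : G, (∃ S : Sylow p (Subgroup.centralizer ({g} : Set G)), (S : Subgroup (Subgroup.centralizer ({g} : Set G))).map (Subgroup.centralizer ({g} : Set G)).subtype = P) → (∃ c : G, IsConj g c ∧ c ∈ Subgroup.centralizer (P : Set G)) ∧ (∀ c₁ c₂ : G, IsConj g c₁ → IsConj g c₂ → c₁ ∈ Subgroup.centralizer (P : Set G) → c₂ ∈ Subgroup.centralizer (P : Set G) → ∃ n ∈ Subgroup.normalizer (P : Set G), n * c₁ * n⁻¹ = c₂)) ∧ (∀ c : G, c ∈ Subgroup.centralizer (P : Set G) → (∃ S : Sylow p (Subgroup.centralizer ({c} : Set G) ⊓ Subgroup.normalizer (P : Set G) : Subgroup G), (S : Subgroup ↥(Subgroup.centralizer ({c} : Set G) ⊓ Subgroup.normalizer (P : Set G))).map (Subgroup.centralizer ({c} : Set G) ⊓ Subgroup.normalizer (P : Set G)).subtype = P) → ∃ S : Sylow p (Subgroup.centralizer ({c} : Set G)), (S : Subgroup (Subgroup.centralizer ({c} : Set G))).map (Subgroup.centralizer ({c} : Set G)).subtype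 = P) := by
  refine ⟨?_, ?_⟩
  · rintro g ⟨S, hS⟩
    exact part1 p P hP g _ rfl S hS
  · rintro c hc ⟨S, hS⟩
    exact part2 p P hP c hc _ rfl _ rfl S hS

end Cfsg.Agent.S0916
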