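import Mathlib
import Cfsg.Statements.S0930
import Cfsg.Agent.Lib.Helper7.NormalDefect
import Cfsg.Agent.S0927

set_option autoImplicit false
open Cfsg

namespace Cfsg.Agent.S0930

open Cfsg.Agent.Lib.Helper7 Cfsg.Agent.Lib.Helper24

/-- Let H be a subgroup of the finite group G and fix a maximal ideal M of the algebraic integers containing the prime p. If the block b of H with defect group D induces the block B of G with defect group P, then every element of the centre of P is conjugate in G to an element of the centre of D. -/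
theorem result {G : Type*} [Group G] [Finite G] (p : ℕ) [Fact p.Prime] (M : Ideal Cfsg.AlgInt) (hM : Cfsg.IsPModular p M) (H : Subgroup G) (b : Set (Cfsg.IrrCharacter H)) (B : Set (Cfsg.IrrCharacter G)) (hind : Cfsg.IsInducedBlock M H b B) (D : Subgroup H) (hD : Cfsg.IsDefectGroup p M b D) (P : Subgroup G) (hP : Cfsg.IsDefectGroup p M B P) (x : G) (hx : x ∈ P) (hxc : ∀ w ∈ P, x * w = w * x) : ∃ g : G, g * x * g⁻¹ ∈ D.map H.subtype ∧ ∀ w ∈ D.map H.subtype, (g * x * g⁻¹) * w = w * (g * x * g⁻¹) := by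
  classical
  letI : Fintype G := Fintype.ofFinite G
  letI : Fintype H := Fintype.ofFinite H
  have hb := hind.1
  have hB := hind.2.1
  obtain ⟨g₀, hg₀, P', hPP'⟩ := hP
  -- `x` as an element of the centralizer of `g₀`
  rw [hPP'] at hx
  obtain ⟨x', hx', hx'x⟩ := hx
  have hx'c : ∀ w ∈ (P' : Subgroup (Subgroup.centralizer ({g₀} : Set G))), x' * w = w * x' := by
    intro w hw
    apply Subtype.ext
    have hwP : (w : G) ∈ P := by rw [hPP']; exact ⟨w, hw, rfl⟩
    have := hxc (w : G) hwP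
    rw [← hx'x] at this
    exact this
  have h927 := (Cfsg.Agent.S0927.result p M hM B hB g₀ hg₀ P' x' hx').2 hx'c
  obtain ⟨χ, hχ⟩ := isPBlock_nonempty hM hB
  obtain ⟨ξ, hξ⟩ := isPBlock_nonempty hM hb
  have hωt := h927 χ hχ
  have hx'x' : ((x' : Subgroup.centralizer ({g₀} : Set G)) : G) = x := hx'x
  rw [hx'x'] at hωt
  -- the `p`-part of `t = x * g₀` is `x`
  have hxg₀ : Commute x g₀ := by
    have := x'.2
    rw [Subgroup.mem_centralizer_iff] at this
    have h1 := this g₀ rfl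
    rw [hx'x'] at h1
    exact h1.symm
  have hxord : ∃ k : ℕ, orderOf x = p ^ k := by
    obtain ⟨k, hk⟩ := (IsPGroup.iff_orderOf.mp P'.2) ⟨x', hx'⟩
    refine ⟨k, ?_⟩
    rw [← hx'x', ← hk]
    rw [Subgroup.orderOf_mk, Subgroup.orderOf_coe]
  have hpart : Cfsg.IsPPart p (x * g₀) x :=
    ⟨g₀, rfl, hxg₀, hxord, isDefectClass_regular hM hB hg₀⟩
  -- pass to `H`
  have h1 := hind.2.2 ξ hξ χ hχ (x * g₀)
  have h2 : ¬ Cfsg.MemLocalIdeal M (Cfsg.inducedCentralChar H (ξ : H → ℂ) (x * g₀)) := by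
    intro hcon
    apply hωt
    have := memLocalIdeal_sub hM hcon h1
    rwa [sub_sub_cancel] at this
  obtain ⟨h, hconj, hωh⟩ := exists_conj_of_inducedCentralChar hM H ξ (x * g₀) h2
  obtain ⟨h', hconj', _, hpp⟩ := exists_conj_centralizer_pPart hM b hb D hD h ξ hξ hωh
  -- conjugating element
  have hconjG : IsConj (x * g₀) (h' : G) := by
    refine hconj.trans ?_
    rw [isConj_iff] at hconj' ⊢
    obtain ⟨c, hc⟩ := hconj'
    exact ⟨(c : G), by rw [← hc]; rfl⟩
  rw [isConj_iff] at hconjG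
  obtain ⟨c, hc⟩ := hconjG
  have hpart' : Cfsg.IsPPart p (h' : G) (c * x * c⁻¹) := by
    rw [← hc]
    exact isPPart_conj p c hpart
  obtain ⟨z', hz'eq, hz'⟩ := exists_isPPart_of_coe p h' hpart'
  obtain ⟨hz'D, hz'c⟩ := hpp z' hz'
  refine ⟨c, ?_, ?_⟩
  · rw [← hz'eq]
    exact ⟨z', hz'D, rfl⟩
  · rintro w ⟨w', hw', rfl⟩
    rw [← hz'eq]
    have := hz'c w' hw'
    exact congrArg Subtype.val this

end Cfsg.Agent.S0930
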