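import Mathlib
import Cfsg.Statements.S0931
import Cfsg.Agent.Lib.Helper7.DefectOrder
import Cfsg.Agent.S0930
import Cfsg.Agent.S0917

set_option autoImplicit false
open Cfsg

namespace Cfsg.Agent.S0931

open Cfsg.Agent.Lib.Helper7 Cfsg.Agent.Lib.Helper24

/-- Let H be a subgroup of the finite group G and fix a maximal ideal M of the algebraic integers containing the prime p. If the block b of H induces the block B of G, then b has defect 0 if and only if B has defect 0. -/
theorem result {G : Type*} [Group G] [Finite G] (p : ℕ) [Fact p.Prime] (M : Ideal Cfsg.AlgInt) (hM : Cfsg.IsPModular p M) (H : Subgroup G) (b : Set (Cfsg.IrrCharacter H)) (B : Set (Cfsg.IrrCharacter G)) (hind : Cfsg.IsInducedBlock M H b B) : Cfsg.blockDefect p b = 0 ↔ Cfsg.blockDefect p B = 0 := by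
  classical
  letI : Fintype G := Fintype.ofFinite G
  letI : Fintype H := Fintype.ofFinite H
  have hp : p.Prime := Fact.out
  have hb := hind.1
  have hB := hind.2.1
  obtain ⟨D, hD⟩ := exists_isDefectGroup hM b hb
  obtain ⟨P, hP⟩ := exists_isDefectGroup hM B hB
  have hcD := card_of_isDefectGroup hM b hb D hD
  have hcP := card_of_isDefectGroup hM B hB P hP
  have hpow : ∀ n : ℕ, p ^ n = 1 → n = 0 := by
    intro n hn
    rcases (Nat.pow_eq_one).mp hn with h | h
    · exact absurd h hp.one_lt.ne'
    · exact h
  constructor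
  · intro h0
    rw [h0, pow_zero] at hcD
    have hDbot : D = ⊥ := Subgroup.card_eq_one.mp hcD
    apply hpow
    rw [← hcP]
    have hPp : IsPGroup p P := IsPGroup.of_card hcP
    by_contra hne
    haveI : Nontrivial P := by
      rw [← Finite.one_lt_card_iff_nontrivial]
      have : 0 < Nat.card P := Nat.card_pos
      omega
    haveI := hPp.center_nontrivial
    obtain ⟨z, hz⟩ := exists_ne (1 : Subgroup.center P)
    have hxc : ∀ w ∈ P, ((z : P) : G) * w = w * ((z : P) : G) := by
      intro w hw
      have := (Subgroup.mem_center_iff.mp z.2) ⟨w, hw⟩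
      have h2 := congrArg (Subtype.val : P → G) this
      simpa using h2.symm
    obtain ⟨g, hg, _⟩ := Cfsg.Agent.S0930.result p M hM H b B hind D hD P hP
      ((z : P) : G) (z : P).2 hxc
    rw [hDbot, Subgroup.map_bot, Subgroup.mem_bot] at hg
    have h3 : ((z : P) : G) = 1 := by
      have : ((z : P) : G) = g⁻¹ * (g * ((z : P) : G) * g⁻¹) * g := by group
      rw [this, hg]; group
    apply hz
    apply Subtype.ext
    apply Subtype.ext
    exact h3
  · intro h0
    rw [h0, pow_zero] at hcP
    obtain ⟨E, hE, hDE⟩ := Cfsg.Agent.S0917.result p M hM H b hb B hB hind D hD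
    have hcE := card_of_isDefectGroup hM B hB E hE
    rw [h0, pow_zero] at hcE
    have hEbot : E = ⊥ := Subgroup.card_eq_one.mp hcE
    rw [hEbot, le_bot_iff] at hDE
    have hDbot : D = ⊥ :=
      (Subgroup.map_eq_bot_iff_of_injective D (Subgroup.subtype_injective H)).mp hDE
    apply hpow
    rw [← hcD, hDbot]
    exact Subgroup.card_bot

end Cfsg.Agent.S0931
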