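import Mathlib
import Cfsg.Statements.S0932
import Cfsg.Agent.Lib.Helper7.ClassSum

set_option autoImplicit false
open Cfsg

namespace Cfsg.Agent.S0932

open Cfsg.Agent.Lib.Helper7

/-- Let H be a subgroup of the finite group G and ξ a character of H. For every g ∈ G, the sum of ξ h / ξ 1 over the elements h ∈ H that are conjugate in G to g equals the central character at g of the character of G induced from ξ (class size times value divided by degree). -/
theorem result {G : Type*} [Group G] [Fintype G] (H : Subgroup G) (ξ : H → ℂ) (hξ : Cfsg.IsCharacter H ξ) (g : G) : Cfsg.inducedCentralChar H ξ g = Cfsg.centralChar (Cfsg.indFun H ξ) g := by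
  classical
  have : Fintype H := Fintype.ofFinite H
  -- sum over H of conjugates
  set S : ℂ := ∑ h : H, if IsConj g (h : G) then ξ h else 0 with hS
  have hlhs : inducedCentralChar H ξ g = S / ξ 1 := by
    unfold inducedCentralChar
    rw [finsum_mem_def, finsum_eq_sum_of_fintype, hS, Finset.sum_div]
    apply Finset.sum_congr rfl
    intro h _
    by_cases hh : IsConj g (h : G)
    · rw [Set.indicator_of_mem (by exact hh), if_pos hh]
    · rw [Set.indicator_of_notMem (by exact hh), if_neg hh, zero_div]
  -- sum over G of extension by zero over conjugates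
  have hsumG : ∑ y : G, (if IsConj g y then extendByZero H ξ y else 0) = S := by
    rw [hS]
    have hι : Function.Injective (Subtype.val : H → G) := Subtype.val_injective
    rw [← Finset.sum_subset (Finset.subset_univ (Finset.univ.map ⟨Subtype.val, hι⟩))]
    · rw [Finset.sum_map]
      apply Finset.sum_congr rfl
      intro h _
      simp only [Function.Embedding.coeFn_mk]
      rw [extendByZero_apply_coe]
    · intro y _ hy
      have hyH : y ∉ H := by
        intro hyH
        exact hy (Finset.mem_map.mpr ⟨⟨y, hyH⟩, Finset.mem_univ _, rfl⟩)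
      rw [extendByZero_apply_not_mem H ξ hyH]
      simp
  have hval : indFun H ξ g = (Nat.card H : ℂ)⁻¹ *
      ((Nat.card (Subgroup.centralizer ({g} : Set G)) : ℂ) * S) := by
    rw [indFun_apply, sum_conj_eq (extendByZero H ξ) g, hsumG]
  have hone : indFun H ξ 1 = (Nat.card H : ℂ)⁻¹ * ((Nat.card G : ℂ) * ξ 1) := by
    rw [indFun_apply]
    congr 1
    have : ∀ x : G, extendByZero H ξ (x⁻¹ * 1 * x) = ξ 1 := by
      intro x
      have h1 : x⁻¹ * 1 * x = ((1 : H) : G) := by simp
      rw [h1, extendByZero_apply_coe]
    simp_rw [this]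
    rw [Finset.sum_const, Finset.card_univ, nsmul_eq_mul, Nat.card_eq_fintype_card]
  have hHpos : (Nat.card H : ℂ) ≠ 0 := by
    have : 0 < Nat.card H := Nat.card_pos
    exact_mod_cast this.ne'
  have hGpos : (Nat.card G : ℂ) ≠ 0 := by
    have : 0 < Nat.card G := Nat.card_pos
    exact_mod_cast this.ne'
  have hidx : ((Subgroup.centralizer ({g} : Set G)).index : ℂ) *
      (Nat.card (Subgroup.centralizer ({g} : Set G)) : ℂ) = (Nat.card G : ℂ) := by
    exact_mod_cast (Subgroup.centralizer ({g} : Set G)).index_mul_card
  rw [hlhs]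
  unfold centralChar
  rw [hval, hone]
  by_cases h1 : ξ 1 = 0
  · rw [h1]; simp
  · rw [div_eq_div_iff h1 (mul_ne_zero (inv_ne_zero hHpos) (mul_ne_zero hGpos h1))]
    rw [← hidx]
    field_simp

end Cfsg.Agent.S0932
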