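import Mathlib
import Cfsg.Statements.S0938
import Cfsg.Agent.Lib.Helper24.BlockOrtho
import Cfsg.Agent.Lib.Helper24.Defect
import Cfsg.Agent.Lib.Helper7.QuotientBlock
import Cfsg.Agent.Lib.Helper7.DefectOrder
import Cfsg.Agent.Lib.Helper25.Kernel

set_option autoImplicit false
open Cfsg

namespace Cfsg.Agent.S0938

open Cfsg.Agent.Lib.Helper7 Cfsg.Agent.Lib.Helper24 Cfsg.Agent.Lib.Helper2
open scoped ComplexConjugate

/-- Let B be a block of the finite group G relative to a maximal ideal M of the algebraic integers containing the prime p, and let χ ∈ B. Then the kernel of B (the set of g with ψ g = ψ 1 for all ψ ∈ B) is a normal subgroup of order prime to p contained in the kernel of χ, and it contains every normal subgroup of order prime to p on which χ takes the value χ(1); that is, it is O_p' of the kernel of χ. -/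
theorem result {G : Type*} [Group G] [Finite G] (p : ℕ) [Fact p.Prime] (M : Ideal Cfsg.AlgInt) (hM : Cfsg.IsPModular p M) (B : Set (Cfsg.IrrCharacter G)) (hB : Cfsg.IsPBlock M B) (χ : Cfsg.IrrCharacter G) (hχ : χ ∈ B) : ∃ K : Subgroup G, K.Normal ∧ (K : Set G) = Cfsg.blockKer B ∧ ¬ p ∣ Nat.card K ∧ (∀ g ∈ K, (χ : G → ℂ) g = (χ : G → ℂ) 1) ∧ ∀ N : Subgroup G, N.Normal → ¬ p ∣ Nat.card N → (∀ g ∈ N, (χ : G → ℂ) g = (χ : G → ℂ) 1) → N ≤ K := by
  classical
  letI : Fintype G := Fintype.ofFinite G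
  haveI : Fintype (Cfsg.IrrCharacter G) := Fintype.ofFinite _
  have hker : ∀ ψ : Cfsg.IrrCharacter G, ∃ K : Subgroup G, K.Normal ∧
      ∀ g, g ∈ K ↔ (ψ : G → ℂ) g = (ψ : G → ℂ) 1 := fun ψ =>
    Cfsg.Agent.Lib.Helper25.exists_kernel (Cfsg.Agent.Lib.Helper25.isCharacter_of_irr ψ.2)
  choose kerOf hkn hkm using hker
  have hKmem : ∀ g, g ∈ (⨅ ψ : B, kerOf ψ.1) ↔ ∀ ψ ∈ B, (ψ : G → ℂ) g = (ψ : G → ℂ) 1 := by
    intro g
    simp only [Subgroup.mem_iInf, hkm]
    constructor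
    · intro h ψ hψ; exact h ⟨ψ, hψ⟩
    · intro h ψ; exact h ψ.1 ψ.2
  refine ⟨⨅ ψ : B, kerOf ψ.1, ?_, ?_, ?_, ?_, ?_⟩
  · haveI : ∀ ψ : B, (kerOf ψ.1).Normal := fun ψ => hkn ψ.1
    exact Subgroup.normal_iInf_normal this
  · ext g
    exact hKmem g
  · intro hdvd
    obtain ⟨y, hy⟩ := exists_prime_orderOf_dvd_card' p hdvd
    have hyG : orderOf (y : G) = p := by rw [Subgroup.orderOf_coe]; exact hy
    have hyK := (hKmem (y : G)).mp y.2
    have h1 : ¬ p ∣ orderOf (1 : G) := by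
      rw [orderOf_one]
      exact (Fact.out : p.Prime).one_lt.ne' ∘ Nat.dvd_one.mp
    have hw := weak_block_orthogonality hM B hB 1 (y : G) h1 (by rw [hyG])
    rw [finsum_mem_eq_sum_ite] at hw
    have h2 : ∀ ψ : Cfsg.IrrCharacter G,
        (if ψ ∈ B then (ψ : G → ℂ) 1 * conj ((ψ : G → ℂ) (y : G)) else 0)
        = ((if ψ ∈ B then Cfsg.charDegree (ψ : G → ℂ) ^ 2 else 0 : ℕ) : ℂ) := by
      intro ψ
      by_cases hψ : ψ ∈ B
      · rw [if_pos hψ, if_pos hψ, hyK ψ hψ,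
          Cfsg.Agent.Lib.Helper25.char_one_eq_charDegree
            (Cfsg.Agent.Lib.Helper25.isCharacter_of_irr ψ.2)]
        simp only [Complex.conj_natCast, Nat.cast_pow]
        ring
      · rw [if_neg hψ, if_neg hψ, Nat.cast_zero]
    rw [Finset.sum_congr rfl (fun ψ _ => h2 ψ), ← Nat.cast_sum, Nat.cast_eq_zero,
      Finset.sum_eq_zero_iff] at hw
    have h3 := hw χ (Finset.mem_univ _)
    rw [if_pos hχ] at h3
    have h4 := irr_charDegree_pos χ
    have h5 : Cfsg.charDegree (χ : G → ℂ) = 0 := by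
      exact pow_eq_zero_iff (two_ne_zero) |>.mp h3
    omega
  · intro g hg
    exact (hKmem g).mp hg χ hχ
  · intro N hNn hNp hNχ g hg
    rw [hKmem]
    intro ψ hψ
    haveI := hNn
    exact kernel_of_sameBlock N hM hNp χ ψ hNχ (sameBlock_of_mem hM hB hχ hψ) g hg

end Cfsg.Agent.S0938
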