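import Mathlib
import Cfsg.Statements.S0943
import Cfsg.Agent.Lib.Helper25.GenOrtho

set_option autoImplicit false
open Cfsg

namespace Cfsg.Agent.S0943

open Cfsg.Agent.Lib.Helper25

/-- Let χ be an irreducible character of the finite group G and u, v ∈ G. If χ (x * y) = χ (u * v) whenever x is conjugate to u and y is conjugate to v, then χ u * χ v = χ 1 * χ (u * v). (Multiply the class sums of u and v and apply the central character of χ.) -/
theorem result {G : Type*} [Group G] [Finite G] (χ : Cfsg.IrrCharacter G) (u v : G) (hc : ∀ x y : G, IsConj u x → IsConj v y → (χ : G → ℂ) (x * y) = (χ : G → ℂ) (u * v)) : (χ : G → ℂ) u * (χ : G → ℂ) v = (χ : G → ℂ) 1 * (χ : G → ℂ) (u * v) := by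
  have : Fintype G := Fintype.ofFinite G
  have h1 := sum_char_mul_conj χ.2 u v
  have h2 : ∀ h : G, (χ : G → ℂ) (u * (h * v * h⁻¹)) = (χ : G → ℂ) (u * v) := by
    intro h
    exact hc u (h * v * h⁻¹) (IsConj.refl u) (isConj_iff.mpr ⟨h, rfl⟩)
  simp_rw [h2] at h1
  rw [Finset.sum_const, Finset.card_univ, nsmul_eq_mul, ← Nat.card_eq_fintype_card] at h1
  have hG : (Nat.card G : ℂ) ≠ 0 := card_ne_zero_complex
  have hχ1 : (χ : G → ℂ) 1 ≠ 0 := irr_one_ne_zero χ.2
  field_simp at h1
  rw [mul_comm ((χ : G → ℂ) 1)]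
  exact h1.symm

end Cfsg.Agent.S0943
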