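import Cfsg.Statements.S0946
import Cfsg.Agent.Lib.Lead.InvFusion

set_option autoImplicit false
open Cfsg

namespace Cfsg.Agent.S0946

open Subgroup Cfsg.Agent.Lib.Lead

/-- Elements of `ZMod (2^m)` killed by `2`. -/
theorem add_self_eq_zero_cases (m : ℕ) (hm : 1 ≤ m) (a : ZMod (2 ^ m)) (ha : a + a = 0) :
    a = 0 ∨ a = ((2 ^ (m - 1) : ℕ) : ZMod (2 ^ m)) := by
  have : NeZero (2 ^ m) := ⟨by positivity⟩
  have h1 : ((2 * a.val : ℕ) : ZMod (2 ^ m)) = 0 := by
    push_cast
    rw [ZMod.natCast_zmod_val, two_mul]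
    exact ha
  have h2 : 2 ^ m ∣ 2 * a.val := (ZMod.natCast_eq_zero_iff _ _).1 h1
  have hm' : 2 ^ m = 2 * 2 ^ (m - 1) := by
    rw [← pow_succ']; congr 1; omega
  have h2' : 2 * 2 ^ (m - 1) ∣ 2 * a.val := by rw [← hm']; exact h2
  have h3 : 2 ^ (m - 1) ∣ a.val := (Nat.mul_dvd_mul_iff_left (by norm_num)).1 h2'
  obtain ⟨c, hc⟩ := h3
  have hlt : a.val < 2 ^ m := ZMod.val_lt a
  have hpos : 0 < 2 ^ (m - 1) := by positivity
  have hc2 : c < 2 := by
    by_contra hcon
    push Not at hcon
    have : 2 * 2 ^ (m - 1) ≤ 2 ^ (m - 1) * c := by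
      rw [mul_comm]; exact Nat.mul_le_mul_left _ hcon
    omega
  have ha' : a = ((a.val : ℕ) : ZMod (2 ^ m)) := (ZMod.natCast_zmod_val a).symm
  interval_cases c
  · left
    rw [ha', hc]; simp
  · right
    rw [ha', hc]; simp

/-- A group whose Sylow 2-subgroup is homocyclic of type (2^m, 2^m) has a normal 2-complement or a single conjugacy class of involutions. -/
theorem result {G : Type*} [Group G] [Finite G] (P : Sylow 2 G) (m : ℕ) (hm : 1 ≤ m) (e : (P : Subgroup G) ≃* Multiplicative (ZMod (2 ^ m) × ZMod (2 ^ m))) : (∃ N : Subgroup G, N.Normal ∧ Subgroup.IsComplement' N (P : Subgroup G)) ∨ ∀ s t : G, orderOf s = 2 → orderOf t = 2 → IsConj s t := by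
  have hab : ∀ x ∈ (P : Subgroup G), ∀ y ∈ (P : Subgroup G), x * y = y * x := by
    intro x hx y hy
    have h1 : e (⟨x, hx⟩ * ⟨y, hy⟩) = e (⟨y, hy⟩ * ⟨x, hx⟩) := by
      rw [map_mul, map_mul, mul_comm]
    have h2 := e.injective h1
    exact congrArg Subtype.val h2
  set h : ZMod (2 ^ m) := ((2 ^ (m - 1) : ℕ) : ZMod (2 ^ m)) with hh
  set t₁ : G := ((e.symm (Multiplicative.ofAdd (h, 0)) : (P : Subgroup G)) : G) with ht₁
  set t₂ : G := ((e.symm (Multiplicative.ofAdd (0, h)) : (P : Subgroup G)) : G) with ht₂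
  have hI : ∀ x ∈ (P : Subgroup G), orderOf x = 2 → x = t₁ ∨ x = t₂ ∨ x = t₁ * t₂ := by
    intro x hx hx2
    have hx1 : x ≠ 1 := by
      intro h1; rw [h1, orderOf_one] at hx2; omega
    have hxx : x ^ 2 = 1 := by rw [← hx2]; exact pow_orderOf_eq_one x
    obtain ⟨ab, hab'⟩ : ∃ ab : ZMod (2 ^ m) × ZMod (2 ^ m),
        e ⟨x, hx⟩ = Multiplicative.ofAdd ab := ⟨Multiplicative.toAdd (e ⟨x, hx⟩), rfl⟩
    have hsq : e ⟨x, hx⟩ ^ 2 = 1 := by
      rw [← map_pow]
      have : (⟨x, hx⟩ : (P : Subgroup G)) ^ 2 = 1 := Subtype.ext (by simpa using hxx)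
      rw [this, map_one]
    rw [hab', ← ofAdd_nsmul] at hsq
    have hsq' : (2 : ℕ) • ab = 0 := by
      have := congrArg Multiplicative.toAdd hsq
      simpa using this
    have ha : ab.1 + ab.1 = 0 := by
      have := congrArg Prod.fst hsq'
      rw [two_nsmul] at this
      exact this
    have hb : ab.2 + ab.2 = 0 := by
      have := congrArg Prod.snd hsq'
      rw [two_nsmul] at this
      exact this
    have hxe : (⟨x, hx⟩ : (P : Subgroup G)) = e.symm (Multiplicative.ofAdd ab) := by
      rw [← hab', e.symm_apply_apply]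
    have hx' : x = ((e.symm (Multiplicative.ofAdd ab) : (P : Subgroup G)) : G) := by
      rw [← hxe]
    rcases add_self_eq_zero_cases m hm ab.1 ha with h1 | h1 <;>
      rcases add_self_eq_zero_cases m hm ab.2 hb with h2 | h2
    · exfalso
      apply hx1
      have : ab = 0 := Prod.ext h1 h2
      rw [hx', this, ofAdd_zero, map_one]; rfl
    · right; left
      have : ab = (0, h) := Prod.ext h1 h2
      rw [hx', this]
    · left
      have : ab = (h, 0) := Prod.ext h1 h2
      rw [hx', this]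
    · right; right
      have : ab = (h, 0) + (0, h) := by
        apply Prod.ext
        · show ab.1 = h + 0
          rw [add_zero]; exact h1
        · show ab.2 = 0 + h
          rw [zero_add]; exact h2
      rw [hx', this, ofAdd_add, map_mul]; rfl
  by_cases hcase : ∃ n ∈ normalizer ((P : Subgroup G) : Set G), ∃ t ∈ (P : Subgroup G),
      orderOf t = 2 ∧ n * t * n⁻¹ ≠ t
  · right
    obtain ⟨n, hn, t, ht, ht2, hmove⟩ := hcase
    intro s t' hs ht'
    exact isConj_involutions_of_sylow P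
      (involutions_conj_of_moved P hab hI hn ht ht2 hmove) s t' hs ht'
  · left
    push Not at hcase
    have hle : normalizer ((P : Subgroup G) : Set G) ≤ centralizer ((P : Subgroup G) : Set G) := by
      intro n hn
      rw [mem_centralizer_iff]
      intro x hx
      have := centralizes_of_fixes_involutions P hab hn (fun t ht ht2 => hcase n hn t ht ht2) x hx
      calc x * n = (n * x * n⁻¹) * n := by rw [this]
        _ = n * x := by group
    exact ⟨_, MonoidHom.normal_ker _, MonoidHom.ker_transferSylow_isComplement' P hle⟩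

end Cfsg.Agent.S0946
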