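import Cfsg.Statements.S0949
import Cfsg.Agent.Lib.Helper7.BrauerHomMain

set_option autoImplicit false
open Cfsg

namespace Cfsg.Agent.S0949

open Cfsg.Agent.Lib.Helper7

/-- Let the finite group G have a Sylow 2-subgroup P isomorphic to Z/2^m × Z/2^m with m ≥ 2, and suppose G has no nontrivial normal subgroup of odd order. Then P is normal in G, C_G(P) = P, and the index of P is 1 or 3. -/
theorem result {G : Type*} [Group G] [Finite G] (P : Sylow 2 G) (m : ℕ) (hm : 2 ≤ m) (e : (P : Subgroup G) ≃* Multiplicative (ZMod (2 ^ m) × ZMod (2 ^ m))) (hO : ∀ N : Subgroup G, N.Normal → Odd (Nat.card N) → N = ⊥) : (P : Subgroup G).Normal ∧ Subgroup.centralizer (P : Set G) = (P : Subgroup G) ∧ ((P : Subgroup G).index = 1 ∨ (P : Subgroup G).index = 3) := by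
  classical
  haveI : Fact (Nat.Prime 2) := ⟨Nat.prime_two⟩
  haveI : Fintype G := Fintype.ofFinite G
  have hnorm : (P : Subgroup G).Normal :=
    brauer_homocyclic_normal (Nat.card G) G rfl P m hm e hO
  haveI := hnorm
  obtain ⟨hR, ⟨t₀, ht₀P, ht₀1, ht₀2⟩, hcard⟩ := rank2_of_equiv (P : Subgroup G) m (by omega) e
  have hPC : (P : Subgroup G) ≤ Subgroup.centralizer ((P : Subgroup G) : Set G) := by
    intro x hx
    rw [Subgroup.mem_centralizer_iff]
    intro y hy
    exact hR.comm y hy x hx
  -- `C_G(P)` is a normal subgroup with central Sylow 2-subgroup `P`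
  have hCn : (Subgroup.centralizer ((P : Subgroup G) : Set G)).Normal := Subgroup.normal_centralizer
  set C := Subgroup.centralizer ((P : Subgroup G) : Set G) with hC
  have hNC : Subgroup.normalizer (((P.subtype hPC : Sylow 2 ↥C) : Subgroup ↥C) : Set ↥C)
      ≤ Subgroup.centralizer (((P.subtype hPC : Sylow 2 ↥C) : Subgroup ↥C) : Set ↥C) := by
    intro x _
    rw [Subgroup.mem_centralizer_iff]
    intro y hy
    rw [SetLike.mem_coe, Sylow.coe_subtype, Subgroup.mem_subgroupOf] at hy
    apply Subtype.ext
    have := Subgroup.mem_centralizer_iff.mp x.2 (y : G) hy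
    simpa using this
  obtain ⟨L, hLn, hL2, hLall⟩ := exists_normal_pPrime_of_normalizer_le_centralizer
    (P.subtype hPC : Sylow 2 ↥C) hNC
  have hLodd : Odd (Nat.card L) := by
    rw [← Nat.not_even_iff_odd, even_iff_two_dvd]; exact hL2
  have hLbot : L = ⊥ := by
    have hmapn : (L.map C.subtype).Normal := by
      constructor
      intro x hx g
      obtain ⟨l, hl, rfl⟩ := hx
      have hmem : g * (l : G) * g⁻¹ ∈ C := hCn.conj_mem _ l.2 g
      refine ⟨⟨g * (l : G) * g⁻¹, hmem⟩, ?_, rfl⟩
      apply hLall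
      have h1 : orderOf (⟨g * (l : G) * g⁻¹, hmem⟩ : ↥C) = orderOf l := by
        rw [← Subgroup.orderOf_coe, ← Subgroup.orderOf_coe l]
        exact orderOf_conj_eq g (l : G)
      rw [h1]
      have h2 : orderOf l ∣ Nat.card L := Subgroup.orderOf_dvd_natCard _ hl
      have h3 : (Nat.card L).Coprime 2 := Nat.Coprime.symm (Nat.coprime_two_left.mpr hLodd)
      exact Nat.Coprime.coprime_dvd_left h2 h3
    have hcardL : Nat.card (L.map C.subtype) = Nat.card L :=
      Subgroup.card_map_of_injective C.subtype_injective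
    have := hO _ hmapn (by rw [hcardL]; exact hLodd)
    exact (Subgroup.map_eq_bot_iff_of_injective _ C.subtype_injective).mp this
  obtain ⟨k, hk⟩ := card_eq_two_pow_of_odd_trivial (G := ↥C) (fun x hx => by
    have := hLall x hx
    rw [hLbot, Subgroup.mem_bot] at this
    exact this)
  have hCP : C = (P : Subgroup G) := P.is_maximal' (IsPGroup.of_card hk) hPC
  refine ⟨hnorm, hCP, ?_⟩
  have hodd : Odd ((Subgroup.centralizer ((P : Subgroup G) : Set G)).relIndex
      (Subgroup.normalizer ((P : Subgroup G) : Set G))) := by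
    have h1 : (Subgroup.centralizer ((P : Subgroup G) : Set G)).relIndex
        (Subgroup.normalizer ((P : Subgroup G) : Set G)) ∣ (P : Subgroup G).index :=
      dvd_trans (Subgroup.relIndex_dvd_of_le_left _ hPC)
        (Subgroup.relIndex_dvd_index_of_le Subgroup.le_normalizer)
    have h2 : Odd (P : Subgroup G).index := by
      rw [← Nat.not_even_iff_odd, even_iff_two_dvd]
      exact P.not_dvd_index
    exact Odd.of_dvd_nat h2 h1
  have hrel := hR.relIndex_eq hodd t₀ ht₀P ht₀1 ht₀2
  rw [Subgroup.normalizer_eq_top, Subgroup.relIndex_top_right, ← hC, hCP] at hrel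
  exact hrel

end Cfsg.Agent.S0949
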