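import Mathlib
import Cfsg.Statements.S0950
import Cfsg.Agent.Lib.Helper7.Fusion
import Cfsg.Agent.Lib.Helper7.NormalComplement
import Cfsg.Agent.Lib.Helper7.SylowBasic

set_option autoImplicit false
open Cfsg

namespace Cfsg.Agent.S0950

open Cfsg.Agent.Lib.Helper7 Cfsg.Agent.Lib.Helper13
open QuaternionGroup
open scoped commutatorElement

theorem q8_pow_four : ∀ q : QuaternionGroup 2, q ^ 4 = 1 := by decide
theorem q8_sq_eq_one : ∀ q : QuaternionGroup 2, q ^ 2 = 1 → q = 1 ∨ q = a 2 := by decide

set_option maxRecDepth 100000 in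
theorem q8_sub4 : ∀ s : Finset (QuaternionGroup 2), s.card = 4 → (∀ x ∈ s, ∀ y ∈ s, x * y ∈ s) →
    s = {a 0, a 1, a 2, a 3} ∨ s = {a 0, a 2, xa 0, xa 2} ∨ s = {a 0, a 2, xa 1, xa 3} := by
  decide

/-- The finite set of quaternions corresponding to a subgroup. -/
noncomputable def FF {G : Type*} [Group G] (S : Subgroup G) (e : S ≃* QuaternionGroup 2)
    (T : Subgroup G) : Finset (QuaternionGroup 2) :=
  by classical exact Finset.univ.filter (fun q => ((e.symm q : S) : G) ∈ T)

theorem mem_FF {G : Type*} [Group G] (S : Subgroup G) (e : S ≃* QuaternionGroup 2)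
    (T : Subgroup G) (q : QuaternionGroup 2) : q ∈ FF S e T ↔ ((e.symm q : S) : G) ∈ T := by
  classical
  unfold FF
  simp

theorem FF_card {G : Type*} [Group G] (S : Subgroup G) (e : S ≃* QuaternionGroup 2)
    (T : Subgroup G) (hT : T ≤ S) : (FF S e T).card = Nat.card T := by
  classical
  have h1 : (FF S e T).card = Nat.card {q : QuaternionGroup 2 // q ∈ FF S e T} := by
    rw [Nat.card_eq_fintype_card, Fintype.card_coe]
  rw [h1]
  apply Nat.card_congr
  refine
    { toFun := fun q => ⟨((e.symm q.1 : S) : G), (mem_FF S e T q.1).mp q.2⟩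
      invFun := fun t => ⟨e ⟨t.1, hT t.2⟩, by
        rw [mem_FF, MulEquiv.symm_apply_apply]; exact t.2⟩
      left_inv := fun q => by
        apply Subtype.ext
        simp
      right_inv := fun t => by
        apply Subtype.ext
        simp }

theorem FF_inj {G : Type*} [Group G] (S : Subgroup G) (e : S ≃* QuaternionGroup 2)
    (T T' : Subgroup G) (hT : T ≤ S) (hT' : T' ≤ S) (h : FF S e T = FF S e T') : T = T' := by
  have key : ∀ (U U' : Subgroup G), U ≤ S → FF S e U = FF S e U' → U ≤ U' := by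
    intro U U' hU hUU' x hx
    have h1 : e ⟨x, hU hx⟩ ∈ FF S e U := by
      rw [mem_FF, MulEquiv.symm_apply_apply]; exact hx
    rw [hUU', mem_FF, MulEquiv.symm_apply_apply] at h1
    exact h1
  exact le_antisymm (key T T' hT h) (key T' T hT' h.symm)

theorem FF_mem3 {G : Type*} [Group G] (S : Subgroup G) (e : S ≃* QuaternionGroup 2)
    (T : Subgroup G) (hT : T ≤ S) (hc : Nat.card T = 4) :
    FF S e T ∈ ({{a 0, a 1, a 2, a 3}, {a 0, a 2, xa 0, xa 2}, {a 0, a 2, xa 1, xa 3}} :
      Finset (Finset (QuaternionGroup 2))) := by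
  have h := q8_sub4 (FF S e T) (by rw [FF_card S e T hT, hc]) (by
    intro x hx y hy
    rw [mem_FF] at hx hy ⊢
    rw [map_mul]
    exact T.mul_mem hx hy)
  simp only [Finset.mem_insert, Finset.mem_singleton]
  exact h

/-- Among the subgroups of order 4 of `S`, if `A` and `B` are not conjugate, then one of them is
conjugate to no other. -/
theorem exists_isolated {G : Type*} [Group G] (S : Subgroup G) (e : S ≃* QuaternionGroup 2)
    (A B : Subgroup G) (hA : A ≤ S) (hB : B ≤ S) (hA4 : Nat.card A = 4) (hB4 : Nat.card B = 4)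
    (hAB : ∀ u : G, B ≠ A.map (MulAut.conj u).toMonoidHom) :
    ∃ T : Subgroup G, T ≤ S ∧ Nat.card T = 4 ∧ ∀ T' : Subgroup G, T' ≤ S → Nat.card T' = 4 →
      ∀ u : G, T' = T.map (MulAut.conj u).toMonoidHom → T' = T := by
  classical
  by_cases hAiso : ∀ T' : Subgroup G, T' ≤ S → Nat.card T' = 4 →
      ∀ u : G, T' = A.map (MulAut.conj u).toMonoidHom → T' = A
  · exact ⟨A, hA, hA4, hAiso⟩
  · push Not at hAiso
    obtain ⟨C, hC, hC4, u₀, hCA, hCne⟩ := hAiso
    refine ⟨B, hB, hB4, ?_⟩
    intro T' hT' hT'4 u hT'B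
    by_contra hne
    have hABne : A ≠ B := by
      intro h
      apply hAB 1
      rw [map_conj_one, h]
    have hCB : C ≠ B := by
      intro h
      exact hAB u₀ (h ▸ hCA)
    -- the three finsets
    have hFA := FF_mem3 S e A hA hA4
    have hFB := FF_mem3 S e B hB hB4
    have hFC := FF_mem3 S e C hC hC4
    have hFT := FF_mem3 S e T' hT' hT'4
    have hdA : FF S e A ≠ FF S e B := fun h => hABne (FF_inj S e A B hA hB h)
    have hdC : FF S e C ≠ FF S e A := fun h => hCne (FF_inj S e C A hC hA h)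
    have hdCB : FF S e C ≠ FF S e B := fun h => hCB (FF_inj S e C B hC hB h)
    have hsub : ({FF S e A, FF S e B, FF S e C} : Finset (Finset (QuaternionGroup 2))) ⊆
        {{a 0, a 1, a 2, a 3}, {a 0, a 2, xa 0, xa 2}, {a 0, a 2, xa 1, xa 3}} := by
      intro x hx
      simp only [Finset.mem_insert, Finset.mem_singleton] at hx
      rcases hx with rfl | rfl | rfl
      · exact hFA
      · exact hFB
      · exact hFC
    have hcard3 : ({FF S e A, FF S e B, FF S e C} : Finset (Finset (QuaternionGroup 2))).card = 3 := by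
      rw [Finset.card_eq_three]
      exact ⟨_, _, _, hdA, hdC.symm, hdCB.symm, rfl⟩
    have heq := Finset.eq_of_subset_of_card_le hsub (by rw [hcard3]; exact Finset.card_le_three)
    rw [← heq] at hFT
    simp only [Finset.mem_insert, Finset.mem_singleton] at hFT
    rcases hFT with h | h | h
    · have hTA : T' = A := FF_inj S e T' A hT' hA h
      apply hAB u⁻¹
      rw [← hTA, hT'B, map_conj_inv_map_conj]
    · exact hne (FF_inj S e T' B hT' hB h)
    · have hTC : T' = C := FF_inj S e T' C hT' hC h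
      apply hAB (u⁻¹ * u₀)
      rw [map_conj_mul, ← hCA, ← hTC, hT'B, map_conj_inv_map_conj]

theorem h7_main {G : Type*} [Group G] [Finite G] (S : Sylow 2 G)
    (e : (S : Subgroup G) ≃* QuaternionGroup 2)
    (hnc : ∀ N : Subgroup G, N.Normal → ¬ Subgroup.IsComplement' N (S : Subgroup G))
    (A B : Subgroup G) (hA : A ≤ S) (hB : B ≤ S) (hA4 : Nat.card A = 4) (hB4 : Nat.card B = 4) :
    ∃ n ∈ Subgroup.normalizer ((S : Subgroup G) : Set G), B = A.map (MulAut.conj n).toMonoidHom := by
  classical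
  by_contra hcon
  push Not at hcon
  have hS8 : Nat.card (S : Subgroup G) = 8 := by
    rw [Nat.card_congr e.toEquiv, Nat.card_eq_fintype_card, QuaternionGroup.card]
  -- element facts
  have E1 : ∀ x ∈ (S : Subgroup G), x ^ 4 = 1 := by
    intro x hx
    have h1 : e (⟨x, hx⟩ ^ 4) = 1 := by rw [map_pow]; exact q8_pow_four _
    have h2 : (⟨x, hx⟩ : (S : Subgroup G)) ^ 4 = 1 := by
      rwa [EmbeddingLike.map_eq_one_iff] at h1
    exact congrArg Subtype.val h2
  set z : G := ((e.symm (a 2) : (S : Subgroup G)) : G) with hz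
  have E2 : ∀ x ∈ (S : Subgroup G), x ^ 2 = 1 → x = 1 ∨ x = z := by
    intro x hx hx2
    have h1 : (e ⟨x, hx⟩) ^ 2 = 1 := by
      rw [← map_pow]
      have : (⟨x, hx⟩ : (S : Subgroup G)) ^ 2 = 1 := Subtype.ext hx2
      rw [this, map_one]
    rcases q8_sq_eq_one _ h1 with h | h
    · left
      rw [EmbeddingLike.map_eq_one_iff] at h
      exact congrArg Subtype.val h
    · right
      rw [hz, ← h, MulEquiv.symm_apply_apply]
  have hzS : z ∈ (S : Subgroup G) := (e.symm (a 2)).2
  have E3 : ∀ T : Subgroup G, T ≤ S → Nat.card T = 4 → ∃ x ∈ T, x ^ 2 ≠ 1 := by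
    intro T hT hT4
    by_contra hall
    push Not at hall
    have hsub : (T : Set G) ⊆ ({1, z} : Set G) := by
      intro x hx
      rcases E2 x (hT hx) (hall x hx) with h | h
      · left; exact h
      · right; exact h
    have hc : Nat.card T ≤ 2 := by
      have h1 : Nat.card T = (T : Set G).ncard := (Nat.card_coe_set_eq (T : Set G))
      rw [h1]
      calc (T : Set G).ncard ≤ ({1, z} : Set G).ncard :=
            Set.ncard_le_ncard hsub (Set.toFinite _)
        _ ≤ 2 := by
            have := Set.ncard_insert_le (1 : G) ({z} : Set G)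
            rw [Set.ncard_singleton] at this
            exact this
    omega
  have E4 : ∀ T : Subgroup G, T ≤ S → Nat.card T = 4 → ∀ x ∈ T, x ^ 2 ≠ 1 →
      T = Subgroup.zpowers x := by
    intro T hT hT4 x hx hx2
    have ho : orderOf x = 4 := by
      have h4 : orderOf x ∣ 4 := orderOf_dvd_of_pow_eq_one (E1 x (hT hx))
      have h2 : ¬ orderOf x ∣ 2 := fun h => hx2 (orderOf_dvd_iff_pow_eq_one.mp h)
      have hle : orderOf x ≤ 4 := Nat.le_of_dvd (by norm_num) h4
      interval_cases h : orderOf x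
      · simp at h4
      · exact absurd (one_dvd 2) h2
      · exact absurd (dvd_refl 2) h2
      · norm_num at h4
      · rfl
    symm
    apply Subgroup.eq_of_le_of_card_ge
    · rw [Subgroup.zpowers_le]; exact hx
    · rw [Nat.card_zpowers, ho, hT4]
  have E5 : ∀ T : Subgroup G, T ≤ S → Nat.card T = 4 → z ∈ T := by
    intro T hT hT4
    obtain ⟨x, hx, hx2⟩ := E3 T hT hT4
    have h1 : (x ^ 2) ^ 2 = 1 := by rw [← pow_mul]; exact E1 x (hT hx)
    rcases E2 (x ^ 2) ((S : Subgroup G).pow_mem (hT hx) 2) h1 with h | h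
    · exact absurd h hx2
    · rw [← h]; exact T.pow_mem hx 2
  -- index two
  have hidx : ∀ T : Subgroup G, T ≤ S → Nat.card T = 4 → (T.subgroupOf (S : Subgroup G)).index = 2 := by
    intro T hT hT4
    have h1 := card_mul_relIndex hT
    rw [hT4, hS8] at h1
    show T.relIndex (S : Subgroup G) = 2
    omega
  have hnorm : ∀ T : Subgroup G, T ≤ S → Nat.card T = 4 →
      (S : Subgroup G) ≤ Subgroup.normalizer (T : Set G) := by
    intro T hT hT4
    have hn : (T.subgroupOf (S : Subgroup G)).Normal :=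
      Subgroup.normal_of_index_eq_two (hidx T hT hT4)
    exact (Subgroup.normal_subgroupOf_iff_le_normalizer hT).mp hn
  -- no G-fusion between A and B
  have hAB : ∀ u : G, B ≠ A.map (MulAut.conj u).toMonoidHom := by
    intro u hu
    obtain ⟨n, hn, hBn⟩ := burnside_fusion_subgroup S A B (hnorm A hA hA4) (hnorm B hB hB4) u hu
    exact hcon n hn hBn
  obtain ⟨T, hT, hT4, hTiso⟩ := exists_isolated (S : Subgroup G) e A B hA hB hA4 hB4 hAB
  -- P6
  have P6 : ∀ x ∈ T, ∀ u : G, u * x * u⁻¹ ∈ (S : Subgroup G) → u * x * u⁻¹ ∈ T := by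
    intro x hx u hux
    by_cases hx2 : x ^ 2 = 1
    · have h1 : (u * x * u⁻¹) ^ 2 = 1 := by
        rw [conj_pow, hx2]; group
      rcases E2 _ hux h1 with h | h
      · rw [h]; exact T.one_mem
      · rw [h]; exact E5 T hT hT4
    · have hTz := E4 T hT hT4 x hx hx2
      have hT' : T.map (MulAut.conj u).toMonoidHom ≤ (S : Subgroup G) := by
        rw [hTz, MonoidHom.map_zpowers, Subgroup.zpowers_le]
        exact hux
      have hT'4 : Nat.card (T.map (MulAut.conj u).toMonoidHom) = 4 := by
        rw [card_map_conj, hT4]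
      have := hTiso _ hT' hT'4 u rfl
      rw [← this]
      exact conj_mem_map_conj T u hx
  have P7 : ∀ x ∈ (S : Subgroup G), ∀ u : G, u * x * u⁻¹ ∈ T → x ∈ T := by
    intro x hx u hux
    have := P6 _ hux u⁻¹ (by
      have h : u⁻¹ * (u * x * u⁻¹) * u⁻¹⁻¹ = x := by group
      rw [h]; exact hx)
    have h : u⁻¹ * (u * x * u⁻¹) * u⁻¹⁻¹ = x := by group
    rwa [h] at this
  -- focal subgroup
  have hfocal : Subgroup.focalSubgroup (S : Subgroup G) ≤ T := by
    rw [Subgroup.focalSubgroup_def, Subgroup.closure_le]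
    rintro g ⟨hgS, x, hxS, u, rfl⟩
    rw [commutatorElement_def] at hgS ⊢
    have hy : u * x⁻¹ * u⁻¹ ∈ (S : Subgroup G) := by
      have := (S : Subgroup G).mul_mem ((S : Subgroup G).inv_mem hxS) hgS
      have h : x⁻¹ * (x * u * x⁻¹ * u⁻¹) = u * x⁻¹ * u⁻¹ := by group
      rwa [h] at this
    have hiff : x ∈ T ↔ u * x⁻¹ * u⁻¹ ∈ T := by
      constructor
      · intro h; exact P6 _ (T.inv_mem h) u hy
      · intro h
        have := P7 _ ((S : Subgroup G).inv_mem hxS) u h
        simpa using T.inv_mem this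
    have hmul := Subgroup.mul_mem_iff_of_index_two (hidx T hT hT4)
      (a := (⟨x, hxS⟩ : (S : Subgroup G))) (b := ⟨u * x⁻¹ * u⁻¹, hy⟩)
    rw [Subgroup.mem_subgroupOf, Subgroup.mem_subgroupOf, Subgroup.mem_subgroupOf] at hmul
    have h : x * u * x⁻¹ * u⁻¹ = x * (u * x⁻¹ * u⁻¹) := by group
    rw [h]
    exact hmul.mpr hiff
  -- T is cyclic
  have hTc : IsCyclic T := by
    obtain ⟨x, hx, hx2⟩ := E3 T hT hT4
    have := E4 T hT hT4 x hx hx2
    rw [this]
    infer_instance
  have hfc : IsCyclic (Subgroup.focalSubgroup (S : Subgroup G)) := Subgroup.isCyclic_of_le hfocal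
  obtain ⟨N, hNn, hNc⟩ := exists_normal_complement_of_focal_cyclic
    (fun q hq _ => hq.two_le) S hfc
  exact hnc N hNn hNc

/-- Let S be a Sylow 2-subgroup of the finite group G that is isomorphic to the quaternion group of order 8, and suppose S has no normal complement in G. Then any two subgroups of order 4 of S are conjugate by an element of the normalizer of S. -/
theorem result {G : Type*} [Group G] [Finite G] (S : Sylow 2 G) (e : (S : Subgroup G) ≃* QuaternionGroup 2) (hnc : ∀ N : Subgroup G, N.Normal → ¬ Subgroup.IsComplement' N (S : Subgroup G)) (A B : Subgroup G) (hA : A ≤ S) (hB : B ≤ S) (hA4 : Nat.card A = 4) (hB4 : Nat.card B = 4) : ∃ n ∈ Subgroup.normalizer ((S : Subgroup G) : Set G), B = A.map (MulAut.conj n).toMonoidHom :=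
  h7_main S e hnc A B hA hB hA4 hB4

end Cfsg.Agent.S0950
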