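import Mathlib
import Cfsg.Statements.S0952
import Cfsg.Agent.Lib.Helper24.BlockRegular

set_option autoImplicit false
open scoped ComplexConjugate
open Cfsg

namespace Cfsg.Agent.S0952

open Cfsg.Agent.Lib.Helper24

/-- Let χ and ψ be irreducible characters of the finite group G lying in different blocks relative to a maximal ideal M of the algebraic integers containing the prime p. Then the sum of χ x * conj (ψ x) over the elements x of order prime to p is zero. -/
theorem result {G : Type*} [Group G] [Finite G] (p : ℕ) [Fact p.Prime] (M : Ideal Cfsg.AlgInt) (hM : Cfsg.IsPModular p M) (χ ψ : Cfsg.IrrCharacter G) (h : ¬ Cfsg.SameBlock M (χ : G → ℂ) (ψ : G → ℂ)) : ∑ᶠ x ∈ {x : G | ¬ p ∣ orderOf x}, (χ : G → ℂ) x * conj ((ψ : G → ℂ) x) = 0 := by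
  classical
  letI : Fintype G := Fintype.ofFinite G
  have hB' : Cfsg.IsPBlock M (Cfsg.blockOf M (ψ : G → ℂ)) := ⟨ψ, rfl⟩
  have hψ : ψ ∈ Cfsg.blockOf M (ψ : G → ℂ) := sameBlock_refl hM _
  have hχ : χ ∉ Cfsg.blockOf M (ψ : G → ℂ) := fun hc => h (sameBlock_symm hM hc)
  have key := sum_pRegularPart_mul_conj_eq_zero hM _ hB' χ hχ ψ hψ
  rw [finsum_mem_eq_sum_ite]
  refine Eq.trans ?_ key
  apply Finset.sum_congr rfl
  intro x _
  by_cases hx : p ∣ orderOf x
  · rw [pRegularPart_of_singular _ hx, zero_mul, if_neg]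
    simpa using hx
  · rw [pRegularPart_of_regular _ hx, if_pos]
    exact hx

end Cfsg.Agent.S0952
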