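import Mathlib
import Cfsg.Statements.S0957
import Cfsg.Agent.Lib.Helper7.Orbits2

set_option autoImplicit false
open Cfsg

namespace Cfsg.Agent.S0957

open Cfsg.Agent.Lib.Helper7

theorem isConj_conj {G : Type*} [Group G] (g x u : G) (h : IsConj g x) : IsConj g (u * x * u⁻¹) :=
  h.trans (isConj_iff.mpr ⟨u, rfl⟩)

/-- simultaneous conjugation -/
@[reducible] def pairAction {G : Type*} [Group G] (P : Subgroup G) (g h : G) :
    MulAction P {yz : G × G // IsConj g yz.1 ∧ IsConj h yz.2 ∧ yz.2 * yz.1⁻¹ ∈ P} where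
  smul u yz := ⟨(u * yz.1.1 * (u : G)⁻¹, u * yz.1.2 * (u : G)⁻¹),
    isConj_conj g _ u yz.2.1, isConj_conj h _ u yz.2.2.1, by
      have h1 : (u : G) * yz.1.2 * (u : G)⁻¹ * ((u : G) * yz.1.1 * (u : G)⁻¹)⁻¹ = u * (yz.1.2 * yz.1.1⁻¹) * (u : G)⁻¹ := by group
      show (u : G) * yz.1.2 * (u : G)⁻¹ * ((u : G) * yz.1.1 * (u : G)⁻¹)⁻¹ ∈ P
      rw [h1]
      exact P.mul_mem (P.mul_mem u.2 yz.2.2.2) (P.inv_mem u.2)⟩
  one_smul yz := by
    apply Subtype.ext
    show ((((1 : P) : G) * yz.1.1 * ((1 : P) : G)⁻¹), (((1 : P) : G) * yz.1.2 * ((1 : P) : G)⁻¹)) = yz.1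
    simp
  mul_smul u v yz := by
    apply Subtype.ext
    show ((((u * v : P) : G) * yz.1.1 * ((u * v : P) : G)⁻¹), (((u * v : P) : G) * yz.1.2 * ((u * v : P) : G)⁻¹)) =
      ((u : G) * ((v : G) * yz.1.1 * (v : G)⁻¹) * (u : G)⁻¹, (u : G) * ((v : G) * yz.1.2 * (v : G)⁻¹) * (u : G)⁻¹)
    simp [mul_assoc]

/-- Let P be a Sylow p-subgroup of the finite group G, let g, h ∈ G and let p ^ d be the order of a Sylow p-subgroup of the centralizer of g. Then the number of pairs (y, z) with y conjugate to g, z conjugate to h and z * y⁻¹ ∈ P is divisible by the order of P divided by p ^ d. -/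
theorem result {G : Type*} [Group G] [Finite G] (p : ℕ) [Fact p.Prime] (P : Sylow p G) (g h : G) (S : Sylow p (Subgroup.centralizer ({g} : Set G))) : Nat.card P / Nat.card S ∣ Nat.card {yz : G × G // IsConj g yz.1 ∧ IsConj h yz.2 ∧ yz.2 * yz.1⁻¹ ∈ (P : Subgroup G)} := by
  classical
  let _ := pairAction (P : Subgroup G) g h
  have hsmul : ∀ (u : (P : Subgroup G)) (yz : {yz : G × G // IsConj g yz.1 ∧ IsConj h yz.2 ∧ yz.2 * yz.1⁻¹ ∈ (P : Subgroup G)}),
      ((u • yz : {yz : G × G // IsConj g yz.1 ∧ IsConj h yz.2 ∧ yz.2 * yz.1⁻¹ ∈ (P : Subgroup G)}) : G × G) =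
        (u * yz.1.1 * (u : G)⁻¹, u * yz.1.2 * (u : G)⁻¹) := fun _ _ => rfl
  apply dvd_card_of_dvd_orbits (P := (P : Subgroup G))
  intro yz
  have horb := card_orbit_mul_card_stabilizer (P := (P : Subgroup G)) yz
  -- the stabilizer embeds into the centralizer of y as a p-subgroup
  set y := yz.1.1 with hy
  have hyconj : IsConj g y := yz.2.1
  let f : MulAction.stabilizer (P : Subgroup G) yz →* Subgroup.centralizer ({y} : Set G) :=
    { toFun := fun u => ⟨((u : (P : Subgroup G)) : G), by
        have := MulAction.mem_stabilizer_iff.mp u.2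
        have h1 := congrArg (fun e : {yz : G × G // IsConj g yz.1 ∧ IsConj h yz.2 ∧ yz.2 * yz.1⁻¹ ∈ (P : Subgroup G)} => (e : G × G).1) this
        simp only [hsmul] at h1
        rw [Subgroup.mem_centralizer_iff]
        intro w hw
        rw [Set.mem_singleton_iff] at hw
        subst hw
        calc y * ((u : (P : Subgroup G)) : G) = ((u : (P : Subgroup G)) : G) * y * ((u : (P : Subgroup G)) : G)⁻¹ * ((u : (P : Subgroup G)) : G) := by rw [h1]
          _ = ((u : (P : Subgroup G)) : G) * y := by group⟩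
      map_one' := rfl
      map_mul' := fun _ _ => rfl }
  have hf : Function.Injective f := by
    intro a b hab
    have := congrArg (fun e : Subgroup.centralizer ({y} : Set G) => (e : G)) hab
    exact Subtype.ext (Subtype.ext this)
  have hstabP : IsPGroup p (MulAction.stabilizer (P : Subgroup G) yz) := P.2.to_subgroup _
  have hrangeP : IsPGroup p f.range := hstabP.of_equiv (MonoidHom.ofInjective hf)
  obtain ⟨S'⟩ := (Sylow.nonempty : Nonempty (Sylow p (Subgroup.centralizer ({y} : Set G))))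
  have h1 : Nat.card f.range ∣ Nat.card S' := card_dvd_card_sylow_of_isPGroup f.range hrangeP S'
  have h2 : Nat.card f.range = Nat.card (MulAction.stabilizer (P : Subgroup G) yz) :=
    (Nat.card_congr (MonoidHom.ofInjective hf).toEquiv).symm
  have h3 : Nat.card S' = Nat.card S := by
    rw [Sylow.card_eq_multiplicity, Sylow.card_eq_multiplicity, card_centralizer_eq_of_isConj hyconj]
  rw [h2, h3] at h1
  obtain ⟨t, ht⟩ := h1
  have hSpos : 0 < Nat.card S := Nat.card_pos
  have hstabpos : 0 < Nat.card (MulAction.stabilizer (P : Subgroup G) yz) := Nat.card_pos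
  refine ⟨t, ?_⟩
  -- |P| = |orbit| * |stab|, |S| = |stab| * t
  have h4 : Nat.card (P : Subgroup G) = Nat.card (MulAction.orbit (P : Subgroup G) yz) * Nat.card (MulAction.stabilizer (P : Subgroup G) yz) := horb.symm
  have ht0 : 0 < t := by
    rcases Nat.eq_zero_or_pos t with h0 | h0
    · rw [h0, mul_zero] at ht; omega
    · exact h0
  by_cases hdvd : t ∣ Nat.card (MulAction.orbit (P : Subgroup G) yz)
  · obtain ⟨s, hs⟩ := hdvd
    have h5 : Nat.card (P : Subgroup G) / Nat.card S = s := by
      show Nat.card (P : Subgroup G) / Nat.card S = s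
      rw [h4, ht, hs]
      rw [show t * s * Nat.card (MulAction.stabilizer (P : Subgroup G) yz) = s * (Nat.card (MulAction.stabilizer (P : Subgroup G) yz) * t) by ring]
      exact Nat.mul_div_cancel _ (Nat.mul_pos hstabpos ht0)
    show Nat.card (MulAction.orbit (P : Subgroup G) yz) = Nat.card (P : Subgroup G) / Nat.card S * t
    rw [h5, hs, mul_comm]
  · -- t divides |orbit| since |S| divides |P|
    exfalso
    apply hdvd
    have hSP : Nat.card S ∣ Nat.card (P : Subgroup G) := by
      rw [Sylow.card_eq_multiplicity, Sylow.card_eq_multiplicity]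
      apply pow_dvd_pow
      have hdvd' : Nat.card (Subgroup.centralizer ({g} : Set G)) ∣ Nat.card G := Subgroup.card_subgroup_dvd_card _
      exact (Nat.factorization_le_iff_dvd Nat.card_pos.ne' Nat.card_pos.ne').mpr hdvd' p
    rw [h4, ht] at hSP
    rw [mul_comm (Nat.card (MulAction.orbit (P : Subgroup G) yz))] at hSP
    exact (Nat.mul_dvd_mul_iff_left hstabpos).mp hSP

end Cfsg.Agent.S0957
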