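import Mathlib
import Cfsg.Statements.S0959
import Cfsg.Agent.Lib.Helper7.MinMax

set_option autoImplicit false
open Cfsg

namespace Cfsg.Agent.S0959

open Cfsg.Agent.Lib.Helper7 Cfsg.Agent.Lib.Helper24

/-- Let B be a block of the finite group G with defect group D (relative to a maximal ideal M of the algebraic integers containing the prime p), and let P be a p-subgroup. Then there is an element g whose idempotent coefficient for B is a local integer outside the local ideal at M and which has a conjugate centralizing P, if and only if some conjugate of P is contained in D. -/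
theorem result {G : Type*} [Group G] [Finite G] (p : ℕ) [Fact p.Prime] (M : Ideal Cfsg.AlgInt) (hM : Cfsg.IsPModular p M) (B : Set (Cfsg.IrrCharacter G)) (hB : Cfsg.IsPBlock M B) (D : Subgroup G) (hD : Cfsg.IsDefectGroup p M B D) (P : Subgroup G) (hP : IsPGroup p P) : (∃ g : G, Cfsg.MemLocalRing M (Cfsg.blockCoeff B g) ∧ ¬ Cfsg.MemLocalIdeal M (Cfsg.blockCoeff B g) ∧ ∃ c : G, IsConj g c ∧ c ∈ Subgroup.centralizer (P : Set G)) ↔ ∃ x : G, P.map (MulAut.conj x).toMonoidHom ≤ D := by
  classical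
  letI : Fintype G := Fintype.ofFinite G
  obtain ⟨g₀, hg₀, Q, rfl⟩ := hD
  constructor
  · rintro ⟨g, _, hg, c, hgc, hc⟩
    obtain ⟨χ, hχ⟩ := isPBlock_nonempty hM hB
    have hcoef : ¬ Cfsg.MemLocalIdeal M (Cfsg.blockCoeff B c) := by
      obtain ⟨y, hy⟩ := isConj_iff.mp hgc
      rw [← hy, blockCoeff_isClassFunction B]
      exact hg
    have h1 := minmax hM B hB g₀ c Q χ hχ (hg₀.2.2 χ hχ) hcoef
    have hPc : P ≤ Subgroup.centralizer ({c} : Set G) := by
      intro u hu
      rw [Subgroup.mem_centralizer_singleton_iff]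
      rw [Subgroup.mem_centralizer_iff] at hc
      exact hc u hu
    obtain ⟨x, hx⟩ := h1.exists_le P hP hPc
    refine ⟨x⁻¹, ?_⟩
    rintro _ ⟨u, hu, rfl⟩
    obtain ⟨w, hw, hwu⟩ := hx hu
    have : (MulAut.conj x⁻¹).toMonoidHom u = w := by
      rw [← hwu]; simp [mul_assoc]
    rw [this]; exact hw
  · rintro ⟨x, hx⟩
    refine ⟨g₀, hg₀.1, hg₀.2.1, x⁻¹ * g₀ * x, ?_, ?_⟩
    · rw [isConj_iff]; exact ⟨x⁻¹, by simp⟩
    · rw [Subgroup.mem_centralizer_iff]
      intro u hu
      have h1 : x * u * x⁻¹ ∈ (Q : Subgroup (Subgroup.centralizer ({g₀} : Set G))).map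
          (Subgroup.centralizer ({g₀} : Set G)).subtype := hx ⟨u, hu, by simp⟩
      obtain ⟨v, _, hv⟩ := h1
      have hv2 := v.2
      rw [Subgroup.mem_centralizer_singleton_iff] at hv2
      have hv3 : (v : G) = x * u * x⁻¹ := hv
      rw [hv3] at hv2
      calc u * (x⁻¹ * g₀ * x) = x⁻¹ * (x * u * x⁻¹ * g₀) * x := by group
        _ = x⁻¹ * (g₀ * (x * u * x⁻¹)) * x := by rw [hv2]
        _ = x⁻¹ * g₀ * x * u := by group

end Cfsg.Agent.S0959
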