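import Mathlib
import Cfsg.Statements.S0962
import Cfsg.Agent.Lib.Helper24.DefectCount

set_option autoImplicit false
open Cfsg

namespace Cfsg.Agent.S0962

open Cfsg.Agent.Lib.Helper24 Cfsg.Agent.Lib.Helper7

/-- Fix a maximal ideal M of the algebraic integers containing the prime p and a natural number d. The number of blocks of the finite group G of defect at least d is at most the number of conjugacy classes of p-regular elements of G of defect at least d, where the defect of a class is the exponent of p in the order of the centralizer of any of its elements. -/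
theorem result {G : Type*} [Group G] [Finite G] (p : ℕ) [Fact p.Prime] (M : Ideal Cfsg.AlgInt) (hM : Cfsg.IsPModular p M) (d : ℕ) : Nat.card {B : Set (Cfsg.IrrCharacter G) // Cfsg.IsPBlock M B ∧ d ≤ Cfsg.blockDefect p B} ≤ Nat.card {C : ConjClasses G // ∃ g : G, ConjClasses.mk g = C ∧ Cfsg.IsPRegular p g ∧ d ≤ (Nat.card (Subgroup.centralizer ({g} : Set G))).factorization p} := by
  classical
  haveI : Fintype G := Fintype.ofFinite G
  apply card_blocks_le_card_classes hM
    {B : Set (Cfsg.IrrCharacter G) | Cfsg.IsPBlock M B ∧ d ≤ Cfsg.blockDefect p B}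
    (fun B h => h.1)
    {C : ConjClasses G | ∃ g : G, ConjClasses.mk g = C ∧ Cfsg.IsPRegular p g ∧
      d ≤ (Nat.card (Subgroup.centralizer ({g} : Set G))).factorization p}
  rintro B ⟨hB, hBd⟩ B' ⟨hB', hB'd⟩ χ hχ g hg
  by_cases hreg : p ∣ orderOf g
  · rw [blockCoeff_eq_zero_of_singular hM B' hB' g hreg, zero_mul]
    exact memLocalIdeal_zero hM
  · have hlt : (Nat.card (Subgroup.centralizer ({g} : Set G))).factorization p < d := by
      by_contra h
      push Not at h
      exact hg ⟨g, rfl, hreg, h⟩
    have hω : Cfsg.MemLocalIdeal M (Cfsg.centralChar χ.1 g) := by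
      by_contra h
      have := blockDefect_le_factorization hM B hB χ hχ g h
      omega
    exact memLocalIdeal_mul_left hM (blockCoeff_memLocalRing hM B' hB' g) hω

end Cfsg.Agent.S0962
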