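import Mathlib
import Cfsg.Statements.S0964
import Cfsg.Agent.Lib.Helper7.Covering

set_option autoImplicit false
open Cfsg

namespace Cfsg.Agent.S0964

open Cfsg.Agent.Lib.Helper7 Cfsg.Agent.Lib.Helper2

theorem result {G : Type*} [Group G] [Fintype G] (p : ℕ) [Fact p.Prime] (M : Ideal Cfsg.AlgInt) (hM : Cfsg.IsPModular p M) (N : Subgroup G) [hN : N.Normal] [Fintype N] (B : Set (Cfsg.IrrCharacter G)) (hB : Cfsg.IsPBlock M B) (b : Set (Cfsg.IrrCharacter N)) (hb : Cfsg.IsPBlock M b) (χ : Cfsg.IrrCharacter G) (hχ : χ ∈ B) (θ : Cfsg.IrrCharacter N) (hθ : θ ∈ b) (hcon : Cfsg.classInner (fun n : N => (χ : G → ℂ) n) (θ : N → ℂ) ≠ 0) (χ' : Cfsg.IrrCharacter G) (hχ' : χ' ∈ B) (ψ : Cfsg.IrrCharacter N) (hψ : Cfsg.classInner (fun n : N => (χ' : G → ℂ) n) (ψ : N → ℂ) ≠ 0) : ∃ g : G, ∃ θ' ∈ b, ∀ n : N, (ψ : N → ℂ) n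 = (θ' : N → ℂ) ⟨g * n * g⁻¹, hN.conj_mem n n.2 g⟩ := by
  have hsame := sameBlock_of_mem_block hM hB hχ hχ'
  obtain ⟨x, hx⟩ := constituent_mem_orbitUnion N hM b hb χ χ' hsame θ hθ hcon ψ hψ
  refine ⟨x⁻¹, conjIrr N x ψ, hx, ?_⟩
  intro n
  show (ψ : N → ℂ) n = conjFun N x (ψ : N → ℂ) ⟨x⁻¹ * n * x⁻¹⁻¹, _⟩
  rw [conjFun_apply]
  have e : n = (⟨x * ((⟨x⁻¹ * (n : G) * x⁻¹⁻¹, hN.conj_mem n n.2 x⁻¹⟩ : N) : G) * x⁻¹,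
      hN.conj_mem _ (⟨x⁻¹ * (n : G) * x⁻¹⁻¹, hN.conj_mem n n.2 x⁻¹⟩ : N).2 x⟩ : N) := by
    apply Subtype.ext
    simp only
    group
  exact congrArg (ψ : N → ℂ) e

end Cfsg.Agent.S0964
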