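import Mathlib
import Cfsg.Statements.S0967
import Cfsg.Agent.Lib.Helper7.QuotientBlock

set_option autoImplicit false
open Cfsg

namespace Cfsg.Agent.S0967

open Cfsg.Agent.Lib.Helper7 Cfsg.Agent.Lib.Helper24

theorem result {G : Type*} [Group G] [Finite G] (p : ℕ) [Fact p.Prime] (M : Ideal Cfsg.AlgInt) (hM : Cfsg.IsPModular p M) (N : Subgroup G) [N.Normal] (hN : ¬ p ∣ Nat.card N) (χ : Cfsg.IrrCharacter (G ⧸ N)) (ψ : Cfsg.IrrCharacter G) (hψ : ψ ∈ Cfsg.blockOf M ((χ : G ⧸ N → ℂ) ∘ QuotientGroup.mk)) : ∃ ψ' : Cfsg.IrrCharacter (G ⧸ N), (ψ : G → ℂ) = (ψ' : G ⧸ N → ℂ) ∘ QuotientGroup.mk ∧ Cfsg.SameBlock M (χ : G ⧸ N → ℂ) (ψ' : G ⧸ N → ℂ) := by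
  classical
  have : Fintype G := Fintype.ofFinite G
  have : Fintype N := Fintype.ofFinite N
  have : Fintype (G ⧸ N) := Fintype.ofFinite _
  have hχirr : Cfsg.IsIrrCharacter G (fun g : G => (χ : G ⧸ N → ℂ) (g : G ⧸ N)) :=
    Cfsg.Agent.Lib.Helper25.isIrrCharacter_inflation N χ.2
  have hsame : Cfsg.SameBlock M (fun g : G => (χ : G ⧸ N → ℂ) (g : G ⧸ N)) (ψ : G → ℂ) := hψ
  have hker := kernel_of_sameBlock N hM hN ⟨_, hχirr⟩ ψ (by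
    intro n hn
    show (χ : G ⧸ N → ℂ) ((n : G) : G ⧸ N) = (χ : G ⧸ N → ℂ) ((1 : G) : G ⧸ N)
    have h1 : ((n : G) : G ⧸ N) = ((1 : G) : G ⧸ N) := by
      rw [QuotientGroup.mk_one, QuotientGroup.eq_one_iff]
      exact hn
    rw [h1]) hsame
  obtain ⟨ψ', hψ'irr, hψ'⟩ := Cfsg.Agent.Lib.Helper25.exists_deflation N ψ.2 hker
  refine ⟨⟨ψ', hψ'irr⟩, ?_, ?_⟩
  · funext g
    exact hψ' g
  · apply sameBlock_of_inflation N hM hN χ ⟨ψ', hψ'irr⟩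
    have e : (fun g : G => ψ' (g : G ⧸ N)) = (ψ : G → ℂ) := by
      funext g; exact (hψ' g).symm
    show Cfsg.SameBlock M (fun g : G => (χ : G ⧸ N → ℂ) (g : G ⧸ N)) (fun g : G => ψ' (g : G ⧸ N))
    rw [e]
    exact hsame

end Cfsg.Agent.S0967
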