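import Mathlib
import Cfsg.Statements.S0971
import Cfsg.Agent.Lib.Helper7.Covering

set_option autoImplicit false
open Cfsg

namespace Cfsg.Agent.S0971

open Cfsg.Agent.Lib.Helper7 Cfsg.Agent.Lib.Helper24

theorem result {G : Type*} [Group G] [Fintype G] (p : ℕ) [Fact p.Prime] (M : Ideal Cfsg.AlgInt) (hM : Cfsg.IsPModular p M) (Q : Subgroup G) [Q.Normal] (hQ : IsPGroup p Q) [Fintype ↥(Q ⊔ Subgroup.centralizer (Q : Set G))] (b : Set (Cfsg.IrrCharacter ↥(Q ⊔ Subgroup.centralizer (Q : Set G)))) (hb : Cfsg.IsPBlock M b) : Cfsg.InducedBlockDefined M (Q ⊔ Subgroup.centralizer (Q : Set G)) b ∧ ∀ B : Set (Cfsg.IrrCharacter G), Cfsg.IsPBlock M B → (∃ χ ∈ B, ∃ θ ∈ b, Cfsg.classInner (fun n : ↥(Q ⊔ Subgroup.centralizer (Q : Set G)) => (χ : G → ℂ) n) (θ : ↥(Q ⊔ Subgroup.centralizer (Q : Set G)) → ℂ) ≠ 0) → Cfsg.IsInducedBlock M (Q ⊔ Subgroup.centralizer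 (Q : Set G)) b B := by
  have hCN : Subgroup.centralizer (Q : Set G) ≤ Q ⊔ Subgroup.centralizer (Q : Set G) := le_sup_right
  have key : ∀ B : Set (Cfsg.IrrCharacter G), Cfsg.IsPBlock M B → (∃ χ ∈ B, ∃ θ ∈ b, Cfsg.classInner (fun n : ↥(Q ⊔ Subgroup.centralizer (Q : Set G)) => (χ : G → ℂ) n) (θ : ↥(Q ⊔ Subgroup.centralizer (Q : Set G)) → ℂ) ≠ 0) → Cfsg.IsInducedBlock M (Q ⊔ Subgroup.centralizer (Q : Set G)) b B := by
    intro B hB hcov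
    exact isInducedBlock_of_covering (Q ⊔ Subgroup.centralizer (Q : Set G)) hM Q hQ hCN B hB b hb hcov
  refine ⟨?_, key⟩
  obtain ⟨ξ, hξ⟩ : ∃ ξ, ξ ∈ b := by
    obtain ⟨ξ, rfl⟩ := hb
    exact ⟨ξ, sameBlock_refl hM _⟩
  obtain ⟨χ, hχ⟩ := exists_irr_over (Q ⊔ Subgroup.centralizer (Q : Set G)) ξ
  exact ⟨Cfsg.blockOf M (χ : G → ℂ), key _ ⟨χ, rfl⟩ ⟨χ, sameBlock_refl hM _, ξ, hξ, hχ⟩⟩

end Cfsg.Agent.S0971
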