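import Cfsg.Statements.S0974
import Cfsg.Agent.S0904
import Cfsg.Agent.Lib.Helper7.PrimeSylowNC

set_option autoImplicit false
open Cfsg
open Cfsg.Agent.Lib.Helper7

namespace Cfsg.Agent.S0974

/-- No finite simple group has order 3648 = 2^6 * 3 * 19. -/
theorem result {G : Type*} [Group G] [Finite G] [IsSimpleGroup G] : Nat.card G ≠ 3648 := by
  intro hG
  haveI : Fact (Nat.Prime 3) := ⟨Nat.prime_three⟩
  obtain ⟨S⟩ : Nonempty (Sylow 3 G) := inferInstance
  have hC := Cfsg.Agent.S0904.result 2 19 3 6 1 Nat.prime_two (by norm_num) (by norm_num)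
    (by norm_num) (by norm_num) (by rw [hG]; norm_num) S
  have hC' : Subgroup.centralizer ((S : Subgroup G) : Set G) = (S : Subgroup G) := hC
  have hS : Nat.card (S : Subgroup G) = 3 :=
    card_eq_prime_of_sylow S (by rw [hG]; norm_num) (by rw [hG]; norm_num)
  have hrel := relIndex_centralizer_normalizer_dvd_sub_one (S : Subgroup G) Nat.prime_three hS
  rw [hC'] at hrel
  -- `|N| = 3 * e`, `e ∣ 2`
  have hle : (S : Subgroup G) ≤ Subgroup.normalizer ((S : Subgroup G) : Set G) :=
    Subgroup.le_normalizer
  have hN : Nat.card (Subgroup.normalizer ((S : Subgroup G) : Set G))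
      = 3 * (S : Subgroup G).relIndex (Subgroup.normalizer ((S : Subgroup G) : Set G)) := by
    have h1 := Subgroup.card_mul_index
      ((S : Subgroup G).subgroupOf (Subgroup.normalizer ((S : Subgroup G) : Set G)))
    rw [Nat.card_congr (Subgroup.subgroupOfEquivOfLe hle).toEquiv, hS] at h1
    exact h1.symm
  have hn3 : Nat.card (Sylow 3 G) = (Subgroup.normalizer ((S : Subgroup G) : Set G)).index :=
    Sylow.card_eq_index_normalizer S
  have hmod : Nat.card (Sylow 3 G) ≡ 1 [MOD 3] := card_sylow_modEq_one 3 G
  have hidx := Subgroup.card_mul_index (Subgroup.normalizer ((S : Subgroup G) : Set G))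
  rw [hN, hG, ← hn3] at hidx
  set e := (S : Subgroup G).relIndex (Subgroup.normalizer ((S : Subgroup G) : Set G)) with he
  set n := Nat.card (Sylow 3 G) with hn
  have he2 : e = 1 ∨ e = 2 := by
    have : e ∣ 2 := hrel
    have h2 : e ≤ 2 := Nat.le_of_dvd (by norm_num) this
    interval_cases e
    · simp at this
    · left; rfl
    · right; rfl
  have he1 : e = 1 := by
    rcases he2 with h | h
    · exact h
    · exfalso
      rw [h] at hidx
      have : n = 608 := by omega
      rw [this] at hmod
      exact absurd hmod (by decide)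
  have hNle : Subgroup.normalizer ((S : Subgroup G) : Set G) ≤
      Subgroup.centralizer ((S : Subgroup G) : Set G) := by
    rw [hC']
    exact Subgroup.relIndex_eq_one.mp he1
  rcases sylow_eq_bot_or_top_of_normalizer_le_centralizer S hNle with h | h
  · rw [h, Subgroup.card_bot] at hS
    omega
  · rw [h, Subgroup.card_top, hG] at hS
    omega

end Cfsg.Agent.S0974
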