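import Cfsg.Statements.S0975
import Cfsg.Agent.S0904
import Cfsg.Agent.Lib.Helper7.PrimeSylowNC
import Cfsg.Agent.Lib.Helper11.ExcSimple

set_option autoImplicit false
open Cfsg
open Cfsg.Agent.Lib.Helper7
open Cfsg.Agent.Lib.Helper11

namespace Cfsg.Agent.S0975

/-- No finite simple group has order 3744 = 2^5 * 3^2 * 13. -/
theorem result {G : Type*} [Group G] [Finite G] [IsSimpleGroup G] : Nat.card G ≠ 3744 := by
  intro hG
  classical
  haveI : Fact (Nat.Prime 13) := ⟨by norm_num⟩
  obtain ⟨S⟩ : Nonempty (Sylow 13 G) := inferInstance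
  have hC := Cfsg.Agent.S0904.result 2 3 13 5 2 Nat.prime_two Nat.prime_three (by norm_num)
    (by norm_num) (by norm_num) (by rw [hG]; norm_num) S
  have hC' : Subgroup.centralizer ((S : Subgroup G) : Set G) = (S : Subgroup G) := hC
  have hS : Nat.card (S : Subgroup G) = 13 :=
    card_eq_prime_of_sylow S (by rw [hG]; norm_num) (by rw [hG]; norm_num)
  have hrel := relIndex_centralizer_normalizer_dvd_sub_one (S : Subgroup G) (by norm_num : Nat.Prime 13) hS
  rw [hC'] at hrel
  have hle : (S : Subgroup G) ≤ Subgroup.normalizer ((S : Subgroup G) : Set G) :=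
    Subgroup.le_normalizer
  have hN : Nat.card (Subgroup.normalizer ((S : Subgroup G) : Set G))
      = 13 * (S : Subgroup G).relIndex (Subgroup.normalizer ((S : Subgroup G) : Set G)) := by
    have h1 := Subgroup.card_mul_index
      ((S : Subgroup G).subgroupOf (Subgroup.normalizer ((S : Subgroup G) : Set G)))
    rw [Nat.card_congr (Subgroup.subgroupOfEquivOfLe hle).toEquiv, hS] at h1
    exact h1.symm
  have hn13 : Nat.card (Sylow 13 G) = (Subgroup.normalizer ((S : Subgroup G) : Set G)).index :=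
    Sylow.card_eq_index_normalizer S
  have hmod : Nat.card (Sylow 13 G) ≡ 1 [MOD 13] := card_sylow_modEq_one 13 G
  have hidx := Subgroup.card_mul_index (Subgroup.normalizer ((S : Subgroup G) : Set G))
  rw [hN, hG, ← hn13] at hidx
  set e := (S : Subgroup G).relIndex (Subgroup.normalizer ((S : Subgroup G) : Set G)) with he
  set n := Nat.card (Sylow 13 G) with hn
  have he2 : e = 2 := by
    have h12 : e ∣ 12 := hrel
    have hle12 : e ≤ 12 := Nat.le_of_dvd (by norm_num) h12
    have hmod' : n % 13 = 1 := hmod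
    interval_cases e <;> omega
  rw [he2] at hN
  obtain ⟨ε, x₀, T, m, d, hε, hx₀, hx₀dvd, hT, hnorm, hdeg⟩ :=
    exc_prime_simple 13 (by norm_num) (S : Subgroup G) hS hC' 2 6 hN (by rw [hG]; norm_num)
      (by norm_num) (by norm_num)
  obtain ⟨χ₁, rfl, hm1⟩ := exc_T_one T m (fun χ hχ => (hT χ hχ).1) (by push_cast at hnorm; omega)
  obtain ⟨-, hdvd13, hddvd, hd1⟩ := hT χ₁ (Finset.mem_singleton_self χ₁)
  rw [Finset.sum_singleton] at hdeg
  rw [hG] at hddvd hx₀dvd
  have hmem : d χ₁ ∈ Nat.divisors 3744 := Nat.mem_divisors.2 ⟨hddvd, by norm_num⟩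
  simp only [Nat.divisors_ofNat, Finset.mem_insert, Finset.mem_singleton] at hmem
  have hxmem : x₀ ∈ Nat.divisors 3744 := Nat.mem_divisors.2 ⟨hx₀dvd, by norm_num⟩
  simp only [Nat.divisors_ofNat, Finset.mem_insert, Finset.mem_singleton] at hxmem
  obtain ⟨k, hk⟩ := hdvd13
  rcases hε with rfl | rfl <;> rcases hm1 with h1 | h1 <;> rw [h1] at hdeg hk <;> omega

end Cfsg.Agent.S0975
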