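import Cfsg.Statements.S0978
import Cfsg.Agent.Lib.Helper10.Ord5040J

set_option autoImplicit false
open Cfsg

namespace Cfsg.Agent.S0978

/-- No finite simple group has order 5040 = 2^4 * 3^2 * 5 * 7. -/
theorem result {G : Type*} [Group G] [Finite G] [IsSimpleGroup G] : Nat.card G ≠ 5040 := by
  intro hG
  have hncomm : ¬ IsMulCommutative G := by
    intro h
    letI : CommGroup G := { ‹Group G› with mul_comm := h.is_comm.comm }
    have hprime : (Nat.card G).Prime := IsSimpleGroup.prime_card
    rw [hG] at hprime
    norm_num at hprime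
  exact Cfsg.Agent.Lib.Helper10.Ord5040.no_5040 hncomm hG

end Cfsg.Agent.S0978
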