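import Cfsg.Statements.S0979
import Cfsg.Agent.S0904
import Cfsg.Agent.Lib.Helper7.PrimeSylowNC
import Cfsg.Agent.Lib.Helper11.ExcSimple

set_option autoImplicit false
open Cfsg
open Cfsg.Agent.Lib.Helper7
open Cfsg.Agent.Lib.Helper11

namespace Cfsg.Agent.S0979

/-- No finite simple group has order 5472 = 2^5 * 3^2 * 19. -/
theorem result {G : Type*} [Group G] [Finite G] [IsSimpleGroup G] : Nat.card G ≠ 5472 := by
  intro hG
  classical
  haveI : Fact (Nat.Prime 19) := ⟨by norm_num⟩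
  obtain ⟨S⟩ : Nonempty (Sylow 19 G) := inferInstance
  have hC := Cfsg.Agent.S0904.result 2 3 19 5 2 Nat.prime_two Nat.prime_three (by norm_num)
    (by norm_num) (by norm_num) (by rw [hG]; norm_num) S
  have hC' : Subgroup.centralizer ((S : Subgroup G) : Set G) = (S : Subgroup G) := hC
  have hS : Nat.card (S : Subgroup G) = 19 :=
    card_eq_prime_of_sylow S (by rw [hG]; norm_num) (by rw [hG]; norm_num)
  have hrel := relIndex_centralizer_normalizer_dvd_sub_one (S : Subgroup G) (by norm_num : Nat.Prime 19) hS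
  rw [hC'] at hrel
  have hle : (S : Subgroup G) ≤ Subgroup.normalizer ((S : Subgroup G) : Set G) :=
    Subgroup.le_normalizer
  have hN : Nat.card (Subgroup.normalizer ((S : Subgroup G) : Set G))
      = 19 * (S : Subgroup G).relIndex (Subgroup.normalizer ((S : Subgroup G) : Set G)) := by
    have h1 := Subgroup.card_mul_index
      ((S : Subgroup G).subgroupOf (Subgroup.normalizer ((S : Subgroup G) : Set G)))
    rw [Nat.card_congr (Subgroup.subgroupOfEquivOfLe hle).toEquiv, hS] at h1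
    exact h1.symm
  have hn19 : Nat.card (Sylow 19 G) = (Subgroup.normalizer ((S : Subgroup G) : Set G)).index :=
    Sylow.card_eq_index_normalizer S
  have hmod : Nat.card (Sylow 19 G) ≡ 1 [MOD 19] := card_sylow_modEq_one 19 G
  have hidx := Subgroup.card_mul_index (Subgroup.normalizer ((S : Subgroup G) : Set G))
  rw [hN, hG, ← hn19] at hidx
  set e := (S : Subgroup G).relIndex (Subgroup.normalizer ((S : Subgroup G) : Set G)) with he
  set n := Nat.card (Sylow 19 G) with hn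
  have he2 : e = 3 := by
    have h12 : e ∣ 18 := hrel
    have hle12 : e ≤ 18 := Nat.le_of_dvd (by norm_num) h12
    have hmod' : n % 19 = 1 := hmod
    interval_cases e <;> omega
  rw [he2] at hN
  obtain ⟨ε, x₀, T, m, d, hε, hx₀, hx₀dvd, hT, hnorm, hdeg⟩ :=
    exc_prime_simple 19 (by norm_num) (S : Subgroup G) hS hC' 3 6 hN (by rw [hG]; norm_num)
      (by norm_num) (by norm_num)
  obtain ⟨χ₁, χ₂, h12, rfl, hm1, hm2⟩ :=
    exc_T_two T m (fun χ hχ => (hT χ hχ).1) (by push_cast at hnorm; omega)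
  obtain ⟨-, hdvd1, hddvd1, hd1⟩ := hT χ₁ (by simp)
  obtain ⟨-, hdvd2, hddvd2, hd2⟩ := hT χ₂ (by simp)
  rw [Finset.sum_pair h12] at hdeg
  rw [hG] at hddvd1 hddvd2 hx₀dvd
  obtain ⟨k1, hk1⟩ := hdvd1
  obtain ⟨k2, hk2⟩ := hdvd2
  have hc1 : (m χ₁ = 1 ∧ d χ₁ = 96) ∨ (m χ₁ = -1 ∧ d χ₁ = 18) := by
    have hmem1 : d χ₁ ∈ Nat.divisors 5472 := Nat.mem_divisors.2 ⟨hddvd1, by norm_num⟩
    simp only [Nat.divisors_ofNat, Finset.mem_insert, Finset.mem_singleton] at hmem1
    clear hdeg hk2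
    rcases hm1 with h1 | h1 <;> rw [h1] at hk1 <;> omega
  have hc2 : (m χ₂ = 1 ∧ d χ₂ = 96) ∨ (m χ₂ = -1 ∧ d χ₂ = 18) := by
    have hmem2 : d χ₂ ∈ Nat.divisors 5472 := Nat.mem_divisors.2 ⟨hddvd2, by norm_num⟩
    simp only [Nat.divisors_ofNat, Finset.mem_insert, Finset.mem_singleton] at hmem2
    clear hdeg hk1 hc1
    rcases hm2 with h1 | h1 <;> rw [h1] at hk2 <;> omega
  have hxmem : x₀ ∈ Nat.divisors 5472 := Nat.mem_divisors.2 ⟨hx₀dvd, by norm_num⟩
  simp only [Nat.divisors_ofNat, Finset.mem_insert, Finset.mem_singleton] at hxmem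
  clear hk1 hk2
  rcases hε with rfl | rfl <;> rcases hc1 with ⟨h1, h1'⟩ | ⟨h1, h1'⟩ <;>
    rcases hc2 with ⟨h2, h2'⟩ | ⟨h2, h2'⟩ <;> rw [h1, h1', h2, h2'] at hdeg <;> omega

end Cfsg.Agent.S0979
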