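import Cfsg.Statements.S0983
import Cfsg.Agent.H5.SmallOrdTAll
import Cfsg.Agent.S0975
import Cfsg.Agent.S0979
import Cfsg.Agent.Lib.Helper18.Ord3960
import Cfsg.Agent.Lib.Helper22.Ord4200
import Cfsg.Agent.Lib.Helper22.Ord4960
import Cfsg.Agent.Lib.Helper22.Ord5600
import Cfsg.Agent.Lib.Helper3.Ord4680
import Cfsg.Agent.Lib.Helper10.Ord5040J
import Cfsg.Agent.Lib.Helper18.Frob2
import Cfsg.Agent.Lib.Helper25.Ord5400
import Cfsg.Agent.Lib.Helper18.Ord5724
import Cfsg.Agent.Lib.Helper18.Ord5880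
import Cfsg.Agent.Lib.Helper21.Ord4320
import Cfsg.Agent.Lib.Helper21.Ord4032
import Cfsg.Agent.Lib.Helper22.Ord5760

set_option autoImplicit false
open Cfsg

namespace Cfsg.Agent.S0983

theorem result {G : Type*} [Group G] [Finite G] [IsSimpleGroup G] (hG : ¬ IsMulCommutative G) (h1 : 3640 < Nat.card G) (h2 : Nat.card G ≤ 6232) : Nat.card G = 4080 ∨ Nat.card G = 5616 ∨ Nat.card G = 6048 ∨ Nat.card G = 6072 := by
  have hmem := Cfsg.H5.SmallOrd.range_3641_6232 hG h1 h2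
  have k3744 : Nat.card G ≠ 3744 := Cfsg.Agent.S0975.result
  have k5472 : Nat.card G ≠ 5472 := Cfsg.Agent.S0979.result
  have k3960 := Cfsg.Agent.Lib.Helper18.Ord3960.no_3960 hG
  have k4200 := Cfsg.Agent.Lib.Helper22.Ord4200.no_4200 hG
  have k4960 := Cfsg.Agent.Lib.Helper22.Ord4960.no_4960 hG
  have k5600 := Cfsg.Agent.Lib.Helper22.Ord5600.no_5600 hG
  have k4680 := Cfsg.Agent.Lib.Helper3.Ord4680.no_4680 hG
  have k5040 := Cfsg.Agent.Lib.Helper10.Ord5040.no_5040 hG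
  have k5104 := Cfsg.Agent.Lib.Helper18.Frob2.no_5104 hG
  have k5400 := Cfsg.Agent.Lib.Helper25.Ord5400.no_5400 hG
  have k5724 := Cfsg.Agent.Lib.Helper18.Ord5724.no_5724 hG
  have k5880 := Cfsg.Agent.Lib.Helper18.Ord5880.no_5880 hG
  have k4320 := Cfsg.Agent.Lib.Helper21.Ord4320.no_4320 hG
  have k4032 := Cfsg.Agent.Lib.Helper21.Ord4032.no_4032 hG
  have k5760 := Cfsg.Agent.Lib.Helper22.Ord5760.no_5760 hG
  simp only [List.mem_cons, List.mem_nil_iff, or_false] at hmem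
  omega

end Cfsg.Agent.S0983
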