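import Mathlib
import Cfsg.Statements.S0986
import Cfsg.Agent.Lib.Helper13.PGroup
import Cfsg.Agent.Lib.Helper17.Basic

set_option autoImplicit false
open Cfsg

namespace Cfsg.Agent.S0986

open Cfsg.Agent.Lib.Helper13 Cfsg.Agent.Lib.Helper17

theorem h7_aux {G : Type*} [Group G] [Finite G] (p : ℕ) [Fact p.Prime] (P Q : Sylow p G) (hPQ : P ≠ Q)
    (D : Subgroup G) (hD : D = (P : Subgroup G) ⊓ (Q : Subgroup G))
    (hmax : ∀ P' Q' : Sylow p G, P' ≠ Q' →
      Nat.card ↥((P' : Subgroup G) ⊓ (Q' : Subgroup G)) ≤ Nat.card D) :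
    1 < Nat.card (Sylow p ↥(Subgroup.normalizer (D : Set G))) ∧
    (∀ S T : Sylow p ↥(Subgroup.normalizer (D : Set G)), S ≠ T →
      (S : Subgroup _) ⊓ (T : Subgroup _) = D.subgroupOf (Subgroup.normalizer (D : Set G))) ∧
    ∀ S : Sylow p ↥(Subgroup.normalizer (D : Set G)),
      ∃! T : Sylow p G,
        (S : Subgroup _).map (Subgroup.normalizer (D : Set G)).subtype ≤ (T : Subgroup G) := by
  have hK : ∀ T₁ T₂ : Sylow p G, T₁ ≠ T₂ → D ≤ T₁ → D ≤ T₂ → (T₁ : Subgroup G) ⊓ T₂ = D := by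
    intro T₁ T₂ hne h1 h2
    exact (Subgroup.eq_of_le_of_card_ge (le_inf h1 h2) (hmax T₁ T₂ hne)).symm
  have hDP : D ≤ P := hD ▸ inf_le_left
  have hDQ : D ≤ Q := hD ▸ inf_le_right
  have hcard : ∀ T₁ T₂ : Sylow p G, Nat.card T₁ = Nat.card T₂ := by
    intro T₁ T₂
    rw [Sylow.card_eq_multiplicity, Sylow.card_eq_multiplicity]
  have hDlt : ∀ T : Sylow p G, D ≤ T → D < (T : Subgroup G) := by
    intro T hT
    refine lt_of_le_of_ne hT ?_
    intro h
    have h1 : D = P := Subgroup.eq_of_le_of_card_ge hDP (by rw [h]; exact (hcard P T).le)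
    have h2 : D = Q := Subgroup.eq_of_le_of_card_ge hDQ (by rw [h]; exact (hcard Q T).le)
    exact hPQ (Sylow.ext (h1.symm.trans h2))
  set N : Subgroup G := Subgroup.normalizer (D : Set G) with hN
  have hDN : D ≤ N := Subgroup.le_normalizer
  -- D' is a normal p-subgroup of N
  have hD'n : (D.subgroupOf N).Normal := Subgroup.normal_in_normalizer
  have hDp : IsPGroup p D := P.2.to_le hDP
  have hD'p : IsPGroup p (D.subgroupOf N) := hDp.comap_subtype
  have hD'le : ∀ S : Sylow p N, D.subgroupOf N ≤ S := fun S =>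
    normal_pgroup_le_sylow hD'n hD'p S
  have hDleS : ∀ S : Sylow p N, D ≤ (S : Subgroup N).map N.subtype := by
    intro S x hx
    exact ⟨⟨x, hDN hx⟩, hD'le S (by rw [Subgroup.mem_subgroupOf]; exact hx), rfl⟩
  -- for a Sylow T of G containing D, T ⊓ N > D
  have hTN : ∀ T : Sylow p G, D ≤ T → D < (T : Subgroup G) ⊓ N := fun T hT =>
    lt_inf_normalizer_of_lt (T : Subgroup G) D T.2 (hDlt T hT)
  -- every Sylow of N maps into a Sylow of G
  have hex : ∀ S : Sylow p N, ∃ T : Sylow p G, (S : Subgroup N).map N.subtype ≤ T := by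
    intro S
    exact (S.2.map N.subtype).exists_le_sylow
  -- if a subgroup H with D < H ≤ N p-group then S.map ≠ D for each Sylow S of N
  have hSne : ∀ S : Sylow p N, (S : Subgroup N).map N.subtype ≠ D := by
    intro S h
    have hlt := hTN P hDP
    -- (P ⊓ N).subgroupOf N is a p-subgroup of N
    have hp' : IsPGroup p (((P : Subgroup G) ⊓ N).subgroupOf N) :=
      (P.2.to_le inf_le_left).comap_subtype
    obtain ⟨S', hS'⟩ := hp'.exists_le_sylow
    have hc : Nat.card (S : Subgroup N) = Nat.card (S' : Subgroup N) := by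
      rw [Sylow.card_eq_multiplicity, Sylow.card_eq_multiplicity]
    have h1 : Nat.card (((P : Subgroup G) ⊓ N).subgroupOf N) ≤ Nat.card (S' : Subgroup N) :=
      Subgroup.card_le_of_le hS'
    have h2 : Nat.card (((P : Subgroup G) ⊓ N).subgroupOf N) = Nat.card ((P : Subgroup G) ⊓ N : Subgroup G) :=
      Nat.card_congr (Subgroup.subgroupOfEquivOfLe inf_le_right).toEquiv
    have h3 : Nat.card ((S : Subgroup N).map N.subtype) = Nat.card (S : Subgroup N) :=
      Subgroup.card_map_of_injective N.subtype_injective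
    have h4 := card_lt_card_of_lt hlt
    rw [h] at h3
    omega
  have huniq : ∀ S : Sylow p N, ∀ T₁ T₂ : Sylow p G, (S : Subgroup N).map N.subtype ≤ T₁ →
      (S : Subgroup N).map N.subtype ≤ T₂ → T₁ = T₂ := by
    intro S T₁ T₂ h1 h2
    by_contra hne
    have := hK T₁ T₂ hne ((hDleS S).trans h1) ((hDleS S).trans h2)
    exact hSne S (le_antisymm (this ▸ le_inf h1 h2) (hDleS S))
  -- a Sylow S of N with S.map ≤ U equals (U ⊓ N).subgroupOf N
  have hSeq : ∀ S : Sylow p N, ∀ U : Sylow p G, (S : Subgroup N).map N.subtype ≤ U →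
      (S : Subgroup N) = ((U : Subgroup G) ⊓ N).subgroupOf N := by
    intro S U hSU
    have hp' : IsPGroup p (((U : Subgroup G) ⊓ N).subgroupOf N) :=
      (U.2.to_le inf_le_left).comap_subtype
    refine (S.is_maximal' hp' ?_).symm
    intro x hx
    rw [Subgroup.mem_subgroupOf]
    exact ⟨hSU ⟨x, hx, rfl⟩, x.2⟩
  refine ⟨?_, ?_, ?_⟩
  · rw [Finite.one_lt_card_iff_nontrivial]
    have hpP : IsPGroup p (((P : Subgroup G) ⊓ N).subgroupOf N) :=
      (P.2.to_le inf_le_left).comap_subtype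
    have hpQ : IsPGroup p (((Q : Subgroup G) ⊓ N).subgroupOf N) :=
      (Q.2.to_le inf_le_left).comap_subtype
    obtain ⟨S₁, hS₁⟩ := hpP.exists_le_sylow
    obtain ⟨S₂, hS₂⟩ := hpQ.exists_le_sylow
    refine ⟨S₁, S₂, ?_⟩
    intro heq
    obtain ⟨T, hT⟩ := hex S₁
    have hPT : (P : Subgroup G) ⊓ N ≤ T := by
      intro x hx
      exact hT ⟨⟨x, hx.2⟩, hS₁ (by rw [Subgroup.mem_subgroupOf]; exact hx), rfl⟩
    have hQT : (Q : Subgroup G) ⊓ N ≤ T := by
      intro x hx
      exact hT ⟨⟨x, hx.2⟩, heq ▸ hS₂ (by rw [Subgroup.mem_subgroupOf]; exact hx), rfl⟩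
    have hDT : D ≤ T := (hTN P hDP).le.trans hPT
    have hTP : T = P := by
      by_contra hne
      have := hK T P hne hDT hDP
      have h2 : (P : Subgroup G) ⊓ N ≤ D := this ▸ le_inf hPT inf_le_left
      exact absurd (lt_of_lt_of_le (hTN P hDP) h2) (lt_irrefl _)
    have hTQ : T = Q := by
      by_contra hne
      have := hK T Q hne hDT hDQ
      have h2 : (Q : Subgroup G) ⊓ N ≤ D := this ▸ le_inf hQT inf_le_left
      exact absurd (lt_of_lt_of_le (hTN Q hDQ) h2) (lt_irrefl _)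
    exact hPQ (hTP.symm.trans hTQ)
  · intro S T hST
    obtain ⟨T₁, hT₁⟩ := hex S
    obtain ⟨T₂, hT₂⟩ := hex T
    have hne : T₁ ≠ T₂ := by
      intro h
      apply hST
      apply Sylow.ext
      rw [hSeq S T₁ hT₁, hSeq T T₂ hT₂, h]
    have hk := hK T₁ T₂ hne ((hDleS S).trans hT₁) ((hDleS T).trans hT₂)
    apply le_antisymm
    · intro x hx
      rw [Subgroup.mem_subgroupOf, ← hk]
      exact ⟨hT₁ ⟨x, hx.1, rfl⟩, hT₂ ⟨x, hx.2, rfl⟩⟩
    · exact le_inf (hD'le S) (hD'le T)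
  · intro S
    obtain ⟨T, hT⟩ := hex S
    exact ⟨T, hT, fun T' hT' => huniq S T' T hT' hT⟩

/-- Let P and Q be distinct Sylow p-subgroups of a finite group G chosen so that the order of P ∩ Q is as large as possible among intersections of two distinct Sylow p-subgroups, and let N be the normalizer of P ∩ Q. Then N has more than one Sylow p-subgroup, any two distinct Sylow p-subgroups of N intersect exactly in P ∩ Q, and each Sylow p-subgroup of N lies in exactly one Sylow p-subgroup of G. -/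
theorem result {G : Type*} [Group G] [Finite G] (p : ℕ) [Fact p.Prime] (P Q : Sylow p G) (hPQ : P ≠ Q) (hmax : ∀ P' Q' : Sylow p G, P' ≠ Q' → Nat.card ↥((P' : Subgroup G) ⊓ (Q' : Subgroup G)) ≤ Nat.card ↥((P : Subgroup G) ⊓ (Q : Subgroup G))) : 1 < Nat.card (Sylow p ↥(Subgroup.normalizer (((P : Subgroup G) ⊓ (Q : Subgroup G) : Subgroup G) : Set G))) ∧ (∀ S T : Sylow p ↥(Subgroup.normalizer (((P : Subgroup G) ⊓ (Q : Subgroup G) : Subgroup G) : Set G)), S ≠ T → (S : Subgroup _) ⊓ (T : Subgroup _) = ((P : Subgroup G) ⊓ (Q : Subgroup G)).subgroupOf (Subgroup.normalizer (((P : Subgroup G) ⊓ (Q : Subgroup G) : Subgroup G) : Set G))) ∧ ∀ S : Sylow p ↥(Subgroup.normalizer (((P : Subgroup G) ⊓ (Q : Subgroup G) : Subgroup G) : Set G)), ∃! T : Sylow p G, (S : Subgroup _).map (Subgroup.normalizer (((P : Subgroup G) ⊓ (Q : Subgroup G) : Subgroup G) : Set G)).subtype ≤ (T : Subgroup G) := by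
  exact h7_aux p P Q hPQ _ rfl hmax

end Cfsg.Agent.S0986
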