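import Mathlib
import Cfsg.Statements.S0987
import Cfsg.Agent.Lib.Helper7.SylowBasic

set_option autoImplicit false
open Cfsg

namespace Cfsg.Agent.S0987

open Cfsg.Agent.Lib.Helper7

theorem dvd_mul_primes {p q n : ℕ} (hp : p.Prime) (hq : q.Prime) (h : n ∣ p * q) :
    n = 1 ∨ n = p ∨ n = q ∨ n = p * q := by
  obtain ⟨a, b, ha, hb, rfl⟩ := (Nat.dvd_mul).mp h
  rcases (Nat.dvd_prime hp).mp ha with rfl | rfl <;> rcases (Nat.dvd_prime hq).mp hb with rfl | rfl <;> simp

theorem fact_mq (m q : ℕ) (hm : m ≠ 0) (hq : q.Prime) (hmq : ¬ q ∣ m) :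
    (m * q).factorization q = 1 := by
  rw [Nat.factorization_mul hm hq.ne_zero, Finsupp.add_apply, hq.factorization_self,
    Nat.factorization_eq_zero_of_not_dvd hmq]

theorem not_modEq_one {a r : ℕ} (h1 : 1 < a) (h2 : a < r) : ¬ a ≡ 1 [MOD r] := by
  unfold Nat.ModEq
  rw [Nat.mod_eq_of_lt h2, Nat.mod_eq_of_lt (h1.trans h2)]
  omega

/-- If a finite group has order pqr for primes p < q < r, then its Sylow r-subgroups are normal. -/
theorem result {G : Type*} [Group G] [Finite G] (p q r : ℕ) (hp : p.Prime) (hq : q.Prime) [Fact r.Prime] (hpq : p < q) (hqr : q < r) (hG : Nat.card G = p * q * r) (R : Sylow r G) : (R : Subgroup G).Normal := by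
  have hr : r.Prime := Fact.out
  have : Fact q.Prime := ⟨hq⟩
  have hpr : p < r := hpq.trans hqr
  have hrp : ¬ r ∣ p := fun h => by
    have := (Nat.prime_dvd_prime_iff_eq hr hp).mp h; omega
  have hrq : ¬ r ∣ q := fun h => by
    have := (Nat.prime_dvd_prime_iff_eq hr hq).mp h; omega
  have hqp : ¬ q ∣ p := fun h => by
    have := (Nat.prime_dvd_prime_iff_eq hq hp).mp h; omega
  have hrpq : ¬ r ∣ p * q := fun h => by
    rcases (Nat.Prime.dvd_mul hr).mp h with h | h
    · exact hrp h
    · exact hrq h
  -- card R = r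
  have hRcard : Nat.card (R : Subgroup G) = r := by
    rw [Sylow.card_eq_multiplicity, hG, fact_mq (p * q) r (Nat.mul_ne_zero hp.ne_zero hq.ne_zero) hr hrpq, pow_one]
  have hRidx : (R : Subgroup G).index = p * q := by
    have := (R : Subgroup G).card_mul_index
    rw [hRcard, hG, mul_comm] at this
    exact Nat.eq_of_mul_eq_mul_right hr.pos this
  -- number of Sylow r-subgroups
  have hn : Nat.card (Sylow r G) = 1 ∨ Nat.card (Sylow r G) = p * q := by
    have h1 := Sylow.card_dvd_index R
    rw [hRidx] at h1
    have h2 := card_sylow_modEq_one r G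
    rcases dvd_mul_primes hp hq h1 with h | h | h | h
    · exact Or.inl h
    · rw [h] at h2; exact absurd h2 (not_modEq_one hp.one_lt hpr)
    · rw [h] at h2; exact absurd h2 (not_modEq_one hq.one_lt hqr)
    · exact Or.inr h
  rcases hn with hn | hn
  · exact sylow_normal_of_card_eq_one R hn
  exfalso
  -- normalizer of R equals R
  have hNidx : (Subgroup.normalizer ((R : Subgroup G) : Set G)).index = p * q := by
    exact (Sylow.card_eq_index_normalizer R).symm.trans hn
  have hNcard : Nat.card (Subgroup.normalizer ((R : Subgroup G) : Set G)) = r := by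
    have := (Subgroup.normalizer ((R : Subgroup G) : Set G)).card_mul_index
    rw [hNidx, hG, mul_comm] at this
    exact Nat.eq_of_mul_eq_mul_left (Nat.mul_pos hp.pos hq.pos) this
  have hNR : Subgroup.normalizer ((R : Subgroup G) : Set G) = R := by
    symm
    apply Subgroup.eq_of_le_of_card_ge Subgroup.le_normalizer
    rw [hNcard, hRcard]
  -- R is commutative
  have hRcyc : IsCyclic (R : Subgroup G) := isCyclic_of_prime_card hRcard
  have hRcomm : (R : Subgroup G) ≤ Subgroup.centralizer ((R : Subgroup G) : Set G) := by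
    rw [Subgroup.le_centralizer_iff_isMulCommutative]
    exact ⟨⟨fun a b => (IsCyclic.commGroup (α := (R : Subgroup G))).mul_comm a b⟩⟩
  have hP : Subgroup.normalizer ((R : Subgroup G) : Set G) ≤ Subgroup.centralizer ((R : Subgroup G) : Set G) := by
    rw [hNR]; exact hRcomm
  -- the normal complement
  have hK := MonoidHom.ker_transferSylow_isComplement' R hP
  set K := (MonoidHom.transferSylow R hP).ker with hKdef
  have hKnormal : K.Normal := MonoidHom.normal_ker _
  have hKcard : Nat.card K = p * q := by
    have := hK.card_mul_card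
    rw [hRcard, hG] at this
    exact Nat.eq_of_mul_eq_mul_right hr.pos this
  -- Sylow q-subgroup of K
  obtain ⟨Q⟩ := (Sylow.nonempty : Nonempty (Sylow q K))
  have hQcard : Nat.card (Q : Subgroup K) = q := by
    rw [Sylow.card_eq_multiplicity, hKcard, fact_mq p q hp.ne_zero hq hqp, pow_one]
  have hQidx : (Q : Subgroup K).index = p := by
    have := (Q : Subgroup K).card_mul_index
    rw [hQcard, hKcard, mul_comm] at this
    exact Nat.eq_of_mul_eq_mul_right hq.pos this
  have hQnormal : (Q : Subgroup K).Normal := sylow_normal_of_index_le Q (by rw [hQidx]; exact hpq.le)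
  have hQchar : (Q : Subgroup K).Characteristic := Sylow.characteristic_of_normal Q hQnormal
  set Q' : Subgroup G := (Q : Subgroup K).map K.subtype with hQ'def
  have hQ'normal : Q'.Normal := ConjAct.normal_of_characteristic_of_normal
  have hQ'card : Nat.card Q' = q := by
    rw [hQ'def, Subgroup.card_map_of_injective K.subtype_injective, hQcard]
  -- L = R ⊔ Q'
  set L : Subgroup G := (R : Subgroup G) ⊔ Q' with hLdef
  have hRL : (R : Subgroup G) ≤ L := le_sup_left
  have hQL : Q' ≤ L := le_sup_right
  have hrel : Q'.relIndex L ∣ r := by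
    rw [hLdef, Subgroup.relIndex_sup_right]
    have := Subgroup.relIndex_dvd_card Q' (R : Subgroup G)
    rwa [hRcard] at this
  have hLcard : Nat.card L = q * Q'.relIndex L := by
    rw [← hQ'card]
    exact (card_mul_relIndex hQL).symm
  have hRrel : (R : Subgroup G).relIndex L ≤ q := by
    have h1 : Nat.card (R : Subgroup G) * (R : Subgroup G).relIndex L = Nat.card L := card_mul_relIndex hRL
    rw [hRcard, hLcard] at h1
    have h2 : Q'.relIndex L ≤ r := Nat.le_of_dvd hr.pos hrel
    have h3 : r * (R : Subgroup G).relIndex L ≤ r * q := by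
      rw [h1, mul_comm r q]
      exact Nat.mul_le_mul_left q h2
    exact Nat.le_of_mul_le_mul_left h3 hr.pos
  -- R is normal in L
  let R' : Sylow r L := R.subtype hRL
  have hR'idx : (R' : Subgroup L).index ≤ r := by
    have : (R' : Subgroup L) = (R : Subgroup G).subgroupOf L := Sylow.coe_subtype R hRL
    rw [this]
    exact hRrel.trans hqr.le
  have hR'normal : (R' : Subgroup L).Normal := sylow_normal_of_index_le R' hR'idx
  have hLN : L ≤ Subgroup.normalizer ((R : Subgroup G) : Set G) := by
    have : (R' : Subgroup L) = (R : Subgroup G).subgroupOf L := Sylow.coe_subtype R hRL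
    rw [this] at hR'normal
    exact (Subgroup.normal_subgroupOf_iff_le_normalizer hRL).mp hR'normal
  have hQR : Q' ≤ (R : Subgroup G) := by
    rw [← hNR]; exact hQL.trans hLN
  have := Subgroup.card_dvd_of_le hQR
  rw [hQ'card, hRcard] at this
  have := (Nat.prime_dvd_prime_iff_eq hq hr).mp this
  omega

end Cfsg.Agent.S0987
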