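-- Statement S0988.
import Mathlib
import Cfsg.Statements.S0988
import Cfsg.Agent.S0144
import Cfsg.Agent.Lib.Helper7.SylowBasic

set_option autoImplicit false
open Cfsg

namespace Cfsg.Agent.S0988

open Cfsg.Agent.Lib.Helper7

theorem not_solvable_of_not_prime {G : Type*} [Group G] [Finite G] [IsSimpleGroup G]
    (h : ¬ (Nat.card G).Prime) : ¬ IsSolvable G := by
  intro hs
  have hcomm : ∀ a b : G, a * b = b * a := IsSimpleGroup.comm_iff_isSolvable.mpr hs
  letI : CommGroup G := { ‹Group G› with mul_comm := hcomm }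
  exact h IsSimpleGroup.prime_card

theorem lt_prod (p q r : ℕ) (hp : 2 ≤ p) (hq : 2 ≤ q) (hr : 2 ≤ r) :
    p < p ^ 2 * q * r ∧ q < p ^ 2 * q * r ∧ r < p ^ 2 * q * r := by
  have h1 : 2 * 2 ≤ p * q := Nat.mul_le_mul hp hq
  have h2 : 2 * 2 ≤ p * r := Nat.mul_le_mul hp hr
  have h3 : 2 * 2 ≤ p * p := Nat.mul_le_mul hp hp
  have h4 : 2 * 2 ≤ q * r := Nat.mul_le_mul hq hr
  have h5 : 2 * 2 * 2 ≤ p * q * r := Nat.mul_le_mul h1 hr
  have h6 : 2 * 2 * 2 ≤ p * p * r := Nat.mul_le_mul h3 hr
  have h7 : 2 * 2 * 2 ≤ p * p * q := Nat.mul_le_mul h3 hq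
  refine ⟨?_, ?_, ?_⟩
  · have e : p ^ 2 * q * r = p * (p * q * r) := by ring
    rw [e]
    calc p = p * 1 := (mul_one p).symm
      _ < p * (p * q * r) := Nat.mul_lt_mul_of_pos_left (by omega) (by omega)
  · have e : p ^ 2 * q * r = q * (p * p * r) := by ring
    rw [e]
    calc q = q * 1 := (mul_one q).symm
      _ < q * (p * p * r) := Nat.mul_lt_mul_of_pos_left (by omega) (by omega)
  · have e : p ^ 2 * q * r = r * (p * p * q) := by ring
    rw [e]
    calc r = r * 1 := (mul_one r).symm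
      _ < r * (p * p * q) := Nat.mul_lt_mul_of_pos_left (by omega) (by omega)

theorem not_prime_card (p q r : ℕ) (hp : p.Prime) (hq : q.Prime) (hr : r.Prime) :
    ¬ (p ^ 2 * q * r).Prime := by
  intro h
  have hp2 := hp.two_le
  have hq2 := hq.two_le
  have hr2 := hr.two_le
  have hlt := (lt_prod p q r hp2 hq2 hr2).1
  have hd : p ∣ p ^ 2 * q * r := ⟨p * q * r, by ring⟩
  rcases h.eq_one_or_self_of_dvd p hd with h1 | h1
  · omega
  · omega

theorem num_lemma (p t : ℕ) (hp : p.Prime) (ht : t.Prime) (hpt : p < t)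
    (h : p ^ 2 ≡ 1 [MOD t] ∨ p ^ 2 ≡ p [MOD t]) : p = 2 ∧ t = 3 := by
  have hp2 := hp.two_le
  obtain ⟨k, rfl⟩ : ∃ k, p = k + 1 := ⟨p - 1, by omega⟩
  have key : t ∣ k + 2 := by
    rcases h with h | h
    · have h1 : t ∣ (k + 1) ^ 2 - 1 :=
        (Nat.modEq_iff_dvd' (Nat.one_le_pow 2 (k + 1) (Nat.succ_pos k))).mp h.symm
      have h2 : (k + 1) ^ 2 - 1 = k * (k + 2) := by
        have : (k + 1) ^ 2 = k * (k + 2) + 1 := by ring
        omega
      rw [h2] at h1
      rcases (Nat.Prime.dvd_mul ht).mp h1 with h3 | h3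
      · exfalso
        have := Nat.le_of_dvd (by omega) h3
        omega
      · exact h3
    · have h1 : t ∣ (k + 1) ^ 2 - (k + 1) :=
        (Nat.modEq_iff_dvd' (Nat.le_self_pow (by norm_num) (k + 1))).mp h.symm
      have h2 : (k + 1) ^ 2 - (k + 1) = k * (k + 1) := by
        have : (k + 1) ^ 2 = k * (k + 1) + (k + 1) := by ring
        omega
      rw [h2] at h1
      exfalso
      rcases (Nat.Prime.dvd_mul ht).mp h1 with h3 | h3
      · have := Nat.le_of_dvd (by omega) h3
        omega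
      · have := Nat.le_of_dvd (by omega) h3
        omega
  have hle := Nat.le_of_dvd (by omega) key
  have htk : t = k + 2 := by omega
  rcases Nat.Prime.eq_two_or_odd hp with h2 | hodd
  · constructor <;> omega
  · exfalso
    have h2t : 2 ∣ t := by rw [htk]; omega
    have := (Nat.prime_dvd_prime_iff_eq Nat.prime_two ht).mp h2t
    omega

theorem num_twelve (r idx n : ℕ) (hr : r.Prime) (hr5 : 5 ≤ r) (h12 : idx * n = 12)
    (hmod : n ≡ 1 [MOD r]) (hn1 : n ≠ 1) : (r = 5) ∨ (r = 11 ∧ idx = 1) := by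
  have hnpos : 0 < n := by
    rcases Nat.eq_zero_or_pos n with h | h
    · rw [h] at h12; omega
    · exact h
  have hdvd : r ∣ n - 1 := (Nat.modEq_iff_dvd' (by omega)).mp hmod.symm
  have hle : r ≤ n - 1 := Nat.le_of_dvd (by omega) hdvd
  have hn12 : n ≤ 12 := Nat.le_of_dvd (by norm_num) ⟨idx, by rw [← h12]; ring⟩
  have h6 : 6 ≤ n := by omega
  interval_cases n
  all_goals first
    | omega
    | (right
       have hdvd' : r ∣ 11 := hdvd
       exact ⟨(Nat.prime_dvd_prime_iff_eq hr (by norm_num)).mp hdvd', by omega⟩)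

theorem not_dvd_twelve (r : ℕ) (hr : r.Prime) (hr5 : 5 ≤ r) : ¬ r ∣ 12 := by
  intro h
  have h' : r ∣ 4 * 3 := h
  rcases (Nat.Prime.dvd_mul hr).mp h' with h1 | h1
  · have h'' : r ∣ 2 * 2 := h1
    rcases (Nat.Prime.dvd_mul hr).mp h'' with h2 | h2 <;>
    · have := Nat.le_of_dvd (by norm_num) h2
      omega
  · have := Nat.le_of_dvd (by norm_num) h1
    omega

/-- Lemma A: the repeated prime is the smallest one. -/
theorem smallest_prime {G : Type*} [Group G] [Finite G] [IsSimpleGroup G] (p q r : ℕ)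
    (hp : p.Prime) (hq : q.Prime) (hr : r.Prime) (hpq : p ≠ q) (hqr : q < r) (hpr : p ≠ r)
    (hG : Nat.card G = p ^ 2 * q * r) : p < q := by
  by_contra hlt
  have hqp : q < p := by omega
  have hp2 := hp.two_le
  have hq2 := hq.two_le
  have hr2 := hr.two_le
  haveI : Fact q.Prime := ⟨hq⟩
  obtain ⟨Q⟩ : Nonempty (Sylow q G) := inferInstance
  have hqndvd : ¬ q ∣ p ^ 2 * r := by
    intro h
    rcases (Nat.Prime.dvd_mul hq).mp h with h | h
    · have := (Nat.prime_dvd_prime_iff_eq hq hp).mp (hq.dvd_of_dvd_pow h)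
      omega
    · have := (Nat.prime_dvd_prime_iff_eq hq hr).mp h
      omega
  have hQ : Nat.card (Q : Subgroup G) = q := by
    have := card_sylow_subgroup_eq Q 1 (p ^ 2 * r) (by rw [hG]; ring) hqndvd
    simpa using this
  have hGq : Nat.card G ≠ q := by
    rw [hG]
    have := (lt_prod p q r hp2 hq2 hr2).2.1
    omega
  have hnc := not_coprime_of_simple_of_card_sylow_eq_prime Q hQ hGq
  obtain ⟨t, ht, ht1, ht2⟩ := Nat.Prime.not_coprime_iff_dvd.mp hnc
  have hprod := card_mul_relIndex_normalizer_mul_card_sylow Q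
  have hidx : (Q : Subgroup G).relIndex (Subgroup.normalizer ((Q : Subgroup G) : Set G)) ∣
      Nat.card G :=
    ⟨Nat.card (Q : Subgroup G) * Nat.card (Sylow q G), by rw [← hprod]; ring⟩
  have htG : t ∣ p ^ 2 * q * r := by
    rw [← hG]
    exact ht1.trans hidx
  have htle : t ≤ q - 1 := Nat.le_of_dvd (by omega) ht2
  have htge : q ≤ t := by
    rcases (Nat.Prime.dvd_mul ht).mp htG with h | h
    · rcases (Nat.Prime.dvd_mul ht).mp h with h | h
      · have := (Nat.prime_dvd_prime_iff_eq ht hp).mp (ht.dvd_of_dvd_pow h)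
        omega
      · have := (Nat.prime_dvd_prime_iff_eq ht hq).mp h
        omega
    · have := (Nat.prime_dvd_prime_iff_eq ht hr).mp h
      omega
  omega

/-- Lemma B: `p = 2` and `q = 3`. -/
theorem p_two_q_three {G : Type*} [Group G] [Finite G] [IsSimpleGroup G] (p q r : ℕ)
    (hp : p.Prime) (hq : q.Prime) (hr : r.Prime) (hpq : p < q) (hqr : q < r)
    (hG : Nat.card G = p ^ 2 * q * r) : p = 2 ∧ q = 3 := by
  have hp2 := hp.two_le
  have hq2 := hq.two_le
  have hr2 := hr.two_le
  haveI : Fact p.Prime := ⟨hp⟩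
  obtain ⟨P⟩ : Nonempty (Sylow p G) := inferInstance
  have hpndvd : ¬ p ∣ q * r := by
    intro h
    rcases (Nat.Prime.dvd_mul hp).mp h with h | h
    · have := (Nat.prime_dvd_prime_iff_eq hp hq).mp h
      omega
    · have := (Nat.prime_dvd_prime_iff_eq hp hr).mp h
      omega
  have hP : Nat.card (P : Subgroup G) = p ^ 2 :=
    card_sylow_subgroup_eq P 2 (q * r) (by rw [hG]; ring) hpndvd
  have hPcomm : ∀ a b : (P : Subgroup G), a * b = b * a :=
    IsPGroup.commutative_of_card_eq_prime_sq hP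
  have hPC : (P : Subgroup G) ≤ Subgroup.centralizer ((P : Subgroup G) : Set G) := by
    rw [Subgroup.le_centralizer_iff_isMulCommutative]
    exact ⟨⟨hPcomm⟩⟩
  have hNC : ¬ Subgroup.normalizer ((P : Subgroup G) : Set G) ≤
      Subgroup.centralizer ((P : Subgroup G) : Set G) := by
    intro h
    have hdvd : p ∣ Nat.card G := by
      rw [hG]
      exact ⟨p * q * r, by ring⟩
    have h1 := card_eq_prime_of_simple_of_normalizer_le_centralizer P hdvd h
    have h2 := (lt_prod p q r hp2 hq2 hr2).1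
    omega
  have hidx1 : (Subgroup.centralizer ((P : Subgroup G) : Set G)).relIndex
      (Subgroup.normalizer ((P : Subgroup G) : Set G)) ≠ 1 := by
    rw [Ne, Subgroup.relIndex_eq_one]
    exact hNC
  have hidx_aut := relIndex_centralizer_normalizer_dvd (P : Subgroup G)
  have hidx_dvd : (Subgroup.centralizer ((P : Subgroup G) : Set G)).relIndex
      (Subgroup.normalizer ((P : Subgroup G) : Set G)) ∣
      (P : Subgroup G).relIndex (Subgroup.normalizer ((P : Subgroup G) : Set G)) :=
    Subgroup.relIndex_dvd_of_le_left _ hPC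
  have hprod := card_mul_relIndex_normalizer_mul_card_sylow P
  have hNP : (P : Subgroup G).relIndex (Subgroup.normalizer ((P : Subgroup G) : Set G)) ∣
      q * r := by
    rw [hP, hG] at hprod
    have h1 : p ^ 2 * ((P : Subgroup G).relIndex
        (Subgroup.normalizer ((P : Subgroup G) : Set G)) * Nat.card (Sylow p G)) =
        p ^ 2 * (q * r) := by
      rw [← mul_assoc, hprod]; ring
    have h2 := Nat.eq_of_mul_eq_mul_left (pow_pos hp.pos 2) h1
    exact ⟨_, h2.symm⟩
  obtain ⟨t, ht, htdvd⟩ := Nat.exists_prime_and_dvd hidx1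
  have htqr : t ∣ q * r := (htdvd.trans hidx_dvd).trans hNP
  have htcases : t = q ∨ t = r := by
    rcases (Nat.Prime.dvd_mul ht).mp htqr with h | h
    · left; exact (Nat.prime_dvd_prime_iff_eq ht hq).mp h
    · right; exact (Nat.prime_dvd_prime_iff_eq ht hr).mp h
  have hpt : p < t := by
    rcases htcases with h | h <;> omega
  haveI : Fact t.Prime := ⟨ht⟩
  obtain ⟨β, hβ⟩ := exists_prime_orderOf_dvd_card' t (htdvd.trans hidx_aut)
  -- the fixed-point subgroup of β
  let F : Subgroup (P : Subgroup G) :=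
    { carrier := {x | β x = x}
      one_mem' := map_one β
      mul_mem' := by
        intro a b ha hb
        simp only [Set.mem_setOf_eq] at ha hb ⊢
        rw [map_mul, ha, hb]
      inv_mem' := by
        intro a ha
        simp only [Set.mem_setOf_eq] at ha ⊢
        rw [map_inv, ha] }
  have hFmem : ∀ x : (P : Subgroup G), x ∈ F ↔ β x = x := fun x => Iff.rfl
  have hZ : IsPGroup t (Subgroup.zpowers β) :=
    IsPGroup.of_card (n := 1) (by rw [Nat.card_zpowers, hβ, pow_one])
  have hmod := hZ.card_modEq_card_fixedPoints (P : Subgroup G)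
  have hiff : ∀ x : (P : Subgroup G),
      x ∈ MulAction.fixedPoints (Subgroup.zpowers β) (P : Subgroup G) ↔ x ∈ F := by
    intro x
    constructor
    · intro h
      exact h ⟨β, Subgroup.mem_zpowers β⟩
    · intro hx g
      have hle : Subgroup.zpowers β ≤ MulAction.stabilizer (MulAut (P : Subgroup G)) x := by
        rw [Subgroup.zpowers_le, MulAction.mem_stabilizer_iff]
        exact hx
      exact MulAction.mem_stabilizer_iff.mp (hle g.2)
  have hcardF : Nat.card (MulAction.fixedPoints (Subgroup.zpowers β) (P : Subgroup G)) =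
      Nat.card F := Nat.card_congr (Equiv.subtypeEquivRight hiff)
  rw [hcardF, hP] at hmod
  have hFdvd : Nat.card F ∣ p ^ 2 := by
    rw [← hP]
    exact Subgroup.card_subgroup_dvd_card F
  obtain ⟨m, hm, hFm⟩ := (Nat.dvd_prime_pow hp).mp hFdvd
  have hm2 : m ≠ 2 := by
    rintro rfl
    have hFtop : F = ⊤ := Subgroup.eq_top_of_card_eq F (by rw [hFm, hP])
    have hβ1 : β = 1 := by
      ext x
      have hx : x ∈ F := by rw [hFtop]; trivial
      have := (hFmem x).mp hx
      simp [this]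
    rw [hβ1, orderOf_one] at hβ
    exact ht.one_lt.ne hβ
  have hnum : p ^ 2 ≡ 1 [MOD t] ∨ p ^ 2 ≡ p [MOD t] := by
    have hm' : m = 0 ∨ m = 1 := by omega
    rcases hm' with rfl | rfl
    · left; rw [hFm, pow_zero] at hmod; exact hmod
    · right; rw [hFm, pow_one] at hmod; exact hmod
  obtain ⟨h2, h3⟩ := num_lemma p t hp ht hpt hnum
  refine ⟨h2, ?_⟩
  rcases htcases with h | h
  · omega
  · omega

/-- Lemma C: order `12 r`. -/
theorem twelve_r {G : Type*} [Group G] [Finite G] [IsSimpleGroup G] (r : ℕ) (hr : r.Prime)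
    (hr5 : 5 ≤ r) (hG : Nat.card G = 12 * r) : Nat.card G = 60 := by
  haveI : Fact r.Prime := ⟨hr⟩
  obtain ⟨R⟩ : Nonempty (Sylow r G) := inferInstance
  have hrndvd : ¬ r ∣ 12 := not_dvd_twelve r hr hr5
  have hR : Nat.card (R : Subgroup G) = r := by
    have := card_sylow_subgroup_eq R 1 12 (by rw [hG]; ring) hrndvd
    simpa using this
  have hprod := card_mul_relIndex_normalizer_mul_card_sylow R
  have hGr : Nat.card G ≠ r := by rw [hG]; omega
  have hnc := not_coprime_of_simple_of_card_sylow_eq_prime R hR hGr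
  have hn1 : Nat.card (Sylow r G) ≠ 1 :=
    card_sylow_ne_one_of_simple R (by rw [hR]; omega) (by rw [hR, hG]; omega)
  have hmod : Nat.card (Sylow r G) ≡ 1 [MOD r] := card_sylow_modEq_one r G
  obtain ⟨idx, hidx⟩ : ∃ idx, idx = (R : Subgroup G).relIndex
      (Subgroup.normalizer ((R : Subgroup G) : Set G)) := ⟨_, rfl⟩
  obtain ⟨n, hn⟩ : ∃ n, n = Nat.card (Sylow r G) := ⟨_, rfl⟩
  rw [← hidx] at hprod hnc
  rw [← hn] at hprod hn1 hmod
  rw [hR, hG] at hprod
  have h12 : idx * n = 12 := by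
    have h1 : r * (idx * n) = r * 12 := by rw [← mul_assoc, hprod]; ring
    exact Nat.eq_of_mul_eq_mul_left hr.pos h1
  rcases num_twelve r idx n hr hr5 h12 hmod hn1 with h5 | ⟨h11, hidx1⟩
  · rw [hG, h5]
  · exfalso
    apply hnc
    rw [hidx1]
    exact Nat.coprime_one_left _

theorem main_lt {G : Type*} [Group G] [Finite G] [IsSimpleGroup G] (p q r : ℕ)
    (hp : p.Prime) (hq : q.Prime) (hr : r.Prime) (hpq : p ≠ q) (hpr : p ≠ r) (hqr : q < r)
    (hG : Nat.card G = p ^ 2 * q * r) : Nat.card G = 60 := by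
  have h1 : p < q := smallest_prime p q r hp hq hr hpq hqr hpr hG
  obtain ⟨h2, h3⟩ := p_two_q_three p q r hp hq hr h1 hqr hG
  have hr5 : 5 ≤ r := by
    rcases Nat.lt_or_ge r 5 with h | h
    · exfalso
      have h4 : r = 4 := by omega
      rw [h4] at hr
      norm_num at hr
    · exact h
  refine twelve_r r hr hr5 ?_
  rw [hG, h2, h3]
  ring

/-- If a finite simple group has order p^2 * q * r with p, q and r prime, then its order is 60. -/
theorem result {G : Type*} [Group G] [Finite G] [IsSimpleGroup G] (p q r : ℕ) (hp : p.Prime) (hq : q.Prime) (hr : r.Prime) (hG : Nat.card G = p ^ 2 * q * r) : Nat.card G = 60 := by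
  have hnp : ¬ (Nat.card G).Prime := by
    rw [hG]
    exact not_prime_card p q r hp hq hr
  have hns := not_solvable_of_not_prime hnp
  have hpq : p ≠ q := by
    rintro rfl
    exact hns (Cfsg.Agent.S0144.result p r 3 1 hp hr (by rw [hG]; ring))
  have hpr : p ≠ r := by
    rintro rfl
    exact hns (Cfsg.Agent.S0144.result p q 3 1 hp hq (by rw [hG]; ring))
  have hqr : q ≠ r := by
    rintro rfl
    exact hns (Cfsg.Agent.S0144.result p q 2 2 hp hq (by rw [hG]; ring))
  rcases Nat.lt_or_gt_of_ne hqr with h | h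
  · exact main_lt p q r hp hq hr hpq hpr h hG
  · exact main_lt p r q hp hr hq hpr hpq h (by rw [hG]; ring)

end Cfsg.Agent.S0988
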