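import Mathlib
import Cfsg.Statements.S0994
import Cfsg.Agent.Lib.Helper7.SylowBasic

set_option autoImplicit false
open Cfsg

namespace Cfsg.Agent.S0994

open Cfsg.Agent.Lib.Helper7

/-- No finite simple group has order 1188 = 2^2 * 3^3 * 11. -/
theorem result {G : Type*} [Group G] [Finite G] [IsSimpleGroup G] : Nat.card G ≠ 1188 := by
  intro hG
  have : Fact (Nat.Prime 11) := ⟨by norm_num⟩
  obtain ⟨P⟩ := (Sylow.nonempty : Nonempty (Sylow 11 G))
  have hPcard : Nat.card (P : Subgroup G) = 11 := by
    have := card_sylow_subgroup_eq P 1 108 (by rw [hG]; norm_num) (by norm_num)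
    simpa using this
  have h1 := card_mul_relIndex_normalizer_mul_card_sylow P
  rw [hPcard, hG] at h1
  have h2 := card_sylow_modEq_one 11 G
  have h3 := card_sylow_ne_one_of_simple P (by rw [hPcard]; norm_num) (by rw [hPcard, hG]; norm_num)
  have h4 := not_coprime_of_simple_of_card_sylow_eq_prime P hPcard (by rw [hG]; norm_num)
  set n := Nat.card (Sylow 11 G) with hn
  set r := (P : Subgroup G).relIndex (Subgroup.normalizer ((P : Subgroup G) : Set G)) with hr
  unfold Nat.ModEq at h2
  have h5 : r * n = 108 := by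
    have : 11 * (r * n) = 11 * 108 := by rw [← mul_assoc]; exact h1
    exact Nat.eq_of_mul_eq_mul_left (by norm_num) this
  have hn_dvd : n ∣ 108 := ⟨r, by rw [← h5, mul_comm]⟩
  have hn_le : n ≤ 108 := Nat.le_of_dvd (by norm_num) hn_dvd
  have hr9 : r = 9 := by
    interval_cases n <;> omega
  rw [hr9] at h4
  exact h4 (by norm_num)

end Cfsg.Agent.S0994
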