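import Mathlib
import Cfsg.Statements.S0995
import Cfsg.Agent.Lib.Helper7.SylowBasic
import Cfsg.Agent.Lib.Helper7.Orbits2
import Cfsg.Agent.Lib.Helper7.ClassCount
import Cfsg.Agent.Lib.Helper7.PrimeSylowCount

set_option autoImplicit false
open Cfsg

namespace Cfsg.Agent.S0995

open Cfsg.Agent.Lib.Helper7

/-- If `y ∈ ⟨z⟩` is nontrivial, where `z` has prime order, then `⟨y⟩ = ⟨z⟩`. -/
theorem h7_zpowers_eq {G : Type*} [Group G] [Finite G] {p : ℕ} [Fact p.Prime] {z y : G}
    (hz : orderOf z = p) (hy : y ∈ Subgroup.zpowers z) (hy1 : y ≠ 1) :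
    Subgroup.zpowers y = Subgroup.zpowers z := by
  have hp : p.Prime := Fact.out
  have hle : Subgroup.zpowers y ≤ Subgroup.zpowers z := by
    rw [Subgroup.zpowers_le]; exact hy
  apply Subgroup.eq_of_le_of_card_ge hle
  rw [Nat.card_zpowers, Nat.card_zpowers, hz]
  have hd : orderOf y ∣ p := by
    have := Subgroup.card_dvd_of_le hle
    rwa [Nat.card_zpowers, Nat.card_zpowers, hz] at this
  rcases (Nat.dvd_prime hp).mp hd with h | h
  · exact absurd (orderOf_eq_one_iff.mp h) hy1
  · exact h.ge

/-- Elements generating the same cyclic group have the same centralizer. -/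
theorem h7_centralizer_le {G : Type*} [Group G] {z y : G} (h : z ∈ Subgroup.zpowers y) :
    Subgroup.centralizer ({y} : Set G) ≤ Subgroup.centralizer ({z} : Set G) := by
  obtain ⟨k, rfl⟩ := Subgroup.mem_zpowers_iff.mp h
  intro a ha
  rw [Subgroup.mem_centralizer_iff] at ha ⊢
  intro w hw
  rw [Set.mem_singleton_iff] at hw
  subst hw
  have h1 : Commute y a := ha y rfl
  exact (h1.zpow_left k).eq

/-- Let G be a finite perfect group containing an element z of prime order p whose centralizer is the cyclic group it generates. Let t be the number of conjugacy classes of elements of order p. Then t divides p - 1, the number of Sylow p-subgroups has the form 1 + n * p, and |G| * t = (p - 1) * p * (1 + n * p). -/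
theorem result {G : Type*} [Group G] [Finite G] (hperf : commutator G = ⊤) (p : ℕ) [Fact p.Prime] (z : G) (hz : orderOf z = p) (hC : Subgroup.centralizer ({z} : Set G) = Subgroup.zpowers z) : ∃ n t : ℕ, t = Nat.card {c : ConjClasses G // ∃ g : G, ConjClasses.mk g = c ∧ orderOf g = p} ∧ t ∣ p - 1 ∧ Nat.card (Sylow p G) = 1 + n * p ∧ Nat.card G * t = (p - 1) * p * (1 + n * p) := by
  have hp : p.Prime := Fact.out
  have hz1 : z ≠ 1 := by
    intro h; rw [h, orderOf_one] at hz; exact hp.one_lt.ne hz
  have hP0 : IsPGroup p (Subgroup.zpowers z) :=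
    IsPGroup.of_card (n := 1) (by rw [Nat.card_zpowers, hz, pow_one])
  obtain ⟨S, hS⟩ := hP0.exists_le_sylow
  have hzS : z ∈ (S : Subgroup G) := hS (Subgroup.mem_zpowers z)
  -- S ≤ zpowers z
  have hSle : (S : Subgroup G) ≤ Subgroup.zpowers z := by
    have hnt : Nontrivial (S : Subgroup G) := ⟨⟨⟨z, hzS⟩, 1, fun h => hz1 (congrArg Subtype.val h)⟩⟩
    have hcn := IsPGroup.center_nontrivial S.2
    obtain ⟨c, hc⟩ := exists_ne (1 : Subgroup.center (S : Subgroup G))
    have hc1 : ((c : (S : Subgroup G)) : G) ≠ 1 := by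
      intro h; apply hc; apply Subtype.ext; apply Subtype.ext; exact h
    have hcc : ∀ s : (S : Subgroup G), s * (c : (S : Subgroup G)) = (c : (S : Subgroup G)) * s := by
      intro s
      exact (Subgroup.mem_center_iff.mp c.2 s)
    have hcz : ((c : (S : Subgroup G)) : G) ∈ Subgroup.zpowers z := by
      rw [← hC, Subgroup.mem_centralizer_iff]
      intro w hw
      rw [Set.mem_singleton_iff] at hw
      subst hw
      have := congrArg Subtype.val (hcc ⟨w, hzS⟩)
      exact this
    have hzc : z ∈ Subgroup.zpowers ((c : (S : Subgroup G)) : G) := by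
      rw [h7_zpowers_eq hz hcz hc1]; exact Subgroup.mem_zpowers z
    intro s hs
    rw [← hC]
    apply h7_centralizer_le hzc
    rw [Subgroup.mem_centralizer_iff]
    intro w hw
    rw [Set.mem_singleton_iff] at hw
    subst hw
    have := congrArg Subtype.val (hcc ⟨s, hs⟩)
    exact this.symm
  have hSeq : (S : Subgroup G) = Subgroup.zpowers z := le_antisymm hSle hS
  have hcardS : Nat.card (S : Subgroup G) = p := by rw [hSeq, Nat.card_zpowers, hz]
  -- centralizers of elements of order p
  have hk : ∀ x : G, orderOf x = p → Nat.card (Subgroup.centralizer ({x} : Set G)) = p := by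
    intro x hx
    have hPx : IsPGroup p (Subgroup.zpowers x) :=
      IsPGroup.of_card (n := 1) (by rw [Nat.card_zpowers, hx, pow_one])
    obtain ⟨Q, hQ⟩ := hPx.exists_le_sylow
    obtain ⟨g, rfl⟩ := MulAction.exists_smul_eq G S Q
    have hxg : x ∈ ((g • S : Sylow p G) : Subgroup G) := hQ (Subgroup.mem_zpowers x)
    rw [Sylow.coe_subgroup_smul, Subgroup.mem_pointwise_smul_iff_inv_smul_mem] at hxg
    have hy : g⁻¹ * x * g ∈ Subgroup.zpowers z := by
      rw [← hSeq]
      simpa [MulAut.smul_def] using hxg
    have hconj : IsConj x (g⁻¹ * x * g) := by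
      rw [isConj_iff]; exact ⟨g⁻¹, by simp⟩
    rw [← card_centralizer_eq_of_isConj hconj]
    have hy1 : g⁻¹ * x * g ≠ 1 := by
      intro h
      have : x = 1 := by
        have h2 : x = g * (g⁻¹ * x * g) * g⁻¹ := by group
        rw [h2, h]; group
      rw [this, orderOf_one] at hx
      exact hp.one_lt.ne hx
    have heq : Subgroup.centralizer ({g⁻¹ * x * g} : Set G) = Subgroup.zpowers z := by
      apply le_antisymm
      · rw [← hC]
        apply h7_centralizer_le
        rw [h7_zpowers_eq hz hy hy1]; exact Subgroup.mem_zpowers z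
      · rw [← hC]
        exact h7_centralizer_le hy
    rw [heq, Nat.card_zpowers, hz]
  have hq : ∀ x y : G, IsConj x y → orderOf x = p → orderOf y = p := by
    intro x y hxy hx
    obtain ⟨c, hc⟩ := hxy
    rw [← hx]
    exact (SemiconjBy.orderOf_eq (c : G) hc).symm
  have hcount1 := card_mul_eq_card_classes_mul_card (G := G) (fun x => orderOf x = p) hq p hk
  have hcount2 := card_orderOf_eq_prime_of_card_sylow_eq_prime S hcardS
  have hmod := card_sylow_modEq_one p G
  have hNS := card_mul_relIndex_normalizer_mul_card_sylow S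
  rw [hcardS] at hNS
  set t := Nat.card {c : ConjClasses G // ∃ g : G, ConjClasses.mk g = c ∧ orderOf g = p} with ht
  set np := Nat.card (Sylow p G) with hnp
  set m := (S : Subgroup G).relIndex (Subgroup.normalizer ((S : Subgroup G) : Set G)) with hm
  have hnp_pos : 0 < np := Nat.card_pos
  refine ⟨np / p, t, rfl, ?_, ?_, ?_⟩
  · -- t ∣ p - 1
    refine ⟨m, ?_⟩
    have h1 : np * (p - 1) * p = t * (p * m * np) := by
      rw [← hcount2, hcount1, hNS]
    have h2 : (p * np) * (p - 1) = (p * np) * (t * m) := by
      calc (p * np) * (p - 1) = np * (p - 1) * p := by ring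
        _ = t * (p * m * np) := h1
        _ = (p * np) * (t * m) := by ring
    exact Nat.eq_of_mul_eq_mul_left (Nat.mul_pos hp.pos hnp_pos) h2
  · have h1 : np % p = 1 := by
      have := hmod
      unfold Nat.ModEq at this
      rw [this, Nat.mod_eq_of_lt hp.one_lt]
    have h2 := Nat.div_add_mod np p
    rw [h1] at h2
    rw [mul_comm (np / p) p, add_comm]
    exact h2.symm
  · have h1 : np % p = 1 := by
      have := hmod
      unfold Nat.ModEq at this
      rw [this, Nat.mod_eq_of_lt hp.one_lt]
    have h2 := Nat.div_add_mod np p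
    rw [h1] at h2
    have h3 : 1 + np / p * p = np := by
      rw [mul_comm (np / p) p, add_comm]; exact h2
    rw [h3, mul_comm (Nat.card G) t, ← hcount1, hcount2]
    ring

end Cfsg.Agent.S0995
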