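import Cfsg.Statements.S1001
import Cfsg.Agent.S0904
import Cfsg.Agent.S0144

set_option autoImplicit false
open Cfsg

namespace Cfsg.Agent.S1001

/-- In a finite simple group whose order has the form p * 3^a * 2^b with p prime, the centralizer of any element of order p is the cyclic group it generates. -/
theorem result {G : Type*} [Group G] [Finite G] [IsSimpleGroup G] (p a b : ℕ) (hp : p.Prime) (hG : Nat.card G = p * 3 ^ a * 2 ^ b) (x : G) (hx : orderOf x = p) : Subgroup.centralizer ({x} : Set G) = Subgroup.zpowers x := by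
  classical
  have hx1 : x ≠ 1 := by
    rintro rfl
    rw [orderOf_one] at hx
    exact hp.one_lt.ne hx
  by_cases h23 : p = 2 ∨ p = 3
  · have hsol : Group.IsSolvable G := by
      rcases h23 with rfl | rfl
      · exact Cfsg.Agent.S0144.result 3 2 a (b + 1) Nat.prime_three Nat.prime_two
          (by rw [hG]; ring)
      · exact Cfsg.Agent.S0144.result 3 2 (a + 1) b Nat.prime_three Nat.prime_two
          (by rw [hG]; ring)
    have hcomm : ∀ u v : G, u * v = v * u := IsSimpleGroup.comm_iff_isSolvable.mpr hsol
    have hn : (Subgroup.zpowers x).Normal := ⟨fun n hn g => by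
      rw [hcomm g n, mul_inv_cancel_right]; exact hn⟩
    have htop : Subgroup.zpowers x = ⊤ := by
      rcases hn.eq_bot_or_eq_top with h | h
      · exact absurd (Subgroup.zpowers_eq_bot.mp h) hx1
      · exact h
    rw [htop, eq_top_iff]
    intro g _
    rw [Subgroup.mem_centralizer_iff]
    intro h _
    exact hcomm h g
  · push Not at h23
    obtain ⟨h2, h3⟩ := h23
    have : Fact p.Prime := ⟨hp⟩
    have hcard : Nat.card G = 3 ^ a * 2 ^ b * p := by rw [hG]; ring
    have hzc : Nat.card (Subgroup.zpowers x) = p := by rw [Nat.card_zpowers, hx]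
    have hzp : IsPGroup p (Subgroup.zpowers x) := by
      apply IsPGroup.of_card (n := 1)
      rw [hzc, pow_one]
    obtain ⟨S, hS⟩ := hzp.exists_le_sylow
    have hSc := Cfsg.Agent.S0904.result 3 2 p a b Nat.prime_three Nat.prime_two (by norm_num)
      (Ne.symm h3) (Ne.symm h2) hcard S
    have hcop : Nat.Coprime p (3 ^ a * 2 ^ b) := by
      apply Nat.Coprime.mul_right
      · exact Nat.Coprime.pow_right _ ((Nat.coprime_primes hp Nat.prime_three).mpr h3)
      · exact Nat.Coprime.pow_right _ ((Nat.coprime_primes hp Nat.prime_two).mpr h2)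
    have hSp : Nat.card (S : Subgroup G) ≤ p := by
      obtain ⟨k, hk⟩ := IsPGroup.iff_card.mp S.isPGroup'
      have h2' : Nat.card (S : Subgroup G) ∣ 3 ^ a * 2 ^ b * p :=
        hcard ▸ Subgroup.card_subgroup_dvd_card _
      rw [hk] at h2' ⊢
      have h3' : p ^ k ∣ p := by
        have : Nat.Coprime (p ^ k) (3 ^ a * 2 ^ b) := Nat.Coprime.pow_left _ hcop
        exact Nat.Coprime.dvd_of_dvd_mul_left this h2'
      exact Nat.le_of_dvd hp.pos h3'
    have hSeq : Subgroup.zpowers x = (S : Subgroup G) :=
      Subgroup.eq_of_le_of_card_ge hS (by rw [hzc]; exact hSp)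
    apply le_antisymm
    · intro g hg
      rw [hSeq, ← hSc]
      rw [Subgroup.mem_centralizer_iff] at hg ⊢
      intro h hh
      have hh' : h ∈ Subgroup.zpowers x := by rw [hSeq]; exact hh
      obtain ⟨k, rfl⟩ := Subgroup.mem_zpowers_iff.mp hh'
      have hc : Commute x g := hg x (Set.mem_singleton x)
      exact (hc.zpow_left k).eq
    · intro g hg
      rw [Subgroup.mem_centralizer_iff]
      intro h hh
      rw [Set.mem_singleton_iff] at hh
      subst hh
      obtain ⟨k, rfl⟩ := Subgroup.mem_zpowers_iff.mp hg
      exact ((Commute.refl h).zpow_right k).eq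

end Cfsg.Agent.S1001
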