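import Cfsg.Statements.S1002
import Cfsg.Agent.Lib.Helper7.PrimeSylowNC
import Cfsg.Agent.Lib.Helper11.ExcSimple

set_option autoImplicit false
open Cfsg
open Cfsg.Agent.Lib.Helper7
open Cfsg.Agent.Lib.Helper11

namespace Cfsg.Agent.S1002

/-- No finite simple group has order 1004913 = 3^3 * 7 * 13 * 409. -/
theorem result {G : Type*} [Group G] [Finite G] [IsSimpleGroup G] : Nat.card G ≠ 1004913 := by
  intro hG
  classical
  have hp : Nat.Prime 409 := by norm_num
  haveI : Fact (Nat.Prime 409) := ⟨hp⟩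
  obtain ⟨S⟩ : Nonempty (Sylow 409 G) := inferInstance
  have hS : Nat.card (S : Subgroup G) = 409 :=
    card_eq_prime_of_sylow S (by rw [hG]; norm_num) (by rw [hG]; norm_num)
  have hrel := relIndex_centralizer_normalizer_dvd_sub_one (S : Subgroup G) hp hS
  have hle : (S : Subgroup G) ≤ Subgroup.normalizer ((S : Subgroup G) : Set G) :=
    Subgroup.le_normalizer
  have hN : Nat.card (Subgroup.normalizer ((S : Subgroup G) : Set G))
      = 409 * (S : Subgroup G).relIndex (Subgroup.normalizer ((S : Subgroup G) : Set G)) := by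
    have h1 := Subgroup.card_mul_index
      ((S : Subgroup G).subgroupOf (Subgroup.normalizer ((S : Subgroup G) : Set G)))
    rw [Nat.card_congr (Subgroup.subgroupOfEquivOfLe hle).toEquiv, hS] at h1
    exact h1.symm
  have hnp : Nat.card (Sylow 409 G) = (Subgroup.normalizer ((S : Subgroup G) : Set G)).index :=
    Sylow.card_eq_index_normalizer S
  have hmod : Nat.card (Sylow 409 G) ≡ 1 [MOD 409] := card_sylow_modEq_one 409 G
  have hne1 : Nat.card (Sylow 409 G) ≠ 1 := by
    intro h1
    rw [hnp, Subgroup.index_eq_one, Subgroup.normalizer_eq_top_iff] at h1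
    rcases h1.eq_bot_or_eq_top with h | h
    · rw [h, Subgroup.card_bot] at hS
      omega
    · rw [h, Subgroup.card_top, hG] at hS
      omega
  have hidx := Subgroup.card_mul_index (Subgroup.normalizer ((S : Subgroup G) : Set G))
  rw [hN, hG, ← hnp] at hidx
  set r := (S : Subgroup G).relIndex (Subgroup.normalizer ((S : Subgroup G) : Set G)) with hr
  set n := Nat.card (Sylow 409 G) with hn
  have hr3 : r = 3 := by
    have h1 : r * n = 2457 := by
      have : 409 * (r * n) = 409 * 2457 := by rw [← mul_assoc, hidx]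
      exact Nat.eq_of_mul_eq_mul_left (by norm_num) this
    have hmod' : n % 409 = 1 := hmod
    have hnd : n ∈ Nat.divisors 2457 := Nat.mem_divisors.2 ⟨⟨r, by rw [← h1, mul_comm]⟩, by norm_num⟩
    simp only [Nat.divisors_ofNat, Finset.mem_insert, Finset.mem_singleton] at hnd
    have hn819 : n = 819 := by omega
    rw [hn819] at h1
    omega
  rw [hr3] at hN
  -- the centraliser
  have hSab : (S : Subgroup G) ≤ Subgroup.centralizer ((S : Subgroup G) : Set G) := by
    intro a ha
    rw [Subgroup.mem_centralizer_iff]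
    intro b hb
    by_cases ha1 : a = 1
    · rw [ha1, mul_one, one_mul]
    · have hz := zpowers_eq_of_prime_card (S : Subgroup G) hp hS ha ha1
      have hb' : b ∈ Subgroup.zpowers a := by rw [hz]; exact hb
      obtain ⟨k, rfl⟩ := Subgroup.mem_zpowers_iff.1 hb'
      exact ((Commute.refl a).zpow_left k).eq
  have hCN : Subgroup.centralizer ((S : Subgroup G) : Set G)
      ≤ Subgroup.normalizer ((S : Subgroup G) : Set G) := Subgroup.centralizer_le_normalizer _
  have hC' : Subgroup.centralizer ((S : Subgroup G) : Set G) = (S : Subgroup G) := by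
    have h1 : Nat.card (Subgroup.centralizer ((S : Subgroup G) : Set G)) ∣ 409 * 3 := by
      rw [← hN]
      exact Subgroup.card_dvd_of_le hCN
    have h2 : 409 ∣ Nat.card (Subgroup.centralizer ((S : Subgroup G) : Set G)) := by
      have h := Subgroup.card_dvd_of_le hSab
      rwa [hS] at h
    have h3 : Nat.card (Subgroup.centralizer ((S : Subgroup G) : Set G)) = 409 ∨
        Nat.card (Subgroup.centralizer ((S : Subgroup G) : Set G)) = 1227 := by
      obtain ⟨k, hk⟩ := h2
      rw [hk] at h1 ⊢
      have hk3 : k ∣ 3 := Nat.dvd_of_mul_dvd_mul_left (by norm_num) h1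
      have hk' : k = 1 ∨ k = 3 := (Nat.dvd_prime Nat.prime_three).1 hk3
      rcases hk' with h | h <;> rw [h] <;> norm_num
    rcases h3 with h3 | h3
    · exact (Subgroup.eq_of_le_of_card_ge hSab (by rw [h3, hS])).symm
    · exfalso
      have hNC : Subgroup.normalizer ((S : Subgroup G) : Set G)
          ≤ Subgroup.centralizer ((S : Subgroup G) : Set G) := by
        rw [Subgroup.eq_of_le_of_card_ge hCN (by rw [h3, hN])]
      rcases sylow_eq_bot_or_top_of_normalizer_le_centralizer S hNC with h | h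
      · rw [h, Subgroup.card_bot] at hS
        omega
      · rw [h, Subgroup.card_top, hG] at hS
        omega
  obtain ⟨ε, x₀, T, m, d, hε, hx₀, hx₀dvd, hT, hnorm, hdeg⟩ :=
    exc_prime_simple 409 hp (S : Subgroup G) hS hC' 3 136 hN (by rw [hG]; norm_num)
      (by norm_num) (by norm_num)
  obtain ⟨χ₁, χ₂, h12, rfl, hm1, hm2⟩ :=
    exc_T_two T m (fun χ hχ => (hT χ hχ).1) (by push_cast at hnorm; omega)
  obtain ⟨-, hdvd1, hddvd1, hd1⟩ := hT χ₁ (by simp)
  obtain ⟨-, hdvd2, hddvd2, hd2⟩ := hT χ₂ (by simp)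
  rw [Finset.sum_pair h12] at hdeg
  rw [hG] at hddvd1 hddvd2 hx₀dvd
  obtain ⟨k1, hk1⟩ := hdvd1
  obtain ⟨k2, hk2⟩ := hdvd2
  have key : ∀ c : ℕ, c ∣ 1004913 → c ≠ 1 → (c % 409 = 1 ∨ c % 409 = 408) → c = 819 := by
    intro c hc hc1 hmod
    have hcop : Nat.Coprime c 409 := by
      rw [Nat.coprime_comm, Nat.Prime.coprime_iff_not_dvd hp]
      omega
    have h2457 : c ∣ 2457 := by
      apply hcop.dvd_of_dvd_mul_right
      have : 2457 * 409 = 1004913 := by norm_num
      rw [this]
      exact hc
    have hmem : c ∈ Nat.divisors 2457 := Nat.mem_divisors.2 ⟨h2457, by norm_num⟩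
    simp only [Nat.divisors_ofNat, Finset.mem_insert, Finset.mem_singleton] at hmem
    omega
  have hc1 : m χ₁ = 1 ∧ d χ₁ = 819 := by
    have hmem1 := hddvd1
    rcases hm1 with h1 | h1
    · rw [h1] at hk1
      exact ⟨h1, key _ hmem1 hd1 (Or.inl (by omega))⟩
    · rw [h1] at hk1
      have h819 := key _ hmem1 hd1 (Or.inr (by omega))
      omega
  have hc2 : m χ₂ = 1 ∧ d χ₂ = 819 := by
    have hmem2 := hddvd2
    rcases hm2 with h1 | h1
    · rw [h1] at hk2
      exact ⟨h1, key _ hmem2 hd2 (Or.inl (by omega))⟩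
    · rw [h1] at hk2
      have h819 := key _ hmem2 hd2 (Or.inr (by omega))
      omega
  rw [hc1.1, hc1.2, hc2.1, hc2.2] at hdeg
  rcases hε with rfl | rfl
  · have hx : x₀ = 1639 := by omega
    rw [hx] at hx₀dvd
    norm_num at hx₀dvd
  · omega

end Cfsg.Agent.S1002
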