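import Cfsg.Statements.S1007
import Cfsg.Agent.Lib.Helper16.G168KF

set_option autoImplicit false
open Cfsg

namespace Cfsg.Agent.S1007

/-- Let G be a simple group of order 168 and T a Sylow 2-subgroup. Then T contains exactly two subgroups that are Klein four-groups; they are not conjugate in G; and the normalizer of every Klein four-subgroup of G is isomorphic to the symmetric group of degree 4. -/
theorem result {G : Type*} [Group G] [Finite G] [IsSimpleGroup G] (h : Nat.card G = 168) (T : Sylow 2 G) : Nat.card {U : Subgroup G // U ≤ (T : Subgroup G) ∧ IsKleinFour ↥U} = 2 ∧ (∀ U W : Subgroup G, U ≤ (T : Subgroup G) → W ≤ (T : Subgroup G) → IsKleinFour ↥U → IsKleinFour ↥W → U ≠ W → ∀ g : G, U.map (MulAut.conj g).toMonoidHom ≠ W) ∧ ∀ U : Subgroup G, IsKleinFour ↥U → Nonempty (↥(Subgroup.normalizer (U : Set G)) ≃* Equiv.Perm (Fin 4)) := by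
  haveI : Fact (Nat.Prime 2) := ⟨Nat.prime_two⟩
  obtain ⟨e⟩ := Cfsg.Agent.Lib.Helper16.G168.nonempty_equiv h
  have hT : Nat.card ↥(T : Subgroup G) = 8 := by
    have := Cfsg.Agent.Lib.Helper7.card_sylow_subgroup_eq T 3 21 (by rw [h]; norm_num) (by norm_num)
    rw [this]; norm_num
  have hT' : Nat.card ↥((T : Subgroup G).map e.toMonoidHom) = 8 := by
    rw [Cfsg.Agent.Lib.Helper16.G168.card_map_equiv]; exact hT
  obtain ⟨ha, hb⟩ := Cfsg.Agent.Lib.Helper16.G168.S1007_model _ hT'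
  exact ⟨Cfsg.Agent.Lib.Helper16.G168.KF7a_of_equiv e _ ha,
    Cfsg.Agent.Lib.Helper16.G168.KF7b_of_equiv e _ hb,
    Cfsg.Agent.Lib.Helper16.G168.KF7c_of_equiv e Cfsg.Agent.Lib.Helper16.G168.KF7c_model⟩

end Cfsg.Agent.S1007
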