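import Cfsg.Statements.S1009
import Mathlib

set_option autoImplicit false
open Cfsg

namespace Cfsg.Agent.S1009

open Subgroup

/-- Brodkey's Theorem: if a finite group has abelian Sylow p-subgroups, then there are two Sylow p-subgroups whose intersection equals the intersection of all Sylow p-subgroups. -/
theorem result {G : Type*} [Group G] [Finite G] (p : ℕ) [Fact p.Prime] (hab : ∀ P : Sylow p G, IsMulCommutative ↥(P : Subgroup G)) : ∃ P Q : Sylow p G, (P : Subgroup G) ⊓ (Q : Subgroup G) = ⨅ R : Sylow p G, (R : Subgroup G) := by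
  classical
  obtain ⟨⟨P, Q⟩, hmin⟩ := Finite.exists_min
    (fun PQ : Sylow p G × Sylow p G => Nat.card ↥((PQ.1 : Subgroup G) ⊓ (PQ.2 : Subgroup G)))
  refine ⟨P, Q, ?_⟩
  set D : Subgroup G := (P : Subgroup G) ⊓ (Q : Subgroup G) with hD
  apply le_antisymm
  · refine le_iInf ?_
    intro R
    set N : Subgroup G := normalizer (D : Set G) with hN
    -- commutativity
    have hcomm : ∀ (S : Sylow p G), ∀ a ∈ S, ∀ b ∈ S, a * b = b * a := by
      intro S a ha b hb
      have := (hab S).is_comm.comm (⟨a, ha⟩ : (S : Subgroup G)) ⟨b, hb⟩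
      exact congrArg Subtype.val this
    have hPN : (P : Subgroup G) ≤ N := by
      intro x hx
      rw [hN, mem_normalizer_iff]
      intro d
      have key : ∀ d ∈ D, x * d * x⁻¹ = d := by
        intro d hd
        have := hcomm P x hx d hd.1
        rw [this, mul_assoc, mul_inv_cancel, mul_one]
      constructor
      · intro hd; rw [key d hd]; exact hd
      · intro hd
        have hx' : x⁻¹ ∈ (P : Subgroup G) := inv_mem hx
        have h2 : x⁻¹ * (x * d * x⁻¹) * x⁻¹⁻¹ = x * d * x⁻¹ := by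
          have := hcomm P x⁻¹ hx' (x * d * x⁻¹) hd.1
          rw [this, mul_assoc, mul_inv_cancel, mul_one]
        have h3 : x⁻¹ * (x * d * x⁻¹) * x⁻¹⁻¹ = d := by group
        rw [← h3, h2]; exact hd
    have hQN : (Q : Subgroup G) ≤ N := by
      intro x hx
      rw [hN, mem_normalizer_iff]
      intro d
      have key : ∀ d ∈ D, x * d * x⁻¹ = d := by
        intro d hd
        have := hcomm Q x hx d hd.2
        rw [this, mul_assoc, mul_inv_cancel, mul_one]
      constructor
      · intro hd; rw [key d hd]; exact hd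
      · intro hd
        have hx' : x⁻¹ ∈ (Q : Subgroup G) := inv_mem hx
        have h2 : x⁻¹ * (x * d * x⁻¹) * x⁻¹⁻¹ = x * d * x⁻¹ := by
          have := hcomm Q x⁻¹ hx' (x * d * x⁻¹) hd.2
          rw [this, mul_assoc, mul_inv_cancel, mul_one]
        have h3 : x⁻¹ * (x * d * x⁻¹) * x⁻¹⁻¹ = d := by group
        rw [← h3, h2]; exact hd
    -- the p-subgroup (R ⊓ N) of N lies in a Sylow p-subgroup of N, conjugate to P
    have hRN : IsPGroup p ↥(((R : Subgroup G) ⊓ N).subgroupOf N) := by
      have h1 : IsPGroup p ↥((R : Subgroup G) ⊓ N) := R.2.to_le inf_le_left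
      exact h1.comap_subtype
    obtain ⟨S, hS⟩ := hRN.exists_le_sylow
    obtain ⟨n, hn⟩ := MulAction.exists_smul_eq ↥N S (P.subtype hPN)
    -- for x ∈ R ⊓ N, n x n⁻¹ ∈ P
    have hconj : ∀ x ∈ (R : Subgroup G) ⊓ N, (n : G) * x * (n : G)⁻¹ ∈ (P : Subgroup G) := by
      intro x hx
      have hxN : x ∈ N := hx.2
      have h1 : (⟨x, hxN⟩ : N) ∈ (S : Subgroup N) := hS (by
        rw [mem_subgroupOf]; exact hx)
      have h2 : n * ⟨x, hxN⟩ * n⁻¹ ∈ ((n • S : Sylow p N) : Subgroup N) := by
        rw [Sylow.coe_subgroup_smul, Subgroup.mem_pointwise_smul_iff_inv_smul_mem]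
        have : (MulAut.conj n)⁻¹ • (n * ⟨x, hxN⟩ * n⁻¹) = ⟨x, hxN⟩ := by
          simp only [MulAut.smul_def, MulAut.conj_inv_apply]
          group
        rw [this]; exact h1
      rw [hn, Sylow.coe_subtype, mem_subgroupOf] at h2
      exact h2
    -- R' = n • R
    set R' : Sylow p G := (n : G) • R with hR'
    have hmemR' : ∀ y : G, y ∈ (R' : Subgroup G) ↔ (n : G)⁻¹ * y * (n : G) ∈ (R : Subgroup G) := by
      intro y
      rw [hR', Sylow.coe_subgroup_smul, Subgroup.mem_pointwise_smul_iff_inv_smul_mem]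
      simp [MulAut.smul_def]
    have hle : (R' : Subgroup G) ⊓ (Q : Subgroup G) ≤ D := by
      intro y hy
      have hyR : (n : G)⁻¹ * y * (n : G) ∈ (R : Subgroup G) := (hmemR' y).mp hy.1
      have hyN : (n : G)⁻¹ * y * (n : G) ∈ N :=
        N.mul_mem (N.mul_mem (N.inv_mem n.2) (hQN hy.2)) n.2
      have := hconj _ ⟨hyR, hyN⟩
      have h3 : (n : G) * ((n : G)⁻¹ * y * (n : G)) * (n : G)⁻¹ = y := by group
      rw [h3] at this
      exact ⟨this, hy.2⟩
    have hcard := hmin (R', Q)
    simp only at hcard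
    have heq : (R' : Subgroup G) ⊓ (Q : Subgroup G) = D := by
      apply Subgroup.eq_of_le_of_card_ge hle hcard
    have hDR' : D ≤ (R' : Subgroup G) := by rw [← heq]; exact inf_le_left
    intro d hd
    -- n d n⁻¹ ∈ D ≤ R'
    have hnd : (n : G) * d * (n : G)⁻¹ ∈ D := by
      have hn2 : (n : G) ∈ normalizer (D : Set G) := n.2
      rw [mem_normalizer_iff] at hn2
      exact (hn2 d).mp hd
    have := (hmemR' _).mp (hDR' hnd)
    have h3 : (n : G)⁻¹ * ((n : G) * d * (n : G)⁻¹) * (n : G) = d := by group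
    rwa [h3] at this
  · exact le_inf (iInf_le _ P) (iInf_le _ Q)

end Cfsg.Agent.S1009
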