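import Cfsg.Statements.S1013
import Mathlib

set_option autoImplicit false
open Cfsg

namespace Cfsg.Agent.S1013

open Subgroup MulAction

/-- Burnside-type lemma: if `P` is an abelian Sylow `p`-subgroup of `G` contained in a normal subgroup `K`
with `N_G(P) ⊓ K ≤ P`, then `K` has a normal `p`-complement `M` which is normal in `G`. -/
lemma exists_normal_compl {G : Type*} [Group G] [Finite G] {p : ℕ} [Fact p.Prime] (P : Sylow p G)
    (K : Subgroup G) [hK : K.Normal] (hPK : (P : Subgroup G) ≤ K)
    (hab : ∀ a ∈ P, ∀ b ∈ P, a * b = b * a)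
    (hN : normalizer ((P : Subgroup G) : Set G) ⊓ K ≤ P) :
    ∃ M : Subgroup G, M.Normal ∧ M ≤ K ∧ Nat.card M * Nat.card P = Nat.card K ∧ ¬ p ∣ Nat.card M := by
  classical
  set PK : Sylow p K := P.subtype hPK with hPKdef
  have hPKcoe : (PK : Subgroup K) = (P : Subgroup G).subgroupOf K := P.coe_subtype hPK
  have hP' : normalizer ((PK : Subgroup K) : Set K) ≤ centralizer ((PK : Subgroup K) : Set K) := by
    intro x hx
    have hx1 : (x : G) ∈ normalizer ((P : Subgroup G) : Set G) := by
      rw [hPKcoe, ← subgroupOf_normalizer_eq hPK] at hx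
      exact hx
    have hx2 : (x : G) ∈ (P : Subgroup G) := hN ⟨hx1, x.2⟩
    rw [mem_centralizer_iff]
    intro y hy
    have hy' : (y : G) ∈ (P : Subgroup G) := by
      have : y ∈ (P : Subgroup G).subgroupOf K := by rw [← hPKcoe]; exact hy
      exact this
    apply Subtype.ext
    simp only [coe_mul]
    exact hab _ hy' _ hx2
  set f := MonoidHom.transferSylow PK hP' with hf
  set M' : Subgroup K := f.ker with hM'
  have hcompl : IsComplement' M' PK := MonoidHom.ker_transferSylow_isComplement' PK hP'
  have hnd : ¬ p ∣ Nat.card M' := MonoidHom.not_dvd_card_ker_transferSylow PK hP'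
  have hcard : Nat.card M' * Nat.card PK = Nat.card K := hcompl.card_mul_card
  have hcardPK : Nat.card PK = Nat.card P := by
    have : Nat.card ((PK : Subgroup K)) = Nat.card ((P : Subgroup G).subgroupOf K) := by rw [hPKcoe]
    rw [show Nat.card PK = Nat.card ((PK : Subgroup K)) from rfl, this]
    exact Nat.card_congr (subgroupOfEquivOfLe hPK).toEquiv
  -- characterisation of M'
  have hchar : ∀ x : K, x ∈ M' ↔ Nat.Coprime (orderOf x) p := by
    intro x
    constructor
    · intro hx
      have h1 : orderOf x ∣ Nat.card M' := by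
        have := orderOf_dvd_natCard (⟨x, hx⟩ : M')
        rwa [Subgroup.orderOf_mk] at this
      rw [Nat.coprime_comm, Nat.Prime.coprime_iff_not_dvd Fact.out]
      intro h
      exact hnd (h.trans h1)
    · intro hx
      rw [hM', MonoidHom.mem_ker]
      have h1 : orderOf (f x) ∣ orderOf x := orderOf_map_dvd f x
      obtain ⟨k, hk⟩ := (PK.2 : IsPGroup p PK).exists_card_eq
      have h2 : orderOf (f x) ∣ p ^ k := by
        rw [← hk]; exact orderOf_dvd_natCard _
      have h3 : Nat.Coprime (orderOf (f x)) (p ^ k) :=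
        Nat.Coprime.pow_right k (Nat.Coprime.coprime_dvd_left h1 hx)
      have := Nat.eq_one_of_dvd_coprimes h3 dvd_rfl h2
      exact orderOf_eq_one_iff.mp this
  refine ⟨M'.map K.subtype, ?_, ?_, ?_, ?_⟩
  · constructor
    intro n hn g
    obtain ⟨m, hm, rfl⟩ := hn
    have hgm : g * (m : G) * g⁻¹ ∈ K := hK.conj_mem _ m.2 g
    refine ⟨⟨g * (m : G) * g⁻¹, hgm⟩, ?_, rfl⟩
    rw [SetLike.mem_coe, hchar]
    rw [SetLike.mem_coe, hchar] at hm
    have : orderOf (⟨g * (m : G) * g⁻¹, hgm⟩ : K) = orderOf m := by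
      rw [← Subgroup.orderOf_coe, ← Subgroup.orderOf_coe]
      simp only
      have hsc : SemiconjBy g (m : G) (g * (m : G) * g⁻¹) := by
        unfold SemiconjBy; group
      exact (hsc.orderOf_eq g).symm
    rwa [this]
  · exact map_subtype_le M'
  · rw [Nat.card_congr (M'.equivMapOfInjective K.subtype K.subtype_injective).symm.toEquiv, ← hcardPK]
    exact hcard
  · rwa [Nat.card_congr (M'.equivMapOfInjective K.subtype K.subtype_injective).symm.toEquiv]


lemma test1 {α : Type*} [Fintype α] [DecidableEq α] {p : ℕ} [Fact p.Prime] (hα : Fintype.card α = p) (G : Subgroup (Equiv.Perm α)) [MulAction.IsPretransitive ↥G α] (K : Subgroup ↥G) [hK : K.Normal] (hK1 : K ≠ ⊥) : MulAction.IsPretransitive K α := by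
  have hp : Nat.Prime (Nat.card α) := by
    rw [Nat.card_eq_fintype_card, hα]; exact Fact.out
  haveI : IsPreprimitive ↥G α := IsPreprimitive.of_prime_card hp
  apply IsQuasiPreprimitive.isPretransitive_of_normal (G := ↥G) (X := α)
  intro h
  apply hK1
  rw [eq_bot_iff]
  intro k hk
  rw [mem_bot]
  apply Subtype.ext
  apply Equiv.ext
  intro a
  have : a ∈ fixedPoints K α := by rw [h]; trivial
  have := this ⟨k, hk⟩
  exact this

lemma test2 {α : Type*} [Fintype α] [DecidableEq α] {p : ℕ} [Fact p.Prime] (hα : Fintype.card α = p) {H : Type*} [Group H] [Finite H] [MulAction H α] [MulAction.IsPretransitive H α] : p ∣ Nat.card H := by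
  have hne : Nonempty α := by
    have : 0 < Fintype.card α := by rw [hα]; exact (Fact.out : p.Prime).pos
    exact Fintype.card_pos_iff.mp this
  obtain ⟨a⟩ := hne
  have h1 : (stabilizer H a).index = Nat.card α := index_stabilizer_of_transitive H a
  rw [Nat.card_eq_fintype_card, hα] at h1
  rw [← h1]
  exact Subgroup.index_dvd_card _


lemma not_sq_dvd_factorial {p : ℕ} (hp : p.Prime) : ¬ p ^ 2 ∣ p.factorial := by
  intro h
  have hp1 : p = (p - 1) + 1 := by have := hp.pos; omega
  rw [hp1, Nat.factorial_succ, ← hp1, pow_two] at h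
  have h2 : p ∣ (p - 1).factorial := Nat.dvd_of_mul_dvd_mul_left hp.pos h
  have := (hp.dvd_factorial).mp h2
  have := hp.pos
  omega

lemma card_sylow_eq {G : Type*} [Group G] [Finite G] {p : ℕ} [Fact p.Prime] (P : Sylow p G)
    (h1 : p ∣ Nat.card G) (h2 : ¬ p ^ 2 ∣ Nat.card G) : Nat.card P = p := by
  have hp : p.Prime := Fact.out
  rw [Sylow.card_eq_multiplicity]
  have hpos : Nat.card G ≠ 0 := Nat.card_pos.ne'
  have hf1 : 1 ≤ (Nat.card G).factorization p :=
    (hp.dvd_iff_one_le_factorization hpos).mp h1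
  have hf2 : ¬ 2 ≤ (Nat.card G).factorization p := by
    intro h
    exact h2 ((hp.pow_dvd_iff_le_factorization hpos).mpr h)
  have : (Nat.card G).factorization p = 1 := by omega
  rw [this, pow_one]


/-- Let G be a transitive permutation group of prime degree p having more than one Sylow p-subgroup, and suppose a Sylow p-subgroup P has prime index in its normalizer. Then G is simple. -/
theorem result {α : Type*} [Fintype α] [DecidableEq α] {p : ℕ} [Fact p.Prime] (hα : Fintype.card α = p) (G : Subgroup (Equiv.Perm α)) [MulAction.IsPretransitive ↥G α] (P : Sylow p ↥G) (hn : 1 < Nat.card (Sylow p ↥G)) (ht : (((P : Subgroup ↥G).subgroupOf (Subgroup.normalizer ((P : Subgroup ↥G) : Set ↥G))).index).Prime) : IsSimpleGroup ↥G := by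
  classical
  have hp : p.Prime := Fact.out
  have hdvdG : p ∣ Nat.card ↥G := test2 hα
  have hsqG : ¬ p ^ 2 ∣ Nat.card ↥G := by
    intro h
    have h1 : Nat.card ↥G ∣ Nat.card (Equiv.Perm α) := Subgroup.card_subgroup_dvd_card G
    have h2 : Nat.card (Equiv.Perm α) = p.factorial := by
      rw [Nat.card_eq_fintype_card, Fintype.card_perm, hα]
    rw [h2] at h1
    exact not_sq_dvd_factorial hp (h.trans h1)
  have hcardP : Nat.card P = p := card_sylow_eq P hdvdG hsqG
  have hcardSyl : ∀ Q : Sylow p ↥G, Nat.card Q = p := fun Q => card_sylow_eq Q hdvdG hsqG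
  -- P is abelian
  have hab : ∀ a ∈ P, ∀ b ∈ P, a * b = b * a := by
    haveI : Fact (Nat.card (P : Subgroup ↥G)).Prime := ⟨by rw [show Nat.card (P : Subgroup ↥G) = Nat.card P from rfl, hcardP]; exact hp⟩
    haveI : IsCyclic (P : Subgroup ↥G) := isCyclic_of_prime_card (p := Nat.card (P : Subgroup ↥G)) rfl
    intro a ha b hb
    have := IsCyclic.commGroup.mul_comm (⟨a, ha⟩ : (P : Subgroup ↥G)) ⟨b, hb⟩
    exact congrArg Subtype.val this
  refine { exists_pair_ne := ?_, eq_bot_or_eq_top_of_normal := ?_ }
  · by_contra hcon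
    push Not at hcon
    haveI : Subsingleton ↥G := ⟨hcon⟩
    haveI : Subsingleton (Sylow p ↥G) := ⟨fun A B => Sylow.ext (Subsingleton.elim _ _)⟩
    have : Nat.card (Sylow p ↥G) ≤ 1 := Finite.card_le_one_iff_subsingleton.mpr inferInstance
    omega
  · intro K hK
    by_contra hcon
    push Not at hcon
    obtain ⟨hK1, hK2⟩ := hcon
    haveI := hK
    haveI hKtrans : MulAction.IsPretransitive K α := test1 hα G K hK1
    have hdvdK : p ∣ Nat.card K := test2 hα
    -- P ≤ K
    have hPK : (P : Subgroup ↥G) ≤ K := by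
      obtain ⟨k, hk⟩ := exists_prime_orderOf_dvd_card' (G := K) p hdvdK
      have hz : IsPGroup p (zpowers (k : ↥G)) := by
        rw [IsPGroup.iff_card]
        refine ⟨1, ?_⟩
        rw [Nat.card_zpowers, Subgroup.orderOf_coe, hk, pow_one]
      obtain ⟨Q, hQ⟩ := hz.exists_le_sylow
      have hQeq : zpowers (k : ↥G) = (Q : Subgroup ↥G) := by
        apply Subgroup.eq_of_le_of_card_ge hQ
        rw [Nat.card_zpowers, Subgroup.orderOf_coe, hk]
        exact (hcardSyl Q).le
      have hQK : (Q : Subgroup ↥G) ≤ K := by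
        rw [← hQeq, zpowers_le]
        exact k.2
      obtain ⟨g, hg⟩ := MulAction.exists_smul_eq ↥G Q P
      rw [← hg]
      intro x hx
      rw [Sylow.coe_subgroup_smul, Subgroup.mem_pointwise_smul_iff_inv_smul_mem] at hx
      have hx' : g⁻¹ * x * g ∈ (Q : Subgroup ↥G) := by
        simpa [MulAut.smul_def] using hx
      have h1 := hQK hx'
      have h2 := hK.conj_mem _ h1 g
      have : g * (g⁻¹ * x * g) * g⁻¹ = x := by group
      rwa [this] at h2
    have hsup : normalizer ((P : Subgroup ↥G) : Set ↥G) ⊔ K = ⊤ := Sylow.normalizer_sup_eq_top' P hPK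
    set Nm := normalizer ((P : Subgroup ↥G) : Set ↥G) with hNm
    set L := Nm ⊓ K with hL
    have hPL : (P : Subgroup ↥G) ≤ L := le_inf le_normalizer hPK
    have hLN : L ≤ Nm := inf_le_left
    have hmul : (P : Subgroup ↥G).relIndex L * L.relIndex Nm = (P : Subgroup ↥G).relIndex Nm :=
      relIndex_mul_relIndex _ _ _ hPL hLN
    have ht' : ((P : Subgroup ↥G).relIndex Nm).Prime := ht
    rw [← hmul] at ht'
    rcases (Nat.prime_mul_iff.mp ht') with ⟨-, h1⟩ | ⟨-, h1⟩
    · -- L.relIndex Nm = 1, so Nm ≤ L ≤ K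
      have : Nm ≤ L := relIndex_eq_one.mp h1
      apply hK2
      rw [eq_top_iff, ← hsup]
      exact sup_le (this.trans inf_le_right) le_rfl
    · -- P.relIndex L = 1, so L ≤ P
      have hLP : L ≤ (P : Subgroup ↥G) := relIndex_eq_one.mp h1
      obtain ⟨M, hMn, hMK, hMcard, hMnd⟩ := exists_normal_compl P K hPK hab hLP
      have hM1 : M = ⊥ := by
        by_contra hM1
        haveI := hMn
        haveI : MulAction.IsPretransitive M α := test1 hα G M hM1
        exact hMnd (test2 hα)
      have hcardK : Nat.card K = p := by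
        rw [← hMcard, hM1, Subgroup.card_bot, one_mul]; exact hcardP
      have hKP : (P : Subgroup ↥G) = K := by
        apply Subgroup.eq_of_le_of_card_ge hPK
        rw [hcardK]
        exact hcardP.ge
      have hPn : (P : Subgroup ↥G).Normal := by rw [hKP]; exact hK
      haveI : Finite (Sylow p ↥G) := inferInstance
      have hu := Sylow.unique_of_normal P hPn
      have : Nat.card (Sylow p ↥G) = 1 := by
        haveI := hu
        exact Nat.card_unique
      omega

end Cfsg.Agent.S1013
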