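-- Statement S1014.
import Mathlib
import Cfsg.Statements.S1014
import Cfsg.Agent.S0989
import Cfsg.Agent.S0990
import Cfsg.Agent.S0991
import Cfsg.Agent.Lib.Helper7.SylowBasic

set_option autoImplicit false
open Cfsg

namespace Cfsg.Agent.S1014

open Cfsg.Agent.Lib.Helper7

theorem num_aux (idx n : ℕ) (h48 : idx * n = 48) (hmod : n ≡ 1 [MOD 23]) (hn1 : n ≠ 1) :
    n = 24 := by
  have hn48 : n ≤ 48 := Nat.le_of_dvd (by norm_num) ⟨idx, by rw [← h48]; ring⟩
  unfold Nat.ModEq at hmod
  interval_cases n <;> omega

/-- No finite simple group has order 1104 = 2^4 * 3 * 23. -/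
theorem result {G : Type*} [Group G] [Finite G] [IsSimpleGroup G] : Nat.card G ≠ 1104 := by
  intro hG
  haveI : Fact (Nat.Prime 23) := ⟨by norm_num⟩
  have hncomm : ¬ IsMulCommutative G := by
    intro h
    letI : CommGroup G := { ‹Group G› with mul_comm := h.is_comm.comm }
    have hprime : (Nat.card G).Prime := IsSimpleGroup.prime_card
    rw [hG] at hprime
    norm_num at hprime
  obtain ⟨P⟩ : Nonempty (Sylow 23 G) := inferInstance
  have hP : Nat.card (P : Subgroup G) = 23 := by
    have := card_sylow_subgroup_eq P 1 48 (by rw [hG]; norm_num) (by norm_num)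
    simpa using this
  have hprod := card_mul_relIndex_normalizer_mul_card_sylow P
  have hn1 : Nat.card (Sylow 23 G) ≠ 1 :=
    card_sylow_ne_one_of_simple P (by rw [hP]; norm_num) (by rw [hP, hG]; norm_num)
  have hmod : Nat.card (Sylow 23 G) ≡ 1 [MOD 23] := card_sylow_modEq_one 23 G
  have hn24 : Nat.card (Sylow 23 G) = 24 := by
    rw [hP, hG] at hprod
    have h1 : 23 * ((P : Subgroup G).relIndex (Subgroup.normalizer ((P : Subgroup G) : Set G)) *
        Nat.card (Sylow 23 G)) = 23 * 48 := by
      rw [← mul_assoc, hprod]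
    have h48 := Nat.eq_of_mul_eq_mul_left (by norm_num) h1
    exact num_aux _ _ h48 hmod hn1
  have hHidx : (Subgroup.normalizer ((P : Subgroup G) : Set G)).index = 24 := by
    rw [← hn24]
    exact (Sylow.card_eq_index_normalizer P).symm
  have hHtop : Subgroup.normalizer ((P : Subgroup G) : Set G) ≠ ⊤ := by
    intro h
    rw [h, Subgroup.index_top] at hHidx
    norm_num at hHidx
  have hHcard : Nat.card (Subgroup.normalizer ((P : Subgroup G) : Set G)) = 46 := by
    have := (Subgroup.normalizer ((P : Subgroup G) : Set G)).card_mul_index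
    rw [hHidx, hG] at this
    omega
  have key : ∀ k : ℕ, k = (Subgroup.normalizer ((P : Subgroup G) : Set G)).index →
      (∃ f : G →* ↥(alternatingGroup (Fin k)), Function.Injective f) := by
    intro k hk
    subst hk
    exact Cfsg.Agent.S0991.result hncomm _ hHtop
  obtain ⟨f, hf⟩ := key 24 hHidx.symm
  have hcardα : Fintype.card (Fin 24) = 24 := Fintype.card_fin 24
  have hPerm : Nat.card (Equiv.Perm (Fin 24)) = 23 ^ 1 * (24 * Nat.factorial 22) := by
    rw [Nat.card_eq_fintype_card, Fintype.card_perm, hcardα]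
    decide
  have hm : ¬ 23 ∣ 24 * Nat.factorial 22 := by
    intro h
    rcases (Nat.Prime.dvd_mul (by norm_num)).mp h with h | h
    · norm_num at h
    · rw [Nat.Prime.dvd_factorial (by norm_num)] at h
      norm_num at h
  have hginj : Function.Injective ((alternatingGroup (Fin 24)).subtype.comp f) :=
    (Subgroup.subtype_injective _).comp hf
  have hP' : IsPGroup 23 ((P : Subgroup G).map ((alternatingGroup (Fin 24)).subtype.comp f)) :=
    P.isPGroup'.map _
  obtain ⟨Q, hQ⟩ := hP'.exists_le_sylow
  have hQcard : Nat.card (Q : Subgroup (Equiv.Perm (Fin 24))) = 23 := by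
    have := card_sylow_subgroup_eq Q 1 _ hPerm hm
    simpa using this
  have hPQ : (P : Subgroup G).map ((alternatingGroup (Fin 24)).subtype.comp f) =
      (Q : Subgroup (Equiv.Perm (Fin 24))) := by
    apply Subgroup.eq_of_le_of_card_ge hQ
    rw [Subgroup.card_map_of_injective hginj, hP, hQcard]
  have h89 := Cfsg.Agent.S0989.result (α := Fin 24) 23 (Or.inr hcardα) Q
  have h90 := (Cfsg.Agent.S0990.result (α := Fin 24) (by rw [hcardα]; norm_num) 23
    (by norm_num) Q).2
  have hQA : ((Q : Subgroup (Equiv.Perm (Fin 24))).subgroupOf (alternatingGroup (Fin 24))) =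
      (P : Subgroup G).map f := by
    rw [← hPQ]
    show (((P : Subgroup G).map ((alternatingGroup (Fin 24)).subtype.comp f))).comap
      (alternatingGroup (Fin 24)).subtype = _
    rw [← Subgroup.map_map, Subgroup.comap_map_eq_self_of_injective
      (Subgroup.subtype_injective _)]
  rw [hQA] at h90
  have hle := Subgroup.le_normalizer_map (H := (P : Subgroup G)) f
  have hdvd := Subgroup.card_dvd_of_le hle
  rw [Subgroup.card_map_of_injective hf, hHcard] at hdvd
  rw [h89] at h90
  omega

end Cfsg.Agent.S1014
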