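-- Statement S1015.
import Mathlib
import Cfsg.Statements.S1015
import Cfsg.Agent.S0985
import Cfsg.Agent.Lib.Helper7.SylowBasic

set_option autoImplicit false
open Cfsg

namespace Cfsg.Agent.S1015

open Cfsg.Agent.Lib.Helper7

theorem num_aux (idx n : ℕ) (h48 : idx * n = 48) (hmod : n ≡ 1 [MOD 5]) (hn1 : n ≠ 1) :
    n = 6 ∨ n = 16 := by
  have hn48 : n ≤ 48 := Nat.le_of_dvd (by norm_num) ⟨idx, by rw [← h48]; ring⟩
  unfold Nat.ModEq at hmod
  interval_cases n <;> omega

theorem num_aux2 (m n j : ℕ) (h1 : n ≡ 1 [MOD 5]) (hn1 : n ≠ 1) (hn0 : n ≠ 0) (h2 : n ∣ m)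
    (h3 : m * j = 48) : j ≤ 8 := by
  have hm48 : m ≤ 48 := Nat.le_of_dvd (by norm_num) ⟨j, h3.symm⟩
  have hm0 : 0 < m := by
    rcases Nat.eq_zero_or_pos m with h | h
    · rw [h] at h3; omega
    · exact h
  have hnm : n ≤ m := Nat.le_of_dvd hm0 h2
  unfold Nat.ModEq at h1
  have hn6 : 6 ≤ n := by omega
  have hm6 : 6 ≤ m := by omega
  interval_cases m <;> omega

/-- No finite simple group has order 1200 = 2^4 * 3 * 5^2. -/
theorem result {G : Type*} [Group G] [Finite G] [IsSimpleGroup G] : Nat.card G ≠ 1200 := by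
  intro hG
  haveI : Fact (Nat.Prime 5) := ⟨by norm_num⟩
  obtain ⟨P₀⟩ : Nonempty (Sylow 5 G) := inferInstance
  have hcard25 : ∀ S : Sylow 5 G, Nat.card (S : Subgroup G) = 25 := by
    intro S
    have := card_sylow_subgroup_eq S 2 48 (by rw [hG]; norm_num) (by norm_num)
    simpa using this
  have hP₀ := hcard25 P₀
  have hprod := card_mul_relIndex_normalizer_mul_card_sylow P₀
  have hn1 : Nat.card (Sylow 5 G) ≠ 1 :=
    card_sylow_ne_one_of_simple P₀ (by rw [hP₀]; norm_num) (by rw [hP₀, hG]; norm_num)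
  have hmod : Nat.card (Sylow 5 G) ≡ 1 [MOD 5] := card_sylow_modEq_one 5 G
  have hn : Nat.card (Sylow 5 G) = 6 ∨ Nat.card (Sylow 5 G) = 16 := by
    rw [hP₀, hG] at hprod
    have h1 : 25 * ((P₀ : Subgroup G).relIndex
        (Subgroup.normalizer ((P₀ : Subgroup G) : Set G)) *
        Nat.card (Sylow 5 G)) = 25 * 48 := by
      rw [← mul_assoc, hprod]
    have h48 := Nat.eq_of_mul_eq_mul_left (by norm_num) h1
    exact num_aux _ _ h48 hmod hn1
  rcases hn with hn | hn
  · -- n_5 = 6: |G| ∣ 6!
    have := card_dvd_factorial_card_sylow_of_simple P₀ (by rw [hP₀]; norm_num)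
      (by rw [hP₀, hG]; norm_num)
    rw [hn, hG] at this
    revert this
    decide
  · -- n_5 = 16
    have hnot : ¬ Nat.card (Sylow 5 G) ≡ 1 [MOD 5 ^ 2] := by
      rw [hn]; decide
    obtain ⟨P, R, hPR, hidx⟩ := Cfsg.Agent.S0985.result 5 2 hnot
    have hP := hcard25 P
    have hR := hcard25 R
    -- D = R ⊓ P has order 5
    have hidx' : (R : Subgroup G).relIndex (P : Subgroup G) ≤ 5 := by
      have : (R : Subgroup G).relIndex (P : Subgroup G) =
        ((R : Subgroup G).subgroupOf (P : Subgroup G)).index := rfl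
      rw [this]
      simpa using hidx
    have hidx1 : (R : Subgroup G).relIndex (P : Subgroup G) ≠ 1 := by
      rw [Ne, Subgroup.relIndex_eq_one]
      intro hle
      apply hPR
      apply Sylow.ext
      exact Subgroup.eq_of_le_of_card_ge hle (by rw [hP, hR])
    have hDcard : Nat.card ((R : Subgroup G) ⊓ (P : Subgroup G) : Subgroup G) = 5 := by
      have h1 := card_mul_relIndex (inf_le_right : (R : Subgroup G) ⊓ (P : Subgroup G) ≤ P)
      rw [Subgroup.inf_relIndex_right, hP] at h1
      obtain ⟨i, hi⟩ : ∃ i, i = (R : Subgroup G).relIndex (P : Subgroup G) := ⟨_, rfl⟩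
      rw [← hi] at h1 hidx' hidx1
      have hi0 : i ≠ 0 := by
        rintro rfl
        omega
      interval_cases i <;> omega
    -- P and R are commutative, so they normalize D
    have hcomm : ∀ S : Sylow 5 G, (S : Subgroup G) ≤
        Subgroup.centralizer ((S : Subgroup G) : Set G) := by
      intro S
      rw [Subgroup.le_centralizer_iff_isMulCommutative]
      exact IsPGroup.isMulCommutative_of_card_eq_prime_sq (p := 5) (by rw [hcard25 S]; norm_num)
    have hPN : (P : Subgroup G) ≤ Subgroup.normalizer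
        (((R : Subgroup G) ⊓ (P : Subgroup G) : Subgroup G) : Set G) :=
      ((hcomm P).trans (Subgroup.centralizer_le (by
        intro x hx; exact (inf_le_right : (R : Subgroup G) ⊓ (P : Subgroup G) ≤ P) hx))).trans
        (Subgroup.centralizer_le_normalizer _)
    have hRN : (R : Subgroup G) ≤ Subgroup.normalizer
        (((R : Subgroup G) ⊓ (P : Subgroup G) : Subgroup G) : Set G) :=
      ((hcomm R).trans (Subgroup.centralizer_le (by
        intro x hx; exact (inf_le_left : (R : Subgroup G) ⊓ (P : Subgroup G) ≤ R) hx))).trans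
        (Subgroup.centralizer_le_normalizer _)
    obtain ⟨N, hN⟩ : ∃ N : Subgroup G, N = Subgroup.normalizer
        (((R : Subgroup G) ⊓ (P : Subgroup G) : Subgroup G) : Set G) := ⟨_, rfl⟩
    rw [← hN] at hPN hRN
    -- N is proper
    have hNtop : N ≠ ⊤ := by
      intro h
      rw [hN, Subgroup.normalizer_eq_top_iff] at h
      rcases h.eq_bot_or_eq_top with h' | h'
      · rw [h'] at hDcard
        simp at hDcard
      · rw [h', Subgroup.card_top, hG] at hDcard
        norm_num at hDcard
    -- Sylow subgroups of N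
    have hne : P.subtype hPN ≠ R.subtype hRN := fun h => hPR (Sylow.subtype_injective h)
    have hnN1 : Nat.card (Sylow 5 N) ≠ 1 := by
      intro h
      have : Subsingleton (Sylow 5 N) := (Nat.card_eq_one_iff_unique.mp h).1
      exact hne (Subsingleton.elim _ _)
    have hnN0 : Nat.card (Sylow 5 N) ≠ 0 := Nat.card_pos.ne'
    have hmodN : Nat.card (Sylow 5 N) ≡ 1 [MOD 5] := card_sylow_modEq_one 5 N
    have hdvdN : Nat.card (Sylow 5 N) ∣ ((P.subtype hPN : Sylow 5 N) : Subgroup N).index :=
      Sylow.card_dvd_index _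
    -- |N| = 25 * index of P in N
    have hcardPN : Nat.card ((P.subtype hPN : Sylow 5 N) : Subgroup N) = 25 := by
      rw [Sylow.coe_subtype]
      have : Nat.card ((P : Subgroup G).subgroupOf N) = Nat.card (P : Subgroup G) :=
        Nat.card_congr (Subgroup.subgroupOfEquivOfLe hPN).toEquiv
      rw [this, hP]
    have hcardN : 25 * ((P.subtype hPN : Sylow 5 N) : Subgroup N).index = Nat.card N := by
      rw [← hcardPN]
      exact Subgroup.card_mul_index _
    have hNidx : Nat.card N * N.index = 1200 := by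
      rw [← hG]; exact Subgroup.card_mul_index N
    rw [← hcardN] at hNidx
    have h48 : ((P.subtype hPN : Sylow 5 N) : Subgroup N).index * N.index = 48 := by
      have h1 : 25 * (((P.subtype hPN : Sylow 5 N) : Subgroup N).index * N.index) = 25 * 48 := by
        rw [← mul_assoc, hNidx]
      exact Nat.eq_of_mul_eq_mul_left (by norm_num) h1
    have hj8 : N.index ≤ 8 := num_aux2 _ _ _ hmodN hnN1 hnN0 hdvdN h48
    have hfac := card_dvd_factorial_index_of_simple N hNtop
    have hfac2 : Nat.card G ∣ Nat.factorial 8 := hfac.trans (Nat.factorial_dvd_factorial hj8)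
    rw [hG] at hfac2
    revert hfac2
    decide

end Cfsg.Agent.S1015
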