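-- Statement S1017.
import Mathlib
import Cfsg.Statements.S1017
import Cfsg.Agent.Lib.Helper29.PrimeOnce

set_option autoImplicit false
open Cfsg

namespace Cfsg.Agent.S1017

/-- No finite simple group has order 2016 = 2^5 * 3^2 * 7. -/
theorem result {G : Type*} [Group G] [Finite G] [IsSimpleGroup G] : Nat.card G ≠ 2016 := by
  intro hG
  obtain ⟨e, n, he, he1, hmod, hen⟩ := Cfsg.Agent.Helper29.PrimeOnce.exists_relIndex (G := G)
    2 3 7 5 2 Nat.prime_two Nat.prime_three (by norm_num) (by norm_num) (by norm_num)
    (by norm_num) (by rw [hG]; norm_num) (by norm_num)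
  have he6 : e ≤ 6 := Nat.le_of_dvd (by norm_num) he
  unfold Nat.ModEq at hmod
  norm_num at hen he
  interval_cases e <;> omega

end Cfsg.Agent.S1017
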