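-- Statement S1021.
import Cfsg.Statements.S1021
import Mathlib
import Cfsg.Agent.Lib.Helper4.PSLp3
import Cfsg.Agent.Lib.Helper29.PSLpCertMore

set_option autoImplicit false
open Cfsg

namespace Cfsg.Agent.S1021

/-- A simple group of order 3420 is isomorphic to the projective special linear group of dimension 2 over the field with 19 elements. -/
theorem result {G : Type*} [Group G] [Finite G] [IsSimpleGroup G] (h : Nat.card G = 3420) {F : Type*} [Field F] [Fintype F] (hF : Fintype.card F = 19) : Nonempty (G ≃* Matrix.ProjectiveSpecialLinearGroup (Fin 2) F) := by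
  haveI : Fact (Nat.Prime 19) := ⟨by norm_num⟩
  have hG : 2 * Nat.card G = 19 * (19 ^ 2 - 1) := by rw [h]; norm_num
  obtain ⟨S⟩ := Cfsg.Agent.Helper4.PSLp.exists_setup (G := G) 19 (by norm_num) hG (by decide)
  exact Cfsg.Agent.Helper4.PSLp.transport (by norm_num) hF
    (S.nonempty_mulEquiv 2 [0, 0, 1, 13, 2, 16, 14, 6, 3, 8, 17, 12, 15, 5, 7, 11, 4, 10, 9] False
      (Cfsg.Agent.Helper29.PSLpMore.cert_of_certFast _ _ Cfsg.Agent.Helper29.PSLpMore.cert19)
      (by decide +revert) (by decide +revert) (fun h => h.elim))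

end Cfsg.Agent.S1021
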