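import Cfsg.Statements.S1024
import Cfsg.Agent.Lib.Helper8.ChevD
import Cfsg.Agent.Lib.Helper8.ChevT0

set_option autoImplicit false
open Cfsg

namespace Cfsg.Agent.S1024

open Cfsg.Agent.Lib.Helper8.Chev

/-- In each Chevalley group of type G₂, B₂, D₄, F₄, E₆, E₇ or E₈ the root element x_r(0) is the identity matrix, and x_r(t) is the identity only for t = 0. -/
theorem result {F : Type*} [Field F] (D : Cfsg.Lie.ChevalleyDatum) (hD : D ∈ [Cfsg.Lie.chevG2, Cfsg.Lie.chevB2, Cfsg.Lie.chevD4, Cfsg.Lie.chevF4, Cfsg.Lie.chevE6, Cfsg.Lie.chevE7, Cfsg.Lie.chevE8]) (r : ℕ) (hr : r < D.nroots) (t : F) :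
    D.x F r t = 1 ↔ t = 0 := by
  rw [x_eq_xN]
  exact xN_eq_one_iff (valid0_of_mem hD) F hr t

end Cfsg.Agent.S1024
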