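import Cfsg.Statements.S1028
import Cfsg.Agent.Lib.Helper8.ChevU3

set_option autoImplicit false
open Cfsg

namespace Cfsg.Agent.S1028

open Cfsg.Agent.Lib.Helper8.Chev

/-- Every element g of the positive unipotent subgroup satisfies (g - 1)^(rank + nroots) = 0. -/
theorem result {F : Type*} [Field F] (D : Cfsg.Lie.ChevalleyDatum) (hD : D ∈ [Cfsg.Lie.chevG2, Cfsg.Lie.chevB2, Cfsg.Lie.chevD4, Cfsg.Lie.chevF4, Cfsg.Lie.chevE6, Cfsg.Lie.chevE7, Cfsg.Lie.chevE8]) (g : GL D.Idx F) (hg : g ∈ D.posUnipotent F) :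
    ((g : Matrix D.Idx D.Idx F) - 1) ^ (D.rank + D.nroots) = 0 := by
  have h := posUnipotent_sub_one_mem (valid0_of_mem hD) (valid1_of_mem hD) (triP_of_mem hD)
    (posP_of_mem hD) hg
  exact eq_zero_of_mem_LowK (by omega) (LowK_pow h _)

end Cfsg.Agent.S1028
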