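import Cfsg.Statements.S1041
import Cfsg.Agent.Lib.Helper8.ChevE

set_option autoImplicit false
open Cfsg

namespace Cfsg.Agent.S1041

open Cfsg.Agent.Lib.Helper8.Chev

/-- A Chevalley group of type G₂, B₂, D₄, F₄, E₆, E₇ or E₈ is generated by U and V. -/
theorem result {F : Type*} [Field F] (D : Cfsg.Lie.ChevalleyDatum) (hD : D ∈ [Cfsg.Lie.chevG2, Cfsg.Lie.chevB2, Cfsg.Lie.chevD4, Cfsg.Lie.chevF4, Cfsg.Lie.chevE6, Cfsg.Lie.chevE7, Cfsg.Lie.chevE8]) : D.posUnipotent F ⊔ D.negUnipotent F = D.group F := by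
  have hpn := posneg_of_mem hD
  apply le_antisymm
  · rw [sup_le_iff]
    constructor
    · unfold Cfsg.Lie.ChevalleyDatum.posUnipotent Cfsg.Lie.ChevalleyDatum.group
      apply Subgroup.closure_mono
      rintro g ⟨r, t, hr, hg⟩
      refine ⟨⟨r, hr.1⟩, t, ?_⟩
      rw [hg]; unfold Cfsg.Lie.ChevalleyDatum.x; rw [dif_pos hr.1]
    · unfold Cfsg.Lie.ChevalleyDatum.negUnipotent Cfsg.Lie.ChevalleyDatum.group
      apply Subgroup.closure_mono
      rintro g ⟨r, t, hr, hg⟩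
      refine ⟨⟨r, hr.1⟩, t, ?_⟩
      rw [hg]; unfold Cfsg.Lie.ChevalleyDatum.x; rw [dif_pos hr.1]
  · unfold Cfsg.Lie.ChevalleyDatum.group
    rw [Subgroup.closure_le]
    rintro g ⟨r, t, hg⟩
    have hx : (g : Matrix D.Idx D.Idx F) = D.x F r.val t := by
      rw [hg]; unfold Cfsg.Lie.ChevalleyDatum.x; rw [dif_pos r.isLt]
    rcases hpn r.val r.isLt with h | h
    · exact (le_sup_left : D.posUnipotent F ≤ _) (Subgroup.subset_closure ⟨r.val, t, h, hx⟩)
    · exact (le_sup_right : D.negUnipotent F ≤ _) (Subgroup.subset_closure ⟨r.val, t, h, hx⟩)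

end Cfsg.Agent.S1041
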