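import Cfsg.Statements.S1043
import Cfsg.Agent.Lib.Helper8.ChevW2

set_option autoImplicit false
open Cfsg

namespace Cfsg.Agent.S1043

open Cfsg.Agent.Lib.Helper8.Chev Cfsg.Lie Matrix

/-- `B ≤ G`, `N ≤ G` and `B ⊔ N = G` for the Chevalley group `G` generated by all root elements. -/
theorem result {F : Type*} [Field F] (D : Cfsg.Lie.ChevalleyDatum) (hD : D ∈ [Cfsg.Lie.chevG2, Cfsg.Lie.chevB2, Cfsg.Lie.chevD4, Cfsg.Lie.chevF4, Cfsg.Lie.chevE6, Cfsg.Lie.chevE7, Cfsg.Lie.chevE8]) :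
    D.borelSubgroup F ≤ D.group F ∧ D.monomialSubgroup F ≤ D.group F ∧ D.borelSubgroup F ⊔ D.monomialSubgroup F = D.group F := by
  have V := valid0_of_mem hD
  have V1 := valid1_of_mem hD
  have P := posP_of_mem hD
  refine ⟨borel_le_group V V1, monomial_le_group V V1,
    le_antisymm (sup_le (borel_le_group V V1) (monomial_le_group V V1)) ?_⟩
  obtain ⟨n, hn, σ, τ, hσ, hτ, h1, h2⟩ := exists_w0 (F := F) hD
  have hUB : D.posUnipotent F ≤ D.borelSubgroup F ⊔ D.monomialSubgroup F :=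
    le_trans (le_sup_left : D.posUnipotent F ≤ D.posUnipotent F ⊔ D.diagonalSubgroup F) le_sup_left
  have hN : n ∈ D.borelSubgroup F ⊔ D.monomialSubgroup F := Subgroup.mem_sup_right hn
  intro g hg
  have hcl : D.group F ≤ D.borelSubgroup F ⊔ D.monomialSubgroup F := by
    unfold ChevalleyDatum.group
    rw [Subgroup.closure_le]
    rintro g ⟨r, t, hg⟩
    have hx : (g : Matrix D.Idx D.Idx F) = D.x F r.val t := by
      rw [hg]; unfold ChevalleyDatum.x; rw [dif_pos r.isLt]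
    by_cases hr : D.nroots / 2 ≤ r.val
    · have hpos := (P r.val r.isLt).1.mpr hr
      exact hUB (Subgroup.subset_closure ⟨r.val, t, hpos, hx⟩)
    · rw [not_le] at hr
      obtain ⟨ε, he⟩ := rootPerm_conj hτ r.isLt t g hx
      have hlt := (hτ r.val r.isLt).1
      have hpos := (P _ hlt).1.mpr (h2 r.val hr)
      have hu : n⁻¹ * g * n⁻¹⁻¹ ∈ D.posUnipotent F :=
        Subgroup.subset_closure ⟨τ r.val, ε * t, hpos, he⟩
      have e : g = n * (n⁻¹ * g * n⁻¹⁻¹) * n⁻¹ := by group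
      rw [SetLike.mem_coe, e]
      exact mul_mem (mul_mem hN (hUB hu)) (inv_mem hN)
  exact hcl hg

end Cfsg.Agent.S1043
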