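import Cfsg.Statements.S1053
import Cfsg.Agent.Lib.Helper8.ChevW2

set_option autoImplicit false
open Cfsg

namespace Cfsg.Agent.S1053

open Cfsg.Agent.Lib.Helper8.Chev Cfsg.Lie Matrix

/-- There is `n₀ ∈ N` with `n₀ U n₀⁻¹ = V` (a representative of the longest element of the Weyl group). -/
theorem result {F : Type*} [Field F] (D : Cfsg.Lie.ChevalleyDatum) (hD : D ∈ [Cfsg.Lie.chevG2, Cfsg.Lie.chevB2, Cfsg.Lie.chevD4, Cfsg.Lie.chevF4, Cfsg.Lie.chevE6, Cfsg.Lie.chevE7, Cfsg.Lie.chevE8]) :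
    ∃ n ∈ D.monomialSubgroup F, (D.posUnipotent F).map (MulAut.conj n).toMonoidHom = D.negUnipotent F := by
  have V := valid0_of_mem hD
  have V1 := valid1_of_mem hD
  have P := posP_of_mem hD
  obtain ⟨n, hn, σ, τ, hσ, hτ, h1, h2⟩ := exists_w0 (F := F) hD
  refine ⟨n, hn, le_antisymm ?_ ?_⟩
  · unfold ChevalleyDatum.posUnipotent
    rw [MonoidHom.map_closure, Subgroup.closure_le]
    rintro _ ⟨g, ⟨r, t, hr, hg⟩, rfl⟩
    obtain ⟨ε, he⟩ := rootPerm_conj hσ hr.1 t g hg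
    have hpos := (P r hr.1).1.mp hr
    have hlt := (hσ r hr.1).1
    have hneg := (P _ hlt).2.mpr (h1 r hpos hr.1)
    exact Subgroup.subset_closure ⟨σ r, ε * t, hneg, he⟩
  · unfold ChevalleyDatum.negUnipotent
    rw [Subgroup.closure_le]
    rintro g ⟨s, t, hs, hg⟩
    have hneg := (P s hs.1).2.mp hs
    obtain ⟨ε, he⟩ := rootPerm_conj hτ hs.1 t g hg
    have hlt := (hτ s hs.1).1
    have hpos := (P _ hlt).1.mpr (h2 s hneg)
    have hu : n⁻¹ * g * n⁻¹⁻¹ ∈ D.posUnipotent F :=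
      Subgroup.subset_closure ⟨τ s, ε * t, hpos, he⟩
    rw [SetLike.mem_coe, Subgroup.mem_map]
    refine ⟨n⁻¹ * g * n⁻¹⁻¹, hu, ?_⟩
    show n * (n⁻¹ * g * n⁻¹⁻¹) * n⁻¹ = g
    group

end Cfsg.Agent.S1053
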