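import Cfsg.Statements.S1060
import Cfsg.Agent.Lib.Helper8.ChevOrd3
import Cfsg.Agent.Lib.Helper8.ChevWC_B2

set_option autoImplicit false
open Cfsg

namespace Cfsg.Agent.S1060

open Cfsg.Agent.Lib.Helper8.Chev Cfsg.Agent.Lib.Helper8.Weyl Cfsg.Lie Matrix

/-- `gcd(2, q-1) · |B₂(q)| = q⁴ (q² - 1)(q⁴ - 1)`. -/
theorem result {F : Type*} [Field F] [Fintype F] {q : ℕ} (hq : Fintype.card F = q) : Nat.gcd 2 (q - 1) * Nat.card ↥(Cfsg.Lie.chevB2.group F) = q ^ 4 * (q ^ 2 - 1) * (q ^ 4 - 1) := by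
  have hD : chevB2 ∈ [chevG2, chevB2, chevD4, chevF4, chevE6, chevE7, chevE8] := by simp
  have hd : Nat.gcd 2 (q - 1) * Nat.card ↥(chevB2.diagonalSubgroup F) = (q - 1) ^ chevB2.rank := by
    subst hq
    have key := card_diagonal_aux_B2 (F := F)
    simp only [Finset.prod_range_succ, Finset.prod_range_zero, nthF_eq_getD, List.getD_cons_zero,
      List.getD_cons_succ, Nat.gcd_one_right, one_mul, mul_one] at key
    show _ = (Fintype.card F - 1) ^ 2
    rw [Nat.gcd_comm]
    exact key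
  have key := order_formula (F := F) hD checkSS_B2 checkCS_B2 checkCI_B2 checkPL_B2
    checkChain_B2 poly_B2 hq hd
  have hN : chevB2.nroots / 2 = 4 := rfl
  rw [hN] at key
  simp only [List.map_cons, List.map_nil, List.prod_cons, List.prod_nil, mul_one, one_mul] at key
  rw [key]
  ring

end Cfsg.Agent.S1060
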