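import Cfsg.Statements.S1058
import Cfsg.Agent.S1060

set_option autoImplicit false
open Cfsg

namespace Cfsg.Agent.S1058

open Cfsg.Lie Matrix Cfsg.Agent.Lib.Helper8.Chev

/-- six functionals over `ZMod 2` permuted by `B₂(2)` -/
def fv : Fin 6 → (chevB2.Idx → ZMod 2) :=
  ![Sum.elim ![0, 1] ![1, 0, 0, 1, 1, 0, 0, 0],
    Sum.elim ![0, 1] ![0, 0, 0, 1, 1, 0, 0, 0],
    Sum.elim ![0, 1] ![0, 0, 0, 1, 1, 0, 0, 1],
    Sum.elim ![0, 1] ![1, 0, 0, 0, 1, 0, 0, 1],
    Sum.elim ![0, 1] ![1, 0, 0, 0, 0, 0, 0, 1],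
    Sum.elim ![0, 1] ![1, 0, 0, 1, 0, 0, 0, 1]]

/-- the permutations induced by the eight root elements `x_r(1)` -/
def sigF : Fin 8 → Fin 6 → Fin 6 :=
  ![![0, 2, 1, 3, 4, 5],
    ![5, 2, 1, 4, 3, 0],
    ![3, 2, 1, 0, 5, 4],
    ![0, 1, 2, 4, 3, 5],
    ![0, 1, 2, 3, 5, 4],
    ![1, 0, 5, 4, 3, 2],
    ![1, 0, 3, 2, 5, 4],
    ![1, 0, 2, 3, 4, 5]]

theorem check_act : ∀ (r : Fin 8) (k : Fin 6),
    fv k ᵥ* xR chevB2 (ZMod 2) r 1 = fv (sigF r k) := by
  decide +kernel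

theorem check_act0 : ∀ (r : Fin 8) (k : Fin 6),
    fv k ᵥ* xR chevB2 (ZMod 2) r 0 = fv k := by
  decide +kernel

theorem sigF_invol : ∀ (r : Fin 8) (k : Fin 6), sigF r (sigF r k) = k := by decide

theorem fv_inj : ∀ (k j : Fin 6), fv k = fv j → k = j := by decide +kernel

def sig (r : Fin 8) : Equiv.Perm (Fin 6) :=
  ⟨sigF r, sigF r, sigF_invol r, sigF_invol r⟩

theorem sig_gen : ∀ i : Fin 5, Equiv.swap i.castSucc i.succ ∈
    ({sig 7, sig 0, sig 2 * sig 7 * sig 2, sig 3, sig 4} : Set (Equiv.Perm (Fin 6))) := by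
  decide

theorem zmod2_cases : ∀ t : ZMod 2, t = 0 ∨ t = 1 := by decide

section

variable {F : Type*} [Field F]

/-- the functionals over `F` -/
def fvF (φ : ZMod 2 →+* F) (k : Fin 6) : chevB2.Idx → F := fun i => φ (fv k i)

theorem fvF_inj (φ : ZMod 2 →+* F) : Function.Injective (fvF φ) := by
  intro k j h
  apply fv_inj
  funext i
  exact φ.injective (congrFun h i)

theorem fvF_map (φ : ZMod 2 →+* F) (k : Fin 6) (M : Matrix chevB2.Idx chevB2.Idx (ZMod 2)) :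
    fvF φ k ᵥ* M.map φ = fun i => φ ((fv k ᵥ* M) i) := by
  funext i
  exact (RingHom.map_vecMul φ M (fv k) i).symm

/-- the action of a generator -/
theorem fvF_xMat (φ : ZMod 2 →+* F) (hφ : Function.Surjective φ) (r : Fin 8) (t : F) :
    ∃ τ : Fin 6 → Fin 6, (∀ k, τ (τ k) = k) ∧ (t = 1 → τ = sigF r) ∧
      ∀ k, fvF φ k ᵥ* chevB2.xMat F r t = fvF φ (τ k) := by
  obtain ⟨t', rfl⟩ := hφ t
  have hx : chevB2.xMat F r (φ t') = (xR chevB2 (ZMod 2) r t').map φ :=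
    (xMat_eq_xR chevB2 F r (φ t')).trans (map_xR chevB2 φ r t').symm
  rcases zmod2_cases t' with rfl | rfl
  · refine ⟨id, fun _ => rfl, ?_, fun k => ?_⟩
    · intro h
      rw [map_zero] at h
      exact absurd h zero_ne_one
    · rw [hx, fvF_map, check_act0]
      rfl
  · refine ⟨sigF r, sigF_invol r, fun _ => rfl, fun k => ?_⟩
    rw [hx, fvF_map, check_act]
    rfl

/-- the matrices permuting the six functionals -/
def stabA (φ : ZMod 2 →+* F) : Subgroup (GL chevB2.Idx F) where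
  carrier := {g | ∃ σ : Equiv.Perm (Fin 6), ∀ k,
    fvF φ k ᵥ* ((g⁻¹ : GL chevB2.Idx F) : Matrix chevB2.Idx chevB2.Idx F) = fvF φ (σ k)}
  mul_mem' := by
    rintro g h ⟨σ, hσ⟩ ⟨τ, hτ⟩
    refine ⟨σ * τ, fun k => ?_⟩
    rw [_root_.mul_inv_rev, Units.val_mul, ← Matrix.vecMul_vecMul, hτ, hσ]
    rfl
  one_mem' := ⟨1, fun k => by simp⟩
  inv_mem' := by
    rintro g ⟨σ, hσ⟩
    refine ⟨σ⁻¹, fun k => ?_⟩
    have h1 : fvF φ (σ⁻¹ k) ᵥ* ((g⁻¹ : GL chevB2.Idx F) : Matrix chevB2.Idx chevB2.Idx F) =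
        fvF φ k := by
      simpa using hσ (σ⁻¹ k)
    rw [inv_inv, ← h1, Matrix.vecMul_vecMul, ← Units.val_mul, inv_mul_cancel, Units.val_one,
      Matrix.vecMul_one]

theorem gen_mem_stabA (φ : ZMod 2 →+* F) (hφ : Function.Surjective φ) (r : Fin 8) (t : F)
    (g : GL chevB2.Idx F) (hg : (g : Matrix chevB2.Idx chevB2.Idx F) = chevB2.xMat F r t) :
    ∃ τ : Fin 6 → Fin 6, (∀ k, τ (τ k) = k) ∧ (t = 1 → τ = sigF r) ∧
      ∀ k, fvF φ k ᵥ* ((g⁻¹ : GL chevB2.Idx F) : Matrix chevB2.Idx chevB2.Idx F) =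
        fvF φ (τ k) := by
  obtain ⟨τ, hτ, h1, hact⟩ := fvF_xMat φ hφ r t
  refine ⟨τ, hτ, h1, fun k => ?_⟩
  have h2 := hact (τ k)
  rw [hτ, ← hg] at h2
  rw [← h2, Matrix.vecMul_vecMul, ← Units.val_mul, mul_inv_cancel, Units.val_one,
    Matrix.vecMul_one]

theorem group_le_stabA (φ : ZMod 2 →+* F) (hφ : Function.Surjective φ) :
    chevB2.group F ≤ stabA φ := by
  unfold ChevalleyDatum.group
  rw [Subgroup.closure_le]
  rintro g ⟨r, t, hg⟩
  obtain ⟨τ, hτ, -, hact⟩ := gen_mem_stabA φ hφ r t g hg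
  exact ⟨⟨τ, τ, hτ, hτ⟩, hact⟩

/-- the permutation induced by an element of the group -/
noncomputable def psiFun (φ : ZMod 2 →+* F) (hφ : Function.Surjective φ)
    (g : ↥(chevB2.group F)) : Equiv.Perm (Fin 6) :=
  Classical.choose (group_le_stabA φ hφ g.2)

theorem psiFun_spec (φ : ZMod 2 →+* F) (hφ : Function.Surjective φ) (g : ↥(chevB2.group F))
    (k : Fin 6) :
    fvF φ k ᵥ* (((g : GL chevB2.Idx F)⁻¹ : GL chevB2.Idx F) : Matrix chevB2.Idx chevB2.Idx F) =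
      fvF φ (psiFun φ hφ g k) :=
  Classical.choose_spec (group_le_stabA φ hφ g.2) k

theorem psiFun_unique (φ : ZMod 2 →+* F) (hφ : Function.Surjective φ) (g : ↥(chevB2.group F))
    (σ : Equiv.Perm (Fin 6))
    (h : ∀ k, fvF φ k ᵥ* (((g : GL chevB2.Idx F)⁻¹ : GL chevB2.Idx F) :
      Matrix chevB2.Idx chevB2.Idx F) = fvF φ (σ k)) : psiFun φ hφ g = σ := by
  ext k
  have := (psiFun_spec φ hφ g k).symm.trans (h k)
  rw [fvF_inj φ this]

/-- the homomorphism to `S₆` -/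
noncomputable def psi (φ : ZMod 2 →+* F) (hφ : Function.Surjective φ) :
    ↥(chevB2.group F) →* Equiv.Perm (Fin 6) :=
  MonoidHom.mk' (psiFun φ hφ) (by
    intro g h
    apply psiFun_unique
    intro k
    rw [Subgroup.coe_mul, _root_.mul_inv_rev, Units.val_mul, ← Matrix.vecMul_vecMul, psiFun_spec,
      psiFun_spec]
    rfl)

theorem sig_mem_range (φ : ZMod 2 →+* F) (hφ : Function.Surjective φ) (r : Fin 8) :
    sig r ∈ (psi φ hφ).range := by
  have hD : chevB2 ∈ [chevG2, chevB2, chevD4, chevF4, chevE6, chevE7, chevE8] := by simp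
  have V := valid0_of_mem hD
  have V1 := valid1_of_mem hD
  obtain ⟨g, hg⟩ := exists_unit_x (F := F) V V1 (r := r.val) r.isLt 1
  have hg' : (g : Matrix chevB2.Idx chevB2.Idx F) = chevB2.xMat F r 1 := by
    have hr : r.val < chevB2.nroots := r.isLt
    rw [hg]; unfold ChevalleyDatum.x; rw [dif_pos hr]; rfl
  have hmem : g ∈ chevB2.group F := x_mem_group r.isLt 1 g hg
  refine ⟨⟨g, hmem⟩, ?_⟩
  obtain ⟨τ, hτ, h1, hact⟩ := gen_mem_stabA φ hφ r 1 g hg'
  show psiFun φ hφ ⟨g, hmem⟩ = sig r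
  apply psiFun_unique
  intro k
  rw [hact k, h1 rfl]
  rfl

theorem psi_surjective (φ : ZMod 2 →+* F) (hφ : Function.Surjective φ) :
    Function.Surjective (psi φ hφ) := by
  rw [← MonoidHom.range_eq_top, eq_top_iff]
  have h := Equiv.Perm.mclosure_swap_castSucc_succ 5
  intro σ _
  have hσ : σ ∈ Submonoid.closure (Set.range fun i : Fin 5 => Equiv.swap i.castSucc i.succ) := by
    rw [h]; trivial
  have hle : Submonoid.closure (Set.range fun i : Fin 5 => Equiv.swap i.castSucc i.succ) ≤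
      (psi φ hφ).range.toSubmonoid := by
    rw [Submonoid.closure_le]
    rintro _ ⟨i, rfl⟩
    have hm := sig_gen i
    simp only [Set.mem_insert_iff, Set.mem_singleton_iff] at hm
    show Equiv.swap i.castSucc i.succ ∈ (psi φ hφ).range
    rcases hm with hm | hm | hm | hm | hm <;> rw [hm]
    · exact sig_mem_range φ hφ 7
    · exact sig_mem_range φ hφ 0
    · exact mul_mem (mul_mem (sig_mem_range φ hφ 2) (sig_mem_range φ hφ 7))
        (sig_mem_range φ hφ 2)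
    · exact sig_mem_range φ hφ 3
    · exact sig_mem_range φ hφ 4
  exact hle hσ

end

/-- B₂(2) ≅ S₆. -/
theorem result {F : Type*} [Field F] [Fintype F] (hF : Fintype.card F = 2) :
    Nonempty (↥(Cfsg.Lie.chevB2.group F) ≃* Equiv.Perm (Fin 6)) := by
  let e : ZMod 2 ≃+* F := ZMod.ringEquivOfPrime F Nat.prime_two hF
  let φ : ZMod 2 →+* F := e.toRingHom
  have hφ : Function.Surjective φ := e.surjective
  have hcard : Nat.card ↥(chevB2.group F) = 720 := by
    have := Cfsg.Agent.S1060.result hF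
    norm_num at this
    exact this
  have hperm : Nat.card (Equiv.Perm (Fin 6)) = 720 := by
    rw [Nat.card_eq_fintype_card, Fintype.card_perm, Fintype.card_fin]
    rfl
  have hbij : Function.Bijective (psi φ hφ) :=
    (psi_surjective φ hφ).bijective_of_nat_card_le (by rw [hcard, hperm])
  exact ⟨MulEquiv.ofBijective (psi φ hφ) hbij⟩

end Cfsg.Agent.S1058
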