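import Cfsg.Statements.S1061
import Cfsg.Agent.Lib.Helper8.ChevOrd3
import Cfsg.Agent.Lib.Helper8.ChevWC_D4

set_option autoImplicit false
open Cfsg

namespace Cfsg.Agent.S1061

open Cfsg.Agent.Lib.Helper8.Chev Cfsg.Agent.Lib.Helper8.Weyl Cfsg.Lie Matrix

/-- `gcd(2, q-1)² · |D₄(q)| = q¹² (q² - 1)(q⁴ - 1)(q⁴ - 1)(q⁶ - 1)`. -/
theorem result {F : Type*} [Field F] [Fintype F] {q : ℕ} (hq : Fintype.card F = q) : Nat.gcd 2 (q - 1) ^ 2 * Nat.card ↥(Cfsg.Lie.chevD4.group F) = q ^ 12 * (q ^ 2 - 1) * (q ^ 4 - 1) * (q ^ 4 - 1) * (q ^ 6 - 1) := by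
  have hD : chevD4 ∈ [chevG2, chevB2, chevD4, chevF4, chevE6, chevE7, chevE8] := by simp
  have hd : Nat.gcd 2 (q - 1) ^ 2 * Nat.card ↥(chevD4.diagonalSubgroup F) = (q - 1) ^ chevD4.rank := by
    subst hq
    have key := card_diagonal_aux_D4 (F := F)
    simp only [Finset.prod_range_succ, Finset.prod_range_zero, nthF_eq_getD, List.getD_cons_zero,
      List.getD_cons_succ, Nat.gcd_one_right, one_mul, mul_one] at key
    show _ = (Fintype.card F - 1) ^ 4
    rw [Nat.gcd_comm, sq]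
    exact key
  have key := order_formula (F := F) hD checkSS_D4 checkCS_D4 checkCI_D4 checkPL_D4
    checkChain_D4 poly_D4 hq hd
  have hN : chevD4.nroots / 2 = 12 := rfl
  rw [hN] at key
  simp only [List.map_cons, List.map_nil, List.prod_cons, List.prod_nil, mul_one, one_mul] at key
  rw [key]
  ring

end Cfsg.Agent.S1061
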