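import Cfsg.Statements.S1069
import Cfsg.Agent.Lib.Helper8.ChevRee21

set_option autoImplicit false
open Cfsg

namespace Cfsg.Agent.S1069

theorem result {K : Type*} [Field K] [Fintype K] {m : ℕ} (hK : Fintype.card K = 3 ^ (2 * m + 1)) :
    Nat.card ↥(Cfsg.Lie.twistedG2 K (3 ^ m)) = (3 ^ (2 * m + 1)) ^ 3 * (3 ^ (2 * m + 1) - 1) * ((3 ^ (2 * m + 1)) ^ 3 + 1) := by
  open Cfsg.Agent.Lib.Helper8.Chev in
  obtain ⟨φ, ψ, hF⟩ := exists_reeField hK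
  obtain ⟨τ, hτ⟩ := exists_reeAut hK m
  exact card_twistedG2 hF hK hτ

end Cfsg.Agent.S1069
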