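import Cfsg.Statements.S1075
import Cfsg.Agent.Lib.Helper7.Ree3D
import Cfsg.Agent.S1011

set_option autoImplicit false
open Cfsg

namespace Cfsg.Agent.S1075

/-- The derived subgroup of ²G₂(3) (θ = identity over the field with three elements) has order 504 = 1512/3 and is isomorphic to PSL₂ over the field with eight elements. -/
theorem result {L : Type*} [Field L] [Fintype L] (hL : Fintype.card L = 8) :
    Nat.card ↥(commutator ↥(Cfsg.Lie.twistedG2 (ZMod 3) 1)) = 504 ∧
      Nonempty (↥(commutator ↥(Cfsg.Lie.twistedG2 (ZMod 3) 1)) ≃* Matrix.ProjectiveSpecialLinearGroup (Fin 2) L) := by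
  have hK : Fintype.card (ZMod 3) = 3 ^ (2 * 0 + 1) := by
    rw [ZMod.card]; norm_num
  have key : ∀ e : ℕ, e = 3 ^ 0 →
      Nat.card ↥(commutator ↥(Cfsg.Lie.twistedG2 (ZMod 3) e)) = 504 ∧
        IsSimpleGroup ↥(commutator ↥(Cfsg.Lie.twistedG2 (ZMod 3) e)) := by
    intro e he
    subst he
    exact Cfsg.Agent.Lib.Helper7.Ree3.ree3_main (K := ZMod 3) hK
  obtain ⟨h1, h2⟩ := key 1 (pow_zero 3).symm
  haveI := h2
  haveI : Finite ↥(commutator ↥(Cfsg.Lie.twistedG2 (ZMod 3) 1)) :=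
    Nat.finite_of_card_ne_zero (by rw [h1]; norm_num)
  exact ⟨h1, Cfsg.Agent.S1011.result h1 hL⟩

end Cfsg.Agent.S1075
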