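import Mathlib
import Cfsg.Statements.S1082
import Cfsg.Agent.Lib.Helper8.ChevSimp2
import Cfsg.Agent.Lib.Helper8.OrthJ
import Cfsg.Agent.Lib.Helper8.OrthK

set_option autoImplicit false
open Cfsg

namespace Cfsg.Agent.S1082

open Cfsg.Agent.Lib.Helper8.Chev Cfsg.Agent.Lib.Helper8.Orth Cfsg.Lie Matrix

theorem hD4 : chevD4 ∈ [chevG2, chevB2, chevD4, chevF4, chevE6, chevE7, chevE8] := by simp

/-- the group presented by (R1), (R2) of type `D₄` is perfect -/
theorem cover_perfect {F : Type*} [Field F] : commutator (chevD4.SteinbergCover F) = ⊤ := by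
  rw [eq_top_iff, ← scGen_closure, Subgroup.closure_le]
  rintro g ⟨r, hr, t, rfl⟩
  exact root_mem_commutator (chevD4.scGen F)
    (fun r hr s hs h1 h2 t u => scGen_comm hr hs h1 h2 t u) hr t

theorem scHom_ker_eq {F : Type*} [Field F] :
    (scHom hD4 F).ker = Subgroup.center (chevD4.SteinbergCover F) := by
  apply le_antisymm (scHom_ker_le hD4)
  intro z hz
  rw [MonoidHom.mem_ker]
  have hc : scHom hD4 F z ∈ Subgroup.center ↥(chevD4.group F) := by
    rw [Subgroup.mem_center_iff]
    intro g
    obtain ⟨s, rfl⟩ := scHom_surjective hD4 (K := F) g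
    rw [← map_mul, ← map_mul, (Subgroup.mem_center_iff.mp hz) s]
  rw [chev_center_eq_bot hD4, Subgroup.mem_bot] at hc
  exact hc

theorem omega_nontrivial {F : Type*} [Field F] : Nontrivial ↥(commutator (OG (Fin 4) F)) := by
  have h18 : (18 : ℕ) < 24 := by norm_num
  have hmem : X8 F 18 1 ∈ commutator (OG (Fin 4) F) :=
    root_mem_commutator (X8 F) (fun r hr s hs h1 h2 t u => X8_comm hr hs h1 h2 t u) h18 1
  refine ⟨⟨⟨X8 F 18 1, hmem⟩, 1, ?_⟩⟩
  intro h
  have h1 : X8 F 18 1 = 1 := congrArg Subtype.val h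
  have h2 := congrArg (fun g : OG (Fin 4) F => gv g (Pi.single (Sum.inl 1) 1) (Sum.inl 0)) h1
  simp only [gv_one] at h2
  rw [X8_of_lt h18, gv_sgO_apply] at h2
  have e1 : dec (ra 18) = Sum.inl 0 := rfl
  have e2 : dec (rb 18) = Sum.inl 1 := rfl
  rw [e1, e2, if_pos rfl, if_neg (by decide), Pi.single_eq_same,
    Pi.single_eq_of_ne (by decide)] at h2
  simp at h2

/-- D₄(F) ≅ PΩ₈⁺(F), the commutator subgroup of the orthogonal group of `Σ xᵢ yᵢ` modulo its centre. -/
theorem result {F : Type*} [Field F] : Nonempty (↥(Cfsg.Lie.chevD4.group F) ≃* Cfsg.POmega F (Cfsg.quadFormPlus 4 F)) := by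
  have hsimple := chev_simple (F := F) hD4 (by
    intro h
    exfalso
    rcases h with h | h <;>
      · have := congrArg ChevalleyDatum.nroots h
        revert this
        decide)
  have := hsimple.1
  have := omega_nontrivial (F := F)
  obtain ⟨φ, hφ⟩ := exists_coverHom (D := chevD4) (X8 F) (fun r hr t => X8_out hr t)
    (fun r hr t u => X8_add hr t u) (fun r hr s hs h1 h2 t u => X8_comm hr hs h1 h2 t u)
  have hmem : ∀ x, φ x ∈ commutator (OG (Fin 4) F) := by
    intro x
    have hx : x ∈ commutator (chevD4.SteinbergCover F) := by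
      rw [cover_perfect]; exact Subgroup.mem_top x
    have : (commutator (chevD4.SteinbergCover F)).map φ ≤ commutator (OG (Fin 4) F) := by
      rw [commutator_def, Subgroup.map_commutator, commutator_def]
      exact Subgroup.commutator_mono le_top le_top
    exact this (Subgroup.mem_map_of_mem φ hx)
  let β : chevD4.SteinbergCover F →* ↥(commutator (OG (Fin 4) F)) :=
    φ.codRestrict (commutator (OG (Fin 4) F)) hmem
  have hβ : Function.Surjective β := by
    rintro ⟨y, hy⟩
    have hy' : y ∈ φ.range := by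
      have hle : commutator (OG (Fin 4) F) ≤ φ.range := by
        rw [commutator_eq_E8, E8_eq_closure, Subgroup.closure_le]
        rintro g ⟨r, -, t, rfl⟩
        exact ⟨chevD4.scGen F r t, hφ r t⟩
      exact hle hy
    obtain ⟨x, hx⟩ := hy'
    exact ⟨x, Subtype.ext hx⟩
  have key : Nonempty (↥(chevD4.group F) ≃*
      (↥(commutator (OG (Fin 4) F)) ⧸ Subgroup.center ↥(commutator (OG (Fin 4) F)))) :=
    iso_of_two_covers (scHom hD4 F) (scHom_surjective hD4) scHom_ker_eq β hβ cover_perfect
  exact key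

end Cfsg.Agent.S1082
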