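import Mathlib
import Cfsg.Statements.S1083
import Cfsg.Agent.Lib.Helper8.ChevSimp2
import Cfsg.Agent.Lib.Helper8.ChevCov1
import Cfsg.Agent.Lib.Helper8.Orth5E
import Cfsg.Agent.Lib.Helper8.OrthK2

set_option autoImplicit false
open Cfsg

namespace Cfsg.Agent.S1083

open Cfsg.Agent.Lib.Helper8.Chev Cfsg.Agent.Lib.Helper8.Orth Cfsg.Agent.Lib.Helper8.Orth5 Cfsg.Lie
  Matrix

theorem hB2 : chevB2 ∈ [chevG2, chevB2, chevD4, chevF4, chevE6, chevE7, chevE8] := by simp

theorem scHom_ker_eq {F : Type*} [Field F] :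
    (scHom hB2 F).ker = Subgroup.center (chevB2.SteinbergCover F) := by
  apply le_antisymm (scHom_ker_le hB2)
  intro z hz
  rw [MonoidHom.mem_ker]
  have hc : scHom hB2 F z ∈ Subgroup.center ↥(chevB2.group F) := by
    rw [Subgroup.mem_center_iff]
    intro g
    obtain ⟨s, rfl⟩ := scHom_surjective hB2 (K := F) g
    rw [← map_mul, ← map_mul, (Subgroup.mem_center_iff.mp hz) s]
  rw [chev_center_eq_bot hB2, Subgroup.mem_bot] at hc
  exact hc

/-- B₂(F) ≅ PΩ₅(F) for the form `x₀² + x₁y₁ + x₂y₂`, over every field with more than two elements. -/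
theorem result {F : Type*} [Field F] (hF : ∃ a : F, a ≠ 0 ∧ a ≠ 1) :
    Nonempty (↥(Cfsg.Lie.chevB2.group F) ≃* Cfsg.POmega F (Cfsg.quadFormOdd 2 F)) := by
  have hsimple := chev_simple (F := F) hB2 (fun _ => hF)
  have := hsimple.1
  have h8 : chevB2.nroots = 8 := rfl
  obtain ⟨φ, hφ⟩ := exists_coverHom (D := chevB2) (X5 F) (fun r hr t => X5_out (by rwa [h8] at hr) t)
    (fun r _ t u => X5_add r t u)
    (fun r hr s hs h1 h2 t u => X5_comm (by rwa [h8] at hr) (by rwa [h8] at hs) h1 h2 t u)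
  have hcomm := commutator_eq_E5 hF
  have hrange : φ.range = commutator (O5 F) := by
    rw [hcomm]
    apply le_antisymm
    · rw [MonoidHom.range_eq_map, ← scGen_closure, MonoidHom.map_closure, Subgroup.closure_le]
      rintro g ⟨x, ⟨r, -, t, rfl⟩, rfl⟩
      rw [hφ]
      exact X5_mem r t
    · unfold E5
      rw [Subgroup.closure_le]
      rintro g ⟨r, t, rfl⟩
      exact ⟨chevB2.scGen F r t, hφ r t⟩
  have hmem : ∀ x, φ x ∈ commutator (O5 F) := by
    intro x
    rw [← hrange]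
    exact ⟨x, rfl⟩
  let β : chevB2.SteinbergCover F →* ↥(commutator (O5 F)) :=
    φ.codRestrict (commutator (O5 F)) hmem
  have hβ : Function.Surjective β := by
    rintro ⟨y, hy⟩
    rw [← hrange] at hy
    obtain ⟨x, hx⟩ := hy
    exact ⟨x, Subtype.ext hx⟩
  have hH : ∃ a b : ↥(commutator (O5 F)), a * b ≠ b * a := by
    have m4 : X5 F 4 1 ∈ commutator (O5 F) := by rw [hcomm]; exact X5_mem 4 1
    have m5 : X5 F 5 1 ∈ commutator (O5 F) := by rw [hcomm]; exact X5_mem 5 1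
    refine ⟨⟨X5 F 4 1, m4⟩, ⟨X5 F 5 1, m5⟩, ?_⟩
    intro h
    exact X5_not_comm (congrArg Subtype.val h)
  have key : Nonempty (↥(chevB2.group F) ≃*
      (↥(commutator (O5 F)) ⧸ Subgroup.center ↥(commutator (O5 F)))) :=
    iso_of_two_covers' (scHom hB2 F) (scHom_surjective hB2) scHom_ker_eq β hβ hH
  exact key

end Cfsg.Agent.S1083
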