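import Cfsg.Statements.S1098
import Cfsg.Agent.Lib.Helper8.ChevEx7
import Cfsg.Agent.Lib.Helper8.ChevEx3
import Cfsg.Agent.Lib.Helper8.ChevEx3G

set_option autoImplicit false
open Cfsg

namespace Cfsg.Agent.S1098

/-- Graph automorphisms in characteristic 2 (K perfect): for B₂ (a short, b long) `x_a(t) ↦ x_b(t²)`, `x_b(t) ↦ x_a(t)`, and for F₄ (p₁, p₂ short, p₃, p₄ long) `x_{p₁}(t) ↦ x_{p₄}(t²)`, `x_{p₂}(t) ↦ x_{p₃}(t²)`, `x_{p₃}(t) ↦ x_{p₂}(t)`, `x_{p₄}(t) ↦ x_{p₁}(t)`, likewise on the negatives, extend to an automorphism of the group. -/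
theorem result {K : Type*} [Field K] [CharP K 2] (hperf : ∀ x : K, ∃ y : K, y ^ 2 = x)
    (p : Cfsg.Lie.ChevalleyDatum × List (ℕ × ℕ))
    (hp : p ∈ [(Cfsg.Lie.chevB2, [(1, 2), (0, 1)]), (Cfsg.Lie.chevF4, [(3, 2), (2, 2), (1, 1), (0, 1)])]) :
    ∃ α : ↥(p.1.group K) ≃* ↥(p.1.group K), ∀ (g : ↥(p.1.group K)) (i : ℕ) (t : K), i < p.1.rank →
      (((g : GL p.1.Idx K) : Matrix p.1.Idx p.1.Idx K) = p.1.x K (p.1.simple i) t →
        ((α g : GL p.1.Idx K) : Matrix p.1.Idx p.1.Idx K) = p.1.x K (p.1.simple (p.2.getD i (0, 1)).1) (t ^ (p.2.getD i (0, 1)).2)) ∧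
      (((g : GL p.1.Idx K) : Matrix p.1.Idx p.1.Idx K) = p.1.x K (p.1.neg (p.1.simple i)) t →
        ((α g : GL p.1.Idx K) : Matrix p.1.Idx p.1.Idx K) = p.1.x K (p.1.neg (p.1.simple (p.2.getD i (0, 1)).1)) (t ^ (p.2.getD i (0, 1)).2)) := by
  open Cfsg.Agent.Lib.Helper8.Chev in
  simp only [List.mem_cons, List.not_mem_nil, or_false] at hp
  rcases hp with rfl | rfl
  · have : CharP K exDataB2.p := inferInstanceAs (CharP K 2)
    have hD : Cfsg.Lie.chevB2 ∈ [Cfsg.Lie.chevG2, Cfsg.Lie.chevB2, Cfsg.Lie.chevD4, Cfsg.Lie.chevF4,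
        Cfsg.Lie.chevE6, Cfsg.Lie.chevE7, Cfsg.Lie.chevE8] := by simp
    obtain ⟨α, hα⟩ := exists_exAut (K := K) hD exDataB2
      (powOK_of_check (valid0_of_mem hD) checkPow_B2) (swapOK_of_check checkSwap_B2)
      checkEx_B2 (Or.inl rfl) hperf
      5 (by decide) (by decide) (by decide) 4 (by decide) (by decide) (by decide)
    refine ⟨α, fun g i t hi => ?_⟩
    have hi' : i < 2 := hi
    interval_cases i
    · exact ⟨fun hg => hα g 5 t (by decide) hg, fun hg => hα g 2 t (by decide) hg⟩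
    · refine ⟨fun hg => (hα g 4 t (by decide) hg).trans ?_, fun hg => (hα g 3 t (by decide) hg).trans ?_⟩
      · show Cfsg.Lie.chevB2.x K 5 (t ^ 1) = Cfsg.Lie.chevB2.x K 5 (t ^ 1); rfl
      · show Cfsg.Lie.chevB2.x K 2 (t ^ 1) = Cfsg.Lie.chevB2.x K 2 (t ^ 1); rfl
  · have : CharP K exDataF4.p := inferInstanceAs (CharP K 2)
    have hD : Cfsg.Lie.chevF4 ∈ [Cfsg.Lie.chevG2, Cfsg.Lie.chevB2, Cfsg.Lie.chevD4, Cfsg.Lie.chevF4,
        Cfsg.Lie.chevE6, Cfsg.Lie.chevE7, Cfsg.Lie.chevE8] := by simp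
    obtain ⟨α, hα⟩ := exists_exAut (K := K) hD exDataF4
      (powOK_of_check (valid0_of_mem hD) checkPow_F4) (swapOK_of_check checkSwap_F4)
      checkEx_F4 (Or.inl rfl) hperf
      27 (by decide) (by decide) (by decide) 24 (by decide) (by decide) (by decide)
    refine ⟨α, fun g i t hi => ?_⟩
    have hi' : i < 4 := hi
    interval_cases i
    · exact ⟨fun hg => hα g 33 t (by decide) hg, fun hg => hα g 14 t (by decide) hg⟩
    · exact ⟨fun hg => hα g 27 t (by decide) hg, fun hg => hα g 20 t (by decide) hg⟩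
    · refine ⟨fun hg => (hα g 25 t (by decide) hg).trans ?_, fun hg => (hα g 22 t (by decide) hg).trans ?_⟩
      · show Cfsg.Lie.chevF4.x K 27 (t ^ 1) = Cfsg.Lie.chevF4.x K 27 (t ^ 1); rfl
      · show Cfsg.Lie.chevF4.x K 20 (t ^ 1) = Cfsg.Lie.chevF4.x K 20 (t ^ 1); rfl
    · refine ⟨fun hg => (hα g 24 t (by decide) hg).trans ?_, fun hg => (hα g 23 t (by decide) hg).trans ?_⟩
      · show Cfsg.Lie.chevF4.x K 33 (t ^ 1) = Cfsg.Lie.chevF4.x K 33 (t ^ 1); rfl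
      · show Cfsg.Lie.chevF4.x K 14 (t ^ 1) = Cfsg.Lie.chevF4.x K 14 (t ^ 1); rfl

end Cfsg.Agent.S1098
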