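import Cfsg.Statements.S1099
import Cfsg.Agent.Lib.Helper8.ChevEx7
import Cfsg.Agent.Lib.Helper8.ChevEx3

set_option autoImplicit false
open Cfsg

namespace Cfsg.Agent.S1099

/-- Graph automorphism of G₂ in characteristic 3 (K perfect): `x_a(t) ↦ x_b(t³)`, `x_b(t) ↦ x_a(t)`, `x_{-a}(t) ↦ x_{-b}(t³)`, `x_{-b}(t) ↦ x_{-a}(t)` extend to an automorphism of the group. -/
theorem result {K : Type*} [Field K] [CharP K 3] (hperf : ∀ x : K, ∃ y : K, y ^ 3 = x) :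
    ∃ α : ↥(Cfsg.Lie.chevG2.group K) ≃* ↥(Cfsg.Lie.chevG2.group K), ∀ (g : ↥(Cfsg.Lie.chevG2.group K)) (t : K),
      (((g : GL Cfsg.Lie.chevG2.Idx K) : Matrix _ _ K) = Cfsg.Lie.chevG2.x K Cfsg.Lie.g2a t →
        ((α g : GL Cfsg.Lie.chevG2.Idx K) : Matrix _ _ K) = Cfsg.Lie.chevG2.x K Cfsg.Lie.g2b (t ^ 3)) ∧
      (((g : GL Cfsg.Lie.chevG2.Idx K) : Matrix _ _ K) = Cfsg.Lie.chevG2.x K Cfsg.Lie.g2b t →
        ((α g : GL Cfsg.Lie.chevG2.Idx K) : Matrix _ _ K) = Cfsg.Lie.chevG2.x K Cfsg.Lie.g2a t) ∧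
      (((g : GL Cfsg.Lie.chevG2.Idx K) : Matrix _ _ K) = Cfsg.Lie.chevG2.x K Cfsg.Lie.g2ma t →
        ((α g : GL Cfsg.Lie.chevG2.Idx K) : Matrix _ _ K) = Cfsg.Lie.chevG2.x K Cfsg.Lie.g2mb (t ^ 3)) ∧
      (((g : GL Cfsg.Lie.chevG2.Idx K) : Matrix _ _ K) = Cfsg.Lie.chevG2.x K Cfsg.Lie.g2mb t →
        ((α g : GL Cfsg.Lie.chevG2.Idx K) : Matrix _ _ K) = Cfsg.Lie.chevG2.x K Cfsg.Lie.g2ma t) := by
  open Cfsg.Agent.Lib.Helper8.Chev in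
  have : CharP K exDataG2.p := inferInstanceAs (CharP K 3)
  have hD : Cfsg.Lie.chevG2 ∈ [Cfsg.Lie.chevG2, Cfsg.Lie.chevB2, Cfsg.Lie.chevD4, Cfsg.Lie.chevF4,
      Cfsg.Lie.chevE6, Cfsg.Lie.chevE7, Cfsg.Lie.chevE8] := by simp
  obtain ⟨α, hα⟩ := Cfsg.Agent.Lib.Helper8.Chev.exists_exAut (K := K) hD
    Cfsg.Agent.Lib.Helper8.Chev.exDataG2
    (Cfsg.Agent.Lib.Helper8.Chev.powOK_of_check (Cfsg.Agent.Lib.Helper8.Chev.valid0_of_mem hD)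
      Cfsg.Agent.Lib.Helper8.Chev.checkPow_G2)
    (Cfsg.Agent.Lib.Helper8.Chev.swapOK_of_check Cfsg.Agent.Lib.Helper8.Chev.checkSwap_G2)
    Cfsg.Agent.Lib.Helper8.Chev.checkEx_G2 (Or.inr rfl) hperf
    7 (by decide) (by decide) (by decide) 6 (by decide) (by decide) (by decide)
  refine ⟨α, fun g t => ⟨?_, ?_, ?_, ?_⟩⟩
  · intro hg
    exact hα g Cfsg.Lie.g2a t (by decide) hg
  · intro hg
    have := hα g Cfsg.Lie.g2b t (by decide) hg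
    refine this.trans ?_
    show Cfsg.Lie.chevG2.x K Cfsg.Lie.g2a (t ^ 1) = _
    rw [pow_one]
  · intro hg
    exact hα g Cfsg.Lie.g2ma t (by decide) hg
  · intro hg
    have := hα g Cfsg.Lie.g2mb t (by decide) hg
    refine this.trans ?_
    show Cfsg.Lie.chevG2.x K Cfsg.Lie.g2ma (t ^ 1) = _
    rw [pow_one]

end Cfsg.Agent.S1099
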