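import Cfsg.Statements.S1112
import Cfsg.Agent.Lib.Helper8.ChevRF21

set_option autoImplicit false
open Cfsg

namespace Cfsg.Agent.S1112

open Cfsg.Agent.Lib.Helper8.Chev in
/-- ²F₄(2^(2m+1)) (m ≥ 1) equals its derived subgroup. -/
theorem result {K : Type*} [Field K] [Fintype K] {m : ℕ} (hK : Fintype.card K = 2 ^ (2 * m + 1)) (hm : 1 ≤ m) : commutator ↥(Cfsg.Lie.twistedF4 K (2 ^ m)) = ⊤ := by
  have := charP_two_of_card hK
  obtain ⟨σ, X⟩ := exists_xEnd_F4 hK m
  have h := twistedF4_perfect hK hm X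
  have h1 := Subgroup.map_subtype_commutator (Cfsg.Lie.twistedF4 K (2 ^ m))
  have h2 : (commutator ↥(Cfsg.Lie.twistedF4 K (2 ^ m))).map (Cfsg.Lie.twistedF4 K (2 ^ m)).subtype
      = Cfsg.Lie.twistedF4 K (2 ^ m) :=
    h1.trans (le_antisymm (Subgroup.commutator_le_self _) h)
  apply Subgroup.map_injective (Cfsg.Lie.twistedF4 K (2 ^ m)).subtype_injective
  rw [h2, ← MonoidHom.range_eq_map, Subgroup.range_subtype]

end Cfsg.Agent.S1112
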