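import Cfsg.Statements.S1118
import Cfsg.Agent.Lib.Helper8.RankOne

set_option autoImplicit false
open Cfsg

namespace Cfsg.Agent.S1118

open Subgroup MulAction Cfsg.Agent.Lib.Helper8

/-- In the rank-one set-up, the normaliser of a subset of `Q` containing a non-identity element lies in `G_a`; consequently `N_G(Q) = N_G(G_a) = G_a`. -/
theorem result {G Ω : Type*} [Group G] [Finite G] [MulAction G Ω] {a : Ω} {t : G} {Q : Subgroup G}
    (hS : Cfsg.IsRankOneSetup G Ω a t Q) :
    (∀ X : Set G, X ⊆ (Q : Set G) → (∃ x ∈ X, x ≠ 1) → Subgroup.normalizer X ≤ MulAction.stabilizer G a) ∧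
      Subgroup.normalizer (Q : Set G) = MulAction.stabilizer G a ∧
      Subgroup.normalizer (MulAction.stabilizer G a : Set G) = MulAction.stabilizer G a := by
  have part1 : ∀ X : Set G, X ⊆ (Q : Set G) → (∃ x ∈ X, x ≠ 1) →
      Subgroup.normalizer X ≤ MulAction.stabilizer G a := by
    intro X hXQ ⟨x, hxX, hx1⟩ g hg
    rw [mem_set_normalizer_iff] at hg
    have h1 : g * x * g⁻¹ ∈ X := (hg x).mp hxX
    have h2 : g * x * g⁻¹ ∈ Q := hXQ h1
    by_contra hga
    have hga' : g • a ≠ a := hga
    have h3 : (g * x * g⁻¹) • (g • a) = g • a := by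
      rw [mul_smul, mul_smul, inv_smul_smul, RankOne.Q_fix_a hS (hXQ hxX)]
    have h4 := RankOne.Q_free hS hga' h2 h3
    apply hx1
    have : x = g⁻¹ * (g * x * g⁻¹) * g := by group
    rw [this, h4]; group
  refine ⟨part1, ?_, ?_⟩
  · apply le_antisymm
    · exact part1 (Q : Set G) (le_refl _) (RankOne.exists_ne_one hS)
    · intro g hg
      rw [mem_set_normalizer_iff]
      intro x
      constructor
      · intro hx; exact hS.conj_mem g hg x hx
      · intro hx
        have := hS.conj_mem g⁻¹ ((stabilizer G a).inv_mem hg) _ hx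
        have h2 : g⁻¹ * (g * x * g⁻¹) * g⁻¹⁻¹ = x := by group
        rwa [h2] at this
  · apply le_antisymm
    · intro g hg
      rw [mem_set_normalizer_iff] at hg
      by_contra hga
      have hga' : g • a ≠ a := hga
      obtain ⟨x, hxQ, hx1⟩ := RankOne.exists_ne_one hS
      -- x = g h g⁻¹ with h = g⁻¹ x g ∈ G_a
      have hx : x ∈ stabilizer G a := hS.le hxQ
      have h1 : g⁻¹ * x * g ∈ stabilizer G a := by
        have := (hg (g⁻¹ * x * g)).mpr (by
          have h2 : g * (g⁻¹ * x * g) * g⁻¹ = x := by group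
          rw [h2]; exact hx)
        exact this
      have h3 : x • (g • a) = g • a := by
        have h4 : (g⁻¹ * x * g) • a = a := h1
        rw [mul_smul, mul_smul] at h4
        have := congrArg (fun z => g • z) h4
        simpa using this
      exact hx1 (RankOne.Q_free hS hga' hxQ h3)
    · exact le_normalizer

end Cfsg.Agent.S1118
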