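import Cfsg.Statements.S1119
import Cfsg.Agent.Lib.Helper8.RankOne

set_option autoImplicit false
open Cfsg

namespace Cfsg.Agent.S1119

open Subgroup MulAction Cfsg.Agent.Lib.Helper8

/-- In the rank-one set-up: `Q` acts regularly on `Ω` minus `a`; hence `|Ω| = |Q| + 1`, `|G| = |Q| |D| (|Q| + 1)`, some Sylow 2-subgroup of `G` lies in `Q`, and each `g ∉ G_a` is uniquely `x t y` with `x ∈ G_a`, `y ∈ Q` (canonical form). -/
theorem result {G Ω : Type*} [Group G] [Finite G] [MulAction G Ω] {a : Ω} {t : G} {Q : Subgroup G}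
    (hS : Cfsg.IsRankOneSetup G Ω a t Q) :
    (∀ b c : Ω, b ≠ a → c ≠ a → ∃! x : Q, (x : G) • b = c) ∧
      Nat.card Ω = Nat.card Q + 1 ∧
      Nat.card G = Nat.card Q * Nat.card ↥(MulAction.stabilizer G a ⊓ MulAction.stabilizer G (t • a)) * (Nat.card Q + 1) ∧
      (∃ P : Sylow 2 G, (P : Subgroup G) ≤ Q) ∧
      ∀ g : G, g ∉ MulAction.stabilizer G a → ∃! p : G × G, p.1 ∈ MulAction.stabilizer G a ∧ p.2 ∈ Q ∧ g = p.1 * t * p.2 := by
  classical
  have hcardΩ : Nat.card Ω = Nat.card Q + 1 := by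
    rw [← Finite.card_option]
    symm
    refine Nat.card_congr (Equiv.ofBijective
      (fun o : Option Q => match o with | none => a | some x => (x : G) • (t • a)) ⟨?_, ?_⟩)
    · rintro (_ | x) (_ | y) h
      · rfl
      · exact absurd h.symm (RankOne.Q_smul_ne hS (RankOne.b_ne hS) y.2)
      · exact absurd h (RankOne.Q_smul_ne hS (RankOne.b_ne hS) x.2)
      · have h' : (x : G) • (t • a) = (y : G) • (t • a) := h
        obtain ⟨z, -, hz⟩ := RankOne.Q_regular hS (RankOne.b_ne hS)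
          (RankOne.Q_smul_ne hS (RankOne.b_ne hS) y.2)
        rw [hz x h', hz y rfl]
    · intro c
      by_cases hc : c = a
      · exact ⟨none, hc.symm⟩
      · obtain ⟨x, hx, hxc⟩ := RankOne.Q_trans hS hc
        exact ⟨some ⟨x, hx⟩, hxc⟩
  have hcardGa : Nat.card (stabilizer G a) =
      Nat.card Q * Nat.card ↥(stabilizer G a ⊓ stabilizer G (t • a)) := by
    rw [← Nat.card_prod]
    symm
    refine Nat.card_congr (Equiv.ofBijective
      (fun p : Q × ↥(stabilizer G a ⊓ stabilizer G (t • a)) =>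
        (⟨(p.1 : G) * (p.2 : G), (stabilizer G a).mul_mem (hS.le p.1.2) p.2.2.1⟩ : stabilizer G a))
      ⟨?_, ?_⟩)
    · rintro ⟨⟨x, hx⟩, ⟨d, hd⟩⟩ ⟨⟨x', hx'⟩, ⟨d', hd'⟩⟩ h
      have h' : x * d = x' * d' := congrArg Subtype.val h
      obtain ⟨h1, h2⟩ := RankOne.factor_unique hS hx hx' hd hd' h'
      subst h1; subst h2; rfl
    · rintro ⟨g, hg⟩
      obtain ⟨x, hx, d, hd, rfl⟩ := RankOne.exists_factor hS hg
      exact ⟨(⟨x, hx⟩, ⟨d, hd⟩), rfl⟩
  have hcardG : Nat.card G = Nat.card Q * Nat.card ↥(stabilizer G a ⊓ stabilizer G (t • a)) * (Nat.card Q + 1) := by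
    haveI : IsPretransitive G Ω := by
      haveI := hS.two_transitive
      exact isPretransitive_of_is_two_pretransitive
    have h1 : (stabilizer G a).index = Nat.card Ω := index_stabilizer_of_transitive G a
    rw [← (stabilizer G a).index_mul_card, h1, hcardΩ, hcardGa, mul_comm]
  refine ⟨fun b c hb hc => RankOne.Q_regular hS hb hc, hcardΩ, hcardG, ?_, ?_⟩
  · -- Sylow
    obtain ⟨P0⟩ : Nonempty (Sylow 2 Q) := inferInstance
    have hP0 : Nat.card P0 = 2 ^ (Nat.card Q).factorization 2 := P0.card_eq_multiplicity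
    have hfac : (Nat.card G).factorization 2 = (Nat.card Q).factorization 2 := by
      have hQpos : Nat.card Q ≠ 0 := Nat.card_pos.ne'
      have hDpos : Nat.card ↥(stabilizer G a ⊓ stabilizer G (t • a)) ≠ 0 := Nat.card_pos.ne'
      have hD2 : ¬ 2 ∣ Nat.card ↥(stabilizer G a ⊓ stabilizer G (t • a)) := by
        rw [← even_iff_two_dvd, Nat.not_even_iff_odd]; exact hS.odd_card
      have hQ2 : ¬ 2 ∣ Nat.card Q + 1 := by
        rw [← even_iff_two_dvd, Nat.not_even_iff_odd]; exact hS.even_card.add_one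
      rw [hcardG, Nat.factorization_mul (Nat.mul_ne_zero hQpos hDpos) (Nat.succ_ne_zero _),
        Nat.factorization_mul hQpos hDpos]
      simp only [Finsupp.coe_add, Pi.add_apply]
      rw [Nat.factorization_eq_zero_of_not_dvd hD2, Nat.factorization_eq_zero_of_not_dvd hQ2]
      omega
    have hcard : Nat.card ((P0 : Subgroup Q).map Q.subtype) = 2 ^ (Nat.card G).factorization 2 := by
      rw [hfac, ← hP0]
      exact Nat.card_congr ((P0 : Subgroup Q).equivMapOfInjective Q.subtype Q.subtype_injective).symm.toEquiv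
    refine ⟨Sylow.ofCard _ hcard, ?_⟩
    show (P0 : Subgroup Q).map Q.subtype ≤ Q
    exact map_subtype_le _
  · intro g hg
    obtain ⟨h, hh, y, hy, rfl⟩ := RankOne.canonical_exists hS hg
    refine ⟨(h, y), ⟨hh, hy, rfl⟩, ?_⟩
    rintro ⟨h', y'⟩ ⟨hh', hy', heq⟩
    obtain ⟨e1, e2⟩ := RankOne.canonical_unique hS hh hh' hy hy' heq
    simp only [Prod.mk.injEq]
    exact ⟨e1.symm, e2.symm⟩

end Cfsg.Agent.S1119
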