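import Cfsg.Statements.S1120
import Cfsg.Agent.Lib.Helper19.RankOneAux

set_option autoImplicit false
open Cfsg

namespace Cfsg.Agent.S1120

open Subgroup MulAction Cfsg.Agent.Lib.Helper8 Cfsg.Agent.Lib.Helper19

/-- In the rank-one set-up (`G` finite and doubly transitive on `Ω`, `t` an involution moving `a`, `Q` normal in `G_a` with `G_a = Q D`, `Q ⊓ D = 1` for the two-point stabiliser `D = G_a ⊓ G_{t • a}`, `|Q|` even, `|D|` odd), if `G` has 2-rank at least 2 then `O_{2'}(G)` equals the normal core of `G_a`. -/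
theorem result {G Ω : Type*} [Group G] [Finite G] [MulAction G Ω] {a : Ω} {t : G} {Q : Subgroup G}
    (hS : Cfsg.IsRankOneSetup G Ω a t Q)
    (h2 : ∃ x y : G, x ≠ 1 ∧ y ≠ 1 ∧ x ≠ y ∧ x * x = 1 ∧ y * y = 1 ∧ x * y = y * x) :
    Cfsg.pPrimeCore 2 G = (MulAction.stabilizer G a).normalCore := by
  apply le_antisymm
  · unfold Cfsg.pPrimeCore
    apply sSup_le
    rintro N ⟨hNn, hNc⟩
    haveI := hNn
    rw [Subgroup.normal_le_normalCore]
    exact RankOneAux.odd_normal_le_stab hS h2 N hNn hNc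
  · unfold Cfsg.pPrimeCore
    apply le_sSup
    refine ⟨inferInstance, ?_⟩
    have hle : (stabilizer G a).normalCore ≤ RankOne.D G a t := by
      intro g hg
      refine ⟨Subgroup.normalCore_le _ hg, ?_⟩
      have h1 : t⁻¹ * g * t⁻¹⁻¹ ∈ stabilizer G a := hg t⁻¹
      rw [inv_inv] at h1
      have h3 : (t⁻¹ * g * t) • a = a := h1
      have e : g * t = t * (t⁻¹ * g * t) := by group
      show g • t • a = t • a
      rw [← mul_smul, e, mul_smul, h3]
    have hodd : Odd (Nat.card (stabilizer G a).normalCore) :=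
      hS.odd_card.of_dvd_nat (Subgroup.card_dvd_of_le hle)
    exact Nat.coprime_two_right.mpr hodd

end Cfsg.Agent.S1120
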