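import Cfsg.Statements.S1121
import Cfsg.Agent.Lib.Helper8.RankOne3

set_option autoImplicit false
open Cfsg

namespace Cfsg.Agent.S1121

open Subgroup MulAction Cfsg.Agent.Lib.Helper8

/-- In the rank-one set-up: if `s` is an involution of `G_a` and `u` an involution outside `G_a`, then `s u` has odd order; and any two involutions of `G` are conjugate. -/
theorem result {G Ω : Type*} [Group G] [Finite G] [MulAction G Ω] {a : Ω} {t : G} {Q : Subgroup G}
    (hS : Cfsg.IsRankOneSetup G Ω a t Q) :
    (∀ s u : G, s ∈ MulAction.stabilizer G a → s ≠ 1 → s * s = 1 → u ∉ MulAction.stabilizer G a → u ≠ 1 → u * u = 1 → Odd (orderOf (s * u))) ∧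
      ∀ u v : G, u ≠ 1 → u * u = 1 → v ≠ 1 → v * v = 1 → ∃ g : G, g * u * g⁻¹ = v := by
  refine ⟨fun s u hs hs1 hss hu _ huu => RankOne.odd_order_mul hS hs hs1 hss hu huu, ?_⟩
  -- an involution s0 of Q
  have h2 : 2 ∣ Nat.card Q := even_iff_two_dvd.mp hS.even_card
  haveI : Fact (Nat.Prime 2) := ⟨Nat.prime_two⟩
  obtain ⟨s0', hs0'⟩ := exists_prime_orderOf_dvd_card' (G := Q) 2 h2
  set s0 : G := (s0' : G) with hs0
  have hs0Q : s0 ∈ Q := s0'.2
  have hs0a : s0 ∈ stabilizer G a := hS.le hs0Q
  have hord : orderOf s0 = 2 := by rw [hs0, Subgroup.orderOf_coe]; exact hs0'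
  have hs01 : s0 ≠ 1 := by
    intro h; rw [h, orderOf_one] at hord; omega
  have hs0s : s0 * s0 = 1 := by
    have := pow_orderOf_eq_one s0
    rwa [hord, pow_two] at this
  -- every involution is conjugate to s0
  have key : ∀ u : G, u ≠ 1 → u * u = 1 → ∃ g : G, g * s0 * g⁻¹ = u := by
    intro u hu1 huu
    by_cases hua : u ∈ stabilizer G a
    · -- conjugate by t to get outside G_a
      have hconj1 : t * u * t⁻¹ ≠ 1 := by
        intro h
        apply hu1
        have : u = t⁻¹ * (t * u * t⁻¹) * t := by group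
        rw [this, h]; group
      have hconjsq : (t * u * t⁻¹) * (t * u * t⁻¹) = 1 := by
        calc (t * u * t⁻¹) * (t * u * t⁻¹) = t * (u * u) * t⁻¹ := by group
          _ = 1 := by rw [huu]; group
      have hnot : t * u * t⁻¹ ∉ stabilizer G a := by
        intro h
        have h1 : (t * u * t⁻¹) • a = a := h
        have h2 : u • (t⁻¹ • a) = t⁻¹ • a := by
          rw [mul_smul, mul_smul] at h1
          have := congrArg (fun z => t⁻¹ • z) h1
          simpa using this
        have h3 := RankOne.invol_fix_only hS hua hu1 huu h2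
        apply hS.not_mem
        show t • a = a
        have := congrArg (fun z => t • z) h3
        simpa using this.symm
      have hodd := RankOne.odd_order_mul hS hs0a hs01 hs0s hnot hconjsq
      obtain ⟨g, hg⟩ := RankOne.conj_of_odd hs0s hconjsq hodd
      refine ⟨t⁻¹ * g, ?_⟩
      calc t⁻¹ * g * s0 * (t⁻¹ * g)⁻¹ = t⁻¹ * (g * s0 * g⁻¹) * t := by group
        _ = u := by rw [hg]; group
    · have hodd := RankOne.odd_order_mul hS hs0a hs01 hs0s hua huu
      exact RankOne.conj_of_odd hs0s huu hodd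
  intro u v hu1 huu hv1 hvv
  obtain ⟨g1, hg1⟩ := key u hu1 huu
  obtain ⟨g2, hg2⟩ := key v hv1 hvv
  refine ⟨g2 * g1⁻¹, ?_⟩
  rw [← hg1, ← hg2]; group

end Cfsg.Agent.S1121
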