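import Cfsg.Statements.S1123
import Cfsg.Agent.Lib.Helper8.RankOne4

set_option autoImplicit false
open Cfsg

namespace Cfsg.Agent.S1123

open Subgroup MulAction Cfsg.Agent.Lib.Helper8

/-- In the rank-one set-up, there is a unique pair `(s, r)` with `s` an involution of `G_a`, `r ∈ Q` and `t s t = r⁻¹ t r`. -/
theorem result {G Ω : Type*} [Group G] [Finite G] [MulAction G Ω] {a : Ω} {t : G} {Q : Subgroup G}
    (hS : Cfsg.IsRankOneSetup G Ω a t Q) :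
    ∃! p : G × G, p.1 ∈ Cfsg.involutionsIn (MulAction.stabilizer G a : Set G) ∧ p.2 ∈ Q ∧
      t * p.1 * t = p.2⁻¹ * t * p.2 := by
  have h1K : (1 : G) ∈ Cfsg.invertedBy (RankOne.D G a t) t := by
    refine (RankOne.mem_K_iff hS).mpr ⟨(RankOne.D G a t).one_mem, ?_⟩
    rw [mul_one, hS.mul_self, inv_one]
  obtain ⟨s, hs, hs1, hss, f, hf, e⟩ := RankOne.structure_surj hS h1K
  rw [mul_one] at e
  refine ⟨(s, f), ⟨⟨hs, hs1, hss⟩, hf, e⟩, ?_⟩
  rintro ⟨s', f'⟩ ⟨⟨hs', hs1', hss'⟩, hf', e'⟩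
  simp only at hs' hs1' hss' hf' e'
  have e1 : t * s * t = f⁻¹ * 1 * t * f := by rw [mul_one]; exact e
  have e2 : t * s' * t = f'⁻¹ * 1 * t * f' := by rw [mul_one]; exact e'
  obtain ⟨h1, h2⟩ := RankOne.structure_inj hS h1K hf hf' hs hs' e1 e2
  simp only [Prod.mk.injEq]
  exact ⟨h1.symm, h2.symm⟩

end Cfsg.Agent.S1123
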