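import Cfsg.Statements.S1124
import Mathlib

set_option autoImplicit false
open Cfsg
open scoped Pointwise

namespace Cfsg.Agent.S1124

open Subgroup

/-- Let `t` be an element of order 2 of a finite group normalising a subgroup `X` of odd order, `Y = C_X(t)` and `Z` the set of elements of `X` inverted by `t`. Then `(y, z) ↦ y z` is a bijection `Y × Z → X`, so `|X| = |Y| |Z|`, and the subgroup generated by `Z` is normal in `X`. -/
theorem result {M : Type*} [Group M] [Finite M]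
    (t : M) (ht : orderOf t = 2) (X : Subgroup M) (hodd : Odd (Nat.card X))
    (hnorm : ∀ x ∈ X, t * x * t⁻¹ ∈ X) :
    (∀ x ∈ X, ∃! p : M × M, p.1 ∈ X ⊓ Subgroup.centralizer {t} ∧ p.2 ∈ Cfsg.invertedBy X t ∧ x = p.1 * p.2) ∧
      Nat.card X = Nat.card ↥(X ⊓ Subgroup.centralizer {t}) * Nat.card (Cfsg.invertedBy X t) ∧
      ∀ x ∈ X, MulAut.conj x • Subgroup.closure (Cfsg.invertedBy X t) = Subgroup.closure (Cfsg.invertedBy X t) := by
  classical
  have htt : t * t = 1 := by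
    have := pow_orderOf_eq_one t
    rwa [ht, pow_two] at this
  have hti : t⁻¹ = t := inv_eq_of_mul_eq_one_left htt
  obtain ⟨k0, hk0⟩ := hodd
  set n := Nat.card X with hn
  set k := k0 + 1 with hk
  have hnk : 2 * k = n + 1 := by omega
  -- powers in X
  have hpown : ∀ z ∈ X, z ^ n = 1 := by
    intro z hz
    have h1 : (⟨z, hz⟩ : X) ^ Nat.card X = 1 := pow_card_eq_one'
    have h2 := congrArg Subtype.val h1
    rw [Subgroup.coe_pow, Subgroup.coe_one] at h2
    exact h2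
  have hsqrt : ∀ z ∈ X, (z * z) ^ k = z := by
    intro z hz
    rw [← pow_two, ← pow_mul, hnk, pow_succ, hpown z hz, one_mul]
  -- σ
  set σ : M → M := fun x => t * x * t⁻¹ with hσ
  have hσmul : ∀ a b, σ (a * b) = σ a * σ b := by intro a b; simp only [hσ]; group
  have hσinv : ∀ a, σ a⁻¹ = (σ a)⁻¹ := by intro a; simp only [hσ]; group
  have hσσ : ∀ a, σ (σ a) = a := by
    intro a; simp only [hσ, hti]
    calc t * (t * a * t) * t = (t * t) * a * (t * t) := by group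
      _ = a := by rw [htt]; group
  have hσpow : ∀ a (j : ℕ), σ (a ^ j) = (σ a) ^ j := by
    intro a j
    induction j with
    | zero => simp [hσ]
    | succ j ih => rw [pow_succ, hσmul, ih, pow_succ]
  have memZ : ∀ z, z ∈ Cfsg.invertedBy X t ↔ z ∈ X ∧ σ z = z⁻¹ := fun z => Iff.rfl
  have memY : ∀ y, y ∈ X ⊓ Subgroup.centralizer {t} ↔ y ∈ X ∧ σ y = y := by
    intro y
    rw [mem_inf, mem_centralizer_iff]
    constructor
    · rintro ⟨h1, h2⟩
      refine ⟨h1, ?_⟩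
      have := h2 t (Set.mem_singleton t)
      simp only [hσ]
      rw [this, mul_assoc, mul_inv_cancel, mul_one]
    · rintro ⟨h1, h2⟩
      refine ⟨h1, ?_⟩
      intro h hh
      rw [Set.mem_singleton_iff] at hh
      subst hh
      simp only [hσ] at h2
      calc h * y = (h * y * h⁻¹) * h := by group
        _ = y * h := by rw [h2]
  -- existence and uniqueness
  have key : ∀ x ∈ X, ∀ y z : M, y ∈ X ⊓ Subgroup.centralizer {t} → z ∈ Cfsg.invertedBy X t → x = y * z →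
      z = ((σ x)⁻¹ * x) ^ k ∧ y = x * (((σ x)⁻¹ * x) ^ k)⁻¹ := by
    intro x hx y z hy hz hxyz
    rw [memY] at hy
    rw [memZ] at hz
    have h1 : σ x = y * z⁻¹ := by rw [hxyz, hσmul, hy.2, hz.2]
    have h2 : (σ x)⁻¹ * x = z * z := by rw [h1, hxyz]; group
    have h3 : z = ((σ x)⁻¹ * x) ^ k := by rw [h2, hsqrt z hz.1]
    refine ⟨h3, ?_⟩
    rw [← h3, hxyz]; group
  have hex : ∀ x ∈ X, (x * (((σ x)⁻¹ * x) ^ k)⁻¹) ∈ X ⊓ Subgroup.centralizer {t} ∧
      ((σ x)⁻¹ * x) ^ k ∈ Cfsg.invertedBy X t := by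
    intro x hx
    have hσx : σ x ∈ X := hnorm x hx
    set w := (σ x)⁻¹ * x with hw
    have hwX : w ∈ X := X.mul_mem (X.inv_mem hσx) hx
    have hσw : σ w = w⁻¹ := by
      rw [hw, hσmul, hσinv, hσσ]; group
    set z := w ^ k with hz
    have hzX : z ∈ X := X.pow_mem hwX k
    have hσz : σ z = z⁻¹ := by rw [hz, hσpow, hσw, inv_pow]
    have hzz : z * z = w := by
      rw [hz, ← pow_add, ← two_mul, hnk, pow_succ, hpown w hwX, one_mul]
    refine ⟨(memY _).mpr ⟨X.mul_mem hx (X.inv_mem hzX), ?_⟩, (memZ _).mpr ⟨hzX, hσz⟩⟩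
    rw [hσmul, hσinv, hσz, inv_inv]
    -- σ x * z = x * z⁻¹
    have : σ x * w = x := by rw [hw]; group
    calc σ x * z = σ x * (z * z) * z⁻¹ := by group
      _ = x * z⁻¹ := by rw [hzz, this]
  have part1 : ∀ x ∈ X, ∃! p : M × M, p.1 ∈ X ⊓ Subgroup.centralizer {t} ∧ p.2 ∈ Cfsg.invertedBy X t ∧ x = p.1 * p.2 := by
    intro x hx
    refine ⟨(x * (((σ x)⁻¹ * x) ^ k)⁻¹, ((σ x)⁻¹ * x) ^ k), ⟨(hex x hx).1, (hex x hx).2, by simp⟩, ?_⟩
    rintro ⟨y, z⟩ ⟨hy, hz, hxyz⟩
    obtain ⟨h1, h2⟩ := key x hx y z hy hz hxyz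
    simp only [Prod.mk.injEq]
    exact ⟨h2, h1⟩
  refine ⟨part1, ?_, ?_⟩
  · -- cardinality
    rw [← Nat.card_prod]
    symm
    refine Nat.card_congr ?_
    refine Equiv.ofBijective (fun p => ⟨p.1.1 * p.2.1, X.mul_mem ((memY _).mp p.1.2).1 ((memZ _).mp p.2.2).1⟩) ⟨?_, ?_⟩
    · rintro ⟨⟨y1, hy1⟩, ⟨z1, hz1⟩⟩ ⟨⟨y2, hy2⟩, ⟨z2, hz2⟩⟩ h
      have h' : y1 * z1 = y2 * z2 := congrArg Subtype.val h
      have hx : y1 * z1 ∈ X := X.mul_mem ((memY _).mp hy1).1 ((memZ _).mp hz1).1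
      obtain ⟨a1, a2⟩ := key (y1 * z1) hx y1 z1 hy1 hz1 rfl
      obtain ⟨b1, b2⟩ := key (y1 * z1) hx y2 z2 hy2 hz2 h'
      have e1 : z1 = z2 := by rw [a1, b1]
      have e2 : y1 = y2 := by rw [a2, b2]
      subst e1; subst e2; rfl
    · rintro ⟨x, hx⟩
      refine ⟨⟨⟨_, (hex x hx).1⟩, ⟨_, (hex x hx).2⟩⟩, ?_⟩
      apply Subtype.ext
      simp
  · -- normality of the closure
    set Z := Cfsg.invertedBy X t with hZ
    set C := Subgroup.closure Z with hC
    have hle : ∀ x ∈ X, MulAut.conj x • C ≤ C := by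
      intro x hx
      -- first for y ∈ Y
      have hY : ∀ y ∈ X ⊓ Subgroup.centralizer {t}, MulAut.conj y • C ≤ C := by
        intro y hy
        rw [memY] at hy
        rw [hC, Subgroup.smul_closure, Subgroup.closure_le]
        rintro _ ⟨z, hz, rfl⟩
        apply Subgroup.subset_closure
        rw [memZ] at hz
        rw [memZ]
        simp only [MulAut.smul_def, MulAut.conj_apply]
        refine ⟨X.mul_mem (X.mul_mem hy.1 hz.1) (X.inv_mem hy.1), ?_⟩
        rw [hσmul, hσmul, hσinv, hy.2, hz.2]; group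
      rw [hC, Subgroup.smul_closure, Subgroup.closure_le]
      rintro _ ⟨z, hz, rfl⟩
      obtain ⟨⟨y, z0⟩, ⟨hy, hz0, hxyz⟩, -⟩ := part1 x hx
      simp only at hy hz0 hxyz
      simp only [MulAut.smul_def, MulAut.conj_apply]
      have h1 : z0 * z * z0⁻¹ ∈ C :=
        C.mul_mem (C.mul_mem (Subgroup.subset_closure hz0) (Subgroup.subset_closure hz))
          (C.inv_mem (Subgroup.subset_closure hz0))
      have h2 : y * (z0 * z * z0⁻¹) * y⁻¹ ∈ C := by
        apply hY y hy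
        exact ⟨z0 * z * z0⁻¹, h1, rfl⟩
      have : x * z * x⁻¹ = y * (z0 * z * z0⁻¹) * y⁻¹ := by
        rw [hxyz, mul_inv_rev]; simp only [mul_assoc]
      rw [SetLike.mem_coe, this]
      exact h2
    intro x hx
    apply le_antisymm (hle x hx)
    have := hle x⁻¹ (X.inv_mem hx)
    rw [map_inv, Subgroup.pointwise_smul_subset_iff, inv_inv] at this
    exact this

end Cfsg.Agent.S1124
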