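import Cfsg.Statements.S1125
import Cfsg.Agent.Lib.Helper8.RankOne7

set_option autoImplicit false
open Cfsg

namespace Cfsg.Agent.S1125

open Subgroup MulAction Cfsg.Agent.Lib.Helper8

/-- In the rank-one set-up, let `X ⊆ D` fix at least three points of `Ω`. Then `C_G(X)` is doubly transitive on the fixed-point set of `X`, `|C_Q(X)|` is even, and `C_{G_a}(X) = C_Q(X) C_D(X)`. -/
theorem result {G Ω : Type*} [Group G] [Finite G] [MulAction G Ω] {a : Ω} {t : G} {Q : Subgroup G}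
    (hS : Cfsg.IsRankOneSetup G Ω a t Q)
    (X : Set G) (hX : X ⊆ ((MulAction.stabilizer G a ⊓ MulAction.stabilizer G (t • a)) : Set G))
    (h3 : ∃ b c d : Ω, b ≠ c ∧ b ≠ d ∧ c ≠ d ∧ ∀ x ∈ X, x • b = b ∧ x • c = c ∧ x • d = d) :
    (∀ b₁ b₂ c₁ c₂ : Ω, (∀ x ∈ X, x • b₁ = b₁ ∧ x • b₂ = b₂ ∧ x • c₁ = c₁ ∧ x • c₂ = c₂) →
        b₁ ≠ b₂ → c₁ ≠ c₂ → ∃ g ∈ Subgroup.centralizer X, g • b₁ = c₁ ∧ g • b₂ = c₂) ∧
      Even (Nat.card ↥(Subgroup.centralizer X ⊓ Q)) ∧
      (Subgroup.centralizer X ⊓ Q) ⊔ (Subgroup.centralizer X ⊓ (MulAction.stabilizer G a ⊓ MulAction.stabilizer G (t • a))) = Subgroup.centralizer X ⊓ MulAction.stabilizer G a := by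
  refine ⟨?_, ?_, ?_⟩
  · intro b₁ b₂ c₁ c₂ hF hb hc
    exact RankOne.cent_two_trans hS h3 (fun y hy => (hF y hy).1) (fun y hy => (hF y hy).2.1)
      (fun y hy => (hF y hy).2.2.1) (fun y hy => (hF y hy).2.2.2) hb hc
  · obtain ⟨s, hs, hs1, hss⟩ := RankOne.exists_invol_cent_Q hS hX h3
    rw [even_iff_two_dvd]
    have h1 : orderOf (⟨s, hs⟩ : ↥(Subgroup.centralizer X ⊓ Q)) ∣ Nat.card ↥(Subgroup.centralizer X ⊓ Q) :=
      orderOf_dvd_natCard _
    rw [Subgroup.orderOf_mk] at h1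
    have h2 : orderOf s = 2 := by
      apply orderOf_eq_prime
      · rw [pow_two]; exact hss
      · exact hs1
    rwa [h2] at h1
  · apply le_antisymm
    · apply sup_le
      · exact inf_le_inf_left _ hS.le
      · exact inf_le_inf_left _ inf_le_left
    · rintro g ⟨hgC, hga⟩
      -- c = g • b
      have hgb : ∀ y ∈ X, y • (g • (t • a)) = g • (t • a) :=
        RankOne.cent_smul_fixed hgC (RankOne.X_fix_b hX)
      have hne : g • (t • a) ≠ a := by
        intro h
        have h1 : g • a = a := hga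
        have h2 : g • (t • a) = g • a := by rw [h, h1]
        exact RankOne.b_ne hS (smul_left_cancel g h2)
      have hfa : ∀ y ∈ X, y • ((1 : G) • a) = (1 : G) • a := by
        intro y hy; rw [one_smul]; exact RankOne.X_fix_a hX y hy
      obtain ⟨x0, hx0, hz, hzc⟩ := RankOne.exists_cent_conj hS (1 : G) hfa (RankOne.X_fix_b hX) hgb
        (by rw [one_smul]; exact RankOne.b_ne hS) (by rw [one_smul]; exact hne)
      have hz' : x0 ∈ Subgroup.centralizer X := by
        have : (1 : G) * x0 * (1 : G)⁻¹ = x0 := by group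
        rwa [this] at hz
      have hzc' : x0 • (t • a) = g • (t • a) := by
        have : (1 : G) * x0 * (1 : G)⁻¹ = x0 := by group
        rwa [this] at hzc
      have h1 : x0 ∈ Subgroup.centralizer X ⊓ Q := ⟨hz', hx0⟩
      have h2 : x0⁻¹ * g ∈ Subgroup.centralizer X ⊓ (MulAction.stabilizer G a ⊓ MulAction.stabilizer G (t • a)) := by
        refine ⟨(Subgroup.centralizer X).mul_mem ((Subgroup.centralizer X).inv_mem hz') hgC, ?_, ?_⟩
        · show (x0⁻¹ * g) • a = a
          have h1 : g • a = a := hga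
          rw [mul_smul, h1, inv_smul_eq_iff, RankOne.Q_fix_a hS hx0]
        · show (x0⁻¹ * g) • (t • a) = t • a
          rw [mul_smul, ← hzc', inv_smul_smul]
      have : g = x0 * (x0⁻¹ * g) := by group
      rw [this]
      exact Subgroup.mul_mem_sup h1 h2

end Cfsg.Agent.S1125
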