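import Cfsg.Statements.S1126
import Cfsg.Agent.Lib.Helper8.RankOne8

set_option autoImplicit false
open Cfsg

namespace Cfsg.Agent.S1126

open Subgroup MulAction Cfsg.Agent.Lib.Helper8

/-- In the rank-one set-up, a subset `X ⊆ D` fixing at least three points of `Ω` is conjugate by an element of `D` into `V = C_D(t)`. -/
theorem result {G Ω : Type*} [Group G] [Finite G] [MulAction G Ω] {a : Ω} {t : G} {Q : Subgroup G}
    (hS : Cfsg.IsRankOneSetup G Ω a t Q)
    (X : Set G) (hX : X ⊆ ((MulAction.stabilizer G a ⊓ MulAction.stabilizer G (t • a)) : Set G))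
    (h3 : ∃ b c d : Ω, b ≠ c ∧ b ≠ d ∧ c ≠ d ∧ ∀ x ∈ X, x • b = b ∧ x • c = c ∧ x • d = d) :
    ∃ k ∈ (MulAction.stabilizer G a ⊓ MulAction.stabilizer G (t • a)), ∀ x ∈ X, (k * x * k⁻¹) * t = t * (k * x * k⁻¹) := by
  have htt := hS.mul_self
  obtain ⟨s, ⟨hsC, hsQ⟩, hs1, hss⟩ := RankOne.exists_invol_cent_Q hS hX h3
  have hsa : s ∈ stabilizer G a := hS.le hsQ
  obtain ⟨z, hz, hzb⟩ := RankOne.cent_trans hS h3 (RankOne.X_fix_a hX) (RankOne.X_fix_b hX)
  set s' := z * s * z⁻¹ with hs'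
  have hs'C : s' ∈ centralizer X :=
    (centralizer X).mul_mem ((centralizer X).mul_mem hz hsC) ((centralizer X).inv_mem hz)
  have hs's : s' * s' = 1 := by
    calc s' * s' = z * (s * s) * z⁻¹ := by rw [hs']; group
      _ = 1 := by rw [hss]; group
  have hs'1 : s' ≠ 1 := by
    intro h
    apply hs1
    have : s = z⁻¹ * s' * z := by rw [hs']; group
    rw [this, h]; group
  have hs'b : s' • (t • a) = t • a := by
    rw [hs', mul_smul, mul_smul, ← hzb, inv_smul_smul]
    have : s • a = a := hsa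
    rw [this]
  have hs'not : s' ∉ stabilizer G a := by
    intro h
    have h1 : s' • a = a := h
    exact RankOne.b_ne hS (RankOne.invol_fix_unique hS hs'1 hs's hs'b h1)
  have hodd := RankOne.odd_order_mul hS hsa hs1 hss hs'not hs's
  obtain ⟨w, hwC, hww, hw⟩ := RankOne.conj_of_odd_invol_mem (centralizer X) hsC hs'C hss hs's hodd
  have hwa : w • a = t • a := by
    have h1 : s' • (w • a) = w • a := by
      rw [← hw, mul_smul, mul_smul, ← mul_smul w w, hww, one_smul]
      have : s • a = a := hsa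
      rw [this]
    exact RankOne.invol_fix_unique hS hs'1 hs's h1 hs'b
  have hkK := RankOne.tw_mem_K hS hww hwa
  obtain ⟨m, hm, hmm⟩ := RankOne.K_sqrt hS hkK
  have hmD := ((RankOne.mem_K_iff hS).mp hm).1
  have hconj : m⁻¹ * t * m = w := by
    rw [RankOne.conj_t_of_K hS hm, hmm, ← mul_assoc, htt, one_mul]
  refine ⟨m, hmD, ?_⟩
  intro x hx
  rw [mem_centralizer_iff] at hwC
  have hxw : x * w = w * x := hwC x hx
  have ht : t = m * w * m⁻¹ := by rw [← hconj]; group
  rw [ht]
  calc m * x * m⁻¹ * (m * w * m⁻¹) = m * (x * w) * m⁻¹ := by group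
    _ = m * (w * x) * m⁻¹ := by rw [hxw]
    _ = m * w * m⁻¹ * (m * x * m⁻¹) := by group

end Cfsg.Agent.S1126
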