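import Cfsg.Statements.S1127
import Cfsg.Agent.Lib.Helper8.RankOne4

set_option autoImplicit false
open Cfsg

namespace Cfsg.Agent.S1127

open Subgroup MulAction Cfsg.Agent.Lib.Helper8

/-- conjugating the structure equation by an element of `D` -/
lemma conj_structure {G Ω : Type*} [Group G] [MulAction G Ω] {a : Ω} {t : G} {Q : Subgroup G}
    {d s f k : G} (hdt : d * t = t * d) (e : t * s * t = f⁻¹ * k * t * f) :
    t * (d * s * d⁻¹) * t = (d * f * d⁻¹)⁻¹ * (d * k * d⁻¹) * t * (d * f * d⁻¹) := by
  have hdt' : d⁻¹ * t = t * d⁻¹ := by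
    calc d⁻¹ * t = d⁻¹ * (t * d) * d⁻¹ := by group
      _ = d⁻¹ * (d * t) * d⁻¹ := by rw [hdt]
      _ = t * d⁻¹ := by group
  calc t * (d * s * d⁻¹) * t = (t * d) * s * (d⁻¹ * t) := by group
    _ = (d * t) * s * (t * d⁻¹) := by rw [hdt, hdt']
    _ = d * (t * s * t) * d⁻¹ := by group
    _ = d * (f⁻¹ * k * t * f) * d⁻¹ := by rw [e]
    _ = (d * f * d⁻¹)⁻¹ * (d * k * d⁻¹) * (d * t) * f * d⁻¹ := by group
    _ = (d * f * d⁻¹)⁻¹ * (d * k * d⁻¹) * (t * d) * f * d⁻¹ := by rw [hdt]
    _ = (d * f * d⁻¹)⁻¹ * (d * k * d⁻¹) * t * (d * f * d⁻¹) := by group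

/-- In the rank-one set-up: if `s` is an involution of `G_a` and `r ∈ Q` satisfy `t s t = r⁻¹ t r`, then `C_D(t) = C_D(s)`; moreover `C_D(t) ⊓ C_D(K) = C_D(I ∩ G_a)`. -/
theorem result {G Ω : Type*} [Group G] [Finite G] [MulAction G Ω] {a : Ω} {t : G} {Q : Subgroup G}
    (hS : Cfsg.IsRankOneSetup G Ω a t Q) :
    (∀ s r : G, s ∈ Cfsg.involutionsIn (MulAction.stabilizer G a : Set G) → r ∈ Q → t * s * t = r⁻¹ * t * r →
        (MulAction.stabilizer G a ⊓ MulAction.stabilizer G (t • a)) ⊓ Subgroup.centralizer {t} = (MulAction.stabilizer G a ⊓ MulAction.stabilizer G (t • a)) ⊓ Subgroup.centralizer {s}) ∧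
      (MulAction.stabilizer G a ⊓ MulAction.stabilizer G (t • a)) ⊓ Subgroup.centralizer {t} ⊓ Subgroup.centralizer (Cfsg.invertedBy (MulAction.stabilizer G a ⊓ MulAction.stabilizer G (t • a)) t) =
        (MulAction.stabilizer G a ⊓ MulAction.stabilizer G (t • a)) ⊓ Subgroup.centralizer (Cfsg.involutionsIn (MulAction.stabilizer G a : Set G)) := by
  classical
  have htt := hS.mul_self
  have hti := RankOne.t_inv hS
  have h1K : (1 : G) ∈ Cfsg.invertedBy (RankOne.D G a t) t := by
    refine (RankOne.mem_K_iff hS).mpr ⟨(RankOne.D G a t).one_mem, ?_⟩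
    rw [mul_one, hS.mul_self, inv_one]
  have hcent : ∀ (x d : G), d ∈ Subgroup.centralizer ({x} : Set G) ↔ d * x = x * d := by
    intro x d
    rw [mem_centralizer_iff]
    constructor
    · intro h; exact (h x (Set.mem_singleton x)).symm
    · intro h y hy
      rw [Set.mem_singleton_iff] at hy; subst hy; exact h.symm
  -- part (1)
  have part1 : ∀ s r : G, s ∈ Cfsg.involutionsIn (MulAction.stabilizer G a : Set G) → r ∈ Q → t * s * t = r⁻¹ * t * r →
      ∀ d ∈ RankOne.D G a t, (d * t = t * d ↔ d * s = s * d) := by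
    rintro s r ⟨hs, hs1, hss⟩ hr e d hd
    have e1 : t * s * t = r⁻¹ * 1 * t * r := by rw [mul_one]; exact e
    constructor
    · intro hdt
      have e2 := conj_structure (Q := Q) (a := a) hdt e1
      have hs' : d * s * d⁻¹ ∈ stabilizer G a :=
        (stabilizer G a).mul_mem ((stabilizer G a).mul_mem hd.1 hs) ((stabilizer G a).inv_mem hd.1)
      have hr' : d * r * d⁻¹ ∈ Q := RankOne.conj_D_mem hS hd hr
      have h1 : d * 1 * d⁻¹ = 1 := by group
      rw [h1] at e2
      obtain ⟨h2, -⟩ := RankOne.structure_inj hS h1K hr hr' hs hs' e1 e2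
      calc d * s = (d * s * d⁻¹) * d := by group
        _ = s * d := by rw [← h2]
    · intro hds
      -- t' = d t d⁻¹, k' = t' t
      set k' := d * t * d⁻¹ * t with hk'
      have hk'D : k' ∈ RankOne.D G a t := by
        have : k' = d * (t * d⁻¹ * t) := by rw [hk']; group
        rw [this]
        exact RankOne.D_mul_mem hd (RankOne.t_conj_mem_D hS (RankOne.D_inv_mem hd))
      -- conjugate e by d, using d s d⁻¹ = s
      have hds' : d * s * d⁻¹ = s := by rw [hds]; group
      have e2 : (d * t * d⁻¹) * s * (d * t * d⁻¹) = (d * r * d⁻¹)⁻¹ * (d * t * d⁻¹) * (d * r * d⁻¹) := by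
        calc (d * t * d⁻¹) * s * (d * t * d⁻¹) = (d * t * d⁻¹) * (d * s * d⁻¹) * (d * t * d⁻¹) := by rw [hds']
          _ = d * (t * s * t) * d⁻¹ := by group
          _ = d * (r⁻¹ * t * r) * d⁻¹ := by rw [e]
          _ = (d * r * d⁻¹)⁻¹ * (d * t * d⁻¹) * (d * r * d⁻¹) := by group
      have ht' : d * t * d⁻¹ = k' * t := by
        rw [hk']
        calc d * t * d⁻¹ = d * t * d⁻¹ * (t * t) := by rw [htt, mul_one]
          _ = d * t * d⁻¹ * t * t := by group
      -- k' is inverted by t
      have hk'sq : (k' * t) * (k' * t) = 1 := by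
        rw [← ht']
        calc d * t * d⁻¹ * (d * t * d⁻¹) = d * (t * t) * d⁻¹ := by group
          _ = 1 := by rw [htt]; group
      have hk'inv : t * k' * t = k'⁻¹ := by
        have h1 : k' * (t * k' * t) = 1 := by
          calc k' * (t * k' * t) = (k' * t) * (k' * t) := by group
            _ = 1 := hk'sq
        exact (eq_inv_of_mul_eq_one_right h1)
      set r' := d * r * d⁻¹ with hr'
      have hr'Q : r' ∈ Q := RankOne.conj_D_mem hS hd hr
      rw [ht'] at e2
      -- k' t s k' t = r'⁻¹ k' t r'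
      set r'' := k'⁻¹ * r' * k' with hr''
      have hr''Q : r'' ∈ Q := RankOne.conj_D_mem' hS hk'D hr'Q
      have htk' : t * k' = k'⁻¹ * t := by
        calc t * k' = (t * k' * t) * t := by
              rw [mul_assoc, mul_assoc, htt, mul_one]
          _ = k'⁻¹ * t := by rw [hk'inv]
      have e3 : t * s * t = r''⁻¹ * k'⁻¹ * t * r'' := by
        have h1 : t * s * t = k'⁻¹ * ((k' * t) * s * (k' * t)) * (t * k'⁻¹ * t) := by
          have : k'⁻¹ * ((k' * t) * s * (k' * t)) * (t * k'⁻¹ * t) = t * s * k' * (t * t) * k'⁻¹ * t := by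
            group
          rw [this, htt]; group
        have hk'' : t * k'⁻¹ * t = k' := by
          have : (t * k' * t)⁻¹ = t * k'⁻¹ * t := by
            rw [mul_inv_rev, mul_inv_rev, hti, mul_assoc]
          rw [← this, hk'inv, inv_inv]
        rw [h1, e2, hk'', hr'']
        calc k'⁻¹ * (r'⁻¹ * (k' * t) * r') * k'
            = (k'⁻¹ * r' * k')⁻¹ * (t * k') * (k'⁻¹ * r' * k') := by group
          _ = (k'⁻¹ * r' * k')⁻¹ * (k'⁻¹ * t) * (k'⁻¹ * r' * k') := by rw [htk']
          _ = (k'⁻¹ * r' * k')⁻¹ * k'⁻¹ * t * (k'⁻¹ * r' * k') := by group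
      rw [e1] at e3
      obtain ⟨h5, -⟩ := RankOne.structure_unique hS (RankOne.D G a t).one_mem
        (RankOne.D_inv_mem hk'D) hr hr''Q e3
      have hk'1 : k' = 1 := by
        have := congrArg (fun z => z⁻¹) h5
        simpa using this.symm
      have : d * t * d⁻¹ = t := by rw [ht', hk'1, one_mul]
      calc d * t = (d * t * d⁻¹) * d := by group
        _ = t * d := by rw [this]
  constructor
  · intro s r hs hr e
    ext d
    simp only [mem_inf]
    rw [hcent, hcent]
    constructor
    · rintro ⟨hd, h⟩; exact ⟨hd, (part1 s r hs hr e d hd).mp h⟩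
    · rintro ⟨hd, h⟩; exact ⟨hd, (part1 s r hs hr e d hd).mpr h⟩
  · -- part (2)
    obtain ⟨s0, hs0, hs01, hs0s, r0, hr0, e0⟩ := RankOne.structure_surj hS h1K
    rw [mul_one] at e0
    have hs0I : s0 ∈ Cfsg.involutionsIn (MulAction.stabilizer G a : Set G) := ⟨hs0, hs01, hs0s⟩
    ext d
    simp only [mem_inf]
    constructor
    · rintro ⟨⟨hd, hdt⟩, hdK⟩
      refine ⟨hd, ?_⟩
      rw [hcent] at hdt
      have hds0 := (part1 s0 r0 hs0I hr0 e0 d hd).mp hdt
      rw [mem_centralizer_iff]
      intro s hs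
      -- s = k⁻¹ s0 k
      have hS1122 : ∃ k ∈ Cfsg.invertedBy (RankOne.D G a t) t, k⁻¹ * s0 * k = s := by
        -- reuse the argument through structure lemmas: conjugacy via K
        obtain ⟨hsa, hs1, hss⟩ := hs
        set v := t * s * t with hv
        have hvv : v * v = 1 := by
          calc v * v = t * s * (t * t) * s * t := by rw [hv]; group
            _ = t * (s * s) * t := by rw [htt]; group
            _ = 1 := by rw [hss, mul_one, htt]
        have hv1 : v ≠ 1 := by
          intro h
          apply hs1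
          have : s = t * v * t := by
            calc s = (t * t) * s * (t * t) := by rw [htt]; group
              _ = t * v * t := by rw [hv]; group
          rw [this, h, mul_one, htt]
        have hvb : v • (t • a) = t • a := by
          rw [hv, mul_smul, mul_smul, RankOne.t_smul_t_smul hS]
          have : s • a = a := hsa
          rw [this]
        have hvnot : v ∉ stabilizer G a := by
          intro h
          have h1 : v • a = a := h
          exact RankOne.b_ne hS (RankOne.invol_fix_unique hS hv1 hvv hvb h1)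
        have hodd := RankOne.odd_order_mul hS hs0 hs01 hs0s hvnot hvv
        obtain ⟨w, hww, hw⟩ := RankOne.conj_of_odd_invol hs0s hvv hodd
        have hwa : w • a = t • a := by
          have h1 : v • (w • a) = w • a := by
            rw [← hw, mul_smul, mul_smul, ← mul_smul w w, hww, one_smul]
            have : s0 • a = a := hs0
            rw [this]
          exact RankOne.invol_fix_unique hS hv1 hvv h1 hvb
        have hwb : w • (t • a) = a := by
          rw [← hwa, ← mul_smul, hww, one_smul]
        have hkD : t * w ∈ RankOne.D G a t := by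
          refine RankOne.mem_D_iff.mpr ⟨?_, ?_⟩
          · rw [mul_smul, hwa, RankOne.t_smul_t_smul hS]
          · rw [mul_smul, hwb]
        have hwi : w⁻¹ = w := RankOne.inv_of_sq hww
        have hkK : t * w ∈ Cfsg.invertedBy (RankOne.D G a t) t := by
          refine (RankOne.mem_K_iff hS).mpr ⟨hkD, ?_⟩
          rw [mul_inv_rev, hwi, hti]
          calc t * (t * w) * t = (t * t) * w * t := by group
            _ = w * t := by rw [htt, one_mul]
        refine ⟨(t * w)⁻¹, RankOne.K_inv_mem hS hkK, ?_⟩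
        rw [inv_inv, mul_inv_rev, hwi, hti]
        calc t * w * s0 * (w * t) = t * (w * s0 * w) * t := by group
          _ = t * v * t := by rw [hw]
          _ = (t * t) * s * (t * t) := by rw [hv]; group
          _ = s := by rw [htt]; group
      obtain ⟨k, hk, rfl⟩ := hS1122
      rw [mem_centralizer_iff] at hdK
      have hdk : k * d = d * k := hdK k hk
      have hdk' : k⁻¹ * d = d * k⁻¹ := by
        calc k⁻¹ * d = k⁻¹ * (d * k) * k⁻¹ := by group
          _ = k⁻¹ * (k * d) * k⁻¹ := by rw [hdk]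
          _ = d * k⁻¹ := by group
      calc k⁻¹ * s0 * k * d = k⁻¹ * s0 * (k * d) := by group
        _ = k⁻¹ * s0 * (d * k) := by rw [hdk]
        _ = k⁻¹ * (s0 * d) * k := by group
        _ = k⁻¹ * (d * s0) * k := by rw [hds0]
        _ = (k⁻¹ * d) * s0 * k := by group
        _ = d * (k⁻¹ * s0 * k) := by rw [hdk']; group
    · rintro ⟨hd, hdI⟩
      rw [mem_centralizer_iff] at hdI
      have hds0 : d * s0 = s0 * d := (hdI s0 hs0I).symm
      have hdt : d * t = t * d := (part1 s0 r0 hs0I hr0 e0 d hd).mpr hds0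
      refine ⟨⟨hd, (hcent t d).mpr hdt⟩, ?_⟩
      rw [mem_centralizer_iff]
      intro k hk
      obtain ⟨s, hs, hs1, hss, f, hf, e⟩ := RankOne.structure_surj hS hk
      have hds : d * s * d⁻¹ = s := by
        have : s * d = d * s := hdI s ⟨hs, hs1, hss⟩
        rw [← this]; group
      have e2 := conj_structure (Q := Q) (a := a) hdt e
      rw [hds, e] at e2
      have hkD := ((RankOne.mem_K_iff hS).mp hk).1
      have hkD' : d * k * d⁻¹ ∈ RankOne.D G a t :=
        RankOne.D_mul_mem (RankOne.D_mul_mem hd hkD) (RankOne.D_inv_mem hd)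
      obtain ⟨h5, -⟩ := RankOne.structure_unique hS hkD hkD' hf (RankOne.conj_D_mem hS hd hf) e2
      calc k * d = (d * k * d⁻¹) * d := by rw [← h5]
        _ = d * k := by group

end Cfsg.Agent.S1127
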