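import Cfsg.Statements.S1128
import Cfsg.Agent.Lib.Helper8.RankOne8
import Cfsg.Agent.S1122

set_option autoImplicit false
open Cfsg

namespace Cfsg.Agent.S1128

open Subgroup MulAction Cfsg.Agent.Lib.Helper8

/-- In the rank-one set-up: every non-identity element of `D` inverted by `t` acts fixed-point-freely on `Q`. -/
theorem result {G Ω : Type*} [Group G] [Finite G] [MulAction G Ω] [FaithfulSMul G Ω] {a : Ω} {t : G} {Q : Subgroup G}
    (hS : Cfsg.IsRankOneSetup G Ω a t Q)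
    (h2 : ∃ x y : G, x ≠ 1 ∧ y ≠ 1 ∧ x ≠ y ∧ x * x = 1 ∧ y * y = 1 ∧ x * y = y * x)
    (x : G) (hx : x ∈ Cfsg.invertedBy (MulAction.stabilizer G a ⊓ MulAction.stabilizer G (t • a)) t) (hx1 : x ≠ 1) :
    Q ⊓ Subgroup.centralizer {x} = ⊥ := by
  classical
  obtain ⟨hcard, hconj⟩ := Cfsg.Agent.S1122.result hS
  have hxD : x ∈ RankOne.D G a t := hx.1
  rw [eq_bot_iff]
  rintro y ⟨hyQ, hyC⟩
  rw [mem_bot]
  by_contra hy1
  -- x fixes the three points a, b, y • b
  have hyx : x * y = y * x := by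
    have hyC' : y ∈ centralizer ({x} : Set G) := hyC
    rw [mem_centralizer_iff] at hyC'
    exact hyC' x (Set.mem_singleton x)
  have hX : ({x} : Set G) ⊆ (RankOne.D G a t : Set G) := by
    intro z hz; rw [Set.mem_singleton_iff] at hz; rw [hz]; exact hxD
  have hyb_ne_a : y • (t • a) ≠ a := RankOne.Q_smul_ne hS (RankOne.b_ne hS) hyQ
  have hyb_ne_b : y • (t • a) ≠ t • a := fun h => hy1 (RankOne.Q_inf_D hS hyQ h)
  have h3 : ∃ b c d : Ω, b ≠ c ∧ b ≠ d ∧ c ≠ d ∧ ∀ z ∈ ({x} : Set G), z • b = b ∧ z • c = c ∧ z • d = d := by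
    refine ⟨a, t • a, y • (t • a), (RankOne.b_ne hS).symm, hyb_ne_a.symm, hyb_ne_b.symm, ?_⟩
    intro z hz
    rw [Set.mem_singleton_iff] at hz
    subst hz
    refine ⟨hxD.1, hxD.2, ?_⟩
    rw [← mul_smul, hyx, mul_smul, hxD.2]
  obtain ⟨s, ⟨hsC, hsQ⟩, hs1, hss⟩ := RankOne.exists_invol_cent_Q hS hX h3
  have hsI : s ∈ Cfsg.involutionsIn (MulAction.stabilizer G a : Set G) := ⟨hS.le hsQ, hs1, hss⟩
  -- the map k ↦ k⁻¹ s k from K to I_a is surjective, hence injective
  have : Finite ↥(Cfsg.invertedBy (MulAction.stabilizer G a ⊓ MulAction.stabilizer G (t • a)) t) :=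
    Subtype.finite
  have : Finite ↥(Cfsg.involutionsIn (MulAction.stabilizer G a : Set G)) := Subtype.finite
  have hmem : ∀ k : ↥(Cfsg.invertedBy (MulAction.stabilizer G a ⊓ MulAction.stabilizer G (t • a)) t),
      (k : G)⁻¹ * s * (k : G) ∈ Cfsg.involutionsIn (MulAction.stabilizer G a : Set G) := by
    intro k
    have hkD : (k : G) ∈ RankOne.D G a t := k.2.1
    refine ⟨?_, ?_, ?_⟩
    · exact (stabilizer G a).mul_mem ((stabilizer G a).mul_mem ((stabilizer G a).inv_mem hkD.1) (hS.le hsQ)) hkD.1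
    · intro h
      apply hs1
      have : s = (k : G) * ((k : G)⁻¹ * s * (k : G)) * (k : G)⁻¹ := by group
      rw [this, h]; group
    · calc (k : G)⁻¹ * s * (k : G) * ((k : G)⁻¹ * s * (k : G)) = (k : G)⁻¹ * (s * s) * (k : G) := by group
        _ = 1 := by rw [hss]; group
  let φ : ↥(Cfsg.invertedBy (MulAction.stabilizer G a ⊓ MulAction.stabilizer G (t • a)) t) →
      ↥(Cfsg.involutionsIn (MulAction.stabilizer G a : Set G)) := fun k => ⟨_, hmem k⟩
  have hsurj : Function.Surjective φ := by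
    rintro ⟨s', hs'⟩
    obtain ⟨k, hk, hks⟩ := hconj s hsI s' hs'
    exact ⟨⟨k, hk⟩, Subtype.ext hks⟩
  have hbij : Function.Bijective φ :=
    (Nat.bijective_iff_surjective_and_card φ).mpr ⟨hsurj, hcard⟩
  have h1K : (1 : G) ∈ Cfsg.invertedBy (MulAction.stabilizer G a ⊓ MulAction.stabilizer G (t • a)) t := by
    refine (RankOne.mem_K_iff hS).mpr ⟨(RankOne.D G a t).one_mem, ?_⟩
    rw [mul_one, hS.mul_self, inv_one]
  have hxs : x * s = s * x := by
    have hsC' : s ∈ centralizer ({x} : Set G) := hsC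
    rw [mem_centralizer_iff] at hsC'
    exact hsC' x (Set.mem_singleton x)
  have heq : φ ⟨x, hx⟩ = φ ⟨1, h1K⟩ := by
    apply Subtype.ext
    show x⁻¹ * s * x = (1 : G)⁻¹ * s * 1
    calc x⁻¹ * s * x = x⁻¹ * (s * x) := by group
      _ = x⁻¹ * (x * s) := by rw [hxs]
      _ = (1 : G)⁻¹ * s * 1 := by group
  have := hbij.1 heq
  exact hx1 (congrArg Subtype.val this)

end Cfsg.Agent.S1128
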