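import Cfsg.Statements.S1129
import Cfsg.Agent.Lib.Helper19.RankOneAux
import Cfsg.Agent.S1128
import Cfsg.Agent.S0033

set_option autoImplicit false
open Cfsg

namespace Cfsg.Agent.S1129

open Subgroup MulAction Cfsg.Agent.Lib.Helper8 Cfsg.Agent.Lib.Helper19

/-- In the rank-one set-up (`G` finite and doubly transitive on `Ω`, `t` an involution moving `a`, `Q` normal in `G_a` with `G_a = Q D`, `Q ⊓ D = 1` for the two-point stabiliser `D = G_a ⊓ G_{t • a}`, `|Q|` even, `|D|` odd), with the action faithful and `G` containing two distinct commuting involutions: `Q` is nilpotent. -/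
theorem result {G Ω : Type*} [Group G] [Finite G] [MulAction G Ω] [FaithfulSMul G Ω] {a : Ω} {t : G} {Q : Subgroup G}
    (hS : Cfsg.IsRankOneSetup G Ω a t Q)
    (h2 : ∃ x y : G, x ≠ 1 ∧ y ≠ 1 ∧ x ≠ y ∧ x * x = 1 ∧ y * y = 1 ∧ x * y = y * x) :
    Group.IsNilpotent Q := by
  classical
  obtain ⟨k, hk, p, hp, hord⟩ := RankOneAux.exists_K_prime hS h2
  have hk1 : k ≠ 1 := by
    intro h
    rw [h, orderOf_one] at hord
    exact hp.one_lt.ne hord
  have hfpf : Q ⊓ centralizer {k} = ⊥ := Cfsg.Agent.S1128.result hS h2 k hk hk1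
  have hkD : k ∈ RankOne.D G a t := hk.1
  have hy : ∀ x ∈ Q, k * x * k⁻¹ ∈ Q := fun x hx => RankOne.conj_D_mem hS hkD hx
  have hy' : ∀ x ∈ Q, k⁻¹ * x * k ∈ Q := fun x hx => RankOne.conj_D_mem' hS hkD hx
  have hfix : ∀ x : Q, RankOneAux.conjQ Q k hy hy' x = x → x = 1 := by
    intro x hx
    have h1 : k * (x : G) * k⁻¹ = x := congrArg Subtype.val hx
    have h3 : (x : G) ∈ Q ⊓ centralizer {k} := by
      refine ⟨x.2, ?_⟩
      show (x : G) ∈ centralizer ({k} : Set G)
      rw [mem_centralizer_iff]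
      intro z hz
      rw [Set.mem_singleton_iff] at hz
      rw [hz]
      calc k * (x : G) = (k * x * k⁻¹) * k := by group
        _ = x * k := by rw [h1]
    rw [hfpf, mem_bot] at h3
    exact Subtype.ext h3
  have hfpf' : MonoidHom.FixedPointFree ((RankOneAux.conjQ Q k hy hy' : ↥Q ≃* ↥Q) : ↥Q →* ↥Q) := by
    intro x hx
    exact hfix x hx
  have hpow : (RankOneAux.conjQ Q k hy hy') ^ p = 1 := by
    apply MulEquiv.ext
    intro x
    apply Subtype.ext
    rw [RankOneAux.conjQ_pow_apply, ← hord, pow_orderOf_eq_one]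
    simp
  have hφ1 : RankOneAux.conjQ Q k hy hy' ≠ 1 := by
    intro h
    obtain ⟨x, hxQ, hx1⟩ := RankOne.exists_ne_one hS
    apply hx1
    have h3 := hfix ⟨x, hxQ⟩ (by rw [h]; rfl)
    exact congrArg Subtype.val h3
  have hordφ : orderOf (RankOneAux.conjQ Q k hy hy') = p := by
    have hdvd : orderOf (RankOneAux.conjQ Q k hy hy') ∣ p := orderOf_dvd_of_pow_eq_one hpow
    rcases (Nat.dvd_prime hp).mp hdvd with h | h
    · exact absurd (orderOf_eq_one_iff.mp h) hφ1
    · exact h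
  exact Cfsg.Agent.S0033.result (RankOneAux.conjQ Q k hy hy') hfpf' p hp hordφ

end Cfsg.Agent.S1129
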