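import Cfsg.Statements.S1134
import Cfsg.Agent.Lib.Helper8.RankOne8
import Cfsg.Agent.S1125

set_option autoImplicit false
open Cfsg

namespace Cfsg.Agent.S1134

open Subgroup MulAction Cfsg.Agent.Lib.Helper8 Cfsg.Agent.Lib.Helper8.RankOne

/-- In the rank-one set-up (`G` finite and doubly transitive on `Ω`, `t` an involution moving `a`, `Q` normal in `G_a` with `G_a = Q D`, `Q ⊓ D = 1` for the two-point stabiliser `D = G_a ⊓ G_{t • a}`, `|Q|` even, `|D|` odd), with the action faithful and `G` containing two distinct commuting involutions, with `V = C_D(t)`: subsets of `V` conjugate in `G` are conjugate in `V`. -/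
theorem result {G Ω : Type*} [Group G] [Finite G] [MulAction G Ω] [FaithfulSMul G Ω] {a : Ω} {t : G} {Q : Subgroup G}
    (hS : Cfsg.IsRankOneSetup G Ω a t Q)
    (h2 : ∃ x y : G, x ≠ 1 ∧ y ≠ 1 ∧ x ≠ y ∧ x * x = 1 ∧ y * y = 1 ∧ x * y = y * x)
    (X : Set G) (hX : X ⊆ (((MulAction.stabilizer G a ⊓ MulAction.stabilizer G (t • a)) ⊓ Subgroup.centralizer {t} : Subgroup G) : Set G)) (g : G)
    (hY : (fun x => g * x * g⁻¹) '' X ⊆ (((MulAction.stabilizer G a ⊓ MulAction.stabilizer G (t • a)) ⊓ Subgroup.centralizer {t} : Subgroup G) : Set G)) :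
    ∃ v ∈ (MulAction.stabilizer G a ⊓ MulAction.stabilizer G (t • a)) ⊓ Subgroup.centralizer {t}, (fun x => v * x * v⁻¹) '' X = (fun x => g * x * g⁻¹) '' X := by
  classical
  have hti := t_inv hS
  have htt := hS.mul_self
  obtain ⟨c0, hc0⟩ := invol_exists_fix hS hS.mul_self
  have hab : a ≠ t • a := (b_ne hS).symm
  have hc0a : c0 ≠ a := by
    intro h
    rw [h] at hc0
    exact hS.not_mem hc0
  have hc0b : c0 ≠ t • a := by
    intro h
    rw [h, t_smul_t_smul hS] at hc0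
    exact hab hc0
  -- membership facts
  have hmemV : ∀ {y : G}, y ∈ (((stabilizer G a ⊓ stabilizer G (t • a)) ⊓ centralizer {t} : Subgroup G) : Set G) →
      y • a = a ∧ y • (t • a) = t • a ∧ t * y = y * t := by
    intro y hy
    have hy' := Subgroup.mem_inf.mp hy
    have hyD := Subgroup.mem_inf.mp hy'.1
    refine ⟨hyD.1, hyD.2, ?_⟩
    have := Subgroup.mem_centralizer_iff.mp hy'.2 t rfl
    exact this
  have hXD : X ⊆ ((stabilizer G a ⊓ stabilizer G (t • a) : Subgroup G) : Set G) := fun x hx =>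
    (Subgroup.mem_inf.mp (hX hx)).1
  have hXc0 : ∀ x ∈ X, x • c0 = c0 := by
    intro x hx
    obtain ⟨-, -, hxt⟩ := hmemV (hX hx)
    refine invol_fix_unique hS hS.ne_one hS.mul_self ?_ hc0
    rw [← mul_smul, hxt, mul_smul, hc0]
  obtain ⟨h2t, -, -⟩ := Cfsg.Agent.S1125.result hS X hXD
    ⟨a, t • a, c0, hab, hc0a.symm, hc0b.symm, fun x hx =>
      ⟨(hmemV (hX hx)).1, (hmemV (hX hx)).2.1, hXc0 x hx⟩⟩
  -- X fixes g⁻¹ a and g⁻¹ (t a)
  have hYmem : ∀ x ∈ X, g * x * g⁻¹ ∈ (((stabilizer G a ⊓ stabilizer G (t • a)) ⊓ centralizer {t} : Subgroup G) : Set G) :=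
    fun x hx => hY (Set.mem_image_of_mem _ hx)
  have hXga : ∀ x ∈ X, x • (g⁻¹ • a) = g⁻¹ • a := by
    intro x hx
    have h := (hmemV (hYmem x hx)).1
    rw [mul_smul, mul_smul] at h
    have := congrArg (fun c => g⁻¹ • c) h
    simpa using this
  have hXgb : ∀ x ∈ X, x • (g⁻¹ • (t • a)) = g⁻¹ • (t • a) := by
    intro x hx
    have h := (hmemV (hYmem x hx)).2.1
    rw [mul_smul, mul_smul] at h
    have := congrArg (fun c => g⁻¹ • c) h
    simpa using this
  have hgne : g⁻¹ • a ≠ g⁻¹ • (t • a) := by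
    intro h
    exact hab (smul_left_cancel g⁻¹ h)
  obtain ⟨z, hzC, hza, hzb⟩ := h2t a (t • a) (g⁻¹ • a) (g⁻¹ • (t • a))
    (fun x hx => ⟨(hmemV (hX hx)).1, (hmemV (hX hx)).2.1, hXga x hx, hXgb x hx⟩) hab hgne
  set d := g * z with hd
  have hda : d • a = a := by rw [hd, mul_smul, hza, smul_inv_smul]
  have hdb : d • (t • a) = t • a := by rw [hd, mul_smul, hzb, smul_inv_smul]
  have hdia : d⁻¹ • a = a := by rw [inv_smul_eq_iff, hda]
  have hdib : d⁻¹ • (t • a) = t • a := by rw [inv_smul_eq_iff, hdb]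
  have hdx : ∀ x ∈ X, d * x * d⁻¹ = g * x * g⁻¹ := by
    intro x hx
    have hzx : x * z = z * x := (Subgroup.mem_centralizer_iff.mp hzC x hx)
    calc d * x * d⁻¹ = g * (z * x) * z⁻¹ * g⁻¹ := by rw [hd]; group
      _ = g * (x * z) * z⁻¹ * g⁻¹ := by rw [hzx]
      _ = g * x * g⁻¹ := by group
  -- t' = d t d⁻¹, k = t' t
  set t' := d * t * d⁻¹ with ht'
  have ht't' : t' * t' = 1 := by
    rw [ht']
    calc d * t * d⁻¹ * (d * t * d⁻¹) = d * (t * t) * d⁻¹ := by group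
      _ = 1 := by rw [htt]; group
  have ht'i : t'⁻¹ = t' := inv_of_sq ht't'
  have ht'a : t' • a = t • a := by
    rw [ht', mul_smul, mul_smul, hdia, hdb]
  have ht'b : t' • (t • a) = a := by
    rw [ht', mul_smul, mul_smul, hdib, t_smul_t_smul hS, hda]
  set k := t' * t with hk
  have hkD : k ∈ D G a t := by
    refine mem_D_iff.mpr ⟨?_, ?_⟩
    · rw [hk, mul_smul, ht'b]
    · rw [hk, mul_smul, t_smul_t_smul hS, ht'a]
  have hkt : t * k * t = k⁻¹ := by
    rw [hk, mul_inv_rev, hti, ht'i]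
    calc t * (t' * t) * t = t * t' * (t * t) := by group
      _ = t * t' := by rw [htt, mul_one]
  have hkK : k ∈ Cfsg.invertedBy (D G a t) t := (mem_K_iff hS).mpr ⟨hkD, hkt⟩
  obtain ⟨m, hmK, hmm⟩ := K_sqrt hS hkK
  obtain ⟨hmD, hmt⟩ := (mem_K_iff hS).mp hmK
  -- m is a power of k
  obtain ⟨j0, hj0⟩ := hS.odd_card
  have hmpow : m = k ^ (j0 + 1) := by
    have h1 : (⟨m, hmD⟩ : D G a t) ^ Nat.card (D G a t) = 1 := pow_card_eq_one'
    have h2 := congrArg Subtype.val h1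
    rw [Subgroup.coe_pow, Subgroup.coe_one] at h2
    have h3 : m ^ (2 * j0 + 1) = 1 := by rw [← hj0]; exact h2
    calc m = m ^ (2 * j0 + 1) * m := by rw [h3, one_mul]
      _ = (m * m) ^ (j0 + 1) := by
          rw [← pow_two, ← pow_mul, ← pow_succ]
          congr 1
      _ = k ^ (j0 + 1) := by rw [hmm]
  -- v = m⁻¹ d
  have hmk : m * k = k * m := by rw [← hmm]; group
  have hvt : (m⁻¹ * d) * t * (m⁻¹ * d)⁻¹ = t := by
    have h1 : t' = k * t := by
      rw [hk]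
      calc t' = t' * (t * t) := by rw [htt, mul_one]
        _ = t' * t * t := by group
    have h3 : t * k = k⁻¹ * t := by
      calc t * k = (t * k * t) * t := by rw [mul_assoc (t * k), htt, mul_one]
        _ = k⁻¹ * t := by rw [hkt]
    have hmik : m⁻¹ * k = k * m⁻¹ := by
      calc m⁻¹ * k = m⁻¹ * (k * m) * m⁻¹ := by group
        _ = m⁻¹ * (m * k) * m⁻¹ := by rw [hmk]
        _ = k * m⁻¹ := by group
    calc (m⁻¹ * d) * t * (m⁻¹ * d)⁻¹ = m⁻¹ * (d * t * d⁻¹) * m := by group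
      _ = m⁻¹ * (k * t) * m := by rw [← ht', h1]
      _ = (m⁻¹ * k) * t * m := by group
      _ = (k * m⁻¹) * t * m := by rw [hmik]
      _ = k * (m⁻¹ * t * m) := by group
      _ = k * (t * (m * m)) := by rw [conj_t_of_K hS hmK]
      _ = k * (t * k) := by rw [hmm]
      _ = k * (k⁻¹ * t) := by rw [h3]
      _ = t := by group
  have hvD : m⁻¹ * d ∈ D G a t := by
    refine (D G a t).mul_mem ((D G a t).inv_mem hmD) (mem_D_iff.mpr ⟨hda, hdb⟩)
  refine ⟨m⁻¹ * d, Subgroup.mem_inf.mpr ⟨hvD, ?_⟩, ?_⟩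
  · rw [Subgroup.mem_centralizer_iff]
    intro h hh
    rw [Set.mem_singleton_iff] at hh
    subst hh
    calc h * (m⁻¹ * d) = ((m⁻¹ * d) * h * (m⁻¹ * d)⁻¹) * (m⁻¹ * d) := by rw [hvt]
      _ = (m⁻¹ * d) * h := by group
  · apply Set.image_congr
    intro x hx
    -- y = g x g⁻¹ commutes with t and t', hence with k and m
    have hy := hmemV (hYmem x hx)
    have hxt := (hmemV (hX hx)).2.2
    have hyt : t * (g * x * g⁻¹) = (g * x * g⁻¹) * t := hy.2.2
    have hyt' : t' * (g * x * g⁻¹) = (g * x * g⁻¹) * t' := by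
      rw [← hdx x hx, ht']
      calc d * t * d⁻¹ * (d * x * d⁻¹) = d * (t * x) * d⁻¹ := by group
        _ = d * (x * t) * d⁻¹ := by rw [hxt]
        _ = d * x * d⁻¹ * (d * t * d⁻¹) := by group
    have hyk : Commute k (g * x * g⁻¹) := by
      show k * (g * x * g⁻¹) = (g * x * g⁻¹) * k
      rw [hk, mul_assoc, hyt, ← mul_assoc, hyt', mul_assoc]
    have hym : Commute m (g * x * g⁻¹) := by
      rw [hmpow]; exact hyk.pow_left _
    calc m⁻¹ * d * x * (m⁻¹ * d)⁻¹ = m⁻¹ * (d * x * d⁻¹) * m := by group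
      _ = m⁻¹ * (g * x * g⁻¹) * m := by rw [hdx x hx]
      _ = m⁻¹ * (m * (g * x * g⁻¹)) := by rw [mul_assoc, hym.eq]
      _ = g * x * g⁻¹ := by group

end Cfsg.Agent.S1134
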