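import Cfsg.Statements.S1135
import Cfsg.Agent.Lib.Helper8.RankOne8
import Cfsg.Agent.S1121
import Cfsg.Agent.S1130

set_option autoImplicit false
open Cfsg

namespace Cfsg.Agent.S1135

open Subgroup MulAction Cfsg.Agent.Lib.Helper8 Cfsg.Agent.Lib.Helper8.RankOne

section aux

variable {G Ω : Type*} [Group G] [Finite G] [MulAction G Ω] {a : Ω} {t : G} {Q : Subgroup G}

lemma orderOf_conj' (g x : G) : orderOf (g * x * g⁻¹) = orderOf x := by
  have := MulEquiv.orderOf_eq (MulAut.conj g) x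
  simpa [MulAut.conj_apply] using this

lemma conj_sq {g x : G} (hx : x * x = 1) : (g * x * g⁻¹) * (g * x * g⁻¹) = 1 := by
  calc (g * x * g⁻¹) * (g * x * g⁻¹) = g * (x * x) * g⁻¹ := by group
    _ = 1 := by rw [hx]; group

lemma conj_ne_one {g x : G} (hx : x ≠ 1) : g * x * g⁻¹ ≠ 1 := by
  intro h
  apply hx
  have : x = g⁻¹ * (g * x * g⁻¹) * g := by group
  rw [this, h]; group

/-- involutions with different fixed points have a product of odd order -/
lemma odd_mul_of_fix_ne (hS : Cfsg.IsRankOneSetup G Ω a t Q) {z u : G} (hz1 : z ≠ 1)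
    (hzz : z * z = 1) (hu1 : u ≠ 1) (huu : u * u = 1) {cz cu : Ω} (hz : z • cz = cz)
    (hu : u • cu = cu) (hne : cz ≠ cu) : Odd (orderOf (z * u)) := by
  haveI := isPretransitive hS
  obtain ⟨g, hg⟩ := MulAction.exists_smul_eq G cz a
  have h1 : g * z * g⁻¹ ∈ stabilizer G a := by
    show (g * z * g⁻¹) • a = a
    rw [mul_smul, mul_smul, ← hg, inv_smul_smul, hz]
  have h2 : g * u * g⁻¹ ∉ stabilizer G a := by
    intro h
    have h' : (g * u * g⁻¹) • a = a := h
    rw [mul_smul, mul_smul, ← hg, inv_smul_smul] at h'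
    have h'' : u • cz = cz := by
      have := congrArg (fun c => g⁻¹ • c) h'
      simpa using this
    exact hne (invol_fix_unique hS hu1 huu h'' hu)
  have h3 := odd_order_mul hS h1 (conj_ne_one hz1) (conj_sq hzz) h2 (conj_sq huu)
  have h4 : g * z * g⁻¹ * (g * u * g⁻¹) = g * (z * u) * g⁻¹ := by group
  rw [h4, orderOf_conj'] at h3
  exact h3

/-- the subgroup of elements conjugating `x` to `x` or `x⁻¹` -/
def invSub (x : G) : Subgroup G where
  carrier := {g | g * x * g⁻¹ = x ∨ g * x * g⁻¹ = x⁻¹}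
  one_mem' := Or.inl (by group)
  mul_mem' := by
    rintro g h (hg | hg) (hh | hh)
    · left
      calc g * h * x * (g * h)⁻¹ = g * (h * x * h⁻¹) * g⁻¹ := by group
        _ = x := by rw [hh, hg]
    · right
      calc g * h * x * (g * h)⁻¹ = g * (h * x * h⁻¹) * g⁻¹ := by group
        _ = (g * x * g⁻¹)⁻¹ := by rw [hh]; group
        _ = x⁻¹ := by rw [hg]
    · right
      calc g * h * x * (g * h)⁻¹ = g * (h * x * h⁻¹) * g⁻¹ := by group
        _ = x⁻¹ := by rw [hh, hg]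
    · left
      calc g * h * x * (g * h)⁻¹ = g * (h * x * h⁻¹) * g⁻¹ := by group
        _ = (g * x * g⁻¹)⁻¹ := by rw [hh]; group
        _ = x := by rw [hg, inv_inv]
  inv_mem' := by
    rintro g (hg | hg)
    · left
      calc g⁻¹ * x * g⁻¹⁻¹ = g⁻¹ * (g * x * g⁻¹) * g := by rw [hg]; group
        _ = x := by group
    · right
      calc g⁻¹ * x * g⁻¹⁻¹ = (g⁻¹ * (g * x * g⁻¹) * g)⁻¹ := by rw [hg]; group
        _ = x⁻¹ := by group

lemma conj_pow_of_odd {u v : G} (hu : u * u = 1) (hv : v * v = 1) {k : ℕ}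
    (hk : orderOf (u * v) = 2 * k + 1) : (u * v) ^ k * u * ((u * v) ^ k)⁻¹ = v := by
  have hpow : (u * v) ^ (2 * k + 1) = 1 := by rw [← hk]; exact pow_orderOf_eq_one _
  have hinv : ((u * v) ^ k)⁻¹ = (v * u) ^ k := by
    rw [← inv_pow, mul_inv_rev, inv_of_sq hu, inv_of_sq hv]
  rw [hinv, mul_assoc, inv_pow_swap u v k, ← mul_assoc, ← pow_add, ← two_mul]
  have h1 : (u * v) ^ (2 * k) * (u * v) = 1 := by rw [← pow_succ]; exact hpow
  have h2 : (u * v) ^ (2 * k) = (u * v)⁻¹ := eq_inv_of_mul_eq_one_left h1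
  rw [h2, mul_inv_rev, inv_of_sq hu, inv_of_sq hv, mul_assoc, hu, mul_one]

/-- if `z` centralises `x`, `u` inverts `x`, and `z u` has odd order, then `x² = 1`. -/
lemma sq_eq_one_of_cent_inv {z u x : G} (hzz : z * z = 1) (huu : u * u = 1)
    (hzx : z * x = x * z) (hux : u * x * u = x⁻¹) (hodd : Odd (orderOf (z * u))) :
    x * x = 1 := by
  obtain ⟨k, hk⟩ := hodd
  have hc := conj_pow_of_odd hzz huu hk
  set c := (z * u) ^ k with hcdef
  have hzi : z⁻¹ = z := inv_of_sq hzz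
  have hui : u⁻¹ = u := inv_of_sq huu
  have hzmem : z ∈ invSub x := Or.inl (by rw [hzx]; group)
  have humem : u ∈ invSub x := Or.inr (by rw [hui]; exact hux)
  have hcmem : c ∈ invSub x := (invSub x).pow_mem ((invSub x).mul_mem hzmem humem) k
  have hcimem : c⁻¹ ∈ invSub x := (invSub x).inv_mem hcmem
  -- y = c⁻¹ x c is x or x⁻¹, commuting with z
  have hy : z * (c⁻¹ * x * c) * z⁻¹ = c⁻¹ * x * c := by
    have hzx' : z * x * z⁻¹ = x := by rw [hzx]; group
    have hzxi : z * x⁻¹ * z⁻¹ = x⁻¹ := by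
      calc z * x⁻¹ * z⁻¹ = (z * x * z⁻¹)⁻¹ := by group
        _ = x⁻¹ := by rw [hzx']
    rcases hcimem with h | h
    · rw [inv_inv] at h; rw [h]; exact hzx'
    · rw [inv_inv] at h; rw [h]; exact hzxi
  have h1 : u * x * u⁻¹ = x := by
    calc u * x * u⁻¹ = (c * z * c⁻¹) * x * (c * z * c⁻¹)⁻¹ := by rw [hc]
      _ = c * (z * (c⁻¹ * x * c) * z⁻¹) * c⁻¹ := by group
      _ = c * (c⁻¹ * x * c) * c⁻¹ := by rw [hy]
      _ = x := by group
  rw [hui, hux] at h1
  calc x * x = x * x⁻¹ := by rw [h1]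
    _ = 1 := mul_inv_cancel x

end aux

/-- In the rank-one set-up (`G` finite and doubly transitive on `Ω`, `t` an involution moving `a`, `Q` normal in `G_a` with `G_a = Q D`, `Q ⊓ D = 1` for the two-point stabiliser `D = G_a ⊓ G_{t • a}`, `|Q|` even, `|D|` odd), with the action faithful and `G` containing two distinct commuting involutions: if `x = u v` with `u, v` involutions and `x² ≠ 1`, then `x` is conjugate to `u' t` for some involution `u'` of `G_a`, and `|C_G(x)|` is odd. -/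
theorem result {G Ω : Type*} [Group G] [Finite G] [MulAction G Ω] [FaithfulSMul G Ω] {a : Ω} {t : G} {Q : Subgroup G}
    (hS : Cfsg.IsRankOneSetup G Ω a t Q)
    (h2 : ∃ x y : G, x ≠ 1 ∧ y ≠ 1 ∧ x ≠ y ∧ x * x = 1 ∧ y * y = 1 ∧ x * y = y * x)
    (u v : G) (hu1 : u ≠ 1) (hu2 : u * u = 1) (hv1 : v ≠ 1) (hv2 : v * v = 1) (hx : (u * v) * (u * v) ≠ 1) :
    (∃ g : G, ∃ u' ∈ Cfsg.involutionsIn (MulAction.stabilizer G a : Set G), g * (u * v) * g⁻¹ = u' * t) ∧
      Odd (Nat.card ↥(Subgroup.centralizer {u * v})) := by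
  classical
  have hpt := isPretransitive hS
  obtain ⟨hZ, hE⟩ := Cfsg.Agent.S1130.result hS h2
  obtain ⟨-, hconj⟩ := Cfsg.Agent.S1121.result hS
  obtain ⟨cu, hcu⟩ := invol_exists_fix hS hu2
  obtain ⟨cv, hcv⟩ := invol_exists_fix hS hv2
  -- the fixed points differ
  have hne : cu ≠ cv := by
    intro h
    subst h
    obtain ⟨g, hg⟩ := MulAction.exists_smul_eq G cu a
    have hfix : ∀ w : G, w • cu = cu → g * w * g⁻¹ ∈ (stabilizer G a : Set G) := by
      intro w hw
      show (g * w * g⁻¹) • a = a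
      rw [mul_smul, mul_smul, ← hg, inv_smul_smul, hw]
    have hu' : g * u * g⁻¹ ∈ Cfsg.involutionsIn (stabilizer G a : Set G) :=
      ⟨hfix u hcu, conj_ne_one hu1, conj_sq hu2⟩
    have hv' : g * v * g⁻¹ ∈ Cfsg.involutionsIn (stabilizer G a : Set G) :=
      ⟨hfix v hcv, conj_ne_one hv1, conj_sq hv2⟩
    have hsq : (g * u * g⁻¹ * (g * v * g⁻¹)) * (g * u * g⁻¹ * (g * v * g⁻¹)) = 1 := by
      rcases hE _ hu' _ hv' with h | h
      · rw [h, one_mul]
      · exact h.2.2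
    apply hx
    have : u * v * (u * v) = g⁻¹ * ((g * u * g⁻¹ * (g * v * g⁻¹)) * (g * u * g⁻¹ * (g * v * g⁻¹))) * g := by
      group
    rw [this, hsq]; group
  refine ⟨?_, ?_⟩
  · -- conjugate v to t
    obtain ⟨g₁, hg₁⟩ := hconj v t hv1 hv2 hS.ne_one hS.mul_self
    set c0 := g₁ • cv with hc0def
    set c2 := g₁ • cu with hc2def
    have htc0 : t • c0 = c0 := by
      rw [← hg₁, hc0def, mul_smul, mul_smul, inv_smul_smul, hcv]
    have hc0a : c0 ≠ a := by
      intro h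
      rw [h] at htc0
      exact hS.not_mem htc0
    have hc2c0 : c2 ≠ c0 := by
      intro h
      apply hne
      have := congrArg (fun c => g₁⁻¹ • c) h
      simpa [hc0def, hc2def] using this
    have hu2fix : (g₁ * u * g₁⁻¹) • c2 = c2 := by
      rw [hc2def, mul_smul, mul_smul, inv_smul_smul, hcu]
    obtain ⟨h₀, hh₀⟩ := MulAction.exists_smul_eq G a c0
    -- s₀ = h₀⁻¹ t h₀ is an involution of G_a, hence central in Q
    have hs₀ : h₀⁻¹ * t * h₀ ∈ Cfsg.involutionsIn (stabilizer G a : Set G) := by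
      refine ⟨?_, ?_, ?_⟩
      · show (h₀⁻¹ * t * h₀) • a = a
        rw [mul_smul, mul_smul, hh₀, htc0, ← hh₀, inv_smul_smul]
      · have := conj_ne_one (g := h₀⁻¹) hS.ne_one
        rwa [inv_inv] at this
      · have := conj_sq (g := h₀⁻¹) hS.mul_self
        rwa [inv_inv] at this
    obtain ⟨-, hcent⟩ := hZ _ hs₀
    have hp : h₀⁻¹ • c2 ≠ a := by
      intro h
      apply hc2c0
      rw [← hh₀, ← h, smul_inv_smul]
    have hp' : h₀⁻¹ • a ≠ a := by
      intro h
      apply hc0a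
      rw [← hh₀, ← h, smul_inv_smul, h]
    obtain ⟨⟨x, hxQ⟩, hxp, -⟩ := Q_regular hS hp hp'
    have hxp' : x • h₀⁻¹ • c2 = h₀⁻¹ • a := hxp
    set h := h₀ * x * h₀⁻¹ with hhdef
    have hhc2 : h • c2 = a := by
      rw [hhdef, mul_smul, mul_smul, hxp', smul_inv_smul]
    have hht : h * t * h⁻¹ = t := by
      have h1 := hcent x hxQ
      -- h₀⁻¹ t h₀ x = x h₀⁻¹ t h₀
      have h2 : t * (h₀ * x * h₀⁻¹) = (h₀ * x * h₀⁻¹) * t := by
        calc t * (h₀ * x * h₀⁻¹) = h₀ * ((h₀⁻¹ * t * h₀) * x) * h₀⁻¹ := by group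
          _ = h₀ * (x * (h₀⁻¹ * t * h₀)) * h₀⁻¹ := by rw [h1]
          _ = (h₀ * x * h₀⁻¹) * t := by group
      rw [hhdef, ← h2]; group
    refine ⟨h * g₁, h * (g₁ * u * g₁⁻¹) * h⁻¹, ⟨?_, conj_ne_one (conj_ne_one hu1), conj_sq (conj_sq hu2)⟩, ?_⟩
    · show (h * (g₁ * u * g₁⁻¹) * h⁻¹) • a = a
      rw [mul_smul, mul_smul, ← hhc2, inv_smul_smul, hu2fix]
    · calc h * g₁ * (u * v) * (h * g₁)⁻¹
          = (h * (g₁ * u * g₁⁻¹) * h⁻¹) * (h * (g₁ * v * g₁⁻¹) * h⁻¹) := by group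
        _ = (h * (g₁ * u * g₁⁻¹) * h⁻¹) * t := by rw [hg₁, hht]
  · -- odd centraliser
    rw [← Nat.not_even_iff_odd]
    intro heven
    have : Fact (Nat.Prime 2) := ⟨Nat.prime_two⟩
    obtain ⟨⟨z, hzC⟩, hz⟩ := exists_prime_orderOf_dvd_card' (G := ↥(Subgroup.centralizer {u * v})) 2
      (even_iff_two_dvd.mp heven)
    have hz2 : orderOf z = 2 := by
      rw [← hz]; exact (Subgroup.orderOf_mk z hzC).symm
    have hzz : z * z = 1 := by
      have := pow_orderOf_eq_one z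
      rw [hz2, pow_two] at this; exact this
    have hz1 : z ≠ 1 := by
      intro h; rw [h, orderOf_one] at hz2; omega
    have hzx : z * (u * v) = (u * v) * z := by
      rw [Subgroup.mem_centralizer_iff] at hzC
      exact (hzC (u * v) rfl).symm
    obtain ⟨cz, hcz⟩ := invol_exists_fix hS hzz
    have hui : u⁻¹ = u := inv_of_sq hu2
    have hvi : v⁻¹ = v := inv_of_sq hv2
    have hux : u * (u * v) * u = (u * v)⁻¹ := by
      rw [mul_inv_rev, hui, hvi]
      calc u * (u * v) * u = (u * u) * v * u := by group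
        _ = v * u := by rw [hu2, one_mul]
    have hvx : v * (u * v) * v = (u * v)⁻¹ := by
      rw [mul_inv_rev, hui, hvi]
      calc v * (u * v) * v = v * u * (v * v) := by group
        _ = v * u := by rw [hv2, mul_one]
    have h1 : cz = cu := by
      by_contra hcne
      exact hx (sq_eq_one_of_cent_inv hzz hu2 hzx hux
        (odd_mul_of_fix_ne hS hz1 hzz hu1 hu2 hcz hcu hcne))
    have h2' : cz = cv := by
      by_contra hcne
      exact hx (sq_eq_one_of_cent_inv hzz hv2 hzx hvx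
        (odd_mul_of_fix_ne hS hz1 hzz hv1 hv2 hcz hcv hcne))
    exact hne (h1.symm.trans h2')

end Cfsg.Agent.S1135
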