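import Mathlib
import Cfsg.Statements.S1139
import Cfsg.Agent.S1137
import Cfsg.Agent.Lib.Helper3.SuzA5
import Cfsg.Agent.Lib.Helper3.SuzA6

set_option autoImplicit false
open Cfsg

namespace Cfsg.Agent.S1139

open Cfsg.Agent.Lib.Helper3.SuzA

/-- A Suzuki 2-group `P` with `|P| = |Z(P)|²` is of type A: for some finite field `F` with `|F| = |Z(P)|` and some field automorphism `φ ≠ 1` of odd order, `P` is isomorphic to the group of lower unitriangular matrices with rows `(1,0,0)`, `(x,1,0)`, `(y, φ x, 1)`. -/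
theorem result {P : Type*} [Group P] (hP : Cfsg.IsSuzukiTwoGroup P)
    (hcard : Nat.card P = Nat.card (Subgroup.center P) ^ 2) :
    ∃ (F : Type) (_ : Field F) (_ : Fintype F) (φ : F ≃+* F), Fintype.card F = Nat.card (Subgroup.center P) ∧
      φ ≠ RingEquiv.refl F ∧ Odd (orderOf φ) ∧ Nonempty (P ≃* Cfsg.suzukiTypeA F (φ : F →+* F)) := by
  classical
  have h1137 := Cfsg.Agent.S1137.result hP
  obtain ⟨hfin, h2grp, hnonab, ⟨x0, y0, hxy0, hx01, hx0sq, hy01, hy0sq⟩, K, hKcyc, hreg⟩ := hP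
  haveI := hfin
  have hKcomm : ∀ a b : K, a * b = b * a := by
    intro a b
    obtain ⟨ξ, hξ⟩ := hKcyc.exists_generator
    obtain ⟨s, rfl⟩ := Subgroup.mem_zpowers_iff.mp (hξ a)
    obtain ⟨t, rfl⟩ := Subgroup.mem_zpowers_iff.mp (hξ b)
    rw [← zpow_add, ← zpow_add, add_comm]
  have hS : SHyp P K := ⟨h2grp, hKcomm, h1137.1, h1137.2, hreg⟩
  obtain ⟨n, hn⟩ := IsPGroup.iff_card.mp (h2grp.to_subgroup (Subgroup.center P))
  have hq3 : 3 ≤ Nat.card (Subgroup.center P) := by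
    haveI : Fintype (Subgroup.center P) := Fintype.ofFinite _
    have hx0Z := ((h1137.1 x0).mp ⟨hx01, hx0sq⟩).1
    have hy0Z := ((h1137.1 y0).mp ⟨hy01, hy0sq⟩).1
    have h3 : ({1, ⟨x0, hx0Z⟩, ⟨y0, hy0Z⟩} : Finset (Subgroup.center P)).card = 3 := by
      apply Finset.card_eq_three.mpr
      refine ⟨1, ⟨x0, hx0Z⟩, ⟨y0, hy0Z⟩, ?_, ?_, ?_, rfl⟩
      · intro h
        exact hx01 (congrArg Subtype.val h).symm
      · intro h
        exact hy01 (congrArg Subtype.val h).symm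
      · intro h
        exact hxy0 (congrArg Subtype.val h)
    rw [Nat.card_eq_fintype_card, ← h3]
    exact Finset.card_le_univ _
  have hn0 : n ≠ 0 := by
    rintro rfl
    rw [pow_zero] at hn
    omega
  haveI : Fact (Nat.Prime 2) := ⟨Nat.prime_two⟩
  letI : Fintype (GaloisField 2 n) := Fintype.ofFinite _
  have hF : Fintype.card (GaloisField 2 n) = Nat.card (Subgroup.center P) := by
    rw [← Nat.card_eq_fintype_card, GaloisField.card 2 n hn0, hn]
  obtain ⟨α, θ, c, e, hα_mul, hα_surj, hα0, hθ_mul, hθ_inj, hθ_surj, hc, he1, he2, hcop, hsqZ,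
    hsq⟩ := exists_data hS hKcyc hcard hq3 hF
  rw [hn] at he2 hcop
  obtain ⟨φ, hφ1, hφ2, ⟨iso⟩⟩ := exists_typeA n (hF.trans hn) hnonab α θ c e hα_mul hα_surj hα0
    hθ_mul hθ_inj hθ_surj hc he1 he2 hcop hsqZ hsq
  exact ⟨GaloisField 2 n, inferInstance, inferInstance, φ, hF, hφ1, hφ2,
    ⟨iso.trans (TypeA.equivSuzukiTypeA _)⟩⟩

end Cfsg.Agent.S1139
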