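import Cfsg.Statements.S1142
import Cfsg.Agent.Lib.Helper16.FHMain
import Cfsg.Agent.Lib.Helper26.FHAlg3
import Cfsg.Agent.Lib.Helper10.FHSchurE
import Cfsg.Agent.Lib.Helper8.FHHecke4

set_option autoImplicit false
open Cfsg

namespace Cfsg.Agent.S1142

/-- Feit–Higman: if a finite group has a (B,N)-pair of rank 2, its Weyl group `N/(B ⊓ N)` has order 4, 6, 8, 12 or 16. -/
theorem result {G : Type*} [Group G] [Finite G] (P : Cfsg.BNPair G)
    (h2 : P.rank = 2) :
    ((P.B ⊓ P.N).subgroupOf P.N).index ∈ ({4, 6, 8, 12, 16} : Set ℕ) := by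
  obtain ⟨n, p, q, hn, hp, hq, hidx, C, hF, hD, hN, A, B, h⟩ :=
    Cfsg.Agent.Lib.Helper8.FHHecke.exists_heckeData P h2
  have := @Cfsg.Agent.Lib.Helper16.FH.fh_alg_of
    (fun n j p q a b c d e => Cfsg.Agent.Lib.Helper26.FH.rho_relations n j p q a b c d e)
    (fun n j p q a b c d e => Cfsg.Agent.Lib.Helper10.FHSchur.schurSum_rho n j p q a b c d e)
    C hF hD hN n p q hn hp hq A B h
  rw [hidx]
  simp only [Set.mem_insert_iff, Set.mem_singleton_iff] at this ⊢
  omega

end Cfsg.Agent.S1142
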