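import Cfsg.Statements.S1150
import Cfsg.Agent.Lib.Helper8.ChevRee20

set_option autoImplicit false
open Cfsg

namespace Cfsg.Agent.S1150

theorem result {K : Type*} [Field K] [Fintype K] {m : ℕ} (hK : Fintype.card K = 3 ^ (2 * m + 1)) :
    IsCyclic ↥(Cfsg.Lie.chevG2.diagonalSubgroup K ⊓ Cfsg.Lie.twistedG2 K (3 ^ m)) := by
  open Cfsg.Agent.Lib.Helper8.Chev in
  obtain ⟨φ, ψ, hF⟩ := exists_reeField hK
  obtain ⟨τ, hτ⟩ := exists_reeAut hK m
  exact isCyclic_diag_inf_twisted hF hK hτ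

end Cfsg.Agent.S1150
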