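import Cfsg.Statements.S1154
import Cfsg.Agent.Lib.Helper8.ChevRee33

set_option autoImplicit false
open Cfsg

namespace Cfsg.Agent.S1154

theorem result {K : Type*} [Field K] [Fintype K] {m : ℕ} (hm : 1 ≤ m) (hK : Fintype.card K = 3 ^ (2 * m + 1)) :
    Nat.card {u : ↥(Cfsg.Lie.chevG2.posUnipotent K ⊓ Cfsg.Lie.twistedG2 K (3 ^ m)) // orderOf u = 3} = (3 ^ (2 * m + 1)) ^ 2 - 1 := by
  open Cfsg.Agent.Lib.Helper8.Chev in
  obtain ⟨φ, ψ, hF⟩ := exists_reeField hK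
  obtain ⟨τ, hτ⟩ := exists_reeAut hK m
  exact ree_card_order_three hF hK hτ

end Cfsg.Agent.S1154
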