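import Mathlib
import Cfsg.Statements.S1160
import Cfsg.Agent.Lib.Helper19.FpfAbelian
import Cfsg.Agent.Lib.Helper10.UniqueOrderP
import Cfsg.Agent.Lib.Helper10.FrobComplement
import Cfsg.Agent.Lib.Helper10.NormalEpSq
import Cfsg.Agent.Lib.Helper1.NormalElemAb

set_option autoImplicit false
open Cfsg

namespace Cfsg.Agent.S1160

open MulAction

section Basic
variable {P V : Type*} [Group P] [AddCommGroup V] [DistribMulAction P V]

/-- the norm along the powers of `c` -/
def nrm (p : ℕ) (c : P) (v : V) : V := ∑ i ∈ Finset.range p, c ^ i • v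

theorem smul_nrm {p : ℕ} {c : P} (hc : c ^ p = 1) (v : V) : c • nrm p c v = nrm p c v := by
  unfold nrm
  rw [Finset.smul_sum]
  have h1 : ∑ i ∈ Finset.range p, c • c ^ i • v = ∑ i ∈ Finset.range p, c ^ (i + 1) • v := by
    apply Finset.sum_congr rfl
    intro i _
    rw [pow_succ', mul_smul]
  rw [h1]
  have h2 := Finset.sum_range_succ (fun i => c ^ i • v) p
  have h3 := Finset.sum_range_succ' (fun i => c ^ i • v) p
  rw [h2] at h3
  simp only [hc, pow_zero] at h3
  exact (add_right_cancel h3).symm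

theorem pow_smul_of_fixed {c : P} {v : V} (h : c • v = v) (i : ℕ) : c ^ i • v = v := by
  induction i with
  | zero => simp
  | succ i ih => rw [pow_succ, mul_smul, h, ih]

theorem nrm_of_fixed {p : ℕ} {c : P} {v : V} (h : c • v = v) : nrm p c v = p • v := by
  unfold nrm
  rw [Finset.sum_congr rfl (fun i _ => pow_smul_of_fixed h i), Finset.sum_const, Finset.card_range]

theorem smul_nrm_comm {p : ℕ} {c s : P} (hcs : s * c = c * s) (v : V) :
    s • nrm p c v = nrm p c (s • v) := by
  unfold nrm
  rw [Finset.smul_sum]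
  apply Finset.sum_congr rfl
  intro i _
  rw [← mul_smul, ← mul_smul]
  congr 1
  exact ((Commute.pow_right (show Commute s c from hcs) i).eq)

theorem nrm_add (p : ℕ) (c : P) (v w : V) : nrm p c (v + w) = nrm p c v + nrm p c w := by
  unfold nrm
  rw [← Finset.sum_add_distrib]
  apply Finset.sum_congr rfl
  intro i _
  rw [smul_add]

theorem nrm_neg (p : ℕ) (c : P) (v : V) : nrm p c (-v) = - nrm p c v := by
  unfold nrm
  rw [← Finset.sum_neg_distrib]
  apply Finset.sum_congr rfl
  intro i _
  rw [smul_neg]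

theorem nrm_sub (p : ℕ) (c : P) (v w : V) : nrm p c (v - w) = nrm p c v - nrm p c w := by
  rw [sub_eq_add_neg, nrm_add, nrm_neg, ← sub_eq_add_neg]

theorem nrm_nsmul (p : ℕ) (c : P) (n : ℕ) (v : V) : nrm p c (n • v) = n • nrm p c v := by
  unfold nrm
  rw [Finset.smul_sum]
  apply Finset.sum_congr rfl
  intro i _
  rw [smul_comm]

/-- multiplication by `p` is injective on a group of exponent `q ≠ p` -/
theorem eq_zero_of_nsmul {p q : ℕ} (hp : p.Prime) (hq : q.Prime) (hpq : q ≠ p)
    (hE : ∀ e : V, q • e = 0) {v : V} (h : p • v = 0) : v = 0 := by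
  have h1 : addOrderOf v ∣ p := addOrderOf_dvd_of_nsmul_eq_zero h
  have h2 : addOrderOf v ∣ q := addOrderOf_dvd_of_nsmul_eq_zero (hE v)
  have h3 : addOrderOf v ∣ Nat.gcd p q := Nat.dvd_gcd h1 h2
  have h4 : Nat.gcd p q = 1 := (Nat.coprime_primes hp hq).mpr (Ne.symm hpq)
  rw [h4, Nat.dvd_one] at h3
  exact AddMonoid.addOrderOf_eq_one_iff.mp h3

theorem nsmul_cancel {p q : ℕ} (hp : p.Prime) (hq : q.Prime) (hpq : q ≠ p)
    (hE : ∀ e : V, q • e = 0) {v w : V} (h : p • v = p • w) : v = w := by
  have h1 : p • (v - w) = 0 := by rw [smul_sub, h, sub_self]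
  exact sub_eq_zero.mp (eq_zero_of_nsmul hp hq hpq hE h1)

/-- equal stabiliser orders: if the stabiliser of `v + w` fixes `v` and `w`, then `v` and `w` have the same stabiliser -/
theorem stab_eq_of_sum [Finite P]
    (hconst : ∀ a b : V, a ≠ 0 → b ≠ 0 →
      Nat.card (stabilizer P a) = Nat.card (stabilizer P b))
    {v w : V} (hv : v ≠ 0) (hw : w ≠ 0) (hvw : v + w ≠ 0)
    (h : ∀ g : P, g • (v + w) = v + w → g • v = v ∧ g • w = w) :
    stabilizer P v = stabilizer P w := by
  have h1 : stabilizer P (v + w) ≤ stabilizer P v := fun g hg => (h g hg).1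
  have h2 : stabilizer P (v + w) ≤ stabilizer P w := fun g hg => (h g hg).2
  have e1 : stabilizer P (v + w) = stabilizer P v :=
    Subgroup.eq_of_le_of_card_ge h1 (le_of_eq (hconst _ _ hv hvw))
  have e2 : stabilizer P (v + w) = stabilizer P w :=
    Subgroup.eq_of_le_of_card_ge h2 (le_of_eq (hconst _ _ hw hvw))
  rw [← e1, e2]

/-- a central element of order `p` moving some vector fixes only `0` -/
theorem fpf_of_central [Finite P] {p q : ℕ} (hp : p.Prime) (hq : q.Prime) (hpq : q ≠ p)
    (hE : ∀ e : V, q • e = 0)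
    (hconst : ∀ a b : V, a ≠ 0 → b ≠ 0 →
      Nat.card (stabilizer P a) = Nat.card (stabilizer P b))
    {c : P} (hcz : ∀ g : P, g * c = c * g) (hcp : c ^ p = 1)
    {x : V} (hx : c • x ≠ x) {u : V} (hu : c • u = u) : u = 0 := by
  by_contra hu0
  obtain ⟨w, hw⟩ : ∃ w : V, w = p • x - nrm p c x := ⟨_, rfl⟩
  have hnw : nrm p c w = 0 := by
    rw [hw, nrm_sub, nrm_nsmul, nrm_of_fixed (smul_nrm hcp x), sub_self]
  have hcw : c • w ≠ w := by
    intro h
    have h1 : nrm p c w = p • w := nrm_of_fixed h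
    rw [hnw] at h1
    have hw0 : w = 0 := eq_zero_of_nsmul hp hq hpq hE h1.symm
    have h2 : p • x = nrm p c x := by
      rw [hw0] at hw
      exact sub_eq_zero.mp hw.symm
    have h3 : p • (c • x) = p • x := by
      rw [smul_comm p c x, h2, smul_nrm hcp]
    exact hx (nsmul_cancel hp hq hpq hE h3)
  have hw0 : w ≠ 0 := by
    intro h
    apply hcw
    rw [h, smul_zero]
  have huw : u + w ≠ 0 := by
    intro h
    have hwu : w = -u := by
      rw [eq_neg_iff_add_eq_zero, add_comm]
      exact h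
    apply hcw
    rw [hwu, smul_neg, hu]
  have hstab : ∀ g : P, g • (u + w) = u + w → g • u = u ∧ g • w = w := by
    intro g hg
    rw [smul_add] at hg
    obtain ⟨y, hy⟩ : ∃ y : V, y = g • u - u := ⟨_, rfl⟩
    have hy2 : y = -(g • w - w) := by
      rw [hy, neg_sub, sub_eq_sub_iff_add_eq_add]
      exact hg.trans (add_comm u w)
    have hcy : c • y = y := by
      rw [hy, smul_sub, hu, smul_smul, ← hcz g, mul_smul, hu]
    have hny : nrm p c y = 0 := by
      rw [hy2, nrm_neg, nrm_sub, ← smul_nrm_comm (hcz g) w, hnw, smul_zero, sub_zero, neg_zero]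
    have hpy : p • y = 0 := by rw [← nrm_of_fixed hcy, hny]
    have hy0 : y = 0 := eq_zero_of_nsmul hp hq hpq hE hpy
    have hgu : g • u = u := by
      rw [hy0] at hy
      exact sub_eq_zero.mp hy.symm
    refine ⟨hgu, ?_⟩
    rw [hgu] at hg
    exact add_left_cancel hg
  have hst := stab_eq_of_sum hconst hu0 hw0 huw hstab
  apply hcw
  have hc : c ∈ stabilizer P w := by
    rw [← hst]
    exact mem_stabilizer_iff.mpr hu
  exact mem_stabilizer_iff.mp hc

end Basic

section Aux

theorem mem_zpowers_symm {G : Type*} [Group G] {p : ℕ} (hp : p.Prime) {t s : G} (ht : t ^ p = 1)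
    (hs : s ∈ Subgroup.zpowers t) (hs1 : s ≠ 1) : t ∈ Subgroup.zpowers s := by
  have ht1 : t ≠ 1 := by
    intro h
    rw [h, Subgroup.zpowers_one_eq_bot, Subgroup.mem_bot] at hs
    exact hs1 hs
  haveI : Fact p.Prime := ⟨hp⟩
  have hcard : Nat.card ↥(Subgroup.zpowers t) = p := by
    rw [Nat.card_zpowers]
    exact orderOf_eq_prime ht ht1
  have htop := zpowers_eq_top_of_prime_card (G := ↥(Subgroup.zpowers t)) hcard
    (g := ⟨s, hs⟩) (fun h => hs1 (congrArg Subtype.val h))
  have h2 : (⟨t, Subgroup.mem_zpowers t⟩ : ↥(Subgroup.zpowers t)) ∈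
      Subgroup.zpowers (⟨s, hs⟩ : ↥(Subgroup.zpowers t)) := by
    rw [htop]
    exact Subgroup.mem_top _
  obtain ⟨k, hk⟩ := Subgroup.mem_zpowers_iff.mp h2
  refine Subgroup.mem_zpowers_iff.mpr ⟨k, ?_⟩
  have h3 := congrArg Subtype.val hk
  simpa using h3

theorem mem_zpowers_sq {G : Type*} [Group G] {h : G} {n : ℕ} (hn : h ^ n = 1) (hodd : ¬ 2 ∣ n) :
    h ∈ Subgroup.zpowers (h ^ 2) := by
  obtain ⟨m, hm⟩ : ∃ m, n = 2 * m + 1 := ⟨n / 2, by omega⟩
  refine Subgroup.mem_zpowers_iff.mpr ⟨((m + 1 : ℕ) : ℤ), ?_⟩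
  rw [zpow_natCast, ← pow_mul, show 2 * (m + 1) = n + 1 by omega, pow_succ, hn, one_mul]

end Aux

section Main
variable {P V : Type*} [Group P] [Finite P] [AddCommGroup V] [DistribMulAction P V]

/-- the action as a homomorphism to the automorphisms of `Multiplicative V` -/
def act (P V : Type*) [Group P] [AddCommGroup V] [DistribMulAction P V] :
    P →* MulAut (Multiplicative V) :=
  (MulAutMultiplicative V).symm.toMonoidHom.comp (DistribMulAction.toAddAut P V)

theorem act_apply (g : P) (a : Multiplicative V) :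
    act P V g a = Multiplicative.ofAdd (g • Multiplicative.toAdd a) := rfl

theorem exists_moved [FaithfulSMul P V] {g : P} (hg : g ≠ 1) : ∃ x : V, g • x ≠ x := by
  by_contra h
  push Not at h
  exact hg (FaithfulSMul.eq_of_smul_eq_smul (α := V) (fun a => by rw [h a, one_smul]))

theorem no_normal_EA [FaithfulSMul P V] {p q : ℕ} [hpF : Fact p.Prime] (hp2 : p ≠ 2)
    (hP : IsPGroup p P)
    (hq : q.Prime) (hpq : q ≠ p) (hE : ∀ e : V, q • e = 0)
    (hconst : ∀ a b : V, a ≠ 0 → b ≠ 0 →
      Nat.card (stabilizer P a) = Nat.card (stabilizer P b))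
    (A : Subgroup P) (hAn : A.Normal) (hAc : ∀ x ∈ A, ∀ y ∈ A, x * y = y * x)
    (hAp : ∀ x ∈ A, x ^ p = 1) (hAcard : Nat.card A = p ^ 2) : False := by
  have hp : p.Prime := hpF.out
  have hp1 : 1 < p := hp.one_lt
  have hpsq : p < p ^ 2 := by
    calc p = p ^ 1 := (pow_one p).symm
      _ < p ^ 2 := Nat.pow_lt_pow_right hp1 (by norm_num)
  have hAbot : A ≠ ⊥ := by
    intro h
    rw [h, Subgroup.card_bot] at hAcard
    omega
  haveI := hAn
  have h1 := Cfsg.Agent.Lib.Helper10.normal_inf_center_ne_bot hP A hAbot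
  rcases (A ⊓ Subgroup.center P).bot_or_exists_ne_one with h | ⟨z, hzmem, hz1⟩
  · exact h1 h
  have hzA : z ∈ A := hzmem.1
  have hzc : ∀ g : P, g * z = z * g := fun g => Subgroup.mem_center_iff.mp hzmem.2 g
  have hzp : z ^ p = 1 := hAp z hzA
  obtain ⟨x0, hx0⟩ := exists_moved (V := V) hz1
  have hzfpf : ∀ u : V, z • u = u → u = 0 := fun u hu =>
    fpf_of_central hp hq hpq hE hconst hzc hzp hx0 hu
  -- some nonidentity element of `A` has a nonzero fixed vector
  have hex : ∃ t ∈ A, t ≠ 1 ∧ ∃ v : V, v ≠ 0 ∧ t • v = v := by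
    by_contra hcon
    push Not at hcon
    have hx00 : x0 ≠ 0 := by
      intro h
      apply hx0
      rw [h, smul_zero]
    haveI : Nontrivial (Multiplicative V) :=
      ⟨⟨Multiplicative.ofAdd x0, 1, fun h => hx00 (ofAdd_eq_one.mp h)⟩⟩
    have hfpf : ∀ t : ↥A, ∀ v : Multiplicative V,
        ((act P V).comp A.subtype) t v = v → t = 1 ∨ v = 1 := by
      intro t v h
      by_cases ht : t = 1
      · exact Or.inl ht
      right
      by_contra hv
      have h' : (t : P) • Multiplicative.toAdd v = Multiplicative.toAdd v := h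
      have ht' : (t : P) ≠ 1 := fun h0 => ht (Subtype.ext h0)
      have hv' : Multiplicative.toAdd v ≠ 0 := fun h0 => hv (toAdd_eq_zero.mp h0)
      exact hcon (t : P) t.2 ht' (Multiplicative.toAdd v) hv' h'
    have hVq : ∀ v : Multiplicative V, v ^ p = 1 → v = 1 := by
      intro v hv
      have h2 : p • Multiplicative.toAdd v = 0 := by
        rw [← toAdd_pow, hv, toAdd_one]
      exact toAdd_eq_zero.mp (eq_zero_of_nsmul hp hq hpq hE h2)
    have ha1 : (⟨z, hzA⟩ : ↥A) ≠ 1 := fun h => hz1 (congrArg Subtype.val h)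
    have haq : (⟨z, hzA⟩ : ↥A) ^ p = 1 := by
      apply Subtype.ext
      rw [Subgroup.coe_pow, Subgroup.coe_one]
      exact hzp
    have htop : Subgroup.zpowers (⟨z, hzA⟩ : ↥A) = ⊤ := by
      rw [eq_top_iff]
      intro b _
      have hab : (⟨z, hzA⟩ : ↥A) * b = b * ⟨z, hzA⟩ := Subtype.ext (hAc z hzA b b.2)
      have hbq : b ^ p = 1 := by
        apply Subtype.ext
        rw [Subgroup.coe_pow, Subgroup.coe_one]
        exact hAp b b.2
      exact Cfsg.Agent.Lib.Helper19.fpf_abelian_cyclic ((act P V).comp A.subtype) p hfpf hVq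
        ⟨z, hzA⟩ b hab haq hbq ha1
    have hcard : Nat.card ↥A = orderOf (⟨z, hzA⟩ : ↥A) := by
      rw [← Nat.card_zpowers, htop, Subgroup.card_top]
    have hdvd : orderOf (⟨z, hzA⟩ : ↥A) ∣ p := orderOf_dvd_of_pow_eq_one haq
    have hle : orderOf (⟨z, hzA⟩ : ↥A) ≤ p := Nat.le_of_dvd hp.pos hdvd
    omega
  obtain ⟨t, htA, ht1, v, hv0, htv⟩ := hex
  have htp : t ^ p = 1 := hAp t htA
  have hot : orderOf t = p := orderOf_eq_prime htp ht1
  -- a conjugate of `t` outside `⟨t⟩`
  have hexg : ∃ g : P, g * t * g⁻¹ ∉ Subgroup.zpowers t := by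
    by_contra hcon
    push Not at hcon
    have hN : (Subgroup.zpowers t).Normal := by
      constructor
      intro n hn g
      obtain ⟨k, hk⟩ := Subgroup.mem_zpowers_iff.mp hn
      rw [← hk, ← conj_zpow]
      exact Subgroup.zpow_mem _ (hcon g) k
    have hNbot : Subgroup.zpowers t ≠ ⊥ := by
      intro h
      exact ht1 (Subgroup.zpowers_eq_bot.mp h)
    haveI := hN
    have h2 := Cfsg.Agent.Lib.Helper10.normal_inf_center_ne_bot hP (Subgroup.zpowers t) hNbot
    rcases (Subgroup.zpowers t ⊓ Subgroup.center P).bot_or_exists_ne_one with h | ⟨c, hcmem, hc1⟩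
    · exact h2 h
    have hcc : ∀ g : P, g * c = c * g := fun g => Subgroup.mem_center_iff.mp hcmem.2 g
    have hcp : c ^ p = 1 := hAp c ((Subgroup.zpowers_le.mpr htA) hcmem.1)
    obtain ⟨x1, hx1⟩ := exists_moved (V := V) hc1
    have hcv : c • v = v :=
      mem_stabilizer_iff.mp ((Subgroup.zpowers_le.mpr (mem_stabilizer_iff.mpr htv)) hcmem.1)
    exact hv0 (fpf_of_central hp hq hpq hE hconst hcc hcp hx1 hcv)
  obtain ⟨g, hg⟩ := hexg
  obtain ⟨t', ht'⟩ : ∃ t' : P, t' = g * t * g⁻¹ := ⟨_, rfl⟩
  rw [← ht'] at hg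
  have ht'A : t' ∈ A := by
    rw [ht']
    exact hAn.conj_mem t htA g
  obtain ⟨w, hw⟩ : ∃ w : V, w = g • v := ⟨_, rfl⟩
  have hw0 : w ≠ 0 := by
    rw [hw]
    exact (smul_ne_zero_iff_ne g).mpr hv0
  have ht'w : t' • w = w := by
    rw [hw, ht', smul_smul, inv_mul_cancel_right, mul_smul, htv]
  have ht'1 : t' ≠ 1 := by
    intro h
    apply hg
    rw [h]
    exact Subgroup.one_mem _
  -- vectors fixed by `t` and an element of `A` outside `⟨t⟩` vanish
  have hd : ∀ s ∈ A, s ∉ Subgroup.zpowers t → ∀ u : V, t • u = u → s • u = u → u = 0 := by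
    intro s hsA hs u htu hsu
    apply hzfpf
    have hcl : Subgroup.closure ({t, s} : Set P) = A := by
      have hle : Subgroup.closure ({t, s} : Set P) ≤ A := by
        rw [Subgroup.closure_le]
        intro y hy
        rcases hy with hy | hy
        · rw [hy]
          exact htA
        · rw [Set.mem_singleton_iff] at hy
          rw [hy]
          exact hsA
      apply Subgroup.eq_of_le_of_card_ge hle
      have hcardlt : p < Nat.card (Subgroup.closure ({t, s} : Set P)) := by
        by_contra hnot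
        push Not at hnot
        have hzle : Subgroup.zpowers t ≤ Subgroup.closure ({t, s} : Set P) := by
          rw [Subgroup.zpowers_le]
          exact Subgroup.subset_closure (Set.mem_insert _ _)
        have heq := Subgroup.eq_of_le_of_card_ge hzle (by
          rw [Nat.card_zpowers, hot]
          exact hnot)
        apply hs
        rw [heq]
        exact Subgroup.subset_closure (Set.mem_insert_of_mem _ rfl)
      have := Cfsg.Agent.Lib.Helper10.sq_le_card_of_lt_card (hP.to_subgroup _) hcardlt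
      rw [hAcard]
      exact this
    have hzcl : z ∈ Subgroup.closure ({t, s} : Set P) := by
      rw [hcl]
      exact hzA
    have hstab : Subgroup.closure ({t, s} : Set P) ≤ stabilizer P u := by
      rw [Subgroup.closure_le]
      intro y hy
      rcases hy with hy | hy
      · rw [hy]
        exact mem_stabilizer_iff.mpr htu
      · rw [Set.mem_singleton_iff] at hy
        rw [hy]
        exact mem_stabilizer_iff.mpr hsu
    exact mem_stabilizer_iff.mp (hstab hzcl)
  have hF1 : ∀ a ∈ A, a ∉ Subgroup.zpowers t → ∀ u : V, a • u = u → nrm p t u = 0 := by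
    intro a haA ha u hau
    apply hd a haA ha
    · exact smul_nrm htp u
    · rw [smul_nrm_comm (hAc a haA t htA) u, hau]
  have hF2 : ∀ a ∈ A, a ≠ 1 → a ∈ Subgroup.zpowers t → ∀ u : V, a • u = u →
      nrm p t u = p • u := by
    intro a _ ha1 ha u hau
    apply nrm_of_fixed
    have hta : t ∈ Subgroup.zpowers a := mem_zpowers_symm hp htp ha ha1
    exact mem_stabilizer_iff.mp ((Subgroup.zpowers_le.mpr (mem_stabilizer_iff.mpr hau)) hta)
  have hvw : v + w ≠ 0 := by
    intro h
    have hwv : w = -v := by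
      rw [eq_neg_iff_add_eq_zero, add_comm]
      exact h
    apply hw0
    apply hd t' ht'A hg w _ ht'w
    rw [hwv, smul_neg, htv]
  have hstab : ∀ h : P, h • (v + w) = v + w → h • v = v ∧ h • w = w := by
    intro h hh
    rw [smul_add] at hh
    have hs1A : h * t * h⁻¹ ∈ A := hAn.conj_mem t htA h
    have hs2A : h * t' * h⁻¹ ∈ A := hAn.conj_mem t' ht'A h
    have hs1v : (h * t * h⁻¹) • (h • v) = h • v := by
      rw [smul_smul, inv_mul_cancel_right, mul_smul, htv]
    have hs2w : (h * t' * h⁻¹) • (h • w) = h • w := by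
      rw [smul_smul, inv_mul_cancel_right, mul_smul, ht'w]
    have hs1ne : h * t * h⁻¹ ≠ 1 := fun h0 => ht1 (conj_eq_one_iff.mp h0)
    have hs2ne : h * t' * h⁻¹ ≠ 1 := fun h0 => ht'1 (conj_eq_one_iff.mp h0)
    have hnv : nrm p t (v + w) = p • v := by
      rw [nrm_add, nrm_of_fixed htv, hF1 t' ht'A hg w ht'w, add_zero]
    have hsum : nrm p t (h • v) + nrm p t (h • w) = p • v := by
      rw [← nrm_add, hh, hnv]
    by_cases c1 : h * t * h⁻¹ ∈ Subgroup.zpowers t
    · have c2 : h * t' * h⁻¹ ∉ Subgroup.zpowers t := by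
        intro c2
        have ht_in : t ∈ Subgroup.zpowers (h * t * h⁻¹) := mem_zpowers_symm hp htp c1 hs1ne
        have h3 : h * t' * h⁻¹ ∈ Subgroup.zpowers (h * t * h⁻¹) :=
          (Subgroup.zpowers_le.mpr ht_in) c2
        obtain ⟨k, hk⟩ := Subgroup.mem_zpowers_iff.mp h3
        rw [conj_zpow] at hk
        have hk' : t ^ k = t' := mul_left_cancel (mul_right_cancel hk)
        exact hg (Subgroup.mem_zpowers_iff.mpr ⟨k, hk'⟩)
      rw [hF2 _ hs1A hs1ne c1 _ hs1v, hF1 _ hs2A c2 _ hs2w, add_zero] at hsum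
      have hv1 : h • v = v := nsmul_cancel hp hq hpq hE hsum
      refine ⟨hv1, ?_⟩
      rw [hv1] at hh
      exact add_left_cancel hh
    · by_cases c2 : h * t' * h⁻¹ ∈ Subgroup.zpowers t
      · exfalso
        rw [hF1 _ hs1A c1 _ hs1v, hF2 _ hs2A hs2ne c2 _ hs2w, zero_add] at hsum
        have hw1 : h • w = v := nsmul_cancel hp hq hpq hE hsum
        have hv1 : h • v = w := by
          rw [hw1, add_comm (h • v) v] at hh
          exact add_left_cancel hh
        have h2v : (h ^ 2) • v = v := by rw [pow_two, mul_smul, hv1, hw1]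
        obtain ⟨k, hk⟩ := hP h
        have hodd : ¬ 2 ∣ p ^ k := by
          intro h2
          have h3 : 2 ∣ p := Nat.Prime.dvd_of_dvd_pow Nat.prime_two h2
          exact hp2 ((Nat.prime_dvd_prime_iff_eq Nat.prime_two hp).mp h3).symm
        have hmem : h ∈ Subgroup.zpowers (h ^ 2) := mem_zpowers_sq hk hodd
        have hhv : h • v = v :=
          mem_stabilizer_iff.mp ((Subgroup.zpowers_le.mpr (mem_stabilizer_iff.mpr h2v)) hmem)
        have hwv : w = v := by rw [← hv1, hhv]
        apply hw0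
        apply hd t' ht'A hg w _ ht'w
        rw [hwv]
        exact htv
      · exfalso
        rw [hF1 _ hs1A c1 _ hs1v, hF1 _ hs2A c2 _ hs2w, add_zero] at hsum
        exact hv0 (eq_zero_of_nsmul hp hq hpq hE hsum.symm)
  have hst := stab_eq_of_sum hconst hv0 hw0 hvw hstab
  have htw : t • w = w := by
    have hmem : t ∈ stabilizer P w := by
      rw [← hst]
      exact mem_stabilizer_iff.mpr htv
    exact mem_stabilizer_iff.mp hmem
  exact hw0 (hd t' ht'A hg w htw ht'w)

end Main

/-- Let `p ≠ 2` be prime and `P` a finite `p`-group acting faithfully by additive automorphisms on a finite elementary abelian `q`-group `E` (`q` prime), such that `|P_a|` is the same for all `a ≠ 0`. Then `P` is cyclic and every non-identity element of `P` fixes only `0`. -/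
theorem result {P E : Type*} [Group P] [Finite P]
    [AddCommGroup E] [Finite E] [DistribMulAction P E] [FaithfulSMul P E]
    {p q : ℕ} [Fact p.Prime] (hp2 : p ≠ 2) (hP : IsPGroup p P) (hq : q.Prime) (hE : ∀ e : E, q • e = 0)
    (hconst : ∀ a b : E, a ≠ 0 → b ≠ 0 →
      Nat.card (MulAction.stabilizer P a) = Nat.card (MulAction.stabilizer P b)) :
    IsCyclic P ∧ ∀ g : P, g ≠ 1 → ∀ a : E, g • a = a → a = 0 := by
  have hp : p.Prime := Fact.out
  rcases subsingleton_or_nontrivial P with hsub | hnt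
  · exact ⟨isCyclic_of_subsingleton, fun g hg => (hg (Subsingleton.elim g 1)).elim⟩
  obtain ⟨z, hzc, hzo⟩ := Cfsg.Agent.Lib.Helper1.NormalElemAb.exists_central_orderOf_eq hP
  have hz1 : z ≠ 1 := by
    intro h
    rw [h, orderOf_one] at hzo
    exact hp.one_lt.ne hzo
  have hzp : z ^ p = 1 := by
    rw [← hzo]
    exact pow_orderOf_eq_one z
  have hzc' : ∀ g : P, g * z = z * g := fun g => Subgroup.mem_center_iff.mp hzc g
  by_cases hpq : q = p
  · exfalso
    rw [hpq] at hE
    obtain ⟨x, hx⟩ := exists_moved (V := E) hz1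
    have hx0 : x ≠ 0 := by
      intro h
      apply hx
      rw [h, smul_zero]
    have hdvd : p ∣ Nat.card E := by
      have h1 : addOrderOf x = p := addOrderOf_eq_prime (hE x) hx0
      rw [← h1]
      exact addOrderOf_dvd_natCard x
    have h0 : (0 : E) ∈ fixedPoints P E := MulAction.mem_fixedPoints.mpr (fun g => smul_zero g)
    obtain ⟨b, hb, hb0⟩ := hP.exists_fixed_point_of_prime_dvd_card_of_fixed_point E hdvd h0
    have hsb : stabilizer P b = ⊤ := by
      rw [eq_top_iff]
      intro g _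
      exact mem_stabilizer_iff.mpr (MulAction.mem_fixedPoints.mp hb g)
    have hsx : stabilizer P x = ⊤ := by
      apply Subgroup.eq_top_of_card_eq
      rw [hconst x b hx0 (Ne.symm hb0), hsb, Subgroup.card_top]
    apply hx
    have hmem : z ∈ stabilizer P x := by
      rw [hsx]
      exact Subgroup.mem_top z
    exact mem_stabilizer_iff.mp hmem
  · have hu : Cfsg.Agent.Lib.Helper10.UniqueOrderP p P := by
      intro x y hx hx1 hy
      by_contra hy'
      have hex : ∃ t₀ : P, t₀ ^ p = 1 ∧ t₀ ∉ Subgroup.zpowers z := by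
        by_cases hxz : x ∈ Subgroup.zpowers z
        · refine ⟨y, hy, fun hyz => hy' ?_⟩
          have hzx : z ∈ Subgroup.zpowers x := mem_zpowers_symm hp hzp hxz hx1
          exact (Subgroup.zpowers_le.mpr hzx) hyz
        · exact ⟨x, hx, hxz⟩
      obtain ⟨t₀, ht₀p, ht₀z⟩ := hex
      obtain ⟨hcomm, hexp⟩ :=
        Cfsg.Agent.Lib.Helper10.closure_pair_props (hzc' t₀).symm hzp ht₀p
      have hcard : p ^ 2 ≤ Nat.card (Subgroup.closure ({z, t₀} : Set P)) := by
        apply Cfsg.Agent.Lib.Helper10.sq_le_card_of_lt_card (hP.to_subgroup _)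
        by_contra hnot
        push Not at hnot
        have hzle : Subgroup.zpowers z ≤ Subgroup.closure ({z, t₀} : Set P) := by
          rw [Subgroup.zpowers_le]
          exact Subgroup.subset_closure (Set.mem_insert _ _)
        have heq := Subgroup.eq_of_le_of_card_ge hzle (by
          rw [Nat.card_zpowers, hzo]
          exact hnot)
        apply ht₀z
        rw [heq]
        exact Subgroup.subset_closure (Set.mem_insert_of_mem _ rfl)
      obtain ⟨A, hAn, hAc, hAp, hAcard⟩ :=
        Cfsg.Agent.Lib.Helper1.NormalElemAb.exists_normal_EA_sq p hp2 (Nat.card P) P rfl hP _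
          hcomm hexp hcard
      exact no_normal_EA hp2 hP hq hpq hE hconst A hAn hAc hAp hAcard
    have hcyc : IsCyclic P := by
      rcases Cfsg.Agent.Lib.Helper10.isCyclic_or_quaternion_of_uniqueOrderP hP hu with h | ⟨h2, -⟩
      · exact h
      · exact (hp2 h2).elim
    refine ⟨hcyc, ?_⟩
    intro g hg1 a hga
    by_contra ha0
    have hz_all : ∀ b : E, z • b = b := by
      intro b
      by_cases hb0 : b = 0
      · rw [hb0, smul_zero]
      have hcb : Nat.card (stabilizer P b) = Nat.card (stabilizer P a) := hconst b a hb0 ha0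
      have hna : stabilizer P a ≠ ⊥ := by
        intro hbot
        have hmem : g ∈ stabilizer P a := mem_stabilizer_iff.mpr hga
        rw [hbot, Subgroup.mem_bot] at hmem
        exact hg1 hmem
      have hnb : stabilizer P b ≠ ⊥ := by
        intro hbot
        rw [hbot, Subgroup.card_bot] at hcb
        exact hna (Subgroup.eq_bot_of_card_eq _ hcb.symm)
      have hpd : p ∣ Nat.card (stabilizer P b) := by
        rcases (hP.to_subgroup (stabilizer P b)).card_eq_or_dvd with h | h
        · exact (hnb (Subgroup.eq_bot_of_card_eq _ h)).elim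
        · exact h
      obtain ⟨s, hs⟩ := exists_prime_orderOf_dvd_card' p hpd
      have hs1 : (s : P) ≠ 1 := by
        intro h
        have h1 : s = 1 := Subtype.ext h
        rw [h1, orderOf_one] at hs
        exact hp.one_lt.ne hs
      have hsp : (s : P) ^ p = 1 := by
        have h1 := pow_orderOf_eq_one s
        rw [hs] at h1
        have h2 := congrArg Subtype.val h1
        simpa using h2
      have hzs : z ∈ Subgroup.zpowers (s : P) := hu (s : P) z hsp hs1 hzp
      have hmem : z ∈ stabilizer P b := (Subgroup.zpowers_le.mpr s.2) hzs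
      exact mem_stabilizer_iff.mp hmem
    exact hz1 (FaithfulSMul.eq_of_smul_eq_smul (α := E) (fun b => by rw [hz_all b, one_smul]))

end Cfsg.Agent.S1160
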