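import Cfsg.Statements.S1165
import Cfsg.Agent.Lib.Helper8.RankOne2

set_option autoImplicit false
open Cfsg

namespace Cfsg.Agent.S1165

open Subgroup MulAction Cfsg.Agent.Lib.Helper8

/-- In the rank-one set-up: identities (H1)-(H4) for the canonical form `t x t = g h t f`. -/
theorem result {G Ω : Type*} [Group G] [Finite G] [MulAction G Ω] {a : Ω} {t : G} {Q : Subgroup G}
    (hS : Cfsg.IsRankOneSetup G Ω a t Q)
    (x g h f : G) (hx : x ∈ Q) (hx1 : x ≠ 1) (hg : g ∈ Q) (hh : h ∈ (MulAction.stabilizer G a ⊓ MulAction.stabilizer G (t • a))) (hf : f ∈ Q)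
    (heq : t * x * t = g * h * t * f) :
    (∀ g₁ h₁ f₁ : G, g₁ ∈ Q → h₁ ∈ (MulAction.stabilizer G a ⊓ MulAction.stabilizer G (t • a)) → f₁ ∈ Q → t * x⁻¹ * t = g₁ * h₁ * t * f₁ →
        f₁ = g⁻¹ ∧ h₁ = t * h⁻¹ * t) ∧
      (∀ g₂ h₂ f₂ : G, g₂ ∈ Q → h₂ ∈ (MulAction.stabilizer G a ⊓ MulAction.stabilizer G (t • a)) → f₂ ∈ Q → t * f * t = g₂ * h₂ * t * f₂ →
        f₂ = x ∧ h₂ = h⁻¹) ∧
      ∀ c ∈ (MulAction.stabilizer G a ⊓ MulAction.stabilizer G (t • a)), ∀ g₃ h₃ f₃ : G, g₃ ∈ Q → h₃ ∈ (MulAction.stabilizer G a ⊓ MulAction.stabilizer G (t • a)) → f₃ ∈ Q →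
        t * (c⁻¹ * x * c) * t = g₃ * h₃ * t * f₃ →
          f₃ = (t * c * t)⁻¹ * f * (t * c * t) ∧ h₃ = (t * c * t)⁻¹ * h * c := by
  have htt := hS.mul_self
  have hti := RankOne.t_inv hS
  refine ⟨?_, ?_, ?_⟩
  · intro g₁ h₁ f₁ hg₁ hh₁ hf₁ e
    -- t x⁻¹ t = f⁻¹ (t h⁻¹ t) t g⁻¹
    have e' : t * x⁻¹ * t = f⁻¹ * (t * h⁻¹ * t) * t * g⁻¹ := by
      have h1 : t * x⁻¹ * t = (t * x * t)⁻¹ := by
        rw [mul_inv_rev, mul_inv_rev, hti, mul_assoc]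
      rw [h1, heq, mul_inv_rev, mul_inv_rev, mul_inv_rev, hti]
      calc f⁻¹ * (t * (h⁻¹ * g⁻¹)) = f⁻¹ * (t * h⁻¹ * (t * t)) * g⁻¹ := by rw [htt]; group
        _ = f⁻¹ * (t * h⁻¹ * t) * t * g⁻¹ := by group
    rw [e'] at e
    have hD : t * h⁻¹ * t ∈ RankOne.D G a t := RankOne.t_conj_mem_D hS (RankOne.D_inv_mem hh)
    obtain ⟨-, e2, e3⟩ := RankOne.canonical_unique3 hS (Q.inv_mem hf) hg₁ hD hh₁ (Q.inv_mem hg) hf₁ e
    exact ⟨e3.symm, e2.symm⟩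
  · intro g₂ h₂ f₂ hg₂ hh₂ hf₂ e
    -- t f t = (h⁻¹ g⁻¹ h) h⁻¹ t x
    have hf0 : t * h⁻¹ * g⁻¹ * (g * h * t * f) = f := by
      calc t * h⁻¹ * g⁻¹ * (g * h * t * f) = t * t * f := by group
        _ = f := by rw [htt, one_mul]
    have hf' : f = t * h⁻¹ * g⁻¹ * (t * x * t) := by rw [heq]; exact hf0.symm
    have e' : t * f * t = (h⁻¹ * g⁻¹ * h) * h⁻¹ * t * x := by
      rw [hf']
      calc t * (t * h⁻¹ * g⁻¹ * (t * x * t)) * t = (t * t) * h⁻¹ * g⁻¹ * t * x * (t * t) := by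
            simp only [mul_assoc]
        _ = (h⁻¹ * g⁻¹ * h) * h⁻¹ * t * x := by rw [htt]; group
    rw [e'] at e
    have hQ : h⁻¹ * g⁻¹ * h ∈ Q := RankOne.conj_D_mem' hS hh (Q.inv_mem hg)
    obtain ⟨-, e2, e3⟩ := RankOne.canonical_unique3 hS hQ hg₂ (RankOne.D_inv_mem hh) hh₂ hx hf₂ e
    exact ⟨e3.symm, e2.symm⟩
  · intro c hc g₃ h₃ f₃ hg₃ hh₃ hf₃ e
    set e0 := t * c * t with he0
    have he0D : e0 ∈ RankOne.D G a t := RankOne.t_conj_mem_D hS hc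
    have he0inv : e0⁻¹ = t * c⁻¹ * t := by
      rw [he0, mul_inv_rev, mul_inv_rev, hti, mul_assoc]
    have hte0 : t * e0 = c * t := by
      rw [he0, ← mul_assoc, ← mul_assoc, htt, one_mul]
    have e' : t * (c⁻¹ * x * c) * t = (e0⁻¹ * g * e0) * (e0⁻¹ * h * c) * t * (e0⁻¹ * f * e0) := by
      calc t * (c⁻¹ * x * c) * t = (t * c⁻¹ * t) * (t * x * t) * (t * c * t) := by
            have : (t * c⁻¹ * t) * (t * x * t) * (t * c * t)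
                = t * c⁻¹ * (t * t) * x * (t * t) * c * t := by simp only [mul_assoc]
            rw [this, htt]; simp only [mul_assoc, mul_one]
        _ = e0⁻¹ * (g * h * t * f) * e0 := by rw [heq, he0inv]
        _ = (e0⁻¹ * g * e0) * (e0⁻¹ * h) * (t * e0) * (e0⁻¹ * f * e0) := by group
        _ = (e0⁻¹ * g * e0) * (e0⁻¹ * h * c) * t * (e0⁻¹ * f * e0) := by rw [hte0]; group
    rw [e'] at e
    have h1 : e0⁻¹ * g * e0 ∈ Q := RankOne.conj_D_mem' hS he0D hg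
    have h2 : e0⁻¹ * h * c ∈ RankOne.D G a t :=
      RankOne.D_mul_mem (RankOne.D_mul_mem (RankOne.D_inv_mem he0D) hh) hc
    have h3 : e0⁻¹ * f * e0 ∈ Q := RankOne.conj_D_mem' hS he0D hf
    obtain ⟨-, e2, e3⟩ := RankOne.canonical_unique3 hS h1 hg₃ h2 hh₃ h3 hf₃ e
    exact ⟨e3.symm, e2.symm⟩

end Cfsg.Agent.S1165
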