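import Cfsg.Statements.S1166
import Cfsg.Agent.Lib.Helper8.RankOne2

set_option autoImplicit false
open Cfsg

namespace Cfsg.Agent.S1166

open Subgroup MulAction Cfsg.Agent.Lib.Helper8

/-- In the rank-one set-up: identity (H6) for the canonical forms. -/
theorem result {G Ω : Type*} [Group G] [Finite G] [MulAction G Ω] {a : Ω} {t : G} {Q : Subgroup G}
    (hS : Cfsg.IsRankOneSetup G Ω a t Q)
    (x y gx hx fx gy hy fy : G) (hxQ : x ∈ Q) (hx1 : x ≠ 1) (hyQ : y ∈ Q) (hy1 : y ≠ 1) (hxy : x * y ≠ 1)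
    (hgx : gx ∈ Q) (hhx : hx ∈ (MulAction.stabilizer G a ⊓ MulAction.stabilizer G (t • a))) (hfx : fx ∈ Q) (ex : t * x * t = gx * hx * t * fx)
    (hgy : gy ∈ Q) (hhy : hy ∈ (MulAction.stabilizer G a ⊓ MulAction.stabilizer G (t • a))) (hfy : fy ∈ Q) (ey : t * y * t = gy * hy * t * fy) :
    fx * gy ≠ 1 ∧
      ∀ gz hz fz g' h' f' : G, gz ∈ Q → hz ∈ (MulAction.stabilizer G a ⊓ MulAction.stabilizer G (t • a)) → fz ∈ Q → t * (fx * gy) * t = gz * hz * t * fz →
        g' ∈ Q → h' ∈ (MulAction.stabilizer G a ⊓ MulAction.stabilizer G (t • a)) → f' ∈ Q → t * (x * y) * t = g' * h' * t * f' →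
          f' = (t * hy * t)⁻¹ * fz * (t * hy * t) * fy ∧ h' = hx * hz * hy := by
  have htt := hS.mul_self
  have hti := RankOne.t_inv hS
  have hprod : t * (x * y) * t = gx * hx * t * (fx * gy) * hy * t * fy := by
    calc t * (x * y) * t = (t * x * t) * (t * y * t) := by
          have : (t * x * t) * (t * y * t) = t * x * (t * t) * y * t := by simp only [mul_assoc]
          rw [this, htt]; simp only [mul_assoc, mul_one]
      _ = (gx * hx * t * fx) * (gy * hy * t * fy) := by rw [ex, ey]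
      _ = gx * hx * t * (fx * gy) * hy * t * fy := by simp only [mul_assoc]
  set e0 := t * hy * t with he0
  have he0D : e0 ∈ RankOne.D G a t := RankOne.t_conj_mem_D hS hhy
  have hte0 : t * e0 = hy * t := by
    rw [he0, ← mul_assoc, ← mul_assoc, htt, one_mul]
  constructor
  · intro hz1
    -- then t (x y) t ∈ G_a, so x y = 1
    have h1 : t * (x * y) * t = gx * hx * e0 * fy := by
      rw [hprod, hz1, he0]; simp only [mul_assoc, mul_one]
    have h2 : t * (x * y) * t ∈ stabilizer G a := by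
      rw [h1]
      exact (stabilizer G a).mul_mem ((stabilizer G a).mul_mem
        ((stabilizer G a).mul_mem (hS.le hgx) hhx.1) he0D.1) (hS.le hfy)
    exact hxy ((RankOne.txt_mem_iff hS (Q.mul_mem hxQ hyQ)).mp h2)
  · intro gz hz fz g' h' f' hgz hhz hfz ez hg' hh' hf' e'
    have htz : t * (fx * gy) = gz * hz * t * fz * t := by
      calc t * (fx * gy) = t * (fx * gy) * (t * t) := by rw [htt, mul_one]
        _ = (t * (fx * gy) * t) * t := by simp only [mul_assoc]
        _ = gz * hz * t * fz * t := by rw [ez]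
    have e'' : t * (x * y) * t =
        (gx * (hx * gz * hx⁻¹)) * (hx * hz * hy) * t * (e0⁻¹ * fz * e0 * fy) := by
      rw [hprod]
      calc gx * hx * t * (fx * gy) * hy * t * fy
          = gx * hx * (t * (fx * gy)) * hy * t * fy := by simp only [mul_assoc]
        _ = gx * hx * (gz * hz * t * fz * t) * hy * t * fy := by rw [htz]
        _ = gx * hx * gz * hz * t * fz * e0 * fy := by rw [he0]; simp only [mul_assoc]
        _ = gx * hx * gz * hz * (t * e0) * (e0⁻¹ * fz * e0) * fy := by group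
        _ = gx * hx * gz * hz * (hy * t) * (e0⁻¹ * fz * e0) * fy := by rw [hte0]
        _ = (gx * (hx * gz * hx⁻¹)) * (hx * hz * hy) * t * (e0⁻¹ * fz * e0 * fy) := by group
    rw [e''] at e'
    have h1 : gx * (hx * gz * hx⁻¹) ∈ Q := Q.mul_mem hgx (RankOne.conj_D_mem hS hhx hgz)
    have h2 : hx * hz * hy ∈ RankOne.D G a t := RankOne.D_mul_mem (RankOne.D_mul_mem hhx hhz) hhy
    have h3 : e0⁻¹ * fz * e0 * fy ∈ Q := Q.mul_mem (RankOne.conj_D_mem' hS he0D hfz) hfy
    obtain ⟨-, e2, e3⟩ := RankOne.canonical_unique3 hS h1 hg' h2 hh' h3 hf' e'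
    exact ⟨e3.symm, e2.symm⟩

end Cfsg.Agent.S1166
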