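import Mathlib
import Cfsg.Statements.S1167
import Cfsg.Agent.Lib.Helper3.ZassPP2

set_option autoImplicit false
open Cfsg

namespace Cfsg.Agent.S1167

open MulAction
open Cfsg.Agent.Lib.Helper11
open Cfsg.Agent.Lib.Helper3.Zass
open Cfsg.Agent.Lib.Helper3.ZassPP

/-- Let `G` be a finite simple Zassenhaus group on `Ω`, `U` a normal subgroup of `G_a` regular on `Ω` minus `a` which is an abelian 2-group, and `v` an involution with `v • a ≠ a`. Then there is a unique `u₀ ∈ U`, `u₀ ≠ 1`, with `v u₀ v = u₀ v u₀`. -/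
theorem result {G Ω : Type*} [Group G] [Finite G] [MulAction G Ω] [Finite Ω]
    (hZ : Cfsg.IsZassenhausGroup G Ω) [IsSimpleGroup G] {a : Ω}
    (U : Subgroup G) (hUle : U ≤ MulAction.stabilizer G a)
    (hUn : ∀ h ∈ MulAction.stabilizer G a, ∀ u ∈ U, h * u * h⁻¹ ∈ U)
    (hreg : ∀ c d : Ω, c ≠ a → d ≠ a → ∃! u : U, (u : G) • c = d)
    (hU2 : IsPGroup 2 U) (hUab : ∀ u ∈ U, ∀ u' ∈ U, u * u' = u' * u)
    (v : G) (hv1 : v ≠ 1) (hv2 : v * v = 1) (hva : v • a ≠ a) :
    ∃! u₀ : G, u₀ ∈ U ∧ u₀ ≠ 1 ∧ v * u₀ * v = u₀ * v * u₀ := by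
  classical
  haveI : Fact (Nat.Prime 2) := ⟨Nat.prime_two⟩
  letI : Fintype Ω := Fintype.ofFinite Ω
  set b : Ω := v • a with hb
  have hab : a ≠ b := Ne.symm hva
  have hvb : v • b = a := by rw [hb, ← mul_smul, hv2, one_smul]
  have hn3 := zc_three_le_card hZ hab
  -- regularity consequences
  have hUa : ∀ u ∈ U, u • a = a := fun u hu => hUle hu
  have hUfix : ∀ u ∈ U, u ≠ 1 → ∀ c : Ω, u • c = c → c = a := by
    intro u hu hu1 c hc
    by_contra hca
    obtain ⟨w, -, hw⟩ := hreg c c hca hca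
    have h1 := hw ⟨u, hu⟩ hc
    have h2 := hw 1 (by show ((1 : U) : G) • c = c; rw [Subgroup.coe_one, one_smul])
    exact hu1 (congrArg Subtype.val (h1.trans h2.symm))
  have hUuniq : ∀ u ∈ U, ∀ u' ∈ U, ∀ c : Ω, c ≠ a → u • c = u' • c → u = u' := by
    intro u hu u' hu' c hca h
    have hd : u' • c ≠ a := by
      intro h0
      apply hca
      have h1 : u' • c = u' • a := by rw [h0, hUa u' hu']
      exact smul_left_cancel _ h1
    obtain ⟨w, -, hw⟩ := hreg c (u' • c) hca hd
    have h1 := hw ⟨u, hu⟩ h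
    have h2 := hw ⟨u', hu'⟩ rfl
    exact congrArg Subtype.val (h1.trans h2.symm)
  -- the order of `U`
  have hcardU : Nat.card U + 1 = Fintype.card Ω := by
    have h1 : Nat.card U = Nat.card {d : Ω // d ≠ a} := by
      apply Nat.card_congr
      refine Equiv.ofBijective (fun u : U => ⟨(u : G) • b, ?_⟩) ⟨?_, ?_⟩
      · intro h
        apply hab
        have h1 : (u : G) • b = (u : G) • a := by rw [h, hUa u.1 u.2]
        exact (smul_left_cancel _ h1).symm
      · intro u u' h
        have h1 : (u : G) • b = (u' : G) • b := congrArg Subtype.val h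
        exact Subtype.ext (hUuniq u.1 u.2 u'.1 u'.2 b (Ne.symm hab) h1)
      · rintro ⟨d, hd⟩
        obtain ⟨u, hu, -⟩ := hreg b d (Ne.symm hab) hd
        exact ⟨u, Subtype.ext hu⟩
    have h2 : Nat.card {d : Ω // d ≠ a} = Fintype.card Ω - 1 := by
      rw [Nat.card_eq_fintype_card]
      exact Set.card_ne_eq a
    omega
  obtain ⟨k, hk⟩ := IsPGroup.iff_card.1 hU2
  have hk0 : k ≠ 0 := by
    intro h
    rw [h, pow_zero] at hk
    omega
  have hodd : Odd (Fintype.card Ω) := by
    rw [← hcardU, hk]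
    exact Even.add_one ((Nat.even_pow' hk0).2 even_two)
  -- `e = n - 2`
  set Hg : Subgroup G := stabilizer G a ⊓ stabilizer G b with hHg
  set e := Nat.card Hg with he
  have hedvd : e ∣ Fintype.card Ω - 2 := zc_e_dvd hZ hab
  have hd2odd : Odd (Fintype.card Ω - 2) := by
    obtain ⟨m, hm⟩ := hodd
    exact ⟨m - 1, by omega⟩
  have heodd : Odd e := Odd.of_dvd_nat hd2odd hedvd
  have hle : Fintype.card Ω - 2 ≤ 2 * e := by
    rcases zf_main Ω (Nat.card G) G hZ a b hab (Fintype.card Ω - 1) e (by omega) rfl heodd U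
      hUle hcardU hUfix rfl with h | h
    · omega
    · exfalso
      obtain ⟨u, u', hne⟩ := h.2.1
      exact hne (Subtype.ext (hUab u.1 u.2 u'.1 u'.2))
  have hee : e = Fintype.card Ω - 2 := by
    obtain ⟨q, hq⟩ := hedvd
    have hq1 : q = 1 := by
      rcases Nat.lt_or_ge q 2 with h | h
      · have hq0 : q ≠ 0 := by
          intro h0
          rw [h0, mul_zero] at hq
          omega
        omega
      · exfalso
        have hqodd : Odd q := by
          rw [hq] at hd2odd
          exact (Nat.odd_mul.1 hd2odd).2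
        have hq3 : 3 ≤ q := by
          obtain ⟨m, hm⟩ := hqodd
          omega
        have hepos : 0 < e := Nat.card_pos
        nlinarith
    rw [hq, hq1, mul_one]
  -- every element of `U` is an involution
  have hfpf : ∀ h ∈ Hg, h ≠ 1 → ∀ x ∈ U, h * x = x * h → x = 1 := by
    intro h hh h1 x hx hc
    by_contra hx1
    have hha : h • a = a := (Subgroup.mem_inf.1 hh).1
    have hhb : h • b = b := (Subgroup.mem_inf.1 hh).2
    have hxb : x • b ≠ b := fun hfix => hab (hUfix x hx hx1 b hfix).symm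
    have hxa : x • a = a := hUa x hx
    have hxba : x • b ≠ a := by
      intro h0
      have h2 : x • b = x • a := by rw [h0, hxa]
      exact hab (smul_left_cancel _ h2).symm
    have hfixxb : h • (x • b) = x • b := by
      rw [← mul_smul, hc, mul_smul, hhb]
    exact h1 (fix3 hZ h hab (Ne.symm hxb) (Ne.symm hxba) hha hhb hfixxb)
  have h2U : 2 ∣ Nat.card U := by
    rw [hk]
    exact dvd_pow_self 2 hk0
  obtain ⟨u1, hu1⟩ := exists_prime_orderOf_dvd_card' 2 h2U
  have hu11 : u1 ≠ 1 := by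
    intro h
    rw [h, orderOf_one] at hu1
    omega
  have hUsq : ∀ u ∈ U, u * u = 1 := by
    intro u hu
    by_cases hu0 : u = 1
    · rw [hu0, one_mul]
    · let f : Hg → {x : U // x ≠ 1} := fun h =>
        ⟨⟨h.1 * u1.1 * h.1⁻¹, hUn h.1 (Subgroup.mem_inf.1 h.2).1 u1.1 u1.2⟩, by
          intro h0
          apply hu11
          have h1 : h.1 * u1.1 * h.1⁻¹ = 1 := congrArg Subtype.val h0
          apply Subtype.ext
          have h2 : u1.1 = h.1⁻¹ * (h.1 * u1.1 * h.1⁻¹) * h.1 := by group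
          rw [h2, h1]
          simp⟩
      have hfinj : Function.Injective f := by
        intro h h' hhh
        have h1 : h.1 * u1.1 * h.1⁻¹ = h'.1 * u1.1 * h'.1⁻¹ :=
          congrArg (fun w => ((w.1 : U) : G)) hhh
        have h2 : (h'.1⁻¹ * h.1) * u1.1 = u1.1 * (h'.1⁻¹ * h.1) := by
          calc (h'.1⁻¹ * h.1) * u1.1 = h'.1⁻¹ * (h.1 * u1.1 * h.1⁻¹) * h.1 := by group
            _ = h'.1⁻¹ * (h'.1 * u1.1 * h'.1⁻¹) * h.1 := by rw [h1]
            _ = u1.1 * (h'.1⁻¹ * h.1) := by group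
        have h3 : h'.1⁻¹ * h.1 = 1 := by
          by_contra hne
          apply hu11
          exact Subtype.ext (hfpf _ (Hg.mul_mem (Hg.inv_mem h'.2) h.2) hne u1.1 u1.2 h2)
        exact Subtype.ext (inv_mul_eq_one.1 h3).symm
      have hcards : Nat.card Hg = Nat.card {x : U // x ≠ 1} := by
        have h1 : Nat.card {x : U // x ≠ 1} = Nat.card U - 1 := by
          haveI : Fintype U := Fintype.ofFinite _
          rw [Nat.card_eq_fintype_card, Nat.card_eq_fintype_card]
          exact Set.card_ne_eq (1 : U)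
        rw [h1, ← he, hee]
        omega
      have hfbij : Function.Bijective f :=
        (Nat.bijective_iff_injective_and_card f).2 ⟨hfinj, hcards⟩
      obtain ⟨h, hh⟩ := hfbij.2 ⟨⟨u, hu⟩, fun h0 => hu0 (congrArg Subtype.val h0)⟩
      have h1 : h.1 * u1.1 * h.1⁻¹ = u := congrArg (fun w => ((w.1 : U) : G)) hh
      have hu1sq : u1.1 * u1.1 = 1 := by
        have h2 : u1 ^ 2 = 1 := by rw [← hu1]; exact pow_orderOf_eq_one u1
        have h3 := congrArg Subtype.val h2
        rw [pow_two] at h3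
        exact h3
      rw [← h1]
      calc h.1 * u1.1 * h.1⁻¹ * (h.1 * u1.1 * h.1⁻¹) = h.1 * (u1.1 * u1.1) * h.1⁻¹ := by group
        _ = 1 := by rw [hu1sq]; group
  -- the fixed point of `v`
  obtain ⟨c, hvc, hcuniq⟩ := invol_fix hZ hodd v hv1 hv2
  have hca : c ≠ a := by
    intro h
    rw [h] at hvc
    exact hva hvc
  have hcb : c ≠ b := by
    intro h
    rw [h, hvb] at hvc
    exact hab hvc
  obtain ⟨u0, hu0c, -⟩ := hreg b c (Ne.symm hab) hca
  have hu0sq := hUsq u0.1 u0.2
  have hu0c' : (u0 : G) • c = b := by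
    rw [← hu0c, ← mul_smul, hu0sq, one_smul]
  have hu01 : (u0 : G) ≠ 1 := by
    intro h
    rw [h, one_smul] at hu0c
    exact hcb hu0c.symm
  have hu0a : (u0 : G) • a = a := hUa u0.1 u0.2
  refine ⟨u0.1, ⟨u0.2, hu01, ?_⟩, ?_⟩
  · -- `(v u0)^3 = 1`
    set y : G := v * u0.1 with hy
    have hya : y • a = b := by rw [hy, mul_smul, hu0a]
    have hyb : y • b = c := by rw [hy, mul_smul, hu0c, hvc]
    have hyc : y • c = a := by rw [hy, mul_smul, hu0c', hvb]
    have hy3 : y * y * y = 1 := by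
      apply fix3 hZ (y * y * y) hab (Ne.symm hcb) (Ne.symm hca)
      · rw [mul_smul, mul_smul, hya, hyb, hyc]
      · rw [mul_smul, mul_smul, hyb, hyc, hya]
      · rw [mul_smul, mul_smul, hyc, hya, hyb]
    have hu0inv : (u0.1)⁻¹ = u0.1 := inv_eq_of_mul_eq_one_left hu0sq
    have hvinv : v⁻¹ = v := inv_eq_of_mul_eq_one_left hv2
    have h1 : v * u0.1 * v = (u0.1)⁻¹ * v⁻¹ * (u0.1)⁻¹ := by
      have h2 : v * u0.1 * v * (u0.1 * v * u0.1) = 1 := by
        have : v * u0.1 * v * (u0.1 * v * u0.1) = y * y * y := by rw [hy]; group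
        rw [this, hy3]
      have h3 := eq_inv_of_mul_eq_one_left h2
      rw [h3]
      group
    rw [h1, hu0inv, hvinv]
  · rintro u ⟨hu, hu1, hrel⟩
    have h1 : v • (u • b) = u • b := by
      have h2 : (v * u * v) • a = (u * v * u) • a := by rw [hrel]
      rw [mul_smul, mul_smul, mul_smul, mul_smul, hUa u hu] at h2
      exact h2
    have h2 : u • b = c := hcuniq _ h1
    exact hUuniq u hu u0.1 u0.2 b (Ne.symm hab) (by rw [h2, hu0c])

end Cfsg.Agent.S1167
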