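import Mathlib
import Cfsg.Statements.S1168
import Cfsg.Agent.S1140

set_option autoImplicit false
open Cfsg

namespace Cfsg.Agent.S1168

theorem result {F : Type*} [Field F] [Fintype F] [CharP F 2]
    (q : F → F)
    (hq : ∀ x y z : F, q (x + y + z) + q (x + y) + q (x + z) + q (y + z) + q x + q y + q z = 0) :
    ∃ (s : Finset ((F ≃+* F) × (F ≃+* F))) (c : (F ≃+* F) × (F ≃+* F) → F),
      ∀ x : F, q x = ∑ p ∈ s, c p * (p.1 x * p.2 x) := by
  classical
  letI : Algebra (ZMod 2) F := ZMod.algebra F 2
  have two : ∀ a : F, a + a = 0 := CharTwo.add_self_eq_zero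
  have hq0 : q 0 = 0 := by
    have h0 := hq 0 0 0
    simp only [add_zero] at h0
    linear_combination h0 - 3 * two (q 0)
  have hadd1 : ∀ a b n : F, q (a + b + n) + q (a + b) + q n =
      (q (a + n) + q a + q n) + (q (b + n) + q b + q n) := by
    intro a b n
    linear_combination hq a b n - two (q (a + n)) - two (q (b + n)) - two (q a) - two (q b)
      - two (q n)
  have hsymm : ∀ x y : F, q (x + y) + q x + q y = q (y + x) + q y + q x := by
    intro x y
    rw [add_comm x y]; ring
  have hadd2 : ∀ m a b : F, q (m + (a + b)) + q m + q (a + b) =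
      (q (m + a) + q m + q a) + (q (m + b) + q m + q b) := by
    intro m a b
    rw [hsymm m (a + b), hadd1 a b m, hsymm a m, hsymm b m]
  let Bl : F →ₗ[ZMod 2] F →ₗ[ZMod 2] F :=
    LinearMap.mk₂ (ZMod 2) (fun x y => q (x + y) + q x + q y)
      (fun a b n => hadd1 a b n)
      (fun c m n => ZMod.map_smul
        (AddMonoidHom.mk' (fun m => q (m + n) + q m + q n) (fun a b => hadd1 a b n)) c m)
      (fun m a b => hadd2 m a b)
      (fun c m n => ZMod.map_smul
        (AddMonoidHom.mk' (fun n => q (m + n) + q m + q n) (fun a b => hadd2 m a b)) c n)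
  let Q : QuadraticMap (ZMod 2) F F :=
    { toFun := q
      toFun_smul := by
        intro a x
        have ha : a = 0 ∨ a = 1 := by revert a; decide
        rcases ha with rfl | rfl
        · simp [hq0]
        · simp
      exists_companion' := ⟨Bl, fun x y => by
        show q (x + y) = q x + q y + (q (x + y) + q x + q y)
        linear_combination - two (q x) - two (q y)⟩ }
  obtain ⟨Bm, hBm⟩ := LinearMap.BilinMap.toQuadraticMap_surjective Q
  have hB : ∀ x : F, Bm x x = q x := fun x => DFunLike.congr_fun hBm x
  let β : F →+ F →+ F :=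
    AddMonoidHom.mk' (fun x => (Bm x).toAddMonoidHom) (fun a b => by
      apply AddMonoidHom.ext
      intro y
      show Bm (a + b) y = Bm a y + Bm b y
      rw [map_add, LinearMap.add_apply])
  obtain ⟨s, c, hsc⟩ := (Cfsg.Agent.S1140.result (F := F)).2.2 β
  refine ⟨s, c, fun x => ?_⟩
  rw [← hsc x x]
  exact (hB x).symm

end Cfsg.Agent.S1168
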