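import Mathlib
import Cfsg.Statements.S1176

set_option autoImplicit false
open Cfsg
open scoped commutatorElement

namespace Cfsg.Agent.S1176

/-- In a group, for involutions `x`, `y`: `x * (y*x)^k = (x*y)^k * x`. -/
lemma inv_pow_swap {G : Type*} [Group G] (x y : G) (k : ℕ) :
    x * (y * x) ^ k = (x * y) ^ k * x := by
  induction k with
  | zero => simp
  | succ k ih =>
    rw [pow_succ, ← mul_assoc, ih, pow_succ, mul_assoc, mul_assoc, mul_assoc]

lemma conj_even {G : Type*} [Group G] (x y : G) (hx : x * x = 1) (hy : y * y = 1) (k : ℕ) :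
    (y * x) ^ k * x * ((y * x) ^ k)⁻¹ = x * (x * y) ^ (2 * k) := by
  have h1 : ((y * x) ^ k)⁻¹ = (x * y) ^ k := by
    rw [← inv_pow]
    congr 1
    rw [mul_inv_rev]
    have hxi : x⁻¹ = x := inv_eq_of_mul_eq_one_left hx
    have hyi : y⁻¹ = y := inv_eq_of_mul_eq_one_left hy
    rw [hxi, hyi]
  have h2 : (y * x) ^ k * x = x * (x * y) ^ k := by
    have := inv_pow_swap y x k
    -- y * (x*y)^k = (y*x)^k * y
    -- want: (y*x)^k * x = x * (x*y)^k
    have h3 := inv_pow_swap x y k
    -- x * (y*x)^k = (x*y)^k * x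
    -- multiply: (y*x)^k * x = x * (x * (y*x)^k * x)... use x*x=1
    calc (y * x) ^ k * x = x * x * ((y * x) ^ k * x) := by rw [hx, one_mul]
      _ = x * ((x * (y * x) ^ k) * x) := by group
      _ = x * (((x * y) ^ k * x) * x) := by rw [h3]
      _ = x * ((x * y) ^ k * (x * x)) := by group
      _ = x * (x * y) ^ k := by rw [hx, mul_one]
  rw [h1, h2, mul_assoc, ← pow_add, two_mul]

lemma conj_odd {G : Type*} [Group G] (x y : G) (hx : x * x = 1) (hy : y * y = 1) (k : ℕ) :
    (y * x) ^ k * y * ((y * x) ^ k)⁻¹ = x * (x * y) ^ (2 * k + 1) := by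
  have h1 : ((y * x) ^ k)⁻¹ = (x * y) ^ k := by
    rw [← inv_pow]
    congr 1
    rw [mul_inv_rev]
    have hxi : x⁻¹ = x := inv_eq_of_mul_eq_one_left hx
    have hyi : y⁻¹ = y := inv_eq_of_mul_eq_one_left hy
    rw [hxi, hyi]
  have h3 := inv_pow_swap y x k
  -- y * (x*y)^k = (y*x)^k * y
  rw [h1, ← h3, mul_assoc, ← pow_add, ← two_mul, pow_succ']
  calc y * (x * y) ^ (2 * k) = x * x * (y * (x * y) ^ (2 * k)) := by rw [hx, one_mul]
    _ = x * (x * y * (x * y) ^ (2 * k)) := by simp only [mul_assoc]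

/-- Let x₀ be an involution of the finite group G and D its conjugacy class. Assume (a) for each x ∈ D the subgroup W(x) generated by the members of D commuting with x is a 2-group of nilpotency class at most 2, and (b) the product of two distinct commuting members of D again lies in D. Then for all x, y ∈ D, if xy has even order greater than 2, its order is 4. -/
theorem result {G : Type*} [Group G] [Finite G] (x₀ : G) (hx₀ : orderOf x₀ = 2) (ha : ∀ x : G, IsConj x₀ x → IsPGroup 2 ↥(Subgroup.closure {y : G | IsConj x₀ y ∧ Commute y x}) ∧ ⁅⁅Subgroup.closure {y : G | IsConj x₀ y ∧ Commute y x}, Subgroup.closure {y : G | IsConj x₀ y ∧ Commute y x}⁆, Subgroup.closure {y : G | IsConj x₀ y ∧ Commute y x}⁆ = ⊥) (hb : ∀ x y : G, IsConj x₀ x → IsConj x₀ y → x ≠ y → Commute x y → IsConj x₀ (x * y)) (x y : G) (hx : IsConj x₀ x) (hy : IsConj x₀ y) (heven : Even (orderOf (x * y))) (hgt : 2 < orderOf (x * y)) : orderOf (x * y) = 4 := by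
  -- x, y are involutions
  have hx0sq : x₀ * x₀ = 1 := by
    have := pow_orderOf_eq_one x₀
    rw [hx₀, pow_two] at this
    exact this
  have sq_of_conj : ∀ z : G, IsConj x₀ z → z * z = 1 := by
    intro z hz
    obtain ⟨c, hc⟩ := isConj_iff.mp hz
    rw [← hc]
    calc c * x₀ * c⁻¹ * (c * x₀ * c⁻¹) = c * (x₀ * x₀) * c⁻¹ := by group
      _ = 1 := by rw [hx0sq]; group
  have hxx := sq_of_conj x hx
  have hyy := sq_of_conj y hy
  obtain ⟨m, hm⟩ := heven
  have hm' : orderOf (x * y) = 2 * m := by rw [hm, two_mul]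
  have hm2 : 2 ≤ m := by omega
  set z := (x * y) ^ m with hz
  have hz1 : z ≠ 1 := by
    intro h
    have := orderOf_dvd_of_pow_eq_one h
    rw [hm'] at this
    have := Nat.le_of_dvd (by omega) this
    omega
  have hzz : z * z = 1 := by
    rw [hz, ← pow_add, ← two_mul, ← hm', pow_orderOf_eq_one]
  -- w = x * z is conjugate to x₀
  have hw : IsConj x₀ (x * z) := by
    rcases Nat.even_or_odd' m with ⟨k, hk | hk⟩
    · -- m = 2k
      have : x * z = (y * x) ^ k * x * ((y * x) ^ k)⁻¹ := by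
        rw [conj_even x y hxx hyy k, hz, hk]
      rw [this]
      exact hx.trans (isConj_iff.mpr ⟨(y * x) ^ k, rfl⟩)
    · have : x * z = (y * x) ^ k * y * ((y * x) ^ k)⁻¹ := by
        rw [conj_odd x y hxx hyy k, hz, hk]
      rw [this]
      exact hy.trans (isConj_iff.mpr ⟨(y * x) ^ k, rfl⟩)
  -- z commutes with x and y
  have hxz : Commute x z := by
    -- x * (x*y)^m * x = (y*x)^m = ((x*y)^m)⁻¹ = (x*y)^m
    have h1 : x * (x * y) ^ m = (y * x) ^ m * x := by
      have := inv_pow_swap y x m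
      -- y * (x*y)^m = (y*x)^m * y
      have h3 := inv_pow_swap x y m
      calc x * (x * y) ^ m = x * ((x * y) ^ m * x) * x := by
              rw [mul_assoc, mul_assoc, hxx, mul_one]
        _ = x * (x * (y * x) ^ m) * x := by rw [h3]
        _ = (x * x) * (y * x) ^ m * x := by group
        _ = (y * x) ^ m * x := by rw [hxx, one_mul]
    have h2 : (y * x) ^ m = (x * y) ^ m := by
      have hinv : ((x * y) ^ m)⁻¹ = (y * x) ^ m := by
        rw [← inv_pow]
        congr 1
        rw [mul_inv_rev]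
        have hxi : x⁻¹ = x := inv_eq_of_mul_eq_one_left hxx
        have hyi : y⁻¹ = y := inv_eq_of_mul_eq_one_left hyy
        rw [hxi, hyi]
      rw [← hinv]
      exact inv_eq_of_mul_eq_one_left hzz
    show x * z = z * x
    rw [hz, h1, h2]
  have hyz : Commute y z := by
    -- y = x * (x*y), both commute with z
    have hxy : Commute (x * y) z := (Commute.refl (x * y)).pow_right m
    have : y = x * (x * y) := by rw [← mul_assoc, hxx, one_mul]
    rw [this]
    exact hxz.mul_left hxy
  -- x * z ≠ x and commutes with x, so z = x * (x * z) is in D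
  have hzD : IsConj x₀ z := by
    have h1 : x ≠ x * z := by
      intro h
      apply hz1
      have := mul_left_cancel (a := x) (b := 1) (c := z) (by rw [mul_one]; exact h)
      exact this.symm
    have h2 : Commute x (x * z) := (Commute.refl x).mul_right hxz
    have := hb x (x * z) hx hw h1 h2
    rwa [← mul_assoc, hxx, one_mul] at this
  obtain ⟨-, hcl⟩ := ha z hzD
  set W := Subgroup.closure {y : G | IsConj x₀ y ∧ Commute y z} with hW
  have hxW : x ∈ W := Subgroup.subset_closure ⟨hx, hxz⟩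
  have hyW : y ∈ W := Subgroup.subset_closure ⟨hy, hyz⟩
  have hc1 : ⁅x, y⁆ ∈ ⁅W, W⁆ := Subgroup.commutator_mem_commutator hxW hyW
  have hc2 : ⁅⁅x, y⁆, x⁆ ∈ ⁅⁅W, W⁆, W⁆ := Subgroup.commutator_mem_commutator hc1 hxW
  rw [hcl, Subgroup.mem_bot] at hc2
  -- ⁅⁅x,y⁆,x⁆ = (x*y)^4
  have hxi : x⁻¹ = x := inv_eq_of_mul_eq_one_left hxx
  have hyi : y⁻¹ = y := inv_eq_of_mul_eq_one_left hyy
  have h4 : (x * y) ^ 4 = 1 := by
    rw [← hc2]
    simp only [commutatorElement_def, mul_inv_rev, hxi, hyi]
    simp only [pow_succ, pow_zero, one_mul, mul_assoc, hxx, mul_one]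
  have hdvd : orderOf (x * y) ∣ 4 := orderOf_dvd_of_pow_eq_one h4
  have hle : orderOf (x * y) ≤ 4 := Nat.le_of_dvd (by norm_num) hdvd
  interval_cases h : orderOf (x * y)
  · omega
  · rfl

end Cfsg.Agent.S1176
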