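import Mathlib
import Cfsg.Statements.S1177
import Cfsg.Agent.Lib.Helper9.Misc
import Cfsg.Agent.Lib.Helper9.BSW
import Cfsg.Agent.Lib.Helper18.Basic

set_option autoImplicit false
open Cfsg

namespace Cfsg.Agent.S1177

open Cfsg.Agent.Lib.Helper9

/-- Let A be a nontrivial elementary abelian 2-subgroup of a finite group G which is a T.I. set (each conjugate of A meets A trivially or equals A) and which does not commute elementwise with any conjugate of A other than A itself. Then for every a ∈ A, a ≠ 1, every conjugate of A contained in C_G(a) is equal to A (A is weakly closed in C_G(a)). -/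
theorem result {G : Type*} [Group G] [Finite G] (A : Subgroup G) (hA : Cfsg.IsElementaryAbelian 2 A) (hA1 : A ≠ ⊥) (hTI : ∀ g : G, A.map (MulAut.conj g).toMonoidHom ⊓ A = ⊥ ∨ A.map (MulAut.conj g).toMonoidHom = A) (hb : ∀ g : G, (∀ a ∈ A, ∀ b ∈ A.map (MulAut.conj g).toMonoidHom, a * b = b * a) → A.map (MulAut.conj g).toMonoidHom = A) (a : G) (ha : a ∈ A) (ha1 : a ≠ 1) (g : G) (hg : A.map (MulAut.conj g).toMonoidHom ≤ Subgroup.centralizer ({a} : Set G)) : A.map (MulAut.conj g).toMonoidHom = A := by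
  classical
  have : Fact (Nat.Prime 2) := ⟨Nat.prime_two⟩
  -- Step 1: C(a) normalizes A
  have h1 : ∀ c ∈ Subgroup.centralizer ({a} : Set G), A.map (MulAut.conj c).toMonoidHom = A := by
    intro c hc
    rcases hTI c with h | h
    · exfalso
      have hac : a ∈ A.map (MulAut.conj c).toMonoidHom := by
        rw [mem_conjMap]
        have := (Subgroup.mem_centralizer_iff.mp hc) a rfl
        have e : c⁻¹ * a * c = a := by rw [mul_assoc, this, ← mul_assoc, inv_mul_cancel, one_mul]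
        rw [e]; exact ha
      have : a ∈ (⊥ : Subgroup G) := h ▸ Subgroup.mem_inf.mpr ⟨hac, ha⟩
      exact ha1 (Subgroup.mem_bot.mp this)
    · exact h
  obtain ⟨B, hBdef⟩ : ∃ B, B = A.map (MulAut.conj g).toMonoidHom := ⟨_, rfl⟩
  rw [← hBdef] at hg ⊢
  have hBN : B ≤ Subgroup.normalizer (A : Set G) :=
    le_normalizer_of_forall_conjMap_eq (fun b hbB => h1 b (hg hbB))
  rcases hTI g with hAB | h
  swap
  · rw [hBdef]; exact h
  rw [← hBdef] at hAB
  -- elementwise commutation inside A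
  have hAcomm : ∀ x ∈ A, ∀ y ∈ A, x * y = y * x := by
    intro x hx y hy
    have := hA.1.is_comm.comm (⟨x, hx⟩ : A) ⟨y, hy⟩
    exact congrArg Subtype.val this
  have hBcomm : ∀ x ∈ B, ∀ y ∈ B, x * y = y * x := by
    intro x hx y hy
    rw [hBdef, mem_conjMap] at hx hy
    have := hAcomm _ hx _ hy
    have e1 : x = g * (g⁻¹ * x * g) * g⁻¹ := by group
    have e2 : y = g * (g⁻¹ * y * g) * g⁻¹ := by group
    rw [e1, e2]
    have : g * (g⁻¹ * x * g) * g⁻¹ * (g * (g⁻¹ * y * g) * g⁻¹) = g * ((g⁻¹ * x * g) * (g⁻¹ * y * g)) * g⁻¹ := by group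
    rw [this]
    have : g * (g⁻¹ * y * g) * g⁻¹ * (g * (g⁻¹ * x * g) * g⁻¹) = g * ((g⁻¹ * y * g) * (g⁻¹ * x * g)) * g⁻¹ := by group
    rw [this]
    rw [hAcomm _ hx _ hy]
  have hA2 : IsPGroup 2 A := isPGroup_two_of_sq hA.2
  have hB2 : IsPGroup 2 B := by rw [hBdef]; exact isPGroup_conjMap hA2 g
  have hP2 : IsPGroup 2 (A ⊔ B : Subgroup G) := hA2.to_sup_of_normal_left' hB2 hBN
  -- A₀ and Q
  obtain ⟨A₀, hA₀def⟩ : ∃ A₀, A₀ = A ⊓ Subgroup.centralizer (B : Set G) := ⟨_, rfl⟩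
  have hA₀A : A₀ ≤ A := hA₀def ▸ inf_le_left
  have hA₀C : A₀ ≤ Subgroup.centralizer (B : Set G) := hA₀def ▸ inf_le_right
  have hBC : B ≤ Subgroup.centralizer (B : Set G) := by
    intro x hx
    rw [Subgroup.mem_centralizer_iff]
    intro y hy
    exact hBcomm y hy x hx
  have hQC : A₀ ⊔ B ≤ Subgroup.centralizer (B : Set G) := sup_le hA₀C hBC
  have hQP : A₀ ⊔ B ≤ A ⊔ B := sup_le_sup_right hA₀A B
  by_cases hQeq : A₀ ⊔ B = A ⊔ B
  · -- then A ≤ C(B)
    apply (hBdef ▸ hb g)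
    intro x hx y hy
    have hxQ : x ∈ A₀ ⊔ B := hQeq ▸ Subgroup.mem_sup_left hx
    have := (Subgroup.mem_centralizer_iff.mp (hQC hxQ)) y hy
    exact this.symm
  · exfalso
    have hlt : A₀ ⊔ B < A ⊔ B := lt_of_le_of_ne hQP hQeq
    obtain ⟨t, htP, htQ, htN⟩ :=
      Cfsg.Agent.Lib.Helper18.exists_mem_normalizer_not_mem_of_lt (A₀ ⊔ B) (A ⊔ B) hP2 hlt
    obtain ⟨x, hxA, b, hbB, rfl⟩ := (mem_sup_of_le_normalizer hBN).mp htP
    have hbQ : b ∈ A₀ ⊔ B := Subgroup.mem_sup_right hbB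
    have hxN : x ∈ Subgroup.normalizer ((A₀ ⊔ B : Subgroup G) : Set G) := by
      have := Subgroup.mul_mem _ htN (Subgroup.inv_mem _ (Subgroup.le_normalizer hbQ))
      simpa using this
    have hxQ : x ∉ A₀ ⊔ B := fun h => htQ (Subgroup.mul_mem _ h hbQ)
    -- B^x ≤ Q ≤ C(B)
    have hBx : ∀ y ∈ B, x * y * x⁻¹ ∈ Subgroup.centralizer (B : Set G) := by
      intro y hy
      apply hQC
      exact (Subgroup.mem_normalizer_iff.mp hxN y).mp (Subgroup.mem_sup_right hy)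
    -- so A commutes with A^{g⁻¹ x g}
    have hconj : A.map (MulAut.conj (g⁻¹ * x * g)).toMonoidHom = A := by
      apply hb
      intro u hu v hv
      rw [mem_conjMap] at hv
      -- u' = g u g⁻¹ ∈ B, v = g⁻¹ x g w g⁻¹ x⁻¹ g with w ∈ A
      have huB : g * u * g⁻¹ ∈ B := by rw [hBdef]; exact conj_mem_conjMap hu
      have hwB : g * ((g⁻¹ * x * g)⁻¹ * v * (g⁻¹ * x * g)) * g⁻¹ ∈ B := by
        rw [hBdef]; exact conj_mem_conjMap hv
      have h3 := hBx _ hwB
      have h4 := (Subgroup.mem_centralizer_iff.mp h3) _ huB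
      have e : x * (g * ((g⁻¹ * x * g)⁻¹ * v * (g⁻¹ * x * g)) * g⁻¹) * x⁻¹ = g * v * g⁻¹ := by group
      rw [e] at h4
      have h5 : g * u * g⁻¹ * (g * v * g⁻¹) = g * (u * v) * g⁻¹ := by group
      have h6 : g * v * g⁻¹ * (g * u * g⁻¹) = g * (v * u) * g⁻¹ := by group
      rw [h5, h6] at h4
      exact mul_left_cancel (mul_right_cancel h4)
    -- hence x normalizes B
    have hxB : ∀ y ∈ B, x * y * x⁻¹ ∈ B := by
      intro y hy
      rw [hBdef, mem_conjMap] at hy ⊢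
      have : (g⁻¹ * x * g) * (g⁻¹ * y * g) * (g⁻¹ * x * g)⁻¹ ∈ A.map (MulAut.conj (g⁻¹ * x * g)).toMonoidHom :=
        conj_mem_conjMap hy
      rw [hconj] at this
      have e : g⁻¹ * (x * y * x⁻¹) * g = (g⁻¹ * x * g) * (g⁻¹ * y * g) * (g⁻¹ * x * g)⁻¹ := by group
      rw [e]; exact this
    -- so x centralizes B
    apply hxQ
    apply Subgroup.mem_sup_left
    rw [hA₀def]
    refine Subgroup.mem_inf.mpr ⟨hxA, ?_⟩
    rw [Subgroup.mem_centralizer_iff]
    intro y hy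
    have hcB : x * y * x⁻¹ * y⁻¹ ∈ B := B.mul_mem (hxB y hy) (B.inv_mem hy)
    have hcA : x * y * x⁻¹ * y⁻¹ ∈ A := by
      have : y * x⁻¹ * y⁻¹ ∈ A := (Subgroup.mem_normalizer_iff.mp (hBN hy) x⁻¹).mp (A.inv_mem hxA)
      have := A.mul_mem hxA this
      have e : x * (y * x⁻¹ * y⁻¹) = x * y * x⁻¹ * y⁻¹ := by group
      rwa [e] at this
    have : x * y * x⁻¹ * y⁻¹ ∈ (⊥ : Subgroup G) := hAB ▸ Subgroup.mem_inf.mpr ⟨hcB, hcA⟩
    have h7 := Subgroup.mem_bot.mp this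
    have : x * y = y * x := by
      have := congrArg (fun z => z * y * x) h7
      simpa [mul_assoc] using this
    exact this.symm

end Cfsg.Agent.S1177
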