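import Cfsg.Statements.S1178
import Cfsg.Agent.Lib.Helper9.Conj

set_option autoImplicit false
open Cfsg

namespace Cfsg.Agent.S1178

open Cfsg.Agent.Lib.Helper9

/-- Let A be a subgroup of a Sylow 2-subgroup S of the finite group G which is weakly closed in S. If a conjugate g A g⁻¹ commutes elementwise with A, then g A g⁻¹ = A. -/
theorem result {G : Type*} [Group G] [Finite G] (S : Sylow 2 G) (A : Subgroup G) (hW : Cfsg.IsWeaklyClosed A (S : Subgroup G)) (g : G) (hc : ∀ a ∈ A, ∀ b ∈ A.map (MulAut.conj g).toMonoidHom, a * b = b * a) : A.map (MulAut.conj g).toMonoidHom = A := by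
  have : Fact (Nat.Prime 2) := ⟨Nat.prime_two⟩
  obtain ⟨h, hh, hhg⟩ := weaklyClosed_conj_in_subgroup S A hW
    (A ⊔ A.map (MulAut.conj g).toMonoidHom) le_sup_left g le_sup_right
  rw [← hhg]
  apply conjMap_eq_self_of_mem_normalizer
  -- A ⊔ A^g normalizes A
  have : A ⊔ A.map (MulAut.conj g).toMonoidHom ≤ Subgroup.normalizer (A : Set G) := by
    apply sup_le
    · exact Subgroup.le_normalizer
    · intro b hb
      rw [Subgroup.mem_normalizer_iff]
      intro a
      have key : ∀ a ∈ A, b * a * b⁻¹ = a := by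
        intro a ha
        rw [← hc a ha b hb]; group
      constructor
      · intro ha; rw [key a ha]; exact ha
      · intro ha
        have hb' : b⁻¹ ∈ A.map (MulAut.conj g).toMonoidHom := Subgroup.inv_mem _ hb
        have h2 := hc _ ha _ hb'
        -- b a b⁻¹ * b⁻¹ = b⁻¹ * b a b⁻¹
        have : a = b * a * b⁻¹ := by
          calc a = b⁻¹ * (b * a * b⁻¹) * b := by group
            _ = (b * a * b⁻¹) * b⁻¹ * b := by rw [h2]
            _ = b * a * b⁻¹ := by group
        rw [this]; exact ha
  exact this hh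

end Cfsg.Agent.S1178
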