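import Cfsg.Statements.S1181
import Cfsg.Agent.Lib.Helper9.Isolated

set_option autoImplicit false
open Cfsg

namespace Cfsg.Agent.S1181

open Cfsg.Agent.Lib.Helper9

/-- if the image of `g` commutes with the image of `z` modulo `N`, then `g ∈ N C(z)`. -/
theorem exists_mem_of_commute_mk {G : Type*} [Group G] [Finite G] (z : G)
    (hz : Cfsg.IsIsolatedInvolution z) (N : Subgroup G) [N.Normal] (g : G)
    (hc : (QuotientGroup.mk g : G ⧸ N) * QuotientGroup.mk z = QuotientGroup.mk z * QuotientGroup.mk g) :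
    ∃ w ∈ N, w⁻¹ * g ∈ Subgroup.centralizer ({z} : Set G) := by
  have hzz := isolated_sq hz
  have hzinv : z⁻¹ = z := inv_eq_self_of_sq hzz
  obtain ⟨k, hk⟩ := isolated_conj_pow hz g
  have hmem : z * (g * z * g⁻¹) ∈ N := by
    have h1 : ((z * g : G) : G ⧸ N) = ((g * z : G) : G ⧸ N) := by
      rw [QuotientGroup.mk_mul, QuotientGroup.mk_mul, hc]
    rw [QuotientGroup.eq] at h1
    -- (z g)⁻¹ * (g z) ∈ N
    have h2 : g * ((z * g)⁻¹ * (g * z)) * g⁻¹ ∈ N := ‹N.Normal›.conj_mem _ h1 g
    have e : g * ((z * g)⁻¹ * (g * z)) * g⁻¹ = z * (g * z * g⁻¹) := by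
      have : g * ((z * g)⁻¹ * (g * z)) * g⁻¹ = z⁻¹ * (g * z * g⁻¹) := by group
      rw [this, hzinv]
    rw [← e]; exact h2
  exact ⟨_, N.pow_mem hmem k, mem_centralizer_singleton_of_conj_eq hk.symm⟩

/-- Let z be an isolated involution of the finite group G and N a normal subgroup with z ∉ N. Then the centralizer of zN in G/N is the image of C_G(z), and zN is an isolated involution of G/N. -/
theorem result {G : Type*} [Group G] [Finite G] (z : G) (hz : Cfsg.IsIsolatedInvolution z) (N : Subgroup G) [N.Normal] (hzN : z ∉ N) : Subgroup.centralizer ({(QuotientGroup.mk z : G ⧸ N)} : Set (G ⧸ N)) = (Subgroup.centralizer ({z} : Set G)).map (QuotientGroup.mk' N) ∧ Cfsg.IsIsolatedInvolution (QuotientGroup.mk z : G ⧸ N) := by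
  have hzz := isolated_sq hz
  have hcent : Subgroup.centralizer ({(QuotientGroup.mk z : G ⧸ N)} : Set (G ⧸ N)) = (Subgroup.centralizer ({z} : Set G)).map (QuotientGroup.mk' N) := by
    apply le_antisymm
    · intro x hx
      obtain ⟨g, rfl⟩ := QuotientGroup.mk_surjective x
      rw [Subgroup.mem_centralizer_iff] at hx
      have hc := hx _ rfl
      obtain ⟨w, hwN, hw⟩ := exists_mem_of_commute_mk z hz N g hc.symm
      refine ⟨w⁻¹ * g, hw, ?_⟩
      rw [QuotientGroup.mk'_apply, QuotientGroup.mk_mul, QuotientGroup.mk_inv,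
        (QuotientGroup.eq_one_iff w).mpr hwN, inv_one, one_mul]
    · rintro x ⟨c, hc, rfl⟩
      rw [Subgroup.mem_centralizer_iff]
      intro y hy
      rw [Set.mem_singleton_iff] at hy
      subst hy
      have hc' : c ∈ Subgroup.centralizer ({z} : Set G) := hc
      rw [Subgroup.mem_centralizer_iff] at hc'
      have := hc' z rfl
      rw [QuotientGroup.mk'_apply, ← QuotientGroup.mk_mul, ← QuotientGroup.mk_mul, this]
  refine ⟨hcent, ?_, ?_⟩
  · -- order 2
    have h2 : (QuotientGroup.mk z : G ⧸ N) ^ 2 = 1 := by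
      rw [← QuotientGroup.mk_pow, pow_two, hzz]; rfl
    have h1 : (QuotientGroup.mk z : G ⧸ N) ≠ 1 := by
      intro h; exact hzN ((QuotientGroup.eq_one_iff z).mp h)
    exact orderOf_eq_prime h2 h1
  · intro x hx
    obtain ⟨g, rfl⟩ := QuotientGroup.mk_surjective x
    -- t = g z g⁻¹ ; mk t commutes with mk z
    obtain ⟨t, ht⟩ : ∃ t, t = g * z * g⁻¹ := ⟨_, rfl⟩
    have hx' : (QuotientGroup.mk z : G ⧸ N) * QuotientGroup.mk t = QuotientGroup.mk t * QuotientGroup.mk z := by
      have : (QuotientGroup.mk t : G ⧸ N) = QuotientGroup.mk g * QuotientGroup.mk z * (QuotientGroup.mk g)⁻¹ := by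
        rw [ht, QuotientGroup.mk_mul, QuotientGroup.mk_mul, QuotientGroup.mk_inv]
      rw [this]; exact hx.eq
    obtain ⟨w, hwN, hw⟩ := exists_mem_of_commute_mk z hz N t hx'.symm
    -- mk t = mk c with c ∈ C(z)
    obtain ⟨c, hc⟩ : ∃ c, c = w⁻¹ * t := ⟨_, rfl⟩
    rw [← hc] at hw
    have hmkt : (QuotientGroup.mk t : G ⧸ N) = QuotientGroup.mk c := by
      rw [hc, QuotientGroup.mk_mul, QuotientGroup.mk_inv,
        (QuotientGroup.eq_one_iff w).mpr hwN, inv_one, one_mul]
    have hcz : (QuotientGroup.mk c : G ⧸ N) * QuotientGroup.mk z = QuotientGroup.mk z * QuotientGroup.mk c := by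
      rw [Subgroup.mem_centralizer_iff] at hw
      have := hw z rfl
      rw [← QuotientGroup.mk_mul, ← QuotientGroup.mk_mul, this]
    obtain ⟨k, hk⟩ := isolated_conj_pow hz g
    rw [← ht] at hk
    have hk' := congrArg (QuotientGroup.mk : G → G ⧸ N) hk
    rw [QuotientGroup.mk_mul, QuotientGroup.mk_mul, QuotientGroup.mk_inv, QuotientGroup.mk_pow,
      QuotientGroup.mk_mul] at hk'
    have hgt : (QuotientGroup.mk g : G ⧸ N) * QuotientGroup.mk z * (QuotientGroup.mk g)⁻¹ = QuotientGroup.mk t := by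
      rw [ht, QuotientGroup.mk_mul, QuotientGroup.mk_mul, QuotientGroup.mk_inv]
    rw [hgt, ← hk']
    have hcomm : Commute ((QuotientGroup.mk z : G ⧸ N) * QuotientGroup.mk t) (QuotientGroup.mk z) := by
      rw [hmkt]
      exact (Commute.refl _).mul_left hcz
    have := (hcomm.pow_left k).eq
    rw [this, mul_assoc, mul_inv_cancel, mul_one]

end Cfsg.Agent.S1181
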