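import Cfsg.Statements.S1182
import Cfsg.Agent.Lib.Helper9.Isolated

set_option autoImplicit false
open Cfsg

namespace Cfsg.Agent.S1182

open Cfsg.Agent.Lib.Helper9 in
/-- Let z be an isolated involution of the finite group G and H a subgroup normalized by z. If x, y ∈ H both commute with z and y = h x h⁻¹ for some h ∈ H, then y = c x c⁻¹ for some c ∈ H commuting with z. -/
theorem result {G : Type*} [Group G] [Finite G] (z : G) (hz : Cfsg.IsIsolatedInvolution z) (H : Subgroup G) (hzH : z ∈ Subgroup.normalizer (H : Set G)) (x y : G) (hx : x ∈ H) (hy : y ∈ H) (hxz : Commute x z) (hyz : Commute y z) (h : G) (hh : h ∈ H) (hconj : h * x * h⁻¹ = y) : ∃ c ∈ H, Commute c z ∧ c * x * c⁻¹ = y := by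
  obtain ⟨k, hk⟩ := isolated_conj_pow hz h⁻¹
  rw [inv_inv] at hk
  have hzz := isolated_sq hz
  have hzinv : z⁻¹ = z := inv_eq_self_of_sq hzz
  -- z * t ∈ H
  have hmem : z * (h⁻¹ * z * h) ∈ H := by
    have h1 : z * h⁻¹ * z⁻¹ ∈ H := (Subgroup.mem_normalizer_iff.mp hzH h⁻¹).mp (H.inv_mem hh)
    have : z * (h⁻¹ * z * h) = (z * h⁻¹ * z⁻¹) * h := by rw [hzinv]; group
    rw [this]; exact H.mul_mem h1 hh
  -- t commutes with x
  have htx : Commute (h⁻¹ * z * h) x := by
    have hx' : x = h⁻¹ * y * h := by rw [← hconj]; group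
    unfold Commute SemiconjBy
    calc h⁻¹ * z * h * x = h⁻¹ * (z * y) * h := by rw [hx']; group
      _ = h⁻¹ * (y * z) * h := by rw [hyz.eq]
      _ = x * (h⁻¹ * z * h) := by rw [hx']; group
  have hztx : Commute (z * (h⁻¹ * z * h)) x := (hxz.symm).mul_left htx
  have hwx : Commute ((z * (h⁻¹ * z * h)) ^ k) x := hztx.pow_left k
  set w := (z * (h⁻¹ * z * h)) ^ k with hw
  refine ⟨h * w, H.mul_mem hh (H.pow_mem hmem k), ?_, ?_⟩
  · unfold Commute SemiconjBy
    have : h * w * z = h * (w * z * w⁻¹) * w := by group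
    rw [this, hk]; group
  · have : h * w * x * (h * w)⁻¹ = h * (w * x * w⁻¹) * h⁻¹ := by group
    rw [this, hwx.eq, mul_assoc x, mul_inv_cancel, mul_one, hconj]

end Cfsg.Agent.S1182
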