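import Cfsg.Statements.S1184
import Cfsg.Agent.Lib.Helper9.Isolated

set_option autoImplicit false
open Cfsg

namespace Cfsg.Agent.S1184

open Cfsg.Agent.Lib.Helper9

/-- the elements which centralize or invert `r` -/
def invNormalizer {G : Type*} [Group G] (r : G) : Subgroup G where
  carrier := {w | w * r * w⁻¹ = r ∨ w * r * w⁻¹ = r⁻¹}
  one_mem' := by left; group
  mul_mem' := by
    intro a b ha hb
    have e : a * b * r * (a * b)⁻¹ = a * (b * r * b⁻¹) * a⁻¹ := by group
    rw [Set.mem_ofPred_eq, e]
    rcases hb with hb | hb <;> rcases ha with ha | ha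
    · left; rw [hb, ha]
    · right; rw [hb, ha]
    · right; rw [hb]
      have : a * r⁻¹ * a⁻¹ = (a * r * a⁻¹)⁻¹ := by group
      rw [this, ha]
    · left; rw [hb]
      have : a * r⁻¹ * a⁻¹ = (a * r * a⁻¹)⁻¹ := by group
      rw [this, ha, inv_inv]
  inv_mem' := by
    intro a ha
    rw [Set.mem_ofPred_eq, inv_inv]
    rcases ha with ha | ha
    · left
      calc a⁻¹ * r * a = a⁻¹ * (a * r * a⁻¹) * a := by rw [ha]
        _ = r := by group
    · right
      have : r = a * r⁻¹ * a⁻¹ := by
        have : a * r⁻¹ * a⁻¹ = (a * r * a⁻¹)⁻¹ := by group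
        rw [this, ha, inv_inv]
      calc a⁻¹ * r * a = a⁻¹ * (a * r⁻¹ * a⁻¹) * a := by rw [← this]
        _ = r⁻¹ := by group

theorem conj_commute_of_mem_invNormalizer {G : Type*} [Group G] {r w c : G}
    (hw : w ∈ invNormalizer r) (hc : Commute c r) : Commute (w * c * w⁻¹) r := by
  have hw' : w⁻¹ ∈ invNormalizer r := (invNormalizer r).inv_mem hw
  have hw'' : w⁻¹ * r * w = r ∨ w⁻¹ * r * w = r⁻¹ := by
    have := hw'
    simp only [invNormalizer, Subgroup.mem_mk, Submonoid.mem_mk, Subsemigroup.mem_mk,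
      Set.mem_ofPred_eq, inv_inv] at this
    exact this
  unfold Commute SemiconjBy
  have e : w * c * w⁻¹ * r = w * (c * (w⁻¹ * r * w)) * w⁻¹ := by group
  have e2 : r * (w * c * w⁻¹) = w * ((w⁻¹ * r * w) * c) * w⁻¹ := by group
  rw [e, e2]
  rcases hw'' with h | h
  · rw [h, hc.eq]
  · rw [h, (hc.inv_right).eq]

/-- Let z be an isolated involution of the finite group G. If s and t are distinct conjugates of z, then st does not commute with z. -/
theorem result {G : Type*} [Group G] [Finite G] (z : G) (hz : Cfsg.IsIsolatedInvolution z) (g h : G) (hne : g * z * g⁻¹ ≠ h * z * h⁻¹) : ¬ Commute (g * z * g⁻¹ * (h * z * h⁻¹)) z := by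
  intro hcomm
  set s := g * z * g⁻¹ with hs
  set t := h * z * h⁻¹ with ht
  set r := s * t with hr
  have hzz := isolated_sq hz
  have hss : s * s = 1 := conj_sq hzz g
  have htt : t * t = 1 := conj_sq hzz h
  -- r has odd order
  have hrodd : Odd (orderOf r) := isolated_odd_orderOf_conj_mul_conj hz g h
  -- s inverts r
  have hsr : s * r * s⁻¹ = r⁻¹ := conj_mul_of_sq hss htt
  have hsN : s ∈ invNormalizer r := Or.inr hsr
  have hzN : z ∈ invNormalizer r := by
    left
    rw [← hcomm.eq]; group
  -- z is conjugate to s inside the invNormalizer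
  obtain ⟨k, hk⟩ := isolated_conj_pow hz g
  rw [← hs] at hk
  have hwN : (z * s) ^ k ∈ invNormalizer r := (invNormalizer r).pow_mem ((invNormalizer r).mul_mem hzN hsN) k
  have hsc : Commute s r := by
    have := conj_commute_of_mem_invNormalizer hwN hcomm.symm
    rw [hk] at this; exact this
  -- hence r = r⁻¹
  have hr2 : r ^ 2 = 1 := by
    have : r = r⁻¹ := by
      rw [← hsr, hsc.eq]; group
    rw [pow_two]
    nth_rewrite 2 [this]
    exact mul_inv_cancel r
  have hr1 : r = 1 := by
    have hdvd := orderOf_dvd_of_pow_eq_one hr2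
    have : orderOf r = 1 := by
      rcases (Nat.dvd_prime Nat.prime_two).mp hdvd with h1 | h2
      · exact h1
      · rw [h2] at hrodd; exact absurd hrodd (by decide)
    exact orderOf_eq_one_iff.mp this
  apply hne
  have : s = t⁻¹ := eq_inv_of_mul_eq_one_left hr1
  rw [this, inv_eq_self_of_sq htt]

end Cfsg.Agent.S1184
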