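import Mathlib
import Cfsg.Statements.S1191
import Cfsg.Agent.Lib.Helper9.QD.Quat2

set_option autoImplicit false
open Cfsg

namespace Cfsg.Agent.S1191

/-- In a quasi-dihedral 2-group S, any two subgroups isomorphic to the quaternion group of order 8 are conjugate, and each such subgroup Q satisfies C_S(Q) = Z(Q) and |N_S(Q) : Q| = 2. -/
theorem result {S : Type*} [Group S] [Finite S] (hS : Cfsg.IsQuasiDihedral S) : (∀ Q₁ Q₂ : Subgroup S, Nonempty (Q₁ ≃* QuaternionGroup 2) → Nonempty (Q₂ ≃* QuaternionGroup 2) → ∃ s : S, Q₁.map (MulAut.conj s).toMonoidHom = Q₂) ∧ (∀ Q : Subgroup S, Nonempty (Q ≃* QuaternionGroup 2) → Subgroup.centralizer (Q : Set S) = (Subgroup.center Q).map Q.subtype ∧ Q.relIndex (Subgroup.normalizer (Q : Set S)) = 2) := by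
  obtain ⟨n, x, y, h⟩ := Cfsg.Agent.Lib.Helper9.QD.exists_qdData hS
  refine ⟨?_, ?_⟩
  · rintro Q₁ Q₂ ⟨e₁⟩ ⟨e₂⟩
    exact h.quat_conj Q₁ Q₂ e₁ e₂
  · rintro Q ⟨e⟩
    exact ⟨h.quat_centralizer Q e, h.quat_relIndex Q e⟩

end Cfsg.Agent.S1191
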