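import Mathlib
import Cfsg.Statements.S1196
import Cfsg.Agent.Lib.Helper9.Wr.Abelian

set_option autoImplicit false
open Cfsg

namespace Cfsg.Agent.S1196

/-- A wreathed 2-group S of order 2^(2n+1) has a unique commutative subgroup of order 2^(2n), and this subgroup is isomorphic to the direct product of two cyclic groups of order 2^n. -/
theorem result {S : Type*} [Group S] [Finite S] (hS : Cfsg.IsWreathed S) (n : ℕ) (hn : Nat.card S = 2 ^ (2 * n + 1)) : (∃! U : Subgroup S, IsMulCommutative U ∧ Nat.card U = 2 ^ (2 * n)) ∧ ∀ U : Subgroup S, IsMulCommutative U → Nat.card U = 2 ^ (2 * n) → Nonempty (U ≃* Multiplicative (ZMod (2 ^ n) × ZMod (2 ^ n))) := by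
  obtain ⟨n', x, y, z, h⟩ := Cfsg.Agent.Lib.Helper9.Wr.exists_wrData hS
  have hnn : n' = n := by
    have h1 := h.card
    rw [hn] at h1
    have := Nat.pow_right_injective (le_refl 2) h1
    omega
  subst hnn
  refine ⟨⟨h.A, ⟨h.isMulCommutative_A, h.card_A⟩, ?_⟩, ?_⟩
  · rintro U ⟨hU, hc⟩
    exact h.abelian_unique U hU hc
  · intro U hU hc
    rw [h.abelian_unique U hU hc]
    exact h.A_equiv

end Cfsg.Agent.S1196
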