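import Mathlib
import Cfsg.Statements.S1202
import Cfsg.Agent.Lib.Helper9.Wr.Centric

set_option autoImplicit false
open Cfsg

namespace Cfsg.Agent.S1202

/-- Let S be a wreathed 2-group of order 2^(2n+1) and X a subgroup with C_S(X) ≤ X such that Aut(X) is not a 2-group. Then |N_S(X) : X| = 2, and either X is the commutative subgroup of order 2^(2n), or X = Q·Z(S) for some subgroup Q ≅ Q₈; in the latter case any two such subgroups are conjugate in S. -/
theorem result {S : Type*} [Group S] [Finite S] (hS : Cfsg.IsWreathed S) (n : ℕ) (hn : Nat.card S = 2 ^ (2 * n + 1)) (X : Subgroup S) (hC : Subgroup.centralizer (X : Set S) ≤ X) (hA : ¬ IsPGroup 2 (MulAut X)) : X.relIndex (Subgroup.normalizer (X : Set S)) = 2 ∧ ((IsMulCommutative X ∧ Nat.card X = 2 ^ (2 * n)) ∨ ∃ Q : Subgroup S, Nonempty (Q ≃* QuaternionGroup 2) ∧ X = Q ⊔ Subgroup.center S) ∧ ∀ X' : Subgroup S, Subgroup.centralizer (X' : Set S) ≤ X' → ¬ IsPGroup 2 (MulAut X') → ¬ IsMulCommutative X → ¬ IsMulCommutative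 X' → ∃ s : S, X.map (MulAut.conj s).toMonoidHom = X' := by
  obtain ⟨n', x, y, z, h⟩ := Cfsg.Agent.Lib.Helper9.Wr.exists_wrData hS
  have hnn : n' = n := by
    have h1 := h.card
    rw [hn] at h1
    have h2 := Nat.pow_right_injective (le_refl 2) h1
    omega
  subst hnn
  have hAnorm : h.A.Normal := Subgroup.normal_of_index_eq_two h.index_A
  rcases h.centric_cases X hC hA with rfl | ⟨a, rfl⟩
  · refine ⟨?_, Or.inl ⟨h.isMulCommutative_A, h.card_A⟩, ?_⟩
    · rw [Subgroup.normalizer_eq_top_iff.mpr hAnorm, Subgroup.relIndex_top_right, h.index_A]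
    · intro X' _ _ hnc _
      exact absurd h.isMulCommutative_A hnc
  · refine ⟨h.relIndex_Vt _, Or.inr ⟨h.Qa a, h.Qa_quaternion a, h.Vt_eq_sup a⟩, ?_⟩
    intro X' hC' hA' _ hnc'
    rcases h.centric_cases X' hC' hA' with rfl | ⟨a', rfl⟩
    · exact absurd h.isMulCommutative_A hnc'
    · refine ⟨Cfsg.Agent.Lib.Helper9.Wr.W x y (a' - a) 0, ?_⟩
      rw [h.Vt_conj]
      congr 1
      ring

end Cfsg.Agent.S1202
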