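import Mathlib
import Cfsg.Statements.S1215
import Cfsg.Agent.Lib.Helper9.ZStarWC

set_option autoImplicit false
open Cfsg

namespace Cfsg.Agent.S1215

/-- Let H be a finite group with quasi-dihedral or wreathed Sylow 2-subgroup S such that H has a normal subgroup K of index a power of 2 with no subgroup of index 2 and with generalized quaternion Sylow 2-subgroups, and such that every subgroup of Z(S) is weakly closed in S with respect to H. Then H = O(H) C_H(Z(S)): every element of H is the product of an element of the largest normal odd-order subgroup and an element centralizing Z(S). -/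
theorem result {H : Type*} [Group H] [Finite H] (S : Sylow 2 H) (hS : Cfsg.IsQuasiDihedral (S : Subgroup H) ∨ Cfsg.IsWreathed (S : Subgroup H)) (hQ : (∃ K : Subgroup H, K.Normal ∧ (∃ a : ℕ, K.index = 2 ^ a) ∧ (∀ M : Subgroup ↥K, M.index ≠ 2) ∧ (∀ P : Sylow 2 ↥K, ∃ m : ℕ, 1 ≤ m ∧ Nonempty ((P : Subgroup ↥K) ≃* QuaternionGroup (2 ^ m)))) ∧ (∀ Z₀ : Subgroup H, Z₀ ≤ ((Subgroup.center (S : Subgroup H)).map (S : Subgroup H).subtype) → Cfsg.IsWeaklyClosed Z₀ (S : Subgroup H))) (h : H) : ∃ o ∈ Cfsg.oddCore H, ∃ c ∈ Subgroup.centralizer (((Subgroup.center (S : Subgroup H)).map (S : Subgroup H).subtype : Subgroup H) : Set H), h = o * c := by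
  obtain ⟨⟨K, hKn, hKidx, hK, -⟩, hwc⟩ := hQ
  have hZS : (Subgroup.center (S : Subgroup H)).map (S : Subgroup H).subtype ≤ (S : Subgroup H) :=
    Subgroup.map_subtype_le _
  have hZcent : ∀ z ∈ (Subgroup.center (S : Subgroup H)).map (S : Subgroup H).subtype,
      ∀ s ∈ (S : Subgroup H), s * z = z * s := by
    rintro _ ⟨z, hz, rfl⟩ s hs
    have := Subgroup.mem_center_iff.mp hz ⟨s, hs⟩
    exact congrArg Subtype.val this
  have hZab : ∀ a ∈ (Subgroup.center (S : Subgroup H)).map (S : Subgroup H).subtype,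
      ∀ b ∈ (Subgroup.center (S : Subgroup H)).map (S : Subgroup H).subtype, a * b = b * a :=
    fun a ha b hb => hZcent b hb a (hZS ha)
  have hc := Cfsg.Agent.Lib.Helper9.central_mod_core_of_cyclic_weakly_closed S _ hZS hZcent hwc K
    hKidx hK
  exact Cfsg.Agent.Lib.Helper9.factor_of_central_mod_core S _ hZS hZab hc h

end Cfsg.Agent.S1215
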