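import Cfsg.Statements.S2360
import Cfsg.Agent.Lib.Helper6.SUGen3
import Cfsg.Agent.Lib.Helper6.UnitaryCount
import Cfsg.Agent.S0278
import Cfsg.Agent.Lib.Helper14.InvolDiag
import Cfsg.Agent.Lib.Helper14.SL2Odd
import Cfsg.Agent.Lib.Helper14.SL2Unip
import Cfsg.Agent.Lib.Helper14.NilCount

set_option autoImplicit false
open Cfsg

namespace Cfsg.Agent.S2360

open Module Cfsg.Agent.Lib.Helper6 Cfsg.Agent.Lib.Helper6.SUG Cfsg.Agent.S0779

section invol

variable {K V : Type*} [Field K] [AddCommGroup V] [Module K V]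

theorem apply_apply_of_sq {L : V →ₗ[K] V} (hL : L * L = 1) (v : V) : L (L v) = v := by
  have := LinearMap.congr_fun hL v
  rwa [Module.End.mul_apply, Module.End.one_apply] at this

variable [FiniteDimensional K V]

/-- The determinant of an involution. -/
theorem det_involution (L : V →ₗ[K] V) (hL : L * L = 1) :
    LinearMap.det L = (-1) ^ finrank K (LinearMap.ker (L + 1)) := by
  set W := LinearMap.ker (L + 1) with hW
  have hmem : ∀ v, v ∈ W ↔ L v = -v := by
    intro v
    rw [hW, LinearMap.mem_ker, LinearMap.add_apply, Module.End.one_apply, add_eq_zero_iff_eq_neg]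
  have he : W ≤ W.comap L := by
    intro v hv
    rw [Submodule.mem_comap, hmem]
    rw [hmem] at hv
    rw [hv, map_neg, hv]
  rw [LinearMap.det_eq_det_mul_det W L he]
  have h1 : L.restrict he = (-1 : K) • (1 : Module.End K W) := by
    ext v
    rw [LinearMap.coe_restrict_apply, LinearMap.smul_apply, Module.End.one_apply]
    simp only [neg_smul, one_smul, Submodule.coe_neg]
    exact (hmem v).mp v.2
  have h2 : W.mapQ W L he = 1 := by
    apply LinearMap.ext
    intro y
    induction y using Submodule.Quotient.induction_on with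
    | H v =>
      rw [Submodule.mapQ_apply, Module.End.one_apply, Submodule.Quotient.eq, hmem, map_sub,
        apply_apply_of_sq hL]
      abel
  rw [h1, h2, LinearMap.det_smul, map_one, map_one, mul_one, mul_one]

theorem isCompl_involution (h2 : (2 : K) ≠ 0) (L : V →ₗ[K] V) (hL : L * L = 1) :
    IsCompl (LinearMap.ker (L - 1)) (LinearMap.ker (L + 1)) := by
  constructor
  · rw [Submodule.disjoint_def]
    intro v hv1 hv2
    rw [LinearMap.mem_ker, LinearMap.sub_apply, Module.End.one_apply, sub_eq_zero] at hv1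
    rw [LinearMap.mem_ker, LinearMap.add_apply, Module.End.one_apply, hv1] at hv2
    have h3 : (2 : K) • v = 0 := by rw [two_smul]; exact hv2
    exact (smul_eq_zero.mp h3).resolve_left h2
  · rw [codisjoint_iff, eq_top_iff]
    intro v _
    have h3 : v = (2 : K)⁻¹ • (v + L v) + (2 : K)⁻¹ • (v - L v) := by
      rw [← smul_add, add_add_sub_cancel, ← two_smul K v, smul_smul, inv_mul_cancel₀ h2, one_smul]
    rw [h3]
    apply Submodule.add_mem_sup
    · apply Submodule.smul_mem
      rw [LinearMap.mem_ker, LinearMap.sub_apply, Module.End.one_apply, map_add,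
        apply_apply_of_sq hL]
      abel
    · apply Submodule.smul_mem
      rw [LinearMap.mem_ker, LinearMap.add_apply, Module.End.one_apply, map_sub,
        apply_apply_of_sq hL]
      abel

/-- An involution of determinant one on a three-dimensional space, other than the identity,
has a one-dimensional fixed space. -/
theorem finrank_fixed_of_involution (h2 : (2 : K) ≠ 0) (hV : finrank K V = 3) (L : V →ₗ[K] V)
    (hL : L * L = 1) (hdet : LinearMap.det L = 1) (hne : L ≠ 1) :
    finrank K (LinearMap.ker (L - 1)) = 1 := by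
  have hc := isCompl_involution h2 L hL
  have hsum := Submodule.finrank_add_eq_of_isCompl hc
  rw [hV] at hsum
  have hd := det_involution L hL
  rw [hdet] at hd
  have hne1 : (1 : K) ≠ -1 := by
    intro h
    apply h2
    have : (1 : K) + 1 = 0 := by nth_rewrite 2 [h]; simp
    rw [← this]; norm_num
  have hm0 : finrank K (LinearMap.ker (L + 1)) ≠ 0 := by
    intro h0
    apply hne
    have hbot : LinearMap.ker (L + 1) = ⊥ := Submodule.finrank_eq_zero.mp h0
    have htop : LinearMap.ker (L - 1) = ⊤ := by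
      have := hc.sup_eq_top
      rwa [hbot, sup_bot_eq] at this
    rw [LinearMap.ker_eq_top, sub_eq_zero] at htop
    exact htop
  have hodd : ¬ Odd (finrank K (LinearMap.ker (L + 1))) := by
    intro ho
    rw [ho.neg_one_pow] at hd
    exact hne1 hd
  rw [Nat.not_odd_iff_even] at hodd
  obtain ⟨r, hr⟩ := hodd
  omega

end invol

section su3

variable {F : Type*} [Field F] [Fintype F] {q : ℕ}

theorem two_ne_zero_F (hq : Odd q) (hF : Fintype.card F = q ^ 2) : (2 : F) ≠ 0 :=
  Cfsg.Agent.Lib.Helper14.two_ne_zero_of_odd (by rw [hF]; exact hq.pow)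

theorem herm_neg_left {n : ℕ} (u v : Fin n → F) :
    hermForm n F q (-u) v = -hermForm n F q u v := by
  rw [← neg_one_smul F u, herm_smul_left, neg_one_mul]

theorem herm_neg_right {n : ℕ} (hq : Odd q) (u v : Fin n → F) :
    hermForm n F q u (-v) = -hermForm n F q u v := by
  rw [← neg_one_smul F v, herm_smul_right, hq.neg_one_pow, neg_one_mul]

/-- Eigenvectors of an isometry for the eigenvalues `1` and `-1` are orthogonal. -/
theorem ortho_of_eigen {n : ℕ} (hq : Odd q) (hF : Fintype.card F = q ^ 2) (x : ↥(Cfsg.SU n F q))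
    (u v : Fin n → F) (hu : av x u = u) (hv : av x v = -v) :
    hermForm n F q u v = 0 ∧ hermForm n F q v u = 0 := by
  have h2 := two_ne_zero_F hq hF
  constructor
  · have h1 := herm_av x u v
    rw [hu, hv, herm_neg_right hq] at h1
    have h3 : (2 : F) * hermForm n F q u v = 0 := by
      rw [two_mul]
      nth_rewrite 1 [← h1]
      exact neg_add_cancel _
    exact (mul_eq_zero.mp h3).resolve_left h2
  · have h1 := herm_av x v u
    rw [hu, hv, herm_neg_left] at h1
    have h3 : (2 : F) * hermForm n F q v u = 0 := by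
      rw [two_mul]
      nth_rewrite 1 [← h1]
      exact neg_add_cancel _
    exact (mul_eq_zero.mp h3).resolve_left h2

/-- The structure of an involution of `SU_3`. -/
theorem invol_struct (hq : Odd q) (hF : Fintype.card F = q ^ 2) (x : ↥(Cfsg.SU 3 F q))
    (hx1 : x ≠ 1) (hx2 : x * x = 1) :
    ∃ w : Fin 3 → F, hermForm 3 F q w w = 1 ∧ av x w = w ∧
      (∀ v, av x v = v → ∃ c : F, v = c • w) ∧
      (∀ v, hermForm 3 F q v w = 0 → av x v = -v) := by
  have h2 := two_ne_zero_F hq hF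
  set L : (Fin 3 → F) →ₗ[F] (Fin 3 → F) :=
    Matrix.toLin' ((x : Matrix.SpecialLinearGroup (Fin 3) F) : Matrix (Fin 3) (Fin 3) F) with hLdef
  have hLav : ∀ v, L v = av x v := fun v => rfl
  have hL : L * L = 1 := by
    apply LinearMap.ext
    intro v
    rw [Module.End.mul_apply, Module.End.one_apply, hLav, hLav, ← av_mul, hx2, av_one]
  have hdet : LinearMap.det L = 1 := by
    rw [hLdef, LinearMap.det_toLin']
    exact (x : Matrix.SpecialLinearGroup (Fin 3) F).2
  have hne : L ≠ 1 := by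
    intro h
    apply hx1
    apply ext_av
    intro v
    rw [← hLav, h, Module.End.one_apply, av_one]
  have hfix := finrank_fixed_of_involution h2 (Module.finrank_fin_fun F) L hL hdet hne
  have hc := isCompl_involution h2 L hL
  have hmemP : ∀ v, v ∈ LinearMap.ker (L - 1) ↔ av x v = v := by
    intro v
    rw [LinearMap.mem_ker, LinearMap.sub_apply, Module.End.one_apply, sub_eq_zero, hLav]
  have hmemM : ∀ v, v ∈ LinearMap.ker (L + 1) ↔ av x v = -v := by
    intro v
    rw [LinearMap.mem_ker, LinearMap.add_apply, Module.End.one_apply, add_eq_zero_iff_eq_neg,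
      hLav]
  obtain ⟨⟨w₁, hw₁mem⟩, hw₁0, hw₁span⟩ := finrank_eq_one_iff'.mp hfix
  have hw₁ : av x w₁ = w₁ := (hmemP w₁).mp hw₁mem
  have hw₁ne : w₁ ≠ 0 := fun h => hw₁0 (Subtype.ext h)
  have hgen : ∀ v, av x v = v → ∃ c : F, v = c • w₁ := by
    intro v hv
    obtain ⟨c, hc'⟩ := hw₁span ⟨v, (hmemP v).mpr hv⟩
    exact ⟨c, (congrArg Subtype.val hc').symm⟩
  have hdecomp : ∀ v : Fin 3 → F, ∃ a : F, ∃ vm, av x vm = -vm ∧ v = a • w₁ + vm := by
    intro v
    have hv : v ∈ LinearMap.ker (L - 1) ⊔ LinearMap.ker (L + 1) := by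
      rw [hc.sup_eq_top]
      exact Submodule.mem_top
    obtain ⟨vp, hvp, vm, hvm, rfl⟩ := Submodule.mem_sup.mp hv
    obtain ⟨a, ha⟩ := hgen vp ((hmemP vp).mp hvp)
    exact ⟨a, vm, (hmemM vm).mp hvm, by rw [ha]⟩
  set m := hermForm 3 F q w₁ w₁ with hm
  have hm0 : m ≠ 0 := by
    intro h0
    apply hw₁ne
    apply herm_nondeg hF
    intro y
    obtain ⟨a, vm, hvm, rfl⟩ := hdecomp y
    rw [herm_add_right hF, herm_smul_right, ← hm, h0, mul_zero, zero_add]
    exact (ortho_of_eigen hq hF x w₁ vm hw₁ hvm).1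
  have hmq : m ^ q = m := herm_self_fixed hF w₁
  obtain ⟨μ, hμ⟩ := exists_norm (conjQ hF) (conjQ_ne_id hF) (conjQ_conjQ hF) m⁻¹
    (inv_ne_zero hm0) (by rw [conjQ_apply, inv_pow, hmq])
  rw [conjQ_apply] at hμ
  have hμ0 : μ ≠ 0 := by
    rintro rfl
    rw [zero_mul] at hμ
    exact inv_ne_zero hm0 hμ.symm
  refine ⟨μ • w₁, ?_, ?_, ?_, ?_⟩
  · rw [herm_smul_left, herm_smul_right, ← hm, ← mul_assoc, hμ, inv_mul_cancel₀ hm0]
  · rw [av_smul, hw₁]
  · intro v hv
    obtain ⟨c, rfl⟩ := hgen v hv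
    refine ⟨c * μ⁻¹, ?_⟩
    rw [smul_smul, mul_assoc, inv_mul_cancel₀ hμ0, mul_one]
  · intro v hv
    obtain ⟨a, vm, hvm, rfl⟩ := hdecomp v
    have h1 : hermForm 3 F q vm (μ • w₁) = 0 := by
      rw [herm_smul_right, (ortho_of_eigen hq hF x w₁ vm hw₁ hvm).2, mul_zero]
    rw [herm_add_left, h1, add_zero, herm_smul_left, herm_smul_right, ← hm] at hv
    have ha : a = 0 := by
      rcases mul_eq_zero.mp hv with h | h
      · exact h
      · rcases mul_eq_zero.mp h with h | h
        · exact absurd (pow_eq_zero_iff (q_pos hF).ne' |>.mp h) hμ0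
        · exact absurd h hm0
    rw [ha, zero_smul, zero_add]
    exact hvm

/-- An involution is determined by a fixed vector of norm one. -/
theorem invol_formula (hq : Odd q) (hF : Fintype.card F = q ^ 2) (x : ↥(Cfsg.SU 3 F q))
    (hx1 : x ≠ 1) (hx2 : x * x = 1) (w : Fin 3 → F) (hww : hermForm 3 F q w w = 1)
    (hxw : av x w = w) (v : Fin 3 → F) :
    av x v = (2 * hermForm 3 F q v w) • w - v := by
  obtain ⟨w₀, hw₀, hxw₀, hgen, hperp⟩ := invol_struct hq hF x hx1 hx2
  obtain ⟨c, rfl⟩ := hgen w hxw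
  have hc : c * c ^ q = 1 := by
    rw [herm_smul_left, herm_smul_right, hw₀, mul_one] at hww
    exact hww
  set a := hermForm 3 F q v (c • w₀) with ha
  have ha' : a = c ^ q * hermForm 3 F q v w₀ := by rw [ha, herm_smul_right]
  have h1 : hermForm 3 F q (v - a • (c • w₀)) w₀ = 0 := by
    rw [herm_sub_left', herm_smul_left, herm_smul_left, hw₀, mul_one, ha']
    have : c ^ q * hermForm 3 F q v w₀ * c = (c * c ^ q) * hermForm 3 F q v w₀ := by ring
    rw [this, hc, one_mul, sub_self]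
  have h2 := hperp _ h1
  have h3 : v = (v - a • (c • w₀)) + a • (c • w₀) := by abel
  have h4 : av x v = av x (v - a • (c • w₀)) + a • av x (c • w₀) := by
    nth_rewrite 1 [h3]
    rw [av_add, av_smul]
  rw [h4, h2, hxw, two_mul, add_smul]
  abel

theorem invol_unique (hq : Odd q) (hF : Fintype.card F = q ^ 2) (x x' : ↥(Cfsg.SU 3 F q))
    (hx1 : x ≠ 1) (hx2 : x * x = 1) (hx1' : x' ≠ 1) (hx2' : x' * x' = 1)
    (w : Fin 3 → F) (hww : hermForm 3 F q w w = 1)
    (hxw : av x w = w) (hxw' : av x' w = w) : x = x' := by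
  apply ext_av
  intro v
  rw [invol_formula hq hF x hx1 hx2 w hww hxw, invol_formula hq hF x' hx1' hx2' w hww hxw']

theorem q_ne_two (hq : Odd q) : ¬ (3 = 3 ∧ q = 2) := by
  rintro ⟨-, rfl⟩
  exact absurd hq (by decide)

/-- Transport of an involution to a prescribed fixed vector of norm one. -/
theorem exists_invol_fixing (hq : Odd q) (hF : Fintype.card F = q ^ 2) (t : ↥(Cfsg.SU 3 F q))
    (ht : t ≠ 1) (ht2 : t * t = 1) (w : Fin 3 → F) (hww : hermForm 3 F q w w = 1) :
    ∃ g : ↥(Cfsg.SU 3 F q), av (g * t * g⁻¹) w = w := by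
  obtain ⟨w₀, hw₀, htw₀, -, -⟩ := invol_struct hq hF t ht ht2
  obtain ⟨g, -, hg⟩ := rel_norm_one hF (by norm_num) (q_ne_two hq) w₀ w hw₀ hww
  refine ⟨g, ?_⟩
  rw [av_mul, av_mul, ← hg, av_inv_av, htw₀]

theorem conj_ne_one {G : Type*} [Group G] {t : G} (ht : t ≠ 1) (g : G) : g * t * g⁻¹ ≠ 1 := by
  intro h
  apply ht
  have : t = g⁻¹ * (g * t * g⁻¹) * g := by group
  rw [this, h]
  group

theorem conj_sq {G : Type*} [Group G] {t : G} (ht : t * t = 1) (g : G) :
    g * t * g⁻¹ * (g * t * g⁻¹) = 1 := by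
  have : g * t * g⁻¹ * (g * t * g⁻¹) = g * (t * t) * g⁻¹ := by group
  rw [this, ht]
  group

/-- All involutions are conjugate. -/
theorem invol_conj (hq : Odd q) (hF : Fintype.card F = q ^ 2) (t x : ↥(Cfsg.SU 3 F q))
    (ht : t ≠ 1) (ht2 : t * t = 1) (hx1 : x ≠ 1) (hx2 : x * x = 1) :
    ∃ g : ↥(Cfsg.SU 3 F q), g * t * g⁻¹ = x := by
  obtain ⟨w, hww, hxw, -, -⟩ := invol_struct hq hF x hx1 hx2
  obtain ⟨g, hg⟩ := exists_invol_fixing hq hF t ht ht2 w hww
  exact ⟨g, invol_unique hq hF _ _ (conj_ne_one ht g) (conj_sq ht2 g) hx1 hx2 w hww hg hxw⟩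

/-- The fixed vectors of norm one of an involution. -/
theorem card_fixed_norm_one (hq : Odd q) (hF : Fintype.card F = q ^ 2) (x : ↥(Cfsg.SU 3 F q))
    (hx1 : x ≠ 1) (hx2 : x * x = 1) :
    Nat.card {w : {w : Fin 3 → F // hermForm 3 F q w w = 1} // av x w.1 = w.1} = q + 1 := by
  obtain ⟨w₀, hw₀, hxw₀, hgen, -⟩ := invol_struct hq hF x hx1 hx2
  rw [← card_norm_fiber hF (1 : F) one_ne_zero (one_pow q)]
  refine Nat.card_congr
    ⟨fun w => ⟨hermForm 3 F q w.1.1 w₀, ?_⟩,
      fun c => ⟨⟨c.1 • w₀, ?_⟩, ?_⟩, ?_, ?_⟩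
  · obtain ⟨c, hc⟩ := hgen w.1.1 w.2
    have h1 := w.1.2
    rw [hc, herm_smul_left, herm_smul_right, hw₀, mul_one] at h1
    rw [hc, herm_smul_left, hw₀, mul_one, pow_succ, mul_comm]
    exact h1
  · rw [herm_smul_left, herm_smul_right, hw₀, mul_one, mul_comm, ← pow_succ]
    exact c.2
  · show av x (c.1 • w₀) = c.1 • w₀
    rw [av_smul, hxw₀]
  · intro w
    apply Subtype.ext
    apply Subtype.ext
    obtain ⟨c, hc⟩ := hgen w.1.1 w.2
    show hermForm 3 F q w.1.1 w₀ • w₀ = w.1.1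
    rw [hc, herm_smul_left, hw₀, mul_one]
  · intro c
    apply Subtype.ext
    show hermForm 3 F q (c.1 • w₀) w₀ = c.1
    rw [herm_smul_left, hw₀, mul_one]

/-- A commuting involution other than `t` negates the fixed vector of `t`. -/
theorem comm_neg (hq : Odd q) (hF : Fintype.card F = q ^ 2) (t y : ↥(Cfsg.SU 3 F q))
    (ht : t ≠ 1) (ht2 : t * t = 1) (hy1 : y ≠ 1) (hy2 : y * y = 1) (hty : Commute t y)
    (hne : y ≠ t) (w : Fin 3 → F) (hww : hermForm 3 F q w w = 1) (htw : av t w = w) :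
    av y w = -w := by
  obtain ⟨w₀, hw₀, htw₀, hgen, -⟩ := invol_struct hq hF t ht ht2
  obtain ⟨a, rfl⟩ := hgen w htw
  have ha0 : a ≠ 0 := by
    rintro rfl
    rw [zero_smul, herm_zero_left] at hww
    exact zero_ne_one hww
  have h1 : av t (av y w₀) = av y w₀ := by
    rw [← av_mul, hty.eq, av_mul, htw₀]
  obtain ⟨c, hc⟩ := hgen _ h1
  have h2 : av y (av y w₀) = w₀ := by rw [← av_mul, hy2, av_one]
  have hw₀ne : w₀ ≠ 0 := by
    rintro rfl
    rw [herm_zero_left] at hw₀
    exact zero_ne_one hw₀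
  have hcc : c * c = 1 := by
    rw [hc, av_smul, hc, smul_smul] at h2
    have h3 : (c * c - 1) • w₀ = 0 := by rw [sub_smul, h2, one_smul, sub_self]
    have := (smul_eq_zero.mp h3).resolve_right hw₀ne
    exact sub_eq_zero.mp this
  have hc1 : c = 1 ∨ c = -1 := mul_self_eq_one_iff.mp hcc
  rcases hc1 with rfl | rfl
  · exfalso
    apply hne
    rw [one_smul] at hc
    exact invol_unique hq hF y t hy1 hy2 ht ht2 w₀ hw₀ hc htw₀
  · rw [av_smul, hc, neg_one_smul, smul_neg]

/-- The third involution commuting with two commuting involutions is their product. -/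
theorem third_eq_mul (hq : Odd q) (hF : Fintype.card F = q ^ 2) (t x y : ↥(Cfsg.SU 3 F q))
    (ht : t ≠ 1) (ht2 : t * t = 1) (hx1 : x ≠ 1) (hx2 : x * x = 1) (hxt : x ≠ t)
    (htx : Commute t x) (hy1 : y ≠ 1) (hy2 : y * y = 1) (hyt : y ≠ t) (hyx : y ≠ x)
    (hty : Commute t y) (hxy : Commute x y) : y = t * x := by
  obtain ⟨wt, hwt, htwt, -, htperp⟩ := invol_struct hq hF t ht ht2
  obtain ⟨wx, hwx, hxwx, -, hxperp⟩ := invol_struct hq hF x hx1 hx2
  obtain ⟨wy, hwy, hywy, -, -⟩ := invol_struct hq hF y hy1 hy2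
  have h1 := comm_neg hq hF t y ht ht2 hy1 hy2 hty hyt wt hwt htwt
  have h2 := comm_neg hq hF x y hx1 hx2 hy1 hy2 hxy hyx wx hwx hxwx
  have h3 := (ortho_of_eigen hq hF y wy wt hywy h1).1
  have h4 := (ortho_of_eigen hq hF y wy wx hywy h2).1
  have h5 := htperp wy h3
  have h6 := hxperp wy h4
  have htx1 : t * x ≠ 1 := by
    intro h
    apply hxt
    have : x = t⁻¹ := eq_inv_of_mul_eq_one_right h
    rw [this]
    exact inv_eq_of_mul_eq_one_left ht2
  have htx2 : t * x * (t * x) = 1 := by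
    have : t * x * (t * x) = t * (x * t) * x := by group
    rw [this, ← htx.eq]
    have : t * (t * x) * x = (t * t) * (x * x) := by group
    rw [this, ht2, hx2, one_mul]
  apply invol_unique hq hF y (t * x) hy1 hy2 htx1 htx2 wy hwy hywy
  rw [av_mul, h6, ← neg_one_smul F wy, av_smul, h5, neg_one_smul, neg_neg]

theorem finite_SU3 : Finite ↥(Cfsg.SU 3 F q) := by
  have : Finite (Matrix.SpecialLinearGroup (Fin 3) F) :=
    Finite.of_injective (fun g => (g : Matrix (Fin 3) (Fin 3) F)) Subtype.val_injective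
  infer_instance

/-- The number of vectors of norm one in the unitary 3-space. -/
theorem card_norm_one (hF : Fintype.card F = q ^ 2) :
    Nat.card {w : Fin 3 → F // hermForm 3 F q w w = 1} = q ^ 5 + q ^ 2 := by
  obtain ⟨z, s, -, hs, -, -, hqs⟩ := normCount_formula hF 3
  have h1 := hs 1 one_ne_zero (one_pow q)
  unfold normCount at h1
  have hq0 : (q : ℤ) ≠ 0 := by
    have := q_pos hF
    exact_mod_cast this.ne'
  have h2 : (q : ℤ) * s = (q : ℤ) * ((q : ℤ) ^ 5 + (q : ℤ) ^ 2) := by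
    rw [hqs]
    ring
  have h3 := mul_left_cancel₀ hq0 h2
  rw [h3] at h1
  exact_mod_cast h1

/-- The number of involutions, times `q + 1`. -/
theorem card_invol_mul (hq : Odd q) (hF : Fintype.card F = q ^ 2) (t : ↥(Cfsg.SU 3 F q))
    (ht : t ≠ 1) (ht2 : t * t = 1) :
    Nat.card {x : ↥(Cfsg.SU 3 F q) // x ≠ 1 ∧ x * x = 1} * (q + 1) = q ^ 5 + q ^ 2 := by
  have hfin := finite_SU3 (F := F) (q := q)
  rw [← card_norm_one hF]
  symm
  have hex : ∀ w : {w : Fin 3 → F // hermForm 3 F q w w = 1},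
      ∃ g : ↥(Cfsg.SU 3 F q), av (g * t * g⁻¹) w.1 = w.1 :=
    fun w => exists_invol_fixing hq hF t ht ht2 w.1 w.2
  choose g hg using hex
  apply Cfsg.Agent.Lib.Helper14.card_eq_mul_of_fibers
    (fun w : {w : Fin 3 → F // hermForm 3 F q w w = 1} =>
      (⟨g w * t * (g w)⁻¹, conj_ne_one ht (g w), conj_sq ht2 (g w)⟩ :
        {x : ↥(Cfsg.SU 3 F q) // x ≠ 1 ∧ x * x = 1}))
  intro x
  rw [← card_fixed_norm_one hq hF x.1 x.2.1 x.2.2]
  apply Nat.card_congr
  apply Equiv.subtypeEquivRight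
  intro w
  constructor
  · intro h
    have h1 : g w * t * (g w)⁻¹ = x.1 := congrArg Subtype.val h
    rw [← h1]
    exact hg w
  · intro h
    apply Subtype.ext
    exact invol_unique hq hF _ _ (conj_ne_one ht (g w)) (conj_sq ht2 (g w)) x.2.1 x.2.2
      w.1 w.2 (hg w) h

theorem card_invol (hq : Odd q) (hF : Fintype.card F = q ^ 2) (t : ↥(Cfsg.SU 3 F q))
    (ht : t ≠ 1) (ht2 : t * t = 1) :
    Nat.card {x : ↥(Cfsg.SU 3 F q) // x ≠ 1 ∧ x * x = 1} = q ^ 2 * (q ^ 2 - q + 1) := by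
  have h := card_invol_mul hq hF t ht ht2
  have hqq : q ≤ q ^ 2 := Nat.le_self_pow two_ne_zero q
  have h2 : (q ^ 2 * (q ^ 2 - q + 1)) * (q + 1) = q ^ 5 + q ^ 2 := by
    zify [hqq]
    ring
  exact Nat.eq_of_mul_eq_mul_right (by omega) (h.trans h2.symm)

theorem card_SU3 (hF : Fintype.card F = q ^ 2) :
    Nat.card ↥(Cfsg.SU 3 F q) = q ^ 3 * ((q ^ 2 - 1) * (q ^ 3 + 1)) := by
  have h := Cfsg.Agent.S0278.result hF 3 (by norm_num)
  have hprod : ∏ i ∈ Finset.range 3, (if Even i then q ^ (i + 1) + 1 else q ^ (i + 1) - 1) =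
      (q + 1) * ((q ^ 2 - 1) * (q ^ 3 + 1)) := by
    rw [Finset.prod_range_succ, Finset.prod_range_succ, Finset.prod_range_one]
    simp
    ring
  rw [hprod] at h
  have h2 : (q + 1) * Nat.card ↥(Cfsg.SU 3 F q) =
      (q + 1) * (q ^ 3 * ((q ^ 2 - 1) * (q ^ 3 + 1))) := by
    rw [h]
    norm_num
    ring
  exact Nat.eq_of_mul_eq_mul_left (by omega) h2

end su3

/-- Let q be odd, F the field with q² elements and S = SU_3(F) (determinant-one isometries of the standard Hermitian form). Then all involutions of S are conjugate; there are exactly q²(q²−q+1) of them; the centralizer of an involution has order q(q+1)(q²−1), the order of the full unitary group of degree 2; and for two distinct commuting involutions t and x there is exactly one further involution commuting with both. -/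
theorem result {F : Type*} [Field F] [Fintype F] {q : ℕ} (hq : Odd q)
    (hF : Fintype.card F = q ^ 2) (t : ↥(Cfsg.SU 3 F q)) (ht : t ≠ 1) (ht2 : t * t = 1) :
    (∀ x : ↥(Cfsg.SU 3 F q), x ≠ 1 → x * x = 1 → ∃ g : ↥(Cfsg.SU 3 F q), g * t * g⁻¹ = x) ∧
    Nat.card {x : ↥(Cfsg.SU 3 F q) // x ≠ 1 ∧ x * x = 1} = q ^ 2 * (q ^ 2 - q + 1) ∧
    Nat.card ↥(Subgroup.centralizer ({t} : Set ↥(Cfsg.SU 3 F q))) = q * (q + 1) * (q ^ 2 - 1) ∧
    ∀ x : ↥(Cfsg.SU 3 F q), x ≠ 1 → x * x = 1 → x ≠ t → Commute t x →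
      Nat.card {y : ↥(Cfsg.SU 3 F q) // y ≠ 1 ∧ y * y = 1 ∧ y ≠ t ∧ y ≠ x ∧ Commute t y ∧ Commute x y} = 1 := by
  have hfin := finite_SU3 (F := F) (q := q)
  refine ⟨fun x hx1 hx2 => invol_conj hq hF t x ht ht2 hx1 hx2, card_invol hq hF t ht ht2, ?_, ?_⟩
  · -- the centralizer
    have h1 := Cfsg.Agent.Lib.Helper14.card_class_mul_card_centralizer t
    have h2 : Nat.card (ConjClasses.mk t).carrier =
        Nat.card {x : ↥(Cfsg.SU 3 F q) // x ≠ 1 ∧ x * x = 1} := by
      apply Nat.card_congr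
      apply Equiv.subtypeEquivRight
      intro x
      rw [ConjClasses.mem_carrier_iff_mk_eq, ConjClasses.mk_eq_mk_iff_isConj, isConj_comm,
        isConj_iff]
      constructor
      · rintro ⟨g, rfl⟩
        exact ⟨conj_ne_one ht g, conj_sq ht2 g⟩
      · rintro ⟨hx1, hx2⟩
        exact invol_conj hq hF t x ht ht2 hx1 hx2
    rw [h2, card_invol hq hF t ht ht2, card_SU3 hF] at h1
    have hqq : q ≤ q ^ 2 := Nat.le_self_pow two_ne_zero q
    have hq0 : 0 < q := q_pos hF
    have hq1 : 1 ≤ q ^ 2 := Nat.one_le_pow _ _ hq0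
    have h3 : q ^ 3 * ((q ^ 2 - 1) * (q ^ 3 + 1)) =
        q ^ 2 * (q ^ 2 - q + 1) * (q * (q + 1) * (q ^ 2 - 1)) := by
      zify [hqq, hq1]
      ring
    rw [h3] at h1
    have hpos : 0 < q ^ 2 * (q ^ 2 - q + 1) := by positivity
    exact Nat.eq_of_mul_eq_mul_left hpos h1
  · intro x hx1 hx2 hxt htx
    have htx1 : t * x ≠ 1 := by
      intro h
      apply hxt
      have : x = t⁻¹ := eq_inv_of_mul_eq_one_right h
      rw [this]
      exact inv_eq_of_mul_eq_one_left ht2
    have htx2 : t * x * (t * x) = 1 := by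
      have : t * x * (t * x) = t * (x * t) * x := by group
      rw [this, ← htx.eq]
      have : t * (t * x) * x = (t * t) * (x * x) := by group
      rw [this, ht2, hx2, one_mul]
    rw [Nat.card_eq_one_iff_unique]
    refine ⟨⟨fun a b => ?_⟩, ⟨⟨t * x, htx1, htx2, ?_, ?_, ?_, ?_⟩⟩⟩
    · apply Subtype.ext
      rw [third_eq_mul hq hF t x a.1 ht ht2 hx1 hx2 hxt htx a.2.1 a.2.2.1 a.2.2.2.1
          a.2.2.2.2.1 a.2.2.2.2.2.1 a.2.2.2.2.2.2,
        third_eq_mul hq hF t x b.1 ht ht2 hx1 hx2 hxt htx b.2.1 b.2.2.1 b.2.2.2.1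
          b.2.2.2.2.1 b.2.2.2.2.2.1 b.2.2.2.2.2.2]
    · intro h
      apply hx1
      have : t * x = t * 1 := by rw [mul_one]; exact h
      exact mul_left_cancel this
    · intro h
      apply ht
      have : t * x = 1 * x := by rw [one_mul]; exact h
      exact mul_right_cancel this
    · show t * (t * x) = t * x * t
      rw [mul_assoc, htx.eq]
    · show x * (t * x) = t * x * x
      rw [← mul_assoc, ← htx.eq]

end Cfsg.Agent.S2360
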