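import Cfsg.Statements.S1219
import Cfsg.Agent.S2360

set_option autoImplicit false
open Cfsg

namespace Cfsg.Agent.S1219

open Matrix Module

variable {F : Type*} [Field F]

/-- The diagonal matrix `diag(-1,-1,1)`. -/
def dmat (F : Type*) [Field F] : Matrix (Fin 3) (Fin 3) F := Matrix.diagonal ![-1, -1, 1]

/-- An involution of determinant one, other than the identity, is conjugate to `diag(-1,-1,1)`. -/
theorem exists_diag (h2 : (2 : F) ≠ 0) (M : Matrix (Fin 3) (Fin 3) F) (hM : M * M = 1)
    (hdet : M.det = 1) (hne : M ≠ 1) :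
    ∃ P : Matrix (Fin 3) (Fin 3) F, IsUnit P ∧ M * P = P * dmat F := by
  set L := Matrix.toLin' M with hLdef
  have hL : L * L = 1 := by
    rw [hLdef, Module.End.mul_eq_comp, ← Matrix.toLin'_mul, hM, Matrix.toLin'_one]
    rfl
  have hLdet : LinearMap.det L = 1 := by rw [hLdef, LinearMap.det_toLin', hdet]
  have hLne : L ≠ 1 := by
    intro h
    apply hne
    apply Matrix.toLin'.injective
    rw [← hLdef, h, Matrix.toLin'_one]
    rfl
  have hV : finrank F (Fin 3 → F) = 3 := by simp
  have h1 := Cfsg.Agent.S2360.finrank_fixed_of_involution h2 hV L hL hLdet hLne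
  have hc := Cfsg.Agent.S2360.isCompl_involution h2 L hL
  have hsum := Submodule.finrank_add_eq_of_isCompl hc
  have h2' : finrank F (LinearMap.ker (L + 1)) = 2 := by omega
  let bm := Module.finBasisOfFinrankEq F (LinearMap.ker (L + 1)) h2'
  let bp := Module.finBasisOfFinrankEq F (LinearMap.ker (L - 1)) h1
  have hm : ∀ v : LinearMap.ker (L + 1), L v.1 = -v.1 := by
    intro v
    have := v.2
    rw [LinearMap.mem_ker, LinearMap.add_apply, Module.End.one_apply] at this
    exact eq_neg_of_add_eq_zero_left this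
  have hp : ∀ v : LinearMap.ker (L - 1), L v.1 = v.1 := by
    intro v
    have := v.2
    rw [LinearMap.mem_ker, LinearMap.sub_apply, Module.End.one_apply] at this
    exact sub_eq_zero.mp this
  set cols : Fin 3 → (Fin 3 → F) := ![(bm 0).1, (bm 1).1, (bp 0).1] with hcols
  refine ⟨Matrix.of (fun i j => cols j i), ?_, ?_⟩
  · rw [← Matrix.linearIndependent_cols_iff_isUnit]
    have hcol : (Matrix.of (fun i j => cols j i)).col = cols := by
      funext j i
      rfl
    rw [hcol, Fintype.linearIndependent_iff]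
    intro g hg
    rw [Fin.sum_univ_three] at hg
    simp only [hcols, Matrix.cons_val_zero, Matrix.cons_val_one, Matrix.cons_val_two,
      Matrix.head_cons, Matrix.tail_cons] at hg
    set u : LinearMap.ker (L + 1) := g 0 • bm 0 + g 1 • bm 1 with hu
    set w : LinearMap.ker (L - 1) := g 2 • bp 0 with hw
    have huw : u.1 + w.1 = 0 := by
      rw [hu, hw]
      simpa using hg
    have hu1 : u.1 ∈ LinearMap.ker (L - 1) := by
      have : u.1 = -w.1 := eq_neg_of_add_eq_zero_left huw
      rw [this]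
      exact Submodule.neg_mem _ w.2
    have hu0 : u.1 = 0 := by
      have := Submodule.disjoint_def.mp hc.disjoint u.1 hu1 u.2
      exact this
    have hw0 : w.1 = 0 := by rw [hu0, zero_add] at huw; exact huw
    have hu0' : u = 0 := Subtype.ext hu0
    have hw0' : w = 0 := Subtype.ext hw0
    have hgm := Fintype.linearIndependent_iff.mp bm.linearIndependent ![g 0, g 1] (by
      rw [Fin.sum_univ_two]
      exact hu0')
    have hgp := Fintype.linearIndependent_iff.mp bp.linearIndependent ![g 2] (by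
      rw [Fin.sum_univ_one]
      exact hw0')
    intro i
    fin_cases i
    · simpa using hgm 0
    · simpa using hgm 1
    · simpa using hgp 0
  · ext i j
    have h3 : (M * Matrix.of (fun i j => cols j i)) i j = (L (cols j)) i := by
      rw [hLdef, Matrix.toLin'_apply]
      rfl
    rw [h3, dmat, Matrix.mul_diagonal]
    have hc0 : cols 0 = (bm 0).1 := rfl
    have hc1 : cols 1 = (bm 1).1 := rfl
    have hc2 : cols 2 = (bp 0).1 := rfl
    fin_cases j
    · show L (cols 0) i = cols 0 i * (-1)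
      rw [hc0, hm]
      simp
    · show L (cols 1) i = cols 1 i * (-1)
      rw [hc1, hm]
      simp
    · show L (cols 2) i = cols 2 i * 1
      rw [hc2, hp]
      simp

/-- The block matrix `diag(A, (det A)⁻¹)`. -/
def blk (A : GL (Fin 2) F) : Matrix (Fin 3) (Fin 3) F :=
  !![A.1 0 0, A.1 0 1, 0; A.1 1 0, A.1 1 1, 0; 0, 0, (A.1.det)⁻¹]

theorem det_ne_zero' (A : GL (Fin 2) F) : A.1.det ≠ 0 :=
  (Matrix.isUnits_det_units A).ne_zero

theorem blk_det (A : GL (Fin 2) F) : (blk A).det = 1 := by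
  have h := det_ne_zero' A
  rw [Matrix.det_fin_two] at h
  simp [blk, Matrix.det_fin_three, Matrix.det_fin_two]
  field_simp

theorem blk_one : blk (1 : GL (Fin 2) F) = 1 := by
  ext i j
  fin_cases i <;> fin_cases j <;> simp [blk]

theorem blk_mul (A B : GL (Fin 2) F) : blk (A * B) = blk A * blk B := by
  ext i j
  fin_cases i <;> fin_cases j <;>
    simp [blk, Matrix.mul_apply, Fin.sum_univ_three, Fin.sum_univ_two, mul_comm]

theorem blk_comm (A : GL (Fin 2) F) : blk A * dmat F = dmat F * blk A := by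
  ext i j
  rw [dmat, Matrix.mul_diagonal, Matrix.diagonal_mul]
  fin_cases i <;> fin_cases j <;> simp [blk]

theorem exists_blk (h2 : (2 : F) ≠ 0) (g : Matrix (Fin 3) (Fin 3) F) (hdet : g.det = 1)
    (hg : g * dmat F = dmat F * g) : ∃ A : GL (Fin 2) F, g = blk A := by
  have hz : ∀ x : F, x = -x → x = 0 := by
    intro x hx
    have h3 : (2 : F) * x = 0 := by
      rw [two_mul]
      nth_rewrite 2 [hx]
      exact add_neg_cancel x
    exact (mul_eq_zero.mp h3).resolve_left h2
  have he : ∀ i j, g i j * (![-1, -1, 1] : Fin 3 → F) j = (![-1, -1, 1] : Fin 3 → F) i * g i j := by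
    intro i j
    have := congrFun (congrFun hg i) j
    rwa [dmat, Matrix.mul_diagonal, Matrix.diagonal_mul] at this
  have h02 : g 0 2 = 0 := by
    apply hz
    have := he 0 2
    change g 0 2 * 1 = (-1) * g 0 2 at this
    linear_combination this
  have h12 : g 1 2 = 0 := by
    apply hz
    have := he 1 2
    change g 1 2 * 1 = (-1) * g 1 2 at this
    linear_combination this
  have h20 : g 2 0 = 0 := by
    apply hz
    have := he 2 0
    change g 2 0 * (-1) = 1 * g 2 0 at this
    linear_combination (-1 : F) * this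
  have h21 : g 2 1 = 0 := by
    apply hz
    have := he 2 1
    change g 2 1 * (-1) = 1 * g 2 1 at this
    linear_combination (-1 : F) * this
  set A₀ : Matrix (Fin 2) (Fin 2) F := !![g 0 0, g 0 1; g 1 0, g 1 1] with hA₀
  have hd : A₀.det * g 2 2 = 1 := by
    rw [← hdet, Matrix.det_fin_three, Matrix.det_fin_two, h02, h12, h20, h21, hA₀]
    simp
    ring
  have hd0 : A₀.det ≠ 0 := by
    intro h
    rw [h, zero_mul] at hd
    exact zero_ne_one hd
  refine ⟨Matrix.GeneralLinearGroup.mkOfDetNeZero A₀ hd0, ?_⟩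
  have h22 : g 2 2 = (A₀.det)⁻¹ := eq_inv_of_mul_eq_one_right hd
  ext i j
  fin_cases i <;> fin_cases j <;>
    simp [blk, Matrix.GeneralLinearGroup.mkOfDetNeZero, h02, h12, h20, h21, h22, hA₀]

section lift

variable [Fintype F]

theorem center_pow_three (c : Matrix.SpecialLinearGroup (Fin 3) F)
    (hc : c ∈ Subgroup.center (Matrix.SpecialLinearGroup (Fin 3) F)) : c ^ 3 = 1 := by
  obtain ⟨ω, hω3, hω⟩ := Matrix.SpecialLinearGroup.mem_center_iff.mp hc
  rw [Fintype.card_fin] at hω3
  apply Subtype.ext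
  rw [Matrix.SpecialLinearGroup.coe_pow, ← hω, ← map_pow, hω3, map_one]
  rfl

/-- An involution of `PSL₃` lifts to an involution of `SL₃`. -/
theorem exists_lift (t : Matrix.ProjectiveSpecialLinearGroup (Fin 3) F) (ht : orderOf t = 2) :
    ∃ T : Matrix.SpecialLinearGroup (Fin 3) F,
      (QuotientGroup.mk T : Matrix.ProjectiveSpecialLinearGroup (Fin 3) F) = t ∧ T * T = 1 ∧
        T ≠ 1 := by
  obtain ⟨T₀, rfl⟩ := QuotientGroup.mk_surjective t
  have ht2 : (QuotientGroup.mk T₀ : Matrix.ProjectiveSpecialLinearGroup (Fin 3) F) ^ 2 = 1 := by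
    rw [← ht]
    exact pow_orderOf_eq_one _
  have hc : T₀ ^ 2 ∈ Subgroup.center (Matrix.SpecialLinearGroup (Fin 3) F) := by
    rw [← QuotientGroup.eq_one_iff, QuotientGroup.mk_pow]
    exact ht2
  set c := T₀ ^ 2 with hcdef
  have hc3 := center_pow_three c hc
  have hcomm : ∀ g, g * c = c * g := fun g => (Subgroup.mem_center_iff.mp hc g)
  refine ⟨T₀ * c, ?_, ?_, ?_⟩
  · rw [QuotientGroup.mk_mul, (QuotientGroup.eq_one_iff c).mpr hc, mul_one]
  · calc T₀ * c * (T₀ * c) = T₀ * (c * T₀) * c := by group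
      _ = T₀ * (T₀ * c) * c := by rw [hcomm T₀]
      _ = T₀ ^ 2 * c * c := by rw [pow_two, mul_assoc T₀ T₀ c, mul_assoc]
      _ = c ^ 3 := by rw [← hcdef, pow_succ, pow_two]
      _ = 1 := hc3
  · intro h
    have h1 : (QuotientGroup.mk T₀ : Matrix.ProjectiveSpecialLinearGroup (Fin 3) F) = 1 := by
      have h2 : (QuotientGroup.mk (T₀ * c) : Matrix.ProjectiveSpecialLinearGroup (Fin 3) F) = 1 := by
        rw [h]
        rfl
      rwa [QuotientGroup.mk_mul, (QuotientGroup.eq_one_iff c).mpr hc, mul_one] at h2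
    rw [h1, orderOf_one] at ht
    norm_num at ht

/-- An element of `SL₃` commuting with the involution `T` modulo the centre commutes with it. -/
theorem commute_of_mk (T g : Matrix.SpecialLinearGroup (Fin 3) F) (hT : T * T = 1)
    (h : (QuotientGroup.mk T : Matrix.ProjectiveSpecialLinearGroup (Fin 3) F) * QuotientGroup.mk g =
      QuotientGroup.mk g * QuotientGroup.mk T) : g * T = T * g := by
  rw [← QuotientGroup.mk_mul, ← QuotientGroup.mk_mul, QuotientGroup.eq] at h
  set c := (T * g)⁻¹ * (g * T) with hcdef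
  have hc3 := center_pow_three c h
  have hcomm : ∀ x, x * c = c * x := fun x => (Subgroup.mem_center_iff.mp h x)
  have h1 : g * T = T * g * c := by rw [hcdef]; group
  have h2 : g * T * g⁻¹ = T * c := by
    rw [h1, mul_assoc T g c, hcomm g]
    group
  have h3 : c ^ 2 = 1 := by
    have h4 : (g * T * g⁻¹) * (g * T * g⁻¹) = 1 := by
      have : (g * T * g⁻¹) * (g * T * g⁻¹) = g * (T * T) * g⁻¹ := by group
      rw [this, hT]
      group
    rw [h2] at h4
    have h5 : T * c * (T * c) = (T * T) * c ^ 2 := by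
      calc T * c * (T * c) = T * (c * T) * c := by group
        _ = T * (T * c) * c := by rw [hcomm T]
        _ = (T * T) * c ^ 2 := by rw [pow_two]; simp only [mul_assoc]
    rw [h5, hT, one_mul] at h4
    exact h4
  have h6 : c = 1 := by
    calc c = c ^ 3 * (c ^ 2)⁻¹ := by group
      _ = 1 := by rw [hc3, h3]; group
  rw [h1, h6, mul_one]

end lift

section main

/-- The conjugated block embedding `GL₂ → SL₃`. -/
noncomputable def phi (P : Matrix (Fin 3) (Fin 3) F) (hP : IsUnit P) :
    GL (Fin 2) F →* Matrix.SpecialLinearGroup (Fin 3) F where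
  toFun A := ⟨P * blk A * P⁻¹, by rw [Matrix.det_conj hP, blk_det]⟩
  map_one' := by
    apply Subtype.ext
    show P * blk 1 * P⁻¹ = 1
    rw [blk_one, mul_one, Matrix.mul_nonsing_inv _ ((Matrix.isUnit_iff_isUnit_det _).mp hP)]
  map_mul' A B := by
    apply Subtype.ext
    show P * blk (A * B) * P⁻¹ = (P * blk A * P⁻¹) * (P * blk B * P⁻¹)
    have hPdet := (Matrix.isUnit_iff_isUnit_det _).mp hP
    rw [blk_mul]
    simp only [Matrix.mul_assoc]
    rw [Matrix.nonsing_inv_mul_cancel_left _ _ hPdet]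

theorem phi_coe (P : Matrix (Fin 3) (Fin 3) F) (hP : IsUnit P) (A : GL (Fin 2) F) :
    (phi P hP A).1 = P * blk A * P⁻¹ := rfl

theorem blk_eq_scalar_iff (A : GL (Fin 2) F) (ω : F) (hω : ω ^ 3 = 1) :
    blk A = Matrix.scalar (Fin 3) ω ↔ A.1 = Matrix.scalar (Fin 2) ω := by
  have hω0 : ω ≠ 0 := by
    rintro rfl
    simp at hω
  constructor
  · intro h
    ext i j
    fin_cases i <;> fin_cases j
    · have := congrFun (congrFun h 0) 0
      simpa [blk] using this
    · have := congrFun (congrFun h 0) 1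
      simpa [blk] using this
    · have := congrFun (congrFun h 1) 0
      simpa [blk] using this
    · have := congrFun (congrFun h 1) 1
      simpa [blk] using this
  · intro h
    have hd : A.1.det = ω ^ 2 := by
      rw [h]
      simp [pow_two]
    have hinv : (ω ^ 2)⁻¹ = ω := by
      rw [inv_eq_iff_eq_inv]
      apply eq_inv_of_mul_eq_one_left
      rw [← hω]
      ring
    ext i j
    fin_cases i <;> fin_cases j <;> simp [blk, h, hinv]

end main

/-- In PSL(3,q) with q odd, the centralizer of an involution is isomorphic to GL(2,q) modulo a central subgroup of order gcd(q−1,3). -/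
theorem result {F : Type*} [Field F] [Fintype F] (hF : Odd (Fintype.card F)) (t : Matrix.ProjectiveSpecialLinearGroup (Fin 3) F) (ht : orderOf t = 2) : ∃ (Z : Subgroup (GL (Fin 2) F)) (_ : Z.Normal), Z ≤ Subgroup.center (GL (Fin 2) F) ∧ Nat.card Z = Nat.gcd (Fintype.card F - 1) 3 ∧ Nonempty (↥(Subgroup.centralizer ({t} : Set (Matrix.ProjectiveSpecialLinearGroup (Fin 3) F))) ≃* GL (Fin 2) F ⧸ Z) := by
  classical
  have h2 : (2 : F) ≠ 0 := Cfsg.Agent.Lib.Helper14.two_ne_zero_of_odd hF
  obtain ⟨T, rfl, hT2, hT1⟩ := exists_lift t ht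
  have hM : T.1 * T.1 = 1 := by
    have := congrArg Subtype.val hT2
    simpa using this
  have hMne : T.1 ≠ 1 := fun h => hT1 (Subtype.ext h)
  obtain ⟨P, hP, hMP⟩ := exists_diag h2 T.1 hM T.2 hMne
  have hPdet := (Matrix.isUnit_iff_isUnit_det _).mp hP
  have hPP : P⁻¹ * P = 1 := Matrix.nonsing_inv_mul _ hPdet
  have hPP' : P * P⁻¹ = 1 := Matrix.mul_nonsing_inv _ hPdet
  have hTP : T.1 = P * dmat F * P⁻¹ := by rw [← hMP, Matrix.mul_assoc, hPP', mul_one]
  set ψ : GL (Fin 2) F →* Matrix.ProjectiveSpecialLinearGroup (Fin 3) F :=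
    (QuotientGroup.mk' (Subgroup.center (Matrix.SpecialLinearGroup (Fin 3) F))).comp (phi P hP)
    with hψ
  have hψA : ∀ A, ψ A = QuotientGroup.mk (phi P hP A) := fun A => rfl
  have hi : ∀ A, phi P hP A * T = T * phi P hP A := by
    intro A
    apply Subtype.ext
    show (P * blk A * P⁻¹) * T.1 = T.1 * (P * blk A * P⁻¹)
    rw [hTP]
    simp only [Matrix.mul_assoc]
    rw [Matrix.nonsing_inv_mul_cancel_left _ _ hPdet, Matrix.nonsing_inv_mul_cancel_left _ _ hPdet,
      ← Matrix.mul_assoc (blk A), blk_comm, Matrix.mul_assoc]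
  have hiii : ∀ g : Matrix.SpecialLinearGroup (Fin 3) F, g * T = T * g →
      ∃ A, phi P hP A = g := by
    intro g hg
    have hg' : g.1 * T.1 = T.1 * g.1 := by
      have := congrArg Subtype.val hg
      simpa using this
    have hDP : dmat F * P⁻¹ = P⁻¹ * T.1 := by
      rw [hTP]
      simp only [← Matrix.mul_assoc]
      rw [hPP, one_mul]
    have hN : (P⁻¹ * g.1 * P) * dmat F = dmat F * (P⁻¹ * g.1 * P) := by
      calc (P⁻¹ * g.1 * P) * dmat F = P⁻¹ * g.1 * (P * dmat F) := by
            simp only [Matrix.mul_assoc]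
        _ = P⁻¹ * g.1 * (T.1 * P) := by rw [hMP]
        _ = P⁻¹ * (g.1 * T.1) * P := by simp only [Matrix.mul_assoc]
        _ = P⁻¹ * (T.1 * g.1) * P := by rw [hg']
        _ = (P⁻¹ * T.1) * g.1 * P := by simp only [Matrix.mul_assoc]
        _ = (dmat F * P⁻¹) * g.1 * P := by rw [hDP]
        _ = dmat F * (P⁻¹ * g.1 * P) := by simp only [Matrix.mul_assoc]
    have hNdet : (P⁻¹ * g.1 * P).det = 1 := by rw [Matrix.det_conj' hP, g.2]
    obtain ⟨A, hA⟩ := exists_blk h2 _ hNdet hN
    refine ⟨A, ?_⟩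
    apply Subtype.ext
    show P * blk A * P⁻¹ = g.1
    rw [← hA]
    simp only [Matrix.mul_assoc]
    rw [hPP', mul_one, ← Matrix.mul_assoc, hPP', one_mul]
  have hrange : ψ.range = Subgroup.centralizer
      ({(QuotientGroup.mk T : Matrix.ProjectiveSpecialLinearGroup (Fin 3) F)} : Set _) := by
    ext x
    rw [Subgroup.mem_centralizer_iff, MonoidHom.mem_range]
    constructor
    · rintro ⟨A, rfl⟩ h hh
      rw [Set.mem_singleton_iff] at hh
      subst hh
      rw [hψA, ← QuotientGroup.mk_mul, ← QuotientGroup.mk_mul, hi A]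
    · intro hx
      obtain ⟨g, rfl⟩ := QuotientGroup.mk_surjective x
      have h1 := hx _ rfl
      have hgT := commute_of_mk T g hT2 h1
      obtain ⟨A, hA⟩ := hiii g hgT
      exact ⟨A, by rw [hψA, hA]⟩
  have hker : ∀ A : GL (Fin 2) F, A ∈ ψ.ker ↔
      ∃ ω : F, ω ^ 3 = 1 ∧ A.1 = Matrix.scalar (Fin 2) ω := by
    intro A
    rw [MonoidHom.mem_ker, hψA, QuotientGroup.eq_one_iff,
      Matrix.SpecialLinearGroup.mem_center_iff, Fintype.card_fin]
    constructor
    · rintro ⟨ω, hω3, hω⟩
      refine ⟨ω, hω3, ?_⟩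
      rw [← blk_eq_scalar_iff A ω hω3]
      have h3 : P * blk A * P⁻¹ = Matrix.scalar (Fin 3) ω := hω.symm
      calc blk A = P⁻¹ * (P * blk A * P⁻¹) * P := by
            simp only [Matrix.mul_assoc]
            rw [hPP, mul_one, ← Matrix.mul_assoc, hPP, one_mul]
        _ = P⁻¹ * Matrix.scalar (Fin 3) ω * P := by rw [h3]
        _ = Matrix.scalar (Fin 3) ω := by
            rw [Matrix.mul_assoc, Matrix.scalar_comm ω (Commute.all ω) P, ← Matrix.mul_assoc, hPP,
              one_mul]
    · rintro ⟨ω, hω3, hA⟩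
      refine ⟨ω, hω3, ?_⟩
      rw [← blk_eq_scalar_iff A ω hω3] at hA
      show Matrix.scalar (Fin 3) ω = P * blk A * P⁻¹
      rw [hA, ← Matrix.scalar_comm ω (Commute.all ω) P, Matrix.mul_assoc, hPP', mul_one]
  refine ⟨ψ.ker, inferInstance, ?_, ?_, ?_⟩
  · intro A hA
    obtain ⟨ω, -, hω⟩ := (hker A).mp hA
    rw [Subgroup.mem_center_iff]
    intro B
    apply Units.ext
    rw [Units.val_mul, Units.val_mul, hω]
    exact (Matrix.scalar_comm ω (Commute.all ω) B.1).symm
  · have hcyc := IsCyclic.card_powMonoidHom_ker (G := Fˣ) 3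
    rw [Nat.card_units, Nat.card_eq_fintype_card (α := F)] at hcyc
    rw [← hcyc]
    symm
    have hmem : ∀ ω : Fˣ, ω ∈ (powMonoidHom 3 : Fˣ →* Fˣ).ker ↔ (ω : F) ^ 3 = 1 := by
      intro ω
      rw [MonoidHom.mem_ker, powMonoidHom_apply, Units.ext_iff, Units.val_pow_eq_pow_val,
        Units.val_one]
    refine Nat.card_congr (Equiv.ofBijective
      (fun ω : (powMonoidHom 3 : Fˣ →* Fˣ).ker =>
        (⟨Matrix.GeneralLinearGroup.scalar (Fin 2) ω.1,
          (hker _).mpr ⟨(ω.1 : F), (hmem ω.1).mp ω.2, rfl⟩⟩ : ψ.ker)) ⟨?_, ?_⟩)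
    · intro ω₁ ω₂ h
      have h1 : (Matrix.GeneralLinearGroup.scalar (Fin 2) ω₁.1 : GL (Fin 2) F) =
          Matrix.GeneralLinearGroup.scalar (Fin 2) ω₂.1 := congrArg Subtype.val h
      have h3 : Matrix.scalar (Fin 2) (ω₁.1 : F) = Matrix.scalar (Fin 2) (ω₂.1 : F) := by
        rw [← Matrix.GeneralLinearGroup.coe_scalar, ← Matrix.GeneralLinearGroup.coe_scalar, h1]
      have h2 := congrFun (congrFun h3 0) 0
      simp only [Matrix.scalar_apply, Matrix.diagonal_apply_eq] at h2
      exact Subtype.ext (Units.ext h2)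
    · intro A
      obtain ⟨ω, hω3, hω⟩ := (hker A.1).mp A.2
      have hω0 : ω ≠ 0 := by
        rintro rfl
        simp at hω3
      refine ⟨⟨Units.mk0 ω hω0, (hmem _).mpr hω3⟩, ?_⟩
      apply Subtype.ext
      apply Units.ext
      show Matrix.scalar (Fin 2) ω = A.1.1
      exact hω.symm
  · exact ⟨(MulEquiv.subgroupCongr hrange).symm.trans
      (QuotientGroup.quotientKerEquivRange ψ).symm⟩

end Cfsg.Agent.S1219
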