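import Mathlib
import Cfsg.Statements.S1241
import Cfsg.Agent.Lib.Helper9.Transfer

set_option autoImplicit false
open Cfsg
open scoped IsMulCommutative

namespace Cfsg.Agent.S1241

/-- Let G be a finite group, p a prime, H a subgroup of index prime to p, K a subgroup of H normal in H with H/K commutative, and g ∈ H ∖ K an element of p-power order such that for all integers m and all a ∈ G with a g^m a⁻¹ ∈ H one has a g^m a⁻¹ ∈ g^m K. Then g ∉ G'. -/
theorem result {G : Type*} [Group G] [Finite G] {p : ℕ} [Fact p.Prime] (H K : Subgroup G) (hHK : K ≤ H) (hKn : (K.subgroupOf H).Normal) (hab : ∀ x ∈ H, ∀ y ∈ H, x * y * x⁻¹ * y⁻¹ ∈ K) (hidx : Nat.Coprime p H.index) (g : G) (hgH : g ∈ H) (hgK : g ∉ K) (hgp : ∃ k : ℕ, orderOf g = p ^ k) (hctrl : ∀ (m : ℤ) (a : G), a * g ^ m * a⁻¹ ∈ H → (a * g ^ m * a⁻¹) * (g ^ m)⁻¹ ∈ K) : g ∉ commutator G := by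
  classical
  intro hgc
  have hcomm : IsMulCommutative (H ⧸ K.subgroupOf H) := by
    refine ⟨⟨fun x' y' => ?_⟩⟩
    obtain ⟨x, rfl⟩ := QuotientGroup.mk'_surjective (K.subgroupOf H) x'
    obtain ⟨y, rfl⟩ := QuotientGroup.mk'_surjective (K.subgroupOf H) y'
    simp only [QuotientGroup.mk'_apply]
    rw [← QuotientGroup.mk_mul, ← QuotientGroup.mk_mul, QuotientGroup.eq]
    rw [Subgroup.mem_subgroupOf]
    have := hab (y : G)⁻¹ (H.inv_mem y.2) (x : G)⁻¹ (H.inv_mem x.2)
    simpa [mul_assoc] using this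
  let ϕ : H →* H ⧸ K.subgroupOf H := QuotientGroup.mk' (K.subgroupOf H)
  have hV := Cfsg.Agent.Lib.Helper9.transfer_eq_pow_of_control ϕ ⟨g, hgH⟩ (by
    intro m a h
    show (QuotientGroup.mk _ : H ⧸ K.subgroupOf H) = QuotientGroup.mk _
    rw [QuotientGroup.eq_iff_div_mem, Subgroup.mem_subgroupOf]
    have h1 := hctrl (m : ℤ) a⁻¹ (by simpa using h)
    simp only [zpow_natCast, inv_inv] at h1
    simpa [div_eq_mul_inv] using h1)
  have h1 : MonoidHom.transfer ϕ g = 1 := by
    have := Abelianization.commutator_subset_ker (MonoidHom.transfer ϕ) hgc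
    exact MonoidHom.mem_ker.mp this
  rw [show ((⟨g, hgH⟩ : H) : G) = g from rfl] at hV
  rw [hV] at h1
  -- so g ^ index ∈ K
  have h2 : g ^ H.index ∈ K := by
    have : ϕ (⟨g, hgH⟩ ^ H.index) = 1 := by rw [map_pow]; exact h1
    have := (QuotientGroup.eq_one_iff _).mp this
    rw [Subgroup.mem_subgroupOf] at this
    simpa using this
  obtain ⟨k, hk⟩ := hgp
  have hcop : Nat.Coprime (orderOf g) H.index := by
    rw [hk]; exact Nat.Coprime.pow_left k hidx
  obtain ⟨m, hm⟩ := exists_pow_eq_self_of_coprime hcop.symm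
  apply hgK
  rw [← hm]
  exact K.pow_mem h2 m

end Cfsg.Agent.S1241
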