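import Cfsg.Statements.S1243
import Cfsg.Agent.Lib.Helper9.Conj

set_option autoImplicit false
open Cfsg

namespace Cfsg.Agent.S1243

open Cfsg.Agent.Lib.Helper9

/-- Let T be a Sylow p-subgroup of the finite group G and W ≤ T a subgroup weakly closed in T. If d and g d g⁻¹ both centralize W, then g d g⁻¹ = h d h⁻¹ for some h ∈ N_G(W). -/
theorem result {G : Type*} [Group G] [Finite G] {p : ℕ} [Fact p.Prime] (T : Sylow p G) (W : Subgroup G) (hW : Cfsg.IsWeaklyClosed W (T : Subgroup G)) (d g : G) (hd : d ∈ Subgroup.centralizer (W : Set G)) (hgd : g * d * g⁻¹ ∈ Subgroup.centralizer (W : Set G)) : ∃ h ∈ Subgroup.normalizer (W : Set G), h * d * h⁻¹ = g * d * g⁻¹ := by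
  -- W ≤ C(d) and W^(g⁻¹) ≤ C(d)
  have h1 : W ≤ Subgroup.centralizer ({d} : Set G) := by
    intro w hw
    rw [Subgroup.mem_centralizer_iff]
    intro y hy
    rw [Set.mem_singleton_iff] at hy; subst hy
    rw [Subgroup.mem_centralizer_iff] at hd
    exact (hd w hw).symm
  have h2 : W.map (MulAut.conj g⁻¹).toMonoidHom ≤ Subgroup.centralizer ({d} : Set G) := by
    intro x hx
    rw [mem_conjMap, inv_inv] at hx
    rw [Subgroup.mem_centralizer_iff]
    intro y hy
    rw [Set.mem_singleton_iff] at hy; subst hy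
    rw [Subgroup.mem_centralizer_iff] at hgd
    have := hgd _ hx
    -- g x g⁻¹ * (g y g⁻¹) = (g y g⁻¹) * g x g⁻¹
    calc y * x = g⁻¹ * ((g * y * g⁻¹) * (g * x * g⁻¹)) * g := by group
      _ = g⁻¹ * ((g * x * g⁻¹) * (g * y * g⁻¹)) * g := by rw [this]
      _ = x * y := by group
  obtain ⟨c, hc, hcg⟩ := weaklyClosed_conj_in_subgroup T W hW _ h1 g⁻¹ h2
  refine ⟨g * c, ?_, ?_⟩
  · apply mem_normalizer_of_conjMap_eq_self
    rw [conjMap_mul, hcg, conjMap_conjMap_inv]
  · rw [Subgroup.mem_centralizer_iff] at hc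
    have := hc d rfl
    calc g * c * d * (g * c)⁻¹ = g * (c * d) * c⁻¹ * g⁻¹ := by group
      _ = g * (d * c) * c⁻¹ * g⁻¹ := by rw [this]
      _ = g * d * g⁻¹ := by group

end Cfsg.Agent.S1243
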