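import Cfsg.Statements.S1249
import Cfsg.Agent.Lib.Helper9.Conj

set_option autoImplicit false
open Cfsg

namespace Cfsg.Agent.S1249

open Cfsg.Agent.Lib.Helper9

/-- Let P and Q be Sylow p-subgroups of the finite group G both containing the subgroup A. If A is strongly closed in P, then A is strongly closed in Q. -/
theorem result {G : Type*} [Group G] [Finite G] {p : ℕ} [Fact p.Prime] (P Q : Sylow p G) (A : Subgroup G) (hAQ : A ≤ Q) (hA : Cfsg.IsStronglyClosed A (P : Subgroup G)) : Cfsg.IsStronglyClosed A (Q : Subgroup G) := by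
  obtain ⟨k, hk⟩ := exists_le_conjMap_sylow P Q.2
  -- Q ≤ P^k
  have hmem : ∀ x ∈ (Q : Subgroup G), k⁻¹ * x * k ∈ (P : Subgroup G) := by
    intro x hx
    exact mem_conjMap.mp (hk hx)
  -- conjugation by k⁻¹ maps A into A
  have hAk : A.map (MulAut.conj k⁻¹).toMonoidHom ≤ A := by
    rintro _ ⟨a, ha, rfl⟩
    simp only [MulEquiv.coe_toMonoidHom, MulAut.conj_apply, inv_inv]
    have h1 := hmem a (hAQ ha)
    have := hA.2 a ha k⁻¹
    rw [inv_inv] at this
    exact this h1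
  have hAk' := conjMap_eq_of_le hAk
  refine ⟨hAQ, ?_⟩
  intro x hx g hg
  have h1 := hmem _ hg
  have h2 : k⁻¹ * (g * x * g⁻¹) * k = (k⁻¹ * g) * x * (k⁻¹ * g)⁻¹ := by group
  rw [h2] at h1
  have h3 := hA.2 x hx (k⁻¹ * g) h1
  -- g x g⁻¹ = k (..) k⁻¹ ∈ A^k = A
  have hAk2 : A.map (MulAut.conj k).toMonoidHom = A := by
    conv_lhs => rw [← hAk']
    rw [conjMap_conjMap_inv]
  have h4 := conj_mem_conjMap (g := k) h3
  rw [hAk2] at h4
  have : k * (k⁻¹ * g * x * (k⁻¹ * g)⁻¹) * k⁻¹ = g * x * g⁻¹ := by group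
  rwa [this] at h4

end Cfsg.Agent.S1249
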