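import Cfsg.Statements.S1250
import Cfsg.Agent.Lib.Helper9.Conj

set_option autoImplicit false
open Cfsg

namespace Cfsg.Agent.S1250

open Cfsg.Agent.Lib.Helper9

/-- Let S be a Sylow p-subgroup of the finite group G, A ≤ S strongly closed in S, and N a normal subgroup. Then the image of A in G ⧸ N is strongly closed in the image of S (which is a Sylow p-subgroup of G ⧸ N). -/
theorem result {G : Type*} [Group G] [Finite G] {p : ℕ} [Fact p.Prime] (S : Sylow p G) (A : Subgroup G) (hA : Cfsg.IsStronglyClosed A (S : Subgroup G)) (N : Subgroup G) [N.Normal] : Cfsg.IsStronglyClosed (A.map (QuotientGroup.mk' N)) ((S : Subgroup G).map (QuotientGroup.mk' N)) := by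
  refine ⟨Subgroup.map_mono hA.1, ?_⟩
  rintro _ ⟨x, hx, rfl⟩ gbar hg
  obtain ⟨g, rfl⟩ := QuotientGroup.mk_surjective gbar
  obtain ⟨s, hs, hsy⟩ := hg
  -- y = g x g⁻¹ ∈ S ⊔ N
  obtain ⟨y, hy⟩ : ∃ y, y = g * x * g⁻¹ := ⟨_, rfl⟩
  have hsy' : (QuotientGroup.mk s : G ⧸ N) = QuotientGroup.mk y := by
    rw [hy]; simpa using hsy
  have hyN : s⁻¹ * y ∈ N := QuotientGroup.eq.mp hsy'
  have hyM : y ∈ (S : Subgroup G) ⊔ N := by
    have : y = s * (s⁻¹ * y) := by group
    rw [this]; exact Subgroup.mul_mem_sup hs hyN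
  -- zpowers y is a p-group
  have hYp : IsPGroup p (Subgroup.zpowers y) := by
    have h1 : IsPGroup p (Subgroup.zpowers x) :=
      S.2.to_le ((Subgroup.zpowers_le).mpr (hA.1 hx))
    have h2 := h1.map (MulAut.conj g).toMonoidHom
    rw [MonoidHom.map_zpowers] at h2
    have e : (MulAut.conj g).toMonoidHom x = y := by rw [hy]; simp [MulAut.conj_apply]
    rw [e] at h2; exact h2
  obtain ⟨P, hP, -, hSP, h, hh, hhP⟩ :=
    exists_pgroup_conj_le ((S : Subgroup G) ⊔ N) (S : Subgroup G) (Subgroup.zpowers y) S.2 hYp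
      le_sup_left ((Subgroup.zpowers_le).mpr hyM)
  have hPS : P = S := S.is_maximal' hP hSP
  rw [hPS] at hhP
  have hhy : h * y * h⁻¹ ∈ (S : Subgroup G) :=
    hhP (conj_mem_conjMap (Subgroup.mem_zpowers y))
  obtain ⟨s', hs', n, hn, rfl⟩ := Subgroup.mem_sup_of_normal_right.mp hh
  have hny : n * y * n⁻¹ ∈ (S : Subgroup G) := by
    have : n * y * n⁻¹ = s'⁻¹ * (s' * n * y * (s' * n)⁻¹) * s' := by group
    rw [this]
    exact Subgroup.mul_mem _ (Subgroup.mul_mem _ (Subgroup.inv_mem _ hs') hhy) hs'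
  have hnA : (n * g) * x * (n * g)⁻¹ ∈ A := by
    apply hA.2 x hx
    have : n * g * x * (n * g)⁻¹ = n * (g * x * g⁻¹) * n⁻¹ := by group
    rw [this, ← hy]; exact hny
  refine ⟨(n * g) * x * (n * g)⁻¹, hnA, ?_⟩
  simp only [QuotientGroup.mk'_apply, QuotientGroup.mk_mul, QuotientGroup.mk_inv,
    (QuotientGroup.eq_one_iff n).mpr hn, one_mul]

end Cfsg.Agent.S1250
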