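import Mathlib
import Cfsg.Statements.S1256
import Cfsg.Agent.Lib.Helper9.Dih.Classes

set_option autoImplicit false
open Cfsg

namespace Cfsg.Agent.S1256

/-- Let X be a finite group whose Sylow 2-subgroup S is dihedral of order 2m ≥ 4. If |S| = 4, any two Klein four-subgroups of X are conjugate; if |S| > 4, there are Klein four-subgroups U₁, U₂ of X that are not conjugate, and every Klein four-subgroup of X is conjugate to U₁ or to U₂. -/
theorem result {X : Type*} [Group X] [Finite X] (S : Sylow 2 X) (m : ℕ) (hm : 2 ≤ m) (eS : (S : Subgroup X) ≃* DihedralGroup m) : (Nat.card S = 4 → ∀ U V : Subgroup X, IsKleinFour U → IsKleinFour V → (∃ x : X, U.map (MulAut.conj x).toMonoidHom = V)) ∧ (4 < Nat.card S → ∃ U₁ U₂ : Subgroup X, IsKleinFour U₁ ∧ IsKleinFour U₂ ∧ ¬ (∃ x : X, U₁.map (MulAut.conj x).toMonoidHom = U₂) ∧ ∀ V : Subgroup X, IsKleinFour V → (∃ x : X, V.map (MulAut.conj x).toMonoidHom = U₁) ∨ (∃ x : X, V.map (MulAut.conj x).toMonoidHom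 = U₂)) := by
  obtain ⟨n, hn, rfl⟩ := Cfsg.Agent.Lib.Helper9.Dih.exists_two_pow S.2 hm eS
  have hcard := Cfsg.Agent.Lib.Helper9.Dih.card_eq eS
  constructor
  · intro h4 U V hU hV
    exact Cfsg.Agent.Lib.Helper9.Dih.conj_of_card_four S h4 U V hU hV
  · intro h4
    have hn2 : 2 ≤ n := by
      by_contra hlt
      have hn1 : n = 1 := by omega
      subst hn1
      rw [hcard] at h4
      norm_num at h4
    refine ⟨Cfsg.Agent.Lib.Helper9.Dih.UX S eS 0, Cfsg.Agent.Lib.Helper9.Dih.UX S eS 1,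
      Cfsg.Agent.Lib.Helper9.Dih.isKleinFour_UX S eS hn 0,
      Cfsg.Agent.Lib.Helper9.Dih.isKleinFour_UX S eS hn 1,
      Cfsg.Agent.Lib.Helper9.Dih.not_conj_UX S eS hn2, ?_⟩
    intro V hV
    exact Cfsg.Agent.Lib.Helper9.Dih.conj_UX_zero_or_one S eS V hV

end Cfsg.Agent.S1256
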