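import Mathlib
import Cfsg.Statements.S1273
import Cfsg.Agent.Lib.Helper9.PComp

set_option autoImplicit false
open Cfsg

namespace Cfsg.Agent.S1273

open Cfsg.Agent.Lib.Helper9 Cfsg.Agent.Lib.Helper10

/-- Let K be a p-component of the finite group X and N a normal subgroup of K whose index in K is prime to p. Then N = K. -/
theorem result {X : Type*} [Group X] [Finite X] (p : ℕ) [Fact p.Prime] (K : Subgroup X) (hK : Cfsg.IsPComponent p K) (N : Subgroup ↥K) [N.Normal] (hidx : (N.index).Coprime p) : N = ⊤ := by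
  have hNsn : N.IsSubnormal := Subgroup.Normal.isSubnormal inferInstance
  have h1 : (N.map K.subtype).IsSubnormal := Subgroup.IsSubnormal.trans' hNsn hK.1
  have h2 : N.map K.subtype ≤ K := Subgroup.map_subtype_le N
  have h3 : (N.map K.subtype).map (QuotientGroup.mk' (Cfsg.pPrimeCore p X)) =
      K.map (QuotientGroup.mk' (Cfsg.pPrimeCore p X)) := by
    apply le_antisymm (Subgroup.map_mono h2)
    have hB := pElementClosure_comp_eq p (pPrimeCore_quotient_eq_bot (G := X) p) hK.2.1
    conv_lhs => rw [← hB]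
    unfold Cfsg.pElementClosure
    rw [Subgroup.closure_le]
    rintro ub ⟨hub, k, hk⟩
    obtain ⟨x, hx, rfl⟩ := Subgroup.mem_map.mp hub
    obtain ⟨z, hz, ⟨j, hzp⟩, hzx⟩ := exists_pElement_lift (QuotientGroup.mk' (Cfsg.pPrimeCore p X)) p hx hk
    rw [← hzx]
    have hzN : (⟨z, hz⟩ : ↥K) ∈ N :=
      mem_of_isSubnormal_of_coprime_index hNsn hidx ⟨z, hz⟩
        ⟨j, by rw [← hzp]; exact Subgroup.orderOf_mk z hz⟩
    exact Subgroup.mem_map.mpr ⟨z, Subgroup.mem_map.mpr ⟨⟨z, hz⟩, hzN, rfl⟩, rfl⟩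
  have h4 := hK.2.2 _ h1 h2 h3
  apply Subgroup.map_injective K.subtype_injective
  rw [h4, ← MonoidHom.range_eq_map, Subgroup.range_subtype]

end Cfsg.Agent.S1273
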