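import Mathlib
import Cfsg.Statements.S1279
import Cfsg.Agent.Lib.Helper9.Balance

set_option autoImplicit false
open Cfsg

namespace Cfsg.Agent.S1279

/-- Let A be a noncyclic elementary abelian p-subgroup of the finite group G such that C_G(a) is solvable for every non-identity a ∈ A. Then a ↦ O_{p'}(C_G(a)) is a solvable A-signalizer functor on G. -/
theorem result {G : Type*} [Group G] [Finite G] (p : ℕ) [Fact p.Prime] (A : Subgroup G) (hA : Cfsg.IsElementaryAbelian p A) (hA2 : p ^ 2 ≤ Nat.card ↥A) (hsolv : ∀ a ∈ A, a ≠ 1 → Group.IsSolvable ↥(Subgroup.centralizer ({a} : Set G))) : Cfsg.IsSolvableSignalizerFunctor p A (fun a => Cfsg.centralizerPPrimeCore p a) := by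
  classical
  have hp : p.Prime := Fact.out
  obtain ⟨hAc, hAe⟩ := hA
  have hcomm : ∀ a ∈ A, ∀ b ∈ A, a * b = b * a := by
    intro a ha b hb
    have := hAc.is_comm.comm (⟨a, ha⟩ : A) ⟨b, hb⟩
    exact congrArg Subtype.val this
  -- basic facts about θ
  have hθle : ∀ a : G, centralizerPPrimeCore p a ≤ Subgroup.centralizer ({a} : Set G) := by
    intro a
    unfold centralizerPPrimeCore
    exact Subgroup.map_subtype_le _
  have hθmem : ∀ (a g : G), g ∈ centralizerPPrimeCore p a ↔
      ∃ h : g ∈ Subgroup.centralizer ({a} : Set G),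
        (⟨g, h⟩ : Subgroup.centralizer ({a} : Set G)) ∈
          pPrimeCore p ↥(Subgroup.centralizer ({a} : Set G)) := by
    intro a g
    unfold centralizerPPrimeCore
    constructor
    · rintro ⟨x, hx, rfl⟩
      exact ⟨x.2, hx⟩
    · rintro ⟨h, hx⟩
      exact ⟨⟨g, h⟩, hx, rfl⟩
  have hθcard : ∀ a : G, (Nat.card (centralizerPPrimeCore p a)).Coprime p := by
    intro a
    unfold centralizerPPrimeCore
    rw [Subgroup.card_map_of_injective (Subgroup.subtype_injective _)]
    exact Cfsg.Agent.Lib.Helper1.pPrimeCore_coprime p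
  have hθconj : ∀ (a y : G), y ∈ Subgroup.centralizer ({a} : Set G) →
      ∀ x ∈ centralizerPPrimeCore p a, y * x * y⁻¹ ∈ centralizerPPrimeCore p a := by
    intro a y hy x hx
    rw [hθmem] at hx ⊢
    obtain ⟨h, hx⟩ := hx
    have hn : (pPrimeCore p ↥(Subgroup.centralizer ({a} : Set G))).Normal :=
      Cfsg.Agent.Lib.Helper1.pPrimeCore_normal p
    refine ⟨Subgroup.mul_mem _ (Subgroup.mul_mem _ hy h) (Subgroup.inv_mem _ hy), ?_⟩
    exact hn.conj_mem _ hx ⟨y, hy⟩
  have hcent : ∀ a ∈ A, ∀ b ∈ A, b ∈ Subgroup.centralizer ({a} : Set G) := by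
    intro a ha b hb
    rw [Subgroup.mem_centralizer_iff]
    rintro _ rfl
    exact hcomm _ (by assumption) b hb
  refine ⟨⟨?_, ?_, ?_, ?_⟩, ?_⟩
  · intro a _ _; exact hθle a
  · intro a _ _ hdvd
    have := hθcard a
    rw [Nat.coprime_comm, hp.coprime_iff_not_dvd] at this
    exact this hdvd
  · intro a ha _ b hb x hx
    exact hθconj a b (hcent a ha b hb) x hx
  · intro a ha ha1 b hb hb1
    haveI : Group.IsSolvable ↥(Subgroup.centralizer ({b} : Set G)) := hsolv b hb hb1
    have hab : a ∈ Subgroup.centralizer ({b} : Set G) := hcent b hb a ha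
    set X := Subgroup.centralizer ({b} : Set G) with hX
    have hord : orderOf (⟨a, hab⟩ : X) = p := by
      apply orderOf_eq_prime
      · apply Subtype.ext
        simpa using hAe a ha
      · intro h
        exact ha1 (congrArg Subtype.val h)
    have key := Cfsg.Agent.Lib.Helper9.Balance.le_pPrimeCore_of_balance (X := ↥X) p hord
      ((centralizerPPrimeCore p a ⊓ X).subgroupOf X) ?_ ?_ ?_
    · intro g hg
      rw [hθmem]
      refine ⟨hg.2, ?_⟩
      apply key
      rw [Subgroup.mem_subgroupOf]
      exact hg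
    · intro d hd
      rw [Subgroup.mem_subgroupOf] at hd
      have h1 := hθle a hd.1
      rw [Subgroup.mem_centralizer_iff] at h1 ⊢
      rintro _ rfl
      apply Subtype.ext
      exact h1 a rfl
    · have h1 : Nat.card ((centralizerPPrimeCore p a ⊓ X).subgroupOf X) =
          Nat.card ↥(centralizerPPrimeCore p a ⊓ X) :=
        Nat.card_congr (Subgroup.subgroupOfEquivOfLe inf_le_right).toEquiv
      rw [h1]
      exact Nat.Coprime.coprime_dvd_left (Subgroup.card_dvd_of_le inf_le_left) (hθcard a)
    · intro y hy d hd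
      rw [Subgroup.mem_subgroupOf] at hd ⊢
      have hya : (y : G) ∈ Subgroup.centralizer ({a} : Set G) := by
        rw [Subgroup.mem_centralizer_iff]
        rintro _ rfl
        exact (congrArg Subtype.val hy).symm
      refine ⟨?_, (y * d * y⁻¹).2⟩
      exact hθconj a y hya d hd.1
  · intro a ha ha1
    haveI : Group.IsSolvable ↥(Subgroup.centralizer ({a} : Set G)) := hsolv a ha ha1
    exact Group.isSolvable_of_isSolvable_injective
      (f := Subgroup.inclusion (hθle a)) (Subgroup.inclusion_injective _)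

end Cfsg.Agent.S1279
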