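import Mathlib
import Cfsg.Statements.S1286

set_option autoImplicit false
open Cfsg

namespace Cfsg.Agent.S1286

abbrev X5 := Equiv.Perm (Fin 5)

def ea : X5 := Equiv.swap 0 1
def eb : X5 := Equiv.swap 2 3
def ta : X5 := Equiv.swap 2 3 * Equiv.swap 3 4
def tb : X5 := Equiv.swap 0 1 * Equiv.swap 1 4

def A4 : Subgroup X5 where
  carrier := {x | x = 1 ∨ x = ea ∨ x = eb ∨ x = ea * eb}
  mul_mem' := by
    rintro _ _ (rfl | rfl | rfl | rfl) (rfl | rfl | rfl | rfl) <;>
      simp only [Set.mem_ofPred_eq] <;> decide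
  one_mem' := Or.inl rfl
  inv_mem' := by
    rintro _ (rfl | rfl | rfl | rfl) <;> simp only [Set.mem_ofPred_eq] <;> decide

theorem mem_A4 {x : X5} : x ∈ A4 ↔ x = 1 ∨ x = ea ∨ x = eb ∨ x = ea * eb := Iff.rfl

noncomputable def th : X5 → Subgroup X5 := fun g =>
  if g = ea then Subgroup.zpowers ta else if g = eb then Subgroup.zpowers tb else ⊥

theorem th_ea : th ea = Subgroup.zpowers ta := by simp [th]
theorem th_eb : th eb = Subgroup.zpowers tb := by
  have : eb ≠ ea := by decide
  simp [th, this]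
theorem th_eab : th (ea * eb) = ⊥ := by
  have h1 : ea * eb ≠ ea := by decide
  have h2 : ea * eb ≠ eb := by decide
  simp [th, h1, h2]

theorem zp3 (t : X5) (ht : t * t * t = 1) : ∀ x ∈ Subgroup.zpowers t, x = 1 ∨ x = t ∨ x = t * t := by
  rintro _ ⟨k, rfl⟩
  have h3 : t ^ (3 : ℤ) = 1 := by
    have : t ^ (3 : ℤ) = t ^ (3 : ℕ) := by norm_cast
    rw [this, pow_succ, pow_two]; exact ht
  have hk : t ^ k = t ^ (k % 3) := zpow_eq_zpow_emod k h3
  have hk0 : 0 ≤ k % 3 := Int.emod_nonneg _ (by norm_num)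
  have hk3 : k % 3 < 3 := Int.emod_lt_of_pos _ (by norm_num)
  show t ^ k = 1 ∨ t ^ k = t ∨ t ^ k = t * t
  rw [hk]
  obtain ⟨r, hr⟩ : ∃ r : ℤ, r = k % 3 := ⟨_, rfl⟩
  rw [← hr] at hk0 hk3 ⊢
  interval_cases r
  · left; simp
  · right; left; simp
  · right; right
    have : t ^ (2 : ℤ) = t ^ (2 : ℕ) := by norm_cast
    rw [this, pow_two]

theorem ta3 : ta * ta * ta = 1 := by decide
theorem tb3 : tb * tb * tb = 1 := by decide

theorem orderOf_ta : orderOf ta = 3 := by
  have : Fact (Nat.Prime 3) := ⟨by norm_num⟩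
  exact orderOf_eq_prime (by rw [pow_succ, pow_two]; exact ta3) (by decide)

theorem orderOf_tb : orderOf tb = 3 := by
  have : Fact (Nat.Prime 3) := ⟨by norm_num⟩
  exact orderOf_eq_prime (by rw [pow_succ, pow_two]; exact tb3) (by decide)

theorem conj_zpowers_mem (t c : X5) (h : c * t * c⁻¹ ∈ Subgroup.zpowers t) :
    ∀ x ∈ Subgroup.zpowers t, c * x * c⁻¹ ∈ Subgroup.zpowers t := by
  rintro _ ⟨k, rfl⟩
  have : c * t ^ k * c⁻¹ = (c * t * c⁻¹) ^ k := by
    simp [conj_zpow]
  show c * t ^ k * c⁻¹ ∈ Subgroup.zpowers t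
  rw [this]
  exact Subgroup.zpow_mem _ h k

theorem sig : Cfsg.IsSignalizerFunctor 2 A4 th := by
  have hta : ta ∈ Subgroup.zpowers ta := Subgroup.mem_zpowers ta
  have htb : tb ∈ Subgroup.zpowers tb := Subgroup.mem_zpowers tb
  have hta2 : ta * ta ∈ Subgroup.zpowers ta := Subgroup.mul_mem _ hta hta
  have htb2 : tb * tb ∈ Subgroup.zpowers tb := Subgroup.mul_mem _ htb htb
  refine ⟨?_, ?_, ?_, ?_⟩
  · intro a ha ha1
    rcases mem_A4.mp ha with rfl | rfl | rfl | rfl
    · exact absurd rfl ha1
    · rw [th_ea, Subgroup.zpowers_le, Subgroup.mem_centralizer_iff]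
      intro y hy; rw [Set.mem_singleton_iff] at hy; subst hy; decide
    · rw [th_eb, Subgroup.zpowers_le, Subgroup.mem_centralizer_iff]
      intro y hy; rw [Set.mem_singleton_iff] at hy; subst hy; decide
    · rw [th_eab]; exact bot_le
  · intro a ha ha1
    rcases mem_A4.mp ha with rfl | rfl | rfl | rfl
    · exact absurd rfl ha1
    · rw [th_ea, Nat.card_zpowers, orderOf_ta]; norm_num
    · rw [th_eb, Nat.card_zpowers, orderOf_tb]; norm_num
    · rw [th_eab, Subgroup.card_bot]; norm_num
  · intro a ha ha1 b hb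
    rcases mem_A4.mp ha with rfl | rfl | rfl | rfl
    · exact absurd rfl ha1
    · rw [th_ea]
      apply conj_zpowers_mem
      rcases mem_A4.mp hb with rfl | rfl | rfl | rfl
      · simp
      · have : ea * ta * ea⁻¹ = ta := by decide
        rw [this]; exact hta
      · have : eb * ta * eb⁻¹ = ta * ta := by decide
        rw [this]; exact hta2
      · have : ea * eb * ta * (ea * eb)⁻¹ = ta * ta := by decide
        rw [this]; exact hta2
    · rw [th_eb]
      apply conj_zpowers_mem
      rcases mem_A4.mp hb with rfl | rfl | rfl | rfl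
      · simp
      · have : ea * tb * ea⁻¹ = tb * tb := by decide
        rw [this]; exact htb2
      · have : eb * tb * eb⁻¹ = tb := by decide
        rw [this]; exact htb
      · have : ea * eb * tb * (ea * eb)⁻¹ = tb * tb := by decide
        rw [this]; exact htb2
    · rw [th_eab]
      intro x hx
      rw [Subgroup.mem_bot] at hx ⊢
      subst hx; simp
  · intro a ha ha1 b hb hb1
    -- helper: an element of zpowers t commuting with c where c does not commute with t, t*t is 1
    have key : ∀ (t c : X5), t * t * t = 1 → c * t ≠ t * c → c * (t * t) ≠ (t * t) * c →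
        ∀ (K : Subgroup X5), Subgroup.zpowers t ⊓ Subgroup.centralizer {c} ≤ K := by
      intro t c ht h1 h2 K x hx
      obtain ⟨hx1, hx2⟩ := Subgroup.mem_inf.mp hx
      have hc := (Subgroup.mem_centralizer_iff.mp hx2) c rfl
      rcases zp3 t ht x hx1 with rfl | rfl | rfl
      · exact K.one_mem
      · exact absurd hc h1
      · exact absurd hc h2
    rcases mem_A4.mp ha with rfl | rfl | rfl | rfl
    · exact absurd rfl ha1
    · rcases mem_A4.mp hb with rfl | rfl | rfl | rfl
      · exact absurd rfl hb1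
      · exact inf_le_left
      · rw [th_ea]; exact key ta eb ta3 (by decide) (by decide) _
      · rw [th_ea]; exact key ta (ea * eb) ta3 (by decide) (by decide) _
    · rcases mem_A4.mp hb with rfl | rfl | rfl | rfl
      · exact absurd rfl hb1
      · rw [th_eb]; exact key tb ea tb3 (by decide) (by decide) _
      · exact inf_le_left
      · rw [th_eb]; exact key tb (ea * eb) tb3 (by decide) (by decide) _
    · rw [th_eab]
      exact inf_le_left.trans bot_le

/-- There exist a finite group X, an elementary abelian subgroup A of order 4 and a solvable A-signalizer functor θ on X for the prime 2 which is not complete. -/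
theorem result : ∃ (X : Type) (_ : Group X) (_ : Finite X) (A : Subgroup X) (θ : X → Subgroup X), Cfsg.IsElementaryAbelian 2 A ∧ Nat.card ↥A = 4 ∧ Cfsg.IsSolvableSignalizerFunctor 2 A θ ∧ ¬ Cfsg.IsCompleteSignalizerFunctor 2 A θ := by
  refine ⟨X5, inferInstance, inferInstance, A4, th, ?_, ?_, ?_, ?_⟩
  · refine ⟨⟨⟨?_⟩⟩, ?_⟩
    · rintro ⟨x, hx⟩ ⟨y, hy⟩
      apply Subtype.ext
      show x * y = y * x
      rcases mem_A4.mp hx with rfl | rfl | rfl | rfl <;>
        rcases mem_A4.mp hy with rfl | rfl | rfl | rfl <;> decide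
    · intro x hx
      rw [pow_two]
      rcases mem_A4.mp hx with rfl | rfl | rfl | rfl <;> decide
  · have h1 : (A4 : Set X5) = ((({1, ea, eb, ea * eb} : Finset X5)) : Set X5) := by
      ext x
      simp only [SetLike.mem_coe, mem_A4, Finset.coe_insert, Finset.coe_singleton,
        Set.mem_insert_iff, Set.mem_singleton_iff]
    have h2 : Nat.card ↥A4 = Set.ncard (A4 : Set X5) := (Nat.card_coe_set_eq _)
    rw [h2, h1, Set.ncard_coe_finset]
    decide
  · refine ⟨sig, ?_⟩
    intro a ha ha1
    rcases mem_A4.mp ha with rfl | rfl | rfl | rfl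
    · exact absurd rfl ha1
    · rw [th_ea]
      exact Group.isSolvable_of_comm (fun x y => mul_comm' x y)
    · rw [th_eb]
      exact Group.isSolvable_of_comm (fun x y => mul_comm' x y)
    · rw [th_eab]
      exact Group.isSolvable_of_comm (fun x y => Subsingleton.elim _ _)
  · rintro ⟨-, Y, -, hodd, hY⟩
    apply hodd
    have h1 := hY ea (mem_A4.mpr (Or.inr (Or.inl rfl))) (by decide)
    have h2 := hY eb (mem_A4.mpr (Or.inr (Or.inr (Or.inl rfl)))) (by decide)
    rw [th_ea] at h1
    rw [th_eb] at h2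
    have hta : ta ∈ Y := by
      have : ta ∈ Y ⊓ Subgroup.centralizer {ea} := h1 ▸ Subgroup.mem_zpowers ta
      exact (Subgroup.mem_inf.mp this).1
    have htb : tb ∈ Y := by
      have : tb ∈ Y ⊓ Subgroup.centralizer {eb} := h2 ▸ Subgroup.mem_zpowers tb
      exact (Subgroup.mem_inf.mp this).1
    have hw : ta * tb * ta * tb⁻¹ ∈ Y :=
      Y.mul_mem (Y.mul_mem (Y.mul_mem hta htb) hta) (Y.inv_mem htb)
    have ho : orderOf (ta * tb * ta * tb⁻¹) = 2 := by
      have : Fact (Nat.Prime 2) := ⟨Nat.prime_two⟩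
      exact orderOf_eq_prime (by rw [pow_two]; decide) (by decide)
    rw [← ho]
    exact Subgroup.orderOf_dvd_natCard Y hw

end Cfsg.Agent.S1286
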