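import Mathlib
import Cfsg.Statements.S1292
import Cfsg.Agent.Lib.Helper9.GfsP
import Cfsg.Agent.Lib.Helper9.StronglyEmbedded

set_option autoImplicit false
open Cfsg

namespace Cfsg.Agent.S1292

open Cfsg.Agent.Lib.Helper9

/-- Let G be a finite group such that F*(C_G(t)) = O_2(C_G(t)) for every involution t. Then F*(N_G(T)) = O_2(N_G(T)) for every nontrivial 2-subgroup T of G. -/
theorem result {G : Type*} [Group G] [Finite G] (h : ∀ t : G, orderOf t = 2 → Cfsg.generalizedFittingSubgroup ↥(Subgroup.centralizer ({t} : Set G)) = Cfsg.pCore 2 ↥(Subgroup.centralizer ({t} : Set G))) (T : Subgroup G) (hT : IsPGroup 2 ↥T) (hT1 : T ≠ ⊥) : Cfsg.generalizedFittingSubgroup ↥(Subgroup.normalizer (T : Set G)) = Cfsg.pCore 2 ↥(Subgroup.normalizer (T : Set G)) := by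
  classical
  have : Fact (Nat.Prime 2) := ⟨Nat.prime_two⟩
  -- a central involution of T
  have hTnt : Nontrivial ↥T := (Subgroup.nontrivial_iff_ne_bot T).mpr hT1
  have hZnt : Nontrivial ↥(Subgroup.center ↥T) := hT.center_nontrivial
  have hZ2 : IsPGroup 2 ↥(Subgroup.center ↥T) := hT.to_subgroup _
  have hZeven : Even (Nat.card ↥(Subgroup.center ↥T)) := by
    obtain ⟨n, hn⟩ := IsPGroup.iff_card.mp hZ2
    have hn0 : n ≠ 0 := by
      rintro rfl
      rw [pow_zero] at hn
      have := (Nat.card_eq_one_iff_unique.mp hn).1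
      exact not_subsingleton _ this
    rw [hn]
    exact (Nat.even_pow.mpr ⟨even_two, hn0⟩)
  obtain ⟨t', ht'Z, ht'⟩ := exists_orderOf_two_of_even hZeven
  obtain ⟨t, rfl⟩ : ∃ t : G, t = (t' : G) := ⟨_, rfl⟩
  have ht : orderOf (t' : G) = 2 := by rw [Subgroup.orderOf_coe]; exact ht'
  have htT : (t' : G) ∈ T := t'.2
  have htc : ∀ s ∈ T, s * (t' : G) = (t' : G) * s := by
    intro s hs
    have := (Subgroup.mem_center_iff.mp ht'Z) ⟨s, hs⟩
    exact congrArg Subtype.val this
  -- Φ(C(t))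
  have hC := isPGroup_gfs_of_eq_pCore (h (t' : G) ht)
  have hTC : T ≤ Subgroup.centralizer ({(t' : G)} : Set G) := by
    intro s hs
    rw [Subgroup.mem_centralizer_iff]
    intro y hy
    rw [Set.mem_singleton_iff] at hy
    subst hy
    exact (htc s hs).symm
  have hM := isPGroup_gfs_normalizer_inf hTC hT hC
  -- transfer to the subgroup of N
  have hMN : Subgroup.normalizer (T : Set G) ⊓ Subgroup.centralizer ({(t' : G)} : Set G) ≤
      Subgroup.normalizer (T : Set G) := inf_le_left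
  have hM' := isPGroup_gfs_of_mulEquiv (Subgroup.subgroupOfEquivOfLe hMN).symm hM
  apply gfs_eq_pCore_of_isPGroup
  apply isPGroup_gfs_of_centralizer_pCore_le _ _ hM'
  intro x hx
  rw [Subgroup.mem_subgroupOf]
  refine Subgroup.mem_inf.mpr ⟨x.2, ?_⟩
  rw [Subgroup.mem_centralizer_iff]
  intro y hy
  rw [Set.mem_singleton_iff] at hy
  subst hy
  -- t ∈ T ≤ O_2(N)
  have hn : (T.subgroupOf (Subgroup.normalizer (T : Set G))).Normal := Subgroup.normal_in_normalizer
  have hp : IsPGroup 2 (T.subgroupOf (Subgroup.normalizer (T : Set G))) := hT.comap_subtype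
  have hle := Cfsg.Agent.Lib.Helper1.le_pCore hn hp
  have htN : (t' : G) ∈ Subgroup.normalizer (T : Set G) := Subgroup.le_normalizer htT
  have ht1 : (⟨(t' : G), htN⟩ : ↥(Subgroup.normalizer (T : Set G))) ∈
      Cfsg.pCore 2 ↥(Subgroup.normalizer (T : Set G)) :=
    hle (Subgroup.mem_subgroupOf.mpr htT)
  have := (Subgroup.mem_centralizer_iff.mp hx) _ ht1
  exact congrArg Subtype.val this

end Cfsg.Agent.S1292
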