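import Cfsg.Statements.S1300
import Mathlib

set_option autoImplicit false
open Cfsg

namespace Cfsg.Agent.S1300

theorem core_le_centralizer {G : Type*} [Group G] (p : ℕ) (x : G) :
    Cfsg.centralizerPPrimeCore p x ≤ Subgroup.centralizer ({x} : Set G) := by
  unfold Cfsg.centralizerPPrimeCore
  exact Subgroup.map_subtype_le _

theorem mem_zpowers_of_sq {G : Type*} [Group G] {x a : G} (hx : x ^ 2 = 1)
    (ha : a ∈ Subgroup.zpowers x) : a = 1 ∨ a = x := by
  obtain ⟨k, rfl⟩ := Subgroup.mem_zpowers_iff.mp ha
  rcases Int.even_or_odd' k with ⟨j, hj | hj⟩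
  · left
    rw [hj, zpow_mul, zpow_two, ← pow_two, hx, one_zpow]
  · right
    rw [hj, zpow_add, zpow_mul, zpow_two, ← pow_two, hx, one_zpow, one_mul, zpow_one]

/-- For a finite group G, balance in the sense of commuting involutions is the same as 1-balance for the prime 2. -/
theorem result {G : Type*} [Group G] [Finite G] : Cfsg.IsBalanced G ↔ Cfsg.IsKBalanced 2 1 G := by
  constructor
  · intro hbal A hA hcard b hb hcomm
    -- pick a ≠ 1 in A
    have hnt : Nontrivial ↥A := by
      rw [← Finite.one_lt_card_iff_nontrivial, hcard]; norm_num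
    obtain ⟨⟨a, haA⟩, ha1⟩ := exists_ne (1 : ↥A)
    have ha1' : a ≠ 1 := fun h => ha1 (Subtype.ext h)
    have ha2 : orderOf a = 2 := orderOf_eq_prime (hA.2 a haA) ha1'
    have h1 : Cfsg.signalizerDelta 2 A ≤ Cfsg.centralizerPPrimeCore 2 a := by
      unfold Cfsg.signalizerDelta
      exact iInf_le (fun a : {a : G // a ∈ A ∧ a ≠ 1} => Cfsg.centralizerPPrimeCore 2 (a : G))
        ⟨a, haA, ha1'⟩
    have h2 := hbal a b ha2 hb (hcomm a haA)
    calc Cfsg.signalizerDelta 2 A ⊓ Subgroup.centralizer {b}
        ≤ Cfsg.centralizerPPrimeCore 2 a ⊓ Subgroup.centralizer {b} := inf_le_inf_right _ h1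
      _ = Cfsg.centralizerPPrimeCore 2 b ⊓ Subgroup.centralizer {a} := h2
      _ ≤ Cfsg.centralizerPPrimeCore 2 b := inf_le_left
  · intro hk
    -- one inclusion for each ordered pair
    have key : ∀ x y : G, orderOf x = 2 → orderOf y = 2 → x * y = y * x →
        Cfsg.centralizerPPrimeCore 2 x ⊓ Subgroup.centralizer {y} ≤
          Cfsg.centralizerPPrimeCore 2 y ⊓ Subgroup.centralizer {x} := by
      intro x y hx hy hxy
      have hx2 : x ^ 2 = 1 := by rw [← hx]; exact pow_orderOf_eq_one x
      have hx1 : x ≠ 1 := by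
        intro h; rw [h, orderOf_one] at hx; omega
      have hA : Cfsg.IsElementaryAbelian 2 (Subgroup.zpowers x) := by
        refine ⟨inferInstance, ?_⟩
        intro a ha
        rcases mem_zpowers_of_sq hx2 ha with h | h
        · rw [h, one_pow]
        · rw [h, hx2]
      have hcard : Nat.card (Subgroup.zpowers x) = 2 ^ 1 := by
        rw [Nat.card_zpowers, hx, pow_one]
      have hcomm : ∀ a ∈ Subgroup.zpowers x, a * y = y * a := by
        intro a ha
        rcases mem_zpowers_of_sq hx2 ha with h | h
        · rw [h, one_mul, mul_one]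
        · rw [h, hxy]
      have h1 := hk (Subgroup.zpowers x) hA hcard y hy hcomm
      have h2 : Cfsg.centralizerPPrimeCore 2 x ≤ Cfsg.signalizerDelta 2 (Subgroup.zpowers x) := by
        unfold Cfsg.signalizerDelta
        apply le_iInf
        rintro ⟨a, ha, ha1⟩
        rcases mem_zpowers_of_sq hx2 ha with h | h
        · exact absurd h ha1
        · simp only [h]; exact le_rfl
      apply le_inf
      · exact (inf_le_inf_right _ h2).trans h1
      · exact inf_le_left.trans (core_le_centralizer 2 x)
    intro x y hx hy hxy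
    exact le_antisymm (key x y hx hy hxy) (key y x hy hx hxy.symm)

end Cfsg.Agent.S1300
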