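import Mathlib
import Cfsg.Statements.S1303
import Cfsg.Agent.Lib.Helper1.Cores

set_option autoImplicit false
open Cfsg

namespace Cfsg.Agent.S1303

open Cfsg.Agent.Lib.Helper1

abbrev SL23 := Matrix.SpecialLinearGroup (Fin 2) (ZMod 3)

theorem q8_mul : ∀ x y : SL23, x * x * x * x = 1 → y * y * y * y = 1 →
    (x * y) * (x * y) * (x * y) * (x * y) = 1 := by decide

theorem q8_cent : ∀ x : SL23, (∀ q : SL23, q * q * q * q = 1 → x * q = q * x) →
    x * x * x * x = 1 := by decide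

theorem invol_central : ∀ t : SL23, t * t = 1 → t ≠ 1 → ∀ g : SL23, g * t = t * g := by decide

theorem neg_one_normal_closure : ∀ x : SL23, x ≠ 1 →
    (x = -1 ∨ x * x = -1 ∨ x * x * x = -1) ∨
    ∃ g : SL23, (x * (g * x * g⁻¹) = -1 ∨ (x * (g * x * g⁻¹)) * (x * (g * x * g⁻¹)) = -1 ∨
      (x * (g * x * g⁻¹)) * (x * (g * x * g⁻¹)) * (x * (g * x * g⁻¹)) = -1) := by decide

def Q8 : Subgroup SL23 where
  carrier := {x | x * x * x * x = 1}
  mul_mem' := fun {x y} hx hy => q8_mul x y hx hy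
  one_mem' := by simp
  inv_mem' := by
    intro x hx
    show x⁻¹ * x⁻¹ * x⁻¹ * x⁻¹ = 1
    have : x⁻¹ * x⁻¹ * x⁻¹ * x⁻¹ = (x * x * x * x)⁻¹ := by group
    rw [this, hx, inv_one]

theorem mem_Q8 {x : SL23} : x ∈ Q8 ↔ x * x * x * x = 1 := Iff.rfl

instance Q8_normal : Q8.Normal := by
  constructor
  intro x hx g
  rw [mem_Q8] at hx ⊢
  have : g * x * g⁻¹ * (g * x * g⁻¹) * (g * x * g⁻¹) * (g * x * g⁻¹) = g * (x * x * x * x) * g⁻¹ := by
    group
  rw [this, hx]; group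

theorem Q8_isPGroup : IsPGroup 2 Q8 := by
  intro x
  refine ⟨2, ?_⟩
  apply Subtype.ext
  have := mem_Q8.mp x.2
  show ((x ^ 2 ^ 2 : Q8) : SL23) = 1
  rw [Subgroup.coe_pow]
  rw [← this]
  norm_num [pow_succ, mul_assoc]

theorem neg_one_sq : (-1 : SL23) * (-1) = 1 := by decide
theorem neg_one_ne : (-1 : SL23) ≠ 1 := by decide

theorem orderOf_neg_one : orderOf (-1 : SL23) = 2 := by
  have : Fact (Nat.Prime 2) := ⟨Nat.prime_two⟩
  exact orderOf_eq_prime (by rw [pow_two]; exact neg_one_sq) neg_one_ne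

theorem odd_normal_eq_bot (N : Subgroup SL23) (hN : N.Normal) (hodd : (Nat.card N).Coprime 2) :
    N = ⊥ := by
  rw [Subgroup.eq_bot_iff_forall]
  intro x hx
  by_contra hx1
  have hneg : (-1 : SL23) ∈ N := by
    rcases neg_one_normal_closure x hx1 with (h | h | h) | ⟨g, h⟩
    · rw [← h]; exact hx
    · rw [← h]; exact N.mul_mem hx hx
    · rw [← h]; exact N.mul_mem (N.mul_mem hx hx) hx
    · have hc : x * (g * x * g⁻¹) ∈ N := N.mul_mem hx (hN.conj_mem x hx g)
      rcases h with h | h | h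
      · rw [← h]; exact hc
      · rw [← h]; exact N.mul_mem hc hc
      · rw [← h]; exact N.mul_mem (N.mul_mem hc hc) hc
  have h2 : 2 ∣ Nat.card N := by
    have := Subgroup.orderOf_dvd_natCard N hneg
    rwa [orderOf_neg_one] at this
  have := Nat.Coprime.eq_one_of_dvd hodd.symm h2
  omega

theorem pPrimeCore_eq_bot : Cfsg.pPrimeCore 2 SL23 = ⊥ := by
  unfold Cfsg.pPrimeCore
  rw [sSup_eq_bot]
  rintro N ⟨hN, hodd⟩
  exact odd_normal_eq_bot N hN hodd

theorem Q8_le : Q8 ≤ Cfsg.pPrimePCore 2 SL23 := by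
  unfold Cfsg.pPrimePCore
  rw [← Subgroup.map_le_iff_le_comap]
  have := pPrimeCore_normal (G := SL23) 2
  apply le_pCore
  · exact Subgroup.Normal.map Q8_normal _ (QuotientGroup.mk'_surjective _)
  · exact Q8_isPGroup.map _

def u3 : SL23 := ⟨!![1, 1; 0, 1], by decide⟩

theorem u3_cube : u3 * u3 * u3 = 1 := by decide
theorem u3_ne : u3 ≠ 1 := by decide

theorem orderOf_u3 : orderOf u3 = 3 := by
  have : Fact (Nat.Prime 3) := ⟨by norm_num⟩
  exact orderOf_eq_prime (by rw [pow_succ, pow_two]; exact u3_cube) u3_ne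

/-- The group X = SL(2, 3): it is 2-constrained, O_{2'}(X) = 1, its centre A = Z(X) contains every involution of X = C_X(A), and X has a subgroup of order 3 (normalized by A) not contained in O_{2'}(X). -/
theorem result : Cfsg.IsPConstrained 2 (Matrix.SpecialLinearGroup (Fin 2) (ZMod 3)) ∧ Cfsg.pPrimeCore 2 (Matrix.SpecialLinearGroup (Fin 2) (ZMod 3)) = ⊥ ∧ (∀ t : Matrix.SpecialLinearGroup (Fin 2) (ZMod 3), orderOf t = 2 → t ∈ Subgroup.center (Matrix.SpecialLinearGroup (Fin 2) (ZMod 3))) ∧ ∃ Q : Subgroup (Matrix.SpecialLinearGroup (Fin 2) (ZMod 3)), Nat.card ↥Q = 3 ∧ ¬ (Q ≤ Cfsg.pPrimeCore 2 (Matrix.SpecialLinearGroup (Fin 2) (ZMod 3))) := by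
  have : Fact (Nat.Prime 2) := ⟨Nat.prime_two⟩
  refine ⟨?_, pPrimeCore_eq_bot, ?_, ?_⟩
  · intro P
    obtain ⟨M, hM⟩ : ∃ M, M = Cfsg.pPrimePCore 2 SL23 := ⟨_, rfl⟩
    -- Q8 ≤ P.map subtype
    have h1 : Q8.subgroupOf (Cfsg.pPrimePCore 2 SL23) ≤ (P : Subgroup _) := by
      have hn : (Q8.subgroupOf (Cfsg.pPrimePCore 2 SL23)).Normal := inferInstance
      have hp : IsPGroup 2 (Q8.subgroupOf (Cfsg.pPrimePCore 2 SL23)) := Q8_isPGroup.comap_subtype
      exact (le_pCore hn hp).trans (pCore_le_sylow P)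
    have h2 : Q8 ≤ (P : Subgroup _).map (Cfsg.pPrimePCore 2 SL23).subtype := by
      intro x hx
      exact ⟨⟨x, Q8_le hx⟩, h1 (Subgroup.mem_subgroupOf.mpr hx), rfl⟩
    intro x hx
    apply Q8_le
    rw [mem_Q8]
    apply q8_cent
    intro q hq
    have := (Subgroup.mem_centralizer_iff.mp hx) q (h2 (mem_Q8.mpr hq))
    exact this.symm
  · intro t ht
    rw [Subgroup.mem_center_iff]
    intro g
    have h2 : t * t = 1 := by
      have := pow_orderOf_eq_one t
      rwa [ht, pow_two] at this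
    have h1 : t ≠ 1 := by
      intro h; rw [h, orderOf_one] at ht; omega
    exact invol_central t h2 h1 g
  · refine ⟨Subgroup.zpowers u3, ?_, ?_⟩
    · rw [Nat.card_zpowers, orderOf_u3]
    · intro h
      rw [pPrimeCore_eq_bot] at h
      have := h (Subgroup.mem_zpowers u3)
      rw [Subgroup.mem_bot] at this
      exact u3_ne this

end Cfsg.Agent.S1303
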