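import Mathlib
import Cfsg.Statements.S1306
import Cfsg.Agent.Lib.Helper9.Layer2
import Cfsg.Agent.Lib.Helper9.StronglyEmbedded

set_option autoImplicit false
open Cfsg

namespace Cfsg.Agent.S1306

open Cfsg.Agent.Lib.Helper9

variable {G : Type*} [Group G]

theorem conjMap_centralizer_set (L : Subgroup G) (g : G) :
    (Subgroup.centralizer (L : Set G)).map (MulAut.conj g).toMonoidHom =
      Subgroup.centralizer ((L.map (MulAut.conj g).toMonoidHom : Subgroup G) : Set G) := by
  ext x
  rw [mem_conjMap, Subgroup.mem_centralizer_iff, Subgroup.mem_centralizer_iff]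
  constructor
  · intro h y hy
    rw [SetLike.mem_coe, mem_conjMap] at hy
    have := h _ hy
    have e : y * x = g * ((g⁻¹ * y * g) * (g⁻¹ * x * g)) * g⁻¹ := by group
    rw [e, this]; group
  · intro h y hy
    have hy' : g * y * g⁻¹ ∈ L.map (MulAut.conj g).toMonoidHom := conj_mem_conjMap hy
    have := h _ hy'
    have e : y * (g⁻¹ * x * g) = g⁻¹ * ((g * y * g⁻¹) * x) * g := by group
    rw [e, this]; group

theorem conjMap_centralizer_singleton (y g : G) :
    (Subgroup.centralizer ({y} : Set G)).map (MulAut.conj g).toMonoidHom =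
      Subgroup.centralizer ({g * y * g⁻¹} : Set G) := by
  ext x
  rw [mem_conjMap, Subgroup.mem_centralizer_iff, Subgroup.mem_centralizer_iff]
  constructor
  · intro h z hz
    rw [Set.mem_singleton_iff] at hz
    subst hz
    have := h y rfl
    have e : g * y * g⁻¹ * x = g * (y * (g⁻¹ * x * g)) * g⁻¹ := by group
    rw [e, this]; group
  · intro h z hz
    rw [Set.mem_singleton_iff] at hz
    subst hz
    have := h _ rfl
    have e : z * (g⁻¹ * x * g) = g⁻¹ * (g * z * g⁻¹ * x) * g := by group
    rw [e, this]; group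

/-- conjugation transports "component of a subgroup" -/
theorem isComponent_subgroupOf_conj {L H : Subgroup G} (hLH : L ≤ H)
    (hL : Cfsg.IsComponent (L.subgroupOf H)) (g : G) :
    Cfsg.IsComponent ((L.map (MulAut.conj g).toMonoidHom).subgroupOf
      (H.map (MulAut.conj g).toMonoidHom)) := by
  have h1 := isComponent_map_equiv
    (H.equivMapOfInjective (MulAut.conj g).toMonoidHom (MulAut.conj g).injective) hL
  have h2 : (L.subgroupOf H).map
      (H.equivMapOfInjective (MulAut.conj g).toMonoidHom (MulAut.conj g).injective).toMonoidHom =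
      (L.map (MulAut.conj g).toMonoidHom).subgroupOf (H.map (MulAut.conj g).toMonoidHom) := by
    ext ⟨x, hx⟩
    rw [Subgroup.mem_subgroupOf]
    constructor
    · rintro ⟨⟨l, hlH⟩, hl, hlx⟩
      have hl' : l ∈ L := Subgroup.mem_subgroupOf.mp hl
      have : (MulAut.conj g).toMonoidHom l = x := congrArg Subtype.val hlx
      exact ⟨l, hl', this⟩
    · rintro ⟨l, hl, hlx⟩
      refine ⟨⟨l, hLH hl⟩, Subgroup.mem_subgroupOf.mpr hl, ?_⟩
      apply Subtype.ext
      exact hlx
  rw [← h2]
  exact h1

/-- Let G be finite, x an involution and L ≤ C_G(x) a component of C_G(x). Suppose L is a component of C_G(y) for every involution y ∈ C_G(L), and ⁅L, g L g⁻¹⁆ ≠ 1 whenever g L g⁻¹ ≠ L. Then L is a standard subgroup of G. -/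
theorem result {G : Type*} [Group G] [Finite G] (x : G) (hx : orderOf x = 2) (L : Subgroup G) (hLx : L ≤ Subgroup.centralizer ({x} : Set G)) (hL : Cfsg.IsComponent (L.subgroupOf (Subgroup.centralizer ({x} : Set G)))) (hne : ∀ y : G, orderOf y = 2 → y ∈ Subgroup.centralizer (L : Set G) → L ≤ Subgroup.centralizer ({y} : Set G) ∧ Cfsg.IsComponent (L.subgroupOf (Subgroup.centralizer ({y} : Set G)))) (hnc : ∀ g : G, L.map (MulAut.conj g).toMonoidHom ≠ L → ⁅L, L.map (MulAut.conj g).toMonoidHom⁆ ≠ ⊥) : Cfsg.IsStandardSubgroup L := by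
  classical
  -- Claim A
  have claimA : ∀ (y g : G), orderOf y = 2 → y ∈ Subgroup.centralizer (L : Set G) →
      y ∈ (Subgroup.centralizer (L : Set G)).map (MulAut.conj g).toMonoidHom →
      L.map (MulAut.conj g).toMonoidHom = L := by
    intro y g hy hyK hyKg
    by_contra hcon
    rw [mem_conjMap] at hyKg
    have hy' : orderOf (g⁻¹ * y * g) = 2 := by
      have := orderOf_conj_eq g⁻¹ y
      rw [inv_inv] at this
      rw [this]; exact hy
    obtain ⟨h1, h2⟩ := hne _ hy' hyKg
    obtain ⟨h3, h4⟩ := hne y hy hyK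
    have h5 := isComponent_subgroupOf_conj h1 h2 g
    have h6 : (Subgroup.centralizer ({g⁻¹ * y * g} : Set G)).map (MulAut.conj g).toMonoidHom =
        Subgroup.centralizer ({y} : Set G) := by
      rw [conjMap_centralizer_singleton]
      congr 2
      group
    rw [h6] at h5
    have hLg : L.map (MulAut.conj g).toMonoidHom ≤ Subgroup.centralizer ({y} : Set G) := by
      rw [← h6]; exact conjMap_mono h1 g
    have hne' : L.subgroupOf (Subgroup.centralizer ({y} : Set G)) ≠
        (L.map (MulAut.conj g).toMonoidHom).subgroupOf (Subgroup.centralizer ({y} : Set G)) := by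
      intro h
      apply hcon
      apply le_antisymm
      · exact le_of_subgroupOf_le hLg h.ge
      · exact le_of_subgroupOf_le h3 h.le
    have h7 := comp_commutator_eq_bot_of_ne h4 h5 hne'
    exact hnc g hcon (commutator_eq_bot_of_subgroupOf h3 hLg h7)
  have hxK : x ∈ Subgroup.centralizer (L : Set G) := by
    rw [Subgroup.mem_centralizer_iff]
    intro l hl
    exact ((Subgroup.mem_centralizer_iff.mp (hLx hl)) x rfl).symm
  have hKconj : ∀ g : G, L.map (MulAut.conj g).toMonoidHom = L →
      (Subgroup.centralizer (L : Set G)).map (MulAut.conj g).toMonoidHom =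
        Subgroup.centralizer (L : Set G) := by
    intro g hg
    rw [conjMap_centralizer_set, hg]
  refine ⟨?_, ⟨?_, ?_⟩, hnc, ?_⟩
  · exact qs_of_mulEquiv (Subgroup.subgroupOfEquivOfLe hLx) hL.2
  · exact even_card_of_mem_orderOf_two hx hxK
  · intro g hg
    by_contra hodd
    rw [Nat.not_odd_iff_even] at hodd
    obtain ⟨y, hyK, hy⟩ := exists_orderOf_two_of_even hodd
    obtain ⟨hy1, hy2⟩ := Subgroup.mem_inf.mp hyK
    have := claimA y g hy hy1 hy2
    exact hg (mem_normalizer_of_conjMap_eq_self (hKconj g this))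
  · apply le_antisymm
    · intro g hg
      exact mem_normalizer_of_conjMap_eq_self (hKconj g (conjMap_eq_self_of_mem_normalizer hg))
    · intro g hg
      have hK := conjMap_eq_self_of_mem_normalizer hg
      have := claimA x g hx hxK (by rw [hK]; exact hxK)
      exact mem_normalizer_of_conjMap_eq_self this

end Cfsg.Agent.S1306
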