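import Mathlib
import Cfsg.Statements.S1314
import Cfsg.Agent.Lib.Helper9.Layer3
import Cfsg.Agent.Lib.Helper9.StronglyEmbedded

set_option autoImplicit false
open Cfsg

namespace Cfsg.Agent.S1314

open Cfsg.Agent.Lib.Helper9
open scoped commutatorElement

/-- Let x be an involution of a group G and L a perfect subgroup with ⁅L, x L x⁻¹⁆ = 1. Then l ↦ l (x l x⁻¹) is a group homomorphism π from L to G whose kernel is central in L and whose image lies in C_G(x); and the commutator subgroup of C_{L ⊔ xLx⁻¹}(x) equals the image of π. -/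
theorem result {G : Type*} [Group G] [Finite G] (x : G) (hx : orderOf x = 2) (L : Subgroup G) (hperf : ⁅L, L⁆ = L) (hcomm : ⁅L, L.map (MulAut.conj x).toMonoidHom⁆ = ⊥) : ∃ π : ↥L →* G, (∀ l : ↥L, π l = (l : G) * (x * (l : G) * x⁻¹)) ∧ π.ker ≤ Subgroup.center ↥L ∧ π.range ≤ Subgroup.centralizer ({x} : Set G) ∧ ⁅(L ⊔ L.map (MulAut.conj x).toMonoidHom) ⊓ Subgroup.centralizer ({x} : Set G), (L ⊔ L.map (MulAut.conj x).toMonoidHom) ⊓ Subgroup.centralizer ({x} : Set G)⁆ = π.range := by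
  classical
  have hxx : x * x = 1 := sq_of_orderOf_two hx
  have hxinv : x⁻¹ = x := inv_eq_of_mul_eq_one_left hxx
  obtain ⟨Lx, hLx⟩ : ∃ Lx, Lx = L.map (MulAut.conj x).toMonoidHom := ⟨_, rfl⟩
  rw [← hLx] at hcomm ⊢
  -- elementwise commutation
  have hc : ∀ a ∈ L, ∀ b ∈ Lx, a * b = b * a := by
    intro a ha b hb
    have h1 : L ≤ Subgroup.centralizer (Lx : Set G) :=
      Subgroup.commutator_eq_bot_iff_le_centralizer.mp hcomm
    exact ((Subgroup.mem_centralizer_iff.mp (h1 ha)) b hb).symm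
  have hconj : ∀ a ∈ L, x * a * x⁻¹ ∈ Lx := fun a ha => hLx ▸ conj_mem_conjMap ha
  have hconj' : ∀ b ∈ Lx, x * b * x⁻¹ ∈ L := by
    intro b hb
    rw [hLx, mem_conjMap] at hb
    rw [hxinv] at hb ⊢
    exact hb
  -- the homomorphism
  let π : ↥L →* G :=
    { toFun := fun l => (l : G) * (x * (l : G) * x⁻¹)
      map_one' := by simp
      map_mul' := by
        intro l₁ l₂
        have h := hc l₂.1 l₂.2 (x * l₁.1 * x⁻¹) (hconj l₁.1 l₁.2)
        show (l₁.1 * l₂.1) * (x * (l₁.1 * l₂.1) * x⁻¹) = l₁.1 * (x * l₁.1 * x⁻¹) * (l₂.1 * (x * l₂.1 * x⁻¹))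
        have e1 : (l₁.1 * l₂.1) * (x * (l₁.1 * l₂.1) * x⁻¹) = l₁.1 * (l₂.1 * (x * l₁.1 * x⁻¹)) * (x * l₂.1 * x⁻¹) := by group
        rw [e1, h]; group }
  have hπ : ∀ l : ↥L, π l = (l : G) * (x * (l : G) * x⁻¹) := fun l => rfl
  have hrangeC : π.range ≤ Subgroup.centralizer ({x} : Set G) := by
    rintro _ ⟨l, rfl⟩
    rw [Subgroup.mem_centralizer_iff]
    intro y hy
    rw [Set.mem_singleton_iff] at hy
    subst hy
    rw [hπ]
    have h := hc l.1 l.2 (y * l.1 * y⁻¹) (hconj l.1 l.2)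
    rw [hxinv] at h ⊢
    -- y * (l * (y l y)) = (l * (y l y)) * y
    have e1 : y * (l.1 * (y * l.1 * y)) = (y * l.1 * y) * l.1 * y := by
      calc y * (l.1 * (y * l.1 * y)) = y * l.1 * y * l.1 * y := by group
        _ = (y * l.1 * y) * l.1 * y := by group
    rw [e1, ← h]
  have hrangeS : π.range ≤ L ⊔ Lx := by
    rintro _ ⟨l, rfl⟩
    rw [hπ]
    exact Subgroup.mul_mem _ (Subgroup.mem_sup_left l.2) (Subgroup.mem_sup_right (hconj l.1 l.2))
  refine ⟨π, hπ, ?_, hrangeC, ?_⟩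
  · -- kernel central
    intro l hl
    rw [MonoidHom.mem_ker, hπ] at hl
    rw [Subgroup.mem_center_iff]
    intro g
    apply Subtype.ext
    show g.1 * l.1 = l.1 * g.1
    have hl' : l.1 = (x * l.1 * x⁻¹)⁻¹ := eq_inv_of_mul_eq_one_left hl
    have hlLx : l.1 ∈ Lx := by
      rw [hl']; exact Lx.inv_mem (hconj l.1 l.2)
    exact hc g.1 g.2 l.1 hlLx
  · -- commutator
    obtain ⟨K, hK⟩ : ∃ K, K = (L ⊔ Lx) ⊓ Subgroup.centralizer ({x} : Set G) := ⟨_, rfl⟩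
    rw [← hK]
    apply le_antisymm
    · -- ⊆
      -- every k ∈ K is π a * c with c central in L ⊔ Lx
      have hdecomp : ∀ k ∈ K, ∃ a : ↥L, ∃ c : G, k = π a * c ∧ c ∈ L ⊔ Lx ∧
          ∀ y ∈ L ⊔ Lx, y * c = c * y := by
        intro k hk
        rw [hK] at hk
        obtain ⟨hkS, hkC⟩ := Subgroup.mem_inf.mp hk
        obtain ⟨a, ha, b', hb', rfl⟩ := (mem_sup_of_commute hc).mp hkS
        have hkx := (Subgroup.mem_centralizer_iff.mp hkC) x rfl
        -- b = x b' x⁻¹ ∈ L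
        obtain ⟨b, hbdef⟩ : ∃ b, b = x * b' * x⁻¹ := ⟨_, rfl⟩
        have hbL : b ∈ L := hbdef ▸ hconj' b' hb'
        have hb'eq : b' = x * b * x⁻¹ := by
          rw [hbdef, hxinv]
          calc b' = (x * x) * b' * (x * x) := by rw [hxx]; group
            _ = x * (x * b' * x) * x := by group
        -- relation: (x a x⁻¹) * b = a * b'
        have hrel : (x * a * x⁻¹) * b = a * b' := by
          have : x * (a * b') * x⁻¹ = a * b' := by
            rw [hkx]; group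
          rw [← this, hbdef]; group
        -- c₀ = a⁻¹ b ∈ L ∩ Lx
        have hc₀L : a⁻¹ * b ∈ L := L.mul_mem (L.inv_mem ha) hbL
        have hc₀Lx : a⁻¹ * b ∈ Lx := by
          have h1 := hc b hbL (x * a * x⁻¹) (hconj a ha)
          -- b * (x a x⁻¹) = a * b'
          rw [← h1] at hrel
          have : a⁻¹ * b = b' * (x * a * x⁻¹)⁻¹ := by
            rw [eq_mul_inv_iff_mul_eq, mul_assoc, hrel]; group
          rw [this]
          exact Lx.mul_mem hb' (Lx.inv_mem (hconj a ha))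
        -- c = x (a⁻¹ b) x⁻¹
        refine ⟨⟨a, ha⟩, x * (a⁻¹ * b) * x⁻¹, ?_, ?_, ?_⟩
        · rw [hπ, hb'eq]; group
        · exact Subgroup.mem_sup_right (hconj _ hc₀L)
        · have hcL : x * (a⁻¹ * b) * x⁻¹ ∈ L := hconj' _ hc₀Lx
          have hcLx : x * (a⁻¹ * b) * x⁻¹ ∈ Lx := hconj _ hc₀L
          intro y hy
          obtain ⟨y₁, hy₁, y₂, hy₂, rfl⟩ := (mem_sup_of_commute hc).mp hy
          have e1 := hc y₁ hy₁ _ hcLx
          have e2 := hc _ hcL y₂ hy₂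
          rw [mul_assoc, ← e2, ← mul_assoc, e1, mul_assoc]
      rw [Subgroup.commutator_le]
      intro k₁ hk₁ k₂ hk₂
      obtain ⟨a₁, c₁, rfl, hc₁S, hc₁⟩ := hdecomp k₁ hk₁
      obtain ⟨a₂, c₂, rfl, hc₂S, hc₂⟩ := hdecomp k₂ hk₂
      have hp₁ : π a₁ ∈ L ⊔ Lx := hrangeS ⟨a₁, rfl⟩
      have hp₂ : π a₂ ∈ L ⊔ Lx := hrangeS ⟨a₂, rfl⟩
      have : ⁅π a₁ * c₁, π a₂ * c₂⁆ = ⁅π a₁, π a₂⁆ := by
        rw [commutatorElement_def, commutatorElement_def]
        have e1 := hc₁ _ hp₁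
        have e2 := hc₁ _ hp₂
        have e3 := hc₂ _ hp₁
        have e4 := hc₂ _ hp₂
        have e5 := hc₂ _ hc₁S
        -- move c's
        have i1 : (π a₁ * c₁)⁻¹ = (π a₁)⁻¹ * c₁⁻¹ := by
          rw [mul_inv_rev]
          have : c₁⁻¹ * (π a₁)⁻¹ = (π a₁ * c₁)⁻¹ := by rw [mul_inv_rev]
          rw [← mul_inv_rev, ← mul_inv_rev, e1]
        have i2 : (π a₂ * c₂)⁻¹ = (π a₂)⁻¹ * c₂⁻¹ := by
          rw [← mul_inv_rev, e4]
        rw [i1, i2]
        calc π a₁ * c₁ * (π a₂ * c₂) * ((π a₁)⁻¹ * c₁⁻¹) * ((π a₂)⁻¹ * c₂⁻¹)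
            = π a₁ * (c₁ * π a₂) * (c₂ * (π a₁)⁻¹) * c₁⁻¹ * ((π a₂)⁻¹ * c₂⁻¹) := by group
          _ = π a₁ * (π a₂ * c₁) * ((π a₁)⁻¹ * c₂) * c₁⁻¹ * ((π a₂)⁻¹ * c₂⁻¹) := by
              rw [← e2]
              have : c₂ * (π a₁)⁻¹ = (π a₁)⁻¹ * c₂ := by
                rw [eq_inv_mul_iff_mul_eq, ← mul_assoc, e3, mul_assoc, mul_inv_cancel, mul_one]
              rw [this]
          _ = π a₁ * π a₂ * (c₁ * (π a₁)⁻¹) * (c₂ * c₁⁻¹) * ((π a₂)⁻¹ * c₂⁻¹) := by group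
          _ = π a₁ * π a₂ * ((π a₁)⁻¹ * c₁) * (c₁⁻¹ * c₂) * ((π a₂)⁻¹ * c₂⁻¹) := by
              have h1 : c₁ * (π a₁)⁻¹ = (π a₁)⁻¹ * c₁ := by
                rw [eq_inv_mul_iff_mul_eq, ← mul_assoc, e1, mul_assoc, mul_inv_cancel, mul_one]
              have h2 : c₂ * c₁⁻¹ = c₁⁻¹ * c₂ := by
                rw [eq_inv_mul_iff_mul_eq, ← mul_assoc, e5, mul_assoc, mul_inv_cancel, mul_one]
              rw [h1, h2]
          _ = π a₁ * π a₂ * (π a₁)⁻¹ * (c₂ * (π a₂)⁻¹) * c₂⁻¹ := by group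
          _ = π a₁ * π a₂ * (π a₁)⁻¹ * ((π a₂)⁻¹ * c₂) * c₂⁻¹ := by
              have : c₂ * (π a₂)⁻¹ = (π a₂)⁻¹ * c₂ := by
                rw [eq_inv_mul_iff_mul_eq, ← mul_assoc, e4, mul_assoc, mul_inv_cancel, mul_one]
              rw [this]
          _ = π a₁ * π a₂ * (π a₁)⁻¹ * (π a₂)⁻¹ := by group
      rw [this, ← map_commutatorElement]
      exact ⟨_, rfl⟩
    · -- ⊇
      have hperf' : ⁅(⊤ : Subgroup ↥L), (⊤ : Subgroup ↥L)⁆ = (⊤ : Subgroup ↥L) := by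
        apply Subgroup.map_injective L.subtype_injective
        rw [Subgroup.map_commutator, ← MonoidHom.range_eq_map, Subgroup.range_subtype, hperf]
      have hrK : π.range ≤ K := by
        rw [hK]; exact le_inf hrangeS hrangeC
      calc π.range = (⊤ : Subgroup ↥L).map π := MonoidHom.range_eq_map π
        _ = (⁅(⊤ : Subgroup ↥L), (⊤ : Subgroup ↥L)⁆).map π := by rw [hperf']
        _ = ⁅π.range, π.range⁆ := by rw [Subgroup.map_commutator, ← MonoidHom.range_eq_map]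
        _ ≤ ⁅K, K⁆ := Subgroup.commutator_mono hrK hrK

end Cfsg.Agent.S1314
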