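import Cfsg.Statements.S1319
import Cfsg.Agent.Lib.Helper9.Layer2

set_option autoImplicit false
open Cfsg

namespace Cfsg.Agent.S1319

open Cfsg.Agent.Lib.Helper9

/-- the layer of a subnormal subgroup lies in the layer of the whole group -/
theorem map_layer_le_of_subnormal {X : Type*} [Group X] {A : Subgroup X} (hsn : A.IsSubnormal) :
    (Cfsg.layer ↥A).map A.subtype ≤ Cfsg.layer X := by
  unfold Cfsg.layer
  rw [sSup_eq_iSup, Subgroup.map_iSup]
  apply iSup_le
  intro K
  rw [Subgroup.map_iSup]
  apply iSup_le
  intro hK
  exact le_sSup ((isComponent_map_subtype_iff hsn K).mp hK)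

/-- the layer normalizes every subnormal subgroup -/
theorem layer_le_normalizer_of_subnormal {X : Type*} [Group X] [Finite X] {A : Subgroup X}
    (hsn : A.IsSubnormal) : Cfsg.layer X ≤ Subgroup.normalizer (A : Set X) := by
  apply sSup_le
  intro L hL
  rcases comp_le_or_commutator_eq_bot hL hsn with h | h
  · exact h.trans Subgroup.le_normalizer
  · exact (Subgroup.commutator_eq_bot_iff_le_centralizer.mp h).trans
      (Subgroup.centralizer_le_normalizer _)

/-- Let A be a subnormal subgroup of the finite group X with E(A) = A. Then A ≤ E(X) and A is normal in E(X). -/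
theorem result {X : Type*} [Group X] [Finite X] (A : Subgroup X) (hsn : A.IsSubnormal) (hA : Cfsg.layer ↥A = ⊤) : A ≤ Cfsg.layer X ∧ (A.subgroupOf (Cfsg.layer X)).Normal := by
  have h1 : A ≤ Cfsg.layer X := by
    have := map_layer_le_of_subnormal hsn
    rwa [hA, ← MonoidHom.range_eq_map, Subgroup.range_subtype] at this
  refine ⟨h1, ?_⟩
  rw [Subgroup.normal_subgroupOf_iff_le_normalizer h1]
  exact layer_le_normalizer_of_subnormal hsn

end Cfsg.Agent.S1319
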