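import Cfsg.Statements.S1320
import Cfsg.Agent.Lib.Helper10.Layer

set_option autoImplicit false
open Cfsg

namespace Cfsg.Agent.S1320

open Cfsg.Agent.Lib.Helper9 Cfsg.Agent.Lib.Helper10

/-- Let B be a normal subgroup of the finite group A. Then F*(A) ∩ B = F*(B). -/
theorem result {A : Type*} [Group A] [Finite A] (B : Subgroup A) [B.Normal] : Cfsg.generalizedFittingSubgroup A ⊓ B = (Cfsg.generalizedFittingSubgroup ↥B).map B.subtype := by
  have hB : B.IsSubnormal := Subgroup.Normal.isSubnormal inferInstance
  apply le_antisymm _ (map_gfs_le_of_subnormal hB)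
  have hSn : (Cfsg.generalizedFittingSubgroup A ⊓ B).Normal := inferInstance
  have hS : (Cfsg.generalizedFittingSubgroup A ⊓ B).IsSubnormal := hSn.isSubnormal
  have h1 := le_sSup_comp_sup_fitting_inf hS inf_le_left
  refine h1.trans ?_
  unfold Cfsg.generalizedFittingSubgroup
  rw [Subgroup.map_sup, map_fittingSubgroup_eq_of_subnormal hB, map_layer_eq_sSup hB]
  apply sup_le_sup
  · exact sSup_le_sSup fun L hL => ⟨hL.1, hL.2.trans inf_le_right⟩
  · exact le_inf inf_le_left (inf_le_right.trans inf_le_right)

end Cfsg.Agent.S1320
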