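import Cfsg.Statements.S1321
import Cfsg.Agent.Lib.Helper9.Layer2
import Cfsg.Agent.Lib.Helper1.Coprime

set_option autoImplicit false
open Cfsg

namespace Cfsg.Agent.S1321

open Cfsg.Agent.Lib.Helper9

/-- Let X be finite and U ≤ X. Then E(X) is generated by C_{E(X)}(U) together with ⁅E(X), U⁆ (indeed it is their product, ⁅E(X), U⁆ being normal in E(X)). -/
theorem result {X : Type*} [Group X] [Finite X] (U : Subgroup X) : Cfsg.layer X = (Cfsg.layer X ⊓ Subgroup.centralizer (U : Set X)) ⊔ ⁅Cfsg.layer X, U⁆ ∧ ⁅Cfsg.layer X, U⁆ ≤ Cfsg.layer X := by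
  have hE0le : ⁅Cfsg.layer X, U⁆ ≤ Cfsg.layer X := Subgroup.commutator_le_left _ _
  refine ⟨?_, hE0le⟩
  apply le_antisymm _ (sup_le inf_le_left hE0le)
  -- the commutator is normal in the layer, hence subnormal
  have hn : (⁅Cfsg.layer X, U⁆.subgroupOf (Cfsg.layer X)).Normal := by
    rw [Subgroup.normal_subgroupOf_iff_le_normalizer hE0le]
    exact Cfsg.Agent.Lib.Helper1.le_normalizer_commutator_left
  have hsn : (⁅Cfsg.layer X, U⁆).IsSubnormal :=
    Subgroup.IsSubnormal.trans hE0le hn.isSubnormal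
      (Subgroup.Normal.isSubnormal (inferInstance : (Cfsg.layer X).Normal))
  apply sSup_le
  intro L hL
  have hLE : L ≤ Cfsg.layer X := comp_le_layer hL
  rcases comp_le_or_commutator_eq_bot hL hsn with h | h
  · exact h.trans le_sup_right
  · refine le_trans (le_inf hLE ?_) le_sup_left
    apply Subgroup.commutator_eq_bot_iff_le_centralizer.mp
    have h1 : ⁅⁅L, U⁆, L⁆ = ⊥ := by
      rw [eq_bot_iff]
      calc ⁅⁅L, U⁆, L⁆ ≤ ⁅⁅Cfsg.layer X, U⁆, L⁆ :=
            Subgroup.commutator_mono (Subgroup.commutator_mono hLE le_rfl) le_rfl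
        _ = ⁅L, ⁅Cfsg.layer X, U⁆⁆ := Subgroup.commutator_comm _ _
        _ = ⊥ := h
    have h2 : ⁅⁅U, L⁆, L⁆ = ⊥ := by rw [Subgroup.commutator_comm U L]; exact h1
    have h3 := Subgroup.commutator_commutator_eq_bot_of_rotate h1 h2
    rwa [comp_perfect hL] at h3

end Cfsg.Agent.S1321
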