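import Cfsg.Statements.S1323
import Cfsg.Agent.Lib.Helper9.Layer2
import Cfsg.Agent.Lib.Helper10.NarrowRank3

set_option autoImplicit false
open Cfsg

namespace Cfsg.Agent.S1323

open Equiv Equiv.Perm
open scoped commutatorElement

section ThreeCycles

variable {α : Type*} [DecidableEq α] [Fintype α]

omit [DecidableEq α] [Fintype α] in
theorem perm_apply_inv (f : Perm α) (x : α) : f (f⁻¹ x) = x := by
  rw [Perm.inv_def]; exact f.apply_symm_apply x

omit [DecidableEq α] [Fintype α] in
theorem perm_inv_apply (f : Perm α) (x : α) : f⁻¹ (f x) = x := by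
  rw [Perm.inv_def]; exact f.symm_apply_apply x

/-- the three-cycle `(x y z)` -/
def tc (x y z : α) : Perm α := swap x y * swap y z

theorem tc_apply_fst {x y z : α} (hxy : x ≠ y) (hxz : x ≠ z) : tc x y z x = y := by
  simp [tc, swap_apply_of_ne_of_ne hxy hxz]

theorem tc_apply_snd {x y z : α} (hxz : x ≠ z) (hyz : y ≠ z) : tc x y z y = z := by
  simp [tc, swap_apply_of_ne_of_ne (Ne.symm hxz) (Ne.symm hyz)]

theorem tc_apply_of_ne {x y z w : α} (hx : w ≠ x) (hy : w ≠ y) (hz : w ≠ z) : tc x y z w = w := by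
  simp [tc, swap_apply_of_ne_of_ne hy hz, swap_apply_of_ne_of_ne hx hy]

theorem tc_mem_alt {x y z : α} (hxy : x ≠ y) (hyz : y ≠ z) :
    tc x y z ∈ alternatingGroup α := by
  rw [mem_alternatingGroup, tc, map_mul, sign_swap hxy, sign_swap hyz]
  rfl

/-- a permutation commuting with `(x y z)` maps `x` into `{x, y, z}` -/
theorem apply_mem_of_commute_tc {x y z : α} (hxy : x ≠ y) (hxz : x ≠ z)
    (g : Perm α) (h : g * tc x y z = tc x y z * g) : g x = x ∨ g x = y ∨ g x = z := by
  by_contra hcon
  push Not at hcon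
  have h1 := congrArg (fun f : Perm α => f x) h
  simp only [Perm.mul_apply] at h1
  rw [tc_apply_fst hxy hxz, tc_apply_of_ne hcon.1 hcon.2.1 hcon.2.2] at h1
  exact hxy (g.injective h1).symm

/-- a permutation commuting with all three-cycles on a set of at least four points fixes
every point of that set -/
theorem fixes_of_commute (S : Finset α) (hS : 4 ≤ S.card) (g : Perm α)
    (h : ∀ x y z, x ∈ S → y ∈ S → z ∈ S → x ≠ y → y ≠ z → x ≠ z →
      g * tc x y z = tc x y z * g) : ∀ x ∈ S, g x = x := by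
  intro x hx
  have hcard : 2 < (S.erase x).card := by
    rw [Finset.card_erase_of_mem hx]; omega
  obtain ⟨y, z, w, hy, hz, hw, hyz, hyw, hzw⟩ := Finset.two_lt_card_iff.mp hcard
  rw [Finset.mem_erase] at hy hz hw
  have hxy : x ≠ y := Ne.symm hy.1
  have hxz : x ≠ z := Ne.symm hz.1
  have hxw : x ≠ w := Ne.symm hw.1
  have h1 := apply_mem_of_commute_tc hxy hxz g (h x y z hx hy.2 hz.2 hxy hyz hxz)
  have h2 := apply_mem_of_commute_tc hxy hxw g (h x y w hx hy.2 hw.2 hxy hyw hxw)
  have h3 := apply_mem_of_commute_tc hxz hxw g (h x z w hx hz.2 hw.2 hxz hzw hxw)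
  rcases h1 with h1 | h1 | h1
  · exact h1
  · rcases h3 with h3 | h3 | h3
    · exact h3
    · exact absurd (h1.symm.trans h3) hyz
    · exact absurd (h1.symm.trans h3) hyw
  · rcases h2 with h2 | h2 | h2
    · exact h2
    · exact absurd (h2.symm.trans h1) hyz
    · exact absurd (h1.symm.trans h2) hzw

/-- an even involution moves at least four points -/
theorem eq_one_of_sq_of_even_of_fix (h : Perm α) (hsq : h * h = 1) (heven : sign h = 1)
    (a b c : α) (hsupp : ∀ x, h x ≠ x → x = a ∨ x = b ∨ x = c) : h = 1 := by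
  by_contra hne
  obtain ⟨u, hu⟩ : ∃ u, h u ≠ u := by
    by_contra hcon
    push Not at hcon
    exact hne (Perm.ext hcon)
  set v := h u with hv
  have hvu : h v = u := by
    have := congrArg (fun f : Perm α => f u) hsq
    simpa [Perm.mul_apply] using this
  have hswap : h = swap u v := by
    ext w
    by_cases hwu : w = u
    · rw [hwu, swap_apply_left]
    by_cases hwv : w = v
    · rw [hwv, swap_apply_right, hvu]
    rw [swap_apply_of_ne_of_ne hwu hwv]
    by_contra hw
    -- `w`, `u`, `v` are three distinct moved points, and `h w` is a fourth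
    have hw' : h (h w) ≠ h w := fun hh => hw (h.injective hh)
    have hwu' : h w ≠ u := fun hh => hwv (h.injective (hh.trans hvu.symm))
    have hwv' : h w ≠ v := fun hh => hwu (h.injective hh)
    have hvmoved : h v ≠ v := by rw [hvu]; exact fun hh => hu (hh ▸ rfl)
    have s1 := hsupp u hu
    have s2 := hsupp v hvmoved
    have s3 := hsupp w hw
    have s4 := hsupp (h w) hw'
    have huv : u ≠ v := fun hh => hu hh.symm
    -- four distinct elements among three values
    have hww : h w ≠ w := hw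
    have hsub : ({u, v, w, h w} : Finset α) ⊆ {a, b, c} := by
      intro t ht
      simp only [Finset.mem_insert, Finset.mem_singleton] at ht ⊢
      rcases ht with rfl | rfl | rfl | rfl
      · exact s1
      · exact s2
      · exact s3
      · exact s4
    have hcard4 : ({u, v, w, h w} : Finset α).card = 4 := by
      rw [Finset.card_insert_of_notMem, Finset.card_insert_of_notMem,
        Finset.card_insert_of_notMem, Finset.card_singleton]
      · simp only [Finset.mem_singleton]; exact Ne.symm hww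
      · simp only [Finset.mem_insert, Finset.mem_singleton]
        push Not
        exact ⟨Ne.symm hwv, Ne.symm hwv'⟩
      · simp only [Finset.mem_insert, Finset.mem_singleton]
        push Not
        exact ⟨huv, Ne.symm hwu, Ne.symm hwu'⟩
    have := Finset.card_le_card hsub
    have h3 : ({a, b, c} : Finset α).card ≤ 3 := Finset.card_le_three
    omega
  rw [hswap, sign_swap (fun hh => hu hh.symm)] at heven
  exact absurd heven (by decide)

end ThreeCycles

section Main

variable {n : ℕ}

/-- the alternating group as a type -/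
abbrev An (n : ℕ) : Type := ↥(alternatingGroup (Fin n))

/-- the points `0, 1, 2, 3` -/
def Del (n : ℕ) : Finset (Fin n) := Finset.univ.filter (fun x => x.val < 4)

/-- the remaining points -/
def Gam (n : ℕ) : Finset (Fin n) := Finset.univ.filter (fun x => 4 ≤ x.val)

theorem mem_Del {x : Fin n} : x ∈ Del n ↔ x.val < 4 := by simp [Del]
theorem mem_Gam {x : Fin n} : x ∈ Gam n ↔ 4 ≤ x.val := by simp [Gam]

theorem card_Del (h4 : 4 ≤ n) : (Del n).card = 4 := by
  have h : Del n = Finset.univ.map (Fin.castLEEmb h4) := by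
    ext x
    rw [mem_Del, Finset.mem_map]
    constructor
    · intro hx
      exact ⟨⟨x.val, hx⟩, Finset.mem_univ _, Fin.ext rfl⟩
    · rintro ⟨i, -, rfl⟩
      exact i.2
  rw [h, Finset.card_map, Finset.card_univ, Fintype.card_fin]

theorem card_Gam (h4 : 4 ≤ n) : (Gam n).card = n - 4 := by
  have h : Gam n = (Del n)ᶜ := by
    ext x
    rw [mem_Gam, Finset.mem_compl, mem_Del, not_lt]
  rw [h, Finset.card_compl, card_Del h4, Fintype.card_fin]

variable (h4 : 4 ≤ n)

/-- the subgroup of the statement -/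
abbrev Lsub : Subgroup (An n) :=
  ⨅ i : Fin 4, MulAction.stabilizer (An n) (Fin.castLE h4 i : Fin n)

theorem mem_L_iff (g : An n) :
    g ∈ Lsub h4 ↔ ∀ x : Fin n, x.val < 4 → (g : Perm (Fin n)) x = x := by
  rw [Subgroup.mem_iInf]
  constructor
  · intro h x hx
    have := h ⟨x.val, hx⟩
    rw [MulAction.mem_stabilizer_iff] at this
    have hx' : (Fin.castLE h4 ⟨x.val, hx⟩ : Fin n) = x := Fin.ext rfl
    rw [hx'] at this
    exact this
  · intro h i
    rw [MulAction.mem_stabilizer_iff]
    exact h _ i.2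

/-- the subgroup fixing all points `≥ 4` -/
def Dsub (n : ℕ) : Subgroup (An n) where
  carrier := {g | ∀ x : Fin n, 4 ≤ x.val → (g : Perm (Fin n)) x = x}
  one_mem' := fun x _ => rfl
  mul_mem' := by
    intro a b ha hb x hx
    show (a : Perm (Fin n)) ((b : Perm (Fin n)) x) = x
    rw [hb x hx, ha x hx]
  inv_mem' := by
    intro a ha x hx
    show (a : Perm (Fin n))⁻¹ x = x
    rw [Perm.inv_eq_iff_eq, ha x hx]

theorem mem_D_iff (g : An n) :
    g ∈ Dsub n ↔ ∀ x : Fin n, 4 ≤ x.val → (g : Perm (Fin n)) x = x := Iff.rfl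

/-- three-cycles as elements of the alternating group -/
def tcA (x y z : Fin n) (hxy : x ≠ y) (hyz : y ≠ z) : An n := ⟨tc x y z, tc_mem_alt hxy hyz⟩

theorem tcA_mem_L {x y z : Fin n} (hxy : x ≠ y) (hyz : y ≠ z) (hx : 4 ≤ x.val) (hy : 4 ≤ y.val)
    (hz : 4 ≤ z.val) : tcA x y z hxy hyz ∈ Lsub h4 := by
  rw [mem_L_iff]
  intro w hw
  apply tc_apply_of_ne
  · intro h; rw [h] at hw; omega
  · intro h; rw [h] at hw; omega
  · intro h; rw [h] at hw; omega

theorem tcA_mem_D {x y z : Fin n} (hxy : x ≠ y) (hyz : y ≠ z) (hx : x.val < 4) (hy : y.val < 4)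
    (hz : z.val < 4) : tcA x y z hxy hyz ∈ Dsub n := by
  rw [mem_D_iff]
  intro w hw
  apply tc_apply_of_ne
  · intro h; rw [h] at hw; omega
  · intro h; rw [h] at hw; omega
  · intro h; rw [h] at hw; omega

theorem commute_of_mem_L_of_mem_D {a b : An n} (ha : a ∈ Lsub h4) (hb : b ∈ Dsub n) :
    a * b = b * a := by
  apply Subtype.ext
  show (a : Perm (Fin n)) * (b : Perm (Fin n)) = b * a
  have hdis : Perm.Disjoint (a : Perm (Fin n)) (b : Perm (Fin n)) := by
    intro x
    rcases Nat.lt_or_ge x.val 4 with hx | hx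
    · left; exact (mem_L_iff h4 a).mp ha x hx
    · right; exact hb x hx
  exact hdis.commute

theorem centralizer_L (hn : 9 ≤ n) :
    Subgroup.centralizer ((Lsub h4 : Subgroup (An n)) : Set (An n)) = Dsub n := by
  apply le_antisymm
  · intro g hg
    rw [mem_D_iff]
    have := fixes_of_commute (Gam n) (by rw [card_Gam h4]; omega) (g : Perm (Fin n)) (by
      intro x y z hx hy hz hxy hyz hxz
      rw [mem_Gam] at hx hy hz
      have h1 := hg (tcA x y z hxy hyz) (tcA_mem_L h4 hxy hyz hx hy hz)
      have h2 := congrArg (fun t : An n => (t : Perm (Fin n))) h1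
      exact h2.symm)
    intro x hx
    exact this x (mem_Gam.mpr hx)
  · intro g hg
    rw [Subgroup.mem_centralizer_iff]
    intro a ha
    exact commute_of_mem_L_of_mem_D h4 ha hg

theorem centralizer_D :
    Subgroup.centralizer ((Dsub n : Subgroup (An n)) : Set (An n)) = Lsub h4 := by
  apply le_antisymm
  · intro g hg
    rw [mem_L_iff]
    have := fixes_of_commute (Del n) (by rw [card_Del h4]) (g : Perm (Fin n)) (by
      intro x y z hx hy hz hxy hyz hxz
      rw [mem_Del] at hx hy hz
      have h1 := hg (tcA x y z hxy hyz) (tcA_mem_D hxy hyz hx hy hz)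
      have h2 := congrArg (fun t : An n => (t : Perm (Fin n))) h1
      exact h2.symm)
    intro x hx
    exact this x (mem_Del.mpr hx)
  · intro g hg
    rw [Subgroup.mem_centralizer_iff]
    intro a ha
    exact (commute_of_mem_L_of_mem_D h4 hg ha).symm

theorem L_eq_range : Lsub h4 = (alternatingGroup.ofSubtype (Gam n)).range := by
  ext g
  rw [alternatingGroup.mem_range_ofSubtype_iff, mem_L_iff]
  constructor
  · intro h x hx
    rw [Perm.mem_support] at hx
    rw [mem_Gam]
    by_contra hlt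
    exact hx (h x (by omega))
  · intro h x hx
    by_contra hne
    have := h (Perm.mem_support.mpr hne)
    rw [mem_Gam] at this
    omega

theorem qs_L (hn : 9 ≤ n) : IsQuasisimple ↥(Lsub h4) := by
  have h5 : 5 ≤ Nat.card ↥(Gam n) := by
    rw [Nat.card_eq_fintype_card, Fintype.card_coe, card_Gam h4]; omega
  have hqs : IsQuasisimple ↥(alternatingGroup ↥(Gam n)) := by
    have hsimple := alternatingGroup.isSimpleGroup h5
    apply Cfsg.Agent.Lib.Helper9.qs_of_perfect_of_normal
      (commutator_alternatingGroup_eq_top h5) hsimple.toNontrivial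
    intro N hN
    rcases hsimple.eq_bot_or_eq_top_of_normal N hN with h | h
    · right; rw [h]; exact bot_le
    · left; exact h
  have e1 : ↥(alternatingGroup ↥(Gam n)) ≃* ↥(alternatingGroup.ofSubtype (Gam n)).range :=
    MonoidHom.ofInjective alternatingGroup.ofSubtype_injective
  have e2 : ↥(alternatingGroup.ofSubtype (Gam n)).range ≃* ↥(Lsub h4) :=
    MulEquiv.subgroupCongr (L_eq_range h4).symm
  exact Cfsg.Agent.Lib.Helper9.qs_of_mulEquiv (e1.trans e2) hqs

/-- permutations preserving the set of the first four points -/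
theorem preserves_of_maps_into (f : Perm (Fin n)) (h4 : 4 ≤ n)
    (h : ∀ u : Fin n, u.val < 4 → (f u).val < 4) : ∀ x : Fin n, (f x).val < 4 ↔ x.val < 4 := by
  have himg : (Del n).image f = Del n := by
    apply Finset.eq_of_subset_of_card_le
    · intro y hy
      rw [Finset.mem_image] at hy
      obtain ⟨u, hu, rfl⟩ := hy
      rw [mem_Del] at hu ⊢
      exact h u hu
    · rw [Finset.card_image_of_injective _ f.injective]
  intro x
  constructor
  · intro hx
    have : f x ∈ (Del n).image f := by rw [himg]; exact mem_Del.mpr hx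
    rw [Finset.mem_image] at this
    obtain ⟨u, hu, hux⟩ := this
    rw [← f.injective hux]
    exact mem_Del.mp hu
  · exact h x

theorem mem_normalizer_D_of_preserves (g : An n)
    (h : ∀ x : Fin n, ((g : Perm (Fin n)) x).val < 4 ↔ x.val < 4) :
    g ∈ Subgroup.normalizer ((Dsub n : Subgroup (An n)) : Set (An n)) := by
  rw [Subgroup.mem_normalizer_iff]
  intro d
  constructor
  · intro hd x hx
    show (g : Perm (Fin n)) ((d : Perm (Fin n)) ((g : Perm (Fin n))⁻¹ x)) = x
    have h1 : 4 ≤ ((g : Perm (Fin n))⁻¹ x).val := by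
      by_contra hlt
      have := (h ((g : Perm (Fin n))⁻¹ x)).mpr (by omega)
      rw [perm_apply_inv] at this
      omega
    rw [hd _ h1, perm_apply_inv]
  · intro hd x hx
    have h1 : 4 ≤ ((g : Perm (Fin n)) x).val := by
      by_contra hlt
      have h5 : ((g : Perm (Fin n)) x).val < 4 := Nat.lt_of_not_le hlt
      have := (h x).mp h5
      omega
    have h2 := hd _ h1
    have h3 : (g : Perm (Fin n)) ((d : Perm (Fin n)) ((g : Perm (Fin n))⁻¹
        ((g : Perm (Fin n)) x))) = (g : Perm (Fin n)) x := h2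
    rw [perm_inv_apply] at h3
    exact (g : Perm (Fin n)).injective h3

include h4 in
/-- an involution in `D` -/
theorem even_card_D : Even (Nat.card ↥(Dsub n)) := by
  set p0 : Fin n := ⟨0, by omega⟩ with hp0
  set p1 : Fin n := ⟨1, by omega⟩ with hp1
  set p2 : Fin n := ⟨2, by omega⟩ with hp2
  set p3 : Fin n := ⟨3, by omega⟩ with hp3
  have h01 : p0 ≠ p1 := by rw [hp0, hp1]; intro h; simp [Fin.ext_iff] at h
  have h23 : p2 ≠ p3 := by rw [hp2, hp3]; intro h; simp [Fin.ext_iff] at h
  have h02 : p0 ≠ p2 := by rw [hp0, hp2]; intro h; simp [Fin.ext_iff] at h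
  have h03 : p0 ≠ p3 := by rw [hp0, hp3]; intro h; simp [Fin.ext_iff] at h
  have h12 : p1 ≠ p2 := by rw [hp1, hp2]; intro h; simp [Fin.ext_iff] at h
  have h13 : p1 ≠ p3 := by rw [hp1, hp3]; intro h; simp [Fin.ext_iff] at h
  let dperm : Perm (Fin n) := swap p0 p1 * swap p2 p3
  have hdalt : dperm ∈ alternatingGroup (Fin n) := by
    rw [mem_alternatingGroup, map_mul, sign_swap h01, sign_swap h23]
    rfl
  let d : An n := ⟨dperm, hdalt⟩
  have hdD : d ∈ Dsub n := by
    intro x hx
    show (swap p0 p1 * swap p2 p3) x = x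
    have hx0 : x ≠ p0 := by intro h; rw [h, hp0] at hx; simp at hx
    have hx1 : x ≠ p1 := by intro h; rw [h, hp1] at hx; simp at hx
    have hx2 : x ≠ p2 := by intro h; rw [h, hp2] at hx; simp at hx
    have hx3 : x ≠ p3 := by intro h; rw [h, hp3] at hx; simp at hx
    rw [Perm.mul_apply, swap_apply_of_ne_of_ne hx2 hx3, swap_apply_of_ne_of_ne hx0 hx1]
  have hcomm : swap p0 p1 * swap p2 p3 = swap p2 p3 * swap p0 p1 := by
    have hdis : Perm.Disjoint (swap p0 p1) (swap p2 p3) := by
      rw [Perm.disjoint_iff_disjoint_support, support_swap h01, support_swap h23]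
      simp only [Finset.disjoint_insert_left, Finset.mem_insert, Finset.mem_singleton,
        Finset.disjoint_singleton_left]
      exact ⟨by push Not; exact ⟨h02, h03⟩, by push Not; exact ⟨h12, h13⟩⟩
    exact hdis.commute
  have hsq : d * d = 1 := by
    apply Subtype.ext
    show (swap p0 p1 * swap p2 p3) * (swap p0 p1 * swap p2 p3) = 1
    calc (swap p0 p1 * swap p2 p3) * (swap p0 p1 * swap p2 p3)
        = swap p0 p1 * (swap p2 p3 * swap p0 p1) * swap p2 p3 := by simp only [mul_assoc]
      _ = swap p0 p1 * (swap p0 p1 * swap p2 p3) * swap p2 p3 := by rw [hcomm]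
      _ = (swap p0 p1 * swap p0 p1) * (swap p2 p3 * swap p2 p3) := by simp only [mul_assoc]
      _ = 1 := by rw [swap_mul_self, swap_mul_self, one_mul]
  have hne : d ≠ 1 := by
    intro h
    have h1 := congrArg (fun t : An n => (t : Perm (Fin n)) p0) h
    have h2 : (swap p0 p1 * swap p2 p3) p0 = p0 := h1
    rw [Perm.mul_apply, swap_apply_of_ne_of_ne h02 h03, swap_apply_left] at h2
    exact h01 h2.symm
  have hord : orderOf (⟨d, hdD⟩ : ↥(Dsub n)) = 2 := by
    apply orderOf_eq_prime
    · rw [pow_two]; exact Subtype.ext hsq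
    · intro h; exact hne (congrArg Subtype.val h)
  have := orderOf_dvd_natCard (⟨d, hdD⟩ : ↥(Dsub n))
  rw [hord] at this
  exact even_iff_two_dvd.mpr this

include h4 in
theorem tightly_D (hn : 9 ≤ n) : IsTightlyEmbedded (Dsub n) := by
  refine ⟨even_card_D h4, ?_⟩
  intro g hg
  rw [← Nat.not_even_iff_odd]
  intro heven
  have h2 : 2 ∣ Nat.card ↥(Dsub n ⊓ (Dsub n).map (MulAut.conj g).toMonoidHom) :=
    even_iff_two_dvd.mp heven
  obtain ⟨⟨h, hh⟩, hord⟩ := exists_prime_orderOf_dvd_card' 2 h2
  obtain ⟨hD, hDg⟩ := Subgroup.mem_inf.mp hh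
  obtain ⟨h0, hh0, hconj⟩ := Subgroup.mem_map.mp hDg
  have hconj' : g * h0 * g⁻¹ = h := hconj
  -- a point of `Δ` moved into `Γ` by `g⁻¹`
  have hex : ∃ u : Fin n, u.val < 4 ∧ 4 ≤ ((g : Perm (Fin n))⁻¹ u).val := by
    by_contra hcon
    push Not at hcon
    have hpres := preserves_of_maps_into ((g : Perm (Fin n))⁻¹) h4 hcon
    apply hg
    apply mem_normalizer_D_of_preserves
    intro x
    have := hpres ((g : Perm (Fin n)) x)
    rw [perm_inv_apply] at this
    exact this.symm
  obtain ⟨u, hu4, hgu⟩ := hex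
  have hfixu : (h : Perm (Fin n)) u = u := by
    rw [← hconj']
    show (g : Perm (Fin n)) ((h0 : Perm (Fin n)) ((g : Perm (Fin n))⁻¹ u)) = u
    rw [hh0 _ hgu, perm_apply_inv]
  -- the other three points of `Δ`
  have hcard3 : ((Del n).erase u).card = 3 := by
    rw [Finset.card_erase_of_mem (mem_Del.mpr hu4), card_Del h4]
  obtain ⟨a, b, c, -, -, -, habc⟩ := Finset.card_eq_three.mp hcard3
  have hsupp : ∀ x, (h : Perm (Fin n)) x ≠ x → x = a ∨ x = b ∨ x = c := by
    intro x hx
    have hxlt : x.val < 4 := by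
      by_contra hge
      exact hx (hD x (by omega))
    have hxu : x ≠ u := fun hxu => hx (hxu ▸ hfixu)
    have : x ∈ (Del n).erase u := Finset.mem_erase.mpr ⟨hxu, mem_Del.mpr hxlt⟩
    rw [habc] at this
    simpa using this
  have hsq : (h : Perm (Fin n)) * (h : Perm (Fin n)) = 1 := by
    have h1 : (⟨h, hh⟩ : ↥(Dsub n ⊓ (Dsub n).map (MulAut.conj g).toMonoidHom)) ^ 2 = 1 := by
      rw [← hord]; exact pow_orderOf_eq_one _
    have h1' : h ^ 2 = 1 := by
      have := congrArg Subtype.val h1
      rw [Subgroup.coe_pow] at this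
      exact this
    have h2 := congrArg Subtype.val h1'
    rw [pow_two] at h2
    exact h2
  have h1 := eq_one_of_sq_of_even_of_fix (h : Perm (Fin n)) hsq (mem_alternatingGroup.mp h.2)
    a b c hsupp
  have h3 : (⟨h, hh⟩ : ↥(Dsub n ⊓ (Dsub n).map (MulAut.conj g).toMonoidHom)) = 1 := by
    apply Subtype.ext
    apply Subtype.ext
    exact h1
  rw [h3, orderOf_one] at hord
  omega

theorem commutator_ne_bot (hn : 9 ≤ n) (g : An n) :
    ⁅Lsub h4, (Lsub h4).map (MulAut.conj g).toMonoidHom⁆ ≠ ⊥ := by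
  set f : Perm (Fin n) := (g : Perm (Fin n)) with hf
  have hcG : (Gam n).card = n - 4 := card_Gam h4
  have hcD : (Del n).card = 4 := card_Del h4
  -- a point of `Γ` mapped into `Γ`
  obtain ⟨p1, hp1, hfp1⟩ : ∃ p1 : Fin n, 4 ≤ p1.val ∧ 4 ≤ (f p1).val := by
    by_contra hcon
    push Not at hcon
    have : (Gam n).card ≤ (Del n).card := by
      apply Finset.card_le_card_of_injOn f
      · intro x hx
        have hx' := mem_Gam.mp hx
        exact mem_Del.mpr (hcon x hx')
      · exact fun x _ y _ hxy => f.injective hxy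
    omega
  obtain ⟨p2, hp2, hp21⟩ : ∃ p2 ∈ Gam n, p2 ∉ ({p1} : Finset (Fin n)) := by
    apply Finset.exists_mem_notMem_of_card_lt_card
    rw [Finset.card_singleton]; omega
  obtain ⟨p3, hp3, hp312⟩ : ∃ p3 ∈ Gam n, p3 ∉ ({p1, p2} : Finset (Fin n)) := by
    apply Finset.exists_mem_notMem_of_card_lt_card
    have := Finset.card_le_two (a := p1) (b := p2)
    omega
  rw [Finset.mem_singleton] at hp21
  rw [Finset.mem_insert, Finset.mem_singleton] at hp312
  push Not at hp312
  rw [mem_Gam] at hp2 hp3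
  obtain ⟨q2, hq2, hq2n⟩ : ∃ q2 ∈ Gam n, q2 ∉ ({f p1, f p2, f p3} : Finset (Fin n)) := by
    apply Finset.exists_mem_notMem_of_card_lt_card
    have := Finset.card_le_three (a := f p1) (b := f p2) (c := f p3)
    omega
  obtain ⟨q3, hq3, hq3n⟩ : ∃ q3 ∈ Gam n, q3 ∉ ({f p1, f p2, f p3, q2} : Finset (Fin n)) := by
    apply Finset.exists_mem_notMem_of_card_lt_card
    have := Finset.card_le_four (a := f p1) (b := f p2) (c := f p3) (d := q2)
    omega
  simp only [Finset.mem_insert, Finset.mem_singleton] at hq2n hq3n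
  push Not at hq2n hq3n
  rw [mem_Gam] at hq2 hq3
  have h12 : p1 ≠ p2 := Ne.symm hp21
  have h23 : p2 ≠ p3 := Ne.symm hp312.2
  have h13 : p1 ≠ p3 := Ne.symm hp312.1
  set b0 : An n := tcA p1 p2 p3 h12 h23 with hb0
  have hb0L : b0 ∈ Lsub h4 := tcA_mem_L h4 h12 h23 hp1 hp2 hp3
  set a : An n := tcA (f p1) q2 q3 (Ne.symm hq2n.1) (Ne.symm hq3n.2.2.2) with ha
  have haL : a ∈ Lsub h4 := tcA_mem_L h4 _ _ hfp1 hq2 hq3
  set b : An n := g * b0 * g⁻¹ with hb
  have hbL : b ∈ (Lsub h4).map (MulAut.conj g).toMonoidHom :=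
    Subgroup.mem_map.mpr ⟨b0, hb0L, rfl⟩
  intro hbot
  have hmem : ⁅a, b⁆ ∈ ⁅Lsub h4, (Lsub h4).map (MulAut.conj g).toMonoidHom⁆ :=
    Subgroup.commutator_mem_commutator haL hbL
  rw [hbot, Subgroup.mem_bot, commutatorElement_eq_one_iff_mul_comm] at hmem
  have h1 := congrArg (fun t : An n => (t : Perm (Fin n)) (f p1)) hmem
  have hbx : (b : Perm (Fin n)) (f p1) = f p2 := by
    show f ((tc p1 p2 p3) (f⁻¹ (f p1))) = f p2
    rw [perm_inv_apply, tc_apply_fst h12 h13]
  have hbq : (b : Perm (Fin n)) q2 = q2 := by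
    show f ((tc p1 p2 p3) (f⁻¹ q2)) = q2
    rw [tc_apply_of_ne, perm_apply_inv]
    · intro h; apply hq2n.1; rw [← h, perm_apply_inv]
    · intro h; apply hq2n.2.1; rw [← h, perm_apply_inv]
    · intro h; apply hq2n.2.2; rw [← h, perm_apply_inv]
  have hax : (a : Perm (Fin n)) (f p1) = q2 :=
    tc_apply_fst (Ne.symm hq2n.1) (Ne.symm hq3n.1)
  have hafp2 : (a : Perm (Fin n)) (f p2) = f p2 := by
    apply tc_apply_of_ne
    · exact fun h => h12 (f.injective h).symm
    · exact Ne.symm hq2n.2.1
    · exact Ne.symm hq3n.2.1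
  have h2 : (a : Perm (Fin n)) ((b : Perm (Fin n)) (f p1)) =
      (b : Perm (Fin n)) ((a : Perm (Fin n)) (f p1)) := h1
  rw [hbx, hafp2, hax, hbq] at h2
  exact hq2n.2.1 h2.symm

end Main

/-- For n ≥ 9, the subgroup of the alternating group on Fin n fixing each of the points 0, 1, 2, 3 is a standard subgroup. -/
theorem result (n : ℕ) (h4 : 4 ≤ n) (hn : 9 ≤ n) : Cfsg.IsStandardSubgroup (⨅ i : Fin 4, MulAction.stabilizer ↥(alternatingGroup (Fin n)) (Fin.castLE h4 i : Fin n)) := by
  refine ⟨qs_L h4 hn, ?_, ?_, ?_⟩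
  · rw [centralizer_L h4 hn]
    exact tightly_D h4 hn
  · intro g _
    exact commutator_ne_bot h4 hn g
  · rw [centralizer_L h4 hn]
    apply le_antisymm
    · have := Cfsg.Agent.Lib.Helper10.normalizer_le_normalizer_centralizer (Lsub h4)
      rw [centralizer_L h4 hn] at this
      exact this
    · have := Cfsg.Agent.Lib.Helper10.normalizer_le_normalizer_centralizer (Dsub n)
      rw [centralizer_D h4] at this
      exact this

end Cfsg.Agent.S1323
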