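import Cfsg.Statements.S1326
import Cfsg.Agent.Lib.Helper9.Layer2

set_option autoImplicit false
open Cfsg

namespace Cfsg.Agent.S1326

open Cfsg.Agent.Lib.Helper9 in
/-- For a finite group X: the Fitting subgroup contains its centralizer if and only if the layer of X is trivial. -/
theorem result {X : Type*} [Group X] [Finite X] : Subgroup.centralizer (Cfsg.fittingSubgroup X : Set X) ≤ Cfsg.fittingSubgroup X ↔ Cfsg.layer X = ⊥ := by
  constructor
  · intro h
    rw [eq_bot_iff]
    apply sSup_le
    intro L hL
    exfalso
    have h1 : Cfsg.layer X ≤ Subgroup.centralizer (Cfsg.fittingSubgroup X : Set X) :=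
      Subgroup.commutator_eq_bot_iff_le_centralizer.mp commutator_layer_fitting
    have h2 : L ≤ Cfsg.fittingSubgroup X := (comp_le_layer hL).trans (h1.trans h)
    have hn : Group.IsNilpotent ↥(Cfsg.fittingSubgroup X) :=
      Cfsg.Agent.Lib.Helper1.fittingSubgroup_isNilpotent
    have hs : Group.IsSolvable ↥(Cfsg.fittingSubgroup X) := inferInstance
    exact comp_not_le_of_isSolvable hL hs h2
  · intro h
    have h1 : Cfsg.generalizedFittingSubgroup X = Cfsg.fittingSubgroup X := by
      unfold Cfsg.generalizedFittingSubgroup
      rw [h, bot_sup_eq]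
    have h2 := centralizer_gfs_le (G := X)
    rwa [h1] at h2

end Cfsg.Agent.S1326
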