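import Cfsg.Statements.S1331
import Cfsg.Agent.S1324
import Cfsg.Agent.Lib.Helper1.Coprime

set_option autoImplicit false
open Cfsg

namespace Cfsg.Agent.S1331

open Cfsg.Agent.Lib.Helper12 Cfsg.Agent.Lib.Helper1

/-- an elementary abelian group of order at least `p ^ 2` has a subgroup of index `p` -/
theorem exists_hyperplane {G : Type*} [Group G] [Finite G] (p : ℕ) [Fact p.Prime] (B : Subgroup G)
    (hB : Cfsg.IsElementaryAbelian p B) (hB2 : p ^ 2 ≤ Nat.card ↥B) :
    ∃ D : Subgroup G, D ≤ B ∧ D.relIndex B = p := by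
  have hp : p.Prime := Fact.out
  have hBp : IsPGroup p ↥B := isPGroup_of_exponent hB.2
  obtain ⟨m, hm⟩ := IsPGroup.iff_card.mp hBp
  have hm1 : 1 ≤ m := by
    rcases Nat.eq_zero_or_pos m with h0 | h0
    · subst h0
      rw [hm, pow_zero] at hB2
      have := hp.one_lt
      nlinarith
    · exact h0
  obtain ⟨K, hK⟩ := Sylow.exists_subgroup_card_pow_prime (G := ↥B) p (n := m - 1)
    (by rw [hm]; exact pow_dvd_pow p (Nat.sub_le m 1))
  refine ⟨K.map B.subtype, Subgroup.map_subtype_le K, ?_⟩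
  have h1 := card_mul_relIndex_of_le (Subgroup.map_subtype_le K)
  rw [Subgroup.card_map_of_injective B.subtype_injective, hK, hm] at h1
  have h2 : p ^ m = p ^ (m - 1) * p := by
    rw [← pow_succ, Nat.sub_add_cancel hm1]
  rw [h2] at h1
  exact Nat.eq_of_mul_eq_mul_left (pow_pos hp.pos _) h1

/-- Let θ be a solvable A-signalizer functor on the finite group G for the prime p, A elementary abelian of rank at least 3, X a member of the family of θ, and B ≤ A with |B| ≥ p². Then X is generated by the subgroups X ∩ ⋂_{d ∈ D, d ≠ 1} θ d, D ranging over the subgroups of index p in B. -/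
theorem result {G : Type*} [Group G] [Finite G] (p : ℕ) [Fact p.Prime] (A : Subgroup G) (hA : Cfsg.IsElementaryAbelian p A) (hA3 : p ^ 3 ≤ Nat.card ↥A) (θ : G → Subgroup G) (hθ : Cfsg.IsSolvableSignalizerFunctor p A θ) (X : Subgroup G) (hX : X ∈ Cfsg.signalizerFamily p A θ) (B : Subgroup G) (hB : B ≤ A) (hB2 : p ^ 2 ≤ Nat.card ↥B) : X = ⨆ D : {D : Subgroup G // D ≤ B ∧ D.relIndex B = p}, X ⊓ Cfsg.signalizerInf (D : Subgroup G) θ := by
  have hp : p.Prime := Fact.out
  obtain ⟨-, hXp, hXA, hXθ⟩ := hX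
  have hBE : Cfsg.IsElementaryAbelian p B := by
    refine ⟨⟨⟨?_⟩⟩, fun a ha => hA.2 a (hB ha)⟩
    rintro ⟨a, ha⟩ ⟨b, hb⟩
    apply Subtype.ext
    exact isElementaryAbelian_comm hA a (hB ha) b (hB hb)
  have hBX : B ≤ Subgroup.normalizer (X : Set G) := by
    apply le_normalizer_of_forall_conj_mem
    intro b hb u hu
    exact hXA b (hB hb) u hu
  -- centralizers of hyperplanes lie in the signalizer intersections
  have key : ∀ D : Subgroup G, D ≤ B →
      X ⊓ Subgroup.centralizer (D : Set G) ≤ X ⊓ Cfsg.signalizerInf D θ := by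
    intro D hD x hx
    obtain ⟨hxX, hxC⟩ := Subgroup.mem_inf.mp hx
    refine Subgroup.mem_inf.mpr ⟨hxX, ?_⟩
    rw [Cfsg.signalizerInf, Subgroup.mem_iInf]
    rintro ⟨a, haD, ha1⟩
    apply hXθ a (hB (hD haD)) ha1
    refine Subgroup.mem_inf.mpr ⟨hxX, ?_⟩
    rw [Subgroup.mem_centralizer_iff]
    intro w hw
    rw [Set.mem_singleton_iff] at hw
    subst hw
    exact (Subgroup.mem_centralizer_iff.mp hxC) _ haD
  apply le_antisymm
  · refine (le_iSup_cohyper_of_isElementaryAbelian hBE hBX hXp).trans ?_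
    apply iSup_le
    rintro ⟨D, hD⟩
    obtain ⟨hDB, hDp⟩ := Cfsg.Agent.S1324.relIndex_le_of_isCohyper p hBE hD
    by_cases hDeq : D.relIndex B = p
    · exact (key D hDB).trans (le_iSup (fun D : {D : Subgroup G // D ≤ B ∧ D.relIndex B = p} =>
        X ⊓ Cfsg.signalizerInf (D : Subgroup G) θ) ⟨D, hDB, hDeq⟩)
    · -- then `D = B`
      have hdvd : D.relIndex B ∣ Nat.card ↥B := Subgroup.relIndex_dvd_card D B
      obtain ⟨m, hm⟩ := IsPGroup.iff_card.mp (isPGroup_of_exponent (p := p) hBE.2)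
      rw [hm] at hdvd
      obtain ⟨j, -, hj⟩ := (Nat.dvd_prime_pow hp).mp hdvd
      have hj0 : j = 0 := by
        rcases Nat.eq_zero_or_pos j with h0 | h0
        · exact h0
        · exfalso
          rcases Nat.lt_or_ge 1 j with h1 | h1
          · have : p ^ 1 < p ^ j := Nat.pow_lt_pow_right hp.one_lt h1
            rw [pow_one, ← hj] at this
            omega
          · have hj1 : j = 1 := le_antisymm h1 h0
            rw [hj1, pow_one] at hj
            exact hDeq hj
      rw [hj0, pow_zero] at hj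
      have hBD : B ≤ D := Subgroup.relIndex_eq_one.mp hj
      obtain ⟨D', hD'B, hD'p⟩ := exists_hyperplane p B hBE hB2
      have hcent : X ⊓ Subgroup.centralizer (D : Set G) ≤ X ⊓ Subgroup.centralizer (D' : Set G) :=
        inf_le_inf_left X (Subgroup.centralizer_le (hD'B.trans hBD))
      exact (hcent.trans (key D' hD'B)).trans
        (le_iSup (fun D : {D : Subgroup G // D ≤ B ∧ D.relIndex B = p} =>
        X ⊓ Cfsg.signalizerInf (D : Subgroup G) θ) ⟨D', hD'B, hD'p⟩)
  · apply iSup_le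
    intro D
    exact inf_le_left

end Cfsg.Agent.S1331
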