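-- Statement S1335
import Cfsg.Statements.S1335

set_option autoImplicit false
open Cfsg

namespace Cfsg.Agent.S1335

/-- Let H be a subgroup of the finite group G, p a prime, k ≥ 1, P a Sylow p-subgroup of H of p-rank at least k, and suppose N_G(X) ≤ H for every subgroup X ≤ P of p-rank at least k. Then P is a Sylow p-subgroup of G. -/
theorem result {G : Type*} [Group G] [Finite G] {p : ℕ} [Fact p.Prime] (k : ℕ) (hk : 1 ≤ k) (H : Subgroup G) (P : Sylow p ↥H) (hP : ¬ Cfsg.PRankLE p (k - 1) ↥(P : Subgroup ↥H)) (hΓ : (∀ X : Subgroup G, X ≤ (P : Subgroup ↥H).map H.subtype → ¬ Cfsg.PRankLE p (k - 1) ↥X → Subgroup.normalizer (X : Set G) ≤ H)) : ∃ Q : Sylow p G, (Q : Subgroup G) = (P : Subgroup ↥H).map H.subtype := by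
  set P' : Subgroup G := (P : Subgroup ↥H).map H.subtype with hP'
  have hP'H : P' ≤ H := Subgroup.map_subtype_le _
  have hP'p : IsPGroup p P' := P.isPGroup'.map H.subtype
  -- the rank hypothesis transfers along the isomorphism P ≃* P'
  have hrank : ¬ Cfsg.PRankLE p (k - 1) ↥P' := by
    intro h
    apply hP
    intro A hAc hAp
    let e : (P : Subgroup ↥H) ≃* ↥P' :=
      (P : Subgroup ↥H).equivMapOfInjective H.subtype H.subtype_injective
    have hc : IsMulCommutative ↥(A.map e.toMonoidHom) := by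
      haveI := hAc
      exact Subgroup.map_isMulCommutative A e.toMonoidHom
    have hp' : ∀ a ∈ A.map e.toMonoidHom, a ^ p = 1 := by
      rintro _ ⟨a, ha, rfl⟩
      rw [← map_pow, hAp a ha, map_one]
    have := h (A.map e.toMonoidHom) hc hp'
    rwa [Nat.card_congr (A.equivMapOfInjective e.toMonoidHom e.injective).toEquiv.symm] at this
  have hN : Subgroup.normalizer (P' : Set G) ≤ H := hΓ P' le_rfl hrank
  obtain ⟨Q, hQ⟩ := hP'p.exists_le_sylow
  refine ⟨Q, ?_⟩
  by_contra hne
  have hlt : P' < (Q : Subgroup G) := lt_of_le_of_ne hQ (Ne.symm hne)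
  -- normalizers grow in the p-group Q
  haveI : Group.IsNilpotent (Q : Subgroup G) := Q.isPGroup'.isNilpotent
  have hNC := normalizerCondition_of_isNilpotent (G := (Q : Subgroup G))
  have hlt' : P'.subgroupOf (Q : Subgroup G) < ⊤ := by
    rw [lt_top_iff_ne_top]
    intro h
    rw [Subgroup.subgroupOf_eq_top] at h
    exact hne (le_antisymm h hQ)
  obtain ⟨n, hnN, hnP⟩ := SetLike.exists_of_lt (hNC _ hlt')
  have hnP' : (n : G) ∉ P' := by
    intro h; exact hnP (Subgroup.mem_subgroupOf.mpr h)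
  have hnNG : (n : G) ∈ Subgroup.normalizer (P' : Set G) := by
    rw [Subgroup.mem_normalizer_iff]
    intro h
    constructor
    · intro hh
      have := (Subgroup.mem_normalizer_iff.mp hnN ⟨h, hQ hh⟩).mp (Subgroup.mem_subgroupOf.mpr hh)
      simpa [Subgroup.mem_subgroupOf] using this
    · intro hh
      have hhQ : h ∈ (Q : Subgroup G) := by
        have h1 : (n : G) * h * (n : G)⁻¹ ∈ (Q : Subgroup G) := hQ hh
        have : h = (n : G)⁻¹ * ((n : G) * h * (n : G)⁻¹) * (n : G) := by group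
        rw [this]
        exact Subgroup.mul_mem _ (Subgroup.mul_mem _ (Subgroup.inv_mem _ n.2) h1) n.2
      have := (Subgroup.mem_normalizer_iff.mp hnN ⟨h, hhQ⟩).mpr
        (by rw [Subgroup.mem_subgroupOf]; simpa using hh)
      simpa [Subgroup.mem_subgroupOf] using this
  have hnH : (n : G) ∈ H := hN hnNG
  -- the subgroup generated by P' and n is a p-subgroup of H containing P'
  set R : Subgroup G := P' ⊔ Subgroup.zpowers (n : G) with hR
  have hRQ : R ≤ (Q : Subgroup G) := sup_le hQ (by rw [Subgroup.zpowers_le]; exact n.2)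
  have hRH : R ≤ H := sup_le hP'H (by rw [Subgroup.zpowers_le]; exact hnH)
  have hRp : IsPGroup p R := Q.isPGroup'.to_le hRQ
  have hRp' : IsPGroup p (R.subgroupOf H) := hRp.comap_subtype
  have hPR : (P : Subgroup ↥H) ≤ R.subgroupOf H := by
    intro x hx
    rw [Subgroup.mem_subgroupOf]
    exact (le_sup_left : P' ≤ R) (Subgroup.mem_map_of_mem H.subtype hx)
  have hEq := P.is_maximal' hRp' hPR
  apply hnP'
  have hnR : (⟨(n : G), hnH⟩ : H) ∈ R.subgroupOf H := by
    rw [Subgroup.mem_subgroupOf]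
    exact (le_sup_right : Subgroup.zpowers (n : G) ≤ R) (Subgroup.mem_zpowers _)
  rw [hEq] at hnR
  exact ⟨⟨(n : G), hnH⟩, hnR, rfl⟩

end Cfsg.Agent.S1335
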