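-- Statement S1336
import Cfsg.Statements.S1336

set_option autoImplicit false
open Cfsg

namespace Cfsg.Agent.S1336

variable {G : Type*} [Group G]

/-- conjugate of a subgroup -/
abbrev cj (g : G) (A : Subgroup G) : Subgroup G := A.map (MulAut.conj g).toMonoidHom

theorem mem_cj {g x : G} {A : Subgroup G} : x ∈ cj g A ↔ g⁻¹ * x * g ∈ A := by
  constructor
  · rintro ⟨a, ha, rfl⟩
    simpa [mul_assoc] using ha
  · intro h
    refine ⟨g⁻¹ * x * g, h, ?_⟩
    simp [mul_assoc]

theorem conj_mem_cj {g a : G} {A : Subgroup G} (ha : a ∈ A) : g * a * g⁻¹ ∈ cj g A :=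
  ⟨a, ha, by simp⟩

theorem cj_one (A : Subgroup G) : cj 1 A = A := by
  ext x; rw [mem_cj]; simp

theorem cj_mul (g h : G) (A : Subgroup G) : cj (g * h) A = cj g (cj h A) := by
  ext x; simp only [mem_cj]; simp [mul_assoc]

theorem cj_mono (g : G) {A B : Subgroup G} (h : A ≤ B) : cj g A ≤ cj g B := Subgroup.map_mono h

/-- vertices: elementary abelian of order at least `p` -/
def V (p : ℕ) (A : Subgroup G) : Prop := Cfsg.IsElementaryAbelian p A ∧ p ^ 1 ≤ Nat.card ↥A

/-- the edge relation -/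
def R (p : ℕ) (A B : Subgroup G) : Prop :=
  Cfsg.IsElementaryAbelian p A ∧ p ^ 1 ≤ Nat.card ↥A ∧ Cfsg.IsElementaryAbelian p B ∧
        p ^ 1 ≤ Nat.card ↥B ∧ ∀ a ∈ A, ∀ b ∈ B, a * b = b * a

theorem R_symm {p : ℕ} {A B : Subgroup G} (h : R p A B) : R p B A :=
  ⟨h.2.2.1, h.2.2.2.1, h.1, h.2.1, fun b hb a ha => (h.2.2.2.2 a ha b hb).symm⟩

theorem V_cj {p : ℕ} (g : G) {A : Subgroup G} (h : V p A) : V p (cj g A) := by
  obtain ⟨⟨hc, hp⟩, hcard⟩ := h
  refine ⟨⟨?_, ?_⟩, ?_⟩
  · haveI := hc
    exact Subgroup.map_isMulCommutative A _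
  · rintro _ ⟨a, ha, rfl⟩
    rw [← map_pow, hp a ha, map_one]
  · have : Nat.card ↥(cj g A) = Nat.card ↥A :=
      (Nat.card_congr (A.equivMapOfInjective _ (MulAut.conj g).injective).toEquiv).symm
    rw [this]; exact hcard

theorem R_cj {p : ℕ} (g : G) {A B : Subgroup G} (h : R p A B) : R p (cj g A) (cj g B) := by
  have hA := V_cj g (show V p A from ⟨h.1, h.2.1⟩)
  have hB := V_cj g (show V p B from ⟨h.2.2.1, h.2.2.2.1⟩)
  refine ⟨hA.1, hA.2, hB.1, hB.2, ?_⟩
  rintro _ ⟨a, ha, rfl⟩ _ ⟨b, hb, rfl⟩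
  change (MulAut.conj g) a * (MulAut.conj g) b = (MulAut.conj g) b * (MulAut.conj g) a
  rw [← map_mul, ← map_mul, h.2.2.2.2 a ha b hb]

theorem conn_cj {p : ℕ} (g : G) {A B : Subgroup G} (h : Relation.ReflTransGen (R p) A B) :
    Relation.ReflTransGen (R p) (cj g A) (cj g B) := by
  induction h with
  | refl => exact Relation.ReflTransGen.refl
  | tail _ hbc ih => exact Relation.ReflTransGen.tail ih (R_cj g hbc)

theorem conn_symm {p : ℕ} {A B : Subgroup G} (h : Relation.ReflTransGen (R p) A B) :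
    Relation.ReflTransGen (R p) B A := by
  induction h with
  | refl => exact Relation.ReflTransGen.refl
  | tail _ hbc ih => exact Relation.ReflTransGen.head (R_symm hbc) ih

theorem V.isPGroup {p : ℕ} [Fact p.Prime] {A : Subgroup G} (h : V p A) : IsPGroup p A := by
  intro a
  refine ⟨1, ?_⟩
  apply Subtype.ext
  rw [pow_one, Subgroup.coe_pow, h.1.2 a a.2]; rfl

theorem V.exists_orderOf {p : ℕ} [hp : Fact p.Prime] {A : Subgroup G} (h : V p A) :
    ∃ a ∈ A, orderOf a = p := by
  have h1 : 1 < Nat.card A := lt_of_lt_of_le hp.out.one_lt (by simpa using h.2)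
  have : Finite A := Nat.finite_of_card_ne_zero (by omega)
  rw [Finite.one_lt_card_iff_nontrivial] at h1
  obtain ⟨a, ha⟩ := exists_ne (1 : A)
  refine ⟨a, a.2, orderOf_eq_prime (h.1.2 a a.2) ?_⟩
  intro h1
  exact ha (Subtype.ext h1)

theorem V_zpowers {p : ℕ} [hp : Fact p.Prime] {x : G} (hx : orderOf x = p) :
    V p (Subgroup.zpowers x) := by
  refine ⟨⟨inferInstance, ?_⟩, ?_⟩
  · intro a ha
    obtain ⟨k, rfl⟩ := Subgroup.mem_zpowers_iff.mp ha
    rw [← zpow_natCast, ← zpow_mul, mul_comm, zpow_mul, zpow_natCast, ← hx, pow_orderOf_eq_one, one_zpow]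
  · rw [Nat.card_zpowers, hx, pow_one]

/-- In a `p`-subgroup `T` any two vertices are joined through the centre of `T`. -/
theorem conn_of_le_pGroup [Finite G] {p : ℕ} [hp : Fact p.Prime] (T : Subgroup G) (hT : IsPGroup p T)
    {A B : Subgroup G} (hA : V p A) (hB : V p B) (hAT : A ≤ T) (hBT : B ≤ T) :
    Relation.ReflTransGen (R p) A B := by
  obtain ⟨a, haA, ha⟩ := hA.exists_orderOf
  have : Nontrivial T := by
    refine ⟨⟨⟨a, hAT haA⟩, 1, ?_⟩⟩
    intro h
    have : a = 1 := congrArg Subtype.val h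
    rw [this, orderOf_one] at ha
    exact hp.out.one_lt.ne ha
  have hcn := hT.center_nontrivial
  have hcp : IsPGroup p (Subgroup.center T) := hT.to_subgroup _
  have hdvd : p ∣ Nat.card (Subgroup.center T) := by
    rcases hcp.card_eq_or_dvd with h | h
    · exfalso
      have := (Subgroup.card_eq_one (H := Subgroup.center T)).mp h
      exact (Subgroup.nontrivial_iff_ne_bot _).mp hcn this
    · exact h
  obtain ⟨c, hc⟩ := exists_prime_orderOf_dvd_card' p hdvd
  set z : G := ((c : T) : G) with hz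
  have hzo : orderOf z = p := by
    rw [hz, Subgroup.orderOf_coe, Subgroup.orderOf_coe, hc]
  have hzc : ∀ t ∈ T, t * z = z * t := by
    intro t ht
    have := (Subgroup.mem_center_iff.mp c.2) ⟨t, ht⟩
    exact congrArg Subtype.val this
  have hVZ := V_zpowers (p := p) hzo
  have key : ∀ D : Subgroup G, V p D → D ≤ T → R p D (Subgroup.zpowers z) := by
    intro D hD hDT
    refine ⟨hD.1, hD.2, hVZ.1, hVZ.2, ?_⟩
    intro d hd w hw
    obtain ⟨k, rfl⟩ := Subgroup.mem_zpowers_iff.mp hw
    exact ((Commute.zpow_right (hzc d (hDT hd)) k)).eq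
  exact Relation.ReflTransGen.tail (Relation.ReflTransGen.single (key A hA hAT)) (R_symm (key B hB hBT))

/-- Inside a subgroup `H`, two vertices are joined up to conjugation by an element of `H`. -/
theorem conn_of_le_subgroup [Finite G] {p : ℕ} [hp : Fact p.Prime] (H : Subgroup G)
    {A B : Subgroup G} (hA : V p A) (hB : V p B) (hAH : A ≤ H) (hBH : B ≤ H) :
    ∃ h ∈ H, Relation.ReflTransGen (R p) A (cj h B) := by
  have hAp : IsPGroup p (A.subgroupOf H) := hA.isPGroup.comap_subtype
  have hBp : IsPGroup p (B.subgroupOf H) := hB.isPGroup.comap_subtype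
  obtain ⟨T, hTA⟩ := hAp.exists_le_sylow
  obtain ⟨T', hTB⟩ := hBp.exists_le_sylow
  obtain ⟨h, hh⟩ := MulAction.exists_smul_eq H T' T
  refine ⟨h, h.2, ?_⟩
  set TG : Subgroup G := (T : Subgroup H).map H.subtype with hTG
  have hTGp : IsPGroup p TG := T.isPGroup'.map _
  refine conn_of_le_pGroup TG hTGp hA (V_cj _ hB) ?_ ?_
  · intro a ha
    exact ⟨⟨a, hAH ha⟩, hTA (Subgroup.mem_subgroupOf.mpr ha), rfl⟩
  · rintro _ ⟨b, hb, rfl⟩
    have hb' : (⟨b, hBH hb⟩ : H) ∈ (T' : Subgroup H) := hTB (Subgroup.mem_subgroupOf.mpr hb)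
    have : (MulAut.conj h) (⟨b, hBH hb⟩ : H) ∈ ((h • T' : Sylow p H) : Subgroup H) := by
      rw [Sylow.coe_subgroup_smul]
      exact Subgroup.smul_mem_pointwise_smul (⟨b, hBH hb⟩ : H) (MulAut.conj h) (T' : Subgroup H) hb'
    rw [hh] at this
    refine ⟨(MulAut.conj h) (⟨b, hBH hb⟩ : H), this, ?_⟩
    simp

theorem cj_inv_cj (g : G) (A : Subgroup G) : cj g⁻¹ (cj g A) = A := by
  rw [← cj_mul, inv_mul_cancel, cj_one]

theorem cj_cj_inv (g : G) (A : Subgroup G) : cj g (cj g⁻¹ A) = A := by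
  rw [← cj_mul, mul_inv_cancel, cj_one]

theorem cj_self {e : G} {E : Subgroup G} (he : e ∈ E) : cj e E = E := by
  ext x
  rw [mem_cj]
  constructor
  · intro h
    have : x = e * (e⁻¹ * x * e) * e⁻¹ := by group
    rw [this]
    exact E.mul_mem (E.mul_mem he h) (E.inv_mem he)
  · intro h
    exact E.mul_mem (E.mul_mem (E.inv_mem he) h) he

theorem isKConnected_iff {p : ℕ} :
    Cfsg.IsKConnected p 1 G ↔ ∀ E E' : Subgroup G, V p E → V p E' → Relation.ReflTransGen (R p) E E' := by
  constructor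
  · intro h E E' hE hE'
    exact h E E' hE.1 hE.2 hE'.1 hE'.2
  · intro h E E' h1 h2 h3 h4
    exact h E E' ⟨h1, h2⟩ ⟨h3, h4⟩

/-- the stabilizer of the connected component of `E` -/
def stab (p : ℕ) (E : Subgroup G) : Subgroup G where
  carrier := {g | Relation.ReflTransGen (R p) E (cj g E)}
  one_mem' := by
    change Relation.ReflTransGen (R p) E (cj 1 E)
    rw [cj_one]
  mul_mem' := by
    intro a b ha hb
    change Relation.ReflTransGen (R p) E (cj (a * b) E)
    rw [cj_mul]
    exact Relation.ReflTransGen.trans ha (conn_cj a hb)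
  inv_mem' := by
    intro a ha
    change Relation.ReflTransGen (R p) E (cj a⁻¹ E)
    have := conn_cj a⁻¹ ha
    rw [cj_inv_cj] at this
    exact conn_symm this

theorem mem_stab {p : ℕ} {E : Subgroup G} {g : G} :
    g ∈ stab p E ↔ Relation.ReflTransGen (R p) E (cj g E) := Iff.rfl

/-- Let G be finite and p prime. Then G has a proper subgroup H with p ∣ |H| and p ∤ |H ∩ gHg⁻¹| for every g ∉ H (a strongly p-embedded subgroup) if and only if G is not 1-connected for p. -/
theorem result {G : Type*} [Group G] [Finite G] (p : ℕ) [Fact p.Prime] : (∃ H : Subgroup G, H ≠ ⊤ ∧ p ∣ Nat.card ↥H ∧ ∀ g : G, g ∉ H → ¬ p ∣ Nat.card ↥(H ⊓ H.map (MulAut.conj g).toMonoidHom)) ↔ ¬ Cfsg.IsKConnected p 1 G := by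
  constructor
  · rintro ⟨H, hHtop, hpH, hstrong⟩ hconn
    rw [isKConnected_iff] at hconn
    obtain ⟨x, hx⟩ := exists_prime_orderOf_dvd_card' p hpH
    have hxo : orderOf (x : G) = p := by rw [Subgroup.orderOf_coe, hx]
    have hVE := V_zpowers (p := p) hxo
    have hEH : Subgroup.zpowers (x : G) ≤ H := by rw [Subgroup.zpowers_le]; exact x.2
    obtain ⟨g, hg⟩ : ∃ g, g ∉ H := by
      by_contra h
      push Not at h
      exact hHtop (eq_top_iff.mpr fun g _ => h g)
    have hchain := hconn _ _ hVE (V_cj g hVE)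
    have step : ∀ A B : Subgroup G, R p A B → A ≤ H → B ≤ H := by
      intro A B hAB hAH b hb
      by_contra hbH
      apply hstrong b hbH
      obtain ⟨a, haA, hao⟩ := V.exists_orderOf (p := p) (A := A) ⟨hAB.1, hAB.2.1⟩
      have hmem : a ∈ H ⊓ cj b H := by
        refine Subgroup.mem_inf.mpr ⟨hAH haA, ?_⟩
        rw [mem_cj]
        have : b⁻¹ * a * b = a := by
          have := hAB.2.2.2.2 a haA b hb
          calc b⁻¹ * a * b = b⁻¹ * (a * b) := by group
            _ = b⁻¹ * (b * a) := by rw [this]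
            _ = a := by group
        rw [this]
        exact hAH haA
      rw [← hao]
      exact Subgroup.orderOf_dvd_natCard _ hmem
    have hall : ∀ B : Subgroup G, Relation.ReflTransGen (R p) (Subgroup.zpowers (x : G)) B → B ≤ H := by
      intro B hB
      induction hB with
      | refl => exact hEH
      | tail _ hbc ih => exact step _ _ hbc ih
    have hle := hall _ hchain
    have hmem : g * (x : G) * g⁻¹ ∈ H ⊓ cj g H :=
      Subgroup.mem_inf.mpr ⟨hle (conj_mem_cj (Subgroup.mem_zpowers _)), conj_mem_cj x.2⟩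
    have ho : orderOf (g * (x : G) * g⁻¹) = p := by
      rw [← hxo]
      exact orderOf_injective (MulAut.conj g).toMonoidHom (MulAut.conj g).injective (x : G)
    apply hstrong g hg
    rw [← ho]
    exact Subgroup.orderOf_dvd_natCard _ hmem
  · intro hnc
    rw [isKConnected_iff] at hnc
    push Not at hnc
    obtain ⟨E, E', hVE, hVE', hne⟩ := hnc
    have hEH : E ≤ stab p E := by
      intro e he
      rw [mem_stab, cj_self he]
    -- every vertex inside the stabilizer is connected to E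
    have claim1 : ∀ X : Subgroup G, V p X → X ≤ stab p E → Relation.ReflTransGen (R p) E X := by
      intro X hVX hXH
      obtain ⟨h, hh, hc⟩ := conn_of_le_subgroup (stab p E) hVE hVX hEH hXH
      have h1 : Relation.ReflTransGen (R p) E (cj h⁻¹ E) := mem_stab.mp ((stab p E).inv_mem hh)
      have h2 := conn_cj h⁻¹ hc
      rw [cj_inv_cj] at h2
      exact h1.trans h2
    refine ⟨stab p E, ?_, ?_, ?_⟩
    · intro htop
      apply hne
      obtain ⟨h, -, hc⟩ := conn_of_le_subgroup (⊤ : Subgroup G) hVE hVE' le_top le_top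
      have h1 : Relation.ReflTransGen (R p) E (cj h⁻¹ E) := by
        rw [← mem_stab, htop]; exact Subgroup.mem_top _
      have h2 := conn_cj h⁻¹ hc
      rw [cj_inv_cj] at h2
      exact h1.trans h2
    · obtain ⟨a, haE, hao⟩ := hVE.exists_orderOf
      have := Subgroup.orderOf_dvd_natCard _ (hEH haE)
      rwa [hao] at this
    · intro g hg hdvd
      apply hg
      obtain ⟨x, hx⟩ := exists_prime_orderOf_dvd_card' p hdvd
      have hxo : orderOf (x : G) = p := by rw [Subgroup.orderOf_coe, hx]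
      have hVX := V_zpowers (p := p) hxo
      have hxmem := Subgroup.mem_inf.mp x.2
      have hXH : Subgroup.zpowers (x : G) ≤ stab p E := by
        rw [Subgroup.zpowers_le]; exact hxmem.1
      have hXgH : cj g⁻¹ (Subgroup.zpowers (x : G)) ≤ stab p E := by
        have : Subgroup.zpowers (x : G) ≤ cj g (stab p E) := by
          rw [Subgroup.zpowers_le]; exact hxmem.2
        have h2 := cj_mono g⁻¹ this
        rwa [cj_inv_cj] at h2
      have c1 := claim1 _ hVX hXH
      have c2 := claim1 _ (V_cj g⁻¹ hVX) hXgH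
      have c3 := conn_cj g c2
      rw [cj_cj_inv] at c3
      rw [mem_stab]
      exact c1.trans (conn_symm c3)

end Cfsg.Agent.S1336
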