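import Cfsg.Statements.S1337
import Cfsg.Agent.Lib.Helper10.NormalEpSq
import Cfsg.Agent.Lib.Helper9.Rank

set_option autoImplicit false
open Cfsg

namespace Cfsg.Agent.S1337

open Cfsg.Agent.Lib.Helper10

theorem ea_comm {P : Type*} [Group P] {p : ℕ} {Y : Subgroup P} (hY : Cfsg.IsElementaryAbelian p Y)
    {a b : P} (ha : a ∈ Y) (hb : b ∈ Y) : a * b = b * a :=
  congrArg Subtype.val (hY.1.is_comm.comm ⟨a, ha⟩ ⟨b, hb⟩)

theorem not_rank_of_le {P : Type*} [Group P] {p : ℕ} (X Y : Subgroup P)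
    (hY : Cfsg.IsElementaryAbelian p Y) (hYcard : p ^ 2 < Nat.card ↥Y)
    (hYX : Y ≤ Subgroup.centralizer (X : Set P)) :
    ¬ Cfsg.PRankLE p 2 ↥(Subgroup.centralizer (X : Set P)) := fun h =>
  not_lt.mpr (Cfsg.Agent.Lib.Helper9.card_le_of_pRankLE hYX hY.1 hY.2 h) hYcard

theorem le_centralizer_self {P : Type*} [Group P] {p : ℕ} {Y : Subgroup P}
    (hY : Cfsg.IsElementaryAbelian p Y) : Y ≤ Subgroup.centralizer (Y : Set P) := by
  intro y hy
  rw [Subgroup.mem_centralizer_iff]
  intro h hh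
  exact ea_comm hY hh hy

/-- Let P be a finite p-group of p-rank greater than 2. Then P has a normal elementary abelian subgroup U of order p², and for every elementary abelian X ≤ P with |X| ≥ p²: X is joined to U by a chain of pairwise commuting elementary abelian subgroups of order ≥ p² if and only if C_P(X) has p-rank greater than 2. -/
theorem result {P : Type*} [Group P] [Finite P] (p : ℕ) [Fact p.Prime] (hP : IsPGroup p P) (hrk : ¬ Cfsg.PRankLE p 2 P) : ∃ U : Subgroup P, U.Normal ∧ Cfsg.IsElementaryAbelian p U ∧ Nat.card ↥U = p ^ 2 ∧ ∀ X : Subgroup P, Cfsg.IsElementaryAbelian p X → p ^ 2 ≤ Nat.card ↥X → (Relation.ReflTransGen (fun A B : Subgroup P => Cfsg.IsElementaryAbelian p A ∧ p ^ 2 ≤ Nat.card ↥A ∧ Cfsg.IsElementaryAbelian p B ∧ p ^ 2 ≤ Nat.card ↥B ∧ ∀ a ∈ A, ∀ b ∈ B, a * b = b * a) X U ↔ ¬ Cfsg.PRankLE p 2 ↥(Subgroup.centralizer (X : Set P))) := by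
  have hp : p.Prime := Fact.out
  obtain ⟨U, hUn, hUEA, hUcard, hUK⟩ := exists_goodEpSq hP hrk
  refine ⟨U, hUn, hUEA, hUcard, ?_⟩
  -- index bound, in the form we use it
  have hbig : ∀ Y : Subgroup P, p ^ 2 < Nat.card ↥Y →
      p ^ 2 ≤ Nat.card ↥(Y ⊓ Subgroup.centralizer (U : Set P)) := by
    intro Y hY
    have h1 := hUK Y
    have h2 : p < Nat.card ↥(Y ⊓ Subgroup.centralizer (U : Set P)) := by
      rw [sq] at hY
      exact Nat.lt_of_mul_lt_mul_left (lt_of_lt_of_le hY h1)
    exact sq_le_card_of_lt_card (hP.to_subgroup _) h2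
  intro X hXEA hXcard
  constructor
  · intro hchain
    clear hXEA hXcard
    induction hchain using Relation.ReflTransGen.head_induction_on with
    | refl =>
      obtain ⟨E0, hE0c, hE0p, hE0card⟩ : ∃ E0 : Subgroup P, IsMulCommutative ↥E0 ∧
          (∀ a ∈ E0, a ^ p = 1) ∧ p ^ 2 < Nat.card ↥E0 := by
        unfold Cfsg.PRankLE at hrk
        push Not at hrk
        exact hrk
      have hE0 : Cfsg.IsElementaryAbelian p E0 := ⟨hE0c, hE0p⟩
      have hE1 : Cfsg.IsElementaryAbelian p (E0 ⊓ Subgroup.centralizer (U : Set P)) :=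
        Cfsg.H5.isElementaryAbelian_mono hE0 inf_le_left
      have hE1card := hbig E0 hE0card
      have hY1 : Cfsg.IsElementaryAbelian p (E0 ⊓ Subgroup.centralizer (U : Set P) ⊔ U) :=
        Cfsg.H5.isElementaryAbelian_sup hE1 hUEA inf_le_right
      have hY1U : E0 ⊓ Subgroup.centralizer (U : Set P) ⊔ U ≤ Subgroup.centralizer (U : Set P) :=
        sup_le inf_le_right (le_centralizer_self hUEA)
      refine not_rank_of_le U _ hY1 ?_ hY1U
      by_contra hle
      push Not at hle
      have h1 : E0 ⊓ Subgroup.centralizer (U : Set P) =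
          E0 ⊓ Subgroup.centralizer (U : Set P) ⊔ U :=
        Subgroup.eq_of_le_of_card_ge le_sup_left (by omega)
      have h2 : U = E0 ⊓ Subgroup.centralizer (U : Set P) ⊔ U :=
        Subgroup.eq_of_le_of_card_ge le_sup_right (by omega)
      have h3 : U ≤ E0 := by
        rw [h2, ← h1]
        exact inf_le_left
      have h4 : E0 ≤ Subgroup.centralizer (U : Set P) := by
        intro e he
        rw [Subgroup.mem_centralizer_iff]
        intro u hu
        exact ea_comm hE0 (h3 hu) he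
      have h5 : E0 ⊓ Subgroup.centralizer (U : Set P) = E0 := inf_eq_left.mpr h4
      rw [h5] at h1 hle
      rw [← h1] at hle
      omega
    | @head X X' h' _ ih =>
      obtain ⟨hX, hXc, hX', hX'c, hcomm⟩ := h'
      have hXX' : X ≤ Subgroup.centralizer (X' : Set P) := by
        intro x hx
        rw [Subgroup.mem_centralizer_iff]
        intro h hh
        exact (hcomm x hx h hh).symm
      have hW : Cfsg.IsElementaryAbelian p (X ⊔ X') := Cfsg.H5.isElementaryAbelian_sup hX hX' hXX'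
      by_cases hWc : p ^ 2 < Nat.card ↥(X ⊔ X')
      · refine not_rank_of_le X _ hW hWc (sup_le (le_centralizer_self hX) ?_)
        intro x' hx'
        rw [Subgroup.mem_centralizer_iff]
        intro h hh
        exact hcomm h hh x' hx'
      · push Not at hWc
        have h1 : X = X ⊔ X' := Subgroup.eq_of_le_of_card_ge le_sup_left (by omega)
        have h2 : X' = X ⊔ X' := Subgroup.eq_of_le_of_card_ge le_sup_right (by omega)
        have h3 : X = X' := h1.trans h2.symm
        rw [h3]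
        exact ih
  · intro h
    obtain ⟨E, hEC, hEc, hEp, hEcard⟩ := Cfsg.Agent.Lib.Helper9.exists_elemAb_card_of_not_pRankLE h
    have hY : Cfsg.IsElementaryAbelian p (E ⊔ X) :=
      Cfsg.H5.isElementaryAbelian_sup ⟨hEc, hEp⟩ hXEA hEC
    have hYcard : p ^ 2 < Nat.card ↥(E ⊔ X) :=
      lt_of_lt_of_le hEcard (Subgroup.card_le_of_le le_sup_left)
    have hD : Cfsg.IsElementaryAbelian p ((E ⊔ X) ⊓ Subgroup.centralizer (U : Set P)) :=
      Cfsg.H5.isElementaryAbelian_mono hY inf_le_left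
    have hDcard := hbig _ hYcard
    refine Relation.ReflTransGen.head (b := E ⊔ X) ⟨hXEA, hXcard, hY, hYcard.le, ?_⟩
      (Relation.ReflTransGen.head (b := (E ⊔ X) ⊓ Subgroup.centralizer (U : Set P))
        ⟨hY, hYcard.le, hD, hDcard, ?_⟩
        (Relation.ReflTransGen.single ⟨hD, hDcard, hUEA, hUcard.ge, ?_⟩))
    · intro a ha b hb
      exact ea_comm hY ((le_sup_right : X ≤ E ⊔ X) ha) hb
    · intro a ha b hb
      exact ea_comm hY ha ((inf_le_left : (E ⊔ X) ⊓ _ ≤ E ⊔ X) hb)
    · intro a ha b hb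
      exact ((Subgroup.mem_centralizer_iff.mp (Subgroup.mem_inf.mp ha).2) b hb).symm

end Cfsg.Agent.S1337
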