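import Cfsg.Statements.S1338
import Cfsg.Agent.Lib.Helper10.NormalEp4
import Cfsg.Agent.Lib.Helper1.Nilpotent

set_option autoImplicit false
open Cfsg

namespace Cfsg.Agent.S1338

open Cfsg.Agent.Lib.Helper10.NormalEp4

theorem rtg_symm {α : Type*} {r : α → α → Prop} (hs : ∀ a b, r a b → r b a) {a b : α}
    (h : Relation.ReflTransGen r a b) : Relation.ReflTransGen r b a := by
  induction h with
  | refl => exact Relation.ReflTransGen.refl
  | tail _ hbc ih => exact Relation.ReflTransGen.head (hs _ _ hbc) ih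

/-- A finite 3-group of 3-rank at least 4 is 2-connected for the prime 3: its commuting graph on elementary abelian subgroups of order ≥ 9 is connected. -/
theorem result {P : Type*} [Group P] [Finite P] (hP : IsPGroup 3 P) (hrk : ¬ Cfsg.PRankLE 3 3 P) : Cfsg.IsKConnected 3 2 P := by
  unfold Cfsg.PRankLE at hrk
  push_neg at hrk
  obtain ⟨E₀, hE₀c, hE₀3, hE₀card⟩ := hrk
  have hE₀EA : IsElementaryAbelian 3 E₀ := ⟨hE₀c, hE₀3⟩
  have pow_ge : ∀ (H : Subgroup P) (j m : ℕ), 3 ^ j < Nat.card H → m = j + 1 →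
      3 ^ m ≤ Nat.card H := by
    intro H j m hlt hm
    obtain ⟨k, hk⟩ := (hP.to_subgroup H).exists_card_eq
    rw [hk] at hlt ⊢
    have h1 : j < k := (Nat.pow_lt_pow_iff_right (by norm_num)).mp hlt
    exact Nat.pow_le_pow_right (by norm_num) (by omega)
  have hE₀81 : 81 ≤ Nat.card E₀ := by
    have := pow_ge E₀ 3 4 hE₀card rfl
    norm_num at this
    exact this
  obtain ⟨V, hVn, hVEA, hVcard⟩ := exists_normal_elemAb_81 hP E₀ hE₀EA hE₀81
  haveI := hVn
  have hVc : ∀ x ∈ V, ∀ y ∈ V, x * y = y * x := fun a ha b hb =>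
    congrArg Subtype.val (hVEA.1.is_comm.comm ⟨a, ha⟩ ⟨b, hb⟩)
  have hV3 : ∀ x ∈ V, x ^ 3 = 1 := hVEA.2
  have hV9 : 3 ^ 2 ≤ Nat.card V := by norm_num; omega
  -- a central element of order 3 in `V`
  haveI : Group.IsNilpotent P := hP.isNilpotent
  have hVne : V ≠ ⊥ := by
    intro h
    rw [h, Subgroup.card_bot] at hVcard
    omega
  have hz := Cfsg.Agent.Lib.Helper1.inf_center_ne_bot_of_normal V hVne
  obtain ⟨⟨z, hzmem⟩, hz1⟩ := (Subgroup.ne_bot_iff_exists_ne_one).mp hz
  have hz1' : z ≠ 1 := fun h => hz1 (Subtype.ext h)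
  obtain ⟨hzV, hzZ⟩ := Subgroup.mem_inf.mp hzmem
  have hzc : ∀ g : P, g * z = z * g := fun g => Subgroup.mem_center_iff.mp hzZ g
  have hz3 : z ^ 3 = 1 := hV3 z hzV
  -- every vertex is joined to `V`
  have key : ∀ A : Subgroup P, IsElementaryAbelian 3 A → 3 ^ 2 ≤ Nat.card A →
      Relation.ReflTransGen
        (fun A B : Subgroup P => IsElementaryAbelian 3 A ∧ 3 ^ 2 ≤ Nat.card ↥A ∧
          IsElementaryAbelian 3 B ∧ 3 ^ 2 ≤ Nat.card ↥B ∧ ∀ a ∈ A, ∀ b ∈ B, a * b = b * a) A V := by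
    intro A hA hAcard
    have hAc : ∀ x ∈ A, ∀ y ∈ A, x * y = y * x := fun a ha b hb =>
      congrArg Subtype.val (hA.1.is_comm.comm ⟨a, ha⟩ ⟨b, hb⟩)
    by_cases hAV : A ≤ V
    · exact Relation.ReflTransGen.single
        ⟨hA, hAcard, hVEA, hV9, fun a ha b hb => hVc a (hAV ha) b hb⟩
    · obtain ⟨b, hbA, hbV⟩ : ∃ b ∈ A, b ∉ V := by
        by_contra h
        push_neg at h
        exact hAV h
      have hb3 : b ^ 3 = 1 := hA.2 b hbA
      have hb1 : b ≠ 1 := fun h => hbV (h ▸ V.one_mem)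
      -- the subgroup `B₂ = C_V(b)`
      set B₂ : Subgroup P := V ⊓ Subgroup.centralizer ({b} : Set P) with hB₂
      have hB₂V : B₂ ≤ V := inf_le_left
      have hB₂b : ∀ d ∈ B₂, b * d = d * b := by
        intro d hd
        have := (Subgroup.mem_inf.mp hd).2
        rw [Subgroup.mem_centralizer_iff] at this
        exact this b rfl
      have hB₂EA : IsElementaryAbelian 3 B₂ :=
        ⟨⟨⟨fun x y => Subtype.ext (hVc x (hB₂V x.2) y (hB₂V y.2))⟩⟩, fun x hx => hV3 x (hB₂V hx)⟩
      have hB₂card : 3 ^ 2 ≤ Nat.card B₂ := by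
        have h1 := card_le_card_centralizer_pow_three V hVc hV3 b hb3
          (fun v hv => hVn.conj_mem v hv b)
        obtain ⟨k, hk⟩ := (hP.to_subgroup B₂).exists_card_eq
        rw [← hB₂] at h1
        rw [hk] at h1 ⊢
        have hk2 : 2 ≤ k := by
          by_contra hk2
          push_neg at hk2
          have h2 : (3 ^ k) ^ 3 ≤ (3 ^ 1) ^ 3 :=
            Nat.pow_le_pow_left (Nat.pow_le_pow_right (by norm_num) (by omega)) 3
          norm_num at h2
          omega
        exact Nat.pow_le_pow_right (by norm_num) hk2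
      -- the subgroup `B₁ = ⟨b⟩ (V ∩ Z(P))`
      haveI hZ₀n : (V ⊓ Subgroup.center P).Normal := inferInstance
      set B₁ : Subgroup P := Subgroup.zpowers b ⊔ (V ⊓ Subgroup.center P) with hB₁
      have hB₁mem : ∀ x ∈ B₁, ∃ y ∈ Subgroup.zpowers b, ∃ w ∈ V ⊓ Subgroup.center P,
          y * w = x := fun x hx => Subgroup.mem_sup_of_normal_right.mp hx
      have hbB₁ : b ∈ B₁ := Subgroup.mem_sup_left (Subgroup.mem_zpowers b)
      have hzB₁ : z ∈ B₁ := Subgroup.mem_sup_right hzmem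
      -- elements of `B₁` commute with everything commuting with `b`
      have hB₁comm : ∀ x ∈ B₁, ∀ g : P, g * b = b * g → g * x = x * g := by
        intro x hx g hg
        obtain ⟨y, hy, w, hw, rfl⟩ := hB₁mem x hx
        obtain ⟨k, rfl⟩ := Subgroup.mem_zpowers_iff.mp hy
        have hwc : g * w = w * g := Subgroup.mem_center_iff.mp (Subgroup.mem_inf.mp hw).2 g
        have hgb : Commute g b := hg
        have h1 : g * b ^ k = b ^ k * g := (hgb.zpow_right k).eq
        calc g * (b ^ k * w) = (g * b ^ k) * w := by group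
          _ = (b ^ k * g) * w := by rw [h1]
          _ = b ^ k * (g * w) := by group
          _ = b ^ k * (w * g) := by rw [hwc]
          _ = b ^ k * w * g := by group
      have hB₁b : ∀ x ∈ B₁, x * b = b * x := by
        intro x hx
        exact (hB₁comm x hx b rfl).symm
      have hB₁c : ∀ x ∈ B₁, ∀ y ∈ B₁, x * y = y * x := by
        intro x hx y hy
        exact hB₁comm y hy x (hB₁b x hx)
      have hB₁3 : ∀ x ∈ B₁, x ^ 3 = 1 := by
        intro x hx
        obtain ⟨y, hy, w, hw, rfl⟩ := hB₁mem x hx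
        obtain ⟨k, rfl⟩ := Subgroup.mem_zpowers_iff.mp hy
        have hwc : Commute (b ^ k) w :=
          (Subgroup.mem_center_iff.mp (Subgroup.mem_inf.mp hw).2 (b ^ k))
        rw [hwc.mul_pow, hV3 w (Subgroup.mem_inf.mp hw).1, mul_one, ← zpow_natCast,
          ← zpow_mul, mul_comm, zpow_mul, zpow_natCast, hb3, one_zpow]
      have hB₁EA : IsElementaryAbelian 3 B₁ :=
        ⟨⟨⟨fun x y => Subtype.ext (hB₁c x x.2 y y.2)⟩⟩, hB₁3⟩
      have hB₁card : 3 ^ 2 ≤ Nat.card B₁ := by
        have hzb : z ∉ Subgroup.zpowers b := by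
          intro hzb
          have hcb : Nat.card (Subgroup.zpowers b) = 3 := by
            rw [Nat.card_zpowers]
            exact orderOf_eq_prime hb3 hb1
          have hb' : b ∈ Subgroup.zpowers z := by
            have hz' : (⟨z, hzb⟩ : Subgroup.zpowers b) ≠ 1 := fun h =>
              hz1' (congrArg Subtype.val h)
            have h1 : (⟨b, Subgroup.mem_zpowers b⟩ : Subgroup.zpowers b) ∈
                Subgroup.zpowers (⟨z, hzb⟩ : Subgroup.zpowers b) :=
              mem_zpowers_of_prime_card hcb hz'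
            obtain ⟨n, hn⟩ := Subgroup.mem_zpowers_iff.mp h1
            refine Subgroup.mem_zpowers_iff.mpr ⟨n, ?_⟩
            have h2 := congrArg Subtype.val hn
            simpa using h2
          exact hbV ((Subgroup.zpowers_le.mpr hzV) hb')
        have hlt : Subgroup.zpowers b < B₁ := by
          refine lt_of_le_of_ne le_sup_left ?_
          intro h
          exact hzb (h ▸ hzB₁)
        have h1 := Cfsg.Agent.Lib.Helper10.card_mul_le_of_lt hP hlt
        have hcb : Nat.card (Subgroup.zpowers b) = 3 := by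
          rw [Nat.card_zpowers]
          exact orderOf_eq_prime hb3 hb1
        rw [hcb] at h1
        norm_num
        omega
      -- the three edges
      have e1 : (fun A B : Subgroup P => IsElementaryAbelian 3 A ∧ 3 ^ 2 ≤ Nat.card ↥A ∧
          IsElementaryAbelian 3 B ∧ 3 ^ 2 ≤ Nat.card ↥B ∧ ∀ a ∈ A, ∀ b ∈ B, a * b = b * a) A B₁ :=
        ⟨hA, hAcard, hB₁EA, hB₁card, fun a ha x hx => hB₁comm x hx a (hAc a ha b hbA)⟩
      have e2 : (fun A B : Subgroup P => IsElementaryAbelian 3 A ∧ 3 ^ 2 ≤ Nat.card ↥A ∧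
          IsElementaryAbelian 3 B ∧ 3 ^ 2 ≤ Nat.card ↥B ∧ ∀ a ∈ A, ∀ b ∈ B, a * b = b * a) B₁ B₂ :=
        ⟨hB₁EA, hB₁card, hB₂EA, hB₂card, fun x hx d hd =>
          (hB₁comm x hx d (hB₂b d hd).symm).symm⟩
      have e3 : (fun A B : Subgroup P => IsElementaryAbelian 3 A ∧ 3 ^ 2 ≤ Nat.card ↥A ∧
          IsElementaryAbelian 3 B ∧ 3 ^ 2 ≤ Nat.card ↥B ∧ ∀ a ∈ A, ∀ b ∈ B, a * b = b * a) B₂ V :=
        ⟨hB₂EA, hB₂card, hVEA, hV9, fun d hd v hv => hVc d (hB₂V hd) v hv⟩
      exact Relation.ReflTransGen.head e1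
        (Relation.ReflTransGen.head e2 (Relation.ReflTransGen.single e3))
  intro E E' hE hEc hE' hE'c
  have h1 := key E hE hEc
  have h2 := key E' hE' hE'c
  refine h1.trans (rtg_symm ?_ h2)
  intro A B h
  exact ⟨h.2.2.1, h.2.2.2.1, h.1, h.2.1, fun a ha b hb => (h.2.2.2.2 b hb a ha).symm⟩

end Cfsg.Agent.S1338
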