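import Cfsg.Statements.S1339
import Cfsg.Agent.Lib.Helper9.GfsP
import Cfsg.Agent.Lib.Helper1.Cores

set_option autoImplicit false
open Cfsg

namespace Cfsg.Agent.S1339

open Matrix

section Field2

variable {F : Type*} [Field F] [Fintype F] [DecidableEq F]

theorem eq_zero_or_one (hF : Fintype.card F = 2) (x : F) : x = 0 ∨ x = 1 := by
  have h1 : ({0, 1} : Finset F) = Finset.univ := by
    apply Finset.eq_univ_of_card
    rw [Finset.card_pair zero_ne_one, hF]
  have h2 : x ∈ ({0, 1} : Finset F) := by rw [h1]; exact Finset.mem_univ x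
  simpa using h2

theorem two_eq_zero (hF : Fintype.card F = 2) : (2 : F) = 0 := by
  rcases eq_zero_or_one hF (2 : F) with h | h
  · exact h
  · exfalso
    have h1 : (1 : F) + 1 = 1 := by
      have : (2 : F) = 1 + 1 := by norm_num
      rw [← this]; exact h
    have h2 : (1 : F) = 0 := by
      have := congrArg (fun x => x - 1) h1
      simpa using this
    exact one_ne_zero h2

theorem add_self_eq_zero' (hF : Fintype.card F = 2) {ι : Type*} (N : Matrix ι ι F) : N + N = 0 := by
  ext a b
  rw [Matrix.add_apply, ← two_mul, two_eq_zero hF, zero_mul]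
  rfl

end Field2

section Comm

variable {F : Type*} [Field F] {ι : Type*} [Fintype ι] [DecidableEq ι]

/-- commuting with `E_{ib}`: column `i` -/
theorem col_of_comm (g : Matrix ι ι F) (i b : ι) (h : g * single i b (1 : F) = single i b (1 : F) * g)
    (a : ι) (ha : a ≠ i) : g a i = 0 := by
  have h1 := congrFun (congrFun h a) b
  rw [mul_single_apply_same, single_mul_apply_of_ne (h := ha), mul_one] at h1
  exact h1

/-- commuting with `E_{ib}`: row `b` -/
theorem row_of_comm (g : Matrix ι ι F) (i b : ι) (h : g * single i b (1 : F) = single i b (1 : F) * g)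
    (c : ι) (hc : c ≠ b) : g b c = 0 := by
  have h1 := congrFun (congrFun h i) c
  rw [mul_single_apply_of_ne (hbj := hc), single_mul_apply_same, one_mul] at h1
  exact h1.symm

/-- commuting with `E_{ib}`: the two diagonal entries -/
theorem diag_of_comm (g : Matrix ι ι F) (i b : ι) (h : g * single i b (1 : F) = single i b (1 : F) * g) :
    g i i = g b b := by
  have h1 := congrFun (congrFun h i) b
  rw [mul_single_apply_same, single_mul_apply_same, one_mul, mul_one] at h1
  exact h1

theorem comm_single_of_comm_transvection (g : Matrix ι ι F) (i b : ι)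
    (h : g * (1 + single i b (1 : F)) = (1 + single i b (1 : F)) * g) :
    g * single i b (1 : F) = single i b (1 : F) * g := by
  rw [mul_add, add_mul, mul_one, one_mul] at h
  exact add_left_cancel h

end Comm

section Main

variable {F : Type*} [Field F] {n : ℕ}

/-- the index set away from `i, j` -/
abbrev Idx (i j : Fin n) : Type := {a : Fin n // a ≠ i ∧ a ≠ j}

variable (i j : Fin n) (t : Matrix.SpecialLinearGroup (Fin n) F)

/-- the centralizer -/
abbrev Ct : Subgroup (Matrix.SpecialLinearGroup (Fin n) F) :=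
  Subgroup.centralizer ({t} : Set (Matrix.SpecialLinearGroup (Fin n) F))

variable {i j t}

theorem cent_comm (ht : (t : Matrix (Fin n) (Fin n) F) = Matrix.transvection i j 1)
    (g : Matrix.SpecialLinearGroup (Fin n) F) (hg : g ∈ Ct t) :
    (g : Matrix (Fin n) (Fin n) F) * single i j (1 : F) = single i j (1 : F) * g := by
  have h := Subgroup.mem_centralizer_singleton_iff.mp hg
  have h1 := congrArg (fun g : Matrix.SpecialLinearGroup (Fin n) F =>
    (g : Matrix (Fin n) (Fin n) F)) h
  simp only [Matrix.SpecialLinearGroup.coe_mul, ht, Matrix.transvection] at h1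
  exact comm_single_of_comm_transvection _ _ _ h1

theorem mem_cent_of_comm (ht : (t : Matrix (Fin n) (Fin n) F) = Matrix.transvection i j 1)
    (g : Matrix.SpecialLinearGroup (Fin n) F)
    (h : (g : Matrix (Fin n) (Fin n) F) * single i j (1 : F) = single i j (1 : F) * g) :
    g ∈ Ct t := by
  rw [Subgroup.mem_centralizer_singleton_iff]
  apply Subtype.ext
  simp only [Matrix.SpecialLinearGroup.coe_mul, ht, Matrix.transvection]
  rw [mul_add, add_mul, mul_one, one_mul, h]

/-- the action on the middle section, as a monoid hom -/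
def rho (ht : (t : Matrix (Fin n) (Fin n) F) = Matrix.transvection i j 1) :
    ↥(Ct t) →* Matrix (Idx i j) (Idx i j) F where
  toFun g := ((g : Matrix.SpecialLinearGroup (Fin n) F) : Matrix (Fin n) (Fin n) F).submatrix
    Subtype.val Subtype.val
  map_one' := by
    show (1 : Matrix (Fin n) (Fin n) F).submatrix Subtype.val Subtype.val = 1
    exact Matrix.submatrix_one _ Subtype.val_injective
  map_mul' g h := by
    ext a b
    show (((g * h : ↥(Ct t)) : Matrix.SpecialLinearGroup (Fin n) F) :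
      Matrix (Fin n) (Fin n) F) a.1 b.1 = _
    rw [Subgroup.coe_mul, Matrix.SpecialLinearGroup.coe_mul, Matrix.mul_apply, Matrix.mul_apply]
    have hg := cent_comm ht g.1 g.2
    have hh := cent_comm ht h.1 h.2
    have hfilter : ∑ c ∈ Finset.univ.filter (fun c : Fin n => c ≠ i ∧ c ≠ j),
        ((g : Matrix.SpecialLinearGroup (Fin n) F) : Matrix (Fin n) (Fin n) F) a.1 c *
        ((h : Matrix.SpecialLinearGroup (Fin n) F) : Matrix (Fin n) (Fin n) F) c b.1 =
        ∑ c, ((g : Matrix.SpecialLinearGroup (Fin n) F) : Matrix (Fin n) (Fin n) F) a.1 c *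
        ((h : Matrix.SpecialLinearGroup (Fin n) F) : Matrix (Fin n) (Fin n) F) c b.1 := by
      apply Finset.sum_filter_of_ne
      intro c _ hne
      refine ⟨?_, ?_⟩
      · rintro rfl
        apply hne
        rw [col_of_comm _ _ _ hg a.1 a.2.1, zero_mul]
      · rintro rfl
        apply hne
        rw [row_of_comm _ _ _ hh b.1 b.2.2, mul_zero]
    rw [← hfilter]
    rw [Finset.sum_subtype (Finset.univ.filter (fun c : Fin n => c ≠ i ∧ c ≠ j))
      (p := fun c : Fin n => c ≠ i ∧ c ≠ j) (by intro x; simp)]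
    rfl

/-- the large normal 2-subgroup -/
def Q (ht : (t : Matrix (Fin n) (Fin n) F) = Matrix.transvection i j 1) : Subgroup ↥(Ct t) :=
  (rho ht).ker

instance (ht : (t : Matrix (Fin n) (Fin n) F) = Matrix.transvection i j 1) : (Q ht).Normal := by
  unfold Q; infer_instance

theorem mem_Q_iff (ht : (t : Matrix (Fin n) (Fin n) F) = Matrix.transvection i j 1) (g : ↥(Ct t)) :
    g ∈ Q ht ↔ ∀ a b : Fin n, a ≠ i → a ≠ j → b ≠ i → b ≠ j →
      ((g : Matrix.SpecialLinearGroup (Fin n) F) : Matrix (Fin n) (Fin n) F) a b =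
        (1 : Matrix (Fin n) (Fin n) F) a b := by
  unfold Q
  rw [MonoidHom.mem_ker]
  constructor
  · intro h a b ha1 ha2 hb1 hb2
    have h1 := congrFun (congrFun h ⟨a, ha1, ha2⟩) ⟨b, hb1, hb2⟩
    have h2 : (1 : Matrix (Idx i j) (Idx i j) F) ⟨a, ha1, ha2⟩ ⟨b, hb1, hb2⟩ =
        (1 : Matrix (Fin n) (Fin n) F) a b := by
      simp [Matrix.one_apply]
    rw [h2] at h1
    exact h1
  · intro h
    ext a b
    have h1 := h a.1 b.1 a.2.1 a.2.2 b.2.1 b.2.2
    have h2 : (1 : Matrix (Idx i j) (Idx i j) F) a b =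
        (1 : Matrix (Fin n) (Fin n) F) a.1 b.1 := by
      simp [Matrix.one_apply, Subtype.ext_iff]
    rw [h2, ← h1]
    rfl

section Two

variable [Fintype F] [DecidableEq F]

theorem cent_diag_one (hF : Fintype.card F = 2)
    (ht : (t : Matrix (Fin n) (Fin n) F) = Matrix.transvection i j 1)
    (g : Matrix.SpecialLinearGroup (Fin n) F) (hg : g ∈ Ct t) :
    (g : Matrix (Fin n) (Fin n) F) i i = 1 := by
  rcases eq_zero_or_one hF ((g : Matrix (Fin n) (Fin n) F) i i) with h | h
  · exfalso
    have hcomm := cent_comm ht g hg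
    have hdet : (g : Matrix (Fin n) (Fin n) F).det = 0 := by
      apply Matrix.det_eq_zero_of_column_eq_zero i
      intro a
      by_cases ha : a = i
      · rw [ha]; exact h
      · exact col_of_comm _ _ _ hcomm a ha
    rw [g.2] at hdet
    exact one_ne_zero hdet
  · exact h

/-- the nilpotent part of an element of `Q` -/
theorem nil_facts (hF : Fintype.card F = 2) (hij : i ≠ j)
    (ht : (t : Matrix (Fin n) (Fin n) F) = Matrix.transvection i j 1)
    (g : ↥(Ct t)) (hg : g ∈ Q ht) :
    ∃ N : Matrix (Fin n) (Fin n) F,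
      ((g : Matrix.SpecialLinearGroup (Fin n) F) : Matrix (Fin n) (Fin n) F) = 1 + N ∧
      (∀ a, N a i = 0) ∧ (∀ b, N j b = 0) ∧ (∀ a b, a ≠ i → b ≠ j → N a b = 0) := by
  set M := ((g : Matrix.SpecialLinearGroup (Fin n) F) : Matrix (Fin n) (Fin n) F) with hM
  have hcomm : M * single i j (1 : F) = single i j (1 : F) * M := cent_comm ht g.1 g.2
  have hii : M i i = 1 := cent_diag_one hF ht g.1 g.2
  have hjj : M j j = 1 := by rw [← diag_of_comm _ _ _ hcomm]; exact hii
  have ha : ∀ a, (M - 1) a i = 0 := by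
    intro a
    rw [Matrix.sub_apply]
    by_cases h : a = i
    · rw [h, Matrix.one_apply_eq, hii, sub_self]
    · rw [Matrix.one_apply_ne h, sub_zero]
      exact col_of_comm _ _ _ hcomm a h
  have hb : ∀ b, (M - 1) j b = 0 := by
    intro b
    rw [Matrix.sub_apply]
    by_cases h : b = j
    · rw [h, Matrix.one_apply_eq, hjj, sub_self]
    · rw [Matrix.one_apply_ne (Ne.symm h), sub_zero]
      exact row_of_comm _ _ _ hcomm b h
  refine ⟨M - 1, by abel, ha, hb, ?_⟩
  intro a b hai hbj
  by_cases hbi : b = i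
  · rw [hbi]; exact ha a
  by_cases haj : a = j
  · rw [haj]; exact hb b
  rw [Matrix.sub_apply, sub_eq_zero]
  exact (mem_Q_iff ht g).mp hg a b hai haj hbi hbj

theorem sq_support (hij : i ≠ j) (N : Matrix (Fin n) (Fin n) F)
    (h1 : ∀ a, N a i = 0) (h2 : ∀ b, N j b = 0) (h3 : ∀ a b, a ≠ i → b ≠ j → N a b = 0)
    (a d : Fin n) (had : ¬ (a = i ∧ d = j)) : (N * N) a d = 0 := by
  rw [Matrix.mul_apply]
  apply Finset.sum_eq_zero
  intro c _
  by_cases hci : c = i
  · rw [hci, h1 a, zero_mul]
  by_cases hcj : c = j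
  · rw [hcj, h2 d, mul_zero]
  by_cases hai : a = i
  · have hdj : d ≠ j := fun h => had ⟨hai, h⟩
    rw [h3 c d hci hdj, mul_zero]
  · rw [h3 a c hai hcj, zero_mul]

theorem fourth_zero (hij : i ≠ j) (N : Matrix (Fin n) (Fin n) F)
    (h1 : ∀ a, N a i = 0) (h2 : ∀ b, N j b = 0) (h3 : ∀ a b, a ≠ i → b ≠ j → N a b = 0) :
    (N * N) * (N * N) = 0 := by
  ext a d
  rw [Matrix.mul_apply]
  apply Finset.sum_eq_zero
  intro c _
  by_cases hcj : c = j
  · have : ¬ (c = i ∧ d = j) := fun h => hij (h.1.symm.trans hcj)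
    rw [sq_support hij N h1 h2 h3 c d this, mul_zero]
  · have : ¬ (a = i ∧ c = j) := fun h => hcj h.2
    rw [sq_support hij N h1 h2 h3 a c this, zero_mul]

theorem pow_four_eq_one (hF : Fintype.card F = 2) (hij : i ≠ j)
    (ht : (t : Matrix (Fin n) (Fin n) F) = Matrix.transvection i j 1)
    (g : ↥(Ct t)) (hg : g ∈ Q ht) :
    ((g : Matrix.SpecialLinearGroup (Fin n) F) : Matrix (Fin n) (Fin n) F) ^ 4 = 1 := by
  obtain ⟨N, hM, h1, h2, h3⟩ := nil_facts hF hij ht g hg
  rw [hM]
  have hsq : (1 + N) * (1 + N) = 1 + N * N := by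
    rw [mul_add, add_mul, add_mul, one_mul, mul_one, one_mul]
    have := add_self_eq_zero' hF N
    calc 1 + N + (N + N * N) = 1 + (N + N) + N * N := by abel
      _ = 1 + N * N := by rw [this, add_zero]
  have h4 : (1 + N * N) * (1 + N * N) = 1 := by
    rw [mul_add, add_mul, add_mul, one_mul, mul_one, one_mul, fourth_zero hij N h1 h2 h3]
    have := add_self_eq_zero' hF (N * N)
    calc 1 + N * N + (N * N + 0) = 1 + (N * N + N * N) := by abel
      _ = 1 := by rw [this, add_zero]
  calc (1 + N) ^ 4 = ((1 + N) * (1 + N)) * ((1 + N) * (1 + N)) := by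
        simp only [pow_succ, pow_zero, one_mul, mul_assoc]
    _ = 1 := by rw [hsq, h4]

theorem isPGroup_Q (hF : Fintype.card F = 2) (hij : i ≠ j)
    (ht : (t : Matrix (Fin n) (Fin n) F) = Matrix.transvection i j 1) :
    IsPGroup 2 ↥(Q ht) := by
  rintro ⟨g, hg⟩
  refine ⟨2, ?_⟩
  apply Subtype.ext
  apply Subtype.ext
  apply Subtype.ext
  have := pow_four_eq_one hF hij ht g hg
  simpa using this

/-- the transvection `1 + E_{ib}` as an element of the centralizer -/
def tb (hij : i ≠ j) (ht : (t : Matrix (Fin n) (Fin n) F) = Matrix.transvection i j 1)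
    (b : Fin n) (hb : i ≠ b) : ↥(Ct t) :=
  ⟨Matrix.SpecialLinearGroup.transvection hb (1 : F), by
    apply mem_cent_of_comm ht
    rw [Matrix.SpecialLinearGroup.transvection_coe, add_mul, mul_add, one_mul, mul_one,
      single_mul_single_of_ne (h := Ne.symm hb), single_mul_single_of_ne (h := Ne.symm hij)]⟩

theorem tb_mem_Q (hij : i ≠ j) (ht : (t : Matrix (Fin n) (Fin n) F) = Matrix.transvection i j 1)
    (b : Fin n) (hb : i ≠ b) : tb hij ht b hb ∈ Q ht := by
  rw [mem_Q_iff]
  intro a c ha1 _ _ _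
  show (Matrix.SpecialLinearGroup.transvection hb (1 : F) : Matrix (Fin n) (Fin n) F) a c = _
  rw [Matrix.SpecialLinearGroup.transvection_coe, Matrix.add_apply, Matrix.single_apply]
  simp [Ne.symm ha1]

theorem centralizer_Q_le (hF : Fintype.card F = 2) (hij : i ≠ j)
    (ht : (t : Matrix (Fin n) (Fin n) F) = Matrix.transvection i j 1) :
    Subgroup.centralizer ((Q ht : Subgroup ↥(Ct t)) : Set ↥(Ct t)) ≤ Q ht := by
  intro g hg
  rw [mem_Q_iff]
  intro a c ha1 ha2 hc1 hc2
  have h1 := hg (tb hij ht a (Ne.symm ha1)) (tb_mem_Q hij ht a (Ne.symm ha1))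
  have h2 := congrArg (fun x : ↥(Ct t) =>
    ((x : Matrix.SpecialLinearGroup (Fin n) F) : Matrix (Fin n) (Fin n) F)) h1
  simp only [Subgroup.coe_mul, Matrix.SpecialLinearGroup.coe_mul] at h2
  have h3 : ((tb hij ht a (Ne.symm ha1) : ↥(Ct t)) : Matrix.SpecialLinearGroup (Fin n) F).1 =
      1 + single i a (1 : F) := rfl
  have h2' : ((g : Matrix.SpecialLinearGroup (Fin n) F) : Matrix (Fin n) (Fin n) F) *
      (1 + single i a (1 : F)) = (1 + single i a (1 : F)) *
      ((g : Matrix.SpecialLinearGroup (Fin n) F) : Matrix (Fin n) (Fin n) F) := by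
    rw [← h3]; exact h2.symm
  have h4 := comm_single_of_comm_transvection _ _ _ h2'
  by_cases hac : c = a
  · rw [hac, Matrix.one_apply_eq, ← diag_of_comm _ _ _ h4]
    exact cent_diag_one hF ht g.1 g.2
  · rw [Matrix.one_apply_ne (Ne.symm hac)]
    exact row_of_comm _ _ _ h4 c hac

end Two

end Main

/-- Let F be a field with 2 elements, n ≥ 3, and t ∈ SL(n, F) a transvection (t = 1 + E_{ij}, i ≠ j). Then the generalized Fitting subgroup of C(t) is O_2(C(t)). -/
theorem result {F : Type*} [Field F] [Fintype F] [DecidableEq F] (hF : Fintype.card F = 2) (n : ℕ) (hn : 3 ≤ n) (i j : Fin n) (hij : i ≠ j) (t : Matrix.SpecialLinearGroup (Fin n) F) (ht : (t : Matrix (Fin n) (Fin n) F) = Matrix.transvection i j 1) : Cfsg.generalizedFittingSubgroup ↥(Subgroup.centralizer ({t} : Set (Matrix.SpecialLinearGroup (Fin n) F))) = Cfsg.pCore 2 ↥(Subgroup.centralizer ({t} : Set (Matrix.SpecialLinearGroup (Fin n) F))) := by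
  haveI : Fact (Nat.Prime 2) := ⟨Nat.prime_two⟩
  haveI : Finite (Matrix.SpecialLinearGroup (Fin n) F) := inferInstance
  apply Cfsg.Agent.Lib.Helper9.gfs_eq_pCore_of_isPGroup
  have hQle : Q ht ≤ Cfsg.pCore 2 ↥(Ct t) :=
    Cfsg.Agent.Lib.Helper1.le_pCore inferInstance (isPGroup_Q hF hij ht)
  apply Cfsg.Agent.Lib.Helper9.isPGroup_gfs_of_centralizer_pCore_le (Cfsg.pCore 2 ↥(Ct t))
  · exact (Subgroup.centralizer_le hQle).trans ((centralizer_Q_le hF hij ht).trans hQle)
  · exact (Cfsg.Agent.Lib.Helper1.pCore_isPGroup 2).to_subgroup _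

end Cfsg.Agent.S1339
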