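import Cfsg.Statements.S1340
import Cfsg.Agent.Lib.Helper15.PSLSimple
import Cfsg.Agent.Lib.Helper9.PComp3
import Cfsg.Agent.Lib.Helper1.Cores

set_option autoImplicit false
open Cfsg

namespace Cfsg.Agent.S1340

open Matrix

section Emb

variable {F : Type*} [Field F] {m : ℕ}

/-- the block embedding `A ↦ diag(1, A)` -/
def embFun (A : Matrix (Fin m) (Fin m) F) : Matrix (Fin (m+1)) (Fin (m+1)) F :=
  Matrix.of (fun i j => Fin.cases (Fin.cases (1:F) (fun _ => 0) j)
    (fun i' => Fin.cases (0:F) (fun j' => A i' j') j) i)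

@[simp] theorem embFun_zero_zero (A : Matrix (Fin m) (Fin m) F) : embFun A 0 0 = 1 := by
  simp [embFun]
@[simp] theorem embFun_zero_succ (A : Matrix (Fin m) (Fin m) F) (j : Fin m) :
    embFun A 0 j.succ = 0 := by
  simp [embFun]
@[simp] theorem embFun_succ_zero (A : Matrix (Fin m) (Fin m) F) (i : Fin m) :
    embFun A i.succ 0 = 0 := by
  simp [embFun]
@[simp] theorem embFun_succ_succ (A : Matrix (Fin m) (Fin m) F) (i j : Fin m) :
    embFun A i.succ j.succ = A i j := by
  simp [embFun]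

theorem embFun_one : embFun (1 : Matrix (Fin m) (Fin m) F) = 1 := by
  ext i j
  refine Fin.cases ?_ (fun i' => ?_) i <;> refine Fin.cases ?_ (fun j' => ?_) j
  · simp
  · simp [Matrix.one_apply, (Fin.succ_ne_zero j').symm]
  · simp [Matrix.one_apply, Fin.succ_ne_zero i']
  · simp [Matrix.one_apply, Fin.succ_inj]

theorem embFun_mul (A B : Matrix (Fin m) (Fin m) F) :
    embFun (A * B) = embFun A * embFun B := by
  ext i j
  rw [Matrix.mul_apply, Fin.sum_univ_succ]
  refine Fin.cases ?_ (fun i' => ?_) i <;> refine Fin.cases ?_ (fun j' => ?_) j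
  · simp
  · simp
  · simp
  · simp [Matrix.mul_apply]

theorem det_embFun (A : Matrix (Fin m) (Fin m) F) : (embFun A).det = A.det := by
  rw [Matrix.det_succ_row_zero, Fin.sum_univ_succ]
  have h1 : (embFun A).submatrix Fin.succ (Fin.succAbove 0) = A := by
    ext i j
    simp [Fin.succAbove_zero]
  rw [h1]
  simp

theorem embFun_injective : Function.Injective (embFun : Matrix (Fin m) (Fin m) F → _) := by
  intro A B h
  ext i j
  have := congrFun (congrFun h i.succ) j.succ
  simpa using this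

/-- the block embedding as a monoid hom -/
def embHom : Matrix (Fin m) (Fin m) F →* Matrix (Fin (m+1)) (Fin (m+1)) F where
  toFun := embFun
  map_one' := embFun_one
  map_mul' := embFun_mul

/-- the embedding of `SL_m` into `GL_{m+1}` -/
def slEmb : Matrix.SpecialLinearGroup (Fin m) F →* Matrix.GeneralLinearGroup (Fin (m+1)) F :=
  (Units.map embHom).comp Matrix.SpecialLinearGroup.toGL

theorem slEmb_coe (A : Matrix.SpecialLinearGroup (Fin m) F) :
    ((slEmb A : Matrix.GeneralLinearGroup (Fin (m+1)) F) : Matrix (Fin (m+1)) (Fin (m+1)) F)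
      = embFun (A : Matrix (Fin m) (Fin m) F) := rfl

theorem slEmb_injective : Function.Injective (slEmb : Matrix.SpecialLinearGroup (Fin m) F → _) := by
  intro A B h
  have h1 := congrArg (fun g : Matrix.GeneralLinearGroup (Fin (m+1)) F =>
    (g : Matrix (Fin (m+1)) (Fin (m+1)) F)) h
  simp only [slEmb_coe] at h1
  exact Subtype.ext (embFun_injective h1)

/-- the diagonal of the involution -/
def tDiag : Fin (m+1) → F := Fin.cons (-1) (fun _ => 1)

@[simp] theorem tDiag_zero : (tDiag : Fin (m+1) → F) 0 = -1 := rfl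
@[simp] theorem tDiag_succ (i : Fin m) : (tDiag : Fin (m+1) → F) i.succ = 1 := by
  simp [tDiag]

theorem tDiag_mul_self : (Matrix.diagonal (tDiag : Fin (m+1) → F)) * Matrix.diagonal tDiag = 1 := by
  rw [Matrix.diagonal_mul_diagonal, ← Matrix.diagonal_one]
  congr 1
  funext i
  refine Fin.cases ?_ (fun i' => ?_) i <;> simp

/-- the involution `diag(-1, 1, …, 1)` -/
def tInv : Matrix.GeneralLinearGroup (Fin (m+1)) F :=
  ⟨Matrix.diagonal tDiag, Matrix.diagonal tDiag, tDiag_mul_self, tDiag_mul_self⟩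

theorem tInv_coe : ((tInv : Matrix.GeneralLinearGroup (Fin (m+1)) F) :
    Matrix (Fin (m+1)) (Fin (m+1)) F) = Matrix.diagonal tDiag := rfl

theorem tInv_mul_self : (tInv : Matrix.GeneralLinearGroup (Fin (m+1)) F) * tInv = 1 := by
  apply Units.ext
  rw [Units.val_mul, tInv_coe, tDiag_mul_self]
  rfl

end Emb

section Cent

variable {F : Type*} [Field F] {m : ℕ}

theorem two_ne_zero_of_odd [Fintype F] (hF : Odd (Fintype.card F)) : (2 : F) ≠ 0 := by
  intro h
  haveI : CharP F 2 := CharTwo.of_one_ne_zero_of_two_eq_zero one_ne_zero h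
  have hchar : ringChar F = 2 := ringChar.eq F 2
  have := FiniteField.even_card_of_char_two hchar
  rcases hF with ⟨k, hk⟩
  omega

/-- the centralizer of the involution -/
abbrev Ct (F : Type*) [Field F] (m : ℕ) : Subgroup (Matrix.GeneralLinearGroup (Fin (m+1)) F) :=
  Subgroup.centralizer ({tInv} : Set (Matrix.GeneralLinearGroup (Fin (m+1)) F))

theorem cent_entry (h2 : (2 : F) ≠ 0) (g : Matrix.GeneralLinearGroup (Fin (m+1)) F)
    (hg : g ∈ Ct F m) (i j : Fin (m+1)) :
    (g : Matrix (Fin (m+1)) (Fin (m+1)) F) i j * tDiag j = tDiag i *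
      (g : Matrix (Fin (m+1)) (Fin (m+1)) F) i j := by
  have h := Subgroup.mem_centralizer_singleton_iff.mp hg
  have h1 := congrArg (fun g : Matrix.GeneralLinearGroup (Fin (m+1)) F =>
    (g : Matrix (Fin (m+1)) (Fin (m+1)) F)) h
  simp only [Units.val_mul, tInv_coe] at h1
  have h3 := congrFun (congrFun h1 i) j
  rw [Matrix.mul_diagonal, Matrix.diagonal_mul] at h3
  exact h3

theorem cent_zero_succ (h2 : (2 : F) ≠ 0) (g : Matrix.GeneralLinearGroup (Fin (m+1)) F)
    (hg : g ∈ Ct F m) (j : Fin m) :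
    (g : Matrix (Fin (m+1)) (Fin (m+1)) F) 0 j.succ = 0 := by
  have h := cent_entry h2 g hg 0 j.succ
  rw [tDiag_zero, tDiag_succ, mul_one, neg_one_mul] at h
  have h4 : (2 : F) * (g : Matrix (Fin (m+1)) (Fin (m+1)) F) 0 j.succ = 0 := by
    rw [two_mul]
    nth_rewrite 1 [h]
    exact neg_add_cancel _
  exact (mul_eq_zero.mp h4).resolve_left h2

theorem cent_succ_zero (h2 : (2 : F) ≠ 0) (g : Matrix.GeneralLinearGroup (Fin (m+1)) F)
    (hg : g ∈ Ct F m) (i : Fin m) :
    (g : Matrix (Fin (m+1)) (Fin (m+1)) F) i.succ 0 = 0 := by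
  have h := cent_entry h2 g hg i.succ 0
  rw [tDiag_zero, tDiag_succ, one_mul, mul_neg_one] at h
  have h4 : (2 : F) * (g : Matrix (Fin (m+1)) (Fin (m+1)) F) i.succ 0 = 0 := by
    rw [two_mul]
    nth_rewrite 1 [← h]
    exact neg_add_cancel _
  exact (mul_eq_zero.mp h4).resolve_left h2

theorem slEmb_mem (A : Matrix.SpecialLinearGroup (Fin m) F) : slEmb A ∈ Ct F m := by
  rw [Subgroup.mem_centralizer_singleton_iff]
  apply Units.ext
  rw [Units.val_mul, Units.val_mul, tInv_coe, slEmb_coe]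
  ext i j
  rw [Matrix.mul_diagonal, Matrix.diagonal_mul]
  refine Fin.cases ?_ (fun i' => ?_) i <;> refine Fin.cases ?_ (fun j' => ?_) j <;> simp

/-- the embedding of `SL_m` into the centralizer -/
def slEmbC : Matrix.SpecialLinearGroup (Fin m) F →* Ct F m :=
  slEmb.codRestrict (Ct F m) slEmb_mem

theorem slEmbC_injective : Function.Injective (slEmbC : Matrix.SpecialLinearGroup (Fin m) F → _) := by
  intro A B h
  apply slEmb_injective
  exact congrArg Subtype.val h

/-- the upper-left entry as a monoid hom on the centralizer -/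
def chi (h2 : (2 : F) ≠ 0) : Ct F m →* F where
  toFun g := ((g : Matrix.GeneralLinearGroup (Fin (m+1)) F) : Matrix (Fin (m+1)) (Fin (m+1)) F) 0 0
  map_one' := by simp
  map_mul' g h := by
    show ((g * h : Ct F m) : Matrix.GeneralLinearGroup (Fin (m+1)) F).val 0 0 = _
    rw [Subgroup.coe_mul, Units.val_mul, Matrix.mul_apply, Fin.sum_univ_succ]
    have : ∑ k : Fin m, (g : Matrix.GeneralLinearGroup (Fin (m+1)) F).val 0 k.succ *
        (h : Matrix.GeneralLinearGroup (Fin (m+1)) F).val k.succ 0 = 0 := by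
      apply Finset.sum_eq_zero
      intro k _
      rw [cent_zero_succ h2 _ g.2, zero_mul]
    rw [this, add_zero]

/-- the determinant on the centralizer -/
def detC : Ct F m →* Fˣ := Matrix.GeneralLinearGroup.det.comp (Ct F m).subtype

theorem range_slEmbC (h2 : (2 : F) ≠ 0) :
    (slEmbC : Matrix.SpecialLinearGroup (Fin m) F →* Ct F m).range = (chi h2).ker ⊓ detC.ker := by
  ext g
  constructor
  · rintro ⟨A, rfl⟩
    rw [Subgroup.mem_inf, MonoidHom.mem_ker, MonoidHom.mem_ker]
    refine ⟨?_, ?_⟩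
    · show (slEmb A).val 0 0 = 1
      rw [slEmb_coe, embFun_zero_zero]
    · apply Units.ext
      show (slEmb A).val.det = 1
      rw [slEmb_coe, det_embFun]
      exact A.2
  · intro hg
    rw [Subgroup.mem_inf, MonoidHom.mem_ker, MonoidHom.mem_ker] at hg
    obtain ⟨h1, h3⟩ := hg
    have h1' : (g : Matrix.GeneralLinearGroup (Fin (m+1)) F).val 0 0 = 1 := h1
    have h3' : (g : Matrix.GeneralLinearGroup (Fin (m+1)) F).val.det = 1 := by
      have := congrArg Units.val h3
      exact this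
    set A : Matrix (Fin m) (Fin m) F :=
      (g : Matrix.GeneralLinearGroup (Fin (m+1)) F).val.submatrix Fin.succ Fin.succ with hA
    have hemb : embFun A = (g : Matrix.GeneralLinearGroup (Fin (m+1)) F).val := by
      ext i j
      refine Fin.cases ?_ (fun i' => ?_) i <;> refine Fin.cases ?_ (fun j' => ?_) j
      · rw [embFun_zero_zero, h1']
      · rw [embFun_zero_succ, cent_zero_succ h2 _ g.2]
      · rw [embFun_succ_zero, cent_succ_zero h2 _ g.2]
      · rw [embFun_succ_succ, hA, Matrix.submatrix_apply]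
    have hdet : A.det = 1 := by rw [← det_embFun, hemb, h3']
    refine ⟨(⟨A, hdet⟩ : Matrix.SpecialLinearGroup (Fin m) F), ?_⟩
    apply Subtype.ext
    apply Units.ext
    exact hemb

theorem range_slEmbC_normal (h2 : (2 : F) ≠ 0) :
    (slEmbC : Matrix.SpecialLinearGroup (Fin m) F →* Ct F m).range.Normal := by
  rw [range_slEmbC h2]
  infer_instance

end Cent

section Main

variable {F : Type*} [Field F]

theorem exists_sq_ne_one (hF : 4 ≤ Nat.card F) : ∃ a : F, a ≠ 0 ∧ a ^ 2 ≠ 1 := by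
  have : Finite F := (Nat.card_pos_iff.1 (by omega)).2
  obtain ⟨x, hx⟩ : IsCyclic Fˣ := by infer_instance
  refine ⟨x, Units.ne_zero x, fun h ↦ ?_⟩
  have h1 : orderOf x ≤ 2 :=
    orderOf_le_of_pow_eq_one zero_lt_two (Units.ext <| by simpa using h)
  have h2 : Nat.card F = Nat.card Fˣ + 1 := Nat.card_eq_card_units_add_one F
  have h3 : orderOf x = Nat.card Fˣ := orderOf_eq_card_of_forall_mem_zpowers hx
  omega

theorem sl_qs {m : ℕ} (hm : 2 ≤ m) (hq : m = 2 → 4 ≤ Nat.card F) :
    IsQuasisimple (Matrix.SpecialLinearGroup (Fin m) F) := by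
  rcases Nat.lt_or_ge m 3 with h | h
  · obtain rfl : m = 2 := by omega
    obtain ⟨a, ha, hasq⟩ := exists_sq_ne_one (hq rfl)
    exact ⟨⟨Matrix.SL2.commutator_eq_top ha hasq⟩,
      Matrix.ProjectiveSpecialLinearGroup.rank_two_simple (hq rfl)⟩
  · have h3 : 3 ≤ Fintype.card (Fin m) := by rw [Fintype.card_fin]; exact h
    exact ⟨⟨Cfsg.Agent.Lib.Helper15.SLn_commutator_eq_top h3⟩,
      Cfsg.Agent.Lib.Helper15.PSLn_isSimpleGroup h3⟩

/-- the diagonal of an involution in `SL_{k+2}` -/
def sDiag {k : ℕ} : Fin (k+2) → F := Fin.cons (-1) (Fin.cons (-1) (fun _ => 1))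

theorem sDiag_mul_self {k : ℕ} (i : Fin (k+2)) : (sDiag : Fin (k+2) → F) i * sDiag i = 1 := by
  refine Fin.cases ?_ (fun i' => ?_) i
  · simp [sDiag]
  · refine Fin.cases ?_ (fun i'' => ?_) i'
    · simp [sDiag]
    · simp [sDiag]

theorem sDiag_prod {k : ℕ} : ∏ i, (sDiag : Fin (k+2) → F) i = 1 := by
  rw [Fin.prod_univ_succ, Fin.prod_univ_succ]
  simp [sDiag]

/-- an involution in `SL_{k+2}` -/
def sInv {k : ℕ} : Matrix.SpecialLinearGroup (Fin (k+2)) F :=
  ⟨Matrix.diagonal sDiag, by rw [Matrix.det_diagonal, sDiag_prod]⟩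

theorem sInv_mul_self {k : ℕ} : (sInv : Matrix.SpecialLinearGroup (Fin (k+2)) F) * sInv = 1 := by
  apply Subtype.ext
  show Matrix.diagonal sDiag * Matrix.diagonal sDiag = 1
  rw [Matrix.diagonal_mul_diagonal, ← Matrix.diagonal_one]
  congr 1
  funext i
  exact sDiag_mul_self i

theorem sInv_ne_one {k : ℕ} (h2 : (2 : F) ≠ 0) :
    (sInv : Matrix.SpecialLinearGroup (Fin (k+2)) F) ≠ 1 := by
  intro h
  have h1 := congrArg (fun A : Matrix.SpecialLinearGroup (Fin (k+2)) F =>
    (A : Matrix (Fin (k+2)) (Fin (k+2)) F) 0 0) h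
  have h3 : (-1 : F) = 1 := by
    simpa [sInv, sDiag] using h1
  apply h2
  have : (2 : F) = 1 + 1 := by norm_num
  rw [this]
  nth_rewrite 1 [← h3]
  exact neg_add_cancel _

theorem orderOf_sInv {k : ℕ} (h2 : (2 : F) ≠ 0) :
    orderOf (sInv : Matrix.SpecialLinearGroup (Fin (k+2)) F) = 2 := by
  apply orderOf_eq_prime
  · rw [pow_two]; exact sInv_mul_self
  · exact sInv_ne_one h2

theorem hasComponent_aux [Finite F] {m : ℕ} (hm : 2 ≤ m) (h2 : (2 : F) ≠ 0)
    (hq : IsQuasisimple (Matrix.SpecialLinearGroup (Fin m) F)) :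
    HasComponent (↥(Ct F m) ⧸ oddCore ↥(Ct F m)) := by
  classical
  set ψ : Matrix.SpecialLinearGroup (Fin m) F →* (↥(Ct F m) ⧸ oddCore ↥(Ct F m)) :=
    (QuotientGroup.mk' (oddCore ↥(Ct F m))).comp slEmbC with hψ
  have hrange : ψ.range = (slEmbC : Matrix.SpecialLinearGroup (Fin m) F →* Ct F m).range.map
      (QuotientGroup.mk' (oddCore ↥(Ct F m))) := by
    rw [hψ, MonoidHom.range_eq_map, MonoidHom.range_eq_map, Subgroup.map_map]
  have hnorm : ψ.range.Normal := by
    rw [hrange]
    exact (range_slEmbC_normal h2).map _ (QuotientGroup.mk'_surjective _)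
  refine ⟨ψ.range, hnorm.isSubnormal, ?_⟩
  -- the kernel is central
  have hker : ψ.ker ≤ Subgroup.center (Matrix.SpecialLinearGroup (Fin m) F) := by
    rcases Cfsg.Agent.Lib.Helper9.qs_normal_le_center_or_eq_top hq ψ.ker with h | h
    · exact h
    · exfalso
      obtain ⟨k, rfl⟩ : ∃ k, m = k + 2 := ⟨m - 2, by omega⟩
      have hs : (sInv : Matrix.SpecialLinearGroup (Fin (k+2)) F) ∈ ψ.ker := by rw [h]; trivial
      rw [MonoidHom.mem_ker, hψ, MonoidHom.comp_apply, QuotientGroup.mk'_apply,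
        QuotientGroup.eq_one_iff] at hs
      have hord : orderOf (slEmbC (sInv : Matrix.SpecialLinearGroup (Fin (k+2)) F)) = 2 := by
        rw [orderOf_injective slEmbC slEmbC_injective, orderOf_sInv h2]
      haveI : Finite (Matrix.GeneralLinearGroup (Fin (k+2+1)) F) := inferInstance
      have hcop := Cfsg.Agent.Lib.Helper1.pPrimeCore_coprime (G := ↥(Ct F (k+2))) 2
      have hdvd : 2 ∣ Nat.card (oddCore ↥(Ct F (k+2))) := by
        have h5 := Subgroup.orderOf_dvd_natCard (oddCore ↥(Ct F (k+2))) hs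
        rwa [hord] at h5
      have := Nat.Coprime.eq_one_of_dvd hcop.symm hdvd
      omega
  have hqs : IsQuasisimple (Matrix.SpecialLinearGroup (Fin m) F ⧸ ψ.ker) :=
    Cfsg.Agent.Lib.Helper9.qs_quotient_of_le_center hq ψ.ker hker
  exact Cfsg.Agent.Lib.Helper9.qs_of_mulEquiv (QuotientGroup.quotientKerEquivRange ψ) hqs

end Main

/-- Let F be a finite field of odd order and n ≥ 3 with (n, |F|) ≠ (3, 3). Then GL(n, F) has a non-central involution t such that C(t) / O(C(t)) has a component. -/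
theorem result {F : Type*} [Field F] [Fintype F] [DecidableEq F] (hF : Odd (Fintype.card F)) (n : ℕ) (hn : 3 ≤ n) (h33 : ¬ (n = 3 ∧ Fintype.card F = 3)) : ∃ t : Matrix.GeneralLinearGroup (Fin n) F, orderOf t = 2 ∧ t ∉ Subgroup.center (Matrix.GeneralLinearGroup (Fin n) F) ∧ Cfsg.HasComponent (↥(Subgroup.centralizer ({t} : Set (Matrix.GeneralLinearGroup (Fin n) F))) ⧸ Cfsg.oddCore ↥(Subgroup.centralizer ({t} : Set (Matrix.GeneralLinearGroup (Fin n) F)))) := by
  obtain ⟨m, rfl⟩ : ∃ m, n = m + 1 := ⟨n - 1, by omega⟩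
  have hm : 2 ≤ m := by omega
  have h2 : (2 : F) ≠ 0 := two_ne_zero_of_odd hF
  have hne : (-1 : F) ≠ 1 := by
    intro h3
    apply h2
    have : (2 : F) = 1 + 1 := by norm_num
    rw [this]
    nth_rewrite 1 [← h3]
    exact neg_add_cancel _
  refine ⟨tInv, ?_, ?_, ?_⟩
  · apply orderOf_eq_prime
    · rw [pow_two]; exact tInv_mul_self
    · intro h
      have h1 := congrArg (fun g : Matrix.GeneralLinearGroup (Fin (m+1)) F =>
        (g : Matrix (Fin (m+1)) (Fin (m+1)) F) 0 0) h
      apply hne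
      simpa [tInv_coe] using h1
  · intro hc
    rw [Matrix.GeneralLinearGroup.mem_center_iff_val_mem_range_scalar] at hc
    obtain ⟨r, hr⟩ := hc
    rw [tInv_coe] at hr
    have h0 := congrFun (congrFun hr 0) 0
    have h1 := congrFun (congrFun hr (Fin.succ ⟨0, by omega⟩)) (Fin.succ ⟨0, by omega⟩)
    simp only [Matrix.scalar_apply, Matrix.diagonal_apply_eq, tDiag_zero, tDiag_succ] at h0 h1
    apply hne
    rw [← h0, h1]
  · apply hasComponent_aux hm h2
    apply sl_qs hm
    intro hm2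
    rw [Nat.card_eq_fintype_card]
    have hcard : Fintype.card F ≠ 3 := fun h => h33 ⟨by omega, h⟩
    have hgt : 1 < Fintype.card F := Fintype.one_lt_card
    rcases hF with ⟨k, hk⟩
    omega

end Cfsg.Agent.S1340
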