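import Cfsg.Statements.S1343
import Cfsg.Agent.Lib.Helper10.ExtLayer
import Cfsg.Agent.Lib.Helper1.Coprime

set_option autoImplicit false
open Cfsg

namespace Cfsg.Agent.S1343

open Cfsg.Agent.Lib.Helper10

theorem odd_of_coprime_two {n : ℕ} (h : n.Coprime 2) : Odd n := by
  rcases Nat.even_or_odd n with he | ho
  · exfalso
    have h2 : 2 ∣ n := he.two_dvd
    have := Nat.Coprime.eq_one_of_dvd h.symm h2
    omega
  · exact ho

/-- Let X be finite. Then L*_{2'}(X) = L_{2'}(X) ⊔ F for some subgroup F of odd order normalized by a Sylow 2-subgroup of X. -/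
theorem result {X : Type*} [Group X] [Finite X] : ∃ F : Subgroup X, Odd (Nat.card ↥F) ∧ (∃ S : Sylow 2 X, (S : Subgroup X) ≤ Subgroup.normalizer (F : Set X)) ∧ Cfsg.extendedTwoLayer X = Cfsg.pLayer 2 X ⊔ F := by
  have hf2 : Fact (Nat.Prime 2) := ⟨Nat.prime_two⟩
  obtain ⟨T⟩ : Nonempty (Sylow 2 ↥(Cfsg.pLayer 2 X ⊔ Cfsg.pPrimePCore 2 X)) := inferInstance
  have hLn : (Cfsg.pLayer 2 X).Normal := by
    have := pLayer_characteristic (G := X) 2
    exact Subgroup.normal_of_characteristic _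
  have hN₀ : (Cfsg.pLayer 2 X ⊔ Cfsg.pPrimePCore 2 X).Normal := inferInstance
  have hT2 : IsPGroup 2 ↥((T : Subgroup ↥(Cfsg.pLayer 2 X ⊔ Cfsg.pPrimePCore 2 X)).map
      (Cfsg.pLayer 2 X ⊔ Cfsg.pPrimePCore 2 X).subtype) := T.2.map _
  obtain ⟨S, hTS⟩ := hT2.exists_le_sylow
  refine ⟨Cfsg.pPrimeCore 2 X ⊔ coreCent 2 ((T : Subgroup ↥(Cfsg.pLayer 2 X ⊔
    Cfsg.pPrimePCore 2 X)).map (Cfsg.pLayer 2 X ⊔ Cfsg.pPrimePCore 2 X).subtype), ?_, ⟨S, ?_⟩, ?_⟩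
  · -- odd order
    apply odd_of_coprime_two
    rw [sup_comm]
    refine Nat.Coprime.coprime_dvd_left (Cfsg.Agent.Lib.Helper1.card_sup_dvd_of_normal _ _) ?_
    refine Nat.Coprime.mul_left ?_ (Cfsg.Agent.Lib.Helper1.pPrimeCore_coprime 2)
    unfold coreCent
    refine Nat.Coprime.coprime_dvd_left (Subgroup.card_map_dvd _ _) ?_
    exact Cfsg.Agent.Lib.Helper1.pPrimeCore_coprime 2
  · -- `S` normalizes `T'`
    have hST : (S : Subgroup X) ≤ Subgroup.normalizer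
        (((T : Subgroup ↥(Cfsg.pLayer 2 X ⊔ Cfsg.pPrimePCore 2 X)).map
          (Cfsg.pLayer 2 X ⊔ Cfsg.pPrimePCore 2 X).subtype : Subgroup X) : Set X) := by
      apply Cfsg.Agent.Lib.Helper1.le_normalizer_of_forall_conj_mem
      intro s hs x hx
      have hQ : IsPGroup 2 ↥((S : Subgroup X).subgroupOf (Cfsg.pLayer 2 X ⊔ Cfsg.pPrimePCore 2 X)) :=
        S.2.comap_subtype
      have hTQ : (T : Subgroup ↥(Cfsg.pLayer 2 X ⊔ Cfsg.pPrimePCore 2 X)) ≤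
          (S : Subgroup X).subgroupOf (Cfsg.pLayer 2 X ⊔ Cfsg.pPrimePCore 2 X) := by
        intro y hy
        rw [Subgroup.mem_subgroupOf]
        exact hTS (Subgroup.mem_map.mpr ⟨y, hy, rfl⟩)
      have hQT := T.is_maximal' hQ hTQ
      have hxN : x ∈ Cfsg.pLayer 2 X ⊔ Cfsg.pPrimePCore 2 X := Subgroup.map_subtype_le _ hx
      have h1 : s * x * s⁻¹ ∈ Cfsg.pLayer 2 X ⊔ Cfsg.pPrimePCore 2 X := hN₀.conj_mem x hxN s
      have h2 : s * x * s⁻¹ ∈ (S : Subgroup X) :=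
        Subgroup.mul_mem _ (Subgroup.mul_mem _ hs (hTS hx)) (Subgroup.inv_mem _ hs)
      have h3 : (⟨s * x * s⁻¹, h1⟩ : ↥(Cfsg.pLayer 2 X ⊔ Cfsg.pPrimePCore 2 X)) ∈
          (S : Subgroup X).subgroupOf (Cfsg.pLayer 2 X ⊔ Cfsg.pPrimePCore 2 X) := by
        rw [Subgroup.mem_subgroupOf]; exact h2
      rw [hQT] at h3
      exact Subgroup.mem_map.mpr ⟨_, h3, rfl⟩
    intro s hs
    rw [← Cfsg.Agent.Lib.Helper13.map_conj_eq_self_iff_mem_normalizer, Subgroup.map_sup,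
      map_coreCent (MulAut.conj s),
      (Cfsg.Agent.Lib.Helper13.map_conj_eq_self_iff_mem_normalizer _ s).mpr (hST hs)]
    congr 1
    apply (Cfsg.Agent.Lib.Helper13.map_conj_eq_self_iff_mem_normalizer _ s).mpr
    rw [Subgroup.normalizer_eq_top]
    exact Subgroup.mem_top s
  · rw [extendedTwoLayer_eq_of_sylow T, sup_assoc]

end Cfsg.Agent.S1343
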