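import Cfsg.Statements.S1344
import Cfsg.Agent.Lib.Helper10.PComponent2
import Cfsg.Agent.Lib.Helper10.ExtLayer

set_option autoImplicit false
open Cfsg

namespace Cfsg.Agent.S1344

open Cfsg.Agent.Lib.Helper9 Cfsg.Agent.Lib.Helper10

/-- the image of `L_{p'}(X) O_{p',p}(X)` in `X / O_{p'}(X)` normalizes every component -/
theorem map_mk_le_normalizer_comp {X : Type*} [Group X] [Finite X] (p : ℕ) [Fact p.Prime]
    {Kb : Subgroup (X ⧸ Cfsg.pPrimeCore p X)} (hKb : Cfsg.IsComponent Kb) :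
    (Cfsg.pLayer p X ⊔ Cfsg.pPrimePCore p X).map (QuotientGroup.mk' (Cfsg.pPrimeCore p X)) ≤
      Subgroup.normalizer (Kb : Set (X ⧸ Cfsg.pPrimeCore p X)) := by
  rw [Subgroup.map_sup, map_mk_pLayer, map_mk_pPrimePCore]
  apply sup_le (layer_le_normalizer_comp hKb)
  refine le_trans ?_ (Subgroup.centralizer_le_normalizer _)
  refine le_trans (Cfsg.Agent.Lib.Helper1.pCore_le_fittingSubgroup p) ?_
  have h1 : Cfsg.fittingSubgroup (X ⧸ Cfsg.pPrimeCore p X) ≤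
      Subgroup.centralizer (Cfsg.layer (X ⧸ Cfsg.pPrimeCore p X) : Set (X ⧸ Cfsg.pPrimeCore p X)) := by
    apply Subgroup.commutator_eq_bot_iff_le_centralizer.mp
    rw [Subgroup.commutator_comm]
    exact commutator_layer_fitting
  exact h1.trans (Subgroup.centralizer_le (comp_le_layer hKb))

/-- the centralizer of a Sylow 2-subgroup of `L_{2'}(X) O_{2',2}(X)` normalizes every 2-component -/
theorem centralizer_sylow_le_normalizer {X : Type*} [Group X] [Finite X]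
    (T : Sylow 2 ↥(Cfsg.pLayer 2 X ⊔ Cfsg.pPrimePCore 2 X)) {K : Subgroup X}
    (hK : Cfsg.IsPComponent 2 K) :
    Subgroup.centralizer (((T : Subgroup ↥(Cfsg.pLayer 2 X ⊔ Cfsg.pPrimePCore 2 X)).map
      (Cfsg.pLayer 2 X ⊔ Cfsg.pPrimePCore 2 X).subtype : Subgroup X) : Set X) ≤
      Subgroup.normalizer (K : Set X) := by
  have hf2 : Fact (Nat.Prime 2) := ⟨Nat.prime_two⟩
  intro g hg
  apply mem_normalizer_of_mk_mem_normalizer 2 hK
  have hKb : Cfsg.IsComponent (K.map (QuotientGroup.mk' (Cfsg.pPrimeCore 2 X))) := hK.2.1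
  by_contra hne
  rw [← Cfsg.Agent.Lib.Helper13.map_conj_eq_self_iff_mem_normalizer] at hne
  have hKb' := isComponent_conj hKb ((g : X) : X ⧸ Cfsg.pPrimeCore 2 X)
  have hcomm := comp_commutator_eq_bot_of_ne hKb' hKb hne
  have hcent := Subgroup.commutator_eq_bot_iff_le_centralizer.mp hcomm
  apply comp_not_le_centralizer hKb
  have hQ := pPrimeCore_quotient_eq_bot (G := X) 2
  conv_lhs => rw [← pElementClosure_comp_eq 2 hQ hKb]
  unfold Cfsg.pElementClosure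
  rw [Subgroup.closure_le]
  rintro u ⟨hu, k, hk⟩
  -- `u` lies in the image of `N₀`
  have hnorm := map_mk_le_normalizer_comp 2 hKb
  have huN : u ∈ (Cfsg.pLayer 2 X ⊔ Cfsg.pPrimePCore 2 X).map
      (QuotientGroup.mk' (Cfsg.pPrimeCore 2 X)) := by
    have h1 : K.map (QuotientGroup.mk' (Cfsg.pPrimeCore 2 X)) ≤
        (Cfsg.pLayer 2 X ⊔ Cfsg.pPrimePCore 2 X).map (QuotientGroup.mk' (Cfsg.pPrimeCore 2 X)) :=
      Subgroup.map_mono (le_trans (isPComponent_le_pLayer hK) le_sup_left)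
    exact h1 hu
  have hsurj : Function.Surjective ((QuotientGroup.mk' (Cfsg.pPrimeCore 2 X)).subgroupMap
      (Cfsg.pLayer 2 X ⊔ Cfsg.pPrimePCore 2 X)) := MonoidHom.subgroupMap_surjective _ _
  obtain ⟨c', hc'⟩ := Cfsg.Agent.Lib.Helper13.exists_conj_mem_sylow (T.mapSurjective hsurj)
    (⟨u, huN⟩ : ↥((Cfsg.pLayer 2 X ⊔ Cfsg.pPrimePCore 2 X).map
      (QuotientGroup.mk' (Cfsg.pPrimeCore 2 X))))
    ⟨k, by
      apply Subtype.ext
      simp only [Subgroup.coe_pow, Subgroup.coe_one]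
      rw [← hk]; exact pow_orderOf_eq_one u⟩
  rw [Sylow.coe_mapSurjective] at hc'
  obtain ⟨t, ht, hteq⟩ := Subgroup.mem_map.mp hc'
  have hteq' : ((t : X) : X ⧸ Cfsg.pPrimeCore 2 X) =
      (c' : X ⧸ Cfsg.pPrimeCore 2 X) * u * (c' : X ⧸ Cfsg.pPrimeCore 2 X)⁻¹ :=
    congrArg Subtype.val hteq
  have hh : (c' : X ⧸ Cfsg.pPrimeCore 2 X) ∈ Subgroup.normalizer
      ((K.map (QuotientGroup.mk' (Cfsg.pPrimeCore 2 X)) : Subgroup (X ⧸ Cfsg.pPrimeCore 2 X)) :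
        Set (X ⧸ Cfsg.pPrimeCore 2 X)) := hnorm c'.2
  -- `g` commutes with `t`
  have htg : (t : X) * g = g * (t : X) :=
    (Subgroup.mem_centralizer_iff.mp hg) (t : X) (Subgroup.mem_map.mpr ⟨t, ht, rfl⟩)
  have hcu : ((g : X) : X ⧸ Cfsg.pPrimeCore 2 X) * ((t : X) : X ⧸ Cfsg.pPrimeCore 2 X) *
      ((g : X) : X ⧸ Cfsg.pPrimeCore 2 X)⁻¹ = ((t : X) : X ⧸ Cfsg.pPrimeCore 2 X) := by
    rw [← QuotientGroup.mk_mul, ← htg, QuotientGroup.mk_mul, mul_inv_cancel_right]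
  -- the conjugate `u'` of `u` lies in `Kb` and in its conjugate by `g`
  have hu'K : ((t : X) : X ⧸ Cfsg.pPrimeCore 2 X) ∈
      K.map (QuotientGroup.mk' (Cfsg.pPrimeCore 2 X)) := by
    rw [hteq']
    exact (Subgroup.mem_normalizer_iff.mp hh u).mp hu
  have hu'K' : ((t : X) : X ⧸ Cfsg.pPrimeCore 2 X) ∈
      (K.map (QuotientGroup.mk' (Cfsg.pPrimeCore 2 X))).map
        (MulAut.conj ((g : X) : X ⧸ Cfsg.pPrimeCore 2 X)).toMonoidHom := by
    rw [← hcu]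
    exact Cfsg.Agent.Lib.Helper13.conj_mem_map_conj _ _ hu'K
  have hu'c := hcent hu'K'
  -- transfer back to `u`
  show u ∈ Subgroup.centralizer _
  rw [Subgroup.mem_centralizer_iff]
  intro y hy
  have hy' : (c' : X ⧸ Cfsg.pPrimeCore 2 X) * y * (c' : X ⧸ Cfsg.pPrimeCore 2 X)⁻¹ ∈
      K.map (QuotientGroup.mk' (Cfsg.pPrimeCore 2 X)) :=
    (Subgroup.mem_normalizer_iff.mp hh y).mp hy
  have h1 := (Subgroup.mem_centralizer_iff.mp hu'c) _ hy'
  rw [hteq'] at h1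
  have h2 : (c' : X ⧸ Cfsg.pPrimeCore 2 X) * (y * u) * (c' : X ⧸ Cfsg.pPrimeCore 2 X)⁻¹ =
      (c' : X ⧸ Cfsg.pPrimeCore 2 X) * (u * y) * (c' : X ⧸ Cfsg.pPrimeCore 2 X)⁻¹ := by
    calc (c' : X ⧸ Cfsg.pPrimeCore 2 X) * (y * u) * (c' : X ⧸ Cfsg.pPrimeCore 2 X)⁻¹
        = ((c' : X ⧸ Cfsg.pPrimeCore 2 X) * y * (c' : X ⧸ Cfsg.pPrimeCore 2 X)⁻¹) *
          ((c' : X ⧸ Cfsg.pPrimeCore 2 X) * u * (c' : X ⧸ Cfsg.pPrimeCore 2 X)⁻¹) := by group
      _ = ((c' : X ⧸ Cfsg.pPrimeCore 2 X) * u * (c' : X ⧸ Cfsg.pPrimeCore 2 X)⁻¹) *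
          ((c' : X ⧸ Cfsg.pPrimeCore 2 X) * y * (c' : X ⧸ Cfsg.pPrimeCore 2 X)⁻¹) := h1
      _ = (c' : X ⧸ Cfsg.pPrimeCore 2 X) * (u * y) * (c' : X ⧸ Cfsg.pPrimeCore 2 X)⁻¹ := by group
  exact mul_left_cancel (mul_right_cancel h2)

/-- Let K be a 2-component of the finite group X. Then K ≤ L*_{2'}(X) and K is normal in L*_{2'}(X). -/
theorem result {X : Type*} [Group X] [Finite X] (K : Subgroup X) (hK : Cfsg.IsPComponent 2 K) : K ≤ Cfsg.extendedTwoLayer X ∧ (K.subgroupOf (Cfsg.extendedTwoLayer X)).Normal := by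
  have hf2 : Fact (Nat.Prime 2) := ⟨Nat.prime_two⟩
  obtain ⟨T⟩ : Nonempty (Sylow 2 ↥(Cfsg.pLayer 2 X ⊔ Cfsg.pPrimePCore 2 X)) := inferInstance
  have hle : K ≤ Cfsg.extendedTwoLayer X := by
    rw [extendedTwoLayer_eq_of_sylow T]
    exact le_sup_of_le_left (le_sup_of_le_left (isPComponent_le_pLayer hK))
  refine ⟨hle, ?_⟩
  rw [Subgroup.normal_subgroupOf_iff_le_normalizer hle, extendedTwoLayer_eq_of_sylow T]
  refine sup_le (sup_le (pLayer_le_normalizer_isPComponent 2 hK)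
    (pPrimeCore_le_normalizer_isPComponent 2 hK)) ?_
  refine le_trans ?_ (centralizer_sylow_le_normalizer T hK)
  unfold coreCent
  exact Subgroup.map_subtype_le _

end Cfsg.Agent.S1344
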