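import Cfsg.Statements.S1348
import Cfsg.Agent.S1340
import Cfsg.Agent.Lib.Helper10.Layer
import Cfsg.Agent.Lib.Helper10.Basic

set_option autoImplicit false
open Cfsg

namespace Cfsg.Agent.S1348

open Matrix

section Emb

variable {F : Type*} [Field F] {m : ℕ}

/-- the block matrix `diag(A, a)` -/
def blk (A : Matrix (Fin m) (Fin m) F) (a : F) : Matrix (Fin (m+1)) (Fin (m+1)) F :=
  Matrix.of (fun i j => Fin.lastCases (Fin.lastCases a (fun _ => 0) j)
    (fun i' => Fin.lastCases (0:F) (fun j' => A i' j') j) i)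

@[simp] theorem blk_last_last (A : Matrix (Fin m) (Fin m) F) (a : F) :
    blk A a (Fin.last m) (Fin.last m) = a := by
  simp [blk]
@[simp] theorem blk_last_cast (A : Matrix (Fin m) (Fin m) F) (a : F) (j : Fin m) :
    blk A a (Fin.last m) j.castSucc = 0 := by
  simp [blk]
@[simp] theorem blk_cast_last (A : Matrix (Fin m) (Fin m) F) (a : F) (i : Fin m) :
    blk A a i.castSucc (Fin.last m) = 0 := by
  simp [blk]
@[simp] theorem blk_cast_cast (A : Matrix (Fin m) (Fin m) F) (a : F) (i j : Fin m) :
    blk A a i.castSucc j.castSucc = A i j := by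
  simp [blk]

theorem blk_one : blk (1 : Matrix (Fin m) (Fin m) F) 1 = 1 := by
  ext i j
  refine Fin.lastCases ?_ (fun i' => ?_) i <;> refine Fin.lastCases ?_ (fun j' => ?_) j
  · simp
  · simp [Matrix.one_apply, (Fin.castSucc_lt_last j').ne']
  · simp [Matrix.one_apply, (Fin.castSucc_lt_last i').ne]
  · simp [Matrix.one_apply, Fin.castSucc_inj]

theorem blk_mul (A B : Matrix (Fin m) (Fin m) F) (a b : F) :
    blk (A * B) (a * b) = blk A a * blk B b := by
  ext i j
  rw [Matrix.mul_apply, Fin.sum_univ_castSucc]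
  refine Fin.lastCases ?_ (fun i' => ?_) i <;> refine Fin.lastCases ?_ (fun j' => ?_) j
  · simp
  · simp
  · simp
  · simp [Matrix.mul_apply]

theorem det_blk (A : Matrix (Fin m) (Fin m) F) (a : F) : (blk A a).det = A.det * a := by
  rw [Matrix.det_succ_row _ (Fin.last m), Fin.sum_univ_castSucc]
  have h1 : (blk A a).submatrix (Fin.last m).succAbove (Fin.last m).succAbove = A := by
    ext i j
    simp [Fin.succAbove_last]
  rw [h1]
  simp only [blk_last_cast, mul_zero, zero_mul, Finset.sum_const_zero, zero_add, blk_last_last,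
    Fin.val_last]
  rw [← two_mul, pow_mul]
  simp [mul_comm]

theorem blk_injective :
    Function.Injective (fun A : Matrix (Fin m) (Fin m) F => blk A (1 : F)) := by
  intro A B h
  ext i j
  have := congrFun (congrFun h i.castSucc) j.castSucc
  simpa using this

/-- the diagonal vector `(a, …, a, b)` -/
def dvec (a b : F) : Fin (m+1) → F := fun i => Fin.lastCases b (fun _ => a) i

@[simp] theorem dvec_last (a b : F) : (dvec a b : Fin (m+1) → F) (Fin.last m) = b := by
  simp [dvec]
@[simp] theorem dvec_cast (a b : F) (i : Fin m) : (dvec a b : Fin (m+1) → F) i.castSucc = a := by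
  simp [dvec]

/-- block form of a matrix -/
def IsBlk (g : Matrix (Fin (m+1)) (Fin (m+1)) F) : Prop :=
  ∀ i : Fin m, g i.castSucc (Fin.last m) = 0 ∧ g (Fin.last m) i.castSucc = 0

theorem isBlk_of_commute (a b : F) (hab : a ≠ b) (g : Matrix (Fin (m+1)) (Fin (m+1)) F)
    (h : g * diagonal (dvec a b) = diagonal (dvec a b) * g) : IsBlk g := by
  intro i
  constructor
  · have h1 := congrFun (congrFun h i.castSucc) (Fin.last m)
    rw [Matrix.mul_diagonal, Matrix.diagonal_mul, dvec_last, dvec_cast] at h1
    have h2 : g i.castSucc (Fin.last m) * (b - a) = 0 := by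
      rw [mul_sub, h1]
      ring
    rcases mul_eq_zero.mp h2 with h3 | h3
    · exact h3
    · exact absurd (sub_eq_zero.mp h3).symm hab
  · have h1 := congrFun (congrFun h (Fin.last m)) i.castSucc
    rw [Matrix.mul_diagonal, Matrix.diagonal_mul, dvec_last, dvec_cast] at h1
    have h2 : g (Fin.last m) i.castSucc * (a - b) = 0 := by
      rw [mul_sub, h1]
      ring
    rcases mul_eq_zero.mp h2 with h3 | h3
    · exact h3
    · exact absurd (sub_eq_zero.mp h3) hab

theorem commute_of_isBlk (a b : F) (g : Matrix (Fin (m+1)) (Fin (m+1)) F) (hg : IsBlk g) :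
    g * diagonal (dvec a b) = diagonal (dvec a b) * g := by
  ext i j
  rw [Matrix.mul_diagonal, Matrix.diagonal_mul]
  refine Fin.lastCases ?_ (fun i' => ?_) i <;> refine Fin.lastCases ?_ (fun j' => ?_) j
  · simp [mul_comm]
  · simp [(hg j').2]
  · simp [(hg i').1]
  · simp [mul_comm]

theorem eq_blk_of_isBlk (g : Matrix (Fin (m+1)) (Fin (m+1)) F) (hg : IsBlk g) :
    g = blk (g.submatrix Fin.castSucc Fin.castSucc) (g (Fin.last m) (Fin.last m)) := by
  ext i j
  refine Fin.lastCases ?_ (fun i' => ?_) i <;> refine Fin.lastCases ?_ (fun j' => ?_) j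
  · simp
  · simp [(hg j').2]
  · simp [(hg i').1]
  · simp

theorem isBlk_blk (A : Matrix (Fin m) (Fin m) F) (a : F) : IsBlk (blk A a) := by
  intro i
  simp

theorem blk_transvection (i j : Fin m) (c : F) :
    blk (transvection i j c) 1 = transvection i.castSucc j.castSucc c := by
  ext k l
  refine Fin.lastCases ?_ (fun k' => ?_) k <;> refine Fin.lastCases ?_ (fun l' => ?_) l
  · simp [transvection, Matrix.single, Matrix.one_apply, (Fin.castSucc_lt_last i).ne]
  · simp [transvection, Matrix.single, Matrix.one_apply, (Fin.castSucc_lt_last l').ne',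
      (Fin.castSucc_lt_last i).ne]
  · simp [transvection, Matrix.single, Matrix.one_apply, (Fin.castSucc_lt_last k').ne,
      (Fin.castSucc_lt_last j).ne]
  · simp [transvection, Matrix.single, Matrix.one_apply, Fin.castSucc_inj]

/-- a matrix commuting with all block transvections is of the form `diag(a, …, a, b)` -/
theorem eq_diagonal_of_commute (hm : 2 ≤ m) (g : Matrix (Fin (m+1)) (Fin (m+1)) F)
    (h : ∀ i j : Fin m, i ≠ j →
      g * blk (transvection i j (1 : F)) 1 = blk (transvection i j (1 : F)) 1 * g) :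
    ∃ a b : F, g = diagonal (dvec a b) := by
  have hc : ∀ i j : Fin m, i ≠ j → Commute (Matrix.single i.castSucc j.castSucc (1 : F)) g := by
    intro i j hij
    have h1 := h i j hij
    rw [blk_transvection, transvection] at h1
    have h2 : Commute (1 + Matrix.single i.castSucc j.castSucc (1 : F)) g := h1.symm
    have h3 := Commute.sub_left h2 (Commute.one_left g)
    rwa [add_sub_cancel_left] at h3
  -- another index
  have hother : ∀ i : Fin m, ∃ j : Fin m, j ≠ i := by
    intro i
    by_cases hi : (i : ℕ) = 0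
    · refine ⟨⟨1, by omega⟩, ?_⟩
      intro h1
      have := congrArg Fin.val h1
      simp at this
      omega
    · refine ⟨⟨0, by omega⟩, ?_⟩
      intro h1
      have := congrArg Fin.val h1
      simp at this
      omega
  have i0 : Fin m := ⟨0, by omega⟩
  refine ⟨g i0.castSucc i0.castSucc, g (Fin.last m) (Fin.last m), ?_⟩
  ext k l
  rw [Matrix.diagonal_apply]
  by_cases hkl : k = l
  · rw [if_pos hkl, hkl]
    refine Fin.lastCases ?_ (fun l' => ?_) l
    · simp
    · rw [dvec_cast]
      by_cases hl : l' = i0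
      · rw [hl]
      · exact Matrix.diag_eq_of_commute_single (hc l' i0 hl)
  · rw [if_neg hkl]
    revert hkl
    refine Fin.lastCases ?_ (fun k' => ?_) k
    · refine Fin.lastCases ?_ (fun l' => ?_) l
      · intro h1
        exact absurd rfl h1
      · intro _
        obtain ⟨j, hj⟩ := hother l'
        exact Matrix.col_eq_zero_of_commute_single (hc l' j hj.symm)
          (Fin.castSucc_lt_last l').ne'
    · intro hkl
      obtain ⟨j, hj⟩ := hother k'
      exact Matrix.row_eq_zero_of_commute_single (hc j k' hj) (Ne.symm hkl)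

end Emb

section Grp

open Cfsg.Agent.Lib.Helper9

variable {F : Type*} [Field F] {m : ℕ}

theorem nlnc {G : Type*} [Group G] (R : Subgroup G) :
    Subgroup.normalizer (R : Set G) ≤
      Subgroup.normalizer ((Subgroup.centralizer (R : Set G) : Subgroup G) : Set G) := by
  apply Cfsg.Agent.Lib.Helper1.le_normalizer_of_forall_conj_mem'
  intro x hx n hn
  rw [Subgroup.mem_centralizer_iff] at hn ⊢
  intro r hr
  have h1 : x⁻¹ * r * x ∈ R := by
    have h2 := (Subgroup.mem_normalizer_iff.mp (inv_mem hx) r).mp hr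
    simpa using h2
  have h3 := hn _ h1
  calc r * (x * n * x⁻¹) = x * ((x⁻¹ * r * x) * n) * x⁻¹ := by group
    _ = x * (n * (x⁻¹ * r * x)) * x⁻¹ := by rw [h3]
    _ = x * n * x⁻¹ * r := by group

/-- the embedding of `SL_m` -/
def embSL : Matrix.SpecialLinearGroup (Fin m) F →* Matrix.SpecialLinearGroup (Fin (m+1)) F where
  toFun A := ⟨blk (A : Matrix (Fin m) (Fin m) F) 1, by rw [det_blk, A.2, one_mul]⟩
  map_one' := Subtype.ext blk_one
  map_mul' A B := by
    apply Subtype.ext
    show blk ((A : Matrix (Fin m) (Fin m) F) * (B : Matrix (Fin m) (Fin m) F)) 1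
      = blk (A : Matrix (Fin m) (Fin m) F) 1 * blk (B : Matrix (Fin m) (Fin m) F) 1
    rw [← blk_mul, mul_one]

theorem embSL_coe (A : Matrix.SpecialLinearGroup (Fin m) F) :
    ((embSL A : Matrix.SpecialLinearGroup (Fin (m+1)) F) : Matrix (Fin (m+1)) (Fin (m+1)) F)
      = blk (A : Matrix (Fin m) (Fin m) F) 1 := rfl

theorem embSL_injective :
    Function.Injective (embSL : Matrix.SpecialLinearGroup (Fin m) F → Matrix.SpecialLinearGroup (Fin (m+1)) F) := by
  intro A B h
  have h1 := congrArg (fun g : Matrix.SpecialLinearGroup (Fin (m+1)) F =>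
    (g : Matrix (Fin (m+1)) (Fin (m+1)) F)) h
  simp only [embSL_coe] at h1
  exact Subtype.ext (blk_injective h1)

theorem det_diagonal_dvec (a b : F) : (diagonal (dvec a b : Fin (m+1) → F)).det = a ^ m * b := by
  rw [Matrix.det_diagonal, Fin.prod_univ_castSucc]
  simp

theorem mem_centralizer_iff_isBlk (x : Matrix.SpecialLinearGroup (Fin (m+1)) F) (a b : F) (hab : a ≠ b)
    (hx : (x : Matrix (Fin (m+1)) (Fin (m+1)) F) = diagonal (dvec a b))
    (g : Matrix.SpecialLinearGroup (Fin (m+1)) F) :
    g ∈ Subgroup.centralizer ({x} : Set (Matrix.SpecialLinearGroup (Fin (m+1)) F))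
      ↔ IsBlk (g : Matrix (Fin (m+1)) (Fin (m+1)) F) := by
  rw [Subgroup.mem_centralizer_iff]
  constructor
  · intro h
    have h1 := h x (Set.mem_singleton x)
    have h2 := congrArg (fun z : Matrix.SpecialLinearGroup (Fin (m+1)) F =>
      (z : Matrix (Fin (m+1)) (Fin (m+1)) F)) h1
    simp only [Matrix.SpecialLinearGroup.coe_mul, hx] at h2
    exact isBlk_of_commute a b hab _ h2.symm
  · intro h y hy
    rw [Set.mem_singleton_iff] at hy
    rw [hy]
    apply Subtype.ext
    rw [Matrix.SpecialLinearGroup.coe_mul, Matrix.SpecialLinearGroup.coe_mul, hx]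
    exact (commute_of_isBlk a b _ h).symm

theorem center_odd [Fintype F] [DecidableEq F] (hme : Even m) :
    Odd (Nat.card (Subgroup.center (Matrix.SpecialLinearGroup (Fin (m+1)) F))) := by
  rw [← Nat.not_even_iff_odd]
  intro he
  have h2 : 2 ∣ Nat.card (Subgroup.center (Matrix.SpecialLinearGroup (Fin (m+1)) F)) :=
    even_iff_two_dvd.mp he
  haveI : Fact (Nat.Prime 2) := ⟨Nat.prime_two⟩
  obtain ⟨z, hz⟩ := exists_prime_orderOf_dvd_card' 2 h2
  obtain ⟨r, hr, hrz⟩ := Matrix.SpecialLinearGroup.mem_center_iff.mp z.2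
  have hz2 : (z : Matrix.SpecialLinearGroup (Fin (m+1)) F) ^ 2 = 1 := by
    have h1 : z ^ 2 = 1 := by
      rw [← hz]
      exact pow_orderOf_eq_one z
    have h3 := congrArg (fun w : Subgroup.center (Matrix.SpecialLinearGroup (Fin (m+1)) F) =>
      (w : Matrix.SpecialLinearGroup (Fin (m+1)) F)) h1
    simpa using h3
  have hr2 : r ^ 2 = 1 := by
    have h1 := congrArg (fun w : Matrix.SpecialLinearGroup (Fin (m+1)) F =>
      (w : Matrix (Fin (m+1)) (Fin (m+1)) F) 0 0) hz2
    simp only [Matrix.SpecialLinearGroup.coe_pow, Matrix.SpecialLinearGroup.coe_one] at h1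
    rw [← hrz, ← map_pow] at h1
    simpa using h1
  obtain ⟨k, hk⟩ := hme
  have hr1 : r = 1 := by
    rw [Fintype.card_fin, hk, ← two_mul, pow_succ, pow_mul, hr2, one_pow, one_mul] at hr
    exact hr
  have hz1 : z = 1 := by
    apply Subtype.ext
    apply Subtype.ext
    rw [← hrz, hr1, map_one]
    rfl
  rw [hz1, orderOf_one] at hz
  omega

theorem main [Fintype F] [DecidableEq F] (hm : 6 ≤ m) (hme : Even m) (h2 : (2 : F) ≠ 0)
    (t : Matrix.SpecialLinearGroup (Fin (m+1)) F)
    (ht : (t : Matrix (Fin (m+1)) (Fin (m+1)) F) = diagonal (dvec (-1) 1)) :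
    Cfsg.IsStandardSubgroup ((Cfsg.layer ↥(Subgroup.centralizer
      ({t} : Set (Matrix.SpecialLinearGroup (Fin (m+1)) F)))).map
      (Subgroup.centralizer ({t} : Set (Matrix.SpecialLinearGroup (Fin (m+1)) F))).subtype) := by
  classical
  have hne : (-1 : F) ≠ 1 := by
    intro h
    apply h2
    have : (2 : F) = 1 - (-1) := by ring
    rw [this, h, sub_self]
  obtain ⟨C, hC⟩ : ∃ C : Subgroup (Matrix.SpecialLinearGroup (Fin (m+1)) F),
      C = Subgroup.centralizer ({t} : Set (Matrix.SpecialLinearGroup (Fin (m+1)) F)) := ⟨_, rfl⟩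
  rw [← hC]
  have hCmem : ∀ g : Matrix.SpecialLinearGroup (Fin (m+1)) F,
      g ∈ C ↔ IsBlk (g : Matrix (Fin (m+1)) (Fin (m+1)) F) := by
    intro g
    rw [hC]
    exact mem_centralizer_iff_isBlk t (-1) 1 hne ht g
  -- the subgroup `L₀`
  obtain ⟨L₀, hL₀⟩ : ∃ L₀ : Subgroup (Matrix.SpecialLinearGroup (Fin (m+1)) F),
      L₀ = (embSL : Matrix.SpecialLinearGroup (Fin m) F →* _).range := ⟨_, rfl⟩
  have hL₀mem : ∀ g, g ∈ L₀ ↔ ∃ A : Matrix.SpecialLinearGroup (Fin m) F, embSL A = g := by
    intro g
    rw [hL₀]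
    exact MonoidHom.mem_range
  have hL₀C : L₀ ≤ C := by
    intro g hg
    obtain ⟨A, rfl⟩ := (hL₀mem g).mp hg
    rw [hCmem, embSL_coe]
    exact isBlk_blk _ _
  -- quasisimplicity
  have hSLqs : IsQuasisimple (Matrix.SpecialLinearGroup (Fin m) F) :=
    Cfsg.Agent.S1340.sl_qs (by omega) (by omega)
  have hL₀qs : IsQuasisimple ↥L₀ := by
    rw [hL₀]
    exact qs_of_mulEquiv (MonoidHom.ofInjective embSL_injective) hSLqs
  -- the character `χ`
  let χ₀ : ↥C →* F :=
    { toFun := fun g => (g : Matrix.SpecialLinearGroup (Fin (m+1)) F).1 (Fin.last m) (Fin.last m)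
      map_one' := by
        show (1 : Matrix (Fin (m+1)) (Fin (m+1)) F) (Fin.last m) (Fin.last m) = 1
        simp
      map_mul' := by
        intro g h
        show ((g : Matrix.SpecialLinearGroup (Fin (m+1)) F).1 * (h : Matrix.SpecialLinearGroup (Fin (m+1)) F).1)
          (Fin.last m) (Fin.last m) = _
        rw [Matrix.mul_apply, Fin.sum_univ_castSucc]
        have hg := (hCmem g).mp g.2
        have h1 : ∀ k : Fin m, (g : Matrix.SpecialLinearGroup (Fin (m+1)) F).1 (Fin.last m) k.castSucc
            * (h : Matrix.SpecialLinearGroup (Fin (m+1)) F).1 k.castSucc (Fin.last m) = 0 := by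
          intro k
          have := (hg k).2
          rw [show (g : Matrix.SpecialLinearGroup (Fin (m+1)) F).1 (Fin.last m) k.castSucc = 0 from this,
            zero_mul]
        rw [Finset.sum_congr rfl (fun k _ => h1 k), Finset.sum_const_zero, zero_add] }
  have hχ₀ : ∀ g : ↥C, χ₀ g = (g : Matrix.SpecialLinearGroup (Fin (m+1)) F).1 (Fin.last m) (Fin.last m) :=
    fun g => rfl
  let χ : ↥C →* Fˣ := χ₀.toHomUnits
  have hχ : ∀ g : ↥C, ((χ g : Fˣ) : F)
      = (g : Matrix.SpecialLinearGroup (Fin (m+1)) F).1 (Fin.last m) (Fin.last m) := fun g => rfl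
  have hS : χ.ker.map C.subtype = L₀ := by
    ext g
    constructor
    · rintro ⟨g, hg0, rfl⟩
      have hg : g ∈ χ.ker := hg0
      rw [MonoidHom.mem_ker] at hg
      have h1 : (g : Matrix.SpecialLinearGroup (Fin (m+1)) F).1 (Fin.last m) (Fin.last m) = 1 := by
        rw [← hχ, hg]
        rfl
      have hblk := (hCmem g).mp g.2
      have h3 := eq_blk_of_isBlk _ hblk
      rw [h1] at h3
      have hdet : ((g : Matrix.SpecialLinearGroup (Fin (m+1)) F).1.submatrix
          Fin.castSucc Fin.castSucc).det = 1 := by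
        have h4 := (g : Matrix.SpecialLinearGroup (Fin (m+1)) F).2
        rw [h3, det_blk, mul_one] at h4
        exact h4
      rw [hL₀mem]
      refine ⟨⟨_, hdet⟩, ?_⟩
      apply Subtype.ext
      exact h3.symm
    · intro hg
      obtain ⟨A, rfl⟩ := (hL₀mem g).mp hg
      refine ⟨⟨embSL A, hL₀C hg⟩, (?_ : _ ∈ χ.ker), rfl⟩
      rw [MonoidHom.mem_ker]
      apply Units.ext
      rw [hχ]
      show (embSL A : Matrix.SpecialLinearGroup (Fin (m+1)) F).1 (Fin.last m) (Fin.last m) = 1
      rw [show (embSL A : Matrix.SpecialLinearGroup (Fin (m+1)) F).1 = blk A.1 1 from rfl, blk_last_last]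
  have hSqs : IsQuasisimple ↥χ.ker := by
    have e1 : ↥χ.ker ≃* ↥(χ.ker.map C.subtype) :=
      Subgroup.equivMapOfInjective χ.ker C.subtype C.subtype_injective
    have e2 : ↥(χ.ker.map C.subtype) ≃* ↥L₀ := MulEquiv.subgroupCongr hS
    exact qs_of_mulEquiv (e1.trans e2).symm hL₀qs
  have hcommS : commutator ↥C ≤ χ.ker := Abelianization.commutator_subset_ker χ
  -- the layer
  have hlayer : Cfsg.layer ↥C = χ.ker := by
    apply le_antisymm
    · apply sSup_le
      intro K hK
      have h1 : ⁅K, K⁆ = K := comp_perfect hK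
      rw [← h1]
      exact (Subgroup.commutator_mono le_top le_top).trans hcommS
    · apply comp_le_layer
      exact ⟨(inferInstance : χ.ker.Normal).isSubnormal, hSqs⟩
  rw [hlayer, hS]
  -- the centralizer of `L₀`
  have hKmem : ∀ g : Matrix.SpecialLinearGroup (Fin (m+1)) F,
      g ∈ Subgroup.centralizer (L₀ : Set (Matrix.SpecialLinearGroup (Fin (m+1)) F))
        ↔ ∃ a b : F, (g : Matrix (Fin (m+1)) (Fin (m+1)) F) = diagonal (dvec a b) := by
    intro g
    constructor
    · intro hg
      apply eq_diagonal_of_commute (by omega)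
      intro i j hij
      have h1 : embSL ⟨transvection i j (1 : F), det_transvection_of_ne i j hij 1⟩ ∈ L₀ :=
        (hL₀mem _).mpr ⟨_, rfl⟩
      have h3 := (Subgroup.mem_centralizer_iff.mp hg) _ h1
      have h4 := congrArg (fun z : Matrix.SpecialLinearGroup (Fin (m+1)) F =>
        (z : Matrix (Fin (m+1)) (Fin (m+1)) F)) h3
      simp only [Matrix.SpecialLinearGroup.coe_mul, embSL_coe] at h4
      exact h4.symm
    · rintro ⟨a, b, hab⟩
      rw [Subgroup.mem_centralizer_iff]
      intro l hl
      obtain ⟨A, rfl⟩ := (hL₀mem l).mp hl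
      apply Subtype.ext
      rw [Matrix.SpecialLinearGroup.coe_mul, Matrix.SpecialLinearGroup.coe_mul, hab, embSL_coe]
      exact commute_of_isBlk a b _ (isBlk_blk _ _)
  have hKC : Subgroup.centralizer (L₀ : Set (Matrix.SpecialLinearGroup (Fin (m+1)) F))
      = Subgroup.centralizer (C : Set (Matrix.SpecialLinearGroup (Fin (m+1)) F)) := by
    apply le_antisymm
    · intro g hg
      obtain ⟨a, b, hab⟩ := (hKmem g).mp hg
      rw [Subgroup.mem_centralizer_iff]
      intro h hh
      apply Subtype.ext
      rw [Matrix.SpecialLinearGroup.coe_mul, Matrix.SpecialLinearGroup.coe_mul, hab]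
      exact commute_of_isBlk a b _ ((hCmem h).mp hh)
    · exact Subgroup.centralizer_le hL₀C
  have htK : t ∈ Subgroup.centralizer (L₀ : Set (Matrix.SpecialLinearGroup (Fin (m+1)) F)) :=
    (hKmem t).mpr ⟨-1, 1, ht⟩
  have htt : t * t = 1 := by
    apply Subtype.ext
    rw [Matrix.SpecialLinearGroup.coe_mul, ht, Matrix.diagonal_mul_diagonal, Matrix.SpecialLinearGroup.coe_one,
      ← Matrix.diagonal_one]
    congr 1
    funext i
    refine Fin.lastCases ?_ (fun i' => ?_) i <;> simp
  have i0 : Fin m := ⟨0, by omega⟩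
  have ht1 : t ≠ 1 := by
    intro h
    have h1 := congrArg (fun z : Matrix.SpecialLinearGroup (Fin (m+1)) F =>
      (z : Matrix (Fin (m+1)) (Fin (m+1)) F) i0.castSucc i0.castSucc) h
    simp only [ht, Matrix.SpecialLinearGroup.coe_one, Matrix.diagonal_apply_eq, dvec_cast,
      Matrix.one_apply_eq] at h1
    exact hne h1
  have ht2 : orderOf t = 2 := orderOf_eq_prime (by rw [pow_two]; exact htt) ht1
  -- the normalizer of `K` lies in `C`
  have hNK : Subgroup.normalizer ((Subgroup.centralizer
      (L₀ : Set (Matrix.SpecialLinearGroup (Fin (m+1)) F)) : Subgroup _) : Set _) ≤ C := by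
    intro g hg
    have h1 := (Subgroup.mem_normalizer_iff.mp hg t).mp htK
    obtain ⟨a, b, hab⟩ := (hKmem _).mp h1
    have hyy : (g * t * g⁻¹) * (g * t * g⁻¹) = 1 := by
      calc (g * t * g⁻¹) * (g * t * g⁻¹) = g * (t * t) * g⁻¹ := by group
        _ = 1 := by rw [htt]; group
    have hyy' := congrArg (fun z : Matrix.SpecialLinearGroup (Fin (m+1)) F =>
      (z : Matrix (Fin (m+1)) (Fin (m+1)) F)) hyy
    simp only [Matrix.SpecialLinearGroup.coe_mul] at hyy'
    rw [← Matrix.SpecialLinearGroup.coe_mul, ← Matrix.SpecialLinearGroup.coe_mul, hab,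
      Matrix.diagonal_mul_diagonal, Matrix.SpecialLinearGroup.coe_one] at hyy'
    have haa : a * a = 1 := by
      have := congrFun (congrFun hyy' i0.castSucc) i0.castSucc
      simpa using this
    have hbb : b * b = 1 := by
      have := congrFun (congrFun hyy' (Fin.last m)) (Fin.last m)
      simpa using this
    have hdet : a ^ m * b = 1 := by
      rw [← det_diagonal_dvec, ← hab]
      exact (g * t * g⁻¹).2
    obtain ⟨k, hk⟩ := hme
    have ham : a ^ m = 1 := by
      rw [hk, ← two_mul, pow_mul, pow_two, haa, one_pow]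
    have hb1 : b = 1 := by
      rw [ham, one_mul] at hdet
      exact hdet
    have ha1 : a = -1 := by
      have h3 : (a - 1) * (a + 1) = 0 := by
        have : (a - 1) * (a + 1) = a * a - 1 := by ring
        rw [this, haa, sub_self]
      rcases mul_eq_zero.mp h3 with h4 | h4
      · exfalso
        have ha : a = 1 := sub_eq_zero.mp h4
        have h5 : g * t * g⁻¹ = 1 := by
          apply Subtype.ext
          rw [hab, ha, hb1, Matrix.SpecialLinearGroup.coe_one, ← Matrix.diagonal_one]
          congr 1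
          funext i
          refine Fin.lastCases ?_ (fun i' => ?_) i <;> simp
        apply ht1
        calc t = g⁻¹ * (g * t * g⁻¹) * g := by group
          _ = 1 := by rw [h5]; group
      · exact eq_neg_of_add_eq_zero_left h4
    have h6 : g * t * g⁻¹ = t := by
      apply Subtype.ext
      rw [hab, ha1, hb1, ht]
    rw [hC, Subgroup.mem_centralizer_iff]
    intro y hy
    rw [Set.mem_singleton_iff] at hy
    rw [hy]
    calc t * g = (g * t * g⁻¹) * g := by rw [h6]
      _ = g * t := by group
  -- `C` normalizes `L₀`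
  have hCNL : C ≤ Subgroup.normalizer (L₀ : Set (Matrix.SpecialLinearGroup (Fin (m+1)) F)) := by
    apply Cfsg.Agent.Lib.Helper1.le_normalizer_of_forall_conj_mem'
    intro x hx n hn
    rw [← hS] at hn ⊢
    obtain ⟨n', hn', rfl⟩ := hn
    have h1 : (⟨x, hx⟩ : ↥C) * n' * (⟨x, hx⟩ : ↥C)⁻¹ ∈ χ.ker :=
      (inferInstance : χ.ker.Normal).conj_mem n' hn' ⟨x, hx⟩
    exact ⟨_, h1, rfl⟩
  have hKab : ∀ x ∈ Subgroup.centralizer (L₀ : Set (Matrix.SpecialLinearGroup (Fin (m+1)) F)),
      ∀ y ∈ Subgroup.centralizer (L₀ : Set (Matrix.SpecialLinearGroup (Fin (m+1)) F)), x * y = y * x := by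
    intro x hx y hy
    obtain ⟨a, b, hab⟩ := (hKmem x).mp hx
    obtain ⟨a', b', hab'⟩ := (hKmem y).mp hy
    apply Subtype.ext
    rw [Matrix.SpecialLinearGroup.coe_mul, Matrix.SpecialLinearGroup.coe_mul, hab, hab',
      Matrix.diagonal_mul_diagonal, Matrix.diagonal_mul_diagonal]
    congr 1
    funext i
    exact mul_comm _ _
  refine ⟨hL₀qs, ⟨?_, ?_⟩, ?_, ?_⟩
  · -- even order
    rw [even_iff_two_dvd, ← ht2]
    have h1 := orderOf_dvd_natCard (⟨t, htK⟩ : ↥(Subgroup.centralizer
      (L₀ : Set (Matrix.SpecialLinearGroup (Fin (m+1)) F))))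
    rwa [Subgroup.orderOf_mk] at h1
  · -- tightly embedded
    intro g hg
    have hle : Subgroup.centralizer (L₀ : Set (Matrix.SpecialLinearGroup (Fin (m+1)) F)) ⊓
        (Subgroup.centralizer (L₀ : Set (Matrix.SpecialLinearGroup (Fin (m+1)) F))).map
          (MulAut.conj g).toMonoidHom ≤ Subgroup.center (Matrix.SpecialLinearGroup (Fin (m+1)) F) := by
      intro x hx
      obtain ⟨hx1, y, hy, hyx⟩ := Subgroup.mem_inf.mp hx
      have hyx' : g * y * g⁻¹ = x := hyx
      obtain ⟨a, b, hab⟩ := (hKmem x).mp hx1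
      obtain ⟨a', b', hab'⟩ := (hKmem y).mp hy
      have hcentral : ∀ (z : Matrix.SpecialLinearGroup (Fin (m+1)) F) (c : F),
          (z : Matrix (Fin (m+1)) (Fin (m+1)) F) = diagonal (dvec c c) →
          z ∈ Subgroup.center (Matrix.SpecialLinearGroup (Fin (m+1)) F) := by
        intro z c hz
        rw [Subgroup.mem_center_iff]
        intro h
        apply Subtype.ext
        rw [Matrix.SpecialLinearGroup.coe_mul, Matrix.SpecialLinearGroup.coe_mul, hz]
        ext i j
        rw [Matrix.mul_diagonal, Matrix.diagonal_mul]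
        have hd : ∀ k : Fin (m+1), (dvec c c : Fin (m+1) → F) k = c := by
          intro k
          refine Fin.lastCases ?_ (fun k' => ?_) k <;> simp
        rw [hd, hd, mul_comm]
      by_cases hab1 : a = b
      · exact hcentral x a (by rw [hab, hab1])
      · exfalso
        apply hg
        have hab2 : a' ≠ b' := by
          intro h
          have hyc := hcentral y a' (by rw [hab', h])
          have hxy : x = y := by
            rw [← hyx', Subgroup.mem_center_iff.mp hyc g, mul_inv_cancel_right]
          apply hab1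
          have h3 : (diagonal (dvec a b) : Matrix (Fin (m+1)) (Fin (m+1)) F)
              = diagonal (dvec a' b') := by rw [← hab, ← hab', hxy]
          have h4 := Matrix.diagonal_injective h3
          have h5 := congrFun h4 i0.castSucc
          have h6 := congrFun h4 (Fin.last m)
          simp only [dvec_cast, dvec_last] at h5 h6
          rw [h5, h6, h]
        have hCx : ∀ h : Matrix.SpecialLinearGroup (Fin (m+1)) F,
            h ∈ C ↔ h ∈ Subgroup.centralizer ({x} : Set (Matrix.SpecialLinearGroup (Fin (m+1)) F)) := by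
          intro h
          rw [hCmem, mem_centralizer_iff_isBlk x a b hab1 hab]
        have hCy : ∀ h : Matrix.SpecialLinearGroup (Fin (m+1)) F,
            h ∈ C ↔ h ∈ Subgroup.centralizer ({y} : Set (Matrix.SpecialLinearGroup (Fin (m+1)) F)) := by
          intro h
          rw [hCmem, mem_centralizer_iff_isBlk y a' b' hab2 hab']
        have hgN : g ∈ Subgroup.normalizer (C : Set (Matrix.SpecialLinearGroup (Fin (m+1)) F)) := by
          rw [Subgroup.mem_normalizer_iff]
          intro h
          rw [hCy h, hCx (g * h * g⁻¹), Subgroup.mem_centralizer_iff, Subgroup.mem_centralizer_iff]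
          constructor
          · intro h1 z hz
            rw [Set.mem_singleton_iff] at hz
            have h2 := h1 y (Set.mem_singleton y)
            rw [hz, ← hyx']
            calc g * y * g⁻¹ * (g * h * g⁻¹) = g * (y * h) * g⁻¹ := by group
              _ = g * (h * y) * g⁻¹ := by rw [h2]
              _ = g * h * g⁻¹ * (g * y * g⁻¹) := by group
          · intro h1 z hz
            rw [Set.mem_singleton_iff] at hz
            have h2 := h1 x (Set.mem_singleton x)
            rw [← hyx'] at h2
            rw [hz]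
            calc y * h = g⁻¹ * (g * y * g⁻¹ * (g * h * g⁻¹)) * g := by group
              _ = g⁻¹ * (g * h * g⁻¹ * (g * y * g⁻¹)) * g := by rw [h2]
              _ = h * y := by group
        rw [hKC]
        exact nlnc C hgN
    have hdvd := Subgroup.card_dvd_of_le hle
    exact Odd.of_dvd_nat (center_odd hme) hdvd
  · -- no commuting conjugates
    intro g _ hcomm
    rw [Subgroup.commutator_comm, Subgroup.commutator_eq_bot_iff_le_centralizer] at hcomm
    -- `L₀` is commutative, a contradiction
    have hab : ∀ x ∈ L₀, ∀ y ∈ L₀, x * y = y * x := by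
      intro x hx y hy
      have h1 : g * x * g⁻¹ ∈ Subgroup.centralizer
          (L₀ : Set (Matrix.SpecialLinearGroup (Fin (m+1)) F)) := hcomm ⟨x, hx, rfl⟩
      have h2 : g * y * g⁻¹ ∈ Subgroup.centralizer
          (L₀ : Set (Matrix.SpecialLinearGroup (Fin (m+1)) F)) := hcomm ⟨y, hy, rfl⟩
      have h3 := hKab _ h1 _ h2
      calc x * y = g⁻¹ * ((g * x * g⁻¹) * (g * y * g⁻¹)) * g := by group
        _ = g⁻¹ * ((g * y * g⁻¹) * (g * x * g⁻¹)) * g := by rw [h3]
        _ = y * x := by group
    have hcomm0 : commutator ↥L₀ = ⊥ := by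
      rw [commutator_def, Subgroup.commutator_eq_bot_iff_le_centralizer]
      intro x _
      rw [Subgroup.mem_centralizer_iff]
      intro y _
      exact Subtype.ext (hab y y.2 x x.2)
    have h1 := qs_commutator_eq_top hL₀qs
    rw [hcomm0] at h1
    haveI := qs_nontrivial hL₀qs
    exact bot_ne_top h1
  · -- the normalizers
    apply le_antisymm
    · exact nlnc L₀
    · exact hNK.trans hCNL

end Grp

/-- Let F be a finite field of odd order, n ≥ 7 odd, and t ∈ SL(n, F) the diagonal matrix with entries −1, …, −1, 1. Then E(C(t)) is a standard subgroup of SL(n, F). -/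
theorem result {F : Type*} [Field F] [Fintype F] [DecidableEq F] (hF : Odd (Fintype.card F)) (n : ℕ) (hn : 7 ≤ n) (hodd : Odd n) (t : Matrix.SpecialLinearGroup (Fin n) F) (ht : (t : Matrix (Fin n) (Fin n) F) = Matrix.diagonal (fun i : Fin n => if (i : ℕ) + 1 = n then (1 : F) else -1)) : Cfsg.IsStandardSubgroup ((Cfsg.layer ↥(Subgroup.centralizer ({t} : Set (Matrix.SpecialLinearGroup (Fin n) F)))).map (Subgroup.centralizer ({t} : Set (Matrix.SpecialLinearGroup (Fin n) F))).subtype) := by
  obtain ⟨m, rfl⟩ : ∃ m, n = m + 1 := ⟨n - 1, by omega⟩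
  have hme : Even m := by
    obtain ⟨k, hk⟩ := hodd
    exact ⟨k, by omega⟩
  apply main (by omega) hme (Cfsg.Agent.S1340.two_ne_zero_of_odd hF) t
  rw [ht]
  congr 1
  funext i
  refine Fin.lastCases ?_ (fun i' => ?_) i
  · simp
  · have h1 : ¬ ((i'.castSucc : Fin (m+1)) : ℕ) + 1 = m + 1 := by
      have := i'.isLt
      simp only [Fin.val_castSucc]
      omega
    rw [if_neg h1, dvec_cast]

end Cfsg.Agent.S1348
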