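import Cfsg.Statements.S1349
import Cfsg.Agent.Lib.Helper10.ThompsonDihedral

set_option autoImplicit false
open Cfsg

namespace Cfsg.Agent.S1349

open Cfsg.Agent.Lib.Helper10

/-- subgroups generated by pairwise commuting pairs commute -/
theorem commute_sup_zpowers {G : Type*} [Group G] {a x b y : G} (h1 : a * b = b * a)
    (h2 : a * y = y * a) (h3 : x * b = b * x) (h4 : x * y = y * x) :
    ∀ u ∈ Subgroup.zpowers a ⊔ Subgroup.zpowers x, ∀ v ∈ Subgroup.zpowers b ⊔ Subgroup.zpowers y,
      u * v = v * u := by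
  have key : ∀ g : G, g * b = b * g → g * y = y * g →
      ∀ v ∈ Subgroup.zpowers b ⊔ Subgroup.zpowers y, g * v = v * g := by
    intro g hb hy
    have hle : Subgroup.zpowers b ⊔ Subgroup.zpowers y ≤ Subgroup.centralizer {g} := by
      apply sup_le
      · rw [Subgroup.zpowers_le, Subgroup.mem_centralizer_iff]
        intro w hw
        rw [Set.mem_singleton_iff] at hw
        subst hw
        exact hb
      · rw [Subgroup.zpowers_le, Subgroup.mem_centralizer_iff]
        intro w hw
        rw [Set.mem_singleton_iff] at hw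
        subst hw
        exact hy
    intro v hv
    exact (Subgroup.mem_centralizer_iff.mp (hle hv)) g (Set.mem_singleton g)
  intro u hu v hv
  have hle : Subgroup.zpowers a ⊔ Subgroup.zpowers x ≤ Subgroup.centralizer {v} := by
    apply sup_le
    · rw [Subgroup.zpowers_le, Subgroup.mem_centralizer_iff]
      intro w hw
      rw [Set.mem_singleton_iff] at hw
      subst hw
      exact (key a h1 h2 w hv).symm
    · rw [Subgroup.zpowers_le, Subgroup.mem_centralizer_iff]
      intro w hw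
      rw [Set.mem_singleton_iff] at hw
      subst hw
      exact (key x h3 h4 w hv).symm
  exact ((Subgroup.mem_centralizer_iff.mp (hle hu)) v (Set.mem_singleton v)).symm

/-- Let G be finite, L ≤ G solvable of odd order, and A an elementary abelian 2-subgroup of order 2^d (d ≥ 1) normalizing L with C_A(L) = 1. Then there are subgroups A_1, …, A_d of A of order 2 generating A and subgroups L_1, …, L_d of L such that each A_i ⊔ L_i is dihedral of order 2 n_i with n_i odd and at least 3, and A_i ⊔ L_i commutes elementwise with A_j ⊔ L_j for i ≠ j. -/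
theorem result {G : Type*} [Group G] [Finite G] (L A : Subgroup G) (hLs : Group.IsSolvable ↥L) (hLodd : Odd (Nat.card ↥L)) (hA : Cfsg.IsElementaryAbelian 2 A) (d : ℕ) (hd : 1 ≤ d) (hAd : Nat.card ↥A = 2 ^ d) (hAL : A ≤ Subgroup.normalizer (L : Set G)) (hfaith : A ⊓ Subgroup.centralizer (L : Set G) = ⊥) : ∃ (Ai : Fin d → Subgroup G) (Li : Fin d → Subgroup G) (n : Fin d → ℕ), (∀ i, Ai i ≤ A ∧ Nat.card ↥(Ai i) = 2 ∧ Li i ≤ L ∧ Odd (n i) ∧ 3 ≤ n i ∧ Nonempty (↥(Ai i ⊔ Li i) ≃* DihedralGroup (n i))) ∧ (⨆ i, Ai i) = A ∧ ∀ i j, i ≠ j → ∀ x ∈ Ai i ⊔ Li i, ∀ y ∈ Ai j ⊔ Li j, x * y = y * x := by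
  obtain ⟨hAcomm, hAexp⟩ := hA
  have hAc : ∀ a ∈ A, ∀ b ∈ A, a * b = b * a := by
    intro a ha b hb
    exact congrArg Subtype.val (hAcomm.is_comm.comm ⟨a, ha⟩ ⟨b, hb⟩)
  have hA2 : ∀ a ∈ A, a * a = 1 := by
    intro a ha
    rw [← pow_two]
    exact hAexp a ha
  obtain ⟨a, x, hax, hsup⟩ := thompson_dihedral L A hLs hLodd hAc hA2 d hAd hAL hfaith
  have hxx : ∀ i, (x i)⁻¹ ≠ x i := by
    intro i h
    apply (hax i).2.2.1
    apply eq_one_of_sq_eq_one_of_odd L hLodd (hax i).2.1
    nth_rewrite 1 [← h]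
    exact inv_mul_cancel (x i)
  have hna : ∀ i, a i ∉ Subgroup.zpowers (x i) := by
    intro i hmem
    obtain ⟨k, hk⟩ := Subgroup.mem_zpowers_iff.mp hmem
    have h1 : a i * x i = x i * a i := by
      rw [← hk]
      exact (((Commute.refl (x i)).zpow_left k)).eq
    have h2 : a i * x i * (a i)⁻¹ = x i := by rw [h1]; group
    rw [(hax i).2.2.2.1] at h2
    exact hxx i h2
  have ha1 : ∀ i, a i ≠ 1 := by
    intro i h
    apply hna i
    rw [h]
    exact Subgroup.one_mem _
  have hoddx : ∀ i, Odd (orderOf (x i)) := fun i =>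
    Odd.of_dvd_nat hLodd (Subgroup.orderOf_dvd_natCard L (hax i).2.1)
  refine ⟨fun i => Subgroup.zpowers (a i), fun i => Subgroup.zpowers (x i),
    fun i => orderOf (x i), ?_, hsup, ?_⟩
  · intro i
    have h2 : Fact (Nat.Prime 2) := ⟨Nat.prime_two⟩
    refine ⟨Subgroup.zpowers_le.mpr (hax i).1, ?_, Subgroup.zpowers_le.mpr (hax i).2.1,
      hoddx i, ?_, ?_⟩
    · rw [Nat.card_zpowers]
      exact orderOf_eq_prime (by rw [pow_two]; exact hA2 _ (hax i).1) (ha1 i)
    · have h1 : orderOf (x i) ≠ 1 := fun h => (hax i).2.2.1 (orderOf_eq_one_iff.mp h)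
      have h0 : 0 < orderOf (x i) := orderOf_pos (x i)
      obtain ⟨k, hk⟩ := hoddx i
      show 3 ≤ orderOf (x i)
      omega
    · have : NeZero (orderOf (x i)) := ⟨(orderOf_pos (x i)).ne'⟩
      exact nonempty_mulEquiv_dihedralGroup (orderOf (x i)) (a i) (x i) rfl (hA2 _ (hax i).1)
        (hax i).2.2.2.1 (hna i)
  · intro i j hij
    have h1 : a i * a j = a j * a i := hAc _ (hax i).1 _ (hax j).1
    have h2 : a i * x j = x j * a i := ((hax j).2.2.2.2 i hij).1
    have h3 : x i * a j = a j * x i := (((hax i).2.2.2.2 j (Ne.symm hij)).1).symm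
    have h4 : x i * x j = x j * x i := ((hax j).2.2.2.2 i hij).2
    exact commute_sup_zpowers h1 h2 h3 h4

end Cfsg.Agent.S1349
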