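import Mathlib
import Cfsg.Statements.S1359
import Cfsg.Agent.S1430
import Cfsg.Agent.S1421
import Cfsg.Agent.Lib.Helper3.BG14F

set_option autoImplicit false
open Cfsg

namespace Cfsg.Agent.S1359

theorem result {G : Type*} [Group G] [Finite G] (hG : Cfsg.IsMinSimpleOddOrder G)
    (M : Subgroup G) (hM : IsCoatom M) (K U : Subgroup G) (hKU : Cfsg.IsSigmaDecomposition M K U) :
    IsMulCommutative (Subgroup.closure ((U : Set G) ∩ Cfsg.sigmaHat M)) := by
  exact Cfsg.Agent.Lib.Helper3.BG14.s1359_of hG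
    (fun M hM K hK hK1 => Cfsg.Agent.S1430.result hG M hM K hK hK1)
    (fun M hM E hE h => Cfsg.Agent.S1421.result hG M hM E hE h) M hM K U hKU

end Cfsg.Agent.S1359
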