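import Cfsg.Statements.S1371
import Cfsg.Agent.Lib.Helper19.BG14B
import Cfsg.Agent.S1430
import Cfsg.Agent.S1431
import Cfsg.Agent.S1432

set_option autoImplicit false
open Cfsg

namespace Cfsg.Agent.S1371

/-- Let G be a minimal simple group of odd order, M a maximal subgroup with standard factorisation M = K U M_σ, K ≠ 1, K* = M_σ ∩ C_G(K), and Ẑ the set of elements of K K* outside K ∪ K*. Then the union of the M-conjugates of Ẑ equals A₀(M) with A(M) removed, and it is a TI-subset of G. -/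
theorem result {G : Type*} [Group G] [Finite G] (hG : Cfsg.IsMinSimpleOddOrder G)
    (M : Subgroup G) (hM : IsCoatom M) (K U : Subgroup G) (hKU : Cfsg.IsSigmaDecomposition M K U) (hK1 : K ≠ ⊥) :
    {a : G | ∃ m ∈ M, ∃ z ∈ ((↑(K ⊔ (Cfsg.sigmaCore M ⊓ Subgroup.centralizer (K : Set G))) : Set G) \ ((K : Set G) ∪ ↑(Cfsg.sigmaCore M ⊓ Subgroup.centralizer (K : Set G)))), a = m * z * m⁻¹} = Cfsg.sigmaA0 M K \ Cfsg.sigmaA M U ∧
      Cfsg.IsTISubset (Cfsg.sigmaA0 M K \ Cfsg.sigmaA M U) := by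
  have hK := hKU.hall
  have h30 := Cfsg.Agent.S1430.result hG M hM K hK hK1
  have h31 := Cfsg.Agent.S1431.result hG M hM K hK hK1
  have h : Cfsg.Agent.Lib.Helper19.BG14.KData M K := ⟨hM, hK, hK1, h30.1, h31.1, h31.2.1⟩
  have h32 : ∀ x ∈ Cfsg.sigmaCore M, x ≠ 1 →
      ∀ x' ∈ M ⊓ Subgroup.centralizer ({x} : Set G), x' ≠ 1 →
      (∀ p : ℕ, p.Prime → p ∣ orderOf x' → p ∉ Cfsg.sigma M) →
      (∀ p : ℕ, p.Prime → p ∣ orderOf x' → p ∈ Cfsg.kappa M) ∨
        (∀ p : ℕ, p.Prime → p ∣ orderOf x' → p ∈ Cfsg.tau2 M) := by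
    intro x hx hx1 x' hx' hx'1 hσ
    rcases Cfsg.Agent.S1432.result hG M hM x hx hx1 x' hx' hx'1 hσ with h1 | h1
    · exact Or.inl h1.1
    · exact Or.inr h1.1
  have heq := Set.Subset.antisymm (h.conj_zhat_subset hG hKU) (h.subset_conj_zhat hG hKU h32)
  refine ⟨heq, ?_⟩
  rw [← heq]
  exact h.isTISubset_conj_zhat hG

end Cfsg.Agent.S1371
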