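import Cfsg.Statements.S1379
import Cfsg.Agent.Lib.Helper11.BGFourteenD
import Cfsg.Agent.Lib.Helper1.BGCount
import Cfsg.Agent.S1375
import Cfsg.Agent.S1432
import Cfsg.Agent.S1433
import Cfsg.Agent.S1430
import Cfsg.Agent.S1431
import Cfsg.Agent.S1366
import Cfsg.Agent.S1367
import Cfsg.Agent.S1434
import Cfsg.Agent.S1354
import Cfsg.Agent.S1351
import Cfsg.Agent.S1352

set_option autoImplicit false
open Cfsg

namespace Cfsg.Agent.S1379

/-- Let G be a minimal simple group of odd order; for a maximal subgroup M write M̃ for the union of the G-conjugates of the cosets x R(x), x ≠ 1 in M_σ. Then M̃ ∩ Ñ = ∅ for non-conjugate maximal M, N; if every maximal subgroup has κ empty, every g ≠ 1 lies in some M̃; and if M = K U M_σ has K ≠ 1 with Ẑ = K K* − (K ∪ K*), then every g ≠ 1 lies in some Ñ or in a conjugate of Ẑ, and no conjugate of an element of Ẑ lies in any Ñ. -/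
theorem result {G : Type*} [Group G] [Finite G] (hG : Cfsg.IsMinSimpleOddOrder G) :
    (∀ M N : Subgroup G, IsCoatom M → IsCoatom N → (∀ g : G, N ≠ M.map (MulAut.conj g).toMonoidHom) → Cfsg.tildeOf M ((Cfsg.sigmaCore M : Set G) \ {1}) ∩ Cfsg.tildeOf N ((Cfsg.sigmaCore N : Set G) \ {1}) = ∅) ∧
      ((∀ M : Subgroup G, IsCoatom M → Cfsg.kappa M = ∅) →
        ∀ g : G, g ≠ 1 → ∃ M : Subgroup G, IsCoatom M ∧ g ∈ Cfsg.tildeOf M ((Cfsg.sigmaCore M : Set G) \ {1})) ∧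
      ∀ (M K U : Subgroup G), IsCoatom M → Cfsg.IsSigmaDecomposition M K U → K ≠ ⊥ →
        (∀ g : G, g ≠ 1 → (∃ N : Subgroup G, IsCoatom N ∧ g ∈ Cfsg.tildeOf N ((Cfsg.sigmaCore N : Set G) \ {1})) ∨
            ∃ y : G, ∃ z ∈ ((↑(K ⊔ (Cfsg.sigmaCore M ⊓ Subgroup.centralizer (K : Set G))) : Set G) \ ((K : Set G) ∪ ↑(Cfsg.sigmaCore M ⊓ Subgroup.centralizer (K : Set G)))), g = y * z * y⁻¹) ∧
        ∀ N : Subgroup G, IsCoatom N → ∀ y : G, ∀ z ∈ ((↑(K ⊔ (Cfsg.sigmaCore M ⊓ Subgroup.centralizer (K : Set G))) : Set G) \ ((K : Set G) ∪ ↑(Cfsg.sigmaCore M ⊓ Subgroup.centralizer (K : Set G)))), y * z * y⁻¹ ∉ Cfsg.tildeOf N ((Cfsg.sigmaCore N : Set G) \ {1}) := by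
  have hdec : ∀ H : Subgroup G, IsCoatom H → ∃ K U : Subgroup G, IsSigmaDecomposition H K U := by
    intro H hH
    obtain ⟨⟨K', hK'⟩, hcyc⟩ := Cfsg.Agent.S1351.result hG H hH
    obtain ⟨⟨U', hU'⟩, -⟩ := Cfsg.Agent.S1352.result hG H hH K' (hcyc K' hK') hK'
    exact ⟨K', U', hU'⟩
  exact Cfsg.Agent.Lib.Helper11.BG14D.s1379_of hG (Cfsg.Agent.S1375.result hG)
    (Cfsg.Agent.S1432.result hG) (Cfsg.Agent.S1433.result hG) (Cfsg.Agent.S1430.result hG)
    (Cfsg.Agent.S1431.result hG) (Cfsg.Agent.S1366.result hG) (Cfsg.Agent.S1367.result hG)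
    (fun M K U Mstar hM hKU hK1 hMstar hKst hKstH =>
      Cfsg.Agent.Lib.Helper1.BGCount.s1369_part2 hG (Cfsg.Agent.S1434.result hG)
        (Cfsg.Agent.S1366.result hG) (Cfsg.Agent.S1367.result hG) (Cfsg.Agent.S1354.result hG)
        hdec M hM K U hKU hK1 Mstar hMstar hKst hKstH)

end Cfsg.Agent.S1379
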