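import Cfsg.Statements.S1383
import Mathlib
import Cfsg.Agent.Lib.Helper7.BGTypesF
import Cfsg.Agent.Lib.Helper2.BG1383C
import Cfsg.Agent.S1356
import Cfsg.Agent.S1370
import Cfsg.Agent.S1381
import Cfsg.Agent.S1382

set_option autoImplicit false
open Cfsg

namespace Cfsg.Agent.S1383

/-- Let G be a minimal simple group of odd order and M a maximal subgroup with standard factorisation M = K U M_σ. Then M is of Type V if and only if K ≠ 1, U = 1 and M_F = M_σ. -/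
theorem result {G : Type*} [Group G] [Finite G] (hG : Cfsg.IsMinSimpleOddOrder G)
    (M : Subgroup G) (hM : IsCoatom M) (K U : Subgroup G) (hKU : Cfsg.IsSigmaDecomposition M K U) :
    Cfsg.IsOfTypeV M ↔ (K ≠ ⊥ ∧ U = ⊥ ∧ Cfsg.fittingHallOf M = Cfsg.sigmaCore M) := by
  constructor
  · rintro ⟨W₁, U', W₂, hP, hU'1, -⟩
    have hK1 : K ≠ ⊥ := Cfsg.Agent.Lib.Helper7.BGTypes.K_ne_bot_of_typeP hG hM hP hKU.hall
    have hc0 := Cfsg.Agent.Lib.Helper10.IsComplIn.card_eq hP.U_compl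
    rw [hU'1, Subgroup.card_bot, mul_one] at hc0
    have key : ∀ W₁' U'' W₂' : Subgroup G, Cfsg.IsTypePWith M W₁' U'' W₂' → U'' ≠ ⊥ → False := by
      intro W₁' U'' W₂' hP' hU''
      have h1 := Cfsg.Agent.Lib.Helper10.IsComplIn.card_eq hP'.U_compl
      rw [hc0] at h1
      have h2 : Nat.card (Cfsg.fittingHallOf M) * Nat.card U'' =
          Nat.card (Cfsg.fittingHallOf M) * 1 := by rw [mul_one]; exact h1.symm
      exact hU'' (Subgroup.card_eq_one.mp (Nat.eq_of_mul_eq_mul_left Nat.card_pos h2))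
    have hU : U = ⊥ := by
      by_contra hU1
      obtain ⟨W₁', U'', W₂', hP', hU''1, -⟩ :=
        (Cfsg.Agent.S1381.result hG M hM K U hKU).mpr ⟨hK1, hU1⟩
      exact key _ _ _ hP' hU''1
    refine ⟨hK1, hU, ?_⟩
    by_contra hne
    rcases (Cfsg.Agent.S1382.result hG M hM K U hKU).mpr ⟨hK1, hU, hne⟩ with
      ⟨W₁', U'', W₂', hP', hU''1, -⟩ | ⟨W₁', U'', W₂', hP', hU''1, -⟩
    · exact key _ _ _ hP' hU''1
    · exact key _ _ _ hP' hU''1
  · rintro ⟨hK1, hU, hH⟩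
    have hnil : Group.IsNilpotent (Cfsg.sigmaCore M) := hH ▸ Cfsg.Agent.Lib.Helper7.BGTypes.isNilpotent_fittingHallOf M
    have hM' : ⁅M, M⁆ = Cfsg.sigmaCore M := by
      rw [(Cfsg.Agent.S1365.result hG M hM K U hKU hK1).1, hU, bot_sup_eq]
    have hc : Cfsg.IsComplIn (Cfsg.fittingHallOf M) ⊥ ⁅M, M⁆ := by
      rw [hH, hM']
      exact ⟨le_rfl, bot_le, inf_bot_eq _, fun m hm => ⟨m, hm, 1, Subgroup.mem_bot.mpr rfl, by simp⟩⟩
    have hbn : Group.IsNilpotent (⊥ : Subgroup G) := inferInstance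
    have hKb : K ≤ Subgroup.normalizer (((⊥ : Subgroup G)) : Set G) := by
      intro k _
      rw [Subgroup.mem_normalizer_iff]
      intro h
      simp [Subgroup.mem_bot]
    have hP := Cfsg.Agent.Lib.Helper7.BGTypes.isTypePWith_of hG hM hKU hK1 hbn hKb hc (Cfsg.Agent.S1356.result hG M hM)
      (Cfsg.Agent.S1370.result hG M hM K U hKU hK1)
    have htri := Cfsg.Agent.Lib.Helper2.BG1383.typeV_trichotomy hG hM hKU hK1 hU hnil
    refine ⟨K, ⊥, _, hP, rfl, ?_⟩
    rw [hH]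
    exact htri

end Cfsg.Agent.S1383
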