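-- Statement S1386
import Cfsg.Statements.S1386
import Cfsg.Agent.Lib.Helper10.Basic

set_option autoImplicit false
open Cfsg

namespace Cfsg.Agent.S1386

open Cfsg.Agent.Lib.Helper10

/-- Let G be a finite group, W₁, W₂ subgroups forming a self-normalizing cyclic pair, S a subgroup with W₂ ≤ S and W₁ a complement to S' in S, and (W₁, U, W₂') type-P data for S. Then W₂' = W₂ (that is, C_{S'}(W₁) = W₂). -/
theorem result {G : Type*} [Group G] [Finite G] (W₁ W₂ S U W₂' : Subgroup G) (hW : Cfsg.IsSelfNormalizingCyclic W₁ W₂)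
    (hSW : Cfsg.IsComplIn ⁅S, S⁆ W₁ S) (hW₂S : W₂ ≤ S) (hP : Cfsg.IsTypePWith S W₁ U W₂') :
    W₂' = W₂ := by
  obtain ⟨hW₁ne, hW₂ne, hdisj, hcomm, hcyc, hnorm⟩ := hW
  obtain ⟨-, hW₂'ne, hdisj', hcomm', hcyc', hnorm'⟩ := hP.selfNormalizing
  obtain ⟨-, -, -, hfact⟩ := hSW
  -- a nontrivial element of W₁
  obtain ⟨x, hx1⟩ := (Subgroup.ne_bot_iff_exists_ne_one).mp hW₁ne
  obtain ⟨y, hy1⟩ := (Subgroup.ne_bot_iff_exists_ne_one).mp hW₂ne
  have hx' : (x : G) ∈ W₁ := x.2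
  have hy' : (y : G) ∈ W₂ := y.2
  have hx1' : (x : G) ≠ 1 := fun h => hx1 (Subtype.ext h)
  have hy1' : (y : G) ≠ 1 := fun h => hy1 (Subtype.ext h)
  -- W₁ is commutative
  have hW₁comm : ∀ a ∈ W₁, ∀ b ∈ W₁, a * b = b * a := by
    intro a ha b hb
    haveI := hcyc
    have hc : IsMulCommutative ↥(W₁ ⊔ W₂) := inferInstance
    have := hc.is_comm.comm ⟨a, (le_sup_left : W₁ ≤ W₁ ⊔ W₂) ha⟩ ⟨b, (le_sup_left : W₁ ≤ W₁ ⊔ W₂) hb⟩
    exact congrArg Subtype.val this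
  -- step 1: W₂ ≤ W₁ ⊔ W₂'
  have h1 : W₂ ≤ W₁ ⊔ W₂' := by
    intro w hw
    obtain ⟨a, ha, b, hb, hab⟩ := hfact w (hW₂S hw)
    have hacomm : (x : G) * a = a * x := by
      have e1 : (x : G) * w = w * x := hcomm x hx' w hw
      have e2 : (x : G) * b = b * x := hW₁comm x hx' b hb
      have ha_eq : a = w * b⁻¹ := by rw [hab]; group
      rw [ha_eq]
      calc (x : G) * (w * b⁻¹) = ((x : G) * w) * b⁻¹ := by group
        _ = (w * x) * b⁻¹ := by rw [e1]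
        _ = w * (b⁻¹ * (b * x) * b⁻¹) := by group
        _ = w * (b⁻¹ * (x * b) * b⁻¹) := by rw [e2]
        _ = w * b⁻¹ * x := by group
    have haW : a ∈ W₂' := by
      rw [← hP.W₂_centralizer x hx' hx1']
      refine ⟨ha, ?_⟩
      change a ∈ Subgroup.centralizer ({(x : G)} : Set G)
      rw [Subgroup.mem_centralizer_iff]
      intro z hz
      rw [Set.mem_singleton_iff] at hz
      subst hz
      exact hacomm
    rw [hab]
    exact Subgroup.mul_mem _ ((le_sup_right : W₂' ≤ W₁ ⊔ W₂') haW) ((le_sup_left : W₁ ≤ W₁ ⊔ W₂') hb)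
  have h2 : W₁ ⊔ W₂ ≤ W₁ ⊔ W₂' := sup_le le_sup_left h1
  -- step 2: the element x * y has normalizer W₁ ⊔ W₂
  have hz_mem : ((x : G) * y) ∈ ((W₁ ⊔ W₂ : Subgroup G) : Set G) \ ((W₁ : Set G) ∪ (W₂ : Set G)) := by
    refine ⟨Subgroup.mul_mem _ ((le_sup_left : W₁ ≤ W₁ ⊔ W₂) hx') ((le_sup_right : W₂ ≤ W₁ ⊔ W₂) hy'), ?_⟩
    rintro (h | h)
    · have : (y : G) ∈ W₁ := by
        have : (y : G) = (x : G)⁻¹ * ((x : G) * y) := by group
        rw [this]
        exact W₁.mul_mem (W₁.inv_mem hx') h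
      have : (y : G) ∈ W₁ ⊓ W₂ := ⟨this, hy'⟩
      rw [hdisj, Subgroup.mem_bot] at this
      exact hy1' this
    · have : (x : G) ∈ W₂ := by
        have : (x : G) = ((x : G) * y) * (y : G)⁻¹ := by group
        rw [this]
        exact W₂.mul_mem h (W₂.inv_mem hy')
      have : (x : G) ∈ W₁ ⊓ W₂ := ⟨hx', this⟩
      rw [hdisj, Subgroup.mem_bot] at this
      exact hx1' this
  have hN : Subgroup.normalizer ({(x : G) * y} : Set G) = W₁ ⊔ W₂ :=
    hnorm {(x : G) * y} (by rw [Set.singleton_subset_iff]; exact hz_mem) (Set.singleton_nonempty _)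
  -- step 3: W₁ ⊔ W₂' ≤ W₁ ⊔ W₂ since W₁ ⊔ W₂' is abelian and contains x * y
  have h3 : W₁ ⊔ W₂' ≤ W₁ ⊔ W₂ := by
    intro w hw
    rw [← hN, Subgroup.mem_set_normalizer_iff]
    intro h
    haveI := hcyc'
    have hc : IsMulCommutative ↥(W₁ ⊔ W₂') := inferInstance
    have hzW' : (x : G) * y ∈ W₁ ⊔ W₂' := h2 hz_mem.1
    have hcm : w * ((x : G) * y) = ((x : G) * y) * w :=
      congrArg Subtype.val (hc.is_comm.comm ⟨w, hw⟩ ⟨(x : G) * y, hzW'⟩)
    simp only [Set.mem_singleton_iff]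
    constructor
    · intro hh
      rw [hh, hcm]; group
    · intro hh
      have e : h = w⁻¹ * (w * h * w⁻¹) * w := by group
      rw [e, hh]
      calc w⁻¹ * ((x : G) * y) * w = w⁻¹ * (((x : G) * y) * w) := by group
        _ = w⁻¹ * (w * ((x : G) * y)) := by rw [hcm]
        _ = (x : G) * y := by group
  have hEq : W₁ ⊔ W₂ = W₁ ⊔ W₂' := le_antisymm h2 h3
  -- step 4: cardinalities
  have hc1 := card_sup_of_commute_of_disjoint W₁ W₂ hcomm hdisj
  have hc2 := card_sup_of_commute_of_disjoint W₁ W₂' hcomm' hdisj'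
  have hcard : Nat.card W₂' = Nat.card W₂ := by
    have hpos : 0 < Nat.card W₁ := Nat.card_pos
    have : Nat.card W₁ * Nat.card W₂' = Nat.card W₁ * Nat.card W₂ := by
      rw [← hc1, ← hc2, hEq]
    exact Nat.eq_of_mul_eq_mul_left hpos this
  haveI := hcyc
  exact eq_of_card_eq_of_le_isCyclic (W₁ ⊔ W₂) W₂' W₂ (by rw [hEq]; exact le_sup_right) le_sup_right hcard

end Cfsg.Agent.S1386
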