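-- Statement S1387
import Cfsg.Statements.S1387
import Cfsg.Agent.Lib.Helper10.FittingHall

set_option autoImplicit false
open Cfsg

namespace Cfsg.Agent.S1387

open Cfsg.Agent.Lib.Helper10

variable {G : Type*} [Group G]

theorem commutator_self_le (M : Subgroup G) : ⁅M, M⁆ ≤ M := by
  have := Subgroup.commutator_le_sup (H₁ := M) (H₂ := M)
  rwa [sup_idem] at this

theorem card_fittingHallOf (M : Subgroup G) :
    Nat.card (Cfsg.fittingHallOf M) = Nat.card (Cfsg.fittingHall M) := by
  unfold Cfsg.fittingHallOf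
  exact Subgroup.card_subtype M _

/-- With type-P data, the orders of `U` and `H = M_F` are coprime. -/
theorem coprime_card_U_H [Finite G] {M W₁ U W₂ : Subgroup G} (hP : Cfsg.IsTypePWith M W₁ U W₂) :
    (Nat.card U).Coprime (Nat.card (Cfsg.fittingHallOf M)) := by
  have h1 : Nat.card ↥⁅M, M⁆ = Nat.card (Cfsg.fittingHallOf M) * Nat.card U :=
    IsComplIn.card_eq hP.U_compl
  have h2 : Nat.card ↥⁅M, M⁆ ∣ Nat.card M := Subgroup.card_dvd_of_le (commutator_self_le M)
  have h3 : Nat.card (Cfsg.fittingHall M) * (Cfsg.fittingHall M).index = Nat.card M :=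
    Subgroup.card_mul_index _
  have h4 := card_fittingHallOf M
  have h5 : Nat.card U ∣ (Cfsg.fittingHall M).index := by
    rw [h1, h4, ← h3] at h2
    exact Nat.dvd_of_mul_dvd_mul_left Nat.card_pos h2
  rw [h4]
  exact (fittingHall_coprime (M := M)).symm.coprime_dvd_left h5

/-- With type-P data, `U ∩ F(M)` centralizes `H = M_F`. -/
theorem U_inf_fitting_le_centralizer [Finite G] {M W₁ U W₂ : Subgroup G}
    (hP : Cfsg.IsTypePWith M W₁ U W₂) :
    U ⊓ Cfsg.fittingOf M ≤ Subgroup.centralizer (Cfsg.fittingHallOf M : Set G) := by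
  intro b hb
  obtain ⟨hbU, hbF⟩ := Subgroup.mem_inf.mp hb
  rw [Subgroup.mem_centralizer_iff]
  intro h hh
  obtain ⟨b', hb', rfl⟩ := hbF
  obtain ⟨h', hh', rfl⟩ := hh
  have hh'F : h' ∈ Cfsg.fittingSubgroup M := fittingHall_le_fittingSubgroup hh'
  haveI : Group.IsNilpotent (Cfsg.fittingSubgroup M) :=
    Cfsg.Agent.Lib.Helper1.fittingSubgroup_isNilpotent
  have hcop : (orderOf (⟨h', hh'F⟩ : Cfsg.fittingSubgroup M)).Coprime
      (orderOf (⟨b', hb'⟩ : Cfsg.fittingSubgroup M)) := by
    have e1 : orderOf (⟨h', hh'F⟩ : Cfsg.fittingSubgroup M) ∣ Nat.card (Cfsg.fittingHallOf M) := by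
      rw [card_fittingHallOf]
      have : orderOf (⟨h', hh'F⟩ : Cfsg.fittingSubgroup M) = orderOf h' := by
        rw [← Subgroup.orderOf_coe]
      rw [this]
      exact Subgroup.orderOf_dvd_natCard _ hh'
    have e2 : orderOf (⟨b', hb'⟩ : Cfsg.fittingSubgroup M) ∣ Nat.card U := by
      have : orderOf (⟨b', hb'⟩ : Cfsg.fittingSubgroup M) = orderOf (M.subtype b') := by
        rw [← Subgroup.orderOf_coe, Subgroup.subtype_apply]
        exact (Subgroup.orderOf_coe b').symm
      rw [this]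
      exact Subgroup.orderOf_dvd_natCard _ hbU
    exact ((coprime_card_U_H hP).symm.coprime_dvd_left e1).coprime_dvd_right e2
  have hc := commute_of_coprime_orderOf (Cfsg.fittingSubgroup M) _ _ hcop
  have hc' : h' * b' = b' * h' := congrArg Subtype.val hc.eq
  rw [← map_mul, ← map_mul, hc']

/-- Let M be a subgroup of a finite group G with type-P data (W₁, U, W₂) and H = M_F. Then the Fitting subgroup F(M) is generated by H and the centralizer of H in U. -/
theorem result {G : Type*} [Group G] [Finite G] (M W₁ U W₂ : Subgroup G) (hP : Cfsg.IsTypePWith M W₁ U W₂) :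
    Cfsg.fittingOf M = Cfsg.fittingHallOf M ⊔ (U ⊓ Subgroup.centralizer (Cfsg.fittingHallOf M : Set G)) := by
  have hHF : Cfsg.fittingHallOf M ≤ Cfsg.fittingOf M := by
    rw [← hP.fitting_eq]; exact le_sup_left
  obtain ⟨hHM', hUM', hdisj, hfact⟩ := hP.U_compl
  apply le_antisymm
  · rw [← hP.fitting_eq]
    apply sup_le le_sup_left
    intro c hc
    have hcF : c ∈ Cfsg.fittingOf M := by
      rw [← hP.fitting_eq]; exact (le_sup_right : _ ≤ Cfsg.fittingHallOf M ⊔ _) hc
    obtain ⟨a, ha, b, hb, rfl⟩ := hfact c (hP.fitting_le hcF)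
    have hbF : b ∈ Cfsg.fittingOf M := by
      have : b = a⁻¹ * (a * b) := by group
      rw [this]
      exact Subgroup.mul_mem _ (Subgroup.inv_mem _ (hHF ha)) hcF
    have hbC := U_inf_fitting_le_centralizer hP (Subgroup.mem_inf.mpr ⟨hb, hbF⟩)
    exact Subgroup.mul_mem _ ((le_sup_left : Cfsg.fittingHallOf M ≤ _) ha)
      ((le_sup_right : _ ≤ Cfsg.fittingHallOf M ⊔ _) (Subgroup.mem_inf.mpr ⟨hb, hbC⟩))
  · rw [← hP.fitting_eq]
    apply sup_le le_sup_left
    refine le_trans ?_ le_sup_right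
    intro c hc
    obtain ⟨hcU, hcC⟩ := Subgroup.mem_inf.mp hc
    exact Subgroup.mem_inf.mpr ⟨commutator_self_le M (hUM' hcU), hcC⟩

end Cfsg.Agent.S1387
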