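-- Statement S1388
import Cfsg.Statements.S1388
import Cfsg.Agent.S1387

set_option autoImplicit false
open Cfsg

namespace Cfsg.Agent.S1388

open Cfsg.Agent.Lib.Helper10 Cfsg.Agent.S1387

/-- Let M be a subgroup of a finite group G with type-P data (W₁, U, W₂) and H = M_F. Then the derived subgroup of U centralizes H, and if U ≠ 1 then U does not centralize H. -/
theorem result {G : Type*} [Group G] [Finite G] (M W₁ U W₂ : Subgroup G) (hP : Cfsg.IsTypePWith M W₁ U W₂) :
    ⁅U, U⁆ ≤ Subgroup.centralizer (Cfsg.fittingHallOf M : Set G) ∧ (U ≠ ⊥ → ¬ U ≤ Subgroup.centralizer (Cfsg.fittingHallOf M : Set G)) := by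
  obtain ⟨hHM', hUM', hdisj, hfact⟩ := hP.U_compl
  obtain ⟨-, hW₁M, -, hfactM⟩ := hP.W₁_compl
  have hUM : U ≤ M := le_trans hUM' (commutator_self_le M)
  constructor
  · have h1 : ⁅U, U⁆ ≤ U := commutator_self_le U
    have h2 : ⁅U, U⁆ ≤ Cfsg.fittingOf M := by
      rw [← hP.fitting_eq]
      exact le_trans (Subgroup.commutator_mono hUM' hUM') hP.derived_two_le
    exact le_trans (le_inf h1 h2) (U_inf_fitting_le_centralizer hP)
  · intro hU1 hUC
    apply hU1
    -- M normalizes U
    have hHCU : Cfsg.fittingHallOf M ≤ Subgroup.centralizer (U : Set G) :=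
      Subgroup.le_centralizer_iff.mp hUC
    have hMN : M ≤ Subgroup.normalizer (U : Set G) := by
      intro m hm
      obtain ⟨m', hm', w, hw, rfl⟩ := hfactM m hm
      obtain ⟨a, ha, b, hb, rfl⟩ := hfact m' hm'
      refine Subgroup.mul_mem _ (Subgroup.mul_mem _ ?_ ?_) (hP.U_normal hw)
      · exact Subgroup.centralizer_le_normalizer _ (hHCU ha)
      · exact Subgroup.le_normalizer hb
    -- cardinalities
    have c1 : Nat.card ↥⁅M, M⁆ = Nat.card (Cfsg.fittingHallOf M) * Nat.card U :=
      IsComplIn.card_eq hP.U_compl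
    have c2 : Nat.card M = Nat.card ↥⁅M, M⁆ * Nat.card W₁ := IsComplIn.card_eq hP.W₁_compl
    have c3 : Nat.card U * U.relIndex M = Nat.card M :=
      Cfsg.Agent.Lib.Helper1.card_mul_relIndex_of_le hUM
    have c4 : Nat.card W₁ * W₁.relIndex M = Nat.card M :=
      Cfsg.Agent.Lib.Helper1.card_mul_relIndex_of_le hW₁M
    have hUpos : 0 < Nat.card U := Nat.card_pos
    have hWpos : 0 < Nat.card W₁ := Nat.card_pos
    have c5 : U.relIndex M = Nat.card (Cfsg.fittingHallOf M) * Nat.card W₁ := by
      apply Nat.eq_of_mul_eq_mul_left hUpos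
      rw [c3, c2, c1]; ring
    have c6 : W₁.relIndex M = Nat.card (Cfsg.fittingHallOf M) * Nat.card U := by
      apply Nat.eq_of_mul_eq_mul_left hWpos
      rw [c4, c2, c1]; ring
    have hcopW : (Nat.card U).Coprime (Nat.card W₁) := by
      have := hP.W₁_hall
      rw [c6] at this
      exact (Nat.Coprime.coprime_mul_left_right this).symm
    have hcop : (Nat.card U).Coprime (U.relIndex M) := by
      rw [c5]
      exact Nat.Coprime.mul_right (coprime_card_U_H hP) hcopW
    -- U (inside M) is a normal nilpotent Hall subgroup of M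
    have hn : (U.subgroupOf M).Normal := Subgroup.normal_subgroupOf_of_le_normalizer hMN
    have hnil : Group.IsNilpotent (U.subgroupOf M) := by
      haveI := hP.U_nilpotent
      exact (Group.isNilpotent_congr (Subgroup.subgroupOfEquivOfLe hUM)).mpr inferInstance
    have hcop' : (Nat.card (U.subgroupOf M)).Coprime (U.subgroupOf M).index := by
      rw [Nat.card_congr (Subgroup.subgroupOfEquivOfLe hUM).toEquiv]
      exact hcop
    have hle : U.subgroupOf M ≤ Cfsg.fittingHall M := le_fittingHall hn hnil hcop'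
    have hUH : U ≤ Cfsg.fittingHallOf M := by
      intro u hu
      exact ⟨⟨u, hUM hu⟩, hle (Subgroup.mem_subgroupOf.mpr hu), rfl⟩
    rw [eq_bot_iff, ← hdisj]
    exact le_inf hUH le_rfl

end Cfsg.Agent.S1388
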