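import Mathlib
import Cfsg.Statements.S1389
import Cfsg.Agent.Lib.Helper7.BGTypesB
import Cfsg.Agent.S1351
import Cfsg.Agent.S1352
import Cfsg.Agent.S1357
import Cfsg.Agent.S1363
import Cfsg.Agent.S1365

set_option autoImplicit false
open Cfsg

namespace Cfsg.Agent.S1389

/-- Let G be a minimal simple group of odd order and M a maximal subgroup, with M_s = M' for Types III, IV and M_F otherwise. The normalizer of every nontrivial Sylow subgroup of M_s lies in M, and M_F and M_s are Hall subgroups of G. -/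
theorem result {G : Type*} [Group G] [Finite G] (hG : Cfsg.IsMinSimpleOddOrder G)
    (M : Subgroup G) (hM : IsCoatom M) :
    (∀ (p : ℕ), p.Prime → ∀ (P : Sylow p ↥(Cfsg.typeCore M)), (P : Subgroup ↥(Cfsg.typeCore M)) ≠ ⊥ →
        Subgroup.normalizer ((((P : Subgroup ↥(Cfsg.typeCore M)).map (Cfsg.typeCore M).subtype : Subgroup G)) : Set G) ≤ M) ∧
      (Nat.card (Cfsg.fittingHallOf M)).Coprime (Cfsg.fittingHallOf M).index ∧
      (Nat.card (Cfsg.typeCore M)).Coprime (Cfsg.typeCore M).index :=
  Cfsg.Agent.Lib.Helper7.BGTypes.s1389_of hG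
    (fun M hM => Cfsg.Agent.S1351.result hG M hM)
    (fun M hM K hKc hK => Cfsg.Agent.S1352.result hG M hM K hKc hK)
    (fun M hM K U hKU hne => Cfsg.Agent.S1357.result hG M hM K U hKU hne)
    (fun M hM K U hKU hK1 => Cfsg.Agent.S1363.result hG M hM K U hKU hK1)
    (fun M hM K U hKU hK1 => Cfsg.Agent.S1365.result hG M hM K U hKU hK1)
    M hM

end Cfsg.Agent.S1389
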