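-- Statement S1441
import Cfsg.Statements.S1441
import Cfsg.Agent.H10.Basic

set_option autoImplicit false
open Cfsg

namespace Cfsg.Agent.S1441

open scoped commutatorElement

/-- Let G be a finite group, H a solvable subgroup and A a subgroup normalizing H. Suppose there is a chain H = H₀ ≥ H₁ ≥ ⋯ ≥ H_n = 1 of subgroups normal in H and normalized by A such that A acts trivially on each factor H_{i-1}/H_i (that is, [H_{i-1}, A] ≤ H_i). Then every prime dividing the index of C_A(H) in A divides the order of H. -/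
theorem result {G : Type*} [Group G] [Finite G] (H A : Subgroup G) (hH : Group.IsSolvable H) (hA : (A ≤ Subgroup.normalizer (H : Set G)))
    (n : ℕ) (c : Fin (n + 1) → Subgroup G) (hc0 : c 0 = H) (hcn : c (Fin.last n) = ⊥) (hanti : Antitone c)
    (hcN : ∀ i, H ≤ Subgroup.normalizer ((c i : Subgroup G) : Set G)) (hcA : ∀ i, A ≤ Subgroup.normalizer ((c i : Subgroup G) : Set G))
    (htriv : ∀ i : Fin n, ⁅c i.castSucc, A⁆ ≤ c i.succ) :
    ∀ p : ℕ, p.Prime → p ∣ (A ⊓ Subgroup.centralizer (H : Set G)).relIndex A → p ∣ Nat.card H := by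
  intro p hp hdvd
  by_contra hpH
  have : Fact p.Prime := ⟨hp⟩
  -- key claim: every element of `A` of `p`-power order centralizes every `c i`
  have key : ∀ x ∈ A, (∃ k : ℕ, x ^ (p ^ k) = 1) → ∀ i : Fin (n + 1), ∀ h ∈ c i, Commute h x := by
    intro x hxA ⟨k, hk⟩ i
    induction i using Fin.reverseInduction with
    | last =>
      intro h hh
      rw [hcn, Subgroup.mem_bot] at hh
      subst hh
      exact Commute.one_left x
    | cast i ih =>
      intro h hh
      have hz : ⁅h, x⁆ ∈ c i.succ := htriv i (Subgroup.commutator_mem_commutator hh hxA)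
      have hzH : ⁅h, x⁆ ∈ H := by
        rw [← hc0]
        exact hanti (Fin.zero_le _) hz
      have hzpow : ⁅h, x⁆ ^ Nat.card H = 1 := by
        have h1 := pow_card_eq_one' (G := H) (x := ⟨⁅h, x⁆, hzH⟩)
        have h2 := congrArg Subtype.val h1
        rw [Subgroup.coe_pow] at h2
        exact h2
      refine H10.commute_of_coprime_of_commute_commutator x h (p ^ k) (Nat.card H) hk hzpow ?_ (ih _ hz)
      exact Nat.Coprime.pow_left k ((Nat.Prime.coprime_iff_not_dvd hp).mpr hpH)
  -- a Sylow `p`-subgroup of `A` lies in the centralizer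
  obtain P : Sylow p A := default
  have hPle : (P : Subgroup A) ≤ (A ⊓ Subgroup.centralizer (H : Set G)).subgroupOf A := by
    intro x hx
    rw [Subgroup.mem_subgroupOf]
    refine ⟨x.2, ?_⟩
    change (x : G) ∈ Subgroup.centralizer (H : Set G)
    rw [Subgroup.mem_centralizer_iff]
    intro h hh
    have hxp : ∃ k : ℕ, (x : G) ^ (p ^ k) = 1 := by
      obtain ⟨k, hk⟩ := P.isPGroup' ⟨x, hx⟩
      refine ⟨k, ?_⟩
      have := congrArg (fun y : (P : Subgroup A) => ((y : A) : G)) hk
      simpa using this
    have := key x x.2 hxp 0 h (by rw [hc0]; exact hh)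
    exact this.eq
  have h1 : ¬ p ∣ (P : Subgroup A).index := P.not_dvd_index
  have h2 : ((A ⊓ Subgroup.centralizer (H : Set G)).subgroupOf A).index ∣ (P : Subgroup A).index :=
    Subgroup.index_dvd_of_le hPle
  exact h1 (dvd_trans hdvd h2)

end Cfsg.Agent.S1441
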