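-- Statement S1442
import Cfsg.Statements.S1442
import Cfsg.Agent.H10.Basic

set_option autoImplicit false
open Cfsg

namespace Cfsg.Agent.S1442

open scoped commutatorElement

/-- Let G be a finite group, H a nilpotent subgroup and A a subgroup normalizing H with the orders of A and H coprime. Put C = H ∩ C_G(A). If H ∩ C_G(C) ≤ C then A centralizes H. -/
theorem result {G : Type*} [Group G] [Finite G] (H A : Subgroup G) (hH : Group.IsNilpotent H) (hA : (A ≤ Subgroup.normalizer (H : Set G))) (hcop : (Nat.card A).Coprime (Nat.card H))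
    (hC : H ⊓ Subgroup.centralizer (((H ⊓ Subgroup.centralizer (A : Set G)) : Subgroup G) : Set G) ≤ (H ⊓ Subgroup.centralizer (A : Set G))) :
    A ≤ Subgroup.centralizer (H : Set G) := by
  set K' : Subgroup H := (Subgroup.centralizer (A : Set G)).subgroupOf H with hK'
  have hNC := normalizerCondition_of_isNilpotent (G := H)
  by_cases htop : K' = ⊤
  · -- H ≤ C(A)
    intro a ha
    rw [Subgroup.mem_centralizer_iff]
    intro h hh
    have : (⟨h, hh⟩ : H) ∈ K' := by rw [htop]; exact Subgroup.mem_top _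
    rw [hK', Subgroup.mem_subgroupOf, Subgroup.mem_centralizer_iff] at this
    exact (this a ha).symm
  · exfalso
    have hlt : K' < ⊤ := lt_top_iff_ne_top.mpr htop
    have hlt2 := hNC K' hlt
    obtain ⟨n, hnN, hnK⟩ := SetLike.exists_of_lt hlt2
    apply hnK
    rw [hK', Subgroup.mem_subgroupOf, Subgroup.mem_centralizer_iff]
    intro a ha
    -- the commutator ⁅n, a⁆ lies in H
    have haN := hA ha
    have hcH : ⁅(n : G), a⁆ ∈ H := by
      rw [commutatorElement_def]
      have h1 : a * (n : G)⁻¹ * a⁻¹ ∈ H := by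
        rw [Subgroup.mem_normalizer_iff] at haN
        exact (haN _).mp (H.inv_mem n.2)
      have : (n : G) * a * (n : G)⁻¹ * a⁻¹ = (n : G) * (a * (n : G)⁻¹ * a⁻¹) := by group
      rw [this]
      exact H.mul_mem n.2 h1
    -- conjugation by n⁻¹ preserves K = H ⊓ C(A)
    have hconj : ∀ k : G, k ∈ H → k ∈ Subgroup.centralizer (A : Set G) →
        (n : G)⁻¹ * k * n ∈ Subgroup.centralizer (A : Set G) := by
      intro k hkH hkC
      have := (Subgroup.mem_normalizer_iff''.mp hnN ⟨k, hkH⟩).mp
        (by rw [hK', Subgroup.mem_subgroupOf]; exact hkC)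
      rw [hK', Subgroup.mem_subgroupOf] at this
      simpa using this
    -- the commutator centralizes K
    have hcK : ⁅(n : G), a⁆ ∈ Subgroup.centralizer
        (((H ⊓ Subgroup.centralizer (A : Set G)) : Subgroup G) : Set G) := by
      rw [Subgroup.mem_centralizer_iff]
      intro k hk
      have hkH : k ∈ H := hk.1
      have hkC : k ∈ Subgroup.centralizer (A : Set G) := hk.2
      have e1 : a⁻¹ * k = k * a⁻¹ := by
        have := (Subgroup.mem_centralizer_iff.mp hkC) a ha
        calc a⁻¹ * k = a⁻¹ * (k * a) * a⁻¹ := by group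
          _ = a⁻¹ * (a * k) * a⁻¹ := by rw [this]
          _ = k * a⁻¹ := by group
      have e2 : a * ((n : G)⁻¹ * k * n) = ((n : G)⁻¹ * k * n) * a :=
        (Subgroup.mem_centralizer_iff.mp (hconj k hkH hkC) a ha)
      rw [commutatorElement_def]
      calc k * ((n : G) * a * (n : G)⁻¹ * a⁻¹)
          = (n : G) * (((n : G)⁻¹ * k * n) * a) * (n : G)⁻¹ * a⁻¹ := by group
        _ = (n : G) * (a * ((n : G)⁻¹ * k * n)) * (n : G)⁻¹ * a⁻¹ := by rw [e2]
        _ = (n : G) * a * (n : G)⁻¹ * (k * a⁻¹) := by group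
        _ = (n : G) * a * (n : G)⁻¹ * (a⁻¹ * k) := by rw [e1]
        _ = (n : G) * a * (n : G)⁻¹ * a⁻¹ * k := by group
    have hcA : ⁅(n : G), a⁆ ∈ Subgroup.centralizer (A : Set G) := (hC ⟨hcH, hcK⟩).2
    have hcomm : Commute ⁅(n : G), a⁆ a :=
      ((Subgroup.mem_centralizer_iff.mp hcA) a ha).symm
    have hapow : a ^ Nat.card A = 1 := by
      have h1 := pow_card_eq_one' (G := A) (x := ⟨a, ha⟩)
      have h2 := congrArg Subtype.val h1
      rw [Subgroup.coe_pow] at h2
      exact h2
    have hcpow : ⁅(n : G), a⁆ ^ Nat.card H = 1 := by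
      have h1 := pow_card_eq_one' (G := H) (x := ⟨⁅(n : G), a⁆, hcH⟩)
      have h2 := congrArg Subtype.val h1
      rw [Subgroup.coe_pow] at h2
      exact h2
    exact (H10.commute_of_coprime_of_commute_commutator a n (Nat.card A) (Nat.card H) hapow hcpow hcop hcomm).eq.symm

end Cfsg.Agent.S1442
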