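import Cfsg.Statements.S1458
import Mathlib
import Cfsg.Agent.H5.FullGT
import Cfsg.Agent.H5.NPStable
import Cfsg.Agent.H5.PSolvable
import Cfsg.Agent.Lib.Helper10.PStableOdd
import Cfsg.Agent.Lib.Helper10.PComponent
import Cfsg.Agent.Lib.Helper25.PSolv

set_option autoImplicit false
open Cfsg
open scoped commutatorElement

namespace Cfsg.Agent.S1458

/-- Let G be a solvable group of odd order, p a prime and S a Sylow p-subgroup of G. Then the subgroup generated by the centre of the Thompson subgroup of S and O_{p'}(G) is normal in G. -/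
theorem result {G : Type*} [Group G] [Finite G] [Group.IsSolvable G] (hodd : Odd (Nat.card G)) (p : ℕ) [Fact p.Prime] (S : Sylow p G) :
    (Cfsg.centerThompsonOf p (S : Subgroup G) ⊔ Cfsg.pPrimeCore p G).Normal := by
  rw [Cfsg.H5.FZ.centerThompsonOf_eq_Zf]
  have hpp : p.Prime := Fact.out
  by_cases hp2 : p = 2
  · have hS : (S : Subgroup G) = ⊥ := by
      rw [← Subgroup.card_eq_one, S.card_eq_multiplicity]
      have hnd : ¬ p ∣ Nat.card G := by
        rw [hp2]
        exact fun h => (Nat.not_even_iff_odd.2 hodd) (even_iff_two_dvd.2 h)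
      rw [Nat.factorization_eq_zero_of_not_dvd hnd, pow_zero]
    have hZ : Cfsg.H5.FZ.Zf p (S : Subgroup G) = ⊥ := by
      rw [eq_bot_iff, ← hS]
      exact Cfsg.H5.FZ.Zf_le
    rw [hZ, bot_sup_eq]
    exact Cfsg.H5.pPrimeCore_normal p G
  · have hN₀ := Cfsg.H5.coprime_card_pPrimeCore p G
    have hN₀n : (Cfsg.pPrimeCore p G).Normal := Cfsg.H5.pPrimeCore_normal p G
    have hbot : Cfsg.pPrimeCore p (G ⧸ Cfsg.pPrimeCore p G) = ⊥ :=
      Cfsg.Agent.Lib.Helper10.pPrimeCore_quotient_eq_bot p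
    have hsol : Group.IsSolvable (G ⧸ Cfsg.pPrimeCore p G) := inferInstance
    have hps := Cfsg.Agent.Lib.Helper25.isPSolvable_of_isSolvable p hsol
    have hcb := Cfsg.H5.centralizer_pCore_le_of_isPSolvable hps hbot
    have hoddb : Odd (Nat.card (G ⧸ Cfsg.pPrimeCore p G)) :=
      Odd.of_dvd_nat hodd (Subgroup.card_quotient_dvd_card _)
    have hnps : Cfsg.IsNormalizerPStable p (G ⧸ Cfsg.pPrimeCore p G) := by
      intro P hP g hg hq
      apply Cfsg.Agent.Lib.Helper10.quadratic_image_mem_pCore hoddb hp2 P hP ⟨g, hg⟩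
      intro z hz
      have h1 : ⁅⁅z, g⁆, g⁆ ∈ ⁅⁅P, Subgroup.zpowers g⁆, Subgroup.zpowers g⁆ :=
        Subgroup.commutator_mem_commutator
          (Subgroup.commutator_mem_commutator hz (Subgroup.mem_zpowers g))
          (Subgroup.mem_zpowers g)
      rw [hq, Subgroup.mem_bot] at h1
      exact h1
    have hstb : ∀ (V : Subgroup (G ⧸ Cfsg.pPrimeCore p G)) [V.Normal], IsPGroup p V →
        Cfsg.IsPStableOn p V := fun V _ hV => Cfsg.H5.NPS.isPStableOn_of_nps hnps V hV
    have hsurj := QuotientGroup.mk'_surjective (Cfsg.pPrimeCore p G)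
    have hZn := Cfsg.H5.FZ.Zf_normal hp2 (dvd_refl p) hcb hstb (S.mapSurjective hsurj)
    rw [Sylow.coe_mapSurjective] at hZn
    have hinj : (S : Subgroup G) ⊓ (QuotientGroup.mk' (Cfsg.pPrimeCore p G)).ker = ⊥ := by
      rw [QuotientGroup.ker_mk', eq_bot_iff]
      intro x hx
      rw [Subgroup.mem_bot]
      exact Cfsg.H5.eq_one_of_coprime_of_mem_pgroup
        (Cfsg.H5.coprime_orderOf_of_mem hN₀ hx.2) S.isPGroup' hx.1
    rw [← Cfsg.H5.FZ.Zf_map_hom hinj] at hZn
    have h1 := Subgroup.comap_map_eq (QuotientGroup.mk' (Cfsg.pPrimeCore p G))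
      (Cfsg.H5.FZ.Zf p (S : Subgroup G))
    rw [QuotientGroup.ker_mk'] at h1
    rw [← h1]
    exact Subgroup.Normal.comap hZn _

end Cfsg.Agent.S1458
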