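-- Statement S1466
import Cfsg.Statements.S1466
import Cfsg.Agent.Lib.Helper10.PGroup

set_option autoImplicit false
open Cfsg

namespace Cfsg.Agent.S1466

open Cfsg.Agent.Lib.Helper10

theorem le_puigStep_of_normal_abelian {G : Type*} [Group G] (A : Subgroup G) [A.Normal]
    (hA : IsMulCommutative A) (X : Subgroup G) : A ≤ Cfsg.puigStep X := by
  unfold Cfsg.puigStep
  apply le_sSup
  refine ⟨hA, ?_⟩
  rw [Subgroup.normalizer_eq_top]
  exact le_top

/-- Let p be a prime and R a nontrivial finite p-group. Then for every i > 0, Z(R) ≤ C_R(L_i(R)) ≤ L_i(R); likewise Z(R) ≤ C_R(L_*(R)) ≤ L_*(R) and Z(R) ≤ C_R(L(R)) ≤ L(R); and L(R) ≠ 1, L_*(R) ≠ 1. -/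
theorem result {R : Type*} [Group R] [Finite R] (p : ℕ) [Fact p.Prime] (hR : IsPGroup p R) [Nontrivial R] :
    (∀ i : ℕ, 0 < i → Subgroup.center R ≤ Subgroup.centralizer ((Cfsg.puigSeq R i : Subgroup R) : Set R) ∧
        Subgroup.centralizer ((Cfsg.puigSeq R i : Subgroup R) : Set R) ≤ Cfsg.puigSeq R i) ∧
      (Subgroup.center R ≤ Subgroup.centralizer ((Cfsg.puigLower R : Subgroup R) : Set R) ∧ Subgroup.centralizer ((Cfsg.puigLower R : Subgroup R) : Set R) ≤ Cfsg.puigLower R) ∧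
      (Subgroup.center R ≤ Subgroup.centralizer ((Cfsg.puigSubgroup R : Subgroup R) : Set R) ∧ Subgroup.centralizer ((Cfsg.puigSubgroup R : Subgroup R) : Set R) ≤ Cfsg.puigSubgroup R) ∧
      Cfsg.puigSubgroup R ≠ ⊥ ∧ Cfsg.puigLower R ≠ ⊥ := by
  obtain ⟨A, hAn, hAc, hmax⟩ := exists_maximal_normal_abelian R
  have hCA : Subgroup.centralizer (A : Set R) ≤ A :=
    centralizer_le_of_maximal_normal_abelian hR A hAc hmax
  -- A lies in every positive term of the Puig series
  have hAi : ∀ i : ℕ, 0 < i → A ≤ Cfsg.puigSeq R i := by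
    intro i hi
    obtain ⟨j, rfl⟩ := Nat.exists_eq_succ_of_ne_zero hi.ne'
    exact le_puigStep_of_normal_abelian A hAc _
  have hAlower : A ≤ Cfsg.puigLower R := by
    unfold Cfsg.puigLower
    exact le_trans (hAi 2 (by norm_num)) (le_iSup (fun n : ℕ => Cfsg.puigSeq R (2 * n)) 1)
  have hAupper : A ≤ Cfsg.puigSubgroup R := by
    unfold Cfsg.puigSubgroup
    apply le_iInf
    intro n
    exact hAi _ (by omega)
  -- generic consequence
  have gen : ∀ L : Subgroup R, A ≤ L →
      Subgroup.center R ≤ Subgroup.centralizer (L : Set R) ∧ Subgroup.centralizer (L : Set R) ≤ L := by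
    intro L hL
    refine ⟨Subgroup.center_le_centralizer _, ?_⟩
    exact le_trans (le_trans (Subgroup.centralizer_le hL) hCA) hL
  have hZ : Subgroup.center R ≠ ⊥ := (IsPGroup.bot_lt_center hR).ne'
  have gen2 : ∀ L : Subgroup R, A ≤ L → L ≠ ⊥ := by
    intro L hL h
    apply hZ
    have := le_trans (gen L hL).1 (gen L hL).2
    rw [h] at this
    exact le_bot_iff.mp this
  exact ⟨fun i hi => gen _ (hAi i hi), gen _ hAlower, gen _ hAupper, gen2 _ hAupper, gen2 _ hAlower⟩

end Cfsg.Agent.S1466
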