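-- Statement S1470
import Cfsg.Statements.S1470

set_option autoImplicit false
open Cfsg

namespace Cfsg.Agent.S1470

open Polynomial

/-- If the norm of `algebraMap t - s` is a nonzero constant `c` for all `t` in the finite base field
`K`, then `card K ≤ finrank`. -/
theorem card_le_finrank_of_norm_const {K L : Type*} [Field K] [Fintype K] [Field L] [Algebra K L]
    [FiniteDimensional K L] (s : L) (c : K)
    (h : ∀ t : K, Algebra.norm K (algebraMap K L t - s) = c) :
    Fintype.card K ≤ Module.finrank K L := by
  classical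
  let b := Module.finBasis K L
  set M := Algebra.leftMulMatrix b s with hM
  have hev : ∀ t : K, M.charpoly.eval t = c := by
    intro t
    rw [Matrix.eval_charpoly, ← h t, Algebra.norm_eq_matrix_det b, map_sub]
    congr 1
    rw [AlgHom.commutes]
    rfl
  have hpos : 0 < Module.finrank K L := Module.finrank_pos
  have hdeg : M.charpoly.natDegree = Module.finrank K L := by
    rw [Matrix.charpoly_natDegree_eq_dim, Fintype.card_fin]
  set P : K[X] := M.charpoly - C c with hP
  have hPdeg : P.natDegree = Module.finrank K L := by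
    rw [hP, natDegree_sub_C, hdeg]
  have hPne : P ≠ 0 := by
    intro h0
    rw [h0, natDegree_zero] at hPdeg
    omega
  have hroots : (Finset.univ : Finset K).val ⊆ P.roots := by
    intro t _
    rw [mem_roots hPne, IsRoot, hP, eval_sub, eval_C, hev t, sub_self]
  have := card_le_degree_of_subset_roots hroots
  rw [hPdeg] at this
  simpa using this

/-- Let p and q be odd primes with (p^q − 1)/(p − 1) coprime to p − 1, and let E be the set of elements a of the field with p ^ q elements whose norm to the prime field is 1 and for which 2 − a also has norm 1. If a⁻¹ ∈ E for every a ∈ E and E has at least two elements, then p ≤ q. -/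
theorem result (p q : ℕ) [Fact p.Prime] [Fact q.Prime] (hp : p ≠ 2) (hq : q ≠ 2) (hA : Nat.Coprime ((p ^ q - 1) / (p - 1)) (p - 1))
    (hinv : ∀ a ∈ {a : GaloisField p q | Algebra.norm (ZMod p) a = 1 ∧ Algebra.norm (ZMod p) (2 - a) = 1}, a⁻¹ ∈ {a : GaloisField p q | Algebra.norm (ZMod p) a = 1 ∧ Algebra.norm (ZMod p) (2 - a) = 1})
    (h2 : 2 ≤ Set.ncard {a : GaloisField p q | Algebra.norm (ZMod p) a = 1 ∧ Algebra.norm (ZMod p) (2 - a) = 1}) :
    p ≤ q := by
  have hq0 : q ≠ 0 := (Fact.out : q.Prime).ne_zero
  set E : Set (GaloisField p q) := {a : GaloisField p q | Algebra.norm (ZMod p) a = 1 ∧ Algebra.norm (ZMod p) (2 - a) = 1} with hE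
  obtain ⟨a, haE, ha1⟩ := Set.exists_ne_of_one_lt_ncard (show 1 < E.ncard from h2) 1
  set b : GaloisField p q := a - 1 with hb
  have hb0 : b ≠ 0 := sub_ne_zero.mpr ha1
  have hN0 : ∀ x : GaloisField p q, Algebra.norm (ZMod p) x = 1 → x ≠ 0 := by
    intro x hx h0
    rw [h0, Algebra.norm_zero] at hx
    exact zero_ne_one hx
  -- the induction
  have key : ∀ k : ℕ, Algebra.norm (ZMod p) (1 + (k : GaloisField p q) * b) = 1 ∧
      (1 + ((k : GaloisField p q) + 1) * b) / (1 + (k : GaloisField p q) * b) ∈ E := by
    intro k
    induction k with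
    | zero =>
      refine ⟨by simp, ?_⟩
      have : (1 + (((0 : ℕ) : GaloisField p q) + 1) * b) / (1 + ((0 : ℕ) : GaloisField p q) * b) = a := by
        simp [hb]
      rw [this]; exact haE
    | succ k ih =>
      obtain ⟨ih1, ih2⟩ := ih
      have hd0 : 1 + (k : GaloisField p q) * b ≠ 0 := hN0 _ ih1
      have hn1 : Algebra.norm (ZMod p) (1 + ((k : GaloisField p q) + 1) * b) = 1 := by
        have : 1 + ((k : GaloisField p q) + 1) * b =
            ((1 + ((k : GaloisField p q) + 1) * b) / (1 + (k : GaloisField p q) * b)) * (1 + (k : GaloisField p q) * b) := by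
          field_simp
        rw [this, map_mul, ih2.1, ih1, mul_one]
      have hd1 : 1 + ((k : GaloisField p q) + 1) * b ≠ 0 := hN0 _ hn1
      have hinvE := hinv _ ih2
      refine ⟨by push_cast; exact hn1, ?_⟩
      have hform : (1 + (((k + 1 : ℕ) : GaloisField p q) + 1) * b) / (1 + ((k + 1 : ℕ) : GaloisField p q) * b)
          = 2 - ((1 + ((k : GaloisField p q) + 1) * b) / (1 + (k : GaloisField p q) * b))⁻¹ := by
        push_cast
        field_simp
        ring
      rw [hform]
      refine ⟨hinvE.2, ?_⟩
      rw [sub_sub_cancel]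
      exact hinvE.1
  -- all elements of the prime field
  have key2 : ∀ t : ZMod p, Algebra.norm (ZMod p) (1 + algebraMap (ZMod p) (GaloisField p q) t * b) = 1 := by
    intro t
    have h1 := (key t.val).1
    have : ((t.val : ℕ) : GaloisField p q) = algebraMap (ZMod p) (GaloisField p q) t := by
      rw [← map_natCast (algebraMap (ZMod p) (GaloisField p q)), ZMod.natCast_zmod_val]
    rwa [this] at h1
  set s : GaloisField p q := -b⁻¹ with hs
  have key3 : ∀ t : ZMod p, Algebra.norm (ZMod p) (algebraMap (ZMod p) (GaloisField p q) t - s) =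
      (Algebra.norm (ZMod p) b)⁻¹ := by
    intro t
    have hNb : Algebra.norm (ZMod p) b ≠ 0 := by
      rw [Ne, Algebra.norm_eq_zero_iff]; exact hb0
    have : 1 + algebraMap (ZMod p) (GaloisField p q) t * b =
        b * (algebraMap (ZMod p) (GaloisField p q) t - s) := by
      rw [hs]; field_simp; ring
    have h1 := key2 t
    rw [this, map_mul] at h1
    exact eq_inv_of_mul_eq_one_right h1
  have := card_le_finrank_of_norm_const s _ key3
  rwa [ZMod.card, GaloisField.finrank p hq0] at this

end Cfsg.Agent.S1470
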