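import Mathlib
import Cfsg.Statements.S1471

set_option autoImplicit false

open Cfsg

namespace Cfsg.Agent.S1471

open Finset Polynomial

theorem fourier_main {F K : Type*} [Field F] [Fintype F] [DecidableEq F] [Field K] [DecidableEq K]
    (N : F →* K) (hN0 : N 0 ≠ 1) (h2 : (2 : F) ≠ 0)
    (hE : ∀ a : F, N a = 1 → N (2 - a) = 1 → a = 1) :
    (((univ : Finset F).filter (fun x : F => N x = 1)).card : ℝ) ^ 2 ≤
      (Fintype.card F : ℝ) + (Fintype.card F : ℝ) * Real.sqrt (Fintype.card F) := by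
  set U := (univ : Finset F).filter (fun x : F => N x = 1) with hUdef
  have hmemU : ∀ x, x ∈ U ↔ N x = 1 := by intro x; simp [hUdef]
  have hU1 : (1 : F) ∈ U := (hmemU 1).2 (map_one N)
  have hUne : ∀ x ∈ U, x ≠ 0 := by
    intro x hx h0; rw [hmemU, h0] at hx; exact hN0 hx
  have hUmul : ∀ x ∈ U, ∀ y ∈ U, x * y ∈ U := by
    intro x hx y hy; rw [hmemU] at *; rw [map_mul, hx, hy, one_mul]
  have hUinv : ∀ x ∈ U, x⁻¹ ∈ U := by
    intro x hx
    have hx0 := hUne x hx
    rw [hmemU] at *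
    have h : N (x⁻¹) * N x = 1 := by rw [← map_mul, inv_mul_cancel₀ hx0, map_one]
    rwa [hx, mul_one] at h
  have hUpos : 0 < U.card := Finset.card_pos.mpr ⟨1, hU1⟩
  -- a nontrivial additive character
  obtain ⟨ψ, hψ⟩ : ∃ ψ : AddChar F ℂ, ψ ≠ 1 := by
    by_contra hcon
    push Not at hcon
    have h1 : Fintype.card (AddChar F ℂ) ≤ 1 :=
      Fintype.card_le_one_iff.mpr (fun a b => by rw [hcon a, hcon b])
    rw [AddChar.card_eq] at h1
    exact absurd Fintype.one_lt_card (not_lt.mpr h1)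
  have hprim : ψ.IsPrimitive := AddChar.IsPrimitive.of_ne_one hψ
  have horth : ∀ b : F, ∑ t : F, ψ (t * b) = if b = 0 then (Fintype.card F : ℂ) else 0 :=
    fun b => by rw [AddChar.sum_mulShift b hprim]; split_ifs <;> simp
  set S : F → ℂ := fun t => ∑ x ∈ U, ψ (t * x) with hSdef
  have hS0 : S 0 = (U.card : ℂ) := by
    simp [hSdef]
  have hSinv : ∀ w ∈ U, ∀ t : F, S (w * t) = S t := by
    intro w hw t
    have hw0 := hUne w hw
    simp only [hSdef]
    apply Finset.sum_nbij' (fun x => w * x) (fun x => w⁻¹ * x)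
    · intro x hx; exact hUmul w hw x hx
    · intro x hx; exact hUmul _ (hUinv w hw) x hx
    · intro x _; rw [← mul_assoc, inv_mul_cancel₀ hw0, one_mul]
    · intro x _; rw [← mul_assoc, mul_inv_cancel₀ hw0, one_mul]
    · intro x _; congr 1; ring
  have hPars : ∑ t : F, S t * (starRingEnd ℂ) (S t) = (Fintype.card F : ℂ) * (U.card : ℂ) := by
    have h1 : ∀ t : F, S t * (starRingEnd ℂ) (S t) = ∑ x ∈ U, ∑ y ∈ U, ψ (t * (x - y)) := by
      intro t
      simp only [hSdef, map_sum, Finset.sum_mul_sum]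
      refine Finset.sum_congr rfl fun x _ => Finset.sum_congr rfl fun y _ => ?_
      rw [← AddChar.map_neg_eq_conj, ← AddChar.map_add_eq_mul]
      congr 1; ring
    simp_rw [h1]
    rw [Finset.sum_comm]
    have h2' : ∀ x ∈ U, ∑ t : F, ∑ y ∈ U, ψ (t * (x - y)) = (Fintype.card F : ℂ) := by
      intro x hx
      rw [Finset.sum_comm]
      simp_rw [horth, sub_eq_zero]
      rw [Finset.sum_ite_eq U x]
      simp [hx]
    rw [Finset.sum_congr rfl h2', Finset.sum_const, nsmul_eq_mul, mul_comm]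
  have hParsR : ∑ t : F, ‖S t‖ ^ 2 = (Fintype.card F : ℝ) * (U.card : ℝ) := by
    have h : ((∑ t : F, ‖S t‖ ^ 2 : ℝ) : ℂ) = (((Fintype.card F : ℝ) * (U.card : ℝ) : ℝ) : ℂ) := by
      push_cast
      rw [← hPars]
      refine Finset.sum_congr rfl fun t _ => ?_
      rw [Complex.mul_conj, Complex.normSq_eq_norm_sq]; push_cast; rfl
    exact_mod_cast h
  have hUposR : (0 : ℝ) < U.card := by exact_mod_cast hUpos
  have hbound : ∀ t : F, t ≠ 0 → ‖S t‖ ^ 2 ≤ (Fintype.card F : ℝ) := by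
    intro t ht
    have h1 : ∑ w ∈ U, ‖S (w * t)‖ ^ 2 ≤ ∑ t' : F, ‖S t'‖ ^ 2 := by
      rw [← Finset.sum_image (f := fun t' => ‖S t'‖ ^ 2) (g := fun w => w * t)
        (fun a _ b _ h => mul_right_cancel₀ ht h)]
      exact Finset.sum_le_sum_of_subset_of_nonneg (Finset.subset_univ _)
        (fun _ _ _ => by positivity)
    have h2' : ∑ w ∈ U, ‖S (w * t)‖ ^ 2 = (U.card : ℝ) * ‖S t‖ ^ 2 := by
      rw [Finset.sum_congr rfl (fun w hw => by rw [hSinv w hw t]), Finset.sum_const, nsmul_eq_mul]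
    rw [h2', hParsR, mul_comm (Fintype.card F : ℝ)] at h1
    exact le_of_mul_le_mul_left h1 hUposR
  -- counting triples
  set T := ((U ×ˢ U ×ˢ U).filter (fun x : F × F × F => x.1 + x.2.1 - 2 * x.2.2 = 0)) with hTdef
  have hcount : ∑ t : F, S t * S t * S (-2 * t) = (Fintype.card F : ℂ) * (T.card : ℂ) := by
    have h1 : ∀ t : F, S t * S t * S (-2 * t) =
        ∑ x ∈ U ×ˢ U ×ˢ U, ψ (t * (x.1 + x.2.1 - 2 * x.2.2)) := by
      intro t
      rw [Finset.sum_product]
      simp_rw [Finset.sum_product]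
      show (∑ a ∈ U, ψ (t * a)) * (∑ b ∈ U, ψ (t * b)) * (∑ c ∈ U, ψ (-2 * t * c)) = _
      rw [Finset.sum_mul_sum, Finset.sum_mul]
      refine Finset.sum_congr rfl fun a _ => ?_
      rw [Finset.sum_mul]
      refine Finset.sum_congr rfl fun b _ => ?_
      rw [Finset.mul_sum]
      refine Finset.sum_congr rfl fun c _ => ?_
      rw [← AddChar.map_add_eq_mul, ← AddChar.map_add_eq_mul]
      congr 1; ring
    simp_rw [h1]
    rw [Finset.sum_comm]
    simp_rw [horth]
    rw [← Finset.sum_filter, Finset.sum_const, nsmul_eq_mul, mul_comm]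
  have hmemT : ∀ a b c : F, (a, b, c) ∈ T ↔ (a ∈ U ∧ b ∈ U ∧ c ∈ U) ∧ a + b - 2 * c = 0 := by
    intro a b c
    simp [hTdef, Finset.mem_filter, Finset.mem_product]
  have hTcard : T.card = U.card := by
    apply Finset.card_nbij' (s := T) (t := U) (fun x : F × F × F => x.2.2) (fun c : F => (c, c, c))
    · rintro ⟨a, b, c⟩ hx
      exact ((hmemT a b c).1 hx).1.2.2
    · intro c hc
      exact (hmemT c c c).2 ⟨⟨hc, hc, hc⟩, by ring⟩
    · rintro ⟨a, b, c⟩ hx
      obtain ⟨⟨ha, hb, hc⟩, hsum⟩ := (hmemT a b c).1 hx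
      have hc0 := hUne c hc
      have hr : a * c⁻¹ = 1 := by
        apply hE
        · exact (hmemU _).1 (hUmul a ha _ (hUinv c hc))
        · have : 2 - a * c⁻¹ = b * c⁻¹ := by
            field_simp
            linear_combination (-1 : F) * hsum
          rw [this]
          exact (hmemU _).1 (hUmul b hb _ (hUinv c hc))
      have hac : a = c := by
        have := congrArg (· * c) hr
        simpa [mul_assoc, inv_mul_cancel₀ hc0] using this
      have hbc : b = c := by
        subst hac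
        linear_combination hsum
      show (c, c, c) = (a, b, c)
      rw [hac, hbc]
    · intro c _; rfl
  -- split off t = 0
  have hsplit : ∑ t : F, S t * S t * S (-2 * t) =
      (U.card : ℂ) ^ 3 + ∑ t ∈ univ.erase (0 : F), S t * S t * S (-2 * t) := by
    rw [← Finset.add_sum_erase univ _ (Finset.mem_univ (0 : F))]
    congr 1
    have h0 : (-2 : F) * 0 = 0 := mul_zero _
    rw [h0, hS0]; ring
  set B := Real.sqrt (Fintype.card F) with hBdef
  have hR : ‖∑ t ∈ univ.erase (0 : F), S t * S t * S (-2 * t)‖ ≤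
      B * ((Fintype.card F : ℝ) * U.card) := by
    calc ‖∑ t ∈ univ.erase (0 : F), S t * S t * S (-2 * t)‖
        ≤ ∑ t ∈ univ.erase (0 : F), ‖S t * S t * S (-2 * t)‖ := norm_sum_le _ _
      _ ≤ ∑ t ∈ univ.erase (0 : F), ‖S t‖ ^ 2 * B := by
          apply Finset.sum_le_sum
          intro t ht
          have ht0 : t ≠ 0 := Finset.ne_of_mem_erase ht
          have h2t : -2 * t ≠ 0 := mul_ne_zero (neg_ne_zero.mpr h2) ht0
          rw [norm_mul, norm_mul, ← pow_two]
          apply mul_le_mul_of_nonneg_left _ (by positivity)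
          have := Real.abs_le_sqrt (hbound _ h2t)
          rwa [abs_of_nonneg (norm_nonneg _)] at this
      _ ≤ ∑ t : F, ‖S t‖ ^ 2 * B :=
          Finset.sum_le_sum_of_subset_of_nonneg (Finset.subset_univ _)
            (fun _ _ _ => by positivity)
      _ = B * ((Fintype.card F : ℝ) * U.card) := by rw [← Finset.sum_mul, hParsR]; ring
  rw [hcount, hTcard] at hsplit
  have hReq : ∑ t ∈ univ.erase (0 : F), S t * S t * S (-2 * t) =
      (((Fintype.card F : ℝ) * U.card - (U.card : ℝ) ^ 3 : ℝ) : ℂ) := by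
    push_cast
    linear_combination (-1 : ℂ) * hsplit
  rw [hReq, Complex.norm_real, Real.norm_eq_abs] at hR
  have h3 : (U.card : ℝ) ^ 3 - (Fintype.card F : ℝ) * U.card ≤ B * ((Fintype.card F : ℝ) * U.card) := by
    have := neg_abs_le ((Fintype.card F : ℝ) * U.card - (U.card : ℝ) ^ 3)
    linarith
  have h4 : (U.card : ℝ) * ((U.card : ℝ) ^ 2) ≤
      (U.card : ℝ) * ((Fintype.card F : ℝ) + (Fintype.card F : ℝ) * B) := by
    nlinarith
  exact le_of_mul_le_mul_left h4 hUposR

theorem mem_range_of_pow_eq (p : ℕ) [Fact p.Prime] {F : Type*} [Field F] [Algebra (ZMod p) F]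
    (z : F) (hz : z ^ p = z) : ∃ t : ZMod p, algebraMap (ZMod p) F t = z := by
  classical
  have hp1 : 1 < p := (Fact.out : p.Prime).one_lt
  set f : F[X] := X ^ p - X with hf
  have hf0 : f ≠ 0 := FiniteField.X_pow_card_sub_X_ne_zero F hp1
  have hfdeg : f.natDegree = p := FiniteField.X_pow_card_sub_X_natDegree_eq F hp1
  set R : Finset F := (univ : Finset (ZMod p)).image (algebraMap (ZMod p) F) with hR
  have hRcard : R.card = p := by
    rw [hR, Finset.card_image_of_injective _ (algebraMap (ZMod p) F).injective, Finset.card_univ,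
      ZMod.card]
  have hsub : R ⊆ f.roots.toFinset := by
    intro x hx
    rw [hR, Finset.mem_image] at hx
    obtain ⟨t, -, rfl⟩ := hx
    rw [Multiset.mem_toFinset, mem_roots hf0, IsRoot.def, hf, eval_sub, eval_pow, eval_X,
      ← map_pow, ZMod.pow_card, sub_self]
  have hle : f.roots.toFinset.card ≤ R.card := by
    rw [hRcard]
    calc f.roots.toFinset.card ≤ Multiset.card f.roots := Multiset.toFinset_card_le _
      _ ≤ f.natDegree := card_roots' f
      _ = p := hfdeg
  have heq := Finset.eq_of_subset_of_card_le hsub hle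
  have hzmem : z ∈ f.roots.toFinset := by
    rw [Multiset.mem_toFinset, mem_roots hf0, IsRoot.def, hf, eval_sub, eval_pow, eval_X, hz,
      sub_self]
  rw [← heq, hR, Finset.mem_image] at hzmem
  obtain ⟨t, -, ht⟩ := hzmem
  exact ⟨t, ht⟩


theorem card_ker_bound {F K : Type*} [Field F] [Fintype F] [DecidableEq F] [Field K] [Finite K]
    [DecidableEq K] (N : F →* K) :
    Nat.card F - 1 ≤ ((univ : Finset F).filter (fun x : F => N x = 1)).card * (Nat.card K - 1) := by
  set U := (univ : Finset F).filter (fun x : F => N x = 1) with hUdef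
  let f : Fˣ →* Kˣ := Units.map N
  have h1 : Nat.card f.ker * f.ker.index = Nat.card Fˣ := Subgroup.card_mul_index f.ker
  have h2 : f.ker.index ≤ Nat.card K - 1 := by
    rw [Subgroup.index_ker, ← Nat.card_units K]
    exact Subgroup.card_le_card_group _
  have h3 : Nat.card f.ker ≤ U.card := by
    have hmem : ∀ x : f.ker, ((x : Fˣ) : F) ∈ U := by
      intro x
      rw [hUdef, Finset.mem_filter]
      refine ⟨Finset.mem_univ _, ?_⟩
      have h := congrArg Units.val (MonoidHom.mem_ker.mp x.2)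
      simpa [f] using h
    have hinj : Function.Injective (fun x : f.ker => (⟨((x : Fˣ) : F), hmem x⟩ : {y // y ∈ U})) := by
      intro x y hxy
      have h := congrArg Subtype.val hxy
      exact Subtype.ext (Units.ext h)
    have := Nat.card_le_card_of_injective _ hinj
    rwa [Nat.card_eq_finsetCard] at this
  rw [← Nat.card_units F, ← h1]
  exact Nat.mul_le_mul h3 h2

theorem nat_aux (u p n : ℕ) (hp : 1 ≤ p) (hu : 1 ≤ u) (hn : 1 ≤ n) (h : n - 1 ≤ u * (p - 1)) :
    n ≤ u * p := by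
  obtain ⟨k, rfl⟩ : ∃ k, p = k + 1 := ⟨p - 1, by omega⟩
  rw [Nat.add_sub_cancel] at h
  have h' : u * (k + 1) = u * k + u := by ring
  rw [h']
  generalize u * k = m at *
  omega

theorem numeric_contra (u P n B : ℝ) (hP : 3 ≤ P) (hu : 1 ≤ u) (hB0 : 0 ≤ B) (hBn : B ^ 2 = n)
    (hn5 : P ^ 5 ≤ n) (h1 : u ^ 2 ≤ n + n * B) (h2 : n ≤ u * P) : False := by
  have hn0 : 0 < n := by
    have : (0:ℝ) < P ^ 5 := by positivity
    linarith
  have h3 : n ^ 2 ≤ (u * P) ^ 2 := pow_le_pow_left₀ hn0.le h2 2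
  have h4 : n ^ 2 ≤ P ^ 2 * (n + n * B) := by
    calc n ^ 2 ≤ (u * P) ^ 2 := h3
      _ = P ^ 2 * u ^ 2 := by ring
      _ ≤ P ^ 2 * (n + n * B) := mul_le_mul_of_nonneg_left h1 (by positivity)
  have h5 : n ≤ P ^ 2 * (1 + B) := by
    have : n * n ≤ n * (P ^ 2 * (1 + B)) := by nlinarith
    exact le_of_mul_le_mul_left this hn0
  have h6 : B ≤ P ^ 2 + 1 := by
    by_contra hcon
    push Not at hcon
    have hBpos : 0 < B := by nlinarith [sq_nonneg P]
    have : (P ^ 2 + 1) * B < B * B := mul_lt_mul_of_pos_right hcon hBpos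
    nlinarith [sq_nonneg P]
  have h7 : n ≤ (P ^ 2 + 1) ^ 2 := by
    rw [← hBn]
    exact pow_le_pow_left₀ hB0 h6 2
  have h8 : (P ^ 2 + 1) ^ 2 < P ^ 5 := by
    have hP2 : 9 ≤ P ^ 2 := by nlinarith
    have hP4 : 9 * P ^ 2 ≤ P ^ 4 := by
      nlinarith [mul_nonneg (sub_nonneg.mpr hP2) (sq_nonneg P)]
    have hP5 : 3 * P ^ 4 ≤ P ^ 5 := by
      have : P ^ 5 = P * P ^ 4 := by ring
      rw [this]
      exact mul_le_mul_of_nonneg_right hP (by positivity)
    nlinarith
  linarith

theorem general_contra {F K : Type*} [Field F] [Fintype F] [DecidableEq F] [Field K] [Finite K]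
    [DecidableEq K] (N : F →* K) (hN0 : N 0 ≠ 1) (h2 : (2 : F) ≠ 0)
    (hE : ∀ a : F, N a = 1 → N (2 - a) = 1 → a = 1)
    (hK3 : 3 ≤ Nat.card K) (hFK : (Nat.card K) ^ 5 ≤ Nat.card F) : False := by
  have hF := fourier_main N hN0 h2 hE
  have hK := card_ker_bound N
  have hU1 : 1 ≤ ((univ : Finset F).filter (fun x : F => N x = 1)).card :=
    Finset.card_pos.mpr ⟨1, by simp⟩
  generalize ((univ : Finset F).filter (fun x : F => N x = 1)).card = u at hF hK hU1
  rw [← Nat.card_eq_fintype_card] at hF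
  generalize Nat.card F = n at *
  generalize Nat.card K = P at *
  have hn1 : 1 ≤ n := le_trans (Nat.one_le_pow _ _ (by omega)) hFK
  have hnat : n ≤ u * P := nat_aux u P n (by omega) hU1 hn1 hK
  exact numeric_contra (u : ℝ) (P : ℝ) (n : ℝ) (Real.sqrt n) (by exact_mod_cast hK3)
    (by exact_mod_cast hU1) (Real.sqrt_nonneg _) (Real.sq_sqrt (Nat.cast_nonneg _))
    (by exact_mod_cast hFK) hF (by exact_mod_cast hnat)

theorem geom3 (p : ℕ) (h : 2 ≤ p) : (p ^ 3 - 1) / (p - 1) = p ^ 2 + p + 1 := by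
  obtain ⟨k, rfl⟩ : ∃ k, p = k + 1 := ⟨p - 1, by omega⟩
  have hk : 0 < k := by omega
  have h3 : (k + 1) ^ 3 - 1 = ((k + 1) ^ 2 + (k + 1) + 1) * k := by
    have : (k + 1) ^ 3 = ((k + 1) ^ 2 + (k + 1) + 1) * k + 1 := by ring
    rw [this, Nat.add_sub_cancel]
  rw [Nat.add_sub_cancel, h3, Nat.mul_div_cancel _ hk]

theorem cubic_case (p : ℕ) [Fact p.Prime] {F : Type*} [Field F] [Algebra (ZMod p) F] [Finite F]
    (hcard : Nat.card F = p ^ 3) :
    ∃ a : F, a ≠ 1 ∧ a ^ (p ^ 2 + p + 1) = 1 ∧ (2 - a) ^ (p ^ 2 + p + 1) = 1 := by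
  classical
  have hpp : p.Prime := Fact.out
  haveI : CharP F p := charP_of_injective_algebraMap (algebraMap (ZMod p) F).injective p
  obtain ⟨ι, hι⟩ : ∃ ι : ZMod p →+* F, ι = algebraMap (ZMod p) F := ⟨_, rfl⟩
  -- choice of κ
  obtain ⟨κ, hκ⟩ : ∃ κ : ZMod p, ∀ t : ZMod p, t ^ 3 - t ≠ κ := by
    by_contra hcon
    push Not at hcon
    have hsurj : Function.Surjective (fun t : ZMod p => t ^ 3 - t) := fun κ => hcon κ
    have hinj := Finite.injective_iff_surjective.mpr hsurj
    have h01 : (0 : ZMod p) = 1 := hinj (by simp)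
    exact zero_ne_one h01
  -- the cubic
  obtain ⟨P, hP⟩ : ∃ P : (ZMod p)[X], P = X ^ 3 - (X + C κ) := ⟨_, rfl⟩
  have hmonic : P.Monic := by
    rw [hP]
    apply monic_X_pow_sub
    rw [degree_X_add_C]
    exact_mod_cast (by norm_num : (1 : ℕ) < 3)
  have hdeg : P.natDegree = 3 := by
    rw [hP]; compute_degree!
  have hP0 : P ≠ 0 := hmonic.ne_zero
  have hroots : P.roots = 0 := by
    rw [Multiset.eq_zero_iff_forall_notMem]
    intro t ht
    rw [mem_roots hP0, IsRoot.def, hP, eval_sub, eval_pow, eval_X, eval_add, eval_X, eval_C] at ht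
    apply hκ t
    linear_combination ht
  have hirr : Irreducible P :=
    (hmonic.irreducible_iff_roots_eq_zero_of_degree_le_three (by omega) (by omega)).mpr hroots
  have hdvd : P ∣ X ^ (Nat.card (ZMod p)) ^ 3 - X :=
    (hirr.natDegree_dvd_iff_dvd_X_pow_card_pow_sub_X (n := 3)).mp (by rw [hdeg])
  rw [Nat.card_zmod] at hdvd
  have hs : Splits (map (algebraMap (ZMod p) F) (X ^ p ^ 3 - X)) := by
    have := FiniteField.splits_X_pow_nat_card_sub_X p (K := F)
    rwa [hcard] at this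
  rw [← hι] at hs
  have hne : map ι (X ^ p ^ 3 - X : (ZMod p)[X]) ≠ 0 :=
    Polynomial.map_ne_zero
      (FiniteField.X_pow_card_pow_sub_X_ne_zero _ (by norm_num) hpp.one_lt)
  have hsP : Splits (map ι P) := hs.of_dvd hne (Polynomial.map_dvd ι hdvd)
  obtain ⟨z, hz⟩ := hsP.exists_eval_eq_zero (by
    rw [degree_map, degree_eq_natDegree hP0, hdeg]; norm_num)
  have hz3 : z ^ 3 = z + ι κ := by
    rw [eval_map, hP, eval₂_sub, eval₂_pow, eval₂_X, eval₂_add, eval₂_X, eval₂_C] at hz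
    exact sub_eq_zero.mp hz
  have hfrobι : ∀ t : ZMod p, (ι t) ^ p = ι t := fun t => by rw [← map_pow, ZMod.pow_card]
  have hfrob : ∀ w : F, w ^ 3 = w + ι κ → (w ^ p) ^ 3 = w ^ p + ι κ := by
    intro w hw
    rw [← pow_mul, mul_comm, pow_mul, hw, add_pow_char _ _ p, hfrobι]
  have hznot : ∀ t : ZMod p, ι t ≠ z := by
    intro t ht
    apply hκ t
    apply ι.injective
    rw [map_sub, map_pow, ht]
    linear_combination hz3
  have hz0 : z ≠ 0 := fun h => hznot 0 (by rw [map_zero, h])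
  obtain ⟨z1, hz1⟩ : ∃ z1 : F, z1 = z ^ p := ⟨_, rfl⟩
  obtain ⟨z2, hz2⟩ : ∃ z2 : F, z2 = z1 ^ p := ⟨_, rfl⟩
  have hz1c : z1 ^ 3 = z1 + ι κ := by rw [hz1]; exact hfrob z hz3
  have hz2c : z2 ^ 3 = z2 + ι κ := by rw [hz2]; exact hfrob z1 hz1c
  have hz2p : z2 ^ p = z := by
    haveI := Fintype.ofFinite F
    have h := FiniteField.pow_card z
    rw [Fintype.card_eq_nat_card, hcard] at h
    calc z2 ^ p = z ^ (p ^ 3) := by
          rw [hz2, hz1, ← pow_mul, ← pow_mul]; congr 1; ring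
      _ = z := h
  have h01 : z ≠ z1 := by
    intro h
    obtain ⟨t, ht⟩ := mem_range_of_pow_eq p z (by rw [← hz1]; exact h.symm)
    exact hznot t (by rw [hι]; exact ht)
  have h12 : z1 ≠ z2 := by
    intro h
    have h' : (z - z1) ^ p = 0 := by rw [sub_pow_char (p := p), ← hz1, ← hz2, h, sub_self]
    exact h01 (sub_eq_zero.mp ((pow_eq_zero_iff hpp.ne_zero).mp h'))
  have h02 : z ≠ z2 := by
    intro h
    apply h01
    rw [hz1]
    calc z = z2 ^ p := hz2p.symm
      _ = z ^ p := by rw [← h]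
  have A01 : z ^ 2 + z * z1 + z1 ^ 2 = 1 := by
    have h : (z - z1) * (z ^ 2 + z * z1 + z1 ^ 2 - 1) = 0 := by
      linear_combination hz3 - hz1c
    rcases mul_eq_zero.mp h with h | h
    · exact absurd (sub_eq_zero.mp h) h01
    · exact sub_eq_zero.mp h
  have A02 : z ^ 2 + z * z2 + z2 ^ 2 = 1 := by
    have h : (z - z2) * (z ^ 2 + z * z2 + z2 ^ 2 - 1) = 0 := by
      linear_combination hz3 - hz2c
    rcases mul_eq_zero.mp h with h | h
    · exact absurd (sub_eq_zero.mp h) h02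
    · exact sub_eq_zero.mp h
  have he1 : z + z1 + z2 = 0 := by
    have h : (z1 - z2) * (z + z1 + z2) = 0 := by
      linear_combination A01 - A02
    rcases mul_eq_zero.mp h with h | h
    · exact absurd (sub_eq_zero.mp h) h12
    · exact h
  have hplus : (z + 1) * (z1 + 1) * (z2 + 1) = z * z1 * z2 := by
    linear_combination (-1 : F) * A01 + (z + z1 + 1) * he1
  have hminus : (z - 1) * (z1 - 1) * (z2 - 1) = z * z1 * z2 := by
    linear_combination A01 + (1 - z - z1) * he1
  have hpowsplit : ∀ w : F, w ^ (p ^ 2 + p + 1) = (w ^ p) ^ p * w ^ p * w := by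
    intro w
    rw [pow_succ, pow_add, sq, pow_mul]
  have hNz : z ^ (p ^ 2 + p + 1) = z * z1 * z2 := by
    rw [hpowsplit, ← hz1, ← hz2]; ring
  have hNp : (z + 1) ^ (p ^ 2 + p + 1) = z * z1 * z2 := by
    rw [hpowsplit, add_pow_char _ _ p, one_pow, ← hz1, add_pow_char _ _ p, one_pow, ← hz2, ← hplus]
    ring
  have hNm : (z - 1) ^ (p ^ 2 + p + 1) = z * z1 * z2 := by
    rw [hpowsplit, sub_pow_char (p := p), one_pow, ← hz1, sub_pow_char (p := p), one_pow, ← hz2,
      ← hminus]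
    ring
  have hz1ne : z1 ≠ 0 := by rw [hz1]; exact pow_ne_zero _ hz0
  have hz2ne : z2 ≠ 0 := by rw [hz2]; exact pow_ne_zero _ hz1ne
  have hprod : z * z1 * z2 ≠ 0 := mul_ne_zero (mul_ne_zero hz0 hz1ne) hz2ne
  refine ⟨(z + 1) / z, ?_, ?_, ?_⟩
  · intro h
    rw [div_eq_one_iff_eq hz0] at h
    have : (1 : F) = 0 := by linear_combination h
    exact one_ne_zero this
  · rw [div_pow, hNp, hNz, div_self hprod]
  · have : 2 - (z + 1) / z = (z - 1) / z := by
      field_simp
      ring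
    rw [this, div_pow, hNm, hNz, div_self hprod]

theorem result (p q : ℕ) [Fact p.Prime] [Fact q.Prime] (hp : p ≠ 2) (hq : q ≠ 2) (hA : Nat.Coprime ((p ^ q - 1) / (p - 1)) (p - 1)) :
    2 ≤ Set.ncard {a : GaloisField p q | Algebra.norm (ZMod p) a = 1 ∧ Algebra.norm (ZMod p) (2 - a) = 1} := by
  classical
  have hpp : p.Prime := Fact.out
  have hqp : q.Prime := Fact.out
  have hq0 : q ≠ 0 := hqp.ne_zero
  have hcard : Nat.card (GaloisField p q) = p ^ q := GaloisField.card p q hq0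
  have h1E : (1 : GaloisField p q) ∈ {a : GaloisField p q | Algebra.norm (ZMod p) a = 1 ∧
      Algebra.norm (ZMod p) (2 - a) = 1} := by
    refine ⟨map_one _, ?_⟩
    have : (2 : GaloisField p q) - 1 = 1 := by norm_num
    rw [this, map_one]
  suffices h : ∃ a : GaloisField p q, (Algebra.norm (ZMod p) a = 1 ∧
      Algebra.norm (ZMod p) (2 - a) = 1) ∧ a ≠ 1 by
    obtain ⟨a, haE, ha1⟩ := h
    have : 1 < Set.ncard {a : GaloisField p q | Algebra.norm (ZMod p) a = 1 ∧
        Algebra.norm (ZMod p) (2 - a) = 1} :=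
      (Set.one_lt_ncard_iff (Set.toFinite _)).mpr ⟨a, 1, haE, h1E, ha1⟩
    exact this
  have hnorm : ∀ x : GaloisField p q,
      Algebra.norm (ZMod p) x = 1 ↔ x ^ ((p ^ q - 1) / (p - 1)) = 1 := by
    intro x
    have h := FiniteField.algebraMap_norm_eq_pow (K := ZMod p) (K' := GaloisField p q) (x := x)
    rw [hcard, Nat.card_zmod] at h
    rw [← h]
    constructor
    · intro hx; rw [hx, map_one]
    · intro hx
      apply (algebraMap (ZMod p) (GaloisField p q)).injective
      rw [hx, map_one]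
  rcases eq_or_ne q 3 with hq3 | hq3
  · -- cubic case
    have hcard3 : Nat.card (GaloisField p q) = p ^ 3 := by rw [hcard, hq3]
    have hdiv : (p ^ q - 1) / (p - 1) = p ^ 2 + p + 1 := by
      rw [hq3]; exact geom3 p hpp.two_le
    obtain ⟨a, ha1, haN, haN2⟩ : ∃ a : GaloisField p q, a ≠ 1 ∧ a ^ (p ^ 2 + p + 1) = 1 ∧
        (2 - a) ^ (p ^ 2 + p + 1) = 1 := cubic_case p hcard3
    refine ⟨a, ⟨(hnorm a).2 ?_, (hnorm (2 - a)).2 ?_⟩, ha1⟩
    · rw [hdiv]; exact haN
    · rw [hdiv]; exact haN2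
  · -- q ≥ 5: Fourier bound
    have h5q : 5 ≤ q := hqp.five_le_of_ne_two_of_ne_three hq hq3
    by_contra hcon
    push Not at hcon
    haveI : Fintype (GaloisField p q) := Fintype.ofFinite _
    have h2 : (2 : GaloisField p q) ≠ 0 := by
      intro h
      have h' : ((2 : ℕ) : GaloisField p q) = 0 := by exact_mod_cast h
      rw [CharP.cast_eq_zero_iff (GaloisField p q) p] at h'
      have := Nat.le_of_dvd (by norm_num) h'
      have := hpp.two_le
      omega
    apply general_contra (Algebra.norm (ZMod p) : GaloisField p q →* ZMod p)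
    · rw [Algebra.norm_zero]; exact zero_ne_one
    · exact h2
    · intro a ha1 ha2
      exact hcon a ⟨ha1, ha2⟩
    · rw [Nat.card_zmod]
      have := hpp.two_le
      omega
    · rw [Nat.card_zmod, hcard]
      exact Nat.pow_le_pow_right hpp.pos h5q

end Cfsg.Agent.S1471
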