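import Cfsg.Statements.S1475
import Cfsg.Agent.Lib.Helper10.FrobFpf
import Cfsg.Agent.Lib.Helper1.SZ

set_option autoImplicit false
open Cfsg

namespace Cfsg.Agent.S1475

open Cfsg.Agent.Lib.Helper10 Cfsg.Agent.Lib.Helper1
open scoped IsMulCommutative

universe u

/-- the EPPO property -/
def EPPO (G : Type*) [Group G] : Prop := ∀ g : G, IsPrimePow (orderOf g) ∨ g = 1

/-- in an EPPO group commuting elements of coprime orders: one is trivial -/
theorem EPPO.eq_one_or {G : Type*} [Group G] [Finite G] (h : EPPO G) {a b : G}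
    (hab : a * b = b * a) (hcop : (orderOf a).Coprime (orderOf b)) : a = 1 ∨ b = 1 := by
  have ho : orderOf (a * b) = orderOf a * orderOf b :=
    (show Commute a b from hab).orderOf_mul_eq_mul_orderOf_of_coprime hcop
  rcases h (a * b) with hpp | h1
  · rw [ho] at hpp
    rcases (hcop.isPrimePow_dvd_mul hpp).mp dvd_rfl with h2 | h2
    · right
      have h3 : orderOf a * orderOf b ∣ orderOf a * 1 := by rwa [mul_one]
      have h4 := Nat.dvd_of_mul_dvd_mul_left (orderOf_pos a) h3
      exact orderOf_eq_one_iff.mp (Nat.dvd_one.mp h4)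
    · left
      have h3 : orderOf a * orderOf b ∣ 1 * orderOf b := by rwa [one_mul]
      have h4 := Nat.dvd_of_mul_dvd_mul_right (orderOf_pos b) h3
      exact orderOf_eq_one_iff.mp (Nat.dvd_one.mp h4)
  · left
    rw [h1, orderOf_one] at ho
    have h2 : orderOf a = 1 := Nat.eq_one_of_mul_eq_one_right ho.symm
    exact orderOf_eq_one_iff.mp h2

/-- an element of an EPPO group whose order is divisible by the prime `t` has order a power of `t` -/
theorem EPPO.orderOf_eq_pow {G : Type*} [Group G] [Finite G] (h : EPPO G) {g : G} {t : ℕ}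
    (ht : t.Prime) (hdvd : t ∣ orderOf g) : ∃ k, orderOf g = t ^ k := by
  rcases h g with hpp | h1
  · obtain ⟨ℓ, k, hℓ, hk, hℓk⟩ := (isPrimePow_nat_iff _).mp hpp
    rw [← hℓk] at hdvd
    have h2 : t ∣ ℓ := ht.dvd_of_dvd_pow hdvd
    have h3 : t = ℓ := (Nat.prime_dvd_prime_iff_eq ht hℓ).mp h2
    exact ⟨k, by rw [h3, hℓk]⟩
  · rw [h1, orderOf_one] at hdvd
    exact absurd (Nat.dvd_one.mp hdvd) ht.one_lt.ne'

/-- quotients of EPPO groups are EPPO -/
theorem EPPO.quotient {G : Type*} [Group G] [Finite G] (h : EPPO G) (P : Subgroup G) [P.Normal] :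
    EPPO (G ⧸ P) := by
  intro gb
  obtain ⟨g, rfl⟩ := QuotientGroup.mk'_surjective P gb
  rcases h g with hpp | h1
  · have hdvd : orderOf (QuotientGroup.mk' P g) ∣ orderOf g := orderOf_map_dvd _ g
    obtain ⟨ℓ, k, hℓ, hk, hℓk⟩ := (isPrimePow_nat_iff _).mp hpp
    rw [← hℓk] at hdvd
    obtain ⟨j, -, hj⟩ := (Nat.dvd_prime_pow hℓ).mp hdvd
    rcases Nat.eq_zero_or_pos j with h0 | h0
    · right
      rw [h0, pow_zero] at hj
      exact orderOf_eq_one_iff.mp hj
    · left
      rw [hj]
      exact (isPrimePow_nat_iff _).mpr ⟨ℓ, j, hℓ, h0, rfl⟩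
  · right
    rw [h1, map_one]

theorem le_ker_conjNormal {G : Type*} [Group G] (P : Subgroup G) [P.Normal]
    [hPc : IsMulCommutative P] : P ≤ (MulAut.conjNormal (H := P)).ker := by
  intro a ha
  rw [MonoidHom.mem_ker]
  ext v
  rw [MulAut.conjNormal_apply, MulAut.one_apply]
  have h1 : (⟨a, ha⟩ : ↥P) * v = v * ⟨a, ha⟩ := mul_comm' _ _
  have h2 : a * (v : G) = (v : G) * a := congrArg Subtype.val h1
  rw [h2, mul_inv_cancel_right]

/-- the action of `G / P` on the abelian normal subgroup `P` -/
noncomputable def quotAction {G : Type*} [Group G] (P : Subgroup G) [P.Normal]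
    [hPc : IsMulCommutative P] : G ⧸ P →* MulAut ↥P :=
  QuotientGroup.lift P (MulAut.conjNormal (H := P)) (le_ker_conjNormal P)

theorem quotAction_mk {G : Type*} [Group G] (P : Subgroup G) [P.Normal]
    [hPc : IsMulCommutative P] (g : G) (v : ↥P) :
    ((quotAction P (QuotientGroup.mk' P g) v : ↥P) : G) = g * v * g⁻¹ := by
  have h1 : quotAction P (QuotientGroup.mk' P g) = MulAut.conjNormal g := by
    unfold quotAction
    exact QuotientGroup.lift_mk' P (le_ker_conjNormal P) g
  rw [h1, MulAut.conjNormal_apply]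

/-- key step -/
theorem key {G : Type*} [Group G] [Finite G] (h : EPPO G) (P : Subgroup G) [P.Normal]
    [hPc : IsMulCommutative P] {p : ℕ} (hp : p.Prime) (hPexp : ∀ x ∈ P, x ^ p = 1)
    (Mb : Subgroup (G ⧸ P)) [Mb.Normal] (hMb1 : Mb ≠ ⊥) {s : ℕ} (hs : s.Prime)
    (hMbexp : ∀ x ∈ Mb, x ^ s = 1)
    (xb : G ⧸ P) {t : ℕ} (ht : t.Prime) (hxb : orderOf xb = t) (hst : s ≠ t) (hsp : s ≠ p)
    (htp : t ≠ p) : P = ⊥ := by
  have hQ : EPPO (G ⧸ P) := h.quotient P
  -- fixed-point-freeness
  have hfpf : ∀ (ℓ : ℕ), ℓ.Prime → ℓ ≠ p → ∀ gb : G ⧸ P, orderOf gb = ℓ → ∀ v : ↥P,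
      quotAction P gb v = v → v = 1 := by
    intro ℓ hℓ hℓp gb hgb v hv
    obtain ⟨g, rfl⟩ := QuotientGroup.mk'_surjective P gb
    have hdvd : ℓ ∣ orderOf g := by
      rw [← hgb]
      exact orderOf_map_dvd _ g
    obtain ⟨k, hk⟩ := h.orderOf_eq_pow hℓ hdvd
    have hg1 : g ≠ 1 := by
      rintro rfl
      rw [orderOf_one] at hdvd
      exact hℓ.one_lt.ne' (Nat.dvd_one.mp hdvd)
    have h1 : g * (v : G) * g⁻¹ = v := by
      rw [← quotAction_mk, hv]
    have h2 : g * (v : G) = (v : G) * g := by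
      calc g * (v : G) = (g * (v : G) * g⁻¹) * g := by group
        _ = (v : G) * g := by rw [h1]
    have hov : orderOf (v : G) ∣ p := orderOf_dvd_of_pow_eq_one (hPexp _ v.2)
    have hcop : (orderOf g).Coprime (orderOf (v : G)) := by
      rw [hk]
      exact Nat.Coprime.pow_left k
        (Nat.Coprime.coprime_dvd_right hov ((Nat.coprime_primes hℓ hp).mpr hℓp))
    rcases h.eq_one_or h2 hcop with h3 | h3
    · exact absurd h3 hg1
    · exact Subtype.ext h3
  have hxbcard : Nat.card ↥(Subgroup.zpowers xb) = t := by rw [Nat.card_zpowers, hxb]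
  have hpow : ∀ v : ↥P, v ^ Nat.card ↥Mb = 1 := by
    apply pow_card_eq_one_of_frobenius_fpf (quotAction P) Mb (Subgroup.zpowers xb)
    · rw [Subgroup.normalizer_eq_top]
      exact le_top
    · intro g hg hg1 m hm hmg
      have hog : orderOf g ∣ t := by
        rw [← hxbcard]
        have := Subgroup.orderOf_dvd_natCard (Subgroup.zpowers xb) hg
        exact this
      have hom : orderOf m ∣ s := orderOf_dvd_of_pow_eq_one (hMbexp m hm)
      have hcop : (orderOf m).Coprime (orderOf g) :=
        Nat.Coprime.coprime_dvd_left hom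
          (Nat.Coprime.coprime_dvd_right hog ((Nat.coprime_primes hs ht).mpr hst))
      rcases hQ.eq_one_or hmg hcop with h3 | h3
      · exact h3
      · exact absurd h3 hg1
    · intro v hv
      obtain ⟨⟨m, hm⟩, hm1⟩ := (Subgroup.ne_bot_iff_exists_ne_one).mp hMb1
      have hm1' : m ≠ 1 := fun h0 => hm1 (Subtype.ext h0)
      have hom : orderOf m = s := by
        rcases (Nat.dvd_prime hs).mp (orderOf_dvd_of_pow_eq_one (hMbexp m hm)) with h0 | h0
        · exact absurd (orderOf_eq_one_iff.mp h0) hm1'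
        · exact h0
      exact hfpf s hs hsp m hom v (hv m hm)
    · intro v hv
      exact hfpf t ht htp xb hxb v (hv xb (Subgroup.mem_zpowers xb))
  have hMbp : IsPGroup s ↥Mb := by
    rintro ⟨x, hx⟩
    refine ⟨1, ?_⟩
    apply Subtype.ext
    rw [pow_one]
    exact hMbexp x hx
  have : Fact s.Prime := ⟨hs⟩
  obtain ⟨k, hk⟩ := IsPGroup.iff_card.mp hMbp
  rw [Subgroup.eq_bot_iff_forall]
  intro v hv
  have h1 : (⟨v, hv⟩ : ↥P) ^ Nat.card ↥Mb = 1 := hpow ⟨v, hv⟩
  have h2 : v ^ Nat.card ↥Mb = 1 := by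
    have := congrArg Subtype.val h1
    simpa using this
  have h3 : orderOf v ∣ Nat.gcd (Nat.card ↥Mb) p :=
    Nat.dvd_gcd (orderOf_dvd_of_pow_eq_one h2) (orderOf_dvd_of_pow_eq_one (hPexp v hv))
  have h4 : Nat.gcd (Nat.card ↥Mb) p = 1 := by
    rw [hk]
    exact Nat.Coprime.pow_left k ((Nat.coprime_primes hs hp).mpr hsp)
  rw [h4] at h3
  exact orderOf_eq_one_iff.mp (Nat.dvd_one.mp h3)

theorem aux (n : ℕ) : ∀ (G : Type u) [Group G] [Finite G] [Group.IsSolvable G], EPPO G →
    Nat.card G = n → (Nat.card G).primeFactors.card ≤ 2 := by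
  induction n using Nat.strong_induction_on with
  | _ n ih =>
    intro G _ _ _ h hn
    by_cases htriv : (⊤ : Subgroup G) = ⊥
    · have h1 : Nat.card G = 1 := by
        rw [← Subgroup.card_top (G := G), htriv, Subgroup.card_bot]
      rw [h1]
      simp
    · obtain ⟨p, hp, P, hPn, -, hP1, hPc, hPexp⟩ :=
        exists_normal_elementary_abelian_le (Nat.card (⊤ : Subgroup G)) ⊤ rfl htriv inferInstance
      have := hPn
      have := hPc
      have hQ := h.quotient P
      have hcard : Nat.card G = Nat.card ↥P * Nat.card (G ⧸ P) := by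
        rw [mul_comm]
        exact Subgroup.card_eq_card_quotient_mul_card_subgroup P
      have hPcard : 1 < Nat.card ↥P := by
        rw [Finite.one_lt_card_iff_nontrivial]
        exact (Subgroup.nontrivial_iff_ne_bot P).mpr hP1
      have hQpos : 0 < Nat.card (G ⧸ P) := Nat.card_pos
      have hlt : Nat.card (G ⧸ P) < n := by
        rw [← hn, hcard]
        nlinarith
      have ihQ := ih _ hlt (G ⧸ P) hQ rfl
      have hPp : IsPGroup p ↥P := by
        rintro ⟨x, hx⟩
        refine ⟨1, ?_⟩
        apply Subtype.ext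
        rw [pow_one]
        exact hPexp x hx
      have : Fact p.Prime := ⟨hp⟩
      obtain ⟨a, ha⟩ := IsPGroup.iff_card.mp hPp
      have ha0 : a ≠ 0 := by
        rintro rfl
        rw [ha, pow_zero] at hPcard
        exact lt_irrefl _ hPcard
      have hpf : (Nat.card G).primeFactors = insert p (Nat.card (G ⧸ P)).primeFactors := by
        rw [hcard, Nat.primeFactors_mul (by omega) (by omega), ha,
          Nat.primeFactors_prime_pow ha0 hp]
        rfl
      rw [hpf]
      by_cases hpm : p ∈ (Nat.card (G ⧸ P)).primeFactors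
      · rw [Finset.insert_eq_of_mem hpm]
        exact ihQ
      · rw [Finset.card_insert_of_notMem hpm]
        by_contra hcon
        have h2 : (Nat.card (G ⧸ P)).primeFactors.card = 2 := by omega
        have htrivQ : (⊤ : Subgroup (G ⧸ P)) ≠ ⊥ := by
          intro h0
          have h1 : Nat.card (G ⧸ P) = 1 := by
            rw [← Subgroup.card_top (G := G ⧸ P), h0, Subgroup.card_bot]
          rw [h1] at h2
          simp at h2
        obtain ⟨s, hs, Mb, hMbn, -, hMb1, -, hMbexp⟩ :=
          exists_normal_elementary_abelian_le (Nat.card (⊤ : Subgroup (G ⧸ P))) ⊤ rfl htrivQ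
            inferInstance
        have := hMbn
        have hsmem : s ∈ (Nat.card (G ⧸ P)).primeFactors := by
          obtain ⟨⟨m, hm⟩, hm1⟩ := (Subgroup.ne_bot_iff_exists_ne_one).mp hMb1
          have hm1' : m ≠ 1 := fun h0 => hm1 (Subtype.ext h0)
          have hom : orderOf m = s := by
            rcases (Nat.dvd_prime hs).mp (orderOf_dvd_of_pow_eq_one (hMbexp m hm)) with h0 | h0
            · exact absurd (orderOf_eq_one_iff.mp h0) hm1'
            · exact h0
          rw [Nat.mem_primeFactors]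
          refine ⟨hs, ?_, hQpos.ne'⟩
          rw [← hom]
          exact orderOf_dvd_natCard m
        have h2' : 1 < (Nat.card (G ⧸ P)).primeFactors.card := by omega
        obtain ⟨t, htmem, hts⟩ := Finset.exists_mem_ne h2' s
        have ht : t.Prime := Nat.prime_of_mem_primeFactors htmem
        have htdvd : t ∣ Nat.card (G ⧸ P) := Nat.dvd_of_mem_primeFactors htmem
        have : Fact t.Prime := ⟨ht⟩
        obtain ⟨xb, hxb⟩ := exists_prime_orderOf_dvd_card' t htdvd
        have hsp : s ≠ p := fun e => hpm (e ▸ hsmem)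
        have htp : t ≠ p := fun e => hpm (e ▸ htmem)
        exact hP1 (key h P hp hPexp Mb hMb1 hs hMbexp xb ht hxb (Ne.symm hts) hsp htp)

/-- Let G be a finite solvable group such that the order of every element is a prime power (1 included). Then at most two distinct primes divide the order of G. -/
theorem result {G : Type*} [Group G] [Finite G] [Group.IsSolvable G] (h : ∀ g : G, IsPrimePow (orderOf g) ∨ g = 1) :
    (Nat.card G).primeFactors.card ≤ 2 :=
  aux _ G h rfl

end Cfsg.Agent.S1475
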