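import Cfsg.Statements.S1476
import Cfsg.Agent.S1473
import Cfsg.Agent.S1474
import Cfsg.Agent.Lib.Helper10.FrobComplement
import Cfsg.Agent.Lib.Helper10.CNGroup
import Cfsg.Agent.Lib.Helper10.CNFrob
import Cfsg.Agent.Lib.Helper1.Fitting
import Cfsg.Agent.Lib.Helper1.Hall
import Cfsg.Agent.Lib.Helper1.FpfComplement
import Cfsg.Agent.Lib.Helper16.PReduced

set_option autoImplicit false
open Cfsg

namespace Cfsg.Agent.S1476

open Cfsg.Agent.Lib.Helper10 Cfsg.Agent.Lib.Helper1

/-- **Part A**: a non-nilpotent CN-group with a nontrivial normal Sylow subgroup. -/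
theorem partA {G : Type*} [Group G] [Finite G] (hCN : Cfsg.IsCNGroup G)
    (hnn : ¬ Group.IsNilpotent G) (p : ℕ) [Fact p.Prime] (P : Sylow p G)
    (hP1 : (P : Subgroup G) ≠ ⊥) (hPn : (P : Subgroup G).Normal) :
    ∃ K E : Subgroup G, K.Normal ∧ Subgroup.IsComplement' K E ∧ Cfsg.IsFrobeniusComplement E ∧
        (IsCyclic E ∨ ∃ C Q : Subgroup G, C ⊔ Q = E ∧ (∀ a ∈ C, ∀ b ∈ Q, a * b = b * a) ∧
          IsCyclic C ∧ Odd (Nat.card C) ∧ ∃ n : ℕ, Nonempty (↥Q ≃* QuaternionGroup (2 ^ n))) := by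
  obtain ⟨hH1, -, ⟨E, hc, hfrob, hfpf⟩, -⟩ := Cfsg.Agent.S1474.result hCN hnn p P hP1 hPn
  have hEnil := Cfsg.Agent.S1474.isNilpotent_complement hCN p P hP1 hPn E hc
  obtain ⟨-, hHcop⟩ := Cfsg.Agent.S1474.fittingHall_props (G := G)
  have hEcard : Nat.card ↥E = (Cfsg.fittingHall G).index := by
    have h2 := hc.card_mul_card
    have h3 := Subgroup.card_mul_index (Cfsg.fittingHall G)
    have hpos : 0 < Nat.card ↥(Cfsg.fittingHall G) := Nat.card_pos
    rw [← h3] at h2
    exact Nat.eq_of_mul_eq_mul_left hpos h2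
  refine ⟨Cfsg.fittingHall G, E, inferInstance, hc, hfrob, ?_⟩
  apply structure_of_nilpotent_fpf E (Cfsg.fittingHall G) hEnil hH1
  · rw [Subgroup.normalizer_eq_top]
    exact le_top
  · rw [hEcard]
    exact hHcop.symm
  · intro e he he1 k hk hek
    have h1 : k ∈ Cfsg.fittingHall G ⊓ Subgroup.centralizer ({e} : Set G) := by
      refine Subgroup.mem_inf.mpr ⟨hk, ?_⟩
      exact Cfsg.Agent.S1474.mem_centralizer_singleton hek.symm
    rw [hfpf e he he1, Subgroup.mem_bot] at h1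
    exact h1

/-- the centre of a nontrivial `p`-subgroup is nontrivial -/
theorem inf_centralizer_ne_bot {G : Type*} [Group G] [Finite G] {p : ℕ} [Fact p.Prime]
    (P : Subgroup G) (hP : IsPGroup p P) (hP1 : P ≠ ⊥) :
    P ⊓ Subgroup.centralizer (P : Set G) ≠ ⊥ := by
  have hnt : Nontrivial ↥P := (Subgroup.nontrivial_iff_ne_bot _).mpr hP1
  have hcn : Nontrivial ↥(Subgroup.center ↥P) := hP.center_nontrivial
  obtain ⟨⟨z, hz⟩, hz1⟩ := exists_ne (1 : ↥(Subgroup.center ↥P))
  intro hbot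
  apply hz1
  apply Subtype.ext
  apply Subtype.ext
  have hzc : (z : G) ∈ Subgroup.centralizer (P : Set G) := by
    rw [Subgroup.mem_centralizer_iff]
    intro t ht
    have := (Subgroup.mem_center_iff.mp hz) ⟨t, ht⟩
    exact congrArg Subtype.val this
  have hmem : (z : G) ∈ P ⊓ Subgroup.centralizer (P : Set G) :=
    Subgroup.mem_inf.mpr ⟨z.2, hzc⟩
  rw [hbot, Subgroup.mem_bot] at hmem
  exact hmem

/-- orders of elements of a `p`-group are coprime to `p'`-numbers -/
theorem coprime_orderOf_of_mem_pGroup {G : Type*} [Group G] {p : ℕ} [Fact p.Prime]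
    {P : Subgroup G} (hP : IsPGroup p P) {y : G} (hy : y ∈ P) {m : ℕ} (hm : m.Coprime p) :
    (orderOf y).Coprime m := by
  obtain ⟨k, hk⟩ := (IsPGroup.iff_orderOf.1 hP) ⟨y, hy⟩
  rw [Subgroup.orderOf_mk] at hk
  rw [hk]
  exact Nat.Coprime.pow_left k hm.symm

/-- **B0**: if two different cores are nontrivial then Sylow subgroups are normal -/
theorem sylow_le_pCore_of_two_cores {G : Type*} [Group G] [Finite G] (hCN : Cfsg.IsCNGroup G)
    {p q : ℕ} [Fact p.Prime] [Fact q.Prime] (hpq : p ≠ q) (hp1 : Cfsg.pCore p G ≠ ⊥)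
    (hq1 : Cfsg.pCore q G ≠ ⊥) (S : Sylow p G) : (S : Subgroup G) ≤ Cfsg.pCore p G := by
  have hp : p.Prime := Fact.out
  have hq : q.Prime := Fact.out
  have hOpS : Cfsg.pCore p G ≤ S := pCore_le_sylow S
  -- a central element of `S` inside `O_p(G)`
  have hNn : ((Cfsg.pCore p G).subgroupOf (S : Subgroup G)).Normal := inferInstance
  have hN1 : (Cfsg.pCore p G).subgroupOf (S : Subgroup G) ≠ ⊥ := by
    intro h0
    rw [Subgroup.subgroupOf_eq_bot] at h0
    apply hp1
    rw [← inf_eq_left.mpr hOpS]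
    exact disjoint_iff.mp h0
  have hmeet := normal_inf_center_ne_bot S.isPGroup' _ hN1
  obtain ⟨z, hz1⟩ := (Subgroup.ne_bot_iff_exists_ne_one.mp hmeet)
  obtain ⟨hzN, hzc⟩ := Subgroup.mem_inf.mp z.2
  have hzG1 : ((z : ↥(S : Subgroup G)) : G) ≠ 1 := by
    intro h0
    apply hz1
    apply Subtype.ext
    apply Subtype.ext
    exact h0
  have hzOp : ((z : ↥(S : Subgroup G)) : G) ∈ Cfsg.pCore p G := Subgroup.mem_subgroupOf.mp hzN
  have hnil := hCN _ hzG1
  have hSC : ∀ s ∈ (S : Subgroup G), s ∈ Subgroup.centralizer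
      ({((z : ↥(S : Subgroup G)) : G)} : Set G) := by
    intro s hs
    apply Cfsg.Agent.S1474.mem_centralizer_singleton
    have := (Subgroup.mem_center_iff.mp hzc) ⟨s, hs⟩
    exact (congrArg Subtype.val this)
  have hdisj : Disjoint (Cfsg.pCore p G) (Cfsg.pCore q G) :=
    IsPGroup.disjoint_of_ne p q hpq _ _ (pCore_isPGroup p) (pCore_isPGroup q)
  have hQC : ∀ y ∈ Cfsg.pCore q G, y ∈ Subgroup.centralizer
      ({((z : ↥(S : Subgroup G)) : G)} : Set G) := by
    intro y hy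
    apply Cfsg.Agent.S1474.mem_centralizer_singleton
    exact ((Subgroup.commute_of_normal_of_disjoint _ _ inferInstance inferInstance hdisj _ _
      hzOp hy).eq).symm
  -- `S` centralizes `O_q(G)`
  have hSQ : ∀ s ∈ (S : Subgroup G), ∀ y ∈ Cfsg.pCore q G, s * y = y * s := by
    intro s hs y hy
    apply commute_of_mem_of_isNilpotent hnil (hSC s hs) (hQC y hy)
    obtain ⟨k, hk⟩ := (IsPGroup.iff_orderOf.1 S.isPGroup') ⟨s, hs⟩
    rw [Subgroup.orderOf_mk] at hk
    obtain ⟨l, hl⟩ := (IsPGroup.iff_orderOf.1 (pCore_isPGroup (G := G) q)) ⟨y, hy⟩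
    rw [Subgroup.orderOf_mk] at hl
    rw [hk, hl]
    exact Nat.Coprime.pow k l ((Nat.coprime_primes hp hq).mpr hpq)
  have hDn : (Subgroup.centralizer (Cfsg.pCore q G : Set G)).Normal := Subgroup.normal_centralizer
  obtain ⟨y0, hy0, hy01⟩ : ∃ y0 ∈ Cfsg.pCore q G, y0 ≠ 1 := by
    obtain ⟨y, hy⟩ := Subgroup.ne_bot_iff_exists_ne_one.mp hq1
    exact ⟨y, y.2, fun h => hy (Subtype.ext h)⟩
  have hDnil : Group.IsNilpotent ↥(Subgroup.centralizer (Cfsg.pCore q G : Set G)) := by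
    apply isNilpotent_of_le _ (hCN y0 hy01)
    apply Subgroup.centralizer_le
    intro w hw
    rw [Set.mem_singleton_iff] at hw
    subst hw
    exact hy0
  intro s hs
  apply Cfsg.Agent.S1474.mem_pCore_of_mem_normal_nilpotent _ hDnil s
  · rw [Subgroup.mem_centralizer_iff]
    intro y hy
    exact (hSQ s hs y hy).symm
  · obtain ⟨k, hk⟩ := (IsPGroup.iff_orderOf.1 S.isPGroup') ⟨s, hs⟩
    rw [Subgroup.orderOf_mk] at hk
    exact ⟨k, hk⟩

/-- **B1**: `p'`-elements act fixed-point-freely on `O_p(G)` when `C_G(O_p(G)) ≤ O_p(G)`. -/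
theorem fpf_of_centralizer_le {G : Type*} [Group G] [Finite G] (hCN : Cfsg.IsCNGroup G)
    {p : ℕ} [Fact p.Prime] (hP1 : Cfsg.pCore p G ≠ ⊥)
    (hcent : Subgroup.centralizer (Cfsg.pCore p G : Set G) ≤ Cfsg.pCore p G)
    (x : G) (hx1 : x ≠ 1) (hxp : (orderOf x).Coprime p) :
    ∀ y ∈ Cfsg.pCore p G, x * y = y * x → y = 1 := by
  have hp : p.Prime := Fact.out
  have hPp : IsPGroup p ↥(Cfsg.pCore p G) := pCore_isPGroup p
  intro y hy hxy
  by_contra hy1
  have hZ := inf_centralizer_ne_bot (Cfsg.pCore p G) hPp hP1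
  -- `x` centralizes `Z(P)`
  have hstep1 : ∀ z ∈ Cfsg.pCore p G ⊓ Subgroup.centralizer (Cfsg.pCore p G : Set G),
      x * z = z * x := by
    intro z hz
    obtain ⟨hzP, hzC⟩ := Subgroup.mem_inf.mp hz
    have hzy : z * y = y * z := ((Subgroup.mem_centralizer_iff.mp hzC) y hy).symm
    apply commute_of_mem_of_isNilpotent (hCN y hy1)
      (Cfsg.Agent.S1474.mem_centralizer_singleton hxy)
      (Cfsg.Agent.S1474.mem_centralizer_singleton hzy)
    exact (coprime_orderOf_of_mem_pGroup hPp hzP hxp).symm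
  obtain ⟨z0, hz0⟩ := Subgroup.ne_bot_iff_exists_ne_one.mp hZ
  have hz01 : (z0 : G) ≠ 1 := fun h => hz0 (Subtype.ext h)
  obtain ⟨hz0P, hz0C⟩ := Subgroup.mem_inf.mp z0.2
  -- `x` centralizes `P`
  have hstep2 : x ∈ Subgroup.centralizer (Cfsg.pCore p G : Set G) := by
    rw [Subgroup.mem_centralizer_iff]
    intro u hu
    have huz : u * (z0 : G) = (z0 : G) * u := (Subgroup.mem_centralizer_iff.mp hz0C) u hu
    apply commute_of_mem_of_isNilpotent (hCN (z0 : G) hz01)
      (Cfsg.Agent.S1474.mem_centralizer_singleton huz)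
      (Cfsg.Agent.S1474.mem_centralizer_singleton (hstep1 _ z0.2))
    exact coprime_orderOf_of_mem_pGroup hPp hu hxp
  have hxP : x ∈ Cfsg.pCore p G := hcent hstep2
  have h1 := coprime_orderOf_of_mem_pGroup hPp hxP hxp
  rw [Nat.coprime_self] at h1
  exact hx1 (orderOf_eq_one_iff.mp h1)

theorem mk'_eq_one {G : Type*} [Group G] {P : Subgroup G} [P.Normal] {g : G} (hg : g ∈ P) :
    QuotientGroup.mk' P g = 1 := (QuotientGroup.eq_one_iff g).mpr hg

theorem mem_of_mk'_eq_one {G : Type*} [Group G] {P : Subgroup G} [P.Normal] {g : G}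
    (hg : QuotientGroup.mk' P g = 1) : g ∈ P := (QuotientGroup.eq_one_iff g).mp hg

/-- **lifting `p'`-subgroups** through a normal `p`-subgroup -/
theorem exists_lift_of_coprime {G : Type*} [Group G] [Finite G] {p : ℕ} [Fact p.Prime]
    (P : Subgroup G) [P.Normal] (hP : IsPGroup p P) (X : Subgroup (G ⧸ P))
    (hX : (Nat.card X).Coprime p) :
    ∃ B : Subgroup G, B.map (QuotientGroup.mk' P) = X ∧ Nat.card B = Nat.card X := by
  have hPL : P ≤ X.comap (QuotientGroup.mk' P) := by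
    intro g hg
    rw [Subgroup.mem_comap, mk'_eq_one hg]
    exact Subgroup.one_mem _
  have hcardL := card_comap_mk P X
  have hcardN : Nat.card ↥(P.subgroupOf (X.comap (QuotientGroup.mk' P))) = Nat.card ↥P :=
    Nat.card_congr (Subgroup.subgroupOfEquivOfLe hPL).toEquiv
  have hindex : (P.subgroupOf (X.comap (QuotientGroup.mk' P))).index = Nat.card ↥X := by
    have h1 := Subgroup.card_mul_index (P.subgroupOf (X.comap (QuotientGroup.mk' P)))
    rw [hcardN, hcardL, mul_comm] at h1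
    have hpos : 0 < Nat.card ↥P := Nat.card_pos
    exact Nat.eq_of_mul_eq_mul_right hpos h1
  have hcop : (Nat.card ↥(P.subgroupOf (X.comap (QuotientGroup.mk' P)))).Coprime
      (P.subgroupOf (X.comap (QuotientGroup.mk' P))).index := by
    rw [hcardN, hindex]
    obtain ⟨k, hk⟩ := IsPGroup.iff_card.mp hP
    rw [hk]
    exact Nat.Coprime.pow_left k hX.symm
  obtain ⟨B0, hB0⟩ := Subgroup.exists_right_complement'_of_coprime hcop
  have hB0card : Nat.card ↥B0 = Nat.card ↥X := by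
    have h2 := hB0.card_mul_card
    have h3 := Subgroup.card_mul_index (P.subgroupOf (X.comap (QuotientGroup.mk' P)))
    have hpos : 0 < Nat.card ↥(P.subgroupOf (X.comap (QuotientGroup.mk' P))) := Nat.card_pos
    rw [← h3] at h2
    rw [← hindex]
    exact Nat.eq_of_mul_eq_mul_left hpos h2
  refine ⟨B0.map (X.comap (QuotientGroup.mk' P)).subtype, ?_, ?_⟩
  · apply le_antisymm
    · rintro _ ⟨_, ⟨b, -, rfl⟩, rfl⟩
      exact b.2
    · intro xb hxb
      obtain ⟨g, rfl⟩ := QuotientGroup.mk'_surjective P xb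
      have hgL : g ∈ X.comap (QuotientGroup.mk' P) := hxb
      obtain ⟨n, hn, b, hb, hnb⟩ := Cfsg.Agent.Lib.Helper1.IsComplement'.exists_mul_eq hB0 ⟨g, hgL⟩
      refine ⟨(b : G), ⟨b, hb, rfl⟩, ?_⟩
      have h1 : (n : G) * (b : G) = g := congrArg Subtype.val hnb
      have h2 : (n : G) ∈ P := Subgroup.mem_subgroupOf.mp hn
      rw [← h1, map_mul, mk'_eq_one h2, one_mul]
  · rw [← hB0card]
    exact (Nat.card_congr (B0.equivMapOfInjective _ (Subgroup.subtype_injective _)).toEquiv).symm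

/-- `O_p(G / O_p(G)) = 1` -/
theorem pCore_quotient_pCore {G : Type*} [Group G] [Finite G] (p : ℕ) [Fact p.Prime] :
    Cfsg.pCore p (G ⧸ Cfsg.pCore p G) = ⊥ := by
  apply Cfsg.Agent.Lib.Helper16.pCore_quotient_eq_bot_of
  intro D hD hd
  apply le_pCore hD
  intro d
  obtain ⟨k, hk⟩ := hd d d.2
  obtain ⟨l, hl⟩ := (pCore_isPGroup (G := G) p) ⟨_, hk⟩
  refine ⟨k + l, ?_⟩
  apply Subtype.ext
  have h1 : ((d : G) ^ p ^ k) ^ p ^ l = 1 := by
    have := congrArg Subtype.val hl
    simpa using this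
  rw [Subgroup.coe_pow, pow_add, pow_mul, h1]
  rfl

/-- **B2**: `p'`-elements have odd order -/
theorem odd_orderOf_of_coprime {G : Type*} [Group G] [Finite G] [Group.IsSolvable G]
    (hCN : Cfsg.IsCNGroup G) {p : ℕ} [Fact p.Prime] (hP1 : Cfsg.pCore p G ≠ ⊥)
    (hcent : Subgroup.centralizer (Cfsg.pCore p G : Set G) ≤ Cfsg.pCore p G)
    (hnS : ∀ S : Sylow p G, ¬ (S : Subgroup G) ≤ Cfsg.pCore p G)
    (x : G) (hxp : (orderOf x).Coprime p) : Odd (orderOf x) := by
  have hp : p.Prime := Fact.out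
  have hPp : IsPGroup p ↥(Cfsg.pCore p G) := pCore_isPGroup p
  by_contra hodd
  rw [Nat.not_odd_iff_even, even_iff_two_dvd] at hodd
  have hx0 : orderOf x ≠ 0 := (orderOf_pos x).ne'
  obtain ⟨t, ht⟩ : ∃ t : G, t = x ^ (orderOf x / 2) := ⟨_, rfl⟩
  have hot : orderOf t = 2 := by rw [ht]; exact orderOf_pow_orderOf_div hx0 hodd
  have ht1 : t ≠ 1 := by
    intro h
    rw [h, orderOf_one] at hot
    omega
  have ht2 : t * t = 1 := by rw [← pow_two, ← hot, pow_orderOf_eq_one]
  have htp : (orderOf t).Coprime p := by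
    rw [hot]
    exact Nat.Coprime.coprime_dvd_left hodd hxp
  have hfpf := fpf_of_centralizer_le hCN hP1 hcent t ht1 htp
  have hbot : Cfsg.pCore p G ⊓ Subgroup.centralizer {t} = ⊥ := by
    rw [eq_bot_iff]
    intro k hk
    obtain ⟨hkP, hkC⟩ := Subgroup.mem_inf.mp hk
    rw [Subgroup.mem_bot]
    apply hfpf k hkP
    exact ((Subgroup.mem_centralizer_iff.mp hkC) t (Set.mem_singleton t))
  have hinv := involution_inverts_of_fpf (Cfsg.pCore p G) t ht2 hbot
  have htinv : t⁻¹ = t := inv_eq_of_mul_eq_one_left ht2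
  have hPn : (Cfsg.pCore p G).Normal := inferInstance
  -- commutators with `t` lie in `P`
  have hcomm : ∀ g : G, g * t * g⁻¹ * t⁻¹ ∈ Cfsg.pCore p G := by
    intro g
    apply hcent
    rw [Subgroup.mem_centralizer_iff]
    intro k hk
    have hk2 : g⁻¹ * k⁻¹ * g ∈ Cfsg.pCore p G := by
      have := hPn.conj_mem k⁻¹ (Subgroup.inv_mem _ hk) g⁻¹
      simpa using this
    have h1 := hinv _ hk2
    have h2 := hinv k hk
    have h3 : t⁻¹ * k * t = k⁻¹ := by
      have h4 : t⁻¹ * k * t = t * k * t⁻¹ := by rw [htinv]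
      rw [h4, h2]
    symm
    calc g * t * g⁻¹ * t⁻¹ * k = g * t * g⁻¹ * (t⁻¹ * k * t) * t⁻¹ := by group
      _ = g * t * g⁻¹ * k⁻¹ * t⁻¹ := by rw [h3]
      _ = g * (t * (g⁻¹ * k⁻¹ * g) * t⁻¹) * g⁻¹ * (g * t * g⁻¹ * t⁻¹) := by group
      _ = g * (g⁻¹ * k⁻¹ * g)⁻¹ * g⁻¹ * (g * t * g⁻¹ * t⁻¹) := by rw [h1]
      _ = k * (g * t * g⁻¹ * t⁻¹) := by group
  -- the image of `t` is central
  have hcentral : ∀ gb : G ⧸ Cfsg.pCore p G,
      gb * QuotientGroup.mk' (Cfsg.pCore p G) t = QuotientGroup.mk' (Cfsg.pCore p G) t * gb := by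
    intro gb
    obtain ⟨g, rfl⟩ := QuotientGroup.mk'_surjective _ gb
    have h := mk'_eq_one (hcomm g)
    rw [map_mul, map_mul, map_mul, map_inv, map_inv] at h
    have h' := mul_inv_eq_one.mp h
    exact mul_inv_eq_iff_eq_mul.mp h'
  have hπt1 : QuotientGroup.mk' (Cfsg.pCore p G) t ≠ 1 := by
    intro h
    have htP := mem_of_mk'_eq_one h
    have h1 := coprime_orderOf_of_mem_pGroup hPp htP htp
    rw [Nat.coprime_self] at h1
    exact ht1 (orderOf_eq_one_iff.mp h1)
  have hCNq : Cfsg.IsCNGroup (G ⧸ Cfsg.pCore p G) := Cfsg.Agent.S1473.result hCN _ inferInstance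
  have hnilc := hCNq _ hπt1
  have htop : Subgroup.centralizer ({QuotientGroup.mk' (Cfsg.pCore p G) t} :
      Set (G ⧸ Cfsg.pCore p G)) = ⊤ := by
    rw [eq_top_iff]
    intro gb _
    exact Cfsg.Agent.S1474.mem_centralizer_singleton (hcentral gb)
  have hnilq : Group.IsNilpotent (G ⧸ Cfsg.pCore p G) := by
    rw [htop] at hnilc
    exact isNilpotent_of_injective_hom
      (Subgroup.topEquiv (G := G ⧸ Cfsg.pCore p G)).symm.toMonoidHom
      (Subgroup.topEquiv (G := G ⧸ Cfsg.pCore p G)).symm.injective hnilc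
  have S : Sylow p G := default
  apply hnS S
  intro s hs
  apply mem_of_mk'_eq_one
  have h1 : QuotientGroup.mk' (Cfsg.pCore p G) s ∈ Cfsg.pCore p (G ⧸ Cfsg.pCore p G) := by
    apply Cfsg.Agent.S1474.mem_pCore_of_isNilpotent hnilq
    obtain ⟨k, hk⟩ := S.isPGroup' ⟨s, hs⟩
    have hk' : s ^ p ^ k = 1 := by
      have := congrArg Subtype.val hk
      simpa using this
    have h2 : (QuotientGroup.mk' (Cfsg.pCore p G) s) ^ p ^ k = 1 := by
      rw [← map_pow, hk', map_one]
    obtain ⟨j, -, hj⟩ := (Nat.dvd_prime_pow hp).mp (orderOf_dvd_of_pow_eq_one h2)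
    exact ⟨j, hj⟩
  rw [pCore_quotient_pCore, Subgroup.mem_bot] at h1
  exact h1

/-- `p'`-subgroups have odd order -/
theorem odd_card_of_coprime {G : Type*} [Group G] [Finite G] [Group.IsSolvable G]
    (hCN : Cfsg.IsCNGroup G) {p : ℕ} [Fact p.Prime] (hP1 : Cfsg.pCore p G ≠ ⊥)
    (hcent : Subgroup.centralizer (Cfsg.pCore p G : Set G) ≤ Cfsg.pCore p G)
    (hnS : ∀ S : Sylow p G, ¬ (S : Subgroup G) ≤ Cfsg.pCore p G)
    (B : Subgroup G) (hB : (Nat.card ↥B).Coprime p) : Odd (Nat.card ↥B) := by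
  by_contra h
  rw [Nat.not_odd_iff_even, even_iff_two_dvd] at h
  have : Fact (Nat.Prime 2) := ⟨Nat.prime_two⟩
  obtain ⟨b, hb⟩ := exists_prime_orderOf_dvd_card' 2 h
  have h1 := odd_orderOf_of_coprime hCN hP1 hcent hnS (b : G)
    (Nat.Coprime.coprime_dvd_left (Subgroup.orderOf_dvd_natCard B b.2) hB)
  rw [Subgroup.orderOf_coe, hb] at h1
  exact absurd h1 (by decide)

open scoped IsMulCommutative in
/-- **B3**: every `p'`-subgroup is cyclic -/
theorem isCyclic_of_coprime {G : Type*} [Group G] [Finite G] [Group.IsSolvable G]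
    (hCN : Cfsg.IsCNGroup G) {p : ℕ} [Fact p.Prime] (hP1 : Cfsg.pCore p G ≠ ⊥)
    (hcent : Subgroup.centralizer (Cfsg.pCore p G : Set G) ≤ Cfsg.pCore p G)
    (hnS : ∀ S : Sylow p G, ¬ (S : Subgroup G) ≤ Cfsg.pCore p G)
    (B : Subgroup G) (hB : (Nat.card ↥B).Coprime p) : IsCyclic ↥B := by
  have hp : p.Prime := Fact.out
  have hPp : IsPGroup p ↥(Cfsg.pCore p G) := pCore_isPGroup p
  have hPn : (Cfsg.pCore p G).Normal := inferInstance
  have hfpfB : ∀ b ∈ B, b ≠ 1 → ∀ k ∈ Cfsg.pCore p G, b * k = k * b → k = 1 := by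
    intro b hb hb1
    exact fpf_of_centralizer_le hCN hP1 hcent b hb1
      (Nat.Coprime.coprime_dvd_left (Subgroup.orderOf_dvd_natCard B hb) hB)
  have hodd : Odd (Nat.card ↥B) := odd_card_of_coprime hCN hP1 hcent hnS B hB
  have hcop : (Nat.card ↥B).Coprime (Nat.card ↥(Cfsg.pCore p G)) := by
    obtain ⟨k, hk⟩ := IsPGroup.iff_card.mp hPp
    rw [hk]
    exact Nat.Coprime.pow_right k hB
  have hnil : Group.IsNilpotent ↥B := by
    have hVn : (Cfsg.pCore p G ⊓ Subgroup.centralizer (Cfsg.pCore p G : Set G)).Normal :=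
      inferInstance
    have hVc : IsMulCommutative
        ↥(Cfsg.pCore p G ⊓ Subgroup.centralizer (Cfsg.pCore p G : Set G)) := by
      refine ⟨⟨?_⟩⟩
      rintro ⟨a, ha⟩ ⟨b, hb⟩
      apply Subtype.ext
      exact ((Subgroup.mem_centralizer_iff.mp (Subgroup.mem_inf.mp hb).2) a
        (Subgroup.mem_inf.mp ha).1)
    have hVnt : Nontrivial
        ↥(Cfsg.pCore p G ⊓ Subgroup.centralizer (Cfsg.pCore p G : Set G)) :=
      (Subgroup.nontrivial_iff_ne_bot _).mpr (inf_centralizer_ne_bot _ hPp hP1)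
    apply isNilpotent_of_isCNGroup_of_fpf
      (V := ↥(Cfsg.pCore p G ⊓ Subgroup.centralizer (Cfsg.pCore p G : Set G)))
      (Cfsg.Agent.S1474.isCNGroup_subgroup hCN B)
      ((MulAut.conjNormal
        (H := Cfsg.pCore p G ⊓ Subgroup.centralizer (Cfsg.pCore p G : Set G))).comp B.subtype)
    · exact Nat.Coprime.coprime_dvd_right (Subgroup.card_dvd_of_le inf_le_left) hcop
    · intro e he1 v hv
      have he1' : (e : G) ≠ 1 := fun h0 => he1 (Subtype.ext h0)
      have h1 : (e : G) * (v : G) * (e : G)⁻¹ = v := by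
        have := congrArg Subtype.val hv
        rw [MonoidHom.comp_apply, MulAut.conjNormal_apply] at this
        exact this
      have h2 : (e : G) * (v : G) = (v : G) * (e : G) := by
        calc (e : G) * (v : G) = ((e : G) * (v : G) * (e : G)⁻¹) * e := by group
          _ = (v : G) * (e : G) := by rw [h1]
      have h3 := hfpfB (e : G) e.2 he1' (v : G) (Subgroup.mem_inf.mp v.2).1 h2
      exact Subtype.ext h3
  exact isCyclic_of_nilpotent_fpf_of_odd B (Cfsg.pCore p G) hnil hP1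
    (by rw [Subgroup.normalizer_eq_top]; exact le_top) hcop hfpfB hodd

/-- **B4**: `p'`-subgroups of the quotient are commutative -/
theorem comm_of_coprime_quotient {G : Type*} [Group G] [Finite G] [Group.IsSolvable G]
    (hCN : Cfsg.IsCNGroup G) {p : ℕ} [Fact p.Prime] (hP1 : Cfsg.pCore p G ≠ ⊥)
    (hcent : Subgroup.centralizer (Cfsg.pCore p G : Set G) ≤ Cfsg.pCore p G)
    (hnS : ∀ S : Sylow p G, ¬ (S : Subgroup G) ≤ Cfsg.pCore p G)
    (X : Subgroup (G ⧸ Cfsg.pCore p G)) (hX : (Nat.card ↥X).Coprime p) :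
    ∀ a ∈ X, ∀ b ∈ X, a * b = b * a := by
  obtain ⟨B, hBX, hBcard⟩ := exists_lift_of_coprime (Cfsg.pCore p G) (pCore_isPGroup p) X hX
  have hBc := isCyclic_of_coprime hCN hP1 hcent hnS B (by rw [hBcard]; exact hX)
  intro a ha b hb
  rw [← hBX] at ha hb
  obtain ⟨u, hu, rfl⟩ := ha
  obtain ⟨v, hv, rfl⟩ := hb
  rw [← map_mul, ← map_mul]
  have h1 := mul_comm_of_isCyclic hBc ⟨u, hu⟩ ⟨v, hv⟩
  have h2 : u * v = v * u := congrArg Subtype.val h1
  rw [h2]

/-- **Part B**: the three-step configuration -/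
theorem partB {G : Type*} [Group G] [Finite G] [Group.IsSolvable G]
    (hCN : Cfsg.IsCNGroup G) {p : ℕ} [Fact p.Prime] (hP1 : Cfsg.pCore p G ≠ ⊥)
    (hcent : Subgroup.centralizer (Cfsg.pCore p G : Set G) ≤ Cfsg.pCore p G)
    (hnS : ∀ S : Sylow p G, ¬ (S : Subgroup G) ≤ Cfsg.pCore p G) :
    Cfsg.IsThreeStepGroup p G := by
  have hp : p.Prime := Fact.out
  have hPp : IsPGroup p ↥(Cfsg.pCore p G) := pCore_isPGroup p
  have hPn : (Cfsg.pCore p G).Normal := inferInstance
  have hCNq : Cfsg.IsCNGroup (G ⧸ Cfsg.pCore p G) := Cfsg.Agent.S1473.result hCN _ inferInstance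
  have hAn : (Cfsg.fittingSubgroup (G ⧸ Cfsg.pCore p G)).Normal := fittingSubgroup_normal
  have hAnil : Group.IsNilpotent ↥(Cfsg.fittingSubgroup (G ⧸ Cfsg.pCore p G)) :=
    fittingSubgroup_isNilpotent
  have hAcent : Subgroup.centralizer (Cfsg.fittingSubgroup (G ⧸ Cfsg.pCore p G) :
      Set (G ⧸ Cfsg.pCore p G)) ≤ Cfsg.fittingSubgroup (G ⧸ Cfsg.pCore p G) :=
    centralizer_fittingSubgroup_le
  -- the Fitting subgroup of the quotient is a `p'`-group
  have hAcop : (Nat.card ↥(Cfsg.fittingSubgroup (G ⧸ Cfsg.pCore p G))).Coprime p := by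
    rw [Nat.coprime_comm, Nat.Prime.coprime_iff_not_dvd hp]
    intro hdvd
    obtain ⟨a, ha⟩ := exists_prime_orderOf_dvd_card' p hdvd
    have h1 : (a : G ⧸ Cfsg.pCore p G) ∈ Cfsg.pCore p (G ⧸ Cfsg.pCore p G) :=
      Cfsg.Agent.S1474.mem_pCore_of_mem_normal_nilpotent _ hAnil (a : G ⧸ Cfsg.pCore p G) a.2
        ⟨1, by rw [Subgroup.orderOf_coe, ha, pow_one]⟩
    rw [pCore_quotient_pCore, Subgroup.mem_bot] at h1
    have h2 : orderOf a = 1 := by rw [← Subgroup.orderOf_coe, h1, orderOf_one]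
    rw [ha] at h2
    exact hp.one_lt.ne' h2
  -- all `p'`-elements of the quotient lie in it
  have hmemA : ∀ xb : G ⧸ Cfsg.pCore p G, (orderOf xb).Coprime p →
      xb ∈ Cfsg.fittingSubgroup (G ⧸ Cfsg.pCore p G) := by
    intro xb hxb
    apply hAcent
    have hXcop : (Nat.card ↥(Subgroup.zpowers xb ⊔
        Cfsg.fittingSubgroup (G ⧸ Cfsg.pCore p G))).Coprime p := by
      have h1 := card_sup_dvd_of_normal (Subgroup.zpowers xb)
        (Cfsg.fittingSubgroup (G ⧸ Cfsg.pCore p G))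
      apply Nat.Coprime.coprime_dvd_left h1
      rw [Nat.card_zpowers]
      exact Nat.Coprime.mul_left hxb hAcop
    have hcomm := comm_of_coprime_quotient hCN hP1 hcent hnS _ hXcop
    rw [Subgroup.mem_centralizer_iff]
    intro a ha
    exact hcomm a (le_sup_right (a := Subgroup.zpowers xb) ha) xb
      (le_sup_left (b := Cfsg.fittingSubgroup (G ⧸ Cfsg.pCore p G)) (Subgroup.mem_zpowers xb))
  -- it is nontrivial
  have hA1 : Cfsg.fittingSubgroup (G ⧸ Cfsg.pCore p G) ≠ ⊥ := by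
    intro h0
    have S : Sylow p G := default
    apply hnS S
    intro s _
    apply mem_of_mk'_eq_one
    have h1 : QuotientGroup.mk' (Cfsg.pCore p G) s ∈ Subgroup.centralizer
        (Cfsg.fittingSubgroup (G ⧸ Cfsg.pCore p G) : Set (G ⧸ Cfsg.pCore p G)) := by
      rw [Subgroup.mem_centralizer_iff]
      intro a ha
      rw [SetLike.mem_coe, h0, Subgroup.mem_bot] at ha
      rw [ha, one_mul, mul_one]
    have h2 := hAcent h1
    rwa [h0, Subgroup.mem_bot] at h2
  -- lift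
  obtain ⟨A, hAmap, hAcard⟩ := exists_lift_of_coprime (Cfsg.pCore p G) hPp
    (Cfsg.fittingSubgroup (G ⧸ Cfsg.pCore p G)) hAcop
  have hAcop' : (Nat.card ↥A).Coprime p := by rw [hAcard]; exact hAcop
  have hAcyc := isCyclic_of_coprime hCN hP1 hcent hnS A hAcop'
  have hAodd := odd_card_of_coprime hCN hP1 hcent hnS A hAcop'
  have hAne : A ≠ ⊥ := by
    intro h0
    apply hA1
    rw [← hAmap, h0, Subgroup.map_bot]
  have haord : ∀ a ∈ A, (orderOf a).Coprime p := fun a ha =>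
    Nat.Coprime.coprime_dvd_left (Subgroup.orderOf_dvd_natCard A ha) hAcop'
  have hK : Cfsg.pCore p G ⊔ A = (Cfsg.fittingSubgroup (G ⧸ Cfsg.pCore p G)).comap
      (QuotientGroup.mk' (Cfsg.pCore p G)) := by
    apply le_antisymm
    · apply sup_le
      · intro g hg
        rw [Subgroup.mem_comap, mk'_eq_one hg]
        exact Subgroup.one_mem _
      · intro a ha
        rw [Subgroup.mem_comap, ← hAmap]
        exact Subgroup.mem_map_of_mem _ ha
    · intro k hk
      rw [Subgroup.mem_comap, ← hAmap] at hk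
      obtain ⟨a, ha, hak⟩ := hk
      have h1 : a⁻¹ * k ∈ Cfsg.pCore p G := by
        apply mem_of_mk'_eq_one
        rw [map_mul, map_inv, hak, inv_mul_cancel]
      have h2 : k = a * (a⁻¹ * k) := by group
      rw [h2]
      exact Subgroup.mul_mem _ (le_sup_right (a := Cfsg.pCore p G) ha)
        (le_sup_left (b := A) h1)
  refine ⟨hP1, A, hAne, hAcyc, hAodd, hAcop', ?_, ?_, ?_, ?_, ?_⟩
  · rw [hK]
    exact hAn.comap _
  · intro htop
    rw [hK] at htop
    have hAtop : ∀ xb : G ⧸ Cfsg.pCore p G, xb ∈ Cfsg.fittingSubgroup (G ⧸ Cfsg.pCore p G) := by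
      intro xb
      obtain ⟨g, rfl⟩ := QuotientGroup.mk'_surjective _ xb
      have h1 : g ∈ (Cfsg.fittingSubgroup (G ⧸ Cfsg.pCore p G)).comap
          (QuotientGroup.mk' (Cfsg.pCore p G)) := by
        rw [htop]
        exact Subgroup.mem_top g
      exact h1
    have S : Sylow p G := default
    apply hnS S
    intro s hs
    apply mem_of_mk'_eq_one
    obtain ⟨k, hk⟩ := S.isPGroup' ⟨s, hs⟩
    have hk' : s ^ p ^ k = 1 := by
      have := congrArg Subtype.val hk
      simpa using this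
    have h2 : (QuotientGroup.mk' (Cfsg.pCore p G) s) ^ p ^ k = 1 := by
      rw [← map_pow, hk', map_one]
    have h3 : orderOf (QuotientGroup.mk' (Cfsg.pCore p G) s) ∣ p ^ k :=
      orderOf_dvd_of_pow_eq_one h2
    have h4 : orderOf (QuotientGroup.mk' (Cfsg.pCore p G) s) ∣
        Nat.card ↥(Cfsg.fittingSubgroup (G ⧸ Cfsg.pCore p G)) :=
      Subgroup.orderOf_dvd_natCard _ (hAtop _)
    have h5 := Nat.dvd_gcd h3 h4
    rw [Nat.Coprime.pow_left k hAcop.symm] at h5
    exact orderOf_eq_one_iff.mp (Nat.dvd_one.mp h5)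
  · rw [hK, Subgroup.index_comap_of_surjective _ (QuotientGroup.mk'_surjective _)]
    have hQp : IsPGroup p ((G ⧸ Cfsg.pCore p G) ⧸ Cfsg.fittingSubgroup (G ⧸ Cfsg.pCore p G)) := by
      intro yb'
      obtain ⟨yb, rfl⟩ := QuotientGroup.mk'_surjective _ yb'
      obtain ⟨k, m, hm, hkm⟩ :=
        Nat.exists_eq_pow_mul_and_not_dvd (orderOf_pos yb).ne' p hp.ne_one
      refine ⟨k, ?_⟩
      rw [← map_pow]
      apply mk'_eq_one
      apply hmemA
      have h1 : (yb ^ p ^ k) ^ m = 1 := by rw [← pow_mul, ← hkm, pow_orderOf_eq_one]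
      have h2 : orderOf (yb ^ p ^ k) ∣ m := orderOf_dvd_of_pow_eq_one h1
      exact Nat.Coprime.coprime_dvd_left h2 ((Nat.Prime.coprime_iff_not_dvd hp).mpr hm).symm
    obtain ⟨n, hn⟩ := IsPGroup.iff_card.mp hQp
    exact ⟨n, by rw [Subgroup.index_eq_card, hn]⟩
  · intro a ha ha1
    rw [eq_bot_iff]
    intro k hk
    obtain ⟨hkP, hkC⟩ := Subgroup.mem_inf.mp hk
    rw [Subgroup.mem_bot]
    apply fpf_of_centralizer_le hCN hP1 hcent a ha1 (haord a ha) k hkP
    exact (Subgroup.mem_centralizer_iff.mp hkC) a (Set.mem_singleton a)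
  · intro x hx a ha ha1 hmem
    have hxb : QuotientGroup.mk' (Cfsg.pCore p G) x ∉
        Cfsg.fittingSubgroup (G ⧸ Cfsg.pCore p G) := by
      intro h
      apply hx
      rw [hK]
      exact h
    have hab1 : QuotientGroup.mk' (Cfsg.pCore p G) a ≠ 1 := by
      intro h
      have haP := mem_of_mk'_eq_one h
      have hco := coprime_orderOf_of_mem_pGroup hPp haP (haord a ha)
      rw [Nat.coprime_self] at hco
      exact ha1 (orderOf_eq_one_iff.mp hco)
    have habA : QuotientGroup.mk' (Cfsg.pCore p G) a ∈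
        Cfsg.fittingSubgroup (G ⧸ Cfsg.pCore p G) := by
      rw [← hAmap]
      exact Subgroup.mem_map_of_mem _ ha
    have hcomm_xa : QuotientGroup.mk' (Cfsg.pCore p G) x * QuotientGroup.mk' (Cfsg.pCore p G) a =
        QuotientGroup.mk' (Cfsg.pCore p G) a * QuotientGroup.mk' (Cfsg.pCore p G) x := by
      have h := mk'_eq_one hmem
      rw [map_mul, map_mul, map_mul, map_inv, map_inv] at h
      exact mul_inv_eq_iff_eq_mul.mp (mul_inv_eq_one.mp h)
    have hnilc := hCNq _ hab1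
    have hAcomm := comm_of_coprime_quotient hCN hP1 hcent hnS
      (Cfsg.fittingSubgroup (G ⧸ Cfsg.pCore p G)) hAcop
    obtain ⟨k, m, hm, hkm⟩ := Nat.exists_eq_pow_mul_and_not_dvd
      (orderOf_pos (QuotientGroup.mk' (Cfsg.pCore p G) x)).ne' p hp.ne_one
    have hyo : ((QuotientGroup.mk' (Cfsg.pCore p G) x) ^ m) ^ p ^ k = 1 := by
      rw [← pow_mul, mul_comm, ← hkm, pow_orderOf_eq_one]
    have hyC : (QuotientGroup.mk' (Cfsg.pCore p G) x) ^ m ∈
        Subgroup.centralizer ({QuotientGroup.mk' (Cfsg.pCore p G) a} :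
          Set (G ⧸ Cfsg.pCore p G)) := by
      apply Cfsg.Agent.S1474.mem_centralizer_singleton
      exact ((show Commute _ _ from hcomm_xa).pow_left m).eq
    have hyo' : orderOf ((QuotientGroup.mk' (Cfsg.pCore p G) x) ^ m) ∣ p ^ k :=
      orderOf_dvd_of_pow_eq_one hyo
    have hyA : (QuotientGroup.mk' (Cfsg.pCore p G) x) ^ m ∈
        Cfsg.fittingSubgroup (G ⧸ Cfsg.pCore p G) := by
      apply hAcent
      rw [Subgroup.mem_centralizer_iff]
      intro b hb
      apply commute_of_mem_of_isNilpotent hnilc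
        (Cfsg.Agent.S1474.mem_centralizer_singleton (hAcomm b hb _ habA)) hyC
      have h1 : orderOf b ∣ Nat.card ↥(Cfsg.fittingSubgroup (G ⧸ Cfsg.pCore p G)) :=
        Subgroup.orderOf_dvd_natCard _ hb
      exact Nat.Coprime.coprime_dvd_left h1
        (Nat.Coprime.coprime_dvd_right hyo' (Nat.Coprime.pow_right k hAcop))
    have hy1 : (QuotientGroup.mk' (Cfsg.pCore p G) x) ^ m = 1 := by
      have h1 : orderOf ((QuotientGroup.mk' (Cfsg.pCore p G) x) ^ m) ∣
          Nat.card ↥(Cfsg.fittingSubgroup (G ⧸ Cfsg.pCore p G)) :=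
        Subgroup.orderOf_dvd_natCard _ hyA
      have h5 := Nat.dvd_gcd hyo' h1
      rw [Nat.Coprime.pow_left k hAcop.symm] at h5
      exact orderOf_eq_one_iff.mp (Nat.dvd_one.mp h5)
    apply hxb
    apply hmemA
    exact Nat.Coprime.coprime_dvd_left (orderOf_dvd_of_pow_eq_one hy1)
      ((Nat.Prime.coprime_iff_not_dvd hp).mpr hm).symm

/-- Let G be a finite solvable group in which every non-identity element has nilpotent centralizer. Then either G is nilpotent; or G has a normal subgroup K with a Frobenius complement E (K E = G, K ∩ E = 1, E meets its conjugates by outside elements trivially) such that E is cyclic or E is generated by two elementwise-commuting subgroups, one cyclic of odd order and one isomorphic to a generalized quaternion group; or G is a three-step group with respect to some prime p. -/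
theorem result {G : Type*} [Group G] [Finite G] [Group.IsSolvable G] (hCN : Cfsg.IsCNGroup G) :
    Group.IsNilpotent G ∨
      (∃ K E : Subgroup G, K.Normal ∧ Subgroup.IsComplement' K E ∧ Cfsg.IsFrobeniusComplement E ∧
        (IsCyclic E ∨ ∃ C Q : Subgroup G, C ⊔ Q = E ∧ (∀ a ∈ C, ∀ b ∈ Q, a * b = b * a) ∧ IsCyclic C ∧ Odd (Nat.card C) ∧
          ∃ n : ℕ, Nonempty (↥Q ≃* QuaternionGroup (2 ^ n)))) ∨
      ∃ p : ℕ, p.Prime ∧ Cfsg.IsThreeStepGroup p G := by
  by_cases hnil : Group.IsNilpotent G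
  · left
    exact hnil
  right
  by_cases hSyl : ∃ (p : ℕ) (_ : Fact p.Prime) (S : Sylow p G),
      (S : Subgroup G) ≠ ⊥ ∧ (S : Subgroup G).Normal
  · left
    obtain ⟨p, hp, S, hS1, hSn⟩ := hSyl
    exact partA hCN hnil p S hS1 hSn
  right
  have hSyl' : ∀ (p : ℕ) [Fact p.Prime] (S : Sylow p G), (S : Subgroup G) ≠ ⊥ →
      ¬ (S : Subgroup G).Normal := by
    intro p hp S hS1 hSn
    exact hSyl ⟨p, hp, S, hS1, hSn⟩
  -- `F(G) ≠ 1`
  have hF1 : Cfsg.fittingSubgroup G ≠ ⊥ := by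
    intro h0
    apply hnil
    have hc := centralizer_fittingSubgroup_le (G := G)
    rw [h0] at hc
    have hall : ∀ a : G, a = 1 := by
      intro a
      have ha : a ∈ Subgroup.centralizer ((⊥ : Subgroup G) : Set G) := by
        rw [Subgroup.mem_centralizer_iff]
        intro x hx
        rw [SetLike.mem_coe, Subgroup.mem_bot] at hx
        rw [hx, one_mul, mul_one]
      have := hc ha
      rwa [Subgroup.mem_bot] at this
    have hsub : Subsingleton G := ⟨fun a b => by rw [hall a, hall b]⟩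
    infer_instance
  obtain ⟨p, hp1⟩ : ∃ p : Nat.Primes, Cfsg.pCore (p : ℕ) G ≠ ⊥ := by
    by_contra hall
    push Not at hall
    apply hF1
    rw [fittingSubgroup_eq_iSup_primes]
    exact iSup_eq_bot.mpr hall
  have hpF : Fact (p : ℕ).Prime := ⟨p.2⟩
  have hq : ∀ q : Nat.Primes, q ≠ p → Cfsg.pCore (q : ℕ) G = ⊥ := by
    intro q hqp
    by_contra hq1
    have : Fact (q : ℕ).Prime := ⟨q.2⟩
    have S : Sylow (p : ℕ) G := default
    have hle := sylow_le_pCore_of_two_cores hCN (p := (p : ℕ)) (q := (q : ℕ))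
      (fun h => hqp (Subtype.ext h.symm)) hp1 hq1 S
    have heq : (S : Subgroup G) = Cfsg.pCore (p : ℕ) G := le_antisymm hle (pCore_le_sylow S)
    apply hSyl' (p : ℕ) S
    · rw [heq]
      exact hp1
    · rw [heq]
      infer_instance
  have hF : Cfsg.fittingSubgroup G = Cfsg.pCore (p : ℕ) G := by
    apply le_antisymm
    · rw [fittingSubgroup_eq_iSup_primes]
      apply iSup_le
      intro q
      by_cases hqp : q = p
      · rw [hqp]
      · rw [hq q hqp]
        exact bot_le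
    · exact pCore_le_fittingSubgroup (p : ℕ)
  have hcent : Subgroup.centralizer (Cfsg.pCore (p : ℕ) G : Set G) ≤ Cfsg.pCore (p : ℕ) G := by
    rw [← hF]
    exact centralizer_fittingSubgroup_le
  have hnS : ∀ S : Sylow (p : ℕ) G, ¬ (S : Subgroup G) ≤ Cfsg.pCore (p : ℕ) G := by
    intro S hle
    have heq : (S : Subgroup G) = Cfsg.pCore (p : ℕ) G := le_antisymm hle (pCore_le_sylow S)
    apply hSyl' (p : ℕ) S
    · rw [heq]
      exact hp1
    · rw [heq]
      infer_instance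
  exact ⟨(p : ℕ), p.2, partB hCN hp1 hcent hnS⟩

end Cfsg.Agent.S1476
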