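-- Statement S1481.
import Cfsg.Statements.S1481
import Cfsg.Agent.Lib.Helper22.Bender
import Cfsg.Agent.Lib.Helper9.Signalizer
import Cfsg.Agent.Lib.Lead.BGTrans
import Cfsg.Agent.Lib.Lead.BGTrans5

set_option autoImplicit false
open Cfsg

namespace Cfsg.Agent.S1481

open Cfsg.Agent.Lib.Helper10.BG Cfsg.Agent.Lib.Helper1 Cfsg.Agent.Lib.Helper22.Bender
open Cfsg.Agent.Lib.Helper12 (IsPiNat)

variable {G : Type*} [Group G] [Finite G]

/-- the standing hypotheses on the maximal local subgroup `H` and the subgroup `M` of `F(H)`. -/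
structure Setup (H M : Subgroup G) : Prop where
  loc : IsLocalSubgroup H
  max : ∀ L : Subgroup G, IsLocalSubgroup L → H ≤ L → L = H
  hM : M ≤ fittingOf H
  hCM : fittingOf H ⊓ Subgroup.centralizer (M : Set G) ≤ M

variable {H M : Subgroup G}

omit [Finite G] in
theorem Setup.normalizer_eq (h : Setup H M) {s : ℕ} (hs : s.Prime) {Z : Subgroup G}
    (hZ : IsPGroup s Z) (hZ1 : Z ≠ ⊥) (hHZ : H ≤ Subgroup.normalizer (Z : Set G)) :
    Subgroup.normalizer (Z : Set G) = H :=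
  h.max _ ⟨s, Z, hs, hZ, hZ1, rfl⟩ hHZ

theorem Setup.fitCenter_le (h : Setup H M) {s : ℕ} (hs : s.Prime) : fitCenter s H ≤ M := by
  intro x hx
  apply h.hCM
  refine Subgroup.mem_inf.mpr ⟨fitCenter_le_fittingOf hs H hx, ?_⟩
  exact Subgroup.centralizer_le (SetLike.coe_subset_coe.mpr h.hM) (fitCenter_le_centralizer s H hx)

theorem Setup.normalizer_fitCenter (h : Setup H M) {s : ℕ} (hs : s.Prime)
    (hdvd : s ∣ Nat.card (fittingOf H)) :
    Subgroup.normalizer (fitCenter s H : Set G) = H :=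
  h.normalizer_eq hs (isPGroup_fitCenter s H)
    (fitCenter_ne_bot H hs (pCoreOf_ne_bot_of_dvd H hs hdvd)) (le_normalizer_fitCenter s H)

theorem Setup.centralizer_le (h : Setup H M) {s : ℕ} (hs : s.Prime)
    (hdvd : s ∣ Nat.card (fittingOf H)) :
    Subgroup.centralizer (fitCenter s H : Set G) ≤ H :=
  (Subgroup.centralizer_le_normalizer _).trans (h.normalizer_fitCenter hs hdvd).le

omit [Finite G] in
/-- `M ≤ C(fitCenter)`. -/
theorem Setup.le_centralizer_fitCenter (h : Setup H M) (s : ℕ) :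
    M ≤ Subgroup.centralizer (fitCenter s H : Set G) :=
  le_centralizer_symm ((fitCenter_le_centralizer s H).trans
    (Subgroup.centralizer_le (SetLike.coe_subset_coe.mpr h.hM)))

/-- `C_H(F) ∩ R ≤ F` for a solvable subgroup `R` normalized by `C_H(F)`. -/
theorem Setup.inf_le_fittingOf (_h : Setup H M) {R : Subgroup G} (hR : Group.IsSolvable R)
    (hXR : H ⊓ Subgroup.centralizer (fittingOf H : Set G) ≤ Subgroup.normalizer (R : Set G)) :
    (H ⊓ Subgroup.centralizer (fittingOf H : Set G)) ⊓ R ≤ fittingOf H := by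
  obtain ⟨X, hX⟩ : ∃ X : Subgroup G, X = H ⊓ Subgroup.centralizer (fittingOf H : Set G) :=
    ⟨_, rfl⟩
  rw [← hX] at hXR ⊢
  obtain ⟨Y, hY⟩ : ∃ Y : Subgroup G, Y = X ⊓ R := ⟨_, rfl⟩
  rw [← hY]
  have hYR : Y ≤ R := by rw [hY]; exact inf_le_right
  have hYX : Y ≤ X := by rw [hY]; exact inf_le_left
  have hXH : X ≤ H := by rw [hX]; exact inf_le_left
  have hXC : X ≤ Subgroup.centralizer (fittingOf H : Set G) := by rw [hX]; exact inf_le_right
  have hYsolv : Group.IsSolvable Y := by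
    have := hR
    exact Group.isSolvable_of_isSolvable_injective (Subgroup.inclusion_injective hYR)
  have hHX : H ≤ Subgroup.normalizer (X : Set G) := by
    rw [hX]
    exact le_normalizer_inf Subgroup.le_normalizer
      (le_normalizer_centralizer (le_normalizer_fittingOf H))
  have hXY : X ≤ Subgroup.normalizer (Y : Set G) := by
    rw [hY]
    exact le_normalizer_inf Subgroup.le_normalizer hXR
  have h1 : fittingOf Y ≤ fittingOf X :=
    le_fittingOf ((fittingOf_le Y).trans hYX) (le_normalizer_fittingOf_of_le hXY)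
      (isNilpotent_fittingOf Y)
  have h2 : fittingOf X ≤ fittingOf H :=
    le_fittingOf ((fittingOf_le X).trans hXH) (le_normalizer_fittingOf_of_le hHX)
      (isNilpotent_fittingOf X)
  have h3 : Y ≤ Subgroup.centralizer (fittingOf Y : Set G) :=
    (hYX.trans hXC).trans
      (Subgroup.centralizer_le (SetLike.coe_subset_coe.mpr (h1.trans h2)))
  have h4 : Y ≤ fittingOf Y := (le_inf le_rfl h3).trans (inf_centralizer_fittingOf_le Y hYsolv)
  exact h4.trans (h1.trans h2)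

/-- an `M`-invariant subgroup of `R ∩ H` of order prime to `#F` is trivial. -/
theorem Setup.eq_bot_of_invariant (h : Setup H M) {R E : Subgroup G} (hR : Group.IsSolvable R)
    (hXR : H ⊓ Subgroup.centralizer (fittingOf H : Set G) ≤ Subgroup.normalizer (R : Set G))
    (hER : E ≤ R) (hEH : E ≤ H) (hME : M ≤ Subgroup.normalizer (E : Set G))
    (hcop : (Nat.card E).Coprime (Nat.card (fittingOf H))) : E = ⊥ := by
  have hEF0 : E ⊓ fittingOf H = ⊥ := inf_eq_bot_of_coprime hcop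
  have hEN : E ≤ Subgroup.normalizer (fittingOf H : Set G) := hEH.trans (le_normalizer_fittingOf H)
  have hEM : E ≤ Subgroup.centralizer (M : Set G) := by
    apply le_centralizer_of_commute
    intro e he m hm
    have h1 : e * m * e⁻¹ * m⁻¹ ∈ fittingOf H :=
      (fittingOf H).mul_mem (conj_mem_of_mem_normalizer (hEN he) (h.hM hm))
        ((fittingOf H).inv_mem (h.hM hm))
    have h2 : e * m * e⁻¹ * m⁻¹ ∈ E := by
      have h3 : m * e⁻¹ * m⁻¹ ∈ E := conj_mem_of_mem_normalizer (hME hm) (E.inv_mem he)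
      have h4 : e * m * e⁻¹ * m⁻¹ = e * (m * e⁻¹ * m⁻¹) := by group
      rw [h4]
      exact E.mul_mem he h3
    have h5 : e * m * e⁻¹ * m⁻¹ ∈ E ⊓ fittingOf H := Subgroup.mem_inf.mpr ⟨h2, h1⟩
    rw [hEF0, Subgroup.mem_bot] at h5
    calc e * m = (e * m * e⁻¹ * m⁻¹) * (m * e) := by group
      _ = m * e := by rw [h5, one_mul]
  have hEF : E ≤ Subgroup.centralizer (fittingOf H : Set G) :=
    le_centralizer_of_nilpotent (isNilpotent_fittingOf H) h.hM h.hCM hEN hcop hEM
  have h6 : E ≤ fittingOf H :=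
    (le_inf (le_inf hEH hEF) hER).trans (h.inf_le_fittingOf hR hXR)
  rw [eq_bot_iff, ← hEF0]
  exact le_inf le_rfl h6


/-- the key step: an `M`-invariant `q`-subgroup of `R` lies in `O_{p'}(R M)`. -/
theorem Setup.le_ppCoreOf (h : Setup H M) {p r q : ℕ} (hp : p.Prime) (hr : r.Prime)
    (hq : q.Prime) (hpr : p ≠ r) (hpF : p ∣ Nat.card (fittingOf H))
    (hrF : r ∣ Nat.card (fittingOf H)) (hqF : ¬ q ∣ Nat.card (fittingOf H))
    {R Q : Subgroup G} (hR : Group.IsSolvable R)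
    (hMR : M ≤ Subgroup.normalizer (R : Set G))
    (hXR : H ⊓ Subgroup.centralizer (fittingOf H : Set G) ≤ Subgroup.normalizer (R : Set G))
    (hQR : Q ≤ R) (hMQ : M ≤ Subgroup.normalizer (Q : Set G)) (hQ : IsPGroup q Q) :
    Q ≤ ppCoreOf p (R ⊔ M) := by
  have : Fact p.Prime := ⟨hp⟩
  have : Fact r.Prime := ⟨hr⟩
  have : Fact q.Prime := ⟨hq⟩
  have hqr : q ≠ r := fun hh => hqF (hh ▸ hrF)
  have hqp : q ≠ p := fun hh => hqF (hh ▸ hpF)
  obtain ⟨Γ, hΓ⟩ : ∃ Γ : Subgroup G, Γ = R ⊔ M := ⟨_, rfl⟩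
  rw [← hΓ]
  have hRΓ : R ≤ Γ := by rw [hΓ]; exact le_sup_left
  have hMΓ : M ≤ Γ := by rw [hΓ]; exact le_sup_right
  have hMsolv : Group.IsSolvable M := by
    have := isNilpotent_of_le h.hM (isNilpotent_fittingOf H)
    infer_instance
  have hΓsolv : Group.IsSolvable Γ := by
    rw [hΓ]
    exact Cfsg.Agent.Lib.Helper9.isSolvable_sup_of_le_normalizer hR hMsolv hMR
  obtain ⟨Zp, hZp⟩ : ∃ Z : Subgroup G, Z = fitCenter p H := ⟨_, rfl⟩
  obtain ⟨Zr, hZr⟩ : ∃ Z : Subgroup G, Z = fitCenter r H := ⟨_, rfl⟩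
  have hZpM : Zp ≤ M := by rw [hZp]; exact h.fitCenter_le hp
  have hZrM : Zr ≤ M := by rw [hZr]; exact h.fitCenter_le hr
  have hZpG : IsPGroup p Zp := by rw [hZp]; exact isPGroup_fitCenter p H
  have hZrG : IsPGroup r Zr := by rw [hZr]; exact isPGroup_fitCenter r H
  have hNp : Subgroup.normalizer (Zp : Set G) = H := by
    rw [hZp]; exact h.normalizer_fitCenter hp hpF
  have hNr : Subgroup.normalizer (Zr : Set G) = H := by
    rw [hZr]; exact h.normalizer_fitCenter hr hrF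
  have hCr : Subgroup.centralizer (Zr : Set G) ≤ H := by
    rw [hZr]; exact h.centralizer_le hr hrF
  have hMCr : M ≤ Subgroup.centralizer (Zr : Set G) := by
    rw [hZr]; exact h.le_centralizer_fitCenter r
  -- `C_Q(Z_r) = 1`
  have hQC : Q ⊓ Subgroup.centralizer (Zr : Set G) = ⊥ := by
    apply h.eq_bot_of_invariant hR hXR (inf_le_left.trans hQR) (inf_le_right.trans hCr)
    · exact le_normalizer_inf hMQ
        (le_normalizer_centralizer (hMCr.trans (Subgroup.centralizer_le_normalizer _)))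
    · have h1 : (Nat.card Q).Coprime (Nat.card (fittingOf H)) := by
        obtain ⟨k, hk⟩ := hQ.exists_card_eq
        rw [hk]
        exact Nat.Coprime.pow_left k ((Nat.Prime.coprime_iff_not_dvd hq).mpr hqF)
      exact Nat.Coprime.coprime_dvd_left (Subgroup.card_dvd_of_le inf_le_left) h1
  have hactQ : CoprimeAct Zr Q := coprimeAct_of_pgroups (Ne.symm hqr) hZrG hQ (hZrM.trans hMQ)
  have hQcomm : Q = ⁅Q, Zr⁆ := by
    have h1 := hactQ.commutator_sup_centralizer
    rw [hQC, sup_bot_eq] at h1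
    exact h1.symm
  -- transport to `Γ`
  have := hΓsolv
  have hkey : Q.subgroupOf Γ ≤ pPrimeCore p Γ := by
    apply le_pPrimeCore_of_commutator hpr (Zp := Zp.subgroupOf Γ) (Zr := Zr.subgroupOf Γ)
      hZpG.comap_subtype ?_ hZrG.comap_subtype ?_ ?_ ?_ ?_
    · intro a ha b hb
      apply Subtype.ext
      have ha' : (a : G) ∈ fitCenter p H := by rw [← hZp]; exact ha
      have hb' : (b : G) ∈ fitCenter p H := by rw [← hZp]; exact hb
      exact commute_fitCenter_self hp H ha' hb'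
    · intro a ha b hb
      apply Subtype.ext
      have ha' : (a : G) ∈ fitCenter p H := by rw [← hZp]; exact ha
      have hb' : (b : G) ∈ fitCenter r H := by rw [← hZr]; exact hb
      exact commute_fitCenter H ha' hb' hr
    · intro y hy
      apply mem_normalizer_subgroupOf
      rw [hNr, ← hNp, Subgroup.mem_normalizer_iff]
      intro z
      constructor
      · intro hz
        have hzΓ : z ∈ Γ := hMΓ (hZpM hz)
        have h1 := (Subgroup.mem_normalizer_iff.mp hy ⟨z, hzΓ⟩).mp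
          (by rw [Subgroup.mem_subgroupOf]; exact hz)
        rw [Subgroup.mem_subgroupOf] at h1
        exact h1
      · intro hz
        have hzΓ : z ∈ Γ := by
          have h2 : (y : G)⁻¹ * ((y : G) * z * (y : G)⁻¹) * (y : G) ∈ Γ :=
            Γ.mul_mem (Γ.mul_mem (Γ.inv_mem y.2) (hMΓ (hZpM hz))) y.2
          have h3 : (y : G)⁻¹ * ((y : G) * z * (y : G)⁻¹) * (y : G) = z := by group
          rwa [h3] at h2
        have h1 := (Subgroup.mem_normalizer_iff.mp hy ⟨z, hzΓ⟩).mpr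
          (by rw [Subgroup.mem_subgroupOf]; exact hz)
        rw [Subgroup.mem_subgroupOf] at h1
        exact h1
    · apply Subgroup.map_injective Γ.subtype_injective
      rw [Subgroup.map_commutator, Subgroup.map_subgroupOf_eq_of_le (hQR.trans hRΓ),
        Subgroup.map_subgroupOf_eq_of_le (hZrM.trans hMΓ)]
      exact hQcomm
    · rw [card_subgroupOf_of_le (hQR.trans hRΓ)]
      obtain ⟨k, hk⟩ := hQ.exists_card_eq
      rw [hk]
      exact Nat.Coprime.pow_left k ((Nat.coprime_primes hq hp).mpr hqp)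
  intro x hx
  rw [mem_ppCoreOf_iff]
  exact ⟨hRΓ (hQR hx), hkey (by rw [Subgroup.mem_subgroupOf]; exact hx)⟩


/-- every `M`-invariant `q`-subgroup of `R` lies in `O_{π'}(R)`. -/
theorem Setup.le_piCoreOf (h : Setup H M)
    (hF2 : 2 ≤ (Nat.card (fittingOf H)).primeFactors.card) {q : ℕ} (hq : q.Prime)
    (hqF : ¬ q ∣ Nat.card (fittingOf H))
    {R Q : Subgroup G} (hR : Group.IsSolvable R)
    (hMR : M ≤ Subgroup.normalizer (R : Set G))
    (hXR : H ⊓ Subgroup.centralizer (fittingOf H : Set G) ≤ Subgroup.normalizer (R : Set G))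
    (hQR : Q ≤ R) (hMQ : M ≤ Subgroup.normalizer (Q : Set G)) (hQ : IsPGroup q Q) :
    Q ≤ piCoreOf (primesNotDvd (Nat.card (fittingOf H))) R := by
  obtain ⟨W, hW⟩ : ∃ W : Subgroup G, W = R ⊓
      ⨅ p : {p : ℕ // p ∈ (Nat.card (fittingOf H)).primeFactors}, ppCoreOf (p : ℕ) (R ⊔ M) :=
    ⟨_, rfl⟩
  have hQW : Q ≤ W := by
    rw [hW]
    refine le_inf hQR (le_iInf ?_)
    rintro ⟨p, hp⟩
    obtain ⟨r, hr, hrp⟩ := Finset.exists_mem_ne
      (s := (Nat.card (fittingOf H)).primeFactors) (by omega) p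
    exact h.le_ppCoreOf (Nat.prime_of_mem_primeFactors hp) (Nat.prime_of_mem_primeFactors hr) hq
      (Ne.symm hrp) (Nat.dvd_of_mem_primeFactors hp) (Nat.dvd_of_mem_primeFactors hr) hqF hR hMR
      hXR hQR hMQ hQ
  refine hQW.trans ?_
  apply Cfsg.Agent.Lib.Lead.BGTrans.le_piCoreOf
  · rw [hW]; exact inf_le_left
  · intro x hx w hw
    rw [hW] at hw ⊢
    obtain ⟨hw1, hw2⟩ := Subgroup.mem_inf.mp hw
    refine Subgroup.mem_inf.mpr ⟨R.mul_mem (R.mul_mem hx hw1) (R.inv_mem hx), ?_⟩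
    rw [Subgroup.mem_iInf] at hw2 ⊢
    intro p
    exact conj_mem_of_mem_normalizer
      (le_normalizer_ppCoreOf (p : ℕ) (R ⊔ M) ((le_sup_left : R ≤ R ⊔ M) hx)) (hw2 p)
  · intro s hs hsd
    refine ⟨hs, fun hsF => ?_⟩
    have hmem : s ∈ (Nat.card (fittingOf H)).primeFactors :=
      Nat.mem_primeFactors.mpr ⟨hs, hsF, Nat.card_pos.ne'⟩
    have h1 : W ≤ ppCoreOf s (R ⊔ M) := by
      rw [hW]
      exact inf_le_right.trans (iInf_le _ (⟨s, hmem⟩ : {p : ℕ // p ∈ _}))
    have h2 : s ∣ Nat.card (ppCoreOf s (R ⊔ M)) := hsd.trans (Subgroup.card_dvd_of_le h1)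
    have h3 := coprime_card_ppCoreOf s (R ⊔ M)
    exact hs.one_lt.ne' (Nat.eq_one_of_dvd_coprimes h3 h2 dvd_rfl)


/-- Let G be a finite group and H a local subgroup (the normalizer of a nontrivial subgroup of prime-power order) not properly contained in any local subgroup; let F = F(H), suppose at least two primes divide #F, put X = H ∩ C_G(F), let M ≤ F with F ∩ C_G(M) ≤ M, and let R be a solvable subgroup normalized by M and by X. Then for every prime q not dividing #F there is exactly one maximal M-invariant q-subgroup of R, and it is a Sylow q-subgroup of the largest normal subgroup of R of order coprime to #F. -/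
theorem result {G : Type*} [Group G] [Finite G] (H : Subgroup G) (hH : Cfsg.IsLocalSubgroup H) (hHmax : ∀ L : Subgroup G, Cfsg.IsLocalSubgroup L → H ≤ L → L = H)
    (hF2 : 2 ≤ (Nat.card (Cfsg.fittingOf H)).primeFactors.card)
    (M : Subgroup G) (hM : M ≤ Cfsg.fittingOf H) (hCM : Cfsg.fittingOf H ⊓ Subgroup.centralizer (M : Set G) ≤ M)
    (R : Subgroup G) (hR : Group.IsSolvable R) (hMR : M ≤ Subgroup.normalizer (R : Set G))
    (hXR : H ⊓ Subgroup.centralizer (Cfsg.fittingOf H : Set G) ≤ Subgroup.normalizer (R : Set G))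
    (q : ℕ) [Fact q.Prime] (hq : ¬ q ∣ Nat.card (Cfsg.fittingOf H)) :
    ∃! Q : Subgroup G, Q ∈ Cfsg.maxInvSubgroups R M {q} ∧
      (∀ Q' : Subgroup G, Q' ∈ Cfsg.maxInvSubgroups R M {q} →
        Q' ≤ Cfsg.piCoreOf (Cfsg.primesNotDvd (Nat.card (Cfsg.fittingOf H))) R ∧
        ¬ q ∣ Q'.relIndex (Cfsg.piCoreOf (Cfsg.primesNotDvd (Nat.card (Cfsg.fittingOf H))) R)) := by
  have h : Setup H M := ⟨hH, hHmax, hM, hCM⟩
  have hqp : q.Prime := Fact.out
  obtain ⟨R₀, hR₀⟩ : ∃ R₀ : Subgroup G,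
      R₀ = piCoreOf (primesNotDvd (Nat.card (fittingOf H))) R := ⟨_, rfl⟩
  rw [← hR₀]
  have hR₀R : R₀ ≤ R := by rw [hR₀]; exact Cfsg.Agent.Lib.Lead.BGTrans.piCoreOf_le _ R
  have hcop0 : (Nat.card R₀).Coprime (Nat.card (fittingOf H)) := by
    rw [hR₀]
    exact Cfsg.Agent.Lib.Lead.BGTrans.coprime_of_isPiNat_primesNotDvd
      (Cfsg.Agent.Lib.Lead.BGTrans.piCoreOf_isPiNat _ R)
  have hMR₀ : M ≤ Subgroup.normalizer (R₀ : Set G) := by
    rw [hR₀]
    exact hMR.trans (Cfsg.Agent.Lib.Lead.BGTrans5.normalizer_le_normalizer_piCoreOf _ R)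
  have hMsolv : Group.IsSolvable M := by
    have := isNilpotent_of_le hM (isNilpotent_fittingOf H)
    infer_instance
  have hact : CoprimeAct M R₀ :=
    ⟨hMR₀, Nat.Coprime.coprime_dvd_left (Subgroup.card_dvd_of_le hM) hcop0.symm, Or.inl hMsolv⟩
  obtain ⟨s, hs⟩ : (Nat.card (fittingOf H)).primeFactors.Nonempty :=
    Finset.card_pos.mp (by omega)
  have hsp := Nat.prime_of_mem_primeFactors hs
  have hsd := Nat.dvd_of_mem_primeFactors hs
  have hCM' : Subgroup.centralizer (M : Set G) ≤ H :=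
    (Subgroup.centralizer_le (SetLike.coe_subset_coe.mpr (h.fitCenter_le hsp))).trans
      (h.centralizer_le hsp hsd)
  have hfix : R₀ ⊓ Subgroup.centralizer (M : Set G) = ⊥ := by
    apply h.eq_bot_of_invariant hR hXR (inf_le_left.trans hR₀R) (inf_le_right.trans hCM')
    · exact le_normalizer_inf hMR₀ (le_normalizer_centralizer Subgroup.le_normalizer)
    · exact Nat.Coprime.coprime_dvd_left (Subgroup.card_dvd_of_le inf_le_left) hcop0
  obtain ⟨P₀, hP₀⟩ := hact.exists_invariant_sylSet q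
  have hkey : ∀ Y ∈ invSubgroups R M {q}, Y ≤ P₀.1 := by
    rintro Y ⟨hYR, hYpi, hMY⟩
    have hYq : IsPGroup q Y := by
      have h1 := Nat.eq_prime_pow_of_unique_prime_dvd (n := Nat.card Y) (p := q)
        Nat.card_pos.ne' (fun {d} hd hdvd => Set.mem_singleton_iff.mp (hYpi d hd hdvd))
      exact IsPGroup.of_card h1
    have hYR₀ : Y ≤ R₀ := by
      rw [hR₀]; exact h.le_piCoreOf hF2 hqp hq hR hMR hXR hYR hMY hYq
    obtain ⟨P, hYP, hMP⟩ := hact.exists_invariant_sylSet_ge _ Y rfl hYR₀ hYq hMY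
    obtain ⟨c, hc, hcP⟩ := hact.exists_conj_sylSet P P₀ hMP hP₀
    rw [hfix, Subgroup.mem_bot] at hc
    rw [hc, map_one, one_smul] at hcP
    rw [← hcP]; exact hYP
  have hP₀inv : P₀.1 ∈ invSubgroups R M {q} := by
    refine ⟨P₀.2.1.trans hR₀R, ?_, hP₀⟩
    intro d hd hdvd
    rw [P₀.2.2] at hdvd
    exact Set.mem_singleton_iff.mpr
      ((Nat.prime_dvd_prime_iff_eq hd hqp).mp (hd.dvd_of_dvd_pow hdvd))
  have hP₀max : P₀.1 ∈ maxInvSubgroups R M {q} :=
    ⟨hP₀inv, fun Y hY hle => le_antisymm (hkey Y hY) hle⟩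
  have huniq : ∀ Q' ∈ maxInvSubgroups R M {q}, Q' = P₀.1 := by
    rintro Q' ⟨hQ'inv, hQ'max⟩
    exact (hQ'max P₀.1 hP₀inv (hkey Q' hQ'inv)).symm
  refine ⟨P₀.1, ⟨hP₀max, ?_⟩, fun Q₂ hQ₂ => huniq Q₂ hQ₂.1⟩
  intro Q' hQ'
  rw [huniq Q' hQ']
  refine ⟨P₀.2.1, ?_⟩
  have h1 : Nat.card P₀.1 * P₀.1.relIndex R₀ = Nat.card R₀ := card_mul_relIndex_of_le P₀.2.1
  rw [P₀.2.2] at h1
  have h2 := Nat.div_eq_of_eq_mul_right (pow_pos hqp.pos _) h1.symm
  rw [← h2]
  exact Nat.not_dvd_ordCompl hqp Nat.card_pos.ne'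

end Cfsg.Agent.S1481
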