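-- Statement S1482.
import Cfsg.Statements.S1482
import Cfsg.Agent.Lib.Helper22.Bender
import Cfsg.Agent.Lib.Helper10.BGUniq

set_option autoImplicit false
open Cfsg

namespace Cfsg.Agent.S1482

open Cfsg.Agent.Lib.Helper10.BG Cfsg.Agent.Lib.Helper1 Cfsg.Agent.Lib.Helper22.Bender

variable {G : Type*} [Group G] [Finite G]

/-- if the `p`- and `r`-parts of `Z(F(H₁))` lie in `H₂`, the `r`-part centralizes `O_p(H₂)`. -/
theorem fitCenter_le_centralizer_pCoreOf (hG : IsMinSimpleOddOrder G) {H₁ H₂ : Subgroup G}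
    (h₁ : IsCoatom H₁) {p r : ℕ} (hp : p.Prime) (hr : r.Prime) (hpr : p ≠ r)
    (hp1 : pCoreOf p H₁ ≠ ⊥) (hr1 : pCoreOf r H₁ ≠ ⊥)
    (hpL : fitCenter p H₁ ≤ H₂) (hrL : fitCenter r H₁ ≤ H₂) :
    fitCenter r H₁ ≤ Subgroup.centralizer (pCoreOf p H₂ : Set G) := by
  have : Fact p.Prime := ⟨hp⟩
  have : Fact r.Prime := ⟨hr⟩
  have hNp : Subgroup.normalizer (fitCenter p H₁ : Set G) = H₁ :=
    normalizer_eq_of_isCoatom' hG h₁ (fitCenter_ne_bot H₁ hp hp1) (fitCenter_le p H₁)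
      (le_normalizer_fitCenter p H₁)
  have hNr : Subgroup.normalizer (fitCenter r H₁ : Set G) = H₁ :=
    normalizer_eq_of_isCoatom' hG h₁ (fitCenter_ne_bot H₁ hr hr1) (fitCenter_le r H₁)
      (le_normalizer_fitCenter r H₁)
  apply le_centralizer_of_normalizer_le hpr (isPGroup_fitCenter p H₁)
    (fun a ha b hb => commute_fitCenter_self hp H₁ ha hb) (isPGroup_fitCenter r H₁)
    (fun a ha b hb => commute_fitCenter H₁ ha hb hr) (isPGroup_pCoreOf p H₂)
    (hpL.trans (le_normalizer_pCoreOf p H₂)) (hrL.trans (le_normalizer_pCoreOf p H₂))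
  exact inf_le_right.trans ((Subgroup.centralizer_le_normalizer _).trans (hNp.le.trans hNr.ge))

/-- in the situation of the previous lemma, `O_p(H₂) ≤ H₁`. -/
theorem pCoreOf_le_of_fitCenter_le (hG : IsMinSimpleOddOrder G) {H₁ H₂ : Subgroup G}
    (h₁ : IsCoatom H₁) {p r : ℕ} (hp : p.Prime) (hr : r.Prime) (hpr : p ≠ r)
    (hp1 : pCoreOf p H₁ ≠ ⊥) (hr1 : pCoreOf r H₁ ≠ ⊥)
    (hpL : fitCenter p H₁ ≤ H₂) (hrL : fitCenter r H₁ ≤ H₂) : pCoreOf p H₂ ≤ H₁ := by
  have h := fitCenter_le_centralizer_pCoreOf hG h₁ hp hr hpr hp1 hr1 hpL hrL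
  exact (le_centralizer_symm h).trans
    (centralizer_le_of_isCoatom hG h₁ (fitCenter_ne_bot H₁ hr hr1) (fitCenter_le r H₁)
      (le_normalizer_fitCenter r H₁))

/-- `O_q(H) = 1` when `q` does not divide `#F(H)`. -/
theorem pCoreOf_eq_bot_of_not_dvd (H : Subgroup G) {q : ℕ} (hq : q.Prime)
    (h : ¬ q ∣ Nat.card (fittingOf H)) : pCoreOf q H = ⊥ := by
  have : Fact q.Prime := ⟨hq⟩
  apply eq_bot_of_le_of_coprime (pCoreOf_le_fittingOf hq H)
  obtain ⟨k, hk⟩ := (isPGroup_pCoreOf q H).exists_card_eq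
  rw [hk]
  exact Nat.Coprime.pow_left k ((Nat.Prime.coprime_iff_not_dvd hq).mpr h)


/-- every maximal subgroup containing `M` is linked to `H`. -/
theorem linked_of_le (hG : IsMinSimpleOddOrder G) {H M : Subgroup G} (hH : IsCoatom H)
    (hF2 : 2 ≤ (Nat.card (fittingOf H)).primeFactors.card)
    (hZM : fittingOf H ⊓ Subgroup.centralizer (fittingOf H : Set G) ≤ M)
    (hinv : ∀ Y ∈ invSubgroups ⊤ M (primesNotDvd (Nat.card (fittingOf H))), Y = ⊥)
    {L : Subgroup G} (hL : IsCoatom L) (hML : M ≤ L) :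
    Linked H L ∧ ∀ q : ℕ, q.Prime → q ∣ Nat.card (fittingOf H) → pCoreOf q L ≠ ⊥ := by
  have hother : ∀ p : ℕ, ∃ r : ℕ, r.Prime ∧ r ∣ Nat.card (fittingOf H) ∧ r ≠ p := by
    intro p
    obtain ⟨r, hr, hrp⟩ := Finset.exists_mem_ne
      (s := (Nat.card (fittingOf H)).primeFactors) (by omega) p
    exact ⟨r, Nat.prime_of_mem_primeFactors hr, Nat.dvd_of_mem_primeFactors hr, hrp⟩
  have hne : ∀ q : ℕ, q.Prime → q ∣ Nat.card (fittingOf H) → pCoreOf q H ≠ ⊥ :=
    fun q hq hd => pCoreOf_ne_bot_of_dvd H hq hd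
  have hZL : ∀ q : ℕ, q.Prime → fitCenter q H ≤ L := by
    intro q hq x hx
    exact hML (hZM (Subgroup.mem_inf.mpr
      ⟨fitCenter_le_fittingOf hq H hx, fitCenter_le_centralizer q H hx⟩))
  have hLsolv := isSolvable_of_ne_top hG hL.1
  have hbotL : ∀ q : ℕ, q.Prime → ¬ q ∣ Nat.card (fittingOf H) → pCoreOf q L = ⊥ := by
    intro q hq hqF
    apply hinv
    exact ⟨le_top, Cfsg.Agent.Lib.Lead.BGTrans.isPiNat_of_pgroup hq hqF (isPGroup_pCoreOf q L),
      hML.trans (le_normalizer_pCoreOf q L)⟩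
  have le₁ : ∀ q : ℕ, q.Prime → pCoreOf q L ≤ H := by
    intro q hq
    by_cases hqF : q ∣ Nat.card (fittingOf H)
    · obtain ⟨r, hr, hrF, hrq⟩ := hother q
      exact pCoreOf_le_of_fitCenter_le hG hH hq hr (Ne.symm hrq) (hne q hq hqF) (hne r hr hrF)
        (hZL q hq) (hZL r hr)
    · rw [hbotL q hq hqF]; exact bot_le
  have hLne : ∀ q : ℕ, q.Prime → q ∣ Nat.card (fittingOf H) → pCoreOf q L ≠ ⊥ := by
    intro q hq hqF hbot
    have : Fact q.Prime := ⟨hq⟩
    have hcent : fitCenter q H ≤ Subgroup.centralizer (fittingOf L : Set G) := by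
      intro x hx
      rw [fittingOf_eq_iSup, mem_centralizer_iSup_iff]
      intro p
      by_cases hpq : (p : ℕ) = q
      · rw [hpq, hbot, Subgroup.mem_centralizer_iff]
        intro y hy
        rw [SetLike.mem_coe, Subgroup.mem_bot] at hy
        rw [hy, one_mul, mul_one]
      · by_cases hpF : (p : ℕ) ∣ Nat.card (fittingOf H)
        · exact fitCenter_le_centralizer_pCoreOf hG hH p.2 hq hpq (hne p p.2 hpF) (hne q hq hqF)
            (hZL p p.2) (hZL q hq) hx
        · rw [hbotL p p.2 hpF, Subgroup.mem_centralizer_iff]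
          intro y hy
          rw [SetLike.mem_coe, Subgroup.mem_bot] at hy
          rw [hy, one_mul, mul_one]
    have h1 : fitCenter q H ≤ fittingOf L :=
      (le_inf (hZL q hq) hcent).trans (inf_centralizer_fittingOf_le L hLsolv)
    rw [fittingOf_eq_sup hq L, hbot, bot_sup_eq] at h1
    have h2 : fitCenter q H ≤ ppCoreOf q L := h1.trans (fitCompl_le_ppCoreOf hq L)
    have h3 : fitCenter q H = ⊥ := by
      apply eq_bot_of_le_of_coprime h2
      obtain ⟨k, hk⟩ := (isPGroup_fitCenter q H).exists_card_eq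
      rw [hk]
      exact Nat.Coprime.pow_left k (coprime_card_ppCoreOf q L).symm
    exact fitCenter_ne_bot H hq (hne q hq hqF) h3
  have le₂ : ∀ q : ℕ, q.Prime → pCoreOf q H ≤ L := by
    intro q hq
    by_cases hqF : q ∣ Nat.card (fittingOf H)
    · obtain ⟨r, hr, hrF, hrq⟩ := hother q
      exact pCoreOf_le_of_fitCenter_le hG hL hq hr (Ne.symm hrq) (hLne q hq hqF) (hLne r hr hrF)
        ((fitCenter_le_pCoreOf q L).trans (le₁ q hq)) ((fitCenter_le_pCoreOf r L).trans (le₁ r hr))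
    · rw [pCoreOf_eq_bot_of_not_dvd H hq hqF]; exact bot_le
  refine ⟨⟨le₁, le₂, ?_⟩, hLne⟩
  intro q r hq hr hqr
  by_cases hrF : r ∣ Nat.card (fittingOf H)
  · by_cases hqF : q ∣ Nat.card (fittingOf H)
    · have : Fact q.Prime := ⟨hq⟩
      have hW : pCoreOf r H ≤ ppCoreOf q L := by
        apply le_ppCoreOf_of_balance hLsolv (hZL q hq) (isPGroup_fitCenter q H) (le₂ r hr)
        · exact le_centralizer_symm ((fitCenter_le_centralizer q H).trans
            (Subgroup.centralizer_le (SetLike.coe_subset_coe.mpr (pCoreOf_le_fittingOf hr H))))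
        · exact coprime_card_prime_of_isPGroup hq hr hqr (isPGroup_pCoreOf r H)
        · exact inf_le_right.trans
            ((centralizer_le_of_isCoatom hG hH (fitCenter_ne_bot H hq (hne q hq hqF))
              (fitCenter_le q H) (le_normalizer_fitCenter q H)).trans (le_normalizer_pCoreOf r H))
      intro x hx
      rw [Subgroup.mem_centralizer_iff]
      intro y hy
      exact (commute_pCoreOf_ppCoreOf q L hx (hW hy)).symm
    · rw [hbotL q hq hqF]; exact bot_le
  · intro x _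
    rw [pCoreOf_eq_bot_of_not_dvd H hr hrF, Subgroup.mem_centralizer_iff]
    intro y hy
    rw [SetLike.mem_coe, Subgroup.mem_bot] at hy
    rw [hy, one_mul, mul_one]

/-- Let G be a minimal simple group of odd order, H a maximal subgroup whose Fitting subgroup F has at least two prime divisors, and M a subgroup of F containing the centre of F such that the only M-invariant subgroup of G of order coprime to #F is the trivial one. Then H is the only maximal subgroup of G containing M. -/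
theorem result {G : Type*} [Group G] [Finite G] (hG : Cfsg.IsMinSimpleOddOrder G) (H : Subgroup G) (hH : IsCoatom H) (hF2 : 2 ≤ (Nat.card (Cfsg.fittingOf H)).primeFactors.card)
    (M : Subgroup G) (hM : M ≤ Cfsg.fittingOf H) (hZM : Cfsg.fittingOf H ⊓ Subgroup.centralizer (Cfsg.fittingOf H : Set G) ≤ M)
    (hinv : ∀ Y ∈ Cfsg.invSubgroups ⊤ M (Cfsg.primesNotDvd (Nat.card (Cfsg.fittingOf H))), Y = ⊥) :
    ∀ L : Subgroup G, IsCoatom L → M ≤ L → L = H := by
  intro L hL hML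
  by_contra hLH
  obtain ⟨q₁, hq₁, q₂, hq₂, hq₁₂⟩ := Finset.one_lt_card.mp
    (show 1 < (Nat.card (fittingOf H)).primeFactors.card by omega)
  have hp₁ := Nat.prime_of_mem_primeFactors hq₁
  have hp₂ := Nat.prime_of_mem_primeFactors hq₂
  have hd₁ := Nat.dvd_of_mem_primeFactors hq₁
  have hd₂ := Nat.dvd_of_mem_primeFactors hq₂
  have : Fact q₁.Prime := ⟨hp₁⟩
  have hFp : pCoreOf q₁ H ≠ ⊥ := pCoreOf_ne_bot_of_dvd H hp₁ hd₁
  have hF₂ : pCoreOf q₂ H ≠ ⊥ := pCoreOf_ne_bot_of_dvd H hp₂ hd₂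
  have hFc : fitCompl q₁ H ≠ ⊥ := by
    intro h
    apply hF₂
    rw [eq_bot_iff, ← h]
    exact pCoreOf_le_fitCompl hp₂ (Ne.symm hq₁₂) H
  obtain ⟨𝓗, h𝓗⟩ : ∃ 𝓗 : Set (Subgroup G), 𝓗 = {L | IsCoatom L ∧ M ≤ L ∧ L ≠ H} := ⟨_, rfl⟩
  have hempty : 𝓗 = ∅ := by
    apply no_linked_family hG hH hFp hFc 𝓗
    · intro L' hL'
      rw [h𝓗] at hL'
      obtain ⟨hL'c, hL'M, hL'H⟩ := hL'
      obtain ⟨hl, hne⟩ := linked_of_le hG hH hF2 hZM hinv hL'c hL'M
      refine ⟨hL'c, hL'H, hl, ?_⟩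
      intro h
      apply hne q₂ hp₂ hd₂
      rw [eq_bot_iff, ← h]
      exact pCoreOf_le_fitCompl hp₂ (Ne.symm hq₁₂) L'
    · intro T _ hFT hTC L' hL' hNL
      by_cases hL'H : L' = H
      · exact Or.inl hL'H
      · right
        rw [h𝓗]
        refine ⟨hL', ?_, hL'H⟩
        refine hM.trans ?_
        rw [fittingOf_eq_sup hp₁ H]
        refine sup_le ((hFT.trans Subgroup.le_normalizer).trans hNL) ?_
        exact ((le_centralizer_symm hTC).trans (Subgroup.centralizer_le_normalizer _)).trans hNL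
  have hmem : L ∈ 𝓗 := by
    rw [h𝓗]
    exact ⟨hL, hML, hLH⟩
  rw [hempty] at hmem
  exact hmem

end Cfsg.Agent.S1482
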