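import Cfsg.Statements.S1486
import Cfsg.Agent.Lib.Helper11.Clifford

set_option autoImplicit false
open Cfsg

namespace Cfsg.Agent.S1486

open Cfsg.Agent.Lib.Helper2 Cfsg.Agent.Lib.Helper11

theorem result {G : Type*} [Group G] [Fintype G] (H : Subgroup G) [hN : H.Normal] (θ φ : H → ℂ) (hθ : Cfsg.IsIrrCharacter H θ) (hφ : Cfsg.IsIrrCharacter H φ) : ((∃ g : G, φ = fun h : H => θ ⟨g * h * g⁻¹, hN.conj_mem h h.2 g⟩) → Cfsg.indFun H φ = Cfsg.indFun H θ) ∧ ((¬ ∃ g : G, φ = fun h : H => θ ⟨g * h * g⁻¹, hN.conj_mem h h.2 g⟩) → Cfsg.classInner (Cfsg.indFun H φ) (Cfsg.indFun H θ) = 0) := by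
  classical
  refine ⟨?_, ?_⟩
  · rintro ⟨g, rfl⟩
    exact indFun_conjFn H g θ
  · intro hne
    haveI : Fintype H := Fintype.ofFinite H
    rw [frobenius_reciprocity H φ _ (indFun_isClassFunction H θ), indFun_restrict_eq,
      classInner_smul_right, classInner_sum_right]
    have : ∀ g : G, Cfsg.classInner φ (conjFn H g θ) = 0 := by
      intro g
      have hirr : Cfsg.IsIrrCharacter H (conjFn H g θ) := conjFn_isIrrCharacter H g hθ
      have hne' : (⟨φ, hφ⟩ : Cfsg.IrrCharacter H) ≠ ⟨conjFn H g θ, hirr⟩ := by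
        intro h
        apply hne
        exact ⟨g, congrArg Subtype.val h⟩
      exact classInner_irrCharacter_ne hne'
    simp [this]

end Cfsg.Agent.S1486
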