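import Cfsg.Statements.S1487
import Cfsg.Agent.Lib.Helper11.Clifford

set_option autoImplicit false
open Cfsg

namespace Cfsg.Agent.S1487

open Cfsg.Agent.Lib.Helper2 Cfsg.Agent.Lib.Helper11

theorem result {G : Type*} [Group G] [Fintype G] (A H : Subgroup G) [A.Normal] [H.Normal] (hAH : A ≤ H) (θ : H → ℂ) (hθ : Cfsg.IsIrrCharacter H θ) : (∀ a : H, (a : G) ∈ A → θ a = θ 1) ↔ (∀ a : G, a ∈ A → Cfsg.indFun H θ a = Cfsg.indFun H θ 1) := by
  classical
  have hA : A.Normal := inferInstance
  have hN : H.Normal := inferInstance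
  have hone : ∀ g : G, conjFn H g θ 1 = θ 1 := by
    intro g
    rw [conjFn_apply]
    congr 1
    ext
    simp
  have hind1 : Cfsg.indFun H θ 1 = (Nat.card H : ℂ)⁻¹ * ∑ _g : G, θ 1 := by
    have := indFun_apply_of_normal H θ 1
    simp only [OneMemClass.coe_one] at this
    rw [this]
    congr 1
    exact Finset.sum_congr rfl (fun g _ => hone g)
  constructor
  · intro h a ha
    have := indFun_apply_of_normal H θ ⟨a, hAH ha⟩
    simp only at this
    rw [this, hind1]
    congr 1
    apply Finset.sum_congr rfl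
    intro g _
    rw [conjFn_apply]
    exact h _ (hA.conj_mem a ha g)
  · intro h a ha
    have h1 := h a ha
    rw [indFun_apply_of_normal H θ a, hind1] at h1
    have hne : (Nat.card H : ℂ)⁻¹ ≠ 0 := inv_ne_zero (card_subgroup_ne_zero H)
    have h2 := mul_left_cancel₀ hne h1
    have h3 : ∑ g ∈ (Finset.univ : Finset G), θ ⟨g * a * g⁻¹, hN.conj_mem a a.2 g⟩
        = ((Finset.univ : Finset G).card : ℂ) * θ 1 := by
      rw [Finset.sum_const, nsmul_eq_mul] at h2
      rw [← h2]
      rfl
    have h4 := IsCharacter.eq_degree_of_sum_eq (IsIrrCharacter.isCharacter hθ) Finset.univ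
      (fun g : G => (⟨g * a * g⁻¹, hN.conj_mem a a.2 g⟩ : H)) h3 1 (Finset.mem_univ _)
    rw [← h4]
    congr 1
    ext
    simp

end Cfsg.Agent.S1487
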