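import Cfsg.Statements.S1488
import Mathlib

set_option autoImplicit false
open Cfsg

namespace Cfsg.Agent.S1488

theorem card_fiber {G : Type*} [Group G] [Fintype G] (A : Subgroup G) [A.Normal]
    [DecidableEq (G ⧸ A)] (b : G ⧸ A) :
    (Finset.univ.filter (fun a : G => (QuotientGroup.mk' A a) = b)).card = Nat.card A := by
  classical
  obtain ⟨g₀, rfl⟩ := QuotientGroup.mk'_surjective A b
  have : (Finset.univ.filter (fun a : G => (QuotientGroup.mk' A a) = QuotientGroup.mk' A g₀))
      = Finset.image (fun a : A => g₀ * (a : G)) Finset.univ := by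
    ext a
    simp only [Finset.mem_filter, Finset.mem_univ, true_and, Finset.mem_image]
    constructor
    · intro h
      have h' : g₀⁻¹ * a ∈ A := by
        have := (QuotientGroup.eq (s := A) (a := g₀) (b := a)).1 h.symm
        exact this
      exact ⟨⟨g₀⁻¹ * a, h'⟩, by simp⟩
    · rintro ⟨x, rfl⟩
      symm
      apply (QuotientGroup.eq (s := A)).2
      simp
  rw [this, Finset.card_image_of_injective, Finset.card_univ, Nat.card_eq_fintype_card]
  intro x y hxy
  exact Subtype.ext (mul_left_cancel hxy)

theorem result {G : Type*} [Group G] [Fintype G] (A H : Subgroup G) [A.Normal] (hAH : A ≤ H) [Fintype (G ⧸ A)] [Fintype ↥(H.map (QuotientGroup.mk' A))] (θ : H → ℂ) (θ₁ : ↥(H.map (QuotientGroup.mk' A)) → ℂ) (hθ : ∀ x : H, θ₁ ⟨QuotientGroup.mk' A x, Subgroup.mem_map_of_mem _ x.2⟩ = θ x) (g : G) : Cfsg.indFun (H.map (QuotientGroup.mk' A)) θ₁ (QuotientGroup.mk' A g) = Cfsg.indFun H θ g := by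
  classical
  have hext : ∀ y : G, extendByZero (H.map (QuotientGroup.mk' A)) θ₁ (QuotientGroup.mk' A y)
      = extendByZero H θ y := by
    intro y
    by_cases hy : y ∈ H
    · have h1 : extendByZero H θ y = θ ⟨y, hy⟩ :=
        Subtype.val_injective.extend_apply θ 0 ⟨y, hy⟩
      have h2 : extendByZero (H.map (QuotientGroup.mk' A)) θ₁ (QuotientGroup.mk' A y)
          = θ₁ ⟨QuotientGroup.mk' A y, Subgroup.mem_map_of_mem _ hy⟩ :=
        Subtype.val_injective.extend_apply θ₁ 0 ⟨QuotientGroup.mk' A y, _⟩
      rw [h1, h2, hθ ⟨y, hy⟩]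
    · have h1 : extendByZero H θ y = 0 := by
        unfold extendByZero
        rw [Function.extend_apply']
        · rfl
        · rintro ⟨a, rfl⟩; exact hy a.2
      have h2 : extendByZero (H.map (QuotientGroup.mk' A)) θ₁ (QuotientGroup.mk' A y) = 0 := by
        unfold extendByZero
        rw [Function.extend_apply']
        · rfl
        · rintro ⟨⟨a, ha⟩, h⟩
          obtain ⟨z, hz, hza⟩ := ha
          apply hy
          have h' : QuotientGroup.mk' A z = QuotientGroup.mk' A y := by
            rw [hza]; exact h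
          have h'' : z⁻¹ * y ∈ A := (QuotientGroup.eq (s := A)).1 h'
          have : y = z * (z⁻¹ * y) := by group
          rw [this]
          exact H.mul_mem hz (hAH h'')
      rw [h1, h2]
  unfold indFun
  -- rewrite the sum on G
  have hsum : ∑ x : G, extendByZero H θ (x⁻¹ * g * x)
      = (Nat.card A : ℂ) * ∑ q : G ⧸ A, extendByZero (H.map (QuotientGroup.mk' A)) θ₁
          (q⁻¹ * QuotientGroup.mk' A g * q) := by
    have h1 : ∀ x : G, extendByZero H θ (x⁻¹ * g * x)
        = (fun q : G ⧸ A => extendByZero (H.map (QuotientGroup.mk' A)) θ₁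
          (q⁻¹ * QuotientGroup.mk' A g * q)) (QuotientGroup.mk' A x) := by
      intro x
      rw [← hext]
      simp
    rw [Finset.sum_congr rfl (fun x _ => h1 x)]
    rw [Finset.sum_comp (fun q : G ⧸ A => extendByZero (H.map (QuotientGroup.mk' A)) θ₁
          (q⁻¹ * QuotientGroup.mk' A g * q)) (QuotientGroup.mk' A)]
    have himg : Finset.image (QuotientGroup.mk' A) Finset.univ = Finset.univ := by
      ext q
      simp only [Finset.mem_image, Finset.mem_univ, true_and, iff_true]
      exact QuotientGroup.mk'_surjective A q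
    rw [himg, Finset.mul_sum]
    apply Finset.sum_congr rfl
    intro q _
    rw [card_fiber A q]
    simp [nsmul_eq_mul]
  rw [hsum]
  -- cardinalities
  have hcard : (Nat.card H : ℂ) = (Nat.card A : ℂ) * (Nat.card ↥(H.map (QuotientGroup.mk' A)) : ℂ) := by
    have hidx : (H.map (QuotientGroup.mk' A)).index = H.index := by
      rw [Subgroup.index_map]
      have : (QuotientGroup.mk' A).ker = A := QuotientGroup.ker_mk' A
      rw [this, sup_eq_left.2 hAH]
      have : (QuotientGroup.mk' A).range = ⊤ :=
        MonoidHom.range_eq_top.2 (QuotientGroup.mk'_surjective A)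
      rw [this]
      simp
    have e1 := Subgroup.card_mul_index H
    have e2 := Subgroup.card_mul_index (H.map (QuotientGroup.mk' A))
    have e3 := Subgroup.card_eq_card_quotient_mul_card_subgroup A
    rw [hidx] at e2
    have hpos : 0 < H.index := Nat.pos_of_ne_zero (Subgroup.index_ne_zero_of_finite)
    have : Nat.card H = Nat.card A * Nat.card ↥(H.map (QuotientGroup.mk' A)) := by
      apply Nat.eq_of_mul_eq_mul_right hpos
      rw [e1, e3, ← e2]
      ring
    exact_mod_cast this
  rw [hcard]
  have hA : (Nat.card A : ℂ) ≠ 0 := by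
    have : Nat.card A ≠ 0 := Nat.card_pos.ne'
    exact_mod_cast this
  have hH' : (Nat.card ↥(H.map (QuotientGroup.mk' A)) : ℂ) ≠ 0 := by
    have : Nat.card ↥(H.map (QuotientGroup.mk' A)) ≠ 0 := Nat.card_pos.ne'
    exact_mod_cast this
  field_simp

end Cfsg.Agent.S1488
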