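import Cfsg.Statements.S1492
import Cfsg.Agent.Lib.Helper11.CentralChar

set_option autoImplicit false
open Cfsg

namespace Cfsg.Agent.S1492

open Cfsg.Agent.Lib.Helper2 Cfsg.Agent.Lib.Helper11

theorem result {G : Type*} [Group G] [Finite G] (ψ : G → ℂ) (hψ : Cfsg.IsIrrCharacter G ψ) (B C D : Subgroup G) (hBD : B ≤ D) (hDC : D ≤ C) (hBn : ∀ c ∈ C, ∀ b ∈ B, c * b * c⁻¹ ∈ B) (hcent : ∀ d ∈ D, ∀ c ∈ C, d * c * d⁻¹ * c⁻¹ ∈ B) (hker : ∀ b ∈ B, ψ b = ψ 1) : ‖ψ 1‖ ^ 2 * (Nat.card C : ℝ) * (Nat.card D : ℝ) ≤ (Nat.card G : ℝ) ^ 2 := by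
  classical
  have : Fintype G := Fintype.ofFinite G
  have : Fintype C := Fintype.ofFinite C
  have hψc := IsIrrCharacter.isCharacter hψ
  have hres : Cfsg.IsCharacter C (fun c : C => ψ c) := IsCharacter.restrict hψc C
  have hres0 : (fun c : C => ψ c) ≠ 0 := by
    intro h
    have := congrFun h 1
    simp only [OneMemClass.coe_one, Pi.zero_apply] at this
    exact IsIrrCharacter.apply_one_ne_zero hψ this
  obtain ⟨ξ, Ψ, hΨ, hsum⟩ := exists_irr_add_of_ne_zero hres hres0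
  obtain ⟨a, ha1, hale⟩ := IsCharacter.exists_degree_norm_le (IsIrrCharacter.isCharacter ξ.2)
  obtain ⟨b, hb1, hble⟩ := IsCharacter.exists_degree_norm_le hΨ
  have hkerξ : ∀ x : C, (x : G) ∈ B → (ξ : C → ℂ) x = (ξ : C → ℂ) 1 := by
    intro x hx
    have h1 : ψ x = ψ 1 := hker x hx
    have e1 : ψ x = (ξ : C → ℂ) x + Ψ x := congrFun hsum x
    have e2 : ψ 1 = (ξ : C → ℂ) 1 + Ψ 1 := congrFun hsum 1
    have h2 : (ξ : C → ℂ) x + Ψ x = (ξ : C → ℂ) 1 + Ψ 1 := by rw [← e1, ← e2, h1]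
    have hre : ((ξ : C → ℂ) x).re + (Ψ x).re = a + b := by
      have := congrArg Complex.re h2
      rw [ha1, hb1] at this
      simpa using this
    have h3 : ((ξ : C → ℂ) x).re ≤ a := le_trans (Complex.re_le_norm _) (hale x)
    have h4 : (Ψ x).re ≤ b := le_trans (Complex.re_le_norm _) (hble x)
    have h5 : ((ξ : C → ℂ) x).re = a := by linarith
    rw [ha1, eq_of_re_eq_of_norm_le h5 (hale x)]
    simp
  have hDnorm : ∀ d ∈ D.subgroupOf C, ‖(ξ : C → ℂ) d‖ = ‖(ξ : C → ℂ) 1‖ := by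
    intro d hd
    apply IsIrrCharacter.norm_eq_of_commutators_in_ker ξ.2
    intro c
    apply hkerξ
    have := hcent d (Subgroup.mem_subgroupOf.1 hd) c c.2
    simpa using this
  have hbound := IsIrrCharacter.degree_sq_mul_card_le ξ.2 (D.subgroupOf C) hDnorm
  have hDcard : Nat.card (D.subgroupOf C) = Nat.card D :=
    Nat.card_congr (Subgroup.subgroupOfEquivOfLe hDC).toEquiv
  rw [hDcard, ha1, Complex.norm_natCast] at hbound
  have hne : Cfsg.classInner (Cfsg.indFun C (ξ : C → ℂ)) ψ ≠ 0 := by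
    rw [frobenius_reciprocity C _ ψ (IsCharacter.isClassFunction hψc), hsum, classInner_add_right,
      classInner_irrCharacter_self]
    obtain ⟨m, hm⟩ := classInner_isCharacter_nat (IsIrrCharacter.isCharacter ξ.2) hΨ
    rw [hm]
    exact_mod_cast (by omega : 1 + m ≠ 0)
  obtain ⟨Ψ', hΨ', hsum'⟩ := exists_add_of_classInner_ne_zero
    (indFun_isCharacter C _ (IsIrrCharacter.isCharacter ξ.2)) ⟨ψ, hψ⟩ hne
  obtain ⟨b', hb'⟩ := IsCharacter.apply_one hΨ'
  obtain ⟨p, hp0, hp⟩ := IsIrrCharacter.apply_one hψ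
  have hdeg : (C.index : ℂ) * a = p + b' := by
    have := congrFun hsum' 1
    rw [indFun_apply_one, ha1, Pi.add_apply, hb'] at this
    simp only at this
    rw [hp] at this
    exact this
  have hdegN : C.index * a = p + b' := by exact_mod_cast hdeg
  have hpa : (p : ℝ) ≤ (C.index : ℝ) * a := by
    have : p ≤ C.index * a := by omega
    exact_mod_cast this
  have hG : (Nat.card G : ℝ) = (Nat.card C : ℝ) * (C.index : ℝ) := by
    rw [← Subgroup.card_mul_index C]; push_cast; ring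
  rw [hp, Complex.norm_natCast, hG]
  have hp0' : (0 : ℝ) ≤ p := Nat.cast_nonneg p
  have hC0 : (0 : ℝ) ≤ (Nat.card C : ℝ) := Nat.cast_nonneg _
  have hD0 : (0 : ℝ) ≤ (Nat.card D : ℝ) := Nat.cast_nonneg _
  have hi0 : (0 : ℝ) ≤ (C.index : ℝ) := Nat.cast_nonneg _
  have hsq : (p : ℝ) ^ 2 ≤ ((C.index : ℝ) * a) ^ 2 := pow_le_pow_left₀ hp0' hpa 2
  calc (p : ℝ) ^ 2 * (Nat.card C : ℝ) * (Nat.card D : ℝ)
      ≤ ((C.index : ℝ) * a) ^ 2 * (Nat.card C : ℝ) * (Nat.card D : ℝ) := by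
        apply mul_le_mul_of_nonneg_right _ hD0
        exact mul_le_mul_of_nonneg_right hsq hC0
    _ = (C.index : ℝ) ^ 2 * (Nat.card C : ℝ) * ((a : ℝ) ^ 2 * (Nat.card D : ℝ)) := by ring
    _ ≤ (C.index : ℝ) ^ 2 * (Nat.card C : ℝ) * (Nat.card C : ℝ) := by
        apply mul_le_mul_of_nonneg_left hbound
        positivity
    _ = ((Nat.card C : ℝ) * (C.index : ℝ)) ^ 2 := by ring

end Cfsg.Agent.S1492
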