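import Cfsg.Statements.S1494
import Cfsg.Agent.Lib.Helper2.Linear

set_option autoImplicit false
open Cfsg

namespace Cfsg.Agent.S1494

open Cfsg.Agent.Lib.Helper2

/-- The congruence for a linear character. -/
theorem linear_congr {A : Type*} [Group A] [Finite A] (φ : A →* ℂˣ) (p : ℕ) (hp : p.Prime)
    (x y : A) (hx : x ^ p = 1) :
    ∃ ω : ℂ, IsIntegral ℤ ω ∧
      ((φ (x * y) : ℂˣ) : ℂ) - ((φ y : ℂˣ) : ℂ)
        = (1 - Complex.exp (2 * Real.pi * Complex.I / p)) * ω := by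
  set ε := Complex.exp (2 * Real.pi * Complex.I / p) with hε
  have hprim : IsPrimitiveRoot ε p := Complex.isPrimitiveRoot_exp p hp.ne_zero
  have hεint : IsIntegral ℤ ε := hprim.isIntegral hp.pos
  have hxp : ((φ x : ℂˣ) : ℂ) ^ p = 1 := by
    rw [← Units.val_pow_eq_pow_val, ← map_pow, hx, map_one, Units.val_one]
  have : NeZero p := ⟨hp.ne_zero⟩
  obtain ⟨i, _, hi⟩ := hprim.eq_pow_of_pow_eq_one hxp
  have hyint : IsIntegral ℤ ((φ y : ℂˣ) : ℂ) := by
    have hpos : 0 < Nat.card A := Nat.card_pos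
    apply IsIntegral.of_pow hpos
    rw [← Units.val_pow_eq_pow_val, ← map_pow, pow_card_eq_one', map_one, Units.val_one]
    exact isIntegral_one
  refine ⟨-((∑ j ∈ Finset.range i, ε ^ j) * ((φ y : ℂˣ) : ℂ)), ?_, ?_⟩
  · apply IsIntegral.neg
    apply IsIntegral.mul _ hyint
    apply IsIntegral.sum
    intro j _
    exact hεint.pow j
  · rw [map_mul, Units.val_mul, ← hi]
    have hgeom := geom_sum_mul ε i
    have : ε ^ i - 1 = (∑ j ∈ Finset.range i, ε ^ j) * (ε - 1) := hgeom.symm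
    calc ε ^ i * ((φ y : ℂˣ) : ℂ) - ((φ y : ℂˣ) : ℂ) = (ε ^ i - 1) * ((φ y : ℂˣ) : ℂ) := by ring
      _ = (∑ j ∈ Finset.range i, ε ^ j) * (ε - 1) * ((φ y : ℂˣ) : ℂ) := by rw [this]
      _ = (1 - ε) * -((∑ j ∈ Finset.range i, ε ^ j) * ((φ y : ℂˣ) : ℂ)) := by ring

/-- The congruence for characters of a commutative group. -/
theorem comm_congr {A : Type*} [Group A] [Finite A] (hcomm : ∀ a b : A, a * b = b * a)
    {χ : A → ℂ} (hχ : Cfsg.IsCharacter A χ) (p : ℕ) (hp : p.Prime)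
    (x y : A) (hx : x ^ p = 1) :
    ∃ ω : ℂ, IsIntegral ℤ ω ∧
      χ (x * y) - χ y = (1 - Complex.exp (2 * Real.pi * Complex.I / p)) * ω := by
  obtain ⟨m, rfl⟩ := IsCharacter.exists_multiset_irr hχ
  induction m using Multiset.induction_on with
  | empty =>
    refine ⟨0, isIntegral_zero, ?_⟩
    simp
  | cons μ s ih =>
    obtain ⟨ω₁, hω₁, h1⟩ := ih (isCharacter_multiset_sum s)
    have hdeg : (μ : A → ℂ) 1 = 1 := IsIrrCharacter.apply_one_of_comm hcomm μ.2
    obtain ⟨φ, hφ⟩ := exists_monoidHom_of_isIrrCharacter_of_apply_one μ.2 hdeg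
    obtain ⟨ω₂, hω₂, h2⟩ := linear_congr φ p hp x y hx
    refine ⟨ω₂ + ω₁, hω₂.add hω₁, ?_⟩
    rw [Multiset.map_cons, Multiset.sum_cons, Pi.add_apply, Pi.add_apply, mul_add, ← h1, ← h2, hφ]
    ring

/-- The congruence for characters of an arbitrary finite group. -/
theorem char_congr {G : Type*} [Group G] [Finite G] {χ : G → ℂ} (hχ : Cfsg.IsCharacter G χ)
    (p : ℕ) (hp : p.Prime) (x y : G) (hx : orderOf x = p) (hxy : x * y = y * x) :
    ∃ ω : ℂ, IsIntegral ℤ ω ∧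
      χ (x * y) - χ y = (1 - Complex.exp (2 * Real.pi * Complex.I / p)) * ω := by
  set A : Subgroup G := Subgroup.closure {x, y} with hA
  have hS : ∀ a ∈ ({x, y} : Set G), ∀ b ∈ ({x, y} : Set G), a * b = b * a := by
    intro a ha b hb
    simp only [Set.mem_insert_iff, Set.mem_singleton_iff] at ha hb
    rcases ha with rfl | rfl <;> rcases hb with rfl | rfl
    · rfl
    · exact hxy
    · exact hxy.symm
    · rfl
  have hcomm : ∀ a b : A, a * b = b * a := by
    have := Subgroup.isMulCommutative_closure hS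
    intro a b
    exact mul_comm' a b
  have hxA : x ∈ A := Subgroup.subset_closure (by simp)
  have hyA : y ∈ A := Subgroup.subset_closure (by simp)
  have hxp : (⟨x, hxA⟩ : A) ^ p = 1 := by
    apply Subtype.ext
    simp only [SubmonoidClass.mk_pow, OneMemClass.coe_one]
    rw [← hx]; exact pow_orderOf_eq_one x
  have := comm_congr hcomm (IsCharacter.restrict hχ A) p hp ⟨x, hxA⟩ ⟨y, hyA⟩ hxp
  exact this

theorem result {G : Type*} [Group G] [Finite G] (χ : G → ℂ) (hχ : Cfsg.IsGeneralizedCharacter G χ) (p : ℕ) (hp : p.Prime) (x y : G) (hx : orderOf x = p) (hxy : x * y = y * x) : ∃ ω : ℂ, IsIntegral ℤ ω ∧ χ (x * y) - χ y = (1 - Complex.exp (2 * Real.pi * Complex.I / p)) * ω := by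
  obtain ⟨χ₁, χ₂, h1, h2, rfl⟩ := hχ
  obtain ⟨ω₁, hω₁, e1⟩ := char_congr h1 p hp x y hx hxy
  obtain ⟨ω₂, hω₂, e2⟩ := char_congr h2 p hp x y hx hxy
  refine ⟨ω₁ - ω₂, hω₁.sub hω₂, ?_⟩
  rw [Pi.sub_apply, Pi.sub_apply, mul_sub, ← e1, ← e2]
  ring

end Cfsg.Agent.S1494
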