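import Cfsg.Statements.S1495
import Mathlib

set_option autoImplicit false
open Cfsg

namespace Cfsg.Agent.S1495

open Polynomial in
theorem prod_one_sub (p : ℕ) (hp : p.Prime) :
    ∏ μ ∈ primitiveRoots p ℂ, (1 - μ) = (p : ℂ) := by
  have : Fact p.Prime := ⟨hp⟩
  have h := Polynomial.cyclotomic_eq_prod_X_sub_primitiveRoots
    (Complex.isPrimitiveRoot_exp p hp.ne_zero)
  have h2 := congrArg (Polynomial.eval 1) h
  rw [Polynomial.eval_one_cyclotomic_prime, Polynomial.eval_prod] at h2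
  rw [h2]
  apply Finset.prod_congr rfl
  intro μ _
  simp

/-- If `μ` is a primitive `p`-th root, then `n = (1 - μ) * ω'` with `ω'` integral. -/
theorem exists_factor (p : ℕ) (hp : p.Prime) (n : ℤ) (ω : ℂ) (hω : IsIntegral ℤ ω)
    (ε : ℂ) (hε : IsPrimitiveRoot ε p)
    (h : (n : ℂ) = (1 - ε) * ω) (μ : ℂ) (hμ : IsPrimitiveRoot μ p) :
    ∃ ω' : ℂ, IsIntegral ℤ ω' ∧ (n : ℂ) = (1 - μ) * ω' := by
  have : NeZero p := ⟨hp.ne_zero⟩
  obtain ⟨j, _, hj⟩ := hμ.eq_pow_of_pow_eq_one hε.pow_eq_one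
  have hμint : IsIntegral ℤ μ := by
    refine ⟨Polynomial.X ^ p - 1, Polynomial.monic_X_pow_sub_C 1 hp.ne_zero, ?_⟩
    simp [hμ.pow_eq_one]
  refine ⟨(∑ i ∈ Finset.range j, μ ^ i) * ω, ?_, ?_⟩
  · apply IsIntegral.mul _ hω
    apply IsIntegral.sum
    intro i _
    exact hμint.pow i
  · rw [h, ← hj, ← mul_assoc]
    congr 1
    have := mul_neg_geom_sum μ j
    rw [this]

theorem result (p : ℕ) (hp : p.Prime) (n : ℤ) (ω : ℂ) (hω : IsIntegral ℤ ω) (h : (n : ℂ) = (1 - Complex.exp (2 * Real.pi * Complex.I / p)) * ω) : (p : ℤ) ∣ n := by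
  have hε := Complex.isPrimitiveRoot_exp p hp.ne_zero
  -- choose the factors
  have hex : ∀ μ : ℂ, ∃ ω' : ℂ, μ ∈ primitiveRoots p ℂ → (IsIntegral ℤ ω' ∧ (n : ℂ) = (1 - μ) * ω') := by
    intro μ
    by_cases hμ : μ ∈ primitiveRoots p ℂ
    · obtain ⟨ω', h1, h2⟩ := exists_factor p hp n ω hω _ hε h μ
        ((mem_primitiveRoots hp.pos).1 hμ)
      exact ⟨ω', fun _ => ⟨h1, h2⟩⟩
    · exact ⟨0, fun h => absurd h hμ⟩
  choose f hf using hex
  have hprod : (n : ℂ) ^ (p - 1) = (p : ℂ) * ∏ μ ∈ primitiveRoots p ℂ, f μ := by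
    rw [← prod_one_sub p hp, ← Finset.prod_mul_distrib]
    have hcard : (primitiveRoots p ℂ).card = p - 1 := by
      rw [Complex.card_primitiveRoots, Nat.totient_prime hp]
    rw [← hcard, ← Finset.prod_const]
    apply Finset.prod_congr rfl
    intro μ hμ
    exact (hf μ hμ).2
  have hint : IsIntegral ℤ (∏ μ ∈ primitiveRoots p ℂ, f μ) := by
    apply IsIntegral.prod
    intro μ hμ
    exact (hf μ hμ).1
  -- the product is rational
  have hp0 : (p : ℂ) ≠ 0 := by exact_mod_cast hp.ne_zero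
  have hrat : (∏ μ ∈ primitiveRoots p ℂ, f μ) = algebraMap ℚ ℂ ((n : ℚ) ^ (p - 1) / (p : ℚ)) := by
    rw [eq_comm]
    simp only [map_div₀, map_pow, map_intCast, map_natCast]
    rw [div_eq_iff hp0, mul_comm]
    exact hprod
  rw [hrat] at hint
  have hint' : IsIntegral ℤ ((n : ℚ) ^ (p - 1) / (p : ℚ)) :=
    (isIntegral_algebraMap_iff (algebraMap ℚ ℂ).injective).1 hint
  obtain ⟨m, hm⟩ := IsIntegrallyClosed.isIntegral_iff.1 hint'
  have hpq : (p : ℚ) ≠ 0 := by exact_mod_cast hp.ne_zero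
  have : (n : ℤ) ^ (p - 1) = (p : ℤ) * m := by
    have h3 : (n : ℚ) ^ (p - 1) = (p : ℚ) * (m : ℚ) := by
      have : (algebraMap ℤ ℚ) m = (m : ℚ) := rfl
      rw [this] at hm
      rw [hm]
      field_simp
    exact_mod_cast h3
  have hdvd : (p : ℤ) ∣ n ^ (p - 1) := ⟨m, this⟩
  exact (Nat.prime_iff_prime_int.1 hp).dvd_of_dvd_pow hdvd

end Cfsg.Agent.S1495
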