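import Cfsg.Statements.S1497
import Mathlib

set_option autoImplicit false
open Cfsg

namespace Cfsg.Agent.S1497

theorem mem_centralizer_singleton {G : Type*} [Group G] (a c : G) :
    c ∈ Subgroup.centralizer ({a} : Set G) ↔ c * a * c⁻¹ = a := by
  simp only [Subgroup.mem_centralizer_iff, Set.mem_singleton_iff, forall_eq]
  constructor
  · intro h
    rw [← h]; group
  · intro h
    have : a * c = (c * a * c⁻¹) * c := by rw [h]
    rw [this]; group

theorem result {G : Type*} [Group G] [Finite G] (A : Set G) (hA : A.Nonempty) (h1 : (1 : G) ∉ A) (L : Subgroup G) : (Cfsg.IsTISubset A ∧ Subgroup.normalizer A = L) ↔ Cfsg.DadeHypothesis A L (fun _ => ⊥) := by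
  constructor
  · rintro ⟨hTI, hN⟩
    have hcent : ∀ a ∈ A, Subgroup.centralizer ({a} : Set G) ≤ L := by
      intro a ha c hc
      rw [← hN]
      by_contra hcn
      have := hTI c hcn a ha (by rw [(mem_centralizer_singleton a c).1 hc]; exact ha)
      exact h1 (this ▸ ha)
    refine ⟨h1, ?_, ?_, ?_, ?_, ?_, ?_, ?_, ?_⟩
    · intro a ha
      have : a ∈ Subgroup.centralizer ({a} : Set G) := by
        rw [mem_centralizer_singleton]; group
      exact hcent a ha this
    · intro x hx a ha
      rw [← hN] at hx
      exact (Subgroup.mem_set_normalizer_iff.1 hx a).1 ha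
    · intro a ha g hg
      by_cases hgN : g ∈ Subgroup.normalizer A
      · exact ⟨g, hN ▸ hgN, rfl⟩
      · exfalso
        have := hTI g hgN a ha hg
        exact h1 (this ▸ ha)
    · intro a _
      exact bot_le
    · intro a _ c _ u hu
      rw [Subgroup.mem_bot] at hu ⊢
      rw [hu]; group
    · intro a _
      exact bot_inf_eq _
    · intro a ha
      rw [bot_sup_eq]
      exact inf_eq_right.2 (hcent a ha)
    · intro a _ b _
      simp
  · intro hD
    have hcent : ∀ a ∈ A, Subgroup.centralizer ({a} : Set G) ≤ L := by
      intro a ha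
      have := hD.sup_eq a ha
      rw [bot_sup_eq] at this
      exact inf_eq_right.1 this
    have hfus : ∀ a ∈ A, ∀ g : G, g * a * g⁻¹ ∈ A → g ∈ L := by
      intro a ha g hg
      obtain ⟨x, hx, hxa⟩ := hD.fusion a ha g hg
      have hc : x⁻¹ * g ∈ Subgroup.centralizer ({a} : Set G) := by
        rw [mem_centralizer_singleton]
        have : x⁻¹ * g * a * (x⁻¹ * g)⁻¹ = x⁻¹ * (g * a * g⁻¹) * x := by group
        rw [this, ← hxa]; group
      have := L.mul_mem hx (hcent a ha hc)
      simpa using this
    have hN : Subgroup.normalizer A = L := by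
      apply le_antisymm
      · intro g hg
        obtain ⟨a, ha⟩ := hA
        exact hfus a ha g ((Subgroup.mem_set_normalizer_iff.1 hg a).1 ha)
      · intro x hx
        rw [Subgroup.mem_set_normalizer_iff]
        intro n
        constructor
        · exact hD.conj_mem x hx n
        · intro h
          have := hD.conj_mem x⁻¹ (L.inv_mem hx) _ h
          simpa [mul_assoc] using this
    refine ⟨?_, hN⟩
    intro g hg x hx hgx
    exfalso
    apply hg
    rw [hN]
    exact hfus x hx g hgx

end Cfsg.Agent.S1497
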