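import Cfsg.Statements.S1500
import Cfsg.Agent.Lib.Helper11.DadeMap

set_option autoImplicit false
open Cfsg

namespace Cfsg.Agent.S1500

open Cfsg.Agent.Lib.Helper11

theorem result {G : Type*} [Group G] [Fintype G] (A : Set G) (L : Subgroup G) [Fintype L] (H : G → Subgroup G) (hD : Cfsg.DadeHypothesis A L H) (α : L → ℂ) (hα : Cfsg.IsClassFunction L α) (hαA : ∀ x : L, (x : G) ∉ A → α x = 0) : (∀ β : L → ℂ, Cfsg.IsClassFunction L β → (∀ x : L, (x : G) ∉ A → β x = 0) → Cfsg.classInner (Cfsg.dadeIsometry A L H α) (Cfsg.dadeIsometry A L H β) = Cfsg.classInner α β) ∧ (∀ (χ : G → ℂ) (ψ : L → ℂ), Cfsg.IsClassFunction G χ → (∀ a : L, (a : G) ∈ A → ψ a = (Nat.card (H a) : ℂ)⁻¹ * ∑ᶠ u ∈ (H a : Set G), χ (a * u)) → Cfsg.classInner (Cfsg.dadeIsometry A L H α) χ = Cfsg.classInner α ψ) := by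
  classical
  refine ⟨?_, ?_⟩
  · intro β hβ _
    apply dade_adjoint hD hα hαA _ β (dadeIsometry_isClassFunction hD hβ)
    intro a ha
    rw [finsum_mem_subgroup]
    have h1 : ∀ u : G, (if u ∈ H (a : G) then Cfsg.dadeIsometry A L H β ((a : G) * u) else 0)
        = if u ∈ H (a : G) then β a else 0 := by
      intro u
      by_cases hu : u ∈ H (a : G)
      · rw [if_pos hu, if_pos hu, dadeIsometry_apply hD hβ a ha hu (x := 1) (by group)]
      · rw [if_neg hu, if_neg hu]
    simp only [h1]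
    rw [← Finset.sum_filter, Finset.sum_const, nsmul_eq_mul]
    have hcard : ((Finset.univ.filter (fun u : G => u ∈ H (a : G))).card : ℂ)
        = (Nat.card (H (a : G)) : ℂ) := by
      rw [Nat.card_eq_fintype_card, Fintype.card_subtype]
    rw [hcard]
    have hne : (Nat.card (H (a : G)) : ℂ) ≠ 0 := by exact_mod_cast Nat.card_pos.ne'
    field_simp
  · intro χ ψ hχ hψ
    exact dade_adjoint hD hα hαA χ ψ hχ hψ

end Cfsg.Agent.S1500
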