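import Cfsg.Statements.S1501
import Cfsg.Agent.Lib.Helper11.DadeExp2
import Cfsg.Agent.Lib.Helper11.OrbitSum
import Cfsg.Agent.Lib.Helper2.Expansion

set_option autoImplicit false
open Cfsg

namespace Cfsg.Agent.S1501

open Cfsg.Agent.Lib.Helper2 Cfsg.Agent.Lib.Helper11

/-- A class function with integral multiplicities is a generalized character. -/
theorem isGenChar_of_classInner_int {G : Type*} [Group G] [Fintype G] (ψ : G → ℂ)
    (hψ : Cfsg.IsClassFunction G ψ)
    (h : ∀ χ : Cfsg.IrrCharacter G, ∃ z : ℤ, Cfsg.classInner ψ (χ : G → ℂ) = (z : ℂ)) :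
    Cfsg.IsGeneralizedCharacter G ψ := by
  classical
  haveI : Fintype (Cfsg.IrrCharacter G) := Fintype.ofFinite _
  choose z hz using h
  rw [classFunction_expansion ψ hψ]
  have : ∀ s : Finset (Cfsg.IrrCharacter G), Cfsg.IsGeneralizedCharacter G
      (∑ χ ∈ s, Cfsg.classInner ψ (χ : G → ℂ) • (χ : G → ℂ)) := by
    intro s
    induction s using Finset.induction_on with
    | empty => rw [Finset.sum_empty]; exact isGenChar_zero
    | insert a s ha ih =>
      rw [Finset.sum_insert ha]
      apply isGenChar_add _ ih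
      rw [hz a]
      exact isGenChar_intCast_smul _ (isGenChar_of_isChar (IsIrrCharacter.isCharacter a.2))
  exact this Finset.univ

/-- Under the Dade hypothesis for (A, L, H): if α is a generalized character of L vanishing outside A, then its image under the Dade map is a generalized character of G. -/
theorem result {G : Type*} [Group G] [Fintype G] (A : Set G) (L : Subgroup G) [Fintype L] (H : G → Subgroup G) (hD : Cfsg.DadeHypothesis A L H) (α : L → ℂ) (hα : Cfsg.IsGeneralizedCharacter L α) (hαA : ∀ x : L, (x : G) ∉ A → α x = 0) : Cfsg.IsGeneralizedCharacter G (Cfsg.dadeIsometry A L H α) := by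
  classical
  have hαcf : Cfsg.IsClassFunction L α := IsGeneralizedCharacter.isClassFunction hα
  have hcf : Cfsg.IsClassFunction G (Cfsg.dadeIsometry A L H α) :=
    dadeIsometry_isClassFunction hD hαcf
  apply isGenChar_of_classInner_int _ hcf
  intro χ
  have hχcf : Cfsg.IsClassFunction G (χ : G → ℂ) := IrrCharacter.isClassFunction χ
  rw [dade_expansion hD hαcf hαA hχcf]
  letI inst : MulAction L (Finset G) :=
    { smul := fun x B => conjFinset (x : G) B
      one_smul := fun B => conjFinset_one B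
      mul_smul := fun x y B => conjFinset_mul (x : G) (y : G) B }
  have hsmul : ∀ (x : L) (B : Finset G), x • B = conjFinset (x : G) B := fun _ _ => rfl
  set t : Finset G → ℂ := fun B => if B.Nonempty ∧ (B : Set G) ⊆ A then
    (-1 : ℂ) ^ B.card * dadeT L H α (χ : G → ℂ) B else 0 with ht
  have hstab : ∀ B : Finset G, Nat.card (MulAction.stabilizer L B) = Nat.card (dadeNB L B) := by
    intro B
    apply Nat.card_congr
    refine ⟨fun x => ⟨(x.1 : G), ?_⟩, fun q => ⟨⟨(q : G), (mem_dadeNB.1 q.2).1⟩, ?_⟩, ?_, ?_⟩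
    · rw [mem_dadeNB]
      refine ⟨x.1.2, ?_⟩
      have hx := x.2
      rw [MulAction.mem_stabilizer_iff, hsmul] at hx
      exact conjFinset_eq_self_iff.1 hx
    · rw [MulAction.mem_stabilizer_iff, hsmul]
      exact conjFinset_eq_self_iff.2 (mem_dadeNB.1 q.2).2
    · intro x; rfl
    · intro q; rfl
  have hinv : ∀ (x : L) (B : Finset G), t (x • B) = t B := by
    intro x B
    rw [hsmul]
    simp only [ht]
    have hiff : ((conjFinset (x : G) B).Nonempty ∧ ((conjFinset (x : G) B : Finset G) : Set G) ⊆ A)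
        ↔ (B.Nonempty ∧ (B : Set G) ⊆ A) := by
      rw [conjFinset_nonempty]
      constructor
      · rintro ⟨h1, h2⟩
        refine ⟨h1, ?_⟩
        have := conjFinset_subset hD (L.inv_mem x.2) h2
        rwa [← conjFinset_mul, inv_mul_cancel, conjFinset_one] at this
      · rintro ⟨h1, h2⟩
        exact ⟨h1, conjFinset_subset hD x.2 h2⟩
    by_cases h : B.Nonempty ∧ (B : Set G) ⊆ A
    · rw [if_pos h, if_pos (hiff.2 h), card_conjFinset, dadeT_conj hD h.2 x.2 hαcf hχcf]
    · rw [if_neg h, if_neg (fun h' => h (hiff.1 h'))]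
  have hint : ∀ B : Finset G, ∃ z : ℤ, t B = (z : ℂ) := by
    intro B
    simp only [ht]
    by_cases h : B.Nonempty ∧ (B : Set G) ⊆ A
    · rw [if_pos h]
      obtain ⟨z, hz⟩ := dadeT_int hD h.1 h.2 hα (IsIrrCharacter.isCharacter χ.2)
      exact ⟨(-1) ^ B.card * z, by rw [hz]; push_cast; ring⟩
    · rw [if_neg h]
      exact ⟨0, by simp⟩
  obtain ⟨z, hz⟩ := sum_stabilizer_div_card_int t hinv hint
  refine ⟨-z, ?_⟩
  push_cast
  rw [← hz]
  congr 1
  apply Finset.sum_congr rfl
  intro B _
  rw [hstab B]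
  simp only [ht]
  by_cases h : B.Nonempty ∧ (B : Set G) ⊆ A
  · rw [if_pos h, if_pos h]
  · rw [if_neg h, if_neg h, mul_zero]

end Cfsg.Agent.S1501
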