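import Cfsg.Statements.S1505
import Cfsg.Agent.Lib.Helper11.LinChar
import Cfsg.Agent.Lib.Helper11.TIInduction
import Cfsg.Agent.Lib.Helper11.CyclicTI

set_option autoImplicit false
open Cfsg

namespace Cfsg.Agent.S1505

open Cfsg.Agent.Lib.Helper2 Cfsg.Agent.Lib.Helper11
open scoped ComplexConjugate

open Classical in
/-- inner product of two functions `(1-φ)(1-ψ)` on `W` -/
theorem inner_alpha {G : Type*} [Group G] (W₁ W₂ : Subgroup G) [Fintype ↥(W₁ ⊔ W₂)]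
    (φ φ' ψ ψ' : ↥(W₁ ⊔ W₂) →* ℂˣ) (hφ : φ ≠ 1) (hφ' : φ' ≠ 1) (hψ : ψ ≠ 1) (hψ' : ψ' ≠ 1)
    (hφ₂ : ∀ w : ↥(W₁ ⊔ W₂), (w : G) ∈ W₂ → φ w = 1)
    (hφ₂' : ∀ w : ↥(W₁ ⊔ W₂), (w : G) ∈ W₂ → φ' w = 1)
    (hψ₁ : ∀ w : ↥(W₁ ⊔ W₂), (w : G) ∈ W₁ → ψ w = 1)
    (hψ₁' : ∀ w : ↥(W₁ ⊔ W₂), (w : G) ∈ W₁ → ψ' w = 1) :
    ∑ w : ↥(W₁ ⊔ W₂), (1 - (φ w : ℂ) - (ψ w : ℂ) + (φ w : ℂ) * (ψ w : ℂ)) *
        conj (1 - (φ' w : ℂ) - (ψ' w : ℂ) + (φ' w : ℂ) * (ψ' w : ℂ))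
      = (Fintype.card ↥(W₁ ⊔ W₂) : ℂ) * (1 + (if φ = φ' then 1 else 0) + (if ψ = ψ' then 1 else 0)
          + (if φ = φ' then 1 else 0) * (if ψ = ψ' then 1 else 0)) := by
  have triv : ∀ w : ↥(W₁ ⊔ W₂), ∀ S : Subgroup G, (w : G) ∈ S → (1 : ↥(W₁ ⊔ W₂) →* ℂˣ) w = 1 :=
    fun _ _ _ => rfl
  have hexp : ∀ w : ↥(W₁ ⊔ W₂), (1 - (φ w : ℂ) - (ψ w : ℂ) + (φ w : ℂ) * (ψ w : ℂ)) *
        conj (1 - (φ' w : ℂ) - (ψ' w : ℂ) + (φ' w : ℂ) * (ψ' w : ℂ))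
      = (1 - (φ w : ℂ) - (ψ w : ℂ) + (φ w : ℂ) * (ψ w : ℂ)) * conj (((1 : ↥(W₁ ⊔ W₂) →* ℂˣ) w : ℂˣ) : ℂ)
        - (1 - (φ w : ℂ) - (ψ w : ℂ) + (φ w : ℂ) * (ψ w : ℂ)) * conj ((φ' w : ℂˣ) : ℂ)
        - (1 - (φ w : ℂ) - (ψ w : ℂ) + (φ w : ℂ) * (ψ w : ℂ)) * conj ((ψ' w : ℂˣ) : ℂ)
        + (1 - (φ w : ℂ) - (ψ w : ℂ) + (φ w : ℂ) * (ψ w : ℂ)) * conj (((φ' * ψ') w : ℂˣ) : ℂ) := by
    intro w
    simp only [map_sub, map_add, map_mul, map_one, MonoidHom.one_apply, Units.val_one,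
      MonoidHom.mul_apply, Units.val_mul]
    ring
  simp_rw [hexp]
  rw [Finset.sum_add_distrib, Finset.sum_sub_distrib, Finset.sum_sub_distrib,
    sum_alpha_mul_conj, sum_alpha_mul_conj, sum_alpha_mul_conj, sum_alpha_mul_conj]
  -- evaluate all the conditions
  have m := fun a b c d ha hb hc hd => mul_eq_mul_iff W₁ W₂ a b c d ha hb hc hd
  have one_mul' : ∀ a : ↥(W₁ ⊔ W₂) →* ℂˣ, 1 * a = a := fun a => one_mul a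
  have mul_one' : ∀ a : ↥(W₁ ⊔ W₂) →* ℂˣ, a * 1 = a := fun a => mul_one a
  have c1 : ¬ ((1 : ↥(W₁ ⊔ W₂) →* ℂˣ) = φ') := fun h => hφ' h.symm
  have c2 : ¬ (ψ = φ') := by
    intro h
    have := (m 1 φ' ψ 1 (fun w => triv w _) hφ₂' hψ₁ (fun w => triv w _)).1 (by rw [one_mul', mul_one']; exact h)
    exact hψ this.2
  have c3 : ¬ (φ * ψ = φ') := by
    intro h
    have := (m φ φ' ψ 1 hφ₂ hφ₂' hψ₁ (fun w => triv w _)).1 (by rw [mul_one']; exact h)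
    exact hψ this.2
  have c4 : ¬ ((1 : ↥(W₁ ⊔ W₂) →* ℂˣ) = ψ') := fun h => hψ' h.symm
  have c5 : ¬ (φ = ψ') := by
    intro h
    have := (m φ 1 1 ψ' hφ₂ (fun w => triv w _) (fun w => triv w _) hψ₁').1 (by rw [one_mul', mul_one']; exact h)
    exact hφ this.1
  have c6 : ¬ (φ * ψ = ψ') := by
    intro h
    have := (m φ 1 ψ ψ' hφ₂ (fun w => triv w _) hψ₁ hψ₁').1 (by rw [one_mul']; exact h)
    exact hφ this.1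
  have c7 : ¬ ((1 : ↥(W₁ ⊔ W₂) →* ℂˣ) = φ' * ψ') := by
    intro h
    have := (m 1 φ' 1 ψ' (fun w => triv w _) hφ₂' (fun w => triv w _) hψ₁').1 (by rw [mul_one']; exact h)
    exact hφ' this.1.symm
  have c8 : ¬ (φ = φ' * ψ') := by
    intro h
    have := (m φ φ' 1 ψ' hφ₂ hφ₂' (fun w => triv w _) hψ₁').1 (by rw [mul_one']; exact h)
    exact hψ' this.2.symm
  have c9 : ¬ (ψ = φ' * ψ') := by
    intro h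
    have := (m 1 φ' ψ ψ' (fun w => triv w _) hφ₂' hψ₁ hψ₁').1 (by rw [one_mul']; exact h)
    exact hφ' this.1.symm
  have c10 : (φ * ψ = φ' * ψ') ↔ (φ = φ' ∧ ψ = ψ') := m φ φ' ψ ψ' hφ₂ hφ₂' hψ₁ hψ₁'
  have c11 : ¬ (φ * ψ = 1) := by
    intro h
    have := (m φ 1 ψ 1 hφ₂ (fun w => triv w _) hψ₁ (fun w => triv w _)).1 (by rw [mul_one']; exact h)
    exact hφ this.1
  rw [if_pos rfl, if_neg hφ, if_neg hψ, if_neg c11, if_neg c1, if_neg c2, if_neg c3, if_neg c4,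
    if_neg c5, if_neg c6, if_neg c7, if_neg c8, if_neg c9]
  by_cases h1 : φ = φ' <;> by_cases h2 : ψ = ψ'
  · simp only [if_pos h1, if_pos h2, if_pos (c10.2 ⟨h1, h2⟩)]; ring
  · simp only [if_pos h1, if_neg h2, if_neg (fun h => h2 (c10.1 h).2)]; ring
  · simp only [if_neg h1, if_pos h2, if_neg (fun h => h1 (c10.1 h).1)]; ring
  · simp only [if_neg h1, if_neg h2, if_neg (fun h => h1 (c10.1 h).1)]; ring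

open Classical in
theorem result {G : Type*} [Group G] [Fintype G] (W₁ W₂ : Subgroup G) (hW : Cfsg.IsSelfNormalizingCyclic W₁ W₂) (φ φ' ψ ψ' : ↥(W₁ ⊔ W₂) →* ℂˣ) (hφ : φ ≠ 1) (hφ' : φ' ≠ 1) (hψ : ψ ≠ 1) (hψ' : ψ' ≠ 1) (hφ₂ : ∀ w : ↥(W₁ ⊔ W₂), (w : G) ∈ W₂ → φ w = 1 ∧ φ' w = 1) (hψ₁ : ∀ w : ↥(W₁ ⊔ W₂), (w : G) ∈ W₁ → ψ w = 1 ∧ ψ' w = 1) : Cfsg.classInner (Cfsg.indFun (W₁ ⊔ W₂) (fun w => 1 - (φ w : ℂ) - (ψ w : ℂ) + (φ w : ℂ) * (ψ w : ℂ))) (fun _ => 1) = 1 ∧ Cfsg.classInner (Cfsg.indFun (W₁ ⊔ W₂) (fun w => 1 - (φ w : ℂ) - (ψ w : ℂ) + (φ w : ℂ) * (ψ w : ℂ))) (Cfsg.indFun (W₁ ⊔ W₂) (fun w => 1 - (φ' w : ℂ) - (ψ' w : ℂ) + (φ' w : ℂ) * (ψ' w : ℂ))) = 1 + (if φ = φ' then 1 else 0) + (if ψ = ψ' then 1 else 0) + (if φ = φ' then 1 else 0) * (if ψ = ψ' then 1 else 0) := by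
  have : Fintype ↥(W₁ ⊔ W₂) := Fintype.ofFinite _
  have hcard : (Nat.card ↥(W₁ ⊔ W₂) : ℂ) ≠ 0 := card_ne_zero_complex
  have hcard' : (Fintype.card ↥(W₁ ⊔ W₂) : ℂ) = (Nat.card ↥(W₁ ⊔ W₂) : ℂ) := by
    rw [Nat.card_eq_fintype_card]
  have triv : ∀ w : ↥(W₁ ⊔ W₂), ∀ S : Subgroup G, (w : G) ∈ S → (1 : ↥(W₁ ⊔ W₂) →* ℂˣ) w = 1 :=
    fun _ _ _ => rfl
  constructor
  · rw [classInner_indFun_left _ _ _ (fun _ _ => rfl), classInner_def]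
    have h1 := sum_alpha_mul_conj φ ψ (1 : ↥(W₁ ⊔ W₂) →* ℂˣ)
    have c11 : ¬ (φ * ψ = 1) := by
      intro h
      have := (mul_eq_mul_iff W₁ W₂ φ 1 ψ 1 (fun w hw => (hφ₂ w hw).1) (fun w => triv w _)
        (fun w hw => (hψ₁ w hw).1) (fun w => triv w _)).1 (by rw [h]; exact (mul_one (1 : ↥(W₁ ⊔ W₂) →* ℂˣ)).symm)
      exact hφ this.1
    rw [if_pos rfl, if_neg hφ, if_neg hψ, if_neg c11] at h1
    simp only [MonoidHom.one_apply, Units.val_one] at h1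
    rw [h1, hcard']
    field_simp
    ring
  · have hcomm : ∀ a b : ↥(W₁ ⊔ W₂), a * b = b * a := by
      have := hW.2.2.2.2.1
      intro a b
      exact (IsCyclic.commGroup (α := ↥(W₁ ⊔ W₂))).mul_comm a b
    have hcf : ∀ f : ↥(W₁ ⊔ W₂) → ℂ, Cfsg.IsClassFunction ↥(W₁ ⊔ W₂) f := by
      intro f g h
      rw [hcomm h g, mul_inv_cancel_right]
    have hvan : ∀ (φ ψ : ↥(W₁ ⊔ W₂) →* ℂˣ), (∀ w : ↥(W₁ ⊔ W₂), (w : G) ∈ W₂ → φ w = 1) →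
        (∀ w : ↥(W₁ ⊔ W₂), (w : G) ∈ W₁ → ψ w = 1) →
        ∀ l : ↥(W₁ ⊔ W₂), (l : G) ∉ (↑(W₁ ⊔ W₂) : Set G) \ (↑W₁ ∪ ↑W₂) →
          (1 - (φ l : ℂ) - (ψ l : ℂ) + (φ l : ℂ) * (ψ l : ℂ)) = 0 := by
      intro φ ψ hφ hψ l hl
      have : (l : G) ∈ W₁ ∨ (l : G) ∈ W₂ := by
        by_contra h
        apply hl
        refine ⟨l.2, ?_⟩
        simpa using h
      rcases this with h | h
      · rw [hψ l h]; simp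
      · rw [hφ l h]; simp
    rw [classInner_indFun_indFun_of_TI (W₁ ⊔ W₂) _ (selfNormCyclic_fusion W₁ W₂ hW) _ _
      (hvan φ ψ (fun w hw => (hφ₂ w hw).1) (fun w hw => (hψ₁ w hw).1)) (hcf _)
      (hvan φ' ψ' (fun w hw => (hφ₂ w hw).2) (fun w hw => (hψ₁ w hw).2))]
    rw [classInner_def, inner_alpha W₁ W₂ φ φ' ψ ψ' hφ hφ' hψ hψ' (fun w hw => (hφ₂ w hw).1)
      (fun w hw => (hφ₂ w hw).2) (fun w hw => (hψ₁ w hw).1) (fun w hw => (hψ₁ w hw).2), hcard']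
    field_simp
    by_cases h1 : φ = φ' <;> by_cases h2 : ψ = ψ' <;> simp [h1, h2]

end Cfsg.Agent.S1505
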