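import Cfsg.Statements.S1502
import Cfsg.Agent.S1505
import Cfsg.Agent.Lib.Helper11.TriChar
import Cfsg.Agent.Lib.Helper11.CyclicTIFam
import Cfsg.Agent.Lib.Helper11.FrobTI
import Cfsg.Agent.Lib.Helper2.Induction
import Cfsg.Agent.Lib.Helper2.Linear

set_option autoImplicit false
open Cfsg

namespace Cfsg.Agent.S1502

open Cfsg.Agent.Lib.Helper2 Cfsg.Agent.Lib.Helper11
open scoped ComplexConjugate

/-- the function `(1 - φ)(1 - ψ)` is a generalized character -/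
theorem isGenChar_alpha {W : Type*} [Group W] (φ ψ : W →* ℂˣ) :
    IsGeneralizedCharacter W (fun w => 1 - (φ w : ℂ) - (ψ w : ℂ) + (φ w : ℂ) * (ψ w : ℂ)) := by
  refine ⟨(fun w => ((1 : W →* ℂˣ) w : ℂ)) + (fun w => ((φ * ψ) w : ℂ)),
    (fun w => (φ w : ℂ)) + (fun w => (ψ w : ℂ)),
    isCharacter_add (IsIrrCharacter.isCharacter (isIrrCharacter_of_monoidHom _))
      (IsIrrCharacter.isCharacter (isIrrCharacter_of_monoidHom _)),
    isCharacter_add (IsIrrCharacter.isCharacter (isIrrCharacter_of_monoidHom _))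
      (IsIrrCharacter.isCharacter (isIrrCharacter_of_monoidHom _)), ?_⟩
  ext w
  simp only [Pi.add_apply, Pi.sub_apply, MonoidHom.one_apply, Units.val_one, MonoidHom.mul_apply,
    Units.val_mul]
  ring

theorem result {G : Type*} [Group G] [Fintype G] (W₁ W₂ : Subgroup G) (hW : Cfsg.IsSelfNormalizingCyclic W₁ W₂) (hodd : Odd (Nat.card ↥(W₁ ⊔ W₂))) : ∃ χ : (↥(W₁ ⊔ W₂) →* ℂˣ) → (G → ℂ), Cfsg.IsCyclicTIFamily W₁ W₂ χ := by
  classical
  have hdisj : W₁ ⊓ W₂ = ⊥ := hW.2.2.1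
  have hcomm : ∀ a ∈ W₁, ∀ b ∈ W₂, a * b = b * a := hW.2.2.2.1
  have hFW : Fintype ↥(W₁ ⊔ W₂) := Fintype.ofFinite _
  have hFI : Fintype {θ : W₁ →* ℂˣ // θ ≠ 1} := Fintype.ofFinite _
  have hFJ : Fintype {θ : W₂ →* ℂˣ // θ ≠ 1} := Fintype.ofFinite _
  -- the lifts
  have hL1 : ∀ (θ : W₁ →* ℂˣ) (w : ↥(W₁ ⊔ W₂)) (hw : (w : G) ∈ W₁),
      liftLeft W₁ W₂ hdisj hcomm θ w = θ ⟨w, hw⟩ := liftLeft_of_mem_left W₁ W₂ hdisj hcomm
  have hL2 : ∀ (θ : W₁ →* ℂˣ) (w : ↥(W₁ ⊔ W₂)), (w : G) ∈ W₂ →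
      liftLeft W₁ W₂ hdisj hcomm θ w = 1 := liftLeft_of_mem_right W₁ W₂ hdisj hcomm
  have hR2 : ∀ (θ : W₂ →* ℂˣ) (w : ↥(W₁ ⊔ W₂)) (hw : (w : G) ∈ W₂),
      liftRight W₁ W₂ hdisj hcomm θ w = θ ⟨w, hw⟩ := liftRight_of_mem_right W₁ W₂ hdisj hcomm
  have hR1 : ∀ (θ : W₂ →* ℂˣ) (w : ↥(W₁ ⊔ W₂)), (w : G) ∈ W₁ →
      liftRight W₁ W₂ hdisj hcomm θ w = 1 := liftRight_of_mem_left W₁ W₂ hdisj hcomm
  have hLinj : Function.Injective (liftLeft W₁ W₂ hdisj hcomm) := by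
    intro θ θ' h
    ext a
    have := DFunLike.congr_fun h ⟨(a : G), Subgroup.mem_sup_left a.2⟩
    rw [hL1 θ _ a.2, hL1 θ' _ a.2] at this
    rw [this]
  have hRinj : Function.Injective (liftRight W₁ W₂ hdisj hcomm) := by
    intro θ θ' h
    ext a
    have := DFunLike.congr_fun h ⟨(a : G), Subgroup.mem_sup_right a.2⟩
    rw [hR2 θ _ a.2, hR2 θ' _ a.2] at this
    rw [this]
  have hLone : liftLeft W₁ W₂ hdisj hcomm 1 = 1 := by
    apply hom_eq_one_of_trivial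
    · intro w hw; rw [hL1 _ w hw]; rfl
    · intro w hw; exact hL2 _ w hw
  have hRone : liftRight W₁ W₂ hdisj hcomm 1 = 1 := by
    apply hom_eq_one_of_trivial
    · intro w hw; exact hR1 _ w hw
    · intro w hw; rw [hR2 _ w hw]; rfl
  have hLne : ∀ i : {θ : W₁ →* ℂˣ // θ ≠ 1}, liftLeft W₁ W₂ hdisj hcomm i.1 ≠ 1 :=
    fun i h => i.2 (hLinj (h.trans hLone.symm))
  have hRne : ∀ j : {θ : W₂ →* ℂˣ // θ ≠ 1}, liftRight W₁ W₂ hdisj hcomm j.1 ≠ 1 :=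
    fun j h => j.2 (hRinj (h.trans hRone.symm))
  -- the induced functions
  set β : {θ : W₁ →* ℂˣ // θ ≠ 1} → {θ : W₂ →* ℂˣ // θ ≠ 1} → G → ℂ := fun i j =>
    indFun (W₁ ⊔ W₂) (fun w => 1 - (liftLeft W₁ W₂ hdisj hcomm i.1 w : ℂ) -
      (liftRight W₁ W₂ hdisj hcomm j.1 w : ℂ) +
      (liftLeft W₁ W₂ hdisj hcomm i.1 w : ℂ) * (liftRight W₁ W₂ hdisj hcomm j.1 w : ℂ)) with hβdef
  have hgen : ∀ i j, IsGeneralizedCharacter G (β i j) := fun i j =>
    isGenChar_indFun (W₁ ⊔ W₂) (isGenChar_alpha _ _)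
  have hS := fun (i i' : {θ : W₁ →* ℂˣ // θ ≠ 1}) (j j' : {θ : W₂ →* ℂˣ // θ ≠ 1}) =>
    Cfsg.Agent.S1505.result W₁ W₂ hW (liftLeft W₁ W₂ hdisj hcomm i.1)
      (liftLeft W₁ W₂ hdisj hcomm i'.1) (liftRight W₁ W₂ hdisj hcomm j.1)
      (liftRight W₁ W₂ hdisj hcomm j'.1) (hLne i) (hLne i') (hRne j) (hRne j')
      (fun w hw => ⟨hL2 _ w hw, hL2 _ w hw⟩) (fun w hw => ⟨hR1 _ w hw, hR1 _ w hw⟩)
  have h1 : ∀ i j, classInner (β i j) (fun _ => 1) = 1 := fun i j => (hS i i j j).1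
  have hdeg : ∀ i j, β i j 1 = 0 := by
    intro i j
    rw [hβdef]
    simp only
    rw [indFun_apply_one]
    simp
  have hgram : ∀ i j i' j', classInner (β i j) (β i' j') =
      1 + (if i = i' then 1 else 0) + (if j = j' then 1 else 0)
        + (if i = i' then 1 else 0) * (if j = j' then 1 else 0) := by
    intro i j i' j'
    have := (hS i i' j j').2
    rw [hβdef]
    simp only
    rw [this]
    have e1 : (liftLeft W₁ W₂ hdisj hcomm i.1 = liftLeft W₁ W₂ hdisj hcomm i'.1) ↔ i = i' :=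
      ⟨fun h => Subtype.ext (hLinj h), fun h => by rw [h]⟩
    have e2 : (liftRight W₁ W₂ hdisj hcomm j.1 = liftRight W₁ W₂ hdisj hcomm j'.1) ↔ j = j' :=
      ⟨fun h => Subtype.ext (hRinj h), fun h => by rw [h]⟩
    by_cases a : i = i' <;> by_cases b : j = j'
    · rw [if_pos (e1.2 a), if_pos (e2.2 b), if_pos a, if_pos b]
    · rw [if_pos (e1.2 a), if_neg (fun h => b (e2.1 h)), if_pos a, if_neg b]
    · rw [if_neg (fun h => a (e1.1 h)), if_pos (e2.2 b), if_neg a, if_pos b]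
    · rw [if_neg (fun h => a (e1.1 h)), if_neg (fun h => b (e2.1 h)), if_neg a, if_neg b]
  -- cardinalities
  obtain ⟨ho1, ho2, hc1, hc2, hcop⟩ := selfNormCyclic_cards W₁ W₂ hW hodd
  have hcI : Fintype.card {θ : W₁ →* ℂˣ // θ ≠ 1} = Nat.card W₁ - 1 :=
    card_nontrivial_linChar (selfNormCyclic_comm_left W₁ W₂ hW)
  have hcJ : Fintype.card {θ : W₂ →* ℂˣ // θ ≠ 1} = Nat.card W₂ - 1 :=
    card_nontrivial_linChar (selfNormCyclic_comm_right W₁ W₂ hW)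
  have hI : Fintype.card {θ : W₁ →* ℂˣ // θ ≠ 1} = 2 ∨
      4 ≤ Fintype.card {θ : W₁ →* ℂˣ // θ ≠ 1} := by
    obtain ⟨k, hk⟩ := ho1
    omega
  have hJ : Fintype.card {θ : W₂ →* ℂˣ // θ ≠ 1} = 2 ∨
      4 ≤ Fintype.card {θ : W₂ →* ℂˣ // θ ≠ 1} := by
    obtain ⟨k, hk⟩ := ho2
    omega
  have hIJ : 4 ≤ Fintype.card {θ : W₁ →* ℂˣ // θ ≠ 1} ∨
      4 ≤ Fintype.card {θ : W₂ →* ℂˣ // θ ≠ 1} := by
    by_contra hcon
    push Not at hcon
    have e1 : Nat.card W₁ = 3 := by omega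
    have e2 : Nat.card W₂ = 3 := by omega
    rw [e1, e2] at hcop
    exact absurd hcop (by decide)
  obtain ⟨m, ε, hminj, hε, hm0, hε0, hβ⟩ := exists_signed_table β hgen h1 hdeg hgram hI hJ hIJ
  -- the family
  set key : (↥(W₁ ⊔ W₂) →* ℂˣ) → Option {θ : W₁ →* ℂˣ // θ ≠ 1} × Option {θ : W₂ →* ℂˣ // θ ≠ 1} :=
    fun ω => (optChar (resLeft W₁ W₂ ω), optChar (resRight W₁ W₂ ω)) with hkey
  have hkeyinj : Function.Injective key := by
    intro ω ω' h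
    have a1 : resLeft W₁ W₂ ω = resLeft W₁ W₂ ω' := optChar_injective (congrArg Prod.fst h)
    have a2 : resRight W₁ W₂ ω = resRight W₁ W₂ ω' := optChar_injective (congrArg Prod.snd h)
    rw [← liftLeft_mul_liftRight_res W₁ W₂ hdisj hcomm ω,
      ← liftLeft_mul_liftRight_res W₁ W₂ hdisj hcomm ω', a1, a2]
  set Ξ : Option {θ : W₁ →* ℂˣ // θ ≠ 1} × Option {θ : W₂ →* ℂˣ // θ ≠ 1} → G → ℂ :=
    fun k => ((ε k : ℤ) : ℂ) • (m k : G → ℂ) with hΞ
  have hΞ0 : Ξ (none, none) = fun _ => 1 := by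
    rw [hΞ]
    simp only
    rw [hε0, hm0]
    ext g
    simp
  have horthΞ : ∀ k k', classInner (Ξ k) (Ξ k') = if k = k' then 1 else 0 := by
    intro k k'
    rw [hΞ]
    simp only
    rw [classInner_smul_left, classInner_smul_right, classInner_irrCharacter]
    by_cases hk : k = k'
    · rw [if_pos hk, if_pos (by rw [hk]), hk]
      rcases hε k' with e | e <;> rw [e] <;> simp
    · rw [if_neg hk, if_neg (fun h => hk (hminj h))]
      ring
  have hkeyone : key 1 = (none, none) := by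
    rw [hkey]
    simp only
    have a1 : resLeft W₁ W₂ (1 : ↥(W₁ ⊔ W₂) →* ℂˣ) = 1 := rfl
    have a2 : resRight W₁ W₂ (1 : ↥(W₁ ⊔ W₂) →* ℂˣ) = 1 := rfl
    rw [a1, a2, optChar_one, optChar_one]
  have hind : ∀ φ ψ : ↥(W₁ ⊔ W₂) →* ℂˣ, φ ≠ 1 → ψ ≠ 1 →
      (∀ w : ↥(W₁ ⊔ W₂), (w : G) ∈ W₂ → φ w = 1) → (∀ w : ↥(W₁ ⊔ W₂), (w : G) ∈ W₁ → ψ w = 1) →
      indFun (W₁ ⊔ W₂) (fun w => 1 - (φ w : ℂ) - (ψ w : ℂ) + (φ w : ℂ) * (ψ w : ℂ)) =
        fun g => 1 - Ξ (key φ) g - Ξ (key ψ) g + Ξ (key (φ * ψ)) g := by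
    intro φ ψ hφ hψ hφ₂ hψ₁
    have hi : resLeft W₁ W₂ φ ≠ 1 := by
      intro h
      apply hφ
      apply hom_eq_one_of_trivial
      · intro w hw
        have := DFunLike.congr_fun h ⟨(w : G), hw⟩
        rw [resLeft_apply] at this
        exact this
      · exact hφ₂
    have hj : resRight W₁ W₂ ψ ≠ 1 := by
      intro h
      apply hψ
      apply hom_eq_one_of_trivial
      · exact hψ₁
      · intro w hw
        have := DFunLike.congr_fun h ⟨(w : G), hw⟩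
        rw [resRight_apply] at this
        exact this
    have hφR : resRight W₁ W₂ φ = 1 := by
      ext b
      rw [resRight_apply, hφ₂ _ b.2]
      rfl
    have hψL : resLeft W₁ W₂ ψ = 1 := by
      ext a
      rw [resLeft_apply, hψ₁ _ a.2]
      rfl
    have hLφ : liftLeft W₁ W₂ hdisj hcomm (resLeft W₁ W₂ φ) = φ := by
      apply hom_eq_of_eqOn
      · intro w hw
        rw [hL1 _ w hw, resLeft_apply]
      · intro w hw
        rw [hL2 _ w hw, hφ₂ w hw]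
    have hRψ : liftRight W₁ W₂ hdisj hcomm (resRight W₁ W₂ ψ) = ψ := by
      apply hom_eq_of_eqOn
      · intro w hw
        rw [hR1 _ w hw, hψ₁ w hw]
      · intro w hw
        rw [hR2 _ w hw, resRight_apply]
    have hmulL : resLeft W₁ W₂ (φ * ψ) = resLeft W₁ W₂ φ := by
      ext a
      rw [resLeft_apply, resLeft_apply, MonoidHom.mul_apply, hψ₁ _ a.2, mul_one]
    have hmulR : resRight W₁ W₂ (φ * ψ) = resRight W₁ W₂ ψ := by
      ext b
      rw [resRight_apply, resRight_apply, MonoidHom.mul_apply, hφ₂ _ b.2, one_mul]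
    have k1 : key φ = (some ⟨resLeft W₁ W₂ φ, hi⟩, none) := by
      rw [hkey]
      simp only
      rw [hφR, optChar_one, ← optChar_val ⟨resLeft W₁ W₂ φ, hi⟩]
    have k2 : key ψ = (none, some ⟨resRight W₁ W₂ ψ, hj⟩) := by
      rw [hkey]
      simp only
      rw [hψL, optChar_one, ← optChar_val ⟨resRight W₁ W₂ ψ, hj⟩]
    have k3 : key (φ * ψ) = (some ⟨resLeft W₁ W₂ φ, hi⟩, some ⟨resRight W₁ W₂ ψ, hj⟩) := by
      rw [hkey]
      simp only
      rw [hmulL, hmulR, ← optChar_val ⟨resLeft W₁ W₂ φ, hi⟩,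
        ← optChar_val ⟨resRight W₁ W₂ ψ, hj⟩]
    have hb := hβ ⟨resLeft W₁ W₂ φ, hi⟩ ⟨resRight W₁ W₂ ψ, hj⟩
    rw [hβdef] at hb
    simp only [hLφ, hRψ] at hb
    rw [hb, k1, k2, k3]
    ext g
    rw [hΞ]
    simp only [Pi.add_apply, Pi.sub_apply]
  refine ⟨fun ω => Ξ (key ω), ?_, ?_, ?_, ?_, hind⟩
  · intro ω
    show IsIrrCharacter G (Ξ (key ω)) ∨ IsIrrCharacter G (-Ξ (key ω))
    rw [hΞ]
    simp only
    rcases hε (key ω) with e | e
    · left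
      rw [e]
      simp only [Int.cast_one, one_smul]
      exact (m (key ω)).2
    · right
      rw [e]
      simp only [Int.cast_neg, Int.cast_one, neg_smul, one_smul, neg_neg]
      exact (m (key ω)).2
  · intro ω ω'
    show classInner (Ξ (key ω)) (Ξ (key ω')) = _
    rw [horthΞ]
    by_cases h : ω = ω'
    · rw [if_pos h, if_pos (by rw [h])]
    · rw [if_neg h, if_neg (fun h' => h (hkeyinj h'))]
  · show Ξ (key 1) = _
    rw [hkeyone, hΞ0]
  · intro ω w hw₁ hw₂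
    refine cyclicTI_eq_on W₁ W₂ hW (fun ω => Ξ (key ω)) ?_ ?_ ?_ hind ω w hw₁ hw₂
    · intro ω
      show IsClassFunction G (Ξ (key ω))
      rw [hΞ]
      exact isClassFunction_smul _ (IrrCharacter.isClassFunction _)
    · intro ω ω'
      show classInner (Ξ (key ω)) (Ξ (key ω')) = _
      rw [horthΞ]
      by_cases h : ω = ω'
      · rw [if_pos h, if_pos (by rw [h])]
      · rw [if_neg h, if_neg (fun h' => h (hkeyinj h'))]
    · show Ξ (key 1) = _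
      rw [hkeyone, hΞ0]

end Cfsg.Agent.S1502
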