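import Cfsg.Statements.S1503
import Cfsg.Agent.Lib.Helper11.CharSep
import Cfsg.Agent.Lib.Helper11.Frobenius
import Cfsg.Agent.Lib.Helper2.CharBasic

set_option autoImplicit false
open Cfsg

namespace Cfsg.Agent.S1503

open Cfsg.Agent.Lib.Helper2 Cfsg.Agent.Lib.Helper11
open scoped ComplexConjugate

theorem result {G : Type*} [Group G] [Fintype G] (W₁ W₂ : Subgroup G) (hW : Cfsg.IsSelfNormalizingCyclic W₁ W₂) (χ : (↥(W₁ ⊔ W₂) →* ℂˣ) → (G → ℂ)) (hχ : Cfsg.IsCyclicTIFamily W₁ W₂ χ) (θ : G → ℂ) (hθ : Cfsg.IsIrrCharacter G θ) (horth : ∀ ω, Cfsg.classInner θ (χ ω) = 0) (w : ↥(W₁ ⊔ W₂)) (hw₁ : (w : G) ∉ W₁) (hw₂ : (w : G) ∉ W₂) : θ w = 0 := by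
  classical
  have : Fintype ↥(W₁ ⊔ W₂) := Fintype.ofFinite _
  have hcyc : IsCyclic ↥(W₁ ⊔ W₂) := hW.2.2.2.2.1
  have hcomm : ∀ a b : ↥(W₁ ⊔ W₂), a * b = b * a := fun a b =>
    (IsCyclic.commGroup (α := ↥(W₁ ⊔ W₂))).mul_comm a b
  have hθc : Cfsg.IsClassFunction G θ := IsCharacter.isClassFunction (IsIrrCharacter.isCharacter hθ)
  have hdisj : W₁.subgroupOf (W₁ ⊔ W₂) ⊓ W₂.subgroupOf (W₁ ⊔ W₂) = ⊥ := by
    rw [eq_bot_iff]
    intro a ha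
    rw [Subgroup.mem_inf, Subgroup.mem_subgroupOf, Subgroup.mem_subgroupOf] at ha
    have : (a : G) ∈ W₁ ⊓ W₂ := ha
    rw [hW.2.2.1, Subgroup.mem_bot] at this
    rw [Subgroup.mem_bot]
    exact Subtype.ext this
  have hcard : (Nat.card ↥(W₁ ⊔ W₂) : ℂ) ≠ 0 := card_ne_zero_complex
  apply eq_zero_of_orthogonal_alpha hcomm (W₁.subgroupOf (W₁ ⊔ W₂)) (W₂.subgroupOf (W₁ ⊔ W₂)) hdisj
    (fun a => θ (a : G)) ?_ w
    (by rw [Subgroup.mem_subgroupOf]; exact hw₁) (by rw [Subgroup.mem_subgroupOf]; exact hw₂)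
  intro φ ψ hφ hψ
  have hφ₂ : ∀ w : ↥(W₁ ⊔ W₂), (w : G) ∈ W₂ → φ w = 1 := fun w hw =>
    hφ w (by rw [Subgroup.mem_subgroupOf]; exact hw)
  have hψ₁ : ∀ w : ↥(W₁ ⊔ W₂), (w : G) ∈ W₁ → ψ w = 1 := fun w hw =>
    hψ w (by rw [Subgroup.mem_subgroupOf]; exact hw)
  by_cases hφ1 : φ = 1
  · apply Finset.sum_eq_zero
    intro a _
    rw [hφ1]; simp
  by_cases hψ1 : ψ = 1
  · apply Finset.sum_eq_zero
    intro a _
    rw [hψ1]; simp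
  have hind := hχ.induced_eq φ ψ hφ1 hψ1 hφ₂ hψ₁
  have h1 : Cfsg.classInner θ (Cfsg.indFun (W₁ ⊔ W₂)
      (fun w => 1 - (φ w : ℂ) - (ψ w : ℂ) + (φ w : ℂ) * (ψ w : ℂ))) = 0 := by
    rw [hind]
    have hfun : (fun g => 1 - χ φ g - χ ψ g + χ (φ * ψ) g) = χ 1 - χ φ - χ ψ + χ (φ * ψ) := by
      ext g
      simp [hχ.map_one]
    rw [hfun, classInner_add_right, classInner_sub_right, classInner_sub_right, horth, horth, horth,
      horth]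
    ring
  rw [classInner_indFun_right _ _ _ hθc, classInner_def] at h1
  rcases mul_eq_zero.1 h1 with h | h
  · exact absurd (inv_eq_zero.1 h) hcard
  · exact h

end Cfsg.Agent.S1503
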