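import Cfsg.Statements.S1504
import Cfsg.Agent.Lib.Helper11.LinChar

set_option autoImplicit false
open Cfsg

namespace Cfsg.Agent.S1504

open Cfsg.Agent.Lib.Helper11
open scoped ComplexConjugate

theorem result {G : Type*} [Group G] [Finite G] (W₁ W₂ : Subgroup G) (hdisj : W₁ ⊓ W₂ = ⊥) (hcomm : ∀ a ∈ W₁, ∀ b ∈ W₂, a * b = b * a) : (∀ φ ψ : ↥(W₁ ⊔ W₂) →* ℂˣ, (∀ w : ↥(W₁ ⊔ W₂), (w : G) ∈ W₂ → φ w = 1) → (∀ w : ↥(W₁ ⊔ W₂), (w : G) ∈ W₁ → ψ w = 1) → ∀ w : ↥(W₁ ⊔ W₂), ((w : G) ∈ W₁ ∨ (w : G) ∈ W₂) → (1 - (φ w : ℂ) - (ψ w : ℂ) + (φ w : ℂ) * (ψ w : ℂ)) = 0) ∧ LinearIndependent ℂ (fun p : {p : (↥(W₁ ⊔ W₂) →* ℂˣ) × (↥(W₁ ⊔ W₂) →* ℂˣ) // p.1 ≠ 1 ∧ p.2 ≠ 1 ∧ (∀ w : ↥(W₁ ⊔ W₂), (w : G) ∈ W₂ → p.1 w = 1) ∧ (∀ w : ↥(W₁ ⊔ W₂), (w : G) ∈ W₁ → p.2 w = 1)} => fun w : ↥(W₁ ⊔ W₂) => 1 - (p.1.1 w : ℂ) - (p.1.2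 w : ℂ) + (p.1.1 w : ℂ) * (p.1.2 w : ℂ)) := by
  classical
  have : Fintype ↥(W₁ ⊔ W₂) := Fintype.ofFinite _
  constructor
  · intro φ ψ hφ hψ w hw
    rcases hw with hw | hw
    · rw [hψ w hw]; simp
    · rw [hφ w hw]; simp
  · rw [linearIndependent_iff']
    intro s c hc p₀ hp₀
    -- apply the functional
    have h1 := congrArg (fun f : ↥(W₁ ⊔ W₂) → ℂ =>
      ∑ w : ↥(W₁ ⊔ W₂), f w * conj (((p₀.1.1 * p₀.1.2) w : ℂˣ) : ℂ)) hc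
    simp only [Finset.sum_apply, Pi.smul_apply, smul_eq_mul, Pi.zero_apply, zero_mul,
      Finset.sum_const_zero] at h1
    simp_rw [Finset.sum_mul] at h1
    rw [Finset.sum_comm] at h1
    have h2 : ∀ p ∈ s, ∑ w : ↥(W₁ ⊔ W₂), c p * (1 - (p.1.1 w : ℂ) - (p.1.2 w : ℂ) + (p.1.1 w : ℂ) * (p.1.2 w : ℂ))
        * conj (((p₀.1.1 * p₀.1.2) w : ℂˣ) : ℂ)
        = if p = p₀ then c p * (Fintype.card ↥(W₁ ⊔ W₂) : ℂ) else 0 := by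
      intro p _
      simp_rw [mul_assoc]
      rw [← Finset.mul_sum, sum_alpha_mul_conj]
      obtain ⟨⟨φ, ψ⟩, hφ1, hψ1, hφ, hψ⟩ := p
      obtain ⟨⟨φ₀, ψ₀⟩, hφ₀1, hψ₀1, hφ₀, hψ₀⟩ := p₀
      simp only
      have e1 : ¬ ((1 : ↥(W₁ ⊔ W₂) →* ℂˣ) = φ₀ * ψ₀) := by
        intro h
        have h' : (1 : ↥(W₁ ⊔ W₂) →* ℂˣ) * 1 = φ₀ * ψ₀ := by rw [← h]; exact mul_one (1 : ↥(W₁ ⊔ W₂) →* ℂˣ)
        have := (mul_eq_mul_iff W₁ W₂ 1 φ₀ 1 ψ₀ (fun _ _ => rfl) hφ₀ (fun _ _ => rfl) hψ₀).1 h'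
        exact hφ₀1 this.1.symm
      have e2 : ¬ (φ = φ₀ * ψ₀) := by
        intro h
        have h' : φ * 1 = φ₀ * ψ₀ := by rw [← h]; exact mul_one φ
        have := (mul_eq_mul_iff W₁ W₂ φ φ₀ 1 ψ₀ hφ hφ₀ (fun _ _ => rfl) hψ₀).1 h'
        exact hψ₀1 this.2.symm
      have e3 : ¬ (ψ = φ₀ * ψ₀) := by
        intro h
        have h' : 1 * ψ = φ₀ * ψ₀ := by rw [← h]; exact one_mul ψ
        have := (mul_eq_mul_iff W₁ W₂ 1 φ₀ ψ ψ₀ (fun _ _ => rfl) hφ₀ hψ hψ₀).1 h'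
        exact hφ₀1 this.1.symm
      have e4 : (φ * ψ = φ₀ * ψ₀) ↔ φ = φ₀ ∧ ψ = ψ₀ :=
        mul_eq_mul_iff W₁ W₂ φ φ₀ ψ ψ₀ hφ hφ₀ hψ hψ₀
      rw [if_neg e1, if_neg e2, if_neg e3]
      by_cases h : φ = φ₀ ∧ ψ = ψ₀
      · obtain ⟨rfl, rfl⟩ := h
        rw [if_pos rfl, if_pos rfl]; ring
      · rw [if_neg (fun h' => h (e4.1 h')), if_neg]
        · ring
        · intro h'
          apply h
          have := congrArg Subtype.val h'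
          simp only [Prod.mk.injEq] at this
          exact this
    rw [Finset.sum_congr rfl h2, Finset.sum_ite_eq' s p₀, if_pos hp₀] at h1
    have hcard : (Fintype.card ↥(W₁ ⊔ W₂) : ℂ) ≠ 0 := by
      exact_mod_cast Fintype.card_ne_zero
    exact (mul_eq_zero.1 h1).resolve_right hcard

end Cfsg.Agent.S1504
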