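import Cfsg.Statements.S1507
import Cfsg.Agent.S1506
import Cfsg.Agent.Lib.Helper11.LinCharProd
import Cfsg.Agent.Lib.Helper11.Grid

set_option autoImplicit false
set_option maxHeartbeats 1000000
open Cfsg

namespace Cfsg.Agent.S1507

open Cfsg.Agent.Lib.Helper11

open Classical in
/-- Let W₁, W₂ ≤ G form a self-normalising cyclic subgroup W = W₁ ⊔ W₂ of odd order with Nat.card W₁ < Nat.card W₂, and χ an orthonormal family of irreducible characters of G up to sign, indexed by the linear characters ω of W, with χ_1 = 1, χ_ω = ω on W outside W₁ ∪ W₂, and the induction identity for (1 − φ)(1 − ψ). Let θ be a class function of G vanishing on W outside W₁ ∪ W₂, and suppose fewer than 2 · Nat.card W₁ linear characters ω of W have ⟨θ, χ ω⟩ ≠ 0. Then one of: all ⟨θ, χ ω⟩ vanish; or there are ψ₀ and a with ⟨θ, χ ω⟩ = a when ω ψ₀⁻¹ is trivial on W₂ and 0 otherwise; or there are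 φ₀ and a with ⟨θ, χ ω⟩ = a when ω φ₀⁻¹ is trivial on W₁ and 0 otherwise. -/
theorem result {G : Type*} [Group G] [Fintype G] (W₁ W₂ : Subgroup G) (hW : Cfsg.IsSelfNormalizingCyclic W₁ W₂) (hodd : Odd (Nat.card ↥(W₁ ⊔ W₂))) (χ : (↥(W₁ ⊔ W₂) →* ℂˣ) → (G → ℂ)) (hχ : Cfsg.IsCyclicTIFamily W₁ W₂ χ) (hlt : Nat.card W₁ < Nat.card W₂) (θ : G → ℂ) (hθ : Cfsg.IsClassFunction G θ) (hθV : ∀ w : ↥(W₁ ⊔ W₂), (w : G) ∉ W₁ → (w : G) ∉ W₂ → θ w = 0) (hfew : Nat.card {ω : ↥(W₁ ⊔ W₂) →* ℂˣ // Cfsg.classInner θ (χ ω) ≠ 0} < 2 * Nat.card W₁) : (∀ ω, Cfsg.classInner θ (χ ω) = 0) ∨ (∃ (ψ₀ : ↥(W₁ ⊔ W₂) →* ℂˣ) (a : ℂ), ∀ ω, Cfsg.classInner θ (χ ω) = if (∀ w : ↥(W₁ ⊔ W₂), (w : G) ∈ W₂ → (ω * ψ₀⁻¹) w = 1) then a else 0) ∨ (∃ (φ₀ : ↥(W₁ ⊔ W₂) →* ℂˣ) (a : ℂ), ∀ ω, Cfsg.classInner θ (χ ω) = if (∀ w : ↥(W₁ ⊔ W₂), (w : G) ∈ W₁ → (ω * φ₀⁻¹) w = 1) then a else 0) := by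
  obtain ⟨hW₁ne, hW₂ne, hdisj, hcomm, hcyc, hN⟩ := id hW
  have : Finite ↥(W₁ ⊔ W₂) := inferInstance
  -- index types
  have : Fintype (↥W₁ →* ℂˣ) := Fintype.ofFinite _
  have : Fintype (↥W₂ →* ℂˣ) := Fintype.ofFinite _
  set E := linCharProdEquiv W₁ W₂ hdisj hcomm with hE
  set a : (↥W₁ →* ℂˣ) → (↥W₂ →* ℂˣ) → ℂ := fun i j => Cfsg.classInner θ (χ (E (i, j))) with ha
  have hEdef : ∀ i j, E (i, j) = liftLeft W₁ W₂ hdisj hcomm i * liftRight W₁ W₂ hdisj hcomm j :=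
    fun i j => rfl
  -- commutativity inside W
  have hcW : ∀ x y : ↥(W₁ ⊔ W₂), x * y = y * x := by
    intro x y
    let _ := IsCyclic.commGroup (α := ↥(W₁ ⊔ W₂))
    exact mul_comm x y
  have hc₁ : ∀ x y : ↥W₁, x * y = y * x := by
    intro x y
    have := hcW ⟨x, Subgroup.mem_sup_left x.2⟩ ⟨y, Subgroup.mem_sup_left y.2⟩
    apply Subtype.ext
    exact congrArg (fun w : ↥(W₁ ⊔ W₂) => (w : G)) this
  have hc₂ : ∀ x y : ↥W₂, x * y = y * x := by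
    intro x y
    have := hcW ⟨x, Subgroup.mem_sup_right x.2⟩ ⟨y, Subgroup.mem_sup_right y.2⟩
    apply Subtype.ext
    exact congrArg (fun w : ↥(W₁ ⊔ W₂) => (w : G)) this
  have hcardI : Fintype.card (↥W₁ →* ℂˣ) = Nat.card W₁ := by
    rw [← Nat.card_eq_fintype_card]; exact card_linChar_of_comm hc₁
  have hcardJ : Fintype.card (↥W₂ →* ℂˣ) = Nat.card W₂ := by
    rw [← Nat.card_eq_fintype_card]; exact card_linChar_of_comm hc₂
  -- parity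
  have hcardW : Nat.card ↥(W₁ ⊔ W₂) = Nat.card W₁ * Nat.card W₂ := by
    rw [← Nat.card_congr (prodEquivSup W₁ W₂ hdisj hcomm).toEquiv, Nat.card_prod]
  have hJ2 : Nat.card W₁ + 2 ≤ Nat.card W₂ := by
    rw [hcardW] at hodd
    obtain ⟨h1, h2⟩ := Nat.odd_mul.1 hodd
    obtain ⟨k₁, hk₁⟩ := h1
    obtain ⟨k₂, hk₂⟩ := h2
    omega
  -- the relation
  have hrel : ∀ i i' j j', a i j + a i' j' = a i j' + a i' j := by
    intro i i' j j'
    simp only [ha, hEdef]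
    exact Cfsg.Agent.S1506.result W₁ W₂ hW χ hχ θ hθ hθV (liftLeft W₁ W₂ hdisj hcomm i)
      (liftLeft W₁ W₂ hdisj hcomm i') (liftRight W₁ W₂ hdisj hcomm j)
      (liftRight W₁ W₂ hdisj hcomm j')
      (fun w hw => ⟨liftLeft_of_mem_right W₁ W₂ hdisj hcomm i w hw,
        liftLeft_of_mem_right W₁ W₂ hdisj hcomm i' w hw⟩)
      (fun w hw => ⟨liftRight_of_mem_left W₁ W₂ hdisj hcomm j w hw,
        liftRight_of_mem_left W₁ W₂ hdisj hcomm j' w hw⟩)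
  -- the count
  have hcount : (Finset.univ.filter (fun p : (↥W₁ →* ℂˣ) × (↥W₂ →* ℂˣ) => a p.1 p.2 ≠ 0)).card
      < 2 * Nat.card W₁ := by
    have e : {p : (↥W₁ →* ℂˣ) × (↥W₂ →* ℂˣ) // a p.1 p.2 ≠ 0} ≃
        {ω : ↥(W₁ ⊔ W₂) →* ℂˣ // Cfsg.classInner θ (χ ω) ≠ 0} :=
      E.subtypeEquiv (fun p => Iff.rfl)
    have h1 : (Finset.univ.filter (fun p : (↥W₁ →* ℂˣ) × (↥W₂ →* ℂˣ) => a p.1 p.2 ≠ 0)).card
        = Nat.card {p : (↥W₁ →* ℂˣ) × (↥W₂ →* ℂˣ) // a p.1 p.2 ≠ 0} := by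
      rw [Nat.card_eq_fintype_card, Fintype.card_subtype]
    rw [h1, Nat.card_congr e]
    exact hfew
  have key := grid_few_nonzero a hrel (Nat.card W₁) (by rw [hcardI]) (by rw [hcardJ]; exact hJ2)
    hcount
  have hω : ∀ ω : ↥(W₁ ⊔ W₂) →* ℂˣ, Cfsg.classInner θ (χ ω)
      = a (resLeft W₁ W₂ ω) (resRight W₁ W₂ ω) := by
    intro ω
    simp only [ha, hEdef]
    rw [liftLeft_mul_liftRight_res]
  have hωeq : ∀ ω : ↥(W₁ ⊔ W₂) →* ℂˣ, ω = liftLeft W₁ W₂ hdisj hcomm (resLeft W₁ W₂ ω) *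
      liftRight W₁ W₂ hdisj hcomm (resRight W₁ W₂ ω) :=
    fun ω => (liftLeft_mul_liftRight_res W₁ W₂ hdisj hcomm ω).symm
  rcases key with h0 | ⟨j₀, c, hcol⟩ | ⟨i₀, c, hrow⟩
  · left
    intro ω
    rw [hω, h0]
  · right; left
    refine ⟨liftRight W₁ W₂ hdisj hcomm j₀, c, fun ω => ?_⟩
    rw [hω, hcol]
    have hiff : resRight W₁ W₂ ω = j₀ ↔ ∀ w : ↥(W₁ ⊔ W₂), (w : G) ∈ W₂ →
        (ω * (liftRight W₁ W₂ hdisj hcomm j₀)⁻¹) w = 1 := by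
      constructor
      · intro h w hw
        rw [MonoidHom.mul_apply, MonoidHom.inv_apply,
          liftRight_of_mem_right W₁ W₂ hdisj hcomm j₀ w hw, ← h, resRight_apply]
        exact mul_inv_cancel _
      · intro h
        ext b
        have := h ⟨b, Subgroup.mem_sup_right b.2⟩ b.2
        rw [MonoidHom.mul_apply, MonoidHom.inv_apply,
          liftRight_of_mem_right W₁ W₂ hdisj hcomm j₀ _ b.2, mul_inv_eq_one] at this
        rw [resRight_apply, this]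
    by_cases h : resRight W₁ W₂ ω = j₀
    · rw [if_pos h, if_pos (hiff.1 h)]
    · rw [if_neg h, if_neg (fun h' => h (hiff.2 h'))]
  · right; right
    refine ⟨liftLeft W₁ W₂ hdisj hcomm i₀, c, fun ω => ?_⟩
    rw [hω, hrow]
    have hiff : resLeft W₁ W₂ ω = i₀ ↔ ∀ w : ↥(W₁ ⊔ W₂), (w : G) ∈ W₁ →
        (ω * (liftLeft W₁ W₂ hdisj hcomm i₀)⁻¹) w = 1 := by
      constructor
      · intro h w hw
        rw [MonoidHom.mul_apply, MonoidHom.inv_apply,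
          liftLeft_of_mem_left W₁ W₂ hdisj hcomm i₀ w hw, ← h, resLeft_apply]
        exact mul_inv_cancel _
      · intro h
        ext b
        have := h ⟨b, Subgroup.mem_sup_left b.2⟩ b.2
        rw [MonoidHom.mul_apply, MonoidHom.inv_apply,
          liftLeft_of_mem_left W₁ W₂ hdisj hcomm i₀ _ b.2, mul_inv_eq_one] at this
        rw [resLeft_apply, this]
    by_cases h : resLeft W₁ W₂ ω = i₀
    · rw [if_pos h, if_pos (hiff.1 h)]
    · rw [if_neg h, if_neg (fun h' => h (hiff.2 h'))]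

end Cfsg.Agent.S1507
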