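import Cfsg.Statements.S1508
import Cfsg.Agent.Lib.Helper11.CyclicTIGalois
import Cfsg.Agent.Lib.Helper2.Integrality

set_option autoImplicit false
set_option maxHeartbeats 400000
open Cfsg

namespace Cfsg.Agent.S1508

open Cfsg.Agent.Lib.Helper2 Cfsg.Agent.Lib.Helper11

/-- A rational algebraic-integer character value is an integer. -/
theorem int_of_irr_of_forall_pow {G : Type*} [Group G] [Fintype G] {ψ : G → ℂ}
    (hψ : Cfsg.IsIrrCharacter G ψ) (g : G)
    (h : ∀ m : ℕ, m.Coprime (Nat.card G) → ψ (g ^ m) = ψ g) : ∃ n : ℤ, ψ g = n := by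
  obtain ⟨n, ρ, _, hρ⟩ := hψ
  subst hρ
  obtain ⟨q, hq⟩ := char_rat_of_forall_pow_eq ρ g h
  exact exists_int_of_isIntegral_of_rat q hq (char_isIntegral ρ g)

/-- Let W₁, W₂ ≤ G form a self-normalising cyclic subgroup W = W₁ ⊔ W₂ of odd order and χ an orthonormal family of irreducible characters of G up to sign, indexed by the linear characters ω of W, with χ_1 = 1, χ_ω = ω on W outside W₁ ∪ W₂, and the induction identity for (1 − φ)(1 − ψ). Let ω be a linear character of W and g an element of G whose order is coprime to the order of ω. Then χ ω g is an integer. -/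
theorem result {G : Type*} [Group G] [Fintype G] (W₁ W₂ : Subgroup G) (hW : Cfsg.IsSelfNormalizingCyclic W₁ W₂) (hodd : Odd (Nat.card ↥(W₁ ⊔ W₂))) (χ : (↥(W₁ ⊔ W₂) →* ℂˣ) → (G → ℂ)) (hχ : Cfsg.IsCyclicTIFamily W₁ W₂ χ) (ω : ↥(W₁ ⊔ W₂) →* ℂˣ) (g : G) (hg : Nat.Coprime (orderOf g) (orderOf ω)) : ∃ n : ℤ, χ ω g = n := by
  classical
  have hN : Nat.card G ≠ 0 := Nat.card_pos.ne'
  have hr : orderOf g ∣ Nat.card G := orderOf_dvd_natCard g
  -- invariance under all coprime powers
  have hinv : ∀ k : ℕ, k.Coprime (Nat.card G) → χ ω (g ^ k) = χ ω g := by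
    intro k hk
    obtain ⟨k', h1, h2, h3⟩ := exists_modEq_modEq_coprime _ _ (Nat.card G) k hN hr hg hk
    have e1 : g ^ k' = g ^ k := pow_eq_pow_of_modEq h1 (pow_orderOf_eq_one g)
    have e2 : ω ^ k' = ω := by
      have : ω ^ k' = ω ^ 1 := pow_eq_pow_of_modEq h2 (pow_orderOf_eq_one ω)
      rw [this, pow_one]
    have e3 := congrFun (cyclicTI_galois W₁ W₂ hW hodd χ hχ k' h3 ω) g
    have e3' : χ ω (g ^ k') = χ (ω ^ k') g := e3
    rw [← e1, e3', e2]
  rcases hχ.irr_or_neg ω with h | h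
  · exact int_of_irr_of_forall_pow h g hinv
  · obtain ⟨n, hn⟩ := int_of_irr_of_forall_pow h g (fun m hm => by
      simp only [Pi.neg_apply]; rw [hinv m hm])
    refine ⟨-n, ?_⟩
    simp only [Pi.neg_apply] at hn
    push_cast
    rw [← hn, neg_neg]

end Cfsg.Agent.S1508
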