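import Cfsg.Statements.S1509
import Cfsg.Agent.Lib.Helper11.SignedIrr

set_option autoImplicit false
open Cfsg

namespace Cfsg.Agent.S1509

open Cfsg.Agent.Lib.Helper2 Cfsg.Agent.Lib.Helper11
open scoped ComplexConjugate

theorem x1_zero {X : Type*} [Group X] [Fintype X] (α β γ δ : X → ℂ)
    (hα : IsSignedIrr α) (hβ : IsSignedIrr β) (hγ : IsSignedIrr γ) (hδ : IsSignedIrr δ)
    (U V : ℂ) (hUr : conj U = U) (hVr : conj V = V) (hU : U ≠ 0) (hV : V ≠ 0)
    (hab : Cfsg.classInner α β = 0) (hcd : Cfsg.classInner γ δ = 0)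
    (hmix : Cfsg.classInner (α - β) (U • γ - V • δ) = 0) (h1 : α 1 = β 1)
    (h2 : U * γ 1 = V * δ 1) : Cfsg.classInner α γ = 0 := by
  have hba : Cfsg.classInner β α = 0 := by rw [← classInner_conj_symm, hab]; simp
  have hdc : Cfsg.classInner δ γ = 0 := by rw [← classInner_conj_symm, hcd]; simp
  have eq : U * Cfsg.classInner α γ - V * Cfsg.classInner α δ
      - (U * Cfsg.classInner β γ - V * Cfsg.classInner β δ) = 0 := by
    rw [classInner_sub_left, classInner_sub_right, classInner_sub_right, classInner_smul_right,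
      classInner_smul_right, classInner_smul_right, classInner_smul_right, hUr, hVr] at hmix
    exact hmix
  have hg : γ 1 ≠ 0 := hγ.apply_one_ne_zero
  rcases hα.inner_cases hγ with h | ⟨rfl, hx1⟩ | ⟨rfl, hx1⟩
  · exact h.1
  · -- α = γ
    exfalso
    rw [hx1, hcd, hba] at eq
    rcases hβ.inner_cases hδ with h | ⟨rfl, hx4⟩ | ⟨rfl, hx4⟩
    · rw [h.1] at eq
      apply hU
      linear_combination eq
    · rw [hx4] at eq
      have : 2 * U * α 1 = 0 := by
        linear_combination h2 + (α 1) * eq - V * h1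
      exact hg (by
        rcases mul_eq_zero.1 this with h | h
        · exact absurd (by simpa using h) hU
        · exact h)
    · rw [hx4] at eq
      simp only [Pi.neg_apply] at h1 h2
      have : 2 * U * α 1 = 0 := by
        linear_combination h2 + (α 1) * eq + V * h1
      exact hg (by
        rcases mul_eq_zero.1 this with h | h
        · exact absurd (by simpa using h) hU
        · exact h)
  · -- α = -γ
    exfalso
    have hx2 : Cfsg.classInner (-γ) δ = 0 := by rw [classInner_neg_left, hcd, neg_zero]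
    have hx3 : Cfsg.classInner β γ = 0 := by
      have := hba
      rw [classInner_neg_right] at this
      exact neg_eq_zero.1 this
    rw [hx1, hx2, hx3] at eq
    simp only [Pi.neg_apply] at h1
    rcases hβ.inner_cases hδ with h | ⟨rfl, hx4⟩ | ⟨rfl, hx4⟩
    · rw [h.1] at eq
      apply hU
      linear_combination -eq
    · rw [hx4] at eq
      have : 2 * U * γ 1 = 0 := by
        linear_combination h2 - (γ 1) * eq - V * h1
      exact hg (by
        rcases mul_eq_zero.1 this with h | h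
        · exact absurd (by simpa using h) hU
        · exact h)
    · rw [hx4] at eq
      simp only [Pi.neg_apply] at h1 h2
      have : 2 * U * γ 1 = 0 := by
        linear_combination h2 - (γ 1) * eq + V * h1
      exact hg (by
        rcases mul_eq_zero.1 this with h | h
        · exact absurd (by simpa using h) hU
        · exact h)

theorem result {X : Type*} [Group X] [Fintype X] (α β γ δ : X → ℂ) (hα : Cfsg.IsIrrCharacter X α ∨ Cfsg.IsIrrCharacter X (-α)) (hβ : Cfsg.IsIrrCharacter X β ∨ Cfsg.IsIrrCharacter X (-β)) (hγ : Cfsg.IsIrrCharacter X γ ∨ Cfsg.IsIrrCharacter X (-γ)) (hδ : Cfsg.IsIrrCharacter X δ ∨ Cfsg.IsIrrCharacter X (-δ)) (u v : ℝ) (hu : u ≠ 0) (hv : v ≠ 0) (hab : Cfsg.classInner α β = 0) (hcd : Cfsg.classInner γ δ = 0) (hmix : Cfsg.classInner (α - β) ((u : ℂ) • γ - (v : ℂ) • δ) = 0) (h1 : α 1 = β 1) (h2 : (u : ℂ) * γ 1 = (v : ℂ) * δ 1) : Cfsg.classInner α γ = 0 ∧ Cfsg.classInner α δ = 0 ∧ Cfsg.classInner β γ = 0 ∧ Cfsg.classInner β δ = 0 := by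
  have hU : (u : ℂ) ≠ 0 := by exact_mod_cast hu
  have hV : (v : ℂ) ≠ 0 := by exact_mod_cast hv
  have hba : Cfsg.classInner β α = 0 := by rw [← classInner_conj_symm, hab]; simp
  have hdc : Cfsg.classInner δ γ = 0 := by rw [← classInner_conj_symm, hcd]; simp
  have hmix2 : Cfsg.classInner (α - β) ((-(v : ℂ)) • δ - (-(u : ℂ)) • γ) = 0 := by
    have : (-(v : ℂ)) • δ - (-(u : ℂ)) • γ = (u : ℂ) • γ - (v : ℂ) • δ := by
      ext x; simp; ring
    rw [this]; exact hmix
  have hmix3 : Cfsg.classInner (β - α) ((u : ℂ) • γ - (v : ℂ) • δ) = 0 := by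
    have : β - α = -(α - β) := by ext x; simp
    rw [this, classInner_neg_left, hmix, neg_zero]
  have hmix4 : Cfsg.classInner (β - α) ((-(v : ℂ)) • δ - (-(u : ℂ)) • γ) = 0 := by
    have : β - α = -(α - β) := by ext x; simp
    rw [this, classInner_neg_left, hmix2, neg_zero]
  have h2' : (-(v : ℂ)) * δ 1 = (-(u : ℂ)) * γ 1 := by linear_combination h2
  refine ⟨?_, ?_, ?_, ?_⟩
  · exact x1_zero α β γ δ hα hβ hγ hδ u v (Complex.conj_ofReal u) (Complex.conj_ofReal v) hU hV
      hab hcd hmix h1 h2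
  · exact x1_zero α β δ γ hα hβ hδ hγ (-(v : ℂ)) (-(u : ℂ)) (by simp) (by simp)
      (neg_ne_zero.2 hV) (neg_ne_zero.2 hU) hab hdc hmix2 h1 h2'
  · exact x1_zero β α γ δ hβ hα hγ hδ u v (Complex.conj_ofReal u) (Complex.conj_ofReal v) hU hV
      hba hcd hmix3 h1.symm h2
  · exact x1_zero β α δ γ hβ hα hδ hγ (-(v : ℂ)) (-(u : ℂ)) (by simp) (by simp)
      (neg_ne_zero.2 hV) (neg_ne_zero.2 hU) hba hdc hmix4 h1.symm h2'

end Cfsg.Agent.S1509
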