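import Cfsg.Statements.S1510
import Mathlib

set_option autoImplicit false
open Cfsg

namespace Cfsg.Agent.S1510

open Pointwise

/-- A generator (as an element of the ambient group) of a cyclic subgroup. -/
theorem exists_gen {L : Type*} [Group L] (W : Subgroup L) (hW : IsCyclic W) :
    ∃ w ∈ W, ∀ u ∈ W, ∃ i : ℤ, u = w ^ i := by
  obtain ⟨g, hg⟩ := hW.exists_zpow_surjective
  refine ⟨g.1, g.2, fun u hu => ?_⟩
  obtain ⟨i, hi⟩ := hg ⟨u, hu⟩
  refine ⟨i, ?_⟩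
  have := congrArg Subtype.val hi
  simpa using this.symm

/-- CRT exponent: `a ^ e = a`, `b ^ e = 1` whenever orders divide coprime `m`, `n`. -/
theorem crt_exp (m n : ℕ) (hmn : Nat.Coprime m n) :
    ∃ e : ℕ, (∀ {L : Type*} [Group L] (a : L), orderOf a ∣ m → a ^ e = a) ∧
      (∀ {L : Type*} [Group L] (b : L), orderOf b ∣ n → b ^ e = 1) := by
  obtain ⟨e, he1, he0⟩ := Nat.chineseRemainder hmn 1 0
  refine ⟨e, ?_, ?_⟩
  · intro L _ a ha
    have : a ^ e = a ^ 1 := pow_eq_pow_iff_modEq.2 (he1.of_dvd ha)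
    simpa using this
  · intro L _ b hb
    exact orderOf_dvd_iff_pow_eq_one.1 (hb.trans ((Nat.modEq_zero_iff_dvd).1 he0))

theorem result {L : Type*} [Group L] [Fintype L] (K W₁ W₂ : Subgroup L) [hK : K.Normal] (hKW₁ : K ⊓ W₁ = ⊥) (hKW₁' : K ⊔ W₁ = ⊤) (hW₁ : W₁ ≠ ⊥) (hW₁c : IsCyclic W₁) (hHall : Nat.Coprime (Nat.card W₁) W₁.index) (hW₂ : W₂ ≠ ⊥) (hW₂c : IsCyclic W₂) (hW₂K : W₂ ≤ K) (hC : ∀ x ∈ W₁, x ≠ 1 → K ⊓ Subgroup.centralizer ({x} : Set L) = W₂) (hodd : Odd (Nat.card ↥(W₁ ⊔ W₂))) : Cfsg.IsSelfNormalizingCyclic W₁ W₂ := by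
  classical
  -- decomposition L = K W₁
  have hLdec : ∀ g : L, ∃ k ∈ K, ∃ v ∈ W₁, g = k * v := by
    intro g
    have hg : g ∈ ((K ⊔ W₁ : Subgroup L) : Set L) := by rw [hKW₁']; trivial
    rw [Subgroup.normal_mul] at hg
    obtain ⟨k, hk, v, hv, rfl⟩ := hg
    exact ⟨k, hk, v, hv, rfl⟩
  have hcompl : Subgroup.IsComplement' K W₁ := by
    apply Subgroup.isComplement'_of_disjoint_and_mul_eq_univ (disjoint_iff.2 hKW₁)
    rw [Set.eq_univ_iff_forall]
    intro g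
    obtain ⟨k, hk, v, hv, rfl⟩ := hLdec g
    exact ⟨k, hk, v, hv, rfl⟩
  have hKidx : Nat.card K = W₁.index := by
    have h1 := hcompl.card_mul_card
    have h2 := Subgroup.card_mul_index W₁
    have hpos : 0 < Nat.card W₁ := Nat.card_pos
    apply Nat.eq_of_mul_eq_mul_right hpos
    rw [h1, mul_comm, h2]
  have hcop : Nat.Coprime (Nat.card W₁) (Nat.card W₂) := by
    have h1 : Nat.card W₂ ∣ Nat.card K := Subgroup.card_dvd_of_le hW₂K
    rw [hKidx] at h1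
    exact Nat.Coprime.coprime_dvd_right h1 hHall
  -- (3)
  have h3 : W₁ ⊓ W₂ = ⊥ := by
    rw [eq_bot_iff, ← hKW₁]
    exact le_inf (inf_le_right.trans hW₂K) inf_le_left
  -- (4)
  have h4 : ∀ a ∈ W₁, ∀ b ∈ W₂, a * b = b * a := by
    intro a ha b hb
    by_cases ha1 : a = 1
    · rw [ha1]; simp
    · have hb' : b ∈ K ⊓ Subgroup.centralizer ({a} : Set L) := by rw [hC a ha ha1]; exact hb
      exact (Subgroup.mem_centralizer_iff.1 hb'.2) a rfl
  -- generators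
  obtain ⟨w₁, hw₁, hgen₁⟩ := exists_gen W₁ hW₁c
  obtain ⟨w₂, hw₂, hgen₂⟩ := exists_gen W₂ hW₂c
  obtain ⟨e, he1, he0⟩ := crt_exp _ _ hcop
  obtain ⟨e', he1', he0'⟩ := crt_exp _ _ hcop.symm
  have hord₁ : ∀ a ∈ W₁, orderOf a ∣ Nat.card W₁ := fun a ha => Subgroup.orderOf_dvd_natCard W₁ ha
  have hord₂ : ∀ b ∈ W₂, orderOf b ∣ Nat.card W₂ := fun b hb => Subgroup.orderOf_dvd_natCard W₂ hb
  have hcomm12 : Commute w₁ w₂ := h4 w₁ hw₁ w₂ hw₂
  -- W decomposition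
  have hWdec : ∀ u ∈ W₁ ⊔ W₂, ∃ a ∈ W₁, ∃ b ∈ W₂, u = a * b := by
    intro u hu
    have hle : W₂ ≤ Subgroup.normalizer (W₁ : Set L) := by
      intro b hb
      rw [Subgroup.mem_normalizer_iff]
      intro a
      constructor
      · intro ha
        have : b * a * b⁻¹ = a := by rw [← h4 a ha b hb]; group
        rw [this]; exact ha
      · intro ha
        have h5 := h4 _ ha b hb
        have : a = b * a * b⁻¹ := by
          have e1 : b * a * b⁻¹ * b = b * (b * a * b⁻¹) := h5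
          have e2 : b * a = b * (b * a * b⁻¹) := by rw [← e1]; group
          exact mul_left_cancel e2
        rw [this]; exact ha
    have hu' : u ∈ ((W₁ ⊔ W₂ : Subgroup L) : Set L) := hu
    rw [Subgroup.coe_mul_of_right_le_normalizer_left W₁ W₂ hle] at hu'
    obtain ⟨a, ha, b, hb, rfl⟩ := hu'
    exact ⟨a, ha, b, hb, rfl⟩
  -- every element of W is a power of w₁ * w₂
  have hWpow : ∀ u ∈ W₁ ⊔ W₂, ∃ i : ℤ, u = (w₁ * w₂) ^ i := by
    have hw₁pow : w₁ = (w₁ * w₂) ^ e := by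
      rw [hcomm12.mul_pow, he1 w₁ (hord₁ w₁ hw₁), he0 w₂ (hord₂ w₂ hw₂), mul_one]
    have hw₂pow : w₂ = (w₁ * w₂) ^ e' := by
      rw [hcomm12.mul_pow, he0' w₁ (hord₁ w₁ hw₁), he1' w₂ (hord₂ w₂ hw₂), one_mul]
    intro u hu
    obtain ⟨a, ha, b, hb, rfl⟩ := hWdec u hu
    obtain ⟨i, rfl⟩ := hgen₁ a ha
    obtain ⟨j, rfl⟩ := hgen₂ b hb
    refine ⟨e * i + e' * j, ?_⟩
    rw [zpow_add, zpow_mul, zpow_mul, zpow_natCast, zpow_natCast, ← hw₁pow, ← hw₂pow]
  have hWcomm : ∀ u ∈ W₁ ⊔ W₂, ∀ v ∈ W₁ ⊔ W₂, u * v = v * u := by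
    intro u hu v hv
    obtain ⟨i, rfl⟩ := hWpow u hu
    obtain ⟨j, rfl⟩ := hWpow v hv
    rw [← zpow_add, ← zpow_add, add_comm]
  have hgW : w₁ * w₂ ∈ W₁ ⊔ W₂ :=
    (W₁ ⊔ W₂).mul_mem (Subgroup.mem_sup_left hw₁) (Subgroup.mem_sup_right hw₂)
  -- (5)
  have h5 : IsCyclic ↥(W₁ ⊔ W₂) := by
    refine ⟨⟨⟨w₁ * w₂, hgW⟩, fun u => ?_⟩⟩
    obtain ⟨i, hi⟩ := hWpow u.1 u.2
    refine ⟨i, ?_⟩
    apply Subtype.ext
    simp only [Subgroup.coe_zpow]
    exact hi.symm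
  refine ⟨hW₁, hW₂, h3, h4, h5, ?_⟩
  -- (6)
  intro X hX hXne
  apply le_antisymm
  · intro g hg
    obtain ⟨w, hwX⟩ := hXne
    have hw := hX hwX
    have hw' := hX ((Subgroup.mem_set_normalizer_iff.1 hg w).1 hwX)
    obtain ⟨a, ha, b, hb, hwab⟩ := hWdec w hw.1
    obtain ⟨a', ha', b', hb', hwab'⟩ := hWdec _ hw'.1
    have ha1 : a ≠ 1 := by
      intro h
      apply hw.2
      right
      rw [hwab, h, one_mul]; exact hb
    -- a = a'
    have hπ : ∀ z : L, (QuotientGroup.mk' K z = 1) ↔ z ∈ K := fun z => QuotientGroup.eq_one_iff z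
    have hπcomm : ∀ p q : L ⧸ K, p * q = q * p := by
      intro p q
      obtain ⟨p, rfl⟩ := QuotientGroup.mk'_surjective K p
      obtain ⟨q, rfl⟩ := QuotientGroup.mk'_surjective K q
      obtain ⟨k, hk, v, hv, rfl⟩ := hLdec p
      obtain ⟨k', hk', v', hv', rfl⟩ := hLdec q
      simp only [map_mul, (hπ k).2 hk, (hπ k').2 hk', one_mul]
      rw [← map_mul, ← map_mul, hWcomm v (Subgroup.mem_sup_left hv) v' (Subgroup.mem_sup_left hv')]
    have haa' : a = a' := by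
      have h1 : QuotientGroup.mk' K (g * w * g⁻¹) = QuotientGroup.mk' K w := by
        rw [map_mul, map_mul, hπcomm, ← mul_assoc, ← map_mul, inv_mul_cancel, map_one, one_mul]
      rw [hwab', hwab] at h1
      simp only [map_mul, (hπ b).2 (hW₂K hb), (hπ b').2 (hW₂K hb'), mul_one] at h1
      have h2 : a⁻¹ * a' ∈ K := by
        rw [← hπ, map_mul, map_inv, h1, inv_mul_cancel]
      have h3 : a⁻¹ * a' ∈ K ⊓ W₁ := ⟨h2, W₁.mul_mem (W₁.inv_mem ha) ha'⟩
      rw [hKW₁, Subgroup.mem_bot] at h3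
      exact inv_mul_eq_one.1 h3
    -- g centralises a
    have hga : g * a * g⁻¹ = a := by
      have e1 : w ^ e = a := by
        rw [hwab, Commute.mul_pow (h4 a ha b hb), he1 a (hord₁ a ha), he0 b (hord₂ b hb), mul_one]
      have e2 : (g * w * g⁻¹) ^ e = a' := by
        rw [hwab', Commute.mul_pow (h4 a' ha' b' hb'), he1 a' (hord₁ a' ha'),
          he0 b' (hord₂ b' hb'), mul_one]
      rw [conj_pow, e1] at e2
      rw [e2, haa']
    obtain ⟨k, hk, v, hv, rfl⟩ := hLdec g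
    have hkW₂ : k ∈ W₂ := by
      rw [← hC a ha ha1]
      refine ⟨hk, ?_⟩
      show k ∈ Subgroup.centralizer ({a} : Set L)
      rw [Subgroup.mem_centralizer_iff]
      intro y hy
      rw [Set.mem_singleton_iff] at hy
      rw [hy]
      have hva : v * a = a * v := hWcomm v (Subgroup.mem_sup_left hv) a (Subgroup.mem_sup_left ha)
      have e1 : k * v * a * (k * v)⁻¹ = k * a * k⁻¹ := by
        have : k * v * a * (k * v)⁻¹ = k * (v * a) * v⁻¹ * k⁻¹ := by group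
        rw [this, hva]; group
      rw [e1] at hga
      have : k * a = k * a * k⁻¹ * k := by group
      rw [this, hga]
    exact (W₁ ⊔ W₂).mul_mem (Subgroup.mem_sup_right hkW₂) (Subgroup.mem_sup_left hv)
  · intro g hg
    rw [Subgroup.mem_set_normalizer_iff]
    intro n
    constructor
    · intro hn
      have : g * n * g⁻¹ = n := by
        rw [hWcomm g hg n (hX hn).1]; group
      rw [this]; exact hn
    · intro hn
      have hn' := (hX hn).1
      have hnW : n ∈ W₁ ⊔ W₂ := by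
        have : n = g⁻¹ * (g * n * g⁻¹) * g := by group
        rw [this]
        exact (W₁ ⊔ W₂).mul_mem ((W₁ ⊔ W₂).mul_mem ((W₁ ⊔ W₂).inv_mem hg) hn') hg
      have : g * n * g⁻¹ = n := by
        rw [hWcomm g hg n hnW]; group
      rw [this] at hn; exact hn

end Cfsg.Agent.S1510
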