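import Cfsg.Statements.S1516
import Cfsg.Agent.S1515
import Cfsg.Agent.Lib.Helper11.Coherence3

set_option autoImplicit false
set_option maxHeartbeats 1000000
open Cfsg

namespace Cfsg.Agent.S1516

open Cfsg.Agent.Lib.Helper2 Cfsg.Agent.Lib.Helper11
open scoped ComplexConjugate

theorem zspanOn_mono {X : Type*} {S₁ S₂ : Set (X → ℂ)} (h : S₁ ⊆ S₂) (A : Set X) :
    zspanOn S₁ A ⊆ zspanOn S₂ A := by
  intro α hα
  exact ⟨Submodule.span_mono h hα.1, hα.2⟩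

theorem zsmul_eq_smul {X : Type*} (m : ℤ) (f : X → ℂ) : (m • f : X → ℂ) = (m : ℂ) • f := by
  ext z; simp

/-- The arithmetic core of (5.7). -/
theorem five_seven_arith (c : ℤ) (a d₁ n₁ T : ℝ) (ha : 0 < a) (hd₁ : 0 < d₁) (hn₁ : 0 < n₁)
    (hT : 2 * (a * d₁) * d₁ < T)
    (h : ((c : ℝ) - a * n₁) ^ 2 / n₁ + (c : ℝ) ^ 2 / d₁ ^ 2 * (T - d₁ ^ 2 / n₁) ≤ a ^ 2 * n₁) :
    c = 0 := by
  by_contra hc
  have hc2 : (0 : ℝ) < (c : ℝ) ^ 2 := by
    have : (c : ℝ) ≠ 0 := by exact_mod_cast hc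
    positivity
  have e1 : ((c : ℝ) - a * n₁) ^ 2 / n₁ = (c : ℝ) ^ 2 / n₁ - 2 * a * c + a ^ 2 * n₁ := by
    field_simp
    ring
  have e2 : (c : ℝ) ^ 2 / d₁ ^ 2 * (T - d₁ ^ 2 / n₁) = (c : ℝ) ^ 2 / d₁ ^ 2 * T - (c : ℝ) ^ 2 / n₁ := by
    field_simp
  rw [e1, e2] at h
  have h3 : (c : ℝ) ^ 2 / d₁ ^ 2 * T ≤ 2 * a * c := by linarith
  have h4 : (c : ℝ) ^ 2 / d₁ ^ 2 * (2 * (a * d₁) * d₁) < (c : ℝ) ^ 2 / d₁ ^ 2 * T := by
    apply mul_lt_mul_of_pos_left hT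
    positivity
  have h5 : (c : ℝ) ^ 2 / d₁ ^ 2 * (2 * (a * d₁) * d₁) = 2 * a * (c : ℝ) ^ 2 := by
    field_simp
  rw [h5] at h4
  have h6 : (c : ℝ) ^ 2 < c := by
    have : 2 * a * (c : ℝ) ^ 2 < 2 * a * c := lt_of_lt_of_le h4 h3
    have h2a : (0 : ℝ) < 2 * a := by linarith
    exact lt_of_mul_lt_mul_left this h2a.le
  have h7 : (c : ℝ) ≤ (c : ℝ) ^ 2 := by
    have := Int.le_self_sq c
    exact_mod_cast this
  linarith

section Lin
variable {L : Type*} [Group L] [Fintype L] {G : Type*} [Group G] [Fintype G]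

theorem lin_neg (E : Submodule ℤ (L → ℂ)) {τ : (L → ℂ) → (G → ℂ)}
    (h : IsLinearIsometryOn (E : Set (L → ℂ)) τ) {f : L → ℂ} (hf : f ∈ E) : τ (-f) = -τ f := by
  have := h.2.1 f hf (-1)
  simpa using this

theorem lin_sub (E : Submodule ℤ (L → ℂ)) {τ : (L → ℂ) → (G → ℂ)}
    (h : IsLinearIsometryOn (E : Set (L → ℂ)) τ) {f g : L → ℂ} (hf : f ∈ E) (hg : g ∈ E) :
    τ (f - g) = τ f - τ g := by
  rw [sub_eq_add_neg, h.1 f hf (-g) (E.neg_mem hg), lin_neg E h hg, sub_eq_add_neg]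

end Lin

/-- Let (S, τ, R) be a coherence system … (Peterfalvi 5.7). -/
theorem result {L : Type*} [Group L] [Fintype L] {G : Type*} [Group G] [Fintype G] (S : Set (L → ℂ)) (τ : (L → ℂ) → (G → ℂ)) (R : (L → ℂ) → Finset (G → ℂ)) (hS : Cfsg.IsCoherenceSystem S τ R) (d n : (L → ℂ) → ℕ) (hd : ∀ φ ∈ S, φ 1 = (d φ : ℂ)) (hn : ∀ φ ∈ S, Cfsg.classInner φ φ = (n φ : ℂ)) (S₁ : Finset (L → ℂ)) (hS₁ : ↑S₁ ⊆ S) (hS₁c : ∀ φ ∈ S₁, Cfsg.conjFun φ ∈ S₁) (hcoh : Cfsg.IsCoherent (↑S₁ : Set (L → ℂ)) {1}ᶜ τ) (χ : L → ℂ) (hχ : χ ∈ S) (hχ₁ : χ ∉ S₁) (hχ₂ : Cfsg.conjFun χ ∉ S₁) (χ₁ : L → ℂ) (hχ₁S : χ₁ ∈ S₁) (hdvd : d χ₁ ∣ d χ) (hineq : (2 * d χ * d χ₁ : ℝ) < ∑ φ ∈ S₁, ((d φ : ℝ) ^ 2 / (n φ : ℝ))) : Cfsg.IsCoherent (↑S₁ ∪ {χ, Cfsg.conjFun χ} : Set (L → ℂ)) {1}ᶜ τ := by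
  classical
  obtain ⟨_, τ₁, hτ₁, hagree₁⟩ := hcoh
  have hχ₁mem : χ₁ ∈ S := hS₁ hχ₁S
  have hχc : conjFun χ ∈ S := hS.conj_mem χ hχ
  have hne1 : χ ≠ χ₁ := fun h => hχ₁ (h ▸ hχ₁S)
  have hne2 : conjFun χ ≠ χ₁ := fun h => hχ₂ (h ▸ hχ₁S)
  obtain ⟨a, ha⟩ := hdvd
  have hd1 : (d χ₁ : ℂ) ≠ 0 := by
    rw [← hd χ₁ hχ₁mem]; exact coh_apply_one_ne_zero hS hχ₁mem
  have hdχ : (d χ : ℂ) ≠ 0 := by
    rw [← hd χ hχ]; exact coh_apply_one_ne_zero hS hχ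
  have hd1pos : 0 < d χ₁ := by
    apply Nat.pos_of_ne_zero
    intro h; rw [h] at hd1; simp at hd1
  have hdχpos : 0 < d χ := by
    apply Nat.pos_of_ne_zero
    intro h; rw [h] at hdχ; simp at hdχ
  have hapos : 0 < a := by
    rcases Nat.eq_zero_or_pos a with h | h
    · rw [h, mul_zero] at ha; omega
    · exact h
  have hnpos : ∀ φ ∈ S, 0 < n φ := by
    intro φ hφ
    obtain ⟨m, hmpos, hm⟩ := coh_norm_nat hS hφ
    have h1 : (n φ : ℂ) = (m : ℂ) := by rw [← hn φ hφ, hm]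
    have h2 : n φ = m := by exact_mod_cast h1
    omega
  -- ψ
  set ψ : L → ℂ := (a : ℤ) • χ₁ with hψdef
  have hψC : ψ = (a : ℂ) • χ₁ := by
    rw [hψdef, zsmul_eq_smul]; push_cast; rfl
  have hψ₁ : ψ ∈ zspan (↑S₁ : Set (L → ℂ)) :=
    Submodule.smul_mem _ _ (Submodule.subset_span hχ₁S)
  have hψS : ψ ∈ zspan S := Submodule.span_mono hS₁ hψ₁
  have hψ1 : ψ 1 = (d χ : ℂ) := by
    rw [hψC, Pi.smul_apply, hd χ₁ hχ₁mem, ha]; push_cast; rw [smul_eq_mul]; ring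
  have h1 : classInner χ ψ = 0 := by
    rw [hψC, classInner_smul_right, hS.orthogonal χ hχ χ₁ hχ₁mem hne1, mul_zero]
  have h2 : classInner (conjFun χ) ψ = 0 := by
    rw [hψC, classInner_smul_right, hS.orthogonal _ hχc χ₁ hχ₁mem hne2, mul_zero]
  have h1' : classInner ψ χ = 0 := by rw [← classInner_conj_symm, h1, map_zero]
  have h2' : classInner ψ (conjFun χ) = 0 := by rw [← classInner_conj_symm, h2, map_zero]
  have hψψ : classInner ψ ψ = (a : ℂ) ^ 2 * (n χ₁ : ℂ) := by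
    rw [hψC, classInner_smul_left, classInner_smul_right, hn χ₁ hχ₁mem, Complex.conj_natCast]; ring
  have hm : χ - ψ ∈ zspanOn S {1}ᶜ := by
    refine ⟨Submodule.sub_mem _ (Submodule.subset_span hχ) hψS, ?_⟩
    intro x hx
    have hx1 : x = 1 := by simpa using hx
    subst hx1
    rw [Pi.sub_apply, hd χ hχ, hψ1, sub_self]
  have hm2 : χ - conjFun χ ∈ zspanOn S {1}ᶜ := coh_sub_conj_mem hS hχ
  have hsub : zspan {χ - ψ, χ - conjFun χ} ⊆ zspanOn S {1}ᶜ := by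
    apply zspan_le_zspanOn
    intro x hx
    rcases hx with rfl | rfl
    · exact hm
    · exact hm2
  have hτ : IsLinearIsometryOn (zspan {χ - ψ, χ - conjFun χ}) τ :=
    isLinearIsometryOn_mono hS.isometry hsub
  have hlow := (Cfsg.Agent.S1515.result S τ R hS χ hχ ψ hψS h1 h2 τ hτ (fun _ => rfl)).1
  set X := τ (χ - ψ) with hX
  have hXgen : IsGeneralizedCharacter G X := hS.isometry.2.2.2 _ hm
  have hχχ : classInner χ χ = (n χ : ℂ) := hn χ hχ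
  have hXX : classInner X X = (n χ : ℂ) + (a : ℂ) ^ 2 * (n χ₁ : ℂ) := by
    rw [hX, hS.isometry.2.2.1 _ hm _ hm, classInner_sub_left, classInner_sub_right,
      classInner_sub_right, h1, h1', hψψ, hχχ]; ring
  have hXXr : classInner X X = (((n χ : ℝ) + (a : ℝ) ^ 2 * (n χ₁ : ℝ) : ℝ) : ℂ) := by
    rw [hXX]; push_cast; rfl
  have hYY := bessel (R χ) (hS.orthonormal χ hχ) X
  set Y := X - ∑ α ∈ R χ, classInner X α • α with hY
  have hYle : (classInner Y Y).re ≤ (a : ℝ) ^ 2 * (n χ₁ : ℝ) := by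
    rw [hYY, hXXr, Complex.sub_re, Complex.ofReal_re, Complex.ofReal_re]
    rw [hχχ, Complex.natCast_re] at hlow
    linarith
  -- orthogonality of `R χ` with `τ₁ φ`
  have hspan : ∀ φ ∈ S₁, τ₁ φ = ∑ β ∈ R φ, classInner (τ₁ φ) β • β := fun φ hφ =>
    coh_tau1_mem_span hS hS₁ hS₁c hτ₁ hagree₁ hφ
  have hneφ : ∀ φ ∈ S₁, φ ≠ χ ∧ φ ≠ conjFun χ := fun φ hφ =>
    ⟨fun h => hχ₁ (h ▸ hφ), fun h => hχ₂ (h ▸ hφ)⟩
  have hRorth : ∀ φ ∈ S₁, ∀ α ∈ R χ, classInner α (τ₁ φ) = 0 := by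
    intro φ hφ α hα
    rw [hspan φ hφ, classInner_sum_right]
    apply Finset.sum_eq_zero
    intro β hβ
    rw [classInner_smul_right,
      coh_R_orth hS hχ (hS₁ hφ) (hneφ φ hφ).1 (hneφ φ hφ).2 α hα β hβ, mul_zero]
  have hYφ : ∀ φ ∈ S₁, classInner Y (τ₁ φ) = classInner X (τ₁ φ) := by
    intro φ hφ
    rw [hY, classInner_sub_left, classInner_sum_left, Finset.sum_eq_zero, sub_zero]
    intro α hα
    rw [classInner_smul_left, hRorth φ hφ α hα, mul_zero]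
  have horthτ₁ : ∀ i ∈ S₁, ∀ j ∈ S₁,
      classInner (τ₁ i) (τ₁ j) = if i = j then (((n i : ℝ)) : ℂ) else 0 := by
    intro i hi j hj
    rw [hτ₁.2.2.1 i (Submodule.subset_span hi) j (Submodule.subset_span hj)]
    split_ifs with h
    · subst h
      rw [hn i (hS₁ hi)]; push_cast; rfl
    · exact hS.orthogonal i (hS₁ hi) j (hS₁ hj) h
  have hWB := bessel_weighted_le S₁ τ₁ (fun φ => (n φ : ℝ))
    (fun φ hφ => by exact_mod_cast hnpos φ (hS₁ hφ)) horthτ₁ Y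
  obtain ⟨x₁, hx₁⟩ := IsGeneralizedCharacter.inner_int hXgen
    (hτ₁.2.2.2 χ₁ (Submodule.subset_span hχ₁S))
  have hrel : ∀ φ ∈ S₁, φ ≠ χ₁ → (d χ₁ : ℂ) * classInner X (τ₁ φ)
      = (d φ : ℂ) * ((x₁ : ℂ) + (a : ℂ) * (n χ₁ : ℂ)) := by
    intro φ hφ hne
    have hφS : φ ∈ S := hS₁ hφ
    set δ : L → ℂ := (d χ₁ : ℤ) • φ - (d φ : ℤ) • χ₁ with hδ
    have hδC : δ = (d χ₁ : ℂ) • φ - (d φ : ℂ) • χ₁ := by
      rw [hδ, zsmul_eq_smul, zsmul_eq_smul]; push_cast; rfl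
    have hδmem : δ ∈ zspanOn (↑S₁ : Set (L → ℂ)) {1}ᶜ := by
      refine ⟨Submodule.sub_mem _ (Submodule.smul_mem _ _ (Submodule.subset_span hφ))
        (Submodule.smul_mem _ _ (Submodule.subset_span hχ₁S)), ?_⟩
      intro x hx
      have hx1 : x = 1 := by simpa using hx
      subst hx1
      rw [hδC]
      simp only [Pi.sub_apply, Pi.smul_apply, smul_eq_mul]
      rw [hd φ hφS, hd χ₁ hχ₁mem]; ring
    have hδS : δ ∈ zspanOn S {1}ᶜ := zspanOn_mono hS₁ _ hδmem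
    have e1 : τ₁ δ = (d χ₁ : ℂ) • τ₁ φ - (d φ : ℂ) • τ₁ χ₁ := by
      rw [hδ, lin_sub (Submodule.span ℤ (↑S₁ : Set (L → ℂ))) hτ₁
        (Submodule.smul_mem _ _ (Submodule.subset_span hφ))
        (Submodule.smul_mem _ _ (Submodule.subset_span hχ₁S)),
        hτ₁.2.1 φ (Submodule.subset_span hφ), hτ₁.2.1 χ₁ (Submodule.subset_span hχ₁S),
        zsmul_eq_smul, zsmul_eq_smul]
      push_cast; rfl
    have e2 : classInner X (τ₁ δ) = classInner (χ - ψ) δ := by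
      rw [hagree₁ δ hδmem, hX, hS.isometry.2.2.1 _ hm _ hδS]
    have o1 : classInner χ φ = 0 := hS.orthogonal χ hχ φ hφS (fun h => (hneφ φ hφ).1 h.symm)
    have o2 : classInner χ χ₁ = 0 := hS.orthogonal χ hχ χ₁ hχ₁mem hne1
    have o3 : classInner ψ φ = 0 := by
      rw [hψC, classInner_smul_left, hS.orthogonal χ₁ hχ₁mem φ hφS (fun h => hne h.symm), mul_zero]
    have o4 : classInner ψ χ₁ = (a : ℂ) * (n χ₁ : ℂ) := by
      rw [hψC, classInner_smul_left, hn χ₁ hχ₁mem]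
    rw [e1, hδC, classInner_sub_right, classInner_smul_right, classInner_smul_right, hx₁,
      classInner_sub_right, classInner_smul_right, classInner_smul_right, classInner_sub_left,
      classInner_sub_left, o1, o2, o3, o4] at e2
    simp only [Complex.conj_natCast] at e2
    linear_combination e2
  -- the integer `c`
  set c : ℤ := x₁ + (a : ℤ) * (n χ₁ : ℤ) with hc
  have hcC : (c : ℂ) = (x₁ : ℂ) + (a : ℂ) * (n χ₁ : ℂ) := by rw [hc]; push_cast; rfl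
  have hd1R : (0 : ℝ) < (d χ₁ : ℝ) := by exact_mod_cast hd1pos
  have hn1R : (0 : ℝ) < (n χ₁ : ℝ) := by exact_mod_cast hnpos χ₁ hχ₁mem
  have haR : (0 : ℝ) < (a : ℝ) := by exact_mod_cast hapos
  have hval : ∀ φ ∈ S₁, φ ≠ χ₁ → classInner X (τ₁ φ)
      = (((d φ : ℝ) * (c : ℝ) / (d χ₁ : ℝ) : ℝ) : ℂ) := by
    intro φ hφ hne
    have := hrel φ hφ hne
    rw [← hcC] at this
    push_cast
    field_simp
    linear_combination this
  have hx₁R : (x₁ : ℝ) = (c : ℝ) - (a : ℝ) * (n χ₁ : ℝ) := by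
    rw [hc]; push_cast; ring
  have hsumY : ∑ φ ∈ S₁, ‖classInner Y (τ₁ φ)‖ ^ 2 / (n φ : ℝ)
      = ((c : ℝ) - (a : ℝ) * (n χ₁ : ℝ)) ^ 2 / (n χ₁ : ℝ) + (c : ℝ) ^ 2 / (d χ₁ : ℝ) ^ 2 *
        (∑ φ ∈ S₁, ((d φ : ℝ) ^ 2 / (n φ : ℝ)) - (d χ₁ : ℝ) ^ 2 / (n χ₁ : ℝ)) := by
    rw [← Finset.add_sum_erase S₁ _ hχ₁S]
    congr 1
    · rw [hYφ χ₁ hχ₁S, hx₁, Complex.norm_intCast, sq_abs, hx₁R]
    · have e : ∑ φ ∈ S₁, ((d φ : ℝ) ^ 2 / (n φ : ℝ)) - (d χ₁ : ℝ) ^ 2 / (n χ₁ : ℝ)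
          = ∑ φ ∈ S₁.erase χ₁, ((d φ : ℝ) ^ 2 / (n φ : ℝ)) := by
        rw [← Finset.add_sum_erase S₁ _ hχ₁S]; ring
      rw [e, Finset.mul_sum]
      apply Finset.sum_congr rfl
      intro φ hφ
      obtain ⟨hne, hφ'⟩ := Finset.mem_erase.1 hφ
      rw [hYφ φ hφ', hval φ hφ' hne, Complex.norm_real, Real.norm_eq_abs, sq_abs]
      have : (n φ : ℝ) ≠ 0 := by
        have := hnpos φ (hS₁ hφ')
        positivity
      field_simp
  have hc0 : c = 0 := by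
    apply five_seven_arith c (a : ℝ) (d χ₁ : ℝ) (n χ₁ : ℝ)
      (∑ φ ∈ S₁, ((d φ : ℝ) ^ 2 / (n φ : ℝ))) haR hd1R hn1R
    · have : (2 * d χ * d χ₁ : ℝ) = 2 * ((a : ℝ) * (d χ₁ : ℝ)) * (d χ₁ : ℝ) := by
        rw [ha]; push_cast; ring
      rw [← this]; exact hineq
    · rw [← hsumY]
      exact le_trans hWB hYle
  -- consequences of `c = 0`
  have hx₁val : classInner X (τ₁ χ₁) = -((a : ℂ) * (n χ₁ : ℂ)) := by
    rw [hx₁]
    have : (c : ℂ) = 0 := by rw [hc0]; simp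
    rw [hcC] at this
    linear_combination this
  have hxφ : ∀ φ ∈ S₁, φ ≠ χ₁ → classInner X (τ₁ φ) = 0 := by
    intro φ hφ hne
    rw [hval φ hφ hne, hc0]; simp
  -- the new values
  set W := τ₁ ψ with hW
  have hWC : W = (a : ℂ) • τ₁ χ₁ := by
    rw [hW, hψdef, hτ₁.2.1 χ₁ (Submodule.subset_span hχ₁S), zsmul_eq_smul]; push_cast; rfl
  have hWgen : IsGeneralizedCharacter G W := hτ₁.2.2.2 ψ hψ₁
  have hXW : classInner X W = -((a : ℂ) ^ 2 * (n χ₁ : ℂ)) := by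
    rw [hWC, classInner_smul_right, hx₁val, Complex.conj_natCast]; ring
  have hWX : classInner W X = -((a : ℂ) ^ 2 * (n χ₁ : ℂ)) := by
    rw [← classInner_conj_symm, hXW]; simp
  have hWW : classInner W W = (a : ℂ) ^ 2 * (n χ₁ : ℂ) := by
    rw [hW, hτ₁.2.2.1 ψ hψ₁ ψ hψ₁, hψψ]
  have hφW : ∀ φ ∈ S₁, classInner (τ₁ φ) W = if φ = χ₁ then (a : ℂ) * (n χ₁ : ℂ) else 0 := by
    intro φ hφ
    rw [hW, hτ₁.2.2.1 φ (Submodule.subset_span hφ) ψ hψ₁, hψC, classInner_smul_right,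
      Complex.conj_natCast]
    split_ifs with h
    · subst h; rw [hn φ (hS₁ hφ)]
    · rw [hS.orthogonal φ (hS₁ hφ) χ₁ hχ₁mem h, mul_zero]
  have hφX : ∀ φ ∈ S₁, classInner (τ₁ φ) X = if φ = χ₁ then -((a : ℂ) * (n χ₁ : ℂ)) else 0 := by
    intro φ hφ
    rw [← classInner_conj_symm]
    split_ifs with h
    · subst h; rw [hx₁val]; simp
    · rw [hxφ φ hφ h, map_zero]
  set Xχ := X + W with hXχ
  have hXχgen : IsGeneralizedCharacter G Xχ := isGenChar_add hXgen hWgen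
  have hXχXχ : classInner Xχ Xχ = (n χ : ℂ) := by
    rw [hXχ, classInner_add_left, classInner_add_right, classInner_add_right, hXX, hXW, hWX, hWW]
    ring
  have hφXχ : ∀ φ ∈ S₁, classInner (τ₁ φ) Xχ = 0 := by
    intro φ hφ
    rw [hXχ, classInner_add_right, hφX φ hφ, hφW φ hφ]
    split_ifs <;> ring
  set Tχ := τ (χ - conjFun χ) with hTχ
  have hTχsum : Tχ = ∑ α ∈ R χ, α := hS.sum_eq χ hχ
  have hTχgen : IsGeneralizedCharacter G Tχ := hS.isometry.2.2.2 _ hm2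
  have hχχc : classInner χ (conjFun χ) = 0 := coh_orth_conj hS hχ
  have hχcχ : classInner (conjFun χ) χ = 0 := by
    rw [← classInner_conj_symm, hχχc, map_zero]
  have hχcχc : classInner (conjFun χ) (conjFun χ) = (n χ : ℂ) := by
    rw [coh_norm_conj hS hχ, hχχ]
  have hXT : classInner X Tχ = (n χ : ℂ) := by
    rw [hX, hTχ, hS.isometry.2.2.1 _ hm _ hm2, classInner_sub_left, classInner_sub_right,
      classInner_sub_right, hχχ, hχχc, h1', h2']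
    ring
  have hTφ : ∀ φ ∈ S₁, classInner Tχ (τ₁ φ) = 0 := by
    intro φ hφ
    rw [hTχsum, classInner_sum_left]
    exact Finset.sum_eq_zero (fun α hα => hRorth φ hφ α hα)
  have hφT : ∀ φ ∈ S₁, classInner (τ₁ φ) Tχ = 0 := by
    intro φ hφ
    rw [← classInner_conj_symm, hTφ φ hφ, map_zero]
  have hTW : classInner Tχ W = 0 := by
    rw [hWC, classInner_smul_right, hTφ χ₁ hχ₁S, mul_zero]
  have hWT : classInner W Tχ = 0 := by
    rw [← classInner_conj_symm, hTW, map_zero]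
  have hTX : classInner Tχ X = (n χ : ℂ) := by
    rw [← classInner_conj_symm, hXT, Complex.conj_natCast]
  have hTT : classInner Tχ Tχ = 2 * (n χ : ℂ) := by
    rw [hTχ, hS.isometry.2.2.1 _ hm2 _ hm2, classInner_sub_left, classInner_sub_right,
      classInner_sub_right, hχχ, hχχc, hχcχ, hχcχc]
    ring
  have hXχT : classInner Xχ Tχ = (n χ : ℂ) := by
    rw [hXχ, classInner_add_left, hXT, hWT, add_zero]
  have hTXχ : classInner Tχ Xχ = (n χ : ℂ) := by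
    rw [hXχ, classInner_add_right, hTX, hTW, add_zero]
  set Xc := Xχ - Tχ with hXc
  have hXcgen : IsGeneralizedCharacter G Xc := isGenChar_sub hXχgen hTχgen
  have hXcXc : classInner Xc Xc = (n χ : ℂ) := by
    rw [hXc, classInner_sub_left, classInner_sub_right, classInner_sub_right, hXχXχ, hXχT, hTXχ,
      hTT]
    ring
  have hXcXχ : classInner Xc Xχ = 0 := by
    rw [hXc, classInner_sub_left, hXχXχ, hTXχ, sub_self]
  have hφXc : ∀ φ ∈ S₁, classInner (τ₁ φ) Xc = 0 := by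
    intro φ hφ
    rw [hXc, classInner_sub_right, hφXχ φ hφ, hφT φ hφ, sub_zero]
  have hnχ0 : n χ ≠ 0 := (hnpos χ hχ).ne'
  obtain ⟨τ', hτ', hext, hτ'χ, hτ'χc⟩ := isometry_extend_two (↑S₁ : Set (L → ℂ)) τ₁ hτ₁ χ
    (conjFun χ) (n χ) (n χ) hχχ hχcχc hnχ0 hnχ0 hχcχ
    (fun φ hφ => hS.orthogonal φ (hS₁ hφ) χ hχ (hneφ φ hφ).1)
    (fun φ hφ => hS.orthogonal φ (hS₁ hφ) _ hχc (hneφ φ hφ).2)
    Xχ Xc hXχgen hXcgen hXχXχ hXcXc hXcXχ hφXχ hφXc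
  have hset : (↑S₁ ∪ {χ, conjFun χ} : Set (L → ℂ)) = insert χ (insert (conjFun χ) ↑S₁) := by
    ext x
    simp only [Set.mem_union, Set.mem_insert_iff, Set.mem_singleton_iff, Finset.mem_coe]
    tauto
  rw [hset]
  set S' : Set (L → ℂ) := insert χ (insert (conjFun χ) ↑S₁) with hS'
  have hS₁S' : (↑S₁ : Set (L → ℂ)) ⊆ S' := fun x hx => Or.inr (Or.inr hx)
  have hχS' : χ ∈ S' := Or.inl rfl
  have hχcS' : conjFun χ ∈ S' := Or.inr (Or.inl rfl)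
  refine ⟨⟨χ - conjFun χ, ⟨Submodule.sub_mem _ (Submodule.subset_span hχS')
    (Submodule.subset_span hχcS'), hm2.2⟩, ?_⟩, τ', hτ', ?_⟩
  · intro h
    exact hS.conj_ne χ hχ (sub_eq_zero.1 h).symm
  · intro α hα
    obtain ⟨hαspan, hαvan⟩ := hα
    obtain ⟨p, z, hz, rfl⟩ := Submodule.mem_span_insert.1 hαspan
    obtain ⟨q, β, hβ, rfl⟩ := Submodule.mem_span_insert.1 hz
    have hβS' : β ∈ Submodule.span ℤ S' := Submodule.span_mono hS₁S' hβ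
    have hχm : χ ∈ Submodule.span ℤ S' := Submodule.subset_span hχS'
    have hχcm : conjFun χ ∈ Submodule.span ℤ S' := Submodule.subset_span hχcS'
    -- value at one
    have hα1 : (p • χ + (q • conjFun χ + β)) 1 = 0 := hαvan 1 (by simp)
    have hβ1 : β 1 = -((p : ℂ) + (q : ℂ)) * (d χ : ℂ) := by
      rw [zsmul_eq_smul p χ, zsmul_eq_smul q (conjFun χ)] at hα1
      simp only [Pi.add_apply, Pi.smul_apply, smul_eq_mul] at hα1
      rw [coh_conj_apply_one hS hχ, hd χ hχ] at hα1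
      linear_combination hα1
    set β' : L → ℂ := β + (p + q) • ψ with hβ'
    have hβ'mem : β' ∈ zspanOn (↑S₁ : Set (L → ℂ)) {1}ᶜ := by
      refine ⟨Submodule.add_mem _ hβ (Submodule.smul_mem _ _ hψ₁), ?_⟩
      intro x hx
      have hx1 : x = 1 := by simpa using hx
      subst hx1
      rw [hβ', zsmul_eq_smul (p + q) ψ]
      simp only [Pi.add_apply, Pi.smul_apply, smul_eq_mul]
      rw [hβ1, hψ1]; push_cast; ring
    have hβ'S : β' ∈ zspanOn S {1}ᶜ := zspanOn_mono hS₁ _ hβ'mem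
    -- τ' side
    have eL : τ' (p • χ + (q • conjFun χ + β)) = p • Xχ + (q • Xc + τ₁ β) := by
      rw [hτ'.1 _ (Submodule.smul_mem _ p hχm) _
        (Submodule.add_mem _ (Submodule.smul_mem _ q hχcm) hβS'),
        hτ'.1 _ (Submodule.smul_mem _ q hχcm) _ hβS', hτ'.2.1 χ hχm p, hτ'.2.1 _ hχcm q,
        hτ'χ, hτ'χc, hext β hβ]
    -- τ side
    have eα : p • χ + (q • conjFun χ + β)
        = ((p + q) • (χ - ψ) - q • (χ - conjFun χ)) + β' := by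
      rw [hβ']
      simp only [smul_sub, add_smul]
      abel
    have mA : (p + q) • (χ - ψ) ∈ zspanOnSubmodule S {1}ᶜ :=
      (zspanOnSubmodule S {1}ᶜ).smul_mem _ hm
    have mB : q • (χ - conjFun χ) ∈ zspanOnSubmodule S {1}ᶜ :=
      (zspanOnSubmodule S {1}ᶜ).smul_mem _ hm2
    have eR : τ (p • χ + (q • conjFun χ + β)) = ((p + q) • X - q • Tχ) + τ₁ β' := by
      rw [eα, hS.isometry.1 _ ((zspanOnSubmodule S {1}ᶜ).sub_mem mA mB) _ hβ'S,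
        lin_sub (zspanOnSubmodule S {1}ᶜ) hS.isometry mA mB, hS.isometry.2.1 _ hm,
        hS.isometry.2.1 _ hm2, hagree₁ β' hβ'mem]
    have eβ' : τ₁ β' = τ₁ β + (p + q) • W := by
      rw [hβ', hτ₁.1 β hβ _ (Submodule.smul_mem _ _ hψ₁), hτ₁.2.1 ψ hψ₁]
    rw [eL, eR, eβ', hXc, hXχ]
    simp only [smul_sub, smul_add, add_smul]
    abel

end Cfsg.Agent.S1516
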