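import Cfsg.Statements.S1518
import Cfsg.Agent.S1501
import Cfsg.Agent.S1500
import Cfsg.Agent.Lib.Helper2.NormalInduction
import Cfsg.Agent.Lib.Helper2.BurnsidePQ

set_option autoImplicit false
open Cfsg

namespace Cfsg.Agent.S1518

open Cfsg.Agent.Lib.Helper2 Cfsg.Agent.Lib.Helper11
open scoped ComplexConjugate

theorem dadeIsometry_conjFun {G : Type*} [Group G] (A : Set G) (L : Subgroup G)
    (H : G → Subgroup G) (α : L → ℂ) :
    Cfsg.dadeIsometry A L H (Cfsg.conjFun α) = Cfsg.conjFun (Cfsg.dadeIsometry A L H α) := by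
  funext g
  simp only [Cfsg.dadeIsometry, Cfsg.conjFun]
  by_cases h : ∃ a : ↥L, (a : G) ∈ A ∧ ∃ x : G, ∃ u ∈ H (a : G), x * g * x⁻¹ = (a : G) * u
  · rw [dif_pos h, dif_pos h]
  · rw [dif_neg h, dif_neg h, map_zero]

theorem dadeIsometry_neg {G : Type*} [Group G] (A : Set G) (L : Subgroup G)
    (H : G → Subgroup G) (α : L → ℂ) :
    Cfsg.dadeIsometry A L H (-α) = - Cfsg.dadeIsometry A L H α := by
  funext g
  simp only [Cfsg.dadeIsometry, Pi.neg_apply]
  by_cases h : ∃ a : ↥L, (a : G) ∈ A ∧ ∃ x : G, ∃ u ∈ H (a : G), x * g * x⁻¹ = (a : G) * u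
  · rw [dif_pos h, dif_pos h]
  · rw [dif_neg h, dif_neg h, neg_zero]

theorem dadeIsometry_zero {G : Type*} [Group G] (A : Set G) (L : Subgroup G)
    (H : G → Subgroup G) : Cfsg.dadeIsometry A L H (0 : L → ℂ) = 0 := by
  funext g
  simp only [Cfsg.dadeIsometry, Pi.zero_apply]
  by_cases h : ∃ a : ↥L, (a : G) ∈ A ∧ ∃ x : G, ∃ u ∈ H (a : G), x * g * x⁻¹ = (a : G) * u
  · rw [dif_pos h]
  · rw [dif_neg h]

theorem one_not_mem_dadeSupport {G : Type*} [Group G] {A : Set G} {L : Subgroup G}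
    {H : G → Subgroup G} (hD : Cfsg.DadeHypothesis A L H) : (1 : G) ∉ dadeSupport A H := by
  rintro ⟨a, ha, u, hu, x, hx⟩
  have h1 : a * u = 1 := by rw [← hx]; group
  have h2 : u = a⁻¹ := eq_inv_of_mul_eq_one_right h1
  have h3 : a⁻¹ ∈ H a ⊓ (L ⊓ Subgroup.centralizer {a}) := by
    refine ⟨h2 ▸ hu, L.inv_mem (hD.subset ha), Subgroup.inv_mem _ ?_⟩
    simp [Subgroup.mem_centralizer_iff]
  rw [hD.inf_eq_bot a ha, Subgroup.mem_bot, inv_eq_one] at h3
  exact hD.one_not_mem (h3 ▸ ha)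

/-- Under the Dade hypothesis for (A, L, H): if χ is an irreducible character of L vanishing at every non-identity element of L outside A, then the Dade image of χ − conj χ equals μ − conj μ for some irreducible character μ of G. -/
theorem result {G : Type*} [Group G] [Fintype G] (A : Set G) (L : Subgroup G) [Fintype L] (H : G → Subgroup G) (hD : Cfsg.DadeHypothesis A L H) (χ : L → ℂ) (hχ : Cfsg.IsIrrCharacter L χ) (hsupp : ∀ x : L, x ≠ 1 → (x : G) ∉ A → χ x = 0) : ∃ μ : G → ℂ, Cfsg.IsIrrCharacter G μ ∧ Cfsg.dadeIsometry A L H (χ - Cfsg.conjFun χ) = μ - Cfsg.conjFun μ := by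
  classical
  have hχc : Cfsg.IsIrrCharacter L (Cfsg.conjFun χ) := isIrrCharacter_conj hχ
  by_cases hreal : Cfsg.conjFun χ = χ
  · refine ⟨fun _ => 1, isIrrCharacter_one, ?_⟩
    rw [hreal, sub_self, dadeIsometry_zero]
    funext g
    simp [Cfsg.conjFun]
  · set α : L → ℂ := χ - Cfsg.conjFun χ with hα
    have hαg : Cfsg.IsGeneralizedCharacter L α :=
      ⟨χ, Cfsg.conjFun χ, IsIrrCharacter.isCharacter hχ, IsIrrCharacter.isCharacter hχc, rfl⟩
    have hαcf : Cfsg.IsClassFunction L α := IsGeneralizedCharacter.isClassFunction hαg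
    have hαA : ∀ x : L, (x : G) ∉ A → α x = 0 := by
      intro x hx
      simp only [hα, Pi.sub_apply, Cfsg.conjFun]
      by_cases hx1 : x = 1
      · obtain ⟨n, _, hn⟩ := IsIrrCharacter.apply_one hχ
        rw [hx1, hn]; simp
      · rw [hsupp x hx1 hx]; simp
    -- norm of α
    set χ' : Cfsg.IrrCharacter L := ⟨χ, hχ⟩ with hχ'
    set χc' : Cfsg.IrrCharacter L := ⟨Cfsg.conjFun χ, hχc⟩ with hχc'
    have hne : χ' ≠ χc' := by
      intro h
      apply hreal
      exact (congrArg Subtype.val h).symm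
    have hnorm : Cfsg.classInner α α = 2 := by
      have e : α = (χ' : L → ℂ) - (χc' : L → ℂ) := rfl
      rw [e, classInner_sub_left, classInner_sub_right, classInner_sub_right,
        classInner_irrCharacter_self, classInner_irrCharacter_self,
        classInner_irrCharacter_ne hne, classInner_irrCharacter_ne hne.symm]
      norm_num
    set β : G → ℂ := Cfsg.dadeIsometry A L H α with hβ
    have hβg : Cfsg.IsGeneralizedCharacter G β := Cfsg.Agent.S1501.result A L H hD α hαg hαA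
    have hβnorm : Cfsg.classInner β β = 2 := by
      rw [hβ, (Cfsg.Agent.S1500.result A L H hD α hαcf hαA).1 α hαcf hαA, hnorm]
    have hβ1 : β 1 = 0 := dadeIsometry_apply_of_not_mem (one_not_mem_dadeSupport hD)
    obtain ⟨μ₁, μ₂, hμne, hβeq⟩ := IsGeneralizedCharacter.eq_sub_of_norm_two hβg hβnorm hβ1
    -- conjugation
    have hβconj : Cfsg.conjFun β = -β := by
      rw [hβ, ← dadeIsometry_conjFun, ← dadeIsometry_neg]
      congr 1
      funext x
      simp [hα, Cfsg.conjFun]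
    set ν₁ : Cfsg.IrrCharacter G := ⟨Cfsg.conjFun (μ₁ : G → ℂ), isIrrCharacter_conj μ₁.2⟩ with hν₁
    set ν₂ : Cfsg.IrrCharacter G := ⟨Cfsg.conjFun (μ₂ : G → ℂ), isIrrCharacter_conj μ₂.2⟩ with hν₂
    have hconjeq : (ν₁ : G → ℂ) - (ν₂ : G → ℂ) = (μ₂ : G → ℂ) - (μ₁ : G → ℂ) := by
      have h1 : Cfsg.conjFun β = (ν₁ : G → ℂ) - (ν₂ : G → ℂ) := by
        rw [hβeq]
        funext g
        simp [Cfsg.conjFun, hν₁, hν₂]
      rw [← h1, hβconj, hβeq]
      ring
    have hinner := congrArg (fun f => Cfsg.classInner f (μ₂ : G → ℂ)) hconjeq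
    simp only [classInner_sub_left] at hinner
    rw [classInner_irrCharacter_self, classInner_irrCharacter_ne hμne] at hinner
    have hν₁μ₂ : ν₁ = μ₂ := by
      by_contra hcon
      rw [classInner_irrCharacter_ne hcon, classInner_irrCharacter ν₂ μ₂] at hinner
      split_ifs at hinner <;> norm_num at hinner
    refine ⟨μ₁, μ₁.2, ?_⟩
    rw [hβeq, ← hν₁μ₂]

end Cfsg.Agent.S1518
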