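import Cfsg.Statements.S1523
import Cfsg.Agent.Lib.Helper11.ClassSum
import Cfsg.Agent.Lib.Helper11.FreeOrbit
import Cfsg.Agent.Lib.Helper2.Induction
import Cfsg.Agent.Lib.Helper2.BurnsidePQ

set_option autoImplicit false
open Cfsg
open Cfsg.Agent.Lib.Helper2 Cfsg.Agent.Lib.Helper11

namespace Cfsg.Agent.S1523

/-- An element of `p`-power order normalizing a Sylow `p`-subgroup lies in it. -/
theorem mem_sylow_of_mem_normalizer {G : Type*} [Group G] {p : ℕ} [hp : Fact p.Prime]
    (P : Sylow p G) {x : G} (hx : x ∈ Subgroup.normalizer ((P : Subgroup G) : Set G)) {k : ℕ}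
    (hk : x ^ (p ^ k) = 1) : x ∈ (P : Subgroup G) := by
  have hdvd : orderOf x ∣ p ^ k := orderOf_dvd_of_pow_eq_one hk
  obtain ⟨j, -, hj⟩ := (Nat.dvd_prime_pow hp.out).1 hdvd
  have hpg : IsPGroup p (Subgroup.zpowers x) := by
    apply IsPGroup.of_card (n := j)
    rw [Nat.card_zpowers, hj]
  have h1 := hpg.inf_normalizer_sylow P
  have h2 : x ∈ Subgroup.zpowers x ⊓ Subgroup.normalizer ((P : Subgroup G) : Set G) :=
    ⟨Subgroup.mem_zpowers x, hx⟩
  have h3 : x ∈ Subgroup.zpowers x ⊓ (P : Subgroup G) := by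
    rw [← h1]
    exact h2
  exact h3.2

/-- Let G be a finite group, p a prime, P a Sylow p-subgroup whose underlying set is a TI-subset of G, with L the set normaliser of P of odd order. Let Z ≠ ⊥ be a subgroup of P, normal in L and central in P, such that the centralisers in L of any two non-identity elements of Z have the same order. If ψ is an irreducible character of G taking the same value at all non-identity elements of Z, then for z ∈ Z, z ≠ 1, the value ψ z is an integer n with Nat.card P dividing ψ(1) − n (as integers, ψ 1 being the degree). -/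
theorem result {G : Type*} [Group G] [Finite G] (p : ℕ) [Fact p.Prime] (P : Sylow p G) (hTI : Cfsg.IsTISubset ((P : Subgroup G) : Set G)) (hodd : Odd (Nat.card (Subgroup.normalizer ((P : Subgroup G) : Set G)))) (Z : Subgroup G) (hZ1 : Z ≠ ⊥) (hZP : Z ≤ P) (hZn : ∀ x ∈ Subgroup.normalizer ((P : Subgroup G) : Set G), ∀ z ∈ Z, x * z * x⁻¹ ∈ Z) (hZc : ∀ z ∈ Z, ∀ y ∈ (P : Subgroup G), z * y = y * z) (hCL : ∀ z ∈ Z, ∀ z' ∈ Z, z ≠ 1 → z' ≠ 1 → Nat.card ↥(Subgroup.normalizer ((P : Subgroup G) : Set G) ⊓ Subgroup.centralizer ({z} : Set G)) = Nat.card ↥(Subgroup.normalizer ((P : Subgroup G) : Set G) ⊓ Subgroup.centralizer ({z'} : Set G))) (ψ : G → ℂ) (hψ : Cfsg.IsIrrCharacter G ψ) (hconst : ∀ z ∈ Z, ∀ z' ∈ Z, z ≠ 1 → z' ≠ 1 → ψ z = ψ z') (z : G) (hz : z ∈ Z) (hz1 : z ≠ 1) : ∃ n d : ℤ, ψ z = n ∧ ψ 1 = d ∧ (Nat.card (P : Subgroup G) : ℤ) ∣ d - n := by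
  classical
  haveI : Fintype G := Fintype.ofFinite G
  obtain ⟨n₀, ρ, hirr, rfl⟩ := hψ
  haveI := hirr
  set N := Subgroup.normalizer ((P : Subgroup G) : Set G) with hN
  have hPN : (P : Subgroup G) ≤ N := Subgroup.le_normalizer
  have hzP : z ∈ (P : Subgroup G) := hZP hz
  have hnconst : ∀ z' ∈ Z, z' ≠ 1 → ρ.character z' = ρ.character z :=
    fun z' h h1 => hconst z' h z hz h1 hz1
  -- centralizer of z lies in N
  have hcent : ∀ x : G, x * z * x⁻¹ = z → x ∈ N := by
    intro x hx
    by_contra hxN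
    exact hz1 (hTI x hxN z hzP (by rw [hx]; exact hzP))
  obtain ⟨kz, hkz⟩ := P.isPGroup' ⟨z, hzP⟩
  have hkz' : z ^ (p ^ kz) = 1 := by
    have := congrArg Subtype.val hkz
    simpa using this
  -- conjugates of z in N come from N
  have hconjN : ∀ g : G, g * z * g⁻¹ ∈ N → g ∈ N := by
    intro g hg
    have h1 : (g * z * g⁻¹) ^ (p ^ kz) = 1 := by
      rw [conj_pow, hkz']; group
    have h2 : g * z * g⁻¹ ∈ (P : Subgroup G) := mem_sylow_of_mem_normalizer P hg h1
    by_contra hgN
    exact hz1 (hTI g hgN z hzP h2)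
  -- oddness
  have hordN : ∀ g ∈ N, Odd (orderOf g) := by
    intro g hg
    have h1 := orderOf_dvd_natCard (⟨g, hg⟩ : N)
    rw [Subgroup.orderOf_mk] at h1
    exact Odd.of_dvd_nat hodd h1
  have hodd' : ∀ g ∈ N, g * z * g⁻¹ ≠ z⁻¹ := by
    intro g hg h
    obtain ⟨k, hk⟩ := hordN g hg
    have e1 : g * z = z⁻¹ * g := by rw [← h]; group
    have e2 : g * z⁻¹ = z * g := by
      have h' := congrArg Inv.inv h
      simp only [mul_inv_rev, inv_inv] at h'
      calc g * z⁻¹ = (g * (z⁻¹ * g⁻¹)) * g := by group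
        _ = z * g := by rw [h']
    have hc2 : Commute (g * g) z := by
      change g * g * z = z * (g * g)
      rw [mul_assoc, e1, ← mul_assoc, e2, mul_assoc]
    have hc : Commute ((g * g) ^ (k + 1)) z := hc2.pow_left _
    have hg' : (g * g) ^ (k + 1) = g := by
      rw [← pow_two, ← pow_mul]
      have : 2 * (k + 1) = orderOf g + 1 := by omega
      rw [this, pow_succ, pow_orderOf_eq_one, one_mul]
    rw [hg'] at hc
    have hzz : z⁻¹ = z := by
      rw [← h, hc.eq]; group
    have hz2 : z ^ 2 = 1 := by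
      rw [pow_two]
      nth_rewrite 1 [← hzz]
      exact inv_mul_cancel z
    have hd2 : orderOf z ∣ 2 := orderOf_dvd_of_pow_eq_one hz2
    have hzodd := hordN z (hPN hzP)
    rcases (Nat.dvd_prime Nat.prime_two).1 hd2 with h1 | h2
    · exact hz1 (orderOf_eq_one_iff.1 h1)
    · rw [h2] at hzodd
      exact absurd hzodd (by decide)
  -- the degree
  set d : ℕ := Module.finrank ℂ (Fin n₀ → ℂ) with hd
  have hd1 : ρ.character 1 = (d : ℂ) := Representation.char_one ρ
  have hdpos : 0 < d := finrank_pos_of_isIrreducible ρ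
  -- the two class sums
  set K := Finset.univ.filter (fun t : G => IsConj z t) with hK
  set K' := Finset.univ.filter (fun t : G => IsConj z⁻¹ t) with hK'
  have hKK' : K' = K.map ⟨Inv.inv, inv_injective⟩ := by
    ext t
    simp only [hK, hK', Finset.mem_filter, Finset.mem_univ, true_and, Finset.mem_map,
      Function.Embedding.coeFn_mk]
    constructor
    · intro h
      refine ⟨t⁻¹, ?_, inv_inv t⟩
      obtain ⟨c, hc⟩ := isConj_iff.1 h
      exact isConj_iff.2 ⟨c, by rw [← hc]; group⟩
    · rintro ⟨s, hs, rfl⟩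
      obtain ⟨c, hc⟩ := isConj_iff.1 hs
      exact isConj_iff.2 ⟨c, by rw [← hc]; group⟩
  have hS1 := sum_isConj_char_mul ρ z z
  have hS2 := sum_isConj_char_mul ρ z z⁻¹
  have hzinv : ρ.character z⁻¹ = ρ.character z :=
    hnconst z⁻¹ (Z.inv_mem hz) (by simpa using hz1)
  rw [← hK] at hS1
  rw [← hK', hKK', Finset.sum_map, Finset.card_map, hzinv] at hS2
  simp only [Function.Embedding.coeFn_mk] at hS2
  have hdiff : ∑ t ∈ K, (ρ.character (z * t) - ρ.character (z * t⁻¹)) = 0 := by
    rw [Finset.sum_sub_distrib, hS1, hS2, sub_self]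
  -- split according to membership in N
  rw [← Finset.sum_filter_add_sum_filter_not K (fun t => t ∈ N)] at hdiff
  have hin : ∑ t ∈ K.filter (fun t => t ∈ N), (ρ.character (z * t) - ρ.character (z * t⁻¹))
      = ρ.character z - (d : ℂ) := by
    have hzK : z ∈ K.filter (fun t => t ∈ N) := by
      rw [Finset.mem_filter, hK, Finset.mem_filter]
      exact ⟨⟨Finset.mem_univ _, IsConj.refl z⟩, hPN hzP⟩
    rw [Finset.sum_eq_single_of_mem z hzK]
    · rw [mul_inv_cancel, hd1]
      have hzz1 : z * z ≠ 1 := by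
        intro h
        apply hodd' 1 (one_mem N)
        rw [one_mul, inv_one, mul_one]
        exact eq_inv_of_mul_eq_one_left h
      rw [hnconst (z * z) (Z.mul_mem hz hz) hzz1]
    · intro t ht htz
      rw [Finset.mem_filter, hK, Finset.mem_filter] at ht
      obtain ⟨g, hg⟩ := isConj_iff.1 ht.1.2
      have hgN : g ∈ N := hconjN g (by rw [hg]; exact ht.2)
      have htZ : t ∈ Z := by rw [← hg]; exact hZn g hgN z hz
      have h1 : z * t ≠ 1 := by
        intro h
        apply hodd' g hgN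
        rw [hg]
        exact eq_inv_of_mul_eq_one_right h
      have h2 : z * t⁻¹ ≠ 1 := by
        intro h
        apply htz
        exact inv_injective (eq_inv_of_mul_eq_one_right h)
      rw [hnconst _ (Z.mul_mem hz htZ) h1, hnconst _ (Z.mul_mem hz (Z.inv_mem htZ)) h2, sub_self]
  rw [hin] at hdiff
  set KY := K.filter (fun t => ¬ t ∈ N) with hKY
  have hout : ∑ t ∈ KY, (ρ.character (z * t) - ρ.character (z * t⁻¹))
      = (d : ℂ) - ρ.character z := by
    linear_combination hdiff
  have hKYmem : ∀ t : G, t ∈ KY ↔ (IsConj z t ∧ ¬ t ∈ N) := by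
    intro t
    rw [hKY, Finset.mem_filter, hK, Finset.mem_filter]
    simp
  -- the action of P on KY by conjugation
  have hmemKY : ∀ (u : (P : Subgroup G)) (t : {t : G // t ∈ KY}),
      (u : G) * t.1 * (u : G)⁻¹ ∈ KY := by
    intro u t
    have ht := (hKYmem _).1 t.2
    rw [hKYmem]
    refine ⟨ht.1.trans (isConj_iff.2 ⟨u, rfl⟩), ?_⟩
    intro h
    apply ht.2
    have hu : (u : G) ∈ N := hPN u.2
    have := N.mul_mem (N.mul_mem (N.inv_mem hu) h) hu
    simpa [mul_assoc] using this
  letI : MulAction (P : Subgroup G) {t : G // t ∈ KY} :=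
    { smul := fun u t => ⟨(u : G) * t.1 * (u : G)⁻¹, hmemKY u t⟩
      one_smul := fun t => Subtype.ext (by
        change ((1 : (P : Subgroup G)) : G) * t.1 * ((1 : (P : Subgroup G)) : G)⁻¹ = t.1
        simp)
      mul_smul := fun u v t => Subtype.ext (by
        change ((u * v : (P : Subgroup G)) : G) * t.1 * ((u * v : (P : Subgroup G)) : G)⁻¹
          = (u : G) * ((v : G) * t.1 * (v : G)⁻¹) * (u : G)⁻¹
        simp [mul_assoc]) }
  have hsmul : ∀ (u : (P : Subgroup G)) (t : {t : G // t ∈ KY}),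
      ((u • t : {t : G // t ∈ KY}) : G) = (u : G) * t.1 * (u : G)⁻¹ := fun _ _ => rfl
  have hint := sum_free_action_isIntegral (A := (P : Subgroup G)) (X := {t : G // t ∈ KY})
    (fun t => ρ.character (z * t.1) - ρ.character (z * t.1⁻¹))
    (by
      intro u t
      simp only [hsmul]
      have hcz : z * (u : G) = (u : G) * z := hZc z hz u u.2
      have e1 : z * ((u : G) * t.1 * (u : G)⁻¹) = (u : G) * (z * t.1) * (u : G)⁻¹ := by
        rw [← mul_assoc, ← mul_assoc, hcz]; group
      have e2 : z * ((u : G) * t.1 * (u : G)⁻¹)⁻¹ = (u : G) * (z * t.1⁻¹) * (u : G)⁻¹ := by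
        have : ((u : G) * t.1 * (u : G)⁻¹)⁻¹ = (u : G) * t.1⁻¹ * (u : G)⁻¹ := by group
        rw [this, ← mul_assoc, ← mul_assoc, hcz]; group
      rw [e1, e2, Representation.char_conj, Representation.char_conj])
    (by
      intro u t hut
      have hut' : (u : G) * t.1 * (u : G)⁻¹ = t.1 := by
        rw [← hsmul, hut]
      have ht := (hKYmem _).1 t.2
      obtain ⟨g, hg⟩ := isConj_iff.1 ht.1
      have hgN : g ∉ N := by
        intro hgN
        apply ht.2
        rw [← hg]
        exact hPN (hZP (hZn g hgN z hz))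
      have hginvN : g⁻¹ ∉ N := fun h => hgN (by simpa using N.inv_mem h)
      -- u' = g⁻¹ u g centralizes z
      have hu'z : (g⁻¹ * (u : G) * g) * z * (g⁻¹ * (u : G) * g)⁻¹ = z := by
        have : (g⁻¹ * (u : G) * g) * z * (g⁻¹ * (u : G) * g)⁻¹
            = g⁻¹ * ((u : G) * (g * z * g⁻¹) * (u : G)⁻¹) * g := by group
        rw [this, hg, hut', ← hg]; group
      have hu'N : g⁻¹ * (u : G) * g ∈ N := hcent _ hu'z
      obtain ⟨ku, hku⟩ := P.isPGroup' u
      have hku' : (u : G) ^ (p ^ ku) = 1 := by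
        have := congrArg Subtype.val hku
        simpa using this
      have hu'p : (g⁻¹ * (u : G) * g) ^ (p ^ ku) = 1 := by
        have : g⁻¹ * (u : G) * g = g⁻¹ * (u : G) * g⁻¹⁻¹ := by rw [inv_inv]
        rw [this, conj_pow, hku']; group
      have hu'P : g⁻¹ * (u : G) * g ∈ (P : Subgroup G) :=
        mem_sylow_of_mem_normalizer P hu'N hu'p
      have := hTI g⁻¹ hginvN (u : G) u.2 (by rw [inv_inv]; exact hu'P)
      exact Subtype.ext this)
    (fun t => IsIntegral.sub (char_isIntegral ρ _) (char_isIntegral ρ _))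
  rw [Finset.sum_coe_sort KY (fun t => ρ.character (z * t) - ρ.character (z * t⁻¹)), hout] at hint
  -- the value at z is an integer
  have hnint : ∃ nz : ℤ, ρ.character z = (nz : ℂ) := by
    haveI : Fintype Z := Fintype.ofFinite Z
    have hres : IsCharacter Z (fun y : Z => ρ.character y) :=
      IsCharacter.restrict (isCharacter_of_rep ρ) Z
    have hone : IsCharacter Z (fun _ : Z => (1 : ℂ)) :=
      IsIrrCharacter.isCharacter isIrrCharacter_one
    obtain ⟨a, ha⟩ := classInner_isCharacter_nat hres hone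
    rw [classInner_def] at ha
    have hsum : ∑ y : Z, ρ.character (y : G)
        = (d : ℂ) + ((Nat.card Z : ℂ) - 1) * ρ.character z := by
      rw [← Finset.add_sum_erase Finset.univ _ (Finset.mem_univ (1 : Z))]
      have : ∀ y ∈ Finset.univ.erase (1 : Z), ρ.character (y : G) = ρ.character z := by
        intro y hy
        apply hnconst y y.2
        intro h
        exact (Finset.mem_erase.1 hy).1 (Subtype.ext h)
      rw [Finset.sum_congr rfl this, Finset.sum_const, nsmul_eq_mul, Finset.card_erase_of_mem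
        (Finset.mem_univ _), Finset.card_univ, ← Nat.card_eq_fintype_card]
      have hpos : 1 ≤ Nat.card Z := Nat.card_pos
      rw [Nat.cast_sub hpos]
      simp [hd1]
    have hcardZ : 1 < Nat.card Z := by
      rw [Subgroup.one_lt_card_iff_ne_bot]
      exact hZ1
    have hZ0 : (Nat.card Z : ℂ) ≠ 0 := by exact_mod_cast (by omega : Nat.card Z ≠ 0)
    have hZ1' : (Nat.card Z : ℂ) - 1 ≠ 0 := by
      intro h
      have : (Nat.card Z : ℂ) = 1 := by linear_combination h
      have : Nat.card Z = 1 := by exact_mod_cast this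
      omega
    have hrat : ρ.character z
        = (((((Nat.card Z : ℚ) * a - d) / ((Nat.card Z : ℚ) - 1) : ℚ)) : ℂ) := by
      have h1 : ∑ y : Z, ρ.character (y : G) = (Nat.card Z : ℂ) * a := by
        rw [← ha]
        simp only [map_one, mul_one]
        field_simp
      rw [hsum] at h1
      push_cast
      field_simp
      linear_combination h1
    exact exists_int_of_isIntegral_of_rat _ hrat (char_isIntegral ρ z)
  obtain ⟨nz, hnz⟩ := hnint
  rw [hnz] at hint
  have hP0 : (Nat.card (P : Subgroup G) : ℂ) ≠ 0 := by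
    exact_mod_cast (Nat.card_pos (α := (P : Subgroup G))).ne'
  obtain ⟨k, hk⟩ := exists_int_of_isIntegral_of_rat
    (((d : ℚ) - nz) / (Nat.card (P : Subgroup G) : ℚ)) (by push_cast; rfl) hint
  refine ⟨nz, (d : ℤ), hnz, by rw [hd1]; push_cast; rfl, ⟨k, ?_⟩⟩
  have h1 : ((d : ℂ) - (nz : ℂ)) = (Nat.card (P : Subgroup G) : ℂ) * k := by
    rw [← hk]; field_simp
  exact_mod_cast h1

end Cfsg.Agent.S1523
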