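import Cfsg.Statements.S1524
import Cfsg.Agent.Lib.Helper11.FrobCoh

set_option autoImplicit false
open Cfsg

namespace Cfsg.Agent.S1524

/-- Let G be a finite group and H ≤ L subgroups with L of odd order, H ≠ ⊥ nilpotent and normal in L with a nontrivial complement W₁ in L (H ⊓ W₁ = ⊥, H ⊔ W₁ = L) acting on H without non-identity fixed points (L is a Frobenius group with kernel H), and suppose the underlying set of H is a TI-subset of G whose normaliser is L. Let S be the set of functions on L induced from the non-principal irreducible characters of H. Then (S, L minus 1, induction to G) is coherent. -/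
theorem result {G : Type*} [Group G] [Fintype G] (H L W₁ : Subgroup G) [Fintype L] (hodd : Odd (Nat.card L)) (hHL : H ≤ L) (hW₁L : W₁ ≤ L) (hH1 : H ≠ ⊥) (hW1 : W₁ ≠ ⊥) (hnil : Group.IsNilpotent H) (hHn : ∀ x ∈ L, ∀ h ∈ H, x * h * x⁻¹ ∈ H) (hinf : H ⊓ W₁ = ⊥) (hsup : H ⊔ W₁ = L) (hfpf : ∀ w ∈ W₁, w ≠ 1 → ∀ h ∈ H, w * h = h * w → h = 1) (hTI : Cfsg.IsTISubset (H : Set G)) (hN : Subgroup.normalizer (H : Set G) = L) : Cfsg.IsCoherent (Cfsg.inducedIrrAbove (H.subgroupOf L) ⊥) {1}ᶜ (fun α : L → ℂ => Cfsg.indFun L α) := by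
  classical
  haveI hKn : (H.subgroupOf L).Normal := ⟨fun n hn g => by
    rw [Subgroup.mem_subgroupOf] at hn ⊢
    have := hHn g g.2 n hn
    simpa using this⟩
  have hLH : ¬ L ≤ H := by
    intro h
    apply hW1
    rw [eq_bot_iff, ← hinf]
    exact le_inf (hW₁L.trans h) le_rfl
  have hsup' : H.subgroupOf L ⊔ W₁.subgroupOf L = ⊤ := by
    rw [← Subgroup.subgroupOf_sup hHL hW₁L, hsup, Subgroup.subgroupOf_self]
  have hfpf' : ∀ w ∈ W₁.subgroupOf L, w ≠ 1 → ∀ k ∈ H.subgroupOf L, w * k = k * w → k = 1 := by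
    intro w hw hw1 k hk hwk
    apply Subtype.ext
    apply hfpf w (Subgroup.mem_subgroupOf.1 hw) (fun h => hw1 (Subtype.ext h)) k
      (Subgroup.mem_subgroupOf.1 hk)
    have := congrArg Subtype.val hwk
    simpa using this
  have hcent : ∀ h ∈ H, h ≠ 1 → ∀ x ∈ L, x * h = h * x → x ∈ H := by
    intro h hh hh1 x hx hxh
    by_contra hxH
    apply hh1
    have hy : (⟨x, hx⟩ : L) ∉ H.subgroupOf L := fun h' => hxH (Subgroup.mem_subgroupOf.1 h')
    have hk : (⟨h, hHL hh⟩ : L) ∈ H.subgroupOf L := Subgroup.mem_subgroupOf.2 hh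
    have hyk : (⟨x, hx⟩ : L) * ⟨h, hHL hh⟩ = ⟨h, hHL hh⟩ * ⟨x, hx⟩ := Subtype.ext hxh
    have h1 := Cfsg.Agent.Lib.Helper2.eq_one_of_commute_of_not_mem (H.subgroupOf L)
      (W₁.subgroupOf L) hsup' hfpf' hy hk hyk
    exact congrArg Subtype.val h1
  exact Cfsg.Agent.Lib.Helper11.frobenius_TI_coherent H L hodd hHL hLH hH1 hnil hHn hcent hTI hN

end Cfsg.Agent.S1524
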