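import Cfsg.Statements.S1525
import Cfsg.Agent.Lib.Helper11.DadeMap

set_option autoImplicit false
open Cfsg

namespace Cfsg.Agent.S1525

open Cfsg.Agent.Lib.Helper11

theorem finsum_mem_eq_sum_ite {α : Type*} [Fintype α] {K : Type*} [AddCommMonoid K] (S : Set α)
    [DecidablePred (· ∈ S)] (f : α → K) : ∑ᶠ a ∈ S, f a = ∑ a : α, (if a ∈ S then f a else 0) := by
  rw [finsum_mem_def, finsum_eq_sum_of_fintype]
  apply Finset.sum_congr rfl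
  intro u _
  rw [Set.indicator_apply]

theorem result {G : Type*} [Group G] [Fintype G] (A : Set G) (L : Subgroup G) [Fintype L] (H : G → Subgroup G) (hD : Cfsg.DadeHypothesis A L H) (χ : G → ℂ) (hχ : Cfsg.IsClassFunction G χ) (ψ : L → ℂ) (hψ : ∀ a : L, (a : G) ∈ A → ψ a = (Nat.card (H a) : ℂ)⁻¹ * ∑ᶠ u ∈ (H a : Set G), χ (a * u)) : (Nat.card L : ℝ)⁻¹ * ∑ᶠ a ∈ {a : L | (a : G) ∈ A}, ‖ψ a‖ ^ 2 ≤ (Nat.card G : ℝ)⁻¹ * ∑ᶠ g ∈ {g : G | ∃ a ∈ A, ∃ u ∈ H a, ∃ x : G, x * g * x⁻¹ = a * u}, ‖χ g‖ ^ 2 := by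
  classical
  have hset : {g : G | ∃ a ∈ A, ∃ u ∈ H a, ∃ x : G, x * g * x⁻¹ = a * u} = dadeSupport A H := rfl
  rw [hset, finsum_mem_eq_sum_ite, finsum_mem_eq_sum_ite]
  have hFcf : ∀ g x : G, ‖χ (x * g * x⁻¹)‖ ^ 2 = ‖χ g‖ ^ 2 := by
    intro g x
    rw [hχ g x]
  rw [dade_sum hD (fun g => ‖χ g‖ ^ 2) hFcf, sum_indicator_subset hD.subset]
  have hG : (Nat.card G : ℝ) ≠ 0 := by exact_mod_cast Nat.card_pos.ne'
  have hL : (0 : ℝ) < (Nat.card L : ℝ) := by exact_mod_cast Nat.card_pos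
  rw [← Nat.card_eq_fintype_card, ← mul_assoc]
  have e : (Nat.card G : ℝ)⁻¹ * ((Nat.card G : ℝ) / (Nat.card L : ℝ)) = (Nat.card L : ℝ)⁻¹ := by
    field_simp
  rw [e]
  apply mul_le_mul_of_nonneg_left _ (inv_nonneg.2 hL.le)
  apply Finset.sum_le_sum
  intro a _
  by_cases ha : (a : G) ∈ A
  · have ha' : a ∈ {a : L | (a : G) ∈ A} := ha
    rw [if_pos ha', if_pos ha, hψ a ha, finsum_mem_subgroup]
    set n : ℝ := (Nat.card (H (a : G)) : ℝ) with hn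
    have hnpos : 0 < n := by rw [hn]; exact_mod_cast Nat.card_pos
    set T : Finset G := Finset.univ.filter (fun u : G => u ∈ H (a : G)) with hT
    have hTcard : (T.card : ℝ) = n := by
      rw [hn, hT, Nat.card_eq_fintype_card, Fintype.card_subtype]
    have hS1 : ∑ u : G, (if u ∈ H (a : G) then χ ((a : G) * u) else 0)
        = ∑ u ∈ T, χ ((a : G) * u) := by
      rw [hT, Finset.sum_filter]
    have hS2 : ∑ u : G, (if u ∈ H (a : G) then ‖χ ((a : G) * u)‖ ^ 2 else 0)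
        = ∑ u ∈ T, ‖χ ((a : G) * u)‖ ^ 2 := by
      rw [hT, Finset.sum_filter]
    rw [hS1, hS2, norm_mul, norm_inv, Complex.norm_natCast, mul_pow]
    have h1 : ‖∑ u ∈ T, χ ((a : G) * u)‖ ≤ ∑ u ∈ T, ‖χ ((a : G) * u)‖ := norm_sum_le _ _
    have h2 : (∑ u ∈ T, ‖χ ((a : G) * u)‖) ^ 2 ≤ (T.card : ℝ) * ∑ u ∈ T, ‖χ ((a : G) * u)‖ ^ 2 :=
      sq_sum_le_card_mul_sum_sq
    have h3 : ‖∑ u ∈ T, χ ((a : G) * u)‖ ^ 2 ≤ n * ∑ u ∈ T, ‖χ ((a : G) * u)‖ ^ 2 := by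
      rw [← hTcard]
      exact le_trans (pow_le_pow_left₀ (norm_nonneg _) h1 2) h2
    calc (n⁻¹) ^ 2 * ‖∑ u ∈ T, χ ((a : G) * u)‖ ^ 2
        ≤ (n⁻¹) ^ 2 * (n * ∑ u ∈ T, ‖χ ((a : G) * u)‖ ^ 2) :=
          mul_le_mul_of_nonneg_left h3 (by positivity)
      _ = n⁻¹ * ∑ u ∈ T, ‖χ ((a : G) * u)‖ ^ 2 := by
          field_simp
  · have ha' : a ∉ {a : L | (a : G) ∈ A} := ha
    rw [if_neg ha', if_neg ha]

end Cfsg.Agent.S1525
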