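import Cfsg.Statements.S1527
import Mathlib

set_option autoImplicit false
open Cfsg

namespace Cfsg.Agent.S1527

open Finset

/-- cardinality of the finset of members of a subgroup -/
theorem card_filter_mem {G : Type*} [Group G] [Fintype G] [DecidableEq G] (H : Subgroup G)
    [DecidablePred (· ∈ H)] : (univ.filter (fun g : G => g ∈ H)).card = Nat.card H := by
  rw [Nat.card_eq_fintype_card, Fintype.card_subtype]

/-- the number of nonidentity elements conjugated into `H` by a fixed `x` -/
theorem card_conj_into {G : Type*} [Group G] [Fintype G] [DecidableEq G] (H : Subgroup G)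
    [DecidablePred (· ∈ H)] (x : G) :
    ((univ.filter (fun s : G => s ≠ 1)).filter (fun s => x * s * x⁻¹ ∈ H)).card = Nat.card H - 1 := by
  have h1 : ((univ.filter (fun s : G => s ≠ 1)).filter (fun s => x * s * x⁻¹ ∈ H))
      = ((univ.filter (fun g : G => g ∈ H)).erase 1).image (fun h => x⁻¹ * h * x) := by
    ext s
    simp only [mem_filter, mem_univ, true_and, mem_image, mem_erase]
    constructor
    · rintro ⟨hs1, hs⟩
      refine ⟨x * s * x⁻¹, ⟨?_, hs⟩, by group⟩
      intro h
      apply hs1
      have : s = x⁻¹ * (x * s * x⁻¹) * x := by group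
      rw [this, h]; group
    · rintro ⟨h, ⟨hh1, hh⟩, rfl⟩
      refine ⟨?_, ?_⟩
      · intro h'
        apply hh1
        have : h = x * (x⁻¹ * h * x) * x⁻¹ := by group
        rw [this, h']; group
      · have : x * (x⁻¹ * h * x) * x⁻¹ = h := by group
        rw [this]; exact hh
  rw [h1, card_image_of_injective, card_erase_of_mem, card_filter_mem]
  · simp only [mem_filter, mem_univ, true_and]; exact H.one_mem
  · intro a b hab
    simpa using hab

/-- for a TI subgroup, the conjugators of a nonidentity `s` into `H` form a coset of the normaliser -/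
theorem card_conjugators {G : Type*} [Group G] [Fintype G] [DecidableEq G] (H : Subgroup G)
    [DecidablePred (· ∈ H)] [DecidablePred (· ∈ Subgroup.normalizer (H : Set G))]
    (hTI : Cfsg.IsTISubset (H : Set G)) (s : G) (hs : s ≠ 1) (x₀ : G) (hx₀ : x₀ * s * x₀⁻¹ ∈ H) :
    (univ.filter (fun x : G => x * s * x⁻¹ ∈ H)).card = Nat.card (Subgroup.normalizer (H : Set G)) := by
  have h1 : (univ.filter (fun x : G => x * s * x⁻¹ ∈ H))
      = (univ.filter (fun n : G => n ∈ Subgroup.normalizer (H : Set G))).image (fun n => n * x₀) := by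
    ext x
    simp only [mem_filter, mem_univ, true_and, mem_image]
    constructor
    · intro hx
      refine ⟨x * x₀⁻¹, ?_, by group⟩
      by_contra hn
      have h2 : x₀ * s * x₀⁻¹ = 1 := by
        apply hTI (x * x₀⁻¹) hn _ hx₀
        have : x * x₀⁻¹ * (x₀ * s * x₀⁻¹) * (x * x₀⁻¹)⁻¹ = x * s * x⁻¹ := by group
        rw [this]; exact hx
      apply hs
      have : s = x₀⁻¹ * (x₀ * s * x₀⁻¹) * x₀ := by group
      rw [this, h2]; group
    · rintro ⟨n, hn, rfl⟩
      have : n * x₀ * s * (n * x₀)⁻¹ = n * (x₀ * s * x₀⁻¹) * n⁻¹ := by group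
      rw [this]
      exact (Subgroup.mem_set_normalizer_iff.1 hn _).1 hx₀
  rw [h1, card_image_of_injective, card_filter_mem]
  intro a b hab
  exact mul_right_cancel hab

theorem result {G : Type*} [Group G] [Finite G] {ι : Type*} [Fintype ι] (H : ι → Subgroup G) (hcop : ∀ i j, i ≠ j → Nat.Coprime (Nat.card (H i)) (Nat.card (H j))) (hTI : ∀ i, Cfsg.IsTISubset (H i : Set G)) (hcover : ∀ g : G, g ≠ 1 → ∃ i, ∃ x : G, x * g * x⁻¹ ∈ H i) : Nat.card G - 1 = ∑ i, (Subgroup.normalizer (H i : Set G)).index * (Nat.card (H i) - 1) := by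
  classical
  have : Fintype G := Fintype.ofFinite G
  set A : Finset G := univ.filter (fun s : G => s ≠ 1) with hA
  set S : ι → Finset G := fun i => A.filter (fun s => ∃ x : G, x * s * x⁻¹ ∈ H i) with hS
  -- (b) for each i
  have hb : ∀ i, (S i).card = (Subgroup.normalizer (H i : Set G)).index * (Nat.card (H i) - 1) := by
    intro i
    have hdc := Finset.sum_card_bipartiteAbove_eq_sum_card_bipartiteBelow
      (s := A) (t := (univ : Finset G)) (fun (s x : G) => x * s * x⁻¹ ∈ H i)
    have hR : ∑ x ∈ (univ : Finset G), (A.bipartiteBelow (fun (s x : G) => x * s * x⁻¹ ∈ H i) x).card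
        = Nat.card G * (Nat.card (H i) - 1) := by
      have : ∀ x ∈ (univ : Finset G),
          (A.bipartiteBelow (fun (s x : G) => x * s * x⁻¹ ∈ H i) x).card = Nat.card (H i) - 1 := by
        intro x _
        exact card_conj_into (H i) x
      rw [Finset.sum_congr rfl this, Finset.sum_const, card_univ, smul_eq_mul,
        ← Nat.card_eq_fintype_card (α := G)]
    have hL : ∑ s ∈ A, ((univ : Finset G).bipartiteAbove (fun (s x : G) => x * s * x⁻¹ ∈ H i) s).card
        = (S i).card * Nat.card (Subgroup.normalizer (H i : Set G)) := by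
      rw [← Finset.sum_filter_add_sum_filter_not A (fun s => ∃ x : G, x * s * x⁻¹ ∈ H i)]
      have h1 : ∀ s ∈ A.filter (fun s => ∃ x : G, x * s * x⁻¹ ∈ H i),
          ((univ : Finset G).bipartiteAbove (fun (s x : G) => x * s * x⁻¹ ∈ H i) s).card
            = Nat.card (Subgroup.normalizer (H i : Set G)) := by
        intro s hs
        rw [mem_filter] at hs
        obtain ⟨hsA, x₀, hx₀⟩ := hs
        have hs1 : s ≠ 1 := by
          rw [hA, mem_filter] at hsA; exact hsA.2
        exact card_conjugators (H i) (hTI i) s hs1 x₀ hx₀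
      have h2 : ∀ s ∈ A.filter (fun s => ¬ ∃ x : G, x * s * x⁻¹ ∈ H i),
          ((univ : Finset G).bipartiteAbove (fun (s x : G) => x * s * x⁻¹ ∈ H i) s).card = 0 := by
        intro s hs
        rw [mem_filter] at hs
        rw [card_eq_zero, Finset.bipartiteAbove, filter_eq_empty_iff]
        intro x _ hx
        exact hs.2 ⟨x, hx⟩
      rw [Finset.sum_congr rfl h1, Finset.sum_congr rfl h2, Finset.sum_const, Finset.sum_const_zero,
        add_zero, smul_eq_mul]
    rw [hL, hR] at hdc
    have hN := Subgroup.card_mul_index (Subgroup.normalizer (H i : Set G))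
    have hpos : 0 < Nat.card (Subgroup.normalizer (H i : Set G)) := Nat.card_pos
    apply Nat.eq_of_mul_eq_mul_right hpos
    rw [hdc, ← hN]
    ring
  -- (a)
  have ha : A = univ.biUnion S := by
    ext g
    simp only [hA, hS, mem_filter, mem_univ, true_and, mem_biUnion]
    constructor
    · intro hg
      obtain ⟨i, x, hx⟩ := hcover g hg
      exact ⟨i, hg, x, hx⟩
    · rintro ⟨i, hg, _⟩
      exact hg
  have hdisj : Set.PairwiseDisjoint (↑(univ : Finset ι)) S := by
    intro i _ j _ hij
    rw [Function.onFun, Finset.disjoint_left]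
    intro g hgi hgj
    simp only [hS, hA, mem_filter, mem_univ, true_and] at hgi hgj
    obtain ⟨hg1, x, hx⟩ := hgi
    obtain ⟨_, y, hy⟩ := hgj
    have h1 : orderOf g ∣ Nat.card (H i) := by
      have : orderOf (x * g * x⁻¹) = orderOf g := by
        have : x * g * x⁻¹ = (MulAut.conj x) g := by simp
        rw [this, MulEquiv.orderOf_eq]
      rw [← this]
      exact Subgroup.orderOf_dvd_natCard _ hx
    have h2 : orderOf g ∣ Nat.card (H j) := by
      have : orderOf (y * g * y⁻¹) = orderOf g := by
        have : y * g * y⁻¹ = (MulAut.conj y) g := by simp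
        rw [this, MulEquiv.orderOf_eq]
      rw [← this]
      exact Subgroup.orderOf_dvd_natCard _ hy
    have h3 : orderOf g = 1 := Nat.eq_one_of_dvd_coprimes (hcop i j hij) h1 h2
    exact hg1 (orderOf_eq_one_iff.1 h3)
  have hcardA : A.card = Nat.card G - 1 := by
    have : A = (univ : Finset G).erase 1 := by
      ext g; simp [hA]
    rw [this, card_erase_of_mem (mem_univ _), card_univ, Nat.card_eq_fintype_card]
  rw [← hcardA, ha, Finset.card_biUnion hdisj]
  exact Finset.sum_congr rfl (fun i _ => hb i)

end Cfsg.Agent.S1527
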