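import Cfsg.Statements.S1529
import Cfsg.Agent.Lib.Helper11.GenChar

set_option autoImplicit false
open Cfsg

namespace Cfsg.Agent.S1529

open Cfsg.Agent.Lib.Helper2 Cfsg.Agent.Lib.Helper11
open scoped ComplexConjugate

theorem result {G : Type*} [Group G] [Fintype G] (N : Subgroup G) [Fintype N] (S : Set (N → ℂ)) (hirr : ∀ χ ∈ S, Cfsg.IsIrrCharacter N χ) (htwo : ∃ χ ∈ S, ∃ ψ ∈ S, χ ≠ ψ) (τ₁ : (N → ℂ) → (G → ℂ)) (hτ₁ : Cfsg.IsLinearIsometryOn (Cfsg.zspan S) τ₁) (h0 : ∀ α ∈ Cfsg.zspan S, α 1 = 0 → τ₁ α 1 = 0) : ∃ ε : ℂ, (ε = 1 ∨ ε = -1) ∧ (∀ χ ∈ S, Cfsg.IsIrrCharacter G (ε • τ₁ χ)) ∧ (∀ χ ∈ S, ∀ ψ ∈ S, τ₁ χ = τ₁ ψ → χ = ψ) := by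
  classical
  obtain ⟨hadd, hsmul, hiso, hgen⟩ := hτ₁
  have hmem : ∀ χ ∈ S, χ ∈ Cfsg.zspan S := fun χ hχ => Submodule.subset_span hχ
  have hsmulmem : ∀ χ ∈ S, ∀ n : ℤ, n • χ ∈ Cfsg.zspan S := fun χ hχ n =>
    Submodule.smul_mem _ n (Submodule.subset_span hχ)
  -- each image is a signed irreducible
  have hsigned : ∀ χ ∈ S, IsSignedIrr (τ₁ χ) := by
    intro χ hχ
    apply IsGeneralizedCharacter.isSignedIrr_of_norm_one (hgen χ (hmem χ hχ))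
    rw [hiso χ (hmem χ hχ) χ (hmem χ hχ)]
    exact classInner_irrCharacter_self ⟨χ, hirr χ hχ⟩
  -- degrees
  have hdeg : ∀ χ ∈ S, ∃ a : ℕ, 0 < a ∧ χ 1 = (a : ℂ) := fun χ hχ =>
    IsIrrCharacter.apply_one (hirr χ hχ)
  -- sign-degree of images
  have himg : ∀ χ ∈ S, ∃ (ε : ℂ) (d : ℕ), (ε = 1 ∨ ε = -1) ∧ 0 < d ∧ τ₁ χ 1 = ε * (d : ℂ) ∧
      Cfsg.IsIrrCharacter G (ε • τ₁ χ) := by
    intro χ hχ
    rcases hsigned χ hχ with h | h
    · obtain ⟨d, hd, hd1⟩ := IsIrrCharacter.apply_one h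
      exact ⟨1, d, Or.inl rfl, hd, by rw [hd1]; ring, by simpa using h⟩
    · obtain ⟨d, hd, hd1⟩ := IsIrrCharacter.apply_one h
      refine ⟨-1, d, Or.inr rfl, hd, ?_, by simpa using h⟩
      simp only [Pi.neg_apply] at hd1
      linear_combination -hd1
  obtain ⟨χ₀, hχ₀, -⟩ := htwo
  obtain ⟨ε₀, d₀, hε₀, hd₀, hval₀, hirr₀⟩ := himg χ₀ hχ₀
  obtain ⟨b, hb, hb1⟩ := hdeg χ₀ hχ₀
  refine ⟨ε₀, hε₀, ?_, ?_⟩
  · intro χ hχ
    obtain ⟨ε, d, hε, hd, hval, hirrχ⟩ := himg χ hχ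
    obtain ⟨a, ha, ha1⟩ := hdeg χ hχ
    -- the combination b χ - a χ₀
    have hα : (b : ℤ) • χ + (-(a : ℤ)) • χ₀ ∈ Cfsg.zspan S :=
      Submodule.add_mem _ (hsmulmem χ hχ _) (hsmulmem χ₀ hχ₀ _)
    have hα1 : ((b : ℤ) • χ + (-(a : ℤ)) • χ₀) 1 = 0 := by
      rw [Pi.add_apply, Pi.smul_apply, Pi.smul_apply, ha1, hb1]
      simp only [zsmul_eq_mul]
      push_cast
      ring
    have h1 := h0 _ hα hα1
    rw [hadd _ (hsmulmem χ hχ _) _ (hsmulmem χ₀ hχ₀ _), hsmul χ (hmem χ hχ), hsmul χ₀ (hmem χ₀ hχ₀)] at h1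
    rw [Pi.add_apply, Pi.smul_apply, Pi.smul_apply, hval, hval₀] at h1
    simp only [zsmul_eq_mul] at h1
    push_cast at h1
    -- compare signs
    have hεε : ε = ε₀ := by
      rcases hε with rfl | rfl <;> rcases hε₀ with rfl | rfl
      · rfl
      · exfalso
        have : ((b * d + a * d₀ : ℕ) : ℂ) = 0 := by push_cast; linear_combination h1
        have : b * d + a * d₀ = 0 := by exact_mod_cast this
        have : 0 < b * d := Nat.mul_pos hb hd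
        omega
      · exfalso
        have : ((b * d + a * d₀ : ℕ) : ℂ) = 0 := by push_cast; linear_combination -h1
        have : b * d + a * d₀ = 0 := by exact_mod_cast this
        have : 0 < b * d := Nat.mul_pos hb hd
        omega
      · rfl
    rw [← hεε]; exact hirrχ
  · intro χ hχ ψ hψ h
    by_contra hne
    have h1 : Cfsg.classInner (τ₁ χ) (τ₁ ψ) = 0 := by
      rw [hiso χ (hmem χ hχ) ψ (hmem ψ hψ)]
      have : (⟨χ, hirr χ hχ⟩ : Cfsg.IrrCharacter N) ≠ ⟨ψ, hirr ψ hψ⟩ := by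
        intro h'; exact hne (congrArg Subtype.val h')
      exact classInner_irrCharacter_ne this
    rw [← h, (hsigned χ hχ).inner_self] at h1
    exact one_ne_zero h1

end Cfsg.Agent.S1529
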