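import Cfsg.Statements.S1531
import Cfsg.Agent.Lib.Helper11.IsoGram

set_option autoImplicit false
set_option maxHeartbeats 1000000
open Cfsg

namespace Cfsg.Agent.S1531

open Cfsg.Agent.Lib.Helper2 Cfsg.Agent.Lib.Helper11
open scoped ComplexConjugate

section Part1

variable {L : Type*} [Group L] [Fintype L] {G : Type*} [Group G] [Fintype G]

omit [Group L] [Fintype L] in
theorem exists_ne_of_two {X : Set (L → ℂ)} (hX2 : ∃ a ∈ X, ∃ b ∈ X, a ≠ b) (χ : L → ℂ) :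
    ∃ χ' ∈ X, χ' ≠ χ := by
  obtain ⟨a, ha, b, hb, hab⟩ := hX2
  by_cases h : a = χ
  · exact ⟨b, hb, fun h' => hab (h.trans h'.symm)⟩
  · exact ⟨a, ha, h⟩

theorem orth_part (S X Y : Set (L → ℂ)) (hirr : ∀ ξ ∈ S, IsIrrCharacter L ξ) (hXS : X ⊆ S)
    (hYS : Y ⊆ S) (hXY : Disjoint X Y) (hX2 : ∃ a ∈ X, ∃ b ∈ X, a ≠ b)
    (hY2 : ∃ a ∈ Y, ∃ b ∈ Y, a ≠ b) (α : (L → ℂ) → (G → ℂ))
    (hα : IsLinearIsometryOn (zspanOn S {1}ᶜ) α) (hα1 : ∀ θ ∈ zspanOn S {1}ᶜ, α θ 1 = 0)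
    (σ τ : (L → ℂ) → (G → ℂ)) (hσ : IsLinearIsometryOn (zspan X) σ)
    (hσα : ∀ θ ∈ zspanOn X {1}ᶜ, σ θ = α θ) (hτ : IsLinearIsometryOn (zspan Y) τ)
    (hτα : ∀ θ ∈ zspanOn Y {1}ᶜ, τ θ = α θ) :
    ∀ χ ∈ X, ∀ η ∈ Y, classInner (σ χ) (τ η) = 0 := by
  classical
  intro χ hχ η hη
  obtain ⟨χ', hχ', hχne⟩ := exists_ne_of_two hX2 χ
  obtain ⟨η', hη', hηne⟩ := exists_ne_of_two hY2 η
  have hXYne : ∀ x ∈ X, ∀ y ∈ Y, x ≠ y := by
    intro x hx y hy h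
    exact Set.disjoint_left.1 hXY hx (h ▸ hy)
  have irrX : ∀ x ∈ X, IsIrrCharacter L x := fun x hx => hirr x (hXS hx)
  have irrY : ∀ y ∈ Y, IsIrrCharacter L y := fun y hy => hirr y (hYS hy)
  have hXYorth : ∀ x ∈ X, ∀ y ∈ Y, classInner x y = 0 := by
    intro x hx y hy
    rw [classInner_irr_eq_ite (irrX x hx) (irrY y hy), if_neg (hXYne x hx y hy)]
  obtain ⟨p, hp, hp1⟩ := IsIrrCharacter.apply_one (irrX χ hχ)
  obtain ⟨p', hp', hp'1⟩ := IsIrrCharacter.apply_one (irrX χ' hχ')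
  obtain ⟨q, hq, hq1⟩ := IsIrrCharacter.apply_one (irrY η hη)
  obtain ⟨q', hq', hq'1⟩ := IsIrrCharacter.apply_one (irrY η' hη')
  have sgX : ∀ x ∈ X, IsSignedIrr (σ x) := by
    intro x hx
    apply IsGeneralizedCharacter.isSignedIrr_of_norm_one (hσ.2.2.2 x (Submodule.subset_span hx))
    rw [hσ.2.2.1 x (Submodule.subset_span hx) x (Submodule.subset_span hx),
      classInner_irr_eq_ite (irrX x hx) (irrX x hx), if_pos rfl]
  have sgY : ∀ y ∈ Y, IsSignedIrr (τ y) := by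
    intro y hy
    apply IsGeneralizedCharacter.isSignedIrr_of_norm_one (hτ.2.2.2 y (Submodule.subset_span hy))
    rw [hτ.2.2.1 y (Submodule.subset_span hy) y (Submodule.subset_span hy),
      classInner_irr_eq_ite (irrY y hy) (irrY y hy), if_pos rfl]
  have key : ∀ ε : ℂ, (ε = 1 ∨ ε = -1) → σ χ = ε • τ η → False := by
    intro ε hε hσε
    have hε0 : ε ≠ 0 := by rcases hε with rfl | rfl <;> simp
    have hτε : τ η = ε • σ χ := by rw [hσε, smul_smul, sign_mul_self hε, one_smul]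
    set δ : L → ℂ := (p' : ℤ) • χ - (p : ℤ) • χ' with hδ
    have hδC : δ = (p' : ℂ) • χ - (p : ℂ) • χ' := by
      rw [hδ, zsmul_eq_complex_smul, zsmul_eq_complex_smul]; push_cast; rfl
    have hδX : δ ∈ zspanOn X {1}ᶜ := by
      refine ⟨Submodule.sub_mem _ (Submodule.smul_mem _ _ (Submodule.subset_span hχ))
        (Submodule.smul_mem _ _ (Submodule.subset_span hχ')), ?_⟩
      intro z hz
      have hz1 : z = 1 := by simpa using hz
      subst hz1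
      rw [hδC]
      simp only [Pi.sub_apply, Pi.smul_apply, smul_eq_mul]
      rw [hp1, hp'1]; ring
    set δ' : L → ℂ := (q' : ℤ) • η - (q : ℤ) • η' with hδ'
    have hδ'C : δ' = (q' : ℂ) • η - (q : ℂ) • η' := by
      rw [hδ', zsmul_eq_complex_smul, zsmul_eq_complex_smul]; push_cast; rfl
    have hδ'Y : δ' ∈ zspanOn Y {1}ᶜ := by
      refine ⟨Submodule.sub_mem _ (Submodule.smul_mem _ _ (Submodule.subset_span hη))
        (Submodule.smul_mem _ _ (Submodule.subset_span hη')), ?_⟩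
      intro z hz
      have hz1 : z = 1 := by simpa using hz
      subst hz1
      rw [hδ'C]
      simp only [Pi.sub_apply, Pi.smul_apply, smul_eq_mul]
      rw [hq1, hq'1]; ring
    have hδS : δ ∈ zspanOn S {1}ᶜ := zspanOn_mono' hXS _ hδX
    have hδ'S : δ' ∈ zspanOn S {1}ᶜ := zspanOn_mono' hYS _ hδ'Y
    have e1 : σ δ = (p' : ℂ) • σ χ - (p : ℂ) • σ χ' := by
      rw [hδ, isLinIso_sub (Submodule.span ℤ X) hσ
        (Submodule.smul_mem _ _ (Submodule.subset_span hχ))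
        (Submodule.smul_mem _ _ (Submodule.subset_span hχ')),
        hσ.2.1 χ (Submodule.subset_span hχ), hσ.2.1 χ' (Submodule.subset_span hχ'),
        zsmul_eq_complex_smul, zsmul_eq_complex_smul]
      push_cast; rfl
    have e2 : τ δ' = (q' : ℂ) • τ η - (q : ℂ) • τ η' := by
      rw [hδ', isLinIso_sub (Submodule.span ℤ Y) hτ
        (Submodule.smul_mem _ _ (Submodule.subset_span hη))
        (Submodule.smul_mem _ _ (Submodule.subset_span hη')),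
        hτ.2.1 η (Submodule.subset_span hη), hτ.2.1 η' (Submodule.subset_span hη'),
        zsmul_eq_complex_smul, zsmul_eq_complex_smul]
      push_cast; rfl
    have hin : classInner (σ δ) (τ δ') = 0 := by
      rw [hσα δ hδX, hτα δ' hδ'Y, hα.2.2.1 _ hδS _ hδ'S, hδC, hδ'C]
      simp only [classInner_sub_left, classInner_sub_right, classInner_smul_left,
        classInner_smul_right, hXYorth χ hχ η hη, hXYorth χ hχ η' hη', hXYorth χ' hχ' η hη,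
        hXYorth χ' hχ' η' hη']
      ring
    have i1 : classInner (σ χ) (τ η) = ε := by
      rw [hσε, classInner_smul_left, (sgY η hη).inner_self, mul_one]
    have hηη' : classInner (τ η) (τ η') = 0 := by
      rw [hτ.2.2.1 η (Submodule.subset_span hη) η' (Submodule.subset_span hη'),
        classInner_irr_eq_ite (irrY η hη) (irrY η' hη'), if_neg (fun h => hηne h.symm)]
    have hχ'χ : classInner (σ χ') (σ χ) = 0 := by
      rw [hσ.2.2.1 χ' (Submodule.subset_span hχ') χ (Submodule.subset_span hχ),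
        classInner_irr_eq_ite (irrX χ' hχ') (irrX χ hχ), if_neg hχne]
    have i2 : classInner (σ χ) (τ η') = 0 := by
      rw [hσε, classInner_smul_left, hηη', mul_zero]
    have i3 : classInner (σ χ') (τ η) = 0 := by
      rw [hτε, classInner_smul_right, hχ'χ, mul_zero]
    rw [e1, e2] at hin
    simp only [classInner_sub_left, classInner_sub_right, classInner_smul_left,
      classInner_smul_right, i1, i2, i3, Complex.conj_natCast] at hin
    -- (iv) : p' q' ε + p q ε' = 0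
    have hiv : (p' : ℂ) * (q' : ℂ) * ε + (p : ℂ) * (q : ℂ) * classInner (σ χ') (τ η') = 0 := by
      linear_combination hin
    have hpC : (p : ℂ) ≠ 0 := by exact_mod_cast hp.ne'
    have hp'C : (p' : ℂ) ≠ 0 := by exact_mod_cast hp'.ne'
    have hqC : (q : ℂ) ≠ 0 := by exact_mod_cast hq.ne'
    have hq'C : (q' : ℂ) ≠ 0 := by exact_mod_cast hq'.ne'
    -- σ χ' = ε' • τ η'
    have hσε' : σ χ' = classInner (σ χ') (τ η') • τ η' := by
      rcases (sgX χ' hχ').inner_cases (sgY η' hη') with ⟨h0, _⟩ | ⟨heq, h1⟩ | ⟨heq, h1⟩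
      · exfalso
        rw [h0, mul_zero, add_zero] at hiv
        exact mul_ne_zero (mul_ne_zero hp'C hq'C) hε0 hiv
      · rw [h1, one_smul]; exact heq
      · rw [h1, neg_one_smul]; exact heq
    set ε' := classInner (σ χ') (τ η') with hε'
    -- values at one
    have v1 : σ δ 1 = 0 := by rw [hσα δ hδX]; exact hα1 δ hδS
    have v2 : τ δ' 1 = 0 := by rw [hτα δ' hδ'Y]; exact hα1 δ' hδ'S
    rw [e1] at v1
    rw [e2] at v2
    simp only [Pi.sub_apply, Pi.smul_apply, smul_eq_mul] at v1 v2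
    have s1 : σ χ 1 = ε * τ η 1 := by rw [hσε]; rfl
    have s2 : σ χ' 1 = ε' * τ η' 1 := by
      have := congrFun hσε' 1
      simpa using this
    rw [s1, s2] at v1
    have ht : τ η 1 ≠ 0 := (sgY η hη).apply_one_ne_zero
    have hv' : ((p' : ℂ) * (q : ℂ) * ε - (p : ℂ) * (q' : ℂ) * ε') * τ η 1 = 0 := by
      linear_combination (q : ℂ) * v1 - (p : ℂ) * ε' * v2
    have hv'' : (p' : ℂ) * (q : ℂ) * ε - (p : ℂ) * (q' : ℂ) * ε' = 0 := by
      rcases mul_eq_zero.1 hv' with h | h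
      · exact h
      · exact absurd h ht
    have hfinal : (p' : ℂ) * ε * ((q : ℂ) ^ 2 + (q' : ℂ) ^ 2) = 0 := by
      linear_combination (q' : ℂ) * hiv + (q : ℂ) * hv''
    have hqq : (q : ℂ) ^ 2 + (q' : ℂ) ^ 2 ≠ 0 := by
      have : (q : ℂ) ^ 2 + (q' : ℂ) ^ 2 = ((q ^ 2 + q' ^ 2 : ℕ) : ℂ) := by push_cast; rfl
      rw [this]
      have : 0 < q ^ 2 + q' ^ 2 := by positivity
      exact_mod_cast this.ne'
    exact mul_ne_zero (mul_ne_zero hp'C hε0) hqq hfinal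
  rcases (sgX χ hχ).inner_cases (sgY η hη) with ⟨h0, _⟩ | ⟨heq, _⟩ | ⟨heq, _⟩
  · exact h0
  · exact (key 1 (Or.inl rfl) (by rw [one_smul]; exact heq)).elim
  · exact (key (-1) (Or.inr rfl) (by rw [neg_one_smul]; exact heq)).elim

end Part1

section Part2

variable {L : Type*} [Group L] [Fintype L] {G : Type*} [Group G] [Fintype G]

theorem coh_part (S X Y : Set (L → ℂ)) (hirr : ∀ ξ ∈ S, IsIrrCharacter L ξ) (hXS : X ⊆ S)
    (hYS : Y ⊆ S) (hXY : Disjoint X Y) (hX2 : ∃ a ∈ X, ∃ b ∈ X, a ≠ b)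
    (α : (L → ℂ) → (G → ℂ))
    (hα : IsLinearIsometryOn (zspanOn S {1}ᶜ) α)
    (σ τ : (L → ℂ) → (G → ℂ)) (hσ : IsLinearIsometryOn (zspan X) σ)
    (hσα : ∀ θ ∈ zspanOn X {1}ᶜ, σ θ = α θ) (hτ : IsLinearIsometryOn (zspan Y) τ)
    (hτα : ∀ θ ∈ zspanOn Y {1}ᶜ, τ θ = α θ)
    (horth : ∀ χ ∈ X, ∀ η ∈ Y, classInner (σ χ) (τ η) = 0)
    (hlink : ∃ χ₀ ∈ X, ∃ η₀ ∈ Y, α (χ₀ 1 • η₀ - η₀ 1 • χ₀) = χ₀ 1 • τ η₀ - η₀ 1 • σ χ₀) :
    IsCoherent (X ∪ Y) {1}ᶜ α := by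
  classical
  obtain ⟨χ₀, hχ₀, η₀, hη₀, hlink⟩ := hlink
  have hXYne : ∀ x ∈ X, ∀ y ∈ Y, x ≠ y := by
    intro x hx y hy h
    exact Set.disjoint_left.1 hXY hx (h ▸ hy)
  have hYnotX : ∀ y ∈ Y, y ∉ X := fun y hy hx => hXYne y hx y hy rfl
  have irrX : ∀ x ∈ X, IsIrrCharacter L x := fun x hx => hirr x (hXS hx)
  have irrY : ∀ y ∈ Y, IsIrrCharacter L y := fun y hy => hirr y (hYS hy)
  have hUS : X ∪ Y ⊆ S := Set.union_subset hXS hYS
  have irrU : ∀ x ∈ X ∪ Y, IsIrrCharacter L x := fun x hx => hirr x (hUS hx)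
  have hfin : (X ∪ Y).Finite := by
    apply Set.Finite.subset (Set.finite_range (fun μ : IrrCharacter L => (μ : L → ℂ)))
    intro ξ hξ
    exact ⟨⟨ξ, irrU ξ hξ⟩, rfl⟩
  set T : (L → ℂ) → (G → ℂ) := fun ξ => if ξ ∈ X then σ ξ else τ ξ with hT
  have hTX : ∀ ξ ∈ X, T ξ = σ ξ := fun ξ hξ => by simp only [hT, if_pos hξ]
  have hTY : ∀ ξ ∈ Y, T ξ = τ ξ := fun ξ hξ => by simp only [hT, if_neg (hYnotX ξ hξ)]
  have hTgen : ∀ ξ ∈ X ∪ Y, IsGeneralizedCharacter G (T ξ) := by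
    intro ξ hξ
    rcases hξ with hξ | hξ
    · rw [hTX ξ hξ]; exact hσ.2.2.2 ξ (Submodule.subset_span hξ)
    · rw [hTY ξ hξ]; exact hτ.2.2.2 ξ (Submodule.subset_span hξ)
  have hgram : ∀ ξ ∈ X ∪ Y, ∀ ξ' ∈ X ∪ Y, classInner (T ξ) (T ξ') = classInner ξ ξ' := by
    intro ξ hξ ξ' hξ'
    rcases hξ with hξ | hξ <;> rcases hξ' with hξ' | hξ'
    · rw [hTX ξ hξ, hTX ξ' hξ']
      exact hσ.2.2.1 ξ (Submodule.subset_span hξ) ξ' (Submodule.subset_span hξ')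
    · rw [hTX ξ hξ, hTY ξ' hξ', horth ξ hξ ξ' hξ',
        classInner_irr_eq_ite (irrX ξ hξ) (irrY ξ' hξ'), if_neg (hXYne ξ hξ ξ' hξ')]
    · rw [hTY ξ hξ, hTX ξ' hξ', ← classInner_conj_symm, horth ξ' hξ' ξ hξ, map_zero,
        classInner_irr_eq_ite (irrY ξ hξ) (irrX ξ' hξ'),
        if_neg (fun h => hXYne ξ' hξ' ξ hξ h.symm)]
    · rw [hTY ξ hξ, hTY ξ' hξ']
      exact hτ.2.2.1 ξ (Submodule.subset_span hξ) ξ' (Submodule.subset_span hξ')
  obtain ⟨ρ, hρ, hρadd, hρsmul, hρT⟩ := exists_isometry_of_gram (X ∪ Y) hfin (fun _ => 1)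
    (fun _ _ => one_ne_zero)
    (fun ξ hξ => by rw [classInner_irr_eq_ite (irrU ξ hξ) (irrU ξ hξ), if_pos rfl]; simp)
    (fun ξ hξ ξ' hξ' hne => by rw [classInner_irr_eq_ite (irrU ξ hξ) (irrU ξ' hξ'), if_neg hne])
    T hTgen hgram
  have hρσ : ∀ f ∈ zspan X, ρ f = σ f :=
    eq_on_zspan_of_eq_on hρadd hρsmul hσ (fun ξ hξ => by rw [hρT ξ (Or.inl hξ), hTX ξ hξ])
  have hρτ : ∀ f ∈ zspan Y, ρ f = τ f :=
    eq_on_zspan_of_eq_on hρadd hρsmul hτ (fun ξ hξ => by rw [hρT ξ (Or.inr hξ), hTY ξ hξ])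
  -- degrees
  obtain ⟨c, hc, hc1⟩ := IsIrrCharacter.apply_one (irrX χ₀ hχ₀)
  obtain ⟨e, he, he1⟩ := IsIrrCharacter.apply_one (irrY η₀ hη₀)
  refine ⟨?_, ρ, hρ, ?_⟩
  · -- a nonzero element
    obtain ⟨a, ha, b, hb, hab⟩ := hX2
    obtain ⟨m, hm, hm1⟩ := IsIrrCharacter.apply_one (irrX a ha)
    obtain ⟨k, hk, hk1⟩ := IsIrrCharacter.apply_one (irrX b hb)
    refine ⟨(k : ℤ) • a - (m : ℤ) • b, ⟨Submodule.sub_mem _
      (Submodule.smul_mem _ _ (Submodule.subset_span (Or.inl ha)))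
      (Submodule.smul_mem _ _ (Submodule.subset_span (Or.inl hb))), ?_⟩, ?_⟩
    · intro z hz
      have hz1 : z = 1 := by simpa using hz
      subst hz1
      rw [zsmul_eq_complex_smul, zsmul_eq_complex_smul]
      simp only [Pi.sub_apply, Pi.smul_apply, smul_eq_mul]
      rw [hm1, hk1]; push_cast; ring
    · intro h0
      have h3 : classInner ((k : ℤ) • a - (m : ℤ) • b) a = (k : ℂ) := by
        rw [zsmul_eq_complex_smul, zsmul_eq_complex_smul, classInner_sub_left,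
          classInner_smul_left, classInner_smul_left,
          classInner_irr_eq_ite (irrX a ha) (irrX a ha), if_pos rfl,
          classInner_irr_eq_ite (irrX b hb) (irrX a ha), if_neg (fun h => hab h.symm)]
        push_cast; ring
      rw [h0, classInner_zero_left] at h3
      have : (k : ℂ) ≠ 0 := by exact_mod_cast hk.ne'
      exact this h3.symm
  · -- agreement
    intro θ hθ
    obtain ⟨hθspan, hθvan⟩ := hθ
    have hθS : θ ∈ zspanOn S {1}ᶜ := zspanOn_mono' hUS _ ⟨hθspan, hθvan⟩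
    have hθspan' : θ ∈ Submodule.span ℤ X ⊔ Submodule.span ℤ Y := by
      rw [← Submodule.span_union]; exact hθspan
    obtain ⟨θX, hθX, θY, hθY, hsum⟩ := Submodule.mem_sup.1 hθspan'
    have hint : ∀ f ∈ Submodule.span ℤ X, ∃ u : ℤ, f 1 = (u : ℂ) := by
      intro f hf
      induction hf using Submodule.span_induction with
      | mem x hx =>
        obtain ⟨m, _, hm1⟩ := IsIrrCharacter.apply_one (irrX x hx)
        exact ⟨m, by rw [hm1]; simp⟩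
      | zero => exact ⟨0, by simp⟩
      | add x y _ _ hx hy =>
        obtain ⟨u₁, h₁⟩ := hx
        obtain ⟨u₂, h₂⟩ := hy
        exact ⟨u₁ + u₂, by rw [Pi.add_apply, h₁, h₂]; push_cast; rfl⟩
      | smul a x _ hx =>
        obtain ⟨u₁, h₁⟩ := hx
        exact ⟨a * u₁, by rw [zsmul_eq_complex_smul, Pi.smul_apply, h₁, smul_eq_mul]; push_cast; rfl⟩
    obtain ⟨u, hu⟩ := hint θX hθX
    have hθ1 : θ 1 = 0 := hθvan 1 (by simp)
    have huY : θY 1 = -(u : ℂ) := by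
      rw [← hsum, Pi.add_apply, hu] at hθ1
      linear_combination hθ1
    have hχ₀m : χ₀ ∈ Submodule.span ℤ X := Submodule.subset_span hχ₀
    have hη₀m : η₀ ∈ Submodule.span ℤ Y := Submodule.subset_span hη₀
    set A : L → ℂ := (c : ℤ) • θX - u • χ₀ with hA
    set B : L → ℂ := (e : ℤ) • θY + u • η₀ with hB
    set D : L → ℂ := (c : ℤ) • η₀ - (e : ℤ) • χ₀ with hD
    have hAX : A ∈ zspanOn X {1}ᶜ := by
      refine ⟨Submodule.sub_mem _ (Submodule.smul_mem _ _ hθX) (Submodule.smul_mem _ _ hχ₀m), ?_⟩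
      intro z hz
      have hz1 : z = 1 := by simpa using hz
      subst hz1
      rw [hA, zsmul_eq_complex_smul, zsmul_eq_complex_smul]
      simp only [Pi.sub_apply, Pi.smul_apply, smul_eq_mul]
      rw [hu, hc1]; push_cast; ring
    have hBY : B ∈ zspanOn Y {1}ᶜ := by
      refine ⟨Submodule.add_mem _ (Submodule.smul_mem _ _ hθY) (Submodule.smul_mem _ _ hη₀m), ?_⟩
      intro z hz
      have hz1 : z = 1 := by simpa using hz
      subst hz1
      rw [hB, zsmul_eq_complex_smul, zsmul_eq_complex_smul]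
      simp only [Pi.add_apply, Pi.smul_apply, smul_eq_mul]
      rw [huY, he1]; push_cast; ring
    have hDS : D ∈ zspanOn S {1}ᶜ := by
      refine ⟨Submodule.sub_mem _ (Submodule.smul_mem _ _ (Submodule.subset_span (hYS hη₀)))
        (Submodule.smul_mem _ _ (Submodule.subset_span (hXS hχ₀))), ?_⟩
      intro z hz
      have hz1 : z = 1 := by simpa using hz
      subst hz1
      rw [hD, zsmul_eq_complex_smul, zsmul_eq_complex_smul]
      simp only [Pi.sub_apply, Pi.smul_apply, smul_eq_mul]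
      rw [hc1, he1]; push_cast; ring
    have hAS : A ∈ zspanOn S {1}ᶜ := zspanOn_mono' hXS _ hAX
    have hBS : B ∈ zspanOn S {1}ᶜ := zspanOn_mono' hYS _ hBY
    have hαD : α D = (c : ℤ) • τ η₀ - (e : ℤ) • σ χ₀ := by
      have e1 : χ₀ 1 • η₀ - η₀ 1 • χ₀ = D := by
        rw [hD, zsmul_eq_complex_smul, zsmul_eq_complex_smul, hc1, he1]; push_cast; rfl
      have e2 : χ₀ 1 • τ η₀ - η₀ 1 • σ χ₀ = (c : ℤ) • τ η₀ - (e : ℤ) • σ χ₀ := by
        rw [zsmul_eq_complex_smul, zsmul_eq_complex_smul, hc1, he1]; push_cast; rfl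
      rw [← e1, hlink, e2]
    have hσA : σ A = (c : ℤ) • σ θX - u • σ χ₀ := by
      rw [hA, isLinIso_sub (Submodule.span ℤ X) hσ (Submodule.smul_mem _ _ hθX)
        (Submodule.smul_mem _ _ hχ₀m), hσ.2.1 θX hθX, hσ.2.1 χ₀ hχ₀m]
    have hτB : τ B = (e : ℤ) • τ θY + u • τ η₀ := by
      rw [hB, hτ.1 _ (Submodule.smul_mem _ _ hθY) _ (Submodule.smul_mem _ _ hη₀m),
        hτ.2.1 θY hθY, hτ.2.1 η₀ hη₀m]
    have hdecomp : ((c : ℤ) * (e : ℤ)) • θ = ((e : ℤ) • A + (c : ℤ) • B) - u • D := by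
      rw [← hsum, hA, hB, hD]
      module
    have mE : (e : ℤ) • A ∈ zspanOnSubmodule S {1}ᶜ := (zspanOnSubmodule S {1}ᶜ).smul_mem _ hAS
    have mC : (c : ℤ) • B ∈ zspanOnSubmodule S {1}ᶜ := (zspanOnSubmodule S {1}ᶜ).smul_mem _ hBS
    have mU : u • D ∈ zspanOnSubmodule S {1}ᶜ := (zspanOnSubmodule S {1}ᶜ).smul_mem _ hDS
    have hαce : ((c : ℤ) * (e : ℤ)) • α θ = ((c : ℤ) * (e : ℤ)) • ρ θ := by
      rw [← hα.2.1 θ hθS, hdecomp,
        isLinIso_sub (zspanOnSubmodule S {1}ᶜ) hα ((zspanOnSubmodule S {1}ᶜ).add_mem mE mC) mU,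
        hα.1 _ mE _ mC, hα.2.1 _ hAS, hα.2.1 _ hBS, hα.2.1 _ hDS, ← hσα A hAX, ← hτα B hBY,
        hαD, hσA, hτB, ← hsum, hρadd, hρσ θX hθX, hρτ θY hθY]
      module
    have hce : ((c : ℤ) * (e : ℤ)) ≠ 0 := by
      apply mul_ne_zero <;> exact_mod_cast (by omega : _ ≠ 0)
    exact (smul_right_injective (G → ℂ) hce hαce).symm

end Part2

/-- S1531. -/
theorem result {G : Type*} [Group G] [Fintype G] (N : Subgroup G) [Fintype N] (S X Y : Set (N → ℂ)) (hirr : ∀ ξ ∈ S, Cfsg.IsIrrCharacter N ξ) (hXS : X ⊆ S) (hYS : Y ⊆ S) (hXY : Disjoint X Y) (hX2 : ∃ a ∈ X, ∃ b ∈ X, a ≠ b) (hY2 : ∃ a ∈ Y, ∃ b ∈ Y, a ≠ b) (α : (N → ℂ) → (G → ℂ)) (hα : Cfsg.IsLinearIsometryOn (Cfsg.zspanOn S {1}ᶜ) α) (hα1 : ∀ θ ∈ Cfsg.zspanOn S {1}ᶜ, α θ 1 = 0) (σ τ : (N → ℂ) → (G → ℂ)) (hσ : Cfsg.IsLinearIsometryOn (Cfsg.zspan X) σ) (hσα : ∀ θ ∈ Cfsg.zspanOn X {1}ᶜ, σ θ = α θ) (hτ : Cfsg.IsLinearIsometryOn (Cfsg.zspan Y)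 τ) (hτα : ∀ θ ∈ Cfsg.zspanOn Y {1}ᶜ, τ θ = α θ) : (∀ χ ∈ X, ∀ η ∈ Y, Cfsg.classInner (σ χ) (τ η) = 0) ∧ ((∃ χ₀ ∈ X, ∃ η₀ ∈ Y, α (χ₀ 1 • η₀ - η₀ 1 • χ₀) = χ₀ 1 • τ η₀ - η₀ 1 • σ χ₀) → Cfsg.IsCoherent (X ∪ Y) {1}ᶜ α) := by
  have h1 := orth_part S X Y hirr hXS hYS hXY hX2 hY2 α hα hα1 σ τ hσ hσα hτ hτα
  exact ⟨h1, fun hlink => coh_part S X Y hirr hXS hYS hXY hX2 α hα σ τ hσ hσα hτ hτα h1 hlink⟩

end Cfsg.Agent.S1531
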