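import Cfsg.Statements.S1532
import Cfsg.Agent.Lib.Helper11.FrobSylow

set_option autoImplicit false
open Cfsg

namespace Cfsg.Agent.S1532

/-- Let G be a finite group, p an odd prime and P a Sylow p-subgroup that is non-abelian, whose underlying set is a TI-subset of G, with P properly contained in its set normaliser N and C_G(x) ≤ P for every non-identity x ∈ P. Let Z be a nontrivial subgroup of the centre of P normalised by N. Then the set of irreducible characters χ of N with χ z ≠ χ 1 for some z ∈ Z is coherent for the map induced by induction from N to G. -/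
theorem result {G : Type*} [Group G] [Fintype G] (p : ℕ) [Fact p.Prime] (hp : p ≠ 2) (P : Sylow p G) (hna : ¬ IsMulCommutative (P : Subgroup G)) (hTI : Cfsg.IsTISubset ((P : Subgroup G) : Set G)) (hlt : (P : Subgroup G) < Subgroup.normalizer ((P : Subgroup G) : Set G)) (hC : ∀ k ∈ (P : Subgroup G), k ≠ 1 → Subgroup.centralizer ({k} : Set G) ≤ (P : Subgroup G)) [Fintype ↥(Subgroup.normalizer ((P : Subgroup G) : Set G))] (Z : Subgroup G) (hZ1 : Z ≠ ⊥) (hZP : ∀ z ∈ Z, z ∈ (P : Subgroup G) ∧ ∀ y ∈ (P : Subgroup G), z * y = y * z) (hZn : ∀ x ∈ Subgroup.normalizer ((P : Subgroup G) : Set G), ∀ z ∈ Z, x * z * x⁻¹ ∈ Z) : Cfsg.IsCoherent {χ : ↥(Subgroup.normalizer ((P : Subgroup G) : Set G)) → ℂ | Cfsg.IsIrrCharacter ↥(Subgroup.normalizer ((P : Subgroup G) : Set G)) χ ∧ ∃ z : ↥(Subgroup.normalizer ((P : Subgroup G) : Set G)), (z : G) ∈ Z ∧ χ z ≠ χ 1} {1}ᶜ (fun α => Cfsg.indFun (Subgroup.normalizer ((P : Subgroup G) : Set G)) α) := by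
  classical
  have hHL : (P : Subgroup G) ≤ Subgroup.normalizer ((P : Subgroup G) : Set G) := hlt.le
  have hLH : ¬ Subgroup.normalizer ((P : Subgroup G) : Set G) ≤ (P : Subgroup G) :=
    not_le_of_gt hlt
  have hHn : ∀ x ∈ Subgroup.normalizer ((P : Subgroup G) : Set G), ∀ h ∈ (P : Subgroup G),
      x * h * x⁻¹ ∈ (P : Subgroup G) := by
    intro x hx h hh
    exact ((Subgroup.mem_normalizer_iff).1 hx h).1 hh
  have hcent : ∀ h ∈ (P : Subgroup G), h ≠ 1 →
      ∀ x ∈ Subgroup.normalizer ((P : Subgroup G) : Set G), x * h = h * x →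
        x ∈ (P : Subgroup G) := by
    intro h hh hh1 x _ hxh
    apply hC h hh hh1
    rw [Subgroup.mem_centralizer_iff]
    intro y hy
    rw [Set.mem_singleton_iff] at hy
    rw [hy]
    exact hxh.symm
  have hnil : Group.IsNilpotent (P : Subgroup G) := P.isPGroup'.isNilpotent
  obtain ⟨n, hn⟩ := IsPGroup.iff_card.1 P.isPGroup'
  have hHodd : Odd (Nat.card (P : Subgroup G)) := by
    rw [hn]
    exact (Nat.Prime.odd_of_ne_two Fact.out hp).pow
  have hidx : ¬ Even (((P : Subgroup G).subgroupOf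
      (Subgroup.normalizer ((P : Subgroup G) : Set G))).index) := by
    intro heven
    haveI := Cfsg.Agent.Lib.Helper11.subgroupOf_normal_of_conj (P : Subgroup G) _ hHn
    have hab := Cfsg.Agent.Lib.Helper11.frob_kernel_comm_of_even _
      (Cfsg.Agent.Lib.Helper11.frob_cond_subgroupOf (P : Subgroup G) _ hcent) heven
    apply hna
    refine ⟨⟨fun a b => ?_⟩⟩
    apply Subtype.ext
    have := hab ⟨(a : G), hHL a.2⟩ (Subgroup.mem_subgroupOf.2 a.2) ⟨(b : G), hHL b.2⟩
      (Subgroup.mem_subgroupOf.2 b.2)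
    have h2 : (a : G) * (b : G) = (b : G) * (a : G) := congrArg Subtype.val this
    rw [Subgroup.coe_mul, Subgroup.coe_mul]
    exact h2
  have hodd := Cfsg.Agent.Lib.Helper11.odd_card_of_odd_index (P : Subgroup G) _ hHL hHodd hidx
  exact Cfsg.Agent.Lib.Helper11.sibley_Z_coherent (P : Subgroup G) _ hodd hHL hLH hnil hHn hcent
    hTI rfl Z hZ1 hZP hZn

end Cfsg.Agent.S1532
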