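import Cfsg.Statements.S1533
import Cfsg.Agent.Lib.Helper11.FrobSylow

set_option autoImplicit false
open Cfsg

namespace Cfsg.Agent.S1533

/-- Let G be a finite group, p an odd prime, and P a nontrivial Sylow p-subgroup whose underlying set is a TI-subset of G, with P properly contained in its set normaliser N and C_G(x) ≤ P for every non-identity x ∈ P. Let S be the set of irreducible characters χ of N with χ x ≠ χ 1 for some x ∈ P. Then either S has exactly one member, P is elementary abelian and Nat.card P = [N:P] + 1; or (S, N minus 1, induction to G) is coherent. -/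
theorem result {G : Type*} [Group G] [Fintype G] (p : ℕ) [Fact p.Prime] (hp : p ≠ 2) (P : Sylow p G) (hP1 : (P : Subgroup G) ≠ ⊥) (hTI : Cfsg.IsTISubset ((P : Subgroup G) : Set G)) (hlt : (P : Subgroup G) < Subgroup.normalizer ((P : Subgroup G) : Set G)) (hC : ∀ k ∈ (P : Subgroup G), k ≠ 1 → Subgroup.centralizer ({k} : Set G) ≤ (P : Subgroup G)) [Fintype ↥(Subgroup.normalizer ((P : Subgroup G) : Set G))] : (Nat.card {χ : ↥(Subgroup.normalizer ((P : Subgroup G) : Set G)) → ℂ // Cfsg.IsIrrCharacter ↥(Subgroup.normalizer ((P : Subgroup G) : Set G)) χ ∧ ∃ x : ↥(Subgroup.normalizer ((P : Subgroup G) : Set G)), (x : G) ∈ (P : Subgroup G) ∧ χ x ≠ χ 1} = 1 ∧ Cfsg.IsElementaryAbelian p (P : Subgroup G) ∧ Nat.card (P : Subgroup G) = ((P : Subgroup G).subgroupOf (Subgroup.normalizer ((P : Subgroup G) : Set G))).index + 1) ∨ Cfsg.IsCoherent {χ : ↥(Subgroup.normalizer ((P : Subgroup G) : Set G)) → ℂ | Cfsg.IsIrrCharacter ↥(Subgroup.normalizer ((P : Subgroup G) : Set G)) χ ∧ ∃ x : ↥(Subgroup.normalizer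 ((P : Subgroup G) : Set G)), (x : G) ∈ (P : Subgroup G) ∧ χ x ≠ χ 1} {1}ᶜ (fun α => Cfsg.indFun (Subgroup.normalizer ((P : Subgroup G) : Set G)) α) := by
  classical
  have hHL : (P : Subgroup G) ≤ Subgroup.normalizer ((P : Subgroup G) : Set G) := hlt.le
  have hLH : ¬ Subgroup.normalizer ((P : Subgroup G) : Set G) ≤ (P : Subgroup G) :=
    not_le_of_gt hlt
  have hHn : ∀ x ∈ Subgroup.normalizer ((P : Subgroup G) : Set G), ∀ h ∈ (P : Subgroup G),
      x * h * x⁻¹ ∈ (P : Subgroup G) := by
    intro x hx h hh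
    exact ((Subgroup.mem_normalizer_iff).1 hx h).1 hh
  have hcent : ∀ h ∈ (P : Subgroup G), h ≠ 1 →
      ∀ x ∈ Subgroup.normalizer ((P : Subgroup G) : Set G), x * h = h * x →
        x ∈ (P : Subgroup G) := by
    intro h hh hh1 x _ hxh
    apply hC h hh hh1
    rw [Subgroup.mem_centralizer_iff]
    intro y hy
    rw [Set.mem_singleton_iff] at hy
    rw [hy]
    exact hxh.symm
  have hnil : Group.IsNilpotent (P : Subgroup G) := P.isPGroup'.isNilpotent
  obtain ⟨n, hn⟩ := IsPGroup.iff_card.1 P.isPGroup'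
  have hHodd : Odd (Nat.card (P : Subgroup G)) := by
    rw [hn]
    exact (Nat.Prime.odd_of_ne_two Fact.out hp).pow
  by_cases heven : Even (((P : Subgroup G).subgroupOf
      (Subgroup.normalizer ((P : Subgroup G) : Set G))).index)
  · rcases Cfsg.Agent.Lib.Helper11.frobenius_TI_coherent_even (P : Subgroup G) _ hHL hP1 hHn hcent
      hTI rfl heven with ⟨h1, hcomm, hcard, hexp⟩ | hcoh
    · left
      refine ⟨h1, ⟨⟨⟨fun a b => Subtype.ext (hcomm a a.2 b b.2)⟩⟩, ?_⟩, hcard⟩
      intro a ha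
      apply hexp p Fact.out ?_ a ha
      rw [hn]
      apply dvd_pow_self
      rintro rfl
      rw [pow_zero] at hn
      exact hP1 (Subgroup.card_eq_one.1 hn)
    · right
      exact hcoh
  · right
    have hodd := Cfsg.Agent.Lib.Helper11.odd_card_of_odd_index (P : Subgroup G) _ hHL hHodd heven
    exact Cfsg.Agent.Lib.Helper11.frobenius_TI_coherent_irr (P : Subgroup G) _ hodd hHL hLH hP1
      hnil hHn hcent hTI rfl

end Cfsg.Agent.S1533
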