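import Cfsg.Statements.S1534
import Cfsg.Agent.Lib.Helper11.FeitFrob

set_option autoImplicit false
open Cfsg

namespace Cfsg.Agent.S1534

/-- Let G be a finite group and K a nontrivial nilpotent subgroup whose underlying set is a TI-subset of G, properly contained in its set normaliser N, with C_G(k) ≤ K for every non-identity k ∈ K; let e be the index of K in N and S the set of irreducible characters χ of N with χ k ≠ χ 1 for some k ∈ K. Then one of: S has exactly one member, Nat.card K = e + 1 and K is an elementary abelian p-group for some prime p; or K is a Sylow 2-subgroup of G (Nat.card K is the largest power of 2 dividing Nat.card G) and [K : [K,K]] < 4e²; or (S, N minus 1, induction to G) is coherent. -/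
theorem result {G : Type*} [Group G] [Fintype G] (K : Subgroup G) (hK1 : K ≠ ⊥) (hnil : Group.IsNilpotent K) (hTI : Cfsg.IsTISubset (K : Set G)) (hlt : K < Subgroup.normalizer (K : Set G)) (hC : ∀ k ∈ K, k ≠ 1 → Subgroup.centralizer ({k} : Set G) ≤ K) [Fintype ↥(Subgroup.normalizer (K : Set G))] : (Nat.card {χ : ↥(Subgroup.normalizer (K : Set G)) → ℂ // Cfsg.IsIrrCharacter ↥(Subgroup.normalizer (K : Set G)) χ ∧ ∃ k : ↥(Subgroup.normalizer (K : Set G)), (k : G) ∈ K ∧ χ k ≠ χ 1} = 1 ∧ Nat.card K = (K.subgroupOf (Subgroup.normalizer (K : Set G))).index + 1 ∧ ∃ p : ℕ, p.Prime ∧ Cfsg.IsElementaryAbelian p K) ∨ (Nat.card K = 2 ^ (Nat.card G).factorization 2 ∧ (⁅K, K⁆.subgroupOf K).index < 4 * (K.subgroupOf (Subgroup.normalizer (K : Set G))).index ^ 2) ∨ Cfsg.IsCoherent {χ : ↥(Subgroup.normalizer (K : Set G)) → ℂ | Cfsg.IsIrrCharacter ↥(Subgroup.normalizer (K : Set G)) χ ∧ ∃ k : ↥(Subgroup.normalizer (K : Set G)), (k : G) ∈ K ∧ χ k ≠ χ 1} {1}ᶜ (fun α => Cfsg.indFun (Subgroup.normalizer (K : Set G)) α) := by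
  classical
  have hHL : K ≤ (Subgroup.normalizer (K : Set G)) := hlt.le
  have hLH : ¬ (Subgroup.normalizer (K : Set G)) ≤ K := not_le_of_gt hlt
  have hHn : ∀ x ∈ (Subgroup.normalizer (K : Set G)), ∀ h ∈ K, x * h * x⁻¹ ∈ K := by
    intro x hx h hh
    exact ((Subgroup.mem_normalizer_iff).1 hx h).1 hh
  have hcent : ∀ h ∈ K, h ≠ 1 → ∀ x ∈ (Subgroup.normalizer (K : Set G)), x * h = h * x → x ∈ K := by
    intro h hh hh1 x _ hxh
    apply hC h hh hh1
    rw [Subgroup.mem_centralizer_iff]
    intro y hy
    rw [Set.mem_singleton_iff] at hy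
    rw [hy]
    exact hxh.symm
  haveI hKn : (K.subgroupOf (Subgroup.normalizer (K : Set G))).Normal :=
    Cfsg.Agent.Lib.Helper11.subgroupOf_normal_of_conj K _ hHn
  have hF := Cfsg.Agent.Lib.Helper11.frob_cond_subgroupOf K _ hcent
  have hK01 : K.subgroupOf (Subgroup.normalizer (K : Set G)) ≠ ⊥ := by
    intro h
    apply hK1
    rw [Subgroup.subgroupOf_eq_bot] at h
    exact h.eq_bot_of_le hHL
  have hK0top : K.subgroupOf (Subgroup.normalizer (K : Set G)) ≠ ⊤ := fun h => hLH (Subgroup.subgroupOf_eq_top.1 h)
  have hcardK : Nat.card (K.subgroupOf (Subgroup.normalizer (K : Set G))) = Nat.card K :=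
    Nat.card_congr (Subgroup.subgroupOfEquivOfLe hHL).toEquiv
  have hcard1 : Nat.card K ≠ 1 := fun h => hK1 (Subgroup.card_eq_one.1 h)
  by_cases hab : ∀ a ∈ K.subgroupOf (Subgroup.normalizer (K : Set G)), ∀ b ∈ K.subgroupOf (Subgroup.normalizer (K : Set G)), a * b = b * a
  · rcases Cfsg.Agent.Lib.Helper11.frobenius_TI_coherent_comm K _ hHL hK1 hHn hcent hTI rfl hab
      with ⟨h1, hcomm, hcard, hexp⟩ | hcoh
    · left
      obtain ⟨p, hp, hpdvd⟩ := Nat.exists_prime_and_dvd hcard1
      exact ⟨h1, hcard, p, hp, ⟨⟨⟨fun a b => Subtype.ext (hcomm a a.2 b b.2)⟩⟩,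
        fun a ha => hexp p hp hpdvd a ha⟩⟩
    · right; right
      exact hcoh
  · have hodd_e : ¬ Even (K.subgroupOf (Subgroup.normalizer (K : Set G))).index :=
      fun heven => hab (Cfsg.Agent.Lib.Helper11.frob_kernel_comm_of_even _ hF heven)
    by_cases hKodd : Odd (Nat.card K)
    · right; right
      have hodd := Cfsg.Agent.Lib.Helper11.odd_card_of_odd_index K _ hHL hKodd hodd_e
      exact Cfsg.Agent.Lib.Helper11.frobenius_TI_coherent_irr K _ hodd hHL hLH hK1 hnil hHn hcent
        hTI rfl
    · -- `|K|` even and the index odd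
      have hnab : ¬ ⁅K.subgroupOf (Subgroup.normalizer (K : Set G)), K.subgroupOf (Subgroup.normalizer (K : Set G))⁆ ≤ ⊥ := by
        intro h
        apply hab
        have h1 := Subgroup.commutator_eq_bot_iff_le_centralizer.1 (le_bot_iff.1 h)
        intro a ha b hb
        exact (Subgroup.mem_centralizer_iff.1 (h1 hb)) a ha
      haveI hnilK : Group.IsNilpotent (K.subgroupOf (Subgroup.normalizer (K : Set G))) := by
        haveI := hnil
        exact Group.nilpotent_of_mulEquiv (Subgroup.subgroupOfEquivOfLe hHL).symm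
      have hsolv : Group.IsSolvable (K.subgroupOf (Subgroup.normalizer (K : Set G))) := inferInstance
      have hK'lt := Cfsg.Agent.Lib.Helper11.commutator_lt_of_solvable (K.subgroupOf (Subgroup.normalizer (K : Set G))) hsolv hK01
      have hne : Nat.card (K.subgroupOf (Subgroup.normalizer (K : Set G))) ≠ (K.subgroupOf (Subgroup.normalizer (K : Set G))).index + 1 := by
        have hbot : (⊥ : Subgroup ↥(Subgroup.normalizer (K : Set G))) < ⁅K.subgroupOf (Subgroup.normalizer (K : Set G)), K.subgroupOf (Subgroup.normalizer (K : Set G))⁆ :=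
          bot_lt_iff_ne_bot.2 (fun h => hnab (le_of_eq h))
        have h1 := Cfsg.Agent.Lib.Helper11.frob_succ_le_relIndex (K.subgroupOf (Subgroup.normalizer (K : Set G))) hF ⊥
          ⁅K.subgroupOf (Subgroup.normalizer (K : Set G)), K.subgroupOf (Subgroup.normalizer (K : Set G))⁆ hbot hK'lt.le
        rw [Subgroup.relIndex_bot_left] at h1
        have h2 : Nat.card (⁅K.subgroupOf (Subgroup.normalizer (K : Set G)), K.subgroupOf (Subgroup.normalizer (K : Set G))⁆ : Subgroup ↥(Subgroup.normalizer (K : Set G)))
            < Nat.card (K.subgroupOf (Subgroup.normalizer (K : Set G))) := by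
          have h3 : ((⁅K.subgroupOf (Subgroup.normalizer (K : Set G)), K.subgroupOf (Subgroup.normalizer (K : Set G))⁆ : Subgroup ↥(Subgroup.normalizer (K : Set G))) : Set ↥(Subgroup.normalizer (K : Set G)))
              ⊂ ((K.subgroupOf (Subgroup.normalizer (K : Set G)) : Subgroup ↥(Subgroup.normalizer (K : Set G))) : Set ↥(Subgroup.normalizer (K : Set G))) := by
            rw [SetLike.coe_ssubset_coe]; exact hK'lt
          have := Set.ncard_lt_ncard h3 (Set.toFinite _)
          rwa [← Nat.card_coe_set_eq, ← Nat.card_coe_set_eq] at this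
        omega
      obtain ⟨hiso, hone⟩ := Cfsg.Agent.Lib.Helper11.isLinearIsometryOn_indFun_of_TI K _ hTI rfl
      obtain ⟨-, W, hsup, -, hfpf⟩ :=
        Cfsg.Agent.Lib.Helper11.exists_complement_of_frob (K.subgroupOf (Subgroup.normalizer (K : Set G))) hF
      have hirrS : ∀ χ ∈ Cfsg.inducedIrrAbove (K.subgroupOf (Subgroup.normalizer (K : Set G))) ⊥, Cfsg.IsIrrCharacter ↥(Subgroup.normalizer (K : Set G)) χ := by
        rintro χ ⟨θ, hθ, hθ1, -, rfl⟩
        exact Cfsg.Agent.Lib.Helper2.isIrrCharacter_indFun_of_fpf (K.subgroupOf (Subgroup.normalizer (K : Set G))) W hsup hfpf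
          hθ hθ1
      rcases Cfsg.Agent.Lib.Helper11.feit_frobenius (K.subgroupOf (Subgroup.normalizer (K : Set G))) hK01 hK0top hF hne
        (fun α : ↥(Subgroup.normalizer (K : Set G)) → ℂ => Cfsg.indFun (Subgroup.normalizer (K : Set G)) α) hiso hone with hcoh | ⟨p, hp, ⟨m, hm⟩, -, hidx⟩
      · right; right
        rw [Cfsg.Agent.Lib.Helper11.irr_nontriv_eq_induced K _ hirrS]
        exact hcoh
      · right; left
        have hp2 : p = 2 := by
          rcases hp.eq_two_or_odd' with h | h
          · exact h
          · exfalso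
            apply hKodd
            rw [← hcardK, hm]
            exact h.pow
        subst hp2
        haveI : Fact (Nat.Prime 2) := ⟨Nat.prime_two⟩
        have hcardK2 : Nat.card K = 2 ^ m := by rw [← hcardK, hm]
        have hidx2 : ¬ 2 ∣ K.relIndex (Subgroup.normalizer (K : Set G)) := fun h => hodd_e (even_iff_two_dvd.2 h)
        obtain ⟨P, hP⟩ := Cfsg.Agent.Lib.Helper11.exists_sylow_eq_of_normalizer 2 K (Subgroup.normalizer (K : Set G)) m hcardK2
          rfl hHL hidx2
        constructor
        · have := P.card_eq_multiplicity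
          rw [← hP]
          exact this
        · have hrel : ⁅K, K⁆.relIndex K
              = ⁅K.subgroupOf (Subgroup.normalizer (K : Set G)), K.subgroupOf (Subgroup.normalizer (K : Set G))⁆.relIndex (K.subgroupOf (Subgroup.normalizer (K : Set G))) := by
            have h1 := Subgroup.relIndex_map_map_of_injective
              ⁅K.subgroupOf (Subgroup.normalizer (K : Set G)), K.subgroupOf (Subgroup.normalizer (K : Set G))⁆ (K.subgroupOf (Subgroup.normalizer (K : Set G)))
              (Subgroup.subtype_injective (Subgroup.normalizer (K : Set G)))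
            rw [Subgroup.map_commutator, Subgroup.map_subgroupOf_eq_of_le hHL] at h1
            exact h1
          show ⁅K, K⁆.relIndex K < _
          rw [hrel]
          have hdvd : ⁅K.subgroupOf (Subgroup.normalizer (K : Set G)), K.subgroupOf (Subgroup.normalizer (K : Set G))⁆.relIndex (K.subgroupOf (Subgroup.normalizer (K : Set G))) ∣ 2 ^ m := by
            rw [← hm]
            exact Subgroup.relIndex_dvd_card _ _
          obtain ⟨j, -, hj⟩ := (Nat.dvd_prime_pow Nat.prime_two).1 hdvd
          rw [hj] at hidx ⊢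
          obtain ⟨e, he⟩ : ∃ e, e = (K.subgroupOf (Subgroup.normalizer (K : Set G))).index := ⟨_, rfl⟩
          rw [← he] at hidx hodd_e ⊢
          have he1 : e ≠ 1 := by
            rw [he]
            exact fun h => hK0top (Subgroup.index_eq_one.1 h)
          have heodd : Odd e := Nat.not_even_iff_odd.1 hodd_e
          rcases Nat.lt_or_ge (2 ^ j) (4 * e ^ 2) with h | h
          · exact h
          · exfalso
            rcases Nat.eq_zero_or_pos j with hj0 | hj0
            · rw [hj0, pow_zero] at h
              have hepos : 0 < e := heodd.pos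
              nlinarith
            · have heven : Even (2 ^ j) := Nat.even_pow.2 ⟨even_two, hj0.ne'⟩
              have hodd' : Odd (4 * e ^ 2 + 1) := ⟨2 * e ^ 2, by ring⟩
              have hne' : 2 ^ j ≠ 4 * e ^ 2 + 1 :=
                fun hh => (Nat.not_even_iff_odd.2 hodd') (hh ▸ heven)
              have heq : 2 ^ j = 4 * e ^ 2 := by omega
              have hedvd : e ∣ 2 ^ j := by
                rw [heq]
                exact Dvd.intro_left (4 * e) (by ring)
              obtain ⟨i, -, hi⟩ := (Nat.dvd_prime_pow Nat.prime_two).1 hedvd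
              rcases Nat.eq_zero_or_pos i with hi0 | hi0
              · rw [hi0, pow_zero] at hi
                exact he1 hi
              · have hee : Even e := by
                  rw [hi]
                  exact Nat.even_pow.2 ⟨even_two, hi0.ne'⟩
                exact (Nat.not_even_iff_odd.2 heodd) hee

end Cfsg.Agent.S1534
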