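import Cfsg.Statements.S1535
import Cfsg.Agent.Lib.Helper11.FeitFrob

set_option autoImplicit false
open Cfsg

namespace Cfsg.Agent.S1535

/-- Let N be a finite group with a proper nontrivial normal subgroup H such that every element commuting with a non-identity element of H lies in H (N is a Frobenius group with kernel H); let e be the index of H and suppose Nat.card H ≠ e + 1. Let S be the set of irreducible characters χ of N with χ h ≠ χ 1 for some h ∈ H, and τ a linear isometry on the integer combinations of S vanishing at 1, with values virtual characters of a finite group G vanishing at 1. Then (S, N minus 1, τ) is coherent, or there is a prime p with Nat.card H a power of p, H non-abelian and [H : [H,H]] ≤ 4e² + 1. -/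
theorem result {N : Type*} [Group N] [Fintype N] {G : Type*} [Group G] [Fintype G] (H : Subgroup N) [H.Normal] (hH1 : H ≠ ⊥) (hH2 : H ≠ ⊤) (hC : ∀ h ∈ H, h ≠ 1 → Subgroup.centralizer ({h} : Set N) ≤ H) (he : Nat.card H ≠ H.index + 1) (τ : (N → ℂ) → (G → ℂ)) (hτ : Cfsg.IsLinearIsometryOn (Cfsg.zspanOn {χ : N → ℂ | Cfsg.IsIrrCharacter N χ ∧ ∃ h ∈ H, χ h ≠ χ 1} {1}ᶜ) τ) (hτ1 : ∀ α ∈ Cfsg.zspanOn {χ : N → ℂ | Cfsg.IsIrrCharacter N χ ∧ ∃ h ∈ H, χ h ≠ χ 1} {1}ᶜ, τ α 1 = 0) : Cfsg.IsCoherent {χ : N → ℂ | Cfsg.IsIrrCharacter N χ ∧ ∃ h ∈ H, χ h ≠ χ 1} {1}ᶜ τ ∨ ∃ p : ℕ, p.Prime ∧ (∃ m : ℕ, Nat.card H = p ^ m) ∧ ¬ IsMulCommutative H ∧ (⁅H, H⁆.subgroupOf H).index ≤ 4 * H.index ^ 2 + 1 := by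
  classical
  have hF : ∀ k ∈ H, k ≠ 1 → ∀ x : N, x * k = k * x → x ∈ H := by
    intro k hk hk1 x hxk
    apply hC k hk hk1
    rw [Subgroup.mem_centralizer_iff]
    intro y hy
    rw [Set.mem_singleton_iff] at hy
    rw [hy]
    exact hxk.symm
  obtain ⟨-, W, hsup, -, hfpf⟩ := Cfsg.Agent.Lib.Helper11.exists_complement_of_frob H hF
  have hirr : ∀ χ ∈ Cfsg.inducedIrrAbove H ⊥, Cfsg.IsIrrCharacter N χ := by
    rintro χ ⟨θ, hθ, hθ1, -, rfl⟩
    exact Cfsg.Agent.Lib.Helper2.isIrrCharacter_indFun_of_fpf H W hsup hfpf hθ hθ1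
  have hset : {χ : N → ℂ | Cfsg.IsIrrCharacter N χ ∧ ∃ h ∈ H, χ h ≠ χ 1}
      = Cfsg.inducedIrrAbove H ⊥ := by
    have h1 := Cfsg.Agent.S1522.diff_eq_irr H H le_rfl (fun χ hχ => hirr χ hχ.1)
    rw [← h1]
    ext χ
    constructor
    · exact fun h => h.1
    · exact fun h => ⟨h, Cfsg.Agent.Lib.Helper11.not_mem_inducedIrrAbove_self _ χ⟩
  rw [hset] at hτ hτ1 ⊢
  rcases Cfsg.Agent.Lib.Helper11.feit_frobenius H hH1 hH2 hF he τ hτ hτ1 with
    h | ⟨p, hp, hm, hnab, hidx⟩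
  · left
    exact h
  · right
    refine ⟨p, hp, hm, ?_, hidx⟩
    intro hc
    apply hnab
    rw [Subgroup.commutator_self_eq_bot_iff.2 hc]

end Cfsg.Agent.S1535
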