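import Cfsg.Statements.S1546
import Mathlib

set_option autoImplicit false
open Cfsg

namespace Cfsg.Agent.S1546

open Finset in
theorem geom_eq (p q : ℕ) (hp : 2 ≤ p) : (p ^ q - 1) / (p - 1) = ∑ i ∈ range q, p ^ i :=
  (Nat.geomSum_eq hp q).symm

/-- N ≡ q mod m whenever p ≡ 1 mod m. -/
theorem geom_modEq (p q m : ℕ) (h : p ≡ 1 [MOD m]) : (∑ i ∈ Finset.range q, p ^ i) ≡ q [MOD m] := by
  have : ∀ i ∈ Finset.range q, p ^ i ≡ 1 [MOD m] := by
    intro i _
    simpa using h.pow i
  calc (∑ i ∈ Finset.range q, p ^ i) ≡ ∑ i ∈ Finset.range q, 1 [MOD m] := by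
        unfold Nat.ModEq
        rw [Finset.sum_nat_mod, Finset.sum_nat_mod (f := fun _ => 1)]
        congr 1
        apply Finset.sum_congr rfl
        intro i hi
        exact this i hi
    _ = q := by simp

theorem prime_dvd_mod (p q : ℕ) (hp : p.Prime) (hq : q.Prime) (hq2 : q ≠ 2)
    (hpq : p % q ≠ 1) (hcop : Nat.Coprime (∑ i ∈ Finset.range q, p ^ i) (p - 1))
    (r : ℕ) (hr : r.Prime) (hrN : r ∣ ∑ i ∈ Finset.range q, p ^ i) : r % q = 1 := by
  have : Fact r.Prime := Fact.mk hr
  have : Fact q.Prime := Fact.mk hq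
  have hp2 : 2 ≤ p := hp.two_le
  have hq3 : 3 ≤ q := by
    have := hq.two_le
    omega
  -- r ∣ p^q - 1
  have h1 : r ∣ p ^ q - 1 := by
    have : (p - 1) * ∑ i ∈ Finset.range q, p ^ i = p ^ q - 1 := by
      have := Nat.geomSum_eq hp2 q
      rw [this]
      apply Nat.mul_div_cancel'
      exact Nat.sub_one_dvd_pow_sub_one p q |> fun h => by simpa using h
    rw [← this]
    exact Dvd.dvd.mul_left hrN _
  have hpow : (p : ZMod r) ^ q = 1 := by
    have hpos : 1 ≤ p ^ q := Nat.one_le_pow _ _ (by omega)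
    have : ((p ^ q - 1 : ℕ) : ZMod r) = 0 := (ZMod.natCast_eq_zero_iff _ _).2 h1
    rw [Nat.cast_sub hpos] at this
    push_cast at this
    exact sub_eq_zero.1 this
  have hne1 : (p : ZMod r) ≠ 1 := by
    intro h
    have : r ∣ p - 1 := by
      have h' : ((p - 1 : ℕ) : ZMod r) = 0 := by
        rw [Nat.cast_sub (by omega)]
        simp [h]
      exact (ZMod.natCast_eq_zero_iff _ _).1 h'
    have : r ∣ Nat.gcd (∑ i ∈ Finset.range q, p ^ i) (p - 1) := Nat.dvd_gcd hrN this
    rw [hcop] at this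
    exact hr.one_lt.ne' (Nat.dvd_one.1 this)
  have hord : orderOf (p : ZMod r) = q := orderOf_eq_prime hpow hne1
  have hp0 : (p : ZMod r) ≠ 0 := by
    intro h
    rw [h, zero_pow (by omega)] at hpow
    exact zero_ne_one hpow
  have hdiv : q ∣ r - 1 := by
    rw [← hord]
    apply orderOf_dvd_of_pow_eq_one
    exact ZMod.pow_card_sub_one_eq_one hp0
  have hr1 : 1 ≤ r := hr.one_lt.le
  obtain ⟨k, hk⟩ := hdiv
  have : r = q * k + 1 := by omega
  rw [this, Nat.add_mod, Nat.mul_mod_right]
  have : 1 % q = 1 := Nat.mod_eq_of_lt (by omega)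
  simp [this]

theorem result (p q : ℕ) (hp : p.Prime) (hq : q.Prime) (hp2 : p ≠ 2) (hq2 : q ≠ 2) : Odd ((p ^ q - 1) / (p - 1)) ∧ (p % q = 1 → q ∣ (p ^ q - 1) / (p - 1)) ∧ (p % q ≠ 1 → Nat.Coprime ((p ^ q - 1) / (p - 1)) (p - 1) ∧ ∀ x : ℕ, x ∣ (p ^ q - 1) / (p - 1) → x % q = 1) := by
  have hp2' : 2 ≤ p := hp.two_le
  have hq3 : 3 ≤ q := by
    have := hq.two_le
    omega
  rw [geom_eq p q hp2']
  have hpodd : Odd p := hp.odd_of_ne_two hp2
  have hqodd : Odd q := hq.odd_of_ne_two hq2
  refine ⟨?_, ?_, ?_⟩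
  · have h := geom_modEq p q 2 (by
      rcases hpodd with ⟨k, rfl⟩
      unfold Nat.ModEq
      omega)
    rw [Nat.odd_iff]
    rw [h]
    exact Nat.odd_iff.1 hqodd
  · intro h
    have h' := geom_modEq p q q (by
      unfold Nat.ModEq
      rw [h]
      exact (Nat.mod_eq_of_lt (by omega)).symm)
    exact (Nat.modEq_zero_iff_dvd).1 (h'.trans (by simp [Nat.ModEq]))
  · intro hpq
    have hcop : Nat.Coprime (∑ i ∈ Finset.range q, p ^ i) (p - 1) := by
      have h' := geom_modEq p q (p - 1) (by
        have : p = (p - 1) + 1 := by omega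
        unfold Nat.ModEq
        conv_lhs => rw [this]
        simp)
      have hg : Nat.gcd (∑ i ∈ Finset.range q, p ^ i) (p - 1) = Nat.gcd q (p - 1) := by
        exact Nat.ModEq.gcd_eq h'
      unfold Nat.Coprime
      rw [hg]
      rcases (Nat.dvd_prime hq).1 (Nat.gcd_dvd_left q (p - 1)) with h1 | h1
      · exact h1
      · exfalso
        have : q ∣ p - 1 := by
          have := Nat.gcd_dvd_right q (p - 1)
          rwa [h1] at this
        obtain ⟨k, hk⟩ := this
        have : p = q * k + 1 := by omega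
        apply hpq
        rw [this, Nat.add_mod, Nat.mul_mod_right]
        have : 1 % q = 1 := Nat.mod_eq_of_lt (by omega)
        simp [this]
    refine ⟨hcop, ?_⟩
    intro x
    induction x using Nat.strong_induction_on with
    | _ x ih =>
      intro hx
      by_cases hx1 : x = 1
      · rw [hx1]
        exact Nat.mod_eq_of_lt (by omega)
      · obtain ⟨r, hr, hrx⟩ := Nat.exists_prime_and_dvd hx1
        obtain ⟨y, rfl⟩ := hrx
        have hNpos : 0 < ∑ i ∈ Finset.range q, p ^ i := by
          apply Finset.sum_pos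
          · intro i _
            exact Nat.pos_of_ne_zero (pow_ne_zero _ (by omega))
          · exact ⟨0, by simp; omega⟩
        have hxpos : 0 < r * y := Nat.pos_of_dvd_of_pos hx hNpos
        have hypos : 0 < y := Nat.pos_of_mul_pos_left hxpos |> fun h => by
          rcases Nat.eq_zero_or_pos y with h0 | h0
          · rw [h0] at hxpos; simp at hxpos
          · exact h0
        have hy : y % q = 1 := by
          apply ih y
          · have := hr.one_lt
            nlinarith
          · exact (Dvd.intro_left r rfl).trans hx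
        have hrq : r % q = 1 :=
          prime_dvd_mod p q hp hq hq2 hpq hcop r hr ((Dvd.intro y rfl).trans hx)
        rw [Nat.mul_mod, hy, hrq]
        exact Nat.mod_eq_of_lt (by omega)

end Cfsg.Agent.S1546
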