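import Cfsg.Statements.S1552
import Cfsg.Agent.Lib.Helper28.Data5611
import Cfsg.Agent.Lib.Helper28.CertOrbits
import Cfsg.Agent.Lib.Helper28.StabCards
import Cfsg.Agent.Lib.Helper28.MaxOrbit2

set_option autoImplicit false
open scoped Pointwise
open Cfsg

namespace Cfsg.Agent.S1552

open Cfsg.Agent.Lib.Helper28


/-- A sextet stabiliser has four orbits on the 1771 sextets, of sizes 1, 90, 240, 1440; and the stabiliser is a maximal proper subgroup. -/
theorem result (S : Finset (Finset Cfsg.GolayPt)) (hS : S ∈ Cfsg.sextets) : ∃ X₁ ∈ Cfsg.sextets, ∃ X₂ ∈ Cfsg.sextets, ∃ X₃ ∈ Cfsg.sextets, (MulAction.orbit ↥(MulAction.stabilizer Cfsg.M24 S) X₁).ncard = 90 ∧ (MulAction.orbit ↥(MulAction.stabilizer Cfsg.M24 S) X₂).ncard = 240 ∧ (MulAction.orbit ↥(MulAction.stabilizer Cfsg.M24 S) X₃).ncard = 1440 ∧ Cfsg.sextets = {S} ∪ MulAction.orbit ↥(MulAction.stabilizer Cfsg.M24 S) X₁ ∪ MulAction.orbit ↥(MulAction.stabilizer Cfsg.M24 S) X₂ ∪ MulAction.orbit ↥(MulAction.stabilizer Cfsg.M24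 S) X₃ ∧ IsCoatom (MulAction.stabilizer Cfsg.M24 S) := by
  classical
  have hbase : famSet sx_base ∈ Cfsg.sextets := sx_base_check.mem
  have hS0 := hS
  obtain ⟨h, hh, rfl⟩ := M24_sextet_transitive hbase hS
  have hgens := gens_stab_fam sx_tabs sx_base sx_base_check.goodFam sx_tabs_check
  have hc := card_stabilizer_sextet hS0
  obtain ⟨h1, h2⟩ := sxsext_model.orbits (famSet sx_base) sx_tabs hgens Cfsg.sextets
    (fun g hg y hy => smul_mem_sextets hg hy) 1771 ncard_sextets (Set.toFinite _) sxsext_roots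
    (fun i => (sxsext_rootcheck i).goodFam) (fun i => (sxsext_rootcheck i).mem) sxsext_certs
    sxsext_sizes sxsext_check sxsext_len (by decide) h hh 138240 hc (by decide)
  rw [iUnion_fin_four] at h2
  have hroot0 : sxsext_model.sem (sxsext_roots 0) = famSet sx_base := rfl
  rw [hroot0, orbit_stabilizer_self] at h2
  refine ⟨_, smul_mem_sextets hh (sxsext_rootcheck 1).mem, _, smul_mem_sextets hh (sxsext_rootcheck 2).mem,
    _, smul_mem_sextets hh (sxsext_rootcheck 3).mem, h1 1, h1 2, h1 3, h2, ?_⟩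
  refine isCoatom_stabilizer_of_orbit_list (G := Cfsg.M24) (h • famSet sx_base)
    (fun i : Fin 3 => h • sxsext_model.sem (sxsext_roots i.succ)) ![90, 240, 1440] 1771 ?_ ?_ ?_ ?_ ?_ ?_
    (by norm_num)
  · rw [orbit_sextet hS0, ncard_sextets]
  · intro i
    fin_cases i
    · exact h1 1
    · exact h1 2
    · exact h1 3
  · rw [orbit_sextet hS0, iUnion_fin_three]
    rw [Set.union_assoc, Set.union_assoc] at h2
    rw [Set.union_assoc]
    exact h2
  · intro i j hij
    fin_cases i <;> fin_cases j <;> first | rfl | (exfalso; revert hij; decide)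
  · intro i
    fin_cases i <;> decide
  · decide

end Cfsg.Agent.S1552
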