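import Cfsg.Statements.S1559
import Cfsg.Agent.Lib.Helper28.Data5612
import Cfsg.Agent.Lib.Helper28.CertOrbits
import Cfsg.Agent.Lib.Helper28.StabCards
import Cfsg.Agent.Lib.Helper28.MaxOrbit2

set_option autoImplicit false
open scoped Pointwise
open Cfsg

namespace Cfsg.Agent.S1559

open Cfsg.Agent.Lib.Helper28


/-- A trio stabiliser has five orbits on the 3795 trios, of sizes 1, 42, 56, 1008, 2688; and the stabiliser is a maximal proper subgroup. -/
theorem result (T : Finset (Finset Cfsg.GolayPt)) (hT : T ∈ Cfsg.trios) : ∃ X₁ ∈ Cfsg.trios, ∃ X₂ ∈ Cfsg.trios, ∃ X₃ ∈ Cfsg.trios, ∃ X₄ ∈ Cfsg.trios, (MulAction.orbit ↥(MulAction.stabilizer Cfsg.M24 T) X₁).ncard = 42 ∧ (MulAction.orbit ↥(MulAction.stabilizer Cfsg.M24 T) X₂).ncard = 56 ∧ (MulAction.orbit ↥(MulAction.stabilizer Cfsg.M24 T) X₃).ncard = 1008 ∧ (MulAction.orbit ↥(MulAction.stabilizer Cfsg.M24 T) X₄).ncard = 2688 ∧ Cfsg.trios = {T} ∪ MulAction.orbit ↥(MulAction.stabilizer Cfsg.M24 T) X₁ ∪ MulAction.orbit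 ↥(MulAction.stabilizer Cfsg.M24 T) X₂ ∪ MulAction.orbit ↥(MulAction.stabilizer Cfsg.M24 T) X₃ ∪ MulAction.orbit ↥(MulAction.stabilizer Cfsg.M24 T) X₄ ∧ IsCoatom (MulAction.stabilizer Cfsg.M24 T) := by
  classical
  have hbase : famSet tr_base ∈ Cfsg.trios := tr_base_check.mem
  have hT0 := hT
  obtain ⟨h, hh, rfl⟩ := M24_trio_transitive hbase hT
  have hgens := gens_stab_fam tr_tabs tr_base tr_base_check.goodFam tr_tabs_check
  have hc := card_stabilizer_trio hT0
  obtain ⟨h1, h2⟩ := trtrio_model.orbits (famSet tr_base) tr_tabs hgens Cfsg.trios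
    (fun g hg y hy => smul_mem_trios hg hy) 3795 ncard_trios (Set.toFinite _) trtrio_roots
    (fun i => (trtrio_rootcheck i).goodFam) (fun i => (trtrio_rootcheck i).mem) trtrio_certs
    trtrio_sizes trtrio_check trtrio_len (by decide) h hh 64512 hc (by decide)
  rw [iUnion_fin_five] at h2
  have hroot0 : trtrio_model.sem (trtrio_roots 0) = famSet tr_base := rfl
  rw [hroot0, orbit_stabilizer_self] at h2
  refine ⟨_, smul_mem_trios hh (trtrio_rootcheck 1).mem, _, smul_mem_trios hh (trtrio_rootcheck 2).mem,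
    _, smul_mem_trios hh (trtrio_rootcheck 3).mem, _, smul_mem_trios hh (trtrio_rootcheck 4).mem,
    h1 1, h1 2, h1 3, h1 4, h2, ?_⟩
  refine isCoatom_stabilizer_of_orbit_list (G := Cfsg.M24) (h • famSet tr_base)
    (fun i : Fin 4 => h • trtrio_model.sem (trtrio_roots i.succ)) ![42, 56, 1008, 2688] 3795 ?_ ?_ ?_ ?_ ?_ ?_
    (by norm_num)
  · rw [orbit_trio hT0, ncard_trios]
  · intro i
    fin_cases i
    · exact h1 1
    · exact h1 2
    · exact h1 3
    · exact h1 4
  · rw [orbit_trio hT0, iUnion_fin_four]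
    rw [Set.union_assoc, Set.union_assoc, Set.union_assoc] at h2
    rw [Set.union_assoc, Set.union_assoc]
    exact h2
  · intro i j hij
    fin_cases i <;> fin_cases j <;> first | rfl | (exfalso; revert hij; decide)
  · intro i
    fin_cases i <;> decide
  · decide

end Cfsg.Agent.S1559
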