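import Cfsg.Statements.S1563
import Cfsg.Agent.Lib.Helper28.M24Multi
import Cfsg.Agent.Lib.Helper28.MaxOrbit
import Cfsg.Agent.Lib.Helper28.SubsetCount

set_option autoImplicit false
open scoped Pointwise
open Cfsg

namespace Cfsg.Agent.S1563

open Cfsg.Agent.Lib.Helper28


/-- The stabiliser of a pair of points (setwise) is a maximal proper subgroup of the group of the length-24 code. -/
theorem result (s : Finset Cfsg.GolayPt) (hs : s.card = 2) : IsCoatom (MulAction.stabilizer Cfsg.M24 s) := by
  classical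
  have hcard24 : Fintype.card Cfsg.GolayPt = 24 := rfl
  have horb : MulAction.orbit Cfsg.M24 s = {t : Finset Cfsg.GolayPt | t.card = 2 ∧ ((∅ : Finset Cfsg.GolayPt) ∩ t).card = 0} := by
    ext c
    constructor
    · rintro ⟨g, rfl⟩
      refine ⟨?_, by simp⟩
      show ((g : Equiv.Perm Cfsg.GolayPt) • s).card = 2
      rw [Finset.card_smul_finset, hs]
    · rintro ⟨hc, _⟩
      obtain ⟨g, hg, hgs⟩ := M24_exists_map_set s c (by rw [hs, hc]) (by rw [hs]; norm_num)
      exact ⟨⟨g, hg⟩, hgs⟩
  refine isCoatom_stabilizer_of_suborbits (G := Cfsg.M24) s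
    (fun i : Fin 2 => {t : Finset Cfsg.GolayPt | t.card = 2 ∧ (s ∩ t).card = ![1, 0] i})
    ![44, 231] 276 ?_ ?_ ?_ ?_ ?_ ?_ ?_ ?_
  · rw [horb, ncard_inter_card_eq _ 2 0 (by norm_num), hcard24]
    decide
  · intro i
    fin_cases i
    · show {t : Finset Cfsg.GolayPt | t.card = 2 ∧ (s ∩ t).card = 1}.ncard = 44
      rw [ncard_inter_card_eq _ 2 1 (by norm_num), hcard24, hs]
      decide
    · show {t : Finset Cfsg.GolayPt | t.card = 2 ∧ (s ∩ t).card = 0}.ncard = 231
      rw [ncard_inter_card_eq _ 2 0 (by norm_num), hcard24, hs]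
      decide
  · intro g hg
    have hc : (g • s).card = 2 := by
      show ((g : Equiv.Perm Cfsg.GolayPt) • s).card = 2
      rw [Finset.card_smul_finset, hs]
    have hle : (s ∩ g • s).card ≤ 2 := by
      rw [← hs]; exact Finset.card_le_card Finset.inter_subset_left
    have hne : (s ∩ g • s).card ≠ 2 := by
      intro h2
      have h1 : s ∩ g • s = s := Finset.eq_of_subset_of_card_le Finset.inter_subset_left
        (by rw [h2, hs])
      have h3 : s ⊆ g • s := Finset.inter_eq_left.mp h1
      exact hg (Finset.eq_of_subset_of_card_le h3 (by rw [hc, hs])).symm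
    have : (s ∩ g • s).card = 1 ∨ (s ∩ g • s).card = 0 := by omega
    rcases this with h | h
    · exact ⟨0, hc, h⟩
    · exact ⟨1, hc, h⟩
  · intro i y hy z hz
    obtain ⟨g, hg, h1, h2⟩ := M24_exists_map_pair s y s z rfl (by rw [hy.1, hz.1])
      (by rw [hy.2, hz.2]) (by
        have := Finset.card_union_le s y
        rw [hs, hy.1] at this
        omega)
    exact ⟨⟨g, hg⟩, h1, h2⟩
  · intro i hi
    have := hi.2
    rw [Finset.inter_self, hs] at this
    fin_cases i <;> simp at this
  · intro i j hij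
    rw [Set.disjoint_left]
    intro y hy hy'
    apply hij
    have := hy.2.symm.trans hy'.2
    fin_cases i <;> fin_cases j <;> simp at this <;> rfl
  · decide
  · obtain ⟨c, hc⟩ : ∃ c : Finset Cfsg.GolayPt, c.card = 2 ∧ (s ∩ c).card = 0 := by
      have : {t : Finset Cfsg.GolayPt | t.card = 2 ∧ (s ∩ t).card = 0}.Nonempty := by
        rw [← Set.ncard_pos, ncard_inter_card_eq _ 2 0 (by norm_num), hcard24, hs]
        decide
      exact this
    obtain ⟨g, hg, hgs⟩ := M24_exists_map_set s c (by rw [hs, hc.1]) (by rw [hs]; norm_num)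
    refine ⟨⟨g, hg⟩, ?_⟩
    intro h
    have h' : g • s = s := h
    rw [h'] at hgs
    have := hc.2
    rw [← hgs, Finset.inter_self, hs] at this
    norm_num at this

end Cfsg.Agent.S1563
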