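import Cfsg.Statements.S1564
import Cfsg.Agent.Lib.Helper28.ThreeSets
import Cfsg.Agent.Lib.Helper28.MaxOrbit

set_option autoImplicit false
open scoped Pointwise
open Cfsg

namespace Cfsg.Agent.S1564

open Cfsg.Agent.Lib.Helper28


/-- The stabiliser of a set of three points (setwise) is a maximal proper subgroup of the group of the length-24 code. -/
theorem result (s : Finset Cfsg.GolayPt) (hs : s.card = 3) : IsCoatom (MulAction.stabilizer Cfsg.M24 s) := by
  classical
  have hcard24 : Fintype.card Cfsg.GolayPt = 24 := rfl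
  have horb : MulAction.orbit Cfsg.M24 s = {t : Finset Cfsg.GolayPt | t.card = 3 ∧ ((∅ : Finset Cfsg.GolayPt) ∩ t).card = 0} := by
    ext c
    constructor
    · rintro ⟨g, rfl⟩
      refine ⟨?_, by simp⟩
      show ((g : Equiv.Perm Cfsg.GolayPt) • s).card = 3
      rw [Finset.card_smul_finset, hs]
    · rintro ⟨hc, _⟩
      obtain ⟨g, hg, hgs⟩ := M24_exists_map_set s c (by rw [hs, hc]) (by rw [hs]; norm_num)
      exact ⟨⟨g, hg⟩, hgs⟩
  refine isCoatom_stabilizer_of_suborbits (G := Cfsg.M24) s
    (fun i : Fin 4 => ![{t : Finset Cfsg.GolayPt | t.card = 3 ∧ (s ∩ t).card = 2},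
      {t : Finset Cfsg.GolayPt | t.card = 3 ∧ (s ∩ t).card = 1}, inOctadWith s, notInOctadWith s] i)
    ![63, 630, 210, 1120] 2024 ?_ ?_ ?_ ?_ ?_ ?_ ?_ ?_
  · rw [horb, ncard_inter_card_eq _ 3 0 (by norm_num), hcard24]
    decide
  · intro i
    fin_cases i
    · show {t : Finset Cfsg.GolayPt | t.card = 3 ∧ (s ∩ t).card = 2}.ncard = 63
      rw [ncard_inter_card_eq _ 3 2 (by norm_num), hcard24, hs]
      decide
    · show {t : Finset Cfsg.GolayPt | t.card = 3 ∧ (s ∩ t).card = 1}.ncard = 630
      rw [ncard_inter_card_eq _ 3 1 (by norm_num), hcard24, hs]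
      decide
    · exact ncard_inOctadWith hs
    · exact ncard_notInOctadWith hs
  · intro g hg
    have hc : (g • s).card = 3 := by
      show ((g : Equiv.Perm Cfsg.GolayPt) • s).card = 3
      rw [Finset.card_smul_finset, hs]
    have hle : (s ∩ g • s).card ≤ 3 := by
      rw [← hs]; exact Finset.card_le_card Finset.inter_subset_left
    have hne : (s ∩ g • s).card ≠ 3 := by
      intro h2
      have h1 : s ∩ g • s = s := Finset.eq_of_subset_of_card_le Finset.inter_subset_left
        (by rw [h2, hs])
      have h3 : s ⊆ g • s := Finset.inter_eq_left.mp h1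
      exact hg (Finset.eq_of_subset_of_card_le h3 (by rw [hc, hs])).symm
    have : (s ∩ g • s).card = 2 ∨ (s ∩ g • s).card = 1 ∨ (s ∩ g • s).card = 0 := by omega
    rcases this with h | h | h
    · exact ⟨0, hc, h⟩
    · exact ⟨1, hc, h⟩
    · have hd : Disjoint s (g • s) := by
        rw [Finset.disjoint_iff_inter_eq_empty, ← Finset.card_eq_zero]; exact h
      by_cases hex : ∃ o ∈ Cfsg.octads, s ∪ g • s ⊆ o
      · exact ⟨2, hc, hd, hex⟩
      · exact ⟨3, hc, hd, hex⟩
  · intro i y hy z hz
    fin_cases i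
    · obtain ⟨g, hg, h1, h2⟩ := M24_exists_map_pair s y s z rfl (by rw [hy.1, hz.1])
        (by rw [hy.2, hz.2]) (by
          have := Finset.card_union_add_card_inter s y
          rw [hs, hy.1, hy.2] at this
          omega)
      exact ⟨⟨g, hg⟩, h1, h2⟩
    · obtain ⟨g, hg, h1, h2⟩ := M24_exists_map_pair s y s z rfl (by rw [hy.1, hz.1])
        (by rw [hy.2, hz.2]) (by
          have := Finset.card_union_add_card_inter s y
          rw [hs, hy.1, hy.2] at this
          omega)
      exact ⟨⟨g, hg⟩, h1, h2⟩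
    · obtain ⟨g, hg, h1, h2⟩ := inOctadWith_transitive hs hy hz
      exact ⟨⟨g, hg⟩, h1, h2⟩
    · obtain ⟨g, hg, h1, h2⟩ := notInOctadWith_transitive hs hy hz
      exact ⟨⟨g, hg⟩, h1, h2⟩
  · intro i hi
    have hss : (s ∩ s).card = 3 := by rw [Finset.inter_self, hs]
    have hnd : ¬ Disjoint s s := by
      rw [Finset.disjoint_self_iff_empty]
      intro h
      rw [h] at hs
      simp at hs
    fin_cases i
    · have := hi.2; rw [hss] at this; norm_num at this
    · have := hi.2; rw [hss] at this; norm_num at this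
    · exact hnd hi.2.1
    · exact hnd hi.2.1
  · intro i j hij
    rw [Set.disjoint_left]
    intro y hy hy'
    apply hij
    have key : ∀ t : Finset Cfsg.GolayPt, Disjoint s t → (s ∩ t).card = 0 := by
      intro t ht
      rw [Finset.card_eq_zero, ← Finset.disjoint_iff_inter_eq_empty]; exact ht
    fin_cases i <;> fin_cases j <;> first
      | rfl
      | (exfalso
         first
           | (have h1 := hy.2; have h2 := hy'.2; rw [h1] at h2; norm_num at h2)
           | (have h1 := hy.2; have h2 := key y hy'.2.1; rw [h1] at h2; norm_num at h2)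
           | (have h1 := hy'.2; have h2 := key y hy.2.1; rw [h1] at h2; norm_num at h2)
           | exact hy'.2.2 hy.2.2
           | exact hy.2.2 hy'.2.2)
  · decide
  · obtain ⟨c, hc⟩ : ∃ c : Finset Cfsg.GolayPt, c ∈ inOctadWith s := by
      have : (inOctadWith s).Nonempty := by
        rw [← Set.ncard_pos, ncard_inOctadWith hs]; norm_num
      exact this
    obtain ⟨g, hg, hgs⟩ := M24_exists_map_set s c (by rw [hs, hc.1]) (by rw [hs]; norm_num)
    refine ⟨⟨g, hg⟩, ?_⟩
    intro h
    have h' : g • s = s := h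
    rw [h'] at hgs
    have := hc.2.1
    rw [← hgs, Finset.disjoint_self_iff_empty] at this
    rw [this] at hs
    simp at hs

end Cfsg.Agent.S1564
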