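import Cfsg.Statements.S1565
import Cfsg.Agent.Lib.Helper28.OctadPair
import Cfsg.Agent.Lib.Helper28.MaxOrbit

set_option autoImplicit false
open scoped Pointwise
open Cfsg

namespace Cfsg.Agent.S1565

open Cfsg.Agent.Lib.Helper28


/-- The stabiliser of an octad is a maximal proper subgroup of the group of the length-24 code. -/
theorem result (o : Finset Cfsg.GolayPt) (ho : o ∈ Cfsg.octads) : IsCoatom (MulAction.stabilizer Cfsg.M24 o) := by
  classical
  have horb : MulAction.orbit Cfsg.M24 o = Cfsg.octads := by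
    ext c
    constructor
    · rintro ⟨g, rfl⟩
      exact smul_mem_octads g.2 ho
    · intro hc
      obtain ⟨g, hg, hgo⟩ := M24_octad_transitive ho hc
      exact ⟨⟨g, hg⟩, hgo⟩
  obtain ⟨n4, n2, n0⟩ := ncard_octadsMeeting ho
  refine isCoatom_stabilizer_of_suborbits (G := Cfsg.M24) o
    (fun i : Fin 3 => octadsMeeting o (![0, 4, 2] i)) ![30, 280, 448] 759 ?_ ?_ ?_ ?_ ?_ ?_ ?_ ?_
  · rw [horb]; exact Cfsg.Agent.S0360.result
  · intro i
    fin_cases i
    · exact n0
    · exact n4
    · exact n2
  · intro g hg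
    have hgo : g • o ∈ Cfsg.octads := smul_mem_octads g.2 ho
    have hne : o ≠ g • o := fun h => hg h.symm
    rcases octad_inter_card ho hgo hne with h | h | h
    · exact ⟨0, hgo, h⟩
    · exact ⟨2, hgo, h⟩
    · exact ⟨1, hgo, h⟩
  · intro i y hy z hz
    obtain ⟨g, hg, h1, h2⟩ := octad_pair_transitive ho hy.1 ho hz.1 (hy.2.trans hz.2.symm)
    exact ⟨⟨g, hg⟩, h1, h2⟩
  · intro i hi
    have h8 : (o ∩ o).card = 8 := by rw [Finset.inter_self, octad_card ho]
    have := hi.2
    rw [h8] at this
    fin_cases i <;> simp at this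
  · intro i j hij
    rw [Set.disjoint_left]
    intro y hy hy'
    apply hij
    have := hy.2.symm.trans hy'.2
    fin_cases i <;> fin_cases j <;> simp at this <;> rfl
  · decide
  · obtain ⟨c, hc⟩ : ∃ c, c ∈ octadsMeeting o 0 := by
      have : (octadsMeeting o 0).Nonempty := by
        rw [← Set.ncard_pos, n0]; norm_num
      exact this
    obtain ⟨g, hg, hgo⟩ := M24_octad_transitive ho hc.1
    refine ⟨⟨g, hg⟩, ?_⟩
    intro h
    have h' : g • o = o := h
    rw [h'] at hgo
    have h8 : (o ∩ c).card = 8 := by rw [← hgo, Finset.inter_self, octad_card ho]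
    rw [hc.2] at h8
    norm_num at h8

end Cfsg.Agent.S1565
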