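import Cfsg.Statements.S1566
import Cfsg.Agent.Lib.Helper28.Data5617
import Cfsg.Agent.Lib.Helper28.DodecadPair
import Cfsg.Agent.Lib.Helper28.CertOrbits
import Cfsg.Agent.Lib.Helper28.MaxOrbit2

set_option autoImplicit false
open scoped Pointwise
open Cfsg

namespace Cfsg.Agent.S1566

open Cfsg.Agent.Lib.Helper28


/-- The setwise stabiliser of a dodecad together with its complement is a maximal proper subgroup of the group of the length-24 code. -/
theorem result (d : Finset Cfsg.GolayPt) (hd : d ∈ Cfsg.dodecads) : IsCoatom (MulAction.stabilizer Cfsg.M24 ({d, dᶜ} : Finset (Finset Cfsg.GolayPt))) := by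
  classical
  obtain ⟨d₀, hd₀, _, he⟩ := dp_base_check.compl_mem
  have hc := card_stabilizer_dodecadPair hd
  have horb := orbit_dodecadPair hd
  obtain ⟨h, hh, rfl⟩ := M24_dodecad_transitive hd₀ hd
  rw [← smul_compl_pair, ← he] at hc horb ⊢
  have hgens := gens_stab_fam dp_tabs dp_base dp_base_check.goodFam dp_tabs_check
  obtain ⟨h1, h2⟩ := dppair_model.orbits (famSet dp_base) dp_tabs hgens dodecadPairs
    (fun g hg y hy => smul_mem_dodecadPairs hg hy) 1288 ncard_dodecadPairs (Set.toFinite _) dppair_roots
    (fun i => (dppair_rootcheck i).goodFam) (fun i => (dppair_rootcheck i).mem) dppair_certs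
    dppair_sizes dppair_check dppair_len (by decide) h hh 190080 hc (by decide)
  rw [iUnion_fin_three] at h2
  have hroot0 : dppair_model.sem (dppair_roots 0) = famSet dp_base := rfl
  rw [hroot0, orbit_stabilizer_self] at h2
  refine isCoatom_stabilizer_of_orbit_list (G := Cfsg.M24) (h • famSet dp_base)
    (fun i : Fin 2 => h • dppair_model.sem (dppair_roots i.succ)) ![495, 792] 1288 ?_ ?_ ?_ ?_ ?_ ?_
    (by norm_num)
  · rw [horb, ncard_dodecadPairs]
  · intro i
    fin_cases i
    · exact h1 1
    · exact h1 2
  · rw [horb, h2, Set.union_assoc]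
    congr 1
    ext y
    simp only [Set.mem_union, Set.mem_iUnion]
    constructor
    · rintro (hy | hy)
      · exact ⟨0, hy⟩
      · exact ⟨1, hy⟩
    · rintro ⟨i, hy⟩
      fin_cases i
      · exact Or.inl hy
      · exact Or.inr hy
  · intro i j hij
    fin_cases i <;> fin_cases j <;> first | rfl | (exfalso; revert hij; decide)
  · intro i
    fin_cases i <;> decide
  · decide


end Cfsg.Agent.S1566
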