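import Cfsg.Statements.S1568
import Mathlib
import Cfsg.Agent.Lib.Helper4.LeechCount4

set_option autoImplicit false
open Cfsg

namespace Cfsg.Agent.S1568

/-- Shape census of the lattice vectors of sum of squares 48 (customary norm 6): the four families (2^12, 0^12), (±3^3, ±1^21), (±4, ±2^8, 0^15) and (±5, ±1^23) have 5275648, 8290304, 3108864 and 98304 members. -/
theorem result : {x : Cfsg.GolayPt → ℤ | x ∈ Cfsg.leechLattice ∧ Cfsg.sqNorm x = 48 ∧ ∀ i, x i = 0 ∨ x i = 2 ∨ x i = -2}.ncard = 5275648 ∧ {x : Cfsg.GolayPt → ℤ | x ∈ Cfsg.leechLattice ∧ Cfsg.sqNorm x = 48 ∧ ∃ i j k, i ≠ j ∧ j ≠ k ∧ i ≠ k ∧ |x i| = 3 ∧ |x j| = 3 ∧ |x k| = 3}.ncard = 8290304 ∧ {x : Cfsg.GolayPt → ℤ | x ∈ Cfsg.leechLattice ∧ Cfsg.sqNorm x = 48 ∧ ∃ i, |x i| = 4}.ncard = 3108864 ∧ {x : Cfsg.GolayPt → ℤ | x ∈ Cfsg.leechLattice ∧ Cfsg.sqNorm x = 48 ∧ ∃ i, |x i| = 5}.ncard = 98304 := by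
  refine ⟨?_, ?_, ?_, ?_⟩
  · have h := Cfsg.Agent.Helper4.LC.ncard_norm_box 48 [0, 2, -2] (by decide) 5275648 (by
      set_option maxRecDepth 1000000 in
      decide +kernel)
    have hset : {x : Cfsg.GolayPt → ℤ | x ∈ Cfsg.leechLattice ∧ Cfsg.sqNorm x = 48 ∧
          ∀ i, x i = 0 ∨ x i = 2 ∨ x i = -2} =
        {x : Cfsg.GolayPt → ℤ | x ∈ Cfsg.leechLattice ∧ Cfsg.sqNorm x = ((48 : ℕ) : ℤ) ∧
          ∀ i, x i ∈ ([0, 2, -2] : List ℤ)} := by
      ext x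
      simp
    rw [hset]; exact h
  · have h := Cfsg.Agent.Helper4.LC.ncard_norm_box 48 [-3, -1, 1, 3] (by decide) 8290304 (by
      set_option maxRecDepth 1000000 in
      decide +kernel)
    have hset : {x : Cfsg.GolayPt → ℤ | x ∈ Cfsg.leechLattice ∧ Cfsg.sqNorm x = 48 ∧
          ∃ i j k, i ≠ j ∧ j ≠ k ∧ i ≠ k ∧ |x i| = 3 ∧ |x j| = 3 ∧ |x k| = 3} =
        {x : Cfsg.GolayPt → ℤ | x ∈ Cfsg.leechLattice ∧ Cfsg.sqNorm x = ((48 : ℕ) : ℤ) ∧
          ∀ i, x i ∈ ([-3, -1, 1, 3] : List ℤ)} := by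
      ext x
      simp only [Set.mem_ofPred_eq, Nat.cast_ofNat]
      constructor
      · rintro ⟨h1, h2, h3⟩
        exact ⟨h1, h2, (Cfsg.Agent.Helper4.LC.three_threes_iff x h1 h2).mp h3⟩
      · rintro ⟨h1, h2, h3⟩
        exact ⟨h1, h2, (Cfsg.Agent.Helper4.LC.three_threes_iff x h1 h2).mpr h3⟩
    rw [hset]; exact h
  · have h := Cfsg.Agent.Helper4.LC.ncard_exists_abs 48 6 (by norm_num) 4 16773120 13664256 (by
      set_option maxRecDepth 1000000 in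
      decide +kernel) (by
      set_option maxRecDepth 1000000 in
      decide +kernel) (by norm_num)
    simpa using h
  · have h := Cfsg.Agent.Helper4.LC.ncard_exists_abs 48 6 (by norm_num) 5 16773120 16674816 (by
      set_option maxRecDepth 1000000 in
      decide +kernel) (by
      set_option maxRecDepth 1000000 in
      decide +kernel) (by norm_num)
    simpa using h

end Cfsg.Agent.S1568
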