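import Cfsg.Statements.S1571
import Mathlib
import Cfsg.Agent.Lib.Helper4.LeechStdCross

set_option autoImplicit false
open scoped Pointwise
open Cfsg

namespace Cfsg.Agent.S1571

/-- The stabiliser of the standard cross in the automorphism group of the lattice is the monomial group of the code: each of its elements acts as a signed permutation with permutation part in the code's group and sign set a codeword, and it has order 4096 · 244823040. -/
theorem result : (∀ g : ↥Cfsg.Co0, (∀ v : ↥Cfsg.leechLattice, (v : Cfsg.GolayPt → ℤ) ∈ Cfsg.stdCross → ((g • v : ↥Cfsg.leechLattice) : Cfsg.GolayPt → ℤ) ∈ Cfsg.stdCross) → ∃ f ∈ Cfsg.golayMonomialMaps, ∀ v : ↥Cfsg.leechLattice, ((g • v : ↥Cfsg.leechLattice) : Cfsg.GolayPt → ℤ) = f (v : Cfsg.GolayPt → ℤ)) ∧ Nat.card {g : ↥Cfsg.Co0 // (∀ v : ↥Cfsg.leechLattice, (v : Cfsg.GolayPt → ℤ) ∈ Cfsg.stdCross → ((g • v : ↥Cfsg.leechLattice) : Cfsg.GolayPt → ℤ) ∈ Cfsg.stdCross)} = 4096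 * 244823040 := by
  constructor
  · intro g hg
    obtain ⟨σ, hσ, w, hw, h⟩ := Cfsg.Agent.Helper4.LC.stab_monomial g hg
    exact ⟨Cfsg.signedPerm σ (Cfsg.support₂ w), ⟨σ, hσ, Cfsg.support₂ w, ⟨w, hw, rfl⟩, rfl⟩, h⟩
  · classical
    have hex : ∀ g : {g : ↥Cfsg.Co0 // (∀ v : ↥Cfsg.leechLattice, (v : Cfsg.GolayPt → ℤ) ∈ Cfsg.stdCross →
        ((g • v : ↥Cfsg.leechLattice) : Cfsg.GolayPt → ℤ) ∈ Cfsg.stdCross)},
        ∃ p : ↥Cfsg.M24 × ↥Cfsg.golayCode, ∀ v : ↥Cfsg.leechLattice,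
          ((g.1 • v : ↥Cfsg.leechLattice) : Cfsg.GolayPt → ℤ) =
            Cfsg.signedPerm p.1.1 (Cfsg.support₂ p.2.1) (v : Cfsg.GolayPt → ℤ) := by
      intro g
      obtain ⟨σ, hσ, w, hw, h⟩ := Cfsg.Agent.Helper4.LC.stab_monomial g.1 g.2
      exact ⟨(⟨σ, hσ⟩, ⟨w, hw⟩), h⟩
    choose Ψ hΨ using hex
    have hinj : Function.Injective Ψ := by
      intro g g' h
      apply Subtype.ext
      apply Subtype.ext
      apply Equiv.ext
      intro v
      apply Subtype.ext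
      have h1 := hΨ g v
      have h2 := hΨ g' v
      rw [h] at h1
      exact h1.trans h2.symm
    have hsurj : Function.Surjective Ψ := by
      rintro ⟨⟨σ, hσ⟩, ⟨w, hw⟩⟩
      obtain ⟨g, hg1, hg2⟩ := Cfsg.Agent.Helper4.LC.exists_monomial σ hσ w hw
      refine ⟨⟨g, hg1⟩, ?_⟩
      have hu := Cfsg.Agent.Helper4.LC.signedPerm_unique
        (fun v => (hΨ ⟨g, hg1⟩ v).symm.trans (hg2 v))
      apply Prod.ext
      · exact Subtype.ext hu.1
      · exact Subtype.ext (Cfsg.Agent.Lib.Helper4.eq_of_support₂_eq hu.2)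
    rw [Nat.card_congr (Equiv.ofBijective Ψ ⟨hinj, hsurj⟩), Nat.card_prod,
      Cfsg.Agent.Lib.Helper28.card_M24,
      Cfsg.Agent.Lib.Helper28.golayCode_isGolayLike.card_code]
    norm_num

end Cfsg.Agent.S1571
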