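import Cfsg.Statements.S1587
import Mathlib

set_option autoImplicit false
open Cfsg

namespace Cfsg.Agent.S1587

open Matrix

theorem bil_symm {n : Type*} [Fintype n] (B : Matrix n n ℤ) (hsymm : B.IsSymm) (x y : n → ℤ) :
    x ⬝ᵥ (B *ᵥ y) = y ⬝ᵥ (B *ᵥ x) := by
  rw [Matrix.dotProduct_mulVec, dotProduct_comm, ← Matrix.mulVec_transpose, hsymm.eq]

theorem q_add {n : Type*} [Fintype n] (B : Matrix n n ℤ) (hsymm : B.IsSymm) (x y : n → ℤ) :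
    (x + y) ⬝ᵥ (B *ᵥ (x + y)) = x ⬝ᵥ (B *ᵥ x) + 2 * (x ⬝ᵥ (B *ᵥ y)) + y ⬝ᵥ (B *ᵥ y) := by
  rw [Matrix.mulVec_add, dotProduct_add, add_dotProduct, add_dotProduct, bil_symm B hsymm y x]
  ring

theorem q_sub {n : Type*} [Fintype n] (B : Matrix n n ℤ) (hsymm : B.IsSymm) (x y : n → ℤ) :
    (x - y) ⬝ᵥ (B *ᵥ (x - y)) = x ⬝ᵥ (B *ᵥ x) - 2 * (x ⬝ᵥ (B *ᵥ y)) + y ⬝ᵥ (B *ᵥ y) := by
  rw [Matrix.mulVec_sub, dotProduct_sub, sub_dotProduct, sub_dotProduct, bil_symm B hsymm y x]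
  ring

theorem q_two_smul {n : Type*} [Fintype n] (B : Matrix n n ℤ) (z : n → ℤ) :
    ((2 : ℤ) • z) ⬝ᵥ (B *ᵥ ((2 : ℤ) • z)) = 4 * (z ⬝ᵥ (B *ᵥ z)) := by
  rw [Matrix.mulVec_smul, dotProduct_smul, smul_dotProduct]
  simp only [smul_eq_mul]
  ring

theorem result (B : Matrix (Fin 24) (Fin 24) ℤ) (hsymm : B.IsSymm) (hpos : ∀ x : Fin 24 → ℤ, x ≠ 0 → 0 < x ⬝ᵥ (B *ᵥ x)) (heven : ∀ x : Fin 24 → ℤ, (2 : ℤ) ∣ x ⬝ᵥ (B *ᵥ x)) (h2 : ∀ x : Fin 24 → ℤ, x ⬝ᵥ (B *ᵥ x) ≠ 2) (x y : Fin 24 → ℤ) (hx : x ⬝ᵥ (B *ᵥ x) = 8) (hy : y ⬝ᵥ (B *ᵥ y) = 8) (hc : ∀ i, (2 : ℤ) ∣ (x - y) i) : y = x ∨ y = -x ∨ x ⬝ᵥ (B *ᵥ y) = 0 := by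
  -- x - y = 2 z
  choose z hz using hc
  have hxy : x - y = (2 : ℤ) • z := by
    funext i
    rw [hz i]; simp
  -- x + y = 2 (z + y)
  have hxy' : x + y = (2 : ℤ) • (z + y) := by
    have : x + y = (x - y) + (2 : ℤ) • y := by
      funext i; simp; ring
    rw [this, hxy, smul_add]
  have hge : ∀ w : Fin 24 → ℤ, w ≠ 0 → 4 ≤ w ⬝ᵥ (B *ᵥ w) := by
    intro w hw
    have h1 := hpos w hw
    obtain ⟨k, hk⟩ := heven w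
    have h3 := h2 w
    omega
  by_cases hz0 : z = 0
  · left
    rw [hz0, smul_zero, sub_eq_zero] at hxy
    exact hxy.symm
  by_cases hz1 : z + y = 0
  · right; left
    rw [hz1, smul_zero] at hxy'
    exact (eq_neg_of_add_eq_zero_right hxy')
  right; right
  have e1 := q_sub B hsymm x y
  have e2 := q_add B hsymm x y
  rw [hxy, q_two_smul] at e1
  rw [hxy', q_two_smul] at e2
  have g1 := hge z hz0
  have g2 := hge (z + y) hz1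
  rw [hx, hy] at e1 e2
  omega

end Cfsg.Agent.S1587
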