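import Cfsg.Statements.S1589
import Cfsg.Agent.Lib.Helper26.M24IdxDuad
import Cfsg.Agent.Lib.Helper9.M24IdxP759
import Cfsg.Agent.Lib.Helper3.M24IdxP1771
import Cfsg.Agent.Lib.Helper15.M24IdxP253

set_option autoImplicit false
open scoped Pointwise
open Cfsg


namespace Cfsg.Agent.S1589

open MulAction Cfsg.Agent.Lib.Helper28 Cfsg.Agent.H26.M23Idx Cfsg.Agent.H26.M24Idx in
/-- the order of a subgroup of given index -/
theorem card_of_index (H : Subgroup ↥M24) (n k : ℕ) (hH : H.index = n) (hk : k * n = 244823040)
    (hn : 0 < n) : Nat.card H = k := by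
  have h := Subgroup.card_mul_index H
  rw [hH, card_M24, ← hk] at h
  exact Nat.eq_of_mul_eq_mul_right hn h

open MulAction Cfsg.Agent.Lib.Helper28 Cfsg.Agent.H26.M23Idx Cfsg.Agent.H26.M24Idx in
/-- a subgroup stabilizing the base octad is contained in its stabilizer -/
theorem le_stab_octad {H : Subgroup ↥M24} (h : ∀ h ∈ H, h • ptSet sy_O0 = ptSet sy_O0) :
    H ≤ stabilizer M24 (ptSet sy_O0) := fun k hk => mem_stabilizer_iff.mpr (h k hk)

/-- Subgroups of the group of the length-24 code of index 759, 276 and 1771 are exactly the octad, duad and sextet stabilisers, and no subgroup has index 253. -/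
theorem result : (∀ H : Subgroup ↥Cfsg.M24, H.index = 759 → ∃ o ∈ Cfsg.octads, H = MulAction.stabilizer Cfsg.M24 o) ∧ (∀ H : Subgroup ↥Cfsg.M24, H.index = 276 → ∃ s : Finset Cfsg.GolayPt, s.card = 2 ∧ H = MulAction.stabilizer Cfsg.M24 s) ∧ (∀ H : Subgroup ↥Cfsg.M24, H.index = 1771 → ∃ S ∈ Cfsg.sextets, H = MulAction.stabilizer Cfsg.M24 S) ∧ ∀ H : Subgroup ↥Cfsg.M24, H.index ≠ 253 := by
  open MulAction Cfsg.Agent.Lib.Helper28 Cfsg.Agent.H26.M23Idx Cfsg.Agent.H26.M24Idx in
  have hO : Nat.card (stabilizer M24 (ptSet sy_O0)) = 322560 :=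
    card_stabilizer_octad sy_base_check.1.mem
  refine ⟨?_, ?_, ?_, ?_⟩
  · intro H hH
    have hc := card_of_index H 759 322560 hH (by norm_num) (by norm_num)
    obtain ⟨c, H', hT, hcard, -, hback⟩ := odd_index_reduction (X := Finset GolayPt) H
      (by rw [hH]; norm_num)
    rw [hc] at hcard
    rcases stab_or_transitive hT with hst | htr
    · refine ⟨c • ptSet sy_O0, smul_mem_octads c.2 sy_base_check.1.mem, hback _ ?_⟩
      exact Subgroup.eq_of_le_of_card_ge (le_stab_octad hst) (by rw [hO, hcard])
    · exact (trans_759 H' hT hcard htr).elim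
  · intro H hH
    exact part_276 H (card_of_index H 276 887040 hH (by norm_num) (by norm_num))
  · intro H hH
    have hc := card_of_index H 1771 138240 hH (by norm_num) (by norm_num)
    obtain ⟨c, H', hT, hcard, -, hback⟩ := odd_index_reduction (X := Finset (Finset GolayPt)) H
      (by rw [hH]; norm_num)
    rw [hc] at hcard
    rcases stab_or_transitive hT with hst | htr
    · exfalso
      have hd := Subgroup.card_dvd_of_le (le_stab_octad hst)
      rw [hO, hcard] at hd
      revert hd
      norm_num
    · exact ⟨c • famSet c2b_S0, smul_mem_sextets c.2 sy_S0_mem,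
        hback _ (trans_1771 H' hT hcard htr)⟩
  · intro H hH
    have hc := card_of_index H 253 967680 hH (by norm_num) (by norm_num)
    obtain ⟨c, H', hT, hcard, -, -⟩ := odd_index_reduction (X := GolayPt) H
      (by rw [hH]; norm_num)
    rw [hc] at hcard
    rcases stab_or_transitive hT with hst | htr
    · have hd := Subgroup.card_le_of_le (le_stab_octad hst)
      rw [hO, hcard] at hd
      omega
    · exact trans_253 H' hT hcard htr

end Cfsg.Agent.S1589
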