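import Cfsg.Statements.S1604
import Cfsg.Agent.Lib.Helper28.Data1604
import Cfsg.Agent.Lib.Helper28.OctadFlags
import Cfsg.Agent.Lib.Helper28.DodecadClasses

set_option autoImplicit false
open scoped Pointwise
open Cfsg

namespace Cfsg.Agent.S1604

open Cfsg.Agent.Lib.Helper28


/-- A hexad stabiliser in the two-point stabiliser has orbits of sizes 1, 16, 60 on the 77 hexads: the 16 hexads disjoint from it and the 60 meeting it in two points. -/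
theorem result (p q : Cfsg.GolayPt) (hpq : p ≠ q) (o o' o'' : Finset Cfsg.GolayPt) (ho : o ∈ Cfsg.octads) (ho' : o' ∈ Cfsg.octads) (ho'' : o'' ∈ Cfsg.octads) (hp : p ∈ o ∧ p ∈ o' ∧ p ∈ o'') (hq : q ∈ o ∧ q ∈ o' ∧ q ∈ o'') (h : (o ∩ o').card = (o ∩ o'').card) : {x : Finset Cfsg.GolayPt | x ∈ Cfsg.octads ∧ p ∈ x ∧ q ∈ x ∧ (o ∩ x).card = 2}.ncard = 16 ∧ {x : Finset Cfsg.GolayPt | x ∈ Cfsg.octads ∧ p ∈ x ∧ q ∈ x ∧ (o ∩ x).card = 4}.ncard = 60 ∧ ∃ g : Equiv.Perm Cfsg.GolayPt, g ∈ Cfsg.M24 ∧ g p = p ∧ g q = q ∧ g • o = o ∧ g • o' = o'' := by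
  classical
  have hbase : ptSet hx_base ∈ octads := hx_base_check.mem
  have hp0 : ptN 0 ∈ ptSet hx_base := (ptN_mem_ptSet hx_base_check.1 (by norm_num)).mpr (by decide)
  have hq0 : ptN 1 ∈ ptSet hx_base := (ptN_mem_ptSet hx_base_check.1 (by norm_num)).mpr (by decide)
  have hne0 : ptN 0 ≠ ptN 1 := fun hc => absurd (ptN_inj (by norm_num) (by norm_num) hc) (by norm_num)
  obtain ⟨k, hk, rfl, rfl, rfl⟩ := M24_flag_two_transitive hbase ho hp0 hq0 hne0 hp.1 hq.1 hpq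
  have hgens := gens_stab_set_pt2 hx_tabs hx_base hx_base_check.1 0 1 (by norm_num) (by norm_num)
    hx_tabs_check
  have hval : ∀ i, (ptSet hx_base ∩ ptSet (hxoct_roots i)).card = (![8, 2, 4] : Fin 3 → ℕ) i := by
    intro i
    rw [card_inter_ptSet hx_base_check.1 (hxoct_rootcheck i).1.1]
    revert i
    decide
  obtain ⟨_, h2, h3⟩ := hxoct_model.classes_dep
    ((ptSet hx_base, ptN 0, ptN 1) : Finset GolayPt × GolayPt × GolayPt) hx_tabs hgens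
    (fun z => {y | y ∈ octads ∧ z.2.1 ∈ y ∧ z.2.2 ∈ y})
    (fun g hg z y hy => ⟨smul_mem_octads hg hy.1, Finset.smul_mem_smul_finset hy.2.1,
      Finset.smul_mem_smul_finset hy.2.2⟩) 77
    (ncard_octads_through_two hne0) (Set.toFinite _) hxoct_roots (fun i => (hxoct_rootcheck i).1.1)
    (fun i => ⟨(hxoct_rootcheck i).1.mem,
      (ptN_mem_ptSet (hxoct_rootcheck i).1.1 (by norm_num)).mpr (hxoct_rootcheck i).2.1,
      (ptN_mem_ptSet (hxoct_rootcheck i).1.1 (by norm_num)).mpr (hxoct_rootcheck i).2.2⟩)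
    hxoct_certs hxoct_sizes hxoct_check hxoct_len (by decide)
    (fun z y => (z.1 ∩ y).card) (fun g _ z y => card_smul_inter_smul g z.1 y)
    (by
      intro i j hij
      have : (![8, 2, 4] : Fin 3 → ℕ) i = (![8, 2, 4] : Fin 3 → ℕ) j := by
        rw [← hval i, ← hval j]; exact hij
      revert i j
      decide) k hk
  refine ⟨?_, ?_, ?_⟩
  · rw [show (16 : ℕ) = hxoct_sizes 1 from rfl, ← h2 1]
    congr 1
    ext y
    exact ⟨fun ⟨a, b, b', c⟩ => ⟨⟨a, b, b'⟩, c.trans (hval 1).symm⟩,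
      fun ⟨⟨a, b, b'⟩, c⟩ => ⟨a, b, b', c.trans (hval 1)⟩⟩
  · rw [show (60 : ℕ) = hxoct_sizes 2 from rfl, ← h2 2]
    congr 1
    ext y
    exact ⟨fun ⟨a, b, b', c⟩ => ⟨⟨a, b, b'⟩, c.trans (hval 2).symm⟩,
      fun ⟨⟨a, b, b'⟩, c⟩ => ⟨a, b, b', c.trans (hval 2)⟩⟩
  · obtain ⟨g, hg, hgy⟩ := h3 o' ⟨ho', hp.2.1, hq.2.1⟩ o'' ⟨ho'', hp.2.2, hq.2.2⟩ h
    obtain ⟨hgM, hgs⟩ := Subgroup.mem_inf.mp hg
    rw [MulAction.mem_stabilizer_iff, Prod.ext_iff, Prod.ext_iff] at hgs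
    exact ⟨g, hgM, hgs.2.1, hgs.2.2, hgs.1, hgy⟩


end Cfsg.Agent.S1604
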