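import Cfsg.Statements.S1605
import Cfsg.Agent.Lib.Helper28.Data1605
import Cfsg.Agent.Lib.Helper28.OctadFlags
import Cfsg.Agent.Lib.Helper28.DodecadClasses

set_option autoImplicit false
open scoped Pointwise
open Cfsg

namespace Cfsg.Agent.S1605

open Cfsg.Agent.Lib.Helper28


/-- The two-point stabiliser acts on the 176 octads through the first point avoiding the second with rank 3 and subdegrees 1, 70, 105 (intersections 8, 2, 4). -/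
theorem result (p q : Cfsg.GolayPt) (hpq : p ≠ q) : {x : Finset Cfsg.GolayPt | (x ∈ Cfsg.octads ∧ p ∈ x ∧ q ∉ x)}.ncard = 176 ∧ (∀ o o' : Finset Cfsg.GolayPt, (o ∈ Cfsg.octads ∧ p ∈ o ∧ q ∉ o) → (o' ∈ Cfsg.octads ∧ p ∈ o' ∧ q ∉ o') → ∃ g : Equiv.Perm Cfsg.GolayPt, g ∈ Cfsg.M24 ∧ g p = p ∧ g q = q ∧ g • o = o') ∧ ∀ o : Finset Cfsg.GolayPt, (o ∈ Cfsg.octads ∧ p ∈ o ∧ q ∉ o) → {x : Finset Cfsg.GolayPt | (x ∈ Cfsg.octads ∧ p ∈ x ∧ q ∉ x) ∧ (o ∩ x).card = 2}.ncard = 70 ∧ {x : Finset Cfsg.GolayPt | (x ∈ Cfsg.octads ∧ p ∈ x ∧ q ∉ x) ∧ (o ∩ x).card = 4}.ncard = 105 ∧ ∀ o' o'' : Finset Cfsg.GolayPt, (o' ∈ Cfsg.octads ∧ p ∈ o' ∧ q ∉ o') → (o'' ∈ Cfsg.octads ∧ p ∈ o'' ∧ q ∉ o'') → (o ∩ o').card = (o ∩ o'').card → ∃ g : Equiv.Perm Cfsg.GolayPt, g ∈ Cfsg.M24 ∧ g p = p ∧ g q = q ∧ g • o = o ∧ g • o' = o'' := by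
  classical
  refine ⟨ncard_octads_through_avoiding hpq, ?_, ?_⟩
  · intro o o' ho ho'
    obtain ⟨g, hg, hgo, hgp, hgq⟩ := M24_flag_antiflag_transitive ho.1 ho'.1 ho.2.1 ho.2.2 ho'.2.1 ho'.2.2
    exact ⟨g, hg, hgp, hgq, hgo⟩
  intro o hoo
  have hbase : ptSet hy_base ∈ octads := hy_base_check.mem
  have hp0 : ptN 0 ∈ ptSet hy_base := (ptN_mem_ptSet hy_base_check.1 (by norm_num)).mpr (by decide)
  have hq0 : ptN 5 ∉ ptSet hy_base := fun hc =>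
    absurd ((ptN_mem_ptSet hy_base_check.1 (by norm_num)).mp hc) (by decide)
  have hne0 : ptN 0 ≠ ptN 5 := fun hc => absurd (ptN_inj (by norm_num) (by norm_num) hc) (by norm_num)
  obtain ⟨k, hk, rfl, rfl, rfl⟩ := M24_flag_antiflag_transitive hbase hoo.1 hp0 hq0 hoo.2.1 hoo.2.2
  have hgens := gens_stab_set_pt2 hy_tabs hy_base hy_base_check.1 0 5 (by norm_num) (by norm_num)
    hy_tabs_check
  have hval : ∀ i, (ptSet hy_base ∩ ptSet (hyoct_roots i)).card = (![8, 2, 4] : Fin 3 → ℕ) i := by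
    intro i
    rw [card_inter_ptSet hy_base_check.1 (hyoct_rootcheck i).1.1]
    revert i
    decide
  obtain ⟨_, h2, h3⟩ := hyoct_model.classes_dep
    ((ptSet hy_base, ptN 0, ptN 5) : Finset GolayPt × GolayPt × GolayPt) hy_tabs hgens
    (fun z => {y | y ∈ octads ∧ z.2.1 ∈ y ∧ z.2.2 ∉ y})
    (fun g hg z y hy => ⟨smul_mem_octads hg hy.1, Finset.smul_mem_smul_finset hy.2.1,
      fun hc => hy.2.2 ((Finset.smul_mem_smul_finset_iff g).mp hc)⟩) 176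
    (ncard_octads_through_avoiding hne0) (Set.toFinite _) hyoct_roots (fun i => (hyoct_rootcheck i).1.1)
    (fun i => ⟨(hyoct_rootcheck i).1.mem,
      (ptN_mem_ptSet (hyoct_rootcheck i).1.1 (by norm_num)).mpr (hyoct_rootcheck i).2.1,
      fun hc => (hyoct_rootcheck i).2.2 ((ptN_mem_ptSet (hyoct_rootcheck i).1.1 (by norm_num)).mp hc)⟩)
    hyoct_certs hyoct_sizes hyoct_check hyoct_len (by decide)
    (fun z y => (z.1 ∩ y).card) (fun g _ z y => card_smul_inter_smul g z.1 y)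
    (by
      intro i j hij
      have : (![8, 2, 4] : Fin 3 → ℕ) i = (![8, 2, 4] : Fin 3 → ℕ) j := by
        rw [← hval i, ← hval j]; exact hij
      revert i j
      decide) k hk
  refine ⟨?_, ?_, ?_⟩
  · rw [show (70 : ℕ) = hyoct_sizes 1 from rfl, ← h2 1]
    apply congrArg Set.ncard
    ext y
    exact ⟨fun ⟨a, c⟩ => ⟨a, c.trans (hval 1).symm⟩, fun ⟨a, c⟩ => ⟨a, c.trans (hval 1)⟩⟩
  · rw [show (105 : ℕ) = hyoct_sizes 2 from rfl, ← h2 2]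
    apply congrArg Set.ncard
    ext y
    exact ⟨fun ⟨a, c⟩ => ⟨a, c.trans (hval 2).symm⟩, fun ⟨a, c⟩ => ⟨a, c.trans (hval 2)⟩⟩
  · intro o' o'' ho' ho'' he
    obtain ⟨g, hg, hgy⟩ := h3 o' ho' o'' ho'' he
    obtain ⟨hgM, hgs⟩ := Subgroup.mem_inf.mp hg
    rw [MulAction.mem_stabilizer_iff, Prod.ext_iff, Prod.ext_iff] at hgs
    exact ⟨g, hgM, hgs.2.1, hgs.2.2, hgs.1, hgy⟩


end Cfsg.Agent.S1605
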