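import Cfsg.Statements.S1607
import Cfsg.Agent.Lib.Helper28.Data1607
import Cfsg.Agent.Lib.Helper28.OctadFlags
import Cfsg.Agent.Lib.Helper28.DodecadClasses

set_option autoImplicit false
open scoped Pointwise
open Cfsg

namespace Cfsg.Agent.S1607

open Cfsg.Agent.Lib.Helper28


/-- The point stabiliser acts on the 253 heptads of its S(4, 7, 23) with rank 3 and subdegrees 1, 112, 140 (intersections 8, 2, 4). -/
theorem result (x : Cfsg.GolayPt) (o : Finset Cfsg.GolayPt) (ho : o ∈ Cfsg.octads) (hx : x ∈ o) : {o' : Finset Cfsg.GolayPt | o' ∈ Cfsg.octads ∧ x ∈ o' ∧ (o ∩ o').card = 2}.ncard = 112 ∧ {o' : Finset Cfsg.GolayPt | o' ∈ Cfsg.octads ∧ x ∈ o' ∧ (o ∩ o').card = 4}.ncard = 140 ∧ ∀ o' o'' : Finset Cfsg.GolayPt, o' ∈ Cfsg.octads → o'' ∈ Cfsg.octads → x ∈ o' → x ∈ o'' → (o ∩ o').card = (o ∩ o'').card → ∃ g : Equiv.Perm Cfsg.GolayPt, g ∈ Cfsg.M24 ∧ g x = x ∧ g • o = o ∧ g • o' = o''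 := by
  classical
  have hbase : ptSet hp_base ∈ octads := hp_base_check.mem
  have hx0 : ptN 0 ∈ ptSet hp_base := (ptN_mem_ptSet hp_base_check.1 (by norm_num)).mpr (by decide)
  obtain ⟨h, hh, rfl, rfl⟩ := M24_flag_transitive hbase ho hx0 hx
  have hgens := gens_stab_set_pt hp_tabs hp_base hp_base_check.1 0 (by norm_num) hp_tabs_check
  have hval : ∀ i, (ptSet hp_base ∩ ptSet (hpoct_roots i)).card = (![8, 2, 4] : Fin 3 → ℕ) i := by
    intro i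
    rw [card_inter_ptSet hp_base_check.1 (hpoct_rootcheck i).1.1]
    revert i
    decide
  obtain ⟨_, h2, h3⟩ := hpoct_model.classes_dep
    ((ptSet hp_base, ptN 0) : Finset GolayPt × GolayPt) hp_tabs hgens
    (fun z => {y | y ∈ octads ∧ z.2 ∈ y})
    (fun g hg z y hy => ⟨smul_mem_octads hg hy.1, Finset.smul_mem_smul_finset hy.2⟩) 253
    (ncard_octads_through _) (Set.toFinite _) hpoct_roots (fun i => (hpoct_rootcheck i).1.1)
    (fun i => ⟨(hpoct_rootcheck i).1.mem,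
      (ptN_mem_ptSet (hpoct_rootcheck i).1.1 (by norm_num)).mpr (hpoct_rootcheck i).2⟩)
    hpoct_certs hpoct_sizes hpoct_check hpoct_len (by decide)
    (fun z y => (z.1 ∩ y).card) (fun g _ z y => card_smul_inter_smul g z.1 y)
    (by
      intro i j hij
      have : (![8, 2, 4] : Fin 3 → ℕ) i = (![8, 2, 4] : Fin 3 → ℕ) j := by
        rw [← hval i, ← hval j]; exact hij
      revert i j
      decide) h hh
  refine ⟨?_, ?_, ?_⟩
  · rw [show (112 : ℕ) = hpoct_sizes 1 from rfl, ← h2 1]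
    congr 1
    ext y
    exact ⟨fun ⟨a, b, c⟩ => ⟨⟨a, b⟩, c.trans (hval 1).symm⟩, fun ⟨⟨a, b⟩, c⟩ => ⟨a, b, c.trans (hval 1)⟩⟩
  · rw [show (140 : ℕ) = hpoct_sizes 2 from rfl, ← h2 2]
    congr 1
    ext y
    exact ⟨fun ⟨a, b, c⟩ => ⟨⟨a, b⟩, c.trans (hval 2).symm⟩, fun ⟨⟨a, b⟩, c⟩ => ⟨a, b, c.trans (hval 2)⟩⟩
  · intro o' o'' ho' ho'' hxo' hxo'' he
    obtain ⟨g, hg, hgy⟩ := h3 o' ⟨ho', hxo'⟩ o'' ⟨ho'', hxo''⟩ he
    obtain ⟨hgM, hgs⟩ := Subgroup.mem_inf.mp hg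
    rw [MulAction.mem_stabilizer_iff, Prod.ext_iff] at hgs
    exact ⟨g, hgM, hgs.2, hgs.1, hgy⟩


end Cfsg.Agent.S1607
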