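import Cfsg.Statements.S1608
import Cfsg.Agent.Lib.Helper28.Data1608
import Cfsg.Agent.Lib.Helper28.OctadFlags
import Cfsg.Agent.Lib.Helper28.DodecadClasses

set_option autoImplicit false
open scoped Pointwise
open Cfsg

namespace Cfsg.Agent.S1608

open Cfsg.Agent.Lib.Helper28


/-- The point stabiliser acts on the 506 octads avoiding the point with rank 4 and subdegrees 1, 15, 210, 280, the suborbits being given by intersection size with the fixed octad. -/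
theorem result (x : Cfsg.GolayPt) (o : Finset Cfsg.GolayPt) (ho : o ∈ Cfsg.octads) (hx : x ∉ o) : {o' : Finset Cfsg.GolayPt | o' ∈ Cfsg.octads ∧ x ∉ o' ∧ (o ∩ o').card = 0}.ncard = 15 ∧ {o' : Finset Cfsg.GolayPt | o' ∈ Cfsg.octads ∧ x ∉ o' ∧ (o ∩ o').card = 4}.ncard = 210 ∧ {o' : Finset Cfsg.GolayPt | o' ∈ Cfsg.octads ∧ x ∉ o' ∧ (o ∩ o').card = 2}.ncard = 280 ∧ ∀ o' o'' : Finset Cfsg.GolayPt, o' ∈ Cfsg.octads → o'' ∈ Cfsg.octads → x ∉ o' → x ∉ o'' → (o ∩ o').card = (o ∩ o'').card → ∃ g : Equiv.Perm Cfsg.GolayPt, g ∈ Cfsg.M24 ∧ g x = x ∧ g • o = o ∧ g • o' = o'' := by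
  classical
  have hbase : ptSet hq_base ∈ octads := hq_base_check.mem
  have hx0 : ptN 5 ∉ ptSet hq_base := fun hc =>
    absurd ((ptN_mem_ptSet hq_base_check.1 (by norm_num)).mp hc) (by decide)
  obtain ⟨h, hh, rfl, rfl⟩ := M24_antiflag_transitive hbase ho hx0 hx
  have hgens := gens_stab_set_pt hq_tabs hq_base hq_base_check.1 5 (by norm_num) hq_tabs_check
  have hval : ∀ i, (ptSet hq_base ∩ ptSet (hqoct_roots i)).card = (![8, 0, 4, 2] : Fin 4 → ℕ) i := by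
    intro i
    rw [card_inter_ptSet hq_base_check.1 (hqoct_rootcheck i).1.1]
    revert i
    decide
  obtain ⟨_, h2, h3⟩ := hqoct_model.classes_dep
    ((ptSet hq_base, ptN 5) : Finset GolayPt × GolayPt) hq_tabs hgens
    (fun z => {y | y ∈ octads ∧ z.2 ∉ y})
    (fun g hg z y hy => ⟨smul_mem_octads hg hy.1,
      fun hc => hy.2 ((Finset.smul_mem_smul_finset_iff g).mp hc)⟩) 506
    (ncard_octads_avoiding _) (Set.toFinite _) hqoct_roots (fun i => (hqoct_rootcheck i).1.1)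
    (fun i => ⟨(hqoct_rootcheck i).1.mem, fun hc =>
      (hqoct_rootcheck i).2 ((ptN_mem_ptSet (hqoct_rootcheck i).1.1 (by norm_num)).mp hc)⟩)
    hqoct_certs hqoct_sizes hqoct_check hqoct_len (by decide)
    (fun z y => (z.1 ∩ y).card) (fun g _ z y => card_smul_inter_smul g z.1 y)
    (by
      intro i j hij
      have : (![8, 0, 4, 2] : Fin 4 → ℕ) i = (![8, 0, 4, 2] : Fin 4 → ℕ) j := by
        rw [← hval i, ← hval j]; exact hij
      revert i j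
      decide) h hh
  refine ⟨?_, ?_, ?_, ?_⟩
  · rw [show (15 : ℕ) = hqoct_sizes 1 from rfl, ← h2 1]
    congr 1
    ext y
    exact ⟨fun ⟨a, b, c⟩ => ⟨⟨a, b⟩, c.trans (hval 1).symm⟩, fun ⟨⟨a, b⟩, c⟩ => ⟨a, b, c.trans (hval 1)⟩⟩
  · rw [show (210 : ℕ) = hqoct_sizes 2 from rfl, ← h2 2]
    congr 1
    ext y
    exact ⟨fun ⟨a, b, c⟩ => ⟨⟨a, b⟩, c.trans (hval 2).symm⟩, fun ⟨⟨a, b⟩, c⟩ => ⟨a, b, c.trans (hval 2)⟩⟩
  · rw [show (280 : ℕ) = hqoct_sizes 3 from rfl, ← h2 3]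
    congr 1
    ext y
    exact ⟨fun ⟨a, b, c⟩ => ⟨⟨a, b⟩, c.trans (hval 3).symm⟩, fun ⟨⟨a, b⟩, c⟩ => ⟨a, b, c.trans (hval 3)⟩⟩
  · intro o' o'' ho' ho'' hxo' hxo'' he
    obtain ⟨g, hg, hgy⟩ := h3 o' ⟨ho', hxo'⟩ o'' ⟨ho'', hxo''⟩ he
    obtain ⟨hgM, hgs⟩ := Subgroup.mem_inf.mp hg
    rw [MulAction.mem_stabilizer_iff, Prod.ext_iff] at hgs
    exact ⟨g, hgM, hgs.2, hgs.1, hgy⟩


end Cfsg.Agent.S1608
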