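import Cfsg.Statements.S1609
import Cfsg.Agent.Lib.Helper26.M23IdxD

set_option autoImplicit false
open scoped Pointwise
open Cfsg

namespace Cfsg.Agent.S1609

/-- Subgroups of index 253 in the Mathieu group of degree 23 are exactly the duad stabilisers and the heptad stabilisers. -/
theorem result (x : Cfsg.GolayPt) (H : Subgroup ↥(MulAction.stabilizer Cfsg.M24 x)) (hH : H.index = 253) : (∃ s : Finset Cfsg.GolayPt, s.card = 2 ∧ x ∉ s ∧ H = (MulAction.stabilizer Cfsg.M24 s).subgroupOf (MulAction.stabilizer Cfsg.M24 x)) ∨ ∃ o ∈ Cfsg.octads, x ∈ o ∧ H = (MulAction.stabilizer Cfsg.M24 o).subgroupOf (MulAction.stabilizer Cfsg.M24 x) := by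
  open MulAction Cfsg.Agent.Lib.Helper28 Cfsg.Agent.H26.M23Idx in
  obtain ⟨m, hmx, L, hL, hmem⟩ := transport x H hH
  have h5 : ∀ l : List ℕ, (x ∈ m • ptSet l ↔ ptN 5 ∈ ptSet l) := by
    intro l
    rw [← hmx]
    exact Finset.smul_mem_smul_finset_iff m
  rcases hL with rfl | rfl
  · left
    refine ⟨m • ptSet [17, 21], ?_, ?_, ?_⟩
    · rw [Finset.card_smul_finset, card_ptSet (by decide)]
      rfl
    · rw [h5, mem_ptSet]
      rintro ⟨a, ha, hae⟩
      have ha24 : a < 24 := by
        revert a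
        decide
      have := ptN_inj ha24 (by norm_num) hae
      subst this
      revert ha
      decide
    · ext h
      rw [hmem h, Subgroup.mem_subgroupOf, mem_stabilizer_iff]
  · right
    refine ⟨m • ptSet sy_O0, smul_mem_octads m.2 sy_base_check.1.mem, ?_, ?_⟩
    · rw [h5, mem_ptSet]
      exact ⟨5, by decide, rfl⟩
    · ext h
      rw [hmem h, Subgroup.mem_subgroupOf, mem_stabilizer_iff]

end Cfsg.Agent.S1609
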