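import Cfsg.Statements.S1615
import Cfsg.Agent.Lib.Helper25.TTDxE
import Cfsg.Agent.Lib.Helper1.Cores
import Cfsg.Agent.Lib.Helper1.ThreeCycleGen
import Cfsg.Agent.S5365

set_option autoImplicit false
open Cfsg

namespace Cfsg.Agent.S1615

open Cfsg.Agent.Lib.Helper25.TTRank Cfsg.Agent.Lib.Helper25.TTFischer Cfsg.Agent.Lib.Helper27.TT
  Cfsg.Agent.Lib.Helper25.TTDx

/-- If O(⟨D_x⟩) is not central in ⟨D_x⟩ for some transposition x, the 3-transposition group is the symmetric group of degree 5. -/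
theorem result {G : Type*} [Group G] [Finite G] (hsol : ∀ N : Subgroup G, N.Normal → Group.IsSolvable ↥N → N = ⊥) (hperf : ⁅commutator G, commutator G⁆ = commutator G) {D : Set G} (hD : Cfsg.IsThreeTranspositionClass D) (x : G) (hx : x ∈ D) (h : ¬ Cfsg.oddCore ↥(Subgroup.closure {y : G | y ∈ D ∧ y ≠ x ∧ Commute x y}) ≤ Subgroup.center ↥(Subgroup.closure {y : G | y ∈ D ∧ y ≠ x ∧ Commute x y})) : Nonempty (G ≃* Equiv.Perm (Fin 5)) := by
  have hF : FHyp D := ⟨hsol, hperf, hD⟩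
  have hcen : Subgroup.center G = ⊥ := hF.center_eq_bot
  have hns : ¬ Group.IsSolvable G := hF.not_isSolvable
  have hW : FW D := ⟨fun N hN hNs => by rw [hsol N hN hNs]; exact bot_le, hperf, hD, hns⟩
  have fi : FI D := hW.toFI
  change ¬ Cfsg.oddCore ↥(X D x) ≤ Subgroup.center ↥(X D x) at h
  obtain ⟨K, hK⟩ : ∃ K : Subgroup G, K = (Cfsg.oddCore ↥(X D x)).map (X D x).subtype := ⟨_, rfl⟩
  have hK1 : K ≤ X D x := by rw [hK]; exact Subgroup.map_subtype_le _
  have hnorm : (Cfsg.oddCore ↥(X D x)).Normal := Cfsg.Agent.Lib.Helper1.pPrimeCore_normal 2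
  have hK2 : ∀ y ∈ X D x, ∀ k ∈ K, y * k * y⁻¹ ∈ K := by
    intro y hy k hk
    rw [hK, Subgroup.mem_map] at hk ⊢
    obtain ⟨k', hk', rfl⟩ := hk
    exact ⟨⟨y, hy⟩ * k' * ⟨y, hy⟩⁻¹, hnorm.conj_mem k' hk' ⟨y, hy⟩, by simp⟩
  have hcop : (Nat.card (Cfsg.oddCore ↥(X D x))).Coprime 2 :=
    Cfsg.Agent.Lib.Helper1.pPrimeCore_coprime 2
  have hK3 : ∀ k ∈ K, k * k = 1 → k = 1 := by
    intro k hk hkk
    rw [hK, Subgroup.mem_map] at hk
    obtain ⟨k', hk', rfl⟩ := hk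
    have h1 : orderOf (⟨k', hk'⟩ : ↥(Cfsg.oddCore ↥(X D x))) ∣
        Nat.card ↥(Cfsg.oddCore ↥(X D x)) := orderOf_dvd_natCard _
    have h2 : orderOf (⟨k', hk'⟩ : ↥(Cfsg.oddCore ↥(X D x))) ∣ 2 := by
      apply orderOf_dvd_of_pow_eq_one
      apply Subtype.ext
      apply Subtype.ext
      simp only [pow_two, Subgroup.coe_mul, Subgroup.coe_one]
      exact hkk
    have h3 : orderOf (⟨k', hk'⟩ : ↥(Cfsg.oddCore ↥(X D x))) = 1 :=
      (Nat.Coprime.coprime_dvd_left h1 hcop).eq_one_of_dvd h2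
    have h4 := orderOf_eq_one_iff.mp h3
    have h5 : k' = 1 := congrArg Subtype.val h4
    rw [h5]
    rfl
  have hex : ∃ k ∈ K, ∃ a ∈ Dset D x, k * a * k⁻¹ ≠ a := by
    by_contra hcon
    push Not at hcon
    apply h
    intro k' hk'
    rw [Subgroup.mem_center_iff]
    intro g
    have hkK : ((k' : ↥(X D x)) : G) ∈ K := by
      rw [hK]
      exact Subgroup.mem_map_of_mem _ hk'
    have hle : X D x ≤ Subgroup.centralizer {((k' : ↥(X D x)) : G)} := by
      unfold X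
      rw [Subgroup.closure_le]
      intro a ha
      rw [SetLike.mem_coe, Subgroup.mem_centralizer_iff]
      intro t ht
      rw [Set.mem_singleton_iff] at ht
      rw [ht]
      have h1 := hcon _ hkK a ha
      calc (k' : G) * a = ((k' : G) * a * (k' : G)⁻¹) * (k' : G) := by
            rw [inv_mul_cancel_right]
        _ = a * (k' : G) := by rw [h1]
    have h2 := hle g.2
    rw [Subgroup.mem_centralizer_iff] at h2
    have h3 := h2 _ rfl
    apply Subtype.ext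
    simp only [Subgroup.coe_mul]
    exact h3.symm
  obtain ⟨k, hk, a, ha, hne⟩ := hex
  have hlamx := lam0_at fi hx hK1 hK2 hK3 ha hk hne
  have hlam : ∀ d ∈ D, ∀ a ∈ Dset D d, ∀ p ∈ Dset D d, Commute a p → p = a := by
    intro d hd a' ha' p hp hc
    obtain ⟨g, rfl⟩ := class_trans hD x hx d hd
    rw [dset_conj fi, mem_cjs] at ha' hp
    have hc' : Commute (g⁻¹ * a' * g) (g⁻¹ * p * g) := by
      have := (Commute.conj_iff g⁻¹).mpr hc
      simpa using this
    have h1 := hlamx _ ha' _ hp hc'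
    have h2 : g⁻¹ * p * g⁻¹⁻¹ = g⁻¹ * a' * g⁻¹⁻¹ := by rw [inv_inv]; exact h1
    exact conj_inj g⁻¹ h2
  obtain ⟨hk3, -, -⟩ := params fi hlam
  have hloc : ∀ d ∈ D,
      Nonempty (↥(Subgroup.closure {y : G | y ∈ D ∧ y ≠ d ∧ Commute d y}) ≃*
        Equiv.Perm (Fin 3)) ∧
      Nat.card (Cfsg.pCore 3 ↥(Subgroup.centralizer ({d} : Set G))) = 3 := fun d hd =>
    ⟨local_s3 fi (hlam d hd) (hk3 d hd), card_pCore_three fi hcen hd hlam hk3⟩
  have hne' : D.Nonempty := by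
    obtain ⟨d, hd, -⟩ := hD.2.1
    exact ⟨d, hd⟩
  have htop : Subgroup.closure D = ⊤ := hD.2.2
  rcases Cfsg.Agent.S5365.result hD.1 (fun g d hd => fi.conj_mem g hd) hne' hloc with ⟨⟨φ⟩⟩ | ⟨⟨φ⟩⟩
  · exact ⟨(Subgroup.topEquiv.symm.trans (MulEquiv.subgroupCongr htop.symm)).trans φ⟩
  · exfalso
    apply hns
    haveI : Group.IsSolvable (Equiv.Perm (Fin 3)) :=
      Cfsg.Agent.Lib.Helper1.TCG.perm_solvable_of_card_le (Fin 3) (by simp)
    exact Group.isSolvable_of_isSolvable_injective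
      (f := ((Subgroup.topEquiv.symm.trans (MulEquiv.subgroupCongr htop.symm)).trans
        φ).toMonoidHom)
      ((Subgroup.topEquiv.symm.trans (MulEquiv.subgroupCongr htop.symm)).trans φ).injective

end Cfsg.Agent.S1615
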