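-- Statement S1631
import Cfsg.Statements.S1631
import Mathlib
import Cfsg.Agent.Lib.Helper6.SURankOne

set_option autoImplicit false
open Cfsg
namespace Cfsg.Agent.S1631

open Matrix Module Cfsg.Agent.Lib.Helper6 Cfsg.Agent.S0779 Cfsg.Agent.S0781
  Cfsg.Agent.Lib.Helper6.SUG

section
variable {F : Type*} [Field F] [Fintype F] {n : ℕ}

theorem two_eq_zero (hF : Fintype.card F = 2 ^ 2) : (2 : F) = 0 := by
  obtain ⟨p, m, hp, hc, h2⟩ := exists_char_pow hF
  haveI := hc
  have hp2 : p = 2 := by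
    have hm : m ≠ 0 := by
      rintro rfl
      simp at h2
    have : p ∣ 2 := by
      rw [h2]
      exact dvd_pow_self p hm
    exact (Nat.prime_dvd_prime_iff_eq hp Nat.prime_two).mp this
  subst hp2
  have := CharP.cast_eq_zero F 2
  exact_mod_cast this

theorem eq_one_of_trace_zero (hF : Fintype.card F = 2 ^ 2) (c : F) (hc0 : c ≠ 0)
    (hc : c ^ 2 = -c) : c = 1 := by
  have h2 := two_eq_zero hF
  have h1 : c * (c - 1) = 0 := by linear_combination hc - c * h2
  rcases mul_eq_zero.mp h1 with h | h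
  · exact absurd h hc0
  · exact sub_eq_zero.mp h

theorem one_sq (hF : Fintype.card F = 2 ^ 2) : (1 : F) ^ 2 = -1 := by
  have h2 := two_eq_zero hF
  linear_combination h2

/-- the transvection with centre `v` -/
noncomputable def tr (hF : Fintype.card F = 2 ^ 2) (v : Fin n → F) (hvv : hermForm n F 2 v v = 0) :
    ↥(Cfsg.SU n F 2) := tv hF v 1 hvv (one_sq hF)

theorem av_tr (hF : Fintype.card F = 2 ^ 2) (v : Fin n → F) (hvv : hermForm n F 2 v v = 0)
    (x : Fin n → F) : av (tr hF v hvv) x = x + hermForm n F 2 x v • v := by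
  unfold tr
  rw [av_tv, one_mul]

theorem tr_mul_self (hF : Fintype.card F = 2 ^ 2) (v : Fin n → F)
    (hvv : hermForm n F 2 v v = 0) : tr hF v hvv * tr hF v hvv = 1 := by
  have h2 := two_eq_zero hF
  apply ext_av
  intro x
  rw [av_mul, av_tr, av_tr, av_one, herm_add_left, herm_smul_left, hvv]
  ext i
  simp only [Pi.add_apply, Pi.smul_apply, smul_eq_mul]
  linear_combination (hermForm n F 2 x v * v i) * h2

theorem tr_smul (hF : Fintype.card F = 2 ^ 2) (a : F) (ha : a ≠ 0) (v : Fin n → F)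
    (hvv : hermForm n F 2 v v = 0) :
    tr hF (a • v) (by rw [herm_smul_left, herm_smul_right, hvv]; ring) = tr hF v hvv := by
  have h3 : a * a ^ 2 = 1 := by
    have := FiniteField.pow_card_sub_one_eq_one a ha
    rw [hF] at this
    norm_num at this
    rw [← this]
    ring
  apply ext_av
  intro x
  rw [av_tr, av_tr, herm_smul_right, smul_smul]
  congr 2
  linear_combination (hermForm n F 2 x v) * h3

/-- the product of two transvections with non-perpendicular centres has order three -/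
theorem tr_mul_tr_pow_three (hF : Fintype.card F = 2 ^ 2) (v w : Fin n → F)
    (hvv : hermForm n F 2 v v = 0) (hww : hermForm n F 2 w w = 0)
    (hvw : hermForm n F 2 v w = 1) : (tr hF v hvv * tr hF w hww) ^ 3 = 1 := by
  have h2 := two_eq_zero hF
  have hwv : hermForm n F 2 w v = 1 := by rw [← herm_conj hF, hvw, one_pow]
  have hstep : ∀ x, av (tr hF v hvv * tr hF w hww) x =
      x + hermForm n F 2 x w • w + (hermForm n F 2 x v + hermForm n F 2 x w) • v := by
    intro x
    rw [av_mul, av_tr, av_tr, herm_add_left, herm_smul_left, hwv, mul_one]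
  apply ext_av
  intro x
  rw [pow_succ, pow_succ, pow_one, av_mul, av_mul, hstep, hstep, hstep, av_one]
  simp only [herm_add_left, herm_smul_left, hvv, hww, hvw, hwv]
  ext i
  simp only [Pi.add_apply, Pi.smul_apply, smul_eq_mul]
  linear_combination (4 * (hermForm n F 2 x w * w i) + 4 * (hermForm n F 2 x v * v i) +
    2 * (hermForm n F 2 x v * w i) + 6 * (hermForm n F 2 x w * v i)) * h2

theorem tr_commute (hF : Fintype.card F = 2 ^ 2) (v w : Fin n → F)
    (hvv : hermForm n F 2 v v = 0) (hww : hermForm n F 2 w w = 0)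
    (hvw : hermForm n F 2 v w = 0) :
    tr hF v hvv * tr hF w hww = tr hF w hww * tr hF v hvv := by
  have hwv := herm_swap_zero hF hvw
  apply ext_av
  intro x
  rw [av_mul, av_mul, av_tr, av_tr, av_tr, av_tr, herm_add_left, herm_add_left, herm_smul_left,
    herm_smul_left, hwv, hvw]
  module

end

/-- The unitary transvections of SU(n, 2), n ≥ 4, form a generating conjugacy class of 3-transpositions. -/
theorem result (F : Type) [Field F] [Fintype F] [DecidableEq F] (hF : Fintype.card F = 4) (n : ℕ) (hn : 4 ≤ n) : Cfsg.IsThreeTranspositionClass {g : ↥(Cfsg.SU n F 2) | (((g : Matrix.SpecialLinearGroup (Fin n) F) : Matrix (Fin n) (Fin n) F) - 1).rank = 1} := by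
  have hF' : Fintype.card F = 2 ^ 2 := by rw [hF]; norm_num
  -- description of the set
  have hD : ∀ g : ↥(Cfsg.SU n F 2),
      g ∈ {g : ↥(Cfsg.SU n F 2) | (((g : Matrix.SpecialLinearGroup (Fin n) F) :
        Matrix (Fin n) (Fin n) F) - 1).rank = 1} ↔
      ∃ (v : Fin n → F) (_ : v ≠ 0) (hvv : hermForm n F 2 v v = 0), g = tr hF' v hvv := by
    intro g
    constructor
    · intro hg
      obtain ⟨v, hv, hvv, c, hc0, hc, rfl⟩ := exists_tv_of_rank_one hF' g hg
      have hc1 := eq_one_of_trace_zero hF' c hc0 hc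
      subst hc1
      exact ⟨v, hv, hvv, rfl⟩
    · rintro ⟨v, hv, hvv, rfl⟩
      exact rank_tv hF' v hv 1 one_ne_zero hvv (one_sq hF')
  refine ⟨⟨?_, ?_⟩, ?_, ?_⟩
  · intro d hd
    obtain ⟨v, hv, hvv, rfl⟩ := (hD d).mp hd
    apply orderOf_eq_prime
    · rw [pow_two]
      exact tr_mul_self hF' v hvv
    · exact tv_ne_one hF' v hv 1 one_ne_zero hvv (one_sq hF')
  · intro d hd e he
    obtain ⟨v, hv, hvv, rfl⟩ := (hD d).mp hd
    obtain ⟨w, hw, hww, rfl⟩ := (hD e).mp he
    by_cases hvw : hermForm n F 2 v w = 0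
    · left
      rw [pow_two]
      calc tr hF' v hvv * tr hF' w hww * (tr hF' v hvv * tr hF' w hww)
          = tr hF' v hvv * (tr hF' w hww * tr hF' v hvv) * tr hF' w hww := by group
        _ = tr hF' v hvv * (tr hF' v hvv * tr hF' w hww) * tr hF' w hww := by
            rw [tr_commute hF' v w hvv hww hvw]
        _ = (tr hF' v hvv * tr hF' v hvv) * (tr hF' w hww * tr hF' w hww) := by group
        _ = 1 := by rw [tr_mul_self, tr_mul_self, one_mul]
    · right
      -- rescale `w`
      obtain ⟨β, hβ⟩ : ∃ β : F, β = hermForm n F 2 v w := ⟨_, rfl⟩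
      rw [← hβ] at hvw
      have hβq : β ^ 2 ≠ 0 := pow_ne_zero _ hvw
      have hw'w' : hermForm n F 2 ((β ^ 2)⁻¹ • w) ((β ^ 2)⁻¹ • w) = 0 := by
        rw [herm_smul_left, herm_smul_right, hww]; ring
      have hvw' : hermForm n F 2 v ((β ^ 2)⁻¹ • w) = 1 := by
        rw [herm_smul_right, ← hβ, inv_pow, pow_q_q hF', inv_mul_cancel₀ hvw]
      have e : tr hF' w hww = tr hF' ((β ^ 2)⁻¹ • w) hw'w' :=
        (tr_smul hF' (β ^ 2)⁻¹ (inv_ne_zero hβq) w hww).symm
      rw [e]
      exact tr_mul_tr_pow_three hF' v _ hvv hw'w' hvw'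
  · -- a single conjugacy class
    obtain ⟨v₀, hv₀, hv₀v₀⟩ := exists_iso_vec hF' (k := n) (by omega)
    refine ⟨tr hF' v₀ hv₀v₀, (hD _).mpr ⟨v₀, hv₀, hv₀v₀, rfl⟩, ?_⟩
    ext g
    rw [hD]
    change _ ↔ IsConj _ g
    rw [isConj_iff]
    constructor
    · rintro ⟨v, hv, hvv, rfl⟩
      obtain ⟨t, -, ht⟩ := rel_iso hF' (by omega) v₀ v hv₀ hv hv₀v₀ hvv
      refine ⟨t, ?_⟩
      unfold tr
      rw [conj_tv]
      apply ext_av
      intro x
      rw [av_tv, av_tv, ht]
    · rintro ⟨t, rfl⟩
      refine ⟨av t v₀, av_ne_zero t hv₀, by rw [herm_av]; exact hv₀v₀, ?_⟩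
      unfold tr
      rw [conj_tv]
  · -- generation
    rw [eq_top_iff, ← TT_eq_top hF' n (by omega) (by omega)]
    unfold TT
    rw [Subgroup.closure_le]
    intro A hA
    rcases tvSet_cases hF' A hA with rfl | ⟨v, hv, hvv, c, hc, rfl⟩
    · exact Subgroup.one_mem _
    · by_cases hc0 : c = 0
      · subst hc0
        rw [tv_zero]
        exact Subgroup.one_mem _
      · have hc1 := eq_one_of_trace_zero hF' c hc0 hc
        subst hc1
        apply Subgroup.subset_closure
        exact (hD _).mpr ⟨v, hv, hvv, rfl⟩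
end Cfsg.Agent.S1631
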