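import Cfsg.Statements.S1635
import Cfsg.Agent.Lib.Helper28.GolayConcrete

set_option autoImplicit false
open Cfsg

namespace Cfsg.Agent.S1635

open Cfsg.Agent.Lib.Helper28 in
/-- Coset leaders of the length-24 code: a coset contains a unique word of weight ≤ 3, or else exactly six words of weight 4 and none lighter. -/
theorem result (w : Cfsg.GolayPt → ZMod 2) : ({v : Cfsg.GolayPt → ZMod 2 | hammingNorm v ≤ 4 ∧ w - v ∈ Cfsg.golayCode}.ncard = 1 ∧ ∃ v : Cfsg.GolayPt → ZMod 2, hammingNorm v ≤ 3 ∧ w - v ∈ Cfsg.golayCode) ∨ ({v : Cfsg.GolayPt → ZMod 2 | hammingNorm v ≤ 4 ∧ w - v ∈ Cfsg.golayCode}.ncard = 6 ∧ ∀ v : Cfsg.GolayPt → ZMod 2, w - v ∈ Cfsg.golayCode → hammingNorm v ≤ 4 → hammingNorm v = 4) := by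
  classical
  have hsymm : ∀ v : Cfsg.GolayPt → ZMod 2, w - v ∈ Cfsg.golayCode ↔ v - w ∈ Cfsg.golayCode := by
    intro v
    rw [← neg_sub v w]
    exact neg_mem_iff
  have hset : {v : Cfsg.GolayPt → ZMod 2 | hammingNorm v ≤ 4 ∧ w - v ∈ Cfsg.golayCode} =
      ↑(lightCoset Cfsg.golayCode w) := by
    ext v
    simp only [Set.mem_setOf_eq, Finset.mem_coe, mem_lightCoset, hsymm]
  rw [hset, Set.ncard_coe_finset]
  rcases golayCode_isGolayLike.lightCoset_structure w with ⟨u0, hu0, h3⟩ | ⟨h6, h4, -⟩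
  · left
    refine ⟨by rw [hu0, Finset.card_singleton], u0, h3, ?_⟩
    have : u0 ∈ lightCoset Cfsg.golayCode w := by rw [hu0]; exact Finset.mem_singleton_self _
    exact (hsymm u0).mpr ((mem_lightCoset w u0).mp this).2
  · right
    refine ⟨h6, fun v hv hv4 => h4 v ?_⟩
    exact (mem_lightCoset w v).mpr ⟨hv4, (hsymm v).mp hv⟩

end Cfsg.Agent.S1635
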