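import Cfsg.Statements.S1637
import Cfsg.Agent.Lib.Helper28.GolayConcrete

set_option autoImplicit false
open Cfsg

namespace Cfsg.Agent.S1637

/-- puncture at `none` -/
def punct (w : Cfsg.GolayPt → ZMod 2) : ZMod 23 → ZMod 2 := fun x => w (some x)

/-- extend by zero at `none` -/
def ext0 (u : ZMod 23 → ZMod 2) : Cfsg.GolayPt → ZMod 2 := fun p =>
  match p with
  | none => 0
  | some x => u x

theorem punct_ext0 (u : ZMod 23 → ZMod 2) : punct (ext0 u) = u := rfl

theorem punct_sub (v w : Cfsg.GolayPt → ZMod 2) : punct (v - w) = punct v - punct w := rfl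

theorem hammingNorm_option (w : Cfsg.GolayPt → ZMod 2) :
    hammingNorm w = (if w none ≠ 0 then 1 else 0) + hammingNorm (punct w) := by
  classical
  unfold hammingNorm
  rw [Finset.card_filter, Finset.card_filter, Fintype.sum_option]
  rfl

theorem dist_eq (x y : ZMod 23 → ZMod 2) : hammingDist x y = hammingNorm (x - y) := by
  unfold hammingDist hammingNorm
  congr 1
  ext i
  simp [sub_ne_zero]

theorem hammingNorm_punct_le (w : Cfsg.GolayPt → ZMod 2) :
    hammingNorm (punct w) ≤ hammingNorm w := by
  rw [hammingNorm_option w]; omega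

theorem hammingNorm_le_punct (w : Cfsg.GolayPt → ZMod 2) :
    hammingNorm w ≤ hammingNorm (punct w) + 1 := by
  rw [hammingNorm_option w]; split_ifs <;> omega

open Cfsg.Agent.Lib.Helper28 in
/-- The punctured length-23 code is a perfect 3-error-correcting code: each word of length 23 is within distance 3 of exactly one codeword. -/
theorem result (u : ZMod 23 → ZMod 2) : ∃! c : ZMod 23 → ZMod 2, c ∈ {u : ZMod 23 → ZMod 2 | ∃ w ∈ Cfsg.golayCode, ∀ x : ZMod 23, u x = w (some x)} ∧ hammingDist u c ≤ 3 := by
  classical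
  have hC := golayCode_isGolayLike
  have hmemC' : ∀ c : ZMod 23 → ZMod 2,
      c ∈ {u : ZMod 23 → ZMod 2 | ∃ w ∈ Cfsg.golayCode, ∀ x : ZMod 23, u x = w (some x)} ↔
        ∃ w ∈ Cfsg.golayCode, c = punct w := by
    intro c
    simp only [Set.mem_setOf_eq]
    constructor
    · rintro ⟨w, hw, h⟩
      exact ⟨w, hw, funext h⟩
    · rintro ⟨w, hw, rfl⟩
      exact ⟨w, hw, fun x => rfl⟩
  -- existence
  have hex : ∃ v : Cfsg.GolayPt → ZMod 2, v - ext0 u ∈ Cfsg.golayCode ∧ hammingNorm (punct v) ≤ 3 := by
    rcases hC.lightCoset_structure (ext0 u) with ⟨u0, hu0, h3⟩ | ⟨h6, h4, hdis⟩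
    · have : u0 ∈ lightCoset Cfsg.golayCode (ext0 u) := by
        rw [hu0]; exact Finset.mem_singleton_self _
      exact ⟨u0, ((mem_lightCoset _ _).mp this).2, (hammingNorm_punct_le u0).trans h3⟩
    · -- the six supports cover all 24 points
      have hcard : ((lightCoset Cfsg.golayCode (ext0 u)).biUnion bsupp).card = 24 := by
        rw [Finset.card_biUnion]
        · have : ∀ v ∈ lightCoset Cfsg.golayCode (ext0 u), (bsupp v).card = 4 := by
            intro v hv
            rw [← hammingNorm_eq_card_bsupp]; exact h4 v hv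
          rw [Finset.sum_congr rfl this, Finset.sum_const, h6]; rfl
        · intro v hv v' hv' hne
          exact hdis v hv v' hv' hne
      have huniv : (lightCoset Cfsg.golayCode (ext0 u)).biUnion bsupp = Finset.univ := by
        apply Finset.eq_univ_of_card
        rw [hcard]; rfl
      have hnone : (none : Cfsg.GolayPt) ∈ (lightCoset Cfsg.golayCode (ext0 u)).biUnion bsupp := by
        rw [huniv]; exact Finset.mem_univ _
      obtain ⟨v, hv, hvn⟩ := Finset.mem_biUnion.mp hnone
      refine ⟨v, ((mem_lightCoset _ _).mp hv).2, ?_⟩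
      have h1 := hammingNorm_option v
      rw [if_pos ((mem_bsupp v none).mp hvn), h4 v hv] at h1
      omega
  obtain ⟨v, hvC, hv3⟩ := hex
  refine ⟨punct (ext0 u - v), ⟨(hmemC' _).mpr ⟨ext0 u - v, ?_, rfl⟩, ?_⟩, ?_⟩
  · rw [← neg_sub v (ext0 u)]; exact neg_mem hvC
  · rw [dist_eq]
    have : u - punct (ext0 u - v) = punct v := by
      rw [punct_sub, punct_ext0]; abel
    rw [this]; exact hv3
  · rintro c' ⟨hc'mem, hc'd⟩
    obtain ⟨w', hw', rfl⟩ := (hmemC' c').mp hc'mem
    -- the difference of the two lifts has weight < 8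
    set w := ext0 u - v with hw
    have hwC : w ∈ Cfsg.golayCode := by
      rw [hw, ← neg_sub v (ext0 u)]; exact neg_mem hvC
    have hd : hammingDist u (punct w) ≤ 3 := by
      rw [dist_eq]
      have : u - punct w = punct v := by
        rw [hw, punct_sub, punct_ext0]; abel
      rw [this]; exact hv3
    have htri : hammingDist (punct w') (punct w) ≤ 6 := by
      have h1 := hammingDist_triangle (punct w') u (punct w)
      rw [hammingDist_comm (punct w') u] at h1
      omega
    rw [dist_eq, ← punct_sub] at htri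
    have h7 : hammingNorm (w' - w) ≤ 7 := (hammingNorm_le_punct _).trans (by omega)
    by_contra hne
    have hne' : w' - w ≠ 0 := by
      intro h0
      apply hne
      rw [sub_eq_zero.mp h0]
    have h8 := hC.minw (w' - w) (sub_mem hw' hwC) hne'
    omega

end Cfsg.Agent.S1637
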