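import Cfsg.Statements.S1636
import Cfsg.Agent.S1637
import Cfsg.Agent.S0360
import Cfsg.Agent.S0361
import Cfsg.Agent.Lib.Helper3.Dodecad
import Cfsg.Agent.Lib.Helper28.Octads

set_option autoImplicit false
open Cfsg

namespace Cfsg.Agent.S1636

open Cfsg.Agent.S1637 Cfsg.Agent.Lib.Helper28

/-- Golay words of weight `k` with prescribed value at the extra point -/
def T (k : ℕ) (e : ZMod 2) : Set (GolayPt → ZMod 2) :=
  {w | w ∈ golayCode ∧ hammingNorm w = k ∧ w none = e}

/-- Golay words of weight `k` -/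
def W (k : ℕ) : Set (GolayPt → ZMod 2) := {w | w ∈ golayCode ∧ hammingNorm w = k}

theorem one_mem : (1 : GolayPt → ZMod 2) ∈ golayCode :=
  Submodule.subset_span (Or.inr rfl)

theorem bsupp_one : bsupp (1 : GolayPt → ZMod 2) = Finset.univ := by
  ext i
  simp [mem_bsupp]

theorem hammingNorm_one_add (w : GolayPt → ZMod 2) : hammingNorm (1 + w) = 24 - hammingNorm w := by
  have h := hammingNorm_add (1 : GolayPt → ZMod 2) w
  rw [bsupp_one, Finset.univ_inter, ← hammingNorm_eq_card_bsupp] at h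
  have h1 : hammingNorm (1 : GolayPt → ZMod 2) = 24 := by
    rw [hammingNorm_eq_card_bsupp, bsupp_one]; rfl
  have h2 : hammingNorm w ≤ 24 := by
    rw [hammingNorm_eq_card_bsupp]
    exact (Finset.card_le_univ _).trans (le_of_eq rfl)
  omega

theorem one_add_one_add (w : GolayPt → ZMod 2) : 1 + (1 + w) = w := by
  ext i
  simp only [Pi.add_apply, Pi.one_apply]
  generalize w i = x
  revert x; decide

theorem ncard_T_comp (k : ℕ) (hk : k ≤ 24) (e : ZMod 2) :
    (T (24 - k) (1 + e)).ncard = (T k e).ncard := by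
  have himg : (fun w : GolayPt → ZMod 2 => 1 + w) '' T k e = T (24 - k) (1 + e) := by
    ext v
    simp only [Set.mem_image, T, Set.mem_setOf_eq]
    constructor
    · rintro ⟨w, ⟨hw, hk', he⟩, rfl⟩
      refine ⟨Submodule.add_mem _ one_mem hw, ?_, ?_⟩
      · rw [hammingNorm_one_add, hk']
      · simp [he]
    · rintro ⟨hv, hk', he⟩
      refine ⟨1 + v, ⟨Submodule.add_mem _ one_mem hv, ?_, ?_⟩, one_add_one_add v⟩
      · rw [hammingNorm_one_add, hk']; omega
      · simp only [Pi.add_apply, Pi.one_apply, he]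
        generalize e = x
        revert x; decide
  rw [← himg]
  apply Set.ncard_image_of_injective
  intro a b hab
  exact add_left_cancel hab

theorem W_eq_union (k : ℕ) : W k = T k 0 ∪ T k 1 := by
  ext w
  simp only [W, T, Set.mem_setOf_eq, Set.mem_union]
  constructor
  · rintro ⟨h1, h2⟩
    have h3 : w none = 0 ∨ w none = 1 := by
      generalize w none = x
      revert x; decide
    rcases h3 with h3 | h3
    · exact Or.inl ⟨h1, h2, h3⟩
    · exact Or.inr ⟨h1, h2, h3⟩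
  · rintro (⟨h1, h2, _⟩ | ⟨h1, h2, _⟩) <;> exact ⟨h1, h2⟩

theorem T_disjoint (k : ℕ) : Disjoint (T k 0) (T k 1) := by
  rw [Set.disjoint_left]
  rintro w ⟨_, _, h0⟩ ⟨_, _, h1⟩
  rw [h0] at h1
  exact absurd h1 (by decide)

theorem ncard_W (k : ℕ) : (W k).ncard = (T k 0).ncard + (T k 1).ncard := by
  rw [W_eq_union, Set.ncard_union_eq (T_disjoint k) (Set.toFinite _) (Set.toFinite _)]

theorem ncard_W8 : (W 8).ncard = 759 := by
  have himg : bsupp '' W 8 = octads := by
    ext o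
    rw [mem_octads_iff]
    simp only [Set.mem_image, W, Set.mem_setOf_eq, IsOctadSet]
    constructor
    · rintro ⟨w, ⟨hw, hk⟩, rfl⟩
      rw [bind_bsupp, ← hammingNorm_eq_card_bsupp]
      exact ⟨hw, hk⟩
    · rintro ⟨h1, h2⟩
      refine ⟨bind o, ⟨h1, ?_⟩, bsupp_bind o⟩
      rw [hammingNorm_eq_card_bsupp, bsupp_bind, h2]
  rw [← Cfsg.Agent.S0360.result, ← himg]
  exact (Set.ncard_image_of_injective _ bsupp_injective).symm

theorem ncard_W12 : (W 12).ncard = 2576 := by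
  have himg : bsupp '' W 12 = dodecads := by
    ext o
    rw [mem_dodecads_iff]
    simp only [Set.mem_image, W, Set.mem_setOf_eq]
    constructor
    · rintro ⟨w, ⟨hw, hk⟩, rfl⟩
      rw [bind_bsupp, ← hammingNorm_eq_card_bsupp]
      exact ⟨hw, hk⟩
    · rintro ⟨h1, h2⟩
      refine ⟨bind o, ⟨h1, ?_⟩, bsupp_bind o⟩
      rw [hammingNorm_eq_card_bsupp, bsupp_bind, h2]
  rw [← Cfsg.Agent.S0361.result, ← himg]
  exact (Set.ncard_image_of_injective _ bsupp_injective).symm

open Cfsg.Agent.Lib.Helper3.Steiner in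
theorem ncard_T81 : (T 8 1).ncard = 253 := by
  classical
  have himg : bsupp '' T 8 1 =
      ((blocksF octads).filter (({none} : Finset GolayPt) ⊆ ·) : Finset (Finset GolayPt)) := by
    ext o
    simp only [Set.mem_image, T, Set.mem_setOf_eq, Finset.coe_filter, mem_blocksF,
      Finset.singleton_subset_iff]
    rw [mem_octads_iff]
    simp only [IsOctadSet]
    constructor
    · rintro ⟨w, ⟨hw, hk, he⟩, rfl⟩
      rw [bind_bsupp, ← hammingNorm_eq_card_bsupp, mem_bsupp, he]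
      exact ⟨⟨hw, hk⟩, by decide⟩
    · rintro ⟨⟨h1, h2⟩, h3⟩
      refine ⟨bind o, ⟨h1, ?_, ?_⟩, bsupp_bind o⟩
      · rw [hammingNorm_eq_card_bsupp, bsupp_bind, h2]
      · simp [Cfsg.Agent.Lib.Helper28.bind, h3]
  have h1 := Set.ncard_image_of_injective (T 8 1) bsupp_injective
  rw [himg, Set.ncard_coe_finset, octads_lam1 _ (Finset.card_singleton _)] at h1
  exact h1.symm

theorem ncard_T80 : (T 8 0).ncard = 506 := by
  have h := ncard_W 8
  rw [ncard_W8, ncard_T81] at h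
  omega

theorem ncard_T160 : (T 16 0).ncard = 253 := by
  have h := ncard_T_comp 8 (by norm_num) 1
  rw [ncard_T81] at h
  exact h

theorem ncard_T161 : (T 16 1).ncard = 506 := by
  have h := ncard_T_comp 8 (by norm_num) 0
  rw [ncard_T80] at h
  exact h

theorem ncard_T12 : (T 12 0).ncard = 1288 ∧ (T 12 1).ncard = 1288 := by
  have h := ncard_W 12
  rw [ncard_W12] at h
  have h1 : (T 12 1).ncard = (T 12 0).ncard := ncard_T_comp 12 (by norm_num) 0
  omega

theorem punct_injOn : Set.InjOn punct (golayCode : Set (GolayPt → ZMod 2)) := by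
  intro w hw w' hw' h
  have hC := golayCode_isGolayLike
  by_contra hne
  have hsub : w - w' ∈ golayCode := Submodule.sub_mem _ hw hw'
  have h0 : w - w' ≠ 0 := sub_ne_zero.mpr hne
  have h8 := hC.minw _ hsub h0
  have h1 := hammingNorm_le_punct (w - w')
  rw [punct_sub, h, sub_self, hammingNorm_zero] at h1
  omega

/-- the punctured code -/
def P : Set (ZMod 23 → ZMod 2) := {u | ∃ w ∈ golayCode, ∀ x : ZMod 23, u x = w (some x)}

theorem P_eq : P = punct '' (golayCode : Set (GolayPt → ZMod 2)) := by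
  ext u
  simp only [P, Set.mem_setOf_eq, Set.mem_image, SetLike.mem_coe]
  constructor
  · rintro ⟨w, hw, h⟩
    exact ⟨w, hw, (funext h).symm⟩
  · rintro ⟨w, hw, rfl⟩
    exact ⟨w, hw, fun x => rfl⟩

theorem ncard_P : P.ncard = 4096 := by
  rw [P_eq, punct_injOn.ncard_image]
  have hC := golayCode_isGolayLike
  have h1 := Module.natCard_eq_pow_finrank (K := ZMod 2) (V := ↥golayCode)
  rw [hC.dim, Nat.card_zmod] at h1
  have h2 : Nat.card ↥golayCode = (golayCode : Set (GolayPt → ZMod 2)).ncard := rfl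
  rw [← h2, h1]
  norm_num

theorem Pj_eq (j : ℕ) : {u | u ∈ P ∧ hammingNorm u = j} =
    punct '' {w | w ∈ golayCode ∧ hammingNorm (punct w) = j} := by
  ext u
  rw [P_eq]
  simp only [Set.mem_setOf_eq, Set.mem_image, SetLike.mem_coe]
  constructor
  · rintro ⟨⟨w, hw, rfl⟩, hj⟩
    exact ⟨w, ⟨hw, hj⟩, rfl⟩
  · rintro ⟨w, ⟨hw, hj⟩, rfl⟩
    exact ⟨⟨w, hw, rfl⟩, hj⟩

theorem zmod2_cases (x : ZMod 2) : x = 0 ∨ x = 1 := by
  revert x; decide

theorem pre_odd (j : ℕ) (hj : j % 4 = 3) :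
    {w | w ∈ golayCode ∧ hammingNorm (punct w) = j} = T (j + 1) 1 := by
  have hC := golayCode_isGolayLike
  ext w
  simp only [Set.mem_setOf_eq, T]
  constructor
  · rintro ⟨hw, h⟩
    have h4 := hC.doubly_even w hw
    have h1 := hammingNorm_option w
    rw [h] at h1
    rcases zmod2_cases (w none) with h0 | h0
    · exfalso
      rw [if_neg (by rw [h0]; simp)] at h1
      omega
    · rw [if_pos (by rw [h0]; decide)] at h1
      exact ⟨hw, by omega, h0⟩
  · rintro ⟨hw, h, h0⟩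
    have h1 := hammingNorm_option w
    rw [if_pos (by rw [h0]; decide)] at h1
    exact ⟨hw, by omega⟩

theorem pre_even (j : ℕ) (hj : j % 4 = 0) :
    {w | w ∈ golayCode ∧ hammingNorm (punct w) = j} = T j 0 := by
  have hC := golayCode_isGolayLike
  ext w
  simp only [Set.mem_setOf_eq, T]
  constructor
  · rintro ⟨hw, h⟩
    have h4 := hC.doubly_even w hw
    have h1 := hammingNorm_option w
    rw [h] at h1
    rcases zmod2_cases (w none) with h0 | h0
    · rw [if_neg (by rw [h0]; simp)] at h1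
      exact ⟨hw, by omega, h0⟩
    · exfalso
      rw [if_pos (by rw [h0]; decide)] at h1
      omega
  · rintro ⟨hw, h, h0⟩
    have h1 := hammingNorm_option w
    rw [if_neg (by rw [h0]; simp)] at h1
    exact ⟨hw, by omega⟩

theorem T_subset (k : ℕ) (e : ZMod 2) : T k e ⊆ (golayCode : Set (GolayPt → ZMod 2)) :=
  fun _ hw => hw.1

theorem ncard_Pj_odd (j : ℕ) (hj : j % 4 = 3) :
    {u | u ∈ P ∧ hammingNorm u = j}.ncard = (T (j + 1) 1).ncard := by
  rw [Pj_eq, pre_odd j hj, (punct_injOn.mono (T_subset _ _)).ncard_image]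

theorem ncard_Pj_even (j : ℕ) (hj : j % 4 = 0) :
    {u | u ∈ P ∧ hammingNorm u = j}.ncard = (T j 0).ncard := by
  rw [Pj_eq, pre_even j hj, (punct_injOn.mono (T_subset _ _)).ncard_image]

/-- The punctured length-23 code has weight distribution 0^1 7^253 8^506 11^1288 12^1288 15^506 16^253 23^1. -/
theorem result : {u : ZMod 23 → ZMod 2 | ∃ w ∈ Cfsg.golayCode, ∀ x : ZMod 23, u x = w (some x)}.ncard = 4096 ∧ {u : ZMod 23 → ZMod 2 | u ∈ {u : ZMod 23 → ZMod 2 | ∃ w ∈ Cfsg.golayCode, ∀ x : ZMod 23, u x = w (some x)} ∧ hammingNorm u = 7}.ncard = 253 ∧ {u : ZMod 23 → ZMod 2 | u ∈ {u : ZMod 23 → ZMod 2 | ∃ w ∈ Cfsg.golayCode, ∀ x : ZMod 23, u x = w (some x)} ∧ hammingNorm u = 8}.ncard = 506 ∧ {u : ZMod 23 → ZMod 2 | u ∈ {u : ZMod 23 → ZMod 2 | ∃ w ∈ Cfsg.golayCode, ∀ x : ZMod 23, u x = w (some x)} ∧ hammingNorm u = 11}.ncard = 1288 ∧ {u : ZMod 23 → ZMod 2 | u ∈ {u : ZMod 23 → ZMod 2 | ∃ w ∈ Cfsg.golayCode, ∀ x : ZMod 23, u x = w (some x)} ∧ hammingNorm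 u = 12}.ncard = 1288 ∧ {u : ZMod 23 → ZMod 2 | u ∈ {u : ZMod 23 → ZMod 2 | ∃ w ∈ Cfsg.golayCode, ∀ x : ZMod 23, u x = w (some x)} ∧ hammingNorm u = 15}.ncard = 506 ∧ {u : ZMod 23 → ZMod 2 | u ∈ {u : ZMod 23 → ZMod 2 | ∃ w ∈ Cfsg.golayCode, ∀ x : ZMod 23, u x = w (some x)} ∧ hammingNorm u = 16}.ncard = 253 ∧ ∀ u ∈ {u : ZMod 23 → ZMod 2 | ∃ w ∈ Cfsg.golayCode, ∀ x : ZMod 23, u x = w (some x)}, u ≠ 0 → 7 ≤ hammingNorm u := by
  refine ⟨ncard_P, ?_, ?_, ?_, ?_, ?_, ?_, ?_⟩
  · exact (ncard_Pj_odd 7 (by norm_num)).trans ncard_T81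
  · exact (ncard_Pj_even 8 (by norm_num)).trans ncard_T80
  · exact (ncard_Pj_odd 11 (by norm_num)).trans ncard_T12.2
  · exact (ncard_Pj_even 12 (by norm_num)).trans ncard_T12.1
  · exact (ncard_Pj_odd 15 (by norm_num)).trans ncard_T161
  · exact (ncard_Pj_even 16 (by norm_num)).trans ncard_T160
  · intro u hu hu0
    have hC := golayCode_isGolayLike
    obtain ⟨w, hw, h⟩ := hu
    have hpu : u = punct w := funext h
    have hw0 : w ≠ 0 := by
      rintro rfl
      apply hu0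
      rw [hpu]
      rfl
    have h8 := hC.minw w hw hw0
    have h1 := hammingNorm_le_punct w
    rw [hpu]
    omega

end Cfsg.Agent.S1636
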