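import Cfsg.Statements.S1638
import Cfsg.Agent.Lib.Helper28.Duads

set_option autoImplicit false
open scoped Pointwise
open Cfsg

namespace Cfsg.Agent.S1638

open Cfsg.Agent.Lib.Helper28


/-- Fix two points p ≠ q and a pair s of two further points. Among the pairs avoiding p, q and disjoint from s, exactly 30 lie in an octad together with p, q and s and exactly 160 do not; and any two pairs other than s that meet s in equally many points and agree on that octad property are carried to one another by an element of the group of the length-24 code fixing p, q and s. -/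
theorem result (p q : Cfsg.GolayPt) (hpq : p ≠ q) (s : Finset Cfsg.GolayPt) (hs : (s.card = 2 ∧ p ∉ s ∧ q ∉ s)) : {t : Finset Cfsg.GolayPt | (t.card = 2 ∧ p ∉ t ∧ q ∉ t) ∧ Disjoint s t ∧ (∃ o ∈ Cfsg.octads, p ∈ o ∧ q ∈ o ∧ s ∪ t ⊆ o)}.ncard = 30 ∧ {t : Finset Cfsg.GolayPt | (t.card = 2 ∧ p ∉ t ∧ q ∉ t) ∧ Disjoint s t ∧ ¬ (∃ o ∈ Cfsg.octads, p ∈ o ∧ q ∈ o ∧ s ∪ t ⊆ o)}.ncard = 160 ∧ ∀ t t' : Finset Cfsg.GolayPt, (t.card = 2 ∧ p ∉ t ∧ q ∉ t) → (t'.card = 2 ∧ p ∉ t' ∧ q ∉ t') → t ≠ s → t' ≠ s → (s ∩ t).card = (s ∩ t').card → ((∃ o ∈ Cfsg.octads, p ∈ o ∧ q ∈ o ∧ s ∪ t ⊆ o) ↔ (∃ o ∈ Cfsg.octads, p ∈ o ∧ q ∈ o ∧ s ∪ t' ⊆ o)) → ∃ g : Equiv.Perm Cfsg.GolayPt, g ∈ Cfsg.M24 ∧ g p = p ∧ g q = q ∧ g • s = s ∧ g • t = t' := by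
  classical
  obtain ⟨hs2, hps, hqs⟩ := hs
  obtain ⟨a, b, hab, rfl⟩ := Finset.card_eq_two.mp hs2
  have hpa : p ≠ a := fun h => hps (by rw [h]; simp)
  have hpb : p ≠ b := fun h => hps (by rw [h]; simp)
  have hqa : q ≠ a := fun h => hqs (by rw [h]; simp)
  have hqb : q ≠ b := fun h => hqs (by rw [h]; simp)
  have hne : ∀ i j, i < 24 → j < 24 → i ≠ j → ptN i ≠ ptN j := fun i j hi hj hij hc =>
    hij (ptN_inj hi hj hc)
  obtain ⟨k, hk, hmap⟩ := M24_exists_map_list [ptN 2, ptN 3, ptN 0, ptN 1] [a, b, p, q]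
    (by
      simp only [List.nodup_cons, List.mem_cons, List.not_mem_nil, or_false, not_or,
        not_false_eq_true, List.nodup_nil, and_true]
      exact ⟨⟨hne 2 3 (by norm_num) (by norm_num) (by norm_num),
        hne 2 0 (by norm_num) (by norm_num) (by norm_num),
        hne 2 1 (by norm_num) (by norm_num) (by norm_num)⟩,
        ⟨hne 3 0 (by norm_num) (by norm_num) (by norm_num),
        hne 3 1 (by norm_num) (by norm_num) (by norm_num)⟩,
        hne 0 1 (by norm_num) (by norm_num) (by norm_num)⟩)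
    (by
      simp only [List.nodup_cons, List.mem_cons, List.not_mem_nil, or_false, not_or,
        not_false_eq_true, List.nodup_nil, and_true]
      exact ⟨⟨hab, hpa.symm, hqa.symm⟩, ⟨hpb.symm, hqb.symm⟩, hpq⟩) rfl (by simp)
  simp only [List.map_cons, List.map_nil, List.cons.injEq, and_true] at hmap
  obtain ⟨e2, e3, e0, e1⟩ := hmap
  have hZ : k • du_Z = (({a, b} : Finset Cfsg.GolayPt), p, q) := by
    have hb : ptSet du_base = {ptN 2, ptN 3} := by
      ext x
      simp [ptSet, du_base]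
    show (k • ptSet du_base, k (ptN 0), k (ptN 1)) = _
    rw [hb, Finset.smul_finset_insert, Finset.smul_finset_singleton, e0, e1]
    show (({k (ptN 2), k (ptN 3)} : Finset Cfsg.GolayPt), p, q) = _
    rw [e2, e3]
  have hgens := gens_stab_set_pt2 du_tabs du_base du_base_check.1 0 1 (by norm_num) (by norm_num)
    du_tabs_check
  have hne01 : ptN 0 ≠ ptN 1 := hne 0 1 (by norm_num) (by norm_num) (by norm_num)
  obtain ⟨_, h2, h3⟩ := dudu_model.classes_dep du_Z du_tabs hgens duadF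
    (fun g _ z y hy => duadF_smul z y hy) 231 (ncard_duadF du_Z hne01) (Set.toFinite _)
    dudu_roots (fun i => (dudu_rootcheck i).1)
    (fun i => ⟨by show (ptSet (dudu_roots i)).card = 2; rw [card_ptSet (dudu_rootcheck i).1]; exact (dudu_rootcheck i).2.1,
      fun hc => (dudu_rootcheck i).2.2.1 ((ptN_mem_ptSet (dudu_rootcheck i).1 (by norm_num)).mp hc),
      fun hc => (dudu_rootcheck i).2.2.2 ((ptN_mem_ptSet (dudu_rootcheck i).1 (by norm_num)).mp hc)⟩)
    dudu_certs dudu_sizes dudu_check dudu_len (by decide) duadInv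
    (fun g hg z y => duadInv_smul hg z y)
    (by
      intro i j hij
      apply dudu_inv_injective
      rw [← dudu_inv_eq i, ← dudu_inv_eq j]
      exact hij) k hk
  rw [hZ] at h2 h3
  have key : ∀ (t : Finset Cfsg.GolayPt) (i : Fin 4),
      duadInv (({a, b} : Finset Cfsg.GolayPt), p, q) t = duadInv du_Z (dudu_model.sem (dudu_roots i)) ↔
      (({a, b} : Finset Cfsg.GolayPt) ∩ t).card = (dudu_inv i).1 ∧
        ((∃ o ∈ Cfsg.octads, p ∈ o ∧ q ∈ o ∧ {a, b} ∪ t ⊆ o) ↔ (dudu_inv i).2 = true) := by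
    intro t i
    have : duadInv du_Z (dudu_model.sem (dudu_roots i)) = dudu_inv i := dudu_inv_eq i
    rw [this]
    exact duadInv_eq_iff _ t _ _
  refine ⟨?_, ?_, ?_⟩
  · rw [show (30 : ℕ) = dudu_sizes 2 from rfl, ← h2 2]
    apply congrArg Set.ncard
    ext t
    simp only [Set.mem_setOf_eq]
    rw [key t 2]
    constructor
    · rintro ⟨hF, hd, ho⟩
      refine ⟨hF, ?_, fun _ => rfl, fun _ => ho⟩
      rw [Finset.disjoint_iff_inter_eq_empty] at hd
      rw [hd]; rfl
    · rintro ⟨hF, hc, ho⟩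
      refine ⟨hF, ?_, ho.mpr rfl⟩
      rw [Finset.disjoint_iff_inter_eq_empty, ← Finset.card_eq_zero]
      exact hc
  · rw [show (160 : ℕ) = dudu_sizes 3 from rfl, ← h2 3]
    apply congrArg Set.ncard
    ext t
    simp only [Set.mem_setOf_eq]
    rw [key t 3]
    constructor
    · rintro ⟨hF, hd, ho⟩
      refine ⟨hF, ?_, fun h => absurd h ho, fun h => by simp [dudu_inv] at h⟩
      rw [Finset.disjoint_iff_inter_eq_empty] at hd
      rw [hd]; rfl
    · rintro ⟨hF, hc, ho⟩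
      refine ⟨hF, ?_, fun h => by simpa [dudu_inv] using ho.mp h⟩
      rw [Finset.disjoint_iff_inter_eq_empty, ← Finset.card_eq_zero]
      exact hc
  · intro t t' ht ht' _ _ hcard hiff
    have hinv : duadInv (({a, b} : Finset Cfsg.GolayPt), p, q) t =
        duadInv (({a, b} : Finset Cfsg.GolayPt), p, q) t' := by
      unfold duadInv
      rw [Prod.mk.injEq, decide_eq_decide]
      exact ⟨hcard, hiff⟩
    obtain ⟨g, hg, hgy⟩ := h3 t ht t' ht' hinv
    obtain ⟨hgM, hgs⟩ := Subgroup.mem_inf.mp hg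
    rw [MulAction.mem_stabilizer_iff, Prod.ext_iff, Prod.ext_iff] at hgs
    exact ⟨g, hgM, hgs.2.1, hgs.2.2, hgs.1, hgy⟩


end Cfsg.Agent.S1638
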