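import Cfsg.Statements.S1639
import Cfsg.Agent.Lib.Helper28.Data1639
import Cfsg.Agent.Lib.Helper28.DodecadFlags
import Cfsg.Agent.Lib.Helper28.DodecadClasses

set_option autoImplicit false
open scoped Pointwise
open Cfsg

namespace Cfsg.Agent.S1639

open Cfsg.Agent.Lib.Helper28


/-- The point stabiliser acts on the 1288 dodecads through the point with rank 4 and subdegrees 1, 165, 330, 792, distinguished by intersection 4, 8, 6 with the fixed dodecad. -/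
theorem result (x : Cfsg.GolayPt) (d : Finset Cfsg.GolayPt) (hd : d ∈ Cfsg.dodecads) (hx : x ∈ d) : {d' : Finset Cfsg.GolayPt | d' ∈ Cfsg.dodecads ∧ x ∈ d' ∧ (d ∩ d').card = 4}.ncard = 165 ∧ {d' : Finset Cfsg.GolayPt | d' ∈ Cfsg.dodecads ∧ x ∈ d' ∧ (d ∩ d').card = 8}.ncard = 330 ∧ {d' : Finset Cfsg.GolayPt | d' ∈ Cfsg.dodecads ∧ x ∈ d' ∧ (d ∩ d').card = 6}.ncard = 792 ∧ ∀ d' d'' : Finset Cfsg.GolayPt, d' ∈ Cfsg.dodecads → d'' ∈ Cfsg.dodecads → x ∈ d' → x ∈ d'' → (d ∩ d').card = (d ∩ d'').card → ∃ g : Equiv.Perm Cfsg.GolayPt, g ∈ Cfsg.M24 ∧ g x = x ∧ g • d = d ∧ g • d' = d'' := by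
  classical
  have hbase : ptSet dx_base ∈ dodecads := dx_base_check.mem
  have hx0 : ptN 0 ∈ ptSet dx_base := (ptN_mem_ptSet dx_base_check.1 (by norm_num)).mpr (by decide)
  obtain ⟨h, hh, rfl, rfl⟩ := M24_dodecad_flag_transitive hbase hd hx0 hx
  have hgens := gens_stab_set_pt dx_tabs dx_base dx_base_check.1 0 (by norm_num) dx_tabs_check
  have hval : ∀ i, (ptSet dx_base ∩ ptSet (dxdod_roots i)).card = (![12, 4, 8, 6] : Fin 4 → ℕ) i := by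
    intro i
    rw [card_inter_ptSet dx_base_check.1 (dxdod_rootcheck i).1.1]
    revert i
    decide
  obtain ⟨_, h2, h3⟩ := dxdod_model.classes_dep
    ((ptSet dx_base, ptN 0) : Finset GolayPt × GolayPt) dx_tabs hgens
    (fun z => {y | y ∈ dodecads ∧ z.2 ∈ y})
    (fun g hg z y hy => ⟨smul_mem_dodecads hg hy.1, Finset.smul_mem_smul_finset hy.2⟩) 1288
    (ncard_dodecads_through _) (Set.toFinite _) dxdod_roots (fun i => (dxdod_rootcheck i).1.1)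
    (fun i => ⟨(dxdod_rootcheck i).1.mem,
      (ptN_mem_ptSet (dxdod_rootcheck i).1.1 (by norm_num)).mpr (dxdod_rootcheck i).2⟩)
    dxdod_certs dxdod_sizes dxdod_check dxdod_len (by decide)
    (fun z y => (z.1 ∩ y).card) (fun g _ z y => card_smul_inter_smul g z.1 y)
    (by
      intro i j hij
      have : (![12, 4, 8, 6] : Fin 4 → ℕ) i = (![12, 4, 8, 6] : Fin 4 → ℕ) j := by
        rw [← hval i, ← hval j]; exact hij
      revert i j
      decide) h hh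
  refine ⟨?_, ?_, ?_, ?_⟩
  · rw [show (165 : ℕ) = dxdod_sizes 1 from rfl, ← h2 1]
    apply congrArg Set.ncard
    ext y
    exact ⟨fun ⟨a, b, c⟩ => ⟨⟨a, b⟩, c.trans (hval 1).symm⟩, fun ⟨⟨a, b⟩, c⟩ => ⟨a, b, c.trans (hval 1)⟩⟩
  · rw [show (330 : ℕ) = dxdod_sizes 2 from rfl, ← h2 2]
    apply congrArg Set.ncard
    ext y
    exact ⟨fun ⟨a, b, c⟩ => ⟨⟨a, b⟩, c.trans (hval 2).symm⟩, fun ⟨⟨a, b⟩, c⟩ => ⟨a, b, c.trans (hval 2)⟩⟩
  · rw [show (792 : ℕ) = dxdod_sizes 3 from rfl, ← h2 3]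
    apply congrArg Set.ncard
    ext y
    exact ⟨fun ⟨a, b, c⟩ => ⟨⟨a, b⟩, c.trans (hval 3).symm⟩, fun ⟨⟨a, b⟩, c⟩ => ⟨a, b, c.trans (hval 3)⟩⟩
  · intro d' d'' hd' hd'' hxd' hxd'' he
    obtain ⟨g, hg, hgy⟩ := h3 d' ⟨hd', hxd'⟩ d'' ⟨hd'', hxd''⟩ he
    obtain ⟨hgM, hgs⟩ := Subgroup.mem_inf.mp hg
    rw [MulAction.mem_stabilizer_iff, Prod.ext_iff] at hgs
    exact ⟨g, hgM, hgs.2, hgs.1, hgy⟩


end Cfsg.Agent.S1639
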