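import Cfsg.Statements.S1643
import Cfsg.Agent.Lib.Helper28.L23Gens

set_option autoImplicit false
open scoped Pointwise
open Cfsg

namespace Cfsg.Agent.S1643

open Cfsg.Agent.Lib.Helper28 Cfsg.Agent.Lib.Helper28.L23 MulAction

theorem card_M23 : Nat.card Spor.M23 = 10200960 := by rw [M23_eq_G23]; exact card_G23

theorem stabilizer_eq :
    stabilizer Cfsg.M24 (none : Cfsg.GolayPt) = Spor.M23.subgroupOf Cfsg.M24 := by
  ext g
  rw [mem_stabilizer_iff, Subgroup.mem_subgroupOf]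
  constructor
  · intro h
    exact ⟨g.2, h⟩
  · intro h
    exact h.2

theorem coatom_B : IsCoatom ((L23.B.subgroupOf Cfsg.M24).subgroupOf
    (stabilizer Cfsg.M24 (none : Cfsg.GolayPt))) := by
  have hBM : L23.B ≤ Cfsg.M24 := B_le_M23.trans inf_le_left
  have hMM : Spor.M23 ≤ Cfsg.M24 := inf_le_left
  apply isCoatom_subgroupOf
  · rw [stabilizer_eq]
    intro g hg
    exact B_le_M23 hg
  · intro h
    have h1 : Nat.card (L23.B.subgroupOf Cfsg.M24) = 253 := by
      rw [← card_B]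
      exact Nat.card_congr (Subgroup.subgroupOfEquivOfLe hBM).toEquiv
    have h2 : Nat.card (stabilizer Cfsg.M24 (none : Cfsg.GolayPt)) = 10200960 := by
      rw [stabilizer_eq, ← card_M23]
      exact Nat.card_congr (Subgroup.subgroupOfEquivOfLe hMM).toEquiv
    rw [h, h2] at h1
    norm_num at h1
  · intro K' h1 h2
    rw [stabilizer_eq] at h2 ⊢
    have hB : L23.B ≤ K'.map Cfsg.M24.subtype := by
      intro b hb
      exact ⟨⟨b, hBM hb⟩, h1 (Subgroup.mem_subgroupOf.mpr hb), rfl⟩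
    have hM : K'.map Cfsg.M24.subtype ≤ Spor.M23 := by
      rintro _ ⟨k, hk, rfl⟩
      exact Subgroup.mem_subgroupOf.mp (h2 hk)
    have hK' : (K'.map Cfsg.M24.subtype).subgroupOf Cfsg.M24 = K' :=
      Subgroup.comap_map_eq_self_of_injective Cfsg.M24.subtype_injective K'
    rcases B_maximal _ hB hM with h | h
    · left
      rw [← hK', h]
    · right
      rw [← hK', h]

theorem coatom_L : IsCoatom (L23.L.subgroupOf Cfsg.M24) := by
  apply isCoatom_subgroupOf _ _ L_le_M24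
  · intro h
    have := card_L
    rw [h, card_M24] at this
    norm_num at this
  · intro K h1 h2
    exact L_maximal K h1 h2

/-- PSL(2, 23) = ⟨t ↦ t+1, t ↦ u t (u square), t ↦ −1/t⟩ is maximal of order 6072 in the group of the length-24 code, and its point stabiliser 23:11 (order 253) is maximal in the Mathieu group of degree 23. -/
theorem result : (Subgroup.closure ({Equiv.optionCongr (Equiv.addRight (1 : ZMod 23)), Cfsg.projInv} ∪ {g : Equiv.Perm Cfsg.GolayPt | ∃ u : (ZMod 23)ˣ, IsSquare u ∧ g = Equiv.optionCongr (Units.mulLeft u)}) ≤ Cfsg.M24 ∧ Nat.card ↥(Subgroup.closure ({Equiv.optionCongr (Equiv.addRight (1 : ZMod 23)), Cfsg.projInv} ∪ {g : Equiv.Perm Cfsg.GolayPt | ∃ u : (ZMod 23)ˣ, IsSquare u ∧ g = Equiv.optionCongr (Units.mulLeft u)})) = 6072 ∧ IsCoatom ((Subgroup.closure ({Equiv.optionCongr (Equiv.addRight (1 : ZMod 23)), Cfsg.projInv} ∪ {g : Equiv.Perm Cfsg.GolayPt | ∃ u : (ZMod 23)ˣ, IsSquare u ∧ g = Equiv.optionCongr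 (Units.mulLeft u)})).subgroupOf Cfsg.M24)) ∧ (Subgroup.closure ({Equiv.optionCongr (Equiv.addRight (1 : ZMod 23))} ∪ {g : Equiv.Perm Cfsg.GolayPt | ∃ u : (ZMod 23)ˣ, IsSquare u ∧ g = Equiv.optionCongr (Units.mulLeft u)}) ≤ Cfsg.M24 ⊓ MulAction.stabilizer (Equiv.Perm Cfsg.GolayPt) (none : Cfsg.GolayPt) ∧ Nat.card ↥(Subgroup.closure ({Equiv.optionCongr (Equiv.addRight (1 : ZMod 23))} ∪ {g : Equiv.Perm Cfsg.GolayPt | ∃ u : (ZMod 23)ˣ, IsSquare u ∧ g = Equiv.optionCongr (Units.mulLeft u)})) = 253 ∧ IsCoatom (((Subgroup.closure ({Equiv.optionCongr (Equiv.addRight (1 : ZMod 23))} ∪ {g : Equiv.Perm Cfsg.GolayPt | ∃ u : (ZMod 23)ˣ, IsSquare u ∧ g = Equiv.optionCongr (Units.mulLeft u)})).subgroupOf Cfsg.M24).subgroupOf (MulAction.stabilizer Cfsg.M24 (none : Cfsg.GolayPt)))) := by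
  rw [closure_L_gens, closure_B_gens]
  exact ⟨⟨L_le_M24, card_L, coatom_L⟩, B_le_M23, card_B, coatom_B⟩

end Cfsg.Agent.S1643
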