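import Cfsg.Statements.S1691

set_option autoImplicit false
open Cfsg

namespace Cfsg.Agent.S1691

open Cfsg.Spor Cfsg.Spor.Fi24

/-- the relators of the presented group -/
abbrev rels : Set (FreeGroup Gen) := coxRelators edges ∪ {r | r ∈ extra}

/-- images of the generators -/
abbrev gen (x : Gen) : Fi24 := PresentedGroup.of x

lemma all_nodes (x : Gen) : x ∈ coxNodes edges := by
  cases x <;> decide

lemma gen_sq (x : Gen) : gen x * gen x = 1 := by
  have hmem : (FreeGroup.of x * FreeGroup.of x) ^ coxLabel edges x x ∈ rels :=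
    Or.inl ⟨x, all_nodes x, x, all_nodes x, rfl⟩
  have := PresentedGroup.one_of_mem hmem
  have hl : coxLabel edges x x = 1 := by simp [coxLabel]
  rw [hl, pow_one, map_mul] at this
  exact this

lemma gen_edge (x y : Gen) (hl : coxLabel edges x y = 3) : (gen x * gen y) ^ 3 = 1 := by
  have hmem : (FreeGroup.of x * FreeGroup.of y) ^ coxLabel edges x y ∈ rels :=
    Or.inl ⟨x, all_nodes x, y, all_nodes y, rfl⟩
  have := PresentedGroup.one_of_mem hmem
  rw [hl, map_pow, map_mul] at this
  exact this

/-- in a commutative quotient, adjacent generators have equal image -/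
lemma ab_eq {A : Type*} [CommGroup A] (φ : Fi24 →* A) (x y : Gen) (hl : coxLabel edges x y = 3) :
    φ (gen x) = φ (gen y) := by
  have h1 : φ (gen x) * φ (gen x) = 1 := by rw [← map_mul, gen_sq, map_one]
  have h2 : φ (gen y) * φ (gen y) = 1 := by rw [← map_mul, gen_sq, map_one]
  have h3 : (φ (gen x) * φ (gen y)) ^ 3 = 1 := by rw [← map_mul, ← map_pow, gen_edge x y hl, map_one]
  have h4 : (φ (gen x) * φ (gen y)) ^ 3 = φ (gen x) * φ (gen y) := by
    rw [mul_pow, pow_succ, pow_two, h1, one_mul, pow_succ, pow_two, h2, one_mul]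
  rw [h4] at h3
  calc φ (gen x) = φ (gen x) * (φ (gen y) * φ (gen y)) := by rw [h2, mul_one]
    _ = (φ (gen x) * φ (gen y)) * φ (gen y) := by rw [mul_assoc]
    _ = φ (gen y) := by rw [h3, one_mul]

lemma ab_all {A : Type*} [CommGroup A] (φ : Fi24 →* A) (x : Gen) :
    φ (gen x) = φ (gen Gen.d) := by
  have lk := ab_eq φ Gen.l Gen.k (by decide)
  have ka := ab_eq φ Gen.k Gen.a (by decide)
  have ab := ab_eq φ Gen.a Gen.b (by decide)
  have bc := ab_eq φ Gen.b Gen.c (by decide)
  have cd := ab_eq φ Gen.c Gen.d (by decide)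
  have de := ab_eq φ Gen.d Gen.e (by decide)
  have dh := ab_eq φ Gen.d Gen.h (by decide)
  have ef := ab_eq φ Gen.e Gen.f (by decide)
  have fg := ab_eq φ Gen.f Gen.g (by decide)
  have gj := ab_eq φ Gen.g Gen.j (by decide)
  have hi := ab_eq φ Gen.h Gen.i (by decide)
  cases x
  · rw [lk, ka, ab, bc, cd]
  · rw [ka, ab, bc, cd]
  · rw [ab, bc, cd]
  · rw [bc, cd]
  · rw [cd]
  · rfl
  · rw [← de]
  · rw [← ef, ← de]
  · rw [← fg, ← ef, ← de]
  · rw [← gj, ← fg, ← ef, ← de]
  · rw [← dh]
  · rw [← hi, ← dh]

/-- the sign homomorphism -/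
noncomputable def sgn : Fi24 →* Multiplicative (ZMod 2) :=
  PresentedGroup.toGroup (f := fun _ => Multiplicative.ofAdd (1 : ZMod 2)) (by
    intro r hr
    rcases hr with hr | hr
    · obtain ⟨x, _, y, _, rfl⟩ := hr
      rw [map_pow, map_mul, FreeGroup.lift_apply_of, FreeGroup.lift_apply_of]
      have : Multiplicative.ofAdd (1 : ZMod 2) * Multiplicative.ofAdd (1 : ZMod 2) = 1 := by decide
      rw [this, one_pow]
    · have hr' : r ∈ extra := hr
      simp only [extra, List.mem_cons, List.not_mem_nil, or_false] at hr'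
      rcases hr' with rfl | rfl
      · simp only [map_mul, map_pow, map_inv, FreeGroup.lift_apply_of]
        decide
      · simp only [map_mul, map_pow, FreeGroup.lift_apply_of]
        decide)

lemma sgn_gen (x : Gen) : sgn (gen x) = Multiplicative.ofAdd (1 : ZMod 2) :=
  PresentedGroup.toGroup.of _

/-- The commutator subgroup of the presented group Fi₂₄ has index 2 (the presented group is Fi₂₄′:2 with Fi₂₄′ its derived subgroup). -/
theorem result : (commutator Cfsg.Spor.Fi24).index = 2 := by
  -- lower bound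
  have hker : commutator Fi24 ≤ sgn.ker := Abelianization.commutator_subset_ker sgn
  have hsurj : Function.Surjective sgn := by
    intro z
    have : z = 1 ∨ z = Multiplicative.ofAdd (1 : ZMod 2) := by
      revert z; decide
    rcases this with rfl | rfl
    · exact ⟨1, map_one _⟩
    · exact ⟨gen Gen.d, sgn_gen _⟩
  have hidx : sgn.ker.index = 2 := by
    rw [Subgroup.index_ker, MonoidHom.range_eq_top.mpr hsurj]
    simp [Nat.card_eq_fintype_card]
  have hdvd : 2 ∣ (commutator Fi24).index := hidx ▸ Subgroup.index_dvd_of_le hker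
  -- upper bound: the abelianization is generated by one element of order ≤ 2
  set π : Fi24 →* Abelianization Fi24 := Abelianization.of with hπ
  set ā := π (gen Gen.d) with hā
  have hā2 : ā ^ 2 = 1 := by
    rw [hā, ← map_pow, pow_two, gen_sq, map_one]
  have hall : ∀ z : Abelianization Fi24, z ∈ Subgroup.zpowers ā := by
    intro z
    obtain ⟨w, rfl⟩ := QuotientGroup.mk_surjective z
    have : w ∈ (Subgroup.zpowers ā).comap π := by
      apply PresentedGroup.generated_by
      intro x
      rw [Subgroup.mem_comap]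
      have := ab_all π x
      change π (gen x) ∈ _
      rw [this]
      exact Subgroup.mem_zpowers _
    exact this
  have htop : Subgroup.zpowers ā = ⊤ := eq_top_iff.mpr fun z _ => hall z
  have hcard : Nat.card (Abelianization Fi24) ∣ 2 := by
    rw [← Subgroup.card_top, ← htop, Nat.card_zpowers]
    exact orderOf_dvd_of_pow_eq_one hā2
  have hidx2 : (commutator Fi24).index ∣ 2 := hcard
  exact Nat.dvd_antisymm hidx2 hdvd

end Cfsg.Agent.S1691
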