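import Mathlib
import Cfsg.Statements.S1717

set_option autoImplicit false
open Cfsg
namespace Cfsg.Agent.S1717

open Matrix

abbrev M5 := Matrix (Fin 5) (Fin 5) (ZMod 2)
abbrev SL5 := Matrix.SpecialLinearGroup (Fin 5) (ZMod 2)

theorem zmod2_cases (x : ZMod 2) : x = 0 ∨ x = 1 := by revert x; decide

theorem zmod2_eq_one {x : ZMod 2} (h : x ≠ 0) : x = 1 := by
  rcases zmod2_cases x with h' | h'
  · exact absurd h' h
  · exact h'

theorem coe_mul_inv (g : SL5) : (g : M5) * ((g⁻¹ : SL5) : M5) = 1 := by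
  have := congrArg Subtype.val (mul_inv_cancel g)
  rw [Matrix.SpecialLinearGroup.coe_mul, Matrix.SpecialLinearGroup.coe_one] at this
  exact this

theorem coe_inv_mul (g : SL5) : ((g⁻¹ : SL5) : M5) * (g : M5) = 1 := by
  have := congrArg Subtype.val (inv_mul_cancel g)
  rw [Matrix.SpecialLinearGroup.coe_mul, Matrix.SpecialLinearGroup.coe_one] at this
  exact this

theorem comm_single {M : M5} {a b : Fin 5}
    (h : M * Matrix.transvection a b 1 = Matrix.transvection a b 1 * M) :
    M * Matrix.single a b 1 = Matrix.single a b 1 * M := by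
  unfold Matrix.transvection at h
  rw [mul_add, add_mul, mul_one, one_mul] at h
  exact add_left_cancel h

theorem entries_of_comm {M : M5} {a b : Fin 5}
    (hE : M * Matrix.single a b (1 : ZMod 2) = Matrix.single a b 1 * M) :
    (∀ i, i ≠ a → M i a = 0) ∧ (∀ j, j ≠ b → M b j = 0) ∧ M a a = M b b := by
  refine ⟨fun i hi => ?_, fun j hj => ?_, ?_⟩
  · have := congrFun (congrFun hE i) b
    rw [Matrix.mul_single_apply_same, Matrix.single_mul_apply_of_ne (h := hi), mul_one] at this
    exact this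
  · have := congrFun (congrFun hE a) j
    rw [Matrix.mul_single_apply_of_ne (hbj := hj), Matrix.single_mul_apply_same, one_mul] at this
    exact this.symm
  · have := congrFun (congrFun hE a) b
    rw [Matrix.mul_single_apply_same, Matrix.single_mul_apply_same, mul_one, one_mul] at this
    exact this

theorem transvection_comm {a b c d : Fin 5} (h1 : b ≠ c) (h2 : d ≠ a) :
    Matrix.transvection a b (1 : ZMod 2) * Matrix.transvection c d 1 =
      Matrix.transvection c d 1 * Matrix.transvection a b 1 := by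
  have e1 : Matrix.single a b (1 : ZMod 2) * Matrix.single c d (1 : ZMod 2) = 0 :=
    Matrix.single_mul_single_of_ne _ _ _ _ h1 _
  have e2 : Matrix.single c d (1 : ZMod 2) * Matrix.single a b (1 : ZMod 2) = 0 :=
    Matrix.single_mul_single_of_ne _ _ _ _ h2 _
  simp only [Matrix.transvection, add_mul, mul_add, one_mul, mul_one, e1, e2]
  abel

/-- transvection as element of SL5 -/
def tvSL (a b : Fin 5) (h : a ≠ b) : SL5 :=
  ⟨Matrix.transvection a b 1, Matrix.det_transvection_of_ne a b h 1⟩

theorem row_mul {M N : M5} {i : Fin 5} (h : ∀ k, M i k = (1 : M5) i k) (j : Fin 5) :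
    (M * N) i j = N i j := by
  rw [Matrix.mul_apply]
  simp only [h, Matrix.one_apply, ite_mul, one_mul, zero_mul, Finset.sum_ite_eq, Finset.mem_univ,
    if_true]

theorem col_mul {M N : M5} {j : Fin 5} (h : ∀ k, N k j = (1 : M5) k j) (i : Fin 5) :
    (M * N) i j = M i j := by
  rw [Matrix.mul_apply]
  simp only [h, Matrix.one_apply, mul_ite, mul_one, mul_zero, Finset.sum_ite_eq', Finset.mem_univ,
    if_true]

theorem mul_apply_congr_right {M N N' : M5} {i j : Fin 5}
    (h : ∀ k, M i k * N k j = M i k * N' k j) : (M * N) i j = (M * N') i j := by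
  rw [Matrix.mul_apply, Matrix.mul_apply]
  exact Finset.sum_congr rfl (fun k _ => h k)

theorem mul_apply_congr_left {M M' N : M5} {i j : Fin 5}
    (h : ∀ k, M i k * N k j = M' i k * N k j) : (M * N) i j = (M' * N) i j := by
  rw [Matrix.mul_apply, Matrix.mul_apply]
  exact Finset.sum_congr rfl (fun k _ => h k)

/-- entries of elements of the centralizer of the transvection -/
theorem centralizer_entries (s : SL5) (hs : (s : M5) = Matrix.transvection 0 1 1) (h : SL5)
    (hh : h ∈ Subgroup.centralizer ({s} : Set SL5)) :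
    (∀ i, i ≠ 0 → (h : M5) i 0 = 0) ∧ (∀ j, j ≠ 1 → (h : M5) 1 j = 0) ∧
      (h : M5) 0 0 = (h : M5) 1 1 := by
  rw [Subgroup.mem_centralizer_singleton_iff] at hh
  have h1 := congrArg Subtype.val hh
  simp only [Matrix.SpecialLinearGroup.coe_mul] at h1
  rw [hs] at h1
  exact entries_of_comm (comm_single h1)

theorem mem_centralizer_of_comm (s : SL5) (hs : (s : M5) = Matrix.transvection 0 1 1) (h : SL5)
    (hh : (h : M5) * Matrix.transvection 0 1 1 = Matrix.transvection 0 1 1 * (h : M5)) :
    h ∈ Subgroup.centralizer ({s} : Set SL5) := by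
  rw [Subgroup.mem_centralizer_singleton_iff]
  apply Subtype.ext
  simp only [Matrix.SpecialLinearGroup.coe_mul]
  rw [hs]
  exact hh

/-- rows `≠ 0` are identity rows -/
def R1 : Subgroup SL5 where
  carrier := {g | ∀ i j : Fin 5, i ≠ 0 → (g : M5) i j = (1 : M5) i j}
  mul_mem' := by
    intro g h hg hh i j hi
    rw [Matrix.SpecialLinearGroup.coe_mul, row_mul (fun k => hg i k hi)]
    exact hh i j hi
  one_mem' := by
    intro i j _
    rfl
  inv_mem' := by
    intro g hg i j hi
    have h1 := congrFun (congrFun (coe_mul_inv g) i) j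
    rw [row_mul (fun k => hg i k hi)] at h1
    exact h1

/-- columns `≠ 1` are identity columns -/
def R2 : Subgroup SL5 where
  carrier := {g | ∀ i j : Fin 5, j ≠ 1 → (g : M5) i j = (1 : M5) i j}
  mul_mem' := by
    intro g h hg hh i j hj
    rw [Matrix.SpecialLinearGroup.coe_mul, col_mul (fun k => hh k j hj)]
    exact hg i j hj
  one_mem' := by
    intro i j _
    rfl
  inv_mem' := by
    intro g hg i j hj
    have h1 := congrFun (congrFun (coe_inv_mul g) i) j
    rw [col_mul (fun k => hg k j hj)] at h1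
    exact h1

theorem mem_R1 {g : SL5} : g ∈ R1 ↔ ∀ i j : Fin 5, i ≠ 0 → (g : M5) i j = (1 : M5) i j := Iff.rfl
theorem mem_R2 {g : SL5} : g ∈ R2 ↔ ∀ i j : Fin 5, j ≠ 1 → (g : M5) i j = (1 : M5) i j := Iff.rfl

theorem sq_of_nil {A N : M5} (hA : A = 1 + N) (hN : N * N = 0) : A * A = 1 := by
  have h2 : N + N = 0 := by
    ext i j
    simp only [Matrix.add_apply, Matrix.zero_apply]
    exact CharTwo.add_self_eq_zero _
  rw [hA]
  calc (1 + N) * (1 + N) = 1 + (N + N) + N * N := by
        simp only [add_mul, mul_add, one_mul, mul_one]; abel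
    _ = 1 := by rw [h2, hN, add_zero, add_zero]

theorem R1_sq (s : SL5) (hs : (s : M5) = Matrix.transvection 0 1 1) (g : SL5) (hg : g ∈ R1)
    (hgC : g ∈ Subgroup.centralizer ({s} : Set SL5)) : g * g = 1 := by
  obtain ⟨-, -, h3⟩ := centralizer_entries s hs g hgC
  have h11 : (g : M5) 1 1 = 1 := by
    have := hg 1 1 (by decide)
    rw [this]; rfl
  have h00 : (g : M5) 0 0 = 1 := by rw [h3, h11]
  set N : M5 := (g : M5) - 1 with hN
  have hNrow : ∀ i j, i ≠ 0 → N i j = 0 := by
    intro i j hi
    rw [hN, Matrix.sub_apply, hg i j hi, sub_self]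
  have hN00 : N 0 0 = 0 := by
    rw [hN, Matrix.sub_apply, h00, Matrix.one_apply_eq, sub_self]
  have hNN : N * N = 0 := by
    ext i j
    rw [Matrix.mul_apply, Matrix.zero_apply]
    apply Finset.sum_eq_zero
    intro k _
    by_cases hk : k = 0
    · subst hk
      by_cases hi : i = 0
      · subst hi; rw [hN00, zero_mul]
      · rw [hNrow i 0 hi, zero_mul]
    · rw [hNrow k j hk, mul_zero]
  apply Subtype.ext
  rw [Matrix.SpecialLinearGroup.coe_mul, Matrix.SpecialLinearGroup.coe_one]
  exact sq_of_nil (by rw [hN]; abel) hNN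

theorem R2_sq (s : SL5) (hs : (s : M5) = Matrix.transvection 0 1 1) (g : SL5) (hg : g ∈ R2)
    (hgC : g ∈ Subgroup.centralizer ({s} : Set SL5)) : g * g = 1 := by
  obtain ⟨-, -, h3⟩ := centralizer_entries s hs g hgC
  have h00 : (g : M5) 0 0 = 1 := by
    have := hg 0 0 (by decide)
    rw [this]; rfl
  have h11 : (g : M5) 1 1 = 1 := by rw [← h3, h00]
  set N : M5 := (g : M5) - 1 with hN
  have hNcol : ∀ i j, j ≠ 1 → N i j = 0 := by
    intro i j hj
    rw [hN, Matrix.sub_apply, hg i j hj, sub_self]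
  have hN11 : N 1 1 = 0 := by
    rw [hN, Matrix.sub_apply, h11, Matrix.one_apply_eq, sub_self]
  have hNN : N * N = 0 := by
    ext i j
    rw [Matrix.mul_apply, Matrix.zero_apply]
    apply Finset.sum_eq_zero
    intro k _
    by_cases hk : k = 1
    · subst hk
      by_cases hj : j = 1
      · subst hj; rw [hN11, mul_zero]
      · rw [hNcol 1 j hj, mul_zero]
    · rw [hNcol i k hk, zero_mul]
  apply Subtype.ext
  rw [Matrix.SpecialLinearGroup.coe_mul, Matrix.SpecialLinearGroup.coe_one]
  exact sq_of_nil (by rw [hN]; abel) hNN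

theorem N1_normal (s : SL5) (hs : (s : M5) = Matrix.transvection 0 1 1) :
    (R1.subgroupOf (Subgroup.centralizer ({s} : Set SL5))).Normal := by
  constructor
  intro n hn h
  rw [Subgroup.mem_subgroupOf] at hn ⊢
  obtain ⟨hh1, -, -⟩ := centralizer_entries s hs h.1 h.2
  intro i j hi
  have hcoe : (((h * n * h⁻¹ : ↥(Subgroup.centralizer ({s} : Set SL5))) : SL5) : M5) =
      ((h : SL5) : M5) * ((n : SL5) : M5) * (((h : SL5)⁻¹ : SL5) : M5) := by
    simp only [Subgroup.coe_mul, Subgroup.coe_inv, Matrix.SpecialLinearGroup.coe_mul]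
  rw [hcoe]
  have step : ∀ l, (((h : SL5) : M5) * ((n : SL5) : M5)) i l = ((h : SL5) : M5) i l := by
    intro l
    have := mul_apply_congr_right (M := ((h : SL5) : M5)) (N := ((n : SL5) : M5)) (N' := 1)
      (i := i) (j := l) (fun k => by
        by_cases hk : k = 0
        · subst hk; rw [hh1 i hi, zero_mul, zero_mul]
        · rw [hn k l hk])
    rw [this, mul_one]
  rw [mul_apply_congr_left (M' := ((h : SL5) : M5)) (fun k => by rw [step k]), coe_mul_inv]

theorem N2_normal (s : SL5) (hs : (s : M5) = Matrix.transvection 0 1 1) :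
    (R2.subgroupOf (Subgroup.centralizer ({s} : Set SL5))).Normal := by
  constructor
  intro n hn h
  rw [Subgroup.mem_subgroupOf] at hn ⊢
  obtain ⟨-, hh2, -⟩ := centralizer_entries s hs (h⁻¹).1 (h⁻¹).2
  intro i j hj
  have hcoe : (((h * n * h⁻¹ : ↥(Subgroup.centralizer ({s} : Set SL5))) : SL5) : M5) =
      ((h : SL5) : M5) * (((n : SL5) : M5) * (((h : SL5)⁻¹ : SL5) : M5)) := by
    simp only [Subgroup.coe_mul, Subgroup.coe_inv, Matrix.SpecialLinearGroup.coe_mul, mul_assoc]
  rw [hcoe]
  have hinv : (((h⁻¹ : ↥(Subgroup.centralizer ({s} : Set SL5))) : SL5) : M5) =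
      (((h : SL5)⁻¹ : SL5) : M5) := by
    simp only [Subgroup.coe_inv]
  rw [hinv] at hh2
  have step : ∀ l, (((n : SL5) : M5) * (((h : SL5)⁻¹ : SL5) : M5)) l j =
      (((h : SL5)⁻¹ : SL5) : M5) l j := by
    intro l
    have := mul_apply_congr_left (M := ((n : SL5) : M5)) (M' := 1)
      (N := (((h : SL5)⁻¹ : SL5) : M5)) (i := l) (j := j) (fun k => by
        by_cases hk : k = 1
        · subst hk; rw [hh2 j hj, mul_zero, mul_zero]
        · rw [hn l k hk])
    rw [this, one_mul]
  rw [mul_apply_congr_right (N' := (((h : SL5)⁻¹ : SL5) : M5)) (fun k => by rw [step k]),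
    coe_mul_inv]

theorem N1_pgroup (s : SL5) (hs : (s : M5) = Matrix.transvection 0 1 1) :
    IsPGroup 2 ↥(R1.subgroupOf (Subgroup.centralizer ({s} : Set SL5))) := by
  intro g
  refine ⟨1, ?_⟩
  have hg : ((g : ↥(Subgroup.centralizer ({s} : Set SL5))) : SL5) ∈ R1 :=
    Subgroup.mem_subgroupOf.mp g.2
  have := R1_sq s hs _ hg g.1.2
  apply Subtype.ext
  apply Subtype.ext
  simp only [pow_one, pow_two, Subgroup.coe_mul, Subgroup.coe_one]
  exact this

theorem N2_pgroup (s : SL5) (hs : (s : M5) = Matrix.transvection 0 1 1) :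
    IsPGroup 2 ↥(R2.subgroupOf (Subgroup.centralizer ({s} : Set SL5))) := by
  intro g
  refine ⟨1, ?_⟩
  have hg : ((g : ↥(Subgroup.centralizer ({s} : Set SL5))) : SL5) ∈ R2 :=
    Subgroup.mem_subgroupOf.mp g.2
  have := R2_sq s hs _ hg g.1.2
  apply Subtype.ext
  apply Subtype.ext
  simp only [pow_one, pow_two, Subgroup.coe_mul, Subgroup.coe_one]
  exact this

theorem tv_row_mem_R1 (j : Fin 5) (hj : (0 : Fin 5) ≠ j) : tvSL 0 j hj ∈ R1 := by
  intro i k hi
  show (Matrix.transvection 0 j (1 : ZMod 2)) i k = (1 : M5) i k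
  unfold Matrix.transvection
  rw [Matrix.add_apply, Matrix.single_apply_of_row_ne (Ne.symm hi), add_zero]

theorem tv_col_mem_R2 (i : Fin 5) (hi : i ≠ (1 : Fin 5)) : tvSL i 1 hi ∈ R2 := by
  intro k j hj
  show (Matrix.transvection i 1 (1 : ZMod 2)) k j = (1 : M5) k j
  unfold Matrix.transvection
  rw [Matrix.add_apply, Matrix.single_apply_of_col_ne _ _ (Ne.symm hj), add_zero]

theorem tv_row_mem_C (s : SL5) (hs : (s : M5) = Matrix.transvection 0 1 1) (j : Fin 5)
    (hj : (0 : Fin 5) ≠ j) : tvSL 0 j hj ∈ Subgroup.centralizer ({s} : Set SL5) :=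
  mem_centralizer_of_comm s hs _ (transvection_comm (Ne.symm hj) (by decide))

theorem tv_col_mem_C (s : SL5) (hs : (s : M5) = Matrix.transvection 0 1 1) (i : Fin 5)
    (hi : i ≠ (1 : Fin 5)) : tvSL i 1 hi ∈ Subgroup.centralizer ({s} : Set SL5) :=
  mem_centralizer_of_comm s hs _ (transvection_comm (by decide) (Ne.symm hi))

/-- an element of the centralizer commuting with six transvections is `1` or `s`. -/
theorem key (s : SL5) (hs : (s : M5) = Matrix.transvection 0 1 1) (c : SL5)
    (hc : c ∈ Subgroup.centralizer ({s} : Set SL5))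
    (h1 : ∀ (j : Fin 5) (hj0 : (0 : Fin 5) ≠ j), j ≠ 1 → c * tvSL 0 j hj0 = tvSL 0 j hj0 * c)
    (h2 : ∀ (i : Fin 5) (hi1 : i ≠ (1 : Fin 5)), i ≠ 0 → c * tvSL i 1 hi1 = tvSL i 1 hi1 * c) :
    c = 1 ∨ c = s := by
  obtain ⟨A1, A2, A3⟩ := centralizer_entries s hs c hc
  have h00 : (c : M5) 0 0 = 1 := by
    apply zmod2_eq_one
    intro h0
    have := congrFun (congrFun (coe_inv_mul c) 0) 0
    rw [Matrix.mul_apply, Matrix.one_apply_eq] at this
    have hz : ∑ k : Fin 5, ((c⁻¹ : SL5) : M5) 0 k * (c : M5) k 0 = 0 := by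
      apply Finset.sum_eq_zero
      intro k _
      by_cases hk : k = 0
      · subst hk; rw [h0, mul_zero]
      · rw [A1 k hk, mul_zero]
    rw [hz] at this
    exact zero_ne_one this
  have h11 : (c : M5) 1 1 = 1 := by rw [← A3, h00]
  -- consequences of commuting with the row transvections
  have B : ∀ (j : Fin 5), (0 : Fin 5) ≠ j → j ≠ 1 →
      (∀ b, b ≠ j → (c : M5) j b = 0) ∧ (c : M5) j j = 1 := by
    intro j hj0 hj1
    have h := congrArg Subtype.val (h1 j hj0 hj1)
    simp only [Matrix.SpecialLinearGroup.coe_mul] at h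
    have h' : (c : M5) * Matrix.transvection 0 j 1 = Matrix.transvection 0 j 1 * (c : M5) := h
    obtain ⟨-, e2, e3⟩ := entries_of_comm (comm_single h')
    exact ⟨e2, by rw [← e3, h00]⟩
  have D : ∀ (i : Fin 5), i ≠ (1 : Fin 5) → i ≠ 0 → (c : M5) 0 i = 0 := by
    intro i hi1 hi0
    have h := congrArg Subtype.val (h2 i hi1 hi0)
    simp only [Matrix.SpecialLinearGroup.coe_mul] at h
    have h' : (c : M5) * Matrix.transvection i 1 1 = Matrix.transvection i 1 1 * (c : M5) := h
    obtain ⟨e1, -, -⟩ := entries_of_comm (comm_single h')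
    exact e1 0 (Ne.symm hi0)
  have hrow : ∀ i j : Fin 5, i ≠ 0 → (c : M5) i j = (1 : M5) i j := by
    intro i j hi
    by_cases hi1 : i = 1
    · subst hi1
      by_cases hj : j = 1
      · subst hj; rw [h11, Matrix.one_apply_eq]
      · rw [A2 j hj, Matrix.one_apply_ne (Ne.symm hj)]
    · obtain ⟨e2, e3⟩ := B i (Ne.symm hi) hi1
      by_cases hj : j = i
      · subst hj; rw [e3, Matrix.one_apply_eq]
      · rw [e2 j hj, Matrix.one_apply_ne (Ne.symm hj)]
  rcases zmod2_cases ((c : M5) 0 1) with hx | hx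
  · left
    apply Subtype.ext
    rw [Matrix.SpecialLinearGroup.coe_one]
    ext i j
    by_cases hi : i = 0
    · subst hi
      by_cases hj0 : j = 0
      · subst hj0; rw [h00, Matrix.one_apply_eq]
      · by_cases hj1 : j = 1
        · subst hj1; rw [hx, Matrix.one_apply_ne (by decide)]
        · rw [D j hj1 hj0, Matrix.one_apply_ne (Ne.symm hj0)]
    · exact hrow i j hi
  · right
    apply Subtype.ext
    rw [hs]
    ext i j
    unfold Matrix.transvection
    rw [Matrix.add_apply]
    by_cases hi : i = 0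
    · subst hi
      by_cases hj0 : j = 0
      · subst hj0
        rw [h00, Matrix.one_apply_eq, Matrix.single_apply_of_col_ne _ _ (by decide), add_zero]
      · by_cases hj1 : j = 1
        · subst hj1
          rw [hx, Matrix.one_apply_ne (by decide), Matrix.single_apply_same, zero_add]
        · rw [D j hj1 hj0, Matrix.one_apply_ne (Ne.symm hj0),
            Matrix.single_apply_of_col_ne _ _ (Ne.symm hj1), add_zero]
    · rw [hrow i j hi, Matrix.single_apply_of_row_ne (Ne.symm hi), add_zero]

theorem main {G : Type*} [Group G] [Finite G] (s : SL5)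
    (hs : (s : M5) = Matrix.transvection 0 1 1) (z : G) (hz : orderOf z = 2)
    (Cz : Subgroup G) (hCz : Cz = Subgroup.centralizer ({z} : Set G))
    (C : Subgroup SL5) (hC : C = Subgroup.centralizer ({s} : Set SL5))
    (e : ↥Cz ≃* ↥C) (T : Sylow 2 ↥Cz) :
    ¬ 2 ∣ ((T : Subgroup ↥Cz).map Cz.subtype).index := by
  classical
  haveI : Fact (Nat.Prime 2) := ⟨Nat.prime_two⟩
  -- the two normal 2-subgroups
  let M1 : Subgroup ↥Cz := (R1.subgroupOf C).comap e.toMonoidHom
  let M2 : Subgroup ↥Cz := (R2.subgroupOf C).comap e.toMonoidHom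
  haveI hN1 : (R1.subgroupOf C).Normal := hC ▸ N1_normal s hs
  haveI hN2 : (R2.subgroupOf C).Normal := hC ▸ N2_normal s hs
  have hP1 : IsPGroup 2 ↥(R1.subgroupOf C) := hC ▸ N1_pgroup s hs
  have hP2 : IsPGroup 2 ↥(R2.subgroupOf C) := hC ▸ N2_pgroup s hs
  haveI : M1.Normal := hN1.comap _
  haveI : M2.Normal := hN2.comap _
  have hM1 : IsPGroup 2 M1 := hP1.comap_of_injective _ e.injective
  have hM2 : IsPGroup 2 M2 := hP2.comap_of_injective _ e.injective
  have hM1T : M1 ≤ T := hM1.le_sylow_of_normal T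
  have hM2T : M2 ≤ T := hM2.le_sylow_of_normal T
  -- z as an element of Cz
  have hzmem : z ∈ Cz := by
    rw [hCz, Subgroup.mem_centralizer_singleton_iff]
  set z' : ↥Cz := ⟨z, hzmem⟩ with hz'
  have hz'c : ∀ x : ↥Cz, x * z' = z' * x := by
    intro x
    apply Subtype.ext
    have hx : (x : G) ∈ Subgroup.centralizer ({z} : Set G) := hCz ▸ x.2
    exact Subgroup.mem_centralizer_singleton_iff.mp hx
  have hz1 : z ≠ 1 := by
    intro h
    rw [h, orderOf_one] at hz
    exact absurd hz (by decide)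
  have hz'1 : z' ≠ 1 := by
    intro h
    exact hz1 (congrArg Subtype.val h)
  -- s as an element of C
  have hsmem : s ∈ C := by
    rw [hC, Subgroup.mem_centralizer_singleton_iff]
  set s' : ↥C := ⟨s, hsmem⟩ with hs'
  -- key transported: an element of Cz commuting with M1 and M2 is 1 or e.symm s'
  have hkey : ∀ c : ↥Cz, (∀ t ∈ M1, c * t = t * c) → (∀ t ∈ M2, c * t = t * c) →
      e c = 1 ∨ e c = s' := by
    intro c hc1 hc2
    have hk := key s hs (e c).1 (hC ▸ (e c).2) ?_ ?_
    · rcases hk with hk | hk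
      · left; exact Subtype.ext hk
      · right; exact Subtype.ext hk
    · intro j hj0 hj1
      set t : ↥C := ⟨tvSL 0 j hj0, hC ▸ tv_row_mem_C s hs j hj0⟩ with ht
      have htM : e.symm t ∈ M1 := by
        show e.toMonoidHom (e.symm t) ∈ R1.subgroupOf C
        rw [MulEquiv.coe_toMonoidHom, MulEquiv.apply_symm_apply, Subgroup.mem_subgroupOf]
        exact tv_row_mem_R1 j hj0
      have := congrArg e (hc1 _ htM)
      rw [map_mul, map_mul, MulEquiv.apply_symm_apply] at this
      exact congrArg Subtype.val this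
    · intro i hi1 hi0
      set t : ↥C := ⟨tvSL i 1 hi1, hC ▸ tv_col_mem_C s hs i hi1⟩ with ht
      have htM : e.symm t ∈ M2 := by
        show e.toMonoidHom (e.symm t) ∈ R2.subgroupOf C
        rw [MulEquiv.coe_toMonoidHom, MulEquiv.apply_symm_apply, Subgroup.mem_subgroupOf]
        exact tv_col_mem_R2 i hi1
      have := congrArg e (hc2 _ htM)
      rw [map_mul, map_mul, MulEquiv.apply_symm_apply] at this
      exact congrArg Subtype.val this
  -- e z' = s'
  have hez : e z' = s' := by
    rcases hkey z' (fun t _ => (hz'c t).symm) (fun t _ => (hz'c t).symm) with h | h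
    · exfalso
      apply hz'1
      apply e.injective
      rw [h, map_one]
    · exact h
  -- a Sylow 2-subgroup of G containing T
  set TG : Subgroup G := (T : Subgroup ↥Cz).map Cz.subtype with hTG
  obtain ⟨S0, hS0⟩ := (T.isPGroup'.map Cz.subtype).exists_le_sylow
  have hTS : ∀ t : ↥Cz, t ∈ T → (t : G) ∈ S0 := by
    intro t ht
    exact hS0 (Subgroup.mem_map_of_mem _ ht)
  -- S0 ∩ Cz = T
  have hS'T : (S0 : Subgroup G).subgroupOf Cz = T := by
    apply T.is_maximal'
    · exact S0.isPGroup'.comap_of_injective Cz.subtype Subtype.val_injective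
    · intro t ht
      rw [Subgroup.mem_subgroupOf]
      exact hTS t ht
  -- z' ∈ T
  have hz'T : z' ∈ T := by
    have : z' = e.symm s' := by rw [← hez, MulEquiv.symm_apply_apply]
    rw [this]
    apply hM1T
    show e.toMonoidHom (e.symm s') ∈ R1.subgroupOf C
    rw [MulEquiv.coe_toMonoidHom, MulEquiv.apply_symm_apply, Subgroup.mem_subgroupOf]
    intro i j hi
    show (s : M5) i j = (1 : M5) i j
    rw [hs]
    unfold Matrix.transvection
    rw [Matrix.add_apply, Matrix.single_apply_of_row_ne (Ne.symm hi), add_zero]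
  have hzS0 : z ∈ S0 := hTS z' hz'T
  -- a nontrivial central element of S0
  haveI : Nontrivial ↥(S0 : Subgroup G) := ⟨⟨⟨z, hzS0⟩, 1, fun h => hz1 (congrArg Subtype.val h)⟩⟩
  haveI := S0.isPGroup'.center_nontrivial
  obtain ⟨c0, hc0⟩ := exists_ne (1 : Subgroup.center ↥(S0 : Subgroup G))
  have hc0c : ∀ x : G, x ∈ S0 → x * ((c0 : ↥(S0 : Subgroup G)) : G) =
      ((c0 : ↥(S0 : Subgroup G)) : G) * x := by
    intro x hx
    have := Subgroup.mem_center_iff.mp c0.2 ⟨x, hx⟩
    exact congrArg Subtype.val this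
  set c : G := ((c0 : ↥(S0 : Subgroup G)) : G) with hcdef
  have hcS0 : c ∈ S0 := (c0 : ↥(S0 : Subgroup G)).2
  have hc1 : c ≠ 1 := by
    intro h
    apply hc0
    apply Subtype.ext
    apply Subtype.ext
    exact h
  have hcCz : c ∈ Cz := by
    rw [hCz, Subgroup.mem_centralizer_singleton_iff]
    exact (hc0c z hzS0).symm
  set c' : ↥Cz := ⟨c, hcCz⟩ with hc'
  have hc'T : c' ∈ T := by
    have h0 : c' ∈ (S0 : Subgroup G).subgroupOf Cz := by
      rw [Subgroup.mem_subgroupOf]
      exact hcS0
    rw [hS'T] at h0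
    exact h0
  have hc'comm : ∀ t ∈ T, c' * t = t * c' := by
    intro t ht
    apply Subtype.ext
    exact (hc0c t (hTS t ht)).symm
  -- c' = z'
  have hcz : c = z := by
    rcases hkey c' (fun t ht => hc'comm t (hM1T ht)) (fun t ht => hc'comm t (hM2T ht)) with h | h
    · exfalso
      apply hc1
      have : c' = 1 := by
        apply e.injective
        rw [h, map_one]
      exact congrArg Subtype.val this
    · have : c' = z' := by
        apply e.injective
        rw [h, hez]
      exact congrArg Subtype.val this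
  -- S0 ≤ Cz
  have hS0Cz : ∀ x : G, x ∈ S0 → x ∈ Cz := by
    intro x hx
    rw [hCz, Subgroup.mem_centralizer_singleton_iff]
    have := hc0c x hx
    rw [hcz] at this
    exact this
  have hEq : TG = (S0 : Subgroup G) := by
    apply le_antisymm hS0
    intro x hx
    have hxT : (⟨x, hS0Cz x hx⟩ : ↥Cz) ∈ T := by
      have h0 : (⟨x, hS0Cz x hx⟩ : ↥Cz) ∈ (S0 : Subgroup G).subgroupOf Cz := by
        rw [Subgroup.mem_subgroupOf]
        exact hx
      rw [hS'T] at h0
      exact h0
    exact ⟨⟨x, hS0Cz x hx⟩, hxT, rfl⟩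
  rw [hEq]
  exact S0.not_dvd_index



/-- Let G be a finite group with an involution z whose centraliser C is isomorphic to the centraliser of a transvection of SL(5, 2). Then a Sylow 2-subgroup of C, viewed in G, is a Sylow 2-subgroup of G (its index in G is odd). -/
theorem result {G : Type*} [Group G] [Finite G] (s : Matrix.SpecialLinearGroup (Fin 5) (ZMod 2)) (hs : (s : Matrix (Fin 5) (Fin 5) (ZMod 2)) = Matrix.transvection 0 1 1) (z : G) (hz : orderOf z = 2) (e : (Subgroup.centralizer ({z} : Set G)) ≃* Subgroup.centralizer ({s} : Set (Matrix.SpecialLinearGroup (Fin 5) (ZMod 2)))) (T : Sylow 2 (Subgroup.centralizer ({z} : Set G))) : ¬ 2 ∣ ((T : Subgroup (Subgroup.centralizer ({z} : Set G))).map (Subgroup.subtype (Subgroup.centralizer ({z} : Set G)))).index :=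
  main s hs z hz _ rfl _ rfl e T

end Cfsg.Agent.S1717
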