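import Cfsg.Statements.S1754

set_option autoImplicit false
open Cfsg

namespace Cfsg.Agent.S1754

lemma map_center_equiv {H H' : Type*} [Group H] [Group H'] (e : H ≃* H') :
    (Subgroup.center H).map (e : H →* H') = Subgroup.center H' := by
  ext x
  constructor
  · rintro ⟨z, hz, rfl⟩
    rw [Subgroup.mem_center_iff]
    intro y'
    obtain ⟨y, rfl⟩ := e.surjective y'
    have hz' : ∀ g, g * z = z * g := Subgroup.mem_center_iff.mp hz
    change e y * e z = e z * e y
    rw [← map_mul, ← map_mul, hz' y]
  · intro hx
    refine Subgroup.mem_map.mpr ⟨e.symm x, ?_, by simp⟩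
    rw [Subgroup.mem_center_iff]
    intro y
    have hx' : ∀ g, g * x = x * g := Subgroup.mem_center_iff.mp hx
    apply e.injective
    rw [map_mul, map_mul, e.apply_symm_apply, hx']

lemma isQuasisimple_of_equiv {H H' : Type*} [Group H] [Group H'] (e : H ≃* H')
    (h : Cfsg.IsQuasisimple H) : Cfsg.IsQuasisimple H' := by
  obtain ⟨hp, hs⟩ := h
  refine ⟨?_, ?_⟩
  · exact Group.IsPerfect.ofSurjective (f := (e : H →* H')) e.surjective
  · have e' : H ⧸ Subgroup.center H ≃* H' ⧸ Subgroup.center H' :=
      QuotientGroup.congr _ _ e (map_center_equiv e)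
    exact e'.symm.isSimpleGroup

/-- Let A be a standard subgroup of the finite group G (A quasisimple, C_G(A) tightly embedded of even order, A commuting elementwise with no other conjugate of itself, and N_G(A) = N_G(C_G(A))), and let t be an involution of G centralizing A. Then the centralizer of t lies in the normalizer of A; in particular A, viewed inside C_G(t), is a component of C_G(t). -/
theorem result {G : Type*} [Group G] [Finite G]
    (A : Subgroup G) (hA : Cfsg.IsStandardSubgroup A) (t : G) (ht : orderOf t = 2) (htA : t ∈ Subgroup.centralizer (A : Set G)) :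
    Subgroup.centralizer ({t} : Set G) ≤ Subgroup.normalizer (A : Set G) ∧
      Cfsg.IsComponent (A.subgroupOf (Subgroup.centralizer ({t} : Set G))) := by
  obtain ⟨hq, ⟨_, htight⟩, _, hnorm⟩ := hA
  have h1 : Subgroup.centralizer ({t} : Set G) ≤ Subgroup.normalizer (A : Set G) := by
    intro g hg
    rw [hnorm]
    by_contra hgn
    have hodd := htight g hgn
    set K := Subgroup.centralizer (A : Set G) with hK
    have htg : g * t * g⁻¹ = t := by
      have := Subgroup.mem_centralizer_singleton_iff.mp hg
      -- this : g * t = t * g  (or its symmetric form)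
      calc g * t * g⁻¹ = t * g * g⁻¹ := by rw [this]
        _ = t := by group
    have hmem : t ∈ K ⊓ K.map (MulAut.conj g).toMonoidHom := by
      refine Subgroup.mem_inf.mpr ⟨htA, Subgroup.mem_map.mpr ⟨t, htA, ?_⟩⟩
      simpa [MulAut.conj_apply] using htg
    have h2 : orderOf (⟨t, hmem⟩ : ↥(K ⊓ K.map (MulAut.conj g).toMonoidHom)) = 2 := by
      rw [← ht]
      exact Subgroup.orderOf_mk t hmem
    have hdvd : 2 ∣ Nat.card ↥(K ⊓ K.map (MulAut.conj g).toMonoidHom) := by
      rw [← h2]; exact orderOf_dvd_natCard _
    exact (Nat.not_even_iff_odd.mpr hodd) (even_iff_two_dvd.mpr hdvd)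
  refine ⟨h1, ?_⟩
  have hle : A ≤ Subgroup.centralizer ({t} : Set G) := by
    intro a ha
    rw [Subgroup.mem_centralizer_singleton_iff]
    have := (Subgroup.mem_centralizer_iff.mp htA) a ha
    exact this
  refine ⟨?_, ?_⟩
  · have : (A.subgroupOf (Subgroup.centralizer ({t} : Set G))).Normal :=
      (Subgroup.normal_subgroupOf_iff_le_normalizer hle).mpr h1
    exact this.isSubnormal
  · exact isQuasisimple_of_equiv (Subgroup.subgroupOfEquivOfLe hle).symm hq

end Cfsg.Agent.S1754
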