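import Cfsg.Statements.S1755
import Cfsg.Agent.Lib.Helper9.Layer2

set_option autoImplicit false
open Cfsg

namespace Cfsg.Agent.S1755

/-- in a cyclic group there is at most one element of order 2 -/
theorem unique_involution_of_cyclic {A : Type*} [Group A] [Finite A] [IsCyclic A] (a b : A)
    (ha : orderOf a = 2) (hb : orderOf b = 2) : a = b := by
  classical
  by_contra hab
  haveI : Fintype A := Fintype.ofFinite A
  have hcard := IsCyclic.card_pow_eq_one_le (α := A) (n := 2) (by norm_num)
  have ha2 : a ^ 2 = 1 := by rw [← ha]; exact pow_orderOf_eq_one a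
  have hb2 : b ^ 2 = 1 := by rw [← hb]; exact pow_orderOf_eq_one b
  have ha1 : a ≠ 1 := by
    intro h; rw [h, orderOf_one] at ha; omega
  have hb1 : b ≠ 1 := by
    intro h; rw [h, orderOf_one] at hb; omega
  have hsub : ({1, a, b} : Finset A) ⊆ Finset.univ.filter (fun x : A => x ^ 2 = 1) := by
    intro x hx
    simp only [Finset.mem_insert, Finset.mem_singleton] at hx
    simp only [Finset.mem_filter, Finset.mem_univ, true_and]
    rcases hx with rfl | rfl | rfl
    · simp
    · exact ha2
    · exact hb2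
  have h3 : ({1, a, b} : Finset A).card = 3 := by
    rw [Finset.card_insert_of_notMem, Finset.card_insert_of_notMem, Finset.card_singleton]
    · simpa using hab
    · simp only [Finset.mem_insert, Finset.mem_singleton, not_or]
      exact ⟨fun h => ha1 h.symm, fun h => hb1 h.symm⟩
  have := Finset.card_le_card hsub
  omega

/-- an element of a finite 2-group different from 1 has a power of order 2, the exponent depending
only on the order -/
theorem exists_pow_orderOf_two {A : Type*} [Group A] [Finite A] (hA : IsPGroup 2 A) (x : A)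
    (hx : x ≠ 1) : orderOf (x ^ (orderOf x / 2)) = 2 := by
  haveI : Fact (Nat.Prime 2) := ⟨Nat.prime_two⟩
  obtain ⟨k, hk⟩ := (IsPGroup.iff_orderOf.mp hA) x
  have hk1 : k ≠ 0 := by
    rintro rfl
    rw [pow_zero, orderOf_eq_one_iff] at hk
    exact hx hk
  have hdvd : 2 ∣ orderOf x := by
    rw [hk]; exact dvd_pow_self 2 hk1
  exact orderOf_pow_orderOf_div (orderOf_pos x).ne' hdvd

theorem main {G : Type*} [Group G] [Finite G] (z : G) (hz : orderOf z = 2)
    (C : Subgroup G) (hmemC : ∀ x : G, x ∈ C ↔ x * z = z * x)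
    (Q : Subgroup ↥C) (hQn : Q.Normal) (hfit : Cfsg.fittingSubgroup ↥C ≤ Q)
    (hQ : Cfsg.IsOfSymplecticType ↥Q)
    (B : Subgroup ↥Q) (hBc : B.Characteristic) (hBa : IsMulCommutative ↥B) (g : G) :
    ((B.map Q.subtype).map C.subtype).map (MulAut.conj g).toMonoidHom =
        (B.map Q.subtype).map C.subtype ∨
      ((B.map Q.subtype).map C.subtype).map (MulAut.conj g).toMonoidHom ⊓
        (B.map Q.subtype).map C.subtype = ⊥ := by
  classical
  set BG := (B.map Q.subtype).map C.subtype with hBG
  have memBG : ∀ x : G, x ∈ BG ↔ ∃ b : ↥Q, b ∈ B ∧ ((b : ↥C) : G) = x := by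
    intro x
    constructor
    · intro hx
      obtain ⟨y, hy, rfl⟩ := Subgroup.mem_map.mp hx
      obtain ⟨b, hb, rfl⟩ := Subgroup.mem_map.mp hy
      exact ⟨b, hb, rfl⟩
    · rintro ⟨b, hb, rfl⟩
      exact Subgroup.mem_map.mpr ⟨(b : ↥C), Subgroup.mem_map.mpr ⟨b, hb, rfl⟩, rfl⟩
  -- z as an element of C and of Q
  have hzC : z ∈ C := (hmemC z).mpr rfl
  set zC : ↥C := ⟨z, hzC⟩ with hzCdef
  have hzCcent : ∀ c : ↥C, c * zC = zC * c := by
    intro c
    apply Subtype.ext
    exact (hmemC c).mp c.2
  have hzQ : zC ∈ Q := by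
    have hn : (Subgroup.zpowers zC).Normal := by
      constructor
      intro n hn c
      obtain ⟨k, rfl⟩ := Subgroup.mem_zpowers_iff.mp hn
      have : c * zC ^ k * c⁻¹ = zC ^ k := by
        have h1 : Commute c zC := hzCcent c
        have h2 : Commute c (zC ^ k) := h1.zpow_right k
        rw [h2.eq]; group
      rw [this]; exact Subgroup.zpow_mem_zpowers zC k
    have hnil : Group.IsNilpotent ↥(Subgroup.zpowers zC) :=
      Cfsg.Agent.Lib.Helper9.isNilpotent_of_isMulCommutative
    exact hfit (Cfsg.Agent.Lib.Helper1.le_fittingSubgroup hn hnil (Subgroup.mem_zpowers zC))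
  set zQ : ↥Q := ⟨zC, hzQ⟩ with hzQdef
  have hzQord : orderOf zQ = 2 := by
    rw [← hz]
    have h1 : orderOf zQ = orderOf (zQ : ↥C) := (Subgroup.orderOf_coe zQ).symm
    have h2 : orderOf zC = orderOf (zC : G) := (Subgroup.orderOf_coe zC).symm
    rw [h1]; exact h2
  have hzQcent : zQ ∈ Subgroup.center ↥Q := by
    rw [Subgroup.mem_center_iff]
    intro q
    apply Subtype.ext
    exact hzCcent (q : ↥C)
  -- the centre of Q is cyclic
  have hZcyc : IsCyclic ↥(Subgroup.center ↥Q) := hQ.2 _ inferInstance inferInstance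
  have hBcyc : IsCyclic ↥B := hQ.2 B hBc hBa
  -- an involution of B is z
  have hinvB : ∀ b : ↥Q, b ∈ B → orderOf b = 2 → b = zQ := by
    intro b hb hbo
    -- b is central in Q
    have hbcent : b ∈ Subgroup.center ↥Q := by
      rw [Subgroup.mem_center_iff]
      intro q
      have hmap : B.map (MulAut.conj q).toMonoidHom = B :=
        (Subgroup.characteristic_iff_map_eq.mp hBc) (MulAut.conj q)
      have hqb : q * b * q⁻¹ ∈ B := by
        rw [← hmap]
        exact Subgroup.mem_map.mpr ⟨b, hb, by simp [MulAut.conj_apply]⟩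
      have ho : orderOf (q * b * q⁻¹) = 2 := by
        rw [← hbo]
        have : q * b * q⁻¹ = (MulAut.conj q) b := by simp [MulAut.conj_apply]
        rw [this]
        exact MulEquiv.orderOf_eq (MulAut.conj q) b
      have h1 : (⟨q * b * q⁻¹, hqb⟩ : ↥B) = ⟨b, hb⟩ := by
        apply unique_involution_of_cyclic
        · rw [← ho]; exact (Subgroup.orderOf_mk _ _)
        · rw [← hbo]; exact (Subgroup.orderOf_mk _ _)
      have h2 : q * b * q⁻¹ = b := congrArg Subtype.val h1
      calc q * b = (q * b * q⁻¹) * q := by group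
        _ = b * q := by rw [h2]
    have h1 : (⟨b, hbcent⟩ : ↥(Subgroup.center ↥Q)) = ⟨zQ, hzQcent⟩ := by
      apply unique_involution_of_cyclic
      · rw [← hbo]; exact (Subgroup.orderOf_mk _ _)
      · rw [← hzQord]; exact (Subgroup.orderOf_mk _ _)
    exact congrArg Subtype.val h1
  have hQ2 : IsPGroup 2 ↥Q := hQ.1
  -- nontrivial elements of BG have z as the specified power
  have hpowz : ∀ x : G, x ∈ BG → x ≠ 1 → x ^ (orderOf x / 2) = z := by
    intro x hx hx1
    obtain ⟨b, hb, rfl⟩ := (memBG x).mp hx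
    have hb1 : b ≠ 1 := by
      intro h; apply hx1; rw [h]; rfl
    have hord : orderOf (((b : ↥C) : G)) = orderOf b := by
      rw [Subgroup.orderOf_coe, Subgroup.orderOf_coe]
    rw [hord]
    have h2 := exists_pow_orderOf_two hQ2 b hb1
    have h3 := hinvB _ (Subgroup.pow_mem B hb _) h2
    have h4 := congrArg (fun q : ↥Q => ((q : ↥C) : G)) h3
    simpa using h4
  by_cases hdisj : BG.map (MulAut.conj g).toMonoidHom ⊓ BG = ⊥
  · right; exact hdisj
  · left
    obtain ⟨x, hx, hx1⟩ : ∃ x ∈ BG.map (MulAut.conj g).toMonoidHom ⊓ BG, x ≠ 1 := by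
      by_contra hcon
      push Not at hcon
      exact hdisj ((Subgroup.eq_bot_iff_forall _).mpr hcon)
    obtain ⟨hxg, hxB⟩ := Subgroup.mem_inf.mp hx
    obtain ⟨y, hy, hyx⟩ := Subgroup.mem_map.mp hxg
    have hyx' : g * y * g⁻¹ = x := by simpa [MulAut.conj_apply] using hyx
    have hy1 : y ≠ 1 := by
      intro h; apply hx1; rw [← hyx', h]; group
    have hordxy : orderOf x = orderOf y := by
      rw [← hyx']
      have : g * y * g⁻¹ = (MulAut.conj g) y := by simp [MulAut.conj_apply]
      rw [this]
      exact MulEquiv.orderOf_eq (MulAut.conj g) y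
    have h1 := hpowz x hxB hx1
    have h2 := hpowz y hy hy1
    -- g centralizes z
    have hgz : g * z * g⁻¹ = z := by
      have h3 : g * y ^ (orderOf y / 2) * g⁻¹ = (g * y * g⁻¹) ^ (orderOf y / 2) := by
        rw [conj_pow]
      rw [h2, hyx', ← hordxy, h1] at h3
      exact h3
    have hgC : g ∈ C := by
      rw [hmemC]
      calc g * z = (g * z * g⁻¹) * g := by group
        _ = z * g := by rw [hgz]
    -- conjugation by g preserves B
    set gC : ↥C := ⟨g, hgC⟩ with hgCdef
    have hmap : B.map (MulAut.conjNormal gC : ↥Q ≃* ↥Q).toMonoidHom = B :=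
      (Subgroup.characteristic_iff_map_eq.mp hBc) (MulAut.conjNormal gC)
    have hmapinv : B.map (MulAut.conjNormal gC⁻¹ : ↥Q ≃* ↥Q).toMonoidHom = B :=
      (Subgroup.characteristic_iff_map_eq.mp hBc) (MulAut.conjNormal gC⁻¹)
    apply le_antisymm
    · intro w hw
      obtain ⟨v, hv, hvw⟩ := Subgroup.mem_map.mp hw
      obtain ⟨b, hb, rfl⟩ := (memBG v).mp hv
      have hw' : g * ((b : ↥C) : G) * g⁻¹ = w := by simpa [MulAut.conj_apply] using hvw
      rw [memBG]
      refine ⟨(MulAut.conjNormal gC) b, ?_, ?_⟩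
      · rw [← hmap]; exact Subgroup.mem_map.mpr ⟨b, hb, rfl⟩
      · rw [← hw']
        have := MulAut.conjNormal_apply gC b
        rw [this]; rfl
    · intro w hw
      obtain ⟨b, hb, rfl⟩ := (memBG w).mp hw
      refine Subgroup.mem_map.mpr ⟨g⁻¹ * ((b : ↥C) : G) * g, ?_, ?_⟩
      · rw [memBG]
        refine ⟨(MulAut.conjNormal gC⁻¹) b, ?_, ?_⟩
        · rw [← hmapinv]; exact Subgroup.mem_map.mpr ⟨b, hb, rfl⟩
        · have := MulAut.conjNormal_apply gC⁻¹ b
          rw [this]
          simp [hgCdef]
      · simp only [MulEquiv.coe_toMonoidHom, MulAut.conj_apply]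
        group

/-- Let G be a finite group and let z be an involution of G such that Q, the generalized Fitting subgroup of the centralizer C of z, is a 2-group of symplectic type (every characteristic abelian subgroup of Q is cyclic). Let B be a characteristic abelian subgroup of Q, viewed as a subgroup of G. Then for every g in G, the conjugate of B by g either equals B or meets B trivially. -/
theorem result {G : Type*} [Group G] [Finite G] (z : G) (hz : orderOf z = 2) (hQ : Cfsg.IsOfSymplecticType ↥(Cfsg.generalizedFittingSubgroup ↥(Subgroup.centralizer ({z} : Set G))))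
    (B : Subgroup ↥(Cfsg.generalizedFittingSubgroup ↥(Subgroup.centralizer ({z} : Set G)))) (hBc : B.Characteristic) (hBa : IsMulCommutative ↥B) (g : G) :
    ((B.map (Cfsg.generalizedFittingSubgroup ↥(Subgroup.centralizer ({z} : Set G))).subtype).map (Subgroup.centralizer ({z} : Set G)).subtype).map (MulAut.conj g).toMonoidHom =
        (B.map (Cfsg.generalizedFittingSubgroup ↥(Subgroup.centralizer ({z} : Set G))).subtype).map (Subgroup.centralizer ({z} : Set G)).subtype ∨
      ((B.map (Cfsg.generalizedFittingSubgroup ↥(Subgroup.centralizer ({z} : Set G))).subtype).map (Subgroup.centralizer ({z} : Set G)).subtype).map (MulAut.conj g).toMonoidHom ⊓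
        (B.map (Cfsg.generalizedFittingSubgroup ↥(Subgroup.centralizer ({z} : Set G))).subtype).map (Subgroup.centralizer ({z} : Set G)).subtype = ⊥ := by
  refine main z hz _ ?_ _ Cfsg.Agent.Lib.Helper9.gfs_normal Cfsg.Agent.Lib.Helper9.fitting_le_gfs
    hQ B hBc hBa g
  intro x
  rw [Subgroup.mem_centralizer_iff]
  constructor
  · intro h
    exact (h z rfl).symm
  · intro h y hy
    rw [Set.mem_singleton_iff] at hy
    rw [hy]; exact h.symm

end Cfsg.Agent.S1755
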