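-- Statement S5395. The statement below is byte-identical to the frozen statement.
import Cfsg.Statements.S5395

set_option autoImplicit false
open Cfsg

namespace Cfsg.Agent.S5395

theorem enoughRoots : HasEnoughRootsOfUnity ℤ 2 :=
  ⟨⟨-1, IsPrimitiveRoot.neg_one 0 (by norm_num)⟩, inferInstance⟩

/-- For a finite extraspecial 2-group E, an automorphism of E that induces the identity on E modulo its centre is inner (so these automorphisms form exactly the inner automorphism group, an elementary abelian 2-group of order |E|/2). -/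
theorem result {E : Type*} [Group E] [Finite E] (hE : Cfsg.IsExtraspecial 2 E) (φ : E ≃* E) (hφ : ∀ x : E, φ x * x⁻¹ ∈ Subgroup.center E) : ∃ g : E, ∀ x : E, φ x = g * x * g⁻¹ := by
  classical
  obtain ⟨⟨hp, hfrat, hcomm⟩, hcard⟩ := hE
  have : Fact (Nat.Prime 2) := ⟨Nat.prime_two⟩
  -- commutators are central
  have hc : ∀ g x : E, g * x * g⁻¹ * x⁻¹ ∈ Subgroup.center E := by
    intro g x
    rw [← hcomm, commutator_def, ← commutatorElement_def]
    exact Subgroup.commutator_mem_commutator (Subgroup.mem_top g) (Subgroup.mem_top x)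
  have hcen : ∀ z ∈ Subgroup.center E, ∀ y : E, y * z = z * y := by
    intro z hz y
    exact (Subgroup.mem_center_iff.mp hz y)
  -- central elements square to 1
  have hz2 : ∀ z ∈ Subgroup.center E, z * z = 1 := by
    intro z hz
    have : (⟨z, hz⟩ : Subgroup.center E) ^ Nat.card (Subgroup.center E) = 1 := pow_card_eq_one'
    rw [hcard] at this
    have := congrArg Subtype.val this
    simpa [sq] using this
  -- squares are central
  have hx2 : ∀ x : E, x ^ 2 ∈ Subgroup.center E := by
    intro x
    rw [Subgroup.mem_center_iff]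
    intro y
    set c := y * x * y⁻¹ * x⁻¹ with hcdef
    have hcZ : c ∈ Subgroup.center E := hc y x
    have h1 : y * x = c * x * y := by rw [hcdef]; group
    have h2 : x * c = c * x := hcen c hcZ x
    calc y * x ^ 2 = (y * x) * x := by rw [sq]; group
      _ = c * x * y * x := by rw [h1]
      _ = c * x * (y * x) := by group
      _ = c * x * (c * x * y) := by rw [h1]
      _ = c * (x * c) * x * y := by group
      _ = c * (c * x) * x * y := by rw [h2]
      _ = (c * c) * x * x * y := by group
      _ = x ^ 2 * y := by rw [hz2 c hcZ, sq]; group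
  -- exponent of the abelianization divides 2
  have hexp : Monoid.exponent (Abelianization E) ∣ 2 := by
    apply Monoid.exponent_dvd_of_forall_pow_eq_one
    intro v
    obtain ⟨x, rfl⟩ := QuotientGroup.mk_surjective v
    have : x ^ 2 ∈ commutator E := by rw [hcomm]; exact hx2 x
    have h1 : (Abelianization.of (x ^ 2) : Abelianization E) = 1 := by
      rw [← MonoidHom.mem_ker, Abelianization.ker_of]; exact this
    rw [map_pow] at h1
    exact h1
  have : HasEnoughRootsOfUnity ℤ (Monoid.exponent (Abelianization E)) := by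
    have := enoughRoots
    exact HasEnoughRootsOfUnity.of_dvd ℤ hexp
  have hcardH : Nat.card (E →* ℤˣ) = Nat.card (Abelianization E) := by
    rw [Nat.card_congr (Abelianization.lift (G := E) (A := ℤˣ))]
    exact CommGroup.card_monoidHom_of_hasEnoughRootsOfUnity (Abelianization E) ℤ
  have hcardA : Nat.card (Abelianization E) * 2 = Nat.card E := by
    have := Subgroup.card_eq_card_quotient_mul_card_subgroup (commutator E)
    have h2 : Nat.card (commutator E) = 2 := by rw [hcomm]; exact hcard
    rw [h2] at this
    rw [this]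
    rfl
  -- iso of centre with ℤˣ
  have hcardU : Nat.card ℤˣ = 2 := by
    rw [Nat.card_eq_fintype_card]; rfl
  let ι : Subgroup.center E ≃* ℤˣ := mulEquivOfPrimeCardEq hcard hcardU
  -- commutator maps
  let cmap : E → E →* Subgroup.center E := fun g =>
    { toFun := fun x => ⟨g * x * g⁻¹ * x⁻¹, hc g x⟩
      map_one' := by apply Subtype.ext; simp
      map_mul' := by
        intro x y
        apply Subtype.ext
        show g * (x * y) * g⁻¹ * (x * y)⁻¹ = (g * x * g⁻¹ * x⁻¹) * (g * y * g⁻¹ * y⁻¹)
        have h := hcen _ (hc g y) x⁻¹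
        calc g * (x * y) * g⁻¹ * (x * y)⁻¹ = g * x * g⁻¹ * ((g * y * g⁻¹ * y⁻¹) * x⁻¹) := by group
          _ = g * x * g⁻¹ * (x⁻¹ * (g * y * g⁻¹ * y⁻¹)) := by rw [h]
          _ = _ := by group }
  let Ψ : E →* (E →* ℤˣ) :=
    { toFun := fun g => ι.toMonoidHom.comp (cmap g)
      map_one' := by
        ext x
        have : cmap 1 x = 1 := by apply Subtype.ext; simp [cmap]
        simp [this]
      map_mul' := by
        intro g g'
        ext x
        have : cmap (g * g') x = cmap g x * cmap g' x := by
          apply Subtype.ext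
          show g * g' * x * (g * g')⁻¹ * x⁻¹ = (g * x * g⁻¹ * x⁻¹) * (g' * x * g'⁻¹ * x⁻¹)
          have h := hcen _ (hc g' x) g
          calc g * g' * x * (g * g')⁻¹ * x⁻¹ = (g * (g' * x * g'⁻¹ * x⁻¹)) * x * g⁻¹ * x⁻¹ := by group
            _ = ((g' * x * g'⁻¹ * x⁻¹) * g) * x * g⁻¹ * x⁻¹ := by rw [h]
            _ = (g' * x * g'⁻¹ * x⁻¹) * (g * x * g⁻¹ * x⁻¹) := by group
            _ = _ := (hcen _ (hc g' x) _).symm
        simp [this] }
  -- kernel of Ψ is the centre
  have hker : Ψ.ker = Subgroup.center E := by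
    ext g
    rw [MonoidHom.mem_ker, Subgroup.mem_center_iff]
    constructor
    · intro h x
      have h1 : Ψ g x = 1 := by rw [h]; rfl
      have h2 : ι (cmap g x) = 1 := h1
      have h3 : cmap g x = 1 := by simpa using h2
      have h4 : g * x * g⁻¹ * x⁻¹ = 1 := congrArg Subtype.val h3
      calc x * g = (g * x * g⁻¹ * x⁻¹)⁻¹ * (g * x) := by group
        _ = g * x := by rw [h4]; simp
    · intro h
      apply MonoidHom.ext
      intro x
      have h3 : cmap g x = 1 := by
        apply Subtype.ext
        show g * x * g⁻¹ * x⁻¹ = 1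
        rw [← h x]; group
      show ι (cmap g x) = 1
      rw [h3]; simp
  -- Ψ is surjective
  have hsurj : Ψ.range = ⊤ := by
    rw [← Subgroup.card_eq_iff_eq_top, ← Subgroup.index_ker, hker, hcardH]
    have h1 := Subgroup.index_mul_card (Subgroup.center E)
    rw [hcard] at h1
    have : (Subgroup.center E).index * 2 = Nat.card (Abelianization E) * 2 := by rw [h1, hcardA]
    omega
  -- the map f
  let f : E →* Subgroup.center E :=
    { toFun := fun x => ⟨φ x * x⁻¹, hφ x⟩
      map_one' := by apply Subtype.ext; simp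
      map_mul' := by
        intro x y
        apply Subtype.ext
        show φ (x * y) * (x * y)⁻¹ = (φ x * x⁻¹) * (φ y * y⁻¹)
        have h := hcen _ (hφ y) x⁻¹
        rw [map_mul]
        calc φ x * φ y * (x * y)⁻¹ = φ x * ((φ y * y⁻¹) * x⁻¹) := by group
          _ = φ x * (x⁻¹ * (φ y * y⁻¹)) := by rw [h]
          _ = _ := by group }
  have hmem : ι.toMonoidHom.comp f ∈ Ψ.range := by rw [hsurj]; trivial
  obtain ⟨g, hg⟩ := hmem
  refine ⟨g, fun x => ?_⟩
  have h1 : Ψ g x = (ι.toMonoidHom.comp f) x := by rw [hg]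
  have h2 : ι (cmap g x) = ι (f x) := h1
  have h3 : cmap g x = f x := ι.injective h2
  have h4 : g * x * g⁻¹ * x⁻¹ = φ x * x⁻¹ := congrArg Subtype.val h3
  exact (mul_right_cancel h4).symm

end Cfsg.Agent.S5395
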