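import Cfsg.Statements.S1756
import Cfsg.Agent.S5395

set_option autoImplicit false
open Cfsg

namespace Cfsg.Agent.S1756

open Subgroup
open scoped commutatorElement

section Aux

variable {G : Type*} [Group G]

/-- If `C_Q(t)` has the parity property of an index-two subgroup, then every commutator
`[t, a]`, `a ∈ Q`, is central in `Q`. -/
theorem comm_central (Q : Subgroup G) (hQ2 : IsPGroup 2 Q) (t : G) (ht2 : t * t = 1)
    (htN : t ∈ normalizer (Q : Set G))
    (hpar : ∀ x ∈ Q, ∀ y ∈ Q, (t * (x * y) = (x * y) * t ↔ (t * x = x * t ↔ t * y = y * t)))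
    {a : G} (ha : a ∈ Q) : ∀ y ∈ Q, ⁅t, a⁆ * y = y * ⁅t, a⁆ := by
  have htinv : t⁻¹ = t := inv_eq_of_mul_eq_one_left ht2
  by_cases haC : t * a = a * t
  · intro y _
    have : ⁅t, a⁆ = 1 := commutatorElement_eq_one_iff_mul_comm.mpr haC
    rw [this, one_mul, mul_one]
  obtain ⟨c, hc⟩ : ∃ c : G, c = ⁅t, a⁆ := ⟨_, rfl⟩
  rw [← hc]
  have hcdef : c = t * a * t * a⁻¹ := by rw [hc, commutatorElement_def, htinv]
  have hcQ : c ∈ Q := by
    rw [hc, commutatorElement_def]
    exact mul_mem ((mem_normalizer_iff.mp htN a).mp ha) (inv_mem ha)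
  have hainv : ¬ t * a⁻¹ = a⁻¹ * t := by
    intro h
    apply haC
    have h1 : Commute t a⁻¹ := h
    have := h1.inv_right
    rw [inv_inv] at this
    exact this.eq
  -- F1
  have F1 : ∀ x ∈ Q, t * x = x * t → c * x = x * c := by
    intro x hx hxt
    have hu : t * (a⁻¹ * x * a) = (a⁻¹ * x * a) * t := by
      have h1 := (hpar (a⁻¹ * x) (mul_mem (inv_mem ha) hx) a ha)
      have h2 := (hpar a⁻¹ (inv_mem ha) x hx)
      rw [h1, h2]
      simp [hainv, hxt, haC]
    have h3 : c * x * c⁻¹ = x := by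
      calc c * x * c⁻¹ = t * a * (t * (a⁻¹ * x * a)) * t * a⁻¹ * t := by
            rw [hcdef]
            have : (t * a * t * a⁻¹)⁻¹ = a * t⁻¹ * a⁻¹ * t⁻¹ := by group
            rw [this, htinv]; group
        _ = t * a * ((a⁻¹ * x * a) * t) * t * a⁻¹ * t := by rw [hu]
        _ = t * x * a * (t * t) * a⁻¹ * t := by group
        _ = (t * x) * t := by rw [ht2, mul_one]; group
        _ = x * (t * t) := by rw [hxt, mul_assoc]
        _ = x := by rw [ht2, mul_one]
    calc c * x = (c * x * c⁻¹) * c := by group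
      _ = x * c := by rw [h3]
  -- F2 : t c t⁻¹ = c⁻¹
  have F2 : t * c * t = c⁻¹ := by
    rw [hcdef]
    have : (t * a * t * a⁻¹)⁻¹ = a * t⁻¹ * a⁻¹ * t⁻¹ := by group
    rw [this, htinv]
    calc t * (t * a * t * a⁻¹) * t = (t * t) * a * t * a⁻¹ * t := by group
      _ = a * t * a⁻¹ * t := by rw [ht2, one_mul]
  -- F3 : a c a⁻¹ = c⁻¹
  have F3 : a * c * a⁻¹ = c⁻¹ := by
    have hsq : t * (a * a) = (a * a) * t := by
      rw [hpar a ha a ha]
    have h1 : c * a = t * a * t := by rw [hcdef]; group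
    have h2 : (c * a) * (c * a) = a * a := by
      rw [h1]
      calc t * a * t * (t * a * t) = t * a * (t * t) * a * t := by group
        _ = t * (a * a) * t := by rw [ht2, mul_one]; group
        _ = (a * a) * (t * t) := by rw [hsq]; group
        _ = a * a := by rw [ht2, mul_one]
    have h3 : c * (a * c * a⁻¹) = 1 := by
      calc c * (a * c * a⁻¹) = ((c * a) * (c * a)) * a⁻¹ * a⁻¹ := by group
        _ = 1 := by rw [h2]; group
    exact eq_inv_of_mul_eq_one_right h3
  by_cases hcC : t * c = c * t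
  · -- c is an involution commuting with a
    have hcinv : c⁻¹ = c := by
      rw [← F2, hcC, mul_assoc, ht2, mul_one]
    have hca : a * c = c * a := by
      have := F3
      rw [hcinv] at this
      calc a * c = (a * c * a⁻¹) * a := by group
        _ = c * a := by rw [this]
    intro y hy
    by_cases hyC : t * y = y * t
    · exact F1 y hy hyC
    · have hx : t * (a⁻¹ * y) = (a⁻¹ * y) * t := by
        rw [hpar a⁻¹ (inv_mem ha) y hy]
        simp [hainv, hyC]
      have h1 := F1 (a⁻¹ * y) (mul_mem (inv_mem ha) hy) hx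
      calc c * y = (c * a) * (a⁻¹ * y) := by group
        _ = a * (c * (a⁻¹ * y)) := by rw [← hca]; group
        _ = a * ((a⁻¹ * y) * c) := by rw [h1]
        _ = y * c := by group
  · exfalso
    have hx : t * (a⁻¹ * c) = (a⁻¹ * c) * t := by
      rw [hpar a⁻¹ (inv_mem ha) c hcQ]
      simp [hainv, hcC]
    -- t c t = (t a t)(t (a⁻¹ c) t) = c a (a⁻¹ c) = c c
    have h1 : t * c * t = c * c := by
      have h2 : c * a = t * a * t := by rw [hcdef]; group
      calc t * c * t = (t * a * t) * (t * (a⁻¹ * c)) * t := by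
            have : t * a * t * (t * (a⁻¹ * c)) * t = t * a * (t * t) * (a⁻¹ * c) * t := by group
            rw [this, ht2]; group
        _ = (c * a) * ((a⁻¹ * c) * t) * t := by rw [h2, hx]
        _ = c * c * (t * t) := by group
        _ = c * c := by rw [ht2, mul_one]
    have h3 : c ^ 3 = 1 := by
      have : c * (c * c) = 1 := by rw [← h1, F2, mul_inv_cancel]
      rw [← this]; simp [pow_succ, mul_assoc]
    obtain ⟨k, hk⟩ := hQ2 ⟨c, hcQ⟩
    have hk' : c ^ (2 ^ k) = 1 := by
      have := congrArg Subtype.val hk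
      simpa using this
    have h4 : orderOf c ∣ 3 := orderOf_dvd_of_pow_eq_one h3
    have h5 : orderOf c ∣ 2 ^ k := orderOf_dvd_of_pow_eq_one hk'
    have h6 : Nat.Coprime (2 ^ k) 3 := Nat.Coprime.pow_left k (by norm_num)
    have h7 : orderOf c = 1 := Nat.eq_one_of_dvd_coprimes h6 h5 h4
    have h8 : c = 1 := orderOf_eq_one_iff.mp h7
    apply hcC
    rw [h8, mul_one, one_mul]

end Aux

theorem result {G : Type*} [Group G] [Finite G] (Q : Subgroup G)
    (hQ : Cfsg.IsExtraspecial 2 ↥Q) (t : G) (ht : orderOf t = 2) (htN : t ∈ Subgroup.normalizer (Q : Set G))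
    (hi : (Subgroup.centralizer ({t} : Set G) ⊓ Q).relIndex Q ≤ 2) :
    t ∈ Q ⊔ Subgroup.centralizer (Q : Set G) := by
  have ht2 : t * t = 1 := by rw [← pow_two, ← ht]; exact pow_orderOf_eq_one t
  have hQ2 : IsPGroup 2 ↥Q := hQ.1.1
  -- all commutators [t, a] are central in Q
  have hcent : ∀ a ∈ Q, ∀ y ∈ Q, ⁅t, a⁆ * y = y * ⁅t, a⁆ := by
    have hne : (Subgroup.centralizer ({t} : Set G) ⊓ Q).relIndex Q ≠ 0 := by
      rw [Subgroup.relIndex]; exact Subgroup.index_ne_zero_of_finite
    have h12 : (Subgroup.centralizer ({t} : Set G) ⊓ Q).relIndex Q = 1 ∨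
        (Subgroup.centralizer ({t} : Set G) ⊓ Q).relIndex Q = 2 := by omega
    rcases h12 with h1 | h2
    · intro a ha y _
      have h3 := (Subgroup.relIndex_eq_one.mp h1) ha
      have h4 : a * t = t * a := Subgroup.mem_centralizer_singleton_iff.mp (Subgroup.mem_inf.mp h3).1
      have : ⁅t, a⁆ = 1 := commutatorElement_eq_one_iff_mul_comm.mpr h4.symm
      rw [this, one_mul, mul_one]
    · intro a ha
      apply comm_central Q hQ2 t ht2 htN _ ha
      intro x hx y hy
      have h3 := Subgroup.mul_mem_iff_of_index_two (H := (Subgroup.centralizer ({t} : Set G) ⊓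
        Q).subgroupOf Q) h2 (a := ⟨x, hx⟩) (b := ⟨y, hy⟩)
      simp only [Subgroup.mem_subgroupOf, Subgroup.coe_mul, Subgroup.mem_inf,
        Subgroup.mem_centralizer_singleton_iff] at h3
      have e : ∀ z ∈ Q, (z * t = t * z ∧ z ∈ Q) ↔ t * z = z * t := fun z hz =>
        ⟨fun h => h.1.symm, fun h => ⟨h.symm, hz⟩⟩
      rw [e _ (mul_mem hx hy), e x hx, e y hy] at h3
      exact h3
  -- the automorphism induced by t
  have hmap : Q.map (MulAut.conj t).toMonoidHom = Q := by
    ext x
    constructor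
    · rintro ⟨y, hy, rfl⟩
      exact (Subgroup.mem_normalizer_iff.mp htN y).mp hy
    · intro hx
      refine ⟨t⁻¹ * x * t, ?_, by simp [mul_assoc]⟩
      have := (Subgroup.mem_normalizer_iff.mp (inv_mem htN) x).mp hx
      simpa using this
  let φ : ↥Q ≃* ↥Q := (Q.equivMapOfInjective (MulAut.conj t).toMonoidHom
    (MulAut.conj t).injective).trans (MulEquiv.subgroupCongr hmap)
  have hφ : ∀ x : ↥Q, ((φ x : ↥Q) : G) = t * (x : G) * t⁻¹ := fun x => rfl
  obtain ⟨g, hg⟩ := Cfsg.Agent.S5395.result hQ φ (by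
    intro x
    rw [Subgroup.mem_center_iff]
    intro y
    apply Subtype.ext
    have := hcent x x.2 y y.2
    simp only [Subgroup.coe_mul, hφ, Subgroup.coe_inv]
    rw [commutatorElement_def] at this
    exact this.symm)
  have hgc : (g : G)⁻¹ * t ∈ Subgroup.centralizer (Q : Set G) := by
    rw [Subgroup.mem_centralizer_iff]
    intro x hx
    have h1 := congrArg Subtype.val (hg ⟨x, hx⟩)
    rw [hφ] at h1
    simp only [Subgroup.coe_mul, Subgroup.coe_inv] at h1
    calc x * ((g : G)⁻¹ * t) = (g : G)⁻¹ * ((g : G) * x * (g : G)⁻¹) * t := by group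
      _ = (g : G)⁻¹ * (t * x * t⁻¹) * t := by rw [h1]
      _ = (g : G)⁻¹ * t * x := by group
  have : t = (g : G) * ((g : G)⁻¹ * t) := by group
  rw [this]
  exact mul_mem (Subgroup.mem_sup_left g.2) (Subgroup.mem_sup_right hgc)

end Cfsg.Agent.S1756
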