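import Cfsg.Statements.S1757

set_option autoImplicit false
open Cfsg
open scoped commutatorElement

namespace Cfsg.Agent.S1757

/-- Let p be a prime and A, B p-subgroups of the finite group G, each of which meets every conjugate of itself other than itself trivially. Suppose the order of A is at most that of B, A and B intersect trivially, and B normalizes A. Then A and B commute elementwise. -/
theorem result {G : Type*} [Group G] [Finite G] (p : ℕ) [Fact p.Prime] (A B : Subgroup G)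
    (hA : IsPGroup p ↥A) (hB : IsPGroup p ↥B)
    (hAti : ∀ g : G, A.map (MulAut.conj g).toMonoidHom = A ∨ A.map (MulAut.conj g).toMonoidHom ⊓ A = ⊥)
    (hBti : ∀ g : G, B.map (MulAut.conj g).toMonoidHom = B ∨ B.map (MulAut.conj g).toMonoidHom ⊓ B = ⊥)
    (hle : Nat.card ↥A ≤ Nat.card ↥B) (hAB : A ⊓ B = ⊥) (hN : B ≤ Subgroup.normalizer (A : Set G)) : ⁅A, B⁆ = ⊥ := by
  -- B normalizes A, elementwise
  have hnorm : ∀ b ∈ B, ∀ a ∈ A, b * a * b⁻¹ ∈ A := by
    intro b hb a ha
    exact (Subgroup.mem_normalizer_iff.mp (hN hb) a).mp ha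
  -- Step 1: every element of A normalizes B
  have step1 : ∀ a ∈ A, B.map (MulAut.conj a).toMonoidHom = B := by
    intro a ha
    rcases hBti a with h | h
    · exact h
    · -- the counting argument
      let f : B × B → A × B := fun x =>
        (⟨a * (x.1.1 * a⁻¹ * x.1.1⁻¹), A.mul_mem ha (hnorm x.1.1 x.1.2 a⁻¹ (A.inv_mem ha))⟩, x.1 * x.2)
      have hf : Function.Injective f := by
        rintro ⟨b₁, b₂⟩ ⟨b₁', b₂'⟩ hxy
        simp only [f, Prod.mk.injEq, Subtype.mk.injEq] at hxy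
        obtain ⟨h1, h2⟩ := hxy
        have h1' : b₁.1 * a⁻¹ * b₁.1⁻¹ = b₁'.1 * a⁻¹ * b₁'.1⁻¹ := mul_left_cancel h1
        -- c = b₁'⁻¹ b₁ commutes with a
        have hc : a * (b₁'.1⁻¹ * b₁.1) * a⁻¹ = b₁'.1⁻¹ * b₁.1 := by
          have e1 : b₁'.1⁻¹ * b₁.1 * a⁻¹ = a⁻¹ * (b₁'.1⁻¹ * b₁.1) := by
            calc b₁'.1⁻¹ * b₁.1 * a⁻¹ = b₁'.1⁻¹ * (b₁.1 * a⁻¹ * b₁.1⁻¹) * b₁.1 := by group
              _ = b₁'.1⁻¹ * (b₁'.1 * a⁻¹ * b₁'.1⁻¹) * b₁.1 := by rw [h1']
              _ = a⁻¹ * (b₁'.1⁻¹ * b₁.1) := by group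
          calc a * (b₁'.1⁻¹ * b₁.1) * a⁻¹ = a * (b₁'.1⁻¹ * b₁.1 * a⁻¹) := by group
            _ = a * (a⁻¹ * (b₁'.1⁻¹ * b₁.1)) := by rw [e1]
            _ = b₁'.1⁻¹ * b₁.1 := by group
        have hcB : b₁'.1⁻¹ * b₁.1 ∈ B := B.mul_mem (B.inv_mem b₁'.2) b₁.2
        have hmem : b₁'.1⁻¹ * b₁.1 ∈ B.map (MulAut.conj a).toMonoidHom ⊓ B := by
          refine Subgroup.mem_inf.mpr ⟨Subgroup.mem_map.mpr ⟨_, hcB, ?_⟩, hcB⟩
          simpa [MulAut.conj_apply] using hc
        rw [h, Subgroup.mem_bot] at hmem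
        have hb : b₁ = b₁' := by
          apply Subtype.ext
          have := inv_mul_eq_one.mp hmem
          exact this.symm
        subst hb
        have hb2 : b₂ = b₂' := mul_left_cancel h2
        rw [hb2]
      have hcard : Nat.card (B × B) ≤ Nat.card (A × B) := Nat.card_le_card_of_injective f hf
      rw [Nat.card_prod, Nat.card_prod] at hcard
      have hBpos : 0 < Nat.card B := Nat.card_pos
      have hBA : Nat.card B ≤ Nat.card A := Nat.le_of_mul_le_mul_right hcard hBpos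
      have heq : Nat.card A = Nat.card B := le_antisymm hle hBA
      have hbij : Function.Bijective f := by
        apply Function.Injective.bijective_of_nat_card_le hf
        rw [Nat.card_prod, Nat.card_prod, heq]
      obtain ⟨⟨b₁, b₂⟩, hb⟩ := hbij.2 (⟨a, ha⟩, 1)
      simp only [f, Prod.mk.injEq, Subtype.mk.injEq] at hb
      have ha1 : a = 1 := by
        have e : b₁.1 * a⁻¹ * b₁.1⁻¹ = 1 := by
          have := hb.1
          exact mul_left_cancel (this.trans (mul_one a).symm)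
        have e2 : a⁻¹ = 1 := by
          have : a⁻¹ = b₁.1⁻¹ * (b₁.1 * a⁻¹ * b₁.1⁻¹) * b₁.1 := by group
          rw [this, e]; group
        exact inv_eq_one.mp e2
      subst ha1
      ext x
      simp [Subgroup.mem_map]
  -- Step 2
  rw [eq_bot_iff, ← hAB, Subgroup.commutator_le]
  intro a ha b hb
  refine Subgroup.mem_inf.mpr ⟨?_, ?_⟩
  · have : ⁅a, b⁆ = a * (b * a⁻¹ * b⁻¹) := by rw [commutatorElement_def]; group
    rw [this]
    exact A.mul_mem ha (hnorm b hb a⁻¹ (A.inv_mem ha))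
  · have h1 : a * b * a⁻¹ ∈ B := by
      have : a * b * a⁻¹ ∈ B.map (MulAut.conj a).toMonoidHom := by
        rw [Subgroup.mem_map]
        exact ⟨b, hb, by simp [MulAut.conj_apply]⟩
      rwa [step1 a ha] at this
    rw [commutatorElement_def]
    exact B.mul_mem h1 (B.inv_mem hb)

end Cfsg.Agent.S1757
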