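import Cfsg.Statements.S1774
import Cfsg.Agent.Lib.Helper9.Layer2
import Cfsg.Agent.Lib.Helper1.Cores
import Cfsg.Agent.Lib.Helper10.S1774E
import Cfsg.Agent.Lib.Helper10.S1774F

set_option autoImplicit false
open Cfsg

namespace Cfsg.Agent.S1774

open Cfsg.Agent.Lib.Helper10.S1774

/-- the concrete configuration satisfies `SQ` -/
theorem sq_of {G : Type*} [Group G] [Finite G] (z : G) (hz : orderOf z = 2)
    (C : Subgroup G) (hmemC : ∀ x : G, x ∈ C ↔ x * z = z * x)
    (F : Subgroup ↥C) (hFn : F.Normal) (hfit : Cfsg.fittingSubgroup ↥C ≤ F)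
    (hFc : Subgroup.centralizer (F : Set ↥C) ≤ F)
    (hF : Cfsg.IsOfSymplecticType ↥F)
    (h4 : ∀ q ∈ F.map C.subtype, q ^ 4 = 1) : SQ (F.map C.subtype) z := by
  classical
  have memQ : ∀ x : G, x ∈ F.map C.subtype ↔ ∃ c : ↥C, c ∈ F ∧ (c : G) = x := by
    intro x
    constructor
    · intro hx
      obtain ⟨y, hy, rfl⟩ := Subgroup.mem_map.mp hx
      exact ⟨y, hy, rfl⟩
    · rintro ⟨c, hc, rfl⟩
      exact Subgroup.mem_map.mpr ⟨c, hc, rfl⟩
  have hz1 : z ≠ 1 := by
    intro h; rw [h, orderOf_one] at hz; omega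
  have hz2 : z * z = 1 := by
    rw [← pow_two, ← hz]; exact pow_orderOf_eq_one z
  have hzC : z ∈ C := (hmemC z).mpr rfl
  set zC : ↥C := ⟨z, hzC⟩ with hzCdef
  have hzCcent : ∀ c : ↥C, c * zC = zC * c := by
    intro c
    apply Subtype.ext
    exact (hmemC c).mp c.2
  have hzF : zC ∈ F := by
    have hn : (Subgroup.zpowers zC).Normal := by
      constructor
      intro n hn c
      obtain ⟨k, rfl⟩ := Subgroup.mem_zpowers_iff.mp hn
      have : c * zC ^ k * c⁻¹ = zC ^ k := by
        have h1 : Commute c zC := hzCcent c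
        have h2 : Commute c (zC ^ k) := h1.zpow_right k
        rw [h2.eq]; group
      rw [this]; exact Subgroup.zpow_mem_zpowers zC k
    have hnil : Group.IsNilpotent ↥(Subgroup.zpowers zC) :=
      Cfsg.Agent.Lib.Helper9.isNilpotent_of_isMulCommutative
    exact hfit (Cfsg.Agent.Lib.Helper1.le_fittingSubgroup hn hnil (Subgroup.mem_zpowers zC))
  set zF : ↥F := ⟨zC, hzF⟩ with hzFdef
  have hzFc : zF ∈ Subgroup.center ↥F := by
    rw [Subgroup.mem_center_iff]
    intro q
    apply Subtype.ext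
    exact hzCcent (q : ↥C)
  have hzF1 : zF ≠ 1 := by
    intro h
    apply hz1
    have h1 : ((zF : ↥C) : G) = (((1 : ↥F) : ↥C) : G) := by rw [h]
    exact h1
  have hzF2 : zF * zF = 1 := by
    apply Subtype.ext; apply Subtype.ext
    exact hz2
  have h4F : ∀ t : ↥F, t ^ 4 = 1 := by
    intro t
    apply Subtype.ext; apply Subtype.ext
    have := h4 ((t : ↥C) : G) ((memQ _).mpr ⟨t, t.2, rfl⟩)
    simpa using this
  refine ⟨(memQ z).mpr ⟨zC, hzF, rfl⟩, hz1, hz2, ?_, ?_, ?_, ?_, ?_⟩
  · -- cent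
    intro q hq
    obtain ⟨c, -, rfl⟩ := (memQ q).mp hq
    exact (hmemC c).mp c.2
  · -- norm
    intro c hc q hq
    obtain ⟨f, hf, rfl⟩ := (memQ q).mp hq
    have hcC : c ∈ C := (hmemC c).mpr hc
    refine (memQ _).mpr ⟨⟨c, hcC⟩ * f * ⟨c, hcC⟩⁻¹, hFn.conj_mem f hf _, ?_⟩
    simp
  · -- selfc
    intro c hc hcq
    have hcC : c ∈ C := (hmemC c).mpr hc
    have h1 : (⟨c, hcC⟩ : ↥C) ∈ Subgroup.centralizer (F : Set ↥C) := by
      rw [Subgroup.mem_centralizer_iff]
      intro f hf
      apply Subtype.ext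
      have := hcq ((f : ↥C) : G) ((memQ _).mpr ⟨f, hf, rfl⟩)
      simpa using this.symm
    exact (memQ c).mpr ⟨⟨c, hcC⟩, hFc h1, rfl⟩
  · -- sq
    intro q hq
    obtain ⟨f, hf, rfl⟩ := (memQ q).mp hq
    rcases sq_cases hF.1 hF.2 h4F hzFc hzF1 hzF2 ⟨f, hf⟩ with h | h
    · left
      have := congrArg (fun q : ↥F => ((q : ↥C) : G)) h
      simpa using this
    · right
      have := congrArg (fun q : ↥F => ((q : ↥C) : G)) h
      simpa using this
  · -- zinv
    intro q hq hqc hqq
    obtain ⟨f, hf, rfl⟩ := (memQ q).mp hq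
    have hc : (⟨f, hf⟩ : ↥F) ∈ Subgroup.center ↥F := by
      rw [Subgroup.mem_center_iff]
      intro p
      apply Subtype.ext; apply Subtype.ext
      have := hqc (((p : ↥F) : ↥C) : G) ((memQ _).mpr ⟨p, p.2, rfl⟩)
      simpa using this
    have hcc : (⟨f, hf⟩ : ↥F) * ⟨f, hf⟩ = 1 := by
      apply Subtype.ext; apply Subtype.ext
      simpa using hqq
    rcases central_inv_cases hF.2 hzFc hzF1 hzF2 hc hcc with h | h
    · left
      have := congrArg (fun q : ↥F => ((q : ↥C) : G)) h
      simpa using this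
    · right
      have h1 : (((⟨f, hf⟩ : ↥F) : ↥C) : G) = ((zF : ↥C) : G) := by rw [h]
      exact h1

/-- Let G be a finite group and let z be an involution of G such that Q, the generalized Fitting subgroup of the centralizer C of z, is a 2-group of symplectic type (every characteristic abelian subgroup of Q is cyclic); suppose every element of Q has order dividing 4. Let g ∈ G with z' = g z g⁻¹ ≠ z and z' ∈ Q. Then z lies in the conjugate g Q g⁻¹, and the subgroup X generated by Q and g Q g⁻¹ induces every automorphism of the four-group generated by z and z': for any two distinct non-identity elements u, v of that four-group there is x ∈ X with x z x⁻¹ = u and x z' x⁻¹ = v. -/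
theorem result {G : Type*} [Group G] [Finite G] (z : G) (hz : orderOf z = 2) (hQ : Cfsg.IsOfSymplecticType ↥(Cfsg.generalizedFittingSubgroup ↥(Subgroup.centralizer ({z} : Set G))))
    (h4 : ∀ q ∈ (Cfsg.generalizedFittingSubgroup ↥(Subgroup.centralizer ({z} : Set G))).map (Subgroup.centralizer ({z} : Set G)).subtype, q ^ 4 = 1) (g : G) (hne : g * z * g⁻¹ ≠ z) (hin : g * z * g⁻¹ ∈ (Cfsg.generalizedFittingSubgroup ↥(Subgroup.centralizer ({z} : Set G))).map (Subgroup.centralizer ({z} : Set G)).subtype) :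
    z ∈ ((Cfsg.generalizedFittingSubgroup ↥(Subgroup.centralizer ({z} : Set G))).map (Subgroup.centralizer ({z} : Set G)).subtype).map (MulAut.conj g).toMonoidHom ∧
      ∀ u ∈ Subgroup.closure ({z, g * z * g⁻¹} : Set G), ∀ v ∈ Subgroup.closure ({z, g * z * g⁻¹} : Set G),
        u ≠ 1 → v ≠ 1 → u ≠ v →
          ∃ x ∈ (Cfsg.generalizedFittingSubgroup ↥(Subgroup.centralizer ({z} : Set G))).map (Subgroup.centralizer ({z} : Set G)).subtype ⊔ ((Cfsg.generalizedFittingSubgroup ↥(Subgroup.centralizer ({z} : Set G))).map (Subgroup.centralizer ({z} : Set G)).subtype).map (MulAut.conj g).toMonoidHom, x * z * x⁻¹ = u ∧ x * (g * z * g⁻¹) * x⁻¹ = v := by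
  have hmemC : ∀ x : G, x ∈ Subgroup.centralizer ({z} : Set G) ↔ x * z = z * x := by
    intro x
    rw [Subgroup.mem_centralizer_iff]
    constructor
    · intro h
      exact (h z rfl).symm
    · intro h y hy
      rw [Set.mem_singleton_iff] at hy
      rw [hy]; exact h.symm
  have hSQ := sq_of z hz _ hmemC _ Cfsg.Agent.Lib.Helper9.gfs_normal
    Cfsg.Agent.Lib.Helper9.fitting_le_gfs Cfsg.Agent.Lib.Helper9.centralizer_gfs_le hQ h4
  exact main hSQ g hne hin

end Cfsg.Agent.S1774
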