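import Cfsg.Statements.S1775
import Cfsg.Agent.Lib.Helper23.BProp1

set_option autoImplicit false
open Cfsg

namespace Cfsg.Agent.S1775

/-- Let G be a finite group whose generalized Fitting subgroup is a non-abelian simple group and in which every proper section (every quotient H/N of a proper subgroup H, or of G by a nontrivial normal subgroup) has the B-property. Let x, y be commuting involutions, let D be the intersection of the 2-layer of C_G(x) with C_G(y), and let J be a 2-component of D. Write Q for the quotient of C_G(y) by its largest normal odd-order subgroup. Then (i) the image of J in Q is a component of the centralizer in Q of the image of x; and (ii) for every J-invariant subgroup E of odd order of C_G(x) ∩ C_G(y), the commutator subgroup [J, E] lies in the largest normal odd-order subgroup of C_G(y). -/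
theorem result {G : Type*} [Group G] [Finite G]
    (hF : IsSimpleGroup ↥(Cfsg.generalizedFittingSubgroup G)) (hF' : ¬ IsMulCommutative ↥(Cfsg.generalizedFittingSubgroup G))
    (hsec : ∀ (H : Subgroup G) (N : Subgroup ↥H) [N.Normal], (H ≠ ⊤ ∨ N ≠ ⊥) → Cfsg.HasBProperty (↥H ⧸ N))
    (x y : G) (hx : orderOf x = 2) (hy : orderOf y = 2) (hxy : x * y = y * x)
    (J : Subgroup ↥((Cfsg.pLayer 2 ↥(Subgroup.centralizer ({x} : Set G))).map (Subgroup.centralizer ({x} : Set G)).subtype ⊓ Subgroup.centralizer ({y} : Set G)))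
    (hJ : Cfsg.IsPComponent 2 J) :
    Cfsg.IsComponent
        ((((J.map (Subgroup.subtype _)).subgroupOf (Subgroup.centralizer ({y} : Set G))).map (QuotientGroup.mk' (Cfsg.oddCore ↥(Subgroup.centralizer ({y} : Set G))))).subgroupOf
          (Subgroup.centralizer ({(QuotientGroup.mk' (Cfsg.oddCore ↥(Subgroup.centralizer ({y} : Set G))) ⟨x, Subgroup.mem_centralizer_singleton_iff.mpr hxy⟩ : ↥(Subgroup.centralizer ({y} : Set G)) ⧸ Cfsg.oddCore ↥(Subgroup.centralizer ({y} : Set G)))} : Set _))) ∧
      ∀ E : Subgroup G, E ≤ Subgroup.centralizer ({x} : Set G) ⊓ Subgroup.centralizer ({y} : Set G) → Odd (Nat.card ↥E) →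
        (∀ j ∈ J.map (Subgroup.subtype _), ∀ e ∈ E, j * e * j⁻¹ ∈ E) →
          ⁅J.map (Subgroup.subtype _), E⁆ ≤ (Cfsg.oddCore ↥(Subgroup.centralizer ({y} : Set G))).map (Subgroup.centralizer ({y} : Set G)).subtype := by
  classical
  haveI : Fact (Nat.Prime 2) := ⟨Nat.prime_two⟩
  -- `C_G(y)` is a proper subgroup
  have hCyne : Subgroup.centralizer ({y} : Set G) ≠ ⊤ := by
    intro htop
    have hycen : ∀ g : G, g * y = y * g := by
      intro g
      have : g ∈ Subgroup.centralizer ({y} : Set G) := by rw [htop]; exact Subgroup.mem_top g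
      exact Subgroup.mem_centralizer_singleton_iff.mp this
    have hyZ : y ∈ Subgroup.center G := by
      rw [Subgroup.mem_center_iff]
      intro g
      exact hycen g
    have hZF : Subgroup.center G ≤ Cfsg.generalizedFittingSubgroup G := by
      letI : CommGroup ↥(Subgroup.center G) :=
        { (inferInstance : Group ↥(Subgroup.center G)) with
          mul_comm := fun a b => Subtype.ext (Subgroup.mem_center_iff.mp b.2 a.1) }
      have h1 : Subgroup.center G ≤ Cfsg.fittingSubgroup G :=
        Cfsg.Agent.Lib.Helper1.le_fittingSubgroup inferInstance CommGroup.isNilpotent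
      exact h1.trans le_sup_right
    have hyF := hZF hyZ
    have hcn : (Subgroup.center ↥(Cfsg.generalizedFittingSubgroup G)).Normal := inferInstance
    rcases hF.eq_bot_or_eq_top_of_normal _ hcn with h1 | h1
    · have h2 : (⟨y, hyF⟩ : ↥(Cfsg.generalizedFittingSubgroup G)) ∈
          Subgroup.center ↥(Cfsg.generalizedFittingSubgroup G) := by
        rw [Subgroup.mem_center_iff]
        intro g
        apply Subtype.ext
        exact hycen g
      rw [h1, Subgroup.mem_bot] at h2
      have h3 : y = 1 := congrArg Subtype.val h2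
      rw [h3, orderOf_one] at hy
      omega
    · apply hF'
      refine ⟨⟨fun a b => ?_⟩⟩
      have : b ∈ Subgroup.center ↥(Cfsg.generalizedFittingSubgroup G) := by
        rw [h1]; exact Subgroup.mem_top b
      exact Subgroup.mem_center_iff.mp this a
  have hB := hsec (Subgroup.centralizer ({y} : Set G))
    (Cfsg.oddCore ↥(Subgroup.centralizer ({y} : Set G))) (Or.inl hCyne)
  -- the involution `x` inside `C_G(y)`
  have hx'ord : orderOf (⟨x, Subgroup.mem_centralizer_singleton_iff.mpr hxy⟩ :
      ↥(Subgroup.centralizer ({y} : Set G))) = 2 := by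
    rw [← Subgroup.orderOf_coe]
    exact hx
  -- `J` as a relative `2`-component of `C_{C(y)}(x)`
  have hJ0 : Cfsg.Agent.Lib.Helper23.BBal.RPC 2 (J.map (Subgroup.subtype _))
      ((Cfsg.pLayer 2 ↥(Subgroup.centralizer ({x} : Set G))).map
        (Subgroup.centralizer ({x} : Set G)).subtype ⊓ Subgroup.centralizer ({y} : Set G)) :=
    Cfsg.Agent.Lib.Helper23.BBal.RPC_map_subtype_iff.mpr hJ
  have hDle : (Cfsg.pLayer 2 ↥(Subgroup.centralizer ({x} : Set G))).map
        (Subgroup.centralizer ({x} : Set G)).subtype ⊓ Subgroup.centralizer ({y} : Set G) ≤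
      Subgroup.centralizer ({x} : Set G) ⊓ Subgroup.centralizer ({y} : Set G) :=
    inf_le_inf_right _ (Subgroup.map_subtype_le _)
  have hDn : Subgroup.centralizer ({x} : Set G) ⊓ Subgroup.centralizer ({y} : Set G) ≤
      Subgroup.normalizer ((((Cfsg.pLayer 2 ↥(Subgroup.centralizer ({x} : Set G))).map
        (Subgroup.centralizer ({x} : Set G)).subtype ⊓ Subgroup.centralizer ({y} : Set G) :
          Subgroup G)) : Set G) := by
    intro g hg
    apply Cfsg.Agent.Lib.Helper23.L2Bal.mem_normalizer_of_forall_conj_mem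
    rintro d ⟨⟨l, hl, rfl⟩, hdy⟩
    haveI : (Cfsg.pLayer 2 ↥(Subgroup.centralizer ({x} : Set G))).Characteristic :=
      Cfsg.Agent.Lib.Helper10.pLayer_characteristic 2
    haveI hn : (Cfsg.pLayer 2 ↥(Subgroup.centralizer ({x} : Set G))).Normal := inferInstance
    refine ⟨⟨⟨g, hg.1⟩ * l * ⟨g, hg.1⟩⁻¹, hn.conj_mem l hl ⟨g, hg.1⟩, rfl⟩, ?_⟩
    exact Subgroup.mul_mem _ (Subgroup.mul_mem _ hg.2 hdy) (Subgroup.inv_mem _ hg.2)
  have hJ1 := hJ0.extend (Cfsg.Agent.Lib.Helper23.BBal.SN.of_normal hDle hDn)
  have hJ0Cy : J.map (Subgroup.subtype _) ≤ Subgroup.centralizer ({y} : Set G) :=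
    hJ0.le.trans inf_le_right
  have hcomap : (Subgroup.centralizer ({x} : Set G) ⊓ Subgroup.centralizer ({y} : Set G)).comap
      (Subgroup.centralizer ({y} : Set G)).subtype =
      Subgroup.centralizer ({(⟨x, Subgroup.mem_centralizer_singleton_iff.mpr hxy⟩ :
        ↥(Subgroup.centralizer ({y} : Set G)))} : Set ↥(Subgroup.centralizer ({y} : Set G))) := by
    ext c
    rw [Subgroup.mem_comap, Subgroup.mem_centralizer_singleton_iff]
    constructor
    · intro hc
      apply Subtype.ext
      exact Subgroup.mem_centralizer_singleton_iff.mp hc.1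
    · intro hc
      refine ⟨Subgroup.mem_centralizer_singleton_iff.mpr (congrArg Subtype.val hc), c.2⟩
  have hJ2 : Cfsg.Agent.Lib.Helper23.BBal.RPC 2
      ((J.map (Subgroup.subtype _)).subgroupOf (Subgroup.centralizer ({y} : Set G)))
      (Subgroup.centralizer ({(⟨x, Subgroup.mem_centralizer_singleton_iff.mpr hxy⟩ :
        ↥(Subgroup.centralizer ({y} : Set G)))} : Set ↥(Subgroup.centralizer ({y} : Set G)))) := by
    refine ⟨?_, ?_⟩
    · have := hJ1.1.comap (Subgroup.centralizer ({y} : Set G)).subtype
      rw [hcomap] at this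
      exact this
    · exact hJ1.2.of_equiv (Subgroup.subgroupOfEquivOfLe hJ0Cy).symm
  refine ⟨Cfsg.Agent.Lib.Helper23.BProp.isComponent_map_mk hB hx'ord hJ2, ?_⟩
  intro E hE hEodd hinv
  have hECy : E ≤ Subgroup.centralizer ({y} : Set G) := hE.trans inf_le_right
  have hE1 : E.subgroupOf (Subgroup.centralizer ({y} : Set G)) ≤
      Subgroup.centralizer ({(⟨x, Subgroup.mem_centralizer_singleton_iff.mpr hxy⟩ :
        ↥(Subgroup.centralizer ({y} : Set G)))} : Set ↥(Subgroup.centralizer ({y} : Set G))) := by
    rw [← hcomap]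
    intro c hc
    exact hE (Subgroup.mem_subgroupOf.mp hc)
  have hE1odd : Odd (Nat.card (E.subgroupOf (Subgroup.centralizer ({y} : Set G)))) := by
    rw [Nat.card_congr (Subgroup.subgroupOfEquivOfLe hECy).toEquiv]
    exact hEodd
  have h1 := Cfsg.Agent.Lib.Helper23.BProp.commutator_le_oddCore hB hx'ord hJ2 hE1 hE1odd (by
    intro j hj e he
    rw [Subgroup.mem_subgroupOf] at hj he ⊢
    exact hinv _ hj _ he)
  have h2 := Subgroup.map_mono (f := (Subgroup.centralizer ({y} : Set G)).subtype) h1
  rw [Subgroup.map_commutator, Subgroup.subgroupOf_map_subtype, Subgroup.subgroupOf_map_subtype,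
    inf_eq_left.mpr hJ0Cy, inf_eq_left.mpr hECy] at h2
  exact h2

end Cfsg.Agent.S1775
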