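import Cfsg.Statements.S1780

set_option autoImplicit false
open Cfsg

namespace Cfsg.Agent.S1780

/-- key descent: if `t a = a * b` with `b` fixed by `t` and of 2-power order, then `b = 1`. -/
lemma descent {A : Type*} [CommGroup A] (t : MulAut A)
    (hC : ∀ a : A, t (t a) = a → t a = a) :
    ∀ (j : ℕ) (a b : A), t a = a * b → t b = b → b ^ (2 ^ j) = 1 → b = 1 := by
  intro j
  induction j with
  | zero => intro a b _ _ h; simpa using h
  | succ j ih =>
    intro a b hab hb hpow
    have hb2 : b ^ 2 = 1 := by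
      apply ih (a ^ 2) (b ^ 2)
      · rw [map_pow, hab, mul_pow]
      · rw [map_pow, hb]
      · rw [← pow_mul, ← pow_succ']; exact hpow
    have htt : t (t a) = a := by
      rw [hab, map_mul, hab, hb, mul_assoc, ← pow_two, hb2, mul_one]
    have := hC a htt
    rw [hab] at this
    exact mul_left_cancel (this.trans (mul_one a).symm)

/-- Let A be a finite abelian 2-group and t an automorphism of A whose order is a power of 2. If every element of A fixed by t² is fixed by t, then t fixes every element of A. -/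
theorem result {A : Type*} [CommGroup A] [Finite A]
    (hA : IsPGroup 2 A) (t : MulAut A) (ht : ∃ k : ℕ, orderOf t = 2 ^ k) (hC : ∀ a : A, t (t a) = a → t a = a) :
    ∀ a : A, t a = a := by
  by_contra hcon
  push_neg at hcon
  obtain ⟨a₀, ha₀⟩ := hcon
  haveI : Fact (Nat.Prime 2) := ⟨Nat.prime_two⟩
  -- the hom φ a = a⁻¹ * t a
  let φ : A →* A :=
    { toFun := fun a => a⁻¹ * t a
      map_one' := by simp
      map_mul' := fun a b => by simp only [map_mul, mul_inv]; exact mul_mul_mul_comm _ _ _ _ }
  have hφ : ∀ a, φ a = a⁻¹ * t a := fun a => rfl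
  let K : Subgroup A := φ.range
  let H : Subgroup (MulAut A) := Subgroup.zpowers t
  -- H is a 2-group
  have hH : IsPGroup 2 H := by
    obtain ⟨k, hk⟩ := ht
    apply IsPGroup.of_card (n := k)
    rw [Nat.card_zpowers, hk]
  -- elements of H commute with t
  have hcomm : ∀ h : H, ∀ a : A, h.1 (t a) = t (h.1 a) := by
    intro h a
    obtain ⟨n, hn⟩ := Subgroup.mem_zpowers_iff.mp h.2
    have : h.1 * t = t * h.1 := by
      rw [← hn]; exact (Commute.zpow_self t n)
    calc h.1 (t a) = (h.1 * t) a := rfl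
      _ = (t * h.1) a := by rw [this]
      _ = t (h.1 a) := rfl
  have hK : ∀ h : H, ∀ x : K, h.1 x.1 ∈ K := by
    intro h x
    obtain ⟨a, ha⟩ := x.2
    refine ⟨h.1 a, ?_⟩
    rw [hφ, ← ha, hφ, map_mul, map_inv, hcomm]
  letI act : MulAction H K :=
    { smul := fun h x => ⟨h.1 x.1, hK h x⟩
      one_smul := fun x => Subtype.ext (by
        change ((1 : H) : MulAut A) x.1 = x.1
        simp)
      mul_smul := fun g h x => Subtype.ext (by
        change ((g * h : H) : MulAut A) x.1 = g.1 (h.1 x.1)
        simp [MulAut.mul_apply]) }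
  have hsmul : ∀ (h : H) (x : K), ((h • x : K) : A) = h.1 x.1 := fun h x => rfl
  -- K is a nontrivial 2-group
  have hKp : IsPGroup 2 K := hA.to_subgroup K
  have hKne : (⟨φ a₀, a₀, rfl⟩ : K) ≠ 1 := by
    intro h
    have h1 : φ a₀ = 1 := congrArg Subtype.val h
    rw [hφ] at h1
    exact ha₀ (inv_mul_eq_one.mp h1).symm
  haveI : Nontrivial K := ⟨⟨_, _, hKne⟩⟩
  have hdvd : 2 ∣ Nat.card K := by
    obtain ⟨n, hn0, hn⟩ := hKp.nontrivial_iff_card.mp inferInstance
    rw [hn]; exact dvd_pow_self 2 (ne_of_gt hn0)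
  have hone : (1 : K) ∈ MulAction.fixedPoints H K := by
    intro h
    apply Subtype.ext
    rw [hsmul]
    simp
  obtain ⟨b, hbfix, hb1⟩ := hH.exists_fixed_point_of_prime_dvd_card_of_fixed_point K hdvd hone
  obtain ⟨a, hab⟩ := b.2
  have htb : t b.1 = b.1 := by
    have := hbfix ⟨t, Subgroup.mem_zpowers t⟩
    have h2 := congrArg Subtype.val this
    rwa [hsmul] at h2
  have hta : t a = a * b.1 := by
    rw [← hab, hφ, mul_inv_cancel_left]
  obtain ⟨j, hj⟩ := hA b.1
  have := descent t hC j a b.1 hta htb hj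
  apply hb1
  apply Subtype.ext
  exact this.symm

end Cfsg.Agent.S1780
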