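import Cfsg.Statements.S1781
import Cfsg.Agent.S1780

set_option autoImplicit false
open Cfsg
open scoped commutatorElement

namespace Cfsg.Agent.S1781

/-- elementwise form of the TI property -/
def TI {G : Type*} [Group G] (A : Subgroup G) : Prop :=
  ∀ h x : G, x ∈ A → x ≠ 1 → h * x * h⁻¹ ∈ A → ∀ y ∈ A, h * y * h⁻¹ ∈ A

lemma ti_of_hti {G : Type*} [Group G] (A : Subgroup G)
    (hti : ∀ h : G, A.map (MulAut.conj h).toMonoidHom = A ∨ A.map (MulAut.conj h).toMonoidHom ⊓ A = ⊥) :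
    TI A := by
  intro h x hx hx1 hhx y hy
  have hmem : ∀ z ∈ A, h * z * h⁻¹ ∈ A.map (MulAut.conj h).toMonoidHom := by
    intro z hz
    exact Subgroup.mem_map.mpr ⟨z, hz, by simp [MulAut.conj_apply]⟩
  rcases hti h with e | e
  · have := hmem y hy
    rwa [e] at this
  · exfalso
    have h1 : h * x * h⁻¹ ∈ A.map (MulAut.conj h).toMonoidHom ⊓ A :=
      Subgroup.mem_inf.mpr ⟨hmem x hx, hhx⟩
    rw [e, Subgroup.mem_bot] at h1
    apply hx1
    have : x = h⁻¹ * (h * x * h⁻¹) * h := by group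
    rw [this, h1]; group

lemma ti_conj {G : Type*} [Group G] (A : Subgroup G) (hA : TI A) (g : G) :
    TI (A.map (MulAut.conj g).toMonoidHom) := by
  intro h x hx hx1 hhx y hy
  obtain ⟨x', hx', rfl⟩ := Subgroup.mem_map.mp hx
  obtain ⟨y', hy', rfl⟩ := Subgroup.mem_map.mp hy
  obtain ⟨w, hw, hwe⟩ := Subgroup.mem_map.mp hhx
  simp only [MulEquiv.coe_toMonoidHom, MulAut.conj_apply] at hwe hx1 ⊢
  have hx'1 : x' ≠ 1 := by
    rintro rfl
    apply hx1; group
  have h1 : (g⁻¹ * h * g) * x' * (g⁻¹ * h * g)⁻¹ ∈ A := by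
    have : (g⁻¹ * h * g) * x' * (g⁻¹ * h * g)⁻¹ = g⁻¹ * (h * (g * x' * g⁻¹) * h⁻¹) * g := by group
    rw [this, ← hwe]
    have : g⁻¹ * (g * w * g⁻¹) * g = w := by group
    rw [this]; exact hw
  have h2 := hA (g⁻¹ * h * g) x' hx' hx'1 h1 y' hy'
  refine Subgroup.mem_map.mpr ⟨_, h2, ?_⟩
  simp only [MulEquiv.coe_toMonoidHom, MulAut.conj_apply]
  group

/-- conjugation by an element normalizing `B`, as an automorphism of `B` -/
def conjAut {G : Type*} [Group G] (B : Subgroup G) (d : G)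
    (h1 : ∀ b ∈ B, d * b * d⁻¹ ∈ B) (h2 : ∀ b ∈ B, d⁻¹ * b * d ∈ B) : MulAut B where
  toFun b := ⟨d * b.1 * d⁻¹, h1 b.1 b.2⟩
  invFun b := ⟨d⁻¹ * b.1 * d, h2 b.1 b.2⟩
  left_inv b := Subtype.ext (by simp only; group)
  right_inv b := Subtype.ext (by simp only; group)
  map_mul' a b := Subtype.ext (by simp only [Subgroup.coe_mul]; group)

lemma conjAut_apply {G : Type*} [Group G] (B : Subgroup G) (d : G)
    (h1 : ∀ b ∈ B, d * b * d⁻¹ ∈ B) (h2 : ∀ b ∈ B, d⁻¹ * b * d ∈ B) (b : B) :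
    ((conjAut B d h1 h2 b : B) : G) = d * b.1 * d⁻¹ := rfl

lemma conjAut_pow {G : Type*} [Group G] (B : Subgroup G) (d : G)
    (h1 : ∀ b ∈ B, d * b * d⁻¹ ∈ B) (h2 : ∀ b ∈ B, d⁻¹ * b * d ∈ B) (n : ℕ) (b : B) :
    (((conjAut B d h1 h2) ^ n) b : G) = d ^ n * b.1 * (d ^ n)⁻¹ := by
  induction n generalizing b with
  | zero => simp
  | succ n ih =>
    rw [pow_succ, MulAut.mul_apply, ih, conjAut_apply, pow_succ]
    group

open scoped IsMulCommutative in
/-- the key lemma -/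
lemma key {G : Type*} [Group G] [Finite G] (A B : Subgroup G)
    (hA2 : IsPGroup 2 A) (hB2 : IsPGroup 2 B) (hBc : IsMulCommutative B)
    (hA : TI A) (hAB : ∀ x, x ∈ A → x ∈ B → x = 1)
    (d : G) (hd : d ∈ A) (h1 : ∀ b ∈ B, d * b * d⁻¹ ∈ B) (h2 : ∀ b ∈ B, d⁻¹ * b * d ∈ B)
    (hd2 : d * d ≠ 1) :
    ∀ b ∈ B, ∀ y ∈ A, b * y * b⁻¹ ∈ A := by
  have hd1 : d ≠ 1 := by rintro rfl; exact hd2 (by simp)
  -- `τ` is the automorphism induced by `d`
  set τ := conjAut B d h1 h2 with hτ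
  have hpow : ∃ k : ℕ, orderOf τ = 2 ^ k := by
    obtain ⟨k, hk⟩ := hA2 ⟨d, hd⟩
    have hk' : d ^ (2 ^ k) = 1 := by
      have := congrArg Subtype.val hk
      simpa using this
    have : τ ^ (2 ^ k) = 1 := by
      ext b
      rw [conjAut_pow, hk']
      simp
    exact (Nat.dvd_prime_pow Nat.prime_two).mp (orderOf_dvd_of_pow_eq_one this) |>.imp fun j hj => hj.2
  have hC : ∀ b : B, τ (τ b) = b → τ b = b := by
    intro b hb
    have hb' : d * (d * b.1 * d⁻¹) * d⁻¹ = b.1 := by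
      have := congrArg Subtype.val hb
      simpa [hτ, conjAut_apply] using this
    -- b normalizes A since b fixes d*d
    have hfix : b.1 * (d * d) * b.1⁻¹ = d * d := by
      calc b.1 * (d * d) * b.1⁻¹ = (d * (d * b.1 * d⁻¹) * d⁻¹) * (d * d) * b.1⁻¹ := by rw [hb']
        _ = d * d := by group
    have hnorm := hA b.1 (d * d) (A.mul_mem hd hd) hd2 (by rw [hfix]; exact A.mul_mem hd hd)
    have hcA : b.1 * d * b.1⁻¹ * d⁻¹ ∈ A := A.mul_mem (hnorm d hd) (A.inv_mem hd)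
    have hcB : b.1 * d * b.1⁻¹ * d⁻¹ ∈ B := by
      have : b.1 * d * b.1⁻¹ * d⁻¹ = b.1 * (d * b.1⁻¹ * d⁻¹) := by group
      rw [this]
      exact B.mul_mem b.2 (h1 _ (B.inv_mem b.2))
    have hc := hAB _ hcA hcB
    apply Subtype.ext
    rw [hτ, conjAut_apply]
    have : d * b.1 * d⁻¹ = (b.1 * d * b.1⁻¹ * d⁻¹)⁻¹ * b.1 := by group
    rw [this, hc]; simp
  have hall := Cfsg.Agent.S1780.result hB2 τ hpow hC
  intro b hb
  have hbd : d * b * d⁻¹ = b := by
    have := congrArg Subtype.val (hall ⟨b, hb⟩)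
    simpa [hτ, conjAut_apply] using this
  apply hA b d hd hd1
  have : b * d * b⁻¹ = d := by
    calc b * d * b⁻¹ = (d * b * d⁻¹) * d * b⁻¹ := by rw [hbd]
      _ = d := by group
  rw [this]; exact hd

/-- Let A be an abelian 2-subgroup of the finite group G such that every conjugate of A equals A or meets A trivially, and let g ∈ G with g A g⁻¹ ≠ A. Then either the subgroup of those elements of A that normalize g A g⁻¹ is an elementary abelian 2-group, or A and g A g⁻¹ commute elementwise. -/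
theorem result {G : Type*} [Group G] [Finite G] (A : Subgroup G)
    (hA2 : IsPGroup 2 ↥A) (hAa : IsMulCommutative ↥A)
    (hti : ∀ h : G, A.map (MulAut.conj h).toMonoidHom = A ∨ A.map (MulAut.conj h).toMonoidHom ⊓ A = ⊥)
    (g : G) (hg : A.map (MulAut.conj g).toMonoidHom ≠ A) :
    Cfsg.IsElementaryAbelian 2 (A ⊓ Subgroup.normalizer ((A.map (MulAut.conj g).toMonoidHom : Subgroup G) : Set G)) ∨
      ⁅A, A.map (MulAut.conj g).toMonoidHom⁆ = ⊥ := by
  set B := A.map (MulAut.conj g).toMonoidHom with hB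
  have hTA : TI A := ti_of_hti A hti
  have hTB : TI B := ti_conj A hTA g
  have hABbot : B ⊓ A = ⊥ := (hti g).resolve_left hg
  have hAB : ∀ x, x ∈ A → x ∈ B → x = 1 := by
    intro x hxA hxB
    have : x ∈ B ⊓ A := Subgroup.mem_inf.mpr ⟨hxB, hxA⟩
    rwa [hABbot, Subgroup.mem_bot] at this
  have hcomm : ∀ x ∈ A, ∀ y ∈ A, x * y = y * x := by
    intro x hx y hy
    have := mul_comm' (⟨x, hx⟩ : A) ⟨y, hy⟩
    exact congrArg Subtype.val this
  -- B is an abelian 2-group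
  have hmemB : ∀ a ∈ A, g * a * g⁻¹ ∈ B := fun a ha =>
    Subgroup.mem_map.mpr ⟨a, ha, by simp [MulAut.conj_apply]⟩
  have hBel : ∀ b ∈ B, ∃ a ∈ A, b = g * a * g⁻¹ := by
    intro b hb
    obtain ⟨a, ha, rfl⟩ := Subgroup.mem_map.mp hb
    exact ⟨a, ha, by simp [MulAut.conj_apply]⟩
  have hBc : IsMulCommutative B := by
    refine ⟨⟨?_⟩⟩
    rintro ⟨x, hx⟩ ⟨y, hy⟩
    obtain ⟨x', hx', rfl⟩ := hBel x hx
    obtain ⟨y', hy', rfl⟩ := hBel y hy
    apply Subtype.ext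
    change g * x' * g⁻¹ * (g * y' * g⁻¹) = g * y' * g⁻¹ * (g * x' * g⁻¹)
    have := hcomm x' hx' y' hy'
    calc g * x' * g⁻¹ * (g * y' * g⁻¹) = g * (x' * y') * g⁻¹ := by group
      _ = g * (y' * x') * g⁻¹ := by rw [this]
      _ = g * y' * g⁻¹ * (g * x' * g⁻¹) := by group
  have hB2 : IsPGroup 2 B := by
    rintro ⟨x, hx⟩
    obtain ⟨x', hx', rfl⟩ := hBel x hx
    obtain ⟨k, hk⟩ := hA2 ⟨x', hx'⟩
    refine ⟨k, Subtype.ext ?_⟩
    have hk' : x' ^ (2 ^ k) = 1 := by simpa using congrArg Subtype.val hk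
    change (g * x' * g⁻¹) ^ (2 ^ k) = 1
    rw [conj_pow, hk']; group
  by_cases hD : Cfsg.IsElementaryAbelian 2 (A ⊓ Subgroup.normalizer (B : Set G))
  · exact Or.inl hD
  · right
    -- there is d in D with d^2 ≠ 1
    have hDc : IsMulCommutative ↥(A ⊓ Subgroup.normalizer (B : Set G)) := by
      refine ⟨⟨?_⟩⟩
      rintro ⟨x, hx⟩ ⟨y, hy⟩
      exact Subtype.ext (hcomm x (Subgroup.mem_inf.mp hx).1 y (Subgroup.mem_inf.mp hy).1)
    have : ¬ ∀ a ∈ A ⊓ Subgroup.normalizer (B : Set G), a ^ 2 = 1 := fun h => hD ⟨hDc, h⟩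
    push_neg at this
    obtain ⟨d, hdD, hd2⟩ := this
    obtain ⟨hdA, hdN⟩ := Subgroup.mem_inf.mp hdD
    have h1 : ∀ b ∈ B, d * b * d⁻¹ ∈ B := fun b hb => (Subgroup.mem_normalizer_iff.mp hdN b).mp hb
    have h2 : ∀ b ∈ B, d⁻¹ * b * d ∈ B := fun b hb => by
      have := (Subgroup.mem_normalizer_iff.mp (Subgroup.inv_mem _ hdN) b).mp hb
      simpa using this
    have hdd : d * d ≠ 1 := by rwa [← pow_two]
    -- (ii): B normalizes A
    have hii := key A B hA2 hB2 hBc hTA hAB d hdA h1 h2 hdd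
    -- now swap roles, with d' = g d g⁻¹
    have hd'B : g * d * g⁻¹ ∈ B := hmemB d hdA
    have h1' : ∀ a ∈ A, (g * d * g⁻¹) * a * (g * d * g⁻¹)⁻¹ ∈ A := fun a ha => hii _ hd'B a ha
    have h2' : ∀ a ∈ A, (g * d * g⁻¹)⁻¹ * a * (g * d * g⁻¹) ∈ A := fun a ha => by
      have := hii _ (B.inv_mem hd'B) a ha
      simpa using this
    have hdd' : (g * d * g⁻¹) * (g * d * g⁻¹) ≠ 1 := by
      intro h
      apply hdd
      have : d * d = g⁻¹ * ((g * d * g⁻¹) * (g * d * g⁻¹)) * g := by group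
      rw [this, h]; group
    have hii' := key B A hB2 hA2 hAa hTB (fun x hx hx' => hAB x hx' hx) (g * d * g⁻¹) hd'B h1' h2' hdd'
    -- conclude
    rw [eq_bot_iff, Subgroup.commutator_le]
    intro a ha b hb
    rw [Subgroup.mem_bot]
    apply hAB
    · have : ⁅a, b⁆ = a * (b * a⁻¹ * b⁻¹) := by rw [commutatorElement_def]; group
      rw [this]
      exact A.mul_mem ha (hii b hb a⁻¹ (A.inv_mem ha))
    · rw [commutatorElement_def]
      exact B.mul_mem (hii' a ha b hb) (B.inv_mem hb)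

end Cfsg.Agent.S1781
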