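import Cfsg.Statements.S1782
import Cfsg.Agent.Lib.Helper9.Conj
import Cfsg.Agent.Lib.Helper17.StrongPEmb2
import Cfsg.Agent.Lib.Helper17.SylowLemmas
import Cfsg.Agent.Lib.Helper17.Frattini
import Cfsg.Agent.Lib.Helper1.Basic
import Cfsg.Agent.Lib.Helper10.Basic

set_option autoImplicit false
open Cfsg

namespace Cfsg.Agent.S1782

open Subgroup Cfsg.Agent.Lib.Helper9
open scoped commutatorElement

section Aux

variable {S : Type*} [Group S]

/-- A conjugation-invariant family of subgroups of the same order meeting pairwise trivially. -/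
structure TISys (Δ : Set (Subgroup S)) : Prop where
  inv : ∀ s : S, ∀ R ∈ Δ, R.map (MulAut.conj s).toMonoidHom ∈ Δ
  ord : ∀ R ∈ Δ, ∀ T ∈ Δ, Nat.card ↥R = Nat.card ↥T
  ti : ∀ R ∈ Δ, ∀ T ∈ Δ, R = T ∨ R ⊓ T = ⊥

variable {Δ : Set (Subgroup S)}

theorem TISys.conj_inf_eq_bot (h : TISys Δ) {D : Subgroup S} (hD : D ∈ Δ) {s : S}
    (hs : s ∉ normalizer (D : Set S)) : D.map (MulAut.conj s).toMonoidHom ⊓ D = ⊥ := by
  rcases h.ti _ (h.inv s D hD) D hD with h1 | h1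
  · exact absurd (mem_normalizer_of_conjMap_eq_self h1) hs
  · exact h1

theorem TISys.eq_one_of_fixed (h : TISys Δ) {D : Subgroup S} (hD : D ∈ Δ) {s d : S}
    (hs : s ∉ normalizer (D : Set S)) (hd : d ∈ D) (hfix : s * d * s⁻¹ = d) : d = 1 := by
  have h1 : d ∈ D.map (MulAut.conj s).toMonoidHom ⊓ D := by
    refine mem_inf.mpr ⟨?_, hd⟩
    rw [← hfix]
    exact conj_mem_conjMap hd
  rw [h.conj_inf_eq_bot hD hs, mem_bot] at h1
  exact h1

/-- `C_S(v) ≤ N_S(D)` for `1 ≠ v ∈ D`. -/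
theorem TISys.mem_normalizer_of_commute (h : TISys Δ) {D : Subgroup S} (hD : D ∈ Δ) {v s : S}
    (hv : v ∈ D) (hv1 : v ≠ 1) (hc : s * v = v * s) : s ∈ normalizer (D : Set S) := by
  by_contra hs
  apply hv1
  apply h.eq_one_of_fixed hD hs hv
  rw [hc, mul_inv_cancel_right]

/-- A proper subgroup of a `p`-subgroup lies in a proper normal subgroup of it. -/
theorem exists_normal_between [Finite S] {p : ℕ} [Fact p.Prime] {H D : Subgroup S}
    (hH : IsPGroup p H) (hD : D < H) :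
    ∃ M : Subgroup S, D ≤ M ∧ M < H ∧ H ≤ normalizer (M : Set S) := by
  obtain ⟨M, hM⟩ := Set.Finite.exists_maximal (s := {M : Subgroup S | D ≤ M ∧ M < H})
    (Set.toFinite _) ⟨D, le_rfl, hD⟩
  obtain ⟨hDM, hMH⟩ := hM.prop
  refine ⟨M, hDM, hMH, ?_⟩
  by_contra hcon
  obtain ⟨n, hnH, hnN, hnM⟩ := Cfsg.Agent.Lib.Helper17.pgroup_normalizer_gt hH hMH
  have h1 : M ≤ H ⊓ normalizer (M : Set S) := le_inf hMH.le le_normalizer
  have h2 : H ⊓ normalizer (M : Set S) < H := by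
    refine lt_of_le_of_ne inf_le_left ?_
    intro h3
    apply hcon
    rw [← h3]
    exact inf_le_right
  have h4 := hM.le_of_ge (show (H ⊓ normalizer (M : Set S)) ∈ {M : Subgroup S | D ≤ M ∧ M < H} from
    ⟨hDM.trans h1, h2⟩) h1
  exact hnM (h4 ⟨hnH, hnN⟩)

/-- A group with nontrivial Frattini subgroup has an element of order four. -/
theorem exists_order_four [Finite S] (hS : IsPGroup 2 S) (R : Subgroup S)
    (hR : frattini ↥R ≠ ⊥) : ∃ r ∈ R, r ^ 2 ≠ 1 ∧ r ^ 4 = 1 := by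
  haveI : Fact (Nat.Prime 2) := ⟨Nat.prime_two⟩
  have h1 : ∃ x ∈ R, x ^ 2 ≠ 1 := by
    by_contra hcon
    push Not at hcon
    apply hR
    rw [eq_bot_iff]
    apply Cfsg.Agent.Lib.Helper17.frattini_le_of_pow_comm (p := 2)
    · intro x
      rw [mem_bot]
      apply Subtype.ext
      have := hcon x x.2
      simpa using this
    · intro x y
      rw [mem_bot]
      have hx : x⁻¹ = x := by
        rw [inv_eq_iff_mul_eq_one, ← pow_two]
        apply Subtype.ext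
        simpa using hcon x x.2
      have hy : y⁻¹ = y := by
        rw [inv_eq_iff_mul_eq_one, ← pow_two]
        apply Subtype.ext
        simpa using hcon y y.2
      have hxy : (x * y) ^ 2 = 1 := by
        apply Subtype.ext
        simpa using hcon (x * y) (x * y).2
      rw [commutatorElement_def, hx, hy]
      rw [pow_two] at hxy
      rw [← hxy]; group
  obtain ⟨x, hxR, hx2⟩ := h1
  obtain ⟨k, hk⟩ := (IsPGroup.iff_orderOf.1 hS) x
  have hk2 : 2 ≤ k := by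
    by_contra hlt
    push Not at hlt
    apply hx2
    have : orderOf x ∣ 2 := by
      rw [hk]
      calc 2 ^ k ∣ 2 ^ 1 := pow_dvd_pow 2 (by omega)
        _ = 2 := by norm_num
    exact orderOf_dvd_iff_pow_eq_one.mp this
  refine ⟨x ^ (2 ^ (k - 2)), pow_mem hxR _, ?_, ?_⟩
  · rw [← pow_mul]
    intro h2
    have h3 := orderOf_dvd_of_pow_eq_one h2
    rw [hk] at h3
    have h4 : 2 ^ (k - 2) * 2 = 2 ^ (k - 1) := by
      rw [← pow_succ]; congr 1; omega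
    rw [h4] at h3
    have := (Nat.pow_dvd_pow_iff_le_right (by norm_num : 1 < 2)).mp h3
    omega
  · rw [← pow_mul]
    have h4 : 2 ^ (k - 2) * 4 = 2 ^ k := by
      have : (4 : ℕ) = 2 ^ 2 := by norm_num
      rw [this, ← pow_add]; congr 1; omega
    rw [h4, ← hk]
    exact pow_orderOf_eq_one x

/-- For `x ∉ K` in a 2-group some 2-power power of `x` is outside `K` with its square in `K`. -/
theorem exists_pow_not_mem [Finite S] (hS : IsPGroup 2 S) (K : Subgroup S) {x : S}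
    (hx : x ∉ K) : ∃ m : ℕ, x ^ (2 ^ m) ∉ K ∧ (x ^ (2 ^ m)) ^ 2 ∈ K := by
  classical
  obtain ⟨k, hk⟩ := (IsPGroup.iff_orderOf.1 hS) x
  have hex : ∃ m : ℕ, x ^ (2 ^ m) ∈ K := ⟨k, by rw [← hk, pow_orderOf_eq_one]; exact one_mem K⟩
  have hmin : ∀ m : ℕ, m < Nat.find hex → x ^ (2 ^ m) ∉ K := fun m hm => Nat.find_min hex hm
  have hspec := Nat.find_spec hex
  have h0 : Nat.find hex ≠ 0 := by
    intro h0
    rw [h0] at hspec
    simp at hspec
    exact hx hspec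
  refine ⟨Nat.find hex - 1, hmin _ (by omega), ?_⟩
  rw [← pow_mul, ← pow_succ]
  have : Nat.find hex - 1 + 1 = Nat.find hex := by omega
  rw [this]
  exact hspec

/-- Two distinct members whose conjugates under the other member commute with them. -/
structure Pair (Δ : Set (Subgroup S)) (R T : Subgroup S) : Prop where
  memR : R ∈ Δ
  memT : T ∈ Δ
  ne : R ≠ T
  conjR : ∀ s ∈ T, s ∉ normalizer (R : Set S) →
    ∀ a ∈ R, ∀ b ∈ R.map (MulAut.conj s).toMonoidHom, a * b = b * a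
  conjT : ∀ s ∈ R, s ∉ normalizer (T : Set S) →
    ∀ a ∈ T, ∀ b ∈ T.map (MulAut.conj s).toMonoidHom, a * b = b * a

variable {R T : Subgroup S}

theorem Pair.symm (h : Pair Δ R T) : Pair Δ T R :=
  ⟨h.memT, h.memR, h.ne.symm, h.conjT, h.conjR⟩

theorem Pair.inf_eq_bot (hΔ : TISys Δ) (h : Pair Δ R T) : R ⊓ T = ⊥ :=
  (hΔ.ti R h.memR T h.memT).resolve_left h.ne

/-- `N_R(T)` and `N_T(R)` commute. -/
theorem Pair.comm₀ (hΔ : TISys Δ) (h : Pair Δ R T) {ρ τ : S} (hρ : ρ ∈ R)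
    (hρN : ρ ∈ normalizer (T : Set S)) (hτ : τ ∈ T) (hτN : τ ∈ normalizer (R : Set S)) :
    ρ * τ = τ * ρ := by
  have h1 : ⁅ρ, τ⁆ ∈ R ⊓ T := by
    refine mem_inf.mpr ⟨?_, ?_⟩
    · have : ⁅ρ, τ⁆ = ρ * (τ * ρ⁻¹ * τ⁻¹) := by rw [commutatorElement_def]; group
      rw [this]
      exact mul_mem hρ ((mem_normalizer_iff.mp hτN ρ⁻¹).mp (inv_mem hρ))
    · have : ⁅ρ, τ⁆ = (ρ * τ * ρ⁻¹) * τ⁻¹ := by rw [commutatorElement_def]
      rw [this]
      exact mul_mem ((mem_normalizer_iff.mp hρN τ).mp hτ) (inv_mem hτ)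
  rw [h.inf_eq_bot hΔ, mem_bot] at h1
  exact commutatorElement_eq_one_iff_mul_comm.mp h1

/-- For `r ∈ R ∖ N(T)` and `τ ∈ N_T(R)`, `[r, τ] ∈ N_R(T)`. -/
theorem Pair.comm_mem (h : Pair Δ R T) {r τ : S} (hr : r ∈ R)
    (hrN : r ∉ normalizer (T : Set S)) (hτ : τ ∈ T) (hτN : τ ∈ normalizer (R : Set S)) :
    ⁅r, τ⁆ ∈ R ⊓ normalizer (T : Set S) := by
  refine mem_inf.mpr ⟨?_, ?_⟩
  · have : ⁅r, τ⁆ = r * (τ * r⁻¹ * τ⁻¹) := by rw [commutatorElement_def]; group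
    rw [this]
    exact mul_mem hr ((mem_normalizer_iff.mp hτN r⁻¹).mp (inv_mem hr))
  · have : ⁅r, τ⁆ = (r * τ * r⁻¹) * τ⁻¹ := by rw [commutatorElement_def]
    rw [this]
    refine mul_mem ?_ (le_normalizer (inv_mem hτ))
    apply centralizer_le_normalizer
    rw [mem_centralizer_iff]
    intro a ha
    exact h.conjT r hr hrN a ha _ (conj_mem_conjMap hτ)

theorem Pair.comm_inj (hΔ : TISys Δ) (h : Pair Δ R T) {r τ τ' : S}
    (hrN : r ∉ normalizer (T : Set S)) (hτ : τ ∈ T) (hτ' : τ' ∈ T) (heq : ⁅r, τ⁆ = ⁅r, τ'⁆) :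
    τ = τ' := by
  have h1 : r * (τ'⁻¹ * τ) * r⁻¹ = τ'⁻¹ * τ := by
    calc r * (τ'⁻¹ * τ) * r⁻¹ = (⁅r, τ'⁆ * τ')⁻¹ * (⁅r, τ⁆ * τ) := by
          rw [commutatorElement_def, commutatorElement_def]; group
      _ = (⁅r, τ⁆ * τ')⁻¹ * (⁅r, τ⁆ * τ) := by rw [heq]
      _ = τ'⁻¹ * τ := by group
  have h2 := hΔ.eq_one_of_fixed h.memT hrN (mul_mem (inv_mem hτ') hτ) h1
  exact (inv_mul_eq_one.mp h2).symm

/-- The map `τ ↦ [r, τ]` from `N_T(R)` to `N_R(T)`. -/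
def Pair.commMap (h : Pair Δ R T) {r : S} (hr : r ∈ R) (hrN : r ∉ normalizer (T : Set S)) :
    ↥(T ⊓ normalizer (R : Set S)) → ↥(R ⊓ normalizer (T : Set S)) :=
  fun τ => ⟨⁅r, (τ : S)⁆, h.comm_mem hr hrN (mem_inf.mp τ.2).1 (mem_inf.mp τ.2).2⟩

theorem Pair.commMap_injective (hΔ : TISys Δ) (h : Pair Δ R T) {r : S} (hr : r ∈ R)
    (hrN : r ∉ normalizer (T : Set S)) : Function.Injective (h.commMap hr hrN) := by
  intro τ τ' heq
  apply Subtype.ext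
  exact h.comm_inj hΔ hrN (mem_inf.mp τ.2).1 (mem_inf.mp τ'.2).1 (congrArg Subtype.val heq)

theorem Pair.card_le [Finite S] (hΔ : TISys Δ) (h : Pair Δ R T) {r : S} (hr : r ∈ R)
    (hrN : r ∉ normalizer (T : Set S)) :
    Nat.card ↥(T ⊓ normalizer (R : Set S)) ≤ Nat.card ↥(R ⊓ normalizer (T : Set S)) :=
  Nat.card_le_card_of_injective _ (h.commMap_injective hΔ hr hrN)

theorem Pair.comm_surj [Finite S] (hΔ : TISys Δ) (h : Pair Δ R T) {r : S} (hr : r ∈ R)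
    (hrN : r ∉ normalizer (T : Set S))
    (hcard : Nat.card ↥(R ⊓ normalizer (T : Set S)) ≤ Nat.card ↥(T ⊓ normalizer (R : Set S)))
    {ρ : S} (hρ : ρ ∈ R ⊓ normalizer (T : Set S)) :
    ∃ τ ∈ T ⊓ normalizer (R : Set S), ⁅r, τ⁆ = ρ := by
  obtain ⟨τ, hτ⟩ := ((h.commMap_injective hΔ hr hrN).bijective_of_nat_card_le hcard).2 ⟨ρ, hρ⟩
  exact ⟨τ, τ.2, congrArg Subtype.val hτ⟩

/-- `r` inverts `N_R(T)`. -/
theorem Pair.invert [Finite S] (hΔ : TISys Δ) (h : Pair Δ R T) {r : S} (hr : r ∈ R)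
    (hrN : r ∉ normalizer (T : Set S)) (hr2 : r ^ 2 ∈ normalizer (T : Set S))
    (hcard : Nat.card ↥(R ⊓ normalizer (T : Set S)) ≤ Nat.card ↥(T ⊓ normalizer (R : Set S)))
    {ρ : S} (hρ : ρ ∈ R ⊓ normalizer (T : Set S)) : r * ρ * r⁻¹ = ρ⁻¹ := by
  obtain ⟨τ, hτ, rfl⟩ := h.comm_surj hΔ hr hrN hcard hρ
  have h1 : r ^ 2 * τ = τ * r ^ 2 :=
    h.comm₀ hΔ (pow_mem hr 2) hr2 (mem_inf.mp hτ).1 (mem_inf.mp hτ).2
  rw [pow_two] at h1
  have h2 : r * ⁅r, τ⁆ * r⁻¹ * ⁅r, τ⁆ = 1 := by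
    have : r * ⁅r, τ⁆ * r⁻¹ * ⁅r, τ⁆ = (r * r * τ) * (τ * (r * r))⁻¹ := by
      rw [commutatorElement_def]; group
    rw [this, h1, mul_inv_cancel]
  exact eq_inv_of_mul_eq_one_left h2

theorem Pair.mem_normalizer_sup [Finite S] (hΔ : TISys Δ) (h : Pair Δ R T) {r : S} (hr : r ∈ R)
    (hrN : r ∉ normalizer (T : Set S)) (hr2 : r ^ 2 ∈ normalizer (T : Set S))
    (hcard : Nat.card ↥(R ⊓ normalizer (T : Set S)) ≤ Nat.card ↥(T ⊓ normalizer (R : Set S))) :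
    r ∈ normalizer (((R ⊓ normalizer (T : Set S)) ⊔ (T ⊓ normalizer (R : Set S)) : Subgroup S) :
      Set S) := by
  apply mem_normalizer_of_conjMap_eq_self
  apply conjMap_eq_of_le
  rw [Subgroup.map_sup]
  apply sup_le
  · rintro x ⟨ρ, hρ, rfl⟩
    apply mem_sup_left
    have : (MulAut.conj r).toMonoidHom ρ = ρ⁻¹ := by
      simpa using h.invert hΔ hr hrN hr2 hcard hρ
    rw [this]
    exact inv_mem hρ
  · rintro x ⟨τ, hτ, rfl⟩
    have : (MulAut.conj r).toMonoidHom τ = ⁅r, τ⁆ * τ := by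
      simp [commutatorElement_def]
    rw [this]
    exact mul_mem (mem_sup_left (h.comm_mem hr hrN (mem_inf.mp hτ).1 (mem_inf.mp hτ).2))
      (mem_sup_right hτ)

theorem Pair.false_of [Finite S] (hS : IsPGroup 2 S) (hΔ : TISys Δ) (h : Pair Δ R T) {r t : S}
    (hr : r ∈ R) (hrN : r ∉ normalizer (T : Set S)) (hr2 : r ^ 2 ∈ normalizer (T : Set S))
    (ht : t ∈ T) (htN : t ∉ normalizer (R : Set S)) (ht2 : t ^ 2 ∈ normalizer (R : Set S))
    (hcard : Nat.card ↥(R ⊓ normalizer (T : Set S)) = Nat.card ↥(T ⊓ normalizer (R : Set S)))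
    (hne : R ⊓ normalizer (T : Set S) ≠ ⊥) : False := by
  haveI : Fact (Nat.Prime 2) := ⟨Nat.prime_two⟩
  obtain ⟨R₀, hR₀⟩ : ∃ R₀ : Subgroup S, R₀ = R ⊓ normalizer (T : Set S) := ⟨_, rfl⟩
  obtain ⟨T₀, hT₀⟩ : ∃ T₀ : Subgroup S, T₀ = T ⊓ normalizer (R : Set S) := ⟨_, rfl⟩
  have hrV : r ∈ normalizer ((R₀ ⊔ T₀ : Subgroup S) : Set S) := by
    rw [hR₀, hT₀]; exact h.mem_normalizer_sup hΔ hr hrN hr2 hcard.le
  have htV : t ∈ normalizer ((R₀ ⊔ T₀ : Subgroup S) : Set S) := by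
    rw [hR₀, hT₀, sup_comm]; exact h.symm.mem_normalizer_sup hΔ ht htN ht2 hcard.ge
  have hcomm : ∀ a ∈ R₀, ∀ b ∈ T₀, a * b = b * a := by
    intro a ha b hb
    rw [hR₀] at ha; rw [hT₀] at hb
    exact h.comm₀ hΔ (mem_inf.mp ha).1 (mem_inf.mp ha).2 (mem_inf.mp hb).1 (mem_inf.mp hb).2
  have hVne : R₀ ⊔ T₀ ≠ ⊥ := by
    intro h0
    apply hne
    rw [← hR₀, eq_bot_iff, ← h0]; exact le_sup_left
  obtain ⟨x, hxV, hx2, hxc⟩ := Cfsg.Agent.Lib.Helper17.exists_central_order_p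
    (p := 2) (R₀ := R₀ ⊔ T₀) (R₁ := (R₀ ⊔ T₀) ⊔ zpowers r ⊔ zpowers t)
    (hS.to_subgroup _) (le_sup_left.trans le_sup_left)
    (sup_le (sup_le le_normalizer (zpowers_le.mpr hrV)) (zpowers_le.mpr htV)) hVne
  have hxr : r * x = x * r := hxc r (mem_sup_left (mem_sup_right (mem_zpowers r)))
  have hxt : t * x = x * t := hxc t (mem_sup_right (mem_zpowers t))
  obtain ⟨ρ, hρ, τ, hτ, rfl⟩ := (Cfsg.Agent.Lib.Helper10.mem_sup_of_commute R₀ T₀ hcomm).mp hxV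
  have hρτ := hcomm ρ hρ τ hτ
  have hρ' : ρ ∈ R ⊓ normalizer (T : Set S) := hR₀ ▸ hρ
  have hτ' : τ ∈ T ⊓ normalizer (R : Set S) := hT₀ ▸ hτ
  have hsq : (ρ * τ) ^ 2 = 1 := by rw [← hx2]; exact pow_orderOf_eq_one _
  have hsq' : ρ ^ 2 * τ ^ 2 = 1 := by
    rw [← hsq, (show Commute ρ τ from hρτ).mul_pow]
  have hρ2 : ρ ^ 2 = 1 := by
    have h1 : ρ ^ 2 ∈ R ⊓ T := by
      refine mem_inf.mpr ⟨pow_mem (mem_inf.mp hρ').1 2, ?_⟩
      have : ρ ^ 2 = (τ ^ 2)⁻¹ := eq_inv_of_mul_eq_one_left hsq'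
      rw [this]
      exact inv_mem (pow_mem (mem_inf.mp hτ').1 2)
    rw [h.inf_eq_bot hΔ, mem_bot] at h1
    exact h1
  have hinv : r * ρ * r⁻¹ = ρ⁻¹ := h.invert hΔ hr hrN hr2 hcard.le hρ'
  have hτ1 : τ = 1 := by
    apply hΔ.eq_one_of_fixed h.memT hrN (mem_inf.mp hτ').1
    have h1 : r * (ρ * τ) * r⁻¹ = ρ * τ := by rw [hxr, mul_inv_cancel_right]
    calc r * τ * r⁻¹ = (r * ρ * r⁻¹)⁻¹ * (r * (ρ * τ) * r⁻¹) := by group
      _ = ρ⁻¹⁻¹ * (ρ * τ) := by rw [hinv, h1]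
      _ = τ := by rw [inv_inv, ← mul_assoc, ← pow_two, hρ2, one_mul]
  have hρ1 : ρ = 1 := by
    apply hΔ.eq_one_of_fixed h.memR htN (mem_inf.mp hρ').1
    rw [hτ1, mul_one] at hxt
    rw [hxt, mul_inv_cancel_right]
  rw [hρ1, hτ1, one_mul, orderOf_one] at hx2
  norm_num at hx2

/-- If `[a, b]` commutes with `a` and `b` and `a ^ 4 = 1`, then `a ^ 2` and `b ^ 2` commute. -/
theorem sq_comm_of_class_two {a b : S} (hca : ⁅a, b⁆ * a = a * ⁅a, b⁆)
    (hcb : ⁅a, b⁆ * b = b * ⁅a, b⁆) (ha4 : a ^ 4 = 1) : a ^ 2 * b ^ 2 = b ^ 2 * a ^ 2 := by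
  obtain ⟨c, hc⟩ : ∃ c : S, c = ⁅a, b⁆ := ⟨_, rfl⟩
  rw [← hc] at hca hcb
  have e1 : a * b * a⁻¹ = c * b := by rw [hc, commutatorElement_def]; group
  have e2 : a * c * a⁻¹ = c := by rw [← hca, mul_inv_cancel_right]
  have e3 : (a * a) * b * (a * a)⁻¹ = c * (c * b) := by
    calc (a * a) * b * (a * a)⁻¹ = a * (a * b * a⁻¹) * a⁻¹ := by group
      _ = a * (c * b) * a⁻¹ := by rw [e1]
      _ = (a * c * a⁻¹) * (a * b * a⁻¹) := by group
      _ = c * (c * b) := by rw [e2, e1]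
  have e3c : (a * a) * c * (a * a)⁻¹ = c := by
    calc (a * a) * c * (a * a)⁻¹ = a * (a * c * a⁻¹) * a⁻¹ := by group
      _ = c := by rw [e2, e2]
  have e5 : (a * a * (a * a)) * b * (a * a * (a * a))⁻¹ = c * c * (c * (c * b)) := by
    calc (a * a * (a * a)) * b * (a * a * (a * a))⁻¹
        = (a * a) * ((a * a) * b * (a * a)⁻¹) * (a * a)⁻¹ := by group
      _ = (a * a) * (c * (c * b)) * (a * a)⁻¹ := by rw [e3]
      _ = ((a * a) * c * (a * a)⁻¹) * ((a * a) * c * (a * a)⁻¹) * ((a * a) * b * (a * a)⁻¹) := by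
          group
      _ = c * c * (c * (c * b)) := by rw [e3c, e3]
  have ha4' : a * a * (a * a) = 1 := by
    rw [← ha4]; simp only [pow_succ, pow_zero, one_mul, mul_assoc]
  rw [ha4', one_mul, inv_one, mul_one] at e5
  have hc4 : c * c * c * c = 1 := by
    have : c * c * c * c * b = 1 * b := by
      rw [one_mul]; conv_rhs => rw [e5]
      group
    exact mul_right_cancel this
  have hbc : b * c = c * b := hcb.symm
  have e6 : (a * a) * (b * b) * (a * a)⁻¹ = b * b := by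
    calc (a * a) * (b * b) * (a * a)⁻¹
        = ((a * a) * b * (a * a)⁻¹) * ((a * a) * b * (a * a)⁻¹) := by group
      _ = (c * (c * b)) * (c * (c * b)) := by rw [e3]
      _ = c * c * (b * c) * c * b := by group
      _ = c * c * (c * b) * c * b := by rw [hbc]
      _ = c * c * c * (b * c) * b := by group
      _ = c * c * c * (c * b) * b := by rw [hbc]
      _ = (c * c * c * c) * (b * b) := by group
      _ = b * b := by rw [hc4, one_mul]
  rw [pow_two, pow_two]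
  calc a * a * (b * b) = ((a * a) * (b * b) * (a * a)⁻¹) * (a * a) := by group
    _ = b * b * (a * a) := by rw [e6]

theorem main [Finite S] (hS : IsPGroup 2 S) (hΔ : TISys Δ) (hΦ : ∀ R ∈ Δ, frattini ↥R ≠ ⊥) :
    ∀ n : ℕ, ∀ R ∈ Δ, ∀ T ∈ Δ, R ≠ T → Nat.card ↥(R ⊔ T : Subgroup S) = n →
      ∀ a ∈ R, ∀ b ∈ T, a * b = b * a := by
  haveI : Fact (Nat.Prime 2) := ⟨Nat.prime_two⟩
  intro n
  induction n using Nat.strong_induction_on with
  | _ n IH =>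
  intro R hR T hT hne hn
  have hconj : ∀ D ∈ Δ, D ≤ R ⊔ T → D ≠ R ⊔ T → ∀ s ∈ R ⊔ T, s ∉ normalizer (D : Set S) →
      ∀ a ∈ D, ∀ b ∈ D.map (MulAut.conj s).toMonoidHom, a * b = b * a := by
    intro D hD hDle hDne s hs hsN
    obtain ⟨M, hDM, hMH, hHM⟩ := exists_normal_between (hS.to_subgroup (R ⊔ T))
      (lt_of_le_of_ne hDle hDne)
    have h1 : D.map (MulAut.conj s).toMonoidHom ≤ M := by
      calc D.map (MulAut.conj s).toMonoidHom ≤ M.map (MulAut.conj s).toMonoidHom :=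
            conjMap_mono hDM s
        _ = M := conjMap_eq_self_of_mem_normalizer (hHM hs)
    have h2 : D ⊔ D.map (MulAut.conj s).toMonoidHom < R ⊔ T :=
      lt_of_le_of_lt (sup_le hDM h1) hMH
    have h3 := Cfsg.Agent.Lib.Helper1.card_lt_of_lt h2
    rw [hn] at h3
    exact IH _ h3 D hD _ (hΔ.inv s D hD)
      (fun h4 => hsN (mem_normalizer_of_conjMap_eq_self h4.symm)) rfl
  have hRne : R ≠ R ⊔ T := by
    intro h1
    have h2 : T ≤ R := by rw [h1]; exact le_sup_right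
    exact hne (Subgroup.eq_of_le_of_card_ge h2 (hΔ.ord R hR T hT).le).symm
  have hTne : T ≠ R ⊔ T := by
    intro h1
    have h2 : R ≤ T := by rw [h1]; exact le_sup_left
    exact hne (Subgroup.eq_of_le_of_card_ge h2 (hΔ.ord T hT R hR).le)
  have hP : Pair Δ R T :=
    ⟨hR, hT, hne, fun s hs hsN => hconj R hR le_sup_left hRne s (mem_sup_right hs) hsN,
      fun s hs hsN => hconj T hT le_sup_right hTne s (mem_sup_left hs) hsN⟩
  -- the case where one of them normalizes the other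
  have hcase : ∀ R' T' : Subgroup S, Pair Δ R' T' → R' ≤ normalizer (T' : Set S) →
      T' ≤ normalizer (R' : Set S) := by
    intro R' T' hP' hRN
    by_contra hTN
    obtain ⟨t, ht, htN⟩ := SetLike.not_le_iff_exists.mp hTN
    have h1 := hP'.symm.card_le hΔ ht htN
    rw [inf_of_le_left hRN] at h1
    have h2 : T' ⊓ normalizer (R' : Set S) < T' := by
      refine lt_of_le_of_ne inf_le_left (fun h3 => htN ?_)
      have : t ∈ T' ⊓ normalizer (R' : Set S) := by rw [h3]; exact ht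
      exact (mem_inf.mp this).2
    have h3 := Cfsg.Agent.Lib.Helper1.card_lt_of_lt h2
    rw [hΔ.ord T' hP'.memT R' hP'.memR] at h3
    omega
  by_cases hRN : R ≤ normalizer (T : Set S)
  · intro a ha b hb
    exact hP.comm₀ hΔ ha (hRN ha) hb (hcase R T hP hRN hb)
  by_cases hTN : T ≤ normalizer (R : Set S)
  · exact absurd (hcase T R hP.symm hTN) hRN
  exfalso
  obtain ⟨r', hr', hr'N⟩ := SetLike.not_le_iff_exists.mp hRN
  obtain ⟨t', ht', ht'N⟩ := SetLike.not_le_iff_exists.mp hTN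
  have hcard : Nat.card ↥(R ⊓ normalizer (T : Set S)) = Nat.card ↥(T ⊓ normalizer (R : Set S)) :=
    le_antisymm (hP.symm.card_le hΔ ht' ht'N) (hP.card_le hΔ hr' hr'N)
  -- nontriviality
  have hne₀ : R ⊓ normalizer (T : Set S) ≠ ⊥ := by
    obtain ⟨a, haR, ha2, ha4⟩ := exists_order_four hS R (hΦ R hR)
    obtain ⟨b, hbT, hb2, hb4⟩ := exists_order_four hS T (hΦ T hT)
    have hT₀ : ∀ y ∈ T ⊓ normalizer (R : Set S), y ≠ 1 → R ⊓ normalizer (T : Set S) ≠ ⊥ := by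
      intro y hy hy1 h0
      have h1 : Nat.card ↥(T ⊓ normalizer (R : Set S)) = 1 := by
        rw [← hcard, h0]; exact Subgroup.card_bot
      rw [Subgroup.card_eq_one] at h1
      rw [h1, mem_bot] at hy
      exact hy1 hy
    by_cases haN : a ∈ normalizer (T : Set S)
    · intro h0
      have h1 : a ∈ R ⊓ normalizer (T : Set S) := mem_inf.mpr ⟨haR, haN⟩
      rw [h0, mem_bot] at h1
      apply ha2
      rw [h1, one_pow]
    by_cases hbN : b ∈ normalizer (R : Set S)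
    · refine hT₀ b (mem_inf.mpr ⟨hbT, hbN⟩) ?_
      intro h1
      apply hb2
      rw [h1, one_pow]
    have hca : ⁅a, b⁆ * a = a * ⁅a, b⁆ := by
      have h1 := hP.conjR b hbT hbN a haR (b * a⁻¹ * b⁻¹) (conj_mem_conjMap (inv_mem haR))
      have h2 : ⁅a, b⁆ = a * (b * a⁻¹ * b⁻¹) := by rw [commutatorElement_def]; group
      rw [h2, mul_assoc, ← h1, mul_assoc]
    have hcb : ⁅a, b⁆ * b = b * ⁅a, b⁆ := by
      have h1 := hP.conjT a haR haN b hbT (a * b * a⁻¹) (conj_mem_conjMap hbT)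
      have h2 : ⁅a, b⁆ = (a * b * a⁻¹) * b⁻¹ := by rw [commutatorElement_def]
      rw [h2]
      calc a * b * a⁻¹ * b⁻¹ * b = a * b * a⁻¹ := by group
        _ = (b * (a * b * a⁻¹)) * b⁻¹ := by rw [h1]; group
        _ = b * (a * b * a⁻¹ * b⁻¹) := by group
    have h5 := sq_comm_of_class_two hca hcb ha4
    have h6 : b ^ 2 ∈ normalizer (R : Set S) :=
      hΔ.mem_normalizer_of_commute hR (pow_mem haR 2) ha2 h5.symm
    exact hT₀ (b ^ 2) (mem_inf.mpr ⟨pow_mem hbT 2, h6⟩) hb2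
  -- choose r, t
  have hr'K : r' ∉ R ⊓ normalizer (T : Set S) := fun h1 => hr'N (mem_inf.mp h1).2
  have ht'K : t' ∉ T ⊓ normalizer (R : Set S) := fun h1 => ht'N (mem_inf.mp h1).2
  obtain ⟨m, hm1, hm2⟩ := exists_pow_not_mem hS _ hr'K
  obtain ⟨k, hk1, hk2⟩ := exists_pow_not_mem hS _ ht'K
  exact hP.false_of hS hΔ (pow_mem hr' _) (fun h1 => hm1 (mem_inf.mpr ⟨pow_mem hr' _, h1⟩))
    (mem_inf.mp hm2).2 (pow_mem ht' _) (fun h1 => hk1 (mem_inf.mpr ⟨pow_mem ht' _, h1⟩))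
    (mem_inf.mp hk2).2 hcard hne₀

end Aux

theorem result {S : Type*} [Group S] [Finite S] (hS : IsPGroup 2 S)
    (Δ : Set (Subgroup S)) (hinv : ∀ s : S, ∀ R ∈ Δ, R.map (MulAut.conj s).toMonoidHom ∈ Δ)
    (hΦ : ∀ R ∈ Δ, frattini ↥R ≠ ⊥) (hord : ∀ R ∈ Δ, ∀ T ∈ Δ, Nat.card ↥R = Nat.card ↥T)
    (hti : ∀ R ∈ Δ, ∀ T ∈ Δ, R = T ∨ R ⊓ T = ⊥) :
    ∀ R ∈ Δ, ∀ T ∈ Δ, R ≠ T → ⁅R, T⁆ = ⊥ := by
  intro R hR T hT hne
  have h := main hS (Δ := Δ) ⟨hinv, hord, hti⟩ hΦ _ R hR T hT hne rfl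
  rw [Subgroup.commutator_eq_bot_iff_le_centralizer]
  intro a ha
  rw [mem_centralizer_iff]
  intro b hb
  exact (h a ha b hb).symm

end Cfsg.Agent.S1782
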