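import Cfsg.Statements.S1783
import Cfsg.Agent.S1782
import Cfsg.Agent.Lib.Helper9.Layer2
import Cfsg.Agent.Lib.Helper1.Frattini
import Cfsg.Agent.Lib.Helper1.Cores

set_option autoImplicit false
open Cfsg

namespace Cfsg.Agent.S1783

open Subgroup Cfsg.Agent.Lib.Helper9
open scoped commutatorElement

section Aux

variable {X : Type*} [Group X]

/-- The TI-property for arbitrary pairs of conjugates. -/
theorem ti_conj (A : Subgroup X)
    (hti : ∀ h : X, A.map (MulAut.conj h).toMonoidHom = A ∨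
      A.map (MulAut.conj h).toMonoidHom ⊓ A = ⊥) (x y : X) :
    A.map (MulAut.conj x).toMonoidHom = A.map (MulAut.conj y).toMonoidHom ∨
      A.map (MulAut.conj x).toMonoidHom ⊓ A.map (MulAut.conj y).toMonoidHom = ⊥ := by
  rcases hti (y⁻¹ * x) with h | h
  · left
    have := congrArg (fun D : Subgroup X => D.map (MulAut.conj y).toMonoidHom) h
    rwa [← conjMap_mul, mul_inv_cancel_left] at this
  · right
    have := congrArg (fun D : Subgroup X => D.map (MulAut.conj y).toMonoidHom) h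
    rw [Subgroup.map_inf _ _ _ (MulAut.conj y).injective, ← conjMap_mul, mul_inv_cancel_left,
      Subgroup.map_bot] at this
    exact this

/-- Two distinct conjugates of a TI-subgroup with an element of order at least four that lie in a
common 2-subgroup commute elementwise. -/
theorem commute_of_isPGroup [Finite X] (A : Subgroup X)
    (hti : ∀ h : X, A.map (MulAut.conj h).toMonoidHom = A ∨
      A.map (MulAut.conj h).toMonoidHom ⊓ A = ⊥)
    {a₀ : X} (ha₀ : a₀ ∈ A) (ha₀2 : a₀ ^ 2 ≠ 1) (P : Subgroup X) (hP : IsPGroup 2 P) (x y : X)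
    (hx : A.map (MulAut.conj x).toMonoidHom ≤ P) (hy : A.map (MulAut.conj y).toMonoidHom ≤ P)
    (hne : A.map (MulAut.conj x).toMonoidHom ≠ A.map (MulAut.conj y).toMonoidHom) :
    ∀ u ∈ A.map (MulAut.conj x).toMonoidHom, ∀ v ∈ A.map (MulAut.conj y).toMonoidHom,
      u * v = v * u := by
  haveI : Fact (Nat.Prime 2) := ⟨Nat.prime_two⟩
  obtain ⟨Δ, hΔ⟩ : ∃ Δ : Set (Subgroup ↥P), Δ = {D | ∃ g : X, D.map P.subtype =
    A.map (MulAut.conj g).toMonoidHom} := ⟨_, rfl⟩
  have hinj : Function.Injective P.subtype := P.subtype_injective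
  have hmapconj : ∀ (s : ↥P) (D : Subgroup ↥P),
      (D.map (MulAut.conj s).toMonoidHom).map P.subtype =
        (D.map P.subtype).map (MulAut.conj (s : X)).toMonoidHom := by
    intro s D
    rw [Subgroup.map_map, Subgroup.map_map]
    congr 1
  have hinv : ∀ s : ↥P, ∀ D ∈ Δ, D.map (MulAut.conj s).toMonoidHom ∈ Δ := by
    intro s D hD
    rw [hΔ] at hD ⊢
    obtain ⟨g, hg⟩ := hD
    exact ⟨(s : X) * g, by rw [hmapconj, hg, conjMap_mul]⟩
  have hΦ : ∀ D ∈ Δ, frattini ↥D ≠ ⊥ := by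
    intro D hD
    rw [hΔ] at hD
    obtain ⟨g, hg⟩ := hD
    have h1 : g * a₀ * g⁻¹ ∈ D.map P.subtype := by rw [hg]; exact conj_mem_conjMap ha₀
    obtain ⟨d, hd, hdeq⟩ := h1
    have hDp : IsPGroup 2 ↥D := hP.to_subgroup D
    have h2 := Cfsg.Agent.Lib.Helper1.IsPGroup.pow_mem_frattini hDp (⟨d, hd⟩ : ↥D)
    intro h0
    rw [h0, mem_bot] at h2
    apply ha₀2
    have h3 : ((d : ↥P) : X) ^ 2 = 1 := by
      have := congrArg (fun z : ↥D => ((z : ↥P) : X)) h2
      simpa using this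
    have hdeq' : ((d : ↥P) : X) = g * a₀ * g⁻¹ := hdeq
    rw [hdeq', conj_pow, conj_eq_one_iff] at h3
    exact h3
  have hcard : ∀ D ∈ Δ, Nat.card ↥D = Nat.card ↥A := by
    intro D hD
    rw [hΔ] at hD
    obtain ⟨g, hg⟩ := hD
    rw [← Subgroup.card_map_of_injective hinj, hg, card_conjMap]
  have hord : ∀ D ∈ Δ, ∀ E ∈ Δ, Nat.card ↥D = Nat.card ↥E := by
    intro D hD E hE
    rw [hcard D hD, hcard E hE]
  have hti' : ∀ D ∈ Δ, ∀ E ∈ Δ, D = E ∨ D ⊓ E = ⊥ := by
    intro D hD E hE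
    rw [hΔ] at hD hE
    obtain ⟨g, hg⟩ := hD
    obtain ⟨k, hk⟩ := hE
    rcases ti_conj A hti g k with h | h
    · left
      apply Subgroup.map_injective hinj
      rw [hg, hk, h]
    · right
      apply (Subgroup.map_eq_bot_iff_of_injective _ hinj).mp
      rw [eq_bot_iff, ← h, ← hg, ← hk]
      exact le_inf (Subgroup.map_mono inf_le_left) (Subgroup.map_mono inf_le_right)
  have key := Cfsg.Agent.S1782.result hP Δ hinv hΦ hord hti'
  have hDx : (A.map (MulAut.conj x).toMonoidHom).subgroupOf P ∈ Δ := by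
    rw [hΔ]
    exact ⟨x, by rw [subgroupOf_map_subtype, inf_of_le_left hx]⟩
  have hDy : (A.map (MulAut.conj y).toMonoidHom).subgroupOf P ∈ Δ := by
    rw [hΔ]
    exact ⟨y, by rw [subgroupOf_map_subtype, inf_of_le_left hy]⟩
  have hne' : (A.map (MulAut.conj x).toMonoidHom).subgroupOf P ≠
      (A.map (MulAut.conj y).toMonoidHom).subgroupOf P := by
    intro h
    apply hne
    have := congrArg (Subgroup.map P.subtype) h
    rwa [subgroupOf_map_subtype, subgroupOf_map_subtype, inf_of_le_left hx,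
      inf_of_le_left hy] at this
  have hcomm := key _ hDx _ hDy hne'
  intro u hu v hv
  rw [commutator_eq_bot_iff_le_centralizer] at hcomm
  have h1 : (⟨u, hx hu⟩ : ↥P) ∈ (A.map (MulAut.conj x).toMonoidHom).subgroupOf P :=
    mem_subgroupOf.mpr hu
  have h2 := hcomm h1
  rw [mem_centralizer_iff] at h2
  have h3 := h2 ⟨v, hy hv⟩ (mem_subgroupOf.mpr hv)
  exact (congrArg Subtype.val h3).symm

/-- Frattini subgroup of a subgroup, as a subgroup of the ambient group. -/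
def phi (U : Subgroup X) : Subgroup X := (frattini ↥U).map U.subtype

theorem phi_le (U : Subgroup X) : phi U ≤ U := Subgroup.map_subtype_le _

theorem phi_lt [Finite X] {U : Subgroup X} (hU : U ≠ ⊥) : phi U < U := by
  refine lt_of_le_of_ne (phi_le U) ?_
  intro h
  have h1 : frattini ↥U = ⊤ := by
    rw [eq_top_iff]
    intro u _
    have hu : (u : X) ∈ phi U := by rw [h]; exact u.2
    obtain ⟨v, hv, hvu⟩ := hu
    have : v = u := Subtype.ext hvu
    rwa [← this]
  haveI : Nontrivial ↥U := (Subgroup.nontrivial_iff_ne_bot U).mpr hU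
  obtain ⟨M, hM⟩ : ∃ M : Subgroup ↥U, IsCoatom M := by
    rcases eq_top_or_exists_le_coatom (⊥ : Subgroup ↥U) with h2 | ⟨M, hM, _⟩
    · exact absurd h2 bot_ne_top
    · exact ⟨M, hM⟩
  have h3 := frattini_le_coatom hM
  rw [h1] at h3
  exact hM.1 (top_le_iff.mp h3)

theorem phi_normal {U : Subgroup X} (hU : U.Normal) : (phi U).Normal := by
  haveI := hU
  haveI : (frattini ↥U).Characteristic := frattini_characteristic
  exact ConjAct.normal_of_characteristic_of_normal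

theorem sq_mem_phi [Finite X] {U : Subgroup X} (hU : IsPGroup 2 U) {u : X} (hu : u ∈ U) :
    u ^ 2 ∈ phi U := by
  haveI : Fact (Nat.Prime 2) := ⟨Nat.prime_two⟩
  have := Cfsg.Agent.Lib.Helper1.IsPGroup.pow_mem_frattini hU (⟨u, hu⟩ : ↥U)
  exact ⟨_, this, by simp⟩

/-- An element of odd order acting trivially on all `U / Φ(U)` centralizes `Q`. -/
theorem centralizes_of_odd [Finite X] (Q : Subgroup X) (hQ : IsPGroup 2 Q) {y : X} {m : ℕ}
    (hm : Odd m) (hym : y ^ m = 1)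
    (hy : ∀ U : Subgroup X, U.Normal → U ≤ Q → ∀ u ∈ U, ⁅y, u⁆ ∈ phi U) :
    ∀ n : ℕ, ∀ U : Subgroup X, U.Normal → U ≤ Q → Nat.card U = n → ∀ u ∈ U, y * u = u * y := by
  intro n
  induction n using Nat.strong_induction_on with
  | _ n IH =>
  intro U hUn hUQ hn u hu
  by_cases hU : U = ⊥
  · rw [hU, mem_bot] at hu
    rw [hu, mul_one, one_mul]
  have hlt := Cfsg.Agent.Lib.Helper1.card_lt_of_lt (phi_lt hU)
  rw [hn] at hlt
  have hIH := IH _ hlt (phi U) (phi_normal hUn) ((phi_le U).trans hUQ) rfl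
  obtain ⟨c, hc⟩ : ∃ c : X, c = ⁅y, u⁆ := ⟨_, rfl⟩
  have hcphi : c ∈ phi U := by rw [hc]; exact hy U hUn hUQ u hu
  have hyc : y * c = c * y := hIH c hcphi
  have hyu : y * u * y⁻¹ = c * u := by rw [hc, commutatorElement_def]; group
  have hpow : ∀ k : ℕ, y ^ k * u * (y ^ k)⁻¹ = c ^ k * u := by
    intro k
    induction k with
    | zero => simp
    | succ k ih =>
      have hyck : y * c ^ k * y⁻¹ = c ^ k := by
        have : Commute y (c ^ k) := (show Commute y c from hyc).pow_right k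
        rw [this.eq, mul_inv_cancel_right]
      calc y ^ (k + 1) * u * (y ^ (k + 1))⁻¹ = y * (y ^ k * u * (y ^ k)⁻¹) * y⁻¹ := by
            rw [pow_succ']; group
        _ = y * (c ^ k * u) * y⁻¹ := by rw [ih]
        _ = (y * c ^ k * y⁻¹) * (y * u * y⁻¹) := by group
        _ = c ^ k * (c * u) := by rw [hyck, hyu]
        _ = c ^ (k + 1) * u := by rw [pow_succ]; group
  have hcm : c ^ m = 1 := by
    have := hpow m
    rw [hym, inv_one, mul_one, one_mul] at this
    have h2 : c ^ m * u = 1 * u := by rw [one_mul]; exact this.symm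
    exact mul_right_cancel h2
  have hcQ : c ∈ Q := hUQ ((phi_le U) hcphi)
  obtain ⟨j, hj⟩ := hQ ⟨c, hcQ⟩
  have hj' : c ^ (2 ^ j) = 1 := by
    have := congrArg Subtype.val hj
    simpa using this
  have h1 : orderOf c ∣ 2 ^ j := orderOf_dvd_of_pow_eq_one hj'
  have h2 : orderOf c ∣ m := orderOf_dvd_of_pow_eq_one hcm
  have h3 : Nat.Coprime (2 ^ j) m := Nat.Coprime.pow_left j (Nat.coprime_two_left.mpr hm)
  have h4 : orderOf c = 1 := Nat.eq_one_of_dvd_coprimes h3 h1 h2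
  have h5 : c = 1 := orderOf_eq_one_iff.mp h4
  rw [h5] at hc
  exact commutatorElement_eq_one_iff_mul_comm.mp hc.symm

/-- The elements acting trivially on all sections `U / Φ(U)` for `U ≤ Q` normal. -/
def kerPhi (Q : Subgroup X) : Subgroup X where
  carrier := {x | ∀ U : Subgroup X, U.Normal → U ≤ Q → ∀ u ∈ U, ⁅x, u⁆ ∈ phi U}
  one_mem' := by
    intro U _ _ u _
    simp [commutatorElement_def]
  mul_mem' := by
    intro x y hx hy U hUn hUQ u hu
    have h1 : ⁅x * y, u⁆ = x * ⁅y, u⁆ * x⁻¹ * ⁅x, u⁆ := by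
      simp only [commutatorElement_def]; group
    rw [h1]
    exact mul_mem ((phi_normal hUn).conj_mem _ (hy U hUn hUQ u hu) x) (hx U hUn hUQ u hu)
  inv_mem' := by
    intro x hx U hUn hUQ u hu
    have h1 : ⁅x⁻¹, u⁆ = x⁻¹ * (⁅x, u⁆)⁻¹ * x⁻¹⁻¹ := by
      simp only [commutatorElement_def]; group
    rw [h1]
    exact (phi_normal hUn).conj_mem _ (inv_mem (hx U hUn hUQ u hu)) x⁻¹

theorem mem_kerPhi {Q : Subgroup X} {x : X} :
    x ∈ kerPhi Q ↔ ∀ U : Subgroup X, U.Normal → U ≤ Q → ∀ u ∈ U, ⁅x, u⁆ ∈ phi U := Iff.rfl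

theorem kerPhi_normal (Q : Subgroup X) : (kerPhi Q).Normal := by
  constructor
  intro x hx g U hUn hUQ u hu
  have h1 : ⁅g * x * g⁻¹, u⁆ = g * ⁅x, g⁻¹ * u * g⁻¹⁻¹⁆ * g⁻¹ := by
    simp only [commutatorElement_def]; group
  rw [h1]
  exact (phi_normal hUn).conj_mem _ (hx U hUn hUQ _ (hUn.conj_mem u hu g⁻¹)) g

theorem kerPhi_isPGroup [Finite X] (Q : Subgroup X) (hQn : Q.Normal) (hQ : IsPGroup 2 Q)
    (hC : centralizer (Q : Set X) ≤ Q) : IsPGroup 2 (kerPhi Q) := by
  rintro ⟨y, hy⟩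
  obtain ⟨j, m, hm, hjm⟩ := Nat.exists_eq_two_pow_mul_odd (orderOf_pos y).ne'
  have hy' : y ^ (2 ^ j) ∈ kerPhi Q := pow_mem hy _
  have h1 : (y ^ (2 ^ j)) ^ m = 1 := by rw [← pow_mul, ← hjm, pow_orderOf_eq_one]
  have h2 := centralizes_of_odd Q hQ hm h1 (mem_kerPhi.mp hy') _ Q hQn le_rfl rfl
  have h3 : y ^ (2 ^ j) ∈ centralizer (Q : Set X) :=
    mem_centralizer_iff.mpr (fun u hu => (h2 u hu).symm)
  obtain ⟨i, hi⟩ := hQ ⟨_, hC h3⟩
  refine ⟨j + i, Subtype.ext ?_⟩
  have := congrArg Subtype.val hi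
  simp only [SubmonoidClass.coe_pow, OneMemClass.coe_one] at this ⊢
  rw [pow_add, pow_mul]
  exact this

/-- The set of squares of an abelian subgroup is closed under the group operations. -/
theorem exists_sq_of_mem_closure (A : Subgroup X) (hAa : IsMulCommutative ↥A) {b : X}
    (hb : b ∈ closure ((fun a : X => a ^ 2) '' (A : Set X))) : ∃ a ∈ A, b = a ^ 2 := by
  induction hb using closure_induction with
  | mem x hx =>
    obtain ⟨a, ha, rfl⟩ := hx
    exact ⟨a, ha, rfl⟩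
  | one => exact ⟨1, one_mem A, by simp⟩
  | mul x y _ _ hx hy =>
    obtain ⟨a, ha, rfl⟩ := hx
    obtain ⟨a', ha', rfl⟩ := hy
    refine ⟨a * a', mul_mem ha ha', ?_⟩
    have hc : Commute a a' := by
      have := hAa.is_comm.comm ⟨a, ha⟩ ⟨a', ha'⟩
      exact congrArg Subtype.val this
    rw [hc.mul_pow]
  | inv x _ hx =>
    obtain ⟨a, ha, rfl⟩ := hx
    exact ⟨a⁻¹, inv_mem ha, by rw [inv_pow]⟩

theorem sq_mem_kerPhi [Finite X] (Q : Subgroup X) (hQn : Q.Normal) (hQ : IsPGroup 2 Q)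
    (A : Subgroup X) (hA2 : IsPGroup 2 ↥A) (hAa : IsMulCommutative ↥A)
    (hti : ∀ h : X, A.map (MulAut.conj h).toMonoidHom = A ∨
      A.map (MulAut.conj h).toMonoidHom ⊓ A = ⊥)
    {a₀ : X} (ha₀ : a₀ ∈ A) (ha₀2 : a₀ ^ 2 ≠ 1) {a : X} (ha : a ∈ A) : a ^ 2 ∈ kerPhi Q := by
  intro U hUn hUQ u hu
  haveI := hQn
  have hP : IsPGroup 2 ↥(A ⊔ Q : Subgroup X) := hA2.to_sup_of_normal_right hQ
  have hv : a * (u * a * u⁻¹) = (u * a * u⁻¹) * a := by
    by_cases hN : A.map (MulAut.conj u).toMonoidHom = A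
    · have h1 : u * a * u⁻¹ ∈ A := by rw [← hN]; exact conj_mem_conjMap ha
      exact congrArg Subtype.val (hAa.is_comm.comm ⟨a, ha⟩ ⟨_, h1⟩)
    · have h1 := commute_of_isPGroup A hti ha₀ ha₀2 (A ⊔ Q) hP 1 u ?_ ?_ ?_
      · exact h1 a (by rw [conjMap_one]; exact ha) _ (conj_mem_conjMap ha)
      · rw [conjMap_one]; exact le_sup_left
      · rintro x ⟨w, hw, rfl⟩
        have : (MulAut.conj u).toMonoidHom w = u * w * u⁻¹ := by simp
        rw [this]
        exact mul_mem (mul_mem (mem_sup_right (hUQ hu)) (mem_sup_left hw))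
          (inv_mem (mem_sup_right (hUQ hu)))
      · rw [conjMap_one]; exact fun h => hN h.symm
  obtain ⟨c, hc⟩ : ∃ c : X, c = ⁅a, u⁆ := ⟨_, rfl⟩
  have hcU : c ∈ U := by
    rw [hc, commutatorElement_def]
    exact mul_mem (hUn.conj_mem u hu a) (inv_mem hu)
  have hca : a * c = c * a := by
    have h1 : c = a * (u * a * u⁻¹)⁻¹ := by rw [hc, commutatorElement_def]; group
    have h2 : Commute a (u * a * u⁻¹) := hv
    rw [h1]
    exact ((Commute.refl a).mul_right h2.inv_right).eq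
  have h3 : ⁅a ^ 2, u⁆ = c ^ 2 := by
    have h4 : ⁅a ^ 2, u⁆ = a * ⁅a, u⁆ * a⁻¹ * ⁅a, u⁆ := by
      rw [pow_two]; simp only [commutatorElement_def]; group
    rw [h4, ← hc, hca, mul_inv_cancel_right, pow_two]
  rw [h3]
  exact sq_mem_phi (hQ.to_le hUQ) hcU

end Aux

theorem result {X : Type*} [Group X] [Finite X]
    (hX : Cfsg.generalizedFittingSubgroup X = Cfsg.pCore 2 X) (A : Subgroup X) (hA2 : IsPGroup 2 ↥A) (hAa : IsMulCommutative ↥A)
    (hti : ∀ h : X, A.map (MulAut.conj h).toMonoidHom = A ∨ A.map (MulAut.conj h).toMonoidHom ⊓ A = ⊥) :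
    Subgroup.closure ((fun a : X => a ^ 2) '' (A : Set X)) ≤ Cfsg.pCore 2 X ∧
      (¬ Cfsg.IsElementaryAbelian 2 (Subgroup.closure ((fun a : X => a ^ 2) '' (A : Set X))) →
        IsMulCommutative ↥(Subgroup.normalClosure ((fun a : X => a ^ 2) '' (A : Set X)))) := by
  haveI : Fact (Nat.Prime 2) := ⟨Nat.prime_two⟩
  have hQn : (pCore 2 X).Normal := Cfsg.pCore_normal 2 X
  have hQ : IsPGroup 2 (pCore 2 X) := Cfsg.Agent.Lib.Helper1.pCore_isPGroup 2
  have hC : centralizer (pCore 2 X : Set X) ≤ pCore 2 X := by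
    rw [← hX]; exact centralizer_gfs_le
  have hBA : closure ((fun a : X => a ^ 2) '' (A : Set X)) ≤ A := by
    rw [closure_le]
    rintro _ ⟨a, ha, rfl⟩
    exact pow_mem ha 2
  have hBcomm : ∀ x ∈ closure ((fun a : X => a ^ 2) '' (A : Set X)),
      ∀ y ∈ closure ((fun a : X => a ^ 2) '' (A : Set X)), x * y = y * x := by
    intro x hx y hy
    exact congrArg Subtype.val (hAa.is_comm.comm ⟨x, hBA hx⟩ ⟨y, hBA hy⟩)
  have hBc : IsMulCommutative ↥(closure ((fun a : X => a ^ 2) '' (A : Set X))) :=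
    ⟨⟨fun x y => Subtype.ext (hBcomm x x.2 y y.2)⟩⟩
  by_cases hB : ∀ a ∈ A, a ^ 2 = 1
  · have hBbot : closure ((fun a : X => a ^ 2) '' (A : Set X)) = ⊥ := by
      rw [closure_eq_bot_iff]
      rintro _ ⟨a, ha, rfl⟩
      exact hB a ha
    refine ⟨by rw [hBbot]; exact bot_le, fun hne => absurd ⟨hBc, ?_⟩ hne⟩
    intro a ha
    rw [hBbot, mem_bot] at ha
    rw [ha, one_pow]
  push Not at hB
  obtain ⟨a₀, ha₀, ha₀2⟩ := hB
  have h1 : closure ((fun a : X => a ^ 2) '' (A : Set X)) ≤ pCore 2 X := by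
    refine le_trans ?_ (Cfsg.Agent.Lib.Helper1.le_pCore (kerPhi_normal (pCore 2 X))
      (kerPhi_isPGroup (pCore 2 X) hQn hQ hC))
    rw [closure_le]
    rintro _ ⟨a, ha, rfl⟩
    exact sq_mem_kerPhi (pCore 2 X) hQn hQ A hA2 hAa hti ha₀ ha₀2 ha
  refine ⟨h1, fun hne => ?_⟩
  obtain ⟨b₀, hb₀, hb₀2⟩ : ∃ b₀ ∈ closure ((fun a : X => a ^ 2) '' (A : Set X)), b₀ ^ 2 ≠ 1 := by
    by_contra hcon
    push Not at hcon
    exact hne ⟨hBc, hcon⟩
  obtain ⟨B, hBdef⟩ : ∃ B : Subgroup X, B = closure ((fun a : X => a ^ 2) '' (A : Set X)) :=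
    ⟨_, rfl⟩
  have hBti : ∀ h : X, B.map (MulAut.conj h).toMonoidHom = B ∨
      B.map (MulAut.conj h).toMonoidHom ⊓ B = ⊥ := by
    intro h
    rcases hti h with h2 | h2
    · left
      rw [hBdef, MonoidHom.map_closure]
      congr 1
      ext z
      constructor
      · rintro ⟨_, ⟨a, ha, rfl⟩, rfl⟩
        refine ⟨(MulAut.conj h).toMonoidHom a, ?_, by simp⟩
        have : (MulAut.conj h).toMonoidHom a ∈ A.map (MulAut.conj h).toMonoidHom :=
          mem_map_of_mem _ ha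
        rw [h2] at this
        exact this
      · rintro ⟨a, ha, rfl⟩
        have ha' : a ∈ A.map (MulAut.conj h).toMonoidHom := by rw [h2]; exact ha
        obtain ⟨a', ha'', rfl⟩ := ha'
        exact ⟨a' ^ 2, ⟨a', ha'', rfl⟩, by simp⟩
    · right
      rw [eq_bot_iff, ← h2, hBdef]
      exact inf_le_inf (Subgroup.map_mono hBA) hBA
  have hBQ : ∀ x : X, B.map (MulAut.conj x).toMonoidHom ≤ pCore 2 X := by
    rintro x _ ⟨w, hw, rfl⟩
    have : (MulAut.conj x).toMonoidHom w = x * w * x⁻¹ := by simp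
    rw [this]
    exact hQn.conj_mem w (h1 (hBdef ▸ hw)) x
  have hall : ∀ x y : X, ∀ u ∈ B.map (MulAut.conj x).toMonoidHom,
      ∀ v ∈ B.map (MulAut.conj y).toMonoidHom, u * v = v * u := by
    intro x y u hu v hv
    by_cases heq : B.map (MulAut.conj x).toMonoidHom = B.map (MulAut.conj y).toMonoidHom
    · rw [← heq] at hv
      obtain ⟨u', hu', rfl⟩ := hu
      obtain ⟨v', hv', rfl⟩ := hv
      rw [← map_mul, ← map_mul]
      congr 1
      rw [hBdef] at hu' hv'
      exact hBcomm u' hu' v' hv'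
    · exact commute_of_isPGroup B hBti (hBdef ▸ hb₀) hb₀2 (pCore 2 X) hQ x y (hBQ x) (hBQ y)
        heq u hu v hv
  show IsMulCommutative ↥(closure (Group.conjugatesOfSet ((fun a : X => a ^ 2) '' (A : Set X))))
  apply isMulCommutative_closure
  intro p hp q hq
  obtain ⟨a, ha, hap⟩ := Group.mem_conjugatesOfSet_iff.mp hp
  obtain ⟨b, hb, hbq⟩ := Group.mem_conjugatesOfSet_iff.mp hq
  obtain ⟨c, rfl⟩ := isConj_iff.mp hap
  obtain ⟨d, rfl⟩ := isConj_iff.mp hbq
  apply hall c d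
  · exact conj_mem_conjMap (hBdef ▸ subset_closure ha)
  · exact conj_mem_conjMap (hBdef ▸ subset_closure hb)

end Cfsg.Agent.S1783
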