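import Cfsg.Statements.S1850
import Cfsg.Agent.Lib.Helper12.CharP
import Cfsg.Agent.Lib.Helper17.SylowLemmas

set_option autoImplicit false
open Cfsg

namespace Cfsg.Agent.S1850

open Cfsg.Agent.Lib.Helper1 Cfsg.Agent.Lib.Helper9 Cfsg.Agent.Lib.Helper12

variable {G : Type*} [Group G] [Finite G] {p : ℕ} [hp : Fact p.Prime]

/-- If `V ⊴ V'` are `p`-subgroups and `N_G(V)` has characteristic `p`, so has `N_G(V')`. -/
theorem isOfCharP_normalizer_step {V V' : Subgroup G} (hV' : IsPGroup p ↥V') (hVV' : V ≤ V')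
    (hn : V' ≤ Subgroup.normalizer (V : Set G))
    (h : IsOfCharP p ↥(Subgroup.normalizer (V : Set G))) :
    IsOfCharP p ↥(Subgroup.normalizer (V' : Set G)) := by
  have hD : IsOfCharP p ↥(Subgroup.normalizer (V : Set G) ⊓ Subgroup.normalizer (V' : Set G)) :=
    h.inf_normalizer hn hV'
  apply IsOfCharP.of_le_rel (inf_le_right) _ hD
  intro g hg hq
  refine Subgroup.mem_inf.mpr ⟨?_, hg⟩
  -- `g` centralizes `V' ≥ V`
  rw [Subgroup.mem_normalizer_iff]
  intro v
  have hcomm : ∀ v ∈ V, g * v * g⁻¹ = v := by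
    intro v hv
    have := hq ⟨v, Subgroup.le_normalizer (hVV' hv)⟩
      (mem_pCore_of_normal_pgroup hV' Subgroup.le_normalizer le_rfl (hVV' hv))
    have h2 : g * v = v * g := this.symm
    rw [h2]; group
  constructor
  · intro hv
    rw [hcomm v hv]; exact hv
  · intro hv
    have h3 : g⁻¹ * (g * v * g⁻¹) * g = v := by group
    have h4 : g * (g * v * g⁻¹) * g⁻¹ = g * v * g⁻¹ := hcomm _ hv
    have h5 : g * v * g⁻¹ = v := by
      have : g * v * g⁻¹ = g⁻¹ * (g * (g * v * g⁻¹) * g⁻¹) * g := by group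
      rw [this, h4, h3]
    rw [← h5]; exact hv

/-- climbing a `p`-group by successive normalizers -/
theorem isOfCharP_normalizer_of_le {U : Subgroup G} (hU : IsPGroup p ↥U) :
    ∀ n : ℕ, ∀ V : Subgroup G, V ≤ U → Nat.card ↥U - Nat.card ↥V = n →
      IsOfCharP p ↥(Subgroup.normalizer (V : Set G)) →
      IsOfCharP p ↥(Subgroup.normalizer (U : Set G)) := by
  intro n
  induction n using Nat.strong_induction_on with
  | _ n ih =>
    intro V hVU hn h
    by_cases hVeq : V = U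
    · rw [← hVeq]; exact h
    · have hlt : V < U := lt_of_le_of_ne hVU hVeq
      obtain ⟨x, hxU, hxN, hxV⟩ := Cfsg.Agent.Lib.Helper17.pgroup_normalizer_gt hU hlt
      set V' := U ⊓ Subgroup.normalizer (V : Set G) with hV'
      have hVV' : V ≤ V' := le_inf hVU Subgroup.le_normalizer
      have hVltV' : V < V' := by
        refine lt_of_le_of_ne hVV' ?_
        intro heq
        apply hxV
        rw [heq]
        exact Subgroup.mem_inf.mpr ⟨hxU, hxN⟩
      have hV'U : V' ≤ U := inf_le_left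
      have h' := isOfCharP_normalizer_step (hU.to_le hV'U) hVV' inf_le_right h
      have hc1 : Nat.card ↥V < Nat.card ↥V' := Cfsg.Agent.Lib.Helper1.card_lt_of_lt hVltV'
      have hc2 : Nat.card ↥V' ≤ Nat.card ↥U := Subgroup.card_le_of_le hV'U
      exact ih (Nat.card ↥U - Nat.card ↥V') (by omega) V' hV'U rfl h'

/-- Let G be a non-abelian finite simple QTKE-group and T a Sylow 2-subgroup of G. If U is a nontrivial 2-subgroup of G with U ∩ Z(T) ≠ 1, then F*(N_G(U)) = O₂(N_G(U)). -/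
theorem result {G : Type*} [Group G] [Finite G] [IsSimpleGroup G]
    (hG : ¬ IsMulCommutative G) (hQ : Cfsg.IsQTKE G) (T : Sylow 2 G) (U : Subgroup G)
    (hU : IsPGroup 2 ↥U) (hZ : U ⊓ ((T : Subgroup G) ⊓ Subgroup.centralizer ((T : Subgroup G) : Set G)) ≠ ⊥) :
    Subgroup.normalizer (U : Set G) ∈ Cfsg.calHe G := by
  haveI : Fact (2 : ℕ).Prime := ⟨Nat.prime_two⟩
  obtain ⟨⟨z, hzW⟩, hz1⟩ := (Subgroup.ne_bot_iff_exists_ne_one).mp hZ
  have hz1' : z ≠ 1 := fun h => hz1 (Subtype.ext h)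
  obtain ⟨hzU, hzT, hzC⟩ : z ∈ U ∧ z ∈ (T : Subgroup G) ∧
      z ∈ Subgroup.centralizer ((T : Subgroup G) : Set G) := by
    have := Subgroup.mem_inf.mp hzW
    exact ⟨this.1, (Subgroup.mem_inf.mp this.2).1, (Subgroup.mem_inf.mp this.2).2⟩
  have hV0U : Subgroup.zpowers z ≤ U := Subgroup.zpowers_le.mpr hzU
  have hV0p : IsPGroup 2 ↥(Subgroup.zpowers z) := hU.to_le hV0U
  have hV0ne : Subgroup.zpowers z ≠ ⊥ := by
    intro h
    exact hz1' (Subgroup.zpowers_eq_bot.mp h)
  have hTN : (T : Subgroup G) ≤ Subgroup.normalizer ((Subgroup.zpowers z : Subgroup G) : Set G) := by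
    intro t ht
    apply Subgroup.centralizer_le_normalizer
    rw [Subgroup.mem_centralizer_iff]
    intro h hh
    obtain ⟨k, rfl⟩ := Subgroup.mem_zpowers_iff.mp hh
    have hc : Commute z t := ((Subgroup.mem_centralizer_iff.mp hzC) t ht).symm
    exact (hc.zpow_left k).eq
  have hchar : Cfsg.IsOfCharacteristicTwo
      ↥(Subgroup.normalizer ((Subgroup.zpowers z : Subgroup G) : Set G)) :=
    hQ.2.2 _ ⟨Subgroup.zpowers z, hV0p, hV0ne, rfl⟩ ⟨T, hTN⟩
  have h0 : IsOfCharP 2 ↥(Subgroup.normalizer ((Subgroup.zpowers z : Subgroup G) : Set G)) :=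
    isOfCharP_iff_centralizer.mpr hchar
  exact isOfCharP_normalizer_of_le hU _ (Subgroup.zpowers z) hV0U rfl h0

end Cfsg.Agent.S1850
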