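import Cfsg.Statements.S1851
import Cfsg.Agent.Lib.Helper12.CharP
import Cfsg.Agent.Lib.Helper1.Coprime
import Cfsg.Agent.Lib.Helper17.Coprime
import Cfsg.Agent.Lib.Helper20.RelSub

set_option autoImplicit false
set_option linter.unusedSectionVars false
set_option linter.style.haveILetI false
open Cfsg

namespace Cfsg.Agent.S1851

open Cfsg.Agent.Lib.Helper1 Cfsg.Agent.Lib.Helper9 Cfsg.Agent.Lib.Helper12
open scoped commutatorElement

section Abstract

variable {M : Type*} [Group M] [Finite M] {p : ℕ} [hp : Fact p.Prime]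

/-- cyclic `p'`-group acting on a normal `p`-subgroup -/
theorem coprimeAct_zpowers_of_coprime {R : Subgroup M} (hR : IsPGroup p ↥R) {y : M}
    (hyR : y ∈ Subgroup.normalizer (R : Set M)) (hy : (orderOf y).Coprime p) :
    CoprimeAct (Subgroup.zpowers y) R where
  norm := Subgroup.zpowers_le.mpr hyR
  cop := by
    obtain ⟨k, hk⟩ := IsPGroup.iff_card.mp hR
    rw [hk, Nat.card_zpowers]
    exact Nat.Coprime.pow_right k hy
  solv := Or.inl inferInstance

/-- If `Y` is subnormal, `R` a normal `p`-subgroup and `y ∈ Y` a `p'`-element then `[R, y] ≤ Y`. -/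
theorem commutator_zpowers_le_of_subnormal {Y : Subgroup M} (hY : Y.IsSubnormal) {R : Subgroup M}
    [hRn : R.Normal] (hR : IsPGroup p ↥R) :
    ∀ y ∈ Y, (orderOf y).Coprime p → ⁅R, Subgroup.zpowers y⁆ ≤ Y := by
  induction hY with
  | top => intro y _ _; exact le_top
  | step A B hAB _ hN ih =>
    intro y hyA hy
    have hact : CoprimeAct (Subgroup.zpowers y) R :=
      coprimeAct_zpowers_of_coprime hR (by rw [Subgroup.normalizer_eq_top_iff.mpr hRn]; trivial) hy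
    have h1 : ⁅R, Subgroup.zpowers y⁆ ≤ B := ih y (hAB hyA) hy
    rw [← hact.commutator_commutator_eq]
    have h2 : ⁅⁅R, Subgroup.zpowers y⁆, Subgroup.zpowers y⁆ ≤ ⁅B, A⁆ :=
      Subgroup.commutator_mono h1 (Subgroup.zpowers_le.mpr hyA)
    refine h2.trans ?_
    rw [Subgroup.commutator_le]
    intro b hb a ha
    have h3 : (⟨b, hb⟩ : ↥B) * ⟨a, hAB ha⟩ * (⟨b, hb⟩ : ↥B)⁻¹ ∈ A.subgroupOf B :=
      hN.conj_mem _ (Subgroup.mem_subgroupOf.mpr ha) _
    rw [Subgroup.mem_subgroupOf] at h3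
    have h4 : ⁅b, a⁆ = (b * a * b⁻¹) * a⁻¹ := by rw [commutatorElement_def]
    rw [h4]
    exact A.mul_mem h3 (A.inv_mem ha)

end Abstract

section Rel

variable {G : Type*} [Group G] [Finite G]

omit [Finite G] in
theorem pCoreTwoOf_le (H : Subgroup G) : pCoreTwoOf H ≤ H := Subgroup.map_subtype_le _

omit [Finite G] in
theorem isPGroup_pCoreTwoOf (H : Subgroup G) : IsPGroup 2 ↥(pCoreTwoOf H) :=
  (pCore_isPGroup (G := ↥H) 2).map _

omit [Finite G] in
theorem le_normalizer_pCoreTwoOf (H : Subgroup G) :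
    H ≤ Subgroup.normalizer (pCoreTwoOf H : Set G) := by
  haveI : (pCore 2 ↥H).Normal := Cfsg.Agent.Lib.Helper1.pCore_normal 2
  exact Cfsg.Agent.Lib.Helper20.le_normalizer_map_of_normal _

theorem le_pCoreTwoOf {N H : Subgroup G} (hNH : N ≤ H) (hHN : H ≤ Subgroup.normalizer (N : Set G))
    (hN : IsPGroup 2 ↥N) : N ≤ pCoreTwoOf H := by
  intro x hx
  exact ⟨⟨x, hNH hx⟩, mem_pCore_of_normal_pgroup hN hNH hHN hx, rfl⟩

omit [Finite G] in
theorem mem_pCoreTwoOf_iff {H : Subgroup G} {x : G} (hx : x ∈ H) :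
    x ∈ pCoreTwoOf H ↔ (⟨x, hx⟩ : ↥H) ∈ pCore 2 ↥H := by
  constructor
  · rintro ⟨y, hy, hyx⟩
    have : y = ⟨x, hx⟩ := Subtype.ext hyx
    rwa [← this]
  · intro h
    exact ⟨⟨x, hx⟩, h, rfl⟩

theorem isOfCharP_iff_rel {H : Subgroup G} :
    IsOfCharP 2 ↥H ↔ H ⊓ Subgroup.centralizer (pCoreTwoOf H : Set G) ≤ pCoreTwoOf H := by
  haveI : Fact (2 : ℕ).Prime := ⟨Nat.prime_two⟩
  rw [isOfCharP_iff_centralizer]
  constructor
  · intro h x hx
    obtain ⟨hxH, hxC⟩ := Subgroup.mem_inf.mp hx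
    rw [mem_pCoreTwoOf_iff hxH]
    apply h
    rw [Subgroup.mem_centralizer_iff]
    intro q hq
    apply Subtype.ext
    have hq' : (q : G) ∈ pCoreTwoOf H := ⟨q, hq, rfl⟩
    exact (Subgroup.mem_centralizer_iff.mp hxC) _ hq'
  · intro h x hx
    have hxC : (x : G) ∈ Subgroup.centralizer (pCoreTwoOf H : Set G) := by
      rw [Subgroup.mem_centralizer_iff]
      rintro _ ⟨q, hq, rfl⟩
      exact congrArg Subtype.val ((Subgroup.mem_centralizer_iff.mp hx) q hq)
    have := h (Subgroup.mem_inf.mpr ⟨x.2, hxC⟩)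
    rwa [mem_pCoreTwoOf_iff x.2] at this

omit [Finite G] in
theorem pCoreTwoOf_le_sylow (T : Sylow 2 G) {H : Subgroup G} (hTH : (T : Subgroup G) ≤ H) :
    pCoreTwoOf H ≤ T := by
  rintro _ ⟨q, hq, rfl⟩
  have := pCore_le_sylow (T.subtype hTH) hq
  rw [← SetLike.mem_coe, Sylow.coe_subtype] at this
  exact Subgroup.mem_subgroupOf.mp this

/-- over-groups of a Sylow 2-subgroup with nontrivial `O_2` have characteristic 2, in a group of
even characteristic -/
theorem isOfCharP_of_evenChar (hE : Cfsg.IsOfEvenCharacteristic G) (T : Sylow 2 G) {H : Subgroup G}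
    (hTH : (T : Subgroup G) ≤ H) (hO : pCoreTwoOf H ≠ ⊥) : IsOfCharP 2 ↥H := by
  haveI : Fact (2 : ℕ).Prime := ⟨Nat.prime_two⟩
  set M := Subgroup.normalizer (pCoreTwoOf H : Set G) with hM
  have hHM : H ≤ M := le_normalizer_pCoreTwoOf H
  have hMc : Cfsg.IsOfCharacteristicTwo ↥M :=
    hE M ⟨pCoreTwoOf H, isPGroup_pCoreTwoOf H, hO, rfl⟩ ⟨T, hTH.trans hHM⟩
  have hMc' : IsOfCharP 2 ↥M := isOfCharP_iff_centralizer.mpr hMc
  rw [isOfCharP_iff_rel] at hMc' ⊢
  have h1 : pCoreTwoOf H ≤ pCoreTwoOf M :=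
    le_pCoreTwoOf ((pCoreTwoOf_le H).trans hHM) le_rfl (isPGroup_pCoreTwoOf H)
  have h2 : pCoreTwoOf M ≤ pCoreTwoOf H :=
    le_pCoreTwoOf ((pCoreTwoOf_le_sylow T (hTH.trans hHM)).trans hTH)
      (hHM.trans (le_normalizer_pCoreTwoOf M)) (isPGroup_pCoreTwoOf M)
  have h3 : pCoreTwoOf M = pCoreTwoOf H := le_antisymm h2 h1
  rw [h3] at hMc'
  exact (inf_le_inf_right _ hHM).trans hMc'

open Cfsg.Agent.Lib.Helper20 in
/-- `O_2(Y) = Y ∩ O_2(H)` for `Y` subnormal in `H` of characteristic 2 -/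
theorem pCoreTwoOf_eq_inf {Y H : Subgroup G} (hYH : Y ≤ H) (hsn : (Y.subgroupOf H).IsSubnormal)
    (hH : IsOfCharP 2 ↥H) : pCoreTwoOf Y = Y ⊓ pCoreTwoOf H := by
  haveI : Fact (2 : ℕ).Prime := ⟨Nat.prime_two⟩
  apply le_antisymm
  · apply le_inf (pCoreTwoOf_le Y)
    have h1 : SnIn (pCoreTwoOf Y) Y := SnIn.of_normal (pCoreTwoOf_le Y) (le_normalizer_pCoreTwoOf Y)
    have h2 : SnIn (pCoreTwoOf Y) H := h1.trans ⟨hYH, hsn⟩
    have hnil : Group.IsNilpotent ↥((pCoreTwoOf Y).subgroupOf H) :=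
      (IsPGroup.comap_subtype (isPGroup_pCoreTwoOf Y)).isNilpotent
    have h3 := subnormal_nilpotent_le_fitting h2.2 hnil
    rw [fittingSubgroup_eq_pCore_of_pPrimeCore_eq_bot 2 (isOfCharP_iff.mp hH).1] at h3
    intro x hx
    rw [mem_pCoreTwoOf_iff (h2.1 hx)]
    exact h3 (Subgroup.mem_subgroupOf.mpr hx)
  · apply le_pCoreTwoOf inf_le_left
    · intro y hy
      have h1 := Subgroup.le_normalizer (H := Y) hy
      have h2 := le_normalizer_pCoreTwoOf H (hYH hy)
      rw [Subgroup.mem_normalizer_iff] at h1 h2 ⊢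
      intro x
      rw [Subgroup.mem_inf, Subgroup.mem_inf, ← h1 x, ← h2 x]
    · exact (isPGroup_pCoreTwoOf H).to_le inf_le_right

omit [Finite G] in
/-- a perfect subgroup is generated by its elements of odd order -/
theorem oddGenerated_eq_of_perfect [Finite G] {Y : Subgroup G} (hY : ⁅Y, Y⁆ = Y) :
    oddGenerated Y = Y := by
  haveI : Fact (2 : ℕ).Prime := ⟨Nat.prime_two⟩
  apply le_antisymm
  · unfold oddGenerated
    rw [Subgroup.closure_le]
    intro x hx
    exact hx.1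
  · have hres := pResidual_eq_top_of_perfect 2 (commutator_eq_top_of_perfect_subgroup hY)
    have hY1 : Y = (pResidual 2 ↥Y).map Y.subtype := by
      rw [hres, ← MonoidHom.range_eq_map, Subgroup.range_subtype]
    conv_lhs => rw [hY1]
    unfold Cfsg.pResidual oddGenerated
    rw [MonoidHom.map_closure]
    apply Subgroup.closure_mono
    rintro _ ⟨g, hg, rfl⟩
    refine ⟨g.2, ?_⟩
    have hcop : (orderOf (g : G)).Coprime 2 := by
      rw [Subgroup.orderOf_coe]; exact hg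
    exact Nat.coprime_two_right.mp hcop

omit [Finite G] in
/-- if all odd-order elements of `Y` lie in a subgroup `C`, so does `Y = O^2(Y)` -/
theorem le_of_oddGenerated {Y C : Subgroup G} (hY : oddGenerated Y = Y)
    (h : ∀ y ∈ Y, Odd (orderOf y) → y ∈ C) : Y ≤ C := by
  rw [← hY]
  unfold oddGenerated
  rw [Subgroup.closure_le]
  intro y hy
  exact h y hy.1 hy.2

omit [Finite G] in
theorem mem_omegaOne_center {p : ℕ} {Q : Subgroup G} {x : G} :
    x ∈ omegaOne p (Q ⊓ Subgroup.centralizer (Q : Set G)) ↔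
      x ∈ Q ∧ x ∈ Subgroup.centralizer (Q : Set G) ∧ x ^ p = 1 := by
  constructor
  · intro hx
    unfold omegaOne at hx
    induction hx using Subgroup.closure_induction with
    | mem y hy => exact ⟨(Subgroup.mem_inf.mp hy.1).1, (Subgroup.mem_inf.mp hy.1).2, hy.2⟩
    | one => exact ⟨Q.one_mem, Subgroup.one_mem _, one_pow p⟩
    | mul a b _ _ ha hb =>
      refine ⟨Q.mul_mem ha.1 hb.1, Subgroup.mul_mem _ ha.2.1 hb.2.1, ?_⟩
      have hc : Commute a b := ((Subgroup.mem_centralizer_iff.mp hb.2.1) a ha.1)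
      rw [hc.mul_pow, ha.2.2, hb.2.2, one_mul]
    | inv a _ ha =>
      exact ⟨Q.inv_mem ha.1, Subgroup.inv_mem _ ha.2.1, by rw [inv_pow, ha.2.2, inv_one]⟩
  · rintro ⟨h1, h2, h3⟩
    exact Subgroup.subset_closure ⟨Subgroup.mem_inf.mpr ⟨h1, h2⟩, h3⟩

omit [Finite G] in
theorem conj_mem_omegaOne_center {p : ℕ} {Q : Subgroup G} {g x : G}
    (hg : g ∈ Subgroup.normalizer (Q : Set G))
    (hx : x ∈ omegaOne p (Q ⊓ Subgroup.centralizer (Q : Set G))) :
    g * x * g⁻¹ ∈ omegaOne p (Q ⊓ Subgroup.centralizer (Q : Set G)) := by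
  rw [mem_omegaOne_center] at hx ⊢
  obtain ⟨h1, h2, h3⟩ := hx
  refine ⟨(Subgroup.mem_normalizer_iff.mp hg x).mp h1, ?_, ?_⟩
  · rw [Subgroup.mem_centralizer_iff]
    intro q hq
    have hq' : g⁻¹ * q * g ∈ Q := by
      have := (Subgroup.mem_normalizer_iff.mp (Subgroup.inv_mem _ hg) q).mp hq
      simpa using this
    have hc := (Subgroup.mem_centralizer_iff.mp h2) _ hq'
    calc q * (g * x * g⁻¹) = g * ((g⁻¹ * q * g) * x) * g⁻¹ := by group
      _ = g * (x * (g⁻¹ * q * g)) * g⁻¹ := by rw [hc]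
      _ = g * x * g⁻¹ * q := by group
  · rw [conj_pow, h3]; group

omit [Finite G] in
theorem le_normalizer_omegaOne_center {p : ℕ} {Q : Subgroup G} :
    Subgroup.normalizer (Q : Set G) ≤
      Subgroup.normalizer (omegaOne p (Q ⊓ Subgroup.centralizer (Q : Set G)) : Set G) := by
  apply le_normalizer_of_forall_conj_mem
  intro g hg x hx
  exact conj_mem_omegaOne_center hg hx

end Rel

section Local

variable {G : Type*} [Group G] [Finite G]

/-- the local situation: `Y = O^2(Y)` perfect and subnormal in `H` of characteristic 2 -/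
structure Loc (Y H : Subgroup G) : Prop where
  le : Y ≤ H
  sn : (Y.subgroupOf H).IsSubnormal
  perf : ⁅Y, Y⁆ = Y
  char2 : IsOfCharP 2 ↥H

variable {Y H : Subgroup G}

theorem Loc.coprime_of_odd {y : G} (hy : Odd (orderOf y)) : (orderOf y).Coprime 2 :=
  Nat.coprime_two_right.mpr hy

/-- `[r, y] ∈ Y ∩ O_2(H)` for `r ∈ O_2(H)` and `y ∈ Y` of odd order -/
theorem Loc.commutator_mem (h : Loc Y H) {y : G} (hyY : y ∈ Y) (hy : Odd (orderOf y)) {r : G}
    (hr : r ∈ pCoreTwoOf H) : ⁅r, y⁆ ∈ Y ⊓ pCoreTwoOf H := by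
  haveI : Fact (2 : ℕ).Prime := ⟨Nat.prime_two⟩
  haveI : (pCore 2 ↥H).Normal := Cfsg.Agent.Lib.Helper1.pCore_normal 2
  have hyH : y ∈ H := h.le hyY
  refine Subgroup.mem_inf.mpr ⟨?_, ?_⟩
  · obtain ⟨q, hq, rfl⟩ := hr
    have hcop : (orderOf (⟨y, hyH⟩ : ↥H)).Coprime 2 := by
      rw [← Subgroup.orderOf_coe]; exact Loc.coprime_of_odd hy
    have h1 := commutator_zpowers_le_of_subnormal h.sn (pCore_isPGroup (G := ↥H) 2)
      ⟨y, hyH⟩ (Subgroup.mem_subgroupOf.mpr hyY) hcop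
    have h2 : ⁅q, (⟨y, hyH⟩ : ↥H)⁆ ∈ Y.subgroupOf H :=
      h1 (Subgroup.commutator_mem_commutator hq (Subgroup.mem_zpowers _))
    rw [Subgroup.mem_subgroupOf] at h2
    have e : ((⁅q, (⟨y, hyH⟩ : ↥H)⁆ : ↥H) : G) = ⁅(q : G), y⁆ := by
      rw [commutatorElement_def, commutatorElement_def]
      simp
    rw [e] at h2
    exact h2
  · have hn := le_normalizer_pCoreTwoOf H hyH
    have h1 : y * r⁻¹ * y⁻¹ ∈ pCoreTwoOf H :=
      (Subgroup.mem_normalizer_iff.mp hn _).mp (Subgroup.inv_mem _ hr)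
    have : ⁅r, y⁆ = r * (y * r⁻¹ * y⁻¹) := by rw [commutatorElement_def]; group
    rw [this]
    exact Subgroup.mul_mem _ hr h1

theorem Loc.oddGenerated_eq (h : Loc Y H) : oddGenerated Y = Y := oddGenerated_eq_of_perfect h.perf

/-- `O_2(H)` normalizes `Y` -/
theorem Loc.pCoreTwoOf_le_normalizer (h : Loc Y H) :
    pCoreTwoOf H ≤ Subgroup.normalizer (Y : Set G) := by
  apply le_normalizer_of_forall_conj_mem
  intro r hr x hx
  have hY : Y ≤ Y.comap (MulAut.conj r).toMonoidHom := by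
    apply le_of_oddGenerated h.oddGenerated_eq
    intro y hyY hy
    rw [Subgroup.mem_comap]
    show r * y * r⁻¹ ∈ Y
    have h1 := (Subgroup.mem_inf.mp (h.commutator_mem hyY hy hr)).1
    have : r * y * r⁻¹ = ⁅r, y⁆ * y := by rw [commutatorElement_def]; group
    rw [this]
    exact Y.mul_mem h1 hyY
  exact hY hx

theorem Loc.pCoreTwoOf_eq (h : Loc Y H) : pCoreTwoOf Y = Y ⊓ pCoreTwoOf H :=
  pCoreTwoOf_eq_inf h.le h.sn h.char2

/-- `Ω₁(Z(O_2(H)))` consists of elements of `Ω₁(Z(O_2(Y)))` as far as it lies in `Y` -/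
theorem Loc.mem_omega_of_mem (h : Loc Y H) {c : G} (hcY : c ∈ Y)
    (hc : c ∈ omegaOne 2 (pCoreTwoOf H ⊓ Subgroup.centralizer (pCoreTwoOf H : Set G))) :
    c ∈ omegaOne 2 (pCoreTwoOf Y ⊓ Subgroup.centralizer (pCoreTwoOf Y : Set G)) := by
  rw [mem_omegaOne_center] at hc ⊢
  obtain ⟨h1, h2, h3⟩ := hc
  rw [h.pCoreTwoOf_eq]
  refine ⟨Subgroup.mem_inf.mpr ⟨hcY, h1⟩, ?_, h3⟩
  exact Subgroup.centralizer_le (by exact_mod_cast (inf_le_right : Y ⊓ pCoreTwoOf H ≤ pCoreTwoOf H)) h2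

/-- (S1) if `Y` centralizes `Ω₁(Z(O_2(Y)))` then its odd-order elements centralize
`Ω₁(Z(O_2(H)))` -/
theorem Loc.centralizes_omega_big (h : Loc Y H) (hV : moduleV Y = ⊥) {y : G} (hyY : y ∈ Y)
    (hy : Odd (orderOf y)) :
    ∀ b ∈ omegaOne 2 (pCoreTwoOf H ⊓ Subgroup.centralizer (pCoreTwoOf H : Set G)),
      y * b = b * y := by
  haveI : Fact (2 : ℕ).Prime := ⟨Nat.prime_two⟩
  set B := omegaOne 2 (pCoreTwoOf H ⊓ Subgroup.centralizer (pCoreTwoOf H : Set G)) with hB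
  have hBR : B ≤ pCoreTwoOf H := fun b hb => (mem_omegaOne_center.mp hb).1
  have hBp : IsPGroup 2 ↥B := (isPGroup_pCoreTwoOf H).to_le hBR
  have hyN : y ∈ Subgroup.normalizer (B : Set G) :=
    le_normalizer_omegaOne_center (le_normalizer_pCoreTwoOf H (h.le hyY))
  apply Cfsg.Agent.Lib.Helper17.stability_centralizes hBp (Loc.coprime_of_odd hy)
    (inf_le_left : B ⊓ Y ≤ B)
  · intro x hx
    refine Subgroup.mem_inf.mpr ⟨?_, (Subgroup.mem_inf.mp (h.commutator_mem hyY hy (hBR hx))).1⟩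
    have h1 : y * x⁻¹ * y⁻¹ ∈ B := (Subgroup.mem_normalizer_iff.mp hyN _).mp (B.inv_mem hx)
    have : ⁅x, y⁆ = x * (y * x⁻¹ * y⁻¹) := by rw [commutatorElement_def]; group
    rw [this]
    exact B.mul_mem hx h1
  · intro c hc
    obtain ⟨hcB, hcY⟩ := Subgroup.mem_inf.mp hc
    have hcA := h.mem_omega_of_mem hcY hcB
    have : ⁅c, y⁆ ∈ moduleV Y := Subgroup.commutator_mem_commutator hcA hyY
    rw [hV, Subgroup.mem_bot, commutatorElement_eq_one_iff_commute] at this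
    exact this.eq.symm

/-- (S3) an odd-order element of `Y` centralizing `Ω₁(Z(O_2(H)))` centralizes `Ω₁(Z(O_2(Y)))` -/
theorem Loc.centralizes_omega_small (h : Loc Y H) {y : G} (hyY : y ∈ Y) (hy : Odd (orderOf y))
    (hB : ∀ b ∈ omegaOne 2 (pCoreTwoOf H ⊓ Subgroup.centralizer (pCoreTwoOf H : Set G)),
      y * b = b * y) :
    ∀ a ∈ omegaOne 2 (pCoreTwoOf Y ⊓ Subgroup.centralizer (pCoreTwoOf Y : Set G)),
      y * a = a * y := by
  haveI : Fact (2 : ℕ).Prime := ⟨Nat.prime_two⟩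
  set R := pCoreTwoOf H with hR
  set A := omegaOne 2 (pCoreTwoOf Y ⊓ Subgroup.centralizer (pCoreTwoOf Y : Set G)) with hA
  have hRp : IsPGroup 2 ↥R := isPGroup_pCoreTwoOf H
  have hQR : pCoreTwoOf Y ≤ R := by rw [h.pCoreTwoOf_eq]; exact inf_le_right
  have hAQ : A ≤ pCoreTwoOf Y := fun a ha => (mem_omegaOne_center.mp ha).1
  have hAp : IsPGroup 2 ↥A := hRp.to_le (hAQ.trans hQR)
  have hyH : y ∈ H := h.le hyY
  have hyNR : y ∈ Subgroup.normalizer (R : Set G) := le_normalizer_pCoreTwoOf H hyH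
  have hyNA : y ∈ Subgroup.normalizer (A : Set G) :=
    le_normalizer_omegaOne_center (le_normalizer_pCoreTwoOf Y hyY)
  -- `R` normalizes `Q = Y ∩ R`, hence `A`
  have hRNQ : R ≤ Subgroup.normalizer (pCoreTwoOf Y : Set G) := by
    intro r hr
    have h1 := h.pCoreTwoOf_le_normalizer hr
    have h2 := Subgroup.le_normalizer (H := R) hr
    rw [h.pCoreTwoOf_eq]
    rw [Subgroup.mem_normalizer_iff] at h1 h2 ⊢
    intro x
    rw [Subgroup.mem_inf, Subgroup.mem_inf, ← h1 x, ← h2 x]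
  have hRNA : R ≤ Subgroup.normalizer (A : Set G) := hRNQ.trans le_normalizer_omegaOne_center
  set B₀ := R ⊓ Subgroup.centralizer ({y} : Set G) with hB₀
  have hB₀p : IsPGroup 2 ↥B₀ := hRp.to_le inf_le_left
  have hab : ∀ b ∈ B₀, y * b = b * y := by
    intro b hb
    exact (Subgroup.mem_centralizer_singleton_iff.mp (Subgroup.mem_inf.mp hb).2).symm
  have hact : CoprimeAct (Subgroup.zpowers y) R :=
    coprimeAct_zpowers_of_coprime hRp hyNR (Loc.coprime_of_odd hy)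
  have hdecomp := hact.commutator_sup_centralizer
  apply Cfsg.Agent.Lib.Helper17.thompson_AxB hB₀p (Loc.coprime_of_odd hy) hab (Nat.card ↥A) A rfl hAp
    hyNA (inf_le_left.trans hRNA)
  intro x hxA hxB₀
  -- `x` is centralized by `R = [R, y] C_R(y)`
  have hxc : R ≤ Subgroup.centralizer ({x} : Set G) := by
    rw [← hdecomp]
    apply sup_le
    · rw [Subgroup.commutator_le]
      intro r hr z hz
      obtain ⟨k, rfl⟩ := Subgroup.mem_zpowers_iff.mp hz
      have hzY : y ^ k ∈ Y := Y.zpow_mem hyY k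
      have hzo : Odd (orderOf (y ^ k)) := by
        have hd : orderOf (y ^ k) ∣ orderOf y := orderOf_dvd_of_pow_eq_one (by
          rw [← zpow_natCast, ← zpow_mul, mul_comm, zpow_mul, zpow_natCast, pow_orderOf_eq_one,
            one_zpow])
        exact Odd.of_dvd_nat hy hd
      have h1 := h.commutator_mem hzY hzo hr
      rw [← h.pCoreTwoOf_eq] at h1
      rw [Subgroup.mem_centralizer_singleton_iff]
      exact ((Subgroup.mem_centralizer_iff.mp (mem_omegaOne_center.mp hxA).2.1) _ h1)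
    · intro b hb
      obtain ⟨hbR, hbC⟩ := Subgroup.mem_inf.mp hb
      have hby : b ∈ Subgroup.centralizer ({y} : Set G) := by
        rw [Subgroup.mem_centralizer_singleton_iff]
        exact ((Subgroup.mem_centralizer_iff.mp hbC) y (Subgroup.mem_zpowers y)).symm
      rw [Subgroup.mem_centralizer_singleton_iff]
      exact hxB₀ b (Subgroup.mem_inf.mpr ⟨hbR, hby⟩)
  apply hB
  rw [mem_omegaOne_center]
  refine ⟨hQR (hAQ hxA), ?_, (mem_omegaOne_center.mp hxA).2.2⟩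
  rw [Subgroup.mem_centralizer_iff]
  intro r hr
  exact Subgroup.mem_centralizer_singleton_iff.mp (hxc hr)

end Local

section Final

variable {G : Type*} [Group G] [Finite G]

/-- members of `ℒ(G, T)` give a local situation, in a group of even characteristic -/
theorem loc_of_mem_calL (hE : Cfsg.IsOfEvenCharacteristic G) (T : Sylow 2 G) {K : Subgroup G}
    (hK : K ∈ Cfsg.calL (T : Subgroup G)) : Loc K (K ⊔ (T : Subgroup G)) ∧ K ≠ ⊥ := by
  obtain ⟨⟨hne, hperf, hsn, -⟩, -, hO⟩ := hK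
  have hO' : pCoreTwoOf (K ⊔ (T : Subgroup G)) ≠ ⊥ := by
    intro h
    apply hO
    unfold pCoreTwoOf at h
    rwa [Subgroup.map_eq_bot_iff_of_injective _ (Subgroup.subtype_injective _)] at h
  refine ⟨⟨le_sup_left, hsn, ?_, isOfCharP_of_evenChar hE T le_sup_right hO'⟩, ?_⟩
  · have := congrArg (Subgroup.map (K ⊔ (T : Subgroup G)).subtype) hperf
    rwa [Subgroup.map_commutator, Subgroup.map_subgroupOf_eq_of_le le_sup_left] at this
  · intro h
    apply hne
    rw [h]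
    exact Subgroup.bot_subgroupOf _

/-- (S2) -/
theorem omega_le_omega (T : Sylow 2 G) {L K : Subgroup G} (hLK : L ≤ K)
    (hK : IsOfCharP 2 ↥(K ⊔ (T : Subgroup G))) :
    omegaOne 2 (pCoreTwoOf (L ⊔ (T : Subgroup G)) ⊓
        Subgroup.centralizer (pCoreTwoOf (L ⊔ (T : Subgroup G)) : Set G)) ≤
      omegaOne 2 (pCoreTwoOf (K ⊔ (T : Subgroup G)) ⊓
        Subgroup.centralizer (pCoreTwoOf (K ⊔ (T : Subgroup G)) : Set G)) := by
  have hLTKT : L ⊔ (T : Subgroup G) ≤ K ⊔ (T : Subgroup G) := sup_le_sup_right hLK _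
  have hRR : pCoreTwoOf (K ⊔ (T : Subgroup G)) ≤ pCoreTwoOf (L ⊔ (T : Subgroup G)) := by
    apply le_pCoreTwoOf
    · exact (pCoreTwoOf_le_sylow T le_sup_right).trans le_sup_right
    · exact hLTKT.trans (le_normalizer_pCoreTwoOf _)
    · exact isPGroup_pCoreTwoOf _
  intro x hx
  rw [mem_omegaOne_center] at hx ⊢
  obtain ⟨h1, h2, h3⟩ := hx
  have hxC : x ∈ Subgroup.centralizer (pCoreTwoOf (K ⊔ (T : Subgroup G)) : Set G) :=
    Subgroup.centralizer_le (by exact_mod_cast hRR) h2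
  have hxKT : x ∈ K ⊔ (T : Subgroup G) := hLTKT (pCoreTwoOf_le _ h1)
  exact ⟨(isOfCharP_iff_rel.mp hK) (Subgroup.mem_inf.mpr ⟨hxKT, hxC⟩), hxC, h3⟩

/-- Let G be a non-abelian finite simple QTKE-group and T a Sylow 2-subgroup of G, and let L be a member of ℒ_f(G, T) (a member of ℒ(G, T) that lies in 𝒳 — L ≠ 1, L = O²(L), F*(L) = O₂(L) — and acts nontrivially on Ω₁(Z(O₂(L)))). Then (1) every member K of ℒ(G, T) containing L is again in ℒ_f(G, T) (a sharper form of (1) also compares the modules [Ω₁(Z(R)), L] and [Ω₁(Z(R')), K] for suitable 2-subgroups R, R'; that comparison is not included); and (2) if L is maximal under inclusion among the members of ℒ_f(G, T), then L is a maximal member of ℒ(G, T), hence a member of ℒ_f*(G, T). -/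
theorem result {G : Type*} [Group G] [Finite G] [IsSimpleGroup G]
    (hG : ¬ IsMulCommutative G) (hQ : Cfsg.IsQTKE G) (T : Sylow 2 G) (L : Subgroup G)
    (hL : L ∈ Cfsg.calLf (T : Subgroup G)) :
    (∀ K ∈ Cfsg.calL (T : Subgroup G), L ≤ K → K ∈ Cfsg.calLf (T : Subgroup G)) ∧
    ((∀ K ∈ Cfsg.calLf (T : Subgroup G), L ≤ K → K = L) → L ∈ Cfsg.calLfMax (T : Subgroup G)) := by
  haveI : Fact (2 : ℕ).Prime := ⟨Nat.prime_two⟩
  have hE := hQ.2.2
  obtain ⟨hLL, hLX, hLV⟩ := hL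
  have key : ∀ K ∈ Cfsg.calL (T : Subgroup G), L ≤ K → K ∈ Cfsg.calLf (T : Subgroup G) := by
    intro K hK hLK
    obtain ⟨locK, hKne⟩ := loc_of_mem_calL hE T hK
    obtain ⟨locL, -⟩ := loc_of_mem_calL hE T hLL
    refine ⟨hK, ⟨hKne, locK.oddGenerated_eq, ?_⟩, ?_⟩
    · show IsOfCharP 2 ↥K
      exact (isOfCharP_subgroupOf_iff locK.le).mp (locK.char2.of_subnormal locK.sn)
    · intro hV
      apply hLV
      unfold moduleV
      rw [Subgroup.commutator_eq_bot_iff_le_centralizer, Subgroup.le_centralizer_iff]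
      apply le_of_oddGenerated locL.oddGenerated_eq
      intro y hyL hy
      rw [Subgroup.mem_centralizer_iff]
      intro a ha
      have h1 := locK.centralizes_omega_big hV (hLK hyL) hy
      have h2 : ∀ b ∈ omegaOne 2 (pCoreTwoOf (L ⊔ (T : Subgroup G)) ⊓
          Subgroup.centralizer (pCoreTwoOf (L ⊔ (T : Subgroup G)) : Set G)), y * b = b * y :=
        fun b hb => h1 b (omega_le_omega T hLK locK.char2 hb)
      exact (locL.centralizes_omega_small hyL hy h2 a ha).symm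
  refine ⟨key, ?_⟩
  intro hmax
  refine ⟨⟨hLL, ?_⟩, hLX, hLV⟩
  intro K hK hLK
  exact hmax K (key K hK hLK) hLK

end Final

end Cfsg.Agent.S1851
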