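import Cfsg.Statements.S1892
import Cfsg.Agent.H5.PSolvable
import Cfsg.Agent.Lib.Helper1.Cores
import Cfsg.Agent.Lib.Helper1.Coprime

set_option autoImplicit false
open Cfsg

namespace Cfsg.Agent.S1892

open Subgroup
open scoped commutatorElement

section Aux

/-- If `r q r⁻¹ = c q` where `c` commutes with `r`, `r ^ m = 1` and the order of `c` is prime to
`m`, then `c = 1`. -/
theorem eq_one_of_comm {G : Type*} [Group G] {r q c : G} {m : ℕ}
    (hrq : r * q * r⁻¹ = c * q) (hrc : r * c = c * r) (hr : r ^ m = 1)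
    (hc : (orderOf c).Coprime m) : c = 1 := by
  have hpow : ∀ k : ℕ, r ^ k * q * (r ^ k)⁻¹ = c ^ k * q := by
    intro k
    induction k with
    | zero => simp
    | succ k ih =>
      have hrck : r * c ^ k * r⁻¹ = c ^ k := by
        have : Commute r (c ^ k) := (show Commute r c from hrc).pow_right k
        rw [this.eq, mul_inv_cancel_right]
      calc r ^ (k + 1) * q * (r ^ (k + 1))⁻¹ = r * (r ^ k * q * (r ^ k)⁻¹) * r⁻¹ := by
            rw [pow_succ']; group
        _ = r * (c ^ k * q) * r⁻¹ := by rw [ih]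
        _ = (r * c ^ k * r⁻¹) * (r * q * r⁻¹) := by group
        _ = c ^ k * (c * q) := by rw [hrck, hrq]
        _ = c ^ (k + 1) * q := by rw [pow_succ]; group
  have h1 : c ^ m = 1 := by
    have := hpow m
    rw [hr, inv_one, mul_one, one_mul] at this
    have h2 : c ^ m * q = 1 * q := by rw [one_mul]; exact this.symm
    exact mul_right_cancel h2
  have h2 : orderOf c ∣ m := orderOf_dvd_of_pow_eq_one h1
  have h3 : orderOf c = 1 := Nat.Coprime.eq_one_of_dvd hc h2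
  exact orderOf_eq_one_iff.mp h3

end Aux

theorem result {S : Type*} [Group S] [Finite S] {p : ℕ} [Fact p.Prime]
    (hS : Cfsg.IsPSolvable p S) (hred : Cfsg.pPrimeCore p S = ⊥)
    (A Q : Subgroup S) (hA : IsPGroup p A) (hQ : ¬ p ∣ Nat.card Q) (hQ1 : Q ≠ ⊥)
    (hinv : ∀ a ∈ A, ∀ x ∈ Q, a * x * a⁻¹ ∈ Q) (hAQ : ⁅A, Q⁆ = Q) :
    ⁅⁅Cfsg.pCore p S, A⁆, Q⁆ ≠ ⊥ := by
  intro h
  have hp : p.Prime := Fact.out
  have hQc : (Nat.card Q).Coprime p := ((Nat.Prime.coprime_iff_not_dvd hp).mpr hQ).symm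
  have hUn : (pCore p S).Normal := Cfsg.pCore_normal p S
  have hUp : IsPGroup p (pCore p S) := Cfsg.Agent.Lib.Helper1.pCore_isPGroup p
  obtain ⟨N, hN⟩ : ∃ N : Subgroup S, N = ⁅pCore p S, A⁆ := ⟨_, rfl⟩
  rw [← hN] at h
  have hNU : N ≤ pCore p S := by rw [hN]; exact Subgroup.commutator_le_left _ _
  have hQN : ∀ q ∈ Q, ∀ n ∈ N, q * n = n * q := by
    intro q hq n hn
    have h1 := Subgroup.commutator_eq_bot_iff_le_centralizer.mp h
    exact Subgroup.mem_centralizer_iff.mp (h1 hn) q hq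
  have hAN : A ≤ Subgroup.normalizer (N : Set S) := by
    rw [hN]; exact Cfsg.Agent.Lib.Helper1.le_normalizer_commutator_right
  have hQNn : Q ≤ Subgroup.normalizer (N : Set S) := by
    refine le_trans ?_ (Subgroup.centralizer_le_normalizer _)
    intro q hq
    rw [Subgroup.mem_centralizer_iff]
    intro n hn
    exact (hQN q hq n hn).symm
  -- the subgroup acting trivially on `U / N`
  let T : Subgroup S :=
    { carrier := {x | x ∈ Subgroup.normalizer (N : Set S) ∧ ∀ u ∈ pCore p S, ⁅x, u⁆ ∈ N}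
      one_mem' := ⟨one_mem _, fun u _ => by simp [commutatorElement_def]⟩
      mul_mem' := by
        rintro x y ⟨hx1, hx2⟩ ⟨hy1, hy2⟩
        refine ⟨mul_mem hx1 hy1, fun u hu => ?_⟩
        have h1 : ⁅x * y, u⁆ = x * ⁅y, u⁆ * x⁻¹ * ⁅x, u⁆ := by
          simp only [commutatorElement_def]; group
        rw [h1]
        exact mul_mem ((Subgroup.mem_normalizer_iff.mp hx1 _).mp (hy2 u hu)) (hx2 u hu)
      inv_mem' := by
        rintro x ⟨hx1, hx2⟩
        refine ⟨inv_mem hx1, fun u hu => ?_⟩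
        have h1 : ⁅x⁻¹, u⁆ = x⁻¹ * (⁅x, u⁆)⁻¹ * x⁻¹⁻¹ := by
          simp only [commutatorElement_def]; group
        rw [h1]
        exact (Subgroup.mem_normalizer_iff.mp (inv_mem hx1) _).mp (inv_mem (hx2 u hu)) }
  have hT : ∀ x : S, x ∈ T ↔ (x ∈ Subgroup.normalizer (N : Set S) ∧ ∀ u ∈ pCore p S, ⁅x, u⁆ ∈ N) :=
    fun _ => Iff.rfl
  have hAT : A ≤ T := by
    intro a ha
    rw [hT]
    refine ⟨hAN ha, fun u hu => ?_⟩
    have h1 : ⁅a, u⁆ = (⁅u, a⁆)⁻¹ := by simp only [commutatorElement_def]; group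
    rw [h1, hN]
    exact inv_mem (Subgroup.commutator_mem_commutator hu ha)
  have hTQ : ∀ x ∈ T, ∀ q ∈ Q, q * x * q⁻¹ ∈ T := by
    intro x hx q hq
    rw [hT] at hx ⊢
    obtain ⟨hx1, hx2⟩ := hx
    refine ⟨mul_mem (mul_mem (hQNn hq) hx1) (inv_mem (hQNn hq)), fun u hu => ?_⟩
    have h1 : ⁅q * x * q⁻¹, u⁆ = q * ⁅x, q⁻¹ * u * q⁻¹⁻¹⁆ * q⁻¹ := by
      simp only [commutatorElement_def]; group
    rw [h1]
    exact (Subgroup.mem_normalizer_iff.mp (hQNn hq) _).mp (hx2 _ (hUn.conj_mem u hu q⁻¹))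
  have hQT : Q ≤ T := by
    rw [← hAQ, Subgroup.commutator_le]
    intro a ha q hq
    have h1 : ⁅a, q⁆ = a * (q * a⁻¹ * q⁻¹) := by simp only [commutatorElement_def]; group
    rw [h1]
    exact mul_mem (hAT ha) (hTQ _ (inv_mem (hAT ha)) q hq)
  -- `Q` centralizes `U`
  have hQU : Q ≤ Subgroup.centralizer (pCore p S : Set S) := by
    intro q hq
    rw [Subgroup.mem_centralizer_iff]
    intro u hu
    have hc : ⁅q, u⁆ ∈ N := ((hT q).mp (hQT hq)).2 u hu
    obtain ⟨j, hj⟩ := hUp ⟨⁅q, u⁆, hNU hc⟩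
    have hj' : ⁅q, u⁆ ^ (p ^ j) = 1 := by
      have := congrArg Subtype.val hj
      simpa using this
    have hco : (orderOf ⁅q, u⁆).Coprime (orderOf q) := by
      have h1 : orderOf ⁅q, u⁆ ∣ p ^ j := orderOf_dvd_of_pow_eq_one hj'
      have h2 : (orderOf q).Coprime p :=
        Nat.Coprime.coprime_dvd_left (Subgroup.orderOf_dvd_natCard Q hq) hQc
      exact Nat.Coprime.coprime_dvd_left h1 (Nat.Coprime.pow_left j h2.symm)
    have h1 := eq_one_of_comm (r := q) (q := u) (c := ⁅q, u⁆) (m := orderOf q)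
      (by rw [commutatorElement_def]; group) (hQN q hq _ hc) (pow_orderOf_eq_one q) hco
    exact (commutatorElement_eq_one_iff_mul_comm.mp h1).symm
  have hQle : Q ≤ pCore p S :=
    hQU.trans (Cfsg.H5.centralizer_pCore_le_of_isPSolvable hS hred)
  apply hQ1
  rw [eq_bot_iff]
  intro q hq
  obtain ⟨j, hj⟩ := hUp ⟨q, hQle hq⟩
  have hj' : q ^ (p ^ j) = 1 := by
    have := congrArg Subtype.val hj
    simpa using this
  have h1 : orderOf q ∣ p ^ j := orderOf_dvd_of_pow_eq_one hj'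
  have h2 : (orderOf q).Coprime p :=
    Nat.Coprime.coprime_dvd_left (Subgroup.orderOf_dvd_natCard Q hq) hQc
  have h3 : orderOf q = 1 := Nat.Coprime.eq_one_of_dvd (Nat.Coprime.pow_right j h2) h1
  exact Subgroup.mem_bot.mpr (orderOf_eq_one_iff.mp h3)

end Cfsg.Agent.S1892
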