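import Mathlib
import Cfsg.Statements.S1893
import Cfsg.Agent.S0625
import Cfsg.Agent.Lib.Helper25.PSolv
import Cfsg.Agent.Lib.Helper10.NilAction
import Cfsg.Agent.Lib.Helper1.Cores
import Cfsg.Agent.Lib.Helper1.Frattini
import Cfsg.Agent.Lib.Helper12.PiCore

set_option autoImplicit false
set_option linter.style.haveILetI false
open Cfsg
open scoped commutatorElement

namespace Cfsg.Agent.S1893

open Cfsg.Agent.Lib.Helper1 Cfsg.Agent.Lib.Helper12

section Elem

variable {X : Type*} [Group X]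

/-- conjugating `x` by powers of `y` when `w = [x,y]` commutes with `y`. -/
theorem pow_conj (x y w : X) (hw : w = x⁻¹ * y⁻¹ * x * y) (hc : w * y = y * w) (n : ℕ) :
    x⁻¹ * (y ^ n)⁻¹ * x * y ^ n = w ^ n := by
  induction n with
  | zero => simp
  | succ n ih =>
    have hcn : w ^ n * y = y * w ^ n := (Commute.pow_left (show Commute w y from hc) n).eq
    have h1 : (y ^ n)⁻¹ * x * y ^ n = x * w ^ n := by
      rw [← ih]; group
    calc x⁻¹ * (y ^ (n + 1))⁻¹ * x * y ^ (n + 1)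
        = x⁻¹ * y⁻¹ * ((y ^ n)⁻¹ * x * y ^ n) * y := by
          rw [pow_succ]; group
      _ = x⁻¹ * y⁻¹ * (x * w ^ n) * y := by rw [h1]
      _ = (x⁻¹ * y⁻¹ * x * y) * (y⁻¹ * (w ^ n * y)) := by group
      _ = w * (y⁻¹ * (y * w ^ n)) := by rw [hcn, ← hw]
      _ = w ^ (n + 1) := by rw [pow_succ']; group

theorem quad_comm_eq_bot [Finite X] (Q : Subgroup X) [hQ : Q.Normal] (y : X)
    (hq : ∀ x ∈ Q, (x⁻¹ * y⁻¹ * x * y) * y = y * (x⁻¹ * y⁻¹ * x * y)) :
    ⁅⁅Q, Subgroup.zpowers y⁆, Subgroup.zpowers y⁆ = ⊥ := by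
  rw [Subgroup.commutator_eq_bot_iff_le_centralizer, Subgroup.commutator_le]
  intro x hx g hg
  have hg' : g⁻¹ ∈ Subgroup.zpowers y := inv_mem hg
  rw [← (isOfFinOrder_of_finite y).mem_powers_iff_mem_zpowers, Submonoid.mem_powers_iff] at hg'
  obtain ⟨n, hn⟩ := hg'
  have hxi : x⁻¹ ∈ Q := inv_mem hx
  have h1 := pow_conj x⁻¹ y _ rfl (hq x⁻¹ hxi) n
  have hg2 : g = (y ^ n)⁻¹ := by rw [hn, inv_inv]
  have h2 : ⁅x, g⁆ = (x⁻¹⁻¹ * y⁻¹ * x⁻¹ * y) ^ n := by
    rw [← h1, commutatorElement_def, hg2]; group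
  rw [h2]
  apply pow_mem
  rw [Subgroup.mem_centralizer_iff]
  intro z hz
  obtain ⟨k, rfl⟩ := Subgroup.mem_zpowers_iff.mp hz
  have hcomm : Commute y (x⁻¹⁻¹ * y⁻¹ * x⁻¹ * y) := (hq x⁻¹ hxi).symm
  exact (Commute.zpow_left hcomm k).eq

end Elem

section Stab

variable {X : Type*} [Group X] [Finite X]

theorem mem_pCore_of_mem_fitting {p : ℕ} [Fact p.Prime] (y : X)
    (hyF : y ∈ Cfsg.fittingSubgroup X) (hy : IsPGroup p (Subgroup.zpowers y)) :
    y ∈ Cfsg.pCore p X := by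
  haveI hFn : (Cfsg.fittingSubgroup X).Normal := fittingSubgroup_normal
  haveI hFnil : Group.IsNilpotent (Cfsg.fittingSubgroup X) := fittingSubgroup_isNilpotent
  have hZ : IsPGroup p ((Subgroup.zpowers y).subgroupOf (Cfsg.fittingSubgroup X)) :=
    hy.comap_subtype
  obtain ⟨P, hP⟩ := hZ.exists_le_sylow
  haveI hPn : (P : Subgroup (Cfsg.fittingSubgroup X)).Normal := inferInstance
  have hPc : (P : Subgroup (Cfsg.fittingSubgroup X)).Characteristic :=
    P.characteristic_of_normal hPn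
  haveI hQn : ((P : Subgroup (Cfsg.fittingSubgroup X)).map
      (Cfsg.fittingSubgroup X).subtype).Normal := inferInstance
  have hQp : IsPGroup p ((P : Subgroup (Cfsg.fittingSubgroup X)).map
      (Cfsg.fittingSubgroup X).subtype) := P.2.map _
  have hle := le_pCore hQn hQp
  apply hle
  refine Subgroup.mem_map.mpr ⟨⟨y, hyF⟩, hP ?_, rfl⟩
  rw [Subgroup.mem_subgroupOf]
  exact Subgroup.mem_zpowers y

theorem sectionKernel_normal (K N : Subgroup X) [hK : K.Normal] [hN : N.Normal] :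
    (Cfsg.sectionKernel K N).Normal := by
  unfold Cfsg.sectionKernel
  haveI h1 : (K.map (QuotientGroup.mk' N)).Normal :=
    Subgroup.Normal.map hK _ (QuotientGroup.mk'_surjective N)
  exact Subgroup.Normal.comap Subgroup.normal_centralizer _

theorem sectionKernel_comm {K N : Subgroup X} [hN : N.Normal] {c : X}
    (hc : c ∈ Cfsg.sectionKernel K N) {x : X} (hx : x ∈ K) : c * x * c⁻¹ * x⁻¹ ∈ N := by
  unfold Cfsg.sectionKernel at hc
  rw [Subgroup.mem_comap, Subgroup.mem_centralizer_iff] at hc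
  have h1 := hc _ (Subgroup.mem_map_of_mem (QuotientGroup.mk' N) hx)
  have h2 : (QuotientGroup.mk' N) (c * x * c⁻¹ * x⁻¹) = 1 := by
    rw [map_mul, map_mul, map_mul, map_inv, map_inv, ← h1]; group
  exact (QuotientGroup.eq_one_iff _).mp h2

theorem pow_mem_of_relIndex {C D : Subgroup X} [hC : C.Normal] {n : ℕ} (h : C.relIndex D = n)
    {a : X} (ha : a ∈ D) : a ^ n ∈ C := by
  have h1 : (⟨a, ha⟩ : D) ^ (C.subgroupOf D).index ∈ C.subgroupOf D :=
    Subgroup.pow_index_mem _ _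
  rw [Subgroup.mem_subgroupOf] at h1
  rw [← h]
  have h2 : a ^ (C.subgroupOf D).index ∈ C := by simpa using h1
  exact h2

theorem normal_pgroup_le_of_not_dvd_index {q : ℕ} [Fact q.Prime] (R Hb : Subgroup X) [R.Normal]
    (hR : IsPGroup q R) (hidx : ¬ q ∣ Hb.index) : R ≤ Hb := by
  obtain ⟨P₁⟩ : Nonempty (Sylow q Hb) := inferInstance
  have hP : IsPGroup q ((P₁ : Subgroup Hb).map Hb.subtype) := P₁.2.map _
  have hidxP : ¬ q ∣ ((P₁ : Subgroup Hb).map Hb.subtype).index := by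
    rw [Subgroup.index_map_subtype]
    intro hd
    rcases (Nat.Prime.dvd_mul Fact.out).mp hd with h | h
    · exact P₁.not_dvd_index h
    · exact hidx h
  have := hR.le_sylow_of_normal (hP.toSylow hidxP)
  exact this.trans (Subgroup.map_subtype_le _)

theorem stab [Group.IsSolvable X] {p : ℕ} [hpf : Fact p.Prime] (hp : 5 ≤ p) (y : X)
    (hy : IsPGroup p (Subgroup.zpowers y))
    (hquad : ∀ x ∈ Cfsg.pCore p X, (x⁻¹ * y⁻¹ * x * y) * y = y * (x⁻¹ * y⁻¹ * x * y))
    (hcent : ∀ q : ℕ, q.Prime → q ≠ p → y ∈ Subgroup.centralizer (Cfsg.pCore q X : Set X)) :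
    y ∈ Cfsg.pCore p X := by
  haveI hQn : (Cfsg.pCore p X).Normal := Cfsg.Agent.Lib.Helper1.pCore_normal p
  have hsep : Cfsg.IsPSolvable p X :=
    Cfsg.Agent.Lib.Helper25.isPSolvable_of_isSolvable p inferInstance
  have hst := (Cfsg.Agent.S0625.result hp hsep).2.1
  have hbot := quad_comm_eq_bot (Cfsg.pCore p X) y hquad
  obtain ⟨D, hDn, hCD, ⟨k, hk⟩, hyD⟩ := hst y (by rw [hbot]; exact bot_le)
  haveI hC0n : (Cfsg.sectionKernel (Cfsg.pCore p X)
      ((frattini ↥(Cfsg.pCore p X)).map (Cfsg.pCore p X).subtype)).Normal :=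
    sectionKernel_normal _ _
  let N : Subgroup X := ⨅ q : {q : ℕ // q.Prime ∧ q ≠ p},
    Subgroup.centralizer (Cfsg.pCore (q : ℕ) X : Set X)
  haveI hNn : N.Normal := Subgroup.normal_iInf_normal (fun q => by
    haveI := Cfsg.Agent.Lib.Helper1.pCore_normal (G := X) (q : ℕ)
    exact Subgroup.normal_centralizer)
  haveI hKn : (D ⊓ N).Normal := inferInstance
  have hK : D ⊓ N ≤ Cfsg.fittingSubgroup X := by
    apply Cfsg.Agent.Lib.Helper10.le_fittingSubgroup_of_forall_pow_mem_centralizer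
    intro q hq a ha
    by_cases hqp : q = p
    · rw [hqp]
      have hc : a ^ (p ^ k) ∈ Cfsg.sectionKernel (Cfsg.pCore p X)
          ((frattini ↥(Cfsg.pCore p X)).map (Cfsg.pCore p X).subtype) :=
        pow_mem_of_relIndex hk ha.1
      have hn0 : orderOf (a ^ (p ^ k)) ≠ 0 := (orderOf_pos _).ne'
      obtain ⟨j, m, hm, hn⟩ := Nat.exists_eq_pow_mul_and_not_dvd hn0 p hpf.out.ne_one
      refine ⟨k + j, ?_⟩
      have hc'eq : a ^ p ^ (k + j) = (a ^ (p ^ k)) ^ (p ^ j) := by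
        rw [pow_add, pow_mul]
      rw [hc'eq]
      have hc' : (a ^ (p ^ k)) ^ (p ^ j) ∈ Cfsg.sectionKernel (Cfsg.pCore p X)
          ((frattini ↥(Cfsg.pCore p X)).map (Cfsg.pCore p X).subtype) := pow_mem hc _
      have hc'm : ((a ^ (p ^ k)) ^ (p ^ j)) ^ m = 1 := by
        rw [← pow_mul, ← hn, pow_orderOf_eq_one]
      have hle := le_centralizer_of_commutator_le_frattini
        (Subgroup.zpowers ((a ^ (p ^ k)) ^ (p ^ j))) (Cfsg.pCore p X)
        (by rw [Subgroup.normalizer_eq_top]; exact le_top) ?_ ?_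
      · exact hle (Subgroup.mem_zpowers _)
      · rw [Nat.card_zpowers]
        obtain ⟨e, he⟩ := ((pCore_isPGroup (G := X) p).to_subgroup
          (frattini ↥(Cfsg.pCore p X))).exists_card_eq
        rw [he]
        have hcop : Nat.Coprime m p :=
          ((Nat.Prime.coprime_iff_not_dvd hpf.out).2 hm).symm
        exact Nat.Coprime.pow_right e
          (Nat.Coprime.coprime_dvd_left (orderOf_dvd_of_pow_eq_one hc'm) hcop)
      · intro a' ha' x hx
        have : a' ∈ Cfsg.sectionKernel (Cfsg.pCore p X)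
            ((frattini ↥(Cfsg.pCore p X)).map (Cfsg.pCore p X).subtype) :=
          (Subgroup.zpowers_le.mpr hc') ha'
        exact sectionKernel_comm this hx
    · refine ⟨0, ?_⟩
      rw [pow_zero, pow_one]
      exact (Subgroup.mem_iInf.mp ha.2) ⟨q, hq, hqp⟩
  have hyK : y ∈ D ⊓ N :=
    ⟨hyD, Subgroup.mem_iInf.mpr (fun q => hcent q q.2.1 q.2.2)⟩
  exact mem_pCore_of_mem_fitting y (hK hyK) hy

theorem lemmaA [Group.IsSolvable X] {r : ℕ} [hrf : Fact r.Prime] (hr : 5 ≤ r) (y : X) {k : ℕ}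
    (hy : y ^ (r ^ k) = 1) (B : Subgroup X)
    (hnorm : ∀ q : ℕ, q.Prime → ∀ x ∈ Cfsg.pCore q X, ∀ b ∈ B, x * b * x⁻¹ ∈ B)
    (hyB : y ∈ Subgroup.centralizer (B : Set X))
    (hcent : ∀ q : ℕ, q.Prime → ∀ w ∈ Cfsg.pCore q X,
      w ∈ Subgroup.centralizer (B : Set X) → w * y = y * w) :
    y ∈ Cfsg.pCore r X := by
  have hyB' := hyB
  rw [Subgroup.mem_centralizer_iff] at hyB'
  have hw : ∀ q : ℕ, q.Prime → ∀ x ∈ Cfsg.pCore q X,
      (x⁻¹ * y⁻¹ * x * y) ∈ Cfsg.pCore q X ∧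
        (x⁻¹ * y⁻¹ * x * y) * y = y * (x⁻¹ * y⁻¹ * x * y) := by
    intro q hq x hx
    haveI hn := Cfsg.Agent.Lib.Helper1.pCore_normal (G := X) q
    have h1 : x⁻¹ * y⁻¹ * x * y ∈ Cfsg.pCore q X := by
      have h2 : y⁻¹ * x * y⁻¹⁻¹ ∈ Cfsg.pCore q X := hn.conj_mem x hx y⁻¹
      have h3 := mul_mem (inv_mem hx) h2
      have h4 : x⁻¹ * (y⁻¹ * x * y⁻¹⁻¹) = x⁻¹ * y⁻¹ * x * y := by group
      rw [h4] at h3
      exact h3
    refine ⟨h1, hcent q hq _ h1 ?_⟩
    rw [Subgroup.mem_centralizer_iff]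
    intro b hb
    have hb' := hnorm q hq x hx b hb
    have e1 : b * y = y * b := hyB' b hb
    have hc2 : Commute (x * b * x⁻¹) y := hyB' _ hb'
    calc b * (x⁻¹ * y⁻¹ * x * y) = x⁻¹ * ((x * b * x⁻¹) * y⁻¹) * x * y := by group
      _ = x⁻¹ * (y⁻¹ * (x * b * x⁻¹)) * x * y := by rw [hc2.inv_right.eq]
      _ = x⁻¹ * y⁻¹ * x * (b * y) := by group
      _ = x⁻¹ * y⁻¹ * x * (y * b) := by rw [e1]
      _ = x⁻¹ * y⁻¹ * x * y * b := by group
  have hyP : IsPGroup r (Subgroup.zpowers y) := by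
    obtain ⟨j, _, hjo⟩ := (Nat.dvd_prime_pow hrf.out).1 (orderOf_dvd_of_pow_eq_one hy)
    exact IsPGroup.of_card (n := j) (by rw [Nat.card_zpowers, hjo])
  apply stab hr y hyP (fun x hx => (hw r hrf.out x hx).2)
  intro q hq hqr
  rw [Subgroup.mem_centralizer_iff]
  intro x hx
  obtain ⟨h1, h2⟩ := hw q hq x hx
  have h3 := pow_conj x y _ rfl h2 (r ^ k)
  rw [hy] at h3
  have h4 : (x⁻¹ * y⁻¹ * x * y) ^ (r ^ k) = 1 := by rw [← h3]; group
  haveI : Fact q.Prime := ⟨hq⟩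
  obtain ⟨e, he⟩ := (pCore_isPGroup (G := X) q) ⟨_, h1⟩
  have he' : (x⁻¹ * y⁻¹ * x * y) ^ (q ^ e) = 1 := by
    have := congrArg Subtype.val he
    simpa using this
  have hcop : Nat.Coprime (r ^ k) (q ^ e) :=
    Nat.Coprime.pow _ _ ((Nat.coprime_primes hrf.out hq).2 (Ne.symm hqr))
  have h5 : x⁻¹ * y⁻¹ * x * y = 1 := by
    have h6 : orderOf (x⁻¹ * y⁻¹ * x * y) ∣ Nat.gcd (r ^ k) (q ^ e) :=
      Nat.dvd_gcd (orderOf_dvd_of_pow_eq_one h4) (orderOf_dvd_of_pow_eq_one he')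
    rw [Nat.Coprime.gcd_eq_one hcop] at h6
    exact orderOf_eq_one_iff.mp (Nat.dvd_one.mp h6)
  have h7 : x * y = y * x * (x⁻¹ * y⁻¹ * x * y) := by group
  rw [h7, h5, mul_one]

end Stab

section Main

variable {S : Type*} [Group S] [Finite S]

theorem eq_one_of_dvd_of_dvd {π : Set ℕ} {x : S} {n m : ℕ} (hn : IsPiNat π n)
    (hm : IsPiNat πᶜ m) (h1 : orderOf x ∣ n) (h2 : orderOf x ∣ m) : x = 1 := by
  rw [← orderOf_eq_one_iff]
  by_contra hne
  obtain ⟨t, ht, htd⟩ := Nat.exists_prime_and_dvd hne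
  exact absurd (hn t ht (htd.trans h1)) (hm t ht (htd.trans h2))

theorem main_aux {X : Type*} [Group X] [Finite X] [Group.IsSolvable X] (f : S →* X)
    (hfs : Function.Surjective f) (π : Set ℕ) (h2 : 2 ∉ π) (h3 : 3 ∉ π)
    (hker : IsPiNat πᶜ (Nat.card f.ker))
    (hQ1 : ∀ q : ℕ, q.Prime → q ∉ π → Cfsg.pCore q X = ⊥)
    (H : Subgroup S) (hH : Cfsg.IsPiHall π H)
    (A : Subgroup S) (hA : Cfsg.IsSCN ((Cfsg.fittingSubgroup H).map H.subtype) A)
    (r : ℕ) (hr : r.Prime) (hrπ : r ∈ π) (y : S)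
    (hyA : y ∈ Subgroup.centralizer (A : Set S))
    (k : ℕ) (hy : y ^ (r ^ k) = 1) : y ∈ A := by
  obtain ⟨hAF, hFN, hFC⟩ := hA
  have hFH : (Cfsg.fittingSubgroup H).map H.subtype ≤ H := Subgroup.map_subtype_le _
  have hAH : A ≤ H := hAF.trans hFH
  have hr5 : 5 ≤ r := by
    have := hr.two_le
    rcases Nat.lt_or_ge r 5 with h | h
    · interval_cases r
      · exact absurd hrπ h2
      · exact absurd hrπ h3
      · exact absurd hr (by decide)
    · exact h
  haveI : Fact r.Prime := ⟨hr⟩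
  have hHO : ∀ x ∈ H, f x = 1 → x = 1 := fun x hxH hx =>
    eq_one_of_dvd_of_dvd hH.1 hker (Subgroup.orderOf_dvd_natCard H hxH)
      (Subgroup.orderOf_dvd_natCard f.ker (MonoidHom.mem_ker.mpr hx))
  have hfH : ∀ a ∈ H, ∀ b ∈ H, f a = f b → a = b := by
    intro a ha b hb hab
    have h1 : f (a⁻¹ * b) = 1 := by rw [map_mul, map_inv, hab, inv_mul_cancel]
    have := hHO _ (mul_mem (inv_mem ha) hb) h1
    exact inv_mul_eq_one.mp this
  have hϕ : Function.Injective (f.comp H.subtype) := by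
    intro a b hab
    exact Subtype.ext (hfH a.1 a.2 b.1 b.2 hab)
  have hQ5 : ∀ q : ℕ, q.Prime → q ∈ π →
      Cfsg.pCore q X ≤ ((Cfsg.fittingSubgroup H).map H.subtype).map f := by
    intro q hq hqπ
    haveI : Fact q.Prime := ⟨hq⟩
    haveI hRn : (Cfsg.pCore q X).Normal := Cfsg.Agent.Lib.Helper1.pCore_normal q
    have hR : IsPGroup q (Cfsg.pCore q X) := pCore_isPGroup q
    have hidx : ¬ q ∣ (H.map f).index := fun hd =>
      hH.2 q hq hqπ (hd.trans (Subgroup.index_map_dvd H hfs))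
    have hle : Cfsg.pCore q X ≤ H.map f := normal_pgroup_le_of_not_dvd_index _ _ hR hidx
    haveI hTn : ((Cfsg.pCore q X).comap (f.comp H.subtype)).Normal :=
      Subgroup.Normal.comap hRn _
    have hTp : IsPGroup q ((Cfsg.pCore q X).comap (f.comp H.subtype)) :=
      hR.comap_of_injective _ hϕ
    have hTF : (Cfsg.pCore q X).comap (f.comp H.subtype) ≤ Cfsg.fittingSubgroup H :=
      (le_pCore hTn hTp).trans (pCore_le_fittingSubgroup q)
    intro w hw
    obtain ⟨h, hhH, rfl⟩ := Subgroup.mem_map.mp (hle hw)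
    have hmem : (⟨h, hhH⟩ : H) ∈ (Cfsg.pCore q X).comap (f.comp H.subtype) := by
      rw [Subgroup.mem_comap]; exact hw
    exact Subgroup.mem_map.mpr ⟨h, Subgroup.mem_map.mpr ⟨⟨h, hhH⟩, hTF hmem, rfl⟩, rfl⟩
  have hQ6 : ∀ h ∈ (Cfsg.fittingSubgroup H).map H.subtype,
      f h ∈ Subgroup.centralizer ((A.map f : Subgroup X) : Set X) → h ∈ A := by
    intro h hhF hc
    have hmem : h ∈ (Cfsg.fittingSubgroup H).map H.subtype ⊓
        Subgroup.centralizer (A : Set S) := by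
      refine Subgroup.mem_inf.mpr ⟨hhF, ?_⟩
      rw [Subgroup.mem_centralizer_iff]
      intro a ha
      rw [Subgroup.mem_centralizer_iff] at hc
      have h1 : f a * f h = f h * f a := hc _ (Subgroup.mem_map_of_mem f ha)
      apply hfH _ (mul_mem (hAH ha) (hFH hhF)) _ (mul_mem (hFH hhF) (hAH ha))
      rw [map_mul, map_mul, h1]
    rw [hFC] at hmem
    exact hmem
  have hyX : (f y) ^ (r ^ k) = 1 := by rw [← map_pow, hy, map_one]
  have hyA' := hyA
  rw [Subgroup.mem_centralizer_iff] at hyA'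
  have hyB : f y ∈ Subgroup.centralizer ((A.map f : Subgroup X) : Set X) := by
    rw [Subgroup.mem_centralizer_iff]
    rintro _ ⟨a, ha, rfl⟩
    rw [← map_mul, ← map_mul, hyA' a ha]
  have hyB' := hyB
  rw [Subgroup.mem_centralizer_iff] at hyB'
  have key : f y ∈ Cfsg.pCore r X := by
    apply lemmaA hr5 (f y) hyX (A.map f)
    · intro q hq x hx b hb
      by_cases hqπ : q ∈ π
      · obtain ⟨h, hhF, rfl⟩ := Subgroup.mem_map.mp (hQ5 q hq hqπ hx)
        obtain ⟨a, ha, rfl⟩ := Subgroup.mem_map.mp hb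
        have hmem : h * a * h⁻¹ ∈ A :=
          (Subgroup.mem_normalizer_iff.mp (hFN hhF) a).mp ha
        refine Subgroup.mem_map.mpr ⟨h * a * h⁻¹, hmem, ?_⟩
        rw [map_mul, map_mul, map_inv]
      · rw [hQ1 q hq hqπ, Subgroup.mem_bot] at hx
        rw [hx, one_mul, inv_one, mul_one]
        exact hb
    · exact hyB
    · intro q hq w hw hwc
      by_cases hqπ : q ∈ π
      · obtain ⟨h, hhF, rfl⟩ := Subgroup.mem_map.mp (hQ5 q hq hqπ hw)
        have hhA : h ∈ A := hQ6 h hhF hwc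
        exact hyB' _ (Subgroup.mem_map_of_mem f hhA)
      · rw [hQ1 q hq hqπ, Subgroup.mem_bot] at hw
        rw [hw, one_mul, mul_one]
  obtain ⟨h, hhF, hh⟩ := Subgroup.mem_map.mp (hQ5 r hr hrπ key)
  have hhA : h ∈ A := hQ6 h hhF (by rw [hh]; exact hyB)
  have hcomm : Commute h y := hyA' h hhA
  have h1 : f (h⁻¹ * y) = 1 := by rw [map_mul, map_inv, hh, inv_mul_cancel]
  have h2' : (h⁻¹ * y) ^ (orderOf h * r ^ k) = 1 := by
    rw [(hcomm.inv_left).mul_pow, inv_pow, pow_mul, pow_orderOf_eq_one, one_pow, inv_one,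
      one_mul, mul_comm, pow_mul, hy, one_pow]
  have hpi : IsPiNat π (orderOf h * r ^ k) := by
    apply IsPiNat.mul
    · exact IsPiNat.of_dvd hH.1 (Subgroup.orderOf_dvd_natCard H (hAH hhA))
    · intro t ht htd
      have : t = r := (Nat.prime_dvd_prime_iff_eq ht hr).mp (ht.dvd_of_dvd_pow htd)
      rw [this]; exact hrπ
  have h3' : h⁻¹ * y = 1 :=
    eq_one_of_dvd_of_dvd hpi hker (orderOf_dvd_of_pow_eq_one h2')
      (Subgroup.orderOf_dvd_natCard _ (MonoidHom.mem_ker.mpr h1))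
  have : h = y := inv_mul_eq_one.mp h3'
  rw [← this]; exact hhA

theorem main_claim [Group.IsSolvable S] (π : Set ℕ) (h2 : 2 ∉ π) (h3 : 3 ∉ π)
    (H : Subgroup S) (hH : Cfsg.IsPiHall π H)
    (A : Subgroup S) (hA : Cfsg.IsSCN ((Cfsg.fittingSubgroup H).map H.subtype) A)
    (r : ℕ) (hr : r.Prime) (hrπ : r ∈ π) (y : S)
    (hyA : y ∈ Subgroup.centralizer (A : Set S))
    (k : ℕ) (hy : y ^ (r ^ k) = 1) : y ∈ A := by
  refine main_aux (QuotientGroup.mk' (Cfsg.piCore πᶜ S)) (QuotientGroup.mk'_surjective _)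
    π h2 h3 ?_ ?_ H hH A hA r hr hrπ y hyA k hy
  · rw [QuotientGroup.ker_mk']; exact piCore_isPiNat πᶜ
  · intro q hq hqπ
    haveI : Fact q.Prime := ⟨hq⟩
    have h1 : Cfsg.pCore q (S ⧸ Cfsg.piCore πᶜ S) ≤ Cfsg.piCore πᶜ (S ⧸ Cfsg.piCore πᶜ S) := by
      apply le_piCore (Cfsg.Agent.Lib.Helper1.pCore_normal q)
      obtain ⟨e, he⟩ := (pCore_isPGroup (G := S ⧸ Cfsg.piCore πᶜ S) q).exists_card_eq
      rw [he]
      intro t ht htd
      have : t = q := (Nat.prime_dvd_prime_iff_eq ht hq).mp (ht.dvd_of_dvd_pow htd)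
      rw [this]; exact hqπ
    rw [piCore_quotient_piCore] at h1
    exact le_bot_iff.mp h1

end Main

/-- Let S be a finite solvable group, π a set of primes containing neither 2 nor 3, H a Hall π-subgroup of S, and A a self-centralizing normal subgroup of the Fitting subgroup F(H). Then C_S(A) = A × D for a normal subgroup D of C_S(A) whose order has no prime divisor in π. -/
theorem result {S : Type*} [Group S] [Finite S] [Group.IsSolvable S]
    (π : Set ℕ) (h2 : 2 ∉ π) (h3 : 3 ∉ π) (H : Subgroup S) (hH : Cfsg.IsPiHall π H)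
    (A : Subgroup S) (hA : Cfsg.IsSCN ((Cfsg.fittingSubgroup H).map H.subtype) A) :
    ∃ D : Subgroup S, D ≤ Subgroup.centralizer (A : Set S) ∧
      (∀ c ∈ Subgroup.centralizer (A : Set S), ∀ d ∈ D, c * d * c⁻¹ ∈ D) ∧
      A ⊓ D = ⊥ ∧ A ⊔ D = Subgroup.centralizer (A : Set S) ∧
      ∀ q : ℕ, q.Prime → q ∣ Nat.card D → q ∉ π := by
  have hclaim : ∀ r : ℕ, r.Prime → r ∈ π → ∀ y ∈ Subgroup.centralizer (A : Set S),
      ∀ k : ℕ, y ^ (r ^ k) = 1 → y ∈ A :=
    fun r hr hrπ y hy k hyk => main_claim π h2 h3 H hH A hA r hr hrπ y hy k hyk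
  have hFH : (Cfsg.fittingSubgroup H).map H.subtype ≤ H := Subgroup.map_subtype_le _
  have hAH : A ≤ H := hA.1.trans hFH
  have hAK : A ≤ Subgroup.centralizer (A : Set S) := by
    intro a ha
    have ha' : a ∈ (Cfsg.fittingSubgroup H).map H.subtype ⊓ Subgroup.centralizer (A : Set S) := by
      rw [hA.2.2]; exact ha
    exact ha'.2
  haveI hNn : (A.subgroupOf (Subgroup.centralizer (A : Set S))).Normal := by
    constructor
    intro n hn g
    rw [Subgroup.mem_subgroupOf] at hn ⊢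
    have hg := g.2
    rw [Subgroup.mem_centralizer_iff] at hg
    have : ((g * n * g⁻¹ : Subgroup.centralizer (A : Set S)) : S) = n := by
      rw [Subgroup.coe_mul, Subgroup.coe_mul, Subgroup.coe_inv, ← hg _ hn, mul_inv_cancel_right]
    rw [this]; exact hn
  have hidx : ∀ r : ℕ, r.Prime → r ∈ π →
      ¬ r ∣ (A.subgroupOf (Subgroup.centralizer (A : Set S))).index := by
    intro r hr hrπ hd
    haveI : Fact r.Prime := ⟨hr⟩
    obtain ⟨R⟩ : Nonempty (Sylow r (Subgroup.centralizer (A : Set S))) := inferInstance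
    have hle : (R : Subgroup (Subgroup.centralizer (A : Set S))) ≤
        A.subgroupOf (Subgroup.centralizer (A : Set S)) := by
      intro g hg
      rw [Subgroup.mem_subgroupOf]
      obtain ⟨k, hk⟩ := R.2 ⟨g, hg⟩
      have hk' : (g : S) ^ (r ^ k) = 1 := by
        have := congrArg (fun z : (R : Subgroup (Subgroup.centralizer (A : Set S))) =>
          ((z : Subgroup.centralizer (A : Set S)) : S)) hk
        simpa using this
      exact hclaim r hr hrπ g g.2 k hk'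
    exact R.not_dvd_index (hd.trans (Subgroup.index_dvd_of_le hle))
  have hcardN : Nat.card (A.subgroupOf (Subgroup.centralizer (A : Set S))) = Nat.card A :=
    Nat.card_congr (Subgroup.subgroupOfEquivOfLe hAK).toEquiv
  have hcop : Nat.Coprime (Nat.card (A.subgroupOf (Subgroup.centralizer (A : Set S))))
      (A.subgroupOf (Subgroup.centralizer (A : Set S))).index := by
    apply Nat.coprime_of_dvd
    intro t ht htd
    rw [hcardN] at htd
    exact hidx t ht (hH.1 t ht (htd.trans (Subgroup.card_dvd_of_le hAH)))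
  obtain ⟨D₀, hD₀⟩ := Subgroup.exists_right_complement'_of_coprime hcop
  have hdecomp : ∀ c ∈ Subgroup.centralizer (A : Set S), ∃ a ∈ A, ∃ e : Subgroup.centralizer (A : Set S),
      e ∈ D₀ ∧ c = a * (e : S) := by
    intro c hc
    obtain ⟨⟨⟨a, ha⟩, ⟨e, he⟩⟩, hae⟩ := hD₀.2 ⟨c, hc⟩
    refine ⟨(a : S), ?_, e, he, ?_⟩
    · exact Subgroup.mem_subgroupOf.mp ha
    · have := congrArg Subtype.val hae
      simpa using this.symm
  refine ⟨D₀.map (Subgroup.centralizer (A : Set S)).subtype, Subgroup.map_subtype_le _,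
    ?_, ?_, ?_, ?_⟩
  · intro c hc d hd
    obtain ⟨d₀, hd₀, rfl⟩ := Subgroup.mem_map.mp hd
    obtain ⟨a, ha, e, he, rfl⟩ := hdecomp c hc
    have hz : e * d₀ * e⁻¹ ∈ D₀ := mul_mem (mul_mem he hd₀) (inv_mem he)
    refine Subgroup.mem_map.mpr ⟨e * d₀ * e⁻¹, hz, ?_⟩
    have hzc := (e * d₀ * e⁻¹).2
    rw [Subgroup.mem_centralizer_iff] at hzc
    have h1 : a * ((e * d₀ * e⁻¹ : Subgroup.centralizer (A : Set S)) : S) =
        ((e * d₀ * e⁻¹ : Subgroup.centralizer (A : Set S)) : S) * a := hzc a ha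
    have h2 : ((e * d₀ * e⁻¹ : Subgroup.centralizer (A : Set S)) : S) =
        (e : S) * (d₀ : S) * (e : S)⁻¹ := by
      rw [Subgroup.coe_mul, Subgroup.coe_mul, Subgroup.coe_inv]
    rw [Subgroup.subtype_apply, Subgroup.subtype_apply]
    calc ((e * d₀ * e⁻¹ : Subgroup.centralizer (A : Set S)) : S)
        = ((e * d₀ * e⁻¹ : Subgroup.centralizer (A : Set S)) : S) * a * a⁻¹ := by group
      _ = a * ((e * d₀ * e⁻¹ : Subgroup.centralizer (A : Set S)) : S) * a⁻¹ := by rw [h1]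
      _ = a * (e : S) * (d₀ : S) * (a * (e : S))⁻¹ := by rw [h2]; group
  · rw [eq_bot_iff]
    rintro x ⟨hxA, hxD⟩
    obtain ⟨d₀, hd₀, rfl⟩ := Subgroup.mem_map.mp hxD
    have hN : d₀ ∈ A.subgroupOf (Subgroup.centralizer (A : Set S)) :=
      Subgroup.mem_subgroupOf.mpr hxA
    have : d₀ = 1 := Subgroup.disjoint_def.mp hD₀.disjoint hN hd₀
    rw [this]; simp
  · apply le_antisymm (sup_le hAK (Subgroup.map_subtype_le _))
    intro c hc
    obtain ⟨a, ha, e, he, rfl⟩ := hdecomp c hc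
    exact Subgroup.mul_mem_sup ha (Subgroup.mem_map.mpr ⟨e, he, rfl⟩)
  · intro q hq hqd hqπ
    rw [Subgroup.card_map_of_injective (Subgroup.subtype_injective _),
      ← hD₀.symm.index_eq_card] at hqd
    exact hidx q hq hqπ hqd

end Cfsg.Agent.S1893
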