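import Cfsg.Statements.S1894

set_option autoImplicit false
open Cfsg

namespace Cfsg.Agent.S1894

/-- In a finite `p`-group a nontrivial normal subgroup meets the centre nontrivially. -/
theorem normal_meets_center {G : Type*} [Group G] [Finite G] {p : ℕ} [Fact p.Prime]
    (hG : IsPGroup p G) (N : Subgroup G) [N.Normal] (hN : N ≠ ⊥) :
    N ⊓ Subgroup.center G ≠ ⊥ := by
  have hGc : IsPGroup p (ConjAct G) := hG.of_equiv ConjAct.toConjAct
  have hNp : IsPGroup p N := hG.to_subgroup N
  have hdvd : p ∣ Nat.card N := by
    rcases hNp.card_eq_or_dvd with h | h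
    · exfalso
      apply hN
      exact (Subgroup.card_eq_one).mp h
    · exact h
  have h1 : (1 : N) ∈ MulAction.fixedPoints (ConjAct G) N := by
    intro g
    exact smul_one g
  obtain ⟨b, hb, hb1⟩ := hGc.exists_fixed_point_of_prime_dvd_card_of_fixed_point N hdvd h1
  intro hbot
  apply hb1
  have hbc : (b : G) ∈ N ⊓ Subgroup.center G := by
    refine Subgroup.mem_inf.mpr ⟨b.2, ?_⟩
    rw [Subgroup.mem_center_iff]
    intro g
    have := hb (ConjAct.toConjAct g)
    have h2 := congrArg Subtype.val this
    rw [ConjAct.Subgroup.val_conj_smul, ConjAct.toConjAct_smul] at h2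
    calc g * (b : G) = (g * (b : G) * g⁻¹) * g := by group
      _ = (b : G) * g := by rw [h2]
  rw [hbot, Subgroup.mem_bot] at hbc
  exact (Subtype.ext hbc).symm

/-- Let P be a finite p-group, A a normal subgroup of P and B an abelian subgroup of A that is normal in P. Then some subgroup C of A containing B is normal in P and is self-centralizing and normal in A (C ∈ SCN(A)). -/
theorem result {P : Type*} [Group P] [Finite P] {p : ℕ} [Fact p.Prime] (hP : IsPGroup p P)
    (A : Subgroup P) [A.Normal] (B : Subgroup P) [B.Normal] (hBA : B ≤ A) (hB : IsMulCommutative B) :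
    ∃ C : Subgroup P, C.Normal ∧ B ≤ C ∧ Cfsg.IsSCN A C := by
  -- a maximal normal abelian subgroup between B and A
  have hfin : Set.Finite {C : Subgroup P | C.Normal ∧ IsMulCommutative C ∧ B ≤ C ∧ C ≤ A} :=
    Set.toFinite _
  have hne : {C : Subgroup P | C.Normal ∧ IsMulCommutative C ∧ B ≤ C ∧ C ≤ A}.Nonempty :=
    ⟨B, inferInstance, hB, le_refl _, hBA⟩
  obtain ⟨C, ⟨hCn, hCc, hBC, hCA⟩, hmax⟩ := hfin.exists_maximal hne
  haveI := hCn
  refine ⟨C, hCn, hBC, hCA, ?_, ?_⟩
  · intro a _
    exact (Subgroup.normalizer_eq_top (H := C)) ▸ Subgroup.mem_top a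
  · have hCC : ∀ a ∈ C, ∀ b ∈ C, a * b = b * a := fun a ha b hb =>
      congrArg Subtype.val (hCc.is_comm.comm ⟨a, ha⟩ ⟨b, hb⟩)
    apply le_antisymm
    · -- the main part
      by_contra hnot
      set D : Subgroup P := A ⊓ Subgroup.centralizer (C : Set P) with hD
      have hcn : (Subgroup.centralizer (C : Set P)).Normal := Subgroup.normal_centralizer
      have hDn : D.Normal := Subgroup.normal_inf_normal _ _
      set Dbar : Subgroup (P ⧸ C) := D.map (QuotientGroup.mk' C) with hDbar
      have : Dbar.Normal := Subgroup.Normal.map hDn _ (QuotientGroup.mk'_surjective C)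
      have hDbar_ne : Dbar ≠ ⊥ := by
        intro h
        apply hnot
        intro c hc
        have : (QuotientGroup.mk' C c) ∈ Dbar := Subgroup.mem_map_of_mem _ hc
        rw [h, Subgroup.mem_bot] at this
        exact (QuotientGroup.eq_one_iff c).mp this
      have hQ : IsPGroup p (P ⧸ C) := hP.to_quotient C
      have hmeet := normal_meets_center hQ Dbar hDbar_ne
      obtain ⟨z, hz, hz1⟩ : ∃ z ∈ Dbar ⊓ Subgroup.center (P ⧸ C), z ≠ 1 := by
        by_contra hcon
        push_neg at hcon
        apply hmeet
        rw [Subgroup.eq_bot_iff_forall]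
        exact hcon
      obtain ⟨⟨x, hxD, rfl⟩, hzcen⟩ := hz
      have hxC : x ∉ C := fun h => hz1 ((QuotientGroup.eq_one_iff x).mpr h)
      have hxA : x ∈ A := (Subgroup.mem_inf.mp hxD).1
      have hxcent : x ∈ Subgroup.centralizer (C : Set P) := (Subgroup.mem_inf.mp hxD).2
      set E : Subgroup P := Subgroup.closure ((C : Set P) ∪ {x}) with hE
      have hCE : C ≤ E := by
        intro a ha
        exact Subgroup.subset_closure (Or.inl ha)
      have hxE : x ∈ E := Subgroup.subset_closure (Or.inr rfl)
      have hEc : IsMulCommutative E := by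
        apply Subgroup.isMulCommutative_closure
        have hxa : ∀ a ∈ C, a * x = x * a := fun a ha =>
          (Subgroup.mem_centralizer_iff.mp hxcent) a ha
        rintro u (hu | hu) v (hv | hv)
        · exact hCC u hu v hv
        · rw [Set.mem_singleton_iff] at hv; subst hv; exact hxa u hu
        · rw [Set.mem_singleton_iff] at hu; subst hu; exact (hxa v hv).symm
        · rw [Set.mem_singleton_iff] at hu hv; subst hu; subst hv; rfl
      have hEA : E ≤ A := by
        rw [hE, Subgroup.closure_le]
        rintro u (hu | hu)
        · exact hCA hu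
        · rw [Set.mem_singleton_iff] at hu; subst hu; exact hxA
      have hEn : E.Normal := by
        constructor
        intro n hn g
        induction hn using Subgroup.closure_induction with
        | mem u hu =>
          rcases hu with hu | hu
          · exact hCE (hCn.conj_mem u hu g)
          · rw [Set.mem_singleton_iff] at hu
            subst hu
            have hcomm : (QuotientGroup.mk' C g) * (QuotientGroup.mk' C u) =
                (QuotientGroup.mk' C u) * (QuotientGroup.mk' C g) :=
              (Subgroup.mem_center_iff.mp hzcen (QuotientGroup.mk' C g))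
            have hmem : u⁻¹ * (g * u * g⁻¹) ∈ C := by
              rw [← QuotientGroup.eq_one_iff, ← QuotientGroup.mk'_apply]
              simp only [map_mul, map_inv]
              rw [hcomm]; group
            have : g * u * g⁻¹ = u * (u⁻¹ * (g * u * g⁻¹)) := by group
            rw [this]
            exact E.mul_mem hxE (hCE hmem)
        | one => simp
        | mul u v _ _ hu hv =>
          have : g * (u * v) * g⁻¹ = (g * u * g⁻¹) * (g * v * g⁻¹) := by group
          rw [this]
          exact E.mul_mem hu hv
        | inv u _ hu =>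
          have : g * u⁻¹ * g⁻¹ = (g * u * g⁻¹)⁻¹ := by group
          rw [this]
          exact E.inv_mem hu
      have hle : E ≤ C := hmax ⟨hEn, hEc, hBC.trans hCE, hEA⟩ hCE
      exact hxC (hle hxE)
    · intro c hc
      refine Subgroup.mem_inf.mpr ⟨hCA hc, ?_⟩
      rw [Subgroup.mem_centralizer_iff]
      intro h hh
      exact hCC h hh c hc

end Cfsg.Agent.S1894
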