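import Cfsg.Statements.S1897
import Cfsg.Agent.Lib.Helper16.PSU33L27

set_option autoImplicit false
open Cfsg

namespace Cfsg.Agent.S1897

/-- The projective special unitary group PSU₃(3) (realised over the field with 9 elements) has a subgroup isomorphic to PSL₂(7). -/
theorem result {F : Type*} [Field F] [Fintype F] (hF : Fintype.card F = 9)
    {K : Type*} [Field K] [Fintype K] (hK : Fintype.card K = 7) :
    ∃ H : Subgroup (Cfsg.PSU 3 F 3), Nonempty (H ≃* Matrix.ProjectiveSpecialLinearGroup (Fin 2) K) := by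
  obtain ⟨H, ⟨e⟩⟩ := Cfsg.Agent.Lib.Helper16.G168.exists_subgroup_PSU33 (F := F) hF
  obtain ⟨f⟩ := Cfsg.Agent.Helper4.PSLp.transport (by norm_num : Nat.Prime 7) hK
    (Cfsg.Agent.Helper4.PSLp.psl27 (G := Cfsg.Agent.Lib.Helper16.G168.M168)
      Cfsg.Agent.Lib.Helper16.G168.card_M168')
  exact ⟨H, ⟨e.trans f⟩⟩

end Cfsg.Agent.S1897
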