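import Cfsg.Statements.S1898

set_option autoImplicit false
open Cfsg
open scoped commutatorElement

namespace Cfsg.Agent.S1898

/-- the standing hypothesis: commutators are central involutions -/
def Hyp (X : Type*) [Group X] : Prop :=
  ∀ x y : X, (∀ g : X, g * (x * y * x⁻¹ * y⁻¹) = (x * y * x⁻¹ * y⁻¹) * g) ∧
    (x * y * x⁻¹ * y⁻¹) * (x * y * x⁻¹ * y⁻¹) = 1

lemma hyp_of {X : Type*} [Group X]
    (hel : Cfsg.IsElementaryAbelian 2 (commutator X)) (hcen : commutator X ≤ Subgroup.center X) :
    Hyp X := by
  intro x y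
  have hmem : x * y * x⁻¹ * y⁻¹ ∈ commutator X := by
    rw [commutator_def, ← commutatorElement_def]
    exact Subgroup.commutator_mem_commutator (Subgroup.mem_top x) (Subgroup.mem_top y)
  refine ⟨fun g => ?_, ?_⟩
  · exact Subgroup.mem_center_iff.mp (hcen hmem) g
  · have := hel.2 _ hmem
    rwa [pow_two] at this

/-- `(x y)² = [x,y] x² y²` -/
lemma sq_mul {X : Type*} [Group X] (h : Hyp X) (x y : X) :
    (x * y) * (x * y) = (x * y * x⁻¹ * y⁻¹) * (x * x) * (y * y) := by
  obtain ⟨hc, hcc⟩ := h x y
  set c := x * y * x⁻¹ * y⁻¹ with hcdef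
  have hyx : y * x = c * (x * y) := by
    have h1 : c * (y * x) = x * y := by rw [hcdef]; group
    calc y * x = (c * c) * (y * x) := by rw [hcc, one_mul]
      _ = c * (c * (y * x)) := by rw [mul_assoc]
      _ = c * (x * y) := by rw [h1]
  calc (x * y) * (x * y) = x * (y * x) * y := by group
    _ = x * (c * (x * y)) * y := by rw [hyx]
    _ = (x * c) * (x * y) * y := by group
    _ = (c * x) * (x * y) * y := by rw [hc x]
    _ = c * (x * x) * (y * y) := by group

/-- squares are central -/
lemma sq_central {X : Type*} [Group X] (h : Hyp X) (x y : X) : (x * x) * y = y * (x * x) := by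
  obtain ⟨hc, hcc⟩ := h x y
  set c := x * y * x⁻¹ * y⁻¹ with hcdef
  have hxy : x * y = c * (y * x) := by rw [hcdef]; group
  calc (x * x) * y = x * (x * y) := by group
    _ = x * (c * (y * x)) := by rw [hxy]
    _ = (x * c) * (y * x) := by group
    _ = (c * x) * (y * x) := by rw [hc x]
    _ = c * (x * y) * x := by group
    _ = c * (c * (y * x)) * x := by rw [hxy]
    _ = (c * c) * (y * x) * x := by group
    _ = y * (x * x) := by rw [hcc]; group

lemma pow4_mul {X : Type*} [Group X] (h : Hyp X) (x y : X) :
    (x * y) ^ 4 = x ^ 4 * y ^ 4 := by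
  obtain ⟨hc, hcc⟩ := h x y
  have hsq := sq_mul h x y
  set c := x * y * x⁻¹ * y⁻¹ with hcdef
  have hx2 : ∀ g, (x * x) * g = g * (x * x) := sq_central h x
  have hy2 : ∀ g, (y * y) * g = g * (y * y) := sq_central h y
  have e4 : ∀ g : X, g ^ 4 = (g * g) * (g * g) := fun g => by
    rw [show (4 : ℕ) = 2 + 2 from rfl, pow_add, pow_two]
  rw [e4, hsq, e4 x, e4 y]
  calc c * (x * x) * (y * y) * (c * (x * x) * (y * y))
      = c * ((x * x) * (y * y) * c) * (x * x) * (y * y) := by group
    _ = c * (c * ((x * x) * (y * y))) * (x * x) * (y * y) := by rw [hc]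
    _ = (c * c) * (x * x) * ((y * y) * (x * x)) * (y * y) := by group
    _ = (c * c) * (x * x) * ((x * x) * (y * y)) * (y * y) := by rw [hy2 (x * x)]
    _ = x * x * (x * x) * (y * y * (y * y)) := by rw [hcc]; group

/-- Let X be a finite 2-group whose derived subgroup is elementary abelian and central. Then the subgroup generated by the elements of order dividing 4 has exponent dividing 4, and every automorphism of X fixing each element of order dividing 4 has 2-power order. -/
theorem result {X : Type*} [Group X] [Finite X] (hX : IsPGroup 2 X)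
    (hel : Cfsg.IsElementaryAbelian 2 (commutator X)) (hcen : commutator X ≤ Subgroup.center X) :
    (∀ x ∈ Subgroup.closure {g : X | g ^ 4 = 1}, x ^ 4 = 1) ∧
      ∀ φ : MulAut X, (∀ g : X, g ^ 4 = 1 → φ g = g) → ∃ k : ℕ, φ ^ (2 ^ k) = 1 := by
  have h : Hyp X := hyp_of hel hcen
  refine ⟨?_, ?_⟩
  · intro x hx
    induction hx using Subgroup.closure_induction with
    | mem x hx => exact hx
    | one => simp
    | mul x y _ _ hx hy => rw [pow4_mul h, hx, hy, one_mul]
    | inv x _ hx => rw [inv_pow, hx, inv_one]
  · intro φ hφ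
    have hN : orderOf φ ≠ 0 := (orderOf_pos φ).ne'
    obtain ⟨k, m, hm, hkm⟩ := Nat.exists_eq_two_pow_mul_odd hN
    refine ⟨k, ?_⟩
    set ψ := φ ^ (2 ^ k) with hψ
    have hψm : ψ ^ m = 1 := by
      rw [hψ, ← pow_mul, ← hkm, pow_orderOf_eq_one]
    -- ψ fixes elements with g^4 = 1
    have hpowfix : ∀ (j : ℕ) (g : X), g ^ 4 = 1 → (φ ^ j) g = g := by
      intro j
      induction j with
      | zero => intro g _; simp
      | succ j ih => intro g hg; rw [pow_succ, MulAut.mul_apply, hφ g hg, ih g hg]
    have hψfix : ∀ g : X, g ^ 4 = 1 → ψ g = g := hpowfix _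
    -- main induction
    have main : ∀ (j : ℕ) (x : X), x ^ (2 ^ j) = 1 → ψ x = x := by
      intro j
      induction j with
      | zero => intro x hx; rw [pow_zero, pow_one] at hx; rw [hx, map_one]
      | succ j ih =>
        intro x hx
        have hx2 : ψ (x * x) = x * x := by
          apply ih
          rw [← pow_two, ← pow_mul, ← pow_succ']
          exact hx
        set c₀ := x⁻¹ * ψ x with hc₀
        have hy : ψ x = x * c₀ := by rw [hc₀]; group
        have hyy : (x * c₀) * (x * c₀) = x * x := by rw [← hy, ← map_mul, hx2]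
        -- c₀⁴ = 1
        obtain ⟨hc', hcc'⟩ := h x c₀
        have hsq := sq_mul h x c₀
        set c' := x * c₀ * x⁻¹ * c₀⁻¹ with hc'def
        rw [hyy] at hsq
        -- x*x = c' * (x*x) * (c₀*c₀)
        have hcc₀ : c' * (c₀ * c₀) = 1 := by
          have e1 : x * x = (x * x) * (c' * (c₀ * c₀)) := by
            calc x * x = c' * (x * x) * (c₀ * c₀) := hsq
              _ = ((x * x) * c') * (c₀ * c₀) := by rw [hc' (x * x)]
              _ = (x * x) * (c' * (c₀ * c₀)) := by group
          exact (mul_eq_left.mp e1.symm)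
        have hc₀4 : c₀ ^ 4 = 1 := by
          have e : c₀ * c₀ = c' := by
            calc c₀ * c₀ = (c' * c') * (c₀ * c₀) := by rw [hcc', one_mul]
              _ = c' * (c' * (c₀ * c₀)) := by group
              _ = c' := by rw [hcc₀, mul_one]
          calc c₀ ^ 4 = (c₀ * c₀) * (c₀ * c₀) := by
                rw [show (4 : ℕ) = 2 + 2 from rfl, pow_add, pow_two]
            _ = 1 := by rw [e, hcc']
        have hψc : ψ c₀ = c₀ := hψfix c₀ hc₀4
        have hiter : ∀ i : ℕ, (ψ ^ i) x = x * c₀ ^ i := by
          intro i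
          induction i with
          | zero => simp
          | succ i ihi =>
            rw [pow_succ', MulAut.mul_apply, ihi, map_mul, map_pow, hy, hψc, pow_succ']
            group
        have hcm : c₀ ^ m = 1 := by
          have := hiter m
          rw [hψm, MulAut.one_apply] at this
          exact (mul_eq_left.mp this.symm)
        have hc1 : c₀ = 1 := by
          have h1 : orderOf c₀ ∣ 4 := orderOf_dvd_of_pow_eq_one hc₀4
          have h2 : orderOf c₀ ∣ m := orderOf_dvd_of_pow_eq_one hcm
          have h3 : Nat.Coprime 4 m := by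
            have : Nat.Coprime 2 m := (Nat.coprime_two_left).mpr hm
            exact Nat.Coprime.pow_left 2 this
          have := Nat.eq_one_of_dvd_coprimes h3 h1 h2
          exact orderOf_eq_one_iff.mp this
        rw [hy, hc1, mul_one]
    ext x
    obtain ⟨j, hj⟩ := hX x
    rw [main j x hj]
    rfl

end Cfsg.Agent.S1898
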