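import Cfsg.Statements.S1899

set_option autoImplicit false
open Cfsg

namespace Cfsg.Agent.S1899

/-- Let a dihedral group of order 2n, n odd and n > 1, act on a finite abelian 2-group A through automorphisms d and t with d^n = 1, t² = 1 and t d t⁻¹ = d⁻¹, and suppose that d fixes only the identity. Then A is the internal direct product of C_A(t) and its image under d. -/
theorem result {A : Type*} [CommGroup A] [Finite A] (hA : IsPGroup 2 A)
    {n : ℕ} (hn : Odd n) (hn1 : 1 < n) (d t : MulAut A) (hd : d ^ n = 1) (ht : t ^ 2 = 1) (hdt : t * d * t⁻¹ = d⁻¹)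
    (hfix : ∀ a : A, d a = a → a = 1) :
    (MulEquiv.toMonoidHom t).eqLocus (MonoidHom.id A) ⊓ ((MulEquiv.toMonoidHom t).eqLocus (MonoidHom.id A)).map d.toMonoidHom = ⊥ ∧
      (MulEquiv.toMonoidHom t).eqLocus (MonoidHom.id A) ⊔ ((MulEquiv.toMonoidHom t).eqLocus (MonoidHom.id A)).map d.toMonoidHom = ⊤ := by
  set C : Subgroup A := (MulEquiv.toMonoidHom t).eqLocus (MonoidHom.id A) with hC
  have memC : ∀ a : A, a ∈ C ↔ t a = a := fun a => Iff.rfl
  -- F1: d² a = a → a = 1
  have F1 : ∀ a : A, d (d a) = a → a = 1 := by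
    intro a ha
    apply hfix
    obtain ⟨m, hm⟩ := hn
    have h2 : ∀ k : ℕ, ((d * d) ^ k) a = a := by
      intro k
      induction k with
      | zero => simp
      | succ k ih =>
        rw [pow_succ, MulAut.mul_apply, MulAut.mul_apply, ha, ih]
    have h3 : (d * d) ^ (m + 1) = d := by
      rw [← pow_two, ← pow_mul]
      have : 2 * (m + 1) = n + 1 := by omega
      rw [this, pow_succ, hd, one_mul]
    have := h2 (m + 1)
    rwa [h3] at this
  -- F2: t (d y) = d⁻¹ (t y), t (d⁻¹ y) = d (t y)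
  have htd : t * d = d⁻¹ * t := by
    calc t * d = (t * d * t⁻¹) * t := by group
      _ = d⁻¹ * t := by rw [hdt]
  have htd' : t * d⁻¹ = d * t := by
    calc t * d⁻¹ = d * (d⁻¹ * t) * d⁻¹ := by group
      _ = d * (t * d) * d⁻¹ := by rw [htd]
      _ = d * t := by group
  have F2 : ∀ y : A, t (d y) = d⁻¹ (t y) := fun y => by
    calc t (d y) = (t * d) y := rfl
      _ = (d⁻¹ * t) y := by rw [htd]
      _ = d⁻¹ (t y) := rfl
  have F2' : ∀ y : A, t (d⁻¹ y) = d (t y) := fun y => by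
    calc t (d⁻¹ y) = (t * d⁻¹) y := rfl
      _ = (d * t) y := by rw [htd']
      _ = d (t y) := rfl
  have htt : ∀ a : A, t (t a) = a := fun a => by
    calc t (t a) = (t ^ 2) a := by rw [pow_two]; rfl
      _ = a := by rw [ht]; rfl
  have hdinv : ∀ a : A, d (d⁻¹ a) = a := fun a => by
    calc d (d⁻¹ a) = (d * d⁻¹) a := rfl
      _ = a := by rw [mul_inv_cancel]; rfl
  have hdinv' : ∀ a : A, d⁻¹ (d a) = a := fun a => by
    calc d⁻¹ (d a) = (d⁻¹ * d) a := rfl
      _ = a := by rw [inv_mul_cancel]; rfl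
  -- (1) trivial intersection
  have hinf : C ⊓ C.map d.toMonoidHom = ⊥ := by
    rw [eq_bot_iff]
    intro x hx
    obtain ⟨hx1, hx2⟩ := Subgroup.mem_inf.mp hx
    obtain ⟨y, hy, rfl⟩ := Subgroup.mem_map.mp hx2
    have hy' : t y = y := (memC y).mp hy
    have h1 : t (d y) = d y := (memC _).mp hx1
    rw [F2, hy'] at h1
    -- d⁻¹ y = d y
    have h2 : d (d y) = y := by
      rw [← h1, hdinv]
    have := F1 y h2
    rw [Subgroup.mem_bot, this]
    simp
  refine ⟨hinf, ?_⟩
  -- (2) the injection A → C × C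
  let φ₁ : A →* A := MonoidHom.id A * t.toMonoidHom
  have hφ₁ : ∀ a, φ₁ a = a * t a := fun a => rfl
  have hφ₁C : ∀ a, φ₁ a ∈ C := by
    intro a
    rw [memC, hφ₁, map_mul, htt, mul_comm]
  let φ₂ : A →* A := φ₁.comp (d⁻¹).toMonoidHom
  have hφ₂ : ∀ a, φ₂ a = d⁻¹ a * t (d⁻¹ a) := fun a => rfl
  have hφ₂C : ∀ a, φ₂ a ∈ C := fun a => hφ₁C _
  let f : A →* C × C := (φ₁.codRestrict C hφ₁C).prod (φ₂.codRestrict C hφ₂C)
  have hf : Function.Injective f := by
    rw [injective_iff_map_eq_one]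
    intro a ha
    have h1 : φ₁ a = 1 := by
      have := congrArg (fun x : C × C => (x.1 : A)) ha
      simpa [f] using this
    have h2 : φ₂ a = 1 := by
      have := congrArg (fun x : C × C => (x.2 : A)) ha
      simpa [f] using this
    rw [hφ₁] at h1
    rw [hφ₂, F2'] at h2
    have hta : t a = a⁻¹ := eq_inv_of_mul_eq_one_right h1
    rw [hta, map_inv] at h2
    -- d⁻¹ a = d a
    have h3 : d⁻¹ a = d a := by
      have := eq_inv_of_mul_eq_one_left h2
      simpa using this
    apply F1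
    rw [← h3, hdinv]
  have hcard1 : Nat.card A ≤ Nat.card C * Nat.card C := by
    have := Nat.card_le_card_of_injective f hf
    rwa [Nat.card_prod] at this
  -- (3) the injection C × C → C ⊔ dC
  let S : Subgroup A := C ⊔ C.map d.toMonoidHom
  let g : C × C → S := fun x =>
    ⟨x.1.1 * d x.2.1, Subgroup.mul_mem _ (Subgroup.mem_sup_left x.1.2)
      (Subgroup.mem_sup_right (Subgroup.mem_map.mpr ⟨x.2.1, x.2.2, rfl⟩))⟩
  have hg : Function.Injective g := by
    rintro ⟨x, y⟩ ⟨x', y'⟩ hxy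
    have h1 : x.1 * d y.1 = x'.1 * d y'.1 := congrArg Subtype.val hxy
    have h2 : x'.1⁻¹ * x.1 = d (y'.1 * y.1⁻¹) := by
      rw [map_mul, map_inv]
      calc x'.1⁻¹ * x.1 = x'.1⁻¹ * (x.1 * d y.1) * (d y.1)⁻¹ := by group
        _ = x'.1⁻¹ * (x'.1 * d y'.1) * (d y.1)⁻¹ := by rw [h1]
        _ = d y'.1 * (d y.1)⁻¹ := by group
    have h3 : x'.1⁻¹ * x.1 ∈ C ⊓ C.map d.toMonoidHom := by
      refine Subgroup.mem_inf.mpr ⟨C.mul_mem (C.inv_mem x'.2) x.2, ?_⟩
      rw [h2]
      exact Subgroup.mem_map.mpr ⟨_, C.mul_mem y'.2 (C.inv_mem y.2), rfl⟩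
    rw [hinf, Subgroup.mem_bot] at h3
    have hx : x = x' := Subtype.ext (inv_mul_eq_one.mp h3).symm
    have hy : y = y' := by
      rw [h3] at h2
      have h4 : y'.1 * y.1⁻¹ = 1 := by
        have := congrArg (fun z => d⁻¹ z) h2
        simp only [map_one, hdinv'] at this
        exact this.symm
      exact Subtype.ext (mul_inv_eq_one.mp h4).symm
    rw [hx, hy]
  have hcard2 : Nat.card C * Nat.card C ≤ Nat.card S := by
    have := Nat.card_le_card_of_injective g hg
    rwa [Nat.card_prod] at this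
  exact Subgroup.eq_top_of_le_card S (hcard1.trans hcard2)

end Cfsg.Agent.S1899
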