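import Cfsg.Statements.S1900
import Cfsg.Agent.Lib.Helper12.Generation
import Cfsg.Agent.Lib.Helper10.Basic

set_option autoImplicit false
open Cfsg

namespace Cfsg.Agent.S1900

open Subgroup Cfsg.Agent.Lib.Helper12 Cfsg.Agent.Lib.Helper1
open scoped commutatorElement

section Basic

variable {G : Type*} [Group G]

theorem centralizer_zpowers (a : G) :
    centralizer ((zpowers a : Subgroup G) : Set G) = centralizer {a} := by
  apply le_antisymm
  · exact centralizer_le (by simp)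
  · intro x hx
    rw [mem_centralizer_iff]
    intro y hy
    obtain ⟨k, rfl⟩ := mem_zpowers_iff.mp hy
    have h1 : Commute x a := mem_centralizer_singleton_iff.mp hx
    exact (h1.zpow_right k).eq.symm

/-- an element commuting with `X` normalizes `C(X)` -/
theorem mem_normalizer_centralizer_of_comm {X : Subgroup G} {g : G}
    (hg : ∀ x ∈ X, g * x = x * g) : g ∈ normalizer ((centralizer (X : Set G) : Subgroup G) : Set G) := by
  have key : ∀ g : G, (∀ x ∈ X, g * x = x * g) → ∀ h ∈ centralizer (X : Set G),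
      g * h * g⁻¹ ∈ centralizer (X : Set G) := by
    intro g hg h hh
    rw [mem_centralizer_iff] at hh ⊢
    intro x hx
    have h1 : Commute g x := hg x hx
    have h2 : Commute h x := (hh x hx).symm
    exact (((h1.mul_left h2).mul_left h1.inv_left : Commute (g * h * g⁻¹) x)).eq.symm
  rw [mem_normalizer_iff]
  intro h
  refine ⟨key g hg h, fun hh => ?_⟩
  have hg' : ∀ x ∈ X, g⁻¹ * x = x * g⁻¹ := by
    intro x hx
    have h1 : Commute g x := hg x hx
    exact h1.inv_left.eq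
  have := key g⁻¹ hg' _ hh
  have h3 : g⁻¹ * (g * h * g⁻¹) * g⁻¹⁻¹ = h := by group
  rwa [h3] at this

theorem eq_zpowers_of_card_prime [Finite G] {q : ℕ} [hq : Fact q.Prime] {X : Subgroup G}
    (hX : Nat.card X = q) {x : G} (hx : x ∈ X) (hx1 : x ≠ 1) : X = zpowers x := by
  symm
  apply Subgroup.eq_of_le_of_card_ge (zpowers_le.mpr hx)
  rw [hX, Nat.card_zpowers]
  have h1 : orderOf x ∣ q := by
    have := orderOf_dvd_natCard (⟨x, hx⟩ : ↥X)
    rwa [Subgroup.orderOf_mk, hX] at this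
  rcases (Nat.dvd_prime hq.out).mp h1 with h | h
  · exact absurd (orderOf_eq_one_iff.mp h) hx1
  · exact h.ge

theorem exists_ne_one_of_card_prime {q : ℕ} [hq : Fact q.Prime] {X : Subgroup G}
    (hX : Nat.card X = q) : ∃ x ∈ X, x ≠ 1 := by
  have hne : X ≠ ⊥ := by
    rintro rfl
    rw [Subgroup.card_bot] at hX
    exact hq.out.one_lt.ne hX
  obtain ⟨b, hb1⟩ := Subgroup.ne_bot_iff_exists_ne_one.mp hne
  exact ⟨b, b.2, fun h => hb1 (Subtype.ext h)⟩

end Basic

section Setting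

variable {G : Type*} [Group G] [Finite G]

/-- The acting group: `E` elementary abelian of order `q²` with two distinguished subgroups
of order `q`. -/
structure Ctx (q : ℕ) (E X₁ X₂ : Subgroup G) : Prop where
  ea : Cfsg.IsElementaryAbelian q E
  card : Nat.card E = q ^ 2
  le₁ : X₁ ≤ E
  le₂ : X₂ ≤ E
  ne : X₁ ≠ X₂
  card₁ : Nat.card X₁ = q
  card₂ : Nat.card X₂ = q

/-- The hypotheses on the `p`-group `R` acted on by `E`. -/
structure Hyp (p q : ℕ) (E X₁ X₂ R : Subgroup G) : Prop where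
  pgroup : IsPGroup p R
  norm : E ≤ normalizer (R : Set G)
  only : ∀ X : Subgroup G, X ≤ E → Nat.card X = q → R ⊓ centralizer (X : Set G) ≠ ⊥ →
    X = X₁ ∨ X = X₂

variable {p q : ℕ} [hp : Fact p.Prime] [hq : Fact q.Prime] {E X₁ X₂ : Subgroup G}

theorem Ctx.swap (h : Ctx q E X₁ X₂) : Ctx q E X₂ X₁ :=
  ⟨h.ea, h.card, h.le₂, h.le₁, h.ne.symm, h.card₂, h.card₁⟩

theorem Hyp.swap {R : Subgroup G} (h : Hyp p q E X₁ X₂ R) : Hyp p q E X₂ X₁ R :=
  ⟨h.pgroup, h.norm, fun X h1 h2 h3 => (h.only X h1 h2 h3).symm⟩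

theorem Hyp.mono {R R' : Subgroup G} (h : Hyp p q E X₁ X₂ R) (hle : R' ≤ R)
    (hn : E ≤ normalizer (R' : Set G)) : Hyp p q E X₁ X₂ R' :=
  ⟨h.pgroup.to_le hle, hn, fun X h1 h2 h3 => h.only X h1 h2 (fun h4 => h3 (by
    rw [eq_bot_iff] at h4 ⊢
    exact (inf_le_inf_right _ hle).trans h4))⟩

theorem Ctx.comm (h : Ctx q E X₁ X₂) : ∀ x ∈ E, ∀ y ∈ E, x * y = y * x :=
  isElementaryAbelian_comm h.ea

theorem Hyp.not_dvd (hpq : p ≠ q) {R : Subgroup G} (h : Hyp p q E X₁ X₂ R) :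
    ¬ q ∣ Nat.card R := by
  obtain ⟨k, hk⟩ := IsPGroup.iff_card.mp h.pgroup
  rw [hk]
  intro hd
  have := (Nat.prime_dvd_prime_iff_eq hq.out hp.out).mp (hq.out.dvd_of_dvd_pow hd)
  exact hpq this.symm

/-- `E` normalizes `R ⊓ C(X)` for `X ≤ E`. -/
theorem Ctx.norm_inf (hc : Ctx q E X₁ X₂) {R X : Subgroup G} (hR : E ≤ normalizer (R : Set G))
    (hX : X ≤ E) : E ≤ normalizer ((R ⊓ centralizer (X : Set G) : Subgroup G) : Set G) := by
  intro g hg
  apply inf_normalizer_le_normalizer_inf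
  exact mem_inf.mpr ⟨hR hg, mem_normalizer_centralizer_of_comm
    (fun x hx => hc.comm g hg x (hX hx))⟩

/-- F1: `R` is generated by `C_R(X₁)` and `C_R(X₂)`. -/
theorem le_sup (hpq : p ≠ q) (hc : Ctx q E X₁ X₂) {R : Subgroup G} (h : Hyp p q E X₁ X₂ R) :
    R ≤ (R ⊓ centralizer (X₁ : Set G)) ⊔ (R ⊓ centralizer (X₂ : Set G)) := by
  have hcard : q < Nat.card E := by
    rw [hc.card]
    calc q = q ^ 1 := (pow_one q).symm
      _ < q ^ 2 := Nat.pow_lt_pow_right hq.out.one_lt (by norm_num)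
  have h1 := le_genC_of_isElementaryAbelian hc.ea h.norm (h.not_dvd hpq) hcard
  refine h1.trans (iSup_le ?_)
  rintro ⟨a, haE, ha1⟩
  by_cases hbot : R ⊓ centralizer ({a} : Set G) = ⊥
  · simp only [hbot, bot_le]
  · have hcardX : Nat.card (zpowers a) = q := by
      rw [Nat.card_zpowers]
      rcases (Nat.dvd_prime hq.out).mp (orderOf_dvd_of_pow_eq_one (hc.ea.2 a haE)) with h2 | h2
      · exact absurd (orderOf_eq_one_iff.mp h2) ha1
      · exact h2
    have := h.only (zpowers a) (zpowers_le.mpr haE) hcardX (by rw [centralizer_zpowers]; exact hbot)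
    rcases this with h3 | h3
    · rw [← h3, centralizer_zpowers]; exact le_sup_left
    · rw [← h3, centralizer_zpowers]; exact le_sup_right

/-- F2: `C_R(X₁) ∩ C_R(X₂) = 1`. -/
theorem inf_eq_bot (hc : Ctx q E X₁ X₂) {R : Subgroup G} (h : Hyp p q E X₁ X₂ R) :
    (R ⊓ centralizer (X₁ : Set G)) ⊓ (R ⊓ centralizer (X₂ : Set G)) = ⊥ := by
  obtain ⟨x₁, hx₁, hx₁1⟩ := exists_ne_one_of_card_prime hc.card₁
  obtain ⟨x₂, hx₂, hx₂1⟩ := exists_ne_one_of_card_prime hc.card₂
  have hX₁ := eq_zpowers_of_card_prime hc.card₁ hx₁ hx₁1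
  have hX₂ := eq_zpowers_of_card_prime hc.card₂ hx₂ hx₂1
  have hx₂X₁ : x₂ ∉ X₁ := by
    intro hmem
    apply hc.ne
    symm
    apply Subgroup.eq_of_le_of_card_ge
    · rw [hX₂]; exact zpowers_le.mpr hmem
    · rw [hc.card₁, hc.card₂]
  have hx₁X₂ : x₁ ∉ X₂ := by
    intro hmem
    apply hc.ne
    apply Subgroup.eq_of_le_of_card_ge
    · rw [hX₁]; exact zpowers_le.mpr hmem
    · rw [hc.card₁, hc.card₂]
  have hx3E : x₁ * x₂ ∈ E := mul_mem (hc.le₁ hx₁) (hc.le₂ hx₂)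
  have hx31 : x₁ * x₂ ≠ 1 := by
    intro h1
    apply hx₂X₁
    have : x₂ = x₁⁻¹ := eq_inv_of_mul_eq_one_right h1
    rw [this]; exact inv_mem hx₁
  have hcardX : Nat.card (zpowers (x₁ * x₂)) = q := by
    rw [Nat.card_zpowers]
    rcases (Nat.dvd_prime hq.out).mp (orderOf_dvd_of_pow_eq_one (hc.ea.2 _ hx3E)) with h2 | h2
    · exact absurd (orderOf_eq_one_iff.mp h2) hx31
    · exact h2
  have hne₁ : zpowers (x₁ * x₂) ≠ X₁ := by
    intro heq
    apply hx₂X₁
    have h1 : x₁ * x₂ ∈ X₁ := by rw [← heq]; exact mem_zpowers _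
    have h2 : x₂ = x₁⁻¹ * (x₁ * x₂) := by group
    rw [h2]; exact mul_mem (inv_mem hx₁) h1
  have hne₂ : zpowers (x₁ * x₂) ≠ X₂ := by
    intro heq
    apply hx₁X₂
    have h1 : x₁ * x₂ ∈ X₂ := by rw [← heq]; exact mem_zpowers _
    have h2 : x₁ = (x₁ * x₂) * x₂⁻¹ := by group
    rw [h2]; exact mul_mem h1 (inv_mem hx₂)
  have h3 : R ⊓ centralizer ((zpowers (x₁ * x₂) : Subgroup G) : Set G) = ⊥ := by
    by_contra hne
    rcases h.only _ (zpowers_le.mpr hx3E) hcardX hne with h4 | h4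
    · exact hne₁ h4
    · exact hne₂ h4
  rw [eq_bot_iff, ← h3, centralizer_zpowers]
  intro x hx
  obtain ⟨⟨hxR, hx1⟩, ⟨-, hx2⟩⟩ := hx
  refine mem_inf.mpr ⟨hxR, ?_⟩
  rw [mem_centralizer_singleton_iff]
  have h5 : Commute x x₁ := ((mem_centralizer_iff.mp hx1) x₁ hx₁).symm
  have h6 : Commute x x₂ := ((mem_centralizer_iff.mp hx2) x₂ hx₂).symm
  exact (h5.mul_right h6).eq

/-- F3: `C_R(X₂) = [C_R(X₂), X₁]`. -/
theorem eq_commutator (hpq : p ≠ q) (hc : Ctx q E X₁ X₂) {R : Subgroup G} (h : Hyp p q E X₁ X₂ R) :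
    ⁅R ⊓ centralizer (X₂ : Set G), X₁⁆ = R ⊓ centralizer (X₂ : Set G) := by
  have hact : CoprimeAct X₁ (R ⊓ centralizer (X₂ : Set G)) := by
    apply coprimeAct_of_exponent (p := q) (fun x hx y hy => hc.comm x (hc.le₁ hx) y (hc.le₁ hy))
      (fun x hx => hc.ea.2 x (hc.le₁ hx)) (hc.le₁.trans (hc.norm_inf h.norm hc.le₂))
    intro hd
    exact h.not_dvd hpq (hd.trans (Subgroup.card_dvd_of_le inf_le_left))
  have h1 := hact.commutator_sup_centralizer
  have h2 : R ⊓ centralizer (X₂ : Set G) ⊓ centralizer (X₁ : Set G) = ⊥ := by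
    rw [eq_bot_iff, ← inf_eq_bot hc h]
    intro x hx
    exact mem_inf.mpr ⟨mem_inf.mpr ⟨(mem_inf.mp (mem_inf.mp hx).1).1, (mem_inf.mp hx).2⟩,
      (mem_inf.mp hx).1⟩
  rw [h2, sup_bot_eq] at h1
  exact h1

end Setting

section Induction

variable {G : Type*} [Group G] [Finite G]
variable {p q : ℕ} [hp : Fact p.Prime] [hq : Fact q.Prime] {E X₁ X₂ : Subgroup G}

omit [Finite G] in
theorem comm_of_commutator_eq_bot {A B : Subgroup G} (h : ⁅A, B⁆ = ⊥) :
    ∀ a ∈ A, ∀ b ∈ B, a * b = b * a := by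
  intro a ha b hb
  have h1 := (commutator_eq_bot_iff_le_centralizer.mp h) ha
  exact ((mem_centralizer_iff.mp h1) b hb).symm

theorem step (hpq : p ≠ q) (hc : Ctx q E X₁ X₂) {R : Subgroup G} (h : Hyp p q E X₁ X₂ R)
    (hK : ⁅R, X₁⁆ < R)
    (IH : ∀ R' : Subgroup G, Nat.card R' < Nat.card R → Hyp p q E X₁ X₂ R' →
      ⁅R' ⊓ centralizer (X₁ : Set G), R' ⊓ centralizer (X₂ : Set G)⁆ = ⊥) :
    ⁅R ⊓ centralizer (X₁ : Set G), R ⊓ centralizer (X₂ : Set G)⁆ = ⊥ := by
  have hEcent : ∀ {X : Subgroup G}, X ≤ E → E ≤ centralizer (X : Set G) := by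
    intro X hX g hg
    rw [mem_centralizer_iff]
    intro x hx
    exact hc.comm x (hX hx) g hg
  have hKR : ⁅R, X₁⁆ ≤ R := commutator_le_of_le_normalizer (hc.le₁.trans h.norm)
  have hRK : R ≤ normalizer ((⁅R, X₁⁆ : Subgroup G) : Set G) := le_normalizer_commutator_left
  have hEK : E ≤ normalizer ((⁅R, X₁⁆ : Subgroup G) : Set G) := by
    intro g hg
    rw [mem_normalizer_iff_map_conj_eq, map_commutator,
      mem_normalizer_iff_map_conj_eq.mp (h.norm hg),
      mem_normalizer_iff_map_conj_eq.mp (centralizer_le_normalizer _ (hEcent hc.le₁ hg))]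
  have hypK : Hyp p q E X₁ X₂ ⁅R, X₁⁆ := h.mono hKR hEK
  have IHK := IH _ (card_lt_of_lt hK) hypK
  have hR₂comm := eq_commutator hpq hc h
  have hR₂K : R ⊓ centralizer (X₂ : Set G) ≤ ⁅R, X₁⁆ := by
    rw [← hR₂comm]
    exact commutator_mono inf_le_left le_rfl
  have hK₂ : ⁅R, X₁⁆ ⊓ centralizer (X₂ : Set G) = R ⊓ centralizer (X₂ : Set G) :=
    le_antisymm (inf_le_inf_right _ hKR) (le_inf hR₂K inf_le_right)
  have hKsup := le_sup hpq hc hypK
  rw [hK₂] at hKsup IHK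
  have hcomm12 := comm_of_commutator_eq_bot IHK
  -- Claim A/B: `[K, X₁] = R₂`
  have hKX : ⁅⁅R, X₁⁆, X₁⁆ = R ⊓ centralizer (X₂ : Set G) := by
    apply le_antisymm
    · rw [commutator_le]
      intro k hk x hx
      obtain ⟨k₁, hk₁, k₂, hk₂, rfl⟩ := (Cfsg.Agent.Lib.Helper10.mem_sup_of_commute _ _ hcomm12).mp
        (hKsup hk)
      have hc2 : ⁅k₂, x⁆ ∈ R ⊓ centralizer (X₂ : Set G) := by
        rw [← hR₂comm]
        exact commutator_mem_commutator hk₂ hx
      have hxk₁ : x * k₁ = k₁ * x := by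
        have := (mem_centralizer_iff.mp (mem_inf.mp hk₁).2) x hx
        exact this
      have h1 : ⁅k₁ * k₂, x⁆ = k₁ * ⁅k₂, x⁆ * (x * k₁⁻¹ * x⁻¹) := by
        simp only [commutatorElement_def]; group
      have h2 : x * k₁⁻¹ * x⁻¹ = k₁⁻¹ := by
        have : x * k₁⁻¹ = k₁⁻¹ * x := by
          have h3 : Commute x k₁ := hxk₁
          exact h3.inv_right.eq
        rw [this]; group
      have h4 : k₁ * ⁅k₂, x⁆ = ⁅k₂, x⁆ * k₁ := hcomm12 k₁ hk₁ _ hc2
      rw [h1, h2, h4, mul_assoc, mul_inv_cancel, mul_one]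
      exact hc2
    · conv_lhs => rw [← hR₂comm]
      exact commutator_mono hR₂K le_rfl
  -- Claim C: `R₁` normalizes `R₂`
  have hR₁N : R ⊓ centralizer (X₁ : Set G) ≤
      normalizer ((R ⊓ centralizer (X₂ : Set G) : Subgroup G) : Set G) := by
    intro r hr
    rw [← hKX, mem_normalizer_iff_map_conj_eq, map_commutator,
      mem_normalizer_iff_map_conj_eq.mp (hRK (mem_inf.mp hr).1),
      mem_normalizer_iff_map_conj_eq.mp (centralizer_le_normalizer _ (mem_inf.mp hr).2)]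
  -- Claim D: `R` normalizes `R₂`
  have hRN : R ≤ normalizer ((R ⊓ centralizer (X₂ : Set G) : Subgroup G) : Set G) :=
    (le_sup hpq hc h).trans (sup_le hR₁N le_normalizer)
  -- Claim E: three subgroups lemma
  have hR₂X₂ : ⁅R ⊓ centralizer (X₂ : Set G), X₂⁆ = ⊥ :=
    commutator_eq_bot_iff_le_centralizer.mpr inf_le_right
  have hE : ⁅⁅R, X₂⁆, R ⊓ centralizer (X₂ : Set G)⁆ = ⊥ := by
    apply commutator_commutator_eq_bot_of_rotate
    · rw [commutator_comm X₂, hR₂X₂, commutator_bot_left]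
    · rw [eq_bot_iff, ← hR₂X₂]
      exact commutator_mono (commutator_le_of_le_normalizer hRN) le_rfl
  -- Claim F and conclusion
  have hF := eq_commutator hpq hc.swap h.swap
  rw [eq_bot_iff, ← hE]
  conv_lhs => rw [← hF]
  exact commutator_mono (commutator_mono inf_le_left le_rfl) le_rfl

theorem main_aux (hpq : p ≠ q) :
    ∀ (n : ℕ) (X₁ X₂ R : Subgroup G), Ctx q E X₁ X₂ → Nat.card R = n → Hyp p q E X₁ X₂ R →
      ⁅R ⊓ centralizer (X₁ : Set G), R ⊓ centralizer (X₂ : Set G)⁆ = ⊥ := by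
  intro n
  induction n using Nat.strong_induction_on with
  | _ n ih =>
  intro X₁ X₂ R hc hn h
  have hKR₁ : ⁅R, X₁⁆ ≤ R := commutator_le_of_le_normalizer (hc.le₁.trans h.norm)
  have hKR₂ : ⁅R, X₂⁆ ≤ R := commutator_le_of_le_normalizer (hc.le₂.trans h.norm)
  by_cases h1 : ⁅R, X₁⁆ = R
  swap
  · exact step hpq hc h (lt_of_le_of_ne hKR₁ h1)
      (fun R' hR' hyp' => ih _ (hn ▸ hR') X₁ X₂ R' hc rfl hyp')
  by_cases h2 : ⁅R, X₂⁆ = R
  swap
  · rw [commutator_comm]
    exact step hpq hc.swap h.swap (lt_of_le_of_ne hKR₂ h2)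
      (fun R' hR' hyp' => ih _ (hn ▸ hR') X₂ X₁ R' hc.swap rfl hyp')
  -- both commutators are everything: then `R = ⊥`
  have hR : R = ⊥ := by
    by_contra hbot
    have hcard : q < Nat.card E := by
      rw [hc.card]
      calc q = q ^ 1 := (pow_one q).symm
        _ < q ^ 2 := Nat.pow_lt_pow_right hq.out.one_lt (by norm_num)
    obtain ⟨a, ha, b, hb, hab, hb1⟩ := exists_noncyclic_pair hc.ea.2 hq.out.pos hcard
    obtain ⟨M, hRM, hMR, hEM, c, hcE, hc1, hsup⟩ :=
      exists_invariant_sup_centralizer (p := q) (q := p) hpq.symm hc.comm hc.ea.2 ha hb hab hb1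
        h.pgroup h.norm hbot
    have hcbot : R ⊓ centralizer ({c} : Set G) ≠ ⊥ := by
      intro hb'
      rw [hb', bot_sup_eq] at hsup
      exact hMR.ne hsup
    have hcardX : Nat.card (zpowers c) = q := by
      rw [Nat.card_zpowers]
      rcases (Nat.dvd_prime hq.out).mp (orderOf_dvd_of_pow_eq_one (hc.ea.2 c hcE)) with h3 | h3
      · exact absurd (orderOf_eq_one_iff.mp h3) hc1
      · exact h3
    have hRnM : R ≤ normalizer (M : Set G) := by
      apply le_normalizer_of_forall_conj_mem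
      intro x hx m hm
      have : x * m * x⁻¹ = ⁅x, m⁆ * m := by rw [commutatorElement_def]; group
      rw [this]
      exact mul_mem (hRM (commutator_mem_commutator hx (hMR.le hm))) hm
    have hcomm_le : ⁅R, zpowers c⁆ ≤ M := by
      rw [commutator_le]
      intro r hr x hx
      have hr' : r ∈ ((R ⊓ centralizer ({c} : Set G)) ⊔ M : Subgroup G) := by rw [hsup]; exact hr
      rw [← SetLike.mem_coe, coe_mul_of_left_le_normalizer_right _ _ (inf_le_left.trans hRnM)] at hr'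
      obtain ⟨u, hu, m, hm, rfl⟩ := hr'
      have hxu : x * u = u * x := by
        have h3 : u ∈ centralizer ((zpowers c : Subgroup G) : Set G) := by
          rw [centralizer_zpowers]; exact (mem_inf.mp hu).2
        exact (mem_centralizer_iff.mp h3) x hx
      have hxE : x ∈ E := (zpowers_le.mpr hcE) hx
      have hmx : ⁅m, x⁆ ∈ M := by
        have h3 : ⁅m, x⁆ = m * (x * m⁻¹ * x⁻¹) := by rw [commutatorElement_def]; group
        rw [h3]
        exact mul_mem hm ((mem_normalizer_iff.mp (hEM hxE) _).mp (inv_mem hm))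
      have h4 : ⁅u * m, x⁆ = u * ⁅m, x⁆ * (x * u⁻¹ * x⁻¹) := by
        simp only [commutatorElement_def]; group
      have h5 : x * u⁻¹ * x⁻¹ = u⁻¹ := by
        have : x * u⁻¹ = u⁻¹ * x := by
          have h6 : Commute x u := hxu
          exact h6.inv_right.eq
        rw [this]; group
      rw [h4, h5]
      exact (mem_normalizer_iff.mp (hRnM (mem_inf.mp hu).1) _).mp hmx
    rcases h.only (zpowers c) (zpowers_le.mpr hcE) hcardX
      (by rw [centralizer_zpowers]; exact hcbot) with h3 | h3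
    · rw [h3, h1] at hcomm_le
      exact absurd hcomm_le (not_le_of_gt hMR)
    · rw [h3, h2] at hcomm_le
      exact absurd hcomm_le (not_le_of_gt hMR)
  rw [hR, eq_bot_iff]
  exact (commutator_mono inf_le_left inf_le_left).trans (by rw [commutator_bot_left])

end Induction

/-- Let S = PQ be a finite group with P a normal Sylow p-subgroup and Q elementary abelian of order q², q a prime different from p. If exactly two subgroups X₁, X₂ of order q in Q have a nontrivial centralizer in P, then P is the internal direct product of C_P(X₁) and C_P(X₂): they commute elementwise, meet trivially and generate P. -/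
theorem result {S : Type*} [Group S] [Finite S] {p q : ℕ} [Fact p.Prime] [Fact q.Prime] (hpq : p ≠ q)
    (P : Sylow p S) [(P : Subgroup S).Normal] (Q : Subgroup S) (hQ : Cfsg.IsElementaryAbelian q Q) (hQc : Nat.card Q = q ^ 2)
    (hS : (P : Subgroup S) ⊔ Q = ⊤)
    (X₁ X₂ : Subgroup S) (h₁ : X₁ ≤ Q) (h₂ : X₂ ≤ Q) (h₁₂ : X₁ ≠ X₂) (hc₁ : Nat.card X₁ = q) (hc₂ : Nat.card X₂ = q)
    (hf₁ : (P : Subgroup S) ⊓ Subgroup.centralizer (X₁ : Set S) ≠ ⊥)
    (hf₂ : (P : Subgroup S) ⊓ Subgroup.centralizer (X₂ : Set S) ≠ ⊥)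
    (honly : ∀ X : Subgroup S, X ≤ Q → Nat.card X = q →
      (P : Subgroup S) ⊓ Subgroup.centralizer (X : Set S) ≠ ⊥ → X = X₁ ∨ X = X₂) :
    ⁅(P : Subgroup S) ⊓ Subgroup.centralizer (X₁ : Set S), (P : Subgroup S) ⊓ Subgroup.centralizer (X₂ : Set S)⁆ = ⊥ ∧
      ((P : Subgroup S) ⊓ Subgroup.centralizer (X₁ : Set S)) ⊓ ((P : Subgroup S) ⊓ Subgroup.centralizer (X₂ : Set S)) = ⊥ ∧
      ((P : Subgroup S) ⊓ Subgroup.centralizer (X₁ : Set S)) ⊔ ((P : Subgroup S) ⊓ Subgroup.centralizer (X₂ : Set S)) = P := by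
  have hc : Ctx q Q X₁ X₂ := ⟨hQ, hQc, h₁, h₂, h₁₂, hc₁, hc₂⟩
  have hyp : Hyp p q Q X₁ X₂ (P : Subgroup S) := by
    refine ⟨P.2, ?_, honly⟩
    rw [normalizer_eq_top]
    exact le_top
  refine ⟨main_aux hpq _ X₁ X₂ _ hc rfl hyp, inf_eq_bot hc hyp, ?_⟩
  exact le_antisymm (sup_le inf_le_left inf_le_left) (le_sup hpq hc hyp)

end Cfsg.Agent.S1900
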