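import Cfsg.Statements.S1901
import Cfsg.Agent.H5.PSolvable
import Cfsg.Agent.Lib.Helper1.Basic
import Cfsg.Agent.Lib.Helper1.Cores
import Cfsg.Agent.Lib.Helper13.Sylow

set_option autoImplicit false
open Cfsg

namespace Cfsg.Agent.S1901

open Subgroup
open scoped commutatorElement

section Aux

universe u

/-- If `r q r⁻¹ = c q` where `c` commutes with `r`, `r` is a `p`-element and `c` a `p'`-element,
then `c = 1`. -/
theorem eq_one_of_comm {G : Type*} [Group G] {p : ℕ} {r q c : G} {j : ℕ}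
    (hrq : r * q * r⁻¹ = c * q) (hrc : r * c = c * r) (hr : r ^ (p ^ j) = 1)
    (hc : (orderOf c).Coprime p) : c = 1 := by
  have hpow : ∀ k : ℕ, r ^ k * q * (r ^ k)⁻¹ = c ^ k * q := by
    intro k
    induction k with
    | zero => simp
    | succ k ih =>
      have hrck : r * c ^ k * r⁻¹ = c ^ k := by
        have : Commute r (c ^ k) := (show Commute r c from hrc).pow_right k
        rw [this.eq, mul_inv_cancel_right]
      calc r ^ (k + 1) * q * (r ^ (k + 1))⁻¹ = r * (r ^ k * q * (r ^ k)⁻¹) * r⁻¹ := by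
            rw [pow_succ']; group
        _ = r * (c ^ k * q) * r⁻¹ := by rw [ih]
        _ = (r * c ^ k * r⁻¹) * (r * q * r⁻¹) := by group
        _ = c ^ k * (c * q) := by rw [hrck, hrq]
        _ = c ^ (k + 1) * q := by rw [pow_succ]; group
  have h1 : c ^ (p ^ j) = 1 := by
    have := hpow (p ^ j)
    rw [hr, inv_one, mul_one, one_mul] at this
    have h2 : c ^ (p ^ j) * q = 1 * q := by rw [one_mul]; exact this.symm
    exact mul_right_cancel h2
  have h2 : orderOf c ∣ p ^ j := orderOf_dvd_of_pow_eq_one h1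
  have h3 : orderOf c = 1 := Nat.Coprime.eq_one_of_dvd (Nat.Coprime.pow_right j hc) h2
  exact orderOf_eq_one_iff.mp h3

theorem aux (p : ℕ) [hp : Fact p.Prime] : ∀ n : ℕ, ∀ (G : Type u) [Group G] [Finite G],
    Nat.card G = n → IsPSolvable p G → ∀ Q : Subgroup G, (Nat.card Q).Coprime p →
    ∀ P : Sylow p G, Q ≤ normalizer ((P : Subgroup G) : Set G) →
    ∀ R : Subgroup G, IsPGroup p R → R ≤ normalizer (Q : Set G) →
    ∀ r ∈ R, ∀ q ∈ Q, r * q = q * r := by
  intro n
  induction n using Nat.strong_induction_on with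
  | _ n IH =>
  intro G _ _ hn hsol Q hQ P hQP R hR hRQ
  -- the quotient step
  have hquot : ∀ M : Subgroup G, M.Normal → M ≠ ⊥ → ∀ r ∈ R, ∀ q ∈ Q, ⁅r, q⁆ ∈ M := by
    intro M hMn hM r hr q hq
    haveI := hMn
    have hπ : Function.Surjective (QuotientGroup.mk' M) := QuotientGroup.mk'_surjective M
    have hlt : Nat.card (G ⧸ M) < n := by
      rw [← hn]; exact Cfsg.Agent.Lib.Helper1.card_quotient_lt_of_ne_bot hM
    have hsol' : IsPSolvable p (G ⧸ M) := Cfsg.H5.isPSolvable_quotient M hsol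
    have hQ' : (Nat.card (Q.map (QuotientGroup.mk' M))).Coprime p :=
      Nat.Coprime.coprime_dvd_left (Subgroup.card_map_dvd Q _) hQ
    have hQP' : Q.map (QuotientGroup.mk' M) ≤
        normalizer (((P.mapSurjective hπ : Sylow p (G ⧸ M)) : Subgroup (G ⧸ M)) : Set (G ⧸ M)) := by
      rw [Sylow.coe_mapSurjective]
      exact (Subgroup.map_mono hQP).trans (le_normalizer_map _)
    have hRQ' : R.map (QuotientGroup.mk' M) ≤
        normalizer ((Q.map (QuotientGroup.mk' M) : Subgroup (G ⧸ M)) : Set (G ⧸ M)) :=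
      (Subgroup.map_mono hRQ).trans (le_normalizer_map _)
    have h1 := IH _ hlt (G ⧸ M) rfl hsol' _ hQ' (P.mapSurjective hπ) hQP' _ (hR.map _) hRQ'
      _ (mem_map_of_mem _ hr) _ (mem_map_of_mem _ hq)
    rw [← QuotientGroup.ker_mk' M, MonoidHom.mem_ker, map_commutatorElement]
    exact commutatorElement_eq_one_iff_mul_comm.mpr h1
  have hcQ : ∀ r ∈ R, ∀ q ∈ Q, ⁅r, q⁆ ∈ Q := by
    intro r hr q hq
    rw [commutatorElement_def]
    exact mul_mem ((mem_normalizer_iff.mp (hRQ hr) q).mp hq) (inv_mem hq)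
  have hKn : (pPrimeCore p G).Normal := Cfsg.pPrimeCore_normal p G
  have hKc : (Nat.card (pPrimeCore p G)).Coprime p := Cfsg.Agent.Lib.Helper1.pPrimeCore_coprime p
  intro r hr q hq
  by_cases hK : pPrimeCore p G = ⊥
  · -- `O_{p'}(G) = 1`
    by_cases hG : (⊤ : Subgroup G) = ⊥
    · have h1 : r ∈ (⊤ : Subgroup G) := mem_top r
      rw [hG, mem_bot] at h1
      rw [h1, one_mul, mul_one]
    have hU : pCore p G ≠ ⊥ := by
      obtain ⟨L, -, hLn, hL1, hL⟩ := Cfsg.H5.exists_normal_p_or_pPrime_le hsol ⊤ inferInstance hG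
      rcases hL with hLp | hLc
      · intro h0
        apply hL1
        rw [eq_bot_iff, ← h0]
        exact Cfsg.Agent.Lib.Helper1.le_pCore hLn hLp
      · exfalso
        apply hL1
        rw [eq_bot_iff, ← hK]
        exact Cfsg.Agent.Lib.Helper1.le_pPrimeCore hLn hLc
    have h1 := hquot (pCore p G) (Cfsg.pCore_normal p G) hU r hr q hq
    have h2 : ⁅r, q⁆ ∈ pCore p G ⊓ Q := mem_inf.mpr ⟨h1, hcQ r hr q hq⟩
    have h3 : pCore p G ⊓ Q = ⊥ := by
      apply Subgroup.inf_eq_bot_of_coprime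
      obtain ⟨k, hk⟩ := IsPGroup.iff_card.mp (Cfsg.Agent.Lib.Helper1.pCore_isPGroup (G := G) p)
      rw [hk]
      exact Nat.Coprime.pow_left k hQ.symm
    rw [h3, mem_bot] at h2
    exact commutatorElement_eq_one_iff_mul_comm.mp h2
  · -- `O_{p'}(G) ≠ 1`
    haveI := hKn
    obtain ⟨Q₁, hQ₁⟩ : ∃ Q₁ : Subgroup G, Q₁ = Q ⊓ pPrimeCore p G := ⟨_, rfl⟩
    have hPK : (P : Subgroup G) ⊓ pPrimeCore p G = ⊥ := by
      apply Subgroup.inf_eq_bot_of_coprime
      obtain ⟨k, hk⟩ := IsPGroup.iff_card.mp P.2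
      rw [hk]
      exact Nat.Coprime.pow_left k hKc.symm
    have hPC : (P : Subgroup G) ≤ centralizer (Q₁ : Set G) := by
      intro x hx
      rw [mem_centralizer_iff]
      intro q₁ hq₁
      rw [hQ₁] at hq₁
      obtain ⟨hq₁Q, hq₁K⟩ := mem_inf.mp hq₁
      have h1 : ⁅q₁, x⁆ ∈ (P : Subgroup G) ⊓ pPrimeCore p G := by
        refine mem_inf.mpr ⟨?_, ?_⟩
        · rw [commutatorElement_def]
          exact mul_mem ((mem_normalizer_iff.mp (hQP hq₁Q) x).mp hx) (inv_mem hx)
        · have : ⁅q₁, x⁆ = q₁ * (x * q₁⁻¹ * x⁻¹) := by rw [commutatorElement_def]; group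
          rw [this]
          exact mul_mem hq₁K (hKn.conj_mem _ (inv_mem hq₁K) x)
      rw [hPK, mem_bot] at h1
      exact commutatorElement_eq_one_iff_mul_comm.mp h1
    have hRN₁ : R ≤ normalizer (Q₁ : Set G) := by
      rw [hQ₁]
      refine le_trans (le_inf hRQ ?_) inf_normalizer_le_normalizer_inf
      rw [normalizer_eq_top]
      exact le_top
    have hidx : ¬ p ∣ (P : Subgroup G).relIndex (normalizer (Q₁ : Set G)) := by
      intro h
      exact P.not_dvd_index (h.trans (Subgroup.relIndex_dvd_index_of_le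
        (hPC.trans (centralizer_le_normalizer _))))
    obtain ⟨g, hg, hgR⟩ := Cfsg.Agent.Lib.Helper13.exists_conj_le_of_relIndex
      (normalizer (Q₁ : Set G)) (P : Subgroup G) R P.2 hidx hRN₁ hR
    have hRC : ∀ r ∈ R, ∀ q₁ ∈ Q₁, r * q₁ = q₁ * r := by
      intro r hr q₁ hq₁
      have h1 : g * q₁ * g⁻¹ ∈ Q₁ := (mem_normalizer_iff.mp hg q₁).mp hq₁
      have h2 := mem_centralizer_iff.mp (hPC (hgR r hr)) _ h1
      -- (g q₁ g⁻¹)(g r g⁻¹) = (g r g⁻¹)(g q₁ g⁻¹)
      have h3 : g * (q₁ * r) * g⁻¹ = g * (r * q₁) * g⁻¹ := by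
        calc g * (q₁ * r) * g⁻¹ = (g * q₁ * g⁻¹) * (g * r * g⁻¹) := by group
          _ = (g * r * g⁻¹) * (g * q₁ * g⁻¹) := h2
          _ = g * (r * q₁) * g⁻¹ := by group
      exact (mul_left_cancel (mul_right_cancel h3)).symm
    have hc1 : ⁅r, q⁆ ∈ Q₁ := by
      rw [hQ₁]
      exact mem_inf.mpr ⟨hcQ r hr q hq, hquot _ hKn hK r hr q hq⟩
    obtain ⟨j, hj⟩ := hR ⟨r, hr⟩
    have hj' : r ^ (p ^ j) = 1 := by
      have := congrArg Subtype.val hj
      simpa using this
    have hco : (orderOf ⁅r, q⁆).Coprime p :=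
      Nat.Coprime.coprime_dvd_left (Subgroup.orderOf_dvd_natCard Q (hcQ r hr q hq)) hQ
    have h1 := eq_one_of_comm (p := p) (r := r) (q := q) (c := ⁅r, q⁆) (j := j)
      (by rw [commutatorElement_def]; group) (hRC r hr _ hc1) hj' hco
    exact commutatorElement_eq_one_iff_mul_comm.mp h1

end Aux

theorem result {G : Type*} [Group G] [Finite G] {p : ℕ} [Fact p.Prime]
    (hG : Cfsg.IsPSolvable p G) (Q : Subgroup G) (hQ : ¬ p ∣ Nat.card Q)
    (hA : p ∣ (Subgroup.centralizer (Q : Set G)).relIndex (Subgroup.normalizer (Q : Set G)))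
    (P : Sylow p G) : ¬ Q ≤ Subgroup.normalizer ((P : Subgroup G) : Set G) := by
  intro hQP
  have hp : p.Prime := Fact.out
  have hQc : (Nat.card Q).Coprime p := ((Nat.Prime.coprime_iff_not_dvd hp).mpr hQ).symm
  obtain ⟨S⟩ := (inferInstance : Nonempty (Sylow p ↥(Subgroup.normalizer (Q : Set G))))
  have hR : IsPGroup p ↥((S : Subgroup ↥(Subgroup.normalizer (Q : Set G))).map
      (Subgroup.normalizer (Q : Set G)).subtype) := S.2.map _
  have hRN : (S : Subgroup ↥(Subgroup.normalizer (Q : Set G))).map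
      (Subgroup.normalizer (Q : Set G)).subtype ≤ Subgroup.normalizer (Q : Set G) :=
    Subgroup.map_subtype_le _
  have hRC : (S : Subgroup ↥(Subgroup.normalizer (Q : Set G))).map
      (Subgroup.normalizer (Q : Set G)).subtype ≤ Subgroup.centralizer (Q : Set G) := by
    intro r hr
    rw [Subgroup.mem_centralizer_iff]
    intro q hq
    exact (aux p _ G rfl hG Q hQc P hQP _ hR hRN r hr q hq).symm
  have h1 := Subgroup.relIndex_dvd_of_le_left (Subgroup.normalizer (Q : Set G)) hRC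
  have h2 : ((S : Subgroup ↥(Subgroup.normalizer (Q : Set G))).map
      (Subgroup.normalizer (Q : Set G)).subtype).relIndex (Subgroup.normalizer (Q : Set G)) =
      (S : Subgroup ↥(Subgroup.normalizer (Q : Set G))).index := by
    rw [Subgroup.relIndex, Subgroup.subgroupOf,
      Subgroup.comap_map_eq_self_of_injective (Subgroup.subtype_injective _)]
  rw [h2] at h1
  exact S.not_dvd_index (hA.trans h1)

end Cfsg.Agent.S1901
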