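import Cfsg.Statements.S3736
import Mathlib
import Cfsg.Agent.Lib.Helper20.Baer
import Cfsg.Agent.Lib.Helper1.Frattini
import Cfsg.Agent.Lib.Helper9.Layer2

set_option autoImplicit false
open Cfsg

namespace Cfsg.Agent.S3736

open Cfsg.Agent.Lib.Helper20 Cfsg.Agent.Lib.Helper1
open scoped commutatorElement Pointwise
open Subgroup

section pgroup

variable {K : Type*} [Group K] [Finite K]

/-- in a finite nilpotent group the derived subgroup lies in the Frattini subgroup -/
lemma commutator_le_frattini [Group.IsNilpotent K] : commutator K ≤ frattini K := by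
  unfold frattini Order.radical
  apply le_iInf₂
  intro M hM
  haveI : M.Normal := (Group.normalizerCondition_of_isNilpotent).normal_of_coatom M hM
  -- pick `x ∉ M`
  obtain ⟨x, hx⟩ : ∃ x, x ∉ M := by
    by_contra h
    apply hM.1
    rw [eq_top_iff]
    intro x _
    by_contra hx
    exact h ⟨x, hx⟩
  have hsup : M ⊔ Subgroup.zpowers x = ⊤ := by
    apply hM.2
    refine lt_of_le_of_ne le_sup_left ?_
    intro h
    apply hx
    rw [h]
    exact (le_sup_right : Subgroup.zpowers x ≤ M ⊔ Subgroup.zpowers x) (Subgroup.mem_zpowers x)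
  exact Subgroup.Normal.commutator_le_of_self_sup_commutative_eq_top hsup inferInstance

lemma frattini_ne_top [Nontrivial K] : frattini K ≠ ⊤ := by
  obtain h | ⟨M, hM, -⟩ := eq_top_or_exists_le_coatom (⊥ : Subgroup K)
  · exact absurd h bot_ne_top
  · intro h
    have := frattini_le_coatom hM
    rw [h, top_le_iff] at this
    exact hM.1 this

/-- `p`-th powers lie in every maximal subgroup of a finite `p`-group -/
lemma pow_mem_of_isCoatom {p : ℕ} [hp : Fact p.Prime] (hK : IsPGroup p K) {M : Subgroup K}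
    (hM : IsCoatom M) (x : K) : x ^ p ∈ M := by
  haveI : Group.IsNilpotent K := hK.isNilpotent
  haveI : M.Normal := (Group.normalizerCondition_of_isNilpotent).normal_of_coatom M hM
  obtain ⟨m, hm⟩ := IsPGroup.iff_card.mp hK
  obtain ⟨n, hn⟩ := IsPGroup.iff_card.mp (hK.to_subgroup M)
  have hlt : n < m := by
    have h1 : Nat.card M < Nat.card K := by
      refine lt_of_le_of_ne (Subgroup.card_le_card_group M) ?_
      intro h
      exact hM.1 (Subgroup.card_eq_iff_eq_top M |>.mp h)
    rw [hm, hn] at h1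
    exact (Nat.pow_lt_pow_iff_right hp.out.one_lt).mp h1
  have hdvd : p ^ (n + 1) ∣ Nat.card K := by
    rw [hm]; exact pow_dvd_pow p hlt
  obtain ⟨L, hL, hML⟩ := Sylow.exists_subgroup_card_pow_succ hdvd hn
  have hLtop : L = ⊤ := by
    apply hM.2
    refine lt_of_le_of_ne hML ?_
    intro h
    rw [← h, hn] at hL
    have : n = n + 1 := Nat.pow_right_injective hp.out.two_le hL
    omega
  have hidx : M.index = p := by
    have h1 := Subgroup.card_mul_index M
    rw [hn] at h1
    have h2 : Nat.card K = p ^ (n + 1) := by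
      rw [← hL, hLtop]; exact (Subgroup.card_top).symm
    rw [h2, pow_succ] at h1
    exact Nat.eq_of_mul_eq_mul_left (pow_pos hp.out.pos n) h1
  have h3 : ((x : K) : K ⧸ M) ^ p = 1 := by
    have : Nat.card (K ⧸ M) = p := hidx
    rw [← this]
    exact pow_card_eq_one'
  rw [← QuotientGroup.mk_pow] at h3
  exact (QuotientGroup.eq_one_iff _).mp h3

lemma pow_mem_frattini {p : ℕ} [hp : Fact p.Prime] (hK : IsPGroup p K) (x : K) :
    x ^ p ∈ frattini K := by
  unfold frattini Order.radical
  rw [Subgroup.mem_iInf]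
  intro M
  rw [Subgroup.mem_iInf]
  intro hM
  exact pow_mem_of_isCoatom hK hM x

end pgroup

section classtwo

variable {K : Type*} [Group K]

lemma comm_pow_left (hc : ∀ x y z : K, ⁅x, y⁆ * z = z * ⁅x, y⁆) (y x : K) (n : ℕ) :
    ⁅y ^ n, x⁆ = ⁅y, x⁆ ^ n := by
  induction n with
  | zero => simp
  | succ n ih => rw [pow_succ, comm_mul_left hc, ih, pow_succ]

/-- the power formula in class two -/
lemma mul_pow_class_two (hc : ∀ x y z : K, ⁅x, y⁆ * z = z * ⁅x, y⁆) (x y : K) (n : ℕ) :
    (x * y) ^ n = x ^ n * y ^ n * ⁅y, x⁆ ^ (n.choose 2) := by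
  induction n with
  | zero => simp
  | succ n ih =>
    have h1 : y ^ n * x = ⁅y, x⁆ ^ n * (x * y ^ n) := by
      rw [← comm_pow_left hc, commutatorElement_def]; group
    have h2 : (n + 1).choose 2 = n + n.choose 2 := by
      rw [Nat.choose_succ_succ, Nat.choose_one_right]
    have c1 : ∀ z : K, ⁅y, x⁆ ^ n.choose 2 * z = z * ⁅y, x⁆ ^ n.choose 2 := fun z =>
      pow_central hc y x z _
    have c2 : ∀ z : K, ⁅y, x⁆ ^ n * z = z * ⁅y, x⁆ ^ n := fun z => pow_central hc y x z _
    have e1 : x ^ (n + 1) = x ^ n * x := pow_succ x n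
    have e2 : y ^ (n + 1) = y ^ n * y := pow_succ y n
    calc (x * y) ^ (n + 1) = (x * y) ^ n * (x * y) := pow_succ _ _
      _ = x ^ n * y ^ n * ⁅y, x⁆ ^ n.choose 2 * (x * y) := by rw [ih]
      _ = x ^ n * y ^ n * (⁅y, x⁆ ^ n.choose 2 * (x * y)) := by group
      _ = x ^ n * y ^ n * ((x * y) * ⁅y, x⁆ ^ n.choose 2) := by rw [c1]
      _ = x ^ n * (y ^ n * x) * y * ⁅y, x⁆ ^ n.choose 2 := by group
      _ = x ^ n * (⁅y, x⁆ ^ n * (x * y ^ n)) * y * ⁅y, x⁆ ^ n.choose 2 := by rw [h1]
      _ = x ^ n * (⁅y, x⁆ ^ n * (x * y ^ n * y)) * ⁅y, x⁆ ^ n.choose 2 := by group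
      _ = x ^ n * ((x * y ^ n * y) * ⁅y, x⁆ ^ n) * ⁅y, x⁆ ^ n.choose 2 := by rw [c2]
      _ = (x ^ n * x) * (y ^ n * y) * (⁅y, x⁆ ^ n * ⁅y, x⁆ ^ n.choose 2) := by group
      _ = x ^ (n + 1) * y ^ (n + 1) * ⁅y, x⁆ ^ (n + 1).choose 2 := by
          rw [← e1, ← e2, h2, ← pow_add]

end classtwo


section central

variable {X : Type*} [Group X] [Finite X]

lemma map_commutator_subtype (P : Subgroup X) : (commutator ↥P).map P.subtype = ⁅P, P⁆ := by
  rw [_root_.commutator_def, Subgroup.map_commutator, ← MonoidHom.range_eq_map, Subgroup.range_subtype]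

/-- if `P = [P, A]` under coprime action then `C_P(A) ≤ P'` -/
lemma centralizer_le_commutator {p : ℕ} [hp : Fact p.Prime] (A P : Subgroup X)
    (hP : IsPGroup p P) (hAP : A ≤ normalizer (P : Set X)) (hAp : (Nat.card A).Coprime p)
    (hPA : ⁅P, A⁆ = P) : P ⊓ centralizer (A : Set X) ≤ ⁅P, P⁆ := by
  classical
  haveI : Fintype ↥A := Fintype.ofFinite _
  let cj : ↥A → (↥P →* ↥P) := fun a => (conjNormalizer P a.1 (hAP a.2)).toMonoidHom
  have hcj : ∀ (a : ↥A) (x : ↥P), ((cj a x : ↥P) : X) = a.1 * x * a.1⁻¹ := fun a x => rfl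
  let τ : ↥P →* Abelianization ↥P := ∏ a : ↥A, (Abelianization.of).comp (cj a)
  have hτ : ∀ x, τ x = ∏ a : ↥A, Abelianization.of (cj a x) := by
    intro x
    simp only [τ, MonoidHom.finsetProd_apply, MonoidHom.comp_apply]
  have hτ_inv : ∀ (a₀ : ↥A) (x : ↥P), τ (cj a₀ x) = τ x := by
    intro a₀ x
    rw [hτ, hτ, ← Equiv.prod_comp (Equiv.mulRight a₀) (fun a : ↥A => Abelianization.of (cj a x))]
    apply Finset.prod_congr rfl
    intro a _
    congr 1
    apply Subtype.ext
    rw [hcj, hcj, hcj]
    simp only [Equiv.coe_mulRight, Subgroup.coe_mul]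
    group
  have hker : ∀ y : ↥P, τ y = 1 := by
    have h1 : ⁅P, A⁆ ≤ τ.ker.map P.subtype := by
      rw [Subgroup.commutator_le]
      intro x hx a ha
      refine ⟨⟨x, hx⟩ * cj ⟨a, ha⟩ ⟨x, hx⟩⁻¹, ?_, ?_⟩
      · rw [SetLike.mem_coe, MonoidHom.mem_ker, map_mul, hτ_inv, map_inv, mul_inv_cancel]
      · simp only [Subgroup.coe_subtype, Subgroup.coe_mul, hcj, Subgroup.coe_inv,
          commutatorElement_def]
        group
    intro y
    have h2 : (y : X) ∈ τ.ker.map P.subtype := by
      apply h1
      rw [hPA]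
      exact y.2
    obtain ⟨z, hz, hzy⟩ := h2
    have : z = y := Subtype.ext hzy
    rw [← this]
    exact hz
  intro c hc
  obtain ⟨hcP, hcA⟩ := Subgroup.mem_inf.mp hc
  set c' : ↥P := ⟨c, hcP⟩ with hc'
  have hfix : ∀ a : ↥A, cj a c' = c' := by
    intro a
    apply Subtype.ext
    rw [hcj]
    have := (Subgroup.mem_centralizer_iff.mp hcA) a.1 a.2
    show a.1 * c * a.1⁻¹ = c
    rw [this]; group
  have h1 : Abelianization.of c' ^ Nat.card A = 1 := by
    have := hker c'
    rw [hτ, Finset.prod_congr rfl (fun a _ => by rw [hfix a]), Finset.prod_const, Finset.card_univ,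
      ← Nat.card_eq_fintype_card] at this
    exact this
  have h2 : c' ^ Nat.card A ∈ commutator ↥P := by
    rw [← Abelianization.ker_of, MonoidHom.mem_ker, map_pow]
    exact h1
  have h3 : (Nat.card A).Coprime (orderOf c') := by
    obtain ⟨k, hk⟩ := (IsPGroup.iff_orderOf.mp hP) c'
    rw [hk]
    exact Nat.Coprime.pow_right k hAp
  obtain ⟨m, hm⟩ := exists_pow_eq_self_of_coprime h3
  have h4 : c' ∈ commutator ↥P := by
    rw [← hm]
    exact Subgroup.pow_mem _ h2 m
  rw [← map_commutator_subtype]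
  exact ⟨c', h4, rfl⟩

end central


section main

variable {X : Type*} [Group X] [Finite X]

/-- conjugation by an element normalizing both factors normalizes the commutator -/
lemma mem_normalizer_commutator {A B : Subgroup X} {a : X} (hA : a ∈ normalizer (A : Set X))
    (hB : a ∈ normalizer (B : Set X)) : a ∈ normalizer ((⁅A, B⁆ : Subgroup X) : Set X) := by
  rw [← conj_smul_eq_self_iff_mem_normalizer, conj_smul_eq_map, Subgroup.map_commutator,
    ← conj_smul_eq_map, ← conj_smul_eq_map,
    conj_smul_eq_self_iff_mem_normalizer.mpr hA, conj_smul_eq_self_iff_mem_normalizer.mpr hB]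

/-- if the `p`-th power map is multiplicative on `P`, `P = [P, A]` and `A` centralizes `Φ(P)`,
then `P` has exponent `p` -/
lemma exponent_of_pow_hom {p : ℕ} [hp : Fact p.Prime] (A P : Subgroup X) (hP : IsPGroup p P)
    (hAP : A ≤ normalizer (P : Set X)) (hPA : ⁅P, A⁆ = P)
    (hΦ : (frattini ↥P).map P.subtype ≤ centralizer (A : Set X))
    (hpow : ∀ x y : ↥P, (x * y) ^ p = x ^ p * y ^ p) : ∀ x ∈ P, x ^ p = 1 := by
  let φ : ↥P →* ↥P :=
    { toFun := fun x => x ^ p
      map_one' := one_pow p
      map_mul' := hpow }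
  have hφ : ∀ x, φ x = x ^ p := fun x => rfl
  have h1 : ⁅P, A⁆ ≤ φ.ker.map P.subtype := by
    rw [Subgroup.commutator_le]
    intro x hx a ha
    set x' : ↥P := ⟨x, hx⟩ with hx'
    set y' : ↥P := (conjNormalizer P a (hAP ha)) x'⁻¹ with hy'
    have hy'coe : (y' : X) = a * x⁻¹ * a⁻¹ := rfl
    refine ⟨x' * y', ?_, ?_⟩
    · rw [SetLike.mem_coe, MonoidHom.mem_ker, map_mul, hφ, hφ]
      apply Subtype.ext
      simp only [Subgroup.coe_mul, Subgroup.coe_pow, Subgroup.coe_one, hy'coe]
      show x ^ p * (a * x⁻¹ * a⁻¹) ^ p = 1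
      have hxp : (x ^ p)⁻¹ ∈ centralizer (A : Set X) := by
        apply Subgroup.inv_mem
        apply hΦ
        exact ⟨x' ^ p, pow_mem_frattini hP x', rfl⟩
      have h2 : (a * x⁻¹ * a⁻¹) ^ p = a * (x ^ p)⁻¹ * a⁻¹ := by
        rw [conj_pow, inv_pow]
      have h3 : a * (x ^ p)⁻¹ = (x ^ p)⁻¹ * a := (Subgroup.mem_centralizer_iff.mp hxp) a ha
      rw [h2, h3]
      group
    · simp only [Subgroup.coe_subtype, Subgroup.coe_mul, hy'coe, commutatorElement_def]
      show x * (a * x⁻¹ * a⁻¹) = x * a * x⁻¹ * a⁻¹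
      group
  intro x hx
  have h2 : x ∈ φ.ker.map P.subtype := by
    apply h1
    rw [hPA]
    exact hx
  obtain ⟨z, hz, rfl⟩ := h2
  have := congrArg Subtype.val ((MonoidHom.mem_ker).mp hz)
  simpa [hφ] using this

end main

/-- The Hall–Higman reduction for a minimal non-trivial action. Let B, A and P be subgroups of a finite group with P a p-group, B normalizing P, and A a normal subgroup of B of order prime to p. Suppose A does not centralize P but centralizes every proper B-invariant subgroup of P. Then [P, A] = P; P is elementary abelian or special; B acts irreducibly on P/Φ(P), that is, the only B-invariant subgroups of P containing Φ(P) are Φ(P) and P; and if p is odd then every element of P has order dividing p. -/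
theorem result {X : Type*} [Group X] [Finite X] {p : ℕ} [Fact p.Prime] (B A P : Subgroup X) (hP : IsPGroup p P) (hBP : B ≤ Subgroup.normalizer (P : Set X)) (hAB : A ≤ B) (hAn : B ≤ Subgroup.normalizer (A : Set X)) (hAp : (Nat.card A).Coprime p) (hnt : ⁅P, A⁆ ≠ ⊥) (hmin : ∀ U : Subgroup X, U < P → B ≤ Subgroup.normalizer (U : Set X) → ⁅U, A⁆ = ⊥) : ⁅P, A⁆ = P ∧ (Cfsg.IsElementaryAbelian p P ∨ Cfsg.IsSpecial p ↥P) ∧ (∀ U : Subgroup X, (frattini ↥P).map P.subtype ≤ U → U ≤ P → B ≤ Subgroup.normalizer (U : Set X) → U = (frattini ↥P).map P.subtype ∨ U = P) ∧ (p ≠ 2 → ∀ x ∈ P, x ^ p = 1) := by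
  have hp : p.Prime := Fact.out
  have hAP : A ≤ normalizer (P : Set X) := hAB.trans hBP
  obtain ⟨k, hk⟩ := IsPGroup.iff_card.mp hP
  haveI : Group.IsNilpotent ↥P := hP.isNilpotent
  have hcop : CoprimeAct A P := by
    refine ⟨hAP, ?_, Or.inr inferInstance⟩
    rw [hk]; exact Nat.Coprime.pow_right k hAp
  have hP1 : P ≠ ⊥ := by
    rintro rfl
    apply hnt
    rw [Subgroup.commutator_bot_left]
  haveI : Nontrivial ↥P := (Subgroup.nontrivial_iff_ne_bot P).mpr hP1
  -- (1)
  have hPA : ⁅P, A⁆ = P := by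
    by_contra hne
    have hKP : ⁅P, A⁆ ≤ P := commutator_le_of_le_normalizer hAP
    have hBK : B ≤ normalizer ((⁅P, A⁆ : Subgroup X) : Set X) := fun b hb =>
      mem_normalizer_commutator (hBP hb) (hAn hb)
    have h1 := hmin _ (lt_of_le_of_ne hKP hne) hBK
    rw [hcop.commutator_commutator_eq] at h1
    exact hnt h1
  set C := P ⊓ centralizer (A : Set X) with hC
  set D := ⁅P, P⁆ with hD
  set Φ := (frattini ↥P).map P.subtype with hΦ
  set Z := (Subgroup.center ↥P).map P.subtype with hZ
  have hinvC : ∀ U : Subgroup X, U < P → B ≤ normalizer (U : Set X) → U ≤ C := by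
    intro U hU hBU
    have h1 := hmin U hU hBU
    rw [Subgroup.commutator_eq_bot_iff_le_centralizer] at h1
    exact le_inf hU.le h1
  have hBΦ : B ≤ normalizer (Φ : Set X) :=
    hBP.trans (normalizer_le_normalizer_map_of_characteristic P (frattini ↥P))
  have hBZ : B ≤ normalizer (Z : Set X) :=
    hBP.trans (normalizer_le_normalizer_map_of_characteristic P (Subgroup.center ↥P))
  have hΦP : Φ ≤ P := Subgroup.map_subtype_le _
  have hΦlt : Φ < P := by
    refine lt_of_le_of_ne hΦP ?_
    intro h
    have h1 : (frattini ↥P).map P.subtype = (⊤ : Subgroup ↥P).map P.subtype := by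
      rw [← hΦ, h, ← MonoidHom.range_eq_map, Subgroup.range_subtype]
    exact frattini_ne_top (Subgroup.map_injective P.subtype_injective h1)
  have hDΦ : D ≤ Φ := by
    rw [hD, ← map_commutator_subtype]
    exact Subgroup.map_mono commutator_le_frattini
  have hCD : C ≤ D := centralizer_le_commutator A P hP hAP hAp hPA
  have hΦC : Φ ≤ C := hinvC Φ hΦlt hBΦ
  have hCΦ : C = Φ := le_antisymm (hCD.trans hDΦ) hΦC
  have hDΦeq : D = Φ := le_antisymm hDΦ (hΦC.trans hCD)
  have hΦcent : Φ ≤ centralizer (A : Set X) := hΦC.trans inf_le_right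
  refine ⟨hPA, ?_, ?_, ?_⟩
  · -- (2)
    by_cases hab : IsMulCommutative ↥P
    · left
      refine ⟨hab, ?_⟩
      apply exponent_of_pow_hom A P hP hAP hPA hΦcent
      intro x y
      exact Commute.mul_pow (hab.is_comm.comm x y) p
    · right
      have hZP : Z ≤ P := Subgroup.map_subtype_le _
      have hZlt : Z < P := by
        refine lt_of_le_of_ne hZP ?_
        intro h
        have h1 : (Subgroup.center ↥P).map P.subtype = (⊤ : Subgroup ↥P).map P.subtype := by
          rw [← hZ, h, ← MonoidHom.range_eq_map, Subgroup.range_subtype]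
        have h2 : Subgroup.center ↥P = ⊤ := Subgroup.map_injective P.subtype_injective h1
        apply hab
        refine ⟨⟨fun a b => ?_⟩⟩
        have : a ∈ Subgroup.center ↥P := by rw [h2]; exact Subgroup.mem_top a
        exact (Subgroup.mem_center_iff.mp this b).symm
      have hZC : Z ≤ C := hinvC Z hZlt hBZ
      have hDA : ⁅D, A⁆ = ⊥ := by
        rw [Subgroup.commutator_eq_bot_iff_le_centralizer]
        exact (hDΦeq.le.trans hΦC).trans inf_le_right
      have h1 : ⁅⁅P, D⁆, A⁆ = ⊥ := by
        rw [eq_bot_iff, ← hDA]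
        exact Subgroup.commutator_mono
          (Subgroup.commutator_mono le_rfl (Subgroup.commutator_le_self P)) le_rfl
      have h2 : ⁅⁅D, A⁆, P⁆ = ⊥ := by rw [hDA, Subgroup.commutator_bot_left]
      have h3 : ⁅⁅A, P⁆, D⁆ = ⊥ := Subgroup.commutator_commutator_eq_bot_of_rotate h1 h2
      rw [Subgroup.commutator_comm A P, hPA, Subgroup.commutator_comm P D,
        Subgroup.commutator_eq_bot_iff_le_centralizer] at h3
      have hDZ : D ≤ Z := by
        rw [hZ, Cfsg.Agent.Lib.Helper9.map_center_eq_inf_centralizer]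
        exact le_inf (Subgroup.commutator_le_self P) h3
      have hZD : Z = D := le_antisymm (hZC.trans hCD) hDZ
      refine ⟨hP, ?_, ?_⟩
      · apply Subgroup.map_injective P.subtype_injective
        rw [← hΦ, ← hZ, hZD, hDΦeq]
      · apply Subgroup.map_injective P.subtype_injective
        rw [map_commutator_subtype, ← hZ, hZD]
  · -- (3)
    intro U hΦU hUP hBU
    by_cases hUeq : U = P
    · exact Or.inr hUeq
    · left
      exact le_antisymm ((hinvC U (lt_of_le_of_ne hUP hUeq) hBU).trans hCΦ.le) hΦU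
  · -- (4)
    intro hp2
    by_cases hab : IsMulCommutative ↥P
    · apply exponent_of_pow_hom A P hP hAP hPA hΦcent
      intro x y
      exact Commute.mul_pow (hab.is_comm.comm x y) p
    · -- special case: class two
      have hZP : Z ≤ P := Subgroup.map_subtype_le _
      have hZlt : Z < P := by
        refine lt_of_le_of_ne hZP ?_
        intro h
        have h1 : (Subgroup.center ↥P).map P.subtype = (⊤ : Subgroup ↥P).map P.subtype := by
          rw [← hZ, h, ← MonoidHom.range_eq_map, Subgroup.range_subtype]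
        have h2 : Subgroup.center ↥P = ⊤ := Subgroup.map_injective P.subtype_injective h1
        apply hab
        refine ⟨⟨fun a b => ?_⟩⟩
        have : a ∈ Subgroup.center ↥P := by rw [h2]; exact Subgroup.mem_top a
        exact (Subgroup.mem_center_iff.mp this b).symm
      have hZC : Z ≤ C := hinvC Z hZlt hBZ
      have hDA : ⁅D, A⁆ = ⊥ := by
        rw [Subgroup.commutator_eq_bot_iff_le_centralizer]
        exact (hDΦeq.le.trans hΦC).trans inf_le_right
      have h1 : ⁅⁅P, D⁆, A⁆ = ⊥ := by
        rw [eq_bot_iff, ← hDA]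
        exact Subgroup.commutator_mono
          (Subgroup.commutator_mono le_rfl (Subgroup.commutator_le_self P)) le_rfl
      have h2 : ⁅⁅D, A⁆, P⁆ = ⊥ := by rw [hDA, Subgroup.commutator_bot_left]
      have h3 : ⁅⁅A, P⁆, D⁆ = ⊥ := Subgroup.commutator_commutator_eq_bot_of_rotate h1 h2
      rw [Subgroup.commutator_comm A P, hPA, Subgroup.commutator_comm P D,
        Subgroup.commutator_eq_bot_iff_le_centralizer] at h3
      have hDZ : D ≤ Z := by
        rw [hZ, Cfsg.Agent.Lib.Helper9.map_center_eq_inf_centralizer]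
        exact le_inf (Subgroup.commutator_le_self P) h3
      have hZD : Z = D := le_antisymm (hZC.trans hCD) hDZ
      have hcenter_comm : commutator ↥P = Subgroup.center ↥P := by
        apply Subgroup.map_injective P.subtype_injective
        rw [map_commutator_subtype, ← hZ, hZD]
      have hcenter_fr : frattini ↥P = Subgroup.center ↥P := by
        apply Subgroup.map_injective P.subtype_injective
        rw [← hΦ, ← hZ, hZD, hDΦeq]
      have hc : ∀ x y z : ↥P, ⁅x, y⁆ * z = z * ⁅x, y⁆ := by
        intro x y z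
        have h4 : ⁅x, y⁆ ∈ Subgroup.center ↥P := by
          rw [← hcenter_comm, _root_.commutator_def]
          exact Subgroup.commutator_mem_commutator (Subgroup.mem_top x) (Subgroup.mem_top y)
        exact ((Subgroup.mem_center_iff.mp h4) z).symm
      apply exponent_of_pow_hom A P hP hAP hPA hΦcent
      intro x y
      rw [mul_pow_class_two hc x y p]
      have h5 : ⁅y, x⁆ ^ p = 1 := by
        rw [← comm_pow_left hc]
        have h6 : y ^ p ∈ Subgroup.center ↥P := by
          rw [← hcenter_fr]; exact pow_mem_frattini hP y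
        rw [commutatorElement_eq_one_iff_mul_comm]
        exact ((Subgroup.mem_center_iff.mp h6) x).symm
      have h7 : p ∣ p.choose 2 := by
        apply hp.dvd_choose_self (by norm_num)
        have := hp.two_le
        omega
      obtain ⟨j, hj⟩ := h7
      rw [hj, pow_mul, h5, one_pow, mul_one]

end Cfsg.Agent.S3736
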