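import Cfsg.Statements.S1902
import Mathlib
import Cfsg.Agent.Lib.Helper12.SpecialFrob
import Cfsg.Agent.S3736
import Cfsg.Agent.Lib.Helper13.OmegaSmall
import Cfsg.Agent.Lib.Helper17.Coprime
import Cfsg.Agent.Lib.Helper10.PComponent
import Cfsg.Agent.H5.PSolvable
import Cfsg.Agent.H5.Cores

set_option autoImplicit false
open Cfsg

namespace Cfsg.Agent.S1902

open Subgroup
open scoped commutatorElement Pointwise

universe u

/-! ### small helpers -/

theorem card_lt_card_of_lt' {G : Type*} [Group G] [Finite G] {U W : Subgroup G} (h : U < W) :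
    Nat.card U < Nat.card W := by
  have h1 : (U : Set G) ⊂ (W : Set G) := SetLike.coe_ssubset_coe.mpr h
  have h2 := Set.ncard_lt_ncard h1 (Set.toFinite _)
  rw [← Nat.card_coe_set_eq, ← Nat.card_coe_set_eq] at h2
  exact h2

theorem mem_normalizer_of_normal {G : Type*} [Group G] {N : Subgroup G} (hN : N.Normal) (g : G) :
    g ∈ normalizer (N : Set G) := by
  rw [mem_normalizer_iff]
  intro h
  constructor
  · intro hh; exact hN.conj_mem h hh g
  · intro hh
    have := hN.conj_mem _ hh g⁻¹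
    have e : g⁻¹ * (g * h * g⁻¹) * g⁻¹⁻¹ = h := by group
    rwa [e] at this

theorem isPGroup_zpowers_of_pow_eq_one {G : Type*} [Group G] {p : ℕ} [hp : Fact p.Prime] {b : G}
    (hbp : b ^ p = 1) : IsPGroup p (zpowers b) := by
  have hd : orderOf b ∣ p := orderOf_dvd_of_pow_eq_one hbp
  rcases (Nat.dvd_prime hp.out).mp hd with h1 | h1
  · exact IsPGroup.of_card (n := 0) (by rw [Nat.card_zpowers, h1, pow_zero])
  · exact IsPGroup.of_card (n := 1) (by rw [Nat.card_zpowers, h1, pow_one])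

theorem le_centralizer_singleton {G : Type*} [Group G] {p : ℕ} {B : Subgroup G}
    (hB : Cfsg.IsElementaryAbelian p B) {b₀ : G} (hb₀ : b₀ ∈ B) :
    B ≤ centralizer ({b₀} : Set G) := by
  intro y hy
  rw [Subgroup.mem_centralizer_singleton_iff]
  exact congrArg Subtype.val (hB.1.is_comm.comm (⟨y, hy⟩ : ↥B) ⟨b₀, hb₀⟩)

/-! ### Lemma K: a Frobenius-like group acting on a `p`-group with small fixed points -/

theorem lemmaK {G : Type u} [Group G] [Finite G] {p : ℕ} [hp : Fact p.Prime] (hp2 : p ≠ 2)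
    (Q : Subgroup G) (b z : G) (hQ : (Nat.card Q).Coprime p)
    (hbQ : b ∈ normalizer (Q : Set G)) (hbp : b ^ p = 1)
    (hfrob : ∀ x ∈ Q, x * b = b * x → x = 1)
    (hz : z ^ p = 1) (hzQ : ∀ a ∈ Q, a * z = z * a) :
    ∀ (n : ℕ) (W : Subgroup G), Nat.card W = n → IsPGroup p W → Q ≤ normalizer (W : Set G) →
      b ∈ normalizer (W : Set G) →
      (∀ x ∈ W, b * x = x * b → x ^ p = 1 → x ∈ zpowers z) → W ≤ centralizer (Q : Set G) := by
  intro n
  induction n using Nat.strong_induction_on with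
  | _ n ih =>
    intro W hn hW hQW hbW hfix
    by_contra hnc
    have hB'W : Q ⊔ zpowers b ≤ normalizer (W : Set G) := sup_le hQW (zpowers_le.mpr hbW)
    have hQB' : Q ≤ Q ⊔ zpowers b := le_sup_left
    have hB'Q : Q ⊔ zpowers b ≤ normalizer (Q : Set G) :=
      sup_le le_normalizer (zpowers_le.mpr hbQ)
    have hnt : ⁅W, Q⁆ ≠ ⊥ := by
      intro h0
      exact hnc (Subgroup.commutator_eq_bot_iff_le_centralizer.mp h0)
    have hmin : ∀ U : Subgroup G, U < W → Q ⊔ zpowers b ≤ normalizer (U : Set G) →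
        ⁅U, Q⁆ = ⊥ := by
      intro U hU hBU
      rw [Subgroup.commutator_eq_bot_iff_le_centralizer]
      have hcard : Nat.card U < n := by rw [← hn]; exact card_lt_card_of_lt' hU
      exact ih _ hcard U rfl (hW.to_le hU.le) (hQB'.trans hBU)
        (hBU (mem_sup_right (mem_zpowers b))) (fun x hx => hfix x (hU.le hx))
    obtain ⟨hWQ, hstruct, -, hexp⟩ :=
      Cfsg.Agent.S3736.result (Q ⊔ zpowers b) Q W hW hB'W hQB' hB'Q hQ hnt hmin
    have hexp' := hexp hp2
    have hCD : W ⊓ centralizer (Q : Set G) ≤ ⁅W, W⁆ :=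
      Cfsg.Agent.S3736.centralizer_le_commutator Q W hW hQW hQ hWQ
    have hW1 : W ≠ ⊥ := by
      rintro rfl
      exact hnc bot_le
    have hbpg : IsPGroup p (zpowers b) := isPGroup_zpowers_of_pow_eq_one hbp
    have hfix' : ∀ x ∈ W, b * x = x * b → x ∈ zpowers z :=
      fun x hx hbx => hfix x hx hbx (hexp' x hx)
    by_cases hD : ⁅W, W⁆ = ⊥
    · obtain ⟨x, hxW, hx1, hbx⟩ :=
        Cfsg.Agent.Lib.Helper12.SpecialFrob.exists_fixed_ne_one hW hW1 hbW hbpg
      have hxz := hfix' x hxW hbx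
      have hxQ : x ∈ centralizer (Q : Set G) := by
        rw [Subgroup.mem_centralizer_iff]
        intro a ha
        obtain ⟨k, rfl⟩ := mem_zpowers_iff.mp hxz
        exact ((show Commute a z from hzQ a ha).zpow_right k).eq
      have hxD : x ∈ ⁅W, W⁆ := hCD ⟨hxW, hxQ⟩
      rw [hD, Subgroup.mem_bot] at hxD
      exact hx1 hxD
    · have hne : ¬ W ≤ ⁅W, W⁆ := fun h =>
        hW1 (Cfsg.Agent.Lib.Helper17.eq_bot_of_le_commutator_pgroups hW hW le_normalizer h)
      rcases hstruct with hab | hsp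
      · apply hD
        rw [Subgroup.commutator_eq_bot_iff_le_centralizer]
        intro w hw
        rw [Subgroup.mem_centralizer_iff]
        intro v hv
        exact congrArg Subtype.val (hab.1.is_comm.comm (⟨v, hv⟩ : ↥W) ⟨w, hw⟩)
      · obtain ⟨-, -, hcc⟩ := hsp
        have hDW : ⁅W, W⁆ ≤ W := Cfsg.Agent.Lib.Helper12.SpecialFrob.commutator_self_le W
        have hDlt : ⁅W, W⁆ < W := lt_of_le_of_ne hDW (fun h => hne h.ge)
        have hDC : ⁅W, W⁆ ≤ centralizer (Q : Set G) := by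
          have := hmin _ hDlt (Cfsg.Agent.Lib.Helper12.commutator_self_le_normalizer' hB'W)
          exact Subgroup.commutator_eq_bot_iff_le_centralizer.mp this
        have hyp : Cfsg.Agent.Lib.Helper12.SpecialFrob.Hyp p W Q b z :=
          { hW := hW
            hne := hne
            hZ1 := hD
            hcen := by
              intro x hx w hw
              rw [← Subgroup.map_subtype_commutator, Subgroup.mem_map] at hx
              obtain ⟨c, hc, rfl⟩ := hx
              rw [hcc] at hc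
              have := Subgroup.mem_center_iff.mp hc ⟨w, hw⟩
              exact (congrArg Subtype.val this).symm
            hexp := hexp'
            hQ := hQ
            hQW := hQW
            hbW := hbW
            hbQ := hbQ
            hbp := hbp
            hfrob := hfrob
            hCQ := le_antisymm hCD (le_inf hDW hDC)
            hirr := by
              intro U hDU hUW hQU hbU
              by_cases hUW' : U = W
              · right; exact hUW'
              · left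
                have hUlt : U < W := lt_of_le_of_ne hUW hUW'
                have := hmin U hUlt (sup_le hQU (zpowers_le.mpr hbU))
                rw [Subgroup.commutator_eq_bot_iff_le_centralizer] at this
                exact le_antisymm ((le_inf hUW this).trans hCD) hDU
            hz := hz
            hfix := hfix' }
        exact hyp.false hp2

/-! ### The hypothesis on `B` -/

/-- Every `p`-subgroup of `C_G(b₀)` containing `B` has all its elements of order dividing `p` in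
`B`. -/
def H2 {G : Type*} [Group G] (p : ℕ) (B : Subgroup G) (b₀ : G) : Prop :=
  ∀ R : Subgroup G, IsPGroup p R → B ≤ R → R ≤ centralizer ({b₀} : Set G) →
    ∀ x ∈ R, x ^ p = 1 → x ∈ B

theorem H2_of_sylow {G : Type u} [Group G] [Finite G] {p : ℕ} [hp : Fact p.Prime]
    (B : Subgroup G) (hB : Cfsg.IsElementaryAbelian p B) (b₀ : G)
    (P : Sylow p ↥(centralizer ({b₀} : Set G)))
    (hBP : B = closure {x : G | x ∈ ((P : Subgroup ↥(centralizer ({b₀} : Set G))).map
      (centralizer ({b₀} : Set G)).subtype : Subgroup G) ∧ orderOf x = p}) : H2 p B b₀ := by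
  have hK1 : ∀ x ∈ ((P : Subgroup ↥(centralizer ({b₀} : Set G))).map
      (centralizer ({b₀} : Set G)).subtype : Subgroup G), x ^ p = 1 → x ∈ B := by
    intro x hx hxp
    by_cases hx1 : x = 1
    · rw [hx1]; exact B.one_mem
    · rw [hBP]
      exact subset_closure ⟨hx, orderOf_eq_prime hxp hx1⟩
  intro R hR hBR hRC x hxR hxp
  have hR' : IsPGroup p (R.subgroupOf (centralizer ({b₀} : Set G))) := hR.comap_subtype
  obtain ⟨P', hP'⟩ := hR'.exists_le_sylow
  obtain ⟨g, hg⟩ := MulAction.exists_smul_eq ↥(centralizer ({b₀} : Set G)) P' P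
  have hconj : ∀ y ∈ (P' : Subgroup ↥(centralizer ({b₀} : Set G))),
      g * y * g⁻¹ ∈ (P : Subgroup ↥(centralizer ({b₀} : Set G))) := by
    intro y hy
    have h1 : MulAut.conj g • y ∈
        MulAut.conj g • (P' : Subgroup ↥(centralizer ({b₀} : Set G))) :=
      Subgroup.smul_mem_pointwise_smul _ _ _ hy
    have h2 : MulAut.conj g • (P' : Subgroup ↥(centralizer ({b₀} : Set G))) =
        ((g • P' : Sylow p ↥(centralizer ({b₀} : Set G))) :
          Subgroup ↥(centralizer ({b₀} : Set G))) := rfl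
    rw [h2, hg] at h1
    exact h1
  have hconjR : ∀ r ∈ R, (g : G) * r * (g : G)⁻¹ ∈
      ((P : Subgroup ↥(centralizer ({b₀} : Set G))).map
        (centralizer ({b₀} : Set G)).subtype : Subgroup G) := by
    intro r hr
    have h1 : (⟨r, hRC hr⟩ : ↥(centralizer ({b₀} : Set G))) ∈
        (P' : Subgroup ↥(centralizer ({b₀} : Set G))) := hP' (mem_subgroupOf.mpr hr)
    exact ⟨g * ⟨r, hRC hr⟩ * g⁻¹, hconj _ h1, rfl⟩
  have hgB : (g : G) ∈ normalizer (B : Set G) := by
    apply Subgroup.mem_normalizer_fintype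
    intro y hy
    apply hK1 _ (hconjR y (hBR hy))
    rw [conj_pow, hB.2 y hy]; group
  have h1 := hK1 _ (hconjR x hxR) (by rw [conj_pow, hxp]; group)
  exact (mem_normalizer_iff.mp hgB x).mpr h1

/-! ### The case `O_{p'}(G) = 1` -/

theorem main_core {G : Type u} [Group G] [Finite G] {p : ℕ} [hp : Fact p.Prime] (hp2 : p ≠ 2)
    (hG : Cfsg.IsPSolvable p G) (hO : Cfsg.pPrimeCore p G = ⊥)
    (B : Subgroup G) (hB : Cfsg.IsElementaryAbelian p B) (hBc : Nat.card B = p ^ 2)
    (b₀ : G) (hb₀ : b₀ ∈ B) (hH2 : H2 p B b₀)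
    (Q : Subgroup G) (hQ : (Nat.card Q).Coprime p) (hBQ : B ≤ normalizer (Q : Set G)) :
    Q = ⊥ := by
  have hpr := hp.out
  have hVn : (Cfsg.pCore p G).Normal := Cfsg.H5.pCore_normal p G
  have hVp : IsPGroup p (Cfsg.pCore p G) := Cfsg.H5.pCore_isPGroup p G
  have hCV : centralizer (Cfsg.pCore p G : Set G) ≤ Cfsg.pCore p G :=
    Cfsg.H5.centralizer_pCore_le_of_isPSolvable hG hO
  set V : Subgroup G := Cfsg.pCore p G with hVdef
  have hQV : Q ⊓ V = ⊥ := by
    obtain ⟨k, hk⟩ := hVp.exists_card_eq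
    apply Subgroup.inf_eq_bot_of_coprime
    rw [hk]; exact Nat.Coprime.pow_right k hQ
  have hb₀p : b₀ ^ p = 1 := hB.2 b₀ hb₀
  have hBp : IsPGroup p B := IsPGroup.of_card hBc
  have hBC : B ≤ centralizer ({b₀} : Set G) := le_centralizer_singleton hB hb₀
  have hnormV : ∀ g : G, g ∈ normalizer (V : Set G) := mem_normalizer_of_normal hVn
  have hV₀p : IsPGroup p ↥(V ⊓ centralizer ({b₀} : Set G)) := hVp.to_le inf_le_left
  -- elements of the centralizer of b₀ normalize V₀
  have hnormV₀ : ∀ g ∈ centralizer ({b₀} : Set G),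
      g ∈ normalizer ((V ⊓ centralizer ({b₀} : Set G) : Subgroup G) : Set G) := by
    intro g hg
    apply Subgroup.mem_normalizer_fintype
    intro v hv
    obtain ⟨hvV, hvC⟩ := Subgroup.mem_inf.mp hv
    exact Subgroup.mem_inf.mpr ⟨hVn.conj_mem v hvV g, mul_mem (mul_mem hg hvC) (inv_mem hg)⟩
  -- Claim A
  have hA : ∀ x ∈ V, b₀ * x = x * b₀ → x ^ p = 1 → x ∈ B := by
    intro x hxV hbx hxp
    have hBV₀ : B ≤ normalizer ((V ⊓ centralizer ({b₀} : Set G) : Subgroup G) : Set G) :=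
      fun y hy => hnormV₀ y (hBC hy)
    have hRp : IsPGroup p ↥((V ⊓ centralizer ({b₀} : Set G)) ⊔ B) :=
      hV₀p.to_sup_of_normal_left' hBp hBV₀
    exact hH2 ((V ⊓ centralizer ({b₀} : Set G)) ⊔ B) hRp le_sup_right (sup_le inf_le_right hBC) x
      (mem_sup_left (Subgroup.mem_inf.mpr
        ⟨hxV, Subgroup.mem_centralizer_singleton_iff.mpr hbx.symm⟩)) hxp
  -- Claim B
  have hBcl : ∀ a ∈ Q, ∀ y ∈ B, y ∈ V → a * y = y * a := by
    intro a ha y hyB hyV
    have h1 : y * a * y⁻¹ ∈ Q := (mem_normalizer_iff.mp (hBQ hyB) a).mp ha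
    have h2 : a⁻¹ * (y * a * y⁻¹) ∈ Q := mul_mem (inv_mem ha) h1
    have h3 : a⁻¹ * (y * a * y⁻¹) ∈ V := by
      have h4 : a⁻¹ * y * a⁻¹⁻¹ ∈ V := hVn.conj_mem y hyV a⁻¹
      have e : a⁻¹ * (y * a * y⁻¹) = (a⁻¹ * y * a⁻¹⁻¹) * y⁻¹ := by group
      rw [e]; exact mul_mem h4 (inv_mem hyV)
    have h5 : a⁻¹ * (y * a * y⁻¹) ∈ Q ⊓ V := Subgroup.mem_inf.mpr ⟨h2, h3⟩
    rw [hQV, Subgroup.mem_bot, inv_mul_eq_one] at h5
    calc a * y = (y * a * y⁻¹) * y := by rw [← h5]
      _ = y * a := by group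
  -- Claim C
  have hCcl : ∀ a ∈ Q, a * b₀ = b₀ * a → a = 1 := by
    intro a ha hab₀
    have hcopa : (orderOf a).Coprime p :=
      Nat.Coprime.coprime_dvd_left (Subgroup.orderOf_dvd_natCard Q ha) hQ
    have haC : a ∈ centralizer ({b₀} : Set G) := Subgroup.mem_centralizer_singleton_iff.mpr hab₀
    have h1 : a ∈ centralizer ((V ⊓ centralizer ({b₀} : Set G) : Subgroup G) : Set G) := by
      apply Cfsg.Agent.Lib.Helper13.mem_centralizer_of_centralizes_small p
        (V ⊓ centralizer ({b₀} : Set G)) hV₀p a (hnormV₀ a haC) hcopa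
      intro x hx hsmall
      obtain ⟨hxV, hxC⟩ := Subgroup.mem_inf.mp hx
      rcases hsmall with hxp | ⟨h2, -⟩
      · exact hBcl a ha x
          (hA x hxV (Subgroup.mem_centralizer_singleton_iff.mp hxC).symm hxp) hxV
      · exact absurd h2 hp2
    have hbpg : IsPGroup p (zpowers b₀) := isPGroup_zpowers_of_pow_eq_one hb₀p
    have hab : ∀ b ∈ zpowers b₀, a * b = b * a := by
      intro b hb
      obtain ⟨k, rfl⟩ := mem_zpowers_iff.mp hb
      exact ((show Commute a b₀ from hab₀).zpow_right k).eq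
    have hC : ∀ x ∈ V, (∀ b ∈ zpowers b₀, b * x = x * b) → a * x = x * a := by
      intro x hxV hx
      have hxC : x ∈ centralizer ({b₀} : Set G) :=
        Subgroup.mem_centralizer_singleton_iff.mpr (hx b₀ (mem_zpowers b₀)).symm
      have := Subgroup.mem_centralizer_iff.mp h1 x (Subgroup.mem_inf.mpr ⟨hxV, hxC⟩)
      exact this.symm
    have h2 := Cfsg.Agent.Lib.Helper17.thompson_AxB hbpg hcopa hab (Nat.card V) V rfl hVp
      (hnormV a) (fun y _ => hnormV y) hC
    have h3 : a ∈ V := hCV (by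
      rw [Subgroup.mem_centralizer_iff]
      intro x hx
      exact (h2 x hx).symm)
    have h4 : a ∈ Q ⊓ V := Subgroup.mem_inf.mpr ⟨ha, h3⟩
    rwa [hQV, Subgroup.mem_bot] at h4
  -- final
  by_cases hbV : b₀ ∈ V
  · rw [eq_bot_iff]
    intro a ha
    rw [Subgroup.mem_bot]
    exact hCcl a ha (hBcl a ha b₀ hb₀ hbV)
  · have hz : ∃ z : G, z ^ p = 1 ∧ (∀ a ∈ Q, a * z = z * a) ∧
        ∀ y ∈ B, y ∈ V → y ∈ zpowers z := by
      by_cases h1 : B ⊓ V = ⊥
      · refine ⟨1, one_pow p, fun a _ => by rw [mul_one, one_mul], ?_⟩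
        intro y hyB hyV
        have : y ∈ B ⊓ V := Subgroup.mem_inf.mpr ⟨hyB, hyV⟩
        rw [h1, Subgroup.mem_bot] at this
        rw [this]; exact one_mem _
      · obtain ⟨⟨b₁, hb₁⟩, hb₁1⟩ := (Subgroup.ne_bot_iff_exists_ne_one).mp h1
        obtain ⟨hb₁B, hb₁V⟩ := Subgroup.mem_inf.mp hb₁
        have hb₁ne : b₁ ≠ 1 := fun h => hb₁1 (Subtype.ext h)
        have hb₁p : b₁ ^ p = 1 := hB.2 b₁ hb₁B
        have hord : orderOf b₁ = p := orderOf_eq_prime hb₁p hb₁ne
        refine ⟨b₁, hb₁p, fun a ha => hBcl a ha b₁ hb₁B hb₁V, ?_⟩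
        have hdvd : Nat.card ↥(B ⊓ V) ∣ p ^ 2 := by
          rw [← hBc]; exact Subgroup.card_dvd_of_le inf_le_left
        obtain ⟨j, hj, hcard⟩ := (Nat.dvd_prime_pow hpr).mp hdvd
        have hj1 : j ≤ 1 := by
          by_contra hj2
          have hj2' : j = 2 := by omega
          have heq : B ⊓ V = B := by
            apply Subgroup.eq_of_le_of_card_ge inf_le_left
            rw [hcard, hj2', hBc]
          apply hbV
          have : b₀ ∈ B ⊓ V := by rw [heq]; exact hb₀
          exact (Subgroup.mem_inf.mp this).2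
        have hle : zpowers b₁ ≤ B ⊓ V := zpowers_le.mpr hb₁
        have heq : zpowers b₁ = B ⊓ V := by
          apply Subgroup.eq_of_le_of_card_ge hle
          rw [Nat.card_zpowers, hord, hcard]
          calc p ^ j ≤ p ^ 1 := Nat.pow_le_pow_right hpr.pos hj1
            _ = p := pow_one p
        intro y hyB hyV
        rw [heq]; exact Subgroup.mem_inf.mpr ⟨hyB, hyV⟩
    obtain ⟨z, hzp, hzQ, hzB⟩ := hz
    have hb₀Q : b₀ ∈ normalizer (Q : Set G) := hBQ hb₀
    have hQnV : Q ≤ normalizer (V : Set G) := fun a _ => hnormV a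
    have hVQ := lemmaK hp2 Q b₀ z hQ hb₀Q hb₀p hCcl hzp hzQ (Nat.card V) V rfl hVp hQnV
      (hnormV b₀) (fun x hxV hbx hxp => hzB x (hA x hxV hbx hxp) hxV)
    rw [eq_bot_iff]
    intro a ha
    have h3 : a ∈ V := hCV (by
      rw [Subgroup.mem_centralizer_iff]
      intro x hx
      exact (Subgroup.mem_centralizer_iff.mp (hVQ hx) a ha).symm)
    have h4 : a ∈ Q ⊓ V := Subgroup.mem_inf.mpr ⟨ha, h3⟩
    rwa [hQV] at h4

/-! ### Reduction to `O_{p'}(G) = 1` -/

theorem exists_lift_centralizer {G : Type u} [Group G] [Finite G] (N : Subgroup G) [hN : N.Normal]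
    (b : G) (hcop : (orderOf b).Coprime (Nat.card N)) (g : G)
    (hg : QuotientGroup.mk' N g * QuotientGroup.mk' N b =
      QuotientGroup.mk' N b * QuotientGroup.mk' N g) :
    ∃ u ∈ N, (g * u) * b = b * (g * u) := by
  have hbN : b ∈ normalizer (N : Set G) := mem_normalizer_of_normal hN b
  have hact : Cfsg.Agent.Lib.Helper1.CoprimeAct (zpowers b) N :=
    Cfsg.Agent.Lib.Helper12.coprimeAct_zpowers hbN hcop
  have hker : ∀ x : G, QuotientGroup.mk' N x = 1 → x ∈ N := by
    intro x hx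
    rwa [← MonoidHom.mem_ker, QuotientGroup.ker_mk'] at hx
  have hx : ∀ a ∈ zpowers b, g⁻¹ * (a * g * a⁻¹) ∈ N := by
    intro a ha
    obtain ⟨k, rfl⟩ := mem_zpowers_iff.mp ha
    apply hker
    have hc : Commute (QuotientGroup.mk' N g) (QuotientGroup.mk' N b) := hg
    have hc2 := hc.zpow_right k
    have e : QuotientGroup.mk' N (g⁻¹ * (b ^ k * g * (b ^ k)⁻¹)) =
        (QuotientGroup.mk' N g)⁻¹ * ((QuotientGroup.mk' N b) ^ k * QuotientGroup.mk' N g *
          ((QuotientGroup.mk' N b) ^ k)⁻¹) := by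
      simp only [map_mul, map_inv, map_zpow]
    rw [e, ← hc2.eq]; group
  obtain ⟨u, hu, hgu⟩ := hact.exists_mul_mem_normalizer g hx
  refine ⟨u, hu, ?_⟩
  have hc : (g * u) * b * (g * u)⁻¹ ∈ zpowers b :=
    (mem_normalizer_iff.mp hgu b).mp (mem_zpowers b)
  have hc2 : (g * u) * b * (g * u)⁻¹ * b⁻¹ ∈ zpowers b := mul_mem hc (inv_mem (mem_zpowers b))
  have hc3 : (g * u) * b * (g * u)⁻¹ * b⁻¹ ∈ N := by
    apply hker
    have hu1 : QuotientGroup.mk' N u = 1 := by
      rw [← MonoidHom.mem_ker, QuotientGroup.ker_mk']; exact hu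
    have e : QuotientGroup.mk' N ((g * u) * b * (g * u)⁻¹ * b⁻¹) =
        QuotientGroup.mk' N g * QuotientGroup.mk' N b * (QuotientGroup.mk' N g)⁻¹ *
          (QuotientGroup.mk' N b)⁻¹ := by
      simp only [map_mul, map_inv, hu1, mul_one]
    rw [e, hg]; group
  have hbot : N ⊓ zpowers b = ⊥ := hact.inf_eq_bot
  have h1 : (g * u) * b * (g * u)⁻¹ * b⁻¹ = 1 := by
    have : (g * u) * b * (g * u)⁻¹ * b⁻¹ ∈ N ⊓ zpowers b := Subgroup.mem_inf.mpr ⟨hc3, hc2⟩
    rwa [hbot, Subgroup.mem_bot] at this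
  calc (g * u) * b = ((g * u) * b * (g * u)⁻¹ * b⁻¹) * (b * (g * u)) := by group
    _ = b * (g * u) := by rw [h1, one_mul]

theorem exists_pgroup_lift {G : Type u} {G' : Type*} [Group G] [Finite G] [Group G'] {p : ℕ}
    [Fact p.Prime] (π : G →* G') (L T : Subgroup G) (hTL : T ≤ L) (hT : IsPGroup p T)
    (hL : IsPGroup p (L.map π)) :
    ∃ S : Subgroup G, IsPGroup p S ∧ T ≤ S ∧ S ≤ L ∧ S.map π = L.map π := by
  have hT' : IsPGroup p (T.subgroupOf L) := hT.comap_subtype
  obtain ⟨S, hS⟩ := hT'.exists_le_sylow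
  have hsurj : Function.Surjective (π.subgroupMap L) := π.subgroupMap_surjective L
  have : Finite (L.map π) := Finite.of_surjective _ hsurj
  have htop : (⊤ : Subgroup (L.map π)) = (S.mapSurjective hsurj : Sylow p (L.map π)) :=
    (S.mapSurjective hsurj).is_maximal' (hL.to_subgroup ⊤) le_top
  refine ⟨(S : Subgroup L).map L.subtype, S.isPGroup'.map _, ?_, Subgroup.map_subtype_le _, ?_⟩
  · intro t ht
    exact ⟨⟨t, hTL ht⟩, hS (mem_subgroupOf.mpr ht), rfl⟩
  · apply le_antisymm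
    · exact Subgroup.map_mono (Subgroup.map_subtype_le _)
    · rintro _ ⟨l, hl, rfl⟩
      have h1 : (⟨π l, ⟨l, hl, rfl⟩⟩ : L.map π) ∈ (⊤ : Subgroup (L.map π)) := Subgroup.mem_top _
      rw [htop, Sylow.coe_mapSurjective] at h1
      obtain ⟨s, hs, hsl⟩ := h1
      refine ⟨(s : G), ⟨s, hs, rfl⟩, ?_⟩
      have := congrArg Subtype.val hsl
      simpa using this

theorem main {G : Type u} [Group G] [Finite G] {p : ℕ} [hp : Fact p.Prime] (hp2 : p ≠ 2)
    (hG : Cfsg.IsPSolvable p G)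
    (B : Subgroup G) (hB : Cfsg.IsElementaryAbelian p B) (hBc : Nat.card B = p ^ 2)
    (b₀ : G) (hb₀ : b₀ ∈ B) (hH2 : H2 p B b₀)
    (Q : Subgroup G) (hQ : (Nat.card Q).Coprime p) (hBQ : B ≤ normalizer (Q : Set G)) :
    Q ≤ Cfsg.pPrimeCore p G := by
  have hpr := hp.out
  have hNn : (Cfsg.pPrimeCore p G).Normal := Cfsg.H5.pPrimeCore_normal p G
  have hNcop : (Nat.card (Cfsg.pPrimeCore p G)).Coprime p := Cfsg.H5.coprime_card_pPrimeCore p G
  have hbotq : Cfsg.pPrimeCore p (G ⧸ Cfsg.pPrimeCore p G) = ⊥ :=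
    Cfsg.Agent.Lib.Helper10.pPrimeCore_quotient_eq_bot p
  have hGq : Cfsg.IsPSolvable p (G ⧸ Cfsg.pPrimeCore p G) :=
    Cfsg.H5.isPSolvable_quotient (Cfsg.pPrimeCore p G) hG
  set N : Subgroup G := Cfsg.pPrimeCore p G with hNdef
  set π : G →* G ⧸ N := QuotientGroup.mk' N with hπ
  have hπs : Function.Surjective π := QuotientGroup.mk'_surjective N
  have hker : ∀ x : G, π x = 1 → x ∈ N := by
    intro x hx
    rwa [← MonoidHom.mem_ker, hπ, QuotientGroup.ker_mk'] at hx
  have hb₀p : b₀ ^ p = 1 := hB.2 b₀ hb₀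
  have hcopb : (orderOf b₀).Coprime (Nat.card N) :=
    Nat.Coprime.coprime_dvd_left (orderOf_dvd_of_pow_eq_one hb₀p) hNcop.symm
  have hBp : IsPGroup p B := IsPGroup.of_card hBc
  have hpN : ∀ S : Subgroup G, IsPGroup p S → S ⊓ N = ⊥ := by
    intro S hS
    obtain ⟨k, hk⟩ := hS.exists_card_eq
    apply Subgroup.inf_eq_bot_of_coprime
    rw [hk]
    exact (Nat.Coprime.pow_right k hNcop).symm
  have hB' : Cfsg.IsElementaryAbelian p (B.map π) := by
    refine ⟨⟨⟨?_⟩⟩, ?_⟩
    · rintro ⟨_, x, hx, rfl⟩ ⟨_, y, hy, rfl⟩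
      apply Subtype.ext
      show π x * π y = π y * π x
      have h1 : x * y = y * x := congrArg Subtype.val (hB.1.is_comm.comm (⟨x, hx⟩ : ↥B) ⟨y, hy⟩)
      rw [← map_mul, ← map_mul, h1]
    · rintro _ ⟨x, hx, rfl⟩
      rw [← map_pow, hB.2 x hx, map_one]
  have hBc' : Nat.card (B.map π) = p ^ 2 := by
    have h1 : N.relIndex B = Nat.card B := by
      rw [← Subgroup.inf_relIndex_right, inf_comm, hpN B hBp, Subgroup.relIndex_bot_left]
    rw [hπ, Cfsg.H5.card_map_mk', h1, hBc]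
  have hQ' : (Nat.card (Q.map π)).Coprime p :=
    Nat.Coprime.coprime_dvd_left (Subgroup.card_map_dvd Q π) hQ
  have hBQ' : B.map π ≤ normalizer ((Q.map π : Subgroup (G ⧸ N)) : Set (G ⧸ N)) :=
    (Subgroup.map_mono hBQ).trans (Subgroup.le_normalizer_map π)
  have hBC : B ≤ centralizer ({b₀} : Set G) := le_centralizer_singleton hB hb₀
  have hH2' : H2 p (B.map π) (π b₀) := by
    intro Rb hRb hBRb hRbC xb hxb hxbp
    have hBL : B ≤ centralizer ({b₀} : Set G) ⊓ Rb.comap π :=
      le_inf hBC (Subgroup.map_le_iff_le_comap.mp hBRb)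
    have hLmap : (centralizer ({b₀} : Set G) ⊓ Rb.comap π).map π ≤ Rb := by
      rw [Subgroup.map_le_iff_le_comap]; exact inf_le_right
    have hlift : ∀ yb ∈ Rb, ∃ y ∈ centralizer ({b₀} : Set G) ⊓ Rb.comap π, π y = yb := by
      intro yb hyb
      obtain ⟨g, rfl⟩ := hπs yb
      have hcomm : π g * π b₀ = π b₀ * π g :=
        Subgroup.mem_centralizer_singleton_iff.mp (hRbC hyb)
      obtain ⟨u, hu, hgu⟩ := exists_lift_centralizer N b₀ hcopb g hcomm
      have hπu : π (g * u) = π g := by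
        have hu1 : π u = 1 := by
          rw [← MonoidHom.mem_ker, hπ, QuotientGroup.ker_mk']; exact hu
        rw [map_mul, hu1, mul_one]
      refine ⟨g * u, Subgroup.mem_inf.mpr ⟨?_, ?_⟩, hπu⟩
      · exact Subgroup.mem_centralizer_singleton_iff.mpr hgu
      · rw [Subgroup.mem_comap, hπu]; exact hyb
    obtain ⟨S, hSp, hBS, hSL, hSmap⟩ :=
      exists_pgroup_lift π (centralizer ({b₀} : Set G) ⊓ Rb.comap π) B hBL hBp (hRb.to_le hLmap)
    obtain ⟨y, hyL, hy⟩ := hlift xb hxb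
    have hxbS : xb ∈ S.map π := by rw [hSmap]; exact ⟨y, hyL, hy⟩
    obtain ⟨s, hs, rfl⟩ := hxbS
    have hsp : s ^ p = 1 := by
      have h1 : s ^ p ∈ S ⊓ N :=
        Subgroup.mem_inf.mpr ⟨S.pow_mem hs p, hker _ (by rw [map_pow]; exact hxbp)⟩
      rwa [hpN S hSp, Subgroup.mem_bot] at h1
    have hsB := hH2 S hSp hBS (hSL.trans inf_le_left) s hs hsp
    exact mem_map_of_mem π hsB
  have hcore := main_core (G := G ⧸ N) hp2 hGq hbotq (B.map π) hB' hBc' (π b₀)
    (mem_map_of_mem π hb₀) hH2' (Q.map π) hQ' hBQ'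
  have h1 : Q ≤ π.ker := (Subgroup.map_eq_bot_iff Q).mp hcore
  rwa [hπ, QuotientGroup.ker_mk'] at h1

/-- Let p be an odd prime, G a finite p-solvable group, and B an elementary abelian subgroup of order p² such that B is the subgroup generated by the elements of order p of some Sylow p-subgroup of C_G(b₀), for some nontrivial b₀ ∈ B. Then every B-invariant subgroup of G of order prime to p lies in O_{p'}(G). -/
theorem result {G : Type*} [Group G] [Finite G] {p : ℕ} [Fact p.Prime] (hp : p ≠ 2)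
    (hG : Cfsg.IsPSolvable p G) (B : Subgroup G) (hB : Cfsg.IsElementaryAbelian p B) (hBc : Nat.card B = p ^ 2)
    (b₀ : G) (hb₀ : b₀ ∈ B) (hb₁ : b₀ ≠ 1) (P : Sylow p ↥(Subgroup.centralizer ({b₀} : Set G)))
    (hBP : B = Subgroup.closure {x : G | x ∈ ((P : Subgroup ↥(Subgroup.centralizer ({b₀} : Set G))).map
      (Subgroup.centralizer ({b₀} : Set G)).subtype : Subgroup G) ∧ orderOf x = p})
    (Q : Subgroup G) (hQ : ¬ p ∣ Nat.card Q) (hinv : ∀ b ∈ B, ∀ x ∈ Q, b * x * b⁻¹ ∈ Q) :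
    Q ≤ Cfsg.pPrimeCore p G := by
  have hpr : p.Prime := Fact.out
  have hH2 : H2 p B b₀ := H2_of_sylow B hB b₀ P hBP
  have hBQ : B ≤ normalizer (Q : Set G) := by
    intro b hb
    apply Subgroup.mem_normalizer_fintype
    intro x hx
    exact hinv b hb x hx
  have hQ' : (Nat.card Q).Coprime p := ((Nat.Prime.coprime_iff_not_dvd hpr).mpr hQ).symm
  exact main hp hG B hB hBc b₀ hb₀ hH2 Q hQ' hBQ

end Cfsg.Agent.S1902
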