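import Mathlib
import Cfsg.Statements.S1906
import Cfsg.Agent.Lib.Helper9.G3H

set_option autoImplicit false
open Cfsg

namespace Cfsg.Agent.S1906

/-- Let G be a finite group with no subgroup of index 2 whose Sylow 2-subgroup X embeds in GL₃(F) for a finite field F of odd order. If X contains an elementary abelian subgroup of order 8, then X is abelian. -/
theorem result {G : Type*} [Group G] [Finite G] (hG : ∀ H : Subgroup G, H.index ≠ 2) (X : Sylow 2 G)
    {F : Type*} [Field F] [Fintype F] (hF : Odd (Fintype.card F))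
    (f : ↥(X : Subgroup G) →* GL (Fin 3) F) (hf : Function.Injective f)
    (E : Subgroup G) (hE : E ≤ (X : Subgroup G)) (hEa : Cfsg.IsElementaryAbelian 2 E) (hE8 : Nat.card E = 8) :
    IsMulCommutative (X : Subgroup G) := by
  by_contra hnc
  have hnc' : ∃ x ∈ (X : Subgroup G), ∃ y ∈ (X : Subgroup G), x * y ≠ y * x := by
    by_contra h
    push Not at h
    apply hnc
    exact ⟨⟨fun a b => Subtype.ext (h a a.2 b b.2)⟩⟩
  obtain ⟨χ, π, hinj⟩ := Cfsg.Agent.Lib.Helper9.G3.exists_homs X.isPGroup' hF f hf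
  have D : Cfsg.Agent.Lib.Helper9.G3.LinDat ↥(X : Subgroup G) F :=
    ⟨χ, π, hinj, Cfsg.Agent.Lib.Helper9.G3.two_ne_zero_of_odd_card hF⟩
  have hEc : ∀ a ∈ E, ∀ b ∈ E, a * b = b * a := by
    intro a ha b hb
    have h1 := hEa.1.is_comm.comm (⟨a, ha⟩ : ↥E) ⟨b, hb⟩
    exact congrArg Subtype.val h1
  have hE2 : ∀ e ∈ E, e * e = 1 := by
    intro e he
    have := hEa.2 e he
    rwa [pow_two] at this
  obtain ⟨d⟩ := Cfsg.Agent.Lib.Helper9.G3.nonempty_dat (X : Subgroup G) X.isPGroup' D hnc' E hE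
    hEc hE2 hE8
  exact d.false_of_no_index_two hG

end Cfsg.Agent.S1906
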