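import Cfsg.Statements.S1907
import Cfsg.Agent.Lib.Helper10.PComponent
import Cfsg.Agent.Lib.Helper16.SylowInf
import Cfsg.Agent.Lib.Helper13.Sylow
import Cfsg.Agent.Lib.Helper9.Conj
import Cfsg.Agent.Lib.Helper1.Cores

set_option autoImplicit false
open Cfsg

namespace Cfsg.Agent.S1907

open Subgroup Cfsg.Agent.Lib.Helper9
open scoped commutatorElement

section Aux

variable {G : Type*} [Group G] [Finite G] {p : ℕ} [hp : Fact p.Prime]

/-- Part (a) in abstract form. -/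
theorem decomp (P : Sylow p G) (D K : Subgroup G) [D.Normal] [K.Normal]
    (hD : (Nat.card D).Coprime p) {y : G}
    (hy : y ∈ normalizer (((P : Subgroup G) ⊓ K : Subgroup G) : Set G))
    (hyp : ∃ k : ℕ, orderOf y = p ^ k) {d : G} (hd : d ∈ D)
    (hdy : d⁻¹ * y * d ∈ normalizer (((P : Subgroup G) ⊓ K : Subgroup G) : Set G)) :
    ∃ d₁ ∈ D ⊓ centralizer ({y} : Set G),
      ∃ d₂ ∈ D ⊓ centralizer ((((P : Subgroup G) ⊓ K : Subgroup G)) : Set G), d = d₁ * d₂ := by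
  obtain ⟨H, hH⟩ : ∃ H : Subgroup G, H = (P : Subgroup G) ⊓ K := ⟨_, rfl⟩
  rw [← hH] at hy hdy ⊢
  have hHp : IsPGroup p H := by rw [hH]; exact P.2.to_le inf_le_left
  have hHK : H ≤ K := by rw [hH]; exact inf_le_right
  obtain ⟨k, hk⟩ := hyp
  have hYp : IsPGroup p (zpowers y) := by
    rw [IsPGroup.iff_card]
    exact ⟨k, by rw [Nat.card_zpowers, hk]⟩
  -- T = H Y
  have hTp : IsPGroup p (H ⊔ zpowers y : Subgroup G) :=
    hHp.to_sup_of_normal_left' hYp (zpowers_le.mpr hy)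
  -- H' = d H d⁻¹
  obtain ⟨H', hH'⟩ : ∃ H' : Subgroup G, H' = H.map (MulAut.conj d).toMonoidHom := ⟨_, rfl⟩
  have hH'p : IsPGroup p H' := by rw [hH']; exact hHp.map _
  have hyH' : y ∈ normalizer (H' : Set G) := by
    rw [mem_normalizer_iff]
    intro x
    rw [hH', mem_conjMap, mem_conjMap]
    have h1 := (mem_normalizer_iff.mp hdy) (d⁻¹ * x * d)
    rw [h1]
    have h2 : d⁻¹ * y * d * (d⁻¹ * x * d) * (d⁻¹ * y * d)⁻¹ = d⁻¹ * (y * x * y⁻¹) * d := by group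
    rw [h2]
  have hT'p : IsPGroup p (H' ⊔ zpowers y : Subgroup G) :=
    hH'p.to_sup_of_normal_left' hYp (zpowers_le.mpr hyH')
  -- T' ≤ D ⊔ T
  have hH'le : H' ≤ (H ⊔ zpowers y) ⊔ D := by
    rw [hH']
    rintro x ⟨h, hh, rfl⟩
    have h1 : (MulAut.conj d).toMonoidHom h = ⁅d, h⁆ * h := by
      simp only [MulEquiv.coe_toMonoidHom, MulAut.conj_apply, commutatorElement_def]; group
    rw [h1]
    apply mul_mem
    · apply mem_sup_right
      have h2 : ⁅d, h⁆ = d * (h * d⁻¹ * h⁻¹) := by rw [commutatorElement_def]; group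
      rw [h2]
      exact mul_mem hd (‹D.Normal›.conj_mem _ (inv_mem hd) h)
    · exact mem_sup_left (mem_sup_left hh)
  have hT'le : H' ⊔ zpowers y ≤ (H ⊔ zpowers y) ⊔ D :=
    sup_le hH'le (le_sup_right.trans le_sup_left)
  -- T has p'-index in T ⊔ D
  have hidx : ¬ p ∣ (H ⊔ zpowers y).relIndex ((H ⊔ zpowers y) ⊔ D) := by
    rw [← Cfsg.Agent.Lib.Helper16.relIndex_eq_relIndex_sup_of_normal']
    intro hdvd
    have h1 : p ∣ Nat.card D := hdvd.trans (Subgroup.relIndex_dvd_card _ _)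
    have := Nat.Coprime.eq_one_of_dvd hD.symm h1
    exact hp.out.one_lt.ne' this
  obtain ⟨g, hg, hgT⟩ := Cfsg.Agent.Lib.Helper13.exists_conj_le_of_relIndex
    ((H ⊔ zpowers y) ⊔ D) (H ⊔ zpowers y) (H' ⊔ zpowers y) hTp hidx hT'le hT'p
  -- g = t * c
  rw [← SetLike.mem_coe, mul_normal] at hg
  obtain ⟨t, ht, c, hc, rfl⟩ := hg
  have hcT : ∀ x ∈ H' ⊔ zpowers y, c * x * c⁻¹ ∈ H ⊔ zpowers y := by
    intro x hx
    have h1 := hgT x hx
    have h2 : c * x * c⁻¹ = t⁻¹ * (t * c * x * (t * c)⁻¹) * t := by group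
    rw [h2]
    exact mul_mem (mul_mem (inv_mem ht) h1) ht
  have hTD : (H ⊔ zpowers y) ⊓ D = ⊥ := by
    apply Subgroup.inf_eq_bot_of_coprime
    obtain ⟨m, hm⟩ := IsPGroup.iff_card.mp hTp
    rw [hm]
    exact Nat.Coprime.pow_left _ hD.symm
  -- c centralizes y
  have hcy : c * y = y * c := by
    have h1 : c * y * c⁻¹ ∈ H ⊔ zpowers y := hcT y (mem_sup_right (mem_zpowers y))
    have h2 : c * y * c⁻¹ * y⁻¹ ∈ (H ⊔ zpowers y) ⊓ D := by
      refine mem_inf.mpr ⟨mul_mem h1 (inv_mem (mem_sup_right (mem_zpowers y))), ?_⟩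
      have h3 : c * y * c⁻¹ * y⁻¹ = c * (y * c⁻¹ * y⁻¹) := by group
      rw [h3]
      exact mul_mem hc (‹D.Normal›.conj_mem _ (inv_mem hc) y)
    rw [hTD, mem_bot] at h2
    have h4 : c * y = (c * y * c⁻¹ * y⁻¹) * (y * c) := by group
    rw [h4, h2, one_mul]
  -- (c d) normalizes H
  have hTK : (H ⊔ zpowers y) ⊓ K = H := by
    refine (Cfsg.Agent.Lib.Helper16.eq_sylowInf_of_le P K _ (hTp.to_le inf_le_left) inf_le_right
      ?_).trans hH.symm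
    rw [← hH]
    exact le_inf le_sup_left hHK
  have hcdH : H.map (MulAut.conj (c * d)).toMonoidHom ≤ H := by
    rintro x ⟨h, hh, rfl⟩
    rw [← hTK]
    have h1 : (MulAut.conj (c * d)).toMonoidHom h = c * (d * h * d⁻¹) * c⁻¹ := by
      simp only [MulEquiv.coe_toMonoidHom, MulAut.conj_apply]; group
    rw [h1]
    refine mem_inf.mpr ⟨hcT _ (mem_sup_left ?_), ?_⟩
    · rw [hH']; exact conj_mem_conjMap hh
    · exact ‹K.Normal›.conj_mem _ (‹K.Normal›.conj_mem _ (hHK hh) d) c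
  have hcdN : c * d ∈ normalizer (H : Set G) :=
    mem_normalizer_of_conjMap_eq_self (conjMap_eq_of_le hcdH)
  have hcdD : c * d ∈ D := mul_mem hc hd
  have hHD : H ⊓ D = ⊥ := by
    rw [eq_bot_iff, ← hTD]
    exact inf_le_inf_right _ le_sup_left
  have hcdC : c * d ∈ centralizer (H : Set G) := by
    rw [mem_centralizer_iff]
    intro h hh
    have h1 : (c * d) * h * (c * d)⁻¹ ∈ H := (mem_normalizer_iff.mp hcdN h).mp hh
    have h2 : (c * d) * h * (c * d)⁻¹ * h⁻¹ ∈ H ⊓ D := by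
      refine mem_inf.mpr ⟨mul_mem h1 (inv_mem hh), ?_⟩
      have h3 : (c * d) * h * (c * d)⁻¹ * h⁻¹ = (c * d) * (h * (c * d)⁻¹ * h⁻¹) := by group
      rw [h3]
      exact mul_mem hcdD (‹D.Normal›.conj_mem _ (inv_mem hcdD) h)
    rw [hHD, mem_bot] at h2
    have h4 : h * (c * d) = ((c * d) * h * (c * d)⁻¹ * h⁻¹)⁻¹ * ((c * d) * h) := by group
    rw [h4, h2, inv_one, one_mul]
  refine ⟨c⁻¹, mem_inf.mpr ⟨inv_mem hc, ?_⟩, c * d, mem_inf.mpr ⟨hcdD, hcdC⟩, by group⟩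
  rw [mem_centralizer_singleton_iff]
  have h5 : Commute c y := hcy
  exact h5.inv_left.eq

/-- `O_{p',p}(G) = O_{p'}(G) (P ∩ O_{p',p}(G))`. -/
theorem pPrimePCore_eq_sup (P : Sylow p G) :
    pPrimePCore p G = pPrimeCore p G ⊔ ((P : Subgroup G) ⊓ pPrimePCore p G) := by
  have h1 := Cfsg.Agent.Lib.Helper10.map_mk_sylow_pPrimePCore p
    (Cfsg.Agent.Lib.Helper16.sylowInf P (pPrimePCore p G))
  rw [Cfsg.Agent.Lib.Helper16.map_sylowInf] at h1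
  have h2 : pPrimePCore p G = (pCore p (G ⧸ pPrimeCore p G)).comap
      (QuotientGroup.mk' (pPrimeCore p G)) := rfl
  conv_lhs => rw [h2, ← h1, QuotientGroup.comap_map_mk']

theorem fusion (P : Sylow p G) (x y : G) (hx : x ∈ (P : Subgroup G)) (hy : y ∈ (P : Subgroup G))
    (hxy : IsConj x y)
    (hA : ∀ y ∈ Subgroup.normalizer (((P : Subgroup G) ⊓ Cfsg.pPrimePCore p G : Subgroup G) : Set G),
      (∃ k : ℕ, orderOf y = p ^ k) →
      ∀ d ∈ Cfsg.pPrimeCore p G, d⁻¹ * y * d ∈ Subgroup.normalizer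
        (((P : Subgroup G) ⊓ Cfsg.pPrimePCore p G : Subgroup G) : Set G) →
        ∃ d₁ ∈ Cfsg.pPrimeCore p G ⊓ Subgroup.centralizer ({y} : Set G),
          ∃ d₂ ∈ Cfsg.pPrimeCore p G ⊓ Subgroup.centralizer
            (((P : Subgroup G) ⊓ Cfsg.pPrimePCore p G : Subgroup G) : Set G), d = d₁ * d₂) :
    ∃ n ∈ Subgroup.normalizer (((P : Subgroup G) ⊓ Cfsg.pPrimePCore p G : Subgroup G) : Set G),
      n * x * n⁻¹ = y := by
  haveI : (pPrimeCore p G).Normal := Cfsg.pPrimeCore_normal p G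
  obtain ⟨g, hg⟩ := isConj_iff.mp hxy
  obtain ⟨a, ha, c, hc, rfl⟩ := Cfsg.Agent.Lib.Helper16.frattini_inf_normal P (pPrimePCore p G) g
  -- c = d * h
  rw [pPrimePCore_eq_sup P, ← SetLike.mem_coe, normal_mul] at hc
  obtain ⟨d, hd, h, hh, rfl⟩ := hc
  dsimp only at hg
  obtain ⟨H, hH⟩ : ∃ H : Subgroup G, H = (P : Subgroup G) ⊓ pPrimePCore p G := ⟨_, rfl⟩
  rw [← hH] at ha hh hA ⊢
  have hPN : (P : Subgroup G) ≤ normalizer (H : Set G) := by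
    rw [hH]
    refine le_trans (le_inf le_normalizer ?_) (inf_normalizer_le_normalizer_inf)
    rw [normalizer_eq_top]
    exact le_top
  have hHN : H ≤ normalizer (H : Set G) := le_normalizer
  -- x is a p-element
  have hxp : ∃ k : ℕ, orderOf x = p ^ k := by
    obtain ⟨k, hk⟩ := (IsPGroup.iff_orderOf.1 P.2) ⟨x, hx⟩
    exact ⟨k, by rw [← hk]; simp⟩
  have hhx : ∃ k : ℕ, orderOf (h * x * h⁻¹) = p ^ k := by
    obtain ⟨k, hk⟩ := hxp
    refine ⟨k, ?_⟩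
    rw [← hk]
    have : h * x * h⁻¹ = MulAut.conj h x := by simp
    rw [this, MulEquiv.orderOf_eq]
  -- x' = h x h⁻¹ ∈ N, d x' d⁻¹ = a⁻¹ y a ∈ N
  have hx'N : h * x * h⁻¹ ∈ normalizer (H : Set G) :=
    mul_mem (mul_mem (hHN hh) (hPN hx)) (inv_mem (hHN hh))
  have hdx' : (d⁻¹)⁻¹ * (h * x * h⁻¹) * d⁻¹ ∈ normalizer (H : Set G) := by
    have h1 : (d⁻¹)⁻¹ * (h * x * h⁻¹) * d⁻¹ = a⁻¹ * y * a := by
      rw [← hg]; group
    rw [h1]
    exact mul_mem (mul_mem (inv_mem ha) (hPN hy)) ha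
  obtain ⟨d₁, hd₁, d₂, hd₂, hdd⟩ := hA _ hx'N hhx d⁻¹ (inv_mem hd) hdx'
  rw [mem_inf] at hd₁ hd₂
  have hd₁c : d₁ * (h * x * h⁻¹) = (h * x * h⁻¹) * d₁ := by
    have := mem_centralizer_singleton_iff.mp hd₁.2
    exact this
  have hd₂N : d₂ ∈ normalizer (H : Set G) := centralizer_le_normalizer _ hd₂.2
  refine ⟨a * d₂⁻¹ * h, mul_mem (mul_mem ha (inv_mem hd₂N)) (hHN hh), ?_⟩
  have hd_eq : d = d₂⁻¹ * d₁⁻¹ := by
    have : d = (d⁻¹)⁻¹ := (inv_inv d).symm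
    rw [this, hdd, mul_inv_rev]
  rw [← hg, hd_eq]
  have h3 : d₁⁻¹ * (h * x * h⁻¹) * d₁ = h * x * h⁻¹ := by
    rw [mul_assoc, ← hd₁c, inv_mul_cancel_left]
  calc a * d₂⁻¹ * h * x * (a * d₂⁻¹ * h)⁻¹ = a * d₂⁻¹ * (h * x * h⁻¹) * d₂ * a⁻¹ := by group
    _ = a * d₂⁻¹ * (d₁⁻¹ * (h * x * h⁻¹) * d₁) * d₂ * a⁻¹ := by rw [h3]
    _ = a * (d₂⁻¹ * d₁⁻¹ * h) * x * (a * (d₂⁻¹ * d₁⁻¹ * h))⁻¹ := by group

end Aux

theorem result {G : Type*} [Group G] [Finite G] {p : ℕ} [Fact p.Prime] (P : Sylow p G) :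
    (∀ y ∈ Subgroup.normalizer (((P : Subgroup G) ⊓ Cfsg.pPrimePCore p G : Subgroup G) : Set G), (∃ k : ℕ, orderOf y = p ^ k) →
      ∀ d ∈ Cfsg.pPrimeCore p G, d⁻¹ * y * d ∈ Subgroup.normalizer (((P : Subgroup G) ⊓ Cfsg.pPrimePCore p G : Subgroup G) : Set G) →
        ∃ d₁ ∈ Cfsg.pPrimeCore p G ⊓ Subgroup.centralizer ({y} : Set G),
          ∃ d₂ ∈ Cfsg.pPrimeCore p G ⊓ Subgroup.centralizer (((P : Subgroup G) ⊓ Cfsg.pPrimePCore p G : Subgroup G) : Set G), d = d₁ * d₂) ∧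
    ∀ x y : G, x ∈ (P : Subgroup G) → y ∈ (P : Subgroup G) → IsConj x y →
      ∃ n ∈ Subgroup.normalizer (((P : Subgroup G) ⊓ Cfsg.pPrimePCore p G : Subgroup G) : Set G), n * x * n⁻¹ = y := by
  haveI : (pPrimeCore p G).Normal := Cfsg.pPrimeCore_normal p G
  have hA : ∀ y ∈ Subgroup.normalizer (((P : Subgroup G) ⊓ Cfsg.pPrimePCore p G : Subgroup G) : Set G), (∃ k : ℕ, orderOf y = p ^ k) →
      ∀ d ∈ Cfsg.pPrimeCore p G, d⁻¹ * y * d ∈ Subgroup.normalizer (((P : Subgroup G) ⊓ Cfsg.pPrimePCore p G : Subgroup G) : Set G) →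
        ∃ d₁ ∈ Cfsg.pPrimeCore p G ⊓ Subgroup.centralizer ({y} : Set G),
          ∃ d₂ ∈ Cfsg.pPrimeCore p G ⊓ Subgroup.centralizer (((P : Subgroup G) ⊓ Cfsg.pPrimePCore p G : Subgroup G) : Set G), d = d₁ * d₂ := by
    intro y hy hyp d hd hdy
    exact decomp P (pPrimeCore p G) (pPrimePCore p G)
      (Cfsg.Agent.Lib.Helper1.pPrimeCore_coprime p) hy hyp hd hdy
  exact ⟨hA, fun x y hx hy hxy => fusion P x y hx hy hxy hA⟩

end Cfsg.Agent.S1907
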