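import Cfsg.Statements.S1910
import Cfsg.Agent.Lib.Helper13.RelSylow
import Cfsg.Agent.Lib.Helper13.PGroup
import Cfsg.Agent.Lib.Helper9.Misc

set_option autoImplicit false
open Cfsg

namespace Cfsg.Agent.S1910

open Cfsg.Agent.Lib.Helper13

local notation:max "cj(" x ", " H ")" => Subgroup.map (MulEquiv.toMonoidHom (MulAut.conj x)) H
local notation:max "N(" H ")" => Subgroup.normalizer (SetLike.coe H)

section aux
variable {G : Type*} [Group G]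

/-- a `2`-subgroup of a subgroup of odd order is trivial -/
theorem eq_bot_of_odd [Finite G] {U H : Subgroup G} (hU : IsPGroup 2 U) (hUH : U ≤ H)
    (hH : Odd (Nat.card H)) : U = ⊥ := by
  obtain ⟨n, hn⟩ := hU.exists_card_eq
  have hdvd : Nat.card U ∣ Nat.card H := Subgroup.card_dvd_of_le hUH
  rcases Nat.eq_zero_or_pos n with h0 | hpos
  · rw [h0, pow_zero] at hn
    exact Subgroup.card_eq_one.mp hn
  · exfalso
    have h2 : 2 ∣ Nat.card H := dvd_trans (hn ▸ dvd_pow_self 2 hpos.ne') hdvd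
    exact (Nat.not_even_iff_odd.mpr hH) (even_iff_two_dvd.mpr h2)

theorem odd_inf_conj [Finite G] {Q : Subgroup G} (hQ : IsTightlyEmbedded Q) (x y : G)
    (hne : cj(x, Q) ≠ cj(y, Q)) : Odd (Nat.card ↥(cj(x, Q) ⊓ cj(y, Q))) := by
  have hxy : x * (x⁻¹ * y) = y := mul_inv_cancel_left x y
  have hn : x⁻¹ * y ∉ N(Q) := by
    intro h
    apply hne
    have h1 := (map_conj_eq_self_iff_mem_normalizer Q (x⁻¹ * y)).mpr h
    have h2 : cj(y, Q) = cj(x, cj(x⁻¹ * y, Q)) := by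
      rw [← map_conj_mul, hxy]
    rw [h2, h1]
  have h1 := hQ.2 _ hn
  have h3 : cj(x, Q) ⊓ cj(y, Q) = cj(x, Q ⊓ cj(x⁻¹ * y, Q)) := by
    rw [Subgroup.map_inf _ _ _ (MulAut.conj x).injective, ← map_conj_mul, hxy]
  rw [h3, card_map_conj]
  exact h1

theorem tight_conj [Finite G] {Q : Subgroup G} (hQ : IsTightlyEmbedded Q) (x : G) :
    IsTightlyEmbedded cj(x, Q) := by
  refine ⟨by rw [card_map_conj]; exact hQ.1, fun n hn => ?_⟩
  have hne : cj(x, Q) ≠ cj(n * x, Q) := by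
    intro h
    apply hn
    rw [← map_conj_eq_self_iff_mem_normalizer, ← map_conj_mul]
    exact h.symm
  have := odd_inf_conj hQ x (n * x) hne
  rwa [map_conj_mul] at this

theorem normalizer_le_of_tight [Finite G] {K U : Subgroup G} (hK : IsTightlyEmbedded K)
    (hU : IsPGroup 2 U) (hU1 : U ≠ ⊥) (hUK : U ≤ K) : N(U) ≤ N(K) := by
  intro n hn
  by_contra hnK
  apply hU1
  have hodd := hK.2 n hnK
  refine eq_bot_of_odd hU (le_inf hUK ?_) hodd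
  have : cj(n, U) = U := (map_conj_eq_self_iff_mem_normalizer U n).mpr hn
  rw [← this]
  exact Subgroup.map_mono hUK

theorem part1 [Finite G] {Q B T : Subgroup G} (hQB : Odd (Nat.card ↥(Q ⊓ B))) (hTB : T ≤ B)
    (hTp : IsPGroup 2 T) : T ⊓ Q = ⊥ :=
  eq_bot_of_odd (hTp.to_le inf_le_left) (le_inf inf_le_right (inf_le_left.trans hTB)) hQB

theorem part3 {Q T S : Subgroup G} (hTN : T ≤ N(Q)) (hTQ : T ⊓ Q = ⊥) :
    ∀ t ∈ T, ∀ r ∈ S ⊓ N(T) ⊓ Q, t * r = r * t := by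
  intro t ht r hr
  have hrQ : r ∈ Q := (Subgroup.mem_inf.mp hr).2
  have hrN : r ∈ N(T) := (Subgroup.mem_inf.mp (Subgroup.mem_inf.mp hr).1).2
  have h1 : t * r * t⁻¹ * r⁻¹ ∈ T ⊓ Q := by
    refine Subgroup.mem_inf.mpr ⟨?_, ?_⟩
    · have h2 : r * t⁻¹ * r⁻¹ ∈ T :=
        (Subgroup.mem_normalizer_iff.mp hrN t⁻¹).mp (T.inv_mem ht)
      have e : t * r * t⁻¹ * r⁻¹ = t * (r * t⁻¹ * r⁻¹) := by group
      rw [e]; exact T.mul_mem ht h2
    · have h2 : t * r * t⁻¹ ∈ Q := (Subgroup.mem_normalizer_iff.mp (hTN ht) r).mp hrQ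
      exact Q.mul_mem h2 (Q.inv_mem hrQ)
  rw [hTQ, Subgroup.mem_bot] at h1
  have h3 : t * r = (t * r * t⁻¹ * r⁻¹) * (r * t) := by group
  rw [h3, h1, one_mul]

theorem part4 {Q T S : Subgroup G} (hTN : T ≤ N(Q)) (hTS : T ≤ S) (hS : S ≤ Q ⊔ T) :
    T ⊔ (S ⊓ N(T) ⊓ Q) = S ⊓ N(T) := by
  apply le_antisymm
  · exact sup_le (le_inf hTS Subgroup.le_normalizer) inf_le_left
  · intro s hs
    have hsS : s ∈ S := (Subgroup.mem_inf.mp hs).1
    have hsN : s ∈ N(T) := (Subgroup.mem_inf.mp hs).2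
    obtain ⟨q, hq, t, ht, hqt⟩ :=
      (Cfsg.Agent.Lib.Helper9.mem_sup_of_le_normalizer hTN).mp (hS hsS)
    have hqe : q = s * t⁻¹ := by rw [← hqt]; group
    have hqR : q ∈ S ⊓ N(T) ⊓ Q := by
      refine Subgroup.mem_inf.mpr ⟨Subgroup.mem_inf.mpr ⟨?_, ?_⟩, hq⟩
      · rw [hqe]; exact S.mul_mem hsS (S.inv_mem (hTS ht))
      · rw [hqe]
        exact Subgroup.mul_mem _ hsN (Subgroup.inv_mem _ (Subgroup.le_normalizer ht))
    rw [← hqt]
    exact Subgroup.mul_mem _ (Subgroup.mem_sup_right hqR) (Subgroup.mem_sup_left ht)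

/-- projection of a complement `Y` of `T` in `T × R` onto `R` -/
theorem proj_lemma [Finite G] (T R Y : Subgroup G)
    (hcomm : ∀ t ∈ T, ∀ r ∈ R, t * r = r * t) (hTR : T ⊓ R = ⊥)
    (hY : Y ≤ T ⊔ R) (hYT : Y ⊓ T = ⊥) :
    Nat.card Y ≤ Nat.card R ∧ (Nat.card Y = Nat.card R → Nonempty (Y ≃* R)) := by
  have hRN : R ≤ N(T) := by
    intro r hr
    rw [← map_conj_eq_self_iff_mem_normalizer]
    apply Subgroup.eq_of_le_of_card_ge
    · rw [map_conj_le_iff]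
      intro t ht
      have : r * t * r⁻¹ = t := by rw [← hcomm t ht r hr]; group
      rw [this]; exact ht
    · rw [card_map_conj]
  have ex : ∀ y : Y, ∃ r : R, (y : G) * (r : G)⁻¹ ∈ T := by
    intro y
    obtain ⟨t, ht, r, hr, htr⟩ :=
      (Cfsg.Agent.Lib.Helper9.mem_sup_of_le_normalizer hRN).mp (hY y.2)
    refine ⟨⟨r, hr⟩, ?_⟩
    have : (y : G) * r⁻¹ = t := by rw [← htr]; group
    show (y : G) * r⁻¹ ∈ T
    rw [this]; exact ht
  choose f hf using ex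
  have huniq : ∀ (y : Y) (r : R), (y : G) * (r : G)⁻¹ ∈ T → f y = r := by
    intro y r hr
    have h1 := hf y
    have h2 : ((f y : G)) * (r : G)⁻¹ ∈ T ⊓ R := by
      refine Subgroup.mem_inf.mpr ⟨?_, R.mul_mem (f y).2 (R.inv_mem r.2)⟩
      have : (f y : G) * (r : G)⁻¹ = ((y : G) * (f y : G)⁻¹)⁻¹ * ((y : G) * (r : G)⁻¹) := by
        group
      rw [this]; exact T.mul_mem (T.inv_mem h1) hr
    rw [hTR, Subgroup.mem_bot] at h2
    apply Subtype.ext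
    exact mul_inv_eq_one.mp h2
  have hmul : ∀ a b : Y, f (a * b) = f a * f b := by
    intro a b
    apply huniq
    have ha := hf a
    have hb := hf b
    have hc := hcomm _ hb (f a : G)⁻¹ (R.inv_mem (f a).2)
    have : ((a * b : Y) : G) * ((f a * f b : R) : G)⁻¹ =
        ((a : G) * (f a : G)⁻¹) * ((b : G) * (f b : G)⁻¹) := by
      simp only [Subgroup.coe_mul, mul_inv_rev]
      calc (a : G) * b * ((f b : G)⁻¹ * (f a : G)⁻¹)
          = a * ((b : G) * (f b : G)⁻¹ * (f a : G)⁻¹) := by group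
        _ = a * ((f a : G)⁻¹ * ((b : G) * (f b : G)⁻¹)) := by rw [hc]
        _ = _ := by group
    rw [this]; exact T.mul_mem ha hb
  let φ : Y →* R := MonoidHom.mk' f hmul
  have hinj : Function.Injective φ := by
    rw [injective_iff_map_eq_one]
    intro y hy
    have h1 := hf y
    have hy' : f y = 1 := hy
    rw [hy'] at h1
    have h2 : (y : G) ∈ T := by simpa using h1
    have h3 : (y : G) ∈ Y ⊓ T := Subgroup.mem_inf.mpr ⟨y.2, h2⟩
    rw [hYT, Subgroup.mem_bot] at h3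
    exact Subtype.ext h3
  refine ⟨Nat.card_le_card_of_injective φ hinj, fun hc => ?_⟩
  have hbij : Function.Bijective φ := hinj.bijective_of_nat_card_le hc.ge
  exact ⟨MulEquiv.ofBijective φ hbij⟩

theorem key [Finite G] (Q : Subgroup G) (hQ : IsTightlyEmbedded Q) (g : G)
    (hg : g ∉ N(Q))
    (T : Subgroup G) (hTB : T ≤ cj(g, Q)) (hTN : T ≤ N(Q))
    (hTp : IsPGroup 2 T)
    (S : Subgroup G) (hTS : T ≤ S) (hS : S ≤ Q ⊔ T) (hSp : IsPGroup 2 S)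
    (hSi : ¬ 2 ∣ S.relIndex (Q ⊔ T)) :
    Nat.card T ≤ Nat.card ↥(S ⊓ N(T) ⊓ Q) ∧
      (Nat.card T = Nat.card ↥(S ⊓ N(T) ⊓ Q) →
        Nonempty (↥(S ⊓ N(T) ⊓ Q) ≃* T)) := by
  classical
  have hB : IsTightlyEmbedded cj(g, Q) := tight_conj hQ g
  have hQB : Odd (Nat.card ↥(Q ⊓ cj(g, Q))) := hQ.2 g hg
  have hTQ : T ⊓ Q = ⊥ := part1 hQB hTB hTp
  have hcomm := part3 (S := S) hTN hTQ
  have h4 := part4 hTN hTS hS
  have hQTN : Q ⊔ T ≤ N(Q) := sup_le Subgroup.le_normalizer hTN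
  by_cases hSN : S ≤ N(T)
  · -- Case A
    have hRe : S ⊓ N(T) ⊓ Q = S ⊓ Q := by rw [inf_eq_left.mpr hSN]
    have hT₀Q : cj(g⁻¹, T) ≤ Q := by
      have := Subgroup.map_mono (f := (MulAut.conj g⁻¹).toMonoidHom) hTB
      rwa [map_conj_inv_map_conj] at this
    obtain ⟨h, hh, hconj⟩ := exists_conj_le_of_relIndex (Q ⊔ T) S cj(g⁻¹, T) hSp hSi
      (hT₀Q.trans le_sup_left) (hTp.map _)
    have hYS : cj(h, cj(g⁻¹, T)) ≤ S := (map_conj_le_iff _ _ _).mpr hconj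
    have hYQ : cj(h, cj(g⁻¹, T)) ≤ Q := by
      have h1 : cj(h, cj(g⁻¹, T)) ≤ cj(h, Q) := Subgroup.map_mono hT₀Q
      rwa [(map_conj_eq_self_iff_mem_normalizer Q h).mpr (hQTN hh)] at h1
    have hYR : cj(h, cj(g⁻¹, T)) ≤ S ⊓ N(T) ⊓ Q := by rw [hRe]; exact le_inf hYS hYQ
    have hYc : Nat.card cj(h, cj(g⁻¹, T)) = Nat.card T := by
      rw [card_map_conj, card_map_conj]
    refine ⟨hYc ▸ Subgroup.card_le_of_le hYR, fun hc => ?_⟩
    have hYeq : cj(h, cj(g⁻¹, T)) = S ⊓ N(T) ⊓ Q :=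
      Subgroup.eq_of_le_of_card_ge hYR (by rw [hYc, hc])
    have e1 : T ≃* cj(g⁻¹, T) := T.equivMapOfInjective _ (MulAut.conj g⁻¹).injective
    have e2 : cj(g⁻¹, T) ≃* cj(h, cj(g⁻¹, T)) :=
      Subgroup.equivMapOfInjective _ _ (MulAut.conj h).injective
    have e3 : cj(h, cj(g⁻¹, T)) ≃* ↥(S ⊓ N(T) ⊓ Q) := MulEquiv.subgroupCongr hYeq
    exact ⟨(e1.trans (e2.trans e3)).symm⟩
  · -- Case B
    have hMlt : S ⊓ N(T) < S :=
      lt_of_le_of_ne inf_le_left (fun h => hSN (by rw [← h]; exact inf_le_right))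
    obtain ⟨x, hx, hxM⟩ := SetLike.exists_of_lt (lt_inf_normalizer_of_lt S (S ⊓ N(T)) hSp hMlt)
    have hxS : x ∈ S := (Subgroup.mem_inf.mp hx).1
    have hxNM : x ∈ N(S ⊓ N(T)) := (Subgroup.mem_inf.mp hx).2
    have hxNT : x ∉ N(T) := fun h => hxM (Subgroup.mem_inf.mpr ⟨hxS, h⟩)
    have hYM : cj(x, T) ≤ T ⊔ (S ⊓ N(T) ⊓ Q) := by
      rw [h4]
      have h1 : cj(x, T) ≤ cj(x, S ⊓ N(T)) :=
        Subgroup.map_mono (le_inf hTS Subgroup.le_normalizer)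
      rwa [(map_conj_eq_self_iff_mem_normalizer (S ⊓ N(T)) x).mpr hxNM] at h1
    have hYc : Nat.card cj(x, T) = Nat.card T := card_map_conj T x
    have hRp : IsPGroup 2 ↥(S ⊓ N(T) ⊓ Q) := hSp.to_le (inf_le_left.trans inf_le_left)
    have hRB : (S ⊓ N(T) ⊓ Q) ⊓ cj(g, Q) = ⊥ :=
      eq_bot_of_odd (hRp.to_le inf_le_left)
        (le_inf (inf_le_left.trans inf_le_right) inf_le_right) hQB
    have hRNT : S ⊓ N(T) ⊓ Q ≤ N(T) := inf_le_left.trans inf_le_right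
    have hxNB : x ∉ N(cj(g, Q)) := by
      intro hxB
      apply hxNT
      rw [← map_conj_eq_self_iff_mem_normalizer]
      refine Subgroup.eq_of_le_of_card_ge ?_ (by rw [card_map_conj])
      intro y hy
      have hyB : y ∈ cj(g, Q) := by
        have h1 : cj(x, T) ≤ cj(x, cj(g, Q)) := Subgroup.map_mono hTB
        rw [(map_conj_eq_self_iff_mem_normalizer cj(g, Q) x).mpr hxB] at h1
        exact h1 hy
      obtain ⟨t, ht, r, hr, htr⟩ :=
        (Cfsg.Agent.Lib.Helper9.mem_sup_of_le_normalizer hRNT).mp (hYM hy)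
      have hrB : r ∈ (S ⊓ N(T) ⊓ Q) ⊓ cj(g, Q) := by
        refine Subgroup.mem_inf.mpr ⟨hr, ?_⟩
        have : r = t⁻¹ * y := by rw [← htr]; group
        rw [this]
        exact Subgroup.mul_mem _ (Subgroup.inv_mem _ (hTB ht)) hyB
      rw [hRB, Subgroup.mem_bot] at hrB
      rw [← htr, hrB, mul_one]; exact ht
    have hodd := hB.2 x hxNB
    have hYT : cj(x, T) ⊓ T = ⊥ :=
      eq_bot_of_odd ((hTp.map _).to_le inf_le_left)
        (le_inf (inf_le_right.trans hTB) (inf_le_left.trans (Subgroup.map_mono hTB))) hodd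
    have hTR : T ⊓ (S ⊓ N(T) ⊓ Q) = ⊥ := by
      apply le_bot_iff.mp
      rw [← hTQ]
      exact inf_le_inf_left T inf_le_right
    obtain ⟨hle, hiso⟩ := proj_lemma T (S ⊓ N(T) ⊓ Q) cj(x, T) hcomm hTR hYM hYT
    refine ⟨hYc ▸ hle, fun hc => ?_⟩
    obtain ⟨e⟩ := hiso (by rw [hYc, hc])
    have e1 : T ≃* cj(x, T) := T.equivMapOfInjective _ (MulAut.conj x).injective
    exact ⟨(e1.trans e).symm⟩

end aux

/-- Let Q be a tightly embedded subgroup of a finite group G, g an element outside N_G(Q), T a nontrivial Sylow 2-subgroup of Q^g ∩ N_G(Q), and S a Sylow 2-subgroup of QT containing T. Then T ∩ Q = 1, and N_S(T) is the direct product of T and N_S(T) ∩ Q, with N_S(T) ∩ Q isomorphic to T. -/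
theorem result {G : Type*} [Group G] [Finite G] (Q : Subgroup G) (hQ : Cfsg.IsTightlyEmbedded Q)
    (g : G) (hg : g ∉ Subgroup.normalizer (Q : Set G))
    (T : Subgroup G) (hT1 : T ≠ ⊥) (hT : T ≤ Q.map (MulAut.conj g).toMonoidHom ⊓ Subgroup.normalizer (Q : Set G))
    (hTsyl : IsPGroup 2 T ∧ ¬ 2 ∣ T.relIndex (Q.map (MulAut.conj g).toMonoidHom ⊓ Subgroup.normalizer (Q : Set G)))
    (S : Subgroup G) (hTS : T ≤ S) (hS : S ≤ Q ⊔ T) (hSsyl : IsPGroup 2 S ∧ ¬ 2 ∣ S.relIndex (Q ⊔ T)) :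
    T ⊓ Q = ⊥ ∧
      T ⊓ (S ⊓ Subgroup.normalizer (T : Set G) ⊓ Q) = ⊥ ∧
      ⁅T, S ⊓ Subgroup.normalizer (T : Set G) ⊓ Q⁆ = ⊥ ∧
      T ⊔ (S ⊓ Subgroup.normalizer (T : Set G) ⊓ Q) = S ⊓ Subgroup.normalizer (T : Set G) ∧
      Nonempty (↥(S ⊓ Subgroup.normalizer (T : Set G) ⊓ Q) ≃* T) := by
  have : Fact (Nat.Prime 2) := ⟨Nat.prime_two⟩
  obtain ⟨hTB, hTN⟩ := le_inf_iff.mp hT
  have hB := tight_conj hQ g
  have hQB : Odd (Nat.card ↥(Q ⊓ cj(g, Q))) := hQ.2 g hg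
  have hTQ := part1 hQB hTB hTsyl.1
  have hcomm := part3 (S := S) hTN hTQ
  have h4 := part4 hTN hTS hS
  have hTR : T ⊓ (S ⊓ N(T) ⊓ Q) = ⊥ := by
    apply le_bot_iff.mp
    rw [← hTQ]
    exact inf_le_inf_left T inf_le_right
  refine ⟨hTQ, hTR, ?_, h4, ?_⟩
  · rw [Subgroup.commutator_eq_bot_iff_le_centralizer]
    intro t ht
    rw [Subgroup.mem_centralizer_iff]
    intro r hr
    exact (hcomm t ht r hr).symm
  · obtain ⟨hle, hiso⟩ := key Q hQ g hg T hTB hTN hTsyl.1 S hTS hS hSsyl.1 hSsyl.2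
    apply hiso
    apply le_antisymm hle
    have hT1' : 1 < Nat.card T := (Subgroup.one_lt_card_iff_ne_bot T).mpr hT1
    have hR1 : S ⊓ N(T) ⊓ Q ≠ ⊥ := by
      exact (Subgroup.one_lt_card_iff_ne_bot _).mp (lt_of_lt_of_le hT1' hle)
    have hRp : IsPGroup 2 ↥(S ⊓ N(T) ⊓ Q) := hSsyl.1.to_le (inf_le_left.trans inf_le_left)
    have hRQ : S ⊓ N(T) ⊓ Q ≤ Q := inf_le_right
    have hRNB : S ⊓ N(T) ⊓ Q ≤ N(cj(g, Q)) :=
      (inf_le_left.trans inf_le_right).trans (normalizer_le_of_tight hB hTsyl.1 hT1 hTB)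
    obtain ⟨T', hRT', hT'le, hT'p, hT'i⟩ :=
      exists_relSylow_ge (Q ⊓ N(cj(g, Q))) (S ⊓ N(T) ⊓ Q) hRp (le_inf hRQ hRNB)
    obtain ⟨S', hT'S', hS'le, hS'p, hS'i⟩ :=
      exists_relSylow_ge (cj(g, Q) ⊔ T') T' hT'p le_sup_right
    have hBB : cj(g⁻¹, cj(g, Q)) = Q := map_conj_inv_map_conj Q g
    have hg' : g⁻¹ ∉ N(cj(g, Q)) := by
      intro h
      apply hg
      have h1 := (map_conj_eq_self_iff_mem_normalizer cj(g, Q) g⁻¹).mpr h
      rw [hBB] at h1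
      rw [← map_conj_eq_self_iff_mem_normalizer]
      exact h1.symm
    have hT'B' : T' ≤ cj(g⁻¹, cj(g, Q)) := by rw [hBB]; exact hT'le.trans inf_le_left
    have hT'N : T' ≤ N(cj(g, Q)) := hT'le.trans inf_le_right
    obtain ⟨hle', -⟩ := key cj(g, Q) hB g⁻¹ hg' T' hT'B' hT'N hT'p S' hT'S' hS'le hS'p hS'i
    have hBQ' : Odd (Nat.card ↥(cj(g, Q) ⊓ cj(g⁻¹, cj(g, Q)))) := hB.2 g⁻¹ hg'
    have hT'B0 : T' ⊓ cj(g, Q) = ⊥ := part1 hBQ' hT'B' hT'p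
    have hcomm' := part3 (S := S') hT'N hT'B0
    have hR'NR : S' ⊓ N(T') ⊓ cj(g, Q) ≤ N(S ⊓ N(T) ⊓ Q) := by
      intro r' hr'
      have key2 : ∀ r ∈ S ⊓ N(T) ⊓ Q, r' * r * r'⁻¹ = r := fun r hr => by
        have h1 := hcomm' r (hRT' hr) r' hr'
        rw [← h1]; group
      rw [← map_conj_eq_self_iff_mem_normalizer]
      apply Subgroup.eq_of_le_of_card_ge
      · rw [map_conj_le_iff]
        intro r hr
        rw [key2 r hr]; exact hr
      · rw [card_map_conj]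
    have hNR : N(S ⊓ N(T) ⊓ Q) ≤ N(Q) := normalizer_le_of_tight hQ hRp hR1 hRQ
    have hR'le : S' ⊓ N(T') ⊓ cj(g, Q) ≤ cj(g, Q) ⊓ N(Q) :=
      le_inf inf_le_right (hR'NR.trans hNR)
    have hR'p : IsPGroup 2 ↥(S' ⊓ N(T') ⊓ cj(g, Q)) :=
      hS'p.to_le (inf_le_left.trans inf_le_left)
    obtain ⟨h, hh, hconj⟩ := exists_conj_le_of_relIndex (cj(g, Q) ⊓ N(Q)) T
      (S' ⊓ N(T') ⊓ cj(g, Q)) hTsyl.1 hTsyl.2 hR'le hR'p
    have hR'T : Nat.card ↥(S' ⊓ N(T') ⊓ cj(g, Q)) ≤ Nat.card T := by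
      have h1 : cj(h, S' ⊓ N(T') ⊓ cj(g, Q)) ≤ T := (map_conj_le_iff _ _ _).mpr hconj
      have h2 := Subgroup.card_le_of_le h1
      rwa [card_map_conj] at h2
    calc Nat.card ↥(S ⊓ N(T) ⊓ Q) ≤ Nat.card T' := Subgroup.card_le_of_le hRT'
      _ ≤ Nat.card ↥(S' ⊓ N(T') ⊓ cj(g, Q)) := hle'
      _ ≤ Nat.card T := hR'T

end Cfsg.Agent.S1910
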