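import Cfsg.Statements.S1921
import Cfsg.Agent.Lib.Helper9.Layer2
import Cfsg.Agent.Lib.Helper13.Conj

set_option autoImplicit false
open Cfsg

namespace Cfsg.Agent.S1921

open Cfsg.Agent.Lib.Helper9 Cfsg.Agent.Lib.Helper13
open scoped commutatorElement

/-- elements of a sup of two elementwise commuting subgroups are products -/
theorem mem_sup_of_commute {H : Type*} [Group H] (A B : Subgroup H)
    (hc : ∀ a ∈ A, ∀ b ∈ B, a * b = b * a) {x : H} (hx : x ∈ A ⊔ B) :
    ∃ a ∈ A, ∃ b ∈ B, x = a * b := by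
  rw [Subgroup.sup_eq_closure] at hx
  induction hx using Subgroup.closure_induction with
  | mem y hy =>
    rcases hy with hy | hy
    · exact ⟨y, hy, 1, B.one_mem, by simp⟩
    · exact ⟨1, A.one_mem, y, hy, by simp⟩
  | one => exact ⟨1, A.one_mem, 1, B.one_mem, by simp⟩
  | mul y z _ _ ihy ihz =>
    obtain ⟨a₁, ha₁, b₁, hb₁, rfl⟩ := ihy
    obtain ⟨a₂, ha₂, b₂, hb₂, rfl⟩ := ihz
    refine ⟨a₁ * a₂, A.mul_mem ha₁ ha₂, b₁ * b₂, B.mul_mem hb₁ hb₂, ?_⟩
    have := hc a₂ ha₂ b₁ hb₁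
    calc a₁ * b₁ * (a₂ * b₂) = a₁ * (b₁ * a₂) * b₂ := by group
      _ = a₁ * (a₂ * b₁) * b₂ := by rw [this]
      _ = a₁ * a₂ * (b₁ * b₂) := by group
  | inv y _ ih =>
    obtain ⟨a₁, ha₁, b₁, hb₁, rfl⟩ := ih
    refine ⟨a₁⁻¹, A.inv_mem ha₁, b₁⁻¹, B.inv_mem hb₁, ?_⟩
    have := hc a₁⁻¹ (A.inv_mem ha₁) b₁⁻¹ (B.inv_mem hb₁)
    rw [this]; group

/-- Let a be an involution of a finite group H and L a component of H with a L a⁻¹ ≠ L; put M = ⟨L, aLa⁻¹⟩ and let J be the subgroup generated by the elements x · a x a⁻¹ with x ∈ L (the diagonal). Then every element of M outside J·Z(M) generates M together with J. -/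
theorem result {H : Type*} [Group H] [Finite H] (a : H) (ha : orderOf a = 2) (L : Subgroup H) (hL : Cfsg.IsComponent L)
    (hLa : L.map (MulAut.conj a).toMonoidHom ≠ L) (x : H) (hxM : x ∈ L ⊔ L.map (MulAut.conj a).toMonoidHom)
    (hxJ : x ∉ Subgroup.closure {y : H | ∃ l ∈ L, y = l * (a * l * a⁻¹)} ⊔
      ((L ⊔ L.map (MulAut.conj a).toMonoidHom) ⊓ Subgroup.centralizer ((L ⊔ L.map (MulAut.conj a).toMonoidHom : Subgroup H) : Set H))) :
    Subgroup.closure {y : H | ∃ l ∈ L, y = l * (a * l * a⁻¹)} ⊔ Subgroup.zpowers x = L ⊔ L.map (MulAut.conj a).toMonoidHom := by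
  set La := L.map (MulAut.conj a).toMonoidHom with hLadef
  set J := Subgroup.closure {y : H | ∃ l ∈ L, y = l * (a * l * a⁻¹)} with hJdef
  have hLacomp : Cfsg.IsComponent La := isComponent_conj hL a
  have hcomm : ⁅L, La⁆ = ⊥ := comp_commutator_eq_bot_of_ne hL hLacomp (Ne.symm hLa)
  have hc : ∀ l ∈ L, ∀ m ∈ La, l * m = m * l := by
    intro l hl m hm
    have h1 : ⁅l, m⁆ ∈ ⁅L, La⁆ := Subgroup.commutator_mem_commutator hl hm
    rw [hcomm, Subgroup.mem_bot] at h1
    exact (commutatorElement_eq_one_iff_mul_comm.mp h1)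
  have hmemLa : ∀ l ∈ L, a * l * a⁻¹ ∈ La := fun l hl => conj_mem_map_conj L a hl
  have hJgen : ∀ l ∈ L, l * (a * l * a⁻¹) ∈ J := fun l hl =>
    Subgroup.subset_closure ⟨l, hl, rfl⟩
  have hJM : J ≤ L ⊔ La := by
    rw [hJdef, Subgroup.closure_le]
    rintro y ⟨l, hl, rfl⟩
    exact (L ⊔ La).mul_mem (le_sup_left (a := L) hl) (le_sup_right (a := L) (hmemLa l hl))
  apply le_antisymm
  · exact sup_le hJM (by rw [Subgroup.zpowers_le]; exact hxM)
  · set K := J ⊔ Subgroup.zpowers x with hKdef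
    have hJK : J ≤ K := le_sup_left
    have hxK : x ∈ K := le_sup_right (a := J) (Subgroup.mem_zpowers x)
    obtain ⟨l₁, hl₁, m₂, hm₂, hx⟩ := mem_sup_of_commute L La hc hxM
    have hl₂ : a⁻¹ * m₂ * a ∈ L := (mem_map_conj_iff L a m₂).mp hm₂
    set l₂ := a⁻¹ * m₂ * a with hl₂def
    have hm₂' : m₂ = a * l₂ * a⁻¹ := by rw [hl₂def]; group
    set y := l₁ * l₂⁻¹ with hydef
    have hyL : y ∈ L := L.mul_mem hl₁ (L.inv_mem hl₂)
    have hxy : x = y * (l₂ * (a * l₂ * a⁻¹)) := by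
      rw [hx, hm₂', hydef]; group
    have hyK : y ∈ K := by
      have : y = x * (l₂ * (a * l₂ * a⁻¹))⁻¹ := by rw [hxy]; group
      rw [this]
      exact K.mul_mem hxK (K.inv_mem (hJK (hJgen l₂ hl₂)))
    -- y does not centralize L
    have hync : ¬ ∀ l ∈ L, l * y = y * l := by
      intro hcen
      apply hxJ
      rw [hxy]
      refine Subgroup.mul_mem _ (le_sup_right (a := J) ?_) (le_sup_left (a := J) (hJgen l₂ hl₂))
      refine Subgroup.mem_inf.mpr ⟨le_sup_left (a := L) hyL, ?_⟩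
      rw [Subgroup.mem_centralizer_iff]
      intro z hz
      obtain ⟨l, hl, m, hm, rfl⟩ := mem_sup_of_commute L La hc hz
      have h1 := hcen l hl
      have h2 := hc y hyL m hm
      calc l * m * y = l * (m * y) := by group
        _ = l * (y * m) := by rw [h2]
        _ = (l * y) * m := by group
        _ = (y * l) * m := by rw [h1]
        _ = y * (l * m) := by group
    -- K ⊓ L is normalized by L
    have hnorm : ((K ⊓ L).subgroupOf L).Normal := by
      constructor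
      intro n hn g
      rw [Subgroup.mem_subgroupOf] at hn ⊢
      obtain ⟨hnK, hnL⟩ := Subgroup.mem_inf.mp hn
      refine Subgroup.mem_inf.mpr ⟨?_, ?_⟩
      · have hg : (g : H) ∈ L := g.2
        have hj := hJK (hJgen g hg)
        have hcm := hc (n : H) hnL (a * g * a⁻¹) (hmemLa g hg)
        have : ((g * n * g⁻¹ : ↥L) : H) =
            ((g : H) * (a * g * a⁻¹)) * n * ((g : H) * (a * g * a⁻¹))⁻¹ := by
          push_cast
          calc (g : H) * n * (g : H)⁻¹ = (g : H) * (n * (a * g * a⁻¹)) * (a * g * a⁻¹)⁻¹ * (g : H)⁻¹ := by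
                group
            _ = (g : H) * ((a * g * a⁻¹) * n) * (a * g * a⁻¹)⁻¹ * (g : H)⁻¹ := by rw [hcm]
            _ = _ := by group
        rw [this]
        exact K.mul_mem (K.mul_mem hj hnK) (K.inv_mem hj)
      · exact (g * n * g⁻¹).2
    have hLK : L ≤ K := by
      rcases qs_normal_le_center_or_eq_top hL.2 ((K ⊓ L).subgroupOf L) with h | h
      · exfalso
        apply hync
        intro l hl
        have hyc : (⟨y, hyL⟩ : ↥L) ∈ Subgroup.center ↥L := h (by
          rw [Subgroup.mem_subgroupOf]; exact Subgroup.mem_inf.mpr ⟨hyK, hyL⟩)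
        have := (Subgroup.mem_center_iff.mp hyc) ⟨l, hl⟩
        exact congrArg Subtype.val this
      · intro l hl
        have : (⟨l, hl⟩ : ↥L) ∈ (K ⊓ L).subgroupOf L := by rw [h]; trivial
        rw [Subgroup.mem_subgroupOf] at this
        exact (Subgroup.mem_inf.mp this).1
    refine sup_le hLK ?_
    rw [hLadef, map_conj_le_iff]
    intro l hl
    have : a * l * a⁻¹ = l⁻¹ * (l * (a * l * a⁻¹)) := by group
    rw [this]
    exact K.mul_mem (K.inv_mem (hLK hl)) (hJK (hJgen l hl))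

end Cfsg.Agent.S1921
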