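import Mathlib
import Cfsg.Statements.S1922

set_option autoImplicit false
set_option linter.style.haveILetI false
set_option linter.unusedSectionVars false
set_option linter.unusedVariables false
open Cfsg

namespace Cfsg.Agent.S1922

section Parity

theorem even_card_of_involution {α : Type*} [DecidableEq α] (s : Finset α) (g : α → α)
    (hmem : ∀ a ∈ s, g a ∈ s) (hinv : ∀ a ∈ s, g (g a) = a) (hne : ∀ a ∈ s, g a ≠ a) :
    Even s.card := by
  have h := Finset.sum_involution (s := s) (f := fun _ => (1 : ZMod 2)) (fun a _ => g a)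
    (fun a ha => by decide) (fun a ha _ => hne a ha) (fun a ha => hmem a ha)
    (fun a ha => hinv a ha)
  rw [Finset.sum_const, nsmul_eq_mul, mul_one] at h
  exact (ZMod.natCast_eq_zero_iff_even).mp h

theorem odd_card_of_involution {α : Type*} [DecidableEq α] (s : Finset α) (g : α → α) (a₀ : α)
    (ha₀ : a₀ ∈ s) (hmem : ∀ a ∈ s, g a ∈ s) (hinv : ∀ a ∈ s, g (g a) = a)
    (hfix : ∀ a ∈ s, g a = a → a = a₀) (hfix0 : g a₀ = a₀) : Odd s.card := by
  have h := even_card_of_involution (s.erase a₀) g ?_ ?_ ?_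
  · rw [← Finset.card_erase_add_one ha₀]; exact h.add_one
  · intro a ha
    rw [Finset.mem_erase] at ha ⊢
    refine ⟨?_, hmem a ha.2⟩
    intro h1
    apply ha.1
    have := hinv a ha.2
    rw [h1, hfix0] at this
    exact this.symm
  · intro a ha; exact hinv a (Finset.mem_of_mem_erase ha)
  · intro a ha h1; exact (Finset.mem_erase.mp ha).1 (hfix a (Finset.mem_of_mem_erase ha) h1)

end Parity

variable {G : Type*} [Group G]

theorem mem_conj_iff (H : Subgroup G) (g x : G) :
    x ∈ H.map (MulAut.conj g).toMonoidHom ↔ g⁻¹ * x * g ∈ H := by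
  constructor
  · rintro ⟨h, hh, rfl⟩
    have : g⁻¹ * ((MulAut.conj g).toMonoidHom h) * g = h := by
      simp [MulAut.conj_apply, mul_assoc]
    rw [this]; exact hh
  · intro hx
    refine ⟨g⁻¹ * x * g, hx, ?_⟩
    simp [MulAut.conj_apply, mul_assoc]

theorem mem_sylow_smul {p : ℕ} (x : G) (P : Sylow p G) (g : G) :
    g ∈ ((x • P : Sylow p G) : Subgroup G) ↔ x⁻¹ * g * x ∈ (P : Subgroup G) := by
  rw [Sylow.coe_subgroup_smul, Subgroup.mem_pointwise_smul_iff_inv_smul_mem, ← map_inv,
    MulAut.smul_def, MulAut.conj_apply, inv_inv]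

section Basic

variable (z : G) (H : Subgroup G) (h0 : ∀ g : G, g⁻¹ * z * g ∈ H ↔ g ∈ H)
include h0

theorem z_mem : z ∈ H := by
  have := (h0 1).mpr H.one_mem
  simpa using this

theorem cent_le {c : G} (hc : c * z = z * c) : c ∈ H := by
  apply (h0 c).mp
  rw [mul_assoc, ← hc, ← mul_assoc, inv_mul_cancel, one_mul]
  exact z_mem z H h0

theorem conj_fix_iff (x g : G) : g⁻¹ * (x * z * x⁻¹) * g ∈ H ↔ x⁻¹ * g ∈ H := by
  have := h0 (x⁻¹ * g)
  rwa [show (x⁻¹ * g)⁻¹ * z * (x⁻¹ * g) = g⁻¹ * (x * z * x⁻¹) * g by group] at this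

end Basic

section StepB

variable [Finite G] (z : G) (H : Subgroup G) (hz2 : z * z = 1)
  (h0 : ∀ g : G, g⁻¹ * z * g ∈ H ↔ g ∈ H)
  (P1 : ∀ t : G, IsConj z t → t ≠ z → t * z = z * t → ∀ g : G, g⁻¹ * (z * t) * g ∈ H ↔ g ∈ H)
include hz2 h0 P1

theorem odd_order_z_conj (x : G) (hx : x ∉ H) : Odd (orderOf (z * (x * z * x⁻¹))) := by
  obtain ⟨b, hb⟩ : ∃ b, b = x * z * x⁻¹ := ⟨_, rfl⟩
  rw [← hb]
  have hbb : b * b = 1 := by
    rw [hb]
    calc x * z * x⁻¹ * (x * z * x⁻¹) = x * (z * z) * x⁻¹ := by group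
      _ = 1 := by rw [hz2]; group
  have hzi : z⁻¹ = z := inv_eq_of_mul_eq_one_right hz2
  have hbi : b⁻¹ = b := inv_eq_of_mul_eq_one_right hbb
  obtain ⟨r, hr⟩ : ∃ r, r = z * b := ⟨_, rfl⟩
  rw [← hr]
  have hzr : z * r * z⁻¹ = r⁻¹ := by
    rw [hr, mul_inv_rev, hzi, hbi, ← mul_assoc, hz2, one_mul]
  have hbr : b * r * b⁻¹ = r⁻¹ := by
    rw [hr, mul_inv_rev, hzi, hbi, mul_assoc, mul_assoc, hbb, mul_one]
  by_contra hodd
  rw [Nat.not_odd_iff_even] at hodd
  obtain ⟨k, hk⟩ := hodd
  have hNpos : 0 < orderOf r := orderOf_pos r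
  have hk0 : k ≠ 0 := by omega
  have hklt : k < orderOf r := by omega
  obtain ⟨c, hc⟩ : ∃ c, c = r ^ k := ⟨_, rfl⟩
  have hcc : c * c = 1 := by rw [hc, ← pow_add, ← hk, pow_orderOf_eq_one]
  have hc1 : c ≠ 1 := by rw [hc]; exact pow_ne_one_of_lt_orderOf hk0 hklt
  have hci : c⁻¹ = c := inv_eq_of_mul_eq_one_right hcc
  have hzc : z * c = c * z := by
    have h1 : z * c * z⁻¹ = c := by rw [hc, ← conj_pow, hzr, inv_pow, ← hc, hci]
    calc z * c = (z * c * z⁻¹) * z := by group
      _ = c * z := by rw [h1]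
  have hbc : b * c = c * b := by
    have h1 : b * c * b⁻¹ = c := by rw [hc, ← conj_pow, hbr, inv_pow, ← hc, hci]
    calc b * c = (b * c * b⁻¹) * b := by group
      _ = c * b := by rw [h1]
  -- t = z * c is a conjugate of z
  have hconj : IsConj z (z * c) := by
    rcases Nat.even_or_odd' k with ⟨l, hl | hl⟩
    · have e1 : z * r ^ l * z⁻¹ = (r ^ l)⁻¹ := by rw [← conj_pow, hzr, inv_pow]
      refine isConj_iff.mpr ⟨(r ^ l)⁻¹, ?_⟩
      rw [inv_inv, ← e1, inv_mul_cancel_right, mul_assoc, ← pow_add, hc]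
      congr 2; omega
    · have e1 : z * r ^ l * z⁻¹ = (r ^ l)⁻¹ := by rw [← conj_pow, hzr, inv_pow]
      refine isConj_iff.mpr ⟨(r ^ l)⁻¹ * x, ?_⟩
      rw [mul_inv_rev, inv_inv]
      calc (r ^ l)⁻¹ * x * z * (x⁻¹ * r ^ l) = (r ^ l)⁻¹ * (x * z * x⁻¹) * r ^ l := by group
        _ = (z * r ^ l * z⁻¹) * b * r ^ l := by rw [← hb, e1]
        _ = z * (r ^ l * (z * b) * r ^ l) := by rw [hzi]; group
        _ = z * (r ^ l * r * r ^ l) := by rw [← hr]
        _ = z * r ^ (l + 1 + l) := by rw [pow_add, pow_add, pow_one]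
        _ = z * c := by rw [hc]; congr 2; omega
  have hne : z * c ≠ z := by
    intro h
    apply hc1
    have : z * c = z * 1 := by rw [mul_one]; exact h
    exact mul_left_cancel this
  have hcomm : (z * c) * z = z * (z * c) := by rw [mul_assoc, ← hzc]
  have hP := P1 (z * c) hconj hne hcomm x
  have e : z * (z * c) = c := by rw [← mul_assoc, hz2, one_mul]
  rw [e] at hP
  apply hx
  apply hP.mp
  apply cent_le z H h0
  calc x⁻¹ * c * x * z = x⁻¹ * (c * (x * z * x⁻¹)) * x := by group
    _ = x⁻¹ * (c * b) * x := by rw [← hb]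
    _ = x⁻¹ * (b * c) * x := by rw [hbc]
    _ = x⁻¹ * ((x * z * x⁻¹) * c) * x := by rw [hb]
    _ = z * (x⁻¹ * c * x) := by group

theorem odd_order_conj_conj (x₁ x₂ : G) (h : x₁⁻¹ * x₂ ∉ H) :
    Odd (orderOf ((x₁ * z * x₁⁻¹) * (x₂ * z * x₂⁻¹))) := by
  have h1 := odd_order_z_conj z H hz2 h0 P1 (x₁⁻¹ * x₂) h
  have h2 : (x₁ * z * x₁⁻¹) * (x₂ * z * x₂⁻¹) =
      (MulAut.conj x₁) (z * ((x₁⁻¹ * x₂) * z * (x₁⁻¹ * x₂)⁻¹)) := by
    rw [MulAut.conj_apply]; group
  rw [h2, MulEquiv.orderOf_eq]; exact h1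

end StepB

section Dihedral

theorem dihedral_mid (a b : G) (haa : a * a = 1) (hbb : b * b = 1) (m e : ℕ)
    (hm : (a * b) ^ m = 1) (he : 2 * e = m + 1) :
    (a * (a * b) ^ e) * a * (a * (a * b) ^ e) = b ∧
      (a * (a * b) ^ e) * (a * (a * b) ^ e) = 1 ∧
      a * (a * b) ^ e = ((a * b) ^ (e * e))⁻¹ * a * (((a * b) ^ (e * e))⁻¹)⁻¹ := by
  have hai : a⁻¹ = a := inv_eq_of_mul_eq_one_right haa
  have hbi : b⁻¹ = b := inv_eq_of_mul_eq_one_right hbb
  obtain ⟨r, hr⟩ : ∃ r, r = a * b := ⟨_, rfl⟩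
  rw [← hr] at hm ⊢
  have har : a * r * a⁻¹ = r⁻¹ := by
    rw [hr, mul_inv_rev, hai, hbi, ← mul_assoc, haa, one_mul]
  have harn : ∀ n : ℕ, a * r ^ n = (r ^ n)⁻¹ * a := by
    intro n
    have h1 : a * r ^ n * a⁻¹ = (r ^ n)⁻¹ := by rw [← conj_pow, har, inv_pow]
    calc a * r ^ n = (a * r ^ n * a⁻¹) * a := by group
      _ = (r ^ n)⁻¹ * a := by rw [h1]
  have h2e : r ^ (2 * e) = r := by rw [he, pow_succ, hm, one_mul]
  refine ⟨?_, ?_, ?_⟩
  · calc a * r ^ e * a * (a * r ^ e) = a * r ^ e * (a * a) * r ^ e := by group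
      _ = a * r ^ (2 * e) := by rw [haa, mul_one, mul_assoc, ← pow_add, two_mul]
      _ = b := by rw [h2e, hr, ← mul_assoc, haa, one_mul]
  · calc a * r ^ e * (a * r ^ e) = (a * r ^ e) * a * r ^ e := by group
      _ = ((r ^ e)⁻¹ * a) * a * r ^ e := by rw [harn e]
      _ = (r ^ e)⁻¹ * (a * a) * r ^ e := by group
      _ = 1 := by rw [haa]; group
  · rw [inv_inv, ← harn (e * e), mul_assoc, ← pow_add]
    have : r ^ (e * e + e * e) = r ^ e := by
      have : e * e + e * e = (2 * e) * e := by ring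
      rw [this, pow_mul, h2e]
    rw [this]

theorem dihedral_unique (a i : G) (haa : a * a = 1) (hii : i * i = 1)
    (hodd : Odd (orderOf (a * i))) :
    a * (a * (i * a * i)) ^ ((orderOf (a * (i * a * i)) + 1) / 2) = i := by
  have h1 : a * (i * a * i) = (a * i) ^ 2 := by rw [sq]; group
  have hcop : (orderOf (a * i)).Coprime 2 := Nat.Coprime.symm (Nat.coprime_two_left.mpr hodd)
  have h2 : orderOf (a * (i * a * i)) = orderOf (a * i) := by
    rw [h1]; exact Nat.Coprime.orderOf_pow hcop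
  rw [h2, h1, ← pow_mul]
  obtain ⟨k, hk⟩ := hodd
  have h3 : 2 * ((orderOf (a * i) + 1) / 2) = orderOf (a * i) + 1 := by omega
  rw [h3, pow_succ, pow_orderOf_eq_one, one_mul, ← mul_assoc, haa, one_mul]

end Dihedral

section Count

variable [Fintype G]

open Classical in
/-- the conjugacy class of `z` as a finset -/
noncomputable def cls (z : G) : Finset G :=
  Finset.univ.filter (fun c => ∃ x, x * z * x⁻¹ = c)

theorem mem_cls {z c : G} : c ∈ cls z ↔ ∃ x, x * z * x⁻¹ = c := by
  unfold cls; simp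

variable (z : G) (H : Subgroup G) (hz2 : z * z = 1)
  (h0 : ∀ g : G, g⁻¹ * z * g ∈ H ↔ g ∈ H)
  (P1 : ∀ t : G, IsConj z t → t ≠ z → t * z = z * t → ∀ g : G, g⁻¹ * (z * t) * g ∈ H ↔ g ∈ H)
include hz2 h0 P1

theorem card_cls_odd (y : G) (hy : y ∉ H) : Odd (cls z).card := by
  classical
  have hzi : z⁻¹ = z := inv_eq_of_mul_eq_one_right hz2
  have hzH : z ∈ H := z_mem z H h0
  have hsq : ∀ c ∈ cls z, c * c = 1 := by
    intro c hc
    obtain ⟨x, rfl⟩ := mem_cls.mp hc
    calc x * z * x⁻¹ * (x * z * x⁻¹) = x * (z * z) * x⁻¹ := by group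
      _ = 1 := by rw [hz2]; group
  have hinvc : ∀ c ∈ cls z, c⁻¹ = c := fun c hc => inv_eq_of_mul_eq_one_right (hsq c hc)
  have hconj : ∀ c ∈ cls z, ∀ g : G, g * c * g⁻¹ ∈ cls z := by
    intro c hc g
    obtain ⟨x, rfl⟩ := mem_cls.mp hc
    exact mem_cls.mpr ⟨g * x, by group⟩
  have hzcls : z ∈ cls z := mem_cls.mpr ⟨1, by group⟩
  have hzconj : ∀ c ∈ cls z, z * c * z ∈ cls z := by
    intro c hc
    have := hconj c hc z
    rwa [hzi] at this
  obtain ⟨a, ha⟩ : ∃ a, a = y * z * y⁻¹ := ⟨_, rfl⟩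
  have hacls : a ∈ cls z := mem_cls.mpr ⟨y, ha.symm⟩
  have haa : a * a = 1 := hsq a hacls
  have hai : a⁻¹ = a := hinvc a hacls
  -- Step 1: the set of conjugates swapping the two points has odd size
  have hI₀odd : Odd ((cls z).filter (fun i => y⁻¹ * z * i * y ∈ H)).card := by
    apply odd_card_of_involution _ (fun i => z * i * z) z
    · rw [Finset.mem_filter]
      refine ⟨hzcls, ?_⟩
      have : y⁻¹ * z * z * y = 1 := by rw [mul_assoc y⁻¹, hz2]; group
      rw [this]; exact H.one_mem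
    · intro i hi
      beta_reduce
      rw [Finset.mem_filter] at hi ⊢
      refine ⟨hzconj i hi.1, ?_⟩
      have h1 := H.inv_mem hi.2
      have h2 : y⁻¹ * z * (z * i * z) * y = (y⁻¹ * z * i * y)⁻¹ := by
        have e1 : (y⁻¹ * z * i * y)⁻¹ = y⁻¹ * i⁻¹ * z⁻¹ * y := by group
        rw [e1, hzi, hinvc i hi.1]
        calc y⁻¹ * z * (z * i * z) * y = y⁻¹ * (z * z) * i * z * y := by group
          _ = y⁻¹ * i * z * y := by rw [hz2]; group
      rw [h2]; exact h1
    · intro i hi
      beta_reduce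
      calc z * (z * i * z) * z = (z * z) * i * (z * z) := by group
        _ = i := by rw [hz2]; group
    · intro i hi hfix
      beta_reduce at hfix
      by_contra hne
      rw [Finset.mem_filter] at hi
      obtain ⟨x, hx⟩ := mem_cls.mp hi.1
      have hcomm : i * z = z * i := by
        calc i * z = (z * i * z) * z := by rw [hfix]
          _ = z * i * (z * z) := by group
          _ = z * i := by rw [hz2, mul_one]
      have := (P1 i (isConj_iff.mpr ⟨x, hx⟩) hne hcomm y).mp (by
        have e : y⁻¹ * (z * i) * y = y⁻¹ * z * i * y := by group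
        rw [e]; exact hi.2)
      exact hy this
    · beta_reduce
      rw [hz2, one_mul]
  -- Step 2: bijection with the conjugates fixing the second point
  have hbij : ((cls z).filter (fun i => y⁻¹ * z * i * y ∈ H)).card =
      ((cls z).filter (fun b => (z * y)⁻¹ * b * (z * y) ∈ H)).card := by
    apply Finset.card_nbij' (fun i => i * a * i)
      (fun b => a * (a * b) ^ ((orderOf (a * b) + 1) / 2))
    · -- maps to
      intro i hi
      rw [Finset.mem_coe, Finset.mem_filter] at hi ⊢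
      beta_reduce
      have hii := hinvc i hi.1
      refine ⟨?_, ?_⟩
      · have := hconj a hacls i
        rwa [hii] at this
      · have e1 : i * a * i = (i * y) * z * (i * y)⁻¹ := by
          rw [ha, mul_inv_rev]
          calc i * (y * z * y⁻¹) * i = i * y * z * (y⁻¹ * i) := by group
            _ = i * y * z * (y⁻¹ * i⁻¹) := by rw [hii]
        rw [e1, conj_fix_iff z H h0]
        have h1 := H.inv_mem hi.2
        have e2 : (i * y)⁻¹ * (z * y) = (y⁻¹ * z * i * y)⁻¹ := by
          have e3 : (y⁻¹ * z * i * y)⁻¹ = y⁻¹ * i⁻¹ * z⁻¹ * y := by group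
          rw [e3, hzi]; group
        rw [e2]; exact h1
    · -- maps back
      intro b hb
      rw [Finset.mem_coe, Finset.mem_filter] at hb ⊢
      beta_reduce
      obtain ⟨x, hx⟩ := mem_cls.mp hb.1
      have hxz : x⁻¹ * (z * y) ∈ H := by
        have := hb.2
        rw [← hx, conj_fix_iff z H h0] at this
        exact this
      have hyx : y⁻¹ * x ∉ H := by
        intro h
        have h1 : x⁻¹ * y ∈ H := by
          have := H.inv_mem h
          rwa [mul_inv_rev, inv_inv] at this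
        have h2 : x⁻¹ * z * x ∈ H := by
          have := H.mul_mem hxz (H.inv_mem h1)
          have e : x⁻¹ * (z * y) * (x⁻¹ * y)⁻¹ = x⁻¹ * z * x := by group
          rwa [e] at this
        have hxH : x ∈ H := (h0 x).mp h2
        apply hy
        have := H.mul_mem hxH h1
        rwa [mul_inv_cancel_left] at this
      have hodd : Odd (orderOf (a * b)) := by
        rw [ha, ← hx]
        exact odd_order_conj_conj z H hz2 h0 P1 y x hyx
      have hbb : b * b = 1 := hsq b hb.1
      obtain ⟨k, hk⟩ := hodd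
      have he : 2 * ((orderOf (a * b) + 1) / 2) = orderOf (a * b) + 1 := by omega
      obtain ⟨d1, d2, d3⟩ := dihedral_mid a b haa hbb (orderOf (a * b))
        ((orderOf (a * b) + 1) / 2) (pow_orderOf_eq_one _) he
      obtain ⟨i, hi⟩ : ∃ i, i = a * (a * b) ^ ((orderOf (a * b) + 1) / 2) := ⟨_, rfl⟩
      rw [← hi] at d1 d2 d3 ⊢
      have hicls : i ∈ cls z := by
        rw [d3]; exact hconj a hacls _
      have hii : i⁻¹ = i := hinvc i hicls
      refine ⟨hicls, ?_⟩
      -- i maps the first point to the second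
      have h3 : x⁻¹ * (i * y) ∈ H := by
        rw [← conj_fix_iff z H h0, hx]
        have e : (i * y)⁻¹ * b * (i * y) = y⁻¹ * (i * b * i) * y := by
          rw [mul_inv_rev, hii]; group
        have e2 : i * b * i = a := by
          rw [← d1]
          calc i * (i * a * i) * i = (i * i) * a * (i * i) := by group
            _ = a := by rw [d2]; group
        rw [e, e2, ha]
        have : y⁻¹ * (y * z * y⁻¹) * y = z := by group
        rw [this]; exact hzH
      have := H.mul_mem (H.inv_mem hxz) h3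
      have e : (x⁻¹ * (z * y))⁻¹ * (x⁻¹ * (i * y)) = y⁻¹ * z * i * y := by
        have e3 : (x⁻¹ * (z * y))⁻¹ * (x⁻¹ * (i * y)) = y⁻¹ * z⁻¹ * i * y := by group
        rw [e3, hzi]
      rwa [e] at this
    · -- left inverse
      intro i hi
      rw [Finset.mem_coe, Finset.mem_filter] at hi
      beta_reduce
      obtain ⟨x, hx⟩ := mem_cls.mp hi.1
      have hii : i * i = 1 := hsq i hi.1
      have hyx : y⁻¹ * x ∉ H := by
        intro h
        have h1 : x⁻¹ * y ∈ H := by
          have := H.inv_mem h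
          rwa [mul_inv_rev, inv_inv] at this
        have h2 : y⁻¹ * i * y ∈ H := by
          rw [← hx, conj_fix_iff z H h0]; exact h1
        have h3 := H.mul_mem hi.2 (H.inv_mem h2)
        have e : y⁻¹ * z * i * y * (y⁻¹ * i * y)⁻¹ = y⁻¹ * z * y := by group
        rw [e] at h3
        exact hy ((h0 y).mp h3)
      have hodd : Odd (orderOf (a * i)) := by
        rw [ha, ← hx]
        exact odd_order_conj_conj z H hz2 h0 P1 y x hyx
      exact dihedral_unique a i haa hii hodd
    · -- right inverse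
      intro b hb
      rw [Finset.mem_coe, Finset.mem_filter] at hb
      beta_reduce
      obtain ⟨x, hx⟩ := mem_cls.mp hb.1
      have hxz : x⁻¹ * (z * y) ∈ H := by
        have := hb.2
        rw [← hx, conj_fix_iff z H h0] at this
        exact this
      have hyx : y⁻¹ * x ∉ H := by
        intro h
        have h1 : x⁻¹ * y ∈ H := by
          have := H.inv_mem h
          rwa [mul_inv_rev, inv_inv] at this
        have h2 : x⁻¹ * z * x ∈ H := by
          have := H.mul_mem hxz (H.inv_mem h1)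
          have e : x⁻¹ * (z * y) * (x⁻¹ * y)⁻¹ = x⁻¹ * z * x := by group
          rwa [e] at this
        have hxH : x ∈ H := (h0 x).mp h2
        apply hy
        have := H.mul_mem hxH h1
        rwa [mul_inv_cancel_left] at this
      have hodd : Odd (orderOf (a * b)) := by
        rw [ha, ← hx]
        exact odd_order_conj_conj z H hz2 h0 P1 y x hyx
      have hbb : b * b = 1 := hsq b hb.1
      obtain ⟨k, hk⟩ := hodd
      have he : 2 * ((orderOf (a * b) + 1) / 2) = orderOf (a * b) + 1 := by omega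
      exact (dihedral_mid a b haa hbb (orderOf (a * b))
        ((orderOf (a * b) + 1) / 2) (pow_orderOf_eq_one _) he).1
  -- Step 3: conjugating back to the base point
  have hbij2 : ((cls z).filter (fun b => (z * y)⁻¹ * b * (z * y) ∈ H)).card =
      ((cls z).filter (fun c => c ∈ H)).card := by
    apply Finset.card_nbij' (fun b => (z * y)⁻¹ * b * (z * y))
      (fun c => (z * y) * c * (z * y)⁻¹)
    · intro b hb
      rw [Finset.mem_coe, Finset.mem_filter] at hb ⊢
      beta_reduce
      refine ⟨?_, hb.2⟩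
      have := hconj b hb.1 (z * y)⁻¹
      rwa [inv_inv] at this
    · intro c hc
      rw [Finset.mem_coe, Finset.mem_filter] at hc ⊢
      beta_reduce
      refine ⟨hconj c hc.1 _, ?_⟩
      have : (z * y)⁻¹ * ((z * y) * c * (z * y)⁻¹) * (z * y) = c := by group
      rw [this]; exact hc.2
    · intro b hb
      beta_reduce
      group
    · intro c hc
      beta_reduce
      group
  -- Step 4: the conjugates outside `H` are paired by `z`
  have heven : Even ((cls z).filter (fun c => ¬ c ∈ H)).card := by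
    apply even_card_of_involution _ (fun c => z * c * z)
    · intro c hc
      beta_reduce
      rw [Finset.mem_filter] at hc ⊢
      refine ⟨hzconj c hc.1, ?_⟩
      intro h
      apply hc.2
      have := H.mul_mem (H.mul_mem hzH h) hzH
      have e : z * (z * c * z) * z = c := by
        calc z * (z * c * z) * z = (z * z) * c * (z * z) := by group
          _ = c := by rw [hz2]; group
      rwa [e] at this
    · intro c hc
      beta_reduce
      calc z * (z * c * z) * z = (z * z) * c * (z * z) := by group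
        _ = c := by rw [hz2]; group
    · intro c hc hfix
      beta_reduce at hfix
      rw [Finset.mem_filter] at hc
      apply hc.2
      apply cent_le z H h0
      calc c * z = (z * c * z) * z := by rw [hfix]
        _ = z * c * (z * z) := by group
        _ = z * c := by rw [hz2, mul_one]
  rw [← Finset.card_filter_add_card_filter_not (s := cls z) (fun c => c ∈ H), ← hbij2, ← hbij]
  exact hI₀odd.add_even heven

end Count

section Sylow

/-- conjugation action of `G` on the conjugacy class of `z` -/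
def clsAct (z : G) : MulAction G {c : G // ∃ x, x * z * x⁻¹ = c} where
  smul g c := ⟨g * c.1 * g⁻¹, by
    obtain ⟨x, hx⟩ := c.2
    exact ⟨g * x, by rw [← hx]; group⟩⟩
  one_smul c := Subtype.ext (by
    show 1 * c.1 * 1⁻¹ = c.1
    group)
  mul_smul g h c := Subtype.ext (by
    show (g * h) * c.1 * (g * h)⁻¹ = g * (h * c.1 * h⁻¹) * g⁻¹
    group)

theorem two_central_of_odd [Fintype G] (z : G) (hz2 : z * z = 1) (hodd : Odd (cls z).card) :
    ∃ P : Sylow 2 G, z ∈ (Subgroup.center ↥(P : Subgroup G)).map (P : Subgroup G).subtype := by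
  classical
  letI := clsAct z
  obtain ⟨P⟩ : Nonempty (Sylow 2 G) := inferInstance
  have hcard : Nat.card {c : G // ∃ x, x * z * x⁻¹ = c} = (cls z).card := by
    rw [Nat.card_eq_fintype_card, Fintype.card_subtype]
    unfold cls
    congr 1
  have hnd : ¬ 2 ∣ Nat.card {c : G // ∃ x, x * z * x⁻¹ = c} := by
    rw [hcard]
    intro h
    exact (Nat.not_even_iff_odd.mpr hodd) (even_iff_two_dvd.mpr h)
  obtain ⟨⟨c, hc⟩, hfix⟩ :=
    P.2.nonempty_fixed_point_of_prime_not_dvd_card {c : G // ∃ x, x * z * x⁻¹ = c} hnd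
  have hfix' : ∀ g ∈ (P : Subgroup G), g * c * g⁻¹ = c := by
    intro g hg
    have := congrArg Subtype.val (hfix ⟨g, hg⟩)
    exact this
  obtain ⟨x, hx⟩ := hc
  -- the conjugate Sylow subgroup centralizes `z`
  have hcent : ∀ g ∈ ((x⁻¹ • P : Sylow 2 G) : Subgroup G), g * z = z * g := by
    intro g hg
    rw [mem_sylow_smul, inv_inv] at hg
    have h1 := hfix' _ hg
    rw [← hx] at h1
    have h2 : x * g * x⁻¹ * (x * z * x⁻¹) * (x * g * x⁻¹)⁻¹ = x * (g * z * g⁻¹) * x⁻¹ := by group
    rw [h2] at h1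
    have h3 : g * z * g⁻¹ = z := by
      have := mul_left_cancel (mul_right_cancel h1)
      exact this
    calc g * z = (g * z * g⁻¹) * g := by group
      _ = z * g := by rw [h3]
  -- `z` lies in it, by maximality
  have hzmem : z ∈ ((x⁻¹ • P : Sylow 2 G) : Subgroup G) := by
    have hzp : IsPGroup 2 (Subgroup.zpowers z) := by
      have h2 : z ^ 2 = 1 := by rw [sq]; exact hz2
      obtain ⟨j, -, hj⟩ := (Nat.dvd_prime_pow Nat.prime_two).mp
        (show orderOf z ∣ 2 ^ 1 by rw [pow_one]; exact orderOf_dvd_of_pow_eq_one h2)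
      exact IsPGroup.of_card (n := j) (by rw [Nat.card_zpowers, hj])
    have hnorm : ((x⁻¹ • P : Sylow 2 G) : Subgroup G) ≤ Subgroup.normalizer ((Subgroup.zpowers z : Subgroup G) : Set G) := by
      intro g hg
      rw [Subgroup.mem_normalizer_iff]
      intro n
      have hgz := hcent g hg
      have key : ∀ n ∈ Subgroup.zpowers z, g * n * g⁻¹ = n := by
        intro n hn
        obtain ⟨k, rfl⟩ := Subgroup.mem_zpowers_iff.mp hn
        have hc2 : Commute g (z ^ k) := Commute.zpow_right hgz k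
        rw [hc2.eq, mul_inv_cancel_right]
      constructor
      · intro hn
        rw [key n hn]; exact hn
      · intro hn
        have := key _ hn
        have e : g * n * g⁻¹ = n := by
          have h5 : g * (g * n * g⁻¹) * g⁻¹ = g * n * g⁻¹ := this
          exact mul_left_cancel (mul_right_cancel h5)
        rw [← e]; exact hn
    have hsup := IsPGroup.to_sup_of_normal_right' (x⁻¹ • P : Sylow 2 G).2 hzp hnorm
    have hmax := (x⁻¹ • P : Sylow 2 G).is_maximal' hsup le_sup_left
    have : z ∈ ((x⁻¹ • P : Sylow 2 G) : Subgroup G) ⊔ Subgroup.zpowers z :=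
      (le_sup_right : Subgroup.zpowers z ≤ _) (Subgroup.mem_zpowers z)
    rw [hmax] at this
    exact this
  refine ⟨x⁻¹ • P, Subgroup.mem_map.mpr ⟨⟨z, hzmem⟩, ?_, rfl⟩⟩
  rw [Subgroup.mem_center_iff]
  intro g
  exact Subtype.ext (hcent g.1 g.2)

theorem two_implies_one [Finite G] (z : G) (hz2 : z * z = 1) (H : Subgroup G)
    (h0 : ∀ g : G, g⁻¹ * z * g ∈ H ↔ g ∈ H)
    (P : Sylow 2 G) (hzc : ∀ g ∈ (P : Subgroup G), g * z = z * g)
    (t : G) (htt : t * t = 1) (htz : t * z = z * t)
    (hC : Subgroup.centralizer ({z * t} : Set G) ≤ H)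
    (g : G) (hg : g⁻¹ * (z * t) * g ∈ H) : g ∈ H := by
  have hPH : (P : Subgroup G) ≤ H := fun x hx => cent_le z H h0 (hzc x hx)
  obtain ⟨w, hw⟩ : ∃ w : G, w = g⁻¹ * (z * t) * g := ⟨_, rfl⟩
  rw [← hw] at hg
  have hww : w ^ 2 = 1 := by
    rw [hw, sq]
    calc g⁻¹ * (z * t) * g * (g⁻¹ * (z * t) * g) = g⁻¹ * (z * (t * z) * t) * g := by group
      _ = g⁻¹ * (z * (z * t) * t) * g := by rw [htz]
      _ = g⁻¹ * ((z * z) * (t * t)) * g := by group
      _ = 1 := by rw [hz2, htt]; group
  have hpg : IsPGroup 2 (Subgroup.zpowers (⟨w, hg⟩ : H)) := by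
    have h2 : (⟨w, hg⟩ : H) ^ 2 = 1 := Subtype.ext (by rw [Subgroup.coe_pow]; exact hww)
    obtain ⟨j, -, hj⟩ := (Nat.dvd_prime_pow Nat.prime_two).mp
      (show orderOf (⟨w, hg⟩ : H) ∣ 2 ^ 1 by rw [pow_one]; exact orderOf_dvd_of_pow_eq_one h2)
    exact IsPGroup.of_card (n := j) (by rw [Nat.card_zpowers, hj])
  obtain ⟨Q, hQ⟩ := hpg.exists_le_sylow
  obtain ⟨h, hh⟩ := MulAction.exists_smul_eq ↥H (P.subtype hPH) Q
  have hwQ : (⟨w, hg⟩ : H) ∈ (Q : Subgroup H) := hQ (Subgroup.mem_zpowers _)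
  rw [← hh, mem_sylow_smul, Sylow.coe_subtype, Subgroup.mem_subgroupOf] at hwQ
  have hv : (h : G)⁻¹ * w * (h : G) ∈ (P : Subgroup G) := by simpa using hwQ
  have hcomm := hzc _ hv
  have hcomm' : ((g * h)⁻¹ * (z * t) * (g * h)) * z = z * ((g * h)⁻¹ * (z * t) * (g * h)) := by
    have e : (h : G)⁻¹ * w * (h : G) = (g * h)⁻¹ * (z * t) * (g * h) := by rw [hw]; group
    rw [← e]; exact hcomm
  have hmem : (g * h) * z * (g * h)⁻¹ ∈ Subgroup.centralizer ({z * t} : Set G) := by
    rw [Subgroup.mem_centralizer_singleton_iff]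
    calc (g * h) * z * (g * h)⁻¹ * (z * t)
        = (g * h) * (z * ((g * h)⁻¹ * (z * t) * (g * h))) * (g * h)⁻¹ := by group
      _ = (g * h) * (((g * h)⁻¹ * (z * t) * (g * h)) * z) * (g * h)⁻¹ := by rw [hcomm']
      _ = (z * t) * ((g * h) * z * (g * h)⁻¹) := by group
  have hH' := hC hmem
  have h1 : (g * (h : G))⁻¹ ∈ H := (h0 (g * h)⁻¹).mp (by rwa [inv_inv])
  have h2 : g * (h : G) ∈ H := by
    have := H.inv_mem h1
    rwa [inv_inv] at this
  have h3 := H.mul_mem h2 (H.inv_mem h.2)
  rwa [mul_inv_cancel_right] at h3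

end Sylow

/-- Let z be an involution of a finite group G and H a proper subgroup such that z lies in gHg⁻¹ exactly when g ∈ H. Then the following are equivalent: (1) for every conjugate t ≠ z of z commuting with z, the product zt lies in gHg⁻¹ exactly when g ∈ H; (2) z lies in the centre of some Sylow 2-subgroup of G, and for every conjugate t ≠ z of z commuting with z, the centralizer of zt is contained in H. -/
theorem result {G : Type*} [Group G] [Finite G] (z : G) (hz : orderOf z = 2) (H : Subgroup G) (hH : H ≠ ⊤)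
    (h0 : ∀ g : G, z ∈ H.map (MulAut.conj g).toMonoidHom ↔ g ∈ H) :
    (∀ t : G, IsConj z t → t ≠ z → t * z = z * t → ∀ g : G, z * t ∈ H.map (MulAut.conj g).toMonoidHom ↔ g ∈ H) ↔
      ((∃ P : Sylow 2 G, z ∈ (Subgroup.center ↥(P : Subgroup G)).map (P : Subgroup G).subtype) ∧
        ∀ t : G, IsConj z t → t ≠ z → t * z = z * t → Subgroup.centralizer ({z * t} : Set G) ≤ H) := by
  have h0' : ∀ g : G, g⁻¹ * z * g ∈ H ↔ g ∈ H := fun g => by rw [← h0 g, mem_conj_iff]
  have hz2 : z * z = 1 := by rw [← sq, ← hz, pow_orderOf_eq_one]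
  constructor
  · intro h1
    have P1 : ∀ t : G, IsConj z t → t ≠ z → t * z = z * t →
        ∀ g : G, g⁻¹ * (z * t) * g ∈ H ↔ g ∈ H :=
      fun t a b c g => by rw [← h1 t a b c g, mem_conj_iff]
    obtain ⟨y, hy⟩ : ∃ y, y ∉ H := by
      by_contra hne
      push Not at hne
      exact hH ((Subgroup.eq_top_iff' H).mpr hne)
    haveI := Fintype.ofFinite G
    refine ⟨two_central_of_odd z hz2 (card_cls_odd z H hz2 h0' P1 y hy), ?_⟩
    intro t ht hne hcomm c hc
    rw [Subgroup.mem_centralizer_singleton_iff] at hc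
    have hztH : z * t ∈ H := by
      have := (P1 t ht hne hcomm 1).mpr H.one_mem
      simpa using this
    apply (P1 t ht hne hcomm c).mp
    have : c⁻¹ * (z * t) * c = z * t := by
      rw [mul_assoc, ← hc, ← mul_assoc, inv_mul_cancel, one_mul]
    rw [this]; exact hztH
  · rintro ⟨⟨P, hP⟩, hC⟩ t ht hne hcomm g
    rw [mem_conj_iff]
    obtain ⟨zc, hzc, hzeq⟩ := Subgroup.mem_map.mp hP
    have hzcomm : ∀ x ∈ (P : Subgroup G), x * z = z * x := by
      intro x hx
      have := congrArg Subtype.val (Subgroup.mem_center_iff.mp hzc ⟨x, hx⟩)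
      rw [← hzeq]
      exact this
    obtain ⟨x, hx⟩ := isConj_iff.mp ht
    have htt : t * t = 1 := by
      rw [← hx]
      calc x * z * x⁻¹ * (x * z * x⁻¹) = x * (z * z) * x⁻¹ := by group
        _ = 1 := by rw [hz2]; group
    constructor
    · intro hg
      exact two_implies_one z hz2 H h0' P hzcomm t htt hcomm (hC t ht hne hcomm) g hg
    · intro hg
      have hzH : z ∈ H := z_mem z H h0'
      have htH : t ∈ H := cent_le z H h0' hcomm
      exact H.mul_mem (H.mul_mem (H.inv_mem hg) (H.mul_mem hzH htH)) hg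

end Cfsg.Agent.S1922
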