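import Cfsg.Statements.S1924
import Mathlib
import Cfsg.Agent.Lib.Helper17.SignKernel

set_option autoImplicit false
open Cfsg

namespace Cfsg.Agent.S1924

open Subgroup Cfsg.Agent.Lib.Helper17

/-- In a dihedral group, every element outside a cyclic subgroup of index two is an involution. -/
theorem orderOf_eq_two_of_not_mem {D : Type*} [Group D] {n : ℕ} (hn : 2 ≤ n)
    (e : D ≃* DihedralGroup n) (C : Subgroup D) (hC : IsCyclic C) (hCi : C.index = 2)
    (d : D) (hd : d ∉ C) : orderOf d = 2 := by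
  have : NeZero n := ⟨by omega⟩
  have hde : orderOf d = orderOf (e d) := (e.orderOf_eq d).symm
  rcases Nat.eq_or_lt_of_le hn with h2 | h3
  · -- the four-group
    subst h2
    have hsq : ∀ x : DihedralGroup 2, x * x = 1 := by decide
    have h1 : d ^ 2 = 1 := by
      apply e.injective
      rw [map_pow, map_one, pow_two]
      exact hsq _
    have h2 : d ≠ 1 := fun h => hd (h ▸ C.one_mem)
    exact orderOf_eq_prime h1 h2
  · have hfin : Finite D := Finite.of_equiv _ e.symm.toEquiv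
    have hcardD : Nat.card D = 2 * n := by
      rw [Nat.card_congr e.toEquiv, DihedralGroup.nat_card]
    have hcardC : Nat.card C = n := by
      have h := C.card_mul_index
      rw [hCi, hcardD] at h
      omega
    obtain ⟨g, hg⟩ := hC.exists_generator
    have hog : orderOf g = n := by
      rw [orderOf_eq_card_of_forall_mem_zpowers hg, hcardC]
    have hoeg : orderOf (e (g : D)) = n := by
      rw [e.orderOf_eq, Subgroup.orderOf_coe, hog]
    obtain ⟨j, hj⟩ : ∃ j, e (g : D) = DihedralGroup.r j := by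
      cases hh : e (g : D) with
      | r j => exact ⟨j, rfl⟩
      | sr j =>
        rw [hh, DihedralGroup.orderOf_sr] at hoeg
        omega
    have hrj : orderOf (DihedralGroup.r j : DihedralGroup n) = n := by rw [← hj]; exact hoeg
    have hr_mem : ∀ i : ZMod n, (DihedralGroup.r i : DihedralGroup n) ∈
        zpowers (DihedralGroup.r 1 : DihedralGroup n) := by
      intro i
      refine ⟨(i.val : ℤ), ?_⟩
      simp only [zpow_natCast]
      rw [DihedralGroup.r_one_pow, ZMod.natCast_zmod_val]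
    have hzp : zpowers (DihedralGroup.r j : DihedralGroup n) =
        zpowers (DihedralGroup.r 1 : DihedralGroup n) := by
      apply Subgroup.eq_of_le_of_card_ge
      · rw [zpowers_le]; exact hr_mem j
      · rw [Nat.card_zpowers, Nat.card_zpowers, hrj, DihedralGroup.orderOf_r_one]
    cases hed : e d with
    | sr i => rw [hde, hed]; exact DihedralGroup.orderOf_sr i
    | r i =>
      exfalso
      apply hd
      have h1 : (DihedralGroup.r i : DihedralGroup n) ∈ zpowers (DihedralGroup.r j) := by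
        rw [hzp]; exact hr_mem i
      obtain ⟨z, hz⟩ := h1
      have h2 : e ((g : D) ^ z) = e d := by
        rw [map_zpow, hj, hed]; exact hz
      rw [← e.injective h2]
      exact C.zpow_mem g.2 z

/-- A consequence of Thompson's transfer lemma. Let G be a finite group, L a subgroup with O²(L) = L, T a Sylow 2-subgroup of L and S a Sylow 2-subgroup of G containing T. Suppose D ≤ S is a dihedral subgroup of order at least 4 (the four-group counts) with D ∩ T = 1 and S = TD as a set of products (so |S| = |T|·|D|), and C ≤ D is cyclic of index 2 in D. If no involution of D outside C is G-conjugate to an involution of the subgroup generated by T and C, and the involution of C is not G-conjugate to any involution of T, then G has a normal subgroup K, containing every Sylow 2-subgroup of L as a Sylow 2-subgroup, with G = KD. -/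
theorem result {G : Type*} [Group G] [Finite G] (L T S D C : Subgroup G) (hL : Cfsg.pResidual 2 ↥L = ⊤)
    (hTL : T ≤ L) (hT2 : IsPGroup 2 T) (hTsyl : ¬ 2 ∣ T.relIndex L)
    (hS2 : IsPGroup 2 S) (hSsyl : ¬ 2 ∣ S.index) (hTS : T ≤ S)
    (hDS : D ≤ S) (hDih : ∃ n : ℕ, 2 ≤ n ∧ Nonempty (↥D ≃* DihedralGroup n)) (hDT : D ⊓ T = ⊥) (hTD : T ⊔ D = S) (hTDc : Nat.card T * Nat.card D = Nat.card S)
    (hCD : C ≤ D) (hC : IsCyclic ↥C) (hCi : C.relIndex D = 2)
    (h1 : ∀ x ∈ D, x ∉ C → orderOf x = 2 → ∀ g : G, g * x * g⁻¹ ∈ T ⊔ C → False)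
    (h2 : ∀ c ∈ C, orderOf c = 2 → ∀ g : G, g * c * g⁻¹ ∈ T → False) :
    ∃ K : Subgroup G, K.Normal ∧ K ⊔ D = ⊤ ∧
      ∀ T' : Subgroup G, T' ≤ L → IsPGroup 2 T' → ¬ 2 ∣ T'.relIndex L → T' ≤ K ∧ ¬ 2 ∣ T'.relIndex K := by
  classical
  have : Fact (Nat.Prime 2) := ⟨Nat.prime_two⟩
  obtain ⟨n, hn2, ⟨e⟩⟩ := hDih
  -- elements of D outside C are involutions
  have hCcyc : IsCyclic (C.subgroupOf D) := (subgroupOfEquivOfLe hCD).isCyclic.mpr hC
  have hinv : ∀ d ∈ D, d ∉ C → orderOf d = 2 := by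
    intro d hdD hdC
    have := orderOf_eq_two_of_not_mem hn2 e (C.subgroupOf D) hCcyc hCi ⟨d, hdD⟩
      (fun h => hdC (mem_subgroupOf.mp h))
    rwa [← Subgroup.orderOf_coe] at this
  -- cardinalities
  have hcardD : Nat.card D = 2 * n := by
    rw [Nat.card_congr e.toEquiv, DihedralGroup.nat_card]
  have hcardC : Nat.card C = n := by
    have h := (C.subgroupOf D).card_mul_index
    rw [show (C.subgroupOf D).index = 2 from hCi, hcardD,
      Nat.card_congr (subgroupOfEquivOfLe hCD).toEquiv] at h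
    omega
  obtain ⟨a, ha⟩ := (hS2.to_le hDS).exists_card_eq
  obtain ⟨k, hk1, hnk⟩ : ∃ k, 1 ≤ k ∧ n = 2 ^ k := by
    rw [hcardD] at ha
    have ha2 : 2 ≤ a := by
      by_contra hlt
      push Not at hlt
      interval_cases a <;> omega
    refine ⟨a - 1, by omega, ?_⟩
    obtain ⟨b, rfl⟩ : ∃ b, a = b + 1 := ⟨a - 1, by omega⟩
    rw [pow_succ] at ha
    simp only [Nat.add_sub_cancel]
    omega
  set m := S.index with hmdef
  have hm : Odd m := by
    rw [← Nat.not_even_iff_odd, even_iff_two_dvd]; exact hSsyl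
  have hcardG : Nat.card G = Nat.card T * (2 * n) * m := by
    rw [← S.card_mul_index, ← hTDc, hcardD]
  have hTpos : 0 < Nat.card T := Nat.card_pos
  -- an involution of D outside C
  obtain ⟨x, hxD, hxC⟩ : ∃ x ∈ D, x ∉ C := by
    by_contra hall
    push Not at hall
    have : C.relIndex D = 1 := relIndex_eq_one.mpr hall
    omega
  -- the subgroup M₁ = ⟨T, C⟩
  have hM₁S : T ⊔ C ≤ S := sup_le hTS (hCD.trans hDS)
  have hxM₁ : x ∉ T ⊔ C := by
    intro hx
    exact h1 x hxD hxC (hinv x hxD hxC) 1 (by simpa using hx)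
  have hTC : T ⊓ C = ⊥ := by
    rw [eq_bot_iff, ← hDT]
    exact le_inf (inf_le_right.trans hCD) inf_le_left
  have hlow : Nat.card T * Nat.card C ≤ Nat.card ↥(T ⊔ C) := by
    rw [← Nat.card_prod]
    let f : T × C → ↥(T ⊔ C) := fun p =>
      ⟨(p.1 : G) * (p.2 : G), mul_mem_sup p.1.2 p.2.2⟩
    apply Nat.card_le_card_of_injective f
    rintro ⟨t, c⟩ ⟨t', c'⟩ h
    have h' : (t : G) * (c : G) = (t' : G) * (c' : G) := congrArg Subtype.val h
    have h3 : (t' : G)⁻¹ * (t : G) = (c' : G) * (c : G)⁻¹ := by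
      have : (t' : G)⁻¹ * ((t : G) * (c : G)) * (c : G)⁻¹ = (t' : G)⁻¹ * ((t' : G) * (c' : G)) * (c : G)⁻¹ := by
        rw [h']
      simpa [mul_assoc] using this
    have h4 : (t' : G)⁻¹ * (t : G) ∈ T ⊓ C := by
      refine Subgroup.mem_inf.mpr ⟨T.mul_mem (T.inv_mem t'.2) t.2, ?_⟩
      rw [h3]
      exact C.mul_mem c'.2 (C.inv_mem c.2)
    rw [hTC, mem_bot] at h4
    have h5 : (t : G) = (t' : G) := by
      have := congrArg (fun z => (t' : G) * z) h4
      simpa using this
    have h6 : (c : G) = (c' : G) := by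
      rw [h5] at h'
      exact mul_left_cancel h'
    exact Prod.ext (Subtype.ext h5) (Subtype.ext h6)
  have hM₁card : Nat.card ↥(T ⊔ C) * 2 = Nat.card S := by
    obtain ⟨b, hb⟩ := (hS2.to_le hM₁S).exists_card_eq
    obtain ⟨s, hs⟩ := hS2.exists_card_eq
    have hdvd : Nat.card ↥(T ⊔ C) ∣ Nat.card S := Subgroup.card_dvd_of_le hM₁S
    rw [hb, hs] at hdvd
    have hbs : b ≤ s := (Nat.pow_dvd_pow_iff_le_right (by norm_num)).mp hdvd
    have hne : b ≠ s := by
      intro hbs'
      apply hxM₁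
      have : T ⊔ C = S := Subgroup.eq_of_le_of_card_ge hM₁S (by rw [hb, hs, hbs'])
      rw [this]; exact hDS hxD
    have h3 : 2 ^ b * 2 ≤ 2 ^ s := by
      rw [← pow_succ]
      exact Nat.pow_le_pow_right (by norm_num) (by omega)
    have h4 : Nat.card S = 2 * (Nat.card T * Nat.card C) := by
      rw [← hTDc, hcardD, hcardC]; ring
    have h5 : Nat.card ↥(T ⊔ C) * 2 ≤ Nat.card S := by rw [hb, hs]; exact h3
    have h6 : Nat.card S ≤ Nat.card ↥(T ⊔ C) * 2 := by rw [h4]; omega
    omega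
  have hM₁idx : (T ⊔ C).index = 2 ^ 1 * m := by
    have h := (T ⊔ C).card_mul_index
    have hG' : Nat.card G = Nat.card ↥(T ⊔ C) * 2 * m := by
      rw [hM₁card, hmdef, S.card_mul_index]
    rw [hG', mul_assoc] at h
    rw [pow_one]
    exact Nat.eq_of_mul_eq_mul_left Nat.card_pos h
  -- the sign character on G ⧸ M₁
  have hf : ∀ y ∈ D, y ∉ C → sgnHom (T ⊔ C) y = -1 := by
    intro y hyD hyC
    have hy2 : orderOf y = 2 := hinv y hyD hyC
    apply sgnHom_eq_neg_one (T ⊔ C) y 1 m le_rfl (by rw [hy2, pow_one]) _ hM₁idx hm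
    intro g j hg
    have hysq : y ^ 2 = 1 := by rw [← hy2]; exact pow_orderOf_eq_one y
    rcases Nat.even_or_odd' j with ⟨i, rfl | rfl⟩
    · rw [pow_mul, hysq, one_pow]
    · exfalso
      rw [pow_succ, pow_mul, hysq, one_pow, one_mul] at hg
      exact h1 y hyD hyC hy2 g⁻¹ (by simpa using hg)
  have hfx : sgnHom (T ⊔ C) x = -1 := hf x hxD hxC
  have hN₁i : (sgnHom (T ⊔ C)).ker.index = 2 := index_ker_of_eq_neg_one hfx
  have hCN₁ : C ≤ (sgnHom (T ⊔ C)).ker := by
    intro c' hc'
    have hxc : x * c' ∉ C := fun h => hxC (by simpa using C.mul_mem h (C.inv_mem hc'))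
    have h3 := hf (x * c') (D.mul_mem hxD (hCD hc')) hxc
    rw [map_mul, hfx] at h3
    rw [MonoidHom.mem_ker]
    have : -(sgnHom (T ⊔ C) c') = -1 := by simpa using h3
    exact neg_inj.mp this
  obtain ⟨hle, hmap, hr⟩ := pResidual_two_of_index_two (sgnHom (T ⊔ C)).ker hN₁i
  -- L ≤ O²(G)
  have hLK : L ≤ pResidual 2 G := by
    have h3 : (pResidual 2 ↥L).map L.subtype ≤ pResidual 2 G := by
      rw [map_subtype_pResidual]
      unfold pResidual
      apply Subgroup.closure_mono
      intro y hy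
      exact hy.2
    rw [hL, ← MonoidHom.range_eq_map, range_subtype] at h3
    exact h3
  have hTK : T ≤ pResidual 2 G := hTL.trans hLK
  have hTN₁ : T ≤ (sgnHom (T ⊔ C)).ker := hTK.trans hle
  -- the generator of C
  obtain ⟨g, hg⟩ := hC.exists_generator
  have hog : orderOf (g : G) = 2 ^ k := by
    rw [Subgroup.orderOf_coe, orderOf_eq_card_of_forall_mem_zpowers hg, hcardC, hnk]
  have hgN₁ : (g : G) ∈ (sgnHom (T ⊔ C)).ker := hCN₁ g.2
  have hsemi : ∀ g' : (sgnHom (T ⊔ C)).ker, ∀ j : ℕ,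
      g'⁻¹ * (⟨(g : G), hgN₁⟩ : (sgnHom (T ⊔ C)).ker) ^ j * g' ∈
        T.subgroupOf (sgnHom (T ⊔ C)).ker →
      (⟨(g : G), hgN₁⟩ : (sgnHom (T ⊔ C)).ker) ^ j = 1 := by
    intro g' j hmem
    rw [mem_subgroupOf] at hmem
    have hmem' : (g' : G)⁻¹ * (g : G) ^ j * (g' : G) ∈ T := by simpa using hmem
    by_contra hne
    have hu : (g : G) ^ j ≠ 1 := by
      intro h
      apply hne
      apply Subtype.ext
      simpa using h
    have hdvd : orderOf ((g : G) ^ j) ∣ 2 ^ k := hog ▸ orderOf_pow_dvd j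
    obtain ⟨i, -, hi⟩ := (Nat.dvd_prime_pow Nat.prime_two).mp hdvd
    have hi1 : 1 ≤ i := by
      rcases Nat.eq_zero_or_pos i with rfl | h
      · rw [pow_zero, orderOf_eq_one_iff] at hi
        exact absurd hi hu
      · exact h
    have hc₀ : orderOf (((g : G) ^ j) ^ 2 ^ (i - 1)) = 2 := by
      rw [orderOf_pow_of_dvd (by positivity) (by rw [hi]; exact pow_dvd_pow 2 (by omega)), hi,
        Nat.pow_div (by omega) (by norm_num)]
      have : i - (i - 1) = 1 := by omega
      rw [this, pow_one]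
    have hc₀C : ((g : G) ^ j) ^ 2 ^ (i - 1) ∈ C := C.pow_mem (C.pow_mem g.2 j) _
    have hconj : ∀ N : ℕ, ((g' : G)⁻¹ * (g : G) ^ j * (g' : G)) ^ N =
        (g' : G)⁻¹ * ((g : G) ^ j) ^ N * (g' : G) := by
      intro N
      induction N with
      | zero => simp
      | succ N ih => rw [pow_succ, ih, pow_succ]; group
    have h5 : (g' : G)⁻¹ * ((g : G) ^ j) ^ 2 ^ (i - 1) * (g' : G) ∈ T := by
      rw [← hconj]; exact T.pow_mem hmem' _
    exact h2 _ hc₀C hc₀ (g' : G)⁻¹ (by simpa using h5)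
  have hTidx : T.index = 2 * 2 ^ k * m := by
    have h := T.card_mul_index
    rw [hcardG, hnk, mul_assoc] at h
    exact Nat.eq_of_mul_eq_mul_left hTpos h
  have hidx' : (T.subgroupOf (sgnHom (T ⊔ C)).ker).index = 2 ^ k * m := by
    have h3 := Subgroup.relIndex_mul_index hTN₁
    rw [hN₁i, hTidx] at h3
    have h4 : T.relIndex (sgnHom (T ⊔ C)).ker * 2 = 2 ^ k * m * 2 := by rw [h3]; ring
    exact Nat.eq_of_mul_eq_mul_right (by norm_num) h4
  have hT' : T.subgroupOf (sgnHom (T ⊔ C)).ker ≤ pResidual 2 (sgnHom (T ⊔ C)).ker := by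
    intro t ht
    have h3 : (t : G) ∈ pResidual 2 G := hTK (mem_subgroupOf.mp ht)
    rw [← hmap] at h3
    obtain ⟨y, hy, hyt⟩ := h3
    have : y = t := Subtype.ext hyt
    rw [← this]; exact hy
  have hord' : orderOf (⟨(g : G), hgN₁⟩ : (sgnHom (T ⊔ C)).ker) = 2 ^ k := by
    rw [← Subgroup.orderOf_coe]; exact hog
  have hdvd := two_pow_dvd_index_pResidual k (T.subgroupOf (sgnHom (T ⊔ C)).ker)
    ⟨(g : G), hgN₁⟩ m hord' hsemi hidx' hm hT'
  -- |D| divides |G : O²(G)|
  have hF1 : 2 * 2 ^ k ∣ (pResidual 2 G).index := by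
    rw [hr]; exact Nat.mul_dvd_mul_left 2 hdvd
  -- the order of K = O²(G)
  obtain ⟨j, hj⟩ := (quotient_pResidual_isPGroup (p := 2) (G := G)).exists_card_eq
  rw [← Subgroup.index_eq_card] at hj
  have hKcard : Nat.card (pResidual 2 G) = Nat.card T * m ∧ (pResidual 2 G).index = 2 * 2 ^ k := by
    obtain ⟨d, hd⟩ := hF1
    have h3 := (pResidual 2 G).card_mul_index
    obtain ⟨u, hu⟩ : Nat.card T ∣ Nat.card (pResidual 2 G) := Subgroup.card_dvd_of_le hTK
    rw [hcardG, hnk, hd, hu] at h3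
    have h4 : Nat.card T * (2 * 2 ^ k) * (u * d) = Nat.card T * (2 * 2 ^ k) * m := by
      rw [← h3]; ring
    have h5 : u * d = m := Nat.eq_of_mul_eq_mul_left (by positivity) h4
    have hd2 : d ∣ 2 ^ j := by rw [← hj, hd]; exact Dvd.intro_left _ rfl
    have hdm : d ∣ m := by rw [← h5]; exact Dvd.intro_left _ rfl
    have hd1 : d = 1 := by
      have hcop : Nat.Coprime (2 ^ j) m := Nat.Coprime.pow_left j (Nat.coprime_two_left.mpr hm)
      exact Nat.eq_one_of_dvd_coprimes hcop hd2 hdm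
    subst hd1
    rw [mul_one] at h5 hd
    exact ⟨by rw [hu, h5], hd⟩
  obtain ⟨hKc, hKi⟩ := hKcard
  refine ⟨pResidual 2 G, inferInstance, ?_, ?_⟩
  · -- K ⊔ D = ⊤
    have hSK : S ⊓ pResidual 2 G = T := by
      symm
      apply Subgroup.eq_of_le_of_card_ge (le_inf hTS hTK)
      obtain ⟨r, hr'⟩ := (hS2.to_le (inf_le_left : S ⊓ pResidual 2 G ≤ S)).exists_card_eq
      have h3 : Nat.card ↥(S ⊓ pResidual 2 G) ∣ Nat.card T * m := by
        rw [← hKc]; exact Subgroup.card_dvd_of_le inf_le_right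
      rw [hr'] at h3 ⊢
      have hcop : Nat.Coprime (2 ^ r) m := Nat.Coprime.pow_left r (Nat.coprime_two_left.mpr hm)
      exact Nat.le_of_dvd hTpos (hcop.dvd_of_dvd_mul_right h3)
    have hDK : D ⊓ pResidual 2 G = ⊥ := by
      rw [eq_bot_iff, ← hDT]
      refine le_inf inf_le_left ?_
      rw [← hSK]
      exact le_inf (inf_le_left.trans hDS) inf_le_right
    let φ : D →* G ⧸ pResidual 2 G := (QuotientGroup.mk' (pResidual 2 G)).comp D.subtype
    have hφinj : Function.Injective φ := by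
      rw [injective_iff_map_eq_one]
      intro d hd
      have h3 : (d : G) ∈ pResidual 2 G := (QuotientGroup.eq_one_iff (d : G)).mp hd
      have h4 : (d : G) ∈ D ⊓ pResidual 2 G := ⟨d.2, h3⟩
      rw [hDK, mem_bot] at h4
      exact Subtype.ext h4
    have hφsurj : Function.Surjective φ := by
      apply (hφinj.bijective_of_nat_card_le _).2
      rw [← Subgroup.index_eq_card, hKi, hcardD, hnk]
    rw [eq_top_iff]
    intro y _
    obtain ⟨d, hd⟩ := hφsurj (y : G ⧸ pResidual 2 G)
    have h3 : (d : G)⁻¹ * y ∈ pResidual 2 G := QuotientGroup.eq.mp hd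
    have h5 : y = (d : G) * ((d : G)⁻¹ * y) := by group
    rw [h5, sup_comm]
    exact mul_mem_sup d.2 h3
  · intro T' hT'L hT'2 hT'syl
    have hT'K : T' ≤ pResidual 2 G := hT'L.trans hLK
    refine ⟨hT'K, ?_⟩
    -- |T'| = |T|
    have hcardT' : Nat.card T' = Nat.card T := by
      obtain ⟨a₁, ha₁⟩ := hT2.exists_card_eq
      obtain ⟨a₂, ha₂⟩ := hT'2.exists_card_eq
      have e1 : Nat.card T * T.relIndex L = Nat.card L := by
        have := (T.subgroupOf L).card_mul_index
        rwa [Nat.card_congr (subgroupOfEquivOfLe hTL).toEquiv] at this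
      have e2 : Nat.card T' * T'.relIndex L = Nat.card L := by
        have := (T'.subgroupOf L).card_mul_index
        rwa [Nat.card_congr (subgroupOfEquivOfLe hT'L).toEquiv] at this
      have ho1 : Nat.Coprime 2 (T.relIndex L) := (Nat.Prime.coprime_iff_not_dvd Nat.prime_two).mpr hTsyl
      have ho2 : Nat.Coprime 2 (T'.relIndex L) := (Nat.Prime.coprime_iff_not_dvd Nat.prime_two).mpr hT'syl
      rw [ha₁] at e1
      rw [ha₂] at e2
      have d1 : 2 ^ a₁ ∣ 2 ^ a₂ := by
        have : 2 ^ a₁ ∣ 2 ^ a₂ * T'.relIndex L := by rw [e2, ← e1]; exact Dvd.intro _ rfl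
        exact (Nat.Coprime.pow_left a₁ ho2).dvd_of_dvd_mul_right this
      have d2 : 2 ^ a₂ ∣ 2 ^ a₁ := by
        have : 2 ^ a₂ ∣ 2 ^ a₁ * T.relIndex L := by rw [e1, ← e2]; exact Dvd.intro _ rfl
        exact (Nat.Coprime.pow_left a₂ ho1).dvd_of_dvd_mul_right this
      rw [ha₁, ha₂]
      exact Nat.dvd_antisymm d2 d1
    have e3 : Nat.card T' * T'.relIndex (pResidual 2 G) = Nat.card (pResidual 2 G) := by
      have := (T'.subgroupOf (pResidual 2 G)).card_mul_index
      rwa [Nat.card_congr (subgroupOfEquivOfLe hT'K).toEquiv] at this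
    rw [hcardT', hKc] at e3
    have e4 : T'.relIndex (pResidual 2 G) = m := Nat.eq_of_mul_eq_mul_left hTpos e3
    rw [e4, ← even_iff_two_dvd, Nat.not_even_iff_odd]
    exact hm

end Cfsg.Agent.S1924
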