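import Cfsg.Statements.S1939
import Cfsg.Agent.Lib.Helper13.Sylow

set_option autoImplicit false
open Cfsg

namespace Cfsg.Agent.S1939

/-- Let S be a Sylow p-subgroup of the finite group G and a an element of S that is the only G-conjugate of a lying in S. Then every power of a has the same property: for every n, the only G-conjugate of a^n lying in S is a^n. -/
theorem result {G : Type*} [Group G] [Finite G] {p : ℕ} [Fact p.Prime] (S : Sylow p G) (a : G)
    (haS : a ∈ (S : Subgroup G)) (hwc : ∀ g : G, g * a * g⁻¹ ∈ (S : Subgroup G) → g * a * g⁻¹ = a) (n : ℕ) :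
    ∀ g : G, g * a ^ n * g⁻¹ ∈ (S : Subgroup G) → g * a ^ n * g⁻¹ = a ^ n := by
  intro g hg
  -- a is central in S
  have hcen : ∀ s ∈ (S : Subgroup G), s * a = a * s := by
    intro s hs
    have h1 : s * a * s⁻¹ ∈ (S : Subgroup G) :=
      Subgroup.mul_mem _ (Subgroup.mul_mem _ hs haS) (Subgroup.inv_mem _ hs)
    have h2 := hwc s h1
    calc s * a = s * a * s⁻¹ * s := by group
      _ = a * s := by rw [h2]
  set x := g * a ^ n * g⁻¹ with hx
  -- the centralizer of x
  let C : Subgroup G := Subgroup.centralizer {x}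
  -- the conjugate Sylow subgroup
  let Q : Sylow p G := g • S
  have hQmem : ∀ y, y ∈ (Q : Subgroup G) ↔ g⁻¹ * y * g ∈ (S : Subgroup G) :=
    fun y => Lib.Helper13.mem_smul_sylow_iff S g y
  have hxpow : x = (g * a * g⁻¹) ^ n := by
    rw [hx, conj_pow]
  have hQC : (Q : Subgroup G) ≤ C := by
    intro y hy
    rw [hQmem] at hy
    have h1 := hcen _ hy
    -- g⁻¹ y g commutes with a, so y commutes with g a g⁻¹
    have h2 : y * (g * a * g⁻¹) = (g * a * g⁻¹) * y := by
      have : y * (g * a * g⁻¹) = g * ((g⁻¹ * y * g) * a) * g⁻¹ := by group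
      rw [this, h1]; group
    show y ∈ Subgroup.centralizer {x}
    rw [Subgroup.mem_centralizer_iff]
    intro z hz
    rw [Set.mem_singleton_iff] at hz
    subst hz
    rw [hxpow]
    exact ((Commute.pow_right (show Commute y (g * a * g⁻¹) from h2) n).eq).symm
  have haC : a ∈ C := by
    show a ∈ Subgroup.centralizer {x}
    rw [Subgroup.mem_centralizer_iff]
    intro z hz
    rw [Set.mem_singleton_iff] at hz
    subst hz
    exact hcen _ hg
  -- Sylow theory in C
  let QC : Sylow p C := Q.subtype hQC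
  have hapk : ∃ k : ℕ, (⟨a, haC⟩ : C) ^ p ^ k = 1 := by
    obtain ⟨k, hk⟩ := S.isPGroup' ⟨a, haS⟩
    refine ⟨k, ?_⟩
    apply Subtype.ext
    have := congrArg Subtype.val hk
    simpa using this
  obtain ⟨c, hc⟩ := Lib.Helper13.exists_conj_mem_sylow QC ⟨a, haC⟩ hapk
  -- c a c⁻¹ ∈ Q
  have hc' : (c : G) * a * (c : G)⁻¹ ∈ (Q : Subgroup G) := by
    have h0 : c * ⟨a, haC⟩ * c⁻¹ ∈ (Q : Subgroup G).subgroupOf C := by
      rw [← Sylow.coe_subtype Q hQC]; exact hc
    rw [Subgroup.mem_subgroupOf] at h0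
    simpa using h0
  rw [hQmem] at hc'
  have h3 : (g⁻¹ * c) * a * (g⁻¹ * c)⁻¹ = a := by
    apply hwc
    convert hc' using 1
    group
  have h4 : (c : G) * a * (c : G)⁻¹ = g * a * g⁻¹ := by
    calc (c : G) * a * (c : G)⁻¹ = g * ((g⁻¹ * c) * a * (g⁻¹ * c)⁻¹) * g⁻¹ := by group
      _ = g * a * g⁻¹ := by rw [h3]
  have h5 : (c : G) * a ^ n * (c : G)⁻¹ = x := by
    rw [hxpow, ← h4, conj_pow]
  have hcC : (c : G) * x = x * c := by
    have := c.2
    have h6 : (c : G) ∈ Subgroup.centralizer {x} := this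
    rw [Subgroup.mem_centralizer_iff] at h6
    exact (h6 x rfl).symm
  -- conclude
  have : a ^ n = (c : G)⁻¹ * x * c := by
    rw [← h5]; group
  rw [this, mul_assoc, ← hcC]; group

end Cfsg.Agent.S1939
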