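import Cfsg.Statements.S1940

set_option autoImplicit false
open Cfsg

namespace Cfsg.Agent.S1940

/-- Let the finite group L act by automorphisms on the finite abelian group M, and let N be an L-invariant subgroup of M such that M/N is a p-group on which L acts trivially (every l • m lies in the coset mN). If every element of M is a product of an element of N and an element fixed by a Sylow p-subgroup T of L, then every element of M is a product of an element of N and an element fixed by all of L. -/
theorem result {L : Type*} [Group L] [Finite L] {M : Type*} [CommGroup M] [Finite M] [MulDistribMulAction L M]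
    {p : ℕ} [Fact p.Prime] (N : Subgroup M) (hN : ∀ (l : L) (m : M), m ∈ N → l • m ∈ N)
    (hquot : IsPGroup p (M ⧸ N)) (htriv : ∀ (l : L) (m : M), (l • m) * m⁻¹ ∈ N) (T : Sylow p L)
    (hT : ∀ m : M, ∃ n ∈ N, ∃ c : M, (∀ t ∈ (T : Subgroup L), t • c = c) ∧ m = n * c) :
    ∀ m : M, ∃ n ∈ N, ∃ c : M, (∀ l : L, l • c = c) ∧ m = n * c := by
  classical
  intro m
  obtain ⟨n, hn, c, hc, rfl⟩ := hT m
  haveI : Fintype (L ⧸ (T : Subgroup L)) := Fintype.ofFinite _
  -- the function on cosets
  let f : L ⧸ (T : Subgroup L) → M := Quotient.lift (fun l : L => l • c) (by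
    intro a b hab
    have hab' : a⁻¹ * b ∈ (T : Subgroup L) := QuotientGroup.leftRel_apply.mp hab
    have := hc _ hab'
    show a • c = b • c
    calc a • c = a • ((a⁻¹ * b) • c) := by rw [this]
      _ = b • c := by rw [smul_smul]; simp)
  have hf : ∀ l : L, f (QuotientGroup.mk l) = l • c := fun l => rfl
  have hfsmul : ∀ (l : L) (q : L ⧸ (T : Subgroup L)), l • f q = f (l • q) := by
    intro l q
    induction q using QuotientGroup.induction_on with
    | H z =>
      rw [hf, smul_smul]
      rfl
  let c' : M := ∏ q : L ⧸ (T : Subgroup L), f q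
  have hc'fix : ∀ l : L, l • c' = c' := by
    intro l
    show l • (∏ q : L ⧸ (T : Subgroup L), f q) = ∏ q : L ⧸ (T : Subgroup L), f q
    rw [Finset.smul_prod']
    simp only [hfsmul]
    exact Fintype.prod_equiv (MulAction.toPerm l) _ _ (fun q => rfl)
  -- image in the quotient
  let x : M ⧸ N := QuotientGroup.mk c
  have hfx : ∀ q, (QuotientGroup.mk (f q) : M ⧸ N) = x := by
    intro q
    induction q using QuotientGroup.induction_on with
    | H z =>
      rw [hf]
      show (QuotientGroup.mk (z • c) : M ⧸ N) = QuotientGroup.mk c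
      rw [QuotientGroup.eq]
      have := htriv z c
      have h2 : (z • c)⁻¹ * c = ((z • c) * c⁻¹)⁻¹ := by
        rw [mul_inv_rev, inv_inv, mul_comm]
      rw [h2]
      exact N.inv_mem this
  have hc'x : (QuotientGroup.mk c' : M ⧸ N) = x ^ (T : Subgroup L).index := by
    show (QuotientGroup.mk (∏ q : L ⧸ (T : Subgroup L), f q) : M ⧸ N) = _
    rw [← QuotientGroup.mk'_apply, map_prod]
    simp only [QuotientGroup.mk'_apply, hfx]
    rw [Finset.prod_const, Finset.card_univ, Subgroup.index, Nat.card_eq_fintype_card]
  -- coprimality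
  obtain ⟨e, he⟩ := hquot x
  have hp : p.Prime := Fact.out
  have hndvd : ¬ p ∣ (T : Subgroup L).index := T.not_dvd_index
  have hcop : Nat.Coprime (T : Subgroup L).index (orderOf x) := by
    have h1 : Nat.Coprime (T : Subgroup L).index (p ^ e) :=
      Nat.Coprime.pow_right e ((Nat.Prime.coprime_iff_not_dvd hp).2 hndvd).symm
    exact Nat.Coprime.coprime_dvd_right (orderOf_dvd_of_pow_eq_one he) h1
  obtain ⟨j, hj⟩ := exists_pow_eq_self_of_coprime hcop
  -- conclusion
  refine ⟨n * (c * (c' ^ j)⁻¹), N.mul_mem hn ?_, c' ^ j, ?_, ?_⟩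
  · rw [← div_eq_mul_inv, ← QuotientGroup.eq_one_iff, QuotientGroup.mk_div, QuotientGroup.mk_pow,
      hc'x, hj]
    exact div_self' x
  · intro l
    rw [smul_pow', hc'fix]
  · rw [mul_assoc, mul_assoc, inv_mul_cancel, mul_one]

end Cfsg.Agent.S1940
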