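import Cfsg.Statements.S1941
import Cfsg.Agent.H26.SylowRigid
import Cfsg.Agent.Lib.Helper9.Layer2
import Cfsg.Agent.Lib.Helper1.Fitting
import Cfsg.Agent.Lib.Helper1.Cores

set_option autoImplicit false
open Cfsg

namespace Cfsg.Agent.S1941

/-- Let G be a finite group with no nontrivial normal subgroup of order prime to p, T a Sylow p-subgroup of G and E(G) the layer of G (the subgroup generated by its components). An automorphism of G of p-power order that fixes T and E(G) elementwise is inner. -/
theorem result {G : Type*} [Group G] [Finite G] {p : ℕ} [Fact p.Prime] (hcore : Cfsg.pPrimeCore p G = ⊥)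
    (T : Sylow p G) (α : MulAut G) (hα : ∃ j : ℕ, orderOf α = p ^ j) (hfixT : ∀ x ∈ (T : Subgroup G), α x = x)
    (hfixE : ∀ x ∈ Cfsg.layer G, α x = x) : ∃ g : G, ∀ x : G, α x = g * x * g⁻¹ := by
  have hF : fittingSubgroup G = pCore p G :=
    Cfsg.Agent.Lib.Helper1.fittingSubgroup_eq_pCore_of_pPrimeCore_eq_bot p hcore
  have hFT : fittingSubgroup G ≤ (T : Subgroup G) := by
    rw [hF]; exact Cfsg.Agent.Lib.Helper1.pCore_le_sylow T
  -- `α` fixes the generalized Fitting subgroup
  have hfixF : generalizedFittingSubgroup G ≤ MonoidHom.eqLocus α.toMonoidHom (MonoidHom.id G) := by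
    unfold generalizedFittingSubgroup
    apply sup_le
    · intro x hx; exact hfixE x hx
    · intro x hx; exact hfixT x (hFT hx)
  have hfixF' : ∀ x ∈ generalizedFittingSubgroup G, α x = x := fun x hx => hfixF hx
  have hFn : (generalizedFittingSubgroup G).Normal := Cfsg.Agent.Lib.Helper9.gfs_normal
  have hCn : (Subgroup.centralizer ((generalizedFittingSubgroup G : Subgroup G) : Set G)).Normal :=
    Subgroup.normal_centralizer
  set A : Subgroup G := generalizedFittingSubgroup G ⊓
    Subgroup.centralizer ((generalizedFittingSubgroup G : Subgroup G) : Set G) with hA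
  have hAn : A.Normal := inferInstance
  have hAc : IsMulCommutative ↥A := by
    refine ⟨⟨fun a b => ?_⟩⟩
    apply Subtype.ext
    have h1 := Subgroup.mem_centralizer_iff.mp (Subgroup.mem_inf.mp a.2).2 (b : G) (Subgroup.mem_inf.mp b.2).1
    exact h1.symm
  have hAT : A ≤ (T : Subgroup G) := by
    have hnil : Group.IsNilpotent ↥A := Cfsg.Agent.Lib.Helper9.isNilpotent_of_isMulCommutative
    exact (Cfsg.Agent.Lib.Helper1.le_fittingSubgroup hAn hnil).trans hFT
  have hmem : ∀ g : G, α g * g⁻¹ ∈ A := by
    intro g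
    have hc : α g * g⁻¹ ∈ Subgroup.centralizer ((generalizedFittingSubgroup G : Subgroup G) : Set G) := by
      rw [Subgroup.mem_centralizer_iff]
      intro f hf
      have h1 : g⁻¹ * f * g ∈ generalizedFittingSubgroup G := by
        have := hFn.conj_mem f hf g⁻¹
        simpa using this
      have h2 := hfixF' _ h1
      rw [map_mul, map_mul, map_inv, hfixF' f hf] at h2
      -- h2 : (α g)⁻¹ * f * α g = g⁻¹ * f * g
      calc f * (α g * g⁻¹) = α g * ((α g)⁻¹ * f * α g) * g⁻¹ := by group
        _ = α g * (g⁻¹ * f * g) * g⁻¹ := by rw [h2]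
        _ = α g * g⁻¹ * f := by group
    exact Subgroup.mem_inf.mpr ⟨Cfsg.Agent.Lib.Helper9.centralizer_gfs_le hc, hc⟩
  obtain ⟨v, -, hv⟩ := Cfsg.Agent.H26.aut_fix_sylow_eq_conj T A hAT α hfixT hmem
  exact ⟨v, hv⟩

end Cfsg.Agent.S1941
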