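import Cfsg.Statements.S1944
import Cfsg.Agent.Lib.Helper1.Cores
import Cfsg.Agent.Lib.Helper13.Sylow
import Cfsg.Agent.Lib.Helper17.SylowNormal
import Cfsg.Agent.Lib.Helper27.TransferComplement

set_option autoImplicit false
open Cfsg

namespace Cfsg.Agent.S1944

open Cfsg.Agent.Lib.Helper13

/-- commutative group structure on an elementwise commuting subgroup -/
@[reducible] def commGroupOfComm {H : Type*} [Group H] (A : Subgroup H)
    (h : ∀ a ∈ A, ∀ b ∈ A, a * b = b * a) : CommGroup ↥A :=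
  { A.toGroup with mul_comm := fun a b => Subtype.ext (h a a.2 b b.2) }

/-- a `p`-group meets a group of order prime to `p` trivially -/
theorem inf_eq_bot_of_coprime {G : Type*} [Group G] [Finite G] {p : ℕ} [Fact p.Prime] (S O : Subgroup G)
    (hS : IsPGroup p S) (hO : (Nat.card O).Coprime p) : S ⊓ O = ⊥ := by
  rw [eq_bot_iff]
  intro x hx
  obtain ⟨hxS, hxO⟩ := Subgroup.mem_inf.mp hx
  obtain ⟨k, hk⟩ := hS ⟨x, hxS⟩
  have hk' : x ^ p ^ k = 1 := by
    have := congrArg Subtype.val hk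
    simpa using this
  have h1 : orderOf x ∣ p ^ k := orderOf_dvd_of_pow_eq_one hk'
  have h2 : orderOf x ∣ Nat.card O := by
    have h3 : orderOf (⟨x, hxO⟩ : ↥O) ∣ Nat.card O := orderOf_dvd_natCard _
    rwa [← Subgroup.orderOf_coe] at h3
  have h4 : orderOf x = 1 := Nat.eq_one_of_dvd_coprimes (Nat.Coprime.pow_right k hO) h2 h1
  exact Subgroup.mem_bot.mpr (orderOf_eq_one_iff.mp h4)

/-- Let S be a Sylow p-subgroup of a finite group G with Z(S) ≤ O_{p',p}(G). Then the elements of S that are weakly closed in S form a subgroup W of Z(S), and W is a direct factor of Z(S). -/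
theorem result {G : Type*} [Group G] [Finite G] {p : ℕ} [Fact p.Prime] (S : Sylow p G)
    (hZ : ((S : Subgroup G) ⊓ Subgroup.centralizer ((S : Subgroup G) : Set G)) ≤ Cfsg.pPrimePCore p G) :
    ∃ W K : Subgroup G, (∀ x : G, x ∈ W ↔ (x ∈ (S : Subgroup G) ∧ ∀ g : G, g * x * g⁻¹ ∈ (S : Subgroup G) → g * x * g⁻¹ = x)) ∧
      K ≤ ((S : Subgroup G) ⊓ Subgroup.centralizer ((S : Subgroup G) : Set G)) ∧ W ⊓ K = ⊥ ∧ W ⊔ K = ((S : Subgroup G) ⊓ Subgroup.centralizer ((S : Subgroup G) : Set G)) := by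
  classical
  have hp : p.Prime := Fact.out
  have hOn : (pPrimeCore p G).Normal := Cfsg.Agent.Lib.Helper1.pPrimeCore_normal p
  set O : Subgroup G := pPrimeCore p G with hO
  set π : G →* G ⧸ O := QuotientGroup.mk' O with hπ
  have hπs : Function.Surjective π := QuotientGroup.mk'_surjective O
  have hker : ∀ x : G, π x = 1 ↔ x ∈ O := fun x => by
    rw [hπ, QuotientGroup.mk'_apply, QuotientGroup.eq_one_iff]
  have hQn : (pCore p (G ⧸ O)).Normal := Cfsg.Agent.Lib.Helper1.pCore_normal p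
  set Qb : Subgroup (G ⧸ O) := pCore p (G ⧸ O) with hQb
  set S' : Subgroup G := (S : Subgroup G) with hS'
  set Z : Subgroup G := S' ⊓ Subgroup.centralizer (S' : Set G) with hZdef
  have hSO : S' ⊓ O = ⊥ :=
    inf_eq_bot_of_coprime S' O S.isPGroup' (Cfsg.Agent.Lib.Helper1.pPrimeCore_coprime p)
  have hinj : ∀ a ∈ S', ∀ b ∈ S', π a = π b → a = b := by
    intro a ha b hb hab
    have h1 : a * b⁻¹ ∈ S' ⊓ O := Subgroup.mem_inf.mpr
      ⟨S'.mul_mem ha (S'.inv_mem hb), (hker _).mp (by rw [map_mul, map_inv, hab, mul_inv_cancel])⟩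
    rw [hSO, Subgroup.mem_bot] at h1
    exact mul_inv_eq_one.mp h1
  have hQbS : Qb ≤ S'.map π := by
    have := Cfsg.Agent.Lib.Helper1.pCore_le_sylow (S.mapSurjective hπs)
    exact this
  set ZQ : Subgroup (G ⧸ O) := Qb ⊓ Subgroup.centralizer (Qb : Set (G ⧸ O)) with hZQ
  have hZQn : ZQ.Normal := Subgroup.normal_inf_normal _ _
  have hZQcomm : ∀ a ∈ ZQ, ∀ b ∈ ZQ, a * b = b * a := fun a ha b hb =>
    (Subgroup.mem_centralizer_iff.mp (Subgroup.mem_inf.mp hb).2 a (Subgroup.mem_inf.mp ha).1)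
  letI : CommGroup ↥ZQ := commGroupOfComm ZQ hZQcomm
  have hF2 : ∀ x ∈ Z, π x ∈ ZQ := by
    intro x hx
    obtain ⟨hxS, hxC⟩ := Subgroup.mem_inf.mp hx
    refine Subgroup.mem_inf.mpr ⟨hZ hx, ?_⟩
    rw [Subgroup.mem_centralizer_iff]
    intro q hq
    obtain ⟨s, hs, rfl⟩ := hQbS hq
    rw [← map_mul, ← map_mul, Subgroup.mem_centralizer_iff.mp hxC s hs]
  let ρ : G →* MulAut ↥ZQ := (MulAut.conjNormal (H := ZQ)).comp π
  have hρ : ∀ (g : G) (w : ↥ZQ), ((ρ g w : ↥ZQ) : G ⧸ O) = π g * w * (π g)⁻¹ := fun g w => rfl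
  have hcop : Nat.Coprime S'.index (Nat.card ↥ZQ) := by
    have hZQp : IsPGroup p ZQ := (Cfsg.Agent.Lib.Helper1.pCore_isPGroup p).to_le inf_le_left
    obtain ⟨n, hn⟩ := hZQp.exists_card_eq
    rw [hn]
    exact Nat.Coprime.pow_right n ((Nat.Prime.coprime_iff_not_dvd hp).mpr S.not_dvd_index).symm
  obtain ⟨Kb, hKb1, hKb2, hKb3⟩ := Cfsg.Agent.Lib.Helper27.exists_complement_fixed ρ S' hcop
  -- elements of `ZQ` fixed by everything are central
  have hfix_top : ∀ w : ↥ZQ, w ∈ Cfsg.Agent.Lib.Helper27.fixedOf ρ ⊤ ↔ (w : G ⧸ O) ∈ Subgroup.center (G ⧸ O) := by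
    intro w
    rw [Subgroup.mem_center_iff]
    constructor
    · intro hw h
      obtain ⟨g, rfl⟩ := hπs h
      have h1 := congrArg Subtype.val (hw g (Subgroup.mem_top g))
      rw [hρ] at h1
      calc π g * (w : G ⧸ O) = π g * w * (π g)⁻¹ * π g := by group
        _ = w * π g := by rw [h1]
    · intro hw g _
      apply Subtype.ext
      rw [hρ, hw (π g)]
      group
  set L : Subgroup G := Cfsg.pPrimePCore p G with hL
  have hLn : L.Normal := by
    rw [hL]; unfold Cfsg.pPrimePCore; infer_instance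
  have hLmem : ∀ x : G, x ∈ L ↔ π x ∈ Qb := fun x => Iff.rfl
  refine ⟨Z ⊓ (Subgroup.center (G ⧸ O)).comap π, Z ⊓ (Kb.map ZQ.subtype).comap π, ?_, inf_le_left, ?_, ?_⟩
  · intro x
    constructor
    · intro hx
      obtain ⟨hxZ, hxc⟩ := Subgroup.mem_inf.mp hx
      have hxc' : π x ∈ Subgroup.center (G ⧸ O) := hxc
      refine ⟨(Subgroup.mem_inf.mp hxZ).1, ?_⟩
      intro g hg
      apply hinj _ hg _ (Subgroup.mem_inf.mp hxZ).1
      rw [map_mul, map_mul, map_inv, Subgroup.mem_center_iff.mp hxc' (π g)]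
      group
    · rintro ⟨hxS, hwc⟩
      have hxC : x ∈ Subgroup.centralizer (S' : Set G) := by
        rw [Subgroup.mem_centralizer_iff]
        intro s hs
        have h1 := hwc s (S'.mul_mem (S'.mul_mem hs hxS) (S'.inv_mem hs))
        calc s * x = s * x * s⁻¹ * s := by group
          _ = x * s := by rw [h1]
      have hxZ : x ∈ Z := Subgroup.mem_inf.mpr ⟨hxS, hxC⟩
      refine Subgroup.mem_inf.mpr ⟨hxZ, ?_⟩
      show π x ∈ Subgroup.center (G ⧸ O)
      rw [Subgroup.mem_center_iff]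
      intro h
      obtain ⟨g, rfl⟩ := hπs h
      have hxL : x ∈ L := hZ hxZ
      -- the conjugate `y = g x g⁻¹`
      set Qy : Subgroup G := (Subgroup.zpowers x).map (MulAut.conj g).toMonoidHom with hQy
      have hQyp : IsPGroup p Qy :=
        (S.isPGroup'.to_le ((Subgroup.zpowers_le).mpr hxS)).map _
      have hQyL : Qy ≤ L := by
        rintro _ ⟨t, ht, rfl⟩
        have htL : t ∈ L := (Subgroup.zpowers_le.mpr hxL) ht
        simpa [MulAut.conj_apply] using hLn.conj_mem t htL g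
      have hTi : ¬ p ∣ (S' ⊓ L).relIndex L := by
        rw [Subgroup.inf_relIndex_right]
        intro h
        exact S.not_dvd_index (dvd_trans h (Cfsg.Agent.Lib.Helper17.relIndex_dvd_index_of_normal_right S' L))
      obtain ⟨l, hlL, hl⟩ := exists_conj_le_of_relIndex L (S' ⊓ L) Qy (S.isPGroup'.to_le inf_le_left)
        hTi hQyL hQyp
      have hyQy : g * x * g⁻¹ ∈ Qy := ⟨x, Subgroup.mem_zpowers x, by simp [MulAut.conj_apply]⟩
      have h1 := (Subgroup.mem_inf.mp (hl _ hyQy)).1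
      have h2 : l * g * x * (l * g)⁻¹ = l * (g * x * g⁻¹) * l⁻¹ := by group
      have h3 := hwc (l * g) (by rw [h2]; exact h1)
      rw [h2] at h3
      have h4 : π l * (π g * π x * (π g)⁻¹) * (π l)⁻¹ = π x := by
        rw [← map_inv, ← map_inv, ← map_mul, ← map_mul, ← map_mul, ← map_mul, h3]
      have h5 : π l * π x = π x * π l :=
        Subgroup.mem_centralizer_iff.mp (Subgroup.mem_inf.mp (hF2 x hxZ)).2 (π l) ((hLmem l).mp hlL)
      have h6 : π g * π x * (π g)⁻¹ = π x := by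
        calc π g * π x * (π g)⁻¹ = (π l)⁻¹ * (π l * (π g * π x * (π g)⁻¹) * (π l)⁻¹) * π l := by group
          _ = (π l)⁻¹ * π x * π l := by rw [h4]
          _ = (π l)⁻¹ * (π x * π l) := by group
          _ = (π l)⁻¹ * (π l * π x) := by rw [h5]
          _ = π x := by group
      calc π g * π x = π g * π x * (π g)⁻¹ * π g := by group
        _ = π x * π g := by rw [h6]
  · rw [eq_bot_iff]
    intro x hx
    obtain ⟨hxW, hxK⟩ := Subgroup.mem_inf.mp hx
    obtain ⟨hxZ, hxc⟩ := Subgroup.mem_inf.mp hxW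
    obtain ⟨w, hwK, hwx⟩ := (Subgroup.mem_inf.mp hxK).2
    have hwx' : (w : G ⧸ O) = π x := hwx
    have hw1 : w ∈ Cfsg.Agent.Lib.Helper27.fixedOf ρ ⊤ := by
      rw [hfix_top, hwx']; exact hxc
    have hw2 : w ∈ Cfsg.Agent.Lib.Helper27.fixedOf ρ ⊤ ⊓ Kb := Subgroup.mem_inf.mpr ⟨hw1, hwK⟩
    rw [hKb2, Subgroup.mem_bot] at hw2
    have h1 : π x = 1 := by rw [← hwx', hw2]; rfl
    have h2 : x ∈ S' ⊓ O := Subgroup.mem_inf.mpr ⟨(Subgroup.mem_inf.mp hxZ).1, (hker x).mp h1⟩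
    rw [hSO] at h2
    exact h2
  · apply le_antisymm (sup_le inf_le_left inf_le_left)
    intro x hxZ
    obtain ⟨hxS, hxC⟩ := Subgroup.mem_inf.mp hxZ
    set w : ↥ZQ := ⟨π x, hF2 x hxZ⟩ with hw
    have hwfix : w ∈ Cfsg.Agent.Lib.Helper27.fixedOf ρ S' := by
      intro s hs
      apply Subtype.ext
      rw [hρ]
      show π s * π x * (π s)⁻¹ = π x
      rw [← map_mul, Subgroup.mem_centralizer_iff.mp hxC s hs, map_mul]
      group
    rw [← hKb3] at hwfix
    obtain ⟨a, ha, b, hb, hab⟩ := Subgroup.mem_sup.mp hwfix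
    have hacen : (a : G ⧸ O) ∈ Subgroup.center (G ⧸ O) := (hfix_top a).mp ha
    obtain ⟨s, hs, hsa⟩ := hQbS (Subgroup.mem_inf.mp a.2).1
    have hsC : s ∈ Subgroup.centralizer (S' : Set G) := by
      rw [Subgroup.mem_centralizer_iff]
      intro s' hs'
      have h1 : s' * s * s'⁻¹ = s := by
        apply hinj _ (S'.mul_mem (S'.mul_mem hs' hs) (S'.inv_mem hs')) _ hs
        rw [map_mul, map_mul, map_inv, hsa, Subgroup.mem_center_iff.mp hacen (π s')]
        group
      calc s' * s = s' * s * s'⁻¹ * s' := by group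
        _ = s * s' := by rw [h1]
    have hsZ : s ∈ Z := Subgroup.mem_inf.mpr ⟨hs, hsC⟩
    have hsW : s ∈ Z ⊓ (Subgroup.center (G ⧸ O)).comap π := by
      refine Subgroup.mem_inf.mpr ⟨hsZ, ?_⟩
      show π s ∈ Subgroup.center (G ⧸ O)
      rw [hsa]; exact hacen
    have htK : s⁻¹ * x ∈ Z ⊓ (Kb.map ZQ.subtype).comap π := by
      refine Subgroup.mem_inf.mpr ⟨Z.mul_mem (Z.inv_mem hsZ) hxZ, ?_⟩
      refine ⟨b, hb, ?_⟩
      have h1 : ((a * b : ↥ZQ) : G ⧸ O) = π x := by rw [hab]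
      have h2 : (a : G ⧸ O) * (b : G ⧸ O) = π x := h1
      show (b : G ⧸ O) = π (s⁻¹ * x)
      rw [map_mul, map_inv, hsa, ← h2]
      group
    have : x = s * (s⁻¹ * x) := by group
    rw [this]
    exact Subgroup.mul_mem _ (Subgroup.mem_sup_left hsW) (Subgroup.mem_sup_right htK)

end Cfsg.Agent.S1944
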