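import Cfsg.Statements.S1946
import Cfsg.Agent.Lib.Helper13.Frobenius
import Cfsg.Agent.Lib.Helper13.OmegaSmall
import Cfsg.Agent.Lib.Helper17.Coprime

set_option autoImplicit false
open Cfsg

namespace Cfsg.Agent.S1946

open Cfsg.Agent.Lib.Helper13
open scoped commutatorElement

/-- iterating conjugation when the commutator is centralized -/
theorem conj_pow_of_commute {G : Type*} [Group G] {g b : G}
    (hc : g * (g * b * g⁻¹ * b⁻¹) = (g * b * g⁻¹ * b⁻¹) * g) (n : ℕ) :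
    g ^ n * b * (g ^ n)⁻¹ = (g * b * g⁻¹ * b⁻¹) ^ n * b := by
  induction n with
  | zero => simp
  | succ n ih =>
    have hcn : g * (g * b * g⁻¹ * b⁻¹) ^ n = (g * b * g⁻¹ * b⁻¹) ^ n * g :=
      (Commute.pow_right (show Commute g (g * b * g⁻¹ * b⁻¹) from hc) n).eq
    calc g ^ (n + 1) * b * (g ^ (n + 1))⁻¹ = g * (g ^ n * b * (g ^ n)⁻¹) * g⁻¹ := by
          rw [pow_succ']; group
      _ = g * ((g * b * g⁻¹ * b⁻¹) ^ n * b) * g⁻¹ := by rw [ih]
      _ = (g * (g * b * g⁻¹ * b⁻¹) ^ n) * b * g⁻¹ := by group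
      _ = ((g * b * g⁻¹ * b⁻¹) ^ n * g) * b * g⁻¹ := by rw [hcn]
      _ = (g * b * g⁻¹ * b⁻¹) ^ n * (g * b * g⁻¹ * b⁻¹) * b := by group
      _ = (g * b * g⁻¹ * b⁻¹) ^ (n + 1) * b := by rw [pow_succ]

/-- a `p'`-element commuting with the `p`-element `[g, b]` commutes with `b` -/
theorem commute_of_commute_comm {G : Type*} [Group G] {p : ℕ} [Fact p.Prime] {g b : G}
    (hcop : (orderOf g).Coprime p)
    (hc : g * (g * b * g⁻¹ * b⁻¹) = (g * b * g⁻¹ * b⁻¹) * g)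
    (hp : ∃ j : ℕ, (g * b * g⁻¹ * b⁻¹) ^ p ^ j = 1) : g * b = b * g := by
  have h1 := conj_pow_of_commute hc (orderOf g)
  rw [pow_orderOf_eq_one] at h1
  have h2 : (g * b * g⁻¹ * b⁻¹) ^ orderOf g = 1 := by
    have : b = (g * b * g⁻¹ * b⁻¹) ^ orderOf g * b := by simpa using h1
    exact (mul_eq_right.mp this.symm)
  obtain ⟨j, hj⟩ := hp
  have h3 : orderOf (g * b * g⁻¹ * b⁻¹) ∣ orderOf g := orderOf_dvd_of_pow_eq_one h2
  have h4 : orderOf (g * b * g⁻¹ * b⁻¹) ∣ p ^ j := orderOf_dvd_of_pow_eq_one hj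
  have h5 : (orderOf (g * b * g⁻¹ * b⁻¹)).Coprime (p ^ j) :=
    Nat.Coprime.coprime_dvd_left h3 (Nat.Coprime.pow_right j hcop)
  have h6 : g * b * g⁻¹ * b⁻¹ = 1 := orderOf_eq_one_iff.mp (Nat.Coprime.eq_one_of_dvd h5 h4)
  calc g * b = (g * b * g⁻¹ * b⁻¹) * (b * g) := by group
    _ = b * g := by rw [h6, one_mul]

theorem local_central {G : Type*} [Group G] [Finite G] {p : ℕ} [Fact p.Prime] (P : Sylow p G)
    (h : ∀ a ∈ (P : Subgroup G), (a ^ p = 1 ∨ (p = 2 ∧ a ^ 4 = 1)) → ∀ g : G, g * a * g⁻¹ ∈ (P : Subgroup G) →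
        ∃ x ∈ (P : Subgroup G), g * a * g⁻¹ = x * a * x⁻¹)
    (g : G) (hcop : (orderOf g).Coprime p) :
    ∀ (n : ℕ) (Q : Subgroup G), Nat.card Q = n → Q ≤ (P : Subgroup G) →
      g ∈ Subgroup.normalizer (Q : Set G) → g ∈ Subgroup.centralizer (Q : Set G) := by
  intro n
  induction n using Nat.strong_induction_on with
  | _ n ih =>
  intro Q hn hQP hgQ
  have hQp : IsPGroup p Q := P.isPGroup'.to_le hQP
  -- powers of `g` normalize `Q`
  have hgk : ∀ k : ℤ, g ^ k ∈ Subgroup.normalizer (Q : Set G) := fun k => Subgroup.zpow_mem _ hgQ k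
  have hconj : ∀ k : ℤ, ∀ b ∈ Q, g ^ k * b * (g ^ k)⁻¹ ∈ Q := fun k b hb =>
    (Subgroup.mem_normalizer_iff.mp (hgk k) b).mp hb
  have hsmall_conj : ∀ (c b : G), (b ^ p = 1 ∨ (p = 2 ∧ b ^ 4 = 1)) →
      ((c * b * c⁻¹) ^ p = 1 ∨ (p = 2 ∧ (c * b * c⁻¹) ^ 4 = 1)) := by
    intro c b hb
    rcases hb with hb | ⟨h2, hb⟩
    · left; rw [conj_pow, hb]; simp
    · right; refine ⟨h2, ?_⟩; rw [conj_pow, hb]; simp
  set T : Subgroup G := Subgroup.closure
    {z | ∃ b ∈ Q, (b ^ p = 1 ∨ (p = 2 ∧ b ^ 4 = 1)) ∧ ∃ k : ℤ, z = g ^ k * b * (g ^ k)⁻¹ * b⁻¹} with hT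
  have hTQ : T ≤ Q := by
    rw [hT, Subgroup.closure_le]
    rintro z ⟨b, hb, _, k, rfl⟩
    exact Q.mul_mem (hconj k b hb) (Q.inv_mem hb)
  have hTcomm : T ≤ ⁅Q, (P : Subgroup G)⁆ := by
    rw [hT, Subgroup.closure_le]
    rintro z ⟨b, hb, hbs, k, rfl⟩
    obtain ⟨x, hx, hxe⟩ := h b (hQP hb) hbs (g ^ k) (hQP (hconj k b hb))
    rw [hxe, Subgroup.commutator_comm]
    have : x * b * x⁻¹ * b⁻¹ = ⁅x, b⁆ := by rw [commutatorElement_def]
    rw [SetLike.mem_coe, this]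
    exact Subgroup.commutator_mem_commutator hx hb
  have hgT : g ∈ Subgroup.normalizer (T : Set G) := by
    apply Subgroup.mem_normalizer_fintype
    intro y hy
    have hle : T ≤ T.comap (MulAut.conj g).toMonoidHom := by
      rw [hT, Subgroup.closure_le]
      rintro z ⟨b, hb, hbs, k, rfl⟩
      rw [SetLike.mem_coe, Subgroup.mem_comap]
      apply Subgroup.subset_closure
      refine ⟨g * b * g⁻¹, ?_, hsmall_conj g b hbs, k, ?_⟩
      · exact (Subgroup.mem_normalizer_iff.mp hgQ b).mp hb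
      · have hcomm : g * g ^ k = g ^ k * g := (Commute.zpow_right (Commute.refl g) k).eq
        simp only [MulEquiv.coe_toMonoidHom, MulAut.conj_apply]
        have e1 : g * (g ^ k * b * (g ^ k)⁻¹ * b⁻¹) * g⁻¹ =
            (g * g ^ k) * b * (g * g ^ k)⁻¹ * (g * b⁻¹ * g⁻¹) := by group
        rw [e1, hcomm]; group
    have := hle hy
    simpa [Subgroup.mem_comap, MulAut.conj_apply] using this
  by_cases hTeq : T = Q
  · -- then `Q ≤ [Q, P]`, so `Q = 1`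
    have hnil : Group.IsNilpotent (P : Subgroup G) := P.isPGroup'.isNilpotent
    have hQbot : Q = ⊥ := Cfsg.Agent.Lib.Helper17.eq_bot_of_le_commutator_of_nilpotent hnil hQP
      (by rw [hTeq] at hTcomm; exact hTcomm)
    rw [Subgroup.mem_centralizer_iff]
    intro q hq
    rw [hQbot] at hq
    have : q = 1 := Subgroup.mem_bot.mp hq
    rw [this]; simp
  · have hTlt : T < Q := lt_of_le_of_ne hTQ hTeq
    have hcard : Nat.card T < n := by
      rw [← hn]; exact card_lt_card_of_lt hTlt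
    have hgCT := ih _ hcard T rfl (hTQ.trans hQP) hgT
    apply mem_centralizer_of_centralizes_small p Q hQp g hgQ hcop
    intro b hb hbs
    have hcT : g * b * g⁻¹ * b⁻¹ ∈ T := by
      apply Subgroup.subset_closure
      exact ⟨b, hb, hbs, 1, by simp⟩
    have hc : g * (g * b * g⁻¹ * b⁻¹) = (g * b * g⁻¹ * b⁻¹) * g :=
      ((Subgroup.mem_centralizer_iff.mp hgCT) _ hcT).symm
    have hpj : ∃ j : ℕ, (g * b * g⁻¹ * b⁻¹) ^ p ^ j = 1 := by
      obtain ⟨j, hj⟩ := P.isPGroup' ⟨_, hQP (hTQ hcT)⟩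
      exact ⟨j, by simpa using congrArg Subtype.val hj⟩
    exact commute_of_commute_comm hcop hc hpj

/-- A finite group has a normal p-complement iff a Sylow p-subgroup controls fusion of its elements of order p (and 4 if p = 2). -/
theorem result {G : Type*} [Group G] [Finite G] {p : ℕ} [Fact p.Prime] (P : Sylow p G) :
    Cfsg.HasNormalPComplement p G ↔
      ∀ a ∈ (P : Subgroup G), (a ^ p = 1 ∨ (p = 2 ∧ a ^ 4 = 1)) → ∀ g : G, g * a * g⁻¹ ∈ (P : Subgroup G) →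
        ∃ x ∈ (P : Subgroup G), g * a * g⁻¹ = x * a * x⁻¹ := by
  constructor
  · rintro ⟨P', K, hKn, hK'⟩ a ha _ g hga
    obtain ⟨hcop, k, hk⟩ := coprime_and_index_of_isComplement' K P' hK'
    have hK : K.IsComplement' (P : Subgroup G) := isComplement'_sylow_of_coprime_of_index_pow K hcop hk P
    -- write `g⁻¹ = k' * x'` with `k' ∈ K`, `x' ∈ P`
    obtain ⟨⟨⟨k', hk'⟩, ⟨x', hx'⟩⟩, hkx⟩ := hK.2 g⁻¹
    simp only at hkx
    have hg : g = x'⁻¹ * k'⁻¹ := by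
      have : g⁻¹ = k' * x' := hkx.symm
      calc g = (g⁻¹)⁻¹ := (inv_inv g).symm
        _ = (k' * x')⁻¹ := by rw [this]
        _ = x'⁻¹ * k'⁻¹ := mul_inv_rev _ _
    refine ⟨x'⁻¹, Subgroup.inv_mem _ hx', ?_⟩
    -- `k'⁻¹ a k' = a`
    have h1 : k'⁻¹ * a * k' ∈ (P : Subgroup G) := by
      have : k'⁻¹ * a * k' = x' * (g * a * g⁻¹) * x'⁻¹ := by rw [hg]; group
      rw [this]
      exact Subgroup.mul_mem _ (Subgroup.mul_mem _ hx' hga) (Subgroup.inv_mem _ hx')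
    have h2 : k'⁻¹ * a * k' * a⁻¹ ∈ K := by
      have : k'⁻¹ * a * k' * a⁻¹ = k'⁻¹ * (a * k' * a⁻¹) := by group
      rw [this]
      exact K.mul_mem (K.inv_mem hk') (hKn.conj_mem _ hk' a)
    have h3 : k'⁻¹ * a * k' * a⁻¹ ∈ (P : Subgroup G) :=
      Subgroup.mul_mem _ h1 (Subgroup.inv_mem _ ha)
    have h4 : k'⁻¹ * a * k' * a⁻¹ = 1 := by
      have hdisj : K ⊓ (P : Subgroup G) = ⊥ := hK.disjoint.eq_bot
      have : k'⁻¹ * a * k' * a⁻¹ ∈ K ⊓ (P : Subgroup G) := ⟨h2, h3⟩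
      rw [hdisj] at this
      exact Subgroup.mem_bot.mp this
    have h5 : k'⁻¹ * a * k' = a := by
      calc k'⁻¹ * a * k' = (k'⁻¹ * a * k' * a⁻¹) * a := by group
        _ = a := by rw [h4, one_mul]
    calc g * a * g⁻¹ = x'⁻¹ * (k'⁻¹ * a * k') * x'⁻¹⁻¹ := by rw [hg]; group
      _ = x'⁻¹ * a * x'⁻¹⁻¹ := by rw [h5]
  · intro h
    have hLC : LocalCentral p G := by
      apply localCentral_of_sylow P
      intro Q hQP g hg hcop
      exact local_central P h g hcop _ Q rfl hQP hg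
    obtain ⟨K, hKn, hK⟩ := exists_normal_complement_of_localCentral hLC P
    exact ⟨P, K, hKn, hK⟩

end Cfsg.Agent.S1946
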