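import Cfsg.Statements.S1947
import Cfsg.Agent.S1946

set_option autoImplicit false
open Cfsg

namespace Cfsg.Agent.S1947

open Cfsg.Agent.Lib.Helper13

universe u

/-- `p'`-elements commute with hypercentral `p`-elements -/
theorem commute_of_mem_upperCentralSeries (p : ℕ) [Fact p.Prime] :
    ∀ (n : ℕ) (G : Type u) [Group G] (b g : G), b ∈ Subgroup.upperCentralSeries G n →
      (∃ j : ℕ, b ^ p ^ j = 1) → (orderOf g).Coprime p → g * b = b * g := by
  intro n
  induction n with
  | zero =>
    intro G _ b g hb _ _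
    rw [Subgroup.upperCentralSeries_zero, Subgroup.mem_bot] at hb
    rw [hb]; simp
  | succ n ih =>
    intro G _ b g hb hbp hcop
    obtain ⟨j, hj⟩ := hbp
    have h1 : (QuotientGroup.mk' (Subgroup.center G)) b ∈
        Subgroup.upperCentralSeries (G ⧸ Subgroup.center G) n := by
      rw [← Subgroup.mem_comap, Subgroup.comap_upperCentralSeries_quotient_center]
      exact hb
    have h2 : ((QuotientGroup.mk' (Subgroup.center G)) b) ^ p ^ j = 1 := by
      rw [← map_pow, hj, map_one]
    have h3 : (orderOf ((QuotientGroup.mk' (Subgroup.center G)) g)).Coprime p :=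
      Nat.Coprime.coprime_dvd_left (orderOf_map_dvd _ g) hcop
    have h4 := ih (G ⧸ Subgroup.center G) _ _ h1 ⟨j, h2⟩ h3
    -- the commutator is central
    have hc : g * b * g⁻¹ * b⁻¹ ∈ Subgroup.center G := by
      rw [← QuotientGroup.ker_mk' (Subgroup.center G), MonoidHom.mem_ker]
      simp only [map_mul, map_inv]
      rw [h4]; group
    have hcg : g * (g * b * g⁻¹ * b⁻¹) = (g * b * g⁻¹ * b⁻¹) * g :=
      (Subgroup.mem_center_iff.mp hc g)
    apply Cfsg.Agent.S1946.commute_of_commute_comm hcop hcg
    refine ⟨j, ?_⟩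
    have hcb : Commute (g * b * g⁻¹ * b⁻¹) b := (Subgroup.mem_center_iff.mp hc b).symm
    have h5 : (g * b * g⁻¹ * b⁻¹ * b) ^ p ^ j = 1 := by
      have : g * b * g⁻¹ * b⁻¹ * b = g * b * g⁻¹ := by group
      rw [this, conj_pow, hj]; simp
    rw [hcb.mul_pow, hj, mul_one] at h5
    exact h5

/-- Let G be a finite group and p a prime. If every element of G of order dividing p (dividing 4 when p = 2) lies in some fixed term Z_n(G) of the upper central series, then G has a normal p-complement. -/
theorem result {G : Type*} [Group G] [Finite G] {p : ℕ} [Fact p.Prime] (n : ℕ)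
    (h : ∀ a : G, (a ^ p = 1 ∨ (p = 2 ∧ a ^ 4 = 1)) → a ∈ Subgroup.upperCentralSeries G n) : Cfsg.HasNormalPComplement p G := by
  have hLC : LocalCentral p G := by
    intro Q hQ g hg hcop
    apply mem_centralizer_of_centralizes_small p Q hQ g hg hcop
    intro x _ hxs
    apply commute_of_mem_upperCentralSeries p n G x g (h x hxs) _ hcop
    rcases hxs with hx | ⟨h2, hx⟩
    · exact ⟨1, by simpa using hx⟩
    · exact ⟨2, by subst h2; simpa using hx⟩
  obtain ⟨P⟩ : Nonempty (Sylow p G) := inferInstance
  obtain ⟨K, hKn, hK⟩ := exists_normal_complement_of_localCentral hLC P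
  exact ⟨P, K, hKn, hK⟩

end Cfsg.Agent.S1947
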