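import Cfsg.Statements.S1948
import Cfsg.Agent.Lib.Helper1.Cores
import Cfsg.Agent.Lib.Helper1.Coprime
import Cfsg.Agent.Lib.Helper13.Conj
import Cfsg.Agent.Lib.Helper13.NormalPComplement
import Cfsg.Agent.Lib.Helper16.SylowInf
import Cfsg.Agent.S1944

set_option autoImplicit false
open Cfsg

namespace Cfsg.Agent.S1948

open Cfsg.Agent.Lib.Helper13

variable {G : Type*} [Group G] [Finite G] {p : ℕ} [Fact p.Prime]

/-- when `G = N_G(S) O_{p'}(G)`, the centralizer of `S` lies in `S O_{p'}(G)` -/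
theorem centralizer_sylow_le (S : Sylow p G)
    (h : Subgroup.normalizer ((S : Subgroup G) : Set G) ⊔ Cfsg.pPrimeCore p G = ⊤) :
    Subgroup.centralizer ((S : Subgroup G) : Set G) ≤ (S : Subgroup G) ⊔ Cfsg.pPrimeCore p G := by
  have hp : p.Prime := Fact.out
  have hKn : (pPrimeCore p G).Normal := Cfsg.Agent.Lib.Helper1.pPrimeCore_normal p
  set K : Subgroup G := pPrimeCore p G with hK
  set S' : Subgroup G := (S : Subgroup G) with hS'
  set C : Subgroup G := Subgroup.centralizer (S' : Set G) with hC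
  have hCN : C ≤ Subgroup.normalizer (S' : Set G) := Subgroup.centralizer_le_normalizer _
  -- a Sylow subgroup of `C`
  have hZp : IsPGroup p ((S' ⊓ C).subgroupOf C) := (S.isPGroup'.to_le inf_le_left).comap_subtype
  obtain ⟨D, hD⟩ := hZp.exists_le_sylow
  have hD'S : (D : Subgroup C).map C.subtype ≤ S' := by
    have h1 : IsPGroup p ((D : Subgroup C).map C.subtype) := D.isPGroup'.map _
    have h2 : (D : Subgroup C).map C.subtype ≤ Subgroup.normalizer (S' : Set G) :=
      (Subgroup.map_subtype_le _).trans hCN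
    have h3 : IsPGroup p ((D : Subgroup C).map C.subtype ⊔ S' : Subgroup G) :=
      h1.to_sup_of_normal_right' S.isPGroup' h2
    have h4 := S.is_maximal' h3 le_sup_right
    exact le_sup_left.trans h4.le
  have hDc : (D : Subgroup C) ≤ Subgroup.center C := by
    intro d hd
    rw [Subgroup.mem_center_iff]
    intro c
    apply Subtype.ext
    have hdS : (d : G) ∈ S' := hD'S ⟨d, hd, rfl⟩
    have := Subgroup.mem_centralizer_iff.mp c.2 (d : G) hdS
    simpa using this.symm
  obtain ⟨Kc, hKcn, hKcp, hKcall⟩ := exists_normal_pPrime_of_central_sylow D hDc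
  have hcompl : Kc.IsComplement' (D : Subgroup C) := isComplement'_of_contains_pPrime_elements D Kc hKcp hKcall
  set D'' : Subgroup G := Kc.map C.subtype with hD''
  have hKccop : (Nat.card Kc).Coprime p := ((Nat.Prime.coprime_iff_not_dvd hp).mpr hKcp).symm
  -- `N_G(S)` normalizes `D''`
  have hND : Subgroup.normalizer (S' : Set G) ≤ Subgroup.normalizer (D'' : Set G) := by
    apply Cfsg.Agent.Lib.Helper1.le_normalizer_of_forall_conj_mem
    rintro n hn _ ⟨y, hy, rfl⟩
    have hnC : n * (y : G) * n⁻¹ ∈ C := by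
      show n * (y : G) * n⁻¹ ∈ Subgroup.centralizer (S' : Set G)
      rw [Subgroup.mem_centralizer_iff]
      intro s hs
      have hs' : n⁻¹ * s * n ∈ S' := by
        have := (Subgroup.mem_normalizer_iff.mp (Subgroup.inv_mem _ hn) s).mp hs
        simpa using this
      have h1 := Subgroup.mem_centralizer_iff.mp y.2 _ hs'
      calc s * (n * (y : G) * n⁻¹) = n * ((n⁻¹ * s * n) * (y : G)) * n⁻¹ := by group
        _ = n * ((y : G) * (n⁻¹ * s * n)) * n⁻¹ := by rw [h1]
        _ = n * (y : G) * n⁻¹ * s := by group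
    refine ⟨⟨_, hnC⟩, ?_, rfl⟩
    apply hKcall
    have h1 : orderOf (⟨n * (y : G) * n⁻¹, hnC⟩ : C) = orderOf y := by
      rw [← Subgroup.orderOf_coe, ← Subgroup.orderOf_coe y]
      exact (MulAut.conj n).orderOf_eq (y : G)
    rw [h1]
    have h2 : orderOf y ∣ Nat.card Kc := by
      have := orderOf_dvd_natCard (⟨y, hy⟩ : Kc)
      rwa [Subgroup.orderOf_mk] at this
    exact Nat.Coprime.coprime_dvd_left h2 hKccop
  -- `D'' ⊔ K` is normal
  have hDKn : (D'' ⊔ K).Normal := by
    rw [← Subgroup.normalizer_eq_top_iff, eq_top_iff, ← h]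
    apply sup_le
    · intro n hn
      rw [← map_conj_eq_self_iff_mem_normalizer, Subgroup.map_sup]
      have h1 : D''.map (MulAut.conj n).toMonoidHom = D'' :=
        (map_conj_eq_self_iff_mem_normalizer D'' n).mpr (hND hn)
      have h2 : K.map (MulAut.conj n).toMonoidHom = K :=
        (map_conj_eq_self_iff_mem_normalizer K n).mpr (by
          rw [Subgroup.normalizer_eq_top_iff.mpr hKn]; exact Subgroup.mem_top n)
      rw [h1, h2]
    · exact le_sup_right.trans Subgroup.le_normalizer
  have hDKcop : (Nat.card (D'' ⊔ K : Subgroup G)).Coprime p := by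
    have h1 : K.relIndex (D'' ⊔ K) * Nat.card K = Nat.card (D'' ⊔ K : Subgroup G) :=
      Cfsg.Agent.Lib.Helper16.relIndex_mul_card_of_le le_sup_right
    have h2 : K.relIndex (D'' ⊔ K) = K.relIndex D'' := Subgroup.relIndex_sup_right D'' K
    have h3 : K.relIndex D'' ∣ Nat.card D'' := Subgroup.relIndex_dvd_card K D''
    have h4 : Nat.card D'' = Nat.card Kc := Subgroup.card_map_of_injective C.subtype_injective
    rw [← h1, h2]
    apply Nat.Coprime.mul_left
    · exact Nat.Coprime.coprime_dvd_left (h4 ▸ h3) hKccop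
    · exact Cfsg.Agent.Lib.Helper1.pPrimeCore_coprime p
  have hD''K : D'' ≤ K := le_sup_left.trans (Cfsg.Agent.Lib.Helper1.le_pPrimeCore hDKn hDKcop)
  intro c hc
  obtain ⟨⟨⟨k, hk⟩, ⟨d, hd⟩⟩, hkd⟩ := hcompl.2 ⟨c, hc⟩
  simp only at hkd
  have hc' : c = (k : G) * (d : G) := by
    have := congrArg Subtype.val hkd
    simpa using this.symm
  rw [hc', sup_comm]
  exact Subgroup.mul_mem_sup (hD''K ⟨k, hk, rfl⟩) (hD'S ⟨d, hd, rfl⟩)

/-- Let S be a Sylow p-subgroup of the finite group G. Then G = N_G(S)·O_{p'}(G) if and only if G is p-constrained and N_G(S) controls fusion in S, in the sense that whenever a subgroup Q of S has a conjugate g Q g⁻¹ inside S, the element g is a product n c with n normalizing S and c centralizing Q. -/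
theorem result {G : Type*} [Group G] [Finite G] {p : ℕ} [Fact p.Prime] (S : Sylow p G) :
    Subgroup.normalizer ((S : Subgroup G) : Set G) ⊔ Cfsg.pPrimeCore p G = ⊤ ↔
      (Cfsg.IsPConstrained p G ∧
        ∀ Q : Subgroup G, Q ≤ (S : Subgroup G) → ∀ g : G, Q.map (MulAut.conj g).toMonoidHom ≤ (S : Subgroup G) →
          ∃ n ∈ Subgroup.normalizer ((S : Subgroup G) : Set G), ∃ c ∈ Subgroup.centralizer (Q : Set G), g = n * c) := by
  have hp : p.Prime := Fact.out
  have hKn : (pPrimeCore p G).Normal := Cfsg.Agent.Lib.Helper1.pPrimeCore_normal p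
  set K : Subgroup G := pPrimeCore p G with hK
  set S' : Subgroup G := (S : Subgroup G) with hS'
  set π : G →* G ⧸ K := QuotientGroup.mk' K with hπ
  have hπs : Function.Surjective π := QuotientGroup.mk'_surjective K
  have hker : ∀ x : G, π x = 1 ↔ x ∈ K := fun x => by
    rw [hπ, QuotientGroup.mk'_apply, QuotientGroup.eq_one_iff]
  set L : Subgroup G := Cfsg.pPrimePCore p G with hL
  have hLn : L.Normal := by
    rw [hL]; unfold Cfsg.pPrimePCore; infer_instance
  have hLmem : ∀ x : G, x ∈ L ↔ π x ∈ pCore p (G ⧸ K) := fun x => Iff.rfl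
  have hQbS : pCore p (G ⧸ K) ≤ S'.map π := Cfsg.Agent.Lib.Helper1.pCore_le_sylow (S.mapSurjective hπs)
  have hSK : S' ⊓ K = ⊥ :=
    Cfsg.Agent.S1944.inf_eq_bot_of_coprime S' K S.isPGroup' (Cfsg.Agent.Lib.Helper1.pPrimeCore_coprime p)
  have hKL : K ≤ L := by
    intro k hk
    rw [hLmem, (hker k).mpr hk]
    exact Subgroup.one_mem _
  have hL_le : L ≤ (S' ⊓ L) ⊔ K := by
    intro x hx
    obtain ⟨s, hs, hsx⟩ := hQbS ((hLmem x).mp hx)
    have h1 : s⁻¹ * x ∈ K := by
      rw [← hker, map_mul, map_inv, hsx, inv_mul_cancel]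
    have h2 : s ∈ L := by
      have : s = x * (s⁻¹ * x)⁻¹ := by group
      rw [this]
      exact L.mul_mem hx (L.inv_mem (hKL h1))
    have h3 : x = s * (s⁻¹ * x) := by group
    rw [h3]
    exact Subgroup.mul_mem_sup (Subgroup.mem_inf.mpr ⟨hs, h2⟩) h1
  constructor
  · intro h
    have hSL : S' ≤ L := by
      -- `S' ⊔ K` is normal
      have hMn : (S' ⊔ K).Normal := by
        rw [← Subgroup.normalizer_eq_top_iff, eq_top_iff, ← h]
        apply sup_le
        · intro n hn
          rw [← map_conj_eq_self_iff_mem_normalizer, Subgroup.map_sup]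
          have h1 : S'.map (MulAut.conj n).toMonoidHom = S' :=
            (map_conj_eq_self_iff_mem_normalizer S' n).mpr hn
          have h2 : K.map (MulAut.conj n).toMonoidHom = K :=
            (map_conj_eq_self_iff_mem_normalizer K n).mpr (by
              rw [Subgroup.normalizer_eq_top_iff.mpr hKn]; exact Subgroup.mem_top n)
          rw [h1, h2]
        · exact le_sup_right.trans Subgroup.le_normalizer
      have h1 : (S' ⊔ K).map π = S'.map π := by
        rw [Subgroup.map_sup, hπ, QuotientGroup.map_mk'_self, sup_bot_eq]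
      have h2 : (S'.map π).Normal := h1 ▸ Subgroup.Normal.map hMn π hπs
      have h3 : S'.map π ≤ pCore p (G ⧸ K) :=
        Cfsg.Agent.Lib.Helper1.le_pCore h2 (S.isPGroup'.map π)
      intro x hx
      rw [hLmem]
      exact h3 ⟨x, hx, rfl⟩
    have hCS : Subgroup.centralizer (S' : Set G) ≤ L :=
      (centralizer_sylow_le S h).trans (sup_le hSL hKL)
    refine ⟨?_, ?_⟩
    · intro P
      obtain ⟨l, hl⟩ := MulAction.exists_smul_eq ↥L (S.subtype hSL) P
      intro c hc
      have h1 : (l : G)⁻¹ * c * (l : G) ∈ Subgroup.centralizer (S' : Set G) := by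
        rw [Subgroup.mem_centralizer_iff]
        intro s hs
        have hy : l * ⟨s, hSL hs⟩ * l⁻¹ ∈ (P : Subgroup ↥L) := by
          rw [← hl, mem_smul_sylow_iff]
          have : l⁻¹ * (l * ⟨s, hSL hs⟩ * l⁻¹) * l = ⟨s, hSL hs⟩ := by group
          rw [this, Sylow.coe_subtype, Subgroup.mem_subgroupOf]
          exact hs
        have h2 := Subgroup.mem_centralizer_iff.mp hc ((l : G) * s * (l : G)⁻¹)
          ⟨_, hy, by simp⟩
        calc s * ((l : G)⁻¹ * c * (l : G)) = (l : G)⁻¹ * (((l : G) * s * (l : G)⁻¹) * c) * (l : G) := by group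
          _ = (l : G)⁻¹ * (c * ((l : G) * s * (l : G)⁻¹)) * (l : G) := by rw [h2]
          _ = (l : G)⁻¹ * c * (l : G) * s := by group
      have h3 := hCS h1
      have : c = (l : G) * ((l : G)⁻¹ * c * (l : G)) * (l : G)⁻¹ := by group
      rw [this]
      exact L.mul_mem (L.mul_mem l.2 h3) (L.inv_mem l.2)
    · intro Q hQS g hg
      have hgtop : g ∈ ((Subgroup.normalizer (S' : Set G) ⊔ K : Subgroup G) : Set G) := by
        rw [h]; trivial
      rw [Subgroup.mul_normal] at hgtop
      obtain ⟨n, hn, k, hk, rfl⟩ := hgtop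
      refine ⟨n, hn, k, ?_, rfl⟩
      rw [Subgroup.mem_centralizer_iff]
      intro q hq
      have h1 : n * k * q * (n * k)⁻¹ ∈ S' := hg ⟨q, hq, by simp only [MulEquiv.coe_toMonoidHom, MulAut.conj_apply]⟩
      have h2 : k * q * k⁻¹ ∈ S' := by
        have h3 := (Subgroup.mem_normalizer_iff.mp (Subgroup.inv_mem _ hn) _).mp h1
        have : n⁻¹ * (n * k * q * (n * k)⁻¹) * n⁻¹⁻¹ = k * q * k⁻¹ := by group
        rwa [this] at h3
      have h4 : k * q * k⁻¹ * q⁻¹ ∈ S' ⊓ K := by
        refine Subgroup.mem_inf.mpr ⟨S'.mul_mem h2 (S'.inv_mem (hQS hq)), ?_⟩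
        have : k * q * k⁻¹ * q⁻¹ = k * (q * k⁻¹ * q⁻¹) := by group
        rw [this]
        exact K.mul_mem hk (hKn.conj_mem _ (K.inv_mem hk) q)
      rw [hSK, Subgroup.mem_bot] at h4
      calc q * k = (k * q * k⁻¹ * q⁻¹)⁻¹ * (k * q) := by group
        _ = k * q := by rw [h4]; simp
  · rintro ⟨hcons, hfus⟩
    rw [eq_top_iff]
    intro g _
    have hP₁ : ((Cfsg.Agent.Lib.Helper16.sylowInf S L : Sylow p L) : Subgroup L).map L.subtype = S' ⊓ L :=
      Cfsg.Agent.Lib.Helper16.map_sylowInf S L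
    have hCL : Subgroup.centralizer ((S' ⊓ L : Subgroup G) : Set G) ≤ L := by
      have := hcons (Cfsg.Agent.Lib.Helper16.sylowInf S L)
      rwa [hP₁] at this
    have hLNK : L ≤ Subgroup.normalizer (S' : Set G) ⊔ K :=
      hL_le.trans (sup_le_sup_right (inf_le_left.trans Subgroup.le_normalizer) K)
    obtain ⟨a, ha, c, hc, rfl⟩ := Cfsg.Agent.Lib.Helper16.frattini_inf_normal S L g
    apply Subgroup.mul_mem _ _ (hLNK hc)
    -- `a` normalizes `S' ⊓ L`
    have h1 : (S' ⊓ L).map (MulAut.conj a).toMonoidHom ≤ S' := by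
      rw [(map_conj_eq_self_iff_mem_normalizer _ a).mpr ha]
      exact inf_le_left
    obtain ⟨n, hn, c', hc', rfl⟩ := hfus (S' ⊓ L) inf_le_left a h1
    exact Subgroup.mul_mem _ (Subgroup.mem_sup_left hn) (hLNK (hCL hc'))

end Cfsg.Agent.S1948
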