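import Cfsg.Statements.S1949
import Mathlib
import Cfsg.Agent.H5.CritExp
import Cfsg.Agent.Lib.Helper1.Critical
import Cfsg.Agent.Lib.Helper1.ClassTwo
import Cfsg.Agent.Lib.Helper17.PResidual
import Cfsg.Agent.S0121

set_option autoImplicit false
open Cfsg
open scoped commutatorElement

namespace Cfsg.Agent.S1949

/-- Let P be a finite p-group and G a group of automorphisms of P containing the inner automorphisms. Then there is a G-invariant subgroup D of P, contained in the subgroup generated by the elements x⁻¹α(x) with x in P and α in O^p(G), of exponent dividing p when p is odd and dividing 4 when p = 2, with [D, P] ≤ Z(D), such that every automorphism in G of order prime to p that fixes D elementwise is the identity; moreover every maximal abelian subgroup A of D is normal in P and every automorphism in G fixing A elementwise has p-power order. -/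
theorem result {P : Type*} [Group P] [Finite P] {p : ℕ} [Fact p.Prime] (hP : IsPGroup p P)
    (G : Subgroup (MulAut P)) (hG : Cfsg.Inn P ≤ G) :
    ∃ D : Subgroup P,
      (∀ α ∈ G, D.map α.toMonoidHom = D) ∧
      D ≤ Subgroup.closure {y : P | ∃ α ∈ Cfsg.pResidual p ↥G, ∃ x : P, y = x⁻¹ * (α : MulAut P) x} ∧
      (∀ d ∈ D, d ^ p = 1 ∨ (p = 2 ∧ d ^ 4 = 1)) ∧
      ⁅D, (⊤ : Subgroup P)⁆ ≤ D ⊓ Subgroup.centralizer (D : Set P) ∧
      (∀ α ∈ G, (orderOf α).Coprime p → (∀ d ∈ D, α d = d) → α = 1) ∧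
      ∀ A : Subgroup P, A ≤ D → IsMulCommutative ↥A →
        (∀ B : Subgroup P, A ≤ B → B ≤ D → IsMulCommutative ↥B → B = A) →
        A.Normal ∧ ∀ α ∈ G, (∀ a ∈ A, α a = a) → ∃ k : ℕ, orderOf α = p ^ k := by
  classical
  have hpp : p.Prime := Fact.out
  obtain ⟨H, hHc, hH1, hH2, hH3⟩ := Cfsg.Agent.Lib.Helper1.exists_critical_subgroup hP
  haveI := hHc
  have hHn : H.Normal := inferInstance
  have hHp : IsPGroup p ↥H := hP.to_subgroup H
  -- commutators and `p`-th powers of elements of `H` are central in `H`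
  have hcomm : ∀ x ∈ H, ∀ y : P, ⁅x, y⁆ ∈ Subgroup.centralizer (H : Set P) := fun x hx y =>
    (hH2 (Subgroup.commutator_mem_commutator hx (Subgroup.mem_top y))).2
  have hpowc : ∀ x ∈ H, x ^ p ∈ Subgroup.centralizer (H : Set P) := by
    intro x hx
    apply hH1
    exact ⟨_, Cfsg.Agent.Lib.Helper1.IsPGroup.pow_mem_frattini hHp (⟨x, hx⟩ : ↥H), rfl⟩
  -- the exponent
  obtain ⟨e, he⟩ : ∃ e : ℕ, e = if p = 2 then 4 else p := ⟨_, rfl⟩
  have hedvd : ∃ j : ℕ, e = p ^ j := by
    by_cases h2 : p = 2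
    · rw [he, if_pos h2]; exact ⟨2, by rw [h2]; norm_num⟩
    · rw [he, if_neg h2]; exact ⟨1, (pow_one p).symm⟩
  have hpe : p ∣ e := by
    obtain ⟨j, hj⟩ := hedvd
    by_cases h2 : p = 2
    · rw [he, if_pos h2, h2]; decide
    · rw [he, if_neg h2]
  -- the power map is multiplicative on `H`
  have hmul : ∀ x ∈ H, ∀ y ∈ H, (x * y) ^ e = x ^ e * y ^ e := by
    intro x hx y hy
    have hc := hcomm y hy x
    have hcx : ⁅y, x⁆ * x = x * ⁅y, x⁆ := ((Subgroup.mem_centralizer_iff.mp hc) x hx).symm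
    have hcy : ⁅y, x⁆ * y = y * ⁅y, x⁆ := ((Subgroup.mem_centralizer_iff.mp hc) y hy).symm
    have h1 := Cfsg.Agent.Lib.Helper1.mul_pow_of_commutator_central hcx hcy e
    have h2 : ⁅y, x⁆ ^ p = 1 := by
      rw [← Cfsg.Agent.Lib.Helper1.commutatorElement_pow_left hcy p,
        commutatorElement_eq_one_iff_commute]
      exact ((Subgroup.mem_centralizer_iff.mp (hpowc y hy)) x hx).symm
    have h3 : ⁅y, x⁆ ^ (e.choose 2) = 1 := by
      by_cases hp2 : p = 2
      · rw [he, if_pos hp2]
        rw [hp2] at h2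
        have : Nat.choose 4 2 = 2 * 3 := by decide
        rw [this, pow_mul, h2, one_pow]
      · rw [he, if_neg hp2]
        have h3le : 2 < p := lt_of_le_of_ne hpp.two_le (Ne.symm hp2)
        obtain ⟨k, hk⟩ := hpp.dvd_choose_self (by norm_num) h3le
        rw [hk, pow_mul, h2, one_pow]
    rw [h1, h3, mul_one]
  -- `E`, the elements of `H` of exponent `e`
  obtain ⟨E, hE⟩ : ∃ E : Subgroup P, ∀ x, x ∈ E ↔ x ∈ H ∧ x ^ e = 1 :=
    ⟨{ carrier := {x | x ∈ H ∧ x ^ e = 1}
       one_mem' := ⟨H.one_mem, one_pow e⟩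
       mul_mem' := by
         rintro a b ⟨ha, hae⟩ ⟨hb, hbe⟩
         exact ⟨H.mul_mem ha hb, by rw [hmul a ha b hb, hae, hbe, one_mul]⟩
       inv_mem' := by
         rintro a ⟨ha, hae⟩
         exact ⟨H.inv_mem ha, by rw [inv_pow, hae, inv_one]⟩ }, fun x => Iff.rfl⟩
  have hEH : E ≤ H := fun x hx => ((hE x).1 hx).1
  have hHβ : ∀ β : MulAut P, ∀ x ∈ H, β x ∈ H := by
    intro β x hx
    have := hHc.fixed β
    have h1 : x ∈ H.comap β.toMonoidHom := by rw [this]; exact hx
    exact h1
  have hEβ : ∀ β : MulAut P, ∀ x ∈ E, β x ∈ E := by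
    intro β x hx
    obtain ⟨h1, h2⟩ := (hE x).1 hx
    exact (hE _).2 ⟨hHβ β x h1, by rw [← map_pow, h2, map_one]⟩
  -- `D = [E, O^p(G)]`
  obtain ⟨D, hD⟩ : ∃ D : Subgroup P, D = Subgroup.closure
      {y : P | ∃ α ∈ Cfsg.pResidual p ↥G, ∃ x ∈ E, y = x⁻¹ * (α : MulAut P) x} := ⟨_, rfl⟩
  have hDE : D ≤ E := by
    rw [hD, Subgroup.closure_le]
    rintro _ ⟨α, _, x, hx, rfl⟩
    exact E.mul_mem (E.inv_mem hx) (hEβ _ x hx)
  have hDH : D ≤ H := hDE.trans hEH
  have hDexp : ∀ d ∈ D, d ^ e = 1 := fun d hd => ((hE d).1 (hDE hd)).2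
  have hle : ∀ β ∈ G, D.map (β : MulAut P).toMonoidHom ≤ D := by
    intro β hβ
    rw [hD, MonoidHom.map_closure, Subgroup.closure_le]
    rintro _ ⟨_, ⟨α, hα, x, hx, rfl⟩, rfl⟩
    apply Subgroup.subset_closure
    refine ⟨(⟨β, hβ⟩ : ↥G) * α * (⟨β, hβ⟩ : ↥G)⁻¹,
      (inferInstance : (Cfsg.pResidual p ↥G).Normal).conj_mem α hα _, β x, hEβ β x hx, ?_⟩
    simp
  have hDinv : ∀ β ∈ G, D.map (β : MulAut P).toMonoidHom = D := by
    intro β hβ
    apply le_antisymm (hle β hβ)
    intro d hd
    have h1 := hle β⁻¹ (G.inv_mem hβ) ⟨d, hd, rfl⟩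
    exact ⟨β⁻¹ d, h1, by simp⟩
  have hDβ : ∀ β ∈ G, ∀ d ∈ D, β d ∈ D := fun β hβ d hd => hle β hβ ⟨d, hd, rfl⟩
  have hDn : D.Normal := by
    constructor
    intro d hd g
    have hg : MulAut.conj g ∈ G := hG ⟨g, rfl⟩
    have := hDβ _ hg d hd
    simpa using this
  have hDcomm : ⁅D, (⊤ : Subgroup P)⁆ ≤ D ⊓ Subgroup.centralizer (D : Set P) := by
    refine le_inf (Subgroup.commutator_le_left D ⊤) ?_
    refine ((Subgroup.commutator_mono hDH le_rfl).trans hH2).trans ?_
    exact inf_le_right.trans (Subgroup.centralizer_le (by exact_mod_cast hDH))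
  -- `p'`-automorphisms act faithfully on `D`
  have hfaith : ∀ α ∈ G, (orderOf α).Coprime p → (∀ d ∈ D, α d = d) → α = 1 := by
    intro α hα hcop hfix
    have hcope : (orderOf α).Coprime e := by
      obtain ⟨j, hj⟩ := hedvd
      rw [hj]; exact Nat.Coprime.pow_right j hcop
    have hαres : (⟨α, hα⟩ : ↥G) ∈ Cfsg.pResidual p ↥G := by
      apply Cfsg.Agent.Lib.Helper17.mem_pResidual_of_coprime
      rw [← Subgroup.orderOf_coe]; exact hcop
    have hfixE : ∀ x ∈ H, x ^ e = 1 → α x = x := by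
      intro x hx hxe
      have hxE : x ∈ E := (hE x).2 ⟨hx, hxe⟩
      have hcD : x⁻¹ * α x ∈ D := by
        rw [hD]
        exact Subgroup.subset_closure ⟨⟨α, hα⟩, hαres, x, hxE, rfl⟩
      exact Cfsg.H5.CE.fix_of_comm_fix α x hcope (hfix _ hcD) (hDexp _ hcD)
    have hfixH : ∀ x ∈ H, α x = x := by
      apply Cfsg.H5.CE.fix_of_fix_omega H e α hcope hmul (hHβ α) hfixE
      intro x hx
      obtain ⟨k, hk⟩ := hP x
      refine ⟨k, ?_⟩
      have : p ^ k ∣ e ^ k := pow_dvd_pow_of_dvd hpe k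
      obtain ⟨t, ht⟩ := this
      rw [ht, pow_mul, hk, one_pow]
    exact Cfsg.Agent.S0121.result hP H hHc hH1 hH2 hH3 α hcop hfixH
  refine ⟨D, hDinv, ?_, ?_, hDcomm, hfaith, ?_⟩
  · rw [hD]
    apply Subgroup.closure_mono
    rintro _ ⟨α, hα, x, _, rfl⟩
    exact ⟨α, hα, x, rfl⟩
  · intro d hd
    have h1 := hDexp d hd
    by_cases hp2 : p = 2
    · right
      rw [he, if_pos hp2] at h1
      exact ⟨hp2, h1⟩
    · left
      rw [he, if_neg hp2] at h1
      exact h1
  · intro A hAD hAc hAmax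
    haveI := hAc
    -- `Z(D) ≤ A`
    have hZA : D ⊓ Subgroup.centralizer (D : Set P) ≤ A := by
      have hB : IsMulCommutative ↥(Subgroup.closure ((A : Set P) ∪
          ((D ⊓ Subgroup.centralizer (D : Set P) : Subgroup P) : Set P))) := by
        apply Subgroup.isMulCommutative_closure
        rintro x (hx | hx) y (hy | hy)
        · exact setLike_mul_comm hx hy
        · exact ((Subgroup.mem_centralizer_iff.mp hy.2) x (hAD hx))
        · exact ((Subgroup.mem_centralizer_iff.mp hx.2) y (hAD hy)).symm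
        · exact ((Subgroup.mem_centralizer_iff.mp hy.2) x hx.1)
      have h1 := hAmax _ (fun a ha => Subgroup.subset_closure (Set.mem_union_left _ ha))
        ((Subgroup.closure_le _).2 (Set.union_subset hAD inf_le_left)) hB
      rw [← h1]
      exact fun z hz => Subgroup.subset_closure (Set.mem_union_right _ hz)
    -- the centralizer of `A` in `D`
    have hCA : ∀ c ∈ D, (∀ a ∈ A, a * c = c * a) → c ∈ A := by
      intro c hc hcomm'
      have hB : IsMulCommutative ↥(Subgroup.closure ((A : Set P) ∪ {c})) := by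
        apply Subgroup.isMulCommutative_closure
        rintro x (hx | hx) y (hy | hy)
        · exact setLike_mul_comm hx hy
        · rw [Set.mem_singleton_iff] at hy
          rw [hy]; exact hcomm' x hx
        · rw [Set.mem_singleton_iff] at hx
          rw [hx]; exact (hcomm' y hy).symm
        · rw [Set.mem_singleton_iff] at hx hy
          rw [hx, hy]
      have h1 := hAmax _ (fun a ha => Subgroup.subset_closure (Set.mem_union_left _ ha))
        ((Subgroup.closure_le _).2 (Set.union_subset hAD (by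
          intro z hz
          rw [Set.mem_singleton_iff] at hz
          rw [hz]; exact hc))) hB
      rw [← h1]
      exact Subgroup.subset_closure (Set.mem_union_right _ rfl)
    refine ⟨?_, ?_⟩
    · constructor
      intro a ha g
      have h1 : ⁅a, g⁆ ∈ A :=
        hZA (hDcomm (Subgroup.commutator_mem_commutator (hAD ha) (Subgroup.mem_top g)))
      have h2 : g * a * g⁻¹ = (⁅a, g⁆)⁻¹ * a := by rw [commutatorElement_def]; group
      rw [h2]
      exact A.mul_mem (A.inv_mem h1) ha
    · intro α hα hfixA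
      -- the `p'`-part of `α`
      have hpos : 0 < orderOf α := orderOf_pos α
      obtain ⟨k, m', hm', hkm⟩ := Nat.exists_eq_pow_mul_and_not_dvd hpos.ne' p hpp.ne_one
      have hcopm : m'.Coprime p := ((Nat.Prime.coprime_iff_not_dvd hpp).2 hm').symm
      have hm'pos : 0 < m' := by
        rcases Nat.eq_zero_or_pos m' with h | h
        · rw [h, mul_zero] at hkm; omega
        · exact h
      obtain ⟨β, hβ⟩ : ∃ β : MulAut P, β = α ^ (p ^ k) := ⟨_, rfl⟩
      have hβG : β ∈ G := by rw [hβ]; exact G.pow_mem hα _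
      have hβord : orderOf β = m' := by
        rw [hβ, orderOf_pow' α (pow_ne_zero k hpp.ne_zero), hkm,
          Nat.gcd_eq_right (Dvd.intro _ rfl), Nat.mul_div_cancel_left _ (pow_pos hpp.pos k)]
      have hβcop : (orderOf β).Coprime p := by rw [hβord]; exact hcopm
      have hβcope : (orderOf β).Coprime e := by
        obtain ⟨j, hj⟩ := hedvd
        rw [hj]; exact Nat.Coprime.pow_right j hβcop
      have hβA : ∀ a ∈ A, β a = a := by
        intro a ha
        rw [hβ]
        have : ∀ n : ℕ, (α ^ n) a = a := by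
          intro n
          induction n with
          | zero => simp
          | succ n ih => rw [pow_succ, MulAut.mul_apply, hfixA a ha, ih]
        exact this _
      -- the fixed points of `β` in `D`
      obtain ⟨D₁, hD₁⟩ : ∃ D₁ : Subgroup P, ∀ x, x ∈ D₁ ↔ x ∈ D ∧ β x = x :=
        ⟨{ carrier := {x | x ∈ D ∧ β x = x}
           one_mem' := ⟨D.one_mem, map_one β⟩
           mul_mem' := by
             rintro a b ⟨ha, hae⟩ ⟨hb, hbe⟩
             exact ⟨D.mul_mem ha hb, by rw [map_mul, hae, hbe]⟩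
           inv_mem' := by
             rintro a ⟨ha, hae⟩
             exact ⟨D.inv_mem ha, by rw [map_inv, hae]⟩ }, fun x => Iff.rfl⟩
      have hD₁D : D₁ ≤ D := fun x hx => ((hD₁ x).1 hx).1
      have hAD₁ : A ≤ D₁ := fun a ha => (hD₁ a).2 ⟨hAD ha, hβA a ha⟩
      have hDD₁ : D₁ = D := by
        by_contra hne
        have hDp : IsPGroup p ↥D := hP.to_subgroup D
        haveI : Group.IsNilpotent ↥D := hDp.isNilpotent
        have hlt : D₁.subgroupOf D < ⊤ := by
          rw [lt_top_iff_ne_top]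
          intro htop
          apply hne
          apply le_antisymm hD₁D
          intro d hd
          have : (⟨d, hd⟩ : ↥D) ∈ D₁.subgroupOf D := by rw [htop]; exact Subgroup.mem_top _
          exact Subgroup.mem_subgroupOf.1 this
        have hnc := Group.normalizerCondition_of_isNilpotent (G := ↥D) (D₁.subgroupOf D) hlt
        obtain ⟨x, hxN, hxD₁⟩ := SetLike.exists_of_lt hnc
        apply hxD₁
        rw [Subgroup.mem_subgroupOf]
        -- `x` normalizes `D₁`
        have hxn : ∀ y ∈ D₁, (x : P) * y * (x : P)⁻¹ ∈ D₁ := by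
          intro y hy
          have h1 := (Subgroup.mem_normalizer_iff.1 hxN ⟨y, hD₁D hy⟩).1
            (Subgroup.mem_subgroupOf.2 hy)
          rw [Subgroup.mem_subgroupOf] at h1
          simpa using h1
        have hcD : (x : P)⁻¹ * β (x : P) ∈ D :=
          D.mul_mem (D.inv_mem x.2) (hDβ β hβG _ x.2)
        have hcA : (x : P)⁻¹ * β (x : P) ∈ A := by
          apply hCA _ hcD
          intro a ha
          have h1 := ((hD₁ _).1 (hxn a (hAD₁ ha))).2
          rw [map_mul, map_mul, map_inv, hβA a ha] at h1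
          have e1 : a * ((x : P)⁻¹ * β (x : P)) =
              (x : P)⁻¹ * ((x : P) * a * (x : P)⁻¹) * β (x : P) := by group
          rw [e1, ← h1]; group
        have h2 := Cfsg.H5.CE.fix_of_comm_fix β (x : P) hβcope (hβA _ hcA) (hDexp _ hcD)
        exact (hD₁ _).2 ⟨x.2, h2⟩
      have hβfix : ∀ d ∈ D, β d = d := by
        intro d hd
        rw [← hDD₁] at hd
        exact ((hD₁ d).1 hd).2
      have hβ1 : β = 1 := hfaith β hβG hβcop hβfix
      rw [hβ] at hβ1
      have hdvd : orderOf α ∣ p ^ k := orderOf_dvd_of_pow_eq_one hβ1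
      obtain ⟨j, -, hj⟩ := (Nat.dvd_prime_pow hpp).1 hdvd
      exact ⟨j, hj⟩

end Cfsg.Agent.S1949
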