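import Cfsg.Statements.S1952
import Cfsg.Agent.Lib.Helper13.ElemAbelianChain

set_option autoImplicit false
open Cfsg

namespace Cfsg.Agent.S1952

open Cfsg.Agent.Lib.Helper13

theorem padicValNat_factorial_sq (p : ℕ) [hp : Fact p.Prime] :
    padicValNat p (p ^ 2).factorial = p + 1 := by
  have h1 : padicValNat p (p * 1).factorial = padicValNat p (1).factorial + 1 :=
    padicValNat_factorial_mul 1
  have h2 : padicValNat p (p * p).factorial = padicValNat p (p).factorial + p :=
    padicValNat_factorial_mul p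
  rw [mul_one] at h1
  rw [Nat.factorial_one, padicValNat_one_right, zero_add] at h1
  rw [pow_two, h2, h1, add_comm]

theorem list_prod_eq_finset_prod {P B : Type*} [Group P] [CommGroup B] (ι : B →* P)
    (g : ℕ → P) (g' : ℕ → B) (hg : ∀ i, ι (g' i) = g i) (n : ℕ) :
    ((List.range n).map g).prod = ι (∏ i ∈ Finset.range n, g' i) := by
  induction n with
  | zero => simp
  | succ n ih =>
    rw [List.range_succ, List.map_append, List.prod_append, ih, Finset.prod_range_succ, map_mul, hg]
    simp

/-- Let P be a finite p-group with a normal elementary abelian subgroup A of index p, and let x ∈ A and y ∈ P with y outside A. If the product of the p conjugates y^(-i) x y^i (i = 0, …, p−1) is not the identity, then the wreath product Z_p ≀ Z_p, realised as a Sylow p-subgroup of the symmetric group of degree p², is a homomorphic image of P. -/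
theorem result {P : Type*} [Group P] [Finite P] {p : ℕ} [Fact p.Prime] (hP : IsPGroup p P) (A : Subgroup P) [A.Normal]
    (hA : Cfsg.IsElementaryAbelian p A) (hidx : A.index = p) (x y : P) (hx : x ∈ A) (hy : y ∉ A)
    (hprod : ((List.range p).map (fun i => (y ^ i)⁻¹ * x * y ^ i)).prod ≠ 1) :
    ∃ (Q : Sylow p (Equiv.Perm (Fin (p ^ 2)))) (f : P →* ↥(Q : Subgroup (Equiv.Perm (Fin (p ^ 2))))), Function.Surjective f := by
  classical
  have hp : p.Prime := Fact.out
  letI instA : CommGroup ↥A :=
    { (inferInstance : Group ↥A) with mul_comm := fun a b => hA.1.is_comm.comm a b }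
  have hV : ∀ v : ↥A, v ^ p = 1 := fun v => Subtype.ext (by
    have := hA.2 v v.2
    simpa using this)
  -- the automorphism induced by `y⁻¹`
  let τ : ↥A →* ↥A := (MulAut.conjNormal (y⁻¹) : MulAut ↥A).toMonoidHom
  have hτ_apply : ∀ v : ↥A, ((τ v : ↥A) : P) = y⁻¹ * v * y := by
    intro v
    show ((MulAut.conjNormal (y⁻¹) v : ↥A) : P) = y⁻¹ * v * y
    rw [MulAut.conjNormal_apply, inv_inv]
  have hτ_iter : ∀ (i : ℕ) (v : ↥A), ((τ^[i] v : ↥A) : P) = (y ^ i)⁻¹ * v * y ^ i := by
    intro i
    induction i with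
    | zero => intro v; simp
    | succ i ih =>
      intro v
      rw [Function.iterate_succ_apply', hτ_apply, ih, pow_succ]
      group
  have hyp : y ^ p ∈ A := by
    have := Subgroup.pow_index_mem A y
    rwa [hidx] at this
  have hcommA : ∀ a ∈ A, ∀ b ∈ A, a * b = b * a := by
    intro a ha b hb
    have := hA.1.is_comm.comm (⟨a, ha⟩ : ↥A) ⟨b, hb⟩
    exact congrArg Subtype.val this
  have hτp : ∀ v : ↥A, τ^[p] v = v := by
    intro v
    apply Subtype.ext
    rw [hτ_iter]
    have h1 : (v : P) * y ^ p = y ^ p * v := hcommA _ v.2 _ hyp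
    rw [mul_assoc, h1, ← mul_assoc, inv_mul_cancel, one_mul]
  -- the norm
  let ι : ↥A →* P :=
    { toFun := Subtype.val
      map_one' := rfl
      map_mul' := fun _ _ => rfl }
  have hN : ((List.range p).map (fun i => (y ^ i)⁻¹ * x * y ^ i)).prod =
      ((∏ i ∈ Finset.range p, τ^[i] (⟨x, hx⟩ : ↥A) : ↥A) : P) :=
    list_prod_eq_finset_prod ι _ (fun i => τ^[i] (⟨x, hx⟩ : ↥A))
      (fun i => hτ_iter i ⟨x, hx⟩) p
  have hN1 : ∏ i ∈ Finset.range p, τ^[i] (⟨x, hx⟩ : ↥A) ≠ 1 := by
    intro h
    apply hprod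
    rw [hN, h]
    rfl
  -- the hyperplane
  obtain ⟨H, hNH, hHidx⟩ := exists_index_p_not_mem hV _ hN1
  have hHPidx : (H.map A.subtype).index = p ^ 2 := by
    rw [Subgroup.index_map_subtype, hHidx, hidx, pow_two]
  have hKPH : (H.map A.subtype).normalCore ≤ H.map A.subtype := Subgroup.normalCore_le _
  have hHPA : H.map A.subtype ≤ A := Subgroup.map_subtype_le _
  have hK'τ : ∀ v ∈ ((H.map A.subtype).normalCore).subgroupOf A,
      τ v ∈ ((H.map A.subtype).normalCore).subgroupOf A := by
    intro v hv
    rw [Subgroup.mem_subgroupOf] at hv ⊢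
    rw [hτ_apply]
    have := (Subgroup.normalCore_normal (H.map A.subtype)).conj_mem _ hv y⁻¹
    rwa [inv_inv] at this
  have hNK' : ∏ i ∈ Finset.range p, τ^[i] (⟨x, hx⟩ : ↥A) ∉
      ((H.map A.subtype).normalCore).subgroupOf A := by
    intro h
    apply hNH
    have h1 := hKPH (Subgroup.mem_subgroupOf.mp h)
    obtain ⟨h', hh', e⟩ := h1
    have : h' = ∏ i ∈ Finset.range p, τ^[i] (⟨x, hx⟩ : ↥A) := Subtype.ext e
    rw [← this]
    exact hh'
  have hcard := card_mul_pow_le_of_norm_not_mem hV τ hτp
    (((H.map A.subtype).normalCore).subgroupOf A) hK'τ ⟨x, hx⟩ hNK'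
  have hK'card : Nat.card (((H.map A.subtype).normalCore).subgroupOf A) =
      Nat.card ((H.map A.subtype).normalCore) :=
    Nat.card_congr (Subgroup.subgroupOfEquivOfLe (hKPH.trans hHPA)).toEquiv
  rw [hK'card] at hcard
  have hPcard : Nat.card P = p * Nat.card A := by
    rw [← hidx]
    exact (Subgroup.index_mul_card A).symm
  -- the action on the cosets of the hyperplane
  have hfinq : Finite (P ⧸ H.map A.subtype) := inferInstance
  have hcardq : Nat.card (P ⧸ H.map A.subtype) = p ^ 2 := hHPidx
  let e : (P ⧸ H.map A.subtype) ≃ Fin (p ^ 2) := Finite.equivFinOfCardEq hcardq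
  let ψ : P →* Equiv.Perm (Fin (p ^ 2)) :=
    (e.permCongrHom).toMonoidHom.comp (MulAction.toPermHom P (P ⧸ H.map A.subtype))
  have hkerψ : ψ.ker = (H.map A.subtype).normalCore := by
    rw [Subgroup.normalCore_eq_ker]
    ext g
    rw [MonoidHom.mem_ker, MonoidHom.mem_ker]
    show e.permCongrHom (MulAction.toPermHom P (P ⧸ H.map A.subtype) g) = 1 ↔ _
    rw [map_eq_one_iff _ e.permCongrHom.injective]
  have hrange_card : Nat.card ψ.range = ((H.map A.subtype).normalCore).index := by
    rw [← hkerψ, Subgroup.index_ker]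
  have hidxK : p ^ (p + 1) ≤ ((H.map A.subtype).normalCore).index := by
    have h1 := Subgroup.index_mul_card ((H.map A.subtype).normalCore)
    have hpos : 0 < Nat.card ((H.map A.subtype).normalCore) := Nat.card_pos
    have h2 : Nat.card ((H.map A.subtype).normalCore) * p ^ (p + 1) ≤
        Nat.card ((H.map A.subtype).normalCore) * ((H.map A.subtype).normalCore).index := by
      calc Nat.card ((H.map A.subtype).normalCore) * p ^ (p + 1)
          = p * (Nat.card ((H.map A.subtype).normalCore) * p ^ p) := by rw [pow_succ]; ring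
        _ ≤ p * Nat.card A := Nat.mul_le_mul_left p hcard
        _ = Nat.card P := hPcard.symm
        _ = Nat.card ((H.map A.subtype).normalCore) * ((H.map A.subtype).normalCore).index := by
            rw [← h1, mul_comm]
    exact Nat.le_of_mul_le_mul_left h2 hpos
  -- Sylow
  have hpg : IsPGroup p ψ.range := IsPGroup.of_surjective hP ψ.rangeRestrict ψ.rangeRestrict_surjective
  obtain ⟨Q, hQ⟩ := hpg.exists_le_sylow
  have hQcard : Nat.card Q = p ^ (p + 1) := by
    rw [Sylow.card_eq_multiplicity, Nat.card_perm, Nat.card_fin, Nat.factorization_def _ hp,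
      padicValNat_factorial_sq]
  have hrQ : ψ.range = (Q : Subgroup (Equiv.Perm (Fin (p ^ 2)))) :=
    Subgroup.eq_of_le_of_card_ge hQ (by rw [hQcard, hrange_card]; exact hidxK)
  refine ⟨Q, (MulEquiv.subgroupCongr hrQ).toMonoidHom.comp ψ.rangeRestrict, ?_⟩
  exact (MulEquiv.subgroupCongr hrQ).surjective.comp ψ.rangeRestrict_surjective

end Cfsg.Agent.S1952
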