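import Cfsg.Statements.S1953
import Cfsg.Agent.Lib.Helper18.LeastCRMain

set_option autoImplicit false
open Cfsg

namespace Cfsg.Agent.S1953

open Cfsg.Agent.Lib.Helper13 Cfsg.Agent.Lib.Helper18.FusionCR Cfsg.Agent.Lib.Helper18.LeastCR

/-- Let p be an odd prime and P a Sylow p-subgroup of the finite group G, and suppose that for no p-subgroup Q of G does N_G(Q)/C_G(Q) have a section isomorphic to SL₂(p). Call a subgroup Q of P centric-radical when Z(Q) is a Sylow p-subgroup of C_G(Q) and the only normal subgroup X of N_G(Q) containing Q·C_G(Q) such that the index of Q·C_G(Q) in X is a power of p is Q·C_G(Q) itself (that is, N_G(Q)/Q·C_G(Q) has no nontrivial normal p-subgroup). Then there is a centric-radical subgroup Q of P contained in every centric-radical subgroup of P; it is normal in P, and N_G(Q) controls strong fusion in P: whenever a subgroup A of P has g A g⁻¹ ≤ P, the element g is a product h c with h in N_G(Q) and c centralizing A. -/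
theorem result {G : Type*} [Group G] [Finite G] {p : ℕ} [Fact p.Prime] (hp : p ≠ 2) (P : Sylow p G)
    (hfree : ∀ Q : Subgroup G, IsPGroup p ↥Q → ¬ ∃ (H K : Subgroup G) (_ : (K.subgroupOf H).Normal),
      Subgroup.centralizer (Q : Set G) ≤ K ∧ K ≤ H ∧ H ≤ Subgroup.normalizer (Q : Set G) ∧
      Nonempty ((↥H ⧸ K.subgroupOf H) ≃* Matrix.SpecialLinearGroup (Fin 2) (ZMod p)))
    (cr : Subgroup G → Prop)
    (hcr : ∀ Q : Subgroup G, cr Q ↔ (Q ≤ (P : Subgroup G) ∧
      (∃ R : Sylow p ↥(Subgroup.centralizer (Q : Set G)),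
        (R : Subgroup ↥(Subgroup.centralizer (Q : Set G))).map (Subgroup.centralizer (Q : Set G)).subtype = Q ⊓ Subgroup.centralizer (Q : Set G)) ∧
      ∀ X : Subgroup G, X ≤ Subgroup.normalizer (Q : Set G) →
        (∀ n ∈ Subgroup.normalizer (Q : Set G), X.map (MulAut.conj n).toMonoidHom = X) →
        Q ⊔ Subgroup.centralizer (Q : Set G) ≤ X → (∃ k : ℕ, (Q ⊔ Subgroup.centralizer (Q : Set G)).relIndex X = p ^ k) →
        X = Q ⊔ Subgroup.centralizer (Q : Set G))) :
    ∃ Q : Subgroup G, cr Q ∧ (∀ R : Subgroup G, cr R → Q ≤ R) ∧ (∀ x ∈ (P : Subgroup G), Q.map (MulAut.conj x).toMonoidHom = Q) ∧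
      ∀ A : Subgroup G, A ≤ (P : Subgroup G) → ∀ g : G, A.map (MulAut.conj g).toMonoidHom ≤ (P : Subgroup G) →
        ∃ h ∈ Subgroup.normalizer (Q : Set G), ∃ c ∈ Subgroup.centralizer (A : Set G), g = h * c := by
  classical
  have hAF : Cfsg.Agent.Lib.Helper18.AutFree.AutFreeSL p G := by
    intro T hT H f hHN hkill hf
    obtain ⟨H', K', hn, h1, h2, h3, hiso⟩ :=
      Cfsg.Agent.Lib.Helper18.AutFree.exists_section_of_hom T H f hf hHN hkill
    exact hfree T hT ⟨H', K', hn, h1, h2, h3, hiso⟩
  obtain ⟨Q, hQ, hleast, hcen, hrad⟩ := Cfsg.Agent.Lib.Helper18.LeastCR.exists_least hp P hAF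
  obtain ⟨hQP, hPQ, hctl⟩ := hQ
  have hpp : p.Prime := Fact.out
  refine ⟨Q, ?_, ?_, ?_, ?_⟩
  · -- `Q` is centric radical
    rw [hcr]
    refine ⟨hQP, ?_, ?_⟩
    · obtain ⟨C, hC⟩ : ∃ C : Subgroup G, C = Subgroup.centralizer (Q : Set G) := ⟨_, rfl⟩
      rw [← hC] at hcen ⊢
      have hCN : C ≤ Subgroup.normalizer (Q : Set G) := by
        rw [hC]; exact Subgroup.centralizer_le_normalizer _
      have hNC : Subgroup.normalizer (Q : Set G) ≤ Subgroup.normalizer ((C : Subgroup G) : Set G) := by
        rw [hC]; exact normalizer_le_normalizer_centralizer Q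
      have hidx := not_dvd_relIndex_inf P hPQ hCN hNC
      have hpg : IsPGroup p ↥(((P : Subgroup G) ⊓ C).subgroupOf C) :=
        (P.isPGroup'.to_le inf_le_left).comap_subtype
      refine ⟨hpg.toSylow hidx, ?_⟩
      have e : ((hpg.toSylow hidx : Sylow p ↥C) : Subgroup ↥C) = ((P : Subgroup G) ⊓ C).subgroupOf C := rfl
      rw [e, Subgroup.subgroupOf_map_subtype, inf_assoc, inf_idem]
      apply le_antisymm
      · exact le_inf hcen inf_le_right
      · exact inf_le_inf_right _ hQP
    · intro X hXN hconj hQX hidx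
      apply hrad X hXN _ hQX hidx
      intro n hn
      exact (map_conj_eq_self_iff_mem_normalizer X n).mp (hconj n hn)
  · -- `Q` lies in every centric radical subgroup
    intro R hR
    rw [hcr] at hR
    obtain ⟨hRP, ⟨R', hR'⟩, hRrad⟩ := hR
    -- `P ∩ C(R) ≤ R`
    have hPC : (P : Subgroup G) ⊓ Subgroup.centralizer (R : Set G) ≤ R := by
      have hpg : IsPGroup p ↥(((P : Subgroup G) ⊓ Subgroup.centralizer (R : Set G)).subgroupOf
          (Subgroup.centralizer (R : Set G))) :=
        (P.isPGroup'.to_le inf_le_left).comap_subtype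
      have hle : (R' : Subgroup ↥(Subgroup.centralizer (R : Set G))) ≤
          ((P : Subgroup G) ⊓ Subgroup.centralizer (R : Set G)).subgroupOf
            (Subgroup.centralizer (R : Set G)) := by
        intro x hx
        rw [Subgroup.mem_subgroupOf]
        have h1 : (x : G) ∈ (R' : Subgroup ↥(Subgroup.centralizer (R : Set G))).map
            (Subgroup.centralizer (R : Set G)).subtype := ⟨x, hx, rfl⟩
        rw [hR'] at h1
        exact Subgroup.mem_inf.mpr ⟨hRP (Subgroup.mem_inf.mp h1).1, (Subgroup.mem_inf.mp h1).2⟩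
      have heq := R'.is_maximal' hpg hle
      intro c hc
      have hcC : c ∈ Subgroup.centralizer (R : Set G) := (Subgroup.mem_inf.mp hc).2
      have h1 : (⟨c, hcC⟩ : ↥(Subgroup.centralizer (R : Set G))) ∈
          ((P : Subgroup G) ⊓ Subgroup.centralizer (R : Set G)).subgroupOf
            (Subgroup.centralizer (R : Set G)) := Subgroup.mem_subgroupOf.mpr hc
      rw [heq] at h1
      have h2 : c ∈ (R' : Subgroup ↥(Subgroup.centralizer (R : Set G))).map
          (Subgroup.centralizer (R : Set G)).subtype := ⟨⟨c, hcC⟩, h1, rfl⟩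
      rw [hR'] at h2
      exact (Subgroup.mem_inf.mp h2).1
    clear hR' R'
    apply hleast R hRP
    intro K hK
    obtain ⟨hCK, hKN, hNK, hpow⟩ := hK
    obtain ⟨C, hC⟩ : ∃ C : Subgroup G, C = Subgroup.centralizer (R : Set G) := ⟨_, rfl⟩
    rw [← hC] at hCK hpow hRrad hPC
    have hCN : C ≤ Subgroup.normalizer (R : Set G) := by
      rw [hC]; exact Subgroup.centralizer_le_normalizer _
    have hNC : Subgroup.normalizer (R : Set G) ≤ Subgroup.normalizer ((C : Subgroup G) : Set G) := by
      rw [hC]; exact normalizer_le_normalizer_centralizer R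
    have hRCN : Subgroup.normalizer (R : Set G) ≤ Subgroup.normalizer ((R ⊔ C : Subgroup G) : Set G) :=
      (le_inf le_rfl hNC).trans (normalizer_inf_le_sup R C)
    have hXN : R ⊔ K ≤ Subgroup.normalizer (R : Set G) := sup_le Subgroup.le_normalizer hKN
    have hXeq : R ⊔ K = R ⊔ C := by
      apply hRrad (R ⊔ K) hXN
      · intro n hn
        rw [Subgroup.map_sup, (map_conj_eq_self_iff_mem_normalizer R n).mpr hn,
          (map_conj_eq_self_iff_mem_normalizer K n).mpr (hNK hn)]
      · exact sup_le_sup_left hCK R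
      · haveI hn : ((R ⊔ C).subgroupOf (R ⊔ K)).Normal :=
          Subgroup.normal_subgroupOf_of_le_normalizer (hXN.trans hRCN)
        have hquot : IsPGroup p (↥(R ⊔ K) ⧸ (R ⊔ C).subgroupOf (R ⊔ K)) := by
          intro q
          induction q using QuotientGroup.induction_on with
          | H x =>
            have hx : (x : G) ∈ ((R ⊔ K : Subgroup G) : Set G) := x.2
            rw [Subgroup.coe_mul_of_right_le_normalizer_left R K hKN] at hx
            obtain ⟨r, hr, k, hk, hrk⟩ := hx
            obtain ⟨j, hj⟩ := hpow k hk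
            obtain ⟨r', hr', hpw⟩ := exists_mul_pow R hr (hKN hk) (p ^ j)
            refine ⟨j, ?_⟩
            rw [← QuotientGroup.mk_pow, QuotientGroup.eq_one_iff, Subgroup.mem_subgroupOf]
            have e : ((x ^ p ^ j : ↥(R ⊔ K)) : G) = r' * k ^ p ^ j := by
              rw [Subgroup.coe_pow, ← hrk, hpw]
            rw [e]
            exact Subgroup.mul_mem _ (Subgroup.mem_sup_left hr') (Subgroup.mem_sup_right hj)
        obtain ⟨n, hn⟩ := hquot.exists_card_eq
        exact ⟨n, by rw [← hn]; rfl⟩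
    intro x hx
    obtain ⟨hxP, hxK⟩ := Subgroup.mem_inf.mp hx
    have hxRC : x ∈ ((R ⊔ C : Subgroup G) : Set G) := by
      rw [← hXeq]; exact Subgroup.mem_sup_right hxK
    rw [Subgroup.coe_mul_of_right_le_normalizer_left R C hCN] at hxRC
    obtain ⟨r, hr, c, hc, hrc⟩ := hxRC
    have hcP : c ∈ (P : Subgroup G) := by
      have : c = r⁻¹ * x := by rw [← hrc]; group
      rw [this]
      exact (P : Subgroup G).mul_mem ((P : Subgroup G).inv_mem (hRP hr)) hxP
    rw [← hrc]
    exact R.mul_mem hr (hPC (Subgroup.mem_inf.mpr ⟨hcP, hc⟩))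
  · intro x hx
    exact (map_conj_eq_self_iff_mem_normalizer Q x).mpr (hPQ hx)
  · intro A hAP g hAg
    obtain ⟨m, hm, hmA⟩ := hctl A g hAP ((map_conj_le_iff A _ g).mp hAg)
    refine ⟨m, hm, m⁻¹ * g, ?_, by group⟩
    rw [Subgroup.mem_centralizer_iff]
    intro a ha
    have h1 := hmA a ha
    calc a * (m⁻¹ * g) = m⁻¹ * (m * a * m⁻¹) * g := by group
      _ = m⁻¹ * (g * a * g⁻¹) * g := by rw [h1]
      _ = m⁻¹ * g * a := by group

end Cfsg.Agent.S1953
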