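import Cfsg.Statements.S1966
import Cfsg.Agent.Lib.Helper13.Cores

set_option autoImplicit false
open Cfsg

namespace Cfsg.Agent.S1966

open Cfsg.Agent.Lib.Helper13 in
/-- Let p be a prime, G a finite group with Sylow p-subgroup S and 𝓕 a conjugation family for S in G. Then the members of 𝓕 containing O_p(G) still form a conjugation family for S in G. -/
theorem result {G : Type*} [Group G] [Finite G] {p : ℕ} [Fact p.Prime] (S : Sylow p G) (𝓕 : Set (Subgroup G)) (h : Cfsg.IsConjugationFamily 𝓕 (S : Subgroup G)) : Cfsg.IsConjugationFamily {T : Subgroup G | T ∈ 𝓕 ∧ Cfsg.pCore p G ≤ T} (S : Subgroup G) := by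
  obtain ⟨h1, h2⟩ := h
  refine ⟨fun T hT => h1 T hT.1, ?_⟩
  intro A g hAne hAS hAg
  have hO := Lib.Helper13.pCore_le_sylow (p := p) S
  -- enlarge A by the p-core
  set A' : Set G := A ∪ (Cfsg.pCore p G : Set G) with hA'
  have hA'ne : A'.Nonempty := hAne.mono Set.subset_union_left
  have hA'S : A' ⊆ (S : Subgroup G) := Set.union_subset hAS hO
  have hconjO : ∀ (y : G), ∀ a ∈ (Cfsg.pCore p G : Set G), y⁻¹ * a * y ∈ (Cfsg.pCore p G : Set G) := by
    intro y a ha
    have := (Lib.Helper13.pCore_normal p G).conj_mem a ha y⁻¹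
    simpa using this
  have hA'g : (fun a => g⁻¹ * a * g) '' A' ⊆ (S : Subgroup G) := by
    rintro _ ⟨a, ha, rfl⟩
    rcases ha with ha | ha
    · exact hAg ⟨a, ha, rfl⟩
    · exact hO (hconjO g a ha)
  obtain ⟨n, T, x, hprod, hT, hx, hfirst, hstep⟩ := h2 A' g hA'ne hA'S hA'g
  refine ⟨n, T, x, hprod, ?_, hx, ?_, ?_⟩
  · intro i
    refine ⟨hT i, ?_⟩
    -- T i contains the p-core
    by_cases hi : i.val = 0
    · have hn : 0 < n := by have := i.2; omega
      have : i = ⟨0, hn⟩ := Fin.ext hi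
      rw [this]
      exact fun a ha => hfirst hn (Set.mem_union_right _ ha)
    · obtain ⟨j, hj⟩ : ∃ j, i.val = j + 1 := ⟨i.val - 1, by omega⟩
      have hjn : j < n := by have := i.2; omega
      have hlt : (⟨j, hjn⟩ : Fin n).val + 1 < n := by simp only; have := i.2; omega
      have := hstep ⟨j, hjn⟩ hlt
      have hi' : i = ⟨(⟨j, hjn⟩ : Fin n).val + 1, hlt⟩ := Fin.ext hj
      rw [hi']
      intro a ha
      apply this
      -- a = y⁻¹ (y a y⁻¹) y
      set y := ((List.ofFn x).take ((⟨j, hjn⟩ : Fin n).val + 1)).prod with hy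
      refine ⟨y * a * y⁻¹, Set.mem_union_right _ ?_, by group⟩
      exact (Lib.Helper13.pCore_normal p G).conj_mem a ha y
  · intro hn
    exact Set.subset_union_left.trans (hfirst hn)
  · intro i hi
    exact (Set.image_mono Set.subset_union_left).trans (hstep i hi)

end Cfsg.Agent.S1966
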