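import Cfsg.Statements.S1967
import Cfsg.Agent.Lib.Helper13.Conj
import Cfsg.Agent.Lib.Helper13.Sylow

set_option autoImplicit false
open Cfsg

namespace Cfsg.Agent.S1967

open Cfsg.Agent.Lib.Helper13

/-- Let p be a prime, G a finite group with Sylow p-subgroup S and W a conjugacy functor for p on G. Then W controls strong fusion in G if and only if, whenever T ≤ S and g ∈ G satisfy gTg⁻¹ ≤ S, one can write g = n c with n ∈ N_G(W(S)) and c ∈ C_G(T). -/
theorem result {G : Type*} [Group G] [Finite G] {p : ℕ} [Fact p.Prime] (S : Sylow p G) (W : Subgroup G → Subgroup G) (hW : Cfsg.IsConjugacyFunctor p W) : Cfsg.ControlsStrongFusionIn p W ⊤ ↔ ∀ (T : Subgroup G) (g : G), T ≤ (S : Subgroup G) → T.map (MulAut.conj g).toMonoidHom ≤ (S : Subgroup G) → ∃ n ∈ Subgroup.normalizer ((W (S : Subgroup G) : Subgroup G) : Set G), ∃ c ∈ Subgroup.centralizer (T : Set G), g = n * c := by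
  constructor
  · rintro ⟨T0, -, hT0p, hT0i, hT0⟩ T g hTS hTg
    rw [Subgroup.relIndex_top_right] at hT0i
    -- T0 is a Sylow subgroup, conjugate to S
    let Q : Sylow p G := hT0p.toSylow hT0i
    obtain ⟨k, hk⟩ := MulAction.exists_smul_eq G Q S
    have hQ : (Q : Subgroup G) = T0 := rfl
    have hS_mem : ∀ y, y ∈ (S : Subgroup G) ↔ k⁻¹ * y * k ∈ T0 := by
      intro y
      rw [← hk, mem_smul_sylow_iff, hQ]
    have hSmap : (S : Subgroup G) = T0.map (MulAut.conj k).toMonoidHom := by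
      ext y
      rw [hS_mem, mem_map_conj_iff]
    -- the set A and element h
    let A : Set G := (fun t => k⁻¹ * t * k) '' (T : Set G)
    have hA : A ⊆ T0 := by
      rintro _ ⟨t, ht, rfl⟩
      exact (hS_mem t).mp (hTS ht)
    have hAh : (fun a => (k⁻¹ * g * k) * a * (k⁻¹ * g * k)⁻¹) '' A ⊆ T0 := by
      rintro _ ⟨_, ⟨t, ht, rfl⟩, rfl⟩
      have h1 : g * t * g⁻¹ ∈ (S : Subgroup G) := hTg (conj_mem_map_conj T g ht)
      have h2 := (hS_mem _).mp h1
      have : (k⁻¹ * g * k) * (k⁻¹ * t * k) * (k⁻¹ * g * k)⁻¹ = k⁻¹ * (g * t * g⁻¹) * k := by group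
      show (k⁻¹ * g * k) * (k⁻¹ * t * k) * (k⁻¹ * g * k)⁻¹ ∈ T0
      rw [this]; exact h2
    obtain ⟨x, hx, hxA⟩ := hT0 A (k⁻¹ * g * k) (Subgroup.mem_top _) hA hAh
    have hxN : x ∈ Subgroup.normalizer ((W T0 : Subgroup G) : Set G) := (Subgroup.mem_inf.mp hx).2
    -- n = k x k⁻¹ normalizes W S
    have hWS : W (S : Subgroup G) = (W T0).map (MulAut.conj k).toMonoidHom := by
      rw [hSmap]; exact (hW T0 hT0p).2.2 k
    have hn : k * x * k⁻¹ ∈ Subgroup.normalizer ((W (S : Subgroup G) : Subgroup G) : Set G) := by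
      rw [← map_conj_eq_self_iff_mem_normalizer, hWS]
      rw [← map_conj_mul]
      have : k * x * k⁻¹ * k = k * x := by group
      rw [this, map_conj_mul]
      rw [(map_conj_eq_self_iff_mem_normalizer _ _).mpr hxN]
    refine ⟨k * x * k⁻¹, hn, (k * x * k⁻¹)⁻¹ * g, ?_, by group⟩
    rw [Subgroup.mem_centralizer_iff]
    intro t ht
    have h3 := hxA (k⁻¹ * t * k) ⟨t, ht, rfl⟩
    have h4 : (k * x * k⁻¹) * t * (k * x * k⁻¹)⁻¹ = g * t * g⁻¹ := by
      calc (k * x * k⁻¹) * t * (k * x * k⁻¹)⁻¹ = k * (x * (k⁻¹ * t * k) * x⁻¹) * k⁻¹ := by group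
        _ = k * ((k⁻¹ * g * k) * (k⁻¹ * t * k) * (k⁻¹ * g * k)⁻¹) * k⁻¹ := by rw [h3]
        _ = g * t * g⁻¹ := by group
    calc t * ((k * x * k⁻¹)⁻¹ * g) = (k * x * k⁻¹)⁻¹ * ((k * x * k⁻¹) * t * (k * x * k⁻¹)⁻¹) * (k * x * k⁻¹) * (k * x * k⁻¹)⁻¹ * g := by group
      _ = (k * x * k⁻¹)⁻¹ * g * t := by rw [h4]; group
  · intro h
    refine ⟨(S : Subgroup G), le_top, S.isPGroup', ?_, ?_⟩
    · rw [Subgroup.relIndex_top_right]; exact S.not_dvd_index
    · intro A h' _ hAS hAh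
      have h1 : Subgroup.closure A ≤ (S : Subgroup G) := (Subgroup.closure_le _).mpr hAS
      have h2 : (Subgroup.closure A).map (MulAut.conj h').toMonoidHom ≤ (S : Subgroup G) := by
        rw [MonoidHom.map_closure, Subgroup.closure_le]
        rintro _ ⟨a, ha, rfl⟩
        have := hAh ⟨a, ha, rfl⟩
        simpa [MulAut.conj_apply] using this
      obtain ⟨n, hn, c, hc, hg⟩ := h (Subgroup.closure A) h' h1 h2
      refine ⟨n, Subgroup.mem_inf.mpr ⟨Subgroup.mem_top _, hn⟩, ?_⟩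
      intro a ha
      rw [Subgroup.mem_centralizer_iff] at hc
      have hca := hc a (Subgroup.subset_closure ha)
      rw [hg]
      calc n * a * n⁻¹ = n * (a * c) * c⁻¹ * n⁻¹ := by group
        _ = n * (c * a) * c⁻¹ * n⁻¹ := by rw [hca]
        _ = n * c * a * (n * c)⁻¹ := by group

end Cfsg.Agent.S1967
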