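import Cfsg.Statements.S1968
import Cfsg.Agent.S1961
import Cfsg.Agent.S1963
import Cfsg.Agent.S1965

set_option autoImplicit false
open Cfsg

namespace Cfsg.Agent.S1968

open Cfsg.Agent.Lib.Helper13 Cfsg.Agent.S1965

variable {G : Type*} [Group G]

/-- in a valid chain whose total conjugation moves `A`, some step moves `A` while `A` lies in its member -/
theorem first_move (𝓕 : Set (Subgroup G)) (A : Set G) :
    ∀ L : List (Subgroup G × G), Valid 𝓕 A L →
      (fun a => ((L.map Prod.snd).prod)⁻¹ * a * (L.map Prod.snd).prod) '' A ≠ A →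
      ∃ T ∈ 𝓕, ∃ x ∈ Subgroup.normalizer (T : Set G), A ⊆ T ∧ (fun a => x⁻¹ * a * x) '' A ≠ A := by
  intro L
  induction L with
  | nil =>
    intro _ hne
    exfalso; apply hne; simp
  | cons Tx L ih =>
    obtain ⟨T, x⟩ := Tx
    rintro ⟨h1, h2, h3, h4⟩ hne
    by_cases hx : (fun a => x⁻¹ * a * x) '' A = A
    · rw [hx] at h4
      apply ih h4
      intro h
      apply hne
      simp only [List.map_cons, List.prod_cons]
      rw [← rconj_rconj, hx]
      exact h
    · exact ⟨T, h1, x, h2, h3, hx⟩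

/-- Let p be a prime, G a finite group with Sylow p-subgroup S and W a conjugacy functor for p on G with Z(P) ≤ W(P) for every p-subgroup P. Let A be a subgroup of Z(S) normalized by N_G(W(S)) that is not weakly closed in S with respect to G. Then there is a subgroup T of S, well placed in S with respect to W, such that: A ≤ T; N_G(W(N_S(T))) normalizes A; N_S(T) is a Sylow p-subgroup of N_G(T); A ≤ Z(N_S(T)); and A is not weakly closed in N_S(T) with respect to N_G(T), that is, some N_G(T)-conjugate of A other than A lies in N_S(T). -/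
theorem result {G : Type*} [Group G] [Finite G] {p : ℕ} [Fact p.Prime] (S : Sylow p G) (W : Subgroup G → Subgroup G) (hW : Cfsg.IsConjugacyFunctor p W) (hWZ : ∀ P : Subgroup G, IsPGroup p ↥P → P ⊓ Subgroup.centralizer (P : Set G) ≤ W P) (A : Subgroup G) (hAZ : A ≤ (S : Subgroup G) ⊓ Subgroup.centralizer ((S : Subgroup G) : Set G)) (hAN : Subgroup.normalizer ((W (S : Subgroup G) : Subgroup G) : Set G) ≤ Subgroup.normalizer ((A : Subgroup G) : Set G)) (hnwc : ¬ Cfsg.IsWeaklyClosed A (S : Subgroup G)) : ∃ T : Subgroup G, Cfsg.IsWellPlaced p W (S : Subgroup G) T ∧ A ≤ T ∧ Subgroup.normalizer ((W ((S : Subgroup G) ⊓ Subgroup.normalizer ((T : Subgroup G) : Set G)) : Subgroup G) : Set G) ≤ Subgroup.normalizer ((A : Subgroup G) : Set G) ∧ ¬ p ∣ ((S : Subgroup G) ⊓ Subgroup.normalizer ((T : Subgroup G) : Set G)).relIndex (Subgroup.normalizer ((T : Subgroup G) : Set G)) ∧ A ≤ Subgroup.centralizer (((S : Subgroup G) ⊓ Subgroup.normalizer ((T : Subgroup G) : Set G) : Subgroup G) :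 Set G) ∧ ∃ g ∈ Subgroup.normalizer ((T : Subgroup G) : Set G), A.map (MulAut.conj g).toMonoidHom ≤ (S : Subgroup G) ⊓ Subgroup.normalizer ((T : Subgroup G) : Set G) ∧ A.map (MulAut.conj g).toMonoidHom ≠ A := by
  classical
  set 𝓕 : Set (Subgroup G) := {T : Subgroup G | Cfsg.IsWellPlaced p W (S : Subgroup G) T} with h𝓕def
  have h𝓕 : ∀ U ∈ 𝓕, U ≤ (S : Subgroup G) := fun U hU => hU.1
  have hfam : ∀ T : Subgroup G, T ≤ (S : Subgroup G) → ∃ U ∈ 𝓕,
      (∃ g : G, T.map (MulAut.conj g).toMonoidHom = U) ∧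
      ¬ p ∣ ((S : Subgroup G) ⊓ Subgroup.normalizer ((U : Subgroup G) : Set G)).relIndex
        (Subgroup.normalizer ((U : Subgroup G) : Set G)) := by
    intro T hT
    obtain ⟨g, hg⟩ := Cfsg.Agent.S1963.result S W hW T hT
    exact ⟨T.map (MulAut.conj g).toMonoidHom, hg, ⟨g, rfl⟩, hg.2 0⟩
  have hAS : A ≤ (S : Subgroup G) := hAZ.trans inf_le_left
  have hAC : A ≤ Subgroup.centralizer ((S : Subgroup G) : Set G) := hAZ.trans inf_le_right
  obtain ⟨g, hgS, hgne⟩ : ∃ g : G, A.map (MulAut.conj g).toMonoidHom ≤ (S : Subgroup G) ∧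
      A.map (MulAut.conj g).toMonoidHom ≠ A := by
    by_contra hcon
    push Not at hcon
    exact hnwc ⟨hAS, hcon⟩
  -- a chain for `g⁻¹`
  have hreach : Reach 𝓕 (A : Set G) g⁻¹ :=
    Cfsg.Agent.S1965.main S 𝓕 h𝓕 hfam _ A g⁻¹ hAS (fun t ht => by
      have := hgS (conj_mem_map_conj A g ht)
      simpa using this) rfl
  obtain ⟨L, hL, hLg⟩ := hreach
  have hmove0 : (fun a => ((L.map Prod.snd).prod)⁻¹ * a * (L.map Prod.snd).prod) '' (A : Set G) ≠ (A : Set G) := by
    rw [hLg, rconj_image_eq, inv_inv]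
    intro h
    exact hgne (SetLike.coe_injective h)
  obtain ⟨T₀, hT₀𝓕, x₀, hx₀T, hAT₀, hmove⟩ := first_move 𝓕 (A : Set G) L hL hmove0
  -- candidates
  have key : ∀ (m : ℕ) (T : Subgroup G), Cfsg.IsWellPlaced p W (S : Subgroup G) T → A ≤ T →
      (∃ g ∈ Subgroup.normalizer ((T : Subgroup G) : Set G),
        A.map (MulAut.conj g).toMonoidHom ≤ (S : Subgroup G) ⊓ Subgroup.normalizer ((T : Subgroup G) : Set G) ∧
        A.map (MulAut.conj g).toMonoidHom ≠ A) →
      Nat.card (S : Subgroup G) -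
        Nat.card ((S : Subgroup G) ⊓ Subgroup.normalizer ((T : Subgroup G) : Set G) : Subgroup G) = m →
      ∃ T : Subgroup G, Cfsg.IsWellPlaced p W (S : Subgroup G) T ∧ A ≤ T ∧ Subgroup.normalizer ((W ((S : Subgroup G) ⊓ Subgroup.normalizer ((T : Subgroup G) : Set G)) : Subgroup G) : Set G) ≤ Subgroup.normalizer ((A : Subgroup G) : Set G) ∧ ¬ p ∣ ((S : Subgroup G) ⊓ Subgroup.normalizer ((T : Subgroup G) : Set G)).relIndex (Subgroup.normalizer ((T : Subgroup G) : Set G)) ∧ A ≤ Subgroup.centralizer (((S : Subgroup G) ⊓ Subgroup.normalizer ((T : Subgroup G) : Set G) : Subgroup G) : Set G) ∧ ∃ g ∈ Subgroup.normalizer ((T : Subgroup G) : Set G), A.map (MulAut.conj g).toMonoidHom ≤ (S : Subgroup G) ⊓ Subgroup.normalizer ((T : Subgroup G) : Set G) ∧ A.map (MulAut.conj g).toMonoidHom ≠ A := by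
    intro m
    induction m using Nat.strong_induction_on with
    | _ m ih =>
      intro T hTwp hAT hTg hm
      set S1 : Subgroup G := (S : Subgroup G) ⊓ Subgroup.normalizer ((T : Subgroup G) : Set G) with hS1
      have hS1p : IsPGroup p S1 := S.isPGroup'.to_le inf_le_left
      have hAcS1 : A ≤ Subgroup.centralizer ((S1 : Subgroup G) : Set G) :=
        hAC.trans (Subgroup.centralizer_le (by exact_mod_cast (inf_le_left : S1 ≤ (S : Subgroup G))))
      by_cases hN : Subgroup.normalizer ((W S1 : Subgroup G) : Set G) ≤ Subgroup.normalizer ((A : Subgroup G) : Set G)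
      · exact ⟨T, hTwp, hAT, hN, hTwp.2 0, hAcS1, hTg⟩
      · obtain ⟨x, hx1, hx2⟩ := SetLike.not_le_iff_exists.mp hN
        have hS1lt : S1 < (S : Subgroup G) := by
          refine lt_of_le_of_ne inf_le_left ?_
          intro h
          apply hN
          rw [h]; exact hAN
        set T1 : Subgroup G := W S1 with hT1
        have hT1wp : Cfsg.IsWellPlaced p W (S : Subgroup G) T1 :=
          Cfsg.Agent.S1961.wellPlaced_shift W hW (S : Subgroup G) T S.isPGroup' hTwp
        have hT1S1 : T1 ≤ S1 := (hW S1 hS1p).1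
        have hAS1 : A ≤ S1 := le_inf hAS (hAT.trans Subgroup.le_normalizer)
        have hAT1 : A ≤ T1 := (le_inf hAS1 hAcS1).trans (hWZ S1 hS1p)
        have hT1le : T1 ≤ (S : Subgroup G) ⊓ Subgroup.normalizer ((T1 : Subgroup G) : Set G) :=
          le_inf (hT1S1.trans inf_le_left) Subgroup.le_normalizer
        have hAx : A.map (MulAut.conj x).toMonoidHom ≤ T1 := by
          rw [map_conj_le_iff]
          intro y hy
          exact (Subgroup.mem_normalizer_iff.mp hx1 y).mp (hAT1 hy)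
        have hAxne : A.map (MulAut.conj x).toMonoidHom ≠ A := by
          intro h
          exact hx2 ((map_conj_eq_self_iff_mem_normalizer A x).mp h)
        have hlt1 : S1 < (S : Subgroup G) ⊓ Subgroup.normalizer ((S1 : Subgroup G) : Set G) :=
          lt_inf_normalizer_of_lt (S : Subgroup G) S1 S.isPGroup' hS1lt
        have hle2 : (S : Subgroup G) ⊓ Subgroup.normalizer ((S1 : Subgroup G) : Set G) ≤
            (S : Subgroup G) ⊓ Subgroup.normalizer ((T1 : Subgroup G) : Set G) :=
          inf_le_inf_left _ (Cfsg.Agent.S1961.normalizer_le_normalizer_functor W hW S1 hS1p)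
        have hc1 : Nat.card S1 < Nat.card ((S : Subgroup G) ⊓ Subgroup.normalizer ((T1 : Subgroup G) : Set G) : Subgroup G) :=
          lt_of_lt_of_le (card_lt_card_of_lt hlt1) (Subgroup.card_le_of_le hle2)
        have hc2 : Nat.card ((S : Subgroup G) ⊓ Subgroup.normalizer ((T1 : Subgroup G) : Set G) : Subgroup G) ≤
            Nat.card (S : Subgroup G) := Subgroup.card_le_of_le inf_le_left
        exact ih (Nat.card (S : Subgroup G) -
            Nat.card ((S : Subgroup G) ⊓ Subgroup.normalizer ((T1 : Subgroup G) : Set G) : Subgroup G))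
          (by omega) T1 hT1wp hAT1 ⟨x, hx1, hAx.trans hT1le, hAxne⟩ rfl
  have hAT₀' : A ≤ T₀ := fun a ha => hAT₀ ha
  refine key _ T₀ hT₀𝓕 hAT₀' ⟨x₀⁻¹, Subgroup.inv_mem _ hx₀T, ?_, ?_⟩ rfl
  · refine le_trans ?_ (le_inf (h𝓕 T₀ hT₀𝓕) Subgroup.le_normalizer)
    rw [map_conj_le_iff]
    intro y hy
    exact (Subgroup.mem_normalizer_iff.mp (Subgroup.inv_mem _ hx₀T) y).mp (hAT₀' hy)
  · intro h
    apply hmove
    rw [rconj_image_eq, h]

end Cfsg.Agent.S1968
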