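import Cfsg.Statements.S1971
import Cfsg.Agent.Lib.Helper13.Sections
import Cfsg.Agent.Lib.Helper13.CharFunctor
import Cfsg.Agent.Lib.Helper13.IndexP
import Cfsg.Agent.S1962
import Cfsg.Agent.Lib.Helper13.PGroup

set_option autoImplicit false
universe u
open Cfsg

namespace Cfsg.Agent.S1971

open Cfsg.Agent.Lib.Helper13
open scoped commutatorElement

/-- the predicate imposed on all sections -/
def Φ (p : ℕ) (W : ∀ (Q : Type u) [Group Q], Subgroup Q) (X : Type u) [Group X] : Prop :=
  Finite X → ControlsTransferIn p (inducedFunctor (G := X) W) ⊤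

theorem isoInv_Φ {p : ℕ} {W : ∀ (Q : Type u) [Group Q], Subgroup Q} (hW : IsCharPFunctor.{u} p W) :
    IsoInv (Φ p W) := by
  intro X Y _ _ e h hfin
  have : Finite X := Finite.of_equiv Y e.symm.toEquiv
  exact controlsTransferIn_top_of_equiv hW e (h this)

section
variable {G : Type*} [Group G] [Finite G] {p : ℕ} [Fact p.Prime]

/-- the case of a normal Sylow subgroup -/
theorem normal_sylow_case (S : Sylow p G) (hSn : (S : Subgroup G).Normal) (hS : (S : Subgroup G) ≠ ⊥)
    (hN : ∀ g : G, (orderOf g).Coprime p → g ∈ Subgroup.centralizer ((S : Subgroup G) : Set G)) :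
    (S : Subgroup G) ⊓ commutator G ≠ (S : Subgroup G) := by
  have hp : p.Prime := Fact.out
  -- a complement
  have hcop : Nat.Coprime (Nat.card (S : Subgroup G)) (S : Subgroup G).index := by
    obtain ⟨k, hk⟩ := S.isPGroup'.exists_card_eq
    rw [hk]
    exact Nat.Coprime.pow_left _ ((Nat.Prime.coprime_iff_not_dvd hp).mpr S.not_dvd_index)
  obtain ⟨H, hH⟩ := Subgroup.exists_left_complement'_of_coprime hcop
  have hHcard : Nat.card H = (S : Subgroup G).index := hH.index_eq_card.symm
  have hHC : H ≤ Subgroup.centralizer ((S : Subgroup G) : Set G) := by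
    intro h hh
    apply hN
    have h1 : orderOf h ∣ Nat.card H := by
      have := orderOf_dvd_natCard (⟨h, hh⟩ : ↥H)
      rwa [Subgroup.orderOf_mk] at this
    rw [hHcard] at h1
    exact Nat.Coprime.coprime_dvd_left h1 ((Nat.Prime.coprime_iff_not_dvd hp).mpr S.not_dvd_index).symm
  -- the focal subgroup lies in the derived subgroup of `S`
  have hfoc : (S : Subgroup G).focalSubgroup ≤ ⁅(S : Subgroup G), (S : Subgroup G)⁆ := by
    rw [Subgroup.focalSubgroup_def, Subgroup.closure_le]
    rintro g ⟨-, x, hx, u, rfl⟩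
    obtain ⟨⟨⟨h, hh⟩, ⟨s, hs⟩⟩, hhs⟩ := hH.existsUnique u
    have hu : u = h * s := hhs.1.symm
    have hhx : x * h = h * x := Subgroup.mem_centralizer_iff.mp (hHC hh) x hx
    have e1 : ⁅x, u⁆ = h * ⁅x, s⁆ * h⁻¹ := by
      rw [commutatorElement_def, commutatorElement_def, hu]
      calc x * (h * s) * x⁻¹ * (h * s)⁻¹ = (x * h) * s * x⁻¹ * s⁻¹ * h⁻¹ := by group
        _ = (h * x) * s * x⁻¹ * s⁻¹ * h⁻¹ := by rw [hhx]
        _ = h * (x * s * x⁻¹ * s⁻¹) * h⁻¹ := by group
    have hxs : ⁅x, s⁆ ∈ (S : Subgroup G) := by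
      rw [commutatorElement_def]
      exact Subgroup.mul_mem _ (Subgroup.mul_mem _ (Subgroup.mul_mem _ hx hs) (Subgroup.inv_mem _ hx))
        (Subgroup.inv_mem _ hs)
    have e2 : h * ⁅x, s⁆ * h⁻¹ = ⁅x, s⁆ := by
      have := Subgroup.mem_centralizer_iff.mp (hHC hh) _ hxs
      rw [← this]; group
    show ⁅x, u⁆ ∈ ⁅(S : Subgroup G), (S : Subgroup G)⁆
    rw [e1, e2]
    exact Subgroup.commutator_mem_commutator hx hs
  -- the derived subgroup of `S` is proper
  have hder : ⁅(S : Subgroup G), (S : Subgroup G)⁆ ≠ (S : Subgroup G) := by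
    intro h
    have : Nontrivial ↥(S : Subgroup G) := (Subgroup.nontrivial_iff_ne_bot _).mpr hS
    have : Group.IsNilpotent ↥(S : Subgroup G) := S.isPGroup'.isNilpotent
    have h1 : commutator ↥(S : Subgroup G) < ⊤ := Group.IsSolvable.commutator_lt_top_of_nontrivial _
    apply h1.ne
    apply Subgroup.map_injective (S : Subgroup G).subtype_injective
    rw [commutator_def, Subgroup.map_commutator, ← MonoidHom.range_eq_map, Subgroup.range_subtype, h]
  intro h
  apply hder
  apply le_antisymm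
  · rw [Subgroup.commutator_le]
    intro a ha b hb
    rw [commutatorElement_def]
    exact Subgroup.mul_mem _ (Subgroup.mul_mem _ (Subgroup.mul_mem _ ha hb) (Subgroup.inv_mem _ ha))
      (Subgroup.inv_mem _ hb)
  · have h2 : (S : Subgroup G) ⊓ commutator G = (S : Subgroup G).focalSubgroup := by
      rw [inf_comm]; exact Subgroup.commutator_inf_eq_focalSubgroup S
    rw [h2] at h
    calc (S : Subgroup G) = (S : Subgroup G).focalSubgroup := h.symm
      _ ≤ ⁅(S : Subgroup G), (S : Subgroup G)⁆ := hfoc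

/-- a normal subgroup of index `p` of a subgroup containing `S` -/
theorem ne_of_index_p (S : Sylow p G) (N₁ : Subgroup G) (hSN : (S : Subgroup G) ≤ N₁)
    (N' : Subgroup ↥N₁) (hN'n : N'.Normal) (hN'i : N'.index = p) :
    (S : Subgroup G) ⊓ ⁅N₁, N₁⁆ ≠ (S : Subgroup G) := by
  have hp : p.Prime := Fact.out
  intro h
  have hle : (S : Subgroup G) ≤ ⁅N₁, N₁⁆ := inf_eq_left.mp h
  -- the derived subgroup of `N₁` lies in `N'`
  have hcard : Nat.card (↥N₁ ⧸ N') = p := hN'i
  have : Fact (Nat.card (↥N₁ ⧸ N')).Prime := ⟨hcard.symm ▸ hp⟩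
  have hcyc : IsCyclic (↥N₁ ⧸ N') := isCyclic_of_prime_card (p := p) hcard
  have hcomm : commutator ↥N₁ ≤ N' := by
    rw [← Subgroup.Normal.quotient_commutative_iff_commutator_le]
    exact ⟨⟨fun a b => by
      obtain ⟨g, hg⟩ := hcyc.exists_generator
      obtain ⟨i, rfl⟩ := Subgroup.mem_zpowers_iff.mp (hg a)
      obtain ⟨j, rfl⟩ := Subgroup.mem_zpowers_iff.mp (hg b)
      rw [← zpow_add, ← zpow_add, add_comm]⟩⟩
  have hmap : (commutator ↥N₁).map N₁.subtype = ⁅N₁, N₁⁆ := by
    rw [commutator_def, Subgroup.map_commutator, ← MonoidHom.range_eq_map, Subgroup.range_subtype]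
  have hS1 : (S : Subgroup G).subgroupOf N₁ ≤ N' := by
    intro x hx
    have hx' : (x : G) ∈ ⁅N₁, N₁⁆ := hle (Subgroup.mem_subgroupOf.mp hx)
    rw [← hmap] at hx'
    obtain ⟨y, hy, hyx⟩ := hx'
    have : y = x := Subtype.ext hyx
    rw [← this]
    exact hcomm hy
  have hidx : N'.index ∣ ((S : Subgroup G).subgroupOf N₁).index := Subgroup.index_dvd_of_le hS1
  rw [hN'i] at hidx
  have h3 : ((S : Subgroup G).subgroupOf N₁).index = (S : Subgroup G).relIndex N₁ := rfl
  rw [h3] at hidx
  have h4 : (S : Subgroup G).relIndex N₁ ∣ (S : Subgroup G).index := Subgroup.relIndex_dvd_index_of_le hSN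
  exact S.not_dvd_index (dvd_trans hidx h4)

/-- the automizer condition passes to quotients by normal subgroups contained in `S` -/
theorem quotient_hN (S : Sylow p G) (V : Subgroup G) [V.Normal] (hVS : V ≤ (S : Subgroup G))
    (hN : ∀ g ∈ Subgroup.normalizer (((S : Subgroup G) : Subgroup G) : Set G), (orderOf g).Coprime p →
      g ∈ Subgroup.centralizer ((S : Subgroup G) : Set G)) :
    ∀ g ∈ Subgroup.normalizer (((S : Subgroup G).map (QuotientGroup.mk' V) : Subgroup (G ⧸ V)) : Set (G ⧸ V)),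
      (orderOf g).Coprime p →
      g ∈ Subgroup.centralizer (((S : Subgroup G).map (QuotientGroup.mk' V) : Subgroup (G ⧸ V)) : Set (G ⧸ V)) := by
  have hp : p.Prime := Fact.out
  have key1 : ∀ y : G, (QuotientGroup.mk' V y) ∈ Subgroup.normalizer
      (((S : Subgroup G).map (QuotientGroup.mk' V) : Subgroup (G ⧸ V)) : Set (G ⧸ V)) →
      ∀ s ∈ (S : Subgroup G), y * s * y⁻¹ ∈ (S : Subgroup G) := by
    intro y hy s hs
    have h1 : QuotientGroup.mk' V y * QuotientGroup.mk' V s * (QuotientGroup.mk' V y)⁻¹ ∈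
        (S : Subgroup G).map (QuotientGroup.mk' V) :=
      (Subgroup.mem_normalizer_iff.mp hy _).mp (Subgroup.mem_map_of_mem _ hs)
    obtain ⟨s', hs', hs'eq⟩ := h1
    have h2 : s'⁻¹ * (y * s * y⁻¹) ∈ V := by
      rw [← QuotientGroup.eq_one_iff]
      have : ((s'⁻¹ * (y * s * y⁻¹) : G) : G ⧸ V) = (QuotientGroup.mk' V s')⁻¹ *
          (QuotientGroup.mk' V y * QuotientGroup.mk' V s * (QuotientGroup.mk' V y)⁻¹) := by
        simp [QuotientGroup.mk'_apply]
      rw [this, ← hs'eq]; group
    have : y * s * y⁻¹ = s' * (s'⁻¹ * (y * s * y⁻¹)) := by group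
    rw [this]
    exact Subgroup.mul_mem _ hs' (hVS h2)
  have key2 : ∀ y : G, (QuotientGroup.mk' V y) ∈ Subgroup.normalizer
      (((S : Subgroup G).map (QuotientGroup.mk' V) : Subgroup (G ⧸ V)) : Set (G ⧸ V)) →
      y ∈ Subgroup.normalizer (((S : Subgroup G) : Subgroup G) : Set G) := by
    intro y hy
    rw [Subgroup.mem_normalizer_iff]
    intro h
    constructor
    · exact key1 y hy h
    · intro hh
      have hy' : (QuotientGroup.mk' V y⁻¹) ∈ Subgroup.normalizer
          (((S : Subgroup G).map (QuotientGroup.mk' V) : Subgroup (G ⧸ V)) : Set (G ⧸ V)) := by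
        rw [map_inv]; exact Subgroup.inv_mem _ hy
      have := key1 y⁻¹ hy' _ hh
      have e : y⁻¹ * (y * h * y⁻¹) * y⁻¹⁻¹ = h := by group
      rwa [e] at this
  intro gbar hgN hgcop
  obtain ⟨g, rfl⟩ := QuotientGroup.mk'_surjective V gbar
  have hn0 : orderOf g ≠ 0 := (orderOf_pos g).ne'
  obtain ⟨a, m, hm, hnam⟩ := Nat.exists_eq_pow_mul_and_not_dvd hn0 p hp.ne_one
  have hcop1 : (p ^ a).Coprime (orderOf (QuotientGroup.mk' V g)) := Nat.Coprime.pow_left _ hgcop.symm
  obtain ⟨t, ht⟩ := exists_pow_eq_self_of_coprime hcop1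
  set g'' : G := (g ^ (p ^ a)) ^ t with hg''
  have hmk : QuotientGroup.mk' V g'' = QuotientGroup.mk' V g := by
    rw [hg'', map_pow, map_pow]; exact ht
  have hord1 : orderOf (g ^ (p ^ a)) = m := by
    rw [orderOf_pow_of_dvd (pow_pos hp.pos a).ne' (Dvd.intro _ hnam.symm), hnam,
      Nat.mul_div_cancel_left _ (pow_pos hp.pos a)]
  have hord2 : orderOf g'' ∣ m := by
    rw [← hord1]; exact orderOf_pow_dvd t
  have hcop2 : (orderOf g'').Coprime p :=
    Nat.Coprime.coprime_dvd_left hord2 ((Nat.Prime.coprime_iff_not_dvd hp).mpr hm).symm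
  have hg''N : g'' ∈ Subgroup.normalizer (((S : Subgroup G) : Subgroup G) : Set G) := by
    apply key2; rw [hmk]; exact hgN
  have hg''C := hN g'' hg''N hcop2
  rw [← hmk, Subgroup.mem_centralizer_iff]
  rintro _ ⟨s, hs, rfl⟩
  have := Subgroup.mem_centralizer_iff.mp hg''C s hs
  rw [← map_mul, ← map_mul, this]

end

/-- the main induction -/
theorem main {p : ℕ} [Fact p.Prime] {W : ∀ (Q : Type u) [Group Q], Subgroup Q} (hW : IsCharPFunctor.{u} p W) :
    ∀ n : ℕ, ∀ (G : Type u) [Group G] [Finite G], Nat.card G = n → SecAll (Φ p W) G →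
      ∀ S : Sylow p G, (S : Subgroup G) ≠ ⊥ →
      (∀ g ∈ Subgroup.normalizer (((S : Subgroup G) : Subgroup G) : Set G), (orderOf g).Coprime p →
        g ∈ Subgroup.centralizer ((S : Subgroup G) : Set G)) →
      ∃ N : Subgroup G, N.Normal ∧ N.index = p := by
  intro n
  induction n using Nat.strong_induction_on with
  | _ n ih =>
  intro G _ _ hn hsec S hS hN
  have hp : p.Prime := Fact.out
  have hΦG : ControlsTransferIn p (inducedFunctor (G := G) W) ⊤ :=
    secAll_self (isoInv_Φ hW) hsec inferInstance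
  have hWc := isConjugacyFunctor_inducedFunctor hW G
  have hSi : ¬ p ∣ (S : Subgroup G).relIndex ⊤ := by
    rw [Subgroup.relIndex_top_right]; exact S.not_dvd_index
  have heq := Cfsg.Agent.S1962.transfer_any_sylow (inducedFunctor (G := G) W) hWc ⊤ hΦG (S : Subgroup G)
    le_top S.isPGroup' hSi
  rw [top_inf_eq, ← commutator_def] at heq
  set V : Subgroup G := inducedFunctor (G := G) W (S : Subgroup G) with hV
  set N₁ : Subgroup G := Subgroup.normalizer (V : Set G) with hN₁
  have hVS : V ≤ (S : Subgroup G) := inducedFunctor_le _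
  have hVne : V ≠ ⊥ := inducedFunctor_ne_bot hW _ S.isPGroup' hS
  have hSN₁ : (S : Subgroup G) ≤ N₁ :=
    Subgroup.le_normalizer.trans
      (Cfsg.Agent.S1961.normalizer_le_normalizer_functor (inducedFunctor (G := G) W) hWc _ S.isPGroup')
  by_cases hN₁top : N₁ = ⊤
  · -- `V` is normal in `G`
    have hVn : V.Normal := Subgroup.normalizer_eq_top_iff.mp hN₁top
    by_cases hVeq : V = (S : Subgroup G)
    · -- `S` is normal
      have hSn : (S : Subgroup G).Normal := hVeq ▸ hVn
      have hNS : Subgroup.normalizer (((S : Subgroup G) : Subgroup G) : Set G) = ⊤ :=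
        Subgroup.normalizer_eq_top_iff.mpr hSn
      apply exists_normal_index_p_of_inf_commutator_ne S
      exact normal_sylow_case S hSn hS (fun g hg => hN g (hNS ▸ Subgroup.mem_top g) hg)
    · -- pass to `G / V`
      have hcard : Nat.card (G ⧸ V) < n := by
        rw [← hn, ← Subgroup.index_eq_card, ← Subgroup.card_mul_index V]
        have h1 : 1 < Nat.card V := by
          rw [Finite.one_lt_card_iff_nontrivial]
          exact (Subgroup.nontrivial_iff_ne_bot V).mpr hVne
        have h2 : 0 < V.index := Nat.pos_of_ne_zero Subgroup.index_ne_zero_of_finite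
        nlinarith
      set Sbar : Sylow p (G ⧸ V) := S.mapSurjective (QuotientGroup.mk'_surjective V) with hSbar
      have hSbar_coe : (Sbar : Subgroup (G ⧸ V)) = (S : Subgroup G).map (QuotientGroup.mk' V) :=
        Sylow.coe_mapSurjective _ S
      have hSbar_ne : (Sbar : Subgroup (G ⧸ V)) ≠ ⊥ := by
        rw [hSbar_coe]
        intro h
        apply hVeq
        apply le_antisymm hVS
        intro s hs
        have : QuotientGroup.mk' V s ∈ (S : Subgroup G).map (QuotientGroup.mk' V) :=
          Subgroup.mem_map_of_mem _ hs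
        rw [h, Subgroup.mem_bot] at this
        exact (QuotientGroup.eq_one_iff s).mp this
      have hNbar := quotient_hN S V hVS hN
      rw [← hSbar_coe] at hNbar
      obtain ⟨Nbar, hNbar_n, hNbar_i⟩ := ih _ hcard (G ⧸ V) rfl
        (secAll_quotient (isoInv_Φ hW) hsec V) Sbar hSbar_ne hNbar
      refine ⟨Nbar.comap (QuotientGroup.mk' V), hNbar_n.comap _, ?_⟩
      rw [Subgroup.index_comap_of_surjective Nbar (QuotientGroup.mk'_surjective V)]
      exact hNbar_i
  · -- `N₁` is a proper subgroup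
    have hcard : Nat.card ↥N₁ < n := by
      rw [← hn, ← Subgroup.card_top (G := G)]
      exact card_lt_card_of_lt (lt_top_iff_ne_top.mpr hN₁top)
    set S₁ : Sylow p ↥N₁ := S.subtype hSN₁ with hS₁
    have hS₁coe : (S₁ : Subgroup ↥N₁) = (S : Subgroup G).subgroupOf N₁ := Sylow.coe_subtype _ _
    have hS₁ne : (S₁ : Subgroup ↥N₁) ≠ ⊥ := by
      rw [hS₁coe]
      intro h
      apply hS
      rw [eq_bot_iff]
      intro s hs
      have : (⟨s, hSN₁ hs⟩ : ↥N₁) ∈ (S : Subgroup G).subgroupOf N₁ := Subgroup.mem_subgroupOf.mpr hs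
      rw [h, Subgroup.mem_bot] at this
      exact Subgroup.mem_bot.mpr (congrArg Subtype.val this)
    have hN' : ∀ g ∈ Subgroup.normalizer (((S₁ : Subgroup ↥N₁) : Subgroup ↥N₁) : Set ↥N₁), (orderOf g).Coprime p →
        g ∈ Subgroup.centralizer ((S₁ : Subgroup ↥N₁) : Set ↥N₁) := by
      intro g hg hgcop
      rw [hS₁coe] at hg ⊢
      have hgN : (g : G) ∈ Subgroup.normalizer (((S : Subgroup G) : Subgroup G) : Set G) := by
        rw [Subgroup.mem_normalizer_iff]
        intro h
        constructor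
        · intro hh
          have h1 := (Subgroup.mem_normalizer_iff.mp hg ⟨h, hSN₁ hh⟩).mp (Subgroup.mem_subgroupOf.mpr hh)
          exact Subgroup.mem_subgroupOf.mp h1
        · intro hh
          have hhN : h ∈ N₁ := by
            have : h = (g : G)⁻¹ * ((g : G) * h * (g : G)⁻¹) * (g : G) := by group
            rw [this]
            exact N₁.mul_mem (N₁.mul_mem (N₁.inv_mem g.2) (hSN₁ hh)) g.2
          have h1 := (Subgroup.mem_normalizer_iff.mp hg ⟨h, hhN⟩).mpr (Subgroup.mem_subgroupOf.mpr hh)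
          exact Subgroup.mem_subgroupOf.mp h1
      have hgcop' : (orderOf (g : G)).Coprime p := by rw [Subgroup.orderOf_coe]; exact hgcop
      have hgC := hN _ hgN hgcop'
      rw [Subgroup.mem_centralizer_iff]
      intro x hx
      apply Subtype.ext
      exact Subgroup.mem_centralizer_iff.mp hgC _ (Subgroup.mem_subgroupOf.mp hx)
    obtain ⟨N', hN'n, hN'i⟩ := ih _ hcard ↥N₁ rfl (secAll_subgroup (isoInv_Φ hW) hsec N₁) S₁ hS₁ne hN'
    apply exists_normal_index_p_of_inf_commutator_ne S
    rw [heq]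
    exact ne_of_index_p S N₁ hSN₁ N' hN'n hN'i

/-- Let p be a prime, G a finite group with nontrivial Sylow p-subgroup S, and W an isomorphism-invariant p-group functor (W assigns to every group Q a subgroup W(Q), nontrivial whenever Q is a nontrivial finite p-group, and every isomorphism from a finite p-group Q onto a group R carries W(Q) onto W(R)) that controls transfer in every section of G. If N_G(S)/C_G(S) is a p-group (every element of N_G(S) of order prime to p centralizes S), then G has a normal subgroup of index p. -/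
theorem result {G : Type u} [Group G] [Finite G] {p : ℕ} [Fact p.Prime] (W : ∀ (Q : Type u) [Group Q], Subgroup Q) (hW : Cfsg.IsCharPFunctor.{u} p W) (hctl : ∀ (K R : Subgroup G) [hR : (R.subgroupOf K).Normal], Cfsg.ControlsTransferIn p (Cfsg.inducedFunctor (G := (↥K ⧸ R.subgroupOf K)) W) ⊤) (S : Sylow p G) (hS : (S : Subgroup G) ≠ ⊥) (hN : ∀ g ∈ Subgroup.normalizer (((S : Subgroup G) : Subgroup G) : Set G), (orderOf g).Coprime p → g ∈ Subgroup.centralizer ((S : Subgroup G) : Set G)) : ∃ N : Subgroup G, N.Normal ∧ N.index = p := by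
  exact main hW _ G rfl (fun K R _ _ => hctl K R) S hS hN

end Cfsg.Agent.S1971
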