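import Cfsg.Statements.S1976
import Cfsg.Agent.S1975

set_option autoImplicit false
open Cfsg

namespace Cfsg.Agent.S1976

theorem kSeqEven_mono {P : Type*} [Group P] : Monotone (Cfsg.kSeqEven P) :=
  monotone_nat_of_le_succ (fun n => Cfsg.Agent.S1975.kSeqEven_le_succ n)

theorem kSeqOdd_anti {P : Type*} [Group P] : Antitone (Cfsg.kSeqOdd P) :=
  antitone_nat_of_succ_le (fun n => Cfsg.Agent.S1975.kSeqOdd_succ_le n)

/-- Let P be a finite p-group. The K-sequence of P is eventually constant on each parity: from some index on, every even-indexed term equals the lower K-infinity subgroup and every odd-indexed term equals the upper K-infinity subgroup. -/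
theorem result {P : Type*} [Group P] [Finite P] {p : ℕ} [Fact p.Prime] (hP : IsPGroup p P) : ∃ n : ℕ, ∀ m : ℕ, n ≤ m → Cfsg.kSeqEven P m = Cfsg.kInfLower P ∧ Cfsg.kSeqOdd P m = Cfsg.kInfUpper P := by
  obtain ⟨n1, hn1⟩ := WellFoundedGT.monotone_chain_condition (α := Subgroup P)
    ⟨Cfsg.kSeqEven P, kSeqEven_mono⟩
  obtain ⟨n2, hn2⟩ := WellFoundedLT.antitone_chain_condition (α := Subgroup P)
    (f := Cfsg.kSeqOdd P) kSeqOdd_anti
  refine ⟨max n1 n2, fun m hm => ⟨?_, ?_⟩⟩
  · have hm1 : n1 ≤ m := le_trans (le_max_left _ _) hm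
    have h1 : Cfsg.kSeqEven P m = Cfsg.kSeqEven P n1 := (hn1 m hm1).symm
    rw [h1]
    apply le_antisymm
    · exact le_iSup (Cfsg.kSeqEven P) n1
    · apply iSup_le
      intro k
      rcases le_total k n1 with hk | hk
      · exact kSeqEven_mono hk
      · exact le_of_eq (hn1 k hk).symm
  · have hm2 : n2 ≤ m := le_trans (le_max_right _ _) hm
    have h2 : Cfsg.kSeqOdd P m = Cfsg.kSeqOdd P n2 := (hn2 m hm2).symm
    rw [h2]
    apply le_antisymm
    · apply le_iInf
      intro k
      rcases le_total k n2 with hk | hk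
      · exact kSeqOdd_anti hk
      · exact le_of_eq (hn2 k hk)
    · exact iInf_le (Cfsg.kSeqOdd P) n2

end Cfsg.Agent.S1976
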