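import Cfsg.Statements.S1977
import Cfsg.Agent.S1921

set_option autoImplicit false
open Cfsg

namespace Cfsg.Agent.S1977

open scoped commutatorElement

/-- In a finite `p`-group: if `Q` normalizes `C` and `C ≰ M`, some `x ∈ C \ M` has `[x, Q] ⊆ M`. -/
theorem exists_fixed_mod {P : Type*} [Group P] [Finite P] {p : ℕ} [Fact p.Prime] (hP : IsPGroup p P)
    (Q C M : Subgroup P) (hQC : Q ≤ Subgroup.normalizer (C : Set P)) (hCM : ¬ C ≤ M) :
    ∃ x ∈ C, x ∉ M ∧ ∀ q ∈ Q, ⁅x, q⁆ ∈ M := by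
  set X : Subgroup P := Q ⊔ C with hX
  have hXnil : Group.IsNilpotent X := (hP.to_subgroup X).isNilpotent
  have hXC : X ≤ Subgroup.normalizer (C : Set P) := sup_le hQC Subgroup.le_normalizer
  let D : ℕ → Subgroup P := fun i => Nat.rec C (fun _ D => ⁅D, X⁆) i
  have hD0 : D 0 = C := rfl
  have hDs : ∀ i, D (i + 1) = ⁅D i, X⁆ := fun i => rfl
  have hDX : ∀ i, D i ≤ X.lowerCentralSeries i := by
    intro i
    induction i with
    | zero => rw [hD0, Subgroup.lowerCentralSeries_zero]; exact le_sup_right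
    | succ i ih =>
      rw [hDs, Subgroup.lowerCentralSeries_succ]
      exact Subgroup.commutator_mono ih le_rfl
  obtain ⟨n, hn⟩ := (Subgroup.isNilpotent_iff_lowerCentralSeries X).mp hXnil
  have hex : ∃ i, D i ≤ M := ⟨n, by
    have := hDX n
    rw [hn] at this
    exact this.trans bot_le⟩
  classical
  set i₀ := @Nat.find (fun i => D i ≤ M) (Classical.decPred _) hex with hi₀
  have hi₀M : D i₀ ≤ M := @Nat.find_spec (fun i => D i ≤ M) (Classical.decPred _) hex
  have hi₀pos : i₀ ≠ 0 := by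
    intro h0
    rw [h0, hD0] at hi₀M
    exact hCM hi₀M
  obtain ⟨j, hj⟩ := Nat.exists_eq_succ_of_ne_zero hi₀pos
  have hjM : ¬ D j ≤ M := @Nat.find_min (fun i => D i ≤ M) (Classical.decPred _) hex j
    (by rw [← hi₀, hj]; exact Nat.lt_succ_self j)
  have hDC : ∀ i, D i ≤ C := by
    intro i
    induction i with
    | zero => exact le_of_eq hD0
    | succ i ih =>
      rw [hDs]
      exact (Subgroup.commutator_mono ih le_rfl).trans
        (Subgroup.le_normalizer_iff_commutator_le_left.mp hXC)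
  obtain ⟨x, hxD, hxM⟩ := SetLike.not_le_iff_exists.mp hjM
  refine ⟨x, hDC j hxD, hxM, ?_⟩
  intro q hq
  apply hi₀M
  rw [hj, Nat.succ_eq_add_one, hDs]
  exact Subgroup.commutator_mem_commutator hxD (Subgroup.mem_sup_left hq)

theorem comm_mul_formula {P : Type*} [Group P] (b u r : P) (h : b * ⁅u, r⁆ = ⁅u, r⁆ * b) :
    ⁅b * u, r⁆ = ⁅u, r⁆ * ⁅b, r⁆ := by
  have h1 : ⁅b * u, r⁆ = b * ⁅u, r⁆ * (r * b⁻¹ * r⁻¹) := by
    simp only [commutatorElement_def]; group
  rw [h1, h]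
  simp only [commutatorElement_def]; group

theorem comm_central_left {P : Type*} [Group P] (a u g : P) (hu : u * g = g * u) :
    ⁅a * u, g⁆ = ⁅a, g⁆ := by
  have h1 : ⁅a * u, g⁆ = a * (u * g) * u⁻¹ * a⁻¹ * g⁻¹ := by
    simp only [commutatorElement_def]; group
  rw [h1, hu]
  simp only [commutatorElement_def]; group

theorem comm_central_right {P : Type*} [Group P] (a g u : P) (hu : u * a = a * u) :
    ⁅a, g * u⁆ = ⁅a, g⁆ := by
  have h1 : ⁅a, g * u⁆ = a * g * (u * a⁻¹) * u⁻¹ * g⁻¹ := by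
    simp only [commutatorElement_def]; group
  have h2 : u * a⁻¹ = a⁻¹ * u := by
    calc u * a⁻¹ = a⁻¹ * (a * u) * a⁻¹ := by group
      _ = a⁻¹ * (u * a) * a⁻¹ := by rw [hu]
      _ = a⁻¹ * u := by group
  rw [h1, h2]
  simp only [commutatorElement_def]; group

section Ext

variable {P : Type*} [Group P] (B : Subgroup P) (x : P)

/-- the centre of `B` as a subgroup of `P` -/
abbrev zOf (B : Subgroup P) : Subgroup P := B ⊓ Subgroup.centralizer (B : Set P)

theorem mem_ext (hx : x ∈ Subgroup.centralizer (B : Set P)) {y : P}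
    (hy : y ∈ B ⊔ Subgroup.zpowers x) : ∃ b ∈ B, ∃ u ∈ Subgroup.zpowers x, y = b * u := by
  apply Cfsg.Agent.S1921.mem_sup_of_commute B (Subgroup.zpowers x) _ hy
  intro b hb u hu
  have : Subgroup.zpowers x ≤ Subgroup.centralizer (B : Set P) := Subgroup.zpowers_le.mpr hx
  exact (Subgroup.mem_centralizer_iff.mp (this hu) b hb)

theorem zpowers_commute (hx : x ∈ Subgroup.centralizer (B : Set P)) {u : P}
    (hu : u ∈ Subgroup.zpowers x) {b : P} (hb : b ∈ B) : u * b = b * u := by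
  have : Subgroup.zpowers x ≤ Subgroup.centralizer (B : Set P) := Subgroup.zpowers_le.mpr hx
  exact (Subgroup.mem_centralizer_iff.mp (this hu) b hb).symm

theorem zpowers_commute_self {u v : P} (hu : u ∈ Subgroup.zpowers x) (hv : v ∈ Subgroup.zpowers x) :
    u * v = v * u := by
  obtain ⟨i, rfl⟩ := Subgroup.mem_zpowers_iff.mp hu
  obtain ⟨j, rfl⟩ := Subgroup.mem_zpowers_iff.mp hv
  rw [← zpow_add, ← zpow_add, add_comm]

/-- `Z(B) ≤ Z(B⟨x⟩)` -/
theorem zOf_le_ext (hx : x ∈ Subgroup.centralizer (B : Set P)) :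
    zOf B ≤ zOf (B ⊔ Subgroup.zpowers x) := by
  intro z hz
  obtain ⟨hzB, hzC⟩ := Subgroup.mem_inf.mp hz
  refine Subgroup.mem_inf.mpr ⟨Subgroup.mem_sup_left hzB, ?_⟩
  rw [Subgroup.mem_centralizer_iff]
  intro y hy
  obtain ⟨b, hb, u, hu, rfl⟩ := mem_ext B x hx hy
  have h1 : b * z = z * b := Subgroup.mem_centralizer_iff.mp hzC b hb
  have h2 : u * z = z * u := zpowers_commute B x hx hu hzB
  calc b * u * z = b * (u * z) := by group
    _ = b * (z * u) := by rw [h2]
    _ = (b * z) * u := by group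
    _ = (z * b) * u := by rw [h1]
    _ = z * (b * u) := by group

theorem classTwo_ext (hx : x ∈ Subgroup.centralizer (B : Set P)) (hB : B ∈ Cfsg.classTwoSubgroups P) :
    B ⊔ Subgroup.zpowers x ∈ Cfsg.classTwoSubgroups P := by
  show ⁅B ⊔ Subgroup.zpowers x, B ⊔ Subgroup.zpowers x⁆ ≤ Subgroup.centralizer ((B ⊔ Subgroup.zpowers x : Subgroup P) : Set P)
  have hB' : ⁅B, B⁆ ≤ Subgroup.centralizer (B : Set P) := hB
  have hBB : ⁅B, B⁆ ≤ B :=
    Subgroup.le_normalizer_iff_commutator_le_left.mp (Subgroup.le_normalizer (H := B))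
  rw [Subgroup.commutator_le]
  intro g₁ hg₁ g₂ hg₂
  obtain ⟨b, hb, u, hu, rfl⟩ := mem_ext B x hx hg₁
  obtain ⟨b', hb', u', hu', rfl⟩ := mem_ext B x hx hg₂
  have e1 : ⁅b * u, b' * u'⁆ = ⁅b, b' * u'⁆ := by
    apply comm_central_left
    calc u * (b' * u') = (u * b') * u' := by group
      _ = (b' * u) * u' := by rw [zpowers_commute B x hx hu hb']
      _ = b' * (u * u') := by group
      _ = b' * (u' * u) := by rw [zpowers_commute_self x hu hu']
      _ = b' * u' * u := by group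
  have e2 : ⁅b, b' * u'⁆ = ⁅b, b'⁆ := comm_central_right b b' u' (zpowers_commute B x hx hu' hb)
  rw [e1, e2]
  have hc : ⁅b, b'⁆ ∈ ⁅B, B⁆ := Subgroup.commutator_mem_commutator hb hb'
  have hz : ⁅b, b'⁆ ∈ zOf B := Subgroup.mem_inf.mpr ⟨hBB hc, hB' hc⟩
  exact (Subgroup.mem_inf.mp (zOf_le_ext B x hx hz)).2

end Ext

/-- the key extension step, uniform in the relative subgroup `Q` -/
theorem ext_props {P : Type*} [Group P] [Finite P] {p : ℕ} [Fact p.Prime] (hP : IsPGroup p P)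
    (B Q : Subgroup P) (hQB : Q ≤ Subgroup.normalizer (B : Set P))
    (hnot : ¬ Subgroup.centralizer (B : Set P) ≤ B) :
    ∃ x : P, x ∈ Subgroup.centralizer (B : Set P) ∧ x ∉ B ∧
      ∀ u ∈ Subgroup.zpowers x, ∀ q ∈ Q, ⁅u, q⁆ ∈ zOf B := by
  set C : Subgroup P := Subgroup.centralizer (B : Set P) with hC
  -- `Q` normalizes `C`
  have hconjC : ∀ q ∈ Q, ∀ c ∈ C, q * c * q⁻¹ ∈ C := by
    intro q hq c hc
    show q * c * q⁻¹ ∈ Subgroup.centralizer (B : Set P)
    rw [Subgroup.mem_centralizer_iff]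
    intro b hb
    have hb' : q⁻¹ * b * q ∈ B := by
      have := (Subgroup.mem_normalizer_iff.mp (Subgroup.inv_mem _ (hQB hq)) b).mp hb
      simpa using this
    have h1 := Subgroup.mem_centralizer_iff.mp hc _ hb'
    calc b * (q * c * q⁻¹) = q * ((q⁻¹ * b * q) * c) * q⁻¹ := by group
      _ = q * (c * (q⁻¹ * b * q)) * q⁻¹ := by rw [h1]
      _ = q * c * q⁻¹ * b := by group
  have hQC : Q ≤ Subgroup.normalizer (C : Set P) := by
    intro q hq
    rw [Subgroup.mem_normalizer_iff]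
    intro c
    constructor
    · exact hconjC q hq c
    · intro h
      have := hconjC q⁻¹ (Q.inv_mem hq) _ h
      have e : q⁻¹ * (q * c * q⁻¹) * q⁻¹⁻¹ = c := by group
      rwa [e] at this
  obtain ⟨x, hxC, hxB, hxQ⟩ := exists_fixed_mod hP Q C B hQC hnot
  -- the subgroup `Y` of elements of `C` with `[y, Q] ⊆ Z(B)`
  have hcomm_mem : ∀ y ∈ C, ∀ q ∈ Q, ⁅y, q⁆ ∈ C := by
    intro y hy q hq
    have : ⁅y, q⁆ = y * (q * y⁻¹ * q⁻¹) := by simp only [commutatorElement_def]; group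
    rw [this]
    exact C.mul_mem hy (hconjC q hq _ (C.inv_mem hy))
  let Y : Subgroup P :=
    { carrier := {y | y ∈ C ∧ ∀ q ∈ Q, ⁅y, q⁆ ∈ zOf B}
      one_mem' := ⟨C.one_mem, fun q _ => by simp [commutatorElement_def]⟩
      mul_mem' := by
        rintro y y' ⟨hy, hyq⟩ ⟨hy', hyq'⟩
        refine ⟨C.mul_mem hy hy', fun q hq => ?_⟩
        have hz' := hyq' q hq
        have hcomm : y * ⁅y', q⁆ = ⁅y', q⁆ * y :=
          (Subgroup.mem_centralizer_iff.mp hy _ (Subgroup.mem_inf.mp hz').1).symm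
        rw [comm_mul_formula y y' q hcomm]
        exact Subgroup.mul_mem _ hz' (hyq q hq)
      inv_mem' := by
        rintro y ⟨hy, hyq⟩
        refine ⟨C.inv_mem hy, fun q hq => ?_⟩
        have hz := hyq q hq
        have hcomm : y⁻¹ * ⁅y, q⁆ = ⁅y, q⁆ * y⁻¹ :=
          (Subgroup.mem_centralizer_iff.mp (C.inv_mem hy) _ (Subgroup.mem_inf.mp hz).1).symm
        have e : ⁅y⁻¹, q⁆ = y⁻¹ * ⁅y, q⁆⁻¹ * y := by simp only [commutatorElement_def]; group
        have e2 : y⁻¹ * ⁅y, q⁆⁻¹ * y = ⁅y, q⁆⁻¹ := by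
          have h3 : y⁻¹ * ⁅y, q⁆⁻¹ = ⁅y, q⁆⁻¹ * y⁻¹ := by
            calc y⁻¹ * ⁅y, q⁆⁻¹ = ⁅y, q⁆⁻¹ * (⁅y, q⁆ * y⁻¹) * ⁅y, q⁆⁻¹ := by group
              _ = ⁅y, q⁆⁻¹ * (y⁻¹ * ⁅y, q⁆) * ⁅y, q⁆⁻¹ := by rw [hcomm]
              _ = ⁅y, q⁆⁻¹ * y⁻¹ := by group
          rw [h3]; group
        rw [e, e2]
        exact Subgroup.inv_mem _ hz }
  have hxY : x ∈ Y := ⟨hxC, fun q hq => Subgroup.mem_inf.mpr ⟨hxQ q hq, hcomm_mem x hxC q hq⟩⟩
  refine ⟨x, hxC, hxB, ?_⟩
  intro u hu q hq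
  exact ((Subgroup.zpowers_le.mpr hxY) hu).2 q hq

/-- Let P be a finite p-group. A member B that is maximal under inclusion in any one of the families used to build the K-sequence of P — the class-two family, the lower-star family relative to an odd-indexed term, or the upper-star family relative to an even-indexed term — contains its centralizer: C_P(B) ≤ B. -/
theorem result {P : Type*} [Group P] [Finite P] {p : ℕ} [Fact p.Prime] (hP : IsPGroup p P) (B : Subgroup P) (𝒦 : Set (Subgroup P)) (h𝒦 : 𝒦 = Cfsg.classTwoSubgroups P ∨ (∃ n, 𝒦 = Cfsg.kLowerStarFamily (Cfsg.kSeqOdd P n)) ∨ ∃ n, 𝒦 = Cfsg.kUpperStarFamily (Cfsg.kSeqEven P n)) (hB : B ∈ 𝒦) (hmax : ∀ C ∈ 𝒦, B ≤ C → C = B) : Subgroup.centralizer (B : Set P) ≤ B := by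
  by_contra hnot
  rcases h𝒦 with h𝒦 | ⟨n, h𝒦⟩ | ⟨n, h𝒦⟩
  · -- class two family
    obtain ⟨x, hxC, hxB, -⟩ := ext_props hP B ⊥ bot_le hnot
    have hmem : B ⊔ Subgroup.zpowers x ∈ 𝒦 := by
      rw [h𝒦]; exact classTwo_ext B x hxC (h𝒦 ▸ hB)
    have := hmax _ hmem le_sup_left
    apply hxB
    rw [← this]
    exact Subgroup.mem_sup_right (Subgroup.mem_zpowers x)
  · -- lower star family
    set Q := Cfsg.kSeqOdd P n with hQ
    rw [h𝒦] at hB
    obtain ⟨hB2, hQB, hBA⟩ := hB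
    obtain ⟨x, hxC, hxB, hxQ⟩ := ext_props hP B Q hQB hnot
    have hmem : B ⊔ Subgroup.zpowers x ∈ 𝒦 := by
      rw [h𝒦]
      refine ⟨classTwo_ext B x hxC hB2, ?_, ?_⟩
      · rw [Subgroup.le_normalizer_iff_commutator_le_left, Subgroup.commutator_le]
        intro g hg q hq
        obtain ⟨b, hb, u, hu, rfl⟩ := mem_ext B x hxC hg
        have hz := hxQ u hu q hq
        have hcomm : b * ⁅u, q⁆ = ⁅u, q⁆ * b := Subgroup.mem_centralizer_iff.mp (Subgroup.mem_inf.mp hz).2 b hb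
        rw [comm_mul_formula b u q hcomm]
        apply Subgroup.mem_sup_left
        refine B.mul_mem (Subgroup.mem_inf.mp hz).1 ?_
        exact (Subgroup.le_normalizer_iff_commutator_le_left.mp hQB) (Subgroup.commutator_mem_commutator hb hq)
      · intro A hA hAQ hBA' h1 h2
        have hBN : B ≤ Subgroup.normalizer (A : Set P) := le_sup_left.trans hBA'
        have h1' : ⁅B, ⁅A, A⁆⁆ = ⊥ := by
          rw [eq_bot_iff, ← h1]
          exact Subgroup.commutator_mono le_sup_left le_rfl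
        have h2' : ⁅⁅B ⊓ Subgroup.centralizer (B : Set P), A⁆, A⁆ = ⊥ := by
          rw [eq_bot_iff, ← h2]
          exact Subgroup.commutator_mono (Subgroup.commutator_mono (zOf_le_ext B x hxC) le_rfl) le_rfl
        have h3 := hBA A hA hAQ hBN h1' h2'
        rw [Subgroup.commutator_le]
        intro g hg a ha
        obtain ⟨b, hb, u, hu, rfl⟩ := mem_ext B x hxC hg
        have hz := hxQ u hu a (hAQ ha)
        have hcomm : b * ⁅u, a⁆ = ⁅u, a⁆ * b := Subgroup.mem_centralizer_iff.mp (Subgroup.mem_inf.mp hz).2 b hb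
        rw [comm_mul_formula b u a hcomm]
        apply zOf_le_ext B x hxC
        exact Subgroup.mul_mem _ hz (h3 (Subgroup.commutator_mem_commutator hb ha))
    have := hmax _ hmem le_sup_left
    apply hxB
    rw [← this]
    exact Subgroup.mem_sup_right (Subgroup.mem_zpowers x)
  · -- upper star family
    set Q := Cfsg.kSeqEven P n with hQ
    rw [h𝒦] at hB
    obtain ⟨hB2, hBQ⟩ := hB
    have hQB : Q ≤ Subgroup.normalizer (B : Set P) :=
      Subgroup.le_normalizer_iff_commutator_le_left.mpr (hBQ.trans inf_le_left)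
    obtain ⟨x, hxC, hxB, hxQ⟩ := ext_props hP B Q hQB hnot
    have hmem : B ⊔ Subgroup.zpowers x ∈ 𝒦 := by
      rw [h𝒦]
      refine ⟨classTwo_ext B x hxC hB2, ?_⟩
      rw [Subgroup.commutator_le]
      intro g hg q hq
      obtain ⟨b, hb, u, hu, rfl⟩ := mem_ext B x hxC hg
      have hz := hxQ u hu q hq
      have hcomm : b * ⁅u, q⁆ = ⁅u, q⁆ * b := Subgroup.mem_centralizer_iff.mp (Subgroup.mem_inf.mp hz).2 b hb
      rw [comm_mul_formula b u q hcomm]
      apply zOf_le_ext B x hxC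
      exact Subgroup.mul_mem _ hz (hBQ (Subgroup.commutator_mem_commutator hb hq))
    have := hmax _ hmem le_sup_left
    apply hxB
    rw [← this]
    exact Subgroup.mem_sup_right (Subgroup.mem_zpowers x)

end Cfsg.Agent.S1977
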