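import Cfsg.Statements.S1978
import Cfsg.Agent.S1976
import Cfsg.Agent.S1977

set_option autoImplicit false
open Cfsg

namespace Cfsg.Agent.S1978

/-- a nonempty family in a finite group has a maximal member; the join of the family contains the
centralizer of that member as soon as maximal members are self-centralizing -/
theorem centralizer_sSup_le {P : Type*} [Group P] [Finite P] (𝒦 : Set (Subgroup P)) (hne : 𝒦.Nonempty)
    (hself : ∀ B ∈ 𝒦, (∀ C ∈ 𝒦, B ≤ C → C = B) → Subgroup.centralizer (B : Set P) ≤ B) :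
    Subgroup.centralizer ((sSup 𝒦 : Subgroup P) : Set P) ≤ sSup 𝒦 := by
  have hfin : 𝒦.Finite := Set.toFinite 𝒦
  obtain ⟨B, hB, hBmax⟩ := hfin.exists_maximal hne
  have hmax : ∀ C ∈ 𝒦, B ≤ C → C = B := fun C hC hBC => le_antisymm (hBmax hC hBC) hBC
  have h1 := hself B hB hmax
  have h2 : B ≤ sSup 𝒦 := le_sSup hB
  exact (Subgroup.centralizer_le (SetLike.coe_subset_coe.mpr h2)).trans (h1.trans h2)

theorem bot_mem_lower {P : Type*} [Group P] (Q : Subgroup P) : (⊥ : Subgroup P) ∈ Cfsg.kLowerStarFamily Q := by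
  refine ⟨?_, ?_, ?_⟩
  · show ⁅(⊥ : Subgroup P), (⊥ : Subgroup P)⁆ ≤ Subgroup.centralizer (((⊥ : Subgroup P) : Subgroup P) : Set P)
    rw [Subgroup.commutator_bot_left]; exact bot_le
  · intro q _
    rw [Subgroup.mem_normalizer_iff]
    intro x
    simp only [Subgroup.mem_bot]
    constructor
    · rintro rfl; simp
    · intro h
      have : x = q⁻¹ * (q * x * q⁻¹) * q := by group
      rw [this, h]; simp
  · intro A _ _ _ _ _
    rw [Subgroup.commutator_bot_left]; exact bot_le

theorem bot_mem_upper {P : Type*} [Group P] (Q : Subgroup P) : (⊥ : Subgroup P) ∈ Cfsg.kUpperStarFamily Q := by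
  refine ⟨?_, ?_⟩
  · show ⁅(⊥ : Subgroup P), (⊥ : Subgroup P)⁆ ≤ Subgroup.centralizer (((⊥ : Subgroup P) : Subgroup P) : Set P)
    rw [Subgroup.commutator_bot_left]; exact bot_le
  · rw [Subgroup.commutator_bot_left]; exact bot_le

/-- Let P be a finite p-group. Each of the two K-infinity subgroups of P contains its own centralizer in P, which in turn contains Z(P); in particular both are nontrivial when P is. -/
theorem result {P : Type*} [Group P] [Finite P] {p : ℕ} [Fact p.Prime] (hP : IsPGroup p P) : Subgroup.centralizer (Cfsg.kInfLower P : Set P) ≤ Cfsg.kInfLower P ∧ Subgroup.center P ≤ Subgroup.centralizer (Cfsg.kInfLower P : Set P) ∧ Subgroup.centralizer (Cfsg.kInfUpper P : Set P) ≤ Cfsg.kInfUpper P ∧ Subgroup.center P ≤ Subgroup.centralizer (Cfsg.kInfUpper P : Set P) := by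
  obtain ⟨n, hn⟩ := Cfsg.Agent.S1976.result hP
  have hE : Cfsg.kSeqEven P n = Cfsg.kInfLower P := (hn n le_rfl).1
  have hO : Cfsg.kSeqOdd P (n + 1) = Cfsg.kInfUpper P := (hn (n + 1) (Nat.le_succ n)).2
  refine ⟨?_, Subgroup.center_le_centralizer _, ?_, Subgroup.center_le_centralizer _⟩
  · rw [← hE]
    show Subgroup.centralizer ((sSup (kLowerStarFamily (kSeqOdd P n)) : Subgroup P) : Set P) ≤
      sSup (kLowerStarFamily (kSeqOdd P n))
    apply centralizer_sSup_le _ ⟨⊥, bot_mem_lower _⟩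
    intro B hB hmax
    exact Cfsg.Agent.S1977.result hP B _ (Or.inr (Or.inl ⟨n, rfl⟩)) hB hmax
  · rw [← hO]
    show Subgroup.centralizer ((sSup (kUpperStarFamily (sSup (kLowerStarFamily (kSeqOdd P n)))) : Subgroup P) : Set P) ≤
      sSup (kUpperStarFamily (sSup (kLowerStarFamily (kSeqOdd P n))))
    apply centralizer_sSup_le _ ⟨⊥, bot_mem_upper _⟩
    intro B hB hmax
    exact Cfsg.Agent.S1977.result hP B _ (Or.inr (Or.inr ⟨n, rfl⟩)) hB hmax

end Cfsg.Agent.S1978
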