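import Cfsg.Statements.S1979

set_option autoImplicit false
open Cfsg

namespace Cfsg.Agent.S1979

open Subgroup

section transfer
variable {Q' P : Type*} [Group Q'] [Group P] (f : Q' →* P) (hf : Function.Injective f)

include hf in
theorem le_centralizer_map_iff (H K : Subgroup Q') :
    H.map f ≤ centralizer (K.map f : Set P) ↔ H ≤ centralizer (K : Set Q') := by
  rw [← commutator_eq_bot_iff_le_centralizer, ← commutator_eq_bot_iff_le_centralizer,
    ← map_commutator, map_eq_bot_iff_of_injective _ hf]

include hf in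
theorem le_normalizer_map_iff (H K : Subgroup Q') :
    H.map f ≤ normalizer (K.map f : Set P) ↔ H ≤ normalizer (K : Set Q') := by
  rw [le_normalizer_iff_commutator_le_left, le_normalizer_iff_commutator_le_left,
    ← map_commutator, map_le_map_iff_of_injective hf]

include hf in
theorem map_center' (B : Subgroup Q') :
    (B ⊓ centralizer (B : Set Q')).map f = B.map f ⊓ centralizer (B.map f : Set P) := by
  ext x
  constructor
  · rintro ⟨b, hb, rfl⟩
    refine mem_inf.mpr ⟨mem_map_of_mem f (mem_inf.mp hb).1, ?_⟩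
    rw [mem_centralizer_iff]
    rintro _ ⟨c, hc, rfl⟩
    rw [← map_mul, ← map_mul, (mem_centralizer_iff.mp (mem_inf.mp hb).2) c hc]
  · intro hx
    obtain ⟨⟨b, hb, rfl⟩, hx2⟩ := mem_inf.mp hx
    refine ⟨b, mem_inf.mpr ⟨hb, ?_⟩, rfl⟩
    rw [mem_centralizer_iff]
    intro c hc
    apply hf
    rw [map_mul, map_mul]
    exact mem_centralizer_iff.mp hx2 (f c) (mem_map_of_mem f hc)

include hf in
theorem classTwo_iff (B : Subgroup Q') :
    B ∈ classTwoSubgroups Q' ↔ B.map f ∈ classTwoSubgroups P := by
  unfold classTwoSubgroups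
  simp only [Set.mem_ofPred_eq]
  rw [← map_commutator, le_centralizer_map_iff f hf]

include hf in
theorem upper_iff (B X : Subgroup Q') :
    B ∈ kUpperStarFamily X ↔ B.map f ∈ kUpperStarFamily (X.map f) := by
  unfold kUpperStarFamily
  simp only [Set.mem_ofPred_eq]
  rw [← map_commutator, ← map_center' f hf, map_le_map_iff_of_injective hf, ← classTwo_iff f hf]

include hf in
theorem lower_iff (B X : Subgroup Q') :
    B ∈ kLowerStarFamily X ↔ B.map f ∈ kLowerStarFamily (X.map f) := by
  unfold kLowerStarFamily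
  simp only [Set.mem_ofPred_eq]
  rw [← classTwo_iff f hf, le_normalizer_map_iff f hf]
  refine and_congr Iff.rfl (and_congr Iff.rfl ?_)
  constructor
  · intro h A hA hAX hBA h4 h5
    obtain ⟨A', rfl⟩ : ∃ A' : Subgroup Q', A = A'.map f :=
      ⟨A.comap f, (map_comap_eq_self (hAX.trans (map_le_range f X))).symm⟩
    rw [← classTwo_iff f hf] at hA
    rw [map_le_map_iff_of_injective hf] at hAX
    rw [le_normalizer_map_iff f hf] at hBA
    rw [← map_commutator, ← map_commutator, map_eq_bot_iff_of_injective _ hf] at h4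
    rw [← map_center' f hf, ← map_commutator, ← map_commutator,
      map_eq_bot_iff_of_injective _ hf] at h5
    rw [← map_commutator, ← map_center' f hf, map_le_map_iff_of_injective hf]
    exact h A' hA hAX hBA h4 h5
  · intro h A' hA hAX hBA h4 h5
    have h6 := h (A'.map f) ((classTwo_iff f hf A').mp hA)
      ((map_le_map_iff_of_injective hf).mpr hAX)
      ((le_normalizer_map_iff f hf _ _).mpr hBA)
      (by rw [← map_commutator, ← map_commutator, h4, Subgroup.map_bot])
      (by rw [← map_center' f hf, ← map_commutator, ← map_commutator, h5, Subgroup.map_bot])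
    rwa [← map_commutator, ← map_center' f hf, map_le_map_iff_of_injective hf] at h6

theorem upper_anti {X Y : Subgroup P} (h : X ≤ Y) :
    kUpperStarFamily Y ⊆ kUpperStarFamily X := by
  rintro B ⟨hc, hBY⟩
  exact ⟨hc, (commutator_mono le_rfl h).trans hBY⟩

theorem lower_anti {X Y : Subgroup P} (h : X ≤ Y) :
    kLowerStarFamily Y ⊆ kLowerStarFamily X := by
  rintro B ⟨hc, hN, h3⟩
  exact ⟨hc, h.trans hN, fun A hA hAX => h3 A hA (hAX.trans h)⟩

include hf in
theorem map_sSup_upper_le (X : Subgroup Q') :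
    (sSup (kUpperStarFamily X)).map f ≤ sSup (kUpperStarFamily (X.map f)) := by
  rw [map_le_iff_le_comap, sSup_le_iff]
  intro B hB
  rw [← map_le_iff_le_comap]
  exact le_sSup ((upper_iff f hf B X).mp hB)

include hf in
theorem map_sSup_lower_le (X : Subgroup Q') :
    (sSup (kLowerStarFamily X)).map f ≤ sSup (kLowerStarFamily (X.map f)) := by
  rw [map_le_iff_le_comap, sSup_le_iff]
  intro B hB
  rw [← map_le_iff_le_comap]
  exact le_sSup ((lower_iff f hf B X).mp hB)

include hf in
theorem le_map_sSup_upper (X : Subgroup Q') (Y : Subgroup P) (hXY : X.map f ≤ Y)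
    (hR : ∀ B ∈ kUpperStarFamily Y, B ≤ f.range) :
    sSup (kUpperStarFamily Y) ≤ (sSup (kUpperStarFamily X)).map f := by
  rw [sSup_le_iff]
  intro B hB
  have h1 : B ∈ kUpperStarFamily (X.map f) := upper_anti hXY hB
  have h2 : (B.comap f).map f = B := map_comap_eq_self (hR B hB)
  rw [← h2] at h1 ⊢
  exact Subgroup.map_mono (le_sSup ((upper_iff f hf _ X).mpr h1))

include hf in
theorem le_map_sSup_lower (X : Subgroup Q') (Y : Subgroup P) (hXY : X.map f ≤ Y)
    (hR : ∀ B ∈ kLowerStarFamily Y, B ≤ f.range) :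
    sSup (kLowerStarFamily Y) ≤ (sSup (kLowerStarFamily X)).map f := by
  rw [sSup_le_iff]
  intro B hB
  have h1 : B ∈ kLowerStarFamily (X.map f) := lower_anti hXY hB
  have h2 : (B.comap f).map f = B := map_comap_eq_self (hR B hB)
  rw [← h2] at h1 ⊢
  exact Subgroup.map_mono (le_sSup ((lower_iff f hf _ X).mpr h1))

end transfer

section seq
universe u
variable (P : Type u) [Group P]

theorem kSeqOdd_succ (n : ℕ) :
    kSeqOdd P (n + 1) = sSup (kUpperStarFamily (kSeqEven P n)) := rfl

theorem kSeqEven_def (n : ℕ) :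
    kSeqEven P n = sSup (kLowerStarFamily (kSeqOdd P n)) := rfl

theorem odd_succ_le : ∀ n, kSeqOdd P (n + 1) ≤ kSeqOdd P n := by
  intro n
  induction n with
  | zero => exact le_top
  | succ n ih =>
    rw [kSeqOdd_succ, kSeqOdd_succ P n, kSeqEven_def, kSeqEven_def]
    exact sSup_le_sSup (upper_anti (sSup_le_sSup (lower_anti ih)))

theorem odd_antitone : Antitone (kSeqOdd P) := antitone_nat_of_succ_le (odd_succ_le P)

theorem even_monotone : Monotone (kSeqEven P) := by
  intro m n hmn
  rw [kSeqEven_def, kSeqEven_def]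
  exact sSup_le_sSup (lower_anti (odd_antitone P hmn))

theorem stab [Finite P] :
    kInfLower P = sSup (kLowerStarFamily (kInfUpper P)) ∧
      kInfUpper P = sSup (kUpperStarFamily (kInfLower P)) := by
  obtain ⟨N1, h1⟩ := WellFoundedGT.monotone_chain_condition ⟨kSeqEven P, even_monotone P⟩
  obtain ⟨N2, h2⟩ := WellFoundedLT.antitone_chain_condition (odd_antitone P)
  simp only [OrderHom.coe_mk] at h1
  have hE : ∀ n, N1 ≤ n → kSeqEven P n = kSeqEven P N1 := fun n hn => (h1 n hn).symm
  have hO : ∀ n, N2 ≤ n → kSeqOdd P n = kSeqOdd P N2 := fun n hn => (h2 n hn).symm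
  have hL : kInfLower P = kSeqEven P (max N1 N2) := by
    unfold kInfLower
    apply le_antisymm
    · apply iSup_le
      intro n
      calc kSeqEven P n ≤ kSeqEven P (max n (max N1 N2)) := even_monotone P (le_max_left _ _)
        _ = kSeqEven P N1 := hE _ ((le_max_left _ _).trans (le_max_right _ _))
        _ = kSeqEven P (max N1 N2) := (hE _ (le_max_left _ _)).symm
    · exact le_iSup (kSeqEven P) _
  have hU : ∀ m, max N1 N2 ≤ m → kInfUpper P = kSeqOdd P m := by
    intro m hm
    unfold kInfUpper
    apply le_antisymm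
    · exact iInf_le _ _
    · apply le_iInf
      intro n
      calc kSeqOdd P m = kSeqOdd P N2 := hO _ ((le_max_right _ _).trans hm)
        _ = kSeqOdd P (max n N2) := (hO _ (le_max_right _ _)).symm
        _ ≤ kSeqOdd P n := odd_antitone P (le_max_left _ _)
  refine ⟨?_, ?_⟩
  · rw [hL, hU _ le_rfl, kSeqEven_def]
  · rw [hU _ (Nat.le_succ _), kSeqOdd_succ, ← hL]

end seq

/-- Let P be a finite p-group and Q a subgroup of P containing every term of the K-sequence of P of nonnegative index (every even-indexed term and every odd-indexed term after the initial term P). Then the K-infinity subgroups of Q, computed in Q and viewed in P, equal those of P. -/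
theorem result {P : Type*} [Group P] [Finite P] {p : ℕ} [Fact p.Prime] (hP : IsPGroup p P) (Q : Subgroup P) (hQ : ∀ n : ℕ, Cfsg.kSeqEven P n ≤ Q ∧ Cfsg.kSeqOdd P (n + 1) ≤ Q) : (Cfsg.kInfLower ↥Q).map Q.subtype = Cfsg.kInfLower P ∧ (Cfsg.kInfUpper ↥Q).map Q.subtype = Cfsg.kInfUpper P := by
  have hf : Function.Injective Q.subtype := Q.subtype_injective
  obtain ⟨hL, hU⟩ := stab P
  have hrange : Q.subtype.range = Q := Q.range_subtype
  have hUQ : kInfUpper P ≤ Q := (iInf_le _ 1).trans (hQ 0).2
  have stepA : ∀ n, (kInfUpper P ≤ (kSeqOdd ↥Q n).map Q.subtype ∧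
      (kSeqOdd ↥Q n).map Q.subtype ≤ kSeqOdd P n) →
      (kSeqEven P n ≤ (kSeqEven ↥Q n).map Q.subtype ∧
        (kSeqEven ↥Q n).map Q.subtype ≤ kInfLower P) := by
    rintro n ⟨h1, h2⟩
    constructor
    · rw [kSeqEven_def, kSeqEven_def]
      apply le_map_sSup_lower Q.subtype hf _ _ h2
      intro B hB
      rw [hrange]
      exact (le_sSup hB).trans (hQ n).1
    · rw [kSeqEven_def, hL]
      exact (map_sSup_lower_le Q.subtype hf _).trans (sSup_le_sSup (lower_anti h1))
  have stepB : ∀ n, (kSeqEven P n ≤ (kSeqEven ↥Q n).map Q.subtype ∧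
        (kSeqEven ↥Q n).map Q.subtype ≤ kInfLower P) →
      (kInfUpper P ≤ (kSeqOdd ↥Q (n + 1)).map Q.subtype ∧
      (kSeqOdd ↥Q (n + 1)).map Q.subtype ≤ kSeqOdd P (n + 1)) := by
    rintro n ⟨h1, h2⟩
    constructor
    · rw [kSeqOdd_succ]
      have h3 := le_map_sSup_upper Q.subtype hf (kSeqEven ↥Q n) (kInfLower P) h2 ?_
      · rw [← hU] at h3
        exact h3
      · intro B hB
        rw [hrange]
        have h4 : B ≤ sSup (kUpperStarFamily (kInfLower P)) := le_sSup hB
        rw [← hU] at h4
        exact h4.trans hUQ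
    · rw [kSeqOdd_succ, kSeqOdd_succ]
      exact (map_sSup_upper_le Q.subtype hf _).trans (sSup_le_sSup (upper_anti h1))
  have hall : ∀ n, (kInfUpper P ≤ (kSeqOdd ↥Q n).map Q.subtype ∧
      (kSeqOdd ↥Q n).map Q.subtype ≤ kSeqOdd P n) := by
    intro n
    induction n with
    | zero =>
      have h0 : (kSeqOdd ↥Q 0).map Q.subtype = Q := by
        show (⊤ : Subgroup ↥Q).map Q.subtype = Q
        rw [← MonoidHom.range_eq_map, hrange]
      rw [h0]
      exact ⟨hUQ, le_top⟩
    | succ n ih => exact stepB n (stepA n ih)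
  have hallE := fun n => stepA n (hall n)
  constructor
  · unfold kInfLower
    rw [Subgroup.map_iSup]
    apply le_antisymm
    · exact iSup_le (fun n => (hallE n).2.trans (le_of_eq rfl))
    · exact iSup_mono (fun n => (hallE n).1)
  · unfold kInfUpper
    rw [Subgroup.map_iInf _ hf]
    apply le_antisymm
    · exact iInf_mono (fun n => (hall n).2)
    · exact le_iInf (fun n => (hall n).1)

end Cfsg.Agent.S1979
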