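import Cfsg.Statements.S1983
import Mathlib
import Cfsg.Agent.Lib.Helper18.KInfChief
import Cfsg.Agent.Lib.Helper18.ChiefNotStable

set_option autoImplicit false
universe u
open Cfsg

namespace Cfsg.Agent.S1983

/-- Let p be a prime, G a finite group with Sylow p-subgroup S and T = O_p(G). Suppose that the lower or the upper K-infinity subgroup of S is not normal in G. Then there is an element g of S outside T such that [X, g, g, g, g] ≤ Y for every chief factor X/Y of G with X ≤ T, and [Z(T), g, g] = 1; and if moreover C_G(T) ≤ T then some quotient group of G is not p-stable (in the normalizer form: some quadratically acting element of a normalizer fails to map into O_p of the automizer). -/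
theorem result {G : Type u} [Group G] [Finite G] {p : ℕ} [Fact p.Prime] (S : Sylow p G) (hK : ¬ (Cfsg.inducedFunctor Cfsg.kInfLower (S : Subgroup G)).Normal ∨ ¬ (Cfsg.inducedFunctor Cfsg.kInfUpper (S : Subgroup G)).Normal) : ∃ g : G, g ∈ (S : Subgroup G) ∧ g ∉ (Cfsg.pCore p G) ∧ (∀ U V : Subgroup G, Cfsg.IsChiefFactor U V → U ≤ (Cfsg.pCore p G) → Cfsg.iterCommutator U (Subgroup.zpowers g) 4 ≤ V) ∧ ⁅⁅((Cfsg.pCore p G) ⊓ Subgroup.centralizer (((Cfsg.pCore p G) : Subgroup G) : Set G)), (Subgroup.zpowers g)⁆, (Subgroup.zpowers g)⁆ = ⊥ ∧ (Subgroup.centralizer (((Cfsg.pCore p G) : Subgroup G) : Set G) ≤ (Cfsg.pCore p G) → ∃ (N : Subgroup G) (_ : N.Normal), ¬ Cfsg.IsNormalizerPStable p (G ⧸ N)) := by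
  have hTp : IsPGroup p ↥(Cfsg.pCore p G) := Cfsg.H5.pCore_isPGroup p G
  haveI hTn : (Cfsg.pCore p G).Normal := Cfsg.H5.pCore_normal p G
  have hTS : Cfsg.pCore p G ≤ S := hTp.le_sylow_of_normal S
  obtain ⟨A, hAn, hAT, hAc, hA1, hA2, hA3, hA4, hA5⟩ := Cfsg.H5.KI.exists_critical_full p G
  haveI := hAn
  have hTA : ⁅A, Cfsg.pCore p G⁆ ≤ Cfsg.H5.KI.Zc A := by
    rw [Subgroup.commutator_comm]; exact hA3
  have hK' : ¬ (Cfsg.H5.KI.kLow (S : Subgroup G) = Cfsg.H5.KI.kLow (Cfsg.pCore p G) ∧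
      Cfsg.H5.KI.kUp (S : Subgroup G) = Cfsg.H5.KI.kUp (Cfsg.pCore p G)) := by
    rintro ⟨e1, e2⟩
    rcases hK with hn | hn
    · apply hn
      rw [Cfsg.H5.KI.inducedFunctor_kInfLower, e1]
      exact Cfsg.H5.KI.kLow_normal _
    · apply hn
      rw [Cfsg.H5.KI.inducedFunctor_kInfUpper, e2]
      exact Cfsg.H5.KI.kUp_normal _
  -- consequences of the cubic / quadratic action
  have hfour : ∀ g : G, ⁅⁅⁅A, Subgroup.zpowers g⁆, Subgroup.zpowers g⁆, Subgroup.zpowers g⁆ = ⊥ →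
      ⁅⁅Cfsg.H5.KI.Zc A, Subgroup.zpowers g⁆, Subgroup.zpowers g⁆ = ⊥ →
      ∀ U V : Subgroup G, Cfsg.IsChiefFactor U V → U ≤ Cfsg.pCore p G →
        Cfsg.iterCommutator U (Subgroup.zpowers g) 4 ≤ V := by
    intro g hg3 hg2
    exact Cfsg.Agent.S2003.result (p := p) (Cfsg.pCore p G) hTp A hAT hAc hA1 hA2 hA3 hA4 hA5 g 3 2
      (by norm_num) (by norm_num)
      (fun U V _ hUA => by
        have h1 : Cfsg.iterCommutator U (Subgroup.zpowers g) 3 ≤
            Cfsg.iterCommutator A (Subgroup.zpowers g) 3 :=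
          Cfsg.H5.KI.iterCommutator_mono hUA 3
        have h2 : Cfsg.iterCommutator A (Subgroup.zpowers g) 3 = ⊥ := hg3
        rw [h2] at h1
        exact h1.trans bot_le)
      (fun U V _ hUZ => by
        have h1 : Cfsg.iterCommutator U (Subgroup.zpowers g) 2 ≤
            Cfsg.iterCommutator (Cfsg.H5.KI.Zc A) (Subgroup.zpowers g) 2 :=
          Cfsg.H5.KI.iterCommutator_mono hUZ 2
        have h2 : Cfsg.iterCommutator (Cfsg.H5.KI.Zc A) (Subgroup.zpowers g) 2 = ⊥ := hg2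
        rw [h2] at h1
        exact h1.trans bot_le)
  have hZ : Cfsg.pCore p G ⊓ Subgroup.centralizer (((Cfsg.pCore p G) : Subgroup G) : Set G) ≤
      Cfsg.H5.KI.Zc A := by
    rw [← hA4]
    exact inf_le_inf_left _ (Subgroup.centralizer_le hAT)
  have hcen : ∀ g : G, ⁅⁅Cfsg.H5.KI.Zc A, Subgroup.zpowers g⁆, Subgroup.zpowers g⁆ = ⊥ →
      ⁅⁅Cfsg.pCore p G ⊓ Subgroup.centralizer (((Cfsg.pCore p G) : Subgroup G) : Set G),
        Subgroup.zpowers g⁆, Subgroup.zpowers g⁆ = ⊥ := by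
    intro g hg2
    apply le_bot_iff.mp
    rw [← hg2]
    exact Subgroup.commutator_mono (Subgroup.commutator_mono hZ le_rfl) le_rfl
  by_cases hC : Subgroup.centralizer (((Cfsg.pCore p G) : Subgroup G) : Set G) ≤ Cfsg.pCore p G
  · obtain ⟨g, hgS, hgT, hg3, hg2, U, V, hUV, hUA, hq, hnt⟩ :=
      Cfsg.Agent.Lib.Helper18.KInfChief.exists_bad_chief hC hTS hAT hA2 hTA hA5 hK'
    refine ⟨g, hgS, hgT, hfour g hg3 hg2, hcen g hg2, fun _ => ?_⟩
    exact Cfsg.Agent.Lib.Helper18.ChiefNotStable.not_nps_of_chief hUV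
      (hTp.to_le (hUA.trans hAT)) hq hnt
  · obtain ⟨g, hgS, hgT, hg3, hg2⟩ := Cfsg.H5.KI.exists_bad_element hTS hAT hA2 hTA hK'
    exact ⟨g, hgS, hgT, hfour g hg3 hg2, hcen g hg2, fun h => absurd h hC⟩

end Cfsg.Agent.S1983
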