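import Cfsg.Statements.S1985
import Mathlib
import Cfsg.Agent.H5.KInf14
import Cfsg.Agent.S1973
import Cfsg.Agent.Lib.Helper13.CharFunctor

set_option autoImplicit false
universe u
open Cfsg

namespace Cfsg.Agent.S1985

/-- Let p be an odd prime and G a finite group. Then the lower K-infinity subgroup controls weak closure of elements in G: the lower K-infinity subgroup of every p-subgroup P of G contains Z(P), and for some (equivalently, every) Sylow p-subgroup S of G, with K the lower K-infinity subgroup of S, every element of S commuting with all of N_G(K) is weakly closed in S with respect to G (every G-conjugate of it lying in S equals it). -/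
theorem result {G : Type u} [Group G] [Finite G] {p : ℕ} [Fact p.Prime] (hp : p ≠ 2) : Cfsg.ControlsWeakClosureOfElementsIn p (Cfsg.inducedFunctor (G := G) Cfsg.kInfLower) ⊤ := by
  have hWc := Cfsg.Agent.Lib.Helper13.isConjugacyFunctor_inducedFunctor
    (Cfsg.H5.KI.isCharPFunctor_kInfLower p) G
  have hWZ : ∀ P : Subgroup G, IsPGroup p ↥P →
      P ⊓ Subgroup.centralizer ((P : Subgroup G) : Set G) ≤ Cfsg.inducedFunctor Cfsg.kInfLower P := by
    intro P _
    rw [Cfsg.H5.KI.inducedFunctor_kInfLower]
    exact Cfsg.H5.KI.Zc_le_kLow P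
  exact Cfsg.Agent.S1973.result (Cfsg.inducedFunctor (G := G) Cfsg.kInfLower) hWc hWZ
    (fun H T hTH hTp hTi hn =>
      Cfsg.H5.KI.exists_nilpotent_on_center hp H T hTH hTp hTi (Or.inl hn)) ⊤

end Cfsg.Agent.S1985
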