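import Cfsg.Statements.S1990
import Cfsg.Agent.S2005
import Cfsg.Agent.S2795
import Cfsg.Agent.Lib.Helper13.MaximalSylow
import Cfsg.Agent.Lib.Helper13.Frobenius
import Cfsg.Agent.Lib.Helper13.CharFunctor
import Cfsg.Agent.Lib.Helper13.CharFunctor2
import Cfsg.Agent.Lib.Helper18.FusionLift
import Cfsg.Agent.H5.Cores

set_option autoImplicit false
universe u
open Cfsg

namespace Cfsg.Agent.S1990

open Cfsg.Agent.Lib.Helper13

section qd
variable (p : ℕ)

/-- a matrix of order four in `Qd(p)` -/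
def u4mat : Matrix (Fin 3) (Fin 3) (ZMod p) := !![0, 1, 0; -1, 0, 0; 0, 0, 1]

theorem u4mat_det : (u4mat p).det = 1 := by
  simp [u4mat, Matrix.det_fin_three]

/-- the corresponding element of `SL₃(p)` -/
def u4 : Matrix.SpecialLinearGroup (Fin 3) (ZMod p) := ⟨u4mat p, u4mat_det p⟩

theorem u4_mem : u4 p ∈ Cfsg.qd p := by
  apply Subgroup.subset_closure
  refine ⟨?_, ?_, ?_⟩ <;> simp [u4, u4mat]

theorem u4mat_sq : u4mat p * u4mat p = !![-1, 0, 0; 0, -1, 0; 0, 0, 1] := by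
  rw [u4mat, Matrix.mul_fin_three]
  simp

theorem u4mat_four : (u4mat p * u4mat p) * (u4mat p * u4mat p) = 1 := by
  rw [u4mat_sq, Matrix.mul_fin_three, Matrix.one_fin_three]
  simp

theorem u4_pow_four : (u4 p) ^ 4 = 1 := by
  apply Subtype.ext
  rw [Matrix.SpecialLinearGroup.coe_pow, Matrix.SpecialLinearGroup.coe_one]
  show (u4mat p) ^ 4 = 1
  rw [show (4 : ℕ) = 2 + 2 from rfl, pow_add, pow_two, u4mat_four]

theorem u4_sq_ne [Fact p.Prime] (hp : p ≠ 2) : (u4 p) ^ 2 ≠ 1 := by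
  intro h
  have h1 : ((u4 p ^ 2 : Matrix.SpecialLinearGroup (Fin 3) (ZMod p)) :
      Matrix (Fin 3) (Fin 3) (ZMod p)) 0 0 = (1 : Matrix (Fin 3) (Fin 3) (ZMod p)) 0 0 := by
    rw [h]; rfl
  rw [Matrix.SpecialLinearGroup.coe_pow] at h1
  have h2 : ((u4 p : Matrix.SpecialLinearGroup (Fin 3) (ZMod p)) :
      Matrix (Fin 3) (Fin 3) (ZMod p)) = u4mat p := rfl
  rw [h2, pow_two, u4mat_sq] at h1
  have h3 : (-1 : ZMod p) = 1 := by simpa using h1
  have h4 : ((2 : ℕ) : ZMod p) = 0 := by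
    have : (2 : ZMod p) = 0 := by linear_combination (-1 : ZMod p) * h3
    exact_mod_cast this
  have h5 : p ∣ 2 := (ZMod.natCast_eq_zero_iff 2 p).mp h4
  have hpp : p.Prime := Fact.out
  rcases (Nat.dvd_prime Nat.prime_two).mp h5 with h6 | h6
  · exact hpp.one_lt.ne' h6
  · exact hp h6

end qd

/-- a group whose `2`-elements have order at most two does not involve `Qd(p)` -/
theorem not_involves_qd {Y : Type*} [Group Y] [Finite Y] {p : ℕ} [Fact p.Prime] (hp : p ≠ 2)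
    (h2 : ∀ x : Y, (∃ j : ℕ, x ^ (2 ^ j) = 1) → x ^ 2 = 1) : ¬ Cfsg.Involves ↥(Cfsg.qd p) Y := by
  rintro ⟨K, R, hR, ⟨e⟩⟩
  obtain ⟨w, hw⟩ : ∃ w : ↥(Cfsg.qd p), w = ⟨u4 p, u4_mem p⟩ := ⟨_, rfl⟩
  have hw4 : w ^ 4 = 1 := by
    rw [hw]; apply Subtype.ext
    rw [Subgroup.coe_pow, Subgroup.coe_one]
    exact u4_pow_four p
  have hw2 : w ^ 2 ≠ 1 := by
    intro h
    apply u4_sq_ne p hp
    have := congrArg Subtype.val h
    rw [hw, Subgroup.coe_pow, Subgroup.coe_one] at this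
    exact this
  obtain ⟨ū, hū⟩ : ∃ ū : ↥K ⧸ R.subgroupOf K, ū = e.symm w := ⟨_, rfl⟩
  have hū4 : ū ^ 4 = 1 := by rw [hū, ← map_pow, hw4, map_one]
  have hū2 : ū ^ 2 ≠ 1 := by
    intro h
    apply hw2
    rw [hū, ← map_pow] at h
    exact (MulEquiv.map_eq_one_iff e.symm).mp h
  obtain ⟨k, hk⟩ := QuotientGroup.mk_surjective ū
  have hord : orderOf (k : Y) ≠ 0 := (orderOf_pos (k : Y)).ne'
  obtain ⟨a, m, hm, hn⟩ := Nat.exists_eq_two_pow_mul_odd hord
  have hx : ((k : Y) ^ m) ^ (2 ^ a) = 1 := by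
    rw [← pow_mul, mul_comm, ← hn, pow_orderOf_eq_one]
  have hx2 := h2 _ ⟨a, hx⟩
  have hk2 : (k ^ m) ^ 2 = 1 := by
    apply Subtype.ext
    rw [Subgroup.coe_pow, Subgroup.coe_pow, Subgroup.coe_one]
    exact hx2
  have hū2m : ū ^ (m * 2) = 1 := by
    rw [← hk, ← QuotientGroup.mk_pow, pow_mul, hk2]; rfl
  have hd1 : orderOf ū ∣ 2 ^ 2 := orderOf_dvd_of_pow_eq_one hū4
  have hd2 : orderOf ū ∣ m * 2 := orderOf_dvd_of_pow_eq_one hū2m
  obtain ⟨i, -, hio⟩ := (Nat.dvd_prime_pow Nat.prime_two).mp hd1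
  have hcop : Nat.Coprime (orderOf ū) m := by
    rw [hio]; exact Nat.Coprime.pow_left i (Nat.coprime_two_left.mpr hm)
  have hd3 : orderOf ū ∣ 2 := hcop.dvd_of_dvd_mul_left hd2
  exact hū2 (orderOf_dvd_iff_pow_eq_one.mp hd3)

/-- the image of a maximal subgroup containing the kernel is maximal -/
theorem isCoatom_map_mk {Y : Type*} [Group Y] (N T : Subgroup Y) [N.Normal] (hNT : N ≤ T)
    (hT : IsCoatom T) : IsCoatom (T.map (QuotientGroup.mk' N)) := by
  constructor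
  · intro h
    apply hT.1
    have h1 : (T.map (QuotientGroup.mk' N)).comap (QuotientGroup.mk' N) = ⊤ := by
      rw [h, Subgroup.comap_top]
    rw [Subgroup.comap_map_eq, QuotientGroup.ker_mk', sup_eq_left.mpr hNT] at h1
    exact h1
  · intro B hB
    have h1 : T ≤ B.comap (QuotientGroup.mk' N) := by
      rw [← Subgroup.map_le_iff_le_comap]; exact hB.le
    have h2 : T ≠ B.comap (QuotientGroup.mk' N) := by
      intro h
      apply hB.ne
      rw [h, Subgroup.map_comap_eq_self_of_surjective (QuotientGroup.mk'_surjective N)]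
    have h3 := hT.2 _ (lt_of_le_of_ne h1 h2)
    rw [← Subgroup.map_comap_eq_self_of_surjective (QuotientGroup.mk'_surjective N) B, h3,
      Subgroup.map_top_of_surjective _ (QuotientGroup.mk'_surjective N)]

/-- if `Y / O_p(Y)` has a normal `p`-complement and a Sylow `p`-subgroup of `Y` is maximal, then the
`2`-elements of `Y` have order at most two (`p` odd) -/
theorem sq_eq_one_of_two_elt {Y : Type u} [Group Y] [Finite Y] {p : ℕ} [Fact p.Prime] (hp : p ≠ 2)
    (hnp : HasNormalPComplement p (Y ⧸ pCore p Y)) (T : Sylow p Y) (hT : IsCoatom (T : Subgroup Y)) :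
    ∀ x : Y, (∃ j : ℕ, x ^ (2 ^ j) = 1) → x ^ 2 = 1 := by
  have hpp : p.Prime := Fact.out
  have hP₀p : IsPGroup p (pCore p Y) := Cfsg.H5.pCore_isPGroup p Y
  have hP₀T : pCore p Y ≤ (T : Subgroup Y) := hP₀p.le_sylow_of_normal T
  obtain ⟨π, hπ⟩ : ∃ π : Y →* Y ⧸ pCore p Y, π = QuotientGroup.mk' (pCore p Y) := ⟨_, rfl⟩
  have hπs : Function.Surjective π := by rw [hπ]; exact QuotientGroup.mk'_surjective _
  obtain ⟨Tb, hTb⟩ : ∃ Tb : Sylow p (Y ⧸ pCore p Y),
      (Tb : Subgroup (Y ⧸ pCore p Y)) = (T : Subgroup Y).map π :=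
    ⟨T.mapSurjective hπs, Sylow.coe_mapSurjective hπs T⟩
  have hTbco : IsCoatom (Tb : Subgroup (Y ⧸ pCore p Y)) := by
    rw [hTb, hπ]; exact isCoatom_map_mk _ _ hP₀T hT
  obtain ⟨Pb, Nb, hNbn, hcompl⟩ := hnp
  obtain ⟨hcop, k, hk⟩ := coprime_and_index_of_isComplement' Nb Pb hcompl
  haveI := hNbn
  have hab := commute_of_isCoatom_sylow Nb hcop Tb hTbco
  -- the subgroup of squares
  let Sq : Subgroup (Y ⧸ pCore p Y) :=
    { carrier := {y | ∃ z ∈ Nb, y = z ^ 2}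
      one_mem' := ⟨1, Nb.one_mem, by simp⟩
      mul_mem' := by
        rintro _ _ ⟨z₁, hz₁, rfl⟩ ⟨z₂, hz₂, rfl⟩
        exact ⟨z₁ * z₂, Nb.mul_mem hz₁ hz₂, (Commute.mul_pow (hab z₁ hz₁ z₂ hz₂) 2).symm⟩
      inv_mem' := by
        rintro _ ⟨z, hz, rfl⟩
        exact ⟨z⁻¹, Nb.inv_mem hz, (inv_pow z 2).symm⟩ }
  have hSqle : Sq ≤ Nb := by
    rintro _ ⟨z, hz, rfl⟩; exact Nb.pow_mem hz 2
  have hSqn : Sq.Normal := by
    constructor
    rintro _ ⟨z, hz, rfl⟩ g
    exact ⟨g * z * g⁻¹, hNbn.conj_mem z hz g, conj_pow.symm⟩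
  have hTSq : (Tb : Subgroup (Y ⧸ pCore p Y)) ≤ Subgroup.normalizer (Sq : Set (Y ⧸ pCore p Y)) := by
    rw [Subgroup.normalizer_eq_top_iff.mpr hSqn]; exact le_top
  have hirr := eq_bot_or_eq_of_le_normalizer Nb hcop Tb hTbco Sq hSqle hTSq
  have h2N : ∀ z ∈ Nb, (∃ j : ℕ, z ^ (2 ^ j) = 1) → z ^ 2 = 1 := by
    intro z hz hj
    rcases hirr with h | h
    · have h1 : z ^ 2 ∈ Sq := ⟨z, hz, rfl⟩
      rw [h, Subgroup.mem_bot] at h1
      exact h1
    · have hsurj : Function.Surjective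
          (fun z : ↥Nb => (⟨(z : Y ⧸ pCore p Y) ^ 2, Nb.pow_mem z.2 2⟩ : ↥Nb)) := by
        rintro ⟨y, hy⟩
        rw [← h] at hy
        obtain ⟨z', hz', rfl⟩ := hy
        exact ⟨⟨z', hz'⟩, rfl⟩
      have hinj := Finite.injective_iff_surjective.mpr hsurj
      have hone : ∀ w ∈ Nb, w ^ 2 = 1 → w = 1 := by
        intro w hw hw2
        have h1 := @hinj ⟨w, hw⟩ ⟨1, Nb.one_mem⟩ (by apply Subtype.ext; simp [hw2])
        exact congrArg Subtype.val h1
      have hall : ∀ j : ℕ, z ^ (2 ^ j) = 1 → z = 1 := by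
        intro j
        induction j with
        | zero => intro h1; simpa using h1
        | succ j ih =>
          intro h1
          apply ih
          apply hone _ (Nb.pow_mem hz _)
          rw [← pow_mul, ← pow_succ]; exact h1
      obtain ⟨j, hj⟩ := hj
      rw [hall j hj, one_pow]
  intro x ⟨j, hxj⟩
  have hxb : (π x) ^ (2 ^ j) = 1 := by rw [← map_pow, hxj, map_one]
  have hordx : orderOf (π x) ∣ 2 ^ j := orderOf_dvd_of_pow_eq_one hxb
  have hp2 : Nat.Coprime p 2 := (Nat.coprime_primes hpp Nat.prime_two).mpr hp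
  have hcop2 : Nat.Coprime (p ^ k) (orderOf (π x)) :=
    Nat.Coprime.coprime_dvd_right hordx (Nat.Coprime.pow _ _ hp2)
  obtain ⟨m', hm'⟩ := exists_pow_eq_self_of_coprime hcop2
  have hxN : π x ∈ Nb := by
    rw [← hm']
    apply Nb.pow_mem
    rw [← hk]
    exact Nb.pow_index_mem (π x)
  have hx2 := h2N _ hxN ⟨j, hxb⟩
  have hx2P : x ^ 2 ∈ pCore p Y := by
    rw [← map_pow, hπ] at hx2
    exact (QuotientGroup.eq_one_iff _).mp hx2
  obtain ⟨i, hi⟩ := hP₀p ⟨x ^ 2, hx2P⟩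
  have hi' : (x ^ 2) ^ (p ^ i) = 1 := by
    have := congrArg Subtype.val hi
    simpa using this
  have hj' : (x ^ 2) ^ (2 ^ j) = 1 := by rw [← pow_mul, mul_comm, pow_mul, hxj, one_pow]
  have ho1 : orderOf (x ^ 2) ∣ p ^ i := orderOf_dvd_of_pow_eq_one hi'
  have ho2 : orderOf (x ^ 2) ∣ 2 ^ j := orderOf_dvd_of_pow_eq_one hj'
  have hcop3 : Nat.Coprime (p ^ i) (2 ^ j) := Nat.Coprime.pow _ _ hp2
  have h1 : orderOf (x ^ 2) = 1 := Nat.eq_one_of_dvd_coprimes hcop3 ho1 ho2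
  exact orderOf_eq_one_iff.mp h1

/-- if a `p`-subgroup `T` controls strong fusion in a Sylow `p`-subgroup, Frobenius' condition holds -/
theorem localCentral_of_control {Y : Type*} [Group Y] [Finite Y] {p : ℕ} [Fact p.Prime] (T' : Sylow p Y)
    (T : Subgroup Y) (hTp : IsPGroup p T)
    (h : ∀ A : Set Y, A ⊆ (T' : Subgroup Y) → ∀ g : Y, (fun a => g * a * g⁻¹) '' A ⊆ (T' : Subgroup Y) →
      ∃ x ∈ T, ∀ a ∈ A, g * a * g⁻¹ = x * a * x⁻¹) : LocalCentral p Y := by
  apply localCentral_of_sylow T'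
  intro Q hQ g hg hcop
  have hgQ : ∀ q ∈ Q, g * q * g⁻¹ ∈ Q := fun q hq => (Subgroup.mem_normalizer_iff.mp hg q).mp hq
  obtain ⟨s, hsT, hs⟩ := h (Q : Set Y) (fun q hq => hQ hq) g (by
    rintro _ ⟨q, hq, rfl⟩; exact hQ (hgQ q hq))
  have hsQ : ∀ q ∈ Q, s * q * s⁻¹ ∈ Q := fun q hq => by rw [← hs q hq]; exact hgQ q hq
  have hpow : ∀ i : ℕ, ∀ q ∈ Q, g ^ i * q * (g ^ i)⁻¹ = s ^ i * q * (s ^ i)⁻¹ ∧
      s ^ i * q * (s ^ i)⁻¹ ∈ Q := by
    intro i
    induction i with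
    | zero => intro q hq; simp [hq]
    | succ i ih =>
      intro q hq
      obtain ⟨e1, e2⟩ := ih q hq
      have e3 : g ^ (i + 1) * q * (g ^ (i + 1))⁻¹ = g * (g ^ i * q * (g ^ i)⁻¹) * g⁻¹ := by
        rw [pow_succ']; group
      have e4 : s ^ (i + 1) * q * (s ^ (i + 1))⁻¹ = s * (s ^ i * q * (s ^ i)⁻¹) * s⁻¹ := by
        rw [pow_succ']; group
      rw [e3, e4, e1, hs _ e2]
      exact ⟨rfl, hsQ _ e2⟩
  have hsn : ∀ q ∈ Q, s ^ orderOf g * q * (s ^ orderOf g)⁻¹ = q := by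
    intro q hq
    rw [← (hpow (orderOf g) q hq).1, pow_orderOf_eq_one]; simp
  obtain ⟨j, hj⟩ := hTp ⟨s, hsT⟩
  have hsj : s ^ (p ^ j) = 1 := by simpa using congrArg Subtype.val hj
  have hos : orderOf s ∣ p ^ j := orderOf_dvd_of_pow_eq_one hsj
  have hcop' : Nat.Coprime (orderOf g) (orderOf s) :=
    Nat.Coprime.coprime_dvd_right hos (Nat.Coprime.pow_right j hcop)
  obtain ⟨m, hm⟩ := exists_pow_eq_self_of_coprime hcop'
  have hsc : ∀ q ∈ Q, s * q * s⁻¹ = q := by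
    intro q hq
    have hc : Commute (s ^ orderOf g) q := by
      have h1 := hsn q hq
      show s ^ orderOf g * q = q * s ^ orderOf g
      calc s ^ orderOf g * q = (s ^ orderOf g * q * (s ^ orderOf g)⁻¹) * s ^ orderOf g := by group
        _ = q * s ^ orderOf g := by rw [h1]
    have hc2 : Commute s q := by rw [← hm]; exact hc.pow_left m
    calc s * q * s⁻¹ = q * s * s⁻¹ := by rw [hc2.eq]
      _ = q := by group
  rw [Subgroup.mem_centralizer_iff]
  intro q hq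
  have h1 : g * q * g⁻¹ = q := by rw [hs q hq]; exact hsc q hq
  calc q * g = (g * q * g⁻¹) * g := by rw [h1]
    _ = g * q := by group

/-- the local step: in a section with `C(O_p) ≤ O_p`, `p`-nilpotent modulo `O_p` and with maximal
Sylow `p`-subgroup `T`, the subgroup `W(T)` is normal -/
theorem key {Y : Type u} [Group Y] [Finite Y] {p : ℕ} [Fact p.Prime] (hp : p ≠ 2)
    {W : ∀ (Q : Type u) [Group Q], Subgroup Q} (hW : IsCharPFunctor.{u} p W)
    (hctl : (∀ (K' R' : Subgroup Y) [hR' : (R'.subgroupOf K').Normal],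
        IsNormalizerPStable p (↥K' ⧸ R'.subgroupOf K')) →
      ∀ T : Sylow p Y, ControlsStrongFusion p (inducedFunctor (G := Y) W (T : Subgroup Y)))
    (hc : Subgroup.centralizer ((pCore p Y : Subgroup Y) : Set Y) ≤ pCore p Y)
    (hnp : HasNormalPComplement p (Y ⧸ pCore p Y)) (T : Sylow p Y) (hT : IsCoatom (T : Subgroup Y)) :
    (inducedFunctor (G := Y) W (T : Subgroup Y)).Normal := by
  have h2 := sq_eq_one_of_two_elt hp hnp T hT
  have hqd := not_involves_qd hp h2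
  have hnps := (Cfsg.Agent.S2795.result hp).mp hqd
  obtain ⟨T', hUT', hctl'⟩ := hctl (fun K' R' _ => hnps K' R') T
  obtain ⟨U, hU⟩ : ∃ U : Subgroup Y, U = inducedFunctor (G := Y) W (T : Subgroup Y) := ⟨_, rfl⟩
  rw [← hU] at hUT' hctl' ⊢
  have hTN : (T : Subgroup Y) ≤ Subgroup.normalizer (U : Set Y) := by
    rw [hU]
    exact Subgroup.le_normalizer.trans
      (normalizer_le_normalizer_inducedFunctor hW (T : Subgroup Y) T.isPGroup')
  rcases eq_or_lt_of_le hTN with hEq | hLt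
  · exfalso
    have hLC : LocalCentral p Y := by
      apply localCentral_of_control T' (T : Subgroup Y) T.isPGroup'
      intro A hA g hg
      obtain ⟨-, hh⟩ := hctl' A hA
      obtain ⟨x, hx, hxa⟩ := hh g hg
      exact ⟨x, by rw [hEq]; exact hx, hxa⟩
    obtain ⟨K₀, hK₀n, hK₀c⟩ := exists_normal_complement_of_localCentral hLC T
    obtain ⟨hK₀cop, -⟩ := coprime_and_index_of_isComplement' K₀ T hK₀c
    have hdisj : pCore p Y ⊓ K₀ = ⊥ :=
      Cfsg.Agent.Lib.Helper18.FusionLift.inf_eq_bot_of_pgroup_coprime (Cfsg.H5.pCore_isPGroup p Y) hK₀cop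
    have hPn : (pCore p Y).Normal := inferInstance
    have hcent : K₀ ≤ Subgroup.centralizer ((pCore p Y : Subgroup Y) : Set Y) := by
      intro k hk
      rw [Subgroup.mem_centralizer_iff]
      intro q hq
      have hcomm : k * q * k⁻¹ * q⁻¹ ∈ pCore p Y ⊓ K₀ := by
        refine ⟨?_, ?_⟩
        · have h1 : k * q * k⁻¹ ∈ pCore p Y := hPn.conj_mem q hq k
          exact (pCore p Y).mul_mem h1 ((pCore p Y).inv_mem hq)
        · have h1 : q * k⁻¹ * q⁻¹ ∈ K₀ := hK₀n.conj_mem _ (K₀.inv_mem hk) q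
          have e : k * q * k⁻¹ * q⁻¹ = k * (q * k⁻¹ * q⁻¹) := by group
          rw [e]; exact K₀.mul_mem hk h1
      rw [hdisj, Subgroup.mem_bot] at hcomm
      calc q * k = (k * q * k⁻¹ * q⁻¹)⁻¹ * (k * q) := by group
        _ = k * q := by rw [hcomm]; simp
    have hK₀bot : K₀ = ⊥ := by
      rw [eq_bot_iff, ← hdisj]
      exact le_inf (hcent.trans hc) le_rfl
    have h3 : (T : Subgroup Y) = ⊤ := by
      rw [hK₀bot] at hK₀c
      exact Subgroup.isComplement'_bot_left.mp hK₀c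
    exact hT.1 h3
  · have h3 := hT.2 _ hLt
    exact Subgroup.normalizer_eq_top_iff.mp h3

/-- Let p be an odd prime, G a finite group with Sylow p-subgroup S, and W an isomorphism-invariant p-group functor (W assigns to every group Q a subgroup W(Q), nontrivial whenever Q is a nontrivial finite p-group, and every isomorphism from a finite p-group Q onto a group R carries W(Q) onto W(R)). Suppose N_G(W(S)) has a normal p-complement, and W(T) controls strong fusion in every section G* = K/R of G all of whose sections are p-stable in the normalizer form, for every Sylow p-subgroup T of G*. Then G has a normal p-complement. -/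
theorem result {G : Type u} [Group G] [Finite G] {p : ℕ} [Fact p.Prime] (hp : p ≠ 2) (W : ∀ (Q : Type u) [Group Q], Subgroup Q) (hW : Cfsg.IsCharPFunctor.{u} p W) (S : Sylow p G) (hN : Cfsg.HasNormalPComplement p ↥(Subgroup.normalizer ((Cfsg.inducedFunctor (G := G) W (S : Subgroup G) : Subgroup G) : Set G))) (hctl : ∀ (K R : Subgroup G) [hR : (R.subgroupOf K).Normal], (∀ (K' R' : Subgroup (↥K ⧸ R.subgroupOf K)) [hR' : (R'.subgroupOf K').Normal], Cfsg.IsNormalizerPStable p (↥K' ⧸ R'.subgroupOf K')) → ∀ T : Sylow p (↥K ⧸ R.subgroupOf K), Cfsg.ControlsStrongFusion p (Cfsg.inducedFunctor (G := (↥K ⧸ R.subgroupOf K)) W (T : Subgroup (↥K ⧸ R.subgroupOf K)))) : Cfsg.HasNormalPComplement p G := by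
  apply Cfsg.Agent.S2005.result W hW S hN
  intro K R hR hc hnp T hT
  exact key hp hW (hctl K R) hc hnp T hT

end Cfsg.Agent.S1990
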