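import Cfsg.Statements.S1989
import Mathlib
import Cfsg.Agent.H5.KInf11
import Cfsg.Agent.H5.QdFusion3
import Cfsg.Agent.Lib.Helper27.Involves

set_option autoImplicit false
universe u
open Cfsg

namespace Cfsg.Agent.S1989

/-- Let p be an odd prime and G a finite group. Then Qd(p) (the natural semidirect product of an elementary abelian group of order p² by SL₂(p)) is not involved in G if and only if, in every section K/R of G and for every Sylow p-subgroup T of K/R, the lower K-infinity subgroup of T controls strong fusion in K/R. -/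
theorem result {G : Type u} [Group G] [Finite G] {p : ℕ} [Fact p.Prime] (hp : p ≠ 2) : ¬ Cfsg.Involves ↥(Cfsg.qd p) G ↔ ∀ (K R : Subgroup G) [hR : (R.subgroupOf K).Normal], ∀ T : Sylow p (↥K ⧸ R.subgroupOf K), Cfsg.ControlsStrongFusion p (Cfsg.inducedFunctor (G := (↥K ⧸ R.subgroupOf K)) Cfsg.kInfLower (T : Subgroup (↥K ⧸ R.subgroupOf K))) := by
  constructor
  · intro hfree
    have hst : Cfsg.H5.KI.StabS p G := by
      apply Cfsg.H5.KI.stabS_of_sections
      intro K R hR
      apply Cfsg.H5.QdF.nps_of_qdFree hp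
      intro h
      exact hfree (Cfsg.Agent.Lib.Helper27.involves_trans h ⟨K, R, hR, ⟨MulEquiv.refl _⟩⟩)
    intro K R hR T
    exact Cfsg.H5.KI.kInfLower_controls (hst.section K R) T
  · intro h hinv
    obtain ⟨K, R, hR, ⟨e⟩⟩ := hinv
    exact Cfsg.H5.KI.not_controls_kInfLower_of_equiv
      (e.trans (MulEquiv.subgroupCongr (Cfsg.Agent.Lib.Helper16.qd_eq_affSL3 p))) default
      (h K R default)

end Cfsg.Agent.S1989
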