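import Cfsg.Statements.S1992
import Mathlib
import Cfsg.Agent.S1991
import Cfsg.Agent.Lib.Helper2.BurnsidePQ
import Cfsg.Agent.H5.PSolvable

set_option autoImplicit false
set_option linter.style.haveILetI false
open Cfsg

namespace Cfsg.Agent.S1992

/-- Let G be a finite group in which, for every prime q dividing the order of G, every Sylow q-subgroup is its own normalizer. Then the order of G is a power of a single prime (G is a q-group for some prime q; for G trivial any prime works). -/
theorem result {G : Type*} [Group G] [Finite G] (h : ∀ q : ℕ, q.Prime → q ∣ Nat.card G → ∀ Q : Sylow q G, Subgroup.normalizer ((Q : Subgroup G) : Set G) = Q) : ∃ q : ℕ, q.Prime ∧ IsPGroup q G := by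
  classical
  have hn0 : Nat.card G ≠ 0 := Nat.card_pos.ne'
  -- groups whose order has a single prime divisor
  have single : ∀ q : ℕ, q.Prime → (∀ r : ℕ, r.Prime → r ∣ Nat.card G → r = q) → IsPGroup q G := by
    intro q hq hall
    haveI : Fact q.Prime := ⟨hq⟩
    exact IsPGroup.of_card (Nat.eq_prime_pow_of_unique_prime_dvd hn0 (fun {d} hd hdn => hall d hd hdn))
  -- the key lemma: no proper normal subgroup with quotient an `r`-group when another prime divides
  have key : ∀ (N : Subgroup G) [N.Normal], N ≠ ⊤ → ∀ r : ℕ, r.Prime → IsPGroup r (G ⧸ N) →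
      ∀ r' : ℕ, r'.Prime → r' ≠ r → r' ∣ Nat.card G → False := by
    intro N _ hNtop r hr hrq r' hr' hne hdvd
    haveI : Fact r'.Prime := ⟨hr'⟩
    obtain ⟨R'⟩ : Nonempty (Sylow r' G) := inferInstance
    have hle : (R' : Subgroup G) ≤ N := by
      intro x hx
      obtain ⟨k, hk⟩ := R'.isPGroup' ⟨x, hx⟩
      have hk' : x ^ r' ^ k = 1 := by simpa using congrArg Subtype.val hk
      obtain ⟨j, hj⟩ := hrq (x : G ⧸ N)
      have h1 : orderOf (x : G ⧸ N) ∣ r' ^ k := by
        apply orderOf_dvd_of_pow_eq_one
        rw [← QuotientGroup.mk_pow, hk']; rfl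
      have h2 : orderOf (x : G ⧸ N) ∣ r ^ j := orderOf_dvd_of_pow_eq_one hj
      have hcop : Nat.Coprime (r' ^ k) (r ^ j) :=
        Nat.Coprime.pow k j ((Nat.coprime_primes hr' hr).mpr hne)
      have h3 : orderOf (x : G ⧸ N) = 1 := Nat.eq_one_of_dvd_coprimes hcop h1 h2
      exact (QuotientGroup.eq_one_iff x).mp (orderOf_eq_one_iff.mp h3)
    have h4 : Subgroup.normalizer ((R' : Subgroup G) : Set G) ⊔ N = ⊤ :=
      Sylow.normalizer_sup_eq_top' R' hle
    rw [h r' hr' hdvd R', sup_of_le_right hle] at h4
    exact hNtop h4
  by_cases h5 : ∃ p : ℕ, p.Prime ∧ 5 ≤ p ∧ p ∣ Nat.card G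
  · obtain ⟨p, hp, hp5, hpd⟩ := h5
    haveI : Fact p.Prime := ⟨hp⟩
    obtain ⟨S⟩ : Nonempty (Sylow p G) := inferInstance
    have hS : (S : Subgroup G) ≠ ⊥ := S.ne_bot_of_dvd_card hpd
    have hN : ∀ g ∈ Subgroup.normalizer (((S : Subgroup G) : Subgroup G) : Set G),
        (orderOf g).Coprime p → g ∈ Subgroup.centralizer (((S : Subgroup G) : Subgroup G) : Set G) := by
      intro g hg hgc
      rw [h p hp hpd S] at hg
      have : g = 1 := Cfsg.H5.eq_one_of_coprime_of_mem_pgroup hgc S.isPGroup' hg
      rw [this]; exact one_mem _
    obtain ⟨N, hNn, hNi⟩ := Cfsg.Agent.S1991.result hp5 S hS hN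
    haveI := hNn
    have hNtop : N ≠ ⊤ := by
      intro hN'
      rw [hN', Subgroup.index_top] at hNi
      exact hp.one_lt.ne hNi
    have hq : IsPGroup p (G ⧸ N) := by
      apply IsPGroup.of_card (n := 1)
      rw [pow_one, ← hNi]; rfl
    refine ⟨p, hp, single p hp fun r hr hrd => ?_⟩
    by_contra hne
    exact key N hNtop p hp hq r hr hne hrd
  · push Not at h5
    have hsmall : ∀ r : ℕ, r.Prime → r ∣ Nat.card G → r = 2 ∨ r = 3 := by
      intro r hr hrd
      have h1 : r < 5 := by
        by_contra hge
        exact h5 r hr (not_lt.mp hge) hrd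
      have h2 := hr.two_le
      interval_cases r
      · left; rfl
      · right; rfl
      · exact absurd hr (by norm_num)
    by_cases h2 : 2 ∣ Nat.card G
    · by_cases h3 : 3 ∣ Nat.card G
      · exfalso
        -- the order is `2 ^ a * 3 ^ b`
        obtain ⟨a, m, hm2, hm⟩ := Nat.exists_eq_pow_mul_and_not_dvd hn0 2 (by norm_num)
        have hm0 : m ≠ 0 := by
          rintro rfl
          rw [mul_zero] at hm; exact hn0 hm
        obtain ⟨b, m', hm3, hm'⟩ := Nat.exists_eq_pow_mul_and_not_dvd hm0 3 (by norm_num)
        have hm'1 : m' = 1 := by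
          by_contra hne
          obtain ⟨r, hr, hrd⟩ := Nat.exists_prime_and_dvd hne
          have hrm : r ∣ m := hm' ▸ Dvd.dvd.mul_left hrd _
          have hrn : r ∣ Nat.card G := hm ▸ Dvd.dvd.mul_left hrm _
          rcases hsmall r hr hrn with rfl | rfl
          · exact hm2 hrm
          · exact hm3 hrd
        rw [hm'1, mul_one] at hm'
        rw [hm'] at hm
        have hsolv : Group.IsSolvable G :=
          Cfsg.Agent.Lib.Helper2.isSolvable_of_card_eq_prime_pow_mul_prime_pow 2 3 (by norm_num)
            (by norm_num) _ G rfl ⟨a, b, hm⟩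
        haveI : Nontrivial G := by
          rw [← Finite.one_lt_card_iff_nontrivial]
          have := Nat.le_of_dvd Nat.card_pos h2
          omega
        have hcomm : _root_.commutator G ≠ ⊤ :=
          (Group.IsSolvable.commutator_lt_top_of_nontrivial G).ne
        -- a prime dividing the order of the abelianization
        have hcardQ : Nat.card (Abelianization G) ≠ 1 := by
          intro h1
          apply hcomm
          rw [← Subgroup.index_eq_one]
          exact h1
        obtain ⟨r, hr, hrd⟩ := Nat.exists_prime_and_dvd hcardQ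
        haveI : Fact r.Prime := ⟨hr⟩
        have hrn : r ∣ Nat.card G :=
          hrd.trans (Subgroup.card_quotient_dvd_card (_root_.commutator G))
        obtain ⟨r', hr', hne, hr'n⟩ : ∃ r' : ℕ, r'.Prime ∧ r' ≠ r ∧ r' ∣ Nat.card G := by
          rcases hsmall r hr hrn with rfl | rfl
          · exact ⟨3, by norm_num, by norm_num, h3⟩
          · exact ⟨2, by norm_num, by norm_num, h2⟩
        -- the preimage of the `r`-th powers of the abelianization
        obtain ⟨N, hNdef⟩ : ∃ N : Subgroup G, N =
            ((powMonoidHom r : Abelianization G →* Abelianization G).range).comap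
              (Abelianization.of : G →* Abelianization G) := ⟨_, rfl⟩
        haveI hNn : N.Normal := by
          rw [hNdef]
          haveI : ((powMonoidHom r : Abelianization G →* Abelianization G).range).Normal :=
            Subgroup.normal_of_isMulCommutative _
          infer_instance
        have hofsurj : Function.Surjective (Abelianization.of : G →* Abelianization G) :=
          QuotientGroup.mk_surjective
        have hNtop : N ≠ ⊤ := by
          intro hN'
          obtain ⟨y, hy⟩ := exists_prime_orderOf_dvd_card' r hrd
          have hsurj : Function.Surjective (powMonoidHom r :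
              Abelianization G →* Abelianization G) := by
            intro z
            obtain ⟨g, rfl⟩ := hofsurj z
            have hg : g ∈ N := hN' ▸ Subgroup.mem_top g
            rw [hNdef, Subgroup.mem_comap] at hg
            exact hg
          have hinj := (Finite.injective_iff_surjective).mpr hsurj
          have h1 : (powMonoidHom r : Abelianization G →* _) y = 1 := by
            rw [powMonoidHom_apply, ← hy, pow_orderOf_eq_one]
          have h2 : y = 1 := hinj (h1.trans (map_one _).symm)
          rw [h2, orderOf_one] at hy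
          exact hr.one_lt.ne hy
        have hq : IsPGroup r (G ⧸ N) := by
          intro z
          obtain ⟨g, rfl⟩ := QuotientGroup.mk_surjective z
          refine ⟨1, ?_⟩
          rw [pow_one, ← QuotientGroup.mk_pow, QuotientGroup.eq_one_iff, hNdef, Subgroup.mem_comap]
          exact ⟨Abelianization.of g, by rw [powMonoidHom_apply, map_pow]⟩
        exact key N hNtop r hr hq r' hr' hne hr'n
      · refine ⟨2, by norm_num, single 2 (by norm_num) fun r hr hrd => ?_⟩
        rcases hsmall r hr hrd with rfl | rfl
        · rfl
        · exact absurd hrd h3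
    · refine ⟨3, by norm_num, single 3 (by norm_num) fun r hr hrd => ?_⟩
      rcases hsmall r hr hrd with rfl | rfl
      · exact absurd hrd h2
      · rfl

end Cfsg.Agent.S1992
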