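import Mathlib
import Cfsg.Statements.S1996
import Cfsg.Agent.H5.FamFusion4

set_option autoImplicit false
universe u
open Cfsg

namespace Cfsg.Agent.S1996

/-- Let p be a prime, G a finite group and W₁, W₂ two isomorphism-invariant p-group functors (W assigns to every group Q a subgroup W(Q), nontrivial whenever Q is a nontrivial finite p-group, and every isomorphism from a finite p-group Q onto a group R carries W(Q) onto W(R)). Suppose that G* = N_{G*}(W₁(S*)) N_{G*}(W₂(S*)) whenever G* = K/R is a section of G with C_{G*}(O_p(G*)) ≤ O_p(G*) and S* is a Sylow p-subgroup of G*. Then the pair {W₁, W₂} controls strong fusion in G. -/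
theorem result {G : Type u} [Group G] [Finite G] {p : ℕ} [Fact p.Prime] (W₁ W₂ : ∀ (Q : Type u) [Group Q], Subgroup Q) (hW₁ : Cfsg.IsCharPFunctor.{u} p W₁) (hW₂ : Cfsg.IsCharPFunctor.{u} p W₂) (hfac : ∀ (K R : Subgroup G) [hR : (R.subgroupOf K).Normal], Subgroup.centralizer ((Cfsg.pCore p (↥K ⧸ R.subgroupOf K) : Subgroup (↥K ⧸ R.subgroupOf K)) : Set (↥K ⧸ R.subgroupOf K)) ≤ Cfsg.pCore p (↥K ⧸ R.subgroupOf K) → ∀ T : Sylow p (↥K ⧸ R.subgroupOf K), ∀ x : (↥K ⧸ R.subgroupOf K), ∃ a ∈ Subgroup.normalizer ((Cfsg.inducedFunctor (G := (↥K ⧸ R.subgroupOf K)) W₁ (T : Subgroup (↥K ⧸ R.subgroupOf K)) : Subgroup (↥K ⧸ R.subgroupOf K)) : Set (↥K ⧸ R.subgroupOf K)), ∃ b ∈ Subgroup.normalizer ((Cfsg.inducedFunctor (G := (↥K ⧸ R.subgroupOf K)) W₂ (T : Subgroup (↥K ⧸ R.subgroupOf K)) : Subgroup (↥K ⧸ R.subgroupOf K)) : Set (↥K ⧸ R.subgroupOf K)), x = a * b) : Cfsg.FamilyControlsStrongFusionIn p {Cfsg.inducedFunctor (G := G) W₁, Cfsg.inducedFunctor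 (G := G) W₂} ⊤ := by
  have h𝓦 : ∀ W' ∈ ({W₁, W₂} : Set (∀ (Q : Type u) [Group Q], Subgroup Q)),
      Cfsg.IsCharPFunctor.{u} p W' := by
    intro W' hW'
    rcases hW' with h | h
    · rw [h]; exact hW₁
    · rw [Set.mem_singleton_iff] at h
      rw [h]; exact hW₂
  have himg : ∀ (X : Type u) [Group X],
      Cfsg.H5.FF.fam ({W₁, W₂} : Set (∀ (Q : Type u) [Group Q], Subgroup Q)) X =
        {Cfsg.inducedFunctor (G := X) W₁, Cfsg.inducedFunctor (G := X) W₂} := by
    intro X _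
    unfold Cfsg.H5.FF.fam
    rw [Set.image_pair]
  have hyp : Cfsg.H5.FF.Hyp p ({W₁, W₂} : Set (∀ (Q : Type u) [Group Q], Subgroup Q)) G := by
    apply Cfsg.H5.FF.hyp_of_sections h𝓦
    intro K R hR hc
    obtain ⟨T⟩ : Nonempty (Sylow p (↥K ⧸ R.subgroupOf K)) := inferInstance
    rw [Cfsg.Agent.S1959.fam_iff, himg]
    refine ⟨(T : Subgroup (↥K ⧸ R.subgroupOf K)), le_top, T.isPGroup', ?_, ?_⟩
    · rw [Subgroup.relIndex_top_right]; exact T.not_dvd_index
    · intro A h _ hA hAh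
      exact Cfsg.H5.FF.real_of_factorization T _ _
        (Subgroup.le_normalizer.trans
          (Cfsg.Agent.Lib.Helper13.normalizer_le_normalizer_inducedFunctor hW₁ _ T.isPGroup'))
        (Subgroup.le_normalizer.trans
          (Cfsg.Agent.Lib.Helper13.normalizer_le_normalizer_inducedFunctor hW₂ _ T.isPGroup'))
        (hfac K R hc T) A h hA hAh
  have := Cfsg.H5.FF.familyControls_of_hyp h𝓦 hyp
  rwa [himg] at this

end Cfsg.Agent.S1996
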