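import Cfsg.Statements.S1998
import Cfsg.Agent.Lib.Helper18.TransferMinC

set_option autoImplicit false
universe u
open Cfsg

namespace Cfsg.Agent.S1998

open Cfsg.Agent.Lib.Helper13 Cfsg.Agent.Lib.Helper18.Transfer Cfsg.Agent.Lib.Helper18.TransferMin

/-- Let p be a prime, G a finite group with Sylow p-subgroup S, and 𝓦 a nonempty set of isomorphism-invariant p-group functors (W assigns to every group Q a subgroup W(Q), nontrivial whenever Q is a nontrivial finite p-group, and every isomorphism from a finite p-group Q onto a group R carries W(Q) onto W(R)). Suppose the induced conjugacy functors control transfer in every section of G other than G itself, but not in G. Let T be the subgroup generated by the S ∩ (N_G(W(S)))', W ∈ 𝓦, and M = N_G(T ∩ O_p(G)). Then: C_G(O_p(G)) ≤ O_p(G); M is a proper subgroup of G containing every proper subgroup of G that contains S (the unique maximal subgroup over S); [O_p(G), M] ≤ O_p(G) ∩ M' ≤ O_p(G) ∩ T;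 and every element u of S outside O_p(G) satisfies [X, u, …, u] ≰ Y with p − 1 entries u, for some chief factor X/Y of G with X ≤ O_p(G). -/
theorem result {G : Type u} [Group G] [Finite G] {p : ℕ} [Fact p.Prime] (S : Sylow p G) (𝓦 : Set (∀ (Q : Type u) [Group Q], Subgroup Q)) (h𝓦 : ∀ W ∈ 𝓦, Cfsg.IsCharPFunctor.{u} p W) (hne : 𝓦.Nonempty) (hsec : ∀ (K R : Subgroup G) [hR : (R.subgroupOf K).Normal], (K = ⊤ → R ≠ ⊥) → Cfsg.FamilyControlsTransferIn p ((fun W => Cfsg.inducedFunctor (G := (↥K ⧸ R.subgroupOf K)) W) '' 𝓦) ⊤) (hG : ¬ Cfsg.FamilyControlsTransferIn p ((fun W => Cfsg.inducedFunctor (G := G) W) '' 𝓦) ⊤) (T M : Subgroup G) (hT : T = (⨆ W ∈ 𝓦, (S : Subgroup G) ⊓ ⁅Subgroup.normalizer ((Cfsg.inducedFunctor (G := G) W (S : Subgroup G) : Subgroup G) : Set G), Subgroup.normalizer ((Cfsg.inducedFunctor (G := G) W (S : Subgroup G) : Subgroup G) : Set G)⁆)) (hM : M = Subgroup.normalizer ((T ⊓ Cfsg.pCore p G : Subgroup G) : Set G)) : Subgroup.centralizer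 ((Cfsg.pCore p G : Subgroup G) : Set G) ≤ Cfsg.pCore p G ∧ (M ≠ ⊤ ∧ ∀ H : Subgroup G, (S : Subgroup G) ≤ H → H ≠ ⊤ → H ≤ M) ∧ (⁅Cfsg.pCore p G, M⁆ ≤ Cfsg.pCore p G ⊓ ⁅M, M⁆ ∧ Cfsg.pCore p G ⊓ ⁅M, M⁆ ≤ Cfsg.pCore p G ⊓ T) ∧ ∀ u : G, u ∈ (S : Subgroup G) → u ∉ Cfsg.pCore p G → ∃ U V : Subgroup G, Cfsg.IsChiefFactor U V ∧ U ≤ Cfsg.pCore p G ∧ ¬ Cfsg.iterCommutator U (Subgroup.zpowers u) (p - 1) ≤ V := by
  have hTF : T = FocIn 𝓦 ⊤ (S : Subgroup G) := by
    rw [hT]; unfold FocIn NW; simp only [top_inf_eq]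
  have hsecAll : SecAll (TrLt p 𝓦 (Nat.card G)) G := by
    intro K R hR hfin hcard S'
    have hKR : K = ⊤ → R ≠ ⊥ := by
      intro hK hRb
      subst hK; subst hRb
      have := Nat.card_congr (sectionTopBot G).toEquiv
      omega
    have hc := hsec K R hKR
    have hconj : ∀ W' ∈ (fun W => Cfsg.inducedFunctor (G := (↥K ⧸ R.subgroupOf K)) W) '' 𝓦,
        Cfsg.IsConjugacyFunctor p W' := by
      rintro W' ⟨W, hW, rfl⟩
      exact isConjugacyFunctor_inducedFunctor (h𝓦 W hW) _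
    have h1 := Cfsg.Agent.S1960.famtransfer_any_sylow _ hconj ⊤ hc (S' : Subgroup (↥K ⧸ R.subgroupOf K)) le_top
      S'.isPGroup' (by rw [Subgroup.relIndex_top_right]; exact S'.not_dvd_index)
    rw [iSup_image] at h1
    exact h1.le
  have hm : MinFail p 𝓦 S :=
    { hsub := hsub_of_secAll h𝓦 hsecAll
      hquot := hquot_of_secAll h𝓦 hsecAll
      hnot := by
        intro hle
        apply hG
        refine ⟨S, le_top, S.isPGroup', by rw [Subgroup.relIndex_top_right]; exact S.not_dvd_index, ?_⟩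
        rw [iSup_image]
        exact le_antisymm hle (focIn_le _ _) }
  subst hM
  rw [hTF]
  have hPn := Cfsg.H5.pCore_normal p G
  have hPS : Cfsg.pCore p G ≤ (S : Subgroup G) := (Cfsg.H5.pCore_isPGroup p G).le_sylow_of_normal S
  refine ⟨hm.constrained h𝓦, ⟨hm.normalizer_ne_top h𝓦 hne, fun H hSH hH => hm.le_normalizer H hSH hH⟩,
    ⟨?_, hm.pCore_inf_commutator_le h𝓦 hne⟩, fun u huS huP => hm.exists_chief h𝓦 hne u huS huP⟩
  exact le_inf (Subgroup.commutator_le_left _ _)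
    (Subgroup.commutator_mono (hPS.trans (hm.sylow_le_normalizer h𝓦 hne)) le_rfl)

end Cfsg.Agent.S1998
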