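import Cfsg.Statements.S2001
import Cfsg.Agent.Lib.Helper13.AlperinGoldschmidt
import Cfsg.Agent.S1961
import Cfsg.Agent.S1963

set_option autoImplicit false
open Cfsg

namespace Cfsg.Agent.S2001

open Cfsg.Agent.Lib.Helper13 Cfsg.Agent.S1965
open scoped commutatorElement Pointwise

variable {G : Type*} [Group G]

/-- the first factor -/
def A0 (W : Subgroup G → Subgroup G) (Q : Subgroup G) : Subgroup G :=
  Q ⊓ ⁅Subgroup.normalizer ((W Q : Subgroup G) : Set G), Subgroup.normalizer ((W Q : Subgroup G) : Set G)⁆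

/-- the second factor -/
def B0 (V : Subgroup G → Subgroup G) (Q : Subgroup G) : Subgroup G :=
  Q ⊓ ⁅Subgroup.centralizer ((V Q : Subgroup G) : Set G), Subgroup.centralizer ((V Q : Subgroup G) : Set G)⁆

/-- the target subgroup -/
def F0 (W V : Subgroup G → Subgroup G) (Q : Subgroup G) : Subgroup G := A0 W Q ⊔ B0 V Q

theorem centralizer_map_conj (V : Subgroup G) (n : G) :
    Subgroup.centralizer ((V.map (MulAut.conj n).toMonoidHom : Subgroup G) : Set G) =
      (Subgroup.centralizer (V : Set G)).map (MulAut.conj n).toMonoidHom := by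
  ext y
  rw [mem_map_conj_iff, Subgroup.mem_centralizer_iff, Subgroup.mem_centralizer_iff]
  constructor
  · intro h v hv
    have h1 := h (n * v * n⁻¹) (conj_mem_map_conj V n hv)
    calc v * (n⁻¹ * y * n) = n⁻¹ * ((n * v * n⁻¹) * y) * n := by group
      _ = n⁻¹ * (y * (n * v * n⁻¹)) * n := by rw [h1]
      _ = n⁻¹ * y * n * v := by group
  · intro h v hv
    have hv' : v ∈ V.map (MulAut.conj n).toMonoidHom := hv
    rw [mem_map_conj_iff] at hv'
    have h1 := h _ hv'
    calc v * y = n * ((n⁻¹ * v * n) * (n⁻¹ * y * n)) * n⁻¹ := by group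
      _ = n * ((n⁻¹ * y * n) * (n⁻¹ * v * n)) * n⁻¹ := by rw [h1]
      _ = y * v := by group

theorem conj_mem_commutator_self (N : Subgroup G) {h x : G} (hh : h ∈ N) (hx : x ∈ ⁅N, N⁆) :
    h * x * h⁻¹ ∈ ⁅N, N⁆ := by
  have hxN : x ∈ N := by
    have hle : ⁅N, N⁆ ≤ N := by
      rw [Subgroup.commutator_le]
      intro g₁ h₁ g₂ h₂
      rw [commutatorElement_def]
      exact N.mul_mem (N.mul_mem (N.mul_mem h₁ h₂) (N.inv_mem h₁)) (N.inv_mem h₂)
    exact hle hx
  have : h * x * h⁻¹ = ⁅h, x⁆ * x := by rw [commutatorElement_def]; group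
  rw [this]
  exact Subgroup.mul_mem _ (Subgroup.commutator_mem_commutator hh hxN) hx

section
variable [Finite G] {p : ℕ} [Fact p.Prime]

/-- the local control property, transported to any Sylow subgroup of `N(H)` -/
theorem local_any_sylow (W V : Subgroup G → Subgroup G) (hW : Cfsg.IsConjugacyFunctor p W)
    (hV : Cfsg.IsConjugacyFunctor p V) (H Q T : Subgroup G)
    (hQH : Q ≤ Subgroup.normalizer ((H : Subgroup G) : Set G)) (hQp : IsPGroup p ↥Q)
    (hQi : ¬ p ∣ (Q).relIndex (Subgroup.normalizer ((H : Subgroup G) : Set G)))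
    (hQ : ∀ x : G, x ∈ Q ⊓ ⁅Subgroup.normalizer ((H : Subgroup G) : Set G), Subgroup.normalizer ((H : Subgroup G) : Set G)⁆ → ∃ a ∈ Q ⊓ ⁅Subgroup.normalizer ((H : Subgroup G) : Set G) ⊓ Subgroup.normalizer ((W Q : Subgroup G) : Set G), Subgroup.normalizer ((H : Subgroup G) : Set G) ⊓ Subgroup.normalizer ((W Q : Subgroup G) : Set G)⁆, ∃ b ∈ Q ⊓ ⁅Subgroup.normalizer ((H : Subgroup G) : Set G) ⊓ Subgroup.centralizer ((V Q : Subgroup G) : Set G), Subgroup.normalizer ((H : Subgroup G) : Set G) ⊓ Subgroup.centralizer ((V Q : Subgroup G) : Set G)⁆, x = a * b)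
    (hTH : T ≤ Subgroup.normalizer ((H : Subgroup G) : Set G)) (hTp : IsPGroup p ↥T)
    (hTi : ¬ p ∣ (T).relIndex (Subgroup.normalizer ((H : Subgroup G) : Set G))) :
    T ⊓ ⁅Subgroup.normalizer ((H : Subgroup G) : Set G), Subgroup.normalizer ((H : Subgroup G) : Set G)⁆ ≤ F0 W V T := by
  set N : Subgroup G := Subgroup.normalizer ((H : Subgroup G) : Set G) with hN
  obtain ⟨h, hhN, hh⟩ := exists_conj_le_of_relIndex N Q T hQp hQi hTH hTp
  have hmapN : N.map (MulAut.conj h).toMonoidHom = N :=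
    (map_conj_eq_self_iff_mem_normalizer N h).mpr (Subgroup.le_normalizer hhN)
  have hQeq : Q = T.map (MulAut.conj h).toMonoidHom := by
    apply eq_of_le_of_not_dvd_relIndex (p := p) N
    · rw [map_conj_le_iff]; exact hh
    · exact hQH
    · exact hQp
    · have := relIndex_map_conj T N h
      rw [hmapN] at this
      rw [this]; exact hTi
  have hWQ : W Q = (W T).map (MulAut.conj h).toMonoidHom := by
    rw [hQeq]; exact (hW T hTp).2.2 h
  have hVQ : V Q = (V T).map (MulAut.conj h).toMonoidHom := by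
    rw [hQeq]; exact (hV T hTp).2.2 h
  intro x hx
  obtain ⟨hxT, hxN⟩ := Subgroup.mem_inf.mp hx
  have hx' : h * x * h⁻¹ ∈ Q ⊓ ⁅N, N⁆ :=
    Subgroup.mem_inf.mpr ⟨hh x hxT, conj_mem_commutator_self N hhN hxN⟩
  obtain ⟨a, ha, b, hb, hab⟩ := hQ _ hx'
  obtain ⟨haQ, haC⟩ := Subgroup.mem_inf.mp ha
  obtain ⟨hbQ, hbC⟩ := Subgroup.mem_inf.mp hb
  have haT : h⁻¹ * a * h ∈ T := by
    have : a ∈ T.map (MulAut.conj h).toMonoidHom := hQeq ▸ haQ
    rwa [mem_map_conj_iff] at this
  have hbT : h⁻¹ * b * h ∈ T := by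
    have : b ∈ T.map (MulAut.conj h).toMonoidHom := hQeq ▸ hbQ
    rwa [mem_map_conj_iff] at this
  have haC' : h⁻¹ * a * h ∈ ⁅Subgroup.normalizer ((W T : Subgroup G) : Set G), Subgroup.normalizer ((W T : Subgroup G) : Set G)⁆ := by
    have h1 : a ∈ ⁅Subgroup.normalizer ((W Q : Subgroup G) : Set G), Subgroup.normalizer ((W Q : Subgroup G) : Set G)⁆ :=
      Subgroup.commutator_mono inf_le_right inf_le_right haC
    rw [hWQ, normalizer_map_conj, ← Subgroup.map_commutator, mem_map_conj_iff] at h1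
    exact h1
  have hbC' : h⁻¹ * b * h ∈ ⁅Subgroup.centralizer ((V T : Subgroup G) : Set G), Subgroup.centralizer ((V T : Subgroup G) : Set G)⁆ := by
    have h1 : b ∈ ⁅Subgroup.centralizer ((V Q : Subgroup G) : Set G), Subgroup.centralizer ((V Q : Subgroup G) : Set G)⁆ :=
      Subgroup.commutator_mono inf_le_right inf_le_right hbC
    rw [hVQ, centralizer_map_conj, ← Subgroup.map_commutator, mem_map_conj_iff] at h1
    exact h1
  have hxab : x = (h⁻¹ * a * h) * (h⁻¹ * b * h) := by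
    calc x = h⁻¹ * (h * x * h⁻¹) * h := by group
      _ = h⁻¹ * (a * b) * h := by rw [hab]
      _ = (h⁻¹ * a * h) * (h⁻¹ * b * h) := by group
  rw [hxab]
  exact Subgroup.mul_mem _ (Subgroup.mem_sup_left (Subgroup.mem_inf.mpr ⟨haT, haC'⟩))
    (Subgroup.mem_sup_right (Subgroup.mem_inf.mpr ⟨hbT, hbC'⟩))

/-- the climbing claim -/
theorem climb (P : Sylow p G) (W V : Subgroup G → Subgroup G) (hW : Cfsg.IsConjugacyFunctor p W)
    (hV : Cfsg.IsConjugacyFunctor p V) (hPne : (P : Subgroup G) ≠ ⊥)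
    (hWZ : ∀ H : Subgroup G, IsPGroup p ↥H → H ⊓ Subgroup.centralizer ((H : Subgroup G) : Set G) ≤ W H)
    (hVmono : ∀ H K : Subgroup G, IsPGroup p ↥H → IsPGroup p ↥K → H ≠ ⊥ → K ≠ ⊥ → H ⊓ Subgroup.centralizer ((H : Subgroup G) : Set G) ≤ K ⊓ Subgroup.centralizer ((K : Subgroup G) : Set G) → V H ≤ V K)
    (hloc : ∀ H : Subgroup G, (P : Subgroup G) ⊓ Subgroup.centralizer (((P : Subgroup G) : Subgroup G) : Set G) ≤ H → H ≤ (P : Subgroup G) → ∃ Q : Subgroup G, Q ≤ Subgroup.normalizer ((H : Subgroup G) : Set G) ∧ IsPGroup p ↥Q ∧ ¬ p ∣ (Q).relIndex (Subgroup.normalizer ((H : Subgroup G) : Set G)) ∧ ∀ x : G, x ∈ Q ⊓ ⁅Subgroup.normalizer ((H : Subgroup G) : Set G), Subgroup.normalizer ((H : Subgroup G) : Set G)⁆ ↔ ∃ a ∈ Q ⊓ ⁅Subgroup.normalizer ((H : Subgroup G) : Set G) ⊓ Subgroup.normalizer ((W Q : Subgroup G) : Set G), Subgroup.normalizer ((H : Subgroup G) : Set G) ⊓ Subgroup.normalizer ((W Q : Subgroup G) : Set G)⁆, ∃ b ∈ Q ⊓ ⁅Subgroup.normalizer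 ((H : Subgroup G) : Set G) ⊓ Subgroup.centralizer ((V Q : Subgroup G) : Set G), Subgroup.normalizer ((H : Subgroup G) : Set G) ⊓ Subgroup.centralizer ((V Q : Subgroup G) : Set G)⁆, x = a * b) :
    ∀ (m : ℕ) (H : Subgroup G),
      (P : Subgroup G) ⊓ Subgroup.centralizer (((P : Subgroup G) : Subgroup G) : Set G) ≤ H →
      Cfsg.IsWellPlaced p W (P : Subgroup G) H →
      Nat.card (P : Subgroup G) - Nat.card ((P : Subgroup G) ⊓ Subgroup.normalizer (H : Set G) : Subgroup G) = m →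
      ((P : Subgroup G) ⊓ Subgroup.normalizer (H : Set G)) ⊓
        ⁅Subgroup.normalizer (H : Set G), Subgroup.normalizer (H : Set G)⁆ ≤ F0 W V (P : Subgroup G) := by
  intro m
  induction m using Nat.strong_induction_on with
  | _ m ih =>
    intro H hZH hHwp hm
    have hP := P.isPGroup'
    set PS : Subgroup G := (P : Subgroup G) with hPS
    set T : Subgroup G := PS ⊓ Subgroup.normalizer (H : Set G) with hT
    have hTp : IsPGroup p T := hP.to_le inf_le_left
    have hHT : H ≤ T := le_inf hHwp.1 Subgroup.le_normalizer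
    obtain ⟨Q, hQH, hQp, hQi, hQ⟩ := hloc H hZH hHwp.1
    have hloc' := local_any_sylow W V hW hV H Q T hQH hQp hQi (fun x hx => (hQ x).mp hx) inf_le_right hTp (hHwp.2 0)
    have hTne : T ≠ ⊥ := by
      intro h0
      have hH0 : H = ⊥ := le_bot_iff.mp (h0 ▸ hHT)
      have : T = PS := by
        rw [hT, hH0]
        have : Subgroup.normalizer (((⊥ : Subgroup G) : Subgroup G) : Set G) = ⊤ := by
          rw [eq_top_iff]
          intro g _
          rw [Subgroup.mem_normalizer_iff]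
          intro y
          simp only [Subgroup.mem_bot]
          constructor
          · rintro rfl; group
          · intro hy
            calc y = g⁻¹ * (g * y * g⁻¹) * g := by group
              _ = 1 := by rw [hy]; group
        rw [this, inf_top_eq]
      exact hPne (this ▸ h0)
    have hZT : PS ⊓ Subgroup.centralizer (PS : Set G) ≤ T ⊓ Subgroup.centralizer (T : Set G) :=
      le_inf (hZH.trans hHT) (inf_le_right.trans (Subgroup.centralizer_le (by exact_mod_cast (inf_le_left : T ≤ PS))))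
    refine hloc'.trans (sup_le ?_ ?_)
    · -- the normalizer part
      by_cases hTPSeq : T = PS
      · rw [hTPSeq]; exact le_sup_left
      · have hlt : T < PS := lt_of_le_of_ne inf_le_left hTPSeq
        set U : Subgroup G := W T with hU
        have hUwp : IsWellPlaced p W PS U := Cfsg.Agent.S1961.wellPlaced_shift W hW _ H hP hHwp
        have hZU : PS ⊓ Subgroup.centralizer (PS : Set G) ≤ U := hZT.trans (hWZ T hTp)
        have hgrow : T < PS ⊓ Subgroup.normalizer (T : Set G) :=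
          lt_inf_normalizer_of_lt PS T hP hlt
        have hle : PS ⊓ Subgroup.normalizer (T : Set G) ≤ PS ⊓ Subgroup.normalizer (U : Set G) :=
          inf_le_inf_left _ (Cfsg.Agent.S1961.normalizer_le_normalizer_functor W hW T hTp)
        have hlt2 : T < PS ⊓ Subgroup.normalizer (U : Set G) := lt_of_lt_of_le hgrow hle
        have hcard : Nat.card T < Nat.card (PS ⊓ Subgroup.normalizer (U : Set G) : Subgroup G) :=
          card_lt_card_of_lt hlt2
        have hcardS : Nat.card (PS ⊓ Subgroup.normalizer (U : Set G) : Subgroup G) ≤ Nat.card PS :=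
          Subgroup.card_le_of_le inf_le_left
        have h1 := ih _ (by omega) U hZU hUwp rfl
        exact (inf_le_inf_right _ hlt2.le).trans h1
    · -- the centralizer part
      have hVle : V PS ≤ V T := hVmono PS T hP hTp hPne hTne hZT
      have hC : Subgroup.centralizer ((V T : Subgroup G) : Set G) ≤ Subgroup.centralizer ((V PS : Subgroup G) : Set G) :=
        Subgroup.centralizer_le (by exact_mod_cast hVle)
      exact (inf_le_inf inf_le_left (Subgroup.commutator_mono hC hC)).trans le_sup_right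

end

/-- Let p be a prime dividing the order of the finite group G, P a Sylow p-subgroup, W a conjugacy functor for p on G with Z(H) ≤ W(H) for every nontrivial p-subgroup H, and V a central functor: a conjugacy functor with V(H) ≤ Z(H), and V(H) ≤ V(K) whenever Z(H) ≤ Z(K), for nontrivial p-subgroups H, K. Say that W with V controls transfer in a subgroup L when some Sylow p-subgroup Q of L satisfies Q ∩ L' = (Q ∩ (N_L(W(Q)))')·(Q ∩ (C_L(V(Q)))') as a product of two subgroups. If W with V controls transfer in N_G(H) for every subgroup H with Z(P) ≤ H ≤ P, then W with V controls transfer in G. -/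
theorem result {G : Type*} [Group G] [Finite G] {p : ℕ} [Fact p.Prime] (hdiv : p ∣ Nat.card G) (P : Sylow p G) (W V : Subgroup G → Subgroup G) (hW : Cfsg.IsConjugacyFunctor p W) (hV : Cfsg.IsConjugacyFunctor p V) (hWZ : ∀ H : Subgroup G, IsPGroup p ↥H → H ⊓ Subgroup.centralizer ((H : Subgroup G) : Set G) ≤ W H) (hVZ : ∀ H : Subgroup G, IsPGroup p ↥H → V H ≤ H ⊓ Subgroup.centralizer ((H : Subgroup G) : Set G)) (hVmono : ∀ H K : Subgroup G, IsPGroup p ↥H → IsPGroup p ↥K → H ≠ ⊥ → K ≠ ⊥ → H ⊓ Subgroup.centralizer ((H : Subgroup G) : Set G) ≤ K ⊓ Subgroup.centralizer ((K : Subgroup G) : Set G) → V H ≤ V K) (hloc : ∀ H : Subgroup G, (P : Subgroup G) ⊓ Subgroup.centralizer (((P : Subgroup G) : Subgroup G) : Set G) ≤ H → H ≤ (P : Subgroup G) → ∃ Q : Subgroup G, Q ≤ Subgroup.normalizer ((H : Subgroup G) : Set G) ∧ IsPGroup p ↥Q ∧ ¬ p ∣ (Q).relIndex (Subgroup.normalizer ((H : Subgroup G) : Set G)) ∧ ∀ x : G, x ∈ Q ⊓ ⁅Subgroup.normalizer ((H : Subgroup G)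 : Set G), Subgroup.normalizer ((H : Subgroup G) : Set G)⁆ ↔ ∃ a ∈ Q ⊓ ⁅Subgroup.normalizer ((H : Subgroup G) : Set G) ⊓ Subgroup.normalizer ((W Q : Subgroup G) : Set G), Subgroup.normalizer ((H : Subgroup G) : Set G) ⊓ Subgroup.normalizer ((W Q : Subgroup G) : Set G)⁆, ∃ b ∈ Q ⊓ ⁅Subgroup.normalizer ((H : Subgroup G) : Set G) ⊓ Subgroup.centralizer ((V Q : Subgroup G) : Set G), Subgroup.normalizer ((H : Subgroup G) : Set G) ⊓ Subgroup.centralizer ((V Q : Subgroup G) : Set G)⁆, x = a * b) : ∃ Q : Subgroup G, IsPGroup p ↥Q ∧ ¬ p ∣ Q.index ∧ ∀ x : G, x ∈ Q ⊓ commutator G ↔ ∃ a ∈ Q ⊓ ⁅Subgroup.normalizer ((W Q : Subgroup G) : Set G), Subgroup.normalizer ((W Q : Subgroup G) : Set G)⁆, ∃ b ∈ Q ⊓ ⁅Subgroup.centralizer ((V Q : Subgroup G) : Set G), Subgroup.centralizer ((V Q : Subgroup G) : Set G)⁆, x = a * b := by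
  have hP := P.isPGroup'
  set PS : Subgroup G := (P : Subgroup G) with hPS
  have hPne : PS ≠ ⊥ := by
    intro h0
    have h1 : ¬ p ∣ PS.index := P.not_dvd_index
    rw [h0, Subgroup.index_bot] at h1
    exact h1 hdiv
  -- the family of well placed subgroups
  set 𝓕 : Set (Subgroup G) := {T : Subgroup G | Cfsg.IsWellPlaced p W PS T} with h𝓕def
  have h𝓕S : ∀ U ∈ 𝓕, U ≤ PS := fun U hU => hU.1
  have h𝓕t : ∀ U ∈ 𝓕, ¬ p ∣ (PS ⊓ Subgroup.normalizer ((U : Subgroup G) : Set G)).relIndex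
      (Subgroup.normalizer ((U : Subgroup G) : Set G)) := fun U hU => hU.2 0
  have hfam : ∀ T : Subgroup G, T ≤ PS → ∃ U ∈ 𝓕, (∃ g : G, T.map (MulAut.conj g).toMonoidHom = U) ∧
      ¬ p ∣ (PS ⊓ Subgroup.normalizer ((U : Subgroup G) : Set G)).relIndex (Subgroup.normalizer ((U : Subgroup G) : Set G)) := by
    intro T hT
    obtain ⟨g, hg⟩ := Cfsg.Agent.S1963.result P W hW T hT
    exact ⟨T.map (MulAut.conj g).toMonoidHom, hg, ⟨g, rfl⟩, hg.2 0⟩
  set 𝓕' : Set (Subgroup G) := {U | U ∈ 𝓕 ∧ PS ⊓ Subgroup.centralizer (U : Set G) ≤ U} with h𝓕'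
  have chain : ∀ (L : List (Subgroup G × G)) (A : Set G), Cfsg.Agent.S1965.Valid 𝓕' A L →
      ∀ x ∈ A, x * (((L.map Prod.snd).prod)⁻¹ * x * (L.map Prod.snd).prod)⁻¹ ∈ F0 W V PS := by
    intro L
    induction L with
    | nil => intro A _ x _; simp
    | cons Ux L ihL =>
      obtain ⟨U, c⟩ := Ux
      rintro A ⟨⟨hUwp, hCU⟩, hcN, hAU, hrest⟩ x hxA
      have hxU : x ∈ U := hAU hxA
      have hUT : U ≤ PS ⊓ Subgroup.normalizer (U : Set G) := le_inf hUwp.1 Subgroup.le_normalizer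
      have hZU : PS ⊓ Subgroup.centralizer (PS : Set G) ≤ U :=
        le_trans (inf_le_inf_left _ (Subgroup.centralizer_le (by exact_mod_cast hUwp.1))) hCU
      have hcinv : c⁻¹ ∈ Subgroup.normalizer (U : Set G) := Subgroup.inv_mem _ hcN
      have hcx : c⁻¹ * x * c ∈ U := by
        have := (Subgroup.mem_normalizer_iff.mp hcinv x).mp hxU
        simpa using this
      have h6 : x * (c⁻¹ * x * c)⁻¹ ∈ F0 W V PS := by
        apply climb P W V hW hV hPne hWZ hVmono hloc _ U hZU hUwp rfl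
        refine Subgroup.mem_inf.mpr ⟨hUT (U.mul_mem hxU (U.inv_mem hcx)), ?_⟩
        have : x * (c⁻¹ * x * c)⁻¹ = ⁅x, c⁻¹⁆ := by rw [commutatorElement_def]; group
        rw [this]
        exact Subgroup.commutator_mem_commutator (Subgroup.le_normalizer hxU) hcinv
      have h5 := ihL _ hrest (c⁻¹ * x * c) ⟨x, hxA, rfl⟩
      have : x * (((((U, c) :: L).map Prod.snd).prod)⁻¹ * x * (((U, c) :: L).map Prod.snd).prod)⁻¹ =
          (x * (c⁻¹ * x * c)⁻¹) * ((c⁻¹ * x * c) * (((L.map Prod.snd).prod)⁻¹ * (c⁻¹ * x * c) *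
            (L.map Prod.snd).prod)⁻¹) := by
        simp only [List.map_cons, List.prod_cons]
        group
      rw [this]
      exact Subgroup.mul_mem _ h6 h5
  -- `P` is contained in the two subgroups whose derived groups occur
  have hPN : PS ≤ Subgroup.normalizer ((W PS : Subgroup G) : Set G) :=
    Subgroup.le_normalizer.trans (Cfsg.Agent.S1961.normalizer_le_normalizer_functor W hW PS hP)
  have hPC : PS ≤ Subgroup.centralizer ((V PS : Subgroup G) : Set G) := by
    intro y hy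
    rw [Subgroup.mem_centralizer_iff]
    intro v hv
    have hv' := (Subgroup.mem_inf.mp (hVZ PS hP hv)).2
    exact (Subgroup.mem_centralizer_iff.mp hv' y hy).symm
  -- the focal subgroup lies in `F0`
  have hmain : PS ⊓ commutator G ≤ F0 W V PS := by
    have hfocal : PS ⊓ commutator G = PS.focalSubgroup := by
      rw [inf_comm]
      exact Subgroup.commutator_inf_eq_focalSubgroup P
    rw [hfocal, Subgroup.focalSubgroup_def, Subgroup.closure_le]
    rintro g ⟨hgS, x, hxS, u, rfl⟩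
    have hux : u * x * u⁻¹ ∈ PS := by
      have : u * x * u⁻¹ = (⁅x, u⁆)⁻¹ * x := by rw [commutatorElement_def]; group
      rw [this]; exact Subgroup.mul_mem _ (Subgroup.inv_mem _ hgS) hxS
    have hcl : Subgroup.zpowers x ≤ PS := Subgroup.zpowers_le.mpr hxS
    have hclg : ∀ t ∈ Subgroup.zpowers x, (u⁻¹)⁻¹ * t * u⁻¹ ∈ PS := by
      intro t ht
      obtain ⟨k, rfl⟩ := Subgroup.mem_zpowers_iff.mp ht
      rw [inv_inv, ← conj_zpow]
      exact Subgroup.zpow_mem _ hux k
    obtain ⟨c0, hc0, g', ⟨L0, hL0, hL0g⟩, hag⟩ :=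
      creach_main P 𝓕 h𝓕S h𝓕t hfam _ (Subgroup.zpowers x) u⁻¹ hcl hclg rfl
    have h1 := chain L0 _ hL0 x (Subgroup.mem_zpowers x)
    rw [hL0g] at h1
    have hc0x : x * c0 = c0 * x := Subgroup.mem_centralizer_iff.mp hc0 x (Subgroup.mem_zpowers x)
    have hu : u = g'⁻¹ * c0⁻¹ := by
      calc u = (u⁻¹)⁻¹ := by group
        _ = (c0 * g')⁻¹ := by rw [hag]
        _ = g'⁻¹ * c0⁻¹ := by group
    have h2 : ⁅x, u⁆ = x * (g'⁻¹ * x * g')⁻¹ := by
      rw [commutatorElement_def, hu]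
      calc x * (g'⁻¹ * c0⁻¹) * x⁻¹ * (g'⁻¹ * c0⁻¹)⁻¹ = x * g'⁻¹ * (c0⁻¹ * (x * c0))⁻¹ * g' := by group
        _ = x * g'⁻¹ * (c0⁻¹ * (c0 * x))⁻¹ * g' := by rw [hc0x]
        _ = x * (g'⁻¹ * x * g')⁻¹ := by group
    show ⁅x, u⁆ ∈ F0 W V PS
    rw [h2]; exact h1
  -- `F0` is the elementwise product
  have hnorm : A0 W PS ≤ Subgroup.normalizer ((B0 V PS : Subgroup G) : Set G) := by
    intro y hy
    have hyP : y ∈ PS := (Subgroup.mem_inf.mp hy).1
    have hyinvP : y⁻¹ ∈ PS := Subgroup.inv_mem _ hyP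
    have key : ∀ z ∈ PS, ∀ b ∈ B0 V PS, z * b * z⁻¹ ∈ B0 V PS := by
      intro z hz b hb
      obtain ⟨hbP, hbC⟩ := Subgroup.mem_inf.mp hb
      refine Subgroup.mem_inf.mpr ⟨PS.mul_mem (PS.mul_mem hz hbP) (PS.inv_mem hz), ?_⟩
      exact conj_mem_commutator_self _ (hPC hz) hbC
    rw [Subgroup.mem_normalizer_iff]
    intro b
    constructor
    · exact key y hyP b
    · intro hb
      have := key y⁻¹ hyinvP _ hb
      have e : y⁻¹ * (y * b * y⁻¹) * y⁻¹⁻¹ = b := by group
      rwa [e] at this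
  have hprod : ((F0 W V PS : Subgroup G) : Set G) = (A0 W PS : Set G) * (B0 V PS : Set G) :=
    Subgroup.coe_mul_of_left_le_normalizer_right (A0 W PS) (B0 V PS) hnorm
  refine ⟨PS, hP, P.not_dvd_index, ?_⟩
  intro x
  constructor
  · intro hx
    have hx' : x ∈ ((F0 W V PS : Subgroup G) : Set G) := hmain hx
    rw [hprod] at hx'
    obtain ⟨a, ha, b, hb, hab⟩ := Set.mem_mul.mp hx'
    exact ⟨a, ha, b, hb, hab.symm⟩
  · rintro ⟨a, ha, b, hb, rfl⟩
    obtain ⟨haP, haC⟩ := Subgroup.mem_inf.mp ha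
    obtain ⟨hbP, hbC⟩ := Subgroup.mem_inf.mp hb
    refine Subgroup.mem_inf.mpr ⟨PS.mul_mem haP hbP, ?_⟩
    rw [commutator_def]
    exact Subgroup.mul_mem _ (Subgroup.commutator_mono le_top le_top haC)
      (Subgroup.commutator_mono le_top le_top hbC)

end Cfsg.Agent.S2001
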