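import Cfsg.Statements.S2002
import Cfsg.Agent.Lib.Helper13.AlperinGoldschmidt
import Cfsg.Agent.S1961
import Cfsg.Agent.S1963

set_option autoImplicit false
open Cfsg

namespace Cfsg.Agent.S2002

open Cfsg.Agent.Lib.Helper13 Cfsg.Agent.S1965

variable {G : Type*} [Group G]

/-- a chain of elements of `B`, all conjugates of `X` along the chain staying inside `S` -/
def GValid (S B : Set G) : Set G → List G → Prop
  | X, [] => X ⊆ S
  | X, b :: L => X ⊆ S ∧ b ∈ B ∧ GValid S B ((fun x => b⁻¹ * x * b) '' X) L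

/-- `a` is a product of an element centralizing `X` and a valid chain -/
def GReach (S B : Set G) (X : Set G) (a : G) : Prop :=
  ∃ c ∈ Subgroup.centralizer X, ∃ L : List G, GValid S B X L ∧ a = c * L.prod

theorem gvalid_head (S B : Set G) {X : Set G} {L : List G} (h : GValid S B X L) : X ⊆ S := by
  cases L with
  | nil => exact h
  | cons b L => exact h.1

theorem gvalid_mono (S B : Set G) {X X' : Set G} (hX : X' ⊆ X) (L : List G) :
    GValid S B X L → GValid S B X' L := by
  induction L generalizing X X' with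
  | nil => intro h; exact hX.trans h
  | cons b L ih =>
    rintro ⟨h1, h2, h3⟩
    exact ⟨hX.trans h1, h2, ih (Set.image_mono hX) h3⟩

theorem gvalid_mono_SB {S S' B B' : Set G} (hS : S ⊆ S') (hB : B ⊆ B') (X : Set G) (L : List G) :
    GValid S B X L → GValid S' B' X L := by
  induction L generalizing X with
  | nil => intro h; exact h.trans hS
  | cons b L ih =>
    rintro ⟨h1, h2, h3⟩
    exact ⟨h1.trans hS, hB h2, ih _ h3⟩

theorem gvalid_append (S B : Set G) (X : Set G) (L1 L2 : List G) :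
    GValid S B X L1 → GValid S B ((fun x => (L1.prod)⁻¹ * x * L1.prod) '' X) L2 →
    GValid S B X (L1 ++ L2) := by
  induction L1 generalizing X with
  | nil =>
    intro _ h
    simpa using h
  | cons b L ih =>
    rintro ⟨h1, h2, h3⟩ h4
    refine ⟨h1, h2, ih _ h3 ?_⟩
    rw [rconj_rconj]
    simpa using h4

theorem greach_mono (S B : Set G) {X X' : Set G} (hX : X' ⊆ X) {a : G} :
    GReach S B X a → GReach S B X' a := by
  rintro ⟨c, hc, L, hL, rfl⟩
  exact ⟨c, Subgroup.centralizer_le hX hc, L, gvalid_mono S B hX L hL, rfl⟩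

theorem greach_mul (S B : Set G) {X : Set G} {a a' : G}
    (h1 : GReach S B X a) (h2 : GReach S B ((fun x => a⁻¹ * x * a) '' X) a') : GReach S B X (a * a') := by
  obtain ⟨c, hc, L, hL, rfl⟩ := h1
  obtain ⟨d, hd, L', hL', rfl⟩ := h2
  rw [rconj_eq_of_mem_centralizer X hc L.prod] at hd hL'
  refine ⟨c * (L.prod * d * (L.prod)⁻¹), ?_, L ++ L', gvalid_append S B X L L' hL hL', ?_⟩
  · apply Subgroup.mul_mem _ hc
    rw [Subgroup.mem_centralizer_iff]
    intro x hx
    have h3 := Subgroup.mem_centralizer_iff.mp hd ((L.prod)⁻¹ * x * L.prod) ⟨x, hx, rfl⟩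
    calc x * (L.prod * d * (L.prod)⁻¹) = L.prod * (((L.prod)⁻¹ * x * L.prod) * d) * (L.prod)⁻¹ := by group
      _ = L.prod * (d * ((L.prod)⁻¹ * x * L.prod)) * (L.prod)⁻¹ := by rw [h3]
      _ = L.prod * d * (L.prod)⁻¹ * x := by group
  · rw [List.prod_append]; group

theorem greach_single (S B : Set G) {X : Set G} {b : G} (hX : X ⊆ S) (hb : b ∈ B)
    (hXb : (fun x => b⁻¹ * x * b) '' X ⊆ S) : GReach S B X b :=
  ⟨1, Subgroup.one_mem _, [b], ⟨hX, hb, hXb⟩, by simp⟩

theorem greach_one (S B : Set G) {X : Set G} (hX : X ⊆ S) : GReach S B X 1 :=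
  ⟨1, Subgroup.one_mem _, [], hX, by simp⟩

theorem greach_centralizer_mul (S B : Set G) {X : Set G} {c a : G} (hc : c ∈ Subgroup.centralizer X)
    (h : GReach S B X a) : GReach S B X (c * a) := by
  obtain ⟨c', hc', L, hL, rfl⟩ := h
  exact ⟨c * c', Subgroup.mul_mem _ hc hc', L, hL, by group⟩

/-- conversion from the `take` form -/
theorem gvalid_of_take (S B : Set G) : ∀ (L : List G) (X : Set G), (∀ b ∈ L, b ∈ B) →
    (∀ k : ℕ, k ≤ L.length → (fun x => ((L.take k).prod)⁻¹ * x * (L.take k).prod) '' X ⊆ S) →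
    GValid S B X L := by
  intro L
  induction L with
  | nil =>
    intro X _ h
    have := h 0 le_rfl
    show X ⊆ S
    simpa using this
  | cons b L ih =>
    intro X hB h
    refine ⟨?_, hB b (List.mem_cons_self), ih _ (fun b' hb' => hB b' (List.mem_cons_of_mem _ hb')) ?_⟩
    · have := h 0 (Nat.zero_le _)
      simpa using this
    · intro k hk
      have := h (k + 1) (by simpa using hk)
      rw [rconj_rconj]
      simpa using this

/-- conversion to the `take` form -/
theorem take_of_gvalid (S B : Set G) : ∀ (L : List G) (X : Set G), GValid S B X L →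
    (∀ b ∈ L, b ∈ B) ∧
    (∀ k : ℕ, k ≤ L.length → (fun x => ((L.take k).prod)⁻¹ * x * (L.take k).prod) '' X ⊆ S) := by
  intro L
  induction L with
  | nil =>
    intro X h
    refine ⟨fun b hb => by simp at hb, fun k _ => ?_⟩
    have h' : X ⊆ S := h
    simpa using h'
  | cons b L ih =>
    rintro X ⟨h1, h2, h3⟩
    obtain ⟨ih1, ih2⟩ := ih _ h3
    refine ⟨?_, ?_⟩
    · intro b' hb'
      rcases List.mem_cons.mp hb' with rfl | hb'
      · exact h2
      · exact ih1 b' hb'
    · intro k hk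
      cases k with
      | zero => simpa using h1
      | succ k =>
        have := ih2 k (by simpa using hk)
        rw [rconj_rconj] at this
        simpa using this

/-- conjugation transport -/
theorem gvalid_conj (S B : Set G) (h : G) : ∀ (L : List G) (X : Set G), GValid S B X L →
    GValid ((fun y => h⁻¹ * y * h) '' S) ((fun y => h⁻¹ * y * h) '' B) ((fun y => h⁻¹ * y * h) '' X)
      (L.map (fun b => h⁻¹ * b * h)) := by
  intro L
  induction L with
  | nil => intro X hX; exact Set.image_mono hX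
  | cons b L ih =>
    rintro X ⟨h1, h2, h3⟩
    refine ⟨Set.image_mono h1, ⟨b, h2, rfl⟩, ?_⟩
    have := ih _ h3
    have e : (fun y => h⁻¹ * y * h) '' ((fun x => b⁻¹ * x * b) '' X) =
        (fun x => (h⁻¹ * b * h)⁻¹ * x * (h⁻¹ * b * h)) '' ((fun y => h⁻¹ * y * h) '' X) := by
      rw [Set.image_image, Set.image_image]
      apply Set.image_congr
      intro x _
      group
    rw [e] at this
    exact this

theorem prod_map_conj (h : G) (L : List G) : (L.map (fun b => h⁻¹ * b * h)).prod = h⁻¹ * L.prod * h := by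
  induction L with
  | nil => simp
  | cons b L ih =>
    simp only [List.map_cons, List.prod_cons, ih]
    group

section
variable [Finite G] {p : ℕ} [Fact p.Prime]

/-- the generating set attached to a Sylow subgroup `Q` -/
def BSet (W V : Subgroup G → Subgroup G) (Q : Subgroup G) : Set G :=
  {b | b ∈ Subgroup.normalizer ((W Q : Subgroup G) : Set G) ∨ b ∈ Subgroup.centralizer ((V Q : Subgroup G) : Set G)}

/-- the local control property, transported to any Sylow subgroup of `N(H)` -/
theorem local_any_sylow (W V : Subgroup G → Subgroup G) (hW : Cfsg.IsConjugacyFunctor p W)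
    (hV : Cfsg.IsConjugacyFunctor p V) (H Q T : Subgroup G)
    (hQH : Q ≤ Subgroup.normalizer ((H : Subgroup G) : Set G)) (hQp : IsPGroup p ↥Q)
    (hQi : ¬ p ∣ (Q).relIndex (Subgroup.normalizer ((H : Subgroup G) : Set G)))
    (hQ : ∀ (X : Set G) (a : G), X ⊆ Q → a ∈ Subgroup.normalizer ((H : Subgroup G) : Set G) → (fun x => a⁻¹ * x * a) '' X ⊆ Q → ∃ c ∈ Subgroup.normalizer ((H : Subgroup G) : Set G) ⊓ Subgroup.centralizer X, ∃ (n : ℕ) (b : Fin n → G), (∀ i, b i ∈ Subgroup.normalizer ((H : Subgroup G) : Set G) ⊓ Subgroup.normalizer ((W Q : Subgroup G) : Set G) ∨ b i ∈ Subgroup.normalizer ((H : Subgroup G) : Set G) ⊓ Subgroup.centralizer ((V Q : Subgroup G) : Set G)) ∧ a = c * (List.ofFn b).prod ∧ ∀ k : ℕ, k ≤ n → (fun x => (((List.ofFn b).take k).prod)⁻¹ * x * ((List.ofFn b).take k).prod) '' ((fun x => c⁻¹ * x * c) '' X) ⊆ Q)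
    (hTH : T ≤ Subgroup.normalizer ((H : Subgroup G) : Set G)) (hTp : IsPGroup p ↥T)
    (hTi : ¬ p ∣ (T).relIndex (Subgroup.normalizer ((H : Subgroup G) : Set G))) :
    ∀ (X : Set G) (x : G), X ⊆ T → x ∈ Subgroup.normalizer ((H : Subgroup G) : Set G) →
      (fun y => x⁻¹ * y * x) '' X ⊆ T → GReach (T : Set G) (BSet W V T) X x := by
  set N : Subgroup G := Subgroup.normalizer ((H : Subgroup G) : Set G) with hN
  obtain ⟨h, hhN, hh⟩ := exists_conj_le_of_relIndex N Q T hQp hQi hTH hTp
  have hmapN : N.map (MulAut.conj h).toMonoidHom = N :=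
    (map_conj_eq_self_iff_mem_normalizer N h).mpr (Subgroup.le_normalizer hhN)
  have hQeq : Q = T.map (MulAut.conj h).toMonoidHom := by
    apply eq_of_le_of_not_dvd_relIndex (p := p) N
    · rw [map_conj_le_iff]; exact hh
    · exact hQH
    · exact hQp
    · have := relIndex_map_conj T N h
      rw [hmapN] at this
      rw [this]; exact hTi
  have hWQ : W Q = (W T).map (MulAut.conj h).toMonoidHom := by
    rw [hQeq]; exact (hW T hTp).2.2 h
  have hVQ : V Q = (V T).map (MulAut.conj h).toMonoidHom := by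
    rw [hQeq]; exact (hV T hTp).2.2 h
  intro X x hXT hxN hXx
  set X' : Set G := (fun y => h * y * h⁻¹) '' X with hX'
  have hX'Q : X' ⊆ Q := by
    rintro _ ⟨y, hy, rfl⟩
    exact hh y (hXT hy)
  have hx'N : h * x * h⁻¹ ∈ N := N.mul_mem (N.mul_mem hhN hxN) (N.inv_mem hhN)
  have hX'x : (fun y => (h * x * h⁻¹)⁻¹ * y * (h * x * h⁻¹)) '' X' ⊆ Q := by
    rintro _ ⟨_, ⟨y, hy, rfl⟩, rfl⟩
    have h1 : x⁻¹ * y * x ∈ T := hXx ⟨y, hy, rfl⟩
    have h2 := hh _ h1
    have e : (h * x * h⁻¹)⁻¹ * (h * y * h⁻¹) * (h * x * h⁻¹) = h * (x⁻¹ * y * x) * h⁻¹ := by group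
    show (h * x * h⁻¹)⁻¹ * (h * y * h⁻¹) * (h * x * h⁻¹) ∈ Q
    rw [e]; exact h2
  obtain ⟨c, hc, n, b, hb, hxc, htake⟩ := hQ X' (h * x * h⁻¹) hX'Q hx'N hX'x
  have hcC : c ∈ Subgroup.centralizer X' := (Subgroup.mem_inf.mp hc).2
  have hcX : (fun x => c⁻¹ * x * c) '' X' = X' := by
    have e : (fun x => c⁻¹ * x * c) '' X' = (fun x => x) '' X' := by
      apply Set.image_congr
      intro y hy
      have := Subgroup.mem_centralizer_iff.mp hcC y hy
      calc c⁻¹ * y * c = c⁻¹ * (y * c) := by group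
        _ = c⁻¹ * (c * y) := by rw [this]
        _ = y := by group
    rw [e, Set.image_id']
  rw [hcX] at htake
  set L : List G := List.ofFn b with hL
  have hLB : ∀ b' ∈ L, b' ∈ BSet W V Q := by
    intro b' hb'
    obtain ⟨i, rfl⟩ := (List.mem_ofFn' b b').mp hb'
    rcases hb i with h1 | h1
    · exact Or.inl (Subgroup.mem_inf.mp h1).2
    · exact Or.inr (Subgroup.mem_inf.mp h1).2
  have hLv : GValid (Q : Set G) (BSet W V Q) X' L :=
    gvalid_of_take _ _ L X' hLB (fun k hk => htake k (by simpa [hL] using hk))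
  have hLv2 := gvalid_conj (Q : Set G) (BSet W V Q) h L X' hLv
  have e1 : (fun y => h⁻¹ * y * h) '' X' = X := by
    rw [hX', Set.image_image]
    have : (fun y => h⁻¹ * (h * y * h⁻¹) * h) = fun y : G => y := by funext y; group
    rw [this, Set.image_id']
  rw [e1] at hLv2
  have e2 : (fun y => h⁻¹ * y * h) '' (Q : Set G) ⊆ (T : Set G) := by
    rintro _ ⟨y, hy, rfl⟩
    have hy' : y ∈ T.map (MulAut.conj h).toMonoidHom := hQeq ▸ hy
    rw [mem_map_conj_iff] at hy'
    exact hy'
  have e3 : (fun y => h⁻¹ * y * h) '' (BSet W V Q) ⊆ BSet W V T := by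
    rintro _ ⟨y, hy, rfl⟩
    rcases hy with hy | hy
    · left
      rw [hWQ, normalizer_map_conj] at hy
      have hy' : y ∈ (Subgroup.normalizer ((W T : Subgroup G) : Set G)).map (MulAut.conj h).toMonoidHom := hy
      rw [mem_map_conj_iff] at hy'
      exact hy'
    · right
      show h⁻¹ * y * h ∈ Subgroup.centralizer ((V T : Subgroup G) : Set G)
      rw [Subgroup.mem_centralizer_iff]
      intro v hv
      have hv' : h * v * h⁻¹ ∈ V Q := by
        rw [hVQ]; exact conj_mem_map_conj (V T) h hv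
      have h3 := Subgroup.mem_centralizer_iff.mp hy _ hv'
      calc v * (h⁻¹ * y * h) = h⁻¹ * ((h * v * h⁻¹) * y) * h := by group
        _ = h⁻¹ * (y * (h * v * h⁻¹)) * h := by rw [h3]
        _ = h⁻¹ * y * h * v := by group
  have hLv3 := gvalid_mono_SB e2 e3 X _ hLv2
  refine ⟨h⁻¹ * c * h, ?_, _, hLv3, ?_⟩
  · rw [Subgroup.mem_centralizer_iff]
    intro y hy
    have h3 := Subgroup.mem_centralizer_iff.mp hcC (h * y * h⁻¹) ⟨y, hy, rfl⟩
    calc y * (h⁻¹ * c * h) = h⁻¹ * ((h * y * h⁻¹) * c) * h := by group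
      _ = h⁻¹ * (c * (h * y * h⁻¹)) * h := by rw [h3]
      _ = h⁻¹ * c * h * y := by group
  · rw [prod_map_conj]
    calc x = h⁻¹ * (h * x * h⁻¹) * h := by group
      _ = h⁻¹ * (c * L.prod) * h := by rw [hxc]
      _ = h⁻¹ * c * h * (h⁻¹ * L.prod * h) := by group

/-- the climbing claim -/
theorem climb (P : Sylow p G) (W V : Subgroup G → Subgroup G) (hW : Cfsg.IsConjugacyFunctor p W)
    (hV : Cfsg.IsConjugacyFunctor p V) (hPne : (P : Subgroup G) ≠ ⊥)
    (hWZ : ∀ H : Subgroup G, IsPGroup p ↥H → H ⊓ Subgroup.centralizer ((H : Subgroup G) : Set G) ≤ W H)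
    (hVmono : ∀ H K : Subgroup G, IsPGroup p ↥H → IsPGroup p ↥K → H ≠ ⊥ → K ≠ ⊥ → H ⊓ Subgroup.centralizer ((H : Subgroup G) : Set G) ≤ K ⊓ Subgroup.centralizer ((K : Subgroup G) : Set G) → V H ≤ V K)
    (hloc : ∀ H : Subgroup G, (P : Subgroup G) ⊓ Subgroup.centralizer (((P : Subgroup G) : Subgroup G) : Set G) ≤ H → H ≤ (P : Subgroup G) → ∃ Q : Subgroup G, Q ≤ Subgroup.normalizer ((H : Subgroup G) : Set G) ∧ IsPGroup p ↥Q ∧ ¬ p ∣ (Q).relIndex (Subgroup.normalizer ((H : Subgroup G) : Set G)) ∧ ∀ (X : Set G) (a : G), X ⊆ Q → a ∈ Subgroup.normalizer ((H : Subgroup G) : Set G) → (fun x => a⁻¹ * x * a) '' X ⊆ Q → ∃ c ∈ Subgroup.normalizer ((H : Subgroup G) : Set G) ⊓ Subgroup.centralizer X, ∃ (n : ℕ) (b : Fin n → G), (∀ i, b i ∈ Subgroup.normalizer ((H : Subgroup G) : Set G) ⊓ Subgroup.normalizer ((W Q : Subgroup G) : Set G) ∨ b i ∈ Subgroup.normalizer ((H : Subgroup G) : Set G) ⊓ Subgroup.centralizer ((V Q : Subgroup G) : Set G)) ∧ a = c * (List.ofFn b).prod ∧ ∀ k : ℕ, k ≤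 n → (fun x => (((List.ofFn b).take k).prod)⁻¹ * x * ((List.ofFn b).take k).prod) '' ((fun x => c⁻¹ * x * c) '' X) ⊆ Q) :
    ∀ (m : ℕ) (H : Subgroup G),
      (P : Subgroup G) ⊓ Subgroup.centralizer (((P : Subgroup G) : Subgroup G) : Set G) ≤ H →
      Cfsg.IsWellPlaced p W (P : Subgroup G) H →
      Nat.card (P : Subgroup G) - Nat.card ((P : Subgroup G) ⊓ Subgroup.normalizer (H : Set G) : Subgroup G) = m →
      ∀ (X : Set G) (x : G), X ⊆ ((P : Subgroup G) ⊓ Subgroup.normalizer (H : Set G) : Subgroup G) →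
        x ∈ Subgroup.normalizer (H : Set G) →
        (fun y => x⁻¹ * y * x) '' X ⊆ ((P : Subgroup G) ⊓ Subgroup.normalizer (H : Set G) : Subgroup G) →
        GReach ((P : Subgroup G) : Set G) (BSet W V (P : Subgroup G)) X x := by
  intro m
  induction m using Nat.strong_induction_on with
  | _ m ih =>
    intro H hZH hHwp hm X x hXT hxN hXx
    have hP := P.isPGroup'
    set PS : Subgroup G := (P : Subgroup G) with hPS
    set T : Subgroup G := PS ⊓ Subgroup.normalizer (H : Set G) with hT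
    have hTp : IsPGroup p T := hP.to_le inf_le_left
    have hHT : H ≤ T := le_inf hHwp.1 Subgroup.le_normalizer
    obtain ⟨Q, hQH, hQp, hQi, hQ⟩ := hloc H hZH hHwp.1
    have hreach := local_any_sylow W V hW hV H Q T hQH hQp hQi hQ inf_le_right hTp (hHwp.2 0) X x hXT hxN hXx
    have hTne : T ≠ ⊥ := by
      intro h0
      have hH0 : H = ⊥ := le_bot_iff.mp (h0 ▸ hHT)
      have : T = PS := by
        rw [hT, hH0]
        have : Subgroup.normalizer (((⊥ : Subgroup G) : Subgroup G) : Set G) = ⊤ := by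
          rw [eq_top_iff]
          intro g _
          rw [Subgroup.mem_normalizer_iff]
          intro y
          simp only [Subgroup.mem_bot]
          constructor
          · rintro rfl; group
          · intro hy
            calc y = g⁻¹ * (g * y * g⁻¹) * g := by group
              _ = 1 := by rw [hy]; group
        rw [this, inf_top_eq]
      exact hPne (this ▸ h0)
    have hZT : PS ⊓ Subgroup.centralizer (PS : Set G) ≤ T ⊓ Subgroup.centralizer (T : Set G) :=
      le_inf (hZH.trans hHT) (inf_le_right.trans (Subgroup.centralizer_le (by exact_mod_cast (inf_le_left : T ≤ PS))))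
    -- process a chain over `T`
    have key : ∀ (L : List G) (X : Set G), GValid (T : Set G) (BSet W V T) X L →
        GReach (PS : Set G) (BSet W V PS) X L.prod := by
      intro L
      induction L with
      | nil =>
        intro X hX
        have hX' : X ⊆ (T : Set G) := hX
        simpa using greach_one (PS : Set G) (BSet W V PS) (hX'.trans (by exact_mod_cast (inf_le_left : T ≤ PS)))
      | cons b L ihL =>
        rintro X ⟨hX, hb, hrest⟩
        have hXb : (fun y => b⁻¹ * y * b) '' X ⊆ (T : Set G) := gvalid_head _ _ hrest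
        have hTPS : (T : Set G) ⊆ (PS : Set G) := by exact_mod_cast (inf_le_left : T ≤ PS)
        have h2 := ihL _ hrest
        rw [List.prod_cons]
        refine greach_mul _ _ ?_ h2
        rcases hb with hb | hb
        · by_cases hTPSeq : T = PS
          · refine greach_single _ _ (hX.trans hTPS) (Or.inl ?_) (hXb.trans hTPS)
            rw [← hTPSeq]; exact hb
          · have hlt : T < PS := lt_of_le_of_ne inf_le_left hTPSeq
            set U : Subgroup G := W T with hU
            have hUwp : IsWellPlaced p W PS U := Cfsg.Agent.S1961.wellPlaced_shift W hW _ H hP hHwp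
            have hZU : PS ⊓ Subgroup.centralizer (PS : Set G) ≤ U := hZT.trans (hWZ T hTp)
            have hgrow : T < PS ⊓ Subgroup.normalizer (T : Set G) :=
              lt_inf_normalizer_of_lt PS T hP hlt
            have hle : PS ⊓ Subgroup.normalizer (T : Set G) ≤ PS ⊓ Subgroup.normalizer (U : Set G) :=
              inf_le_inf_left _ (Cfsg.Agent.S1961.normalizer_le_normalizer_functor W hW T hTp)
            have hlt2 : T < PS ⊓ Subgroup.normalizer (U : Set G) := lt_of_lt_of_le hgrow hle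
            have hcard : Nat.card T < Nat.card (PS ⊓ Subgroup.normalizer (U : Set G) : Subgroup G) :=
              card_lt_card_of_lt hlt2
            have hcardS : Nat.card (PS ⊓ Subgroup.normalizer (U : Set G) : Subgroup G) ≤ Nat.card PS :=
              Subgroup.card_le_of_le inf_le_left
            have hTU : (T : Set G) ⊆ ((PS ⊓ Subgroup.normalizer (U : Set G) : Subgroup G) : Set G) := by
              exact_mod_cast hlt2.le
            exact ih _ (by omega) U hZU hUwp rfl X b (hX.trans hTU) hb (hXb.trans hTU)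
        · refine greach_single _ _ (hX.trans hTPS) (Or.inr ?_) (hXb.trans hTPS)
          have hVle : V PS ≤ V T := hVmono PS T hP hTp hPne hTne hZT
          exact Subgroup.centralizer_le (by exact_mod_cast hVle) hb
    obtain ⟨c, hc, L, hL, rfl⟩ := hreach
    exact greach_centralizer_mul _ _ hc (key L X hL)

end

/-- Let p be a prime dividing the order of the finite group G, P a Sylow p-subgroup, W a conjugacy functor for p on G with Z(H) ≤ W(H) for every nontrivial p-subgroup H, and V a central functor (a conjugacy functor with V(H) ≤ Z(H), and V(H) ≤ V(K) whenever Z(H) ≤ Z(K)). Say that W with V controls strong fusion in a subgroup L when some Sylow p-subgroup Q of L has the property: whenever X ⊆ Q and a ∈ L with a⁻¹Xa ⊆ Q, then a = c b with c ∈ C_L(X) and b = b₁ ⋯ bₙ a product of elements each in N_L(W(Q)) or in C_L(V(Q)) such that every partial conjugate (b₁ ⋯ bₖ)⁻¹ X (b₁ ⋯ bₖ) lies in Q. If W with V controls strong fusion in N_G(H) for every subgroup H with Z(P)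 ≤ H ≤ P, then W with V controls strong fusion in G. -/
theorem result {G : Type*} [Group G] [Finite G] {p : ℕ} [Fact p.Prime] (hdiv : p ∣ Nat.card G) (P : Sylow p G) (W V : Subgroup G → Subgroup G) (hW : Cfsg.IsConjugacyFunctor p W) (hV : Cfsg.IsConjugacyFunctor p V) (hWZ : ∀ H : Subgroup G, IsPGroup p ↥H → H ⊓ Subgroup.centralizer ((H : Subgroup G) : Set G) ≤ W H) (hVZ : ∀ H : Subgroup G, IsPGroup p ↥H → V H ≤ H ⊓ Subgroup.centralizer ((H : Subgroup G) : Set G)) (hVmono : ∀ H K : Subgroup G, IsPGroup p ↥H → IsPGroup p ↥K → H ≠ ⊥ → K ≠ ⊥ → H ⊓ Subgroup.centralizer ((H : Subgroup G) : Set G) ≤ K ⊓ Subgroup.centralizer ((K : Subgroup G) : Set G) → V H ≤ V K) (hloc : ∀ H : Subgroup G, (P : Subgroup G) ⊓ Subgroup.centralizer (((P : Subgroup G) : Subgroup G) : Set G) ≤ H → H ≤ (P : Subgroup G) → ∃ Q : Subgroup G, Q ≤ Subgroup.normalizer ((H : Subgroup G) : Set G) ∧ IsPGroup p ↥Q ∧ ¬ p ∣ (Q).relIndex (Subgroup.normalizer ((H : Subgroup G) : Set G)) ∧ ∀ (X : Set G) (a : G), X ⊆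 Q → a ∈ Subgroup.normalizer ((H : Subgroup G) : Set G) → (fun x => a⁻¹ * x * a) '' X ⊆ Q → ∃ c ∈ Subgroup.normalizer ((H : Subgroup G) : Set G) ⊓ Subgroup.centralizer X, ∃ (n : ℕ) (b : Fin n → G), (∀ i, b i ∈ Subgroup.normalizer ((H : Subgroup G) : Set G) ⊓ Subgroup.normalizer ((W Q : Subgroup G) : Set G) ∨ b i ∈ Subgroup.normalizer ((H : Subgroup G) : Set G) ⊓ Subgroup.centralizer ((V Q : Subgroup G) : Set G)) ∧ a = c * (List.ofFn b).prod ∧ ∀ k : ℕ, k ≤ n → (fun x => (((List.ofFn b).take k).prod)⁻¹ * x * ((List.ofFn b).take k).prod) '' ((fun x => c⁻¹ * x * c) '' X) ⊆ Q) : ∃ Q : Subgroup G, IsPGroup p ↥Q ∧ ¬ p ∣ Q.index ∧ ∀ (X : Set G) (a : G), X ⊆ Q → (fun x => a⁻¹ * x * a) '' X ⊆ Q → ∃ c ∈ Subgroup.centralizer X, ∃ (n : ℕ) (b : Fin n → G), (∀ i, b i ∈ ⊤ ⊓ Subgroup.normalizer ((W Q : Subgroup G) : Set G) ∨ b i ∈ ⊤ ⊓ Subgroup.centralizer ((V Q : Subgroup G) : Set G)) ∧ a = c * (List.ofFn b).prod ∧ ∀ k : ℕ, k ≤ n → (fun x => (((List.ofFn b).take k).prod)⁻¹ * x * ((List.ofFn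 b).take k).prod) '' ((fun x => c⁻¹ * x * c) '' X) ⊆ Q := by
  have hP := P.isPGroup'
  set PS : Subgroup G := (P : Subgroup G) with hPS
  have hPne : PS ≠ ⊥ := by
    intro h0
    have h1 : ¬ p ∣ PS.index := P.not_dvd_index
    rw [h0, Subgroup.index_bot] at h1
    exact h1 hdiv
  -- the family of well placed subgroups
  set 𝓕 : Set (Subgroup G) := {T : Subgroup G | Cfsg.IsWellPlaced p W PS T} with h𝓕def
  have h𝓕S : ∀ U ∈ 𝓕, U ≤ PS := fun U hU => hU.1
  have h𝓕t : ∀ U ∈ 𝓕, ¬ p ∣ (PS ⊓ Subgroup.normalizer ((U : Subgroup G) : Set G)).relIndex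
      (Subgroup.normalizer ((U : Subgroup G) : Set G)) := fun U hU => hU.2 0
  have hfam : ∀ T : Subgroup G, T ≤ PS → ∃ U ∈ 𝓕, (∃ g : G, T.map (MulAut.conj g).toMonoidHom = U) ∧
      ¬ p ∣ (PS ⊓ Subgroup.normalizer ((U : Subgroup G) : Set G)).relIndex (Subgroup.normalizer ((U : Subgroup G) : Set G)) := by
    intro T hT
    obtain ⟨g, hg⟩ := Cfsg.Agent.S1963.result P W hW T hT
    exact ⟨T.map (MulAut.conj g).toMonoidHom, hg, ⟨g, rfl⟩, hg.2 0⟩
  set 𝓕' : Set (Subgroup G) := {U | U ∈ 𝓕 ∧ PS ⊓ Subgroup.centralizer (U : Set G) ≤ U} with h𝓕'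
  -- chains over `𝓕'` are chains over the generating set
  have chain : ∀ (L : List (Subgroup G × G)) (A : Set G), A ⊆ (PS : Set G) → Cfsg.Agent.S1965.Valid 𝓕' A L →
      GReach (PS : Set G) (BSet W V PS) A (L.map Prod.snd).prod := by
    intro L
    induction L with
    | nil =>
      intro A hA _
      simpa using greach_one (PS : Set G) (BSet W V PS) hA
    | cons Ux L ihL =>
      obtain ⟨U, x⟩ := Ux
      rintro A hA ⟨⟨hUwp, hCU⟩, hxN, hAU, hrest⟩
      have hUT : U ≤ PS ⊓ Subgroup.normalizer (U : Set G) := le_inf hUwp.1 Subgroup.le_normalizer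
      have hAx : (fun a => x⁻¹ * a * x) '' A ⊆ (U : Set G) := by
        rintro _ ⟨a, ha, rfl⟩
        have := (Subgroup.mem_normalizer_iff.mp (Subgroup.inv_mem _ hxN) a).mp (hAU ha)
        simpa using this
      have hUT' : (U : Set G) ⊆ ((PS ⊓ Subgroup.normalizer (U : Set G) : Subgroup G) : Set G) := by
        exact_mod_cast hUT
      have hZU : PS ⊓ Subgroup.centralizer (PS : Set G) ≤ U :=
        le_trans (inf_le_inf_left _ (Subgroup.centralizer_le (by exact_mod_cast hUwp.1))) hCU
      have h1 : GReach (PS : Set G) (BSet W V PS) A x :=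
        climb P W V hW hV hPne hWZ hVmono hloc _ U hZU hUwp rfl A x (hAU.trans hUT') hxN (hAx.trans hUT')
      have hUPS : (U : Set G) ⊆ (PS : Set G) := by exact_mod_cast hUwp.1
      have h2 := ihL _ (hAx.trans hUPS) hrest
      simp only [List.map_cons, List.prod_cons]
      exact greach_mul _ _ h1 h2
  refine ⟨PS, hP, P.not_dvd_index, ?_⟩
  intro X a hXP hXa
  -- pass to the subgroup generated by `X`
  have hcl : Subgroup.closure X ≤ PS := (Subgroup.closure_le _).mpr hXP
  have hclg : ∀ t ∈ Subgroup.closure X, a⁻¹ * t * a ∈ PS := by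
    intro t ht
    induction ht using Subgroup.closure_induction with
    | mem y hy => exact hXa ⟨y, hy, rfl⟩
    | one => simp
    | mul u v _ _ ihu ihv =>
      have : a⁻¹ * (u * v) * a = (a⁻¹ * u * a) * (a⁻¹ * v * a) := by group
      rw [this]; exact Subgroup.mul_mem _ ihu ihv
    | inv u _ ihu =>
      have : a⁻¹ * u⁻¹ * a = (a⁻¹ * u * a)⁻¹ := by group
      rw [this]; exact Subgroup.inv_mem _ ihu
  obtain ⟨c0, hc0, g', ⟨L0, hL0, hL0g⟩, hag⟩ :=
    creach_main P 𝓕 h𝓕S h𝓕t hfam _ (Subgroup.closure X) a hcl hclg rfl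
  have h3 : GReach (PS : Set G) (BSet W V PS) ((Subgroup.closure X : Subgroup G) : Set G) g' := by
    have := chain L0 _ (by exact_mod_cast hcl) hL0
    rw [hL0g] at this
    exact this
  have h4 : GReach (PS : Set G) (BSet W V PS) X a := by
    rw [hag]
    exact greach_mono _ _ Subgroup.subset_closure (greach_centralizer_mul _ _ hc0 h3)
  obtain ⟨c, hc, L, hL, haL⟩ := h4
  obtain ⟨hLB, hLtake⟩ := take_of_gvalid _ _ L X hL
  have hcX : (fun x => c⁻¹ * x * c) '' X = X := by
    have e : (fun x => c⁻¹ * x * c) '' X = (fun x => x) '' X := by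
      apply Set.image_congr
      intro y hy
      have := Subgroup.mem_centralizer_iff.mp hc y hy
      calc c⁻¹ * y * c = c⁻¹ * (y * c) := by group
        _ = c⁻¹ * (c * y) := by rw [this]
        _ = y := by group
    rw [e, Set.image_id']
  have hofFn : List.ofFn (fun i : Fin L.length => L[i]) = L := List.ofFn_getElem
  refine ⟨c, hc, L.length, fun i => L[i], ?_, ?_, ?_⟩
  · intro i
    rcases hLB (L[i]) (List.getElem_mem _) with h | h
    · exact Or.inl (Subgroup.mem_inf.mpr ⟨Subgroup.mem_top _, h⟩)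
    · exact Or.inr (Subgroup.mem_inf.mpr ⟨Subgroup.mem_top _, h⟩)
  · rw [hofFn]; exact haL
  · intro k hk
    rw [hofFn, hcX]
    exact hLtake k hk

end Cfsg.Agent.S2002
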