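import Cfsg.Statements.S2007
import Cfsg.Agent.Lib.Helper13.Conj
import Cfsg.Agent.Lib.Helper13.Sylow
import Cfsg.Agent.Lib.Helper13.NormalPComplement

set_option autoImplicit false
open Cfsg

namespace Cfsg.Agent.S2007

open Cfsg.Agent.Lib.Helper13

/-- Let p be a prime, G a finite group with Sylow p-subgroup S, and T a normal subgroup of S containing C_S(T). If N_G(T)/C_G(T) is a p-group (every element of N_G(T) of order prime to p centralizes T), then N_G(T) has a normal p-complement. -/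
theorem result {G : Type*} [Group G] [Finite G] {p : ℕ} [Fact p.Prime] (S : Sylow p G) (T : Subgroup G) (hTS : T ≤ (S : Subgroup G)) (hTn : (S : Subgroup G) ≤ Subgroup.normalizer ((T : Subgroup G) : Set G)) (hC : (S : Subgroup G) ⊓ Subgroup.centralizer ((T : Subgroup G) : Set G) ≤ T) (hN : ∀ g ∈ Subgroup.normalizer ((T : Subgroup G) : Set G), (orderOf g).Coprime p → g ∈ Subgroup.centralizer ((T : Subgroup G) : Set G)) : Cfsg.HasNormalPComplement p ↥(Subgroup.normalizer ((T : Subgroup G) : Set G)) := by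
  have hp : p.Prime := Fact.out
  set N : Subgroup G := Subgroup.normalizer (T : Set G) with hNdef
  set C : Subgroup G := Subgroup.centralizer (T : Set G) with hCdef
  have hCN : C ≤ N := Subgroup.centralizer_le_normalizer _
  -- C is normalized by N
  have hCnorm : ∀ n ∈ N, ∀ c ∈ C, n * c * n⁻¹ ∈ C := by
    intro n hn c hc
    rw [hCdef, Subgroup.mem_centralizer_iff]
    intro t ht
    have h1 : n⁻¹ * t * n ∈ T := by
      have := (Subgroup.mem_normalizer_iff.mp (Subgroup.inv_mem _ hn) t).mp ht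
      simpa using this
    have h2 := (Subgroup.mem_centralizer_iff.mp hc) _ h1
    calc t * (n * c * n⁻¹) = n * ((n⁻¹ * t * n) * c) * n⁻¹ := by group
      _ = n * (c * (n⁻¹ * t * n)) * n⁻¹ := by rw [h2]
      _ = n * c * n⁻¹ * t := by group
  -- a Sylow subgroup of C is central in C
  obtain ⟨D⟩ : Nonempty (Sylow p C) := inferInstance
  have hDcentral : (D : Subgroup C) ≤ Subgroup.center C := by
    set DG : Subgroup G := (D : Subgroup C).map C.subtype with hDG
    have hDGp : IsPGroup p DG := D.isPGroup'.map _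
    have hDGC : DG ≤ C := Subgroup.map_subtype_le _
    have hSrel : ¬ p ∣ (S : Subgroup G).relIndex N := fun h =>
      S.not_dvd_index (dvd_trans h (Subgroup.relIndex_dvd_index_of_le hTn))
    obtain ⟨n, hnN, hnD⟩ := exists_conj_le_of_relIndex N (S : Subgroup G) DG S.isPGroup' hSrel
      (hDGC.trans hCN) hDGp
    intro d hd
    rw [Subgroup.mem_center_iff]
    intro c
    apply Subtype.ext
    simp only [Subgroup.coe_mul]
    have hdDG : (d : G) ∈ DG := ⟨d, hd, rfl⟩
    have hz : n * (d : G) * n⁻¹ ∈ T :=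
      hC (Subgroup.mem_inf.mpr ⟨hnD _ hdDG, hCnorm n hnN _ (hDGC hdDG)⟩)
    have hc' : n * (c : G) * n⁻¹ ∈ C := hCnorm n hnN _ c.2
    have h3 := (Subgroup.mem_centralizer_iff.mp hc') _ hz
    -- h3 : (n d n⁻¹) * (n c n⁻¹) = (n c n⁻¹) * (n d n⁻¹)
    calc (c : G) * (d : G) = n⁻¹ * ((n * c * n⁻¹) * (n * d * n⁻¹)) * n := by group
      _ = n⁻¹ * ((n * d * n⁻¹) * (n * c * n⁻¹)) * n := by rw [h3]
      _ = (d : G) * (c : G) := by group
  obtain ⟨K', hK'n, hK'card, hK'⟩ := exists_normal_pPrime_of_central_sylow D hDcentral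
  -- elements of K' have p'-order
  have hK'ord : ∀ y ∈ K', (orderOf (y : G)).Coprime p := by
    intro y hy
    have h1 : orderOf (y : G) = orderOf (⟨y, hy⟩ : K') := by
      rw [← Subgroup.orderOf_coe, ← Subgroup.orderOf_coe]
    have h2 : orderOf (⟨y, hy⟩ : K') ∣ Nat.card K' := orderOf_dvd_natCard _
    rw [h1]
    apply Nat.Coprime.symm
    rw [Nat.Prime.coprime_iff_not_dvd hp]
    intro h3
    exact hK'card (dvd_trans h3 h2)
  -- p'-elements of C (as elements of G) lie in K'
  have hK'G : ∀ x : G, ∀ hx : x ∈ C, (orderOf x).Coprime p → (⟨x, hx⟩ : C) ∈ K' := by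
    intro x hx hord
    apply hK'
    rw [← Subgroup.orderOf_coe]
    exact hord
  -- the subgroup of N
  set KN : Subgroup N := (K'.map C.subtype).subgroupOf N with hKN
  have hKNmem : ∀ x : N, x ∈ KN ↔ ∃ y ∈ K', (y : G) = (x : G) := by
    intro x
    rw [hKN, Subgroup.mem_subgroupOf]
    constructor
    · rintro ⟨y, hy, hyx⟩
      exact ⟨y, hy, hyx⟩
    · rintro ⟨y, hy, hyx⟩
      exact ⟨y, hy, hyx⟩
  have hKNnormal : KN.Normal := by
    constructor
    intro x hx n
    obtain ⟨y, hy, hyx⟩ := (hKNmem x).mp hx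
    rw [hKNmem]
    have hmem : (n : G) * (y : G) * (n : G)⁻¹ ∈ C := hCnorm n n.2 y y.2
    have hord : (orderOf ((n : G) * (y : G) * (n : G)⁻¹)).Coprime p := by
      have : orderOf ((n : G) * (y : G) * (n : G)⁻¹) = orderOf (y : G) := by
        have := orderOf_injective (MulAut.conj (n : G)).toMonoidHom (MulAut.conj (n : G)).injective (y : G)
        simpa [MulAut.conj_apply] using this
      rw [this]; exact hK'ord y hy
    refine ⟨⟨_, hmem⟩, hK'G _ hmem hord, ?_⟩
    simp [← hyx]
  have hKNcard : ¬ p ∣ Nat.card KN := by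
    intro hdvd
    obtain ⟨x, hx⟩ := exists_prime_orderOf_dvd_card' p hdvd
    obtain ⟨y, hy, hyx⟩ := (hKNmem (x : N)).mp x.2
    have h1 : orderOf (y : G) = p := by
      rw [hyx, Subgroup.orderOf_coe, Subgroup.orderOf_coe]; exact hx
    have h2 := hK'ord y hy
    rw [h1] at h2
    exact hp.one_lt.ne' ((Nat.coprime_self p).mp h2)
  have hKNall : ∀ x : N, (orderOf x).Coprime p → x ∈ KN := by
    intro x hx
    rw [hKNmem]
    have hxG : (orderOf (x : G)).Coprime p := by rw [Subgroup.orderOf_coe]; exact hx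
    have hxC : (x : G) ∈ C := hN _ x.2 hxG
    exact ⟨⟨_, hxC⟩, hK'G _ hxC hxG, rfl⟩
  let P : Sylow p N := S.subtype hTn
  exact ⟨P, KN, hKNnormal, isComplement'_of_contains_pPrime_elements P KN hKNcard hKNall⟩

end Cfsg.Agent.S2007
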