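import Cfsg.Statements.S2009

set_option autoImplicit false
open Cfsg

namespace Cfsg.Agent.S2009

/-- A normal subgroup meeting the centralizer of an involution `e` trivially is inverted by `e`. -/
theorem inverts_of_inf_centralizer_eq_bot {H : Type*} [Group H] [Finite H] (N : Subgroup H) [hN : N.Normal]
    (e : H) (he : e * e = 1) (h : N ⊓ Subgroup.centralizer ({e} : Set H) = ⊥) :
    ∀ n ∈ N, e * n * e⁻¹ = n⁻¹ := by
  have hfpf : MonoidHom.FixedPointFree (MulAut.conjNormal e : MulAut N) := by
    intro n hn
    have h1 : ((MulAut.conjNormal e : MulAut N) n : H) = e * n * e⁻¹ := MulAut.conjNormal_apply e n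
    have h2 : e * (n : H) * e⁻¹ = n := by rw [← h1, hn]
    have h3 : (n : H) ∈ N ⊓ Subgroup.centralizer ({e} : Set H) := by
      refine Subgroup.mem_inf.mpr ⟨n.2, ?_⟩
      rw [Subgroup.mem_centralizer_iff]
      intro y hy
      rw [Set.mem_singleton_iff] at hy
      subst hy
      calc y * (n : H) = (y * n * y⁻¹) * y := by group
        _ = n * y := by rw [h2]
    rw [h] at h3
    exact Subtype.ext (Subgroup.mem_bot.mp h3)
  have hinv : Function.Involutive (MulAut.conjNormal e : MulAut N) := by
    intro n
    apply Subtype.ext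
    rw [MulAut.conjNormal_apply, MulAut.conjNormal_apply]
    have : e⁻¹ = e := by rw [inv_eq_iff_mul_eq_one]; exact he
    rw [this]
    calc e * (e * (n : H) * e) * e = (e * e) * n * (e * e) := by group
      _ = n := by rw [he]; group
  have key := hfpf.coe_eq_inv_of_involutive hinv
  intro n hn
  have := congrFun key ⟨n, hn⟩
  have h4 := congrArg Subtype.val this
  rw [MulAut.conjNormal_apply] at h4
  simpa using h4

/-- Let H be a finite group and z an involution such that every proper normal subgroup of H meets the centralizer of z trivially, and suppose z lies in a Klein four-subgroup E of H all three of whose involutions are conjugate to z in H. Then H is simple. -/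
theorem result {H : Type*} [Group H] [Finite H] (z : H) (hz : orderOf z = 2) (hN : ∀ N : Subgroup H, N.Normal → N ≠ ⊤ → N ⊓ Subgroup.centralizer ({z} : Set H) = ⊥) (E : Subgroup H) (hE : IsKleinFour ↥E) (hzE : z ∈ E) (hc : ∀ e ∈ E, e ≠ 1 → IsConj z e) : IsSimpleGroup H := by
  have hz1 : z ≠ 1 := by
    intro h; rw [h, orderOf_one] at hz; norm_num at hz
  -- every element of E squares to 1
  have hsq : ∀ e ∈ E, e * e = 1 := by
    intro e he
    have h1 : (⟨e, he⟩ : E) ^ 2 = 1 := by
      rw [← hE.exponent_two]; exact Monoid.pow_exponent_eq_one _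
    have := congrArg Subtype.val h1
    simpa [pow_two] using this
  -- for every nonidentity e ∈ E and proper normal N: N ⊓ C(e) = ⊥
  have hNe : ∀ N : Subgroup H, N.Normal → N ≠ ⊤ → ∀ e ∈ E, e ≠ 1 →
      N ⊓ Subgroup.centralizer ({e} : Set H) = ⊥ := by
    intro N hNn hNt e he he1
    obtain ⟨c, hc'⟩ := isConj_iff.mp (hc e he he1)
    rw [eq_bot_iff]
    intro x hx
    obtain ⟨hxN, hxC⟩ := Subgroup.mem_inf.mp hx
    rw [Subgroup.mem_centralizer_iff] at hxC
    have hxe := hxC e rfl
    -- c⁻¹ x c ∈ N ∩ C(z)
    have h1 : c⁻¹ * x * c ∈ N ⊓ Subgroup.centralizer ({z} : Set H) := by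
      refine Subgroup.mem_inf.mpr ⟨?_, ?_⟩
      · have := hNn.conj_mem x hxN c⁻¹
        simpa using this
      · rw [Subgroup.mem_centralizer_iff]
        intro y hy
        rw [Set.mem_singleton_iff] at hy
        subst hy
        have hy' : y = c⁻¹ * e * c := by rw [← hc']; group
        rw [hy']
        calc c⁻¹ * e * c * (c⁻¹ * x * c) = c⁻¹ * (e * x) * c := by group
          _ = c⁻¹ * (x * e) * c := by rw [hxe]
          _ = c⁻¹ * x * c * (c⁻¹ * e * c) := by group
    rw [hN N hNn hNt, Subgroup.mem_bot] at h1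
    rw [Subgroup.mem_bot]
    calc x = c * (c⁻¹ * x * c) * c⁻¹ := by group
      _ = 1 := by rw [h1]; group
  -- there is a third element
  have hex : ∃ e ∈ E, e ≠ 1 ∧ e ≠ z := by
    by_contra hcon
    push Not at hcon
    have hsub : (Set.univ : Set E) ⊆ {1, ⟨z, hzE⟩} := by
      intro e _
      by_cases h1 : (e : H) = 1
      · left; exact Subtype.ext h1
      · right; exact Subtype.ext (hcon e e.2 h1)
    have hcard : Nat.card E ≤ 2 := by
      have h1 := Set.ncard_le_ncard hsub (Set.toFinite _)
      rw [Set.ncard_univ] at h1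
      exact le_trans h1 (Set.ncard_insert_le _ _ |>.trans (by simp))
    rw [hE.card_four] at hcard
    norm_num at hcard
  obtain ⟨e, heE, he1, hez⟩ := hex
  have hze : z * e ∈ E := E.mul_mem hzE heE
  have hze1 : z * e ≠ 1 := by
    intro h
    apply hez
    have hzz := hsq z hzE
    calc e = (z * z) * e := by rw [hzz, one_mul]
      _ = z * (z * e) := by group
      _ = z := by rw [h, mul_one]
  refine { exists_pair_ne := ⟨z, 1, hz1⟩, eq_bot_or_eq_top_of_normal := ?_ }
  intro N hNn
  by_cases hNt : N = ⊤
  · right; exact hNt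
  · left
    have i1 := inverts_of_inf_centralizer_eq_bot N z (hsq z hzE) (hNe N hNn hNt z hzE hz1)
    have i2 := inverts_of_inf_centralizer_eq_bot N e (hsq e heE) (hNe N hNn hNt e heE he1)
    have h3 := hNe N hNn hNt (z * e) hze hze1
    rw [eq_bot_iff]
    intro n hn
    have hcomm : n ∈ N ⊓ Subgroup.centralizer ({z * e} : Set H) := by
      refine Subgroup.mem_inf.mpr ⟨hn, ?_⟩
      rw [Subgroup.mem_centralizer_iff]
      intro y hy
      rw [Set.mem_singleton_iff] at hy
      subst hy
      have h5 : e * n * e⁻¹ = n⁻¹ := i2 n hn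
      have h6 : z * n⁻¹ * z⁻¹ = (n⁻¹)⁻¹ := i1 n⁻¹ (N.inv_mem hn)
      have h7 : (z * e) * n * (z * e)⁻¹ = n := by
        calc (z * e) * n * (z * e)⁻¹ = z * (e * n * e⁻¹) * z⁻¹ := by group
          _ = n := by rw [h5, h6, inv_inv]
      calc z * e * n = ((z * e) * n * (z * e)⁻¹) * (z * e) := by group
        _ = n * (z * e) := by rw [h7]
    rw [h3] at hcomm
    exact hcomm

end Cfsg.Agent.S2009
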