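import Cfsg.Statements.S2008
import Cfsg.Agent.S2009

set_option autoImplicit false
open Cfsg

namespace Cfsg.Agent.S2008

/-- Let H be a finite group and z an involution such that every proper normal subgroup of H meets the centralizer of z trivially, and suppose z lies in a Klein four-subgroup E of H all three of whose involutions are conjugate to z in H. Then H has no non-trivial abelian normal subgroup. -/
theorem result {H : Type*} [Group H] [Finite H] (z : H) (hz : orderOf z = 2) (hN : ∀ N : Subgroup H, N.Normal → N ≠ ⊤ → N ⊓ Subgroup.centralizer ({z} : Set H) = ⊥) (E : Subgroup H) (hE : IsKleinFour ↥E) (hzE : z ∈ E) (hc : ∀ e ∈ E, e ≠ 1 → IsConj z e) (N : Subgroup H) [N.Normal] (hab : IsMulCommutative ↥N) : N = ⊥ := by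
  have hs : IsSimpleGroup H := Cfsg.Agent.S2009.result z hz hN E hE hzE hc
  rcases hs.eq_bot_or_eq_top_of_normal N inferInstance with h | h
  · exact h
  · exfalso
    -- H is abelian, so z is conjugate only to itself, but E has an element other than 1, z
    have hcomm : ∀ a b : H, a * b = b * a := by
      intro a b
      have ha : a ∈ N := by rw [h]; trivial
      have hb : b ∈ N := by rw [h]; trivial
      have := hab.is_comm.comm (⟨a, ha⟩ : N) ⟨b, hb⟩
      exact congrArg Subtype.val this
    have hex : ∃ e ∈ E, e ≠ 1 ∧ e ≠ z := by
      by_contra hcon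
      push Not at hcon
      have hsub : (Set.univ : Set E) ⊆ {1, ⟨z, hzE⟩} := by
        intro e _
        by_cases h1 : (e : H) = 1
        · left; exact Subtype.ext h1
        · right; exact Subtype.ext (hcon e e.2 h1)
      have hcard : Nat.card E ≤ 2 := by
        have h1 := Set.ncard_le_ncard hsub (Set.toFinite _)
        rw [Set.ncard_univ] at h1
        exact le_trans h1 (Set.ncard_insert_le _ _ |>.trans (by simp))
      rw [hE.card_four] at hcard
      norm_num at hcard
    obtain ⟨e, heE, he1, hez⟩ := hex
    obtain ⟨c, hc'⟩ := isConj_iff.mp (hc e heE he1)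
    apply hez
    rw [← hc', hcomm c z]; group

end Cfsg.Agent.S2008
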