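import Cfsg.Statements.S2010
import Cfsg.Agent.Lib.Helper18.ClassTwoJe
import Cfsg.Agent.Lib.Helper10.PComponent
import Cfsg.Agent.Lib.Helper27.Involves

set_option autoImplicit false
open Cfsg

namespace Cfsg.Agent.S2010

open Subgroup Cfsg.Agent.Lib.Helper18 Cfsg.Agent.Lib.Helper1 Cfsg.Agent.Lib.Helper18.ClassTwoJe
open scoped commutatorElement

universe u

section Aux

variable {G : Type u} [Group G] [Finite G]

/-- The case `O_{2'}(G) = 1` of the key claim, for solvable groups. -/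
theorem key_solv [Group.IsSolvable G] (hS4 : ¬ Cfsg.Involves (Equiv.Perm (Fin 4)) G)
    (hO : pPrimeCore 2 G = ⊥) (S : Sylow 2 G)
    (hcl : ∀ s ∈ (S : Subgroup G), ∀ t ∈ (S : Subgroup G), ∀ u ∈ (S : Subgroup G),
      ⁅⁅s, t⁆, u⁆ = 1)
    (A : Subgroup G) (hA : IsMaxEAIn 2 (S : Subgroup G) A) : A ≤ pCore 2 G := by
  have hp2 : Fact (Nat.Prime 2) := ⟨Nat.prime_two⟩
  refine key_core hS4 (pCore 2 G) (pCore_isPGroup 2) (centralizer_pCore_le 2 hO) ?_ S
    (pCore_le_sylow S) hcl A hA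
  intro D hDne hDab hD2
  exact OffenderTwoB.stage1s (ThompsonNPC.pCore_quotient_pCore_eq_bot (p := 2)) D hDne hDab hD2

/-- The key claim in a quotient modulo a normal subgroup of odd order: transport of the hypotheses. -/
theorem key_quot [Group.IsSolvable G] (hS4 : ¬ Cfsg.Involves (Equiv.Perm (Fin 4)) G)
    (N : Subgroup G) [hNn : N.Normal] (hNcop : (Nat.card N).Coprime 2)
    (hO' : pPrimeCore 2 (G ⧸ N) = ⊥) (S : Sylow 2 G)
    (hcl : ∀ s ∈ (S : Subgroup G), ∀ t ∈ (S : Subgroup G), ∀ u ∈ (S : Subgroup G),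
      ⁅⁅s, t⁆, u⁆ = 1)
    (A : Subgroup G) (hA : IsMaxEAIn 2 (S : Subgroup G) A) :
    A.map (QuotientGroup.mk' N) ≤ pCore 2 (G ⧸ N) := by
  have hp2 : Fact (Nat.Prime 2) := ⟨Nat.prime_two⟩
  set π := QuotientGroup.mk' N with hπ
  have hπs : Function.Surjective π := QuotientGroup.mk'_surjective _
  have hπker : π.ker = N := QuotientGroup.ker_mk' N
  obtain ⟨hAS, hAab, hA2, hAmax⟩ := hA
  -- `π` is injective on `S`
  have hSN : ∀ x ∈ (S : Subgroup G), x ∈ N → x = 1 := by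
    intro x hxS hxN
    obtain ⟨k, hk⟩ := S.isPGroup'.exists_card_eq
    have h1 : orderOf x ∣ 2 ^ k := by rw [← hk]; exact Subgroup.orderOf_dvd_natCard _ hxS
    have h2 : orderOf x ∣ Nat.card N := Subgroup.orderOf_dvd_natCard _ hxN
    have h3 : (Nat.card N).Coprime (2 ^ k) := Nat.Coprime.pow_right k hNcop
    exact orderOf_eq_one_iff.mp (Nat.eq_one_of_dvd_coprimes h3 h2 h1)
  have hinj : ∀ x ∈ (S : Subgroup G), ∀ y ∈ (S : Subgroup G), π x = π y → x = y := by
    intro x hx y hy hxy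
    have h1 : x * y⁻¹ ∈ N := by
      rw [← hπker, MonoidHom.mem_ker, map_mul, map_inv, hxy, mul_inv_cancel]
    have h2 := hSN _ ((S : Subgroup G).mul_mem hx ((S : Subgroup G).inv_mem hy)) h1
    exact mul_inv_eq_one.mp h2
  have hcardS : ∀ C : Subgroup G, C ≤ S → Nat.card (C.map π) = Nat.card C := by
    intro C hC
    have h1 := card_map_mul_card_inf_ker π C
    have h2 : C ⊓ π.ker = ⊥ := by
      rw [eq_bot_iff]
      intro x hx
      rw [Subgroup.mem_bot]
      obtain ⟨hx1, hx2⟩ := Subgroup.mem_inf.mp hx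
      rw [hπker] at hx2
      exact hSN x (hC hx1) hx2
    rw [h2, Subgroup.card_bot, mul_one] at h1
    exact h1
  -- the image Sylow subgroup
  set T : Sylow 2 (G ⧸ N) := S.mapSurjective hπs with hT
  have hTcoe : (T : Subgroup (G ⧸ N)) = (S : Subgroup G).map π := Sylow.coe_mapSurjective _ S
  have hS4' : ¬ Cfsg.Involves (Equiv.Perm (Fin 4)) (G ⧸ N) := fun hM =>
    hS4 (Cfsg.Agent.Lib.Helper27.involves_trans hM
      (Cfsg.Agent.Lib.Helper27.involves_of_surjective π hπs))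
  have hcl' : ∀ s ∈ (T : Subgroup (G ⧸ N)), ∀ t ∈ (T : Subgroup (G ⧸ N)),
      ∀ u ∈ (T : Subgroup (G ⧸ N)), ⁅⁅s, t⁆, u⁆ = 1 := by
    rw [hTcoe]
    rintro _ ⟨s, hs, rfl⟩ _ ⟨t, ht, rfl⟩ _ ⟨u, hu, rfl⟩
    rw [← map_commutatorElement, ← map_commutatorElement, hcl s hs t ht u hu, map_one]
  apply key_solv hS4' hO' T hcl'
  refine ⟨?_, ?_, ?_, ?_⟩
  · rw [hTcoe]; exact Subgroup.map_mono hAS
  · rintro _ ⟨a, ha, rfl⟩ _ ⟨b, hb, rfl⟩
    rw [← map_mul, ← map_mul, hAab a ha b hb]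
  · rintro _ ⟨a, ha, rfl⟩
    rw [← map_pow, hA2 a ha, map_one]
  · intro Cbar hCT hCab hC2
    rw [hTcoe] at hCT
    obtain ⟨C, hC⟩ : ∃ C : Subgroup G, C = (S : Subgroup G) ⊓ Cbar.comap π := ⟨_, rfl⟩
    have hCS : C ≤ S := by rw [hC]; exact inf_le_left
    have hCmap : C.map π = Cbar := by
      apply le_antisymm
      · rw [hC]
        rintro _ ⟨y, hy, rfl⟩
        exact (Subgroup.mem_inf.mp hy).2
      · intro c hc
        obtain ⟨s, hs, rfl⟩ := hCT hc
        refine ⟨s, ?_, rfl⟩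
        rw [hC]
        exact Subgroup.mem_inf.mpr ⟨hs, hc⟩
    have hCab' : ∀ x ∈ C, ∀ y ∈ C, x * y = y * x := by
      intro x hx y hy
      apply hinj _ ((S : Subgroup G).mul_mem (hCS hx) (hCS hy)) _
        ((S : Subgroup G).mul_mem (hCS hy) (hCS hx))
      rw [map_mul, map_mul]
      apply hCab
      · rw [← hCmap]; exact Subgroup.mem_map_of_mem π hx
      · rw [← hCmap]; exact Subgroup.mem_map_of_mem π hy
    have hC2' : ∀ x ∈ C, x ^ 2 = 1 := by
      intro x hx
      apply hinj _ ((S : Subgroup G).pow_mem (hCS hx) 2) _ ((S : Subgroup G).one_mem)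
      rw [map_pow, map_one]
      apply hC2
      rw [← hCmap]; exact Subgroup.mem_map_of_mem π hx
    have h1 := hAmax C hCS hCab' hC2'
    rw [← hCmap, hcardS C hCS, hcardS A hAS]
    exact h1

/-- The Frattini argument: if all elementary abelian subgroups of largest order of `S` map into
`O₂(G / N)` for a normal subgroup `N` of odd order, then `G = N_G(J_e(S)) N`. -/
theorem frattini_part (N : Subgroup G) [hNn : N.Normal] (hNcop : (Nat.card N).Coprime 2)
    (S : Sylow 2 G)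
    (hkey : ∀ A, IsMaxEAIn 2 (S : Subgroup G) A →
      A.map (QuotientGroup.mk' N) ≤ pCore 2 (G ⧸ N)) :
    normalizer ((Cfsg.thompsonSubgroupOf 2 (S : Subgroup G)) : Set G) ⊔ N = ⊤ := by
  have hp2 : Fact (Nat.Prime 2) := ⟨Nat.prime_two⟩
  set π := QuotientGroup.mk' N with hπ
  have hπs : Function.Surjective π := QuotientGroup.mk'_surjective _
  have hπker : π.ker = N := QuotientGroup.ker_mk' N
  obtain ⟨Pbar, hPbar⟩ : ∃ Pbar : Subgroup (G ⧸ N), Pbar = pCore 2 (G ⧸ N) := ⟨_, rfl⟩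
  rw [← hPbar] at hkey
  have hPbarn : Pbar.Normal := by rw [hPbar]; infer_instance
  obtain ⟨Pf, hPf⟩ : ∃ Pf : Subgroup G, Pf = Pbar.comap π := ⟨_, rfl⟩
  have hPfn : Pf.Normal := by rw [hPf]; exact Subgroup.Normal.comap hPbarn π
  have hNPf : N ≤ Pf := by
    rw [hPf]
    intro x hx
    rw [Subgroup.mem_comap]
    have : π x = 1 := by rw [← MonoidHom.mem_ker, hπker]; exact hx
    rw [this]; exact Pbar.one_mem
  obtain ⟨T, hT⟩ : ∃ T : Subgroup G, T = (S : Subgroup G) ⊓ Pf := ⟨_, rfl⟩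
  have hTS : T ≤ S := by rw [hT]; exact inf_le_left
  have hTPf : T ≤ Pf := by rw [hT]; exact inf_le_right
  have hBT : ∀ B, IsMaxEAIn 2 (S : Subgroup G) B → B ≤ T := by
    intro B hB
    rw [hT]
    refine le_inf hB.1 ?_
    rw [hPf]
    exact Subgroup.map_le_iff_le_comap.mp (hkey B hB)
  -- `π` is injective on `S`
  have hSN : ∀ x ∈ (S : Subgroup G), x ∈ N → x = 1 := by
    intro x hxS hxN
    obtain ⟨k, hk⟩ := S.isPGroup'.exists_card_eq
    have h1 : orderOf x ∣ 2 ^ k := by rw [← hk]; exact Subgroup.orderOf_dvd_natCard _ hxS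
    have h2 : orderOf x ∣ Nat.card N := Subgroup.orderOf_dvd_natCard _ hxN
    have h3 : (Nat.card N).Coprime (2 ^ k) := Nat.Coprime.pow_right k hNcop
    exact orderOf_eq_one_iff.mp (Nat.eq_one_of_dvd_coprimes h3 h2 h1)
  -- the image Sylow subgroup contains `O₂(G / N)`
  set Sbar : Sylow 2 (G ⧸ N) := S.mapSurjective hπs with hSbar
  have hSbarcoe : (Sbar : Subgroup (G ⧸ N)) = (S : Subgroup G).map π :=
    Sylow.coe_mapSurjective _ S
  have hPbarS : Pbar ≤ (S : Subgroup G).map π := by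
    rw [← hSbarcoe, hPbar]; exact pCore_le_sylow Sbar
  have hTmap : T.map π = Pbar := by
    apply le_antisymm
    · rw [hT, hPf]
      rintro _ ⟨y, hy, rfl⟩
      exact (Subgroup.mem_inf.mp hy).2
    · intro c hc
      obtain ⟨s, hs, rfl⟩ := hPbarS hc
      refine ⟨s, ?_, rfl⟩
      rw [hT, hPf]
      exact Subgroup.mem_inf.mpr ⟨hs, hc⟩
  have hTcard : Nat.card T = Nat.card Pbar := by
    have h1 := card_map_mul_card_inf_ker π T
    have h2 : T ⊓ π.ker = ⊥ := by
      rw [eq_bot_iff]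
      intro x hx
      rw [Subgroup.mem_bot]
      obtain ⟨hx1, hx2⟩ := Subgroup.mem_inf.mp hx
      rw [hπker] at hx2
      exact hSN x (hTS hx1) hx2
    rw [h2, Subgroup.card_bot, mul_one, hTmap] at h1
    exact h1.symm
  have hPfcard : Nat.card Pf = Nat.card Pbar * Nat.card N := by
    have h1 := card_map_mul_card_inf_ker π Pf
    have h2 : Pf ⊓ π.ker = N := by rw [hπker]; exact inf_eq_right.mpr hNPf
    have h3 : Pf.map π = Pbar := by
      rw [hPf]; exact Subgroup.map_comap_eq_self_of_surjective hπs Pbar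
    rw [h2, h3] at h1
    exact h1.symm
  have hrel : T.relIndex Pf = Nat.card N := by
    have h1 := Cfsg.Agent.Lib.Helper18.card_mul_relIndex_of_le hTPf
    rw [hPfcard, hTcard] at h1
    exact Nat.eq_of_mul_eq_mul_left Nat.card_pos h1
  have hi : ¬ 2 ∣ (T.subgroupOf Pf).index := by
    intro h
    have h' : 2 ∣ Nat.card N := by rw [← hrel]; exact h
    have h1 : (2 : ℕ) ∣ Nat.gcd (Nat.card N) 2 := Nat.dvd_gcd h' dvd_rfl
    rw [hNcop] at h1
    exact absurd h1 (by norm_num)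
  have hT2 : IsPGroup 2 (T.subgroupOf Pf) := (S.isPGroup'.to_le hTS).comap_subtype
  have hfr := Sylow.normalizer_sup_eq_top (hT2.toSylow hi)
  rw [IsPGroup.toSylow_coe, Subgroup.subgroupOf_map_subtype, inf_of_le_left hTPf] at hfr
  -- `N_G(T) ≤ N_G(J_e(S))`
  have hNT : normalizer (T : Set G) ≤
      normalizer ((Cfsg.thompsonSubgroupOf 2 (S : Subgroup G)) : Set G) := by
    intro g hg
    apply mem_normalizer_thompsonSubgroupOf 2 (S : Subgroup G) g
    intro B hB
    have h1 : cj g T = T := (mem_normalizer_iff_cj g T).mp hg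
    exact ((cj_mono g (hBT B hB)).trans h1.le).trans hTS
  rw [eq_top_iff, ← hfr]
  refine sup_le (hNT.trans le_sup_left) ?_
  intro x hx
  have h1 : π x ∈ T.map π := by
    rw [hTmap]
    rw [hPf] at hx
    exact hx
  obtain ⟨s, hs, hsx⟩ := h1
  have h2 : x * s⁻¹ ∈ N := by
    rw [← hπker, MonoidHom.mem_ker, map_mul, map_inv, hsx, mul_inv_cancel]
  have h3 : x = (x * s⁻¹) * s := by group
  rw [h3]
  apply Subgroup.mul_mem
  · exact Subgroup.mem_sup_right h2
  · exact Subgroup.mem_sup_left (hNT (Subgroup.le_normalizer hs))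

end Aux

/-- Let G be a finite solvable group with no section isomorphic to the symmetric group of degree 4, whose Sylow 2-subgroup S has nilpotency class at most 2. Then G = N_G(J_e(S)) · O_{2'}(G), where J_e(S) is the subgroup generated by the elementary abelian subgroups of S of largest order. -/
theorem result {G : Type*} [Group G] [Finite G]
    [Group.IsSolvable G] (hS4 : ¬ Cfsg.Involves (Equiv.Perm (Fin 4)) G) (S : Sylow 2 G)
    (hcl : Subgroup.lowerCentralSeries (S : Subgroup G) 2 = ⊥) :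
    Subgroup.normalizer ((Cfsg.thompsonSubgroupOf 2 (S : Subgroup G)) : Set G) ⊔ Cfsg.pPrimeCore 2 G = ⊤ := by
  have hp2 : Fact (Nat.Prime 2) := ⟨Nat.prime_two⟩
  have hcl' : ∀ s ∈ (S : Subgroup G), ∀ t ∈ (S : Subgroup G), ∀ u ∈ (S : Subgroup G),
      ⁅⁅s, t⁆, u⁆ = 1 := by
    intro s hs t ht u hu
    have h1 : ⁅⁅s, t⁆, u⁆ ∈ Subgroup.lowerCentralSeries (S : Subgroup G) 2 :=
      Subgroup.commutator_mem_commutator (Subgroup.commutator_mem_commutator hs ht) hu
    rw [hcl, Subgroup.mem_bot] at h1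
    exact h1
  apply frattini_part (pPrimeCore 2 G) (pPrimeCore_coprime 2) S
  intro A hA
  exact key_quot hS4 (pPrimeCore 2 G) (pPrimeCore_coprime 2)
    (Cfsg.Agent.Lib.Helper10.pPrimeCore_quotient_eq_bot 2) S hcl' A hA

end Cfsg.Agent.S2010
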