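import Cfsg.Statements.S2011
import Cfsg.Agent.Lib.Helper13.RelSylow
import Cfsg.Agent.Lib.Helper13.NormalPComplement
import Cfsg.Agent.Lib.Helper1.Cores
import Cfsg.Agent.S1921
import Cfsg.Agent.S2013

set_option autoImplicit false
open Cfsg

namespace Cfsg.Agent.S2011

open Cfsg.Agent.Lib.Helper13

/-- Under the direct decomposition, every `p`-element of `C_G(Q)` lies in `Q`. -/
theorem key_mem {G : Type*} [Group G] [Finite G] (p : ℕ) [Fact p.Prime] (Q : Subgroup G)
    (h : Cfsg.IsInternalDirectProduct (Q ⊓ Subgroup.centralizer (Q : Set G))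
      ((Cfsg.pPrimeCore p ↥(Subgroup.centralizer (Q : Set G))).map (Subgroup.centralizer (Q : Set G)).subtype)
      (Subgroup.centralizer (Q : Set G)))
    (y : G) (hy : y ∈ Subgroup.centralizer (Q : Set G)) (m : ℕ) (hym : y ^ p ^ m = 1) : y ∈ Q := by
  obtain ⟨-, -, hcomm, hinf, hsup⟩ := h
  rw [← hsup] at hy
  obtain ⟨z, hz, k, hk, rfl⟩ := Cfsg.Agent.S1921.mem_sup_of_commute _ _ hcomm hy
  have hzk : Commute z k := hcomm z hz k hk
  rw [hzk.mul_pow] at hym
  have hk1 : k ^ p ^ m ∈ (Q ⊓ Subgroup.centralizer (Q : Set G)) ⊓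
      ((Cfsg.pPrimeCore p ↥(Subgroup.centralizer (Q : Set G))).map (Subgroup.centralizer (Q : Set G)).subtype) := by
    refine Subgroup.mem_inf.mpr ⟨?_, Subgroup.pow_mem _ hk _⟩
    have : k ^ p ^ m = (z ^ p ^ m)⁻¹ := eq_inv_of_mul_eq_one_right hym
    rw [this]
    exact Subgroup.inv_mem _ (Subgroup.pow_mem _ hz _)
  rw [hinf, Subgroup.mem_bot] at hk1
  obtain ⟨c, hc, rfl⟩ := hk
  have hcop := Cfsg.Agent.Lib.Helper1.pPrimeCore_coprime (G := ↥(Subgroup.centralizer (Q : Set G))) p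
  have h1 : orderOf (c : G) ∣ p ^ m := orderOf_dvd_of_pow_eq_one hk1
  have h2 : orderOf (c : G) ∣ Nat.card (Cfsg.pPrimeCore p ↥(Subgroup.centralizer (Q : Set G))) := by
    have h3 : orderOf (⟨c, hc⟩ : ↥(Cfsg.pPrimeCore p ↥(Subgroup.centralizer (Q : Set G)))) ∣ _ :=
      orderOf_dvd_natCard _
    rwa [← Subgroup.orderOf_coe, ← Subgroup.orderOf_coe] at h3
  have h4 : orderOf (c : G) = 1 :=
    Nat.eq_one_of_dvd_coprimes (Nat.Coprime.pow_right m hcop) h2 h1
  have h5 : (c : G) = 1 := orderOf_eq_one_iff.mp h4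
  show z * Subgroup.subtype _ c ∈ Q
  rw [Subgroup.coe_subtype, h5, mul_one]
  exact (Subgroup.mem_inf.mp hz).1

/-- Let P be a Sylow p-subgroup of a finite group G and Q a subgroup of P. Then Q is centric in the fusion system of G over P if and only if C_G(Q) is the direct product of Z(Q) and O_{p'}(C_G(Q)). -/
theorem result {G : Type*} [Group G] [Finite G] (p : ℕ) [Fact p.Prime] (P : Sylow p G) (Q : Subgroup G) (hQ : Q ≤ P) : (Cfsg.groupFusionSystem (P : Subgroup G)).IsCentric Q ↔ Cfsg.IsInternalDirectProduct (Q ⊓ Subgroup.centralizer (Q : Set G)) ((Cfsg.pPrimeCore p ↥(Subgroup.centralizer (Q : Set G))).map (Subgroup.centralizer (Q : Set G)).subtype) (Subgroup.centralizer (Q : Set G)) := by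
  set C : Subgroup G := Subgroup.centralizer (Q : Set G) with hC
  set Z : Subgroup G := Q ⊓ C with hZ
  have hQp : IsPGroup p Q := P.isPGroup'.to_le hQ
  have hZp : IsPGroup p Z := hQp.to_le inf_le_left
  have hcommQC : ∀ q ∈ Q, ∀ c ∈ C, q * c = c * q := by
    intro q hq c hc
    exact (Subgroup.mem_centralizer_iff.mp hc q hq)
  constructor
  · rintro ⟨-, hcen⟩
    obtain ⟨T0, hZT0, hT0C, hT0p, hT0i⟩ := exists_relSylow_ge C Z hZp inf_le_right
    have hQN : Q ≤ Subgroup.normalizer (T0 : Set G) := by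
      intro q hq
      rw [Subgroup.mem_normalizer_iff]
      intro t
      constructor
      · intro ht
        have := hcommQC q hq t (hT0C ht)
        have h2 : q * t * q⁻¹ = t := by rw [this]; group
        rw [h2]; exact ht
      · intro ht
        have h1 : q * t * q⁻¹ ∈ C := hT0C ht
        have := hcommQC q⁻¹ (Q.inv_mem hq) _ h1
        have h2 : t = q⁻¹ * (q * t * q⁻¹) * q := by group
        have h3 : q⁻¹ * (q * t * q⁻¹) * q = q * t * q⁻¹ := by rw [this]; group
        rw [h2, h3]; exact ht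
    have hQT0 : IsPGroup p (Q ⊔ T0 : Subgroup G) := hQp.to_sup_of_normal_right' hT0p hQN
    obtain ⟨P', hP'⟩ := hQT0.exists_le_sylow
    obtain ⟨g, hg⟩ := MulAction.exists_smul_eq G P' P
    have hPmap : (P : Subgroup G) = (P' : Subgroup G).map (MulAut.conj g).toMonoidHom := by
      rw [← hg, Cfsg.Agent.S2013.sylow_smul_eq_map]
    have hconjP : ∀ y ∈ (P' : Subgroup G), g * y * g⁻¹ ∈ (P : Subgroup G) := by
      intro y hy
      rw [hPmap]; exact conj_mem_map_conj _ g hy
    have hconj : (Cfsg.groupFusionSystem (P : Subgroup G)).IsConj Q (Q.map (MulAut.conj g).toMonoidHom) := by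
      refine ⟨Cfsg.conjHom Q g, ⟨hQ, ?_, g, fun x => rfl⟩, ?_⟩
      · intro x
        exact hconjP _ (hP' (le_sup_left (a := Q) x.2))
      · unfold Cfsg.conjHom
        rw [MonoidHom.range_eq_map, ← Subgroup.map_map, ← MonoidHom.range_eq_map, Subgroup.range_subtype]
    have h1 := hcen _ hconj
    have hT0Q : T0 ≤ Q := by
      intro y hy
      have h2 : g * y * g⁻¹ ∈ Cfsg.FusionSystem.centralizerIn (P : Subgroup G) (Q.map (MulAut.conj g).toMonoidHom) := by
        refine Subgroup.mem_inf.mpr ⟨hconjP y (hP' (le_sup_right (a := Q) hy)), ?_⟩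
        rw [Subgroup.mem_centralizer_iff]
        rintro _ ⟨q, hq, rfl⟩
        have := hcommQC q hq y (hT0C hy)
        simp only [MulEquiv.coe_toMonoidHom, MulAut.conj_apply]
        calc g * q * g⁻¹ * (g * y * g⁻¹) = g * (q * y) * g⁻¹ := by group
          _ = g * (y * q) * g⁻¹ := by rw [this]
          _ = g * y * g⁻¹ * (g * q * g⁻¹) := by group
      have h3 := h1 h2
      rw [mem_map_conj_iff] at h3
      have h4 : g⁻¹ * (g * y * g⁻¹) * g = y := by group
      rwa [h4] at h3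
    have hT0Z : T0 = Z := le_antisymm (le_inf hT0Q hT0C) hZT0
    rw [hT0Z] at hT0i
    let D : Sylow p ↥C := (hZp.comap_subtype : IsPGroup p (Z.subgroupOf C)).toSylow hT0i
    have hDmem : ∀ c : ↥C, c ∈ (D : Subgroup ↥C) ↔ (c : G) ∈ Z := by
      intro c
      exact Subgroup.mem_subgroupOf
    have hDcen : (D : Subgroup ↥C) ≤ Subgroup.center ↥C := by
      intro c hc
      rw [Subgroup.mem_center_iff]
      intro d
      apply Subtype.ext
      have hcQ : (c : G) ∈ Q := (Subgroup.mem_inf.mp ((hDmem c).mp hc)).1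
      exact (hcommQC c hcQ d d.2).symm
    obtain ⟨K', hK'n, hK'card, hK'all⟩ := exists_normal_pPrime_of_central_sylow D hDcen
    have hp : p.Prime := Fact.out
    have hK'eq : K' = Cfsg.pPrimeCore p ↥C := by
      apply le_antisymm
      · exact Cfsg.Agent.Lib.Helper1.le_pPrimeCore hK'n ((Nat.Prime.coprime_iff_not_dvd hp).mpr hK'card).symm
      · intro x hx
        apply hK'all
        have hcop := Cfsg.Agent.Lib.Helper1.pPrimeCore_coprime (G := ↥C) p
        have h3 : orderOf (⟨x, hx⟩ : ↥(Cfsg.pPrimeCore p ↥C)) ∣ _ := orderOf_dvd_natCard _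
        rw [← Subgroup.orderOf_coe] at h3
        exact Nat.Coprime.coprime_dvd_left h3 hcop
    have hcompl := isComplement'_of_contains_pPrime_elements D K' hK'card hK'all
    refine ⟨inf_le_right, Subgroup.map_subtype_le _, ?_, ?_, ?_⟩
    · intro a ha b hb
      exact hcommQC a (Subgroup.mem_inf.mp ha).1 b (Subgroup.map_subtype_le _ hb)
    · rw [eq_bot_iff]
      intro y hy
      obtain ⟨hyZ, c, hc, rfl⟩ := Subgroup.mem_inf.mp hy
      have hcD : c ∈ (D : Subgroup ↥C) := (hDmem c).mpr hyZ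
      have hcK : c ∈ K' := by rw [hK'eq]; exact hc
      have : c ∈ K' ⊓ (D : Subgroup ↥C) := Subgroup.mem_inf.mpr ⟨hcK, hcD⟩
      rw [hcompl.disjoint.eq_bot, Subgroup.mem_bot] at this
      rw [this]; simp
    · apply le_antisymm
      · exact sup_le inf_le_right (Subgroup.map_subtype_le _)
      · intro c hc
        have hcc : (⟨c, hc⟩ : ↥C) ∈ K' ⊔ (D : Subgroup ↥C) := by rw [hcompl.sup_eq_top]; trivial
        obtain ⟨k, hk, d, hd, hkd⟩ := Subgroup.mem_sup_of_normal_left.mp hcc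
        have hc' : c = (k : G) * (d : G) := by
          have := congrArg Subtype.val hkd
          simpa using this.symm
        rw [hc']
        refine Subgroup.mul_mem _ (Subgroup.mem_sup_right ?_) (Subgroup.mem_sup_left ((hDmem d).mp hd))
        exact ⟨k, by rw [← hK'eq]; exact hk, rfl⟩
  · intro hprod
    refine ⟨hQ, ?_⟩
    rintro R ⟨φ, ⟨-, hφP, g, hg⟩, rfl⟩
    intro x hx
    obtain ⟨hxP, hxC⟩ := Subgroup.mem_inf.mp hx
    have hyC : g⁻¹ * x * g ∈ C := by
      rw [Subgroup.mem_centralizer_iff]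
      intro q hq
      have h1 : g * q * g⁻¹ ∈ (φ.range : Set G) := ⟨⟨q, hq⟩, hg ⟨q, hq⟩⟩
      have h2 := Subgroup.mem_centralizer_iff.mp hxC _ h1
      calc q * (g⁻¹ * x * g) = g⁻¹ * (g * q * g⁻¹ * x) * g := by group
        _ = g⁻¹ * (x * (g * q * g⁻¹)) * g := by rw [h2]
        _ = g⁻¹ * x * g * q := by group
    obtain ⟨m, hm⟩ := (P.isPGroup' ⟨x, hxP⟩)
    have hxm : x ^ p ^ m = 1 := by
      have := congrArg Subtype.val hm
      simpa using this
    have hym : (g⁻¹ * x * g) ^ p ^ m = 1 := by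
      have h1 : g⁻¹ * x * g = g⁻¹ * x * g⁻¹⁻¹ := by rw [inv_inv]
      rw [h1, conj_pow, hxm]
      group
    have hyQ := key_mem p Q hprod _ hyC m hym
    refine ⟨⟨g⁻¹ * x * g, hyQ⟩, ?_⟩
    rw [hg]
    simp only []
    group

end Cfsg.Agent.S2011
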