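import Cfsg.Statements.S2014
import Cfsg.Agent.Lib.Helper13.Conj
import Cfsg.Agent.Lib.Helper13.Sylow
import Cfsg.Agent.Lib.Helper13.Residual

set_option autoImplicit false
open Cfsg

namespace Cfsg.Agent.S2014

open Cfsg.Agent.Lib.Helper13

/-- Let P be a Sylow p-subgroup of a finite group G and A, C ≤ P subgroups conjugate in G, with C extremal: N_P(C) is a Sylow p-subgroup of N_G(C). Then there is g with gAg⁻¹ = C and g N_P(A) g⁻¹ ≤ N_P(C); moreover, given any h with hAh⁻¹ = C, g can be chosen so that h g⁻¹ lies in O^p(N_G(C)), the subgroup of N_G(C) generated by its elements of order prime to p. -/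
theorem result {G : Type*} [Group G] [Finite G] (p : ℕ) [Fact p.Prime] (P : Sylow p G) (A C : Subgroup G) (hA : A ≤ P) (hC : C ≤ P) (hext : ¬ p ∣ ((P : Subgroup G) ⊓ Subgroup.normalizer ((C : Subgroup G) : Set G)).relIndex (Subgroup.normalizer ((C : Subgroup G) : Set G))) (h : G) (hh : A.map (MulAut.conj h).toMonoidHom = C) : ∃ g : G, A.map (MulAut.conj g).toMonoidHom = C ∧ ((P : Subgroup G) ⊓ Subgroup.normalizer ((A : Subgroup G) : Set G)).map (MulAut.conj g).toMonoidHom ≤ (P : Subgroup G) ⊓ Subgroup.normalizer ((C : Subgroup G) : Set G) ∧ h * g⁻¹ ∈ (Cfsg.pResidual p ↥(Subgroup.normalizer ((C : Subgroup G) : Set G))).map (Subgroup.normalizer ((C : Subgroup G) : Set G)).subtype := by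
  set N : Subgroup G := Subgroup.normalizer (C : Set G) with hN
  set PC : Subgroup G := (P : Subgroup G) ⊓ N with hPC
  set Q : Subgroup G := ((P : Subgroup G) ⊓ Subgroup.normalizer (A : Set G)).map (MulAut.conj h).toMonoidHom with hQ
  have hQp : IsPGroup p Q := (P.isPGroup'.to_le inf_le_left).map _
  have hQN : Q ≤ N := by
    rw [hQ, map_conj_le_iff]
    intro q hq
    have hqN : q ∈ Subgroup.normalizer (A : Set G) := (Subgroup.mem_inf.mp hq).2
    rw [← map_conj_eq_self_iff_mem_normalizer] at hqN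
    rw [hN, ← map_conj_eq_self_iff_mem_normalizer, ← hh, ← map_conj_mul]
    have : h * q * h⁻¹ * h = h * q := by group
    rw [this, map_conj_mul, hqN]
  have hPCp : IsPGroup p PC := P.isPGroup'.to_le inf_le_left
  obtain ⟨n, hnN, hnQ⟩ := exists_conj_le_of_relIndex N PC Q hPCp hext hQN hQp
  -- decompose n inside the group N
  have hidx : ¬ p ∣ (PC.subgroupOf N).index := hext
  obtain ⟨m, hm, u, hu, hnmu⟩ := exists_mul_of_sylow_pResidual (H := N) p (PC.subgroupOf N) hidx ⟨n, hnN⟩
  have hmPC : (m : G) ∈ PC := Subgroup.mem_subgroupOf.mp hm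
  have hnmu' : n = (m : G) * (u : G) := by
    have := congrArg Subtype.val hnmu
    simpa using this
  have huN : (u : G) ∈ N := u.2
  refine ⟨(u : G) * h, ?_, ?_, ?_⟩
  · rw [map_conj_mul, hh]
    exact (map_conj_eq_self_iff_mem_normalizer C (u : G)).mpr huN
  · rw [map_conj_mul, map_conj_le_iff]
    intro q hq
    have h1 := hnQ q hq
    have h2 : (u : G) * q * (u : G)⁻¹ = (m : G)⁻¹ * (n * q * n⁻¹) * (m : G) := by
      rw [hnmu']; group
    rw [h2]
    exact PC.mul_mem (PC.mul_mem (PC.inv_mem hmPC) h1) hmPC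
  · refine ⟨u⁻¹, Subgroup.inv_mem _ hu, ?_⟩
    simp only [Subgroup.subtype_apply, Subgroup.coe_inv]
    group

end Cfsg.Agent.S2014
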