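import Cfsg.Statements.S2015
import Mathlib
import Cfsg.Agent.H5.KInf13

set_option autoImplicit false
universe u
open Cfsg

namespace Cfsg.Agent.S2015

/-- For p ≥ 5, every finite p-group P has a characteristic subgroup K containing Z(P), depending only on P, whose normalizer controls transfer wherever P is a Sylow subgroup: for every finite group G and every embedding ι of P onto a Sylow p-subgroup of G, the intersection of ι(P) with the derived subgroup of G equals its intersection with the derived subgroup of N_G(ι(K)). -/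
theorem result (p : ℕ) [Fact p.Prime] (hp : 5 ≤ p) (P : Type u) [Group P] [Finite P] (hP : IsPGroup p P) : ∃ K : Subgroup P, K.Characteristic ∧ Subgroup.center P ≤ K ∧ ∀ (G : Type u) [Group G] [Finite G] (ι : P →* G), Function.Injective ι → (∃ T : Sylow p G, (T : Subgroup G) = ι.range) → ι.range ⊓ commutator G = ι.range ⊓ (commutator ↥(Subgroup.normalizer ((K.map ι : Subgroup G) : Set G))).map (Subgroup.normalizer ((K.map ι : Subgroup G) : Set G)).subtype := by
  refine ⟨Cfsg.kInfLower P, Cfsg.H5.KI.kInfLower_characteristic P, ?_, ?_⟩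
  · have h1 : Cfsg.H5.KI.Zc (⊤ : Subgroup P) ≤ Cfsg.kInfLower P := by
      rw [Cfsg.H5.KI.kInfLower_eq]; exact Cfsg.H5.KI.Zc_le_kLow _
    refine le_trans ?_ h1
    intro z hz
    refine Subgroup.mem_inf.mpr ⟨Subgroup.mem_top z, ?_⟩
    rw [Subgroup.mem_centralizer_iff]
    intro y _
    exact (Subgroup.mem_center_iff.mp hz y)
  · intro G _ _ ι hι hT
    obtain ⟨T, hT⟩ := hT
    have h1 := Cfsg.H5.KI.kInfLower_transfer_eq hp T
    rw [Cfsg.H5.KI.inducedFunctor_kInfLower, hT, ← Cfsg.H5.KI.map_kInfLower ι hι] at h1
    rw [h1]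
    congr 1
    rw [_root_.commutator, Subgroup.map_commutator, ← MonoidHom.range_eq_map,
      Subgroup.range_subtype]

end Cfsg.Agent.S2015
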