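import Cfsg.Statements.S2035
import Cfsg.Agent.H5.M12Upper
import Cfsg.Agent.H5.M12Cover

set_option autoImplicit false
open Cfsg

namespace Cfsg.Agent.S2035

/-- The Schur multiplier of the Mathieu group M₁₂ (the stabiliser of a dodecad in the automorphism group of the length-24 binary code) is cyclic of order 2; here the Schur multiplier is described through stem extensions, as in the definitions: surjective homomorphisms onto the group from a finite group, whose kernel is central in that finite group and contained in that finite group's commutator subgroup. -/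
theorem result : Cfsg.HasCyclicSchurMultiplier ↥Cfsg.Spor.M12 2 := by
  refine ⟨Cfsg.H5.M12Cov.exists_cover, fun Γ _ _ σ hσ => ?_⟩
  have h := Cfsg.H5.M12Mult.card_ker_le_two Γ σ hσ
  have hpos : 0 < Nat.card σ.ker := Nat.card_pos
  have hdvd : Nat.card σ.ker ∣ 2 := by
    have : Nat.card σ.ker = 1 ∨ Nat.card σ.ker = 2 := by omega
    rcases this with h1 | h1 <;> rw [h1]
    norm_num
  have hcyc : IsCyclic σ.ker := by
    have : Nat.card σ.ker = 1 ∨ Nat.card σ.ker = 2 := by omega
    rcases this with h1 | h1
    · have : Subsingleton σ.ker := (Nat.card_eq_one_iff_unique.mp h1).1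
      exact isCyclic_of_subsingleton
    · have : Fact (Nat.Prime 2) := ⟨Nat.prime_two⟩
      exact isCyclic_of_prime_card h1
  exact Cfsg.Agent.Lib.Helper13.SchurUpper.exists_surj_of_cyclic 2 hdvd

end Cfsg.Agent.S2035
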