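-- Statement S2040 (row 2040): the Schur multiplier of the Hall–Janko group J₂ is cyclic of order 2.
-- Proof (helper24): Cfsg.Agent.Lib.Helper24.J2M.Main (weak presentation of the covering group with exact
-- relators from pinned lifts over an A₅ and from the derived group of an involution centralizer, coset
-- enumeration certificate Q6 of index 10080; lower bound: 2·J₂ is generated by involutions and contains
-- an element of square -1).
import Cfsg.Statements.S2040
import Cfsg.Agent.Lib.Helper24.J2M.Main

set_option autoImplicit false
open Cfsg

namespace Cfsg.Agent.S2040

/-- The Schur multiplier of the Hall–Janko group J₂ (the icosian reflection group modulo its centre) is cyclic of order 2; here the Schur multiplier is described through stem extensions, as in the definitions: surjective homomorphisms onto the group from a finite group, whose kernel is central in that finite group and contained in that finite group's commutator subgroup. -/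
theorem result : Cfsg.HasCyclicSchurMultiplier Cfsg.Spor.J2 2 := by
  exact Cfsg.Agent.Lib.Helper24.J2M.main

end Cfsg.Agent.S2040
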