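import Cfsg.Statements.S2043
import Cfsg.Agent.Lib.Helper9.Co1MASM
import Cfsg.Agent.Lib.Helper23.Co1MLB
import Cfsg.Agent.Lib.Helper27.Co1O.Part7
import Cfsg.Agent.Lib.Helper27.Co1O.Part5L
import Cfsg.Agent.Lib.Helper28.Co1MP3
import Cfsg.Agent.Lib.Helper22.Co1MP2

set_option autoImplicit false
open Cfsg

namespace Cfsg.Agent.S2043

/-- The Schur multiplier of the Conway group Co₁ (the automorphism group of the rank-24 lattice modulo its centre) is cyclic of order 2; here the Schur multiplier is described through stem extensions, as in the definitions: surjective homomorphisms onto the group from a finite group, whose kernel is central in that finite group and contained in that finite group's commutator subgroup. -/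
theorem result : Cfsg.HasCyclicSchurMultiplier Cfsg.Spor.Co1 2 := by
  exact Cfsg.Agent.Lib.Helper22.Co1M.main_of Cfsg.Agent.Lib.Helper27.Co1O.co1EquivK
    Cfsg.Agent.Lib.Helper27.Co1O.card_K
    (fun σ hσ hk => Cfsg.Agent.Lib.Helper22.Co1M.part_2 σ hσ hk)
    (fun σ hσ hk => Cfsg.Agent.Lib.Helper22.Co1M.part_3 σ hσ hk)
    (fun σ hσ hk => Cfsg.Agent.Lib.Helper27.Co1O.P5L.part_5 σ hσ hk)
    (fun σ hσ hk => Cfsg.Agent.Lib.Helper27.Co1O.P7.part_7 σ hσ hk)
    Cfsg.Agent.Lib.Helper22.Co1M.exists_cover

end Cfsg.Agent.S2043
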