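import Cfsg.Statements.S2044
import Cfsg.Agent.Lib.Helper1.Co2MTwo
import Cfsg.Agent.Lib.Helper20.Co2MModel
import Cfsg.Agent.Lib.Helper10.Co2M5
import Cfsg.Agent.Lib.Helper10.Co2M3
import Cfsg.Agent.Lib.Helper21.Co2MFin

set_option autoImplicit false
open Cfsg

namespace Cfsg.Agent.S2044

/-- The Schur multiplier of the Conway group Co₂ (the stabiliser of a minimal vector of the rank-24 lattice) is trivial; here the Schur multiplier is described through stem extensions, as in the definitions: surjective homomorphisms onto the group from a finite group, whose kernel is central in that finite group and contained in that finite group's commutator subgroup. -/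
theorem result : Cfsg.HasCyclicSchurMultiplier ↥Cfsg.Spor.Co2 1 := by
  obtain ⟨g, u, hg⟩ := Cfsg.Agent.Lib.Helper1.Co2M.exists_co2_tuple_of_card
    Cfsg.Agent.Lib.Helper25.Co2Out.card_known1
  exact Cfsg.Agent.Lib.Helper1.Co2M.co2_mult_of
    (fun Γ _ _ σ hσ => Cfsg.Agent.Lib.Helper1.Co2M.not_dvd_two_of_tuple g u hg σ hσ)
    (fun Γ _ _ σ hσ => Cfsg.Agent.Lib.Helper10.Co2M3.not_dvd_three σ hσ)
    (fun Γ _ _ σ hσ => Cfsg.Agent.Lib.Helper10.Co2M5.not_dvd_five σ hσ)

end Cfsg.Agent.S2044
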