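import Cfsg.Statements.S2045
import Cfsg.Agent.Lib.Helper28.Co3Iso
import Cfsg.Agent.Lib.Helper20.Co3Mult.Main
import Cfsg.Agent.Lib.Helper8.Co3LocT5
import Cfsg.Agent.Lib.Helper8.Co3LocTM
import Cfsg.Agent.Lib.Helper8.Co3LocTE
import Cfsg.Agent.Lib.Helper8.Co3LocT3
import Cfsg.Agent.Lib.Helper8.Co3LocT2

set_option autoImplicit false
open Cfsg

namespace Cfsg.Agent.S2045

/-- The Schur multiplier of the Conway group Co₃ (the stabiliser of a vector of the second shortest length in the rank-24 lattice) is trivial; here the Schur multiplier is described through stem extensions, as in the definitions: surjective homomorphisms onto the group from a finite group, whose kernel is central in that finite group and contained in that finite group's commutator subgroup. -/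
theorem result : Cfsg.HasCyclicSchurMultiplier ↥Cfsg.Spor.Co3 1 := by
  obtain ⟨e⟩ := Cfsg.Agent.Lib.Helper28.Co3B.nonempty_iso
  haveI := Cfsg.Agent.Lib.Helper28.Co3A.finite_K
  exact Cfsg.Agent.Helper4.TC.Schur.hasCyclicSchurMultiplier_one_of_iso e
    (fun Γ _ _ σ hσ => Cfsg.Agent.Lib.Helper20.Co3Mult.ker_bot
      Cfsg.Agent.Lib.Helper20.Co3Mult.card_GT5 Cfsg.Agent.Lib.Helper20.Co3Mult.card_GTM
      Cfsg.Agent.Lib.Helper20.Co3Mult.card_GTE Cfsg.Agent.Lib.Helper20.Co3Mult.card_GT3
      Cfsg.Agent.Lib.Helper20.Co3Mult.card_GT2 Γ σ hσ)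

end Cfsg.Agent.S2045
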