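import Cfsg.Statements.S2046
import Cfsg.Agent.Lib.Helper18.HSMultMain
import Cfsg.Agent.Lib.Helper17.HSMultORB
import Cfsg.Agent.Lib.Helper9.HSMultC2
import Cfsg.Agent.Lib.Helper19.HSMultC1
import Cfsg.Agent.Lib.Helper19.HSMultEX
import Cfsg.Agent.Lib.Helper17.O73MultUT
import Cfsg.Agent.Lib.Helper23.L34T
import Cfsg.Agent.Lib.Helper28.HSBridge

set_option autoImplicit false
open Cfsg

namespace Cfsg.Agent.S2046

open Cfsg.Agent.Lib.Helper18.HSMult Cfsg.Agent.Lib.Helper28.HSA in
/-- The Schur multiplier of the Higman–Sims group (as a two-vector stabiliser in the automorphism group of the rank-24 lattice) is cyclic of order 2; here the Schur multiplier is described through stem extensions, as in the definitions: surjective homomorphisms onto the group from a finite group, whose kernel is central in that finite group and contained in that finite group's commutator subgroup. -/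
theorem result : Cfsg.HasCyclicSchurMultiplier ↥Cfsg.Spor.HS 2 := by
  obtain ⟨e⟩ := Cfsg.Agent.Lib.Helper28.HSB.hsl_iso
  haveI : Finite ↥Kab := finite_K
  refine Cfsg.Agent.Lib.Helper2.O73Mult.hasSchurMultiplier_of_mulEquiv
    (Cfsg.Agent.Lib.Helper28.HSB.hsEquiv.trans e) ?_
  refine Cfsg.Agent.Lib.Helper7.L34.hasSchurMultiplier_of_card_le exists_cover ?_
  intro Γ _ _ σ hσ
  have h2 : Nat.card (Multiplicative (ZMod 2)) = 2 := by
    rw [Nat.card_eq_fintype_card, Fintype.card_multiplicative, ZMod.card]
  rw [h2]
  exact card_ker_le_two_of_pieces card_UK UK_perfect UK_two isPGroup_two_ker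
    (mem_UK_of_table card_UK) nxtF_lt Γ σ hσ

end Cfsg.Agent.S2046
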