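import Cfsg.Statements.S2069
-- import your own Cfsg.Agent.* helpers here
import Cfsg.Agent.Lib.Helper28.Co1Link
import Cfsg.Agent.Lib.Helper27.Co1O.MainB

set_option autoImplicit false
open Cfsg

namespace Cfsg.Agent.S2069

/-- The outer automorphism group of the Conway group Co₁ (the automorphism group of the rank-24 lattice modulo its centre) is trivial: every automorphism is inner. -/
theorem result : Nat.card (Cfsg.Out Cfsg.Spor.Co1) = 1 := by
  have h0 : Cfsg.Agent.Lib.Helper28.BSGS.gensOK 98280 17 Cfsg.Agent.Lib.Helper27.Co1O.gens9 = true := by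
    rw [← Cfsg.Agent.Lib.Helper28.Co1L.gens_eq]
    exact Cfsg.Agent.Lib.Helper28.Co1B.gens9_ok
  have h1 : Cfsg.Agent.Lib.Helper28.BSGS.genGroup 98280 17 Cfsg.Agent.Lib.Helper27.Co1O.gens9 ≤
      Cfsg.Agent.Lib.Helper28.Co1B.K0 := by
    rw [← Cfsg.Agent.Lib.Helper28.Co1L.gens_eq]
    exact Cfsg.Agent.Lib.Helper28.Co1B.gens9_le
  have h := Cfsg.Agent.Lib.Helper27.Co1O.out_one h0 Cfsg.Agent.Lib.Helper28.Co1B.K0 h1
    (le_of_eq Cfsg.Agent.Lib.Helper28.Co1B.card_K0)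
  rw [Cfsg.Agent.Lib.Helper28.Co1L.out_card_congr Cfsg.Agent.Lib.Helper28.Co1B.co1Equiv, ← h.2.1]
  exact h.1

end Cfsg.Agent.S2069
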