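import Cfsg.Statements.S2086
import Cfsg.Agent.Lib.Helper25.SLCC.Asm
import Cfsg.Agent.Lib.Helper3.SLCCN2
import Cfsg.Agent.Lib.Helper3.SLCCG1
import Cfsg.Agent.Lib.Helper26.SchurAsm
import Cfsg.Agent.S0248
import Cfsg.Agent.S2117

set_option autoImplicit false
open Cfsg

namespace Cfsg.Agent.S2086

open Matrix Cfsg.Agent.Lib.Helper25.SLCC

/-- in a finite field with `q` elements, if `q - 1 ∤ k` some nonzero element has `a ^ k ≠ 1` -/
theorem exists_pow_ne_one {F : Type*} [Field F] [Fintype F] (k : ℕ)
    (hk : ¬ (Fintype.card F - 1) ∣ k) : ∃ a : F, a ≠ 0 ∧ a ^ k ≠ 1 := by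
  classical
  obtain ⟨g, hg⟩ := IsCyclic.exists_generator (α := Fˣ)
  refine ⟨(g : F), g.ne_zero, fun h => hk ?_⟩
  have h1 : g ^ k = 1 := by
    apply Units.ext
    rw [Units.val_pow_eq_pow_val, h, Units.val_one]
  have h2 : orderOf g = Fintype.card F - 1 := by
    rw [orderOf_eq_card_of_forall_mem_zpowers hg, Nat.card_eq_fintype_card, Fintype.card_units]
  rw [← h2]
  exact orderOf_dvd_of_pow_eq_one h1

/-- Schur multipliers of the linear groups: for n ≥ 2 and a field F with q elements (q ≥ 4 when n = 2), apart from the five exceptional pairs (n, q) = (2, 4), (2, 9), (3, 2), (3, 4), (4, 2), the Schur multiplier of PSL_n(F) is cyclic of order gcd(n, q − 1); here the Schur multiplier is described through stem extensions, as in the definitions. -/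
theorem result {F : Type*} [Field F] [Fintype F] {q : ℕ} (hF : Fintype.card F = q) (n : ℕ) (hn : 2 ≤ n) (h2 : n = 2 → 4 ≤ q) (hexc : (n, q) ∉ ({(2, 4), (2, 9), (3, 2), (3, 4), (4, 2)} : Set (ℕ × ℕ))) : Cfsg.HasCyclicSchurMultiplier (Matrix.ProjectiveSpecialLinearGroup (Fin n) F) (Nat.gcd n (q - 1)) := by
  classical
  subst hF
  simp only [Set.mem_insert_iff, Set.mem_singleton_iff, Prod.mk.injEq, not_or, not_and] at hexc
  obtain ⟨e24, e29, e32, e34, e42⟩ := hexc
  have hq2 : 2 ≤ Fintype.card F := Fintype.one_lt_card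
  let S := SpecialLinearGroup (Fin n) F
  let π : S →* Matrix.ProjectiveSpecialLinearGroup (Fin n) F := QuotientGroup.mk' (Subgroup.center S)
  have hπ : Function.Surjective π := QuotientGroup.mk'_surjective _
  have hkerπ : π.ker = Subgroup.center S := QuotientGroup.ker_mk' _
  -- perfectness
  have hperf : commutator S = ⊤ := by
    rcases Nat.lt_or_ge n 3 with h | h
    · have hn2 : n = 2 := by omega
      subst hn2
      have h4 := h2 rfl
      have hq4 : Fintype.card F ≠ 4 := e24 rfl
      obtain ⟨a, ha0, ha2⟩ := exists_pow_ne_one (F := F) 2 (by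
        intro hd
        have := Nat.le_of_dvd (by norm_num) hd
        omega)
      exact Matrix.SL2.commutator_eq_top ha0 ha2
    · exact Cfsg.Agent.S0248.result n h
  -- splitting of the finite central extensions of `S`
  have hsplit : ∀ (E : Type _) [Group E] [Finite E] (ψ : E →* S), Function.Surjective ψ →
      ψ.ker ≤ Subgroup.center E → ∃ τ : S →* E, ψ.comp τ = MonoidHom.id S := by
    intro E _ _ ψ hψ hc
    rcases Nat.lt_or_ge n 3 with h | h
    · have hn2 : n = 2 := by omega
      subst hn2
      exact exists_section_of_multiplier_one hperf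
        (Cfsg.Agent.S2117.result (e24 rfl) (e29 rfl)) E ψ hψ hc
    · refine exists_section_SL h ?_ ?_ ψ hψ hc
      · intro h3
        apply exists_pow_ne_one
        intro hd
        have hle := Nat.le_of_dvd (by norm_num) hd
        have h1 : Fintype.card F - 1 = 1 ∨ Fintype.card F - 1 = 3 := by
          have : Fintype.card F - 1 ∣ 3 := hd
          have hp : Nat.Prime 3 := by norm_num
          exact (Nat.dvd_prime hp).mp this
        rcases h1 with h1 | h1
        · exact e32 h3 (by omega)
        · exact e34 h3 (by omega)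
      · intro h4
        obtain ⟨a, ha0, ha1⟩ := exists_pow_ne_one (F := F) 1 (by
          intro hd
          have := Nat.le_of_dvd (by norm_num) hd
          exact e42 h4 (by omega))
        exact ⟨a, ha0, by simpa using ha1⟩
  obtain ⟨e⟩ := center_SL_equiv (F := F) n (by omega)
  have e' : π.ker ≃* Multiplicative (ZMod (Nat.gcd n (Fintype.card F - 1))) :=
    (MulEquiv.subgroupCongr hkerπ).trans e
  exact Cfsg.Agent.Lib.Helper26.SchurAsm.hasSchurMultiplier_of_universal π hπ (le_of_eq hkerπ) hperf
    (fun Γ _ _ σ hσ hσc =>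
      Cfsg.Agent.Lib.Helper26.SchurAsm.exists_lift_of_split π σ hσ hσc hsplit) e'

end Cfsg.Agent.S2086
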