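import Cfsg.Statements.S2087
import Mathlib
import Cfsg.Agent.S0495
import Cfsg.Agent.S1004
import Cfsg.Agent.Lib.Helper15.PSLSimple
import Cfsg.Agent.Lib.Helper3.CardSL
import Cfsg.Agent.Lib.Helper12.SchurMore
import Cfsg.Agent.Lib.Helper21.DihedralStem

set_option autoImplicit false
set_option linter.deprecated false
set_option linter.style.haveILetI false
open Cfsg

namespace Cfsg.Agent.S2087

open Matrix Cfsg.Agent.Lib.Helper21

universe u

section card
variable {F : Type*} [Field F] [Fintype F]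

theorem center_SL3 (hF : Fintype.card F = 2) :
    Subgroup.center (Matrix.SpecialLinearGroup (Fin 3) F) = ⊥ := by
  classical
  ext A
  rw [Matrix.SpecialLinearGroup.mem_center_iff, Subgroup.mem_bot]
  constructor
  · rintro ⟨r, hr, hA⟩
    have hr1 : r = 1 := by
      have hr0 : r ≠ 0 := by
        rintro rfl
        simp at hr
      have hu : Fintype.card Fˣ = 1 := by rw [Fintype.card_units, hF]
      have hs : Subsingleton Fˣ := Fintype.card_le_one_iff_subsingleton.mp hu.le
      have h1 := Subsingleton.elim (Units.mk0 r hr0) 1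
      simpa using congrArg Units.val h1
    subst hr1
    apply Subtype.ext
    rw [← hA]
    simp
  · rintro rfl
    exact ⟨1, by simp, by simp⟩

theorem card_PSL32 (hF : Fintype.card F = 2) :
    Nat.card (Matrix.ProjectiveSpecialLinearGroup (Fin 3) F) = 168 := by
  classical
  have h1 := Cfsg.Agent.Lib.Helper3.CardSL.card_PSL_mul (F := F) 3
  rw [center_SL3 hF, Subgroup.card_bot, mul_one] at h1
  have h2 := Cfsg.Agent.Lib.Helper3.CardSL.card_GL_eq_card_SL_mul (F := F) 3 (by norm_num)
  rw [Matrix.card_GL_field, Nat.card_units, Nat.card_eq_fintype_card (α := F), hF] at h2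
  rw [h1]
  simp [Fin.prod_univ_three] at h2
  rw [Nat.card_eq_fintype_card]
  convert h2.symm

end card

/-- a stem extension of the dihedral group of order 8 has kernel of order at most 2
(any universe) -/
theorem card_ker_dvd {Γ : Type*} [Group Γ] [Finite Γ] (σ : Γ →* DihedralGroup 4)
    (hσ : IsStemExtension σ) :
    Nat.card σ.ker ∣ Nat.card ↥(rot 4 ⊓
      Subgroup.centralizer ({DihedralGroup.sr (0 : ZMod 4)} : Set (DihedralGroup 4))) := by
  obtain ⟨t, ht⟩ := hσ.1 (DihedralGroup.sr 0)
  rw [← stem_card_centralizer σ hσ (rot 4) (rot_isCyclic 4) (DihedralGroup.sr 0) (rot_sup 4) t ht]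
  exact Subgroup.card_dvd_of_le (ker_le_comap_inf_centralizer σ hσ (rot 4) t)

theorem two_ne_zero7 : (2 : ZMod 7) ≠ 0 := by decide

theorem two_sq_ne_one7 : (2 : ZMod 7) ^ 2 ≠ 1 := by decide

theorem pow_dvd_168 {q k : ℕ} (hq : q.Prime) (hq2 : q ≠ 2) (h : q ^ k ∣ 168) : k ≤ 1 := by
  by_contra hk
  push Not at hk
  have h2 : q ^ 2 ∣ 168 := (pow_dvd_pow q hk).trans h
  have hqle : q ≤ 12 := by
    have := Nat.le_of_dvd (by norm_num) h2
    nlinarith
  have hall : ∀ q ≤ 12, q.Prime → q ≠ 2 → ¬ q ^ 2 ∣ 168 := by decide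
  exact hall q hqle hq hq2 h2

theorem card_ker_le {G : Type*} [Group G] [Finite G] [IsSimpleGroup G] (hG : Nat.card G = 168)
    {Γ : Type*} [Group Γ] [Finite Γ] (σ : Γ →* G) (hσ : IsStemExtension σ) :
    Nat.card σ.ker ≤ 2 := by
  classical
  obtain ⟨hsurj, hcen, hcomm⟩ := hσ
  haveI : Fact (Nat.Prime 2) := ⟨Nat.prime_two⟩
  -- Step 1: the kernel is a 2-group
  have hodd : ∀ q : ℕ, q.Prime → q ∣ Nat.card σ.ker → q = 2 := by
    intro q hq hdvd
    by_contra hq2
    haveI : Fact q.Prime := ⟨hq⟩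
    obtain ⟨z, hz⟩ := exists_prime_orderOf_dvd_card' q hdvd
    have hzo : orderOf (z : Γ) = q := by rw [Subgroup.orderOf_coe]; exact hz
    have hP : IsPGroup q (Subgroup.zpowers (z : Γ)) := by
      apply IsPGroup.of_card (n := 1)
      rw [Nat.card_zpowers, hzo, pow_one]
    obtain ⟨Q, hQ⟩ := hP.exists_le_sylow
    let f : (Q : Subgroup Γ) →* G := σ.comp (Q : Subgroup Γ).subtype
    have hfr : IsCyclic f.range := by
      have hpg : IsPGroup q f.range :=
        (Q.isPGroup').of_surjective f.rangeRestrict f.rangeRestrict_surjective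
      obtain ⟨k, hk⟩ := IsPGroup.iff_card.mp hpg
      have hdvd168 : q ^ k ∣ 168 := by
        rw [← hk, ← hG]; exact Subgroup.card_subgroup_dvd_card _
      have hk1 : k ≤ 1 := pow_dvd_168 hq hq2 hdvd168
      interval_cases k
      · haveI : Subsingleton f.range :=
          (Nat.card_eq_one_iff_unique.mp (by simpa using hk)).1
        exact isCyclic_of_subsingleton
      · exact isCyclic_of_prime_card (p := q) (by simpa using hk)
    have hQcomm : ∀ a b : (Q : Subgroup Γ), a * b = b * a := by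
      haveI := hfr
      apply commutative_of_cyclic_center_quotient f.rangeRestrict
      intro a ha
      rw [Subgroup.mem_center_iff]
      intro b
      have ha1 : σ (a : Γ) = 1 := by
        have h1 := MonoidHom.mem_ker.mp ha
        have h2 := congrArg Subtype.val h1
        simpa [f] using h2
      have hac : (a : Γ) ∈ Subgroup.center Γ := hcen (MonoidHom.mem_ker.mpr ha1)
      apply Subtype.ext
      simp only [Subgroup.coe_mul]
      exact Subgroup.mem_center_iff.mp hac b
    have hbot : commutator (Q : Subgroup Γ) = ⊥ := by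
      rw [commutator_def, Subgroup.commutator_eq_bot_iff_le_centralizer]
      intro a _
      rw [Subgroup.mem_centralizer_iff]
      intro b _
      exact hQcomm b a
    obtain ⟨h, hmem⟩ := Cfsg.Agent.Lib.Helper12.Schur.pow_index_mem_commutator
      (Q : Subgroup Γ) (hcen z.2) (hcomm z.2)
    rw [hbot, Subgroup.mem_bot] at hmem
    have h1 : (z : Γ) ^ (Q : Subgroup Γ).index = 1 := by
      have := congrArg Subtype.val hmem
      simpa using this
    have hd : q ∣ (Q : Subgroup Γ).index := by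
      have h3 := orderOf_dvd_of_pow_eq_one h1
      rwa [hzo] at h3
    exact Q.not_dvd_index hd
  have hZ2 : IsPGroup 2 σ.ker := by
    have hne : Nat.card σ.ker ≠ 0 := Nat.card_pos.ne'
    have := Nat.eq_prime_pow_of_unique_prime_dvd hne (fun {d} hd hdv => hodd d hd hdv)
    exact IsPGroup.of_card this
  -- Step 2: pass to a Sylow 2-subgroup containing the kernel
  obtain ⟨T', hZT⟩ := hZ2.exists_le_sylow
  obtain ⟨T, hT⟩ : ∃ T : Sylow 2 G, (T : Subgroup G) = (T' : Subgroup Γ).map σ :=
    ⟨T'.mapSurjective hsurj, Sylow.coe_mapSurjective hsurj T'⟩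
  obtain ⟨e⟩ := (Cfsg.Agent.S1004.result hG T).1
  let τ₀ : (T' : Subgroup Γ) →* (T : Subgroup G) :=
    (σ.comp (T' : Subgroup Γ).subtype).codRestrict (T : Subgroup G)
      (fun a => by rw [hT]; exact Subgroup.mem_map_of_mem σ a.2)
  have hτ₀ : Function.Surjective τ₀ := by
    rintro ⟨y, hy⟩
    have hy' : y ∈ (T' : Subgroup Γ).map σ := hT ▸ hy
    obtain ⟨a, ha, hay⟩ := Subgroup.mem_map.mp hy'
    exact ⟨⟨a, ha⟩, Subtype.ext hay⟩
  let τ : (T' : Subgroup Γ) →* DihedralGroup 4 := e.toMonoidHom.comp τ₀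
  have hτker : ∀ a : (T' : Subgroup Γ), a ∈ τ.ker ↔ (a : Γ) ∈ σ.ker := by
    intro a
    rw [MonoidHom.mem_ker, MonoidHom.mem_ker]
    show e (τ₀ a) = 1 ↔ _
    rw [EmbeddingLike.map_eq_one_iff]
    constructor
    · intro h; exact congrArg Subtype.val h
    · intro h; exact Subtype.ext h
  have hτ : IsStemExtension τ := by
    refine ⟨e.surjective.comp hτ₀, ?_, ?_⟩
    · intro a ha
      have hac : (a : Γ) ∈ Subgroup.center Γ := hcen ((hτker a).mp ha)
      rw [Subgroup.mem_center_iff]
      intro b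
      apply Subtype.ext
      simp only [Subgroup.coe_mul]
      exact Subgroup.mem_center_iff.mp hac b
    · intro a ha
      have haZ := (hτker a).mp ha
      obtain ⟨h, hmem⟩ := Cfsg.Agent.Lib.Helper12.Schur.pow_index_mem_commutator
        (T' : Subgroup Γ) (hcen haZ) (hcomm haZ)
      have hpow : (⟨(a : Γ) ^ (T' : Subgroup Γ).index, h⟩ : (T' : Subgroup Γ)) =
          a ^ (T' : Subgroup Γ).index := by
        apply Subtype.ext; simp
      rw [hpow] at hmem
      have hcop : ((T' : Subgroup Γ).index).Coprime (orderOf a) := by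
        have h1 := T'.card_coprime_index
        exact (Nat.Coprime.coprime_dvd_left (orderOf_dvd_natCard a) h1).symm
      obtain ⟨m, hm⟩ := exists_pow_eq_self_of_coprime hcop
      rw [← hm]
      exact pow_mem hmem m
  have hdvd := card_ker_dvd τ hτ
  have hle := card_rot_inf_centralizer_le 4
  have hτle : Nat.card τ.ker ≤ 2 := (Nat.le_of_dvd Nat.card_pos hdvd).trans hle
  have hinj : Function.Injective
      (fun z : σ.ker => (⟨⟨(z : Γ), hZT z.2⟩, (hτker _).mpr z.2⟩ : τ.ker)) := by
    intro z z' h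
    apply Subtype.ext
    have := congrArg (fun x : τ.ker => ((x : (T' : Subgroup Γ)) : Γ)) h
    exact this
  exact (Nat.card_le_card_of_injective _ hinj).trans hτle

theorem exists_cover_aux {G : Type u} [Group G] {K : Type u} [Field K] [Fintype K]
    (e : G ≃* Matrix.ProjectiveSpecialLinearGroup (Fin 2) K) (h2 : (2 : K) ≠ 0)
    (h22 : (2 : K) ^ 2 ≠ 1) :
    ∃ (Γ : Type u) (_ : Group Γ) (_ : Finite Γ) (σ : Γ →* G),
      IsStemExtension σ ∧ Nonempty (σ.ker ≃* Multiplicative (ZMod 2)) := by
  classical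
  haveI : Fact (Nat.Prime 2) := ⟨Nat.prime_two⟩
  have hZ : Nat.card (Multiplicative (ZMod 2)) = 2 := by
    rw [Nat.card_eq_fintype_card]; rfl
  have hperf : commutator (Matrix.SpecialLinearGroup (Fin 2) K) = ⊤ :=
    Matrix.SL2.commutator_eq_top h2 h22
  let σ : Matrix.SpecialLinearGroup (Fin 2) K →* G :=
    e.symm.toMonoidHom.comp
      (QuotientGroup.mk' (Subgroup.center (Matrix.SpecialLinearGroup (Fin 2) K)))
  have hker : σ.ker = Subgroup.center (Matrix.SpecialLinearGroup (Fin 2) K) := by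
    ext x
    rw [MonoidHom.mem_ker]
    show e.symm (QuotientGroup.mk' _ x) = 1 ↔ _
    rw [EmbeddingLike.map_eq_one_iff, QuotientGroup.mk'_apply, QuotientGroup.eq_one_iff]
  refine ⟨Matrix.SpecialLinearGroup (Fin 2) K, inferInstance, inferInstance, σ, ⟨?_, ?_, ?_⟩, ?_⟩
  · exact e.symm.surjective.comp (QuotientGroup.mk'_surjective _)
  · rw [hker]
  · rw [hperf]; exact le_top
  · have hc : Nat.card σ.ker = 2 := by
      rw [hker]; exact Cfsg.Agent.Lib.Helper3.CardSL.card_center_SL2 h2
    exact ⟨mulEquivOfPrimeCardEq hc hZ⟩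

theorem exists_cover {G : Type u} [Group G] [Finite G] [IsSimpleGroup G]
    (hG : Nat.card G = 168) :
    ∃ (Γ : Type u) (_ : Group Γ) (_ : Finite Γ) (σ : Γ →* G),
      IsStemExtension σ ∧ Nonempty (σ.ker ≃* Multiplicative (ZMod 2)) := by
  haveI : Fact (Nat.Prime 7) := ⟨by norm_num⟩
  have hK : Fintype.card (ULift.{u} (ZMod 7)) = 7 := by
    rw [Fintype.card_ulift, ZMod.card]
  obtain ⟨e⟩ := Cfsg.Agent.S0495.result hG hK
  have h2 : (2 : ULift.{u} (ZMod 7)) ≠ 0 := by
    intro h
    have := congrArg (ULift.ringEquiv : ULift.{u} (ZMod 7) ≃+* ZMod 7) h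
    rw [map_ofNat, map_zero] at this
    exact two_ne_zero7 this
  have h22 : (2 : ULift.{u} (ZMod 7)) ^ 2 ≠ 1 := by
    intro h
    have := congrArg (ULift.ringEquiv : ULift.{u} (ZMod 7) ≃+* ZMod 7) h
    rw [map_pow, map_ofNat, map_one] at this
    exact two_sq_ne_one7 this
  exact exists_cover_aux e h2 h22

/-- Exceptional Schur multiplier: over the field with 2 elements, PSL₃ has Schur multiplier cyclic of order 2 (here the Schur multiplier is described through stem extensions, as in the definitions). -/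
theorem result {F : Type*} [Field F] [Fintype F] (hF : Fintype.card F = 2) : Cfsg.HasCyclicSchurMultiplier (Matrix.ProjectiveSpecialLinearGroup (Fin 3) F) 2 := by
  classical
  haveI : IsSimpleGroup (Matrix.ProjectiveSpecialLinearGroup (Fin 3) F) :=
    Cfsg.Agent.Lib.Helper15.PSLn_isSimpleGroup (F := F) (ι := Fin 3) (by simp)
  have hG := card_PSL32 hF
  haveI : Finite (Matrix.ProjectiveSpecialLinearGroup (Fin 3) F) :=
    Nat.finite_of_card_ne_zero (by rw [hG]; norm_num)
  haveI hp : Fact (Nat.Prime 2) := ⟨Nat.prime_two⟩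
  have hZ : Nat.card (Multiplicative (ZMod 2)) = 2 := by
    rw [Nat.card_eq_fintype_card]; rfl
  refine ⟨exists_cover hG, ?_⟩
  intro Γ _ _ σ hσ
  have hle2 := card_ker_le hG σ hσ
  have hpos2 : 0 < Nat.card σ.ker := Nat.card_pos
  have hcases : Nat.card σ.ker = 1 ∨ Nat.card σ.ker = 2 := by omega
  rcases hcases with h1 | h2
  · refine ⟨1, fun x => ⟨1, ?_⟩⟩
    have hsub : Subsingleton σ.ker := (Nat.card_eq_one_iff_unique.mp h1).1
    exact Subsingleton.elim _ _
  · have e : Multiplicative (ZMod 2) ≃* σ.ker := mulEquivOfPrimeCardEq hZ h2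
    exact ⟨e.toMonoidHom, e.surjective⟩

end Cfsg.Agent.S2087
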