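import Cfsg.Statements.S2103
import Cfsg.Agent.Lib.Helper16.F4CC.Section
import Cfsg.Agent.S2397

set_option autoImplicit false
open Cfsg

namespace Cfsg.Agent.S2103

open Cfsg.Lie Cfsg.Agent.Lib.Helper8.Chev Cfsg.Agent.Lib.Helper14.StCC
open Cfsg.Agent.Lib.Helper16.F4CC

/-- the hypothesis of S2397 on the field only concerns the types `B₂`, `G₂` -/
theorem not_small {F : Type*} [Field F] (h : chevF4 ∈ [chevB2, chevG2]) :
    ∃ x : F, x ≠ 0 ∧ x ≠ 1 := by
  exfalso
  simp only [List.mem_cons, List.not_mem_nil, or_false] at h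
  rcases h with h | h
  · exact absurd (congrArg ChevalleyDatum.nroots h) (by decide)
  · exact absurd (congrArg ChevalleyDatum.nroots h) (by decide)

/-- over a finite field the cover of type `F₄` has trivial centre -/
theorem center_cover_eq_bot {F : Type*} [Field F] [Finite F] :
    Subgroup.center (chevF4.SteinbergCover F) = ⊥ := by
  obtain ⟨e, -⟩ := Cfsg.Agent.S2397.result (K := F) chevF4 hD_F4 not_small
  rw [eq_bot_iff]
  intro z hz
  rw [Subgroup.mem_bot]
  have h1 : e z ∈ Subgroup.center (chevF4.SteinbergGroup F) := by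
    rw [Subgroup.mem_center_iff] at hz ⊢
    intro g
    obtain ⟨g', rfl⟩ := e.surjective g
    rw [← map_mul, ← map_mul, hz g']
  rw [st_center_eq_bot (K := F) (D := chevF4) (by simp), Subgroup.mem_bot] at h1
  exact e.injective (by rw [h1, map_one])

theorem scHom_bijective {F : Type*} [Field F] [Finite F] :
    Function.Bijective (scHom hD_F4 F) := by
  refine ⟨?_, scHom_surjective hD_F4⟩
  rw [← MonoidHom.ker_eq_bot_iff, eq_bot_iff]
  exact (scHom_ker_le hD_F4).trans center_cover_eq_bot.le

/-- a finite field with at least three elements has an element other than `0`, `1` -/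
theorem exists_ne_zero_one {F : Type*} [Field F] [Fintype F] (hF : 3 ≤ Fintype.card F) :
    ∃ c : F, c ≠ 0 ∧ c ≠ 1 := by
  classical
  by_contra h
  have h' : ∀ x : F, x = 0 ∨ x = 1 := by
    intro x
    by_contra hx
    rw [not_or] at hx
    exact h ⟨x, hx.1, hx.2⟩
  have : (Finset.univ : Finset F) ⊆ {0, 1} := by
    intro x _
    rcases h' x with rfl | rfl <;> simp
  have hcard := Finset.card_le_card this
  rw [Finset.card_univ] at hcard
  have : ({0, 1} : Finset F).card ≤ 2 := Finset.card_le_two
  omega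

/-- Schur multipliers of the Chevalley groups of type F₄: over a finite field with more than 2 elements the Schur multiplier of F₄(q) is trivial (here the Schur multiplier is described through stem extensions, as in the definitions); q = 2 is exceptional. -/
theorem result {F : Type*} [Field F] [Fintype F] (hF : 3 ≤ Fintype.card F) : Cfsg.HasCyclicSchurMultiplier ↥(Cfsg.Lie.chevF4.group F) 1 := by
  classical
  have hK3 := exists_ne_zero_one hF
  haveI : Finite ↥(chevF4.group F) := inferInstance
  let θ : chevF4.SteinbergCover F ≃* ↥(chevF4.group F) :=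
    MulEquiv.ofBijective (scHom hD_F4 F) scHom_bijective
  refine ⟨⟨↥(chevF4.group F), inferInstance, inferInstance, MonoidHom.id _, ⟨?_, ?_, ?_⟩, ⟨?_⟩⟩, ?_⟩
  · exact Function.surjective_id
  · rw [MonoidHom.ker_id]; exact bot_le
  · rw [MonoidHom.ker_id]; exact bot_le
  · haveI : Unique ↥(MonoidHom.id ↥(chevF4.group F)).ker := by
      rw [MonoidHom.ker_id]; infer_instance
    haveI : Unique (Multiplicative (ZMod 1)) := inferInstanceAs (Unique (Fin 1))
    exact MulEquiv.ofUnique
  · intro Γ' _ _ σ hσ
    obtain ⟨hσs, hσc, hσk⟩ := hσ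
    let ψ : Γ' →* chevF4.SteinbergCover F := θ.symm.toMonoidHom.comp σ
    have hker : ψ.ker = σ.ker := by
      ext g
      rw [MonoidHom.mem_ker, MonoidHom.mem_ker]
      show θ.symm (σ g) = 1 ↔ _
      rw [MulEquiv.map_eq_one_iff]
    have hψ : Function.Surjective ψ := θ.symm.surjective.comp hσs
    obtain ⟨τ, hτ⟩ := exists_section_F4 hK3 ψ hψ (hker ▸ hσc)
    have hbot : σ.ker = ⊥ := by
      rw [← hker]
      exact ker_eq_bot_of_section ψ (hker ▸ hσc) (hker ▸ hσk) τ hτ
    refine ⟨1, ?_⟩
    intro z
    refine ⟨1, ?_⟩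
    apply Subtype.ext
    have h1 : (z : Γ') ∈ σ.ker := z.2
    have h2 : (z : Γ') ∈ (⊥ : Subgroup Γ') := hbot ▸ h1
    rw [Subgroup.mem_bot] at h2
    rw [h2]; rfl

end Cfsg.Agent.S2103
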