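import Cfsg.Statements.S2107
import Cfsg.Agent.Lib.Helper10.E8CC.SectionE8
import Cfsg.Agent.S2397

set_option autoImplicit false
open Cfsg

namespace Cfsg.Agent.S2107

open Cfsg.Lie Cfsg.Agent.Lib.Helper8.Chev Cfsg.Agent.Lib.Helper14.StCC
  Cfsg.Agent.Lib.Helper10.E8CC

/-- over a finite field the cover of type `E₈` has trivial centre -/
theorem center_cover_eq_bot {F : Type*} [Field F] [Finite F] :
    Subgroup.center (chevE8.SteinbergCover F) = ⊥ := by
  obtain ⟨e, -⟩ := Cfsg.Agent.S2397.result (K := F) chevE8 hD_E8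
    (fun h => absurd h chevE8_not_mem)
  rw [eq_bot_iff]
  intro z hz
  rw [Subgroup.mem_bot]
  have h1 : e z ∈ Subgroup.center (chevE8.SteinbergGroup F) := by
    rw [Subgroup.mem_center_iff] at hz ⊢
    intro g
    obtain ⟨g', rfl⟩ := e.surjective g
    rw [← map_mul, ← map_mul, hz g']
  rw [st_center_eq_bot (K := F) (D := chevE8) (by simp), Subgroup.mem_bot] at h1
  exact e.injective (by rw [h1, map_one])

theorem scHom_bijective {F : Type*} [Field F] [Finite F] :
    Function.Bijective (scHom hD_E8 F) := by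
  refine ⟨?_, scHom_surjective hD_E8⟩
  rw [← MonoidHom.ker_eq_bot_iff, eq_bot_iff]
  exact (scHom_ker_le hD_E8).trans center_cover_eq_bot.le

/-- Schur multipliers of the Chevalley groups of type E₈: over every finite field the Schur multiplier of E₈(q) is trivial (here the Schur multiplier is described through stem extensions, as in the definitions). -/
theorem result {F : Type*} [Field F] [Fintype F] : Cfsg.HasCyclicSchurMultiplier ↥(Cfsg.Lie.chevE8.group F) 1 := by
  classical
  let θ : chevE8.SteinbergCover F ≃* ↥(chevE8.group F) :=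
    MulEquiv.ofBijective (scHom hD_E8 F) scHom_bijective
  refine ⟨⟨↥(chevE8.group F), inferInstance, inferInstance, MonoidHom.id _, ⟨?_, ?_, ?_⟩, ⟨?_⟩⟩, ?_⟩
  · exact Function.surjective_id
  · rw [MonoidHom.ker_id]; exact bot_le
  · rw [MonoidHom.ker_id]; exact bot_le
  · haveI : Unique ↥(MonoidHom.id ↥(chevE8.group F)).ker := by
      rw [MonoidHom.ker_id]; infer_instance
    haveI : Unique (Multiplicative (ZMod 1)) := inferInstanceAs (Unique (Fin 1))
    exact MulEquiv.ofUnique
  · intro Γ' _ _ σ hσ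
    obtain ⟨hσs, hσc, hσk⟩ := hσ
    let ψ : Γ' →* chevE8.SteinbergCover F := θ.symm.toMonoidHom.comp σ
    have hker : ψ.ker = σ.ker := by
      ext g
      rw [MonoidHom.mem_ker, MonoidHom.mem_ker]
      show θ.symm (σ g) = 1 ↔ _
      rw [MulEquiv.map_eq_one_iff]
    have hψ : Function.Surjective ψ := θ.symm.surjective.comp hσs
    obtain ⟨τ, hτ⟩ := exists_section_E8 ψ hψ (hker ▸ hσc)
    have hbot : σ.ker = ⊥ := by
      rw [← hker]
      exact ker_eq_bot_of_section ψ (hker ▸ hσc) (hker ▸ hσk) τ hτ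
    refine ⟨1, ?_⟩
    intro z
    refine ⟨1, ?_⟩
    apply Subtype.ext
    have h1 : (z : Γ') ∈ σ.ker := z.2
    have h2 : (z : Γ') ∈ (⊥ : Subgroup Γ') := hbot ▸ h1
    rw [Subgroup.mem_bot] at h2
    rw [h2]; rfl

end Cfsg.Agent.S2107
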