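import Mathlib
import Cfsg.Statements.S2111
import Cfsg.Agent.Lib.Helper3.SzMult6
import Cfsg.Agent.Lib.Helper3.SzBridge

set_option autoImplicit false
open Cfsg

namespace Cfsg.Agent.S2111

open Cfsg.Agent.Lib.Helper3 Cfsg.Agent.Lib.Helper3.Sz Cfsg.Agent.Lib.Helper3.SzMult

/-- Schur multipliers of the Suzuki groups: for q = 2^(2m+1) with m ≥ 2 the Schur multiplier of Sz(q) is trivial (here the Schur multiplier is described through stem extensions, as in the definitions); q = 8 is exceptional. -/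
theorem result {F : Type*} [Field F] [Fintype F] {m : ℕ} (hm : 2 ≤ m) (hF : Fintype.card F = 2 ^ (2 * m + 1)) : Cfsg.HasCyclicSchurMultiplier ↥(Cfsg.Lie.Sz F (2 ^ (m + 1))) 1 := by
  have hm1 : 1 ≤ m := by omega
  let e := SzBridge.lieSzEquiv hF hm1
  haveI : Finite (Sz F m) := finite_Sz
  haveI : Finite ↥(Cfsg.Lie.Sz F (2 ^ (m + 1))) := Finite.of_equiv _ e.symm.toEquiv
  refine ⟨?_, ?_⟩
  · refine ⟨↥(Cfsg.Lie.Sz F (2 ^ (m + 1))), inferInstance, inferInstance, MonoidHom.id _,
      ⟨Function.surjective_id, ?_, ?_⟩, ?_⟩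
    · rw [MonoidHom.ker_id]; exact bot_le
    · rw [MonoidHom.ker_id]; exact bot_le
    · rw [MonoidHom.ker_id]
      haveI : Unique (Multiplicative (ZMod 1)) :=
        { default := 1, uniq := fun a => Subsingleton.elim (α := ZMod 1) _ _ }
      exact ⟨MulEquiv.ofUnique⟩
  · intro Γ _ _ σ hσ
    obtain ⟨hsurj, hcen, hcomm⟩ := hσ
    set ψ : Γ →* Sz F m := e.toMonoidHom.comp σ with hψ
    have hker : ψ.ker = σ.ker := by
      ext x
      rw [MonoidHom.mem_ker, MonoidHom.mem_ker, hψ, MonoidHom.comp_apply]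
      exact e.map_eq_one_iff
    have hstem : IsStemExtension ψ := by
      refine ⟨e.surjective.comp hsurj, ?_, ?_⟩
      · rw [hker]; exact hcen
      · rw [hker]; exact hcomm
    have hprime : ∀ (Γ : Type _) [Group Γ] [Finite Γ] (σ : Γ →* Sz F m), IsStemExtension σ →
        ¬ (Nat.card σ.ker).Prime := by
      intro Γ _ _ σ hσ hp
      by_cases h2 : Nat.card σ.ker = 2
      · exact no_two_kernel hF hm Γ σ hσ h2
      · exact no_odd_kernel hF hm1 Γ σ hσ hp h2 rfl
    have hbot := reduce_prime hprime _ Γ ψ rfl hstem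
    rw [hker] at hbot
    refine ⟨1, ?_⟩
    intro y
    refine ⟨1, ?_⟩
    have : (y : Γ) ∈ (⊥ : Subgroup Γ) := by rw [← hbot]; exact y.2
    apply Subtype.ext
    rw [Subgroup.mem_bot] at this
    rw [this]
    rfl

end Cfsg.Agent.S2111
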