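import Cfsg.Statements.S2121
import Cfsg.Agent.Lib.Helper27.ChevOutC
import Cfsg.Agent.Lib.Helper8.ChevAu29
import Cfsg.Agent.S1035

set_option autoImplicit false
open Cfsg

namespace Cfsg.Agent.S2121

/-- Outer automorphisms of the Chevalley groups of type G₂: over a field with q = p^f (p prime) ≥ 3 elements, the outer automorphism group of G₂(q) has order f when p ≠ 3 and 2f when p = 3 (field automorphisms, and in characteristic 3 also the exceptional graph automorphism). -/
theorem result {F : Type*} [Field F] [Fintype F] (p f : ℕ) [Fact p.Prime] [CharP F p] (hF : Fintype.card F = p ^ f) (hq : 3 ≤ p ^ f) : Nat.card (Cfsg.Out ↥(Cfsg.Lie.chevG2.group F)) = (if p = 3 then 2 * f else f) := by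
  open Cfsg.Lie Cfsg.Agent.Lib.Helper8.Chev Cfsg.Agent.Lib.Helper27.ChevOut Cfsg.Agent.Lib.Helper26.ChevNsl in
  have hN := normalForm_all (F := F) mem7_G2
  have hd : 1 * Nat.card (chevG2.diagonalSubgroup F) = (p ^ f - 1) ^ chevG2.rank :=
    Cfsg.Agent.S1035.result hF (chevG2, 1) (by simp)
  have key := card_out_gen p f hF mem7_G2 hN 1 hd
  rw [key, one_mul]
  have hchar : ringChar F = p := ringChar.eq F p
  split_ifs with h3
  · subst h3
    have hs := exists_swap_G2 (F := F) mem7_G2
    rw [realSym_G2_of_swap hs, Nat.card_congr (Equiv.Set.univ _), card_perm_G2]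
  · have h1 : ringChar F ≠ 3 := by rw [hchar]; exact h3
    have h2 : Nat.card F ≠ 2 := by
      rw [Nat.card_eq_fintype_card, hF]
      omega
    rw [card_singleton_one _ (realSym_G2_of_ne h1 h2), one_mul]


end Cfsg.Agent.S2121
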