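import Cfsg.Statements.S2122
import Cfsg.Agent.Lib.Helper27.ChevOutC
import Cfsg.Agent.Lib.Helper8.ChevAu29
import Cfsg.Agent.S1035

set_option autoImplicit false
open Cfsg

namespace Cfsg.Agent.S2122

/-- Outer automorphisms of the Chevalley groups of type F₄: over a field with q = p^f (p prime) elements, the outer automorphism group of F₄(q) has order gcd(2, p) · f (field automorphisms, and in characteristic 2 also the exceptional graph automorphism). -/
theorem result {F : Type*} [Field F] [Fintype F] (p f : ℕ) [Fact p.Prime] [CharP F p] (hF : Fintype.card F = p ^ f) : Nat.card (Cfsg.Out ↥(Cfsg.Lie.chevF4.group F)) = Nat.gcd 2 p * f := by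
  open Cfsg.Lie Cfsg.Agent.Lib.Helper8.Chev Cfsg.Agent.Lib.Helper27.ChevOut Cfsg.Agent.Lib.Helper26.ChevNsl in
  have hN := normalForm_all (F := F) mem7_F4
  have hd : 1 * Nat.card (chevF4.diagonalSubgroup F) = (p ^ f - 1) ^ chevF4.rank :=
    Cfsg.Agent.S1035.result hF (chevF4, 1) (by simp)
  have key := card_out_gen p f hF mem7_F4 hN 1 hd
  rw [key, one_mul]
  have hchar : ringChar F = p := ringChar.eq F p
  by_cases h2 : p = 2
  · subst h2
    have hs := exists_rev_F4 (F := F) mem7_F4
    rw [realSym_F4_of_rev hs, card_pair_F4, Nat.gcd_self]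
  · have h1 : ringChar F ≠ 2 := by rw [hchar]; exact h2
    have hg : Nat.gcd 2 p = 1 := by
      have hp : p.Prime := Fact.out
      exact (Nat.coprime_primes Nat.prime_two hp).2 (Ne.symm h2)
    rw [card_singleton_one _ (realSym_F4_of_ne h1), hg]


end Cfsg.Agent.S2122
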