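import Cfsg.Statements.S2123
import Cfsg.Agent.Lib.Helper8.ChevAu21
import Cfsg.Agent.Lib.Helper10.ChevDiagConj

set_option autoImplicit false
open Cfsg

namespace Cfsg.Agent.S2123

open Cfsg.Lie Cfsg.Agent.Lib.Helper8.Chev

/-- Outer automorphisms of the (adjoint, simple) Chevalley groups of type E₆: over a field with q = p^f (p prime) elements, the outer automorphism group of E₆(q) has order 2 · gcd(3, q − 1) · f (diagonal, field and graph automorphisms). -/
theorem result {F : Type*} [Field F] [Fintype F] (p f : ℕ) [Fact p.Prime] [CharP F p] (hF : Fintype.card F = p ^ f) : Nat.card (Cfsg.Out ↥(Cfsg.Lie.chevE6.group F)) = 2 * Nat.gcd 3 (p ^ f - 1) * f := by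
  have hC : DiagConj chevE6 F :=
    ⟨Cfsg.Agent.Lib.Helper10.ChevDiagConj.conj_pres_mem_diagonal mem7_E6,
      Cfsg.Agent.Lib.Helper10.ChevDiagConj.pres_conj_of_mem_diagonal mem7_E6,
      Cfsg.Agent.Lib.Helper10.ChevDiagConj.eq_one_of_conj_eq_one mem7_E6⟩
  have hd := Cfsg.Agent.S1035.result (F := F) hF (chevE6, Nat.gcd 3 (p ^ f - 1)) (by simp)
  rw [card_out_sl p f hF mem4_E6 mem7_E6 graphReal_E6 hC _ hd, card_sym_E6]
  ring

end Cfsg.Agent.S2123
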