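import Cfsg.Statements.S2125
import Cfsg.Agent.Lib.Helper8.ChevAu21
import Cfsg.Agent.Lib.Helper10.ChevDiagConj

set_option autoImplicit false
open Cfsg

namespace Cfsg.Agent.S2125

open Cfsg.Lie Cfsg.Agent.Lib.Helper8.Chev

/-- Outer automorphisms of the Chevalley groups of type E₈: over a field with p^f elements, p prime, the outer automorphism group of E₈(p^f) has order f (field automorphisms only). -/
theorem result {F : Type*} [Field F] [Fintype F] (p f : ℕ) [Fact p.Prime] [CharP F p] (hF : Fintype.card F = p ^ f) : Nat.card (Cfsg.Out ↥(Cfsg.Lie.chevE8.group F)) = f := by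
  have hC : DiagConj chevE8 F :=
    ⟨Cfsg.Agent.Lib.Helper10.ChevDiagConj.conj_pres_mem_diagonal mem7_E8,
      Cfsg.Agent.Lib.Helper10.ChevDiagConj.pres_conj_of_mem_diagonal mem7_E8,
      Cfsg.Agent.Lib.Helper10.ChevDiagConj.eq_one_of_conj_eq_one mem7_E8⟩
  have hd := Cfsg.Agent.S1035.result (F := F) hF (chevE8, 1) (by simp)
  rw [card_out_sl p f hF mem4_E8 mem7_E8 graphReal_E8 hC 1 hd, card_sym_E8]
  ring

end Cfsg.Agent.S2125
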