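import Cfsg.Statements.S2132
import Cfsg.Agent.Lib.Helper14.McLC4
import Cfsg.Agent.Lib.Helper28.McLA
import Cfsg.Agent.Lib.Helper28.McLBridge

set_option autoImplicit false
open Cfsg

namespace Cfsg.Agent.S2132

open Cfsg.Agent.Lib.Helper14.McLC Cfsg.Agent.Lib.Helper28

/-- The McLaughlin group (as a two-vector stabiliser in the automorphism group of the rank-24 lattice) has a single conjugacy class of involutions, and the centraliser of an involution is a non-split double cover of the alternating group of degree 8. -/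
theorem result : (∀ x y : ↥Cfsg.Spor.McL, orderOf x = 2 → orderOf y = 2 → IsConj x y) ∧ ∃ t : ↥Cfsg.Spor.McL, orderOf t = 2 ∧ Cfsg.IsNonsplitDoubleCover ↥(Subgroup.centralizer ({t} : Set ↥Cfsg.Spor.McL)) ↥(alternatingGroup (Fin 8)) := by
  obtain ⟨e⟩ := McLB.ml_iso
  have hG : G0 = McLA.Kab := McLA.H0_eq
  have hm := main McLA.chain_ok McLA.card_H0 McLA.Syl (by rw [hG]; exact McLA.syl_le) McLA.syl_card
    (fun g hg => (McLA.syl_eq g).mp hg)
  let iso : ↥Cfsg.Spor.McL ≃* ↥G0 :=
    ((McLB.mclEquiv.trans e).trans McLB.hbEquiv).trans (MulEquiv.subgroupCongr hG.symm)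
  have : Finite ↥Cfsg.Spor.McL := Finite.of_equiv _ iso.symm.toEquiv
  exact transport_main iso hm.1 hm.2

end Cfsg.Agent.S2132
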