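import Cfsg.Statements.S2155
import Cfsg.Agent.Lib.Helper8.ChevPc4
import Cfsg.Agent.Lib.Helper17.CharPGfs

set_option autoImplicit false
open Cfsg

namespace Cfsg.Agent.S2155

open Cfsg.Lie Cfsg.Agent.Lib.Helper8.Chev

/-- In a Chevalley group of type G₂, B₂, D₄, F₄, E₆, E₇ or E₈ over a finite field of characteristic p (for types G₂ and B₂ the field is assumed to have at least 3 elements, so that the group is simple), the generalized Fitting subgroup of every proper standard parabolic subgroup P_J is a p-group (P_J is p-constrained with trivial largest normal subgroup of order prime to p). -/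
theorem result {F : Type*} [Field F] [Fintype F] (p : ℕ) [Fact p.Prime] [CharP F p] (D : Cfsg.Lie.ChevalleyDatum) (hD : D ∈ [Cfsg.Lie.chevG2, Cfsg.Lie.chevB2, Cfsg.Lie.chevD4, Cfsg.Lie.chevF4, Cfsg.Lie.chevE6, Cfsg.Lie.chevE7, Cfsg.Lie.chevE8]) (hq : (D = Cfsg.Lie.chevG2 ∨ D = Cfsg.Lie.chevB2) → 3 ≤ Fintype.card F) (J : Set ℕ) (hJ : ∃ i, i < D.rank ∧ i ∉ J) : IsPGroup p ↥(Cfsg.generalizedFittingSubgroup ↥(D.parabolicSubgroup F J)) := by
  classical
  rw [Cfsg.Agent.Lib.Helper17.isPGroup_gfs_iff_centralizer_pCore_le]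
  -- `U` is a `p`-group
  have hUp : IsPGroup p (D.posUnipotent F) := by
    obtain ⟨n, _, hn⟩ := FiniteField.card F p
    apply IsPGroup.of_card (n := (n : ℕ) * (D.nroots / 2))
    rw [card_posUnipotent hD, hn, pow_mul]
  have hUJU : D.unipotentRadical F J ≤ D.posUnipotent F := by
    unfold ChevalleyDatum.unipotentRadical ChevalleyDatum.posUnipotent
    apply Subgroup.closure_mono
    rintro g ⟨r, t, hr, _, hg⟩
    exact ⟨r, t, hr, hg⟩
  have hUJP : D.unipotentRadical F J ≤ D.parabolicSubgroup F J :=
    le_trans hUJU (le_trans pos_le_borel (borel_le_parabolic J))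
  -- `U_J` as a normal `p`-subgroup of `P_J`
  have hn1 : ((D.unipotentRadical F J).subgroupOf (D.parabolicSubgroup F J)).Normal :=
    (Subgroup.normal_subgroupOf_iff_le_normalizer hUJP).mpr (parabolic_le_normalizer hD J)
  have hp1 : IsPGroup p ((D.unipotentRadical F J).subgroupOf (D.parabolicSubgroup F J)) :=
    (hUp.to_le hUJU).comap_subtype
  have hle1 := Cfsg.Agent.Lib.Helper1.le_pCore hn1 hp1
  -- its centraliser is a normal `p`-subgroup of `P_J`
  have hn2 : (Subgroup.centralizer (((D.unipotentRadical F J).subgroupOf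
      (D.parabolicSubgroup F J) : Subgroup ↥(D.parabolicSubgroup F J)) :
      Set ↥(D.parabolicSubgroup F J))).Normal := inferInstance
  have hle2 : Subgroup.centralizer (((D.unipotentRadical F J).subgroupOf
      (D.parabolicSubgroup F J) : Subgroup ↥(D.parabolicSubgroup F J)) :
      Set ↥(D.parabolicSubgroup F J)) ≤
      (D.posUnipotent F).subgroupOf (D.parabolicSubgroup F J) := by
    intro c hc
    rw [Subgroup.mem_subgroupOf]
    apply cent_radical_le_pos hD J hJ
    refine Subgroup.mem_inf.mpr ⟨c.2, ?_⟩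
    rw [Subgroup.mem_centralizer_iff]
    intro x hx
    have hx' : (⟨x, hUJP hx⟩ : ↥(D.parabolicSubgroup F J)) ∈
        (D.unipotentRadical F J).subgroupOf (D.parabolicSubgroup F J) := by
      rw [Subgroup.mem_subgroupOf]
      exact hx
    have := (Subgroup.mem_centralizer_iff.mp hc) _ hx'
    exact congrArg Subtype.val this
  have hp2 : IsPGroup p (Subgroup.centralizer (((D.unipotentRadical F J).subgroupOf
      (D.parabolicSubgroup F J) : Subgroup ↥(D.parabolicSubgroup F J)) :
      Set ↥(D.parabolicSubgroup F J))) :=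
    (hUp.comap_subtype (K := D.parabolicSubgroup F J)).to_le hle2
  have hle3 := Cfsg.Agent.Lib.Helper1.le_pCore hn2 hp2
  exact le_trans (Subgroup.centralizer_le hle1) hle3

end Cfsg.Agent.S2155
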