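import Cfsg.Statements.S2157

set_option autoImplicit false
open Cfsg

namespace Cfsg.Agent.S2157

open Cfsg.Lie

/-- Boolean consistency check of the chain table of a datum: every chain `s, r+s, 2r+s, …`
listed for `r` is obtained by repeatedly adding `r` (as recorded by `chainRoot · · 1`). -/
def chk (D : ChevalleyDatum) : Bool :=
  (List.range D.nroots).all fun r =>
    (D.chain.getD r #[]).toList.all fun e =>
      decide (e.1 < D.nroots) &&
      (e.2.toList.zipIdx.all fun q =>
        decide (q.1.1 < D.nroots) &&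
        (D.chainRoot r (if q.2 = 0 then e.1 else (e.2.toList.getD (q.2 - 1) (0,0)).1) 1 == some q.1.1))

set_option maxRecDepth 1000000 in
theorem chk_G2 : chk chevG2 = true := by decide +kernel
set_option maxRecDepth 1000000 in
theorem chk_B2 : chk chevB2 = true := by decide +kernel
set_option maxRecDepth 1000000 in
theorem chk_D4 : chk chevD4 = true := by decide +kernel
set_option maxRecDepth 1000000 in
theorem chk_F4 : chk chevF4 = true := by decide +kernel
set_option maxRecDepth 1000000 in
theorem chk_E6 : chk chevE6 = true := by decide +kernel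
set_option maxRecDepth 1000000 in
theorem chk_E7 : chk chevE7 = true := by decide +kernel
set_option maxRecDepth 1000000 in
theorem chk_E8 : chk chevE8 = true := by decide +kernel

theorem chk_of_mem (D : ChevalleyDatum)
    (hD : D ∈ [chevG2, chevB2, chevD4, chevF4, chevE6, chevE7, chevE8]) : chk D = true := by
  simp only [List.mem_cons, List.not_mem_nil, or_false] at hD
  rcases hD with rfl | rfl | rfl | rfl | rfl | rfl | rfl
  · exact chk_G2
  · exact chk_B2
  · exact chk_D4
  · exact chk_F4
  · exact chk_E6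
  · exact chk_E7
  · exact chk_E8

/-- What the check gives, unfolded. -/
theorem chk_spec (D : ChevalleyDatum) (h : chk D = true) (r : ℕ) (hr : r < D.nroots)
    (e : ℕ × Array (ℕ × ℤ)) (he : e ∈ (D.chain.getD r #[]).toList) :
    e.1 < D.nroots ∧ ∀ (j : ℕ) (x : ℕ × ℤ), e.2.toList[j]? = some x →
      x.1 < D.nroots ∧
      D.chainRoot r (if j = 0 then e.1 else (e.2.toList.getD (j - 1) (0,0)).1) 1 = some x.1 := by
  unfold chk at h
  rw [List.all_eq_true] at h
  have h1 := h r (List.mem_range.mpr hr)
  rw [List.all_eq_true] at h1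
  have h2 := h1 e he
  rw [Bool.and_eq_true, decide_eq_true_eq, List.all_eq_true] at h2
  refine ⟨h2.1, ?_⟩
  intro j x hx
  have h3 := h2.2 (x, j) (List.mk_mem_zipIdx_iff_getElem?.mpr hx)
  rw [Bool.and_eq_true, decide_eq_true_eq, beq_iff_eq] at h3
  exact h3

/-- Along a listed chain the character multiplies by `χ r` at each step. -/
theorem chain_char {F : Type*} [Field F] (D : ChevalleyDatum) (h : chk D = true)
    (χ : ℕ → Fˣ) (hχ : D.IsRootCharacter χ) (r : ℕ) (hr : r < D.nroots)
    (e : ℕ × Array (ℕ × ℤ)) (he : e ∈ (D.chain.getD r #[]).toList) :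
    ∀ (j : ℕ) (x : ℕ × ℤ), e.2.toList[j]? = some x → χ x.1 = χ r ^ (j + 1) * χ e.1 := by
  obtain ⟨he1, hspec⟩ := chk_spec D h r hr e he
  intro j
  induction j with
  | zero =>
    intro x hx
    obtain ⟨_, h2⟩ := hspec 0 x hx
    rw [if_pos rfl] at h2
    rw [hχ.2 r e.1 x.1 hr he1 h2]
    simp
  | succ j ih =>
    intro x hx
    obtain ⟨_, h2⟩ := hspec (j + 1) x hx
    rw [if_neg (Nat.succ_ne_zero j)] at h2
    have hjlt : j < e.2.toList.length := by
      have : j + 1 < e.2.toList.length := by
        by_contra hcon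
        rw [List.getElem?_eq_none (by omega)] at hx
        cases hx
      omega
    have hy : e.2.toList[j]? = some (e.2.toList[j]'hjlt) := List.getElem?_eq_getElem hjlt
    have hgetD : e.2.toList.getD (j + 1 - 1) (0, 0) = e.2.toList[j]'hjlt := by
      rw [Nat.add_sub_cancel, List.getD_eq_getElem?_getD, hy]
      rfl
    rw [hgetD] at h2
    obtain ⟨hy1, _⟩ := hspec j _ hy
    rw [hχ.2 r _ x.1 hr hy1 h2, ih _ hy]
    rw [pow_succ (χ r) (j + 1)]
    rw [mul_comm (χ r ^ (j + 1)) (χ r), mul_assoc]

/-- Membership in `chainCoeff`, unfolded. -/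
theorem mem_chainCoeff (D : ChevalleyDatum) (r s u : ℕ) (km : ℕ × ℤ)
    (h : km ∈ D.chainCoeff r s u) :
    ∃ e ∈ (D.chain.getD r #[]).toList, e.1 = s ∧ ∃ (j : ℕ) (x : ℕ × ℤ),
      e.2.toList[j]? = some x ∧ x.1 = u ∧ km.1 = j + 1 := by
  unfold ChevalleyDatum.chainCoeff at h
  rw [List.mem_flatMap] at h
  obtain ⟨e, he, hq⟩ := h
  rw [List.mem_filter, decide_eq_true_eq] at he
  rw [List.mem_map] at hq
  obtain ⟨q, hq1, hq2⟩ := hq
  rw [List.mem_filter, decide_eq_true_eq] at hq1
  refine ⟨e, he.1, he.2, q.2, q.1, ?_, hq1.2, ?_⟩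
  · exact List.mk_mem_zipIdx_iff_getElem?.mp hq1.1
  · rw [← hq2]

theorem chainCoeff_char {F : Type*} [Field F] (D : ChevalleyDatum) (h : chk D = true)
    (χ : ℕ → Fˣ) (hχ : D.IsRootCharacter χ) (r : ℕ) (hr : r < D.nroots) (s u : ℕ)
    (km : ℕ × ℤ) (hkm : km ∈ D.chainCoeff r s u) : χ u = χ r ^ km.1 * χ s := by
  obtain ⟨e, he, hes, j, x, hx, hxu, hk⟩ := mem_chainCoeff D r s u km hkm
  have := chain_char D h χ hχ r hr e he j x hx
  rw [hxu, hes, ← hk] at this
  exact this

theorem sum_scale {F : Type*} [Field F] (L : List (ℕ × ℤ)) (a b : F) (f g : ℕ × ℤ → F)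
    (h : ∀ km ∈ L, a * f km * b = g km) : a * (L.map f).sum * b = (L.map g).sum := by
  induction L with
  | nil => simp
  | cons y L ih =>
    rw [List.map_cons, List.sum_cons, List.map_cons, List.sum_cons, mul_add, add_mul,
      h y (List.mem_cons_self), ih (fun km hkm => h km (List.mem_cons_of_mem _ hkm))]

/-- In a Chevalley group of type G₂, B₂, D₄, F₄, E₆, E₇ or E₈, for every character `χ` of the root lattice with values in `Fˣ` the diagonal matrix `ĥ(χ)` (identity on the coroot coordinates, `χ(s)` on the coordinate of `e_s`) conjugates each root element `x_r(t)` to `x_r(χ(r) t)`: `ĥ(χ) x_r(t) ĥ(χ)⁻¹ = x_r(χ(r) t)` as matrices, with `ĥ(χ)⁻¹` written as `ĥ(χ⁻¹)`. -/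
theorem result {F : Type*} [Field F] (D : Cfsg.Lie.ChevalleyDatum) (hD : D ∈ [Cfsg.Lie.chevG2, Cfsg.Lie.chevB2, Cfsg.Lie.chevD4, Cfsg.Lie.chevF4, Cfsg.Lie.chevE6, Cfsg.Lie.chevE7, Cfsg.Lie.chevE8]) (χ : ℕ → Fˣ) (hχ : D.IsRootCharacter χ) (r : ℕ) (hr : r < D.nroots) (t : F) :
    D.charDiag F χ * D.x F r t * D.charDiag F (fun s => (χ s)⁻¹) = D.x F r ((χ r : F) * t) := by
  have hchk := chk_of_mem D hD
  have hcc := chainCoeff_char (F := F) D hchk χ hχ r hr
  have hneg := hχ.1 r hr
  unfold ChevalleyDatum.x
  rw [dif_pos hr, dif_pos hr]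
  unfold ChevalleyDatum.charDiag
  ext a b
  rw [Matrix.mul_diagonal, Matrix.diagonal_mul]
  rcases b with i | s
  · rcases a with i' | u
    · simp [ChevalleyDatum.xMat]
    · simp only [ChevalleyDatum.xMat, Matrix.of_apply, Sum.elim_inl, Sum.elim_inr, mul_one]
      split_ifs with hu
      · rw [hu]; ring
      · simp
  · by_cases hsr : s = ⟨r, hr⟩
    · rcases a with i' | u
      · simp [ChevalleyDatum.xMat, hsr]
      · simp only [ChevalleyDatum.xMat, Matrix.of_apply, Sum.elim_inr, hsr, if_true]
        split_ifs with hu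
        · rw [hu]; simp
        · simp
    · by_cases hsn : s.val = D.negIdx.getD r 0
      · have hs' : χ s.val = (χ r)⁻¹ := by
          rw [hsn]; exact hneg
        rcases a with i' | u
        · simp only [ChevalleyDatum.xMat, Matrix.of_apply, Sum.elim_inl, Sum.elim_inr, if_neg hsr,
            if_pos hsn, one_mul, hs', inv_inv]
          ring
        · simp only [ChevalleyDatum.xMat, Matrix.of_apply, Sum.elim_inr, if_neg hsr,
            if_pos hsn, hs', inv_inv]
          split_ifs with hus hur
          · rw [hus, hs']; simp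
          · rw [hur]; simp only []; ring
          · simp
      · rcases a with i' | u
        · simp only [ChevalleyDatum.xMat, Matrix.of_apply, Sum.elim_inl, Sum.elim_inr, if_neg hsr,
            if_neg hsn]
          simp
        · simp only [ChevalleyDatum.xMat, Matrix.of_apply, Sum.elim_inr, if_neg hsr, if_neg hsn]
          rw [mul_add, add_mul]
          congr 1
          · split_ifs with hus
            · rw [hus]; simp
            · simp
          · apply sum_scale
            intro km hkm
            have := hcc s.val u.val km hkm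
            rw [this]
            simp only [Units.val_mul, Units.val_pow_eq_pow_val, Units.val_inv_eq_inv_val]
            have hne : ((χ s.val : Fˣ) : F) ≠ 0 := Units.ne_zero _
            field_simp
            ring

end Cfsg.Agent.S2157
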