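import Cfsg.Statements.S2160
import Cfsg.Agent.Lib.Helper8.ChevGen1

set_option autoImplicit false
open Cfsg

namespace Cfsg.Agent.S2160

open Cfsg.Lie Matrix Cfsg.Agent.Lib.Helper8.Chev

/-- In a Chevalley group of type G₂, B₂, D₄, F₄, E₆, E₇ or E₈ over a finite field, every field automorphism commutes with every graph automorphism. -/
theorem result {F : Type*} [Field F] [Finite F] (D : Cfsg.Lie.ChevalleyDatum) (hD : D ∈ [Cfsg.Lie.chevG2, Cfsg.Lie.chevB2, Cfsg.Lie.chevD4, Cfsg.Lie.chevF4, Cfsg.Lie.chevE6, Cfsg.Lie.chevE7, Cfsg.Lie.chevE8]) (f g : ↥(D.group F) ≃* ↥(D.group F))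
    (hf : D.IsFieldAut f) (hg : D.IsGraphAut g) (y : ↥(D.group F)) : f (g y) = g (f y) := by
  have J := validJ_of_mem hD
  obtain ⟨σ, hσ⟩ := hf
  obtain ⟨π, -, hπ⟩ := hg
  have key : (f.toMonoidHom.comp g.toMonoidHom) = (g.toMonoidHom.comp f.toMonoidHom) := by
    apply hom_ext_fund hD
    rintro y ⟨i, hi, t, hy | hy⟩
    · have hs := (J.S i hi).1
      have hs' := (J.S (π ⟨i, hi⟩).val (π ⟨i, hi⟩).isLt).1
      have h1 := (hπ y ⟨i, hi⟩ t).1 hy
      have h2 := hσ (g y) _ _ hs' h1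
      have h3 := hσ y _ t hs hy
      have h4 := (hπ (f y) ⟨i, hi⟩ (σ t)).1 h3
      apply Subtype.ext
      apply Units.ext
      show ((f (g y) : GL D.Idx F) : Matrix D.Idx D.Idx F) = ((g (f y) : GL D.Idx F) : Matrix D.Idx D.Idx F)
      rw [h2, h4, map_pow]
    · have hs := J.V.neg_lt (J.S i hi).1
      have hs' := J.V.neg_lt (J.S (π ⟨i, hi⟩).val (π ⟨i, hi⟩).isLt).1
      have h1 := (hπ y ⟨i, hi⟩ t).2 hy
      have h2 := hσ (g y) _ _ hs' h1
      have h3 := hσ y _ t hs hy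
      have h4 := (hπ (f y) ⟨i, hi⟩ (σ t)).2 h3
      apply Subtype.ext
      apply Units.ext
      show ((f (g y) : GL D.Idx F) : Matrix D.Idx D.Idx F) = ((g (f y) : GL D.Idx F) : Matrix D.Idx D.Idx F)
      rw [h2, h4, map_pow]
  exact DFunLike.congr_fun key y

end Cfsg.Agent.S2160
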