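import Cfsg.Statements.S2161
import Cfsg.Agent.Lib.Helper8.ChevGA4

set_option autoImplicit false
open Cfsg

namespace Cfsg.Agent.S2161

open Cfsg.Lie Matrix Cfsg.Agent.Lib.Helper8.Chev

/-- the general argument, from the data of a graph automorphism -/
theorem aux {F : Type*} [Field F] (D : ChevalleyDatum)
    (hD : D ∈ [chevG2, chevB2, chevD4, chevF4, chevE6, chevE7, chevE8])
    {ρ ρ' πr π' : ℕ → ℕ} {ε : ℕ → ℤ} (h : GAOk D ρ ρ' πr π' ε)
    (π : Equiv.Perm (Fin D.rank)) (hπρ : ∀ i, (π i).val = ρ i.val)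
    (hperm : ∀ r < D.nroots, permRootN D ρ r = πr r)
    (φ : ↥(D.group F) ≃* ↥(D.group F))
    (hφ : ∀ (g : ↥(D.group F)) (i : Fin D.rank) (t : F),
      (((g : GL D.Idx F) : Matrix D.Idx D.Idx F) = D.x F (D.simple i) t →
        ((φ g : GL D.Idx F) : Matrix D.Idx D.Idx F) = D.x F (D.simple (π i)) t) ∧
      (((g : GL D.Idx F) : Matrix D.Idx D.Idx F) = D.x F (D.neg (D.simple i)) t →
        ((φ g : GL D.Idx F) : Matrix D.Idx D.Idx F) = D.x F (D.neg (D.simple (π i))) t))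
    (r : ℕ) (hr : r < D.nroots) :
    ∃ ε : F, (ε = 1 ∨ ε = -1) ∧ ∀ (g : ↥(D.group F)) (t : F),
      ((g : GL D.Idx F) : Matrix D.Idx D.Idx F) = D.x F r t →
        ((φ g : GL D.Idx F) : Matrix D.Idx D.Idx F) = D.x F (D.permRoot π r) (ε * t) := by
  have J := validJ_of_mem hD
  have V1 := valid1_of_mem hD
  have key : φ.toMonoidHom = (gaEquiv (F := F) J.V V1 h).toMonoidHom := by
    apply hom_ext_fund hD
    rintro y ⟨i, hi, t, hy | hy⟩
    · apply Subtype.ext
      apply Units.ext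
      show ((φ y : GL D.Idx F) : Matrix D.Idx D.Idx F) =
        ((gaEquiv J.V V1 h y : GL D.Idx F) : Matrix D.Idx D.Idx F)
      rw [(hφ y ⟨i, hi⟩ t).1 hy, (gaEquiv_simple J V1 h y hi t).1 hy, hπρ]
    · apply Subtype.ext
      apply Units.ext
      show ((φ y : GL D.Idx F) : Matrix D.Idx D.Idx F) =
        ((gaEquiv J.V V1 h y : GL D.Idx F) : Matrix D.Idx D.Idx F)
      rw [(hφ y ⟨i, hi⟩ t).2 hy, (gaEquiv_simple J V1 h y hi t).2 hy, hπρ]
  refine ⟨((ε r : ℤ) : F), ?_, fun g t hg => ?_⟩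
  · rcases h.hε r hr with h1 | h1 <;> rw [h1] <;> simp
  · have e1 : φ g = gaEquiv J.V V1 h g := DFunLike.congr_fun key g
    rw [e1, coe_gaEquiv, gaU_conj_x J.V V1 h hr t _ hg, permRoot_eq_permRootN D π ρ hπρ,
      hperm r hr]

/-- For the Chevalley groups of types D₄ and E₆ (one root length) over any field: if `π` is a symmetry of the Dynkin diagram and `φ` is an automorphism sending `x_{p_i}(t)` to `x_{p_{π i}}(t)` and `x_{-p_i}(t)` to `x_{-p_{π i}}(t)` for every fundamental root `p_i`, then for every root `r` there is a sign `ε = ±1` with `φ(x_r(t)) = x_{π·r}(ε t)` for all `t`, where `π·r` is the root whose coefficients are those of `r` permuted by `π`. -/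
theorem result {F : Type*} [Field F] (D : Cfsg.Lie.ChevalleyDatum) (hD : D ∈ [Cfsg.Lie.chevD4, Cfsg.Lie.chevE6])
    (π : Equiv.Perm (Fin D.rank)) (hπ : D.IsDiagramSymmetry π) (φ : ↥(D.group F) ≃* ↥(D.group F))
    (hφ : ∀ (g : ↥(D.group F)) (i : Fin D.rank) (t : F),
      (((g : GL D.Idx F) : Matrix D.Idx D.Idx F) = D.x F (D.simple i) t →
        ((φ g : GL D.Idx F) : Matrix D.Idx D.Idx F) = D.x F (D.simple (π i)) t) ∧
      (((g : GL D.Idx F) : Matrix D.Idx D.Idx F) = D.x F (D.neg (D.simple i)) t →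
        ((φ g : GL D.Idx F) : Matrix D.Idx D.Idx F) = D.x F (D.neg (D.simple (π i))) t))
    (r : ℕ) (hr : r < D.nroots) :
    ∃ ε : F, (ε = 1 ∨ ε = -1) ∧ ∀ (g : ↥(D.group F)) (t : F),
      ((g : GL D.Idx F) : Matrix D.Idx D.Idx F) = D.x F r t →
        ((φ g : GL D.Idx F) : Matrix D.Idx D.Idx F) = D.x F (D.permRoot π r) (ε * t) := by
  simp only [List.mem_cons, List.not_mem_nil, or_false] at hD
  rcases hD with rfl | rfl
  · have hD' : chevD4 ∈ [chevG2, chevB2, chevD4, chevF4, chevE6, chevE7, chevE8] := by simp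
    rcases classify_D4 π hπ with hc | hc | hc | hc | hc | hc
    · exact aux chevD4 hD' gaOk_D4i π hc permRootN_D4i φ hφ r hr
    · exact aux chevD4 hD' gaOk_D4a π hc permRootN_D4a φ hφ r hr
    · exact aux chevD4 hD' gaOk_D4b π hc permRootN_D4b φ hφ r hr
    · exact aux chevD4 hD' gaOk_D4c π hc permRootN_D4c φ hφ r hr
    · exact aux chevD4 hD' gaOk_D4d π hc permRootN_D4d φ hφ r hr
    · exact aux chevD4 hD' gaOk_D4e π hc permRootN_D4e φ hφ r hr
  · have hD' : chevE6 ∈ [chevG2, chevB2, chevD4, chevF4, chevE6, chevE7, chevE8] := by simp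
    rcases classify_E6 π hπ with hc | hc
    · exact aux chevE6 hD' gaOk_E6i π hc permRootN_E6i φ hφ r hr
    · exact aux chevE6 hD' gaOk_E6 π hc permRootN_E6 φ hφ r hr

end Cfsg.Agent.S2161
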