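import Cfsg.Statements.S2162
import Cfsg.Agent.Lib.Helper13.SquareZero

set_option autoImplicit false
open Cfsg

namespace Cfsg.Agent.S2162

open Cfsg.Agent.Lib.Helper13 Module

theorem sub_one_sq {F : Type*} [Field F] [CharP F 2] {n : ℕ} (M : Matrix (Fin n) (Fin n) F)
    (hM : M * M = 1) : (M - 1) * (M - 1) = 0 := by
  have h2F : (2 : F) = 0 := CharTwo.two_eq_zero
  have h1 : (M - 1) * (M - 1) = M * M - M - M + 1 := by noncomm_ring
  rw [h1, hM]
  have h2 : (1 : Matrix (Fin n) (Fin n) F) - M - M + 1 = (2 : F) • (1 - M) := by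
    rw [two_smul]; abel
  rw [h2, h2F, zero_smul]

theorem coe_sq_eq_one {F : Type*} [Field F] {n : ℕ} (a : Matrix.SpecialLinearGroup (Fin n) F)
    (ha : orderOf a = 2) :
    (a : Matrix (Fin n) (Fin n) F) * (a : Matrix (Fin n) (Fin n) F) = 1 := by
  have h1 : a ^ 2 = 1 := by rw [← ha]; exact pow_orderOf_eq_one a
  have h2 := congrArg (fun x : Matrix.SpecialLinearGroup (Fin n) F =>
    (x : Matrix (Fin n) (Fin n) F)) h1
  simpa [pow_two] using h2

/-- Conjugacy of involutions in the special linear group over a finite field of characteristic two, in dimension at least 3: two elements of order 2 of SL_n(F) are conjugate in SL_n(F) exactly when the matrices a − 1 and b − 1 have the same rank (the rank of a − 1 is the dimension of the commutator space [V, a]). -/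
theorem result {F : Type*} [Field F] [Fintype F] [CharP F 2] {n : ℕ} (hn : 3 ≤ n) (a b : Matrix.SpecialLinearGroup (Fin n) F) (ha : orderOf a = 2) (hb : orderOf b = 2) :
    IsConj a b ↔ ((a : Matrix (Fin n) (Fin n) F) - 1).rank = ((b : Matrix (Fin n) (Fin n) F) - 1).rank := by
  classical
  have hA2 := coe_sq_eq_one a ha
  have hB2 := coe_sq_eq_one b hb
  constructor
  · intro h
    obtain ⟨c, hc⟩ := isConj_iff.mp h
    have hB : (b : Matrix (Fin n) (Fin n) F) =
        (c : Matrix (Fin n) (Fin n) F) * (a : Matrix (Fin n) (Fin n) F) *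
          ((c⁻¹ : Matrix.SpecialLinearGroup (Fin n) F) : Matrix (Fin n) (Fin n) F) := by
      rw [← hc, Matrix.SpecialLinearGroup.coe_mul, Matrix.SpecialLinearGroup.coe_mul]
    have hcc : (c : Matrix (Fin n) (Fin n) F) *
        ((c⁻¹ : Matrix.SpecialLinearGroup (Fin n) F) : Matrix (Fin n) (Fin n) F) = 1 := by
      rw [← Matrix.SpecialLinearGroup.coe_mul, mul_inv_cancel]
      rfl
    have hB1 : (b : Matrix (Fin n) (Fin n) F) - 1 =
        (c : Matrix (Fin n) (Fin n) F) * ((a : Matrix (Fin n) (Fin n) F) - 1) *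
          ((c⁻¹ : Matrix.SpecialLinearGroup (Fin n) F) : Matrix (Fin n) (Fin n) F) := by
      rw [Matrix.mul_sub, Matrix.sub_mul, mul_one, hcc, hB]
    rw [hB1, Matrix.rank_mul_eq_left_of_isUnit_det, Matrix.rank_mul_eq_right_of_isUnit_det]
    · rw [Matrix.SpecialLinearGroup.det_coe]; exact isUnit_one
    · rw [Matrix.SpecialLinearGroup.det_coe]; exact isUnit_one
  · intro hrank
    have hN₁ : ((a : Matrix (Fin n) (Fin n) F) - 1).mulVecLin ∘ₗ
        ((a : Matrix (Fin n) (Fin n) F) - 1).mulVecLin = 0 := by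
      rw [← Matrix.mulVecLin_mul, sub_one_sq _ hA2, Matrix.mulVecLin_zero]
    have hN₂ : ((b : Matrix (Fin n) (Fin n) F) - 1).mulVecLin ∘ₗ
        ((b : Matrix (Fin n) (Fin n) F) - 1).mulVecLin = 0 := by
      rw [← Matrix.mulVecLin_mul, sub_one_sq _ hB2, Matrix.mulVecLin_zero]
    have hpos : ((a : Matrix (Fin n) (Fin n) F) - 1).mulVecLin ≠ 0 := by
      intro h0
      have hA1 : (a : Matrix (Fin n) (Fin n) F) - 1 = 0 := by
        have h1 := congrArg LinearMap.toMatrix' h0
        rw [← Matrix.toLin'_apply', LinearMap.toMatrix'_toLin'] at h1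
        simpa using h1
      have ha1 : a = 1 := by
        apply Subtype.ext
        rw [sub_eq_zero] at hA1
        rw [hA1]
        rfl
      rw [ha1, orderOf_one] at ha
      norm_num at ha
    have hsq : ∀ x : F, ∃ y : F, y * y = x := by
      intro x
      have hchar : ringChar F = 2 := ringChar.eq F 2
      obtain ⟨y, hy⟩ := FiniteField.isSquare_of_char_two hchar x
      exact ⟨y, hy.symm⟩
    obtain ⟨g, hg, hdet⟩ := exists_conj_det_one _ _ hN₁ hN₂ hrank hpos hsq
    have hGdet : (LinearMap.toMatrix' (g : (Fin n → F) →ₗ[F] (Fin n → F))).det = 1 := by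
      rw [LinearMap.det_toMatrix', hdet]
    have hGeq : LinearMap.toMatrix' (g : (Fin n → F) →ₗ[F] (Fin n → F)) *
        ((a : Matrix (Fin n) (Fin n) F) - 1) =
        ((b : Matrix (Fin n) (Fin n) F) - 1) *
          LinearMap.toMatrix' (g : (Fin n → F) →ₗ[F] (Fin n → F)) := by
      have h1 := congrArg LinearMap.toMatrix' hg
      rw [LinearMap.toMatrix'_comp, LinearMap.toMatrix'_comp, ← Matrix.toLin'_apply',
        ← Matrix.toLin'_apply', LinearMap.toMatrix'_toLin', LinearMap.toMatrix'_toLin'] at h1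
      exact h1
    have hGA : LinearMap.toMatrix' (g : (Fin n → F) →ₗ[F] (Fin n → F)) *
        (a : Matrix (Fin n) (Fin n) F) =
        (b : Matrix (Fin n) (Fin n) F) *
          LinearMap.toMatrix' (g : (Fin n → F) →ₗ[F] (Fin n → F)) := by
      rw [Matrix.mul_sub, Matrix.sub_mul, mul_one, one_mul] at hGeq
      exact sub_left_injective hGeq
    rw [isConj_iff]
    set c : Matrix.SpecialLinearGroup (Fin n) F :=
      ⟨LinearMap.toMatrix' (g : (Fin n → F) →ₗ[F] (Fin n → F)), hGdet⟩ with hc
    refine ⟨c, ?_⟩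
    have h3 : c * a = b * c := by
      apply Subtype.ext
      rw [Matrix.SpecialLinearGroup.coe_mul, Matrix.SpecialLinearGroup.coe_mul]
      exact hGA
    rw [h3]
    group

end Cfsg.Agent.S2162
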