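import Cfsg.Statements.S2163

set_option autoImplicit false
open Cfsg

namespace Cfsg.Agent.S2163

open Matrix

variable (F : Type*) [Field F]

/-- the corner matrix -/
def cornerE (n ℓ : ℕ) : Matrix (Fin n) (Fin n) F :=
  Matrix.of (fun i j : Fin n => if j.val < ℓ ∧ i.val = j.val + (n - ℓ) then (1 : F) else 0)

def cornerU (n ℓ : ℕ) : Matrix (Fin n) (Fin ℓ) F :=
  Matrix.of (fun (i : Fin n) (k : Fin ℓ) => if i.val = k.val + (n - ℓ) then (1 : F) else 0)

def cornerV (n ℓ : ℕ) : Matrix (Fin ℓ) (Fin n) F :=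
  Matrix.of (fun (k : Fin ℓ) (j : Fin n) => if j.val = k.val then (1 : F) else 0)

theorem cornerE_apply (n ℓ : ℕ) (i j : Fin n) :
    cornerE F n ℓ i j = if j.val < ℓ ∧ i.val = j.val + (n - ℓ) then (1 : F) else 0 := rfl

theorem cornerU_apply (n ℓ : ℕ) (i : Fin n) (k : Fin ℓ) :
    cornerU F n ℓ i k = if i.val = k.val + (n - ℓ) then (1 : F) else 0 := rfl

theorem cornerV_apply (n ℓ : ℕ) (k : Fin ℓ) (j : Fin n) :
    cornerV F n ℓ k j = if j.val = k.val then (1 : F) else 0 := rfl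

theorem cornerE_eq (n ℓ : ℕ) : cornerE F n ℓ = cornerU F n ℓ * cornerV F n ℓ := by
  ext i j
  rw [Matrix.mul_apply, cornerE_apply]
  simp only [cornerU_apply, cornerV_apply]
  by_cases hj : j.val < ℓ
  · rw [Finset.sum_eq_single (⟨j.val, hj⟩ : Fin ℓ)]
    · simp [hj]
    · intro k _ hk
      have : ¬ j.val = k.val := fun h => hk (Fin.ext h.symm)
      simp [this]
    · intro h; exact absurd (Finset.mem_univ _) h
  · have : ∀ k : Fin ℓ, ¬ j.val = k.val := fun k h => hj (h ▸ k.2)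
    simp [hj, this]

theorem cornerU_transpose_mul (n ℓ : ℕ) (h2 : ℓ ≤ n) :
    (cornerU F n ℓ).transpose * cornerU F n ℓ = 1 := by
  ext k k'
  rw [Matrix.mul_apply]
  simp only [Matrix.transpose_apply, cornerU_apply, Matrix.one_apply]
  have hk : k.val + (n - ℓ) < n := by have := k.2; omega
  rw [Finset.sum_eq_single (⟨k.val + (n - ℓ), hk⟩ : Fin n)]
  · by_cases hkk : k = k'
    · subst hkk; simp
    · have : ¬ k.val = k'.val := fun h => hkk (Fin.ext h)
      simp [hkk, this]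
  · intro i _ hi
    have : ¬ i.val = k.val + (n - ℓ) := fun h => hi (Fin.ext h)
    simp [this]
  · intro h; exact absurd (Finset.mem_univ _) h

theorem cornerV_mul_transpose (n ℓ : ℕ) (h2 : ℓ ≤ n) :
    cornerV F n ℓ * (cornerV F n ℓ).transpose = 1 := by
  ext k k'
  rw [Matrix.mul_apply]
  simp only [Matrix.transpose_apply, cornerV_apply, Matrix.one_apply]
  have hk : k.val < n := lt_of_lt_of_le k.2 h2
  rw [Finset.sum_eq_single (⟨k.val, hk⟩ : Fin n)]
  · by_cases hkk : k = k'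
    · subst hkk; simp
    · have : ¬ k.val = k'.val := fun h => hkk (Fin.ext h)
      simp [hkk, this]
  · intro j _ hj
    have : ¬ j.val = k.val := fun h => hj (Fin.ext h)
    simp [this]
  · intro h; exact absurd (Finset.mem_univ _) h

theorem rank_cornerE (n ℓ : ℕ) (h2 : ℓ ≤ n) : (cornerE F n ℓ).rank = ℓ := by
  apply le_antisymm
  · rw [cornerE_eq]
    calc (cornerU F n ℓ * cornerV F n ℓ).rank
        ≤ (cornerU F n ℓ).rank := Matrix.rank_mul_le_left _ _
      _ ≤ Fintype.card (Fin ℓ) := Matrix.rank_le_card_width _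
      _ = ℓ := Fintype.card_fin ℓ
  · have h1 : ((cornerU F n ℓ).transpose * cornerE F n ℓ * (cornerV F n ℓ).transpose) = 1 := by
      rw [cornerE_eq, ← Matrix.mul_assoc, cornerU_transpose_mul F n ℓ h2, Matrix.one_mul,
        cornerV_mul_transpose F n ℓ h2]
    have h2' : ((1 : Matrix (Fin ℓ) (Fin ℓ) F)).rank = ℓ := by
      rw [Matrix.rank_one, Fintype.card_fin]
    calc ℓ = ((cornerU F n ℓ).transpose * cornerE F n ℓ * (cornerV F n ℓ).transpose).rank := by
          rw [h1, h2']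
      _ ≤ ((cornerU F n ℓ).transpose * cornerE F n ℓ).rank := Matrix.rank_mul_le_left _ _
      _ ≤ (cornerE F n ℓ).rank := Matrix.rank_mul_le_right _ _

theorem cornerE_sq (n ℓ : ℕ) (h2 : 2 * ℓ ≤ n) :
    cornerE F n ℓ * cornerE F n ℓ = 0 := by
  ext i j
  rw [Matrix.mul_apply, Matrix.zero_apply]
  apply Finset.sum_eq_zero
  intro k _
  rw [cornerE_apply, cornerE_apply]
  by_cases h1 : k.val < ℓ ∧ i.val = k.val + (n - ℓ)
  · have : ¬ (j.val < ℓ ∧ k.val = j.val + (n - ℓ)) := by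
      rintro ⟨_, h3⟩; omega
    simp [this]
  · simp [h1]

theorem cornerE_upper (n ℓ : ℕ) (h1 : 1 ≤ ℓ) (h2 : 2 * ℓ ≤ n) (i j : Fin n) (hij : i ≤ j) :
    cornerE F n ℓ i j = 0 := by
  rw [cornerE_apply]
  have : ¬ (j.val < ℓ ∧ i.val = j.val + (n - ℓ)) := by
    rintro ⟨h3, h4⟩
    have : i.val ≤ j.val := hij
    omega
  simp [this]

/-- Over a finite field of characteristic two and for n ≥ 3: the matrices j_ℓ. -/
theorem result {F : Type*} [Field F] [Fintype F] [CharP F 2] {n : ℕ} (hn : 3 ≤ n) (ℓ : ℕ) (h1 : 1 ≤ ℓ) (h2 : 2 * ℓ ≤ n) :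
    ∃ a : Matrix.SpecialLinearGroup (Fin n) F, (a : Matrix (Fin n) (Fin n) F) = 1 + Matrix.of (fun i j : Fin n => if j.val < ℓ ∧ i.val = j.val + (n - ℓ) then (1 : F) else 0) ∧ orderOf a = 2 ∧ ((a : Matrix (Fin n) (Fin n) F) - 1).rank = ℓ := by
  have hdet : (1 + cornerE F n ℓ : Matrix (Fin n) (Fin n) F).det = 1 := by
    rw [Matrix.det_of_isLowerTriangular]
    · apply Finset.prod_eq_one
      intro i _
      rw [Matrix.add_apply, Matrix.one_apply_eq, cornerE_upper F n ℓ h1 h2 i i le_rfl, add_zero]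
    · intro i j hij
      have hij' : i < j := hij
      rw [Matrix.add_apply, Matrix.one_apply_ne (ne_of_lt hij'), cornerE_upper F n ℓ h1 h2 i j hij'.le, add_zero]
  refine ⟨⟨1 + cornerE F n ℓ, hdet⟩, rfl, ?_, ?_⟩
  · apply orderOf_eq_prime
    · apply Subtype.ext
      show (1 + cornerE F n ℓ : Matrix (Fin n) (Fin n) F) ^ 2 = 1
      have h2E : (cornerE F n ℓ : Matrix (Fin n) (Fin n) F) + cornerE F n ℓ = 0 := by
        ext i j
        simp only [Matrix.add_apply, Matrix.zero_apply]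
        exact CharTwo.add_self_eq_zero _
      calc (1 + cornerE F n ℓ : Matrix (Fin n) (Fin n) F) ^ 2
          = 1 + (cornerE F n ℓ + cornerE F n ℓ) + cornerE F n ℓ * cornerE F n ℓ := by
            rw [pow_two]; noncomm_ring
        _ = 1 := by rw [h2E, cornerE_sq F n ℓ h2]; simp
    · intro h
      have hi : n - ℓ < n := by omega
      have hj : 0 < n := by omega
      have hne : (⟨n - ℓ, hi⟩ : Fin n) ≠ ⟨0, hj⟩ := by
        intro h5
        have := congrArg Fin.val h5
        simp only at this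
        omega
      have h3 : (1 + cornerE F n ℓ : Matrix (Fin n) (Fin n) F) = 1 := congrArg Subtype.val h
      have h4 := congrFun (congrFun h3 ⟨n - ℓ, hi⟩) ⟨0, hj⟩
      rw [Matrix.add_apply, Matrix.one_apply_ne hne, cornerE_apply, zero_add] at h4
      have : ((⟨0, hj⟩ : Fin n).val < ℓ ∧ (⟨n - ℓ, hi⟩ : Fin n).val = (⟨0, hj⟩ : Fin n).val + (n - ℓ)) :=
        ⟨by simp only; omega, by simp only; omega⟩
      rw [if_pos this] at h4
      exact one_ne_zero h4
  · show ((1 + cornerE F n ℓ : Matrix (Fin n) (Fin n) F) - 1).rank = ℓ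
    rw [add_sub_cancel_left]
    exact rank_cornerE F n ℓ (by omega)

end Cfsg.Agent.S2163
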