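import Cfsg.Statements.S2164
import Cfsg.Agent.Lib.Helper6.Unitary2
import Cfsg.Agent.Lib.Helper6.Symp
import Cfsg.Agent.Lib.Helper16.SUCenter
import Cfsg.Agent.Lib.Helper13.HermInvolConj

set_option autoImplicit false
open Cfsg

namespace Cfsg.Agent.S2164

open Cfsg.Agent.Lib.Helper6 Cfsg.Agent.Lib.Helper13 Cfsg.Agent.Lib.Helper16 Cfsg.Agent.S0779 Matrix Module

section
universe u
variable {F : Type u} [Field F] [Fintype F] {n q : ℕ}

omit [Fintype F] in
theorem rank_eq_of_conj (A A' C : Matrix (Fin n) (Fin n) F) (hC : IsUnit C.det)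
    (h : C * A = A' * C) : (A - 1).rank = (A' - 1).rank := by
  have h1 : C * (A - 1) = (A' - 1) * C := by
    rw [Matrix.mul_sub, Matrix.sub_mul, Matrix.mul_one, Matrix.one_mul, h]
  have h2 := Matrix.rank_mul_eq_right_of_isUnit_det C (A - 1) hC
  have h3 := Matrix.rank_mul_eq_left_of_isUnit_det C (A' - 1) hC
  rw [← h2, h1, h3]

/-- scaling a hyperbolic pair `w, z` by a norm-one scalar `μ`: a unitary matrix of determinant
`μ ^ 2`. -/
theorem hyp_scale (hF : Fintype.card F = q ^ 2) (w z : Fin n → F)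
    (hww : hermForm n F q w w = 0) (hzz : hermForm n F q z z = 0)
    (hwz : hermForm n F q w z = 1) (hzw : hermForm n F q z w = 1) (μ : F)
    (hμ : μ ^ (q + 1) = 1) :
    ∃ H : Matrix (Fin n) (Fin n) F, H.det = μ ^ 2 ∧
      (∀ x y, hermForm n F q (H *ᵥ x) (H *ᵥ y) = hermForm n F q x y) ∧
      ∀ x, H *ᵥ x = x + (μ - 1) • (hermForm n F q x z • w + hermForm n F q x w • z) := by
  classical
  let A₁ : Matrix (Fin n) (Fin 2) F := Matrix.of fun i k => (μ - 1) * (![w i, z i] k)
  let B₁ : Matrix (Fin 2) (Fin n) F := Matrix.of fun k j => (![z j, w j] k) ^ q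
  have hform : ∀ x, (1 + A₁ * B₁) *ᵥ x =
      x + (μ - 1) • (hermForm n F q x z • w + hermForm n F q x w • z) := by
    intro x
    rw [Matrix.add_mulVec, Matrix.one_mulVec, ← Matrix.mulVec_mulVec]
    congr 1
    funext i
    have hB0 : (B₁ *ᵥ x) 0 = hermForm n F q x z := by
      simp only [Matrix.mulVec, dotProduct, hermForm, B₁, Matrix.of_apply, Matrix.cons_val_zero]
      apply Finset.sum_congr rfl
      intro j _
      rw [mul_comm]
    have hB1 : (B₁ *ᵥ x) 1 = hermForm n F q x w := by
      simp only [Matrix.mulVec, dotProduct, hermForm, B₁, Matrix.of_apply, Matrix.cons_val_one]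
      apply Finset.sum_congr rfl
      intro j _
      rw [mul_comm]
      rfl
    rw [Matrix.mulVec, dotProduct, Fin.sum_univ_two, hB0, hB1]
    simp only [A₁, Matrix.of_apply, Matrix.cons_val_zero, Matrix.cons_val_one, Pi.smul_apply,
      Pi.add_apply, smul_eq_mul]
    ring
  have hε : (μ - 1) ^ q + (μ - 1) + (μ - 1) * (μ - 1) ^ q = 0 := by
    have h1 : (μ - 1 + 1) ^ q = (μ - 1) ^ q + 1 := by
      rw [add_pow_q hF, one_pow]
    rw [sub_add_cancel] at h1
    have h2 : μ ^ q * μ = 1 := by rw [← pow_succ]; exact hμ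
    rw [h1] at h2
    linear_combination h2
  refine ⟨1 + A₁ * B₁, ?_, ?_, hform⟩
  · rw [Matrix.det_one_add_mul_comm]
    have h2 : (1 : Matrix (Fin 2) (Fin 2) F) + B₁ * A₁ = μ • (1 : Matrix (Fin 2) (Fin 2) F) := by
      have e00 : (B₁ * A₁) 0 0 = (μ - 1) * hermForm n F q w z := by
        simp only [Matrix.mul_apply, hermForm, B₁, A₁, Matrix.of_apply, Matrix.cons_val_zero,
          Finset.mul_sum]
        apply Finset.sum_congr rfl
        intro j _
        ring
      have e01 : (B₁ * A₁) 0 1 = (μ - 1) * hermForm n F q z z := by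
        simp only [Matrix.mul_apply, hermForm, B₁, A₁, Matrix.of_apply, Matrix.cons_val_zero,
          Matrix.cons_val_one, Finset.mul_sum]
        apply Finset.sum_congr rfl
        intro j _
        ring
      have e10 : (B₁ * A₁) 1 0 = (μ - 1) * hermForm n F q w w := by
        simp only [Matrix.mul_apply, hermForm, B₁, A₁, Matrix.of_apply, Matrix.cons_val_zero,
          Matrix.cons_val_one, Finset.mul_sum]
        apply Finset.sum_congr rfl
        intro j _
        ring
      have e11 : (B₁ * A₁) 1 1 = (μ - 1) * hermForm n F q z w := by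
        simp only [Matrix.mul_apply, hermForm, B₁, A₁, Matrix.of_apply, Matrix.cons_val_zero,
          Matrix.cons_val_one, Finset.mul_sum]
        apply Finset.sum_congr rfl
        intro j _
        ring
      ext k l
      fin_cases k <;> fin_cases l
      · simp only [Fin.zero_eta, Fin.isValue, Matrix.add_apply, Matrix.one_apply_eq, e00, hwz,
          Matrix.smul_apply, smul_eq_mul]
        ring
      · simp only [Fin.zero_eta, Fin.mk_one, Fin.isValue, Matrix.add_apply, e01, hzz,
          Matrix.smul_apply, smul_eq_mul, ne_eq, zero_ne_one, not_false_eq_true,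
          Matrix.one_apply_ne]
        ring
      · simp only [Fin.zero_eta, Fin.mk_one, Fin.isValue, Matrix.add_apply, e10, hww,
          Matrix.smul_apply, smul_eq_mul, ne_eq, one_ne_zero, not_false_eq_true,
          Matrix.one_apply_ne]
        ring
      · simp only [Fin.mk_one, Fin.isValue, Matrix.add_apply, Matrix.one_apply_eq, e11, hzw,
          Matrix.smul_apply, smul_eq_mul]
        ring
    rw [h2, Matrix.det_smul, Matrix.det_one, Fintype.card_fin, mul_one]
  · intro x y
    rw [hform, hform]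
    have hcw : ∀ v : Fin n → F, hermForm n F q w v = (hermForm n F q v w) ^ q := fun v =>
      (herm_conj hF v w).symm
    have hcz : ∀ v : Fin n → F, hermForm n F q z v = (hermForm n F q v z) ^ q := fun v =>
      (herm_conj hF v z).symm
    simp only [herm_add_left, herm_add_right hF, herm_smul_left, herm_smul_right, hww, hzz, hwz,
      hzw, hcw y, hcz y]
    linear_combination (hermForm n F q x z * hermForm n F q y w ^ q +
      hermForm n F q x w * hermForm n F q y z ^ q) * hε

variable [CharP F 2]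

/-- The core: two unitary involutions with the same rank are conjugate by a unitary matrix of
determinant one. -/
theorem core (hF : Fintype.card F = q ^ 2) (A A' : Matrix (Fin n) (Fin n) F)
    (hA2 : A * A = 1) (hA2' : A' * A' = 1)
    (hpres : ∀ x y, hermForm n F q (A *ᵥ x) (A *ᵥ y) = hermForm n F q x y)
    (hpres' : ∀ x y, hermForm n F q (A' *ᵥ x) (A' *ᵥ y) = hermForm n F q x y)
    (hne' : A' ≠ 1)
    (hrank : (A - 1).rank = (A' - 1).rank) :
    ∃ G : Matrix (Fin n) (Fin n) F, G.det = 1 ∧
      (∀ x y, hermForm n F q (G *ᵥ x) (G *ᵥ y) = hermForm n F q x y) ∧ G * A = A' * G := by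
  classical
  have hq2 : Even q := by
    have h2 : (2 : ℕ) ∣ Fintype.card F := by
      have := FiniteField.card F 2
      obtain ⟨k, _, hk⟩ := this
      rw [hk]
      exact dvd_pow_self 2 k.ne_zero
    rw [hF] at h2
    exact even_iff_two_dvd.mpr (Nat.prime_two.dvd_of_dvd_pow h2)
  -- facts about an involution
  have facts : ∀ (M : Matrix (Fin n) (Fin n) F), M * M = 1 →
      (∀ x y, hermForm n F q (M *ᵥ x) (M *ᵥ y) = hermForm n F q x y) →
      (∀ x : Fin n → F, (M - 1).mulVecLin ((M - 1).mulVecLin x) = 0) ∧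
      (∀ x y : Fin n → F, hermB n hF ((M - 1).mulVecLin x) y = hermB n hF x ((M - 1).mulVecLin y)) := by
    intro M hM2 hMp
    have hMM : ∀ u : Fin n → F, M *ᵥ (M *ᵥ u) = u := fun u => by
      rw [Matrix.mulVec_mulVec, hM2, Matrix.one_mulVec]
    have hNd : ∀ x : Fin n → F, (M - 1).mulVecLin x = M *ᵥ x - x := fun x => by
      rw [Matrix.mulVecLin_apply, Matrix.sub_mulVec, Matrix.one_mulVec]
    refine ⟨?_, ?_⟩
    · intro x
      rw [hNd, hNd, Matrix.mulVec_sub, hMM]
      funext i
      have h2 : (2 : F) = 0 := CharTwo.two_eq_zero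
      simp only [Pi.sub_apply, Pi.zero_apply]
      linear_combination (x i - (M *ᵥ x) i) * h2
    · intro x y
      rw [hNd, hNd, map_sub, LinearMap.sub_apply, map_sub]
      simp only [hermB_apply]
      congr 1
      rw [← hMp y (M *ᵥ x), hMM]
  obtain ⟨hN, hBN⟩ := facts A hA2 hpres
  obtain ⟨hN', hBN'⟩ := facts A' hA2' hpres'
  have hσ := conjQ_ne_id hF
  have hσ2 := conjQ_conjQ hF
  have hS := hermB_isSymm (n := n) hF
  have hnd : ∀ x : Fin n → F, (∀ y, hermB n hF x y = 0) → x = 0 := by
    intro x hx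
    apply herm_nondeg hF
    intro y
    apply herm_swap_zero hF
    rw [← hermB_apply hF]
    exact hx y
  have hr : finrank F (LinearMap.range (A - 1).mulVecLin) =
      finrank F (LinearMap.range (A' - 1).mulVecLin) := hrank
  obtain ⟨u, hu, hspan⟩ := herm_exists_normal_family (conjQ hF) hσ hσ2 (hermB n hF) hS hnd
    (A - 1).mulVecLin hBN
  have key : ∀ (r : ℕ), finrank F (LinearMap.range (A' - 1).mulVecLin) = r →
      ∃ u' : Fin r → (Fin n → F),
        (∀ i j, hermB n hF (u' i) ((A' - 1).mulVecLin (u' j)) = if i = j then 1 else 0) ∧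
        Submodule.span F (Set.range u') ⊔ LinearMap.ker (A' - 1).mulVecLin = ⊤ := by
    intro r hr'
    subst hr'
    exact herm_exists_normal_family (conjQ hF) hσ hσ2 (hermB n hF) hS hnd (A' - 1).mulVecLin hBN'
  obtain ⟨u', hu', hspan'⟩ := key _ hr.symm
  obtain ⟨g, hg1, hg2⟩ := herm_exists_isometry_intertwining (conjQ hF) hσ hσ2 (hermB n hF) hS hnd
    (A - 1).mulVecLin (A' - 1).mulVecLin hN hN' hBN hBN' u u' hu hu' hspan hspan'
  let G : Matrix (Fin n) (Fin n) F := LinearMap.toMatrix' g.toLinearMap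
  have hG : ∀ x, G *ᵥ x = g x := fun x => by
    change LinearMap.toMatrix' g.toLinearMap *ᵥ x = g x
    rw [LinearMap.toMatrix'_mulVec]
    rfl
  have hGpres : ∀ x y, hermForm n F q (G *ᵥ x) (G *ᵥ y) = hermForm n F q x y := by
    intro x y
    rw [hG, hG, ← hermB_apply hF, ← hermB_apply hF]
    exact hg1 y x
  have hGA : G * A = A' * G := by
    have h1 : G * (A - 1) = (A' - 1) * G := by
      apply matrix_ext_mulVec
      intro x
      rw [← Matrix.mulVec_mulVec, ← Matrix.mulVec_mulVec, hG, hG]
      exact hg2 x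
    rw [Matrix.mul_sub, Matrix.sub_mul, Matrix.mul_one, Matrix.one_mul] at h1
    exact sub_left_injective h1
  have hδ : G.det ^ (q + 1) = 1 := det_norm_of_pres hF G hGpres
  -- a hyperbolic pair adapted to A'
  have hrpos : 0 < finrank F (LinearMap.range (A - 1).mulVecLin) := by
    rw [hr]
    change 0 < (A' - 1).rank
    rw [Nat.pos_iff_ne_zero]
    intro h0
    apply hne'
    have : A' - 1 = 0 := by
      apply matrix_ext_mulVec
      intro x
      rw [Matrix.zero_mulVec]
      have hx : (A' - 1).mulVecLin x ∈ LinearMap.range (A' - 1).mulVecLin :=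
        LinearMap.mem_range_self _ x
      have hbot : LinearMap.range (A' - 1).mulVecLin = ⊥ := by
        apply Submodule.finrank_eq_zero.mp
        exact h0
      rw [hbot, Submodule.mem_bot] at hx
      exact hx
    exact sub_eq_zero.mp this
  obtain ⟨v', _, _, hv3', hv4'⟩ := herm_exists_adjust (conjQ hF) hσ hσ2 (hermB n hF) hS
    (A' - 1).mulVecLin hN' hBN' u' hu'
  let i₀ : Fin (finrank F (LinearMap.range (A - 1).mulVecLin)) := ⟨0, hrpos⟩
  set w : Fin n → F := v' i₀ with hw
  set z : Fin n → F := (A' - 1).mulVecLin w with hz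
  have hzdef : z = A' *ᵥ w - w := by
    rw [hz, Matrix.mulVecLin_apply, Matrix.sub_mulVec, Matrix.one_mulVec]
  have hww : hermForm n F q w w = 0 := by
    rw [← hermB_apply hF]; exact hv3' i₀ i₀
  have hzw : hermForm n F q z w = 1 := by
    rw [← hermB_apply hF]
    have := hv4' i₀ i₀
    rw [if_pos rfl] at this
    exact this
  have hwz : hermForm n F q w z = 1 := by
    rw [← hermB_apply hF, hz, hBN']
    have := hv4' i₀ i₀
    rw [if_pos rfl] at this
    exact this
  have hzz : hermForm n F q z z = 0 := by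
    rw [← hermB_apply hF, hz, hBN', hN', map_zero]
  -- the scalar
  have hδne : G.det ≠ 0 := by
    intro h0
    rw [h0, zero_pow (by omega)] at hδ
    exact zero_ne_one hδ
  obtain ⟨k, hk⟩ := hq2
  set μ : F := (G.det⁻¹) ^ (k + 1) with hμdef
  have hδi : (G.det⁻¹) ^ (q + 1) = 1 := by rw [inv_pow, hδ, inv_one]
  have hμ1 : μ ^ (q + 1) = 1 := by
    rw [hμdef, ← pow_mul, mul_comm, pow_mul, hδi, one_pow]
  have hμ2 : μ ^ 2 = G.det⁻¹ := by
    rw [hμdef, ← pow_mul]
    have : (k + 1) * 2 = (q + 1) + 1 := by omega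
    rw [this, pow_succ, hδi, one_mul]
  obtain ⟨H, hHdet, hHpres, hHform⟩ := hyp_scale hF w z hww hzz hwz hzw μ hμ1
  have hA'w : A' *ᵥ w = w + z := by rw [hzdef]; abel
  have hA'z : A' *ᵥ z = z := by
    have h1 : (A' - 1).mulVecLin z = 0 := by rw [hz]; exact hN' w
    rw [Matrix.mulVecLin_apply, Matrix.sub_mulVec, Matrix.one_mulVec, sub_eq_zero] at h1
    exact h1
  have hA'A' : ∀ x : Fin n → F, A' *ᵥ (A' *ᵥ x) = x := fun x => by
    rw [Matrix.mulVec_mulVec, hA2', Matrix.one_mulVec]
  have hHA' : H * A' = A' * H := by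
    apply matrix_ext_mulVec
    intro x
    rw [← Matrix.mulVec_mulVec, ← Matrix.mulVec_mulVec, hHform, hHform]
    have e1 : hermForm n F q (A' *ᵥ x) z = hermForm n F q x z := by
      rw [← hpres' (A' *ᵥ x) z, hA'A', hA'z]
    have e2 : hermForm n F q (A' *ᵥ x) w = hermForm n F q x w + hermForm n F q x z := by
      rw [← hpres' (A' *ᵥ x) w, hA'A', hA'w, herm_add_right hF]
    rw [e1, e2, Matrix.mulVec_add, Matrix.mulVec_smul, Matrix.mulVec_add, Matrix.mulVec_smul,
      Matrix.mulVec_smul, hA'w, hA'z]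
    congr 1
    congr 1
    rw [smul_add, add_smul]
    abel
  refine ⟨H * G, ?_, ?_, ?_⟩
  · rw [Matrix.det_mul, hHdet, hμ2, inv_mul_cancel₀ hδne]
  · intro x y
    rw [← Matrix.mulVec_mulVec, ← Matrix.mulVec_mulVec, hHpres, hGpres]
  · rw [Matrix.mul_assoc, hGA, ← Matrix.mul_assoc, hHA', Matrix.mul_assoc]

end

/-- Conjugacy of involutions in the special unitary group SU_n(q), q even, n ≥ 3, realised over the field F with q² elements as the matrices of determinant 1 preserving the form Σ u_i v_i^q: for two elements of order 2 of SU_n(q) the following are equivalent — they are conjugate in SU_n(q); they are conjugate in SL_n(F); the matrices a − 1 and b − 1 have the same rank. -/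
theorem result {F : Type*} [Field F] [Fintype F] [CharP F 2] {n q : ℕ} (hF : Fintype.card F = q ^ 2) (hn : 3 ≤ n) (a b : ↥(Cfsg.SU n F q)) (ha : orderOf a = 2) (hb : orderOf b = 2) :
    (IsConj a b ↔ IsConj (a : Matrix.SpecialLinearGroup (Fin n) F) (b : Matrix.SpecialLinearGroup (Fin n) F)) ∧
    (IsConj a b ↔ (((a : Matrix.SpecialLinearGroup (Fin n) F) : Matrix (Fin n) (Fin n) F) - 1).rank = (((b : Matrix.SpecialLinearGroup (Fin n) F) : Matrix (Fin n) (Fin n) F) - 1).rank) := by
  classical
  set A : Matrix (Fin n) (Fin n) F :=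
    ((a : Matrix.SpecialLinearGroup (Fin n) F) : Matrix (Fin n) (Fin n) F) with hAdef
  set A' : Matrix (Fin n) (Fin n) F :=
    ((b : Matrix.SpecialLinearGroup (Fin n) F) : Matrix (Fin n) (Fin n) F) with hA'def
  have hsq : ∀ (c : ↥(Cfsg.SU n F q)), orderOf c = 2 →
      ((c : Matrix.SpecialLinearGroup (Fin n) F) : Matrix (Fin n) (Fin n) F) *
        ((c : Matrix.SpecialLinearGroup (Fin n) F) : Matrix (Fin n) (Fin n) F) = 1 := by
    intro c hc
    have h1 : c ^ 2 = 1 := by rw [← hc]; exact pow_orderOf_eq_one c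
    have h2 := congrArg (fun x : ↥(Cfsg.SU n F q) =>
      ((x : Matrix.SpecialLinearGroup (Fin n) F) : Matrix (Fin n) (Fin n) F)) h1
    simpa [pow_two] using h2
  have hA2 : A * A = 1 := hsq a ha
  have hA2' : A' * A' = 1 := hsq b hb
  have hpres : ∀ x y, hermForm n F q (A *ᵥ x) (A *ᵥ y) = hermForm n F q x y :=
    (mem_SU_iff (a : Matrix.SpecialLinearGroup (Fin n) F)).mp a.2
  have hpres' : ∀ x y, hermForm n F q (A' *ᵥ x) (A' *ᵥ y) = hermForm n F q x y :=
    (mem_SU_iff (b : Matrix.SpecialLinearGroup (Fin n) F)).mp b.2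
  have hne' : A' ≠ 1 := by
    intro h1
    have hb1 : b = 1 := by
      apply Subtype.ext
      apply Subtype.ext
      exact h1
    rw [hb1, orderOf_one] at hb
    omega
  -- conjugacy in SL gives equal ranks
  have hSLrank : IsConj (a : Matrix.SpecialLinearGroup (Fin n) F)
      (b : Matrix.SpecialLinearGroup (Fin n) F) → (A - 1).rank = (A' - 1).rank := by
    intro hconj
    obtain ⟨c, hc⟩ := isConj_iff.mp hconj
    have hc' : c * (a : Matrix.SpecialLinearGroup (Fin n) F) =
        (b : Matrix.SpecialLinearGroup (Fin n) F) * c := by rw [← hc]; group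
    have hCA : (c : Matrix (Fin n) (Fin n) F) * A = A' * (c : Matrix (Fin n) (Fin n) F) := by
      have := congrArg (fun x : Matrix.SpecialLinearGroup (Fin n) F =>
        (x : Matrix (Fin n) (Fin n) F)) hc'
      simpa using this
    exact rank_eq_of_conj A A' (c : Matrix (Fin n) (Fin n) F)
      (by rw [c.2]; exact isUnit_one) hCA
  -- equal ranks give conjugacy in SU
  have hrankSU : (A - 1).rank = (A' - 1).rank → IsConj a b := by
    intro hrank
    obtain ⟨G, hGdet, hGpres, hGA⟩ := core hF A A' hA2 hA2' hpres hpres' hne' hrank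
    rw [isConj_iff]
    refine ⟨⟨⟨G, hGdet⟩, hGpres⟩, ?_⟩
    rw [mul_inv_eq_iff_eq_mul]
    apply Subtype.ext
    apply Subtype.ext
    change (G * A : Matrix (Fin n) (Fin n) F) = A' * G
    exact hGA
  have hSUSL : IsConj a b → IsConj (a : Matrix.SpecialLinearGroup (Fin n) F)
      (b : Matrix.SpecialLinearGroup (Fin n) F) := by
    intro h
    exact (Cfsg.SU n F q).subtype.map_isConj h
  exact ⟨⟨hSUSL, fun h => hrankSU (hSLrank h)⟩, ⟨fun h => hSLrank (hSUSL h), hrankSU⟩⟩

end Cfsg.Agent.S2164
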