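import Cfsg.Statements.S2165
import Cfsg.Agent.S2163

set_option autoImplicit false
open Cfsg

namespace Cfsg.Agent.S2165

open Cfsg.Agent.S2163

/-- the involution of `Fin n` exchanging `i` and `i + (n - ℓ)` for `i < ℓ` -/
def swapFun (n ℓ : ℕ) (h2 : 2 * ℓ ≤ n) (i : Fin n) : Fin n :=
  if h : i.val < ℓ then ⟨i.val + (n - ℓ), by omega⟩
  else if h' : n - ℓ ≤ i.val then ⟨i.val - (n - ℓ), by have := i.2; omega⟩
  else i

theorem swapFun_val (n ℓ : ℕ) (h2 : 2 * ℓ ≤ n) (i : Fin n) :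
    (swapFun n ℓ h2 i).val = if i.val < ℓ then i.val + (n - ℓ) else if n - ℓ ≤ i.val then i.val - (n - ℓ) else i.val := by
  unfold swapFun
  split_ifs <;> rfl

theorem swapFun_invol (n ℓ : ℕ) (h2 : 2 * ℓ ≤ n) : Function.Involutive (swapFun n ℓ h2) := by
  intro i
  apply Fin.ext
  rw [swapFun_val, swapFun_val]
  have := i.2
  split_ifs <;> omega

/-- the permutation -/
def swapPerm (n ℓ : ℕ) (h2 : 2 * ℓ ≤ n) : Equiv.Perm (Fin n) := (swapFun_invol n ℓ h2).toPerm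

variable (F : Type*) [Field F]

/-- the matrix of the statement -/
def swapM (n ℓ : ℕ) : Matrix (Fin n) (Fin n) F :=
  Matrix.of (fun i j : Fin n => if (j.val < ℓ ∧ i.val = j.val + (n - ℓ)) ∨ (i.val < ℓ ∧ j.val = i.val + (n - ℓ)) ∨ (i = j ∧ ℓ ≤ i.val ∧ i.val < n - ℓ) then (1 : F) else 0)

theorem swapM_apply (n ℓ : ℕ) (i j : Fin n) :
    swapM F n ℓ i j = if (j.val < ℓ ∧ i.val = j.val + (n - ℓ)) ∨ (i.val < ℓ ∧ j.val = i.val + (n - ℓ)) ∨ (i = j ∧ ℓ ≤ i.val ∧ i.val < n - ℓ) then (1 : F) else 0 := rfl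

theorem swapM_eq_perm (n ℓ : ℕ) (h2 : 2 * ℓ ≤ n) :
    swapM F n ℓ = (swapPerm n ℓ h2).permMatrix F := by
  ext i j
  show swapM F n ℓ i j = (swapPerm n ℓ h2).toPEquiv.toMatrix i j
  rw [swapM_apply, PEquiv.toMatrix_apply, Equiv.toPEquiv_apply]
  have hmem : (j ∈ (some ((swapPerm n ℓ h2) i) : Option (Fin n))) ↔ (swapFun n ℓ h2 i).val = j.val := by
    rw [Option.mem_def, Option.some_inj]
    show swapFun n ℓ h2 i = j ↔ _
    exact Fin.ext_iff
  have hiff : ((j.val < ℓ ∧ i.val = j.val + (n - ℓ)) ∨ (i.val < ℓ ∧ j.val = i.val + (n - ℓ)) ∨ (i = j ∧ ℓ ≤ i.val ∧ i.val < n - ℓ)) ↔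
      (swapFun n ℓ h2 i).val = j.val := by
    rw [swapFun_val, Fin.ext_iff]
    have := i.2
    have := j.2
    split_ifs <;> omega
  by_cases hc : (swapFun n ℓ h2 i).val = j.val
  · rw [if_pos (hiff.mpr hc), if_pos (hmem.mpr hc)]
  · rw [if_neg (fun h => hc (hiff.mp h)), if_neg (fun h => hc (hmem.mp h))]

/-- diagonal pieces -/
def dLow (n ℓ : ℕ) : Matrix (Fin n) (Fin n) F :=
  Matrix.of (fun i j : Fin n => if i = j ∧ i.val < ℓ then (1 : F) else 0)

def dHigh (n ℓ : ℕ) : Matrix (Fin n) (Fin n) F :=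
  Matrix.of (fun i j : Fin n => if i = j ∧ n - ℓ ≤ i.val then (1 : F) else 0)

theorem dLow_eq (n ℓ : ℕ) : dLow F n ℓ = (cornerV F n ℓ).transpose * cornerV F n ℓ := by
  ext i j
  rw [Matrix.mul_apply]
  simp only [Matrix.transpose_apply, cornerV_apply]
  show (if i = j ∧ i.val < ℓ then (1 : F) else 0) = _
  by_cases hi : i.val < ℓ
  · rw [Finset.sum_eq_single (⟨i.val, hi⟩ : Fin ℓ)]
    · by_cases hij : i = j
      · subst hij; simp [hi]
      · have : ¬ j.val = i.val := fun h => hij (Fin.ext h.symm)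
        simp [hij, this]
    · intro k _ hk
      have : ¬ i.val = k.val := fun h => hk (Fin.ext h.symm)
      simp [this]
    · intro h; exact absurd (Finset.mem_univ _) h
  · have : ∀ k : Fin ℓ, ¬ i.val = k.val := fun k h => hi (h ▸ k.2)
    simp [hi, this]

theorem dHigh_eq (n ℓ : ℕ) (h2 : ℓ ≤ n) : dHigh F n ℓ = cornerU F n ℓ * (cornerU F n ℓ).transpose := by
  ext i j
  rw [Matrix.mul_apply]
  simp only [Matrix.transpose_apply, cornerU_apply]
  show (if i = j ∧ n - ℓ ≤ i.val then (1 : F) else 0) = _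
  by_cases hi : n - ℓ ≤ i.val
  · have hk : i.val - (n - ℓ) < ℓ := by have := i.2; omega
    rw [Finset.sum_eq_single (⟨i.val - (n - ℓ), hk⟩ : Fin ℓ)]
    · have h1 : i.val = i.val - (n - ℓ) + (n - ℓ) := by omega
      by_cases hij : i = j
      · subst hij
        simp only [true_and, if_pos hi]
        rw [if_pos h1]; simp
      · have : ¬ j.val = i.val - (n - ℓ) + (n - ℓ) := fun h => hij (Fin.ext (by omega))
        simp [hij, this]
    · intro k _ hk'
      have : ¬ i.val = k.val + (n - ℓ) := fun h => hk' (Fin.ext (by simp only; omega))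
      simp [this]
    · intro h; exact absurd (Finset.mem_univ _) h
  · have : ∀ k : Fin ℓ, ¬ i.val = k.val + (n - ℓ) := fun k h => hi (by omega)
    simp [hi, this]

theorem cornerV_mul_cornerU (n ℓ : ℕ) (h2 : 2 * ℓ ≤ n) (h1 : 1 ≤ ℓ) : cornerV F n ℓ * cornerU F n ℓ = 0 := by
  ext k k'
  rw [Matrix.mul_apply, Matrix.zero_apply]
  apply Finset.sum_eq_zero
  intro i _
  rw [cornerV_apply, cornerU_apply]
  by_cases h : i.val = k.val
  · have : ¬ i.val = k'.val + (n - ℓ) := by have := k.2; omega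
    simp [this]
  · simp [h]

theorem swapM_decomp (n ℓ : ℕ) (h2 : 2 * ℓ ≤ n) :
    swapM F n ℓ = 1 + cornerE F n ℓ + (cornerE F n ℓ).transpose - dLow F n ℓ - dHigh F n ℓ := by
  ext i j
  simp only [Matrix.sub_apply, Matrix.add_apply, Matrix.transpose_apply, swapM_apply, cornerE_apply,
    Matrix.one_apply]
  show _ = _ + _ + _ - (if i = j ∧ i.val < ℓ then (1 : F) else 0) - (if i = j ∧ n - ℓ ≤ i.val then (1 : F) else 0)
  have := i.2
  have := j.2
  simp only [Fin.ext_iff]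
  split_ifs <;> first | (exfalso; omega) | simp

theorem swapM_sub_one (n ℓ : ℕ) (h2 : 2 * ℓ ≤ n) :
    swapM F n ℓ - 1 = (cornerU F n ℓ - (cornerV F n ℓ).transpose) * (cornerV F n ℓ - (cornerU F n ℓ).transpose) := by
  rw [swapM_decomp F n ℓ h2, cornerE_eq, dLow_eq F n ℓ, dHigh_eq F n ℓ (by omega),
    Matrix.transpose_mul, Matrix.sub_mul, Matrix.mul_sub, Matrix.mul_sub]
  abel

theorem rank_swapM_sub_one (n ℓ : ℕ) (h1 : 1 ≤ ℓ) (h2 : 2 * ℓ ≤ n) : (swapM F n ℓ - 1).rank = ℓ := by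
  apply le_antisymm
  · rw [swapM_sub_one F n ℓ h2]
    calc ((cornerU F n ℓ - (cornerV F n ℓ).transpose) * (cornerV F n ℓ - (cornerU F n ℓ).transpose)).rank
        ≤ (cornerU F n ℓ - (cornerV F n ℓ).transpose).rank := Matrix.rank_mul_le_left _ _
      _ ≤ Fintype.card (Fin ℓ) := Matrix.rank_le_card_width _
      _ = ℓ := Fintype.card_fin ℓ
  · have hVU := cornerV_mul_cornerU F n ℓ h2 h1
    have hVV := cornerV_mul_transpose F n ℓ (by omega : ℓ ≤ n)
    have hUV : (cornerU F n ℓ).transpose * (cornerV F n ℓ).transpose = 0 := by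
      rw [← Matrix.transpose_mul, hVU, Matrix.transpose_zero]
    have e1 : cornerV F n ℓ * (cornerU F n ℓ - (cornerV F n ℓ).transpose) = -1 := by
      rw [Matrix.mul_sub, hVU, hVV, zero_sub]
    have e2 : (cornerV F n ℓ - (cornerU F n ℓ).transpose) * (cornerV F n ℓ).transpose = 1 := by
      rw [Matrix.sub_mul, hVV, hUV, sub_zero]
    have h3 : cornerV F n ℓ * (swapM F n ℓ - 1) * (cornerV F n ℓ).transpose = -1 := by
      rw [swapM_sub_one F n ℓ h2, ← Matrix.mul_assoc, e1, Matrix.mul_assoc, e2, Matrix.mul_one]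
    have h4 : ((-1 : Matrix (Fin ℓ) (Fin ℓ) F)).rank = ℓ := by
      have hu : IsUnit (-1 : Matrix (Fin ℓ) (Fin ℓ) F) := (isUnit_one (M := Matrix (Fin ℓ) (Fin ℓ) F)).neg
      rw [Matrix.rank_of_isUnit _ hu, Fintype.card_fin]
    calc ℓ = (cornerV F n ℓ * (swapM F n ℓ - 1) * (cornerV F n ℓ).transpose).rank := by rw [h3, h4]
      _ ≤ (cornerV F n ℓ * (swapM F n ℓ - 1)).rank := Matrix.rank_mul_le_left _ _
      _ ≤ (swapM F n ℓ - 1).rank := Matrix.rank_mul_le_right _ _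

theorem swapPerm_sq (n ℓ : ℕ) (h2 : 2 * ℓ ≤ n) : swapPerm n ℓ h2 * swapPerm n ℓ h2 = 1 := by
  ext i
  show ((swapFun n ℓ h2 (swapFun n ℓ h2 i)) : Fin n).val = i.val
  rw [swapFun_invol n ℓ h2 i]

theorem swapM_mulVec (n ℓ : ℕ) (h2 : 2 * ℓ ≤ n) (u : Fin n → F) :
    Matrix.mulVec (swapM F n ℓ) u = u ∘ (swapPerm n ℓ h2) := by
  rw [swapM_eq_perm F n ℓ h2]
  exact Matrix.permMatrix_mulVec _

/-- In SU_n(q), q even, n ≥ 3 (matrices of determinant 1 over the field with q² elements preserving Σ u_i v_i^q): for every ℓ with 1 ≤ ℓ and 2ℓ ≤ n, the permutation matrix of the involution of {0, …, n−1} exchanging i and n − ℓ + i for each i < ℓ lies in SU_n(q), has order 2, and differs from the identity by a matrix of rank ℓ. So every rank between 1 and n/2 occurs for involutions of SU_n(q). -/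
theorem result {F : Type*} [Field F] [Fintype F] [CharP F 2] {n q : ℕ} (hF : Fintype.card F = q ^ 2) (hn : 3 ≤ n) (ℓ : ℕ) (h1 : 1 ≤ ℓ) (h2 : 2 * ℓ ≤ n) :
    ∃ a : ↥(Cfsg.SU n F q), (((a : Matrix.SpecialLinearGroup (Fin n) F) : Matrix (Fin n) (Fin n) F) = Matrix.of (fun i j : Fin n => if (j.val < ℓ ∧ i.val = j.val + (n - ℓ)) ∨ (i.val < ℓ ∧ j.val = i.val + (n - ℓ)) ∨ (i = j ∧ ℓ ≤ i.val ∧ i.val < n - ℓ) then (1 : F) else 0)) ∧ orderOf a = 2 ∧ ((((a : Matrix.SpecialLinearGroup (Fin n) F) : Matrix (Fin n) (Fin n) F)) - 1).rank = ℓ := by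
  have hdet : (swapM F n ℓ).det = 1 := by
    rw [swapM_eq_perm F n ℓ h2, Matrix.det_permutation]
    rcases Int.units_eq_one_or (Equiv.Perm.sign (swapPerm n ℓ h2)) with h | h
    · rw [h]; simp
    · rw [h]
      simp only [Units.val_neg, Units.val_one, Int.cast_neg, Int.cast_one]
      exact CharTwo.neg_eq 1
  set sl : Matrix.SpecialLinearGroup (Fin n) F := ⟨swapM F n ℓ, hdet⟩ with hsl
  have hmem : sl ∈ Cfsg.SU n F q := by
    intro u v
    have hmat : (Cfsg.slToMat n F) sl = swapM F n ℓ := rfl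
    rw [hmat, swapM_mulVec F n ℓ h2, swapM_mulVec F n ℓ h2]
    unfold Cfsg.hermForm
    exact Equiv.sum_comp (swapPerm n ℓ h2) (fun i => u i * v i ^ q)
  have hsq : swapM F n ℓ * swapM F n ℓ = 1 := by
    rw [swapM_eq_perm F n ℓ h2, ← Matrix.permMatrix_mul, swapPerm_sq, Matrix.permMatrix_one]
  refine ⟨⟨sl, hmem⟩, rfl, ?_, ?_⟩
  · apply orderOf_eq_prime
    · apply Subtype.ext
      apply Subtype.ext
      show (swapM F n ℓ) ^ 2 = 1
      rw [pow_two, hsq]
    · intro h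
      have h3 : swapM F n ℓ = 1 := congrArg (fun a : ↥(Cfsg.SU n F q) =>
        ((a : Matrix.SpecialLinearGroup (Fin n) F) : Matrix (Fin n) (Fin n) F)) h
      have hi : 0 < n := by omega
      have hj : n - ℓ < n := by omega
      have hne : (⟨0, hi⟩ : Fin n) ≠ ⟨n - ℓ, hj⟩ := by
        intro h5
        have := congrArg Fin.val h5
        simp only at this
        omega
      have h4 := congrFun (congrFun h3 ⟨0, hi⟩) ⟨n - ℓ, hj⟩
      rw [Matrix.one_apply_ne hne, swapM_apply] at h4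
      have : ((⟨n - ℓ, hj⟩ : Fin n).val < ℓ ∧ (⟨0, hi⟩ : Fin n).val = (⟨n - ℓ, hj⟩ : Fin n).val + (n - ℓ)) ∨
          ((⟨0, hi⟩ : Fin n).val < ℓ ∧ (⟨n - ℓ, hj⟩ : Fin n).val = (⟨0, hi⟩ : Fin n).val + (n - ℓ)) ∨
          ((⟨0, hi⟩ : Fin n) = ⟨n - ℓ, hj⟩ ∧ ℓ ≤ (⟨0, hi⟩ : Fin n).val ∧ (⟨0, hi⟩ : Fin n).val < n - ℓ) :=
        Or.inr (Or.inl ⟨by simp only; omega, by simp only; omega⟩)
      rw [if_pos this] at h4
      exact one_ne_zero h4
  · exact rank_swapM_sub_one F n ℓ h1 h2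

end Cfsg.Agent.S2165
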