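import Mathlib
import Cfsg.Statements.S2177
import Cfsg.Agent.Lib.Helper8.ChevGi7
import Cfsg.Agent.S2326

set_option autoImplicit false
open Cfsg

namespace Cfsg.Agent.S2177

open Cfsg.Agent.Lib.Helper8.Chev Cfsg.Lie Matrix

theorem eq_X2 {F : Type*} [Field F] {k : ℕ} (hk : k < 12) {y : GL chevG2.Idx F}
    (hy : (y : Matrix chevG2.Idx chevG2.Idx F) = chevG2.x F k 1) : y = X2 F k 1 := by
  apply Units.ext
  rw [hy, coe_X2 hk]

theorem mem_list {F : Type*} [Field F] {y : GL chevG2.Idx F}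
    (hy : (y : Matrix chevG2.Idx chevG2.Idx F) ∈ [chevG2.x F 11 1, chevG2.x F 9 1]) :
    y = X2 F 11 1 ∨ y = X2 F 9 1 := by
  simp only [List.mem_cons, List.not_mem_nil, or_false] at hy
  rcases hy with h | h
  · exact Or.inl (eq_X2 (by decide) h)
  · exact Or.inr (eq_X2 (by decide) h)

theorem X2_order {F : Type*} [Field F] [CharP F 2] {k : ℕ} (hk : k < 12) :
    orderOf (X2 F k 1) = 2 := by
  apply orderOf_eq_prime
  · rw [pow_two, X2_add hk, c2_add_self, X2_zero hk]
  · exact X2_ne_one hk one_ne_zero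

/-- every involution is conjugate into `U` -/
theorem conj_into_U {F : Type*} [Field F] [Fintype F] [CharP F 2] {g : GL chevG2.Idx F}
    (hg : g ∈ chevG2.group F) (h2 : orderOf g = 2) :
    ∃ k ∈ chevG2.group F, k * g * k⁻¹ ∈ chevG2.posUnipotent F := by
  have : Fact (Nat.Prime 2) := ⟨Nat.prime_two⟩
  obtain ⟨P, hP⟩ := Cfsg.Agent.S2326.result (F := F) 2 chevG2 hG2'
  set g' : ↥(chevG2.group F) := ⟨g, hg⟩ with hg'
  have hord : orderOf g' = 2 := by
    rw [← h2]
    exact Subgroup.orderOf_mk g hg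
  have hpg : IsPGroup 2 (Subgroup.zpowers g') := by
    apply IsPGroup.of_card (n := 1)
    rw [Nat.card_zpowers, hord, pow_one]
  obtain ⟨Q, hQ⟩ := hpg.exists_le_sylow
  obtain ⟨k, hk⟩ := MulAction.exists_smul_eq ↥(chevG2.group F) Q P
  have hgQ : g' ∈ Q := hQ (Subgroup.mem_zpowers g')
  have hmem : k * g' * k⁻¹ ∈ (P : Subgroup ↥(chevG2.group F)) := by
    rw [← hk, Sylow.coe_subgroup_smul, Subgroup.mem_pointwise_smul_iff_inv_smul_mem,
      MulAut.smul_def, MulAut.conj_inv_apply]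
    have : k⁻¹ * (k * g' * k⁻¹) * k = g' := by group
    rw [this]
    exact hgQ
  rw [hP, Subgroup.mem_subgroupOf] at hmem
  refine ⟨k, k.2, ?_⟩
  simpa using hmem

/-- Conjugacy classes of involutions in the Chevalley group of type G₂ over a finite field F of characteristic two with at least four elements (the matrix group generated by the root elements x_r(t)). In this problem's root numbering for type G₂ (the Chevalley data module; p₁ = a short, p₂ = b long; roots indexed by coefficient vectors in increasing order) let 11 be the highest root 3a + 2b (long) and 9 the short root 2a + b; consider x_{3a+2b}(1) and x_{2a+b}(1). Then: each invertible matrix equal to one of these two products lies in the group and has order 2; every element of order 2 of the group is conjugate in the group to one of them; and no two of them are conjugate in the group (so, the two matrices being distinct, the group has exactly two conjugacy classes of involutions).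 -/
theorem result {F : Type*} [Field F] [Fintype F] [CharP F 2] (hF : 4 ≤ Fintype.card F) :
    (∀ y : GL Cfsg.Lie.chevG2.Idx F, ((y : GL Cfsg.Lie.chevG2.Idx F) : Matrix Cfsg.Lie.chevG2.Idx Cfsg.Lie.chevG2.Idx F) ∈ [Cfsg.Lie.chevG2.x F 11 1, Cfsg.Lie.chevG2.x F 9 1] → y ∈ Cfsg.Lie.chevG2.group F ∧ orderOf y = 2) ∧
    (∀ g ∈ Cfsg.Lie.chevG2.group F, orderOf g = 2 → ∃ y ∈ Cfsg.Lie.chevG2.group F, ((y : GL Cfsg.Lie.chevG2.Idx F) : Matrix Cfsg.Lie.chevG2.Idx Cfsg.Lie.chevG2.Idx F) ∈ [Cfsg.Lie.chevG2.x F 11 1, Cfsg.Lie.chevG2.x F 9 1] ∧ ∃ h ∈ Cfsg.Lie.chevG2.group F, h * g * h⁻¹ = y) ∧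
    (∀ y₁ ∈ Cfsg.Lie.chevG2.group F, ∀ y₂ ∈ Cfsg.Lie.chevG2.group F, ((y₁ : GL Cfsg.Lie.chevG2.Idx F) : Matrix Cfsg.Lie.chevG2.Idx Cfsg.Lie.chevG2.Idx F) ∈ [Cfsg.Lie.chevG2.x F 11 1, Cfsg.Lie.chevG2.x F 9 1] → ((y₂ : GL Cfsg.Lie.chevG2.Idx F) : Matrix Cfsg.Lie.chevG2.Idx Cfsg.Lie.chevG2.Idx F) ∈ [Cfsg.Lie.chevG2.x F 11 1, Cfsg.Lie.chevG2.x F 9 1] →
      (∃ h ∈ Cfsg.Lie.chevG2.group F, h * y₁ * h⁻¹ = y₂) → ((y₁ : GL Cfsg.Lie.chevG2.Idx F) : Matrix Cfsg.Lie.chevG2.Idx Cfsg.Lie.chevG2.Idx F) = ((y₂ : GL Cfsg.Lie.chevG2.Idx F) : Matrix Cfsg.Lie.chevG2.Idx Cfsg.Lie.chevG2.Idx F)) := by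
  have hsqrt : ∀ x : F, ∃ y : F, y ^ 2 = x := by
    intro x
    obtain ⟨r, hr⟩ := FiniteField.isSquare_of_char_two (ringChar.eq F 2) x
    exact ⟨r, by rw [hr, pow_two]⟩
  refine ⟨?_, ?_, ?_⟩
  · intro y hy
    rcases mem_list hy with rfl | rfl
    · exact ⟨X2_mem_group (by decide) 1, X2_order (by decide)⟩
    · exact ⟨X2_mem_group (by decide) 1, X2_order (by decide)⟩
  · intro g hg h2
    obtain ⟨k, hk, hU⟩ := conj_into_U hg h2
    obtain ⟨a, b, c, d, e, f, hcw⟩ := cw_of_mem_pos hU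
    have h01 : CJ2 F g (cw a b c d e f) := ⟨k, hk, hcw⟩
    have hg1 : g ≠ 1 := by
      intro h
      rw [h, orderOf_one] at h2
      omega
    have hgsq : g * g = 1 := by
      rw [← pow_two, ← h2, pow_orderOf_eq_one]
    rcases inv_class hsqrt (h01.ne_one hg1) (h01.sq hgsq) with h | h
    · obtain ⟨m, hm, e⟩ := h01.trans h
      exact ⟨X2 F 11 1, X2_mem_group (by decide) 1, by
        rw [coe_X2 (by decide)]; simp, m, hm, e⟩
    · obtain ⟨m, hm, e⟩ := h01.trans h
      exact ⟨X2 F 9 1, X2_mem_group (by decide) 1, by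
        rw [coe_X2 (by decide)]; simp, m, hm, e⟩
  · intro y₁ _ y₂ _ h1 h2 hc
    rcases mem_list h1 with rfl | rfl <;> rcases mem_list h2 with rfl | rfl
    · rfl
    · exact absurd hc long_not_conj_short
    · exfalso
      obtain ⟨h, hh, e⟩ := hc
      apply long_not_conj_short (F := F)
      refine ⟨h⁻¹, inv_mem hh, ?_⟩
      rw [← e]
      group
    · rfl

end Cfsg.Agent.S2177
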