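import Mathlib
import Cfsg.Statements.S2178
import Cfsg.Agent.Lib.Helper8.ChevCz2

set_option autoImplicit false
open Cfsg

namespace Cfsg.Agent.S2178

open Cfsg.Agent.Lib.Helper8.Chev Cfsg.Lie Matrix

theorem hF4 : chevF4 ∈ [chevG2, chevB2, chevD4, chevF4, chevE6, chevE7, chevE8] := by simp

theorem closure_listGens3 {F : Type*} [Field F] (a b c : ℕ) :
    Subgroup.closure (listGens chevF4 F [a, b, c]) =
      chevF4.rootSubgroup F a ⊔ chevF4.rootSubgroup F b ⊔ chevF4.rootSubgroup F c := by
  have : listGens chevF4 F [a, b, c] =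
      {g : GL chevF4.Idx F | ∃ t : F, (g : Matrix chevF4.Idx chevF4.Idx F) = chevF4.x F a t} ∪
      {g : GL chevF4.Idx F | ∃ t : F, (g : Matrix chevF4.Idx chevF4.Idx F) = chevF4.x F b t} ∪
      {g : GL chevF4.Idx F | ∃ t : F, (g : Matrix chevF4.Idx chevF4.Idx F) = chevF4.x F c t} := by
    ext g
    simp only [listGens, Set.mem_ofPred_eq, List.mem_cons, List.not_mem_nil, or_false,
      Set.mem_union]
    constructor
    · rintro ⟨s, hs, t, hg⟩
      rcases hs with rfl | rfl | rfl
      · exact Or.inl (Or.inl ⟨t, hg⟩)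
      · exact Or.inl (Or.inr ⟨t, hg⟩)
      · exact Or.inr ⟨t, hg⟩
    · rintro ((⟨t, hg⟩ | ⟨t, hg⟩) | ⟨t, hg⟩)
      · exact ⟨a, Or.inl rfl, t, hg⟩
      · exact ⟨b, Or.inr (Or.inl rfl), t, hg⟩
      · exact ⟨c, Or.inr (Or.inr rfl), t, hg⟩
  rw [this, Subgroup.closure_union, Subgroup.closure_union]
  rfl

set_option maxRecDepth 100000 in
theorem d47_JL : ∀ j < chevF4.rank, j = 3 ∨ chevF4.neg (chevF4.simple j) ∈ [14, 20, 22] := by
  decide +kernel

set_option maxRecDepth 100000 in
theorem d47_refl : chevF4.reflectRoot 3 47 ≠ 47 := by decide +kernel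

set_option maxRecDepth 100000 in
theorem d47_aco : acoF chevF4 (chevF4.simple 3) 47 = 1 := by decide +kernel

set_option maxRecDepth 100000 in
theorem d47_nil : ∀ s ∈ [14, 20, 22], chevF4.commTerms 47 s = [] := by decide +kernel

set_option maxRecDepth 100000 in
theorem d44_JL : ∀ j < chevF4.rank, j = 0 ∨ chevF4.neg (chevF4.simple j) ∈ [20, 22, 23] := by
  decide +kernel

set_option maxRecDepth 100000 in
theorem d44_refl : chevF4.reflectRoot 0 44 ≠ 44 := by decide +kernel

set_option maxRecDepth 100000 in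
theorem d44_aco : acoF chevF4 (chevF4.simple 0) 44 = 1 := by decide +kernel

def check44 : Bool := (List.range 48).all fun s =>
  s == 44 || s == 3 || !(decide (24 ≤ s) || decide (s ∈ [20, 22, 23])) ||
    (chevF4.commTerms 44 s).all fun c => c.2.1 % 2 == 0

set_option maxRecDepth 100000 in
theorem check44_ok : check44 = true := by decide +kernel

theorem d44_even : ∀ s < 48, s ≠ 44 → s ≠ 3 → (24 ≤ s ∨ s ∈ [20, 22, 23]) →
    ∀ c ∈ chevF4.commTerms 44 s, c.2.1 % 2 = 0 := by
  intro s hs h1 h2 h3 c hc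
  have h := (List.all_eq_true.mp check44_ok) s (List.mem_range.mpr hs)
  simp only [Bool.or_eq_true, beq_iff_eq, Bool.not_eq_true', Bool.or_eq_false_iff,
    decide_eq_false_iff_not, List.all_eq_true] at h
  rcases h with ((h | h) | h) | h
  · exact absurd h h1
  · exact absurd h h2
  · rcases h3 with h3 | h3
    · exact absurd h3 h.1
    · exact absurd h3 h.2
  · exact h c hc

theorem neg44 : chevF4.neg 44 = 3 := by decide +kernel
theorem neg47 : chevF4.neg 47 = 0 := by decide +kernel

theorem cen47 {F : Type*} [Field F] : CenU chevF4 F 47 :=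
  fun _ hs t u => hi_commute hF4 hs t u

theorem cen44 {F : Type*} [Field F] [CharP F 2] : CenU chevF4 F 44 := by
  intro s hs t u
  have V := valid0_of_mem hF4
  have V1 := valid1_of_mem hF4
  have P := posP_of_mem hF4
  have hpos : 24 ≤ s := (P s hs.1).1.mp hs
  have hs48 : s < 48 := hs.1
  by_cases hne : s = 44
  · subst hne
    rw [x_eq_xN, x_eq_xN, xN_mul_xN F V V1 (by decide), xN_mul_xN F V V1 (by decide), add_comm]
  · have h3 : s ≠ 3 := by omega
    exact x_commute_of_even hF4 (by decide) hs.1 hne (by rw [neg44]; exact h3)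
      (fun c hc => Int.dvd_of_emod_eq_zero (d44_even s hs48 hne h3 (Or.inl hpos) c hc)) t u

/-- Centralizers of the long and the short root involutions in `F₄(2ⁿ)`. -/
theorem result {F : Type*} [Field F] [Fintype F] [CharP F 2] (t u : GL Cfsg.Lie.chevF4.Idx F) (ht : (t : Matrix Cfsg.Lie.chevF4.Idx Cfsg.Lie.chevF4.Idx F) = Cfsg.Lie.chevF4.x F 47 1) (hu : (u : Matrix Cfsg.Lie.chevF4.Idx Cfsg.Lie.chevF4.Idx F) = Cfsg.Lie.chevF4.x F 44 1) :
    Cfsg.Lie.chevF4.group F ⊓ Subgroup.centralizer {t} = Cfsg.Lie.chevF4.posUnipotent F ⊔ Cfsg.Lie.chevF4.rootSubgroup F 14 ⊔ Cfsg.Lie.chevF4.rootSubgroup F 20 ⊔ Cfsg.Lie.chevF4.rootSubgroup F 22 ∧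
    Cfsg.Lie.chevF4.group F ⊓ Subgroup.centralizer {u} = Cfsg.Lie.chevF4.posUnipotent F ⊔ Cfsg.Lie.chevF4.rootSubgroup F 20 ⊔ Cfsg.Lie.chevF4.rootSubgroup F 22 ⊔ Cfsg.Lie.chevF4.rootSubgroup F 23 := by
  constructor
  · have key := centralizer_root_eq (F := F) hF4 (r := 47) (by decide) cen47 (i0 := 3) (by decide)
      (L := [14, 20, 22]) d47_JL d47_refl d47_aco
      (by
        intro s hs
        have hnil := d47_nil s hs
        simp only [List.mem_cons, List.not_mem_nil, or_false] at hs
        have hs48 : s < chevF4.nroots := by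
          rcases hs with rfl | rfl | rfl <;> decide
        have h1 : s ≠ 47 := by rcases hs with rfl | rfl | rfl <;> decide
        have h2 : s ≠ chevF4.neg 47 := by
          rw [neg47]; rcases hs with rfl | rfl | rfl <;> decide
        exact ⟨hs48, fun t u => x_commute_of_nil hF4 (by decide) hs48 h1 h2 hnil t u⟩) ht
    rw [key, closure_listGens3, ← sup_assoc, ← sup_assoc]
  · have key := centralizer_root_eq (F := F) hF4 (r := 44) (by decide) cen44 (i0 := 0) (by decide)
      (L := [20, 22, 23]) d44_JL d44_refl d44_aco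
      (by
        intro s hs
        have hs' := hs
        simp only [List.mem_cons, List.not_mem_nil, or_false] at hs
        have hs48 : s < 48 := by
          rcases hs with rfl | rfl | rfl <;> decide
        have h1 : s ≠ 44 := by rcases hs with rfl | rfl | rfl <;> decide
        have h2 : s ≠ 3 := by rcases hs with rfl | rfl | rfl <;> decide
        exact ⟨hs48, fun t u => x_commute_of_even hF4 (by decide) hs48 h1 (by rw [neg44]; exact h2)
          (fun c hc => Int.dvd_of_emod_eq_zero (d44_even s hs48 h1 h2 (Or.inr hs') c hc)) t u⟩) hu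
    rw [key, closure_listGens3, ← sup_assoc, ← sup_assoc]

end Cfsg.Agent.S2178
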