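import Mathlib
import Cfsg.Statements.S2179
import Cfsg.Agent.Lib.Helper8.ChevCz7

set_option autoImplicit false
open Cfsg

namespace Cfsg.Agent.S2179

open Cfsg.Agent.Lib.Helper8.Chev Cfsg.Lie Matrix

theorem hF4 : chevF4 ∈ [chevG2, chevB2, chevD4, chevF4, chevE6, chevE7, chevE8] := by simp

/-! ### Decidable data -/

/-- every commutator term of a positive root `q > k` with a root of `Rl` is even or lies over `Rl`
outside `S` -/
def stabB (Rl S : List ℕ) (k : ℕ) : Bool :=
  (List.range 48).all fun q => decide (q ≤ k) || decide (q < 24) ||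
    Rl.all fun r => (chevF4.commTerms q r).all fun c =>
      c.2.1 % 2 == 0 || (Rl.contains c.1 && !(S.contains c.1))

theorem stab_of {F : Type*} [Field F] [CharP F 2] {Rl S : List ℕ} {k : ℕ} {Q : ℕ → Prop}
    (hQ : ∀ q, 24 ≤ q → Q q → k < q) (h : stabB Rl S k = true) : StabR chevF4 F Q Rl S := by
  have P := posP_of_mem hF4
  intro q hq hpos r hr _ c hc
  have hq48 : q < 48 := hpos.1
  have hq24 : 24 ≤ q := (P q hpos.1).1.mp hpos
  have hk := hQ q hq24 hq
  have h1 := (List.all_eq_true.mp h) q (List.mem_range.mpr hq48)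
  simp only [Bool.or_eq_true, decide_eq_true_eq, List.all_eq_true, beq_iff_eq, Bool.and_eq_true,
    List.contains_iff_mem, Bool.not_eq_true', ← Bool.not_eq_true] at h1
  rcases h1 with (h1 | h1) | h1
  · omega
  · omega
  · rcases h1 r hr c hc with h2 | h2
    · left
      have : (2 : ℤ) ∣ c.2.1 := Int.dvd_of_emod_eq_zero h2
      obtain ⟨j, hj⟩ := this
      rw [hj]
      push_cast
      have : (2 : F) = 0 := CharTwo.two_eq_zero
      rw [this, zero_mul]
    · exact Or.inr h2

/-- the short roots -/
def shortL : List ℕ :=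
  [3, 7, 8, 9, 10, 11, 12, 13, 14, 18, 19, 20, 27, 28, 29, 33, 34, 35, 36, 37, 38, 39, 40, 44]

/-- the long roots -/
def longL : List ℕ :=
  [0, 1, 2, 4, 5, 6, 15, 16, 17, 21, 22, 23, 24, 25, 26, 30, 31, 32, 41, 42, 43, 45, 46, 47]

set_option maxRecDepth 100000 in
theorem short_closed : ∀ s ∈ shortL, ∀ i < 4, chevF4.reflectRoot i s ∈ shortL := by decide +kernel

set_option maxRecDepth 100000 in
theorem long_closed : ∀ s ∈ longL, ∀ i < 4, chevF4.reflectRoot i s ∈ longL := by decide +kernel

theorem short_word {l : List ℕ} (hl : ∀ i ∈ l, i < chevF4.rank) {s : ℕ} (hs : s ∈ shortL) :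
    reflWord chevF4 l s ∈ shortL := by
  induction l with
  | nil => exact hs
  | cons i l ih =>
    rw [reflWord_cons]
    exact short_closed _ (ih (fun j hj => hl j (List.mem_cons_of_mem _ hj))) i
      (hl i List.mem_cons_self)

theorem long_word {l : List ℕ} (hl : ∀ i ∈ l, i < chevF4.rank) {s : ℕ} (hs : s ∈ longL) :
    reflWord chevF4 l s ∈ longL := by
  induction l with
  | nil => exact hs
  | cons i l ih =>
    rw [reflWord_cons]
    exact long_closed _ (ih (fun j hj => hl j (List.mem_cons_of_mem _ hj))) i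
      (hl i List.mem_cons_self)

/-- a positivity criterion: a word of reflections preserving an integral functional which is
positive on `Φ⁺ ∖ Φ_J` and non-positive on `Φ⁻` is positive on `Φ⁺ ∖ Φ_J` -/
theorem pos_of_functional {l : List ℕ} (φ : ℕ → ℤ)
    (hinv : ∀ s < 48, φ (reflWord chevF4 l s) = φ s) (hneg : ∀ s < 24, φ s ≤ 0)
    {r : ℕ} (hr : r < 48) (hpos : 0 < φ r) : chevF4.nroots / 2 ≤ reflWord chevF4 l r := by
  by_contra hlt
  have hlt' : reflWord chevF4 l r < 24 := by
    have : chevF4.nroots / 2 = 24 := by decide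
    omega
  have := hneg _ hlt'
  rw [hinv r hr] at this
  omega

theorem fin4_cases (i : Fin chevF4.rank) :
    i = ⟨0, by decide⟩ ∨ i = ⟨1, by decide⟩ ∨ i = ⟨2, by decide⟩ ∨ i = ⟨3, by decide⟩ := by
  have h : i.val < 4 := i.isLt
  have : i.val = 0 ∨ i.val = 1 ∨ i.val = 2 ∨ i.val = 3 := by omega
  rcases this with h | h | h | h
  · exact Or.inl (Fin.ext h)
  · exact Or.inr (Or.inl (Fin.ext h))
  · exact Or.inr (Or.inr (Or.inl (Fin.ext h)))
  · exact Or.inr (Or.inr (Or.inr (Fin.ext h)))

theorem chiT_four {F : Type*} [Field F] (cc : Fin chevF4.rank → Fˣ) (s : ℕ) :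
    chiT chevF4 cc s = cc ⟨0, by decide⟩ ^ chevF4.cartan 0 s * cc ⟨1, by decide⟩ ^ chevF4.cartan 1 s *
      cc ⟨2, by decide⟩ ^ chevF4.cartan 2 s * cc ⟨3, by decide⟩ ^ chevF4.cartan 3 s :=
  Fin.prod_univ_four (fun i : Fin 4 => cc i ^ chevF4.cartan i.val s)

/-! ### The involution `x_39(1) x_45(1)` -/

set_option maxRecDepth 100000 in
theorem f2_lt : ∀ s < chevF4.nroots, rc chevF4 s 2 < 2 * 2 := by decide +kernel

set_option maxRecDepth 100000 in
theorem f2_R : ∀ r ∈ [39, 40, 44, 45, 46, 47], chevF4.IsPosRoot r ∧ (2 : ℤ) ≤ rc chevF4 r 2 := by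
  decide +kernel

set_option maxRecDepth 100000 in
theorem f2_stab : stabB [39, 40, 44, 45, 46, 47] [39, 45] 0 = true := by decide +kernel

set_option maxRecDepth 100000 in
theorem f2_stab25 : stabB [39, 40, 44, 45, 46, 47] [46] 25 = true := by decide +kernel

set_option maxRecDepth 100000 in
theorem f2_stab26 : stabB [39, 40, 44, 45, 46, 47] [47] 26 = true := by decide +kernel

set_option maxRecDepth 100000 in
theorem f2_stab27 : stabB [39, 40, 44, 45, 46, 47] [40] 27 = true := by decide +kernel

set_option maxRecDepth 100000 in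
theorem f2_stab34 : stabB [39, 40, 44, 45, 46, 47] [44] 34 = true := by decide +kernel

theorem f2_c2539 : chevF4.commTerms 25 39 = [] := by decide +kernel
theorem f2_c2545 : chevF4.commTerms 25 45 = [(46, 1, 1, 1)] := by decide +kernel
theorem f2_c2639 : chevF4.commTerms 26 39 = [] := by decide +kernel
theorem f2_c2645 : chevF4.commTerms 26 45 = [(47, 1, 1, 1)] := by decide +kernel
theorem f2_c2739 : chevF4.commTerms 27 39 = [(40, 1, 1, 1)] := by decide +kernel
theorem f2_c2745 : chevF4.commTerms 27 45 = [] := by decide +kernel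
theorem f2_c3439 : chevF4.commTerms 34 39 = [(44, 1, 1, 1)] := by decide +kernel
theorem f2_c3445 : chevF4.commTerms 34 45 = [] := by decide +kernel

set_option maxRecDepth 100000 in
theorem f2_orth : ∀ x ∈ [39, 40, 44], ∀ y ∈ [45, 46, 47], acoF chevF4 y x = 0 → x = 39 ∧ y = 45 := by
  decide +kernel

set_option maxRecDepth 100000 in
theorem f2_orth0 : acoF chevF4 45 39 = 0 := by decide +kernel

set_option maxRecDepth 100000 in
theorem f2_dom : ∀ r < 48, 24 ≤ r → ¬ (cor chevF4 r 1 = 0 ∧ cor chevF4 r 2 = 0) →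
    0 < 2 * acoF chevF4 39 r + 3 * acoF chevF4 45 r := by decide +kernel

set_option maxRecDepth 100000 in
theorem f2_neg : ∀ s < 24, 2 * acoF chevF4 39 s + 3 * acoF chevF4 45 s ≤ 0 := by decide +kernel

set_option maxRecDepth 100000 in
theorem f2_sub : ∀ r < 48, cor chevF4 r 1 = 0 → cor chevF4 r 2 = 0 → r ∈ [14, 23, 24, 33] := by
  decide +kernel

/-- the root subgroups generating the centraliser commute with `x_39(1)` and `x_45(1)` -/
def goodB2 (s : ℕ) : Bool :=
  decide (s ∈ [14, 23]) || (decide (24 ≤ s) && !decide (s ∈ [27, 25, 34, 26]))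

/-- the root subgroups generating the centraliser commute with `x_39(1)` and `x_45(1)` -/
def cenB2 : Bool := (List.range 48).all fun s =>
  !(goodB2 s) ||
    ((s == 39 || (chevF4.commTerms 39 s).all fun c => c.2.1 % 2 == 0) &&
      (s == 45 || (chevF4.commTerms 45 s).all fun c => c.2.1 % 2 == 0))

set_option maxRecDepth 100000 in
theorem cenB2_ok : cenB2 = true := by decide +kernel

theorem f2_car39 : (chevF4.cartan 0 39, chevF4.cartan 1 39, chevF4.cartan 2 39, chevF4.cartan 3 39) =
    (0, -1, 1, 0) := by decide +kernel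
theorem f2_car45 : (chevF4.cartan 0 45, chevF4.cartan 1 45, chevF4.cartan 2 45, chevF4.cartan 3 45) =
    (0, 2, -1, 0) := by decide +kernel

theorem neg39 : chevF4.neg 39 = 8 := by decide +kernel
theorem neg45 : chevF4.neg 45 = 2 := by decide +kernel

/-- a word of reflections mapping `39` and `45` into the ideal is positive away from `±p₁, ±p₄` -/
theorem f2_weyl (l : List ℕ) (hl : ∀ i ∈ l, i < chevF4.rank)
    (h : ∀ a ∈ [39, 45], reflWord chevF4 l a ∈ [39, 40, 44, 45, 46, 47]) :
    ∀ r, chevF4.IsPosRoot r → ¬ chevF4.InRootSub {0, 3} r →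
      chevF4.nroots / 2 ≤ reflWord chevF4 l r := by
  have J := validJ_of_mem hF4
  have H := validH_of_mem hF4
  have P := posP_of_mem hF4
  have h39 := h 39 (by simp)
  have h45 := h 45 (by simp)
  have hs39 := short_word hl (s := 39) (by decide)
  have hl45 := long_word hl (s := 45) (by decide)
  have h39' : reflWord chevF4 l 39 ∈ [39, 40, 44] := by
    generalize reflWord chevF4 l 39 = x at h39 hs39
    simp only [List.mem_cons, List.not_mem_nil, or_false] at h39
    rcases h39 with rfl | rfl | rfl | rfl | rfl | rfl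
    · decide
    · decide
    · decide
    · exact absurd hs39 (by decide)
    · exact absurd hs39 (by decide)
    · exact absurd hs39 (by decide)
  have h45' : reflWord chevF4 l 45 ∈ [45, 46, 47] := by
    generalize reflWord chevF4 l 45 = x at h45 hl45
    simp only [List.mem_cons, List.not_mem_nil, or_false] at h45
    rcases h45 with rfl | rfl | rfl | rfl | rfl | rfl
    · exact absurd hl45 (by decide)
    · exact absurd hl45 (by decide)
    · exact absurd hl45 (by decide)
    · decide
    · decide
    · decide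
  have hlt39 := reflWord_lt J H.nS hl (s := 39) (by decide)
  have hlt45 := reflWord_lt J H.nS hl (s := 45) (by decide)
  have horth : acoF chevF4 (reflWord chevF4 l 45) (reflWord chevF4 l 39) = 0 := by
    rw [acoF_eq J.T hlt45 hlt39, aco_reflWord J H.nS checkAcoInv_F4 hl (by decide) (by decide),
      ← acoF_eq J.T (by decide) (by decide)]
    exact f2_orth0
  obtain ⟨e39, e45⟩ := f2_orth _ h39' _ h45' horth
  intro r hr hrJ
  have hr48 : r < 48 := hr.1
  have hr24 : 24 ≤ r := (P r hr.1).1.mp hr
  have hcor : ¬ (cor chevF4 r 1 = 0 ∧ cor chevF4 r 2 = 0) := by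
    rintro ⟨h1, h2⟩
    apply hrJ
    refine ⟨hr.1, fun i hi hiJ => ?_⟩
    have hi4 : i < 4 := hi
    have : i = 1 ∨ i = 2 := by
      have h0 : i ≠ 0 := fun h => hiJ (by rw [h]; simp)
      have h3 : i ≠ 3 := fun h => hiJ (by rw [h]; simp)
      omega
    rcases this with rfl | rfl
    · exact h1
    · exact h2
  apply pos_of_functional (fun s => 2 * aco chevF4 39 s + 3 * aco chevF4 45 s) _ _ hr48
  · show 0 < 2 * aco chevF4 39 r + 3 * aco chevF4 45 r
    have := f2_dom r hr48 hr24 hcor
    rwa [acoF_eq J.T (by decide) hr48, acoF_eq J.T (by decide) hr48] at this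
  · intro s hs
    show 2 * aco chevF4 39 (reflWord chevF4 l s) + 3 * aco chevF4 45 (reflWord chevF4 l s) =
      2 * aco chevF4 39 s + 3 * aco chevF4 45 s
    have i1 := aco_reflWord J H.nS checkAcoInv_F4 hl (r := 39) (s := s) (by decide) hs
    have i2 := aco_reflWord J H.nS checkAcoInv_F4 hl (r := 45) (s := s) (by decide) hs
    rw [e39] at i1
    rw [e45] at i2
    rw [i1, i2]
  · intro s hs
    show 2 * aco chevF4 39 s + 3 * aco chevF4 45 s ≤ 0
    have := f2_neg s hs
    have hs48 : s < chevF4.nroots := lt_trans hs (by decide)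
    rwa [acoF_eq J.T (by decide) hs48, acoF_eq J.T (by decide) hs48] at this

theorem part2 {F : Type*} [Field F] [Fintype F] [CharP F 2] (v : GL chevF4.Idx F)
    (hv : (v : Matrix chevF4.Idx chevF4.Idx F) = chevF4.x F 39 1 * chevF4.x F 45 1) :
    chevF4.group F ⊓ Subgroup.centralizer {v} =
      chevF4.rootSubgroup F 33 ⊔ chevF4.rootSubgroup F 14 ⊔ chevF4.rootSubgroup F 24 ⊔
        chevF4.rootSubgroup F 23 ⊔
      Subgroup.closure {g : GL chevF4.Idx F | ∃ (r : ℕ) (c : F), chevF4.IsPosRoot r ∧
        r ∉ [27, 25, 34, 26] ∧ (g : Matrix chevF4.Idx chevF4.Idx F) = chevF4.x F r c} := by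
  have V := valid0_of_mem hF4
  have V1 := valid1_of_mem hF4
  have J := validJ_of_mem hF4
  have H := validH_of_mem hF4
  have P := posP_of_mem hF4
  set C0 : Subgroup (GL chevF4.Idx F) := chevF4.rootSubgroup F 33 ⊔ chevF4.rootSubgroup F 14 ⊔
    chevF4.rootSubgroup F 24 ⊔ chevF4.rootSubgroup F 23 ⊔
      Subgroup.closure {g : GL chevF4.Idx F | ∃ (r : ℕ) (c : F), chevF4.IsPosRoot r ∧
        r ∉ [27, 25, 34, 26] ∧ (g : Matrix chevF4.Idx chevF4.Idx F) = chevF4.x F r c} with hC0
  -- membership of the generators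
  have hxpos : ∀ s, chevF4.IsPosRoot s → s ∉ [27, 25, 34, 26] → ∀ (c : F) (y : GL chevF4.Idx F),
      (y : Matrix chevF4.Idx chevF4.Idx F) = chevF4.x F s c → y ∈ C0 := fun s hs hsb c y hy =>
    Subgroup.mem_sup_right (Subgroup.subset_closure ⟨s, c, hs, hsb, hy⟩)
  have hx : ∀ s ∈ [33, 14, 24, 23], ∀ (c : F) (y : GL chevF4.Idx F),
      (y : Matrix chevF4.Idx chevF4.Idx F) = chevF4.x F s c → y ∈ C0 := by
    intro s hs c y hy
    have hy' := x_mem_rootSubgroup c y hy
    simp only [List.mem_cons, List.not_mem_nil, or_false] at hs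
    rcases hs with rfl | rfl | rfl | rfl
    · exact Subgroup.mem_sup_left (Subgroup.mem_sup_left (Subgroup.mem_sup_left
        (Subgroup.mem_sup_left hy')))
    · exact Subgroup.mem_sup_left (Subgroup.mem_sup_left (Subgroup.mem_sup_left
        (Subgroup.mem_sup_right hy')))
    · exact Subgroup.mem_sup_left (Subgroup.mem_sup_left (Subgroup.mem_sup_right hy'))
    · exact Subgroup.mem_sup_left (Subgroup.mem_sup_right hy')
  have htw : (v : Matrix chevF4.Idx chevF4.Idx F) = wN chevF4 F [(39, (1 : F)), (45, 1)] := by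
    rw [hv, x_eq_xN, x_eq_xN, wN_cons, wN_cons, wN_nil, Matrix.mul_one]
  -- the generators commute with `v`
  have hgen : ∀ s < 48, (s ∈ [14, 23] ∨ (24 ≤ s ∧ s ∉ [27, 25, 34, 26])) → ∀ c : F,
      chevF4.x F s c * (chevF4.x F 39 1 * chevF4.x F 45 1) =
        (chevF4.x F 39 1 * chevF4.x F 45 1) * chevF4.x F s c := by
    intro s hs48 hs c
    have hchk := (List.all_eq_true.mp cenB2_ok) s (List.mem_range.mpr hs48)
    have hg : goodB2 s = true := by
      unfold goodB2
      rcases hs with hs | hs
      · simp [hs]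
      · simp [hs.1, hs.2]
    rw [hg] at hchk
    simp only [Bool.not_true, Bool.false_or, Bool.or_eq_true, Bool.and_eq_true, beq_iff_eq,
      List.all_eq_true] at hchk
    have hgood : (s = 39 ∨ ∀ c ∈ chevF4.commTerms 39 s, c.2.1 % 2 = 0) ∧
        (s = 45 ∨ ∀ c ∈ chevF4.commTerms 45 s, c.2.1 % 2 = 0) := hchk
    have hne : s ≠ chevF4.neg 39 ∧ s ≠ chevF4.neg 45 := by
      rw [neg39, neg45]
      rcases hs with hs | hs
      · simp only [List.mem_cons, List.not_mem_nil, or_false] at hs
        omega
      · omega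
    have c39 : chevF4.x F s c * chevF4.x F 39 1 = chevF4.x F 39 1 * chevF4.x F s c := by
      rcases hgood.1 with rfl | h
      · rw [x_eq_xN, x_eq_xN, xN_mul_xN F V V1 (by decide), xN_mul_xN F V V1 (by decide), add_comm]
      · by_cases h39 : s = 39
        · subst h39
          rw [x_eq_xN, x_eq_xN, xN_mul_xN F V V1 (by decide), xN_mul_xN F V V1 (by decide),
            add_comm]
        · exact x_commute_of_even hF4 (by decide) hs48 h39 hne.1
            (fun c' hc' => Int.dvd_of_emod_eq_zero (h c' hc')) 1 c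
    have c45 : chevF4.x F s c * chevF4.x F 45 1 = chevF4.x F 45 1 * chevF4.x F s c := by
      rcases hgood.2 with rfl | h
      · rw [x_eq_xN, x_eq_xN, xN_mul_xN F V V1 (by decide), xN_mul_xN F V V1 (by decide), add_comm]
      · by_cases h45 : s = 45
        · subst h45
          rw [x_eq_xN, x_eq_xN, xN_mul_xN F V V1 (by decide), xN_mul_xN F V V1 (by decide),
            add_comm]
        · exact x_commute_of_even hF4 (by decide) hs48 h45 hne.2
            (fun c' hc' => Int.dvd_of_emod_eq_zero (h c' hc')) 1 c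
    rw [← Matrix.mul_assoc, c39, Matrix.mul_assoc, c45, Matrix.mul_assoc]
  have hcen : ∀ y ∈ C0, y * v = v * y := by
    have hle : C0 ≤ Subgroup.centralizer {v} := by
      have hgenC : ∀ s < 48, (s ∈ [14, 23] ∨ (24 ≤ s ∧ s ∉ [27, 25, 34, 26])) → ∀ (c : F)
          (y : GL chevF4.Idx F), (y : Matrix chevF4.Idx chevF4.Idx F) = chevF4.x F s c →
          y ∈ Subgroup.centralizer {v} := by
        intro s hs48 hs c y hy
        rw [Subgroup.mem_centralizer_iff]
        rintro _ rfl
        apply Units.ext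
        rw [Units.val_mul, Units.val_mul, hv, hy]
        exact (hgen s hs48 hs c).symm
      have hroot : ∀ s < 48, (s ∈ [14, 23] ∨ (24 ≤ s ∧ s ∉ [27, 25, 34, 26])) →
          chevF4.rootSubgroup F s ≤ Subgroup.centralizer {v} := by
        intro s hs48 hs
        unfold ChevalleyDatum.rootSubgroup
        rw [Subgroup.closure_le]
        rintro y ⟨c, hy⟩
        exact hgenC s hs48 hs c y hy
      rw [hC0]
      refine sup_le (sup_le (sup_le (sup_le (hroot 33 (by decide) (by decide))
        (hroot 14 (by decide) (by decide))) (hroot 24 (by decide) (by decide)))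
        (hroot 23 (by decide) (by decide))) ?_
      rw [Subgroup.closure_le]
      rintro y ⟨r, c, hr, hrb, hy⟩
      exact hgenC r hr.1 (Or.inr ⟨(P r hr.1).1.mp hr, hrb⟩) c y hy
    intro y hy
    have := hle hy
    rw [Subgroup.mem_centralizer_iff] at this
    exact (this v rfl).symm
  have hC0G : C0 ≤ chevF4.group F := by
    have hroot : ∀ s < 48, chevF4.rootSubgroup F s ≤ chevF4.group F := by
      intro s hs
      unfold ChevalleyDatum.rootSubgroup
      rw [Subgroup.closure_le]
      rintro y ⟨c, hy⟩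
      exact x_mem_group hs c y hy
    rw [hC0]
    refine sup_le (sup_le (sup_le (sup_le (hroot 33 (by decide)) (hroot 14 (by decide)))
      (hroot 24 (by decide))) (hroot 23 (by decide))) ?_
    rw [Subgroup.closure_le]
    rintro y ⟨r, c, hr, _, hy⟩
    exact x_mem_group hr.1 c y hy
  refine cent_eq_of (F := F) hF4 (f := fun s => rc chevF4 s 2) (rc_isWt hF4 (by decide))
    (m := 2) (by norm_num) f2_lt (Rl := [39, 40, 44, 45, 46, 47]) (S := [39, 45]) f2_R
    (stab_of (fun q hq _ => by omega) f2_stab) (by simp) htw (by simp) (by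
      intro a ha
      simp only [List.mem_cons, List.not_mem_nil, or_false] at ha
      rcases ha with rfl | rfl <;> simp [sumAt]) {0, 3} f2_weyl C0 ?_ ?_ hC0G hcen ?_
      {(⟨1, by decide⟩ : Fin chevF4.rank), ⟨2, by decide⟩} ?_ ?_
  · -- the positive roots of `Φ_J`
    intro r hr hpos c y hy
    have h1 : cor chevF4 r 1 = 0 := hr.2 1 (by decide) (by simp)
    have h2 : cor chevF4 r 2 = 0 := hr.2 2 (by decide) (by simp)
    have := f2_sub r hr.1 h1 h2
    have hr24 : 24 ≤ r := (P r hr.1).1.mp hpos
    simp only [List.mem_cons, List.not_mem_nil, or_false] at this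
    have : r = 24 ∨ r = 33 := by omega
    rcases this with rfl | rfl
    · exact hx 24 (by simp) c y hy
    · exact hx 33 (by simp) c y hy
  · -- the negatives of the fundamental roots of `J`
    intro j hj _ c y hy
    have hj' : j = 0 ∨ j = 3 := hj
    rcases hj' with rfl | rfl
    · exact hx 14 (by simp) c y hy
    · exact hx 23 (by simp) c y hy
  · -- the positive root elements
    intro k hk1 hk2
    have hk1' : 24 ≤ k := hk1
    have hk2' : k < 48 := hk2
    have hkp : chevF4.IsPosRoot k := (P k hk2).1.mpr hk1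
    by_cases hbad : k ∈ [27, 25, 34, 26]
    · right
      simp only [List.mem_cons, List.not_mem_nil, or_false] at hbad
      rcases hbad with rfl | rfl | rfl | rfl
      · refine ⟨by simp, 40, by decide, stab_of (fun q _ hq => hq) f2_stab27, ?_⟩
        intro v' hv'
        simp only [conjW, List.flatMap_cons, List.flatMap_nil, ChevalleyDatum.commWord, f2_c2739,
          f2_c2745, List.map_cons, List.map_nil, List.append_nil, sumAt, List.sum_cons,
          List.sum_nil, List.cons_append, List.nil_append] at hv'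
        norm_num at hv'
        exact hv'
      · refine ⟨by simp, 46, by decide, stab_of (fun q _ hq => hq) f2_stab25, ?_⟩
        intro v' hv'
        simp only [conjW, List.flatMap_cons, List.flatMap_nil, ChevalleyDatum.commWord, f2_c2539,
          f2_c2545, List.map_cons, List.map_nil, List.append_nil, sumAt, List.sum_cons,
          List.sum_nil, List.cons_append, List.nil_append] at hv'
        norm_num at hv'
        exact hv'
      · refine ⟨by simp, 44, by decide, stab_of (fun q _ hq => hq) f2_stab34, ?_⟩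
        intro v' hv'
        simp only [conjW, List.flatMap_cons, List.flatMap_nil, ChevalleyDatum.commWord, f2_c3439,
          f2_c3445, List.map_cons, List.map_nil, List.append_nil, sumAt, List.sum_cons,
          List.sum_nil, List.cons_append, List.nil_append] at hv'
        norm_num at hv'
        exact hv'
      · refine ⟨by simp, 47, by decide, stab_of (fun q _ hq => hq) f2_stab26, ?_⟩
        intro v' hv'
        simp only [conjW, List.flatMap_cons, List.flatMap_nil, ChevalleyDatum.commWord, f2_c2639,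
          f2_c2645, List.map_cons, List.map_nil, List.append_nil, sumAt, List.sum_cons,
          List.sum_nil, List.cons_append, List.nil_append] at hv'
        norm_num at hv'
        exact hv'
    · exact Or.inl (hxpos k hkp hbad)
  · -- the good part of the torus
    intro i hi τ
    have hi' : i = ⟨0, by decide⟩ ∨ i = ⟨3, by decide⟩ := by
      rcases fin4_cases i with h | h | h | h
      · exact Or.inl h
      · exact absurd (by rw [h]; simp) hi
      · exact absurd (by rw [h]; simp) hi
      · exact Or.inr h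
    rcases hi' with rfl | rfl
    · exact hMat_mem_of hF4 (p := 33) (by decide) C0 (hx 33 (by simp)) (hx 14 (by simp))
        (Units.ne_zero τ) _ (torMap_mulSingle J H ⟨0, by decide⟩ τ)
    · exact hMat_mem_of hF4 (p := 24) (by decide) C0 (hx 24 (by simp)) (hx 23 (by simp))
        (Units.ne_zero τ) _ (torMap_mulSingle J H ⟨3, by decide⟩ τ)
  · -- the bad part of the torus
    intro cc hcc hchi
    have h0 : cc ⟨0, by decide⟩ = 1 := hcc _ (by decide)
    have h3 : cc ⟨3, by decide⟩ = 1 := hcc _ (by decide)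
    have h39 := hchi 39 (by simp)
    have h45 := hchi 45 (by simp)
    rw [chiT_four] at h39 h45
    have e39 := f2_car39
    have e45 := f2_car45
    simp only [Prod.mk.injEq] at e39 e45
    rw [e39.1, e39.2.1, e39.2.2.1, e39.2.2.2, h0, h3] at h39
    rw [e45.1, e45.2.1, e45.2.2.1, e45.2.2.2, h0, h3] at h45
    simp only [_root_.one_zpow, one_mul, mul_one, zpow_one, _root_.zpow_neg] at h39 h45
    have h12 : cc ⟨2, by decide⟩ = cc ⟨1, by decide⟩ := by
      have := congrArg (fun z => cc ⟨1, by decide⟩ * z) h39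
      simpa using this
    rw [h12] at h45
    have h1 : cc ⟨1, by decide⟩ = 1 := by
      have := congrArg (fun z => z * cc ⟨1, by decide⟩) h45
      simpa [pow_two, mul_assoc] using this
    funext i
    rcases fin4_cases i with rfl | rfl | rfl | rfl
    · exact h0
    · exact h1
    · rw [h12]; exact h1
    · exact h3

/-! ### The involution `x_47(1) x_44(1)` -/

set_option maxRecDepth 100000 in
theorem f1_lt : ∀ s < chevF4.nroots, rc chevF4 s 0 < 2 * 2 := by decide +kernel

set_option maxRecDepth 100000 in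
theorem f1_R : ∀ r ∈ [44, 47], chevF4.IsPosRoot r ∧ (2 : ℤ) ≤ rc chevF4 r 0 := by decide +kernel

set_option maxRecDepth 100000 in
theorem f1_stab : stabB [44, 47] [44, 47] 0 = true := by decide +kernel

set_option maxRecDepth 100000 in
theorem f1_dom : ∀ r < 48, 24 ≤ r → ¬ (cor chevF4 r 0 = 0 ∧ cor chevF4 r 3 = 0) →
    0 < acoF chevF4 44 r + acoF chevF4 47 r := by decide +kernel

set_option maxRecDepth 100000 in
theorem f1_neg : ∀ s < 24, acoF chevF4 44 s + acoF chevF4 47 s ≤ 0 := by decide +kernel

theorem f1_car44 : (chevF4.cartan 0 44, chevF4.cartan 1 44, chevF4.cartan 2 44, chevF4.cartan 3 44) =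
    (1, 0, 0, 0) := by decide +kernel
theorem f1_car47 : (chevF4.cartan 0 47, chevF4.cartan 1 47, chevF4.cartan 2 47, chevF4.cartan 3 47) =
    (0, 0, 0, 1) := by decide +kernel

def goodB1 (s : ℕ) : Bool := decide (s ∈ [20, 22]) || decide (24 ≤ s)

/-- the root subgroups generating the centraliser commute with `x_47(1)` and `x_44(1)` -/
def cenB1 : Bool := (List.range 48).all fun s =>
  !(goodB1 s) ||
    ((s == 47 || (chevF4.commTerms 47 s).all fun c => c.2.1 % 2 == 0) &&
      (s == 44 || (chevF4.commTerms 44 s).all fun c => c.2.1 % 2 == 0))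

set_option maxRecDepth 100000 in
theorem cenB1_ok : cenB1 = true := by decide +kernel

theorem neg47 : chevF4.neg 47 = 0 := by decide +kernel
theorem neg44 : chevF4.neg 44 = 3 := by decide +kernel

/-- a word of reflections preserving `{44, 47}` is positive away from the roots of `⟨p₂, p₃⟩` -/
theorem f1_weyl (l : List ℕ) (hl : ∀ i ∈ l, i < chevF4.rank)
    (h : ∀ a ∈ [44, 47], reflWord chevF4 l a ∈ [44, 47]) :
    ∀ r, chevF4.IsPosRoot r → ¬ chevF4.InRootSub {1, 2} r →
      chevF4.nroots / 2 ≤ reflWord chevF4 l r := by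
  have J := validJ_of_mem hF4
  have H := validH_of_mem hF4
  have P := posP_of_mem hF4
  have h44 := h 44 (by simp)
  have h47 := h 47 (by simp)
  have hs44 := short_word hl (s := 44) (by decide)
  have hl47 := long_word hl (s := 47) (by decide)
  have e44 : reflWord chevF4 l 44 = 44 := by
    generalize reflWord chevF4 l 44 = x at h44 hs44
    simp only [List.mem_cons, List.not_mem_nil, or_false] at h44
    rcases h44 with rfl | rfl
    · rfl
    · exact absurd hs44 (by decide)
  have e47 : reflWord chevF4 l 47 = 47 := by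
    generalize reflWord chevF4 l 47 = x at h47 hl47
    simp only [List.mem_cons, List.not_mem_nil, or_false] at h47
    rcases h47 with rfl | rfl
    · exact absurd hl47 (by decide)
    · rfl
  intro r hr hrJ
  have hr48 : r < 48 := hr.1
  have hr24 : 24 ≤ r := (P r hr.1).1.mp hr
  have hcor : ¬ (cor chevF4 r 0 = 0 ∧ cor chevF4 r 3 = 0) := by
    rintro ⟨h1, h2⟩
    apply hrJ
    refine ⟨hr.1, fun i hi hiJ => ?_⟩
    have hi4 : i < 4 := hi
    have : i = 0 ∨ i = 3 := by
      have h0 : i ≠ 1 := fun h => hiJ (by rw [h]; simp)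
      have h3 : i ≠ 2 := fun h => hiJ (by rw [h]; simp)
      omega
    rcases this with rfl | rfl
    · exact h1
    · exact h2
  apply pos_of_functional (fun s => aco chevF4 44 s + aco chevF4 47 s) _ _ hr48
  · show 0 < aco chevF4 44 r + aco chevF4 47 r
    have := f1_dom r hr48 hr24 hcor
    rwa [acoF_eq J.T (by decide) hr48, acoF_eq J.T (by decide) hr48] at this
  · intro s hs
    show aco chevF4 44 (reflWord chevF4 l s) + aco chevF4 47 (reflWord chevF4 l s) =
      aco chevF4 44 s + aco chevF4 47 s
    have i1 := aco_reflWord J H.nS checkAcoInv_F4 hl (r := 44) (s := s) (by decide) hs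
    have i2 := aco_reflWord J H.nS checkAcoInv_F4 hl (r := 47) (s := s) (by decide) hs
    rw [e44] at i1
    rw [e47] at i2
    rw [i1, i2]
  · intro s hs
    show aco chevF4 44 s + aco chevF4 47 s ≤ 0
    have := f1_neg s hs
    have hs48 : s < chevF4.nroots := lt_trans hs (by decide)
    rwa [acoF_eq J.T (by decide) hs48, acoF_eq J.T (by decide) hs48] at this

theorem part1 {F : Type*} [Field F] [Fintype F] [CharP F 2] (w : GL chevF4.Idx F)
    (hw : (w : Matrix chevF4.Idx chevF4.Idx F) = chevF4.x F 47 1 * chevF4.x F 44 1) :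
    chevF4.group F ⊓ Subgroup.centralizer {w} =
      chevF4.posUnipotent F ⊔ chevF4.rootSubgroup F 20 ⊔ chevF4.rootSubgroup F 22 := by
  have V := valid0_of_mem hF4
  have V1 := valid1_of_mem hF4
  have J := validJ_of_mem hF4
  have H := validH_of_mem hF4
  have P := posP_of_mem hF4
  set C0 : Subgroup (GL chevF4.Idx F) := chevF4.posUnipotent F ⊔ chevF4.rootSubgroup F 20 ⊔
    chevF4.rootSubgroup F 22 with hC0
  have hxpos : ∀ s, chevF4.IsPosRoot s → ∀ (c : F) (y : GL chevF4.Idx F),
      (y : Matrix chevF4.Idx chevF4.Idx F) = chevF4.x F s c → y ∈ C0 := fun s hs c y hy =>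
    Subgroup.mem_sup_left (Subgroup.mem_sup_left (Subgroup.subset_closure ⟨s, c, hs, hy⟩))
  have hx : ∀ s ∈ [20, 22], ∀ (c : F) (y : GL chevF4.Idx F),
      (y : Matrix chevF4.Idx chevF4.Idx F) = chevF4.x F s c → y ∈ C0 := by
    intro s hs c y hy
    have hy' := x_mem_rootSubgroup c y hy
    simp only [List.mem_cons, List.not_mem_nil, or_false] at hs
    rcases hs with rfl | rfl
    · exact Subgroup.mem_sup_left (Subgroup.mem_sup_right hy')
    · exact Subgroup.mem_sup_right hy'
  have htw : (w : Matrix chevF4.Idx chevF4.Idx F) = wN chevF4 F [(47, (1 : F)), (44, 1)] := by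
    rw [hw, x_eq_xN, x_eq_xN, wN_cons, wN_cons, wN_nil, Matrix.mul_one]
  have hgen : ∀ s < 48, (s ∈ [20, 22] ∨ 24 ≤ s) → ∀ c : F,
      chevF4.x F s c * (chevF4.x F 47 1 * chevF4.x F 44 1) =
        (chevF4.x F 47 1 * chevF4.x F 44 1) * chevF4.x F s c := by
    intro s hs48 hs c
    have hchk := (List.all_eq_true.mp cenB1_ok) s (List.mem_range.mpr hs48)
    have hg : goodB1 s = true := by
      unfold goodB1
      rcases hs with hs | hs
      · simp [hs]
      · simp [hs]
    rw [hg] at hchk
    simp only [Bool.not_true, Bool.false_or, Bool.or_eq_true, Bool.and_eq_true, beq_iff_eq,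
      List.all_eq_true] at hchk
    have hgood : (s = 47 ∨ ∀ c ∈ chevF4.commTerms 47 s, c.2.1 % 2 = 0) ∧
        (s = 44 ∨ ∀ c ∈ chevF4.commTerms 44 s, c.2.1 % 2 = 0) := hchk
    have hne : s ≠ chevF4.neg 47 ∧ s ≠ chevF4.neg 44 := by
      rw [neg47, neg44]
      rcases hs with hs | hs
      · simp only [List.mem_cons, List.not_mem_nil, or_false] at hs
        omega
      · omega
    have c47 : chevF4.x F s c * chevF4.x F 47 1 = chevF4.x F 47 1 * chevF4.x F s c := by
      by_cases h47 : s = 47
      · subst h47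
        rw [x_eq_xN, x_eq_xN, xN_mul_xN F V V1 (by decide), xN_mul_xN F V V1 (by decide),
          add_comm]
      · rcases hgood.1 with h | h
        · exact absurd h h47
        · exact x_commute_of_even hF4 (by decide) hs48 h47 hne.1
            (fun c' hc' => Int.dvd_of_emod_eq_zero (h c' hc')) 1 c
    have c44 : chevF4.x F s c * chevF4.x F 44 1 = chevF4.x F 44 1 * chevF4.x F s c := by
      by_cases h44 : s = 44
      · subst h44
        rw [x_eq_xN, x_eq_xN, xN_mul_xN F V V1 (by decide), xN_mul_xN F V V1 (by decide),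
          add_comm]
      · rcases hgood.2 with h | h
        · exact absurd h h44
        · exact x_commute_of_even hF4 (by decide) hs48 h44 hne.2
            (fun c' hc' => Int.dvd_of_emod_eq_zero (h c' hc')) 1 c
    rw [← Matrix.mul_assoc, c47, Matrix.mul_assoc, c44, Matrix.mul_assoc]
  have hcen : ∀ y ∈ C0, y * w = w * y := by
    have hle : C0 ≤ Subgroup.centralizer {w} := by
      have hgenC : ∀ s < 48, (s ∈ [20, 22] ∨ 24 ≤ s) → ∀ (c : F)
          (y : GL chevF4.Idx F), (y : Matrix chevF4.Idx chevF4.Idx F) = chevF4.x F s c →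
          y ∈ Subgroup.centralizer {w} := by
        intro s hs48 hs c y hy
        rw [Subgroup.mem_centralizer_iff]
        rintro _ rfl
        apply Units.ext
        rw [Units.val_mul, Units.val_mul, hw, hy]
        exact (hgen s hs48 hs c).symm
      have hroot : ∀ s < 48, (s ∈ [20, 22] ∨ 24 ≤ s) →
          chevF4.rootSubgroup F s ≤ Subgroup.centralizer {w} := by
        intro s hs48 hs
        unfold ChevalleyDatum.rootSubgroup
        rw [Subgroup.closure_le]
        rintro y ⟨c, hy⟩
        exact hgenC s hs48 hs c y hy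
      rw [hC0]
      refine sup_le (sup_le ?_ (hroot 20 (by decide) (by decide)))
        (hroot 22 (by decide) (by decide))
      unfold ChevalleyDatum.posUnipotent
      rw [Subgroup.closure_le]
      rintro y ⟨r, c, hr, hy⟩
      exact hgenC r hr.1 (Or.inr ((P r hr.1).1.mp hr)) c y hy
    intro y hy
    have := hle hy
    rw [Subgroup.mem_centralizer_iff] at this
    exact (this w rfl).symm
  have hC0G : C0 ≤ chevF4.group F := by
    have hroot : ∀ s < 48, chevF4.rootSubgroup F s ≤ chevF4.group F := by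
      intro s hs
      unfold ChevalleyDatum.rootSubgroup
      rw [Subgroup.closure_le]
      rintro y ⟨c, hy⟩
      exact x_mem_group hs c y hy
    rw [hC0]
    exact sup_le (sup_le pos_le_group (hroot 20 (by decide))) (hroot 22 (by decide))
  refine cent_eq_of (F := F) hF4 (f := fun s => rc chevF4 s 0) (rc_isWt hF4 (by decide))
    (m := 2) (by norm_num) f1_lt (Rl := [44, 47]) (S := [44, 47]) f1_R
    (stab_of (fun q hq _ => by omega) f1_stab) (by simp) htw (by simp) (by
      intro a ha
      simp only [List.mem_cons, List.not_mem_nil, or_false] at ha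
      rcases ha with rfl | rfl <;> simp [sumAt]) {1, 2} f1_weyl C0 ?_ ?_ hC0G hcen ?_
      {(⟨0, by decide⟩ : Fin chevF4.rank), ⟨3, by decide⟩} ?_ ?_
  · intro r _ hpos c y hy
    exact hxpos r hpos c y hy
  · intro j hj _ c y hy
    have hj' : j = 1 ∨ j = 2 := hj
    rcases hj' with rfl | rfl
    · exact hx 20 (by simp) c y hy
    · exact hx 22 (by simp) c y hy
  · intro k hk1 hk2
    exact Or.inl (hxpos k ((P k hk2).1.mpr hk1))
  · intro i hi τ
    have hi' : i = ⟨1, by decide⟩ ∨ i = ⟨2, by decide⟩ := by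
      rcases fin4_cases i with h | h | h | h
      · exact absurd (by rw [h]; simp) hi
      · exact Or.inl h
      · exact Or.inr h
      · exact absurd (by rw [h]; simp) hi
    rcases hi' with rfl | rfl
    · exact hMat_mem_of hF4 (p := 27) (by decide) C0 (hxpos 27 (by decide)) (hx 20 (by simp))
        (Units.ne_zero τ) _ (torMap_mulSingle J H ⟨1, by decide⟩ τ)
    · exact hMat_mem_of hF4 (p := 25) (by decide) C0 (hxpos 25 (by decide)) (hx 22 (by simp))
        (Units.ne_zero τ) _ (torMap_mulSingle J H ⟨2, by decide⟩ τ)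
  · intro cc hcc hchi
    have h1 : cc ⟨1, by decide⟩ = 1 := hcc _ (by decide)
    have h2 : cc ⟨2, by decide⟩ = 1 := hcc _ (by decide)
    have h44 := hchi 44 (by simp)
    have h47 := hchi 47 (by simp)
    rw [chiT_four] at h44 h47
    have e44 := f1_car44
    have e47 := f1_car47
    simp only [Prod.mk.injEq] at e44 e47
    rw [e44.1, e44.2.1, e44.2.2.1, e44.2.2.2, h1, h2] at h44
    rw [e47.1, e47.2.1, e47.2.2.1, e47.2.2.2, h1, h2] at h47
    simp only [one_mul, mul_one, zpow_one, zpow_zero] at h44 h47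
    funext i
    rcases fin4_cases i with rfl | rfl | rfl | rfl
    · exact h44
    · exact h1
    · exact h2
    · exact h47

/-- Centralizers of the two remaining classes of involutions in `F₄(2ⁿ)`. -/
theorem result {F : Type*} [Field F] [Fintype F] [CharP F 2] (w v : GL Cfsg.Lie.chevF4.Idx F) (hw : (w : Matrix Cfsg.Lie.chevF4.Idx Cfsg.Lie.chevF4.Idx F) = Cfsg.Lie.chevF4.x F 47 1 * Cfsg.Lie.chevF4.x F 44 1) (hv : (v : Matrix Cfsg.Lie.chevF4.Idx Cfsg.Lie.chevF4.Idx F) = Cfsg.Lie.chevF4.x F 39 1 * Cfsg.Lie.chevF4.x F 45 1) :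
    Cfsg.Lie.chevF4.group F ⊓ Subgroup.centralizer {w} = Cfsg.Lie.chevF4.posUnipotent F ⊔ Cfsg.Lie.chevF4.rootSubgroup F 20 ⊔ Cfsg.Lie.chevF4.rootSubgroup F 22 ∧
    Cfsg.Lie.chevF4.group F ⊓ Subgroup.centralizer {v} = Cfsg.Lie.chevF4.rootSubgroup F 33 ⊔ Cfsg.Lie.chevF4.rootSubgroup F 14 ⊔ Cfsg.Lie.chevF4.rootSubgroup F 24 ⊔ Cfsg.Lie.chevF4.rootSubgroup F 23 ⊔
      Subgroup.closure {g : GL Cfsg.Lie.chevF4.Idx F | ∃ (r : ℕ) (c : F), Cfsg.Lie.chevF4.IsPosRoot r ∧ r ∉ [27, 25, 34, 26] ∧ (g : Matrix Cfsg.Lie.chevF4.Idx Cfsg.Lie.chevF4.Idx F) = Cfsg.Lie.chevF4.x F r c} :=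
  ⟨part1 w hw, part2 v hv⟩

end Cfsg.Agent.S2179
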