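import Mathlib
import Cfsg.Statements.S2180
import Cfsg.Agent.Lib.Helper8.ChevCz7

set_option autoImplicit false
open Cfsg

namespace Cfsg.Agent.S2180

open Cfsg.Agent.Lib.Helper8.Chev Cfsg.Lie Matrix

theorem hG2 : chevG2 ∈ [chevG2, chevB2, chevD4, chevF4, chevE6, chevE7, chevE8] := by simp

theorem closure_listGens1 {F : Type*} [Field F] (a : ℕ) :
    Subgroup.closure (listGens chevG2 F [a]) = chevG2.rootSubgroup F a := by
  have : listGens chevG2 F [a] =
      {g : GL chevG2.Idx F | ∃ t : F, (g : Matrix chevG2.Idx chevG2.Idx F) = chevG2.x F a t} := by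
    ext g
    simp only [listGens, Set.mem_ofPred_eq, List.mem_cons, List.not_mem_nil, or_false]
    constructor
    · rintro ⟨s, rfl, t, hg⟩
      exact ⟨t, hg⟩
    · rintro ⟨t, hg⟩
      exact ⟨a, rfl, t, hg⟩
  rw [this]
  rfl

set_option maxRecDepth 100000 in
theorem d11_JL : ∀ j < chevG2.rank, j = 1 ∨ chevG2.neg (chevG2.simple j) ∈ [4] := by
  decide +kernel

set_option maxRecDepth 100000 in
theorem d11_refl : chevG2.reflectRoot 1 11 ≠ 11 := by decide +kernel

set_option maxRecDepth 100000 in
theorem d11_aco : acoF chevG2 (chevG2.simple 1) 11 = 1 := by decide +kernel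

set_option maxRecDepth 100000 in
theorem d11_nil : chevG2.commTerms 11 4 = [] := by decide +kernel

theorem neg11 : chevG2.neg 11 = 0 := by decide +kernel

theorem cen11 {F : Type*} [Field F] : CenU chevG2 F 11 :=
  fun _ hs t u => hi_commute hG2 hs t u

theorem part1 {F : Type*} [Field F] [Fintype F] (z : GL chevG2.Idx F)
    (hz : (z : Matrix chevG2.Idx chevG2.Idx F) = chevG2.x F 11 1) :
    chevG2.group F ⊓ Subgroup.centralizer {z} =
      chevG2.posUnipotent F ⊔ chevG2.rootSubgroup F 4 := by
  have key := centralizer_root_eq (F := F) hG2 (r := 11) (by decide) cen11 (i0 := 1) (by decide)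
    (L := [4]) d11_JL d11_refl d11_aco
    (by
      intro s hs
      simp only [List.mem_cons, List.not_mem_nil, or_false] at hs
      subst hs
      exact ⟨by decide, fun t u => x_commute_of_nil hG2 (by decide) (by decide) (by decide)
        (by rw [neg11]; decide) d11_nil t u⟩) hz
  rw [key, closure_listGens1]

/-! ### The short root involution -/

set_option maxRecDepth 100000 in
theorem g_lt : ∀ s < chevG2.nroots, rc chevG2 s 0 < 2 * 2 := by decide +kernel

set_option maxRecDepth 100000 in
theorem g_R : ∀ r ∈ [9, 10, 11], chevG2.IsPosRoot r ∧ (2 : ℤ) ≤ rc chevG2 r 0 := by decide +kernel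

set_option maxRecDepth 100000 in
theorem g_stab : ∀ q < 12, 6 ≤ q → ∀ r ∈ [9, 10, 11], ∀ c ∈ chevG2.commTerms q r,
    c.1 ∈ [10, 11] := by decide +kernel

set_option maxRecDepth 100000 in
theorem g_stab7 : ∀ q < 12, 7 < q → ∀ r ∈ [9, 10, 11], ∀ c ∈ chevG2.commTerms q r, c.1 = 11 := by
  decide +kernel

set_option maxRecDepth 100000 in
theorem g_stab8 : ∀ q < 12, 8 < q → ∀ r ∈ [9, 10, 11], chevG2.commTerms q r = [] := by
  decide +kernel

theorem g_c79 : chevG2.commTerms 7 9 = [(10, 3, 1, 1)] := by decide +kernel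
theorem g_c89 : chevG2.commTerms 8 9 = [(11, 3, 1, 1)] := by decide +kernel
theorem g_car0 : chevG2.cartan 0 9 = 1 := by decide +kernel
theorem g_car1 : chevG2.cartan 1 9 = 0 := by decide +kernel

set_option maxRecDepth 100000 in
theorem g_sub : ∀ r < 12, cor chevG2 r 0 = 0 → r = 5 ∨ r = 6 := by decide +kernel

set_option maxRecDepth 100000 in
theorem g_dom : ∀ r < 12, 6 ≤ r → cor chevG2 r 0 ≠ 0 → 0 < acoF chevG2 9 r := by decide +kernel

set_option maxRecDepth 100000 in
theorem g_neg : ∀ s < 6, acoF chevG2 9 s ≤ 0 := by decide +kernel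

set_option maxRecDepth 100000 in
theorem g_short : ∀ s ∈ [2, 3, 4, 7, 8, 9], ∀ i < 2, chevG2.reflectRoot i s ∈ [2, 3, 4, 7, 8, 9] := by
  decide +kernel

set_option maxRecDepth 100000 in
theorem g_nil : ∀ s ∈ [10, 11, 6, 5], chevG2.commTerms 9 s = [] := by decide +kernel

theorem neg9 : chevG2.neg 9 = 2 := by decide +kernel

theorem g_short_word {l : List ℕ} (hl : ∀ i ∈ l, i < chevG2.rank) :
    reflWord chevG2 l 9 ∈ [2, 3, 4, 7, 8, 9] := by
  induction l with
  | nil => decide
  | cons i l ih =>
    rw [reflWord_cons]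
    exact g_short _ (ih (fun j hj => hl j (List.mem_cons_of_mem _ hj))) i (hl i List.mem_cons_self)

/-- a word of reflections mapping `2a+b` into `{2a+b, 3a+b, 3a+2b}` is positive away from `b` -/
theorem g_weyl (l : List ℕ) (hl : ∀ i ∈ l, i < chevG2.rank)
    (h : ∀ a ∈ [9], reflWord chevG2 l a ∈ [9, 10, 11]) :
    ∀ r, chevG2.IsPosRoot r → ¬ chevG2.InRootSub {1} r → chevG2.nroots / 2 ≤ reflWord chevG2 l r := by
  have J := validJ_of_mem hG2
  have H := validH_of_mem hG2
  have P := posP_of_mem hG2
  have h9 : reflWord chevG2 l 9 = 9 := by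
    have h1 := h 9 (by simp)
    have h2 := g_short_word hl
    simp only [List.mem_cons, List.not_mem_nil, or_false] at h1 h2
    omega
  intro r hr hrJ
  have hr12 : r < 12 := hr.1
  have hr6 : 6 ≤ r := (P r hr.1).1.mp hr
  have hcor : cor chevG2 r 0 ≠ 0 := by
    intro h0
    apply hrJ
    refine ⟨hr.1, fun i hi hiJ => ?_⟩
    have hi2 : i < 2 := hi
    have : i = 0 := by
      have : i ≠ 1 := fun h => hiJ (by rw [h]; rfl)
      omega
    subst this
    exact h0
  have hpos := g_dom r hr12 hr6 hcor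
  rw [acoF_eq J.T (by decide) hr12] at hpos
  have hinv := aco_reflWord J H.nS checkAcoInv_G2 hl (r := 9) (s := r) (by decide) hr12
  rw [h9] at hinv
  by_contra hlt
  have hlt' : reflWord chevG2 l r < 6 := by
    have : chevG2.nroots / 2 = 6 := by decide
    omega
  have hneg := g_neg _ hlt'
  rw [acoF_eq J.T (by decide) (by omega)] at hneg
  omega

theorem part2 {F : Type*} [Field F] [Fintype F] [CharP F 2] (t : GL chevG2.Idx F)
    (ht : (t : Matrix chevG2.Idx chevG2.Idx F) = chevG2.x F 9 1) :
    chevG2.group F ⊓ Subgroup.centralizer {t} =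
      chevG2.rootSubgroup F 9 ⊔ chevG2.rootSubgroup F 10 ⊔ chevG2.rootSubgroup F 11 ⊔
        chevG2.rootSubgroup F 6 ⊔ chevG2.rootSubgroup F 5 := by
  have V := valid0_of_mem hG2
  have V1 := valid1_of_mem hG2
  have J := validJ_of_mem hG2
  have H := validH_of_mem hG2
  have P := posP_of_mem hG2
  set C0 : Subgroup (GL chevG2.Idx F) := chevG2.rootSubgroup F 9 ⊔ chevG2.rootSubgroup F 10 ⊔
    chevG2.rootSubgroup F 11 ⊔ chevG2.rootSubgroup F 6 ⊔ chevG2.rootSubgroup F 5 with hC0
  have hx : ∀ s ∈ [9, 10, 11, 6, 5], ∀ (c : F) (y : GL chevG2.Idx F),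
      (y : Matrix chevG2.Idx chevG2.Idx F) = chevG2.x F s c → y ∈ C0 := by
    intro s hs c y hy
    have hy' := x_mem_rootSubgroup c y hy
    simp only [List.mem_cons, List.not_mem_nil, or_false] at hs
    rcases hs with rfl | rfl | rfl | rfl | rfl
    · exact Subgroup.mem_sup_left (Subgroup.mem_sup_left (Subgroup.mem_sup_left
        (Subgroup.mem_sup_left hy')))
    · exact Subgroup.mem_sup_left (Subgroup.mem_sup_left (Subgroup.mem_sup_left
        (Subgroup.mem_sup_right hy')))
    · exact Subgroup.mem_sup_left (Subgroup.mem_sup_left (Subgroup.mem_sup_right hy'))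
    · exact Subgroup.mem_sup_left (Subgroup.mem_sup_right hy')
    · exact Subgroup.mem_sup_right hy'
  have htw : (t : Matrix chevG2.Idx chevG2.Idx F) = wN chevG2 F [(9, (1 : F))] := by
    rw [ht, x_eq_xN, wN_cons, wN_nil, Matrix.mul_one]
  have h2 : (2 : F) = 0 := CharTwo.two_eq_zero
  have h3 : (3 : F) = 1 := by
    have : (3 : F) = 2 + 1 := by norm_num
    rw [this, h2, zero_add]
  have hstab : ∀ (Q : ℕ → Prop) (S : List ℕ), (∀ q < 12, 6 ≤ q → Q q → ∀ r ∈ [9, 10, 11],
      ∀ c ∈ chevG2.commTerms q r, c.1 ∉ S) → StabR chevG2 F Q [9, 10, 11] S := by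
    intro Q S hQS q hQ hq r hr _ c hc
    have hq12 : q < 12 := hq.1
    have hq6 : 6 ≤ q := (P q hq.1).1.mp hq
    have h1 := g_stab q hq12 hq6 r hr c hc
    refine Or.inr ⟨?_, hQS q hq12 hq6 hQ r hr c hc⟩
    simp only [List.mem_cons, List.not_mem_nil, or_false] at h1 ⊢
    omega
  -- the generators of `C0` commute with `t`
  have hgen : ∀ s ∈ [9, 10, 11, 6, 5], ∀ (c : F),
      chevG2.x F s c * chevG2.x F 9 1 = chevG2.x F 9 1 * chevG2.x F s c := by
    intro s hs c
    by_cases h9 : s = 9
    · subst h9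
      rw [x_eq_xN, x_eq_xN, xN_mul_xN F V V1 (by decide), xN_mul_xN F V V1 (by decide), add_comm]
    · have hs' : s ∈ [10, 11, 6, 5] := by
        simp only [List.mem_cons, List.not_mem_nil, or_false] at hs ⊢
        omega
      have hnil := g_nil s hs'
      simp only [List.mem_cons, List.not_mem_nil, or_false] at hs'
      have hs12 : s < chevG2.nroots := by
        rcases hs' with rfl | rfl | rfl | rfl <;> decide
      have hne : s ≠ chevG2.neg 9 := by
        rw [neg9]
        omega
      exact x_commute_of_nil hG2 (by decide) hs12 h9 hne hnil 1 c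
  have hcen : ∀ y ∈ C0, y * t = t * y := by
    have hle : C0 ≤ Subgroup.centralizer {t} := by
      have hroot : ∀ s ∈ [9, 10, 11, 6, 5], chevG2.rootSubgroup F s ≤ Subgroup.centralizer {t} := by
        intro s hs
        unfold ChevalleyDatum.rootSubgroup
        rw [Subgroup.closure_le]
        rintro y ⟨c, hy⟩
        rw [SetLike.mem_coe, Subgroup.mem_centralizer_iff]
        rintro _ rfl
        apply Units.ext
        rw [Units.val_mul, Units.val_mul, ht, hy]
        exact (hgen s hs c).symm
      rw [hC0]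
      exact sup_le (sup_le (sup_le (sup_le (hroot 9 (by simp)) (hroot 10 (by simp)))
        (hroot 11 (by simp))) (hroot 6 (by simp))) (hroot 5 (by simp))
    intro y hy
    have := hle hy
    rw [Subgroup.mem_centralizer_iff] at this
    exact (this t rfl).symm
  have hC0G : C0 ≤ chevG2.group F := by
    have hroot : ∀ s < 12, chevG2.rootSubgroup F s ≤ chevG2.group F := by
      intro s hs
      unfold ChevalleyDatum.rootSubgroup
      rw [Subgroup.closure_le]
      rintro y ⟨c, hy⟩
      exact x_mem_group hs c y hy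
    rw [hC0]
    exact sup_le (sup_le (sup_le (sup_le (hroot 9 (by decide)) (hroot 10 (by decide)))
      (hroot 11 (by decide))) (hroot 6 (by decide))) (hroot 5 (by decide))
  refine cent_eq_of (F := F) hG2 (f := fun s => rc chevG2 s 0) (rc_isWt hG2 (by decide))
    (m := 2) (by norm_num) g_lt (Rl := [9, 10, 11]) (S := [9]) g_R
    (hstab (fun _ => True) [9] (by
      intro q hq12 hq6 _ r hr c hc
      have h1 := g_stab q hq12 hq6 r hr c hc
      simp only [List.mem_cons, List.not_mem_nil, or_false] at h1 ⊢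
      omega))
    (by simp) htw (by simp) (by
      intro a ha
      simp only [List.mem_cons, List.not_mem_nil, or_false] at ha
      subst ha
      simp [sumAt]) {1} g_weyl C0 ?_ ?_ hC0G hcen ?_ {(⟨0, by decide⟩ : Fin chevG2.rank)} ?_ ?_
  · -- the root subgroups of `Φ_J`
    intro r hr _ c y hy
    have h0 : cor chevG2 r 0 = 0 := hr.2 0 (by decide) (by simp)
    rcases g_sub r hr.1 h0 with rfl | rfl
    · exact hx 5 (by simp) c y hy
    · exact hx 6 (by simp) c y hy
  · intro j hj _ c y hy
    have hj1 : j = 1 := hj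
    subst hj1
    exact hx 5 (by simp) c y hy
  · -- the positive root elements
    intro k hk1 hk2
    have hk1' : 6 ≤ k := hk1
    have hk2' : k < 12 := hk2
    have hcases : k = 6 ∨ k = 7 ∨ k = 8 ∨ k = 9 ∨ k = 10 ∨ k = 11 := by omega
    rcases hcases with rfl | rfl | rfl | rfl | rfl | rfl
    · exact Or.inl (hx 6 (by simp))
    · right
      refine ⟨by simp, 10, by decide, hstab _ [10] ?_, ?_⟩
      · intro q hq12 _ hQ r hr c hc
        have := g_stab7 q hq12 hQ r hr c hc
        simp only [List.mem_cons, List.not_mem_nil, or_false]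
        omega
      · intro v hv
        simp only [conjW, List.flatMap_cons, List.flatMap_nil, ChevalleyDatum.commWord, g_c79,
          List.map_cons, List.map_nil, List.append_nil, sumAt, List.sum_cons, List.sum_nil] at hv
        norm_num at hv
        rw [h3] at hv
        simpa using hv
    · right
      refine ⟨by simp, 11, by decide, hstab _ [11] ?_, ?_⟩
      · intro q hq12 _ hQ r hr c hc
        have := g_stab8 q hq12 hQ r hr
        rw [this] at hc
        simp at hc
      · intro v hv
        simp only [conjW, List.flatMap_cons, List.flatMap_nil, ChevalleyDatum.commWord, g_c89,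
          List.map_cons, List.map_nil, List.append_nil, sumAt, List.sum_cons, List.sum_nil] at hv
        norm_num at hv
        rw [h3] at hv
        simpa using hv
    · exact Or.inl (hx 9 (by simp))
    · exact Or.inl (hx 10 (by simp))
    · exact Or.inl (hx 11 (by simp))
  · -- the good part of the torus
    intro i hi τ
    have hi1 : i = ⟨1, by decide⟩ := by
      have h0 : i.val ≠ 0 := fun h => hi (by rw [Finset.mem_singleton]; exact Fin.ext h)
      have h2 : i.val < 2 := i.isLt
      apply Fin.ext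
      show i.val = 1
      omega
    subst hi1
    exact hMat_mem_of hG2 (p := 6) (by decide) C0 (hx 6 (by simp)) (hx 5 (by simp))
      (Units.ne_zero τ) _ (torMap_mulSingle J H ⟨1, by decide⟩ τ)
  · -- the bad part of the torus
    intro cc hcc hchi
    have h1 : cc ⟨1, by decide⟩ = 1 := hcc ⟨1, by decide⟩ (by
      rw [Finset.mem_singleton]
      intro h
      exact absurd (Fin.mk.inj_iff.mp h) (by decide))
    have h9 := hchi 9 (by simp)
    unfold chiT at h9
    have e2 : (∏ i : Fin chevG2.rank, cc i ^ chevG2.cartan i.val 9) =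
        cc ⟨0, by decide⟩ ^ chevG2.cartan 0 9 * cc ⟨1, by decide⟩ ^ chevG2.cartan 1 9 :=
      Fin.prod_univ_two (fun i : Fin 2 => cc i ^ chevG2.cartan i.val 9)
    rw [e2, g_car0, g_car1, zpow_one, zpow_zero, mul_one] at h9
    funext i
    have h2 : i.val < 2 := i.isLt
    have : i = ⟨0, by decide⟩ ∨ i = ⟨1, by decide⟩ := by
      rcases Nat.lt_or_ge i.val 1 with h | h
      · left; apply Fin.ext; show i.val = 0; omega
      · right; apply Fin.ext; show i.val = 1; omega
    rcases this with rfl | rfl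
    · exact h9
    · exact h1

/-- Centralizers of the long and the short root involutions in `G₂(2ⁿ)`. -/
theorem result {F : Type*} [Field F] [Fintype F] [CharP F 2] (hF : 4 ≤ Fintype.card F) (z t : GL Cfsg.Lie.chevG2.Idx F) (hz : (z : Matrix Cfsg.Lie.chevG2.Idx Cfsg.Lie.chevG2.Idx F) = Cfsg.Lie.chevG2.x F 11 1) (ht : (t : Matrix Cfsg.Lie.chevG2.Idx Cfsg.Lie.chevG2.Idx F) = Cfsg.Lie.chevG2.x F 9 1) :
    Cfsg.Lie.chevG2.group F ⊓ Subgroup.centralizer {z} = Cfsg.Lie.chevG2.posUnipotent F ⊔ Cfsg.Lie.chevG2.rootSubgroup F 4 ∧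
    Cfsg.Lie.chevG2.group F ⊓ Subgroup.centralizer {t} = Cfsg.Lie.chevG2.rootSubgroup F 9 ⊔ Cfsg.Lie.chevG2.rootSubgroup F 10 ⊔ Cfsg.Lie.chevG2.rootSubgroup F 11 ⊔ Cfsg.Lie.chevG2.rootSubgroup F 6 ⊔ Cfsg.Lie.chevG2.rootSubgroup F 5 :=
  ⟨part1 z hz, part2 t ht⟩

end Cfsg.Agent.S2180
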