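import Cfsg.Statements.S2183
import Cfsg.Agent.Lib.Helper8.ChevTd14

set_option autoImplicit false
open Cfsg

namespace Cfsg.Agent.S2183

open Cfsg.Agent.Lib.Helper8.Chev Cfsg.Lie Matrix

/-- The twisted group ³D₄(q), q even, realised inside the Chevalley group of type D₄ over the field K with q³ elements, has exactly two conjugacy classes of elements of order 2. -/
theorem result {K : Type*} [Field K] [Fintype K] [CharP K 2] (q : ℕ) (hK : Fintype.card K = q ^ 3) :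
    (ConjClasses.mk '' {g : ↥(Cfsg.Lie.twistedD4 K q) | orderOf g = 2}).ncard = 2 := by
  classical
  have hq : IsPrimePow q := isPrimePow_of_card hK
  obtain ⟨φ, hφ, h3, X⟩ := exists_twGrp_D4 hq hK
  have hZm : tw φ 0 0 0 0 0 1 ∈ twistedD4 K q :=
    tw_mem X h3 (map_zero φ) (map_zero φ) (map_one φ) 0 0 0
  have hAm : tw φ 1 0 0 0 0 0 ∈ twistedD4 K q :=
    tw_mem X h3 (map_zero φ) (map_zero φ) (map_zero φ) 1 0 0
  have hZ1 : tw φ 0 0 0 0 0 1 ≠ 1 := by
    intro h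
    rw [← tw_zero φ] at h
    exact one_ne_zero (tw_inj h).2.2.2.2.2
  have hA1 : tw φ 1 0 0 0 0 0 ≠ 1 := by
    intro h
    rw [← tw_zero φ] at h
    exact one_ne_zero (tw_inj h).1
  have hZsq : tw φ 0 0 0 0 0 1 * tw φ 0 0 0 0 0 1 = 1 := by
    rw [tw_Z_eq, X4_add (by decide), d4c2_add_self, X4_zero (by decide)]
  have hAsq : tw φ 1 0 0 0 0 0 * tw φ 1 0 0 0 0 0 = 1 := tw_sq_A h3 1
  have hZord : orderOf (⟨tw φ 0 0 0 0 0 1, hZm⟩ : ↥(twistedD4 K q)) = 2 := by
    rw [Subgroup.orderOf_mk]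
    apply orderOf_eq_prime
    · rw [pow_two, hZsq]
    · exact hZ1
  have hAord : orderOf (⟨tw φ 1 0 0 0 0 0, hAm⟩ : ↥(twistedD4 K q)) = 2 := by
    rw [Subgroup.orderOf_mk]
    apply orderOf_eq_prime
    · rw [pow_two, hAsq]
    · exact hA1
  have hne : ConjClasses.mk (⟨tw φ 0 0 0 0 0 1, hZm⟩ : ↥(twistedD4 K q)) ≠
      ConjClasses.mk (⟨tw φ 1 0 0 0 0 0, hAm⟩ : ↥(twistedD4 K q)) := by
    intro h
    rw [ConjClasses.mk_eq_mk_iff_isConj, isConj_iff] at h
    obtain ⟨c, hc⟩ := h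
    apply hi_not_conj_A (F := K)
    refine ⟨c.1, X.le_grp c.2, ?_⟩
    have := congrArg Subtype.val hc
    simp only [Subgroup.coe_mul, Subgroup.coe_inv] at this
    rw [← tw_Z_eq (φ := φ), this]
    unfold tw
    simp only [map_one, map_zero]
  have hset : ConjClasses.mk '' {g : ↥(twistedD4 K q) | orderOf g = 2} =
      {ConjClasses.mk (⟨tw φ 0 0 0 0 0 1, hZm⟩ : ↥(twistedD4 K q)),
        ConjClasses.mk (⟨tw φ 1 0 0 0 0 0, hAm⟩ : ↥(twistedD4 K q))} := by
    ext c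
    constructor
    · rintro ⟨g, hg, rfl⟩
      have hg2 : orderOf (g : GL chevD4.Idx K) = 2 := by
        rw [Subgroup.orderOf_coe]
        exact hg
      rcases inv_classes_twD4 hK h3 X g.2 hg2 with ⟨h, hh, e⟩ | ⟨h, hh, e⟩
      · left
        rw [ConjClasses.mk_eq_mk_iff_isConj, isConj_iff]
        exact ⟨⟨h, hh⟩, Subtype.ext (by simpa using e)⟩
      · right
        rw [Set.mem_singleton_iff, ConjClasses.mk_eq_mk_iff_isConj, isConj_iff]
        exact ⟨⟨h, hh⟩, Subtype.ext (by simpa using e)⟩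
    · rintro (rfl | rfl)
      · exact ⟨_, hZord, rfl⟩
      · exact ⟨_, hAord, rfl⟩
  rw [hset, Set.ncard_pair hne]

end Cfsg.Agent.S2183
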