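import Cfsg.Statements.S2186
import Cfsg.Agent.Lib.Helper8.ChevHi9

set_option autoImplicit false
open Cfsg

namespace Cfsg.Agent.S2186

open Cfsg.Agent.Lib.Helper8.Chev

/-- Let G be the Chevalley group of type G₂ (over a field with at least four elements), D₄, E₆, E₇ or E₈ over a finite field F of characteristic two, and let X be the root subgroup of the highest root (the last root index) — a long root subgroup, of order |F|. For every g in G, the subgroup generated by X and its conjugate g X g⁻¹ is either a 2-group or is conjugate by an element of G to the subgroup generated by X and the root subgroup of the lowest root (index 0, the negative of the highest root), which is a copy of SL₂(F). -/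
theorem result {F : Type*} [Field F] [Fintype F] [CharP F 2] (D : Cfsg.Lie.ChevalleyDatum) (hD : D ∈ [Cfsg.Lie.chevG2, Cfsg.Lie.chevD4, Cfsg.Lie.chevE6, Cfsg.Lie.chevE7, Cfsg.Lie.chevE8]) (hF : D = Cfsg.Lie.chevG2 → 4 ≤ Fintype.card F) (g : GL D.Idx F) (hg : g ∈ D.group F) :
    IsPGroup 2 ↥(D.rootSubgroup F (D.nroots - 1) ⊔ (D.rootSubgroup F (D.nroots - 1)).map (MulAut.conj g).toMonoidHom) ∨
    ∃ h ∈ D.group F, (D.rootSubgroup F (D.nroots - 1) ⊔ (D.rootSubgroup F (D.nroots - 1)).map (MulAut.conj g).toMonoidHom).map (MulAut.conj h).toMonoidHom = D.rootSubgroup F (D.nroots - 1) ⊔ D.rootSubgroup F 0 := by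
  classical
  have hD' : D ∈ [Cfsg.Lie.chevG2, Cfsg.Lie.chevB2, Cfsg.Lie.chevD4, Cfsg.Lie.chevF4,
      Cfsg.Lie.chevE6, Cfsg.Lie.chevE7, Cfsg.Lie.chevE8] := by
    simp only [List.mem_cons, List.not_mem_nil, or_false] at hD ⊢
    tauto
  have V := valid0_of_mem hD'
  have V1 := valid1_of_mem hD'
  have J := validJ_of_mem hD'
  have H := validH_of_mem hD'
  have P := posP_of_mem hD'
  have hr := hi_lt hD'
  obtain ⟨b, hb, l, hl, u, hu, e⟩ := bruhat_exists_word hD' hg
  have huU : u ∈ D.posUnipotent F := unegS_le_pos _ (unegW_le_unegS hD' hl hu)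
  set X := D.rootSubgroup F (D.nroots - 1) with hX
  set s := reflWord D l (D.nroots - 1) with hs
  have hsl : s < D.nroots := reflWord_lt J H.nS hl hr
  -- the conjugate of `X` by `g`
  have hY : X.map (MulAut.conj g).toMonoidHom =
      (D.rootSubgroup F s).map (MulAut.conj b).toMonoidHom := by
    have e1 : (MulAut.conj g).toMonoidHom =
        ((MulAut.conj b).toMonoidHom.comp (MulAut.conj (nP D F l)).toMonoidHom).comp
          (MulAut.conj u).toMonoidHom := by
      ext x
      simp [e, MulAut.conj_apply, mul_assoc]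
    rw [e1, ← Subgroup.map_map, ← Subgroup.map_map,
      map_conj_of_mem_normalizer (borel_le_normalizer_hi hD' (pos_le_borel huU)),
      map_conj_nP hD' hl hr]
  have hXb : X = X.map (MulAut.conj b).toMonoidHom :=
    (map_conj_of_mem_normalizer (borel_le_normalizer_hi hD' hb)).symm
  have hXY : X ⊔ X.map (MulAut.conj g).toMonoidHom =
      (X ⊔ D.rootSubgroup F s).map (MulAut.conj b).toMonoidHom := by
    rw [Subgroup.map_sup, ← hXb, hY]
  rw [hXY]
  by_cases hs0 : s = 0
  · right
    refine ⟨b⁻¹, inv_mem (borel_le_group V V1 hb), ?_⟩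
    rw [Subgroup.map_map, hs0]
    have : (MulAut.conj b⁻¹).toMonoidHom.comp (MulAut.conj b).toMonoidHom =
        MonoidHom.id (GL D.Idx F) := by
      ext x
      simp [MulAut.conj_apply, mul_assoc]
    rw [this, Subgroup.map_id]
  · left
    obtain ⟨l', hl', h1, h2⟩ := hi_pair_pos hD hsl hs0
    have hp1 : D.IsPosRoot (reflWord D l' (D.nroots - 1)) :=
      (P _ (reflWord_lt J H.nS hl' hr)).1.mpr h1
    have hp2 : D.IsPosRoot (reflWord D l' s) := (P _ (reflWord_lt J H.nS hl' hsl)).1.mpr h2
    have hle : (X ⊔ D.rootSubgroup F s).map (MulAut.conj (nP D F l')).toMonoidHom ≤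
        D.posUnipotent F := by
      rw [Subgroup.map_sup, map_conj_nP hD' hl' hr, map_conj_nP hD' hl' hsl]
      exact sup_le (rootSubgroup_le_pos hp1) (rootSubgroup_le_pos hp2)
    have hU := isPGroup_pos (F := F) 2 hD'
    have h3 := (hU.to_le hle).map (MulAut.conj (nP D F l')⁻¹).toMonoidHom
    rw [Subgroup.map_map] at h3
    have : (MulAut.conj (nP D F l')⁻¹).toMonoidHom.comp (MulAut.conj (nP D F l')).toMonoidHom =
        MonoidHom.id (GL D.Idx F) := by
      ext x
      simp [MulAut.conj_apply, mul_assoc]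
    rw [this, Subgroup.map_id] at h3
    exact h3.map _

end Cfsg.Agent.S2186
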