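import Cfsg.Statements.S2221
import Cfsg.Agent.Lib.Helper4.SylAltG
import Cfsg.Agent.Lib.Helper28.SylAlt.Even
import Cfsg.Agent.Lib.Helper9.SylAltO1
import Cfsg.Agent.Lib.Helper9.SylAltS2
import Cfsg.Agent.Lib.Helper2.SylAltO2
import Cfsg.Agent.Lib.Helper2.SylAltD2
import Cfsg.Agent.Lib.Helper20.SylAltS1
import Cfsg.Agent.Lib.Helper20.SylAltS3
import Cfsg.Agent.Lib.Helper12.SylAltB3

set_option autoImplicit false
open Cfsg

namespace Cfsg.Agent.S2221

open Cfsg.Agent.Lib.Helper28.SylAlt Equiv in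
/-- Direct decomposability of the Sylow 2-subgroups of the alternating groups. Let n ≥ 4 and let P be a Sylow 2-subgroup of the alternating group of degree n. Then P is the internal direct product of two nontrivial subgroups if and only if n = 4, n = 5, or n ≡ 2, 3 (mod 4) with 4⌊n/4⌋ not a power of 2. In the remaining cases (n ≡ 0, 1 (mod 4) with n ≥ 8, or n ≡ 2, 3 (mod 4) with 4⌊n/4⌋ a power of 2) P is directly indecomposable. -/
theorem result (n : ℕ) (hn : 4 ≤ n)
    (P : Sylow 2 (alternatingGroup (Fin n))) :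
    (∃ S₁ S₂ : Subgroup (alternatingGroup (Fin n)), S₁ ≠ ⊥ ∧ S₂ ≠ ⊥ ∧
        Cfsg.IsInternalDirectProduct S₁ S₂ (P : Subgroup (alternatingGroup (Fin n)))) ↔
      (n = 4 ∨ n = 5 ∨ ((n % 4 = 2 ∨ n % 4 = 3) ∧ ∀ r : ℕ, 4 * (n / 4) ≠ 2 ^ r)) := by
  rw [decomp_iff_subgroup]
  obtain ⟨m, hm⟩ : ∃ m, n = 2 * m ∨ n = 2 * m + 1 := ⟨n / 2, by omega⟩
  have hm2 : 2 ≤ m := by omega
  let T : Sylow 2 (Perm (Fin m)) := default
  obtain ⟨e⟩ := exists_mulEquiv n (by omega) hm T P
  have key : Decomp ↥(P : Subgroup (alternatingGroup (Fin n))) ↔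
      Decomp ↥(Y (T : Subgroup (Perm (Fin m)))) :=
    ⟨decomp_of_mulEquiv e.symm, decomp_of_mulEquiv e⟩
  rw [key]
  have hT2 : IsPGroup 2 ↥(T : Subgroup (Perm (Fin m))) := T.isPGroup'
  by_cases h2 : m = 2
  · subst h2
    have hTtop : (T : Subgroup (Perm (Fin 2))) = ⊤ := by
      rw [← Subgroup.card_eq_iff_eq_top]
      rw [Sylow.card_eq_multiplicity, Nat.card_eq_fintype_card, Fintype.card_perm,
        Fintype.card_fin]
      norm_num
    constructor
    · intro _; omega
    · intro _; exact decomp_Y_two _ hTtop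
  rcases Nat.even_or_odd m with hev | hodd
  · -- m even, m ≥ 4
    have h4 : 4 ≤ m := by
      obtain ⟨k, hk⟩ := hev; omega
    constructor
    · intro h
      exact absurd h (indecomp_Y_even _ hT2 (by omega) (syl_no_fix T hev) (syl_OC T))
    · intro h
      exfalso
      obtain ⟨k, hk⟩ := hev
      omega
  · -- m odd, m ≥ 3
    have h3 : 3 ≤ m := by
      obtain ⟨k, hk⟩ := hodd; omega
    obtain ⟨a, ha⟩ := syl_exists_fix T hodd
    have hmod : n % 4 = 2 ∨ n % 4 = 3 := by
      obtain ⟨k, hk⟩ := hodd; omega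
    have h4n : 4 * (n / 4) = 2 * (m - 1) := by
      obtain ⟨k, hk⟩ := hodd; omega
    constructor
    · intro h
      right; right
      refine ⟨hmod, fun r hr => ?_⟩
      have hr1 : 1 ≤ r := by
        rcases r with _ | r
        · exfalso; rw [pow_zero] at hr; omega
        · omega
      obtain ⟨j, rfl⟩ : ∃ j, r = j + 1 := ⟨r - 1, by omega⟩
      have hmj : m = 2 ^ j + 1 := by
        rw [h4n, pow_succ] at hr; omega
      exact indecomp_Y_odd _ hT2 h3 hodd a ha (syl_trans_pow_succ T j hmj a ha) h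
    · rintro (h | h | ⟨-, h⟩)
      · omega
      · omega
      · by_contra hnd
        have htr : ∀ i i', i ≠ a → i' ≠ a → ∃ t ∈ T, t i = i' := by
          intro i i' hi hi'
          by_contra hno
          exact hnd (decomp_Y_odd _ (syl_OC T) a ha i i' hi hi' (by
            intro hmem
            obtain ⟨t, ht, hti⟩ := hmem
            exact hno ⟨t, ht, hti⟩))
        obtain ⟨j, hj⟩ := pow_of_trans _ hT2 (by omega) a ha htr
        apply h (j + 1)
        rw [h4n, hj, pow_succ]; omega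

end Cfsg.Agent.S2221
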