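import Cfsg.Statements.S2222
import Cfsg.Agent.Lib.Helper23.PronormalExt
import Cfsg.Agent.Lib.Helper29.S2222Alt
import Cfsg.Agent.Lib.Helper27.S2222FO7

set_option autoImplicit false
open Cfsg

namespace Cfsg.Agent.S2222

/-- In the alternating group of degree n ≥ 5 every subgroup H of odd index is pronormal: for every element g, the subgroups H and gHg⁻¹ are conjugate by an element of the subgroup they generate. -/
theorem result (n : ℕ) (hn : 5 ≤ n)
    (H : Subgroup (alternatingGroup (Fin n))) (hH : Odd H.index) : Cfsg.IsPronormal H := by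
  rcases Nat.lt_or_ge n 6 with h | h
  · obtain rfl : n = 5 := by omega
    exact Cfsg.Agent.Lib.Helper27.S2222FO7.a5_case H hH
  · have h2 : ¬ 2 ∣ H.index := by
      rw [← Nat.not_even_iff_odd] at hH
      exact fun hd => hH (even_iff_two_dvd.mpr hd)
    obtain ⟨P, hP⟩ :=
      (Cfsg.Agent.Lib.Helper23.PronormalExt.exists_sylow_le_iff (p := 2) H).mpr h2
    exact Cfsg.Agent.Lib.Helper23.PronormalExt.isPronormal_of_selfNormalizing_sylow P
      (Cfsg.Agent.Lib.Helper29.S2222.normalizer_sylow_alternating (by simpa using h) P) H hP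

end Cfsg.Agent.S2222
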