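import Cfsg.Statements.S2260

set_option autoImplicit false
open Cfsg

namespace Cfsg.Agent.S2260

/-- A nilpotent `d × d` matrix over a field has `d`-th power zero. -/
theorem nilpotent_pow_card {F : Type*} [Field F] {d : ℕ} (N : Matrix (Fin d) (Fin d) F)
    (hN : IsNilpotent N) : N ^ d = 0 := by
  have h1 := Matrix.isNilpotent_charpoly_sub_pow_of_isNilpotent hN
  have h2 : N.charpoly = Polynomial.X ^ d := by
    have := h1.eq_zero
    rw [sub_eq_zero] at this
    simpa using this
  have h3 := Matrix.aeval_self_charpoly N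
  rw [h2] at h3
  simpa using h3

/-- In characteristic `p`, `(1 + N)^(p^k) = 1 + N^(p^k)` for matrices. -/
theorem one_add_pow_char_pow {F : Type*} [Field F] (p : ℕ) [Fact p.Prime] [CharP F p] {d : ℕ}
    (hd : 0 < d) (N : Matrix (Fin d) (Fin d) F) (k : ℕ) :
    (1 + N) ^ (p ^ k) = 1 + N ^ (p ^ k) := by
  have : Nonempty (Fin d) := ⟨⟨0, hd⟩⟩
  have : CharP (Matrix (Fin d) (Fin d) F) p := Matrix.charP p
  rw [add_pow_char_pow_of_commute p k (Commute.one_left N), one_pow]

/-- Let F be a finite field of prime characteristic p and u an invertible d × d matrix over F with u − 1 nilpotent (a unipotent element). Then the order of u is at most p^⌈log_p d⌉; and if moreover (u − 1)^(d−1) ≠ 0 (u is a single Jordan block) then the order of u is exactly p^⌈log_p d⌉. -/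
theorem result {F : Type*} [Field F] [Finite F] (p : ℕ) [Fact p.Prime] [CharP F p] (d : ℕ)
    (u : GL (Fin d) F) (hu : IsNilpotent ((u : Matrix (Fin d) (Fin d) F) - 1)) :
    orderOf u ≤ p ^ Nat.clog p d ∧
    (((u : Matrix (Fin d) (Fin d) F) - 1) ^ (d - 1) ≠ 0 → orderOf u = p ^ Nat.clog p d) := by
  have hpp : p.Prime := Fact.out
  rcases Nat.eq_zero_or_pos d with rfl | hd
  · have : u = 1 := Subsingleton.elim _ _
    subst this
    refine ⟨by simp, fun h => ?_⟩
    exfalso; apply h; exact Subsingleton.elim _ _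
  set N := (u : Matrix (Fin d) (Fin d) F) - 1 with hN
  have huN : (u : Matrix (Fin d) (Fin d) F) = 1 + N := by rw [hN]; abel
  have hNd : N ^ d = 0 := nilpotent_pow_card N hu
  have hpow : ∀ k : ℕ, ((u ^ (p ^ k) : GL (Fin d) F) : Matrix (Fin d) (Fin d) F) = 1 + N ^ (p ^ k) := by
    intro k
    rw [Units.val_pow_eq_pow_val, huN, one_add_pow_char_pow p hd]
  have hle : d ≤ p ^ Nat.clog p d := Nat.le_pow_clog hpp.one_lt d
  have h1 : u ^ (p ^ Nat.clog p d) = 1 := by
    apply Units.ext
    rw [hpow, Units.val_one, pow_eq_zero_of_le hle hNd, add_zero]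
  have hdvd : orderOf u ∣ p ^ Nat.clog p d := orderOf_dvd_of_pow_eq_one h1
  refine ⟨Nat.le_of_dvd (pow_pos hpp.pos _) hdvd, fun hne => ?_⟩
  obtain ⟨j, hj, hoj⟩ := (Nat.dvd_prime_pow hpp).mp hdvd
  rcases Nat.lt_or_ge j (Nat.clog p d) with hlt | hge
  · exfalso
    have h2 : p ^ j < d := Nat.pow_lt_of_lt_clog hlt
    have h3 : p ^ j ≤ d - 1 := by omega
    have h4 : u ^ (p ^ j) = 1 := by rw [← hoj]; exact pow_orderOf_eq_one u
    have h5 := hpow j
    rw [h4, Units.val_one] at h5
    have h6 : N ^ (p ^ j) = 0 := by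
      have := h5
      calc N ^ (p ^ j) = (1 + N ^ (p ^ j)) - 1 := by abel
        _ = 0 := by rw [← this]; abel
    exact hne (pow_eq_zero_of_le h3 h6)
  · have : j = Nat.clog p d := le_antisymm hj hge
    rw [hoj, this]

end Cfsg.Agent.S2260
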