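import Cfsg.Statements.S2231
import Cfsg.Agent.Lib.Helper14.SL2Order
import Cfsg.Agent.S2260

set_option autoImplicit false
open Cfsg

namespace Cfsg.Agent.S2231

open Matrix Cfsg.Agent.Lib.Helper14

/-- All `p`-subgroups are abelian. -/
def AbP (p : ℕ) (G : Type*) [Group G] : Prop :=
  ∀ Q : Subgroup G, IsPGroup p Q → ∀ a ∈ Q, ∀ b ∈ Q, a * b = b * a

theorem AbP.of_injective {p : ℕ} {G H : Type*} [Group G] [Group H] (f : H →* G)
    (hf : Function.Injective f) (h : AbP p G) : AbP p H := by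
  intro Q hQ a ha b hb
  apply hf
  rw [map_mul, map_mul]
  exact h (Q.map f) (hQ.map f) _ (Subgroup.mem_map_of_mem f ha) _ (Subgroup.mem_map_of_mem f hb)

theorem AbP.of_surjective {p : ℕ} [Fact p.Prime] {G H : Type*} [Group G] [Finite G] [Group H]
    (f : G →* H) (hf : Function.Surjective f) (h : AbP p G) : AbP p H := by
  intro Q hQ a ha b hb
  have hg : Function.Surjective (f.subgroupComap Q) :=
    MonoidHom.subgroupComap_surjective_of_surjective f Q hf
  obtain ⟨P⟩ : Nonempty (Sylow p (Q.comap f)) := inferInstance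
  have htop : (⊤ : Subgroup Q) = (P.mapSurjective hg : Subgroup Q) := by
    apply (P.mapSurjective hg).is_maximal' _ le_top
    exact hQ.to_subgroup ⊤
  have key : ∀ c (hc : c ∈ Q), ∃ x : Q.comap f, x ∈ P ∧ f x = c := by
    intro c hc
    have : (⟨c, hc⟩ : Q) ∈ (P.mapSurjective hg : Subgroup Q) := by rw [← htop]; trivial
    rw [Sylow.coe_mapSurjective] at this
    obtain ⟨x, hx, hxc⟩ := this
    exact ⟨x, hx, congrArg Subtype.val hxc⟩
  obtain ⟨x, hx, rfl⟩ := key a ha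
  obtain ⟨y, hy, rfl⟩ := key b hb
  have := h ((P : Subgroup (Q.comap f)).map (Q.comap f).subtype) (P.2.map _) x
    (Subgroup.mem_map_of_mem _ hx) y (Subgroup.mem_map_of_mem _ hy)
  have h2 : ((x * y : Q.comap f) : G) = ((y * x : Q.comap f) : G) := this
  rw [← map_mul, ← map_mul]
  exact congrArg f h2

theorem AbP.of_involves {p : ℕ} [Fact p.Prime] {G H : Type*} [Group G] [Finite G] [Group H]
    (h : AbP p G) (hI : Cfsg.Involves H G) : AbP p H := by
  obtain ⟨K, R, hn, ⟨e⟩⟩ := hI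
  have h1 : AbP p K := h.of_injective K.subtype K.subtype_injective
  have h2 : AbP p (K ⧸ R.subgroupOf K) :=
    h1.of_surjective (QuotientGroup.mk' _) (QuotientGroup.mk'_surjective _)
  exact h2.of_injective e.symm.toMonoidHom e.symm.injective

/-- Upper unitriangular predicate on `3 × 3` matrices. -/
def IsUT {R : Type*} [CommRing R] (M : Matrix (Fin 3) (Fin 3) R) : Prop :=
  M 0 0 = 1 ∧ M 1 1 = 1 ∧ M 2 2 = 1 ∧ M 1 0 = 0 ∧ M 2 0 = 0 ∧ M 2 1 = 0

theorem IsUT.eq {R : Type*} [CommRing R] {M : Matrix (Fin 3) (Fin 3) R} (h : IsUT M) :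
    M = !![1, M 0 1, M 0 2; 0, 1, M 1 2; 0, 0, 1] := by
  obtain ⟨h1, h2, h3, h4, h5, h6⟩ := h
  ext i j
  fin_cases i <;> fin_cases j <;> simp [h1, h2, h3, h4, h5, h6]

theorem isUT_of (R : Type*) [CommRing R] (a b c : R) : IsUT !![1, a, b; 0, 1, c; 0, 0, 1] := by
  refine ⟨?_, ?_, ?_, ?_, ?_, ?_⟩ <;> simp

theorem IsUT.mul {R : Type*} [CommRing R] {M N : Matrix (Fin 3) (Fin 3) R} (hM : IsUT M)
    (hN : IsUT N) : IsUT (M * N) := by
  rw [hM.eq, hN.eq, Matrix.mul_fin_three]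
  simp only [mul_one, mul_zero, zero_mul, add_zero, zero_add, one_mul]
  exact isUT_of _ _ _ _

theorem IsUT.one {R : Type*} [CommRing R] : IsUT (1 : Matrix (Fin 3) (Fin 3) R) := by
  refine ⟨?_, ?_, ?_, ?_, ?_, ?_⟩ <;> simp

theorem IsUT.adjugate {R : Type*} [CommRing R] {M : Matrix (Fin 3) (Fin 3) R} (hM : IsUT M) :
    IsUT M.adjugate := by
  rw [hM.eq, Matrix.adjugate_fin_three_of]
  simp only [mul_one, mul_zero, add_zero, one_mul, sub_zero, neg_zero]
  exact isUT_of _ _ _ _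

/-- The upper unitriangular subgroup of `SL₃(R)`. -/
def UT (R : Type*) [CommRing R] : Subgroup (SpecialLinearGroup (Fin 3) R) where
  carrier := {M | IsUT (M : Matrix (Fin 3) (Fin 3) R)}
  mul_mem' := fun {a b} ha hb => by
    exact IsUT.mul (M := a.1) (N := b.1) ha hb
  one_mem' := by
    exact IsUT.one (R := R)
  inv_mem' := fun {a} ha => by
    exact IsUT.adjugate (M := a.1) ha

theorem IsUT.sub_one_pow_three {R : Type*} [CommRing R] {M : Matrix (Fin 3) (Fin 3) R}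
    (hM : IsUT M) : (M - 1) ^ 3 = 0 := by
  have h : M - 1 = !![0, M 0 1, M 0 2; 0, 0, M 1 2; 0, 0, 0] := by
    obtain ⟨h1, h2, h3, h4, h5, h6⟩ := hM
    ext i j
    fin_cases i <;> fin_cases j <;> simp [h1, h2, h3, h4, h5, h6]
  rw [h, pow_succ, pow_succ, pow_one, Matrix.mul_fin_three, Matrix.mul_fin_three]
  ext i j
  fin_cases i <;> fin_cases j <;> simp

theorem isPGroup_UT (p : ℕ) [Fact p.Prime] (hp : p ≠ 2) : IsPGroup p (UT (ZMod p)) := by
  have hpp : p.Prime := Fact.out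
  rintro ⟨M, hM⟩
  refine ⟨1, ?_⟩
  apply Subtype.ext
  apply Subtype.ext
  refine (Matrix.SpecialLinearGroup.coe_pow M (p ^ 1)).trans ?_
  have h1 : (M : Matrix (Fin 3) (Fin 3) (ZMod p)) = 1 + ((M : Matrix (Fin 3) (Fin 3) (ZMod p)) - 1) := by
    abel
  rw [h1, Cfsg.Agent.S2260.one_add_pow_char_pow p (by norm_num)]
  have h3 : 3 ≤ p := by
    have := hpp.two_le
    omega
  have : ((M : Matrix (Fin 3) (Fin 3) (ZMod p)) - 1) ^ (p ^ 1) = 0 := by
    rw [pow_one]
    exact pow_eq_zero_of_le h3 (IsUT.sub_one_pow_three hM)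
  rw [this, add_zero]
  rfl

theorem not_abP_qd (p : ℕ) [Fact p.Prime] (hp : p ≠ 2) : ¬ AbP p (Cfsg.qd p) := by
  intro h
  let x : SpecialLinearGroup (Fin 3) (ZMod p) :=
    ⟨!![1, 1, 0; 0, 1, 0; 0, 0, 1], by simp [Matrix.det_fin_three]⟩
  let y : SpecialLinearGroup (Fin 3) (ZMod p) :=
    ⟨!![1, 0, 0; 0, 1, 1; 0, 0, 1], by simp [Matrix.det_fin_three]⟩
  have hx : x ∈ Cfsg.qd p := Subgroup.subset_closure (by
    show (!![1, 1, 0; 0, 1, 0; 0, 0, 1] : Matrix (Fin 3) (Fin 3) (ZMod p)) 2 0 = 0 ∧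
      (!![1, 1, 0; 0, 1, 0; 0, 0, 1] : Matrix (Fin 3) (Fin 3) (ZMod p)) 2 1 = 0 ∧
      (!![1, 1, 0; 0, 1, 0; 0, 0, 1] : Matrix (Fin 3) (Fin 3) (ZMod p)) 2 2 = 1
    simp)
  have hy : y ∈ Cfsg.qd p := Subgroup.subset_closure (by
    show (!![1, 0, 0; 0, 1, 1; 0, 0, 1] : Matrix (Fin 3) (Fin 3) (ZMod p)) 2 0 = 0 ∧
      (!![1, 0, 0; 0, 1, 1; 0, 0, 1] : Matrix (Fin 3) (Fin 3) (ZMod p)) 2 1 = 0 ∧
      (!![1, 0, 0; 0, 1, 1; 0, 0, 1] : Matrix (Fin 3) (Fin 3) (ZMod p)) 2 2 = 1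
    simp)
  have hxT : x ∈ UT (ZMod p) := isUT_of _ _ _ _
  have hyT : y ∈ UT (ZMod p) := isUT_of _ _ _ _
  have hQ : IsPGroup p ((UT (ZMod p)).subgroupOf (Cfsg.qd p)) :=
    (isPGroup_UT p hp).comap_subtype
  have hc := h _ hQ ⟨x, hx⟩ (Subgroup.mem_subgroupOf.mpr hxT) ⟨y, hy⟩ (Subgroup.mem_subgroupOf.mpr hyT)
  have hc2 : x * y = y * x := congrArg Subtype.val hc
  have hc3 : (!![1, 1, 0; 0, 1, 0; 0, 0, 1] : Matrix (Fin 3) (Fin 3) (ZMod p)) *
      !![1, 0, 0; 0, 1, 1; 0, 0, 1] = !![1, 0, 0; 0, 1, 1; 0, 0, 1] * !![1, 1, 0; 0, 1, 0; 0, 0, 1] :=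
    congrArg Subtype.val hc2
  rw [Matrix.mul_fin_three, Matrix.mul_fin_three] at hc3
  have hc4 := congrFun (congrFun hc3 0) 2
  simp at hc4

/-- The unipotent root subgroup homomorphism `b ↦ [[1, b], [0, 1]]`. -/
def uHom (K : Type*) [Field K] : Multiplicative K →* SpecialLinearGroup (Fin 2) K where
  toFun b := upperSL 1 (Multiplicative.toAdd b) (one_mul 1)
  map_one' := by
    apply Subtype.ext
    simp [Matrix.one_fin_two]
  map_mul' a b := by
    apply Subtype.ext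
    show !![(1 : K), Multiplicative.toAdd (a * b); 0, 1] =
      !![(1 : K), Multiplicative.toAdd a; 0, 1] * !![(1 : K), Multiplicative.toAdd b; 0, 1]
    rw [Matrix.mul_fin_two]
    apply mat2_mk_eq <;> simp [add_comm]

theorem uHom_injective (K : Type*) [Field K] : Function.Injective (uHom K) := by
  intro a b h
  have h1 : (!![(1 : K), Multiplicative.toAdd a; 0, 1] : Matrix (Fin 2) (Fin 2) K) 0 1 =
      (!![(1 : K), Multiplicative.toAdd b; 0, 1] : Matrix (Fin 2) (Fin 2) K) 0 1 :=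
    congrArg (fun z : SpecialLinearGroup (Fin 2) K => (z : Matrix (Fin 2) (Fin 2) K) 0 1) h
  simpa using h1

theorem abP_SL2 (p : ℕ) [Fact p.Prime] (K : Type*) [Field K] [Fintype K] [CharP K p] :
    AbP p (SpecialLinearGroup (Fin 2) K) := by
  classical
  have hpp : p.Prime := Fact.out
  obtain ⟨n, -, hn⟩ := FiniteField.card K p
  set U : Subgroup (SpecialLinearGroup (Fin 2) K) := (uHom K).range with hU
  have hUcard : Nat.card U = p ^ (n : ℕ) := by
    rw [hU, Nat.card_congr (MonoidHom.ofInjective (uHom_injective K)).toEquiv.symm, ← hn,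
      Nat.card_eq_fintype_card, Fintype.card_multiplicative]
  have hUp : IsPGroup p U := IsPGroup.of_card hUcard
  have hG : Nat.card (SpecialLinearGroup (Fin 2) K) = p ^ (n : ℕ) * ((p ^ (n : ℕ)) ^ 2 - 1) := by
    rw [card_SL2, hn]
  have hidx : ¬ p ∣ U.index := by
    have h1 := U.card_mul_index
    rw [hUcard, hG] at h1
    have h2 : U.index = (p ^ (n : ℕ)) ^ 2 - 1 :=
      Nat.eq_of_mul_eq_mul_left (pow_pos hpp.pos _) h1
    rw [h2]
    intro hdvd
    have h3 : p ∣ (p ^ (n : ℕ)) ^ 2 := by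
      rw [← pow_mul]
      exact dvd_pow_self p (by have := n.pos; positivity)
    have h4 : 1 ≤ (p ^ (n : ℕ)) ^ 2 := Nat.one_le_pow _ _ (pow_pos hpp.pos _)
    have h5 : p ∣ 1 := by
      have := Nat.dvd_sub h3 hdvd
      rwa [Nat.sub_sub_self h4] at this
    exact hpp.one_lt.ne' (Nat.dvd_one.mp h5)
  let P : Sylow p (SpecialLinearGroup (Fin 2) K) := hUp.toSylow hidx
  intro Q hQ a ha b hb
  obtain ⟨P', hP'⟩ := hQ.exists_le_sylow
  obtain ⟨g, hg⟩ := MulAction.exists_smul_eq (SpecialLinearGroup (Fin 2) K) P P'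
  have key : ∀ c ∈ Q, ∃ u : Multiplicative K, c = g * uHom K u * g⁻¹ := by
    intro c hc
    have h1 : c ∈ ((g • P : Sylow p (SpecialLinearGroup (Fin 2) K)) :
        Subgroup (SpecialLinearGroup (Fin 2) K)) := by rw [hg]; exact hP' hc
    rw [Sylow.coe_subgroup_smul, Subgroup.mem_smul_pointwise_iff_exists] at h1
    obtain ⟨s, hs, rfl⟩ := h1
    have h2 : s ∈ U := hs
    obtain ⟨u, rfl⟩ := h2
    exact ⟨u, rfl⟩
  obtain ⟨u, rfl⟩ := key a ha
  obtain ⟨v, rfl⟩ := key b hb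
  have hcomm : uHom K u * uHom K v = uHom K v * uHom K u := by
    rw [← map_mul, ← map_mul, mul_comm]
  calc g * uHom K u * g⁻¹ * (g * uHom K v * g⁻¹) = g * (uHom K u * uHom K v) * g⁻¹ := by group
    _ = g * (uHom K v * uHom K u) * g⁻¹ := by rw [hcomm]
    _ = g * uHom K v * g⁻¹ * (g * uHom K u * g⁻¹) := by group

/-- Let p be an odd prime and K a finite field of characteristic p. Then Qd(p) (the natural semidirect product of an elementary abelian group of order p² by SL₂(p)) is not involved in the projective special linear group PSL₂(K). -/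
theorem result {p : ℕ} [Fact p.Prime] (hp : p ≠ 2) {K : Type*} [Field K] [Fintype K] [CharP K p] : ¬ Cfsg.Involves ↥(Cfsg.qd p) (Matrix.ProjectiveSpecialLinearGroup (Fin 2) K) := by
  classical
  intro hI
  have h1 : AbP p (SpecialLinearGroup (Fin 2) K) := abP_SL2 p K
  have h2 : AbP p (Matrix.ProjectiveSpecialLinearGroup (Fin 2) K) :=
    h1.of_surjective (QuotientGroup.mk' _) (QuotientGroup.mk'_surjective _)
  exact not_abP_qd p hp (h2.of_involves hI)

end Cfsg.Agent.S2231
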