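import Mathlib
import Cfsg.Statements.S2240
import Cfsg.Agent.Lib.Helper3.Suzuki13

set_option autoImplicit false
open Cfsg

namespace Cfsg.Agent.S2240

open Cfsg.Agent.Lib.Helper3.Sz

section

variable {F : Type*} [Field F] [Fintype F] {m : ℕ} (hF : Fintype.card F = 2 ^ (2 * m + 1))
  (hm : 1 ≤ m)

include hm in
lemma zS_mul (b b' : F) : tS hF (0 : F) b * tS hF 0 b' = tS hF 0 (b + b') := by
  rw [tS_mul hF hm]
  congr 1
  · ring
  · rw [zero_pow (by positivity), zero_mul, add_zero, add_comm]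

include hm in
lemma zS_comm_tS (c d β : F) : tS hF c d * tS hF 0 β = tS hF 0 β * tS hF c d := by
  rw [tS_mul hF hm, tS_mul hF hm]
  congr 1
  · ring
  · rw [zero_pow (by positivity)]; ring

include hm in
lemma zS_ne_one {b : F} (hb : b ≠ 0) : tS hF (0 : F) b ≠ 1 := by
  intro h
  rw [← tS_zero_zero hF hm] at h
  exact hb (tS_injective hF h).2

include hm in
/-- conjugation of a central translation by an element fixing the point at infinity -/
lemma conj_zS (c d : F) (k : Fˣ) (β : F) :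
    (tS hF c d * kS hF k) * tS hF 0 β * (tS hF c d * kS hF k)⁻¹
      = tS hF 0 ((k : F) ^ (2 ^ (m + 1) + 1) * β) := by
  rw [mul_assoc (tS hF c d), kS_tS hF hm, mul_zero, mul_inv_rev]
  have : tS hF c d * (tS hF 0 ((k : F) ^ (2 ^ (m + 1) + 1) * β) * kS hF k)
      * ((kS hF k)⁻¹ * (tS hF c d)⁻¹)
      = tS hF c d * tS hF 0 ((k : F) ^ (2 ^ (m + 1) + 1) * β) * (tS hF c d)⁻¹ := by group
  rw [this, zS_comm_tS hF hm, mul_inv_cancel_right]

include hm in
/-- the involutions of the translation group are central -/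
lemma eq_zS_of_sq {x : Sz F m} (hx : x ∈ transGroup hF hm) (h2 : x * x = 1) :
    ∃ b, x = tS hF 0 b := by
  obtain ⟨a, b, rfl⟩ := (mem_transGroup hF hm x).1 hx
  rw [tS_sq hF hm, ← tS_zero_zero hF hm] at h2
  have h3 := (tS_injective hF h2).2
  have ha : a = 0 := by
    rcases mul_eq_zero.1 h3 with h | h
    · exact pow_eq_zero_iff (by positivity) |>.1 h
    · exact h
  exact ⟨b, by rw [ha]⟩

include hm in
/-- the translation group is a trivial intersection subgroup -/
lemma mem_stabInf_of_conj {t x : Sz F m} (ht : t ∈ transGroup hF hm) (ht1 : t ≠ 1)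
    (hx : x * t * x⁻¹ ∈ transGroup hF hm) : x ∈ stabInf F m := by
  have h1 : x * t * x⁻¹ ≠ 1 := by
    intro h; apply ht1
    have : t = x⁻¹ * (x * t * x⁻¹) * x := by group
    rw [this, h]; group
  apply eq_inf_of_fix hF hm hx h1 x
  show (x.1 * t.1 * x.1⁻¹) • (x.1 • suzukiPointInfinity F) = _
  rw [← mul_smul, inv_mul_cancel_right, mul_smul]
  congr 1
  obtain ⟨a, b, rfl⟩ := (mem_transGroup hF hm t).1 ht
  exact transS_inf hF a b

/-- the conjugate by `h` of the group of central translations with parameter in `V` -/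
def EV (h : Sz F m) (V : AddSubgroup F) : Subgroup (Sz F m) where
  carrier := {x | ∃ b ∈ V, x = h * tS hF 0 b * h⁻¹}
  mul_mem' := by
    rintro _ _ ⟨b, hb, rfl⟩ ⟨b', hb', rfl⟩
    refine ⟨b + b', V.add_mem hb hb', ?_⟩
    rw [← zS_mul hF hm b b']; group
  one_mem' := ⟨0, V.zero_mem, by rw [tS_zero_zero hF hm]; group⟩
  inv_mem' := by
    rintro _ ⟨b, hb, rfl⟩
    refine ⟨b, hb, ?_⟩
    have : (tS hF (0 : F) b)⁻¹ = tS hF 0 b := by
      rw [inv_eq_iff_mul_eq_one, tS_zero_sq hF hm]
    rw [mul_inv_rev, mul_inv_rev, inv_inv, this, mul_assoc]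

lemma mem_EV (h : Sz F m) (V : AddSubgroup F) (x : Sz F m) :
    x ∈ EV hF hm h V ↔ ∃ b ∈ V, x = h * tS hF 0 b * h⁻¹ := Iff.rfl

lemma card_EV (h : Sz F m) (V : AddSubgroup F) : Nat.card (EV hF hm h V) = Nat.card V := by
  symm
  apply Nat.card_congr
  refine Equiv.ofBijective (fun b => ⟨h * tS hF 0 b.1 * h⁻¹, ⟨b.1, b.2, rfl⟩⟩) ⟨?_, ?_⟩
  · intro b b' hbb
    have h1 : h * tS hF 0 b.1 * h⁻¹ = h * tS hF 0 b'.1 * h⁻¹ := congrArg Subtype.val hbb
    have h2 : tS hF (0 : F) b.1 = tS hF 0 b'.1 := by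
      have := congrArg (fun y => h⁻¹ * y * h) h1
      simpa [mul_assoc] using this
    exact Subtype.ext (tS_injective hF h2).2
  · rintro ⟨x, b, hb, rfl⟩
    exact ⟨⟨b, hb⟩, rfl⟩

lemma EV_elem (h : Sz F m) (V : AddSubgroup F) : IsElementaryAbelian 2 (EV hF hm h V) := by
  constructor
  · refine ⟨⟨?_⟩⟩
    rintro ⟨_, b, hb, rfl⟩ ⟨_, b', hb', rfl⟩
    apply Subtype.ext
    show h * tS hF 0 b * h⁻¹ * (h * tS hF 0 b' * h⁻¹) = h * tS hF 0 b' * h⁻¹ * (h * tS hF 0 b * h⁻¹)
    have e1 : h * tS hF 0 b * h⁻¹ * (h * tS hF 0 b' * h⁻¹) = h * (tS hF 0 b * tS hF 0 b') * h⁻¹ := by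
      group
    have e2 : h * tS hF 0 b' * h⁻¹ * (h * tS hF 0 b * h⁻¹) = h * (tS hF 0 b' * tS hF 0 b) * h⁻¹ := by
      group
    rw [e1, e2, zS_mul hF hm, zS_mul hF hm, add_comm]
  · rintro _ ⟨b, hb, rfl⟩
    have e1 : (h * tS hF 0 b * h⁻¹) ^ 2 = h * (tS hF 0 b * tS hF 0 b) * h⁻¹ := by
      rw [pow_two]; group
    rw [e1, tS_zero_sq hF hm]; group

end

/-- a finite additive subgroup stable under the multipliers it "meets" comes from a subfield -/
lemma dvd_of_TI {F : Type*} [Field F] [Fintype F] (V : AddSubgroup F) (n : ℕ) (hn : 2 ≤ n)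
    (hV : Nat.card V = 2 ^ n) (k : ℕ) (hF : Fintype.card F = 2 ^ k)
    (hTI : ∀ l : F, l ≠ 0 → (∃ v ∈ V, v ≠ 0 ∧ l * v ∈ V) → ∀ v ∈ V, l * v ∈ V) : n ∣ k := by
  classical
  -- a non-zero element of `V`
  have hfinV : Finite V := inferInstance
  have hnt : Nontrivial V := by
    rw [← Finite.one_lt_card_iff_nontrivial, hV]
    exact Nat.one_lt_two_pow (by omega)
  obtain ⟨⟨v0, hv0V⟩, hv0⟩ := exists_ne (0 : V)
  have hv0' : v0 ≠ 0 := fun h => hv0 (Subtype.ext h)
  -- the multiplier ring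
  have hinvmem : ∀ l : F, l ≠ 0 → (∀ v ∈ V, l * v ∈ V) → ∀ v ∈ V, l⁻¹ * v ∈ V := by
    intro l hl hlV v hv
    let φ : V → V := fun w => ⟨l * w.1, hlV w.1 w.2⟩
    have hφ : Function.Injective φ := by
      intro w w' hww
      have : l * w.1 = l * w'.1 := congrArg Subtype.val hww
      exact Subtype.ext (mul_left_cancel₀ hl this)
    obtain ⟨w, hw⟩ := (Finite.injective_iff_surjective.1 hφ) ⟨v, hv⟩
    have : l * w.1 = v := congrArg Subtype.val hw
    rw [← this, inv_mul_cancel_left₀ hl]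
    exact w.2
  let S : Subfield F :=
    { carrier := {l | ∀ v ∈ V, l * v ∈ V}
      mul_mem' := by
        intro a b ha hb v hv
        rw [mul_assoc]; exact ha _ (hb v hv)
      one_mem' := by intro v hv; rwa [one_mul]
      add_mem' := by
        intro a b ha hb v hv
        rw [add_mul]; exact V.add_mem (ha v hv) (hb v hv)
      zero_mem' := by intro v _; rw [zero_mul]; exact V.zero_mem
      neg_mem' := by
        intro a ha v hv
        rw [neg_mul]; exact V.neg_mem (ha v hv)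
      inv_mem' := by
        intro a ha
        by_cases h0 : a = 0
        · rw [h0, inv_zero]; intro v _; rw [zero_mul]; exact V.zero_mem
        · exact hinvmem a h0 ha }
  have hcardS : Nat.card S = 2 ^ n := by
    rw [← hV]
    apply Nat.card_congr
    refine Equiv.ofBijective (fun l => ⟨l.1 * v0, l.2 v0 hv0V⟩) ⟨?_, ?_⟩
    · intro l l' hll
      have : l.1 * v0 = l'.1 * v0 := congrArg Subtype.val hll
      exact Subtype.ext (mul_right_cancel₀ hv0' this)
    · rintro ⟨v, hv⟩
      by_cases h0 : v = 0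
      · refine ⟨⟨0, S.zero_mem⟩, ?_⟩
        apply Subtype.ext
        show (0 : F) * v0 = v
        rw [h0, zero_mul]
      · have hl : v / v0 ≠ 0 := div_ne_zero h0 hv0'
        have hmem : v / v0 ∈ S := by
          show ∀ w ∈ V, v / v0 * w ∈ V
          apply hTI _ hl
          exact ⟨v0, hv0V, hv0', by rw [div_mul_cancel₀ _ hv0']; exact hv⟩
        refine ⟨⟨v / v0, hmem⟩, ?_⟩
        apply Subtype.ext
        show v / v0 * v0 = v
        rw [div_mul_cancel₀ _ hv0']
  have h1 : Nat.card F = Nat.card S ^ Module.finrank S F := Module.natCard_eq_pow_finrank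
  rw [Nat.card_eq_fintype_card, hF, hcardS, ← pow_mul] at h1
  have := Nat.pow_right_injective (le_refl 2) h1
  exact ⟨_, this⟩

theorem result {F : Type*} [Field F] [Fintype F] {m : ℕ} (hm : 1 ≤ m) (hF : Fintype.card F = 2 ^ (2 * m + 1)) (n : ℕ) (hn : 2 ≤ n) :
    (∃ E : Subgroup ↥(Cfsg.Sz F m), Cfsg.IsElementaryAbelian 2 E ∧ Nat.card ↥E = 2 ^ n ∧
      ∀ x : ↥(Cfsg.Sz F m), E ⊓ E.map (MulAut.conj x).toMonoidHom ≠ ⊥ → x ∈ Subgroup.normalizer (E : Set ↥(Cfsg.Sz F m))) ↔ n ∣ 2 * m + 1 := by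
  classical
  have hfin : Finite (Sz F m) := finite_Sz
  constructor
  · rintro ⟨E, ⟨hcomm, hexp⟩, hcard, hTI⟩
    have : Fact (Nat.Prime 2) := ⟨Nat.prime_two⟩
    -- `E` lies in a Sylow 2-subgroup
    have hp : IsPGroup 2 E := by
      intro x
      refine ⟨1, ?_⟩
      apply Subtype.ext
      rw [pow_one]
      exact hexp x.1 x.2
    obtain ⟨P, hEP⟩ := hp.exists_le_sylow
    obtain ⟨h, hh⟩ := exists_conj_transGroup hF hm P
    -- the parameters
    let V : AddSubgroup F :=
      { carrier := {b | h * tS hF 0 b * h⁻¹ ∈ E}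
        add_mem' := by
          intro b b' hb hb'
          have : h * tS hF 0 (b + b') * h⁻¹ = (h * tS hF 0 b * h⁻¹) * (h * tS hF 0 b' * h⁻¹) := by
            rw [← zS_mul hF hm]; group
          show h * tS hF 0 (b + b') * h⁻¹ ∈ E
          rw [this]; exact E.mul_mem hb hb'
        zero_mem' := by
          show h * tS hF 0 0 * h⁻¹ ∈ E
          rw [tS_zero_zero hF hm]
          simp
        neg_mem' := by
          intro b hb
          show h * tS hF 0 (-b) * h⁻¹ ∈ E
          rw [neg_eq hF]; exact hb }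
    have hEV : E = EV hF hm h V := by
      ext x
      rw [mem_EV]
      constructor
      · intro hx
        have h1 : h⁻¹ * x * h ∈ transGroup hF hm := (hh x).1 (hEP hx)
        have h2 : (h⁻¹ * x * h) * (h⁻¹ * x * h) = 1 := by
          have : (h⁻¹ * x * h) * (h⁻¹ * x * h) = h⁻¹ * x ^ 2 * h := by rw [pow_two]; group
          rw [this, hexp x hx]; group
        obtain ⟨b, hb⟩ := eq_zS_of_sq hF hm h1 h2
        have hx' : x = h * tS hF 0 b * h⁻¹ := by rw [← hb]; group
        refine ⟨b, ?_, hx'⟩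
        show h * tS hF 0 b * h⁻¹ ∈ E
        rw [← hx']; exact hx
      · rintro ⟨b, hb, rfl⟩
        exact hb
    have hcardV : Nat.card V = 2 ^ n := by rw [← card_EV hF hm h V, ← hEV, hcard]
    apply dvd_of_TI V n hn hcardV (2 * m + 1) hF
    rintro l hl ⟨v, hvV, hv0, hlv⟩ v' hv'
    obtain ⟨k0, hk0⟩ := pow_sig_succ_surjective hF l
    have hk0 : k0 ^ (2 ^ (m + 1) + 1) = l := hk0
    have hk0' : k0 ≠ 0 := by
      rintro rfl
      rw [zero_pow (Nat.succ_ne_zero _)] at hk0
      exact hl hk0.symm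
    let k : Fˣ := Units.mk0 k0 hk0'
    have hk : (k : F) ^ (2 ^ (m + 1) + 1) = l := hk0
    let x : Sz F m := h * kS hF k * h⁻¹
    have hconj : ∀ β : F, x * (h * tS hF 0 β * h⁻¹) * x⁻¹ = h * tS hF 0 (l * β) * h⁻¹ := by
      intro β
      have h1 := conj_zS hF hm 0 0 k β
      rw [tS_zero_zero hF hm, one_mul, hk] at h1
      rw [← h1]
      show h * kS hF k * h⁻¹ * (h * tS hF 0 β * h⁻¹) * (h * kS hF k * h⁻¹)⁻¹ = _
      group
    have hx : x ∈ Subgroup.normalizer (E : Set (Sz F m)) := by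
      apply hTI
      intro hbot
      have hmem : h * tS hF 0 (l * v) * h⁻¹ ∈ E ⊓ E.map (MulAut.conj x).toMonoidHom := by
        refine ⟨hlv, ?_⟩
        refine ⟨h * tS hF 0 v * h⁻¹, hvV, ?_⟩
        show x * (h * tS hF 0 v * h⁻¹) * x⁻¹ = _
        exact hconj v
      rw [hbot, Subgroup.mem_bot] at hmem
      have : tS hF 0 (l * v) = 1 := by
        have := congrArg (fun y => h⁻¹ * y * h) hmem
        simpa [mul_assoc] using this
      exact zS_ne_one hF hm (mul_ne_zero hl hv0) this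
    rw [Subgroup.mem_normalizer_iff] at hx
    have := (hx _).1 hv'
    rw [hconj] at this
    exact this
  · intro hdvd
    have hchar : CharP F 2 := charP hF
    have : Fact (Nat.Prime 2) := ⟨Nat.prime_two⟩
    let _ : Algebra (ZMod 2) F := ZMod.algebra F 2
    have hfr : Module.finrank (ZMod 2) F = 2 * m + 1 := by
      have := FiniteField.pow_finrank_eq_card 2 F
      rw [hF] at this
      exact Nat.pow_right_injective (le_refl 2) this
    have hfrK : Module.finrank (ZMod 2) (GaloisField 2 n) = n := GaloisField.finrank 2 (by omega)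
    obtain ⟨f⟩ := FiniteField.nonempty_algHom_of_finrank_dvd (F := ZMod 2) (K := GaloisField 2 n)
      (L := F) (by rw [hfr, hfrK]; exact hdvd)
    let K : Subfield F := (f : GaloisField 2 n →+* F).fieldRange
    have hcardK : Nat.card K = 2 ^ n := by
      rw [← GaloisField.card 2 n (by omega)]
      have : Nat.card K = Nat.card (Set.range (f : GaloisField 2 n →+* F)) := rfl
      rw [this]
      exact Nat.card_range_of_injective (f : GaloisField 2 n →+* F).injective
    let V : AddSubgroup F := K.toSubring.toAddSubgroup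
    have hVK : ∀ b : F, b ∈ V ↔ b ∈ K := fun b => Iff.rfl
    refine ⟨EV hF hm 1 V, EV_elem hF hm 1 V, ?_, ?_⟩
    · rw [card_EV]
      exact hcardK
    · intro x hx
      rw [Ne, Subgroup.eq_bot_iff_forall] at hx
      push Not at hx
      obtain ⟨y, ⟨hy1, hy2⟩, hy0⟩ := hx
      obtain ⟨b', hb'V, hyb'⟩ := (mem_EV hF hm 1 V y).1 hy1
      obtain ⟨e, he, hey⟩ := hy2
      obtain ⟨b, hbV, heb⟩ := (mem_EV hF hm 1 V e).1 he
      simp only [one_mul, inv_one, mul_one] at hyb' heb
      have hey' : x * e * x⁻¹ = y := hey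
      have hb'0 : b' ≠ 0 := by
        rintro rfl
        apply hy0
        rw [hyb', tS_zero_zero hF hm]
      have hb0 : b ≠ 0 := by
        rintro rfl
        apply hy0
        rw [← hey', heb, tS_zero_zero hF hm]; group
      have hxB : x ∈ stabInf F m := by
        apply mem_stabInf_of_conj hF hm (t := e)
        · rw [heb]; exact tS_mem hF hm 0 b
        · rw [heb]; exact zS_ne_one hF hm hb0
        · rw [hey', hyb']; exact tS_mem hF hm 0 b'
      obtain ⟨c, d, k, rfl⟩ := (mem_stabInf_iff_exists hF hm x).1 hxB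
      set l : F := (k : F) ^ (2 ^ (m + 1) + 1) with hl
      have hlK : l ∈ K := by
        have h1 := conj_zS hF hm c d k b
        rw [← heb, hey', hyb'] at h1
        have h2 := (tS_injective hF h1).2
        have : l = b' / b := by rw [eq_div_iff hb0, hl, ← h2]
        rw [this]
        exact K.div_mem ((hVK _).1 hb'V) ((hVK _).1 hbV)
      have hl0 : l ≠ 0 := pow_ne_zero _ k.ne_zero
      rw [Subgroup.mem_normalizer_iff]
      intro g
      constructor
      · intro hg
        obtain ⟨β, hβ, hgβ⟩ := (mem_EV hF hm 1 V g).1 hg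
        simp only [one_mul, inv_one, mul_one] at hgβ
        rw [hgβ, conj_zS hF hm, mem_EV]
        refine ⟨l * β, (hVK _).2 (K.mul_mem hlK ((hVK _).1 hβ)), ?_⟩
        rw [one_mul, inv_one, mul_one]
      · intro hg
        obtain ⟨β, hβ, hgβ⟩ := (mem_EV hF hm 1 V _).1 hg
        simp only [one_mul, inv_one, mul_one] at hgβ
        have h1 := conj_zS hF hm c d k (l⁻¹ * β)
        rw [← hl, mul_inv_cancel_left₀ hl0, ← hgβ] at h1
        have h2 : g = tS hF 0 (l⁻¹ * β) := by
          have h3 : tS hF c d * kS hF k * tS hF 0 (l⁻¹ * β) = tS hF c d * kS hF k * g :=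
            mul_right_cancel h1
          exact (mul_left_cancel h3).symm
        rw [h2, mem_EV]
        refine ⟨l⁻¹ * β, (hVK _).2 (K.mul_mem (K.inv_mem hlK) ((hVK _).1 hβ)), ?_⟩
        simp

end Cfsg.Agent.S2240
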