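import Mathlib
import Cfsg.Statements.S2241
import Cfsg.Agent.Lib.Helper3.Suzuki11

set_option autoImplicit false
open Cfsg

namespace Cfsg.Agent.S2241

open Cfsg.Agent.Lib.Helper3.Sz

variable {F : Type*} [Field F] [Fintype F] {m : ℕ}

/-- an element of the Suzuki group conjugating a translation to its inverse: the translation is an
involution -/
lemma real_imp (hm : 1 ≤ m) (hF : Fintype.card F = 2 ^ (2 * m + 1)) (a b : F) (x : Sz F m)
    (hx : x * tS hF a b = (tS hF a b)⁻¹ * x) : a = 0 := by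
  by_contra ha
  have h2 := two_eq_zero hF
  -- `x` fixes the point at infinity
  have hinv := tS_inv hF hm a b
  have hXmem : (x : Matrix.SpecialLinearGroup (Fin 4) F) ∈ Sz F m := x.2
  have hmem : (x : Matrix.SpecialLinearGroup (Fin 4) F) • suzukiPointInfinity F ∈ suzukiOvoid F m := by
    apply smul_mem_ovoid hXmem
    rw [inf_eq (m := m), ← Cfsg.Agent.S0326.range_param]; exact ⟨_, rfl⟩
  rw [← Cfsg.Agent.S0326.range_param] at hmem
  obtain ⟨c, hc⟩ := hmem
  have hx' : (x : Matrix.SpecialLinearGroup (Fin 4) F) * transS m a b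
      = transS m a (b + a ^ (2 ^ (m + 1)) * a) * x := by
    have := congrArg Subtype.val hx
    rw [hinv] at this
    exact this
  have hfix : transS m a (b + a ^ (2 ^ (m + 1)) * a) • Cfsg.Agent.S0326.param m c
      = Cfsg.Agent.S0326.param m c := by
    rw [hc, ← mul_smul, ← hx', mul_smul, transS_inf hF]
  have hcn : c = none := transS_fix hF (by
    intro h
    simp only [Prod.mk.injEq] at h
    exact ha h.1) c hfix
  subst hcn
  obtain ⟨c', d, k, hk⟩ := decomp_of_fix_inf hF hm _ hXmem hc.symm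
  have hxk : x = tS hF c' d * kS hF k := Subtype.ext hk
  rw [hxk, hinv, mul_assoc, kS_tS hF hm, ← mul_assoc, ← mul_assoc, mul_left_inj,
    tS_mul hF hm, tS_mul hF hm] at hx
  obtain ⟨e1, e2⟩ := tS_injective hF hx
  have hk1 : (k : F) = 1 := by
    have : ((k : F) - 1) * a = 0 := by linear_combination e1
    rcases mul_eq_zero.1 this with h | h
    · linear_combination h
    · exact absurd h ha
  rw [hk1, one_pow, one_mul, one_mul] at e2
  apply sig_add_self_ne_one hF (c' / a)
  have hapow : a ^ (2 ^ (m + 1)) ≠ 0 := pow_ne_zero _ ha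
  have key : c' ^ (2 ^ (m + 1)) * a + a ^ (2 ^ (m + 1)) * c' = a ^ (2 ^ (m + 1)) * a := by
    linear_combination e2 + (a ^ (2 ^ (m + 1)) * c') * h2
  rw [div_pow, div_add_div _ _ hapow ha, div_eq_one_iff_eq (mul_ne_zero hapow ha)]
  linear_combination key

/-- Real 2-elements of the Suzuki group are involutions. -/
theorem result {F : Type*} [Field F] [Fintype F] {m : ℕ} (hm : 1 ≤ m) (hF : Fintype.card F = 2 ^ (2 * m + 1)) (P : Sylow 2 ↥(Cfsg.Sz F m)) (g : ↥(Cfsg.Sz F m)) (hg : g ∈ (P : Subgroup ↥(Cfsg.Sz F m))) (h1 : g ≠ 1) :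
    IsConj g g⁻¹ ↔ orderOf g = 2 := by
  constructor
  · intro hconj
    obtain ⟨h, hh⟩ := exists_conj_transGroup hF hm P
    obtain ⟨a, b, hab⟩ := (mem_transGroup hF hm _).1 ((hh g).1 hg)
    rw [isConj_iff] at hconj
    obtain ⟨c, hc⟩ := hconj
    have hx : (h⁻¹ * c * h) * tS hF a b = (tS hF a b)⁻¹ * (h⁻¹ * c * h) := by
      rw [← hab]
      have : c * g = g⁻¹ * c := by rw [← hc]; group
      calc h⁻¹ * c * h * (h⁻¹ * g * h) = h⁻¹ * (c * g) * h := by group
        _ = h⁻¹ * (g⁻¹ * c) * h := by rw [this]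
        _ = (h⁻¹ * g * h)⁻¹ * (h⁻¹ * c * h) := by group
    have ha : a = 0 := real_imp hm hF a b _ hx
    subst ha
    have hsq : (h⁻¹ * g * h) * (h⁻¹ * g * h) = 1 := by rw [hab]; exact tS_zero_sq hF hm b
    have hg2 : g ^ 2 = 1 := by
      have : h⁻¹ * (g * g) * h = 1 := by rw [← hsq]; group
      have h3 : g * g = h * 1 * h⁻¹ := by rw [← this]; group
      rw [pow_two, h3]; group
    exact orderOf_eq_prime hg2 h1
  · intro h2
    have hg2 : g ^ 2 = 1 := by rw [← h2]; exact pow_orderOf_eq_one g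
    have : g⁻¹ = g := by
      rw [inv_eq_iff_mul_eq_one, ← pow_two]; exact hg2
    rw [this]

end Cfsg.Agent.S2241
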