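import Mathlib
import Cfsg.Statements.S2247
import Cfsg.Agent.Lib.Helper3.Suzuki12

set_option autoImplicit false
open Cfsg

namespace Cfsg.Agent.S2247

open Cfsg.Agent.Lib.Helper3.Sz

/-- the property transports along automorphisms -/
lemma transport {G : Type*} [Group G] (φ : G ≃* G) (Q : Subgroup G)
    (h1 : IsCoatom (Subgroup.normalizer (Q : Set G)))
    (h2 : ∀ M : Subgroup G, IsCoatom M → Q ≤ M → M = Subgroup.normalizer (Q : Set G)) :
    IsCoatom (Subgroup.normalizer ((Q.map φ.toMonoidHom : Subgroup G) : Set G)) ∧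
    ∀ M : Subgroup G, IsCoatom M → Q.map φ.toMonoidHom ≤ M →
      M = Subgroup.normalizer ((Q.map φ.toMonoidHom : Subgroup G) : Set G) := by
  have hn : Subgroup.normalizer ((Q.map φ.toMonoidHom : Subgroup G) : Set G)
      = φ.mapSubgroup (Subgroup.normalizer (Q : Set G)) :=
    (Subgroup.map_equiv_normalizer_eq Q φ).symm
  rw [hn]
  refine ⟨(OrderIso.isCoatom_iff φ.mapSubgroup _).2 h1, ?_⟩
  intro M hM hQM
  have hM' : IsCoatom (φ.mapSubgroup.symm M) := (OrderIso.isCoatom_iff φ.mapSubgroup.symm _).2 hM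
  have hQ' : Q ≤ φ.mapSubgroup.symm M := by
    rw [← (φ.mapSubgroup).le_iff_le, OrderIso.apply_symm_apply]
    exact hQM
  rw [← h2 _ hM' hQ', OrderIso.apply_symm_apply]

/-- the normalizer of a Sylow 2-subgroup is the only maximal subgroup containing it -/
theorem result {F : Type*} [Field F] [Fintype F] {m : ℕ} (hm : 1 ≤ m) (hF : Fintype.card F = 2 ^ (2 * m + 1)) (P : Sylow 2 ↥(Cfsg.Sz F m)) :
    IsCoatom (Subgroup.normalizer ((P : Subgroup ↥(Cfsg.Sz F m)) : Set ↥(Cfsg.Sz F m))) ∧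
    ∀ M : Subgroup ↥(Cfsg.Sz F m), IsCoatom M → (P : Subgroup ↥(Cfsg.Sz F m)) ≤ M → M = Subgroup.normalizer ((P : Subgroup ↥(Cfsg.Sz F m)) : Set ↥(Cfsg.Sz F m)) := by
  obtain ⟨h, hh⟩ := exists_conj_transGroup hF hm P
  have hP : (P : Subgroup (Sz F m)) = (transGroup hF hm).map (MulAut.conj h).toMonoidHom := by
    ext g
    rw [Subgroup.mem_map]
    constructor
    · intro hg
      refine ⟨h⁻¹ * g * h, (hh g).1 hg, ?_⟩
      show h * (h⁻¹ * g * h) * h⁻¹ = g
      group
    · rintro ⟨t, ht, rfl⟩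
      apply (hh _).2
      have : h⁻¹ * (MulAut.conj h).toMonoidHom t * h = t := by
        show h⁻¹ * (h * t * h⁻¹) * h = t
        group
      rw [this]
      exact ht
  rw [hP]
  apply transport
  · rw [normalizer_transGroup hF hm]
    exact isCoatom_stabInf hF hm
  · intro M hM hQ
    rw [normalizer_transGroup hF hm]
    exact eq_stabInf_of_isCoatom hF hm M hM hQ

end Cfsg.Agent.S2247
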