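import Mathlib
import Cfsg.Statements.S2249
import Cfsg.Agent.S4627
import Cfsg.Agent.S2234
import Cfsg.Agent.Lib.Helper14.InvolDiag
import Cfsg.Agent.Lib.Helper9.Syl2.GL2QD

set_option autoImplicit false
open Cfsg

namespace Cfsg.Agent.S2249

open Matrix Cfsg.Agent.Lib.Helper14 Cfsg.Agent.Lib.Helper9.Syl2

/-! ### the two halves of "normal 2-rank equal to `k`" -/

/-- a normal elementary abelian 2-subgroup of order at least `2 ^ k` exists -/
def NRL (X : Type*) [Group X] (k : ℕ) : Prop :=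
  ∃ E : Subgroup X, E.Normal ∧ Cfsg.IsElementaryAbelian 2 E ∧ 2 ^ k ≤ Nat.card E

/-- all normal elementary abelian 2-subgroups have order at most `2 ^ k` -/
def NRU (X : Type*) [Group X] (k : ℕ) : Prop :=
  ∀ E : Subgroup X, E.Normal → Cfsg.IsElementaryAbelian 2 E → Nat.card E ≤ 2 ^ k

theorem elemAb_map {X Y : Type*} [Group X] [Group Y] (f : X →* Y) {E : Subgroup X}
    (hE : Cfsg.IsElementaryAbelian 2 E) : Cfsg.IsElementaryAbelian 2 (E.map f) := by
  refine ⟨⟨⟨?_⟩⟩, ?_⟩
  · rintro ⟨_, a, ha, rfl⟩ ⟨_, b, hb, rfl⟩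
    apply Subtype.ext
    show f a * f b = f b * f a
    have h := hE.1.is_comm.comm ⟨a, ha⟩ ⟨b, hb⟩
    have h' : a * b = b * a := congrArg Subtype.val h
    rw [← map_mul, ← map_mul, h']
  · rintro _ ⟨a, ha, rfl⟩
    rw [← map_pow, hE.2 a ha, map_one]

theorem elemAb_comap {X Y : Type*} [Group X] [Group Y] (f : X →* Y) (hf : Function.Injective f)
    {E : Subgroup Y} (hE : Cfsg.IsElementaryAbelian 2 E) :
    Cfsg.IsElementaryAbelian 2 (E.comap f) := by
  refine ⟨⟨⟨?_⟩⟩, ?_⟩
  · rintro ⟨a, ha⟩ ⟨b, hb⟩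
    apply Subtype.ext
    show a * b = b * a
    apply hf
    rw [map_mul, map_mul]
    have h := hE.1.is_comm.comm ⟨f a, ha⟩ ⟨f b, hb⟩
    exact congrArg Subtype.val h
  · intro a ha
    apply hf
    rw [map_pow, map_one]
    exact hE.2 (f a) ha

theorem NRL_of_equiv {X Y : Type*} [Group X] [Group Y] (φ : X ≃* Y) {k : ℕ} (h : NRL X k) :
    NRL Y k := by
  obtain ⟨E, hEn, hEa, hc⟩ := h
  refine ⟨E.map φ.toMonoidHom, hEn.map φ.toMonoidHom φ.surjective, elemAb_map _ hEa, ?_⟩
  have h1 : Nat.card (E.map φ.toMonoidHom) = Nat.card E :=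
    Subgroup.card_map_of_injective φ.injective
  rw [h1]
  exact hc

theorem NRU_of_equiv {X Y : Type*} [Group X] [Group Y] (φ : X ≃* Y) {k : ℕ} (h : NRU Y k) :
    NRU X k := by
  intro E hEn hEa
  have h0 := h (E.map φ.toMonoidHom) (hEn.map φ.toMonoidHom φ.surjective) (elemAb_map _ hEa)
  have h1 : Nat.card (E.map φ.toMonoidHom) = Nat.card E :=
    Subgroup.card_map_of_injective φ.injective
  rw [h1] at h0
  exact h0

theorem NRU_prod {X A : Type*} [Group X] [Group A] [Finite X] [Finite A] {k r : ℕ}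
    (hX : NRU X k) (hA : Nat.card A ≤ 2 ^ r) : NRU (X × A) (k + r) := by
  intro E hEn hEa
  have h1 := hX (E.map (MonoidHom.fst X A)) (hEn.map _ Prod.fst_surjective) (elemAb_map _ hEa)
  have hle : E ≤ (E.map (MonoidHom.fst X A)).prod ⊤ := by
    intro w hw
    rw [Subgroup.mem_prod]
    exact ⟨⟨w, hw, rfl⟩, Subgroup.mem_top _⟩
  calc Nat.card E ≤ Nat.card ((E.map (MonoidHom.fst X A)).prod (⊤ : Subgroup A)) :=
        Subgroup.card_le_of_le hle
    _ = Nat.card (E.map (MonoidHom.fst X A)) * Nat.card (⊤ : Subgroup A) := by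
        rw [Nat.card_congr (Subgroup.prodEquiv _ _).toEquiv, Nat.card_prod]
    _ ≤ 2 ^ k * 2 ^ r := Nat.mul_le_mul h1 (by rw [Subgroup.card_top]; exact hA)
    _ = 2 ^ (k + r) := (pow_add 2 k r).symm

theorem NRL_prod {X A : Type*} [Group X] [Group A] [Finite X] [Finite A] {k r : ℕ}
    (hX : NRL X k) (hAc : ∀ a b : A, a * b = b * a) (hA2 : ∀ a : A, a ^ 2 = 1)
    (hA : 2 ^ r ≤ Nat.card A) : NRL (X × A) (k + r) := by
  obtain ⟨E, hEn, hEa, hc⟩ := hX
  have := hEn
  refine ⟨E.prod ⊤, Subgroup.prod_normal E ⊤, ⟨⟨⟨?_⟩⟩, ?_⟩, ?_⟩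
  · rintro ⟨⟨x, a⟩, hxa⟩ ⟨⟨y, b⟩, hyb⟩
    apply Subtype.ext
    show ((x, a) : X × A) * (y, b) = (y, b) * (x, a)
    rw [Subgroup.mem_prod] at hxa hyb
    have h := hEa.1.is_comm.comm ⟨x, hxa.1⟩ ⟨y, hyb.1⟩
    have h' : x * y = y * x := congrArg Subtype.val h
    rw [Prod.mk_mul_mk, Prod.mk_mul_mk, h', hAc a b]
  · rintro ⟨x, a⟩ hxa
    rw [Subgroup.mem_prod] at hxa
    rw [Prod.pow_mk, hEa.2 x hxa.1, hA2 a]
    rfl
  · rw [Nat.card_congr (Subgroup.prodEquiv _ _).toEquiv, Nat.card_prod, Subgroup.card_top, pow_add]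
    exact Nat.mul_le_mul hc hA

theorem sylow_equiv_of_model {G W : Type*} [Group G] [Finite G] [Group W] (Ψ : W →* G)
    (hΨ : Function.Injective Ψ) (hW : Nat.card W = 2 ^ (Nat.card G).factorization 2)
    (S : Sylow 2 G) : Nonempty (W ≃* (S : Subgroup G)) := by
  have hr : Nat.card Ψ.range = 2 ^ (Nat.card G).factorization 2 := by
    rw [← hW]
    exact Nat.card_congr (MonoidHom.ofInjective hΨ).toEquiv.symm
  let P0 : Sylow 2 G := Sylow.ofCard _ hr
  have e1 : W ≃* (P0 : Subgroup G) := MonoidHom.ofInjective hΨ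
  exact ⟨e1.trans (Sylow.equiv P0 S)⟩

/-! ### wreath products -/

section Wreath
variable {Q : Type*} [Group Q] {m : ℕ} (T : Subgroup (Equiv.Perm (Fin m)))

theorem actT_apply (t : T) (f : Fin m → Q) (i : Fin m) :
    (S4624.actT Q T t) f i = f ((t : Equiv.Perm (Fin m)).symm i) := rfl

theorem conj_inl (w : (Fin m → Q) ⋊[S4624.actT Q T] T) (u : Fin m → Q) :
    w * SemidirectProduct.inl u * w⁻¹ =
      SemidirectProduct.inl (w.left * (S4624.actT Q T w.right) u * w.left⁻¹) := by
  rw [map_mul, map_mul, SemidirectProduct.inl_aut]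
  simp only [map_inv]
  conv_lhs => rw [← SemidirectProduct.inl_left_mul_inr_right w]
  group

/-- functions with values in `{1, z}` -/
def zFun (z : Q) (hz2 : z ^ 2 = 1) (m : ℕ) : Subgroup (Fin m → Q) where
  carrier := {f | ∀ i, f i = 1 ∨ f i = z}
  one_mem' := fun _ => Or.inl rfl
  mul_mem' := by
    intro a b ha hb i
    rcases ha i with h | h <;> rcases hb i with h' | h'
    · left; rw [Pi.mul_apply, h, h', mul_one]
    · right; rw [Pi.mul_apply, h, h', one_mul]
    · right; rw [Pi.mul_apply, h, h', mul_one]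
    · left; rw [Pi.mul_apply, h, h', ← pow_two, hz2]
  inv_mem' := by
    intro a ha i
    rcases ha i with h | h
    · left; rw [Pi.inv_apply, h, inv_one]
    · right
      rw [Pi.inv_apply, h]
      exact inv_eq_of_mul_eq_one_right (by rw [← pow_two, hz2])

theorem mem_zFun (z : Q) (hz2 : z ^ 2 = 1) (f : Fin m → Q) :
    f ∈ zFun z hz2 m ↔ ∀ i, f i = 1 ∨ f i = z := Iff.rfl

theorem NRL_wreath [Finite Q] (z : Q) (hz1 : z ≠ 1) (hz2 : z ^ 2 = 1)
    (hzc : ∀ h : Q, h * z = z * h) : NRL ((Fin m → Q) ⋊[S4624.actT Q T] T) m := by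
  classical
  refine ⟨(zFun z hz2 m).map SemidirectProduct.inl, ?_, ?_, ?_⟩
  · constructor
    rintro _ ⟨f, hf, rfl⟩ w
    rw [conj_inl]
    refine ⟨_, ?_, rfl⟩
    have hf' : ∀ i, f i = 1 ∨ f i = z := hf
    show ∀ i, (w.left * (S4624.actT Q T w.right) f * w.left⁻¹) i = 1 ∨
      (w.left * (S4624.actT Q T w.right) f * w.left⁻¹) i = z
    intro i
    rw [Pi.mul_apply, Pi.mul_apply, Pi.inv_apply, actT_apply]
    rcases hf' ((w.right : Equiv.Perm (Fin m)).symm i) with h | h
    · left; rw [h, mul_one, mul_inv_cancel]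
    · right; rw [h, hzc, mul_assoc, mul_inv_cancel, mul_one]
  · apply elemAb_map
    refine ⟨⟨⟨?_⟩⟩, ?_⟩
    · rintro ⟨a, ha⟩ ⟨b, hb⟩
      apply Subtype.ext
      show a * b = b * a
      rw [mem_zFun] at ha hb
      funext i
      rw [Pi.mul_apply, Pi.mul_apply]
      rcases ha i with h | h
      · rw [h, one_mul, mul_one]
      · rw [h, hzc]
    · intro a ha
      rw [mem_zFun] at ha
      funext i
      rw [Pi.pow_apply, Pi.one_apply]
      rcases ha i with h | h
      · rw [h, one_pow]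
      · rw [h, hz2]
  · have h0 : Nat.card ((zFun z hz2 m).map
        (SemidirectProduct.inl : (Fin m → Q) →* (Fin m → Q) ⋊[S4624.actT Q T] T)) =
        Nat.card (zFun z hz2 m) :=
      Subgroup.card_map_of_injective SemidirectProduct.inl_injective
    rw [h0]
    have hmem : ∀ β : Fin m → Bool, (fun i => if β i = true then z else 1) ∈ zFun z hz2 m := by
      intro β
      rw [mem_zFun]
      intro i
      by_cases h : β i = true
      · right; exact if_pos h
      · left; exact if_neg h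
    have hinj : Function.Injective
        (fun β : Fin m → Bool => (⟨fun i => if β i = true then z else 1, hmem β⟩ : zFun z hz2 m)) := by
      intro β β' h
      funext i
      have h1 : (if β i = true then z else 1) = (if β' i = true then z else 1) :=
        congrFun (congrArg Subtype.val h) i
      by_cases hb : β i = true <;> by_cases hb' : β' i = true
      · rw [hb, hb']
      · exfalso; rw [if_pos hb, if_neg hb'] at h1; exact hz1 h1
      · exfalso; rw [if_neg hb, if_pos hb'] at h1; exact hz1 h1.symm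
      · rw [Bool.not_eq_true] at hb hb'; rw [hb, hb']
    have h1 := Nat.card_le_card_of_injective _ hinj
    rwa [Nat.card_fun, Nat.card_eq_fintype_card (α := Bool), Fintype.card_bool, Nat.card_fin] at h1

theorem NRU_wreath [Finite Q] (z : Q)
    (hz : ∀ N : Subgroup Q, N.Normal → Cfsg.IsElementaryAbelian 2 N → ∀ x ∈ N, x = 1 ∨ x = z)
    (g : Q) (hg : g ^ 2 ≠ 1) : NRU ((Fin m → Q) ⋊[S4624.actT Q T] T) m := by
  classical
  intro E hEn hEa
  have hright : ∀ e ∈ E, e.right = 1 := by
    intro e he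
    by_contra hne
    obtain ⟨i, hi⟩ : ∃ i, (e.right : Equiv.Perm (Fin m)) i ≠ i := by
      by_contra hall
      push Not at hall
      apply hne
      apply Subtype.ext
      apply Equiv.ext
      intro j
      rw [hall j]
      rfl
    have hc : e * SemidirectProduct.inl (Pi.mulSingle i g) * e⁻¹ *
        (SemidirectProduct.inl (Pi.mulSingle i g))⁻¹ ∈ E := by
      have h1 : SemidirectProduct.inl (Pi.mulSingle i g) * e⁻¹ *
          (SemidirectProduct.inl (Pi.mulSingle i g))⁻¹ ∈ E :=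
        hEn.conj_mem _ (E.inv_mem he) _
      have h2 := E.mul_mem he h1
      have h3 : e * (SemidirectProduct.inl (Pi.mulSingle i g) * e⁻¹ *
          (SemidirectProduct.inl (Pi.mulSingle i g))⁻¹) =
          e * SemidirectProduct.inl (Pi.mulSingle i g) * e⁻¹ *
            (SemidirectProduct.inl (Pi.mulSingle i g))⁻¹ := by group
      rwa [h3] at h2
    have hsq := hEa.2 _ hc
    rw [conj_inl, ← map_inv, ← map_mul, ← map_pow] at hsq
    have hv := SemidirectProduct.inl_injective (hsq.trans (map_one (SemidirectProduct.inl :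
      (Fin m → Q) →* (Fin m → Q) ⋊[S4624.actT Q T] T)).symm)
    have hvi := congrFun hv i
    have hne' : (e.right : Equiv.Perm (Fin m)).symm i ≠ i := by
      intro h
      apply hi
      have h5 := congrArg (e.right : Equiv.Perm (Fin m)) h
      rw [Equiv.apply_symm_apply] at h5
      exact h5.symm
    have hms1 : (Pi.mulSingle i g : Fin m → Q) ((e.right : Equiv.Perm (Fin m)).symm i) = 1 :=
      Pi.mulSingle_eq_of_ne (M := fun _ : Fin m => Q) hne' g
    have hms2 : (Pi.mulSingle i g : Fin m → Q) i = g := Pi.mulSingle_eq_same (M := fun _ : Fin m => Q) i g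
    simp only [Pi.pow_apply, Pi.mul_apply, Pi.inv_apply, Pi.one_apply, actT_apply] at hvi
    rw [hms1, hms2] at hvi
    have h4 : e.left i * 1 * (e.left i)⁻¹ * g⁻¹ = g⁻¹ := by group
    rw [h4, inv_pow, inv_eq_one] at hvi
    exact hg hvi
  have hle : E ≤ (SemidirectProduct.inl :
      (Fin m → Q) →* (Fin m → Q) ⋊[S4624.actT Q T] T).range := by
    intro e he
    rw [SemidirectProduct.range_inl_eq_ker_rightHom, MonoidHom.mem_ker]
    exact hright e he
  have hmap : (E.comap (SemidirectProduct.inl :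
      (Fin m → Q) →* (Fin m → Q) ⋊[S4624.actT Q T] T)).map SemidirectProduct.inl = E :=
    Subgroup.map_comap_eq_self hle
  have hcard : Nat.card ((E.comap (SemidirectProduct.inl :
      (Fin m → Q) →* (Fin m → Q) ⋊[S4624.actT Q T] T)).map (SemidirectProduct.inl :
      (Fin m → Q) →* (Fin m → Q) ⋊[S4624.actT Q T] T)) =
      Nat.card (E.comap (SemidirectProduct.inl :
        (Fin m → Q) →* (Fin m → Q) ⋊[S4624.actT Q T] T)) :=
    Subgroup.card_map_of_injective SemidirectProduct.inl_injective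
  rw [hmap] at hcard
  rw [hcard]
  have hE'n : (E.comap (SemidirectProduct.inl :
      (Fin m → Q) →* (Fin m → Q) ⋊[S4624.actT Q T] T)).Normal := hEn.comap _
  have hE'a : Cfsg.IsElementaryAbelian 2 (E.comap (SemidirectProduct.inl :
      (Fin m → Q) →* (Fin m → Q) ⋊[S4624.actT Q T] T)) :=
    elemAb_comap _ SemidirectProduct.inl_injective hEa
  have hval : ∀ f ∈ E.comap (SemidirectProduct.inl :
      (Fin m → Q) →* (Fin m → Q) ⋊[S4624.actT Q T] T), ∀ i, f i = 1 ∨ f i = z := by
    intro f hf i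
    have hN : ((E.comap (SemidirectProduct.inl :
        (Fin m → Q) →* (Fin m → Q) ⋊[S4624.actT Q T] T)).map
        (Pi.evalMonoidHom (fun _ : Fin m => Q) i)).Normal :=
      hE'n.map _ (Function.surjective_eval i)
    exact hz _ hN (elemAb_map _ hE'a) (f i) ⟨f, hf, rfl⟩
  have hinj : Function.Injective (fun (f : E.comap (SemidirectProduct.inl :
      (Fin m → Q) →* (Fin m → Q) ⋊[S4624.actT Q T] T)) (i : Fin m) =>
      decide ((f : Fin m → Q) i = 1)) := by
    intro f f' hff
    apply Subtype.ext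
    funext i
    have h1 := congrFun hff i
    simp only [decide_eq_decide] at h1
    by_cases hf1 : (f : Fin m → Q) i = 1
    · rw [hf1, h1.mp hf1]
    · rw [(hval f.1 f.2 i).resolve_left hf1,
        (hval f'.1 f'.2 i).resolve_left (fun h => hf1 (h1.mpr h))]
  have h1 := Nat.card_le_card_of_injective _ hinj
  rwa [Nat.card_fun, Nat.card_eq_fintype_card (α := Bool), Fintype.card_bool, Nat.card_fin] at h1

end Wreath

/-! ### quasi-dihedral groups -/

theorem qd_facts {S : Type*} [Group S] [Finite S] (h : Cfsg.IsQuasiDihedral S) :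
    ∃ z g : S, z ≠ 1 ∧ z ^ 2 = 1 ∧ (∀ a : S, a * z = z * a) ∧ g ^ 2 ≠ 1 ∧
      ∀ N : Subgroup S, N.Normal → Cfsg.IsElementaryAbelian 2 N → ∀ e ∈ N, e = 1 ∨ e = z := by
  obtain ⟨n, hn, hcard, x, y, hx, hy, hrel⟩ := h
  obtain ⟨k, rfl⟩ : ∃ k, n = k + 3 := ⟨n - 3, by omega⟩
  have hp1 : 1 ≤ 2 ^ k := Nat.one_le_two_pow
  have hp3 : 2 ^ (k + 3 - 1) = 4 * 2 ^ k := by
    rw [show k + 3 - 1 = k + 2 by omega, pow_add]; ring
  have hp4 : 2 ^ (k + 3) = 8 * 2 ^ k := by rw [pow_add]; ring
  have hp5 : 2 ^ (k + 3 + 1) = 8 * 2 ^ k * 2 := by rw [pow_succ, hp4]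
  rw [hp3] at hrel
  rw [hp4] at hx
  rw [hp5] at hcard
  generalize 2 ^ k = p at hp1 hrel hx hcard
  have hx8 : x ^ (8 * p) = 1 := by rw [← hx]; exact pow_orderOf_eq_one x
  have hHcard : Nat.card (Subgroup.zpowers x) = 8 * p := by rw [Nat.card_zpowers, hx]
  have hidx : (Subgroup.zpowers x).index = 2 := by
    have h1 := Subgroup.card_mul_index (Subgroup.zpowers x)
    rw [hHcard, hcard] at h1
    exact Nat.eq_of_mul_eq_mul_left (by omega) h1
  have hyx : y ∉ Subgroup.zpowers x := by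
    intro hyz
    obtain ⟨i, hi⟩ := Subgroup.mem_zpowers_iff.mp hyz
    have hc : y * x = x * y := by
      rw [← hi]
      exact ((Commute.refl x).zpow_left i).eq
    have h1 : y * x * y⁻¹ = x := by rw [hc, mul_inv_cancel_right]
    rw [hrel] at h1
    have e4 : 4 * p - 1 = (4 * p - 2) + 1 := by omega
    rw [e4, pow_succ] at h1
    have h2 : x ^ (4 * p - 2) = 1 := by
      have := congrArg (· * x⁻¹) h1
      simpa using this
    have h3 := orderOf_dvd_of_pow_eq_one h2
    rw [hx] at h3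
    have h4 := Nat.le_of_dvd (by omega) h3
    omega
  have hdecomp : ∀ e : S, e ∉ Subgroup.zpowers x → e * y⁻¹ ∈ Subgroup.zpowers x := by
    intro e he
    rw [Subgroup.mul_mem_iff_of_index_two hidx]
    constructor
    · intro h; exact absurd h he
    · intro h; exact absurd ((Subgroup.zpowers x).inv_mem_iff.mp h) hyx
  have hconj : ∀ e : S, e ∉ Subgroup.zpowers x → e * x * e⁻¹ = x ^ (4 * p - 1) := by
    intro e he
    obtain ⟨i, hi⟩ := Subgroup.mem_zpowers_iff.mp (hdecomp e he)
    have he' : e = x ^ i * y := by rw [hi, inv_mul_cancel_right]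
    have hcomm : x ^ i * x ^ (4 * p - 1) = x ^ (4 * p - 1) * x ^ i :=
      (((Commute.refl x).zpow_left i).pow_right _).eq
    calc e * x * e⁻¹ = x ^ i * (y * x * y⁻¹) * (x ^ i)⁻¹ := by rw [he']; group
      _ = x ^ i * x ^ (4 * p - 1) * (x ^ i)⁻¹ := by rw [hrel]
      _ = x ^ (4 * p - 1) := by rw [hcomm, mul_inv_cancel_right]
  have hz2 : (x ^ (4 * p)) ^ 2 = 1 := by
    rw [← pow_mul, show 4 * p * 2 = 8 * p by ring, hx8]
  have hz1 : x ^ (4 * p) ≠ 1 := by
    intro h
    have h3 := orderOf_dvd_of_pow_eq_one h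
    rw [hx] at h3
    have h4 := Nat.le_of_dvd (by omega) h3
    omega
  have hzH : ∀ a ∈ Subgroup.zpowers x, a * x ^ (4 * p) = x ^ (4 * p) * a := by
    intro a ha
    obtain ⟨i, rfl⟩ := Subgroup.mem_zpowers_iff.mp ha
    exact (((Commute.refl x).zpow_left i).pow_right _).eq
  have hzy : y * x ^ (4 * p) = x ^ (4 * p) * y := by
    have h1 : y * x ^ (4 * p) * y⁻¹ = x ^ (4 * p) := by
      have e1 : y * x ^ (4 * p) * y⁻¹ = (y * x * y⁻¹) ^ (4 * p) := conj_pow.symm
      have e2 : (x ^ (4 * p - 1)) ^ (4 * p) = (x ^ (4 * p)) ^ (4 * p - 1) := by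
        rw [← pow_mul, ← pow_mul, mul_comm (4 * p - 1) (4 * p)]
      have e3 : (x ^ (4 * p)) ^ (4 * p - 1) = x ^ (4 * p) := by
        have e5 : 4 * p - 1 = 2 * (2 * p - 1) + 1 := by omega
        rw [e5, pow_succ, pow_mul, hz2, one_pow, one_mul]
      rw [e1, hrel, e2, e3]
    calc y * x ^ (4 * p) = y * x ^ (4 * p) * y⁻¹ * y := by group
      _ = x ^ (4 * p) * y := by rw [h1]
  have hzc : ∀ a : S, a * x ^ (4 * p) = x ^ (4 * p) * a := by
    intro a
    by_cases ha : a ∈ Subgroup.zpowers x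
    · exact hzH a ha
    · obtain ⟨c, hcH, rfl⟩ : ∃ c ∈ Subgroup.zpowers x, a = c * y :=
        ⟨a * y⁻¹, hdecomp a ha, by group⟩
      calc c * y * x ^ (4 * p) = c * (y * x ^ (4 * p)) := mul_assoc _ _ _
        _ = c * (x ^ (4 * p) * y) := by rw [hzy]
        _ = (c * x ^ (4 * p)) * y := (mul_assoc _ _ _).symm
        _ = (x ^ (4 * p) * c) * y := by rw [hzH c hcH]
        _ = x ^ (4 * p) * (c * y) := mul_assoc _ _ _
  refine ⟨x ^ (4 * p), x, hz1, hz2, hzc, ?_, ?_⟩
  · intro h
    have h3 := orderOf_dvd_of_pow_eq_one h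
    rw [hx] at h3
    have h4 := Nat.le_of_dvd (by norm_num) h3
    omega
  · intro N hN hNa e he
    by_cases heH : e ∈ Subgroup.zpowers x
    · obtain ⟨j, hj⟩ := (Submonoid.mem_powers_iff e x).mp
        ((isOfFinOrder_of_finite x).mem_powers_iff_mem_zpowers.mpr heH)
      have he' : e = x ^ (j % (8 * p)) := by rw [← hx, pow_mod_orderOf, hj]
      have hlt : j % (8 * p) < 8 * p := Nat.mod_lt _ (by omega)
      have h2 := hNa.2 e he
      rw [he', ← pow_mul] at h2
      have hd := orderOf_dvd_of_pow_eq_one h2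
      rw [hx] at hd
      obtain ⟨t, ht⟩ := hd
      have ht2 : t < 2 := by
        by_contra hge
        push Not at hge
        have h5 : 8 * p * 2 ≤ 8 * p * t := Nat.mul_le_mul_left _ hge
        omega
      have h6 : j % (8 * p) = 0 ∨ j % (8 * p) = 4 * p := by
        interval_cases t <;> omega
      rcases h6 with h6 | h6
      · left; rw [he', h6, pow_zero]
      · right; rw [he', h6]
    · exfalso
      have hc : e * x * e⁻¹ * x⁻¹ ∈ N := by
        have h1 : x * e⁻¹ * x⁻¹ ∈ N := hN.conj_mem _ (N.inv_mem he) x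
        have h2 := N.mul_mem he h1
        have h3 : e * (x * e⁻¹ * x⁻¹) = e * x * e⁻¹ * x⁻¹ := by group
        rwa [h3] at h2
      have hsq := hNa.2 _ hc
      rw [hconj e heH] at hsq
      have h4 : x ^ (4 * p - 1) * x⁻¹ = x ^ (4 * p - 2) := by
        have e4 : 4 * p - 1 = (4 * p - 2) + 1 := by omega
        rw [e4, pow_succ, mul_inv_cancel_right]
      rw [h4, ← pow_mul] at hsq
      have hd := orderOf_dvd_of_pow_eq_one hsq
      rw [hx] at hd
      have h5 := Nat.le_of_dvd (by omega) hd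
      omega

/-! ### block embeddings -/

section Embed
variable {F : Type*} [Field F] {ι κ : Type*} [Fintype ι] [DecidableEq ι] [Fintype κ]
  [DecidableEq κ]

/-- block diagonal embedding -/
def blockGL : GL ι F × GL κ F →* GL (ι ⊕ κ) F where
  toFun p :=
    { val := fromBlocks (p.1 : Matrix ι ι F) 0 0 (p.2 : Matrix κ κ F)
      inv := fromBlocks ((p.1⁻¹ : GL ι F) : Matrix ι ι F) 0 0 ((p.2⁻¹ : GL κ F) : Matrix κ κ F)
      val_inv := by
        rw [fromBlocks_multiply]
        simp only [Matrix.mul_zero, Matrix.zero_mul, add_zero, zero_add]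
        rw [Units.mul_inv, Units.mul_inv, fromBlocks_one]
      inv_val := by
        rw [fromBlocks_multiply]
        simp only [Matrix.mul_zero, Matrix.zero_mul, add_zero, zero_add]
        rw [Units.inv_mul, Units.inv_mul, fromBlocks_one] }
  map_one' := by
    apply Units.ext
    show fromBlocks (((1 : GL ι F × GL κ F).1 : GL ι F) : Matrix ι ι F) 0 0
      (((1 : GL ι F × GL κ F).2 : GL κ F) : Matrix κ κ F) = 1
    rw [Prod.fst_one, Prod.snd_one, Units.val_one, Units.val_one, fromBlocks_one]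
  map_mul' p q := by
    apply Units.ext
    show fromBlocks (((p * q).1 : GL ι F) : Matrix ι ι F) 0 0
        (((p * q).2 : GL κ F) : Matrix κ κ F) =
      fromBlocks (p.1 : Matrix ι ι F) 0 0 (p.2 : Matrix κ κ F) *
        fromBlocks (q.1 : Matrix ι ι F) 0 0 (q.2 : Matrix κ κ F)
    rw [fromBlocks_multiply]
    simp only [Matrix.mul_zero, Matrix.zero_mul, add_zero, zero_add, Prod.fst_mul, Prod.snd_mul,
      Units.val_mul]

theorem blockGL_injective : Function.Injective (blockGL (F := F) (ι := ι) (κ := κ)) := by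
  intro p q h
  have h1 : fromBlocks (p.1 : Matrix ι ι F) 0 0 (p.2 : Matrix κ κ F) =
      fromBlocks (q.1 : Matrix ι ι F) 0 0 (q.2 : Matrix κ κ F) := congrArg Units.val h
  rw [fromBlocks_inj] at h1
  exact Prod.ext (Units.ext h1.1) (Units.ext h1.2.2.2)

/-- reindexing `GL` -/
def glReindex (e : ι ≃ κ) : GL ι F →* GL κ F where
  toFun A :=
    { val := Matrix.reindex e e (A : Matrix ι ι F)
      inv := Matrix.reindex e e ((A⁻¹ : GL ι F) : Matrix ι ι F)
      val_inv := by
        rw [Matrix.reindex_apply, Matrix.reindex_apply, Matrix.submatrix_mul_equiv,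
          Units.mul_inv, Matrix.submatrix_one_equiv]
      inv_val := by
        rw [Matrix.reindex_apply, Matrix.reindex_apply, Matrix.submatrix_mul_equiv,
          Units.inv_mul, Matrix.submatrix_one_equiv] }
  map_one' := by
    apply Units.ext
    show Matrix.reindex e e ((1 : GL ι F) : Matrix ι ι F) = 1
    rw [Units.val_one, Matrix.reindex_apply, Matrix.submatrix_one_equiv]
  map_mul' A B := by
    apply Units.ext
    show Matrix.reindex e e ((A * B : GL ι F) : Matrix ι ι F) =
      Matrix.reindex e e (A : Matrix ι ι F) * Matrix.reindex e e (B : Matrix ι ι F)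
    rw [Units.val_mul, Matrix.reindex_apply, Matrix.reindex_apply, Matrix.reindex_apply,
      Matrix.submatrix_mul_equiv]

theorem glReindex_injective (e : ι ≃ κ) : Function.Injective (glReindex (F := F) e) := by
  intro A B h
  have h1 : Matrix.reindex e e (A : Matrix ι ι F) = Matrix.reindex e e (B : Matrix ι ι F) :=
    congrArg Units.val h
  exact Units.ext ((Matrix.reindex e e).injective h1)

theorem diagGL_injective : Function.Injective (S4627.diagGL (F := F) (l := ι)) := by
  rw [injective_iff_map_eq_one]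
  intro u hu
  have h : S4627.diagGL u = S4627.permGL₁ (F := F) (1 : Equiv.Perm ι) := by rw [hu, map_one]
  exact (S4627.diagGL_eq_permGL₁ u 1 h).1

end Embed

section ModelB
variable {F : Type*} [Field F] {m r : ℕ}

/-- the model of a Sylow 2-subgroup of `GL_{2m+r}` -/
def PsiB (Q : Subgroup (GL (Fin 2) F)) (T : Subgroup (Equiv.Perm (Fin m))) (C : Subgroup Fˣ)
    (e : (Fin m ⊕ Fin m) ⊕ Fin r ≃ Fin (2 * m + r)) :
    ((Fin m → Q) ⋊[S4624.actT Q T] T) × (Fin r → C) →* GL (Fin (2 * m + r)) F :=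
  (glReindex e).comp (blockGL.comp (MonoidHom.prodMap (S4628.PsiW Q T)
    ((S4627.diagGL (F := F) (l := Fin r)).comp (S4628.inclPiG C))))

theorem PsiB_injective (Q : Subgroup (GL (Fin 2) F)) (T : Subgroup (Equiv.Perm (Fin m)))
    (C : Subgroup Fˣ) (e : (Fin m ⊕ Fin m) ⊕ Fin r ≃ Fin (2 * m + r)) :
    Function.Injective (PsiB Q T C e) := by
  unfold PsiB
  rw [MonoidHom.coe_comp, MonoidHom.coe_comp]
  refine (glReindex_injective e).comp (blockGL_injective.comp ?_)
  rw [MonoidHom.coe_prodMap]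
  refine Function.Injective.prodMap (S4628.PsiW_injective Q T) ?_
  rw [MonoidHom.coe_comp]
  exact diagGL_injective.comp (S4628.inclPiG_injective C)

end ModelB

/-! ### valuations -/

theorem val_GL {F : Type*} [Field F] [Fintype F] (hodd : Odd (Fintype.card F)) (m r : ℕ)
    (hr : r < 2) :
    (Nat.card (GL (Fin (2 * m + r)) F)).factorization 2 =
      m * ((Fintype.card F - 1).factorization 2 + (Fintype.card F ^ 2 - 1).factorization 2) +
        (m.factorial).factorization 2 + r * (Fintype.card F - 1).factorization 2 := by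
  have hq1 : 1 < Fintype.card F := Fintype.one_lt_card
  rw [Matrix.card_GL_field,
    Fin.prod_univ_eq_prod_range (fun i => Fintype.card F ^ (2 * m + r) - Fintype.card F ^ i),
    S4628.prod_val _ _ hodd hq1]
  interval_cases r
  · rw [add_zero, S4627.sum_val_even _ hodd hq1 m]
    ring
  · rw [Finset.sum_range_succ, S4627.sum_val_even _ hodd hq1 m, S4627.val_odd_pow _ hodd hq1 m]
    ring

theorem fac_val (m r : ℕ) (hr : r < 2) :
    ((2 * m + r).factorial).factorization 2 = m + (m.factorial).factorization 2 := by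
  have h0 : ((2 * m).factorial).factorization 2 = m + (m.factorial).factorization 2 := by
    rw [Nat.factorization_def _ Nat.prime_two, padicValNat_factorial_mul,
      ← Nat.factorization_def _ Nat.prime_two, add_comm]
  interval_cases r
  · rw [add_zero]; exact h0
  · rw [Nat.factorial_succ, Nat.factorization_mul (by omega) (Nat.factorial_ne_zero _)]
    simp only [Finsupp.coe_add, Pi.add_apply]
    rw [h0, Nat.factorization_eq_zero_of_not_dvd (by omega), zero_add]

/-! ### the upper bound `n` -/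

theorem upperA {F : Type*} [Field F] (h2 : (2 : F) ≠ 0) (n : ℕ) (S : Subgroup (GL (Fin n) F)) :
    NRU S n := by
  intro E _ hE
  let f : E → Module.End F (Fin n → F) := fun a =>
    Matrix.toLin' ((((a : S) : GL (Fin n) F)) : Matrix (Fin n) (Fin n) F)
  have hmul : ∀ a b : E, f (a * b) = f a * f b := by
    intro a b
    show Matrix.toLin' (((((a * b : E) : S) : GL (Fin n) F)) : Matrix (Fin n) (Fin n) F) = _
    rw [Subgroup.coe_mul, Subgroup.coe_mul, Units.val_mul, Matrix.toLin'_mul]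
    rfl
  have hone : f 1 = 1 := by
    show Matrix.toLin' (((((1 : E) : S) : GL (Fin n) F)) : Matrix (Fin n) (Fin n) F) = _
    rw [Subgroup.coe_one, Subgroup.coe_one, Units.val_one, Matrix.toLin'_one]
    rfl
  have hf : ∀ a, f a * f a = 1 := by
    intro a
    rw [← hmul, ← hone]
    congr 1
    apply Subtype.ext
    have := hE.2 a.1 a.2
    rw [pow_two] at this
    exact this
  have hc : ∀ a b, Commute (f a) (f b) := by
    intro a b
    show f a * f b = f b * f a
    rw [← hmul, ← hmul, hE.1.is_comm.comm a b]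
  have hinj : Function.Injective f := by
    intro a b hab
    have := Matrix.toLin'.injective hab
    exact Subtype.ext (Subtype.ext (Units.ext this))
  have hfr : Module.finrank F (Fin n → F) = n := by simp
  have := card_le_two_pow_finrank h2 f hf hc hinj
  rw [hfr] at this
  exact this

/-! ### the two cases -/

theorem caseA {F : Type*} [Field F] [Fintype F] (h41 : Fintype.card F % 4 = 1) (m r : ℕ)
    (hr : r < 2) (S : Sylow 2 (GL (Fin (2 * m + r)) F)) :
    NRL (S : Subgroup (GL (Fin (2 * m + r)) F)) (2 * m + r) ∧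
      NRU (S : Subgroup (GL (Fin (2 * m + r)) F)) (2 * m + r) := by
  classical
  have hodd : Odd (Fintype.card F) := Nat.odd_iff.mpr (by omega)
  have hq1 : 1 < Fintype.card F := Fintype.one_lt_card
  have h2 : (2 : F) ≠ 0 := S2234.two_ne_zero_of_odd hodd
  refine ⟨?_, upperA h2 _ _⟩
  obtain ⟨C, hCle⟩ := (S4627.isPGroup_zpowers_of_sq (-1 : Fˣ) neg_one_sq).exists_le_sylow
  have hC : (-1 : Fˣ) ∈ (C : Subgroup Fˣ) := hCle (Subgroup.mem_zpowers _)
  obtain ⟨T⟩ : Nonempty (Sylow 2 (Equiv.Perm (Fin (2 * m + r)))) := inferInstance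
  have hCc : Nat.card (C : Subgroup Fˣ) = 2 ^ (Fintype.card F - 1).factorization 2 := by
    rw [Sylow.card_eq_multiplicity, Nat.card_units, Nat.card_eq_fintype_card]
  have hTc : Nat.card (T : Subgroup (Equiv.Perm (Fin (2 * m + r)))) =
      2 ^ ((2 * m + r).factorial).factorization 2 := by
    rw [Sylow.card_eq_multiplicity, Nat.card_perm, Nat.card_fin]
  have h5 : (Fintype.card F ^ 2 - 1).factorization 2 =
      (Fintype.card F - 1).factorization 2 + 1 := by
    rw [S4624.sq_sub_one_fac _ hq1.le, Nat.factorization_mul (by omega) (by omega)]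
    simp only [Finsupp.coe_add, Pi.add_apply]
    rw [S4624.val2_of_mod4 (Fintype.card F + 1) (by omega)]
  have hW : Nat.card ((Fin (2 * m + r) → (C : Subgroup Fˣ)) ⋊[S4624.actT (C : Subgroup Fˣ)
      (T : Subgroup (Equiv.Perm (Fin (2 * m + r))))] T) =
      2 ^ (Nat.card (GL (Fin (2 * m + r)) F)).factorization 2 := by
    rw [SemidirectProduct.card, Nat.card_fun, Nat.card_fin, hCc, hTc, ← pow_mul, ← pow_add,
      val_GL hodd m r hr, h5, fac_val m r hr]
    congr 1
    ring
  obtain ⟨φ⟩ := sylow_equiv_of_model _ (S4627.PhiB_injective (C : Subgroup Fˣ)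
    (T : Subgroup (Equiv.Perm (Fin (2 * m + r))))) hW S
  have hz1 : (⟨-1, hC⟩ : (C : Subgroup Fˣ)) ≠ 1 := by
    intro h
    have h' : (-1 : Fˣ) = 1 := congrArg Subtype.val h
    have h'' : (-1 : F) = 1 := by simpa using congrArg Units.val h'
    apply h2
    linear_combination (-1 : F) * h''
  have hz2 : (⟨-1, hC⟩ : (C : Subgroup Fˣ)) ^ 2 = 1 := by
    apply Subtype.ext
    show (-1 : Fˣ) ^ 2 = 1
    exact neg_one_sq
  have hzc : ∀ h : (C : Subgroup Fˣ), h * ⟨-1, hC⟩ = ⟨-1, hC⟩ * h := fun h => mul_comm _ _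
  exact NRL_of_equiv φ (NRL_wreath _ _ hz1 hz2 hzc)

theorem caseB {F : Type*} [Field F] [Fintype F] (h43 : Fintype.card F % 4 = 3) (m r : ℕ)
    (hr : r < 2) (S : Sylow 2 (GL (Fin (2 * m + r)) F)) :
    NRL (S : Subgroup (GL (Fin (2 * m + r)) F)) (m + r) ∧
      NRU (S : Subgroup (GL (Fin (2 * m + r)) F)) (m + r) := by
  classical
  have hodd : Odd (Fintype.card F) := Nat.odd_iff.mpr (by omega)
  have hq1 : 1 < Fintype.card F := Fintype.one_lt_card
  obtain ⟨Pq⟩ : Nonempty (Sylow 2 (GL (Fin 2) F)) := inferInstance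
  obtain ⟨T⟩ : Nonempty (Sylow 2 (Equiv.Perm (Fin m))) := inferInstance
  obtain ⟨C⟩ : Nonempty (Sylow 2 Fˣ) := inferInstance
  obtain ⟨z, g, hz1, hz2, hzc, hg, hzN⟩ := qd_facts (gl2_quasiDihedral h43 Pq)
  have ha1 : (Fintype.card F - 1).factorization 2 = 1 :=
    S4624.val2_of_mod4 (Fintype.card F - 1) (by omega)
  have hGL2 : (Nat.card (GL (Fin 2) F)).factorization 2 =
      1 * ((Fintype.card F - 1).factorization 2 + (Fintype.card F ^ 2 - 1).factorization 2) +
        (Nat.factorial 1).factorization 2 + 0 * (Fintype.card F - 1).factorization 2 :=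
    val_GL hodd 1 0 (by norm_num)
  have hQc : Nat.card (Pq : Subgroup (GL (Fin 2) F)) =
      2 ^ ((Fintype.card F - 1).factorization 2 + (Fintype.card F ^ 2 - 1).factorization 2) := by
    rw [Pq.card_eq_multiplicity, hGL2, Nat.factorial_one, Nat.factorization_one]
    congr 1
    simp
  have hTc : Nat.card (T : Subgroup (Equiv.Perm (Fin m))) =
      2 ^ (m.factorial).factorization 2 := by
    rw [Sylow.card_eq_multiplicity, Nat.card_perm, Nat.card_fin]
  have hCc : Nat.card (C : Subgroup Fˣ) = 2 ^ (Fintype.card F - 1).factorization 2 := by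
    rw [Sylow.card_eq_multiplicity, Nat.card_units, Nat.card_eq_fintype_card]
  let e : (Fin m ⊕ Fin m) ⊕ Fin r ≃ Fin (2 * m + r) :=
    Fintype.equivFinOfCardEq (by
      simp only [Fintype.card_sum, Fintype.card_fin]
      ring)
  have hΨ := PsiB_injective (F := F) (Pq : Subgroup (GL (Fin 2) F))
    (T : Subgroup (Equiv.Perm (Fin m))) (C : Subgroup Fˣ) e
  have hW : Nat.card (((Fin m → (Pq : Subgroup (GL (Fin 2) F)))
      ⋊[S4624.actT (Pq : Subgroup (GL (Fin 2) F)) (T : Subgroup (Equiv.Perm (Fin m)))] T) ×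
      (Fin r → (C : Subgroup Fˣ))) =
      2 ^ (Nat.card (GL (Fin (2 * m + r)) F)).factorization 2 := by
    rw [Nat.card_prod, SemidirectProduct.card, Nat.card_fun, Nat.card_fun, Nat.card_fin,
      Nat.card_fin, hQc, hTc, hCc, ← pow_mul, ← pow_mul, ← pow_add, ← pow_add,
      val_GL hodd m r hr]
    congr 1
    ring
  obtain ⟨φ⟩ := sylow_equiv_of_model _ hΨ hW S
  have hCc2 : Nat.card (C : Subgroup Fˣ) = 2 := by rw [hCc, ha1, pow_one]
  have hA2 : ∀ a : Fin r → (C : Subgroup Fˣ), a ^ 2 = 1 := by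
    intro a
    funext i
    rw [Pi.pow_apply, Pi.one_apply]
    have h7 : (a i) ^ Nat.card (C : Subgroup Fˣ) = 1 := pow_card_eq_one'
    rw [hCc2] at h7
    exact h7
  have hAc : ∀ a b : Fin r → (C : Subgroup Fˣ), a * b = b * a := fun a b => mul_comm a b
  have hAcard : Nat.card (Fin r → (C : Subgroup Fˣ)) = 2 ^ r := by
    rw [Nat.card_fun, Nat.card_fin, hCc2]
  have : Finite ((Fin m → (Pq : Subgroup (GL (Fin 2) F)))
      ⋊[S4624.actT (Pq : Subgroup (GL (Fin 2) F)) (T : Subgroup (Equiv.Perm (Fin m)))] T) :=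
    Finite.of_equiv _ SemidirectProduct.equivProd.symm
  constructor
  · exact NRL_of_equiv φ (NRL_prod (NRL_wreath _ z hz1 hz2 hzc) hAc hA2 hAcard.ge)
  · exact NRU_of_equiv φ.symm (NRU_prod (NRU_wreath _ z hzN g hg) hAcard.le)

/-- The normal 2-rank of the general linear group over a finite field of odd order q: for n ≥ 1 and S a Sylow 2-subgroup of GL_n(F), the largest rank of an elementary abelian subgroup of S that is normal in S equals n when q ≡ 1 (mod 4) and ⌊(n + 1)/2⌋ when q ≡ 3 (mod 4). -/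
theorem result {F : Type*} [Field F] [Fintype F] {q : ℕ} (hF : Fintype.card F = q) (hodd : Odd q) (n : ℕ) (hn : 1 ≤ n) (S : Sylow 2 (Matrix.GeneralLinearGroup (Fin n) F)) :
    (q % 4 = 1 → ((∃ E : Subgroup ↥(S : Subgroup (Matrix.GeneralLinearGroup (Fin n) F)), E.Normal ∧ Cfsg.IsElementaryAbelian 2 E ∧ 2 ^ (n) ≤ Nat.card ↥E) ∧
      ∀ E : Subgroup ↥(S : Subgroup (Matrix.GeneralLinearGroup (Fin n) F)), E.Normal → Cfsg.IsElementaryAbelian 2 E → Nat.card ↥E ≤ 2 ^ (n))) ∧
    (q % 4 = 3 → ((∃ E : Subgroup ↥(S : Subgroup (Matrix.GeneralLinearGroup (Fin n) F)), E.Normal ∧ Cfsg.IsElementaryAbelian 2 E ∧ 2 ^ ((n + 1) / 2) ≤ Nat.card ↥E) ∧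
      ∀ E : Subgroup ↥(S : Subgroup (Matrix.GeneralLinearGroup (Fin n) F)), E.Normal → Cfsg.IsElementaryAbelian 2 E → Nat.card ↥E ≤ 2 ^ ((n + 1) / 2))) := by
  subst hF
  obtain ⟨m, r, hr, rfl⟩ : ∃ m r, r < 2 ∧ n = 2 * m + r :=
    ⟨n / 2, n % 2, Nat.mod_lt _ (by norm_num), (Nat.div_add_mod n 2).symm⟩
  constructor
  · intro h41
    exact caseA h41 m r hr S
  · intro h43
    have h := caseB h43 m r hr S
    have e : (2 * m + r + 1) / 2 = m + r := by omega
    rw [e]
    exact h

end Cfsg.Agent.S2249
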