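import Cfsg.Statements.S2254
import Cfsg.Agent.Lib.Helper1.NilpotentSymMax

set_option autoImplicit false
open Cfsg

namespace Cfsg.Agent.S2254

/-- Let n ≡ 3 (mod 4). Then every nilpotent subgroup of the symmetric group on n letters has order at most 3 times the order of a Sylow 2-subgroup of the symmetric group on n − 3 letters; the bound is attained by a nilpotent subgroup isomorphic to the direct product of such a Sylow 2-subgroup with a cyclic group of order 3; and any two nilpotent subgroups attaining the bound are conjugate. -/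
theorem result  (n : ℕ) (hn : n % 4 = 3)
    (P : Sylow 2 (Equiv.Perm (Fin (n - 3)))) :
    (∀ N : Subgroup (Equiv.Perm (Fin n)), Group.IsNilpotent N → Nat.card N ≤ 3 * Nat.card P) ∧
    (∃ M : Subgroup (Equiv.Perm (Fin n)), Group.IsNilpotent M ∧ Nat.card M = 3 * Nat.card P ∧
      Nonempty (M ≃* (↥(P : Subgroup (Equiv.Perm (Fin (n - 3)))) × Multiplicative (ZMod 3)))) ∧
    (∀ N₁ N₂ : Subgroup (Equiv.Perm (Fin n)), Group.IsNilpotent N₁ → Group.IsNilpotent N₂ →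
      Nat.card N₁ = 3 * Nat.card P → Nat.card N₂ = 3 * Nat.card P →
      ∃ g : Equiv.Perm (Fin n), N₂ = N₁.map (MulAut.conj g).toMonoidHom) := by
  obtain ⟨k, hk⟩ : ∃ k, n = 4 * k + 3 := ⟨n / 4, by omega⟩
  have hPcard : Nat.card P = 2 ^ Cfsg.Agent.Lib.Helper1.NSym.e2 (4 * k) := by
    rw [P.card_eq_multiplicity, Nat.card_perm, Nat.card_eq_fintype_card, Fintype.card_fin,
      Nat.factorization_def _ Nat.prime_two]
    have : n - 3 = 4 * k := by omega
    rw [this]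
    rfl
  have hhn : Cfsg.Agent.Lib.Helper1.NSym.hh n = 3 * Nat.card P := by
    rw [hPcard, hk, Cfsg.Agent.Lib.Helper1.NSym.hh_eq k 3 (by omega)]
    simp [Cfsg.Agent.Lib.Helper1.NSym.cf]
  refine ⟨?_, ?_, ?_⟩
  · intro N hN
    have h1 := Cfsg.Agent.Lib.Helper1.NSym.card_le_hh n N (Fin n) (by simp)
    rwa [hhn] at h1
  · exact Cfsg.Agent.Lib.Helper1.NSymMax.exists_max n (by omega) (P : Subgroup _) P.isPGroup'
  · intro N₁ N₂ hN₁ hN₂ hc₁ hc₂
    rw [hPcard] at hc₁ hc₂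
    obtain ⟨t₁, Q₁, ht₁, hQ₁, hl₁, hE₁⟩ :=
      Cfsg.Agent.Lib.Helper1.NSymMax.structure_of_max hk N₁ hN₁ hc₁
    obtain ⟨t₂, Q₂, ht₂, hQ₂, hl₂, hE₂⟩ :=
      Cfsg.Agent.Lib.Helper1.NSymMax.structure_of_max hk N₂ hN₂ hc₂
    obtain ⟨g, hg⟩ :=
      Cfsg.Agent.Lib.Helper1.NSymMax.conj_of_data hk t₁ t₂ Q₁ Q₂ ht₁ ht₂ hQ₁ hQ₂ hl₁ hl₂
    exact ⟨g, by rw [hE₁, hE₂]; exact hg⟩

end Cfsg.Agent.S2254
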