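import Cfsg.Statements.S2255
import Cfsg.Agent.Lib.Helper1.NilpotentAlt

set_option autoImplicit false
open Cfsg

namespace Cfsg.Agent.S2255

/-- Let n be a natural number not congruent to 3 modulo 4, with n ∉ {5, 6, 9}. Then every nilpotent subgroup of the alternating group on n letters has order at most the order of a Sylow 2-subgroup of the alternating group (so the nilpotent subgroups of largest order are exactly the Sylow 2-subgroups). -/
theorem result  (n : ℕ) (hn : n % 4 ≠ 3)
    (h5 : n ≠ 5) (h6 : n ≠ 6) (h9 : n ≠ 9)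
    (N : Subgroup (alternatingGroup (Fin n))) (hN : Group.IsNilpotent N)
    (P : Sylow 2 (alternatingGroup (Fin n))) :
    Nat.card N ≤ Nat.card P := by
  have h1 := Cfsg.Agent.Lib.Helper1.NAlt.card_le_hA_alt n N hN
  by_cases hn2 : 2 ≤ n
  · have hg : Cfsg.Agent.Lib.Helper1.NAlt.Generic n := ⟨hn2, by omega, h5, h6, h9⟩
    rw [Cfsg.Agent.Lib.Helper1.NAlt.hA_generic n hg hn] at h1
    rw [Cfsg.Agent.Lib.Helper1.NAlt.card_sylow_two_alt n hn2 P]
    exact h1
  · have hn1 : n = 0 ∨ n = 1 := by omega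
    have hA1 : Cfsg.Agent.Lib.Helper1.NAlt.hA n = 1 := by
      rcases hn1 with rfl | rfl
      · exact Cfsg.Agent.Lib.Helper1.NAlt.hA_exc.1
      · exact Cfsg.Agent.Lib.Helper1.NAlt.hA_exc.2.1
    rw [hA1] at h1
    exact h1.trans Nat.card_pos

end Cfsg.Agent.S2255
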