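import Cfsg.Statements.S2256
import Cfsg.Agent.Lib.Helper1.NilpotentAltMax

set_option autoImplicit false
open Cfsg

namespace Cfsg.Agent.S2256

/-- Let n ≡ 3 (mod 4) with n ≥ 7. Then every nilpotent subgroup of the alternating group on n letters has order at most 3 times the order of a Sylow 2-subgroup of the alternating group on n − 3 letters; the bound is attained by a nilpotent subgroup isomorphic to the direct product of such a Sylow 2-subgroup with a cyclic group of order 3; and any two nilpotent subgroups of the alternating group attaining the bound are conjugate in it. -/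
theorem result  (n : ℕ) (hn : n % 4 = 3) (h7 : 7 ≤ n)
    (P : Sylow 2 (alternatingGroup (Fin (n - 3)))) :
    (∀ N : Subgroup (alternatingGroup (Fin n)), Group.IsNilpotent N → Nat.card N ≤ 3 * Nat.card P) ∧
    (∃ M : Subgroup (alternatingGroup (Fin n)), Group.IsNilpotent M ∧ Nat.card M = 3 * Nat.card P ∧
      Nonempty (M ≃* (↥(P : Subgroup (alternatingGroup (Fin (n - 3)))) × Multiplicative (ZMod 3)))) ∧
    (∀ N₁ N₂ : Subgroup (alternatingGroup (Fin n)), Group.IsNilpotent N₁ → Group.IsNilpotent N₂ →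
      Nat.card N₁ = 3 * Nat.card P → Nat.card N₂ = 3 * Nat.card P →
      ∃ g : alternatingGroup (Fin n), N₂ = N₁.map (MulAut.conj g).toMonoidHom) := by
  obtain ⟨k, hk⟩ : ∃ k, n = 4 * k + 3 := ⟨n / 4, by omega⟩
  have hk1 : 1 ≤ k := by omega
  have hn3 : n - 3 = 4 * k := by omega
  have hPcard : Nat.card P = 2 ^ (Cfsg.Agent.Lib.Helper1.NSym.e2 (4 * k) - 1) := by
    rw [Cfsg.Agent.Lib.Helper1.NAlt.card_sylow_two_alt (n - 3) (by omega) P, hn3]
  have hE1 : 1 ≤ Cfsg.Agent.Lib.Helper1.NSym.e2 (4 * k) := by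
    rw [Cfsg.Agent.Lib.Helper1.NSym.e2_four_mul]; omega
  have hhA : Cfsg.Agent.Lib.Helper1.NAlt.hA n = 3 * Nat.card P := by
    have hg : Cfsg.Agent.Lib.Helper1.NAlt.Generic n := ⟨by omega, by omega, by omega, by omega, by omega⟩
    have h1 := Cfsg.Agent.Lib.Helper1.NAlt.two_mul_hA n hg
    rw [hk, Cfsg.Agent.Lib.Helper1.NSym.hh_eq k 3 (by omega)] at h1
    simp only [Cfsg.Agent.Lib.Helper1.NSym.cf] at h1
    norm_num at h1
    have h2 : 2 ^ Cfsg.Agent.Lib.Helper1.NSym.e2 (4 * k) =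
        2 * 2 ^ (Cfsg.Agent.Lib.Helper1.NSym.e2 (4 * k) - 1) := by
      rw [← pow_succ']
      congr 1
      omega
    rw [← hk] at h1
    rw [hPcard]
    omega
  refine ⟨?_, ?_, ?_⟩
  · intro N hN
    have h1 := Cfsg.Agent.Lib.Helper1.NAlt.card_le_hA_alt n N hN
    rwa [hhA] at h1
  · exact Cfsg.Agent.Lib.Helper1.NAltMax.exists_max_alt n (by omega) (P : Subgroup _) P.isPGroup'
  · intro N₁ N₂ hN₁ hN₂ hc₁ hc₂
    rw [hPcard] at hc₁ hc₂
    let A := alternatingGroup (Fin n)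
    have hmapcard : ∀ N : Subgroup A, Nat.card (N.map A.subtype) = Nat.card N := fun N =>
      Subgroup.card_map_of_injective A.subtype_injective
    have hnil : ∀ N : Subgroup A, Group.IsNilpotent N → Group.IsNilpotent (N.map A.subtype) :=
      fun N hN => Group.nilpotent_of_mulEquiv (N.equivMapOfInjective A.subtype A.subtype_injective)
    have hle : ∀ N : Subgroup A, N.map A.subtype ≤ A := by
      rintro N x ⟨y, _, rfl⟩
      exact y.2
    obtain ⟨t₁, Q₁, ht₁, hQ₁, hl₁, hQN₁, hE₁⟩ :=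
      Cfsg.Agent.Lib.Helper1.NAltMax.structure_of_max_gen
        (m := Cfsg.Agent.Lib.Helper1.NSym.e2 (4 * k) - 1) hk (by omega) (N₁.map A.subtype)
        (hnil N₁ hN₁) (by rw [hmapcard, hc₁])
    obtain ⟨t₂, Q₂, ht₂, hQ₂, hl₂, hQN₂, hE₂⟩ :=
      Cfsg.Agent.Lib.Helper1.NAltMax.structure_of_max_gen
        (m := Cfsg.Agent.Lib.Helper1.NSym.e2 (4 * k) - 1) hk (by omega) (N₂.map A.subtype)
        (hnil N₂ hN₂) (by rw [hmapcard, hc₂])
    obtain ⟨g, hsg, hg⟩ :=
      Cfsg.Agent.Lib.Helper1.NAltMax.conj_of_data_alt hk hk1 t₁ t₂ Q₁ Q₂ ht₁ ht₂ hQ₁ hQ₂ hl₁ hl₂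
        (hQN₁.trans (hle N₁)) (hQN₂.trans (hle N₂))
    exact Cfsg.Agent.Lib.Helper1.NAltMax.lift_conj N₁ N₂ g hsg (by rw [hE₁, hE₂]; exact hg)

end Cfsg.Agent.S2256
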