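import Mathlib
import Cfsg.Statements.S2259
import Cfsg.Agent.Lib.Helper3.SzSol16
import Cfsg.Agent.Lib.Helper3.SzBridge

set_option autoImplicit false
open Cfsg

namespace Cfsg.Agent.S2259

open Cfsg.Agent.Lib.Helper3.Sz

lemma solRel_map {G H : Type*} [Group G] [Group H] (e : G ≃* H) (x y : G) :
    SolRel (e x) (e y) ↔ SolRel x y := by
  unfold SolRel
  have h : Subgroup.closure ({e x, e y} : Set H)
      = (Subgroup.closure ({x, y} : Set G)).map e.toMonoidHom := by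
    rw [MonoidHom.map_closure]
    congr 1
    rw [Set.image_pair]
    rfl
  rw [h]
  constructor
  · intro hs
    have hinj : Function.Injective e.toMonoidHom := e.injective
    exact Group.isSolvable_of_isSolvable_injective
      (f := ((Subgroup.closure ({x, y} : Set G)).equivMapOfInjective _ hinj).toMonoidHom)
      ((Subgroup.closure ({x, y} : Set G)).equivMapOfInjective _ hinj).injective
  · intro hs
    exact Group.isSolvable_of_surjective
      (e.toMonoidHom.subgroupMap_surjective (Subgroup.closure ({x, y} : Set G)))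

lemma card_sol_map {G H : Type*} [Group G] [Group H] (e : G ≃* H) (x : G) :
    Nat.card {y : G // Group.IsSolvable ↥(Subgroup.closure ({x, y} : Set G))}
      = Set.ncard {z : H | SolRel (e x) z} := by
  rw [← _root_.Nat.card_coe_set_eq]
  apply Nat.card_congr
  refine e.toEquiv.subtypeEquiv (fun y => ?_)
  exact (solRel_map e x y).symm

theorem result {F : Type*} [Field F] [Fintype F] {m : ℕ} (hm : 1 ≤ m)
    (hp : (2 * m + 1).Prime) (hF : Fintype.card F = 2 ^ (2 * m + 1)) (x : ↥(Cfsg.Lie.Sz F (2 ^ (m + 1)))) :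
    (orderOf x = 2 → Nat.card {y : ↥(Cfsg.Lie.Sz F (2 ^ (m + 1))) // Group.IsSolvable ↥(Subgroup.closure ({x, y} : Set (↥(Cfsg.Lie.Sz F (2 ^ (m + 1))))))} = (2 ^ (2 * m + 1)) ^ 2 * (4 * 2 ^ (2 * m + 1) - 3)) ∧
    (orderOf x = 4 → Nat.card {y : ↥(Cfsg.Lie.Sz F (2 ^ (m + 1))) // Group.IsSolvable ↥(Subgroup.closure ({x, y} : Set (↥(Cfsg.Lie.Sz F (2 ^ (m + 1))))))} = (2 ^ (2 * m + 1)) ^ 2 * (2 ^ (2 * m + 1) + 3)) ∧
    (x ≠ 1 → orderOf x ∣ 2 ^ (2 * m + 1) - 1 →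
      Nat.card {y : ↥(Cfsg.Lie.Sz F (2 ^ (m + 1))) // Group.IsSolvable ↥(Subgroup.closure ({x, y} : Set (↥(Cfsg.Lie.Sz F (2 ^ (m + 1))))))} = 2 * (2 ^ (2 * m + 1)) ^ 2 * (2 ^ (2 * m + 1) - 1)) ∧
    (x ≠ 1 → orderOf x ∣ 2 ^ (2 * m + 1) + 2 ^ (m + 1) + 1 → Nat.card {y : ↥(Cfsg.Lie.Sz F (2 ^ (m + 1))) // Group.IsSolvable ↥(Subgroup.closure ({x, y} : Set (↥(Cfsg.Lie.Sz F (2 ^ (m + 1))))))} = 4 * (2 ^ (2 * m + 1) + 2 ^ (m + 1) + 1)) ∧
    (x ≠ 1 → orderOf x ∣ 2 ^ (2 * m + 1) - 2 ^ (m + 1) + 1 → Nat.card {y : ↥(Cfsg.Lie.Sz F (2 ^ (m + 1))) // Group.IsSolvable ↥(Subgroup.closure ({x, y} : Set (↥(Cfsg.Lie.Sz F (2 ^ (m + 1))))))} = 4 * (2 ^ (2 * m + 1) - 2 ^ (m + 1) + 1)) := by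
  have hcs := card_sol_map (Cfsg.Agent.Lib.Helper3.SzBridge.lieSzEquiv hF hm) x
  have hord : orderOf ((Cfsg.Agent.Lib.Helper3.SzBridge.lieSzEquiv hF hm) x) = orderOf x :=
    MulEquiv.orderOf_eq _ x
  have hne : x ≠ 1 → (Cfsg.Agent.Lib.Helper3.SzBridge.lieSzEquiv hF hm) x ≠ 1 := by
    intro h h0
    apply h
    have := (Cfsg.Agent.Lib.Helper3.SzBridge.lieSzEquiv hF hm).injective
      (h0.trans (map_one _).symm)
    exact this
  rw [hcs]
  obtain ⟨x', hx'⟩ : ∃ x', x' = (Cfsg.Agent.Lib.Helper3.SzBridge.lieSzEquiv hF hm) x := ⟨_, rfl⟩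
  rw [← hx'] at hord hne ⊢
  refine ⟨?_, ?_, ?_, ?_, ?_⟩
  · intro h2
    rw [← hord] at h2
    apply ncard_sol_of_invol hF hm hp
    refine ⟨?_, ?_⟩
    · rintro rfl
      rw [orderOf_one] at h2; omega
    · have := pow_orderOf_eq_one x'
      rwa [h2, pow_two] at this
  · intro h4
    rw [← hord] at h4
    apply ncard_sol_of_ord4 hF hm hp
    refine ⟨?_, ?_⟩
    · intro h0
      have : orderOf x' ∣ 2 := orderOf_dvd_of_pow_eq_one (by rw [pow_two]; exact h0)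
      rw [h4] at this
      omega
    · have := pow_orderOf_eq_one x'
      rwa [h4] at this
  · intro h1 hd
    rw [← hord] at hd
    exact ncard_sol_htype hF hm hp (htype_of_order hF hm (hne h1) hd)
  · intro h1 hd
    rw [← hord] at hd
    obtain ⟨hR, ha⟩ := aOf_of_order_plus hF hm (hne h1) hd
    rw [ncard_sol_setR hF hm hp hR, ha]
  · intro h1 hd
    rw [← hord] at hd
    obtain ⟨hR, ha⟩ := aOf_of_order_minus hF hm (hne h1) hd
    rw [ncard_sol_setR hF hm hp hR, ha]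

end Cfsg.Agent.S2259
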