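import Cfsg.Statements.S2264
import Cfsg.Agent.Lib.Helper14.ElemOrd5
import Cfsg.Agent.Lib.Helper14.OrthOrd1

set_option autoImplicit false
open Cfsg

namespace Cfsg.Agent.S2264

open Polynomial Matrix
open Cfsg.Agent.Lib.Helper14 Cfsg.Agent.Lib.Helper14.ElemOrd

/-- a power of a matrix is `± 1` if its characteristic polynomial divides `X ^ N ∓ 1` -/
theorem pow_eq_of_charpoly_dvd {F : Type*} [Field F] {ι : Type*} [Fintype ι] [DecidableEq ι]
    (A : Matrix ι ι F) (N : ℕ) (h : A.charpoly ∣ X ^ N - 1 ∨ A.charpoly ∣ X ^ N + 1) :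
    A ^ N = 1 ∨ A ^ N = -1 := by
  have hCH : aeval A A.charpoly = 0 := Matrix.aeval_self_charpoly A
  rcases h with ⟨c, hc⟩ | ⟨c, hc⟩
  · left
    have h1 : aeval A (X ^ N - 1 : F[X]) = 0 := by rw [hc, map_mul, hCH, zero_mul]
    rw [map_sub, map_pow, aeval_X, map_one] at h1
    exact sub_eq_zero.mp h1
  · right
    have h1 : aeval A (X ^ N + 1 : F[X]) = 0 := by rw [hc, map_mul, hCH, zero_mul]
    rw [map_add, map_pow, aeval_X, map_one] at h1
    exact eq_neg_of_add_eq_zero_left h1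

/-- Let F be a finite field with q elements and m ≥ 2. Then every element g of PSp_2m(F) satisfies (q − 1)·|g| ≤ q^(m+1), i.e. has order at most q^(m+1)/(q − 1). -/
theorem result {F : Type*} [Field F] [Fintype F] (m : ℕ) (hm : 2 ≤ m) (g : Cfsg.PSp m F) :
    (Fintype.card F - 1) * orderOf g ≤ Fintype.card F ^ (m + 1) := by
  classical
  obtain ⟨g₀, rfl⟩ := QuotientGroup.mk_surjective g
  obtain ⟨p, hp⟩ := CharP.exists F
  have hprime : Fact p.Prime := ⟨CharP.char_is_prime F p⟩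
  set A : Matrix (Fin m ⊕ Fin m) (Fin m ⊕ Fin m) F := (g₀ : Matrix (Fin m ⊕ Fin m) (Fin m ⊕ Fin m) F)
    with hA
  have hAmem : A ∈ Matrix.symplecticGroup (Fin m) F := g₀.2
  have hdet : A.det = 1 := SymplecticGroup.det_eq_one hAmem
  have hunit : IsUnit A := by
    rw [Matrix.isUnit_iff_isUnit_det, hdet]
    exact isUnit_one
  have hpres : Aᵀ * Matrix.J (Fin m) F * A = Matrix.J (Fin m) F :=
    (SymplecticGroup.mem_iff'.mp hAmem)
  have hrd : rd A.charpoly = A.charpoly :=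
    OrthOrd.dual_charpoly_of_pres A (Matrix.J (Fin m) F) (Matrix.isUnit_det_J (Fin m) F) hpres hunit
  have hdeg : A.charpoly.natDegree = 2 * m := by
    rw [Matrix.charpoly_natDegree_eq_dim, Fintype.card_sum, Fintype.card_fin, two_mul]
  have h0 : A.charpoly.coeff 0 = 1 := by
    have h1 := Matrix.det_eq_sign_charpoly_coeff A
    rw [hdet, Fintype.card_sum, Fintype.card_fin, ← two_mul, pow_mul, neg_one_sq, one_pow,
      one_mul] at h1
    exact h1.symm
  obtain ⟨N, hN1, hN2, hN3⟩ := even_bound p A.charpoly m (by omega) (Matrix.charpoly_monic A) hdeg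
    hrd h0
  have hpow := pow_eq_of_charpoly_dvd A N hN3
  have hcen : g₀ ^ N ∈ Subgroup.center (Matrix.symplecticGroup (Fin m) F) := by
    rw [Subgroup.mem_center_iff]
    intro h
    apply Subtype.ext
    have h1 : ((g₀ ^ N : Matrix.symplecticGroup (Fin m) F) :
        Matrix (Fin m ⊕ Fin m) (Fin m ⊕ Fin m) F) = A ^ N := by
      rw [hA]
      exact SubmonoidClass.coe_pow g₀ N
    show (h : Matrix (Fin m ⊕ Fin m) (Fin m ⊕ Fin m) F) *
        ((g₀ ^ N : Matrix.symplecticGroup (Fin m) F) : Matrix (Fin m ⊕ Fin m) (Fin m ⊕ Fin m) F) =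
      ((g₀ ^ N : Matrix.symplecticGroup (Fin m) F) : Matrix (Fin m ⊕ Fin m) (Fin m ⊕ Fin m) F) *
        (h : Matrix (Fin m ⊕ Fin m) (Fin m ⊕ Fin m) F)
    rw [h1]
    rcases hpow with h2 | h2
    · rw [h2, mul_one, one_mul]
    · rw [h2, mul_neg, neg_mul, mul_one, one_mul]
  have hone : ((g₀ : Matrix.symplecticGroup (Fin m) F) : Cfsg.PSp m F) ^ N = 1 := by
    rw [← QuotientGroup.mk_pow]
    exact (QuotientGroup.eq_one_iff _).mpr hcen
  have hord : orderOf ((g₀ : Matrix.symplecticGroup (Fin m) F) : Cfsg.PSp m F) ≤ N :=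
    Nat.le_of_dvd hN1 (orderOf_dvd_of_pow_eq_one hone)
  exact (Nat.mul_le_mul_left _ hord).trans hN2

end Cfsg.Agent.S2264
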