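import Cfsg.Statements.S2265
import Cfsg.Agent.Lib.Helper14.ElemOrd5
import Cfsg.Agent.Lib.Helper14.OrthOrd1
import Cfsg.Agent.Lib.Helper14.JType5
import Cfsg.Agent.Lib.Helper14.OrthEven2
import Cfsg.Agent.Lib.Helper15.OPlus4

set_option autoImplicit false
open Cfsg

namespace Cfsg.Agent.S2265

open Polynomial Matrix
open Cfsg.Agent.Lib.Helper14 Cfsg.Agent.Lib.Helper14.ElemOrd

/-- a power of a matrix is `± 1` if its characteristic polynomial divides `X ^ N ∓ 1` -/
theorem pow_eq_of_charpoly_dvd {F : Type*} [Field F] {ι : Type*} [Fintype ι] [DecidableEq ι]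
    (A : Matrix ι ι F) (N : ℕ) (h : A.charpoly ∣ X ^ N - 1 ∨ A.charpoly ∣ X ^ N + 1) :
    A ^ N = 1 ∨ A ^ N = -1 := by
  have hCH : aeval A A.charpoly = 0 := Matrix.aeval_self_charpoly A
  rcases h with ⟨c, hc⟩ | ⟨c, hc⟩
  · left
    have h1 : aeval A (X ^ N - 1 : F[X]) = 0 := by rw [hc, map_mul, hCH, zero_mul]
    rw [map_sub, map_pow, aeval_X, map_one] at h1
    exact sub_eq_zero.mp h1
  · right
    have h1 : aeval A (X ^ N + 1 : F[X]) = 0 := by rw [hc, map_mul, hCH, zero_mul]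
    rw [map_add, map_pow, aeval_X, map_one] at h1
    exact eq_neg_of_add_eq_zero_left h1

/-- the determinant of an element of the commutator subgroup of an isometry group -/
theorem det_of_mem_Omega {F : Type*} [Field F] {ι : Type} [Fintype ι] [DecidableEq ι]
    (Q' : (ι → F) → F) (g : ↥(Cfsg.Omega F Q')) :
    ((g : ↥(Cfsg.isometryGroup F Q')) : Matrix.GeneralLinearGroup ι F).val.det = 1 := by
  let φ : ↥(Cfsg.isometryGroup F Q') →* Fˣ :=
    (Matrix.GeneralLinearGroup.det).comp (Cfsg.isometryGroup F Q').subtype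
  have h1 : (g : ↥(Cfsg.isometryGroup F Q')) ∈ φ.ker :=
    Abelianization.commutator_subset_ker φ g.2
  have h2 : φ (g : ↥(Cfsg.isometryGroup F Q')) = 1 := h1
  have h3 := congrArg (fun u : Fˣ => (u : F)) h2
  exact h3

/-- the general bound for the projective commutator subgroup of an isometry group -/
theorem bound_of_form {F : Type*} [Field F] [Fintype F] {ι : Type} [Fintype ι] [DecidableEq ι]
    (Q : QuadraticForm F (ι → F)) (hQ : (QuadraticMap.polarBilin Q).Nondegenerate)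
    (Q' : (ι → F) → F) (hQQ : ∀ v, Q v = Q' v) (m : ℕ)
    (hbound : ∀ χ : F[X], χ.Monic → χ.natDegree = Fintype.card ι → rd χ = χ →
      χ.coeff 0 = (-1) ^ Fintype.card ι →
      ∃ N, 1 ≤ N ∧ (Fintype.card F - 1) * N ≤ Fintype.card F ^ (m + 1) ∧
        (χ ∣ X ^ N - 1 ∨ χ ∣ X ^ N + 1))
    (g : Cfsg.POmega F Q') :
    (Fintype.card F - 1) * orderOf g ≤ Fintype.card F ^ (m + 1) := by
  classical
  obtain ⟨g₀, rfl⟩ := QuotientGroup.mk_surjective g
  set a : Matrix.GeneralLinearGroup ι F :=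
    ((g₀ : ↥(Cfsg.isometryGroup F Q')) : Matrix.GeneralLinearGroup ι F) with ha
  set A : Matrix ι ι F := (a : Matrix ι ι F) with hA
  have hdet : A.det = 1 := det_of_mem_Omega Q' g₀
  have hunit : IsUnit A := Units.isUnit a
  have hmem : a ∈ Cfsg.isometryGroup F ⇑Q := by
    intro u _
    show Q _ = Q u
    rw [hQQ, hQQ]
    exact (g₀ : ↥(Cfsg.isometryGroup F Q')).2 u u
  have hpres : Aᵀ * JType.gram Q * A = JType.gram Q := JType.gram_pres Q a hmem
  have hrd : rd A.charpoly = A.charpoly :=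
    OrthOrd.dual_charpoly_of_pres A (JType.gram Q) (JType.gram_isUnit_det Q hQ) hpres hunit
  have h0 : A.charpoly.coeff 0 = (-1) ^ Fintype.card ι := by
    have h1 := Matrix.det_eq_sign_charpoly_coeff A
    rw [hdet] at h1
    have h2 : ((-1 : F) ^ Fintype.card ι) * ((-1) ^ Fintype.card ι) = 1 := by
      rw [← mul_pow, neg_one_mul, neg_neg, one_pow]
    calc A.charpoly.coeff 0 = ((-1 : F) ^ Fintype.card ι * (-1) ^ Fintype.card ι) *
          A.charpoly.coeff 0 := by rw [h2, one_mul]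
      _ = (-1) ^ Fintype.card ι * ((-1) ^ Fintype.card ι * A.charpoly.coeff 0) := by ring
      _ = (-1) ^ Fintype.card ι := by rw [← h1, mul_one]
  obtain ⟨N, hN1, hN2, hN3⟩ := hbound A.charpoly (Matrix.charpoly_monic A)
    (Matrix.charpoly_natDegree_eq_dim A) hrd h0
  have hpow := pow_eq_of_charpoly_dvd A N hN3
  have hcen : g₀ ^ N ∈ Subgroup.center (Cfsg.Omega F Q') := by
    rw [Subgroup.mem_center_iff]
    intro h
    apply Subtype.ext
    apply Subtype.ext
    apply Units.ext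
    have h1 : ((((g₀ ^ N : ↥(Cfsg.Omega F Q')) : ↥(Cfsg.isometryGroup F Q')) :
        Matrix.GeneralLinearGroup ι F) : Matrix ι ι F) = A ^ N := by
      rw [Subgroup.coe_pow, Subgroup.coe_pow, Units.val_pow_eq_pow_val]
    show (((h : ↥(Cfsg.isometryGroup F Q')) : Matrix.GeneralLinearGroup ι F) : Matrix ι ι F) *
        ((((g₀ ^ N : ↥(Cfsg.Omega F Q')) : ↥(Cfsg.isometryGroup F Q')) :
          Matrix.GeneralLinearGroup ι F) : Matrix ι ι F) =
      ((((g₀ ^ N : ↥(Cfsg.Omega F Q')) : ↥(Cfsg.isometryGroup F Q')) :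
          Matrix.GeneralLinearGroup ι F) : Matrix ι ι F) *
        (((h : ↥(Cfsg.isometryGroup F Q')) : Matrix.GeneralLinearGroup ι F) : Matrix ι ι F)
    rw [h1]
    rcases hpow with h2 | h2
    · rw [h2, mul_one, one_mul]
    · rw [h2, mul_neg, neg_mul, mul_one, one_mul]
  have hone : ((g₀ : ↥(Cfsg.Omega F Q')) : Cfsg.POmega F Q') ^ N = 1 := by
    rw [← QuotientGroup.mk_pow]
    exact (QuotientGroup.eq_one_iff _).mpr hcen
  have hord : orderOf ((g₀ : ↥(Cfsg.Omega F Q')) : Cfsg.POmega F Q') ≤ N :=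
    Nat.le_of_dvd hN1 (orderOf_dvd_of_pow_eq_one hone)
  exact (Nat.mul_le_mul_left _ hord).trans hN2

/-- Let F be a finite field with q elements. Every element g of PΩ_(2m+1)(F) (m ≥ 3, q odd), of PΩ⁺_2m(F) (m ≥ 4), or of PΩ⁻_2m(F) (m ≥ 4, the form having an anisotropic binary part) satisfies (q − 1)·|g| ≤ q^(m+1), i.e. has order at most q^(m+1)/(q − 1). -/
theorem result {F : Type*} [Field F] [Fintype F] (m : ℕ) :
    (3 ≤ m → Odd (Fintype.card F) → ∀ g : Cfsg.POmega F (Cfsg.quadFormOdd m F),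
      (Fintype.card F - 1) * orderOf g ≤ Fintype.card F ^ (m + 1)) ∧
    (4 ≤ m → ∀ g : Cfsg.POmega F (Cfsg.quadFormPlus m F),
      (Fintype.card F - 1) * orderOf g ≤ Fintype.card F ^ (m + 1)) ∧
    (4 ≤ m → ∀ a b : F, (∀ z₁ z₂ : F, z₁ ^ 2 + a * z₁ * z₂ + b * z₂ ^ 2 = 0 → z₁ = 0 ∧ z₂ = 0) →
      ∀ g : Cfsg.POmega F (Cfsg.quadFormMinus (m - 1) F a b),
      (Fintype.card F - 1) * orderOf g ≤ Fintype.card F ^ (m + 1)) := by
  classical
  obtain ⟨p, hp⟩ := CharP.exists F
  have hprime : Fact p.Prime := ⟨CharP.char_is_prime F p⟩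
  refine ⟨?_, ?_, ?_⟩
  · -- odd dimension
    intro hm hodd g
    have hp3 : 3 ≤ p := by
      have hp2 := hprime.out.two_le
      rcases Nat.lt_or_ge 2 p with h | h
      · exact h
      · exfalso
        have hp2' : p = 2 := by omega
        obtain ⟨n, -, hn⟩ := FiniteField.card F p
        rw [hn, hp2'] at hodd
        have : Even (2 ^ (n : ℕ)) := Nat.even_pow.mpr ⟨even_two, n.pos.ne'⟩
        exact (Nat.not_even_iff_odd.mpr hodd) this
    have h2 : (2 : F) ≠ 0 := by
      intro h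
      have h3 : ((2 : ℕ) : F) = 0 := by exact_mod_cast h
      rw [CharP.cast_eq_zero_iff F p] at h3
      have := Nat.le_of_dvd (by omega) h3
      omega
    apply bound_of_form (Cfsg.Agent.Lib.Helper6.QOdd F m)
      (Cfsg.Agent.Lib.Helper6.nondegenerate_QOdd F h2 m) _
      (fun v => Cfsg.Agent.Lib.Helper6.QOdd_apply F m v) m
    intro χ hχm hdeg hrd h0
    have hcard : Fintype.card (Unit ⊕ (Fin m ⊕ Fin m)) = 2 * m + 1 := by
      simp only [Fintype.card_sum, Fintype.card_fin, Fintype.card_unit]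
      omega
    rw [hcard] at hdeg h0
    have h0' : χ.coeff 0 = -1 := by
      rw [h0, pow_succ, pow_mul, neg_one_sq, one_pow, one_mul]
    exact odd_bound p hp3 χ m hm hχm hdeg hrd h0'
  · -- plus type
    intro hm g
    apply bound_of_form (Cfsg.Agent.Lib.Helper15.plusQF m F)
      Cfsg.Agent.Lib.Helper15.nondegenerate_plusQF _
      (fun v => congrFun Cfsg.Agent.Lib.Helper15.coe_plusQF v) m
    intro χ hχm hdeg hrd h0
    have hcard : Fintype.card (Fin m ⊕ Fin m) = 2 * m := by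
      simp only [Fintype.card_sum, Fintype.card_fin]
      omega
    rw [hcard] at hdeg h0
    have h0' : χ.coeff 0 = 1 := by
      rw [h0, pow_mul, neg_one_sq, one_pow]
    exact even_bound p χ m (by omega) hχm hdeg hrd h0'
  · -- minus type
    intro hm a b hab g
    apply bound_of_form
      (Cfsg.Agent.Lib.Helper15.Qgen (m - 1) (Cfsg.Agent.Lib.Helper15.binForm a b))
      (OrthEven.nondegenerate_Qgen_binForm (m - 1) a b hab) _
      (fun v => OrthEven.Qgen_binForm_apply (m - 1) a b v) m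
    intro χ hχm hdeg hrd h0
    have hcard : Fintype.card ((Fin (m - 1) ⊕ Fin (m - 1)) ⊕ Fin 2) = 2 * m := by
      simp only [Fintype.card_sum, Fintype.card_fin]
      omega
    rw [hcard] at hdeg h0
    have h0' : χ.coeff 0 = 1 := by
      rw [h0, pow_mul, neg_one_sq, one_pow]
    exact even_bound p χ m (by omega) hχm hdeg hrd h0'

end Cfsg.Agent.S2265
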