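import Cfsg.Statements.S2268

set_option autoImplicit false
open Cfsg

namespace Cfsg.Agent.S2268

open Subgroup in
theorem frattini_aux {G : Type*} [Group G] [Finite G] {p : ℕ} [Fact p.Prime]
    (P : Sylow p G) (hP : IsMulCommutative (P : Subgroup G)) (Q : Subgroup G) (hQ : Q ≤ (P : Subgroup G)) :
    Subgroup.normalizer (Q : Set G) =
      (Subgroup.normalizer (Q : Set G) ⊓ Subgroup.normalizer ((P : Subgroup G) : Set G)) ⊔ Subgroup.centralizer (Q : Set G) := by
  apply le_antisymm
  · intro g hg
    have hcomm : ∀ x ∈ (P : Subgroup G), ∀ y ∈ (P : Subgroup G), x * y = y * x := by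
      intro x hx y hy
      have := hP.is_comm.comm (⟨x, hx⟩ : (P : Subgroup G)) ⟨y, hy⟩
      exact congrArg Subtype.val this
    have h1 : (P : Subgroup G) ≤ centralizer (Q : Set G) := by
      intro x hx q hq
      exact hcomm q (hQ hq) x hx
    have h2 : ((g • P : Sylow p G) : Subgroup G) ≤ centralizer (Q : Set G) := by
      rintro - ⟨z, hz, rfl⟩
      intro q hq
      have hq' : g⁻¹ * q * g ∈ Q := by
        have := (Subgroup.mem_normalizer_iff'.mp hg) (g⁻¹ * q)
        rw [this]
        simpa using hq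
      have := hcomm (g⁻¹ * q * g) (hQ hq') z hz
      simp only [MulDistribMulAction.toMonoidEnd_apply, MulDistribMulAction.toMonoidHom_apply,
        MulAut.smul_def, MulAut.conj_apply]
      calc q * (g * z * g⁻¹) = g * ((g⁻¹ * q * g) * z) * g⁻¹ := by group
        _ = g * (z * (g⁻¹ * q * g)) * g⁻¹ := by rw [this]
        _ = g * z * g⁻¹ * q := by group
    obtain ⟨h, hh⟩ :=
      MulAction.exists_smul_eq (centralizer (Q : Set G)) ((g • P).subtype h2) (P.subtype h1)
    simp_rw [Sylow.smul_subtype, Subgroup.smul_def, smul_smul] at hh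
    have hn : (h : G) * g ∈ normalizer ((P : Subgroup G) : Set G) :=
      Sylow.smul_eq_iff_mem_normalizer.mp (Sylow.subtype_injective hh)
    have hcn : centralizer (Q : Set G) ≤ normalizer (Q : Set G) := Subgroup.centralizer_le_normalizer _
    have : g = ((h : G) * g) * (g⁻¹ * (h : G)⁻¹ * g) := by group
    rw [this]
    apply Subgroup.mul_mem_sup
    · exact ⟨Subgroup.mul_mem _ (hcn h.2) hg, hn⟩
    · -- g⁻¹ h⁻¹ g ∈ C(Q) as C(Q) normal in N(Q)
      intro q hq
      have hq' : g * q * g⁻¹ ∈ Q := (Subgroup.mem_normalizer_iff.mp hg q).mp hq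
      have := h.2 (g * q * g⁻¹) hq'
      have h3 : (g * q * g⁻¹) * (h : G)⁻¹ = (h : G)⁻¹ * (g * q * g⁻¹) := by
        rw [eq_inv_mul_iff_mul_eq, ← mul_assoc, ← this, mul_assoc, mul_inv_cancel, mul_one]
      calc q * (g⁻¹ * (h : G)⁻¹ * g) = g⁻¹ * ((g * q * g⁻¹) * (h : G)⁻¹) * g := by group
        _ = g⁻¹ * ((h : G)⁻¹ * (g * q * g⁻¹)) * g := by rw [h3]
        _ = g⁻¹ * (h : G)⁻¹ * g * q := by group
  · apply sup_le inf_le_left (Subgroup.centralizer_le_normalizer _)

open Subgroup in
/-- Let G be a finite group with an abelian Sylow p-subgroup P and let Q ≤ P. Then N_G(Q) = (N_G(Q) ∩ N_G(P))·C_G(Q), so that N_G(Q)/C_G(Q) is a homomorphic image of the subgroup (N_G(Q) ∩ N_G(P))/C_G(P) of N_G(P)/C_G(P); in particular the order of N_G(Q)/C_G(Q) divides the order of N_G(P)/C_G(P). -/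
theorem result {G : Type*} [Group G] [Finite G] {p : ℕ} [Fact p.Prime]
    (P : Sylow p G) (hP : IsMulCommutative (P : Subgroup G)) (Q : Subgroup G) (hQ : Q ≤ (P : Subgroup G)) :
    Subgroup.normalizer (Q : Set G) =
      (Subgroup.normalizer (Q : Set G) ⊓ Subgroup.normalizer ((P : Subgroup G) : Set G)) ⊔ Subgroup.centralizer (Q : Set G) ∧
    ((Subgroup.centralizer (Q : Set G)).subgroupOf (Subgroup.normalizer (Q : Set G))).index ∣ ((Subgroup.centralizer ((P : Subgroup G) : Set G)).subgroupOf (Subgroup.normalizer ((P : Subgroup G) : Set G))).index := by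
  have h1 := frattini_aux P hP Q hQ
  refine ⟨h1, ?_⟩
  have hCN : centralizer (Q : Set G) ≤ normalizer (Q : Set G) := centralizer_le_normalizer _
  have hAN : normalizer (Q : Set G) ⊓ normalizer ((P : Subgroup G) : Set G) ≤ normalizer (Q : Set G) :=
    inf_le_left
  have key : ((centralizer (Q : Set G)).subgroupOf (normalizer (Q : Set G))).index =
      (centralizer (Q : Set G)).relIndex (normalizer (Q : Set G) ⊓ normalizer ((P : Subgroup G) : Set G)) := by
    have htop : ((normalizer (Q : Set G) ⊓ normalizer ((P : Subgroup G) : Set G)).subgroupOf (normalizer (Q : Set G))) ⊔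
        ((centralizer (Q : Set G)).subgroupOf (normalizer (Q : Set G))) = ⊤ := by
      rw [← subgroupOf_sup hAN hCN, ← h1]; exact subgroupOf_self _
    have := relIndex_sup_right
      (H := (normalizer (Q : Set G) ⊓ normalizer ((P : Subgroup G) : Set G)).subgroupOf (normalizer (Q : Set G)))
      (K := (centralizer (Q : Set G)).subgroupOf (normalizer (Q : Set G)))
    rw [htop, relIndex_top_right] at this
    rw [this, relIndex_subgroupOf hAN]
  rw [key]
  have hCPC : centralizer ((P : Subgroup G) : Set G) ≤ centralizer (Q : Set G) :=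
    centralizer_le hQ
  have hCPA : centralizer ((P : Subgroup G) : Set G) ≤
      normalizer (Q : Set G) ⊓ normalizer ((P : Subgroup G) : Set G) :=
    le_inf (hCPC.trans hCN) (centralizer_le_normalizer _)
  have h2 := relIndex_dvd_of_le_left (normalizer (Q : Set G) ⊓ normalizer ((P : Subgroup G) : Set G)) hCPC
  have h3 := relIndex_mul_relIndex _ _ _ hCPA
    (inf_le_right : normalizer (Q : Set G) ⊓ normalizer ((P : Subgroup G) : Set G) ≤ _)
  exact h2.trans (Dvd.intro _ h3)

end Cfsg.Agent.S2268
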