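import Cfsg.Statements.S2270
import Cfsg.Agent.S2268

set_option autoImplicit false
open Cfsg

namespace Cfsg.Agent.S2270

open Subgroup in
/-- If `τ σ τ⁻¹ = σ⁻¹` with `σ² ≠ 1` then `N(⟨σ⟩)/C(⟨σ⟩)` has even order. -/
theorem even_index_of_inverting {G : Type*} [Group G] [Finite G] (σ τ : G)
    (h : τ * σ * τ⁻¹ = σ⁻¹) (hσ : σ ^ 2 ≠ 1) :
    2 ∣ ((centralizer ((zpowers σ : Subgroup G) : Set G)).subgroupOf
      (normalizer ((zpowers σ : Subgroup G) : Set G))).index := by
  have hτN : τ ∈ normalizer ((zpowers σ : Subgroup G) : Set G) := by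
    rw [Subgroup.mem_normalizer_iff]
    intro x
    constructor
    · rintro ⟨k, rfl⟩
      refine ⟨-k, ?_⟩
      simp only []
      rw [← conj_zpow] 
      rw [h]; simp
    · rintro ⟨k, hk⟩
      refine ⟨-k, ?_⟩
      simp only [] at hk ⊢
      have : x = τ⁻¹ * σ ^ k * τ := by rw [hk]; group
      rw [this]
      have h' : τ⁻¹ * σ * τ = σ⁻¹ := by
        have : σ = τ⁻¹ * σ⁻¹ * τ := by rw [← h]; group
        calc τ⁻¹ * σ * τ = (τ⁻¹ * σ⁻¹ * τ)⁻¹ := by group
          _ = σ⁻¹ := by rw [← this]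
      have h2 : τ⁻¹ * σ ^ k * τ = (τ⁻¹ * σ * τ) ^ k := by
        have := conj_zpow (a := τ⁻¹) (b := σ) (i := k)
        simpa using this.symm
      rw [h2, h']; simp
  rw [Subgroup.index_eq_card]
  set N := normalizer ((zpowers σ : Subgroup G) : Set G)
  set C := (centralizer ((zpowers σ : Subgroup G) : Set G)).subgroupOf N
  let x : N ⧸ C := QuotientGroup.mk (⟨τ, hτN⟩ : N)
  have hx1 : x ≠ 1 := by
    intro hx
    have : (⟨τ, hτN⟩ : N) ∈ C := (QuotientGroup.eq_one_iff _).mp hx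
    rw [Subgroup.mem_subgroupOf] at this
    have h3 := this σ (mem_zpowers σ)
    simp only [] at h3
    apply hσ
    have : τ * σ * τ⁻¹ = σ := by rw [← h3]; group
    rw [h] at this
    calc σ ^ 2 = σ * σ := pow_two σ
      _ = σ⁻¹ * σ := by rw [this]
      _ = 1 := by group
  have hx2 : x ^ 2 = 1 := by
    have : x ^ 2 = QuotientGroup.mk ((⟨τ, hτN⟩ : N) ^ 2) := rfl
    rw [this, QuotientGroup.eq_one_iff, Subgroup.mem_subgroupOf]
    have hτ2 : τ ^ 2 * σ = σ * τ ^ 2 := by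
      have e1 : τ * σ = σ⁻¹ * τ := by rw [← h]; group
      have e2 : τ * σ⁻¹ = σ * τ := by
        have : τ * σ⁻¹ * τ⁻¹ = σ := by
          calc τ * σ⁻¹ * τ⁻¹ = (τ * σ * τ⁻¹)⁻¹ := by group
            _ = σ := by rw [h]; simp
        calc τ * σ⁻¹ = (τ * σ⁻¹ * τ⁻¹) * τ := by group
          _ = σ * τ := by rw [this]
      calc τ ^ 2 * σ = τ * (τ * σ) := by rw [pow_two, mul_assoc]
        _ = τ * (σ⁻¹ * τ) := by rw [e1]
        _ = (τ * σ⁻¹) * τ := by rw [mul_assoc]
        _ = σ * τ * τ := by rw [e2]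
        _ = σ * τ ^ 2 := by rw [pow_two, mul_assoc]
    intro y hy
    obtain ⟨k, rfl⟩ := hy
    simp only [Subgroup.coe_pow]
    have : Commute (τ ^ 2) σ := hτ2
    exact ((this.zpow_right k).eq).symm
  have h2 : orderOf x = 2 := orderOf_eq_prime hx2 hx1
  rw [← h2]
  exact orderOf_dvd_natCard x

/-- Let n ≥ 3, p an odd prime, and P an abelian Sylow p-subgroup of the symmetric group S_n (with p dividing n!, so that P ≠ 1). Then N(P)/C(P) has even order. -/
theorem result (n : ℕ) (hn : 3 ≤ n) {p : ℕ} [Fact p.Prime] (hp : p ≠ 2) (hpn : p ≤ n)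
    (P : Sylow p (Equiv.Perm (Fin n))) (hP : IsMulCommutative (P : Subgroup (Equiv.Perm (Fin n)))) :
    2 ∣ ((Subgroup.centralizer ((P : Subgroup (Equiv.Perm (Fin n))) : Set (Equiv.Perm (Fin n)))).subgroupOf (Subgroup.normalizer ((P : Subgroup (Equiv.Perm (Fin n))) : Set (Equiv.Perm (Fin n))))).index := by
  have hpp : p.Prime := Fact.out
  -- p divides card P
  have hcard : p ∣ Nat.card (P : Subgroup (Equiv.Perm (Fin n))) := by
    have h1 : p ∣ Nat.card (Equiv.Perm (Fin n)) := by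
      rw [Nat.card_eq_fintype_card, Fintype.card_perm, Fintype.card_fin]
      exact (Nat.Prime.dvd_factorial hpp).mpr hpn
    exact P.dvd_card_of_dvd_card h1 
  obtain ⟨s, hs⟩ := exists_prime_orderOf_dvd_card' p hcard
  set σ : Equiv.Perm (Fin n) := (s : Equiv.Perm (Fin n)) with hσdef
  have hσo : orderOf σ = p := by rw [hσdef, Subgroup.orderOf_coe, hs]
  have hσP : σ ∈ (P : Subgroup (Equiv.Perm (Fin n))) := s.2
  have hQ : Subgroup.zpowers σ ≤ (P : Subgroup (Equiv.Perm (Fin n))) := by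
    rw [Subgroup.zpowers_le]; exact hσP
  -- conjugate to inverse
  have hconj : IsConj σ σ⁻¹ := by
    rw [Equiv.Perm.isConj_iff_cycleType_eq, Equiv.Perm.cycleType_inv]
  obtain ⟨τ, hτ⟩ := isConj_iff.mp hconj
  have hσ2 : σ ^ 2 ≠ 1 := by
    intro h
    have := orderOf_dvd_of_pow_eq_one h
    rw [hσo] at this
    have := (Nat.prime_dvd_prime_iff_eq hpp Nat.prime_two).mp this
    exact hp this
  have h1 := even_index_of_inverting σ τ hτ hσ2
  have h2 := (Cfsg.Agent.S2268.result P hP (Subgroup.zpowers σ) hQ).2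
  exact h1.trans h2

end Cfsg.Agent.S2270
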