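import Cfsg.Statements.S2271
import Mathlib

set_option autoImplicit false
open Cfsg

namespace Cfsg.Agent.S2271

open Equiv

section General

set_option linter.unusedSectionVars false

variable {α : Type*} [DecidableEq α]

theorem conj_apply (s β : Perm α) (y : α) : (s * β * s⁻¹) (s y) = s (β y) := by
  simp [Perm.mul_apply]

theorem exists_preimage (s : Perm α) (x : α) : ∃ y, s y = x := ⟨s⁻¹ x, by simp⟩

theorem exists_moved (f : Perm α) (hf : f ≠ 1) : ∃ x, f x ≠ x := by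
  by_contra h
  push Not at h
  exact hf (Perm.ext (fun x => by simpa using h x))

/-- The 3-cycle `i → j → k → i`. -/
def cyc3 (i j k : α) : Perm α := swap i j * swap j k

theorem cyc3_fst {i j k : α} (hij : i ≠ j) (hik : i ≠ k) : cyc3 i j k i = j := by
  simp [cyc3, Perm.mul_apply, swap_apply_of_ne_of_ne hij hik]

theorem cyc3_snd {i j k : α} (hik : i ≠ k) (hjk : j ≠ k) : cyc3 i j k j = k := by
  simp [cyc3, Perm.mul_apply, swap_apply_of_ne_of_ne hik.symm hjk.symm]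

theorem cyc3_thd {i j k : α} : cyc3 i j k k = i := by
  simp [cyc3, Perm.mul_apply]

theorem cyc3_of_ne {i j k y : α} (h1 : y ≠ i) (h2 : y ≠ j) (h3 : y ≠ k) : cyc3 i j k y = y := by
  simp [cyc3, Perm.mul_apply, swap_apply_of_ne_of_ne h2 h3, swap_apply_of_ne_of_ne h1 h2]

theorem pos2 {r₀ r₁ p₀ p₁ : α} (hr : r₀ ≠ r₁) (hp : p₀ ≠ p₁) :
    ∃ h : Perm α, h r₀ = p₀ ∧ h r₁ = p₁ := by
  have h1 : swap r₀ p₀ r₁ ≠ p₀ := by
    intro h
    have : swap r₀ p₀ r₁ = swap r₀ p₀ r₀ := by rw [h, swap_apply_left]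
    exact hr ((swap r₀ p₀).injective this).symm
  refine ⟨swap (swap r₀ p₀ r₁) p₁ * swap r₀ p₀, ?_, ?_⟩
  · rw [Perm.mul_apply, swap_apply_left, swap_apply_of_ne_of_ne (Ne.symm h1) hp]
  · rw [Perm.mul_apply, swap_apply_left]

theorem pos_step (h : Perm α) (r p : α) :
    ∃ h' : Perm α, h' r = p ∧ ∀ x, h x ≠ h r → h x ≠ p → h' x = h x :=
  ⟨swap (h r) p * h, by simp [Perm.mul_apply], fun x h1 h2 => by
    rw [Perm.mul_apply, swap_apply_of_ne_of_ne h1 h2]⟩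

theorem card_fix_comm (x y : Perm α) :
    Nat.card (Function.fixedPoints ⇑(x * y)) = Nat.card (Function.fixedPoints ⇑(y * x)) := by
  apply Nat.card_congr
  refine Equiv.subtypeEquiv y (fun z => ?_)
  simp only [Function.mem_fixedPoints, Function.IsFixedPt, Perm.mul_apply]
  constructor
  · intro h; rw [h]
  · intro h; exact y.injective h

theorem card_ne [Finite α] (a β β' : Perm α) (p : α) (H1 : ∀ x, β' x = a⁻¹ x → β x = a⁻¹ x)
    (H2 : β p = a⁻¹ p) (H3 : β' p ≠ a⁻¹ p) :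
    Nat.card (Function.fixedPoints ⇑(a * β)) ≠ Nat.card (Function.fixedPoints ⇑(a * β')) := by
  have key : ∀ (γ : Perm α) (x : α), x ∈ Function.fixedPoints ⇑(a * γ) ↔ γ x = a⁻¹ x := by
    intro γ x
    rw [Function.mem_fixedPoints, Function.IsFixedPt, Perm.mul_apply, Perm.eq_inv_iff_eq]
  have hsub : Function.fixedPoints ⇑(a * β') ⊂ Function.fixedPoints ⇑(a * β) := by
    refine ⟨fun x hx => (key β x).2 (H1 x ((key β' x).1 hx)), fun hcon => ?_⟩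
    exact H3 ((key β' p).1 (hcon ((key β p).2 H2)))
  have hlt := Set.ncard_lt_ncard hsub (Set.toFinite _)
  rw [Nat.card_coe_set_eq, Nat.card_coe_set_eq]
  omega

/-! ### The three moves -/

theorem moveB {c β : Perm α} {p q x₂ x₃ : α} (hpq : p ≠ q) (hcp : c p = q) (hβp : β p = q)
    (hβq : β q = x₂) (hβx : β x₂ = x₃) (hx₂p : x₂ ≠ p) (hx₃p : x₃ ≠ p) (hc : c x₂ ≠ p) :
    ∃ s : Perm α, s = cyc3 p q x₂ ∧
      (∀ x, (s * β * s⁻¹) x = c x → β x = c x) ∧ (s * β * s⁻¹) p ≠ c p := by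
  have hx₂q : x₂ ≠ q := fun h => hpq (β.injective (by rw [hβp, hβq]; exact h.symm))
  have hx₃q : x₃ ≠ q := fun h => hx₂p (β.injective (by rw [hβx, hβp]; exact h))
  have hx₃x₂ : x₃ ≠ x₂ := fun h => hx₂q (β.injective (by rw [hβx, hβq]; exact h))
  have sp : cyc3 p q x₂ p = q := cyc3_fst hpq hx₂p.symm
  have sq : cyc3 p q x₂ q = x₂ := cyc3_snd hx₂p.symm hx₂q.symm
  have sx : cyc3 p q x₂ x₂ = p := cyc3_thd
  refine ⟨cyc3 p q x₂, rfl, ?_, ?_⟩
  · intro x hx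
    obtain ⟨y, rfl⟩ := exists_preimage (cyc3 p q x₂) x
    rw [conj_apply] at hx
    by_cases hyp : y = p
    · rw [hyp, hβp, sq, sp] at hx
      rw [hyp, sp, hβq]
      exact hx
    by_cases hyq : y = q
    · rw [hyq, hβq, sx, sq] at hx
      exact absurd hx.symm hc
    by_cases hyx : y = x₂
    · rw [hyx, hβx, cyc3_of_ne hx₃p hx₃q hx₃x₂, sx, hcp] at hx
      exact absurd hx hx₃q
    · have hsy : cyc3 p q x₂ y = y := cyc3_of_ne hyp hyq hyx
      rw [hsy] at hx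
      rw [hsy]
      by_cases h1 : β y = p
      · rw [h1, sp] at hx
        exact absurd (c.injective (hx.symm.trans hcp.symm)) hyp
      by_cases h2 : β y = q
      · exact absurd (β.injective (h2.trans hβp.symm)) hyp
      by_cases h3 : β y = x₂
      · exact absurd (β.injective (h3.trans hβq.symm)) hyq
      · rwa [cyc3_of_ne h1 h2 h3] at hx
  · have h := conj_apply (cyc3 p q x₂) β x₂
    rw [sx, hβx, cyc3_of_ne hx₃p hx₃q hx₃x₂] at h
    rw [h, hcp]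
    exact hx₃q

theorem moveT {c β : Perm α} {p q w : α} (hpq : p ≠ q) (hcp : c p = q) (hβp : β p = q)
    (hβq : β q = p) (hwp : w ≠ p) (hwq : w ≠ q) (hcw : c w ≠ p) (hβw : β w ≠ c q) :
    ∃ s : Perm α, (∀ x, (s * β * s⁻¹) x = c x → β x = c x) ∧ (s * β * s⁻¹) p ≠ c p := by
  refine ⟨swap q w, ?_, ?_⟩
  · intro x hx
    obtain ⟨y, rfl⟩ := exists_preimage (swap q w) x
    rw [conj_apply] at hx
    by_cases hyq : y = q
    · rw [hyq, hβq, swap_apply_left, swap_apply_of_ne_of_ne hpq hwp.symm] at hx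
      exact absurd hx.symm hcw
    by_cases hyw : y = w
    · rw [hyw, swap_apply_right] at hx
      exfalso
      by_cases h1 : β w = q
      · exact hwp (β.injective (h1.trans hβp.symm))
      by_cases h2 : β w = w
      · rw [h2, swap_apply_right] at hx
        exact hpq (c.injective (hcp.trans hx))
      · rw [swap_apply_of_ne_of_ne h1 h2] at hx
        exact hβw hx
    · rw [swap_apply_of_ne_of_ne hyq hyw] at hx
      rw [swap_apply_of_ne_of_ne hyq hyw]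
      by_cases h1 : β y = q
      · have hyp : y = p := β.injective (h1.trans hβp.symm)
        rw [h1, swap_apply_left, hyp, hcp] at hx
        exact absurd hx hwq
      by_cases h2 : β y = w
      · rw [h2, swap_apply_right] at hx
        have hyp : y = p := c.injective (hx.symm.trans hcp.symm)
        rw [hyp, hβp] at h2
        exact absurd h2.symm hwq
      · rwa [swap_apply_of_ne_of_ne h1 h2] at hx
  · have h := conj_apply (swap q w) β p
    rw [swap_apply_of_ne_of_ne hpq hwp.symm, hβp, swap_apply_left] at h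
    rw [h, hcp]
    exact hwq

theorem moveD {c β : Perm α} {p q x₂ : α} (hpq : p ≠ q) (hcp : c p = q) (hβp : β p = q)
    (hβq : β q = x₂) (hβx : β x₂ = p) (hcq : c q ≠ p) :
    ∃ s : Perm α, (∀ x, (s * β * s⁻¹) x = c x → β x = c x) ∧ (s * β * s⁻¹) p ≠ c p := by
  have hx₂q : x₂ ≠ q := fun h => hpq (β.injective (by rw [hβp, hβq]; exact h.symm))
  have hx₂p : x₂ ≠ p := by
    intro h
    rw [h] at hβx
    exact hpq (hβx.symm.trans hβp)
  refine ⟨swap p q, ?_, ?_⟩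
  · intro x hx
    obtain ⟨y, rfl⟩ := exists_preimage (swap p q) x
    rw [conj_apply] at hx
    by_cases hyp : y = p
    · rw [hyp, hβp, swap_apply_left, swap_apply_right] at hx
      exact absurd hx.symm hcq
    by_cases hyq : y = q
    · rw [hyq, hβq, swap_apply_right, swap_apply_of_ne_of_ne hx₂p hx₂q, hcp] at hx
      exact absurd hx hx₂q
    · rw [swap_apply_of_ne_of_ne hyp hyq] at hx
      rw [swap_apply_of_ne_of_ne hyp hyq]
      by_cases h1 : β y = p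
      · rw [h1, swap_apply_left] at hx
        exact absurd (c.injective (hx.symm.trans hcp.symm)) hyp
      by_cases h2 : β y = q
      · exact absurd (β.injective (h2.trans hβp.symm)) hyp
      · rwa [swap_apply_of_ne_of_ne h1 h2] at hx
  · have h := conj_apply (swap p q) β q
    rw [swap_apply_right, hβq, swap_apply_of_ne_of_ne hx₂p hx₂q] at h
    rw [h, hcp]
    exact hx₂q

/-! ### Parity -/

variable [Fintype α]

theorem sign_cyc3 {i j k : α} (hij : i ≠ j) (hjk : j ≠ k) : Perm.sign (cyc3 i j k) = 1 := by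
  simp [cyc3, Perm.sign_swap hij, Perm.sign_swap hjk]

theorem exists_even_conj {b : Perm α} (hodd : ∃ s : Perm α, Perm.sign s = -1 ∧ s * b = b * s)
    (g : Perm α) : ∃ g' : Perm α, Perm.sign g' = 1 ∧ g' * b * g'⁻¹ = g * b * g⁻¹ := by
  obtain ⟨s, hs, hsb⟩ := hodd
  rcases Int.units_eq_one_or (Perm.sign g) with h | h
  · exact ⟨g, h, rfl⟩
  · refine ⟨g * s, by simp [h, hs], ?_⟩
    have hsb' : s * b * s⁻¹ = b := by rw [hsb]; group
    calc g * s * b * (g * s)⁻¹ = g * (s * b * s⁻¹) * g⁻¹ := by group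
      _ = g * b * g⁻¹ := by rw [hsb']

theorem odd_comm_of_two_cycle {b : Perm α} {r : α} (h1 : b r ≠ r) (h2 : b (b r) = r) :
    ∃ s : Perm α, Perm.sign s = -1 ∧ s * b = b * s := by
  refine ⟨swap r (b r), Perm.sign_swap (Ne.symm h1), ?_⟩
  rw [Equiv.mul_swap_eq_swap_mul, h2, Equiv.swap_comm]

theorem odd_comm_of_two_fixed {b : Perm α} {u v : α} (huv : u ≠ v) (hu : b u = u) (hv : b v = v) :
    ∃ s : Perm α, Perm.sign s = -1 ∧ s * b = b * s := by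
  refine ⟨swap u v, Perm.sign_swap huv, ?_⟩
  rw [Equiv.mul_swap_eq_swap_mul, hu, hv]

theorem odd_comm_of_two_three_cycles {b : Perm α} {x₀ x₁ x₂ y₀ y₁ y₂ : α}
    (hx₀ : b x₀ = x₁) (hx₁ : b x₁ = x₂) (hx₂ : b x₂ = x₀)
    (hy₀ : b y₀ = y₁) (hy₁ : b y₁ = y₂) (hy₂ : b y₂ = y₀)
    (hx : x₀ ≠ x₁) (hy : y₀ ≠ y₁) (h0 : y₀ ≠ x₀) (h1 : y₀ ≠ x₁) (h2 : y₀ ≠ x₂) :
    ∃ s : Perm α, Perm.sign s = -1 ∧ s * b = b * s := by
  have hx12 : x₁ ≠ x₂ := fun h => hx (b.injective (by rw [hx₀, hx₁]; exact h))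
  have hx20 : x₂ ≠ x₀ := fun h => hx12 (b.injective (by rw [hx₁, hx₂]; exact h))
  have hy12 : y₁ ≠ y₂ := fun h => hy (b.injective (by rw [hy₀, hy₁]; exact h))
  have hy20 : y₂ ≠ y₀ := fun h => hy12 (b.injective (by rw [hy₁, hy₂]; exact h))
  have h11 : y₁ ≠ x₁ := fun h => h0 (b.injective (by rw [hy₀, hx₀]; exact h))
  have h12 : y₁ ≠ x₂ := fun h => h1 (b.injective (by rw [hy₀, hx₁]; exact h))
  have h10 : y₁ ≠ x₀ := fun h => h2 (b.injective (by rw [hy₀, hx₂]; exact h))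
  have h22 : y₂ ≠ x₂ := fun h => h11 (b.injective (by rw [hy₁, hx₁]; exact h))
  have h20 : y₂ ≠ x₀ := fun h => h12 (b.injective (by rw [hy₁, hx₂]; exact h))
  have h21 : y₂ ≠ x₁ := fun h => h10 (b.injective (by rw [hy₁, hx₀]; exact h))
  have c01 : Commute (swap x₀ y₀) (swap x₁ y₁) :=
    (Perm.disjoint_swap_swap (by
      simp [h0.symm, hx, h10.symm, h1, hy, h11.symm])).commute
  have c02 : Commute (swap x₀ y₀) (swap x₂ y₂) :=
    (Perm.disjoint_swap_swap (by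
      simp [h0.symm, hx20.symm, h20.symm, h2, hy20.symm, h22.symm])).commute
  refine ⟨swap x₀ y₀ * swap x₁ y₁ * swap x₂ y₂, ?_, ?_⟩
  · simp [Perm.sign_swap h0.symm, Perm.sign_swap h11.symm, Perm.sign_swap h22.symm]
  · have e : b * (swap x₀ y₀ * swap x₁ y₁ * swap x₂ y₂) * b⁻¹
        = swap x₀ y₀ * swap x₁ y₁ * swap x₂ y₂ := by
      have e1 : b * (swap x₀ y₀ * swap x₁ y₁ * swap x₂ y₂) * b⁻¹
          = (b * swap x₀ y₀ * b⁻¹) * (b * swap x₁ y₁ * b⁻¹) * (b * swap x₂ y₂ * b⁻¹) := by group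
      rw [e1, ← Equiv.swap_apply_apply, ← Equiv.swap_apply_apply, ← Equiv.swap_apply_apply,
        hx₀, hx₁, hx₂, hy₀, hy₁, hy₂]
      calc swap x₁ y₁ * swap x₂ y₂ * swap x₀ y₀
          = swap x₁ y₁ * (swap x₀ y₀ * swap x₂ y₂) := by rw [mul_assoc, c02.eq]
        _ = swap x₀ y₀ * swap x₁ y₁ * swap x₂ y₂ := by rw [← mul_assoc, ← c01.eq]
    calc swap x₀ y₀ * swap x₁ y₁ * swap x₂ y₂ * b
        = (b * (swap x₀ y₀ * swap x₁ y₁ * swap x₂ y₂) * b⁻¹) * b := by rw [e]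
      _ = b * (swap x₀ y₀ * swap x₁ y₁ * swap x₂ y₂) := by group

end General

/-! ### Fin n specifics -/

section FinN

variable {n : ℕ}

theorem exists_two_outside (hn : 5 ≤ n) (a b c : Fin n) :
    ∃ u v : Fin n, u ≠ v ∧ (u ≠ a ∧ u ≠ b ∧ u ≠ c) ∧ (v ≠ a ∧ v ≠ b ∧ v ≠ c) := by
  have hcard : 1 < (({a, b, c} : Finset (Fin n))ᶜ).card := by
    rw [Finset.card_compl, Fintype.card_fin]
    have := Finset.card_le_three (a := a) (b := b) (c := c)
    omega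
  obtain ⟨u, hu, v, hv, huv⟩ := Finset.one_lt_card.mp hcard
  simp only [Finset.mem_compl, Finset.mem_insert, Finset.mem_singleton, not_or] at hu hv
  exact ⟨u, v, huv, hu, hv⟩

theorem exists_outside (hn : 5 ≤ n) (S : Finset (Fin n)) (hS : S.card ≤ 4) : ∃ w, w ∉ S := by
  have : S.card < (Finset.univ : Finset (Fin n)).card := by
    rw [Finset.card_univ, Fintype.card_fin]; omega
  obtain ⟨e, _, he⟩ := Finset.exists_mem_notMem_of_card_lt_card this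
  exact ⟨e, he⟩

theorem pos3_even (hn : 5 ≤ n) {r₀ r₁ r₂ p₀ p₁ p₂ : Fin n} (hr01 : r₀ ≠ r₁) (hr02 : r₀ ≠ r₂)
    (hr12 : r₁ ≠ r₂) (hp01 : p₀ ≠ p₁) (hp02 : p₀ ≠ p₂) (hp12 : p₁ ≠ p₂) :
    ∃ h : Perm (Fin n), Perm.sign h = 1 ∧ h r₀ = p₀ ∧ h r₁ = p₁ ∧ h r₂ = p₂ := by
  obtain ⟨h, h0, h1⟩ := pos2 hr01 hp01
  obtain ⟨h', h2', hh'⟩ := pos_step h r₂ p₂
  have h0' : h' r₀ = p₀ := by
    rw [hh' r₀ (fun e => hr02 (h.injective e)) (by rw [h0]; exact hp02), h0]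
  have h1' : h' r₁ = p₁ := by
    rw [hh' r₁ (fun e => hr12 (h.injective e)) (by rw [h1]; exact hp12), h1]
  rcases Int.units_eq_one_or (Perm.sign h') with hs | hs
  · exact ⟨h', hs, h0', h1', h2'⟩
  · obtain ⟨u, v, huv, hu, hv⟩ := exists_two_outside hn p₀ p₁ p₂
    refine ⟨swap u v * h', by simp [hs, Perm.sign_swap huv], ?_, ?_, ?_⟩
    · rw [Perm.mul_apply, h0', swap_apply_of_ne_of_ne hu.1.symm hv.1.symm]
    · rw [Perm.mul_apply, h1', swap_apply_of_ne_of_ne hu.2.1.symm hv.2.1.symm]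
    · rw [Perm.mul_apply, h2', swap_apply_of_ne_of_ne hu.2.2.symm hv.2.2.symm]

/-- The conclusion with only `b` conjugated. -/
def Concl (a b : Perm (Fin n)) : Prop :=
  ∃ h₁ h₂ : Perm (Fin n), h₁ ∈ alternatingGroup (Fin n) ∧ h₂ ∈ alternatingGroup (Fin n) ∧
    Nat.card (Function.fixedPoints ⇑(a * (h₁ * b * h₁⁻¹))) ≠
      Nat.card (Function.fixedPoints ⇑(a * (h₂ * b * h₂⁻¹)))

theorem caseB (hn : 5 ≤ n) (a b : Perm (Fin n)) (ha : a ≠ 1)
    (hB : ∃ r, b r ≠ r ∧ b (b r) ≠ r ∧ b (b (b r)) ≠ r) : Concl a b := by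
  obtain ⟨r, hr1, hr2, hr3⟩ := hB
  obtain ⟨p, hp⟩ := exists_moved a⁻¹ (inv_ne_one.mpr ha)
  obtain ⟨x₂, hx₂⟩ := exists_outside hn {p, a⁻¹ p, a⁻¹⁻¹ p} (Finset.card_le_three.trans (by norm_num))
  simp only [Finset.mem_insert, Finset.mem_singleton, not_or] at hx₂
  obtain ⟨hx₂p, hx₂q, hx₂c⟩ := hx₂
  have hr12 : b r ≠ b (b r) := fun h => hr1 (b.injective h).symm
  obtain ⟨h, hs, h0, h1, h2⟩ := pos3_even hn (Ne.symm hr1) (Ne.symm hr2) hr12 (Ne.symm hp)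
    (Ne.symm hx₂p) (Ne.symm hx₂q)
  have hβp : (h * b * h⁻¹) p = a⁻¹ p := by
    have := conj_apply h b r
    rwa [h0, h1] at this
  have hβq : (h * b * h⁻¹) (a⁻¹ p) = x₂ := by
    have := conj_apply h b (b r)
    rwa [h1, h2] at this
  have hβx : (h * b * h⁻¹) x₂ = h (b (b (b r))) := by
    have := conj_apply h b (b (b r))
    rwa [h2] at this
  have hx₃p : h (b (b (b r))) ≠ p := by
    intro e
    rw [← h0] at e
    exact hr3 (h.injective e)
  have hc : a⁻¹ x₂ ≠ p := by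
    intro e
    apply hx₂c
    rw [← e]
    simp
  obtain ⟨s, hs', H1, H3⟩ := moveB (c := a⁻¹) (Ne.symm hp) rfl hβp hβq hβx hx₂p hx₃p hc
  have hss : Perm.sign s = 1 := by
    rw [hs']
    exact sign_cyc3 (Ne.symm hp) (Ne.symm hx₂q)
  refine ⟨h, s * h, Perm.mem_alternatingGroup.2 hs, Perm.mem_alternatingGroup.2 (by simp [hs, hss]), ?_⟩
  have e : s * h * b * (s * h)⁻¹ = s * (h * b * h⁻¹) * s⁻¹ := by group
  rw [e]
  exact card_ne a _ _ p H1 hβp H3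

theorem caseT (hn : 5 ≤ n) (a b : Perm (Fin n)) (ha : a ≠ 1)
    (hT : ∃ r, b r ≠ r ∧ b (b r) = r) : Concl a b := by
  obtain ⟨r, hr1, hr2⟩ := hT
  obtain ⟨p, hp⟩ := exists_moved a⁻¹ (inv_ne_one.mpr ha)
  obtain ⟨h, h0, h1⟩ := pos2 (Ne.symm hr1) (Ne.symm hp)
  have hβp : (h * b * h⁻¹) p = a⁻¹ p := by
    have := conj_apply h b r
    rwa [h0, h1] at this
  have hβq : (h * b * h⁻¹) (a⁻¹ p) = p := by
    have := conj_apply h b (b r)
    rwa [h1, hr2, h0] at this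
  obtain ⟨w, hw⟩ := exists_outside hn {p, a⁻¹ p, a⁻¹⁻¹ p, (h * b * h⁻¹)⁻¹ (a⁻¹ (a⁻¹ p))}
    Finset.card_le_four
  simp only [Finset.mem_insert, Finset.mem_singleton, not_or] at hw
  obtain ⟨hwp, hwq, hwc, hwβ⟩ := hw
  have hcw : a⁻¹ w ≠ p := by
    intro e
    apply hwc
    rw [← e]
    simp
  have hβw : (h * b * h⁻¹) w ≠ a⁻¹ (a⁻¹ p) := by
    intro e
    apply hwβ
    rw [← e]
    simp
  obtain ⟨s, H1, H3⟩ := moveT (c := a⁻¹) (Ne.symm hp) rfl hβp hβq hwp hwq hcw hβw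
  have hodd := odd_comm_of_two_cycle hr1 hr2
  obtain ⟨g₁, hg₁, e₁⟩ := exists_even_conj hodd h
  obtain ⟨g₂, hg₂, e₂⟩ := exists_even_conj hodd (s * h)
  refine ⟨g₁, g₂, Perm.mem_alternatingGroup.2 hg₁, Perm.mem_alternatingGroup.2 hg₂, ?_⟩
  have e : s * h * b * (s * h)⁻¹ = s * (h * b * h⁻¹) * s⁻¹ := by group
  rw [e₁, e₂, e]
  exact card_ne a _ _ p H1 hβp H3

theorem caseD (a b : Perm (Fin n)) (h3 : ∃ r, b r ≠ r ∧ b (b (b r)) = r)
    (hodd : ∃ s : Perm (Fin n), Perm.sign s = -1 ∧ s * b = b * s)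
    (hc : ∃ p, a⁻¹ p ≠ p ∧ a⁻¹ (a⁻¹ p) ≠ p) : Concl a b := by
  obtain ⟨r, hr1, hr3⟩ := h3
  obtain ⟨p, hp, hp2⟩ := hc
  obtain ⟨h, h0, h1⟩ := pos2 (Ne.symm hr1) (Ne.symm hp)
  have hβp : (h * b * h⁻¹) p = a⁻¹ p := by
    have := conj_apply h b r
    rwa [h0, h1] at this
  have hβq : (h * b * h⁻¹) (a⁻¹ p) = h (b (b r)) := by
    have := conj_apply h b (b r)
    rwa [h1] at this
  have hβx : (h * b * h⁻¹) (h (b (b r))) = p := by
    have := conj_apply h b (b (b r))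
    rwa [hr3, h0] at this
  obtain ⟨s, H1, H3⟩ := moveD (c := a⁻¹) (Ne.symm hp) rfl hβp hβq hβx hp2
  obtain ⟨g₁, hg₁, e₁⟩ := exists_even_conj hodd h
  obtain ⟨g₂, hg₂, e₂⟩ := exists_even_conj hodd (s * h)
  refine ⟨g₁, g₂, Perm.mem_alternatingGroup.2 hg₁, Perm.mem_alternatingGroup.2 hg₂, ?_⟩
  have e : s * h * b * (s * h)⁻¹ = s * (h * b * h⁻¹) * s⁻¹ := by group
  rw [e₁, e₂, e]
  exact card_ne a _ _ p H1 hβp H3

theorem odd_of_three (hn : 5 ≤ n) (b : Perm (Fin n)) (hb : ∃ r, b r ≠ r)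
    (h3 : ∀ r, b r ≠ r → b (b r) ≠ r ∧ b (b (b r)) = r) :
    ∃ s : Perm (Fin n), Perm.sign s = -1 ∧ s * b = b * s := by
  obtain ⟨r, hr⟩ := hb
  obtain ⟨u, v, huv, ⟨hu0, hu1, hu2⟩, ⟨hv0, hv1, hv2⟩⟩ := exists_two_outside hn r (b r) (b (b r))
  by_cases hu : b u = u
  · by_cases hv : b v = v
    · exact odd_comm_of_two_fixed huv hu hv
    · exact odd_comm_of_two_three_cycles (x₀ := r) (y₀ := v) rfl rfl (h3 r hr).2 rfl rfl (h3 v hv).2
        (Ne.symm hr) (Ne.symm hv) hv0 hv1 hv2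
  · exact odd_comm_of_two_three_cycles (x₀ := r) (y₀ := u) rfl rfl (h3 r hr).2 rfl rfl (h3 u hu).2
      (Ne.symm hr) (Ne.symm hu) hu0 hu1 hu2

end FinN

theorem result (n : ℕ) (hn : 5 ≤ n) (a b : Equiv.Perm (Fin n)) (ha : a ≠ 1) (hb : b ≠ 1) :
    ∃ g₁ h₁ g₂ h₂ : Equiv.Perm (Fin n), g₁ ∈ alternatingGroup (Fin n) ∧ h₁ ∈ alternatingGroup (Fin n) ∧ g₂ ∈ alternatingGroup (Fin n) ∧ h₂ ∈ alternatingGroup (Fin n) ∧
      Nat.card (Function.fixedPoints ⇑(g₁ * a * g₁⁻¹ * (h₁ * b * h₁⁻¹))) ≠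
        Nat.card (Function.fixedPoints ⇑(g₂ * a * g₂⁻¹ * (h₂ * b * h₂⁻¹))) := by
  have finish : Concl a b → ∃ g₁ h₁ g₂ h₂ : Equiv.Perm (Fin n), g₁ ∈ alternatingGroup (Fin n) ∧
      h₁ ∈ alternatingGroup (Fin n) ∧ g₂ ∈ alternatingGroup (Fin n) ∧ h₂ ∈ alternatingGroup (Fin n) ∧
      Nat.card (Function.fixedPoints ⇑(g₁ * a * g₁⁻¹ * (h₁ * b * h₁⁻¹))) ≠
        Nat.card (Function.fixedPoints ⇑(g₂ * a * g₂⁻¹ * (h₂ * b * h₂⁻¹))) := by
    rintro ⟨h₁, h₂, hh₁, hh₂, hne⟩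
    refine ⟨1, h₁, 1, h₂, one_mem _, hh₁, one_mem _, hh₂, ?_⟩
    simp only [one_mul, inv_one, mul_one]
    exact hne
  by_cases hB : ∃ r, b r ≠ r ∧ b (b r) ≠ r ∧ b (b (b r)) ≠ r
  · exact finish (caseB hn a b ha hB)
  by_cases hT : ∃ r, b r ≠ r ∧ b (b r) = r
  · exact finish (caseT hn a b ha hT)
  have h3 : ∀ r, b r ≠ r → b (b r) ≠ r ∧ b (b (b r)) = r := by
    intro r hr
    have h2 : b (b r) ≠ r := fun e => hT ⟨r, hr, e⟩
    refine ⟨h2, ?_⟩
    by_contra e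
    exact hB ⟨r, hr, h2, e⟩
  obtain ⟨r, hr⟩ := exists_moved b hb
  have hodd := odd_of_three hn b ⟨r, hr⟩ h3
  by_cases hc : ∃ p, a⁻¹ p ≠ p ∧ a⁻¹ (a⁻¹ p) ≠ p
  · exact finish (caseD a b ⟨r, hr, (h3 r hr).2⟩ hodd hc)
  · push Not at hc
    obtain ⟨p, hp⟩ := exists_moved a⁻¹ (inv_ne_one.mpr ha)
    have hp2 := hc p hp
    have hTa : ∃ r, a r ≠ r ∧ a (a r) = r := by
      have e1 : ∀ z, a (a⁻¹ z) = z := fun z => by simp
      refine ⟨a⁻¹ p, ?_, ?_⟩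
      · rw [e1]
        exact Ne.symm hp
      · rw [e1]
        have : a (a⁻¹ (a⁻¹ p)) = a p := by rw [hp2]
        rw [e1] at this
        exact this.symm
    obtain ⟨h₁, h₂, hh₁, hh₂, hne⟩ := caseT hn b a hb hTa
    refine ⟨h₁, 1, h₂, 1, hh₁, one_mem _, hh₂, one_mem _, ?_⟩
    simp only [one_mul, inv_one, mul_one]
    rw [card_fix_comm (h₁ * a * h₁⁻¹) b, card_fix_comm (h₂ * a * h₂⁻¹) b]
    exact hne

end Cfsg.Agent.S2271
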