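-- Statement S2276: proved by the helper14 farm (Cfsg/Agent/Lib/Helper14/S2276/*).
import Cfsg.Statements.S2276
import Cfsg.Agent.Lib.Helper14.S2276.Main

set_option autoImplicit false
open Cfsg

namespace Cfsg.Agent.S2276

open Cfsg.Agent.Lib.Helper14.S2276 in
/-- Let n ≥ 5, p ≥ 3 a prime, and u, w non-identity elements of p-power order in the alternating group A_n. Then there is g ∈ A_n such that u·(g w g⁻¹) does not have p-power order and ⟨u, g w g⁻¹⟩ is not solvable. -/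
theorem result (n : ℕ) (hn : 5 ≤ n) (p : ℕ) (hp : p.Prime) (hp3 : 3 ≤ p) (u w : alternatingGroup (Fin n)) (hu : u ≠ 1) (hw : w ≠ 1)
    (hu' : ∃ k : ℕ, orderOf u = p ^ k) (hw' : ∃ k : ℕ, orderOf w = p ^ k) :
    ∃ g : alternatingGroup (Fin n), (¬ ∃ k : ℕ, orderOf (u * (g * w * g⁻¹)) = p ^ k) ∧
      ¬ Group.IsSolvable ↥(Subgroup.closure ({u, g * w * g⁻¹} : Set (alternatingGroup (Fin n)))) := by
  have hu1 : (u : Equiv.Perm (Fin n)) ≠ 1 := fun h => hu (Subtype.ext h)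
  have hw1 : (w : Equiv.Perm (Fin n)) ≠ 1 := fun h => hw (Subtype.ext h)
  have hu2 : ∃ k : ℕ, orderOf (u : Equiv.Perm (Fin n)) = p ^ k := by
    simpa [Subgroup.orderOf_coe] using hu'
  have hw2 : ∃ k : ℕ, orderOf (w : Equiv.Perm (Fin n)) = p ^ k := by
    simpa [Subgroup.orderOf_coe] using hw'
  obtain ⟨g, hg, hgood⟩ := main_perm (α := Fin n) p hp hp3 (by simpa using hn)
    (u : Equiv.Perm (Fin n)) (w : Equiv.Perm (Fin n)) hu1 hw1 hu2 hw2
  exact alt_of_perm n p u w g hg hgood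

end Cfsg.Agent.S2276
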