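import Cfsg.Statements.S2277
import Mathlib
import Cfsg.Agent.Lib.Helper1.CoprimeSylow

set_option autoImplicit false
open Cfsg

namespace Cfsg.Agent.S2277

open Cfsg.Agent.Lib.Helper1

universe u

theorem mem_smul_sylow {G : Type*} [Group G] {r : ℕ} (R : Sylow r G) (g x : G) :
    x ∈ ((g • R : Sylow r G) : Subgroup G) ↔ g⁻¹ * x * g ∈ (R : Subgroup G) := by
  rw [Sylow.coe_subgroup_smul, Subgroup.mem_pointwise_smul_iff_inv_smul_mem]
  simp [MulAut.smul_def, mul_assoc]

/-- `C_V(a)` -/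
def cent {G : Type*} [Group G] (V : Subgroup G) (a : G) : Subgroup G :=
  V ⊓ Subgroup.centralizer {a}

theorem mem_cent {G : Type*} [Group G] {V : Subgroup G} {a t : G} :
    t ∈ cent V a ↔ t ∈ V ∧ Commute a t := by
  unfold cent
  rw [Subgroup.mem_inf, Subgroup.mem_centralizer_iff]
  simp [Commute, SemiconjBy]

/-- a nonabelian finite `p`-group has a noncentral element of the second centre -/
theorem exists_Z2 {H : Type*} [Group H] [Finite H] {p : ℕ} [Fact p.Prime] (hH : IsPGroup p H)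
    (hna : ∃ a b : H, a * b ≠ b * a) :
    ∃ y : H, (∃ g : H, g * y ≠ y * g) ∧
      ∀ g g' : H, Commute (g⁻¹ * y * g * y⁻¹) g' := by
  have hnt : Nontrivial (H ⧸ Subgroup.center H) := by
    by_contra hcon
    rw [not_nontrivial_iff_subsingleton] at hcon
    obtain ⟨a, b, hab⟩ := hna
    apply hab
    have htop : Subgroup.center H = ⊤ := QuotientGroup.subgroup_eq_top_of_subsingleton _ hcon
    have hb : b ∈ Subgroup.center H := htop ▸ Subgroup.mem_top b
    exact Subgroup.mem_center_iff.mp hb a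
  have hQ : IsPGroup p (H ⧸ Subgroup.center H) := hH.to_quotient _
  haveI := hQ.center_nontrivial
  obtain ⟨⟨ybar, hybar⟩, hne⟩ := exists_ne (1 : Subgroup.center (H ⧸ Subgroup.center H))
  obtain ⟨y, hyb⟩ := QuotientGroup.mk'_surjective (Subgroup.center H) ybar
  subst hyb
  have hy : y ∉ Subgroup.center H := by
    intro hy
    apply hne
    apply Subtype.ext
    exact (QuotientGroup.eq_one_iff y).mpr hy
  refine ⟨y, ?_, ?_⟩
  · by_contra hcon
    push Not at hcon
    exact hy (Subgroup.mem_center_iff.mpr hcon)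
  · intro g g'
    have hmem : g⁻¹ * y * g * y⁻¹ ∈ Subgroup.center H := by
      have h1 := Subgroup.mem_center_iff.mp hybar ((QuotientGroup.mk' (Subgroup.center H)) g)
      have h2 : (QuotientGroup.mk' (Subgroup.center H)) (g⁻¹ * y * g * y⁻¹) = 1 := by
        rw [map_mul, map_mul, map_mul, map_inv, map_inv]
        calc ((QuotientGroup.mk' (Subgroup.center H)) g)⁻¹ * (QuotientGroup.mk' (Subgroup.center H)) y
              * (QuotientGroup.mk' (Subgroup.center H)) g * ((QuotientGroup.mk' (Subgroup.center H)) y)⁻¹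
            = ((QuotientGroup.mk' (Subgroup.center H)) g)⁻¹ * ((QuotientGroup.mk' (Subgroup.center H)) y
              * (QuotientGroup.mk' (Subgroup.center H)) g) * ((QuotientGroup.mk' (Subgroup.center H)) y)⁻¹ := by group
          _ = ((QuotientGroup.mk' (Subgroup.center H)) g)⁻¹ * ((QuotientGroup.mk' (Subgroup.center H)) g
              * (QuotientGroup.mk' (Subgroup.center H)) y) * ((QuotientGroup.mk' (Subgroup.center H)) y)⁻¹ := by rw [h1]
          _ = 1 := by group
      exact (QuotientGroup.eq_one_iff _).mp h2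
    exact (Subgroup.mem_center_iff.mp hmem g').symm

theorem factor {G : Type*} [Group G] [Finite G] {p : ℕ} [Fact p.Prime] (P : Sylow p G)
    (N : Subgroup G) [hNn : N.Normal] (hdisj : N ⊓ (P : Subgroup G) = ⊥)
    (hNP : N ⊔ (P : Subgroup G) = ⊤)
    {x c d : G} (hx : x ∈ N) (hc : c ∈ (P : Subgroup G)) (hd : d ∈ (P : Subgroup G))
    (h : IsPGroup p ↥(Subgroup.closure ({x * c * x⁻¹, d} : Set G))) :
    ∃ n ∈ N, Commute n d ∧ Commute (n⁻¹ * x) c := by
  obtain ⟨Q, hQ⟩ := h.exists_le_sylow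
  obtain ⟨g, rfl⟩ := MulAction.exists_smul_eq G P Q
  have hg : g ∈ N ⊔ (P : Subgroup G) := by rw [hNP]; exact Subgroup.mem_top g
  obtain ⟨n, hn, u, hu, rfl⟩ := Subgroup.mem_sup_of_normal_left.mp hg
  have hone : ∀ y, y ∈ N → y ∈ (P : Subgroup G) → y = 1 := by
    intro y h1 h2
    have : y ∈ N ⊓ (P : Subgroup G) := ⟨h1, h2⟩
    rw [hdisj] at this
    exact Subgroup.mem_bot.mp this
  have h1 : x * c * x⁻¹ ∈ (((n * u) • P : Sylow p G) : Subgroup G) :=
    hQ (Subgroup.subset_closure (by simp))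
  have h2 : d ∈ (((n * u) • P : Sylow p G) : Subgroup G) :=
    hQ (Subgroup.subset_closure (by simp))
  rw [mem_smul_sylow] at h1 h2
  have h2' : n⁻¹ * d * n ∈ (P : Subgroup G) := by
    have := mul_mem (mul_mem hu h2) (inv_mem hu)
    have e : u * ((n * u)⁻¹ * d * (n * u)) * u⁻¹ = n⁻¹ * d * n := by group
    rwa [e] at this
  have h1' : n⁻¹ * (x * c * x⁻¹) * n ∈ (P : Subgroup G) := by
    have := mul_mem (mul_mem hu h1) (inv_mem hu)
    have e : u * ((n * u)⁻¹ * (x * c * x⁻¹) * (n * u)) * u⁻¹ = n⁻¹ * (x * c * x⁻¹) * n := by group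
    rwa [e] at this
  refine ⟨n, hn, ?_, ?_⟩
  · have hP' : n⁻¹ * d * n * d⁻¹ ∈ (P : Subgroup G) := mul_mem h2' (inv_mem hd)
    have hN' : n⁻¹ * d * n * d⁻¹ ∈ N := by
      have e : n⁻¹ * d * n * d⁻¹ = n⁻¹ * (d * n * d⁻¹) := by group
      rw [e]; exact mul_mem (inv_mem hn) (hNn.conj_mem n hn d)
    have h3 := hone _ hN' hP'
    show n * d = d * n
    have e : d * n = n * (n⁻¹ * d * n * d⁻¹) * d := by group
    rw [e, h3, mul_one]
  · have hmN : n⁻¹ * x ∈ N := mul_mem (inv_mem hn) hx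
    have hP' : (n⁻¹ * x) * c * (n⁻¹ * x)⁻¹ * c⁻¹ ∈ (P : Subgroup G) := by
      have e : (n⁻¹ * x) * c * (n⁻¹ * x)⁻¹ = n⁻¹ * (x * c * x⁻¹) * n := by group
      rw [e]; exact mul_mem h1' (inv_mem hc)
    have hN' : (n⁻¹ * x) * c * (n⁻¹ * x)⁻¹ * c⁻¹ ∈ N := by
      have e : (n⁻¹ * x) * c * (n⁻¹ * x)⁻¹ * c⁻¹ = (n⁻¹ * x) * (c * (n⁻¹ * x)⁻¹ * c⁻¹) := by group
      rw [e]; exact mul_mem hmN (hNn.conj_mem _ (inv_mem hmN) c)
    have h3 := hone _ hN' hP'
    show (n⁻¹ * x) * c = c * (n⁻¹ * x)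
    have e : (n⁻¹ * x) * c = ((n⁻¹ * x) * c * (n⁻¹ * x)⁻¹ * c⁻¹) * c * (n⁻¹ * x) := by group
    rw [e, h3, one_mul]

theorem card_cent_conj_le {G : Type*} [Group G] [Finite G] (V : Subgroup G) [hV : V.Normal]
    (y a : G) :
    Nat.card ↥(cent V (y * a * y⁻¹)) ≤ Nat.card ↥(cent V a) := by
  refine Nat.card_le_card_of_injective (fun t => ⟨y⁻¹ * t.1 * y, ?_⟩) ?_
  · have ht := mem_cent.mp t.2
    refine mem_cent.mpr ⟨?_, ?_⟩
    · have := hV.conj_mem t.1 ht.1 y⁻¹
      simpa using this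
    · have h2 : (y * a * y⁻¹) * t.1 = t.1 * (y * a * y⁻¹) := ht.2
      show a * (y⁻¹ * t.1 * y) = (y⁻¹ * t.1 * y) * a
      calc a * (y⁻¹ * t.1 * y) = y⁻¹ * ((y * a * y⁻¹) * t.1) * y := by group
        _ = y⁻¹ * (t.1 * (y * a * y⁻¹)) * y := by rw [h2]
        _ = (y⁻¹ * t.1 * y) * a := by group
  · intro s t hst
    simp only [Subtype.mk.injEq] at hst
    apply Subtype.ext
    have e : ∀ r : G, r = y * (y⁻¹ * r * y) * y⁻¹ := fun r => by group
    rw [e s.1, hst, ← e t.1]

theorem card_cent_conj {G : Type*} [Group G] [Finite G] (V : Subgroup G) [V.Normal] (y a : G) :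
    Nat.card ↥(cent V (y * a * y⁻¹)) = Nat.card ↥(cent V a) := by
  apply le_antisymm (card_cent_conj_le V y a)
  have := card_cent_conj_le V y⁻¹ (y * a * y⁻¹)
  have e : y⁻¹ * (y * a * y⁻¹) * y⁻¹⁻¹ = a := by group
  rwa [e] at this

theorem conj_of_comm {G : Type*} [Group G] {c s b : G} (hcs : Commute c s)
    (h : Commute (c * s) b) : c * b * c⁻¹ = s⁻¹ * b * s := by
  have h' : (s * c) * b = b * (s * c) := by rw [← hcs.eq]; exact h.eq
  calc c * b * c⁻¹ = s⁻¹ * ((s * c) * b) * c⁻¹ := by group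
    _ = s⁻¹ * (b * (s * c)) * c⁻¹ := by rw [h']
    _ = s⁻¹ * b * s := by group

theorem core {G : Type*} [Group G] [Finite G] (V : Subgroup G) [hV : V.Normal] {c d y z z' : G}
    (hyc : y * c * y⁻¹ = c * z) (hyz : Commute y z) (hcz : Commute c z)
    (hyd : y * d * y⁻¹ = d * z')
    (hz : ∀ v ∈ V, Commute z v → v = 1) (hzz : ∀ v ∈ V, Commute (z * z) v → v = 1)
    (hz' : ∀ v ∈ V, Commute z' v → v = 1)
    (hfac : ∀ x ∈ V, ∃ b ∈ cent V d, ∃ a ∈ cent V c, x = b * a) : V = ⊥ := by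
  have hA1 : Nat.card ↥(cent V (c * z)) = Nat.card ↥(cent V c) := by
    rw [← hyc]; exact card_cent_conj V y c
  have hA2 : Nat.card ↥(cent V (c * (z * z))) = Nat.card ↥(cent V c) := by
    have e : y * (c * z) * y⁻¹ = c * (z * z) := by
      calc y * (c * z) * y⁻¹ = (y * c * y⁻¹) * (y * z * y⁻¹) := by group
        _ = c * z * z := by rw [hyc, hyz.eq]; group
        _ = c * (z * z) := by group
    rw [← e, card_cent_conj, hA1]
  have hB1 : Nat.card ↥(cent V (d * z')) = Nat.card ↥(cent V d) := by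
    rw [← hyd]; exact card_cent_conj V y d
  have hA01 : ∀ t, t ∈ cent V c → t ∈ cent V (c * z) → t = 1 := by
    intro t h0 h1
    have h0' := mem_cent.mp h0
    have h1' := mem_cent.mp h1
    apply hz t h0'.1
    have : Commute (c⁻¹ * (c * z)) t := (h0'.2.inv_left).mul_left h1'.2
    rwa [inv_mul_cancel_left] at this
  have hB01 : ∀ t, t ∈ cent V d → t ∈ cent V (d * z') → t = 1 := by
    intro t h0 h1
    have h0' := mem_cent.mp h0
    have h1' := mem_cent.mp h1
    apply hz' t h0'.1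
    have : Commute (d⁻¹ * (d * z')) t := (h0'.2.inv_left).mul_left h1'.2
    rwa [inv_mul_cancel_left] at this
  -- injectivity of multiplication on pairs of trivially intersecting subgroups
  have hinjgen : ∀ (A B : Subgroup G) (hA : A ≤ V) (hB : B ≤ V),
      (∀ t, t ∈ A → t ∈ B → t = 1) →
      Function.Injective (fun ab : ↥A × ↥B => (⟨ab.1.1 * ab.2.1, mul_mem (hA ab.1.2) (hB ab.2.2)⟩ : ↥V)) := by
    intro A B hA hB hAB
    rintro ⟨a, b⟩ ⟨a', b'⟩ hab
    have hab' : a.1 * b.1 = a'.1 * b'.1 := congrArg Subtype.val hab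
    have h1 : a'.1⁻¹ * a.1 = b'.1 * b.1⁻¹ := by
      calc a'.1⁻¹ * a.1 = a'.1⁻¹ * (a.1 * b.1) * b.1⁻¹ := by group
        _ = a'.1⁻¹ * (a'.1 * b'.1) * b.1⁻¹ := by rw [hab']
        _ = b'.1 * b.1⁻¹ := by group
    have h2 : a'.1⁻¹ * a.1 = 1 := by
      apply hAB
      · exact mul_mem (inv_mem a'.2) a.2
      · rw [h1]; exact mul_mem b'.2 (inv_mem b.2)
    have h3 : b'.1 * b.1⁻¹ = 1 := by rw [← h1, h2]
    have ha : a = a' := Subtype.ext (by
      have : a.1 = a'.1 * (a'.1⁻¹ * a.1) := by group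
      rw [this, h2, mul_one])
    have hb : b = b' := Subtype.ext (by
      have : b'.1 = (b'.1 * b.1⁻¹) * b.1 := by group
      rw [this, h3, one_mul])
    exact Prod.ext ha hb
  have hcV : ∀ a : G, cent V a ≤ V := fun a t ht => (mem_cent.mp ht).1
  have hf := hinjgen (cent V c) (cent V (c * z)) (hcV _) (hcV _) hA01
  have hf' := hinjgen (cent V d) (cent V (d * z')) (hcV _) (hcV _) hB01
  have c1 : Nat.card ↥(cent V c) * Nat.card ↥(cent V c) ≤ Nat.card ↥V := by
    have := Nat.card_le_card_of_injective _ hf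
    rwa [Nat.card_prod, hA1] at this
  have c2 : Nat.card ↥(cent V d) * Nat.card ↥(cent V d) ≤ Nat.card ↥V := by
    have := Nat.card_le_card_of_injective _ hf'
    rwa [Nat.card_prod, hB1] at this
  have c3 : Nat.card ↥V ≤ Nat.card ↥(cent V d) * Nat.card ↥(cent V c) := by
    rw [← Nat.card_prod]
    refine Nat.card_le_card_of_surjective
      (fun ba : ↥(cent V d) × ↥(cent V c) =>
        (⟨ba.1.1 * ba.2.1, mul_mem (hcV _ ba.1.2) (hcV _ ba.2.2)⟩ : ↥V)) ?_
    rintro ⟨x, hx⟩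
    obtain ⟨b, hb, a, ha, rfl⟩ := hfac x hx
    exact ⟨(⟨b, hb⟩, ⟨a, ha⟩), rfl⟩
  have hwpos : 0 < Nat.card ↥(cent V c) := Nat.card_pos
  have hupos : 0 < Nat.card ↥(cent V d) := Nat.card_pos
  have hwu : Nat.card ↥(cent V c) ≤ Nat.card ↥(cent V d) := by
    by_contra hlt
    push Not at hlt
    nlinarith
  have huw : Nat.card ↥(cent V d) ≤ Nat.card ↥(cent V c) := by
    by_contra hlt
    push Not at hlt
    nlinarith
  have heq : Nat.card ↥(cent V d) = Nat.card ↥(cent V c) := le_antisymm huw hwu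
  have hVcard : Nat.card ↥V = Nat.card ↥(cent V c) * Nat.card ↥(cent V c) := by
    rw [heq] at c3; exact le_antisymm c3 c1
  have hfs : Function.Surjective (fun ab : ↥(cent V c) × ↥(cent V (c * z)) =>
      (⟨ab.1.1 * ab.2.1, mul_mem (hcV _ ab.1.2) (hcV _ ab.2.2)⟩ : ↥V)) :=
    (hf.bijective_of_nat_card_le (by rw [Nat.card_prod, hA1, hVcard])).2
  have hA2bot : ∀ t, t ∈ cent V (c * (z * z)) → t = 1 := by
    intro t ht
    have ht' := mem_cent.mp ht
    obtain ⟨⟨a, b⟩, hab⟩ := hfs ⟨t, ht'.1⟩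
    have hab' : a.1 * b.1 = t := congrArg Subtype.val hab
    have ha := mem_cent.mp a.2
    have hb := mem_cent.mp b.2
    have hcZ : Commute c (z * z) := hcz.mul_right hcz
    have hczz : Commute (c * z) z := hcz.mul_left (Commute.refl z)
    have hczZ : Commute (c * z) (z * z) := hczz.mul_right hczz
    have ha' : (z * z)⁻¹ * a.1 * (z * z) ∈ cent V c := mem_cent.mpr
      ⟨by simpa using hV.conj_mem a.1 ha.1 (z * z)⁻¹,
       (hcZ.inv_right.mul_right ha.2).mul_right hcZ⟩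
    have hb' : (z * z)⁻¹ * b.1 * (z * z) ∈ cent V (c * z) := mem_cent.mpr
      ⟨by simpa using hV.conj_mem b.1 hb.1 (z * z)⁻¹,
       (hczZ.inv_right.mul_right hb.2).mul_right hczZ⟩
    have hb'' : z⁻¹ * b.1 * z ∈ cent V (c * z) := mem_cent.mpr
      ⟨by simpa using hV.conj_mem b.1 hb.1 z⁻¹,
       (hczz.inv_right.mul_right hb.2).mul_right hczz⟩
    have hca : c * a.1 * c⁻¹ = a.1 := by rw [ha.2.eq]; group
    have key : ((z * z)⁻¹ * a.1 * (z * z)) * ((z * z)⁻¹ * b.1 * (z * z))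
        = a.1 * (z⁻¹ * b.1 * z) := by
      have hct : Commute (c * (z * z)) (a.1 * b.1) := by rw [hab']; exact ht'.2
      calc ((z * z)⁻¹ * a.1 * (z * z)) * ((z * z)⁻¹ * b.1 * (z * z))
          = (z * z)⁻¹ * (a.1 * b.1) * (z * z) := by group
        _ = c * (a.1 * b.1) * c⁻¹ := (conj_of_comm hcZ hct).symm
        _ = (c * a.1 * c⁻¹) * (c * b.1 * c⁻¹) := by group
        _ = a.1 * (z⁻¹ * b.1 * z) := by rw [hca, conj_of_comm hcz hb.2]
    have hinj := @hf (⟨_, ha'⟩, ⟨_, hb'⟩) (a, ⟨_, hb''⟩) (Subtype.ext key)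
    have e1 : (z * z)⁻¹ * a.1 * (z * z) = a.1 :=
      congrArg (fun q : ↥(cent V c) × ↥(cent V (c * z)) => (q.1 : G)) hinj
    have e2 : (z * z)⁻¹ * b.1 * (z * z) = z⁻¹ * b.1 * z :=
      congrArg (fun q : ↥(cent V c) × ↥(cent V (c * z)) => (q.2 : G)) hinj
    have a1 : a.1 = 1 := by
      apply hzz _ ha.1
      show (z * z) * a.1 = a.1 * (z * z)
      calc (z * z) * a.1 = (z * z) * ((z * z)⁻¹ * a.1 * (z * z)) := by rw [e1]
        _ = a.1 * (z * z) := by group
    have b1 : b.1 = 1 := by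
      have e3 : z⁻¹ * (z⁻¹ * b.1 * z) * z = z⁻¹ * b.1 * z := by
        calc z⁻¹ * (z⁻¹ * b.1 * z) * z = (z * z)⁻¹ * b.1 * (z * z) := by group
          _ = z⁻¹ * b.1 * z := e2
      have hb3 : z⁻¹ * b.1 * z = 1 := by
        apply hz _ (mem_cent.mp hb'').1
        show z * (z⁻¹ * b.1 * z) = (z⁻¹ * b.1 * z) * z
        calc z * (z⁻¹ * b.1 * z) = z * (z⁻¹ * (z⁻¹ * b.1 * z) * z) := by rw [e3]
          _ = (z⁻¹ * b.1 * z) * z := by group
      have : b.1 = z * (z⁻¹ * b.1 * z) * z⁻¹ := by group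
      rw [this, hb3]; group
    rw [← hab', a1, b1, mul_one]
  have hw1 : Nat.card ↥(cent V c) = 1 := by
    rw [← hA2, Subgroup.card_eq_one, eq_bot_iff]
    intro t ht
    exact Subgroup.mem_bot.mpr (hA2bot t ht)
  rw [← Subgroup.card_eq_one, hVcard, hw1]


theorem thmA (p : ℕ) [hp : Fact p.Prime] (hp3 : 3 ≤ p) : ∀ n : ℕ, ∀ (G : Type u) [Group G] [Finite G],
    Nat.card G = n → ∀ (q : ℕ) [Fact q.Prime] (P : Sylow p G) (N : Subgroup G) [N.Normal],
    IsPGroup q N → q ≠ p → N ⊔ (P : Subgroup G) = ⊤ → ∀ (C D : Set G),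
    Subgroup.closure C = (P : Subgroup G) → Subgroup.closure D = (P : Subgroup G) →
    (∀ x ∈ N, ∀ c ∈ C, ∀ d ∈ D, IsPGroup p ↥(Subgroup.closure ({x * c * x⁻¹, d} : Set G))) →
    ⁅(P : Subgroup G), N⁆ = ⊥ := by
  intro n
  induction n using Nat.strong_induction_on with
  | _ n ih =>
  intro G _ _ hcard q hqp P N hNn hq hpq hNP C D hC hD h
  by_contra hne
  obtain ⟨kq, hkq⟩ := IsPGroup.iff_card.mp hq
  obtain ⟨kp, hkp⟩ := IsPGroup.iff_card.mp P.2
  have hqp' : Nat.Coprime q p := (Nat.coprime_primes hqp.out hp.out).mpr hpq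
  have hcopNP : (Nat.card N).Coprime (Nat.card (P : Subgroup G)) := by
    rw [hkq, hkp]; exact Nat.Coprime.pow _ _ hqp'
  have hdisj : N ⊓ (P : Subgroup G) = ⊥ := disjoint_iff.mp (Subgroup.disjoint_of_coprime_natCard hcopNP)
  have hCP : ∀ c ∈ C, c ∈ (P : Subgroup G) := fun c hc => hC ▸ Subgroup.subset_closure hc
  have hDP : ∀ d ∈ D, d ∈ (P : Subgroup G) := fun d hd => hD ▸ Subgroup.subset_closure hd
  have hNsolv : Group.IsSolvable N := by
    haveI := hq.isNilpotent
    infer_instance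
  -- quotient step
  have hQ : ∀ L : Subgroup G, L.Normal → L ≠ ⊥ → ⁅(P : Subgroup G), N⁆ ≤ L := by
    intro L hL hLne
    haveI := hL
    have hlt : Nat.card (G ⧸ L) < n := by
      rw [← hcard, ← Subgroup.index_eq_card, ← Subgroup.card_mul_index L]
      have h1 : 1 < Nat.card L := L.one_lt_card_iff_ne_bot.mpr hLne
      have h2 : 0 < L.index := Nat.pos_of_ne_zero Subgroup.index_ne_zero_of_finite
      nlinarith
    have hπ : Function.Surjective (QuotientGroup.mk' L) := QuotientGroup.mk'_surjective L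
    haveI : (N.map (QuotientGroup.mk' L)).Normal := Subgroup.Normal.map hNn _ hπ
    have key := ih _ hlt (G ⧸ L) rfl q (P.mapSurjective hπ) (N.map (QuotientGroup.mk' L))
      (hq.map _) hpq ?_ ((QuotientGroup.mk' L) '' C) ((QuotientGroup.mk' L) '' D) ?_ ?_ ?_
    · rw [Sylow.coe_mapSurjective, ← Subgroup.map_commutator, Subgroup.map_eq_bot_iff,
        QuotientGroup.ker_mk'] at key
      exact key
    · rw [Sylow.coe_mapSurjective, ← Subgroup.map_sup, hNP, Subgroup.map_top_of_surjective _ hπ]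
    · rw [← MonoidHom.map_closure, hC, Sylow.coe_mapSurjective]
    · rw [← MonoidHom.map_closure, hD, Sylow.coe_mapSurjective]
    · rintro _ ⟨x, hx, rfl⟩ _ ⟨c, hc, rfl⟩ _ ⟨d, hd, rfl⟩
      have h1 := (h x hx c hc d hd).map (QuotientGroup.mk' L)
      have h2 : (Subgroup.closure ({x * c * x⁻¹, d} : Set G)).map (QuotientGroup.mk' L) =
          Subgroup.closure ({(QuotientGroup.mk' L) x * (QuotientGroup.mk' L) c *
            ((QuotientGroup.mk' L) x)⁻¹, (QuotientGroup.mk' L) d} : Set (G ⧸ L)) := by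
        rw [MonoidHom.map_closure, Set.image_pair, map_mul, map_mul, map_inv]
      rw [h2] at h1
      exact h1
  obtain ⟨V, hVdef⟩ : ∃ V : Subgroup G, V = ⁅N, (P : Subgroup G)⁆ := ⟨_, rfl⟩
  have hVne : V ≠ ⊥ := by
    rw [hVdef, Subgroup.commutator_comm]; exact hne
  have hQV : ∀ L : Subgroup G, L.Normal → L ≠ ⊥ → V ≤ L := by
    intro L hL hLne
    rw [hVdef, Subgroup.commutator_comm]; exact hQ L hL hLne
  have hVN : V ≤ N := by
    rw [hVdef]
    exact commutator_le_of_le_normalizer (by rw [Subgroup.normalizer_eq_top]; exact le_top)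
  haveI hVn : V.Normal := by
    rw [hVdef, ← Subgroup.normalizer_eq_top_iff, eq_top_iff, ← hNP]
    exact sup_le le_normalizer_commutator_left le_normalizer_commutator_right
  have hNne : N ≠ ⊥ := by
    intro hb
    apply hVne
    rw [hVdef, hb]
    exact Subgroup.commutator_bot_left _
  have hPne : (P : Subgroup G) ≠ ⊥ := by
    intro hb
    apply hVne
    rw [hVdef, hb]
    exact Subgroup.commutator_bot_right _
  -- V is central in N
  have hVcent : ∀ v ∈ V, ∀ m ∈ N, Commute m v := by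
    have hZn : (N ⊓ Subgroup.centralizer (N : Set G)).Normal := inferInstance
    have hZne : N ⊓ Subgroup.centralizer (N : Set G) ≠ ⊥ := by
      haveI : Nontrivial N := (Subgroup.nontrivial_iff_ne_bot N).mpr hNne
      haveI := hq.center_nontrivial
      obtain ⟨⟨z, hz⟩, hz1⟩ := exists_ne (1 : Subgroup.center N)
      intro hb
      apply hz1
      have hmem : (z : G) ∈ N ⊓ Subgroup.centralizer (N : Set G) := by
        refine Subgroup.mem_inf.mpr ⟨z.2, ?_⟩
        rw [Subgroup.mem_centralizer_iff]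
        intro m hm
        have := Subgroup.mem_center_iff.mp hz ⟨m, hm⟩
        exact congrArg Subtype.val this
      rw [hb, Subgroup.mem_bot] at hmem
      apply Subtype.ext; apply Subtype.ext
      exact hmem
    intro v hv m hm
    have := Subgroup.mem_inf.mp (hQV _ hZn hZne hv)
    exact Subgroup.mem_centralizer_iff.mp this.2 m hm
  -- P acts faithfully on V
  have hKbot : ∀ k ∈ (P : Subgroup G), (∀ v ∈ V, Commute k v) → k = 1 := by
    intro k hkP hkV
    by_contra hk1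
    obtain ⟨K, hKdef⟩ : ∃ K : Subgroup G,
      K = (P : Subgroup G) ⊓ Subgroup.centralizer (V : Set G) := ⟨_, rfl⟩
    have hKmem : ∀ a, a ∈ K ↔ a ∈ (P : Subgroup G) ∧ ∀ v ∈ V, Commute a v := by
      intro a
      rw [hKdef, Subgroup.mem_inf, Subgroup.mem_centralizer_iff]
      constructor
      · rintro ⟨h1, h2⟩
        exact ⟨h1, fun v hv => (h2 v hv).symm⟩
      · rintro ⟨h1, h2⟩
        exact ⟨h1, fun v hv => (h2 v hv).symm.eq⟩
    have hKP : K ≤ (P : Subgroup G) := fun a ha => ((hKmem a).mp ha).1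
    have hkK : k ∈ K := (hKmem k).mpr ⟨hkP, hkV⟩
    have hKact : CoprimeAct K N := by
      refine ⟨by rw [Subgroup.normalizer_eq_top]; exact le_top, ?_, Or.inr hNsolv⟩
      have hdvd : Nat.card K ∣ Nat.card (P : Subgroup G) := Subgroup.card_dvd_of_le hKP
      exact Nat.Coprime.coprime_dvd_left hdvd hcopNP.symm
    have hKN : ∀ a ∈ K, ∀ m ∈ N, Commute a m := by
      have h1 : ⁅⁅N, K⁆, K⁆ = ⊥ := by
        rw [Subgroup.commutator_eq_bot_iff_le_centralizer]
        have hle : ⁅N, K⁆ ≤ V := by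
          rw [hVdef]; exact Subgroup.commutator_mono le_rfl hKP
        intro t ht
        rw [Subgroup.mem_centralizer_iff]
        intro a ha
        exact (((hKmem a).mp ha).2 t (hle ht)).eq
      have h2 : ⁅N, K⁆ = ⊥ := by rw [← hKact.commutator_commutator_eq, h1]
      rw [Subgroup.commutator_eq_bot_iff_le_centralizer] at h2
      intro a ha m hm
      exact Subgroup.mem_centralizer_iff.mp (h2 hm) a ha
    have hKn : K.Normal := by
      rw [← Subgroup.normalizer_eq_top_iff, eq_top_iff, ← hNP]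
      refine sup_le ?_ ?_
      · apply le_normalizer_of_forall_conj_mem
        intro m hm a ha
        have : m * a * m⁻¹ = a := by rw [(hKN a ha m hm).symm.eq]; group
        rw [this]; exact ha
      · apply le_normalizer_of_forall_conj_mem
        intro g hg a ha
        rw [hKdef] at ha ⊢
        have ha' := Subgroup.mem_inf.mp ha
        exact Subgroup.mem_inf.mpr ⟨mul_mem (mul_mem hg ha'.1) (inv_mem hg),
          (inferInstance : (Subgroup.centralizer (V : Set G)).Normal).conj_mem a ha'.2 g⟩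
    have hKne : K ≠ ⊥ := by
      intro hb
      apply hk1
      rw [hb] at hkK
      exact Subgroup.mem_bot.mp hkK
    have hVK := hQV K hKn hKne
    apply hVne
    rw [eq_bot_iff, ← hdisj]
    exact le_inf hVN (hVK.trans hKP)
  have hfpf : ∀ z ∈ (P : Subgroup G), (∀ g ∈ (P : Subgroup G), Commute g z) → z ≠ 1 →
      ∀ v ∈ V, Commute z v → v = 1 := by
    intro z hzP hzc hz1 v hv hvz
    by_contra hv1
    have hTn : (cent V z).Normal := by
      rw [← Subgroup.normalizer_eq_top_iff, eq_top_iff, ← hNP]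
      refine sup_le ?_ ?_
      · apply le_normalizer_of_forall_conj_mem
        intro m hm t ht
        have ht' := mem_cent.mp ht
        have : m * t * m⁻¹ = t := by rw [(hVcent t ht'.1 m hm).eq]; group
        rw [this]; exact ht
      · apply le_normalizer_of_forall_conj_mem
        intro g hg t ht
        have ht' := mem_cent.mp ht
        refine mem_cent.mpr ⟨hVn.conj_mem t ht'.1 g, ?_⟩
        have h1 : Commute z g := (hzc g hg).symm
        exact (h1.mul_right ht'.2).mul_right h1.inv_right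
    have hTne : cent V z ≠ ⊥ := by
      intro hb
      have : v ∈ cent V z := mem_cent.mpr ⟨hv, hvz⟩
      rw [hb] at this
      exact hv1 (Subgroup.mem_bot.mp this)
    have hVT := hQV _ hTn hTne
    exact hz1 (hKbot z hzP fun v' hv' => (mem_cent.mp (hVT hv')).2)
  have hPact : CoprimeAct (P : Subgroup G) N :=
    ⟨by rw [Subgroup.normalizer_eq_top]; exact le_top, hcopNP.symm, Or.inr hNsolv⟩
  have hfac : ∀ x ∈ V, ∀ c ∈ C, ∀ d ∈ D, ∃ b ∈ cent V d, ∃ a ∈ cent V c, x = b * a := by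
    intro x hx c hc d hd
    obtain ⟨m, hm, hmd, hmc⟩ := factor P N hdisj hNP (hVN hx) (hCP c hc) (hDP d hd)
      (h x (hVN hx) c hc d hd)
    have hm' : m ∈ V ⊔ (N ⊓ Subgroup.centralizer ((P : Subgroup G) : Set G)) := by
      rw [hVdef, hPact.commutator_sup_centralizer]; exact hm
    obtain ⟨v, hv, k, hk, rfl⟩ := Subgroup.mem_sup_of_normal_left.mp hm'
    have hkP : ∀ g ∈ (P : Subgroup G), Commute g k := fun g hg =>
      Subgroup.mem_centralizer_iff.mp (Subgroup.mem_inf.mp hk).2 g hg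
    refine ⟨v, mem_cent.mpr ⟨hv, ?_⟩, v⁻¹ * x,
      mem_cent.mpr ⟨mul_mem (inv_mem hv) hx, ?_⟩, by group⟩
    · have h1 : Commute d (v * k) := hmd.symm
      have h2 : Commute d k := hkP d (hDP d hd)
      have h3 : Commute d (v * k * k⁻¹) := h1.mul_right h2.inv_right
      rwa [mul_inv_cancel_right] at h3
    · have h1 : Commute c ((v * k)⁻¹ * x) := hmc.symm
      have h2 : Commute c k := hkP c (hCP c hc)
      have h3 : Commute c (k * ((v * k)⁻¹ * x)) := h2.mul_right h1
      have e : k * ((v * k)⁻¹ * x) = v⁻¹ * x := by group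
      rwa [e] at h3
  by_cases hab : ∀ a ∈ (P : Subgroup G), ∀ b ∈ (P : Subgroup G), Commute a b
  · have hex : ∀ S : Set G, Subgroup.closure S = (P : Subgroup G) → ∃ s ∈ S, s ≠ 1 := by
      intro S hS
      by_contra hcon
      push Not at hcon
      apply hPne
      rw [← hS, Subgroup.closure_eq_bot_iff]
      intro s hs
      exact hcon s hs
    obtain ⟨c, hc, hc1⟩ := hex C hC
    obtain ⟨d, hd, hd1⟩ := hex D hD
    apply hVne
    rw [eq_bot_iff]
    intro x hx
    obtain ⟨b, hb, a, ha, rfl⟩ := hfac x hx c hc d hd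
    have hb' := mem_cent.mp hb
    have ha' := mem_cent.mp ha
    have b1 := hfpf d (hDP d hd) (fun g hg => hab g hg d (hDP d hd)) hd1 b hb'.1 hb'.2
    have a1 := hfpf c (hCP c hc) (fun g hg => hab g hg c (hCP c hc)) hc1 a ha'.1 ha'.2
    rw [a1, b1, mul_one]
    exact Subgroup.mem_bot.mpr rfl
  · push Not at hab
    obtain ⟨a0, ha0, b0, hb0, hab0⟩ := hab
    have hna : ∃ a b : ↥(P : Subgroup G), a * b ≠ b * a :=
      ⟨⟨a0, ha0⟩, ⟨b0, hb0⟩, fun e => hab0 (congrArg Subtype.val e)⟩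
    obtain ⟨⟨y, hyP⟩, ⟨⟨g0, hg0P⟩, hg0⟩, hycent⟩ := exists_Z2 P.2 hna
    have hyc : ∀ g ∈ (P : Subgroup G), ∀ g' ∈ (P : Subgroup G),
        Commute (g⁻¹ * y * g * y⁻¹) g' := by
      intro g hg g' hg'
      have := hycent ⟨g, hg⟩ ⟨g', hg'⟩
      exact congrArg Subtype.val this.eq
    have hexc : ∀ S : Set G, Subgroup.closure S = (P : Subgroup G) →
        ∃ s ∈ S, ¬ Commute s y := by
      intro S hS
      by_contra hcon
      push Not at hcon
      have hle : Subgroup.closure S ≤ Subgroup.centralizer {y} := by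
        rw [Subgroup.closure_le]
        intro s hs
        rw [SetLike.mem_coe, Subgroup.mem_centralizer_iff]
        intro t ht
        rw [Set.mem_singleton_iff] at ht
        rw [ht]; exact (hcon s hs).symm.eq
      rw [hS] at hle
      have := Subgroup.mem_centralizer_iff.mp (hle hg0P) y rfl
      apply hg0
      exact Subtype.ext this.symm
    obtain ⟨c, hc, hcy⟩ := hexc C hC
    obtain ⟨d, hd, hdy⟩ := hexc D hD
    have hodd : ∀ z ∈ (P : Subgroup G), z * z = 1 → z = 1 := by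
      intro z hzP hz2
      obtain ⟨k, hk⟩ := P.2 ⟨z, hzP⟩
      have hk' : z ^ (p ^ k) = 1 := by simpa using congrArg Subtype.val hk
      have h2 : z ^ 2 = 1 := by rw [pow_two]; exact hz2
      have hcop : Nat.gcd 2 (p ^ k) = 1 := by
        have : Nat.Coprime 2 p := (Nat.coprime_primes Nat.prime_two hp.out).mpr (by omega)
        exact Nat.Coprime.pow_right k this
      have := pow_gcd_eq_one.mpr ⟨h2, hk'⟩
      rwa [hcop, pow_one] at this
    have hzf : ∀ g ∈ (P : Subgroup G), ¬ Commute g y →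
        (g⁻¹ * y * g * y⁻¹ ∈ (P : Subgroup G)) ∧
        (∀ g' ∈ (P : Subgroup G), Commute g' (g⁻¹ * y * g * y⁻¹)) ∧
        (g⁻¹ * y * g * y⁻¹ ≠ 1) := by
      intro g hg hgy
      refine ⟨mul_mem (mul_mem (mul_mem (inv_mem hg) hyP) hg) (inv_mem hyP),
        fun g' hg' => (hyc g hg g' hg').symm, ?_⟩
      intro hz1
      apply hgy
      have e : y * g = g * (g⁻¹ * y * g * y⁻¹) * y := by group
      rw [hz1, mul_one] at e
      exact e.symm
    obtain ⟨hzP, hzc, hz1⟩ := hzf c (hCP c hc) hcy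
    obtain ⟨hz'P, hz'c, hz'1⟩ := hzf d (hDP d hd) hdy
    have hzzP : (c⁻¹ * y * c * y⁻¹) * (c⁻¹ * y * c * y⁻¹) ∈ (P : Subgroup G) := mul_mem hzP hzP
    have hzz1 : (c⁻¹ * y * c * y⁻¹) * (c⁻¹ * y * c * y⁻¹) ≠ 1 := fun e => hz1 (hodd _ hzP e)
    apply hVne
    refine core V (c := c) (d := d) (y := y) (z := c⁻¹ * y * c * y⁻¹) (z' := d⁻¹ * y * d * y⁻¹)
      (by group) (hzc y hyP) (hzc c (hCP c hc)) (by group)
      (hfpf _ hzP hzc hz1)
      (hfpf _ hzzP (fun g hg => (hzc g hg).mul_right (hzc g hg)) hzz1)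
      (hfpf _ hz'P hz'c hz'1)
      (fun x hx => hfac x hx c hc d hd)

theorem transport (p : ℕ) [hp : Fact p.Prime] (hp3 : 3 ≤ p) {G : Type u} [Group G] [Finite G]
    (P : Sylow p G) (q : ℕ) [Fact q.Prime] (hqp : q ≠ p) (Q' : Subgroup G) (hQ'q : IsPGroup q Q')
    (hnorm : (P : Subgroup G) ≤ Subgroup.normalizer (Q' : Set G))
    (C D : Set G) (hC : Subgroup.closure C = (P : Subgroup G))
    (hD : Subgroup.closure D = (P : Subgroup G))
    (h : ∀ x ∈ Q', ∀ c ∈ C, ∀ d ∈ D,
      IsPGroup p ↥(Subgroup.closure ({x * c * x⁻¹, d} : Set G))) :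
    ∀ u ∈ (P : Subgroup G), ∀ x ∈ Q', Commute u x := by
  have hPH : (P : Subgroup G) ≤ (P : Subgroup G) ⊔ Q' := le_sup_left
  have hQH : Q' ≤ (P : Subgroup G) ⊔ Q' := le_sup_right
  haveI hnH : (Q'.subgroupOf ((P : Subgroup G) ⊔ Q')).Normal :=
    Subgroup.normal_subgroupOf_sup_of_le_normalizer hnorm
  have hcl : ∀ S : Set G, Subgroup.closure S = (P : Subgroup G) →
      Subgroup.closure ((Subtype.val : ↥((P : Subgroup G) ⊔ Q') → G) ⁻¹' S) =
        (P : Subgroup G).subgroupOf ((P : Subgroup G) ⊔ Q') := by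
    intro S hS
    apply Subgroup.map_injective (Subgroup.subtype_injective _)
    rw [MonoidHom.map_closure, Subgroup.map_subgroupOf_eq_of_le hPH, Subgroup.coe_subtype,
      Set.image_preimage_eq_of_subset, hS]
    intro s hs
    rw [Subtype.range_coe]
    exact hPH (hS ▸ Subgroup.subset_closure hs)
  have key := thmA p hp3 _ ↥((P : Subgroup G) ⊔ Q') rfl q (P.subtype hPH)
    (Q'.subgroupOf ((P : Subgroup G) ⊔ Q')) hQ'q.comap_subtype hqp ?_
    (Subtype.val ⁻¹' C) (Subtype.val ⁻¹' D) ?_ ?_ ?_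
  · intro u hu x hx
    rw [Subgroup.commutator_eq_bot_iff_le_centralizer] at key
    have hu' : (⟨u, hPH hu⟩ : ↥((P : Subgroup G) ⊔ Q')) ∈
        ((P.subtype hPH : Sylow p ↥((P : Subgroup G) ⊔ Q')) : Subgroup ↥((P : Subgroup G) ⊔ Q')) := by
      rw [Sylow.coe_subtype]; exact Subgroup.mem_subgroupOf.mpr hu
    have hx' : (⟨x, hQH hx⟩ : ↥((P : Subgroup G) ⊔ Q')) ∈ Q'.subgroupOf ((P : Subgroup G) ⊔ Q') :=
      Subgroup.mem_subgroupOf.mpr hx
    have h2 := Subgroup.mem_centralizer_iff.mp (key hu') _ hx'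
    exact (congrArg Subtype.val h2).symm
  · rw [Sylow.coe_subtype, sup_comm]
    exact codisjoint_iff.mp (Subgroup.codisjoint_subgroupOf_sup _ _)
  · rw [Sylow.coe_subtype]; exact hcl C hC
  · rw [Sylow.coe_subtype]; exact hcl D hD
  · intro x hx c hc d hd
    have hx' : (x : G) ∈ Q' := Subgroup.mem_subgroupOf.mp hx
    have hp0 := h x hx' c hc d hd
    intro g
    have hg : ((g : ↥((P : Subgroup G) ⊔ Q')) : G) ∈
        Subgroup.closure ({(x : G) * c * (x : G)⁻¹, (d : G)} : Set G) := by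
      have : Subgroup.map (Subgroup.subtype _)
          (Subgroup.closure ({x * c * x⁻¹, d} : Set ↥((P : Subgroup G) ⊔ Q'))) =
          Subgroup.closure ({(x : G) * c * (x : G)⁻¹, (d : G)} : Set G) := by
        rw [MonoidHom.map_closure, Set.image_pair]; simp
      rw [← this]
      exact Subgroup.mem_map_of_mem _ g.2
    obtain ⟨k, hk⟩ := hp0 ⟨_, hg⟩
    refine ⟨k, ?_⟩
    apply Subtype.ext; apply Subtype.ext
    have := congrArg Subtype.val hk
    simpa using this

theorem thmB {G : Type u} [Group G] [Finite G] (p : ℕ) [hp : Fact p.Prime] (hp3 : 3 ≤ p)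
    (P : Sylow p G) (N : Subgroup G) [hNn : N.Normal] (hN : (Nat.card N).Coprime p)
    (hNP : N ⊔ (P : Subgroup G) = ⊤) (C D : Set G)
    (hC : Subgroup.closure C = (P : Subgroup G)) (hD : Subgroup.closure D = (P : Subgroup G))
    (h : ∀ x ∈ N, ∀ c ∈ C, ∀ d ∈ D,
      IsPGroup p ↥(Subgroup.closure ({x * c * x⁻¹, d} : Set G))) :
    ⁅(P : Subgroup G), N⁆ = ⊥ := by
  obtain ⟨kp, hkp⟩ := IsPGroup.iff_card.mp P.2
  have hcopPN : (Nat.card (P : Subgroup G)).Coprime (Nat.card N) := by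
    rw [hkp]; exact Nat.Coprime.pow_left _ hN.symm
  have hPsolv : Group.IsSolvable (P : Subgroup G) := by
    haveI := P.2.isNilpotent
    infer_instance
  have hact : CoprimeAct (P : Subgroup G) N :=
    ⟨by rw [Subgroup.normalizer_eq_top]; exact le_top, hcopPN, Or.inl hPsolv⟩
  rw [Subgroup.commutator_eq_bot_iff_le_centralizer]
  obtain ⟨T, hTdef⟩ : ∃ T : Subgroup G,
    T = N ⊓ Subgroup.centralizer ((P : Subgroup G) : Set G) := ⟨_, rfl⟩
  suffices hsuff : (T.subgroupOf N).index = 1 by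
    have htop : T.subgroupOf N = ⊤ := Subgroup.index_eq_one.mp hsuff
    have hNT : N ≤ T := Subgroup.subgroupOf_eq_top.mp htop
    intro u hu
    rw [Subgroup.mem_centralizer_iff]
    intro m hm
    have := hNT hm
    rw [hTdef] at this
    exact (Subgroup.mem_centralizer_iff.mp (Subgroup.mem_inf.mp this).2 u hu).symm
  by_contra hidx
  obtain ⟨q, hqprime, hqdvd⟩ := Nat.exists_prime_and_dvd hidx
  haveI : Fact q.Prime := ⟨hqprime⟩
  have hqN : q ∣ Nat.card N := hqdvd.trans (Subgroup.index_dvd_card _)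
  have hqp : q ≠ p := by
    rintro rfl
    exact hqprime.one_lt.ne' (hN.symm.eq_one_of_dvd hqN)
  obtain ⟨Q, hQnorm⟩ := hact.exists_invariant_sylow q
  obtain ⟨Q', hQ'def⟩ : ∃ Q' : Subgroup G, Q' = (Q : Subgroup N).map N.subtype := ⟨_, rfl⟩
  have hQ'N : Q' ≤ N := by rw [hQ'def]; exact Subgroup.map_subtype_le _
  have hQ'q : IsPGroup q Q' := by rw [hQ'def]; exact Q.2.map _
  have hQ'norm : (P : Subgroup G) ≤ Subgroup.normalizer (Q' : Set G) := by
    rw [hQ'def]; exact hQnorm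
  have hQ'T : Q' ≤ T := by
    intro x hx
    rw [hTdef]
    refine Subgroup.mem_inf.mpr ⟨hQ'N hx, ?_⟩
    rw [Subgroup.mem_centralizer_iff]
    intro u hu
    exact (transport p hp3 P q hqp Q' hQ'q hQ'norm C D hC hD
      (fun x hx => h x (hQ'N hx)) u hu x hx).eq
  have hle : (Q : Subgroup N) ≤ T.subgroupOf N := by
    intro x hx
    rw [Subgroup.mem_subgroupOf]
    apply hQ'T
    rw [hQ'def]; exact Subgroup.mem_map_of_mem _ hx
  have h1 : (T.subgroupOf N).index ∣ (Q : Subgroup N).index := Subgroup.index_dvd_of_le hle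
  exact Q.not_dvd_index (hqdvd.trans h1)

/-- Let p ≥ 3 be prime and G a finite group with a Sylow p-subgroup P and a normal p-complement N (N normal, of order prime to p, with NP = G). Suppose P is generated by a subset C and also by a subset D, and that ⟨x c x⁻¹, d⟩ is a p-group for all x ∈ N, c ∈ C, d ∈ D. Then P centralizes N, so that G = N × P. -/
theorem result {G : Type*} [Group G] [Finite G] (p : ℕ) [Fact p.Prime] (hp3 : 3 ≤ p) (P : Sylow p G)
    (N : Subgroup G) [N.Normal] (hN : (Nat.card N).Coprime p) (hNP : N ⊔ (P : Subgroup G) = ⊤)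
    (C D : Set G) (hC : Subgroup.closure C = (P : Subgroup G)) (hD : Subgroup.closure D = (P : Subgroup G))
    (h : ∀ x ∈ N, ∀ c ∈ C, ∀ d ∈ D, IsPGroup p ↥(Subgroup.closure ({x * c * x⁻¹, d} : Set G))) :
    ⁅(P : Subgroup G), N⁆ = ⊥ := by
  exact thmB p hp3 P N hN hNP C D hC hD h

end Cfsg.Agent.S2277
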