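import Cfsg.Statements.S2281
import Cfsg.Agent.Lib.Helper14.RU3
import Cfsg.Agent.Lib.Helper22.RUSp4Even
import Cfsg.Agent.Lib.Helper25.RUB12

set_option autoImplicit false
open Cfsg

namespace Cfsg.Agent.S2281

open Cfsg.Agent.Lib.Helper14.RU

/-- Let F be a finite field and n ≥ 2, excluding the case n = 2 with F of two elements (where the group is not quasisimple). Then the symplectic group Sp_2n(F) is generated by three conjugate regular unipotent elements: there are u ∈ Sp_2n(F) with u − 1 nilpotent and (u − 1)^(2n−1) ≠ 0, and g, h ∈ Sp_2n(F), such that u, g u g⁻¹ and h u h⁻¹ generate Sp_2n(F). -/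
theorem result {F : Type*} [Field F] [Fintype F] (n : ℕ) (hn : 2 ≤ n) (h22 : ¬ (n = 2 ∧ Fintype.card F = 2)) :
    ∃ u g h : Matrix.symplecticGroup (Fin n) F,
      IsNilpotent ((u : Matrix (Fin n ⊕ Fin n) (Fin n ⊕ Fin n) F) - 1) ∧
      ((u : Matrix (Fin n ⊕ Fin n) (Fin n ⊕ Fin n) F) - 1) ^ (2 * n - 1) ≠ 0 ∧
      Subgroup.closure ({u, g * u * g⁻¹, h * u * h⁻¹} : Set (Matrix.symplecticGroup (Fin n) F)) = ⊤ := by
  by_cases hA : (2 : F) = 0 ∧ n = 2
  · obtain ⟨h2, rfl⟩ := hA
    -- characteristic 2, `n = 2`: the field has at least 4 elements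
    have hq : 4 ≤ Fintype.card F := by
      have : CharP F 2 := by
        apply CharTwo.of_one_ne_zero_of_two_eq_zero one_ne_zero h2
      obtain ⟨m, hm⟩ := FiniteField.card F 2
      have hne : Fintype.card F ≠ 2 := fun h => h22 ⟨rfl, h⟩
      rw [hm.2] at hne ⊢
      have hm1 : (m : ℕ) ≠ 1 := by
        intro h
        apply hne
        rw [h, pow_one]
      have hm2 : 2 ≤ (m : ℕ) := by
        have := m.pos
        omega
      calc 4 = 2 ^ 2 := by norm_num
        _ ≤ 2 ^ (m : ℕ) := Nat.pow_le_pow_right (by norm_num) hm2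
    exact Cfsg.Agent.Lib.Helper22.RU.sp4_even h2 hq
  · obtain ⟨k, rfl⟩ : ∃ k, n = k + 2 := ⟨n - 2, by omega⟩
    have hk : (2 : F) ≠ 0 ∨ 1 ≤ k := by
      by_cases h2 : (2 : F) = 0
      · right
        by_contra hk0
        apply hA
        exact ⟨h2, by omega⟩
      · left
        exact h2
    have hnil := Cfsg.Agent.Lib.Helper25.RU.uh_sub_one_isNilpotent (k := k) (1 : F)
    have hpow := Cfsg.Agent.Lib.Helper25.RU.uh_sub_one_pow_ne_zero (k := k) (1 : F) one_ne_zero hnil
    by_cases hq : Fintype.card F ≤ 3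
    · obtain ⟨g, h, hgh⟩ := caseP (k := k) hq hk
      exact ⟨uh k 1, g, h, hnil, hpow, hgh⟩
    · obtain ⟨g, h, hgh⟩ := caseNP (k := k) (F := F) (by omega) hk
      exact ⟨uh k 1, g, h, hnil, hpow, hgh⟩

end Cfsg.Agent.S2281
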