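import Cfsg.Statements.S2298
import Cfsg.Agent.Lib.Helper14.GL2Count

set_option autoImplicit false
open Cfsg

namespace Cfsg.Agent.S2298

open Cfsg.Agent.Lib.Helper14 Cfsg.Agent.Lib.Helper2 Matrix

section aux

variable {F : Type*} [Field F] [Fintype F] [DecidableEq F]

/-- Classification of the irreducible characters of `GL₂(F)` with degrees. -/
theorem irr_cases (χ : Cfsg.IrrCharacter (GL (Fin 2) F)) :
    ((χ : GL (Fin 2) F → ℂ) 1 = 1 ∧ ∃ α : MulChar F ℂ, (χ : GL (Fin 2) F → ℂ) = detChar α) ∨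
    ((χ : GL (Fin 2) F → ℂ) 1 = (Fintype.card F : ℂ) ∧ ∃ α : MulChar F ℂ, (χ : GL (Fin 2) F → ℂ) = st α) ∨
    ((χ : GL (Fin 2) F → ℂ) 1 = (Fintype.card F : ℂ) + 1 ∧
      ∃ z : {z : Sym2 (MulChar F ℂ) // ¬ z.IsDiag}, (χ : GL (Fin 2) F → ℂ) = psSym z.1) ∨
    ((χ : GL (Fin 2) F → ℂ) 1 = (Fintype.card F : ℂ) - 1 ∧ IsCusp (χ : GL (Fin 2) F → ℂ)) := by
  by_cases hc : IsCusp (χ : GL (Fin 2) F → ℂ)
  · right; right; right
    exact ⟨(cusp_main.1 χ hc).1, hc⟩
  · rcases not_cusp_cases χ hc with ⟨α, hα⟩ | ⟨α, hα⟩ | ⟨α, β, hab, hα⟩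
    · left
      exact ⟨by rw [hα, detChar_one], α, hα⟩
    · right; left
      exact ⟨by rw [hα, st_one], α, hα⟩
    · right; right; left
      exact ⟨by rw [hα, ps_one], ⟨s(α, β), fun hd => hab (Sym2.mk_isDiag_iff.mp hd)⟩, hα⟩

omit [Field F] [DecidableEq F] in
theorem q_ne (k : ℕ) (hk : Fintype.card F ≠ k) : (Fintype.card F : ℂ) ≠ (k : ℂ) := by
  exact_mod_cast hk

theorem card_deg_one (hq : 3 ≤ Fintype.card F) :
    Nat.card {χ : Cfsg.IrrCharacter (GL (Fin 2) F) // (χ : GL (Fin 2) F → ℂ) 1 = 1} =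
      Fintype.card F - 1 := by
  rw [← card_mulChar (F := F)]
  symm
  apply Nat.card_eq_of_bijective
    (fun α : MulChar F ℂ => (⟨⟨detChar α, detChar_isIrrCharacter α⟩, detChar_one α⟩ :
      {χ : Cfsg.IrrCharacter (GL (Fin 2) F) // (χ : GL (Fin 2) F → ℂ) 1 = 1}))
  constructor
  · intro α α' h
    exact detChar_injective (congrArg (fun x => (x.1 : GL (Fin 2) F → ℂ)) h)
  · rintro ⟨χ, hχ⟩
    have h1 := q_ne (F := F) 1 (by omega)
    have h0 := q_ne (F := F) 0 (by omega)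
    have h2 := q_ne (F := F) 2 (by omega)
    rcases irr_cases χ with ⟨_, α, hα⟩ | ⟨hd, _⟩ | ⟨hd, _⟩ | ⟨hd, _⟩
    · exact ⟨α, Subtype.ext (Subtype.ext hα.symm)⟩
    · exfalso; rw [hχ] at hd; exact h1 (by push_cast; exact hd.symm)
    · exfalso; rw [hχ] at hd; apply h0; push_cast; linear_combination -hd
    · exfalso; rw [hχ] at hd; apply h2; push_cast; linear_combination -hd

theorem card_deg_q (hq : 3 ≤ Fintype.card F) :
    Nat.card {χ : Cfsg.IrrCharacter (GL (Fin 2) F) // (χ : GL (Fin 2) F → ℂ) 1 = (Fintype.card F : ℂ)} =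
      Fintype.card F - 1 := by
  rw [← card_mulChar (F := F)]
  symm
  apply Nat.card_eq_of_bijective
    (fun α : MulChar F ℂ => (⟨⟨st α, st_isIrrCharacter α⟩, st_one α⟩ :
      {χ : Cfsg.IrrCharacter (GL (Fin 2) F) // (χ : GL (Fin 2) F → ℂ) 1 = (Fintype.card F : ℂ)}))
  constructor
  · intro α α' h
    exact st_injective (congrArg (fun x => (x.1 : GL (Fin 2) F → ℂ)) h)
  · rintro ⟨χ, hχ⟩
    have h1 := q_ne (F := F) 1 (by omega)
    rcases irr_cases χ with ⟨hd, _⟩ | ⟨_, α, hα⟩ | ⟨hd, _⟩ | ⟨hd, _⟩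
    · exfalso; rw [hχ] at hd; exact h1 (by push_cast; exact hd)
    · exact ⟨α, Subtype.ext (Subtype.ext hα.symm)⟩
    · exfalso; rw [hχ] at hd
      have : (1 : ℂ) = 0 := by linear_combination -hd
      exact one_ne_zero this
    · exfalso; rw [hχ] at hd
      have : (1 : ℂ) = 0 := by linear_combination hd
      exact one_ne_zero this

theorem card_deg_q_add_one :
    Nat.card {χ : Cfsg.IrrCharacter (GL (Fin 2) F) // (χ : GL (Fin 2) F → ℂ) 1 = (Fintype.card F : ℂ) + 1} =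
      (Fintype.card F - 1) * (Fintype.card F - 2) / 2 := by
  classical
  have : Fintype (MulChar F ℂ) := Fintype.ofFinite _
  have hcard : Nat.card {z : Sym2 (MulChar F ℂ) // ¬ z.IsDiag} =
      (Fintype.card F - 1) * (Fintype.card F - 2) / 2 := by
    rw [Nat.card_eq_fintype_card, Sym2.card_subtype_not_diag, ← Nat.card_eq_fintype_card, card_mulChar,
      Nat.choose_two_right]
    rfl
  rw [← hcard]
  symm
  apply Nat.card_eq_of_bijective
    (fun z : {z : Sym2 (MulChar F ℂ) // ¬ z.IsDiag} =>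
      (⟨⟨psSym z.1, psSym_isIrrCharacter z.1 z.2⟩, psSym_one z.1⟩ :
      {χ : Cfsg.IrrCharacter (GL (Fin 2) F) // (χ : GL (Fin 2) F → ℂ) 1 = (Fintype.card F : ℂ) + 1}))
  constructor
  · intro z z' h
    exact Subtype.ext (psSym_injOn z.1 z'.1 z.2 (congrArg (fun x => (x.1 : GL (Fin 2) F → ℂ)) h))
  · rintro ⟨χ, hχ⟩
    have h0 := q_ne (F := F) 0 (by have := Fintype.card_pos (α := F); omega)
    rcases irr_cases χ with ⟨hd, _⟩ | ⟨hd, _⟩ | ⟨_, z, hz⟩ | ⟨hd, _⟩
    · exfalso; rw [hχ] at hd; apply h0; push_cast; linear_combination hd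
    · exfalso; rw [hχ] at hd
      have : (1 : ℂ) = 0 := by linear_combination hd
      exact one_ne_zero this
    · exact ⟨z, Subtype.ext (Subtype.ext hz.symm)⟩
    · exfalso; rw [hχ] at hd
      have : (2 : ℂ) = 0 := by linear_combination hd
      exact two_ne_zero this

theorem card_deg_q_sub_one (hq : 3 ≤ Fintype.card F) :
    Nat.card {χ : Cfsg.IrrCharacter (GL (Fin 2) F) // (χ : GL (Fin 2) F → ℂ) 1 = (Fintype.card F : ℂ) - 1} =
      Fintype.card F * (Fintype.card F - 1) / 2 := by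
  rw [← cusp_main.2]
  apply Nat.card_congr
  apply Equiv.subtypeEquivRight
  intro χ
  have h2 := q_ne (F := F) 2 (by omega)
  constructor
  · intro hχ
    rcases irr_cases χ with ⟨hd, _⟩ | ⟨hd, _⟩ | ⟨hd, _⟩ | ⟨_, hc⟩
    · exfalso; rw [hχ] at hd; apply h2; push_cast; linear_combination hd
    · exfalso; rw [hχ] at hd
      have : (1 : ℂ) = 0 := by linear_combination -hd
      exact one_ne_zero this
    · exfalso; rw [hχ] at hd
      have : (2 : ℂ) = 0 := by linear_combination -hd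
      exact two_ne_zero this
    · exact hc
  · intro hc
    exact (cusp_main.1 χ hc).1

end aux


/-- Over a finite field F with q elements, every irreducible complex character of GL₂ has degree 1, q − 1, q or q + 1; and when q ≥ 3 (so that these four numbers are distinct) there are exactly q − 1 irreducible characters of degree 1, exactly q − 1 of degree q, exactly (q − 1)(q − 2)/2 of degree q + 1 and exactly q(q − 1)/2 of degree q − 1. -/
theorem result {F : Type*} [Field F] [Fintype F] :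
    (∀ χ : Matrix.GeneralLinearGroup (Fin 2) F → ℂ, Cfsg.IsIrrCharacter (Matrix.GeneralLinearGroup (Fin 2) F) χ →
      χ 1 = 1 ∨ χ 1 = (Fintype.card F : ℂ) - 1 ∨ χ 1 = (Fintype.card F : ℂ) ∨ χ 1 = (Fintype.card F : ℂ) + 1) ∧
    (3 ≤ Fintype.card F →
      Nat.card {χ : Cfsg.IrrCharacter (Matrix.GeneralLinearGroup (Fin 2) F) // (χ : Matrix.GeneralLinearGroup (Fin 2) F → ℂ) 1 = 1} = Fintype.card F - 1 ∧
      Nat.card {χ : Cfsg.IrrCharacter (Matrix.GeneralLinearGroup (Fin 2) F) // (χ : Matrix.GeneralLinearGroup (Fin 2) F → ℂ) 1 = (Fintype.card F : ℂ)} = Fintype.card F - 1 ∧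
      Nat.card {χ : Cfsg.IrrCharacter (Matrix.GeneralLinearGroup (Fin 2) F) // (χ : Matrix.GeneralLinearGroup (Fin 2) F → ℂ) 1 = (Fintype.card F : ℂ) + 1} = (Fintype.card F - 1) * (Fintype.card F - 2) / 2 ∧
      Nat.card {χ : Cfsg.IrrCharacter (Matrix.GeneralLinearGroup (Fin 2) F) // (χ : Matrix.GeneralLinearGroup (Fin 2) F → ℂ) 1 = (Fintype.card F : ℂ) - 1} = Fintype.card F * (Fintype.card F - 1) / 2) := by
  classical
  refine ⟨?_, ?_⟩
  · intro χ hχ
    rcases irr_cases ⟨χ, hχ⟩ with ⟨hd, _⟩ | ⟨hd, _⟩ | ⟨hd, _⟩ | ⟨hd, _⟩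
    · exact Or.inl hd
    · exact Or.inr (Or.inr (Or.inl hd))
    · exact Or.inr (Or.inr (Or.inr hd))
    · exact Or.inr (Or.inl hd)
  · intro hq
    exact ⟨card_deg_one hq, card_deg_q hq, card_deg_q_add_one, card_deg_q_sub_one hq⟩

end Cfsg.Agent.S2298
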