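import Cfsg.Statements.S2301
import Cfsg.Agent.Lib.Helper14.SL2Odd

set_option autoImplicit false
open Cfsg

namespace Cfsg.Agent.S2301

open Cfsg.Agent.Lib.Helper14 Matrix

variable {F : Type*} [Field F]

theorem nuOf_ne_zero (ν : F) (hν : ¬ IsSquare ν) (s : Bool) : nuOf ν s ≠ 0 := by
  cases s
  · simp only [nuOf, Bool.false_eq_true, if_false]
    rintro rfl; exact hν IsSquare.zero
  · simp [nuOf]

theorem nuOf_injective_mod_sq (ν : F) (hν : ¬ IsSquare ν) (s s' : Bool) (d : F) (hd0 : d ≠ 0)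
    (hd : nuOf ν s' = nuOf ν s * d ^ 2) : s = s' := by
  cases s <;> cases s'
  · rfl
  · exfalso
    simp only [nuOf, Bool.false_eq_true, if_false, if_true] at hd
    apply hν
    refine ⟨d⁻¹, ?_⟩
    field_simp
    linear_combination -hd
  · exfalso
    simp only [nuOf, Bool.false_eq_true, if_false, if_true] at hd
    apply hν
    exact ⟨d, by rw [hd]; ring⟩
  · rfl

theorem eq_upperSL (g : SpecialLinearGroup (Fin 2) F)
    (h00 : (g : Matrix (Fin 2) (Fin 2) F) 0 0 = 1) (h11 : (g : Matrix (Fin 2) (Fin 2) F) 1 1 = 1)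
    (h10 : (g : Matrix (Fin 2) (Fin 2) F) 1 0 = 0) :
    g = upperSL 1 ((g : Matrix (Fin 2) (Fin 2) F) 0 1) (one_mul 1) := by
  apply Subtype.ext
  show (g : Matrix (Fin 2) (Fin 2) F) = !![1, (g : Matrix (Fin 2) (Fin 2) F) 0 1; 0, 1]
  apply mat2_ext <;> simp [h00, h11, h10]

theorem isConj_upperSL_iff (b b' : F) (hb : b ≠ 0) (hb' : b' ≠ 0) :
    IsConj (upperSL 1 b (one_mul 1)) (upperSL 1 b' (one_mul 1)) ↔ IsSquare (b * b') := by
  constructor
  · intro h
    obtain ⟨d, hd0, hd⟩ := exists_sq_of_isConj_upperSL (1 : F) b b' (one_mul 1) hb h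
    exact ⟨b * d, by rw [hd]; ring⟩
  · rintro ⟨r, hr⟩
    have hr0 : r ≠ 0 := by
      rintro rfl
      rw [mul_zero] at hr
      exact mul_ne_zero hb hb' hr
    have h3 := isConj_upperSL_mul_sq (1 : F) b (r / b) (one_mul 1) (div_ne_zero hr0 hb)
    have : b * (r / b) ^ 2 = b' := by
      field_simp
      linear_combination -hr
    rw [this] at h3
    exact h3

/-- an element of order `p` is conjugate to an upper unitriangular matrix -/
theorem exists_isConj_of_order (p : ℕ) [Fact p.Prime] [CharP F p]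
    (g : SpecialLinearGroup (Fin 2) F) (hg : orderOf g = p) :
    ∃ b : F, b ≠ 0 ∧ IsConj g (upperSL 1 b (one_mul 1)) := by
  obtain ⟨h1, h2⟩ := data_of_order_SL p g hg
  exact exists_isConj_upperSL g h1 1 (one_mul 1) (by rw [h2, mul_one])

/-- Over a finite field with q elements of odd characteristic p, the elements of order p of SL₂ (the non-identity unipotent elements) fall into exactly two conjugacy classes, each of size (q² − 1)/2; two upper unitriangular matrices with non-zero off-diagonal entries b and b′ are conjugate exactly when bb′ is a square. -/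
theorem result {F : Type*} [Field F] [Fintype F] (p : ℕ) [Fact p.Prime] [CharP F p] (hp : p ≠ 2) :
    Nat.card {C : ConjClasses (Matrix.SpecialLinearGroup (Fin 2) F) // ∃ g : Matrix.SpecialLinearGroup (Fin 2) F, orderOf g = p ∧ ConjClasses.mk g = C} = 2 ∧
    (∀ g : Matrix.SpecialLinearGroup (Fin 2) F, orderOf g = p → Nat.card (ConjClasses.mk g).carrier = (Fintype.card F ^ 2 - 1) / 2) ∧
    ∀ g h : Matrix.SpecialLinearGroup (Fin 2) F, (g : Matrix (Fin 2) (Fin 2) F) 0 0 = 1 → (g : Matrix (Fin 2) (Fin 2) F) 1 1 = 1 → (g : Matrix (Fin 2) (Fin 2) F) 1 0 = 0 → (g : Matrix (Fin 2) (Fin 2) F) 0 1 ≠ 0 →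
      (h : Matrix (Fin 2) (Fin 2) F) 0 0 = 1 → (h : Matrix (Fin 2) (Fin 2) F) 1 1 = 1 → (h : Matrix (Fin 2) (Fin 2) F) 1 0 = 0 → (h : Matrix (Fin 2) (Fin 2) F) 0 1 ≠ 0 →
      (IsConj g h ↔ IsSquare ((g : Matrix (Fin 2) (Fin 2) F) 0 1 * (h : Matrix (Fin 2) (Fin 2) F) 0 1)) := by
  classical
  have hpp : p.Prime := Fact.out
  have h2 : (2 : F) ≠ 0 := by
    intro h
    have : ((2 : ℕ) : F) = 0 := by exact_mod_cast h
    rw [CharP.cast_eq_zero_iff F p] at this
    exact hp ((Nat.prime_dvd_prime_iff_eq hpp Nat.prime_two).mp this)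
  have hchar : ringChar F ≠ 2 := by
    rw [ringChar.eq F p]; exact hp
  obtain ⟨ν, hν⟩ := FiniteField.exists_nonsquare hchar
  refine ⟨?_, ?_, ?_⟩
  · -- two classes
    let φ : Bool → {C : ConjClasses (Matrix.SpecialLinearGroup (Fin 2) F) // ∃ g : Matrix.SpecialLinearGroup (Fin 2) F, orderOf g = p ∧ ConjClasses.mk g = C} :=
      fun s => ⟨ConjClasses.mk (upperSL 1 (nuOf ν s) (one_mul 1)),
        ⟨_, orderOf_upperSL p _ (nuOf_ne_zero ν hν s), rfl⟩⟩
    have hbij : Function.Bijective φ := by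
      constructor
      · intro s s' h
        have h1 : ConjClasses.mk (upperSL 1 (nuOf ν s) (one_mul 1)) =
            ConjClasses.mk (upperSL 1 (nuOf ν s') (one_mul 1)) := congrArg Subtype.val h
        have h3 := ConjClasses.mk_eq_mk_iff_isConj.mp h1
        obtain ⟨d, hd0, hd⟩ := exists_sq_of_isConj_upperSL (1 : F) _ _ (one_mul 1) (nuOf_ne_zero ν hν s) h3
        exact nuOf_injective_mod_sq ν hν s s' d hd0 hd
      · rintro ⟨C, g, hg, rfl⟩
        obtain ⟨b, hb, hc⟩ := exists_isConj_of_order p g hg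
        obtain ⟨s, d, hd0, hd⟩ := exists_nuOf_mul_sq ν hν b hb
        refine ⟨s, ?_⟩
        apply Subtype.ext
        show ConjClasses.mk (upperSL 1 (nuOf ν s) (one_mul 1)) = ConjClasses.mk g
        rw [ConjClasses.mk_eq_mk_iff_isConj]
        have h3 := isConj_upperSL_mul_sq (1 : F) (nuOf ν s) d (one_mul 1) hd0
        rw [← hd] at h3
        exact h3.trans hc.symm
    rw [← Nat.card_eq_of_bijective φ hbij]
    simp
  · -- class size
    intro g hg
    obtain ⟨b, hb, hc⟩ := exists_isConj_of_order p g hg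
    rw [ConjClasses.mk_eq_mk_iff_isConj.mpr hc]
    have h1 := card_class_mul_card_centralizer (upperSL (1 : F) b (one_mul 1))
    rw [card_centralizer_upperSL (1 : F) b (one_mul 1) hb, card_sq_eq_one_odd h2, card_SL2] at h1
    have hq : 0 < Fintype.card F := Fintype.card_pos
    have h3 : (Nat.card (ConjClasses.mk (upperSL (1 : F) b (one_mul 1))).carrier * 2) * Fintype.card F =
        (Fintype.card F ^ 2 - 1) * Fintype.card F := by
      rw [mul_assoc, h1, mul_comm]
    have h4 := Nat.eq_of_mul_eq_mul_right hq h3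
    omega
  · intro g h g00 g11 g10 g01 h00 h11 h10 h01
    rw [eq_upperSL g g00 g11 g10, eq_upperSL h h00 h11 h10]
    simp only [upperSL_coe]
    have := isConj_upperSL_iff ((g : Matrix (Fin 2) (Fin 2) F) 0 1) ((h : Matrix (Fin 2) (Fin 2) F) 0 1) g01 h01
    simpa using this

end Cfsg.Agent.S2301
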