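import Cfsg.Statements.S2302
import Cfsg.Agent.Lib.Helper14.SL2Order

set_option autoImplicit false
open Cfsg

namespace Cfsg.Agent.S2302

open Cfsg.Agent.Lib.Helper14 Matrix

/-- In characteristic two every element of order two of `SL₂` is conjugate to the standard
transvection. -/
theorem isConj_std {F : Type*} [Field F] [Fintype F] [CharP F 2]
    (g : Matrix.SpecialLinearGroup (Fin 2) F) (hg : orderOf g = 2) :
    IsConj g (upperSL 1 1 (one_mul 1)) := by
  have : Fact (Nat.Prime 2) := ⟨Nat.prime_two⟩
  obtain ⟨h1, h2⟩ := data_of_order_SL 2 g hg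
  obtain ⟨b, hb, hc⟩ := exists_isConj_upperSL g h1 1 (one_mul 1) (by rw [h2, mul_one])
  have hchar : ringChar F = 2 := ringChar.eq F 2
  obtain ⟨d, hd⟩ := FiniteField.isSquare_of_char_two hchar b
  have hd0 : d ≠ 0 := by
    rintro rfl
    apply hb; rw [hd, mul_zero]
  have h3 := isConj_upperSL_mul_sq (1 : F) 1 d (one_mul 1) hd0
  have : (1 : F) * d ^ 2 = b := by rw [hd]; ring
  rw [this] at h3
  exact hc.trans h3.symm

/-- Over a finite field with q elements of characteristic 2, the involutions of SL₂ (the non-identity unipotent elements) form a single conjugacy class, of size q² − 1. -/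
theorem result {F : Type*} [Field F] [Fintype F] [CharP F 2] (g h : Matrix.SpecialLinearGroup (Fin 2) F) (hg : orderOf g = 2) (hh : orderOf h = 2) :
    IsConj g h ∧ Nat.card (ConjClasses.mk g).carrier = Fintype.card F ^ 2 - 1 := by
  have hgu := isConj_std g hg
  have hhu := isConj_std h hh
  refine ⟨hgu.trans hhu.symm, ?_⟩
  rw [ConjClasses.mk_eq_mk_iff_isConj.mpr hgu]
  have h1 := card_class_mul_card_centralizer (upperSL (1 : F) 1 (one_mul 1))
  rw [card_centralizer_upperSL (1 : F) 1 (one_mul 1) one_ne_zero, card_sq_eq_one_char_two, one_mul,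
    card_SL2] at h1
  have hq : 0 < Fintype.card F := Fintype.card_pos
  rw [mul_comm] at h1
  exact Nat.eq_of_mul_eq_mul_left hq h1

end Cfsg.Agent.S2302
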