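import Cfsg.Statements.S2306
import Cfsg.Agent.Lib.Helper14.SL2PS

set_option autoImplicit false
open Cfsg Cfsg.Agent.Lib.Helper14 Cfsg.Agent.Lib.Helper2

namespace Cfsg.Agent.S2306

/-- Over a finite field F, for a multiplicative character α of F, the function induced to SL₂ from the linear character b ↦ α(b₁₁) of the upper triangular subgroup is an irreducible character if and only if α² ≠ 1. -/
theorem result {F : Type*} [Field F] [Fintype F] [DecidableEq F] (α : MulChar F ℂ) :
    Cfsg.IsIrrCharacter (Matrix.SpecialLinearGroup (Fin 2) F) (Cfsg.indFun ((Cfsg.upperTriangularGL 2 F).comap Matrix.SpecialLinearGroup.toGL) (fun b => α (((b : Matrix.SpecialLinearGroup (Fin 2) F) : Matrix (Fin 2) (Fin 2) F) 0 0))) ↔ α ^ 2 ≠ 1 := by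
  classical
  have h := indFun_thetaSL α
  unfold thetaSL at h
  rw [h]
  constructor
  · intro hirr hsq
    have h1 : Cfsg.classInner (res (ps α 1)) (res (ps α 1)) = 1 :=
      classInner_irrCharacter_self ⟨_, hirr⟩
    rw [classInner_res_ps_self_of_sq hsq] at h1
    norm_num at h1
  · intro hsq
    exact res_ps_irr hsq

end Cfsg.Agent.S2306
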