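import Cfsg.Statements.S2307
import Cfsg.Agent.Lib.Helper14.SL2PS

set_option autoImplicit false
open Cfsg Cfsg.Agent.Lib.Helper14 Cfsg.Agent.Lib.Helper2

namespace Cfsg.Agent.S2307

/-- Over a finite field F with q elements, q odd, let α be the multiplicative character of F of order 2. The character of SL₂ induced from the linear character b ↦ α(b₁₁) of the upper triangular subgroup is the sum of two distinct irreducible characters, each of degree (q + 1)/2, which are conjugate under GL₂: some fixed element of GL₂ conjugates the one into the other. -/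
theorem result {F : Type*} [Field F] [Fintype F] [DecidableEq F] (hodd : Odd (Fintype.card F)) (α : MulChar F ℂ)
    (hα : α ^ 2 = 1) (hα1 : α ≠ 1) :
    ∃ χ₁ χ₂ : Matrix.SpecialLinearGroup (Fin 2) F → ℂ, Cfsg.IsIrrCharacter (Matrix.SpecialLinearGroup (Fin 2) F) χ₁ ∧ Cfsg.IsIrrCharacter (Matrix.SpecialLinearGroup (Fin 2) F) χ₂ ∧ χ₁ ≠ χ₂ ∧
      Cfsg.indFun ((Cfsg.upperTriangularGL 2 F).comap Matrix.SpecialLinearGroup.toGL) (fun b => α (((b : Matrix.SpecialLinearGroup (Fin 2) F) : Matrix (Fin 2) (Fin 2) F) 0 0)) = χ₁ + χ₂ ∧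
      χ₁ 1 = (((Fintype.card F + 1) / 2 : ℕ) : ℂ) ∧ χ₂ 1 = (((Fintype.card F + 1) / 2 : ℕ) : ℂ) ∧
      ∃ x : Matrix.GeneralLinearGroup (Fin 2) F, ∀ g h : Matrix.SpecialLinearGroup (Fin 2) F,
        Matrix.SpecialLinearGroup.toGL h = x * Matrix.SpecialLinearGroup.toGL g * x⁻¹ → χ₂ h = χ₁ g := by
  classical
  have h := indFun_thetaSL α
  unfold thetaSL at h
  rw [h]
  have hirr : Cfsg.IsIrrCharacter (GL (Fin 2) F) (ps α 1) := ps_isIrrCharacter hα1
  obtain ⟨θ₁, θ₂, h₁, h₂, hne, hsum⟩ := exists_add_of_classInner_self_eq_two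
    (res_ps_isCharacter α 1) (classInner_res_ps_self_of_sq hα)
  obtain ⟨d1, d2⟩ := degree_halves ⟨ps α 1, hirr⟩ h₁ h₂ hne hsum
  obtain ⟨x, hx⟩ := exists_conjSL_eq ⟨ps α 1, hirr⟩ h₁ h₂ hne hsum
  have hdeg : ∀ z : ℂ, 2 * z = ps α 1 1 → z = (((Fintype.card F + 1) / 2 : ℕ) : ℂ) := by
    intro z hz
    rw [ps_one] at hz
    obtain ⟨k, hk⟩ := hodd
    have e : (Fintype.card F + 1) / 2 = k + 1 := by omega
    rw [e]
    rw [hk] at hz
    push_cast at hz ⊢
    linear_combination hz / 2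
  refine ⟨θ₁, θ₂, h₁, h₂, hne, hsum, hdeg _ d1, hdeg _ d2, x, ?_⟩
  intro g k hk
  rw [← toGL_conjSL] at hk
  have hk' := Matrix.SpecialLinearGroup.toGL_injective hk
  rw [hk']
  exact congrFun hx g

end Cfsg.Agent.S2307
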