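import Cfsg.Statements.S2308
import Cfsg.Agent.Lib.Helper14.GL2Cent

set_option autoImplicit false
open Cfsg

namespace Cfsg.Agent.S2308

open Cfsg.Agent.Lib.Helper14 Matrix

variable {F : Type*} [Field F]

theorem mem_borel_iff (x : GL (Fin 2) F) :
    x ∈ Cfsg.upperTriangularGL 2 F ↔ (x : Matrix (Fin 2) (Fin 2) F) 1 0 = 0 := by
  show (x : Matrix (Fin 2) (Fin 2) F).BlockTriangular id ↔ _
  constructor
  · intro h
    exact h (by decide : (0 : Fin 2) < 1)
  · intro h i j hij
    fin_cases i <;> fin_cases j <;> simp_all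

theorem inv_mul_10 (x y : GL (Fin 2) F) :
    ((x⁻¹ * y : GL (Fin 2) F) : Matrix (Fin 2) (Fin 2) F) 1 0 =
      ((x : Matrix (Fin 2) (Fin 2) F).det)⁻¹ * ((x : Matrix (Fin 2) (Fin 2) F) 0 0 * (y : Matrix (Fin 2) (Fin 2) F) 1 0 - (x : Matrix (Fin 2) (Fin 2) F) 1 0 * (y : Matrix (Fin 2) (Fin 2) F) 0 0) := by
  rw [Units.val_mul, Matrix.coe_units_inv, Matrix.inv_def, Matrix.adjugate_fin_two]
  simp [Matrix.mul_apply, Fin.sum_univ_two]
  ring

theorem det_ne_zero' (x : GL (Fin 2) F) : (x : Matrix (Fin 2) (Fin 2) F).det ≠ 0 :=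
  ((Matrix.isUnit_iff_isUnit_det _).mp x.isUnit).ne_zero

/-- Two elements of `GL₂` lie in the same coset of the Borel subgroup iff their first columns
are proportional. -/
theorem coset_eq_iff (x y : GL (Fin 2) F) :
    (QuotientGroup.mk x : GL (Fin 2) F ⧸ Cfsg.upperTriangularGL 2 F) = QuotientGroup.mk y ↔
      (x : Matrix (Fin 2) (Fin 2) F) 0 0 * (y : Matrix (Fin 2) (Fin 2) F) 1 0 =
        (x : Matrix (Fin 2) (Fin 2) F) 1 0 * (y : Matrix (Fin 2) (Fin 2) F) 0 0 := by
  rw [QuotientGroup.eq, mem_borel_iff, inv_mul_10]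
  constructor
  · intro h
    rcases mul_eq_zero.mp h with h | h
    · exact absurd (inv_eq_zero.mp h) (det_ne_zero' x)
    · exact sub_eq_zero.mp h
  · intro h
    rw [h, sub_self, mul_zero]

/-- coset representatives: the line through `(1, s)` or through `(0, 1)`. -/
noncomputable def lineRep : Option F → GL (Fin 2) F
  | some s => Matrix.GeneralLinearGroup.mkOfDetNeZero !![1, 0; s, 1] (by simp [Matrix.det_fin_two])
  | none => Matrix.GeneralLinearGroup.mkOfDetNeZero !![0, 1; 1, 0] (by simp [Matrix.det_fin_two])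

theorem lineRep_bijective :
    Function.Bijective (fun o : Option F =>
      (QuotientGroup.mk (lineRep o) : GL (Fin 2) F ⧸ Cfsg.upperTriangularGL 2 F)) := by
  constructor
  · intro o o' h
    rw [coset_eq_iff] at h
    rcases o with _ | s <;> rcases o' with _ | s' <;>
      simp [lineRep, Matrix.GeneralLinearGroup.mkOfDetNeZero] at h ⊢
    exact h.symm
  · intro c
    induction c using QuotientGroup.induction_on with
    | _ x =>
      by_cases h : (x : Matrix (Fin 2) (Fin 2) F) 0 0 = 0
      · refine ⟨none, ?_⟩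
        show (QuotientGroup.mk (lineRep none) : GL (Fin 2) F ⧸ Cfsg.upperTriangularGL 2 F) = QuotientGroup.mk x
        rw [coset_eq_iff]
        simp [lineRep, Matrix.GeneralLinearGroup.mkOfDetNeZero, h]
      · refine ⟨some ((x : Matrix (Fin 2) (Fin 2) F) 1 0 / (x : Matrix (Fin 2) (Fin 2) F) 0 0), ?_⟩
        show (QuotientGroup.mk (lineRep (some _)) : GL (Fin 2) F ⧸ Cfsg.upperTriangularGL 2 F) = QuotientGroup.mk x
        rw [coset_eq_iff]
        simp [lineRep, Matrix.GeneralLinearGroup.mkOfDetNeZero]
        field_simp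

/-- The condition for `g` to fix the coset of `lineRep o`. -/
def fixCond (g : GL (Fin 2) F) : Option F → Prop
  | some s => (g : Matrix (Fin 2) (Fin 2) F) 1 0 + (g : Matrix (Fin 2) (Fin 2) F) 1 1 * s =
      s * ((g : Matrix (Fin 2) (Fin 2) F) 0 0 + (g : Matrix (Fin 2) (Fin 2) F) 0 1 * s)
  | none => (g : Matrix (Fin 2) (Fin 2) F) 0 1 = 0

theorem smul_lineRep_eq_iff (g : GL (Fin 2) F) (o : Option F) :
    g • (QuotientGroup.mk (lineRep o) : GL (Fin 2) F ⧸ Cfsg.upperTriangularGL 2 F) =
      QuotientGroup.mk (lineRep o) ↔ fixCond g o := by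
  rw [MulAction.Quotient.smul_mk, eq_comm, coset_eq_iff]
  rcases o with _ | s
  · simp [lineRep, Matrix.GeneralLinearGroup.mkOfDetNeZero, fixCond, Matrix.mul_apply, Fin.sum_univ_two]
    exact eq_comm
  · simp [lineRep, Matrix.GeneralLinearGroup.mkOfDetNeZero, fixCond, Matrix.mul_apply, Fin.sum_univ_two]

theorem card_fixedBy [Fintype F] (g : GL (Fin 2) F) :
    Nat.card (MulAction.fixedBy (GL (Fin 2) F ⧸ Cfsg.upperTriangularGL 2 F) g) =
      Nat.card {o : Option F // fixCond g o} := by
  symm
  let ψ : {o : Option F // fixCond g o} → MulAction.fixedBy (GL (Fin 2) F ⧸ Cfsg.upperTriangularGL 2 F) g :=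
    fun o => ⟨QuotientGroup.mk (lineRep o.1), (smul_lineRep_eq_iff g o.1).mpr o.2⟩
  apply Nat.card_eq_of_bijective ψ
  constructor
  · intro o o' h
    have := congrArg Subtype.val h
    exact Subtype.ext (lineRep_bijective.1 this)
  · rintro ⟨c, hc⟩
    obtain ⟨o, rfl⟩ := lineRep_bijective.2 c
    exact ⟨⟨o, (smul_lineRep_eq_iff g o).mp hc⟩, rfl⟩

theorem card_fixCond [Fintype F] [DecidableEq F] (g : GL (Fin 2) F) [DecidablePred (fixCond g)] :
    Nat.card {o : Option F // fixCond g o} =
      (Finset.univ.filter (fun s : F => fixCond g (some s))).card + (if fixCond g none then 1 else 0) := by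
  rw [Nat.card_eq_fintype_card, Fintype.card_subtype]
  rw [← Finset.card_map ⟨(some : F → Option F), Option.some_injective F⟩]
  by_cases h : fixCond g none
  · rw [if_pos h]
    rw [← Finset.card_insert_of_notMem (a := (none : Option F))]
    · congr 1
      ext o
      rcases o with _ | s
      · simp [h]
      · simp
    · simp
  · rw [if_neg h, add_zero]
    congr 1
    ext o
    rcases o with _ | s
    · simp [h]
    · simp

/-- Values of the permutation character of GL₂ over a finite field F with q elements on the cosets of its upper triangular subgroup (equivalently, the number of lines of F² that an element maps to themselves): q + 1 at a scalar matrix, 2 at a diagonal matrix with two different diagonal entries, 0 at an element with no eigenvector in F², and 1 at an upper triangular matrix with equal diagonal entries and non-zero upper right entry. -/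
theorem result {F : Type*} [Field F] [Fintype F] (g : Matrix.GeneralLinearGroup (Fin 2) F) :
    ((∃ a : F, (g : Matrix (Fin 2) (Fin 2) F) = a • (1 : Matrix (Fin 2) (Fin 2) F)) → Cfsg.fixedPointCharacter (Cfsg.upperTriangularGL 2 F) g = Fintype.card F + 1) ∧
    ((g : Matrix (Fin 2) (Fin 2) F) 0 1 = 0 → (g : Matrix (Fin 2) (Fin 2) F) 1 0 = 0 → (g : Matrix (Fin 2) (Fin 2) F) 0 0 ≠ (g : Matrix (Fin 2) (Fin 2) F) 1 1 →
      Cfsg.fixedPointCharacter (Cfsg.upperTriangularGL 2 F) g = 2) ∧
    ((∀ (c : F) (v : Fin 2 → F), v ≠ 0 → (g : Matrix (Fin 2) (Fin 2) F).mulVec v ≠ c • v) → Cfsg.fixedPointCharacter (Cfsg.upperTriangularGL 2 F) g = 0) ∧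
    ((g : Matrix (Fin 2) (Fin 2) F) 1 0 = 0 → (g : Matrix (Fin 2) (Fin 2) F) 0 0 = (g : Matrix (Fin 2) (Fin 2) F) 1 1 → (g : Matrix (Fin 2) (Fin 2) F) 0 1 ≠ 0 →
      Cfsg.fixedPointCharacter (Cfsg.upperTriangularGL 2 F) g = 1) := by
  classical
  unfold Cfsg.fixedPointCharacter
  rw [card_fixedBy, card_fixCond]
  refine ⟨?_, ?_, ?_, ?_⟩
  · rintro ⟨a, ha⟩
    have hall : ∀ o, fixCond g o := by
      intro o
      rcases o with _ | s <;> simp [fixCond, ha]
      ring
    rw [if_pos (hall none), Finset.filter_true_of_mem (fun s _ => hall (some s)), Finset.card_univ]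
    push_cast; ring
  · intro h01 h10 hne
    have h1 : fixCond g none := h01
    have h2 : ∀ s : F, fixCond g (some s) ↔ s = 0 := by
      intro s
      simp only [fixCond, h01, h10, zero_add, zero_mul, add_zero]
      constructor
      · intro h
        have : s * ((g : Matrix (Fin 2) (Fin 2) F) 1 1 - (g : Matrix (Fin 2) (Fin 2) F) 0 0) = 0 := by
          linear_combination h
        rcases mul_eq_zero.mp this with h | h
        · exact h
        · exact absurd (sub_eq_zero.mp h).symm hne
      · rintro rfl; ring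
    rw [if_pos h1]
    have : Finset.univ.filter (fun s : F => fixCond g (some s)) = {0} := by
      ext s; simp [h2]
    rw [this]; simp
  · intro h
    have h1 : ¬ fixCond g none := by
      intro h01
      apply h ((g : Matrix (Fin 2) (Fin 2) F) 1 1) ![0, 1]
      · intro h0
        have := congrFun h0 1
        simp at this
      · ext i
        fin_cases i <;> simp [Matrix.mulVec, dotProduct, Fin.sum_univ_two, fixCond] at h01 ⊢
        exact h01
    have h2 : ∀ s : F, ¬ fixCond g (some s) := by
      intro s hs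
      simp only [fixCond] at hs
      apply h ((g : Matrix (Fin 2) (Fin 2) F) 0 0 + (g : Matrix (Fin 2) (Fin 2) F) 0 1 * s) ![1, s]
      · intro h0
        have := congrFun h0 0
        simp at this
      · ext i
        fin_cases i <;> simp [Matrix.mulVec, dotProduct, Fin.sum_univ_two]
        linear_combination hs
    rw [if_neg h1, Finset.filter_false_of_mem (fun s _ => h2 s)]
    simp
  · intro h10 h00 h01
    have h1 : ¬ fixCond g none := h01
    have h2 : ∀ s : F, fixCond g (some s) ↔ s = 0 := by
      intro s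
      simp only [fixCond, h10, h00, zero_add]
      constructor
      · intro h
        have : (g : Matrix (Fin 2) (Fin 2) F) 0 1 * (s * s) = 0 := by
          linear_combination -h
        rcases mul_eq_zero.mp this with h | h
        · exact absurd h h01
        · exact mul_self_eq_zero.mp h
      · rintro rfl; ring
    rw [if_neg h1]
    have : Finset.univ.filter (fun s : F => fixCond g (some s)) = {0} := by
      ext s; simp [h2]
    rw [this]; simp

end Cfsg.Agent.S2308
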