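import Cfsg.Statements.S2309
import Cfsg.Agent.S2298
import Cfsg.Agent.Lib.Helper14.GL2CuspVanish

set_option autoImplicit false
open Cfsg

namespace Cfsg.Agent.S2309

open Cfsg.Agent.Lib.Helper14 Cfsg.Agent.Lib.Helper2 Matrix Cfsg.Agent.S2298


/-- Over a finite field F with q elements: every irreducible complex character of GL₂ of degree q − 1 vanishes at every diagonal matrix with two distinct entries, and every irreducible complex character of degree q + 1 vanishes at every element with no eigenvector in F². -/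
theorem result {F : Type*} [Field F] [Fintype F] (χ : Matrix.GeneralLinearGroup (Fin 2) F → ℂ) (hχ : Cfsg.IsIrrCharacter (Matrix.GeneralLinearGroup (Fin 2) F) χ) (g : Matrix.GeneralLinearGroup (Fin 2) F) :
    (χ 1 = (Fintype.card F : ℂ) - 1 → (g : Matrix (Fin 2) (Fin 2) F) 0 1 = 0 → (g : Matrix (Fin 2) (Fin 2) F) 1 0 = 0 → (g : Matrix (Fin 2) (Fin 2) F) 0 0 ≠ (g : Matrix (Fin 2) (Fin 2) F) 1 1 → χ g = 0) ∧
    (χ 1 = (Fintype.card F : ℂ) + 1 → (∀ (c : F) (v : Fin 2 → F), v ≠ 0 → (g : Matrix (Fin 2) (Fin 2) F).mulVec v ≠ c • v) → χ g = 0) := by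
  classical
  have h0 := q_ne (F := F) 0 (by have := Fintype.card_pos (α := F); omega)
  push_cast at h0
  have hdet := det_ne_zero_GL g
  constructor
  · intro hdeg h01 h10 hne
    rcases irr_cases ⟨χ, hχ⟩ with ⟨hd, _⟩ | ⟨hd, _⟩ | ⟨hd, _⟩ | ⟨_, hc⟩
    · exfalso
      simp only at hd
      rw [hdeg] at hd
      have hq2 : Fintype.card F = 2 := by
        have : (Fintype.card F : ℂ) = 2 := by linear_combination hd
        exact_mod_cast this
      have hu : Fintype.card Fˣ = 1 := by rw [Fintype.card_units, hq2]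
      have hsub : Subsingleton Fˣ := Fintype.card_le_one_iff_subsingleton.mp hu.le
      rw [Matrix.det_fin_two, h01, zero_mul, sub_zero] at hdet
      have := Subsingleton.elim (Units.mk0 _ (left_ne_zero_of_mul hdet)) (Units.mk0 _ (right_ne_zero_of_mul hdet))
      exact hne (congrArg Units.val this)
    · exfalso; simp only at hd; rw [hdeg] at hd
      exact one_ne_zero (by linear_combination -hd : (1 : ℂ) = 0)
    · exfalso; simp only at hd; rw [hdeg] at hd
      exact two_ne_zero (by linear_combination -hd : (2 : ℂ) = 0)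
    · simp only at hc
      have hsum := cusp_sum_uel (IsCharacter.isClassFunction (IsIrrCharacter.isCharacter hχ)) hc
      obtain ⟨n, ρ, -, rfl⟩ := hχ
      exact char_eq_zero_of_sum_uel_eq_zero ρ hsum g h01 h10 hne
  · intro hdeg hell
    rcases irr_cases ⟨χ, hχ⟩ with ⟨hd, _⟩ | ⟨hd, _⟩ | ⟨_, z, hz⟩ | ⟨hd, _⟩
    · exfalso; simp only at hd; rw [hdeg] at hd
      exact h0 (by linear_combination hd)
    · exfalso; simp only at hd; rw [hdeg] at hd
      exact one_ne_zero (by linear_combination hd : (1 : ℂ) = 0)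
    · simp only at hz
      rw [hz]
      obtain ⟨z, hzd⟩ := z
      induction z using Sym2.ind with
      | _ α β => exact indTheta_elliptic α β g hell
    · exfalso; simp only at hd; rw [hdeg] at hd
      exact two_ne_zero (by linear_combination hd : (2 : ℂ) = 0)

end Cfsg.Agent.S2309
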