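import Cfsg.Statements.S2310
import Cfsg.Agent.S2298

set_option autoImplicit false
open Cfsg

namespace Cfsg.Agent.S2310

open Cfsg.Agent.Lib.Helper14 Cfsg.Agent.Lib.Helper2 Matrix Cfsg.Agent.S2298

section aux

variable {F : Type*} [Field F] [Fintype F] [DecidableEq F]

theorem psSym_uel_one (z : Sym2 (MulChar F ℂ)) : psSym z (uel 1) = 1 := by
  induction z using Sym2.ind with
  | _ α β => rw [psSym_mk, ps_uel_one]

/-- Degree and value at the transvection, by type. -/
theorem deg_val_cases (χ : Cfsg.IrrCharacter (GL (Fin 2) F)) :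
    ((χ : GL (Fin 2) F → ℂ) 1 = 1 ∧ (χ : GL (Fin 2) F → ℂ) (uel 1) = 1) ∨
    ((χ : GL (Fin 2) F → ℂ) 1 = (Fintype.card F : ℂ) ∧ (χ : GL (Fin 2) F → ℂ) (uel 1) = 0) ∨
    ((χ : GL (Fin 2) F → ℂ) 1 = (Fintype.card F : ℂ) + 1 ∧ (χ : GL (Fin 2) F → ℂ) (uel 1) = 1) ∨
    ((χ : GL (Fin 2) F → ℂ) 1 = (Fintype.card F : ℂ) - 1 ∧ (χ : GL (Fin 2) F → ℂ) (uel 1) = -1) := by
  rcases irr_cases χ with ⟨hd, α, hα⟩ | ⟨hd, α, hα⟩ | ⟨hd, z, hz⟩ | ⟨hd, hc⟩
  · left; exact ⟨hd, by rw [hα, detChar_uel_one]⟩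
  · right; left; exact ⟨hd, by rw [hα, st_uel_one]⟩
  · right; right; left; exact ⟨hd, by rw [hz, psSym_uel_one]⟩
  · right; right; right; exact ⟨hd, (cusp_main.1 χ hc).2⟩

end aux


/-- Over a finite field F with q ≥ 3 elements, let u be the upper unitriangular matrix of GL₂ with off-diagonal entry 1. An irreducible complex character χ of GL₂ takes at u the value 1 if χ has degree 1 or q + 1, the value −1 if χ has degree q − 1, and the value 0 if χ has degree q. -/
theorem result {F : Type*} [Field F] [Fintype F] (hq : 3 ≤ Fintype.card F) (χ : Matrix.GeneralLinearGroup (Fin 2) F → ℂ) (hχ : Cfsg.IsIrrCharacter (Matrix.GeneralLinearGroup (Fin 2) F) χ)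
    (u : Matrix.GeneralLinearGroup (Fin 2) F) (hu : (u : Matrix (Fin 2) (Fin 2) F) = !![1, 1; 0, 1]) :
    (χ 1 = 1 → χ u = 1) ∧ (χ 1 = (Fintype.card F : ℂ) + 1 → χ u = 1) ∧
    (χ 1 = (Fintype.card F : ℂ) - 1 → χ u = -1) ∧ (χ 1 = (Fintype.card F : ℂ) → χ u = 0) := by
  classical
  have hu' : u = uel 1 := by
    apply Units.ext
    rw [hu]
    apply mat2_ext <;> simp [uel]
  subst hu'
  have h0 := q_ne (F := F) 0 (by omega)
  have h1 := q_ne (F := F) 1 (by omega)
  have h2 := q_ne (F := F) 2 (by omega)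
  push_cast at h0 h1 h2
  have e1 : (1 : ℂ) ≠ 0 := one_ne_zero
  have e2 : (2 : ℂ) ≠ 0 := two_ne_zero
  refine ⟨?_, ?_, ?_, ?_⟩ <;> intro hdeg <;>
    rcases deg_val_cases ⟨χ, hχ⟩ with ⟨hd, hv⟩ | ⟨hd, hv⟩ | ⟨hd, hv⟩ | ⟨hd, hv⟩ <;>
    simp only at hd hv <;> rw [hdeg] at hd <;>
    first
      | exact hv
      | (exfalso; first
          | exact h0 (by linear_combination hd) | exact h0 (by linear_combination -hd)
          | exact h1 (by linear_combination hd) | exact h1 (by linear_combination -hd)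
          | exact h2 (by linear_combination hd) | exact h2 (by linear_combination -hd)
          | exact e1 (by linear_combination hd) | exact e1 (by linear_combination -hd)
          | exact e2 (by linear_combination hd) | exact e2 (by linear_combination -hd))

end Cfsg.Agent.S2310
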