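import Cfsg.Statements.S2315
import Cfsg.Agent.Lib.Helper14.UnipClasses
import Cfsg.Agent.Lib.Helper14.NilCount

set_option autoImplicit false
open Cfsg

namespace Cfsg.Agent.S2315

open Cfsg.Agent.Lib.Helper14

theorem card_unip_eq_card_nil {F : Type*} [Field F] (p : ℕ) [Fact p.Prime] [CharP F p] (n : ℕ) :
    Nat.card {g : Matrix.GeneralLinearGroup (Fin n) F // ∃ k : ℕ, orderOf g = p ^ k} =
      Nat.card {N : (Fin n → F) →ₗ[F] (Fin n → F) // IsNilpotent N} := by
  refine Nat.card_eq_of_bijective
    (fun g => (⟨nilOf g.1, (orderOf_pow_iff_isNilpotent p g.1).mp g.2⟩ :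
      {N : (Fin n → F) →ₗ[F] (Fin n → F) // IsNilpotent N})) ⟨?_, ?_⟩
  · intro g g' h
    have h1 : nilOf g.1 = nilOf g'.1 := congrArg Subtype.val h
    unfold nilOf at h1
    have h2 := Matrix.toLin'.injective h1
    apply Subtype.ext
    apply Units.ext
    exact sub_left_injective h2
  · rintro ⟨N, hN⟩
    have hM : IsNilpotent (LinearMap.toMatrix' N) := by
      obtain ⟨k, hk⟩ := hN
      refine ⟨k, ?_⟩
      have h2 : Matrix.toLin' ((LinearMap.toMatrix' N) ^ k) = 0 := by
        rw [Matrix.toLin'_pow, Matrix.toLin'_toMatrix', hk]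
      exact (LinearEquiv.map_eq_zero_iff _).mp h2
    have hg : nilOf (IsNilpotent.isUnit_one_add hM).unit = N := by
      unfold nilOf
      rw [IsUnit.unit_spec, add_sub_cancel_left, Matrix.toLin'_toMatrix']
    refine ⟨⟨(IsNilpotent.isUnit_one_add hM).unit, ?_⟩, ?_⟩
    · rw [orderOf_pow_iff_isNilpotent, hg]
      exact hN
    · apply Subtype.ext
      exact hg

/-- The general linear group GL_n(F) over a finite field F of characteristic p has exactly |F|^(n(n−1)) elements of p-power order (i.e. unipotent matrices). -/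
theorem result {F : Type*} [Field F] [Fintype F] (p : ℕ) [Fact p.Prime] [CharP F p] (n : ℕ) :
    Nat.card {g : Matrix.GeneralLinearGroup (Fin n) F // ∃ k : ℕ, orderOf g = p ^ k} = Fintype.card F ^ (n * (n - 1)) := by
  rw [card_unip_eq_card_nil]
  have h := card_nilpotent_mul (F := F) (V := Fin n → F)
  have h1 : Nat.card (Fin n → F) = Fintype.card F ^ n := by
    rw [Nat.card_eq_fintype_card, Fintype.card_fun, Fintype.card_fin]
  have h2 : Nat.card ((Fin n → F) →ₗ[F] (Fin n → F)) = Fintype.card F ^ (n * n) := by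
    rw [Module.natCard_eq_pow_finrank (K := F), Module.finrank_linearMap, Module.finrank_fin_fun,
      Nat.card_eq_fintype_card]
  rw [h1, h2] at h
  have h3 : n * n = n * (n - 1) + n := by
    cases n with
    | zero => rfl
    | succ m => simp [Nat.mul_succ]
  rw [h3, pow_add] at h
  exact Nat.eq_of_mul_eq_mul_right (pow_pos Fintype.card_pos n) h

end Cfsg.Agent.S2315
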