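import Cfsg.Statements.S2317
import Cfsg.Agent.Lib.Helper14.UnipClasses

set_option autoImplicit false
open Cfsg

namespace Cfsg.Agent.S2317

open Cfsg.Agent.Lib.Helper14

/-- Over a finite field of characteristic p, the conjugacy classes of GL_n consisting of elements of p-power order (the unipotent classes) are as many as the partitions of n. -/
theorem result {F : Type*} [Field F] [Fintype F] (p : ℕ) [Fact p.Prime] [CharP F p] (n : ℕ) :
    Nat.card {C : ConjClasses (Matrix.GeneralLinearGroup (Fin n) F) //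
      ∃ g : Matrix.GeneralLinearGroup (Fin n) F, (∃ k : ℕ, orderOf g = p ^ k) ∧ ConjClasses.mk g = C} =
      Fintype.card (Nat.Partition n) := by
  rw [← Nat.card_eq_fintype_card]
  symm
  refine Nat.card_eq_of_bijective
    (fun μ : Nat.Partition n =>
      (⟨ConjClasses.mk (stdUnip (F := F) μ), stdUnip μ,
        (orderOf_pow_iff_isNilpotent p _).mpr (isNilpotent_nilOf_stdUnip μ), rfl⟩ :
        {C : ConjClasses (Matrix.GeneralLinearGroup (Fin n) F) //
          ∃ g : Matrix.GeneralLinearGroup (Fin n) F,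
            (∃ k : ℕ, orderOf g = p ^ k) ∧ ConjClasses.mk g = C})) ⟨?_, ?_⟩
  · intro μ μ' h
    have h1 : ConjClasses.mk (stdUnip (F := F) μ) = ConjClasses.mk (stdUnip (F := F) μ') :=
      congrArg Subtype.val h
    rw [ConjClasses.mk_eq_mk_iff_isConj] at h1
    exact stdUnip_injective h1
  · rintro ⟨C, g, hg, rfl⟩
    obtain ⟨μ, hμ⟩ := exists_isConj_stdUnip g ((orderOf_pow_iff_isNilpotent p g).mp hg)
    refine ⟨μ, ?_⟩
    apply Subtype.ext
    exact ConjClasses.mk_eq_mk_iff_isConj.mpr hμ

end Cfsg.Agent.S2317
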