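import Cfsg.Statements.S2320
import Cfsg.Agent.S2298

set_option autoImplicit false
open Cfsg

namespace Cfsg.Agent.S2320

open Cfsg.Agent.Lib.Helper14 Cfsg.Agent.Lib.Helper2 Matrix Cfsg.Agent.S2298

section aux

variable {F : Type*} [Field F] [Fintype F] [DecidableEq F]

theorem norm_mulChar (α : MulChar F ℂ) (x : F) (hx : x ≠ 0) : ‖α x‖ = 1 := by
  have h1 : (Units.mk0 x hx) ^ Fintype.card Fˣ = 1 := pow_card_eq_one
  have h2 : α x ^ Fintype.card Fˣ = 1 := by
    rw [← map_pow]
    have : x ^ Fintype.card Fˣ = 1 := by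
      have h3 : ((Units.mk0 x hx ^ Fintype.card Fˣ : Fˣ) : F) = ((1 : Fˣ) : F) := by rw [h1]
      rw [Units.val_pow_eq_pow_val, Units.val_mk0, Units.val_one] at h3
      exact h3
    rw [this, map_one]
  exact norm_eq_one_of_pow_eq_one Fintype.card_ne_zero h2

end aux


/-- Over a finite field F with q elements, every irreducible complex character of GL₂ of degree q takes a value of absolute value 1 at every diagonal matrix with two different diagonal entries and at every element with no eigenvector in F². -/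
theorem result {F : Type*} [Field F] [Fintype F] (χ : Matrix.GeneralLinearGroup (Fin 2) F → ℂ) (hχ : Cfsg.IsIrrCharacter (Matrix.GeneralLinearGroup (Fin 2) F) χ) (hdeg : χ 1 = (Fintype.card F : ℂ)) (g : Matrix.GeneralLinearGroup (Fin 2) F) :
    ((g : Matrix (Fin 2) (Fin 2) F) 0 1 = 0 → (g : Matrix (Fin 2) (Fin 2) F) 1 0 = 0 → (g : Matrix (Fin 2) (Fin 2) F) 0 0 ≠ (g : Matrix (Fin 2) (Fin 2) F) 1 1 → ‖χ g‖ = 1) ∧
    ((∀ (c : F) (v : Fin 2 → F), v ≠ 0 → (g : Matrix (Fin 2) (Fin 2) F).mulVec v ≠ c • v) → ‖χ g‖ = 1) := by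
  classical
  have h0 := q_ne (F := F) 0 (by have := Fintype.card_pos (α := F); omega)
  have h1 := q_ne (F := F) 1 (by have := Fintype.one_lt_card (α := F); omega)
  push_cast at h0 h1
  obtain ⟨α, hα⟩ : ∃ α : MulChar F ℂ, χ = st α := by
    rcases irr_cases ⟨χ, hχ⟩ with ⟨hd, _⟩ | ⟨_, α, hα⟩ | ⟨hd, _⟩ | ⟨hd, _⟩
    · exfalso; simp only at hd; rw [hdeg] at hd; exact h1 hd
    · exact ⟨α, hα⟩
    · exfalso; simp only at hd; rw [hdeg] at hd
      exact one_ne_zero (by linear_combination -hd : (1 : ℂ) = 0)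
    · exfalso; simp only at hd; rw [hdeg] at hd
      exact one_ne_zero (by linear_combination hd : (1 : ℂ) = 0)
  have hdet := det_ne_zero_GL g
  constructor
  · intro h01 h10 hne
    rw [hα]
    unfold st ps detChar
    rw [Pi.sub_apply, indTheta_diag α α g h01 h10 hne, Matrix.det_fin_two, h01, zero_mul, sub_zero, map_mul]
    rw [Matrix.det_fin_two, h01, zero_mul, sub_zero] at hdet
    have e : α ((g : Matrix (Fin 2) (Fin 2) F) 0 0) * α ((g : Matrix (Fin 2) (Fin 2) F) 1 1) +
        α ((g : Matrix (Fin 2) (Fin 2) F) 1 1) * α ((g : Matrix (Fin 2) (Fin 2) F) 0 0) -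
        α ((g : Matrix (Fin 2) (Fin 2) F) 0 0) * α ((g : Matrix (Fin 2) (Fin 2) F) 1 1) =
        α ((g : Matrix (Fin 2) (Fin 2) F) 0 0) * α ((g : Matrix (Fin 2) (Fin 2) F) 1 1) := by ring
    rw [e, norm_mul, norm_mulChar α _ (left_ne_zero_of_mul hdet),
      norm_mulChar α _ (right_ne_zero_of_mul hdet), one_mul]
  · intro hell
    rw [hα]
    unfold st ps detChar
    rw [Pi.sub_apply, indTheta_elliptic α α g hell, zero_sub, norm_neg, norm_mulChar α _ hdet]

end Cfsg.Agent.S2320
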