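import Cfsg.Statements.S2322
import Cfsg.Agent.Lib.Helper14.SL2Edge3

set_option autoImplicit false
open Cfsg Cfsg.Agent.Lib.Helper14 Cfsg.Agent.Lib.Helper2 Matrix

namespace Cfsg.Agent.S2322

/-- Over a finite field F with q elements, q odd: every irreducible complex character of SL₂ of degree q − 1 or (q − 1)/2 vanishes at every diagonal matrix whose diagonal entry a has a² ≠ 1, and every irreducible complex character of degree q + 1 or (q + 1)/2 vanishes at every element with no eigenvector in F². -/
theorem result {F : Type*} [Field F] [Fintype F] (hodd : Odd (Fintype.card F)) (χ : Matrix.SpecialLinearGroup (Fin 2) F → ℂ) (hχ : Cfsg.IsIrrCharacter (Matrix.SpecialLinearGroup (Fin 2) F) χ) (g : Matrix.SpecialLinearGroup (Fin 2) F) :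
    ((χ 1 = (Fintype.card F : ℂ) - 1 ∨ χ 1 = (((Fintype.card F - 1) / 2 : ℕ) : ℂ)) →
      (g : Matrix (Fin 2) (Fin 2) F) 0 1 = 0 → (g : Matrix (Fin 2) (Fin 2) F) 1 0 = 0 → (g : Matrix (Fin 2) (Fin 2) F) 0 0 ^ 2 ≠ 1 → χ g = 0) ∧
    ((χ 1 = (Fintype.card F : ℂ) + 1 ∨ χ 1 = (((Fintype.card F + 1) / 2 : ℕ) : ℂ)) →
      (∀ (c : F) (v : Fin 2 → F), v ≠ 0 → (g : Matrix (Fin 2) (Fin 2) F).mulVec v ≠ c • v) → χ g = 0) := by
  classical
  have hq2 : 2 ≤ Fintype.card F := Fintype.one_lt_card
  obtain ⟨k, hk⟩ := hodd
  have hk1 : 1 ≤ k := by omega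
  have e1 : (Fintype.card F + 1) / 2 = k + 1 := by omega
  have e2 : (Fintype.card F - 1) / 2 = k := by omega
  have h2 : (2 : F) ≠ 0 := two_ne_zero_of_odd ⟨k, hk⟩
  rw [e1, e2]
  constructor
  · intro hdeg h01 h10 hne
    -- for `q = 3` the hypothesis on `g` is vacuous
    have hq3 : Fintype.card F ≠ 3 := by
      intro hq
      apply hne
      apply sq_eq_one_of_card_three hq
      intro h0
      have hdet := SL_det_eq g
      rw [h0, h01, zero_mul, zero_mul, sub_zero] at hdet
      exact zero_ne_one hdet
    rcases irrSL_cases hχ with h | h | ⟨δ, _, h⟩ | ⟨δ, θ', _, _, _, _, _, h, _⟩ | ⟨χ', hc, h⟩ |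
      ⟨χ', θ', hc, hθ', _, hsum, h, _⟩
    · exfalso
      rw [h] at hdeg
      rcases hdeg with hdeg | hdeg
      · have hdeg' : (1 : ℂ) = Fintype.card F - 1 := hdeg
        have : (2 : ℂ) = Fintype.card F := by linear_combination hdeg'
        have : 2 = Fintype.card F := by exact_mod_cast this
        omega
      · have hdeg' : (1 : ℂ) = (k : ℂ) := hdeg
        have : 1 = k := by exact_mod_cast hdeg'
        omega
    · exfalso
      rw [h, res_st_one] at hdeg
      rcases hdeg with hdeg | hdeg
      · have : (Fintype.card F : ℂ) + 1 = Fintype.card F := by linear_combination hdeg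
        have : Fintype.card F + 1 = Fintype.card F := by exact_mod_cast this
        omega
      · have : Fintype.card F = k := by exact_mod_cast hdeg
        omega
    · exfalso
      rw [h, res_ps_one] at hdeg
      rcases hdeg with hdeg | hdeg
      · have : (Fintype.card F : ℂ) + 2 = Fintype.card F := by linear_combination hdeg
        have : Fintype.card F + 2 = Fintype.card F := by exact_mod_cast this
        omega
      · have : Fintype.card F + 1 = k := by exact_mod_cast hdeg
        omega
    · exfalso
      rcases hdeg with hdeg | hdeg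
      · rw [hdeg] at h
        have : 2 * (Fintype.card F : ℂ) = Fintype.card F + 3 := by linear_combination h
        have : 2 * Fintype.card F = Fintype.card F + 3 := by exact_mod_cast this
        omega
      · rw [hdeg] at h
        have : 2 * k = Fintype.card F + 1 := by exact_mod_cast h
        omega
    · rw [← h]
      apply char_eq_zero_diag_SL (res_isCharacter (IsIrrCharacter.isCharacter χ'.2)) _ g h01 h10 hne
      rw [sum_unip_res]
      exact cusp_sum_uel (IsCharacter.isClassFunction (IsIrrCharacter.isCharacter χ'.2)) hc
    · apply char_eq_zero_diag_SL (IsIrrCharacter.isCharacter hχ) _ g h01 h10 hne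
      have h0 : ∑ c : F, res (χ' : GL (Fin 2) F → ℂ) (upperSL 1 c (one_mul 1)) = 0 := by
        rw [sum_unip_res]
        exact cusp_sum_uel (IsCharacter.isClassFunction (IsIrrCharacter.isCharacter χ'.2)) hc
      rw [hsum] at h0
      simp only [Pi.add_apply, Finset.sum_add_distrib] at h0
      obtain ⟨n, hn⟩ := sum_unip_nat (IsIrrCharacter.isCharacter hχ)
      obtain ⟨n', hn'⟩ := sum_unip_nat (IsIrrCharacter.isCharacter hθ')
      rw [hn, hn'] at h0
      have : Fintype.card F * n + Fintype.card F * n' = 0 := by exact_mod_cast h0
      have hn0 : n = 0 := by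
        rcases Nat.eq_zero_of_add_eq_zero this with ⟨h1, _⟩
        rcases Nat.mul_eq_zero.mp h1 with h3 | h3
        · omega
        · exact h3
      rw [hn, hn0]
      simp
  · intro hdeg hell
    rcases irrSL_cases hχ with h | h | ⟨δ, _, h⟩ | ⟨δ, θ', _, _, hθ', _, hsum, h, x, hx⟩ |
      ⟨χ', hc, h⟩ | ⟨χ', θ', hc, _, _, _, h, _⟩
    · exfalso
      rw [h] at hdeg
      rcases hdeg with hdeg | hdeg
      · have hdeg' : (1 : ℂ) = Fintype.card F + 1 := hdeg
        have : 1 = Fintype.card F + 1 := by exact_mod_cast hdeg'
        omega
      · have hdeg' : (1 : ℂ) = ((k + 1 : ℕ) : ℂ) := hdeg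
        have : 1 = k + 1 := by exact_mod_cast hdeg'
        omega
    · exfalso
      rw [h, res_st_one] at hdeg
      rcases hdeg with hdeg | hdeg
      · have : Fintype.card F = Fintype.card F + 1 := by exact_mod_cast hdeg
        omega
      · have : Fintype.card F = k + 1 := by exact_mod_cast hdeg
        omega
    · rw [h]
      exact res_ps_elliptic δ 1 g hell
    · -- the two halves take the same value at `g`
      have hcf' := IsCharacter.isClassFunction (IsIrrCharacter.isCharacter hθ')
      have h1 : χ g = θ' g := by
        have := congrFun hx g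
        simp only [Function.comp_apply] at this
        obtain ⟨y, hy⟩ := isConj_iff.mp
          (isConj_conjSL x g (elliptic_not_scalar g hell) (elliptic_trace_sq_ne_four h2 g hell))
        calc χ g = θ' (conjSL x g) := this.symm
          _ = θ' (y * conjSL x g * y⁻¹) := (hcf' _ _).symm
          _ = θ' g := by rw [hy]
      have h3 := congrFun hsum g
      rw [res_ps_elliptic δ 1 g hell, Pi.add_apply, ← h1] at h3
      have : 2 * χ g = 0 := by linear_combination -h3
      rcases mul_eq_zero.mp this with h4 | h4
      · norm_num at h4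
      · exact h4
    · -- only possible for `q = 3`
      have hd := res_cusp_one χ' hc
      rw [h] at hd
      have hq3 : Fintype.card F = 3 := by
        rcases hdeg with hdeg | hdeg
        · exfalso
          rw [hdeg] at hd
          have : (Fintype.card F : ℂ) + 2 = Fintype.card F := by linear_combination hd
          have : Fintype.card F + 2 = Fintype.card F := by exact_mod_cast this
          omega
        · rw [hdeg] at hd
          have : ((k + 1 : ℕ) : ℂ) + 1 = Fintype.card F := by linear_combination hd
          have : k + 1 + 1 = Fintype.card F := by exact_mod_cast this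
          omega
      apply irr_deg_two_elliptic hq3 hχ _ g hell
      rw [hd, hq3]
      norm_num
    · exfalso
      rcases hdeg with hdeg | hdeg
      · rw [hdeg] at h
        have : 2 * ((Fintype.card F : ℂ) + 1) + 1 = Fintype.card F := by linear_combination h
        have : 2 * (Fintype.card F + 1) + 1 = Fintype.card F := by exact_mod_cast this
        omega
      · rw [hdeg] at h
        have : 2 * ((k + 1 : ℕ) : ℂ) + 1 = Fintype.card F := by linear_combination h
        have : 2 * (k + 1) + 1 = Fintype.card F := by exact_mod_cast this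
        omega

end Cfsg.Agent.S2322
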