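import Cfsg.Statements.S2323
import Cfsg.Agent.Lib.Helper14.SL2Values

set_option autoImplicit false
open Cfsg Cfsg.Agent.Lib.Helper14 Cfsg.Agent.Lib.Helper2

namespace Cfsg.Agent.S2323

/-- Over a finite field F with q ≥ 4 elements, let u be the upper unitriangular matrix of SL₂ with off-diagonal entry 1. An irreducible complex character of SL₂ takes at u the value 1 if its degree is q + 1 and the value −1 if its degree is q − 1. -/
theorem result {F : Type*} [Field F] [Fintype F] (hq : 4 ≤ Fintype.card F) (χ : Matrix.SpecialLinearGroup (Fin 2) F → ℂ) (hχ : Cfsg.IsIrrCharacter (Matrix.SpecialLinearGroup (Fin 2) F) χ)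
    (u : Matrix.SpecialLinearGroup (Fin 2) F) (hu : (u : Matrix (Fin 2) (Fin 2) F) = !![1, 1; 0, 1]) :
    (χ 1 = (Fintype.card F : ℂ) + 1 → χ u = 1) ∧ (χ 1 = (Fintype.card F : ℂ) - 1 → χ u = -1) := by
  classical
  constructor
  · intro hdeg
    rcases irrSL_cases hχ with h | h | ⟨δ, _, h⟩ | ⟨δ, θ', _, _, _, _, _, h, _⟩ | ⟨χ', hc, h⟩ |
      ⟨χ', θ', hc, _, _, _, h, _⟩
    · exfalso
      rw [h] at hdeg
      have hdeg' : (1 : ℂ) = Fintype.card F + 1 := hdeg
      have : 1 = Fintype.card F + 1 := by exact_mod_cast hdeg'
      omega
    · exfalso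
      rw [h, res_st_one] at hdeg
      have : Fintype.card F = Fintype.card F + 1 := by exact_mod_cast hdeg
      omega
    · rw [h, res_ps_u _ _ u hu]
    · exfalso
      rw [hdeg] at h
      have : 2 * (Fintype.card F + 1) = Fintype.card F + 1 := by exact_mod_cast h
      omega
    · exfalso
      rw [← h, res_cusp_one χ' hc] at hdeg
      have : (Fintype.card F : ℂ) = Fintype.card F + 2 := by linear_combination hdeg
      have : Fintype.card F = Fintype.card F + 2 := by exact_mod_cast this
      omega
    · exfalso
      rw [hdeg] at h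
      have : 2 * ((Fintype.card F : ℂ) + 1) + 1 = Fintype.card F := by
        linear_combination h
      have : 2 * (Fintype.card F + 1) + 1 = Fintype.card F := by exact_mod_cast this
      omega
  · intro hdeg
    rcases irrSL_cases hχ with h | h | ⟨δ, _, h⟩ | ⟨δ, θ', _, _, _, _, _, h, _⟩ | ⟨χ', hc, h⟩ |
      ⟨χ', θ', hc, _, _, _, h, _⟩
    · exfalso
      rw [h] at hdeg
      have hdeg' : (1 : ℂ) = Fintype.card F - 1 := hdeg
      have : (2 : ℂ) = Fintype.card F := by linear_combination hdeg'
      have : 2 = Fintype.card F := by exact_mod_cast this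
      omega
    · exfalso
      rw [h, res_st_one] at hdeg
      have : (Fintype.card F : ℂ) + 1 = Fintype.card F := by linear_combination hdeg
      have : Fintype.card F + 1 = Fintype.card F := by exact_mod_cast this
      omega
    · exfalso
      rw [h, res_ps_one] at hdeg
      have : (Fintype.card F : ℂ) + 2 = Fintype.card F := by linear_combination hdeg
      have : Fintype.card F + 2 = Fintype.card F := by exact_mod_cast this
      omega
    · exfalso
      rw [hdeg] at h
      have : 2 * (Fintype.card F : ℂ) = Fintype.card F + 3 := by linear_combination h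
      have : 2 * Fintype.card F = Fintype.card F + 3 := by exact_mod_cast this
      omega
    · rw [← h, res_cusp_u χ' hc u hu]
    · exfalso
      rw [hdeg] at h
      have : (Fintype.card F : ℂ) = 1 := by linear_combination h
      have : Fintype.card F = 1 := by exact_mod_cast this
      omega

end Cfsg.Agent.S2323
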