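import Cfsg.Statements.S2324
import Cfsg.Agent.Lib.Helper14.SL2Pair
import Cfsg.Agent.Lib.Helper14.SL2Count
import Cfsg.Agent.S2299

set_option autoImplicit false
open Cfsg Cfsg.Agent.Lib.Helper14 Cfsg.Agent.Lib.Helper2 Matrix

namespace Cfsg.Agent.S2324

theorem two_of_three {α : Type*} (h : Nat.card α = 2) (a b c : α) : a = b ∨ a = c ∨ b = c := by
  classical
  by_contra hcon
  push Not at hcon
  obtain ⟨h1, h2, h3⟩ := hcon
  have : Finite α := Nat.finite_of_card_ne_zero (by omega)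
  have : Fintype α := Fintype.ofFinite α
  have h4 : ({a, b, c} : Finset α).card = 3 := by
    rw [Finset.card_insert_of_notMem, Finset.card_pair h3]
    rw [Finset.mem_insert, Finset.mem_singleton]
    push Not
    exact ⟨h1, h2⟩
  have h5 := Finset.card_le_univ ({a, b, c} : Finset α)
  rw [← Nat.card_eq_fintype_card, h, h4] at h5
  omega

/-- Over a finite field F with q elements, q odd and q ≥ 5, let u be the upper unitriangular matrix of SL₂ with off-diagonal entry 1 and let δ = (−1)^((q−1)/2). Every irreducible complex character χ of SL₂ of degree (q + 1)/2 satisfies (2χ(u) − 1)² = δq, and every irreducible complex character χ of degree (q − 1)/2 satisfies (2χ(u) + 1)² = δq; that is, χ(u) = (1 ± √(δq))/2 in the first case and χ(u) = (−1 ± √(δq))/2 in the second. Moreover two different irreducible characters of degree (q + 1)/2 take the two different values (their values at u add up to 1), and likewise for degree (q − 1)/2 (values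 adding up to −1). -/
theorem result {F : Type*} [Field F] [Fintype F] (hodd : Odd (Fintype.card F)) (hq : 5 ≤ Fintype.card F)
    (u : Matrix.SpecialLinearGroup (Fin 2) F) (hu : (u : Matrix (Fin 2) (Fin 2) F) = !![1, 1; 0, 1]) :
    (∀ χ : Matrix.SpecialLinearGroup (Fin 2) F → ℂ, Cfsg.IsIrrCharacter (Matrix.SpecialLinearGroup (Fin 2) F) χ → χ 1 = (((Fintype.card F + 1) / 2 : ℕ) : ℂ) → (2 * χ u - 1) ^ 2 = (-1 : ℂ) ^ ((Fintype.card F - 1) / 2) * (Fintype.card F : ℂ)) ∧
    (∀ χ : Matrix.SpecialLinearGroup (Fin 2) F → ℂ, Cfsg.IsIrrCharacter (Matrix.SpecialLinearGroup (Fin 2) F) χ → χ 1 = (((Fintype.card F - 1) / 2 : ℕ) : ℂ) → (2 * χ u + 1) ^ 2 = (-1 : ℂ) ^ ((Fintype.card F - 1) / 2) * (Fintype.card F : ℂ)) ∧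
    (∀ χ₁ χ₂ : Matrix.SpecialLinearGroup (Fin 2) F → ℂ, Cfsg.IsIrrCharacter (Matrix.SpecialLinearGroup (Fin 2) F) χ₁ → Cfsg.IsIrrCharacter (Matrix.SpecialLinearGroup (Fin 2) F) χ₂ → χ₁ ≠ χ₂ →
      χ₁ 1 = (((Fintype.card F + 1) / 2 : ℕ) : ℂ) → χ₂ 1 = (((Fintype.card F + 1) / 2 : ℕ) : ℂ) → χ₁ u + χ₂ u = 1) ∧
    (∀ χ₁ χ₂ : Matrix.SpecialLinearGroup (Fin 2) F → ℂ, Cfsg.IsIrrCharacter (Matrix.SpecialLinearGroup (Fin 2) F) χ₁ → Cfsg.IsIrrCharacter (Matrix.SpecialLinearGroup (Fin 2) F) χ₂ → χ₁ ≠ χ₂ →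
      χ₁ 1 = (((Fintype.card F - 1) / 2 : ℕ) : ℂ) → χ₂ 1 = (((Fintype.card F - 1) / 2 : ℕ) : ℂ) → χ₁ u + χ₂ u = -1) := by
  classical
  have hq2 : 2 ≤ Fintype.card F := Fintype.one_lt_card
  have hodd' := hodd
  obtain ⟨k, hk⟩ := hodd
  have hk2 : 2 ≤ k := by omega
  have e1 : (Fintype.card F + 1) / 2 = k + 1 := by omega
  have e2 : (Fintype.card F - 1) / 2 = k := by omega
  have hu' : u = upperSL 1 1 (one_mul 1) := Subtype.ext hu
  -- an irreducible character of degree `(q + 1) / 2` is half of a principal series character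
  have typeA : ∀ χ : SpecialLinearGroup (Fin 2) F → ℂ,
      Cfsg.IsIrrCharacter (SpecialLinearGroup (Fin 2) F) χ → χ 1 = ((k + 1 : ℕ) : ℂ) →
      ∃ (δ : MulChar F ℂ) (θ' : SpecialLinearGroup (Fin 2) F → ℂ), δ ^ 2 = 1 ∧ δ ≠ 1 ∧
        Cfsg.IsIrrCharacter (SpecialLinearGroup (Fin 2) F) θ' ∧ θ' ≠ χ ∧
        res (ps δ 1) = χ + θ' ∧ ∃ x : GL (Fin 2) F, θ' ∘ conjSL x = χ := by
    intro χ hχ hdeg
    rcases irrSL_cases hχ with h | h | ⟨δ, _, h⟩ | ⟨δ, θ', h1, h2, h3, h4, h5, _, h7⟩ |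
      ⟨χ', hc, h⟩ | ⟨χ', θ', hc, _, _, _, h, _⟩
    · exfalso
      rw [h] at hdeg
      have hdeg' : (1 : ℂ) = ((k + 1 : ℕ) : ℂ) := hdeg
      have : 1 = k + 1 := by exact_mod_cast hdeg'
      omega
    · exfalso
      rw [h, res_st_one] at hdeg
      have : Fintype.card F = k + 1 := by exact_mod_cast hdeg
      omega
    · exfalso
      rw [h, res_ps_one] at hdeg
      have : Fintype.card F + 1 = k + 1 := by exact_mod_cast hdeg
      omega
    · exact ⟨δ, θ', h1, h2, h3, h4, h5, h7⟩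
    · exfalso
      rw [← h, res_cusp_one χ' hc] at hdeg
      have : (Fintype.card F : ℂ) = ((k + 1 : ℕ) : ℂ) + 1 := by linear_combination hdeg
      have : Fintype.card F = k + 1 + 1 := by exact_mod_cast this
      omega
    · exfalso
      rw [hdeg] at h
      have : 2 * ((k + 1 : ℕ) : ℂ) + 1 = Fintype.card F := by linear_combination h
      have : 2 * (k + 1) + 1 = Fintype.card F := by exact_mod_cast this
      omega
  have typeB : ∀ χ : SpecialLinearGroup (Fin 2) F → ℂ,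
      Cfsg.IsIrrCharacter (SpecialLinearGroup (Fin 2) F) χ → χ 1 = ((k : ℕ) : ℂ) →
      ∃ (χ' : Cfsg.IrrCharacter (GL (Fin 2) F)) (θ' : SpecialLinearGroup (Fin 2) F → ℂ),
        IsCusp (χ' : GL (Fin 2) F → ℂ) ∧
        Cfsg.IsIrrCharacter (SpecialLinearGroup (Fin 2) F) θ' ∧ θ' ≠ χ ∧
        res (χ' : GL (Fin 2) F → ℂ) = χ + θ' ∧ ∃ x : GL (Fin 2) F, θ' ∘ conjSL x = χ := by
    intro χ hχ hdeg
    rcases irrSL_cases hχ with h | h | ⟨δ, _, h⟩ | ⟨δ, θ', _, _, _, _, _, h, _⟩ |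
      ⟨χ', hc, h⟩ | ⟨χ', θ', hc, h3, h4, h5, _, h7⟩
    · exfalso
      rw [h] at hdeg
      have hdeg' : (1 : ℂ) = ((k : ℕ) : ℂ) := hdeg
      have : 1 = k := by exact_mod_cast hdeg'
      omega
    · exfalso
      rw [h, res_st_one] at hdeg
      have : Fintype.card F = k := by exact_mod_cast hdeg
      omega
    · exfalso
      rw [h, res_ps_one] at hdeg
      have : Fintype.card F + 1 = k := by exact_mod_cast hdeg
      omega
    · exfalso
      rw [hdeg] at h
      have : 2 * k = Fintype.card F + 1 := by exact_mod_cast h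
      omega
    · exfalso
      rw [← h, res_cusp_one χ' hc] at hdeg
      have : (Fintype.card F : ℂ) = ((k : ℕ) : ℂ) + 1 := by linear_combination hdeg
      have : Fintype.card F = k + 1 := by exact_mod_cast this
      omega
    · exact ⟨χ', θ', hc, h3, h4, h5, h7⟩
  rw [e1, e2]
  refine ⟨?_, ?_, ?_, ?_⟩
  · intro χ hχ hdeg
    obtain ⟨δ, θ', _, _, hθ', hne, hsum, x, hx⟩ := typeA χ hχ hdeg
    have hsq := pair_sq hχ hθ' hne x hx hodd'
    have h1 : χ u + θ' u = 1 := by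
      have := congrFun hsum u
      rw [res_ps_u δ 1 u hu, Pi.add_apply] at this
      exact this.symm
    rw [← hu', e2] at hsq
    rw [← hsq]
    congr 1
    linear_combination h1
  · intro χ hχ hdeg
    obtain ⟨χ', θ', hc, hθ', hne, hsum, x, hx⟩ := typeB χ hχ hdeg
    have hsq := pair_sq hχ hθ' hne x hx hodd'
    have h1 : χ u + θ' u = -1 := by
      have := congrFun hsum u
      rw [res_cusp_u χ' hc u hu, Pi.add_apply] at this
      exact this.symm
    rw [← hu', e2] at hsq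
    rw [← hsq]
    congr 1
    linear_combination h1
  · intro χ₁ χ₂ h₁ h₂ hne12 hd1 hd2
    obtain ⟨δ, θ', hδ2, hδ1, hθ', hne, hsum, _⟩ := typeA χ₁ h₁ hd1
    obtain ⟨δ', θ'', hδ2', hδ1', hθ'', hne', hsum', _⟩ := typeA χ₂ h₂ hd2
    have hδ := quadratic_unique δ δ' hδ2 hδ1 hδ2' hδ1'
    subst hδ
    have h6 : Cfsg.classInner (χ₁ + θ') χ₂ ≠ 0 := by
      rw [← hsum, hsum', (classInner_add_irr_left h₂ hθ'' hne'.symm).1]
      exact one_ne_zero
    rcases eq_or_eq_of_classInner_add_ne_zero h₁ hθ' h₂ h6 with h7 | h7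
    · exact absurd h7.symm hne12
    · have := congrFun hsum u
      rw [res_ps_u δ' 1 u hu, Pi.add_apply, ← h7] at this
      exact this.symm
  · intro χ₁ χ₂ h₁ h₂ hne12 hd1 hd2
    obtain ⟨χ', θ', hc, hθ', hne, hsum, x, hx⟩ := typeB χ₁ h₁ hd1
    have hd3 : θ' 1 = ((k : ℕ) : ℂ) := by
      have := congrFun hx 1
      simp only [Function.comp_apply, map_one] at this
      rw [this, hd1]
    have hcount := (Cfsg.Agent.S2299.result hodd').2 hq
    have hc2 := hcount.2.2.2.2.2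
    rw [e2] at hc2
    rcases two_of_three hc2 ⟨⟨χ₁, h₁⟩, hd1⟩ ⟨⟨θ', hθ'⟩, hd3⟩ ⟨⟨χ₂, h₂⟩, hd2⟩ with h | h | h
    · exfalso
      apply hne
      have := congrArg (fun z => (z.1 : SpecialLinearGroup (Fin 2) F → ℂ)) h
      exact this.symm
    · exfalso
      apply hne12
      exact congrArg (fun z => (z.1 : SpecialLinearGroup (Fin 2) F → ℂ)) h
    · have h7 : θ' = χ₂ := congrArg (fun z => (z.1 : SpecialLinearGroup (Fin 2) F → ℂ)) h
      have := congrFun hsum u
      rw [res_cusp_u χ' hc u hu, Pi.add_apply, h7] at this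
      exact this.symm

end Cfsg.Agent.S2324
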