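import Cfsg.Statements.S2328
import Cfsg.Agent.Lib.Helper14.BNSt12
import Cfsg.Agent.Lib.Helper8.ChevSyl1
import Cfsg.Agent.Lib.Helper8.ChevOrdH2
import Cfsg.Agent.Lib.Helper7.NormalDefect
import Cfsg.Agent.Lib.Helper25.EvenDegree

set_option autoImplicit false
open Cfsg

namespace Cfsg.Agent.S2328

open Cfsg.Agent.Lib.Helper8.Chev in
/-- In a Chevalley group of type G₂, B₂, D₄, F₄, E₆, E₇ or E₈ over a finite field of characteristic p, the Steinberg character vanishes at every element whose order is divisible by p (every element that is not semisimple). -/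
theorem result {F : Type*} [Field F] [Fintype F] (p : ℕ) [Fact p.Prime] [CharP F p] (D : Cfsg.Lie.ChevalleyDatum) (hD : D ∈ [Cfsg.Lie.chevG2, Cfsg.Lie.chevB2, Cfsg.Lie.chevD4, Cfsg.Lie.chevF4, Cfsg.Lie.chevE6, Cfsg.Lie.chevE7, Cfsg.Lie.chevE8]) (g : ↥(D.group F)) (hg : p ∣ orderOf g) :
    D.steinbergCharacter F g = 0 := by
  classical
  have hp : p.Prime := Fact.out
  have hirr : Cfsg.IsIrrCharacter ↥(D.group F) (D.steinbergCharacter F) := by
    have := Cfsg.Agent.Lib.Helper14.BNSt.tNormal (Cfsg.Agent.Lib.Helper8.Chev.chevBN hD F)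
    rw [Cfsg.Agent.Lib.Helper14.BNSt.steinbergCharacter_eq hD]
    exact Cfsg.Agent.Lib.Helper14.BNSt.isIrr_stBN (Cfsg.Agent.Lib.Helper8.Chev.chevBN hD F)
  obtain ⟨M, hM⟩ := Cfsg.Agent.Lib.Helper25.exists_isPModular p hp
  have : Finite ↥(D.group F) := Finite.of_fintype _
  refine Cfsg.Agent.Lib.Helper7.irr_eq_zero_of_singular_of_not_dvd hM
    (⟨D.steinbergCharacter F, hirr⟩ : Cfsg.IrrCharacter ↥(D.group F)) ?_ g hg
  show ¬ p ∣ Nat.card ↥(D.group F) / Cfsg.charDegree (D.steinbergCharacter F)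
  have hdeg : Cfsg.charDegree (D.steinbergCharacter F) = Fintype.card F ^ (D.nroots / 2) := by
    unfold Cfsg.charDegree
    rw [Cfsg.Agent.Lib.Helper14.BNSt.steinberg_one hD]
    have : ((Fintype.card F : ℂ) ^ (D.nroots / 2)) = ((Fintype.card F ^ (D.nroots / 2) : ℕ) : ℂ) := by
      push_cast; rfl
    rw [this, Complex.natCast_re, Nat.floor_natCast]
  obtain ⟨n, hn⟩ := FiniteField.card F p
  have hpq : p ∣ Fintype.card F := by
    rw [hn.2]
    exact dvd_pow_self p n.pos.ne'
  have hqpos : 0 < Fintype.card F ^ (D.nroots / 2) := pow_pos Fintype.card_pos _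
  rw [hdeg, card_group_bruhat hD, mul_assoc, Nat.mul_div_cancel_left _ hqpos]
  intro hdvd
  rcases (Nat.Prime.dvd_mul hp).mp hdvd with h | h
  · -- p ∣ |H|
    have V1 := valid1_of_mem hD
    have J := validJ_of_mem hD
    have H := validH_of_mem hD
    have h1 : Nat.card ↥(D.diagonalSubgroup F) ∣ Nat.card (Fin D.rank → Fˣ) := by
      rw [diagonal_eq_range J V1 H]
      exact Subgroup.card_range_dvd _
    have h2 : Nat.card (Fin D.rank → Fˣ) = (Fintype.card F - 1) ^ D.rank := by
      rw [Nat.card_fun, Nat.card_fin, Nat.card_units, Nat.card_eq_fintype_card]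
    rw [h2] at h1
    have h3 : p ∣ Fintype.card F - 1 := hp.dvd_of_dvd_pow (h.trans h1)
    have h4 : p ∣ 1 := by
      have := (Nat.dvd_sub_iff_right Fintype.card_pos hpq).mp h3
      exact this
    exact hp.one_lt.ne' (Nat.dvd_one.mp h4)
  · have := poincare_sum_mod hD (Fintype.card F) p hpq
    rw [Nat.mod_eq_zero_of_dvd h, Nat.mod_eq_of_lt hp.one_lt] at this
    exact absurd this (by norm_num)

end Cfsg.Agent.S2328
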