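import Cfsg.Statements.S2329
import Cfsg.Agent.Lib.Helper14.GL2

set_option autoImplicit false
open Cfsg

namespace Cfsg.Agent.S2329

open Cfsg.Agent.Lib.Helper14

theorem data_of_order {F : Type*} [Field F] (p : ℕ) [Fact p.Prime] [CharP F p]
    (g : Matrix.GeneralLinearGroup (Fin 2) F) (hg : orderOf g = p) :
    ¬ IsScalar2 (g : Matrix (Fin 2) (Fin 2) F) ∧ (g : Matrix (Fin 2) (Fin 2) F).trace = 2 ∧
      (g : Matrix (Fin 2) (Fin 2) F).det = 1 := by
  have hpp : p.Prime := Fact.out
  have : CharP (Matrix (Fin 2) (Fin 2) F) p := Matrix.charP p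
  apply unipotent_data
  · refine ⟨p, ?_⟩
    have := sub_pow_char_of_commute (R := Matrix (Fin 2) (Fin 2) F) p (Commute.one_right (g : Matrix (Fin 2) (Fin 2) F))
    rw [this, one_pow, ← Units.val_pow_eq_pow_val, ← hg, pow_orderOf_eq_one, Units.val_one, sub_self]
  · rintro rfl
    rw [orderOf_one] at hg
    exact hpp.one_lt.ne hg

/-- Over a finite field of characteristic p, any two elements of order p of GL₂ are conjugate: there is a single conjugacy class of non-identity unipotent elements. -/
theorem result {F : Type*} [Field F] [Fintype F] (p : ℕ) [Fact p.Prime] [CharP F p] (g h : Matrix.GeneralLinearGroup (Fin 2) F)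
    (hg : orderOf g = p) (hh : orderOf h = p) : IsConj g h := by
  obtain ⟨g1, g2, g3⟩ := data_of_order p g hg
  obtain ⟨h1, h2, h3⟩ := data_of_order p h hh
  exact isConj_of_trace_det g h g1 h1 (g2.trans h2.symm) (g3.trans h3.symm)

end Cfsg.Agent.S2329
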