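import Cfsg.Statements.S2336
import Cfsg.Agent.Lib.Helper14.SLnTrans
import Cfsg.Agent.Lib.Helper14.MulCharSum
import Cfsg.Agent.Lib.Helper2.PermChar
import Cfsg.Agent.Lib.Helper2.Linear
import Cfsg.Agent.Lib.Helper2.Induction
import Cfsg.Agent.Lib.Helper2.Orthogonality

set_option autoImplicit false
open Cfsg

namespace Cfsg.Agent.S2336

open Matrix Cfsg.Agent.Lib.Helper14 Cfsg.Agent.Lib.Helper2
open scoped ComplexConjugate

section actions

variable {F : Type*} [Field F] {n : ℕ}

/-- Nonzero vectors. -/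
abbrev NZ (n : ℕ) (F : Type*) [Field F] := {v : Fin n → F // v ≠ 0}

theorem mulVec_ne_zero (g : SpecialLinearGroup (Fin n) F) {v : Fin n → F} (hv : v ≠ 0) :
    g.1 *ᵥ v ≠ 0 := by
  intro h
  apply hv
  have h1 : (g⁻¹).1 * g.1 = 1 := by
    have : g⁻¹ * g = 1 := inv_mul_cancel g
    exact congrArg Subtype.val this
  have : (g⁻¹).1 *ᵥ (g.1 *ᵥ v) = v := by
    rw [Matrix.mulVec_mulVec, h1, Matrix.one_mulVec]
  rw [← this, h, Matrix.mulVec_zero]

instance instActNZ : MulAction (SpecialLinearGroup (Fin n) F) (NZ n F) where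
  smul g v := ⟨g.1 *ᵥ v.1, mulVec_ne_zero g v.2⟩
  one_smul v := Subtype.ext (by
    show (1 : SpecialLinearGroup (Fin n) F).1 *ᵥ v.1 = v.1
    rw [show (1 : SpecialLinearGroup (Fin n) F).1 = 1 from rfl, Matrix.one_mulVec])
  mul_smul g h v := Subtype.ext (by
    show (g * h).1 *ᵥ v.1 = g.1 *ᵥ (h.1 *ᵥ v.1)
    rw [show (g * h).1 = g.1 * h.1 from rfl, Matrix.mulVec_mulVec])

theorem smul_NZ_val (g : SpecialLinearGroup (Fin n) F) (v : NZ n F) : (g • v).1 = g.1 *ᵥ v.1 := rfl

instance instScalNZ : MulAction Fˣ (NZ n F) where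
  smul c v := ⟨(c : F) • v.1, smul_ne_zero c.ne_zero v.2⟩
  one_smul v := Subtype.ext (by show ((1 : Fˣ) : F) • v.1 = v.1; rw [Units.val_one, one_smul])
  mul_smul c d v := Subtype.ext (by
    show ((c * d : Fˣ) : F) • v.1 = (c : F) • ((d : F) • v.1)
    rw [Units.val_mul, mul_smul])

theorem units_smul_NZ_val (c : Fˣ) (v : NZ n F) : (c • v).1 = (c : F) • v.1 := rfl

theorem smul_comm_NZ (g : SpecialLinearGroup (Fin n) F) (c : Fˣ) (v : NZ n F) :
    g • (c • v) = c • (g • v) :=
  Subtype.ext (by
    rw [smul_NZ_val, units_smul_NZ_val, units_smul_NZ_val, smul_NZ_val, Matrix.mulVec_smul])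

theorem units_smul_injective (v : NZ n F) : Function.Injective (fun c : Fˣ => c • v) := by
  intro c d h
  have h1 : (c : F) • v.1 = (d : F) • v.1 := congrArg Subtype.val h
  have h2 : ((c : F) - (d : F)) • v.1 = 0 := by rw [sub_smul, h1, sub_self]
  rcases smul_eq_zero.mp h2 with h3 | h3
  · exact Units.ext (sub_eq_zero.mp h3)
  · exact absurd h3 v.2

/-- Linearly independent pairs. -/
abbrev IP (n : ℕ) (F : Type*) [Field F] :=
  {p : (Fin n → F) × (Fin n → F) // LinearIndependent F ![p.1, p.2]}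

theorem linearIndependent_mulVec (g : SpecialLinearGroup (Fin n) F) {v v' : Fin n → F}
    (h : LinearIndependent F ![v, v']) : LinearIndependent F ![g.1 *ᵥ v, g.1 *ᵥ v'] := by
  have hker : LinearMap.ker (Matrix.mulVecLin g.1) = ⊥ := by
    rw [LinearMap.ker_eq_bot']
    intro m hm
    by_contra hne
    exact mulVec_ne_zero g hne hm
  have := h.map' (Matrix.mulVecLin g.1) hker
  have e : (Matrix.mulVecLin g.1) ∘ ![v, v'] = ![g.1 *ᵥ v, g.1 *ᵥ v'] := by
    funext i
    fin_cases i <;> simp
  rwa [e] at this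

instance instActIP : MulAction (SpecialLinearGroup (Fin n) F) (IP n F) where
  smul g p := ⟨(g.1 *ᵥ p.1.1, g.1 *ᵥ p.1.2), linearIndependent_mulVec g p.2⟩
  one_smul p := Subtype.ext (by
    show ((1 : SpecialLinearGroup (Fin n) F).1 *ᵥ p.1.1, (1 : SpecialLinearGroup (Fin n) F).1 *ᵥ p.1.2) = p.1
    rw [show (1 : SpecialLinearGroup (Fin n) F).1 = 1 from rfl, Matrix.one_mulVec, Matrix.one_mulVec])
  mul_smul g h p := Subtype.ext (by
    show ((g * h).1 *ᵥ p.1.1, (g * h).1 *ᵥ p.1.2) = (g.1 *ᵥ (h.1 *ᵥ p.1.1), g.1 *ᵥ (h.1 *ᵥ p.1.2))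
    rw [show (g * h).1 = g.1 * h.1 from rfl, Matrix.mulVec_mulVec, Matrix.mulVec_mulVec])

theorem smul_IP_val (g : SpecialLinearGroup (Fin n) F) (p : IP n F) :
    (g • p).1 = (g.1 *ᵥ p.1.1, g.1 *ᵥ p.1.2) := rfl

theorem isPretransitive_NZ (hn : 3 ≤ n) :
    MulAction.IsPretransitive (SpecialLinearGroup (Fin n) F) (NZ n F) :=
  ⟨fun v u => by
    obtain ⟨g, hg⟩ := exists_SL_mulVec hn v.2 u.2
    exact ⟨g, Subtype.ext hg⟩⟩

theorem isPretransitive_IP (hn : 3 ≤ n) :
    MulAction.IsPretransitive (SpecialLinearGroup (Fin n) F) (IP n F) :=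
  ⟨fun p p' => by
    obtain ⟨g, hg1, hg2⟩ := exists_SL_mulVec_pair hn p.2 p'.2
    exact ⟨g, Subtype.ext (by rw [smul_IP_val, hg1, hg2])⟩⟩

end actions

section counting

variable {G X : Type*} [Group G] [Fintype G] [MulAction G X] [Fintype X] [DecidableEq X]
  [MulAction.IsPretransitive G X]

/-- In a transitive action, the number of elements carrying `x` to `y` is `|G| / |X|`. -/
theorem card_transporter_mul (x y : X) :
    ((Finset.univ.filter (fun g : G => g • x = y)).card : ℂ) * (Fintype.card X : ℂ) =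
      (Fintype.card G : ℂ) := by
  have h1 := sum_smul_eq_card_stabilizer_mul_sum (G := G) x (fun _ => (1 : ℂ))
  have h2 := sum_smul_eq_card_stabilizer_mul_sum (G := G) x (fun z => if z = y then (1 : ℂ) else 0)
  simp only [Finset.sum_const, Finset.card_univ, nsmul_eq_mul, mul_one] at h1
  rw [Finset.sum_ite_eq' Finset.univ y, if_pos (Finset.mem_univ _), mul_one] at h2
  rw [Finset.natCast_card_filter, h2, h1]

end counting

section pairs

variable {F : Type*} [Field F] {n : ℕ}

/-- Embedding of independent pairs into pairs of nonzero vectors. -/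
def iotaI (p : IP n F) : NZ n F × NZ n F :=
  (⟨p.1.1, by simpa using p.2.ne_zero 0⟩, ⟨p.1.2, by simpa using p.2.ne_zero 1⟩)

/-- Embedding of dependent pairs. -/
def iotaD (x : NZ n F × Fˣ) : NZ n F × NZ n F := (x.1, x.2 • x.1)

theorem iotaI_injective : Function.Injective (iotaI (n := n) (F := F)) := by
  intro p p' h
  apply Subtype.ext
  have h1 := congrArg (fun y : NZ n F × NZ n F => y.1.1) h
  have h2 := congrArg (fun y : NZ n F × NZ n F => y.2.1) h
  exact Prod.ext h1 h2

theorem iotaD_injective : Function.Injective (iotaD (n := n) (F := F)) := by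
  intro x x' h
  have h1' : (iotaD x).1 = (iotaD x').1 := congrArg Prod.fst h
  have h2' : (iotaD x).2 = (iotaD x').2 := congrArg Prod.snd h
  have h1 : x.1 = x'.1 := h1'
  have h2 : x.2 • x.1 = x'.2 • x'.1 := h2'
  rw [← h1] at h2
  exact Prod.ext h1 (units_smul_injective x.1 h2)

theorem iotaI_ne_iotaD (p : IP n F) (x : NZ n F × Fˣ) : iotaI p ≠ iotaD x := by
  intro h
  have h1 : p.1.1 = x.1.1 := congrArg (fun y : NZ n F × NZ n F => y.1.1) h
  have h2 : p.1.2 = (x.2 : F) • x.1.1 := congrArg (fun y : NZ n F × NZ n F => y.2.1) h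
  have hp := p.2
  rw [LinearIndependent.pair_iff' (by rw [h1]; exact x.1.2)] at hp
  exact hp (x.2 : F) (by rw [h1, h2])

theorem iota_surjective (y : NZ n F × NZ n F) :
    (∃ p : IP n F, iotaI p = y) ∨ (∃ x : NZ n F × Fˣ, iotaD x = y) := by
  by_cases h : LinearIndependent F ![y.1.1, y.2.1]
  · left
    exact ⟨⟨(y.1.1, y.2.1), h⟩, rfl⟩
  · right
    rw [LinearIndependent.pair_iff' y.1.2] at h
    push Not at h
    obtain ⟨a, ha⟩ := h
    have ha0 : a ≠ 0 := by
      rintro rfl
      rw [zero_smul] at ha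
      exact y.2.2 ha.symm
    refine ⟨(y.1, Units.mk0 a ha0), ?_⟩
    exact Prod.ext rfl (Subtype.ext ha)

end pairs

section sums

variable {F : Type*} [Field F] [Fintype F] [DecidableEq F] {n : ℕ}

noncomputable instance instFintypeIP : Fintype (IP n F) := Fintype.ofFinite _

/-- The number of nonzero vectors `v` with `g v = c v`. -/
noncomputable def Fc (c : Fˣ) (g : SpecialLinearGroup (Fin n) F) : ℂ :=
  ((Finset.univ.filter (fun v : NZ n F => g • v = c • v)).card : ℂ)

theorem card_NZ_ne_zero (hn : 3 ≤ n) : (Fintype.card (NZ n F) : ℂ) ≠ 0 := by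
  have : Nonempty (NZ n F) := by
    refine ⟨⟨Pi.single ⟨0, by omega⟩ 1, ?_⟩⟩
    intro h
    have := congrFun h ⟨0, by omega⟩
    simp at this
  exact Nat.cast_ne_zero.mpr Fintype.card_ne_zero

theorem sum_Fc (hn : 3 ≤ n) (c : Fˣ) :
    ∑ g : SpecialLinearGroup (Fin n) F, Fc c g =
      (Fintype.card (SpecialLinearGroup (Fin n) F) : ℂ) := by
  classical
  have := isPretransitive_NZ (F := F) hn
  unfold Fc
  simp_rw [Finset.natCast_card_filter]
  rw [Finset.sum_comm]
  have h1 : ∀ v : NZ n F, (∑ g : SpecialLinearGroup (Fin n) F, if g • v = c • v then (1 : ℂ) else 0) =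
      (Fintype.card (SpecialLinearGroup (Fin n) F) : ℂ) / (Fintype.card (NZ n F) : ℂ) := by
    intro v
    rw [eq_div_iff (card_NZ_ne_zero hn), ← card_transporter_mul (G := SpecialLinearGroup (Fin n) F) v (c • v),
      Finset.natCast_card_filter]
  rw [Finset.sum_congr rfl (fun v _ => h1 v), Finset.sum_const, Finset.card_univ, nsmul_eq_mul,
    mul_div_cancel₀ _ (card_NZ_ne_zero hn)]

/-- Decomposition of a sum over pairs of nonzero vectors. -/
theorem sum_pairs (N : NZ n F × NZ n F → ℂ) :
    ∑ y : NZ n F × NZ n F, N y = ∑ p : IP n F, N (iotaI p) + ∑ x : NZ n F × Fˣ, N (iotaD x) := by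
  classical
  have hbij : Function.Bijective (Sum.elim (iotaI (n := n) (F := F)) iotaD) := by
    constructor
    · exact Function.Injective.sumElim iotaI_injective iotaD_injective iotaI_ne_iotaD
    · intro y
      rcases iota_surjective y with ⟨p, hp⟩ | ⟨x, hx⟩
      · exact ⟨Sum.inl p, hp⟩
      · exact ⟨Sum.inr x, hx⟩
  rw [← Fintype.sum_equiv (Equiv.ofBijective _ hbij) (fun z => N (Sum.elim iotaI iotaD z)) N
    (fun z => rfl), Fintype.sum_sum_type]
  rfl

theorem sum_Fc_mul (hn : 3 ≤ n) (c c' : Fˣ) :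
    ∑ g : SpecialLinearGroup (Fin n) F, Fc c g * Fc c' g =
      (Fintype.card (SpecialLinearGroup (Fin n) F) : ℂ) *
        (1 + if c = c' then ((Fintype.card F - 1 : ℕ) : ℂ) else 0) := by
  classical
  have := isPretransitive_NZ (F := F) hn
  have := isPretransitive_IP (F := F) hn
  have hG0 : (Fintype.card (SpecialLinearGroup (Fin n) F) : ℂ) ≠ 0 :=
    Nat.cast_ne_zero.mpr Fintype.card_ne_zero
  let N : NZ n F × NZ n F → ℂ := fun y =>
    ((Finset.univ.filter (fun g : SpecialLinearGroup (Fin n) F =>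
      g • y.1 = c • y.1 ∧ g • y.2 = c' • y.2)).card : ℂ)
  have key : ∀ g : SpecialLinearGroup (Fin n) F, Fc c g * Fc c' g =
      ∑ y : NZ n F × NZ n F, if (g • y.1 = c • y.1 ∧ g • y.2 = c' • y.2) then (1 : ℂ) else 0 := by
    intro g
    unfold Fc
    rw [Finset.natCast_card_filter, Finset.natCast_card_filter, Finset.sum_mul_sum,
      Fintype.sum_prod_type]
    refine Finset.sum_congr rfl fun v _ => Finset.sum_congr rfl fun v' _ => ?_
    by_cases h1 : g • v = c • v <;> by_cases h2 : g • v' = c' • v' <;> simp [h1, h2]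
  have h0 : ∑ g : SpecialLinearGroup (Fin n) F, Fc c g * Fc c' g = ∑ y, N y := by
    rw [Finset.sum_congr rfl (fun g _ => key g), Finset.sum_comm]
    refine Finset.sum_congr rfl fun y _ => ?_
    show _ = ((Finset.univ.filter (fun g : SpecialLinearGroup (Fin n) F =>
      g • y.1 = c • y.1 ∧ g • y.2 = c' • y.2)).card : ℂ)
    rw [Finset.natCast_card_filter]
  rw [h0, sum_pairs N]
  -- independent pairs
  have hI : ∀ p : IP n F, N (iotaI p) =
      (Fintype.card (SpecialLinearGroup (Fin n) F) : ℂ) / (Fintype.card (IP n F) : ℂ) := by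
    intro p
    have hind : LinearIndependent F ![(c : F) • p.1.1, (c' : F) • p.1.2] := by
      have := p.2.units_smul ![c, c']
      have e : (![c, c'] • ![p.1.1, p.1.2] : Fin 2 → (Fin n → F)) =
          ![(c : F) • p.1.1, (c' : F) • p.1.2] := by
        funext i
        fin_cases i <;> simp [Units.smul_def]
      rwa [e] at this
    let p' : IP n F := ⟨((c : F) • p.1.1, (c' : F) • p.1.2), hind⟩
    have hset : (Finset.univ.filter (fun g : SpecialLinearGroup (Fin n) F =>
        g • (iotaI p).1 = c • (iotaI p).1 ∧ g • (iotaI p).2 = c' • (iotaI p).2)) =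
        Finset.univ.filter (fun g : SpecialLinearGroup (Fin n) F => g • p = p') := by
      refine Finset.filter_congr fun g _ => ?_
      constructor
      · rintro ⟨h1, h2⟩
        apply Subtype.ext
        have h1' : g.1 *ᵥ p.1.1 = (c : F) • p.1.1 := congrArg Subtype.val h1
        have h2' : g.1 *ᵥ p.1.2 = (c' : F) • p.1.2 := congrArg Subtype.val h2
        rw [smul_IP_val, h1', h2']
      · intro h
        have h' : (g.1 *ᵥ p.1.1, g.1 *ᵥ p.1.2) = ((c : F) • p.1.1, (c' : F) • p.1.2) :=
          congrArg Subtype.val h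
        exact ⟨Subtype.ext (congrArg Prod.fst h'), Subtype.ext (congrArg Prod.snd h')⟩
    have hc := card_transporter_mul (G := SpecialLinearGroup (Fin n) F) p p'
    have hIP0 : (Fintype.card (IP n F) : ℂ) ≠ 0 := by
      intro h
      rw [h, mul_zero] at hc
      exact hG0 hc.symm
    show ((Finset.univ.filter _).card : ℂ) = _
    rw [hset, eq_div_iff hIP0, hc]
  have hD : ∀ x : NZ n F × Fˣ, N (iotaD x) =
      if c = c' then (Fintype.card (SpecialLinearGroup (Fin n) F) : ℂ) / (Fintype.card (NZ n F) : ℂ)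
      else 0 := by
    intro x
    show ((Finset.univ.filter (fun g : SpecialLinearGroup (Fin n) F =>
        g • x.1 = c • x.1 ∧ g • (x.2 • x.1) = c' • (x.2 • x.1))).card : ℂ) = _
    by_cases hcc : c = c'
    · rw [if_pos hcc]
      have hset : (Finset.univ.filter (fun g : SpecialLinearGroup (Fin n) F =>
          g • x.1 = c • x.1 ∧ g • (x.2 • x.1) = c' • (x.2 • x.1))) =
          Finset.univ.filter (fun g : SpecialLinearGroup (Fin n) F => g • x.1 = c • x.1) := by
        refine Finset.filter_congr fun g _ => ?_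
        constructor
        · exact fun h => h.1
        · intro h
          refine ⟨h, ?_⟩
          rw [smul_comm_NZ, h, ← hcc, ← mul_smul, ← mul_smul, mul_comm]
      rw [hset, eq_div_iff (card_NZ_ne_zero hn), card_transporter_mul]
    · rw [if_neg hcc]
      have hset : (Finset.univ.filter (fun g : SpecialLinearGroup (Fin n) F =>
          g • x.1 = c • x.1 ∧ g • (x.2 • x.1) = c' • (x.2 • x.1))) = ∅ := by
        rw [Finset.filter_eq_empty_iff]
        rintro g - ⟨h1, h2⟩
        rw [smul_comm_NZ, h1, ← mul_smul, ← mul_smul] at h2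
        have := units_smul_injective x.1 h2
        apply hcc
        rw [mul_comm] at this
        exact mul_right_cancel this
      rw [hset, Finset.card_empty, Nat.cast_zero]
  rw [Finset.sum_congr rfl (fun p _ => hI p), Finset.sum_congr rfl (fun x _ => hD x),
    Finset.sum_const, Finset.sum_const, Finset.card_univ, Finset.card_univ, nsmul_eq_mul,
    nsmul_eq_mul]
  have hIP0 : (Fintype.card (IP n F) : ℂ) ≠ 0 := by
    have : Nonempty (IP n F) := by
      have hne : Nonempty (NZ n F) := by
        by_contra h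
        rw [not_nonempty_iff] at h
        exact card_NZ_ne_zero (F := F) hn (by rw [Fintype.card_eq_zero]; simp)
      obtain ⟨v⟩ := hne
      have h1 : 1 < Module.finrank F (Fin n → F) := by simp; omega
      obtain ⟨v', hv'⟩ := exists_linearIndependent_pair_of_one_lt_finrank h1 v.2
      exact ⟨⟨(v.1, v'), hv'⟩⟩
    exact Nat.cast_ne_zero.mpr Fintype.card_ne_zero
  rw [mul_div_cancel₀ _ hIP0, Fintype.card_prod, Fintype.card_units]
  split_ifs
  · rw [Nat.cast_mul]
    have h0 := card_NZ_ne_zero (F := F) hn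
    field_simp
  · ring

end sums

section induced

variable {F : Type*} [Field F] {n : ℕ} (v₀ : NZ n F)

/-- Stabilizer of the line through `v₀`. -/
def lineStab : Subgroup (SpecialLinearGroup (Fin n) F) where
  carrier := {g | ∃ c : Fˣ, g • v₀ = c • v₀}
  one_mem' := ⟨1, by rw [one_smul, one_smul]⟩
  mul_mem' := by
    rintro g h ⟨c, hc⟩ ⟨d, hd⟩
    exact ⟨d * c, by rw [mul_smul, hd, smul_comm_NZ, hc, ← mul_smul]⟩
  inv_mem' := by
    rintro g ⟨c, hc⟩
    refine ⟨c⁻¹, ?_⟩
    have h1 : g⁻¹ • (c • v₀) = v₀ := by rw [← hc, inv_smul_smul]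
    rw [smul_comm_NZ] at h1
    rw [← h1, inv_smul_smul]
    exact h1.symm ▸ rfl

theorem mem_lineStab (g : SpecialLinearGroup (Fin n) F) :
    g ∈ lineStab v₀ ↔ ∃ c : Fˣ, g • v₀ = c • v₀ := Iff.rfl

/-- The scalar by which an element of the line stabilizer acts on `v₀`. -/
noncomputable def lineScalar (p : lineStab v₀) : Fˣ := Classical.choose p.2

theorem lineScalar_spec (p : lineStab v₀) : p.1 • v₀ = lineScalar v₀ p • v₀ :=
  Classical.choose_spec p.2

theorem lineScalar_unique (p : lineStab v₀) (c : Fˣ) (h : p.1 • v₀ = c • v₀) :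
    c = lineScalar v₀ p :=
  units_smul_injective v₀ (h.symm.trans (lineScalar_spec v₀ p))

/-- The scalar as a homomorphism. -/
noncomputable def lineHom : lineStab v₀ →* Fˣ where
  toFun := lineScalar v₀
  map_one' := (lineScalar_unique v₀ 1 1 (by rw [one_smul]; exact one_smul _ v₀)).symm
  map_mul' p q := by
    symm
    apply lineScalar_unique
    show (p.1 * q.1) • v₀ = _
    rw [mul_smul, lineScalar_spec v₀ q, smul_comm_NZ, lineScalar_spec v₀ p, ← mul_smul, mul_comm]

theorem conj_smul_iff (g x : SpecialLinearGroup (Fin n) F) (c : Fˣ) :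
    (x⁻¹ * g * x) • v₀ = c • v₀ ↔ g • (x • v₀) = c • (x • v₀) := by
  rw [mul_smul, mul_smul]
  constructor
  · intro h
    have := congrArg (fun v => x • v) h
    simp only [smul_inv_smul] at this
    rw [this, smul_comm_NZ]
  · intro h
    rw [h, smul_comm_NZ, inv_smul_smul]

end induced

section induced2

variable {F : Type*} [Field F] [Fintype F] [DecidableEq F] {n : ℕ} (v₀ : NZ n F)

/-- The linear character of the line stabilizer attached to a multiplicative character. -/
noncomputable def thetaHom (α : MulChar F ℂ) : lineStab v₀ →* ℂˣ :=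
  (MulChar.toUnitHom α).comp (lineHom v₀)

/-- The function `g ↦ α(c)` if `g v₀ = c v₀`, zero off the line stabilizer. -/
noncomputable def bigTheta (α : MulChar F ℂ) (g : SpecialLinearGroup (Fin n) F) : ℂ :=
  ∑ c : Fˣ, if g • v₀ = c • v₀ then α (c : F) else 0

theorem extendByZero_theta (α : MulChar F ℂ) (g : SpecialLinearGroup (Fin n) F) :
    Cfsg.extendByZero (lineStab v₀) (fun p => ((thetaHom v₀ α p : ℂˣ) : ℂ)) g = bigTheta v₀ α g := by
  classical
  by_cases hg : g ∈ lineStab v₀
  · rw [extendByZero_of_mem _ _ hg]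
    unfold bigTheta
    rw [Finset.sum_eq_single (lineScalar v₀ ⟨g, hg⟩)]
    · rw [if_pos (lineScalar_spec v₀ ⟨g, hg⟩)]
      rfl
    · intro c _ hc
      rw [if_neg]
      intro h
      exact hc (lineScalar_unique v₀ ⟨g, hg⟩ c h)
    · intro h; exact absurd (Finset.mem_univ _) h
  · rw [extendByZero_of_not_mem _ _ hg]
    unfold bigTheta
    symm
    apply Finset.sum_eq_zero
    intro c _
    rw [if_neg]
    intro h
    exact hg ⟨c, h⟩

/-- The induced character in terms of the counting functions `Fc`. -/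
theorem indFun_theta (hn : 3 ≤ n) (α : MulChar F ℂ) (g : SpecialLinearGroup (Fin n) F) :
    Cfsg.indFun (lineStab v₀) (fun p => ((thetaHom v₀ α p : ℂˣ) : ℂ)) g =
      ((Fintype.card F - 1 : ℕ) : ℂ)⁻¹ * ∑ c : Fˣ, α (c : F) * Fc c g := by
  classical
  have := isPretransitive_NZ (F := F) hn
  rw [indFun_apply]
  simp_rw [extendByZero_theta]
  -- the sum over `x`
  have h1 : ∑ x : SpecialLinearGroup (Fin n) F, bigTheta v₀ α (x⁻¹ * g * x) =
      (Nat.card (MulAction.stabilizer (SpecialLinearGroup (Fin n) F) v₀) : ℂ) *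
        ∑ c : Fˣ, α (c : F) * Fc c g := by
    have e : ∀ x : SpecialLinearGroup (Fin n) F, bigTheta v₀ α (x⁻¹ * g * x) =
        (fun v : NZ n F => ∑ c : Fˣ, if g • v = c • v then α (c : F) else 0) (x • v₀) := by
      intro x
      unfold bigTheta
      refine Finset.sum_congr rfl fun c _ => ?_
      simp only [conj_smul_iff]
    rw [Finset.sum_congr rfl (fun x _ => e x)]
    refine (sum_smul_eq_card_stabilizer_mul_sum (G := SpecialLinearGroup (Fin n) F) v₀
      (fun v : NZ n F => ∑ c : Fˣ, if g • v = c • v then α (c : F) else 0)).trans ?_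
    congr 1
    rw [Finset.sum_comm]
    refine Finset.sum_congr rfl fun c _ => ?_
    unfold Fc
    rw [Finset.natCast_card_filter, Finset.mul_sum]
    refine Finset.sum_congr rfl fun v _ => ?_
    split_ifs <;> simp
  -- the order of the line stabilizer
  have h2 : (Nat.card (lineStab v₀) : ℂ) =
      (Nat.card (MulAction.stabilizer (SpecialLinearGroup (Fin n) F) v₀) : ℂ) *
        ((Fintype.card F - 1 : ℕ) : ℂ) := by
    have e1 : (Nat.card (lineStab v₀) : ℂ) =
        ∑ x : SpecialLinearGroup (Fin n) F,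
          (fun v : NZ n F => ∑ c : Fˣ, if v = c • v₀ then (1 : ℂ) else 0) (x • v₀) := by
      rw [Nat.card_eq_fintype_card, Fintype.card_subtype, Finset.natCast_card_filter]
      refine Finset.sum_congr rfl fun x _ => ?_
      show _ = ∑ c : Fˣ, if x • v₀ = c • v₀ then (1 : ℂ) else 0
      by_cases hx : x ∈ lineStab v₀
      · rw [if_pos hx]
        symm
        rw [Finset.sum_eq_single (lineScalar v₀ ⟨x, hx⟩)]
        · rw [if_pos (lineScalar_spec v₀ ⟨x, hx⟩)]
        · intro c _ hc
          rw [if_neg]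
          intro h
          exact hc (lineScalar_unique v₀ ⟨x, hx⟩ c h)
        · intro h; exact absurd (Finset.mem_univ _) h
      · rw [if_neg hx]
        symm
        apply Finset.sum_eq_zero
        intro c _
        rw [if_neg]
        intro h
        exact hx ⟨c, h⟩
    rw [e1]
    refine (sum_smul_eq_card_stabilizer_mul_sum (G := SpecialLinearGroup (Fin n) F) v₀
      (fun v : NZ n F => ∑ c : Fˣ, if v = c • v₀ then (1 : ℂ) else 0)).trans ?_
    congr 1
    rw [Finset.sum_comm]
    simp only [Finset.sum_ite_eq', Finset.mem_univ, if_true, Finset.sum_const, Finset.card_univ,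
      nsmul_eq_mul, mul_one]
    rw [Fintype.card_units]
  have hst : (Nat.card (MulAction.stabilizer (SpecialLinearGroup (Fin n) F) v₀) : ℂ) ≠ 0 := by
    exact Nat.cast_ne_zero.mpr Nat.card_pos.ne'
  rw [h1, h2, mul_inv, mul_comm _ (((Fintype.card F - 1 : ℕ) : ℂ)⁻¹), mul_assoc, ← mul_assoc _ _ (∑ c : Fˣ, _),
    inv_mul_cancel₀ hst, one_mul]

end induced2

section inner

variable {F : Type*} [Field F] [Fintype F] [DecidableEq F] {n : ℕ}

/-- The class function `Φ_α = (q-1)⁻¹ Σ_c α(c) F_c`. -/
noncomputable def Phi (α : MulChar F ℂ) (g : SpecialLinearGroup (Fin n) F) : ℂ :=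
  ((Fintype.card F - 1 : ℕ) : ℂ)⁻¹ * ∑ c : Fˣ, α (c : F) * Fc c g

theorem conj_Fc (c : Fˣ) (g : SpecialLinearGroup (Fin n) F) : conj (Fc c g) = Fc c g := by
  unfold Fc
  exact Complex.conj_natCast _

omit [DecidableEq F] in
theorem q_sub_one_ne_zero : ((Fintype.card F - 1 : ℕ) : ℂ) ≠ 0 := by
  have : 2 ≤ Fintype.card F := Fintype.one_lt_card
  exact Nat.cast_ne_zero.mpr (by omega)

theorem classInner_Phi_Phi (hn : 3 ≤ n) (α β : MulChar F ℂ) :
    Cfsg.classInner (Phi (n := n) α) (Phi β) =
      (if α = β then 1 else 0) + (if α = 1 ∧ β = 1 then 1 else 0) := by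
  classical
  have hq := q_sub_one_ne_zero (F := F)
  have hG0 : (Fintype.card (SpecialLinearGroup (Fin n) F) : ℂ) ≠ 0 :=
    Nat.cast_ne_zero.mpr Fintype.card_ne_zero
  unfold Cfsg.classInner
  rw [Nat.card_eq_fintype_card]
  have h1 : ∀ g : SpecialLinearGroup (Fin n) F, Phi α g * conj (Phi β g) =
      (((Fintype.card F - 1 : ℕ) : ℂ)⁻¹) ^ 2 *
        ∑ c : Fˣ, ∑ c' : Fˣ, α (c : F) * conj (β (c' : F)) * (Fc c g * Fc c' g) := by
    intro g
    unfold Phi
    rw [map_mul, map_inv₀, Complex.conj_natCast, map_sum]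
    simp_rw [map_mul, conj_Fc]
    rw [mul_mul_mul_comm, ← pow_two, Finset.sum_mul_sum]
    congr 1
    refine Finset.sum_congr rfl fun c _ => Finset.sum_congr rfl fun c' _ => ?_
    ring
  rw [Finset.sum_congr rfl (fun g _ => h1 g), ← Finset.mul_sum, Finset.sum_comm]
  have h2 : ∀ c : Fˣ, ∑ g : SpecialLinearGroup (Fin n) F,
      ∑ c' : Fˣ, α (c : F) * conj (β (c' : F)) * (Fc c g * Fc c' g) =
      ∑ c' : Fˣ, α (c : F) * conj (β (c' : F)) *
        ((Fintype.card (SpecialLinearGroup (Fin n) F) : ℂ) *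
          (1 + if c = c' then ((Fintype.card F - 1 : ℕ) : ℂ) else 0)) := by
    intro c
    rw [Finset.sum_comm]
    refine Finset.sum_congr rfl fun c' _ => ?_
    rw [← Finset.mul_sum, sum_Fc_mul hn]
  rw [Finset.sum_congr rfl (fun c _ => h2 c)]
  -- evaluate the double sum
  have h3 : ∑ c : Fˣ, ∑ c' : Fˣ, α (c : F) * conj (β (c' : F)) *
        ((Fintype.card (SpecialLinearGroup (Fin n) F) : ℂ) *
          (1 + if c = c' then ((Fintype.card F - 1 : ℕ) : ℂ) else 0)) =
      (Fintype.card (SpecialLinearGroup (Fin n) F) : ℂ) *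
        ((∑ c : Fˣ, α (c : F)) * conj (∑ c' : Fˣ, β (c' : F)) +
          ((Fintype.card F - 1 : ℕ) : ℂ) * ∑ c : Fˣ, α (c : F) * conj (β (c : F))) := by
    rw [map_sum, Finset.sum_mul_sum, Finset.mul_sum, ← Finset.sum_add_distrib, Finset.mul_sum]
    refine Finset.sum_congr rfl fun c _ => ?_
    have : ∀ c' : Fˣ, α (c : F) * conj (β (c' : F)) *
        ((Fintype.card (SpecialLinearGroup (Fin n) F) : ℂ) *
          (1 + if c = c' then ((Fintype.card F - 1 : ℕ) : ℂ) else 0)) =
        (Fintype.card (SpecialLinearGroup (Fin n) F) : ℂ) * (α (c : F) * conj (β (c' : F))) +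
        (if c = c' then (Fintype.card (SpecialLinearGroup (Fin n) F) : ℂ) *
          (((Fintype.card F - 1 : ℕ) : ℂ) * (α (c : F) * conj (β (c' : F)))) else 0) := by
      intro c'
      split_ifs <;> ring
    rw [Finset.sum_congr rfl (fun c' _ => this c'), Finset.sum_add_distrib,
      Finset.sum_ite_eq Finset.univ c, if_pos (Finset.mem_univ _), ← Finset.mul_sum, mul_add]
  rw [h3, sum_units_mulChar, sum_units_mulChar, sum_units_mul_conj]
  by_cases hα : α = 1 <;> by_cases hβ : β = 1
  · subst hα; subst hβ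
    simp only [if_true, and_self, Complex.conj_natCast]
    field_simp
  · subst hα
    have : ¬ ((1 : MulChar F ℂ) = β) := fun h => hβ h.symm
    simp only [if_true, hβ, this, if_false, and_false, map_zero, mul_zero, add_zero]
  · subst hβ
    simp only [if_true, hα, if_false, false_and, zero_mul, mul_zero, add_zero]
  · simp only [hα, hβ, if_false, false_and, zero_mul, add_zero, zero_add]
    by_cases hαβ : α = β
    · simp only [hαβ, if_true]
      field_simp
    · simp only [hαβ, if_false, mul_zero]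

theorem classInner_Phi_one (hn : 3 ≤ n) (α : MulChar F ℂ) :
    Cfsg.classInner (Phi (n := n) α) (fun _ => (1 : ℂ)) = if α = 1 then 1 else 0 := by
  classical
  have hq := q_sub_one_ne_zero (F := F)
  have hG0 : (Fintype.card (SpecialLinearGroup (Fin n) F) : ℂ) ≠ 0 :=
    Nat.cast_ne_zero.mpr Fintype.card_ne_zero
  unfold Cfsg.classInner
  rw [Nat.card_eq_fintype_card]
  simp only [map_one, mul_one]
  unfold Phi
  rw [← Finset.mul_sum, Finset.sum_comm]
  have h2 : ∀ c : Fˣ, ∑ g : SpecialLinearGroup (Fin n) F, α (c : F) * Fc c g =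
      α (c : F) * (Fintype.card (SpecialLinearGroup (Fin n) F) : ℂ) := by
    intro c
    rw [← Finset.mul_sum, sum_Fc hn]
  rw [Finset.sum_congr rfl (fun c _ => h2 c), ← Finset.sum_mul, sum_units_mulChar]
  split_ifs
  · field_simp
  · simp

/-- The sum of all `Φ_α` is the permutation character on nonzero vectors. -/
theorem sum_Phi [Fintype (MulChar F ℂ)] (g : SpecialLinearGroup (Fin n) F) :
    ∑ α : MulChar F ℂ, Phi α g = Fc 1 g := by
  classical
  have hq := q_sub_one_ne_zero (F := F)
  unfold Phi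
  rw [← Finset.mul_sum, Finset.sum_comm]
  have h1 : ∀ c : Fˣ, ∑ α : MulChar F ℂ, α (c : F) * Fc c g =
      (if c = 1 then ((Fintype.card F - 1 : ℕ) : ℂ) else 0) * Fc c g := by
    intro c
    rw [← Finset.sum_mul, sum_mulChar_apply]
  rw [Finset.sum_congr rfl (fun c _ => h1 c)]
  simp only [ite_mul, zero_mul, Finset.sum_ite_eq', Finset.mem_univ, if_true]
  field_simp

theorem Fc_one_eq (g : SpecialLinearGroup (Fin n) F) :
    Fc 1 g = (Nat.card {v : Fin n → F // v ≠ 0 ∧ (g : Matrix (Fin n) (Fin n) F).mulVec v = v} : ℂ) := by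
  classical
  unfold Fc
  congr 1
  rw [← Fintype.card_subtype, ← Nat.card_eq_fintype_card]
  refine Nat.card_congr ?_
  refine (Equiv.subtypeEquivRight ?_).trans
    (Equiv.subtypeSubtypeEquivSubtypeInter (fun v : Fin n → F => v ≠ 0)
      (fun v => (g : Matrix (Fin n) (Fin n) F).mulVec v = v))
  intro w
  rw [one_smul]
  exact Subtype.ext_iff

end inner

/-- Let F be a finite field with q elements and n ≥ 3. The permutation character of SL_n(F) on the non-zero vectors of F^n (the function sending a matrix to the number of non-zero vectors it fixes) is the sum of the principal character and q − 1 pairwise distinct irreducible complex characters. -/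
theorem result {F : Type*} [Field F] [Fintype F] [DecidableEq F] (n : ℕ) (hn : 3 ≤ n) :
    ∃ χ : Fin (Fintype.card F - 1) → (Matrix.SpecialLinearGroup (Fin n) F → ℂ),
      (∀ i, Cfsg.IsIrrCharacter (Matrix.SpecialLinearGroup (Fin n) F) (χ i)) ∧ Function.Injective χ ∧
      ∀ g : Matrix.SpecialLinearGroup (Fin n) F,
        (Nat.card {v : Fin n → F // v ≠ 0 ∧ (g : Matrix (Fin n) (Fin n) F).mulVec v = v} : ℂ) = 1 + ∑ i, χ i g := by
  classical
  have hn1 : 0 < n := by omega
  let v₀ : NZ n F := ⟨Pi.single ⟨0, hn1⟩ 1, by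
    intro h
    have := congrFun h ⟨0, hn1⟩
    simp at this⟩
  have : Fintype (MulChar F ℂ) := Fintype.ofFinite _
  -- each `Phi α` is a character
  have hchar : ∀ α : MulChar F ℂ, Cfsg.IsCharacter (SpecialLinearGroup (Fin n) F) (Phi α) := by
    intro α
    have h1 : Cfsg.IsCharacter (lineStab v₀) (fun p => ((thetaHom v₀ α p : ℂˣ) : ℂ)) :=
      IsIrrCharacter.isCharacter (isIrrCharacter_of_monoidHom (thetaHom v₀ α))
    have h2 := indFun_isCharacter (lineStab v₀) _ h1
    have h3 : Cfsg.indFun (lineStab v₀) (fun p => ((thetaHom v₀ α p : ℂˣ) : ℂ)) = Phi α :=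
      funext (fun g => indFun_theta v₀ hn α g)
    rwa [h3] at h2
  have hirr : ∀ α : MulChar F ℂ, α ≠ 1 →
      Cfsg.IsIrrCharacter (SpecialLinearGroup (Fin n) F) (Phi α) := by
    intro α hα
    apply isIrrCharacter_of_classInner_self_eq_one (hchar α)
    rw [classInner_Phi_Phi hn]
    simp [hα]
  -- split off the trivial character from `Phi 1`
  obtain ⟨ψ, hψchar, hψ⟩ := exists_add_of_classInner_ne_zero (hchar (1 : MulChar F ℂ))
    (trivialIrr (SpecialLinearGroup (Fin n) F)) (by
      show Cfsg.classInner (Phi (n := n) (1 : MulChar F ℂ)) (fun _ => (1 : ℂ)) ≠ 0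
      rw [classInner_Phi_one hn]; simp)
  have hψ' : ψ = Phi (n := n) (1 : MulChar F ℂ) - (fun _ => (1 : ℂ)) := by
    rw [hψ]
    funext g
    simp [trivialIrr]
  have h11 : Cfsg.classInner (fun _ : SpecialLinearGroup (Fin n) F => (1 : ℂ)) (fun _ => (1 : ℂ)) = 1 :=
    classInner_irrCharacter_self (trivialIrr (SpecialLinearGroup (Fin n) F))
  have h1Φ : ∀ α : MulChar F ℂ, Cfsg.classInner (fun _ : SpecialLinearGroup (Fin n) F => (1 : ℂ))
      (Phi α) = if α = 1 then 1 else 0 := by
    intro α
    rw [← classInner_conj_symm, classInner_Phi_one hn]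
    split_ifs <;> simp
  have hψirr : Cfsg.IsIrrCharacter (SpecialLinearGroup (Fin n) F) ψ := by
    apply isIrrCharacter_of_classInner_self_eq_one hψchar
    rw [hψ', classInner_sub_left, classInner_sub_right, classInner_sub_right,
      classInner_Phi_Phi hn, classInner_Phi_one hn, h1Φ, h11]
    simp
  have hψΦ : ∀ α : MulChar F ℂ, α ≠ 1 → Cfsg.classInner ψ (Phi (n := n) α) = 0 := by
    intro α hα
    rw [hψ', classInner_sub_left, classInner_Phi_Phi hn, h1Φ]
    have : ¬ ((1 : MulChar F ℂ) = α) := fun h => hα h.symm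
    simp [hα, this]
  -- the family
  have hcard : Fintype.card (MulChar F ℂ) = Fintype.card F - 1 := by
    rw [← Nat.card_eq_fintype_card, card_mulChar]
  let e : Fin (Fintype.card F - 1) ≃ MulChar F ℂ := (Fintype.equivFinOfCardEq hcard).symm
  refine ⟨fun i => if e i = 1 then ψ else Phi (e i), ?_, ?_, ?_⟩
  · intro i
    by_cases h : e i = 1
    · simp only [h, if_true]; exact hψirr
    · simp only [h, if_false]; exact hirr _ h
  · intro i j hij
    simp only at hij
    by_cases hi : e i = 1 <;> by_cases hj : e j = 1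
    · exact e.injective (hi.trans hj.symm)
    · exfalso
      rw [if_pos hi, if_neg hj] at hij
      have h1 := hψΦ (e j) hj
      rw [hij, classInner_Phi_Phi hn] at h1
      simp [hj] at h1
    · exfalso
      rw [if_neg hi, if_pos hj] at hij
      have h1 := hψΦ (e i) hi
      rw [← hij, classInner_Phi_Phi hn] at h1
      simp [hi] at h1
    · rw [if_neg hi, if_neg hj] at hij
      have h1 := classInner_Phi_Phi (n := n) hn (e i) (e j)
      rw [hij, classInner_Phi_Phi hn] at h1
      simp only [hi, hj, and_self, if_false, add_zero, if_true] at h1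
      by_contra hne
      have : e i ≠ e j := fun h => hne (e.injective h)
      rw [if_neg this] at h1
      exact one_ne_zero h1
  · intro g
    rw [← Fc_one_eq, ← sum_Phi g]
    have h1 : ∑ i, (fun i => if e i = 1 then ψ else Phi (e i)) i g =
        ∑ α : MulChar F ℂ, (if α = 1 then ψ g else Phi α g) := by
      refine Fintype.sum_equiv e _ _ (fun i => ?_)
      show (if e i = 1 then ψ else Phi (e i)) g = _
      split_ifs <;> rfl
    rw [h1]
    have h2 : ∀ α : MulChar F ℂ, (if α = 1 then ψ g else Phi α g) =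
        Phi α g - (if α = 1 then (1 : ℂ) else 0) := by
      intro α
      split_ifs with h
      · rw [h, hψ']; rfl
      · rw [sub_zero]
    rw [Finset.sum_congr rfl (fun α _ => h2 α), Finset.sum_sub_distrib,
      Finset.sum_ite_eq' Finset.univ (1 : MulChar F ℂ), if_pos (Finset.mem_univ _)]
    ring

end Cfsg.Agent.S2336
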