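import Cfsg.Statements.S2337
import Cfsg.Agent.Lib.Helper14.SzRepMain
import Cfsg.Agent.Lib.Helper3.SzBridge
import Cfsg.Agent.Lib.Helper3.Suzuki11
import Cfsg.Agent.S1162

set_option autoImplicit false
open Cfsg

namespace Cfsg.Agent.S2337

/-- For the Suzuki group Sz(q), q = 2^(2m+1) with m ≥ 1 (realised inside Sp₄ over the field with q elements), every irreducible complex representation of degree at least 2 has degree at least 2^m·(q − 1). -/
theorem result {F : Type*} [Field F] [Fintype F] (m : ℕ) (hm : 1 ≤ m) (hF : Fintype.card F = 2 ^ (2 * m + 1)) :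
    (∀ (k : ℕ) (ρ : Representation ℂ (Cfsg.Lie.Sz F (2 ^ (m + 1))) (Fin k → ℂ)), ρ.IsIrreducible → 2 ≤ k → 2 ^ m * (2 ^ (2 * m + 1) - 1) ≤ k) := by
  intro k ρ hirr hk
  have hsimple : IsSimpleGroup ↥(Cfsg.Lie.Sz F (2 ^ (m + 1))) := Cfsg.Agent.S1162.result hm hF
  let e := Cfsg.Agent.Lib.Helper3.SzBridge.lieSzEquiv hF hm
  -- the kernel of ρ is trivial
  have hker : (ρ : ↥(Cfsg.Lie.Sz F (2 ^ (m + 1))) →* ((Fin k → ℂ) →ₗ[ℂ] (Fin k → ℂ))).ker = ⊥ := by
    rcases (MonoidHom.normal_ker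
      (ρ : ↥(Cfsg.Lie.Sz F (2 ^ (m + 1))) →* ((Fin k → ℂ) →ₗ[ℂ] (Fin k → ℂ)))).eq_bot_or_eq_top
      with h | h
    · exact h
    · exfalso
      have htriv : ∀ g, ρ g = 1 := by
        intro g
        have : g ∈ (ρ : ↥(Cfsg.Lie.Sz F (2 ^ (m + 1))) →*
            ((Fin k → ℂ) →ₗ[ℂ] (Fin k → ℂ))).ker := by rw [h]; trivial
        exact MonoidHom.mem_ker.mp this
      let v : Fin k → ℂ := Pi.single ⟨0, by omega⟩ 1
      have hv : v ≠ 0 := by
        intro h0
        have := congrFun h0 ⟨0, by omega⟩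
        simp [v] at this
      let S : Subrepresentation ρ :=
        ⟨Submodule.span ℂ {v}, by
          intro g w hw
          rw [htriv g]
          exact hw⟩
      rcases hirr.eq_bot_or_eq_top S with hS | hS
      · have h1 : S.toSubmodule = ⊥ := congrArg Subrepresentation.toSubmodule hS
        exact hv (Submodule.span_singleton_eq_bot.mp h1)
      · have h1 : S.toSubmodule = ⊤ := congrArg Subrepresentation.toSubmodule hS
        have h2 := finrank_span_singleton (K := ℂ) hv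
        change Module.finrank ℂ ↥S.toSubmodule = 1 at h2
        rw [h1, finrank_top, Module.finrank_fin_fun] at h2
        omega
  have hmain := Cfsg.Agent.Lib.Helper14.SzRep.main_bound
    (ρ : ↥(Cfsg.Lie.Sz F (2 ^ (m + 1))) →* ((Fin k → ℂ) →ₗ[ℂ] (Fin k → ℂ))) hF
    (fun a b => e.symm (Cfsg.Agent.Lib.Helper3.Sz.tS hF a b))
    (fun u => e.symm (Cfsg.Agent.Lib.Helper3.Sz.kS hF u))
    (by
      intro a b a' b'
      rw [← map_mul, Cfsg.Agent.Lib.Helper3.Sz.tS_mul hF hm])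
    (by
      rw [Cfsg.Agent.Lib.Helper3.Sz.tS_zero_zero hF hm, map_one])
    (by
      intro u a b
      rw [← map_mul, ← map_mul, Cfsg.Agent.Lib.Helper3.Sz.kS_tS hF hm])
    (by
      intro b hb h1
      have h2 : e.symm (Cfsg.Agent.Lib.Helper3.Sz.tS hF 0 b) ∈
          (ρ : ↥(Cfsg.Lie.Sz F (2 ^ (m + 1))) →* ((Fin k → ℂ) →ₗ[ℂ] (Fin k → ℂ))).ker :=
        MonoidHom.mem_ker.mpr h1
      rw [hker, Subgroup.mem_bot, ← map_one e.symm, e.symm.injective.eq_iff,
        ← Cfsg.Agent.Lib.Helper3.Sz.tS_zero_zero hF hm] at h2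
      exact hb (Cfsg.Agent.Lib.Helper3.Sz.tS_injective hF h2).2)
  rwa [Module.finrank_fin_fun] at hmain

end Cfsg.Agent.S2337
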