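import Cfsg.Statements.S2343
import Cfsg.Agent.H26.Rs4D

set_option autoImplicit false
open Cfsg

namespace Cfsg.Agent.S2343

/-- For the Ree group ²G₂(q), q = 3^(2m+1) with m ≥ 1 (realised over the field with q elements), every irreducible complex representation of degree at least 2 has degree at least q² − q + 1. -/
theorem result {K : Type*} [Field K] [Fintype K] (m : ℕ) (hm : 1 ≤ m) (hK : Fintype.card K = 3 ^ (2 * m + 1)) :
    (∀ (k : ℕ) (ρ : Representation ℂ (Cfsg.Lie.twistedG2 K (3 ^ m)) (Fin k → ℂ)), ρ.IsIrreducible → 2 ≤ k → (3 ^ (2 * m + 1)) ^ 2 - 3 ^ (2 * m + 1) + 1 ≤ k) := by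
  open Cfsg.Agent.Lib.Helper8.Chev Cfsg.Agent.H26.Rd in
  obtain ⟨φ, ψ, hF⟩ := exists_reeField hK
  obtain ⟨τ, hτ⟩ := exists_reeAut hK m
  intro k ρ hirr hk2
  refine ree_degree_bound hF hK hτ hm (χ := ρ.character) ⟨k, ρ, hirr, rfl⟩ k ?_ hk2
  rw [Representation.char_one, Module.finrank_fin_fun]

end Cfsg.Agent.S2343
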