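import Cfsg.Statements.S2352

set_option autoImplicit false
open Cfsg

namespace Cfsg.Agent.S2352

open Equiv

/-- Evaluate a letter. -/
def ev {G : Type*} [Group G] (f : ℕ → G) (x : ℕ × Bool) : G := cond x.2 (f x.1) (f x.1)⁻¹

/-- The trajectory condition: the word moves `0` successively through `1, 2, …`. -/
def Good (f : ℕ → Perm ℕ) : List (ℕ × Bool) → Prop
  | [] => True
  | l :: L => ev f l L.length = L.length + 1 ∧ Good f L

theorem prod_apply_zero (f : ℕ → Perm ℕ) (L : List (ℕ × Bool)) (h : Good f L) :
    (L.map (ev f)).prod 0 = L.length := by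
  induction L with
  | nil => simp
  | cons l L ih =>
    obtain ⟨h1, h2⟩ := h
    rw [List.map_cons, List.prod_cons, Perm.mul_apply, ih h2, h1, List.length_cons]

section modify

variable (g : Perm ℕ) (m : ℕ)

/-- The modified permutation. -/
def modif : Perm ℕ := swap (m + 1) (g m) * g

theorem modif_apply_m : modif g m m = m + 1 := by
  simp [modif]

theorem modif_apply_of_ne (hg : g (m + 1) = m + 1) (t : ℕ) (h1 : t ≠ m) (h2 : t ≠ m + 1) :
    modif g m t = g t := by
  unfold modif
  rw [Perm.mul_apply]
  apply swap_apply_of_ne_of_ne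
  · intro h
    rw [← hg] at h
    exact h2 (g.injective h)
  · intro h
    exact h1 (g.injective h)

theorem modif_inv_apply_of_ne (y : ℕ) (h1 : y ≠ m + 1) (h2 : y ≠ g m) :
    (modif g m)⁻¹ y = g⁻¹ y := by
  unfold modif
  rw [mul_inv_rev, Perm.mul_apply, swap_inv, swap_apply_of_ne_of_ne h1 h2]

end modify

theorem ev_update_same (f : ℕ → Perm ℕ) (i : ℕ) (b : Bool) (g' : Perm ℕ) :
    ev (Function.update f i (cond b g' g'⁻¹)) (i, b) = g' := by
  cases b <;> simp [ev]

theorem ev_update_opp (f : ℕ → Perm ℕ) (i : ℕ) (b : Bool) (g' : Perm ℕ) :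
    ev (Function.update f i (cond b g' g'⁻¹)) (i, !b) = g'⁻¹ := by
  cases b <;> simp [ev]

theorem ev_update_ne (f : ℕ → Perm ℕ) (i : ℕ) (h : Perm ℕ) (l : ℕ × Bool) (hl : l.1 ≠ i) :
    ev (Function.update f i h) l = ev f l := by
  simp [ev, Function.update_of_ne hl]

theorem ev_opp (f : ℕ → Perm ℕ) (i : ℕ) (b : Bool) : ev f (i, !b) = (ev f (i, b))⁻¹ := by
  cases b <;> simp [ev]

theorem good_update (f : ℕ → Perm ℕ) (i : ℕ) (b : Bool) (m : ℕ)
    (hsupp : ∀ j x, m < x → f j x = x) (S : List (ℕ × Bool)) (hS : S.length ≤ m)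
    (hhead : S.length = m → ∀ l ∈ S.head?, ¬ (l.1 = i ∧ l.2 = !b)) (hG : Good f S) :
    Good (Function.update f i (cond b (modif (ev f (i, b)) m) (modif (ev f (i, b)) m)⁻¹)) S := by
  induction S with
  | nil => trivial
  | cons l S ih =>
    obtain ⟨h1, h2⟩ := hG
    rw [List.length_cons] at hS
    have hgm : ev f (i, b) (m + 1) = m + 1 := by
      cases b
      · show (f i)⁻¹ (m + 1) = m + 1
        rw [Perm.inv_eq_iff_eq, hsupp i _ (Nat.lt_succ_self m)]
      · exact hsupp i _ (Nat.lt_succ_self m)
    refine ⟨?_, ih (by omega) (fun h => by omega) h2⟩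
    obtain ⟨j, b'⟩ := l
    by_cases hj : j = i
    · subst hj
      by_cases hb : b' = b
      · subst hb
        rw [ev_update_same, modif_apply_of_ne _ _ hgm _ (by omega) (by omega), h1]
      · have hb' : b' = !b := by cases b <;> cases b' <;> simp_all
        subst hb'
        rw [ev_update_opp, modif_inv_apply_of_ne _ _ _ (by omega), ← ev_opp, h1]
        intro hcontra
        have h3 : (ev f (j, b))⁻¹ S.length = m := by
          rw [Perm.inv_eq_iff_eq]; exact hcontra
        rw [← ev_opp, h1] at h3
        exact hhead (by rw [List.length_cons]; exact h3) (j, !b) (by simp) ⟨rfl, rfl⟩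
    · rw [ev_update_ne _ _ _ _ hj, h1]

theorem exists_good (L : List (ℕ × Bool)) (hL : FreeGroup.IsReduced L) :
    ∃ f : ℕ → Perm ℕ, (∀ i x, L.length < x → f i x = x) ∧ Good f L := by
  induction L with
  | nil => exact ⟨fun _ => 1, fun _ _ _ => rfl, trivial⟩
  | cons l L ih =>
    obtain ⟨f, hsupp, hG⟩ := ih (hL.infix ⟨[l], [], by simp⟩)
    obtain ⟨i, b⟩ := l
    set m := L.length with hm
    have hgm : ev f (i, b) (m + 1) = m + 1 := by
      cases b
      · show (f i)⁻¹ (m + 1) = m + 1
        rw [Perm.inv_eq_iff_eq, hsupp i _ (Nat.lt_succ_self m)]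
      · exact hsupp i _ (Nat.lt_succ_self m)
    have hgsupp : ∀ x, m < x → ev f (i, b) x = x := by
      intro x hx
      cases b
      · show (f i)⁻¹ x = x
        rw [Perm.inv_eq_iff_eq, hsupp i _ hx]
      · exact hsupp i _ hx
    refine ⟨Function.update f i (cond b (modif (ev f (i, b)) m) (modif (ev f (i, b)) m)⁻¹), ?_, ?_, ?_⟩
    · intro j x hx
      rw [List.length_cons] at hx
      by_cases hj : j = i
      · subst hj
        rw [Function.update_self]
        have h1 : modif (ev f (j, b)) m x = x := by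
          rw [modif_apply_of_ne _ _ hgm _ (by omega) (by omega), hgsupp x (by omega)]
        cases b
        · show (modif (ev f (j, false)) m)⁻¹ x = x
          rw [Perm.inv_eq_iff_eq, h1]
        · exact h1
      · rw [Function.update_of_ne hj]
        exact hsupp j x (by omega)
    · rw [ev_update_same, modif_apply_m]
    · apply good_update f i b m hsupp L le_rfl _ hG
      intro _ l hl hcontra
      cases L with
      | nil => simp at hl
      | cons l' L' =>
        simp only [List.head?_cons, Option.mem_def, Option.some.injEq] at hl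
        subst hl
        rw [FreeGroup.isReduced_cons_cons] at hL
        have := hL.1 hcontra.1.symm
        rw [hcontra.2] at this
        cases b <;> simp at this

theorem lift_eq_prod {G : Type*} [Group G] (f : ℕ → G) (w : FreeGroup ℕ) :
    FreeGroup.lift f w = (w.toWord.map (ev f)).prod := by
  conv_lhs => rw [← FreeGroup.mk_toWord (x := w)]
  rw [FreeGroup.lift_mk]
  rfl

/-- Residual finiteness, first form: a finitely supported permutation representation. -/
theorem exists_perm_nat (w : FreeGroup ℕ) (hw : w ≠ 1) :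
    ∃ f : ℕ → Perm ℕ, (∀ i x, w.toWord.length < x → f i x = x) ∧ FreeGroup.lift f w ≠ 1 := by
  obtain ⟨f, hsupp, hG⟩ := exists_good w.toWord FreeGroup.isReduced_toWord
  refine ⟨f, hsupp, ?_⟩
  intro h
  have h1 := prod_apply_zero f _ hG
  rw [← lift_eq_prod, h, Perm.one_apply] at h1
  have h2 : w.toWord = [] := List.length_eq_zero_iff.mp h1.symm
  exact hw (FreeGroup.toWord_eq_nil_iff.mp h2)

theorem lift_comp {G H : Type*} [Group G] [Group H] (φ : G →* H) (f : ℕ → G) (w : FreeGroup ℕ) :
    FreeGroup.lift (fun i => φ (f i)) w = φ (FreeGroup.lift f w) := by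
  have : FreeGroup.lift (fun i => φ (f i)) = φ.comp (FreeGroup.lift f) := by
    apply FreeGroup.ext_hom
    intro i
    simp
  rw [this]
  rfl

/-- Residual finiteness, second form: permutations of a finite type. -/
theorem exists_perm_fin (w : FreeGroup ℕ) (hw : w ≠ 1) :
    ∃ f : ℕ → Perm {x : ℕ // x ≤ w.toWord.length}, FreeGroup.lift f w ≠ 1 := by
  obtain ⟨f, hsupp, hne⟩ := exists_perm_nat w hw
  set m := w.toWord.length with hm
  have h1 : ∀ i x, (f i x ≤ m) ↔ x ≤ m := by
    intro i x
    constructor
    · intro h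
      by_contra hx
      rw [hsupp i x (by omega)] at h
      exact hx h
    · intro h
      by_contra hx
      have h2 := hsupp i (f i x) (by omega)
      have h3 := (f i).injective h2
      omega
  have h2 : ∀ i x, f i x ≠ x → x ≤ m := by
    intro i x hx
    by_contra h
    exact hx (hsupp i x (by omega))
  refine ⟨fun i => (f i).subtypePerm (h1 i), ?_⟩
  intro h
  apply hne
  have h3 := lift_comp (Perm.ofSubtype (p := fun x => x ≤ m)) (fun i => (f i).subtypePerm (h1 i)) w
  rw [h, map_one] at h3
  have h4 : (fun i => Perm.ofSubtype (p := fun x => x ≤ m) ((f i).subtypePerm (h1 i))) = f :=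
    funext fun i => Perm.ofSubtype_subtypePerm (h1 i) (h2 i)
  rw [h4] at h3
  exact h3

/-- The sign-correcting homomorphism `ℤˣ → Perm (Fin 2)`. -/
def signFix : ℤˣ →* Perm (Fin 2) where
  toFun ε := if ε = 1 then 1 else swap 0 1
  map_one' := by simp
  map_mul' := by decide

theorem sign_signFix : ∀ ε : ℤˣ, Perm.sign (signFix ε) = ε := by decide

/-- An injective homomorphism from `Perm α` into an alternating group of large degree. -/
theorem exists_hom_alt (α : Type) [Fintype α] [DecidableEq α] (n : ℕ)
    (hn : Fintype.card α + 2 ≤ n) :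
    ∃ ψ : Perm α →* alternatingGroup (Fin n), Function.Injective ψ := by
  have hcard : Fintype.card (α ⊕ Fin 2) ≤ Fintype.card (Fin n) := by
    simpa using hn
  obtain ⟨e⟩ := Function.Embedding.nonempty_of_card_le hcard
  let ψ1 : Perm α →* Perm (α ⊕ Fin 2) :=
    (Perm.sumCongrHom α (Fin 2)).comp ((MonoidHom.id _).prod (signFix.comp Perm.sign))
  let ψ2 : Perm (α ⊕ Fin 2) →* Perm (Fin n) := Perm.extendDomainHom e.toEquivRange
  have hmem : ∀ σ, (ψ2.comp ψ1) σ ∈ alternatingGroup (Fin n) := by
    intro σ
    rw [Perm.mem_alternatingGroup]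
    show Perm.sign (Perm.extendDomain (Perm.sumCongr σ (signFix (Perm.sign σ))) e.toEquivRange) = 1
    rw [Perm.sign_extendDomain, Perm.sign_sumCongr, sign_signFix, Int.units_mul_self]
  refine ⟨(ψ2.comp ψ1).codRestrict _ hmem, ?_⟩
  intro σ τ h
  have h1 : ψ2 (ψ1 σ) = ψ2 (ψ1 τ) := congrArg Subtype.val h
  have h2 := Perm.extendDomainHom_injective e.toEquivRange h1
  have h3 : Perm.sumCongr σ (signFix (Perm.sign σ)) = Perm.sumCongr τ (signFix (Perm.sign τ)) := h2
  ext x
  have := congrArg (fun ρ : Perm (α ⊕ Fin 2) => ρ (Sum.inl x)) h3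
  simpa using this

/-- A non-trivial law holds in only finitely many alternating groups: for every non-trivial element w of the free group on countably many generators there is N such that for all n ≥ N some substitution of elements of the alternating group of degree n into w is not the identity. -/
theorem result (w : FreeGroup ℕ) (hw : w ≠ 1) :
    ∃ N : ℕ, ∀ n : ℕ, N ≤ n → ∃ f : ℕ → alternatingGroup (Fin n), FreeGroup.lift f w ≠ 1 := by
  obtain ⟨f, hf⟩ := exists_perm_fin w hw
  refine ⟨w.toWord.length + 3, fun n hn => ?_⟩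
  let _ : Fintype {x : ℕ // x ≤ w.toWord.length} :=
    Fintype.ofEquiv (Fin (w.toWord.length + 1))
      ((Fin.equivSubtype).trans (Equiv.subtypeEquivRight (fun x => Nat.lt_succ_iff)))
  obtain ⟨ψ, hψ⟩ := exists_hom_alt {x : ℕ // x ≤ w.toWord.length} n (by
    have : Fintype.card {x : ℕ // x ≤ w.toWord.length} = w.toWord.length + 1 := by
      rw [Fintype.ofEquiv_card, Fintype.card_fin]
    omega)
  refine ⟨fun i => ψ (f i), ?_⟩
  rw [lift_comp]
  intro h
  exact hf (hψ (h.trans (map_one ψ).symm))

end Cfsg.Agent.S2352
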