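import Mathlib
import Cfsg.Statements.S2353

set_option autoImplicit false
set_option linter.unusedSectionVars false
open Cfsg

namespace Cfsg.Agent.S2353

open Polynomial

/-- matrix of a letter -/
def letterMat {R : Type*} [CommRing R] (s : ℕ → R) (l : ℕ × Bool) : Matrix (Fin 2) (Fin 2) R :=
  cond l.2 !![1 + s l.1 ^ 2, s l.1; s l.1, 1] !![1, -s l.1; -s l.1, 1 + s l.1 ^ 2]

theorem lm_true {R : Type*} [CommRing R] (s : ℕ → R) (j : ℕ) :
    letterMat s (j, true) = !![1 + s j ^ 2, s j; s j, 1] := rfl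

theorem lm_false {R : Type*} [CommRing R] (s : ℕ → R) (j : ℕ) :
    letterMat s (j, false) = !![1, -s j; -s j, 1 + s j ^ 2] := rfl

/-- matrix of a word -/
def wordMat {R : Type*} [CommRing R] (s : ℕ → R) (L : List (ℕ × Bool)) :
    Matrix (Fin 2) (Fin 2) R :=
  (L.map (letterMat s)).prod

theorem wm_nil {R : Type*} [CommRing R] (s : ℕ → R) : wordMat s [] = 1 := by
  unfold wordMat
  rw [List.map_nil, List.prod_nil]

theorem wm_cons {R : Type*} [CommRing R] (s : ℕ → R) (l : ℕ × Bool) (L : List (ℕ × Bool)) :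
    wordMat s (l :: L) = letterMat s l * wordMat s L := by
  unfold wordMat
  rw [List.map_cons, List.prod_cons]

theorem wm_cons_true {R : Type*} [CommRing R] (s : ℕ → R) (j : ℕ) (L : List (ℕ × Bool)) :
    (wordMat s ((j, true) :: L)) 0 0 =
        (1 + s j ^ 2) * (wordMat s L) 0 0 + s j * (wordMat s L) 1 0 ∧
      (wordMat s ((j, true) :: L)) 1 0 = s j * (wordMat s L) 0 0 + (wordMat s L) 1 0 := by
  rw [wm_cons, lm_true]
  constructor
  · rw [Matrix.mul_apply, Fin.sum_univ_two]
    show (1 + s j ^ 2) * (wordMat s L) 0 0 + s j * (wordMat s L) 1 0 = _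
    ring
  · rw [Matrix.mul_apply, Fin.sum_univ_two]
    show s j * (wordMat s L) 0 0 + 1 * (wordMat s L) 1 0 = _
    ring

theorem wm_cons_false {R : Type*} [CommRing R] (s : ℕ → R) (j : ℕ) (L : List (ℕ × Bool)) :
    (wordMat s ((j, false) :: L)) 0 0 = (wordMat s L) 0 0 - s j * (wordMat s L) 1 0 ∧
      (wordMat s ((j, false) :: L)) 1 0 =
        -s j * (wordMat s L) 0 0 + (1 + s j ^ 2) * (wordMat s L) 1 0 := by
  rw [wm_cons, lm_false]
  constructor
  · rw [Matrix.mul_apply, Fin.sum_univ_two]
    show 1 * (wordMat s L) 0 0 + -s j * (wordMat s L) 1 0 = _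
    ring
  · rw [Matrix.mul_apply, Fin.sum_univ_two]
    show -s j * (wordMat s L) 0 0 + (1 + s j ^ 2) * (wordMat s L) 1 0 = _
    ring

theorem letterMat_map {R S : Type*} [CommRing R] [CommRing S] (φ : R →+* S) (s : ℕ → R)
    (l : ℕ × Bool) : φ.mapMatrix (letterMat s l) = letterMat (fun i => φ (s i)) l := by
  rcases l with ⟨i, b⟩
  cases b
  · rw [lm_false, lm_false]
    ext a c
    fin_cases a <;> fin_cases c <;> simp
  · rw [lm_true, lm_true]
    ext a c
    fin_cases a <;> fin_cases c <;> simp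

theorem wordMat_map {R S : Type*} [CommRing R] [CommRing S] (φ : R →+* S) (s : ℕ → R)
    (L : List (ℕ × Bool)) : φ.mapMatrix (wordMat s L) = wordMat (fun i => φ (s i)) L := by
  induction L with
  | nil => rw [wm_nil, wm_nil, map_one]
  | cons l L ih => rw [wm_cons, wm_cons, map_mul, ih, letterMat_map]

theorem wordMat_map_apply {R S : Type*} [CommRing R] [CommRing S] (φ : R →+* S) (s : ℕ → R)
    (L : List (ℕ × Bool)) (a c : Fin 2) :
    φ ((wordMat s L) a c) = (wordMat (fun i => φ (s i)) L) a c := by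
  rw [← wordMat_map]
  rfl

theorem det_letterMat {R : Type*} [CommRing R] (s : ℕ → R) (l : ℕ × Bool) :
    (letterMat s l).det = 1 := by
  rcases l with ⟨i, b⟩
  cases b
  · rw [lm_false, Matrix.det_fin_two_of]
    ring
  · rw [lm_true, Matrix.det_fin_two_of]
    ring

/-- the parameters `X ^ (i + 1)` -/
noncomputable def sX (R : Type*) [CommRing R] (i : ℕ) : R[X] := X ^ (i + 1)

section FieldPart

variable {F : Type*} [Field F]

theorem H (p q u : F[X]) (hpq : degree p < degree q) (hu : 1 ≤ degree u) :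
    degree q < degree (u * q + p) := by
  have hq : q ≠ 0 := ne_zero_of_degree_gt hpq
  have hu0 : u ≠ 0 := by
    rintro rfl
    rw [degree_zero] at hu
    exact absurd hu (by simp)
  have hu1 : 1 ≤ natDegree u := by
    have h := hu
    rw [degree_eq_natDegree hu0] at h
    exact_mod_cast h
  have h1 : degree q < degree (u * q) := by
    rw [degree_mul, degree_eq_natDegree hq, degree_eq_natDegree hu0]
    exact_mod_cast (by omega : natDegree q < natDegree u + natDegree q)
  rw [degree_add_eq_left_of_degree_lt (lt_trans hpq h1)]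
  exact h1

theorem hs (i : ℕ) : 1 ≤ degree (sX F i) := by
  unfold sX
  rw [degree_X_pow]
  exact_mod_cast Nat.succ_le_succ (Nat.zero_le i)

theorem hsub {i j : ℕ} (hij : i ≠ j) : 1 ≤ degree (sX F i - sX F j) := by
  rcases lt_or_gt_of_ne hij with h | h
  · have hlt : degree (sX F i) < degree (sX F j) := by
      unfold sX
      rw [degree_X_pow, degree_X_pow]
      exact_mod_cast Nat.succ_lt_succ h
    rw [degree_sub_eq_right_of_degree_lt hlt]
    exact hs j
  · have hlt : degree (sX F j) < degree (sX F i) := by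
      unfold sX
      rw [degree_X_pow, degree_X_pow]
      exact_mod_cast Nat.succ_lt_succ h
    rw [degree_sub_eq_left_of_degree_lt hlt]
    exact hs i

theorem T1 (x y si sj : F[X]) (hsi : 1 ≤ degree si) (hsj : 1 ≤ degree sj)
    (h : degree (x - si * y) < degree y) :
    degree (((1 + sj ^ 2) * x + sj * y) - sj * (sj * x + y)) < degree (sj * x + y) := by
  have e : ((1 + sj ^ 2) * x + sj * y) - sj * (sj * x + y) = x := by ring
  rw [e]
  have hyx : degree y < degree x := by
    have h1 := H (x - si * y) y si h hsi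
    rwa [show si * y + (x - si * y) = x by ring] at h1
  exact H y x sj hyx hsj

theorem T2 (x y si sj : F[X]) (hne : 1 ≤ degree (si - sj))
    (h : degree (x - si * y) < degree y) :
    degree ((-sj * x + (1 + sj ^ 2) * y) + sj * (x - sj * y)) < degree (x - sj * y) := by
  have e : (-sj * x + (1 + sj ^ 2) * y) + sj * (x - sj * y) = y := by ring
  rw [e]
  have h1 := H (x - si * y) y (si - sj) h hne
  rwa [show (si - sj) * y + (x - si * y) = x - sj * y by ring] at h1

theorem T3 (x y si sj : F[X]) (hsi : 1 ≤ degree si) (hsj : 1 ≤ degree sj)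
    (h : degree (y + si * x) < degree x) :
    degree ((-sj * x + (1 + sj ^ 2) * y) + sj * (x - sj * y)) < degree (x - sj * y) := by
  have e : (-sj * x + (1 + sj ^ 2) * y) + sj * (x - sj * y) = y := by ring
  rw [e]
  have hxy : degree x < degree y := by
    have h1 := H (y + si * x) x (-si) h (by rwa [degree_neg])
    rwa [show -si * x + (y + si * x) = y by ring] at h1
  have h2 := H x y (-sj) hxy (by rwa [degree_neg])
  rwa [show -sj * y + x = x - sj * y by ring] at h2

theorem T4 (x y si sj : F[X]) (hne : 1 ≤ degree (sj - si))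
    (h : degree (y + si * x) < degree x) :
    degree (((1 + sj ^ 2) * x + sj * y) - sj * (sj * x + y)) < degree (sj * x + y) := by
  have e : ((1 + sj ^ 2) * x + sj * y) - sj * (sj * x + y) = x := by ring
  rw [e]
  have h1 := H (y + si * x) x (sj - si) h hne
  rwa [show (sj - si) * x + (y + si * x) = sj * x + y by ring] at h1

theorem I1 (sj : F[X]) (hsj : 1 ≤ degree sj) :
    degree (((1 + sj ^ 2) * 1 + sj * 0) - sj * (sj * 1 + 0)) < degree (sj * 1 + 0) := by
  have e1 : ((1 + sj ^ 2) * 1 + sj * 0) - sj * (sj * 1 + 0) = 1 := by ring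
  have e2 : sj * 1 + 0 = sj := by ring
  rw [e1, e2, degree_one]
  exact lt_of_lt_of_le (by exact_mod_cast Nat.zero_lt_one) hsj

theorem I2 (sj : F[X]) :
    degree ((-sj * 1 + (1 + sj ^ 2) * 0) + sj * (1 - sj * 0)) < degree (1 - sj * 0) := by
  have e1 : (-sj * 1 + (1 + sj ^ 2) * 0) + sj * (1 - sj * 0) = 0 := by ring
  have e2 : (1 : F[X]) - sj * 0 = 1 := by ring
  rw [e1, e2, degree_zero, degree_one]
  exact WithBot.bot_lt_coe 0

/-- the degree invariant attached to the last letter -/
def DegInv (l : ℕ × Bool) (x y : F[X]) : Prop :=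
  match l with
  | (i, true) => degree (x - sX F i * y) < degree y
  | (i, false) => degree (y + sX F i * x) < degree x

theorem inv_word (L : List (ℕ × Bool)) :
    ∀ l : ℕ × Bool, FreeGroup.IsReduced (l :: L) →
      DegInv (F := F) l ((wordMat (sX F) (l :: L)) 0 0) ((wordMat (sX F) (l :: L)) 1 0) := by
  induction L with
  | nil =>
    rintro ⟨j, b⟩ -
    cases b
    · obtain ⟨e1, e2⟩ := wm_cons_false (sX F) j []
      rw [e1, e2, wm_nil, Matrix.one_apply_eq, Matrix.one_apply_ne (by decide : (1 : Fin 2) ≠ 0)]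
      exact I2 (sX F j)
    · obtain ⟨e1, e2⟩ := wm_cons_true (sX F) j []
      rw [e1, e2, wm_nil, Matrix.one_apply_eq, Matrix.one_apply_ne (by decide : (1 : Fin 2) ≠ 0)]
      exact I1 (sX F j) (hs j)
  | cons l' L ih =>
    rintro ⟨j, b⟩ h
    rw [FreeGroup.isReduced_cons_cons] at h
    obtain ⟨hc, hred⟩ := h
    have ih' := ih l' hred
    rcases l' with ⟨i, b'⟩
    cases b <;> cases b'
    · obtain ⟨e1, e2⟩ := wm_cons_false (sX F) j ((i, false) :: L)
      rw [e1, e2]
      exact T3 _ _ (sX F i) (sX F j) (hs i) (hs j) ih'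
    · have hij : i ≠ j := fun e => Bool.noConfusion (hc e.symm)
      obtain ⟨e1, e2⟩ := wm_cons_false (sX F) j ((i, true) :: L)
      rw [e1, e2]
      exact T2 _ _ (sX F i) (sX F j) (hsub hij) ih'
    · have hji : j ≠ i := fun e => Bool.noConfusion (hc e)
      obtain ⟨e1, e2⟩ := wm_cons_true (sX F) j ((i, false) :: L)
      rw [e1, e2]
      exact T4 _ _ (sX F i) (sX F j) (hsub hji) ih'
    · obtain ⟨e1, e2⟩ := wm_cons_true (sX F) j ((i, true) :: L)
      rw [e1, e2]
      exact T1 _ _ (sX F i) (sX F j) (hs i) (hs j) ih'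

theorem y_ne_zero (L : List (ℕ × Bool)) (hL : L ≠ []) (hred : FreeGroup.IsReduced L) :
    (wordMat (sX F) L) 1 0 ≠ 0 := by
  obtain ⟨l, L', rfl⟩ := List.exists_cons_of_ne_nil hL
  have h := inv_word (F := F) L' l hred
  rcases l with ⟨j, b⟩
  cases b
  · intro hy
    have h' : degree ((wordMat (sX F) ((j, false) :: L')) 1 0 +
        sX F j * (wordMat (sX F) ((j, false) :: L')) 0 0)
        < degree ((wordMat (sX F) ((j, false) :: L')) 0 0) := h
    rw [hy, zero_add] at h'
    have hx : (wordMat (sX F) ((j, false) :: L')) 0 0 ≠ 0 := ne_zero_of_degree_gt h'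
    have h2 := H 0 ((wordMat (sX F) ((j, false) :: L')) 0 0) (sX F j)
      (by rw [degree_zero]; exact bot_lt_iff_ne_bot.2 (mt degree_eq_bot.1 hx)) (hs j)
    rw [add_zero] at h2
    exact lt_asymm h' h2
  · have h' : degree ((wordMat (sX F) ((j, true) :: L')) 0 0 -
        sX F j * (wordMat (sX F) ((j, true) :: L')) 1 0)
        < degree ((wordMat (sX F) ((j, true) :: L')) 1 0) := h
    exact ne_zero_of_degree_gt h'

/-- the generators in `SL₂` -/
def gSL (t : F) (i : ℕ) : Matrix.SpecialLinearGroup (Fin 2) F :=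
  ⟨letterMat (fun k => t ^ (k + 1)) (i, true), det_letterMat _ _⟩

theorem coe_prod (t : F) (L : List (ℕ × Bool)) :
    ((L.map fun x => cond x.2 (gSL t x.1) (gSL t x.1)⁻¹).prod :
      Matrix.SpecialLinearGroup (Fin 2) F).val = wordMat (fun k => t ^ (k + 1)) L := by
  induction L with
  | nil => rfl
  | cons l L ih =>
    rw [List.map_cons, List.prod_cons, wm_cons, Matrix.SpecialLinearGroup.coe_mul, ih]
    congr 1
    rcases l with ⟨i, b⟩
    cases b
    · show ((gSL t i)⁻¹).val = letterMat (fun k => t ^ (k + 1)) (i, false)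
      rw [Matrix.SpecialLinearGroup.coe_inv]
      show Matrix.adjugate !![1 + (t ^ (i + 1)) ^ 2, t ^ (i + 1); t ^ (i + 1), 1] =
        !![1, -t ^ (i + 1); -t ^ (i + 1), 1 + (t ^ (i + 1)) ^ 2]
      rw [Matrix.adjugate_fin_two_of]
    · rfl

end FieldPart

/-- A non-trivial law holds in PSL_2 over only finitely many finite fields: for every non-trivial element w of the free group on countably many generators there is N such that over every finite field with at least N elements some substitution of elements of PSL_2 into w is not the identity. -/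
theorem result (w : FreeGroup ℕ) (hw : w ≠ 1) :
    ∃ N : ℕ, ∀ (F : Type*) [Field F] [Fintype F], N ≤ Fintype.card F →
      ∃ f : ℕ → Matrix.ProjectiveSpecialLinearGroup (Fin 2) F, FreeGroup.lift f w ≠ 1 := by
  have hL : w.toWord ≠ [] := fun h => hw (FreeGroup.toWord_eq_nil_iff.1 h)
  have hred : FreeGroup.IsReduced w.toWord := FreeGroup.isReduced_toWord
  refine ⟨((wordMat (sX ℤ) w.toWord) 1 0).natDegree + 1, ?_⟩
  intro F _ _ hN
  have hmap : (wordMat (sX F) w.toWord) 1 0 =
      ((wordMat (sX ℤ) w.toWord) 1 0).map (Int.castRingHom F) := by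
    have h1 := wordMat_map_apply (Polynomial.mapRingHom (Int.castRingHom F)) (sX ℤ) w.toWord 1 0
    have h2 : (fun i => Polynomial.mapRingHom (Int.castRingHom F) (sX ℤ i)) = sX F := by
      funext i
      simp [sX]
    rw [h2] at h1
    rw [← h1]
    rfl
  have hy : (wordMat (sX F) w.toWord) 1 0 ≠ 0 := y_ne_zero w.toWord hL hred
  have hdeg : ((wordMat (sX F) w.toWord) 1 0).natDegree < Fintype.card F := by
    rw [hmap]
    exact lt_of_le_of_lt Polynomial.natDegree_map_le (Nat.lt_of_succ_le hN)
  obtain ⟨t, ht⟩ := Polynomial.exists_eval_ne_zero_of_natDegree_lt_card _ hy (by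
    rw [Cardinal.mk_fintype]
    exact_mod_cast hdeg)
  have hev : (wordMat (fun k => t ^ (k + 1)) w.toWord) 1 0 ≠ 0 := by
    have h1 := wordMat_map_apply (Polynomial.evalRingHom t) (sX F) w.toWord 1 0
    have h2 : (fun i => Polynomial.evalRingHom t (sX F i)) = fun k => t ^ (k + 1) := by
      funext i
      simp [sX]
    rw [h2] at h1
    rw [← h1]
    exact ht
  refine ⟨fun i => (QuotientGroup.mk (gSL t i) :
    Matrix.ProjectiveSpecialLinearGroup (Fin 2) F), ?_⟩
  have hcomp : FreeGroup.lift (fun i => (QuotientGroup.mk (gSL t i) :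
      Matrix.ProjectiveSpecialLinearGroup (Fin 2) F)) =
      (QuotientGroup.mk' (Subgroup.center (Matrix.SpecialLinearGroup (Fin 2) F))).comp
        (FreeGroup.lift (gSL t)) := by
    apply FreeGroup.ext_hom
    intro a
    simp
  rw [hcomp]
  intro h1
  rw [MonoidHom.comp_apply, QuotientGroup.mk'_apply, QuotientGroup.eq_one_iff,
    Matrix.SpecialLinearGroup.mem_center_iff] at h1
  obtain ⟨r, -, hr⟩ := h1
  have hlift : FreeGroup.lift (gSL t) w =
      (w.toWord.map fun x => cond x.2 (gSL t x.1) (gSL t x.1)⁻¹).prod := by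
    rw [← FreeGroup.lift_mk, FreeGroup.mk_toWord]
  have hval : (FreeGroup.lift (gSL t) w).val = wordMat (fun k => t ^ (k + 1)) w.toWord := by
    rw [hlift]
    exact coe_prod t w.toWord
  apply hev
  rw [← hval, ← hr]
  simp

end Cfsg.Agent.S2353
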