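import Cfsg.Statements.S2356
import Cfsg.Agent.S2360
import Cfsg.Agent.Lib.Helper6.SUGen5

set_option autoImplicit false
open Cfsg

namespace Cfsg.Agent.S2356

open Module Cfsg.Agent.Lib.Helper6 Cfsg.Agent.Lib.Helper6.SUG Cfsg.Agent.S0779 Cfsg.Agent.S2360
  Cfsg.Agent.S0781

variable {F : Type*} [Field F] [Fintype F] {q : ℕ}

theorem inv_of_sq {G : Type*} [Group G] {x : G} (hx : x * x = 1) : x⁻¹ = x :=
  inv_eq_of_mul_eq_one_left hx

theorem av_neg' {n : ℕ} (g : ↥(Cfsg.SU n F q)) (v : Fin n → F) : av g (-v) = -av g v := by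
  rw [← neg_one_smul F v, av_smul, neg_one_smul]

/-- An involution negates the orthogonal complement of its fixed vector. -/
theorem neg_of_ortho (hq : Odd q) (hF : Fintype.card F = q ^ 2) (t : ↥(Cfsg.SU 3 F q))
    (ht : t ≠ 1) (ht2 : t * t = 1) (wt : Fin 3 → F) (hwt : hermForm 3 F q wt wt = 1)
    (htw : av t wt = wt) (v : Fin 3 → F) (hv : hermForm 3 F q v wt = 0) : av t v = -v := by
  rw [invol_formula hq hF t ht ht2 wt hwt htw, hv, mul_zero, zero_smul, zero_sub]

/-- Involutions with orthogonal fixed vectors commute. -/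
theorem commute_of_ortho (hq : Odd q) (hF : Fintype.card F = q ^ 2) (t x : ↥(Cfsg.SU 3 F q))
    (ht : t ≠ 1) (ht2 : t * t = 1) (hx1 : x ≠ 1) (hx2 : x * x = 1)
    (wt w : Fin 3 → F) (hwt : hermForm 3 F q wt wt = 1) (htw : av t wt = wt)
    (hww : hermForm 3 F q w w = 1) (hxw : av x w = w)
    (h0 : hermForm 3 F q w wt = 0) : Commute t x := by
  have h1 : av t w = -w := neg_of_ortho hq hF t ht ht2 wt hwt htw w h0
  have h2 : t * x * t⁻¹ = x := by
    apply invol_unique hq hF _ _ (conj_ne_one hx1 t) (conj_sq hx2 t) hx1 hx2 w hww _ hxw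
    rw [inv_of_sq ht2, av_mul, av_mul, h1, av_neg', hxw, av_neg', h1, neg_neg]
  show t * x = x * t
  calc t * x = (t * x * t⁻¹) * t := by group
    _ = x * t := by rw [h2]

/-- Distinct commuting involutions have orthogonal fixed vectors. -/
theorem ortho_of_commute (hq : Odd q) (hF : Fintype.card F = q ^ 2) (t x : ↥(Cfsg.SU 3 F q))
    (ht : t ≠ 1) (ht2 : t * t = 1) (hx1 : x ≠ 1) (hx2 : x * x = 1)
    (wt w : Fin 3 → F) (hwt : hermForm 3 F q wt wt = 1) (htw : av t wt = wt)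
    (hxw : av x w = w) (hc : Commute t x) (hne : x ≠ t) :
    hermForm 3 F q w wt = 0 :=
  (ortho_of_eigen hq hF x w wt hxw
    (comm_neg hq hF t x ht ht2 hx1 hx2 hc hne wt hwt htw)).1

theorem norm_proj (hF : Fintype.card F = q ^ 2) (wt w : Fin 3 → F)
    (hwt : hermForm 3 F q wt wt = 1) (hww : hermForm 3 F q w w = 1) :
    hermForm 3 F q (w - hermForm 3 F q w wt • wt) (w - hermForm 3 F q w wt • wt) =
      1 - hermForm 3 F q w wt * hermForm 3 F q w wt ^ q := by
  rw [herm_sub_left', herm_sub_right hF, herm_sub_right hF, herm_smul_left, herm_smul_left,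
    herm_smul_right, herm_smul_right, hwt, hww, ← herm_conj hF w wt]
  ring

theorem mul_invol {G : Type*} [Group G] {t y : G} (ht2 : t * t = 1) (hy2 : y * y = 1)
    (hty : Commute t y) (hne : y ≠ t) : t * y ≠ 1 ∧ (t * y) * (t * y) = 1 := by
  constructor
  · intro h
    apply hne
    have : y = t⁻¹ := eq_inv_of_mul_eq_one_right h
    rw [this]
    exact inv_eq_of_mul_eq_one_left ht2
  · have : t * y * (t * y) = t * (y * t) * y := by group
    rw [this, ← hty.eq]
    have : t * (t * y) * y = (t * t) * (y * y) := by group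
    rw [this, ht2, hy2, one_mul]

/-- If two non-commuting involutions have a common commuting involution, the norm of the
inner product of their fixed vectors is not one. -/
theorem norm_ne_one_of_common (hq : Odd q) (hF : Fintype.card F = q ^ 2)
    (t x y : ↥(Cfsg.SU 3 F q))
    (ht : t ≠ 1) (ht2 : t * t = 1) (hx1 : x ≠ 1) (hx2 : x * x = 1) (hy1 : y ≠ 1) (hy2 : y * y = 1)
    (wt w : Fin 3 → F) (hwt : hermForm 3 F q wt wt = 1) (htw : av t wt = wt)
    (hww : hermForm 3 F q w w = 1) (hxw : av x w = w)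
    (hty : Commute t y) (hyx : Commute y x) (hntx : ¬ Commute t x) :
    hermForm 3 F q w wt * hermForm 3 F q w wt ^ q ≠ 1 := by
  intro hN
  have hyt : y ≠ t := by
    rintro rfl
    exact hntx hyx
  have hyx' : y ≠ x := by
    rintro rfl
    exact hntx hty
  have h1 : av y wt = -wt := comm_neg hq hF t y ht ht2 hy1 hy2 hty hyt wt hwt htw
  have h2 : av y w = -w := comm_neg hq hF x y hx1 hx2 hy1 hy2 hyx.symm hyx' w hww hxw
  have h7 := norm_proj hF wt w hwt hww
  rw [hN, sub_self] at h7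
  set a := hermForm 3 F q w wt with ha
  set w' := w - a • wt with hw'
  have h3 : hermForm 3 F q w' wt = 0 := by
    rw [hw', herm_sub_left', herm_smul_left, hwt, mul_one, sub_self]
  have h4 : av t w' = -w' := neg_of_ortho hq hF t ht ht2 wt hwt htw w' h3
  have h5 : av y w' = -w' := by
    rw [hw', sub_eq_add_neg, av_add, av_neg', av_smul, h1, h2, smul_neg]
    abel
  have h6 : av (t * y) w' = w' := by rw [av_mul, h5, av_neg', h4, neg_neg]
  obtain ⟨hty1, hty2⟩ := mul_invol ht2 hy2 hty hyt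
  obtain ⟨wz, hwz, -, hgen, -⟩ := invol_struct hq hF (t * y) hty1 hty2
  obtain ⟨c, hc⟩ := hgen w' h6
  rw [hc, herm_smul_left, herm_smul_right, hwz, mul_one] at h7
  have hc0 : c = 0 := by
    rcases mul_eq_zero.mp h7 with h | h
    · exact h
    · exact (pow_eq_zero_iff (q_pos hF).ne').mp h
  have h8 : w = a • wt := by
    rw [hc0, zero_smul] at hc
    exact sub_eq_zero.mp hc
  have h9 : av t w = w := by rw [h8, av_smul, htw]
  have : x = t := invol_unique hq hF x t hx1 hx2 ht ht2 w hww hxw h9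
  exact hntx (this ▸ Commute.refl t)

/-- The hermitian cross product. -/
def cross (q : ℕ) (a b : Fin 3 → F) : Fin 3 → F :=
  ![a 1 ^ q * b 2 ^ q - a 2 ^ q * b 1 ^ q, a 2 ^ q * b 0 ^ q - a 0 ^ q * b 2 ^ q,
    a 0 ^ q * b 1 ^ q - a 1 ^ q * b 0 ^ q]

theorem cross_left (a b : Fin 3 → F) : hermForm 3 F q (cross q a b) a = 0 := by
  simp [hermForm, Fin.sum_univ_three, cross]
  ring

theorem cross_right (a b : Fin 3 → F) : hermForm 3 F q (cross q a b) b = 0 := by
  simp [hermForm, Fin.sum_univ_three, cross]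
  ring

theorem cross_norm (hF : Fintype.card F = q ^ 2) (a b : Fin 3 → F) :
    hermForm 3 F q (cross q a b) (cross q a b) =
      hermForm 3 F q a a * hermForm 3 F q b b - hermForm 3 F q b a * hermForm 3 F q b a ^ q := by
  rw [herm_conj hF b a]
  simp only [hermForm, Fin.sum_univ_three, cross, Matrix.cons_val_zero, Matrix.cons_val_one,
    Matrix.cons_val_two, Matrix.head_cons, Matrix.tail_cons, sub_pow_q hF, mul_pow, pow_q_q hF]
  ring

/-- If the norm of the inner product of the fixed vectors is not one, there is a common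
commuting involution. -/
theorem exists_common (hq : Odd q) (hF : Fintype.card F = q ^ 2)
    (t x : ↥(Cfsg.SU 3 F q))
    (ht : t ≠ 1) (ht2 : t * t = 1) (hx1 : x ≠ 1) (hx2 : x * x = 1)
    (wt w : Fin 3 → F) (hwt : hermForm 3 F q wt wt = 1) (htw : av t wt = wt)
    (hww : hermForm 3 F q w w = 1) (hxw : av x w = w)
    (hN : hermForm 3 F q w wt * hermForm 3 F q w wt ^ q ≠ 1) :
    ∃ y : ↥(Cfsg.SU 3 F q), y ≠ 1 ∧ y * y = 1 ∧ Commute t y ∧ Commute y x := by
  set u := cross q wt w with hu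
  have h1 : hermForm 3 F q u wt = 0 := cross_left wt w
  have h2 : hermForm 3 F q u w = 0 := cross_right wt w
  have h3 : hermForm 3 F q u u = 1 - hermForm 3 F q w wt * hermForm 3 F q w wt ^ q := by
    rw [hu, cross_norm hF, hwt, hww, one_mul]
  set m := hermForm 3 F q u u with hm
  have hm0 : m ≠ 0 := by
    rw [h3]
    intro h
    exact hN (sub_eq_zero.mp h).symm
  have hmq : m⁻¹ ^ q = m⁻¹ := by rw [inv_pow, hm, herm_self_fixed hF]
  obtain ⟨μ, hμ⟩ := exists_norm_any hF m⁻¹ hmq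
  have h4 : hermForm 3 F q (μ • u) (μ • u) = 1 := by
    rw [herm_smul_left, herm_smul_right, ← hm, ← mul_assoc, hμ, inv_mul_cancel₀ hm0]
  obtain ⟨g, hg⟩ := exists_invol_fixing hq hF t ht ht2 (μ • u) h4
  have hy1 := conj_ne_one ht g
  have hy2 := conj_sq ht2 g
  refine ⟨g * t * g⁻¹, hy1, hy2, ?_, ?_⟩
  · exact commute_of_ortho hq hF t _ ht ht2 hy1 hy2 wt (μ • u) hwt htw h4 hg
      (by rw [herm_smul_left, h1, mul_zero])
  · refine commute_of_ortho hq hF _ x hy1 hy2 hx1 hx2 (μ • u) w h4 hg hww hxw ?_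
    have h5 := herm_conj hF u w
    rw [h2, zero_pow (q_pos hF).ne'] at h5
    rw [herm_smul_right, ← h5, mul_zero]

/-! ### Counting -/

theorem card_split {α : Type*} [Finite α] (p r : α → Prop) :
    Nat.card {x // p x} = Nat.card {x // p x ∧ r x} + Nat.card {x // p x ∧ ¬ r x} := by
  classical
  rw [← Nat.card_congr (Equiv.sumCompl (fun x : {x // p x} => r x.1)), Nat.card_sum]
  congr 1
  · exact Nat.card_congr (Equiv.subtypeSubtypeEquivSubtypeInter p r)
  · exact Nat.card_congr (Equiv.subtypeSubtypeEquivSubtypeInter p (fun x => ¬ r x))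

/-- Counting involutions through their fixed vectors of norm one. -/
theorem card_transfer (hq : Odd q) (hF : Fintype.card F = q ^ 2) (t : ↥(Cfsg.SU 3 F q))
    (ht : t ≠ 1) (ht2 : t * t = 1)
    (P : ↥(Cfsg.SU 3 F q) → Prop) (Q : (Fin 3 → F) → Prop)
    (hPQ : ∀ x : ↥(Cfsg.SU 3 F q), x ≠ 1 → x * x = 1 → ∀ w, hermForm 3 F q w w = 1 →
      av x w = w → (P x ↔ Q w)) :
    Nat.card {w : Fin 3 → F // hermForm 3 F q w w = 1 ∧ Q w} =
      Nat.card {x : ↥(Cfsg.SU 3 F q) // (x ≠ 1 ∧ x * x = 1) ∧ P x} * (q + 1) := by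
  have hfin := finite_SU3 (F := F) (q := q)
  have hex : ∀ w : {w : Fin 3 → F // hermForm 3 F q w w = 1 ∧ Q w},
      ∃ g : ↥(Cfsg.SU 3 F q), av (g * t * g⁻¹) w.1 = w.1 :=
    fun w => exists_invol_fixing hq hF t ht ht2 w.1 w.2.1
  choose g hg using hex
  apply Cfsg.Agent.Lib.Helper14.card_eq_mul_of_fibers
    (fun w : {w : Fin 3 → F // hermForm 3 F q w w = 1 ∧ Q w} =>
      (⟨g w * t * (g w)⁻¹, ⟨conj_ne_one ht (g w), conj_sq ht2 (g w)⟩,
        (hPQ _ (conj_ne_one ht (g w)) (conj_sq ht2 (g w)) w.1 w.2.1 (hg w)).mpr w.2.2⟩ :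
        {x : ↥(Cfsg.SU 3 F q) // (x ≠ 1 ∧ x * x = 1) ∧ P x}))
  intro x
  rw [← card_fixed_norm_one hq hF x.1 x.2.1.1 x.2.1.2]
  refine Nat.card_congr
    ⟨fun w => ⟨⟨w.1.1, w.1.2.1⟩, ?_⟩,
      fun w => ⟨⟨w.1.1, w.1.2, (hPQ x.1 x.2.1.1 x.2.1.2 w.1.1 w.1.2 w.2).mp x.2.2⟩, ?_⟩,
      ?_, ?_⟩
  · have h1 : g w.1 * t * (g w.1)⁻¹ = x.1 := congrArg Subtype.val w.2
    show av x.1 w.1.1 = w.1.1
    rw [← h1]
    exact hg w.1
  · apply Subtype.ext
    exact invol_unique hq hF _ _ (conj_ne_one ht _) (conj_sq ht2 _) x.2.1.1 x.2.1.2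
      w.1.1 w.1.2 (hg _) w.2
  · intro w
    rfl
  · intro w
    rfl

/-- The action of an isometry as a permutation of the vectors. -/
def avEquiv (g : ↥(Cfsg.SU 3 F q)) : (Fin 3 → F) ≃ (Fin 3 → F) :=
  ⟨av g, av g⁻¹, av_inv_av g, av_av_inv g⟩

theorem exists_to_e0 (hq : Odd q) (hF : Fintype.card F = q ^ 2) (wt : Fin 3 → F)
    (hwt : hermForm 3 F q wt wt = 1) :
    ∃ g : ↥(Cfsg.SU 3 F q), av g wt = Pi.single 0 1 := by
  have he : hermForm 3 F q (Pi.single 0 1 : Fin 3 → F) (Pi.single 0 1) = 1 := by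
    rw [herm_single_right hF]
    simp
  obtain ⟨g, -, hg⟩ := rel_norm_one hF (by norm_num) (q_ne_two hq) wt _ hwt he
  exact ⟨g, hg⟩

theorem herm_to_e0 (hF : Fintype.card F = q ^ 2) (g : ↥(Cfsg.SU 3 F q)) (wt : Fin 3 → F)
    (hg : av g wt = Pi.single 0 1) (w : Fin 3 → F) :
    hermForm 3 F q w wt = av g w 0 := by
  rw [← herm_av g, hg, herm_single_right hF]

theorem card_ortho (hq : Odd q) (hF : Fintype.card F = q ^ 2) (wt : Fin 3 → F)
    (hwt : hermForm 3 F q wt wt = 1) :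
    Nat.card {w : Fin 3 → F // hermForm 3 F q w w = 1 ∧ hermForm 3 F q w wt = 0} =
      q * (q ^ 2 - 1) := by
  obtain ⟨g, hg⟩ := exists_to_e0 hq hF wt hwt
  have e1 : {w : Fin 3 → F // hermForm 3 F q w w = 1 ∧ hermForm 3 F q w wt = 0} ≃
      {w : Fin 3 → F // hermForm 3 F q w w = 1 ∧ w 0 = 0} :=
    (avEquiv g).subtypeEquiv (fun w => by
      show _ ↔ hermForm 3 F q (av g w) (av g w) = 1 ∧ av g w 0 = 0
      rw [herm_av, herm_to_e0 hF g wt hg])
  have e2 : {w : Fin 3 → F // hermForm 3 F q w w = 1 ∧ w 0 = 0} ≃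
      {v : Fin 2 → F // hermForm 2 F q v v = 1} :=
    { toFun := fun w => ⟨Fin.tail w.1, by
        have h1 := w.2.1
        rw [herm_succ, w.2.2, zero_mul, zero_add] at h1
        exact h1⟩
      invFun := fun v => ⟨Fin.cons 0 v.1, by
        rw [herm_succ]
        simp only [Fin.cons_zero, Fin.tail_cons, zero_mul, zero_add]
        exact ⟨v.2, trivial⟩⟩
      left_inv := fun w => by
        apply Subtype.ext
        show Fin.cons 0 (Fin.tail w.1) = w.1
        have h1 := Fin.cons_self_tail w.1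
        rw [w.2.2] at h1
        exact h1
      right_inv := fun v => by
        apply Subtype.ext
        show Fin.tail (Fin.cons (0 : F) v.1 : Fin 3 → F) = v.1
        exact Fin.tail_cons _ _ }
  rw [Nat.card_congr e1, Nat.card_congr e2]
  obtain ⟨z, s, -, hs, -, -, hqs⟩ := normCount_formula hF 2
  have h1 := hs 1 one_ne_zero (one_pow q)
  unfold normCount at h1
  have hq0 : (q : ℤ) ≠ 0 := by
    have := q_pos hF
    exact_mod_cast this.ne'
  have hq1 : 1 ≤ q ^ 2 := Nat.one_le_pow _ _ (q_pos hF)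
  have h2 : (q : ℤ) * s = (q : ℤ) * ((q : ℤ) * ((q : ℤ) ^ 2 - 1)) := by
    rw [hqs]
    ring
  have h3 := mul_left_cancel₀ hq0 h2
  rw [h3] at h1
  zify [hq1]
  exact h1

theorem tail_eq_zero_iff (w : Fin 3 → F) :
    w = w 0 • (Pi.single 0 1 : Fin 3 → F) ↔ Fin.tail w = 0 := by
  constructor
  · intro h
    funext i
    have h1 := congrFun h i.succ
    simp only [Pi.smul_apply, smul_eq_mul, Pi.single_apply, Fin.succ_ne_zero, if_false,
      mul_zero] at h1
    exact h1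
  · intro h
    funext i
    refine Fin.cases ?_ ?_ i
    · simp
    · intro j
      have h1 := congrFun h j
      simp only [Fin.tail, Pi.zero_apply] at h1
      simp [h1, Fin.succ_ne_zero]

theorem card_iso_two (hF : Fintype.card F = q ^ 2) :
    isoNZ 2 F q = (q + 1) * (q ^ 2 - 1) := by
  have h0 := normCount_zero_eq (n := 2) hF
  obtain ⟨z, s, hz, -, -, hqz, -⟩ := normCount_formula hF 2
  have hq0 : (q : ℤ) ≠ 0 := by
    have := q_pos hF
    exact_mod_cast this.ne'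
  have hq1 : 1 ≤ q ^ 2 := Nat.one_le_pow _ _ (q_pos hF)
  have h2 : (q : ℤ) * z = (q : ℤ) * (((q : ℤ) + 1) * ((q : ℤ) ^ 2 - 1) + 1) := by
    rw [hqz]
    ring
  have h3 := mul_left_cancel₀ hq0 h2
  rw [h0, h3] at hz
  zify [hq1]
  push_cast at hz
  linarith

theorem card_far (hq : Odd q) (hF : Fintype.card F = q ^ 2) (wt : Fin 3 → F)
    (hwt : hermForm 3 F q wt wt = 1) :
    Nat.card {w : Fin 3 → F // hermForm 3 F q w w = 1 ∧
        (hermForm 3 F q w wt * hermForm 3 F q w wt ^ q = 1 ∧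
          w ≠ hermForm 3 F q w wt • wt)} = (q + 1) * ((q + 1) * (q ^ 2 - 1)) := by
  obtain ⟨g, hg⟩ := exists_to_e0 hq hF wt hwt
  have e1 : {w : Fin 3 → F // hermForm 3 F q w w = 1 ∧
        (hermForm 3 F q w wt * hermForm 3 F q w wt ^ q = 1 ∧
          w ≠ hermForm 3 F q w wt • wt)} ≃
      {w : Fin 3 → F // hermForm 3 F q w w = 1 ∧ (w 0 * w 0 ^ q = 1 ∧
        w ≠ w 0 • (Pi.single 0 1 : Fin 3 → F))} :=
    (avEquiv g).subtypeEquiv (fun w => by
      show _ ↔ hermForm 3 F q (av g w) (av g w) = 1 ∧ (av g w 0 * av g w 0 ^ q = 1 ∧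
        av g w ≠ av g w 0 • (Pi.single 0 1 : Fin 3 → F))
      rw [herm_av, herm_to_e0 hF g wt hg, ← hg, ← av_smul]
      have h1 : w = av g w 0 • wt ↔ av g w = av g (av g w 0 • wt) :=
        ⟨fun h => congrArg (av g) h, fun h => by
          have h2 := congrArg (av g⁻¹) h
          rwa [av_inv_av, av_inv_av] at h2⟩
      rw [Ne, Ne, h1])
  have e2 : {w : Fin 3 → F // hermForm 3 F q w w = 1 ∧ (w 0 * w 0 ^ q = 1 ∧
        w ≠ w 0 • (Pi.single 0 1 : Fin 3 → F))} ≃
      {c : F // c ^ (q + 1) = 1} × {v : Fin 2 → F // v ≠ 0 ∧ hermForm 2 F q v v = 0} :=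
    { toFun := fun w => (⟨w.1 0, by rw [pow_succ']; exact w.2.2.1⟩,
        ⟨Fin.tail w.1, fun h => w.2.2.2 ((tail_eq_zero_iff w.1).mpr h), by
          have h1 := w.2.1
          rw [herm_succ, w.2.2.1] at h1
          exact add_eq_left.mp h1⟩)
      invFun := fun p => ⟨Fin.cons p.1.1 p.2.1, by
        have hc := p.1.2
        rw [pow_succ'] at hc
        refine ⟨?_, ?_, ?_⟩
        · rw [herm_succ]
          simp only [Fin.cons_zero, Fin.tail_cons]
          rw [hc, p.2.2.2, add_zero]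
        · simp only [Fin.cons_zero]
          exact hc
        · intro h
          apply p.2.2.1
          have h1 := (tail_eq_zero_iff _).mp h
          rw [Fin.tail_cons] at h1
          exact h1⟩
      left_inv := fun w => by
        apply Subtype.ext
        exact Fin.cons_self_tail w.1
      right_inv := fun p => by
        apply Prod.ext
        · apply Subtype.ext
          show (Fin.cons p.1.1 p.2.1 : Fin 3 → F) 0 = p.1.1
          exact Fin.cons_zero _ _
        · apply Subtype.ext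
          show Fin.tail (Fin.cons p.1.1 p.2.1 : Fin 3 → F) = p.2.1
          exact Fin.tail_cons _ _ }
  rw [Nat.card_congr e1, Nat.card_congr e2, Nat.card_prod,
    card_norm_fiber hF 1 one_ne_zero (one_pow q)]
  congr 1
  exact card_iso_two hF

/-- An involution at distance three can be reached in three steps. -/
theorem exists_path (hq : Odd q) (hF : Fintype.card F = q ^ 2)
    (t x : ↥(Cfsg.SU 3 F q))
    (ht : t ≠ 1) (ht2 : t * t = 1) (hx1 : x ≠ 1) (hx2 : x * x = 1)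
    (wt w : Fin 3 → F) (hwt : hermForm 3 F q wt wt = 1) (htw : av t wt = wt)
    (hww : hermForm 3 F q w w = 1) (hxw : av x w = w)
    (hN : hermForm 3 F q w wt * hermForm 3 F q w wt ^ q = 1) :
    ∃ y z : ↥(Cfsg.SU 3 F q), y ≠ 1 ∧ y * y = 1 ∧ z ≠ 1 ∧ z * z = 1 ∧
      Commute t y ∧ Commute y z ∧ Commute z x := by
  have h2 := two_ne_zero_F hq hF
  obtain ⟨g, hg⟩ := exists_to_e0 hq hF wt hwt
  set v := av g w with hv
  have hvv : hermForm 3 F q v v = 1 := by rw [hv, herm_av, hww]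
  have hv0 : v 0 * v 0 ^ q = 1 := by
    rw [hv, ← herm_to_e0 hF g wt hg]
    exact hN
  have hsum : v 1 * v 1 ^ q + v 2 * v 2 ^ q = 0 := by
    simp only [hermForm, Fin.sum_univ_three] at hvv
    rw [hv0] at hvv
    linear_combination hvv
  have hex : ∃ i : Fin 3, i ≠ 0 ∧ v i * v i ^ q ≠ 1 := by
    by_contra hcon
    push Not at hcon
    have h3 := hcon 1 (by decide)
    have h4 := hcon 2 (by decide)
    rw [h3, h4] at hsum
    apply h2
    rw [← hsum]
    norm_num
  obtain ⟨i, hi0, hi⟩ := hex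
  set u := av g⁻¹ (Pi.single i 1) with hu
  have hgu : av g u = Pi.single i 1 := by rw [hu, av_av_inv]
  have huu : hermForm 3 F q u u = 1 := by
    rw [← herm_av g, hgu, herm_single_right hF]
    simp
  have huwt : hermForm 3 F q u wt = 0 := by
    rw [herm_to_e0 hF g wt hg, hgu]
    simp [hi0]
  have hwu : hermForm 3 F q w u = v i := by
    rw [← herm_av g, hgu, herm_single_right hF]
  obtain ⟨k, hk⟩ := exists_invol_fixing hq hF t ht ht2 u huu
  have hy1 := conj_ne_one ht k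
  have hy2 := conj_sq ht2 k
  have hty : Commute t (k * t * k⁻¹) :=
    commute_of_ortho hq hF t _ ht ht2 hy1 hy2 wt u hwt htw huu hk huwt
  obtain ⟨z, hz1, hz2, hyz, hzx⟩ := exists_common hq hF (k * t * k⁻¹) x hy1 hy2 hx1 hx2
    u w huu hk hww hxw (by rw [hwu]; exact hi)
  exact ⟨k * t * k⁻¹, z, hy1, hy2, hz1, hz2, hty, hyz, hzx⟩

theorem arith (q n : ℕ) (h3 : 3 ≤ q)
    (h : q ^ 2 * (q ^ 2 - q + 1) = (1 + q * (q - 1)) + (n + (q + 1) * (q ^ 2 - 1))) :
    n = q * (q - 2) * (q ^ 2 - 1) := by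
  have h1 : 1 ≤ q := by omega
  have h2 : 2 ≤ q := by omega
  have hq1 : 1 ≤ q ^ 2 := Nat.one_le_pow _ _ (by omega)
  have hqq : q ≤ q ^ 2 := Nat.le_self_pow two_ne_zero q
  zify [h1, h2, hq1, hqq] at h ⊢
  linear_combination (-1 : ℤ) * h

/-- Let q be odd, F the field with q² elements, S = SU_3(F) (determinant-one isometries of the standard Hermitian form) and t an involution of S. Then: exactly q(q−1) involutions other than t commute with t; exactly q(q−2)(q²−1) involutions do not commute with t but commute with some involution commuting with t; exactly (q+1)(q²−1) involutions x do not commute with t and admit no involution commuting with both t and x; and every involution can be reached from t in at most three steps, each step going to an involution that commutes with the previous one (the commuting involution graph is connected of diameter 3). -/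
theorem result {F : Type*} [Field F] [Fintype F] {q : ℕ} (hq : Odd q)
    (hF : Fintype.card F = q ^ 2) (t : ↥(Cfsg.SU 3 F q)) (ht : t ≠ 1) (ht2 : t * t = 1) :
    Nat.card {x : ↥(Cfsg.SU 3 F q) // x ≠ 1 ∧ x * x = 1 ∧ x ≠ t ∧ Commute t x} = q * (q - 1) ∧
    Nat.card {x : ↥(Cfsg.SU 3 F q) // x ≠ 1 ∧ x * x = 1 ∧ ¬ Commute t x ∧
        ∃ y : ↥(Cfsg.SU 3 F q), y ≠ 1 ∧ y * y = 1 ∧ Commute t y ∧ Commute y x} = q * (q - 2) * (q ^ 2 - 1) ∧
    Nat.card {x : ↥(Cfsg.SU 3 F q) // x ≠ 1 ∧ x * x = 1 ∧ ¬ Commute t x ∧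
        ∀ y : ↥(Cfsg.SU 3 F q), y ≠ 1 → y * y = 1 → ¬ (Commute t y ∧ Commute y x)} = (q + 1) * (q ^ 2 - 1) ∧
    ∀ x : ↥(Cfsg.SU 3 F q), x ≠ 1 → x * x = 1 →
      ∃ y z : ↥(Cfsg.SU 3 F q), y ≠ 1 ∧ y * y = 1 ∧ z ≠ 1 ∧ z * z = 1 ∧
        Commute t y ∧ Commute y z ∧ Commute z x := by
  have hfin := finite_SU3 (F := F) (q := q)
  obtain ⟨wt, hwt, htw, hgen, -⟩ := invol_struct hq hF t ht ht2
  have hq3 : 3 ≤ q := by
    have h1 : 1 < Fintype.card F := Fintype.one_lt_card
    rw [hF] at h1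
    obtain ⟨k, rfl⟩ := hq
    rcases k with _ | k
    · simp at h1
    · omega
  have hq1 : 1 ≤ q ^ 2 := Nat.one_le_pow _ _ (by omega)
  have key_eq : ∀ x : ↥(Cfsg.SU 3 F q), x ≠ 1 → x * x = 1 → ∀ w, hermForm 3 F q w w = 1 →
      av x w = w → (x = t ↔ w = hermForm 3 F q w wt • wt) := by
    intro x hx1 hx2 w hww hxw
    constructor
    · rintro rfl
      obtain ⟨c, rfl⟩ := hgen w hxw
      rw [herm_smul_left, hwt, mul_one]
    · intro h
      apply invol_unique hq hF x t hx1 hx2 ht ht2 w hww hxw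
      rw [h, av_smul, htw]
  -- the neighbours of `t`
  have c1 : Nat.card {x : ↥(Cfsg.SU 3 F q) // x ≠ 1 ∧ x * x = 1 ∧ x ≠ t ∧ Commute t x} =
      q * (q - 1) := by
    have h1 := card_transfer hq hF t ht ht2 (fun x => x ≠ t ∧ Commute t x)
      (fun w => hermForm 3 F q w wt = 0) (by
        intro x hx1 hx2 w hww hxw
        constructor
        · rintro ⟨hne, hc⟩
          exact ortho_of_commute hq hF t x ht ht2 hx1 hx2 wt w hwt htw hxw hc hne
        · intro h0
          refine ⟨?_, commute_of_ortho hq hF t x ht ht2 hx1 hx2 wt w hwt htw hww hxw h0⟩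
          intro hxt
          have h2 := (key_eq x hx1 hx2 w hww hxw).mp hxt
          rw [h0, zero_smul] at h2
          rw [h2, herm_zero_left] at hww
          exact zero_ne_one hww)
    rw [card_ortho hq hF wt hwt] at h1
    have e : {x : ↥(Cfsg.SU 3 F q) // (x ≠ 1 ∧ x * x = 1) ∧ (x ≠ t ∧ Commute t x)} ≃
        {x : ↥(Cfsg.SU 3 F q) // x ≠ 1 ∧ x * x = 1 ∧ x ≠ t ∧ Commute t x} :=
      Equiv.subtypeEquivRight (fun x => and_assoc)
    rw [Nat.card_congr e] at h1
    have h2 : q * (q - 1) * (q + 1) = q * (q ^ 2 - 1) := by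
      have h1' : 1 ≤ q := by omega
      zify [h1', hq1]
      ring
    exact (Nat.eq_of_mul_eq_mul_right (by omega) (h2.trans h1)).symm
  -- the involutions at distance three
  have c3 : Nat.card {x : ↥(Cfsg.SU 3 F q) // x ≠ 1 ∧ x * x = 1 ∧ ¬ Commute t x ∧
      ∀ y : ↥(Cfsg.SU 3 F q), y ≠ 1 → y * y = 1 → ¬ (Commute t y ∧ Commute y x)} =
      (q + 1) * (q ^ 2 - 1) := by
    have h1 := card_transfer hq hF t ht ht2
      (fun x => ¬ Commute t x ∧
        ∀ y : ↥(Cfsg.SU 3 F q), y ≠ 1 → y * y = 1 → ¬ (Commute t y ∧ Commute y x))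
      (fun w => hermForm 3 F q w wt * hermForm 3 F q w wt ^ q = 1 ∧
          w ≠ hermForm 3 F q w wt • wt) (by
        intro x hx1 hx2 w hww hxw
        constructor
        · rintro ⟨hnc, hall⟩
          constructor
          · by_contra hN
            obtain ⟨y, hy1, hy2, h1, h2⟩ :=
              exists_common hq hF t x ht ht2 hx1 hx2 wt w hwt htw hww hxw hN
            exact hall y hy1 hy2 ⟨h1, h2⟩
          · intro h
            have h2 := (key_eq x hx1 hx2 w hww hxw).mpr h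
            exact hnc (h2 ▸ Commute.refl t)
        · rintro ⟨hN, hne⟩
          have hxt : x ≠ t := fun h => hne ((key_eq x hx1 hx2 w hww hxw).mp h)
          have hnc : ¬ Commute t x := by
            intro hc
            have h0 := ortho_of_commute hq hF t x ht ht2 hx1 hx2 wt w hwt htw hxw hc hxt
            rw [h0, zero_mul] at hN
            exact zero_ne_one hN
          refine ⟨hnc, ?_⟩
          rintro y hy1 hy2 ⟨h1, h2⟩
          exact norm_ne_one_of_common hq hF t x y ht ht2 hx1 hx2 hy1 hy2 wt w hwt htw hww hxw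
            h1 h2 hnc hN)
    rw [card_far hq hF wt hwt] at h1
    have e : {x : ↥(Cfsg.SU 3 F q) // (x ≠ 1 ∧ x * x = 1) ∧ (¬ Commute t x ∧
        ∀ y : ↥(Cfsg.SU 3 F q), y ≠ 1 → y * y = 1 → ¬ (Commute t y ∧ Commute y x))} ≃
        {x : ↥(Cfsg.SU 3 F q) // x ≠ 1 ∧ x * x = 1 ∧ ¬ Commute t x ∧
          ∀ y : ↥(Cfsg.SU 3 F q), y ≠ 1 → y * y = 1 → ¬ (Commute t y ∧ Commute y x)} :=
      Equiv.subtypeEquivRight (fun x => and_assoc)
    rw [Nat.card_congr e, mul_comm (q + 1) ((q + 1) * (q ^ 2 - 1))] at h1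
    exact (Nat.eq_of_mul_eq_mul_right (by omega) h1).symm
  -- the involutions at distance two, by complement
  have c2 : Nat.card {x : ↥(Cfsg.SU 3 F q) // x ≠ 1 ∧ x * x = 1 ∧ ¬ Commute t x ∧
      ∃ y : ↥(Cfsg.SU 3 F q), y ≠ 1 ∧ y * y = 1 ∧ Commute t y ∧ Commute y x} =
      q * (q - 2) * (q ^ 2 - 1) := by
    have hI := card_invol hq hF t ht ht2
    have s1 := card_split (fun x : ↥(Cfsg.SU 3 F q) => x ≠ 1 ∧ x * x = 1)
      (fun x => Commute t x)
    have s2 := card_split (fun x : ↥(Cfsg.SU 3 F q) => (x ≠ 1 ∧ x * x = 1) ∧ Commute t x)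
      (fun x => x = t)
    have s3 := card_split (fun x : ↥(Cfsg.SU 3 F q) => (x ≠ 1 ∧ x * x = 1) ∧ ¬ Commute t x)
      (fun x => ∃ y : ↥(Cfsg.SU 3 F q), y ≠ 1 ∧ y * y = 1 ∧ Commute t y ∧ Commute y x)
    have e0 : Nat.card {x : ↥(Cfsg.SU 3 F q) // ((x ≠ 1 ∧ x * x = 1) ∧ Commute t x) ∧ x = t} =
        1 := by
      rw [Nat.card_eq_one_iff_unique]
      exact ⟨⟨fun a b => Subtype.ext (a.2.2.trans b.2.2.symm)⟩,
        ⟨⟨t, ⟨⟨ht, ht2⟩, Commute.refl t⟩, rfl⟩⟩⟩
    have e1 : {x : ↥(Cfsg.SU 3 F q) // ((x ≠ 1 ∧ x * x = 1) ∧ Commute t x) ∧ ¬ x = t} ≃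
        {x : ↥(Cfsg.SU 3 F q) // x ≠ 1 ∧ x * x = 1 ∧ x ≠ t ∧ Commute t x} :=
      Equiv.subtypeEquivRight (fun x => by
        constructor
        · rintro ⟨⟨⟨h1, h2⟩, h3⟩, h4⟩
          exact ⟨h1, h2, h4, h3⟩
        · rintro ⟨h1, h2, h4, h3⟩
          exact ⟨⟨⟨h1, h2⟩, h3⟩, h4⟩)
    have e2 : {x : ↥(Cfsg.SU 3 F q) // ((x ≠ 1 ∧ x * x = 1) ∧ ¬ Commute t x) ∧
        ∃ y : ↥(Cfsg.SU 3 F q), y ≠ 1 ∧ y * y = 1 ∧ Commute t y ∧ Commute y x} ≃
        {x : ↥(Cfsg.SU 3 F q) // x ≠ 1 ∧ x * x = 1 ∧ ¬ Commute t x ∧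
          ∃ y : ↥(Cfsg.SU 3 F q), y ≠ 1 ∧ y * y = 1 ∧ Commute t y ∧ Commute y x} :=
      Equiv.subtypeEquivRight (fun x => by rw [and_assoc, and_assoc])
    have e3 : {x : ↥(Cfsg.SU 3 F q) // ((x ≠ 1 ∧ x * x = 1) ∧ ¬ Commute t x) ∧
        ¬ ∃ y : ↥(Cfsg.SU 3 F q), y ≠ 1 ∧ y * y = 1 ∧ Commute t y ∧ Commute y x} ≃
        {x : ↥(Cfsg.SU 3 F q) // x ≠ 1 ∧ x * x = 1 ∧ ¬ Commute t x ∧
          ∀ y : ↥(Cfsg.SU 3 F q), y ≠ 1 → y * y = 1 → ¬ (Commute t y ∧ Commute y x)} :=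
      Equiv.subtypeEquivRight (fun x => by
        constructor
        · rintro ⟨⟨⟨h1, h2⟩, h3⟩, h4⟩
          refine ⟨h1, h2, h3, ?_⟩
          rintro y hy1 hy2 ⟨a, b⟩
          exact h4 ⟨y, hy1, hy2, a, b⟩
        · rintro ⟨h1, h2, h3, h4⟩
          refine ⟨⟨⟨h1, h2⟩, h3⟩, ?_⟩
          rintro ⟨y, hy1, hy2, a, b⟩
          exact h4 y hy1 hy2 ⟨a, b⟩)
    rw [e0, Nat.card_congr e1, c1] at s2
    rw [Nat.card_congr e2, Nat.card_congr e3, c3] at s3
    rw [hI, s2, s3] at s1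
    exact arith q _ hq3 s1
  refine ⟨c1, c2, c3, ?_⟩
  intro x hx1 hx2
  obtain ⟨w, hww, hxw, -, -⟩ := invol_struct hq hF x hx1 hx2
  by_cases hc : Commute t x
  · exact ⟨t, t, ht, ht2, ht, ht2, Commute.refl t, Commute.refl t, hc⟩
  by_cases hN : hermForm 3 F q w wt * hermForm 3 F q w wt ^ q = 1
  · exact exists_path hq hF t x ht ht2 hx1 hx2 wt w hwt htw hww hxw hN
  · obtain ⟨y, hy1, hy2, h1, h2⟩ :=
      exists_common hq hF t x ht ht2 hx1 hx2 wt w hwt htw hww hxw hN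
    exact ⟨y, x, hy1, hy2, hx1, hx2, h1, h2, Commute.refl x⟩

end Cfsg.Agent.S2356
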