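import Cfsg.Statements.S2362
import Cfsg.Agent.Lib.Helper15.OddSp8
import Cfsg.Agent.Lib.Helper15.OddSp9

set_option autoImplicit false
open Cfsg

namespace Cfsg.Agent.S2362

/-- Let F be a finite field of odd order and n ≥ 3. The simple orthogonal group PΩ(2n+1, F) (type B_n) and the projective symplectic group PSp(2n, F) (type C_n), which have the same order, do not have the same set of element orders. -/
theorem result {F : Type*} [Field F] [Fintype F] (hodd : Odd (Fintype.card F)) (n : ℕ) (hn : 3 ≤ n) :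
    Set.range (orderOf : Cfsg.POmega F (Cfsg.quadFormOdd n F) → ℕ) ≠ Set.range (orderOf : Cfsg.PSp n F → ℕ) := by
  classical
  obtain ⟨p, hpc⟩ := CharP.exists F
  have hp : Fact p.Prime := ⟨CharP.char_is_prime F p⟩
  obtain ⟨k, rfl⟩ : ∃ k, n = 1 + k := ⟨n - 1, by omega⟩
  have hk : 2 ≤ k := by omega
  intro heq
  obtain ⟨y, hy⟩ := Cfsg.Agent.Lib.Helper15.OddSp.exists_order_psp (F := F) p hodd k (by omega)
  have hmem : p * (Fintype.card F ^ k + 1) ∈ Set.range (orderOf : Cfsg.PSp (1 + k) F → ℕ) :=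
    ⟨y, hy⟩
  rw [← heq] at hmem
  obtain ⟨x, hx⟩ := hmem
  exact Cfsg.Agent.Lib.Helper15.OddSp.no_order_pomega_odd hodd p k hk x hx

end Cfsg.Agent.S2362
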