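import Cfsg.Statements.S2363
import Cfsg.Agent.Lib.Helper14.LieOrd3
import Cfsg.Agent.S0243
import Cfsg.Agent.S0245
import Cfsg.Agent.S0246
import Cfsg.Agent.S0280
import Cfsg.Agent.S0292
import Cfsg.Agent.S0293
import Cfsg.Agent.S0294
import Cfsg.Agent.S1059
import Cfsg.Agent.S1062
import Cfsg.Agent.S1063
import Cfsg.Agent.S1064
import Cfsg.Agent.S1065
import Cfsg.Agent.S1066
import Cfsg.Agent.S1067
import Cfsg.Agent.S1068
import Cfsg.Agent.S1069
import Cfsg.Agent.S1163

set_option autoImplicit false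
open Cfsg

namespace Cfsg.Agent.S2363

open Cfsg.Agent.Lib.Helper14.LieOrd in
/-- Let G be a finite simple group of Lie type in characteristic p and let p^k be the exact power of p dividing the order of G. Then the order of G is less than p^(3k); and unless G is isomorphic to PSL(2, F) for the field F with p^k elements, the cube of the order of G is less than p^(8k) (that is, the order is below p^(8k/3)). -/
theorem result {G : Type*} [Group G] [Finite G] (p : ℕ) (hp : p.Prime) (hG : Cfsg.IsLieTypeChar p G) :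
    Nat.card G < p ^ (3 * (Nat.card G).factorization p) ∧
      ((¬ ∃ (F : Type) (_ : Field F) (_ : Fintype F), Fintype.card F = p ^ (Nat.card G).factorization p ∧
          Nonempty (G ≃* Matrix.ProjectiveSpecialLinearGroup (Fin 2) F)) →
        Nat.card G ^ 3 < p ^ (8 * (Nat.card G).factorization p)) := by
  have hg : Nat.card G ≠ 0 := Nat.card_pos.ne'
  have key : ∀ {g : ℕ}, (g < p ^ (3 * g.factorization p) ∧ g ^ 3 < p ^ (8 * g.factorization p)) →
      g = Nat.card G →
      Nat.card G < p ^ (3 * (Nat.card G).factorization p) ∧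
      ((¬ ∃ (F : Type) (_ : Field F) (_ : Fintype F),
          Fintype.card F = p ^ (Nat.card G).factorization p ∧
          Nonempty (G ≃* Matrix.ProjectiveSpecialLinearGroup (Fin 2) F)) →
        Nat.card G ^ 3 < p ^ (8 * (Nat.card G).factorization p)) := by
    rintro g ⟨h1, h2⟩ rfl
    exact ⟨h1, fun _ => h2⟩
  have card_F : ∀ (F : Type) [Field F] [Fintype F] [CharP F p],
      ∃ f, f ≠ 0 ∧ Fintype.card F = p ^ f := by
    intro F _ _ _
    obtain ⟨n, _, hn⟩ := FiniteField.card F p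
    exact ⟨n, n.pos.ne', hn⟩
  rcases hG with h | h | h | h | h | h | h | h | h | h | h
  · -- PSL
    obtain ⟨F, _, _, _, n, hn, hn2, ⟨e⟩⟩ := h
    obtain ⟨f, hf, hF⟩ := card_F F
    have hc : Nat.card G = Nat.card (Matrix.ProjectiveSpecialLinearGroup (Fin n) F) :=
      Nat.card_congr e.toEquiv
    have h1 := Cfsg.Agent.S0243.result (F := F) hF n hn
    rw [← hc] at h1
    obtain ⟨k1, k2, k3⟩ := arith_psl hp hf hn hg h1
    refine ⟨k2, fun hno => ?_⟩
    rcases Nat.lt_or_ge n 3 with h3 | h3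
    · exfalso
      have : n = 2 := by omega
      subst this
      apply hno
      refine ⟨F, inferInstance, inferInstance, ?_, ⟨e⟩⟩
      rw [k1, hF]
      simp [Finset.sum_range_succ]
    · exact k3 h3
  · -- PSp
    obtain ⟨F, _, _, _, m, hm, _, ⟨e⟩⟩ := h
    obtain ⟨f, hf, hF⟩ := card_F F
    have hc : Nat.card G = Nat.card (PSp m F) := Nat.card_congr e.toEquiv
    have h1 := Cfsg.Agent.S0245.result (F := F) hF m
    have h2 := Cfsg.Agent.S0246.result (F := F) hF m (by omega)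
    have h3 : Nat.card (Matrix.symplecticGroup (Fin m) F) =
        Nat.card (PSp m F) * Nat.card (Subgroup.center (Matrix.symplecticGroup (Fin m) F)) :=
      Subgroup.card_eq_card_quotient_mul_card_subgroup _
    have h4 : Nat.gcd 2 (p ^ f - 1) * Nat.card G =
        (p ^ f) ^ (m ^ 2) * ∏ i ∈ Finset.range m, ((p ^ f) ^ (2 * (i + 1)) - 1) := by
      rw [hc, ← h2, mul_comm, ← h3, h1]
    have hq1 : 1 ≤ p ^ f := Nat.one_le_pow _ _ hp.pos
    exact key (arith_sp hp hf hm hg
      (not_dvd_gcd_sub_one hp (dvd_pow_self p hf) hq1) h4) rfl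
  · -- PSU
    obtain ⟨F, _, _, _, n, q, hF, hn, _, ⟨e⟩⟩ := h
    obtain ⟨f', hf', hF'⟩ := card_F F
    obtain ⟨f, hf, rfl⟩ := eq_pow_of_pow_eq hp two_ne_zero (hF.symm.trans hF') hf'
    have hc : Nat.card G = Nat.card (PSU n F (p ^ f)) := Nat.card_congr e.toEquiv
    have h1 := Cfsg.Agent.S0280.result (F := F) hF n (by omega)
    rw [← hc] at h1
    exact key (arith_psu hp hf hn hg h1) rfl
  · -- PΩ odd
    obtain ⟨F, _, _, _, m, hm, hodd, ⟨e⟩⟩ := h
    obtain ⟨f, hf, hF⟩ := card_F F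
    have hc : Nat.card G = Nat.card (POmega F (quadFormOdd m F)) := Nat.card_congr e.toEquiv
    rw [hF] at hodd
    have h1 := Cfsg.Agent.S0292.result (F := F) hF hodd m hm
    rw [← hc] at h1
    have hp2 : ¬ p ∣ 2 := by
      intro h2
      have : p = 2 := (Nat.prime_dvd_prime_iff_eq hp Nat.prime_two).mp h2
      subst this
      exact (Nat.not_even_iff_odd.mpr hodd) ((Nat.even_pow.mpr ⟨even_two, hf⟩))
    exact key (arith_sp hp hf (by omega) hg hp2 h1) rfl
  · -- PΩ⁺
    obtain ⟨F, _, _, _, m, hm, ⟨e⟩⟩ := h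
    obtain ⟨f, hf, hF⟩ := card_F F
    have hc : Nat.card G = Nat.card (POmega F (quadFormPlus m F)) := Nat.card_congr e.toEquiv
    have h1 := Cfsg.Agent.S0293.result (F := F) hF m hm
    rw [← hc] at h1
    exact key (arith_oplus hp hf hm hg h1) rfl
  · -- PΩ⁻
    obtain ⟨F, _, _, _, m, a, b, hm, hab, ⟨e⟩⟩ := h
    obtain ⟨f, hf, hF⟩ := card_F F
    have hc : Nat.card G = Nat.card (POmega F (quadFormMinus (m - 1) F a b)) :=
      Nat.card_congr e.toEquiv
    have h1 := Cfsg.Agent.S0294.result (F := F) hF m hm a b hab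
    rw [← hc] at h1
    exact key (arith_ominus hp hf hm hg h1) rfl
  · -- exceptional Chevalley groups
    obtain ⟨F, _, _, _, h⟩ := h
    obtain ⟨f, hf, hF⟩ := card_F F
    rcases h with ⟨_, ⟨e⟩⟩ | ⟨⟨e⟩⟩ | ⟨⟨e⟩⟩ | ⟨⟨e⟩⟩ | ⟨⟨e⟩⟩
    · have h1 := Cfsg.Agent.S1059.result (F := F) hF
      rw [← Nat.card_congr e.toEquiv] at h1
      exact key (arith_g2 hp hf hg h1) rfl
    · have h1 := Cfsg.Agent.S1062.result (F := F) hF
      rw [← Nat.card_congr e.toEquiv] at h1
      exact key (arith_f4 hp hf hg h1) rfl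
    · have h1 := Cfsg.Agent.S1063.result (F := F) hF
      rw [← Nat.card_congr e.toEquiv] at h1
      exact key (arith_e6 hp hf hg h1) rfl
    · have h1 := Cfsg.Agent.S1064.result (F := F) hF
      rw [← Nat.card_congr e.toEquiv] at h1
      exact key (arith_e7 hp hf hg h1) rfl
    · have h1 := Cfsg.Agent.S1065.result (F := F) hF
      rw [← Nat.card_congr e.toEquiv] at h1
      exact key (arith_e8 hp hf hg h1) rfl
  · -- ²E₆, ³D₄
    obtain ⟨K, _, _, _, q, hq, h⟩ := h
    obtain ⟨f', hf', hF'⟩ := card_F K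
    rcases h with ⟨hK, ⟨e⟩⟩ | ⟨hK, ⟨e⟩⟩
    · obtain ⟨f, hf, rfl⟩ := eq_pow_of_pow_eq hp two_ne_zero (hK.symm.trans hF') hf'
      have h1 := Cfsg.Agent.S1066.result (K := K) hq hK
      rw [← Nat.card_congr e.toEquiv] at h1
      exact key (arith_2e6 hp hf hg h1) rfl
    · obtain ⟨f, hf, rfl⟩ := eq_pow_of_pow_eq hp three_ne_zero (hK.symm.trans hF') hf'
      have h1 := Cfsg.Agent.S1067.result (K := K) hq hK
      rw [← Nat.card_congr e.toEquiv] at h1
      exact key (arith_3d4 hp hf hg h1) rfl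
  · -- Suzuki
    obtain ⟨rfl, F, _, _, m, hm, hF, ⟨e⟩⟩ := h
    have h1 := (Cfsg.Agent.S1163.result (F := F) hm hF).1
    rw [← Nat.card_congr e.toEquiv] at h1
    exact key (arith_sz hp (f := 2 * m + 1) (by omega) hg h1) rfl
  · -- ²F₄
    obtain ⟨rfl, K, _, _, m, hm, hK, ⟨e⟩⟩ := h
    have h1 := Cfsg.Agent.S1068.result (K := K) hK
    rw [← Nat.card_congr e.toEquiv] at h1
    exact key (arith_2f4 hp (f := 2 * m + 1) (by omega) hg h1) rfl
  · -- ²G₂
    obtain ⟨rfl, K, _, _, m, hm, hK, ⟨e⟩⟩ := h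
    have h1 := Cfsg.Agent.S1069.result (K := K) hK
    rw [← Nat.card_congr e.toEquiv] at h1
    exact key (arith_2g2 hp (f := 2 * m + 1) (by omega) hg h1) rfl

end Cfsg.Agent.S2363
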