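import Cfsg.Statements.S2364
import Cfsg.Agent.Lib.Helper3.CardSL

set_option autoImplicit false
open Cfsg

namespace Cfsg.Agent.S2364



section linalg
variable {F : Type*} [Field F] {V : Type*} [AddCommGroup V] [Module F V]

theorem ker_inf_range (g : Module.End F V) (r : ℕ) (hr : (r : F) ≠ 0) (hgr : g ^ r = 1)
    (v : V) (hvC : g v = v) (hvD : v ∈ LinearMap.range (g - 1)) : v = 0 := by
  obtain ⟨w, rfl⟩ := hvD
  have h1 : (∑ i ∈ Finset.range r, g ^ i) * (g - 1) = g ^ r - 1 := geom_sum_mul g r
  have h2 : (∑ i ∈ Finset.range r, g ^ i) ((g - 1) w) = 0 := by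
    have := congrArg (fun T : Module.End F V => T w) h1
    simp only [hgr, sub_self, Module.End.mul_apply, LinearMap.zero_apply] at this
    exact this
  have h4 : ∀ i : ℕ, (g ^ i) ((g - 1) w) = (g - 1) w := by
    intro i
    induction i with
    | zero => simp
    | succ k ih => rw [pow_succ, Module.End.mul_apply, hvC, ih]
  have h3 : (∑ i ∈ Finset.range r, g ^ i) ((g - 1) w) = (r : F) • (g - 1) w := by
    rw [LinearMap.sum_apply]
    simp only [h4, Finset.sum_const, Finset.card_range]
    rw [Nat.cast_smul_eq_nsmul]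
  rw [h3] at h2
  exact (smul_eq_zero.mp h2).resolve_left hr

variable [FiniteDimensional F V]

theorem exists_small_invariant (g N : Module.End F V) (r : ℕ) (hr : (r : F) ≠ 0)
    (hgr : g ^ r = 1) (hg1 : g ≠ 1) (hcomm : Commute g N) (hN : IsNilpotent N) (hN0 : N ≠ 0)
    (n : ℕ) (hn : 4 ≤ n) (hV : Module.finrank F V = n) :
    ∃ W : Submodule F V, W ≠ ⊥ ∧ Module.finrank F W ≤ n - 2 ∧ (∀ v ∈ W, g v ∈ W) ∧
      (∀ v ∈ W, g v = v → v = 0) := by
  set P : Module.End F V := g - 1 with hP
  have hPg : ∀ w, P (g w) = g (P w) := by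
    intro w
    simp only [hP, LinearMap.sub_apply, Module.End.one_apply, map_sub]
  have hPN : ∀ w, P (N w) = N (P w) := by
    intro w
    have h := congrArg (fun T : Module.End F V => T w) hcomm.eq
    simp only [Module.End.mul_apply] at h
    simp only [hP, LinearMap.sub_apply, Module.End.one_apply, map_sub, h]
  set C := LinearMap.ker P with hC
  set D := LinearMap.range P with hD
  have hCD : ∀ v ∈ D, g v = v → v = 0 := fun v hv hgv => ker_inf_range g r hr hgr v hgv hv
  have hDg : ∀ v ∈ D, g v ∈ D := by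
    rintro _ ⟨w, rfl⟩
    exact ⟨g w, hPg w⟩
  have hDN : ∀ v ∈ D, N v ∈ D := by
    rintro _ ⟨w, rfl⟩
    exact ⟨N w, hPN w⟩
  have hrank : Module.finrank F D + Module.finrank F C = n := by
    rw [← hV]; exact LinearMap.finrank_range_add_finrank_ker P
  have hD0 : D ≠ ⊥ := by
    intro h
    apply hg1
    have : P = 0 := LinearMap.range_eq_bot.mp h
    exact sub_eq_zero.mp this
  by_cases hc : 2 ≤ Module.finrank F C
  · exact ⟨D, hD0, by omega, hDg, hCD⟩
  · push Not at hc
    have hCmem : ∀ v, v ∈ C ↔ g v = v := by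
      intro v
      rw [hC, LinearMap.mem_ker, hP, LinearMap.sub_apply, Module.End.one_apply, sub_eq_zero]
    -- `N` kills `C`
    have hNC : ∀ v ∈ C, N v = 0 := by
      have h1 : Module.finrank F C ≤ 1 := by omega
      obtain ⟨v₀, hv₀⟩ := finrank_le_one_iff.mp h1
      have hNv₀C : N v₀.1 ∈ C := by
        show P (N v₀.1) = 0
        rw [hPN]
        have : P v₀.1 = 0 := v₀.2
        rw [this, map_zero]
      obtain ⟨c₀, hc₀⟩ := hv₀ ⟨N v₀.1, hNv₀C⟩
      have hc₀' : N v₀.1 = c₀ • v₀.1 := by
        have := congrArg Subtype.val hc₀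
        simpa using this.symm
      obtain ⟨k, hk⟩ := hN
      have hpow : ∀ j : ℕ, (N ^ j) v₀.1 = c₀ ^ j • v₀.1 := by
        intro j
        induction j with
        | zero => simp
        | succ j ih => rw [pow_succ', Module.End.mul_apply, ih, map_smul, hc₀', smul_smul, pow_succ]
      have h0 : c₀ ^ k • v₀.1 = 0 := by rw [← hpow, hk]; rfl
      have hNv₀ : N v₀.1 = 0 := by
        rcases smul_eq_zero.mp h0 with h | h
        · have hc0 : c₀ = 0 := IsNilpotent.eq_zero ⟨k, h⟩
          rw [hc₀', hc0, zero_smul]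
        · rw [h, map_zero]
      intro v hv
      obtain ⟨c, hc'⟩ := hv₀ ⟨v, hv⟩
      have : v = c • v₀.1 := by
        have := congrArg Subtype.val hc'
        simpa using this.symm
      rw [this, map_smul, hNv₀, smul_zero]
    have hsup : C ⊔ D = ⊤ := by
      apply Submodule.eq_top_of_finrank_eq
      have h1 := Submodule.finrank_sup_add_finrank_inf_eq C D
      have h2 : C ⊓ D = ⊥ := by
        rw [eq_bot_iff]
        intro v hv
        rw [Submodule.mem_bot]
        exact hCD v hv.2 ((hCmem v).mp hv.1)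
      rw [h2, finrank_bot] at h1
      omega
    have hex : ∃ v ∈ D, N v ≠ 0 := by
      by_contra hcon
      push Not at hcon
      apply hN0
      apply LinearMap.ext
      intro v
      have hv : v ∈ C ⊔ D := by rw [hsup]; trivial
      obtain ⟨c, hc', d, hd, rfl⟩ := Submodule.mem_sup.mp hv
      rw [map_add, hNC c hc', hcon d hd, add_zero, LinearMap.zero_apply]
    obtain ⟨v, hvD, hNv⟩ := hex
    -- the restriction of `N` to `D`
    set ND : D →ₗ[F] V := N.domRestrict D with hND
    set K : Submodule F V := (LinearMap.ker ND).map D.subtype with hK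
    set J : Submodule F V := D.map N with hJ
    have hKJ : Module.finrank F K + Module.finrank F J = Module.finrank F D := by
      have h1 := LinearMap.finrank_range_add_finrank_ker ND
      have h2 : Module.finrank F K = Module.finrank F (LinearMap.ker ND) :=
        Submodule.finrank_map_subtype_eq D (LinearMap.ker ND)
      have h3 : LinearMap.range ND = J := LinearMap.range_domRestrict D N
      rw [h2, ← h3]
      omega
    have hKmem : ∀ u, u ∈ K ↔ u ∈ D ∧ N u = 0 := by
      intro u
      rw [hK, Submodule.mem_map]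
      constructor
      · rintro ⟨d, hd, rfl⟩
        exact ⟨d.2, hd⟩
      · rintro ⟨hu, hNu⟩
        exact ⟨⟨u, hu⟩, hNu, rfl⟩
    have hJD : J ≤ D := by
      rintro _ ⟨d, hd, rfl⟩
      exact hDN d hd
    have hJ0 : J ≠ ⊥ := by
      intro h
      apply hNv
      have : N v ∈ J := ⟨v, hvD, rfl⟩
      rw [h, Submodule.mem_bot] at this
      exact this
    have hK0 : K ≠ ⊥ := by
      obtain ⟨k, hk⟩ := hN
      have hex : ∃ j, (N ^ j) v = 0 := ⟨k, by rw [hk]; rfl⟩
      classical
      let j := Nat.find hex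
      have hj : (N ^ j) v = 0 := Nat.find_spec hex
      have hj1 : j ≠ 0 := by
        intro h0
        rw [h0, pow_zero, Module.End.one_apply] at hj
        apply hNv
        rw [hj, map_zero]
      obtain ⟨i, hi⟩ := Nat.exists_eq_succ_of_ne_zero hj1
      have hi' : (N ^ i) v ≠ 0 := Nat.find_min hex (by omega : i < j)
      have hDpow : ∀ m : ℕ, (N ^ m) v ∈ D := by
        intro m
        induction m with
        | zero => simpa using hvD
        | succ m ih => rw [pow_succ', Module.End.mul_apply]; exact hDN _ ih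
      intro h
      apply hi'
      have : (N ^ i) v ∈ K := by
        rw [hKmem]
        refine ⟨hDpow i, ?_⟩
        rw [← Module.End.mul_apply, ← pow_succ', ← Nat.succ_eq_add_one, ← hi]
        exact hj
      rw [h, Submodule.mem_bot] at this
      exact this
    have hDle : Module.finrank F D ≤ n := by omega
    by_cases hKd : Module.finrank F K ≤ n - 2
    · refine ⟨K, hK0, hKd, ?_, ?_⟩
      · intro u hu
        rw [hKmem] at hu ⊢
        refine ⟨hDg u hu.1, ?_⟩
        have h := congrArg (fun T : Module.End F V => T u) hcomm.eq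
        simp only [Module.End.mul_apply] at h
        rw [← h, hu.2, map_zero]
      · intro u hu
        exact hCD u ((hKmem u).mp hu).1
    · refine ⟨J, hJ0, by omega, ?_, ?_⟩
      · rintro _ ⟨d, hd, rfl⟩
        refine ⟨g d, hDg d hd, ?_⟩
        have h := congrArg (fun T : Module.End F V => T d) hcomm.eq
        simp only [Module.End.mul_apply] at h
        exact h.symm
      · intro u hu
        exact hCD u (hJD hu)

end linalg


section glcard
variable {F : Type*} [Field F] [Fintype F] {V : Type*} [AddCommGroup V] [Module F V]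
  [FiniteDimensional F V]

theorem prime_dvd_card_GL_of_invariant (g : Module.End F V) (W : Submodule F V) (r : ℕ)
    (hr : r.Prime) (hgr : g ^ r = 1) (hW0 : W ≠ ⊥) (hWg : ∀ v ∈ W, g v ∈ W)
    (hfix : ∀ v ∈ W, g v = v → v = 0) :
    r ∣ Nat.card (GL (Fin (Module.finrank F W)) F) := by
  classical
  set gW : Module.End F W := g.restrict hWg with hgW
  have hpow : ∀ k : ℕ, ∀ w : W, ((gW ^ k) w : V) = (g ^ k) (w : V) := by
    intro k
    induction k with
    | zero => intro w; simp
    | succ k ih =>
      intro w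
      rw [pow_succ, Module.End.mul_apply, ih, pow_succ, Module.End.mul_apply]
      rfl
  have hgWr : gW ^ r = 1 := by
    apply LinearMap.ext
    intro w
    apply Subtype.ext
    rw [hpow, hgr]
    rfl
  have hr1 : 1 ≤ r := hr.one_lt.le
  let u : (Module.End F W)ˣ := ⟨gW, gW ^ (r - 1),
    by rw [← pow_succ', Nat.sub_add_cancel hr1, hgWr],
    by rw [← pow_succ, Nat.sub_add_cancel hr1, hgWr]⟩
  have hur : u ^ r = 1 := by
    apply Units.ext
    rw [Units.val_pow_eq_pow_val]
    exact hgWr
  have hu1 : u ≠ 1 := by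
    intro h
    have h1 : gW = 1 := congrArg Units.val h
    obtain ⟨w, hwW, hw0⟩ := Submodule.exists_mem_ne_zero_of_ne_bot hW0
    apply hw0
    apply hfix w hwW
    have := congrArg (fun T : Module.End F W => ((T ⟨w, hwW⟩ : W) : V)) h1
    exact this
  have : Fact r.Prime := ⟨hr⟩
  have hord : orderOf u = r := orderOf_eq_prime hur hu1
  let b := Module.finBasis F W
  let e : (Module.End F W)ˣ ≃* GL (Fin (Module.finrank F W)) F :=
    Units.mapEquiv (LinearMap.toMatrixAlgEquiv b).toMulEquiv
  have : Finite (Module.End F W)ˣ := Finite.of_equiv _ e.symm.toEquiv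
  rw [← Nat.card_congr e.toEquiv, ← hord]
  exact orderOf_dvd_natCard u

end glcard

section arith

theorem dvd_prod_GL_mono (q r m M : ℕ) (hr : r.Prime) (hrq : ¬ r ∣ q) (hmM : m ≤ M)
    (h : r ∣ ∏ i : Fin m, (q ^ m - q ^ (i : ℕ))) : r ∣ ∏ i : Fin M, (q ^ M - q ^ (i : ℕ)) := by
  obtain ⟨i, -, hi⟩ := (hr.prime.dvd_finsetProd_iff _).mp h
  have hi1 : q ^ m - q ^ (i : ℕ) = q ^ (i : ℕ) * (q ^ (m - i) - 1) := by
    rw [Nat.mul_sub, mul_one, ← pow_add, Nat.add_sub_cancel' i.2.le]
  rw [hi1] at hi
  have hcop : Nat.Coprime r (q ^ (i : ℕ)) := Nat.Coprime.pow_right _ ((Nat.Prime.coprime_iff_not_dvd hr).mpr hrq)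
  have hj : r ∣ q ^ (m - i) - 1 := hcop.dvd_of_dvd_mul_left hi
  have hjM : m - i ≤ M := by omega
  have hjpos : 0 < m - i := by have := i.2; omega
  let i' : Fin M := ⟨M - (m - i), by omega⟩
  have hi' : q ^ M - q ^ (i' : ℕ) = q ^ (i' : ℕ) * (q ^ (m - i) - 1) := by
    rw [Nat.mul_sub, mul_one, ← pow_add]
    congr 2
    show M = M - (m - i) + (m - i)
    omega
  have : r ∣ q ^ M - q ^ (i' : ℕ) := by
    rw [hi']
    exact Dvd.dvd.mul_left hj _
  exact this.trans (Finset.dvd_prod_of_mem _ (Finset.mem_univ i'))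

end arith



section lift

/-- Lifting an element of prime order through a quotient by a finite subgroup of coprime order. -/
theorem exists_lift_orderOf {G : Type*} [Group G] (Z : Subgroup G) [Z.Normal] [Finite Z]
    (xbar : G ⧸ Z) (r : ℕ) (hr : r.Prime) (hx : orderOf xbar = r) (hZ : ¬ r ∣ Nat.card Z) :
    ∃ x : G, (x : G ⧸ Z) = xbar ∧ orderOf x = r := by
  obtain ⟨y, hy⟩ := QuotientGroup.mk_surjective xbar
  set m := Nat.card Z with hm
  have hcop : Nat.Coprime m r := ((Nat.Prime.coprime_iff_not_dvd hr).mpr hZ).symm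
  obtain ⟨s, -, hs⟩ := Nat.exists_mul_mod_eq_one_of_coprime hcop hr.one_lt
  have hyr : y ^ r ∈ Z := by
    rw [← QuotientGroup.eq_one_iff, QuotientGroup.mk_pow, hy, ← hx, pow_orderOf_eq_one]
  have hyrm : (y ^ r) ^ m = 1 := by
    have h1 : (⟨y ^ r, hyr⟩ : Z) ^ m = 1 := by
      rw [hm]; exact pow_card_eq_one'
    have := congrArg Subtype.val h1
    simpa using this
  refine ⟨y ^ (m * s), ?_, ?_⟩
  · rw [QuotientGroup.mk_pow, hy, ← pow_mod_orderOf, hx, hs, pow_one]
  · have : Fact r.Prime := ⟨hr⟩
    apply orderOf_eq_prime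
    · rw [← pow_mul, mul_comm (m * s) r, ← mul_assoc, pow_mul, pow_mul, hyrm, one_pow]
    · intro h1
      have h2 : ((y ^ (m * s) : G) : G ⧸ Z) = xbar := by
        rw [QuotientGroup.mk_pow, hy, ← pow_mod_orderOf, hx, hs, pow_one]
      rw [h1] at h2
      have h3 : xbar = 1 := h2.symm
      rw [h3, orderOf_one] at hx
      exact hr.one_lt.ne hx

end lift

section center
open Matrix

variable {F : Type*} [Field F] [Fintype F]

theorem card_center_SL_dvd (n : ℕ) :
    Nat.card (Subgroup.center (SpecialLinearGroup (Fin n) F)) ∣ Fintype.card F - 1 := by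
  classical
  rw [Nat.card_congr (SpecialLinearGroup.center_equiv_rootsOfUnity (n := Fin n) (R := F)).toEquiv]
  have h := Subgroup.card_subgroup_dvd_card (rootsOfUnity (max (Fintype.card (Fin n)) 1) F)
  rw [Nat.card_units, Nat.card_eq_fintype_card (α := F)] at h
  exact h

end center


section main
open Matrix

variable {F : Type*} [Field F] [Fintype F]

omit [Fintype F] in
/-- `p` divides the order of `SL_M(F)` for `M ≥ 2`. -/
theorem char_dvd_card_SL (p : ℕ) [Fact p.Prime] [CharP F p] (M : ℕ) (hM : 2 ≤ M) :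
    p ∣ Nat.card (SpecialLinearGroup (Fin M) F) := by
  classical
  have hij : (⟨0, by omega⟩ : Fin M) ≠ ⟨1, by omega⟩ := by
    intro h; simpa using congrArg Fin.val h
  let u : SpecialLinearGroup (Fin M) F := SpecialLinearGroup.transvection hij 1
  have hpow : ∀ k : ℕ, u ^ k = SpecialLinearGroup.transvection hij (k : F) := by
    intro k
    induction k with
    | zero => simp [SpecialLinearGroup.transvection_coeff_zero]
    | succ k ih =>
      rw [pow_succ, ih]
      show SpecialLinearGroup.transvection hij (k : F) * SpecialLinearGroup.transvection hij 1 = _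
      rw [← SpecialLinearGroup.transvection_add]
      push_cast
      rfl
  have hup : u ^ p = 1 := by
    rw [hpow, CharP.cast_eq_zero, SpecialLinearGroup.transvection_coeff_zero]
  have hu1 : u ≠ 1 := by
    intro h
    have h1 : (u : Matrix (Fin M) (Fin M) F) ⟨0, by omega⟩ ⟨1, by omega⟩ = 1 := by
      show Matrix.transvection _ _ (1 : F) _ _ = 1
      simp [Matrix.transvection, Matrix.single]
    rw [h] at h1
    have h2 : ((1 : SpecialLinearGroup (Fin M) F) : Matrix (Fin M) (Fin M) F) ⟨0, by omega⟩ ⟨1, by omega⟩ = 0 := by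
      simp [hij]
    rw [h2] at h1
    exact zero_ne_one h1
  rw [← orderOf_eq_prime hup hu1]
  exact orderOf_dvd_natCard u

/-- `q - 1` divides the order of `SL_M(F)` for `M ≥ 2`. -/
theorem pred_card_dvd_card_SL (r : ℕ) (hr : r.Prime) (hrq : r ∣ Fintype.card F - 1) (M : ℕ)
    (hM : 2 ≤ M) : r ∣ Nat.card (SpecialLinearGroup (Fin M) F) := by
  classical
  have : Fact r.Prime := ⟨hr⟩
  have hcard : r ∣ Nat.card Fˣ := by
    rw [Nat.card_units, Nat.card_eq_fintype_card (α := F)]; exact hrq
  obtain ⟨x, hx⟩ := exists_prime_orderOf_dvd_card' r hcard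
  let i : Fin M := ⟨0, by omega⟩
  let j : Fin M := ⟨1, by omega⟩
  have hij : i ≠ j := by
    intro h; simpa [i, j] using congrArg Fin.val h
  let d : Fin M → F := fun k => if k = i then (x : F) else if k = j then ((x⁻¹ : Fˣ) : F) else 1
  have hdet : (diagonal d).det = 1 := by
    rw [det_diagonal, Finset.prod_eq_mul i j hij]
    · simp only [d, if_true, if_neg hij.symm]
      rw [← Units.val_mul, mul_inv_cancel, Units.val_one]
    · intro c _ hc
      simp only [d, if_neg hc.1, if_neg hc.2]
    · intro h; exact absurd (Finset.mem_univ _) h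
    · intro h; exact absurd (Finset.mem_univ _) h
  let z : SpecialLinearGroup (Fin M) F := ⟨diagonal d, hdet⟩
  have hxr : x ^ r = 1 := by rw [← hx]; exact pow_orderOf_eq_one x
  have hzr : z ^ r = 1 := by
    apply Subtype.ext
    show (diagonal d) ^ r = 1
    rw [diagonal_pow, ← diagonal_one]
    congr 1
    funext k
    simp only [Pi.pow_apply, d]
    split_ifs
    · rw [← Units.val_pow_eq_pow_val, hxr, Units.val_one]
    · rw [← Units.val_pow_eq_pow_val, inv_pow, hxr, inv_one, Units.val_one]
    · rw [one_pow]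
  have hz1 : z ≠ 1 := by
    intro h
    have h1 : (z : Matrix (Fin M) (Fin M) F) i i = (x : F) := by
      show diagonal d i i = _
      simp [d]
    rw [h] at h1
    have h2 : ((1 : SpecialLinearGroup (Fin M) F) : Matrix (Fin M) (Fin M) F) i i = 1 := by simp
    rw [h2] at h1
    have hx1 : x = 1 := Units.ext h1.symm
    rw [hx1, orderOf_one] at hx
    exact hr.one_lt.ne hx
  rw [← orderOf_eq_prime hzr hz1]
  exact orderOf_dvd_natCard z

end main

/-- Let F be a finite field of characteristic p, n ≥ 4, and let a, b be commuting elements of PSL(n, F) with a of order p. Then every prime divisor of the order of b divides the order of SL(n − 2, F). -/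
theorem result {F : Type*} [Field F] [Fintype F] (p : ℕ) [Fact p.Prime] [CharP F p] (n : ℕ) (hn : 4 ≤ n)
    (a b : Matrix.ProjectiveSpecialLinearGroup (Fin n) F) (ha : orderOf a = p) (hab : Commute a b) :
    (orderOf b).primeFactors ⊆ (Nat.card (Matrix.SpecialLinearGroup (Fin (n - 2)) F)).primeFactors := by
  classical
  intro r hr
  rw [Nat.mem_primeFactors] at hr ⊢
  obtain ⟨hrp, hrb, hb0⟩ := hr
  have hp : p.Prime := Fact.out
  have hM : 2 ≤ n - 2 := by omega
  refine ⟨hrp, ?_, Nat.card_pos.ne'⟩
  set q := Fintype.card F with hq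
  -- `p ∤ q - 1`
  have hpq : ¬ p ∣ q - 1 := by
    obtain ⟨f, -, hf⟩ := FiniteField.card F p
    have h1 : p ∣ q := by rw [hq, hf]; exact dvd_pow_self p f.ne_zero
    have h2 : 1 < q := Fintype.one_lt_card
    intro h3
    have h4 : p ∣ q - (q - 1) := Nat.dvd_sub h1 h3
    have h5 : q - (q - 1) = 1 := by omega
    rw [h5] at h4
    exact hp.one_lt.ne' (Nat.dvd_one.mp h4)
  by_cases hrp' : r = p
  · rw [hrp']
    exact char_dvd_card_SL p (n - 2) hM
  by_cases hrq : r ∣ q - 1
  · exact pred_card_dvd_card_SL r hrp hrq (n - 2) hM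
  -- the main case
  set Z := Subgroup.center (Matrix.SpecialLinearGroup (Fin n) F) with hZ
  have hZcard : Nat.card Z ∣ q - 1 := card_center_SL_dvd n
  have hrZ : ¬ r ∣ Nat.card Z := fun h => hrq (h.trans hZcard)
  have hpZ : ¬ p ∣ Nat.card Z := fun h => hpq (h.trans hZcard)
  set b₀ := b ^ (orderOf b / r) with hb₀
  have hb₀ord : orderOf b₀ = r := orderOf_pow_orderOf_div hb0 hrb
  have hab₀ : Commute a b₀ := hab.pow_right _
  obtain ⟨ah, hah, hahord⟩ := exists_lift_orderOf Z a p hp ha hpZ
  obtain ⟨bh, hbh, hbhord⟩ := exists_lift_orderOf Z b₀ r hrp hb₀ord hrZ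
  -- the lifts commute
  have hcomm : bh * ah = ah * bh := by
    set z := bh * ah * bh⁻¹ * ah⁻¹ with hz
    have hzZ : z ∈ Z := by
      rw [← QuotientGroup.eq_one_iff]
      show ((bh * ah * bh⁻¹ * ah⁻¹ : Matrix.SpecialLinearGroup (Fin n) F) :
        Matrix.SpecialLinearGroup (Fin n) F ⧸ Z) = 1
      rw [QuotientGroup.mk_mul, QuotientGroup.mk_mul, QuotientGroup.mk_mul, QuotientGroup.mk_inv,
        QuotientGroup.mk_inv, hah, hbh, ← hab₀.eq]
      group
    have hzc : ∀ x, z * x = x * z := fun x => (Subgroup.mem_center_iff.mp hzZ x).symm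
    have h1 : bh * ah * bh⁻¹ = z * ah := by rw [hz]; group
    have h2 : (bh * ah * bh⁻¹) ^ p = 1 := by
      rw [conj_pow, ← hahord, pow_orderOf_eq_one]; group
    have h3 : (z * ah) ^ p = z ^ p * ah ^ p := (Commute.mul_pow (hzc ah) p)
    have h4 : z ^ p = 1 := by
      rw [h1, h3, ← hahord, pow_orderOf_eq_one, mul_one, hahord] at h2
      exact h2
    have h5 : z = 1 := by
      have h6 : orderOf z ∣ p := orderOf_dvd_of_pow_eq_one h4
      have h7 : orderOf z ∣ Nat.card Z := by
        have : orderOf (⟨z, hzZ⟩ : Z) = orderOf z := Subgroup.orderOf_mk z hzZ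
        rw [← this]
        exact orderOf_dvd_natCard _
      rcases (Nat.dvd_prime hp).mp h6 with h8 | h8
      · exact orderOf_eq_one_iff.mp h8
      · exact absurd (h8 ▸ h7) hpZ
    rw [h5] at h1
    rw [one_mul] at h1
    calc bh * ah = bh * ah * bh⁻¹ * bh := by group
      _ = ah * bh := by rw [h1]
  -- pass to matrices
  have : Nonempty (Fin n) := ⟨⟨0, by omega⟩⟩
  set A : Matrix (Fin n) (Fin n) F := ah.1 with hA
  set B : Matrix (Fin n) (Fin n) F := bh.1 with hB
  have hAp : A ^ p = 1 := by
    have h1 : ah ^ p = 1 := by rw [← hahord]; exact pow_orderOf_eq_one ah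
    have := congrArg Subtype.val h1
    simpa using this
  have hBr : B ^ r = 1 := by
    have h1 : bh ^ r = 1 := by rw [← hbhord]; exact pow_orderOf_eq_one bh
    have := congrArg Subtype.val h1
    simpa using this
  have hA1 : A ≠ 1 := by
    intro h
    have : ah = 1 := Subtype.ext h
    rw [this, orderOf_one] at hahord
    exact hp.one_lt.ne hahord
  have hB1 : B ≠ 1 := by
    intro h
    have : bh = 1 := Subtype.ext h
    rw [this, orderOf_one] at hbhord
    exact hrp.one_lt.ne hbhord
  have hAB : B * A = A * B := by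
    have := congrArg Subtype.val hcomm
    simpa using this
  set Nm : Matrix (Fin n) (Fin n) F := A - 1 with hNm
  have hNp : Nm ^ p = 0 := by
    have : CharP (Matrix (Fin n) (Fin n) F) p := inferInstance
    rw [hNm, sub_pow_char_of_commute p (Commute.one_right A), hAp, one_pow, sub_self]
  set g : Module.End F (Fin n → F) := Matrix.toLinAlgEquiv' B with hg
  set N : Module.End F (Fin n → F) := Matrix.toLinAlgEquiv' Nm with hN
  have hg_r : g ^ r = 1 := by rw [hg, ← map_pow, hBr, map_one]
  have hg1 : g ≠ 1 := by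
    intro h
    apply hB1
    apply Matrix.toLinAlgEquiv'.injective
    rw [← hg, h, map_one]
  have hgN : Commute g N := by
    show g * N = N * g
    rw [hg, hN, ← map_mul, ← map_mul]
    congr 1
    rw [hNm, mul_sub, sub_mul, hAB, mul_one, one_mul]
  have hNnil : IsNilpotent N := ⟨p, by rw [hN, ← map_pow, hNp, map_zero]⟩
  have hN0 : N ≠ 0 := by
    intro h
    apply hA1
    have h0 : Nm = 0 := Matrix.toLinAlgEquiv'.injective (by rw [← hN, h, map_zero])
    exact sub_eq_zero.mp h0
  have hrF : (r : F) ≠ 0 := by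
    intro h
    have := (CharP.cast_eq_zero_iff F p r).mp h
    exact hrp' ((Nat.prime_dvd_prime_iff_eq hp hrp).mp this).symm
  obtain ⟨W, hW0, hWd, hWg, hWfix⟩ :=
    exists_small_invariant g N r hrF hg_r hg1 hgN hNnil hN0 n hn (by simp)
  have h1 := prime_dvd_card_GL_of_invariant g W r hrp hg_r hW0 hWg hWfix
  rw [Matrix.card_GL_field] at h1
  have hrq' : ¬ r ∣ q := by
    obtain ⟨f, -, hf⟩ := FiniteField.card F p
    intro h
    rw [hq, hf] at h
    have := hrp.dvd_of_dvd_pow h
    exact hrp' ((Nat.prime_dvd_prime_iff_eq hrp hp).mp this)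
  have h2 := dvd_prod_GL_mono q r _ (n - 2) hrp hrq' hWd h1
  rw [hq, ← Matrix.card_GL_field,
    Cfsg.Agent.Lib.Helper3.CardSL.card_GL_eq_card_SL_mul (n - 2) (by omega), Nat.card_units,
    Nat.card_eq_fintype_card (α := F)] at h2
  exact (hrp.dvd_mul.mp h2).resolve_right hrq

end Cfsg.Agent.S2364
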