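import Cfsg.Statements.S2365
import Cfsg.Agent.Lib.Helper15.UMult4

set_option autoImplicit false
open Cfsg

namespace Cfsg.Agent.S2365

open Cfsg.Agent.Lib.Helper15.Eig

/-- Let q be a power of the prime p, F the field with q² elements, m ≥ 4, and let a, b be commuting elements of PSU(m, q) with a of order p. Then every prime divisor of the order of b divides the order of SU(m − 2, q). -/
theorem result {F : Type*} [Field F] [Fintype F] (p : ℕ) [Fact p.Prime] [CharP F p] (m q : ℕ) (hm : 4 ≤ m) (hF : Fintype.card F = q ^ 2)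
    (a b : Cfsg.PSU m F q) (ha : orderOf a = p) (hab : Commute a b) :
    (orderOf b).primeFactors ⊆ (Nat.card ↥(Cfsg.SU (m - 2) F q)).primeFactors := by
  have hp := (Fact.out : p.Prime)
  have hq2 : 2 ≤ q := Cfsg.Agent.Lib.Helper6.two_le_q hF
  obtain ⟨f, hf1, hq⟩ := Cfsg.Agent.Lib.Helper6.AutPSU.q_eq_pow (p := p) hF
  have hpq : p ∣ q := by
    rw [hq]
    exact dvd_pow_self p (by omega)
  have hpq1 : ¬ p ∣ q + 1 := by
    intro h
    have h7 : p ∣ 1 := (Nat.dvd_add_right hpq).mp h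
    exact hp.one_lt.ne' (Nat.dvd_one.mp h7)
  have hcard0 : Nat.card ↥(Cfsg.SU (m - 2) F q) ≠ 0 := Nat.card_pos.ne'
  intro r hr
  rw [Nat.mem_primeFactors] at hr ⊢
  obtain ⟨hrp, hrb, hb0⟩ := hr
  refine ⟨hrp, ?_, hcard0⟩
  by_cases hrp' : r = p
  · rw [hrp']
    exact char_dvd_card_SU hF p (m - 2) (by omega)
  by_cases hrq : r ∣ q ^ 2 - 1
  · apply dvd_card_SU_of_dvd_factor hF (m - 2) 1 le_rfl (by omega)
    rw [if_neg (by decide)]
    exact hrq
  have hrq1 : ¬ r ∣ q + 1 := by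
    intro h
    apply hrq
    have : q ^ 2 - 1 = (q - 1) * (q + 1) := by
      obtain ⟨c, rfl⟩ : ∃ c, q = c + 1 := ⟨q - 1, by omega⟩
      have : (c + 1) ^ 2 = (c + 1 - 1) * (c + 1 + 1) + 1 := by
        simp only [Nat.add_sub_cancel]; ring
      omega
    rw [this]
    exact Dvd.dvd.mul_left h _
  -- the element of order `r`
  set o := orderOf b with ho
  have ho0 : 0 < o := Nat.pos_of_ne_zero hb0
  set b' := b ^ (o / r) with hb'
  have hb'ord : orderOf b' = r := by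
    rw [hb', orderOf_pow_of_dvd]
    · exact Nat.div_div_self hrb hb0
    · have := Nat.div_pos (Nat.le_of_dvd ho0 hrb) hrp.pos
      omega
    · exact Nat.div_dvd_of_dvd hrb
  have hab' : Commute a b' := hab.pow_right _
  obtain ⟨a₀, rfl⟩ := QuotientGroup.mk_surjective a
  obtain ⟨b₀, hb₀⟩ := QuotientGroup.mk_surjective b'
  set Z := Subgroup.center ↥(Cfsg.SU m F q) with hZ
  have hmk_pow : ∀ (x : ↥(Cfsg.SU m F q)) (t : ℕ),
      ((x ^ t : ↥(Cfsg.SU m F q)) : Cfsg.PSU m F q) = (x : Cfsg.PSU m F q) ^ t := fun _ _ => rfl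
  have hcen : ∀ (x : ↥(Cfsg.SU m F q)) (t : ℕ), (x : Cfsg.PSU m F q) ^ t = 1 →
      (x ^ (q + 1)) ^ t = 1 := by
    intro x t h
    have h1 : x ^ t ∈ Z := by
      rw [← hmk_pow] at h
      exact (QuotientGroup.eq_one_iff _).mp h
    have h2 := Cfsg.Agent.Lib.Helper6.AutPSU.center_pow hF (by omega) _ h1
    rw [← pow_mul, mul_comm, pow_mul]
    exact h2
  set u := a₀ ^ (q + 1) with hu
  set s := b₀ ^ (q + 1) with hs
  have hup : u ^ p = 1 := hcen a₀ p (by rw [← ha]; exact pow_orderOf_eq_one _)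
  have hsr : s ^ r = 1 := hcen b₀ r (by rw [hb₀, ← hb'ord]; exact pow_orderOf_eq_one _)
  have hu1 : u ≠ 1 := by
    intro h
    have h1 : (a₀ : Cfsg.PSU m F q) ^ (q + 1) = 1 := by
      rw [← hmk_pow, ← hu, h]
      rfl
    have h2 := orderOf_dvd_of_pow_eq_one h1
    rw [ha] at h2
    exact hpq1 h2
  have hs1 : s ≠ 1 := by
    intro h
    have h1 : (b₀ : Cfsg.PSU m F q) ^ (q + 1) = 1 := by
      rw [← hmk_pow, ← hs, h]
      rfl
    rw [hb₀] at h1
    have h2 := orderOf_dvd_of_pow_eq_one h1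
    rw [hb'ord] at h2
    exact hrq1 h2
  have hsu : s * u = u * s := by
    apply Cfsg.Agent.Lib.Helper6.AutPSU.comm_of_pu_comm (p := p) hF (by omega) s u 1
      (by rw [pow_one]; exact hup)
    show ((s : ↥(Cfsg.SU m F q)) : Cfsg.PSU m F q) * ((u : ↥(Cfsg.SU m F q)) : Cfsg.PSU m F q)
      = ((u : ↥(Cfsg.SU m F q)) : Cfsg.PSU m F q) * ((s : ↥(Cfsg.SU m F q)) : Cfsg.PSU m F q)
    rw [hs, hu, hmk_pow, hmk_pow, hb₀]
    exact ((hab'.pow_pow (q + 1) (q + 1)).eq).symm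
  exact dvd_card_SU_of_commuting hF p m hm s u r hrp hrp' hrq hsr hs1 hup hu1 hsu

end Cfsg.Agent.S2365
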