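import Cfsg.Statements.S2367

set_option autoImplicit false
open Cfsg

namespace Cfsg.Agent.S2367

open Nat

theorem spor_aux (N : ℕ) (l : List ℕ) (hl : N.primeFactorsList = l) (p : ℕ) (h3 : N.factorization p = 3)
    (H : ∀ q ∈ l.dedup, q ≠ 2 → l.count q = 3 → q ^ 3 < 2 ^ l.count 2) (hodd : p ≠ 2) :
    p ^ 3 < 2 ^ N.factorization 2 := by
  rw [← Nat.primeFactorsList_count_eq, hl] at h3 ⊢
  apply H p _ hodd h3
  rw [List.mem_dedup]
  apply List.count_pos_iff.mp
  omega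

theorem cube_lt_two_pow (p : ℕ) (hp : 5 ≤ p) : p ^ 3 < 2 ^ (p + 2) := by
  induction p, hp using Nat.le_induction with
  | base => norm_num
  | succ p hp ih =>
    have h1 : (p + 1) ^ 3 ≤ 2 * p ^ 3 := by
      have h5 : 5 ≤ p := hp
      nlinarith [mul_le_mul h5 h5 (by norm_num) (by omega : 0 ≤ p), mul_pos (by omega : 0 < p) (by omega : 0 < p)]
    calc (p + 1) ^ 3 ≤ 2 * p ^ 3 := h1
      _ < 2 * 2 ^ (p + 2) := by omega
      _ = 2 ^ (p + 1 + 2) := by ring

theorem val_fact_step (p : ℕ) [Fact p.Prime] (n : ℕ) :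
    padicValNat p n ! = n / p + padicValNat p (n / p)! := by
  rw [← padicValNat_mul_div_factorial n, padicValNat_factorial_mul, add_comm]

theorem val_fact_small (p : ℕ) [Fact p.Prime] (m : ℕ) (h : m < p) : padicValNat p m ! = 0 := by
  rw [val_fact_step, Nat.div_eq_of_lt h]; simp

theorem alt_aux (n : ℕ) (hn : 5 ≤ n) (p : ℕ) (hp : p.Prime) (hodd : p ≠ 2)
    (h3 : (n ! / 2).factorization p = 3) : p ^ 3 < 2 ^ (n ! / 2).factorization 2 := by
  have : Fact p.Prime := ⟨hp⟩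
  have : Fact (Nat.Prime 2) := ⟨Nat.prime_two⟩
  have h2dvd : 2 ∣ n ! := Nat.dvd_factorial (by norm_num) (by omega)
  rw [Nat.factorization_div h2dvd] at h3 ⊢
  simp only [Finsupp.coe_tsub, Pi.sub_apply] at h3 ⊢
  have hp2 : (2 : ℕ).factorization p = 0 := by
    rw [Nat.Prime.factorization Nat.prime_two]
    simp [Ne.symm hodd]
  have h22 : (2 : ℕ).factorization 2 = 1 := by
    rw [Nat.Prime.factorization Nat.prime_two]; simp
  rw [hp2, Nat.sub_zero, Nat.factorization_def _ hp] at h3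
  rw [h22, Nat.factorization_def _ Nat.prime_two]
  -- analyse p
  have hp3 : 3 ≤ p := by
    have := hp.two_le
    omega
  have hstep := val_fact_step p n
  rw [h3] at hstep
  have hm : n / p ≤ 3 := by omega
  have hp5 : 5 ≤ p := by
    by_contra hlt
    have hp34 : p = 3 ∨ p = 4 := by omega
    rcases hp34 with rfl | rfl
    · -- p = 3
      have : n / 3 = 0 ∨ n / 3 = 1 ∨ n / 3 = 2 ∨ n / 3 = 3 := by omega
      rcases this with h | h | h | h <;> rw [h] at hstep
      · simp at hstep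
      · simp at hstep
      · have : padicValNat 3 2 ! = 0 := val_fact_small 3 2 (by norm_num)
        omega
      · have : padicValNat 3 3 ! = 1 := by
          rw [val_fact_step]; norm_num
        omega
    · exact absurd hp (by norm_num)
  have hsmall : padicValNat p (n / p)! = 0 := val_fact_small p _ (by omega)
  have hdiv : n / p = 3 := by omega
  have hn3p : 3 * p ≤ n := by
    have := Nat.div_mul_le_self n p
    rw [hdiv] at this; omega
  -- 2-adic valuation
  have h2a := val_fact_step 2 n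
  have h2b := val_fact_step 2 (n / 2)
  have h2c : n / 2 / 2 = n / 4 := by omega
  have hv2 : p + 3 ≤ padicValNat 2 n ! := by
    rw [h2a, h2b, h2c]; omega
  calc p ^ 3 < 2 ^ (p + 2) := cube_lt_two_pow p hp5
    _ ≤ 2 ^ (padicValNat 2 n ! - 1) := Nat.pow_le_pow_right (by norm_num) (by omega)

/-- Let G be an alternating group of degree at least 5 or a simple group with the order of one of the 26 sporadic groups, and let p be an odd prime such that p³ is the exact power of p dividing the order of G. Then p³ is less than the 2-part of the order of G. -/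
theorem result {G : Type*} [Group G] [Finite G] (hG : Cfsg.IsAlternating G ∨ Cfsg.IsSporadic G)
    (p : ℕ) (hp : p.Prime) (hodd : p ≠ 2) (h3 : (Nat.card G).factorization p = 3) :
    p ^ 3 < 2 ^ (Nat.card G).factorization 2 := by
  rcases hG with ⟨n, hn, ⟨e⟩⟩ | hS
  · have hcard : Nat.card G = n ! / 2 := by
      rw [Nat.card_congr e.toEquiv]
      have : Nontrivial (Fin n) := Fin.nontrivial_iff_two_le.mpr (by omega)
      rw [nat_card_alternatingGroup, Nat.card_eq_fintype_card, Fintype.card_fin]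
    rw [hcard] at h3 ⊢
    exact alt_aux n hn p hp hodd h3
  · unfold IsSporadic IsM11 IsM12 IsM22 IsM23 IsM24 IsJ1 IsJ2 IsJ3 IsJ4 IsCo1 IsCo2 IsCo3 IsFi22 IsFi23 IsFi24'
      IsHS IsMcL IsHe IsRu IsSuz IsON IsHN IsLy IsTh IsB IsM at hS
    rcases hS with ⟨-, h⟩ | ⟨-, h⟩ | ⟨-, h⟩ | ⟨-, h⟩ | ⟨-, h⟩ | ⟨-, h⟩ | ⟨-, h⟩ | ⟨-, h⟩ | ⟨-, h⟩ | ⟨-, h⟩ |
      ⟨-, h⟩ | ⟨-, h⟩ | ⟨-, h⟩ | ⟨-, h⟩ | ⟨-, h⟩ | ⟨-, h⟩ | ⟨-, h⟩ | ⟨-, h⟩ | ⟨-, h⟩ | ⟨-, h⟩ | ⟨-, h⟩ |
      ⟨-, h⟩ | ⟨-, h⟩ | ⟨-, h⟩ | ⟨-, h⟩ | ⟨-, h⟩ <;>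
    · rw [h] at h3 ⊢
      refine spor_aux _ _ (by simp only [Nat.primeFactorsList_ofNat]; rfl) p h3 ?_ hodd
      decide

end Cfsg.Agent.S2367
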