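import Cfsg.Statements.S2368
import Cfsg.Agent.S2260

set_option autoImplicit false
open Cfsg

namespace Cfsg.Agent.S2368

/-- The shift matrix: `1` just above the diagonal. -/
def shiftMat (F : Type*) [Field F] (m : ℕ) : Matrix (Fin m) (Fin m) F :=
  Matrix.of fun i j => if j.val = i.val + 1 then 1 else 0

theorem shiftMat_pow (F : Type*) [Field F] (m : ℕ) (k : ℕ) :
    (shiftMat F m) ^ k = Matrix.of fun i j => if j.val = i.val + k then (1 : F) else 0 := by
  induction k with
  | zero =>
    ext i j
    simp [Matrix.one_apply, Fin.ext_iff, eq_comm]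
  | succ k ih =>
    rw [pow_succ, ih]
    ext i j
    simp only [Matrix.mul_apply, Matrix.of_apply, shiftMat]
    by_cases h : j.val = i.val + (k + 1)
    · rw [if_pos h]
      have hlt : i.val + k < m := by have := j.2; omega
      rw [Finset.sum_eq_single (⟨i.val + k, hlt⟩ : Fin m)]
      · simp [h]; omega
      · intro b _ hb
        have : ¬ (b.val = i.val + k) := fun hh => hb (Fin.ext hh)
        simp [this]
      · simp
    · rw [if_neg h]
      apply Finset.sum_eq_zero
      intro b _
      by_cases h1 : b.val = i.val + k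
      · have : ¬ (j.val = b.val + 1) := by omega
        simp [this]
      · simp [h1]

theorem pow_lt_mul (p : ℕ) (hp : p.Prime) (m : ℕ) (hm : 1 ≤ m) : p ^ Nat.clog p m < p * m := by
  rcases Nat.lt_or_ge 1 m with h | h
  · have h1 := Nat.pow_pred_clog_lt_self hp.one_lt h
    have h2 : 0 < Nat.clog p m := Nat.clog_pos hp.one_lt h
    have : p ^ Nat.clog p m = p * p ^ (Nat.clog p m).pred := by
      rw [← pow_succ']; congr 1; exact (Nat.succ_pred_eq_of_pos h2).symm
    rw [this]
    exact Nat.mul_lt_mul_of_pos_left h1 hp.pos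
  · have : m = 1 := le_antisymm h hm
    subst this
    simp [hp.one_lt]

/-- Let F be a finite field of characteristic p and m ≥ 1. Every element of GL(m, F) of p-power order has order less than p·m, and GL(m, F) has an element of p-power order at least m; so the largest order of a p-element of GL(m, F) is the least power of p that is at least m. -/
theorem result {F : Type*} [Field F] [Fintype F] (p : ℕ) [Fact p.Prime] [CharP F p] (m : ℕ) (hm : 1 ≤ m) :
    (∀ g : Matrix.GeneralLinearGroup (Fin m) F, (∃ j : ℕ, orderOf g = p ^ j) → orderOf g < p * m) ∧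
      ∃ g : Matrix.GeneralLinearGroup (Fin m) F, (∃ j : ℕ, orderOf g = p ^ j) ∧ m ≤ orderOf g := by
  have hpp : p.Prime := Fact.out
  have : Nonempty (Fin m) := ⟨⟨0, hm⟩⟩
  have : CharP (Matrix (Fin m) (Fin m) F) p := Matrix.charP p
  constructor
  · rintro g ⟨j, hj⟩
    have hnil : IsNilpotent ((g : Matrix (Fin m) (Fin m) F) - 1) := by
      refine ⟨p ^ j, ?_⟩
      rw [sub_pow_char_pow_of_commute p j (Commute.one_right _), one_pow, ← Units.val_pow_eq_pow_val,
        ← hj, pow_orderOf_eq_one, Units.val_one, sub_self]
    exact lt_of_le_of_lt (Cfsg.Agent.S2260.result p m g hnil).1 (pow_lt_mul p hpp m hm)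
  · have hN : IsNilpotent (shiftMat F m) := by
      refine ⟨m, ?_⟩
      rw [shiftMat_pow]
      ext i j
      have : ¬ (j.val = i.val + m) := by have := j.2; omega
      simp [this]
    have hu : IsUnit (1 + shiftMat F m) := by
      rw [add_comm]; exact hN.isUnit_add_one
    set g : Matrix.GeneralLinearGroup (Fin m) F := hu.unit with hg
    have hgc : (g : Matrix (Fin m) (Fin m) F) = 1 + shiftMat F m := IsUnit.unit_spec hu
    have hnil : IsNilpotent ((g : Matrix (Fin m) (Fin m) F) - 1) := by
      rw [hgc, add_sub_cancel_left]; exact hN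
    have hne : ((g : Matrix (Fin m) (Fin m) F) - 1) ^ (m - 1) ≠ 0 := by
      rw [hgc, add_sub_cancel_left, shiftMat_pow]
      intro h
      have := congrFun (congrFun h ⟨0, hm⟩) ⟨m - 1, by omega⟩
      simp at this
    have := (Cfsg.Agent.S2260.result p m g hnil).2 hne
    refine ⟨g, ⟨_, this⟩, ?_⟩
    rw [this]
    exact Nat.le_pow_clog hpp.one_lt m

end Cfsg.Agent.S2368
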