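import Cfsg.Statements.S2370
import Cfsg.Agent.Lib.Helper14.ChevWt1
import Cfsg.Agent.Lib.Helper14.LieOrd1
import Cfsg.Agent.Lib.Helper14.SylConj
import Cfsg.Agent.S1068
import Cfsg.Agent.S1090

set_option autoImplicit false
open Cfsg

namespace Cfsg.Agent.S2370

open Cfsg.Agent.Lib.Helper14.LieOrd Cfsg.Agent.Lib.Helper14.ChevWt Cfsg.Lie in
/-- Let q = 2^(2m+1) with m ≥ 1. Every element of 2-power order of the large Ree group ²F₄(q) has order at most 32. -/
theorem result {K : Type*} [Field K] [Fintype K] (m : ℕ) (hm : 1 ≤ m) (hK : Fintype.card K = 2 ^ (2 * m + 1))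
    (x : ↥(Cfsg.Lie.twistedF4 K (2 ^ m))) (hx : ∃ j : ℕ, orderOf x = 2 ^ j) : orderOf x ≤ 32 := by
  classical
  have : Fact (Nat.Prime 2) := ⟨Nat.prime_two⟩
  -- characteristic two
  have h2 : (2 : K) = 0 := by
    have h := FiniteField.cast_card_eq_zero K
    rw [hK] at h
    push_cast at h
    exact pow_eq_zero_iff (by omega) |>.mp h
  have : CharP K 2 := CharTwo.of_one_ne_zero_of_two_eq_zero one_ne_zero h2
  have : Nonempty chevF4.Idx := ⟨Sum.inr ⟨0, by show 0 < 48; norm_num⟩⟩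
  -- elements of `U` have order dividing `32`
  have hU : ∀ u : GL chevF4.Idx K, u ∈ chevF4.posUnipotent K → u ^ 32 = 1 := by
    intro u hu
    have h23 := F4_sub_one_pow hu
    have h32 : ((u : Matrix chevF4.Idx chevF4.Idx K) - 1) ^ (2 ^ 5) = 0 := by
      have : (2 : ℕ) ^ 5 = 23 + 9 := by norm_num
      rw [this, pow_add, h23, zero_mul]
    rw [sub_pow_char_pow_of_commute 2 5 (Commute.one_right _), one_pow, sub_eq_zero] at h32
    apply Units.ext
    rw [Units.val_pow_eq_pow_val, Units.val_one]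
    exact h32
  -- the Sylow 2-subgroup
  have : Finite ↥(Cfsg.Lie.twistedF4 K (2 ^ m)) := Finite.of_fintype _
  have hcardG := Cfsg.Agent.S1068.result (K := K) hK
  have hcardU := Cfsg.Agent.S1090.result (K := K) hK
  have hg0 : Nat.card ↥(Cfsg.Lie.twistedF4 K (2 ^ m)) ≠ 0 := Nat.card_pos.ne'
  have hq1 : 1 ≤ 2 ^ (2 * m + 1) := Nat.one_le_pow _ _ (by norm_num)
  have hpq : 2 ∣ 2 ^ (2 * m + 1) := dvd_pow_self 2 (by omega)
  have hfac : (Nat.card ↥(Cfsg.Lie.twistedF4 K (2 ^ m))).factorization 2 = (2 * m + 1) * 12 := by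
    have h' : 1 * Nat.card ↥(Cfsg.Lie.twistedF4 K (2 ^ m)) =
        (2 ^ (2 * m + 1)) ^ 12 * ((2 ^ (2 * m + 1) - 1) *
        ((2 ^ (2 * m + 1)) ^ 3 + 1) * ((2 ^ (2 * m + 1)) ^ 4 - 1) * ((2 ^ (2 * m + 1)) ^ 6 + 1)) := by
      rw [one_mul, hcardG]; ring
    have n0 : ¬ 2 ∣ 2 ^ (2 * m + 1) - 1 := by
      have := not_dvd_pow_sub_one (a := 1) Nat.prime_two hpq hq1 one_ne_zero
      rwa [pow_one] at this
    refine factorization_eq Nat.prime_two h' (by norm_num) ?_ hg0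
    exact not_dvd_mul Nat.prime_two (not_dvd_mul Nat.prime_two (not_dvd_mul Nat.prime_two n0
      (not_dvd_pow_add_one Nat.prime_two hpq (by norm_num)))
      (not_dvd_pow_sub_one Nat.prime_two hpq hq1 (by norm_num)))
      (not_dvd_pow_add_one Nat.prime_two hpq (by norm_num))
  have hcardP : Nat.card ↥((chevF4.posUnipotent K ⊓ Cfsg.Lie.twistedF4 K (2 ^ m)).subgroupOf
      (Cfsg.Lie.twistedF4 K (2 ^ m))) =
      2 ^ (Nat.card ↥(Cfsg.Lie.twistedF4 K (2 ^ m))).factorization 2 := by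
    have e : ↥((chevF4.posUnipotent K ⊓ Cfsg.Lie.twistedF4 K (2 ^ m)).subgroupOf
        (Cfsg.Lie.twistedF4 K (2 ^ m))) ≃* ↥(chevF4.posUnipotent K ⊓ Cfsg.Lie.twistedF4 K (2 ^ m)) :=
      Subgroup.subgroupOfEquivOfLe inf_le_right
    rw [Nat.card_congr e.toEquiv, hcardU, hfac, ← pow_mul]
  -- conjugate `x` into the Sylow subgroup
  obtain ⟨j, hj⟩ := hx
  obtain ⟨g, hy⟩ := Cfsg.Agent.Lib.Helper14.SylConj.exists_conj_mem 2 _ hcardP x j hj
  have hyU : ((g⁻¹ * x * g : ↥(Cfsg.Lie.twistedF4 K (2 ^ m))) : GL chevF4.Idx K) ∈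
      chevF4.posUnipotent K := by
    have := Subgroup.mem_subgroupOf.mp hy
    exact (Subgroup.mem_inf.mp this).1
  have hy32 : (g⁻¹ * x * g) ^ 32 = 1 := by
    apply Subtype.ext
    rw [Subgroup.coe_pow, Subgroup.coe_one]
    exact hU _ hyU
  have hx32 : x ^ 32 = 1 := Cfsg.Agent.Lib.Helper14.SylConj.pow_eq_one_of_conj g x 32 hy32
  exact orderOf_le_of_pow_eq_one (by norm_num) hx32

end Cfsg.Agent.S2370
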