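import Cfsg.Statements.S2380
import Cfsg.Agent.Lib.Helper14.SylowLargeArith
import Cfsg.Agent.Lib.Helper14.OrthoTransfer

set_option autoImplicit false
open scoped MatrixGroups
open Cfsg

namespace Cfsg.Agent.S2380

open Matrix Cfsg.Agent.Lib.Helper14

section construction

variable {F : Type*} [Field F]

/-- Block-diagonal embedding of `GL_d(F)^a` into `GL_{da}(F)`. -/
def bdHom (a d : ℕ) : (Fin a → GL (Fin d) F) →* GL (Fin d × Fin a) F :=
  (Units.map (Matrix.blockDiagonalRingHom (Fin d) (Fin a) F).toMonoidHom).comp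
    (MulEquiv.piUnits (M := fun _ : Fin a => Matrix (Fin d) (Fin d) F)).symm.toMonoidHom

theorem bdHom_injective (a d : ℕ) : Function.Injective (bdHom (F := F) a d) := by
  intro x y hxy
  have h1 : Function.Injective
      (Units.map (Matrix.blockDiagonalRingHom (Fin d) (Fin a) F).toMonoidHom) :=
    Units.map_injective (f := (Matrix.blockDiagonalRingHom (Fin d) (Fin a) F).toMonoidHom)
      Matrix.blockDiagonal_injective
  have h2 := h1 hxy
  exact (MulEquiv.piUnits (M := fun _ : Fin a => Matrix (Fin d) (Fin d) F)).symm.injective h2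

/-- Reindexing of `GL`. -/
def glReindex {m n : Type} [Fintype m] [Fintype n] [DecidableEq m] [DecidableEq n] (e : m ≃ n) :
    GL m F ≃* GL n F :=
  Units.mapEquiv (Matrix.reindexRingEquiv F e).toMulEquiv

end construction

/-- Sylow subgroups of `GL_n(q)` for large primes. Let `F` be a field with `q` elements and `r` a prime with `r > n` and `r ∤ q`. Let `d` be the multiplicative order of `q` modulo `r` and `m` the `r`-part of the value at `q` of the `d`-th cyclotomic polynomial. Then every Sylow `r`-subgroup of `GL_n(q)` is a direct product of `⌊n/d⌋` cyclic groups of order `m` (the degrees of the Weyl group being `1, …, n`). -/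
theorem result {F : Type*} [Field F] [Fintype F] {q : ℕ} (hq : Fintype.card F = q) (n : ℕ)
    (r : ℕ) [Fact r.Prime] (hrn : n < r) (hrq : ¬ r ∣ q) (P : Sylow r (GL (Fin n) F)) :
    Nonempty (↥(P : Subgroup (GL (Fin n) F)) ≃*
      (Fin (n / orderOf (q : ZMod r)) →
        Multiplicative (ZMod (r ^ padicValNat r ((Polynomial.cyclotomic (orderOf (q : ZMod r)) ℤ).eval (q : ℤ)).natAbs)))) := by
  classical
  subst hq
  have hr : r.Prime := Fact.out
  set q := Fintype.card F with hqdef
  have hq2 : 2 ≤ q := Fintype.one_lt_card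
  set d := orderOf (q : ZMod r) with hd
  have hdpos : 0 < d := orderOf_zmod_pos q r hrq
  set a := n / d with ha
  set e' := padicValNat r ((Polynomial.cyclotomic d ℤ).eval (q : ℤ)).natAbs with he'
  have he : (q ^ d - 1).factorization r = e' := factorization_pow_orderOf_sub_one q r hrq hq2
  -- the extension field
  obtain ⟨p, hp⟩ := CharP.exists F
  have : Fact p.Prime := ⟨CharP.char_is_prime F p⟩
  have : NeZero d := ⟨hdpos.ne'⟩
  let E := FiniteField.Extension F p d
  have hfr : Module.finrank F E = d := FiniteField.finrank_extension F p d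
  let b : Module.Basis (Fin d) F E := (Module.finBasis F E).reindex (finCongr hfr)
  have hinj : Function.Injective (Algebra.leftMulMatrix b) := Algebra.leftMulMatrix_injective b
  let Ψ : Eˣ →* GL (Fin d) F := Units.map (Algebra.leftMulMatrix b : E →* Matrix (Fin d) (Fin d) F)
  have hΨ : Function.Injective Ψ := Units.map_injective hinj
  have hEcard : Nat.card Eˣ = q ^ d - 1 := by
    rw [Nat.card_units, FiniteField.natCard_extension F p d, Nat.card_eq_fintype_card]
  -- the Sylow `r`-subgroup of `Eˣ`
  let Cs : Sylow r Eˣ := default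
  let Cx : Subgroup Eˣ := (Cs : Subgroup Eˣ)
  have hCcard : Nat.card Cx = r ^ e' := by
    rw [Sylow.card_eq_multiplicity Cs, hEcard, he]
  have hCcyc : IsCyclic Cx := Subgroup.isCyclic _
  -- the embedding
  let Θ₀ : (Fin a → Cx) →* (Fin a → GL (Fin d) F) :=
    MonoidHom.pi (fun j => (Ψ.comp Cx.subtype).comp (Pi.evalMonoidHom _ j))
  have hΘ₀ : Function.Injective Θ₀ := by
    intro x y hxy
    funext j
    have h1 := congrFun hxy j
    exact Subtype.ext (hΨ h1)
  have hcardidx : Fintype.card ((Fin d × Fin a) ⊕ Fin (n - d * a)) = Fintype.card (Fin n) := by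
    simp only [Fintype.card_sum, Fintype.card_prod, Fintype.card_fin]
    have : d * a ≤ n := Nat.mul_div_le n d
    omega
  let eidx : (Fin d × Fin a) ⊕ Fin (n - d * a) ≃ Fin n := Fintype.equivOfCardEq hcardidx
  let Θ : (Fin a → Cx) →* GL (Fin n) F :=
    (glReindex eidx).toMonoidHom.comp ((glBlock (τ := Fin (n - d * a))).comp ((bdHom a d).comp Θ₀))
  have hΘ : Function.Injective Θ := by
    intro x y hxy
    have h1 := (glReindex (F := F) eidx).injective hxy
    have h2 := glBlock_injective h1
    have h3 := bdHom_injective a d h2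
    exact hΘ₀ h3
  -- the range is a Sylow subgroup
  have hTcard : Nat.card Θ.range = r ^ (Nat.card (GL (Fin n) F)).factorization r := by
    rw [Nat.card_congr (MonoidHom.ofInjective hΘ).toEquiv.symm, Nat.card_pi, Finset.prod_const,
      Finset.card_univ, Fintype.card_fin, hCcard, Matrix.card_GL_field,
      factorization_prod_GL q r hrq hq2 n hrn, he, ← pow_mul]
  let T : Sylow r (GL (Fin n) F) := Sylow.ofCard Θ.range hTcard
  have e1 : ↥(P : Subgroup (GL (Fin n) F)) ≃* ↥(T : Subgroup (GL (Fin n) F)) := Sylow.equiv P T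
  have e2 : ↥(T : Subgroup (GL (Fin n) F)) ≃* (Fin a → Cx) :=
    (MonoidHom.ofInjective hΘ).symm
  have e3 : ↥Cx ≃* Multiplicative (ZMod (r ^ e')) :=
    (zmodCyclicMulEquiv hCcyc).symm.trans
      (AddEquiv.toMultiplicative (ZMod.ringEquivCongr hCcard).toAddEquiv)
  exact ⟨e1.trans (e2.trans (MulEquiv.piCongrRight (fun _ => e3)))⟩

end Cfsg.Agent.S2380
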