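import Cfsg.Statements.S2379
import Cfsg.Agent.S2380
import Cfsg.Agent.Lib.Helper3.CardSL

set_option autoImplicit false
open Cfsg

namespace Cfsg.Agent.S2379

open Matrix Cfsg.Agent.Lib.Helper14 Cfsg.Agent.S2380

section torus

variable {F : Type*} [Field F] [Fintype F]

/-- The homocyclic group `(Z_m)^a` embeds in `GL_n(q)`. -/
theorem exists_homocyclic_GL (n r : ℕ) [Fact r.Prime] (hrq : ¬ r ∣ Fintype.card F) :
    ∃ Θ : (Fin (n / orderOf (Fintype.card F : ZMod r)) → Multiplicative (ZMod
        (r ^ padicValNat r ((Polynomial.cyclotomic (orderOf (Fintype.card F : ZMod r)) ℤ).eval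
          (Fintype.card F : ℤ)).natAbs))) →* GL (Fin n) F, Function.Injective Θ := by
  classical
  have hr : r.Prime := Fact.out
  set q := Fintype.card F with hqdef
  have hq2 : 2 ≤ q := Fintype.one_lt_card
  set d := orderOf (q : ZMod r) with hd
  have hdpos : 0 < d := orderOf_zmod_pos q r hrq
  set a := n / d with ha
  set e' := padicValNat r ((Polynomial.cyclotomic d ℤ).eval (q : ℤ)).natAbs with he'
  have he : (q ^ d - 1).factorization r = e' := factorization_pow_orderOf_sub_one q r hrq hq2
  obtain ⟨p, hp⟩ := CharP.exists F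
  have : Fact p.Prime := ⟨CharP.char_is_prime F p⟩
  have : NeZero d := ⟨hdpos.ne'⟩
  let E := FiniteField.Extension F p d
  have hfr : Module.finrank F E = d := FiniteField.finrank_extension F p d
  let b : Module.Basis (Fin d) F E := (Module.finBasis F E).reindex (finCongr hfr)
  have hinj : Function.Injective (Algebra.leftMulMatrix b) := Algebra.leftMulMatrix_injective b
  let Ψ : Eˣ →* GL (Fin d) F := Units.map (Algebra.leftMulMatrix b : E →* Matrix (Fin d) (Fin d) F)
  have hΨ : Function.Injective Ψ := Units.map_injective hinj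
  have hEcard : Nat.card Eˣ = q ^ d - 1 := by
    rw [Nat.card_units, FiniteField.natCard_extension F p d, Nat.card_eq_fintype_card]
  let Cs : Sylow r Eˣ := default
  let Cx : Subgroup Eˣ := (Cs : Subgroup Eˣ)
  have hCcard : Nat.card Cx = r ^ e' := by
    rw [Sylow.card_eq_multiplicity Cs, hEcard, he]
  have hCcyc : IsCyclic Cx := Subgroup.isCyclic _
  let Θ₀ : (Fin a → Cx) →* (Fin a → GL (Fin d) F) :=
    MonoidHom.pi (fun j => (Ψ.comp Cx.subtype).comp (Pi.evalMonoidHom _ j))
  have hΘ₀ : Function.Injective Θ₀ := by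
    intro x y hxy
    funext j
    have h1 := congrFun hxy j
    exact Subtype.ext (hΨ h1)
  have hcardidx : Fintype.card ((Fin d × Fin a) ⊕ Fin (n - d * a)) = Fintype.card (Fin n) := by
    simp only [Fintype.card_sum, Fintype.card_prod, Fintype.card_fin]
    have : d * a ≤ n := Nat.mul_div_le n d
    omega
  let eidx : (Fin d × Fin a) ⊕ Fin (n - d * a) ≃ Fin n := Fintype.equivOfCardEq hcardidx
  let Θ : (Fin a → Cx) →* GL (Fin n) F :=
    (glReindex eidx).toMonoidHom.comp ((glBlock (τ := Fin (n - d * a))).comp ((bdHom a d).comp Θ₀))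
  have hΘ : Function.Injective Θ := by
    intro x y hxy
    have h1 := (glReindex (F := F) eidx).injective hxy
    have h2 := glBlock_injective h1
    have h3 := bdHom_injective a d h2
    exact hΘ₀ h3
  have e3 : ↥Cx ≃* Multiplicative (ZMod (r ^ e')) :=
    (zmodCyclicMulEquiv hCcyc).symm.trans
      (AddEquiv.toMultiplicative (ZMod.ringEquivCongr hCcard).toAddEquiv)
  let e4 : (Fin a → Multiplicative (ZMod (r ^ e'))) ≃* (Fin a → Cx) :=
    (MulEquiv.piCongrRight (fun _ => e3)).symm
  exact ⟨Θ.comp e4.toMonoidHom, hΘ.comp e4.injective⟩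

end torus

section finish

/-- A Sylow subgroup is isomorphic to any embedded homocyclic group of the right order. -/
theorem sylow_of_embedding {G : Type*} [Group G] [Finite G] (r : ℕ) [Fact r.Prime] (c m : ℕ)
    (Θ : (Fin c → Multiplicative (ZMod m)) →* G) (hΘ : Function.Injective Θ)
    (hcard : m ^ c = r ^ (Nat.card G).factorization r) (P : Sylow r G) :
    Nonempty (↥(P : Subgroup G) ≃* (Fin c → Multiplicative (ZMod m))) := by
  have hTcard : Nat.card Θ.range = r ^ (Nat.card G).factorization r := by
    rw [Nat.card_congr (MonoidHom.ofInjective hΘ).toEquiv.symm, Nat.card_pi, Finset.prod_const,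
      Finset.card_univ, Fintype.card_fin, ← hcard]
    congr 1
    exact Nat.card_zmod m
  let T : Sylow r G := Sylow.ofCard Θ.range hTcard
  have e1 : ↥(P : Subgroup G) ≃* ↥(T : Subgroup G) := Sylow.equiv P T
  have e2 : ↥(T : Subgroup G) ≃* (Fin c → Multiplicative (ZMod m)) :=
    (MonoidHom.ofInjective hΘ).symm
  exact ⟨e1.trans e2⟩

theorem card_filter_dvd_Icc (n d : ℕ) (hd : 2 ≤ d) :
    ((Finset.Icc 2 n).filter (fun i => d ∣ i)).card = n / d := by
  rw [← Nat.Ioc_filter_dvd_card_eq_div n d]
  congr 1
  ext x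
  simp only [Finset.mem_filter, Finset.mem_Icc, Finset.mem_Ioc]
  constructor
  · rintro ⟨⟨h2, hn⟩, hdx⟩
    exact ⟨⟨by omega, hn⟩, hdx⟩
  · rintro ⟨⟨h0, hn⟩, hdx⟩
    have := Nat.le_of_dvd h0 hdx
    exact ⟨⟨by omega, hn⟩, hdx⟩

theorem card_filter_one_dvd_Icc (n : ℕ) :
    ((Finset.Icc 2 n).filter (fun i => 1 ∣ i)).card = n - 1 := by
  rw [Finset.filter_true_of_mem (fun i _ => one_dvd i), Nat.card_Icc]
  omega

end finish

section diag

variable {F : Type*} [Field F]

/-- The diagonal torus of `SL_{k+1}`. -/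
def diagSL (k : ℕ) : (Fin k → Fˣ) →* SpecialLinearGroup (Fin (k + 1)) F where
  toFun x := ⟨diagonal (Fin.cons (((∏ j, x j)⁻¹ : Fˣ) : F) (fun j => ((x j : Fˣ) : F))), by
    rw [det_diagonal, Fin.prod_univ_succ]
    simp only [Fin.cons_zero, Fin.cons_succ]
    rw [← Units.coe_prod, ← Units.val_mul, inv_mul_cancel, Units.val_one]⟩
  map_one' := by
    apply Subtype.ext
    show diagonal (Fin.cons (((∏ j, (1 : Fin k → Fˣ) j)⁻¹ : Fˣ) : F)
      (fun j => (((1 : Fin k → Fˣ) j : Fˣ) : F))) = 1
    rw [← diagonal_one]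
    congr 1
    funext i
    refine Fin.cases ?_ (fun j => ?_) i
    · simp
    · simp
  map_mul' x y := by
    apply Subtype.ext
    show diagonal (Fin.cons (((∏ j, (x * y) j)⁻¹ : Fˣ) : F) (fun j => (((x * y) j : Fˣ) : F))) =
      diagonal (Fin.cons (((∏ j, x j)⁻¹ : Fˣ) : F) (fun j => ((x j : Fˣ) : F))) *
      diagonal (Fin.cons (((∏ j, y j)⁻¹ : Fˣ) : F) (fun j => ((y j : Fˣ) : F)))
    rw [diagonal_mul_diagonal]
    congr 1
    funext i
    refine Fin.cases ?_ (fun j => ?_) i
    · simp only [Fin.cons_zero, Pi.mul_apply, Finset.prod_mul_distrib, mul_inv, Units.val_mul]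
    · simp only [Fin.cons_succ, Pi.mul_apply, Units.val_mul]

theorem diagSL_injective (k : ℕ) : Function.Injective (diagSL (F := F) k) := by
  intro x y hxy
  funext j
  have h1 : ((diagSL k x : SpecialLinearGroup (Fin (k + 1)) F) : Matrix _ _ F) j.succ j.succ =
      ((diagSL k y : SpecialLinearGroup (Fin (k + 1)) F) : Matrix _ _ F) j.succ j.succ := by
    rw [hxy]
  have h2 : ∀ z : Fin k → Fˣ,
      ((diagSL k z : SpecialLinearGroup (Fin (k + 1)) F) : Matrix _ _ F) j.succ j.succ = (z j : F) := by
    intro z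
    show diagonal (Fin.cons (((∏ j, z j)⁻¹ : Fˣ) : F) (fun j => ((z j : Fˣ) : F))) j.succ j.succ = _
    rw [diagonal_apply_eq, Fin.cons_succ]
  rw [h2, h2] at h1
  exact Units.ext h1

end diag

/-- Sylow subgroups of `SL_n(q)` for large primes. Let `F` be a field with `q` elements and `r` a prime with `r > n` and `r ∤ q` (so `r` does not divide the order `n!` of the Weyl group). Let `d` be the multiplicative order of `q` modulo `r`, `a` the number of integers `i` with `2 ≤ i ≤ n` divisible by `d` (the degrees of the Weyl group are `2, …, n`), and `m` the `r`-part of the value at `q` of the `d`-th cyclotomic polynomial. Then every Sylow `r`-subgroup of `SL_n(q)` is a direct product of `a` cyclic groups of order `m`. -/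
theorem result {F : Type*} [Field F] [Fintype F] {q : ℕ} (hq : Fintype.card F = q) (n : ℕ)
    (r : ℕ) [Fact r.Prime] (hrn : n < r) (hrq : ¬ r ∣ q) (P : Sylow r (Matrix.SpecialLinearGroup (Fin n) F)) :
    Nonempty (↥(P : Subgroup (Matrix.SpecialLinearGroup (Fin n) F)) ≃*
      (Fin ((Finset.Icc 2 n).filter (fun i => orderOf (q : ZMod r) ∣ i)).card →
        Multiplicative (ZMod (r ^ padicValNat r ((Polynomial.cyclotomic (orderOf (q : ZMod r)) ℤ).eval (q : ℤ)).natAbs)))) := by
  classical
  subst hq
  have hr : r.Prime := Fact.out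
  set q := Fintype.card F with hqdef
  have hq2 : 2 ≤ q := Fintype.one_lt_card
  set d := orderOf (q : ZMod r) with hd
  have hdpos : 0 < d := orderOf_zmod_pos q r hrq
  set e' := padicValNat r ((Polynomial.cyclotomic d ℤ).eval (q : ℤ)).natAbs with he'
  have he : (q ^ d - 1).factorization r = e' := factorization_pow_orderOf_sub_one q r hrq hq2
  rcases Nat.eq_zero_or_pos n with hn0 | hnpos
  · -- `n = 0`
    subst hn0
    have hc : ((Finset.Icc 2 0).filter (fun i => d ∣ i)).card = 0 := by simp
    rw [hc]
    have : Subsingleton (SpecialLinearGroup (Fin 0) F) :=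
      ⟨fun A B => Subtype.ext (Subsingleton.elim _ _)⟩
    have : Unique ↥(P : Subgroup (SpecialLinearGroup (Fin 0) F)) :=
      ⟨⟨1⟩, fun x => Subsingleton.elim _ _⟩
    exact ⟨MulEquiv.ofUnique⟩
  -- the order of `SL_n`
  have hGL := Cfsg.Agent.Lib.Helper3.CardSL.card_GL_eq_card_SL_mul (F := F) n hnpos
  rw [Matrix.card_GL_field, Nat.card_units, Nat.card_eq_fintype_card (α := F)] at hGL
  have hSLpos : Nat.card (SpecialLinearGroup (Fin n) F) ≠ 0 := Nat.card_pos.ne'
  have hq1 : q - 1 ≠ 0 := by omega
  have hfac : e' * (n / d) =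
      (Nat.card (SpecialLinearGroup (Fin n) F)).factorization r + (q - 1).factorization r := by
    have h1 := factorization_prod_GL q r hrq hq2 n hrn
    rw [he] at h1
    rw [← h1, hGL, Nat.factorization_mul hSLpos hq1, Finsupp.add_apply]
  rcases Nat.lt_or_ge d 2 with hd1 | hd2
  · -- `d = 1`
    have hd1' : d = 1 := by omega
    have hq1fac : (q - 1).factorization r = e' := by
      rw [← he, hd1', pow_one]
    rw [hd1'] at hfac ⊢
    rw [Nat.div_one, hq1fac] at hfac
    rw [card_filter_one_dvd_Icc]
    obtain ⟨k, rfl⟩ : ∃ k, n = k + 1 := ⟨n - 1, by omega⟩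
    rw [Nat.add_sub_cancel]
    -- the Sylow subgroup of `Fˣ`
    let Cs : Sylow r Fˣ := default
    let Cx : Subgroup Fˣ := (Cs : Subgroup Fˣ)
    have hCcard : Nat.card Cx = r ^ e' := by
      rw [Sylow.card_eq_multiplicity Cs, Nat.card_units, Nat.card_eq_fintype_card (α := F), hq1fac]
    have hCcyc : IsCyclic Cx := Subgroup.isCyclic _
    have e3 : ↥Cx ≃* Multiplicative (ZMod (r ^ e')) :=
      (zmodCyclicMulEquiv hCcyc).symm.trans
        (AddEquiv.toMultiplicative (ZMod.ringEquivCongr hCcard).toAddEquiv)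
    let e4 : (Fin k → Multiplicative (ZMod (r ^ e'))) ≃* (Fin k → Cx) :=
      (MulEquiv.piCongrRight (fun _ => e3)).symm
    let ι₀ : (Fin k → Cx) →* (Fin k → Fˣ) :=
      MonoidHom.pi (fun j => Cx.subtype.comp (Pi.evalMonoidHom _ j))
    have hι₀ : Function.Injective ι₀ := by
      intro x y hxy
      funext j
      exact Subtype.ext (congrFun hxy j)
    let Θ : (Fin k → Multiplicative (ZMod (r ^ e'))) →* SpecialLinearGroup (Fin (k + 1)) F :=
      (diagSL k).comp (ι₀.comp e4.toMonoidHom)
    have hΘ : Function.Injective Θ :=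
      (diagSL_injective k).comp (hι₀.comp e4.injective)
    refine sylow_of_embedding r k (r ^ e') Θ hΘ ?_ P
    rw [← pow_mul]
    congr 1
    have : e' * (k + 1) = e' * k + e' := by ring
    omega
  · -- `d ≥ 2`
    have hq1fac : (q - 1).factorization r = 0 := by
      apply Nat.factorization_eq_zero_of_not_dvd
      intro hdvd
      have h1 : r ∣ q ^ 1 - 1 := by rwa [pow_one]
      have h2 := (dvd_pow_sub_one_iff q r hrq 1).mp h1
      have := Nat.le_of_dvd one_pos h2
      omega
    rw [hq1fac, add_zero] at hfac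
    rw [card_filter_dvd_Icc n d hd2]
    obtain ⟨Θ, hΘ⟩ := exists_homocyclic_GL (F := F) n r hrq
    -- determinants are trivial
    have hdet : ∀ x, Matrix.GeneralLinearGroup.det (Θ x) = 1 := by
      intro x
      set u := Matrix.GeneralLinearGroup.det (Θ x) with hu
      have h1 : u ^ (r ^ e') = 1 := by
        rw [hu, ← map_pow, ← map_pow]
        have : x ^ (r ^ e') = 1 := by
          funext j
          show (x j) ^ (r ^ e') = 1
          have hc : Nat.card (Multiplicative (ZMod (r ^ e'))) = r ^ e' := by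
            rw [Nat.card_congr Multiplicative.toAdd, Nat.card_zmod]
          have h7 := pow_card_eq_one' (G := Multiplicative (ZMod (r ^ e'))) (x := x j)
          rw [hc] at h7
          exact h7
        rw [this, map_one, map_one]
      have h2 : orderOf u ∣ r ^ e' := orderOf_dvd_of_pow_eq_one h1
      have h3 : orderOf u ∣ q - 1 := by
        have := orderOf_dvd_natCard u
        rwa [Nat.card_units, Nat.card_eq_fintype_card (α := F)] at this
      have h4 : orderOf u = 1 := by
        obtain ⟨t, -, ht⟩ := (Nat.dvd_prime_pow hr).mp h2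
        rcases Nat.eq_zero_or_pos t with h0 | hpos
        · rw [ht, h0, pow_zero]
        · exfalso
          have h5 : r ∣ q - 1 := (dvd_pow_self r hpos.ne').trans (ht ▸ h3)
          have := (Nat.factorization_eq_zero_iff _ _).mp hq1fac
          rcases this with h | h | h
          · exact h hr
          · exact h h5
          · omega
      exact orderOf_eq_one_iff.mp h4
    let Θ' : (Fin (n / d) → Multiplicative (ZMod (r ^ e'))) →* SpecialLinearGroup (Fin n) F :=
      { toFun := fun x => ⟨(Θ x : GL (Fin n) F), by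
          have := congrArg Units.val (hdet x)
          simpa using this⟩
        map_one' := by
          apply Subtype.ext
          show ((Θ 1 : GL (Fin n) F) : Matrix (Fin n) (Fin n) F) = 1
          rw [map_one]; rfl
        map_mul' := fun x y => by
          apply Subtype.ext
          show ((Θ (x * y) : GL (Fin n) F) : Matrix (Fin n) (Fin n) F) =
            ((Θ x : GL (Fin n) F) : Matrix (Fin n) (Fin n) F) * ((Θ y : GL (Fin n) F) : Matrix (Fin n) (Fin n) F)
          rw [map_mul]; rfl }
    have hΘ' : Function.Injective Θ' := by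
      intro x y hxy
      apply hΘ
      apply Units.ext
      exact congrArg Subtype.val hxy
    refine sylow_of_embedding r (n / d) (r ^ e') Θ' hΘ' ?_ P
    rw [← pow_mul, hfac]

end Cfsg.Agent.S2379
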