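import Cfsg.Statements.S2381
import Cfsg.Agent.Lib.Helper14.SpBlocks
import Cfsg.Agent.Lib.Helper14.SpRos
import Cfsg.Agent.Lib.Helper14.SylowLargeArith
import Cfsg.Agent.Lib.Helper15.SympOrder
import Cfsg.Agent.S2379

set_option autoImplicit false
open Cfsg

namespace Cfsg.Agent.S2381

open Cfsg.Agent.Lib.Helper14

section arith
variable (q r : ℕ) [hr : Fact r.Prime]

/-- LTE: the `r`-part of `q^(d j) - 1` for `r ∤ j` equals that of `q^d - 1`. -/
theorem factorization_pow_mul_sub_one' (hr2 : r ≠ 2) (hrq : ¬ r ∣ q) (hq2 : 2 ≤ q) (j : ℕ)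
    (hj : 0 < j) (hjr : ¬ r ∣ j) :
    (q ^ (orderOf (q : ZMod r) * j) - 1).factorization r =
      (q ^ orderOf (q : ZMod r) - 1).factorization r := by
  set d := orderOf (q : ZMod r) with hd
  have hdpos : 0 < d := orderOf_zmod_pos q r hrq
  have hodd : Odd r := hr.out.odd_of_ne_two hr2
  have h1 : 1 < q ^ d := Nat.one_lt_pow hdpos.ne' (by omega)
  have h2 : r ∣ q ^ d - 1 := (dvd_pow_sub_one_iff q r hrq d).mpr dvd_rfl
  have h3 : ¬ r ∣ q ^ d := fun h => hrq (hr.out.dvd_of_dvd_pow h)
  have := padicValNat.pow_sub_pow (p := r) hodd h1 h2 h3 (n := j) hj.ne'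
  rw [one_pow, ← pow_mul, padicValNat.eq_zero_of_not_dvd hjr, add_zero] at this
  rw [Nat.factorization_def _ hr.out, Nat.factorization_def _ hr.out, this]

theorem factorization_pow_two_mul_sub_one (hr2 : r ≠ 2) (hrq : ¬ r ∣ q) (hq2 : 2 ≤ q) (k : ℕ)
    (hk : 0 < k) (hkr : k < r) :
    (q ^ (2 * k) - 1).factorization r =
      if orderOf (q : ZMod r) ∣ 2 * k then (q ^ orderOf (q : ZMod r) - 1).factorization r
      else 0 := by
  split_ifs with h
  · obtain ⟨j, hj⟩ := h
    have hdpos := orderOf_zmod_pos q r hrq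
    have hj0 : 0 < j := by
      rcases Nat.eq_zero_or_pos j with h0 | h0
      · rw [h0, mul_zero] at hj
        omega
      · exact h0
    have hjr : ¬ r ∣ j := by
      intro hrj
      have h1 : r ∣ 2 * k := by
        rw [hj]
        exact hrj.mul_left _
      have h2 : r ∣ k := by
        rcases (hr.out.dvd_mul).mp h1 with h | h
        · exact absurd ((Nat.prime_dvd_prime_iff_eq hr.out Nat.prime_two).mp h) hr2
        · exact h
      have := Nat.le_of_dvd hk h2
      omega
    rw [hj]
    exact factorization_pow_mul_sub_one' q r hr2 hrq hq2 j hj0 hjr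
  · apply Nat.factorization_eq_zero_of_not_dvd
    rwa [dvd_pow_sub_one_iff q r hrq]

theorem factorization_card_Sp (hr2 : r ≠ 2) (hrq : ¬ r ∣ q) (hq2 : 2 ≤ q) (n : ℕ) (hnr : n < r) :
    (q ^ (n ^ 2) * ∏ i ∈ Finset.range n, (q ^ (2 * (i + 1)) - 1)).factorization r =
      (q ^ orderOf (q : ZMod r) - 1).factorization r *
        ((Finset.Icc 1 n).filter (fun i => orderOf (q : ZMod r) ∣ 2 * i)).card := by
  have hq0 : q ≠ 0 := by omega
  have hne : ∀ i ∈ Finset.range n, q ^ (2 * (i + 1)) - 1 ≠ 0 := by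
    intro i _
    have : 1 < q ^ (2 * (i + 1)) := Nat.one_lt_pow (by omega) (by omega)
    omega
  rw [Nat.factorization_mul (pow_ne_zero _ hq0) (Finset.prod_ne_zero_iff.mpr hne),
    Nat.factorization_pow, Nat.factorization_prod hne]
  simp only [Finsupp.coe_add, Finsupp.coe_smul, Pi.add_apply, Pi.smul_apply, smul_eq_mul,
    Finsupp.finset_sum_apply]
  rw [Nat.factorization_eq_zero_of_not_dvd hrq, mul_zero, zero_add]
  have h1 : ∀ i ∈ Finset.range n, (q ^ (2 * (i + 1)) - 1).factorization r =
      if orderOf (q : ZMod r) ∣ 2 * (i + 1) then (q ^ orderOf (q : ZMod r) - 1).factorization r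
      else 0 := by
    intro i hi
    rw [Finset.mem_range] at hi
    exact factorization_pow_two_mul_sub_one q r hr2 hrq hq2 (i + 1) (by omega) (by omega)
  rw [Finset.sum_congr rfl h1, Finset.sum_ite, Finset.sum_const_zero, add_zero, Finset.sum_const,
    smul_eq_mul, mul_comm]
  congr 1
  apply Finset.card_bij (fun i _ => i + 1)
  · intro i hi
    rw [Finset.mem_filter, Finset.mem_range] at hi
    rw [Finset.mem_filter, Finset.mem_Icc]
    exact ⟨⟨by omega, by omega⟩, hi.2⟩
  · intro i _ j _ hij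
    omega
  · intro k hk
    rw [Finset.mem_filter, Finset.mem_Icc] at hk
    refine ⟨k - 1, ?_, by omega⟩
    rw [Finset.mem_filter, Finset.mem_range]
    refine ⟨by omega, ?_⟩
    have : k - 1 + 1 = k := by omega
    rw [this]
    exact hk.2

theorem card_filter_odd (n d : ℕ) (hd : Odd d) :
    ((Finset.Icc 1 n).filter (fun i => d ∣ 2 * i)).card = n / d := by
  rw [← Nat.Ioc_filter_dvd_card_eq_div n d]
  congr 1
  ext x
  simp only [Finset.mem_filter, Finset.mem_Icc, Finset.mem_Ioc]
  have hcop : Nat.Coprime d 2 := Nat.Coprime.symm (Nat.coprime_two_left.mpr hd)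
  constructor
  · rintro ⟨⟨h1, hn⟩, hdx⟩
    exact ⟨⟨by omega, hn⟩, hcop.dvd_of_dvd_mul_left hdx⟩
  · rintro ⟨⟨h0, hn⟩, hdx⟩
    exact ⟨⟨by omega, hn⟩, hdx.mul_left 2⟩

theorem card_filter_even (n d' : ℕ) (hd' : 0 < d') :
    ((Finset.Icc 1 n).filter (fun i => 2 * d' ∣ 2 * i)).card = n / d' := by
  rw [← Nat.Ioc_filter_dvd_card_eq_div n d']
  congr 1
  ext x
  simp only [Finset.mem_filter, Finset.mem_Icc, Finset.mem_Ioc]
  constructor
  · rintro ⟨⟨h1, hn⟩, hdx⟩
    exact ⟨⟨by omega, hn⟩, (Nat.mul_dvd_mul_iff_left (by omega)).mp hdx⟩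
  · rintro ⟨⟨h0, hn⟩, hdx⟩
    exact ⟨⟨by omega, hn⟩, Nat.mul_dvd_mul_left 2 hdx⟩

end arith

section embed
open Matrix
variable {F : Type*} [Field F] [Fintype F]

theorem exists_embed_odd (n r : ℕ) [Fact r.Prime] (hrq : ¬ r ∣ Fintype.card F) :
    ∃ Θ : (Fin (n / orderOf (Fintype.card F : ZMod r)) → Multiplicative (ZMod
        (r ^ padicValNat r ((Polynomial.cyclotomic (orderOf (Fintype.card F : ZMod r)) ℤ).eval
          (Fintype.card F : ℤ)).natAbs))) →* symplecticGroup (Fin n) F, Function.Injective Θ := by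
  obtain ⟨Θ, hΘ⟩ := Cfsg.Agent.S2379.exists_homocyclic_GL (F := F) n r hrq
  exact ⟨glToSp.comp Θ, glToSp_injective.comp hΘ⟩

theorem exists_embed_even (n r : ℕ) [Fact r.Prime] (hrq : ¬ r ∣ Fintype.card F) (d' : ℕ)
    (hd : orderOf (Fintype.card F : ZMod r) = 2 * d') :
    ∃ Θ : (Fin (n / d') → Multiplicative (ZMod
        (r ^ padicValNat r ((Polynomial.cyclotomic (orderOf (Fintype.card F : ZMod r)) ℤ).eval
          (Fintype.card F : ℤ)).natAbs))) →* symplecticGroup (Fin n) F, Function.Injective Θ := by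
  classical
  have hr : r.Prime := Fact.out
  set q := Fintype.card F with hqdef
  have hq2 : 2 ≤ q := Fintype.one_lt_card
  set d := orderOf (q : ZMod r) with hdd
  have hdpos : 0 < d := orderOf_zmod_pos q r hrq
  have hd'pos : 0 < d' := by omega
  set a := n / d' with ha
  set e' := padicValNat r ((Polynomial.cyclotomic d ℤ).eval (q : ℤ)).natAbs with he'
  have he : (q ^ d - 1).factorization r = e' := factorization_pow_orderOf_sub_one q r hrq hq2
  obtain ⟨p, hp⟩ := CharP.exists F
  have : Fact p.Prime := ⟨CharP.char_is_prime F p⟩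
  have : NeZero d' := ⟨hd'pos.ne'⟩
  -- the intermediate field
  let K := FiniteField.Extension F p d'
  have : Fintype K := Fintype.ofFinite K
  have : CharP K p := charP_of_injective_algebraMap (algebraMap F K).injective p
  have hfrK : Module.finrank F K = d' := FiniteField.finrank_extension F p d'
  let bK : Module.Basis (Fin d') F K := (Module.finBasis F K).reindex (finCongr hfrK)
  have hKcard : Nat.card K = q ^ d' := by
    rw [FiniteField.natCard_extension F p d', Nat.card_eq_fintype_card]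
  -- the quadratic extension
  let E := FiniteField.Extension K p 2
  have hfrE : Module.finrank K E = 2 := FiniteField.finrank_extension K p 2
  let bE : Module.Basis (Fin 2) K E := (Module.finBasis K E).reindex (finCongr hfrE)
  have hEcard : Nat.card Eˣ = q ^ d - 1 := by
    rw [Nat.card_units, FiniteField.natCard_extension K p 2, hKcard, ← pow_mul, hd, mul_comm]
  let Ψ : Eˣ →* GL (Fin 2) K := Units.map (Algebra.leftMulMatrix bE : E →* Matrix (Fin 2) (Fin 2) K)
  have hΨ : Function.Injective Ψ := Units.map_injective (Algebra.leftMulMatrix_injective bE)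
  let Cs : Sylow r Eˣ := default
  let Cx : Subgroup Eˣ := (Cs : Subgroup Eˣ)
  have hCcard : Nat.card Cx = r ^ e' := by
    rw [Sylow.card_eq_multiplicity Cs, hEcard, he]
  have hCcyc : IsCyclic Cx := Subgroup.isCyclic _
  -- determinant one
  have hdet : ∀ u : Cx, ((Ψ u.1 : GL (Fin 2) K) : Matrix (Fin 2) (Fin 2) K).det = 1 := by
    intro u
    set δ : Kˣ := Matrix.GeneralLinearGroup.det (Ψ u.1) with hδ
    have h1 : δ ^ (r ^ e') = 1 := by
      rw [hδ, ← map_pow, ← map_pow]
      have : u.1 ^ (r ^ e') = 1 := by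
        have := pow_card_eq_one' (G := Cx) (x := u)
        rw [hCcard] at this
        exact congrArg Subtype.val this
      rw [this, map_one, map_one]
    have h2 : δ ^ (q ^ d' - 1) = 1 := by
      have := pow_card_eq_one' (G := Kˣ) (x := δ)
      rwa [Nat.card_units, hKcard] at this
    have h3 : ¬ r ∣ q ^ d' - 1 := by
      rw [dvd_pow_sub_one_iff q r hrq, ← hdd, hd]
      intro hdvd
      have := Nat.le_of_dvd hd'pos hdvd
      omega
    have hcop : Nat.Coprime (r ^ e') (q ^ d' - 1) :=
      Nat.Coprime.pow_left _ ((Nat.Prime.coprime_iff_not_dvd hr).mpr h3)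
    have h4 : orderOf δ ∣ Nat.gcd (r ^ e') (q ^ d' - 1) :=
      Nat.dvd_gcd (orderOf_dvd_of_pow_eq_one h1) (orderOf_dvd_of_pow_eq_one h2)
    rw [hcop, Nat.dvd_one, orderOf_eq_one_iff] at h4
    have h5 : ((δ : Kˣ) : K) = ((Ψ u.1 : GL (Fin 2) K) : Matrix (Fin 2) (Fin 2) K).det := rfl
    rw [← h5, h4, Units.val_one]
  let φ₀ : Cx →* SpecialLinearGroup (Fin 2) K :=
    { toFun := fun u => ⟨((Ψ u.1 : GL (Fin 2) K) : Matrix (Fin 2) (Fin 2) K), hdet u⟩
      map_one' := by
        apply Subtype.ext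
        show ((Ψ ((1 : Cx) : Eˣ) : GL (Fin 2) K) : Matrix (Fin 2) (Fin 2) K) = 1
        rw [Subgroup.coe_one, map_one, Units.val_one]
      map_mul' := by
        intro u v
        apply Subtype.ext
        show ((Ψ ((u * v : Cx) : Eˣ) : GL (Fin 2) K) : Matrix (Fin 2) (Fin 2) K) =
          ((Ψ u.1 : GL (Fin 2) K) : Matrix (Fin 2) (Fin 2) K) *
            ((Ψ v.1 : GL (Fin 2) K) : Matrix (Fin 2) (Fin 2) K)
        rw [Subgroup.coe_mul, map_mul, Units.val_mul] }
  have hφ₀ : Function.Injective φ₀ := by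
    intro u v huv
    have h1 : ((Ψ u.1 : GL (Fin 2) K) : Matrix (Fin 2) (Fin 2) K) =
        ((Ψ v.1 : GL (Fin 2) K) : Matrix (Fin 2) (Fin 2) K) := congrArg Subtype.val huv
    exact Subtype.ext (hΨ (Units.ext h1))
  let φ : Cx →* symplecticGroup (Fin d') F := (rosHom bK).comp φ₀
  have hφ : Function.Injective φ := (rosHom_injective bK).comp hφ₀
  let Θ₀ : (Fin a → Cx) →* (Fin a → symplecticGroup (Fin d') F) :=
    MonoidHom.pi (fun j => φ.comp (Pi.evalMonoidHom _ j))
  have hΘ₀ : Function.Injective Θ₀ := by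
    intro x y hxy
    funext j
    exact hφ (congrFun hxy j)
  have hcardidx : Fintype.card ((Fin d' × Fin a) ⊕ Fin (n - d' * a)) = Fintype.card (Fin n) := by
    simp only [Fintype.card_sum, Fintype.card_prod, Fintype.card_fin]
    have : d' * a ≤ n := Nat.mul_div_le n d'
    omega
  let eidx : (Fin d' × Fin a) ⊕ Fin (n - d' * a) ≃ Fin n := Fintype.equivOfCardEq hcardidx
  let Θ : (Fin a → Cx) →* symplecticGroup (Fin n) F :=
    (spReindex eidx).toMonoidHom.comp
      ((spSumLeft (l₂ := Fin (n - d' * a))).comp (spBlockDiag.comp Θ₀))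
  have hΘ : Function.Injective Θ := by
    intro x y hxy
    have h1 := (spReindex (F := F) eidx).injective hxy
    have h2 := spSumLeft_injective h1
    have h3 := spBlockDiag_injective h2
    exact hΘ₀ h3
  have e3 : ↥Cx ≃* Multiplicative (ZMod (r ^ e')) :=
    (zmodCyclicMulEquiv hCcyc).symm.trans
      (AddEquiv.toMultiplicative (ZMod.ringEquivCongr hCcard).toAddEquiv)
  let e4 : (Fin a → Multiplicative (ZMod (r ^ e'))) ≃* (Fin a → Cx) :=
    (MulEquiv.piCongrRight (fun _ => e3)).symm
  exact ⟨Θ.comp e4.toMonoidHom, hΘ.comp e4.injective⟩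

end embed

/-- Sylow subgroups of `Sp_{2n}(q)` for large primes. Let `F` be a field with `q` elements and `r` an odd prime with `r > n` and `r ∤ q` (so `r` does not divide the order `2^n n!` of the Weyl group). Let `d` be the multiplicative order of `q` modulo `r`, `a` the number of `i` with `1 ≤ i ≤ n` and `d ∣ 2i` (the degrees being `2, 4, …, 2n`), and `m` the `r`-part of the value at `q` of the `d`-th cyclotomic polynomial. Then every Sylow `r`-subgroup of the symplectic group `Sp_{2n}(q)` is a direct product of `a` cyclic groups of order `m`. -/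
theorem result {F : Type*} [Field F] [Fintype F] {q : ℕ} (hq : Fintype.card F = q) (n : ℕ)
    (r : ℕ) [Fact r.Prime] (hr2 : r ≠ 2) (hrn : n < r) (hrq : ¬ r ∣ q) (P : Sylow r ↥(Matrix.symplecticGroup (Fin n) F)) :
    Nonempty (↥(P : Subgroup ↥(Matrix.symplecticGroup (Fin n) F)) ≃*
      (Fin ((Finset.Icc 1 n).filter (fun i => orderOf (q : ZMod r) ∣ 2 * i)).card →
        Multiplicative (ZMod (r ^ padicValNat r ((Polynomial.cyclotomic (orderOf (q : ZMod r)) ℤ).eval (q : ℤ)).natAbs)))) := by
  classical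
  subst hq
  have hr : r.Prime := Fact.out
  have hq2 : 2 ≤ Fintype.card F := Fintype.one_lt_card
  have hdpos : 0 < orderOf (Fintype.card F : ZMod r) := orderOf_zmod_pos _ r hrq
  have he : (Fintype.card F ^ orderOf (Fintype.card F : ZMod r) - 1).factorization r =
      padicValNat r ((Polynomial.cyclotomic (orderOf (Fintype.card F : ZMod r)) ℤ).eval
        (Fintype.card F : ℤ)).natAbs :=
    factorization_pow_orderOf_sub_one _ r hrq hq2
  have hfac := factorization_card_Sp (Fintype.card F) r hr2 hrq hq2 n hrn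
  rw [← Cfsg.Agent.Lib.Helper15.card_symplecticGroup, he] at hfac
  have key : ∀ (c : ℕ), c = ((Finset.Icc 1 n).filter
      (fun i => orderOf (Fintype.card F : ZMod r) ∣ 2 * i)).card →
      (∃ Θ : (Fin c → Multiplicative (ZMod
        (r ^ padicValNat r ((Polynomial.cyclotomic (orderOf (Fintype.card F : ZMod r)) ℤ).eval
          (Fintype.card F : ℤ)).natAbs))) →* Matrix.symplecticGroup (Fin n) F,
          Function.Injective Θ) →
      Nonempty (↥(P : Subgroup ↥(Matrix.symplecticGroup (Fin n) F)) ≃*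
        (Fin ((Finset.Icc 1 n).filter
          (fun i => orderOf (Fintype.card F : ZMod r) ∣ 2 * i)).card →
          Multiplicative (ZMod (r ^ padicValNat r ((Polynomial.cyclotomic
            (orderOf (Fintype.card F : ZMod r)) ℤ).eval (Fintype.card F : ℤ)).natAbs)))) := by
    rintro c rfl ⟨Θ, hΘ⟩
    refine Cfsg.Agent.S2379.sylow_of_embedding r _ _ Θ hΘ ?_ P
    rw [← pow_mul, hfac]
  rcases Nat.even_or_odd (orderOf (Fintype.card F : ZMod r)) with hev | hodd
  · obtain ⟨d', hd'⟩ := hev
    have hd : orderOf (Fintype.card F : ZMod r) = 2 * d' := by omega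
    have hd'pos : 0 < d' := by omega
    apply key (n / d')
    · rw [hd, card_filter_even n d' hd'pos]
    · exact exists_embed_even n r hrq d' hd
  · apply key (n / orderOf (Fintype.card F : ZMod r))
    · rw [card_filter_odd n _ hodd]
    · exact exists_embed_odd n r hrq

end Cfsg.Agent.S2381
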