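import Cfsg.Statements.S2384
import Cfsg.Agent.Lib.Helper14.SemiClass

set_option autoImplicit false
open Cfsg

namespace Cfsg.Agent.S2384

open Polynomial in
/-- The characteristic polynomial as a function on conjugacy classes of `SL_n`. -/
noncomputable def cp {F : Type*} [Field F] {n : ℕ} :
    ConjClasses (Matrix.SpecialLinearGroup (Fin n) F) → F[X] :=
  Quotient.lift (fun g : Matrix.SpecialLinearGroup (Fin n) F =>
    (g : Matrix (Fin n) (Fin n) F).charpoly) (by
    intro a b hab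
    obtain ⟨c, hc⟩ := isConj_iff.mp hab
    show (a : Matrix (Fin n) (Fin n) F).charpoly = (b : Matrix (Fin n) (Fin n) F).charpoly
    have h1 : (b : Matrix (Fin n) (Fin n) F) * (c : Matrix (Fin n) (Fin n) F)
        = (c : Matrix (Fin n) (Fin n) F) * (a : Matrix (Fin n) (Fin n) F) := by
      have h2 : b * c = c * a := by rw [← hc]; group
      have h3 := congrArg Subtype.val h2
      exact h3
    let cu : (Matrix (Fin n) (Fin n) F)ˣ := ⟨(c : Matrix (Fin n) (Fin n) F),
      ((c⁻¹ : Matrix.SpecialLinearGroup (Fin n) F) : Matrix (Fin n) (Fin n) F), by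
        rw [← Matrix.SpecialLinearGroup.coe_mul, mul_inv_cancel, Matrix.SpecialLinearGroup.coe_one],
      by
        rw [← Matrix.SpecialLinearGroup.coe_mul, inv_mul_cancel, Matrix.SpecialLinearGroup.coe_one]⟩
    have h4 : (b : Matrix (Fin n) (Fin n) F) = cu.val * (a : Matrix (Fin n) (Fin n) F) * cu.val⁻¹ := by
      rw [← Matrix.coe_units_inv, ← h1, Matrix.mul_assoc]
      show (b : Matrix (Fin n) (Fin n) F) = (b : Matrix (Fin n) (Fin n) F) * (cu.val * cu.inv)
      rw [cu.val_inv, Matrix.mul_one]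
    rw [h4]
    exact (Matrix.charpoly_units_conj cu _).symm)

theorem cp_mk {F : Type*} [Field F] {n : ℕ} (g : Matrix.SpecialLinearGroup (Fin n) F) :
    cp (ConjClasses.mk g) = (g : Matrix (Fin n) (Fin n) F).charpoly := rfl

/-- In `SL_n(q)`, `q` a power of the prime `p`, the number of conjugacy classes of elements of order prime to `p` (the semisimple classes) is `q^(n-1)`. -/
theorem result {F : Type*} [Field F] [Fintype F] {q : ℕ} (hq : Fintype.card F = q) (p : ℕ) [Fact p.Prime] [CharP F p] (n : ℕ) (hn : 1 ≤ n) :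
    Nat.card {c : ConjClasses (Matrix.SpecialLinearGroup (Fin n) F) //
      ∃ g : Matrix.SpecialLinearGroup (Fin n) F, ConjClasses.mk g = c ∧ (orderOf g).Coprime p} = q ^ (n - 1) := by
  classical
  subst hq
  rw [← Cfsg.Agent.Lib.Helper14.card_monic_coeff_eq n hn ((-1 : F) ^ n)]
  let Φ : {c : ConjClasses (Matrix.SpecialLinearGroup (Fin n) F) //
      ∃ g : Matrix.SpecialLinearGroup (Fin n) F, ConjClasses.mk g = c ∧
      (orderOf g).Coprime p} →
      {f : Polynomial F // f.Monic ∧ f.natDegree = n ∧ f.coeff 0 = (-1) ^ n} :=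
    fun c => ⟨cp c.1, by
      obtain ⟨g, hg, -⟩ := c.2
      rw [← hg, cp_mk]
      refine ⟨Matrix.charpoly_monic _, ?_, Cfsg.Agent.Lib.Helper14.charpoly_coeff_zero_SL g⟩
      rw [Matrix.charpoly_natDegree_eq_dim, Fintype.card_fin]⟩
  have hinj : Function.Injective Φ := by
    rintro ⟨c₁, g₁, h₁, ho₁⟩ ⟨c₂, g₂, h₂, ho₂⟩ h
    apply Subtype.ext
    have h3 : cp c₁ = cp c₂ := congrArg Subtype.val h
    rw [← h₁, ← h₂, cp_mk, cp_mk] at h3
    show c₁ = c₂
    rw [← h₁, ← h₂, ConjClasses.mk_eq_mk_iff_isConj]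
    exact Cfsg.Agent.Lib.Helper14.isConj_SL_of_charpoly_eq p g₁ g₂ ho₁ ho₂ h3
  have hsurj : Function.Surjective Φ := by
    rintro ⟨f, hm, hd, h0⟩
    obtain ⟨g, hgo, hgc⟩ := Cfsg.Agent.Lib.Helper14.exists_SL_charpoly p n f hm hd h0
    refine ⟨⟨ConjClasses.mk g, g, rfl, hgo⟩, ?_⟩
    apply Subtype.ext
    show cp (ConjClasses.mk g) = f
    rw [cp_mk, hgc]
  exact Nat.card_congr (Equiv.ofBijective Φ ⟨hinj, hsurj⟩)

end Cfsg.Agent.S2384
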