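import Cfsg.Statements.S2390
import Cfsg.Agent.Lib.Helper14.HSemi10

set_option autoImplicit false
open Cfsg

namespace Cfsg.Agent.S2390

/-- In the special unitary group `SU_n(q)` (inside `SL_n` over the field with `q²` elements), `q` a power of the prime `p`, two elements of order prime to `p` with the same characteristic polynomial are conjugate in `SU_n(q)`. -/
theorem result {F : Type*} [Field F] [Fintype F] {q : ℕ} (hF : Fintype.card F = q ^ 2) (p : ℕ) [Fact p.Prime] [CharP F p] (n : ℕ)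
    (g h : ↥(Cfsg.SU n F q)) (hg : (orderOf g).Coprime p) (hh : (orderOf h).Coprime p)
    (hc : ((g : Matrix.SpecialLinearGroup (Fin n) F) : Matrix (Fin n) (Fin n) F).charpoly =
      ((h : Matrix.SpecialLinearGroup (Fin n) F) : Matrix (Fin n) (Fin n) F).charpoly) : IsConj g h := by
  classical
  have hp : p.Prime := Fact.out
  rcases Nat.eq_zero_or_pos n with hn | hn
  · subst hn
    have : g = h := Subtype.ext (Subsingleton.elim _ _)
    rw [this]
  set m := orderOf g * orderOf h with hm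
  have hpm : ¬ p ∣ m := by
    intro hd
    rcases (Nat.Prime.dvd_mul hp).mp hd with h1 | h1
    · exact (Nat.Prime.coprime_iff_not_dvd hp).mp hg.symm h1
    · exact (Nat.Prime.coprime_iff_not_dvd hp).mp hh.symm h1
  have hgm : g ^ m = 1 := by rw [hm, pow_mul, pow_orderOf_eq_one, one_pow]
  have hhm : h ^ m = 1 := by rw [hm, mul_comm, pow_mul, pow_orderOf_eq_one, one_pow]
  have key : ∀ a b : ↥(Cfsg.SU n F q), a * b = 1 →
      ((a : Matrix.SpecialLinearGroup (Fin n) F) : Matrix (Fin n) (Fin n) F) *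
        ((b : Matrix.SpecialLinearGroup (Fin n) F) : Matrix (Fin n) (Fin n) F) = 1 := by
    intro a b hab
    rw [← Matrix.SpecialLinearGroup.coe_mul, ← Subgroup.coe_mul, hab]
    rfl
  have keyp : ∀ a : ↥(Cfsg.SU n F q), a ^ m = 1 →
      ((a : Matrix.SpecialLinearGroup (Fin n) F) : Matrix (Fin n) (Fin n) F) ^ m = 1 := by
    intro a ha
    rw [← Matrix.SpecialLinearGroup.coe_pow, ← SubgroupClass.coe_pow, ha]
    rfl
  have pres : ∀ a : ↥(Cfsg.SU n F q), ∀ u v,
      Cfsg.hermForm n F q (Matrix.mulVec ((a : Matrix.SpecialLinearGroup (Fin n) F) :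
        Matrix (Fin n) (Fin n) F) u) (Matrix.mulVec ((a : Matrix.SpecialLinearGroup (Fin n) F) :
        Matrix (Fin n) (Fin n) F) v) = Cfsg.hermForm n F q u v := fun a u v => a.2 u v
  obtain ⟨C, hC1, hC2, hC3⟩ := Cfsg.Agent.Lib.Helper14.HSemi.herm_conj_of_charpoly hF p hn
    _ _ _ _ (key g g⁻¹ (mul_inv_cancel g)) (key g⁻¹ g (inv_mul_cancel g))
    (key h h⁻¹ (mul_inv_cancel h)) (key h⁻¹ h (inv_mul_cancel h)) (pres g) (pres h) m
    (keyp g hgm) (keyp h hhm) hpm hc
  rw [isConj_iff]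
  refine ⟨⟨⟨C, hC1⟩, fun u v => hC2 u v⟩, ?_⟩
  rw [mul_inv_eq_iff_eq_mul]
  apply Subtype.ext
  apply Subtype.ext
  exact hC3

end Cfsg.Agent.S2390
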