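import Cfsg.Statements.S2386
import Cfsg.Agent.Lib.Helper14.HCount5
import Cfsg.Agent.Lib.Helper14.SpCount4
import Cfsg.Agent.S2390

set_option autoImplicit false
open Cfsg

namespace Cfsg.Agent.S2386

/-- The characteristic polynomial as a function on conjugacy classes of `SU_n`. -/
noncomputable def cp {F : Type*} [Field F] {n q : ℕ} :
    ConjClasses ↥(Cfsg.SU n F q) → Polynomial F :=
  Quotient.lift (fun g : ↥(Cfsg.SU n F q) =>
    ((g : Matrix.SpecialLinearGroup (Fin n) F) : Matrix (Fin n) (Fin n) F).charpoly) (by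
    intro a b hab
    obtain ⟨c, hc⟩ := isConj_iff.mp hab
    show ((a : Matrix.SpecialLinearGroup (Fin n) F) : Matrix (Fin n) (Fin n) F).charpoly =
      ((b : Matrix.SpecialLinearGroup (Fin n) F) : Matrix (Fin n) (Fin n) F).charpoly
    rw [← hc, Subgroup.coe_mul, Matrix.SpecialLinearGroup.coe_mul, Matrix.charpoly_mul_comm,
      ← Matrix.SpecialLinearGroup.coe_mul, ← Subgroup.coe_mul, ← mul_assoc, inv_mul_cancel,
      one_mul])

theorem cp_mk {F : Type*} [Field F] {n q : ℕ} (g : ↥(Cfsg.SU n F q)) :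
    cp (ConjClasses.mk g) =
      ((g : Matrix.SpecialLinearGroup (Fin n) F) : Matrix (Fin n) (Fin n) F).charpoly := rfl

/-- a power of `g` by a power of `N = p ^ f` has order prime to `p` -/
theorem exists_pow_coprime {G : Type*} [Group G] [Finite G] (p : ℕ) [Fact p.Prime] (N f : ℕ)
    (hf : 0 < f) (hN : N = p ^ f) (g : G) : ∃ a : ℕ, (orderOf (g ^ (N ^ a))).Coprime p := by
  have hp : p.Prime := Fact.out
  have hG : Nat.card G ≠ 0 := Nat.card_pos.ne'
  obtain ⟨a, r, hr, hNr⟩ := Nat.exists_eq_pow_mul_and_not_dvd hG p hp.ne_one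
  refine ⟨a, ?_⟩
  have h1 : (g ^ (N ^ a)) ^ r = 1 := by
    rw [← pow_mul]
    have h2 : Nat.card G ∣ N ^ a * r := by
      rw [hNr, hN, ← pow_mul]
      apply Nat.mul_dvd_mul_right
      apply pow_dvd_pow
      nlinarith
    obtain ⟨c, hc⟩ := h2
    rw [hc, pow_mul, pow_card_eq_one', one_pow]
  have h3 : orderOf (g ^ (N ^ a)) ∣ r := orderOf_dvd_of_pow_eq_one h1
  have h4 : r.Coprime p := ((Nat.Prime.coprime_iff_not_dvd hp).mpr hr).symm
  exact Nat.Coprime.coprime_dvd_left h3 h4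

/-- In the special unitary group `SU_n(q)` (matrices of determinant one over the field with `q²` elements preserving the standard Hermitian form), `q` a power of the prime `p`, the number of conjugacy classes of elements of order prime to `p` is `q^(n-1)`. -/
theorem result {F : Type*} [Field F] [Fintype F] {q : ℕ} (hF : Fintype.card F = q ^ 2) (p : ℕ) [Fact p.Prime] [CharP F p] (n : ℕ) (hn : 1 ≤ n) :
    Nat.card {c : ConjClasses ↥(Cfsg.SU n F q) // ∃ g : ↥(Cfsg.SU n F q), ConjClasses.mk g = c ∧ (orderOf g).Coprime p} = q ^ (n - 1) := by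
  classical
  have hfin : Finite ↥(Cfsg.SU n F q) := inferInstance
  have hpres : ∀ g : ↥(Cfsg.SU n F q), ∀ u v,
      Cfsg.hermForm n F q (Matrix.mulVec ((g : Matrix.SpecialLinearGroup (Fin n) F) :
        Matrix (Fin n) (Fin n) F) u) (Matrix.mulVec ((g : Matrix.SpecialLinearGroup (Fin n) F) :
        Matrix (Fin n) (Fin n) F) v) = Cfsg.hermForm n F q u v := fun g u v => g.2 u v
  have hadm : ∀ g : ↥(Cfsg.SU n F q), Cfsg.Agent.Lib.Helper14.HCount.Adm hF n
      ((g : Matrix.SpecialLinearGroup (Fin n) F) : Matrix (Fin n) (Fin n) F).charpoly :=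
    fun g => Cfsg.Agent.Lib.Helper14.HCount.charpoly_adm hF _ (hpres g) g.1.2
  rw [← Cfsg.Agent.Lib.Helper14.HCount.card_fix_tau hF n]
  apply le_antisymm
  · -- upper bound
    let Φ : {c : ConjClasses ↥(Cfsg.SU n F q) //
        ∃ g : ↥(Cfsg.SU n F q), ConjClasses.mk g = c ∧ (orderOf g).Coprime p} →
        {t : Fin (n - 1) → F // Cfsg.Agent.Lib.Helper14.HCount.tau hF n t = t} := fun c =>
      ⟨fun i => (cp c.1).coeff ((i : ℕ) + 1), by
        obtain ⟨g, hg, -⟩ := c.2
        rw [← hg, cp_mk]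
        exact (hadm g).mid_fixed⟩
    have hinj : Function.Injective Φ := by
      rintro ⟨c₁, g₁, h₁, ho₁⟩ ⟨c₂, g₂, h₂, ho₂⟩ h
      apply Subtype.ext
      show c₁ = c₂
      have h3 : ∀ i, i + 1 < n → (cp c₁).coeff (i + 1) = (cp c₂).coeff (i + 1) := by
        intro i hi
        exact congrFun (congrArg Subtype.val h) ⟨i, by omega⟩
      rw [← h₁, ← h₂, cp_mk, cp_mk] at h3
      rw [← h₁, ← h₂, ConjClasses.mk_eq_mk_iff_isConj]
      exact Cfsg.Agent.S2390.result hF p n g₁ g₂ ho₁ ho₂ ((hadm g₁).ext (hadm g₂) h3)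
    exact Nat.card_le_card_of_injective Φ hinj
  · -- lower bound
    obtain ⟨f, hp', hq⟩ := FiniteField.card F p
    have hex : ∀ t : {t : Fin (n - 1) → F // Cfsg.Agent.Lib.Helper14.HCount.tau hF n t = t},
        ∃ s : ↥(Cfsg.SU n F q), (orderOf s).Coprime p ∧
          ((s : Matrix.SpecialLinearGroup (Fin n) F) : Matrix (Fin n) (Fin n) F).charpoly =
            Cfsg.Agent.Lib.Helper14.HCount.polyOf n t.1 := by
      rintro ⟨t, ht⟩
      obtain ⟨M, hM, hdet, hc⟩ := Cfsg.Agent.Lib.Helper14.HCount.exists_su_charpoly hF p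
        (Cfsg.Agent.Lib.Helper14.HCount.polyOf_adm hF hn t ht)
      let g₀ : ↥(Cfsg.SU n F q) := ⟨⟨M, hdet⟩, fun u v => hM u v⟩
      obtain ⟨a, ha⟩ := exists_pow_coprime p (Fintype.card F) f f.pos hq g₀
      refine ⟨g₀ ^ (Fintype.card F ^ a), ha, ?_⟩
      rw [SubgroupClass.coe_pow, Matrix.SpecialLinearGroup.coe_pow,
        Cfsg.Agent.Lib.Helper14.SpCount.charpoly_pow_card_pow]
      exact hc
    choose s hs hsc using hex
    let Ψ : {t : Fin (n - 1) → F // Cfsg.Agent.Lib.Helper14.HCount.tau hF n t = t} →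
        {c : ConjClasses ↥(Cfsg.SU n F q) //
          ∃ g : ↥(Cfsg.SU n F q), ConjClasses.mk g = c ∧ (orderOf g).Coprime p} :=
      fun t => ⟨ConjClasses.mk (s t), s t, rfl, hs t⟩
    have hinj : Function.Injective Ψ := by
      intro t t' htt
      have h1 : cp (Ψ t).1 = cp (Ψ t').1 := by rw [htt]
      have h2 : Cfsg.Agent.Lib.Helper14.HCount.polyOf n t.1 =
          Cfsg.Agent.Lib.Helper14.HCount.polyOf n t'.1 := by
        rw [← hsc t, ← hsc t']
        exact h1
      apply Subtype.ext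
      funext i
      rw [← Cfsg.Agent.Lib.Helper14.HCount.polyOf_coeff_mid t.1 i, h2,
        Cfsg.Agent.Lib.Helper14.HCount.polyOf_coeff_mid]
    exact Nat.card_le_card_of_injective Ψ hinj

end Cfsg.Agent.S2386
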