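-- Statement S2394.
import Cfsg.Statements.S2394
import Cfsg.Agent.S0245
import Cfsg.Agent.S2904
import Mathlib

set_option autoImplicit false
open scoped MatrixGroups
open Cfsg

namespace Cfsg.Agent.S2394

/-- a prime dividing `∏ i : Fin d, (q^d - q^i)` that does not divide `q` divides some `q^k - 1`
with `0 < k ≤ d`. -/
theorem exists_dvd_pow_sub_one (q d r : ℕ) (hr : r.Prime) (hrq : ¬ r ∣ q)
    (h : r ∣ ∏ i : Fin d, (q ^ d - q ^ (i : ℕ))) : ∃ k, 0 < k ∧ k ≤ d ∧ r ∣ q ^ k - 1 := by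
  obtain ⟨i, -, hi⟩ := (Prime.dvd_finsetProd_iff hr.prime _).1 h
  have hid : (i : ℕ) < d := i.2
  have h1 : q ^ d = q ^ (i : ℕ) * q ^ (d - i) := by
    rw [← pow_add]; congr 1; omega
  have h2 : q ^ d - q ^ (i : ℕ) = q ^ (i : ℕ) * (q ^ (d - i) - 1) := by
    rw [h1, Nat.mul_sub_one]
  rw [h2] at hi
  rcases (Nat.Prime.dvd_mul hr).1 hi with h3 | h3
  · exact absurd (hr.dvd_of_dvd_pow h3) hrq
  · exact ⟨d - i, by omega, by omega, h3⟩

/-- The smallest degree of a faithful representation of the symplectic group `Sp_{2n}(q)` over its own field `F_q` is `2n`: every injective homomorphism from `Sp_{2n}(F)` to `GL_d(F)`, `F` the field with `q` elements, has `d ≥ 2n`. -/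
theorem result {F : Type*} [Field F] [Fintype F] (n : ℕ) {d : ℕ}
    (ρ : ↥(Matrix.symplecticGroup (Fin n) F) →* GL (Fin d) F) (hρ : Function.Injective ρ) : 2 * n ≤ d := by
  by_contra hcon
  push Not at hcon
  obtain ⟨q, hq⟩ : ∃ q, Fintype.card F = q := ⟨_, rfl⟩
  have hq2 : 2 ≤ q := by rw [← hq]; exact Fintype.one_lt_card
  have hdvd := Subgroup.card_dvd_of_injective ρ hρ
  rw [Cfsg.Agent.S0245.result hq n, Matrix.card_GL_field, hq] at hdvd
  have hn : 1 ≤ n := by omega
  rcases Nat.lt_or_ge n 2 with hn2 | hn2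
  · -- n = 1
    have hn1 : n = 1 := by omega
    subst hn1
    have hd : d = 0 ∨ d = 1 := by omega
    simp only [one_pow, pow_one, Finset.prod_range_one, zero_add, mul_one] at hdvd
    have hq3 : 3 ≤ q ^ 2 - 1 := by
      have : 4 ≤ q ^ 2 := by nlinarith
      omega
    have hbig : q ≤ q * (q ^ 2 - 1) := Nat.le_mul_of_pos_right q (by omega)
    rcases hd with rfl | rfl
    · simp at hdvd
      omega
    · simp at hdvd
      have := Nat.le_of_dvd (by omega) hdvd
      omega
  · -- n ≥ 2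
    have hfac : q ^ (2 * n) - 1 ∣ ∏ i : Fin d, (q ^ d - q ^ (i : ℕ)) := by
      refine dvd_trans ?_ hdvd
      refine dvd_mul_of_dvd_right ?_ _
      have hmem : n - 1 ∈ Finset.range n := Finset.mem_range.2 (by omega)
      have h := Finset.dvd_prod_of_mem (fun i => q ^ (2 * (i + 1)) - 1) hmem
      have h2 : 2 * (n - 1 + 1) = 2 * n := by omega
      rw [← h2]
      exact h
    by_cases hex : q = 2 ∧ 2 * n = 6
    · obtain ⟨rfl, h6⟩ := hex
      have hn3 : n = 3 := by omega
      subst hn3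
      have hd5 : d ≤ 5 := by omega
      interval_cases d <;>
        norm_num [Finset.prod_range_succ, Fin.prod_univ_succ] at hdvd
    · obtain ⟨r, hr, hrdvd, hrprim⟩ := Cfsg.Agent.S2904.result q (2 * n) (by omega) (by omega) hex
        (by rintro ⟨h, -⟩; omega)
      have hrq : ¬ r ∣ q := by
        intro h
        have h1 : r ∣ q ^ (2 * n) := dvd_pow h (by omega)
        have h2 : 1 ≤ q ^ (2 * n) := Nat.one_le_pow _ _ (by omega)
        have h3 : r ∣ q ^ (2 * n) - (q ^ (2 * n) - 1) := Nat.dvd_sub h1 hrdvd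
        have h4 : q ^ (2 * n) - (q ^ (2 * n) - 1) = 1 := by omega
        rw [h4] at h3
        exact hr.one_lt.ne' (Nat.dvd_one.1 h3)
      obtain ⟨k, hk0, hkd, hk⟩ := exists_dvd_pow_sub_one q d r hr hrq (hrdvd.trans hfac)
      exact hrprim k hk0 (by omega) hk

end Cfsg.Agent.S2394
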