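import Cfsg.Statements.S2398
import Cfsg.Agent.Lib.Helper14.StCC.Section

set_option autoImplicit false
open Cfsg

namespace Cfsg.Agent.S2398

open Cfsg.Agent.Lib.Helper14.StCC
open scoped commutatorElement

/-- the pullback of `π₁` along `σ` -/
def pb {Δ G₁ E : Type*} [Group Δ] [Group G₁] [Group E] (σ : Δ →* G₁) (π₁ : E →* G₁) :
    Subgroup (Δ × E) where
  carrier := {p | σ p.1 = π₁ p.2}
  mul_mem' := by
    intro a b ha hb
    show σ (a.1 * b.1) = π₁ (a.2 * b.2)
    rw [map_mul, map_mul, ha, hb]
  one_mem' := by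
    show σ 1 = π₁ 1
    rw [map_one, map_one]
  inv_mem' := by
    intro a ha
    show σ a.1⁻¹ = π₁ a.2⁻¹
    rw [map_inv, map_inv, ha]

/-- Universality of the group Δ presented by Steinberg's generators with relators (R1), (R2), over a field with more than four elements (types G₂, B₂, D₄, F₄, E₆, E₇, E₈): for every central extension `π₁ : E → G₁` (surjective, central kernel) and every homomorphism `σ : Δ → G₁` there is exactly one homomorphism `τ : Δ → E` with `π₁ ∘ τ = σ`. In particular every central extension of Δ splits; together with the fact that Δ maps onto the Chevalley group with central kernel, this makes Δ the universal central extension of the Chevalley group. -/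
theorem result {K : Type*} [Field K] (hK5 : ∃ s : Finset K, 4 < s.card) (D : Cfsg.Lie.ChevalleyDatum) (hD : D ∈ [Cfsg.Lie.chevG2, Cfsg.Lie.chevB2, Cfsg.Lie.chevD4, Cfsg.Lie.chevF4, Cfsg.Lie.chevE6, Cfsg.Lie.chevE7, Cfsg.Lie.chevE8])
    {G₁ E : Type*} [Group G₁] [Group E] (π₁ : E →* G₁) (hπ : Function.Surjective π₁) (hc : π₁.ker ≤ Subgroup.center E)
    (σ : D.SteinbergCover K →* G₁) : ∃! τ : D.SteinbergCover K →* E, π₁.comp τ = σ := by
  have hperf : commutator (D.SteinbergCover K) = ⊤ :=
    Cfsg.Agent.S2395.result D hD (fun _ => hK2_of_hK5 hK5)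
  -- the pullback extension
  let P := pb σ π₁
  let ψ : ↥P →* D.SteinbergCover K := (MonoidHom.fst _ _).comp P.subtype
  have hψ : Function.Surjective ψ := by
    intro g
    obtain ⟨e, he⟩ := hπ (σ g)
    exact ⟨⟨(g, e), he.symm⟩, rfl⟩
  have hcψ : ψ.ker ≤ Subgroup.center ↥P := by
    intro p hp
    rw [Subgroup.mem_center_iff]
    intro q
    have hp1 : (p : D.SteinbergCover K × E).1 = 1 := hp
    have hp2 : (p : D.SteinbergCover K × E).2 ∈ Subgroup.center E := by
      apply hc
      rw [MonoidHom.mem_ker]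
      have := p.2
      change σ (p : D.SteinbergCover K × E).1 = π₁ (p : D.SteinbergCover K × E).2 at this
      rw [← this, hp1, map_one]
    rw [Subgroup.mem_center_iff] at hp2
    apply Subtype.ext
    apply Prod.ext
    · show (q : D.SteinbergCover K × E).1 * (p : D.SteinbergCover K × E).1 =
        (p : D.SteinbergCover K × E).1 * (q : D.SteinbergCover K × E).1
      rw [hp1, mul_one, one_mul]
    · exact hp2 _
  obtain ⟨τ₀, hτ₀⟩ := exists_section hD hK5 ψ hψ hcψ
  let τ : D.SteinbergCover K →* E := ((MonoidHom.snd _ _).comp P.subtype).comp τ₀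
  have hτ : π₁.comp τ = σ := by
    refine MonoidHom.ext fun g => ?_
    show π₁ ((τ₀ g : D.SteinbergCover K × E)).2 = σ g
    have h1 := (τ₀ g).2
    change σ (τ₀ g : D.SteinbergCover K × E).1 = π₁ (τ₀ g : D.SteinbergCover K × E).2 at h1
    rw [← h1]
    have h2 := DFunLike.congr_fun hτ₀ g
    rw [MonoidHom.comp_apply, MonoidHom.id_apply] at h2
    change (τ₀ g : D.SteinbergCover K × E).1 = g at h2
    rw [h2]
  refine ⟨τ, hτ, fun τ' hτ' => ?_⟩
  exact (lift_unique hperf π₁ hc τ τ' (by rw [hτ, hτ'])).symm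

end Cfsg.Agent.S2398
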