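import Cfsg.Statements.S2399
import Cfsg.Agent.S2398
import Cfsg.Agent.Lib.Helper29.PLift.Fin

set_option autoImplicit false
open scoped MatrixGroups
open Cfsg

namespace Cfsg.Agent.S2399

open Cfsg.Lie Cfsg.Agent.Lib.Helper8.Chev Cfsg.Agent.Lib.Helper14.StCC Cfsg.Agent.Lib.Helper29.PLift

/-- Projective representations in the natural characteristic lift: for each of the types G₂, B₂, D₄, F₄, E₆, E₇, E₈ over any field `K` (for types B₂ and G₂ the field must have more than two elements — the cases where the Chevalley group is not simple are set aside), every homomorphism from the Chevalley group to `PGL_n(L) = GL_n(L)/Z`, `L` a field of the same characteristic as `K`, lifts uniquely to a homomorphism from the group Δ presented by (R1), (R2) to `GL_n(L)`, compatibly with the projection Δ → Chevalley group sending x̄_r(t) to x_r(t). -/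
theorem result {K : Type*} [Field K] (D : Cfsg.Lie.ChevalleyDatum) (hD : D ∈ [Cfsg.Lie.chevG2, Cfsg.Lie.chevB2, Cfsg.Lie.chevD4, Cfsg.Lie.chevF4, Cfsg.Lie.chevE6, Cfsg.Lie.chevE7, Cfsg.Lie.chevE8]) (hK : D ∈ [Cfsg.Lie.chevB2, Cfsg.Lie.chevG2] → ∃ x : K, x ≠ 0 ∧ x ≠ 1)
    (θ : D.SteinbergCover K →* ↥(D.group K))
    (hθ : ∀ (r : ℕ) (t : K), r < D.nroots → ((θ (D.scGen K r t) : GL D.Idx K) : Matrix D.Idx D.Idx K) = D.x K r t)
    {L : Type*} [Field L] (hL : ringChar L = ringChar K) {n : ℕ}
    (φ : ↥(D.group K) →* GL (Fin n) L ⧸ Subgroup.center (GL (Fin n) L)) :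
    ∃! ψ : D.SteinbergCover K →* GL (Fin n) L, (QuotientGroup.mk' (Subgroup.center (GL (Fin n) L))).comp ψ = φ.comp θ := by
  classical
  have hperfΔ : commutator (D.SteinbergCover K) = ⊤ := Cfsg.Agent.S2395.result D hD hK
  have hker : (QuotientGroup.mk' (Subgroup.center (GL (Fin n) L))).ker ≤
      Subgroup.center (GL (Fin n) L) := by
    rw [QuotientGroup.ker_mk']
  suffices h : ∃ ψ : D.SteinbergCover K →* GL (Fin n) L,
      (QuotientGroup.mk' (Subgroup.center (GL (Fin n) L))).comp ψ = φ.comp θ by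
    obtain ⟨ψ, hψ⟩ := h
    exact ⟨ψ, hψ, fun ψ' hψ' => lift_unique hperfΔ _ hker ψ' ψ (hψ'.trans hψ.symm)⟩
  by_cases hK5 : ∃ s : Finset K, 4 < s.card
  · -- more than four elements: `Δ` is universal (S2398)
    obtain ⟨τ, hτ, -⟩ := Cfsg.Agent.S2398.result hK5 D hD
      (QuotientGroup.mk' (Subgroup.center (GL (Fin n) L))) (QuotientGroup.mk'_surjective _) hker
      (φ.comp θ)
    exact ⟨τ, hτ⟩
  · -- `K` is finite: lifts of `p`-elements
    have hfin : Finite K := by
      by_contra hinf
      rw [not_finite_iff_infinite] at hinf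
      obtain ⟨s, hs⟩ := Infinite.exists_subset_card_eq K 5
      exact hK5 ⟨s, by omega⟩
    have := Fintype.ofFinite K
    have : CharP K (ringChar K) := ringChar.charP K
    have hp : (ringChar K).Prime := CharP.char_is_prime K (ringChar K)
    have : Fact (ringChar K).Prime := ⟨hp⟩
    have : CharP L (ringChar K) := hL ▸ ringChar.charP L
    exact exists_lift_finite (ringChar K) hD hK θ hθ φ

end Cfsg.Agent.S2399
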