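import Cfsg.Statements.S2400
import Cfsg.Agent.Lib.Helper19.S2400.Asm
import Cfsg.Agent.Lib.Helper14.StCC.Section
import Cfsg.Agent.Lib.Helper2.D4CCMain
import Cfsg.Agent.Lib.Helper29.B2F3.Main
import Cfsg.Agent.Lib.Helper16.B2F4.Main
import Cfsg.Agent.Lib.Helper26.E6Section
import Cfsg.Agent.Lib.Helper26.E7Section

set_option autoImplicit false
open Cfsg

namespace Cfsg.Agent.S2400

open Cfsg.Lie Cfsg.Agent.Lib.Helper8.Chev Cfsg.Agent.Lib.Helper14.StCC
open Cfsg.Agent.Lib.Helper19.S2400

/-- a finite field with at least three elements has an element other than `0`, `1` -/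
theorem exists_ne_zero_one {F : Type*} [Field F] [Fintype F] (hF : 3 ≤ Fintype.card F) :
    ∃ c : F, c ≠ 0 ∧ c ≠ 1 := by
  classical
  by_contra h
  have h' : ∀ x : F, x = 0 ∨ x = 1 := by
    intro x
    by_contra hx
    rw [not_or] at hx
    exact h ⟨x, hx.1, hx.2⟩
  have : (Finset.univ : Finset F) ⊆ {0, 1} := by
    intro x _
    rcases h' x with rfl | rfl <;> simp
  have hcard := Finset.card_le_card this
  rw [Finset.card_univ] at hcard
  have : ({0, 1} : Finset F).card ≤ 2 := Finset.card_le_two
  omega

/-- a field has at least two elements -/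
theorem two_le_card {F : Type*} [Field F] [Fintype F] : 2 ≤ Fintype.card F :=
  Fintype.one_lt_card

/-- the hypothesis of S2395 / S2397 on the field only concerns the types `B₂`, `G₂` -/
theorem not_small_of {F : Type*} [Field F] {D : ChevalleyDatum} (h8 : D.nroots ≠ 8)
    (h12 : D.nroots ≠ 12) (h : D ∈ [chevB2, chevG2]) : ∃ x : F, x ≠ 0 ∧ x ≠ 1 := by
  exfalso
  simp only [List.mem_cons, List.not_mem_nil, or_false] at h
  rcases h with h | h
  · exact h8 (by rw [h]; rfl)
  · exact h12 (by rw [h]; rfl)

/-- Over a finite field `K`, the group presented by Steinberg's relators (R1)–(R3) (the universal Chevalley group) of type E₆ or E₇, or of type B₂ or D₄ with `K` of more than two elements, has trivial Schur multiplier: every finite stem extension of it is an isomorphism (Schur multiplier described through stem extensions as in the definitions). Types G₂, F₄ and E₈ are not covered here. -/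
theorem result {K : Type*} [Field K] [Fintype K] (e : Cfsg.Lie.ChevalleyDatum × ℕ)
    (he : e ∈ [(Cfsg.Lie.chevE6, 0), (Cfsg.Lie.chevE7, 0), (Cfsg.Lie.chevB2, 2), (Cfsg.Lie.chevD4, 2)]) (hK : Fintype.card K ≠ e.2) :
    Cfsg.HasCyclicSchurMultiplier (e.1.SteinbergGroup K) 1 := by
  classical
  simp only [List.mem_cons, List.not_mem_nil, or_false] at he
  rcases he with rfl | rfl | rfl | rfl
  · -- type `E₆`, every finite field
    exact hasCyclicSchur_one_of_section (D := chevE6) (by simp)
      (not_small_of (by decide) (by decide))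
      (fun E _ _ ψ hψ hc => Cfsg.Agent.Lib.Helper26.E67.exists_section_E6 ψ hψ hc)
  · -- type `E₇`, every finite field
    exact hasCyclicSchur_one_of_section (D := chevE7) (by simp)
      (not_small_of (by decide) (by decide))
      (fun E _ _ ψ hψ hc => Cfsg.Agent.Lib.Helper26.E67.exists_section_E7 ψ hψ hc)
  · -- type `B₂`, more than two elements
    have h2 : 2 ≤ Fintype.card K := two_le_card
    have h3 : 3 ≤ Fintype.card K := by
      have : Fintype.card K ≠ 2 := hK
      omega
    have hK3 := exists_ne_zero_one h3
    refine hasCyclicSchur_one_of_section (D := chevB2) (by simp) (fun _ => hK3) ?_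
    intro E _ _ ψ hψ hc
    by_cases h5 : 5 ≤ Fintype.card K
    · exact exists_section (D := chevB2) (by simp)
        ⟨Finset.univ, by rw [Finset.card_univ]; omega⟩ ψ hψ hc
    · by_cases h4 : Fintype.card K = 4
      · exact Cfsg.Agent.Lib.Helper16.B2F4.exists_section_B2_four h4 ψ hψ hc
      · have h3' : Fintype.card K = 3 := by omega
        exact Cfsg.Agent.Lib.Helper29.B2F3.exists_section_B2_three h3' ψ hψ hc
  · -- type `D₄`, more than two elements
    have h2 : 2 ≤ Fintype.card K := two_le_card
    have h3 : 3 ≤ Fintype.card K := by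
      have : Fintype.card K ≠ 2 := hK
      omega
    have hK3 := exists_ne_zero_one h3
    refine hasCyclicSchur_one_of_section (D := chevD4) (by simp)
      (not_small_of (by decide) (by decide)) ?_
    intro E _ _ ψ hψ hc
    exact Cfsg.Agent.Lib.Helper2.D4CC.exists_section_D4 hK3 ψ hψ hc

end Cfsg.Agent.S2400
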