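import Cfsg.Statements.S2402
import Cfsg.Agent.Lib.Helper14.SLCycleGen

set_option autoImplicit false
open Cfsg

namespace Cfsg.Agent.S2402

open Matrix Matrix.SpecialLinearGroup Cfsg.Agent.Lib.Helper14

section aux

variable {K : Type*} [Field K] {n : ℕ}

theorem W_mul_diagonal (d : Fin (n + 1) → K) :
    Wmat K n * diagonal d = diagonal (fun i => d (i + 1)) * Wmat K n := by
  ext i j
  rw [Matrix.mul_diagonal, Matrix.diagonal_mul, Wmat_apply]
  by_cases hj : j = i + 1
  · subst hj; rw [if_pos rfl]; ring
  · rw [if_neg hj]; ring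

theorem diag_mul_single {m : Type*} [Fintype m] [DecidableEq m] (d : m → K) (i j : m) (a : K) :
    diagonal d * single i j a = single i j (d i * a) := by
  ext p q
  rw [Matrix.diagonal_mul, single_apply, single_apply]
  split_ifs with h
  · rw [h.1]
  · ring

theorem single_mul_diag {m : Type*} [Fintype m] [DecidableEq m] (d : m → K) (i j : m) (a : K) :
    single i j a * diagonal d = single i j (a * d j) := by
  ext p q
  rw [Matrix.mul_diagonal, single_apply, single_apply]
  split_ifs with h
  · rw [h.2]
  · ring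

theorem matA {m : Type*} [Fintype m] [DecidableEq m] (d' : m → K) {i j : m} (hij : i ≠ j) (c : K)
    (hc : d' i * (c + 1) = d' j) :
    diagonal d' * (1 + single i j c) * (1 + single i j 1) = (1 + single i j 1) * diagonal d' := by
  simp only [mul_add, add_mul, mul_one, one_mul, diag_mul_single, single_mul_diag,
    single_mul_single_of_ne _ _ _ _ hij.symm, add_zero]
  rw [add_assoc, ← single_add, ← hc]
  congr 2
  ring

theorem matB {m : Type*} [Fintype m] [DecidableEq m] (d d' : m → K) {i j : m} (hij : i ≠ j) (c t₀ : K)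
    (hc : c * d j * d' i + t₀ * (d' j * d j) = c * (d i * d' i)) :
    (1 + single i j t₀) * (diagonal d' * (1 + single i j c)) * diagonal d =
      diagonal d * (diagonal d' * (1 + single i j c)) := by
  simp only [mul_add, add_mul, mul_one, one_mul, diag_mul_single, single_mul_diag,
    single_mul_single_of_ne _ _ _ _ hij.symm, add_zero, diagonal_mul_diagonal]
  rw [add_assoc, ← single_add]
  have e1 : (fun i => d' i * d i) = fun i => d i * d' i := funext fun i => mul_comm _ _
  have e2 : t₀ * d' j * d j + d' i * c * d j = d i * (d' i * c) := by linear_combination hc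
  rw [e1, e2]

theorem matC {m : Type*} [Fintype m] [DecidableEq m] (d : m → K) (i j : m) (t t' : K)
    (hc : d i * t = t' * d j) :
    diagonal d * (1 + single i j t) = (1 + single i j t') * diagonal d := by
  simp only [mul_add, add_mul, mul_one, one_mul, diag_mul_single, single_mul_diag, hc]

/-- Every element of a finite field is a difference of two squares. -/
theorem exists_sq_sub_sq [Fintype K] (a : K) : ∃ s₁ s₂ : K, a = s₁ ^ 2 - s₂ ^ 2 := by
  by_cases h2 : (2 : K) = 0
  · have hchar : ringChar K = 2 := by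
      have : ((2 : ℕ) : K) = 0 := by exact_mod_cast h2
      have hdvd := (ringChar.spec K 2).mp this
      have hp : (ringChar K).Prime := CharP.char_is_prime K (ringChar K)
      exact (Nat.prime_dvd_prime_iff_eq hp Nat.prime_two).mp hdvd
    obtain ⟨s, hs⟩ := FiniteField.isSquare_of_char_two hchar a
    exact ⟨s, 0, by rw [hs]; ring⟩
  · exact ⟨(a + 1) / 2, (a - 1) / 2, by field_simp; ring⟩

end aux

section main

variable {K : Type*} [Field K] {n : ℕ}

/-- The diagonal of `h`. -/
def dh (n : ℕ) (k : Kˣ) : Fin (n + 1) → K :=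
  fun i => if i.val = 0 then (k : K) else if i.val = 1 then ((k⁻¹ : Kˣ) : K) else 1

theorem main [Fintype K] (hK : 3 < Fintype.card K) (hn : 1 ≤ n)
    (k : Kˣ) (hk : ∀ u : Kˣ, u ∈ Subgroup.zpowers k)
    (h x w : SpecialLinearGroup (Fin (n + 1)) K)
    (hh : (h : Matrix (Fin (n + 1)) (Fin (n + 1)) K) = diagonal (dh n k))
    (hx : (x : Matrix (Fin (n + 1)) (Fin (n + 1)) K) = Matrix.transvection 0 1 1)
    (hw : (w : Matrix (Fin (n + 1)) (Fin (n + 1)) K) = Wmat K n) :
    Subgroup.closure ({h, x * w} : Set (SpecialLinearGroup (Fin (n + 1)) K)) = ⊤ := by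
  classical
  set H := Subgroup.closure ({h, x * w} : Set (SpecialLinearGroup (Fin (n + 1)) K)) with hH
  have hhH : h ∈ H := Subgroup.subset_closure (by simp)
  have hbH : x * w ∈ H := Subgroup.subset_closure (by simp)
  have h01 : (0 : Fin (n + 1)) ≠ 1 := by
    intro h
    have := congrArg Fin.val h
    rw [Fin.val_one', Fin.val_zero] at this
    have h2 : 1 % (n + 1) = 1 := Nat.mod_eq_of_lt (by omega)
    omega
  have hv1 : (1 : Fin (n + 1)).val = 1 := by
    rw [Fin.val_one']; exact Nat.mod_eq_of_lt (by omega)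
  -- order of k
  have hk2 : (k : K) ^ 2 ≠ 1 := by
    intro h2
    have h3 : k ^ 2 = 1 := Units.ext (by simpa using h2)
    have hord : orderOf k = Fintype.card K - 1 := by
      rw [orderOf_eq_card_of_forall_mem_zpowers hk, Nat.card_eq_fintype_card, Fintype.card_units]
    have := orderOf_dvd_of_pow_eq_one h3
    rw [hord] at this
    have := Nat.le_of_dvd (by norm_num) this
    omega
  have hk0 : (k : K) ≠ 0 := k.ne_zero
  have hk1 : (k : K) ≠ 1 := by
    intro h1; apply hk2; rw [h1]; ring
  -- the values of the diagonal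
  have hd0 : dh n k 0 = (k : K) := by simp [dh]
  have hd1 : dh n k 1 = (k : K)⁻¹ := by
    unfold dh
    rw [hv1, if_neg (by norm_num), if_pos rfl, Units.val_inv_eq_inv_val]
  have hd2 : dh n k (1 + 1) ≠ (k : K)⁻¹ := by
    unfold dh
    split_ifs with h1 h2
    · intro h3
      apply hk2
      rw [pow_two]
      nth_rewrite 1 [h3]
      exact inv_mul_cancel₀ hk0
    · exfalso
      have h3 : (1 + 1 : Fin (n + 1)) = 1 := Fin.ext (h2.trans hv1.symm)
      have h4 : (1 : Fin (n + 1)) = 0 := by simpa using h3
      exact h01 h4.symm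
    · intro h3
      apply hk1
      rw [← _root_.inv_inj, ← h3, inv_one]
  have hd2' : dh n k (1 + 1) ≠ 0 := by
    unfold dh
    split_ifs <;> simp
  -- notation
  set d' : Fin (n + 1) → K := fun i => dh n k (i + 1) with hd'
  have hd'0 : d' 0 = (k : K)⁻¹ := by
    show dh n k (0 + 1) = _
    rw [zero_add]; exact hd1
  have hd'1 : d' 1 = dh n k (1 + 1) := rfl
  set c : K := d' 1 * k - 1 with hc
  have hc0 : c ≠ 0 := by
    intro h
    apply hd2
    rw [← hd'1]
    have : d' 1 * k = 1 := sub_eq_zero.mp h
    exact eq_inv_of_mul_eq_one_left this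
  set t₀ : K := c * ((k : K) ^ 2 - 1) / (k * d' 1) with ht₀
  have ht₀0 : t₀ ≠ 0 := by
    rw [ht₀]
    exact div_ne_zero (mul_ne_zero hc0 (sub_ne_zero.mpr hk2)) (mul_ne_zero hk0 (by rw [hd'1]; exact hd2'))
  have hw1 : w.1 = Wmat K n := hw
  have hh1 : h.1 = diagonal (dh n k) := hh
  have hx1 : x.1 = 1 + single 0 1 1 := hx
  -- Step 1: the conjugate `y` of `h` by `x * w`
  set y := (x * w) * h * (x * w)⁻¹ with hy
  have hyH : y ∈ H := H.mul_mem (H.mul_mem hbH hhH) (H.inv_mem hbH)
  have hyb : y * (x * w) = (x * w) * h := by rw [hy]; group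
  have hY : y.1 = diagonal d' * (1 + single 0 1 c) := by
    have e1 : y.1 * (x * w).1 = (x * w).1 * h.1 := congrArg Subtype.val hyb
    have e2 : diagonal d' * (1 + single 0 1 c) * (x * w).1 = (x * w).1 * h.1 := by
      show diagonal d' * (1 + single 0 1 c) * (x.1 * w.1) = (x.1 * w.1) * h.1
      rw [hx1, hw1, hh1, Matrix.mul_assoc (1 + single 0 1 1), W_mul_diagonal, ← Matrix.mul_assoc,
        ← Matrix.mul_assoc, matA d' h01 c]
      rw [hd'0, hc]
      field_simp
      ring
    have e3 : (x * w).1 * ((x * w)⁻¹).1 = 1 := by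
      have : (x * w) * (x * w)⁻¹ = 1 := mul_inv_cancel _
      exact congrArg Subtype.val this
    calc y.1 = y.1 * ((x * w).1 * ((x * w)⁻¹).1) := by rw [e3, Matrix.mul_one]
      _ = (y.1 * (x * w).1) * ((x * w)⁻¹).1 := by rw [Matrix.mul_assoc]
      _ = (diagonal d' * (1 + single 0 1 c) * (x * w).1) * ((x * w)⁻¹).1 := by rw [e1, e2]
      _ = diagonal d' * (1 + single 0 1 c) := by rw [Matrix.mul_assoc, e3, Matrix.mul_one]
  -- Step 2: the commutator of `h` and `y` is a transvection
  have hT0 : SpecialLinearGroup.transvection h01 t₀ ∈ H := by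
    have e : SpecialLinearGroup.transvection h01 t₀ * y * h = h * y := by
      apply Subtype.ext
      show (1 + single 0 1 t₀) * y.1 * h.1 = h.1 * y.1
      rw [hY, hh1]
      apply matB _ _ h01
      rw [hd0, hd1, hd'0, ht₀]
      have : d' 1 ≠ 0 := by rw [hd'1]; exact hd2'
      field_simp
      ring
    have : SpecialLinearGroup.transvection h01 t₀ = h * y * h⁻¹ * y⁻¹ := by
      rw [← e]; group
    rw [this]
    exact H.mul_mem (H.mul_mem (H.mul_mem hhH hyH) (H.inv_mem hhH)) (H.inv_mem hyH)
  -- Step 3: the whole root subgroup lies in `H`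
  have hadd : ∀ t t' : K, SpecialLinearGroup.transvection h01 t ∈ H →
      SpecialLinearGroup.transvection h01 t' ∈ H → SpecialLinearGroup.transvection h01 (t + t') ∈ H := by
    intro t t' h1 h2
    rw [transvection_add]; exact H.mul_mem h1 h2
  have hneg : ∀ t : K, SpecialLinearGroup.transvection h01 t ∈ H →
      SpecialLinearGroup.transvection h01 (-t) ∈ H := by
    intro t h1
    rw [← transvection_inv]; exact H.inv_mem h1
  have hzero : SpecialLinearGroup.transvection h01 (0 : K) ∈ H := by
    rw [transvection_coeff_zero]; exact H.one_mem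
  have hconj : ∀ t : K, h * SpecialLinearGroup.transvection h01 t =
      SpecialLinearGroup.transvection h01 ((k : K) ^ 2 * t) * h := by
    intro t
    apply Subtype.ext
    show h.1 * (1 + single 0 1 t) = (1 + single 0 1 ((k : K) ^ 2 * t)) * h.1
    rw [hh1]
    apply matC
    rw [hd0, hd1]
    field_simp
  let M : Subgroup Kˣ :=
    { carrier := {u | ∀ t : K, SpecialLinearGroup.transvection h01 t ∈ H ↔
        SpecialLinearGroup.transvection h01 ((u : K) ^ 2 * t) ∈ H}
      one_mem' := by intro t; simp
      mul_mem' := by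
        intro u v hu hv t
        rw [hv t, hu ((v : K) ^ 2 * t)]
        have : ((u * v : Kˣ) : K) ^ 2 * t = (u : K) ^ 2 * ((v : K) ^ 2 * t) := by
          rw [Units.val_mul]; ring
        rw [this]
      inv_mem' := by
        intro u hu t
        have := hu (((u⁻¹ : Kˣ) : K) ^ 2 * t)
        have e : (u : K) ^ 2 * (((u⁻¹ : Kˣ) : K) ^ 2 * t) = t := by
          rw [← mul_assoc, ← mul_pow, ← Units.val_mul, mul_inv_cancel, Units.val_one, one_pow,
            one_mul]
        rw [e] at this
        exact this.symm }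
  have hkM : k ∈ M := by
    intro t
    constructor
    · intro ht
      have : SpecialLinearGroup.transvection h01 ((k : K) ^ 2 * t) =
          h * SpecialLinearGroup.transvection h01 t * h⁻¹ := by rw [hconj]; group
      rw [this]
      exact H.mul_mem (H.mul_mem hhH ht) (H.inv_mem hhH)
    · intro ht
      have : SpecialLinearGroup.transvection h01 t =
          h⁻¹ * (SpecialLinearGroup.transvection h01 ((k : K) ^ 2 * t) * h) := by
        rw [← hconj]; group
      rw [this]
      exact H.mul_mem (H.inv_mem hhH) (H.mul_mem ht hhH)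
  have hM : ∀ u : Kˣ, u ∈ M := fun u => (Subgroup.zpowers_le.mpr hkM) (hk u)
  have hsq : ∀ s t : K, SpecialLinearGroup.transvection h01 t ∈ H →
      SpecialLinearGroup.transvection h01 (s ^ 2 * t) ∈ H := by
    intro s t ht
    by_cases hs : s = 0
    · subst hs
      have : ((0 : K) ^ 2 * t) = 0 := by ring
      rw [this]; exact hzero
    · exact (hM (Units.mk0 s hs) t).mp ht
  have hall : ∀ t : K, SpecialLinearGroup.transvection h01 t ∈ H := by
    intro t
    obtain ⟨s₁, s₂, hs⟩ := exists_sq_sub_sq (t / t₀)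
    have : t = s₁ ^ 2 * t₀ + -(s₂ ^ 2 * t₀) := by
      have h1 : t = (t / t₀) * t₀ := by field_simp
      rw [hs] at h1
      rw [h1]; ring
    rw [this]
    exact hadd _ _ (hsq s₁ t₀ hT0) (hneg _ (hsq s₂ t₀ hT0))
  -- conclusion
  have hxH : x ∈ H := by
    have : x = SpecialLinearGroup.transvection h01 (1 : K) := Subtype.ext hx
    rw [this]; exact hall 1
  have hwH : w ∈ H := by
    have : w = x⁻¹ * (x * w) := by group
    rw [this]; exact H.mul_mem (H.inv_mem hxH) hbH
  exact eq_top_of_root_of_cycle hn H w hw hwH (fun _ c => hall c)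

end main

/-- Explicit two-element generation of `PSL_{n+1}(K)` for a finite field `K` with more than three elements: let `k` generate the multiplicative group of `K`, `h = diag(k, k⁻¹, 1, …, 1)`, `x = 1 + E₁₂` (the elementary transvection) and `w` the monomial matrix with entries `1` in positions `(i, i+1)` and `(−1)^n` in position `(n+1, 1)`. Then `h` and `x·w` generate `SL_{n+1}(K)` modulo its centre: the subgroup they generate together with the centre is everything. -/
theorem result {K : Type*} [Field K] [Fintype K] (hK : 3 < Fintype.card K) (n : ℕ) (hn : 1 ≤ n)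
    (k : Kˣ) (hk : ∀ u : Kˣ, u ∈ Subgroup.zpowers k)
    (h x w : Matrix.SpecialLinearGroup (Fin (n + 1)) K)
    (hh : (h : Matrix (Fin (n + 1)) (Fin (n + 1)) K) =
      Matrix.diagonal (fun i => if i.val = 0 then (k : K) else if i.val = 1 then ((k⁻¹ : Kˣ) : K) else 1))
    (hx : (x : Matrix (Fin (n + 1)) (Fin (n + 1)) K) = Matrix.transvection (0 : Fin (n + 1)) (1 : Fin (n + 1)) 1)
    (hw : (w : Matrix (Fin (n + 1)) (Fin (n + 1)) K) =
      Matrix.of (fun i j => if j.val = i.val + 1 then 1 else if i.val = n ∧ j.val = 0 then (-1) ^ n else 0)) :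
    Subgroup.closure ({h, x * w} : Set (Matrix.SpecialLinearGroup (Fin (n + 1)) K)) ⊔
      Subgroup.center (Matrix.SpecialLinearGroup (Fin (n + 1)) K) = ⊤ := by
  have hw' : (w : Matrix (Fin (n + 1)) (Fin (n + 1)) K) = Wmat K n := hw
  have hh' : (h : Matrix (Fin (n + 1)) (Fin (n + 1)) K) = diagonal (dh n k) := hh
  rw [main hK hn k hk h x w hh' hx hw', top_sup_eq]

end Cfsg.Agent.S2402
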