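import Cfsg.Statements.S2403
import Cfsg.Agent.Lib.Helper15.SLNormal

set_option autoImplicit false
open Cfsg

namespace Cfsg.Agent.S2403

open Matrix Matrix.SpecialLinearGroup Cfsg.Agent.Lib.Helper15

section aux

variable {K : Type*} [Field K]

/-- In a field with at most three elements every element is `0`, `1` or `-1`. -/
theorem eq_zero_or_one_or_neg_one [Fintype K] (hK : Fintype.card K ≤ 3) (c : K) :
    c = 0 ∨ c = 1 ∨ c = -1 := by
  classical
  by_contra hcon
  push Not at hcon
  obtain ⟨h0, h1, h2⟩ := hcon
  by_cases h : (1 : K) = -1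
  · -- three distinct elements 0, 1, c; need a fourth: `c + 1`
    have hs : ({0, 1, c, c + 1} : Finset K).card = 4 := by
      have hc1 : c + 1 ≠ 0 := by
        intro h'
        apply h1
        have : c = -1 := eq_neg_of_add_eq_zero_left h'
        rw [this, ← h]
      have hc2 : c + 1 ≠ 1 := by
        intro h'
        apply h0
        simpa using h'
      have hc3 : c + 1 ≠ c := by
        intro h'
        have : (1 : K) = 0 := by simpa using h'
        exact one_ne_zero this
      rw [Finset.card_insert_of_notMem, Finset.card_insert_of_notMem, Finset.card_insert_of_notMem,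
        Finset.card_singleton]
      · simp [hc3.symm]
      · simp [Ne.symm h1, hc2.symm]
      · simp [Ne.symm h0, hc1.symm]
    have := Finset.card_le_univ ({0, 1, c, c + 1} : Finset K)
    omega
  · have hs : ({0, 1, -1, c} : Finset K).card = 4 := by
      rw [Finset.card_insert_of_notMem, Finset.card_insert_of_notMem, Finset.card_insert_of_notMem,
        Finset.card_singleton]
      · simp [Ne.symm h2]
      · simp [h, Ne.symm h1]
      · simp [Ne.symm h0]
    have := Finset.card_le_univ ({0, 1, -1, c} : Finset K)
    omega

end aux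

section main

variable {K : Type*} [Field K] {n : ℕ}

/-- The sign appearing in row `i` of `w`. -/
def sg (K : Type*) [Field K] (n : ℕ) (i : Fin (n + 1)) : K := if i.val = n then (-1) ^ n else 1

theorem sg_mul_self (i : Fin (n + 1)) : sg K n i * sg K n i = 1 := by
  unfold sg
  split_ifs
  · rw [← mul_pow]; simp
  · simp

/-- The monomial matrix `w`. -/
def Wmat (K : Type*) [Field K] (n : ℕ) : Matrix (Fin (n + 1)) (Fin (n + 1)) K :=
  Matrix.of (fun i j => if j.val = i.val + 1 then 1 else if i.val = n ∧ j.val = 0 then (-1) ^ n else 0)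

theorem Wmat_apply (i j : Fin (n + 1)) : Wmat K n i j = if j = i + 1 then sg K n i else 0 := by
  unfold Wmat sg
  rw [Matrix.of_apply]
  by_cases hi : i.val = n
  · have hi' : i = Fin.last n := Fin.ext hi
    subst hi'
    rw [Fin.last_add_one]
    have h1 : ¬ (j.val = (Fin.last n).val + 1) := by
      have := j.2
      simp only [Fin.val_last]
      omega
    rw [if_neg h1]
    simp only [Fin.val_last, true_and, if_true]
    by_cases hj : j = 0
    · subst hj; simp
    · rw [if_neg hj, if_neg]
      intro h; exact hj (Fin.ext h)
  · have hlt : i < Fin.last n := by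
      rw [Fin.lt_def, Fin.val_last]
      have := i.2
      omega
    have h1 : (i + 1).val = i.val + 1 := Fin.val_add_one_of_lt hlt
    rw [if_neg hi]
    by_cases hj : j = i + 1
    · rw [if_pos hj, if_pos]
      rw [hj, h1]
    · rw [if_neg hj, if_neg, if_neg]
      · rintro ⟨h, -⟩; exact hi h
      · intro h; exact hj (Fin.ext (h.trans h1.symm))

theorem single_mul_W (k : Fin (n + 1)) (a : K) :
    single k (k + 1) a * Wmat K n = single k (k + 1 + 1) (a * sg K n (k + 1)) := by
  ext i j
  by_cases hi : i = k
  · subst hi
    rw [single_mul_apply_same, Wmat_apply, single_apply]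
    by_cases hj : j = i + 1 + 1
    · subst hj; simp
    · rw [if_neg hj, if_neg (fun h => hj h.2.symm), mul_zero]
  · rw [single_mul_apply_of_ne _ _ _ _ _ hi, single_apply, if_neg (fun h => hi h.1.symm)]

theorem W_mul_single (k : Fin (n + 1)) (a : K) :
    Wmat K n * single (k + 1) (k + 1 + 1) a = single k (k + 1 + 1) (sg K n k * a) := by
  ext i j
  by_cases hj : j = k + 1 + 1
  · subst hj
    rw [mul_single_apply_same, Wmat_apply, single_apply]
    by_cases hi : i = k
    · subst hi; simp
    · rw [if_neg (fun h => hi (add_right_cancel h).symm), if_neg (fun h => hi h.1.symm), zero_mul]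
  · rw [mul_single_apply_of_ne _ _ _ _ _ hj, single_apply, if_neg (fun h => hj h.2.symm)]

open scoped commutatorElement in
theorem main [Fintype K] (hK : Fintype.card K ≤ 3) (hn : 1 ≤ n)
    (x w : SpecialLinearGroup (Fin (n + 1)) K)
    (hx : (x : Matrix (Fin (n + 1)) (Fin (n + 1)) K) = Matrix.transvection 0 1 1)
    (hw : (w : Matrix (Fin (n + 1)) (Fin (n + 1)) K) = Wmat K n) :
    Subgroup.closure ({x, w} : Set (SpecialLinearGroup (Fin (n + 1)) K)) = ⊤ := by
  set H := Subgroup.closure ({x, w} : Set (SpecialLinearGroup (Fin (n + 1)) K)) with hH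
  have hxH : x ∈ H := Subgroup.subset_closure (by simp)
  have hwH : w ∈ H := Subgroup.subset_closure (by simp)
  have h1ne : (1 : Fin (n + 1)) ≠ 0 := by
    intro h
    have := congrArg Fin.val h
    rw [Fin.val_one', Fin.val_zero] at this
    have h2 : 1 % (n + 1) = 1 := Nat.mod_eq_of_lt (by omega)
    omega
  have : Nontrivial (Fin (n + 1)) := ⟨⟨0, 1, h1ne.symm⟩⟩
  have hne : ∀ k : Fin (n + 1), k ≠ k + 1 := fun k h => h1ne (by simpa using h.symm)
  -- the predicate
  let Q : Fin (n + 1) → Fin (n + 1) → Prop := fun i j =>
    ∀ (hij : i ≠ j) (c : K), SpecialLinearGroup.transvection hij c ∈ H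
  have hA : ∀ i j (hij : i ≠ j), SpecialLinearGroup.transvection hij (1 : K) ∈ H → Q i j := by
    intro i j hij h _ c
    rcases eq_zero_or_one_or_neg_one hK c with rfl | rfl | rfl
    · rw [transvection_coeff_zero]; exact H.one_mem
    · exact h
    · rw [← transvection_inv]; exact H.inv_mem h
  have hB0 : Q 0 (0 + 1) := by
    rw [zero_add]
    apply hA 0 1 h1ne.symm
    have : SpecialLinearGroup.transvection h1ne.symm (1 : K) = x := Subtype.ext hx.symm
    rw [this]; exact hxH
  have hB1 : ∀ k : Fin (n + 1), Q k (k + 1) → Q (k + 1) (k + 1 + 1) := by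
    intro k hQ hij c
    have key : SpecialLinearGroup.transvection (hne k) (sg K n k * sg K n (k + 1) * c) * w =
        w * SpecialLinearGroup.transvection hij c := by
      apply Subtype.ext
      show (1 + single k (k + 1) (sg K n k * sg K n (k + 1) * c)) * w.1 =
        w.1 * (1 + single (k + 1) (k + 1 + 1) c)
      have hw1 : w.1 = Wmat K n := hw
      rw [hw1, add_mul, mul_add, one_mul, mul_one, single_mul_W, W_mul_single]
      congr 2
      calc sg K n k * sg K n (k + 1) * c * sg K n (k + 1)
          = sg K n k * c * (sg K n (k + 1) * sg K n (k + 1)) := by ring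
        _ = sg K n k * c := by rw [sg_mul_self, mul_one]
    have : SpecialLinearGroup.transvection hij c =
        w⁻¹ * (SpecialLinearGroup.transvection (hne k) (sg K n k * sg K n (k + 1) * c) * w) := by
      rw [key]; group
    rw [this]
    exact H.mul_mem (H.inv_mem hwH) (H.mul_mem (hQ (hne k) _) hwH)
  have hB : ∀ k : Fin (n + 1), Q k (k + 1) := by
    intro k
    induction k using Fin.induction with
    | zero => exact hB0
    | succ k ih =>
      rw [← Fin.coeSucc_eq_succ]
      exact hB1 _ ih
  have hC : ∀ d : Fin (n + 1), d ≠ 0 → ∀ i : Fin (n + 1), Q i (i + d) := by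
    intro d
    induction d using Fin.induction with
    | zero => intro h; exact absurd rfl h
    | succ e ih =>
      intro _ i
      rw [← Fin.coeSucc_eq_succ]
      by_cases he : e.castSucc = 0
      · rw [he, zero_add]
        exact hB i
      · intro hij c
        have hik : i ≠ i + e.castSucc := fun h => he (by simpa using h.symm)
        have hkj : i + e.castSucc ≠ i + (e.castSucc + 1) := by
          rw [← add_assoc]; exact hne _
        rw [transvection_eq_commutator hij hik hkj c, commutatorElement_def]
        have h1 := ih he i hik c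
        have h2 : SpecialLinearGroup.transvection hkj (1 : K) ∈ H := by
          have := hB (i + e.castSucc)
          rw [add_assoc] at this
          exact this hkj 1
        exact H.mul_mem (H.mul_mem (H.mul_mem h1 h2) (H.inv_mem h1)) (H.inv_mem h2)
  have hall : ∀ (i j : Fin (n + 1)) (hij : i ≠ j) (c : K),
      SpecialLinearGroup.transvection hij c ∈ H := by
    intro i j hij c
    have hd : j - i ≠ 0 := fun h => hij (sub_eq_zero.mp h).symm
    have := hC (j - i) hd i
    rw [add_sub_cancel] at this
    exact this hij c
  rw [eq_top_iff]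
  intro A _
  exact SLn_transvection_induction (fun A => A ∈ H) hall (fun _ _ => H.mul_mem) A

end main

/-- Explicit two-element generation of `PSL_{n+1}(K)` over the fields with two or three elements: with `x = 1 + E₁₂` and `w` the monomial matrix with entries `1` in positions `(i, i+1)` and `(−1)^n` in position `(n+1, 1)`, the elements `x` and `w` generate `SL_{n+1}(K)` modulo its centre. -/
theorem result {K : Type*} [Field K] [Fintype K] (hK : Fintype.card K ≤ 3) (n : ℕ) (hn : 1 ≤ n)
    (x w : Matrix.SpecialLinearGroup (Fin (n + 1)) K)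
    (hx : (x : Matrix (Fin (n + 1)) (Fin (n + 1)) K) = Matrix.transvection (0 : Fin (n + 1)) (1 : Fin (n + 1)) 1)
    (hw : (w : Matrix (Fin (n + 1)) (Fin (n + 1)) K) =
      Matrix.of (fun i j => if j.val = i.val + 1 then 1 else if i.val = n ∧ j.val = 0 then (-1) ^ n else 0)) :
    Subgroup.closure ({x, w} : Set (Matrix.SpecialLinearGroup (Fin (n + 1)) K)) ⊔
      Subgroup.center (Matrix.SpecialLinearGroup (Fin (n + 1)) K) = ⊤ := by
  have hw' : (w : Matrix (Fin (n + 1)) (Fin (n + 1)) K) = Wmat K n := hw
  rw [main hK hn x w hx hw', top_sup_eq]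

end Cfsg.Agent.S2403
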