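import Cfsg.Statements.S2405
import Cfsg.Agent.Lib.Helper8.ChevTi7

set_option autoImplicit false
open Cfsg

namespace Cfsg.Agent.S2405

open Cfsg.Lie Cfsg.Agent.Lib.Helper8.Chev

theorem card_ge_three {F : Type*} [Field F] [Fintype F] (h : ∃ x : F, x ≠ 0 ∧ x ≠ 1) :
    3 ≤ Fintype.card F := by
  classical
  obtain ⟨x, hx0, hx1⟩ := h
  have h3 : ({0, 1, x} : Finset F).card = 3 := by
    rw [Finset.card_insert_of_notMem, Finset.card_insert_of_notMem, Finset.card_singleton]
    · simp only [Finset.mem_singleton]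
      exact fun h => hx1 h.symm
    · simp only [Finset.mem_insert, Finset.mem_singleton, not_or]
      exact ⟨zero_ne_one, fun h => hx0 h.symm⟩
  have := Finset.card_le_univ ({0, 1, x} : Finset F)
  omega

/-- Each Chevalley group of type G₂, B₂, D₄, F₄, E₆, E₇ or E₈ over a finite field is generated by two of its elements (types B₂ and G₂ over the field with two elements, where the group is not simple, excepted). -/
theorem result {F : Type*} [Field F] [Finite F] (D : Cfsg.Lie.ChevalleyDatum) (hD : D ∈ [Cfsg.Lie.chevG2, Cfsg.Lie.chevB2, Cfsg.Lie.chevD4, Cfsg.Lie.chevF4, Cfsg.Lie.chevE6, Cfsg.Lie.chevE7, Cfsg.Lie.chevE8])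
    (hF : D ∈ [Cfsg.Lie.chevB2, Cfsg.Lie.chevG2] → ∃ x : F, x ≠ 0 ∧ x ≠ 1) :
    ∃ a b : ↥(D.group F), Subgroup.closure ({a, b} : Set ↥(D.group F)) = ⊤ := by
  cases nonempty_fintype F
  simp only [List.mem_cons, List.not_mem_nil, or_false] at hD
  rcases hD with rfl | rfl | rfl | rfl | rfl | rfl | rfl
  · exact two_gen_G2 (card_ge_three (hF (by simp)))
  · exact two_gen_B2 (card_ge_three (hF (by simp)))
  · exact two_gen_D4
  · exact two_gen_F4
  · exact two_gen_E6
  · exact two_gen_E7
  · exact two_gen_E8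

end Cfsg.Agent.S2405
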