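import Mathlib
import Cfsg.Statements.S2410
import Cfsg.Agent.Lib.Helper3.Suzuki16

set_option autoImplicit false
open Cfsg

namespace Cfsg.Agent.S2410

open Cfsg.Agent.Lib.Helper3.Sz

theorem result {F : Type*} [Field F] [Fintype F] {m : ℕ} (hm : 1 ≤ m) (hF : Fintype.card F = 2 ^ (2 * m + 1)) :
    ∃ a b : ↥(Cfsg.Sz F m), Subgroup.closure ({a, b} : Set ↥(Cfsg.Sz F m)) = ⊤ := by
  classical
  have h2 := two_eq_zero hF
  obtain ⟨κ, hκ⟩ := IsCyclic.exists_generator (α := Fˣ)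
  have hκ1 : κ ≠ 1 := by
    intro h
    obtain ⟨k, hk⟩ := exists_unit_ne_one hF hm
    apply hk
    obtain ⟨j, hj⟩ := Subgroup.mem_zpowers_iff.1 (hκ k)
    rw [← hj, h, one_zpow]
  refine ⟨kS hF κ, tS hF 1 0 * wS hF, ?_⟩
  set a : Sz F m := kS hF κ with ha
  set t : Sz F m := tS hF 1 0 with ht
  set b : Sz F m := t * wS hF with hb
  set L : Subgroup (Sz F m) := Subgroup.closure ({a, b} : Set (Sz F m)) with hL
  have haL : a ∈ L := Subgroup.subset_closure (Set.mem_insert _ _)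
  have hbL : b ∈ L := Subgroup.subset_closure (Set.mem_insert_of_mem _ rfl)
  -- the torus
  have hH : ∀ k : Fˣ, kS hF k ∈ L := by
    intro k
    obtain ⟨j, hj⟩ := Subgroup.mem_zpowers_iff.1 (hκ k)
    have h1 : kS hF k = a ^ j := by
      rw [← hj]
      exact map_zpow (Cfsg.Agent.S0331.torSz (m := m) hF) κ j
    rw [h1]
    exact L.zpow_mem haL j
  -- a conjugate of the generator of the torus
  have hc : t * a * t⁻¹ ∈ L := by
    have h1 : b * a⁻¹ * b⁻¹ = t * a * t⁻¹ := by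
      rw [hb, mul_inv_rev, wS_inv, ha, kS_inv]
      have := wS_kS (m := m) hF κ⁻¹
      rw [inv_inv] at this
      calc t * wS hF * kS hF κ⁻¹ * (wS hF * t⁻¹)
          = t * (wS hF * kS hF κ⁻¹ * wS hF) * t⁻¹ := by group
        _ = t * kS hF κ * t⁻¹ := by rw [this]
    rw [← h1]
    exact L.mul_mem (L.mul_mem hbL (L.inv_mem haL)) (L.inv_mem hbL)
  -- an element of order four of `L`
  have hκ0 : (κ : F) ≠ 0 := κ.ne_zero
  have hd : tS hF (1 + (κ : F)⁻¹) (1 + ((κ : F)⁻¹) ^ (2 ^ (m + 1))) ∈ L := by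
    have h1 : a⁻¹ * (t * a * t⁻¹)
        = tS hF (1 + (κ : F)⁻¹) (1 + ((κ : F)⁻¹) ^ (2 ^ (m + 1))) := by
      have e1 : a⁻¹ * (t * a * t⁻¹) = (kS hF κ⁻¹ * tS hF 1 0) * kS hF κ * (tS hF 1 0)⁻¹ := by
        rw [ha, ht, kS_inv]; group
      rw [e1, kS_tS hF hm, mul_assoc (tS hF _ _), ← kS_mul, inv_mul_cancel, kS_one, mul_one,
        tS_inv hF hm, tS_mul hF hm]
      congr 1
      · rw [Units.val_inv_eq_inv_val]; ring
      · rw [Units.val_inv_eq_inv_val]; ring
    rw [← h1]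
    exact L.mul_mem (L.inv_mem haL) hc
  have hα₀ : 1 + (κ : F)⁻¹ ≠ 0 := by
    intro h
    apply hκ1
    apply Units.ext
    rw [Units.val_one]
    have h3 : (κ : F)⁻¹ = 1 := by linear_combination h - h2
    have h4 : (κ : F) * (κ : F)⁻¹ = 1 := mul_inv_cancel₀ hκ0
    rw [h3, mul_one] at h4
    exact h4
  -- all first coordinates occur
  have hQ1 : ∀ α : F, α ≠ 0 → ∃ β : F, tS hF α β ∈ L := by
    intro α hα
    let k : Fˣ := Units.mk0 (α / (1 + (κ : F)⁻¹)) (div_ne_zero hα hα₀)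
    have h1 : kS hF k * tS hF (1 + (κ : F)⁻¹) (1 + ((κ : F)⁻¹) ^ (2 ^ (m + 1))) * (kS hF k)⁻¹
        = tS hF ((k : F) * (1 + (κ : F)⁻¹))
          ((k : F) ^ (2 ^ (m + 1) + 1) * (1 + ((κ : F)⁻¹) ^ (2 ^ (m + 1)))) := by
      rw [kS_tS hF hm, mul_inv_cancel_right]
    have h3 : (k : F) * (1 + (κ : F)⁻¹) = α := by
      show α / (1 + (κ : F)⁻¹) * (1 + (κ : F)⁻¹) = α
      rw [div_mul_cancel₀ _ hα₀]
    rw [h3] at h1
    refine ⟨(k : F) ^ (2 ^ (m + 1) + 1) * (1 + ((κ : F)⁻¹) ^ (2 ^ (m + 1))), ?_⟩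
    rw [← h1]
    exact L.mul_mem (L.mul_mem (hH k) hd) (L.inv_mem (hH k))
  -- the centre
  have hZ : ∀ c : F, tS hF 0 c ∈ L := by
    intro c
    obtain ⟨x, x', hxx'⟩ := exists_comm_value hF hm c
    by_cases hx : x = 0
    · rw [hx, zero_pow (by positivity), zero_mul, mul_zero, add_zero] at hxx'
      rw [← hxx', tS_zero_zero hF hm]
      exact L.one_mem
    by_cases hx' : x' = 0
    · rw [hx', zero_pow (by positivity), zero_mul, mul_zero, add_zero] at hxx'
      rw [← hxx', tS_zero_zero hF hm]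
      exact L.one_mem
    obtain ⟨β, hβ⟩ := hQ1 x hx
    obtain ⟨β', hβ'⟩ := hQ1 x' hx'
    have h1 := tS_comm hF hm x β x' β'
    rw [hxx'] at h1
    have h3 : tS hF 0 c = (tS hF x β * tS hF x' β') * (tS hF x' β' * tS hF x β)⁻¹ := by
      rw [← h1]; group
    rw [h3]
    exact L.mul_mem (L.mul_mem hβ hβ') (L.inv_mem (L.mul_mem hβ' hβ))
  have hQ : ∀ α β : F, tS hF α β ∈ L := by
    intro α β
    by_cases hα : α = 0
    · rw [hα]; exact hZ β
    · obtain ⟨β₁, hβ₁⟩ := hQ1 α hα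
      have h1 : tS hF 0 (β - β₁) * tS hF α β₁ = tS hF α β := by
        rw [tS_mul hF hm]
        congr 1
        · ring
        · rw [zero_pow (by positivity)]; ring
      rw [← h1]
      exact L.mul_mem (hZ _) hβ₁
  -- the stabiliser of the point at infinity
  have hB : stabInf F m ≤ L := by
    intro g hg
    obtain ⟨c, d, k, rfl⟩ := (mem_stabInf_iff_exists hF hm g).1 hg
    exact L.mul_mem (hQ c d) (hH k)
  have hbB : b ∉ stabInf F m := by
    intro h
    apply wS_not_mem (m := m) hF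
    have htB : t ∈ stabInf F m := by
      rw [mem_stabInf_iff_exists hF hm]
      exact ⟨1, 0, 1, by rw [kS_one, mul_one]⟩
    have : wS hF = t⁻¹ * b := by rw [hb]; group
    rw [this]
    exact mul_mem (inv_mem htB) h
  have hlt : stabInf F m < L := by
    refine lt_of_le_of_ne hB ?_
    intro h
    apply hbB
    rw [h]; exact hbL
  exact (isCoatom_stabInf hF hm).2 L hlt

end Cfsg.Agent.S2410
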