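import Mathlib
import Cfsg.Statements.S2411
import Cfsg.Agent.Lib.Helper9.SpGenE
import Cfsg.Agent.Lib.Helper9.SpGenF

set_option autoImplicit false
open Cfsg

namespace Cfsg.Agent.S2411

/-- The projective symplectic group `PSp_{2m}(q)` with `m ≥ 2` (and `q > 2` if `m = 2`) is generated by two of its elements. -/
theorem result {F : Type*} [Field F] [Fintype F] (m : ℕ) (hm : 2 ≤ m) (hF : m = 2 → 2 < Fintype.card F) :
    ∃ a b : Cfsg.PSp m F, Subgroup.closure ({a, b} : Set (Cfsg.PSp m F)) = ⊤ := by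
  classical
  have key : ∃ a b : Matrix.symplecticGroup (Fin m) F,
      Subgroup.closure ({a, b} : Set (Matrix.symplecticGroup (Fin m) F)) = ⊤ := by
    by_cases hq : 2 < Fintype.card F
    · obtain ⟨n, rfl⟩ : ∃ n, m = n + 2 := ⟨m - 2, by omega⟩
      exact Cfsg.Agent.Lib.Helper9.SpGen.main_big hq
    · have hq2 : Fintype.card F = 2 := by
        have := Fintype.one_lt_card (α := F)
        omega
      have hm3 : 3 ≤ m := by
        by_contra h
        have h2 : m = 2 := by omega
        exact hq (hF h2)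
      obtain ⟨n, rfl⟩ : ∃ n, m = n + 3 := ⟨m - 3, by omega⟩
      exact Cfsg.Agent.Lib.Helper9.SpGen.main_two hq2
  obtain ⟨a, b, hab⟩ := key
  refine ⟨QuotientGroup.mk a, QuotientGroup.mk b, ?_⟩
  have himg : ({(QuotientGroup.mk a : Cfsg.PSp m F), (QuotientGroup.mk b : Cfsg.PSp m F)} :
      Set (Cfsg.PSp m F)) =
      (QuotientGroup.mk' (Subgroup.center (Matrix.symplecticGroup (Fin m) F))) '' {a, b} := by
    rw [Set.image_pair]
    rfl
  rw [himg, ← MonoidHom.map_closure, hab]
  exact Subgroup.map_top_of_surjective _ (QuotientGroup.mk'_surjective _)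

end Cfsg.Agent.S2411
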