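import Mathlib
import Cfsg.Statements.S2412
import Cfsg.Agent.Lib.Helper9.SUGenI

set_option autoImplicit false
open Cfsg

namespace Cfsg.Agent.S2412

/-- The projective special unitary group `PSU_n(q)` with `n ≥ 3`, realised over the field with `q²` elements, `(n, q) ≠ (3, 2)`, is generated by two of its elements. -/
theorem result {F : Type*} [Field F] [Fintype F] {q : ℕ} (hq : IsPrimePow q) (hF : Fintype.card F = q ^ 2) (n : ℕ) (hn : 3 ≤ n) (h32 : n = 3 → q ≠ 2) :
    ∃ a b : Cfsg.PSU n F q, Subgroup.closure ({a, b} : Set (Cfsg.PSU n F q)) = ⊤ := by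
  classical
  have key : ∃ a b : ↥(Cfsg.SU n F q),
      Subgroup.closure ({a, b} : Set ↥(Cfsg.SU n F q)) = ⊤ := by
    by_cases h3 : n = 3
    · subst h3
      have hq2 : 2 ≤ q := Cfsg.Agent.Lib.Helper9.SUGen.two_le_q' hF
      have hq3 : 3 ≤ q := by
        have := h32 rfl
        omega
      exact Cfsg.Agent.Lib.Helper9.SUGen.three_gen hF hq3
    · rcases Nat.even_or_odd n with he | ho
      · obtain ⟨k, hk⟩ := he
        obtain ⟨m, rfl⟩ : ∃ m, k = m + 1 := ⟨k - 1, by omega⟩
        obtain rfl : n = 2 * m + 2 := by omega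
        exact Cfsg.Agent.Lib.Helper9.SUGen.even_gen hF (2 * m) m (by omega) rfl
      · obtain ⟨k, hk⟩ := ho
        obtain ⟨m, rfl⟩ : ∃ m, k = m + 1 := ⟨k - 1, by omega⟩
        obtain rfl : n = 2 * m + 2 + 1 := by omega
        exact Cfsg.Agent.Lib.Helper9.SUGen.odd_gen hF (2 * m) m (by omega) rfl
  obtain ⟨a, b, hab⟩ := key
  refine ⟨QuotientGroup.mk a, QuotientGroup.mk b, ?_⟩
  have himg : ({(QuotientGroup.mk a : Cfsg.PSU n F q), (QuotientGroup.mk b : Cfsg.PSU n F q)} :
      Set (Cfsg.PSU n F q)) =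
      (QuotientGroup.mk' (Subgroup.center ↥(Cfsg.SU n F q))) '' {a, b} := by
    rw [Set.image_pair]
    rfl
  rw [himg, ← MonoidHom.map_closure, hab]
  exact Subgroup.map_top_of_surjective _ (QuotientGroup.mk'_surjective _)

end Cfsg.Agent.S2412
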