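import Cfsg.Statements.S2416
import Cfsg.Agent.Lib.Helper8.ChevCls2

set_option autoImplicit false
open Cfsg

namespace Cfsg.Agent.S2416

open Cfsg.Lie Matrix Cfsg.Agent.Lib.Helper8.Chev

theorem cast_ne_zero_of_ringChar {K : Type*} [Field K] {p : ℕ} (hp : p.Prime)
    (h : ringChar K ≠ p) : ((p : ℕ) : K) ≠ 0 := by
  intro h0
  have hdvd : ringChar K ∣ p := (CharP.cast_eq_zero_iff K (ringChar K) p).mp h0
  rcases (Nat.dvd_prime hp).mp hdvd with h1 | h1
  · exact CharP.ringChar_ne_one h1
  · exact h h1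

/-- A Chevalley group of type G₂, B₂, D₄, F₄, E₆, E₇ or E₈ over a finite field lies in (indeed equals) the subgroup generated by its monomial subgroup `N` and a single fundamental root subgroup `X_p`, where `p` is a short fundamental root if there are two root lengths (any fundamental root otherwise), provided the characteristic is not 2 for types B₂, F₄ and not 3 for type G₂ (and the field has more than two elements for B₂, G₂). -/
theorem result {K : Type*} [Field K] [Finite K] (D : Cfsg.Lie.ChevalleyDatum) (hD : D ∈ [Cfsg.Lie.chevG2, Cfsg.Lie.chevB2, Cfsg.Lie.chevD4, Cfsg.Lie.chevF4, Cfsg.Lie.chevE6, Cfsg.Lie.chevE7, Cfsg.Lie.chevE8])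
    (hK : D ∈ [Cfsg.Lie.chevB2, Cfsg.Lie.chevG2] → ∃ x : K, x ≠ 0 ∧ x ≠ 1)
    (h2 : D ∈ [Cfsg.Lie.chevB2, Cfsg.Lie.chevF4] → ringChar K ≠ 2) (h3 : D = Cfsg.Lie.chevG2 → ringChar K ≠ 3)
    (i : ℕ) (hi : i < D.rank) (hshort : D.isLong (D.simple i) = false) :
    D.group K ≤ D.monomialSubgroup K ⊔ D.rootSubgroup K (D.simple i) := by
  apply group_le_of_short hD le_sup_left hi hshort (xLe_of_rootSubgroup_le le_sup_right)
  intro hne
  have hD' := hD
  simp only [List.mem_cons, List.not_mem_nil, or_false] at hD'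
  rcases hD' with rfl | rfl | rfl | rfl | rfl | rfl | rfl
  · have := cast_ne_zero_of_ringChar (K := K) Nat.prime_three (h3 rfl)
    show (((-3 : ℤ) : ℤ) : K) ≠ 0
    push_cast
    simpa using this
  · have := cast_ne_zero_of_ringChar (K := K) Nat.prime_two (h2 (by simp))
    show (((-2 : ℤ) : ℤ) : K) ≠ 0
    push_cast
    simpa using this
  · exact absurd rfl hne
  · have := cast_ne_zero_of_ringChar (K := K) Nat.prime_two (h2 (by simp))
    show (((-2 : ℤ) : ℤ) : K) ≠ 0
    push_cast
    simpa using this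
  · exact absurd rfl hne
  · exact absurd rfl hne
  · exact absurd rfl hne

end Cfsg.Agent.S2416
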