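import Cfsg.Statements.S2419

set_option autoImplicit false
open Cfsg

namespace Cfsg.Agent.S2419

section generic

variable {B : Type*} {M : CoxeterMatrix B}

theorem sq_one (i : B) : M.simple i * M.simple i = 1 := by
  have hi := M.toCoxeterSystem.simple_mul_simple_self i
  rwa [CoxeterMatrix.toCoxeterSystem_simple] at hi

theorem commute_of_two (i j : B) (h : M i j = 2) : Commute (M.simple i) (M.simple j) := by
  have h1 := M.toCoxeterSystem.simple_mul_simple_pow i j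
  rw [CoxeterMatrix.toCoxeterSystem_simple, h, pow_two] at h1
  have e1 : (M.simple i)⁻¹ = M.simple i := inv_eq_of_mul_eq_one_left (sq_one i)
  have e2 : (M.simple j)⁻¹ = M.simple j := inv_eq_of_mul_eq_one_left (sq_one j)
  show M.simple i * M.simple j = M.simple j * M.simple i
  have h2 := eq_inv_of_mul_eq_one_left h1
  rw [mul_inv_rev, e1, e2] at h2
  exact h2

theorem braid_of_three (i j : B) (h : M i j = 3) :
    M.simple i * M.simple j * M.simple i = M.simple j * M.simple i * M.simple j := by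
  have h1 := M.toCoxeterSystem.simple_mul_simple_pow i j
  rw [CoxeterMatrix.toCoxeterSystem_simple, h, pow_three] at h1
  have hi := sq_one (M := M) i
  have hj := sq_one (M := M) j
  have e1 : (M.simple i)⁻¹ = M.simple i := inv_eq_of_mul_eq_one_left hi
  have e2 : (M.simple j)⁻¹ = M.simple j := inv_eq_of_mul_eq_one_left hj
  have h2 : M.simple i * M.simple j * M.simple i =
      (M.simple j * M.simple i * M.simple j)⁻¹ := by
    apply eq_inv_of_mul_eq_one_left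
    rw [← h1]
    group
  rw [h2, mul_inv_rev, mul_inv_rev, e1, e2, mul_assoc]

end generic

section walk

variable {W : Type*} [Group W]

/-- From `b ∈ H` and `a b a ∈ H` with the braid relation, `a ∈ H`. -/
theorem mem_of_braid (H : Subgroup W) {a b : W} (hb2 : b * b = 1)
    (hbr : a * b * a = b * a * b) (hb : b ∈ H) (hab : a * b * a ∈ H) : a ∈ H := by
  have e2 : b⁻¹ = b := inv_eq_of_mul_eq_one_left hb2
  have : a = b * (a * b * a) * b := by
    rw [hbr]
    calc a = (b * b) * a * (b * b) := by rw [hb2, one_mul, mul_one]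
      _ = b * (b * a * b) * b := by group
  rw [this]
  exact H.mul_mem (H.mul_mem hb hab) hb

/-- One step of the walk along a tail of the diagram. -/
theorem step (H : Subgroup W) {P a b : W} (ha2 : a * a = 1) (hb2 : b * b = 1)
    (hbr : a * b * a = b * a * b) (hc : Commute P b) (hQ : P * a ∈ H) (hb : b ∈ H) :
    a ∈ H ∧ P ∈ H := by
  have e1 : a⁻¹ = a := inv_eq_of_mul_eq_one_left ha2
  have h1 : (P * a)⁻¹ * b * (P * a) ∈ H := H.mul_mem (H.mul_mem (H.inv_mem hQ) hb) hQ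
  have h2 : (P * a)⁻¹ * b * (P * a) = a * b * a := by
    rw [mul_inv_rev, e1]
    calc a * P⁻¹ * b * (P * a) = a * (P⁻¹ * (b * P)) * a := by group
      _ = a * (P⁻¹ * (P * b)) * a := by rw [hc.eq]
      _ = a * b * a := by group
  rw [h2] at h1
  have ha : a ∈ H := mem_of_braid H hb2 hbr hb h1
  refine ⟨ha, ?_⟩
  have : P = P * a * a := by rw [mul_assoc, ha2, mul_one]
  rw [this]
  exact H.mul_mem hQ ha

/-- The head of the `E`/`D` diagrams: nodes `0 - 2 - 3 - 1`. -/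
theorem head (H : Subgroup W) {s0 s1 s2 s3 : W} (h0 : s0 * s0 = 1) (h1 : s1 * s1 = 1)
    (h2 : s2 * s2 = 1) (h3 : s3 * s3 = 1) (c01 : Commute s0 s1) (c12 : Commute s1 s2)
    (c03 : Commute s0 s3) (b02 : s0 * s2 * s0 = s2 * s0 * s2) (b23 : s2 * s3 * s2 = s3 * s2 * s3)
    (hP : s0 * s1 * s2 ∈ H) (hs3 : s3 ∈ H) : s0 ∈ H ∧ s1 ∈ H ∧ s2 ∈ H := by
  -- u = s0 s1 s2 = s1 (s0 s2), u^3 = s1
  have hu : s0 * s1 * s2 = s1 * (s0 * s2) := by rw [c01.eq, mul_assoc]
  have hr3 : (s0 * s2) * (s0 * s2) * (s0 * s2) = 1 := by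
    calc (s0 * s2) * (s0 * s2) * (s0 * s2) = (s0 * s2 * s0) * (s2 * s0 * s2) := by group
      _ = (s0 * s2 * s0) * (s0 * s2 * s0) := by rw [b02]
      _ = s0 * s2 * (s0 * s0) * s2 * s0 := by group
      _ = 1 := by rw [h0, mul_one, mul_assoc s0, h2, mul_one, h0]
  have hcr : Commute s1 (s0 * s2) := (c01.symm).mul_right c12
  have hu3 : (s0 * s1 * s2) ^ 3 = s1 := by
    rw [hu, hcr.mul_pow, pow_three, pow_three, ← mul_assoc (s0 * s2), hr3, mul_one, h1, mul_one]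
  have hs1 : s1 ∈ H := by
    rw [← hu3]
    exact H.pow_mem hP 3
  have hr : s0 * s2 ∈ H := by
    have : s0 * s2 = s1 * (s0 * s1 * s2) := by rw [hu, ← mul_assoc, h1, one_mul]
    rw [this]
    exact H.mul_mem hs1 hP
  -- (s0 s2)⁻¹ s3 (s0 s2) = s2 s3 s2
  have e0 : s0⁻¹ = s0 := inv_eq_of_mul_eq_one_left h0
  have e2 : s2⁻¹ = s2 := inv_eq_of_mul_eq_one_left h2
  have h4 : (s0 * s2)⁻¹ * s3 * (s0 * s2) ∈ H := H.mul_mem (H.mul_mem (H.inv_mem hr) hs3) hr
  have h5 : (s0 * s2)⁻¹ * s3 * (s0 * s2) = s2 * s3 * s2 := by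
    rw [mul_inv_rev, e0, e2]
    calc s2 * s0 * s3 * (s0 * s2) = s2 * (s0 * s3) * s0 * s2 := by group
      _ = s2 * (s3 * s0) * s0 * s2 := by rw [c03.eq]
      _ = s2 * s3 * (s0 * s0) * s2 := by group
      _ = s2 * s3 * s2 := by rw [h0, mul_one]
  rw [h5] at h4
  have hs2 : s2 ∈ H := mem_of_braid H h3 b23 hs3 h4
  refine ⟨?_, hs1, hs2⟩
  have : s0 = s0 * s2 * s2 := by rw [mul_assoc, h2, mul_one]
  rw [this]
  exact H.mul_mem hr hs2

end walk

section types

theorem top_of_forall_simple {n : ℕ} {M : CoxeterMatrix (Fin n)} (H : Subgroup M.Group)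
    (h : ∀ i, M.simple i ∈ H) : H = ⊤ := by
  rw [eq_top_iff, ← M.toCoxeterSystem.subgroup_closure_range_simple, Subgroup.closure_le]
  rintro _ ⟨i, rfl⟩
  rw [CoxeterMatrix.toCoxeterSystem_simple]
  exact h i

theorem e8 : Subgroup.closure
    (({((List.finRange 8).map CoxeterMatrix.E₈.simple).prod} : Set CoxeterMatrix.E₈.Group) ∪
      {CoxeterMatrix.E₈.simple 7}) = ⊤ := by
  set H := Subgroup.closure
    (({((List.finRange 8).map CoxeterMatrix.E₈.simple).prod} : Set CoxeterMatrix.E₈.Group) ∪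
      {CoxeterMatrix.E₈.simple 7}) with hH
  have hprod : ((List.finRange 8).map CoxeterMatrix.E₈.simple).prod =
      CoxeterMatrix.E₈.simple 0 * CoxeterMatrix.E₈.simple 1 * CoxeterMatrix.E₈.simple 2 *
      CoxeterMatrix.E₈.simple 3 * CoxeterMatrix.E₈.simple 4 * CoxeterMatrix.E₈.simple 5 *
      CoxeterMatrix.E₈.simple 6 * CoxeterMatrix.E₈.simple 7 := by
    simp [List.finRange_succ, mul_assoc]
  have hc : CoxeterMatrix.E₈.simple 0 * CoxeterMatrix.E₈.simple 1 * CoxeterMatrix.E₈.simple 2 *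
      CoxeterMatrix.E₈.simple 3 * CoxeterMatrix.E₈.simple 4 * CoxeterMatrix.E₈.simple 5 *
      CoxeterMatrix.E₈.simple 6 * CoxeterMatrix.E₈.simple 7 ∈ H := by
    rw [← hprod]
    exact Subgroup.subset_closure (Or.inl rfl)
  have h7 : CoxeterMatrix.E₈.simple 7 ∈ H := Subgroup.subset_closure (Or.inr rfl)
  have cm : ∀ i j : Fin 8, CoxeterMatrix.E₈ i j = 2 →
      Commute (CoxeterMatrix.E₈.simple i) (CoxeterMatrix.E₈.simple j) := commute_of_two
  have br : ∀ i j : Fin 8, CoxeterMatrix.E₈ i j = 3 →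
      CoxeterMatrix.E₈.simple i * CoxeterMatrix.E₈.simple j * CoxeterMatrix.E₈.simple i =
      CoxeterMatrix.E₈.simple j * CoxeterMatrix.E₈.simple i * CoxeterMatrix.E₈.simple j :=
    braid_of_three
  have sq : ∀ i : Fin 8, CoxeterMatrix.E₈.simple i * CoxeterMatrix.E₈.simple i = 1 := sq_one
  -- strip s7
  have hP7 : CoxeterMatrix.E₈.simple 0 * CoxeterMatrix.E₈.simple 1 * CoxeterMatrix.E₈.simple 2 *
      CoxeterMatrix.E₈.simple 3 * CoxeterMatrix.E₈.simple 4 * CoxeterMatrix.E₈.simple 5 *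
      CoxeterMatrix.E₈.simple 6 ∈ H := by
    have := H.mul_mem hc h7
    rwa [mul_assoc, sq, mul_one] at this
  obtain ⟨h6, hP6⟩ := step H (sq 6) (sq 7) (br 6 7 rfl)
    ((((((cm 0 7 rfl).mul_left (cm 1 7 rfl)).mul_left (cm 2 7 rfl)).mul_left
      (cm 3 7 rfl)).mul_left (cm 4 7 rfl)).mul_left (cm 5 7 rfl)) hP7 h7
  obtain ⟨h5, hP5⟩ := step H (sq 5) (sq 6) (br 5 6 rfl)
    (((((cm 0 6 rfl).mul_left (cm 1 6 rfl)).mul_left (cm 2 6 rfl)).mul_left
      (cm 3 6 rfl)).mul_left (cm 4 6 rfl)) hP6 h6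
  obtain ⟨h4, hP4⟩ := step H (sq 4) (sq 5) (br 4 5 rfl)
    ((((cm 0 5 rfl).mul_left (cm 1 5 rfl)).mul_left (cm 2 5 rfl)).mul_left
      (cm 3 5 rfl)) hP5 h5
  obtain ⟨h3, hP3⟩ := step H (sq 3) (sq 4) (br 3 4 rfl)
    (((cm 0 4 rfl).mul_left (cm 1 4 rfl)).mul_left (cm 2 4 rfl)) hP4 h4
  obtain ⟨h0, h1, h2⟩ := head H (sq 0) (sq 1) (sq 2) (sq 3) (cm 0 1 rfl) (cm 1 2 rfl)
    (cm 0 3 rfl) (br 0 2 rfl) (br 2 3 rfl) hP3 h3
  apply top_of_forall_simple
  intro i
  fin_cases i <;> assumption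

theorem e7 : Subgroup.closure
    (({((List.finRange 7).map CoxeterMatrix.E₇.simple).prod} : Set CoxeterMatrix.E₇.Group) ∪
      {CoxeterMatrix.E₇.simple 6}) = ⊤ := by
  set H := Subgroup.closure
    (({((List.finRange 7).map CoxeterMatrix.E₇.simple).prod} : Set CoxeterMatrix.E₇.Group) ∪
      {CoxeterMatrix.E₇.simple 6}) with hH
  have hprod : ((List.finRange 7).map CoxeterMatrix.E₇.simple).prod =
      CoxeterMatrix.E₇.simple 0 * CoxeterMatrix.E₇.simple 1 * CoxeterMatrix.E₇.simple 2 * CoxeterMatrix.E₇.simple 3 * CoxeterMatrix.E₇.simple 4 * CoxeterMatrix.E₇.simple 5 * CoxeterMatrix.E₇.simple 6 := by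
    simp [List.finRange_succ, mul_assoc]
  have hc : CoxeterMatrix.E₇.simple 0 * CoxeterMatrix.E₇.simple 1 * CoxeterMatrix.E₇.simple 2 * CoxeterMatrix.E₇.simple 3 * CoxeterMatrix.E₇.simple 4 * CoxeterMatrix.E₇.simple 5 * CoxeterMatrix.E₇.simple 6 ∈ H := by
    rw [← hprod]
    exact Subgroup.subset_closure (Or.inl rfl)
  have h6 : CoxeterMatrix.E₇.simple 6 ∈ H := Subgroup.subset_closure (Or.inr rfl)
  have cm : ∀ i j : Fin 7, CoxeterMatrix.E₇ i j = 2 →
      Commute (CoxeterMatrix.E₇.simple i) (CoxeterMatrix.E₇.simple j) := commute_of_two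
  have br : ∀ i j : Fin 7, CoxeterMatrix.E₇ i j = 3 →
      CoxeterMatrix.E₇.simple i * CoxeterMatrix.E₇.simple j * CoxeterMatrix.E₇.simple i =
      CoxeterMatrix.E₇.simple j * CoxeterMatrix.E₇.simple i * CoxeterMatrix.E₇.simple j :=
    braid_of_three
  have sq : ∀ i : Fin 7, CoxeterMatrix.E₇.simple i * CoxeterMatrix.E₇.simple i = 1 := sq_one
  have hP6 : CoxeterMatrix.E₇.simple 0 * CoxeterMatrix.E₇.simple 1 * CoxeterMatrix.E₇.simple 2 * CoxeterMatrix.E₇.simple 3 * CoxeterMatrix.E₇.simple 4 * CoxeterMatrix.E₇.simple 5 ∈ H := by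
    have := H.mul_mem hc h6
    rwa [mul_assoc, sq, mul_one] at this
  obtain ⟨h5, hP5⟩ := step H (sq 5) (sq 6) (br 5 6 rfl)
    (((((cm 0 6 rfl).mul_left (cm 1 6 rfl)).mul_left (cm 2 6 rfl)).mul_left (cm 3 6 rfl)).mul_left (cm 4 6 rfl)) hP6 h6
  obtain ⟨h4, hP4⟩ := step H (sq 4) (sq 5) (br 4 5 rfl)
    ((((cm 0 5 rfl).mul_left (cm 1 5 rfl)).mul_left (cm 2 5 rfl)).mul_left (cm 3 5 rfl)) hP5 h5
  obtain ⟨h3, hP3⟩ := step H (sq 3) (sq 4) (br 3 4 rfl)
    (((cm 0 4 rfl).mul_left (cm 1 4 rfl)).mul_left (cm 2 4 rfl)) hP4 h4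
  obtain ⟨h0, h1, h2⟩ := head H (sq 0) (sq 1) (sq 2) (sq 3) (cm 0 1 rfl) (cm 1 2 rfl)
    (cm 0 3 rfl) (br 0 2 rfl) (br 2 3 rfl) hP3 h3
  apply top_of_forall_simple
  intro i
  fin_cases i <;> assumption

theorem e6 : Subgroup.closure
    (({((List.finRange 6).map CoxeterMatrix.E₆.simple).prod} : Set CoxeterMatrix.E₆.Group) ∪
      {CoxeterMatrix.E₆.simple 5}) = ⊤ := by
  set H := Subgroup.closure
    (({((List.finRange 6).map CoxeterMatrix.E₆.simple).prod} : Set CoxeterMatrix.E₆.Group) ∪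
      {CoxeterMatrix.E₆.simple 5}) with hH
  have hprod : ((List.finRange 6).map CoxeterMatrix.E₆.simple).prod =
      CoxeterMatrix.E₆.simple 0 * CoxeterMatrix.E₆.simple 1 * CoxeterMatrix.E₆.simple 2 * CoxeterMatrix.E₆.simple 3 * CoxeterMatrix.E₆.simple 4 * CoxeterMatrix.E₆.simple 5 := by
    simp [List.finRange_succ, mul_assoc]
  have hc : CoxeterMatrix.E₆.simple 0 * CoxeterMatrix.E₆.simple 1 * CoxeterMatrix.E₆.simple 2 * CoxeterMatrix.E₆.simple 3 * CoxeterMatrix.E₆.simple 4 * CoxeterMatrix.E₆.simple 5 ∈ H := by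
    rw [← hprod]
    exact Subgroup.subset_closure (Or.inl rfl)
  have h5 : CoxeterMatrix.E₆.simple 5 ∈ H := Subgroup.subset_closure (Or.inr rfl)
  have cm : ∀ i j : Fin 6, CoxeterMatrix.E₆ i j = 2 →
      Commute (CoxeterMatrix.E₆.simple i) (CoxeterMatrix.E₆.simple j) := commute_of_two
  have br : ∀ i j : Fin 6, CoxeterMatrix.E₆ i j = 3 →
      CoxeterMatrix.E₆.simple i * CoxeterMatrix.E₆.simple j * CoxeterMatrix.E₆.simple i =
      CoxeterMatrix.E₆.simple j * CoxeterMatrix.E₆.simple i * CoxeterMatrix.E₆.simple j :=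
    braid_of_three
  have sq : ∀ i : Fin 6, CoxeterMatrix.E₆.simple i * CoxeterMatrix.E₆.simple i = 1 := sq_one
  have hP5 : CoxeterMatrix.E₆.simple 0 * CoxeterMatrix.E₆.simple 1 * CoxeterMatrix.E₆.simple 2 * CoxeterMatrix.E₆.simple 3 * CoxeterMatrix.E₆.simple 4 ∈ H := by
    have := H.mul_mem hc h5
    rwa [mul_assoc, sq, mul_one] at this
  obtain ⟨h4, hP4⟩ := step H (sq 4) (sq 5) (br 4 5 rfl)
    ((((cm 0 5 rfl).mul_left (cm 1 5 rfl)).mul_left (cm 2 5 rfl)).mul_left (cm 3 5 rfl)) hP5 h5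
  obtain ⟨h3, hP3⟩ := step H (sq 3) (sq 4) (br 3 4 rfl)
    (((cm 0 4 rfl).mul_left (cm 1 4 rfl)).mul_left (cm 2 4 rfl)) hP4 h4
  obtain ⟨h0, h1, h2⟩ := head H (sq 0) (sq 1) (sq 2) (sq 3) (cm 0 1 rfl) (cm 1 2 rfl)
    (cm 0 3 rfl) (br 0 2 rfl) (br 2 3 rfl) hP3 h3
  apply top_of_forall_simple
  intro i
  fin_cases i <;> assumption

theorem d4 : Subgroup.closure
    (({((List.finRange 4).map Cfsg.Lie.coxeterD4.simple).prod} : Set Cfsg.Lie.coxeterD4.Group) ∪
      {Cfsg.Lie.coxeterD4.simple 2, Cfsg.Lie.coxeterD4.simple 3}) = ⊤ := by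
  set H := Subgroup.closure
    (({((List.finRange 4).map Cfsg.Lie.coxeterD4.simple).prod} : Set Cfsg.Lie.coxeterD4.Group) ∪
      {Cfsg.Lie.coxeterD4.simple 2, Cfsg.Lie.coxeterD4.simple 3}) with hH
  have hprod : ((List.finRange 4).map Cfsg.Lie.coxeterD4.simple).prod =
      Cfsg.Lie.coxeterD4.simple 0 * Cfsg.Lie.coxeterD4.simple 1 * Cfsg.Lie.coxeterD4.simple 2 *
      Cfsg.Lie.coxeterD4.simple 3 := by
    simp [List.finRange_succ, mul_assoc]
  have hc : Cfsg.Lie.coxeterD4.simple 0 * Cfsg.Lie.coxeterD4.simple 1 *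
      Cfsg.Lie.coxeterD4.simple 2 * Cfsg.Lie.coxeterD4.simple 3 ∈ H := by
    rw [← hprod]
    exact Subgroup.subset_closure (Or.inl rfl)
  have h2 : Cfsg.Lie.coxeterD4.simple 2 ∈ H := Subgroup.subset_closure (Or.inr (Or.inl rfl))
  have h3 : Cfsg.Lie.coxeterD4.simple 3 ∈ H := Subgroup.subset_closure (Or.inr (Or.inr rfl))
  have cm : ∀ i j : Fin 4, Cfsg.Lie.coxeterD4 i j = 2 →
      Commute (Cfsg.Lie.coxeterD4.simple i) (Cfsg.Lie.coxeterD4.simple j) := commute_of_two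
  have br : ∀ i j : Fin 4, Cfsg.Lie.coxeterD4 i j = 3 →
      Cfsg.Lie.coxeterD4.simple i * Cfsg.Lie.coxeterD4.simple j * Cfsg.Lie.coxeterD4.simple i =
      Cfsg.Lie.coxeterD4.simple j * Cfsg.Lie.coxeterD4.simple i * Cfsg.Lie.coxeterD4.simple j :=
    braid_of_three
  have sq : ∀ i : Fin 4, Cfsg.Lie.coxeterD4.simple i * Cfsg.Lie.coxeterD4.simple i = 1 := sq_one
  have hP3 : Cfsg.Lie.coxeterD4.simple 0 * Cfsg.Lie.coxeterD4.simple 1 *
      Cfsg.Lie.coxeterD4.simple 2 ∈ H := by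
    have := H.mul_mem hc h3
    rwa [mul_assoc, sq, mul_one] at this
  have hP2 : Cfsg.Lie.coxeterD4.simple 0 * Cfsg.Lie.coxeterD4.simple 1 ∈ H := by
    have := H.mul_mem hP3 h2
    rwa [mul_assoc, sq, mul_one] at this
  obtain ⟨h1, h0⟩ := step H (sq 1) (sq 2) (br 1 2 rfl) (cm 0 2 rfl) hP2 h2
  apply top_of_forall_simple
  intro i
  fin_cases i <;> assumption

theorem f4 : Subgroup.closure
    (({((List.finRange 4).map CoxeterMatrix.F₄.simple).prod} : Set CoxeterMatrix.F₄.Group) ∪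
      {CoxeterMatrix.F₄.simple 0, CoxeterMatrix.F₄.simple 3}) = ⊤ := by
  set H := Subgroup.closure
    (({((List.finRange 4).map CoxeterMatrix.F₄.simple).prod} : Set CoxeterMatrix.F₄.Group) ∪
      {CoxeterMatrix.F₄.simple 0, CoxeterMatrix.F₄.simple 3}) with hH
  have hprod : ((List.finRange 4).map CoxeterMatrix.F₄.simple).prod =
      CoxeterMatrix.F₄.simple 0 * (CoxeterMatrix.F₄.simple 1 * CoxeterMatrix.F₄.simple 2) *
      CoxeterMatrix.F₄.simple 3 := by
    simp [List.finRange_succ, mul_assoc]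
  have hc : CoxeterMatrix.F₄.simple 0 * (CoxeterMatrix.F₄.simple 1 * CoxeterMatrix.F₄.simple 2) *
      CoxeterMatrix.F₄.simple 3 ∈ H := by
    rw [← hprod]
    exact Subgroup.subset_closure (Or.inl rfl)
  have h0 : CoxeterMatrix.F₄.simple 0 ∈ H := Subgroup.subset_closure (Or.inr (Or.inl rfl))
  have h3 : CoxeterMatrix.F₄.simple 3 ∈ H := Subgroup.subset_closure (Or.inr (Or.inr rfl))
  have cm : ∀ i j : Fin 4, CoxeterMatrix.F₄ i j = 2 →
      Commute (CoxeterMatrix.F₄.simple i) (CoxeterMatrix.F₄.simple j) := commute_of_two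
  have br : ∀ i j : Fin 4, CoxeterMatrix.F₄ i j = 3 →
      CoxeterMatrix.F₄.simple i * CoxeterMatrix.F₄.simple j * CoxeterMatrix.F₄.simple i =
      CoxeterMatrix.F₄.simple j * CoxeterMatrix.F₄.simple i * CoxeterMatrix.F₄.simple j :=
    braid_of_three
  have sq : ∀ i : Fin 4, CoxeterMatrix.F₄.simple i * CoxeterMatrix.F₄.simple i = 1 := sq_one
  have hr : CoxeterMatrix.F₄.simple 1 * CoxeterMatrix.F₄.simple 2 ∈ H := by
    have ha := H.mul_mem hc h3
    rw [mul_assoc, sq, mul_one] at ha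
    have hb := H.mul_mem h0 ha
    rwa [← mul_assoc, sq, one_mul] at hb
  have hr' : CoxeterMatrix.F₄.simple 2 * CoxeterMatrix.F₄.simple 1 ∈ H := by
    have h1 := H.inv_mem hr
    have e1 : (CoxeterMatrix.F₄.simple 1)⁻¹ = CoxeterMatrix.F₄.simple 1 :=
      inv_eq_of_mul_eq_one_left (sq 1)
    have e2 : (CoxeterMatrix.F₄.simple 2)⁻¹ = CoxeterMatrix.F₄.simple 2 :=
      inv_eq_of_mul_eq_one_left (sq 2)
    rwa [mul_inv_rev, e1, e2] at h1
  obtain ⟨h1, h2⟩ := step H (sq 1) (sq 0) (br 1 0 rfl) (cm 2 0 rfl) hr' h0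
  apply top_of_forall_simple
  intro i
  fin_cases i <;> assumption

theorem rank2 (M : CoxeterMatrix (Fin 2)) : Subgroup.closure
    (({((List.finRange 2).map M.simple).prod} : Set M.Group) ∪ {M.simple 0}) = ⊤ := by
  set H := Subgroup.closure
    (({((List.finRange 2).map M.simple).prod} : Set M.Group) ∪ {M.simple 0}) with hH
  have hprod : ((List.finRange 2).map M.simple).prod = M.simple 0 * M.simple 1 := by
    simp [List.finRange_succ]
  have hc : M.simple 0 * M.simple 1 ∈ H := by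
    rw [← hprod]
    exact Subgroup.subset_closure (Or.inl rfl)
  have h0 : M.simple 0 ∈ H := Subgroup.subset_closure (Or.inr rfl)
  have h1 : M.simple 1 ∈ H := by
    have := H.mul_mem h0 hc
    rwa [← mul_assoc, sq_one, one_mul] at this
  apply top_of_forall_simple
  intro i
  fin_cases i <;> assumption

theorem d4_ne : Cfsg.Lie.coxeterD4.simple 2 ≠ Cfsg.Lie.coxeterD4.simple 3 := by
  have hf : Cfsg.Lie.coxeterD4.IsLiftable
      (![Equiv.swap 2 3, Equiv.swap 1 2, Equiv.swap 2 3, Equiv.swap 0 1] :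
        Fin 4 → Equiv.Perm (Fin 4)) := by
    unfold CoxeterMatrix.IsLiftable
    decide
  intro h
  have h2 := Cfsg.Lie.coxeterD4.toCoxeterSystem.lift_apply_simple hf 2
  have h3 := Cfsg.Lie.coxeterD4.toCoxeterSystem.lift_apply_simple hf 3
  rw [CoxeterMatrix.toCoxeterSystem_simple] at h2 h3
  rw [h, h3] at h2
  revert h2
  decide

theorem f4_ne : CoxeterMatrix.F₄.simple 0 ≠ CoxeterMatrix.F₄.simple 3 := by
  have hf : CoxeterMatrix.F₄.IsLiftable
      (![1, 1, Equiv.swap 0 1, Equiv.swap 0 1] : Fin 4 → Equiv.Perm (Fin 2)) := by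
    unfold CoxeterMatrix.IsLiftable
    decide
  intro h
  have h0 := CoxeterMatrix.F₄.toCoxeterSystem.lift_apply_simple hf 0
  have h3 := CoxeterMatrix.F₄.toCoxeterSystem.lift_apply_simple hf 3
  rw [CoxeterMatrix.toCoxeterSystem_simple] at h0 h3
  rw [h, h3] at h0
  revert h0
  decide

end types

/-- The Coxeter groups of types B₂, G₂, E₆, E₇, E₈ are generated by the Coxeter element `s₁ s₂ ⋯ s_l` together with one suitable reflection (a conjugate of a simple reflection); for types D₄ and F₄ the Coxeter element together with two suitable reflections suffices. -/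
theorem result (c : (Σ n : ℕ, CoxeterMatrix (Fin n)) × ℕ)
    (hc : c ∈ [(⟨2, CoxeterMatrix.B 2⟩, 1), (⟨2, CoxeterMatrix.G₂⟩, 1), (⟨4, Cfsg.Lie.coxeterD4⟩, 2), (⟨4, CoxeterMatrix.F₄⟩, 2),
      (⟨6, CoxeterMatrix.E₆⟩, 1), (⟨7, CoxeterMatrix.E₇⟩, 1), (⟨8, CoxeterMatrix.E₈⟩, 1)]) :
    ∃ T : Finset c.1.2.Group, T.card = c.2 ∧ (∀ t ∈ T, ∃ (g : c.1.2.Group) (i : Fin c.1.1), t = g * c.1.2.simple i * g⁻¹) ∧
      Subgroup.closure (({((List.finRange c.1.1).map c.1.2.simple).prod} : Set c.1.2.Group) ∪ ↑T) = ⊤ := by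
  classical
  simp only [List.mem_cons, List.not_mem_nil, or_false] at hc
  rcases hc with rfl | rfl | rfl | rfl | rfl | rfl | rfl
  · refine ⟨({(CoxeterMatrix.B 2).simple 0} : Finset (CoxeterMatrix.B 2).Group), rfl, ?_, ?_⟩
    · intro t ht
      rw [Finset.mem_singleton] at ht
      exact ⟨1, 0, by rw [ht]; simp⟩
    · rw [Finset.coe_singleton]
      exact rank2 _
  · refine ⟨({CoxeterMatrix.G₂.simple 0} : Finset CoxeterMatrix.G₂.Group), rfl, ?_, ?_⟩
    · intro t ht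
      rw [Finset.mem_singleton] at ht
      exact ⟨1, 0, by rw [ht]; simp⟩
    · rw [Finset.coe_singleton]
      exact rank2 _
  · refine ⟨({Cfsg.Lie.coxeterD4.simple 2, Cfsg.Lie.coxeterD4.simple 3} :
      Finset Cfsg.Lie.coxeterD4.Group), Finset.card_pair d4_ne, ?_, ?_⟩
    · intro t ht
      rw [Finset.mem_insert, Finset.mem_singleton] at ht
      rcases ht with ht | ht
      · exact ⟨1, 2, by rw [ht]; simp⟩
      · exact ⟨1, 3, by rw [ht]; simp⟩
    · rw [Finset.coe_insert, Finset.coe_singleton]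
      exact d4
  · refine ⟨({CoxeterMatrix.F₄.simple 0, CoxeterMatrix.F₄.simple 3} :
      Finset CoxeterMatrix.F₄.Group), Finset.card_pair f4_ne, ?_, ?_⟩
    · intro t ht
      rw [Finset.mem_insert, Finset.mem_singleton] at ht
      rcases ht with ht | ht
      · exact ⟨1, 0, by rw [ht]; simp⟩
      · exact ⟨1, 3, by rw [ht]; simp⟩
    · rw [Finset.coe_insert, Finset.coe_singleton]
      exact f4
  · refine ⟨({CoxeterMatrix.E₆.simple 5} : Finset CoxeterMatrix.E₆.Group), rfl, ?_, ?_⟩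
    · intro t ht
      rw [Finset.mem_singleton] at ht
      exact ⟨1, 5, by rw [ht]; simp⟩
    · rw [Finset.coe_singleton]
      exact e6
  · refine ⟨({CoxeterMatrix.E₇.simple 6} : Finset CoxeterMatrix.E₇.Group), rfl, ?_, ?_⟩
    · intro t ht
      rw [Finset.mem_singleton] at ht
      exact ⟨1, 6, by rw [ht]; simp⟩
    · rw [Finset.coe_singleton]
      exact e7
  · refine ⟨({CoxeterMatrix.E₈.simple 7} : Finset CoxeterMatrix.E₈.Group), rfl, ?_, ?_⟩
    · intro t ht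
      rw [Finset.mem_singleton] at ht
      exact ⟨1, 7, by rw [ht]; simp⟩
    · rw [Finset.coe_singleton]
      exact e8

end Cfsg.Agent.S2419
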