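import Cfsg.Statements.S2428
import Cfsg.Agent.Lib.Helper15.Torus3

set_option autoImplicit false
open Cfsg

namespace Cfsg.Agent.S2428

open Cfsg.Agent.Lib.Helper15 Cfsg.Agent.Lib.Helper14 Matrix

/-- Let F be a finite field with q elements, q odd, and let d be a diagonal element of SL₂ over F whose diagonal entry a has a² ≠ 1 (such d exist exactly when q > 3). Then the centraliser of d is precisely the diagonal subgroup T; the normaliser of T has order 2(q − 1) and exactly (q + 5)/2 conjugacy classes; and every element of that normaliser outside T has square equal to −1. -/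
theorem result {F : Type*} [Field F] [Fintype F] (hodd : Odd (Fintype.card F))
    (d : Matrix.SpecialLinearGroup (Fin 2) F) (hd01 : (d : Matrix (Fin 2) (Fin 2) F) 0 1 = 0) (hd10 : (d : Matrix (Fin 2) (Fin 2) F) 1 0 = 0) (hda : (d : Matrix (Fin 2) (Fin 2) F) 0 0 ^ 2 ≠ 1) :
    (∀ g : Matrix.SpecialLinearGroup (Fin 2) F, g ∈ Subgroup.centralizer ({d} : Set (Matrix.SpecialLinearGroup (Fin 2) F)) ↔ ((g : Matrix (Fin 2) (Fin 2) F) 0 1 = 0 ∧ (g : Matrix (Fin 2) (Fin 2) F) 1 0 = 0)) ∧
    Nat.card (Subgroup.normalizer ((Subgroup.centralizer ({d} : Set (Matrix.SpecialLinearGroup (Fin 2) F))) : Set (Matrix.SpecialLinearGroup (Fin 2) F))) = 2 * (Fintype.card F - 1) ∧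
    Nat.card (ConjClasses (Subgroup.normalizer ((Subgroup.centralizer ({d} : Set (Matrix.SpecialLinearGroup (Fin 2) F))) : Set (Matrix.SpecialLinearGroup (Fin 2) F)))) = (Fintype.card F + 5) / 2 ∧
    ∀ g : Matrix.SpecialLinearGroup (Fin 2) F, g ∈ Subgroup.normalizer ((Subgroup.centralizer ({d} : Set (Matrix.SpecialLinearGroup (Fin 2) F))) : Set (Matrix.SpecialLinearGroup (Fin 2) F)) →
      g ∉ Subgroup.centralizer ({d} : Set (Matrix.SpecialLinearGroup (Fin 2) F)) → ((g * g) : Matrix (Fin 2) (Fin 2) F) = -1 := by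
  have h2 : (2 : F) ≠ 0 := by
    intro h
    have := two_dvd_card_iff.2 h
    rw [← Nat.not_even_iff_odd] at hodd
    exact hodd (even_iff_two_dvd.2 this)
  set a := (d : Matrix (Fin 2) (Fin 2) F) 0 0 with ha
  set b := (d : Matrix (Fin 2) (Fin 2) F) 1 1 with hb
  have hdet : a * b = 1 := by
    have := d.det_coe
    rw [Matrix.det_fin_two, hd01, zero_mul, sub_zero] at this
    exact this
  have ha0 : a ≠ 0 := by
    intro h; rw [h, zero_mul] at hdet; exact zero_ne_one hdet
  have hb' : b = a⁻¹ := eq_inv_of_mul_eq_one_right hdet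
  have hab : a ≠ b := by
    intro h
    apply hda
    rw [pow_two]
    nth_rewrite 2 [h]
    exact hdet
  have hns : ¬ IsScalar2 (d : Matrix (Fin 2) (Fin 2) F) := fun h => hab h.2.2
  have htr : (d : Matrix (Fin 2) (Fin 2) F).trace = a + b := Matrix.trace_fin_two _
  have ht4 : (d : Matrix (Fin 2) (Fin 2) F).trace ^ 2 ≠ 4 := by
    rw [htr]
    intro h
    have : (a - b) ^ 2 = 0 := by linear_combination h - 4 * hdet
    exact hab (sub_eq_zero.1 (pow_eq_zero_iff two_ne_zero |>.1 this))
  have hsplit : IsSplitTrace (d : Matrix (Fin 2) (Fin 2) F).trace := ⟨a, ha0, by rw [htr, hb']⟩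
  have hcard : Nat.card (Subgroup.centralizer ({d} : Set (Matrix.SpecialLinearGroup (Fin 2) F))) = Fintype.card F - 1 :=
    card_centralizer_split_odd d hns ht4 hsplit
  refine ⟨?_, ?_, ?_, ?_⟩
  · intro g
    rw [Subgroup.mem_centralizer_singleton_iff]
    constructor
    · intro hc
      have hc' : (g : Matrix (Fin 2) (Fin 2) F) * (d : Matrix (Fin 2) (Fin 2) F) =
          (d : Matrix (Fin 2) (Fin 2) F) * (g : Matrix (Fin 2) (Fin 2) F) := congrArg Subtype.val hc
      have e01 := congrFun (congrFun hc' 0) 1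
      have e10 := congrFun (congrFun hc' 1) 0
      simp only [Matrix.mul_apply, Fin.sum_univ_two, hd01, hd10, mul_zero, zero_mul, add_zero, zero_add] at e01 e10
      constructor
      · have : (g : Matrix (Fin 2) (Fin 2) F) 0 1 * (b - a) = 0 := by linear_combination e01
        exact (mul_eq_zero.1 this).resolve_right (sub_ne_zero.2 (Ne.symm hab))
      · have : (g : Matrix (Fin 2) (Fin 2) F) 1 0 * (a - b) = 0 := by linear_combination e10
        exact (mul_eq_zero.1 this).resolve_right (sub_ne_zero.2 hab)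
    · rintro ⟨h01, h10⟩
      apply Subtype.ext
      rw [Matrix.SpecialLinearGroup.coe_mul, Matrix.SpecialLinearGroup.coe_mul]
      apply mat2_ext <;> simp [Matrix.mul_apply, Fin.sum_univ_two, hd01, hd10, h01, h10, mul_comm]
  · rw [card_torus_normalizer h2 d hns ht4, hcard]
  · rw [card_conjClasses_torus_normalizer h2 d hns ht4, hcard]
    obtain ⟨k, hk⟩ := hodd
    omega
  · intro g hg hgT
    exact inverting_sq d hns g (not_mem_torus_inverting h2 d hns ht4 g hg hgT)

end Cfsg.Agent.S2428
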