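import Cfsg.Statements.S2429
import Cfsg.Agent.Lib.Helper15.Torus4

set_option autoImplicit false
open Cfsg

namespace Cfsg.Agent.S2429

open Cfsg.Agent.Lib.Helper15 Cfsg.Agent.Lib.Helper14 Matrix

theorem scalar_cases {F : Type*} [Field F] (g : Matrix.SpecialLinearGroup (Fin 2) F)
    (hs : IsScalar2 (g : Matrix (Fin 2) (Fin 2) F)) :
    (g : Matrix (Fin 2) (Fin 2) F) = 1 ∨ (g : Matrix (Fin 2) (Fin 2) F) = -1 := by
  obtain ⟨h01, h10, h00⟩ := hs
  have hdet := g.det_coe
  rw [Matrix.det_fin_two, h01, h10, ← h00, mul_zero, sub_zero] at hdet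
  have h3 : ((g : Matrix (Fin 2) (Fin 2) F) 0 0 - 1) * ((g : Matrix (Fin 2) (Fin 2) F) 0 0 + 1) = 0 := by
    linear_combination hdet
  rcases mul_eq_zero.1 h3 with h4 | h4
  · left
    have h5 : (g : Matrix (Fin 2) (Fin 2) F) 0 0 = 1 := by linear_combination h4
    apply mat2_ext
    · rw [h5]; rfl
    · rw [h01]; rfl
    · rw [h10]; rfl
    · rw [← h00, h5]; rfl
  · right
    have h5 : (g : Matrix (Fin 2) (Fin 2) F) 0 0 = -1 := by linear_combination h4
    apply mat2_ext
    · rw [h5]; simp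
    · rw [h01]; simp
    · rw [h10]; simp
    · rw [← h00, h5]; simp

/-- Let F be a finite field with q elements, q odd. Then SL₂ over F contains a cyclic subgroup T′ of order q + 1 (a non-split torus) with the following properties: T′ is its own centraliser, and indeed the centraliser of each element of T′ other than 1 and −1 is exactly T′; every element of SL₂ having no eigenvector in F² is conjugate to an element of T′; the normaliser of T′ has order 2(q + 1) and exactly (q + 7)/2 conjugacy classes; and every element of that normaliser outside T′ has square −1. -/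
theorem result {F : Type*} [Field F] [Fintype F] (hodd : Odd (Fintype.card F)) :
    ∃ T' : Subgroup (Matrix.SpecialLinearGroup (Fin 2) F), IsCyclic T' ∧ Nat.card T' = Fintype.card F + 1 ∧
      Subgroup.centralizer ((T' : Set (Matrix.SpecialLinearGroup (Fin 2) F))) = T' ∧
      (∀ g : Matrix.SpecialLinearGroup (Fin 2) F, g ∈ T' → (g : Matrix (Fin 2) (Fin 2) F) ≠ 1 → (g : Matrix (Fin 2) (Fin 2) F) ≠ -1 → Subgroup.centralizer ({g} : Set (Matrix.SpecialLinearGroup (Fin 2) F)) = T') ∧
      (∀ g : Matrix.SpecialLinearGroup (Fin 2) F, (∀ (c : F) (v : Fin 2 → F), v ≠ 0 → (g : Matrix (Fin 2) (Fin 2) F).mulVec v ≠ c • v) → ∃ h : Matrix.SpecialLinearGroup (Fin 2) F, h * g * h⁻¹ ∈ T') ∧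
      Nat.card (Subgroup.normalizer (T' : Set (Matrix.SpecialLinearGroup (Fin 2) F))) = 2 * (Fintype.card F + 1) ∧
      Nat.card (ConjClasses (Subgroup.normalizer (T' : Set (Matrix.SpecialLinearGroup (Fin 2) F)))) = (Fintype.card F + 7) / 2 ∧
      ∀ g : Matrix.SpecialLinearGroup (Fin 2) F, g ∈ Subgroup.normalizer (T' : Set (Matrix.SpecialLinearGroup (Fin 2) F)) → g ∉ T' → ((g * g) : Matrix (Fin 2) (Fin 2) F) = -1 := by
  have h2 : (2 : F) ≠ 0 := by
    intro h
    have := two_dvd_card_iff.2 h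
    rw [← Nat.not_even_iff_odd] at hodd
    exact hodd (even_iff_two_dvd.2 this)
  obtain ⟨t, ht⟩ := exists_nonsplit hodd
  have hns : ¬ IsScalar2 ((comp2SL t : SpecialLinearGroup (Fin 2) F) : Matrix (Fin 2) (Fin 2) F) := by
    rw [comp2SL_coe]; exact comp2_not_isScalar2 t 1
  have htr : ((comp2SL t : SpecialLinearGroup (Fin 2) F) : Matrix (Fin 2) (Fin 2) F).trace = t := by
    rw [comp2SL_coe, comp2_trace]
  have ht4 : ((comp2SL t : SpecialLinearGroup (Fin 2) F) : Matrix (Fin 2) (Fin 2) F).trace ^ 2 ≠ 4 := by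
    rw [htr]
    intro h
    exact ht (not_split_of_sq t h h2)
  have hcard : Nat.card (Subgroup.centralizer ({comp2SL t} : Set (SpecialLinearGroup (Fin 2) F))) = Fintype.card F + 1 := by
    apply card_centralizer_nonsplit_odd _ hns
    rw [htr]
    exact ht
  refine ⟨Subgroup.centralizer ({comp2SL t} : Set (SpecialLinearGroup (Fin 2) F)), isCyclic_nonsplit_torus h2 t ht, hcard,
    centralizer_centralizer _ hns, ?_, ?_, ?_, ?_, ?_⟩
  · intro g hg h1 hm1
    apply centralizer_eq_of_mem _ hns g hg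
    intro hs
    rcases scalar_cases g hs with h | h
    · exact h1 h
    · exact hm1 h
  · intro g hg
    have hgs := nonsplit_of_no_eigenvector g hg
    obtain ⟨h', hh'T, hh'tr⟩ := exists_mem_torus_trace h2 t _ ht hgs
    have hg4 : (g : Matrix (Fin 2) (Fin 2) F).trace ^ 2 ≠ 4 := fun h => hgs (not_split_of_sq _ h h2)
    obtain ⟨c, hc⟩ := isConj_iff.1 (isConj_of_trace_eq g h' hh'tr hg4)
    exact ⟨c, by rw [hc]; exact hh'T⟩
  · rw [card_torus_normalizer h2 _ hns ht4, hcard]
  · rw [card_conjClasses_torus_normalizer h2 _ hns ht4, hcard]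
    obtain ⟨k, hk⟩ := hodd
    omega
  · intro g hg hgT
    exact inverting_sq _ hns g (not_mem_torus_inverting h2 _ hns ht4 g hg hgT)

end Cfsg.Agent.S2429
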