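import Cfsg.Statements.S2433
import Cfsg.Agent.Lib.Helper14.SL2Values
import Cfsg.Agent.Lib.Helper14.SL2Ind

set_option autoImplicit false
open Cfsg

namespace Cfsg.Agent.S2433

open Cfsg.Agent.Lib.Helper14 in
theorem scalar_value {F : Type*} [Field F] [Fintype F] [DecidableEq F] (α : MulChar F ℂ) (g : Matrix.SpecialLinearGroup (Fin 2) F)
    (h01 : (g : Matrix (Fin 2) (Fin 2) F) 0 1 = 0) (h10 : (g : Matrix (Fin 2) (Fin 2) F) 1 0 = 0)
    (heq : (g : Matrix (Fin 2) (Fin 2) F) 0 0 = (g : Matrix (Fin 2) (Fin 2) F) 1 1) :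
    res (ps α 1) g = ((Fintype.card F : ℂ) + 1) * α ((g : Matrix (Fin 2) (Fin 2) F) 0 0) := by
  have hdet := SL_det_eq g
  rw [h01, zero_mul, sub_zero] at hdet
  have h0 : (g : Matrix (Fin 2) (Fin 2) F) 0 0 ≠ 0 := by
    intro h; rw [h, zero_mul] at hdet; exact zero_ne_one hdet
  have h1 : (g : Matrix (Fin 2) (Fin 2) F) 1 1 ≠ 0 := by
    intro h; rw [h, mul_zero] at hdet; exact zero_ne_one hdet
  unfold res ps
  rw [indTheta_apply, toGL_coe, if_pos h01, h01, h10, ← heq]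
  simp only [zero_mul, add_zero, mul_zero, sub_zero, zero_add]
  have hs : ∀ s : F, (g : Matrix (Fin 2) (Fin 2) F) 0 0 * s - s * (g : Matrix (Fin 2) (Fin 2) F) 0 0 = 0 := by
    intro s; ring
  simp only [hs, if_true, MulChar.one_apply (isUnit_iff_ne_zero.mpr h0), mul_one, Finset.sum_const,
    Finset.card_univ, nsmul_eq_mul]
  ring

/-- Let F be a finite field with q elements, q odd, α a multiplicative character of F, and R(α) the function on SL₂ induced from the linear character b ↦ α(b₁₁) of the upper triangular subgroup. Then R(α) takes the value α(a) + α(a⁻¹) at a diagonal element with entries a, a⁻¹, a² ≠ 1; the value 0 at every element with no eigenvector in F²; the value α(ε) at an upper triangular element with both diagonal entries ε and non-zero upper right entry; and the value (q + 1)α(ε) at the scalar element ε (ε = ±1). -/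
theorem result {F : Type*} [Field F] [Fintype F] [DecidableEq F] (hodd : Odd (Fintype.card F)) (α : MulChar F ℂ) (g : Matrix.SpecialLinearGroup (Fin 2) F) :
    ((g : Matrix (Fin 2) (Fin 2) F) 0 1 = 0 → (g : Matrix (Fin 2) (Fin 2) F) 1 0 = 0 → (g : Matrix (Fin 2) (Fin 2) F) 0 0 ^ 2 ≠ 1 →
      (Cfsg.indFun ((Cfsg.upperTriangularGL 2 F).comap Matrix.SpecialLinearGroup.toGL) (fun b => α (((b : Matrix.SpecialLinearGroup (Fin 2) F) : Matrix (Fin 2) (Fin 2) F) 0 0))) g = α ((g : Matrix (Fin 2) (Fin 2) F) 0 0) + α ((g : Matrix (Fin 2) (Fin 2) F) 1 1)) ∧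
    ((∀ (c : F) (v : Fin 2 → F), v ≠ 0 → (g : Matrix (Fin 2) (Fin 2) F).mulVec v ≠ c • v) → (Cfsg.indFun ((Cfsg.upperTriangularGL 2 F).comap Matrix.SpecialLinearGroup.toGL) (fun b => α (((b : Matrix.SpecialLinearGroup (Fin 2) F) : Matrix (Fin 2) (Fin 2) F) 0 0))) g = 0) ∧
    ((g : Matrix (Fin 2) (Fin 2) F) 1 0 = 0 → (g : Matrix (Fin 2) (Fin 2) F) 0 0 = (g : Matrix (Fin 2) (Fin 2) F) 1 1 → (g : Matrix (Fin 2) (Fin 2) F) 0 1 ≠ 0 →
      (Cfsg.indFun ((Cfsg.upperTriangularGL 2 F).comap Matrix.SpecialLinearGroup.toGL) (fun b => α (((b : Matrix.SpecialLinearGroup (Fin 2) F) : Matrix (Fin 2) (Fin 2) F) 0 0))) g = α ((g : Matrix (Fin 2) (Fin 2) F) 0 0)) ∧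
    ((g : Matrix (Fin 2) (Fin 2) F) 0 1 = 0 → (g : Matrix (Fin 2) (Fin 2) F) 1 0 = 0 → (g : Matrix (Fin 2) (Fin 2) F) 0 0 = (g : Matrix (Fin 2) (Fin 2) F) 1 1 →
      (Cfsg.indFun ((Cfsg.upperTriangularGL 2 F).comap Matrix.SpecialLinearGroup.toGL) (fun b => α (((b : Matrix.SpecialLinearGroup (Fin 2) F) : Matrix (Fin 2) (Fin 2) F) 0 0))) g = ((Fintype.card F : ℂ) + 1) * α ((g : Matrix (Fin 2) (Fin 2) F) 0 0)) := by
  have key : Cfsg.indFun ((Cfsg.upperTriangularGL 2 F).comap Matrix.SpecialLinearGroup.toGL) (fun b => α (((b : Matrix.SpecialLinearGroup (Fin 2) F) : Matrix (Fin 2) (Fin 2) F) 0 0)) =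
      Cfsg.Agent.Lib.Helper14.res (Cfsg.Agent.Lib.Helper14.ps α 1) := Cfsg.Agent.Lib.Helper14.indFun_thetaSL α
  rw [key]
  have hdet := Cfsg.Agent.Lib.Helper14.SL_det_eq g
  refine ⟨?_, ?_, ?_, ?_⟩
  · intro h01 h10 hne
    rw [h01, zero_mul, sub_zero] at hdet
    have h0 : (g : Matrix (Fin 2) (Fin 2) F) 0 0 ≠ 0 := by
      intro h; rw [h, zero_mul] at hdet; exact zero_ne_one hdet
    have h1 : (g : Matrix (Fin 2) (Fin 2) F) 1 1 ≠ 0 := by
      intro h; rw [h, mul_zero] at hdet; exact zero_ne_one hdet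
    rw [Cfsg.Agent.Lib.Helper14.res_ps_diag α 1 g h01 h10 hne, MulChar.one_apply (isUnit_iff_ne_zero.mpr h0),
      MulChar.one_apply (isUnit_iff_ne_zero.mpr h1), mul_one, mul_one]
  · intro h
    exact Cfsg.Agent.Lib.Helper14.res_ps_elliptic α 1 g h
  · intro h10 heq h01
    rw [h10, mul_zero, sub_zero] at hdet
    have h1 : (g : Matrix (Fin 2) (Fin 2) F) 1 1 ≠ 0 := by
      intro h; rw [h, mul_zero] at hdet; exact zero_ne_one hdet
    rw [Cfsg.Agent.Lib.Helper14.res_ps_unip α 1 g h10 heq h01, MulChar.one_apply (isUnit_iff_ne_zero.mpr h1), mul_one]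
  · intro h01 h10 heq
    exact scalar_value α g h01 h10 heq

end Cfsg.Agent.S2433
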