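import Cfsg.Statements.S2434
import Cfsg.Agent.Lib.Helper14.SL2Cusp
import Cfsg.Agent.Lib.Helper14.SL2DegSetOdd
import Cfsg.Agent.S2299

set_option autoImplicit false
open Cfsg

namespace Cfsg.Agent.S2434

open Matrix Cfsg.Agent.Lib.Helper14 Cfsg.Agent.Lib.Helper2
open scoped ComplexConjugate

variable {F : Type*} [Field F] [Fintype F]

/-- A multiplicative character with prescribed sign at `-1`. -/
theorem exists_alpha (hodd : Odd (Fintype.card F)) (ε : ℂ) (hε : ε = 1 ∨ ε = -1) :
    ∃ α : MulChar F ℂ, α (-1) = ε := by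
  have h2 := two_ne_zero_of_odd hodd
  rcases hε with rfl | rfl
  · refine ⟨1, ?_⟩
    rw [MulChar.one_apply (isUnit_one.neg)]
  · have hne : (-1 : F) ≠ 1 := by
      intro h
      apply h2
      linear_combination -h
    obtain ⟨α, hα⟩ := MulChar.exists_apply_ne_one_of_hasEnoughRootsOfUnity F ℂ hne
    refine ⟨α, ?_⟩
    have hsq : α (-1) * α (-1) = 1 := by
      rw [← map_mul]
      simp
    have : (α (-1) - 1) * (α (-1) + 1) = 0 := by linear_combination hsq
    rcases mul_eq_zero.mp this with h | h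
    · exact absurd (sub_eq_zero.mp h) hα
    · exact eq_neg_of_add_eq_zero_left h

variable (C : Subgroup (SpecialLinearGroup (Fin 2) F))

omit [Fintype F] in
theorem theta_neg_cases (θ : C →* ℂˣ) (hneg : (-1 : SpecialLinearGroup (Fin 2) F) ∈ C) :
    ((θ ⟨-1, hneg⟩ : ℂˣ) : ℂ) = 1 ∨ ((θ ⟨-1, hneg⟩ : ℂˣ) : ℂ) = -1 := by
  have hnegsq : (⟨-1, hneg⟩ : C) * ⟨-1, hneg⟩ = 1 := by
    apply Subtype.ext
    show (-1 : SpecialLinearGroup (Fin 2) F) * -1 = 1
    simp
  have hsq : ((θ ⟨-1, hneg⟩ : ℂˣ) : ℂ) * ((θ ⟨-1, hneg⟩ : ℂˣ) : ℂ) = 1 := by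
    rw [← Units.val_mul, ← map_mul, hnegsq, map_one, Units.val_one]
  have : (((θ ⟨-1, hneg⟩ : ℂˣ) : ℂ) - 1) * (((θ ⟨-1, hneg⟩ : ℂˣ) : ℂ) + 1) = 0 := by
    linear_combination hsq
  rcases mul_eq_zero.mp this with h | h
  · left; exact sub_eq_zero.mp h
  · right; exact eq_neg_of_add_eq_zero_left h

/-- The chosen multiplicative character attached to `θ`. -/
noncomputable def alphaOf (hodd : Odd (Fintype.card F))
    (hneg : (-1 : SpecialLinearGroup (Fin 2) F) ∈ C) (θ : C →* ℂˣ) : MulChar F ℂ :=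
  Classical.choose (exists_alpha hodd _ (theta_neg_cases C θ hneg))

theorem alphaOf_spec (hodd : Odd (Fintype.card F))
    (hneg : (-1 : SpecialLinearGroup (Fin 2) F) ∈ C) (θ : C →* ℂˣ) :
    alphaOf C hodd hneg θ (-1) = ((θ ⟨-1, hneg⟩ : ℂˣ) : ℂ) :=
  Classical.choose_spec (exists_alpha hodd _ (theta_neg_cases C θ hneg))

/-- An abstract counting principle: a map with fibres of size at most two onto a small set is
surjective. -/
theorem surjective_of_fibres {A B : Type*} [Fintype A] [Fintype B] (Φ : A → B) (inv : A → A)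
    (hfib : ∀ a a' : A, Φ a = Φ a' → a = a' ∨ a = inv a')
    (hc : 2 * Fintype.card B ≤ Fintype.card A) : Function.Surjective Φ := by
  classical
  have h1 : (Finset.univ : Finset A).card ≤ 2 * ((Finset.univ : Finset A).image Φ).card := by
    apply Finset.card_le_mul_card_image
    intro b hb
    obtain ⟨a', -, rfl⟩ := Finset.mem_image.mp hb
    have hsub : (Finset.univ.filter fun x => Φ x = Φ a') ⊆ {a', inv a'} := by
      intro x hx
      rw [Finset.mem_filter] at hx
      rw [Finset.mem_insert, Finset.mem_singleton]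
      exact hfib x a' hx.2
    exact (Finset.card_le_card hsub).trans Finset.card_le_two
  rw [Finset.card_univ] at h1
  have h2 : ((Finset.univ : Finset A).image Φ).card ≤ Fintype.card B := Finset.card_le_univ _
  have h3 : ((Finset.univ : Finset A).image Φ) = Finset.univ := by
    apply Finset.eq_univ_of_card
    omega
  intro b
  have : b ∈ (Finset.univ : Finset A).image Φ := by rw [h3]; exact Finset.mem_univ b
  obtain ⟨a, -, rfl⟩ := Finset.mem_image.mp this
  exact ⟨a, rfl⟩

/-- There are at least `q - 1` homomorphisms `θ : C →* ℂˣ` with `θ² ≠ 1`. -/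
theorem card_theta_ge (hodd : Odd (Fintype.card F)) (hC : IsCyclic C)
    (hcard : Nat.card C = Fintype.card F + 1) :
    Fintype.card F - 1 ≤ Nat.card {θ : C →* ℂˣ // θ * θ ≠ 1} := by
  classical
  have h2 := two_ne_zero_of_odd hodd
  let _ : CommGroup C := IsCyclic.commGroup
  have : NeZero (Monoid.exponent C) := ⟨Monoid.exponent_ne_zero_of_finite⟩
  obtain ⟨e⟩ := CommGroup.monoidHom_mulEquiv_of_hasEnoughRootsOfUnity C ℂ
  have h1 : Nat.card {θ : C →* ℂˣ // θ * θ ≠ 1} = Nat.card {x : C // x * x ≠ 1} := by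
    apply Nat.card_congr
    refine Equiv.subtypeEquiv e.toEquiv ?_
    intro θ
    show θ * θ ≠ 1 ↔ e θ * e θ ≠ 1
    rw [← map_mul, Ne, Ne, MulEquiv.map_eq_one_iff]
  have : Fintype C := Fintype.ofFinite _
  rw [h1, Nat.card_eq_fintype_card, Fintype.card_subtype_compl, ← Nat.card_eq_fintype_card (α := C),
    hcard]
  have h3 : Fintype.card {x : C // x * x = 1} ≤ 2 := by
    rw [Fintype.card_subtype]
    have hneg := neg_one_mem_of_card hodd C hcard
    have hsub : (Finset.univ.filter fun x : C => x * x = 1) ⊆ {1, ⟨-1, hneg⟩} := by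
      intro x hx
      rw [Finset.mem_filter] at hx
      rw [Finset.mem_insert, Finset.mem_singleton]
      have hx' : (x : SpecialLinearGroup (Fin 2) F) * (x : SpecialLinearGroup (Fin 2) F) = 1 :=
        congrArg Subtype.val hx.2
      rcases eq_one_or_neg_one_of_mul_self h2 _ hx' with h | h
      · left; exact Subtype.ext h
      · right; exact Subtype.ext h
    exact (Finset.card_le_card hsub).trans Finset.card_le_two
  omega

section main

variable [DecidableEq F] (hodd : Odd (Fintype.card F)) (hC : IsCyclic C)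
  (hcard : Nat.card C = Fintype.card F + 1)

omit [Fintype F] [DecidableEq F] in
theorem ne_of_not_mem_center (c : SpecialLinearGroup (Fin 2) F)
    (hc : c ∉ Subgroup.center (SpecialLinearGroup (Fin 2) F)) : c ≠ 1 ∧ c ≠ -1 := by
  constructor
  · rintro rfl
    exact hc (Subgroup.one_mem _)
  · rintro rfl
    exact hc neg_one_mem_center_SL

omit [Fintype F] [DecidableEq F] in
theorem mul_self_ne_one_of_exists (θ : C →* ℂˣ) (h : ∃ c : C, θ c ^ 2 ≠ 1) : θ * θ ≠ 1 := by
  obtain ⟨c, hc⟩ := h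
  intro h1
  apply hc
  have := DFunLike.congr_fun h1 c
  rw [MonoidHom.mul_apply, MonoidHom.one_apply] at this
  rw [pow_two, this]

omit [Fintype F] [DecidableEq F] in
theorem exists_of_mul_self_ne_one (θ : C →* ℂˣ) (h : θ * θ ≠ 1) : ∃ c : C, θ c ^ 2 ≠ 1 := by
  by_contra hne
  apply h
  ext c
  have : θ c ^ 2 = 1 := by
    by_contra h1
    exact hne ⟨c, h1⟩
  rw [MonoidHom.mul_apply, MonoidHom.one_apply, ← pow_two, this]

include hodd hC hcard in
/-- The first half of the statement. -/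
theorem part_one (θ : C →* ℂˣ) (hθ : θ * θ ≠ 1) :
    ∃ χ : SpecialLinearGroup (Fin 2) F → ℂ,
      Cfsg.IsIrrCharacter (SpecialLinearGroup (Fin 2) F) χ ∧ χ 1 = (Fintype.card F : ℂ) - 1 ∧
      (∀ c : C, (c : SpecialLinearGroup (Fin 2) F) ∉
        Subgroup.center (SpecialLinearGroup (Fin 2) F) → χ c = -((θ c).val + (θ c)⁻¹.val)) ∧
      (∀ c : C, (c : SpecialLinearGroup (Fin 2) F) ∈
        Subgroup.center (SpecialLinearGroup (Fin 2) F) →
          ∀ g : SpecialLinearGroup (Fin 2) F,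
            χ ((c : SpecialLinearGroup (Fin 2) F) * g) = (θ c).val * χ g) ∧
      (∀ g : SpecialLinearGroup (Fin 2) F, (g : Matrix (Fin 2) (Fin 2) F) 0 1 = 0 →
        (g : Matrix (Fin 2) (Fin 2) F) 1 0 = 0 → (g : Matrix (Fin 2) (Fin 2) F) 0 0 ^ 2 ≠ 1 →
          χ g = 0) ∧
      (∀ g : SpecialLinearGroup (Fin 2) F, (g : Matrix (Fin 2) (Fin 2) F) 1 0 = 0 →
        (g : Matrix (Fin 2) (Fin 2) F) 0 0 = 1 → (g : Matrix (Fin 2) (Fin 2) F) 1 1 = 1 →
          (g : Matrix (Fin 2) (Fin 2) F) 0 1 ≠ 0 → χ g = -1) := by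
  have hneg := neg_one_mem_of_card hodd C hcard
  set α := alphaOf C hodd hneg θ with hα
  have hαs := alphaOf_spec C hodd hneg θ
  refine ⟨cuspFun C α θ, cuspFun_isIrrCharacter C hodd hcard hC α θ hneg hαs hθ,
    cuspFun_one C hcard α θ, ?_, ?_, ?_, ?_⟩
  · intro c hc
    obtain ⟨h1, h2⟩ := ne_of_not_mem_center _ hc
    rw [cuspFun_mem C hodd hcard hC α θ c h1 h2, map_inv]
  · intro c hc g
    rcases mem_center_SL2 _ hc with h | h
    · have : c = 1 := Subtype.ext h
      rw [h, this, one_mul, map_one, Units.val_one, one_mul]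
    · have : c = ⟨-1, hneg⟩ := Subtype.ext h
      rw [h, this]
      exact cuspFun_neg C α θ hneg hαs g
  · intro g _ h10 hne
    exact cuspFun_upper C hodd hcard α θ g h10 hne
  · intro g h10 h00 h11 h01
    exact cuspFun_unip C hodd hcard α θ g h10 h00 h11 h01

include hodd hC hcard in
/-- Two cuspidal characters coincide only for `θ' = θ^{±1}`. -/
theorem eq_or_eq_inv_of_cuspFun_eq (α α' : MulChar F ℂ) (θ θ' : C →* ℂˣ)
    (hneg : (-1 : SpecialLinearGroup (Fin 2) F) ∈ C)
    (hα : α (-1) = ((θ ⟨-1, hneg⟩ : ℂˣ) : ℂ)) (hα' : α' (-1) = ((θ' ⟨-1, hneg⟩ : ℂˣ) : ℂ))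
    (hθ' : θ' * θ' ≠ 1) (heq : cuspFun C α θ = cuspFun C α' θ') : θ = θ' ∨ θ = θ'⁻¹ := by
  classical
  have hq : 2 ≤ Fintype.card F := Fintype.one_lt_card
  have hq1 : ((Fintype.card F : ℂ) - 1) ≠ 0 := by
    have : (Fintype.card F : ℂ) ≠ 1 := by exact_mod_cast (by omega : Fintype.card F ≠ 1)
    exact sub_ne_zero.mpr this
  have hsign : θ ⟨-1, hneg⟩ = θ' ⟨-1, hneg⟩ := by
    have h1 := cuspFun_neg C α θ hneg hα 1
    have h2 := cuspFun_neg C α' θ' hneg hα' 1
    rw [cuspFun_one C hcard] at h1 h2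
    rw [heq, h2] at h1
    apply Units.ext
    exact (mul_right_cancel₀ hq1 h1).symm
  have hn := classInner_cuspFun C hodd hcard hC α α' θ θ' hneg hα hα' hsign
  have hn' := classInner_cuspFun C hodd hcard hC α' α' θ' θ' hneg hα' hα' rfl
  rw [heq] at hn
  rw [hn', if_pos (mul_inv_cancel θ'), if_neg hθ', add_zero] at hn
  by_cases h1 : θ * θ'⁻¹ = 1
  · left
    exact mul_inv_eq_one.mp h1
  · right
    rw [if_neg h1, zero_add] at hn
    by_cases h3 : θ * θ' = 1
    · ext c
      have := DFunLike.congr_fun h3 c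
      rw [MonoidHom.mul_apply, MonoidHom.one_apply] at this
      rw [MonoidHom.inv_apply, eq_inv_of_mul_eq_one_left this]
    · rw [if_neg h3] at hn
      exact absurd hn one_ne_zero

include hodd hC hcard in
/-- The second half of the statement. -/
theorem part_two (χ : SpecialLinearGroup (Fin 2) F → ℂ)
    (hχ : Cfsg.IsIrrCharacter (SpecialLinearGroup (Fin 2) F) χ)
    (hdeg : χ 1 = (Fintype.card F : ℂ) - 1) :
    ∃ θ : C →* ℂˣ, θ * θ ≠ 1 ∧
      ∀ c : C, (c : SpecialLinearGroup (Fin 2) F) ∉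
        Subgroup.center (SpecialLinearGroup (Fin 2) F) → χ c = -((θ c).val + (θ c)⁻¹.val) := by
  classical
  have hneg := neg_one_mem_of_card hodd C hcard
  have hge := card_theta_ge C hodd hC hcard
  have hq : 2 ≤ Fintype.card F := Fintype.one_lt_card
  have : NeZero (Monoid.exponent C) := ⟨Monoid.exponent_ne_zero_of_finite⟩
  by_cases h5 : 5 ≤ Fintype.card F
  · -- counting
    let A := {θ : C →* ℂˣ // θ * θ ≠ 1}
    let B := {χ : Cfsg.IrrCharacter (SpecialLinearGroup (Fin 2) F) //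
      (χ : SpecialLinearGroup (Fin 2) F → ℂ) 1 = (Fintype.card F : ℂ) - 1}
    have : Fintype A := Fintype.ofFinite _
    have : Fintype B := Fintype.ofFinite _
    let Φ : A → B := fun θ => ⟨⟨cuspFun C (alphaOf C hodd hneg θ.1) θ.1,
      cuspFun_isIrrCharacter C hodd hcard hC _ θ.1 hneg (alphaOf_spec C hodd hneg θ.1) θ.2⟩,
      cuspFun_one C hcard _ θ.1⟩
    let inv : A → A := fun θ => ⟨θ.1⁻¹, by
      intro h
      apply θ.2
      ext c
      have := DFunLike.congr_fun h c
      rw [MonoidHom.mul_apply, MonoidHom.inv_apply, MonoidHom.one_apply, ← mul_inv,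
        inv_eq_one] at this
      rw [MonoidHom.mul_apply, MonoidHom.one_apply, this]⟩
    have hsurj : Function.Surjective Φ := by
      apply surjective_of_fibres Φ inv
      · intro a a' h
        have h1 : cuspFun C (alphaOf C hodd hneg a.1) a.1 =
            cuspFun C (alphaOf C hodd hneg a'.1) a'.1 := by
          have := congrArg (fun b : B => ((b : Cfsg.IrrCharacter (SpecialLinearGroup (Fin 2) F)) :
            SpecialLinearGroup (Fin 2) F → ℂ)) h
          exact this
        rcases eq_or_eq_inv_of_cuspFun_eq C hodd hC hcard _ _ a.1 a'.1 hneg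
          (alphaOf_spec C hodd hneg a.1) (alphaOf_spec C hodd hneg a'.1) a'.2 h1 with h2 | h2
        · left; exact Subtype.ext h2
        · right; exact Subtype.ext h2
      · have hB : Fintype.card B = (Fintype.card F - 1) / 2 := by
          rw [← Nat.card_eq_fintype_card]
          exact ((Cfsg.Agent.S2299.result hodd).2 h5).2.2.2.1
        have hA : Fintype.card F - 1 ≤ Fintype.card A := by
          rw [← Nat.card_eq_fintype_card (α := A)]
          exact hge
        rw [hB]
        omega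
    obtain ⟨a, ha⟩ := hsurj ⟨⟨χ, hχ⟩, hdeg⟩
    refine ⟨a.1, a.2, ?_⟩
    intro c hc
    obtain ⟨h1, h2⟩ := ne_of_not_mem_center _ hc
    have h3 : cuspFun C (alphaOf C hodd hneg a.1) a.1 = χ := by
      have := congrArg (fun b : B => ((b : Cfsg.IrrCharacter (SpecialLinearGroup (Fin 2) F)) :
        SpecialLinearGroup (Fin 2) F → ℂ)) ha
      exact this
    rw [← h3, cuspFun_mem C hodd hcard hC _ a.1 c h1 h2, map_inv]
  · -- `q = 3`
    have hq3 : Fintype.card F = 3 := by
      obtain ⟨k, hk⟩ := hodd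
      omega
    have hne : Nonempty {θ : C →* ℂˣ // θ * θ ≠ 1} := by
      have : 0 < Nat.card {θ : C →* ℂˣ // θ * θ ≠ 1} := by omega
      exact (Nat.card_pos_iff.mp this).1
    obtain ⟨θ, hθ⟩ := hne
    refine ⟨θ, hθ, ?_⟩
    intro c hc
    obtain ⟨h1, h2⟩ := ne_of_not_mem_center _ hc
    have hell := isElliptic_of_mem hodd C hcard c c.2 h1 h2
    have hdeg2 : χ 1 = 2 := by
      rw [hdeg, hq3]
      norm_num
    have hX := cuspFun_isIrrCharacter C hodd hcard hC _ θ hneg (alphaOf_spec C hodd hneg θ) hθ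
    have hX1 : cuspFun C (alphaOf C hodd hneg θ) θ 1 = 2 := by
      rw [cuspFun_one C hcard, hq3]
      norm_num
    rw [irr_deg_two_elliptic hq3 hχ hdeg2 c hell, ← map_inv,
      ← cuspFun_mem C hodd hcard hC (alphaOf C hodd hneg θ) θ c h1 h2,
      irr_deg_two_elliptic hq3 hX hX1 c hell]

end main

/-- Let F be a finite field with q elements, q odd, and C a cyclic subgroup of order q + 1 of SL₂ over F (a non-split torus; it contains the centre). For every homomorphism θ from C to the non-zero complex numbers with θ² ≠ 1 there is an irreducible complex character χ of degree q − 1 such that χ(c) = −θ(c) − θ(c)⁻¹ for every non-central c in C, χ(zg) = θ(z)χ(g) for central z in C, χ vanishes at diagonal elements with entry a, a² ≠ 1, and χ takes the value −1 at every upper unitriangular element other than 1. Conversely every irreducible character of degree q − 1 has, for some such θ, the values −θ(c) − θ(c)⁻¹ at the non-central elements c of C (for q ≥ 5 these are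 exactly the cuspidal characters of degree q − 1). -/
theorem result {F : Type*} [Field F] [Fintype F] (hodd : Odd (Fintype.card F))
    (C : Subgroup (Matrix.SpecialLinearGroup (Fin 2) F)) (hC : IsCyclic C) (hcard : Nat.card C = Fintype.card F + 1) :
    (∀ θ : C →* ℂˣ, (∃ c : C, θ c ^ 2 ≠ 1) →
      ∃ χ : Matrix.SpecialLinearGroup (Fin 2) F → ℂ, Cfsg.IsIrrCharacter (Matrix.SpecialLinearGroup (Fin 2) F) χ ∧ χ 1 = (Fintype.card F : ℂ) - 1 ∧
        (∀ c : C, (c : Matrix.SpecialLinearGroup (Fin 2) F) ∉ Subgroup.center (Matrix.SpecialLinearGroup (Fin 2) F) → χ c = -((θ c).val + (θ c)⁻¹.val)) ∧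
        (∀ c : C, (c : Matrix.SpecialLinearGroup (Fin 2) F) ∈ Subgroup.center (Matrix.SpecialLinearGroup (Fin 2) F) → ∀ g : Matrix.SpecialLinearGroup (Fin 2) F, χ ((c : Matrix.SpecialLinearGroup (Fin 2) F) * g) = (θ c).val * χ g) ∧
        (∀ g : Matrix.SpecialLinearGroup (Fin 2) F, (g : Matrix (Fin 2) (Fin 2) F) 0 1 = 0 → (g : Matrix (Fin 2) (Fin 2) F) 1 0 = 0 → (g : Matrix (Fin 2) (Fin 2) F) 0 0 ^ 2 ≠ 1 → χ g = 0) ∧
        (∀ g : Matrix.SpecialLinearGroup (Fin 2) F, (g : Matrix (Fin 2) (Fin 2) F) 1 0 = 0 → (g : Matrix (Fin 2) (Fin 2) F) 0 0 = 1 → (g : Matrix (Fin 2) (Fin 2) F) 1 1 = 1 → (g : Matrix (Fin 2) (Fin 2) F) 0 1 ≠ 0 → χ g = -1)) ∧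
    (∀ χ : Matrix.SpecialLinearGroup (Fin 2) F → ℂ, Cfsg.IsIrrCharacter (Matrix.SpecialLinearGroup (Fin 2) F) χ → χ 1 = (Fintype.card F : ℂ) - 1 →
      ∃ θ : C →* ℂˣ, (∃ c : C, θ c ^ 2 ≠ 1) ∧
        ∀ c : C, (c : Matrix.SpecialLinearGroup (Fin 2) F) ∉ Subgroup.center (Matrix.SpecialLinearGroup (Fin 2) F) → χ c = -((θ c).val + (θ c)⁻¹.val)) := by
  classical
  refine ⟨?_, ?_⟩
  · intro θ hθ
    exact part_one C hodd hC hcard θ (mul_self_ne_one_of_exists C θ hθ)
  · intro χ hχ hdeg
    obtain ⟨θ, hθ, h⟩ := part_two C hodd hC hcard χ hχ hdeg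
    exact ⟨θ, exists_of_mul_self_ne_one C θ hθ, h⟩

end Cfsg.Agent.S2434
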