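import Cfsg.Statements.S2435
import Cfsg.Agent.Lib.Helper14.SL2CuspSum
import Cfsg.Agent.Lib.Helper14.SL2TorusCyc
import Cfsg.Agent.Lib.Helper25.Ortho2
import Cfsg.Agent.S2434
import Cfsg.Agent.S2322

set_option autoImplicit false
open Cfsg

namespace Cfsg.Agent.S2435

open Matrix Cfsg.Agent.Lib.Helper14 Cfsg.Agent.Lib.Helper2
open scoped ComplexConjugate

variable {F : Type*} [Field F] [Fintype F]

omit [Fintype F] in
/-- A multiplicative character of order two is `1` at the non-zero squares. -/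
theorem quad_apply_sq (δ : MulChar F ℂ) (hδ : δ ^ 2 = 1) (a : F) (ha : a ≠ 0) (hsq : IsSquare a) :
    δ a = 1 := by
  obtain ⟨b, rfl⟩ := hsq
  have hb : b ≠ 0 := by
    rintro rfl
    simp at ha
  have h1 : (δ ^ 2) b = 1 := by
    rw [hδ, MulChar.one_apply (isUnit_iff_ne_zero.mpr hb)]
  rw [MulChar.pow_apply' _ (by norm_num)] at h1
  rw [map_mul, ← pow_two, h1]

/-- A non-trivial multiplicative character of order two is `-1` at the non-squares. -/
theorem quad_apply_nonsq (δ : MulChar F ℂ) (hδ : δ ^ 2 = 1) (hδ1 : δ ≠ 1) (a : F)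
    (hsq : ¬ IsSquare a) : δ a = -1 := by
  have ha : a ≠ 0 := by
    rintro rfl
    exact hsq IsSquare.zero
  have h1 : (δ ^ 2) a = 1 := by
    rw [hδ, MulChar.one_apply (isUnit_iff_ne_zero.mpr ha)]
  rw [MulChar.pow_apply' _ (by norm_num)] at h1
  have h2 : (δ a - 1) * (δ a + 1) = 0 := by linear_combination h1
  rcases mul_eq_zero.mp h2 with h | h
  · exfalso
    apply hδ1
    apply MulChar.ext
    intro u
    rw [MulChar.one_apply_coe]
    by_cases hu : IsSquare (u : F)
    · exact quad_apply_sq δ hδ _ u.ne_zero hu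
    · have h3 := isSquare_mul_of_not_isSquare hsq hu
      have h4 := quad_apply_sq δ hδ _ (mul_ne_zero ha u.ne_zero) h3
      rw [map_mul, sub_eq_zero.mp h] at h4
      rw [one_mul] at h4
      exact h4
  · exact eq_neg_of_add_eq_zero_left h

/-- The first half of the statement. -/
theorem part_one [DecidableEq F] (hodd : Odd (Fintype.card F)) (hq : 5 ≤ Fintype.card F)
    (χ : SpecialLinearGroup (Fin 2) F → ℂ)
    (hχ : Cfsg.IsIrrCharacter (SpecialLinearGroup (Fin 2) F) χ) (g : SpecialLinearGroup (Fin 2) F)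
    (hdeg : χ 1 = (((Fintype.card F + 1) / 2 : ℕ) : ℂ))
    (h01 : (g : Matrix (Fin 2) (Fin 2) F) 0 1 = 0) (h10 : (g : Matrix (Fin 2) (Fin 2) F) 1 0 = 0)
    (hne : (g : Matrix (Fin 2) (Fin 2) F) 0 0 ^ 2 ≠ 1) :
    (IsSquare ((g : Matrix (Fin 2) (Fin 2) F) 0 0) → χ g = 1) ∧
      (¬ IsSquare ((g : Matrix (Fin 2) (Fin 2) F) 0 0) → χ g = -1) := by
  have h2 := two_ne_zero_of_odd hodd
  obtain ⟨k, hk⟩ := hodd
  have e1 : (Fintype.card F + 1) / 2 = k + 1 := by omega
  rw [e1] at hdeg
  have hdet := SL_det_eq g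
  rw [h01, zero_mul, sub_zero] at hdet
  set a := (g : Matrix (Fin 2) (Fin 2) F) 0 0 with ha
  set d := (g : Matrix (Fin 2) (Fin 2) F) 1 1 with hd
  have ha0 : a ≠ 0 := by
    intro h; rw [h, zero_mul] at hdet; exact zero_ne_one hdet
  have hd0 : d ≠ 0 := by
    intro h; rw [h, mul_zero] at hdet; exact zero_ne_one hdet
  have had : a ≠ d := by
    intro h
    apply hne
    rw [pow_two]
    nth_rewrite 2 [h]
    exact hdet
  rcases irrSL_cases hχ with h | h | ⟨δ, _, h⟩ | ⟨δ, θ', hδ, hδ1, hθ', _, hsum, _, x, hx⟩ |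
      ⟨χ', hc, h⟩ | ⟨χ', θ', hc, _, _, _, h, _⟩
  · exfalso
    rw [h] at hdeg
    have hdeg' : (1 : ℂ) = ((k + 1 : ℕ) : ℂ) := hdeg
    have : 1 = k + 1 := by exact_mod_cast hdeg'
    omega
  · exfalso
    rw [h, res_st_one] at hdeg
    have : Fintype.card F = k + 1 := by exact_mod_cast hdeg
    omega
  · exfalso
    rw [h, res_ps_one] at hdeg
    have : Fintype.card F + 1 = k + 1 := by exact_mod_cast hdeg
    omega
  · -- the two halves take the same value at `g`
    have hcf' := IsCharacter.isClassFunction (IsIrrCharacter.isCharacter hθ')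
    have hns : ¬ IsScalar2 (g : Matrix (Fin 2) (Fin 2) F) := fun hs => had hs.2.2
    have htr : (g : Matrix (Fin 2) (Fin 2) F).trace ^ 2 ≠ 4 := by
      rw [Matrix.trace_fin_two]
      intro h
      have : (a - d) ^ 2 = 0 := by linear_combination h - 4 * hdet
      exact had (sub_eq_zero.mp (pow_eq_zero_iff (two_ne_zero)|>.mp this))
    have h1 : χ g = θ' g := by
      have := congrFun hx g
      simp only [Function.comp_apply] at this
      obtain ⟨y, hy⟩ := isConj_iff.mp (isConj_conjSL x g hns htr)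
      calc χ g = θ' (conjSL x g) := this.symm
        _ = θ' (y * conjSL x g * y⁻¹) := (hcf' _ _).symm
        _ = θ' g := by rw [hy]
    have h3 := congrFun hsum g
    rw [res_ps_diag δ 1 g h01 h10 hne, Pi.add_apply, ← h1, ← ha, ← hd,
      MulChar.one_apply (isUnit_iff_ne_zero.mpr ha0), MulChar.one_apply (isUnit_iff_ne_zero.mpr hd0),
      mul_one, mul_one] at h3
    have hδd : δ d = δ a := by
      have h4 : δ a * δ d = 1 := by
        rw [← map_mul, hdet, map_one]
      have h5 : (δ ^ 2) a = 1 := by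
        rw [hδ, MulChar.one_apply (isUnit_iff_ne_zero.mpr ha0)]
      rw [MulChar.pow_apply' _ (by norm_num)] at h5
      have h6 : δ a ≠ 0 := by
        intro h
        rw [h, zero_mul] at h4
        exact zero_ne_one h4
      apply mul_left_cancel₀ h6
      rw [h4, ← pow_two, h5]
    rw [hδd] at h3
    have hval : χ g = δ a := by
      have : (2 : ℂ) * χ g = 2 * δ a := by linear_combination -h3
      exact mul_left_cancel₀ two_ne_zero this
    constructor
    · intro hsq
      rw [hval, quad_apply_sq δ hδ a ha0 hsq]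
    · intro hsq
      rw [hval, quad_apply_nonsq δ hδ hδ1 a hsq]
  · exfalso
    have hd' := res_cusp_one χ' hc
    rw [h, hdeg] at hd'
    have : ((k + 1 : ℕ) : ℂ) + 1 = Fintype.card F := by linear_combination hd'
    have : k + 1 + 1 = Fintype.card F := by exact_mod_cast this
    omega
  · exfalso
    rw [hdeg] at h
    have : 2 * ((k + 1 : ℕ) : ℂ) + 1 = Fintype.card F := by linear_combination h
    have : 2 * (k + 1) + 1 = Fintype.card F := by exact_mod_cast this
    omega

/-- Summation along a map all of whose fibres have exactly two elements. -/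
theorem sum_comp_two {A B : Type*} [Fintype A] [Fintype B] [DecidableEq B] (Φ : A → B)
    (hfib : ∀ b : B, (Finset.univ.filter fun a => Φ a = b).card ≤ 2)
    (hc : 2 * Fintype.card B ≤ Fintype.card A) (f : B → ℂ) :
    ∑ a : A, f (Φ a) = 2 * ∑ b : B, f b := by
  have h1 : Fintype.card A = ∑ b : B, (Finset.univ.filter fun a => Φ a = b).card := by
    rw [← Finset.card_univ]
    exact Finset.card_eq_sum_card_fiberwise (fun _ _ => Finset.mem_coe.mpr (Finset.mem_univ _))
  have h2 : ∑ b : B, (Finset.univ.filter fun a => Φ a = b).card = ∑ _b : B, 2 := by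
    apply le_antisymm (Finset.sum_le_sum fun b _ => hfib b)
    rw [Finset.sum_const, Finset.card_univ, smul_eq_mul, ← h1, mul_comm]
    exact hc
  have h3 := (Finset.sum_eq_sum_iff_of_le (fun b _ => hfib b)).mp h2
  rw [← Finset.sum_fiberwise' Finset.univ Φ f, Finset.mul_sum]
  apply Finset.sum_congr rfl
  intro b hb
  rw [Finset.sum_const, h3 b hb, nsmul_eq_mul]
  norm_num

section sums

variable [DecidableEq F] (hodd : Odd (Fintype.card F)) (hq : 5 ≤ Fintype.card F)
  (C : Subgroup (SpecialLinearGroup (Fin 2) F)) (hC : IsCyclic C)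
  (hcard : Nat.card C = Fintype.card F + 1)

include hodd hq hC hcard in
/-- The sum of the values at a non-central element of `C` of the irreducible characters of degree
`q - 1`. -/
theorem sum_deg_q_sub_one (θ₀ : C →* ℂˣ) (hθ₀ : θ₀ ≠ 1) (hθ₀sq : θ₀ * θ₀ = 1)
    (hall : ∀ θ : C →* ℂˣ, θ * θ = 1 → θ = 1 ∨ θ = θ₀) (c : C)
    (hc1 : (c : SpecialLinearGroup (Fin 2) F) ≠ 1) (hc2 : (c : SpecialLinearGroup (Fin 2) F) ≠ -1)
    [Fintype {χ : Cfsg.IrrCharacter (SpecialLinearGroup (Fin 2) F) //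
      (χ : SpecialLinearGroup (Fin 2) F → ℂ) 1 = (Fintype.card F : ℂ) - 1}] :
    ∑ b : {χ : Cfsg.IrrCharacter (SpecialLinearGroup (Fin 2) F) //
      (χ : SpecialLinearGroup (Fin 2) F → ℂ) 1 = (Fintype.card F : ℂ) - 1},
      ((b : Cfsg.IrrCharacter (SpecialLinearGroup (Fin 2) F)) :
        SpecialLinearGroup (Fin 2) F → ℂ) c = 1 + ((θ₀ c : ℂˣ) : ℂ) := by
  classical
  have hneg := neg_one_mem_of_card hodd C hcard
  have hge := Cfsg.Agent.S2434.card_theta_ge C hodd hC hcard
  have : NeZero (Monoid.exponent C) := ⟨Monoid.exponent_ne_zero_of_finite⟩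
  have : Fintype (C →* ℂˣ) := Fintype.ofFinite _
  let A := {θ : C →* ℂˣ // θ * θ ≠ 1}
  let B := {χ : Cfsg.IrrCharacter (SpecialLinearGroup (Fin 2) F) //
    (χ : SpecialLinearGroup (Fin 2) F → ℂ) 1 = (Fintype.card F : ℂ) - 1}
  let Φ : A → B := fun θ => ⟨⟨cuspFun C (Cfsg.Agent.S2434.alphaOf C hodd hneg θ.1) θ.1,
    cuspFun_isIrrCharacter C hodd hcard hC _ θ.1 hneg
      (Cfsg.Agent.S2434.alphaOf_spec C hodd hneg θ.1) θ.2⟩,
    cuspFun_one C hcard _ θ.1⟩
  let inv : A → A := fun θ => ⟨θ.1⁻¹, by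
    intro h
    apply θ.2
    ext c
    have := DFunLike.congr_fun h c
    rw [MonoidHom.mul_apply, MonoidHom.inv_apply, MonoidHom.one_apply, ← mul_inv,
      inv_eq_one] at this
    rw [MonoidHom.mul_apply, MonoidHom.one_apply, this]⟩
  have hfib : ∀ b : B, (Finset.univ.filter fun a => Φ a = b).card ≤ 2 := by
    intro b
    by_cases hb : ∃ a' : A, Φ a' = b
    · obtain ⟨a', rfl⟩ := hb
      have hsub : (Finset.univ.filter fun x => Φ x = Φ a') ⊆ {a', inv a'} := by
        intro x hx
        rw [Finset.mem_filter] at hx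
        rw [Finset.mem_insert, Finset.mem_singleton]
        have h1 : cuspFun C (Cfsg.Agent.S2434.alphaOf C hodd hneg x.1) x.1 =
            cuspFun C (Cfsg.Agent.S2434.alphaOf C hodd hneg a'.1) a'.1 := by
          have := congrArg (fun b : B => ((b : Cfsg.IrrCharacter (SpecialLinearGroup (Fin 2) F)) :
            SpecialLinearGroup (Fin 2) F → ℂ)) hx.2
          exact this
        rcases Cfsg.Agent.S2434.eq_or_eq_inv_of_cuspFun_eq C hodd hC hcard _ _ x.1 a'.1 hneg
          (Cfsg.Agent.S2434.alphaOf_spec C hodd hneg x.1)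
          (Cfsg.Agent.S2434.alphaOf_spec C hodd hneg a'.1) a'.2 h1 with h2 | h2
        · left; exact Subtype.ext h2
        · right; exact Subtype.ext h2
      exact (Finset.card_le_card hsub).trans Finset.card_le_two
    · have : (Finset.univ.filter fun a => Φ a = b) = ∅ := by
        apply Finset.filter_eq_empty_iff.mpr
        intro a _ ha
        exact hb ⟨a, ha⟩
      rw [this, Finset.card_empty]
      omega
  have hB : Fintype.card B = (Fintype.card F - 1) / 2 := by
    rw [← Nat.card_eq_fintype_card (α := B)]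
    exact ((Cfsg.Agent.S2299.result hodd).2 hq).2.2.2.1
  have hA : Fintype.card F - 1 ≤ Fintype.card A := by
    rw [← Nat.card_eq_fintype_card (α := A)]
    exact hge
  have hc : 2 * Fintype.card B ≤ Fintype.card A := by
    rw [hB]
    omega
  have key := sum_comp_two Φ hfib hc (fun b : B =>
    ((b : Cfsg.IrrCharacter (SpecialLinearGroup (Fin 2) F)) :
      SpecialLinearGroup (Fin 2) F → ℂ) c)
  have hval : ∀ a : A, ((Φ a : Cfsg.IrrCharacter (SpecialLinearGroup (Fin 2) F)) :
      SpecialLinearGroup (Fin 2) F → ℂ) c = -(((a.1 c : ℂˣ) : ℂ) + ((a.1 c⁻¹ : ℂˣ) : ℂ)) := by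
    intro a
    exact cuspFun_mem C hodd hcard hC _ a.1 c hc1 hc2
  simp only [hval] at key
  have hcne : c ≠ 1 := fun h => hc1 (by rw [h]; rfl)
  have hsum := sum_sq_ne_one C hC θ₀ hθ₀ hθ₀sq hall c hcne
  rw [Finset.sum_subtype (Finset.univ.filter fun θ : C →* ℂˣ => θ * θ ≠ 1) (p := fun θ => θ * θ ≠ 1)
    (fun x => by simp)] at hsum
  rw [Finset.sum_neg_distrib] at key
  have hsum' : ∑ a : A, (((a.1 c : ℂˣ) : ℂ) + ((a.1 c⁻¹ : ℂˣ) : ℂ)) =
      -2 - 2 * ((θ₀ c : ℂˣ) : ℂ) := hsum
  rw [hsum'] at key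
  have : (2 : ℂ) * ∑ b : B, ((b : Cfsg.IrrCharacter (SpecialLinearGroup (Fin 2) F)) :
      SpecialLinearGroup (Fin 2) F → ℂ) c = 2 * (1 + ((θ₀ c : ℂˣ) : ℂ)) := by
    rw [← key]
    ring
  exact mul_left_cancel₀ two_ne_zero this

end sums

/-- The natural degrees of the irreducible characters of `SL₂(q)`. -/
theorem irrDeg_cases (hodd : Odd (Fintype.card F))
    (χ : Cfsg.IrrCharacter (SpecialLinearGroup (Fin 2) F)) :
    irrDeg χ = 1 ∨ irrDeg χ = Fintype.card F ∨ irrDeg χ = Fintype.card F + 1 ∨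
      irrDeg χ = Fintype.card F - 1 ∨ irrDeg χ = (Fintype.card F + 1) / 2 ∨
      irrDeg χ = (Fintype.card F - 1) / 2 := by
  have hq2 : 2 ≤ Fintype.card F := Fintype.one_lt_card
  rcases (Cfsg.Agent.S2299.result hodd).1 χ.1 χ.2 with h | h | h | h | h | h
  · left
    exact (irrDeg_eq_iff χ 1).mpr (by rw [h]; simp)
  · right; left
    exact (irrDeg_eq_iff χ _).mpr h
  · right; right; left
    exact (irrDeg_eq_iff χ _).mpr (by rw [h]; push_cast; ring)
  · right; right; right; left
    exact (irrDeg_eq_iff χ _).mpr (by rw [h, Nat.cast_sub (by omega)]; simp)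
  · right; right; right; right; left
    exact (irrDeg_eq_iff χ _).mpr h
  · right; right; right; right; right
    exact (irrDeg_eq_iff χ _).mpr h

/-- Splitting the column orthogonality relation at an elliptic element according to the
degrees. -/
theorem sum_partition (hodd : Odd (Fintype.card F)) (hq : 5 ≤ Fintype.card F)
    (g : SpecialLinearGroup (Fin 2) F) (hell : IsElliptic g)
    [Fintype (Cfsg.IrrCharacter (SpecialLinearGroup (Fin 2) F))] :
    ∑ χ : Cfsg.IrrCharacter (SpecialLinearGroup (Fin 2) F),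
      (χ : SpecialLinearGroup (Fin 2) F → ℂ) 1 * (χ : SpecialLinearGroup (Fin 2) F → ℂ) g =
    ∑ χ ∈ Finset.univ.filter (fun χ : Cfsg.IrrCharacter (SpecialLinearGroup (Fin 2) F) =>
        irrDeg χ = 1),
      (χ : SpecialLinearGroup (Fin 2) F → ℂ) 1 * (χ : SpecialLinearGroup (Fin 2) F → ℂ) g +
    ∑ χ ∈ Finset.univ.filter (fun χ : Cfsg.IrrCharacter (SpecialLinearGroup (Fin 2) F) =>
        irrDeg χ = Fintype.card F),
      (χ : SpecialLinearGroup (Fin 2) F → ℂ) 1 * (χ : SpecialLinearGroup (Fin 2) F → ℂ) g +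
    ∑ χ ∈ Finset.univ.filter (fun χ : Cfsg.IrrCharacter (SpecialLinearGroup (Fin 2) F) =>
        irrDeg χ = Fintype.card F - 1),
      (χ : SpecialLinearGroup (Fin 2) F → ℂ) 1 * (χ : SpecialLinearGroup (Fin 2) F → ℂ) g +
    ∑ χ ∈ Finset.univ.filter (fun χ : Cfsg.IrrCharacter (SpecialLinearGroup (Fin 2) F) =>
        irrDeg χ = (Fintype.card F - 1) / 2),
      (χ : SpecialLinearGroup (Fin 2) F → ℂ) 1 * (χ : SpecialLinearGroup (Fin 2) F → ℂ) g := by
  classical
  obtain ⟨k, hk⟩ := hodd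
  simp only [Finset.sum_filter]
  rw [← Finset.sum_add_distrib, ← Finset.sum_add_distrib, ← Finset.sum_add_distrib]
  apply Finset.sum_congr rfl
  intro χ _
  have hn := irrDeg_cases ⟨k, hk⟩ χ
  have hz : (irrDeg χ = Fintype.card F + 1 ∨ irrDeg χ = (Fintype.card F + 1) / 2) →
      (χ : SpecialLinearGroup (Fin 2) F → ℂ) g = 0 := by
    intro h
    apply (Cfsg.Agent.S2322.result ⟨k, hk⟩ χ.1 χ.2 g).2 _ hell
    rcases h with h | h
    · left
      rw [(irrDeg_eq_iff χ _).mp h]
      push_cast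
      ring
    · right
      exact (irrDeg_eq_iff χ _).mp h
  rcases hn with h | h | h | h | h | h
  · rw [if_pos h, if_neg (by omega), if_neg (by omega), if_neg (by omega)]
    ring
  · rw [if_neg (by omega), if_pos h, if_neg (by omega), if_neg (by omega)]
    ring
  · rw [if_neg (by omega), if_neg (by omega), if_neg (by omega), if_neg (by omega),
      hz (Or.inl h)]
    ring
  · rw [if_neg (by omega), if_neg (by omega), if_pos h, if_neg (by omega)]
    ring
  · rw [if_neg (by omega), if_neg (by omega), if_neg (by omega), if_neg (by omega),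
      hz (Or.inr h)]
    ring
  · rw [if_neg (by omega), if_neg (by omega), if_neg (by omega), if_pos h]
    ring

theorem sum_filter_of_card_one {ι : Type*} [Fintype ι] (p : ι → Prop) [DecidablePred p]
    (f : ι → ℂ) (x : ι) (hx : p x) (hcard : (Finset.univ.filter p).card = 1) :
    ∑ i ∈ Finset.univ.filter p, f i = f x := by
  classical
  have : ({x} : Finset ι) = Finset.univ.filter p := by
    apply Finset.eq_of_subset_of_card_le
    · intro i hi
      rw [Finset.mem_singleton] at hi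
      rw [hi, Finset.mem_filter]
      exact ⟨Finset.mem_univ _, hx⟩
    · rw [hcard, Finset.card_singleton]
  rw [← this, Finset.sum_singleton]

theorem sum_filter_of_card_two {ι : Type*} [Fintype ι] (p : ι → Prop) [DecidablePred p]
    (f : ι → ℂ) (x y : ι) (hx : p x) (hy : p y) (hxy : x ≠ y)
    (hcard : (Finset.univ.filter p).card = 2) :
    ∑ i ∈ Finset.univ.filter p, f i = f x + f y := by
  classical
  have : ({x, y} : Finset ι) = Finset.univ.filter p := by
    apply Finset.eq_of_subset_of_card_le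
    · intro i hi
      rw [Finset.mem_insert, Finset.mem_singleton] at hi
      rw [Finset.mem_filter]
      rcases hi with rfl | rfl
      · exact ⟨Finset.mem_univ _, hx⟩
      · exact ⟨Finset.mem_univ _, hy⟩
    · rw [hcard, Finset.card_pair hxy]
  rw [← this, Finset.sum_pair hxy]

/-- The value of an irreducible character of degree `(q - 1) / 2` at an element `c ≠ ± 1` of a
cyclic subgroup `C` of order `q + 1`, in terms of the quadratic character of `C`. -/
theorem half_value [DecidableEq F] (hodd : Odd (Fintype.card F)) (hq : 5 ≤ Fintype.card F)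
    (C : Subgroup (SpecialLinearGroup (Fin 2) F)) (hC : IsCyclic C)
    (hcard : Nat.card C = Fintype.card F + 1)
    (θ₀ : C →* ℂˣ) (hθ₀ : θ₀ ≠ 1) (hθ₀sq : θ₀ * θ₀ = 1)
    (hall : ∀ θ : C →* ℂˣ, θ * θ = 1 → θ = 1 ∨ θ = θ₀) (c : C)
    (hc1 : (c : SpecialLinearGroup (Fin 2) F) ≠ 1) (hc2 : (c : SpecialLinearGroup (Fin 2) F) ≠ -1)
    (η : SpecialLinearGroup (Fin 2) F → ℂ)
    (hη : Cfsg.IsIrrCharacter (SpecialLinearGroup (Fin 2) F) η)
    (hdeg : η 1 = (((Fintype.card F - 1) / 2 : ℕ) : ℂ)) :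
    η c = -((θ₀ c : ℂˣ) : ℂ) := by
  classical
  have h2 := two_ne_zero_of_odd hodd
  have hell := isElliptic_of_mem hodd C hcard c c.2 hc1 hc2
  obtain ⟨k, hk⟩ := hodd
  have e2 : (Fintype.card F - 1) / 2 = k := by omega
  have hk2 : 2 ≤ k := by omega
  have : Fintype (Cfsg.IrrCharacter (SpecialLinearGroup (Fin 2) F)) := Fintype.ofFinite _
  -- the second character of degree `(q - 1) / 2`
  obtain ⟨η', hη', hne, hdeg', hval'⟩ : ∃ η' : SpecialLinearGroup (Fin 2) F → ℂ,
      Cfsg.IsIrrCharacter (SpecialLinearGroup (Fin 2) F) η' ∧ η' ≠ η ∧ η' 1 = η 1 ∧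
      η' (c : SpecialLinearGroup (Fin 2) F) = η c := by
    rw [e2] at hdeg
    rcases irrSL_cases hη with h | h | ⟨δ, _, h⟩ | ⟨δ, θ', _, _, _, _, _, h, _⟩ | ⟨χ', hc, h⟩ |
        ⟨χ', θ', hc, hθ', hne, hsum, h, x, hx⟩
    · exfalso
      rw [h] at hdeg
      have hdeg' : (1 : ℂ) = (k : ℂ) := hdeg
      have : 1 = k := by exact_mod_cast hdeg'
      omega
    · exfalso
      rw [h, res_st_one] at hdeg
      have : Fintype.card F = k := by exact_mod_cast hdeg
      omega
    · exfalso
      rw [h, res_ps_one] at hdeg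
      have : Fintype.card F + 1 = k := by exact_mod_cast hdeg
      omega
    · exfalso
      rw [hdeg] at h
      have : 2 * k = Fintype.card F + 1 := by exact_mod_cast h
      omega
    · exfalso
      have hd' := res_cusp_one χ' hc
      rw [h, hdeg] at hd'
      have : (k : ℂ) + 1 = Fintype.card F := by linear_combination hd'
      have : k + 1 = Fintype.card F := by exact_mod_cast this
      omega
    · refine ⟨θ', hθ', hne, ?_, ?_⟩
      · have h1 := congrFun hsum 1
        rw [res_cusp_one χ' hc, Pi.add_apply] at h1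
        linear_combination -h1 - h
      · have hcf' := IsCharacter.isClassFunction (IsIrrCharacter.isCharacter hθ')
        have := congrFun hx c
        simp only [Function.comp_apply] at this
        obtain ⟨y, hy⟩ := isConj_iff.mp
          (isConj_conjSL x c (elliptic_not_scalar _ hell) (elliptic_trace_sq_ne_four h2 _ hell))
        calc θ' (c : SpecialLinearGroup (Fin 2) F) = θ' (y * conjSL x c * y⁻¹) := by rw [hy]
          _ = θ' (conjSL x c) := hcf' _ _
          _ = η c := this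
  -- column orthogonality
  have hcne : (c : SpecialLinearGroup (Fin 2) F) ≠ 1 := hc1
  have h0 := Cfsg.Agent.Lib.Helper25.sum_degree_mul_char (c : SpecialLinearGroup (Fin 2) F) hcne
  rw [sum_partition ⟨k, hk⟩ hq _ hell] at h0
  obtain ⟨c1, c2, -, -, -, c6⟩ := (Cfsg.Agent.S2299.result ⟨k, hk⟩).2 hq
  rw [card_deg_eq 1 1 (by simp)] at c1
  rw [card_deg_eq (Fintype.card F) (Fintype.card F : ℂ) rfl] at c2
  rw [card_deg_eq ((Fintype.card F - 1) / 2) _ rfl] at c6
  -- the four sums
  have s1 := sum_filter_of_card_one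
    (fun χ : Cfsg.IrrCharacter (SpecialLinearGroup (Fin 2) F) => irrDeg χ = 1)
    (fun χ => (χ : SpecialLinearGroup (Fin 2) F → ℂ) 1 *
      (χ : SpecialLinearGroup (Fin 2) F → ℂ) (c : SpecialLinearGroup (Fin 2) F))
    ⟨fun _ => 1, one_isIrrCharacter _⟩ ((irrDeg_eq_iff _ 1).mpr (by simp)) c1
  have s2 := sum_filter_of_card_one
    (fun χ : Cfsg.IrrCharacter (SpecialLinearGroup (Fin 2) F) => irrDeg χ = Fintype.card F)
    (fun χ => (χ : SpecialLinearGroup (Fin 2) F → ℂ) 1 *
      (χ : SpecialLinearGroup (Fin 2) F → ℂ) (c : SpecialLinearGroup (Fin 2) F))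
    ⟨res (st (1 : MulChar F ℂ)), res_st_irr⟩ ((irrDeg_eq_iff _ _).mpr res_st_one) c2
  have s4 := sum_filter_of_card_two
    (fun χ : Cfsg.IrrCharacter (SpecialLinearGroup (Fin 2) F) =>
      irrDeg χ = (Fintype.card F - 1) / 2)
    (fun χ => (χ : SpecialLinearGroup (Fin 2) F → ℂ) 1 *
      (χ : SpecialLinearGroup (Fin 2) F → ℂ) (c : SpecialLinearGroup (Fin 2) F))
    ⟨η, hη⟩ ⟨η', hη'⟩ ((irrDeg_eq_iff _ _).mpr hdeg) ((irrDeg_eq_iff _ _).mpr (by show η' 1 = _; rw [hdeg', hdeg]))
    (fun h => hne (congrArg Subtype.val h).symm) c6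
  have s3 : ∑ χ ∈ Finset.univ.filter (fun χ : Cfsg.IrrCharacter (SpecialLinearGroup (Fin 2) F) =>
        irrDeg χ = Fintype.card F - 1),
      (χ : SpecialLinearGroup (Fin 2) F → ℂ) 1 *
        (χ : SpecialLinearGroup (Fin 2) F → ℂ) (c : SpecialLinearGroup (Fin 2) F) =
      ((Fintype.card F : ℂ) - 1) * (1 + ((θ₀ c : ℂˣ) : ℂ)) := by
    have hiff : ∀ χ : Cfsg.IrrCharacter (SpecialLinearGroup (Fin 2) F),
        χ ∈ Finset.univ.filter (fun χ : Cfsg.IrrCharacter (SpecialLinearGroup (Fin 2) F) =>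
          irrDeg χ = Fintype.card F - 1) ↔
        (χ : SpecialLinearGroup (Fin 2) F → ℂ) 1 = (Fintype.card F : ℂ) - 1 := by
      intro χ
      rw [Finset.mem_filter, irrDeg_eq_iff, Nat.cast_sub (by omega), Nat.cast_one]
      simp
    have : Fintype {χ : Cfsg.IrrCharacter (SpecialLinearGroup (Fin 2) F) //
      (χ : SpecialLinearGroup (Fin 2) F → ℂ) 1 = (Fintype.card F : ℂ) - 1} := Fintype.ofFinite _
    rw [← sum_deg_q_sub_one ⟨k, hk⟩ hq C hC hcard θ₀ hθ₀ hθ₀sq hall c hc1 hc2, Finset.mul_sum,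
      Finset.sum_subtype _ hiff]
    apply Finset.sum_congr rfl
    intro b _
    rw [b.2]
  rw [s1, s2, s3, s4] at h0
  simp only [res_st_one, res_st_elliptic _ hell] at h0
  rw [hval', hdeg', hdeg, e2] at h0
  have hk0 : (k : ℂ) ≠ 0 := by exact_mod_cast (by omega : k ≠ 0)
  have hq' : (Fintype.card F : ℂ) = 2 * k + 1 := by
    rw [hk]; push_cast; ring
  rw [hq'] at h0
  have : (2 * (k : ℂ)) * (η c + ((θ₀ c : ℂˣ) : ℂ)) = 0 := by linear_combination h0
  rcases mul_eq_zero.mp this with h | h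
  · exfalso
    rcases mul_eq_zero.mp h with h | h
    · norm_num at h
    · exact hk0 h
  · linear_combination h

/-- Let F be a finite field with q elements, q odd and q ≥ 5, and χ an irreducible complex character of SL₂ over F. If χ has degree (q + 1)/2, then at a diagonal element with entry a, a² ≠ 1, χ takes the value 1 when a is a square in F and −1 otherwise. If χ has degree (q − 1)/2, then at an element g with no eigenvector in F² (so g has order dividing q + 1), χ takes the value −1 when g raised to the power (q + 1)/2 is the identity and the value 1 otherwise. -/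
theorem result {F : Type*} [Field F] [Fintype F] (hodd : Odd (Fintype.card F)) (hq : 5 ≤ Fintype.card F)
    (χ : Matrix.SpecialLinearGroup (Fin 2) F → ℂ) (hχ : Cfsg.IsIrrCharacter (Matrix.SpecialLinearGroup (Fin 2) F) χ) (g : Matrix.SpecialLinearGroup (Fin 2) F) :
    (χ 1 = (((Fintype.card F + 1) / 2 : ℕ) : ℂ) → (g : Matrix (Fin 2) (Fin 2) F) 0 1 = 0 → (g : Matrix (Fin 2) (Fin 2) F) 1 0 = 0 → (g : Matrix (Fin 2) (Fin 2) F) 0 0 ^ 2 ≠ 1 →
      (IsSquare ((g : Matrix (Fin 2) (Fin 2) F) 0 0) → χ g = 1) ∧ (¬ IsSquare ((g : Matrix (Fin 2) (Fin 2) F) 0 0) → χ g = -1)) ∧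
    (χ 1 = (((Fintype.card F - 1) / 2 : ℕ) : ℂ) → (∀ (c : F) (v : Fin 2 → F), v ≠ 0 → (g : Matrix (Fin 2) (Fin 2) F).mulVec v ≠ c • v) →
      (((g ^ ((Fintype.card F + 1) / 2)) : Matrix (Fin 2) (Fin 2) F) = 1 → χ g = -1) ∧ (((g ^ ((Fintype.card F + 1) / 2)) : Matrix (Fin 2) (Fin 2) F) ≠ 1 → χ g = 1)) := by
  classical
  refine ⟨fun hdeg h01 h10 hne => part_one hodd hq χ hχ g hdeg h01 h10 hne, ?_⟩
  intro hdeg hell
  have hell' : IsElliptic g := hell
  have hC := isCyclic_centralizer_of_isElliptic g hell'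
  have hcard := card_centralizer_of_isElliptic hodd g hell'
  have hgC : g ∈ Subgroup.centralizer ({g} : Set (Matrix.SpecialLinearGroup (Fin 2) F)) := by
    rw [Subgroup.mem_centralizer_iff]
    intro h hh
    rw [Set.mem_singleton_iff.mp hh]
  obtain ⟨θ₀, hθ₀, hθ₀sq, hall, hv1, hv2⟩ := exists_theta0 _ hodd hcard hC
  have hns := isElliptic_not_scalar g hell'
  have hg1 : g ≠ 1 := by
    rintro rfl
    apply hns
    refine ⟨?_, ?_, ?_⟩ <;> simp
  have hg2 : g ≠ -1 := by
    rintro rfl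
    apply hns
    refine ⟨?_, ?_, ?_⟩ <;> simp
  have hval := half_value hodd hq _ hC hcard θ₀ hθ₀ hθ₀sq hall ⟨g, hgC⟩ hg1 hg2 χ hχ hdeg
  have hval' : χ g = -((θ₀ ⟨g, hgC⟩ : ℂˣ) : ℂ) := hval
  constructor
  · intro hpow
    have : (⟨g, hgC⟩ : Subgroup.centralizer ({g} : Set (Matrix.SpecialLinearGroup (Fin 2) F))) ^
        ((Fintype.card F + 1) / 2) = 1 := by
      apply Subtype.ext
      apply Subtype.ext
      exact hpow
    rw [hval', hv1 _ this]
  · intro hpow
    have : (⟨g, hgC⟩ : Subgroup.centralizer ({g} : Set (Matrix.SpecialLinearGroup (Fin 2) F))) ^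
        ((Fintype.card F + 1) / 2) ≠ 1 := by
      intro h
      apply hpow
      have := congrArg (fun z : Subgroup.centralizer
        ({g} : Set (Matrix.SpecialLinearGroup (Fin 2) F)) =>
        ((z : Matrix.SpecialLinearGroup (Fin 2) F) : Matrix (Fin 2) (Fin 2) F)) h
      exact this
    rw [hval', hv2 _ this, neg_neg]

end Cfsg.Agent.S2435
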