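import Cfsg.Statements.S2438
import Cfsg.Agent.Lib.Helper14.SL2Irr
import Cfsg.Agent.Lib.Helper14.SL2Values
import Cfsg.Agent.Lib.Helper14.SL2Pair

set_option autoImplicit false
open Cfsg

namespace Cfsg.Agent.S2438

open Cfsg.Agent.Lib.Helper14 Cfsg.Agent.Lib.Helper2 Matrix

section aux
variable {F : Type*} [Field F] [Fintype F] [DecidableEq F]

omit [Fintype F] [DecidableEq F] in
theorem toGL_upperSL (c : F) : SpecialLinearGroup.toGL (upperSL 1 c (one_mul 1)) = uel c := by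
  apply Units.ext
  rw [toGL_coe, upperSL_coe]
  simp [uel]

theorem sum_U_eq (χ : SpecialLinearGroup (Fin 2) F → ℂ) :
    (∑ g : SpecialLinearGroup (Fin 2) F, if (g : Matrix (Fin 2) (Fin 2) F) 1 0 = 0 ∧ (g : Matrix (Fin 2) (Fin 2) F) 0 0 = 1 ∧
        (g : Matrix (Fin 2) (Fin 2) F) 1 1 = 1 then χ g else 0) =
      ∑ c : F, χ (upperSL 1 c (one_mul 1)) := by
  rw [← Finset.sum_filter]
  symm
  refine Finset.sum_bij (fun c _ => upperSL 1 c (one_mul 1)) ?_ ?_ ?_ ?_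
  · intro c _
    rw [Finset.mem_filter]
    refine ⟨Finset.mem_univ _, ?_⟩
    rw [upperSL_coe]
    simp
  · intro c _ c' _ h
    have h1 := congrArg (fun A : SpecialLinearGroup (Fin 2) F => (A : Matrix (Fin 2) (Fin 2) F) 0 1) h
    simpa using h1
  · intro g hg
    rw [Finset.mem_filter] at hg
    obtain ⟨-, h10, h00, h11⟩ := hg
    refine ⟨(g : Matrix (Fin 2) (Fin 2) F) 0 1, Finset.mem_univ _, ?_⟩
    apply Subtype.ext
    rw [upperSL_coe]
    apply mat2_ext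
    · rw [h00]; rfl
    · rfl
    · rw [h10]; rfl
    · rw [h11]; rfl
  · intro c _
    rfl

theorem sum_res_U (Φ : GL (Fin 2) F → ℂ) (hΦ : Cfsg.IsClassFunction (GL (Fin 2) F) Φ) :
    ∑ c : F, res Φ (upperSL 1 c (one_mul 1)) = Φ 1 + ((Fintype.card F : ℂ) - 1) * Φ (uel 1) := by
  rw [← sum_uel hΦ]
  apply Finset.sum_congr rfl
  intro c _
  unfold res
  rw [toGL_upperSL]

theorem sum_pair {θ θ' : SpecialLinearGroup (Fin 2) F → ℂ}
    (hθ' : Cfsg.IsIrrCharacter (SpecialLinearGroup (Fin 2) F) θ') (hne : θ' ≠ θ)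
    (x : GL (Fin 2) F) (hx : θ' ∘ conjSL x = θ) (hodd : Odd (Fintype.card F)) :
    ∑ c : F, θ (upperSL 1 c (one_mul 1)) = ∑ c : F, θ' (upperSL 1 c (one_mul 1)) := by
  have hchar : ringChar F ≠ 2 := by
    intro h
    have := FiniteField.even_card_of_char_two h
    rw [← Nat.not_even_iff_odd, Nat.even_iff] at hodd
    exact hodd this
  obtain ⟨a, ha⟩ := FiniteField.exists_nonsquare hchar
  have ha0 : a ≠ 0 := by
    rintro rfl
    exact ha ⟨0, by ring⟩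
  set ν : Fˣ := Units.mk0 a ha0 with hν
  rw [Finset.sum_congr rfl (fun c _ => pair_swap hθ' hne x hx ν (by simpa [hν] using ha) 1 c (one_mul 1))]
  exact Fintype.sum_equiv (Equiv.mulLeft₀ a ha0) _ _ (fun c => rfl)

end aux

theorem five (q : ℕ) (hq : 5 ≤ q) (hodd : Odd q) (d s : ℂ)
    (h : (d = (q : ℂ) + 1 ∧ s = 2 * (q : ℂ)) ∨ (d = (q : ℂ) ∧ s = (q : ℂ)) ∨ (d = (q : ℂ) - 1 ∧ s = 0) ∨
      (d = (((q + 1) / 2 : ℕ) : ℂ) ∧ s = (q : ℂ)) ∨ (d = (((q - 1) / 2 : ℕ) : ℂ) ∧ s = 0) ∨ d = 1) :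
    (d = (q : ℂ) + 1 → s = 2 * (q : ℂ)) ∧ (d = (q : ℂ) → s = (q : ℂ)) ∧ (d = (q : ℂ) - 1 → s = 0) ∧
      (d = (((q + 1) / 2 : ℕ) : ℂ) → s = (q : ℂ)) ∧ (d = (((q - 1) / 2 : ℕ) : ℂ) → s = 0) := by
  have e1 : (q : ℂ) + 1 = ((q + 1 : ℕ) : ℂ) := by push_cast; ring
  have e2 : (q : ℂ) - 1 = ((q - 1 : ℕ) : ℂ) := by
    rw [Nat.cast_sub (by omega)]; simp
  have e3 : (1 : ℂ) = ((1 : ℕ) : ℂ) := by simp
  obtain ⟨k, hk⟩ := hodd
  rw [e1, e2] at h ⊢
  have key : ∀ (n m : ℕ), d = (n : ℂ) → d = (m : ℂ) → n = m := by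
    intro n m h1 h2
    exact Nat.cast_injective (h1.symm.trans h2)
  rcases h with ⟨hd, hs⟩ | ⟨hd, hs⟩ | ⟨hd, hs⟩ | ⟨hd, hs⟩ | ⟨hd, hs⟩ | hd
  · refine ⟨fun _ => hs, fun h' => ?_, fun h' => ?_, fun h' => ?_, fun h' => ?_⟩ <;>
      · have := key _ _ hd h'; omega
  · refine ⟨fun h' => ?_, fun _ => hs, fun h' => ?_, fun h' => ?_, fun h' => ?_⟩ <;>
      · have := key _ _ hd h'; omega
  · refine ⟨fun h' => ?_, fun h' => ?_, fun _ => hs, fun h' => ?_, fun h' => ?_⟩ <;>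
      · have := key _ _ hd h'; omega
  · refine ⟨fun h' => ?_, fun h' => ?_, fun h' => ?_, fun _ => hs, fun h' => ?_⟩ <;>
      · have := key _ _ hd h'; omega
  · refine ⟨fun h' => ?_, fun h' => ?_, fun h' => ?_, fun h' => ?_, fun _ => hs⟩ <;>
      · have := key _ _ hd h'; omega
  · rw [e3] at hd
    refine ⟨fun h' => ?_, fun h' => ?_, fun h' => ?_, fun h' => ?_, fun h' => ?_⟩ <;>
      · have := key _ _ hd h'; omega

theorem half_of_two_mul (q : ℕ) (hodd : Odd q) (d : ℂ) :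
    (2 * d = (q : ℂ) + 1 → d = (((q + 1) / 2 : ℕ) : ℂ)) ∧ (2 * d = (q : ℂ) - 1 → d = (((q - 1) / 2 : ℕ) : ℂ)) := by
  obtain ⟨k, hk⟩ := hodd
  have h1 : (q + 1) / 2 = k + 1 := by omega
  have h2 : (q - 1) / 2 = k := by omega
  rw [h1, h2, hk]
  constructor
  · intro h
    push_cast at h ⊢
    linear_combination h / 2
  · intro h
    push_cast at h ⊢
    linear_combination h / 2

/-- Let F be a finite field with q elements, q odd, q ≥ 5, U the upper unitriangular subgroup of SL₂ over F, and χ an irreducible complex character. The sum of the values of χ over U equals 2q, q, 0, q, 0 according as the degree of χ is q + 1, q, q − 1, (q + 1)/2, (q − 1)/2; so among these five degrees the sum vanishes exactly for the degrees q − 1 and (q − 1)/2, i.e. the irreducible characters of those two degrees are the ones whose restriction to U does not contain the trivial character (the cuspidal characters), while those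 of degree q + 1, q and (q + 1)/2 are not cuspidal. -/
theorem result {F : Type*} [Field F] [Fintype F] [DecidableEq F] (hodd : Odd (Fintype.card F)) (hq : 5 ≤ Fintype.card F)
    (χ : Matrix.SpecialLinearGroup (Fin 2) F → ℂ) (hχ : Cfsg.IsIrrCharacter (Matrix.SpecialLinearGroup (Fin 2) F) χ) :
    (χ 1 = (Fintype.card F : ℂ) + 1 →
      (∑ g : Matrix.SpecialLinearGroup (Fin 2) F, if (g : Matrix (Fin 2) (Fin 2) F) 1 0 = 0 ∧ (g : Matrix (Fin 2) (Fin 2) F) 0 0 = 1 ∧ (g : Matrix (Fin 2) (Fin 2) F) 1 1 = 1 then χ g else 0) = 2 * (Fintype.card F : ℂ)) ∧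
    (χ 1 = (Fintype.card F : ℂ) →
      (∑ g : Matrix.SpecialLinearGroup (Fin 2) F, if (g : Matrix (Fin 2) (Fin 2) F) 1 0 = 0 ∧ (g : Matrix (Fin 2) (Fin 2) F) 0 0 = 1 ∧ (g : Matrix (Fin 2) (Fin 2) F) 1 1 = 1 then χ g else 0) = (Fintype.card F : ℂ)) ∧
    (χ 1 = (Fintype.card F : ℂ) - 1 →
      (∑ g : Matrix.SpecialLinearGroup (Fin 2) F, if (g : Matrix (Fin 2) (Fin 2) F) 1 0 = 0 ∧ (g : Matrix (Fin 2) (Fin 2) F) 0 0 = 1 ∧ (g : Matrix (Fin 2) (Fin 2) F) 1 1 = 1 then χ g else 0) = 0) ∧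
    (χ 1 = (((Fintype.card F + 1) / 2 : ℕ) : ℂ) →
      (∑ g : Matrix.SpecialLinearGroup (Fin 2) F, if (g : Matrix (Fin 2) (Fin 2) F) 1 0 = 0 ∧ (g : Matrix (Fin 2) (Fin 2) F) 0 0 = 1 ∧ (g : Matrix (Fin 2) (Fin 2) F) 1 1 = 1 then χ g else 0) = (Fintype.card F : ℂ)) ∧
    (χ 1 = (((Fintype.card F - 1) / 2 : ℕ) : ℂ) →
      (∑ g : Matrix.SpecialLinearGroup (Fin 2) F, if (g : Matrix (Fin 2) (Fin 2) F) 1 0 = 0 ∧ (g : Matrix (Fin 2) (Fin 2) F) 0 0 = 1 ∧ (g : Matrix (Fin 2) (Fin 2) F) 1 1 = 1 then χ g else 0) = 0) := by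
  rw [sum_U_eq χ]
  apply five (Fintype.card F) hq hodd
  have hpscf : ∀ α β : MulChar F ℂ, Cfsg.IsClassFunction (GL (Fin 2) F) (ps α β) := fun α β =>
    IsCharacter.isClassFunction (ps_isCharacter α β)
  rcases irrSL_cases hχ with h | h | ⟨δ, -, h⟩ | ⟨δ, θ', -, -, hθ', hne, hsum, hdeg, x, hx⟩ | ⟨Χ, hc, h⟩ |
      ⟨Χ, θ', hc, hθ', hne, hsum, hdeg, x, hx⟩
  · right; right; right; right; right
    rw [h]
  · right; left
    have hcf : Cfsg.IsClassFunction (GL (Fin 2) F) (st (1 : MulChar F ℂ)) :=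
      IsCharacter.isClassFunction (IsIrrCharacter.isCharacter (st_isIrrCharacter 1))
    rw [h, res_st_one, sum_res_U _ hcf, st_one, st_uel_one]
    exact ⟨rfl, by ring⟩
  · left
    rw [h, res_ps_one, sum_res_U _ (hpscf δ 1), ps_one, ps_uel_one]
    exact ⟨rfl, by ring⟩
  · right; right; right; left
    refine ⟨(half_of_two_mul _ hodd _).1 hdeg, ?_⟩
    have h1 := sum_res_U _ (hpscf δ 1)
    rw [hsum, ps_one, ps_uel_one] at h1
    simp only [Pi.add_apply, Finset.sum_add_distrib] at h1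
    rw [← sum_pair hθ' hne x hx hodd] at h1
    linear_combination h1 / 2
  · right; right; left
    have hcf : Cfsg.IsClassFunction (GL (Fin 2) F) (Χ : GL (Fin 2) F → ℂ) :=
      IsCharacter.isClassFunction (IsIrrCharacter.isCharacter Χ.2)
    rw [← h, res_cusp_one Χ hc, sum_res_U _ hcf, (cusp_main.1 Χ hc).1, (cusp_main.1 Χ hc).2]
    exact ⟨rfl, by ring⟩
  · right; right; right; right; left
    refine ⟨(half_of_two_mul _ hodd _).2 hdeg, ?_⟩
    have hcf : Cfsg.IsClassFunction (GL (Fin 2) F) (Χ : GL (Fin 2) F → ℂ) :=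
      IsCharacter.isClassFunction (IsIrrCharacter.isCharacter Χ.2)
    have h1 := sum_res_U _ hcf
    rw [hsum, (cusp_main.1 Χ hc).1, (cusp_main.1 Χ hc).2] at h1
    simp only [Pi.add_apply, Finset.sum_add_distrib] at h1
    rw [← sum_pair hθ' hne x hx hodd] at h1
    linear_combination h1 / 2

end Cfsg.Agent.S2438
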