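import Cfsg.Statements.S2459
import Cfsg.Agent.Lib.Helper15.Sour5

set_option autoImplicit false
open Cfsg

namespace Cfsg.Agent.S2459

open Cfsg.Agent.Lib.Helper15.Sour

/-- A form of Thompson's conjecture for PSL(3,q), q > 2 (covering the non-identity elements), with a semisimple class: for F a finite field of characteristic p with more than 2 elements there is an element x of PSL(3,F) of order prime to p such that every non-identity element of PSL(3,F) is a product of two conjugates of x. -/
theorem result {F : Type*} [Field F] [Fintype F] (p : ℕ) [Fact p.Prime] [CharP F p] (h3 : 3 ≤ Fintype.card F) :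
    ∃ x : Matrix.ProjectiveSpecialLinearGroup (Fin 3) F, ¬ p ∣ orderOf x ∧ ∀ g : Matrix.ProjectiveSpecialLinearGroup (Fin 3) F, g ≠ 1 → ∃ u v : Matrix.ProjectiveSpecialLinearGroup (Fin 3) F, g = (u * x * u⁻¹) * (v * x * v⁻¹) := by
  have hp : p.Prime := Fact.out
  obtain ⟨n, -, hcard⟩ := FiniteField.card F p
  have hpdvd : p ∣ Fintype.card F := by
    rw [hcard]
    exact dvd_pow_self p n.ne_zero
  by_cases h4 : 4 ≤ Fintype.card F
  · obtain ⟨x, hx, hcov⟩ := psl3_split (F := F) h4
    refine ⟨x, ?_, hcov⟩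
    intro hdvd
    have h1 : p ∣ Fintype.card F - 1 := hdvd.trans (orderOf_dvd_of_pow_eq_one hx)
    have h2 : p ∣ 1 := by
      have := Nat.dvd_sub hpdvd h1
      rwa [Nat.sub_sub_self (by omega)] at this
    exact hp.one_lt.ne' (Nat.dvd_one.mp h2)
  · have hc3 : Fintype.card F = 3 := by omega
    obtain ⟨x, hx, hcov⟩ := psl3_three (F := F) hc3
    refine ⟨x, ?_, hcov⟩
    intro hdvd
    have h1 : p ∣ 4 := hdvd.trans (orderOf_dvd_of_pow_eq_one hx)
    have h2 : p ∣ 3 := by rw [← hc3]; exact hpdvd
    have h3' : p ∣ 1 := by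
      have := Nat.dvd_sub h1 h2
      simpa using this
    exact hp.one_lt.ne' (Nat.dvd_one.mp h3')

end Cfsg.Agent.S2459
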