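import Cfsg.Statements.S2466
import Cfsg.Agent.Lib.Helper15.AltOrders

set_option autoImplicit false
open Cfsg

namespace Cfsg.Agent.S2466

open Cfsg.Agent.Lib.Helper15

/-- two distinct members of a multiset of naturals have sum at most the total sum -/
theorem add_le_sum_of_mem_of_ne {m : Multiset ℕ} {a b : ℕ} (ha : a ∈ m) (hb : b ∈ m) (hab : a ≠ b) :
    a + b ≤ m.sum := by
  obtain ⟨t, rfl⟩ := Multiset.exists_cons_of_mem ha
  have hb' : b ∈ t := by
    rcases Multiset.mem_cons.mp hb with h | h
    · exact absurd h.symm hab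
    · exact h
  obtain ⟨t', rfl⟩ := Multiset.exists_cons_of_mem hb'
  simp only [Multiset.sum_cons]
  omega

/-- Adjacency of odd primes in the prime graph of the alternating groups: let r ≠ s be odd primes at most n. The alternating group of degree n has an element of order r·s if and only if r + s ≤ n. -/
theorem result (n r s : ℕ) (hr : r.Prime) (hs : s.Prime) (hr2 : r ≠ 2) (hs2 : s ≠ 2) (hrs : r ≠ s) (hrn : r ≤ n) (hsn : s ≤ n) :
    (r * s ∈ Set.range (orderOf : alternatingGroup (Fin n) → ℕ)) ↔ r + s ≤ n := by
  rw [mem_range_orderOf_alt_iff]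
  have hcop : Nat.Coprime r s := (Nat.coprime_primes hr hs).mpr hrs
  have hrodd : Odd r := hr.odd_of_ne_two hr2
  have hsodd : Odd s := hs.odd_of_ne_two hs2
  constructor
  · rintro ⟨m, hsum, h2, -, hlcm⟩
    obtain ⟨a, ha, hra⟩ := exists_mem_dvd_of_prime_dvd_lcm hr m (hlcm ▸ Dvd.intro _ rfl)
    obtain ⟨b, hb, hsb⟩ := exists_mem_dvd_of_prime_dvd_lcm hs m (hlcm ▸ Dvd.intro_left _ rfl)
    have ha2 := h2 a ha
    have hb2 := h2 b hb
    by_cases hab : a = b
    · subst hab
      have h1 : r * s ∣ a := hcop.mul_dvd_of_dvd_of_dvd hra hsb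
      have h3 : r * s ≤ a := Nat.le_of_dvd (by omega) h1
      have h4 : a ≤ m.sum := Multiset.single_le_sum (fun _ _ => Nat.zero_le _) a ha
      have := hr.two_le
      have := hs.two_le
      nlinarith
    · have h1 := add_le_sum_of_mem_of_ne ha hb hab
      have h3 : r ≤ a := Nat.le_of_dvd (by omega) hra
      have h4 : s ≤ b := Nat.le_of_dvd (by omega) hsb
      omega
  · intro h
    refine ⟨{r, s}, ?_, ?_, ?_, ?_⟩
    · simpa using h
    · intro a ha
      simp only [Multiset.insert_eq_cons, Multiset.mem_cons, Multiset.mem_singleton] at ha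
      rcases ha with rfl | rfl
      · exact hr.two_le
      · exact hs.two_le
    · simp only [Multiset.insert_eq_cons, Multiset.sum_cons, Multiset.sum_singleton, Multiset.card_cons,
        Multiset.card_singleton]
      have : Even (r + s) := hrodd.add_odd hsodd
      exact this.add (by decide)
    · simp only [Multiset.insert_eq_cons, Multiset.lcm_cons, Multiset.lcm_singleton, normalize_eq]
      exact hcop.lcm_eq_mul

end Cfsg.Agent.S2466
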