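import Cfsg.Statements.S2467
import Cfsg.Agent.Lib.Helper15.AltOrders

set_option autoImplicit false
open Cfsg

namespace Cfsg.Agent.S2467

open Cfsg.Agent.Lib.Helper15

/-- Adjacency of 2 and an odd prime in the prime graph of the alternating groups: let r be an odd prime at most n, with n ≥ 4. The alternating group of degree n has an element of order 2r if and only if r + 4 ≤ n. -/
theorem result (n r : ℕ) (hn : 4 ≤ n) (hr : r.Prime) (hr2 : r ≠ 2) (hrn : r ≤ n) :
    (2 * r ∈ Set.range (orderOf : alternatingGroup (Fin n) → ℕ)) ↔ r + 4 ≤ n := by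
  rw [mem_range_orderOf_alt_iff]
  have hcop : Nat.Coprime r 2 := (Nat.coprime_primes hr Nat.prime_two).mpr hr2
  have hrodd : Odd r := hr.odd_of_ne_two hr2
  have hr2' := hr.two_le
  constructor
  · rintro ⟨m, hsum, h2, heven, hlcm⟩
    rw [even_sum_add_card_iff] at heven
    obtain ⟨a, ha, hra⟩ := exists_mem_dvd_of_prime_dvd_lcm hr m (hlcm ▸ Dvd.intro_left _ rfl)
    obtain ⟨b, hb, h2b⟩ := exists_mem_dvd_of_prime_dvd_lcm Nat.prime_two m (hlcm ▸ Dvd.intro _ rfl)
    have hbE : b ∈ m.filter (fun a => Even a) :=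
      Multiset.mem_filter.mpr ⟨hb, even_iff_two_dvd.mpr h2b⟩
    have hE1 : 0 < Multiset.card (m.filter (fun a => Even a)) := Multiset.card_pos_iff_exists_mem.mpr ⟨b, hbE⟩
    have hE2 : 2 ≤ Multiset.card (m.filter (fun a => Even a)) := by
      rcases heven with ⟨c, hc⟩
      omega
    have hsplit : m.sum = (m.filter (fun a => Even a)).sum + (m.filter (fun a => ¬ Even a)).sum := by
      rw [← Multiset.sum_add, Multiset.filter_add_not]
    have hEge : ∀ x ∈ m.filter (fun a => Even a), 2 ≤ x := fun x hx => h2 x (Multiset.mem_of_mem_filter hx)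
    have ha2 := h2 a ha
    by_cases hae : Even a
    · have haE : a ∈ m.filter (fun a => Even a) := Multiset.mem_filter.mpr ⟨ha, hae⟩
      obtain ⟨E', hE'⟩ := Multiset.exists_cons_of_mem haE
      have h2a : 2 ∣ a := even_iff_two_dvd.mp hae
      have h2ra : r * 2 ∣ a := hcop.mul_dvd_of_dvd_of_dvd hra h2a
      have h3 : r * 2 ≤ a := Nat.le_of_dvd (by omega) h2ra
      have hcard : 1 ≤ Multiset.card E' := by
        rw [hE', Multiset.card_cons] at hE2
        omega
      have hE'ge : ∀ x ∈ E', 2 ≤ x := fun x hx => hEge x (by rw [hE']; exact Multiset.mem_cons_of_mem hx)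
      have h4 := card_mul_le_sum E' 2 hE'ge
      have h5 : (m.filter (fun a => Even a)).sum = a + E'.sum := by rw [hE', Multiset.sum_cons]
      omega
    · have haO : a ∈ m.filter (fun a => ¬ Even a) := Multiset.mem_filter.mpr ⟨ha, hae⟩
      have h3 : a ≤ (m.filter (fun a => ¬ Even a)).sum :=
        Multiset.single_le_sum (fun _ _ => Nat.zero_le _) a haO
      have h4 := card_mul_le_sum _ 2 hEge
      have h5 : r ≤ a := Nat.le_of_dvd (by omega) hra
      omega
  · intro h
    refine ⟨{r, 2, 2}, ?_, ?_, ?_, ?_⟩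
    · simp only [Multiset.insert_eq_cons, Multiset.sum_cons, Multiset.sum_singleton]
      omega
    · intro a ha
      simp only [Multiset.insert_eq_cons, Multiset.mem_cons, Multiset.mem_singleton] at ha
      rcases ha with rfl | rfl | rfl
      · exact hr2'
      · exact le_refl 2
      · exact le_refl 2
    · simp only [Multiset.insert_eq_cons, Multiset.sum_cons, Multiset.sum_singleton, Multiset.card_cons,
        Multiset.card_singleton]
      rcases hrodd with ⟨c, hc⟩
      exact ⟨c + 4, by omega⟩
    · simp only [Multiset.insert_eq_cons, Multiset.lcm_cons, Multiset.lcm_singleton, normalize_eq]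
      show Nat.lcm r (Nat.lcm 2 2) = 2 * r
      rw [Nat.lcm_self, hcop.lcm_eq_mul, mul_comm]

end Cfsg.Agent.S2467
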