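import Cfsg.Statements.S2468
import Cfsg.Agent.Lib.Helper15.PGraph3

set_option autoImplicit false
open Cfsg

namespace Cfsg.Agent.S2468

open Cfsg.Agent.Lib.Helper15.PGraph

theorem cast_ne_zero_of_prime_ne {F : Type*} [Field F] (p : ℕ) [Fact p.Prime] [CharP F p]
    (r : ℕ) (hr : r.Prime) (hrp : r ≠ p) : (r : F) ≠ 0 := by
  intro h
  rw [CharP.cast_eq_zero_iff F p] at h
  rcases (Nat.dvd_prime hr).mp h with h1 | h1
  · exact (Fact.out : p.Prime).one_lt.ne' h1
  · exact hrp h1.symm

theorem coprime_of_two_le_orderOf (q r : ℕ) (hq : 0 < q) (hr : r.Prime)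
    (hk : 2 ≤ orderOf ((q : ℕ) : ZMod r)) : r.Coprime (q - 1) := by
  rw [Nat.Prime.coprime_iff_not_dvd hr]
  intro h
  have h1 := orderOf_dvd_of_dvd_pow_sub_one q r 1 hq (by rwa [pow_one])
  have := Nat.le_of_dvd one_pos h1
  omega

theorem toLin_pow {F : Type*} [Field F] {n : ℕ} (M : Matrix (Fin n) (Fin n) F) (j : ℕ) :
    (Matrix.toLin' M) ^ j = Matrix.toLin' (M ^ j) := by
  induction j with
  | zero => simp [Module.End.one_eq_id]
  | succ j ih => rw [pow_succ, pow_succ, Matrix.toLin'_mul, ih]; rfl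

/-- Adjacency of two odd primes in the prime graph of PSL(n,q): let F be a finite field of characteristic p with q elements, n ≥ 2 with PSL(n,F) simple, and let r ≠ s be odd primes different from p dividing the order of PSL(n,F). Let k and l be the multiplicative orders of q modulo r and modulo s, and suppose 2 ≤ k ≤ l. Then PSL(n,F) has NO element of order r·s if and only if k + l > n and k does not divide l. -/
theorem result {F : Type*} [Field F] [Fintype F] (p : ℕ) [Fact p.Prime] [CharP F p] (n : ℕ) (hn : 2 ≤ n) (hsmall : n = 2 → 4 ≤ Fintype.card F)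
    (r s : ℕ) (hr : r.Prime) (hs : s.Prime) (hr2 : r ≠ 2) (hs2 : s ≠ 2) (hrp : r ≠ p) (hsp : s ≠ p) (hrs : r ≠ s)
    (hrG : r ∣ Nat.card (Matrix.ProjectiveSpecialLinearGroup (Fin n) F)) (hsG : s ∣ Nat.card (Matrix.ProjectiveSpecialLinearGroup (Fin n) F))
    (k l : ℕ) (hk : k = orderOf ((Fintype.card F : ℕ) : ZMod r)) (hl : l = orderOf ((Fintype.card F : ℕ) : ZMod s))
    (h2k : 2 ≤ k) (hkl : k ≤ l) :
    (r * s ∉ Set.range (orderOf : Matrix.ProjectiveSpecialLinearGroup (Fin n) F → ℕ)) ↔ (n < k + l ∧ ¬ k ∣ l) := by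
  have hq : 0 < Fintype.card F := Fintype.card_pos
  have hrF : (r : F) ≠ 0 := cast_ne_zero_of_prime_ne p r hr hrp
  have hsF : (s : F) ≠ 0 := cast_ne_zero_of_prime_ne p s hs hsp
  have hrc : r.Coprime (Fintype.card F - 1) := coprime_of_two_le_orderOf _ r hq hr (hk ▸ h2k)
  have hsc : s.Coprime (Fintype.card F - 1) :=
    coprime_of_two_le_orderOf _ s hq hs (hl ▸ (h2k.trans hkl))
  have hrsc : (r * s).Coprime (Fintype.card F - 1) := Nat.Coprime.mul_left hrc hsc
  have hrs_cop : r.Coprime s := (Nat.coprime_primes hr hs).mpr hrs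
  have hfin : Module.finrank F (Fin n → F) = n := Module.finrank_fin_fun F
  -- `l ≤ n`, from `s ∣ |PSL_n(q)|`
  have hln : l ≤ n := by
    have : Fact s.Prime := ⟨hs⟩
    obtain ⟨x, hx⟩ := exists_prime_orderOf_dvd_card' s hsG
    obtain ⟨M, hM⟩ := exists_matrix_of_PSL_orderOf x s hx hsc
    have h1 : (Matrix.toLin' M) ^ s = 1 := by
      rw [toLin_pow, ← hM, pow_orderOf_eq_one, Matrix.toLin'_one]; rfl
    have h2 : Matrix.toLin' M ≠ 1 := by
      intro h
      have : M = 1 := by
        apply Matrix.toLin'.injective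
        rw [h, Matrix.toLin'_one]; rfl
      rw [this, orderOf_one] at hM
      exact hs.one_lt.ne hM
    have := orderOf_le_finrank_of_prime (Matrix.toLin' M) s hs hsF h1 h2
    rw [hfin, ← hl] at this
    exact this
  constructor
  · -- no element of order `r s` ⟹ the numerical condition (by contraposition: construct)
    intro hno
    by_contra hcon
    apply hno
    have hcases : k + l ≤ n ∨ k ∣ l := by
      by_contra h
      rw [not_or] at h
      exact hcon ⟨by omega, h.2⟩
    have hk0 : k ≠ 0 := by omega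
    have hl0 : l ≠ 0 := by omega
    rcases hcases with hsum | hdvd
    · obtain ⟨c, rfl⟩ : ∃ c, n = k + (l + c) := ⟨n - (k + l), by omega⟩
      obtain ⟨A, hA⟩ := exists_GL_orderOf (F := F) k hk0 r
        (by rw [hk]; exact dvd_pow_orderOf_sub_one _ _ hq)
      obtain ⟨B, hB⟩ := exists_GL_orderOf (F := F) l hl0 s
        (by rw [hl]; exact dvd_pow_orderOf_sub_one _ _ hq)
      have hdA := det_eq_one_of_coprime A r hA hrc
      have hdB := det_eq_one_of_coprime B s hB hsc
      set M : Matrix (Fin (k + (l + c))) (Fin (k + (l + c))) F :=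
        blk F k (l + c) ((A : Matrix (Fin k) (Fin k) F),
          blk F l c ((B : Matrix (Fin l) (Fin l) F), (1 : Matrix (Fin c) (Fin c) F))) with hMdef
      have hdet : M.det = 1 := by
        rw [hMdef, det_blk, det_blk]
        simp [hdA, hdB]
      have hord : orderOf M = r * s := by
        rw [hMdef, orderOf_blk, orderOf_blk]
        simp only [orderOf_one, Nat.lcm_one_right]
        rw [orderOf_units, orderOf_units, hA, hB]
        exact hrs_cop.lcm_eq_mul
      exact exists_PSL_orderOf M hdet (r * s) hord hrsc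
    · obtain ⟨c, rfl⟩ : ∃ c, n = l + c := ⟨n - l, by omega⟩
      have hdiv : r * s ∣ Fintype.card F ^ l - 1 := by
        apply hrs_cop.mul_dvd_of_dvd_of_dvd
        · obtain ⟨t, rfl⟩ := hdvd
          have h1 : r ∣ Fintype.card F ^ k - 1 := by
            rw [hk]; exact dvd_pow_orderOf_sub_one _ _ hq
          have h2 : Fintype.card F ^ k - 1 ∣ (Fintype.card F ^ k) ^ t - 1 ^ t :=
            Nat.sub_dvd_pow_sub_pow _ _ _
          rw [one_pow, ← pow_mul] at h2
          exact h1.trans h2
        · rw [hl]; exact dvd_pow_orderOf_sub_one _ _ hq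
      obtain ⟨A, hA⟩ := exists_GL_orderOf (F := F) l hl0 (r * s) hdiv
      have hdA := det_eq_one_of_coprime A (r * s) hA hrsc
      set M : Matrix (Fin (l + c)) (Fin (l + c)) F :=
        blk F l c ((A : Matrix (Fin l) (Fin l) F), (1 : Matrix (Fin c) (Fin c) F)) with hMdef
      have hdet : M.det = 1 := by
        rw [hMdef, det_blk]
        simp [hdA]
      have hord : orderOf M = r * s := by
        rw [hMdef, orderOf_blk]
        simp only [orderOf_one, Nat.lcm_one_right]
        rw [orderOf_units, hA]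
      exact exists_PSL_orderOf M hdet (r * s) hord hrsc
  · -- the numerical condition excludes elements of order `r s`
    rintro ⟨hnk, hndvd⟩ ⟨x, hx⟩
    obtain ⟨M, hM⟩ := exists_matrix_of_PSL_orderOf x (r * s) hx hrsc
    have h1 : (Matrix.toLin' M) ^ (r * s) = 1 := by
      rw [toLin_pow, ← hM, pow_orderOf_eq_one, Matrix.toLin'_one]; rfl
    have hne : ∀ j : ℕ, ¬ r * s ∣ j → (Matrix.toLin' M) ^ j ≠ 1 := by
      intro j hj h
      apply hj
      rw [← hM]
      apply orderOf_dvd_of_pow_eq_one
      apply Matrix.toLin'.injective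
      rw [← toLin_pow, h, Matrix.toLin'_one]; rfl
    have h2 : (Matrix.toLin' M) ^ r ≠ 1 := by
      apply hne
      intro h
      have : r * s ∣ r * 1 := by rwa [mul_one]
      have := Nat.dvd_of_mul_dvd_mul_left hr.pos this
      exact hs.one_lt.ne' (Nat.dvd_one.mp this)
    have h3 : (Matrix.toLin' M) ^ s ≠ 1 := by
      apply hne
      intro h
      have : r * s ∣ 1 * s := by rwa [one_mul]
      have := Nat.dvd_of_mul_dvd_mul_right hs.pos this
      exact hr.one_lt.ne' (Nat.dvd_one.mp this)
    have h4 := dims_of_order_mul (Matrix.toLin' M) r s hr hs hrF hsF h1 h2 h3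
    rw [hfin, ← hk, ← hl] at h4
    rcases h4 with h4 | ⟨d, hd0, hdn, hkd, hld⟩
    · omega
    · -- `lcm k l ∣ d`, and `lcm k l ≥ 2 l` as `k ∤ l`
      have h5 : Nat.lcm k l ∣ d := Nat.lcm_dvd hkd hld
      have h6 : l ∣ Nat.lcm k l := Nat.dvd_lcm_right k l
      obtain ⟨t, ht⟩ := h6
      have ht2 : 2 ≤ t := by
        by_contra hlt
        have : t = 0 ∨ t = 1 := by omega
        rcases this with rfl | rfl
        · rw [mul_zero] at ht
          have := Nat.lcm_pos (by omega : 0 < k) (by omega : 0 < l)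
          omega
        · rw [mul_one] at ht
          apply hndvd
          rw [← ht]
          exact Nat.dvd_lcm_left k l
      have h7 : Nat.lcm k l ≤ d := Nat.le_of_dvd hd0 h5
      have : 2 * l ≤ l * t := by nlinarith
      omega

end Cfsg.Agent.S2468
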