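import Cfsg.Statements.S2469
import Cfsg.Agent.Lib.Helper15.EigF6

set_option autoImplicit false
open Cfsg

namespace Cfsg.Agent.S2469

open Cfsg.Agent.Lib.Helper15.PGraph Cfsg.Agent.Lib.Helper15.Eig

/-- Adjacency of two odd primes in the prime graph of PSp(2n,q): let F be a finite field of characteristic p with q elements, n ≥ 2 with PSp(2n,F) simple, and let r ≠ s be odd primes different from p dividing the order of PSp(2n,F). Let k, l be the multiplicative orders of q modulo r and s, put η(m) = m for odd m and η(m) = m/2 for even m, and suppose η(k) ≤ η(l). Then PSp(2n,F) has NO element of order r·s if and only if η(k) + η(l) > n and l/k is not an odd integer. -/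
theorem result {F : Type*} [Field F] [Fintype F] (p : ℕ) [Fact p.Prime] [CharP F p] (n : ℕ) (hn : 2 ≤ n) (hsmall : n = 2 → 3 ≤ Fintype.card F)
    (r s : ℕ) (hr : r.Prime) (hs : s.Prime) (hr2 : r ≠ 2) (hs2 : s ≠ 2) (hrp : r ≠ p) (hsp : s ≠ p) (hrs : r ≠ s)
    (hrG : r ∣ Nat.card (Cfsg.PSp n F)) (hsG : s ∣ Nat.card (Cfsg.PSp n F))
    (k l ηk ηl : ℕ) (hk : k = orderOf ((Fintype.card F : ℕ) : ZMod r)) (hl : l = orderOf ((Fintype.card F : ℕ) : ZMod s))
    (hηk : (Odd k ∧ ηk = k) ∨ (Even k ∧ 2 * ηk = k)) (hηl : (Odd l ∧ ηl = l) ∨ (Even l ∧ 2 * ηl = l)) (hkl : ηk ≤ ηl) :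
    (r * s ∉ Set.range (orderOf : Cfsg.PSp n F → ℕ)) ↔ (n < ηk + ηl ∧ ¬ ∃ t : ℕ, Odd t ∧ l = k * t) := by
  have hp := (Fact.out : p.Prime)
  have hq : 0 < Fintype.card F := Fintype.card_pos
  have hcastne : ∀ e : ℕ, e.Prime → e ≠ p → (e : F) ≠ 0 := by
    intro e he hep h
    rw [CharP.cast_eq_zero_iff F p] at h
    rcases (Nat.dvd_prime he).mp h with h1 | h1
    · exact hp.one_lt.ne' h1
    · exact hep h1.symm
  have hrF := hcastne r hr hrp
  have hsF := hcastne s hs hsp
  have hqr := card_coprime_of_prime_ne (F := F) p r hr hrp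
  have hqs := card_coprime_of_prime_ne (F := F) p s hs hsp
  have hk0 : 0 < k := by rw [hk]; exact orderOf_zmod_pos _ r hqr hr.pos
  have hl0 : 0 < l := by rw [hl]; exact orderOf_zmod_pos _ s hqs hs.pos
  have hηk1 : 1 ≤ ηk := by rcases hηk with ⟨_, h⟩ | ⟨_, h⟩ <;> omega
  have hηl1 : 1 ≤ ηl := by rcases hηl with ⟨_, h⟩ | ⟨_, h⟩ <;> omega
  have hkη : k ∣ 2 * ηk := by
    rcases hηk with ⟨_, h⟩ | ⟨_, h⟩
    · rw [h]; exact dvd_mul_left _ _
    · rw [h]
  have hlη : l ∣ 2 * ηl := by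
    rcases hηl with ⟨_, h⟩ | ⟨_, h⟩
    · rw [h]; exact dvd_mul_left _ _
    · rw [h]
  have hrsodd : Odd (r * s) :=
    (hr.eq_two_or_odd'.resolve_left hr2).mul (hs.eq_two_or_odd'.resolve_left hs2)
  have hcop := coprime_gcd_two_of_odd (F := F) (r * s) hrsodd
  constructor
  · -- construct an element of order `r s` when the numerical condition fails
    intro hno
    by_contra hcon
    apply hno
    have hcases : ηk + ηl ≤ n ∨ ∃ t : ℕ, Odd t ∧ l = k * t := by
      by_contra h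
      rw [not_or] at h
      exact hcon ⟨by omega, h.2⟩
    rcases hcases with hsum | ⟨t, ht, hlt⟩
    · have : Fact r.Prime := ⟨hr⟩
      have : Fact s.Prime := ⟨hs⟩
      obtain ⟨a, ha⟩ := exists_prime_orderOf_dvd_card' r
        (dvd_card_symp_of_orderOf_dvd (F := F) r ηk hηk1 (hk ▸ hkη))
      obtain ⟨b, hb⟩ := exists_prime_orderOf_dvd_card' s
        (dvd_card_symp_of_orderOf_dvd (F := F) s ηl hηl1 (hl ▸ hlη))
      set c := spFinSum (F := F) ηk ηl (a, b) with hc
      have hco : orderOf c = r * s := by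
        rw [hc, orderOf_injective (spFinSum (F := F) ηk ηl) (spFinSum_injective ηk ηl),
          Prod.orderOf, ha, hb]
        exact ((Nat.coprime_primes hr hs).mpr hrs).lcm_eq_mul
      obtain ⟨m, rfl⟩ : ∃ m, n = (ηk + ηl) + m := ⟨n - (ηk + ηl), by omega⟩
      exact exists_PSp_orderOf_of_symp (ηk + ηl) m (by omega) c (r * s) hco hcop
    · have hηln : ηl ≤ n := eta_le_of_dvd_card p n s hs hsp hsG l ηl hl hηl
      obtain ⟨g, hg⟩ := exists_symp_orderOf_mul_of_odd_mul (F := F) p r s hr hs hrs k l ηl hk0 hl0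
        hk hl hηl t ht hlt
      obtain ⟨m, rfl⟩ : ∃ m, n = ηl + m := ⟨n - ηl, by omega⟩
      exact exists_PSp_orderOf_of_symp ηl m hηl1 g (r * s) hg hcop
  · -- no element of order `r s` under the numerical condition
    rintro ⟨hnlt, hnot⟩ ⟨x, hx⟩
    apply hnot
    obtain ⟨M, hM⟩ := exists_orderOf_eq_of_quotient
      (Subgroup.center (Matrix.symplecticGroup (Fin n) F)) (Nat.gcd 2 (Fintype.card F - 1)) (r * s)
      (fun z hz => symp_center_pow (by omega) z hz) hcop x hx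
    have key := symp_order_mul_bound n M r s hr hs hr2 hs2 hrs hrF hsF hqr hqs hM ηk ηl
      (hk ▸ hηk) (hl ▸ hηl)
    rw [← hk, ← hl] at key
    rcases key with h | ⟨⟨t, htr, hts⟩, h⟩ | h
    · omega
    · obtain ⟨a, ha, hka⟩ := exists_odd_of_pow_eq_neg_one r hr hr2 _ t htr
      obtain ⟨b, hb, hlb⟩ := exists_odd_of_pow_eq_neg_one s hs hs2 _ t hts
      rw [← hk] at hka
      rw [← hl] at hlb
      exact exists_odd_mul_of_selfdual k l ηk ηl n a b t hk0 hl0 hηk hηl hkl hnlt ha hb hka hlb h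
    · exact exists_odd_mul_of_not_selfdual k l ηk ηl n hk0 hl0 hηk hηl hkl hnlt h

end Cfsg.Agent.S2469
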