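import Cfsg.Statements.S2470
import Cfsg.Agent.Lib.Helper15.PGraph8

set_option autoImplicit false
open Cfsg

namespace Cfsg.Agent.S2470

open Cfsg.Agent.Lib.Helper15.PGraph

/-- Adjacency of an odd prime and the characteristic in the prime graph of PSL(n,q): let F be a finite field of characteristic p with q elements, n ≥ 2 with PSL(n,F) simple, and let r ≠ p be an odd prime dividing the order of PSL(n,F), with k the multiplicative order of q modulo r. Then PSL(n,F) has NO element of order r·p if and only if either k > n − 2, or n = 3, r = 3 and 3 divides q − 1 exactly once. -/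
theorem result {F : Type*} [Field F] [Fintype F] (p : ℕ) [Fact p.Prime] [CharP F p] (n : ℕ) (hn : 2 ≤ n) (hsmall : n = 2 → 4 ≤ Fintype.card F)
    (r : ℕ) (hr : r.Prime) (hr2 : r ≠ 2) (hrp : r ≠ p) (hrG : r ∣ Nat.card (Matrix.ProjectiveSpecialLinearGroup (Fin n) F))
    (k : ℕ) (hk : k = orderOf ((Fintype.card F : ℕ) : ZMod r)) :
    (r * p ∉ Set.range (orderOf : Matrix.ProjectiveSpecialLinearGroup (Fin n) F → ℕ)) ↔
      (n - 2 < k ∨ (n = 3 ∧ r = 3 ∧ 3 ∣ Fintype.card F - 1 ∧ ¬ 9 ∣ Fintype.card F - 1)) := by
  have hp := (Fact.out : p.Prime)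
  have hq : 0 < Fintype.card F := Fintype.card_pos
  have hrF : (r : F) ≠ 0 := by
    intro h
    rw [CharP.cast_eq_zero_iff F p] at h
    rcases (Nat.dvd_prime hr).mp h with h1 | h1
    · exact hp.one_lt.ne' h1
    · exact hrp h1.symm
  have : Fact r.Prime := ⟨hr⟩
  have hk1 : 1 ≤ k := by
    rw [hk]
    apply orderOf_pos_iff.mpr
    rw [isOfFinOrder_iff_pow_eq_one]
    refine ⟨r - 1, by have := hr.two_le; omega, ZMod.pow_card_sub_one_eq_one ?_⟩
    intro h
    rw [ZMod.natCast_eq_zero_iff] at h
    obtain ⟨m, _, hm⟩ := FiniteField.card F p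
    rw [hm] at h
    exact hrp ((Nat.prime_dvd_prime_iff_eq hr hp).mp (hr.dvd_of_dvd_pow h))
  have hfin : Module.finrank F (Fin n → F) = n := Module.finrank_fin_fun F
  have hn0 : n ≠ 0 := by omega
  constructor
  · -- no element of order `r p` ⟹ the numerical condition (contrapositive: construct)
    intro hno
    by_contra hcon
    rw [not_or] at hcon
    obtain ⟨hc1, hc2⟩ := hcon
    have hkn : k + 2 ≤ n := by omega
    apply hno
    rcases Nat.lt_or_ge k 2 with hk2 | hk2
    · have hk' : k = 1 := by omega
      have hrq : r ∣ Fintype.card F - 1 := by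
        have := dvd_pow_orderOf_sub_one (Fintype.card F) r hq
        rw [← hk, hk', pow_one] at this
        exact this
      obtain ⟨m, rfl⟩ : ∃ m, n = m + 3 := ⟨n - 3, by omega⟩
      by_cases hm : m = 0
      · subst hm
        by_cases hr3 : r = 3
        · subst hr3
          have h9 : 9 ∣ Fintype.card F - 1 := by
            by_contra h9
            exact hc2 ⟨rfl, rfl, hrq, h9⟩
          obtain ⟨a, ha0, hao⟩ := exists_orderOf_eq_of_dvd_card_sub_one (F := F) 9 h9
          apply exists_PSL_orderOf_mul_of_diag p 0 3 hr hrp a ha0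
          · have : 3 * 3 = orderOf a := by rw [hao]
            rw [this]
            exact pow_orderOf_eq_one a
          · intro h; exact absurd rfl h
          · intro _ h
            have := orderOf_dvd_of_pow_eq_one h
            rw [hao] at this
            omega
          · intro h; exact absurd rfl h
        · obtain ⟨a, ha0, hao⟩ := exists_orderOf_eq_of_dvd_card_sub_one (F := F) r hrq
          apply exists_PSL_orderOf_mul_of_diag p 0 r hr hrp a ha0
          · rw [mul_comm, pow_mul, ← hao, pow_orderOf_eq_one, one_pow]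
          · intro h; exact absurd rfl h
          · intro _ h
            have := orderOf_dvd_of_pow_eq_one h
            rw [hao] at this
            exact hr3 ((Nat.prime_dvd_prime_iff_eq hr Nat.prime_three).mp this)
          · intro h; exact absurd rfl h
      · obtain ⟨a, ha0, hao⟩ := exists_orderOf_eq_of_dvd_card_sub_one (F := F) r hrq
        have har : a ^ r = 1 := by rw [← hao, pow_orderOf_eq_one]
        apply exists_PSL_orderOf_mul_of_diag p m r hr hrp a ha0
        · rw [mul_comm, pow_mul, har, one_pow]
        · intro _; exact har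
        · intro h; exact absurd h hm
        · intro _ h
          rw [h, orderOf_one] at hao
          exact hr.one_lt.ne hao
    · obtain ⟨c, rfl⟩ : ∃ c, n = k + (2 + c) := ⟨n - (k + 2), by omega⟩
      exact exists_PSL_orderOf_mul_of_blk p k c r hr hrp hk hk2
  · -- the numerical condition excludes elements of order `r p`
    rintro hcond ⟨x, hx⟩
    rcases hcond with hnk | ⟨rfl, rfl, h3, h9⟩
    · rcases Nat.lt_or_ge k 2 with hk2 | hk2
      · have hn2 : n = 2 := by omega
        subst hn2
        obtain ⟨S, U, hSU, hUp, hU1, hSr, hS⟩ := exists_lift_of_PSL_orderOf_mul p x r hr hx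
        obtain ⟨s, u, hsu, hup, hu1, ⟨c, hc0, hcn, hsr⟩, hns, hdet⟩ :=
          exists_End_of_SL (by norm_num) S U r p hSU hUp hU1 hSr hS
        obtain ⟨a, ha⟩ := scalar_of_commute_unipotent_two p u s (Module.finrank_fin_fun F) hup hu1
          hsu r hr.ne_zero hrF c hc0 hsr
        exact hns a ha
      · have hrc : r.Coprime (Fintype.card F - 1) := by
          rw [Nat.Prime.coprime_iff_not_dvd hr]
          intro h
          have h1 := orderOf_dvd_of_dvd_pow_sub_one (Fintype.card F) r 1 hq (by rwa [pow_one])
          have := Nat.le_of_dvd one_pos h1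
          omega
        have hpc : p.Coprime (Fintype.card F - 1) := by
          rw [Nat.Prime.coprime_iff_not_dvd hp]
          exact not_dvd_card_sub_one (F := F) p
        have hrpc : (r * p).Coprime (Fintype.card F - 1) := Nat.Coprime.mul_left hrc hpc
        obtain ⟨M, hM⟩ := exists_matrix_of_PSL_orderOf x (r * p) hx hrpc
        set T := Matrix.toLin' M with hT
        have hne : ∀ j : ℕ, T ^ j = 1 → r * p ∣ j := by
          intro j h
          rw [← hM]
          apply orderOf_dvd_of_pow_eq_one
          apply Matrix.toLin'.injective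
          rw [← toLin'_pow_eq, h, Matrix.toLin'_one]; rfl
        have h1 : T ^ (r * p) = 1 := by
          rw [hT, toLin'_pow_eq, ← hM, pow_orderOf_eq_one, Matrix.toLin'_one]; rfl
        have hA : (T ^ p) ^ r = 1 := by rw [← pow_mul, mul_comm, h1]
        have hUp : (T ^ r) ^ p = 1 := by rw [← pow_mul, h1]
        have hA1 : T ^ p ≠ 1 := by
          intro h
          have h2 := hne p h
          have h3 : r * p ∣ 1 * p := by rwa [one_mul]
          have := Nat.dvd_of_mul_dvd_mul_right hp.pos h3
          exact hr.one_lt.ne' (Nat.dvd_one.mp this)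
        have hAU : Commute (T ^ p) (T ^ r) := Commute.pow_pow (Commute.refl T) _ _
        have hU := unipotent_eq_one_of_large_order p (T ^ p) (T ^ r) r hr hrF hA hA1 hUp hAU
          (hk ▸ hk2) (by rw [hfin, ← hk]; omega)
        have h2 := hne r hU
        have h3 : r * p ∣ r * 1 := by rwa [mul_one]
        have := Nat.dvd_of_mul_dvd_mul_left hr.pos h3
        exact hp.one_lt.ne' (Nat.dvd_one.mp this)
    · obtain ⟨S, U, hSU, hUp, hU1, hSr, hS⟩ := exists_lift_of_PSL_orderOf_mul p x 3 hr hx
      obtain ⟨s, u, hsu, hup, hu1, ⟨c, hc0, hcn, hsr⟩, hns, hdet⟩ :=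
        exists_End_of_SL (by norm_num) S U 3 p hSU hUp hU1 hSr hS
      obtain ⟨a, ha⟩ := scalar_of_commute_unipotent_three p u s hup hu1 hsu c hsr hcn hdet h3 h9
      exact hns a ha

end Cfsg.Agent.S2470
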