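import Cfsg.Statements.S2471
import Mathlib

set_option autoImplicit false
open Cfsg

namespace Cfsg.Agent.S2471

open Matrix

/-- Cayley–Hamilton for a 2×2 matrix of determinant one. -/
theorem sq_eq {F : Type*} [Field F] (M : Matrix (Fin 2) (Fin 2) F) (hdet : M.det = 1) :
    M * M = (M.trace) • M - 1 := by
  rw [Matrix.det_fin_two] at hdet
  ext i j
  fin_cases i <;> fin_cases j <;>
    simp [Matrix.mul_apply, Fin.sum_univ_two, Matrix.trace_fin_two] <;>
    first
      | ring1
      | linear_combination hdet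
      | linear_combination (-1 : F) * hdet
      | linear_combination (2 : F) * hdet
      | linear_combination (-2 : F) * hdet

/-- A power of an element of SL₂ whose matrix is a scalar matrix is central. -/
theorem mem_center_of_scalar {F : Type*} [Field F] (A : Matrix.SpecialLinearGroup (Fin 2) F) (r : F)
    (h : (A : Matrix (Fin 2) (Fin 2) F) = r • (1 : Matrix (Fin 2) (Fin 2) F)) :
    A ∈ Subgroup.center (Matrix.SpecialLinearGroup (Fin 2) F) := by
  rw [Matrix.SpecialLinearGroup.mem_center_iff]
  refine ⟨r, ?_, ?_⟩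
  · have hdet := A.2
    rw [h] at hdet
    simpa [Matrix.det_smul] using hdet
  · rw [h]
    ext i j
    simp [Matrix.scalar_apply, Matrix.diagonal_apply, Matrix.one_apply]

/-- In PSL(2,q) with q odd, the characteristic p is isolated from 2 in the prime graph: for F a finite field of odd characteristic p with at least 5 elements, PSL(2,F) has no element of order 2p. -/
theorem result {F : Type*} [Field F] [Fintype F] (p : ℕ) [Fact p.Prime] [CharP F p] (hp : p ≠ 2) (h5 : 5 ≤ Fintype.card F) (g : Matrix.ProjectiveSpecialLinearGroup (Fin 2) F) :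
    orderOf g ≠ 2 * p := by
  intro hord
  have hpp : p.Prime := Fact.out
  obtain ⟨A, rfl⟩ := QuotientGroup.mk_surjective g
  set M : Matrix (Fin 2) (Fin 2) F := (A : Matrix (Fin 2) (Fin 2) F) with hM
  have hdet : M.det = 1 := A.2
  have hsq := sq_eq M hdet
  -- key: a power of `A` with scalar matrix gives a trivial power of `g`
  have key : ∀ (k : ℕ) (r : F), M ^ k = r • (1 : Matrix (Fin 2) (Fin 2) F) →
      (QuotientGroup.mk A : Matrix.ProjectiveSpecialLinearGroup (Fin 2) F) ^ k = 1 := by
    intro k r hk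
    rw [← QuotientGroup.mk_pow, QuotientGroup.eq_one_iff]
    apply mem_center_of_scalar (A ^ k) r
    rw [Matrix.SpecialLinearGroup.coe_pow]
    exact hk
  have h2p : (QuotientGroup.mk A : Matrix.ProjectiveSpecialLinearGroup (Fin 2) F) ^ (2 * p) = 1 := by
    rw [← hord]; exact pow_orderOf_eq_one _
  -- `M^(2p)` is a scalar matrix
  have h2p' : A ^ (2 * p) ∈ Subgroup.center (Matrix.SpecialLinearGroup (Fin 2) F) := by
    rw [← QuotientGroup.mk_pow, QuotientGroup.eq_one_iff] at h2p
    exact h2p
  rw [Matrix.SpecialLinearGroup.mem_center_iff] at h2p'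
  obtain ⟨ε, -, hε⟩ := h2p'
  have hMε : M ^ (2 * p) = ε • (1 : Matrix (Fin 2) (Fin 2) F) := by
    have h1 : ((A ^ (2 * p) : Matrix.SpecialLinearGroup (Fin 2) F) : Matrix (Fin 2) (Fin 2) F) = M ^ (2 * p) := by
      rw [Matrix.SpecialLinearGroup.coe_pow]
    rw [← h1, ← hε]
    ext i j
    simp [Matrix.scalar_apply, Matrix.diagonal_apply, Matrix.one_apply]
  by_cases ht : M.trace = 0
  · -- trace zero: `M² = -1`, so `g² = 1`
    have h1 : M ^ 2 = (-1 : F) • (1 : Matrix (Fin 2) (Fin 2) F) := by
      rw [pow_two, hsq, ht]; simp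
    have h2 := key 2 (-1) h1
    have h3 : orderOf (QuotientGroup.mk A : Matrix.ProjectiveSpecialLinearGroup (Fin 2) F) ∣ 2 :=
      orderOf_dvd_of_pow_eq_one h2
    rw [hord] at h3
    have h4 : 2 * p ≤ 2 := Nat.le_of_dvd (by norm_num) h3
    have := hpp.two_le
    omega
  · -- trace nonzero
    have h1 : (M.trace) • M = M ^ 2 + 1 := by
      rw [pow_two, hsq]; abel
    have h2 : ((M.trace) • M) ^ p = (M ^ 2) ^ p + 1 := by
      rw [h1, add_pow_char_of_commute (p := p) (Commute.one_right _), one_pow]
    rw [smul_pow, ← pow_mul, hMε] at h2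
    have h3 : M ^ p = ((M.trace ^ p)⁻¹ * (ε + 1)) • (1 : Matrix (Fin 2) (Fin 2) F) := by
      have htp : M.trace ^ p ≠ 0 := pow_ne_zero _ ht
      have h4 : M ^ p = (M.trace ^ p)⁻¹ • ((M.trace ^ p) • M ^ p) := by
        rw [smul_smul, inv_mul_cancel₀ htp, one_smul]
      rw [h4, h2, mul_smul]
      congr 1
      rw [add_smul, one_smul]
    have h5' := key p _ h3
    have h6 : orderOf (QuotientGroup.mk A : Matrix.ProjectiveSpecialLinearGroup (Fin 2) F) ∣ p :=
      orderOf_dvd_of_pow_eq_one h5'
    rw [hord] at h6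
    have h7 : 2 * p ≤ p := Nat.le_of_dvd hpp.pos h6
    have := hpp.two_le
    omega

end Cfsg.Agent.S2471
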