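import Cfsg.Statements.S2472
import Cfsg.Agent.Lib.Helper15.PGraph10

set_option autoImplicit false
open Cfsg

namespace Cfsg.Agent.S2472

open Cfsg.Agent.Lib.Helper15.PGraph Cfsg.Agent.Lib.Helper15 Cfsg.Agent.Lib.Helper6

/-- Adjacency of an odd prime and the characteristic in the prime graph of PSp(2n,q): let F be a finite field of characteristic p with q elements, n ≥ 2 with PSp(2n,F) simple, r ≠ p an odd prime dividing the order of PSp(2n,F), k the multiplicative order of q modulo r and ηk = k for odd k, k/2 for even k. Then PSp(2n,F) has NO element of order r·p if and only if ηk > n − 1. -/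
theorem result {F : Type*} [Field F] [Fintype F] (p : ℕ) [Fact p.Prime] [CharP F p] (n : ℕ) (hn : 2 ≤ n) (hsmall : n = 2 → 3 ≤ Fintype.card F)
    (r : ℕ) (hr : r.Prime) (hr2 : r ≠ 2) (hrp : r ≠ p) (hrG : r ∣ Nat.card (Cfsg.PSp n F))
    (k ηk : ℕ) (hk : k = orderOf ((Fintype.card F : ℕ) : ZMod r)) (hηk : (Odd k ∧ ηk = k) ∨ (Even k ∧ 2 * ηk = k)) :
    (r * p ∉ Set.range (orderOf : Cfsg.PSp n F → ℕ)) ↔ n - 1 < ηk := by
  have hp := (Fact.out : p.Prime)
  have hq : 0 < Fintype.card F := Fintype.card_pos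
  have hrF : (r : F) ≠ 0 := by
    intro h
    rw [CharP.cast_eq_zero_iff F p] at h
    rcases (Nat.dvd_prime hr).mp h with h1 | h1
    · exact hp.one_lt.ne' h1
    · exact hrp h1.symm
  have : Fact r.Prime := ⟨hr⟩
  have hk1 : 1 ≤ k := by
    rw [hk]
    apply orderOf_pos_iff.mpr
    rw [isOfFinOrder_iff_pow_eq_one]
    refine ⟨r - 1, by have := hr.two_le; omega, ZMod.pow_card_sub_one_eq_one ?_⟩
    intro h
    rw [ZMod.natCast_eq_zero_iff] at h
    obtain ⟨m, _, hm⟩ := FiniteField.card F p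
    rw [hm] at h
    exact hrp ((Nat.prime_dvd_prime_iff_eq hr hp).mp (hr.dvd_of_dvd_pow h))
  have hη1 : 1 ≤ ηk := by
    rcases hηk with ⟨_, h⟩ | ⟨_, h⟩ <;> omega
  have hkη : k ∣ 2 * ηk := by
    rcases hηk with ⟨_, h⟩ | ⟨_, h⟩
    · rw [h]; exact dvd_mul_left _ _
    · rw [h]
  constructor
  · intro hno
    by_contra hcon
    apply hno
    obtain ⟨m, rfl⟩ : ∃ m, n = ηk + m := ⟨n - ηk, by omega⟩
    exact exists_PSp_orderOf_mul p r hr hr2 hrp ηk m hη1 (by omega) (hk ▸ hkη)
  · rintro hcond ⟨x, hx⟩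
    obtain ⟨M, hM⟩ := exists_orderOf_eq_of_quotient
      (Subgroup.center (Matrix.symplecticGroup (Fin n) F)) (Nat.gcd 2 (Fintype.card F - 1)) (r * p)
      (fun z hz => symp_center_pow (by omega) z hz) (coprime_gcd_two p r hr hr2) x hx
    set T := Matrix.toLin' (M : Matrix (Fin n ⊕ Fin n) (Fin n ⊕ Fin n) F) with hT
    have hTpow : ∀ j : ℕ, T ^ j
        = Matrix.toLin' ((M ^ j : Matrix.symplecticGroup (Fin n) F) :
          Matrix (Fin n ⊕ Fin n) (Fin n ⊕ Fin n) F) := by
      intro j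
      rw [hT, ← Matrix.toLin'_pow, SubmonoidClass.coe_pow]
    have hne : ∀ j : ℕ, T ^ j = 1 → r * p ∣ j := by
      intro j h
      rw [← hM]
      apply orderOf_dvd_of_pow_eq_one
      apply Subtype.ext
      apply Matrix.toLin'.injective
      rw [← hTpow, h, OneMemClass.coe_one, Matrix.toLin'_one]; rfl
    have hpres : ∀ (j : ℕ) (u v : Fin n ⊕ Fin n → F),
        stdSymp n F ((T ^ j) u) ((T ^ j) v) = stdSymp n F u v := by
      intro j u v
      rw [hTpow, Matrix.toLin'_apply, Matrix.toLin'_apply, stdSymp_apply, stdSymp_apply]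
      exact (mem_symplecticGroup_iff_preserves _).mp (M ^ j).2 u v
    have h1 : T ^ (r * p) = 1 := by
      rw [hTpow, ← hM, pow_orderOf_eq_one, OneMemClass.coe_one, Matrix.toLin'_one]; rfl
    have hA : (T ^ p) ^ r = 1 := by rw [← pow_mul, mul_comm, h1]
    have hUp : (T ^ r) ^ p = 1 := by rw [← pow_mul, h1]
    have hA1 : T ^ p ≠ 1 := by
      intro h
      have h2 := hne p h
      have h3 : r * p ∣ 1 * p := by rwa [one_mul]
      have := Nat.dvd_of_mul_dvd_mul_right hp.pos h3
      exact hr.one_lt.ne' (Nat.dvd_one.mp this)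
    have hAU : Commute (T ^ p) (T ^ r) := Commute.pow_pow (Commute.refl T) _ _
    have hfin : Module.finrank F (Fin n ⊕ Fin n → F) = 2 * n := by
      rw [Module.finrank_fintype_fun_eq_card, Fintype.card_sum, Fintype.card_fin]
      ring
    have hU : T ^ r = 1 := by
      rcases hηk with ⟨hodd, h⟩ | ⟨hev, h⟩
      · exact symp_unipotent_eq_one p (stdSymp n F) stdSymp_alt stdSymp_nondeg (T ^ p) (T ^ r)
          (hpres p) (hpres r) r hr hr2 hrF hA hA1 hUp hAU (hk ▸ hodd)
          (by rw [hfin, ← hk]; omega)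
      · have hk2 : 2 ≤ k := by
          rcases hev with ⟨t, ht⟩
          omega
        exact unipotent_eq_one_of_large_order p (T ^ p) (T ^ r) r hr hrF hA hA1 hUp hAU
          (hk ▸ hk2) (by rw [hfin, ← hk]; omega)
    have h2 := hne r hU
    have h3 : r * p ∣ r * 1 := by rwa [mul_one]
    have := Nat.dvd_of_mul_dvd_mul_left hr.pos h3
    exact hp.one_lt.ne' (Nat.dvd_one.mp this)

end Cfsg.Agent.S2472
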