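import Cfsg.Statements.S2474
import Cfsg.Agent.Lib.Helper15.BC15

set_option autoImplicit false
open Cfsg

namespace Cfsg.Agent.S2474

open Cfsg.Agent.Lib.Helper15.BC

/-- For q odd and n ≥ 3 the simple groups PΩ(2n+1,q) and PSp(2n,q) (which have the same order but different sets of element orders) have the same prime graph: for all distinct primes r, s, one of them has an element of order r·s if and only if the other does. -/
theorem result {F : Type*} [Field F] [Fintype F] (hodd : Odd (Fintype.card F)) (n : ℕ) (hn : 3 ≤ n) (r s : ℕ) (hr : r.Prime) (hs : s.Prime) (hrs : r ≠ s) :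
    (r * s ∈ Set.range (orderOf : Cfsg.POmega F (Cfsg.quadFormOdd n F) → ℕ)) ↔ (r * s ∈ Set.range (orderOf : Cfsg.PSp n F → ℕ)) := by
  obtain ⟨p, hchar⟩ := CharP.exists F
  have hp : p.Prime := by
    rcases CharP.char_is_prime_or_zero F p with h | h
    · exact h
    · exfalso
      subst h
      have : CharZero F := CharP.charP_to_charZero F
      exact not_finite F
  have : Fact p.Prime := ⟨hp⟩
  have h2 : (2 : F) ≠ 0 := two_ne_zero_of_odd hodd
  have hpo : Odd p := by
    apply odd_of_prime_ne_two hp
    rintro rfl
    apply h2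
    have := CharP.cast_eq_zero F 2
    exact_mod_cast this
  by_cases hs' : Odd s ∧ s ≠ p
  · exact ⟨fwd_oriented hodd p n hn r s hr hs hrs hs'.1 hs'.2,
      bwd_oriented hodd p n hn r s hr hs hrs hs'.1 hs'.2⟩
  · by_cases hr' : Odd r ∧ r ≠ p
    · rw [mul_comm r s]
      exact ⟨fwd_oriented hodd p n hn s r hs hr hrs.symm hr'.1 hr'.2,
        bwd_oriented hodd p n hn s r hs hr hrs.symm hr'.1 hr'.2⟩
    · -- both primes lie in `{2, p}`
      have key : ∀ t : ℕ, t.Prime → ¬ (Odd t ∧ t ≠ p) → t = 2 ∨ t = p := by
        intro t ht hnot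
        by_cases ht2 : t = 2
        · exact Or.inl ht2
        · right
          by_contra htp
          exact hnot ⟨odd_of_prime_ne_two ht ht2, htp⟩
      have h2p : (2 : ℕ) ≠ p := by
        rintro rfl
        exact absurd hpo (by decide)
      have hboth : r * s = 2 * p := by
        rcases key r hr hr' with rfl | rfl <;> rcases key s hs hs' with rfl | rfl
        · exact absurd rfl hrs
        · rfl
        · exact mul_comm _ _
        · exact absurd rfl hrs
      rw [hboth]
      exact ⟨fun _ => psp_two_p h2 p hpo n (by omega),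
        fun _ => pomega_two_p hodd p hpo n hn⟩

end Cfsg.Agent.S2474
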