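import Cfsg.Statements.S2477
import Cfsg.Agent.Lib.Helper15.AltOrders

set_option autoImplicit false
open Cfsg

namespace Cfsg.Agent.S2477

open Cfsg.Agent.Lib.Helper15

def S10 : List ℕ := [1,2,3,4,5,6,7,8,9,10,12,15,21]

set_option maxRecDepth 100000 in
theorem bigdecide : ∀ (c2 : Fin 6) (c3 : Fin 4) (c4 : Fin 3) (c5 : Fin 3) (c6 : Fin 2) (c7 : Fin 2) (c8 : Fin 2) (c9 : Fin 2) (c10 : Fin 2),
    c2.val * 2 + (c3.val * 3 + (c4.val * 4 + (c5.val * 5 + (c6.val * 6 + (c7.val * 7 + (c8.val * 8 + (c9.val * 9 + c10.val * 10))))))) ≤ 10 →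
    (c2.val * 2 + (c3.val * 3 + (c4.val * 4 + (c5.val * 5 + (c6.val * 6 + (c7.val * 7 + (c8.val * 8 + (c9.val * 9 + c10.val * 10))))))) + (c2.val + (c3.val + (c4.val + (c5.val + (c6.val + (c7.val + (c8.val + (c9.val + c10.val))))))))) % 2 = 0 →
    Nat.lcm (if c2.val = 0 then 1 else 2) (Nat.lcm (if c3.val = 0 then 1 else 3) (Nat.lcm (if c4.val = 0 then 1 else 4) (Nat.lcm (if c5.val = 0 then 1 else 5) (Nat.lcm (if c6.val = 0 then 1 else 6) (Nat.lcm (if c7.val = 0 then 1 else 7) (Nat.lcm (if c8.val = 0 then 1 else 8) (Nat.lcm (if c9.val = 0 then 1 else 9) (if c10.val = 0 then 1 else 10)))))))) ∈ S10 := by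
  decide +kernel

theorem icc_eq : Finset.Icc 2 10 = ({2,3,4,5,6,7,8,9,10} : Finset ℕ) := by decide

/-- the lcm of a multiset in terms of its counting function on a finite superset -/
theorem lcm_eq_finset_lcm (m : Multiset ℕ) (s : Finset ℕ) (hs : ∀ a ∈ m, a ∈ s) :
    m.lcm = s.lcm (fun i => if m.count i = 0 then 1 else i) := by
  apply Nat.dvd_antisymm
  · rw [Multiset.lcm_dvd]
    intro b hb
    have h1 : (fun i => if m.count i = 0 then 1 else i) b ∣ s.lcm (fun i => if m.count i = 0 then 1 else i) :=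
      Finset.dvd_lcm (hs b hb)
    have h2 : m.count b ≠ 0 := by
      rw [Ne, Multiset.count_eq_zero]; exact fun h => h hb
    simpa [h2] using h1
  · rw [Finset.lcm_dvd_iff]
    intro b _
    by_cases h : m.count b = 0
    · simp [h]
    · simp only [h, if_false]
      exact Multiset.dvd_lcm (Multiset.count_ne_zero.mp h)

theorem subset_part (m : Multiset ℕ) (hsum : m.sum ≤ 10) (h2 : ∀ a ∈ m, 2 ≤ a)
    (heven : Even (m.sum + Multiset.card m)) : m.lcm ∈ S10 := by
  have hs : ∀ a ∈ m, a ∈ Finset.Icc 2 10 := by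
    intro a ha
    rw [Finset.mem_Icc]
    exact ⟨h2 a ha, (Multiset.single_le_sum (fun _ _ => Nat.zero_le _) a ha).trans hsum⟩
  have ha : m.sum = ∑ i ∈ Finset.Icc 2 10, m.count i * i := by
    rw [Finset.sum_multiset_count_of_subset m (Finset.Icc 2 10)]
    · simp
    · intro a ha
      exact hs a (Multiset.mem_toFinset.mp ha)
  have hb : Multiset.card m = ∑ i ∈ Finset.Icc 2 10, m.count i := (Multiset.sum_count_eq_card hs).symm
  have hc := lcm_eq_finset_lcm m (Finset.Icc 2 10) hs
  rw [icc_eq] at ha hb hc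
  simp only [Finset.mem_insert, Finset.mem_singleton, Finset.sum_insert, Finset.sum_singleton,
    Finset.lcm_insert, Finset.lcm_singleton, normalize_eq, lcm_eq_nat_lcm,
    Nat.reduceEqDiff, or_self, not_false_eq_true] at ha hb hc
  rw [hc]
  rw [ha] at hsum
  rw [ha, hb, Nat.even_iff] at heven
  have := bigdecide ⟨m.count 2, by omega⟩ ⟨m.count 3, by omega⟩ ⟨m.count 4, by omega⟩ ⟨m.count 5, by omega⟩
    ⟨m.count 6, by omega⟩ ⟨m.count 7, by omega⟩ ⟨m.count 8, by omega⟩ ⟨m.count 9, by omega⟩
    ⟨m.count 10, by omega⟩ hsum heven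
  exact this

/-- The set of element orders of the alternating group of degree 10 is {1, 2, 3, 4, 5, 6, 7, 8, 9, 10, 12, 15, 21}. -/
theorem result : Set.range (orderOf : alternatingGroup (Fin 10) → ℕ) = {1, 2, 3, 4, 5, 6, 7, 8, 9, 10, 12, 15, 21} := by
  ext k
  rw [mem_range_orderOf_alt_iff]
  constructor
  · rintro ⟨m, hsum, h2, heven, rfl⟩
    have := subset_part m hsum h2 heven
    simp only [S10, List.mem_cons, List.not_mem_nil, or_false] at this
    simp only [Set.mem_insert_iff, Set.mem_singleton_iff]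
    exact this
  · intro hk
    simp only [Set.mem_insert_iff, Set.mem_singleton_iff] at hk
    rcases hk with rfl | rfl | rfl | rfl | rfl | rfl | rfl | rfl | rfl | rfl | rfl | rfl | rfl
    · exact ⟨0, by decide, by decide, by decide, by decide⟩
    · exact ⟨{2, 2}, by decide, by decide, by decide, by decide⟩
    · exact ⟨{3}, by decide, by decide, by decide, by decide⟩
    · exact ⟨{4, 2}, by decide, by decide, by decide, by decide⟩
    · exact ⟨{5}, by decide, by decide, by decide, by decide⟩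
    · exact ⟨{3, 2, 2}, by decide, by decide, by decide, by decide⟩
    · exact ⟨{7}, by decide, by decide, by decide, by decide⟩
    · exact ⟨{8, 2}, by decide, by decide, by decide, by decide⟩
    · exact ⟨{9}, by decide, by decide, by decide, by decide⟩
    · exact ⟨{5, 2, 2}, by decide, by decide, by decide, by decide⟩
    · exact ⟨{4, 3, 2}, by decide, by decide, by decide, by decide⟩
    · exact ⟨{5, 3}, by decide, by decide, by decide, by decide⟩
    · exact ⟨{7, 3}, by decide, by decide, by decide, by decide⟩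

end Cfsg.Agent.S2477
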