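import Cfsg.Statements.S2485
import Cfsg.Agent.Lib.Helper15.PGLSyl2

set_option autoImplicit false
open scoped Pointwise
open Cfsg

namespace Cfsg.Agent.S2485

open Matrix
open Cfsg.Agent.Lib.Helper15

theorem mem_smul_of_commute {G : Type*} [Group G] (P : Subgroup G) (w : G)
    (hC : Subgroup.centralizer ({w} : Set G) ≤ P) (g j : G)
    (hj : j * (g * w * g⁻¹) = (g * w * g⁻¹) * j) : j ∈ MulAut.conj g • P := by
  rw [Subgroup.mem_pointwise_smul_iff_inv_smul_mem]
  apply hC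
  rw [Subgroup.mem_centralizer_singleton_iff, MulAut.smul_def, ← map_inv, MulAut.conj_apply, inv_inv]
  calc g⁻¹ * j * g * w = g⁻¹ * (j * (g * w * g⁻¹)) * g := by group
    _ = g⁻¹ * ((g * w * g⁻¹) * j) * g := by rw [hj]
    _ = w * (g⁻¹ * j * g) := by group

/-- Let q = 2^k − 1 ≥ 7 be a prime and let G = PGL(2,q), the general linear group of degree 2 over the field with q elements modulo its centre. Then any two Sylow 2-subgroups of G have a non-trivial intersection: for a Sylow 2-subgroup H and every x ∈ G, H ∩ H^x ≠ 1. -/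
theorem result {q k : ℕ} [Fact q.Prime] (hk : q + 1 = 2 ^ k) (hq : 7 ≤ q)
    (H : Sylow 2 (GL (Fin 2) (ZMod q) ⧸ Subgroup.center (GL (Fin 2) (ZMod q))))
    (x : GL (Fin 2) (ZMod q) ⧸ Subgroup.center (GL (Fin 2) (ZMod q))) :
    (H : Subgroup (GL (Fin 2) (ZMod q) ⧸ Subgroup.center (GL (Fin 2) (ZMod q)))) ⊓ MulAut.conj x • (H : Subgroup _) ≠ ⊥ := by
  have hq4 : q % 4 = 3 := by
    rcases k with _ | _ | _ | k
    · simp at hk; omega
    · simp at hk; omega
    · norm_num at hk; omega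
    · have : 2 ^ (k + 1 + 1 + 1) = 8 * 2 ^ k := by ring
      rw [this] at hk
      omega
  have h2 : (2 : ZMod q) ≠ 0 := by
    intro h
    have h' : ((2 : ℕ) : ZMod q) = 0 := by exact_mod_cast h
    rw [ZMod.natCast_eq_zero_iff] at h'
    have := Nat.le_of_dvd (by norm_num) h'
    omega
  have hns : ¬ IsSquare (-1 : ZMod q) := by
    rw [ZMod.exists_sq_eq_neg_one_iff]
    omega
  set π := QuotientGroup.mk' (Subgroup.center (GL (Fin 2) (ZMod q))) with hπ
  have hW : (!![0, -1; 1, 0] : Matrix (Fin 2) (Fin 2) (ZMod q)).det ≠ 0 := by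
    simp [Matrix.det_fin_two]
  set W : GL (Fin 2) (ZMod q) := GeneralLinearGroup.mkOfDetNeZero _ hW with hWdef
  have hWTD : IsTD (W : Matrix (Fin 2) (Fin 2) (ZMod q)) := by
    constructor
    · show (!![0, -1; 1, 0] : Matrix (Fin 2) (Fin 2) (ZMod q)).trace = 0
      simp [Matrix.trace_fin_two]
    · show (!![0, -1; 1, 0] : Matrix (Fin 2) (Fin 2) (ZMod q)).det = 1
      simp [Matrix.det_fin_two]
  -- the centralizer of `π W` is a `2`-group
  have hC : IsPGroup 2 (Subgroup.centralizer ({π W} : Set (GL (Fin 2) (ZMod q) ⧸ Subgroup.center (GL (Fin 2) (ZMod q))))) := by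
    intro g
    refine ⟨k + 1, ?_⟩
    apply Subtype.ext
    rw [Subgroup.coe_pow, Subgroup.coe_one, pow_succ, ← hk, mul_comm]
    have hg := g.2
    rw [Subgroup.mem_centralizer_singleton_iff] at hg
    exact pow_eq_one_of_commute_TD hq4 W hWTD g.1 hg
  obtain ⟨P₀, hP₀⟩ := hC.exists_le_sylow
  obtain ⟨g, hg⟩ := MulAction.exists_smul_eq (GL (Fin 2) (ZMod q) ⧸ Subgroup.center (GL (Fin 2) (ZMod q))) P₀ H
  obtain ⟨g', rfl⟩ := QuotientGroup.mk'_surjective _ g
  obtain ⟨x', rfl⟩ := QuotientGroup.mk'_surjective _ x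
  have hZ : IsTD ((g' * W * g'⁻¹ : GL (Fin 2) (ZMod q)) : Matrix (Fin 2) (Fin 2) (ZMod q)) := by
    rw [Units.val_mul, Units.val_mul]
    exact hWTD.conj g'
  have hZ' : IsTD (((x' * g') * W * (x' * g')⁻¹ : GL (Fin 2) (ZMod q)) : Matrix (Fin 2) (Fin 2) (ZMod q)) := by
    rw [Units.val_mul, Units.val_mul (x' * g')]
    exact hWTD.conj (x' * g')
  obtain ⟨j, hj1, hjZ, hjZ'⟩ := exists_common_commuting h2 hns _ _ hZ hZ'
  have hH : (H : Subgroup (GL (Fin 2) (ZMod q) ⧸ Subgroup.center (GL (Fin 2) (ZMod q)))) =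
      MulAut.conj (π g') • (P₀ : Subgroup _) := by
    rw [← hg, Sylow.coe_subgroup_smul]
  have hjH : j ∈ (H : Subgroup (GL (Fin 2) (ZMod q) ⧸ Subgroup.center (GL (Fin 2) (ZMod q)))) := by
    rw [hH]
    apply mem_smul_of_commute _ (π W) hP₀
    rw [map_mul, map_mul, map_inv] at hjZ
    exact hjZ
  have hjH' : j ∈ MulAut.conj (π x') • (H : Subgroup (GL (Fin 2) (ZMod q) ⧸ Subgroup.center (GL (Fin 2) (ZMod q)))) := by
    rw [hH, smul_smul, ← map_mul, ← map_mul]
    apply mem_smul_of_commute _ (π W) hP₀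
    rw [map_mul, map_mul, map_inv] at hjZ'
    exact hjZ'
  intro hbot
  have : j ∈ (H : Subgroup (GL (Fin 2) (ZMod q) ⧸ Subgroup.center (GL (Fin 2) (ZMod q)))) ⊓
      MulAut.conj (π x') • (H : Subgroup _) := ⟨hjH, hjH'⟩
  rw [hbot, Subgroup.mem_bot] at this
  exact hj1 this

end Cfsg.Agent.S2485
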