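import Cfsg.Statements.S2486
import Cfsg.Agent.Lib.Helper13.GL2Sylow

set_option autoImplicit false
open scoped Pointwise
open Cfsg

namespace Cfsg.Agent.S2486

open Cfsg.Agent.Lib.Helper13.GL2S Cfsg.Agent.Lib.Helper15.Bru in
/-- Let n ≥ 4 and let G be a finite group with a normal subgroup N of index 2 isomorphic to SL(n,2) and with trivial centralizer in G (so G is the extension of the simple group L_n(2) by its inverse-transpose automorphism, its full automorphism group). Then any two Sylow 2-subgroups of G have a non-trivial intersection: for a Sylow 2-subgroup H and every x ∈ G, H ∩ H^x ≠ 1. -/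
theorem result {G : Type*} [Group G] [Finite G] {n : ℕ} (hn : 4 ≤ n) (N : Subgroup G) [N.Normal]
    (e : N ≃* Matrix.SpecialLinearGroup (Fin n) (ZMod 2)) (hidx : N.index = 2)
    (hC : Subgroup.centralizer (N : Set G) = ⊥)
    (H : Sylow 2 G) (x : G) :
    (H : Subgroup G) ⊓ MulAut.conj x • (H : Subgroup G) ≠ ⊥ := by
  classical
  obtain ⟨φ, hφ⟩ : ∃ φ : N →* Matrix.GeneralLinearGroup (Fin n) (ZMod 2),
      φ = (Matrix.SpecialLinearGroup.toGL).comp e.toMonoidHom := ⟨_, rfl⟩
  have hφinj : Function.Injective φ := by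
    rw [hφ]
    exact Matrix.SpecialLinearGroup.toGL_injective.comp e.injective
  have hφsurj : Function.Surjective φ := by
    intro γ
    have hdet : (γ : Matrix (Fin n) (Fin n) (ZMod 2)).det = 1 := by
      have h1 : Matrix.GeneralLinearGroup.det γ = 1 := Subsingleton.elim _ _
      have h2 := congrArg Units.val h1
      rw [Matrix.GeneralLinearGroup.val_det_apply, Units.val_one] at h2
      exact h2
    obtain ⟨s, hs⟩ : ∃ s : Matrix.SpecialLinearGroup (Fin n) (ZMod 2),
        (s : Matrix (Fin n) (Fin n) (ZMod 2)) = γ := ⟨⟨γ, hdet⟩, rfl⟩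
    refine ⟨e.symm s, ?_⟩
    rw [hφ]
    apply Units.ext
    simp only [MonoidHom.comp_apply, MulEquiv.coe_toMonoidHom]
    rw [MulEquiv.apply_symm_apply]
    exact hs
  obtain ⟨y, hy1, hyH, hyx⟩ := sylow_meet_of_hom N hidx φ ⟨hφinj, hφsurj⟩
    (Cfsg.upperTriangularGL n (ZMod 2)) (isPGroup_upper n) (permGL Fin.revPerm)
    (fun γ hTI => mem_bigcell_of_TI γ hTI) H x
  intro hbot
  apply hy1
  have hmem : y ∈ (H : Subgroup G) ⊓ MulAut.conj x • (H : Subgroup G) :=
    Subgroup.mem_inf.2 ⟨hyH, (mem_conj_smul_iff' x y _).2 hyx⟩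
  rw [hbot] at hmem
  exact Subgroup.mem_bot.1 hmem

end Cfsg.Agent.S2486
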