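import Cfsg.Statements.S2487
import Cfsg.Agent.Lib.Helper3.SylO6
import Cfsg.Agent.Lib.Helper6.OrtP1

set_option autoImplicit false
open scoped Pointwise
open Cfsg

namespace Cfsg.Agent.S2487

open Module Submodule QuadraticMap Cfsg.Agent.Lib.Helper15 Cfsg.Agent.Lib.Helper15.PSpI
  Cfsg.Agent.Lib.Helper6 Cfsg.Agent.Lib.Helper3.Orth Cfsg.Agent.Lib.Helper3.SylO
  Cfsg.Agent.Lib.Helper6.OrtS

universe u

theorem aux {F : Type u} [Field F] [Fintype F] (hF : Fintype.card F = 2) {m : ℕ} (hm : 1 ≤ m)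
    (f : (Fin m ⊕ Fin m → F) → F) (hf : f = ⇑(QPlus F m))
    (H : Sylow 2 (Cfsg.isometryGroup F f)) (x : Cfsg.isometryGroup F f) :
    (H : Subgroup (Cfsg.isometryGroup F f)) ⊓ MulAut.conj x • (H : Subgroup _) ≠ ⊥ := by
  subst hf
  rw [← Sylow.pointwise_smul_def]
  have hnd : NondegOn (pB (QPlus F m)) ⊤ := nondegOn_top_of _ (nondegenerate_QPlus F m)
  have hcard : Fintype.card (Fin m ⊕ Fin m) = 2 * m := by simp [two_mul]
  have hfin : finrank F (⊤ : Submodule F (Fin m ⊕ Fin m → F)) = 2 * m := by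
    rw [finrank_top, Module.finrank_fintype_fun_eq_card, hcard]
  have hp : PlusOn (QPlus F m) ⊤ :=
    (sgnOn_one_iff_plusOn (QPlus F m) ⊤ hnd m hfin).mp (sgnOn_top_QPlus m)
  exact max2_inf_ne_bot (QPlus F m) hF hnd m hm hcard hp _ _ (max2_of_sylow H)
    (max2_of_sylow (MulAut.conj x • H))

/-- Let m ≥ 4 and let G be the full isometry group of the hyperbolic quadratic form x₁y₁ + ⋯ + x_m y_m on the 2m-dimensional space over the field with 2 elements (the orthogonal group O⁺(2m,2), which contains Ω⁺(2m,2) with index 2). Then any two Sylow 2-subgroups of G have a non-trivial intersection: for a Sylow 2-subgroup H and every x ∈ G, H ∩ H^x ≠ 1. -/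
theorem result {F : Type*} [Field F] [Fintype F] (hF : Fintype.card F = 2) {m : ℕ} (hm : 4 ≤ m)
    (H : Sylow 2 (Cfsg.isometryGroup F (Cfsg.quadFormPlus m F)))
    (x : Cfsg.isometryGroup F (Cfsg.quadFormPlus m F)) :
    (H : Subgroup (Cfsg.isometryGroup F (Cfsg.quadFormPlus m F))) ⊓ MulAut.conj x • (H : Subgroup _) ≠ ⊥ := by
  exact aux hF (by omega) (Cfsg.quadFormPlus m F) (coe_QPlus m).symm H x

end Cfsg.Agent.S2487
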