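import Cfsg.Statements.S2488

set_option autoImplicit false
open scoped Pointwise
open Cfsg

namespace Cfsg.Agent.S2488

/-! ### Concrete facts on `alternatingGroup (Fin 6)` (kernel-decided) -/

set_option maxRecDepth 1000000 in
set_option maxHeartbeats 40000000 in
/-- Every element of `A₆` has order `1, 2, 4, 3` or `5`. -/
theorem a6_orders : ∀ g : alternatingGroup (Fin 6), g ^ 4 = 1 ∨ g ^ 3 = 1 ∨ g ^ 5 = 1 := by
  decide

set_option maxRecDepth 1000000 in
set_option maxHeartbeats 40000000 in
/-- `A₆` has `80` elements of order `3`. -/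
theorem a6_count3 :
    (Finset.univ.filter (fun g : alternatingGroup (Fin 6) => g ^ 3 = 1)).card = 81 := by
  decide

set_option maxRecDepth 1000000 in
set_option maxHeartbeats 40000000 in
/-- `A₆` has `144` elements of order `5`. -/
theorem a6_count5 :
    (Finset.univ.filter (fun g : alternatingGroup (Fin 6) => g ^ 5 = 1)).card = 145 := by
  decide

theorem card_a6 : Nat.card (alternatingGroup (Fin 6)) = 360 := by
  have h := two_mul_nat_card_alternatingGroup (α := Fin 6)
  rw [Nat.card_perm, Nat.card_eq_fintype_card (α := Fin 6), Fintype.card_fin] at h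
  have h6 : (6 : ℕ).factorial = 720 := by decide
  omega

/-! ### General lemmas -/

/-- In a finite `p`-group a nontrivial normal subgroup meets the centre nontrivially. -/
theorem normal_inf_center_ne_bot {G : Type*} [Group G] [Finite G] {p : ℕ} [Fact p.Prime]
    (hG : IsPGroup p G) (N : Subgroup G) [N.Normal] (hN : N ≠ ⊥) :
    N ⊓ Subgroup.center G ≠ ⊥ := by
  have hGc : IsPGroup p (ConjAct G) := hG.of_equiv ConjAct.toConjAct
  have hNp : IsPGroup p N := hG.to_subgroup N
  have hdvd : p ∣ Nat.card N := by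
    rcases hNp.card_eq_or_dvd with h | h
    · exfalso
      apply hN
      exact (Subgroup.card_eq_one).mp h
    · exact h
  have h1 : (1 : N) ∈ MulAction.fixedPoints (ConjAct G) N := by
    intro g
    exact smul_one g
  obtain ⟨b, hb, hb1⟩ := hGc.exists_fixed_point_of_prime_dvd_card_of_fixed_point N hdvd h1
  intro hbot
  apply hb1
  have hbc : (b : G) ∈ N ⊓ Subgroup.center G := by
    refine Subgroup.mem_inf.mpr ⟨b.2, ?_⟩
    rw [Subgroup.mem_center_iff]
    intro g
    have := hb (ConjAct.toConjAct g)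
    have h2 := congrArg Subtype.val this
    rw [ConjAct.Subgroup.val_conj_smul, ConjAct.toConjAct_smul] at h2
    calc g * (b : G) = (g * (b : G) * g⁻¹) * g := by group
      _ = (b : G) * g := by rw [h2]
  rw [hbot, Subgroup.mem_bot] at hbc
  exact (Subtype.ext hbc).symm

/-- An involution `z` normalizing a subgroup `C` of even order commutes with some nontrivial
element of `C`. -/
theorem exists_comm_of_even {G : Type*} [Group G] [Finite G] (C : Subgroup G) (z : G)
    (hz : z * z = 1) (hzC : ∀ c ∈ C, z * c * z ∈ C) (heven : 2 ∣ Nat.card C) :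
    ∃ t ∈ C, t ≠ 1 ∧ z * t = t * z := by
  by_contra hcon
  push Not at hcon
  have hzinv : z⁻¹ = z := inv_eq_of_mul_eq_one_right hz
  let f : C → C := fun c => ⟨c.1⁻¹ * (z * c.1 * z), C.mul_mem (C.inv_mem c.2) (hzC c.1 c.2)⟩
  have hf : Function.Injective f := by
    intro c d hcd
    have h1 : c.1⁻¹ * (z * c.1 * z) = d.1⁻¹ * (z * d.1 * z) := congrArg Subtype.val hcd
    by_contra hne
    have hw : d.1 * c.1⁻¹ ∈ C := C.mul_mem d.2 (C.inv_mem c.2)
    have hw1 : d.1 * c.1⁻¹ ≠ 1 := by
      intro h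
      apply hne
      have h' : d.1 = c.1 := mul_inv_eq_one.1 h
      exact Subtype.ext h'.symm
    apply hcon _ hw hw1
    have h2 : c.1⁻¹ * z * c.1 = d.1⁻¹ * z * d.1 := by
      calc c.1⁻¹ * z * c.1 = (c.1⁻¹ * (z * c.1 * z)) * z⁻¹ := by group
        _ = (d.1⁻¹ * (z * d.1 * z)) * z⁻¹ := by rw [h1]
        _ = d.1⁻¹ * z * d.1 := by group
    calc z * (d.1 * c.1⁻¹) = d.1 * (d.1⁻¹ * z * d.1) * c.1⁻¹ := by group
      _ = d.1 * (c.1⁻¹ * z * c.1) * c.1⁻¹ := by rw [h2]
      _ = d.1 * c.1⁻¹ * z := by group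
  have hsurj : Function.Surjective f := Finite.injective_iff_surjective.1 hf
  haveI : Fact (Nat.Prime 2) := ⟨Nat.prime_two⟩
  obtain ⟨t, ht⟩ := exists_prime_orderOf_dvd_card' 2 heven
  obtain ⟨c, hc⟩ := hsurj t
  have ht1 : t.1 = c.1⁻¹ * (z * c.1 * z) := (congrArg Subtype.val hc).symm
  have ht2 : t.1 * t.1 = 1 := by
    have h := pow_orderOf_eq_one t
    rw [ht, pow_two] at h
    exact congrArg Subtype.val h
  have ht3 : t.1 ≠ 1 := by
    intro h
    have h' : t = 1 := Subtype.ext h
    rw [h', orderOf_one] at ht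
    omega
  apply hcon t.1 t.2 ht3
  have h3 : z * t.1 * z = t.1⁻¹ := by
    rw [ht1]
    have h' : (c.1⁻¹ * (z * c.1 * z))⁻¹ = z⁻¹ * c.1⁻¹ * z⁻¹ * c.1 := by group
    rw [h', hzinv]
    calc z * (c.1⁻¹ * (z * c.1 * z)) * z = z * c.1⁻¹ * z * c.1 * (z * z) := by group
      _ = z * c.1⁻¹ * z * c.1 := by rw [hz, mul_one]
  have h4 : t.1⁻¹ = t.1 := inv_eq_of_mul_eq_one_right ht2
  calc z * t.1 = (z * t.1 * z) * z⁻¹ := by group
    _ = t.1 * z := by rw [h3, h4, hzinv]

section main

variable {G : Type*} [Group G]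

theorem card_N (N : Subgroup G) (e : N ≃* alternatingGroup (Fin 6)) : Nat.card N = 360 := by
  rw [Nat.card_congr e.toEquiv]
  exact card_a6

theorem card_G (N : Subgroup G) (e : N ≃* alternatingGroup (Fin 6)) (hidx : N.index = 4) :
    Nat.card G = 1440 := by
  rw [← Subgroup.card_mul_index N, card_N N e, hidx]

theorem pow_cases (N : Subgroup G) (e : N ≃* alternatingGroup (Fin 6)) {g : G} (hg : g ∈ N) :
    g ^ 4 = 1 ∨ g ^ 3 = 1 ∨ g ^ 5 = 1 := by
  have key : ∀ k : ℕ, (e ⟨g, hg⟩) ^ k = 1 → g ^ k = 1 := by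
    intro k hk
    rw [← map_pow] at hk
    have h1 : (⟨g, hg⟩ : N) ^ k = 1 := (EmbeddingLike.map_eq_one_iff (f := e)).1 hk
    have h2 := congrArg Subtype.val h1
    simpa using h2
  rcases a6_orders (e ⟨g, hg⟩) with h | h | h
  · exact Or.inl (key 4 h)
  · exact Or.inr (Or.inl (key 3 h))
  · exact Or.inr (Or.inr (key 5 h))

theorem orderOf_cases (N : Subgroup G) (e : N ≃* alternatingGroup (Fin 6)) {g : G} (hg : g ∈ N) :
    orderOf g ∣ 4 ∨ orderOf g ∣ 3 ∨ orderOf g ∣ 5 := by
  rcases pow_cases N e hg with h | h | h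
  · exact Or.inl (orderOf_dvd_of_pow_eq_one h)
  · exact Or.inr (Or.inl (orderOf_dvd_of_pow_eq_one h))
  · exact Or.inr (Or.inr (orderOf_dvd_of_pow_eq_one h))

/-- No two commuting elements of `N` have distinct prime orders. -/
theorem no_commuting (N : Subgroup G) (e : N ≃* alternatingGroup (Fin 6)) {a b : G}
    (ha : a ∈ N) (hb : b ∈ N) (hab : Commute a b) {p q : ℕ} (hp : p.Prime) (hq : q.Prime)
    (hpq : p ≠ q) (hoa : orderOf a = p) (hob : orderOf b = q) : False := by
  have hcop : Nat.Coprime (orderOf a) (orderOf b) := by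
    rw [hoa, hob]
    exact (Nat.coprime_primes hp hq).2 hpq
  have ho := hab.orderOf_mul_eq_mul_orderOf_of_coprime hcop
  rw [hoa, hob] at ho
  have h6 : 6 ≤ p * q := by
    have h1 := hp.two_le
    have h2 := hq.two_le
    rcases Nat.lt_or_ge p 3 with h | h
    · have hp2 : p = 2 := by omega
      have h3 : 3 ≤ q := by omega
      nlinarith
    · nlinarith
  have hdiv := orderOf_cases N e (N.mul_mem ha hb)
  rw [ho] at hdiv
  rcases hdiv with h | h | h
  · have := Nat.le_of_dvd (by norm_num) h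
    omega
  · have := Nat.le_of_dvd (by norm_num) h
    omega
  · have := Nat.le_of_dvd (by norm_num) h
    omega

/-- Elements of order prime to `4` lie in `N`. -/
theorem mem_of_coprime (N : Subgroup G) [N.Normal] (hidx : N.index = 4) (y : G)
    (hy : Nat.Coprime (orderOf y) 4) : y ∈ N := by
  haveI : N.FiniteIndex := ⟨by rw [hidx]; norm_num⟩
  haveI : Finite (G ⧸ N) := Subgroup.finite_quotient_of_finiteIndex
  rw [← QuotientGroup.eq_one_iff (N := N)]
  have h1 : ((y : G ⧸ N)) ^ 4 = 1 := by
    have h := pow_card_eq_one' (G := G ⧸ N) (x := (y : G ⧸ N))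
    rwa [← Subgroup.index_eq_card, hidx] at h
  have h2 : ((y : G ⧸ N)) ^ (orderOf y) = 1 := by
    rw [← QuotientGroup.mk_pow, pow_orderOf_eq_one]
    rfl
  have h3 : orderOf (y : G ⧸ N) ∣ 1 := by
    have h := Nat.dvd_gcd (orderOf_dvd_of_pow_eq_one h2) (orderOf_dvd_of_pow_eq_one h1)
    rwa [Nat.Coprime.gcd_eq_one hy] at h
  exact orderOf_eq_one_iff.1 (Nat.dvd_one.1 h3)

variable [Finite G]

/-- The centralizer in `G` of an involution of `N` is a `2`-group. -/
theorem card_centralizer_invol_dvd (N : Subgroup G) [N.Normal]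
    (e : N ≃* alternatingGroup (Fin 6)) (hidx : N.index = 4) {z : G} (hzN : z ∈ N)
    (hz : orderOf z = 2) : Nat.card (Subgroup.centralizer ({z} : Set G)) ∣ 32 := by
  have hG := card_G N e hidx
  have hdvd : Nat.card (Subgroup.centralizer ({z} : Set G)) ∣ 1440 :=
    hG ▸ Subgroup.card_subgroup_dvd_card _
  have hq : ∀ q : ℕ, q.Prime → q ≠ 2 →
      q ∣ Nat.card (Subgroup.centralizer ({z} : Set G)) → False := by
    intro q hq hq2 hqd
    haveI : Fact q.Prime := ⟨hq⟩
    obtain ⟨y, hy⟩ := exists_prime_orderOf_dvd_card' q hqd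
    have hyo : orderOf (y : G) = q := by rw [Subgroup.orderOf_coe, hy]
    have hyN : (y : G) ∈ N := by
      apply mem_of_coprime N hidx
      rw [hyo]
      have h2 : Nat.Coprime q 2 := (Nat.coprime_primes hq Nat.prime_two).2 hq2
      have h4 := h2.pow_right 2
      norm_num at h4
      exact h4
    have hcomm : Commute z (y : G) :=
      Subgroup.mem_centralizer_iff.1 y.2 z (Set.mem_singleton z)
    exact no_commuting N e hzN hyN hcomm Nat.prime_two hq (Ne.symm hq2) hz hyo
  have h3 : Nat.Coprime (Nat.card (Subgroup.centralizer ({z} : Set G))) 3 :=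
    ((Nat.Prime.coprime_iff_not_dvd Nat.prime_three).2
      (fun h => hq 3 Nat.prime_three (by norm_num) h)).symm
  have h5 : Nat.Coprime (Nat.card (Subgroup.centralizer ({z} : Set G))) 5 :=
    ((Nat.Prime.coprime_iff_not_dvd Nat.prime_five).2
      (fun h => hq 5 Nat.prime_five (by norm_num) h)).symm
  have h45 : Nat.Coprime (Nat.card (Subgroup.centralizer ({z} : Set G))) (3 ^ 2 * 5) :=
    (h3.pow_right 2).mul_right h5
  have h1440 : (1440 : ℕ) = 32 * (3 ^ 2 * 5) := by norm_num
  rw [h1440] at hdvd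
  exact h45.dvd_of_dvd_mul_right hdvd

/-- Counting elements of `N` killed by `k`, via the isomorphism with `A₆`. -/
theorem card_le_of_pow (N : Subgroup G) (e : N ≃* alternatingGroup (Fin 6)) (k c : ℕ)
    (hc : (Finset.univ.filter (fun g : alternatingGroup (Fin 6) => g ^ k = 1)).card = c)
    (S : Set G) (hS : ∀ g ∈ S, g ∈ N ∧ g ^ k = 1) : Nat.card S ≤ c := by
  classical
  have hT : Nat.card {a : alternatingGroup (Fin 6) // a ^ k = 1} = c := by
    rw [Nat.card_eq_fintype_card, Fintype.card_subtype, hc]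
  rw [← hT]
  refine Nat.card_le_card_of_injective
    (fun s : S => (⟨e ⟨s.1, (hS s.1 s.2).1⟩, ?_⟩ : {a : alternatingGroup (Fin 6) // a ^ k = 1})) ?_
  · rw [← map_pow]
    have h : (⟨s.1, (hS s.1 s.2).1⟩ : N) ^ k = 1 := Subtype.ext (by simpa using (hS s.1 s.2).2)
    rw [h, map_one]
  · intro s t hst
    have h1 : e ⟨s.1, (hS s.1 s.2).1⟩ = e ⟨t.1, (hS t.1 t.2).1⟩ := congrArg Subtype.val hst
    have h2 := e.injective h1
    exact Subtype.ext (Subtype.mk.inj h2)

/-- Auxiliary form: the centralizer of an element of odd prime order `p` of `N` has even order. -/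
theorem centralizer_even_aux (N : Subgroup G) [hN : N.Normal]
    (e : N ≃* alternatingGroup (Fin 6)) (hidx : N.index = 4) {u : G} (huN : u ∈ N)
    {p q a b cnt : ℕ} (hp : p.Prime) (hq : q.Prime) (hpq : p ≠ q) (hu : orderOf u = p)
    (hab : 1440 = a * b) (ha : ∀ m : ℕ, Nat.Coprime m 2 → Nat.Coprime m q → Nat.Coprime m a)
    (hcnt : (Finset.univ.filter (fun g : alternatingGroup (Fin 6) => g ^ p = 1)).card = cnt)
    (hlt : b * cnt < 1440) :
    2 ∣ Nat.card (Subgroup.centralizer ({u} : Set G)) := by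
  by_contra hodd
  have hG := card_G N e hidx
  have hc2 : Nat.Coprime (Nat.card (Subgroup.centralizer ({u} : Set G))) 2 :=
    ((Nat.Prime.coprime_iff_not_dvd Nat.prime_two).2 hodd).symm
  have hCN : ∀ y ∈ Subgroup.centralizer ({u} : Set G), y ∈ N := by
    intro y hy
    apply mem_of_coprime N hidx
    have h1 : orderOf y ∣ Nat.card (Subgroup.centralizer ({u} : Set G)) := by
      have h := orderOf_dvd_natCard (⟨y, hy⟩ : Subgroup.centralizer ({u} : Set G))
      rwa [← Subgroup.orderOf_coe] at h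
    have h2 : Nat.Coprime (orderOf y) 2 := Nat.Coprime.coprime_dvd_left h1 hc2
    have h4 := h2.pow_right 2
    norm_num at h4
    exact h4
  have hcq : Nat.Coprime (Nat.card (Subgroup.centralizer ({u} : Set G))) q := by
    refine ((Nat.Prime.coprime_iff_not_dvd hq).2 ?_).symm
    intro hqd
    haveI : Fact q.Prime := ⟨hq⟩
    obtain ⟨y, hy⟩ := exists_prime_orderOf_dvd_card' q hqd
    have hyo : orderOf (y : G) = q := by rw [Subgroup.orderOf_coe, hy]
    have hcomm : Commute u (y : G) :=
      Subgroup.mem_centralizer_iff.1 y.2 u (Set.mem_singleton u)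
    exact no_commuting N e huN (hCN _ y.2) hcomm hp hq hpq hu hyo
  have hdvd : Nat.card (Subgroup.centralizer ({u} : Set G)) ∣ b := by
    have h1 : Nat.card (Subgroup.centralizer ({u} : Set G)) ∣ a * b := by
      rw [← hab, ← hG]
      exact Subgroup.card_subgroup_dvd_card _
    exact (ha _ hc2 hcq).dvd_of_dvd_mul_left h1
  have hb0 : 0 < b := by
    rcases Nat.eq_zero_or_pos b with h | h
    · rw [h] at hab
      omega
    · exact h
  have hle : Nat.card (Subgroup.centralizer ({u} : Set G)) ≤ b := Nat.le_of_dvd hb0 hdvd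
  have hidxC : (Subgroup.centralizer ({u} : Set G)).index
      = (MulAction.orbit (ConjAct G) u).ncard := by
    rw [← MulAction.index_stabilizer, Subgroup.centralizer_eq_comap_stabilizer]
    exact Subgroup.index_comap_of_surjective _ (ConjAct.toConjAct (G := G)).surjective
  have horb : (MulAction.orbit (ConjAct G) u).ncard ≤ cnt := by
    rw [← Nat.card_coe_set_eq]
    apply card_le_of_pow N e p cnt hcnt
    intro g hg
    rw [ConjAct.mem_orbit_conjAct, isConj_iff] at hg
    obtain ⟨c, hc⟩ := hg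
    have hg' : g = c⁻¹ * u * c⁻¹⁻¹ := by
      rw [← hc]
      group
    refine ⟨?_, ?_⟩
    · rw [hg']
      exact hN.conj_mem u huN c⁻¹
    · rw [hg', conj_pow, ← hu, pow_orderOf_eq_one]
      group
  have h1 := Subgroup.card_mul_index (Subgroup.centralizer ({u} : Set G))
  rw [hG] at h1
  have h2 : Nat.card (Subgroup.centralizer ({u} : Set G))
      * (Subgroup.centralizer ({u} : Set G)).index ≤ b * cnt :=
    Nat.mul_le_mul hle (hidxC ▸ horb)
  omega

theorem centralizer_even (N : Subgroup G) [hN : N.Normal]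
    (e : N ≃* alternatingGroup (Fin 6)) (hidx : N.index = 4) {u : G} (huN : u ∈ N)
    (hu : orderOf u = 3 ∨ orderOf u = 5) :
    2 ∣ Nat.card (Subgroup.centralizer ({u} : Set G)) := by
  rcases hu with hu | hu
  · refine centralizer_even_aux N e hidx huN (p := 3) (q := 5) (a := 2 ^ 5 * 5) (b := 9)
      (cnt := 81) Nat.prime_three Nat.prime_five (by norm_num) hu (by norm_num) ?_ a6_count3
      (by norm_num)
    intro m h2 h5
    exact (h2.pow_right 5).mul_right h5
  · refine centralizer_even_aux N e hidx huN (p := 5) (q := 3) (a := 2 ^ 5 * 3 ^ 2) (b := 5)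
      (cnt := 145) Nat.prime_five Nat.prime_three (by norm_num) hu (by norm_num) ?_ a6_count5
      (by norm_num)
    intro m h2 h3
    exact (h2.pow_right 5).mul_right (h3.pow_right 2)

/-- Any two involutions of `N` are centralized by a common nontrivial element of `G`. -/
theorem exists_common (N : Subgroup G) [hN : N.Normal]
    (e : N ≃* alternatingGroup (Fin 6)) (hidx : N.index = 4) {z z' : G} (hzN : z ∈ N)
    (hz'N : z' ∈ N) (hoz : orderOf z = 2) (hoz' : orderOf z' = 2) :
    ∃ t : G, t ≠ 1 ∧ Commute t z ∧ Commute t z' := by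
  have hz2 : z * z = 1 := by
    have h := pow_orderOf_eq_one z
    rwa [hoz, pow_two] at h
  have hz'2 : z' * z' = 1 := by
    have h := pow_orderOf_eq_one z'
    rwa [hoz', pow_two] at h
  have hzinv : z⁻¹ = z := inv_eq_of_mul_eq_one_right hz2
  have hz'inv : z'⁻¹ = z' := inv_eq_of_mul_eq_one_right hz'2
  have hz1 : z ≠ 1 := by
    intro h
    rw [h, orderOf_one] at hoz
    omega
  have huN : z * z' ∈ N := N.mul_mem hzN hz'N
  -- `z` inverts `u = z z'`
  have hconj : z * (z * z') * z⁻¹ = (z * z')⁻¹ := by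
    rw [mul_inv_rev, hzinv, hz'inv]
    calc z * (z * z') * z = (z * z) * z' * z := by group
      _ = z' * z := by rw [hz2, one_mul]
  have hzu : z * (z * z') = z' := by
    rw [← mul_assoc, hz2, one_mul]
  by_cases hu1 : z * z' = 1
  · refine ⟨z, hz1, Commute.refl z, ?_⟩
    have h : z' = z := by
      have h' := eq_inv_of_mul_eq_one_right hu1
      rw [h', hzinv]
    rw [h]
  have hprime : ∀ p : ℕ, p.Prime → (p = 3 ∨ p = 5) → (z * z') ^ p = 1 →
      ∃ t : G, t ≠ 1 ∧ Commute t z ∧ Commute t z' := by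
    intro p hp hp35 hup
    haveI : Fact p.Prime := ⟨hp⟩
    have huo : orderOf (z * z') = p := orderOf_eq_prime hup hu1
    have heven := centralizer_even N e hidx huN (by rw [huo]; exact hp35)
    have hzC : ∀ c ∈ Subgroup.centralizer ({z * z'} : Set G),
        z * c * z ∈ Subgroup.centralizer ({z * z'} : Set G) := by
      intro c hc
      have hcu : Commute (z * z') c :=
        Subgroup.mem_centralizer_iff.1 hc (z * z') (Set.mem_singleton _)
      have h1 : Commute (z * (z * z') * z⁻¹) (z * c * z⁻¹) := (Commute.conj_iff z).2 hcu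
      rw [hconj, Commute.inv_left_iff, hzinv] at h1
      rw [Subgroup.mem_centralizer_iff]
      intro y hy
      rw [Set.mem_singleton_iff] at hy
      subst hy
      exact h1
    obtain ⟨t, htC, ht1, htz⟩ := exists_comm_of_even _ z hz2 hzC heven
    have htu : Commute (z * z') t :=
      Subgroup.mem_centralizer_iff.1 htC (z * z') (Set.mem_singleton _)
    have htz' : Commute t z := htz.symm
    refine ⟨t, ht1, htz', ?_⟩
    have h := htz'.mul_right htu.symm
    rwa [hzu] at h
  rcases pow_cases N e huN with h4 | h3 | h5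
  · by_cases hu2 : (z * z') ^ 2 = 1
    · refine ⟨z, hz1, Commute.refl z, ?_⟩
      rw [pow_two] at hu2
      show z * z' = z' * z
      calc z * z' = (z * z')⁻¹ := (inv_eq_of_mul_eq_one_right hu2).symm
        _ = z'⁻¹ * z⁻¹ := mul_inv_rev _ _
        _ = z' * z := by rw [hzinv, hz'inv]
    · have h2 : z * (z * z') ^ 2 * z⁻¹ = (z * z') ^ 2 := by
        rw [← conj_pow, hconj, inv_pow]
        apply inv_eq_of_mul_eq_one_right
        rw [← pow_add]
        exact h4
      have hc1 : Commute ((z * z') ^ 2) z := (mul_inv_eq_iff_eq_mul.1 h2).symm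
      have hc2 : Commute ((z * z') ^ 2) (z * z') := (Commute.refl (z * z')).pow_left 2
      refine ⟨(z * z') ^ 2, hu2, hc1, ?_⟩
      have h := hc1.mul_right hc2
      rwa [hzu] at h
  · exact hprime 3 Nat.prime_three (Or.inl rfl) h3
  · exact hprime 5 Nat.prime_five (Or.inr rfl) h5

theorem sylow_card (hG : Nat.card G = 1440) (H : Sylow 2 G) :
    Nat.card (H : Subgroup G) = 32 := by
  haveI : Fact (Nat.Prime 2) := ⟨Nat.prime_two⟩
  obtain ⟨k, hk⟩ := IsPGroup.iff_card.mp H.2
  have h1 := Subgroup.card_mul_index (H : Subgroup G)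
  have h2 : ¬ 2 ∣ (H : Subgroup G).index := H.not_dvd_index
  rw [hG, hk] at h1
  have hk5 : k ≤ 5 := by
    by_contra hcon
    have h3 : 2 ^ 6 ∣ 2 ^ k := pow_dvd_pow 2 (by omega)
    have h4 : 2 ^ 6 ∣ 1440 := dvd_trans h3 (Dvd.intro _ h1)
    norm_num at h4
  rw [hk]
  interval_cases k
  all_goals first | rfl | (exfalso; apply h2; omega)

/-- A Sylow `2`-subgroup of `G` is the centralizer of an involution of `N`. -/
theorem exists_invol (N : Subgroup G) [hN : N.Normal]
    (e : N ≃* alternatingGroup (Fin 6)) (hidx : N.index = 4) (H : Sylow 2 G) :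
    ∃ z ∈ N, orderOf z = 2 ∧ (H : Subgroup G) = Subgroup.centralizer ({z} : Set G) := by
  have hG := card_G N e hidx
  have hH := sylow_card hG H
  haveI : Fact (Nat.Prime 2) := ⟨Nat.prime_two⟩
  have hK : N.subgroupOf (H : Subgroup G) ≠ ⊥ := by
    intro hbot
    have h1 := Subgroup.card_mul_index (N.subgroupOf (H : Subgroup G))
    rw [hbot, Subgroup.card_bot, one_mul, hH] at h1
    have h2 : N.relIndex (H : Subgroup G) ∣ N.index :=
      Subgroup.relIndex_dvd_index_of_normal N (H : Subgroup G)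
    rw [hidx] at h2
    have h3 : (N.subgroupOf (H : Subgroup G)).index = N.relIndex (H : Subgroup G) := rfl
    rw [hbot] at h3
    rw [← h3, h1] at h2
    omega
  have hZ := normal_inf_center_ne_bot (p := 2) H.2 (N.subgroupOf (H : Subgroup G)) hK
  have hZp : IsPGroup 2
      ↥(N.subgroupOf (H : Subgroup G) ⊓ Subgroup.center (H : Subgroup G)) :=
    H.2.to_subgroup _
  have h2Z : 2 ∣ Nat.card
      ↥(N.subgroupOf (H : Subgroup G) ⊓ Subgroup.center (H : Subgroup G)) := by
    rcases hZp.card_eq_or_dvd with h | h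
    · exact absurd (Subgroup.card_eq_one.1 h) hZ
    · exact h
  obtain ⟨w, hw⟩ := exists_prime_orderOf_dvd_card' 2 h2Z
  have hwN : ((w : (H : Subgroup G)) : G) ∈ N :=
    Subgroup.mem_subgroupOf.1 (Subgroup.mem_inf.1 w.2).1
  have hwo : orderOf ((w : (H : Subgroup G)) : G) = 2 := by
    rw [Subgroup.orderOf_coe, Subgroup.orderOf_coe, hw]
  refine ⟨((w : (H : Subgroup G)) : G), hwN, hwo, ?_⟩
  have hle : (H : Subgroup G) ≤ Subgroup.centralizer ({((w : (H : Subgroup G)) : G)} : Set G) := by
    intro h hh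
    rw [Subgroup.mem_centralizer_iff]
    intro y hy
    rw [Set.mem_singleton_iff] at hy
    subst hy
    have hc := (Subgroup.mem_center_iff.1 (Subgroup.mem_inf.1 w.2).2) ⟨h, hh⟩
    exact (congrArg Subtype.val hc).symm
  have hdvd := card_centralizer_invol_dvd N e hidx hwN hwo
  exact Subgroup.eq_of_le_of_card_ge hle (by rw [hH]; exact Nat.le_of_dvd (by norm_num) hdvd)

end main

/-- Let G be a finite group with a normal subgroup N of index 4 isomorphic to the alternating group of degree 6 and with trivial centralizer in G (so G is the full automorphism group of A₆). Then any two Sylow 2-subgroups of G have a non-trivial intersection: for a Sylow 2-subgroup H and every x ∈ G, H ∩ H^x ≠ 1. -/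
theorem result {G : Type*} [Group G] [Finite G] (N : Subgroup G) [N.Normal]
    (e : N ≃* alternatingGroup (Fin 6)) (hidx : N.index = 4)
    (hC : Subgroup.centralizer (N : Set G) = ⊥)
    (H : Sylow 2 G) (x : G) :
    (H : Subgroup G) ⊓ MulAut.conj x • (H : Subgroup G) ≠ ⊥ := by
  have _ := hC
  obtain ⟨z, hzN, hzo, hHz⟩ := exists_invol N e hidx H
  have hz'N : x * z * x⁻¹ ∈ N := ‹N.Normal›.conj_mem z hzN x
  have hz'o : orderOf (x * z * x⁻¹) = 2 := by
    have h := orderOf_injective (MulAut.conj x).toMonoidHom (MulAut.conj x).injective z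
    rw [← hzo, ← h]
    rfl
  obtain ⟨t, ht1, htz, htz'⟩ := exists_common N e hidx hzN hz'N hzo hz'o
  intro hbot
  apply ht1
  have hmem : t ∈ (H : Subgroup G) ⊓ MulAut.conj x • (H : Subgroup G) := by
    refine Subgroup.mem_inf.2 ⟨?_, ?_⟩
    · rw [hHz, Subgroup.mem_centralizer_iff]
      intro h hh
      rw [Set.mem_singleton_iff] at hh
      subst hh
      exact htz.eq.symm
    · rw [Subgroup.mem_pointwise_smul_iff_inv_smul_mem, hHz, Subgroup.mem_centralizer_iff]
      intro h hh
      rw [Set.mem_singleton_iff] at hh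
      subst hh
      rw [MulAut.smul_def, MulAut.conj_inv_apply]
      calc h * (x⁻¹ * t * x) = x⁻¹ * ((x * h * x⁻¹) * t) * x := by group
        _ = x⁻¹ * (t * (x * h * x⁻¹)) * x := by rw [htz'.eq]
        _ = x⁻¹ * t * x * h := by group
  rw [hbot, Subgroup.mem_bot] at hmem
  exact hmem

end Cfsg.Agent.S2488
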