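import Cfsg.Statements.S2490
import Cfsg.Agent.Lib.Helper10.Ord7920L

set_option autoImplicit false

namespace Cfsg.Agent.S2490

open Cfsg.Agent.Lib.Helper10.Ord7920

/-- Let G be a finite group of order 7920 = 2⁴·3²·5·11 and suppose its prime graph is
disconnected. Then G is simple. -/
theorem result {G : Type*} [Group G] [Finite G] (hord : Nat.card G = 7920)
    (hdisc : (∃ A : Set ℕ, (∃ a ∈ A, a.Prime ∧ a ∣ Nat.card G) ∧ (∃ b ∉ A, b.Prime ∧ b ∣ Nat.card G) ∧
      ∀ a ∈ A, ∀ b ∉ A, a.Prime → b.Prime → a ∣ Nat.card G → b ∣ Nat.card G → ¬ ∃ g : G, orderOf g = a * b)) :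
    IsSimpleGroup G := by
  by_contra hns
  have hconn := conn_of_not_simple hord hns
  obtain ⟨A, ⟨a, haA, hap, had⟩, ⟨b, hbA, hbp, hbd⟩, hno⟩ := hdisc
  have hA : ∀ p q : ℕ, p.Prime → q.Prime → (∃ g : G, orderOf g = p * q) → (p ∈ A ↔ q ∈ A) := by
    intro p q hp hq hg
    obtain ⟨g, hgo⟩ := hg
    have hpd : p ∣ Nat.card G := (Dvd.intro _ hgo.symm).trans (orderOf_dvd_natCard g)
    have hqd : q ∣ Nat.card G := (Dvd.intro_left _ hgo.symm).trans (orderOf_dvd_natCard g)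
    constructor
    · intro hpA
      by_contra hqA
      exact hno p hpA q hqA hp hq hpd hqd ⟨g, hgo⟩
    · intro hqA
      by_contra hpA
      exact hno q hqA p hpA hq hp hqd hpd ⟨g, by rw [hgo, mul_comm]⟩
  obtain ⟨h23, h25, h211⟩ := hconn A hA
  rw [hord] at had hbd
  rcases prime_dvd_7920 hap had with rfl | rfl | rfl | rfl <;>
    rcases prime_dvd_7920 hbp hbd with rfl | rfl | rfl | rfl <;> tauto

end Cfsg.Agent.S2490
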