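import Cfsg.Statements.S2496
import Cfsg.Agent.Lib.Helper15.EigU4
import Cfsg.Agent.Lib.Helper15.EigU6

set_option autoImplicit false
open Cfsg

namespace Cfsg.Agent.S2496

/-- Let q be an odd prime power, n ≥ 4 even, and U = PSU(n,q) (realised over the field with q² elements). Then U has an element of order q^(n/2) + (−1)^(n/2) — that is, q^(n/2) + 1 when n/2 is even and q^(n/2) − 1 when n/2 is odd — if and only if the 2-part of n exceeds the 2-part of q + 1. -/
theorem result {F : Type*} [Field F] [Fintype F] {q : ℕ} (hF : Fintype.card F = q ^ 2) (hodd : Odd q)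
    {n : ℕ} (hn : 4 ≤ n) (heven : Even n) :
    (∃ g : Cfsg.PSU n F q, orderOf g = if Even (n / 2) then q ^ (n / 2) + 1 else q ^ (n / 2) - 1) ↔
      padicValNat 2 (q + 1) < padicValNat 2 n := by
  obtain ⟨m, hm⟩ := heven
  subst hm
  have hm2 : 2 ≤ m := by omega
  have hdiv : (m + m) / 2 = m := by omega
  rw [hdiv]
  have hv : padicValNat 2 (m + m) = padicValNat 2 m + 1 := by
    rw [← two_mul, padicValNat.mul (by norm_num) (by omega), padicValNat_self]
    ring
  rw [hv, Nat.lt_succ_iff]
  constructor
  · rintro ⟨g, hg⟩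
    exact Cfsg.Agent.Lib.Helper15.Eig.half_torus_of_PSU_orderOf hF hodd hm2 g hg
  · intro h
    apply Cfsg.Agent.Lib.Helper15.Eig.exists_PSU_orderOf_half_torus hF (by omega)
    exact Cfsg.Agent.Lib.Helper15.Eig.gcd_add_self_dvd m _ (by omega) (by omega) h

end Cfsg.Agent.S2496
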