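import Cfsg.Statements.S2504
import Cfsg.Agent.Lib.Helper15.AbelAlt

set_option autoImplicit false
open Cfsg

namespace Cfsg.Agent.S2504

open Cfsg.Agent.Lib.Helper15

theorem upper_sym (n : ℕ) (A : Subgroup (alternatingGroup (Fin n))) (hA : IsMulCommutative A) :
    Nat.card A ≤ maxProd n := by
  classical
  have hc : Nat.card (A.map (alternatingGroup (Fin n)).subtype) = Nat.card A :=
    Nat.card_congr (A.equivMapOfInjective _ (Subgroup.subtype_injective _)).toEquiv.symm
  rw [← hc]
  haveI : Fintype (A.map (alternatingGroup (Fin n)).subtype) := Fintype.ofFinite _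
  rw [Nat.card_eq_fintype_card]
  have hcomm : IsMulCommutative (A.map (alternatingGroup (Fin n)).subtype) := inferInstance
  have := card_le_maxProd (A := A.map (alternatingGroup (Fin n)).subtype) (X := Fin n)
    (isMulCommutative_iff.mp hcomm)
  rwa [Fintype.card_fin] at this

theorem upper_alt (n : ℕ) (A : Subgroup (alternatingGroup (Fin n))) (hA : IsMulCommutative A) :
    Nat.card A ≤ max (maxProd (n - 2)) (maxProdNoTwo n) := by
  classical
  have hc : Nat.card (A.map (alternatingGroup (Fin n)).subtype) = Nat.card A :=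
    Nat.card_congr (A.equivMapOfInjective _ (Subgroup.subtype_injective _)).toEquiv.symm
  rw [← hc]
  have hcomm : IsMulCommutative (A.map (alternatingGroup (Fin n)).subtype) := inferInstance
  have := card_le_of_even (X := Fin n) (A.map (alternatingGroup (Fin n)).subtype)
    (isMulCommutative_iff.mp hcomm) (by
      rintro _ ⟨x, _, rfl⟩
      exact Equiv.Perm.mem_alternatingGroup.mp x.2)
  rwa [Fintype.card_fin] at this

/-- The largest order of an abelian subgroup of the alternating group of degree n is 3^k when n = 3k, 4·3^(k−1) when n = 3k + 1, and 16·3^(k−2) when n = 3k + 2, for every k ≥ 2 (so for all degrees n ≥ 6). -/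
theorem result (k : ℕ) (hk : 2 ≤ k) :
    IsGreatest {c : ℕ | ∃ A : Subgroup (alternatingGroup (Fin (3 * k))), IsMulCommutative A ∧ Nat.card A = c} (3 ^ k) ∧
    IsGreatest {c : ℕ | ∃ A : Subgroup (alternatingGroup (Fin (3 * k + 1))), IsMulCommutative A ∧ Nat.card A = c}
      (4 * 3 ^ (k - 1)) ∧
    IsGreatest {c : ℕ | ∃ A : Subgroup (alternatingGroup (Fin (3 * k + 2))), IsMulCommutative A ∧ Nat.card A = c}
      (16 * 3 ^ (k - 2)) := by
  obtain ⟨j, rfl⟩ : ∃ j, k = j + 2 := ⟨k - 2, by omega⟩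
  refine ⟨⟨?_, ?_⟩, ⟨?_, ?_⟩, ⟨?_, ?_⟩⟩
  · have := exists_comm_subgroup_alt_card (j + 2) 0
    rw [show 3 * (j + 2) + 4 * 0 = 3 * (j + 2) by ring, show 3 ^ (j + 2) * 4 ^ 0 = 3 ^ (j + 2) by ring] at this
    exact this
  · rintro c ⟨A, hA, rfl⟩
    rw [← maxProd_three_mul]
    exact upper_sym _ A hA
  · have := exists_comm_subgroup_alt_card (j + 1) 1
    rw [show 3 * (j + 1) + 4 * 1 = 3 * (j + 2) + 1 by ring,
      show 3 ^ (j + 1) * 4 ^ 1 = 4 * 3 ^ (j + 2 - 1) by simp; ring] at this
    exact this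
  · rintro c ⟨A, hA, rfl⟩
    rw [← maxProd_three_mul_add_one _ (by omega)]
    exact upper_sym _ A hA
  · have := exists_comm_subgroup_alt_card j 2
    rw [show 3 * j + 4 * 2 = 3 * (j + 2) + 2 by ring,
      show 3 ^ j * 4 ^ 2 = 16 * 3 ^ (j + 2 - 2) by simp; ring] at this
    exact this
  · rintro c ⟨A, hA, rfl⟩
    have h := upper_alt _ A hA
    rw [show 3 * (j + 2) + 2 - 2 = 3 * (j + 2) by omega, maxProd_three_mul,
      maxProdNoTwo_three_mul_add_two _ hk] at h
    simp only [Nat.add_sub_cancel] at h ⊢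
    have h9 : 3 ^ (j + 2) ≤ 16 * 3 ^ j := by rw [pow_add]; norm_num; omega
    exact le_trans h (max_le h9 le_rfl)

end Cfsg.Agent.S2504
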