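import Cfsg.Statements.S2505
import Cfsg.Agent.Lib.Helper15.AbelSym

set_option autoImplicit false
open Cfsg

namespace Cfsg.Agent.S2505

open Cfsg.Agent.Lib.Helper15

theorem upper (n : ℕ) (A : Subgroup (Equiv.Perm (Fin n))) (hA : IsMulCommutative A) :
    Nat.card A ≤ maxProd n := by
  classical
  haveI : Fintype A := Fintype.ofFinite _
  rw [Nat.card_eq_fintype_card]
  have := card_le_maxProd (A := A) (X := Fin n) (isMulCommutative_iff.mp hA)
  rwa [Fintype.card_fin] at this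

/-- The largest order of an abelian subgroup of the symmetric group of degree n is 3^k when n = 3k, 4·3^(k−1) when n = 3k + 1, and 2·3^k when n = 3k + 2, for every k ≥ 1. -/
theorem result (k : ℕ) (hk : 1 ≤ k) :
    IsGreatest {c : ℕ | ∃ A : Subgroup (Equiv.Perm (Fin (3 * k))), IsMulCommutative A ∧ Nat.card A = c} (3 ^ k) ∧
    IsGreatest {c : ℕ | ∃ A : Subgroup (Equiv.Perm (Fin (3 * k + 1))), IsMulCommutative A ∧ Nat.card A = c}
      (4 * 3 ^ (k - 1)) ∧
    IsGreatest {c : ℕ | ∃ A : Subgroup (Equiv.Perm (Fin (3 * k + 2))), IsMulCommutative A ∧ Nat.card A = c}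
      (2 * 3 ^ k) := by
  obtain ⟨j, rfl⟩ : ∃ j, k = j + 1 := ⟨k - 1, by omega⟩
  refine ⟨⟨?_, ?_⟩, ⟨?_, ?_⟩, ⟨?_, ?_⟩⟩
  · have := exists_comm_subgroup_card j 3
    rw [show 3 * j + 3 = 3 * (j + 1) by ring, show 3 ^ j * 3 = 3 ^ (j + 1) by ring] at this
    exact this
  · rintro c ⟨A, hA, rfl⟩
    rw [← maxProd_three_mul]
    exact upper _ A hA
  · have := exists_comm_subgroup_card j 4
    rw [show 3 * j + 4 = 3 * (j + 1) + 1 by ring, show 3 ^ j * 4 = 4 * 3 ^ (j + 1 - 1) by simp; ring] at this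
    exact this
  · rintro c ⟨A, hA, rfl⟩
    rw [← maxProd_three_mul_add_one _ hk]
    exact upper _ A hA
  · have := exists_comm_subgroup_card (j + 1) 2
    rw [show 3 ^ (j + 1) * 2 = 2 * 3 ^ (j + 1) by ring] at this
    exact this
  · rintro c ⟨A, hA, rfl⟩
    rw [← maxProd_three_mul_add_two]
    exact upper _ A hA

end Cfsg.Agent.S2505
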