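import Cfsg.Statements.S2507
import Cfsg.Agent.Lib.Helper15.PSL2ClassEven

set_option autoImplicit false
open Cfsg

namespace Cfsg.Agent.S2507

/-- Let F be a finite field with q = 2^f ≥ 4 elements. The conjugacy class sizes of PSL(2,F) are exactly 1, q(q − 1), q² − 1 and q(q + 1). -/
theorem result {F : Type*} [Field F] [Fintype F]
    (h2 : 2 ∣ Fintype.card F) (h4 : 4 ≤ Fintype.card F) :
    Set.range (fun g : (Matrix.ProjectiveSpecialLinearGroup (Fin 2) F) => (Subgroup.centralizer ({g} : Set (Matrix.ProjectiveSpecialLinearGroup (Fin 2) F))).index) =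
      {1, Fintype.card F * (Fintype.card F - 1), Fintype.card F ^ 2 - 1, Fintype.card F * (Fintype.card F + 1)} := by
  obtain ⟨p, hp⟩ := CharP.exists F
  have hpp : Fact p.Prime := ⟨CharP.char_is_prime F p⟩
  obtain ⟨n, hn⟩ := FiniteField.card F p
  have hp2 : p = 2 := by
    rw [hn.2] at h2
    exact ((Nat.prime_dvd_prime_iff_eq Nat.prime_two hn.1).1 (Nat.Prime.dvd_of_dvd_pow Nat.prime_two h2)).symm
  subst hp2
  exact Cfsg.Agent.Lib.Helper15.range_index_centralizer_PSL2 (by omega)

end Cfsg.Agent.S2507
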