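import Cfsg.Statements.S2510
import Cfsg.Agent.Lib.Helper15.Spr8

set_option autoImplicit false
open Cfsg

namespace Cfsg.Agent.S2510

/-- Let F be a finite field with q = p^a elements, n ≥ 2 (with q ≥ 4 when n = 2), L = PSL(n, F), and let r be a prime dividing q − 1 and not dividing n. Then for every m the direct product L × L × L × (ℤ/r)^m has the same set of element orders as L × L × L; and if n − 1 ≠ p^j for every j ≥ 0 (so never when n = 2, since 1 = p^0), then already L × L × (ℤ/r)^m has the same set of element orders as L × L. -/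
theorem result {F : Type*} [Field F] [Fintype F] (p a n r m : ℕ) (hp : p.Prime) (ha : 1 ≤ a) (hF : Fintype.card F = p ^ a)
    (hn : 2 ≤ n) (hn2 : n = 2 → 4 ≤ Fintype.card F) (hr : r.Prime) (hrq : r ∣ Fintype.card F - 1) (hrn : ¬ r ∣ n) :
    Set.range (orderOf : Matrix.ProjectiveSpecialLinearGroup (Fin n) F × Matrix.ProjectiveSpecialLinearGroup (Fin n) F × Matrix.ProjectiveSpecialLinearGroup (Fin n) F × Multiplicative (Fin m → ZMod r) → ℕ) =
      Set.range (orderOf : Matrix.ProjectiveSpecialLinearGroup (Fin n) F × Matrix.ProjectiveSpecialLinearGroup (Fin n) F × Matrix.ProjectiveSpecialLinearGroup (Fin n) F → ℕ) ∧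
    ((¬ ∃ j : ℕ, n - 1 = p ^ j) →
      Set.range (orderOf : Matrix.ProjectiveSpecialLinearGroup (Fin n) F × Matrix.ProjectiveSpecialLinearGroup (Fin n) F × Multiplicative (Fin m → ZMod r) → ℕ) =
        Set.range (orderOf : Matrix.ProjectiveSpecialLinearGroup (Fin n) F × Matrix.ProjectiveSpecialLinearGroup (Fin n) F → ℕ)) := by
  classical
  have hcp : CharP F p := Cfsg.Agent.Lib.Helper15.Spr.charP_of_card p a hp hF
  have hfp : Fact p.Prime := ⟨hp⟩
  have hn0 : 0 < n := by omega
  obtain ⟨gS, hgS⟩ := Cfsg.Agent.Lib.Helper15.Spr.exists_singer (F := F) hn0 p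
  have hS : ∀ u, u ∣ Cfsg.Agent.Lib.Helper15.Spr.SS (Fintype.card F) n →
      ∃ g : Matrix.ProjectiveSpecialLinearGroup (Fin n) F, orderOf g = u := by
    intro u hu
    rw [← hgS] at hu
    exact Cfsg.Agent.Lib.Helper15.Spr.exists_orderOf_of_dvd_psl gS hu
  have hR := Cfsg.Agent.Lib.Helper15.Spr.exists_order_r (F := F) hn r hr hrq hrn
  have hK := Cfsg.Agent.Lib.Helper15.Spr.lemmaK (F := F) hn0 p r hr hrq hrn
  constructor
  · apply Cfsg.Agent.Lib.Helper15.Spr.range3 r hr (Cfsg.Agent.Lib.Helper15.Spr.pow_eq_one_elementary m r)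
    apply Cfsg.Agent.Lib.Helper15.Spr.assembly3 p r _ hR hS
    intro g
    rcases hK g with h | h | ⟨g', hg'⟩
    · exact Or.inl h
    · exact Or.inr (Or.inl h.2)
    · exact Or.inr (Or.inr (Cfsg.Agent.Lib.Helper15.Spr.exists_orderOf_of_dvd_psl g' hg'))
  · intro hno
    apply Cfsg.Agent.Lib.Helper15.Spr.range2 r hr (Cfsg.Agent.Lib.Helper15.Spr.pow_eq_one_elementary m r)
    apply Cfsg.Agent.Lib.Helper15.Spr.assembly2 r _ hR hS
    intro g
    rcases hK g with h | h | ⟨g', hg'⟩
    · exact Or.inl h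
    · exact absurd h.1 hno
    · exact Or.inr (Cfsg.Agent.Lib.Helper15.Spr.exists_orderOf_of_dvd_psl g' hg')

end Cfsg.Agent.S2510
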