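import Cfsg.Statements.S2511
import Cfsg.Agent.Lib.Helper15.Spu12

set_option autoImplicit false
open Cfsg

namespace Cfsg.Agent.S2511

/-- Let F be a finite field with q² elements, q = p^a, n ≥ 3 with (n, q) ≠ (3, 2), L = PSU(n, q) realised over F, and let r be a prime dividing q + 1 and not dividing n. Then for every m the direct product L × L × L × (ℤ/r)^m has the same set of element orders as L × L × L; and if n − 1 is not a power of p, then already L × L × (ℤ/r)^m has the same set of element orders as L × L. -/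
theorem result {F : Type*} [Field F] [Fintype F] (p a n q r m : ℕ) (hp : p.Prime) (ha : 1 ≤ a) (hq : q = p ^ a) (hF : Fintype.card F = q ^ 2)
    (hn : 3 ≤ n) (hn3 : ¬ (n = 3 ∧ q = 2)) (hr : r.Prime) (hrq : r ∣ q + 1) (hrn : ¬ r ∣ n) :
    Set.range (orderOf : Cfsg.PSU n F q × Cfsg.PSU n F q × Cfsg.PSU n F q × Multiplicative (Fin m → ZMod r) → ℕ) = Set.range (orderOf : Cfsg.PSU n F q × Cfsg.PSU n F q × Cfsg.PSU n F q → ℕ) ∧
    ((¬ ∃ j : ℕ, n - 1 = p ^ j) →
      Set.range (orderOf : Cfsg.PSU n F q × Cfsg.PSU n F q × Multiplicative (Fin m → ZMod r) → ℕ) = Set.range (orderOf : Cfsg.PSU n F q × Cfsg.PSU n F q → ℕ)) := by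
  classical
  have hcp : CharP F p := Cfsg.Agent.Lib.Helper15.Spr.charP_of_card p (2 * a) hp (by
    rw [hF, hq, ← pow_mul, mul_comm])
  have hfp : Fact p.Prime := ⟨hp⟩
  have hn2 : 2 ≤ n := by omega
  obtain ⟨gS, hgS⟩ := Cfsg.Agent.Lib.Helper15.Spu.exists_singer_su hF hn2 p
  have hS : ∀ u, u ∣ Cfsg.Agent.Lib.Helper15.Spu.SSU q n →
      ∃ g : Cfsg.PSU n F q, orderOf g = u := by
    intro u hu
    rw [← hgS] at hu
    exact Cfsg.Agent.Lib.Helper15.Spu.exists_orderOf_of_dvd_psu gS hu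
  have hR := Cfsg.Agent.Lib.Helper15.Spu.exists_order_r_su hF hn2 r hr hrq hrn
  have hK := Cfsg.Agent.Lib.Helper15.Spu.lemmaK_su hF hn2 p r hr hrq hrn
  constructor
  · apply Cfsg.Agent.Lib.Helper15.Spr.range3 r hr (Cfsg.Agent.Lib.Helper15.Spr.pow_eq_one_elementary m r)
    apply Cfsg.Agent.Lib.Helper15.Spr.assembly3 p r _ hR hS
    intro g
    rcases hK g with h | h | ⟨g', hg'⟩
    · exact Or.inl h
    · exact Or.inr (Or.inl h.2)
    · exact Or.inr (Or.inr (Cfsg.Agent.Lib.Helper15.Spu.exists_orderOf_of_dvd_psu g' hg'))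
  · intro hno
    apply Cfsg.Agent.Lib.Helper15.Spr.range2 r hr (Cfsg.Agent.Lib.Helper15.Spr.pow_eq_one_elementary m r)
    apply Cfsg.Agent.Lib.Helper15.Spr.assembly2 r _ hR hS
    intro g
    rcases hK g with h | h | ⟨g', hg'⟩
    · exact Or.inl h
    · exact absurd h.1 hno
    · exact Or.inr (Cfsg.Agent.Lib.Helper15.Spu.exists_orderOf_of_dvd_psu g' hg')

end Cfsg.Agent.S2511
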