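import Cfsg.Statements.S2512
import Cfsg.Agent.Lib.Helper15.Sps11

set_option autoImplicit false
open Cfsg

namespace Cfsg.Agent.S2512

/-- Let F be a finite field of odd order q = p^a, n ≥ 2 (with q ≥ 3 automatic), and L = PSp(2n, F). Then for every m the direct product L × L × L × (ℤ/2)^m has the same set of element orders as L × L × L; and if 2n − 1 is not a power of p, then already L × L × (ℤ/2)^m has the same set of element orders as L × L. -/
theorem result {F : Type*} [Field F] [Fintype F] (p a n m : ℕ) (hp : p.Prime) (ha : 1 ≤ a) (hF : Fintype.card F = p ^ a) (hodd : Odd (Fintype.card F))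
    (hn : 2 ≤ n) :
    Set.range (orderOf : Cfsg.PSp n F × Cfsg.PSp n F × Cfsg.PSp n F × Multiplicative (Fin m → ZMod 2) → ℕ) = Set.range (orderOf : Cfsg.PSp n F × Cfsg.PSp n F × Cfsg.PSp n F → ℕ) ∧
    ((¬ ∃ j : ℕ, 2 * n - 1 = p ^ j) →
      Set.range (orderOf : Cfsg.PSp n F × Cfsg.PSp n F × Multiplicative (Fin m → ZMod 2) → ℕ) = Set.range (orderOf : Cfsg.PSp n F × Cfsg.PSp n F → ℕ)) := by
  classical
  have hcp : CharP F p := Cfsg.Agent.Lib.Helper15.Spr.charP_of_card p a hp hF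
  have hfp : Fact p.Prime := ⟨hp⟩
  have hn1 : 1 ≤ n := by omega
  obtain ⟨g₁, hg₁⟩ := Cfsg.Agent.Lib.Helper15.Sps.exists_singer_plus (F := F) hn1 p hodd
  obtain ⟨g₂, hg₂⟩ := Cfsg.Agent.Lib.Helper15.Sps.exists_singer_minus (F := F) hn1 p hodd
  have hS₁ : ∀ u, u ∣ (Fintype.card F ^ n + 1) / 2 → ∃ g : Cfsg.PSp n F, orderOf g = u := by
    intro u hu
    rw [← hg₁] at hu
    exact Cfsg.Agent.Lib.Helper15.Sps.exists_orderOf_of_dvd_psp g₁ hu
  have hS₂ : ∀ u, u ∣ (Fintype.card F ^ n - 1) / 2 → ∃ g : Cfsg.PSp n F, orderOf g = u := by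
    intro u hu
    rw [← hg₂] at hu
    exact Cfsg.Agent.Lib.Helper15.Sps.exists_orderOf_of_dvd_psp g₂ hu
  have hR := Cfsg.Agent.Lib.Helper15.Sps.exists_order_two_sp (F := F) hn p hodd
  have hrS : 2 ∣ (Fintype.card F ^ n + 1) / 2 ∨ 2 ∣ (Fintype.card F ^ n - 1) / 2 := by
    obtain ⟨t, ht⟩ := hodd.pow (n := n)
    rw [ht]
    omega
  have hK := Cfsg.Agent.Lib.Helper15.Sps.lemmaK_sp (F := F) hn p hodd
  constructor
  · apply Cfsg.Agent.Lib.Helper15.Spr.range3 2 Nat.prime_two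
      (Cfsg.Agent.Lib.Helper15.Spr.pow_eq_one_elementary m 2)
    apply Cfsg.Agent.Lib.Helper15.Sps.assembly3' p 2 _ _ hR hS₁ hS₂ hrS
    intro g
    rcases hK g with h | h | h | ⟨g', hg'⟩
    · exact Or.inl h
    · exact Or.inr (Or.inl h)
    · exact Or.inr (Or.inr (Or.inl h.2))
    · exact Or.inr (Or.inr (Or.inr
        (Cfsg.Agent.Lib.Helper15.Sps.exists_orderOf_of_dvd_psp g' hg')))
  · intro hno
    apply Cfsg.Agent.Lib.Helper15.Spr.range2 2 Nat.prime_two
      (Cfsg.Agent.Lib.Helper15.Spr.pow_eq_one_elementary m 2)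
    apply Cfsg.Agent.Lib.Helper15.Sps.assembly2' 2 _ _ hR hS₁ hS₂ hrS
    intro g
    rcases hK g with h | h | h | ⟨g', hg'⟩
    · exact Or.inl h
    · exact Or.inr (Or.inl h)
    · exact absurd h.1 hno
    · exact Or.inr (Or.inr (Cfsg.Agent.Lib.Helper15.Sps.exists_orderOf_of_dvd_psp g' hg'))

end Cfsg.Agent.S2512
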