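import Cfsg.Statements.S2514
import Mathlib

set_option autoImplicit false
open Cfsg

namespace Cfsg.Agent.S2514

/-- Element orders are closed under divisors. -/
theorem exists_orderOf_eq_of_dvd {X : Type*} [Group X] [Finite X] (x : X) (d : ℕ) (hd : d ∣ orderOf x) :
    ∃ y : X, orderOf y = d :=
  ⟨x ^ (orderOf x / d), orderOf_pow_orderOf_div (orderOf_pos x).ne' hd⟩

/-- Every element order divides a maximal one. -/
theorem exists_maximal_order {X : Type*} [Group X] [Finite X] (n : ℕ) (hn : n ∈ Set.range (orderOf : X → ℕ)) :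
    ∃ m, (m ∈ Set.range (orderOf : X → ℕ) ∧ ∀ m' ∈ Set.range (orderOf : X → ℕ), m ∣ m' → m' = m) ∧ n ∣ m := by
  induction' hk : Nat.card X - n using Nat.strong_induction_on with k ih generalizing n
  by_cases hmax : ∀ m' ∈ Set.range (orderOf : X → ℕ), n ∣ m' → m' = n
  · exact ⟨n, ⟨hn, hmax⟩, dvd_rfl⟩
  · push Not at hmax
    obtain ⟨m', hm', hdvd, hne⟩ := hmax
    obtain ⟨y, rfl⟩ := hm'
    have hpos : 0 < orderOf y := orderOf_pos y
    have hle : n ≤ orderOf y := Nat.le_of_dvd hpos hdvd
    have hlt : n < orderOf y := lt_of_le_of_ne hle (Ne.symm hne)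
    have hcard : orderOf y ≤ Nat.card X := orderOf_le_card
    obtain ⟨m, hm, hdm⟩ := ih (Nat.card X - orderOf y) (by omega) (orderOf y) ⟨y, rfl⟩ rfl
    exact ⟨m, hm, hdvd.trans hdm⟩

/-- For a finite group X write μ(X) for the set of element orders of X that are maximal under divisibility. Let G and H be finite groups and k ≥ 1 such that μ(H) ⊆ μ(G) and μ(G) has fewer than k elements outside μ(H). Then the direct product of k copies of G has the same set of element orders as the direct product of k − 1 copies of G with H. -/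
theorem result {G H : Type*} [Group G] [Finite G] [Group H] [Finite H] (k : ℕ) (hk : 1 ≤ k)
    (hsub : {n : ℕ | n ∈ Set.range (orderOf : H → ℕ) ∧ ∀ m ∈ Set.range (orderOf : H → ℕ), n ∣ m → m = n} ⊆ {n : ℕ | n ∈ Set.range (orderOf : G → ℕ) ∧ ∀ m ∈ Set.range (orderOf : G → ℕ), n ∣ m → m = n})
    (hfew : ({n : ℕ | n ∈ Set.range (orderOf : G → ℕ) ∧ ∀ m ∈ Set.range (orderOf : G → ℕ), n ∣ m → m = n} \ {n : ℕ | n ∈ Set.range (orderOf : H → ℕ) ∧ ∀ m ∈ Set.range (orderOf : H → ℕ), n ∣ m → m = n}).ncard < k) :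
    Set.range (orderOf : (Fin k → G) → ℕ) = Set.range (orderOf : (Fin (k - 1) → G) × H → ℕ) := by
  classical
  obtain ⟨k', rfl⟩ : ∃ k', k = k' + 1 := ⟨k - 1, by omega⟩
  change Set.range (orderOf : (Fin (k' + 1) → G) → ℕ) = Set.range (orderOf : (Fin k' → G) × H → ℕ)
  set μG := {n : ℕ | n ∈ Set.range (orderOf : G → ℕ) ∧ ∀ m ∈ Set.range (orderOf : G → ℕ), n ∣ m → m = n} with hμG
  set μH := {n : ℕ | n ∈ Set.range (orderOf : H → ℕ) ∧ ∀ m ∈ Set.range (orderOf : H → ℕ), n ∣ m → m = n} with hμH
  -- orders in products via divisibility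
  have hpi : ∀ (j : ℕ) (f : Fin j → G) (N : ℕ), f ^ N = 1 ↔ ∀ i, orderOf (f i) ∣ N := by
    intro j f N
    simp only [orderOf_dvd_iff_pow_eq_one]
    constructor
    · intro h i
      have := congrFun h i
      simpa using this
    · intro h
      funext i
      simpa using h i
  have hprod : ∀ (f : Fin k' → G) (h : H) (N : ℕ), (f, h) ^ N = 1 ↔ (∀ i, orderOf (f i) ∣ N) ∧ orderOf h ∣ N := by
    intro f h N
    rw [Prod.ext_iff]
    simp only [Prod.pow_fst, Prod.pow_snd, Prod.fst_one, Prod.snd_one, hpi, orderOf_dvd_iff_pow_eq_one]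
  apply Set.eq_of_subset_of_subset
  · rintro _ ⟨f, rfl⟩
    by_cases hcase : ∃ i, ∃ m ∈ μH, orderOf (f i) ∣ m
    · obtain ⟨i, m, hm, hdvd⟩ := hcase
      obtain ⟨h0, rfl⟩ := hm.1
      obtain ⟨h, hh⟩ := exists_orderOf_eq_of_dvd h0 _ hdvd
      refine ⟨(fun j => f (i.succAbove j), h), ?_⟩
      symm
      rw [orderOf_eq_orderOf_iff]
      intro N
      rw [hpi, hprod, Fin.forall_iff_succAbove i, hh, and_comm]
    · push Not at hcase
      -- choose maximal orders
      have hch : ∀ i, ∃ m, m ∈ μG ∧ orderOf (f i) ∣ m := fun i => exists_maximal_order _ ⟨f i, rfl⟩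
      choose m hm hdvd using hch
      have hmem : ∀ i, m i ∈ μG \ μH := fun i => ⟨hm i, fun h => hcase i (m i) h (hdvd i)⟩
      have hfin : (μG \ μH).Finite := by
        apply Set.Finite.subset (Set.finite_range (orderOf : G → ℕ))
        rintro n ⟨hn, -⟩
        exact hn.1
      have : Fintype ↥(μG \ μH) := hfin.fintype
      have hcard : Fintype.card ↥(μG \ μH) < Fintype.card (Fin (k' + 1)) := by
        rw [Fintype.card_fin, ← Nat.card_eq_fintype_card, Nat.card_coe_set_eq]
        exact hfew
      obtain ⟨i, j, hij, heq⟩ := Fintype.exists_ne_map_eq_of_card_lt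
        (fun i => (⟨m i, hmem i⟩ : ↥(μG \ μH))) hcard
      have heq' : m i = m j := congrArg Subtype.val heq
      obtain ⟨g0, hg0⟩ := (hm i).1
      have hlcm : Nat.lcm (orderOf (f i)) (orderOf (f j)) ∣ orderOf g0 := by
        rw [hg0]
        exact Nat.lcm_dvd (hdvd i) (heq' ▸ hdvd j)
      obtain ⟨g', hg'⟩ := exists_orderOf_eq_of_dvd g0 _ hlcm
      refine ⟨(fun l => Function.update f i g' (j.succAbove l), 1), ?_⟩
      symm
      rw [orderOf_eq_orderOf_iff]
      intro N
      rw [hpi, hprod]
      simp only [orderOf_one, one_dvd, and_true]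
      obtain ⟨i', hi'⟩ := Fin.exists_succAbove_eq hij
      constructor
      · intro h l
        by_cases hli : j.succAbove l = i
        · rw [hli, Function.update_self, hg']
          exact Nat.lcm_dvd (h i) (h j)
        · rw [Function.update_of_ne hli]
          exact h _
      · intro h l
        by_cases hlj : l = j
        · subst hlj
          have := h i'
          rw [hi', Function.update_self, hg'] at this
          exact (Nat.lcm_dvd_iff.mp this).2
        · obtain ⟨l', hl'⟩ := Fin.exists_succAbove_eq hlj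
          have := h l'
          rw [hl'] at this
          by_cases hli : l = i
          · subst hli
            rw [Function.update_self, hg'] at this
            exact (Nat.lcm_dvd_iff.mp this).1
          · rw [Function.update_of_ne hli] at this
            exact this
  · rintro _ ⟨⟨f, h⟩, rfl⟩
    obtain ⟨m, hm, hdvd⟩ := exists_maximal_order _ ⟨h, rfl⟩
    have hmG : m ∈ μG := hsub hm
    obtain ⟨g0, rfl⟩ := hmG.1
    obtain ⟨g, hg⟩ := exists_orderOf_eq_of_dvd g0 _ hdvd
    refine ⟨Fin.cons g f, ?_⟩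
    rw [orderOf_eq_orderOf_iff]
    intro N
    rw [hpi, hprod, Fin.forall_fin_succ]
    simp only [Fin.cons_zero, Fin.cons_succ, hg, and_comm]

end Cfsg.Agent.S2514
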