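import Cfsg.Statements.S2515
import Cfsg.Agent.Lib.Helper15.Tr3f

set_option autoImplicit false
open Cfsg

namespace Cfsg.Agent.S2515

/-- Let q = 3^α with α ≥ 3 odd. There is a finite group H having a non-trivial normal 3-subgroup and whose element orders maximal under divisibility are exactly 6, 9, q − 1 and (q + 1)/2. -/
theorem result (α : ℕ) (hα : 3 ≤ α) (hodd : Odd α) :
    ∃ (H : Type) (_ : Group H) (_ : Fintype H), (∃ P : Subgroup H, P.Normal ∧ P ≠ ⊥ ∧ IsPGroup 3 ↥P) ∧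
      {n : ℕ | n ∈ Set.range (orderOf : H → ℕ) ∧ ∀ m ∈ Set.range (orderOf : H → ℕ), n ∣ m → m = n} = ({6, 9, 3 ^ α - 1, (3 ^ α + 1) / 2} : Set ℕ) := by
  obtain ⟨k, hk1, hk⟩ := Cfsg.Agent.Lib.Helper15.Tr3.three_pow_odd α hα hodd
  have hα0 : α ≠ 0 := by omega
  let _inst : Fintype (GaloisField 3 α) := Fintype.ofFinite _
  have hcard : Fintype.card (GaloisField 3 α) = 24 * k + 3 := by
    rw [← Nat.card_eq_fintype_card, GaloisField.card 3 α hα0, hk]
  refine ⟨Cfsg.Agent.Lib.Helper15.Tr3.HH (GaloisField 3 α), inferInstance, Fintype.ofFinite _,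
    Cfsg.Agent.Lib.Helper15.Tr3.exists_normal_three, ?_⟩
  have := Cfsg.Agent.Lib.Helper15.Tr3.maximal_orders (F := GaloisField 3 α) k hk1 hcard
  rw [hcard, ← hk] at this
  exact this

end Cfsg.Agent.S2515
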