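import Cfsg.Statements.S2516
import Mathlib

set_option autoImplicit false
open Cfsg

namespace Cfsg.Agent.S2516

variable {F : Type*} [Field F] {V : Type*} [AddCommGroup V] [Module F V] {G : Type*} [Group G]

/-- the action of `G` on `Multiplicative V` used in the statement -/
abbrev act (ρ : Representation F G V) : G →* MulAut (Multiplicative V) :=
  (MulAutMultiplicative V).symm.toMonoidHom.comp
        ((DistribMulAction.toAddAut ((V →ₗ[F] V)ˣ) V).comp ρ.asGroupHom)

theorem act_apply (ρ : Representation F G V) (g : G) (a : Multiplicative V) :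
    act ρ g a = Multiplicative.ofAdd (ρ g (Multiplicative.toAdd a)) := rfl

theorem pow_right' (ρ : Representation F G V) (x : Multiplicative V ⋊[act ρ] G) (n : ℕ) :
    (x ^ n).right = x.right ^ n := by
  induction n with
  | zero => simp
  | succ n ih => rw [pow_succ, pow_succ, SemidirectProduct.mul_right, ih]

theorem pow_left' (ρ : Representation F G V) (x : Multiplicative V ⋊[act ρ] G) (n : ℕ) :
    Multiplicative.toAdd (x ^ n).left =
      ∑ i ∈ Finset.range n, ((ρ x.right) ^ i) (Multiplicative.toAdd x.left) := by
  induction n with
  | zero => simp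
  | succ n ih =>
    rw [pow_succ', SemidirectProduct.mul_left, toAdd_mul, act_apply, toAdd_ofAdd, ih, map_sum,
      Finset.sum_range_succ', pow_zero, Module.End.one_apply, add_comm]
    congr 1
    refine Finset.sum_congr rfl fun i _ => ?_
    rw [pow_succ', Module.End.mul_apply]

theorem aeval_sum (ρ : Representation F G V) (g : G) (k : ℕ) :
    Polynomial.aeval (ρ g) (∑ i ∈ Finset.range k, (Polynomial.X : Polynomial F) ^ i) =
      ∑ i ∈ Finset.range k, (ρ g) ^ i := by
  simp [map_sum]

/-- Let F be a field of characteristic p > 0, V a non-zero finite-dimensional F-vector space, G a finite group and ρ a representation of G on V; form the semidirect product V ⋊ G. For g ∈ G of order k, the coset Vg contains an element of order pk if and only if the minimal polynomial of ρ(g) does not divide 1 + X + ⋯ + X^(k−1). -/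
theorem result {F : Type*} [Field F] (p : ℕ) [Fact p.Prime] [CharP F p] {V : Type*} [AddCommGroup V] [Module F V] [FiniteDimensional F V] [Nontrivial V]
    {G : Type*} [Group G] [Finite G] (ρ : Representation F G V) (g : G) :
    (∃ x : Multiplicative V ⋊[(MulAutMultiplicative V).symm.toMonoidHom.comp
        ((DistribMulAction.toAddAut ((V →ₗ[F] V)ˣ) V).comp ρ.asGroupHom)] G,
        x.right = g ∧ orderOf x = p * orderOf g) ↔
      ¬ (minpoly F (ρ g) ∣ ∑ i ∈ Finset.range (orderOf g), (Polynomial.X : Polynomial F) ^ i) := by
  have hpp : p.Prime := Fact.out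
  have hk : 0 < orderOf g := orderOf_pos g
  rw [minpoly.dvd_iff, aeval_sum]
  constructor
  · rintro ⟨x, hxr, hxo⟩ hN
    have h1 : x ^ orderOf g = 1 := by
      apply SemidirectProduct.ext
      · have := pow_left' ρ x (orderOf g)
        rw [hxr, ← LinearMap.sum_apply, hN] at this
        simp only [LinearMap.zero_apply] at this
        rw [SemidirectProduct.one_left]
        exact this
      · rw [pow_right', hxr, pow_orderOf_eq_one, SemidirectProduct.one_right]
    have h2 := orderOf_dvd_of_pow_eq_one h1
    rw [hxo] at h2
    have h3 := Nat.le_of_dvd hk h2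
    have := hpp.two_le
    nlinarith
  · intro hN
    obtain ⟨v, hv⟩ : ∃ v, (∑ i ∈ Finset.range (orderOf g), (ρ g) ^ i) v ≠ 0 := by
      by_contra hcon
      push Not at hcon
      exact hN (LinearMap.ext hcon)
    let x : Multiplicative V ⋊[act ρ] G := ⟨Multiplicative.ofAdd v, g⟩
    refine ⟨x, rfl, ?_⟩
    have hxr : x.right = g := rfl
    have hxl : Multiplicative.toAdd x.left = v := rfl
    -- `x ^ k` has trivial right part
    have hyr : (x ^ orderOf g).right = 1 := by rw [pow_right', hxr, pow_orderOf_eq_one]
    have hyl : Multiplicative.toAdd (x ^ orderOf g).left = (∑ i ∈ Finset.range (orderOf g), (ρ g) ^ i) v := by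
      rw [pow_left', hxr, hxl, LinearMap.sum_apply]
    have h1 : x ^ (orderOf g * p) = 1 := by
      rw [pow_mul]
      apply SemidirectProduct.ext
      · have := pow_left' ρ (x ^ orderOf g) p
        rw [hyr, map_one] at this
        simp only [one_pow, Module.End.one_apply, Finset.sum_const, Finset.card_range] at this
        rw [← Nat.cast_smul_eq_nsmul F, CharP.cast_eq_zero F p, zero_smul] at this
        rw [SemidirectProduct.one_left]
        exact this
      · rw [pow_right', hyr, one_pow, SemidirectProduct.one_right]
    have h2 : orderOf x ∣ orderOf g * p := orderOf_dvd_of_pow_eq_one h1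
    have h3 : orderOf g ∣ orderOf x := by
      apply orderOf_dvd_of_pow_eq_one
      have := pow_right' ρ x (orderOf x)
      rw [pow_orderOf_eq_one, SemidirectProduct.one_right, hxr] at this
      exact this.symm
    obtain ⟨d, hd⟩ := h3
    rw [hd] at h2
    have h4 : d ∣ p := (Nat.mul_dvd_mul_iff_left hk).mp h2
    rcases (Nat.dvd_prime hpp).mp h4 with h5 | h5
    · exfalso
      rw [h5, mul_one] at hd
      have h6 : x ^ orderOf g = 1 := by rw [← hd]; exact pow_orderOf_eq_one x
      apply hv
      rw [← hyl, h6, SemidirectProduct.one_left]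
      rfl
    · rw [hd, h5, mul_comm]

end Cfsg.Agent.S2516
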