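import Cfsg.Statements.S2518
import Cfsg.Agent.Lib.Helper27.G23Fin
import Cfsg.Agent.S2475
import Cfsg.Agent.Lib.Helper8.ChevFld1

set_option autoImplicit false
open Cfsg

namespace Cfsg.Agent.S2518

open Cfsg.Lie Cfsg.Agent.Lib.Helper27.G23Comp Cfsg.Agent.Lib.Helper27.G23Main

/-- base change of the Chevalley group of type `G₂` along an isomorphism of fields -/
theorem nonempty_group_equiv {F F' : Type*} [Field F] [Field F'] (e : F ≃+* F') :
    Nonempty (↥(chevG2.group F) ≃* ↥(chevG2.group F')) := by
  let f : ↥(chevG2.group F) →* ↥(chevG2.group F') :=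
    ((Cfsg.Agent.Lib.Helper8.Chev.bc chevG2 e.toRingHom).comp (chevG2.group F).subtype).codRestrict
      (chevG2.group F') fun g => Cfsg.Agent.Lib.Helper8.Chev.bc_mem_group e.toRingHom g.2
  let f' : ↥(chevG2.group F') →* ↥(chevG2.group F) :=
    ((Cfsg.Agent.Lib.Helper8.Chev.bc chevG2 e.symm.toRingHom).comp (chevG2.group F').subtype).codRestrict
      (chevG2.group F) fun g => Cfsg.Agent.Lib.Helper8.Chev.bc_mem_group e.symm.toRingHom g.2
  refine ⟨MulEquiv.ofBijective f ⟨?_, ?_⟩⟩
  · intro g g' h
    apply Subtype.ext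
    apply Cfsg.Agent.Lib.Helper8.Chev.bc_injective (D := chevG2) e.toRingHom
    exact congrArg Subtype.val h
  · intro g
    refine ⟨f' g, ?_⟩
    apply Subtype.ext
    apply Units.ext
    show ((((g : GL chevG2.Idx F') : Matrix chevG2.Idx chevG2.Idx F').map e.symm.toRingHom).map
      e.toRingHom) = ((g : GL chevG2.Idx F') : Matrix chevG2.Idx chevG2.Idx F')
    ext i j
    simp

/-- products of two distinct primes dividing 13, 6 or 7 -/
theorem prod_cases (r s : ℕ) (hr : r.Prime) (hs : s.Prime) (hrs : r ≠ s) :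
    (r * s ∣ 13 ∨ r * s ∣ 6 ∨ r * s ∣ 7) ↔ r * s = 6 := by
  constructor
  · have h2r := hr.two_le
    have h2s := hs.two_le
    have h6 : 6 ≤ r * s := by
      rcases Nat.lt_or_ge r s with h | h
      · have : 3 ≤ s := by omega
        nlinarith
      · have : s < r := lt_of_le_of_ne h (Ne.symm hrs)
        have : 3 ≤ r := by omega
        nlinarith
    have hnp : ¬ (r * s).Prime := Nat.not_prime_mul hr.one_lt.ne' hs.one_lt.ne'
    rintro (h | h | h)
    · have := (Nat.dvd_prime (by norm_num : Nat.Prime 13)).mp h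
      rcases this with h1 | h1
      · omega
      · rw [h1] at hnp; exact absurd (by norm_num) hnp
    · exact le_antisymm (Nat.le_of_dvd (by norm_num) h) h6
    · have := (Nat.dvd_prime (by norm_num : Nat.Prime 7)).mp h
      rcases this with h1 | h1
      · omega
      · rw [h1] at hnp; exact absurd (by norm_num) hnp
  · intro h; right; left; rw [h]

/-- Let F₃ be the field with 3 elements and F₁₃ the field with 13 elements. The Chevalley group G₂(F₃) and PSL(2, F₁₃) have the same prime graph: the same prime divisors of their orders, and for distinct primes r, s an element of order rs in one iff in the other. -/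
theorem result {F : Type*} [Field F] [Fintype F] (hF : Fintype.card F = 3) {E : Type*} [Field E] [Fintype E] (hE : Fintype.card E = 13) :
    ((∀ r : ℕ, r.Prime → (r ∣ Nat.card ↥(Cfsg.Lie.chevG2.group F) ↔ r ∣ Nat.card (Matrix.ProjectiveSpecialLinearGroup (Fin 2) E))) ∧
      (∀ r s : ℕ, r.Prime → s.Prime → r ≠ s → ((∃ x : ↥(Cfsg.Lie.chevG2.group F), orderOf x = r * s) ↔ (∃ y : (Matrix.ProjectiveSpecialLinearGroup (Fin 2) E), orderOf y = r * s)))) := by
  have eF : F ≃+* ZMod 3 := (ZMod.ringEquivOfPrime F Nat.prime_three hF).symm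
  obtain ⟨e0⟩ := nonempty_group_equiv eF
  have : Fact (Nat.Prime 13) := ⟨by norm_num⟩
  have : CharP E 13 := charP_of_card_eq_prime hE
  have hrange := Cfsg.Agent.S2475.result (F := E) 13 (by rw [hE]; norm_num)
  have hspec : ∀ m : ℕ, (∃ y : Matrix.ProjectiveSpecialLinearGroup (Fin 2) E, orderOf y = m) ↔
      (m ∣ 13 ∨ m ∣ 6 ∨ m ∣ 7) := by
    intro m
    have h1 : (∃ y : Matrix.ProjectiveSpecialLinearGroup (Fin 2) E, orderOf y = m) ↔
        m ∈ Set.range (orderOf : Matrix.ProjectiveSpecialLinearGroup (Fin 2) E → ℕ) := Iff.rfl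
    rw [h1, hrange, hE]
    norm_num
  have : Finite (Matrix.ProjectiveSpecialLinearGroup (Fin 2) E) := by
    unfold Matrix.ProjectiveSpecialLinearGroup
    infer_instance
  constructor
  · intro r hr
    rw [Nat.card_congr e0.toEquiv]
    have hG := Cfsg.Agent.Lib.Helper27.G23Fin.prime_dvd_card r hr
    rw [hG]
    have : Fact r.Prime := ⟨hr⟩
    have hP : r ∣ Nat.card (Matrix.ProjectiveSpecialLinearGroup (Fin 2) E) ↔
        ∃ y : Matrix.ProjectiveSpecialLinearGroup (Fin 2) E, orderOf y = r := by
      constructor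
      · intro h
        exact exists_prime_orderOf_dvd_card' r h
      · rintro ⟨y, hy⟩
        rw [← hy]; exact orderOf_dvd_natCard y
    rw [hP, hspec]
    constructor
    · rintro (rfl | rfl | rfl | rfl) <;> norm_num
    · rintro (h | h | h)
      · right; right; right
        exact (Nat.prime_dvd_prime_iff_eq hr (by norm_num)).mp h
      · have h6 : r ∣ 2 * 3 := by norm_num; exact h
        rcases (Nat.Prime.dvd_mul hr).mp h6 with h2 | h2
        · left; exact (Nat.prime_dvd_prime_iff_eq hr Nat.prime_two).mp h2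
        · right; left; exact (Nat.prime_dvd_prime_iff_eq hr Nat.prime_three).mp h2
      · right; right; left
        exact (Nat.prime_dvd_prime_iff_eq hr (by norm_num)).mp h
  · intro r s hr hs hrs
    have hG := Cfsg.Agent.Lib.Helper27.G23Fin.pairs r s hr hs hrs
    have hL : (∃ x : ↥(chevG2.group F), orderOf x = r * s) ↔ (∃ x : ↥G, orderOf x = r * s) := by
      constructor
      · rintro ⟨x, hx⟩
        exact ⟨e0 x, by rw [MulEquiv.orderOf_eq, hx]⟩
      · rintro ⟨x, hx⟩
        exact ⟨e0.symm x, by rw [MulEquiv.orderOf_eq, hx]⟩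
    rw [hL, hG, hspec, prod_cases r s hr hs hrs]

end Cfsg.Agent.S2518
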