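import Cfsg.Statements.S2532
import Cfsg.Agent.Lib.Helper15.CentAlt

set_option autoImplicit false
open Cfsg

namespace Cfsg.Agent.S2532

open Cfsg.Agent.Lib.Helper15

/-- There is a function `f` of two natural-number arguments such that, whenever `m ≥ f(n, r)`, every subgroup of order `n` of the alternating group of degree `m` centralizes some subgroup of that alternating group isomorphic to the alternating group of degree `r`. -/
theorem result :
    ∃ f : ℕ → ℕ → ℕ, ∀ (m r : ℕ) (H : Subgroup ↥(alternatingGroup (Fin m))), f (Nat.card H) r ≤ m →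
      ∃ K : Subgroup ↥(alternatingGroup (Fin m)), Nonempty (↥K ≃* ↥(alternatingGroup (Fin r))) ∧
        K ≤ Subgroup.centralizer (H : Set ↥(alternatingGroup (Fin m))) := by
  refine ⟨fun n r => 2 ^ n * n * r, ?_⟩
  intro m r H hm
  classical
  haveI : Fintype H := Fintype.ofFinite _
  have hc : Nat.card H = Fintype.card H := Nat.card_eq_fintype_card
  obtain ⟨x, S, hS, horb⟩ := exists_points_same_stab (G := H) (X := Fin m) r
    (by rw [← hc, Fintype.card_fin]; exact hm)
  obtain ⟨Φ, hinj, hcomm, hsign⟩ := exists_hom_commuting r x S hS horb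
  let Φ' : alternatingGroup (Fin r) →* alternatingGroup (Fin m) :=
    (Φ.comp (alternatingGroup (Fin r)).subtype).codRestrict (alternatingGroup (Fin m)) (by
      intro σ
      rw [Equiv.Perm.mem_alternatingGroup]
      exact hsign _ (Equiv.Perm.mem_alternatingGroup.mp σ.2))
  have hinj' : Function.Injective Φ' := by
    intro σ τ h
    apply Subtype.ext
    apply hinj
    exact congrArg Subtype.val h
  refine ⟨Φ'.range, ⟨(MonoidHom.ofInjective hinj').symm⟩, ?_⟩
  rintro _ ⟨σ, rfl⟩
  rw [Subgroup.mem_centralizer_iff]
  intro h hh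
  apply Subtype.ext
  apply Equiv.ext
  intro y
  exact (hcomm σ ⟨h, hh⟩ y).symm

end Cfsg.Agent.S2532
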