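import Mathlib
import Cfsg.Statements.S2533

set_option autoImplicit false
open Cfsg

namespace Cfsg.Agent.S2533

open Matrix

/-- the generalized dihedral group of `(ZMod p)^3` -/
@[ext] structure HH (p : ℕ) where
  a : ZMod p
  b : ZMod p
  c : ZMod p
  s : ℤˣ

namespace HH

variable {p : ℕ}

instance : Mul (HH p) :=
  ⟨fun x y => ⟨x.a + ((x.s : ℤ) : ZMod p) * y.a, x.b + ((x.s : ℤ) : ZMod p) * y.b,
    x.c + ((x.s : ℤ) : ZMod p) * y.c, x.s * y.s⟩⟩

instance : One (HH p) := ⟨⟨0, 0, 0, 1⟩⟩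

instance : Inv (HH p) :=
  ⟨fun x => ⟨-(((x.s⁻¹ : ℤˣ) : ℤ) : ZMod p) * x.a, -(((x.s⁻¹ : ℤˣ) : ℤ) : ZMod p) * x.b,
    -(((x.s⁻¹ : ℤˣ) : ℤ) : ZMod p) * x.c, x.s⁻¹⟩⟩

theorem mul_a (x y : HH p) : (x * y).a = x.a + ((x.s : ℤ) : ZMod p) * y.a := rfl
theorem mul_b (x y : HH p) : (x * y).b = x.b + ((x.s : ℤ) : ZMod p) * y.b := rfl
theorem mul_c (x y : HH p) : (x * y).c = x.c + ((x.s : ℤ) : ZMod p) * y.c := rfl
theorem mul_s (x y : HH p) : (x * y).s = x.s * y.s := rfl
theorem one_a : (1 : HH p).a = 0 := rfl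
theorem one_b : (1 : HH p).b = 0 := rfl
theorem one_c : (1 : HH p).c = 0 := rfl
theorem one_s : (1 : HH p).s = 1 := rfl
theorem inv_a (x : HH p) : (x⁻¹).a = -(((x.s⁻¹ : ℤˣ) : ℤ) : ZMod p) * x.a := rfl
theorem inv_b (x : HH p) : (x⁻¹).b = -(((x.s⁻¹ : ℤˣ) : ℤ) : ZMod p) * x.b := rfl
theorem inv_c (x : HH p) : (x⁻¹).c = -(((x.s⁻¹ : ℤˣ) : ℤ) : ZMod p) * x.c := rfl
theorem inv_s (x : HH p) : (x⁻¹).s = x.s⁻¹ := rfl

instance : Group (HH p) :=
  Group.ofLeftAxioms
    (fun x y z => by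
      ext
      · simp only [mul_a, mul_s]; push_cast; ring
      · simp only [mul_b, mul_s]; push_cast; ring
      · simp only [mul_c, mul_s]; push_cast; ring
      · simp only [mul_s]; rw [mul_assoc])
    (fun x => by
      ext
      · simp [mul_a, one_a, one_s]
      · simp [mul_b, one_b, one_s]
      · simp [mul_c, one_c, one_s]
      · simp [mul_s, one_s])
    (fun x => by
      ext
      · simp only [mul_a, inv_a, inv_s, one_a]; ring
      · simp only [mul_b, inv_b, inv_s, one_b]; ring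
      · simp only [mul_c, inv_c, inv_s, one_c]; ring
      · simp [mul_s, inv_s, one_s])

def equivProd (p : ℕ) : HH p ≃ (ZMod p × ZMod p × ZMod p) × ℤˣ where
  toFun h := ((h.a, h.b, h.c), h.s)
  invFun x := ⟨x.1.1, x.1.2.1, x.1.2.2, x.2⟩
  left_inv h := by cases h; rfl
  right_inv x := by rcases x with ⟨⟨a, b, c⟩, s⟩; rfl

instance [NeZero p] : Finite (HH p) := Finite.of_equiv _ (equivProd p).symm

theorem card_HH (p : ℕ) : Nat.card (HH p) = 2 * p ^ 3 := by
  rw [Nat.card_congr (equivProd p), Nat.card_prod, Nat.card_prod, Nat.card_prod, Nat.card_zmod,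
    Nat.card_eq_fintype_card (α := ℤˣ), Fintype.card_units_int]
  ring

end HH

variable {p : ℕ}

def cc (a b c : ZMod p) (k j : ℕ) : ZMod p :=
  (if k = j then a else 0) + (if k = j + 1 then b else 0) + (if k = 0 ∧ j = 0 then c else 0)

theorem cc_add (a b c a' b' c' : ZMod p) (k j : ℕ) :
    cc (a + a') (b + b') (c + c') k j = cc a b c k j + cc a' b' c' k j := by
  unfold cc; split_ifs <;> ring

theorem cc_mul (t a b c : ZMod p) (k j : ℕ) :
    cc (t * a) (t * b) (t * c) k j = t * cc a b c k j := by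
  unfold cc; split_ifs <;> ring

theorem cc_zero (k j : ℕ) : cc (0 : ZMod p) 0 0 k j = 0 := by
  unfold cc; simp

theorem cc_100 (k j : ℕ) : cc (1 : ZMod p) 0 0 k j = if k = j then 1 else 0 := by
  unfold cc; simp

theorem cc_010 (k j : ℕ) : cc (0 : ZMod p) 1 0 k j = if k = j + 1 then 1 else 0 := by
  unfold cc; simp

theorem cc_001 (k j : ℕ) : cc (0 : ZMod p) 0 1 k j = if k = 0 ∧ j = 0 then 1 else 0 := by
  unfold cc; simp

def Lmat (m : ℕ) (a b c : ZMod p) : Matrix (Fin (2 * m)) (Fin (2 * m)) (ZMod p) :=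
  Matrix.of fun i j => if j.val < m ∧ m ≤ i.val then cc a b c (i.val - m) j.val else 0

theorem Lmat_apply (m : ℕ) (a b c : ZMod p) (i j : Fin (2 * m)) :
    Lmat m a b c i j = if j.val < m ∧ m ≤ i.val then cc a b c (i.val - m) j.val else 0 := rfl

def Tmat (p : ℕ) (m : ℕ) (s : ℤˣ) : Matrix (Fin (2 * m)) (Fin (2 * m)) (ZMod p) :=
  Matrix.diagonal fun i => if i.val < m then 1 else ((s : ℤ) : ZMod p)

theorem Lmat_add (m : ℕ) (a b c a' b' c' : ZMod p) :
    Lmat m (a + a') (b + b') (c + c') = Lmat m a b c + Lmat m a' b' c' := by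
  ext i j
  rw [Matrix.add_apply, Lmat_apply, Lmat_apply, Lmat_apply]
  split_ifs
  · exact cc_add ..
  · rw [add_zero]

theorem Lmat_zero (m : ℕ) : Lmat m (0 : ZMod p) 0 0 = 0 := by
  ext i j
  rw [Lmat_apply, cc_zero]
  simp

theorem Lmat_mul_Lmat (m : ℕ) (a b c a' b' c' : ZMod p) :
    Lmat m a b c * Lmat m a' b' c' = 0 := by
  ext i j
  rw [Matrix.mul_apply, Matrix.zero_apply]
  apply Finset.sum_eq_zero
  intro l _
  rw [Lmat_apply, Lmat_apply]
  by_cases h : l.val < m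
  · rw [if_neg (by omega : ¬ (j.val < m ∧ m ≤ l.val)), mul_zero]
  · rw [if_neg (by omega : ¬ (l.val < m ∧ m ≤ i.val)), zero_mul]

def Mmat (m : ℕ) (a b c : ZMod p) : Matrix (Fin (2 * m)) (Fin (2 * m)) (ZMod p) :=
  1 + Lmat m a b c

theorem Mmat_mul (m : ℕ) (a b c a' b' c' : ZMod p) :
    Mmat m a b c * Mmat m a' b' c' = Mmat m (a + a') (b + b') (c + c') := by
  unfold Mmat
  rw [Lmat_add]
  simp only [add_mul, mul_add, one_mul, mul_one, Lmat_mul_Lmat, add_zero]
  abel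

theorem Mmat_zero (m : ℕ) : Mmat m (0 : ZMod p) 0 0 = 1 := by
  unfold Mmat; rw [Lmat_zero, add_zero]

theorem Mmat_pow (m : ℕ) (a b c : ZMod p) (k : ℕ) :
    Mmat m a b c ^ k = Mmat m ((k : ZMod p) * a) ((k : ZMod p) * b) ((k : ZMod p) * c) := by
  induction k with
  | zero => simp [Mmat_zero]
  | succ k ih =>
    rw [pow_succ, ih, Mmat_mul]
    have e1 : (k : ZMod p) * a + a = ((k + 1 : ℕ) : ZMod p) * a := by push_cast; ring
    have e2 : (k : ZMod p) * b + b = ((k + 1 : ℕ) : ZMod p) * b := by push_cast; ring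
    have e3 : (k : ZMod p) * c + c = ((k + 1 : ℕ) : ZMod p) * c := by push_cast; ring
    rw [e1, e2, e3]

theorem Tmat_mul (m : ℕ) (s s' : ℤˣ) : Tmat p m s * Tmat p m s' = Tmat p m (s * s') := by
  unfold Tmat
  rw [Matrix.diagonal_mul_diagonal]
  congr 1
  funext i
  split_ifs
  · rw [mul_one]
  · rw [Units.val_mul, Int.cast_mul]

theorem Tmat_one (m : ℕ) : Tmat p m 1 = 1 := by
  unfold Tmat; simp

theorem Tmat_mul_Lmat (m : ℕ) (s : ℤˣ) (a b c : ZMod p) :
    Tmat p m s * Lmat m a b c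
      = Lmat m (((s : ℤ) : ZMod p) * a) (((s : ℤ) : ZMod p) * b) (((s : ℤ) : ZMod p) * c)
          * Tmat p m s := by
  ext i j
  unfold Tmat
  rw [Matrix.diagonal_mul, Matrix.mul_diagonal, Lmat_apply, Lmat_apply]
  by_cases h : j.val < m ∧ m ≤ i.val
  · rw [if_pos h, if_pos h, if_neg (by omega : ¬ i.val < m), if_pos h.1, cc_mul, mul_one]
  · rw [if_neg h, if_neg h, mul_zero, zero_mul]

theorem Tmat_mul_Mmat (m : ℕ) (s : ℤˣ) (a b c : ZMod p) :
    Tmat p m s * Mmat m a b c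
      = Mmat m (((s : ℤ) : ZMod p) * a) (((s : ℤ) : ZMod p) * b) (((s : ℤ) : ZMod p) * c)
          * Tmat p m s := by
  unfold Mmat
  rw [mul_add, add_mul, mul_one, one_mul, Tmat_mul_Lmat]

theorem det_Mmat (m : ℕ) (a b c : ZMod p) : (Mmat m a b c).det = 1 := by
  rw [Matrix.det_of_isLowerTriangular]
  · apply Finset.prod_eq_one
    intro i _
    unfold Mmat
    rw [Matrix.add_apply, Matrix.one_apply_eq, Lmat_apply,
      if_neg (by omega : ¬ (i.val < m ∧ m ≤ i.val)), add_zero]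
  · intro i j hij
    have hij' : i < j := OrderDual.toDual_lt_toDual.1 hij
    have hij'' : i.val < j.val := hij'
    unfold Mmat
    rw [Matrix.add_apply, Matrix.one_apply_ne (ne_of_lt hij'), Lmat_apply,
      if_neg (by omega : ¬ (j.val < m ∧ m ≤ i.val)), add_zero]

theorem cast_units_sq (s : ℤˣ) : (((s : ℤ) : ZMod p)) ^ 2 = 1 := by
  rcases Int.units_eq_one_or s with rfl | rfl <;> simp

theorem det_Tmat (m : ℕ) (hm : Even m) (s : ℤˣ) : (Tmat p m s).det = 1 := by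
  unfold Tmat
  rw [Matrix.det_diagonal]
  have h1 : ∏ i : Fin (2 * m), (if i.val < m then (1 : ZMod p) else ((s : ℤ) : ZMod p))
      = ∏ i ∈ Finset.range (2 * m), (if i < m then (1 : ZMod p) else ((s : ℤ) : ZMod p)) :=
    Fin.prod_univ_eq_prod_range (fun x => if x < m then (1 : ZMod p) else ((s : ℤ) : ZMod p))
      (2 * m)
  rw [h1, two_mul, Finset.prod_range_add]
  rw [Finset.prod_eq_one (fun x hx => if_pos (Finset.mem_range.1 hx)), one_mul]
  rw [Finset.prod_congr rfl (fun x _ => if_neg (by omega : ¬ m + x < m)), Finset.prod_const,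
    Finset.card_range]
  obtain ⟨r, rfl⟩ := hm
  rw [← two_mul, pow_mul, cast_units_sq, one_pow]

def rhoMat (m : ℕ) (x : HH p) : Matrix (Fin (2 * m)) (Fin (2 * m)) (ZMod p) :=
  Mmat m x.a x.b x.c * Tmat p m x.s

theorem rhoMat_mul (m : ℕ) (x y : HH p) : rhoMat m (x * y) = rhoMat m x * rhoMat m y := by
  unfold rhoMat
  rw [HH.mul_a, HH.mul_b, HH.mul_c, HH.mul_s]
  calc Mmat m (x.a + ((x.s : ℤ) : ZMod p) * y.a) (x.b + ((x.s : ℤ) : ZMod p) * y.b)
          (x.c + ((x.s : ℤ) : ZMod p) * y.c) * Tmat p m (x.s * y.s)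
      = (Mmat m x.a x.b x.c * Mmat m (((x.s : ℤ) : ZMod p) * y.a) (((x.s : ℤ) : ZMod p) * y.b)
          (((x.s : ℤ) : ZMod p) * y.c)) * (Tmat p m x.s * Tmat p m y.s) := by
        rw [Mmat_mul, Tmat_mul]
    _ = Mmat m x.a x.b x.c * ((Mmat m (((x.s : ℤ) : ZMod p) * y.a) (((x.s : ℤ) : ZMod p) * y.b)
          (((x.s : ℤ) : ZMod p) * y.c) * Tmat p m x.s) * Tmat p m y.s) := by
        simp only [mul_assoc]
    _ = Mmat m x.a x.b x.c * ((Tmat p m x.s * Mmat m y.a y.b y.c) * Tmat p m y.s) := by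
        rw [Tmat_mul_Mmat]
    _ = Mmat m x.a x.b x.c * Tmat p m x.s * (Mmat m y.a y.b y.c * Tmat p m y.s) := by
        simp only [mul_assoc]

def rho (m : ℕ) (hm : Even m) : HH p →* Matrix.SpecialLinearGroup (Fin (2 * m)) (ZMod p) :=
  MonoidHom.mk'
    (fun x => ⟨rhoMat m x, by
      unfold rhoMat; rw [Matrix.det_mul, det_Mmat, det_Tmat m hm, one_mul]⟩)
    (fun x y => Subtype.ext (by
      show rhoMat m (x * y) = rhoMat m x * rhoMat m y
      exact rhoMat_mul m x y))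

theorem rho_coe (m : ℕ) (hm : Even m) (x : HH p) :
    ((rho m hm x : Matrix.SpecialLinearGroup (Fin (2 * m)) (ZMod p)) :
      Matrix (Fin (2 * m)) (Fin (2 * m)) (ZMod p)) = rhoMat m x := rfl

theorem two_ne_zero_zmod [Fact p.Prime] (hp2 : p ≠ 2) : (2 : ZMod p) ≠ 0 := by
  intro h
  have h' : ((2 : ℕ) : ZMod p) = 0 := by exact_mod_cast h
  rw [ZMod.natCast_eq_zero_iff] at h'
  exact hp2 ((Nat.prime_dvd_prime_iff_eq (Fact.out) Nat.prime_two).1 h')

theorem Mmat_mk (m : ℕ) (a b c : ZMod p) (x y : ℕ) (hx : x < 2 * m) (hy : y < 2 * m) :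
    Mmat m a b c ⟨x, hx⟩ ⟨y, hy⟩
      = (if x = y then 1 else 0) + (if y < m ∧ m ≤ x then cc a b c (x - m) y else 0) := by
  show (1 : Matrix (Fin (2 * m)) (Fin (2 * m)) (ZMod p)) ⟨x, hx⟩ ⟨y, hy⟩
    + Lmat m a b c ⟨x, hx⟩ ⟨y, hy⟩ = _
  rw [Matrix.one_apply, Lmat_apply]
  simp only [Fin.mk.injEq]

/-! ### sums -/

theorem sum_pick_left {n : ℕ} (e f : Fin n → ZMod p) (l₀ : Fin n) (h1 : e l₀ = 1)
    (h0 : ∀ l, l ≠ l₀ → e l = 0) : ∑ l, e l * f l = f l₀ := by
  rw [Finset.sum_eq_single l₀ (fun l _ hl => by rw [h0 l hl, zero_mul])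
    (fun h => absurd (Finset.mem_univ _) h), h1, one_mul]

theorem sum_pick_right {n : ℕ} (e f : Fin n → ZMod p) (l₀ : Fin n) (h1 : e l₀ = 1)
    (h0 : ∀ l, l ≠ l₀ → e l = 0) : ∑ l, f l * e l = f l₀ := by
  rw [Finset.sum_eq_single l₀ (fun l _ hl => by rw [h0 l hl, mul_zero])
    (fun h => absurd (Finset.mem_univ _) h), h1, mul_one]

theorem sum_none_left {n : ℕ} (e f : Fin n → ZMod p) (h0 : ∀ l, e l = 0) :
    ∑ l, e l * f l = 0 :=
  Finset.sum_eq_zero (fun l _ => by rw [h0 l, zero_mul])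

theorem sum_none_right {n : ℕ} (e f : Fin n → ZMod p) (h0 : ∀ l, e l = 0) :
    ∑ l, f l * e l = 0 :=
  Finset.sum_eq_zero (fun l _ => by rw [h0 l, mul_zero])

theorem X_one (m : ℕ) (i l : Fin (2 * m)) (h1 : m ≤ i.val) (h2 : l.val = i.val - m) :
    Lmat m (1 : ZMod p) 0 0 i l = 1 := by
  have := i.isLt
  rw [Lmat_apply, if_pos ⟨by omega, h1⟩, cc_100, if_pos h2.symm]

theorem X_zero (m : ℕ) (i l : Fin (2 * m)) (h : ¬ (m ≤ i.val ∧ l.val = i.val - m)) :
    Lmat m (1 : ZMod p) 0 0 i l = 0 := by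
  rw [Lmat_apply]
  split_ifs with h1
  · rw [cc_100, if_neg]
    intro h2
    exact h ⟨h1.2, h2.symm⟩
  · rfl

theorem Y_one (m : ℕ) (i l : Fin (2 * m)) (h1 : m ≤ i.val) (h2 : i.val - m = l.val + 1) :
    Lmat m (0 : ZMod p) 1 0 i l = 1 := by
  have := i.isLt
  rw [Lmat_apply, if_pos ⟨by omega, h1⟩, cc_010, if_pos h2]

theorem Y_zero (m : ℕ) (i l : Fin (2 * m)) (h : ¬ (m ≤ i.val ∧ i.val - m = l.val + 1)) :
    Lmat m (0 : ZMod p) 1 0 i l = 0 := by
  rw [Lmat_apply]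
  split_ifs with h1
  · rw [cc_010, if_neg]
    intro h2
    exact h ⟨h1.2, h2⟩
  · rfl

theorem Z_one (m : ℕ) (hm : 0 < m) (i l : Fin (2 * m)) (h1 : i.val = m) (h2 : l.val = 0) :
    Lmat m (0 : ZMod p) 0 1 i l = 1 := by
  rw [Lmat_apply, if_pos ⟨by omega, by omega⟩, cc_001, if_pos ⟨by omega, h2⟩]

theorem Z_zero (m : ℕ) (i l : Fin (2 * m)) (h : ¬ (i.val = m ∧ l.val = 0)) :
    Lmat m (0 : ZMod p) 0 1 i l = 0 := by
  rw [Lmat_apply]
  split_ifs with h1
  · rw [cc_001, if_neg]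
    intro h2
    exact h ⟨by omega, h2.2⟩
  · rfl


theorem Xg {m : ℕ} (g : Matrix (Fin (2 * m)) (Fin (2 * m)) (ZMod p)) (i j i' : Fin (2 * m))
    (h : m ≤ i.val) (h' : i'.val = i.val - m) :
    (Lmat m (1 : ZMod p) 0 0 * g) i j = g i' j := by
  rw [Matrix.mul_apply]
  exact sum_pick_left (fun l => Lmat m (1 : ZMod p) 0 0 i l) (fun l => g l j) i'
    (X_one m i i' h h') (fun l hl => X_zero m i l (fun hh => hl (Fin.ext (by omega))))

theorem gX {m : ℕ} (g : Matrix (Fin (2 * m)) (Fin (2 * m)) (ZMod p)) (i j j' : Fin (2 * m))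
    (h : j.val < m) (h' : j'.val = m + j.val) :
    (g * Lmat m (1 : ZMod p) 0 0) i j = g i j' := by
  rw [Matrix.mul_apply]
  exact sum_pick_right (fun l => Lmat m (1 : ZMod p) 0 0 l j) (fun l => g i l) j'
    (X_one m j' j (by omega) (by omega))
    (fun l hl => X_zero m l j (fun hh => hl (Fin.ext (by omega))))

theorem gX0 {m : ℕ} (g : Matrix (Fin (2 * m)) (Fin (2 * m)) (ZMod p)) (i j : Fin (2 * m))
    (h : m ≤ j.val) :
    (g * Lmat m (1 : ZMod p) 0 0) i j = 0 := by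
  rw [Matrix.mul_apply]
  exact sum_none_right (fun l => Lmat m (1 : ZMod p) 0 0 l j) (fun l => g i l)
    (fun l => X_zero m l j (fun hh => by have := l.isLt; omega))

theorem Yg {m : ℕ} (g : Matrix (Fin (2 * m)) (Fin (2 * m)) (ZMod p)) (i j i' : Fin (2 * m))
    (h : m + 1 ≤ i.val) (h' : i'.val + 1 = i.val - m) :
    (Lmat m (0 : ZMod p) 1 0 * g) i j = g i' j := by
  rw [Matrix.mul_apply]
  exact sum_pick_left (fun l => Lmat m (0 : ZMod p) 1 0 i l) (fun l => g l j) i'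
    (Y_one m i i' (by omega) h'.symm) (fun l hl => Y_zero m i l (fun hh => hl (Fin.ext (by omega))))

theorem Yg0 {m : ℕ} (g : Matrix (Fin (2 * m)) (Fin (2 * m)) (ZMod p)) (i j : Fin (2 * m))
    (h : i.val ≤ m) :
    (Lmat m (0 : ZMod p) 1 0 * g) i j = 0 := by
  rw [Matrix.mul_apply]
  exact sum_none_left (fun l => Lmat m (0 : ZMod p) 1 0 i l) (fun l => g l j)
    (fun l => Y_zero m i l (fun hh => by omega))

theorem gY {m : ℕ} (g : Matrix (Fin (2 * m)) (Fin (2 * m)) (ZMod p)) (i j j' : Fin (2 * m))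
    (h : j.val + 1 < m) (h' : j'.val = m + j.val + 1) :
    (g * Lmat m (0 : ZMod p) 1 0) i j = g i j' := by
  rw [Matrix.mul_apply]
  exact sum_pick_right (fun l => Lmat m (0 : ZMod p) 1 0 l j) (fun l => g i l) j'
    (Y_one m j' j (by omega) (by omega))
    (fun l hl => Y_zero m l j (fun hh => hl (Fin.ext (by omega))))

theorem Zg0 {m : ℕ} (g : Matrix (Fin (2 * m)) (Fin (2 * m)) (ZMod p)) (i j : Fin (2 * m))
    (h : i.val ≠ m) :
    (Lmat m (0 : ZMod p) 0 1 * g) i j = 0 := by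
  rw [Matrix.mul_apply]
  exact sum_none_left (fun l => Lmat m (0 : ZMod p) 0 1 i l) (fun l => g l j)
    (fun l => Z_zero m i l (fun hh => h hh.1))

theorem gZ {m : ℕ} (hm : 0 < m) (g : Matrix (Fin (2 * m)) (Fin (2 * m)) (ZMod p))
    (i j j' : Fin (2 * m)) (h : j.val = 0) (h' : j'.val = m) :
    (g * Lmat m (0 : ZMod p) 0 1) i j = g i j' := by
  rw [Matrix.mul_apply]
  exact sum_pick_right (fun l => Lmat m (0 : ZMod p) 0 1 l j) (fun l => g i l) j'
    (Z_one m hm j' j h' h)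
    (fun l hl => Z_zero m l j (fun hh => hl (Fin.ext (by omega))))

theorem scalar_of_commute [Fact p.Prime] (hp2 : p ≠ 2) (m : ℕ) (hm2 : 2 ≤ m)
    (g : Matrix (Fin (2 * m)) (Fin (2 * m)) (ZMod p)) (hdet : g.det ≠ 0)
    (ε : ZMod p) (hε : ε = 1 ∨ ε = -1)
    (hT : g * Tmat p m (-1) = ε • (Tmat p m (-1) * g))
    (hL : ∀ a b c : ZMod p, g * Lmat m a b c = Lmat m a b c * g) :
    ∃ c : ZMod p, g = Matrix.scalar (Fin (2 * m)) c := by
  have hm : 0 < m := by omega
  have h2 : (2 : ZMod p) ≠ 0 := two_ne_zero_zmod hp2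
  have hX := hL 1 0 0
  have hY := hL 0 1 0
  have hZ := hL 0 0 1
  have hTe : ∀ (x y : ℕ) (hx : x < 2 * m) (hy : y < 2 * m),
      g ⟨x, hx⟩ ⟨y, hy⟩ * (if y < m then (1 : ZMod p) else -1)
        = ε * ((if x < m then (1 : ZMod p) else -1) * g ⟨x, hx⟩ ⟨y, hy⟩) := by
    intro x y hx hy
    have h := congrFun (congrFun hT ⟨x, hx⟩) ⟨y, hy⟩
    unfold Tmat at h
    rw [Matrix.mul_diagonal, Matrix.smul_apply, Matrix.diagonal_mul, smul_eq_mul] at h
    simpa using h
  have Q1 : ∀ (k j : ℕ) (hk : k < m) (hj : j < m),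
      g ⟨m + k, by omega⟩ ⟨m + j, by omega⟩ = g ⟨k, by omega⟩ ⟨j, by omega⟩ := by
    intro k j hk hj
    have e := congrFun (congrFun hX ⟨m + k, by omega⟩) ⟨j, by omega⟩
    rw [gX g ⟨m + k, by omega⟩ ⟨j, by omega⟩ ⟨m + j, by omega⟩ hj rfl,
      Xg g ⟨m + k, by omega⟩ ⟨j, by omega⟩ ⟨k, by omega⟩ (by show m ≤ m + k; omega)
        (by show k = m + k - m; omega)] at e
    exact e
  have Q2 : ∀ (k j : ℕ) (hk : k < m) (hj : j < m),
      g ⟨k, by omega⟩ ⟨m + j, by omega⟩ = 0 := by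
    intro k j hk hj
    have e := congrFun (congrFun hX ⟨m + k, by omega⟩) ⟨m + j, by omega⟩
    rw [gX0 g ⟨m + k, by omega⟩ ⟨m + j, by omega⟩ (by show m ≤ m + j; omega),
      Xg g ⟨m + k, by omega⟩ ⟨m + j, by omega⟩ ⟨k, by omega⟩ (by show m ≤ m + k; omega)
        (by show k = m + k - m; omega)] at e
    exact e.symm
  have Q3a : ∀ (k j : ℕ) (hk : k < m) (hk0 : 0 < k) (hj : j + 1 < m),
      g ⟨k, by omega⟩ ⟨j + 1, by omega⟩ = g ⟨k - 1, by omega⟩ ⟨j, by omega⟩ := by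
    intro k j hk hk0 hj
    have e := congrFun (congrFun hY ⟨m + k, by omega⟩) ⟨j, by omega⟩
    rw [gY g ⟨m + k, by omega⟩ ⟨j, by omega⟩ ⟨m + (j + 1), by omega⟩ hj
        (by show m + (j + 1) = m + j + 1; omega),
      Yg g ⟨m + k, by omega⟩ ⟨j, by omega⟩ ⟨k - 1, by omega⟩ (by show m + 1 ≤ m + k; omega)
        (by show k - 1 + 1 = m + k - m; omega),
      Q1 k (j + 1) hk (by omega)] at e
    exact e
  have Q3b : ∀ (j : ℕ) (hj : j + 1 < m), g ⟨0, by omega⟩ ⟨j + 1, by omega⟩ = 0 := by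
    intro j hj
    have e := congrFun (congrFun hY ⟨m + 0, by omega⟩) ⟨j, by omega⟩
    rw [gY g ⟨m + 0, by omega⟩ ⟨j, by omega⟩ ⟨m + (j + 1), by omega⟩ hj
        (by show m + (j + 1) = m + j + 1; omega),
      Yg0 g ⟨m + 0, by omega⟩ ⟨j, by omega⟩ (by show m + 0 ≤ m; omega),
      Q1 0 (j + 1) hm (by omega)] at e
    exact e
  have Q4 : ∀ (k : ℕ) (hk0 : 0 < k) (hk : k < m), g ⟨k, by omega⟩ ⟨0, by omega⟩ = 0 := by
    intro k hk0 hk
    have e := congrFun (congrFun hZ ⟨m + k, by omega⟩) ⟨0, by omega⟩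
    rw [gZ hm g ⟨m + k, by omega⟩ ⟨0, by omega⟩ ⟨m + 0, by omega⟩ rfl (by show m + 0 = m; omega),
      Zg0 g ⟨m + k, by omega⟩ ⟨0, by omega⟩ (by show m + k ≠ m; omega),
      Q1 k 0 hk hm] at e
    exact e
  obtain ⟨c, hc⟩ : ∃ c : ZMod p, c = g ⟨0, by omega⟩ ⟨0, by omega⟩ := ⟨_, rfl⟩
  have D : ∀ (j : ℕ) (hj : j < m) (k : ℕ) (hk : k < m),
      g ⟨k, by omega⟩ ⟨j, by omega⟩ = if k = j then c else 0 := by
    intro j
    induction j with
    | zero =>
      intro hj k hk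
      rcases Nat.eq_zero_or_pos k with rfl | hk0
      · rw [if_pos rfl, hc]
      · rw [if_neg (by omega)]
        exact Q4 k hk0 hk
    | succ j ih =>
      intro hj k hk
      rcases Nat.eq_zero_or_pos k with rfl | hk0
      · rw [if_neg (by omega)]
        exact Q3b j hj
      · rw [Q3a k j hk hk0 hj, ih (by omega) (k - 1) (by omega)]
        by_cases h : k = j + 1
        · rw [if_pos h, if_pos (by omega)]
        · rw [if_neg h, if_neg (by omega)]
  have gidx : ∀ (x x' y y' : ℕ) (hx : x < 2 * m) (hx' : x' < 2 * m) (hy : y < 2 * m)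
      (hy' : y' < 2 * m), x = x' → y = y' → g ⟨x, hx⟩ ⟨y, hy⟩ = g ⟨x', hx'⟩ ⟨y', hy'⟩ := by
    intro x x' y y' hx hx' hy hy' h1 h2
    subst h1 h2
    rfl
  rcases hε with hε1 | hε1
  · -- ε = 1
    have Q5 : ∀ (k j : ℕ) (hk : k < m) (hj : j < m),
        g ⟨m + k, by omega⟩ ⟨j, by omega⟩ = 0 := by
      intro k j hk hj
      have e := hTe (m + k) j (by omega) (by omega)
      rw [hε1, if_pos hj, if_neg (by omega : ¬ m + k < m), mul_one, one_mul, neg_one_mul] at e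
      have e2 : (2 : ZMod p) * g ⟨m + k, by omega⟩ ⟨j, by omega⟩ = 0 := by
        linear_combination e
      exact (mul_eq_zero.1 e2).resolve_left h2
    refine ⟨c, ?_⟩
    ext i j
    obtain ⟨x, hx⟩ := i
    obtain ⟨y, hy⟩ := j
    rw [Matrix.scalar_apply, Matrix.diagonal_apply]
    simp only [Fin.mk.injEq]
    by_cases hxm : x < m
    · by_cases hym : y < m
      · exact D y hym x hxm
      · rw [if_neg (by omega)]
        rw [gidx x x y (m + (y - m)) hx hx hy (by omega) rfl (by omega)]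
        exact Q2 x (y - m) hxm (by omega)
    · by_cases hym : y < m
      · rw [if_neg (by omega)]
        rw [gidx x (m + (x - m)) y y hx (by omega) hy hy (by omega) rfl]
        exact Q5 (x - m) y (by omega) hym
      · rw [gidx x (m + (x - m)) y (m + (y - m)) hx (by omega) hy (by omega) (by omega) (by omega),
          Q1 (x - m) (y - m) (by omega) (by omega), D (y - m) (by omega) (x - m) (by omega)]
        by_cases h : x = y
        · rw [if_pos h, if_pos (by omega)]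
        · rw [if_neg h, if_neg (by omega)]
  · -- ε = -1 : impossible
    exfalso
    apply hdet
    apply Matrix.det_eq_zero_of_row_eq_zero (⟨0, by omega⟩ : Fin (2 * m))
    intro j
    obtain ⟨y, hy⟩ := j
    by_cases hym : y < m
    · have e := hTe 0 y (by omega) hy
      rw [hε1, if_pos hym, if_pos hm, mul_one, one_mul, neg_one_mul] at e
      have e2 : (2 : ZMod p) * g ⟨0, by omega⟩ ⟨y, hy⟩ = 0 := by
        linear_combination e
      exact (mul_eq_zero.1 e2).resolve_left h2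
    · rw [gidx 0 0 y (m + (y - m)) (by omega) (by omega) hy (by omega) rfl (by omega)]
      exact Q2 0 (y - m) hm (by omega)

theorem pow_rel {n : Type*} [Fintype n] [DecidableEq n] {K : Type*} [CommRing K]
    (G R : Matrix n n K) (r : K) (h : G * R = r • (R * G)) (k : ℕ) :
    G * R ^ k = r ^ k • (R ^ k * G) := by
  induction k with
  | zero => simp
  | succ k ih =>
    calc G * R ^ (k + 1) = (G * R ^ k) * R := by rw [pow_succ, mul_assoc]
      _ = r ^ k • (R ^ k * (G * R)) := by rw [ih, Matrix.smul_mul, mul_assoc]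
      _ = r ^ k • (R ^ k * (r • (R * G))) := by rw [h]
      _ = r ^ (k + 1) • (R ^ (k + 1) * G) := by
        rw [Matrix.mul_smul, smul_smul, pow_succ, pow_succ, mul_assoc]

theorem eq_one_of_smul {m : ℕ} (hm : 0 < m) {G : Matrix (Fin (2 * m)) (Fin (2 * m)) (ZMod p)}
    [Fact p.Prime] (hdet : G.det ≠ 0) {s : ZMod p} (h : G = s • G) : s = 1 := by
  have hG : ∃ i j, G i j ≠ 0 := by
    by_contra hcon
    push Not at hcon
    apply hdet
    have h0 : G = 0 := by
      ext i j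
      exact hcon i j
    rw [h0]
    haveI : Nonempty (Fin (2 * m)) := ⟨⟨0, by omega⟩⟩
    exact Matrix.det_zero
  obtain ⟨i, j, hij⟩ := hG
  have h1 := congrFun (congrFun h i) j
  rw [Matrix.smul_apply, smul_eq_mul] at h1
  have h2 : (1 - s) * G i j = 0 := by
    rw [sub_mul, one_mul, ← h1, sub_self]
  rcases mul_eq_zero.1 h2 with h3 | h3
  · exact (sub_eq_zero.1 h3).symm
  · exact absurd h3 hij

theorem mul_scalar_eq {n : Type*} [Fintype n] [DecidableEq n] {K : Type*} [CommRing K]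
    (A : Matrix n n K) (r : K) : A * Matrix.scalar n r = r • A := by
  rw [Matrix.scalar_apply]
  ext i j
  rw [Matrix.mul_diagonal, Matrix.smul_apply, smul_eq_mul, mul_comm]

theorem phi_injective [Fact p.Prime] (hp2 : p ≠ 2) (m : ℕ) (hm2 : 2 ≤ m) (hme : Even m) :
    Function.Injective ((QuotientGroup.mk' (Subgroup.center
      (Matrix.SpecialLinearGroup (Fin (2 * m)) (ZMod p)))).comp (rho m hme)) := by
  have hm : 0 < m := by omega
  have h2 : (2 : ZMod p) ≠ 0 := two_ne_zero_zmod hp2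
  rw [injective_iff_map_eq_one]
  intro x hx
  rw [MonoidHom.comp_apply, QuotientGroup.mk'_apply, QuotientGroup.eq_one_iff,
    Matrix.SpecialLinearGroup.mem_center_iff] at hx
  obtain ⟨r, -, hr⟩ := hx
  have hr' : ∀ (u v : ℕ) (hu : u < 2 * m) (hv : v < 2 * m),
      (if u = v then r else 0)
        = Mmat m x.a x.b x.c ⟨u, hu⟩ ⟨v, hv⟩ * (if v < m then 1 else ((x.s : ℤ) : ZMod p)) := by
    intro u v hu hv
    have h := congrFun (congrFun hr ⟨u, hu⟩) ⟨v, hv⟩
    rw [rho_coe, rhoMat, Tmat, Matrix.mul_diagonal, Matrix.scalar_apply,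
      Matrix.diagonal_apply] at h
    simpa only [Fin.mk.injEq] using h
  -- r = 1
  have e00 := hr' 0 0 (by omega) (by omega)
  rw [Mmat_mk, if_pos rfl, if_pos rfl, if_neg (by omega : ¬ (0 < m ∧ m ≤ 0)), if_pos hm,
    add_zero, mul_one] at e00
  -- s = 1
  have emm := hr' m m (by omega) (by omega)
  rw [Mmat_mk, if_pos rfl, if_pos rfl, if_neg (by omega : ¬ (m < m ∧ m ≤ m)),
    if_neg (by omega : ¬ m < m), add_zero, one_mul, e00] at emm
  have hs : x.s = 1 := by
    rcases Int.units_eq_one_or x.s with h | h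
    · exact h
    · exfalso
      rw [h] at emm
      have : (2 : ZMod p) = 0 := by
        have e : (1 : ZMod p) = -1 := by simpa using emm
        linear_combination e
      exact h2 this
  -- a + c = 0
  have em0 := hr' m 0 (by omega) (by omega)
  rw [Mmat_mk, if_neg (by omega : ¬ m = 0), if_neg (by omega : ¬ m = 0),
    if_pos (⟨hm, le_refl m⟩ : 0 < m ∧ m ≤ m), if_pos hm,
    zero_add, mul_one, Nat.sub_self] at em0
  have e11 := hr' (m + 1) 1 (by omega) (by omega)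
  rw [Mmat_mk, if_neg (by omega : ¬ m + 1 = 1), if_neg (by omega : ¬ m + 1 = 1),
    if_pos (⟨by omega, by omega⟩ : 1 < m ∧ m ≤ m + 1), if_pos (by omega : 1 < m),
    zero_add, mul_one, Nat.add_sub_cancel_left] at e11
  have e10 := hr' (m + 1) 0 (by omega) (by omega)
  rw [Mmat_mk, if_neg (by omega : ¬ m + 1 = 0), if_neg (by omega : ¬ m + 1 = 0),
    if_pos (⟨by omega, by omega⟩ : 0 < m ∧ m ≤ m + 1), if_pos hm,
    zero_add, mul_one, Nat.add_sub_cancel_left] at e10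
  have ha : x.a = 0 := by
    have : cc x.a x.b x.c 1 1 = x.a := by unfold cc; simp
    rw [this] at e11
    exact e11.symm
  have hb : x.b = 0 := by
    have : cc x.a x.b x.c 1 0 = x.b := by unfold cc; simp
    rw [this] at e10
    exact e10.symm
  have hcz : x.c = 0 := by
    have : cc x.a x.b x.c 0 0 = x.a + x.c := by unfold cc; simp
    rw [this, ha, zero_add] at em0
    exact em0.symm
  exact HH.ext ha hb hcz hs

theorem phi_centralizer [Fact p.Prime] (hp2 : p ≠ 2) (m : ℕ) (hm2 : 2 ≤ m) (hme : Even m) :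
    Subgroup.centralizer (((QuotientGroup.mk' (Subgroup.center
      (Matrix.SpecialLinearGroup (Fin (2 * m)) (ZMod p)))).comp (rho m hme)).range :
        Set (Matrix.ProjectiveSpecialLinearGroup (Fin (2 * m)) (ZMod p))) = ⊥ := by
  have hm : 0 < m := by omega
  rw [Subgroup.eq_bot_iff_forall]
  intro gbar hg
  obtain ⟨g, rfl⟩ := QuotientGroup.mk_surjective gbar
  rw [Subgroup.mem_centralizer_iff] at hg
  have hdet : (g : Matrix (Fin (2 * m)) (Fin (2 * m)) (ZMod p)).det ≠ 0 := by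
    rw [g.2]; exact one_ne_zero
  have key : ∀ x : HH p, ∃ r : ZMod p,
      (g : Matrix (Fin (2 * m)) (Fin (2 * m)) (ZMod p)) * rhoMat m x
        = r • (rhoMat m x * (g : Matrix (Fin (2 * m)) (Fin (2 * m)) (ZMod p))) := by
    intro x
    have h1 := hg (QuotientGroup.mk (rho m hme x)) ⟨x, rfl⟩
    rw [← QuotientGroup.mk_mul, ← QuotientGroup.mk_mul, QuotientGroup.eq,
      Matrix.SpecialLinearGroup.mem_center_iff] at h1
    obtain ⟨r, -, hr⟩ := h1
    refine ⟨r, ?_⟩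
    have h2 : g * rho m hme x
        = rho m hme x * g * ((rho m hme x * g)⁻¹ * (g * rho m hme x)) := by group
    have h3 : ((g * rho m hme x : Matrix.SpecialLinearGroup (Fin (2 * m)) (ZMod p)) :
        Matrix (Fin (2 * m)) (Fin (2 * m)) (ZMod p))
        = ((rho m hme x * g * ((rho m hme x * g)⁻¹ * (g * rho m hme x)) :
          Matrix.SpecialLinearGroup (Fin (2 * m)) (ZMod p)) :
            Matrix (Fin (2 * m)) (Fin (2 * m)) (ZMod p)) := by
      rw [← h2]
    rw [Matrix.SpecialLinearGroup.coe_mul, Matrix.SpecialLinearGroup.coe_mul (rho m hme x * g),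
      ← hr, Matrix.SpecialLinearGroup.coe_mul, rho_coe, mul_scalar_eq] at h3
    exact h3
  -- commuting with the unipotent part
  have hcomm : ∀ a b c : ZMod p,
      (g : Matrix (Fin (2 * m)) (Fin (2 * m)) (ZMod p)) * Mmat m a b c
        = Mmat m a b c * (g : Matrix (Fin (2 * m)) (Fin (2 * m)) (ZMod p)) := by
    intro a b c
    obtain ⟨r, hr⟩ := key ⟨a, b, c, 1⟩
    have e1 : rhoMat m (⟨a, b, c, 1⟩ : HH p) = Mmat m a b c := by
      unfold rhoMat
      rw [Tmat_one, mul_one]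
    rw [e1] at hr
    have h4 := pow_rel _ _ r hr p
    rw [Mmat_pow, ZMod.natCast_self, zero_mul, zero_mul, zero_mul, Mmat_zero, one_mul,
      mul_one] at h4
    have h5 : r ^ p = 1 := eq_one_of_smul hm hdet h4
    rw [ZMod.pow_card] at h5
    rw [h5, one_smul] at hr
    exact hr
  have hL : ∀ a b c : ZMod p,
      (g : Matrix (Fin (2 * m)) (Fin (2 * m)) (ZMod p)) * Lmat m a b c
        = Lmat m a b c * (g : Matrix (Fin (2 * m)) (Fin (2 * m)) (ZMod p)) := by
    intro a b c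
    have h := hcomm a b c
    unfold Mmat at h
    rw [mul_add, add_mul, mul_one, one_mul] at h
    exact add_left_cancel h
  -- the involution
  obtain ⟨ε, hε⟩ := key ⟨0, 0, 0, -1⟩
  have e2 : rhoMat m (⟨0, 0, 0, -1⟩ : HH p) = Tmat p m (-1) := by
    unfold rhoMat
    rw [Mmat_zero, one_mul]
  rw [e2] at hε
  have hε2 : ε = 1 ∨ ε = -1 := by
    have h4 := pow_rel _ _ ε hε 2
    have e3 : Tmat p m (-1) ^ 2 = 1 := by
      rw [pow_two, Tmat_mul]
      have : (-1 : ℤˣ) * (-1) = 1 := by decide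
      rw [this, Tmat_one]
    rw [e3, one_mul, mul_one] at h4
    have h5 : ε ^ 2 = 1 := eq_one_of_smul hm hdet h4
    rw [pow_two] at h5
    exact mul_self_eq_one_iff.1 h5
  obtain ⟨c, hc⟩ := scalar_of_commute hp2 m hm2 _ hdet ε hε2 hε hL
  rw [QuotientGroup.eq_one_iff, Matrix.SpecialLinearGroup.mem_center_iff]
  refine ⟨c, ?_, hc.symm⟩
  have h6 : (g : Matrix (Fin (2 * m)) (Fin (2 * m)) (ZMod p)).det = 1 := g.2
  rw [hc, Matrix.scalar_apply, Matrix.det_diagonal, Finset.prod_const, Finset.card_univ] at h6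
  exact h6

/-- For every odd prime `p` there is a finite group `H` of order `2p³` which, for infinitely many `n`, embeds in the projective special linear group `PSL(n, p)` as a subgroup with trivial centralizer. -/
theorem result
    (p : ℕ) [Fact p.Prime] (hp : p ≠ 2) :
    ∃ (H : Type) (_ : Group H) (_ : Finite H), Nat.card H = 2 * p ^ 3 ∧
      ∀ N : ℕ, ∃ n, N ≤ n ∧ ∃ φ : H →* Matrix.ProjectiveSpecialLinearGroup (Fin n) (ZMod p),
        Function.Injective φ ∧ Subgroup.centralizer (φ.range : Set (Matrix.ProjectiveSpecialLinearGroup (Fin n) (ZMod p))) = ⊥ := by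
  haveI : NeZero p := ⟨(Fact.out : p.Prime).ne_zero⟩
  refine ⟨HH p, inferInstance, inferInstance, HH.card_HH p, fun N => ?_⟩
  have hme : Even (2 * (N + 1)) := even_two_mul _
  refine ⟨2 * (2 * (N + 1)), by omega, ?_⟩
  exact ⟨(QuotientGroup.mk' (Subgroup.center
      (Matrix.SpecialLinearGroup (Fin (2 * (2 * (N + 1)))) (ZMod p)))).comp (rho (2 * (N + 1)) hme),
    phi_injective hp (2 * (N + 1)) (by omega) hme,
    phi_centralizer hp (2 * (N + 1)) (by omega) hme⟩

end Cfsg.Agent.S2533
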