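import Mathlib
import Cfsg.Statements.S2536
import Cfsg.Agent.Lib.Helper12.HallSymExist

set_option autoImplicit false
open Cfsg

namespace Cfsg.Agent.S2536

open Cfsg.Agent.Lib.Helper12.HallSym

/-- Let `π` be a set of primes and `n` a natural number such that at least two primes of `π` divide `n!` but not every prime dividing `n!` lies in `π`. Then the symmetric group of degree `n` has a Hall `π`-subgroup if and only if either `n` is prime and the primes of `π` dividing `n!` are exactly the primes smaller than `n` (a point stabilizer is then such a subgroup), or `n ∈ {7, 8}` and the primes of `π` dividing `n!` are exactly 2 and 3. -/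
theorem result (n : ℕ) (π : Set ℕ)
    (h2 : ∃ r s : ℕ, r.Prime ∧ s.Prime ∧ r ≠ s ∧ r ∈ π ∧ s ∈ π ∧ r ≤ n ∧ s ≤ n)
    (hns : ∃ r : ℕ, r.Prime ∧ r ≤ n ∧ r ∉ π) :
    Cfsg.IsEPiGroup π (Equiv.Perm (Fin n)) ↔
      ((n.Prime ∧ ∀ r : ℕ, r.Prime → r ≤ n → (r ∈ π ↔ r < n)) ∨
       ((n = 7 ∨ n = 8) ∧ ∀ r : ℕ, r.Prime → r ≤ n → (r ∈ π ↔ (r = 2 ∨ r = 3)))) := by
  have hcard : Fintype.card (Fin n) = n := Fintype.card_fin n
  constructor
  · rintro ⟨H, hH⟩
    have hc := hall_sym (α := Fin n) hH (by rw [hcard]; exact h2) (by rw [hcard]; exact hns)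
    rcases hc with ⟨hp, hiff, -⟩ | ⟨h7, hiff, -⟩ | ⟨h8, hiff, -⟩
    · rw [hcard] at hp hiff
      exact Or.inl ⟨hp, hiff⟩
    · rw [hcard] at h7
      subst h7
      exact Or.inr ⟨Or.inl rfl, hiff⟩
    · rw [hcard] at h8
      subst h8
      exact Or.inr ⟨Or.inr rfl, hiff⟩
  · rintro (⟨hp, hiff⟩ | ⟨h78 | h78, hiff⟩)
    · obtain ⟨S, hS⟩ := exists_finset_card (α := Fin n) 1 (by rw [hcard]; exact hp.pos)
      exact ⟨stabS S, hall_point (by rw [hcard]; exact hp) (by rw [hcard]; exact hiff) S hS⟩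
    · subst h78
      obtain ⟨S, hS⟩ := exists_finset_card (α := Fin 7) 3 (by rw [hcard]; norm_num)
      exact ⟨stabS S, hall_seven hcard hiff S hS⟩
    · subst h78
      obtain ⟨S, hS⟩ := exists_finset_card (α := Fin 8) 4 (by rw [hcard]; norm_num)
      exact ⟨stabP S, hall_eight hcard hiff S hS⟩

end Cfsg.Agent.S2536
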