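import Cfsg.Statements.S2541
import Mathlib

set_option autoImplicit false
open Cfsg

namespace Cfsg.Agent.S2541

set_option maxRecDepth 100000 in
theorem perm6_pow (σ : Equiv.Perm (Fin 6)) : σ ^ 8 = 1 → σ ^ 4 = 1 := by
  revert σ
  decide +kernel

/-- Let F be a field with 9 elements. The symmetric group S_6 is not isomorphic to PGL_2(F) (although both have index-2 subgroups isomorphic to A_6). -/
theorem result {F : Type*} [Field F] [Fintype F] (hF : Fintype.card F = 9) : ¬ Nonempty (Equiv.Perm (Fin 6) ≃* Matrix.ProjGenLinGroup (Fin 2) F) := by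
  classical
  rintro ⟨e⟩
  -- a generator of the multiplicative group
  obtain ⟨a, ha⟩ := IsCyclic.exists_generator (α := Fˣ)
  have hcard : Fintype.card Fˣ = 8 := by rw [Fintype.card_units, hF]
  have hord : orderOf a = 8 := by
    rw [orderOf_eq_card_of_forall_mem_zpowers ha, Nat.card_eq_fintype_card, hcard]
  -- the diagonal matrix diag(a, 1)
  let D : GL (Fin 2) F :=
    ⟨Matrix.diagonal ![(a : F), 1], Matrix.diagonal ![((a⁻¹ : Fˣ) : F), 1],
      by
        rw [Matrix.diagonal_mul_diagonal]
        ext i j
        fin_cases i <;> fin_cases j <;> simp [Matrix.diagonal_apply, Matrix.one_apply],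
      by
        rw [Matrix.diagonal_mul_diagonal]
        ext i j
        fin_cases i <;> fin_cases j <;> simp [Matrix.diagonal_apply, Matrix.one_apply]⟩
  have hDpow : ∀ k : ℕ, ((D ^ k : GL (Fin 2) F) : Matrix (Fin 2) (Fin 2) F) = Matrix.diagonal ![(a : F) ^ k, 1] := by
    intro k
    rw [Units.val_pow_eq_pow_val]
    show (Matrix.diagonal ![(a : F), 1]) ^ k = _
    rw [Matrix.diagonal_pow]
    congr 1
    ext i
    fin_cases i <;> simp
  let x : Matrix.ProjGenLinGroup (Fin 2) F := Matrix.ProjGenLinGroup.mk D
  have hxpow : ∀ k : ℕ, x ^ k = 1 ↔ a ^ k = 1 := by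
    intro k
    show (Matrix.ProjGenLinGroup.mk D) ^ k = 1 ↔ _
    rw [← map_pow, Matrix.ProjGenLinGroup.mk_eq_one,
      Matrix.GeneralLinearGroup.mem_center_iff_val_mem_range_scalar, hDpow]
    constructor
    · rintro ⟨c, hc⟩
      have h0 := congrFun (congrFun hc 0) 0
      have h1 := congrFun (congrFun hc 1) 1
      simp [Matrix.scalar_apply, Matrix.diagonal_apply] at h0 h1
      rw [h1] at h0
      ext
      simpa using h0.symm
    · intro h
      refine ⟨1, ?_⟩
      have h' : (a : F) ^ k = 1 := by
        have := congrArg (fun u : Fˣ => (u : F)) h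
        simpa using this
      rw [h']
      ext i j
      fin_cases i <;> fin_cases j <;> simp [Matrix.scalar_apply, Matrix.diagonal_apply]
  have hx8 : x ^ 8 = 1 := by
    rw [hxpow, ← hord]; exact pow_orderOf_eq_one a
  have hx4 : x ^ 4 ≠ 1 := by
    rw [Ne, hxpow]
    intro h
    have := orderOf_dvd_of_pow_eq_one h
    rw [hord] at this
    omega
  have h8 : (e.symm x) ^ 8 = 1 := by rw [← map_pow, hx8, map_one]
  have h4 := perm6_pow _ h8
  apply hx4
  rw [← map_pow] at h4
  have := congrArg e h4
  simpa using this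

end Cfsg.Agent.S2541
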