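import Cfsg.Statements.S2548
import Cfsg.Agent.Lib.Helper1.DBN14
import Cfsg.Agent.Lib.Helper24.OPlusOne
import Cfsg.Agent.Lib.Helper25.OPlusDegB4

set_option autoImplicit false
open Cfsg

namespace Cfsg.Agent.S2548

/-- Let F be a finite field of characteristic p and consider the group PΩ⁺_{2m}(F) of the hyperbolic quadratic form Σ x_i y_i with m ≥ 1, where Ω denotes the commutator subgroup of the full isometry group. This group has an irreducible complex character χ whose degree equals the order of a Sylow p-subgroup (equal to q^(m(m−1)) when #F = q, except in the degenerate case m = 2, q = 2, where this commutator subgroup has order 18 and its Sylow 2-subgroups have order 2) and whose restriction to any Sylow p-subgroup P is the regular character of P: χ vanishes on the non-identity elements of P. (This is the Steinberg character.) -/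
theorem result {F : Type*} [Field F] [Fintype F] (p : ℕ) [Fact p.Prime] [CharP F p] (m : ℕ) (hm : 1 ≤ m) : ∃ χ : Cfsg.POmega F (Cfsg.quadFormPlus m F) → ℂ, Cfsg.IsIrrCharacter (Cfsg.POmega F (Cfsg.quadFormPlus m F)) χ ∧ ∀ P : Sylow p (Cfsg.POmega F (Cfsg.quadFormPlus m F)), χ 1 = Nat.card P ∧ ∀ x : Cfsg.POmega F (Cfsg.quadFormPlus m F), x ∈ P → x ≠ 1 → χ x = 0 := by
  rcases Nat.lt_or_ge m 2 with h1 | h2
  · have hm1 : m = 1 := by omega
    subst hm1
    exact Cfsg.Agent.Lib.Helper24.OPlusOne.steinberg_plus_one p
  · obtain ⟨n, rfl⟩ : ∃ n, m = n + 1 + 1 := ⟨m - 2, by omega⟩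
    by_cases hdeg : Fintype.card F = 2 ∧ n = 0
    · obtain ⟨hF, hn⟩ := hdeg
      subst hn
      have hp : p = 2 := by
        have hdvd : p ∣ Fintype.card F := by
          have h0 : ((Fintype.card F : ℕ) : F) = 0 := Nat.cast_card_eq_zero F
          exact (CharP.cast_eq_zero_iff F p _).mp h0
        rw [hF] at hdvd
        exact (Nat.prime_dvd_prime_iff_eq (Fact.out : p.Prime) Nat.prime_two).mp hdvd
      subst hp
      exact Cfsg.Agent.Lib.Helper25.OPlusDeg.steinberg_plus_two_two hF
    · have hqm : Fintype.card F ≠ 2 ∨ n ≠ 0 := by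
        by_contra hcon
        apply hdeg
        constructor
        · by_contra h
          exact hcon (Or.inl h)
        · by_contra h
          exact hcon (Or.inr h)
      exact Cfsg.Agent.Lib.Helper1.DBN.steinberg_quadFormPlus p hqm

end Cfsg.Agent.S2548
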