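import Cfsg.Statements.S2552
import Mathlib

set_option autoImplicit false
open Cfsg

namespace Cfsg.Agent.S2552

open Module Matrix

theorem exists_equiv_map {F V : Type*} [Field F] [AddCommGroup V] [Module F V] [FiniteDimensional F V]
    (U₁ U₂ : Submodule F V) (h : finrank F U₁ = finrank F U₂) :
    ∃ e : V ≃ₗ[F] V, U₁.map (e : V →ₗ[F] V) = U₂ := by
  obtain ⟨W₁, hW₁⟩ := U₁.exists_isCompl
  obtain ⟨W₂, hW₂⟩ := U₂.exists_isCompl
  have hW : finrank F W₁ = finrank F W₂ := by
    have h1 := Submodule.finrank_add_eq_of_isCompl hW₁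
    have h2 := Submodule.finrank_add_eq_of_isCompl hW₂
    omega
  let f : U₁ ≃ₗ[F] U₂ := LinearEquiv.ofFinrankEq U₁ U₂ h
  let k : W₁ ≃ₗ[F] W₂ := LinearEquiv.ofFinrankEq W₁ W₂ hW
  let e : V ≃ₗ[F] V :=
    (U₁.prodEquivOfIsCompl W₁ hW₁).symm ≪≫ₗ (f.prodCongr k) ≪≫ₗ (U₂.prodEquivOfIsCompl W₂ hW₂)
  have key : ∀ u : U₁, e (u : V) = (f u : V) := by
    intro u
    simp only [e, LinearEquiv.trans_apply, Submodule.prodEquivOfIsCompl_symm_apply_left,
      LinearEquiv.prodCongr_apply, Submodule.coe_prodEquivOfIsCompl', map_zero,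
      Submodule.coe_zero, add_zero]
  refine ⟨e, ?_⟩
  apply le_antisymm
  · rintro _ ⟨u, hu, rfl⟩
    have := key ⟨u, hu⟩
    simp only [LinearEquiv.coe_coe] at this ⊢
    rw [this]
    exact (f ⟨u, hu⟩).2
  · intro v hv
    refine ⟨(f.symm ⟨v, hv⟩ : V), (f.symm ⟨v, hv⟩).2, ?_⟩
    have := key (f.symm ⟨v, hv⟩)
    simp only [LinearEquiv.coe_coe]
    rw [this]
    simp

/-- Let F be a finite field and n ≥ 1. For every k, the special linear group SL_n(F) acts transitively on the set of k-dimensional subspaces of F^n: any two subspaces of the same dimension are carried onto each other by some matrix of determinant 1. -/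
theorem result {F : Type*} [Field F] [Fintype F] (n : ℕ) (hn : 1 ≤ n) (U₁ U₂ : Submodule F (Fin n → F)) (h : Module.finrank F U₁ = Module.finrank F U₂) : ∃ g : Matrix.SpecialLinearGroup (Fin n) F, U₁.map ((Matrix.SpecialLinearGroup.toLin' g : (Fin n → F) ≃ₗ[F] (Fin n → F)) : (Fin n → F) →ₗ[F] (Fin n → F)) = U₂ := by
  classical
  obtain ⟨e, he⟩ := exists_equiv_map U₁ U₂ h
  by_cases htop : U₁ = ⊤
  · have h2 : U₂ = ⊤ := by
      apply Submodule.eq_top_of_finrank_eq
      rw [← h, htop, finrank_top]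
    refine ⟨1, ?_⟩
    rw [htop, h2, map_one]
    exact Submodule.map_id ⊤
  · obtain ⟨w, hw⟩ : ∃ w, w ∉ U₁ := by
      by_contra hcon
      push Not at hcon
      exact htop (eq_top_iff.mpr fun x _ => hcon x)
    obtain ⟨φ, hφw, hφU⟩ := Submodule.exists_dual_map_eq_bot_of_notMem hw inferInstance
    have hφU' : ∀ u ∈ U₁, φ u = 0 := by
      intro u hu
      have : φ u ∈ Submodule.map φ U₁ := ⟨u, hu, rfl⟩
      rw [hφU] at this
      exact (Submodule.mem_bot F).mp this
    let A : Matrix (Fin n) (Fin n) F := LinearMap.toMatrix' (e : (Fin n → F) →ₗ[F] (Fin n → F))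
    have hA : A.det = LinearMap.det (e : (Fin n → F) →ₗ[F] (Fin n → F)) := LinearMap.det_toMatrix' _
    have hδ : IsUnit A.det := by rw [hA]; exact e.isUnit_det'
    have hAv : ∀ x, A *ᵥ x = e x := by
      intro x
      rw [← Matrix.toLin'_apply, Matrix.toLin'_toMatrix']
      rfl
    let φv : Fin n → F := fun j => φ (Pi.single j 1)
    have hφ : ∀ x, φ x = φv ⬝ᵥ x := by
      intro x
      rw [LinearMap.pi_apply_eq_sum_univ φ x]
      simp only [dotProduct, φv, smul_eq_mul]
      refine Finset.sum_congr rfl fun j _ => ?_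
      rw [mul_comm]
      congr 2
      ext k
      simp [Pi.single_apply, eq_comm]
    let a : F := (A.det⁻¹ - 1) / φ w
    let D : Matrix (Fin n) (Fin n) F := 1 + Matrix.replicateCol Unit (a • w) * Matrix.replicateRow Unit φv
    have hD : D.det = A.det⁻¹ := by
      rw [Matrix.det_one_add_replicateCol_mul_replicateRow, dotProduct_smul, ← hφ]
      simp only [a, smul_eq_mul]
      field_simp
      ring
    have hDx : ∀ x ∈ U₁, D *ᵥ x = x := by
      intro x hx
      simp only [D, Matrix.add_mulVec, Matrix.one_mulVec, add_eq_left]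
      rw [← Matrix.mulVec_mulVec]
      ext i
      simp only [Matrix.mulVec, dotProduct, Matrix.replicateCol_apply, Matrix.replicateRow_apply,
        Finset.univ_unique, Finset.sum_singleton, Pi.zero_apply]
      have : ∑ j, φv j * x j = 0 := by
        have := hφ x
        rw [hφU' x hx] at this
        simpa [dotProduct] using this.symm
      rw [this, mul_zero]
    let g : Matrix.SpecialLinearGroup (Fin n) F :=
      ⟨A * D, by rw [Matrix.det_mul, hD, mul_inv_cancel₀ hδ.ne_zero]⟩
    have hg : ∀ u ∈ U₁, (Matrix.SpecialLinearGroup.toLin' g) u = e u := by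
      intro u hu
      rw [Matrix.SpecialLinearGroup.toLin'_apply]
      show Matrix.toLin' (A * D) u = e u
      rw [Matrix.toLin'_apply, ← Matrix.mulVec_mulVec, hDx u hu, hAv]
    refine ⟨g, ?_⟩
    ext v
    constructor
    · rintro ⟨u, hu, rfl⟩
      simp only [LinearEquiv.coe_coe]
      rw [hg u hu, ← he]
      exact ⟨u, hu, rfl⟩
    · intro hv
      rw [← he] at hv
      obtain ⟨u, hu, rfl⟩ := hv
      refine ⟨u, hu, ?_⟩
      simp only [LinearEquiv.coe_coe]
      exact hg u hu

end Cfsg.Agent.S2552
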