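import Cfsg.Statements.S2561
import Cfsg.Agent.Lib.Helper15.QuadF2f

set_option autoImplicit false
open Cfsg

namespace Cfsg.Agent.S2561

open Cfsg.Agent.Lib.Helper15

theorem card_all (m : ℕ) :
    Nat.card {q : (Fin m ⊕ Fin m → ZMod 2) → ZMod 2 // PolarId m q} = 2 ^ (2 * m) := by
  have h := card_polarId_and m (fun _ => True)
  rw [← card_space m]
  have e1 : Nat.card {q : (Fin m ⊕ Fin m → ZMod 2) → ZMod 2 // PolarId m q} =
      Nat.card {q : (Fin m ⊕ Fin m → ZMod 2) → ZMod 2 // PolarId m q ∧ True} :=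
    Nat.card_congr (Equiv.subtypeEquivRight (fun q => by simp))
  rw [e1, h]
  exact Nat.card_congr (Equiv.subtypeUnivEquiv (fun _ => trivial))

theorem card_plus (k : ℕ) :
    Nat.card {q : (Fin (k + 1) ⊕ Fin (k + 1) → ZMod 2) → ZMod 2 // PolarId (k + 1) q ∧ IsPlusType (k + 1) q} =
      2 ^ (2 * k + 1) + 2 ^ k := by
  rw [card_polarId_and, ← card_zeros_plus_two k]
  apply Nat.card_congr
  apply Equiv.subtypeEquivRight
  intro w
  exact twist_iff (by omega) (polarId_plus (k + 1)) w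

theorem card_minus (k : ℕ) :
    Nat.card {q : (Fin (k + 1) ⊕ Fin (k + 1) → ZMod 2) → ZMod 2 // PolarId (k + 1) q ∧ IsMinusType (k + 1) q} =
      2 ^ (2 * k + 1) - 2 ^ k := by
  classical
  rw [card_polarId_and]
  have e1 : Nat.card {w : Fin (k + 1) ⊕ Fin (k + 1) → ZMod 2 // IsMinusType (k + 1) (twist (k + 1) (Cfsg.quadFormPlus (k + 1) (ZMod 2)) w)} =
      Nat.card {w : Fin (k + 1) ⊕ Fin (k + 1) → ZMod 2 // ¬ Cfsg.quadFormPlus (k + 1) (ZMod 2) w = 0} := by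
    apply Nat.card_congr
    apply Equiv.subtypeEquivRight
    intro w
    rw [← twist_iff (by omega) (polarId_plus (k + 1)) w]
    have hq' := twist_polarId (polarId_plus (k + 1)) w
    constructor
    · intro hmn hp
      exact not_plus_and_minus (by omega) hp hmn
    · intro hnp
      rcases hq'.plus_or_minus (by omega) with hp | hmn
      · exact absurd hp hnp
      · exact hmn
  rw [e1]
  have hcompl : Nat.card {w : Fin (k + 1) ⊕ Fin (k + 1) → ZMod 2 // ¬ Cfsg.quadFormPlus (k + 1) (ZMod 2) w = 0} =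
      2 ^ (2 * (k + 1)) - Nat.card {w : Fin (k + 1) ⊕ Fin (k + 1) → ZMod 2 // Cfsg.quadFormPlus (k + 1) (ZMod 2) w = 0} := by
    rw [← card_space, Nat.card_eq_fintype_card, Nat.card_eq_fintype_card, Nat.card_eq_fintype_card]
    exact Fintype.card_subtype_compl _
  rw [hcompl, card_zeros_plus_two]
  have e2 : (2 : ℕ) ^ (2 * (k + 1)) = 2 * 2 ^ (2 * k + 1) := by ring
  omega

/-- Over F_2^{2m} the quadratic forms polarizing to a fixed non-singular alternating form number 2^{2m}; each is of plus or minus type, with 2^(2m-1)+2^(m-1) of plus type and 2^(2m-1)-2^(m-1) of minus type. -/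
theorem result (m : ℕ) (hm : 1 ≤ m) :
    Nat.card {q : (Fin m ⊕ Fin m → ZMod 2) → ZMod 2 // (∀ u v : (Fin m ⊕ Fin m → ZMod 2), q (u + v) = q u + q v + (Cfsg.quadFormPlus m (ZMod 2) (u + v) - Cfsg.quadFormPlus m (ZMod 2) u - Cfsg.quadFormPlus m (ZMod 2) v))} = 2 ^ (2 * m) ∧
    (∀ q : (Fin m ⊕ Fin m → ZMod 2) → ZMod 2, (∀ u v : (Fin m ⊕ Fin m → ZMod 2), q (u + v) = q u + q v + (Cfsg.quadFormPlus m (ZMod 2) (u + v) - Cfsg.quadFormPlus m (ZMod 2) u - Cfsg.quadFormPlus m (ZMod 2) v)) →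
      (∃ g : (Fin m ⊕ Fin m → ZMod 2) ≃ₗ[ZMod 2] (Fin m ⊕ Fin m → ZMod 2), ∀ v, q v = Cfsg.quadFormPlus m (ZMod 2) (g v)) ∨
      (∃ g : (Fin m ⊕ Fin m → ZMod 2) ≃ₗ[ZMod 2] ((Fin (m - 1) ⊕ Fin (m - 1)) ⊕ Fin 2 → ZMod 2), ∀ v, q v = Cfsg.quadFormMinus (m - 1) (ZMod 2) 1 1 (g v))) ∧
    Nat.card {q : (Fin m ⊕ Fin m → ZMod 2) → ZMod 2 // (∀ u v : (Fin m ⊕ Fin m → ZMod 2), q (u + v) = q u + q v + (Cfsg.quadFormPlus m (ZMod 2) (u + v) - Cfsg.quadFormPlus m (ZMod 2) u - Cfsg.quadFormPlus m (ZMod 2) v)) ∧ ∃ g : (Fin m ⊕ Fin m → ZMod 2) ≃ₗ[ZMod 2] (Fin m ⊕ Fin m → ZMod 2), ∀ v, q v = Cfsg.quadFormPlus m (ZMod 2) (g v)} = 2 ^ (2 * m - 1) + 2 ^ (m - 1) ∧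
    Nat.card {q : (Fin m ⊕ Fin m → ZMod 2) → ZMod 2 // (∀ u v : (Fin m ⊕ Fin m → ZMod 2), q (u + v) = q u + q v + (Cfsg.quadFormPlus m (ZMod 2) (u + v) - Cfsg.quadFormPlus m (ZMod 2) u - Cfsg.quadFormPlus m (ZMod 2) v)) ∧ ∃ g : (Fin m ⊕ Fin m → ZMod 2) ≃ₗ[ZMod 2] ((Fin (m - 1) ⊕ Fin (m - 1)) ⊕ Fin 2 → ZMod 2), ∀ v, q v = Cfsg.quadFormMinus (m - 1) (ZMod 2) 1 1 (g v)} = 2 ^ (2 * m - 1) - 2 ^ (m - 1) := by
  obtain ⟨k, rfl⟩ : ∃ k, m = k + 1 := ⟨m - 1, by omega⟩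
  refine ⟨card_all (k + 1), fun q hq => PolarId.plus_or_minus hm hq, ?_, ?_⟩
  · have h := card_plus k
    have e : 2 * (k + 1) - 1 = 2 * k + 1 := by omega
    rw [e]
    exact h
  · have h := card_minus k
    have e : 2 * (k + 1) - 1 = 2 * k + 1 := by omega
    rw [e]
    exact h

end Cfsg.Agent.S2561
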