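import Cfsg.Statements.S2562
import Cfsg.Agent.Lib.Helper15.QuadF2c

set_option autoImplicit false
open Cfsg

namespace Cfsg.Agent.S2562

open Cfsg.Agent.Lib.Helper15 Module

/-- Over F_2 in dimension 2m a maximal totally singular subspace has dimension m for the plus-type form and m-1 for the minus-type form. -/
theorem result (m : ℕ) (hm : 1 ≤ m) :
    (∃ U : Submodule (ZMod 2) (Fin m ⊕ Fin m → ZMod 2), (∀ u ∈ U, Cfsg.quadFormPlus m (ZMod 2) u = 0) ∧ Module.finrank (ZMod 2) ↥U = m) ∧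
    (∀ U : Submodule (ZMod 2) (Fin m ⊕ Fin m → ZMod 2), (∀ u ∈ U, Cfsg.quadFormPlus m (ZMod 2) u = 0) → Module.finrank (ZMod 2) ↥U ≤ m) ∧
    (∃ U : Submodule (ZMod 2) ((Fin (m - 1) ⊕ Fin (m - 1)) ⊕ Fin 2 → ZMod 2), (∀ u ∈ U, Cfsg.quadFormMinus (m - 1) (ZMod 2) 1 1 u = 0) ∧ Module.finrank (ZMod 2) ↥U = m - 1) ∧
    (∀ U : Submodule (ZMod 2) ((Fin (m - 1) ⊕ Fin (m - 1)) ⊕ Fin 2 → ZMod 2), (∀ u ∈ U, Cfsg.quadFormMinus (m - 1) (ZMod 2) 1 1 u = 0) → Module.finrank (ZMod 2) ↥U ≤ m - 1) := by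
  refine ⟨?_, ?_, ?_, ?_⟩
  · exact ⟨LinearMap.range (plusEmb (ZMod 2) m), plus_singular (ZMod 2) m, finrank_range_plusEmb (ZMod 2) m⟩
  · intro U hU
    have := two_mul_finrank_le_of_singular (QPlus (ZMod 2) m) (nondegenerate_QPlus (ZMod 2) m) U
      (fun u hu => by rw [QPlus_apply]; exact hU u hu)
    rw [finrank_plus_space] at this
    omega
  · exact ⟨LinearMap.range (minusEmb (ZMod 2) (m - 1)), minus_singular (ZMod 2) (m - 1) 1 1,
      finrank_range_minusEmb (ZMod 2) (m - 1)⟩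
  · intro U hU
    exact finrank_le_of_singular_minus_two (m - 1) U hU

end Cfsg.Agent.S2562
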