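import Cfsg.Statements.S2567
import Mathlib

set_option autoImplicit false
open Cfsg

namespace Cfsg.Agent.S2567

/-- General lifting lemma: if the centre of `G` is finite of order prime to the prime `r`, an element of order
`r` of `G ⧸ Z(G)` has exactly one preimage of order `r`. -/
theorem lift_unique {G : Type*} [Group G] {r : ℕ} (hr : r.Prime)
    (hcop : (Nat.card (Subgroup.center G)).Coprime r)
    (x : G ⧸ Subgroup.center G) (hx : orderOf x = r) :
    ∃! g : G, (QuotientGroup.mk g : G ⧸ Subgroup.center G) = x ∧ orderOf g = r := by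
  classical
  obtain ⟨g0, rfl⟩ := QuotientGroup.mk_surjective x
  have hg0r : g0 ^ r ∈ Subgroup.center G := by
    rw [← QuotientGroup.eq_one_iff, QuotientGroup.mk_pow, ← hx]
    exact pow_orderOf_eq_one _
  let z0 : Subgroup.center G := ⟨g0 ^ r, hg0r⟩
  let z : Subgroup.center G := (powCoprime hcop).symm z0⁻¹
  have hz : z ^ r = z0⁻¹ := (powCoprime hcop).apply_symm_apply z0⁻¹
  have hzc : ∀ h : G, h * (z : G) = (z : G) * h := fun h => (Subgroup.mem_center_iff.mp z.2 h)
  have hgr : (g0 * (z : G)) ^ r = 1 := by
    rw [(show Commute g0 (z : G) from hzc g0).mul_pow]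
    have : ((z : G)) ^ r = (g0 ^ r)⁻¹ := by
      have := congrArg (fun u : Subgroup.center G => (u : G)) hz
      simpa [z0] using this
    rw [this, mul_inv_cancel]
  have hmk : (QuotientGroup.mk (g0 * (z : G)) : G ⧸ Subgroup.center G) = QuotientGroup.mk g0 := by
    rw [QuotientGroup.mk_mul, (QuotientGroup.eq_one_iff (z : G)).mpr z.2, mul_one]
  refine ⟨g0 * (z : G), ⟨hmk, ?_⟩, ?_⟩
  · have hdvd : orderOf (g0 * (z : G)) ∣ r := orderOf_dvd_of_pow_eq_one hgr
    rcases (Nat.dvd_prime hr).mp hdvd with h1 | h1
    · exfalso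
      rw [orderOf_eq_one_iff] at h1
      rw [h1] at hmk
      have : orderOf (QuotientGroup.mk g0 : G ⧸ Subgroup.center G) = 1 := by
        rw [← hmk]; simp
      rw [hx] at this
      exact hr.one_lt.ne' this
    · exact h1
  · rintro g' ⟨hg'mk, hg'ord⟩
    -- `g' = g0 z w` with `w` central, `w ^ r = 1`
    have hmk' : (QuotientGroup.mk g' : G ⧸ Subgroup.center G) = QuotientGroup.mk (g0 * (z : G)) := by
      rw [hmk, hg'mk]
    have hw : (g0 * (z : G))⁻¹ * g' ∈ Subgroup.center G := by
      rw [← QuotientGroup.eq]; exact hmk'.symm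
    let w : Subgroup.center G := ⟨(g0 * (z : G))⁻¹ * g', hw⟩
    have hg' : g' = (g0 * (z : G)) * (w : G) := by
      show g' = (g0 * (z : G)) * ((g0 * (z : G))⁻¹ * g')
      group
    have hwc : Commute (g0 * (z : G)) (w : G) := (Subgroup.mem_center_iff.mp w.2 _)
    have hwr : (w : G) ^ r = 1 := by
      have h1 : g' ^ r = 1 := by rw [← hg'ord]; exact pow_orderOf_eq_one _
      rw [hg', hwc.mul_pow, hgr, one_mul] at h1
      exact h1
    have hwr' : w ^ r = 1 := by
      ext; simpa using hwr
    have hw1 : w = 1 := by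
      have : (powCoprime hcop) w = (powCoprime hcop) 1 := by
        show w ^ r = 1 ^ r
        rw [hwr', one_pow]
      exact (powCoprime hcop).injective this
    rw [hg', hw1]; simp

/-- Lifting elements of prime order from PGL to GL: let F be a finite field with q elements, r a prime not dividing q − 1, and x an element of order r in GL_n(F) modulo its centre (the scalar matrices). Then x has exactly one preimage in GL_n(F) of order r. -/
theorem result {F : Type*} [Field F] [Fintype F] {q n r : ℕ} (hF : Fintype.card F = q) (hr : r.Prime) (hdiv : ¬ r ∣ q - 1) (x : GL (Fin n) F ⧸ Subgroup.center (GL (Fin n) F)) (hx : orderOf x = r) : ∃! g : GL (Fin n) F, (QuotientGroup.mk g : GL (Fin n) F ⧸ Subgroup.center (GL (Fin n) F)) = x ∧ orderOf g = r := by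
  classical
  apply lift_unique hr _ x hx
  rw [Nat.coprime_comm, Nat.Prime.coprime_iff_not_dvd hr]
  intro hdvd
  apply hdiv
  have h1 : Nat.card (Subgroup.center (GL (Fin n) F)) ∣ Nat.card Fˣ := by
    rw [Matrix.GeneralLinearGroup.center_eq_range_scalar]
    exact Subgroup.card_range_dvd _
  have h2 : Nat.card Fˣ = q - 1 := by
    rw [Nat.card_eq_fintype_card, Fintype.card_units, hF]
  rw [h2] at h1
  exact hdvd.trans h1

end Cfsg.Agent.S2567
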