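import Cfsg.Statements.S2568
import Cfsg.Agent.Lib.Helper14.PolyExp
import Cfsg.Agent.Lib.Helper14.SemiClass
import Cfsg.Agent.S2387

set_option autoImplicit false
open Cfsg

namespace Cfsg.Agent.S2568

open Polynomial Cfsg.Agent.Lib.Helper14

section abstract
open scoped Classical
variable {K : Type*} [Field K]

/-- The exponent function attached to `e`: the exponent of `P₀` is forced by the degree. -/
noncomputable def fullExp (S : Finset K[X]) (P₀ : K[X]) (n i : ℕ) (e : K[X] →₀ ℕ) : K[X] → ℕ :=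
  fun P => if P = P₀ then n - i * ∑ Q ∈ S, e Q else e P

/-- The polynomial attached to `e`. -/
noncomputable def polyOf (S : Finset K[X]) (P₀ : K[X]) (n i : ℕ) (e : K[X] →₀ ℕ) : K[X] :=
  expProd (insert P₀ S) (fullExp S P₀ n i e)

theorem polyOf_eq (S : Finset K[X]) (P₀ : K[X]) (hP₀ : P₀ ∉ S) (n i : ℕ) (e : K[X] →₀ ℕ) :
    polyOf S P₀ n i e = P₀ ^ (n - i * ∑ Q ∈ S, e Q) * ∏ P ∈ S, P ^ e P := by
  classical
  unfold polyOf expProd
  rw [Finset.prod_insert hP₀]
  congr 1
  · unfold fullExp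
    rw [if_pos rfl]
  · apply Finset.prod_congr rfl
    intro P hP
    unfold fullExp
    rw [if_neg]
    rintro rfl
    exact hP₀ hP

theorem sum_le_of_mem (S : Finset K[X]) (P₀ : K[X]) (hP₀ : P₀ ∉ S) (N : ℕ) (e : K[X] →₀ ℕ)
    (he : e ∈ (insert P₀ S).finsuppAntidiag N) : e P₀ + ∑ Q ∈ S, e Q = N := by
  classical
  rw [Finset.mem_finsuppAntidiag] at he
  rw [← he.1, Finset.sum_insert hP₀]

theorem natDegree_polyOf (S : Finset K[X]) (P₀ : K[X]) (hP₀ : P₀ ∉ S)
    (hT : ∀ P ∈ insert P₀ S, P.Monic ∧ Irreducible P) (hd0 : P₀.natDegree = 1) (n i : ℕ)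
    (hdS : ∀ P ∈ S, P.natDegree = i) (e : K[X] →₀ ℕ)
    (he : e ∈ (insert P₀ S).finsuppAntidiag (n / i)) :
    (polyOf S P₀ n i e).natDegree = n := by
  classical
  have hs := sum_le_of_mem S P₀ hP₀ (n / i) e he
  have hle : i * ∑ Q ∈ S, e Q ≤ n := by
    calc i * ∑ Q ∈ S, e Q ≤ i * (n / i) := Nat.mul_le_mul_left _ (by omega)
      _ ≤ n := Nat.mul_div_le n i
  unfold polyOf
  rw [natDegree_expProd _ _ fun P hP => (hT P hP).1, Finset.sum_insert hP₀]
  have h1 : fullExp S P₀ n i e P₀ = n - i * ∑ Q ∈ S, e Q := by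
    unfold fullExp
    rw [if_pos rfl]
  have h2 : ∑ P ∈ S, fullExp S P₀ n i e P * P.natDegree = i * ∑ Q ∈ S, e Q := by
    rw [Finset.mul_sum]
    apply Finset.sum_congr rfl
    intro P hP
    have hne : P ≠ P₀ := by
      rintro rfl
      exact hP₀ hP
    unfold fullExp
    rw [if_neg hne, hdS P hP, mul_comm]
  rw [h1, h2, hd0]
  omega

theorem polyOf_monic (S : Finset K[X]) (P₀ : K[X])
    (hT : ∀ P ∈ insert P₀ S, P.Monic ∧ Irreducible P) (n i : ℕ) (e : K[X] →₀ ℕ) :
    (polyOf S P₀ n i e).Monic := by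
  classical
  unfold polyOf
  exact expProd_monic _ _ fun P hP => (hT P hP).1

theorem polyOf_injOn (S : Finset K[X]) (P₀ : K[X]) (hP₀ : P₀ ∉ S)
    (hT : ∀ P ∈ insert P₀ S, P.Monic ∧ Irreducible P) (n i : ℕ) (e e' : K[X] →₀ ℕ)
    (he : e ∈ (insert P₀ S).finsuppAntidiag (n / i))
    (he' : e' ∈ (insert P₀ S).finsuppAntidiag (n / i))
    (h : polyOf S P₀ n i e = polyOf S P₀ n i e') : e = e' := by
  classical
  unfold polyOf at h
  have h1 := expProd_injective _ _ _ hT h
  have hS : ∀ P ∈ S, e P = e' P := by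
    intro P hP
    have hne : P ≠ P₀ := by
      rintro rfl
      exact hP₀ hP
    have := h1 P (Finset.mem_insert_of_mem hP)
    unfold fullExp at this
    rwa [if_neg hne, if_neg hne] at this
  have hs := sum_le_of_mem S P₀ hP₀ (n / i) e he
  have hs' := sum_le_of_mem S P₀ hP₀ (n / i) e' he'
  have hsum : ∑ Q ∈ S, e Q = ∑ Q ∈ S, e' Q := Finset.sum_congr rfl hS
  ext P
  by_cases hP : P ∈ insert P₀ S
  · rcases Finset.mem_insert.mp hP with rfl | hP
    · omega
    · exact hS P hP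
  · rw [Finset.mem_finsuppAntidiag] at he he'
    have h2 : P ∉ e.support := fun hh => hP (he.2 hh)
    have h3 : P ∉ e'.support := fun hh => hP (he'.2 hh)
    rw [Finsupp.notMem_support_iff] at h2 h3
    rw [h2, h3]

theorem exists_polyOf (S : Finset K[X]) (P₀ : K[X]) (hP₀ : P₀ ∉ S)
    (hT : ∀ P ∈ insert P₀ S, P.Monic ∧ Irreducible P) (hd0 : P₀.natDegree = 1) (n i : ℕ)
    (hi : 0 < i) (hdS : ∀ P ∈ S, P.natDegree = i) (f : K[X]) (hm : f.Monic)
    (hn : f.natDegree = n)
    (hgood : ∀ P : K[X], P.Monic → Irreducible P → P ∣ f → P ∈ insert P₀ S) :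
    ∃ e ∈ (insert P₀ S).finsuppAntidiag (n / i), polyOf S P₀ n i e = f := by
  classical
  obtain ⟨ε, hε⟩ := exists_expProd (insert P₀ S) n f hn hm hgood
  have hdeg : ε P₀ + i * ∑ Q ∈ S, ε Q = n := by
    have h1 := natDegree_expProd (insert P₀ S) ε fun P hP => (hT P hP).1
    rw [← hε, hn, Finset.sum_insert hP₀, hd0, mul_one] at h1
    rw [h1, Finset.mul_sum]
    congr 1
    apply Finset.sum_congr rfl
    intro P hP
    rw [hdS P hP, mul_comm]
  have hsle : ∑ Q ∈ S, ε Q ≤ n / i := by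
    rw [Nat.le_div_iff_mul_le hi]
    calc (∑ Q ∈ S, ε Q) * i = i * ∑ Q ∈ S, ε Q := mul_comm _ _
      _ ≤ n := by omega
  let e : K[X] →₀ ℕ := Finsupp.onFinset (insert P₀ S)
    (fun P => if P = P₀ then n / i - ∑ Q ∈ S, ε Q else if P ∈ S then ε P else 0) (by
      intro P hP
      by_contra hne
      rw [Finset.mem_insert, not_or] at hne
      exact hP (by rw [if_neg hne.1, if_neg hne.2]))
  have he0 : e P₀ = n / i - ∑ Q ∈ S, ε Q := by
    show (if P₀ = P₀ then n / i - ∑ Q ∈ S, ε Q else if P₀ ∈ S then ε P₀ else 0) = _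
    rw [if_pos rfl]
  have heS : ∀ P ∈ S, e P = ε P := by
    intro P hP
    have hne : P ≠ P₀ := by
      rintro rfl
      exact hP₀ hP
    show (if P = P₀ then n / i - ∑ Q ∈ S, ε Q else if P ∈ S then ε P else 0) = _
    rw [if_neg hne, if_pos hP]
  have hsum : ∑ Q ∈ S, e Q = ∑ Q ∈ S, ε Q := Finset.sum_congr rfl heS
  refine ⟨e, ?_, ?_⟩
  · rw [Finset.mem_finsuppAntidiag]
    refine ⟨?_, ?_⟩
    · rw [Finset.sum_insert hP₀, he0, hsum]
      omega
    · exact Finsupp.support_onFinset_subset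
  · rw [polyOf_eq S P₀ hP₀, hε]
    unfold expProd
    rw [Finset.prod_insert hP₀, hsum]
    congr 1
    · congr 1
      omega
    · apply Finset.prod_congr rfl
      intro P hP
      rw [heS P hP]

theorem single_mem (S : Finset K[X]) (P₀ : K[X]) (N : ℕ) :
    Finsupp.single P₀ N ∈ (insert P₀ S).finsuppAntidiag N := by
  classical
  rw [Finset.mem_finsuppAntidiag]
  refine ⟨?_, ?_⟩
  · rw [Finset.sum_eq_single P₀]
    · simp
    · intro Q _ hQ
      simp [hQ.symm]
    · intro h
      exact absurd (Finset.mem_insert_self _ _) h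
  · intro Q hQ
    have := Finsupp.support_single_subset hQ
    rw [Finset.mem_singleton] at this
    rw [this]
    exact Finset.mem_insert_self _ _

theorem polyOf_single (S : Finset K[X]) (P₀ : K[X]) (hP₀ : P₀ ∉ S) (n i : ℕ) :
    polyOf S P₀ n i (Finsupp.single P₀ (n / i)) = P₀ ^ n := by
  classical
  rw [polyOf_eq S P₀ hP₀]
  have h1 : ∀ Q ∈ S, (Finsupp.single P₀ (n / i)) Q = 0 := by
    intro Q hQ
    have hne : P₀ ≠ Q := by
      rintro rfl
      exact hP₀ hQ
    simp [hne]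
  rw [Finset.sum_eq_zero h1, mul_zero, Nat.sub_zero]
  rw [Finset.prod_eq_one, mul_one]
  intro Q hQ
  rw [h1 Q hQ, pow_zero]

end abstract

section cyc
open scoped Classical
variable {F : Type*} [Field F] [Fintype F]

/-- The monic irreducible factors of the `r`-th cyclotomic polynomial. -/
noncomputable def cycFactors (F : Type*) [Field F] (r : ℕ) : Finset F[X] :=
  (UniqueFactorizationMonoid.normalizedFactors (cyclotomic r F)).toFinset

theorem mem_cycFactors (r : ℕ) (P : F[X]) :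
    P ∈ cycFactors F r ↔ Irreducible P ∧ P.Monic ∧ P ∣ cyclotomic r F := by
  unfold cycFactors
  rw [Multiset.mem_toFinset,
    UniqueFactorizationMonoid.mem_normalizedFactors_iff' (cyclotomic_ne_zero r F)]
  constructor
  · rintro ⟨h1, h2, h3⟩
    refine ⟨h1, ?_, h3⟩
    rw [← h2]
    exact Polynomial.monic_normalize h1.ne_zero
  · rintro ⟨h1, h2, h3⟩
    exact ⟨h1, h2.normalize_eq_self, h3⟩

theorem cast_ne_zero_of_prime_ne (p : ℕ) [Fact p.Prime] [CharP F p] (r : ℕ) (hr : r.Prime)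
    (hrp : r ≠ p) : (r : F) ≠ 0 := by
  intro h
  rw [CharP.cast_eq_zero_iff F p] at h
  exact hrp ((Nat.prime_dvd_prime_iff_eq (Fact.out : p.Prime) hr).mp h).symm

theorem X_sub_one_notMem (p : ℕ) [Fact p.Prime] [CharP F p] (r : ℕ) (hr : r.Prime)
    (hrp : r ≠ p) : (X - 1 : F[X]) ∉ cycFactors F r := by
  intro h
  rw [mem_cycFactors] at h
  have : Fact r.Prime := ⟨hr⟩
  have h1 : eval 1 (cyclotomic r F) = 0 := by
    obtain ⟨c, hc⟩ := h.2.2
    rw [hc, eval_mul]
    simp
  rw [eval_one_cyclotomic_prime] at h1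
  exact cast_ne_zero_of_prime_ne p r hr hrp h1

theorem X_sub_one_monic_irreducible : (X - 1 : F[X]).Monic ∧ Irreducible (X - 1 : F[X]) := by
  have : (X - 1 : F[X]) = X - C 1 := by rw [map_one]
  rw [this]
  exact ⟨monic_X_sub_C 1, irreducible_X_sub_C 1⟩

theorem mem_T_iff (r : ℕ) (hr : r.Prime) (P : F[X]) (hPm : P.Monic) (hPi : Irreducible P) :
    P ∈ insert (X - 1 : F[X]) (cycFactors F r) ↔ P ∣ X ^ r - 1 := by
  have : Fact r.Prime := ⟨hr⟩
  rw [Finset.mem_insert, mem_cycFactors, ← cyclotomic_prime_mul_X_sub_one F r]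
  constructor
  · rintro (rfl | ⟨-, -, h⟩)
    · exact dvd_mul_left _ _
    · exact h.mul_right _
  · intro h
    rcases hPi.prime.dvd_or_dvd h with h | h
    · exact Or.inr ⟨hPi, hPm, h⟩
    · left
      exact eq_of_monic_of_associated hPm X_sub_one_monic_irreducible.1
        (hPi.associated_of_dvd X_sub_one_monic_irreducible.2 h)

theorem T_monic_irreducible (r : ℕ) :
    ∀ P ∈ insert (X - 1 : F[X]) (cycFactors F r), P.Monic ∧ Irreducible P := by
  intro P hP
  rcases Finset.mem_insert.mp hP with rfl | hP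
  · exact X_sub_one_monic_irreducible
  · rw [mem_cycFactors] at hP
    exact ⟨hP.2.1, hP.1⟩

theorem orderOf_unit_eq (p f r : ℕ) (h : (p ^ f).Coprime r) :
    orderOf (ZMod.unitOfCoprime (p ^ f) h) = orderOf (((p ^ f : ℕ) : ZMod r)) := by
  rw [← orderOf_units, ZMod.coe_unitOfCoprime]

theorem natDegree_of_mem_cycFactors (p : ℕ) [Fact p.Prime] [CharP F p] (r : ℕ) (hr : r.Prime)
    (hrp : r ≠ p) (P : F[X]) (hP : P ∈ cycFactors F r) :
    P.natDegree = orderOf ((Fintype.card F : ℕ) : ZMod r) := by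
  obtain ⟨f, -, hf⟩ := FiniteField.card F p
  have hcop : p.Coprime r := (Nat.coprime_primes (Fact.out : p.Prime) hr).mpr hrp.symm
  rw [mem_cycFactors] at hP
  rw [natDegree_of_dvd_cyclotomic_of_irreducible hf hcop hP.2.2 hP.1, orderOf_unit_eq, hf]

theorem card_cycFactors (p : ℕ) [Fact p.Prime] [CharP F p] (r : ℕ) (hr : r.Prime)
    (hrp : r ≠ p) :
    (cycFactors F r).card * orderOf ((Fintype.card F : ℕ) : ZMod r) = r - 1 := by
  obtain ⟨f, -, hf⟩ := FiniteField.card F p
  have hcop : p.Coprime r := (Nat.coprime_primes (Fact.out : p.Prime) hr).mpr hrp.symm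
  have h1 := normalizedFactors_cyclotomic_card hf hcop
  have h2 : (cycFactors F r).card =
      r.totient / orderOf (ZMod.unitOfCoprime (p ^ (f : ℕ)) (hcop.pow_left f)) := by
    rw [← h1]
    unfold cycFactors
    congr
  have : Fact r.Prime := ⟨hr⟩
  have h3 : orderOf (ZMod.unitOfCoprime (p ^ (f : ℕ)) (hcop.pow_left f)) ∣ r.totient := by
    rw [← ZMod.card_units_eq_totient]
    exact orderOf_dvd_card
  rw [h2, hf, ← orderOf_unit_eq p f r (hcop.pow_left f), Nat.div_mul_cancel h3,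
    Nat.totient_prime hr]

end cyc

section mat
open scoped Classical
variable {F : Type*} [Field F] [Fintype F]

theorem good_charpoly {n : ℕ} (r : ℕ) (hr : r.Prime) (A : Matrix (Fin n) (Fin n) F)
    (hA : A ^ r = 1) (P : F[X]) (hPm : P.Monic) (hPi : Irreducible P) (hd : P ∣ A.charpoly) :
    P ∈ insert (X - 1 : F[X]) (cycFactors F r) := by
  rw [mem_T_iff r hr P hPm hPi]
  have h1 := irreducible_dvd_minpoly_matrix A P hPi hd
  refine h1.trans (minpoly.dvd F A ?_)
  simp [hA]

theorem exists_torsion (p : ℕ) [Fact p.Prime] [CharP F p] (n r : ℕ) (hr : r.Prime)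
    (f : F[X]) (hm : f.Monic) (hn : f.natDegree = n)
    (hgood : ∀ P : F[X], P.Monic → Irreducible P → P ∣ f →
      P ∈ insert (X - 1 : F[X]) (cycFactors F r)) :
    ∃ g : GL (Fin n) F, g ^ r = 1 ∧ (orderOf g).Coprime p ∧
      (g : Matrix (Fin n) (Fin n) F).charpoly = f := by
  have hT := T_monic_irreducible (F := F) r
  obtain ⟨ε, hε⟩ := exists_expProd _ n f hn hm hgood
  have hdvd : f ∣ (X ^ r - 1) ^ (∑ P ∈ insert (X - 1 : F[X]) (cycFactors F r), ε P) := by
    rw [hε]
    exact expProd_dvd_pow _ ε _ fun P hP => (mem_T_iff r hr P (hT P hP).1 (hT P hP).2).mp hP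
  have h0 : f.coeff 0 ≠ 0 := by
    intro h0
    have hX : (X : F[X]) ∣ f := X_dvd_iff.mpr h0
    have hXT := hgood X monic_X irreducible_X hX
    rw [mem_T_iff r hr X monic_X irreducible_X, X_dvd_iff] at hXT
    simp at hXT
    rw [if_neg hr.ne_zero.symm] at hXT
    simp at hXT
  obtain ⟨g, hgo, hgc⟩ := exists_GL_charpoly p n f hm hn h0
  refine ⟨g, ?_, hgo, hgc⟩
  have hss := isSemisimple_of_orderOf_coprime p g hgo
  set A : Matrix (Fin n) (Fin n) F := (g : Matrix (Fin n) (Fin n) F) with hA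
  set M := ∑ P ∈ insert (X - 1 : F[X]) (cycFactors F r), ε P with hM
  have h1 : aeval A f = 0 := by
    rw [← hgc]
    exact Matrix.aeval_self_charpoly A
  have h2 : aeval A ((X ^ r - 1 : F[X]) ^ M) = 0 := by
    obtain ⟨c, hc⟩ := hdvd
    rw [hc, map_mul, h1, zero_mul]
  have h3 : (A ^ r - 1) ^ M = 0 := by
    have : aeval A ((X ^ r - 1 : F[X]) ^ M) = (A ^ r - 1) ^ M := by simp
    rw [← this, h2]
  have h4 : Matrix.toLin' (A ^ r - 1) = aeval (Matrix.toLin' A) (X ^ r - 1 : F[X]) := by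
    have e1 : Matrix.toLin' (A ^ r - 1) = Matrix.toLinAlgEquiv' (A ^ r - 1) := rfl
    have e2 : Matrix.toLin' A = Matrix.toLinAlgEquiv' A := rfl
    rw [e1, e2]
    simp
  have h5 : Module.End.IsSemisimple (Matrix.toLin' (A ^ r - 1)) := by
    rw [h4]
    exact hss.aeval _
  have h6 : IsNilpotent (Matrix.toLin' (A ^ r - 1)) := by
    refine ⟨M, ?_⟩
    have e1 : Matrix.toLin' (A ^ r - 1) = Matrix.toLinAlgEquiv' (A ^ r - 1) := rfl
    rw [e1, ← map_pow, h3, map_zero]
  have h7 := Module.End.eq_zero_of_isNilpotent_isSemisimple h6 h5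
  have h8 : A ^ r - 1 = 0 := by
    apply Matrix.toLin'.injective
    rw [h7, map_zero]
  apply Units.ext
  rw [Units.val_pow_eq_pow_val, Units.val_one]
  exact sub_eq_zero.mp h8

theorem eq_one_of_charpoly (p : ℕ) [Fact p.Prime] [CharP F p] {n : ℕ} (g : GL (Fin n) F)
    (hg : (orderOf g).Coprime p)
    (hc : (g : Matrix (Fin n) (Fin n) F).charpoly = (X - 1) ^ n) : g = 1 := by
  have h1 : IsConj g 1 := by
    apply isConj_GL_of_charpoly_eq p g 1 hg (by simp)
    rw [hc, Units.val_one, Matrix.charpoly_one, Fintype.card_fin]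
  exact isConj_one_left.mp h1

theorem coprime_of_pow_eq_one (p : ℕ) [Fact p.Prime] {G : Type*} [Group G] (g : G) (r : ℕ)
    (hr : r.Prime) (hrp : r ≠ p) (hg : g ^ r = 1) : (orderOf g).Coprime p := by
  have h1 : orderOf g ∣ r := orderOf_dvd_of_pow_eq_one hg
  exact Nat.Coprime.coprime_dvd_left h1 ((Nat.coprime_primes hr (Fact.out : p.Prime)).mpr hrp)

end mat

/-- Number of conjugacy classes of elements of a given prime order r, coprime to the characteristic, in GL_n(q): if i is the multiplicative order of q modulo r and t = (r − 1)/i, the classes correspond to the non-zero t-tuples of natural numbers (a_1, …, a_t) with i(a_1 + ⋯ + a_t) ≤ n (a_j is the multiplicity of the j-th Frobenius orbit of nontrivial r-th roots of unity among the eigenvalues), so there are exactly C(⌊n/i⌋ + t, t) − 1 of them. -/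
theorem result {F : Type*} [Field F] [Fintype F] {p q : ℕ} [Fact p.Prime] [CharP F p] (hF : Fintype.card F = q) (n r i t : ℕ) (hr : r.Prime) (hrp : r ≠ p) (hi : i = orderOf (q : ZMod r)) (ht : t * i = r - 1) : Nat.card {C : ConjClasses (GL (Fin n) F) // ∃ g : GL (Fin n) F, ConjClasses.mk g = C ∧ orderOf g = r} = Nat.choose (n / i + t) t - 1 := by
  classical
  subst hF
  have : Fact r.Prime := ⟨hr⟩
  have hP₀ : (X - 1 : F[X]) ∉ cycFactors F r := X_sub_one_notMem p r hr hrp
  have hT := T_monic_irreducible (F := F) r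
  have hd0 : (X - 1 : F[X]).natDegree = 1 := by
    have : (X - 1 : F[X]) = X - C 1 := by rw [map_one]
    rw [this, natDegree_X_sub_C]
  have hdS : ∀ P ∈ cycFactors F r, P.natDegree = i := fun P hP => by
    rw [hi]
    exact natDegree_of_mem_cycFactors p r hr hrp P hP
  have hcard : (cycFactors F r).card * i = r - 1 := by
    rw [hi]
    exact card_cycFactors p r hr hrp
  have hipos : 0 < i := by
    rcases Nat.eq_zero_or_pos i with h | h
    · rw [h, mul_zero] at hcard
      have := hr.two_le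
      omega
    · exact h
  have hSt : (cycFactors F r).card = t :=
    Nat.eq_of_mul_eq_mul_right hipos (hcard.trans ht.symm)
  have hAcard : ((insert (X - 1 : F[X]) (cycFactors F r)).finsuppAntidiag (n / i)).card =
      (n / i + t).choose t := by
    rw [Finset.card_finsuppAntidiag_nat_eq_choose, Finset.card_insert_of_notMem hP₀, hSt]
    have h1 : ∀ N : ℕ, t + 1 + N - 1 = N + t := fun N => by omega
    rw [h1, Nat.choose_symm_add]
  have he₀ := single_mem (cycFactors F r) (X - 1 : F[X]) (n / i)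
  have hpoly₀ := polyOf_single (cycFactors F r) (X - 1 : F[X]) hP₀ n i
  have hex : ∀ e : {e // e ∈ ((insert (X - 1 : F[X]) (cycFactors F r)).finsuppAntidiag
      (n / i)).erase (Finsupp.single (X - 1 : F[X]) (n / i))},
      ∃ g : GL (Fin n) F, g ^ r = 1 ∧ (orderOf g).Coprime p ∧
        (g : Matrix (Fin n) (Fin n) F).charpoly = polyOf (cycFactors F r) (X - 1) n i e.1 := by
    intro e
    have hemem := Finset.mem_of_mem_erase e.2
    apply exists_torsion p n r hr _ (polyOf_monic _ _ hT n i _)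
      (natDegree_polyOf _ _ hP₀ hT hd0 n i hdS _ hemem)
    intro P hPm hPi hd
    exact mem_of_dvd_expProd _ _ hT P hPm hPi hd
  choose gOf hgOf using hex
  have hne1 : ∀ e, gOf e ≠ 1 := by
    intro e h1
    have h2 := (hgOf e).2.2
    rw [h1, Units.val_one, Matrix.charpoly_one, Fintype.card_fin, ← hpoly₀] at h2
    have h3 := polyOf_injOn _ _ hP₀ hT n i _ _ he₀ (Finset.mem_of_mem_erase e.2) h2
    exact Finset.ne_of_mem_erase e.2 h3.symm
  let Ψ : {e // e ∈ ((insert (X - 1 : F[X]) (cycFactors F r)).finsuppAntidiag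
      (n / i)).erase (Finsupp.single (X - 1 : F[X]) (n / i))} →
      {C : ConjClasses (GL (Fin n) F) // ∃ g : GL (Fin n) F, ConjClasses.mk g = C ∧
        orderOf g = r} :=
    fun e => ⟨ConjClasses.mk (gOf e), gOf e, rfl, orderOf_eq_prime (hgOf e).1 (hne1 e)⟩
  have hinj : Function.Injective Ψ := by
    intro e e' h
    have h1 : ConjClasses.mk (gOf e) = ConjClasses.mk (gOf e') := congrArg Subtype.val h
    have h2 := congrArg Cfsg.Agent.S2387.cp h1
    rw [Cfsg.Agent.S2387.cp_mk, Cfsg.Agent.S2387.cp_mk, (hgOf e).2.2, (hgOf e').2.2] at h2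
    exact Subtype.ext (polyOf_injOn _ _ hP₀ hT n i _ _ (Finset.mem_of_mem_erase e.2)
      (Finset.mem_of_mem_erase e'.2) h2)
  have hsurj : Function.Surjective Ψ := by
    rintro ⟨C, g, rfl, hg⟩
    have hgr : g ^ r = 1 := by rw [← hg, pow_orderOf_eq_one]
    have hgr' : (g : Matrix (Fin n) (Fin n) F) ^ r = 1 := by
      rw [← Units.val_pow_eq_pow_val, hgr, Units.val_one]
    have hgcop := coprime_of_pow_eq_one p g r hr hrp hgr
    obtain ⟨e, he, hpe⟩ := exists_polyOf (cycFactors F r) (X - 1 : F[X]) hP₀ hT hd0 n i hipos hdS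
      (g : Matrix (Fin n) (Fin n) F).charpoly (Matrix.charpoly_monic _)
      (by rw [Matrix.charpoly_natDegree_eq_dim, Fintype.card_fin])
      (fun P hPm hPi hd => good_charpoly r hr _ hgr' P hPm hPi hd)
    have hne : e ≠ Finsupp.single (X - 1 : F[X]) (n / i) := by
      rintro rfl
      rw [hpoly₀] at hpe
      have h1 := eq_one_of_charpoly p g hgcop hpe.symm
      rw [h1, orderOf_one] at hg
      exact hr.ne_one hg.symm
    refine ⟨⟨e, Finset.mem_erase.mpr ⟨hne, he⟩⟩, ?_⟩
    apply Subtype.ext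
    show ConjClasses.mk (gOf _) = ConjClasses.mk g
    rw [ConjClasses.mk_eq_mk_iff_isConj]
    apply isConj_GL_of_charpoly_eq p _ _ (hgOf _).2.1 hgcop
    rw [(hgOf _).2.2, hpe]
  rw [← Nat.card_congr (Equiv.ofBijective Ψ ⟨hinj, hsurj⟩), Nat.card_eq_fintype_card,
    Fintype.card_coe, Finset.card_erase_of_mem he₀, hAcard]

end Cfsg.Agent.S2568
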