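import Cfsg.Statements.S2569
import Cfsg.Agent.Lib.Helper15.SemiCent

set_option autoImplicit false
open Cfsg

namespace Cfsg.Agent.S2569

open Cfsg.Agent.Lib.Helper15

/-- In GL_n over a finite field of characteristic p, the conjugacy class of a semisimple element (an element of order prime to p) under the special linear group is its whole GL-conjugacy class: for every such x and every invertible g there is h of determinant one with h x h⁻¹ = g x g⁻¹. -/
theorem result {F : Type*} [Field F] [Fintype F] {p : ℕ} [Fact p.Prime] [CharP F p] {n : ℕ} (x g : GL (Fin n) F) (hx : (orderOf x).Coprime p) : ∃ h : GL (Fin n) F, (h : Matrix (Fin n) (Fin n) F).det = 1 ∧ h * x * h⁻¹ = g * x * g⁻¹ := by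
  rcases Nat.eq_zero_or_pos n with hn | hn
  · subst hn
    exact ⟨g, Matrix.det_isEmpty, rfl⟩
  haveI : Nonempty (Fin n) := ⟨⟨0, hn⟩⟩
  haveI : Nontrivial (Fin n → F) := inferInstance
  have hp : p.Prime := Fact.out
  have hk : ((orderOf x : ℕ) : F) ≠ 0 := by
    rw [Ne, CharP.cast_eq_zero_iff F p]
    intro hdvd
    have := Nat.dvd_gcd hdvd (dvd_refl p)
    rw [hx] at this
    exact hp.one_lt.ne' (Nat.dvd_one.mp this)
  have hφ : (Matrix.toLin' (x : Matrix (Fin n) (Fin n) F)) ^ (orderOf x) = 1 := by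
    have h1 : x ^ orderOf x = 1 := pow_orderOf_eq_one x
    have h2 : (x : Matrix (Fin n) (Fin n) F) ^ orderOf x = 1 := by
      rw [← Units.val_pow_eq_pow_val, h1, Units.val_one]
    rw [← Matrix.toLin'_pow, h2, Matrix.toLin'_one]
    rfl
  have hdg : (g : Matrix (Fin n) (Fin n) F).det ≠ 0 := by
    have := g.isUnit
    rw [Matrix.isUnit_iff_isUnit_det] at this
    exact this.ne_zero
  obtain ⟨c, hc, hdet⟩ := exists_comm_det (Matrix.toLin' (x : Matrix (Fin n) (Fin n) F)) (orderOf x) hk hφ
    ((g : Matrix (Fin n) (Fin n) F).det)⁻¹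
  have hC : LinearMap.toMatrix' c * (x : Matrix (Fin n) (Fin n) F) = (x : Matrix (Fin n) (Fin n) F) * LinearMap.toMatrix' c := by
    have := congrArg LinearMap.toMatrix' hc
    rw [LinearMap.toMatrix'_mul, LinearMap.toMatrix'_mul, LinearMap.toMatrix'_toLin'] at this
    exact this
  have hCdet : (LinearMap.toMatrix' c).det = ((g : Matrix (Fin n) (Fin n) F).det)⁻¹ := by
    rw [LinearMap.det_toMatrix', hdet]
  have hCu : IsUnit (LinearMap.toMatrix' c) := by
    rw [Matrix.isUnit_iff_isUnit_det, hCdet]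
    exact (isUnit_iff_ne_zero.mpr hdg).inv
  obtain ⟨cu, hcu⟩ := hCu
  have hcomm : cu * x = x * cu := by
    apply Units.ext
    rw [Units.val_mul, Units.val_mul, hcu]
    exact hC
  refine ⟨g * cu, ?_, ?_⟩
  · rw [Units.val_mul, Matrix.det_mul, hcu, hCdet, mul_inv_cancel₀ hdg]
  · have : cu * x * cu⁻¹ = x := by rw [hcomm, mul_inv_cancel_right]
    calc g * cu * x * (g * cu)⁻¹ = g * (cu * x * cu⁻¹) * g⁻¹ := by group
      _ = g * x * g⁻¹ := by rw [this]

end Cfsg.Agent.S2569
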