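import Cfsg.Statements.S2570
import Cfsg.Agent.Lib.Helper14.UnipClasses

set_option autoImplicit false
open Cfsg

namespace Cfsg.Agent.S2570

open Cfsg.Agent.Lib.Helper14

theorem orderOf_eq_of_isConj {G : Type*} [Group G] {g g' : G} (h : IsConj g g') :
    orderOf g' = orderOf g := by
  obtain ⟨c, hc⟩ := isConj_iff.mp h
  rw [← hc]
  exact MulEquiv.orderOf_eq (MulAut.conj c) g

theorem orderOf_eq_prime_iff_nilOf {F : Type*} [Field F] {p : ℕ} [Fact p.Prime] [CharP F p]
    {n : ℕ} (g : GL (Fin n) F) :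
    orderOf g = p ↔ (nilOf g) ^ p = 0 ∧ ¬ (nilOf g) ^ 1 = 0 := by
  rw [orderOf_eq_prime_iff, nilOf_pow_eq_zero_iff, nilOf_pow_eq_zero_iff]
  have h1 := sub_one_pow_char_pow p g 1
  rw [pow_one] at h1
  rw [h1, pow_one, sub_eq_zero, sub_eq_zero]
  constructor
  · rintro ⟨h2, h3⟩
    refine ⟨by rw [h2]; rfl, fun h => h3 (Units.ext h)⟩
  · rintro ⟨h2, h3⟩
    exact ⟨Units.ext h2, fun h => h3 (by rw [h]; rfl)⟩

theorem orderOf_stdUnip_iff {F : Type*} [Field F] {p : ℕ} [Fact p.Prime] [CharP F p]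
    {n : ℕ} (μ : Nat.Partition n) :
    orderOf (stdUnip (F := F) μ) = p ↔
      (∀ a ∈ μ.parts, a ≤ p) ∧ ¬ (∀ a ∈ μ.parts, a ≤ 1) := by
  rw [orderOf_eq_prime_iff_nilOf, stdUnip_pow_eq_zero_iff, stdUnip_pow_eq_zero_iff]

/-- The partitions with all parts at most one form a singleton. -/
theorem card_filter_le_one (n : ℕ) :
    (Finset.univ.filter (fun μ : Nat.Partition n => ∀ a ∈ μ.parts, a ≤ 1)).card = 1 := by
  rw [Finset.card_eq_one]
  refine ⟨⟨Multiset.replicate n 1, ?_, ?_⟩, ?_⟩
  · intro i hi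
    rw [Multiset.eq_of_mem_replicate hi]
    exact Nat.one_pos
  · rw [Multiset.sum_replicate, smul_eq_mul, mul_one]
  ext μ
  rw [Finset.mem_filter, Finset.mem_singleton]
  constructor
  · rintro ⟨-, h⟩
    have h1 : ∀ a ∈ μ.parts, a = 1 := by
      intro a ha
      have := h a ha
      have := μ.parts_pos ha
      omega
    have h2 := Multiset.eq_replicate_card.mpr h1
    have h3 : Multiset.card μ.parts = n := by
      have h4 := μ.parts_sum
      rw [h2, Multiset.sum_replicate, smul_eq_mul, mul_one] at h4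
      exact h4
    rw [h3] at h2
    apply Nat.Partition.ext
    exact h2
  · rintro rfl
    refine ⟨Finset.mem_univ _, ?_⟩
    intro a ha
    rw [Multiset.eq_of_mem_replicate ha]

/-- Number of conjugacy classes of elements of order p in GL_n over a finite field of characteristic p: they correspond to the Jordan types, that is, to the partitions of n with all parts at most p other than the partition into ones, so there are (number of partitions of n with parts ≤ p) − 1 of them. -/
theorem result {F : Type*} [Field F] [Fintype F] {p : ℕ} [Fact p.Prime] [CharP F p] (n : ℕ) : Nat.card {C : ConjClasses (GL (Fin n) F) // ∃ g : GL (Fin n) F, ConjClasses.mk g = C ∧ orderOf g = p} = (Finset.univ.filter (fun μ : Nat.Partition n => ∀ a ∈ μ.parts, a ≤ p)).card - 1 := by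
  classical
  have hpp : p.Prime := Fact.out
  have hbij : Nat.card {μ : Nat.Partition n //
      (∀ a ∈ μ.parts, a ≤ p) ∧ ¬ (∀ a ∈ μ.parts, a ≤ 1)} =
      Nat.card {C : ConjClasses (GL (Fin n) F) //
        ∃ g : GL (Fin n) F, ConjClasses.mk g = C ∧ orderOf g = p} := by
    refine Nat.card_eq_of_bijective
      (fun μ => (⟨ConjClasses.mk (stdUnip (F := F) μ.1), stdUnip μ.1, rfl,
          (orderOf_stdUnip_iff μ.1).mpr μ.2⟩ :
          {C : ConjClasses (GL (Fin n) F) //
            ∃ g : GL (Fin n) F, ConjClasses.mk g = C ∧ orderOf g = p})) ⟨?_, ?_⟩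
    · intro μ μ' h
      have h1 : ConjClasses.mk (stdUnip (F := F) μ.1) = ConjClasses.mk (stdUnip (F := F) μ'.1) :=
        congrArg Subtype.val h
      rw [ConjClasses.mk_eq_mk_iff_isConj] at h1
      exact Subtype.ext (stdUnip_injective h1)
    · rintro ⟨C, g, rfl, hg⟩
      obtain ⟨μ, hμ⟩ := exists_isConj_stdUnip g
        ((orderOf_pow_iff_isNilpotent p g).mp ⟨1, by rw [hg, pow_one]⟩)
      have hord : orderOf (stdUnip (F := F) μ) = p := by
        rw [← hg]
        exact orderOf_eq_of_isConj hμ.symm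
      refine ⟨⟨μ, (orderOf_stdUnip_iff μ).mp hord⟩, ?_⟩
      apply Subtype.ext
      exact ConjClasses.mk_eq_mk_iff_isConj.mpr hμ
  rw [← hbij, Nat.card_eq_fintype_card, Fintype.card_subtype]
  have hsplit : (Finset.univ.filter (fun μ : Nat.Partition n => ∀ a ∈ μ.parts, a ≤ p)) =
      (Finset.univ.filter (fun μ : Nat.Partition n =>
        (∀ a ∈ μ.parts, a ≤ p) ∧ ¬ (∀ a ∈ μ.parts, a ≤ 1))) ∪
      (Finset.univ.filter (fun μ : Nat.Partition n => ∀ a ∈ μ.parts, a ≤ 1)) := by
    ext μ
    simp only [Finset.mem_filter, Finset.mem_union, Finset.mem_univ, true_and]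
    constructor
    · intro h
      by_cases h1 : ∀ a ∈ μ.parts, a ≤ 1
      · exact Or.inr h1
      · exact Or.inl ⟨h, h1⟩
    · rintro (h | h)
      · exact h.1
      · intro a ha
        exact (h a ha).trans hpp.one_lt.le
  have hdisj : Disjoint
      (Finset.univ.filter (fun μ : Nat.Partition n =>
        (∀ a ∈ μ.parts, a ≤ p) ∧ ¬ (∀ a ∈ μ.parts, a ≤ 1)))
      (Finset.univ.filter (fun μ : Nat.Partition n => ∀ a ∈ μ.parts, a ≤ 1)) := by
    rw [Finset.disjoint_left]
    intro μ h1 h2
    rw [Finset.mem_filter] at h1 h2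
    exact h1.2.2 h2.2
  have hcard := Finset.card_union_of_disjoint hdisj
  rw [← hsplit, card_filter_le_one] at hcard
  have hfin : (Finset.univ.filter (fun μ : Nat.Partition n => ∀ a ∈ μ.parts, a ≤ p)).card - 1 =
      (Finset.univ.filter (fun μ : Nat.Partition n =>
        (∀ a ∈ μ.parts, a ≤ p) ∧ ¬ (∀ a ∈ μ.parts, a ≤ 1))).card := by
    omega
  rw [hfin]

end Cfsg.Agent.S2570
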