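import Cfsg.Statements.S2571
import Cfsg.Agent.Lib.Helper15.RegUnip3

set_option autoImplicit false
open Cfsg

namespace Cfsg.Agent.S2571

open Cfsg.Agent.Lib.Helper15 Module Matrix

/-- A regular unipotent element of GL_n(q) (u − 1 nilpotent of rank n − 1) has centraliser of order (q − 1) q^(n−1). -/
theorem result {F : Type*} [Field F] [Fintype F] {q n : ℕ} (hF : Fintype.card F = q) (hn : 1 ≤ n) (u : GL (Fin n) F) (hnil : ((u : Matrix (Fin n) (Fin n) F) - 1) ^ n = 0) (hreg : ((u : Matrix (Fin n) (Fin n) F) - 1).rank = n - 1) : Nat.card ↥(Subgroup.centralizer ({u} : Set (GL (Fin n) F))) = (q - 1) * q ^ (n - 1) := by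
  classical
  set N : Matrix (Fin n) (Fin n) F := (u : Matrix (Fin n) (Fin n) F) - 1 with hN
  set f : Module.End F (Fin n → F) := N.mulVecLin with hf
  have hV : finrank F (Fin n → F) = n := Module.finrank_fin_fun F
  have hnil' : f ^ n = 0 := by
    rw [hf, ← mulVecLin_pow', hnil]
    ext x
    simp
  have hker : finrank F (LinearMap.ker f) ≤ 1 := finrank_ker_mulVecLin_le_one _ hreg
  have hmain := card_units_commute f n hn hV hnil' hker
  rw [Nat.card_eq_fintype_card (α := F), hF] at hmain
  rw [← hmain]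
  apply Nat.card_congr
  let e := Matrix.GeneralLinearGroup.toLin (n := Fin n) (R := F)
  refine e.toEquiv.subtypeEquiv ?_
  intro g
  rw [Subgroup.mem_centralizer_singleton_iff]
  have hcoe : ∀ g : GL (Fin n) F, ((e g : (Module.End F (Fin n → F))ˣ) : Module.End F (Fin n → F)) = (g : Matrix (Fin n) (Fin n) F).mulVecLin :=
    fun g => Matrix.GeneralLinearGroup.coe_toLin g
  show g * u = u * g ↔ Commute ((e g : (Module.End F (Fin n → F))ˣ) : Module.End F (Fin n → F)) f
  rw [hcoe, hf, hN]
  constructor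
  · intro h
    have h1 : (g : Matrix (Fin n) (Fin n) F) * (u : Matrix (Fin n) (Fin n) F) = (u : Matrix (Fin n) (Fin n) F) * (g : Matrix (Fin n) (Fin n) F) := by
      have := congrArg (fun x : GL (Fin n) F => (x : Matrix (Fin n) (Fin n) F)) h
      simpa using this
    show _ * _ = _ * _
    rw [Module.End.mul_eq_comp, Module.End.mul_eq_comp, ← Matrix.mulVecLin_mul, ← Matrix.mulVecLin_mul]
    congr 1
    rw [mul_sub, sub_mul, h1, mul_one, one_mul]
  · intro h
    have h0 : (g : Matrix (Fin n) (Fin n) F).mulVecLin * ((u : Matrix (Fin n) (Fin n) F) - 1).mulVecLin = ((u : Matrix (Fin n) (Fin n) F) - 1).mulVecLin * (g : Matrix (Fin n) (Fin n) F).mulVecLin := h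
    rw [Module.End.mul_eq_comp, Module.End.mul_eq_comp, ← Matrix.mulVecLin_mul, ← Matrix.mulVecLin_mul] at h0
    rw [← Matrix.toLin'_apply', ← Matrix.toLin'_apply'] at h0
    have h1 := Matrix.toLin'.injective h0
    rw [mul_sub, sub_mul, mul_one, one_mul] at h1
    have h2 : (g : Matrix (Fin n) (Fin n) F) * (u : Matrix (Fin n) (Fin n) F) = (u : Matrix (Fin n) (Fin n) F) * (g : Matrix (Fin n) (Fin n) F) := by
      have := congrArg (fun x => x + (g : Matrix (Fin n) (Fin n) F)) h1
      simpa using this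
    apply Units.ext
    simpa using h2

end Cfsg.Agent.S2571
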