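import Cfsg.Statements.S2572
import Cfsg.Agent.Lib.Helper15.TrvCent2

set_option autoImplicit false
open Cfsg

namespace Cfsg.Agent.S2572

open Cfsg.Agent.Lib.Helper15 Matrix

theorem card_centralizer_of_coe {F : Type*} [Field F] [Fintype F] (m : ℕ) (T : GL (Fin (m + 2)) F)
    (hT : (T : Matrix (Fin (m + 2)) (Fin (m + 2)) F) = stdTrv m) :
    Nat.card (Subgroup.centralizer ({T} : Set (GL (Fin (m + 2)) F))) =
      (Fintype.card F - 1) * (Fintype.card F ^ (m + 1) * (Fintype.card F ^ m *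
        ∏ i : Fin m, (Fintype.card F ^ m - Fintype.card F ^ (i : ℕ)))) := by
  rw [← card_comm_stdTrv]
  apply Nat.card_congr
  have hmem : ∀ x : GL (Fin (m + 2)) F, x ∈ Subgroup.centralizer ({T} : Set (GL (Fin (m + 2)) F)) ↔
      (x : Matrix (Fin (m + 2)) (Fin (m + 2)) F) * stdTrv m = stdTrv m * (x : Matrix (Fin (m + 2)) (Fin (m + 2)) F) := by
    intro x
    rw [Subgroup.mem_centralizer_singleton_iff, ← hT]
    constructor
    · intro h
      have := congrArg (fun y : GL (Fin (m + 2)) F => (y : Matrix (Fin (m + 2)) (Fin (m + 2)) F)) h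
      simpa using this
    · intro h
      apply Units.ext
      simpa using h
  exact
    { toFun := fun x => ⟨x.1.1, (hmem x.1).mp x.2, Matrix.GeneralLinearGroup.det_ne_zero x.1⟩
      invFun := fun X => ⟨Matrix.GeneralLinearGroup.mkOfDetNeZero X.1 X.2.2, (hmem _).mpr X.2.1⟩
      left_inv := fun x => by
        apply Subtype.ext
        apply Units.ext
        rfl
      right_inv := fun X => rfl }

/-- A transvection of GL_n(q), n ≥ 2, has centraliser of order q^(2n−3) (q − 1) times the order of GL_(n−2)(q). -/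
theorem result {F : Type*} [Field F] [Fintype F] {q n : ℕ} (hF : Fintype.card F = q) (hn : 2 ≤ n) (t : GL (Fin n) F) (ht : Cfsg.IsTransvection (t : Matrix (Fin n) (Fin n) F)) : Nat.card ↥(Subgroup.centralizer ({t} : Set (GL (Fin n) F))) = q ^ (2 * n - 3) * (q - 1) * ∏ i : Fin (n - 2), (q ^ (n - 2) - q ^ (i : ℕ)) := by
  classical
  obtain ⟨m, rfl⟩ : ∃ m, n = m + 2 := ⟨n - 2, by omega⟩
  obtain ⟨g, hg, hcomm⟩ := exists_conj_stdTrv (t : Matrix (Fin (m + 2)) (Fin (m + 2)) F) ht.1 ht.2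
  set G : GL (Fin (m + 2)) F := Matrix.GeneralLinearGroup.mkOfDetNeZero g hg.ne_zero with hG
  have hGval : (G : Matrix (Fin (m + 2)) (Fin (m + 2)) F) = g := rfl
  have hT : ((G⁻¹ * t * G : GL (Fin (m + 2)) F) : Matrix (Fin (m + 2)) (Fin (m + 2)) F) = stdTrv m := by
    rw [Matrix.GeneralLinearGroup.coe_mul, Matrix.GeneralLinearGroup.coe_mul, Matrix.GeneralLinearGroup.coe_inv, hGval,
      Matrix.mul_assoc, hcomm, ← Matrix.mul_assoc, Matrix.nonsing_inv_mul _ hg, Matrix.one_mul]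
  rw [← card_centralizer_conj t G, card_centralizer_of_coe m _ hT, hF]
  show _ = q ^ (2 * (m + 2) - 3) * (q - 1) * ∏ i : Fin m, (q ^ m - q ^ (i : ℕ))
  have e : 2 * (m + 2) - 3 = (m + 1) + m := by omega
  rw [e, pow_add]
  ring

end Cfsg.Agent.S2572
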