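import Cfsg.Statements.S2574
import Cfsg.Agent.Lib.Helper15.RegUnip2

set_option autoImplicit false
open Cfsg

namespace Cfsg.Agent.S2574

open Cfsg.Agent.Lib.Helper15 Module Matrix

/-- A regular unipotent element of the symplectic group has totally isotropic small invariant subspaces: over a finite field, if u ∈ Sp_2m(F) satisfies (u − 1)^(2m) = 0 and rank(u − 1) = 2m − 1, and W is a u-invariant subspace with 2 dim W ≤ 2m, then the alternating form vanishes identically on W. -/
theorem result {F : Type*} [Field F] [Finite F] {m : ℕ} (u : Matrix.symplecticGroup (Fin m) F) (hnil : ((u : Matrix (Fin m ⊕ Fin m) (Fin m ⊕ Fin m) F) - 1) ^ (2 * m) = 0) (hreg : ((u : Matrix (Fin m ⊕ Fin m) (Fin m ⊕ Fin m) F) - 1).rank = 2 * m - 1) (W : Submodule F (Fin m ⊕ Fin m → F)) (hW : ∀ v ∈ W, (u : Matrix (Fin m ⊕ Fin m) (Fin m ⊕ Fin m) F).mulVec v ∈ W) (hdim : 2 * Module.finrank F W ≤ 2 * m) : ∀ v ∈ W, ∀ w ∈ W, Cfsg.sympForm m F v w = 0 := by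
  classical
  set A : Matrix (Fin m ⊕ Fin m) (Fin m ⊕ Fin m) F := (u : Matrix (Fin m ⊕ Fin m) (Fin m ⊕ Fin m) F) with hA
  have hcard : Fintype.card (Fin m ⊕ Fin m) = 2 * m := by simp; ring
  have hreg' : (A - 1).rank = Fintype.card (Fin m ⊕ Fin m) - 1 := by rw [hcard]; exact hreg
  -- the bilinear form
  let B : LinearMap.BilinForm F (Fin m ⊕ Fin m → F) := Matrix.toLinearMap₂' F (Matrix.J (Fin m) F)
  have hB : ∀ x y, B x y = Cfsg.sympForm m F x y := by
    intro x y
    simp only [B, Matrix.toLinearMap₂'_apply', Cfsg.sympForm]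
  -- `A` preserves the form
  have hsymp : Aᵀ * Matrix.J (Fin m) F * A = Matrix.J (Fin m) F := SymplecticGroup.mem_iff'.mp u.2
  have hpres : ∀ x y, B (A *ᵥ x) (A *ᵥ y) = B x y := by
    intro x y
    simp only [hB, Cfsg.sympForm]
    rw [Matrix.mulVec_mulVec, ← Matrix.vecMul_transpose, ← Matrix.dotProduct_mulVec, Matrix.mulVec_mulVec,
      ← mul_assoc, hsymp]
  -- `A` is injective
  have hAinj : Function.Injective (fun v => A *ᵥ v) := by
    intro x y hxy
    have hinv : ((u⁻¹ : Matrix.symplecticGroup (Fin m) F) : Matrix (Fin m ⊕ Fin m) (Fin m ⊕ Fin m) F) * A = 1 := by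
      have : ((u⁻¹ * u : Matrix.symplecticGroup (Fin m) F) : Matrix (Fin m ⊕ Fin m) (Fin m ⊕ Fin m) F) = 1 := by
        rw [inv_mul_cancel]; rfl
      exact this
    have h1 := congrArg (fun z => ((u⁻¹ : Matrix.symplecticGroup (Fin m) F) : Matrix (Fin m ⊕ Fin m) (Fin m ⊕ Fin m) F) *ᵥ z) hxy
    simp only [Matrix.mulVec_mulVec, hinv, Matrix.one_mulVec] at h1
    exact h1
  let AW : W →ₗ[F] W :=
    { toFun := fun w => ⟨A *ᵥ w.1, hW w.1 w.2⟩
      map_add' := by
        intro a b
        ext1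
        simp [Matrix.mulVec_add]
      map_smul' := by
        intro c a
        ext1
        simp [Matrix.mulVec_smul] }
  have hAWinj : Function.Injective AW := by
    intro a b hab
    apply Subtype.ext
    apply hAinj
    exact congrArg Subtype.val hab
  have hAWsurj : Function.Surjective AW := LinearMap.injective_iff_surjective.mp hAWinj
  -- the orthogonal complement is invariant
  have hperp : ∀ v ∈ B.orthogonal W, A *ᵥ v ∈ B.orthogonal W := by
    intro v hv w hw
    obtain ⟨w', hw'⟩ := hAWsurj ⟨w, hw⟩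
    have hw'' : A *ᵥ w'.1 = w := congrArg Subtype.val hw'
    show B w (A *ᵥ v) = 0
    rw [← hw'', hpres]
    exact hv w'.1 w'.2
  have h1 := regUnip_invariant' A (2 * m) hnil hreg' W hW
  have h2 := regUnip_invariant' A (2 * m) hnil hreg' (B.orthogonal W) hperp
  have h3 := LinearMap.BilinForm.finrank_add_finrank_orthogonal' (B := B) W
  rw [Module.finrank_fintype_fun_eq_card, hcard] at h3
  have h4 : finrank F W ≤ finrank F (B.orthogonal W) := by omega
  have h5 : W ≤ B.orthogonal W := by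
    intro x hx
    rw [h2]
    rw [h1] at hx
    exact ker_pow_mono _ h4 hx
  intro v hv w hw
  rw [← hB]
  exact h5 hw v hv

end Cfsg.Agent.S2574
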