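import Cfsg.Statements.S2575
import Mathlib

set_option autoImplicit false
open Cfsg

namespace Cfsg.Agent.S2575

theorem prod_neg_one {F : Type*} [Field F] (n i : ℕ) (hi : i ≤ n) :
    ∏ j : Fin n, (if (j : ℕ) < i then (-1 : F) else 1) = (-1) ^ i := by
  rw [Fin.prod_univ_eq_prod_range (fun j => if j < i then (-1 : F) else 1) n]
  rw [Finset.prod_ite, Finset.prod_const_one, mul_one, Finset.prod_const]
  congr 1
  have : Finset.filter (fun j => j < i) (Finset.range n) = Finset.range i := by
    ext j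
    simp only [Finset.mem_filter, Finset.mem_range]
    omega
  rw [this, Finset.card_range]

/-- `n = 2 ^ v₂(n) * t` with `t` odd. -/
theorem two_adic_decomp {n : ℕ} (hn : n ≠ 0) : ∃ t, Odd t ∧ n = 2 ^ padicValNat 2 n * t := by
  obtain ⟨t, ht⟩ := pow_padicValNat_dvd (p := 2) (n := n)
  refine ⟨t, ?_, ht⟩
  rw [← Nat.not_even_iff_odd]
  rintro ⟨u, hu⟩
  apply pow_succ_padicValNat_not_dvd (p := 2) hn
  refine ⟨u, ?_⟩
  calc n = 2 ^ padicValNat 2 n * t := ht
    _ = 2 ^ (padicValNat 2 n + 1) * u := by rw [hu, pow_succ]; ring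

/-- In a finite field of odd order `q`, `-1` is an `n`-th power iff the 2-part of `n` is less than that of
`q - 1`. -/
theorem exists_pow_eq_neg_one_iff {F : Type*} [Field F] [Fintype F] {q : ℕ} (hF : Fintype.card F = q) (hq : Odd q)
    {n : ℕ} (hn : 1 ≤ n) : (∃ c : F, c ^ n = -1) ↔ padicValNat 2 n < padicValNat 2 (q - 1) := by
  have hchar : ringChar F ≠ 2 := by
    intro h
    have := FiniteField.even_card_of_char_two h
    rw [hF] at this
    rcases hq with ⟨k, hk⟩
    omega
  have h2 : (2 : F) ≠ 0 := Ring.two_ne_zero hchar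
  have hneg : (-1 : F) ≠ 1 := by
    intro h
    apply h2
    have : (1 : F) + 1 = 0 := by
      nth_rewrite 1 [← h]; ring
    rw [← this]; norm_num
  have hq2 : 2 ≤ q := by rw [← hF]; exact Fintype.one_lt_card
  have hN0 : q - 1 ≠ 0 := by omega
  have hn0 : n ≠ 0 := by omega
  obtain ⟨M, hM, hN⟩ := two_adic_decomp hN0
  obtain ⟨t, ht, hnt⟩ := two_adic_decomp hn0
  set e := padicValNat 2 (q - 1) with he
  set s := padicValNat 2 n with hs
  constructor
  · rintro ⟨c, hc⟩
    by_contra hlt
    rw [not_lt] at hlt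
    have hc0 : c ≠ 0 := by
      rintro rfl
      rw [zero_pow hn0] at hc
      exact (neg_ne_zero.mpr one_ne_zero) hc.symm
    obtain ⟨d, hd⟩ := Nat.exists_eq_add_of_le hlt
    have h1 : (c ^ n) ^ M = 1 := by
      rw [← pow_mul, hnt, hd, pow_add]
      have : 2 ^ e * 2 ^ d * t * M = (q - 1) * (2 ^ d * t) := by
        rw [hN]; ring
      rw [this, pow_mul, ← hF, FiniteField.pow_card_sub_one_eq_one c hc0, one_pow]
    rw [hc, hM.neg_one_pow] at h1
    exact hneg h1
  · intro hlt
    obtain ⟨ζ, hζ⟩ := FiniteField.exists_nonsquare (F := F) hchar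
    have hζ0 : ζ ≠ 0 := by
      rintro rfl
      exact hζ IsSquare.zero
    have hζpow : ζ ^ (q / 2) = -1 := by
      rcases FiniteField.pow_dichotomy hchar hζ0 with h | h
      · exact absurd ((FiniteField.isSquare_iff hchar hζ0).mpr h) hζ
      · rw [← hF]; exact h
    -- `q - 1 = 2 ^ (s + 1) * K`
    obtain ⟨d, hd⟩ := Nat.exists_eq_add_of_lt hlt
    have hqK : q - 1 = 2 ^ (s + 1) * (2 ^ d * M) := by
      rw [hN, hd, pow_add]; ring
    have hq2' : q / 2 = 2 ^ s * (2 ^ d * M) := by
      have : q = 2 * (2 ^ s * (2 ^ d * M)) + 1 := by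
        have : q = (q - 1) + 1 := by omega
        rw [this, hqK, pow_succ]; ring
      omega
    refine ⟨ζ ^ (2 ^ d * M), ?_⟩
    rw [hnt, ← pow_mul]
    have : 2 ^ d * M * (2 ^ s * t) = (2 ^ s * (2 ^ d * M)) * t := by ring
    rw [this, pow_mul, ← hq2', hζpow, ht.neg_one_pow]

/-- Which diagonal involutions of PGL_n(q) lie in PSL_n(q), q odd: for the diagonal matrix t with i entries −1 and n − i entries 1, some non-zero scalar multiple of t has determinant one if and only if i is even or the 2-part of q − 1 exceeds the 2-part of n (that is, −1 is an n-th power in the field exactly in the latter case). -/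
theorem result {F : Type*} [Field F] [Fintype F] {q : ℕ} (hF : Fintype.card F = q) (hq : Odd q) {n : ℕ} (hn : 1 ≤ n) (i : ℕ) (hi : i ≤ n) : (∃ c : F, c ≠ 0 ∧ (c • Matrix.diagonal (fun j : Fin n => if (j : ℕ) < i then (-1 : F) else 1)).det = 1) ↔ (Even i ∨ padicValNat 2 n < padicValNat 2 (q - 1)) := by
  have hdet : ∀ c : F, (c • Matrix.diagonal (fun j : Fin n => if (j : ℕ) < i then (-1 : F) else 1)).det
      = c ^ n * (-1) ^ i := by
    intro c
    rw [Matrix.det_smul, Matrix.det_diagonal, prod_neg_one n i hi, Fintype.card_fin]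
  simp only [hdet]
  rw [← exists_pow_eq_neg_one_iff hF hq hn]
  constructor
  · rintro ⟨c, hc0, hc⟩
    rcases Nat.even_or_odd i with hi' | hi'
    · exact Or.inl hi'
    · right
      refine ⟨c, ?_⟩
      rw [hi'.neg_one_pow] at hc
      linear_combination (-1 : F) * hc
  · rintro (hi' | ⟨c, hc⟩)
    · exact ⟨1, one_ne_zero, by rw [hi'.neg_one_pow]; simp⟩
    · rcases Nat.even_or_odd i with hi' | hi'
      · exact ⟨1, one_ne_zero, by rw [hi'.neg_one_pow]; simp⟩
      · refine ⟨c, ?_, ?_⟩
        · rintro rfl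
          rw [zero_pow (by omega)] at hc
          exact (neg_ne_zero.mpr one_ne_zero) hc.symm
        · rw [hc, hi'.neg_one_pow]; ring

end Cfsg.Agent.S2575
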