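import Cfsg.Statements.S2576
import Mathlib

set_option autoImplicit false
open Cfsg

namespace Cfsg.Agent.S2576

/-- `n = 2 ^ v₂(n) * t` with `t` odd. -/
theorem two_adic_decomp {n : ℕ} (hn : n ≠ 0) : ∃ t, Odd t ∧ n = 2 ^ padicValNat 2 n * t := by
  obtain ⟨t, ht⟩ := pow_padicValNat_dvd (p := 2) (n := n)
  refine ⟨t, ?_, ht⟩
  rw [← Nat.not_even_iff_odd]
  rintro ⟨u, hu⟩
  apply pow_succ_padicValNat_not_dvd (p := 2) hn
  refine ⟨u, ?_⟩
  calc n = 2 ^ padicValNat 2 n * t := ht
    _ = 2 ^ (padicValNat 2 n + 1) * u := by rw [hu, pow_succ]; ring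

theorem det_block {F : Type*} [Field F] (m : ℕ) (μ c : F) :
    (c • Matrix.blockDiagonal (fun _ : Fin m => !![(0 : F), 1; μ, 0])).det = c ^ (2 * m) * (-μ) ^ m := by
  rw [Matrix.det_smul, Matrix.det_blockDiagonal]
  simp [Matrix.det_fin_two_of, Fintype.card_prod]

/-- Which involutions of PGL_2m(q) coming from a scalar of the quadratic extension field lie in PSL_2m(q), q odd: let μ generate the Sylow 2-subgroup of the multiplicative group of the field with q elements (μ has order the 2-part of q − 1) and let t be the block-diagonal matrix with m diagonal blocks [[0, 1], [μ, 0]] (so t² is the scalar μ and t is an involution modulo scalars). Then some non-zero scalar multiple of t has determinant one if and only if q ≡ 3 (mod 4) or the 2-part of q − 1 is less than the 2-part of 2m. -/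
theorem result {F : Type*} [Field F] [Fintype F] {q : ℕ} (hF : Fintype.card F = q) (hq : Odd q) {m : ℕ} (hm : 1 ≤ m) (μ : F) (hμ : orderOf μ = 2 ^ padicValNat 2 (q - 1)) : (∃ c : F, c ≠ 0 ∧ (c • Matrix.blockDiagonal (fun _ : Fin m => !![(0 : F), 1; μ, 0])).det = 1) ↔ (q % 4 = 3 ∨ padicValNat 2 (q - 1) < padicValNat 2 (2 * m)) := by
  simp only [det_block]
  have hchar : ringChar F ≠ 2 := by
    intro h
    have := FiniteField.even_card_of_char_two h
    rw [hF] at this
    rcases hq with ⟨k, hk⟩
    omega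
  have h2 : (2 : F) ≠ 0 := Ring.two_ne_zero hchar
  have hneg : (-1 : F) ≠ 1 := by
    intro h
    apply h2
    have : (1 : F) + 1 = 0 := by
      nth_rewrite 1 [← h]; ring
    rw [← this]; norm_num
  have hq2 : 2 ≤ q := by rw [← hF]; exact Fintype.one_lt_card
  have hN0 : q - 1 ≠ 0 := by omega
  have hm0 : m ≠ 0 := by omega
  obtain ⟨M, hM, hN⟩ := two_adic_decomp hN0
  obtain ⟨t, ht, hmt⟩ := two_adic_decomp hm0
  set e := padicValNat 2 (q - 1) with he
  set s := padicValNat 2 m with hs
  have hv2m : padicValNat 2 (2 * m) = s + 1 := by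
    rw [padicValNat.mul (by norm_num) hm0, padicValNat_self, add_comm]
  rw [hv2m]
  have he1 : 1 ≤ e := by
    rw [he, ← padicValNat_dvd_iff_le hN0, pow_one]
    rcases hq with ⟨k, hk⟩
    exact ⟨k, by omega⟩
  have he2 : 2 ≤ e ↔ q % 4 = 1 := by
    rw [he, ← padicValNat_dvd_iff_le hN0]
    constructor
    · rintro ⟨k, hk⟩; omega
    · intro h; exact ⟨q / 4, by omega⟩
  -- powers of μ
  have hμ1 : μ ^ (2 ^ e) = 1 := by rw [← hμ]; exact pow_orderOf_eq_one μ
  have hμ2 : μ ^ (2 ^ (e - 1)) = -1 := by
    have hsq : (μ ^ (2 ^ (e - 1))) ^ 2 = 1 := by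
      rw [← pow_mul, ← pow_succ]
      have : e - 1 + 1 = e := by omega
      rw [this, hμ1]
    rcases sq_eq_one_iff.mp hsq with h | h
    · exfalso
      have := orderOf_dvd_of_pow_eq_one h
      rw [hμ] at this
      have h3 := Nat.le_of_dvd (by positivity) this
      have : 2 ^ (e - 1) < 2 ^ e := Nat.pow_lt_pow_right (by norm_num) (by omega)
      omega
    · exact h
  by_cases hq3 : q % 4 = 3
  · -- `e = 1`, `μ = -1`
    have he' : e = 1 := by
      by_contra hne
      have : 2 ≤ e := by omega
      rw [he2] at this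
      omega
    have hμneg : μ = -1 := by
      have := hμ2
      rw [he'] at this
      simpa using this
    simp only [hq3, true_or, iff_true]
    refine ⟨1, one_ne_zero, ?_⟩
    rw [hμneg]; simp
  · have hq1 : q % 4 = 1 := by
      rcases hq with ⟨k, hk⟩
      omega
    have he2' : 2 ≤ e := he2.mpr hq1
    simp only [hq3, false_or]
    have hnegμ : (-μ) ^ (2 ^ (e - 1)) = -1 := by
      rw [neg_pow, hμ2]
      have : Even (2 ^ (e - 1)) := by
        refine (Nat.even_pow.mpr ⟨by norm_num, by omega⟩)
      rw [this.neg_one_pow, one_mul]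
    constructor
    · rintro ⟨c, hc0, hc⟩
      by_contra hlt
      have hse : s < e := by omega
      obtain ⟨d, hd⟩ := Nat.exists_eq_add_of_lt hse
      -- raise to the power `P = M * 2 ^ d`, where `e = s + d + 1`
      have h1 : (c ^ (2 * m)) ^ (M * 2 ^ d) = 1 := by
        rw [← pow_mul]
        have : 2 * m * (M * 2 ^ d) = (q - 1) * t := by
          rw [hN, hd]
          conv_lhs => rw [hmt]
          rw [pow_add, pow_add]; ring
        rw [this, pow_mul, ← hF, FiniteField.pow_card_sub_one_eq_one c hc0, one_pow]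
      have h2' : ((-μ) ^ m) ^ (M * 2 ^ d) = -1 := by
        rw [← pow_mul]
        have : m * (M * 2 ^ d) = 2 ^ (e - 1) * (t * M) := by
          have : e - 1 = s + d := by omega
          rw [this]
          conv_lhs => rw [hmt]
          rw [pow_add]; ring
        rw [this, pow_mul, hnegμ, (ht.mul hM).neg_one_pow]
      have h3 := congrArg (fun x => x ^ (M * 2 ^ d)) hc
      simp only [mul_pow, h1, h2', one_pow, one_mul] at h3
      exact hneg h3
    · intro hlt
      have hes : e ≤ s := by omega
      obtain ⟨d, hd⟩ := Nat.exists_eq_add_of_le hes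
      refine ⟨1, one_ne_zero, ?_⟩
      rw [one_pow, one_mul, hmt, hd, pow_add, mul_assoc, pow_mul, neg_pow, hμ1]
      have : Even (2 ^ e) := Nat.even_pow.mpr ⟨by norm_num, by omega⟩
      rw [this.neg_one_pow, one_mul, one_pow]

end Cfsg.Agent.S2576
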