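import Cfsg.Statements.S2577
import Cfsg.Agent.Lib.Helper14.PolyExp
import Cfsg.Agent.Lib.Helper14.SemiClass
import Cfsg.Agent.Lib.Helper14.SemiNil

set_option autoImplicit false
open Cfsg

namespace Cfsg.Agent.S2577

open Polynomial Cfsg.Agent.Lib.Helper14

section poly
open scoped Classical
variable {F : Type*} [Field F]

/-- The diagonal matrix with `b` entries `-1` followed by `1`s. -/
def dMat (F : Type*) [Field F] (n b : ℕ) : Matrix (Fin n) (Fin n) F :=
  Matrix.diagonal (fun i => if i.val < b then -1 else 1)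

theorem dMat_mul_self (n b : ℕ) : dMat F n b * dMat F n b = 1 := by
  unfold dMat
  rw [Matrix.diagonal_mul_diagonal, ← Matrix.diagonal_one]
  congr 1
  funext i
  split_ifs <;> simp

theorem card_filter_not_lt (n b : ℕ) (hb : b ≤ n) :
    (Finset.univ.filter (fun i : Fin n => ¬ i.val < b)).card = n - b := by
  have h1 := Finset.card_filter_add_card_filter_not (s := (Finset.univ : Finset (Fin n)))
    (fun i : Fin n => i.val < b)
  rw [Fin.card_filter_val_lt, Finset.card_univ, Fintype.card_fin, min_eq_right hb] at h1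
  omega

theorem prod_ite_lt (n b : ℕ) (hb : b ≤ n) (P Q : F[X]) :
    ∏ i : Fin n, (if i.val < b then P else Q) = P ^ b * Q ^ (n - b) := by
  rw [Finset.prod_ite, Finset.prod_const, Finset.prod_const, Fin.card_filter_val_lt,
    min_eq_right hb, card_filter_not_lt n b hb]

theorem charpoly_dMat (n b : ℕ) (hb : b ≤ n) :
    (dMat F n b).charpoly = (X + 1) ^ b * (X - 1) ^ (n - b) := by
  unfold dMat
  rw [Matrix.charpoly_diagonal, ← prod_ite_lt n b hb]
  apply Finset.prod_congr rfl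
  intro i _
  split_ifs <;> simp [sub_neg_eq_add]

theorem charpoly_neg_dMat (n b : ℕ) (hb : b ≤ n) :
    (-(dMat F n b)).charpoly = (X - 1) ^ b * (X + 1) ^ (n - b) := by
  unfold dMat
  rw [Matrix.diagonal_neg, Matrix.charpoly_diagonal, ← prod_ite_lt n b hb]
  apply Finset.prod_congr rfl
  intro i _
  split_ifs <;> simp [sub_neg_eq_add]

theorem X_sub_one_ne_X_add_one (h2 : (2 : F) ≠ 0) : (X - 1 : F[X]) ≠ X + 1 := by
  intro h
  have h1 := congrArg (eval 1) h
  simp at h1
  apply h2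
  rw [← one_add_one_eq_two, ← h1]

theorem X_add_one_monic_irreducible : (X + 1 : F[X]).Monic ∧ Irreducible (X + 1 : F[X]) := by
  have : (X + 1 : F[X]) = X - C (-1) := by rw [map_neg, map_one, sub_neg_eq_add]
  rw [this]
  exact ⟨monic_X_sub_C _, irreducible_X_sub_C _⟩

theorem X_sub_one_monic_irreducible : (X - 1 : F[X]).Monic ∧ Irreducible (X - 1 : F[X]) := by
  have : (X - 1 : F[X]) = X - C 1 := by rw [map_one]
  rw [this]
  exact ⟨monic_X_sub_C 1, irreducible_X_sub_C 1⟩

/-- exponents of `(X+1)^b (X-1)^c` are determined. -/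
theorem exp_unique (h2 : (2 : F) ≠ 0) (b c b' c' : ℕ)
    (h : (X + 1 : F[X]) ^ b * (X - 1) ^ c = (X + 1) ^ b' * (X - 1) ^ c') : b = b' ∧ c = c' := by
  have hne := X_sub_one_ne_X_add_one h2
  have hT : ∀ P ∈ ({X + 1, X - 1} : Finset F[X]), P.Monic ∧ Irreducible P := by
    intro P hP
    rcases Finset.mem_insert.mp hP with rfl | hP
    · exact X_add_one_monic_irreducible
    · rw [Finset.mem_singleton] at hP
      rw [hP]
      exact X_sub_one_monic_irreducible
  have key : ∀ b c : ℕ, (X + 1 : F[X]) ^ b * (X - 1) ^ c =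
      expProd ({X + 1, X - 1} : Finset F[X]) (fun P => if P = X + 1 then b else c) := by
    intro b c
    unfold expProd
    rw [Finset.prod_insert (by rw [Finset.mem_singleton]; exact hne.symm), Finset.prod_singleton]
    show _ = (X + 1) ^ (if (X + 1 : F[X]) = X + 1 then b else c) *
      (X - 1) ^ (if (X - 1 : F[X]) = X + 1 then b else c)
    rw [if_pos rfl, if_neg hne]
  rw [key, key] at h
  have h1 := expProd_injective _ _ _ hT h
  have h3 := h1 (X + 1) (Finset.mem_insert_self _ _)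
  have h4 := h1 (X - 1) (Finset.mem_insert_of_mem (Finset.mem_singleton_self _))
  simp only [if_true] at h3
  rw [if_neg hne, if_neg hne] at h4
  exact ⟨h3, h4⟩

end poly

section cp
open scoped Classical
variable {F : Type*} [Field F] {n : ℕ}

/-- A matrix with `A * A = 1` has characteristic polynomial `(X+1)^β (X-1)^α`. -/
theorem charpoly_of_sq_one (h2 : (2 : F) ≠ 0) (A : Matrix (Fin n) (Fin n) F) (hA : A * A = 1) :
    ∃ β α : ℕ, β + α = n ∧ A.charpoly = (X + 1) ^ β * (X - 1) ^ α := by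
  have hne := X_sub_one_ne_X_add_one h2
  have hT : ∀ P ∈ ({X + 1, X - 1} : Finset F[X]), P.Monic := by
    intro P hP
    rcases Finset.mem_insert.mp hP with rfl | hP
    · exact X_add_one_monic_irreducible.1
    · rw [Finset.mem_singleton] at hP
      rw [hP]
      exact X_sub_one_monic_irreducible.1
  have hmin : minpoly F A ∣ (X + 1) * (X - 1) := by
    apply minpoly.dvd
    simp only [map_mul, map_add, map_sub, aeval_X, map_one]
    rw [add_mul, mul_sub, mul_sub, hA]
    simp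
  have hgood : ∀ P : F[X], P.Monic → Irreducible P → P ∣ A.charpoly →
      P ∈ ({X + 1, X - 1} : Finset F[X]) := by
    intro P hPm hPi hd
    have h1 := (irreducible_dvd_minpoly_matrix A P hPi hd).trans hmin
    rcases hPi.prime.dvd_or_dvd h1 with h | h
    · rw [eq_of_monic_of_associated hPm X_add_one_monic_irreducible.1
        (hPi.associated_of_dvd X_add_one_monic_irreducible.2 h)]
      exact Finset.mem_insert_self _ _
    · rw [eq_of_monic_of_associated hPm X_sub_one_monic_irreducible.1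
        (hPi.associated_of_dvd X_sub_one_monic_irreducible.2 h)]
      exact Finset.mem_insert_of_mem (Finset.mem_singleton_self _)
  obtain ⟨ε, hε⟩ := exists_expProd _ n A.charpoly
    (by rw [Matrix.charpoly_natDegree_eq_dim, Fintype.card_fin]) (Matrix.charpoly_monic A) hgood
  have hdeg := natDegree_expProd _ ε hT
  rw [← hε, Matrix.charpoly_natDegree_eq_dim, Fintype.card_fin,
    Finset.sum_insert (by rw [Finset.mem_singleton]; exact hne.symm), Finset.sum_singleton] at hdeg
  have hd1 : (X + 1 : F[X]).natDegree = 1 := by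
    have : (X + 1 : F[X]) = X + C 1 := by rw [map_one]
    rw [this, natDegree_X_add_C]
  have hd2 : (X - 1 : F[X]).natDegree = 1 := by
    have : (X - 1 : F[X]) = X - C 1 := by rw [map_one]
    rw [this, natDegree_X_sub_C]
  rw [hd1, hd2, mul_one, mul_one] at hdeg
  refine ⟨ε (X + 1), ε (X - 1), hdeg.symm, ?_⟩
  rw [hε]
  unfold expProd
  rw [Finset.prod_insert (by rw [Finset.mem_singleton]; exact hne.symm), Finset.prod_singleton]

theorem X_sq_sub_C_irreducible (a : F) (ha : ¬ IsSquare a) :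
    (X ^ 2 - C a : F[X]).Monic ∧ Irreducible (X ^ 2 - C a : F[X]) := by
  have hm : (X ^ 2 - C a : F[X]).Monic := monic_X_pow_sub_C a (by norm_num)
  have hd : (X ^ 2 - C a : F[X]).natDegree = 2 := natDegree_X_pow_sub_C
  refine ⟨hm, ?_⟩
  rw [hm.irreducible_iff_roots_eq_zero_of_degree_le_three (by omega) (by omega)]
  apply Multiset.eq_zero_of_forall_notMem
  intro x hx
  rw [mem_roots hm.ne_zero] at hx
  simp only [IsRoot, eval_sub, eval_pow, eval_X, eval_C] at hx
  apply ha
  exact ⟨x, by rw [← sub_eq_zero.mp hx, sq]⟩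

/-- A matrix squaring to a non-square scalar has characteristic polynomial `(X² - a)^m`. -/
theorem charpoly_of_sq_nonsq (A : Matrix (Fin n) (Fin n) F) (a : F) (ha : ¬ IsSquare a)
    (hA : A * A = Matrix.scalar (Fin n) a) :
    ∃ m : ℕ, 2 * m = n ∧ A.charpoly = (X ^ 2 - C a) ^ m := by
  obtain ⟨hm, hirr⟩ := X_sq_sub_C_irreducible a ha
  have hT : ∀ P ∈ ({X ^ 2 - C a} : Finset F[X]), P.Monic := by
    intro P hP
    rw [Finset.mem_singleton] at hP
    rw [hP]
    exact hm
  have hmin : minpoly F A ∣ (X ^ 2 - C a) := by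
    apply minpoly.dvd
    simp only [map_sub, map_pow, aeval_X, aeval_C]
    rw [sq, hA]
    simp [Matrix.algebraMap_eq_diagonal]
  have hgood : ∀ P : F[X], P.Monic → Irreducible P → P ∣ A.charpoly →
      P ∈ ({X ^ 2 - C a} : Finset F[X]) := by
    intro P hPm hPi hd
    have h1 := (irreducible_dvd_minpoly_matrix A P hPi hd).trans hmin
    rw [Finset.mem_singleton]
    exact eq_of_monic_of_associated hPm hm (hPi.associated_of_dvd hirr h1)
  obtain ⟨ε, hε⟩ := exists_expProd _ n A.charpoly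
    (by rw [Matrix.charpoly_natDegree_eq_dim, Fintype.card_fin]) (Matrix.charpoly_monic A) hgood
  have hdeg := natDegree_expProd _ ε hT
  rw [← hε, Matrix.charpoly_natDegree_eq_dim, Fintype.card_fin, Finset.sum_singleton,
    natDegree_X_pow_sub_C] at hdeg
  refine ⟨ε (X ^ 2 - C a), by omega, ?_⟩
  rw [hε]
  unfold expProd
  rw [Finset.prod_singleton]

end cp

section gl
open scoped Classical
variable {F : Type*} [Field F] [Fintype F] {n : ℕ}

local notation "SC" => Matrix.GeneralLinearGroup.scalar (Fin n)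

theorem SC_mem_center (a : Fˣ) : (SC a : GL (Fin n) F) ∈ Subgroup.center (GL (Fin n) F) := by
  rw [Matrix.GeneralLinearGroup.center_eq_range_scalar]
  exact ⟨a, rfl⟩

theorem SC_comm (a : Fˣ) (x : GL (Fin n) F) : SC a * x = x * SC a :=
  (Subgroup.mem_center_iff.mp (SC_mem_center a) x).symm

theorem mem_center_iff_SC (z : GL (Fin n) F) :
    z ∈ Subgroup.center (GL (Fin n) F) ↔ ∃ a : Fˣ, SC a = z := by
  rw [Matrix.GeneralLinearGroup.center_eq_range_scalar]
  rfl

theorem SC_val_apply (a : Fˣ) (i : Fin n) :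
    ((SC a : GL (Fin n) F) : Matrix (Fin n) (Fin n) F) i i = a := by
  simp

theorem SC_injective (hn : 1 ≤ n) (a b : Fˣ) (h : (SC a : GL (Fin n) F) = SC b) : a = b := by
  have h1 := SC_val_apply (n := n) a ⟨0, hn⟩
  rw [h, SC_val_apply] at h1
  exact Units.ext h1.symm

/-- `d_b` as an element of `GL_n`. -/
def dGL (F : Type*) [Field F] (n b : ℕ) : GL (Fin n) F :=
  ⟨dMat F n b, dMat F n b, dMat_mul_self n b, dMat_mul_self n b⟩

theorem dGL_mul_self (b : ℕ) : dGL F n b * dGL F n b = 1 :=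
  Units.ext (dMat_mul_self n b)

theorem dGL_ne_SC (h2 : (2 : F) ≠ 0) (b : ℕ) (hb1 : 1 ≤ b) (hbn : b ≤ n - 1) (a : Fˣ) :
    (SC a : GL (Fin n) F) ≠ dGL F n b := by
  intro h
  have hn : 2 ≤ n := by omega
  have h0 := SC_val_apply (n := n) a ⟨0, by omega⟩
  have h1 := SC_val_apply (n := n) a ⟨n - 1, by omega⟩
  rw [h] at h0 h1
  have e0 : ((dGL F n b : GL (Fin n) F) : Matrix (Fin n) (Fin n) F) ⟨0, by omega⟩ ⟨0, by omega⟩
      = -1 := by
    show dMat F n b _ _ = -1
    unfold dMat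
    rw [Matrix.diagonal_apply_eq, if_pos (by show 0 < b; omega)]
  have e1 : ((dGL F n b : GL (Fin n) F) : Matrix (Fin n) (Fin n) F) ⟨n - 1, by omega⟩
      ⟨n - 1, by omega⟩ = 1 := by
    show dMat F n b _ _ = 1
    unfold dMat
    rw [Matrix.diagonal_apply_eq, if_neg (by show ¬ n - 1 < b; omega)]
  rw [e0] at h0
  rw [e1] at h1
  apply h2
  rw [← one_add_one_eq_two]
  nth_rewrite 1 [h1]
  rw [← h0]
  ring

variable (p : ℕ) [Fact p.Prime] [CharP F p]

theorem coprime_of_sq (h2 : (2 : F) ≠ 0) (g : GL (Fin n) F) (a : Fˣ) (hg : g * g = SC a) :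
    (orderOf g).Coprime p := by
  have ha : a ^ (Fintype.card F - 1) = 1 := by
    apply Units.ext
    rw [Units.val_pow_eq_pow_val, Units.val_one]
    exact FiniteField.pow_card_sub_one_eq_one _ a.ne_zero
  have h1 : g ^ (2 * (Fintype.card F - 1)) = 1 := by
    rw [pow_mul, sq, hg, ← map_pow, ha, map_one]
  have h3 : orderOf g ∣ 2 * (Fintype.card F - 1) := orderOf_dvd_of_pow_eq_one h1
  apply Nat.Coprime.coprime_dvd_left h3
  have hp : p.Prime := Fact.out
  apply Nat.Coprime.mul_left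
  · rw [Nat.coprime_comm, hp.coprime_iff_not_dvd]
    intro hd
    have : p = 2 := (Nat.prime_dvd_prime_iff_eq hp Nat.prime_two).mp hd
    apply h2
    have h4 := CharP.cast_eq_zero F p
    rw [this] at h4
    exact_mod_cast h4
  · obtain ⟨f, -, hf⟩ := FiniteField.card F p
    rw [Nat.coprime_comm, hp.coprime_iff_not_dvd]
    intro hd
    have h5 : p ∣ Fintype.card F := by
      rw [hf]
      exact dvd_pow_self p f.pos.ne'
    have h6 : 1 ≤ Fintype.card F := Fintype.card_pos
    have h7 : p ∣ Fintype.card F - (Fintype.card F - 1) := Nat.dvd_sub h5 hd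
    have h8 : Fintype.card F - (Fintype.card F - 1) = 1 := by omega
    rw [h8] at h7
    exact hp.one_lt.ne' (Nat.dvd_one.mp h7)

theorem charpoly_conj {g h : GL (Fin n) F} (hc : IsConj g h) :
    (g : Matrix (Fin n) (Fin n) F).charpoly = (h : Matrix (Fin n) (Fin n) F).charpoly := by
  obtain ⟨c, hc⟩ := isConj_iff.mp hc
  rw [← hc, Units.val_mul, Units.val_mul, Matrix.coe_units_inv]
  exact (Matrix.charpoly_units_conj c _).symm

theorem isConj_SC_mul {g h : GL (Fin n) F} (μ : Fˣ) (hc : IsConj g h) :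
    IsConj (SC μ * g) (SC μ * h) := by
  obtain ⟨c, hc⟩ := isConj_iff.mp hc
  rw [isConj_iff]
  refine ⟨c, ?_⟩
  rw [← hc, ← mul_assoc, ← SC_comm μ c]
  group

theorem eq_of_isConj_SC {g : GL (Fin n) F} (a : Fˣ) (hc : IsConj g (SC a)) : g = SC a := by
  obtain ⟨c, hc⟩ := isConj_iff.mp hc
  have : g = c⁻¹ * SC a * c := by
    rw [← hc]
    group
  rw [this, mul_assoc, SC_comm a c, ← mul_assoc, inv_mul_cancel, one_mul]

theorem SC_neg_one_val :
    ((SC (-1 : Fˣ) : GL (Fin n) F) : Matrix (Fin n) (Fin n) F) = -1 := by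
  rw [Matrix.GeneralLinearGroup.coe_scalar]
  ext i j
  by_cases hij : i = j
  · subst hij
    simp
  · simp [hij]

theorem SC_neg_one_mul_val (g : GL (Fin n) F) :
    ((SC (-1 : Fˣ) * g : GL (Fin n) F) : Matrix (Fin n) (Fin n) F) =
      -(g : Matrix (Fin n) (Fin n) F) := by
  rw [Units.val_mul, SC_neg_one_val, neg_one_mul]

end gl

section struc
open scoped Classical
variable {F : Type*} [Field F] [Fintype F] {n : ℕ}

local notation "SC" => Matrix.GeneralLinearGroup.scalar (Fin n)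

theorem dGL_coprime (p : ℕ) [Fact p.Prime] [CharP F p] (h2 : (2 : F) ≠ 0) (b : ℕ) : (orderOf (dGL F n b)).Coprime p :=
  coprime_of_sq p h2 (dGL F n b) 1 (by rw [dGL_mul_self, map_one])

theorem neg_dGL_coprime (p : ℕ) [Fact p.Prime] [CharP F p] (h2 : (2 : F) ≠ 0) (b : ℕ) :
    (orderOf (SC (-1 : Fˣ) * dGL F n b)).Coprime p := by
  apply coprime_of_sq p h2 _ 1
  rw [mul_assoc, ← mul_assoc (dGL F n b), ← SC_comm, mul_assoc, dGL_mul_self, mul_one,
    ← map_mul, map_one]
  simp

/-- `-d_b` is conjugate to `d_{n-b}`. -/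
theorem swap_conj (p : ℕ) [Fact p.Prime] [CharP F p] (h2 : (2 : F) ≠ 0) (b : ℕ) (hb : b ≤ n) :
    IsConj (SC (-1 : Fˣ) * dGL F n b) (dGL F n (n - b)) := by
  apply isConj_GL_of_charpoly_eq p _ _ (neg_dGL_coprime p h2 b) (dGL_coprime p h2 _)
  rw [SC_neg_one_mul_val]
  show (-(dMat F n b)).charpoly = (dMat F n (n - b)).charpoly
  rw [charpoly_neg_dMat n b hb, charpoly_dMat n (n - b) (by omega), mul_comm]
  congr 2
  omega

/-- An element squaring to a square scalar, not itself scalar, is conjugate to `μ d_b`. -/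
theorem sq_case (p : ℕ) [Fact p.Prime] [CharP F p] (h2 : (2 : F) ≠ 0) (g : GL (Fin n) F) (μ : Fˣ) (hg : g * g = SC (μ * μ))
    (hns : ¬ ∃ a : Fˣ, SC a = g) :
    ∃ b : ℕ, 1 ≤ b ∧ b ≤ n - 1 ∧ IsConj g (SC μ * dGL F n b) := by
  set h : GL (Fin n) F := SC μ⁻¹ * g with hh
  have hgh : g = SC μ * h := by
    rw [hh, ← mul_assoc, ← map_mul, mul_inv_cancel, map_one, one_mul]
  have hh1 : h * h = 1 := by
    rw [hh, mul_assoc, ← mul_assoc g, ← SC_comm, mul_assoc, hg, ← map_mul, ← map_mul]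
    have : μ⁻¹ * (μ⁻¹ * (μ * μ)) = 1 := by group
    rw [this, map_one]
  have hhval : (h : Matrix (Fin n) (Fin n) F) * (h : Matrix (Fin n) (Fin n) F) = 1 := by
    rw [← Units.val_mul, hh1, Units.val_one]
  have hhcop : (orderOf h).Coprime p := coprime_of_sq p h2 h 1 (by rw [hh1, map_one])
  obtain ⟨β, α, hsum, hcp⟩ := charpoly_of_sq_one h2 _ hhval
  have hβ : β ≠ 0 := by
    rintro rfl
    rw [pow_zero, one_mul] at hcp
    have hα : α = n := by omega
    rw [hα] at hcp
    have h1 : h = 1 := by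
      have hc : IsConj h 1 := by
        apply isConj_GL_of_charpoly_eq p h 1 hhcop (by simp)
        rw [hcp, Units.val_one, Matrix.charpoly_one, Fintype.card_fin]
      exact isConj_one_left.mp hc
    apply hns
    exact ⟨μ, by rw [hgh, h1, mul_one]⟩
  have hα : α ≠ 0 := by
    rintro rfl
    rw [pow_zero, mul_one] at hcp
    have hβn : β = n := by omega
    rw [hβn] at hcp
    have h1 : h = SC (-1 : Fˣ) := by
      apply eq_of_isConj_SC
      apply isConj_GL_of_charpoly_eq p h _ hhcop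
      · apply coprime_of_sq p h2 _ 1
        rw [← map_mul]
        simp
      · rw [hcp, SC_neg_one_val]
        have : (-1 : Matrix (Fin n) (Fin n) F) = Matrix.diagonal (fun _ => (-1 : F)) := by
          ext i j
          by_cases hij : i = j
          · subst hij
            simp
          · simp [hij]
        rw [this, Matrix.charpoly_diagonal]
        simp
    apply hns
    exact ⟨μ * (-1), by rw [hgh, h1, map_mul]⟩
  refine ⟨β, by omega, by omega, ?_⟩
  rw [hgh]
  apply isConj_SC_mul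
  apply isConj_GL_of_charpoly_eq p h _ hhcop (dGL_coprime p h2 _)
  rw [hcp]
  show _ = (dMat F n β).charpoly
  rw [charpoly_dMat n β (by omega)]
  congr 2
  omega

theorem ringChar_ne_two (h2 : (2 : F) ≠ 0) : ringChar F ≠ 2 := by
  intro h
  apply h2
  have := ringChar.Nat.cast_ringChar (R := F)
  rw [h] at this
  exact_mod_cast this

theorem isSquare_mul_of_not (a b : F) (ha : ¬ IsSquare a) (hb : ¬ IsSquare b) :
    IsSquare (a * b) := by
  have ha0 : a ≠ 0 := by
    rintro rfl
    exact ha ⟨0, by simp⟩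
  have hb0 : b ≠ 0 := by
    rintro rfl
    exact hb ⟨0, by simp⟩
  rw [← quadraticChar_one_iff_isSquare (mul_ne_zero ha0 hb0), map_mul,
    quadraticChar_neg_one_iff_not_isSquare.mpr ha, quadraticChar_neg_one_iff_not_isSquare.mpr hb]
  norm_num

theorem sq_SC_mul (c a : Fˣ) (w : GL (Fin n) F) (hw : w * w = SC a) :
    (SC c * w) * (SC c * w) = SC (c * c * a) := by
  rw [mul_assoc, ← mul_assoc w, ← SC_comm, mul_assoc, hw, ← map_mul, ← map_mul]
  congr 1
  group

/-- Two elements squaring to non-square scalars are conjugate up to a scalar. -/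
theorem nonsq_conj (p : ℕ) [Fact p.Prime] [CharP F p] (h2 : (2 : F) ≠ 0) (g w : GL (Fin n) F) (a aw : Fˣ) (hg : g * g = SC a)
    (hw : w * w = SC aw) (ha : ¬ IsSquare (a : F)) (haw : ¬ IsSquare (aw : F)) :
    ∃ c : Fˣ, IsConj g (SC c * w) := by
  obtain ⟨s, hs⟩ := isSquare_mul_of_not (aw : F) (a : F) haw ha
  have hs0 : s ≠ 0 := by
    rintro rfl
    rw [mul_zero] at hs
    exact mul_ne_zero aw.ne_zero a.ne_zero hs
  have hc0 : s / (aw : F) ≠ 0 := div_ne_zero hs0 aw.ne_zero
  set c : Fˣ := Units.mk0 (s / (aw : F)) hc0 with hc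
  have hca : c * c * aw = a := by
    apply Units.ext
    rw [Units.val_mul, Units.val_mul, hc, Units.val_mk0]
    have h1 : (aw : F) ≠ 0 := aw.ne_zero
    field_simp
    rw [hs]
    ring
  have hcw := sq_SC_mul c aw w hw
  rw [hca] at hcw
  refine ⟨c, ?_⟩
  have hgv : (g : Matrix (Fin n) (Fin n) F) * (g : Matrix (Fin n) (Fin n) F) =
      Matrix.scalar (Fin n) (a : F) := by
    rw [← Units.val_mul, hg, Matrix.GeneralLinearGroup.coe_scalar]
  have hwv : ((SC c * w : GL (Fin n) F) : Matrix (Fin n) (Fin n) F) *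
      ((SC c * w : GL (Fin n) F) : Matrix (Fin n) (Fin n) F) = Matrix.scalar (Fin n) (a : F) := by
    rw [← Units.val_mul, hcw, Matrix.GeneralLinearGroup.coe_scalar]
  obtain ⟨m, hm, hcp⟩ := charpoly_of_sq_nonsq _ (a : F) ha hgv
  obtain ⟨m', hm', hcp'⟩ := charpoly_of_sq_nonsq _ (a : F) ha hwv
  apply isConj_GL_of_charpoly_eq p _ _ (coprime_of_sq p h2 g a hg)
    (coprime_of_sq p h2 _ a hcw)
  rw [hcp, hcp']
  congr 1
  omega

theorem nonsq_even (g : GL (Fin n) F) (a : Fˣ) (hg : g * g = SC a) (ha : ¬ IsSquare (a : F)) :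
    Even n := by
  have hgv : (g : Matrix (Fin n) (Fin n) F) * (g : Matrix (Fin n) (Fin n) F) =
      Matrix.scalar (Fin n) (a : F) := by
    rw [← Units.val_mul, hg, Matrix.GeneralLinearGroup.coe_scalar]
  obtain ⟨m, hm, -⟩ := charpoly_of_sq_nonsq _ (a : F) ha hgv
  exact ⟨m, by omega⟩

theorem exists_nonsq_elt (p : ℕ) [Fact p.Prime] [CharP F p] (h2 : (2 : F) ≠ 0) (hev : Even n) :
    ∃ (w : GL (Fin n) F) (a : Fˣ), ¬ IsSquare (a : F) ∧ w * w = SC a := by
  obtain ⟨a, ha⟩ := FiniteField.exists_nonsquare (F := F) (ringChar_ne_two h2)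
  have ha0 : a ≠ 0 := by
    rintro rfl
    exact ha ⟨0, by simp⟩
  obtain ⟨m, hm⟩ := hev
  obtain ⟨hmon, -⟩ := X_sq_sub_C_irreducible a ha
  have hfm : ((X ^ 2 - C a : F[X]) ^ m).Monic := hmon.pow m
  have hfd : ((X ^ 2 - C a : F[X]) ^ m).natDegree = n := by
    rw [hmon.natDegree_pow, natDegree_X_pow_sub_C]
    omega
  have hf0 : ((X ^ 2 - C a : F[X]) ^ m).coeff 0 ≠ 0 := by
    rw [coeff_zero_eq_eval_zero]
    simp only [eval_pow, eval_sub, eval_X, eval_C]
    apply pow_ne_zero
    simpa using ha0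
  obtain ⟨w, hwo, hwc⟩ := exists_GL_charpoly p n _ hfm hfd hf0
  have hss := isSemisimple_of_orderOf_coprime p w hwo
  have h1 := aeval_eq_zero_of_charpoly_dvd_pow (w : Matrix (Fin n) (Fin n) F) hss
    (X ^ 2 - C a) m (by rw [hwc])
  simp only [map_sub, map_pow, aeval_X, aeval_C] at h1
  refine ⟨w, Units.mk0 a ha0, ha, ?_⟩
  apply Units.ext
  rw [Units.val_mul, Matrix.GeneralLinearGroup.coe_scalar, Units.val_mk0, ← sq,
    sub_eq_zero.mp h1]
  simp [Matrix.algebraMap_eq_diagonal]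

/-- Distinctness of the diagonal representatives. -/
theorem dGL_conj_imp (h2 : (2 : F) ≠ 0) (b b' : ℕ) (hb : 1 ≤ b) (hb2 : b ≤ n / 2)
    (hb2' : b' ≤ n / 2) (c : Fˣ) (h : IsConj (dGL F n b) (SC c * dGL F n b')) : b = b' := by
  have hn : 1 ≤ n := by omega
  have hsq : (SC (c * c) : GL (Fin n) F) = SC 1 := by
    obtain ⟨x, hx⟩ := isConj_iff.mp h
    have h1 : (SC c * dGL F n b') * (SC c * dGL F n b') = 1 := by
      rw [← hx]
      have : x * dGL F n b * x⁻¹ * (x * dGL F n b * x⁻¹) = x * (dGL F n b * dGL F n b) * x⁻¹ := by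
        group
      rw [this, dGL_mul_self]
      group
    have h3 := sq_SC_mul (n := n) c 1 (dGL F n b') (by rw [dGL_mul_self, map_one])
    rw [h1, mul_one] at h3
    rw [← h3, map_one]
  have hcc : c * c = 1 := SC_injective hn _ _ hsq
  have hcc' : (c : F) * (c : F) = 1 := by
    rw [← Units.val_mul, hcc, Units.val_one]
  have hcp := charpoly_conj h
  have hcp1 : ((dGL F n b : GL (Fin n) F) : Matrix (Fin n) (Fin n) F).charpoly =
      (X + 1) ^ b * (X - 1) ^ (n - b) := charpoly_dMat n b (by omega)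
  rcases mul_self_eq_one_iff.mp hcc' with h1 | h1
  · have hc1 : c = 1 := Units.ext h1
    rw [hc1, map_one, one_mul, hcp1] at hcp
    have hcp2 : ((dGL F n b' : GL (Fin n) F) : Matrix (Fin n) (Fin n) F).charpoly =
      (X + 1) ^ b' * (X - 1) ^ (n - b') := charpoly_dMat n b' (by omega)
    rw [hcp2] at hcp
    exact (exp_unique h2 _ _ _ _ hcp).1
  · have hc1 : c = -1 := Units.ext h1
    rw [hc1, SC_neg_one_mul_val, hcp1] at hcp
    have hcp2 : (-(dGL F n b' : GL (Fin n) F).val).charpoly =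
      (X - 1) ^ b' * (X + 1) ^ (n - b') := charpoly_neg_dMat n b' (by omega)
    rw [hcp2, mul_comm ((X - 1 : F[X]) ^ b')] at hcp
    have := (exp_unique h2 _ _ _ _ hcp).1
    omega

theorem dGL_not_conj_nonsq (hn : 1 ≤ n) (b : ℕ) (w : GL (Fin n) F) (a : Fˣ)
    (ha : ¬ IsSquare (a : F)) (hw : w * w = SC a) (c : Fˣ) :
    ¬ IsConj (dGL F n b) (SC c * w) := by
  intro h
  obtain ⟨x, hx⟩ := isConj_iff.mp h
  have h1 : (SC c * w) * (SC c * w) = 1 := by
    rw [← hx]
    have : x * dGL F n b * x⁻¹ * (x * dGL F n b * x⁻¹) = x * (dGL F n b * dGL F n b) * x⁻¹ := by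
      group
    rw [this, dGL_mul_self]
    group
  rw [sq_SC_mul c a w hw, ← map_one (SC)] at h1
  have h3 := SC_injective hn _ _ h1
  apply ha
  refine ⟨((c⁻¹ : Fˣ) : F), ?_⟩
  have : a = c⁻¹ * c⁻¹ := by
    have : c⁻¹ * c⁻¹ * (c * c * a) = a := by group
    rw [← this, h3, mul_one]
  rw [this, Units.val_mul]

end struc

section main
open scoped Classical
variable {F : Type*} [Field F] [Fintype F] {n : ℕ}

local notation "SC" => Matrix.GeneralLinearGroup.scalar (Fin n)

theorem mk_eq_one_iff (g : GL (Fin n) F) :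
    ((g : GL (Fin n) F ⧸ Subgroup.center (GL (Fin n) F)) = 1) ↔ ∃ a : Fˣ, SC a = g := by
  rw [QuotientGroup.eq_one_iff, mem_center_iff_SC]

theorem isConj_mk_iff (g h : GL (Fin n) F) :
    IsConj (g : GL (Fin n) F ⧸ Subgroup.center (GL (Fin n) F))
      (h : GL (Fin n) F ⧸ Subgroup.center (GL (Fin n) F)) ↔ ∃ a : Fˣ, IsConj g (SC a * h) := by
  constructor
  · intro hc
    obtain ⟨c, hc⟩ := isConj_iff.mp hc
    obtain ⟨x, rfl⟩ := QuotientGroup.mk_surjective c
    have h1 : ((x * g * x⁻¹ : GL (Fin n) F) : GL (Fin n) F ⧸ Subgroup.center (GL (Fin n) F)) =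
        (h : GL (Fin n) F ⧸ Subgroup.center (GL (Fin n) F)) := by
      rw [QuotientGroup.mk_mul, QuotientGroup.mk_mul, QuotientGroup.mk_inv]
      exact hc
    rw [QuotientGroup.eq] at h1
    obtain ⟨a, ha⟩ := (mem_center_iff_SC _).mp h1
    refine ⟨a⁻¹, isConj_iff.mpr ⟨x, ?_⟩⟩
    have h3 : x * g * x⁻¹ = h * (SC a)⁻¹ := by
      rw [ha]
      group
    rw [h3, ← map_inv]
    exact (SC_comm a⁻¹ h).symm
  · rintro ⟨a, hc⟩
    obtain ⟨x, hx⟩ := isConj_iff.mp hc
    rw [isConj_iff]
    refine ⟨(x : GL (Fin n) F ⧸ Subgroup.center (GL (Fin n) F)), ?_⟩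
    rw [← QuotientGroup.mk_inv, ← QuotientGroup.mk_mul, ← QuotientGroup.mk_mul, hx,
      QuotientGroup.mk_mul]
    have : ((SC a : GL (Fin n) F) : GL (Fin n) F ⧸ Subgroup.center (GL (Fin n) F)) = 1 :=
      (mk_eq_one_iff _).mpr ⟨a, rfl⟩
    rw [this, one_mul]

theorem orderOf_mk_eq_two_iff (g : GL (Fin n) F) :
    orderOf (g : GL (Fin n) F ⧸ Subgroup.center (GL (Fin n) F)) = 2 ↔
      (∃ a : Fˣ, g * g = SC a) ∧ ¬ ∃ a : Fˣ, SC a = g := by
  rw [orderOf_eq_prime_iff, sq, ← QuotientGroup.mk_mul, mk_eq_one_iff, Ne, mk_eq_one_iff]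
  constructor
  · rintro ⟨⟨a, ha⟩, h⟩
    exact ⟨⟨a, ha.symm⟩, h⟩
  · rintro ⟨⟨a, ha⟩, h⟩
    exact ⟨⟨a, ha.symm⟩, h⟩

theorem two_ne_zero_of_odd' (hodd : Odd (Fintype.card F)) : (2 : F) ≠ 0 := by
  apply Ring.two_ne_zero
  intro h
  have := FiniteField.even_card_of_char_two h
  rw [← Nat.not_even_iff_odd] at hodd
  exact hodd (Nat.even_iff.mpr this)

end main

/-- Number of conjugacy classes of involutions in PGL_n(q) for q odd and n ≥ 2: there are ⌊n/2⌋ classes represented by diagonal matrices with i entries −1 (1 ≤ i ≤ n/2) and, when n is even, one more class represented by a block-diagonal matrix of 2 × 2 blocks [[0, 1], [μ, 0]] with μ a non-square (a matrix squaring to a scalar but having no eigenvalue in the field); in all ⌊n/2⌋ + 1 classes if n is even and ⌊n/2⌋ if n is odd. -/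
theorem result {F : Type*} [Field F] [Fintype F] {q : ℕ} (hF : Fintype.card F = q) (hq : Odd q) {n : ℕ} (hn : 2 ≤ n) : Nat.card {C : ConjClasses (GL (Fin n) F ⧸ Subgroup.center (GL (Fin n) F)) // ∃ g : GL (Fin n) F ⧸ Subgroup.center (GL (Fin n) F), ConjClasses.mk g = C ∧ orderOf g = 2} = n / 2 + (if Even n then 1 else 0) := by
  classical
  subst hF
  obtain ⟨p, hp⟩ := CharP.exists F
  have := hp
  haveI : Fact p.Prime := ⟨CharP.char_is_prime F p⟩
  have h2 : (2 : F) ≠ 0 := two_ne_zero_of_odd' hq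
  have hex : ∀ _ : Even n, ∃ (w : GL (Fin n) F) (a : Fˣ), ¬ IsSquare (a : F) ∧
      w * w = Matrix.GeneralLinearGroup.scalar (Fin n) a := fun hev => exists_nonsq_elt p h2 hev
  choose wOf awOf hawOf hwOf using hex
  let rep : Fin (n / 2) ⊕ {_u : Unit // Even n} → GL (Fin n) F := fun i =>
    match i with
    | Sum.inl k => dGL F n (k.val + 1)
    | Sum.inr u => wOf u.2
  have hrep : ∀ i, orderOf ((rep i : GL (Fin n) F) :
      GL (Fin n) F ⧸ Subgroup.center (GL (Fin n) F)) = 2 := by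
    intro i
    rw [orderOf_mk_eq_two_iff]
    rcases i with k | u
    · have hk := k.2
      refine ⟨⟨1, by show dGL F n _ * dGL F n _ = _; rw [dGL_mul_self, map_one]⟩, ?_⟩
      rintro ⟨a, ha⟩
      exact dGL_ne_SC h2 (k.val + 1) (by omega) (by omega) a ha
    · refine ⟨⟨awOf u.2, hwOf u.2⟩, ?_⟩
      rintro ⟨c, hc⟩
      apply hawOf u.2
      have h3 : (Matrix.GeneralLinearGroup.scalar (Fin n) (c * c) : GL (Fin n) F) =
          Matrix.GeneralLinearGroup.scalar (Fin n) (awOf u.2) := by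
        have hc' : Matrix.GeneralLinearGroup.scalar (Fin n) c = wOf u.2 := hc
        rw [map_mul, ← hwOf u.2, hc']
      have h4 := SC_injective (by omega) _ _ h3
      exact ⟨(c : F), by rw [← h4, Units.val_mul]⟩
  let Ψ : Fin (n / 2) ⊕ {_u : Unit // Even n} →
      {C : ConjClasses (GL (Fin n) F ⧸ Subgroup.center (GL (Fin n) F)) //
        ∃ g : GL (Fin n) F ⧸ Subgroup.center (GL (Fin n) F), ConjClasses.mk g = C ∧
          orderOf g = 2} :=
    fun i => ⟨ConjClasses.mk ((rep i : GL (Fin n) F) :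
      GL (Fin n) F ⧸ Subgroup.center (GL (Fin n) F)), _, rfl, hrep i⟩
  have hinj : Function.Injective Ψ := by
    intro i j hij
    have h1 : ConjClasses.mk ((rep i : GL (Fin n) F) :
        GL (Fin n) F ⧸ Subgroup.center (GL (Fin n) F)) = ConjClasses.mk ((rep j : GL (Fin n) F) :
        GL (Fin n) F ⧸ Subgroup.center (GL (Fin n) F)) := congrArg Subtype.val hij
    rw [ConjClasses.mk_eq_mk_iff_isConj] at h1
    rcases i with k | u <;> rcases j with k' | u'
    · obtain ⟨c, hc⟩ := (isConj_mk_iff _ _).mp h1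
      have hk := k.2
      have hk' := k'.2
      have := dGL_conj_imp h2 (k.val + 1) (k'.val + 1) (by omega) (by omega) (by omega) c hc
      congr 1
      apply Fin.ext
      omega
    · obtain ⟨c, hc⟩ := (isConj_mk_iff _ _).mp h1
      exact absurd hc (dGL_not_conj_nonsq (by omega) _ _ _ (hawOf u'.2) (hwOf u'.2) c)
    · obtain ⟨c, hc⟩ := (isConj_mk_iff _ _).mp h1.symm
      exact absurd hc (dGL_not_conj_nonsq (by omega) _ _ _ (hawOf u.2) (hwOf u.2) c)
    · rw [Subsingleton.elim u u']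
  have hsurj : Function.Surjective Ψ := by
    rintro ⟨C, gq, rfl, hg⟩
    obtain ⟨g, rfl⟩ := QuotientGroup.mk_surjective gq
    obtain ⟨⟨a, ha⟩, hns⟩ := (orderOf_mk_eq_two_iff g).mp hg
    suffices h : ∃ i, IsConj ((g : GL (Fin n) F) :
        GL (Fin n) F ⧸ Subgroup.center (GL (Fin n) F)) ((rep i : GL (Fin n) F) :
        GL (Fin n) F ⧸ Subgroup.center (GL (Fin n) F)) by
      obtain ⟨i, hi⟩ := h
      refine ⟨i, ?_⟩
      apply Subtype.ext
      show ConjClasses.mk _ = ConjClasses.mk _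
      rw [ConjClasses.mk_eq_mk_iff_isConj]
      exact hi.symm
    by_cases hsq : IsSquare (a : F)
    · obtain ⟨μ', hμ'⟩ := hsq
      have hμ0 : μ' ≠ 0 := by
        rintro rfl
        rw [mul_zero] at hμ'
        exact a.ne_zero hμ'
      have haμ : a = Units.mk0 μ' hμ0 * Units.mk0 μ' hμ0 := by
        apply Units.ext
        rw [Units.val_mul, Units.val_mk0, hμ']
      rw [haμ] at ha
      obtain ⟨b, hb1, hbn, hconj⟩ := sq_case p h2 g _ ha hns
      by_cases hb : b ≤ n / 2
      · refine ⟨Sum.inl ⟨b - 1, by omega⟩, ?_⟩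
        rw [isConj_mk_iff]
        refine ⟨Units.mk0 μ' hμ0, ?_⟩
        show IsConj g (_ * dGL F n (b - 1 + 1))
        rw [Nat.sub_add_cancel hb1]
        exact hconj
      · refine ⟨Sum.inl ⟨n - b - 1, by omega⟩, ?_⟩
        have h3 : IsConj ((g : GL (Fin n) F) : GL (Fin n) F ⧸ Subgroup.center (GL (Fin n) F))
            ((dGL F n b : GL (Fin n) F) : GL (Fin n) F ⧸ Subgroup.center (GL (Fin n) F)) :=
          (isConj_mk_iff _ _).mpr ⟨_, hconj⟩
        refine h3.trans ?_
        rw [isConj_mk_iff]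
        refine ⟨-1, ?_⟩
        show IsConj (dGL F n b) (_ * dGL F n (n - b - 1 + 1))
        have h4 : n - b - 1 + 1 = n - b := by omega
        rw [h4]
        have h5 := isConj_SC_mul (-1 : Fˣ) (swap_conj (n := n) p h2 b (by omega))
        rw [← mul_assoc, ← map_mul] at h5
        have e : ((-1 : Fˣ) * (-1)) = 1 := by simp
        rw [e, map_one, one_mul] at h5
        exact h5
    · have hev := nonsq_even g a ha hsq
      refine ⟨Sum.inr ⟨(), hev⟩, ?_⟩
      rw [isConj_mk_iff]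
      exact nonsq_conj p h2 g (wOf hev) a (awOf hev) ha (hwOf hev) hsq (hawOf hev)
  rw [← Nat.card_congr (Equiv.ofBijective Ψ ⟨hinj, hsurj⟩), Nat.card_eq_fintype_card,
    Fintype.card_sum, Fintype.card_fin]
  congr 1
  by_cases hev : Even n
  · rw [if_pos hev, Fintype.card_subtype]
    simp [hev]
  · rw [if_neg hev, Fintype.card_subtype]
    simp [hev]

end Cfsg.Agent.S2577
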