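import Cfsg.Statements.S2578
import Cfsg.Agent.Lib.Helper15.RegUnip5

set_option autoImplicit false
open Cfsg

namespace Cfsg.Agent.S2578

open Cfsg.Agent.Lib.Helper15 Matrix

/-- For n ≥ 2 the regular unipotent elements of SL_n(q) (u − 1 nilpotent of rank n − 1) form exactly gcd(n, q − 1) conjugacy classes of SL_n(q). -/
theorem result {F : Type*} [Field F] [Fintype F] {q : ℕ} (hF : Fintype.card F = q) {n : ℕ} (hn : 2 ≤ n) : Nat.card {C : ConjClasses (Matrix.SpecialLinearGroup (Fin n) F) // ∃ u : Matrix.SpecialLinearGroup (Fin n) F, ConjClasses.mk u = C ∧ ((u : Matrix (Fin n) (Fin n) F) - 1) ^ n = 0 ∧ ((u : Matrix (Fin n) (Fin n) F) - 1).rank = n - 1} = Nat.gcd n (q - 1) := by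
  classical
  have hn1 : 1 ≤ n := by omega
  let H : Subgroup Fˣ := (powMonoidHom n : Fˣ →* Fˣ).range
  have hcardQ : Nat.card (Fˣ ⧸ H) = Nat.gcd n (q - 1) := by
    rw [← Subgroup.index_eq_card, IsCyclic.index_powMonoidHom_range, Nat.card_eq_fintype_card, Fintype.card_units, hF,
      Nat.gcd_comm]
  rw [← hcardQ]
  -- the choice of a conjugating element
  have hex : ∀ u : Matrix.SpecialLinearGroup (Fin n) F, ((u : Matrix (Fin n) (Fin n) F) - 1) ^ n = 0 →
      ((u : Matrix (Fin n) (Fin n) F) - 1).rank = n - 1 →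
      ∃ P : GL (Fin n) F, Matrix.SpecialLinearGroup.toGL u = P * stdRegUnip F n * P⁻¹ := by
    intro u h1 h2
    exact exists_conj_stdRegUnip hn1 (Matrix.SpecialLinearGroup.toGL u) h1 h2
  let T := {C : ConjClasses (Matrix.SpecialLinearGroup (Fin n) F) // ∃ u : Matrix.SpecialLinearGroup (Fin n) F, ConjClasses.mk u = C ∧ ((u : Matrix (Fin n) (Fin n) F) - 1) ^ n = 0 ∧ ((u : Matrix (Fin n) (Fin n) F) - 1).rank = n - 1}
  let rep : T → Matrix.SpecialLinearGroup (Fin n) F := fun C => Classical.choose C.2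
  have hrep : ∀ C : T, ConjClasses.mk (rep C) = C.1 ∧ (((rep C) : Matrix (Fin n) (Fin n) F) - 1) ^ n = 0 ∧
      (((rep C) : Matrix (Fin n) (Fin n) F) - 1).rank = n - 1 := fun C => Classical.choose_spec C.2
  let PP : T → GL (Fin n) F := fun C => Classical.choose (hex (rep C) (hrep C).2.1 (hrep C).2.2)
  have hPP : ∀ C : T, Matrix.SpecialLinearGroup.toGL (rep C) = PP C * stdRegUnip F n * (PP C)⁻¹ :=
    fun C => Classical.choose_spec (hex (rep C) (hrep C).2.1 (hrep C).2.2)
  let Θ : T → Fˣ ⧸ H := fun C => QuotientGroup.mk (Matrix.GeneralLinearGroup.det (PP C))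
  apply Nat.card_congr
  apply Equiv.ofBijective Θ
  constructor
  · intro C C' h
    have h1 : (Matrix.GeneralLinearGroup.det (PP C))⁻¹ * Matrix.GeneralLinearGroup.det (PP C') ∈ H :=
      QuotientGroup.eq.mp h
    obtain ⟨a, ha⟩ := h1
    have hdet : Matrix.GeneralLinearGroup.det (PP C') = Matrix.GeneralLinearGroup.det (PP C) * a ^ n := by
      rw [powMonoidHom_apply] at ha
      rw [ha]; group
    have hconj := isConj_of_det_eq (rep C) (rep C') (PP C) (PP C') (hPP C) (hPP C') a hdet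
    apply Subtype.ext
    rw [← (hrep C).1, ← (hrep C').1]
    exact ConjClasses.mk_eq_mk_iff_isConj.mpr hconj
  · intro x
    obtain ⟨d, rfl⟩ := QuotientGroup.mk_surjective x
    obtain ⟨ud, Pd, hnil, hrank, hud, hdet⟩ := exists_regUnip_with_det (F := F) hn1 d
    let C : T := ⟨ConjClasses.mk ud, ud, rfl, hnil, hrank⟩
    refine ⟨C, ?_⟩
    have hconj : IsConj (rep C) ud := ConjClasses.mk_eq_mk_iff_isConj.mp (hrep C).1
    obtain ⟨h, hh⟩ := isConj_iff.mp hconj
    have h2 : Matrix.SpecialLinearGroup.toGL ud =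
        (Matrix.SpecialLinearGroup.toGL h * PP C) * stdRegUnip F n * (Matrix.SpecialLinearGroup.toGL h * PP C)⁻¹ := by
      rw [← hh, map_mul, map_mul, map_inv, hPP C]
      group
    rw [hud] at h2
    obtain ⟨a, ha⟩ := det_conj_unique hn1 _ _ h2.symm
    rw [map_mul, Matrix.SpecialLinearGroup.coeToGL_det, one_mul] at ha
    show (QuotientGroup.mk (Matrix.GeneralLinearGroup.det (PP C)) : Fˣ ⧸ H) = QuotientGroup.mk d
    rw [QuotientGroup.eq]
    refine ⟨a, ?_⟩
    rw [powMonoidHom_apply, ← hdet, ha]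
    group

end Cfsg.Agent.S2578
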