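import Cfsg.Statements.S2582
import Cfsg.Agent.Lib.Helper14.JType4
import Cfsg.Agent.Lib.Helper14.JType5

set_option autoImplicit false
open Cfsg

namespace Cfsg.Agent.S2582

/-- Which unipotent Jordan types occur in the finite symplectic group: over a finite field, a unipotent matrix with Jordan block sizes d_1, …, d_t (sum 2m, all at least 1) is similar to an element of Sp_2m(F) if and only if every odd block size occurs an even number of times. -/
theorem result {F : Type*} [Field F] [Fintype F] {m t : ℕ} (d : Fin t → ℕ) (hd : ∀ k, 1 ≤ d k) (hsum : ∑ k, d k = 2 * m) : (∃ e : ((k : Fin t) × Fin (d k)) ≃ (Fin m ⊕ Fin m), ∃ A : Matrix.symplecticGroup (Fin m) F, IsConj (Matrix.reindex e e (Cfsg.jordanTypeMatrix d F)) (A : Matrix (Fin m ⊕ Fin m) (Fin m ⊕ Fin m) F)) ↔ ∀ j : ℕ, Odd j → Even (Finset.univ.filter (fun k : Fin t => d k = j)).card := by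
  classical
  constructor
  · rintro ⟨e, A, hconj⟩ j hj
    have hA := A.2
    have hpres : (A : Matrix (Fin m ⊕ Fin m) (Fin m ⊕ Fin m) F).transpose * Matrix.J (Fin m) F *
        (A : Matrix (Fin m ⊕ Fin m) (Fin m ⊕ Fin m) F) = Matrix.J (Fin m) F :=
      SymplecticGroup.mem_iff'.1 hA
    have hdetA : IsUnit (A : Matrix (Fin m ⊕ Fin m) (Fin m ⊕ Fin m) F).det :=
      SymplecticGroup.symplectic_det hA
    have hdetJ : IsUnit (Matrix.J (Fin m) F).det := Matrix.isUnit_det_J (Fin m) F
    have halt : ∀ v : Fin m ⊕ Fin m → F, v ⬝ᵥ (Matrix.J (Fin m) F).mulVec v = 0 :=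
      fun v => Cfsg.Agent.Lib.Helper6.sympForm_self v
    have hrank := Cfsg.Agent.Lib.Helper14.JType.rank_of_isConj_reindex d e
      (A : Matrix (Fin m ⊕ Fin m) (Fin m ⊕ Fin m) F) hconj
    obtain ⟨l, rfl⟩ := hj
    have h1 := Cfsg.Agent.Lib.Helper14.JType.even_rank_sp _ _ hdetA hdetJ halt hpres l
    have h2 := Cfsg.Agent.Lib.Helper14.JType.even_rank_sp _ _ hdetA hdetJ halt hpres (l + 1)
    rw [hrank] at h1 h2
    apply Cfsg.Agent.Lib.Helper14.JType.even_card_of_even_ranks d (2 * l + 1) (by omega)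
    · have : 2 * l + 1 - 1 = 2 * l := by omega
      rw [this]
      exact h1
    · have : 2 * l + 1 + 1 = 2 * (l + 1) := by ring
      rw [this]
      exact h2
  · intro hev
    exact Cfsg.Agent.Lib.Helper14.JType.sp_of_realised d hsum
      ((Cfsg.Agent.Lib.Helper14.JType.realised_sp d hev).congr (fun _ => rfl) hsum)

end Cfsg.Agent.S2582
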