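import Cfsg.Statements.S2583
import Cfsg.Agent.Lib.Helper14.JType4
import Cfsg.Agent.Lib.Helper14.JType5

set_option autoImplicit false
open Cfsg

namespace Cfsg.Agent.S2583

/-- Which unipotent Jordan types occur in a finite orthogonal group in odd characteristic: over a finite field of odd order, a unipotent matrix with Jordan block sizes d_1, …, d_t (sum n, all at least 1) is similar to an isometry of some quadratic form on F^n with non-degenerate polar form if and only if every even block size occurs an even number of times. -/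
theorem result {F : Type*} [Field F] [Fintype F] (h2 : (2 : F) ≠ 0) {n t : ℕ} (d : Fin t → ℕ) (hd : ∀ k, 1 ≤ d k) (hsum : ∑ k, d k = n) : (∃ Q : QuadraticForm F (Fin n → F), (QuadraticMap.polarBilin Q).Nondegenerate ∧ ∃ e : ((k : Fin t) × Fin (d k)) ≃ Fin n, ∃ A : ↥(Cfsg.isometryGroup F ⇑Q), IsConj (Matrix.reindex e e (Cfsg.jordanTypeMatrix d F)) ((A : Matrix.GeneralLinearGroup (Fin n) F) : Matrix (Fin n) (Fin n) F)) ↔ ∀ j : ℕ, Even j → 0 < j → Even (Finset.univ.filter (fun k : Fin t => d k = j)).card := by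
  classical
  constructor
  · rintro ⟨Q, hQ, e, A, hconj⟩ j hj hjpos
    have hpres := Cfsg.Agent.Lib.Helper14.JType.gram_pres Q (A : Matrix.GeneralLinearGroup (Fin n) F) A.2
    have hdetA : IsUnit ((A : Matrix.GeneralLinearGroup (Fin n) F) : Matrix (Fin n) (Fin n) F).det :=
      (Matrix.isUnit_iff_isUnit_det _).1 (Units.isUnit _)
    have hdetG := Cfsg.Agent.Lib.Helper14.JType.gram_isUnit_det Q hQ
    have hsym := Cfsg.Agent.Lib.Helper14.JType.gram_transpose Q
    have hnil := Cfsg.Agent.Lib.Helper14.JType.isNilpotent_of_isConj_reindex d e _ hconj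
    have hrank := Cfsg.Agent.Lib.Helper14.JType.rank_of_isConj_reindex d e _ hconj
    obtain ⟨r, hr⟩ := hj
    obtain ⟨l, rfl⟩ : ∃ l, r = l + 1 := ⟨r - 1, by omega⟩
    have h1 := Cfsg.Agent.Lib.Helper14.JType.even_rank_orth h2 _ _ hdetA hdetG hsym hpres hnil l
    have h2' := Cfsg.Agent.Lib.Helper14.JType.even_rank_orth h2 _ _ hdetA hdetG hsym hpres hnil (l + 1)
    rw [hrank] at h1 h2'
    apply Cfsg.Agent.Lib.Helper14.JType.even_card_of_even_ranks d j (by omega)
    · have : j - 1 = 2 * l + 1 := by omega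
      rw [this]
      exact h1
    · have : j + 1 = 2 * (l + 1) + 1 := by omega
      rw [this]
      exact h2'
  · intro hev
    exact Cfsg.Agent.Lib.Helper14.JType.orth_of_realised d h2 hsum
      ((Cfsg.Agent.Lib.Helper14.JType.realised_orth d h2 hd hev).congr (fun _ => rfl) hsum)

end Cfsg.Agent.S2583
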