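import Cfsg.Statements.S2584
import Cfsg.Agent.Lib.Helper14.JType4
import Cfsg.Agent.Lib.Helper14.JType5
import Cfsg.Agent.S2582
import Cfsg.Agent.S2585

set_option autoImplicit false
open Cfsg

namespace Cfsg.Agent.S2584

/-- Which unipotent Jordan types occur in a finite orthogonal group in characteristic two: over a finite field of characteristic 2 and in even dimension 2m, a unipotent matrix with Jordan block sizes d_1, …, d_t (sum 2m, all at least 1) is similar to an isometry of some quadratic form on F^(2m) with non-degenerate polar form if and only if every odd block size occurs an even number of times (the same condition as for the symplectic group, which contains these orthogonal groups). -/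
theorem result {F : Type*} [Field F] [Fintype F] [CharP F 2] {m t : ℕ} (d : Fin t → ℕ) (hd : ∀ k, 1 ≤ d k) (hsum : ∑ k, d k = 2 * m) : (∃ Q : QuadraticForm F (Fin (2 * m) → F), (QuadraticMap.polarBilin Q).Nondegenerate ∧ ∃ e : ((k : Fin t) × Fin (d k)) ≃ Fin (2 * m), ∃ A : ↥(Cfsg.isometryGroup F ⇑Q), IsConj (Matrix.reindex e e (Cfsg.jordanTypeMatrix d F)) ((A : Matrix.GeneralLinearGroup (Fin (2 * m)) F) : Matrix (Fin (2 * m)) (Fin (2 * m)) F)) ↔ ∀ j : ℕ, Odd j → Even (Finset.univ.filter (fun k : Fin t => d k = j)).card := by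
  classical
  constructor
  · rintro ⟨Q, hQ, e, A, hconj⟩ j hj
    have hpres := Cfsg.Agent.Lib.Helper14.JType.gram_pres Q
      (A : Matrix.GeneralLinearGroup (Fin (2 * m)) F) A.2
    have hdetA : IsUnit ((A : Matrix.GeneralLinearGroup (Fin (2 * m)) F) :
        Matrix (Fin (2 * m)) (Fin (2 * m)) F).det :=
      (Matrix.isUnit_iff_isUnit_det _).1 (Units.isUnit _)
    have hdetG := Cfsg.Agent.Lib.Helper14.JType.gram_isUnit_det Q hQ
    have halt := Cfsg.Agent.Lib.Helper14.JType.gram_alt Q
    have hrank := Cfsg.Agent.Lib.Helper14.JType.rank_of_isConj_reindex d e _ hconj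
    obtain ⟨l, rfl⟩ := hj
    have h1 := Cfsg.Agent.Lib.Helper14.JType.even_rank_sp _ _ hdetA hdetG halt hpres l
    have h2 := Cfsg.Agent.Lib.Helper14.JType.even_rank_sp _ _ hdetA hdetG halt hpres (l + 1)
    rw [hrank] at h1 h2
    apply Cfsg.Agent.Lib.Helper14.JType.even_card_of_even_ranks d (2 * l + 1) (by omega)
    · have : 2 * l + 1 - 1 = 2 * l := by omega
      rw [this]
      exact h1
    · have : 2 * l + 1 + 1 = 2 * (l + 1) := by ring
      rw [this]
      exact h2
  · intro hev
    obtain ⟨e₀, A₀, hconj⟩ := (Cfsg.Agent.S2582.result (F := F) d hd hsum).2 hev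
    obtain ⟨Q₀, hpol, hinv⟩ := Cfsg.Agent.S2585.result A₀
    let σ : Fin m ⊕ Fin m ≃ Fin (2 * m) := finSumFinEquiv.trans (finCongr (two_mul m).symm)
    let Θ : (Fin (2 * m) → F) ≃ₗ[F] (Fin m ⊕ Fin m → F) := LinearEquiv.funCongrLeft F F σ
    let Q : QuadraticForm F (Fin (2 * m) → F) := Q₀.comp Θ.toLinearMap
    have hQ : ∀ x, Q x = Q₀ (Θ x) := fun x => rfl
    have hpolQ : ∀ x y, QuadraticMap.polarBilin Q x y = Cfsg.sympForm m F (Θ x) (Θ y) := by
      intro x y
      rw [QuadraticMap.polarBilin_apply_apply, ← hpol]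
      unfold QuadraticMap.polar
      rw [hQ, hQ, hQ, map_add]
    let R : Matrix (Fin (2 * m)) (Fin (2 * m)) F :=
      Matrix.reindex σ σ (A₀ : Matrix (Fin m ⊕ Fin m) (Fin m ⊕ Fin m) F)
    have hRu : IsUnit R := by
      have h0 : IsUnit (A₀ : Matrix (Fin m ⊕ Fin m) (Fin m ⊕ Fin m) F) :=
        (Matrix.isUnit_iff_isUnit_det _).2 (SymplecticGroup.symplectic_det A₀.2)
      have h1 := h0.map (Matrix.reindexAlgEquiv F F σ)
      rwa [Matrix.coe_reindexAlgEquiv] at h1
    have hΘR : ∀ u, Θ (R.mulVec u) =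
        (A₀ : Matrix (Fin m ⊕ Fin m) (Fin m ⊕ Fin m) F).mulVec (Θ u) := by
      intro u
      have := Cfsg.Agent.Lib.Helper14.JType.toLin'_reindex σ
        (A₀ : Matrix (Fin m ⊕ Fin m) (Fin m ⊕ Fin m) F) u
      rw [Matrix.toLin'_apply, Matrix.toLin'_apply] at this
      exact this
    have hg : (hRu.unit : Matrix.GeneralLinearGroup (Fin (2 * m)) F) ∈
        Cfsg.isometryGroup F ⇑Q := by
      intro u _
      show Q (R.mulVec u) = Q u
      rw [hQ, hQ, hΘR, hinv]
    refine ⟨Q, ⟨?_, ?_⟩, e₀.trans σ, ⟨hRu.unit, hg⟩, ?_⟩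
    · intro x hx
      have h1 : Θ x = 0 := by
        apply Cfsg.Agent.Lib.Helper15.stdSymp_nondeg
        intro z
        have h3 := hx (Θ.symm z)
        rw [hpolQ, LinearEquiv.apply_symm_apply] at h3
        exact h3
      exact Θ.map_eq_zero_iff.1 h1
    · intro y hy
      have h1 : Θ y = 0 := by
        apply Cfsg.Agent.Lib.Helper15.stdSymp_nondeg
        intro z
        have h3 := hy (Θ.symm z)
        rw [hpolQ, LinearEquiv.apply_symm_apply] at h3
        rw [Cfsg.Agent.Lib.Helper15.stdSymp_apply, ← hpol, QuadraticMap.polar_comm, hpol]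
        exact h3
      exact Θ.map_eq_zero_iff.1 h1
    · have h1 := MonoidHom.map_isConj
        (MonoidHomClass.toMonoidHom (Matrix.reindexAlgEquiv F F σ)) hconj
      have h2 : Matrix.reindex (e₀.trans σ) (e₀.trans σ) (Cfsg.jordanTypeMatrix d F) =
          Matrix.reindex σ σ (Matrix.reindex e₀ e₀ (Cfsg.jordanTypeMatrix d F)) := by
        ext i j
        simp [Matrix.reindex_apply, Matrix.submatrix_apply]
      rw [h2]
      exact h1

end Cfsg.Agent.S2584
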