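import Cfsg.Statements.S2587
import Cfsg.Agent.Lib.Helper14.GUConj4

set_option autoImplicit false
open Cfsg

namespace Cfsg.Agent.S2587

/-- Conjugacy in the finite general unitary group is controlled by the general linear group: two elements of GU_n(q) (the invertible matrices over the field with q² elements preserving the Hermitian form Σ u_i v_i^q) are conjugate in GU_n(q) if and only if they are conjugate in GL_n(q²). -/
theorem result {K : Type*} [Field K] [Fintype K] {q n : ℕ} (hK : Fintype.card K = q ^ 2) (A B : ↥(Cfsg.GU n K q)) : IsConj A B ↔ IsConj (A : GL (Fin n) K) (B : GL (Fin n) K) := by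
  classical
  constructor
  · intro h
    obtain ⟨c, hc⟩ := isConj_iff.mp h
    rw [isConj_iff]
    refine ⟨(c : GL (Fin n) K), ?_⟩
    rw [← hc]
    rfl
  · intro h
    obtain ⟨g, hg⟩ := isConj_iff.mp h
    have hgm : (g : Matrix (Fin n) (Fin n) K) * ((A : GL (Fin n) K) : Matrix (Fin n) (Fin n) K) =
        ((B : GL (Fin n) K) : Matrix (Fin n) (Fin n) K) * (g : Matrix (Fin n) (Fin n) K) := by
      have h1 : g * (A : GL (Fin n) K) = (B : GL (Fin n) K) * g := by
        rw [← hg, inv_mul_cancel_right]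
      have h2 := congrArg (fun x : GL (Fin n) K => (x : Matrix (Fin n) (Fin n) K)) h1
      simpa using h2
    have hA : Cfsg.Agent.Lib.Helper14.GUConj.sharp hK
        ((A : GL (Fin n) K) : Matrix (Fin n) (Fin n) K) *
        ((A : GL (Fin n) K) : Matrix (Fin n) (Fin n) K) = 1 :=
      (Cfsg.Agent.Lib.Helper14.GUConj.pres_iff hK _).mp (fun u v => A.2 u v)
    have hB : Cfsg.Agent.Lib.Helper14.GUConj.sharp hK
        ((B : GL (Fin n) K) : Matrix (Fin n) (Fin n) K) *
        ((B : GL (Fin n) K) : Matrix (Fin n) (Fin n) K) = 1 :=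
      (Cfsg.Agent.Lib.Helper14.GUConj.pres_iff hK _).mp (fun u v => B.2 u v)
    have hgdet : IsUnit (g : Matrix (Fin n) (Fin n) K).det :=
      (Matrix.isUnit_iff_isUnit_det _).mp g.isUnit
    obtain ⟨U, hUdet, hUU, hUc⟩ := Cfsg.Agent.Lib.Helper14.GUConj.gu_conj_core hK _ _ _ hA hB
      hgdet hgm
    let u : GL (Fin n) K := Matrix.GeneralLinearGroup.mk'' U hUdet
    have hu : (u : Matrix (Fin n) (Fin n) K) = U := rfl
    have humem : u ∈ Cfsg.GU n K q := by
      intro x y
      exact (Cfsg.Agent.Lib.Helper14.GUConj.pres_iff hK U).mpr hUU x y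
    rw [isConj_iff]
    refine ⟨⟨u, humem⟩, ?_⟩
    rw [mul_inv_eq_iff_eq_mul]
    apply Subtype.ext
    apply Units.ext
    exact hUc

end Cfsg.Agent.S2587
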