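import Cfsg.Statements.S2588
import Cfsg.Agent.Lib.Helper14.GUConj6

set_option autoImplicit false
open Cfsg

namespace Cfsg.Agent.S2588

/-- An invertible matrix A over the field with q² elements is conjugate in GL_n(q²) to an element of the general unitary group GU_n(q) (isometries of the Hermitian form Σ u_i v_i^q) if and only if A is similar to the inverse transpose of its entrywise q-th power (A ~ A^(−qT), the image of A under the map sending a matrix to the inverse transpose of its entrywise q-th power — inverse transpose composed with the field automorphism — whose fixed points form GU_n(q)). -/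
theorem result {K : Type*} [Field K] [Fintype K] {q n : ℕ} (hK : Fintype.card K = q ^ 2) (A : GL (Fin n) K) : (∃ B : ↥(Cfsg.GU n K q), IsConj A (B : GL (Fin n) K)) ↔ IsConj (A : Matrix (Fin n) (Fin n) K) (((A : Matrix (Fin n) (Fin n) K).map (fun x : K => x ^ q)).transpose)⁻¹ := by
  classical
  have hsh : (((A : Matrix (Fin n) (Fin n) K).map (fun x : K => x ^ q)).transpose) =
      Cfsg.Agent.Lib.Helper14.GUConj.sharp hK (A : Matrix (Fin n) (Fin n) K) := rfl
  rw [hsh]
  have hAd : IsUnit (A : Matrix (Fin n) (Fin n) K).det :=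
    (Matrix.isUnit_iff_isUnit_det _).mp A.isUnit
  have hsAd : IsUnit (Cfsg.Agent.Lib.Helper14.GUConj.sharp hK
      (A : Matrix (Fin n) (Fin n) K)).det := by
    rw [Cfsg.Agent.Lib.Helper14.GUConj.det_sharp]
    exact hAd.map _
  constructor
  · rintro ⟨B, hB⟩
    obtain ⟨x, hx⟩ := isConj_iff.mp hB
    have hxm : (x : Matrix (Fin n) (Fin n) K) * (A : Matrix (Fin n) (Fin n) K) =
        ((B : GL (Fin n) K) : Matrix (Fin n) (Fin n) K) * (x : Matrix (Fin n) (Fin n) K) := by
      have h1 : x * A = (B : GL (Fin n) K) * x := by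
        rw [← hx, inv_mul_cancel_right]
      have h2 := congrArg (fun y : GL (Fin n) K => (y : Matrix (Fin n) (Fin n) K)) h1
      simpa using h2
    have hBB : Cfsg.Agent.Lib.Helper14.GUConj.sharp hK
        ((B : GL (Fin n) K) : Matrix (Fin n) (Fin n) K) *
        ((B : GL (Fin n) K) : Matrix (Fin n) (Fin n) K) = 1 :=
      (Cfsg.Agent.Lib.Helper14.GUConj.pres_iff hK _).mp (fun u v => B.2 u v)
    have hxd : IsUnit (x : Matrix (Fin n) (Fin n) K).det :=
      (Matrix.isUnit_iff_isUnit_det _).mp x.isUnit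
    set X := (x : Matrix (Fin n) (Fin n) K) with hX
    set MA := (A : Matrix (Fin n) (Fin n) K) with hMA
    set MB := ((B : GL (Fin n) K) : Matrix (Fin n) (Fin n) K) with hMB
    set c := Cfsg.Agent.Lib.Helper14.GUConj.sharp hK X * X with hc
    have hcd : IsUnit c.det := by
      rw [hc, Matrix.det_mul, Cfsg.Agent.Lib.Helper14.GUConj.det_sharp]
      exact (hxd.map _).mul hxd
    have hkey : Cfsg.Agent.Lib.Helper14.GUConj.sharp hK MA * c * MA = c := by
      calc Cfsg.Agent.Lib.Helper14.GUConj.sharp hK MA * c * MA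
          = Cfsg.Agent.Lib.Helper14.GUConj.sharp hK (X * MA) * (X * MA) := by
            rw [Cfsg.Agent.Lib.Helper14.GUConj.sharp_mul, hc]
            simp only [Matrix.mul_assoc]
        _ = Cfsg.Agent.Lib.Helper14.GUConj.sharp hK X *
            (Cfsg.Agent.Lib.Helper14.GUConj.sharp hK MB * MB) * X := by
            rw [hxm, Cfsg.Agent.Lib.Helper14.GUConj.sharp_mul]
            simp only [Matrix.mul_assoc]
        _ = c := by rw [hBB, Matrix.mul_one]
    refine ⟨Matrix.nonsingInvUnit c hcd, ?_⟩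
    show c * MA = (Cfsg.Agent.Lib.Helper14.GUConj.sharp hK MA)⁻¹ * c
    calc c * MA = (Cfsg.Agent.Lib.Helper14.GUConj.sharp hK MA)⁻¹ *
          (Cfsg.Agent.Lib.Helper14.GUConj.sharp hK MA * (c * MA)) :=
          (Matrix.nonsing_inv_mul_cancel_left _ _ hsAd).symm
      _ = (Cfsg.Agent.Lib.Helper14.GUConj.sharp hK MA)⁻¹ * c := by
          have h9 : Cfsg.Agent.Lib.Helper14.GUConj.sharp hK MA * (c * MA) = c := by
            rw [← Matrix.mul_assoc, hkey]
          rw [h9]
  · rintro ⟨c, hc⟩
    have hc' : (c : Matrix (Fin n) (Fin n) K) * (A : Matrix (Fin n) (Fin n) K) =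
        (Cfsg.Agent.Lib.Helper14.GUConj.sharp hK (A : Matrix (Fin n) (Fin n) K))⁻¹ *
          (c : Matrix (Fin n) (Fin n) K) := hc
    have hcd : IsUnit (c : Matrix (Fin n) (Fin n) K).det :=
      (Matrix.isUnit_iff_isUnit_det _).mp c.isUnit
    have hkey : Cfsg.Agent.Lib.Helper14.GUConj.sharp hK (A : Matrix (Fin n) (Fin n) K) *
        (c : Matrix (Fin n) (Fin n) K) * (A : Matrix (Fin n) (Fin n) K) =
        (c : Matrix (Fin n) (Fin n) K) := by
      rw [Matrix.mul_assoc, hc', Matrix.mul_nonsing_inv_cancel_left _ _ hsAd]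
    obtain ⟨W, hWd, hW⟩ := Cfsg.Agent.Lib.Helper14.GUConj.exists_unitary_conj hK _ _ hcd hkey
    let w : GL (Fin n) K := Matrix.nonsingInvUnit W hWd
    have hwv : ((w * A * w⁻¹ : GL (Fin n) K) : Matrix (Fin n) (Fin n) K) =
        W * (A : Matrix (Fin n) (Fin n) K) * W⁻¹ := by
      rw [Units.val_mul, Units.val_mul, Matrix.coe_units_inv]
      rfl
    have hmem : w * A * w⁻¹ ∈ Cfsg.GU n K q := by
      intro u v
      have := (Cfsg.Agent.Lib.Helper14.GUConj.pres_iff hK
        (W * (A : Matrix (Fin n) (Fin n) K) * W⁻¹)).mpr hW u v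
      rw [← hwv] at this
      exact this
    refine ⟨⟨w * A * w⁻¹, hmem⟩, ?_⟩
    rw [isConj_iff]
    exact ⟨w, rfl⟩

end Cfsg.Agent.S2588
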