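import Cfsg.Statements.S2589
import Cfsg.Agent.Lib.Helper14.SpSemi6

set_option autoImplicit false
open Cfsg

namespace Cfsg.Agent.S2589

/-- Two semisimple elements of the finite symplectic group Sp_2m(F) (elements of order prime to the characteristic) are conjugate in Sp_2m(F) if and only if they are conjugate in GL_2m(F). -/
theorem result {F : Type*} [Field F] [Fintype F] {p : ℕ} [Fact p.Prime] [CharP F p] {m : ℕ} (A B : Matrix.symplecticGroup (Fin m) F) (hA : (orderOf A).Coprime p) : IsConj A B ↔ IsConj (A : Matrix (Fin m ⊕ Fin m) (Fin m ⊕ Fin m) F) (B : Matrix (Fin m ⊕ Fin m) (Fin m ⊕ Fin m) F) := by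
  constructor
  · intro hAB
    exact (Matrix.symplecticGroup (Fin m) F).subtype.map_isConj hAB
  · rintro ⟨c, hc⟩
    have hcAB : (c : Matrix (Fin m ⊕ Fin m) (Fin m ⊕ Fin m) F) *
        (A : Matrix (Fin m ⊕ Fin m) (Fin m ⊕ Fin m) F)
        = (B : Matrix (Fin m ⊕ Fin m) (Fin m ⊕ Fin m) F) *
          (c : Matrix (Fin m ⊕ Fin m) (Fin m ⊕ Fin m) F) := hc
    have hB : (B : Matrix (Fin m ⊕ Fin m) (Fin m ⊕ Fin m) F)
        = (c : Matrix (Fin m ⊕ Fin m) (Fin m ⊕ Fin m) F) *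
          (A : Matrix (Fin m ⊕ Fin m) (Fin m ⊕ Fin m) F) *
          ((c⁻¹ : (Matrix (Fin m ⊕ Fin m) (Fin m ⊕ Fin m) F)ˣ) :
            Matrix (Fin m ⊕ Fin m) (Fin m ⊕ Fin m) F) := by
      rw [hcAB, mul_assoc, Units.mul_inv, mul_one]
    have hchar : (A : Matrix (Fin m ⊕ Fin m) (Fin m ⊕ Fin m) F).charpoly
        = (B : Matrix (Fin m ⊕ Fin m) (Fin m ⊕ Fin m) F).charpoly := by
      rw [hB, Matrix.coe_units_inv, Matrix.charpoly_units_conj]
    have hpow : ∀ k : ℕ, (c : Matrix (Fin m ⊕ Fin m) (Fin m ⊕ Fin m) F) *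
        (A : Matrix (Fin m ⊕ Fin m) (Fin m ⊕ Fin m) F) ^ k
        = (B : Matrix (Fin m ⊕ Fin m) (Fin m ⊕ Fin m) F) ^ k *
          (c : Matrix (Fin m ⊕ Fin m) (Fin m ⊕ Fin m) F) :=
      fun k => (SemiconjBy.pow_right hc k)
    have hBk : B ^ orderOf A = 1 := by
      apply Subtype.ext
      have h1 := hpow (orderOf A)
      rw [← SubmonoidClass.coe_pow, pow_orderOf_eq_one, Submonoid.coe_one, mul_one] at h1
      rw [SubmonoidClass.coe_pow, Submonoid.coe_one]
      have h2 : (B : Matrix (Fin m ⊕ Fin m) (Fin m ⊕ Fin m) F) ^ orderOf A *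
          (c : Matrix (Fin m ⊕ Fin m) (Fin m ⊕ Fin m) F) =
          1 * (c : Matrix (Fin m ⊕ Fin m) (Fin m ⊕ Fin m) F) := by
        rw [← h1, one_mul]
      exact c.isUnit.mul_left_injective h2
    have hBo : (orderOf B).Coprime p :=
      Nat.Coprime.coprime_dvd_left (orderOf_dvd_of_pow_eq_one hBk) hA
    exact Cfsg.Agent.Lib.Helper14.SpSemi.sp_isConj_of_charpoly p A B hA hBo hchar

end Cfsg.Agent.S2589
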