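import Cfsg.Statements.S2590
import Cfsg.Agent.Lib.Helper14.OrthSemi1

set_option autoImplicit false
open Cfsg

namespace Cfsg.Agent.S2590

/-- Two semisimple elements of odd order of a finite orthogonal group (isometry group of a quadratic form on F^n with non-degenerate polar form, F finite of characteristic p; the elements have odd order prime to p) are conjugate in the orthogonal group if and only if they are conjugate in GL_n(F). -/
theorem result {F : Type*} [Field F] [Fintype F] {p : ℕ} [Fact p.Prime] [CharP F p] {n : ℕ} (Q : QuadraticForm F (Fin n → F)) (hQ : (QuadraticMap.polarBilin Q).Nondegenerate) (A B : ↥(Cfsg.isometryGroup F ⇑Q)) (hodd : Odd (orderOf A)) (hA : (orderOf A).Coprime p) : IsConj A B ↔ IsConj ((A : Matrix.GeneralLinearGroup (Fin n) F) : Matrix (Fin n) (Fin n) F) ((B : Matrix.GeneralLinearGroup (Fin n) F) : Matrix (Fin n) (Fin n) F) := by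
  classical
  constructor
  · intro h
    exact MonoidHom.map_isConj ((Units.coeHom _).comp (Subgroup.subtype _)) h
  · rintro ⟨c, hc⟩
    have hp : p.Prime := Fact.out
    set m := orderOf A with hm
    set a : Matrix.GeneralLinearGroup (Fin n) F := (A : Matrix.GeneralLinearGroup (Fin n) F) with ha
    set b : Matrix.GeneralLinearGroup (Fin n) F := (B : Matrix.GeneralLinearGroup (Fin n) F) with hb
    have hc' : (c : Matrix (Fin n) (Fin n) F) * (a : Matrix (Fin n) (Fin n) F) =
        (b : Matrix (Fin n) (Fin n) F) * (c : Matrix (Fin n) (Fin n) F) := hc.eq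
    have ham : (a : Matrix (Fin n) (Fin n) F) ^ m = 1 := by
      have h1 : A ^ m = 1 := pow_orderOf_eq_one A
      have h2 := congrArg (fun z : ↥(Cfsg.isometryGroup F ⇑Q) =>
        ((z : Matrix.GeneralLinearGroup (Fin n) F) : Matrix (Fin n) (Fin n) F)) h1
      simpa using h2
    have hbm : (b : Matrix (Fin n) (Fin n) F) ^ m = 1 := by
      have h1 : SemiconjBy (c : Matrix (Fin n) (Fin n) F) ((a : Matrix (Fin n) (Fin n) F) ^ m)
          ((b : Matrix (Fin n) (Fin n) F) ^ m) := SemiconjBy.pow_right hc m
      have h2 := h1.eq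
      rw [ham, mul_one] at h2
      have h3 : (b : Matrix (Fin n) (Fin n) F) ^ m * (c : Matrix (Fin n) (Fin n) F) *
          ((c⁻¹ : (Matrix (Fin n) (Fin n) F)ˣ) : Matrix (Fin n) (Fin n) F) = 1 := by
        rw [← h2, Units.mul_inv]
      rwa [mul_assoc, Units.mul_inv, mul_one] at h3
    have hmF : (m : F) ≠ 0 := by
      intro h0
      have := (CharP.cast_eq_zero_iff F p m).1 h0
      exact (Nat.Prime.coprime_iff_not_dvd hp).1 hA.symm this
    have hinvmul : ∀ g : Matrix.GeneralLinearGroup (Fin n) F,
        Matrix.toLin' (g : Matrix (Fin n) (Fin n) F) *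
          Matrix.toLin' ((g⁻¹ : Matrix.GeneralLinearGroup (Fin n) F) : Matrix (Fin n) (Fin n) F) = 1 := by
      intro g
      rw [Module.End.mul_eq_comp, ← Matrix.toLin'_mul, ← Units.val_mul, mul_inv_cancel, Units.val_one,
        Matrix.toLin'_one]
      rfl
    have hmulinv : ∀ g : Matrix.GeneralLinearGroup (Fin n) F,
        Matrix.toLin' ((g⁻¹ : Matrix.GeneralLinearGroup (Fin n) F) : Matrix (Fin n) (Fin n) F) *
          Matrix.toLin' (g : Matrix (Fin n) (Fin n) F) = 1 := by
      intro g
      rw [Module.End.mul_eq_comp, ← Matrix.toLin'_mul, ← Units.val_mul, inv_mul_cancel, Units.val_one,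
        Matrix.toLin'_one]
      rfl
    have I : Cfsg.Agent.Lib.Helper14.OrthSemi.Iso Q (Matrix.toLin' (a : Matrix (Fin n) (Fin n) F))
        (Matrix.toLin' ((a⁻¹ : Matrix.GeneralLinearGroup (Fin n) F) : Matrix (Fin n) (Fin n) F)) m :=
      { gh := hinvmul a
        hg := hmulinv a
        pres := fun v => by
          rw [Matrix.toLin'_apply]
          exact A.2 v v
        odd := hodd
        hm := hmF
        gm := by
          rw [← Matrix.toLin'_pow, ham, Matrix.toLin'_one]
          rfl }
    have I' : Cfsg.Agent.Lib.Helper14.OrthSemi.Iso Q (Matrix.toLin' (b : Matrix (Fin n) (Fin n) F))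
        (Matrix.toLin' ((b⁻¹ : Matrix.GeneralLinearGroup (Fin n) F) : Matrix (Fin n) (Fin n) F)) m :=
      { gh := hinvmul b
        hg := hmulinv b
        pres := fun v => by
          rw [Matrix.toLin'_apply]
          exact B.2 v v
        odd := hodd
        hm := hmF
        gm := by
          rw [← Matrix.toLin'_pow, hbm, Matrix.toLin'_one]
          rfl }
    let C : (Fin n → F) ≃ₗ[F] (Fin n → F) :=
      LinearEquiv.ofLinearMap (Matrix.toLin' (c : Matrix (Fin n) (Fin n) F))
        (Matrix.toLin' ((c⁻¹ : (Matrix (Fin n) (Fin n) F)ˣ) : Matrix (Fin n) (Fin n) F))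
        (by rw [← Matrix.toLin'_mul, Units.mul_inv, Matrix.toLin'_one])
        (by rw [← Matrix.toLin'_mul, Units.inv_mul, Matrix.toLin'_one])
    have hC : ∀ v, C (Matrix.toLin' (a : Matrix (Fin n) (Fin n) F) v) =
        Matrix.toLin' (b : Matrix (Fin n) (Fin n) F) (C v) := by
      intro v
      show Matrix.toLin' (c : Matrix (Fin n) (Fin n) F) (Matrix.toLin' (a : Matrix (Fin n) (Fin n) F) v) =
        Matrix.toLin' (b : Matrix (Fin n) (Fin n) F) (Matrix.toLin' (c : Matrix (Fin n) (Fin n) F) v)
      rw [← LinearMap.comp_apply, ← Matrix.toLin'_mul, hc', Matrix.toLin'_mul, LinearMap.comp_apply]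
    obtain ⟨g, hgQ, hgx⟩ := Cfsg.Agent.Lib.Helper14.OrthSemi.conj_of_linear_conj hQ I I' C hC
    have hG1 : LinearMap.toMatrix' g.toLinearMap * LinearMap.toMatrix' g.symm.toLinearMap = 1 := by
      rw [← LinearMap.toMatrix'_comp]
      have : g.toLinearMap ∘ₗ g.symm.toLinearMap = LinearMap.id := by
        apply LinearMap.ext
        intro x
        simp
      rw [this, LinearMap.toMatrix'_id]
    have hG2 : LinearMap.toMatrix' g.symm.toLinearMap * LinearMap.toMatrix' g.toLinearMap = 1 := by
      rw [← LinearMap.toMatrix'_comp]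
      have : g.symm.toLinearMap ∘ₗ g.toLinearMap = LinearMap.id := by
        apply LinearMap.ext
        intro x
        simp
      rw [this, LinearMap.toMatrix'_id]
    let Gu : Matrix.GeneralLinearGroup (Fin n) F :=
      ⟨LinearMap.toMatrix' g.toLinearMap, LinearMap.toMatrix' g.symm.toLinearMap, hG1, hG2⟩
    have hGmem : Gu ∈ Cfsg.isometryGroup F ⇑Q := by
      intro u _
      show Q ((LinearMap.toMatrix' g.toLinearMap).mulVec u) = Q u
      rw [LinearMap.toMatrix'_mulVec]
      exact hgQ u
    rw [isConj_iff]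
    refine ⟨⟨Gu, hGmem⟩, ?_⟩
    rw [mul_inv_eq_iff_eq_mul]
    apply Subtype.ext
    apply Units.ext
    show LinearMap.toMatrix' g.toLinearMap * (a : Matrix (Fin n) (Fin n) F) =
      (b : Matrix (Fin n) (Fin n) F) * LinearMap.toMatrix' g.toLinearMap
    apply Matrix.toLin'.injective
    apply LinearMap.ext
    intro v
    rw [Matrix.toLin'_mul, Matrix.toLin'_mul, Matrix.toLin'_toMatrix', LinearMap.comp_apply,
      LinearMap.comp_apply]
    exact hgx v

end Cfsg.Agent.S2590
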