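import Cfsg.Statements.S2591
import Cfsg.Agent.Lib.Helper15.SpReg6

set_option autoImplicit false
open Cfsg

namespace Cfsg.Agent.S2591

open Matrix Cfsg.Agent.Lib.Helper15.SpReg

/-- product of two nonsquares in a finite field of odd characteristic is a square -/
theorem isSquare_mul_of_not {F : Type*} [Field F] [Fintype F] {a d : F}
    (ha : ¬ IsSquare a) (hd : ¬ IsSquare d) : IsSquare (a * d) := by
  classical
  have ha0 : a ≠ 0 := by rintro rfl; exact ha IsSquare.zero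
  have hd0 : d ≠ 0 := by rintro rfl; exact hd IsSquare.zero
  rw [← quadraticChar_one_iff_isSquare (mul_ne_zero ha0 hd0), map_mul,
    quadraticChar_neg_one_iff_not_isSquare.mpr ha, quadraticChar_neg_one_iff_not_isSquare.mpr hd]
  norm_num

/-- Over a finite field of odd order and for m ≥ 1, the regular unipotent elements of Sp_2m(F) (u − 1 nilpotent of rank 2m − 1, a single Jordan block) form exactly two conjugacy classes of Sp_2m(F) (one class under the similarity group, which splits in two). -/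
theorem result {F : Type*} [Field F] [Fintype F] {q : ℕ} (hF : Fintype.card F = q) (hq : Odd q) {m : ℕ} (hm : 1 ≤ m) : Nat.card {C : ConjClasses ↥(Matrix.symplecticGroup (Fin m) F) // ∃ u : Matrix.symplecticGroup (Fin m) F, ConjClasses.mk u = C ∧ ((u : Matrix (Fin m ⊕ Fin m) (Fin m ⊕ Fin m) F) - 1) ^ (2 * m) = 0 ∧ ((u : Matrix (Fin m ⊕ Fin m) (Fin m ⊕ Fin m) F) - 1).rank = 2 * m - 1} = 2 := by
  classical
  have hodd : Odd (Fintype.card F) := by rw [hF]; exact hq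
  have h2 : (2 : F) ≠ 0 := two_ne_zero_of_odd_card hodd
  have hchar : ringChar F ≠ 2 := by
    intro h
    have : CharP F 2 := ringChar.of_eq h
    exact h2 (CharP.cast_eq_zero F 2)
  obtain ⟨u₀, hnil₀, hreg₀⟩ := exists_regUnip (F := F) h2 hm
  let D : RegData F m := ⟨u₀, h2, hm, hnil₀, hreg₀⟩
  obtain ⟨δ, hδ⟩ := FiniteField.exists_nonsquare hchar
  have hδ0 : δ ≠ 0 := by rintro rfl; exact hδ IsSquare.zero
  -- the second class representative
  set P₁ : Matrix (Fin m ⊕ Fin m) (Fin m ⊕ Fin m) F := simil m δ with hP₁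
  set P₁i : Matrix (Fin m ⊕ Fin m) (Fin m ⊕ Fin m) F := simil m δ⁻¹ with hP₁i
  have hP₁1 : P₁ * P₁i = 1 := simil_mul_inv δ hδ0
  have hP₁1' : P₁i * P₁ = 1 := mul_eq_one_comm.mp hP₁1
  have hP₁s : sig P₁ * P₁ = δ • 1 := sig_simil_mul δ
  let u₁ : symplecticGroup (Fin m) F :=
    ⟨P₁ * (u₀ : Matrix (Fin m ⊕ Fin m) (Fin m ⊕ Fin m) F) * P₁i,
      conj_simil_mem u₀ P₁ P₁i hP₁1 δ hδ0 hP₁s⟩
  have hu₁ : (u₁ : Matrix (Fin m ⊕ Fin m) (Fin m ⊕ Fin m) F) =
      P₁ * (u₀ : Matrix (Fin m ⊕ Fin m) (Fin m ⊕ Fin m) F) * P₁i := rfl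
  have hrel₁ : P₁ * (D.u : Matrix (Fin m ⊕ Fin m) (Fin m ⊕ Fin m) F) =
      (u₁ : Matrix (Fin m ⊕ Fin m) (Fin m ⊕ Fin m) F) * P₁ := by
    rw [hu₁, Matrix.mul_assoc, hP₁1', Matrix.mul_one]
  have hsub₁ : (u₁ : Matrix (Fin m ⊕ Fin m) (Fin m ⊕ Fin m) F) - 1 =
      P₁ * ((u₀ : Matrix (Fin m ⊕ Fin m) (Fin m ⊕ Fin m) F) - 1) * P₁i := by
    rw [hu₁, Matrix.mul_sub, Matrix.sub_mul, Matrix.mul_one, hP₁1]
  have hnil₁ : ((u₁ : Matrix (Fin m ⊕ Fin m) (Fin m ⊕ Fin m) F) - 1) ^ (2 * m) = 0 := by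
    rw [hsub₁, conj_pow _ _ _ hP₁1', hnil₀, Matrix.mul_zero, Matrix.zero_mul]
  have hreg₁ : ((u₁ : Matrix (Fin m ⊕ Fin m) (Fin m ⊕ Fin m) F) - 1).rank = 2 * m - 1 := by
    rw [hsub₁, conj_rank _ _ _ hP₁1, hreg₀]
  -- scalar parts for `1` and `P₁`
  have hsc₀ : IsNilpotent (sig (1 : Matrix (Fin m ⊕ Fin m) (Fin m ⊕ Fin m) F) * 1 -
      (1 : F) • (1 : Matrix (Fin m ⊕ Fin m) (Fin m ⊕ Fin m) F)) := by
    rw [sig_one, one_smul, Matrix.mul_one, sub_self]
    exact IsNilpotent.zero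
  have hsc₁ : IsNilpotent (sig P₁ * P₁ -
      δ • (1 : Matrix (Fin m ⊕ Fin m) (Fin m ⊕ Fin m) F)) := by
    rw [hP₁s, sub_self]
    exact IsNilpotent.zero
  have hrel₀ : (1 : Matrix (Fin m ⊕ Fin m) (Fin m ⊕ Fin m) F) * (D.u : Matrix _ _ F) =
      (u₀ : Matrix (Fin m ⊕ Fin m) (Fin m ⊕ Fin m) F) * 1 := by
    rw [Matrix.one_mul, Matrix.mul_one]
  -- the two classes are different
  have hne : ConjClasses.mk u₀ ≠ ConjClasses.mk u₁ := by
    intro h
    rw [ConjClasses.mk_eq_mk_iff_isConj] at h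
    obtain ⟨b, hb⟩ := D.sq_of_isConj u₀ u₁ 1 P₁ P₁i hP₁1 hrel₀ hrel₁ 1 δ hsc₀ hsc₁ h
    apply hδ
    have hb0 : b ≠ 0 := by
      rintro rfl
      rw [zero_pow two_ne_zero, zero_mul] at hb
      exact one_ne_zero hb
    refine ⟨b⁻¹, ?_⟩
    field_simp
    rw [hb]
    ring
  -- every regular unipotent element lies in one of the two classes
  have hset : {C : ConjClasses ↥(Matrix.symplecticGroup (Fin m) F) |
      ∃ u : Matrix.symplecticGroup (Fin m) F, ConjClasses.mk u = C ∧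
        ((u : Matrix (Fin m ⊕ Fin m) (Fin m ⊕ Fin m) F) - 1) ^ (2 * m) = 0 ∧
        ((u : Matrix (Fin m ⊕ Fin m) (Fin m ⊕ Fin m) F) - 1).rank = 2 * m - 1} =
      {ConjClasses.mk u₀, ConjClasses.mk u₁} := by
    ext C
    simp only [Set.mem_ofPred_eq, Set.mem_insert_iff, Set.mem_singleton_iff]
    constructor
    · rintro ⟨u, rfl, hnil, hreg⟩
      obtain ⟨P, Pi, hPPi, hP⟩ := exists_conj_of_regular (2 * m) RegData.hcard (by omega)
        ((u₀ : Matrix (Fin m ⊕ Fin m) (Fin m ⊕ Fin m) F) - 1)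
        ((u : Matrix (Fin m ⊕ Fin m) (Fin m ⊕ Fin m) F) - 1) hnil₀ hreg₀ hnil hreg
      have hP' : P * (D.u : Matrix (Fin m ⊕ Fin m) (Fin m ⊕ Fin m) F) =
          (u : Matrix (Fin m ⊕ Fin m) (Fin m ⊕ Fin m) F) * P := by
        rw [Matrix.mul_sub, Matrix.sub_mul, Matrix.mul_one, Matrix.one_mul] at hP
        exact sub_left_injective hP
      obtain ⟨a, ha0, ha⟩ := D.exists_sc u P Pi hPPi hP'
      by_cases hsq : IsSquare a
      · left
        obtain ⟨c, hc⟩ := hsq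
        have hc0 : c ≠ 0 := by
          rintro rfl
          rw [mul_zero] at hc
          exact ha0 hc
        symm
        rw [ConjClasses.mk_eq_mk_iff_isConj]
        apply D.isConj_of_sq u₀ u 1 1 P (Matrix.one_mul 1) hrel₀ hP' 1 a c⁻¹ hsc₀ ha ha0
          (inv_ne_zero hc0)
        rw [hc]
        field_simp
      · right
        obtain ⟨c, hc⟩ := isSquare_mul_of_not hsq hδ
        have hc0 : c ≠ 0 := by
          rintro rfl
          rw [mul_zero] at hc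
          exact mul_ne_zero ha0 hδ0 hc
        symm
        rw [ConjClasses.mk_eq_mk_iff_isConj]
        apply D.isConj_of_sq u₁ u P₁ P₁i P hP₁1 hrel₁ hP' δ a (δ * c⁻¹) hsc₁ ha ha0
          (mul_ne_zero hδ0 (inv_ne_zero hc0))
        have : a = c * c * δ⁻¹ := by
          rw [← hc]
          field_simp
        rw [this]
        field_simp
    · rintro (rfl | rfl)
      · exact ⟨u₀, rfl, hnil₀, hreg₀⟩
      · exact ⟨u₁, rfl, hnil₁, hreg₁⟩
  change Nat.card ↥{C : ConjClasses ↥(Matrix.symplecticGroup (Fin m) F) |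
      ∃ u : Matrix.symplecticGroup (Fin m) F, ConjClasses.mk u = C ∧
        ((u : Matrix (Fin m ⊕ Fin m) (Fin m ⊕ Fin m) F) - 1) ^ (2 * m) = 0 ∧
        ((u : Matrix (Fin m ⊕ Fin m) (Fin m ⊕ Fin m) F) - 1).rank = 2 * m - 1} = 2
  rw [Nat.card_coe_set_eq, hset, Set.ncard_pair hne]

end Cfsg.Agent.S2591
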