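import Cfsg.Statements.S2599
import Mathlib

set_option autoImplicit false
open Cfsg

namespace Cfsg.Agent.S2599

open Module Matrix

/-- An irreducible invariant subspace of a semisimple isometry is non-degenerate or totally singular: let Q be a quadratic form on F^n (F finite of characteristic p) with non-degenerate polar form f, x an isometry of Q of order prime to p, and U a non-zero x-invariant subspace containing no x-invariant subspace other than 0 and U. Then U meets its f-orthogonal trivially, or Q vanishes on U, or p = 2, U is a line spanned by a non-singular vector and x fixes U pointwise. -/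
theorem result {F : Type*} [Field F] [Fintype F] {p : ℕ} [Fact p.Prime] [CharP F p] {n : ℕ} (Q : QuadraticForm F (Fin n → F)) (hQ : (QuadraticMap.polarBilin Q).Nondegenerate) (x : ↥(Cfsg.isometryGroup F ⇑Q)) (hx : (orderOf x).Coprime p) (U : Submodule F (Fin n → F)) (hU0 : U ≠ ⊥) (hUx : ∀ u ∈ U, ((x : Matrix.GeneralLinearGroup (Fin n) F) : Matrix (Fin n) (Fin n) F).mulVec u ∈ U) (hirr : ∀ W : Submodule F (Fin n → F), W ≤ U → (∀ w ∈ W, ((x : Matrix.GeneralLinearGroup (Fin n) F) : Matrix (Fin n) (Fin n) F).mulVec w ∈ W) → W = ⊥ ∨ W = U) : U ⊓ LinearMap.BilinForm.orthogonal (QuadraticMap.polarBilin Q) U = ⊥ ∨ (∀ u ∈ U, Q u = 0) ∨ (p = 2 ∧ Module.finrank F U = 1 ∧ (∃ u ∈ U, Q u ≠ 0) ∧ ∀ u ∈ U, ((x : Matrix.GeneralLinearGroup (Fin n) F) : Matrix (Fin n) (Fin n) F).mulVec u = u) := by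
  classical
  set X : Matrix (Fin n) (Fin n) F := ((x : Matrix.GeneralLinearGroup (Fin n) F) : Matrix (Fin n) (Fin n) F) with hX
  -- `X` preserves `Q`
  have hiso : ∀ v, Q (X *ᵥ v) = Q v := by
    intro v
    have := x.2
    exact this v 0
  have hpolar : ∀ u v, QuadraticMap.polar Q (X *ᵥ u) (X *ᵥ v) = QuadraticMap.polar Q u v := by
    intro u v
    simp only [QuadraticMap.polar, ← Matrix.mulVec_add, hiso]
  -- `X` is injective
  have hXinj : Function.Injective (fun v => X *ᵥ v) := by
    intro u v huv
    have hinv : ((x : Matrix.GeneralLinearGroup (Fin n) F)⁻¹ : Matrix.GeneralLinearGroup (Fin n) F).1 * X = 1 := by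
      have := (x : Matrix.GeneralLinearGroup (Fin n) F).inv_mul
      exact this
    have h1 := congrArg (fun z => ((x : Matrix.GeneralLinearGroup (Fin n) F)⁻¹ : Matrix.GeneralLinearGroup (Fin n) F).1 *ᵥ z) huv
    simp only [Matrix.mulVec_mulVec, hinv, Matrix.one_mulVec] at h1
    exact h1
  -- restriction of `X` to `U` is surjective
  let XU : U →ₗ[F] U :=
    { toFun := fun u => ⟨X *ᵥ u.1, hUx u.1 u.2⟩
      map_add' := by
        intro a b
        ext1
        simp [Matrix.mulVec_add]
      map_smul' := by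
        intro c a
        ext1
        simp [Matrix.mulVec_smul] }
  have hXUinj : Function.Injective XU := by
    intro a b hab
    apply Subtype.ext
    apply hXinj
    exact congrArg Subtype.val hab
  have hXUsurj : Function.Surjective XU := LinearMap.injective_iff_surjective.mp hXUinj
  -- the radical `U ⊓ U^⊥`
  have hrad : ∀ w ∈ U ⊓ LinearMap.BilinForm.orthogonal (QuadraticMap.polarBilin Q) U,
      X *ᵥ w ∈ U ⊓ LinearMap.BilinForm.orthogonal (QuadraticMap.polarBilin Q) U := by
    rintro w ⟨hwU, hwO⟩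
    refine ⟨hUx w hwU, ?_⟩
    intro u hu
    obtain ⟨u', hu'⟩ := hXUsurj ⟨u, hu⟩
    have hu'' : X *ᵥ u'.1 = u := congrArg Subtype.val hu'
    show QuadraticMap.polarBilin Q u (X *ᵥ w) = 0
    rw [← hu'']
    show QuadraticMap.polar Q (X *ᵥ u'.1) (X *ᵥ w) = 0
    rw [hpolar]
    exact hwO u'.1 u'.2
  rcases hirr _ inf_le_left hrad with h | h
  · exact Or.inl h
  right
  -- `U` is totally isotropic for the polar form
  have hUU : ∀ u ∈ U, ∀ v ∈ U, QuadraticMap.polar Q u v = 0 := by
    intro u hu v hv
    have hv' : v ∈ U ⊓ LinearMap.BilinForm.orthogonal (QuadraticMap.polarBilin Q) U := by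
      rw [h]; exact hv
    exact hv'.2 u hu
  have hadd : ∀ u ∈ U, ∀ v ∈ U, Q (u + v) = Q u + Q v := by
    intro u hu v hv
    have := hUU u hu v hv
    simp only [QuadraticMap.polar] at this
    linear_combination this
  by_cases hp2 : p = 2
  · -- characteristic two
    subst hp2
    have h2 : (2 : F) = 0 := by
      have := CharP.cast_eq_zero F 2
      simpa using this
    have hsub : ∀ u ∈ U, ∀ v ∈ U, Q (u - v) = Q u + Q v := by
      intro u hu v hv
      rw [sub_eq_add_neg, hadd u hu (-v) (U.neg_mem hv), QuadraticMap.map_neg]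
    -- the singular vectors of `U`
    let K : Submodule F (Fin n → F) :=
      { carrier := {u | u ∈ U ∧ Q u = 0}
        add_mem' := by
          rintro a b ⟨ha, ha0⟩ ⟨hb, hb0⟩
          exact ⟨U.add_mem ha hb, by rw [hadd a ha b hb, ha0, hb0, add_zero]⟩
        zero_mem' := ⟨U.zero_mem, QuadraticMap.map_zero Q⟩
        smul_mem' := by
          rintro c a ⟨ha, ha0⟩
          exact ⟨U.smul_mem c ha, by rw [QuadraticMap.map_smul, ha0, smul_zero]⟩ }
    have hKU : K ≤ U := fun u hu => hu.1
    have hKx : ∀ w ∈ K, X *ᵥ w ∈ K := by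
      rintro w ⟨hw, hw0⟩
      exact ⟨hUx w hw, by rw [hiso, hw0]⟩
    rcases hirr K hKU hKx with hK | hK
    · right
      -- `Q` is injective on `U`
      have hinjQ : ∀ u ∈ U, ∀ v ∈ U, Q u = Q v → u = v := by
        intro u hu v hv huv
        have h0 : Q (u - v) = 0 := by
          rw [hsub u hu v hv, huv, ← two_mul, h2, zero_mul]
        have : u - v ∈ K := ⟨U.sub_mem hu hv, h0⟩
        rw [hK] at this
        exact sub_eq_zero.mp ((Submodule.mem_bot F).mp this)
      obtain ⟨u0, hu0U, hu0⟩ := Submodule.exists_mem_ne_zero_of_ne_bot hU0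
      have hQu0 : Q u0 ≠ 0 := by
        intro h0
        have : u0 ∈ K := ⟨hu0U, h0⟩
        rw [hK] at this
        exact hu0 ((Submodule.mem_bot F).mp this)
      refine ⟨rfl, ?_, ⟨u0, hu0U, hQu0⟩, ?_⟩
      · have hne : (⟨u0, hu0U⟩ : U) ≠ 0 := by
          intro h0
          exact hu0 (congrArg Subtype.val h0)
        rw [finrank_eq_one_iff_of_nonzero' (⟨u0, hu0U⟩ : U) hne]
        rintro ⟨v, hv⟩
        obtain ⟨c, hc⟩ := FiniteField.isSquare_of_char_two
          (by rw [ringChar.eq F 2]) (Q v / Q u0)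
        refine ⟨c, ?_⟩
        apply Subtype.ext
        apply hinjQ _ (U.smul_mem c hu0U) _ hv
        show Q (c • u0) = Q v
        rw [QuadraticMap.map_smul, ← hc, smul_eq_mul]
        field_simp
      · intro u hu
        apply hinjQ _ (hUx u hu) _ hu
        exact hiso u
    · left
      intro u hu
      have : u ∈ K := by rw [hK]; exact hu
      exact this.2
  · -- odd characteristic
    left
    intro u hu
    have h2 : (2 : F) ≠ 0 := by
      intro h2
      have h3 : ((2 : ℕ) : F) = 0 := by simpa using h2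
      rw [CharP.cast_eq_zero_iff F p 2] at h3
      have hpp : p.Prime := Fact.out
      exact hp2 ((Nat.prime_dvd_prime_iff_eq hpp Nat.prime_two).mp h3)
    have h1 := hUU u hu u hu
    rw [QuadraticMap.polar_self] at h1
    have h3 : (2 : F) * Q u = 0 := by
      rw [← h1]; simp [two_mul]
    exact (mul_eq_zero.mp h3).resolve_left h2

end Cfsg.Agent.S2599
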