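import Cfsg.Statements.S2602
import Cfsg.Agent.Lib.Helper15.Dk27

set_option autoImplicit false
open Cfsg

namespace Cfsg.Agent.S2602

/-- Structure of the outer automorphism group of PSL_2(q), q = p^f ≥ 4: it has a normal cyclic subgroup of order gcd(2, q − 1) (diagonal automorphisms) with cyclic quotient of order f (field automorphisms); there is no graph automorphism in dimension 2. -/
theorem result {F : Type*} [Field F] [Fintype F] {p f : ℕ} [Fact p.Prime] (hf : 1 ≤ f) (hF : Fintype.card F = p ^ f) (h4 : 4 ≤ p ^ f) : ∃ φ : Cfsg.Out (Matrix.ProjectiveSpecialLinearGroup (Fin 2) F) →* Multiplicative (ZMod f), Function.Surjective φ ∧ IsCyclic φ.ker ∧ Nat.card φ.ker = Nat.gcd 2 (p ^ f - 1) := by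
  have hchar : CharP F p := by
    obtain ⟨p', hp'⟩ := CharP.exists F
    have hpr' : p'.Prime := CharP.char_is_prime F p'
    have : Fact p'.Prime := ⟨hpr'⟩
    obtain ⟨m, -, hm⟩ := FiniteField.card F p'
    have hdvd : p' ∣ p ^ f := by
      rw [← hF, hm]
      exact dvd_pow_self p' m.ne_zero
    have h1 : p' = p :=
      (Nat.prime_dvd_prime_iff_eq hpr' (Fact.out : p.Prime)).1 (hpr'.dvd_of_dvd_pow hdvd)
    subst h1
    exact hp'
  exact Cfsg.Agent.Lib.Helper15.Dk.out_psl2_structure p f hF

end Cfsg.Agent.S2602
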