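-- Statement S2605
import Cfsg.Statements.S2605
import Mathlib
import Cfsg.Agent.Lib.Helper6.AutOrt24
import Cfsg.Agent.S0818

set_option autoImplicit false
open Cfsg Cfsg.Agent.Lib.Helper6 Cfsg.Agent.Lib.Helper6.AutOrt Cfsg.Agent.Lib.Helper15 QuadraticMap

namespace Cfsg.Agent.S2605

/-- Outer automorphism group of PΩ⁻_2m(q), m ≥ 4, q = 2^f: cyclic of order 2f, generated by a semilinear map inducing the Frobenius automorphism of the field (its f-th power is a graph automorphism, an orthogonal transvection). -/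
theorem result {F : Type*} [Field F] [Fintype F] {f m : ℕ} (hf : 1 ≤ f) (hF : Fintype.card F = 2 ^ f) (hm : 4 ≤ m) (a b : F) (hab : ∀ z₁ z₂ : F, z₁ ^ 2 + a * z₁ * z₂ + b * z₂ ^ 2 = 0 → z₁ = 0 ∧ z₂ = 0) : IsCyclic (Cfsg.Out (Cfsg.POmega F (Cfsg.quadFormMinus (m - 1) F a b))) ∧ Nat.card (Cfsg.Out (Cfsg.POmega F (Cfsg.quadFormMinus (m - 1) F a b))) = 2 * f := by
  classical
  have hcardAut := Cfsg.Agent.S0818.result (F := F) 2 f hf hF m hm a b hab
  rw [if_pos rfl] at hcardAut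
  have hfun : Cfsg.quadFormMinus (m - 1) F a b = ⇑(Qgen (m - 1) (binForm a b)) := by
    funext v
    rw [Qgen_apply, binForm_apply]
    rfl
  rw [hfun] at hcardAut ⊢
  have hk : 3 ≤ m - 1 := by omega
  haveI := std_minus (F := F) a b hab hk
  haveI : Fact (Nat.Prime 2) := ⟨Nat.prime_two⟩
  haveI : CharP F 2 := charP_of_card_pow' hF
  have hP := HP_minus (F := F) a b hab hk
  have hnd := nondegenerate_Qgen (m - 1) (binForm a b) (nondegenerate_binForm a b hab)
  have h5 : 5 ≤ Fintype.card ((Fin (m - 1) ⊕ Fin (m - 1)) ⊕ Fin 2) := by rw [card_JJ]; omega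
  have hI := card_Inn_of_perfect_quot (Omega_perfect (Qgen (m - 1) (binForm a b)) hnd h5)
  have hcardOut : Nat.card (Cfsg.Out (Cfsg.POmega F ⇑(Qgen (m - 1) (binForm a b)))) = 2 * f := by
    have h3 := Subgroup.card_eq_card_quotient_mul_card_subgroup
      (Cfsg.Inn (Cfsg.POmega F ⇑(Qgen (m - 1) (binForm a b))))
    rw [hcardAut] at h3
    have hpos : 0 < Nat.card (Cfsg.POmega F ⇑(Qgen (m - 1) (binForm a b))) := by
      rw [← hI]
      exact Nat.card_pos
    have h4 : Nat.card (Cfsg.Inn (Cfsg.POmega F ⇑(Qgen (m - 1) (binForm a b)))) =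
        Nat.card (Cfsg.POmega F ⇑(Qgen (m - 1) (binForm a b))) := hI
    rw [h4] at h3
    exact (Nat.eq_of_mul_eq_mul_right hpos h3).symm
  refine ⟨?_, hcardOut⟩
  haveI : Finite (Cfsg.Out (Cfsg.POmega F ⇑(Qgen (m - 1) (binForm a b)))) :=
    Nat.finite_of_card_ne_zero (by rw [hcardOut]; omega)
  have hInn : Cfsg.Inn (Cfsg.POmega F ⇑(Qgen (m - 1) (binForm a b))) ≤ (psiO 2 hP).ker := by
    rw [psiO_ker]
    exact Inn_le_pgoAut _
  apply isCyclic_of_order (QuotientGroup.lift _ (psiO 2 hP) hInn)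
    (QuotientGroup.mk (frobMinus (m - 1) a b).gam) f hf hcardOut
  · rw [QuotientGroup.lift_mk, psiO_gam, frobMinus_σ]
    exact orderOf_frob2 hf hF
  · rw [← QuotientGroup.mk_pow, ← frobPow_gam]
    intro h
    rw [QuotientGroup.eq_one_iff] at h
    refine gam_not_mem_Inn_two 2 two_eq_zero' _ (Pi.single (Sum.inr 0) 1) ?_
      (frobPow_f_S (m - 1) a b hf hF hab) h
    rw [Qgen_apply, binForm_apply]
    simp

end Cfsg.Agent.S2605
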