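-- Statement S2606
import Cfsg.Statements.S2606
import Mathlib
import Cfsg.Agent.Lib.Helper6.AutOrt28
import Cfsg.Agent.Lib.Helper6.AutOrt29
import Cfsg.Agent.S2728

set_option autoImplicit false
open Cfsg Cfsg.Agent.Lib.Helper6 Cfsg.Agent.Lib.Helper6.AutOrt Cfsg.Agent.Lib.Helper6.OmegaAut Cfsg.Agent.Lib.Helper15 QuadraticMap

namespace Cfsg.Agent.S2606

theorem sq_mod_four_ne_three (n : ℕ) : n ^ 2 % 4 ≠ 3 := by
  rw [Nat.pow_mod]
  have h3 : n % 4 < 4 := Nat.mod_lt _ (by norm_num)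
  interval_cases (n % 4) <;> omega

set_option maxHeartbeats 1600000 in
/-- Outer automorphism group of PΩ⁻_2m(q), m ≥ 4, q = p^f odd: it is dihedral of order 8 times cyclic of order f when q ≡ 3 (mod 4) and m is odd, and otherwise the direct product of a group of order 2 with a cyclic group of order 2f. -/
theorem result {F : Type*} [Field F] [Fintype F] {p f m : ℕ} [Fact p.Prime] (hf : 1 ≤ f) (hF : Fintype.card F = p ^ f) (hp : p ≠ 2) (hm : 4 ≤ m) (a b : F) (hab : ∀ z₁ z₂ : F, z₁ ^ 2 + a * z₁ * z₂ + b * z₂ ^ 2 = 0 → z₁ = 0 ∧ z₂ = 0) : if p ^ f % 4 = 3 ∧ Odd m then Nonempty (Cfsg.Out (Cfsg.POmega F (Cfsg.quadFormMinus (m - 1) F a b)) ≃* DihedralGroup 4 × Multiplicative (ZMod f)) else Nonempty (Cfsg.Out (Cfsg.POmega F (Cfsg.quadFormMinus (m - 1) F a b)) ≃* Multiplicative (ZMod 2 × ZMod (2 * f))) := by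
  classical
  have hfun : Cfsg.quadFormMinus (m - 1) F a b = ⇑(Qgen (m - 1) (binForm a b)) := by
    funext v
    rw [Qgen_apply, binForm_apply]
    rfl
  have hk : 3 ≤ m - 1 := by omega
  have hoddp0 : Odd p := (Fact.out : p.Prime).odd_of_ne_two hp
  have hoddF0 : Odd (Fintype.card F) := by rw [hF]; exact hoddp0.pow
  have hS2728 := Cfsg.Agent.S2728.result (F := F) hoddF0 hk a b hab
  rw [hfun] at hS2728 ⊢
  haveI := std_minus (F := F) a b hab hk
  haveI : CharP F p := charP_of_card_pow' hF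
  have hP := HP_minus (F := F) a b hab hk
  have hoddp : Odd p := (Fact.out : p.Prime).odd_of_ne_two hp
  have hoddF : Odd (Fintype.card F) := by rw [hF]; exact hoddp.pow
  have h2 : (2 : F) ≠ 0 := two_ne_zero_of_oddp (p := p) hoddp
  have hnd := nondegenerate_Qgen (m - 1) (binForm a b) (nondegenerate_binForm a b hab)
  have hcardι : Fintype.card ((Fin (m - 1) ⊕ Fin (m - 1)) ⊕ Fin 2) = 2 * (m - 1) + 2 := card_JJ
  have h5 : 5 ≤ Fintype.card ((Fin (m - 1) ⊕ Fin (m - 1)) ⊕ Fin 2) := by rw [hcardι]; omega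
  have heven : Even (Fintype.card ((Fin (m - 1) ⊕ Fin (m - 1)) ⊕ Fin 2)) := by
    rw [hcardι]; exact ⟨m - 1 + 1, by ring⟩
  have hI : Nat.card (Cfsg.Inn (Cfsg.POmega F ⇑(Qgen (m - 1) (binForm a b)))) =
      Nat.card (Cfsg.POmega F ⇑(Qgen (m - 1) (binForm a b))) :=
    card_Inn_of_perfect_quot (Omega_perfect (Qgen (m - 1) (binForm a b)) hnd h5)
  have hAut := card_aut_eq p hP (fun σ => by
    obtain ⟨Φ, h, -⟩ := exists_fieldMinus (m - 1) a b hab σ
    exact ⟨Φ, h⟩)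
  have hcardOut : Nat.card (Cfsg.Out (Cfsg.POmega F ⇑(Qgen (m - 1) (binForm a b)))) =
      (if Even (m - 1) ∧ Fintype.card F % 4 = 3 then 8 else 4) * f := by
    have h3 := Subgroup.card_eq_card_quotient_mul_card_subgroup
      (Cfsg.Inn (Cfsg.POmega F ⇑(Qgen (m - 1) (binForm a b))))
    rw [hAut, card_pgoAut_minus_odd a b hab hoddF hk, card_ringAut' hF hf, hI] at h3
    have hpos : 0 < Nat.card (Cfsg.POmega F ⇑(Qgen (m - 1) (binForm a b))) := by
      rw [← hI]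
      exact Nat.card_pos
    apply Nat.eq_of_mul_eq_mul_right hpos
    rw [← h3]
    ring
  haveI : Finite (Cfsg.Out (Cfsg.POmega F ⇑(Qgen (m - 1) (binForm a b)))) := by
    apply Nat.finite_of_card_ne_zero
    rw [hcardOut]
    split_ifs <;> omega
  have hInn : Cfsg.Inn (Cfsg.POmega F ⇑(Qgen (m - 1) (binForm a b))) ≤ (psiO p hP).ker := by
    rw [psiO_ker]
    exact Inn_le_pgoAut _
  have hordx : orderOf ((QuotientGroup.lift _ (psiO p hP) hInn)
      (QuotientGroup.mk (frobMinusOdd p (m - 1) a b hoddp).gam)) = f := by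
    rw [QuotientGroup.lift_mk, psiO_gam, frobMinusOdd_σ]
    exact orderOf_frobP p hf hF
  have hcond : (p ^ f % 4 = 3 ∧ Odd m) ↔ (Even (m - 1) ∧ Fintype.card F % 4 = 3) := by
    rw [hF]
    constructor
    · rintro ⟨h1, ⟨t, ht⟩⟩
      exact ⟨⟨t, by omega⟩, h1⟩
    · rintro ⟨⟨t, ht⟩, h1⟩
      exact ⟨h1, ⟨t, by omega⟩⟩
  by_cases hc : p ^ f % 4 = 3 ∧ Odd m
  · rw [if_pos hc]
    have hc' := hcond.mp hc
    rw [if_pos hc'] at hcardOut
    have hfodd : Odd f := by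
      rw [← Nat.not_even_iff_odd]
      rintro ⟨t, ht⟩
      have h1 := hc.1
      rw [ht, ← two_mul, pow_mul'] at h1
      exact sq_mod_four_ne_three _ h1
    obtain ⟨φ, hφ, hker⟩ := hS2728.1 hc'
    obtain ⟨e⟩ := ker_lift_equiv (Cfsg.Inn (Cfsg.POmega F ⇑(Qgen (m - 1) (binForm a b))))
      (Cfsg.pgoAut F ⇑(Qgen (m - 1) (binForm a b))) (psiO p hP) (psiO_ker p hP) hInn φ hφ hker
    exact nonempty_mulEquiv_D4_Zf hf hfodd hcardOut _ _ hordx e
  · rw [if_neg hc]
    have hc' : ¬ (Even (m - 1) ∧ Fintype.card F % 4 = 3) := fun h => hc (hcond.mpr h)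
    rw [if_neg hc'] at hcardOut
    obtain ⟨φ, hφ, hker⟩ := hS2728.2 hc'
    obtain ⟨e⟩ := ker_lift_equiv (Cfsg.Inn (Cfsg.POmega F ⇑(Qgen (m - 1) (binForm a b))))
      (Cfsg.pgoAut F ⇑(Qgen (m - 1) (binForm a b))) (psiO p hP) (psiO_ker p hP) hInn φ hφ hker
    have hneg : negIso (Qgen (m - 1) (binForm a b)) ∉
        Cfsg.Omega F ⇑(Qgen (m - 1) (binForm a b)) := fun h =>
      hc' ((negIso_mem_minus_iff (m - 1) a b hoddF hab).mp h)
    have hpso : Cfsg.psoAut F ⇑(Qgen (m - 1) (binForm a b)) ≤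
        Cfsg.Inn (Cfsg.POmega F ⇑(Qgen (m - 1) (binForm a b))) :=
      Subgroup.relIndex_eq_one.mp (relIndex_Inn_psoAut_of_notMem _ h2 hnd h5 heven
        (minusTriple' F (m - 1) (binForm a b) hk) hneg)
    obtain ⟨Δ, hΔσ, hΔν⟩ := exists_nonsquare_sim (m - 1) a b hoddF hk hab
    set R := frobPowOdd p (m - 1) a b hoddp f with hR
    have hRσ : R.σ = RingEquiv.refl F := by
      rw [hR, frobPowOdd_σ, ← orderOf_frobP p hf hF, pow_orderOf_eq_one]
      rfl
    have hRν : R.ν = 1 := frobPowOdd_ν p (m - 1) a b hoddp f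
    have he0 : epsD a b ≠ 0 := by
      intro h
      apply epsD_not_isSquare a b h2 hab
      rw [h]
      exact ⟨0, (mul_zero 0).symm⟩
    have hxf : (QuotientGroup.mk (frobMinusOdd p (m - 1) a b hoddp).gam :
        Cfsg.Out (Cfsg.POmega F ⇑(Qgen (m - 1) (binForm a b)))) ^ f =
        QuotientGroup.mk R.gam := by
      rw [← QuotientGroup.mk_pow, hR, frobPowOdd_gam]
    refine nonempty_mulEquiv_Z2_Z2f hf hcardOut (QuotientGroup.lift _ (psiO p hP) hInn)
      (QuotientGroup.mk (frobMinusOdd p (m - 1) a b hoddp).gam) (QuotientGroup.mk Δ.gam)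
      hordx ?_ ?_ ?_ ?_ ?_ ?_
    · rw [hxf]
      intro h
      rw [QuotientGroup.eq_one_iff] at h
      refine gam_not_mem_Inn_odd p h2 heven R hRσ (wRefl (m - 1) a) ?_
        (frobPowOdd_f_S p (m - 1) a b hoddp hf hF hab) h
      rw [Q_wRefl (m - 1) a b h2]
      exact neg_ne_zero.mpr he0
    · intro n hn
      exact congrArg Subtype.val (pow_two_eq_one_of_equiv e ⟨n, hn⟩)
    · rw [QuotientGroup.lift_mk, psiO_gam, hΔσ]
      rfl
    · intro h
      rw [QuotientGroup.eq_one_iff] at h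
      obtain ⟨c, hc1, -⟩ := of_gam_mem_Inn p Δ hΔσ h
      exact hΔν ⟨c, hc1⟩
    · rw [hxf]
      intro h
      rw [QuotientGroup.eq, ← SemiSimO.gam_symm, ← SemiSimO.gam_comp] at h
      have hσ : (Δ.symm.comp R).σ = RingEquiv.refl F := by
        rw [SemiSimO.comp_σ, SemiSimO.symm_σ, hRσ, hΔσ]
        rfl
      obtain ⟨c, hc1, -⟩ := of_gam_mem_Inn p _ hσ h
      rw [SemiSimO.comp_ν, hRν, map_one, mul_one] at hc1
      have h3 := SemiSimO.ν_symm Δ
      rw [hΔσ, hc1] at h3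
      change Δ.ν * (c * c) = 1 at h3
      have hc0 : c ≠ 0 := by
        rintro rfl
        rw [mul_zero, mul_zero] at h3
        exact zero_ne_one h3
      apply hΔν
      refine ⟨c⁻¹, ?_⟩
      field_simp
      linear_combination h3
    · exact comm_of_comm_mem _ _ _ (hpso (comm_mem_psoAut hoddp (frobMinusOdd p (m - 1) a b hoddp) Δ
        (frobMinusOdd_σ_apply p (m - 1) a b hoddp) hΔσ))

end Cfsg.Agent.S2606
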