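import Cfsg.Statements.S2611
import Cfsg.Agent.Lib.Helper15.OPlus5

set_option autoImplicit false
open Cfsg

namespace Cfsg.Agent.S2611

/-- For the hyperbolic quadratic form Σ x_i y_i on F^(2m) (F finite, m ≥ 1, excluding m = 2 over the field of two elements) and an invertible m × m matrix A, the block-diagonal isometry diag(A, (A⁻¹)ᵀ), which stabilises the two maximal totally singular subspaces x = 0 and y = 0, lies in Ω⁺_2m(F) (the commutator subgroup of the orthogonal group) if and only if det A is a square in F. -/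
theorem result {F : Type*} [Field F] [Fintype F] {m : ℕ} (hm : 1 ≤ m) (h : Fintype.card F ≠ 2 ∨ m ≠ 2) (A : GL (Fin m) F) : (∃ g : ↥(Cfsg.isometryGroup F (Cfsg.quadFormPlus m F)), g ∈ Cfsg.Omega F (Cfsg.quadFormPlus m F) ∧ ((g : Matrix.GeneralLinearGroup (Fin m ⊕ Fin m) F) : Matrix (Fin m ⊕ Fin m) (Fin m ⊕ Fin m) F) = Matrix.fromBlocks (A : Matrix (Fin m) (Fin m) F) 0 0 ((A : Matrix (Fin m) (Fin m) F)⁻¹).transpose) ↔ IsSquare (A : Matrix (Fin m) (Fin m) F).det := by

  classical
  have hex : m = 2 → ∃ a : F, a ≠ 0 ∧ a ≠ 1 := by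
    intro hm2
    have hc : Fintype.card F ≠ 2 := by
      rcases h with h | h
      · exact h
      · exact absurd hm2 h
    have h1 : 1 < Fintype.card F := Fintype.one_lt_card
    have h3 : ({0, 1} : Finset F).card < (Finset.univ : Finset F).card := by
      rw [Finset.card_univ]
      have := Finset.card_le_two (a := (0 : F)) (b := 1)
      omega
    obtain ⟨a, -, ha⟩ := Finset.exists_mem_notMem_of_card_lt_card h3
    rw [Finset.mem_insert, Finset.mem_singleton, not_or] at ha
    exact ⟨a, ha.1, ha.2⟩
  constructor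
  · rintro ⟨g, hg, hmat⟩
    by_cases h2 : (2 : F) = 0
    · have : CharP F 2 := CharTwo.of_one_ne_zero_of_two_eq_zero one_ne_zero h2
      exact FiniteField.isSquare_of_char_two (ringChar.eq F 2) _
    · have hgA : g = Cfsg.Agent.Lib.Helper15.plusHom m F A := by
        apply Subtype.ext
        apply Units.ext
        rw [hmat]
        exact (Cfsg.Agent.Lib.Helper15.plusHom_val A).symm
      rw [hgA] at hg
      exact Cfsg.Agent.Lib.Helper15.isSquare_det_of_plusHom_mem h2 hm A hg
  · intro hsq
    exact ⟨Cfsg.Agent.Lib.Helper15.plusHom m F A,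
      Cfsg.Agent.Lib.Helper15.plusHom_mem_Omega_of_isSquare hm hex A hsq,
      Cfsg.Agent.Lib.Helper15.plusHom_val A⟩

end Cfsg.Agent.S2611
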