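-- Statement S2613
import Cfsg.Statements.S2613
import Mathlib
import Cfsg.Agent.Lib.Helper6.Spinor3
import Cfsg.Agent.Lib.Helper15.QuadF2a

set_option autoImplicit false
open Cfsg

namespace Cfsg.Agent.S2613

open Cfsg.Agent.Lib.Helper6 Cfsg.Agent.Lib.Helper15

/-- For the hyperbolic form Σ x_j y_j on F^(2m), F finite with q elements, q odd, and 1 ≤ i ≤ m: the involution negating the first i hyperbolic pairs (x_j, y_j ↦ −x_j, −y_j for j < i) and fixing the rest lies in Ω⁺_2m(q) (commutator subgroup of the orthogonal group) if and only if q^i ≡ 1 (mod 4); its (−1)-eigenspace is a hyperbolic 2i-space. -/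
theorem result {F : Type*} [Field F] [Fintype F] {q : ℕ} (hF : Fintype.card F = q) (hq : Odd q) {m : ℕ} (i : ℕ) (hi : 1 ≤ i) (him : i ≤ m) : (∃ g : ↥(Cfsg.isometryGroup F (Cfsg.quadFormPlus m F)), g ∈ Cfsg.Omega F (Cfsg.quadFormPlus m F) ∧ ((g : Matrix.GeneralLinearGroup (Fin m ⊕ Fin m) F) : Matrix (Fin m ⊕ Fin m) (Fin m ⊕ Fin m) F) = Matrix.diagonal (fun k : Fin m ⊕ Fin m => if (Sum.elim (fun j : Fin m => (j : ℕ)) (fun j : Fin m => (j : ℕ)) k) < i then (-1 : F) else 1)) ↔ q ^ i % 4 = 1 := by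
  classical
  subst hF
  have h2 : (2 : F) ≠ 0 := two_ne_zero_of_odd_card hq
  have hfun : Cfsg.quadFormPlus m F = ⇑(QPlus F m) := (funext (QPlus_apply F m)).symm
  rw [hfun, ← isSquare_neg_one_pow_iff hq i]
  have hsingle : ∀ (k k' : Fin m ⊕ Fin m), (Pi.single k (1 : F) : Fin m ⊕ Fin m → F) k' =
      if k' = k then 1 else 0 := fun k k' => by rw [Pi.single_apply]
  apply hyp_involution_mem_iff (QPlus F m) h2 (nondegenerate_QPlus F m)
    (by rw [Fintype.card_sum, Fintype.card_fin]; omega) (fun j => Sum.inl j) (fun j => Sum.inr j)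
  · intro j x
    rw [polar_QPlus]
    simp [hsingle, Finset.sum_ite_eq']
  · intro j x
    rw [polar_QPlus]
    simp [hsingle, Finset.sum_ite_eq']
  · intro j
    rw [QPlus_apply]
    unfold Cfsg.quadFormPlus
    simp [hsingle]
  · intro j
    rw [QPlus_apply]
    unfold Cfsg.quadFormPlus
    simp [hsingle]
  · exact him
  · intro j; rfl
  · intro j; rfl
  · intro k hk
    exfalso
    rcases k with j | j
    · exact (hk j).1 rfl
    · exact (hk j).2 rfl

end Cfsg.Agent.S2613
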