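-- Statement S2614
import Cfsg.Statements.S2614
import Mathlib
import Cfsg.Agent.Lib.Helper6.Spinor3
import Cfsg.Agent.Lib.Helper6.OrthForms

set_option autoImplicit false
open Cfsg

namespace Cfsg.Agent.S2614

open Cfsg.Agent.Lib.Helper6

/-- For the form x_0² + Σ x_j y_j on F^(2m+1), F finite with q elements, q odd, and 1 ≤ i ≤ m: the involution of determinant one negating the first i hyperbolic pairs (and fixing x_0 and the other pairs) lies in Ω_(2m+1)(q) (commutator subgroup of the orthogonal group) if and only if q^i ≡ 1 (mod 4); its (−1)-eigenspace is a hyperbolic 2i-space. -/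
theorem result {F : Type*} [Field F] [Fintype F] {q : ℕ} (hF : Fintype.card F = q) (hq : Odd q) {m : ℕ} (i : ℕ) (hi : 1 ≤ i) (him : i ≤ m) : (∃ g : ↥(Cfsg.isometryGroup F (Cfsg.quadFormOdd m F)), g ∈ Cfsg.Omega F (Cfsg.quadFormOdd m F) ∧ ((g : Matrix.GeneralLinearGroup (Unit ⊕ (Fin m ⊕ Fin m)) F) : Matrix (Unit ⊕ (Fin m ⊕ Fin m)) (Unit ⊕ (Fin m ⊕ Fin m)) F) = Matrix.diagonal (fun k : Unit ⊕ (Fin m ⊕ Fin m) => if (Sum.elim (fun _ : Unit => i) (Sum.elim (fun j : Fin m => (j : ℕ)) (fun j : Fin m => (j : ℕ))) k) < i then (-1 : F) else 1)) ↔ q ^ i % 4 = 1 := by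
  classical
  subst hF
  have h2 : (2 : F) ≠ 0 := two_ne_zero_of_odd_card hq
  have hfun : Cfsg.quadFormOdd m F = ⇑(QOdd F m) := (funext (QOdd_apply F m)).symm
  rw [hfun, ← isSquare_neg_one_pow_iff hq i]
  have hsingle : ∀ (k k' : Unit ⊕ (Fin m ⊕ Fin m)),
      (Pi.single k (1 : F) : Unit ⊕ (Fin m ⊕ Fin m) → F) k' =
      if k' = k then 1 else 0 := fun k k' => by rw [Pi.single_apply]
  apply hyp_involution_mem_iff (QOdd F m) h2 (nondegenerate_QOdd F h2 m)
    (by rw [Fintype.card_sum, Fintype.card_sum, Fintype.card_fin]; simp; omega)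
    (fun j => Sum.inr (Sum.inl j)) (fun j => Sum.inr (Sum.inr j))
  · intro j x
    rw [polar_QOdd]
    simp [hsingle, Finset.sum_ite_eq']
  · intro j x
    rw [polar_QOdd]
    simp [hsingle, Finset.sum_ite_eq']
  · intro j
    rw [QOdd_apply]
    unfold Cfsg.quadFormOdd
    simp [hsingle]
  · intro j
    rw [QOdd_apply]
    unfold Cfsg.quadFormOdd
    simp [hsingle]
  · exact him
  · intro j; rfl
  · intro j; rfl
  · intro k hk
    rcases k with j | j | j
    · exact le_rfl
    · exact absurd rfl (hk j).1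
    · exact absurd rfl (hk j).2

end Cfsg.Agent.S2614
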