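-- Statement S2615
import Cfsg.Statements.S2615
import Mathlib
import Cfsg.Agent.Lib.Helper6.Spinor3
import Cfsg.Agent.Lib.Helper15.QuadCount6

set_option autoImplicit false
open Cfsg

namespace Cfsg.Agent.S2615

open Cfsg.Agent.Lib.Helper6 Cfsg.Agent.Lib.Helper15

/-- For an elliptic form Σ_(j<m−1) x_j y_j + (z₁² + a z₁z₂ + b z₂²) (anisotropic binary part) on F^(2m), F finite with q elements, q odd, and 1 ≤ i ≤ m − 1: the involution negating the first i hyperbolic pairs and fixing the rest lies in Ω⁻_2m(q) (commutator subgroup of the orthogonal group) if and only if q^i ≡ 1 (mod 4). -/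
theorem result {F : Type*} [Field F] [Fintype F] {q : ℕ} (hF : Fintype.card F = q) (hq : Odd q) {m : ℕ} (a b : F) (hab : ∀ z₁ z₂ : F, z₁ ^ 2 + a * z₁ * z₂ + b * z₂ ^ 2 = 0 → z₁ = 0 ∧ z₂ = 0) (i : ℕ) (hi : 1 ≤ i) (him : i + 1 ≤ m) : (∃ g : ↥(Cfsg.isometryGroup F (Cfsg.quadFormMinus (m - 1) F a b)), g ∈ Cfsg.Omega F (Cfsg.quadFormMinus (m - 1) F a b) ∧ ((g : Matrix.GeneralLinearGroup ((Fin (m - 1) ⊕ Fin (m - 1)) ⊕ Fin 2) F) : Matrix ((Fin (m - 1) ⊕ Fin (m - 1)) ⊕ Fin 2) ((Fin (m - 1) ⊕ Fin (m - 1)) ⊕ Fin 2) F) = Matrix.diagonal (fun k : (Fin (m - 1) ⊕ Fin (m - 1)) ⊕ Fin 2 => if (Sum.elim (Sum.elim (fun j : Fin (m - 1) => (j : ℕ)) (fun j : Fin (m - 1) => (j : ℕ))) (fun _ : Fin 2 => i) k) < i then (-1 : F) else 1)) ↔ q ^ i % 4 = 1 := by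
  classical
  subst hF
  have h2 : (2 : F) ≠ 0 := two_ne_zero_of_odd_card hq
  have hfun : Cfsg.quadFormMinus (m - 1) F a b = ⇑(Qgen (m - 1) (binForm a b)) := by
    funext v
    rw [Qgen_apply, binForm_apply]
    rfl
  have hT := nondegenerate_binForm a b hab
  rw [hfun, ← isSquare_neg_one_pow_iff hq i]
  have hsingle : ∀ (k k' : (Fin (m - 1) ⊕ Fin (m - 1)) ⊕ Fin 2),
      (Pi.single k (1 : F) : (Fin (m - 1) ⊕ Fin (m - 1)) ⊕ Fin 2 → F) k' =
      if k' = k then 1 else 0 := fun k k' => by rw [Pi.single_apply]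
  apply hyp_involution_mem_iff (Qgen (m - 1) (binForm a b)) h2
    (nondegenerate_Qgen (m - 1) (binForm a b) hT)
    (by rw [Fintype.card_sum, Fintype.card_sum, Fintype.card_fin]; simp)
    (fun j => Sum.inl (Sum.inl j)) (fun j => Sum.inl (Sum.inr j))
  · intro j x
    rw [polar_Qgen]
    have h4 : (fun c => (Pi.single (Sum.inl (Sum.inl j)) 1 :
        (Fin (m - 1) ⊕ Fin (m - 1)) ⊕ Fin 2 → F) (Sum.inr c)) = 0 := by
      funext c; simp
    rw [h4, QuadraticMap.polar_zero_left]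
    simp [hsingle, Finset.sum_ite_eq']
  · intro j x
    rw [polar_Qgen]
    have h4 : (fun c => (Pi.single (Sum.inl (Sum.inr j)) 1 :
        (Fin (m - 1) ⊕ Fin (m - 1)) ⊕ Fin 2 → F) (Sum.inr c)) = 0 := by
      funext c; simp
    rw [h4, QuadraticMap.polar_zero_left]
    simp [hsingle, Finset.sum_ite_eq']
  · intro j
    rw [Qgen_apply]
    have h4 : (fun c => (Pi.single (Sum.inl (Sum.inl j)) 1 :
        (Fin (m - 1) ⊕ Fin (m - 1)) ⊕ Fin 2 → F) (Sum.inr c)) = 0 := by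
      funext c; simp
    rw [h4, map_zero]
    simp [hsingle]
  · intro j
    rw [Qgen_apply]
    have h4 : (fun c => (Pi.single (Sum.inl (Sum.inr j)) 1 :
        (Fin (m - 1) ⊕ Fin (m - 1)) ⊕ Fin 2 → F) (Sum.inr c)) = 0 := by
      funext c; simp
    rw [h4, map_zero]
    simp [hsingle]
  · omega
  · intro j; rfl
  · intro j; rfl
  · intro k hk
    rcases k with (j | j) | j
    · exact absurd rfl (hk j).1
    · exact absurd rfl (hk j).2
    · exact le_rfl

end Cfsg.Agent.S2615
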