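import Cfsg.Statements.S2616
import Cfsg.Agent.Lib.Helper15.Witt5

set_option autoImplicit false
open Cfsg

namespace Cfsg.Agent.S2616

open Cfsg.Agent.Lib.Helper15 Module QuadraticMap

/-- A non-degenerate quadratic space of even dimension 2m over a finite field has either a hyperbolic basis or an elliptic basis (m − 1 hyperbolic pairs plus an anisotropic plane x, y with Q(x) = 1, f(x,y) = 1, Q(y) = ζ, t² + t + ζ irreducible). -/
theorem result {F V : Type*} [Field F] [Finite F] [AddCommGroup V] [Module F V] [FiniteDimensional F V] {m : ℕ} (hm : 1 ≤ m) (hV : Module.finrank F V = 2 * m) (Q : QuadraticForm F V) (hQ : (QuadraticMap.polarBilin Q).Nondegenerate) : (∃ b : Module.Basis (Fin m ⊕ Fin m) F V, (∀ i, Q (b (Sum.inl i)) = 0 ∧ Q (b (Sum.inr i)) = 0) ∧ (∀ i j, QuadraticMap.polar ⇑Q (b (Sum.inl i)) (b (Sum.inr j)) = if i = j then 1 else 0) ∧ (∀ i j, QuadraticMap.polar ⇑Q (b (Sum.inl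 i)) (b (Sum.inl j)) = 0 ∧ QuadraticMap.polar ⇑Q (b (Sum.inr i)) (b (Sum.inr j)) = 0)) ∨ (∃ (b : Module.Basis ((Fin (m - 1) ⊕ Fin (m - 1)) ⊕ Fin 2) F V) (ζ : F), (∀ t : F, t ^ 2 + t + ζ ≠ 0) ∧ (∀ i, Q (b (Sum.inl (Sum.inl i))) = 0 ∧ Q (b (Sum.inl (Sum.inr i))) = 0) ∧ (∀ i j, QuadraticMap.polar ⇑Q (b (Sum.inl (Sum.inl i))) (b (Sum.inl (Sum.inr j))) = if i = j then 1 else 0) ∧ (∀ i j, QuadraticMap.polar ⇑Q (b (Sum.inl (Sum.inl i))) (b (Sum.inl (Sum.inl j))) = 0 ∧ QuadraticMap.polar ⇑Q (b (Sum.inl (Sum.inr i))) (b (Sum.inl (Sum.inr j))) = 0) ∧ (∀ i (k : Fin 2), QuadraticMap.polar ⇑Q (b (Sum.inl (Sum.inl i))) (b (Sum.inr k)) = 0 ∧ QuadraticMap.polar ⇑Q (b (Sum.inl (Sum.inr i))) (b (Sum.inr k)) = 0) ∧ Q (b (Sum.inr 0)) = 1 ∧ QuadraticMap.polar ⇑Q (b (Sum.inr 0)) (b (Sum.inr 1)) = 1 ∧ Q (b (Sum.inr 1)) = ζ) := by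
  obtain ⟨k, e, f, hyp, hcase⟩ := witt_main (2 * m) Q hQ hV
  rcases hcase with h | ⟨h, -⟩ | ⟨h, x, y, ζ, hx, hxy, hy, hirr, hxyef⟩
  · left
    obtain rfl : k = m := by omega
    obtain ⟨b, hbe, hbf⟩ := hyp_basis Q (by omega) e f hyp hV
    obtain ⟨he, hf, hef, hee, hff⟩ := hyp
    refine ⟨b, ?_, ?_, ?_⟩
    · intro i
      rw [hbe, hbf]
      exact ⟨he i, hf i⟩
    · intro i j
      rw [hbe, hbf]
      exact hef i j
    · intro i j
      rw [hbe, hbe, hbf, hbf]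
      exact ⟨hee i j, hff i j⟩
  · omega
  · right
    obtain rfl : k = m - 1 := by omega
    obtain ⟨b, hbe, hbf, hbx, hby⟩ := ell_basis Q e f hyp (by omega) x y ζ hx hxy hy hirr hxyef
    obtain ⟨he, hf, hef, hee, hff⟩ := hyp
    refine ⟨b, ζ, hirr, ?_, ?_, ?_, ?_, ?_, ?_, ?_⟩
    · intro i
      rw [hbe, hbf]
      exact ⟨he i, hf i⟩
    · intro i j
      rw [hbe, hbf]
      exact hef i j
    · intro i j
      rw [hbe, hbe, hbf, hbf]
      exact ⟨hee i j, hff i j⟩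
    · intro i k
      obtain ⟨h1, h2, h3, h4⟩ := hxyef i
      rw [hbe, hbf]
      fin_cases k
      · show polar Q (e i) (b (Sum.inr 0)) = 0 ∧ polar Q (f i) (b (Sum.inr 0)) = 0
        rw [hbx, polar_comm Q (e i), polar_comm Q (f i)]
        exact ⟨h1, h2⟩
      · show polar Q (e i) (b (Sum.inr 1)) = 0 ∧ polar Q (f i) (b (Sum.inr 1)) = 0
        rw [hby, polar_comm Q (e i), polar_comm Q (f i)]
        exact ⟨h3, h4⟩
    · rw [hbx]; exact hx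
    · rw [hbx, hby]; exact hxy
    · rw [hby]; exact hy

end Cfsg.Agent.S2616
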