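import Cfsg.Statements.S2618
import Cfsg.Agent.Lib.Helper15.Witt5

set_option autoImplicit false
open Cfsg

namespace Cfsg.Agent.S2618

open Cfsg.Agent.Lib.Helper15 Module QuadraticMap

/-- A non-degenerate quadratic space of odd dimension 2m+1 over a finite field has a basis of m hyperbolic pairs plus an orthogonal vector x with Q(x) ≠ 0. -/
theorem result {F V : Type*} [Field F] [Finite F] [AddCommGroup V] [Module F V] [FiniteDimensional F V] {m : ℕ} (hV : Module.finrank F V = 2 * m + 1) (Q : QuadraticForm F V) (hQ : (QuadraticMap.polarBilin Q).Nondegenerate) : ∃ b : Module.Basis (Unit ⊕ (Fin m ⊕ Fin m)) F V, Q (b (Sum.inl ())) ≠ 0 ∧ (∀ i, QuadraticMap.polar ⇑Q (b (Sum.inl ())) (b (Sum.inr (Sum.inl i))) = 0 ∧ QuadraticMap.polar ⇑Q (b (Sum.inl ())) (b (Sum.inr (Sum.inr i))) = 0) ∧ (∀ i, Q (b (Sum.inr (Sum.inl i))) = 0 ∧ Q (b (Sum.inr (Sum.inr i))) = 0) ∧ (∀ i j, QuadraticMap.polar ⇑Q (b (Sum.inr (Sum.inl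 i))) (b (Sum.inr (Sum.inr j))) = if i = j then 1 else 0) ∧ (∀ i j, QuadraticMap.polar ⇑Q (b (Sum.inr (Sum.inl i))) (b (Sum.inr (Sum.inl j))) = 0 ∧ QuadraticMap.polar ⇑Q (b (Sum.inr (Sum.inr i))) (b (Sum.inr (Sum.inr j))) = 0) := by
  obtain ⟨k, e, f, hyp, hcase⟩ := witt_main (2 * m + 1) Q hQ hV
  rcases hcase with h | ⟨h, z, hz, hzef⟩ | ⟨h, -⟩
  · omega
  · obtain rfl : k = m := by omega
    obtain ⟨b, hbz, hbe, hbf⟩ := odd_basis Q e f hyp hV z hz hzef
    obtain ⟨he, hf, hef, hee, hff⟩ := hyp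
    refine ⟨b, ?_, ?_, ?_, ?_, ?_⟩
    · rw [hbz]; exact hz
    · intro i
      rw [hbz, hbe, hbf]
      exact hzef i
    · intro i
      rw [hbe, hbf]
      exact ⟨he i, hf i⟩
    · intro i j
      rw [hbe, hbf]
      exact hef i j
    · intro i j
      rw [hbe, hbe, hbf, hbf]
      exact ⟨hee i j, hff i j⟩
  · omega

end Cfsg.Agent.S2618
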