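import Cfsg.Statements.S2619
import Mathlib

set_option autoImplicit false
open Cfsg

namespace Cfsg.Agent.S2619

open QuadraticMap

/-- Over a finite field of characteristic two, given an alternating bilinear form B on a finite-dimensional space, a basis (v_i) and scalars (λ_i), there is exactly one quadratic form whose polar form is B and whose value at each v_i is λ_i. -/
theorem result {F V ι : Type*} [Field F] [Finite F] [CharP F 2] [AddCommGroup V] [Module F V] [Fintype ι] (b : Module.Basis ι F V) (B : LinearMap.BilinForm F V) (hB : B.IsAlt) (c : ι → F) : ∃! Q : QuadraticForm F V, QuadraticMap.polarBilin Q = B ∧ ∀ i, Q (b i) = c i := by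
  classical
  let _ : LinearOrder ι := IsWellOrder.linearOrder WellOrderingRel
  let A : LinearMap.BilinForm F V :=
    b.constr (S := F) fun i => b.constr (S := F) fun j =>
      if i = j then c i else if i < j then B (b i) (b j) else 0
  have hA : ∀ i j, A (b i) (b j) = if i = j then c i else if i < j then B (b i) (b j) else 0 := by
    intro i j
    show ((b.constr (S := F) fun i => b.constr (S := F) fun j =>
      if i = j then c i else if i < j then B (b i) (b j) else 0) (b i)) (b j) = _
    rw [Module.Basis.constr_basis, Module.Basis.constr_basis]
  refine ⟨A.toQuadraticMap, ⟨?_, ?_⟩, ?_⟩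
  · rw [LinearMap.BilinMap.polarBilin_toQuadraticMap]
    apply b.ext
    intro i
    apply b.ext
    intro j
    simp only [LinearMap.add_apply, LinearMap.flip_apply, hA]
    rcases lt_trichotomy i j with h | h | h
    · simp [h.ne, h, h.ne', h.not_gt]
    · subst h
      simp [hB.self_eq_zero, CharTwo.add_self_eq_zero]
    · have h1 : B (b j) (b i) = B (b i) (b j) := by
        have := hB.neg_eq (b i) (b j)
        rw [CharTwo.neg_eq] at this
        exact this.symm
      simp [h.ne, h, h.ne', h.not_gt, h1]
  · intro i
    rw [LinearMap.BilinMap.toQuadraticMap_apply, hA]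
    simp
  · rintro Q ⟨hQ1, hQ2⟩
    have key : Q.toBilin b = A := by
      apply b.ext
      intro i
      apply b.ext
      intro j
      rw [QuadraticMap.toBilin_apply, hA, hQ2]
      have : polar Q (b i) (b j) = B (b i) (b j) := by
        rw [← hQ1]; rfl
      rw [this]
    rw [← key, QuadraticMap.toQuadraticMap_toBilin]

end Cfsg.Agent.S2619
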