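import Cfsg.Statements.S2620
import Cfsg.Agent.Lib.Helper15.Gram

set_option autoImplicit false
open Cfsg

namespace Cfsg.Agent.S2620

open Matrix Cfsg.Agent.Lib.Helper15

theorem polar_plus {F : Type*} [Field F] (m : ℕ) (u v : Fin m ⊕ Fin m → F) :
    QuadraticMap.polar (Cfsg.quadFormPlus m F) u v =
      u ⬝ᵥ ((Matrix.fromBlocks (0 : Matrix (Fin m) (Fin m) F) (1 : Matrix (Fin m) (Fin m) F)
        (1 : Matrix (Fin m) (Fin m) F) (0 : Matrix (Fin m) (Fin m) F)) *ᵥ v) := by
  simp only [QuadraticMap.polar, Cfsg.quadFormPlus, Matrix.fromBlocks_mulVec, dotProduct,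
    Fintype.sum_sum_type, Sum.elim_inl, Sum.elim_inr, Matrix.zero_mulVec, Matrix.one_mulVec, zero_add,
    add_zero, Pi.add_apply, Function.comp_apply]
  rw [← Finset.sum_sub_distrib, ← Finset.sum_sub_distrib, ← Finset.sum_add_distrib]
  refine Finset.sum_congr rfl fun i _ => ?_
  ring

/-- Discriminant of the hyperbolic quadratic form Σ_(i<m) x_i y_i over a field with q elements, q odd, m ≥ 1: the determinant of the Gram matrix of its polar form in any basis is a square if and only if m(q − 1)/2 is even (equivalently q^m ≡ 1 (mod 4)). -/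
theorem result {F : Type*} [Field F] [Fintype F] {q : ℕ} (hF : Fintype.card F = q) (hq : Odd q) {m : ℕ} (hm : 1 ≤ m) {ι : Type*} [Fintype ι] [DecidableEq ι] (b : Module.Basis ι F (Fin m ⊕ Fin m → F)) : IsSquare (Matrix.of (fun i j : ι => QuadraticMap.polar (Cfsg.quadFormPlus m F) (b i) (b j))).det ↔ Even (m * (q - 1) / 2) := by
  classical
  obtain ⟨d, hd0, hd⟩ := gram_det (Matrix.fromBlocks (0 : Matrix (Fin m) (Fin m) F) (1 : Matrix (Fin m) (Fin m) F)
        (1 : Matrix (Fin m) (Fin m) F) (0 : Matrix (Fin m) (Fin m) F)) b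
  have h1 : (Matrix.of (fun i j : ι => QuadraticMap.polar (Cfsg.quadFormPlus m F) (b i) (b j))) =
      Matrix.of fun i j : ι => (b i) ⬝ᵥ ((Matrix.fromBlocks (0 : Matrix (Fin m) (Fin m) F) (1 : Matrix (Fin m) (Fin m) F)
        (1 : Matrix (Fin m) (Fin m) F) (0 : Matrix (Fin m) (Fin m) F)) *ᵥ (b j)) := by
    ext i j
    simp only [Matrix.of_apply]
    exact polar_plus m (b i) (b j)
  rw [h1, hd, det_swapBlocks, ← isSquare_neg_one_pow_iff hF hq m]
  constructor
  · rintro ⟨r, hr⟩
    refine ⟨r / d, ?_⟩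
    field_simp
    linear_combination hr
  · rintro ⟨r, hr⟩
    refine ⟨d * r, ?_⟩
    rw [hr]; ring

end Cfsg.Agent.S2620
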