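import Cfsg.Statements.S2621
import Cfsg.Agent.Lib.Helper15.Gram

set_option autoImplicit false
open Cfsg

namespace Cfsg.Agent.S2621

open Matrix Cfsg.Agent.Lib.Helper15

/-- Gram matrix of the polar form of `quadFormMinus` in the standard basis. -/
def gramMinus {F : Type*} [Field F] (n : ℕ) (a c : F) :
    Matrix ((Fin n ⊕ Fin n) ⊕ Fin 2) ((Fin n ⊕ Fin n) ⊕ Fin 2) F :=
  Matrix.fromBlocks
    (Matrix.fromBlocks (0 : Matrix (Fin n) (Fin n) F) (1 : Matrix (Fin n) (Fin n) F)
        (1 : Matrix (Fin n) (Fin n) F) (0 : Matrix (Fin n) (Fin n) F))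
    (0 : Matrix (Fin n ⊕ Fin n) (Fin 2) F) (0 : Matrix (Fin 2) (Fin n ⊕ Fin n) F)
    (!![2, a; a, 2 * c] : Matrix (Fin 2) (Fin 2) F)

theorem polar_minus {F : Type*} [Field F] (n : ℕ) (a c : F) (u v : (Fin n ⊕ Fin n) ⊕ Fin 2 → F) :
    QuadraticMap.polar (Cfsg.quadFormMinus n F a c) u v = u ⬝ᵥ (gramMinus n a c *ᵥ v) := by
  simp only [gramMinus, Matrix.fromBlocks_mulVec, Matrix.zero_mulVec, Matrix.one_mulVec, zero_add, add_zero]
  simp only [dotProduct, Fintype.sum_sum_type, Sum.elim_inl, Sum.elim_inr, Function.comp_apply, Fin.sum_univ_two]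
  simp only [Matrix.mulVec, dotProduct, Fin.sum_univ_two, Matrix.of_apply,
    Matrix.cons_val', Matrix.cons_val_zero, Matrix.cons_val_one, Matrix.empty_val',
    Matrix.cons_val_fin_one, Function.comp_apply]
  simp only [QuadraticMap.polar, Cfsg.quadFormMinus, Pi.add_apply]
  have e1 : ∀ (A B C A' B' C' : F), (A + A') - (B + B') - (C + C') = (A - B - C) + (A' - B' - C') := by
    intros; ring
  rw [e1, ← Finset.sum_sub_distrib, ← Finset.sum_sub_distrib, ← Finset.sum_add_distrib]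
  congr 1
  · refine Finset.sum_congr rfl fun i _ => ?_
    ring
  · ring

theorem det_gramMinus {F : Type*} [Field F] (n : ℕ) (a c : F) :
    (gramMinus n a c).det = (-1) ^ n * (4 * c - a ^ 2) := by
  rw [gramMinus, Matrix.det_fromBlocks_zero₂₁, det_swapBlocks, Matrix.det_fin_two_of]
  ring

theorem isSquare_mul_nonsquare {F : Type*} [Field F] [Fintype F] (x δ : F) (hx : x ≠ 0) (hδ : ¬ IsSquare δ) :
    IsSquare (x * δ) ↔ ¬ IsSquare x := by
  classical
  have hδ0 : δ ≠ 0 := by
    rintro rfl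
    exact hδ (IsSquare.zero)
  rw [← quadraticChar_one_iff_isSquare (mul_ne_zero hx hδ0), map_mul,
    quadraticChar_neg_one_iff_not_isSquare.mpr hδ, ← quadraticChar_neg_one_iff_not_isSquare]
  constructor
  · intro h; linarith
  · intro h; rw [h]; norm_num

/-- Discriminant of an elliptic quadratic form Σ_(i<m−1) x_i y_i + z₁² + a z₁z₂ + c z₂² (binary part anisotropic) in dimension 2m over a field with q elements, q odd, m ≥ 1: the determinant of the Gram matrix of its polar form in any basis is a square if and only if m(q − 1)/2 is odd (equivalently q^m ≡ 3 (mod 4)). -/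
theorem result {F : Type*} [Field F] [Fintype F] {q : ℕ} (hF : Fintype.card F = q) (hq : Odd q) {m : ℕ} (hm : 1 ≤ m) (a c : F) (hac : ∀ z₁ z₂ : F, z₁ ^ 2 + a * z₁ * z₂ + c * z₂ ^ 2 = 0 → z₁ = 0 ∧ z₂ = 0) {ι : Type*} [Fintype ι] [DecidableEq ι] (b : Module.Basis ι F ((Fin (m - 1) ⊕ Fin (m - 1)) ⊕ Fin 2 → F)) : IsSquare (Matrix.of (fun i j : ι => QuadraticMap.polar (Cfsg.quadFormMinus (m - 1) F a c) (b i) (b j))).det ↔ ¬ Even (m * (q - 1) / 2) := by
  classical
  obtain ⟨d, hd0, hd⟩ := gram_det (gramMinus (m - 1) a c) b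
  have h1 : (Matrix.of (fun i j : ι => QuadraticMap.polar (Cfsg.quadFormMinus (m - 1) F a c) (b i) (b j))) =
      Matrix.of fun i j : ι => (b i) ⬝ᵥ (gramMinus (m - 1) a c *ᵥ (b j)) := by
    ext i j
    simp only [Matrix.of_apply]
    exact polar_minus (m - 1) a c (b i) (b j)
  have h2 : (2 : F) ≠ 0 := by
    apply Ring.two_ne_zero
    intro h
    have := FiniteField.even_card_of_char_two h
    rw [hF] at this
    rcases hq with ⟨k, hk⟩
    omega
  -- the discriminant of the binary form is a non-square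
  have hδ : ¬ IsSquare (a ^ 2 - 4 * c) := by
    rintro ⟨s, hs⟩
    have := hac ((s - a) / 2) 1 (by
      field_simp
      linear_combination (-1 : F) * hs)
    exact one_ne_zero this.2
  rw [h1, hd, det_gramMinus, ← isSquare_neg_one_pow_iff hF hq m]
  have hm' : m = (m - 1) + 1 := by omega
  have h3 : d ^ 2 * ((-1) ^ (m - 1) * (4 * c - a ^ 2)) = (d ^ 2 * (-1) ^ m) * (a ^ 2 - 4 * c) := by
    conv_rhs => rw [hm', pow_succ]
    ring
  rw [h3, isSquare_mul_nonsquare _ _ (mul_ne_zero (pow_ne_zero 2 hd0) (pow_ne_zero m (by norm_num))) hδ, not_iff_not]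
  constructor
  · rintro ⟨r, hr⟩
    refine ⟨r / d, ?_⟩
    field_simp
    linear_combination hr
  · rintro ⟨r, hr⟩
    refine ⟨d * r, ?_⟩
    rw [hr]; ring

end Cfsg.Agent.S2621
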