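import Cfsg.Statements.S2622

set_option autoImplicit false
open Cfsg

namespace Cfsg.Agent.S2622

open Module LinearMap LinearMap.BilinForm

theorem exists_good_vector {F V : Type*} [Field F] [Finite F] [CharP F 2] [AddCommGroup V]
    [Module F V] [FiniteDimensional F V] (B : LinearMap.BilinForm F V) (hS : B.IsSymm)
    (hB : B.Nondegenerate) (hna : ∃ v : V, B v v ≠ 0) (h2 : 2 ≤ Module.finrank F V) :
    ∃ x : V, B x x = 1 ∧ ∃ u, B x u = 0 ∧ B u u ≠ 0 := by
  haveI : CharP F 2 := inferInstance
  have h2F : ∀ a : F, a + a = 0 := fun a => CharTwo.add_self_eq_zero a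
  obtain ⟨v, hv⟩ := hna
  obtain ⟨s, hs⟩ := FiniteField.isSquare_of_char_two (ringChar.eq F 2) (B v v)
  have hs0 : s ≠ 0 := by
    rintro rfl
    simp at hs
    exact hv hs
  have hx1 : B (s⁻¹ • v) (s⁻¹ • v) = 1 := by
    simp only [map_smul, LinearMap.smul_apply, smul_eq_mul, hs]
    field_simp
  obtain ⟨x, hx⟩ : ∃ x, x = s⁻¹ • v := ⟨_, rfl⟩
  rw [← hx] at hx1
  by_cases hex : ∃ u, B x u = 0 ∧ B u u ≠ 0
  · exact ⟨x, hx1, hex⟩
  push Not at hex
  have hsymm : ∀ a b, B a b = B b a := fun a b => (hS.eq a b).symm ▸ rfl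
  have hx0 : x ≠ 0 := by
    rintro rfl
    simp at hx1
  -- pick y outside span x
  obtain ⟨y, hy⟩ : ∃ y : V, y ∉ (F ∙ x) := by
    by_contra hcon
    push Not at hcon
    have htop : (F ∙ x) = ⊤ := by
      rw [eq_top_iff]
      intro z _
      exact hcon z
    have h1 : Module.finrank F (F ∙ x) = 1 := finrank_span_singleton hx0
    rw [htop, finrank_top] at h1
    omega
  -- w = y + (B x y) • x
  obtain ⟨w, hw⟩ : ∃ w, w = y + (B x y) • x := ⟨_, rfl⟩
  have hxw : B x w = 0 := by
    rw [hw, map_add, map_smul, hx1, smul_eq_mul, mul_one]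
    exact h2F _
  have hw0 : w ≠ 0 := by
    intro h0
    apply hy
    rw [h0] at hw
    have : y = -((B x y) • x) := by
      rw [eq_neg_iff_add_eq_zero]; exact hw.symm
    rw [this]
    exact Submodule.neg_mem _ (Submodule.smul_mem _ _ (Submodule.mem_span_singleton_self x))
  obtain ⟨z, hz⟩ : ∃ z, B w z ≠ 0 := by
    by_contra hcon
    push Not at hcon
    exact hw0 (hB.1 w hcon)
  obtain ⟨w'', hw''⟩ : ∃ w'', w'' = z + (B x z) • x := ⟨_, rfl⟩
  have hxw'' : B x w'' = 0 := by
    rw [hw'', map_add, map_smul, hx1, smul_eq_mul, mul_one]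
    exact h2F _
  have hww'' : B w w'' = B w z := by
    rw [hw'', map_add, map_smul, hsymm w x, hxw, smul_zero, add_zero]
  obtain ⟨w', hw'⟩ : ∃ w', w' = (B w z)⁻¹ • w'' := ⟨_, rfl⟩
  have hxw' : B x w' = 0 := by
    rw [hw', map_smul, hxw'', smul_zero]
  have hww' : B w w' = 1 := by
    rw [hw', map_smul, hww'', smul_eq_mul, inv_mul_cancel₀ hz]
  have hwwz : B w w = 0 := hex w hxw
  have hw'w'z : B w' w' = 0 := hex w' hxw'
  refine ⟨x + w, ?_, x + w', ?_, ?_⟩
  · simp only [map_add, LinearMap.add_apply, hx1, hxw, hsymm w x, hwwz, add_zero]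
  · simp only [map_add, LinearMap.add_apply, hx1, hxw', hsymm w x, hxw, hww', add_zero, zero_add]
    exact h2F 1
  · simp only [map_add, LinearMap.add_apply, hx1, hxw', hsymm w' x, hw'w'z, add_zero]
    exact one_ne_zero

theorem main {F : Type*} [Field F] [Finite F] [CharP F 2] (n : ℕ) :
    ∀ {V : Type*} [AddCommGroup V] [Module F V] [FiniteDimensional F V]
    (hV : Module.finrank F V = n) (B : LinearMap.BilinForm F V) (hS : B.IsSymm)
    (hB : B.Nondegenerate) (hna : n = 0 ∨ ∃ v : V, B v v ≠ 0),
    ∃ b : Module.Basis (Fin n) F V, ∀ i j, B (b i) (b j) = if i = j then 1 else 0 := by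
  induction n with
  | zero =>
    intro V _ _ _ hV B hS hB hna
    exact ⟨basisOfFinrankZero hV, fun i => i.elim0⟩
  | succ d ih =>
    intro V _ _ _ hV B hS hB hna
    have hna' : ∃ v : V, B v v ≠ 0 := by
      rcases hna with h | h
      · omega
      · exact h
    -- choose x
    obtain ⟨x, hx1, hxu⟩ : ∃ x : V, B x x = 1 ∧ (d = 0 ∨ ∃ u, B x u = 0 ∧ B u u ≠ 0) := by
      rcases Nat.eq_zero_or_pos d with hd | hd
      · haveI : CharP F 2 := inferInstance
        obtain ⟨v, hv⟩ := hna'
        obtain ⟨s, hs⟩ := FiniteField.isSquare_of_char_two (ringChar.eq F 2) (B v v)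
        have hs0 : s ≠ 0 := by
          rintro rfl
          simp at hs
          exact hv hs
        refine ⟨s⁻¹ • v, ?_, Or.inl hd⟩
        simp only [map_smul, LinearMap.smul_apply, smul_eq_mul, hs]
        field_simp
      · obtain ⟨x, hx1, hxu⟩ := exists_good_vector B hS hB hna' (by omega)
        exact ⟨x, hx1, Or.inr hxu⟩
    have hx : B x x ≠ 0 := by rw [hx1]; exact one_ne_zero
    have hd := hV
    rw [← Submodule.finrank_add_eq_of_isCompl (BilinForm.isCompl_span_singleton_orthogonal hx).symm,
      finrank_span_singleton (ne_zero_of_map hx)] at hd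
    have hB' := restrict_nondegenerate_orthogonal_spanSingleton B hB hS.isRefl hx
    have hS' : (B.restrict (B.orthogonal (F ∙ x))).IsSymm := hS.restrict _
    obtain ⟨v', hv₁⟩ := ih (by omega) (B.restrict (B.orthogonal (F ∙ x))) hS' hB' (by
      rcases hxu with h | ⟨u, hu1, hu2⟩
      · exact Or.inl h
      · right
        refine ⟨⟨u, ?_⟩, hu2⟩
        intro y hy
        obtain ⟨c, rfl⟩ := Submodule.mem_span_singleton.1 hy
        simp [hu1])
    let b :=
      Basis.mkFinCons x v'
        (by
          rintro c y hy hc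
          rw [add_eq_zero_iff_neg_eq] at hc
          rw [← hc, Submodule.neg_mem_iff] at hy
          have := (BilinForm.isCompl_span_singleton_orthogonal hx).disjoint
          rw [Submodule.disjoint_def] at this
          have := this (c • x) (Submodule.smul_mem _ _ <| Submodule.mem_span_singleton_self _) hy
          exact (smul_eq_zero.1 this).resolve_right fun h => hx <| h.symm ▸ map_zero _)
        (by
          intro y
          refine ⟨-B x y / B x x, fun z hz => ?_⟩
          obtain ⟨c, rfl⟩ := Submodule.mem_span_singleton.1 hz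
          rw [map_smul, LinearMap.smul_apply, map_add, map_smul, smul_eq_mul, smul_eq_mul,
            div_mul_cancel₀ _ hx, add_neg_cancel, mul_zero])
    refine ⟨b, ?_⟩
    have hb : ⇑b = Fin.cons x (Subtype.val ∘ v') := Basis.coe_mkFinCons _ _ _ _
    rw [hb]
    intro i j
    refine Fin.cases ?_ (fun i => ?_) i <;> refine Fin.cases ?_ (fun j => ?_) j <;>
      simp only [Fin.cons_zero, Fin.cons_succ, Function.comp_apply]
    · simp [hx1]
    · have h0 : B x (v' j) = 0 := by
        have := (v' j).prop x (Submodule.mem_span_singleton_self x)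
        exact this
      rw [h0, if_neg (Fin.succ_ne_zero j).symm]
    · have h0 : B (v' i) x = 0 := by
        rw [← hS.eq]
        have := (v' i).prop x (Submodule.mem_span_singleton_self x)
        exact this
      rw [h0, if_neg (Fin.succ_ne_zero i)]
    · have := hv₁ i j
      simp only [Fin.succ_inj]
      exact this

/-- Over a finite field of characteristic two, a non-degenerate symmetric bilinear form that is not alternating (some vector v has B(v, v) ≠ 0) admits an orthonormal basis. -/
theorem result {F V : Type*} [Field F] [Finite F] [CharP F 2] [AddCommGroup V] [Module F V] [FiniteDimensional F V] {n : ℕ} (hV : Module.finrank F V = n) (B : LinearMap.BilinForm F V) (hS : B.IsSymm) (hB : B.Nondegenerate) (hna : ∃ v : V, B v v ≠ 0) : ∃ b : Module.Basis (Fin n) F V, ∀ i j, B (b i) (b j) = if i = j then 1 else 0 := by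
  exact main n hV B hS hB (Or.inr hna)

end Cfsg.Agent.S2622
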