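import Cfsg.Statements.S2623

set_option autoImplicit false
open Cfsg

namespace Cfsg.Agent.S2623

section part1
open Module LinearMap LinearMap.BilinForm Polynomial

theorem exists_self_eq_one {F V : Type*} [Field F] [Fintype F] (h2 : (2 : F) ≠ 0)
    [AddCommGroup V] [Module F V] [FiniteDimensional F V]
    (B : LinearMap.BilinForm F V) (hS : B.IsSymm) (hB : B.Nondegenerate)
    (hV : 2 ≤ Module.finrank F V) : ∃ v : V, B v v = 1 := by
  haveI : Invertible (2 : F) := invertibleOfNonzero h2
  obtain ⟨v, hv⟩ := LinearMap.BilinForm.exists_orthogonal_basis (LinearMap.BilinForm.isSymm_iff.1 hS)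
  obtain ⟨i0, hi0⟩ : ∃ i0 : Fin (finrank F V), i0 = ⟨0, by omega⟩ := ⟨_, rfl⟩
  obtain ⟨i1, hi1⟩ : ∃ i1 : Fin (finrank F V), i1 = ⟨1, by omega⟩ := ⟨_, rfl⟩
  have h01 : i0 ≠ i1 := by
    rw [hi0, hi1]
    intro h
    simp [Fin.ext_iff] at h
  have ha : B (v i0) (v i0) ≠ 0 :=
    LinearMap.BilinForm.iIsOrtho.not_isOrtho_basis_self_of_nondegenerate hv hB i0
  have hb : B (v i1) (v i1) ≠ 0 :=
    LinearMap.BilinForm.iIsOrtho.not_isOrtho_basis_self_of_nondegenerate hv hB i1
  have hab : B (v i0) (v i1) = 0 := hv h01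
  have hba : B (v i1) (v i0) = 0 := hv h01.symm
  have hchar : ringChar F ≠ 2 := by
    intro h
    apply h2
    have := CharP.cast_eq_zero F (ringChar F)
    rw [h] at this
    exact_mod_cast this
  have hcard : Fintype.card F % 2 = 1 := FiniteField.odd_card_of_char_ne_two hchar
  obtain ⟨x, y, hxy⟩ := FiniteField.exists_root_sum_quadratic
    (f := C (B (v i0) (v i0)) * X ^ 2) (g := C (B (v i1) (v i1)) * X ^ 2 + C (-1))
    (degree_C_mul_X_pow 2 ha)
    (by rw [degree_add_C (by rw [degree_C_mul_X_pow 2 hb]; decide)]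
        exact degree_C_mul_X_pow 2 hb) hcard
  simp only [eval_add, eval_mul, eval_C, eval_pow, eval_X] at hxy
  refine ⟨x • v i0 + y • v i1, ?_⟩
  simp only [map_add, map_smul, LinearMap.add_apply, LinearMap.smul_apply, smul_eq_mul, hab, hba]
  linear_combination hxy

theorem diag {F : Type*} [Field F] [Fintype F] (h2 : (2 : F) ≠ 0) (n : ℕ) :
    ∀ {V : Type*} [AddCommGroup V] [Module F V] [FiniteDimensional F V]
    (hV : Module.finrank F V = n + 1) (B : LinearMap.BilinForm F V) (hS : B.IsSymm)
    (hB : B.Nondegenerate),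
    ∃ b : Module.Basis (Fin (n + 1)) F V, ∃ d : F, ∀ i j,
      B (b i) (b j) = if i = j then (if i = Fin.last n then d else 1) else 0 := by
  induction n with
  | zero =>
    intro V _ _ _ hV B hS hB
    refine ⟨Module.finBasisOfFinrankEq F V hV, B (Module.finBasisOfFinrankEq F V hV 0)
      (Module.finBasisOfFinrankEq F V hV 0), ?_⟩
    intro i j
    have hi : i = 0 := Fin.fin_one_eq_zero i
    have hj : j = 0 := Fin.fin_one_eq_zero j
    subst hi hj
    simp
  | succ d ih =>
    intro V _ _ _ hV B hS hB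
    obtain ⟨x, hx1⟩ := exists_self_eq_one h2 B hS hB (by omega)
    have hx : B x x ≠ 0 := by rw [hx1]; exact one_ne_zero
    have hd := hV
    rw [← Submodule.finrank_add_eq_of_isCompl (BilinForm.isCompl_span_singleton_orthogonal hx).symm,
      finrank_span_singleton (ne_zero_of_map hx)] at hd
    have hB' := restrict_nondegenerate_orthogonal_spanSingleton B hB hS.isRefl hx
    have hS' : (B.restrict (B.orthogonal (F ∙ x))).IsSymm := hS.restrict _
    obtain ⟨v', d', hv₁⟩ := ih (by omega) (B.restrict (B.orthogonal (F ∙ x))) hS' hB'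
    let b :=
      Basis.mkFinCons x v'
        (by
          rintro c y hy hc
          rw [add_eq_zero_iff_neg_eq] at hc
          rw [← hc, Submodule.neg_mem_iff] at hy
          have := (BilinForm.isCompl_span_singleton_orthogonal hx).disjoint
          rw [Submodule.disjoint_def] at this
          have := this (c • x) (Submodule.smul_mem _ _ <| Submodule.mem_span_singleton_self _) hy
          exact (smul_eq_zero.1 this).resolve_right fun h => hx <| h.symm ▸ map_zero _)
        (by
          intro y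
          refine ⟨-B x y / B x x, fun z hz => ?_⟩
          obtain ⟨c, rfl⟩ := Submodule.mem_span_singleton.1 hz
          rw [map_smul, LinearMap.smul_apply, map_add, map_smul, smul_eq_mul, smul_eq_mul,
            div_mul_cancel₀ _ hx, add_neg_cancel, mul_zero])
    refine ⟨b, d', ?_⟩
    have hb : ⇑b = Fin.cons x (Subtype.val ∘ v') := Basis.coe_mkFinCons _ _ _ _
    rw [hb]
    intro i j
    refine Fin.cases ?_ (fun i => ?_) i <;> refine Fin.cases ?_ (fun j => ?_) j <;>
      simp only [Fin.cons_zero, Fin.cons_succ, Function.comp_apply]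
    · rw [hx1, if_pos trivial, if_neg (Fin.last_pos).ne]
    · have h0 : B x (v' j) = 0 := by
        have := (v' j).prop x (Submodule.mem_span_singleton_self x)
        exact this
      rw [h0, if_neg (Fin.succ_ne_zero j).symm]
    · have h0 : B (v' i) x = 0 := by
        rw [← hS.eq]
        have := (v' i).prop x (Submodule.mem_span_singleton_self x)
        exact this
      rw [h0, if_neg (Fin.succ_ne_zero i)]
    · have := hv₁ i j
      simp only [Fin.succ_inj, Fin.succ_eq_last_succ]
      exact this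

end part1

theorem gram_eq {F : Type*} [Field F] {n : ℕ} (Q : QuadraticForm F (Fin n → F)) :
    Matrix.of (fun i j : Fin n => QuadraticMap.polar ⇑Q (Pi.single i 1) (Pi.single j 1))
      = LinearMap.BilinForm.toMatrix' (QuadraticMap.polarBilin Q) := by
  ext i j
  rw [LinearMap.BilinForm.toMatrix'_apply]
  rfl

theorem det_rel {F : Type*} [Field F] {m : ℕ} (B : LinearMap.BilinForm F (Fin (m + 1) → F))
    (b : Module.Basis (Fin (m + 1)) F (Fin (m + 1) → F)) (d : F)
    (hb : ∀ i j, B (b i) (b j) = if i = j then (if i = Fin.last m then d else 1) else 0) :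
    ∃ u : F, u ≠ 0 ∧ u * u * (LinearMap.BilinForm.toMatrix' B).det = d := by
  have h := LinearMap.BilinForm.toMatrix_mul_basis_toMatrix (Pi.basisFun F (Fin (m + 1))) b B
  rw [LinearMap.BilinForm.toMatrix_basisFun] at h
  have hdiag : LinearMap.BilinForm.toMatrix b B
      = Matrix.diagonal (fun i => if i = Fin.last m then d else 1) := by
    ext i j
    rw [LinearMap.BilinForm.toMatrix_apply, hb, Matrix.diagonal_apply]
  have hdet := congrArg Matrix.det h
  rw [Matrix.det_mul, Matrix.det_mul, Matrix.det_transpose, hdiag, Matrix.det_diagonal] at hdet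
  have hprod : (∏ i : Fin (m + 1), if i = Fin.last m then d else 1) = d := by
    rw [Finset.prod_ite_eq']
    simp
  rw [hprod] at hdet
  refine ⟨((Pi.basisFun F (Fin (m + 1))).toMatrix b).det, ?_, by linear_combination hdet⟩
  have hinv := Module.Basis.toMatrix_mul_toMatrix_flip (Pi.basisFun F (Fin (m + 1))) b
  have := congrArg Matrix.det hinv
  rw [Matrix.det_mul, Matrix.det_one] at this
  intro h0
  rw [h0, zero_mul] at this
  exact zero_ne_one this

/-- Over a finite field of odd order, two quadratic forms on F^n with non-degenerate polar forms are isometric (related by an invertible linear change of variables) if and only if their discriminants (determinants of the Gram matrices of their polar forms) lie in the same square class. -/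
theorem result {F : Type*} [Field F] [Fintype F] (h2 : (2 : F) ≠ 0) {n : ℕ} (Q₁ Q₂ : QuadraticForm F (Fin n → F)) (h₁ : (QuadraticMap.polarBilin Q₁).Nondegenerate) (h₂ : (QuadraticMap.polarBilin Q₂).Nondegenerate) : (∃ g : (Fin n → F) ≃ₗ[F] (Fin n → F), ∀ v, Q₂ (g v) = Q₁ v) ↔ IsSquare ((Matrix.of (fun i j : Fin n => QuadraticMap.polar ⇑Q₁ (Pi.single i 1) (Pi.single j 1))).det * (Matrix.of (fun i j : Fin n => QuadraticMap.polar ⇑Q₂ (Pi.single i 1) (Pi.single j 1))).det) := by
  rw [gram_eq, gram_eq]
  constructor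
  · rintro ⟨g, hg⟩
    have hpol : LinearMap.BilinForm.comp (QuadraticMap.polarBilin Q₂)
        (g : (Fin n → F) →ₗ[F] (Fin n → F))
        (g : (Fin n → F) →ₗ[F] (Fin n → F)) = QuadraticMap.polarBilin Q₁ := by
      refine LinearMap.ext fun v => LinearMap.ext fun w => ?_
      simp only [LinearMap.BilinForm.comp_apply, LinearEquiv.coe_coe,
        QuadraticMap.polarBilin_apply_apply, QuadraticMap.polar, ← hg, map_add]
    rw [← hpol, LinearMap.BilinForm.toMatrix'_comp, Matrix.det_mul, Matrix.det_mul,
      Matrix.det_transpose]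
    exact ⟨(LinearMap.toMatrix' (g : (Fin n → F) →ₗ[F] (Fin n → F))).det
      * (LinearMap.BilinForm.toMatrix' (QuadraticMap.polarBilin Q₂)).det, by ring⟩
  · intro hsq
    rcases Nat.eq_zero_or_pos n with hn | hn
    · subst hn
      refine ⟨LinearEquiv.refl _ _, fun v => ?_⟩
      have : v = 0 := Subsingleton.elim _ _
      simp only [LinearEquiv.refl_apply, this, map_zero]
    obtain ⟨m, rfl⟩ : ∃ m, n = m + 1 := ⟨n - 1, by omega⟩
    have hfr : Module.finrank F (Fin (m + 1) → F) = m + 1 := by simp
    have hS₁ : LinearMap.BilinForm.IsSymm (QuadraticMap.polarBilin Q₁) := ⟨fun x y => QuadraticMap.polar_comm _ _ _⟩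
    have hS₂ : LinearMap.BilinForm.IsSymm (QuadraticMap.polarBilin Q₂) := ⟨fun x y => QuadraticMap.polar_comm _ _ _⟩
    obtain ⟨b₁, d₁, hb₁⟩ := diag h2 m hfr (QuadraticMap.polarBilin Q₁) hS₁ h₁
    obtain ⟨b₂, d₂, hb₂⟩ := diag h2 m hfr (QuadraticMap.polarBilin Q₂) hS₂ h₂
    obtain ⟨u₁, hu₁, e₁⟩ := det_rel _ b₁ d₁ hb₁
    obtain ⟨u₂, hu₂, e₂⟩ := det_rel _ b₂ d₂ hb₂
    obtain ⟨s, hs⟩ := hsq
    have hG₁ : (LinearMap.BilinForm.toMatrix' (QuadraticMap.polarBilin Q₁)).det ≠ 0 := by
      have := (LinearMap.BilinForm.nondegenerate_iff_det_ne_zero (Pi.basisFun F (Fin (m + 1)))).1 h₁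
      rwa [LinearMap.BilinForm.toMatrix_basisFun] at this
    have hG₂ : (LinearMap.BilinForm.toMatrix' (QuadraticMap.polarBilin Q₂)).det ≠ 0 := by
      have := (LinearMap.BilinForm.nondegenerate_iff_det_ne_zero (Pi.basisFun F (Fin (m + 1)))).1 h₂
      rwa [LinearMap.BilinForm.toMatrix_basisFun] at this
    have hd₁ : d₁ ≠ 0 := by
      rw [← e₁]; exact mul_ne_zero (mul_ne_zero hu₁ hu₁) hG₁
    have hd₂ : d₂ ≠ 0 := by
      rw [← e₂]; exact mul_ne_zero (mul_ne_zero hu₂ hu₂) hG₂
    obtain ⟨t, ht⟩ : ∃ t, t = u₁ * u₂ * s / d₂ := ⟨_, rfl⟩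
    have htt : t * t * d₂ = d₁ := by
      have h12 : d₁ * d₂ = (u₁ * u₂ * s) * (u₁ * u₂ * s) := by
        rw [← e₁, ← e₂]
        linear_combination (u₁ * u₁ * u₂ * u₂) * hs
      rw [ht]
      field_simp
      linear_combination (-1 : F) * h12
    have ht0 : t ≠ 0 := by
      intro h0
      apply hd₁
      rw [← htt, h0]; ring
    have hτ : ∀ i : Fin (m + 1), IsUnit (if i = Fin.last m then t else 1) := by
      intro i
      split_ifs
      · exact isUnit_iff_ne_zero.2 ht0
      · exact isUnit_one
    refine ⟨b₁.equiv (b₂.isUnitSMul hτ) (Equiv.refl _), ?_⟩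
    have hcomp : LinearMap.BilinForm.comp (QuadraticMap.polarBilin Q₂)
        ((b₁.equiv (b₂.isUnitSMul hτ) (Equiv.refl _)) : (Fin (m + 1) → F) →ₗ[F] (Fin (m + 1) → F))
        ((b₁.equiv (b₂.isUnitSMul hτ) (Equiv.refl _)) : (Fin (m + 1) → F) →ₗ[F] (Fin (m + 1) → F))
        = QuadraticMap.polarBilin Q₁ := by
      refine LinearMap.BilinForm.ext_basis b₁ (fun i j => ?_)
      rw [hb₁]
      simp only [LinearMap.BilinForm.comp_apply, LinearEquiv.coe_coe, Module.Basis.equiv_apply,
        Equiv.refl_apply, Module.Basis.isUnitSMul_apply, map_smul, LinearMap.smul_apply, hb₂,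
        smul_eq_mul]
      by_cases hij : i = j
      · subst hij
        by_cases hi : i = Fin.last m
        · simp only [hi, if_true]
          linear_combination htt
        · simp [hi]
      · simp [hij]
    intro v
    have h3 := LinearMap.congr_fun (LinearMap.congr_fun hcomp v) v
    simp only [LinearMap.BilinForm.comp_apply, LinearEquiv.coe_coe,
      QuadraticMap.polarBilin_apply_apply, QuadraticMap.polar_self, nsmul_eq_mul, Nat.cast_ofNat] at h3
    exact mul_left_cancel₀ h2 h3

end Cfsg.Agent.S2623
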