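import Cfsg.Statements.S2624
import Cfsg.Agent.Lib.Helper15.QuadClassify

set_option autoImplicit false
open Cfsg

namespace Cfsg.Agent.S2624

open Cfsg.Agent.Lib.Helper15

theorem equiv_of_similarity {F V : Type*} [Field F] [AddCommGroup V] [Module F V]
    [FiniteDimensional F V] (Q : QuadraticForm F V)
    (hQ : (QuadraticMap.polarBilin Q).Nondegenerate) (c : F) (hc : c ≠ 0) (g : V →ₗ[F] V)
    (hg : ∀ v, Q (g v) = c * Q v) : ∃ g' : V ≃ₗ[F] V, ∀ v, Q (g' v) = c * Q v := by
  have hinj : Function.Injective g := by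
    rw [← LinearMap.ker_eq_bot, LinearMap.ker_eq_bot']
    intro v hv
    apply hQ.1 v
    intro w
    have h1 : c * QuadraticMap.polar Q v w = QuadraticMap.polar Q (g v) (g w) := by
      simp only [QuadraticMap.polar, ← map_add, hg]; ring
    rw [hv] at h1
    simp only [QuadraticMap.polar_zero_left] at h1
    exact (mul_eq_zero.1 h1).resolve_left hc
  exact ⟨LinearEquiv.ofInjectiveEndo g hinj, fun v => by simpa using hg v⟩

theorem transport {F V W : Type*} [Field F] [AddCommGroup V] [Module F V]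
    [AddCommGroup W] [Module F W] (Q : QuadraticForm F V) (q : W → F) (φ : V ≃ₗ[F] W)
    (hφ : ∀ v, Q v = q (φ v)) (c : F) (h : W →ₗ[F] W) (hh : ∀ x, q (h x) = c * q x) :
    ∃ g : V →ₗ[F] V, ∀ v, Q (g v) = c * Q v := by
  refine ⟨(φ.symm : W →ₗ[F] V) ∘ₗ h ∘ₗ (φ : V →ₗ[F] W), fun v => ?_⟩
  simp only [LinearMap.comp_apply, LinearEquiv.coe_coe, hφ, LinearEquiv.apply_symm_apply, hh]

theorem plus_similarity {F : Type*} [Field F] (m : ℕ) (c : F) :
    ∃ h : (Fin m ⊕ Fin m → F) →ₗ[F] (Fin m ⊕ Fin m → F),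
      ∀ x, quadFormPlus m F (h x) = c * quadFormPlus m F x := by
  refine ⟨LinearMap.pi (fun i => (Sum.elim (fun _ => c) (fun _ => (1 : F)) i) • LinearMap.proj i),
    fun x => ?_⟩
  unfold quadFormPlus
  rw [Finset.mul_sum]
  refine Finset.sum_congr rfl fun i _ => ?_
  simp only [LinearMap.pi_apply, LinearMap.smul_apply, LinearMap.proj_apply, Sum.elim_inl,
    Sum.elim_inr, smul_eq_mul]
  ring

/-- the binary form as a quadratic form -/
noncomputable def binForm {F : Type*} [Field F] (ζ : F) : QuadraticForm F (Fin 2 → F) :=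
  QuadraticMap.linMulLin (LinearMap.proj 0) (LinearMap.proj 0)
    + QuadraticMap.linMulLin (LinearMap.proj 0) (LinearMap.proj 1)
    + ζ • QuadraticMap.linMulLin (LinearMap.proj 1) (LinearMap.proj 1)

theorem binForm_apply {F : Type*} [Field F] (ζ : F) (v : Fin 2 → F) :
    binForm ζ v = v 0 * v 0 + v 0 * v 1 + ζ * (v 1 * v 1) := by
  simp [binForm]

theorem exists_norm {F : Type*} [Field F] [Finite F] (ζ : F) (hζ : ∀ t : F, t ^ 2 + t + ζ ≠ 0)
    (c : F) (hc : c ≠ 0) : ∃ a b : F, a * a + a * b + ζ * (b * b) = c := by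
  have haniso : ∀ v : Fin 2 → F, (c⁻¹ • binForm ζ) v = 0 → v = 0 := by
    intro v hv
    rw [QuadraticMap.smul_apply, binForm_apply, smul_eq_mul] at hv
    have hv' : v 0 * v 0 + v 0 * v 1 + ζ * (v 1 * v 1) = 0 :=
      (mul_eq_zero.1 hv).resolve_left (inv_ne_zero hc)
    have h1 : v 1 = 0 := by
      by_contra h1
      apply hζ (v 0 / v 1)
      field_simp
      linear_combination hv'
    rw [h1] at hv'
    simp only [mul_zero, add_zero] at hv'
    have h0 : v 0 = 0 := mul_self_eq_zero.1 hv'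
    funext i
    fin_cases i
    · exact h0
    · exact h1
  obtain ⟨x, hx⟩ := exists_quad_eq_one (c⁻¹ • binForm ζ) (by simp) haniso
  refine ⟨x 0, x 1, ?_⟩
  rw [QuadraticMap.smul_apply, binForm_apply, smul_eq_mul] at hx
  field_simp at hx
  linear_combination hx

theorem minus_similarity {F : Type*} [Field F] [Finite F] (k : ℕ) (ζ : F)
    (hζ : ∀ t : F, t ^ 2 + t + ζ ≠ 0) (c : F) (hc : c ≠ 0) :
    ∃ h : ((Fin k ⊕ Fin k) ⊕ Fin 2 → F) →ₗ[F] ((Fin k ⊕ Fin k) ⊕ Fin 2 → F),
      ∀ x, quadFormMinus k F 1 ζ (h x) = c * quadFormMinus k F 1 ζ x := by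
  obtain ⟨a₀, b₀, hab⟩ := exists_norm ζ hζ c hc
  refine ⟨LinearMap.pi (fun i => match i with
    | .inl (.inl i) => c • LinearMap.proj (.inl (.inl i))
    | .inl (.inr i) => LinearMap.proj (.inl (.inr i))
    | .inr j => if j = 0 then a₀ • LinearMap.proj (.inr 0) - (ζ * b₀) • LinearMap.proj (.inr 1)
        else b₀ • LinearMap.proj (.inr 0) + (a₀ + b₀) • LinearMap.proj (.inr 1)), fun x => ?_⟩
  unfold quadFormMinus
  simp only [LinearMap.pi_apply, LinearMap.smul_apply, LinearMap.proj_apply, smul_eq_mul,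
    if_true, LinearMap.sub_apply, LinearMap.add_apply, one_ne_zero, if_false, Fin.isValue]
  have hsum : ∑ i, c * x (Sum.inl (Sum.inl i)) * x (Sum.inl (Sum.inr i))
      = c * ∑ i, x (Sum.inl (Sum.inl i)) * x (Sum.inl (Sum.inr i)) := by
    rw [Finset.mul_sum]
    refine Finset.sum_congr rfl fun i _ => ?_
    ring
  rw [hsum, ← hab]
  ring

/-- For a quadratic form Q on F^n with non-degenerate polar form, F finite and n ≥ 2 even, every non-zero scalar c is the multiplier of some similarity: there is an invertible linear map g with Q(g v) = c·Q(v) for all v. -/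
theorem result {F : Type*} [Field F] [Fintype F] {n : ℕ} (hn : 2 ≤ n) (he : Even n) (Q : QuadraticForm F (Fin n → F)) (hQ : (QuadraticMap.polarBilin Q).Nondegenerate) (c : F) (hc : c ≠ 0) : ∃ g : (Fin n → F) ≃ₗ[F] (Fin n → F), ∀ v, Q (g v) = c * Q v := by
  obtain ⟨m, hm⟩ := he
  have hfr : Module.finrank F (Fin n → F) = 2 * m := by
    rw [Module.finrank_fin_fun]; omega
  rcases classify_even Q hQ m (by omega) hfr with ⟨φ, hφ⟩ | ⟨ζ, hζ, φ, hφ⟩
  · obtain ⟨h, hh⟩ := plus_similarity (F := F) m c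
    obtain ⟨g, hg⟩ := transport Q _ φ hφ c h hh
    exact equiv_of_similarity Q hQ c hc g hg
  · obtain ⟨h, hh⟩ := minus_similarity (F := F) (m - 1) ζ hζ c hc
    obtain ⟨g, hg⟩ := transport Q _ φ hφ c h hh
    exact equiv_of_similarity Q hQ c hc g hg

end Cfsg.Agent.S2624
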