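import Cfsg.Statements.S2625

set_option autoImplicit false
open Cfsg

namespace Cfsg.Agent.S2625

/-- For a quadratic form Q on F^n with non-degenerate polar form, F finite and n odd (so |F| is odd), the multiplier of any similarity is a square: if g is an invertible linear map with Q(g v) = c·Q(v) for all v then c is a square. -/
theorem result {F : Type*} [Field F] [Fintype F] {n : ℕ} (hn : Odd n) (Q : QuadraticForm F (Fin n → F)) (hQ : (QuadraticMap.polarBilin Q).Nondegenerate) (g : (Fin n → F) ≃ₗ[F] (Fin n → F)) (c : F) (hg : ∀ v, Q (g v) = c * Q v) : IsSquare c := by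
  classical
  by_cases hc : c = 0
  · subst hc; exact ⟨0, by simp⟩
  have hdet : (LinearMap.BilinForm.toMatrix (Pi.basisFun F (Fin n)) (QuadraticMap.polarBilin Q)).det ≠ 0 :=
    (LinearMap.BilinForm.nondegenerate_iff_det_ne_zero (Pi.basisFun F (Fin n))).1 hQ
  have hB : LinearMap.BilinForm.comp (QuadraticMap.polarBilin Q) (g : (Fin n → F) →ₗ[F] (Fin n → F)) (g : (Fin n → F) →ₗ[F] (Fin n → F)) =
      c • QuadraticMap.polarBilin Q := by
    apply LinearMap.ext
    intro v
    apply LinearMap.ext
    intro w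
    show QuadraticMap.polar (⇑Q) (g v) (g w) = c * QuadraticMap.polar (⇑Q) v w
    unfold QuadraticMap.polar
    rw [← map_add, hg, hg, hg]; ring
  have h1 := congrArg (LinearMap.BilinForm.toMatrix (Pi.basisFun F (Fin n))) hB
  rw [LinearMap.BilinForm.toMatrix_comp (Pi.basisFun F (Fin n)) (Pi.basisFun F (Fin n)), map_smul] at h1
  have h2 := congrArg Matrix.det h1
  rw [Matrix.det_mul, Matrix.det_mul, Matrix.det_transpose, Matrix.det_smul, Fintype.card_fin] at h2
  obtain ⟨m, rfl⟩ := hn
  set d := (LinearMap.toMatrix (Pi.basisFun F (Fin (2 * m + 1))) (Pi.basisFun F (Fin (2 * m + 1)))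
    (g : (Fin (2 * m + 1) → F) →ₗ[F] (Fin (2 * m + 1) → F))).det with hd
  have h3 : d * d = c ^ (2 * m + 1) := by
    have : (d * d) * (LinearMap.BilinForm.toMatrix (Pi.basisFun F (Fin (2 * m + 1))) (QuadraticMap.polarBilin Q)).det =
        c ^ (2 * m + 1) * (LinearMap.BilinForm.toMatrix (Pi.basisFun F (Fin (2 * m + 1))) (QuadraticMap.polarBilin Q)).det := by
      rw [← h2]; ring
    exact mul_right_cancel₀ hdet this
  refine ⟨d / c ^ m, ?_⟩
  have hcm : c ^ m ≠ 0 := pow_ne_zero m hc
  field_simp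
  rw [sq d, h3]; ring

end Cfsg.Agent.S2625
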