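-- Statement S2627
import Cfsg.Statements.S2627
import Mathlib
import Cfsg.Agent.Lib.Helper6.OrthSum

set_option autoImplicit false
open Cfsg

namespace Cfsg.Agent.S2627

open Cfsg.Agent.Lib.Helper6 Cfsg.Agent.Lib.Helper14 Matrix

theorem map_mem_commutator {G H : Type*} [Group G] [Group H] (φ : G →* H) (x : G)
    (hx : x ∈ commutator G) : φ x ∈ commutator H := by
  have h1 : φ x ∈ (commutator G).map φ := Subgroup.mem_map_of_mem _ hx
  rw [_root_.map_commutator_eq] at h1
  rw [commutator_def]
  exact Subgroup.commutator_mono le_top le_top h1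

theorem fromBlocks_list_prod {F : Type*} [Field F] {ι τ : Type} [Fintype ι] [DecidableEq ι]
    [Fintype τ] [DecidableEq τ] (l : List (Matrix ι ι F)) :
    fromBlocks l.prod (0 : Matrix ι τ F) (0 : Matrix τ ι F) (1 : Matrix τ τ F) =
      (l.map (fun M => fromBlocks M (0 : Matrix ι τ F) (0 : Matrix τ ι F) (1 : Matrix τ τ F))).prod := by
  induction l with
  | nil => simp
  | cons M l ih =>
    rw [List.prod_cons, List.map_cons, List.prod_cons, ← ih, fromBlocks_multiply]
    simp

/-- For an orthogonal direct sum Q = Q₁ ⊕ Q₂ of quadratic forms with non-degenerate polar forms over a finite field, an isometry g₁ of Q₁ extended by the identity on the second summand lies in Ω(Q) (the commutator subgroup of the orthogonal group of Q) if and only if g₁ lies in Ω(Q₁). (Excluded: the field of two elements when the first summand or the whole space has dimension 4, where the commutator subgroup of O⁺₄(2) is smaller than the group usually called Ω.) -/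
theorem result {F : Type*} [Field F] [Fintype F] {k l : ℕ} (h : Fintype.card F ≠ 2 ∨ (k ≠ 4 ∧ k + l ≠ 4)) (Q₁ : QuadraticForm F (Fin k → F)) (Q₂ : QuadraticForm F (Fin l → F)) (h₁ : (QuadraticMap.polarBilin Q₁).Nondegenerate) (h₂ : (QuadraticMap.polarBilin Q₂).Nondegenerate) (g₁ : ↥(Cfsg.isometryGroup F ⇑Q₁)) : (∃ g : ↥(Cfsg.isometryGroup F (fun v : Fin k ⊕ Fin l → F => Q₁ (v ∘ Sum.inl) + Q₂ (v ∘ Sum.inr))), g ∈ Cfsg.Omega F (fun v : Fin k ⊕ Fin l → F => Q₁ (v ∘ Sum.inl) + Q₂ (v ∘ Sum.inr)) ∧ ((g : Matrix.GeneralLinearGroup (Fin k ⊕ Fin l) F) : Matrix (Fin k ⊕ Fin l) (Fin k ⊕ Fin l) F) = Matrix.fromBlocks ((g₁ : Matrix.GeneralLinearGroup (Fin k) F) : Matrix (Fin k) (Fin k) F) 0 0 1) ↔ g₁ ∈ Cfsg.Omega F ⇑Q₁ := by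
  classical
  change (∃ g : ↥(Cfsg.isometryGroup F ⇑(Qsum Q₁ Q₂)), g ∈ Cfsg.Omega F ⇑(Qsum Q₁ Q₂) ∧
    ((g : Matrix.GeneralLinearGroup (Fin k ⊕ Fin l) F) : Matrix (Fin k ⊕ Fin l) (Fin k ⊕ Fin l) F) =
      Matrix.fromBlocks ((g₁ : Matrix.GeneralLinearGroup (Fin k) F) : Matrix (Fin k) (Fin k) F) 0 0 1) ↔
    g₁ ∈ Cfsg.Omega F ⇑Q₁
  constructor
  · rintro ⟨g, hgΩ, hg⟩
    by_cases hk : k ≤ 1
    · -- small cases: `g₁ = 1`
      have hdet := det_eq_one_of_mem_Omega' _ g hgΩ
      rw [hg, det_fromBlocks_zero₂₁, det_one, mul_one] at hdet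
      have : g₁ = 1 := by
        apply Subtype.ext
        apply Units.ext
        change ((g₁ : Matrix.GeneralLinearGroup (Fin k) F) : Matrix (Fin k) (Fin k) F) = 1
        interval_cases k
        · exact Subsingleton.elim _ _
        · ext i j
          rw [Matrix.det_fin_one] at hdet
          have hi : i = 0 := Subsingleton.elim _ _
          have hj : j = 0 := Subsingleton.elim _ _
          rw [hi, hj, hdet]
          rfl
      rw [this]
      exact Subgroup.one_mem _
    · push Not at hk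
      have hex₁ : Fintype.card F ≠ 2 ∨ Fintype.card (Fin k) ≠ 4 := by
        rw [Fintype.card_fin]
        rcases h with h | h
        · exact Or.inl h
        · exact Or.inr h.1
      have hex : Fintype.card F ≠ 2 ∨ Fintype.card (Fin k ⊕ Fin l) ≠ 4 := by
        rw [Fintype.card_sum, Fintype.card_fin, Fintype.card_fin]
        rcases h with h | h
        · exact Or.inl h
        · exact Or.inr h.2
      obtain ⟨vs, hvs, hprod⟩ := exists_list' Q₁ h₁ hex₁ g₁
      have hcrit₁ := mem_Omega_iff_list_all' Q₁ h₁ (by rw [Fintype.card_fin]; omega) hex₁ g₁ vs hvs hprod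
      have hQv : ∀ v : Fin k → F, Qsum Q₁ Q₂ (Sum.elim v 0) = Q₁ v := by
        intro v
        rw [Qsum_apply]
        have hz : (Sum.elim v (0 : Fin l → F)) ∘ Sum.inr = 0 := rfl
        have hy : (Sum.elim v (0 : Fin l → F)) ∘ Sum.inl = v := rfl
        rw [hz, hy, map_zero, add_zero]
      have hcrit := mem_Omega_iff_list_all' (Qsum Q₁ Q₂) (nondegenerate_Qsum Q₁ Q₂ h₁ h₂)
        (by rw [Fintype.card_sum, Fintype.card_fin, Fintype.card_fin]; omega) hex g
        (vs.map (fun v => Sum.elim v 0)) (by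
          intro v hv
          obtain ⟨w, hw, rfl⟩ := List.mem_map.mp hv
          rw [hQv]
          exact hvs w hw) (by
          rw [hg, hprod, fromBlocks_list_prod, List.map_map, List.map_map]
          congr 1
          apply List.map_congr_left
          intro v _
          exact (refl_Qsum_inl Q₁ Q₂ v).symm)
      rw [hcrit₁]
      rw [hcrit, List.length_map, List.map_map] at hgΩ
      have : (vs.map ((fun v => Qsum Q₁ Q₂ v) ∘ fun v => Sum.elim v 0)) = vs.map (fun v => Q₁ v) := by
        apply List.map_congr_left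
        intro v _
        exact hQv v
      rw [this] at hgΩ
      exact hgΩ
  · intro hg₁
    exact ⟨sumHom Q₁ Q₂ g₁, map_mem_commutator _ _ hg₁, sumHom_val Q₁ Q₂ g₁⟩

end Cfsg.Agent.S2627
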