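-- Statement S2628
import Cfsg.Statements.S2628
import Mathlib
import Cfsg.Agent.Lib.Helper6.OrthSum

set_option autoImplicit false
open Cfsg

namespace Cfsg.Agent.S2628

open Cfsg.Agent.Lib.Helper6 Cfsg.Agent.Lib.Helper14 Matrix

section
variable {F : Type*} [Field F] {ι : Type} [Fintype ι] [DecidableEq ι] (Q : QuadraticForm F (ι → F))

/-- the matrix swapping the two summands -/
def swapMat : Matrix (ι ⊕ ι) (ι ⊕ ι) F := fromBlocks 0 1 1 0

theorem swapMat_mul_self : (swapMat : Matrix (ι ⊕ ι) (ι ⊕ ι) F) * swapMat = 1 := by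
  unfold swapMat
  rw [fromBlocks_multiply]
  simp

theorem swapMat_mulVec (v : ι ⊕ ι → F) :
    (swapMat : Matrix (ι ⊕ ι) (ι ⊕ ι) F) *ᵥ v = Sum.elim (v ∘ Sum.inr) (v ∘ Sum.inl) := by
  have hv : v = Sum.elim (v ∘ Sum.inl) (v ∘ Sum.inr) := by
    funext j; rcases j with j | j <;> rfl
  unfold swapMat
  conv_lhs => rw [hv, fromBlocks_mulVec]
  simp

/-- the swap as an isometry of `Q ⊕ Q` -/
def swapIso : ↥(Cfsg.isometryGroup F ⇑(Qsum Q Q)) :=
  ⟨⟨swapMat, swapMat, swapMat_mul_self, swapMat_mul_self⟩, by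
    intro u _
    change Qsum Q Q (swapMat *ᵥ u) = Qsum Q Q u
    rw [swapMat_mulVec, Qsum_apply, Qsum_apply]
    have h1 : (Sum.elim (u ∘ Sum.inr) (u ∘ Sum.inl)) ∘ Sum.inl = u ∘ Sum.inr := rfl
    have h2 : (Sum.elim (u ∘ Sum.inr) (u ∘ Sum.inl)) ∘ Sum.inr = u ∘ Sum.inl := rfl
    rw [h1, h2, add_comm]⟩

end

/-- For the orthogonal direct sum Q ⊕ Q of two copies of a quadratic form Q with non-degenerate polar form on F^k (F finite), every isometry g of Q acting diagonally, diag(g, g), lies in Ω(Q ⊕ Q), the commutator subgroup of the orthogonal group of Q ⊕ Q. (Excluded: k = 2 over the field of two elements, where Q ⊕ Q is the hyperbolic 4-space whose orthogonal group's commutator subgroup is smaller than the group usually called Ω.) -/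
theorem result {F : Type*} [Field F] [Fintype F] {k : ℕ} (h : Fintype.card F ≠ 2 ∨ k ≠ 2) (Q : QuadraticForm F (Fin k → F)) (hQ : (QuadraticMap.polarBilin Q).Nondegenerate) (g : ↥(Cfsg.isometryGroup F ⇑Q)) : ∃ x : ↥(Cfsg.isometryGroup F (fun v : Fin k ⊕ Fin k → F => Q (v ∘ Sum.inl) + Q (v ∘ Sum.inr))), x ∈ Cfsg.Omega F (fun v : Fin k ⊕ Fin k → F => Q (v ∘ Sum.inl) + Q (v ∘ Sum.inr)) ∧ ((x : Matrix.GeneralLinearGroup (Fin k ⊕ Fin k) F) : Matrix (Fin k ⊕ Fin k) (Fin k ⊕ Fin k) F) = Matrix.fromBlocks ((g : Matrix.GeneralLinearGroup (Fin k) F) : Matrix (Fin k) (Fin k) F) 0 0 ((g : Matrix.GeneralLinearGroup (Fin k) F) : Matrix (Fin k) (Fin k) F) := by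
  classical
  change ∃ x : ↥(Cfsg.isometryGroup F ⇑(Qsum Q Q)), x ∈ Cfsg.Omega F ⇑(Qsum Q Q) ∧
    ((x : Matrix.GeneralLinearGroup (Fin k ⊕ Fin k) F) : Matrix (Fin k ⊕ Fin k) (Fin k ⊕ Fin k) F) =
      Matrix.fromBlocks ((g : Matrix.GeneralLinearGroup (Fin k) F) : Matrix (Fin k) (Fin k) F) 0 0
        ((g : Matrix.GeneralLinearGroup (Fin k) F) : Matrix (Fin k) (Fin k) F)
  set a := sumHom Q Q g with ha
  set σ := swapIso Q with hσ
  refine ⟨a * (σ * a * σ⁻¹), ?_, ?_⟩
  · -- membership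
    have hsq : ∀ y : ↥(Cfsg.isometryGroup F ⇑(Qsum Q Q)), y * y ∈ Cfsg.Omega F ⇑(Qsum Q Q) := by
      intro y
      by_cases hk : k = 0
      · subst hk
        have : y * y = 1 := by
          apply Subtype.ext
          apply Units.ext
          exact Subsingleton.elim _ _
        rw [this]
        exact Subgroup.one_mem _
      have hex : Fintype.card F ≠ 2 ∨ Fintype.card (Fin k ⊕ Fin k) ≠ 4 := by
        rw [Fintype.card_sum, Fintype.card_fin]
        rcases h with h | h
        · exact Or.inl h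
        · right; omega
      have hnd := nondegenerate_Qsum Q Q hQ hQ
      obtain ⟨vs, hvs, hprod⟩ := exists_list' (Qsum Q Q) hnd hex y
      rw [mem_Omega_iff_list_all' (Qsum Q Q) hnd
        (by rw [Fintype.card_sum, Fintype.card_fin]; omega) hex (y * y) (vs ++ vs) (by
          intro v hv
          rcases List.mem_append.mp hv with hv | hv <;> exact hvs v hv) (by
          rw [List.map_append, List.prod_append, ← hprod]
          rfl)]
      refine ⟨?_, fun _ => ?_⟩
      · rw [List.length_append]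
        exact ⟨_, rfl⟩
      · rw [List.map_append, List.prod_append]
        exact ⟨_, rfl⟩
    have e : a * (σ * a * σ⁻¹) = (a * σ * a⁻¹ * σ⁻¹) * (σ * (a * a) * σ⁻¹) := by
      group
    rw [e]
    apply Subgroup.mul_mem
    · change a * σ * a⁻¹ * σ⁻¹ ∈ commutator _
      rw [commutator_def]
      exact Subgroup.commutator_mem_commutator (Subgroup.mem_top a) (Subgroup.mem_top σ)
    · have hn : (Cfsg.Omega F ⇑(Qsum Q Q)).Normal := by
        change (commutator _).Normal
        infer_instance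
      exact hn.conj_mem _ (hsq a) σ
  · -- the matrix
    change (fromBlocks ((g.1 : GL (Fin k) F) : Matrix (Fin k) (Fin k) F) 0 0 1 : Matrix (Fin k ⊕ Fin k) (Fin k ⊕ Fin k) F) *
      ((swapMat : Matrix (Fin k ⊕ Fin k) (Fin k ⊕ Fin k) F) *
        fromBlocks ((g.1 : GL (Fin k) F) : Matrix (Fin k) (Fin k) F) 0 0 1 * swapMat) = _
    unfold swapMat
    rw [fromBlocks_multiply, fromBlocks_multiply, fromBlocks_multiply]
    simp

end Cfsg.Agent.S2628
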