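import Cfsg.Statements.S2633
import Cfsg.Agent.Lib.Helper13.OrthTrans

set_option autoImplicit false
open Cfsg

namespace Cfsg.Agent.S2633

open Cfsg.Agent.Lib.Helper13 Module

/-- Ω is transitive on totally singular subspaces of each dimension less than half the dimension: for a quadratic form Q on F^n with non-degenerate polar form (F finite; excluding dimension 4 over the field of two elements), if U and W are subspaces of the same dimension k with 2k < n on which Q vanishes, then some element of Ω (the commutator subgroup of the orthogonal group) carries U to W. -/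
theorem result {F : Type*} [Field F] [Fintype F] {n : ℕ} (h : Fintype.card F ≠ 2 ∨ n ≠ 4) (Q : QuadraticForm F (Fin n → F)) (hQ : (QuadraticMap.polarBilin Q).Nondegenerate) (U W : Submodule F (Fin n → F)) {k : ℕ} (hk : 2 * k < n) (hU : Module.finrank F U = k) (hW : Module.finrank F W = k) (hU0 : ∀ u ∈ U, Q u = 0) (hW0 : ∀ w ∈ W, Q w = 0) : ∃ g : ↥(Cfsg.isometryGroup F ⇑Q), g ∈ Cfsg.Omega F ⇑Q ∧ U.map (Matrix.mulVecLin ((g : Matrix.GeneralLinearGroup (Fin n) F) : Matrix (Fin n) (Fin n) F)) = W := by
  let e := isoEquiv ⇑Q Q (fun _ => rfl)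
  obtain ⟨g', hg', hmap⟩ := exists_commutator_map_ts Q hQ (reflGenA_eq_top_fin Q hQ h) U W k
    (by rw [Module.finrank_fin_fun]; exact hk) hU hW hU0 hW0
  refine ⟨e.symm g', (mem_commutator_iff_of_equiv e _).mpr (by rw [e.apply_symm_apply]; exact hg'),
    ?_⟩
  have hlin : Matrix.mulVecLin ((((e.symm g' : ↥(Cfsg.isometryGroup F ⇑Q)) :
      Matrix.GeneralLinearGroup (Fin n) F) : Matrix (Fin n) (Fin n) F)) = g'.1.toLinearMap := by
    apply LinearMap.ext
    intro x
    rw [Matrix.mulVecLin_apply]
    exact isoEquiv_symm_mulVec ⇑Q Q (fun _ => rfl) g' x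
  rw [hlin]
  exact hmap

end Cfsg.Agent.S2633
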