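import Cfsg.Statements.S2634
import Cfsg.Agent.Lib.Helper13.OrthGenMat

set_option autoImplicit false
open Cfsg

namespace Cfsg.Agent.S2634

open Cfsg.Agent.Lib.Helper13 Module

/-- Over a finite field of characteristic two, Ω (the commutator subgroup of the orthogonal group of a quadratic form Q on F^n with non-degenerate polar form; excluding dimension 4 over the field of two elements) acts transitively on the non-singular 1-spaces: for u, v with Q(u) ≠ 0 and Q(v) ≠ 0 some element of Ω carries the line through u to the line through v. -/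
theorem result {F : Type*} [Field F] [Fintype F] [CharP F 2] {n : ℕ} (h : Fintype.card F ≠ 2 ∨ n ≠ 4) (Q : QuadraticForm F (Fin n → F)) (hQ : (QuadraticMap.polarBilin Q).Nondegenerate) (u v : Fin n → F) (hu : Q u ≠ 0) (hv : Q v ≠ 0) : ∃ g : ↥(Cfsg.isometryGroup F ⇑Q), g ∈ Cfsg.Omega F ⇑Q ∧ (F ∙ ((g : Matrix.GeneralLinearGroup (Fin n) F) : Matrix (Fin n) (Fin n) F).mulVec u) = F ∙ v := by
  have hgen := reflGen_eq_top_of_cd Q hQ h
  obtain ⟨g', hg', d, hd, hgu⟩ := exists_commutator_map Q hQ hgen u v hu hv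
  let e := isoEquiv ⇑Q Q (fun _ => rfl)
  refine ⟨e.symm g', ?_, ?_⟩
  · exact (mem_commutator_iff_of_equiv e _).mpr (by rw [e.apply_symm_apply]; exact hg')
  · have h1 : ((((e.symm g' : ↥(Cfsg.isometryGroup F ⇑Q)) : Matrix.GeneralLinearGroup (Fin n) F) :
        Matrix (Fin n) (Fin n) F)).mulVec u = d • v := by
      rw [isoEquiv_symm_mulVec]; exact hgu
    rw [h1]
    exact Submodule.span_singleton_smul_eq (IsUnit.mk0 d hd) v

end Cfsg.Agent.S2634
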