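import Cfsg.Statements.S2635
import Cfsg.Agent.Lib.Helper13.OrthGenMat

set_option autoImplicit false
open Cfsg

namespace Cfsg.Agent.S2635

open Cfsg.Agent.Lib.Helper13 Module

/-- Over a finite field of characteristic two, for a quadratic form Q on F^n with non-degenerate polar form, n ≥ 2, other than dimension 4 over the field of two elements, Ω (the commutator subgroup of the orthogonal group) is exactly the subgroup generated by the products of two reflections (orthogonal transvections) x ↦ x − Q(v)⁻¹ f(x, v) v, Q(v) ≠ 0: the products of an even number of reflections. -/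
theorem result {F : Type*} [Field F] [Fintype F] [CharP F 2] {n : ℕ} (hn : 2 ≤ n) (h : Fintype.card F ≠ 2 ∨ n ≠ 4) (Q : QuadraticForm F (Fin n → F)) (hQ : (QuadraticMap.polarBilin Q).Nondegenerate) : Cfsg.Omega F ⇑Q = Subgroup.closure {g : ↥(Cfsg.isometryGroup F ⇑Q) | ∃ u v : Fin n → F, Q u ≠ 0 ∧ Q v ≠ 0 ∧ ((g : Matrix.GeneralLinearGroup (Fin n) F) : Matrix (Fin n) (Fin n) F) = Cfsg.reflectionMatrix ⇑Q u * Cfsg.reflectionMatrix ⇑Q v} := by
  let e := isoEquiv ⇑Q Q (fun _ => rfl)
  have hgen := reflGen_eq_top_of_cd Q hQ h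
  have hpos : 0 < finrank F (Fin n → F) := by
    rw [Module.finrank_fintype_fun_eq_card, Fintype.card_fin]; omega
  have hcomm := commutator_eq_pairGen Q hQ hpos hgen
  apply le_antisymm
  · intro g hg
    have h1 : e g ∈ pairGen Q := by
      rw [← hcomm]; exact (mem_commutator_iff_of_equiv e g).mp hg
    have h2 : pairGen Q ≤ (Subgroup.closure {g : ↥(Cfsg.isometryGroup F ⇑Q) | ∃ u v : Fin n → F, Q u ≠ 0 ∧ Q v ≠ 0 ∧ ((g : Matrix.GeneralLinearGroup (Fin n) F) : Matrix (Fin n) (Fin n) F) = Cfsg.reflectionMatrix ⇑Q u * Cfsg.reflectionMatrix ⇑Q v}).comap e.symm.toMonoidHom := by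
      unfold pairGen
      rw [Subgroup.closure_le]
      rintro _ ⟨a, b, ha, hb, rfl⟩
      change e.symm (reflO Q a * reflO Q b) ∈ Subgroup.closure _
      apply Subgroup.subset_closure
      have ha0 : Q a ≠ 0 := by rw [ha]; exact one_ne_zero
      have hb0 : Q b ≠ 0 := by rw [hb]; exact one_ne_zero
      refine ⟨a, b, ha0, hb0, ?_⟩
      have ha' := isoEquiv_symm_reflO Q a ha0 1 (by rw [ha]; simp)
      have hb' := isoEquiv_symm_reflO Q b hb0 1 (by rw [hb]; simp)
      rw [one_smul] at ha' hb'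
      rw [map_mul, Subgroup.coe_mul, Units.val_mul, ha', hb']
    have h3 : e.symm (e g) ∈ Subgroup.closure {g : ↥(Cfsg.isometryGroup F ⇑Q) | ∃ u v : Fin n → F, Q u ≠ 0 ∧ Q v ≠ 0 ∧ ((g : Matrix.GeneralLinearGroup (Fin n) F) : Matrix (Fin n) (Fin n) F) = Cfsg.reflectionMatrix ⇑Q u * Cfsg.reflectionMatrix ⇑Q v} := h2 h1
    rwa [e.symm_apply_apply] at h3
  · rw [Subgroup.closure_le]
    rintro g ⟨u, v, hu, hv, hg⟩
    rw [SetLike.mem_coe, mem_commutator_iff_of_equiv e]
    obtain ⟨cu, hcu, hu1⟩ := exists_norm_one_smul Q u hu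
    obtain ⟨cv, hcv, hv1⟩ := exists_norm_one_smul Q v hv
    have hge : e g = reflO Q (cu • u) * reflO Q (cv • v) := by
      apply e.symm.injective
      rw [e.symm_apply_apply, map_mul]
      apply Subtype.ext
      apply Units.ext
      rw [hg, Subgroup.coe_mul, Units.val_mul, isoEquiv_symm_reflO Q u hu cu hcu,
        isoEquiv_symm_reflO Q v hv cv hcv]
    rw [hge]
    exact reflO_mul_reflO_mem Q hQ _ _ hu1 hv1

end Cfsg.Agent.S2635
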