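import Cfsg.Statements.S2636
import Cfsg.Agent.Lib.Helper16.FieldAutGL

set_option autoImplicit false
open Cfsg

namespace Cfsg.Agent.S2636

open Cfsg.Agent.Lib.Helper16 in
/-- Centraliser of a field automorphism in PGL_n: let F be the field with q = q₀^r elements, σ a field automorphism of F of prime order r (so its fixed field has q₀ elements) and n ≥ 1. The invertible matrices g whose entrywise image under σ is a scalar multiple of g — those whose coset modulo scalars is fixed by σ — number (q − 1)/(q₀ − 1) · |GL_n(q₀)|; equivalently the centraliser in PGL_n(q) of the induced automorphism has the order of PGL_n(q₀). -/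
theorem result {F : Type*} [Field F] [Fintype F] {q₀ r n : ℕ} (hr : r.Prime) (hn : 1 ≤ n) (hF : Fintype.card F = q₀ ^ r) (σ : F ≃+* F) (hσ : orderOf σ = r) : Nat.card {g : GL (Fin n) F // ∃ c : F, c ≠ 0 ∧ (g : Matrix (Fin n) (Fin n) F).map σ = c • (g : Matrix (Fin n) (Fin n) F)} = (q₀ ^ r - 1) / (q₀ - 1) * ∏ i : Fin n, (q₀ ^ n - q₀ ^ (i : ℕ)) := by
  classical
  have hr0 : 0 < r := hr.pos
  have hK := card_fixed_zpowers σ hr0 hσ hF
  have hmain := card_fixed_cosets (FixedPoints.subfield (Subgroup.zpowers σ) F) σ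
    (mem_fixed_zpowers_iff σ) hr0 hσ hn
  have hGL := Matrix.card_GL_field (𝔽 := FixedPoints.subfield (Subgroup.zpowers σ) F) n
  rw [← Nat.card_eq_fintype_card, hK] at hGL
  rw [hK, hGL, Nat.card_eq_fintype_card (α := F), hF] at hmain
  have hq2 : 2 ≤ q₀ := by
    rw [← hK]
    have : 1 < Nat.card (FixedPoints.subfield (Subgroup.zpowers σ) F) := Finite.one_lt_card
    exact this
  obtain ⟨m, hm⟩ : q₀ - 1 ∣ q₀ ^ r - 1 := by
    have := Nat.sub_dvd_pow_sub_pow q₀ 1 r
    simpa using this
  have hpos : 0 < q₀ - 1 := by omega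
  rw [hm, Nat.mul_div_cancel_left _ hpos]
  rw [hm, mul_comm, mul_assoc] at hmain
  exact Nat.eq_of_mul_eq_mul_left hpos hmain

end Cfsg.Agent.S2636
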