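import Cfsg.Statements.S2677
import Cfsg.Agent.Lib.Helper16.FieldAutGU

set_option autoImplicit false
set_option linter.style.haveILetI false
open Cfsg

namespace Cfsg.Agent.S2677

open Cfsg.Agent.Lib.Helper16 in
/-- the integer form of the order formula of `GU` -/
theorem gu_formula_cast (q n : ℕ) (hq : 1 ≤ q) :
    ((q ^ (n * (n - 1) / 2) * ∏ i ∈ Finset.range n,
      (if Even i then q ^ (i + 1) + 1 else q ^ (i + 1) - 1) : ℕ) : ℤ) =
      (q : ℤ) ^ (n * (n - 1) / 2) * ∏ i : Fin n, ((q : ℤ) ^ ((i : ℕ) + 1) - (-1) ^ ((i : ℕ) + 1)) := by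
  rw [Nat.cast_mul, Nat.cast_pow, Nat.cast_prod]
  congr 1
  rw [← Fin.prod_univ_eq_prod_range (fun i => ((if Even i then q ^ (i + 1) + 1 else q ^ (i + 1) - 1 : ℕ) : ℤ)) n]
  apply Finset.prod_congr rfl
  intro i _
  have hpos : 1 ≤ q ^ ((i : ℕ) + 1) := Nat.one_le_pow _ _ hq
  by_cases he : Even (i : ℕ)
  · rw [if_pos he, Odd.neg_one_pow (Even.add_one he)]
    push_cast
    ring
  · rw [if_neg he, Even.neg_one_pow (Odd.add_one (Nat.not_even_iff_odd.1 he))]
    push_cast [hpos]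
    ring

open Cfsg.Agent.Lib.Helper16 in
/-- Centraliser of a field automorphism of odd prime order in PGU_n(q): let q = q₀^r with r an odd prime, K the field with q² elements and σ a field automorphism of K of order r (fixed field of order q₀²). The elements g of GU_n(q) whose entrywise image under σ is a scalar multiple of g — those whose coset modulo the q + 1 unitary scalars is fixed by σ — number (q + 1)/(q₀ + 1) · |GU_n(q₀)|; equivalently the centraliser in PGU_n(q) of the induced automorphism has the order of PGU_n(q₀). -/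
theorem result {K : Type*} [Field K] [Fintype K] {q₀ q r n : ℕ} (hr : r.Prime) (hr2 : r ≠ 2) (hn : 1 ≤ n) (hq : q = q₀ ^ r) (hK : Fintype.card K = q ^ 2) (σ : K ≃+* K) (hσ : orderOf σ = r) : (Nat.card {g : ↥(Cfsg.GU n K q) // ∃ c : K, c ≠ 0 ∧ ((g : GL (Fin n) K) : Matrix (Fin n) (Fin n) K).map σ = c • ((g : GL (Fin n) K) : Matrix (Fin n) (Fin n) K)} : ℤ) = ((q + 1) / (q₀ + 1) : ℕ) * ((q₀ : ℤ) ^ (n * (n - 1) / 2) * ∏ i : Fin n, ((q₀ : ℤ) ^ ((i : ℕ) + 1) - (-1) ^ ((i : ℕ) + 1))) := by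
  classical
  have hr0 : 0 < r := hr.pos
  have hodd : Odd r := hr.odd_of_ne_two hr2
  have hK' : Fintype.card K = (q₀ ^ 2) ^ r := by
    rw [hK, hq, ← pow_mul, ← pow_mul, mul_comm]
  have hK₀n := card_fixed_zpowers σ hr0 hσ hK'
  letI : Fintype (FixedPoints.subfield (Subgroup.zpowers σ) K) := Fintype.ofFinite _
  have hK₀ : Fintype.card (FixedPoints.subfield (Subgroup.zpowers σ) K) = q₀ ^ 2 := by
    rw [← Nat.card_eq_fintype_card]; exact hK₀n
  have hq₀ : 2 ≤ q₀ := Cfsg.Agent.Lib.Helper6.two_le_q hK₀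
  -- the `q`-power map on the fixed field
  have hpowk : ∀ (x : FixedPoints.subfield (Subgroup.zpowers σ) K) (k : ℕ),
      x ^ ((q₀ ^ 2) ^ k) = x := by
    intro x k
    induction k with
    | zero => simp
    | succ k ih =>
      rw [pow_succ, pow_mul, ih, ← hK₀]
      exact FiniteField.pow_card x
  have hpow : ∀ x : FixedPoints.subfield (Subgroup.zpowers σ) K,
      (x : K) ^ q = ((x ^ q₀ : FixedPoints.subfield (Subgroup.zpowers σ) K) : K) := by
    intro x
    obtain ⟨k, hk⟩ := hodd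
    have h1 : x ^ q = x ^ q₀ := by
      rw [hq, hk, pow_succ, pow_mul, pow_mul, hpowk]
    rw [← h1]
    rfl
  have hmain := card_gu_fixed_cosets (FixedPoints.subfield (Subgroup.zpowers σ) K) hK hK₀ hpow σ
    (mem_fixed_zpowers_iff σ) hr0 hσ hn
  rw [card_GU hK₀ n] at hmain
  obtain ⟨m, hm⟩ : q₀ + 1 ∣ q + 1 := by
    rw [hq]
    have := Odd.nat_add_dvd_pow_add_pow q₀ 1 hodd
    simpa using this
  have hpos : 0 < q₀ + 1 := by omega
  rw [hm, Nat.mul_div_cancel_left _ hpos]
  rw [hm, mul_comm, mul_assoc] at hmain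
  have h2 := Nat.eq_of_mul_eq_mul_left hpos hmain
  rw [h2]
  rw [← gu_formula_cast q₀ n (by omega)]
  push_cast
  rfl

end Cfsg.Agent.S2677
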