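import Cfsg.Statements.S2642
import Cfsg.Agent.Lib.Helper14.GUConj7
import Cfsg.Agent.S2587
import Cfsg.Agent.S2588
import Cfsg.Agent.S2570

set_option autoImplicit false
open Cfsg

namespace Cfsg.Agent.S2642

/-- Number of conjugacy classes of elements of order p in the general unitary group GU_n(q), q a power of p: every unipotent Jordan type occurs and the classes correspond to the partitions of n with all parts at most p other than the all-ones partition, exactly as in GL_n; so there are (number of partitions of n with parts ≤ p) − 1 classes. -/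
theorem result {K : Type*} [Field K] [Fintype K] {p q n : ℕ} [Fact p.Prime] [CharP K p] (hK : Fintype.card K = q ^ 2) : Nat.card {C : ConjClasses ↥(Cfsg.GU n K q) // ∃ g : ↥(Cfsg.GU n K q), ConjClasses.mk g = C ∧ orderOf g = p} = (Finset.univ.filter (fun μ : Nat.Partition n => ∀ a ∈ μ.parts, a ≤ p)).card - 1 := by
  classical
  rw [← Cfsg.Agent.S2570.result (F := K) (p := p) n]
  have hord : ∀ g : ↥(Cfsg.GU n K q), orderOf (g : GL (Fin n) K) = orderOf g :=
    fun g => Subgroup.orderOf_coe g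
  refine Nat.card_eq_of_bijective
    (fun C => (⟨ConjClasses.map (Cfsg.GU n K q).subtype C.1, by
      obtain ⟨g, hg, ho⟩ := C.2
      refine ⟨(g : GL (Fin n) K), ?_, ?_⟩
      · rw [← hg]
        rfl
      · rw [hord, ho]⟩ :
      {C : ConjClasses (GL (Fin n) K) // ∃ g : GL (Fin n) K, ConjClasses.mk g = C ∧
        orderOf g = p})) ⟨?_, ?_⟩
  · rintro ⟨C₁, g₁, rfl, h₁⟩ ⟨C₂, g₂, rfl, h₂⟩ h
    apply Subtype.ext
    have h1 : ConjClasses.mk (g₁ : GL (Fin n) K) = ConjClasses.mk (g₂ : GL (Fin n) K) :=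
      congrArg Subtype.val h
    rw [ConjClasses.mk_eq_mk_iff_isConj] at h1
    show ConjClasses.mk g₁ = ConjClasses.mk g₂
    rw [ConjClasses.mk_eq_mk_iff_isConj]
    exact (Cfsg.Agent.S2587.result hK g₁ g₂).mpr h1
  · rintro ⟨C, g, rfl, hg⟩
    have hnil : IsNilpotent (Cfsg.Agent.Lib.Helper14.nilOf g) :=
      (Cfsg.Agent.Lib.Helper14.orderOf_pow_iff_isNilpotent p g).mp ⟨1, by rw [hg, pow_one]⟩
    have hgd : IsUnit (g : Matrix (Fin n) (Fin n) K).det :=
      (Matrix.isUnit_iff_isUnit_det _).mp g.isUnit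
    have hsd : IsUnit (Cfsg.Agent.Lib.Helper14.GUConj.sharp hK
        (g : Matrix (Fin n) (Fin n) K))⁻¹.det := by
      rw [Matrix.det_nonsing_inv, Ring.inverse_eq_inv',
        Cfsg.Agent.Lib.Helper14.GUConj.det_sharp]
      exact (hgd.map _).inv
    let g' : GL (Fin n) K := Matrix.nonsingInvUnit _ hsd
    have hg' : (g' : Matrix (Fin n) (Fin n) K) =
        (Cfsg.Agent.Lib.Helper14.GUConj.sharp hK (g : Matrix (Fin n) (Fin n) K))⁻¹ := rfl
    have hconj := Cfsg.Agent.Lib.Helper14.GUConj.isConj_sharp_inv hK g g' hg' hnil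
    obtain ⟨x, hx⟩ := isConj_iff.mp hconj
    have hmon : IsConj (g : Matrix (Fin n) (Fin n) K)
        (((g : Matrix (Fin n) (Fin n) K).map (fun x : K => x ^ q)).transpose)⁻¹ := by
      refine ⟨x, ?_⟩
      show (x : Matrix (Fin n) (Fin n) K) * (g : Matrix (Fin n) (Fin n) K) =
        (g' : Matrix (Fin n) (Fin n) K) * (x : Matrix (Fin n) (Fin n) K)
      have h1 : x * g = g' * x := by rw [← hx, inv_mul_cancel_right]
      have h2 := congrArg (fun y : GL (Fin n) K => (y : Matrix (Fin n) (Fin n) K)) h1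
      simpa using h2
    obtain ⟨B, hB⟩ := (Cfsg.Agent.S2588.result hK g).mpr hmon
    have hBo : orderOf B = p := by
      rw [← hord, ← hg]
      exact Cfsg.Agent.S2570.orderOf_eq_of_isConj hB
    refine ⟨⟨ConjClasses.mk B, B, rfl, hBo⟩, ?_⟩
    apply Subtype.ext
    show ConjClasses.mk (B : GL (Fin n) K) = ConjClasses.mk g
    rw [ConjClasses.mk_eq_mk_iff_isConj]
    exact hB.symm

end Cfsg.Agent.S2642
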