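import Cfsg.Statements.S2643
import Cfsg.Agent.Lib.Helper14.SURegUnip1

set_option autoImplicit false
open Cfsg

namespace Cfsg.Agent.S2643

open Cfsg.Agent.Lib.Helper14.SURegUnip Cfsg.Agent.Lib.Helper14.GUConj Matrix
open Cfsg.Agent.Lib.Helper14.HSemi (sigQ sigQ_apply)

/-- Regular unipotent classes of SU_n(q), n ≥ 2: the elements u of the special unitary group (isometries of Σ u_i v_i^q of determinant one over the field with q² elements) with (u − 1)^n = 0 and rank(u − 1) = n − 1 form exactly gcd(n, q + 1) conjugacy classes of SU_n(q). -/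
theorem result {K : Type*} [Field K] [Fintype K] {q n : ℕ} (hK : Fintype.card K = q ^ 2) (hn : 2 ≤ n) : Nat.card {C : ConjClasses ↥(Cfsg.SU n K q) // ∃ u : ↥(Cfsg.SU n K q), ConjClasses.mk u = C ∧ (((u : GL (Fin n) K) : Matrix (Fin n) (Fin n) K) - 1) ^ n = 0 ∧ (((u : GL (Fin n) K) : Matrix (Fin n) (Fin n) K) - 1).rank = n - 1} = Nat.gcd n (q + 1) := by
  classical
  have hn1 : 1 ≤ n := by omega
  -- the group of norm one elements
  let T₁ : Subgroup Kˣ := (powMonoidHom (q + 1) : Kˣ →* Kˣ).ker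
  have hT₁card : Nat.card T₁ = q + 1 := by
    rw [IsCyclic.card_powMonoidHom_ker, Nat.card_eq_fintype_card, Fintype.card_units, hK]
    apply Nat.gcd_eq_right
    have := Nat.sq_sub_sq q 1
    rw [one_pow] at this
    exact ⟨q - 1, this⟩
  let H : Subgroup T₁ := (powMonoidHom n : T₁ →* T₁).range
  have hcardQ : Nat.card (T₁ ⧸ H) = Nat.gcd n (q + 1) := by
    rw [← Subgroup.index_eq_card, IsCyclic.index_powMonoidHom_range, hT₁card, Nat.gcd_comm]
  rw [← hcardQ]
  have hmem : ∀ d : K, sigQ hK d * d = 1 → ∃ t : T₁, ((t : Kˣ) : K) = d := by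
    intro d hd
    have hd0 : d ≠ 0 := by
      rintro rfl
      simp at hd
    refine ⟨⟨Units.mk0 d hd0, ?_⟩, rfl⟩
    rw [MonoidHom.mem_ker, powMonoidHom_apply]
    apply Units.ext
    rw [Units.val_pow_eq_pow_val, Units.val_mk0, Units.val_one, pow_succ, ← sigQ_apply hK]
    exact hd
  have hmem' : ∀ t : T₁, sigQ hK ((t : Kˣ) : K) * ((t : Kˣ) : K) = 1 := by
    intro t
    have h1 : (t : Kˣ) ^ (q + 1) = 1 := MonoidHom.mem_ker.mp t.2
    have h2 := congrArg (fun u : Kˣ => (u : K)) h1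
    simp only [Units.val_pow_eq_pow_val, Units.val_one] at h2
    rw [sigQ_apply hK, ← pow_succ]
    exact h2
  obtain ⟨M₀, hU₀, hR₀⟩ := exists_unitary_reg hK hn1 (n := n)
  let mat : ↥(Cfsg.SU n K q) → Matrix (Fin n) (Fin n) K :=
    fun u => ((u : GL (Fin n) K) : Matrix (Fin n) (Fin n) K)
  have hmatU : ∀ u : ↥(Cfsg.SU n K q), sharp hK (mat u) * mat u = 1 :=
    fun u => (pres_iff hK _).mp (fun v w => u.2 v w)
  have hmat_mul : ∀ u v : ↥(Cfsg.SU n K q), mat (u * v) = mat u * mat v := by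
    intro u v
    rfl
  have hmat_det : ∀ u : ↥(Cfsg.SU n K q), (mat u).det = 1 := fun u => u.1.2
  have hmat_inj : ∀ u v : ↥(Cfsg.SU n K q), mat u = mat v → u = v := by
    intro u v h
    apply Subtype.ext
    apply Subtype.ext
    exact h
  have hdetU : ∀ P : Matrix (Fin n) (Fin n) K, sharp hK P * P = 1 → sigQ hK P.det * P.det = 1 := by
    intro P hP
    rw [← det_sharp, ← Matrix.det_mul, hP, Matrix.det_one]
  have hmk : ∀ g : Matrix (Fin n) (Fin n) K, g.det = 1 → sharp hK g * g = 1 →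
      ∃ h : ↥(Cfsg.SU n K q), mat h = g := by
    intro g hg hgU
    exact ⟨⟨⟨g, hg⟩, fun v w => (pres_iff hK g).mpr hgU v w⟩, rfl⟩
  let T := {C : ConjClasses ↥(Cfsg.SU n K q) // ∃ u : ↥(Cfsg.SU n K q), ConjClasses.mk u = C ∧ (((u : GL (Fin n) K) : Matrix (Fin n) (Fin n) K) - 1) ^ n = 0 ∧ (((u : GL (Fin n) K) : Matrix (Fin n) (Fin n) K) - 1).rank = n - 1}
  let rep : T → ↥(Cfsg.SU n K q) := fun C => Classical.choose C.2
  have hrep : ∀ C : T, ConjClasses.mk (rep C) = C.1 ∧ IsReg (mat (rep C)) := fun C =>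
    ⟨(Classical.choose_spec C.2).1, (Classical.choose_spec C.2).2.1, (Classical.choose_spec C.2).2.2⟩
  have hex : ∀ C : T, ∃ P : Matrix (Fin n) (Fin n) K, IsUnit P.det ∧ sharp hK P * P = 1 ∧
      P * M₀ = mat (rep C) * P :=
    fun C => exists_unitary_conj_of_reg hK hn1 hU₀ (hmatU _) hR₀ (hrep C).2
  let PP : T → Matrix (Fin n) (Fin n) K := fun C => Classical.choose (hex C)
  have hPP : ∀ C : T, IsUnit (PP C).det ∧ sharp hK (PP C) * PP C = 1 ∧
      PP C * M₀ = mat (rep C) * PP C := fun C => Classical.choose_spec (hex C)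
  let dd : T → T₁ := fun C => Classical.choose (hmem _ (hdetU _ (hPP C).2.1))
  have hdd : ∀ C : T, (((dd C : T₁) : Kˣ) : K) = (PP C).det :=
    fun C => Classical.choose_spec (hmem _ (hdetU _ (hPP C).2.1))
  let Θ : T → T₁ ⧸ H := fun C => QuotientGroup.mk (dd C)
  apply Nat.card_congr
  apply Equiv.ofBijective Θ
  constructor
  · intro C C' h
    have h1 : (dd C)⁻¹ * dd C' ∈ H := QuotientGroup.eq.mp h
    obtain ⟨a, ha⟩ := h1
    rw [powMonoidHom_apply] at ha
    have ha2 := congrArg (fun t : T₁ => ((t : Kˣ) : K)) ha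
    simp only [Subgroup.coe_mul, Units.val_mul, Subgroup.coe_inv, Units.val_inv_eq_inv_val,
      Subgroup.coe_pow, Units.val_pow_eq_pow_val, hdd] at ha2
    have hd0 : (PP C).det ≠ 0 := (hPP C).1.ne_zero
    have hdet : (PP C').det = (PP C).det * ((a : Kˣ) : K) ^ n := by
      rw [ha2, mul_inv_cancel_left₀ hd0]
    obtain ⟨g, hg1, hgU, hgM⟩ := exists_su_conj hK (hPP C).2.1 (hPP C').2.1 (hPP C).2.2
      (hPP C').2.2 ((a : Kˣ) : K) (hmem' a) hdet
    obtain ⟨h, hh⟩ := hmk g hg1 hgU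
    apply Subtype.ext
    rw [← (hrep C).1, ← (hrep C').1]
    apply ConjClasses.mk_eq_mk_iff_isConj.mpr
    rw [isConj_iff]
    refine ⟨h, ?_⟩
    rw [mul_inv_eq_iff_eq_mul]
    apply hmat_inj
    rw [hmat_mul, hmat_mul, hh]
    exact hgM
  · intro x
    obtain ⟨d, rfl⟩ := QuotientGroup.mk_surjective x
    have hd1 := hmem' d
    have hd00 : ((d : Kˣ) : K) ≠ 0 := Units.ne_zero _
    obtain ⟨D, hDU, hDdet⟩ := exists_unitary_det hK hn1 ((d : Kˣ) : K) hd1
    have hDU' : D * sharp hK D = 1 := _root_.mul_eq_one_comm.mp hDU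
    have hDu : IsUnit D.det := by
      rw [hDdet]
      exact isUnit_iff_ne_zero.mpr hd00
    set M := D * M₀ * sharp hK D with hM
    have hDM : D * M₀ = M * D := by
      rw [hM, Matrix.mul_assoc, hDU, Matrix.mul_one]
    have hMreg : IsReg M := isReg_of_conj hDu hDM hR₀
    have hMU : sharp hK M * M = 1 := by
      rw [hM, sharp_mul, sharp_mul, sharp_sharp]
      calc D * (sharp hK M₀ * sharp hK D) * (D * M₀ * sharp hK D)
          = D * (sharp hK M₀ * (sharp hK D * D) * M₀) * sharp hK D := by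
            simp only [Matrix.mul_assoc]
        _ = 1 := by rw [hDU, Matrix.mul_one, hU₀, Matrix.mul_one, hDU']
    obtain ⟨ud, hud⟩ := hmk M (det_of_isReg hMreg) hMU
    have hudreg : IsReg (mat ud) := by rw [hud]; exact hMreg
    let C : T := ⟨ConjClasses.mk ud, ud, rfl, hudreg.1, hudreg.2⟩
    refine ⟨C, ?_⟩
    have hconj : IsConj (rep C) ud := ConjClasses.mk_eq_mk_iff_isConj.mp (hrep C).1
    obtain ⟨h, hh⟩ := isConj_iff.mp hconj
    rw [mul_inv_eq_iff_eq_mul] at hh
    have hh2 : mat h * mat (rep C) = M * mat h := by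
      rw [← hmat_mul, hh, hmat_mul, hud]
    have hPU : sharp hK (mat h * PP C) * (mat h * PP C) = 1 := by
      rw [sharp_mul]
      calc sharp hK (PP C) * sharp hK (mat h) * (mat h * PP C)
          = sharp hK (PP C) * (sharp hK (mat h) * mat h) * PP C := by
            simp only [Matrix.mul_assoc]
        _ = 1 := by rw [hmatU, Matrix.mul_one, (hPP C).2.1]
    have hPM : mat h * PP C * M₀ = M * (mat h * PP C) := by
      rw [Matrix.mul_assoc, (hPP C).2.2, ← Matrix.mul_assoc, hh2, Matrix.mul_assoc]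
    obtain ⟨a, ha1, ha2⟩ := det_ratio hK hn1 hR₀ hPU hDU hPM hDM
    rw [Matrix.det_mul, hmat_det, one_mul, hDdet] at ha2
    obtain ⟨a', ha'⟩ := hmem a ha1
    show (QuotientGroup.mk (dd C) : T₁ ⧸ H) = QuotientGroup.mk d
    rw [QuotientGroup.eq]
    refine ⟨a', ?_⟩
    rw [powMonoidHom_apply]
    apply Subtype.ext
    apply Units.ext
    simp only [Subgroup.coe_mul, Units.val_mul, Subgroup.coe_inv, Units.val_inv_eq_inv_val,
      Subgroup.coe_pow, Units.val_pow_eq_pow_val, hdd, ha']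
    rw [ha2, inv_mul_cancel_left₀ (hPP C).1.ne_zero]

end Cfsg.Agent.S2643
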