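import Cfsg.Statements.S2646
import Cfsg.Agent.Lib.Helper14.UCent9
import Cfsg.Agent.Lib.Helper16.UnitaryCount3

set_option autoImplicit false
open Cfsg

namespace Cfsg.Agent.S2646

open Cfsg.Agent.Lib.Helper14 Cfsg.Agent.Lib.Helper14.UCent

/-- the order of the general unitary group, as an integer -/
theorem card_GU_int {K : Type*} [Field K] [Fintype K] {q : ℕ} (hK : Fintype.card K = q ^ 2)
    (a : ℕ) :
    (Nat.card ↥(Cfsg.GU a K q) : ℤ) = (q : ℤ) ^ (a * (a - 1) / 2) *
      ∏ j : Fin a, ((q : ℤ) ^ ((j : ℕ) + 1) - (-1) ^ ((j : ℕ) + 1)) := by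
  have hq : 0 < q := by
    rcases Nat.eq_zero_or_pos q with h0 | hpos
    · exfalso
      rw [h0] at hK
      simp at hK
    · exact hpos
  rw [Cfsg.Agent.Lib.Helper16.card_GU hK a]
  push_cast
  congr 1
  rw [Fin.prod_univ_eq_prod_range (fun j => ((q : ℤ) ^ (j + 1) - (-1) ^ (j + 1))) a]
  apply Finset.prod_congr rfl
  intro i _
  by_cases hi : Even i
  · rw [if_pos hi]
    have h1 : (-1 : ℤ) ^ (i + 1) = -1 := Odd.neg_one_pow (Even.add_one hi)
    rw [h1]
    ring
  · rw [if_neg hi]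
    have hi' : Odd i := Nat.not_even_iff_odd.mp hi
    have h1 : (-1 : ℤ) ^ (i + 1) = 1 := Even.neg_one_pow (Odd.add_one hi')
    rw [h1]
    have h2 : 1 ≤ q ^ (i + 1) := Nat.one_le_pow _ _ hq
    rw [Nat.cast_sub h2]
    push_cast
    ring

/-- Order of the centraliser in the general unitary group GU_n(q) of a unipotent element of given Jordan type: if u ∈ GU_n(q) (isometries of Σ u_i v_i^q over the field with q² elements) is similar to the unipotent matrix with a_i Jordan blocks of size i (all sizes at least 1), then its centraliser in GU_n(q) has order q^γ · Π_i |GU_(a_i)(q)| with γ = 2 Σ_(i<j) i a_i a_j + Σ_i (i − 1) a_i², the same exponent as in GL_n(q), where |GU_a(q)| = q^(a(a−1)/2) Π_(k=1)^a (q^k − (−1)^k). -/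
theorem result {K : Type*} [Field K] [Fintype K] {q n t : ℕ} (hK : Fintype.card K = q ^ 2) (d : Fin t → ℕ) (hd : ∀ k, 1 ≤ d k) (e : ((k : Fin t) × Fin (d k)) ≃ Fin n) (u : ↥(Cfsg.GU n K q)) (hu : IsConj (Matrix.reindex e e (Cfsg.jordanTypeMatrix d K)) ((u : GL (Fin n) K) : Matrix (Fin n) (Fin n) K)) : (Nat.card ↥(Subgroup.centralizer ({u} : Set ↥(Cfsg.GU n K q))) : ℤ) = (q : ℤ) ^ (2 * (∑ i ∈ Finset.range (Finset.univ.sup d + 1), ∑ j ∈ Finset.range (Finset.univ.sup d + 1), if i < j then i * (Finset.univ.filter (fun k : Fin t => d k = i)).card * (Finset.univ.filter (fun k : Fin t => d k = j)).card else 0) + ∑ i ∈ Finset.range (Finset.univ.sup d + 1), (i - 1) * (Finset.univ.filter (fun k : Fin t => d k = i)).card ^ 2) * ∏ i ∈ Finset.range (Finset.univ.sup d + 1), ((q : ℤ) ^ ((Finset.univ.filter (fun k : Fin t => d k = i)).card * ((Finset.univ.filter (fun k : Fin t => d k = i)).card - 1) / 2) * ∏ j : Fin (Finset.univ.filter (fun k : Fin t => d k = i)).card, ((q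 : ℤ) ^ ((j : ℕ) + 1) - (-1) ^ ((j : ℕ) + 1))) := by
  have h := card_centralizer_GU_aux hK d hd e u hu
  rw [h]
  push_cast
  congr 1
  rw [Fin.prod_univ_eq_prod_range (fun i => (Nat.card ↥(Cfsg.GU (UJC.mult d i) K q) : ℤ))
    (Finset.univ.sup d + 1)]
  apply Finset.prod_congr rfl
  intro i _
  exact card_GU_int hK _

end Cfsg.Agent.S2646
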