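import Mathlib
import Cfsg.Statements.S2648
import Cfsg.Agent.S4624

set_option autoImplicit false
open Cfsg

namespace Cfsg.Agent.S2648

open Matrix Cfsg.Agent.Lib.Helper14
open scoped commutatorElement
open SemidirectProduct (inl inr)

/-! ### generalities on the derived series -/

theorem derivedSeries_bot_of_injective {G H : Type*} [Group G] [Group H] (f : G →* H)
    (hf : Function.Injective f) (k : ℕ) (h : derivedSeries H k = ⊥) : derivedSeries G k = ⊥ := by
  have h1 := map_derivedSeries_le_derivedSeries f k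
  rw [h, le_bot_iff] at h1
  exact (Subgroup.map_eq_bot_iff_of_injective _ hf).mp h1

theorem derivedSeries_one_of_comm {N : Type*} [CommGroup N] : derivedSeries N 1 = ⊥ := by
  rw [derivedSeries_one, commutator_def, eq_bot_iff, Subgroup.commutator_le]
  intro x _ y _
  rw [Subgroup.mem_bot]
  exact commutatorElement_eq_one_iff_commute.mpr (Commute.all x y)

theorem derivedSeries_semidirect {N G : Type*} [Group N] [Group G] (φ : G →* MulAut N) (a b : ℕ)
    (hN : derivedSeries N a = ⊥) (hG : derivedSeries G b = ⊥) :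
    derivedSeries (N ⋊[φ] G) (b + a) = ⊥ := by
  have h1 : derivedSeries (N ⋊[φ] G) b ≤ (inl : N →* N ⋊[φ] G).range := by
    rw [SemidirectProduct.range_inl_eq_ker_rightHom]
    intro x hx
    rw [MonoidHom.mem_ker]
    have h2 : SemidirectProduct.rightHom x ∈
        (derivedSeries (N ⋊[φ] G) b).map SemidirectProduct.rightHom :=
      Subgroup.mem_map_of_mem _ hx
    have h3 := map_derivedSeries_le_derivedSeries
      (SemidirectProduct.rightHom : N ⋊[φ] G →* G) b h2
    rw [hG] at h3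
    exact Subgroup.mem_bot.mp h3
  have h4 : ∀ i, derivedSeries (N ⋊[φ] G) (b + i) ≤ (derivedSeries N i).map inl := by
    intro i
    induction i with
    | zero =>
      rw [add_zero, derivedSeries_zero, ← MonoidHom.range_eq_map]
      exact h1
    | succ i ih =>
      rw [← add_assoc, derivedSeries_succ, derivedSeries_succ, Subgroup.map_commutator]
      exact Subgroup.commutator_mono ih ih
  have h5 := h4 a
  rw [hN, Subgroup.map_bot, le_bot_iff] at h5
  exact h5

theorem derivedSeries_pi {ι A : Type*} [Group A] (a : ℕ) (hA : derivedSeries A a = ⊥) :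
    derivedSeries (ι → A) a = ⊥ := by
  rw [eq_bot_iff]
  intro f hf
  rw [Subgroup.mem_bot]
  funext i
  have h2 : Pi.evalMonoidHom (fun _ : ι => A) i f ∈
      (derivedSeries (ι → A) a).map (Pi.evalMonoidHom (fun _ : ι => A) i) :=
    Subgroup.mem_map_of_mem _ hf
  have h3 := map_derivedSeries_le_derivedSeries (Pi.evalMonoidHom (fun _ : ι => A) i) a h2
  rw [hA] at h3
  exact Subgroup.mem_bot.mp h3

theorem comap_commutator_le {G H : Type*} [Group G] [Group H] (f : G →* H) (D : Subgroup H) :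
    ⁅D.comap f, D.comap f⁆ ≤ (⁅D, D⁆).comap f := by
  rw [Subgroup.commutator_le]
  intro g₁ h₁ g₂ h₂
  show f ⁅g₁, g₂⁆ ∈ ⁅D, D⁆
  rw [map_commutatorElement]
  exact Subgroup.commutator_mem_commutator h₁ h₂

theorem commutator_inl_inr {N G : Type*} [Group N] [Group G] (φ : G →* MulAut N) (f : N) (t : G) :
    ⁅(inl f : N ⋊[φ] G), (inr t : N ⋊[φ] G)⁆ = inl (f * (φ t f)⁻¹) := by
  have h : (inr t : N ⋊[φ] G) * (inl f)⁻¹ * (inr t)⁻¹ = (inl (φ t f))⁻¹ := by
    rw [SemidirectProduct.inl_aut, map_inv]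
    group
  rw [commutatorElement_def, map_mul, map_inv, ← h]
  group

/-! ### the derived length of a quaternion-like group -/

theorem dl_two_of_quot_cyclic {C : Type*} [Group C] (Z : Subgroup C) [Z.Normal] (v : C) (S : Set C)
    (hS : Subgroup.closure S = ⊤) (hSv : ∀ s ∈ S, s = v ∨ s ∈ Z)
    (hZ : ∀ x ∈ Z, ∀ y ∈ Z, x * y = y * x) : derivedSeries C 2 = ⊥ := by
  have hcyc : ∀ x : C ⧸ Z, x ∈ Subgroup.zpowers (QuotientGroup.mk' Z v) := by
    intro x
    obtain ⟨y, rfl⟩ := QuotientGroup.mk'_surjective Z x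
    have hle : Subgroup.closure S ≤
        (Subgroup.zpowers (QuotientGroup.mk' Z v)).comap (QuotientGroup.mk' Z) := by
      rw [Subgroup.closure_le]
      intro s hs
      show QuotientGroup.mk' Z s ∈ Subgroup.zpowers (QuotientGroup.mk' Z v)
      rcases hSv s hs with h | h
      · rw [h]
        exact Subgroup.mem_zpowers _
      · have e : QuotientGroup.mk' Z s = 1 := by
          rw [QuotientGroup.mk'_apply]
          exact (QuotientGroup.eq_one_iff s).mpr h
        rw [e]
        exact one_mem _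
    exact hle (by rw [hS]; exact Subgroup.mem_top y)
  have hcomm : ∀ x y : C, ⁅x, y⁆ ∈ Z := by
    intro x y
    rw [← QuotientGroup.eq_one_iff, ← QuotientGroup.mk'_apply, map_commutatorElement,
      commutatorElement_eq_one_iff_commute]
    obtain ⟨i, hi⟩ := Subgroup.mem_zpowers_iff.mp (hcyc (QuotientGroup.mk' Z x))
    obtain ⟨k, hk⟩ := Subgroup.mem_zpowers_iff.mp (hcyc (QuotientGroup.mk' Z y))
    rw [← hi, ← hk]
    exact (Commute.refl _).zpow_zpow i k
  have hd1 : derivedSeries C 1 ≤ Z := by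
    rw [derivedSeries_one, commutator_def, Subgroup.commutator_le]
    exact fun x _ y _ => hcomm x y
  have hZZ : ⁅Z, Z⁆ = ⊥ := by
    rw [Subgroup.commutator_eq_bot_iff_le_centralizer]
    intro x hx
    rw [Subgroup.mem_centralizer_iff]
    intro y hy
    exact hZ y hy x hx
  have h2 : derivedSeries C 2 = ⁅derivedSeries C 1, derivedSeries C 1⁆ := rfl
  rw [eq_bot_iff, h2, ← hZZ]
  exact Subgroup.commutator_mono hd1 hd1

theorem quat_sub' {G : Type*} [Group G] [Finite G] (g v : G) (j : ℕ)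
    (hg : orderOf g = 2 ^ (j + 2)) (hv : v * g * v⁻¹ = g⁻¹) (hv2 : v ^ 2 = g ^ (2 ^ (j + 1))) :
    ∃ Q : Subgroup G, IsPGroup 2 Q ∧ 2 ^ (j + 3) ≤ Nat.card Q ∧
      derivedSeries Q 2 = ⊥ ∧ derivedSeries Q 1 ≠ ⊥ := by
  have hQsup : Subgroup.closure ({v, g} : Set G) = Subgroup.zpowers v ⊔ Subgroup.zpowers g := by
    rw [Subgroup.zpowers_eq_closure, Subgroup.zpowers_eq_closure, ← Subgroup.closure_union,
      Set.singleton_union]
  have key : ∀ x ∈ Subgroup.zpowers g, v * x * v⁻¹ = x⁻¹ := by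
    intro x hx
    obtain ⟨i, rfl⟩ := Subgroup.mem_zpowers_iff.mp hx
    have h := map_zpow (MulAut.conj v) g i
    rw [MulAut.conj_apply, MulAut.conj_apply, hv, _root_.inv_zpow] at h
    exact h
  have hvN : v ∈ Subgroup.normalizer (Subgroup.zpowers g : Set G) := by
    rw [Subgroup.mem_normalizer_iff_map_conj_eq, MonoidHom.map_zpowers, MonoidHom.coe_coe,
      MulAut.conj_apply, hv, Subgroup.zpowers_inv]
  have hZp : IsPGroup 2 (Subgroup.zpowers g) :=
    IsPGroup.of_card (n := j + 2) (by rw [Nat.card_zpowers, hg])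
  have he : 2 ^ (j + 1) * 2 = orderOf g := by rw [hg]; ring
  have hv4 : v ^ 4 = 1 := by
    have h : v ^ 4 = (v ^ 2) ^ 2 := by rw [← pow_mul]
    rw [h, hv2, ← pow_mul, he, pow_orderOf_eq_one]
  have hVp : IsPGroup 2 (Subgroup.zpowers v) := by
    have hd : orderOf v ∣ 2 ^ 2 := orderOf_dvd_of_pow_eq_one (by norm_num [hv4])
    obtain ⟨i, -, hi⟩ := (Nat.dvd_prime_pow Nat.prime_two).mp hd
    exact IsPGroup.of_card (n := i) (by rw [Nat.card_zpowers, hi])
  have hQ2 : IsPGroup 2 (Subgroup.closure ({v, g} : Set G)) := by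
    rw [hQsup]
    exact IsPGroup.to_sup_of_normal_right' hVp hZp (Subgroup.zpowers_le.mpr hvN)
  have hvZ : v ∉ Subgroup.zpowers g := by
    intro hvz
    have h1 := key v hvz
    rw [mul_inv_cancel_right] at h1
    have h2 : v ^ 2 = 1 := by
      calc v ^ 2 = v * v := pow_two v
        _ = v * v⁻¹ := by rw [← h1]
        _ = 1 := mul_inv_cancel v
    rw [hv2] at h2
    have h3 := orderOf_dvd_of_pow_eq_one h2
    rw [hg, Nat.pow_dvd_pow_iff_le_right (by norm_num)] at h3
    omega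
  have hvQ : v ∈ Subgroup.closure ({v, g} : Set G) := Subgroup.subset_closure (by simp)
  have hgQ : g ∈ Subgroup.closure ({v, g} : Set G) := Subgroup.subset_closure (by simp)
  have hZQ : Subgroup.zpowers g ≤ Subgroup.closure ({v, g} : Set G) :=
    Subgroup.zpowers_le.mpr hgQ
  obtain ⟨a, ha⟩ := IsPGroup.iff_card.mp hQ2
  have hZc : Nat.card (Subgroup.zpowers g) = 2 ^ (j + 2) := by rw [Nat.card_zpowers, hg]
  have hdvd : 2 ^ (j + 2) ∣ 2 ^ a := by
    rw [← hZc, ← ha]
    exact Subgroup.card_dvd_of_le hZQ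
  have hle : j + 2 ≤ a := (Nat.pow_dvd_pow_iff_le_right (by norm_num)).mp hdvd
  have hne : a ≠ j + 2 := by
    intro h
    have h1 : Subgroup.zpowers g = Subgroup.closure ({v, g} : Set G) :=
      Subgroup.eq_of_le_of_card_ge hZQ (by rw [ha, hZc, h])
    exact hvZ (h1 ▸ hvQ)
  have hcard : 2 ^ (j + 3) ≤ Nat.card (Subgroup.closure ({v, g} : Set G)) := by
    rw [ha]
    exact Nat.pow_le_pow_right (by norm_num) (by omega)
  refine ⟨_, hQ2, hcard, ?_, ?_⟩
  · have hN : Subgroup.closure ({v, g} : Set G) ≤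
        Subgroup.normalizer (Subgroup.zpowers g : Set G) := by
      rw [Subgroup.closure_le]
      intro s hs
      have hs' : s = v ∨ s = g := hs
      rcases hs' with h | h
      · rw [h]
        exact hvN
      · rw [h]
        exact Subgroup.le_normalizer (Subgroup.mem_zpowers g)
    haveI hnorm : ((Subgroup.zpowers g).subgroupOf
        (Subgroup.closure ({v, g} : Set G))).Normal :=
      (Subgroup.normal_subgroupOf_iff_le_normalizer hZQ).mpr hN
    apply dl_two_of_quot_cyclic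
      ((Subgroup.zpowers g).subgroupOf (Subgroup.closure ({v, g} : Set G))) ⟨v, hvQ⟩
      (((↑) : Subgroup.closure ({v, g} : Set G) → G) ⁻¹' {v, g})
      Subgroup.closure_closure_coe_preimage
    · rintro ⟨s, hs⟩ hsS
      have hs' : s = v ∨ s = g := hsS
      rcases hs' with h | h
      · left
        exact Subtype.ext h
      · right
        rw [Subgroup.mem_subgroupOf]
        show s ∈ Subgroup.zpowers g
        rw [h]
        exact Subgroup.mem_zpowers g
    · intro x hx y hy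
      obtain ⟨i, hi⟩ := Subgroup.mem_zpowers_iff.mp (Subgroup.mem_subgroupOf.mp hx)
      obtain ⟨k, hk⟩ := Subgroup.mem_zpowers_iff.mp (Subgroup.mem_subgroupOf.mp hy)
      apply Subtype.ext
      show (x : G) * (y : G) = (y : G) * (x : G)
      rw [← hi, ← hk]
      exact ((Commute.refl g).zpow_zpow i k).eq
  · intro hbot
    have h1 : ⁅(⟨v, hvQ⟩ : Subgroup.closure ({v, g} : Set G)), ⟨g, hgQ⟩⁆ ∈
        derivedSeries (Subgroup.closure ({v, g} : Set G)) 1 := by
      rw [derivedSeries_one, commutator_def]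
      exact Subgroup.commutator_mem_commutator (Subgroup.mem_top _) (Subgroup.mem_top _)
    rw [hbot, Subgroup.mem_bot] at h1
    have h2 : v * g * v⁻¹ * g⁻¹ = 1 := by
      have h := congrArg Subtype.val h1
      rw [commutatorElement_def] at h
      exact h
    rw [hv] at h2
    have h3 : g ^ 2 = 1 := by
      have h : (g ^ 2)⁻¹ = 1 := by
        rw [pow_two, _root_.mul_inv_rev]
        exact h2
      exact inv_eq_one.mp h
    have h4 := orderOf_dvd_of_pow_eq_one h3
    rw [hg] at h4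
    have h5 := Nat.le_of_dvd (by norm_num) h4
    have h6 : 2 ^ (j + 2) = 4 * 2 ^ j := by rw [pow_add]; ring
    have h7 : 1 ≤ 2 ^ j := Nat.one_le_two_pow
    omega

theorem exists_sl2_sub' {F : Type*} [Field F] [Fintype F] (hF : Odd (Fintype.card F)) :
    ∃ Q : Subgroup (SpecialLinearGroup (Fin 2) F), IsPGroup 2 Q ∧
      2 ^ (Nat.card (SpecialLinearGroup (Fin 2) F)).factorization 2 ≤ Nat.card Q ∧
      derivedSeries Q 2 = ⊥ ∧ derivedSeries Q 1 ≠ ⊥ := by
  have h2 : (2 : F) ≠ 0 := Cfsg.Agent.S2234.two_ne_zero_of_odd hF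
  have hq1 : 1 < Fintype.card F := Fintype.one_lt_card
  obtain ⟨m, g₀, v, hm, h4, hmq, hv, hv2⟩ := S4624.exists_sl2_data hF
  have hm0 : m ≠ 0 := by rcases hmq with rfl | rfl <;> omega
  obtain ⟨j, g, hj, hg, hvg⟩ := S4624.two_part g₀ v m hm h4 hm0 hv
  have he : 2 ^ (j + 1) * 2 = orderOf g := by rw [hg]; ring
  have hvv : v ^ 2 = g ^ (2 ^ (j + 1)) := by
    have h1 : (g ^ (2 ^ (j + 1))) ^ 2 = 1 := by
      rw [← pow_mul, he]
      exact pow_orderOf_eq_one g
    rcases S4624.sl2_sq_eq_one h2 _ h1 with h | h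
    · exfalso
      have h3 := orderOf_dvd_of_pow_eq_one h
      rw [hg, Nat.pow_dvd_pow_iff_le_right (by norm_num)] at h3
      omega
    · rw [hv2, h]
  obtain ⟨Q, hQ2, hQc, hd2, hd1⟩ := quat_sub' g v j hg hvg hvv
  refine ⟨Q, hQ2, ?_, hd2, hd1⟩
  rw [card_SL2, S4624.val2_sl2 _ m hF hq1 h4 hmq, hj]
  exact hQc

/-! ### the derived length of a Sylow 2-subgroup of a symmetric group -/

theorem derivedSeries_sylow_perm : ∀ (n : ℕ) (T : Sylow 2 (Equiv.Perm (Fin n))),
    derivedSeries (T : Subgroup (Equiv.Perm (Fin n))) (Nat.log 2 n) = ⊥ := by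
  intro n
  induction n using Nat.strong_induction_on with
  | _ n ih =>
    intro T
    by_cases hn : n < 2
    · have : Subsingleton (Equiv.Perm (Fin n)) := by
        interval_cases n <;> infer_instance
      rw [eq_bot_iff]
      intro x _
      rw [Subgroup.mem_bot]
      exact Subsingleton.elim _ _
    · push Not at hn
      have hm : n / 2 < n := Nat.div_lt_self (by omega) (by norm_num)
      obtain ⟨Pm⟩ : Nonempty (Sylow 2 (Equiv.Perm (Fin (n / 2)))) := inferInstance
      obtain ⟨Φ, hΦ, -, hcard⟩ := Cfsg.Agent.S4623.model 2 n Pm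
      have hW : derivedSeries (Cfsg.Agent.S4623.Wr 2 (n / 2) Pm) (Nat.log 2 (n / 2) + 1) = ⊥ :=
        derivedSeries_semidirect _ 1 (Nat.log 2 (n / 2)) derivedSeries_one_of_comm (ih _ hm Pm)
      have hr : Nat.card Φ.range = 2 ^ (Nat.card (Equiv.Perm (Fin n))).factorization 2 := by
        rw [← hcard]
        exact Nat.card_congr (MonoidHom.ofInjective hΦ).toEquiv.symm
      let P0 : Sylow 2 (Equiv.Perm (Fin n)) := Sylow.ofCard Φ.range hr
      have e1 : Cfsg.Agent.S4623.Wr 2 (n / 2) Pm ≃* (P0 : Subgroup (Equiv.Perm (Fin n))) :=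
        MonoidHom.ofInjective hΦ
      have e2 := e1.trans (Sylow.equiv P0 T)
      rw [Nat.log_of_one_lt_of_le (by norm_num) hn]
      exact derivedSeries_bot_of_injective e2.symm.toMonoidHom e2.symm.injective _ hW

/-! ### towers -/

/-- a tower of height `k` at `x₀` with top set `S` -/
inductive HasTower {X : Type*} (T : Subgroup (Equiv.Perm X)) (x₀ : X) : ℕ → Set X → Prop
  | zero : HasTower T x₀ 0 {x₀}
  | succ {k : ℕ} {S : Set X} (t : T) : HasTower T x₀ k S → t ∈ derivedSeries T k →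
      (∀ x ∈ S, (t : Equiv.Perm X) x ∉ S) →
      HasTower T x₀ (k + 1) (S ∪ ⇑(t : Equiv.Perm X) '' S)

theorem tower_elem {X A : Type*} [DecidableEq X] [Group A] (T : Subgroup (Equiv.Perm X))
    (φ : T →* MulAut (X → A))
    (hφ : ∀ (t : T) (f : X → A), φ t f = f ∘ ⇑(t : Equiv.Perm X).symm) {x₀ : X} {k : ℕ}
    {S : Set X} (h : HasTower T x₀ k S) (a : A) :
    ∃ f : X → A, (inl f : (X → A) ⋊[φ] T) ∈ derivedSeries ((X → A) ⋊[φ] T) k ∧
      (∀ x, x ∉ S → f x = 1) ∧ (∀ x ∈ S, f x = a ∨ f x = a⁻¹) ∧ x₀ ∈ S ∧ f x₀ = a := by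
  induction h with
  | zero =>
    refine ⟨Pi.mulSingle x₀ a, ?_, ?_, ?_, ?_, ?_⟩
    · rw [derivedSeries_zero]
      exact Subgroup.mem_top _
    · intro x hx
      rw [Pi.mulSingle_apply]
      exact if_neg (fun e => hx (Set.mem_singleton_iff.mpr e))
    · intro x hx
      left
      rw [Set.mem_singleton_iff.mp hx, Pi.mulSingle_apply]
      exact if_pos rfl
    · exact Set.mem_singleton _
    · rw [Pi.mulSingle_apply]
      exact if_pos rfl
  | @succ k S t _ ht hdisj ih =>
    obtain ⟨f, hf1, hf2, hf3, hx0, hf4⟩ := ih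
    have hinv : ∀ x ∈ S, (t : Equiv.Perm X).symm x ∉ S := by
      intro x hx hx'
      have h1 := hdisj _ hx'
      rw [Equiv.apply_symm_apply] at h1
      exact h1 hx
    refine ⟨f * (φ t f)⁻¹, ?_, ?_, ?_, ?_, ?_⟩
    · have h1 : (inr t : (X → A) ⋊[φ] T) ∈ derivedSeries ((X → A) ⋊[φ] T) k :=
        map_derivedSeries_le_derivedSeries (inr : T →* (X → A) ⋊[φ] T) k
          (Subgroup.mem_map_of_mem _ ht)
      rw [derivedSeries_succ, ← commutator_inl_inr φ f t]
      exact Subgroup.commutator_mem_commutator hf1 h1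
    · intro x hx
      have hx1 : x ∉ S := fun hh => hx (Or.inl hh)
      have hx2 : (t : Equiv.Perm X).symm x ∉ S :=
        fun hh => hx (Or.inr ⟨_, hh, Equiv.apply_symm_apply _ _⟩)
      rw [Pi.mul_apply, Pi.inv_apply, hφ, Function.comp_apply, hf2 x hx1, hf2 _ hx2, inv_one,
        mul_one]
    · intro x hx
      rw [Pi.mul_apply, Pi.inv_apply, hφ, Function.comp_apply]
      rcases hx with hx | ⟨y, hy, rfl⟩
      · rw [hf2 _ (hinv x hx), inv_one, mul_one]
        exact hf3 x hx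
      · rw [hf2 _ (hdisj y hy), Equiv.symm_apply_apply, one_mul]
        rcases hf3 y hy with h' | h'
        · right
          rw [h']
        · left
          rw [h', inv_inv]
    · exact Or.inl hx0
    · rw [Pi.mul_apply, Pi.inv_apply, hφ, Function.comp_apply, hf2 _ (hinv x₀ hx0), inv_one,
        mul_one, hf4]

theorem tower_derived {X A : Type*} [DecidableEq X] [Group A] (T : Subgroup (Equiv.Perm X))
    (φ : T →* MulAut (X → A))
    (hφ : ∀ (t : T) (f : X → A), φ t f = f ∘ ⇑(t : Equiv.Perm X).symm) {x₀ : X} {k : ℕ}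
    {S : Set X} (h : HasTower T x₀ k S) (c : ℕ) (hA : derivedSeries A c ≠ ⊥) :
    derivedSeries ((X → A) ⋊[φ] T) (k + c) ≠ ⊥ := by
  have key : ∀ i, derivedSeries A i ≤
      ((derivedSeries ((X → A) ⋊[φ] T) (k + i)).comap
        (inl : (X → A) →* (X → A) ⋊[φ] T)).map (Pi.evalMonoidHom (fun _ : X => A) x₀) := by
    intro i
    induction i with
    | zero =>
      intro a _
      obtain ⟨f, hf1, -, -, -, hf4⟩ := tower_elem T φ hφ h a
      exact Subgroup.mem_map.mpr ⟨f, hf1, hf4⟩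
    | succ i ih =>
      rw [derivedSeries_succ, ← add_assoc, derivedSeries_succ]
      refine (Subgroup.commutator_mono ih ih).trans ?_
      rw [← Subgroup.map_commutator]
      exact Subgroup.map_mono (comap_commutator_le _ _)
  intro hbot
  apply hA
  rw [eq_bot_iff]
  refine (key c).trans ?_
  rw [hbot]
  rintro _ ⟨f, hf, rfl⟩
  have h1 : (inl f : (X → A) ⋊[φ] T) = 1 := Subgroup.mem_bot.mp hf
  have h2 : f = 1 := SemidirectProduct.inl_injective (by rw [h1, map_one])
  rw [h2, map_one]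
  exact one_mem _

theorem tower_transport {X Y : Type*} {T' : Subgroup (Equiv.Perm X)} {T : Subgroup (Equiv.Perm Y)}
    (ψ : T' →* T) (E : X → Y) (hE : Function.Injective E)
    (hψ : ∀ (t : T') (x : X), ((ψ t : T) : Equiv.Perm Y) (E x) = E ((t : Equiv.Perm X) x))
    {x₀ : X} {k : ℕ} {S : Set X} (h : HasTower T' x₀ k S) : HasTower T (E x₀) k (E '' S) := by
  induction h with
  | zero =>
    rw [Set.image_singleton]
    exact HasTower.zero
  | @succ k S t _ ht hdisj ih =>
    have himg : E '' (⇑(t : Equiv.Perm X) '' S) = ⇑((ψ t : T) : Equiv.Perm Y) '' (E '' S) := by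
      rw [Set.image_image, Set.image_image]
      exact Set.image_congr (fun x _ => (hψ t x).symm)
    rw [Set.image_union, himg]
    refine HasTower.succ (ψ t) ih
      (map_derivedSeries_le_derivedSeries ψ _ (Subgroup.mem_map_of_mem _ ht)) ?_
    rintro _ ⟨x, hx, rfl⟩ ⟨x', hx', he⟩
    rw [hψ] at he
    have h1 := hE he
    rw [h1] at hx'
    exact hdisj x hx hx'

/-! ### a Sylow 2-subgroup of the symmetric group with a tower -/

theorem Psi_apply_inl {α : Type*} (R : Type*) {n : ℕ} (e : α ⊕ R ≃ Fin n) (σ : Equiv.Perm α)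
    (y : α) : Cfsg.Agent.S4623.Psi R e σ (e (Sum.inl y)) = e (Sum.inl (σ y)) := by
  show e.permCongrHom (Equiv.Perm.sumCongr σ 1) (e (Sum.inl y)) = _
  rw [Equiv.permCongrHom_coe, Equiv.permCongr_apply, Equiv.symm_apply_apply,
    Equiv.Perm.sumCongr_apply, Sum.map_inl]

/-- the embedding of the model -/
def PhiN (n : ℕ) (Pm : Subgroup (Equiv.Perm (Fin (n / 2))))
    (e : (Fin (n / 2) × ZMod 2) ⊕ Fin (n % 2) ≃ Fin n) :
    Cfsg.Agent.S4623.Wr 2 (n / 2) Pm →* Equiv.Perm (Fin n) :=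
  (Cfsg.Agent.S4623.Psi (Fin (n % 2)) e).comp (Cfsg.Agent.S4623.Phi0 2 (n / 2) Pm)

theorem PhiN_injective (n : ℕ) (Pm : Subgroup (Equiv.Perm (Fin (n / 2))))
    (e : (Fin (n / 2) × ZMod 2) ⊕ Fin (n % 2) ≃ Fin n) : Function.Injective (PhiN n Pm e) := by
  rw [PhiN, MonoidHom.coe_comp]
  exact (Cfsg.Agent.S4623.Psi_injective _ e).comp (Cfsg.Agent.S4623.Phi0_injective 2 (n / 2) Pm)

theorem PhiN_apply (n : ℕ) (Pm : Subgroup (Equiv.Perm (Fin (n / 2))))
    (e : (Fin (n / 2) × ZMod 2) ⊕ Fin (n % 2) ≃ Fin n) (w : Cfsg.Agent.S4623.Wr 2 (n / 2) Pm)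
    (i : Fin (n / 2)) (x : ZMod 2) :
    PhiN n Pm e w (e (Sum.inl (i, x))) =
      e (Sum.inl ((w.right : Equiv.Perm (Fin (n / 2))) i,
        x + Multiplicative.toAdd (w.left ((w.right : Equiv.Perm (Fin (n / 2))) i)))) := by
  rw [PhiN, MonoidHom.comp_apply, Psi_apply_inl, Cfsg.Agent.S4623.Phi0_apply]

theorem card_Wr (n : ℕ) (Pm : Sylow 2 (Equiv.Perm (Fin (n / 2)))) :
    Nat.card (Cfsg.Agent.S4623.Wr 2 (n / 2) Pm) =
      2 ^ (Nat.card (Equiv.Perm (Fin n))).factorization 2 := by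
  rw [SemidirectProduct.card, Nat.card_fun, Sylow.card_eq_multiplicity, Nat.card_perm,
    Nat.card_perm, Nat.card_fin, Nat.card_fin, Nat.card_eq_fintype_card,
    Fintype.card_multiplicative, ZMod.card, ← pow_add]
  congr 1
  rw [Nat.factorization_def _ Nat.prime_two, Nat.factorization_def _ Nat.prime_two,
    ← padicValNat_mul_div_factorial n, padicValNat_factorial_mul, add_comm]

theorem tower_step (n : ℕ) (Pm : Sylow 2 (Equiv.Perm (Fin (n / 2))))
    (e : (Fin (n / 2) × ZMod 2) ⊕ Fin (n % 2) ≃ Fin n) (x₀' : Fin (n / 2)) (k' : ℕ)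
    (S' : Set (Fin (n / 2)))
    (hT' : HasTower (Pm : Subgroup (Equiv.Perm (Fin (n / 2)))) x₀' k' S') :
    ∃ (T : Sylow 2 (Equiv.Perm (Fin n))) (x₀ : Fin n) (S : Set (Fin n)),
      HasTower (T : Subgroup (Equiv.Perm (Fin n))) x₀ (k' + 1) S := by
  have hΦ := PhiN_injective n (Pm : Subgroup (Equiv.Perm (Fin (n / 2)))) e
  have hr : Nat.card (PhiN n (Pm : Subgroup (Equiv.Perm (Fin (n / 2)))) e).range =
      2 ^ (Nat.card (Equiv.Perm (Fin n))).factorization 2 := by
    rw [← card_Wr n Pm]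
    exact Nat.card_congr (MonoidHom.ofInjective hΦ).toEquiv.symm
  let P0 : Sylow 2 (Equiv.Perm (Fin n)) := Sylow.ofCard _ hr
  let e1 : Cfsg.Agent.S4623.Wr 2 (n / 2) Pm ≃* (P0 : Subgroup (Equiv.Perm (Fin n))) :=
    MonoidHom.ofInjective hΦ
  have hE : Function.Injective (fun i : Fin (n / 2) => e (Sum.inl (i, (0 : ZMod 2)))) := by
    intro i i' h
    have h1 := Sum.inl_injective (e.injective h)
    exact congrArg Prod.fst h1
  let ψ : (Pm : Subgroup (Equiv.Perm (Fin (n / 2)))) →* (P0 : Subgroup (Equiv.Perm (Fin n))) :=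
    e1.toMonoidHom.comp (inr : (Pm : Subgroup (Equiv.Perm (Fin (n / 2)))) →*
      Cfsg.Agent.S4623.Wr 2 (n / 2) Pm)
  have hψ : ∀ (t : (Pm : Subgroup (Equiv.Perm (Fin (n / 2))))) (i : Fin (n / 2)),
      ((ψ t : (P0 : Subgroup (Equiv.Perm (Fin n)))) : Equiv.Perm (Fin n))
        (e (Sum.inl (i, (0 : ZMod 2)))) =
        e (Sum.inl ((t : Equiv.Perm (Fin (n / 2))) i, (0 : ZMod 2))) := by
    intro t i
    show PhiN n (Pm : Subgroup (Equiv.Perm (Fin (n / 2)))) e (inr t) (e (Sum.inl (i, 0))) = _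
    rw [PhiN_apply]
    simp
  have hT0 := tower_transport ψ (fun i : Fin (n / 2) => e (Sum.inl (i, (0 : ZMod 2)))) hE hψ hT'
  obtain ⟨f, hf1, hf2, hf3, hx0, hf4⟩ := tower_elem (Pm : Subgroup (Equiv.Perm (Fin (n / 2))))
    ((Cfsg.Agent.S4623.actAut (Fin (n / 2)) (Multiplicative (ZMod 2))).comp
      (Pm : Subgroup (Equiv.Perm (Fin (n / 2)))).subtype) (fun _ _ => rfl) hT'
    (Multiplicative.ofAdd (1 : ZMod 2))
  have hmem : e1 (inl f) ∈ derivedSeries (P0 : Subgroup (Equiv.Perm (Fin n))) k' :=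
    map_derivedSeries_le_derivedSeries e1.toMonoidHom k' (Subgroup.mem_map_of_mem _ hf1)
  have hact : ∀ i ∈ S', ((e1 (inl f) : (P0 : Subgroup (Equiv.Perm (Fin n)))) :
      Equiv.Perm (Fin n)) (e (Sum.inl (i, (0 : ZMod 2)))) = e (Sum.inl (i, (1 : ZMod 2))) := by
    intro i hi
    show PhiN n (Pm : Subgroup (Equiv.Perm (Fin (n / 2)))) e (inl f) (e (Sum.inl (i, 0))) = _
    rw [PhiN_apply]
    have hfi : Multiplicative.toAdd (f i) = 1 := by
      rcases hf3 i hi with h | h
      · rw [h]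
        rfl
      · rw [h]
        show -(1 : ZMod 2) = 1
        decide
    simp [hfi]
  refine ⟨P0, e (Sum.inl (x₀', 0)), _, HasTower.succ (e1 (inl f)) hT0 hmem ?_⟩
  rintro _ ⟨i, hi, rfl⟩ ⟨i', _, he⟩
  rw [hact i hi] at he
  have h1 := Sum.inl_injective (e.injective he)
  have h2 : (0 : ZMod 2) = 1 := congrArg Prod.snd h1
  exact absurd h2 (by decide)

theorem exists_sylow_tower : ∀ n : ℕ, 1 ≤ n →
    ∃ (T : Sylow 2 (Equiv.Perm (Fin n))) (x₀ : Fin n) (S : Set (Fin n)),
      HasTower (T : Subgroup (Equiv.Perm (Fin n))) x₀ (Nat.log 2 n) S := by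
  intro n
  induction n using Nat.strong_induction_on with
  | _ n ih =>
    intro hn1
    by_cases hn : n < 2
    · obtain rfl : n = 1 := by omega
      obtain ⟨T⟩ : Nonempty (Sylow 2 (Equiv.Perm (Fin 1))) := inferInstance
      refine ⟨T, 0, {0}, ?_⟩
      rw [Nat.log_one_right]
      exact HasTower.zero
    · push Not at hn
      have hm : n / 2 < n := Nat.div_lt_self (by omega) (by norm_num)
      have hm1 : 1 ≤ n / 2 := by omega
      obtain ⟨Pm, x₀', S', hT'⟩ := ih _ hm hm1
      have hcard : Fintype.card ((Fin (n / 2) × ZMod 2) ⊕ Fin (n % 2)) = n := by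
        simp [ZMod.card, Nat.div_add_mod']
      rw [Nat.log_of_one_lt_of_le (by norm_num) hn]
      exact tower_step n Pm (Fintype.equivFinOfCardEq hcard) x₀' _ S' hT'

/-- Let q be odd, F a field with q elements and n ≥ 1. A Sylow 2-subgroup R of the symplectic group Sp_{2n}(F) has derived length exactly k + 1, where 2^k ≤ 2n < 2^{k+1}: the (k+1)-st term of its derived series is trivial and the k-th is not. -/
theorem result {F : Type*} [Field F] [Fintype F] [DecidableEq F] (q : ℕ) (hF : Fintype.card F = q) (hq : Odd q) (n : ℕ) (hn : 1 ≤ n) (R : Sylow 2 ↥(Matrix.symplecticGroup (Fin n) F)) : derivedSeries ↥(R : Subgroup ↥(Matrix.symplecticGroup (Fin n) F)) (Nat.log 2 (2 * n) + 1) = ⊥ ∧ derivedSeries ↥(R : Subgroup ↥(Matrix.symplecticGroup (Fin n) F)) (Nat.log 2 (2 * n)) ≠ ⊥ := by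
  have hodd : Odd (Fintype.card F) := hF ▸ hq
  obtain ⟨Q, hQ2, hQc, hQd2, hQd1⟩ := exists_sl2_sub' hodd
  obtain ⟨T, x₀, S, hTower⟩ := exists_sylow_tower n hn
  obtain ⟨a, ha⟩ := IsPGroup.iff_card.mp hQ2
  have hle : (Nat.card (SpecialLinearGroup (Fin 2) F)).factorization 2 ≤ a := by
    rw [ha] at hQc
    exact (Nat.pow_le_pow_iff_right (by norm_num)).mp hQc
  have hcardW : Nat.card ((Fin n → Q) ⋊[S4624.actT Q (T : Subgroup (Equiv.Perm (Fin n)))] T) =
      2 ^ (a * n + (n.factorial).factorization 2) := by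
    rw [SemidirectProduct.card, Nat.card_fun, Nat.card_fin, ha, Sylow.card_eq_multiplicity,
      Nat.card_perm, Nat.card_fin, ← pow_mul, ← pow_add]
  have hSL0 : Nat.card (SpecialLinearGroup (Fin 2) F) ≠ 0 := Nat.card_pos.ne'
  have hval : (Nat.card (symplecticGroup (Fin n) F)).factorization 2 =
      n * (Nat.card (SpecialLinearGroup (Fin 2) F)).factorization 2 +
        (n.factorial).factorization 2 := by
    rw [← Cfsg.Agent.S2250.val_eq hodd n, card_wreathSp, Fintype.card_fin,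
      Nat.factorization_mul (pow_ne_zero _ hSL0) (Nat.factorial_ne_zero n),
      Nat.factorization_pow]
    simp only [Finsupp.coe_add, Finsupp.coe_smul, Pi.add_apply, Pi.smul_apply, smul_eq_mul]
  have hΦ := S4624.PhiW_injective (F := F) Q (T : Subgroup (Equiv.Perm (Fin n)))
  have hr : Nat.card (S4624.PhiW Q (T : Subgroup (Equiv.Perm (Fin n)))).range =
      2 ^ (a * n + (n.factorial).factorization 2) := by
    rw [← hcardW]
    exact Nat.card_congr (MonoidHom.ofInjective hΦ).toEquiv.symm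
  have hrp : IsPGroup 2 (S4624.PhiW Q (T : Subgroup (Equiv.Perm (Fin n)))).range :=
    IsPGroup.of_card hr
  have hge : 2 ^ (Nat.card (symplecticGroup (Fin n) F)).factorization 2 ≤
      Nat.card (S4624.PhiW Q (T : Subgroup (Equiv.Perm (Fin n)))).range := by
    rw [hr, hval]
    apply Nat.pow_le_pow_right (by norm_num)
    apply Nat.add_le_add_right
    rw [mul_comm a n]
    exact Nat.mul_le_mul_left n hle
  have hcard := S4624.card_eq_of_pgroup_ge _ hrp hge
  let P0 : Sylow 2 (symplecticGroup (Fin n) F) := Sylow.ofCard _ hcard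
  have e1 : ((Fin n → Q) ⋊[S4624.actT Q (T : Subgroup (Equiv.Perm (Fin n)))] T) ≃*
      (P0 : Subgroup (symplecticGroup (Fin n) F)) := MonoidHom.ofInjective hΦ
  have E := e1.trans (Sylow.equiv P0 R)
  have hU : derivedSeries ((Fin n → Q) ⋊[S4624.actT Q (T : Subgroup (Equiv.Perm (Fin n)))] T)
      (Nat.log 2 n + 2) = ⊥ :=
    derivedSeries_semidirect _ 2 (Nat.log 2 n) (derivedSeries_pi 2 hQd2)
      (derivedSeries_sylow_perm n T)
  have hL : derivedSeries ((Fin n → Q) ⋊[S4624.actT Q (T : Subgroup (Equiv.Perm (Fin n)))] T)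
      (Nat.log 2 n + 1) ≠ ⊥ :=
    tower_derived (T : Subgroup (Equiv.Perm (Fin n))) (S4624.actT Q _) (fun _ _ => rfl) hTower 1
      hQd1
  have hlog : Nat.log 2 (2 * n) = Nat.log 2 n + 1 := by
    rw [Nat.log_of_one_lt_of_le (by norm_num) (by omega),
      Nat.mul_div_cancel_left n (by norm_num)]
  have hlog' : Nat.log 2 (2 * n) + 1 = Nat.log 2 n + 2 := by rw [hlog]
  rw [hlog', hlog]
  constructor
  · exact derivedSeries_bot_of_injective E.symm.toMonoidHom E.symm.injective _ hU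
  · intro h
    exact hL (derivedSeries_bot_of_injective E.toMonoidHom E.injective _ h)

end Cfsg.Agent.S2648
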