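import Cfsg.Statements.S2665
import Cfsg.Agent.Lib.Helper16.Lang

set_option autoImplicit false
open Cfsg

namespace Cfsg.Agent.S2665

open Cfsg.Agent.Lib.Helper16 Module

/-- The Lang–Steinberg Theorem for the general linear group. Let `K` be an algebraically closed field of prime characteristic `p`, let `q = p^f` with `f ≥ 1`, and let `σ` be the endomorphism of GL_n(K) raising every matrix entry to the `q`-th power. Then every element `g` of GL_n(K) can be written `g = x · σ(x)⁻¹` for some `x` in GL_n(K): the map `x ↦ x σ(x)⁻¹` is surjective. -/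
theorem result {K : Type*} [Field K] [IsAlgClosed K] (p : ℕ) [Fact p.Prime] [CharP K p]
    (f : ℕ) (hf : 1 ≤ f) (n : ℕ) (g : GL (Fin n) K) :
    ∃ x : GL (Fin n) K, g = x * (Matrix.GeneralLinearGroup.map (iterateFrobenius K p f) x)⁻¹ := by
  have hp : p.Prime := Fact.out
  obtain ⟨φ, hφdef⟩ : ∃ φ : K →+* K, φ = iterateFrobenius K p f := ⟨_, rfl⟩
  have hφ : ∀ a, φ a = a ^ (p ^ f) := by
    intro a; rw [hφdef]; rfl
  have hq : 2 ≤ p ^ f := by
    calc 2 ≤ p := hp.two_le
      _ = p ^ 1 := (pow_one p).symm
      _ ≤ p ^ f := Nat.pow_le_pow_right hp.pos hf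
  -- the semilinear map
  let Φ : (Fin n → K) →ₛₗ[φ] (Fin n → K) :=
    { toFun := fun v => (g : Matrix (Fin n) (Fin n) K).mulVec (fun i => φ (v i))
      map_add' := by
        intro v w
        rw [← Matrix.mulVec_add]
        congr 1
        funext i
        simp
      map_smul' := by
        intro a v
        rw [← Matrix.mulVec_smul]
        congr 1
        funext i
        simp }
  have hΦ : ∀ v, Φ v = (g : Matrix (Fin n) (Fin n) K).mulVec (fun i => φ (v i)) := fun v => rfl
  have hinj : Function.Injective Φ := by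
    intro v w hvw
    rw [hΦ, hΦ] at hvw
    have h1 : Function.Injective (g : Matrix (Fin n) (Fin n) K).mulVec :=
      Matrix.mulVec_injective_iff_isUnit.2 (Units.isUnit g)
    have h2 := h1 hvw
    funext i
    exact φ.injective (congrFun h2 i)
  obtain ⟨b, hbind, hbfix⟩ := exists_fixed_family φ (p ^ f) hq hφ n Φ hinj (Module.finrank_fin_fun K)
  -- the matrix with columns b j
  obtain ⟨x, hx⟩ : ∃ x : Matrix (Fin n) (Fin n) K, x = Matrix.of (fun i j => b j i) := ⟨_, rfl⟩
  have hxcol : x.col = b := by
    funext j i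
    rw [hx]; rfl
  have hxunit : IsUnit x := by
    rw [← Matrix.linearIndependent_cols_iff_isUnit, hxcol]
    exact hbind
  have hxfix : (g : Matrix (Fin n) (Fin n) K) * x.map φ = x := by
    ext i j
    have h1 := congrFun (hbfix j) i
    rw [hΦ] at h1
    rw [Matrix.mul_apply]
    rw [Matrix.mulVec, dotProduct] at h1
    rw [hx]
    simpa using h1
  refine ⟨hxunit.unit, ?_⟩
  rw [eq_mul_inv_iff_mul_eq]
  apply Units.ext
  rw [Units.val_mul]
  have h2 : ((Matrix.GeneralLinearGroup.map (iterateFrobenius K p f) hxunit.unit : GL (Fin n) K) :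
      Matrix (Fin n) (Fin n) K) = x.map φ := by
    ext i j
    rw [hφdef]
    rfl
  rw [h2, hxfix]
  rfl

end Cfsg.Agent.S2665
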