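import Cfsg.Statements.S2666

set_option autoImplicit false
open Cfsg

namespace Cfsg.Agent.S2666

theorem telescope {X : Type*} [Group X] (σ : MulAut X) (a : X) (d : ℕ) :
    ((List.range d).map (fun i => (σ ^ i) (a * (σ a)⁻¹))).prod = a * ((σ ^ d) a)⁻¹ := by
  induction d with
  | zero => simp
  | succ n ih =>
    rw [List.range_succ, List.map_append, List.prod_append, ih]
    simp only [List.map_cons, List.map_nil, List.prod_cons, List.prod_nil, mul_one, map_mul, map_inv]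
    have : (σ ^ n) (σ a) = (σ ^ (n + 1)) a := by
      rw [pow_succ, MulAut.mul_apply]
    rw [this]
    group

theorem fixpow {X : Type*} [Group X] (σ : MulAut X) (n : ℕ) (y : X) (hy : σ y = y) : (σ ^ n) y = y := by
  induction n with
  | zero => simp
  | succ n ih => rw [pow_succ, MulAut.mul_apply, hy, ih]

theorem hcomm {X : Type*} [Group X] (σ : MulAut X) (e : ℕ) (a : X) : (σ ^ e) (σ a) = σ ((σ ^ e) a) := by
  rw [← MulAut.mul_apply, ← MulAut.mul_apply, ← pow_succ, ← pow_succ']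

theorem xfix {X : Type*} [Group X] (σ : MulAut X) (e : ℕ) (a : X)
    (hg' : (σ ^ e) (a * (σ a)⁻¹) = a * (σ a)⁻¹) : σ (((σ ^ e) a)⁻¹ * a) = ((σ ^ e) a)⁻¹ * a := by
  simp only [map_mul, map_inv] at hg'
  simp only [map_mul, map_inv]
  rw [hcomm] at hg'
  calc (σ ((σ ^ e) a))⁻¹ * σ a = ((σ ^ e) a)⁻¹ * ((σ ^ e) a * (σ ((σ ^ e) a))⁻¹) * σ a := by group
    _ = ((σ ^ e) a)⁻¹ * (a * (σ a)⁻¹) * σ a := by rw [hg']
    _ = ((σ ^ e) a)⁻¹ * a := by group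

theorem result {X : Type*} [Group X] (σ : MulAut X) (e : ℕ) (he : 1 ≤ e)
    (hL : ∀ g : X, ∃ a : X, g = a * (σ a)⁻¹) (hLe : ∀ g : X, ∃ a : X, g = a * ((σ ^ e) a)⁻¹) :
    (∀ g ∈ (MulEquiv.toMonoidHom (σ ^ e)).eqLocus (MonoidHom.id X), ∀ a : X, g = a * (σ a)⁻¹ →
        ((σ ^ e) a)⁻¹ * a ∈ (MulEquiv.toMonoidHom σ).eqLocus (MonoidHom.id X) ∧
          a⁻¹ * ((List.range e).map (fun i => (σ ^ i) g)).prod * a = ((σ ^ e) a)⁻¹ * a) ∧
    (∀ g ∈ (MulEquiv.toMonoidHom (σ ^ e)).eqLocus (MonoidHom.id X), ∀ g' ∈ (MulEquiv.toMonoidHom (σ ^ e)).eqLocus (MonoidHom.id X), ∀ a b : X,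
        g = a * (σ a)⁻¹ → g' = b * (σ b)⁻¹ →
          ((∃ k ∈ (MulEquiv.toMonoidHom (σ ^ e)).eqLocus (MonoidHom.id X), g' = k * g * (σ k)⁻¹) ↔
            (∃ h ∈ (MulEquiv.toMonoidHom σ).eqLocus (MonoidHom.id X), ((σ ^ e) b)⁻¹ * b = h * (((σ ^ e) a)⁻¹ * a) * h⁻¹))) ∧
    (∀ x ∈ (MulEquiv.toMonoidHom σ).eqLocus (MonoidHom.id X), ∃ g ∈ (MulEquiv.toMonoidHom (σ ^ e)).eqLocus (MonoidHom.id X), ∃ a : X,
        g = a * (σ a)⁻¹ ∧ ((σ ^ e) a)⁻¹ * a = x) := by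
  have memσ : ∀ y : X, y ∈ (MulEquiv.toMonoidHom σ).eqLocus (MonoidHom.id X) ↔ σ y = y := by
    intro y; simp [MonoidHom.eqLocus]
  have memσe : ∀ y : X, y ∈ (MulEquiv.toMonoidHom (σ ^ e)).eqLocus (MonoidHom.id X) ↔ (σ ^ e) y = y := by
    intro y; simp [MonoidHom.eqLocus]
  simp only [memσ, memσe]
  refine ⟨?_, ?_, ?_⟩
  · intro g hg a ha
    subst ha
    refine ⟨xfix σ e a hg, ?_⟩
    rw [telescope]; group
  · intro g hg g' hg' a b ha hb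
    subst ha
    subst hb
    constructor
    · rintro ⟨k, hk, hkg⟩
      -- h' = a⁻¹ k⁻¹ b is fixed by σ
      have hfix : σ (a⁻¹ * k⁻¹ * b) = a⁻¹ * k⁻¹ * b := by
        simp only [map_mul, map_inv]
        have : σ b = σ k * σ a * a⁻¹ * k⁻¹ * b := by
          calc σ b = (b * (σ b)⁻¹)⁻¹ * b := by group
            _ = (k * (a * (σ a)⁻¹) * (σ k)⁻¹)⁻¹ * b := by rw [hkg]
            _ = σ k * σ a * a⁻¹ * k⁻¹ * b := by group
        rw [this]; group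
      refine ⟨(a⁻¹ * k⁻¹ * b)⁻¹, ?_, ?_⟩
      · rw [map_inv, hfix]
      · have hb : b = k * a * (a⁻¹ * k⁻¹ * b) := by group
        have h2 : (σ ^ e) b = k * (σ ^ e) a * (a⁻¹ * k⁻¹ * b) := by
          conv_lhs => rw [hb]
          rw [map_mul, map_mul, hk, fixpow σ e _ hfix]
        rw [h2]; group
    · rintro ⟨h, hh, hx⟩
      refine ⟨b * h * a⁻¹, ?_, ?_⟩
      · simp only [map_mul, map_inv]
        rw [fixpow σ e h hh]
        -- (σ^e) b * h * ((σ^e) a)⁻¹ = b * h * a⁻¹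
        have h1 : (σ ^ e) b = b * (h * (((σ ^ e) a)⁻¹ * a) * h⁻¹)⁻¹ := by
          rw [← hx]; group
        rw [h1]; group
      · simp only [map_mul, map_inv, hh]
        group
  · intro x hx
    obtain ⟨c, hc⟩ := hLe x⁻¹
    obtain ⟨a, rfl⟩ : ∃ a, c = a⁻¹ := ⟨c⁻¹, by simp⟩
    have hea : (σ ^ e) a = a * x⁻¹ := by
      have h1 : (σ ^ e) a⁻¹ = x * a⁻¹ := by
        calc (σ ^ e) a⁻¹ = (a⁻¹ * ((σ ^ e) a⁻¹)⁻¹)⁻¹ * a⁻¹ := by group
          _ = x * a⁻¹ := by rw [← hc]; group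
      rw [map_inv] at h1
      calc (σ ^ e) a = (((σ ^ e) a)⁻¹)⁻¹ := by group
        _ = a * x⁻¹ := by rw [h1]; group
    refine ⟨a * (σ a)⁻¹, ?_, a, rfl, ?_⟩
    · rw [map_mul, map_inv, hcomm, hea, map_mul, map_inv, hx]
      group
    · rw [hea]; group

end Cfsg.Agent.S2666
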