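import Cfsg.Statements.S2668

set_option autoImplicit false
open Cfsg

namespace Cfsg.Agent.S2668

theorem telescope {X : Type*} [Group X] (σ : MulAut X) (a : X) (d : ℕ) :
    ((List.range d).map (fun i => (σ ^ i) (a * (σ a)⁻¹))).prod = a * ((σ ^ d) a)⁻¹ := by
  induction d with
  | zero => simp
  | succ n ih =>
    rw [List.range_succ, List.map_append, List.prod_append, ih]
    simp only [List.map_cons, List.map_nil, List.prod_cons, List.prod_nil, mul_one, map_mul, map_inv]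
    have : (σ ^ n) (σ a) = (σ ^ (n + 1)) a := by
      rw [pow_succ, MulAut.mul_apply]
    rw [this]
    group

theorem fixpow {X : Type*} [Group X] (σ : MulAut X) (n : ℕ) (y : X) (hy : σ y = y) : (σ ^ n) y = y := by
  induction n with
  | zero => simp
  | succ n ih => rw [pow_succ, MulAut.mul_apply, hy, ih]

theorem result {X : Type*} [Group X] (σ : MulAut X) (e d : ℕ) (he : 1 ≤ e) (hd : 1 ≤ d)
    (g : X) (hg : g ∈ (MulEquiv.toMonoidHom (σ ^ e)).eqLocus (MonoidHom.id X)) (a : X) (ha : g = a * (σ a)⁻¹) :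
    ((List.range d).map (fun i => (σ ^ i) g)).prod = a * ((σ ^ d) a)⁻¹ ∧
      ((List.range d).map (fun i => (σ ^ i) g)).prod ∈ (MulEquiv.toMonoidHom ((σ ^ d) ^ e)).eqLocus (MonoidHom.id X) ∧
      (((σ ^ d) ^ e) a)⁻¹ * a = (((σ ^ e) a)⁻¹ * a) ^ d := by
  have hg' : (σ ^ e) g = g := by simpa [MonoidHom.eqLocus] using hg
  subst ha
  have h1 := telescope σ a d
  -- x fixed by σ
  set x := ((σ ^ e) a)⁻¹ * a with hx
  have hcomm : (σ ^ e) (σ a) = σ ((σ ^ e) a) := by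
    rw [← MulAut.mul_apply, ← MulAut.mul_apply, ← pow_succ, ← pow_succ']
  have hxfix : σ x = x := by
    simp only [map_mul, map_inv] at hg'
    rw [hx]
    simp only [map_mul, map_inv]
    rw [hcomm] at hg'
    -- hg' : (σ^e) a * (σ ((σ^e) a))⁻¹ = a * (σ a)⁻¹
    calc (σ ((σ ^ e) a))⁻¹ * σ a = ((σ ^ e) a)⁻¹ * ((σ ^ e) a * (σ ((σ ^ e) a))⁻¹) * σ a := by group
      _ = ((σ ^ e) a)⁻¹ * (a * (σ a)⁻¹) * σ a := by rw [hg']
      _ = ((σ ^ e) a)⁻¹ * a := by group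
  have hea : (σ ^ e) a = a * x⁻¹ := by rw [hx]; group
  have hpow : ∀ n : ℕ, ((σ ^ e) ^ n) a = a * (x ^ n)⁻¹ := by
    intro n
    induction n with
    | zero => simp
    | succ n ih =>
      rw [pow_succ', MulAut.mul_apply, ih, map_mul, map_inv, map_pow, fixpow σ e x hxfix, hea, pow_succ']
      group
  have hde : (σ ^ d) ^ e = (σ ^ e) ^ d := by rw [← pow_mul, ← pow_mul, mul_comm]
  have h3 : (((σ ^ d) ^ e) a)⁻¹ * a = x ^ d := by
    rw [hde, hpow d]; group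
  refine ⟨h1, ?_, h3⟩
  rw [h1]
  simp only [MonoidHom.eqLocus, MulEquiv.toMonoidHom_eq_coe, MonoidHom.coe_coe, MonoidHom.id_apply]
  show ((σ ^ d) ^ e) (a * ((σ ^ d) a)⁻¹) = a * ((σ ^ d) a)⁻¹
  have hcomm2 : ((σ ^ d) ^ e) ((σ ^ d) a) = (σ ^ d) (((σ ^ d) ^ e) a) := by
    rw [← MulAut.mul_apply, ← MulAut.mul_apply, ← pow_succ, ← pow_succ']
  rw [map_mul, map_inv, hcomm2, hde, hpow d, map_mul, map_inv, map_pow, fixpow σ d x hxfix]
  group

end Cfsg.Agent.S2668
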