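import Cfsg.Statements.S2669

set_option autoImplicit false
open Cfsg

namespace Cfsg.Agent.S2669

theorem fixpow {X : Type*} [Group X] (σ : MulAut X) (n : ℕ) (y : X) (hy : σ y = y) : (σ ^ n) y = y := by
  induction n with
  | zero => simp
  | succ n ih => rw [pow_succ, MulAut.mul_apply, hy, ih]

theorem hcomm {X : Type*} [Group X] (σ : MulAut X) (e : ℕ) (a : X) : (σ ^ e) (σ a) = σ ((σ ^ e) a) := by
  rw [← MulAut.mul_apply, ← MulAut.mul_apply, ← pow_succ, ← pow_succ']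

theorem card_of_bij {α β γ : Type*} (f : α × β → γ) (hf : Function.Bijective f) :
    Nat.card α * Nat.card β = Nat.card γ := by
  rw [← Nat.card_prod]; exact Nat.card_congr (Equiv.ofBijective f hf)

/-- if `c σ(c)⁻¹ = d σ(d)⁻¹` then `c⁻¹ d` is fixed by `σ`. -/
theorem lang_fix {X : Type*} [Group X] (σ : MulAut X) (c d : X) (h : c * (σ c)⁻¹ = d * (σ d)⁻¹) :
    σ (c⁻¹ * d) = c⁻¹ * d := by
  rw [map_mul, map_inv]
  have : σ d = σ c * c⁻¹ * d := by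
    calc σ d = (d * (σ d)⁻¹)⁻¹ * d := by group
      _ = (c * (σ c)⁻¹)⁻¹ * d := by rw [h]
      _ = σ c * c⁻¹ * d := by group
  rw [this]; group

theorem stable_pow {X : Type*} [Group X] (σ : MulAut X) (Y : Subgroup X) (hY : ∀ y : X, y ∈ Y ↔ σ y ∈ Y)
    (n : ℕ) (y : X) (hy : y ∈ Y) : (σ ^ n) y ∈ Y := by
  induction n with
  | zero => simpa using hy
  | succ n ih => rw [pow_succ', MulAut.mul_apply]; exact (hY _).1 ih

theorem result {X : Type*} [Group X] (σ : MulAut X) (e : ℕ) (he : 1 ≤ e)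
    [Finite ↥((MulEquiv.toMonoidHom (σ ^ e)).eqLocus (MonoidHom.id X))]
    (Y : Subgroup X) (hY : ∀ y : X, y ∈ Y ↔ σ y ∈ Y)
    (hYL : ∀ y ∈ Y, ∃ a ∈ Y, y = a * (σ a)⁻¹) (hYLe : ∀ y ∈ Y, ∃ a ∈ Y, y = a * ((σ ^ e) a)⁻¹)
    (g : X) (hg : g ∈ (MulEquiv.toMonoidHom (σ ^ e)).eqLocus (MonoidHom.id X)) (a : X) (ha : g = a * (σ a)⁻¹) :
    Nat.card {k : ↥((MulEquiv.toMonoidHom (σ ^ e)).eqLocus (MonoidHom.id X)) // (k : X)⁻¹ * g * σ k ∈ Y} *
        Nat.card ↥(Y ⊓ (MulEquiv.toMonoidHom σ).eqLocus (MonoidHom.id X)) =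
      Nat.card {h : ↥((MulEquiv.toMonoidHom σ).eqLocus (MonoidHom.id X)) // (h : X)⁻¹ * (((σ ^ e) a)⁻¹ * a) * h ∈ Y} *
        Nat.card ↥(Y ⊓ (MulEquiv.toMonoidHom (σ ^ e)).eqLocus (MonoidHom.id X)) := by
  have memσ : ∀ y : X, y ∈ (MulEquiv.toMonoidHom σ).eqLocus (MonoidHom.id X) ↔ σ y = y := by
    intro y; simp [MonoidHom.eqLocus]
  have memσe : ∀ y : X, y ∈ (MulEquiv.toMonoidHom (σ ^ e)).eqLocus (MonoidHom.id X) ↔ (σ ^ e) y = y := by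
    intro y; simp [MonoidHom.eqLocus]
  have hYe : ∀ y : X, y ∈ Y → (σ ^ e) y ∈ Y := stable_pow σ Y hY e
  set x := ((σ ^ e) a)⁻¹ * a with hx
  have hea : (σ ^ e) a = a * x⁻¹ := by rw [hx]; group
  -- the two incidence sets
  let Ω := {p : X × X // (σ ^ e) p.1 = p.1 ∧ p.2 ∈ Y ∧ p.1⁻¹ * g * σ p.1 = p.2 * (σ p.2)⁻¹}
  let Ω' := {p : X × X // σ p.1 = p.1 ∧ p.2 ∈ Y ∧ p.1⁻¹ * x * p.1 = ((σ ^ e) p.2)⁻¹ * p.2}
  -- Step 1: |A| * |Y ∩ H| = |Ω|
  have step1 : Nat.card {k : ↥((MulEquiv.toMonoidHom (σ ^ e)).eqLocus (MonoidHom.id X)) // (k : X)⁻¹ * g * σ k ∈ Y} *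
        Nat.card ↥(Y ⊓ (MulEquiv.toMonoidHom σ).eqLocus (MonoidHom.id X)) = Nat.card Ω := by
    -- choice of a Lang preimage
    have hch : ∀ k : {k : ↥((MulEquiv.toMonoidHom (σ ^ e)).eqLocus (MonoidHom.id X)) // (k : X)⁻¹ * g * σ k ∈ Y},
        ∃ y ∈ Y, ((k : ↥((MulEquiv.toMonoidHom (σ ^ e)).eqLocus (MonoidHom.id X))) : X)⁻¹ * g * σ k = y * (σ y)⁻¹ :=
      fun k => hYL _ k.2
    choose yk hykY hyk using hch
    refine card_of_bij (fun p => ⟨(((p.1 : ↥((MulEquiv.toMonoidHom (σ ^ e)).eqLocus (MonoidHom.id X))) : X), yk p.1 * (p.2 : X)), ?_, ?_, ?_⟩) ⟨?_, ?_⟩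
    · exact (memσe _).1 p.1.1.2
    · exact Y.mul_mem (hykY _) (Subgroup.mem_inf.1 p.2.2).1
    · have hu : σ (p.2 : X) = p.2 := (memσ _).1 (Subgroup.mem_inf.1 p.2.2).2
      show _ = yk p.1 * (p.2 : X) * (σ (yk p.1 * (p.2 : X)))⁻¹
      rw [map_mul, hu, hyk]; group
    · rintro ⟨k, u⟩ ⟨k', u'⟩ h
      have h' := congrArg Subtype.val h
      obtain ⟨h1, h2⟩ := Prod.ext_iff.1 h'
      simp only at h1 h2
      have hk : k = k' := Subtype.ext (Subtype.ext h1)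
      subst hk
      have : (u : X) = u' := mul_left_cancel h2
      exact Prod.ext rfl (Subtype.ext this)
    · rintro ⟨⟨k, y⟩, hk, hy, hky⟩
      simp only at hk hy hky
      have hkA : (k : X)⁻¹ * g * σ k ∈ Y := by
        rw [hky]; exact Y.mul_mem hy (Y.inv_mem ((hY _).1 hy))
      let kk : {k : ↥((MulEquiv.toMonoidHom (σ ^ e)).eqLocus (MonoidHom.id X)) // (k : X)⁻¹ * g * σ k ∈ Y} :=
        ⟨⟨k, (memσe _).2 hk⟩, hkA⟩
      have h1 : yk kk * (σ (yk kk))⁻¹ = y * (σ y)⁻¹ := by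
        rw [← hyk kk]; exact hky
      have hu : σ ((yk kk)⁻¹ * y) = (yk kk)⁻¹ * y := lang_fix σ _ _ h1
      refine ⟨(kk, ⟨(yk kk)⁻¹ * y, Subgroup.mem_inf.2 ⟨Y.mul_mem (Y.inv_mem (hykY _)) hy, (memσ _).2 hu⟩⟩), ?_⟩
      apply Subtype.ext
      simp only [kk]
      apply Prod.ext
      · rfl
      · simp
  -- Step 2: |B| * |Y ∩ G| = |Ω'|
  have step2 : Nat.card {h : ↥((MulEquiv.toMonoidHom σ).eqLocus (MonoidHom.id X)) // (h : X)⁻¹ * x * h ∈ Y} *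
        Nat.card ↥(Y ⊓ (MulEquiv.toMonoidHom (σ ^ e)).eqLocus (MonoidHom.id X)) = Nat.card Ω' := by
    have hch : ∀ h : {h : ↥((MulEquiv.toMonoidHom σ).eqLocus (MonoidHom.id X)) // (h : X)⁻¹ * x * h ∈ Y},
        ∃ y ∈ Y, ((h : ↥((MulEquiv.toMonoidHom σ).eqLocus (MonoidHom.id X))) : X)⁻¹ * x * h = ((σ ^ e) y)⁻¹ * y := by
      intro h
      obtain ⟨c, hcY, hc⟩ := hYLe _ (Y.inv_mem h.2)
      refine ⟨c⁻¹, Y.inv_mem hcY, ?_⟩
      rw [map_inv, inv_inv]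
      have := congrArg (fun t => t⁻¹) hc
      simp only [inv_inv, mul_inv_rev] at this
      rw [this]
    choose yh hyhY hyh using hch
    refine card_of_bij (fun p => ⟨(((p.1 : ↥((MulEquiv.toMonoidHom σ).eqLocus (MonoidHom.id X))) : X), (p.2 : X) * yh p.1), ?_, ?_, ?_⟩) ⟨?_, ?_⟩
    · exact (memσ _).1 p.1.1.2
    · exact Y.mul_mem (Subgroup.mem_inf.1 p.2.2).1 (hyhY _)
    · have hv : (σ ^ e) (p.2 : X) = p.2 := (memσe _).1 (Subgroup.mem_inf.1 p.2.2).2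
      show _ = ((σ ^ e) ((p.2 : X) * yh p.1))⁻¹ * ((p.2 : X) * yh p.1)
      rw [map_mul, hv, hyh]; group
    · rintro ⟨h, v⟩ ⟨hq, v'⟩ hh
      have hval := congrArg Subtype.val hh
      obtain ⟨h1, h2⟩ := Prod.ext_iff.1 hval
      simp only at h1 h2
      have hk : h = hq := Subtype.ext (Subtype.ext h1)
      subst hk
      have : (v : X) = v' := mul_right_cancel h2
      exact Prod.ext rfl (Subtype.ext this)
    · rintro ⟨⟨h, y⟩, hh, hy, hhy⟩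
      simp only at hh hy hhy
      have hhB : (h : X)⁻¹ * x * h ∈ Y := by
        rw [hhy]; exact Y.mul_mem (Y.inv_mem (hYe _ hy)) hy
      let hb : {h : ↥((MulEquiv.toMonoidHom σ).eqLocus (MonoidHom.id X)) // (h : X)⁻¹ * x * h ∈ Y} :=
        ⟨⟨h, (memσ _).2 hh⟩, hhB⟩
      have h1 : ((σ ^ e) (yh hb))⁻¹ * yh hb = ((σ ^ e) y)⁻¹ * y := by
        rw [← hyh hb]; exact hhy
      have hv : (σ ^ e) (y * (yh hb)⁻¹) = y * (yh hb)⁻¹ := by
        rw [map_mul, map_inv]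
        have : (σ ^ e) y = y * (yh hb)⁻¹ * (σ ^ e) (yh hb) := by
          calc (σ ^ e) y = y * (((σ ^ e) y)⁻¹ * y)⁻¹ := by group
            _ = y * (((σ ^ e) (yh hb))⁻¹ * yh hb)⁻¹ := by rw [h1]
            _ = y * (yh hb)⁻¹ * (σ ^ e) (yh hb) := by group
        rw [this]; group
      refine ⟨(hb, ⟨y * (yh hb)⁻¹, Subgroup.mem_inf.2 ⟨Y.mul_mem hy (Y.inv_mem (hyhY _)), (memσe _).2 hv⟩⟩), ?_⟩
      apply Subtype.ext
      simp only [hb]
      apply Prod.ext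
      · rfl
      · simp
  -- Step 3: Ω ≃ Ω'
  have hg' : (σ ^ e) g = g := (memσe _).1 hg
  have step3 : Nat.card Ω = Nat.card Ω' := by
    refine Nat.card_congr
      { toFun := fun p => ⟨(a⁻¹ * p.1.1 * p.1.2, p.1.2), ?_, p.2.2.1, ?_⟩
        invFun := fun p => ⟨(a * p.1.1 * p.1.2⁻¹, p.1.2), ?_, p.2.2.1, ?_⟩
        left_inv := ?_
        right_inv := ?_ }
    · -- σ fixes a⁻¹ k y
      obtain ⟨⟨k, y⟩, hk, hy, hky⟩ := p
      simp only at hk hy hky ⊢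
      have h1 : a * (σ a)⁻¹ = (k * y) * (σ (k * y))⁻¹ := by
        rw [← ha, map_mul]
        calc g = k * (k⁻¹ * g * σ k) * (σ k)⁻¹ := by group
          _ = k * (y * (σ y)⁻¹) * (σ k)⁻¹ := by rw [hky]
          _ = k * y * (σ k * σ y)⁻¹ := by group
      have := lang_fix σ a (k * y) h1
      rw [← mul_assoc] at this
      exact this
    · obtain ⟨⟨k, y⟩, hk, hy, hky⟩ := p
      simp only at hk hy hky ⊢
      have h1 : a * (σ a)⁻¹ = (k * y) * (σ (k * y))⁻¹ := by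
        rw [← ha, map_mul]
        calc g = k * (k⁻¹ * g * σ k) * (σ k)⁻¹ := by group
          _ = k * (y * (σ y)⁻¹) * (σ k)⁻¹ := by rw [hky]
          _ = k * y * (σ k * σ y)⁻¹ := by group
      have hfix := lang_fix σ a (k * y) h1
      have hfe := fixpow σ e _ hfix
      -- σ^e (a⁻¹ k y) = a⁻¹ k y
      rw [map_mul, map_mul, map_inv, hk] at hfe
      -- ((σ^e) a)⁻¹ * (k * (σ^e) y) = a⁻¹ * (k * y)
      have h2 : ((σ ^ e) a)⁻¹ = a⁻¹ * (k * y) * (k * (σ ^ e) y)⁻¹ := by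
        rw [← hfe]; group
      rw [hx, h2]; group
    · obtain ⟨⟨h, y⟩, hh, hy, hhy⟩ := p
      simp only at hh hy hhy ⊢
      rw [map_mul, map_mul, map_inv, hea, fixpow σ e h hh]
      have h3 : x⁻¹ * h = h * y⁻¹ * (σ ^ e) y := by
        calc x⁻¹ * h = h * (h⁻¹ * x * h)⁻¹ := by group
          _ = h * (((σ ^ e) y)⁻¹ * y)⁻¹ := by rw [hhy]
          _ = h * y⁻¹ * (σ ^ e) y := by group
      calc a * x⁻¹ * h * ((σ ^ e) y)⁻¹ = a * (x⁻¹ * h) * ((σ ^ e) y)⁻¹ := by group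
        _ = a * (h * y⁻¹ * (σ ^ e) y) * ((σ ^ e) y)⁻¹ := by rw [h3]
        _ = a * h * y⁻¹ := by group
    · obtain ⟨⟨h, y⟩, hh, hy, hhy⟩ := p
      simp only at hh hy hhy ⊢
      rw [ha, map_mul, map_mul, map_inv, hh]; group
    · rintro ⟨⟨k, y⟩, hk, hy, hky⟩
      apply Subtype.ext
      apply Prod.ext
      · simp only; group
      · rfl
    · rintro ⟨⟨h, y⟩, hh, hy, hhy⟩
      apply Subtype.ext
      apply Prod.ext
      · simp only; group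
      · rfl
  rw [step1, step3, ← step2]

end Cfsg.Agent.S2669
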