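import Cfsg.Statements.S2670
import Cfsg.Agent.Lib.Helper14.ProjOrd4
import Cfsg.Agent.Lib.Helper14.SemiClass
import Cfsg.Agent.Lib.Helper14.OrdCount4

set_option autoImplicit false
open Cfsg

namespace Cfsg.Agent.S2670

open Polynomial Cfsg.Agent.Lib.Helper14 Cfsg.Agent.Lib.Helper14.ProjOrd

theorem mat_id {F : Type*} [Field F] {n : ℕ} (g : GL (Fin n) F) :
    mat (MonoidHom.id (GL (Fin n) F)) g = (g : Matrix (Fin n) (Fin n) F) := rfl

theorem exists_scalar {F : Type*} [Field F] {n : ℕ} (c : Fˣ) :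
    ∃ z : GL (Fin n) F, (z : Matrix (Fin n) (Fin n) F) =
      ((c : Fˣ) : F) • (1 : Matrix (Fin n) (Fin n) F) := by
  refine ⟨⟨((c : Fˣ) : F) • 1, ((c⁻¹ : Fˣ) : F) • 1, ?_, ?_⟩, rfl⟩
  · rw [Matrix.smul_mul, Matrix.one_mul, smul_smul, ← Units.val_mul, mul_inv_cancel,
      Units.val_one, one_smul]
  · rw [Matrix.smul_mul, Matrix.one_mul, smul_smul, ← Units.val_mul, inv_mul_cancel,
      Units.val_one, one_smul]

theorem hyp_GL {F : Type*} [Field F] [Fintype F] (p : ℕ) [Fact p.Prime] [CharP F p]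
    {n r : ℕ} (hn : 1 ≤ n) (hr : r.Prime) (hrq : r ∣ Fintype.card F - 1) :
    Hyp r p (MonoidHom.id (GL (Fin n) F)) (⊤ : Subgroup Fˣ) where
  hn := hn
  hr := hr
  hrK := hrq
  center := by
    intro g
    rw [Matrix.GeneralLinearGroup.mem_center_iff_val_mem_range_scalar, mat_id]
    constructor
    · rintro ⟨a, ha⟩
      have ha0 : a ≠ 0 := by
        rintro rfl
        rw [map_zero] at ha
        haveI : Nonempty (Fin n) := ⟨⟨0, hn⟩⟩
        exact Units.ne_zero g ha.symm
      refine ⟨Units.mk0 a ha0, Subgroup.mem_top _, ?_⟩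
      rw [← ha, Units.val_mk0, Matrix.smul_one_eq_diagonal]
      rfl
    · rintro ⟨c, -, hc⟩
      refine ⟨((c : Fˣ) : F), ?_⟩
      rw [hc, Matrix.smul_one_eq_diagonal]
      rfl
  scalar := by
    intro c _
    exact exists_scalar c
  conj := by
    intro g h M hM hg hh hc
    rw [mat_id] at hg hh
    have hg' : g ^ M = 1 := by
      apply Units.ext
      rw [Units.val_pow_eq_pow_val, hg, Units.val_one]
    have hh' : h ^ M = 1 := by
      apply Units.ext
      rw [Units.val_pow_eq_pow_val, hh, Units.val_one]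
    exact isConj_GL_of_charpoly_eq p g h
      (Nat.Coprime.coprime_dvd_left (orderOf_dvd_of_pow_eq_one hg') hM)
      (Nat.Coprime.coprime_dvd_left (orderOf_dvd_of_pow_eq_one hh') hM) hc
  diag := by
    intro d _
    refine ⟨⟨Matrix.diagonal (fun i => ((d i : Fˣ) : F)),
      Matrix.diagonal (fun i => (((d i)⁻¹ : Fˣ) : F)), ?_, ?_⟩, rfl⟩
    · rw [Matrix.diagonal_mul_diagonal, ← Matrix.diagonal_one]
      congr 1
      ext i
      rw [← Units.val_mul, mul_inv_cancel, Units.val_one]
    · rw [Matrix.diagonal_mul_diagonal, ← Matrix.diagonal_one]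
      congr 1
      ext i
      rw [← Units.val_mul, inv_mul_cancel, Units.val_one]
  typeB := by
    rintro ⟨k, rfl⟩ c _
    have hmon : (X ^ r - C ((c : Fˣ) : F) : F[X]).Monic := monic_X_pow_sub_C _ hr.ne_zero
    obtain ⟨g, hg1, hg2⟩ := exists_GL_charpoly p (r * k) ((X ^ r - C ((c : Fˣ) : F)) ^ k)
      (hmon.pow k) (by rw [natDegree_pow, natDegree_X_pow_sub_C, mul_comm]) (by
        rw [coeff_zero_eq_eval_zero, eval_pow, eval_sub, eval_pow, eval_X, eval_C,
          zero_pow hr.ne_zero, zero_sub]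
        exact pow_ne_zero _ (neg_ne_zero.mpr (Units.ne_zero c)))
    refine ⟨g, ?_⟩
    rw [mat_id]
    have hss := isSemisimple_of_orderOf_coprime p g hg1
    have h := OrdCount.aeval_eq_zero_of_semisimple (g : Matrix (Fin (r * k)) (Fin (r * k)) F) hss
      (X ^ r - C ((c : Fˣ) : F)) k (by rw [hg2])
    rw [map_sub, map_pow, aeval_X, aeval_C, Algebra.algebraMap_eq_smul_one] at h
    exact sub_eq_zero.mp h
  root := fun ν _ => Subgroup.mem_top ν
  rC := by
    classical
    have h1 : Nat.card (⊤ : Subgroup Fˣ) = Fintype.card F - 1 := by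
      rw [Subgroup.card_top, Nat.card_eq_fintype_card, Fintype.card_units]
    rw [h1]
    exact hrq

/-- Number of conjugacy classes of elements of prime order r in PGL_n(q) = GL_n(q)/scalars when r divides q − 1 (n ≥ 2): the classes of elements with a diagonalisable lift correspond to the orbits of the cyclic rotation on the r-tuples of eigenvalue multiplicities (a_0, …, a_(r−1)) summing to n with every a_j < n, and when r divides n there are r − 1 further classes (lifts acting irreducibly on blocks of size r); in all (C(n+r−1, r−1) − r − [r ∣ n])/r + r·[r ∣ n] classes. -/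
theorem result {F : Type*} [Field F] [Fintype F] {q : ℕ} (hF : Fintype.card F = q) {n r : ℕ} (hn : 2 ≤ n) (hr : r.Prime) (hrq : r ∣ q - 1) : Nat.card {C : ConjClasses (GL (Fin n) F ⧸ Subgroup.center (GL (Fin n) F)) // ∃ g : GL (Fin n) F ⧸ Subgroup.center (GL (Fin n) F), ConjClasses.mk g = C ∧ orderOf g = r} = (Nat.choose (n + r - 1) (r - 1) - r - (if r ∣ n then 1 else 0)) / r + r * (if r ∣ n then 1 else 0) := by
  obtain ⟨p, hp⟩ := CharP.exists F
  haveI : Fact p.Prime := ⟨CharP.char_is_prime F p⟩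
  subst hF
  exact card_classes_proj (hyp_GL p (by omega) hr hrq)

end Cfsg.Agent.S2670
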