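import Cfsg.Statements.S2671
import Cfsg.Agent.Lib.Helper14.OrdCount4
import Cfsg.Agent.Lib.Helper14.HCount4
import Cfsg.Agent.Lib.Helper14.GUConj2
import Cfsg.Agent.Lib.Helper14.SpCount4
import Cfsg.Agent.S2587

set_option autoImplicit false
open Cfsg

namespace Cfsg.Agent.S2671

open Polynomial Matrix
open Cfsg.Agent.Lib.Helper14 Cfsg.Agent.Lib.Helper14.OrdCount
open Cfsg.Agent.Lib.Helper14.HSemi (sigQ sigQ_apply)
open Cfsg.Agent.Lib.Helper14.HCount (dual dual_mul dual_dual sigQ_sigQ exists_gu_charpoly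
  charpoly_inv_conj_transpose)
open Cfsg.Agent.Lib.Helper14.GUConj (sharp sharp_eq pres_iff det_sharp)
open Cfsg.Agent.S2568 (cycFactors mem_cycFactors mem_T_iff T_monic_irreducible X_sub_one_notMem
  card_cycFactors natDegree_of_mem_cycFactors)

section
open scoped Classical

variable {K : Type*} [Field K] [Fintype K] {q n : ℕ}

/-- The characteristic polynomial as a function on conjugacy classes of `GU_n`. -/
noncomputable def cp : ConjClasses ↥(Cfsg.GU n K q) → K[X] :=
  Quotient.lift (fun g : ↥(Cfsg.GU n K q) =>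
    ((g : GL (Fin n) K) : Matrix (Fin n) (Fin n) K).charpoly) (by
    intro a b hab
    obtain ⟨c, hc⟩ := isConj_iff.mp hab
    show ((a : GL (Fin n) K) : Matrix (Fin n) (Fin n) K).charpoly =
      ((b : GL (Fin n) K) : Matrix (Fin n) (Fin n) K).charpoly
    rw [← hc]
    symm
    show (((c : GL (Fin n) K) : Matrix (Fin n) (Fin n) K) *
      ((a : GL (Fin n) K) : Matrix (Fin n) (Fin n) K) *
      (((c⁻¹ : ↥(Cfsg.GU n K q)) : GL (Fin n) K) : Matrix (Fin n) (Fin n) K)).charpoly = _
    rw [Matrix.charpoly_mul_comm, ← Matrix.mul_assoc]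
    have h1 : (((c⁻¹ : ↥(Cfsg.GU n K q)) : GL (Fin n) K) : Matrix (Fin n) (Fin n) K) *
        ((c : GL (Fin n) K) : Matrix (Fin n) (Fin n) K) = 1 := by
      show ((((c⁻¹ : ↥(Cfsg.GU n K q)) : GL (Fin n) K) * (c : GL (Fin n) K) : GL (Fin n) K) :
        Matrix (Fin n) (Fin n) K) = 1
      rw [← Subgroup.coe_mul, inv_mul_cancel]
      rfl
    rw [h1, Matrix.one_mul])

theorem cp_mk (g : ↥(Cfsg.GU n K q)) :
    cp (ConjClasses.mk g) = ((g : GL (Fin n) K) : Matrix (Fin n) (Fin n) K).charpoly := rfl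

/-- a good polynomial has nonzero constant coefficient -/
theorem coeff_zero_ne_of_good (p : ℕ) [Fact p.Prime] [CharP K p] (r : ℕ) (hr : r.Prime)
    (f : K[X])
    (hgood : ∀ P : K[X], P.Monic → Irreducible P → P ∣ f →
      P ∈ insert (X - 1 : K[X]) (cycFactors K r)) : f.coeff 0 ≠ 0 := by
  intro h0
  have hX : (X : K[X]) ∣ f := X_dvd_iff.mpr h0
  have hXT := hgood X monic_X irreducible_X hX
  rw [mem_T_iff r hr X monic_X irreducible_X, X_dvd_iff] at hXT
  simp at hXT
  rw [if_neg hr.ne_zero.symm] at hXT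
  simp at hXT

/-- the classes of elements of order `r` of the unitary group correspond to the good
polynomials -/
theorem card_classes (hK : Fintype.card K = q ^ 2) (p : ℕ) [Fact p.Prime] [CharP K p] (r : ℕ)
    (hr : r.Prime) (hrp : r ≠ p) :
    Nat.card {C : ConjClasses ↥(Cfsg.GU n K q) // ∃ g : ↥(Cfsg.GU n K q),
      ConjClasses.mk g = C ∧ orderOf g = r} =
    Nat.card {f : K[X] // GoodP (cycFactors K r) (X - 1) (dual (sigQ hK)) n f ∧
      f ≠ (X - 1) ^ n} := by
  have hp : p.Prime := Fact.out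
  have hcop : r.Coprime p := (Nat.coprime_primes hr hp).mpr hrp
  have hT := T_monic_irreducible (F := K) r
  -- unitary matrices
  have hU : ∀ g : ↥(Cfsg.GU n K q), sharp hK ((g : GL (Fin n) K) : Matrix (Fin n) (Fin n) K) *
      ((g : GL (Fin n) K) : Matrix (Fin n) (Fin n) K) = 1 :=
    fun g => (pres_iff hK _).mp (fun u v => g.2 u v)
  have hdual : ∀ g : ↥(Cfsg.GU n K q),
      dual (sigQ hK) ((g : GL (Fin n) K) : Matrix (Fin n) (Fin n) K).charpoly =
        ((g : GL (Fin n) K) : Matrix (Fin n) (Fin n) K).charpoly := by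
    intro g
    have hdet : IsUnit ((g : GL (Fin n) K) : Matrix (Fin n) (Fin n) K).det :=
      (Matrix.isUnit_iff_isUnit_det _).mp (g : GL (Fin n) K).isUnit
    rw [← charpoly_inv_conj_transpose hK _ hdet, ← sharp_eq, Matrix.inv_eq_right_inv (hU g)]
  have hpow : ∀ (g : ↥(Cfsg.GU n K q)) (k : ℕ),
      (((g ^ k : ↥(Cfsg.GU n K q)) : GL (Fin n) K) : Matrix (Fin n) (Fin n) K) =
        ((g : GL (Fin n) K) : Matrix (Fin n) (Fin n) K) ^ k := by
    intro g k
    rw [Subgroup.coe_pow, Units.val_pow_eq_pow_val]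
  have hone : ∀ g : ↥(Cfsg.GU n K q),
      ((g : GL (Fin n) K) : Matrix (Fin n) (Fin n) K) = 1 → g = 1 := by
    intro g h
    apply Subtype.ext
    apply Units.ext
    exact h
  have hgoodOf : ∀ g : ↥(Cfsg.GU n K q), orderOf g = r →
      GoodP (cycFactors K r) (X - 1) (dual (sigQ hK)) n
        ((g : GL (Fin n) K) : Matrix (Fin n) (Fin n) K).charpoly ∧
      ((g : GL (Fin n) K) : Matrix (Fin n) (Fin n) K).charpoly ≠ (X - 1) ^ n := by
    intro g ho
    have hgr : ((g : GL (Fin n) K) : Matrix (Fin n) (Fin n) K) ^ r = 1 := by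
      rw [← hpow, ← ho, pow_orderOf_eq_one]
      rfl
    refine ⟨⟨Matrix.charpoly_monic _, ?_, ?_, hdual g⟩, ?_⟩
    · rw [Matrix.charpoly_natDegree_eq_dim, Fintype.card_fin]
    · intro P hPm hPi hd
      exact good_charpoly' r hr _ hgr P hPm hPi hd
    · intro hc
      have h1 := eq_one_of_charpoly' p _ r hcop hgr n hc
      have h2 := hone g h1
      rw [h2, orderOf_one] at ho
      exact hr.ne_one ho.symm
  let Φ : {C : ConjClasses ↥(Cfsg.GU n K q) // ∃ g : ↥(Cfsg.GU n K q),
      ConjClasses.mk g = C ∧ orderOf g = r} →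
      {f : K[X] // GoodP (cycFactors K r) (X - 1) (dual (sigQ hK)) n f ∧ f ≠ (X - 1) ^ n} :=
    fun C => ⟨cp C.1, by
      obtain ⟨g, hg, ho⟩ := C.2
      rw [← hg, cp_mk]
      exact hgoodOf g ho⟩
  apply Nat.card_congr
  apply Equiv.ofBijective Φ
  constructor
  · rintro ⟨C₁, g₁, rfl, h₁⟩ ⟨C₂, g₂, rfl, h₂⟩ h
    apply Subtype.ext
    have hc : ((g₁ : GL (Fin n) K) : Matrix (Fin n) (Fin n) K).charpoly =
        ((g₂ : GL (Fin n) K) : Matrix (Fin n) (Fin n) K).charpoly := congrArg Subtype.val h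
    show ConjClasses.mk g₁ = ConjClasses.mk g₂
    rw [ConjClasses.mk_eq_mk_iff_isConj, Cfsg.Agent.S2587.result hK]
    apply isConj_GL_of_charpoly_eq p _ _ _ _ hc
    · rw [Subgroup.orderOf_coe, h₁]
      exact hcop
    · rw [Subgroup.orderOf_coe, h₂]
      exact hcop
  · rintro ⟨f, ⟨hm, hn, hgood, hd⟩, hne⟩
    have h0 := coeff_zero_ne_of_good p r hr f hgood
    obtain ⟨M, hM, hc⟩ := exists_gu_charpoly hK p n f hm hn h0 hd
    have hMU := (pres_iff hK M).mp hM
    have hMdet : IsUnit M.det := by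
      have h1 : (sharp hK M).det * M.det = 1 := by rw [← Matrix.det_mul, hMU, Matrix.det_one]
      refine isUnit_iff_ne_zero.mpr (fun h => ?_)
      rw [h, mul_zero] at h1
      exact zero_ne_one h1
    let g₀ : GL (Fin n) K := Matrix.nonsingInvUnit M hMdet
    let G₀ : ↥(Cfsg.GU n K q) := ⟨g₀, fun u v => hM u v⟩
    obtain ⟨f', -, hf'⟩ := FiniteField.card K p
    obtain ⟨a, ha⟩ := exists_pprime_pow p (Fintype.card K) f' f'.pos hf' G₀
    set s : ↥(Cfsg.GU n K q) := G₀ ^ (Fintype.card K ^ a) with hs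
    have hsmat : ((s : GL (Fin n) K) : Matrix (Fin n) (Fin n) K) = M ^ (Fintype.card K ^ a) := by
      rw [hs, hpow]
      rfl
    have hsc : ((s : GL (Fin n) K) : Matrix (Fin n) (Fin n) K).charpoly = f := by
      rw [hsmat, Cfsg.Agent.Lib.Helper14.SpCount.charpoly_pow_card_pow, hc]
    have hsk : ((s : GL (Fin n) K) : Matrix (Fin n) (Fin n) K) ^ orderOf s = 1 := by
      rw [← hpow, pow_orderOf_eq_one]
      rfl
    obtain ⟨ε, hε⟩ := exists_expProd _ n f hn hm hgood
    have hdvd : f ∣ (X ^ r - 1) ^ (∑ P ∈ insert (X - 1 : K[X]) (cycFactors K r), ε P) := by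
      rw [hε]
      exact expProd_dvd_pow _ ε _ fun P hP => (mem_T_iff r hr P (hT P hP).1 (hT P hP).2).mp hP
    have hsr : ((s : GL (Fin n) K) : Matrix (Fin n) (Fin n) K) ^ r = 1 :=
      pow_eq_one_of_charpoly p _ (orderOf s) ha hsk r _ (by rw [hsc]; exact hdvd)
    have hsr' : s ^ r = 1 := by
      apply hone
      rw [hpow]
      exact hsr
    have hs1 : s ≠ 1 := by
      intro h1
      apply hne
      rw [← hsc, h1]
      show (1 : Matrix (Fin n) (Fin n) K).charpoly = _
      rw [Matrix.charpoly_one, Fintype.card_fin]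
    have : Fact r.Prime := ⟨hr⟩
    have ho : orderOf s = r := orderOf_eq_prime hsr' hs1
    refine ⟨⟨ConjClasses.mk s, s, rfl, ho⟩, ?_⟩
    apply Subtype.ext
    show cp (ConjClasses.mk s) = f
    rw [cp_mk, hsc]

end

/-- Number of conjugacy classes of elements of odd prime order r in the general unitary group GU_n(q), for r not dividing q(q + 1): let i be the multiplicative order of q modulo r, b = i if i is odd and b = i/2 if i is even, and s = (r − 1)/b. If i ≢ 2 (mod 4) the eigenvalue orbits pair off into dual pairs of totally isotropic blocks and there are C(⌊n/(2b)⌋ + s/2, s/2) − 1 classes; if i ≡ 2 (mod 4) each orbit gives a non-degenerate block of dimension i/2 and there are C(⌊2n/i⌋ + s, s) − 1 classes. -/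
theorem result {K : Type*} [Field K] [Fintype K] {p q n r i b s : ℕ} [Fact p.Prime] [CharP K p] (hK : Fintype.card K = q ^ 2) (hr : r.Prime) (hr2 : r ≠ 2) (hrp : r ≠ p) (hi : i = orderOf (q : ZMod r)) (hi2 : i ≠ 2) (hb : b = if Odd i then i else i / 2) (hs : s * b = r - 1) : Nat.card {C : ConjClasses ↥(Cfsg.GU n K q) // ∃ g : ↥(Cfsg.GU n K q), ConjClasses.mk g = C ∧ orderOf g = r} = if i % 4 = 2 then Nat.choose (2 * n / i + s) s - 1 else Nat.choose (n / (2 * b) + s / 2) (s / 2) - 1 := by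
  classical
  have : Fact r.Prime := ⟨hr⟩
  have hp : p.Prime := Fact.out
  rw [card_classes hK p r hr hrp]
  -- `q` is a power of `p`
  obtain ⟨f', -, hf'⟩ := FiniteField.card K p
  obtain ⟨e, -, hqe⟩ : ∃ e ≤ (f' : ℕ), q = p ^ e := by
    apply (Nat.dvd_prime_pow hp).mp
    rw [← hf', hK]
    exact Dvd.intro_left q (by ring)
  have hσ : ∀ a : K, sigQ hK a = a ^ (p ^ e) := by
    intro a
    rw [sigQ_apply, hqe]
  have hpr : ((p : ℕ) : ZMod r) ≠ 0 := by
    intro h
    rw [ZMod.natCast_eq_zero_iff] at h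
    exact hrp ((Nat.prime_dvd_prime_iff_eq hr hp).mp h)
  have hq0 : ((q : ℕ) : ZMod r) ≠ 0 := by
    rw [hqe, Nat.cast_pow]
    exact pow_ne_zero _ hpr
  have hipos : 0 < i := by
    rw [hi]
    exact orderOf_pos_of_ne_zero r _ hq0
  -- the degree of the factors
  have hdegb : orderOf ((Fintype.card K : ℕ) : ZMod r) = b := by
    rw [hK, Nat.cast_pow, orderOf_pow' _ two_ne_zero, ← hi, hb]
    by_cases hodd : Odd i
    · rw [if_pos hodd, Nat.Coprime.gcd_eq_one (Nat.coprime_two_right.mpr hodd), Nat.div_one]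
    · rw [if_neg hodd]
      rw [Nat.not_odd_iff_even] at hodd
      rw [Nat.gcd_eq_right (even_iff_two_dvd.mp hodd)]
  have hbpos : 0 < b := by
    rcases Nat.eq_zero_or_pos b with h | h
    · rw [h, mul_zero] at hs
      have := hr.two_le
      omega
    · exact h
  have hP₀ : (X - 1 : K[X]) ∉ cycFactors K r := X_sub_one_notMem p r hr hrp
  have hT := T_monic_irreducible (F := K) r
  have hd0 : (X - 1 : K[X]).natDegree = 1 := by
    have : (X - 1 : K[X]) = X - C 1 := by rw [map_one]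
    rw [this, natDegree_X_sub_C]
  have hdS : ∀ P ∈ cycFactors K r, P.natDegree = b := fun P hP => by
    rw [← hdegb]
    exact natDegree_of_mem_cycFactors p r hr hrp P hP
  have hcard : (cycFactors K r).card = s := by
    have h1 := card_cycFactors (F := K) p r hr hrp
    rw [hdegb] at h1
    exact Nat.eq_of_mul_eq_mul_right hbpos (h1.trans hs.symm)
  have hstar_mem : ∀ P ∈ cycFactors K r, dual (sigQ hK) P ∈ cycFactors K r :=
    fun P hP => dual_mem p r hr hrp e (sigQ hK) hσ P hP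
  have hstar_star : ∀ P ∈ cycFactors K r, dual (sigQ hK) (dual (sigQ hK) P) = P := by
    intro P hP
    exact dual_dual (sigQ hK) (sigQ_sigQ hK) ((mem_cycFactors r P).mp hP).2.1
      (coeff_zero_ne_of_mem r hr P hP)
  have hcrit : ∀ P ∈ cycFactors K r, (dual (sigQ hK) P = P ↔ i % 4 = 2) := by
    intro P hP
    rw [dual_eq_iff p r hr hrp e (sigQ hK) hσ P hP, hK, ← hqe, Nat.cast_pow, hi]
    exact exists_sq_pow_eq_neg_iff r hr2 _ hq0
  by_cases h4 : i % 4 = 2
  · rw [if_pos h4]
    have hfix : ∀ P ∈ cycFactors K r, dual (sigQ hK) P = P := fun P hP => (hcrit P hP).mpr h4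
    rw [card_fixed (cycFactors K r) (X - 1) (dual (sigQ hK)) b hP₀ hT hd0 hdS hbpos
      (dual_mul (sigQ hK)) (dual_one (sigQ hK)) (dual_X_sub_one (sigQ hK)) hfix n, hcard]
    have hnodd : ¬ Odd i := by
      rw [Nat.not_odd_iff_even, Nat.even_iff]
      omega
    rw [if_neg hnodd] at hb
    have hi2b : i = 2 * b := by omega
    rw [hi2b, Nat.mul_div_mul_left n b two_pos]
  · rw [if_neg h4]
    have hfpf : ∀ P ∈ cycFactors K r, dual (sigQ hK) P ≠ P := fun P hP h => h4 ((hcrit P hP).mp h)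
    rw [card_free (cycFactors K r) (X - 1) (dual (sigQ hK)) b hP₀ hT hd0 hdS hbpos
      (dual_mul (sigQ hK)) (dual_one (sigQ hK)) (dual_X_sub_one (sigQ hK)) hstar_mem hstar_star
      hfpf n, hcard]

end Cfsg.Agent.S2671
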