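import Cfsg.Statements.S2672
import Cfsg.Agent.Lib.Helper14.ProjOrd4
import Cfsg.Agent.Lib.Helper14.OrdCount4
import Cfsg.Agent.Lib.Helper14.HCount4
import Cfsg.Agent.Lib.Helper14.SpCount4
import Cfsg.Agent.Lib.Helper6.Unitary2
import Cfsg.Agent.S2587
import Cfsg.Agent.S0783

set_option autoImplicit false
open Cfsg

namespace Cfsg.Agent.S2672

open Polynomial Cfsg.Agent.Lib.Helper14 Cfsg.Agent.Lib.Helper14.ProjOrd
open Cfsg.Agent.Lib.Helper14.HSemi (sigQ sigQ_apply)
open Cfsg.Agent.Lib.Helper14.HCount (dual dual_mul exists_gu_charpoly)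
open Cfsg.Agent.Lib.Helper14.OrdCount (dual_one exists_pprime_pow aeval_eq_zero_of_semisimple)

section dualfacts

variable {K : Type*} [Field K] (σ : K ≃+* K)

theorem dual_pow (f : K[X]) (k : ℕ) : dual σ (f ^ k) = dual σ f ^ k := by
  induction k with
  | zero => rw [pow_zero, pow_zero, dual_one]
  | succ k ih => rw [pow_succ, pow_succ, dual_mul, ih]

theorem reverse_X_pow_sub_C (r : ℕ) (d : K) :
    (X ^ r - C d : K[X]).reverse = 1 - C d * X ^ r := by
  have h4 : (X ^ r - C d : K[X]) = X ^ r + C (-d) := by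
    rw [map_neg, sub_eq_add_neg]
  have h5 : (X ^ r : K[X]).reverse = 1 := by
    have : (X ^ r : K[X]) = (1 : K[X]) * X ^ r := by rw [one_mul]
    rw [this, reverse_mul_X_pow, ← C_1, reverse_C]
  rw [h4, reverse_add_C, h5, natDegree_X_pow, map_neg]
  ring

theorem dual_X_pow_sub_C (r : ℕ) (hr : r ≠ 0) (c : K) (hc : σ c * c = 1) :
    dual σ (X ^ r - C c : K[X]) = X ^ r - C c := by
  have hc0 : c ≠ 0 := by
    rintro rfl
    rw [mul_zero] at hc
    exact zero_ne_one hc
  have hσ0 : σ c ≠ 0 := (map_ne_zero σ).mpr hc0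
  unfold dual
  have h1 : (X ^ r - C c : K[X]).coeff 0 = -c := by
    rw [coeff_sub, coeff_X_pow, coeff_C_zero, if_neg hr.symm, zero_sub]
  have h2 : (X ^ r - C c : K[X]).map (σ : K →+* K) = X ^ r - C (σ c) := by
    simp
  have h3 : (σ c)⁻¹ = c := by
    rw [inv_eq_iff_eq_inv]
    exact eq_inv_of_mul_eq_one_left hc
  rw [h1, h2, reverse_X_pow_sub_C r, map_neg, inv_neg, h3, mul_sub, mul_one, ← mul_assoc]
  have h6 : (C (-c) : K[X]) * C (σ c) = -1 := by
    rw [← C_mul, neg_mul, mul_comm, hc, map_neg, map_one]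
  rw [h6, map_neg]
  ring

end dualfacts

section
variable {K : Type*} [Field K] [Fintype K] {q n : ℕ}

theorem mat_sub (g : ↥(Cfsg.GU n K q)) :
    mat (Cfsg.GU n K q).subtype g = ((g : GL (Fin n) K) : Matrix (Fin n) (Fin n) K) := rfl

theorem eq_of_mat_eq (g h : ↥(Cfsg.GU n K q))
    (e : ((g : GL (Fin n) K) : Matrix (Fin n) (Fin n) K) =
      ((h : GL (Fin n) K) : Matrix (Fin n) (Fin n) K)) : g = h := by
  apply Subtype.ext
  apply Units.ext
  exact e

theorem two_le_q (hK : Fintype.card K = q ^ 2) : 2 ≤ q := by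
  have h1 : 1 < Fintype.card K := Fintype.one_lt_card
  rw [hK] at h1
  by_contra h
  have : q ≤ 1 := by omega
  have : q ^ 2 ≤ 1 ^ 2 := Nat.pow_le_pow_left this 2
  omega

theorem card_sub_one (hK : Fintype.card K = q ^ 2) : Fintype.card K - 1 = (q - 1) * (q + 1) := by
  rw [hK]
  have := two_le_q hK
  obtain ⟨m, rfl⟩ : ∃ m, q = m + 1 := ⟨q - 1, by omega⟩
  simp only [Nat.add_sub_cancel]
  have : (m + 1) ^ 2 = m * (m + 1 + 1) + 1 := by ring
  omega

theorem hyp_GU (hK : Fintype.card K = q ^ 2) (p : ℕ) [Fact p.Prime] [CharP K p]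
    {r : ℕ} (hn : 1 ≤ n) (hr : r.Prime) (hr2 : r ≠ 2) (hrq : r ∣ q + 1) :
    Hyp r p (Cfsg.GU n K q).subtype (rootsOfUnity (q + 1) K) where
  hn := hn
  hr := hr
  hrK := by
    rw [card_sub_one hK]
    exact Dvd.dvd.mul_left hrq _
  center := by
    intro g
    rw [mat_sub]
    constructor
    · intro hg
      obtain ⟨a, ha1, ha2⟩ := Cfsg.Agent.S0783.center_scalar hK hn g hg
      have ha0 : a ≠ 0 := by
        rintro rfl
        rw [zero_pow (Nat.succ_ne_zero q)] at ha1
        exact zero_ne_one ha1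
      refine ⟨Units.mk0 a ha0, ?_, ?_⟩
      · rw [mem_rootsOfUnity]
        apply Units.ext
        rw [Units.val_pow_eq_pow_val, Units.val_mk0, ha1, Units.val_one]
      · rw [ha2, Units.val_mk0]
    · rintro ⟨c, hc, hgc⟩
      have hc1 : ((c : Kˣ) : K) ^ (q + 1) = 1 := by
        rw [← Units.val_pow_eq_pow_val, (mem_rootsOfUnity _ _).mp hc, Units.val_one]
      obtain ⟨z, hz1, hz2⟩ := Cfsg.Agent.S0783.scalar_mem_center (n := n) hK _ hc1
      have : g = z := eq_of_mat_eq g z (by rw [hgc, hz2])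
      rw [this]
      exact hz1
  scalar := by
    intro c hc
    have hc1 : ((c : Kˣ) : K) ^ (q + 1) = 1 := by
      rw [← Units.val_pow_eq_pow_val, (mem_rootsOfUnity _ _).mp hc, Units.val_one]
    obtain ⟨z, -, hz2⟩ := Cfsg.Agent.S0783.scalar_mem_center (n := n) hK _ hc1
    exact ⟨z, hz2⟩
  conj := by
    intro g h M hM hg hh hc
    rw [mat_sub] at hg hh hc
    rw [Cfsg.Agent.S2587.result hK]
    have hg' : (g : GL (Fin n) K) ^ M = 1 := by
      apply Units.ext
      rw [Units.val_pow_eq_pow_val, hg, Units.val_one]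
    have hh' : (h : GL (Fin n) K) ^ M = 1 := by
      apply Units.ext
      rw [Units.val_pow_eq_pow_val, hh, Units.val_one]
    exact isConj_GL_of_charpoly_eq p _ _
      (Nat.Coprime.coprime_dvd_left (orderOf_dvd_of_pow_eq_one hg') hM)
      (Nat.Coprime.coprime_dvd_left (orderOf_dvd_of_pow_eq_one hh') hM) hc
  diag := by
    intro d hd
    obtain ⟨k, hk⟩ := hrq
    have hd' : ∀ i, ((d i : Kˣ) : K) ^ (q + 1) = 1 := by
      intro i
      rw [hk, pow_mul, ← Units.val_pow_eq_pow_val, hd i, Units.val_one, one_pow]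
    obtain ⟨g, hg⟩ := Cfsg.Agent.Lib.Helper6.exists_GU_of_pres hK
      (Matrix.diagonal (fun i => ((d i : Kˣ) : K)))
      (Cfsg.Agent.Lib.Helper6.diag_pres _ hd')
    exact ⟨g, hg⟩
  typeB := by
    rintro ⟨k, rfl⟩ c hc
    have hc1 : ((c : Kˣ) : K) ^ (q + 1) = 1 := by
      rw [← Units.val_pow_eq_pow_val, (mem_rootsOfUnity _ _).mp hc, Units.val_one]
    have hmon : (X ^ r - C ((c : Kˣ) : K) : K[X]).Monic := monic_X_pow_sub_C _ hr.ne_zero
    have hσc : sigQ hK ((c : Kˣ) : K) * ((c : Kˣ) : K) = 1 := by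
      rw [sigQ_apply, ← pow_succ, hc1]
    obtain ⟨M, hM, hMc⟩ := exists_gu_charpoly hK p (r * k) ((X ^ r - C ((c : Kˣ) : K)) ^ k)
      (hmon.pow k) (by rw [natDegree_pow, natDegree_X_pow_sub_C, mul_comm]) (by
        rw [coeff_zero_eq_eval_zero, eval_pow, eval_sub, eval_pow, eval_X, eval_C,
          zero_pow hr.ne_zero, zero_sub]
        exact pow_ne_zero _ (neg_ne_zero.mpr (Units.ne_zero c)))
      (by rw [dual_pow, dual_X_pow_sub_C _ r hr.ne_zero _ hσc])
    obtain ⟨G₀, hG₀⟩ := Cfsg.Agent.Lib.Helper6.exists_GU_of_pres hK M hM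
    obtain ⟨f', -, hf'⟩ := FiniteField.card K p
    obtain ⟨a, ha⟩ := exists_pprime_pow p (Fintype.card K) f' f'.pos hf' G₀
    refine ⟨G₀ ^ (Fintype.card K ^ a), ?_⟩
    have hsmat : mat (Cfsg.GU (r * k) K q).subtype (G₀ ^ (Fintype.card K ^ a)) =
        M ^ (Fintype.card K ^ a) := by
      rw [mat_pow, mat_sub, hG₀]
    have hsc : (mat (Cfsg.GU (r * k) K q).subtype (G₀ ^ (Fintype.card K ^ a))).charpoly =
        (X ^ r - C ((c : Kˣ) : K)) ^ k := by
      rw [hsmat, Cfsg.Agent.Lib.Helper14.SpCount.charpoly_pow_card_pow, hMc]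
    have hsk : mat (Cfsg.GU (r * k) K q).subtype (G₀ ^ (Fintype.card K ^ a)) ^
        orderOf (G₀ ^ (Fintype.card K ^ a)) = 1 := by
      rw [← mat_pow, pow_orderOf_eq_one, mat_one]
    have hss := isSemisimple_toLin'_of_pow_eq_one p _ _ ha hsk
    have h := aeval_eq_zero_of_semisimple _ hss (X ^ r - C ((c : Kˣ) : K)) k (by rw [hsc])
    rw [map_sub, map_pow, aeval_X, aeval_C, Algebra.algebraMap_eq_smul_one] at h
    exact sub_eq_zero.mp h
  root := by
    intro ν hν
    rw [mem_rootsOfUnity] at hν ⊢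
    have h1 : orderOf ν ∣ r * (q + 1) := by
      apply orderOf_dvd_of_pow_eq_one
      rw [pow_mul]
      exact hν
    have h2 : orderOf ν ∣ (q - 1) * (q + 1) := by
      apply orderOf_dvd_of_pow_eq_one
      classical
      rw [← card_sub_one hK, ← Fintype.card_units]
      exact pow_card_eq_one
    have h3 : orderOf ν ∣ Nat.gcd (r * (q + 1)) ((q - 1) * (q + 1)) := Nat.dvd_gcd h1 h2
    rw [Nat.gcd_mul_right] at h3
    have h4 : Nat.gcd r (q - 1) = 1 := by
      rw [← Nat.coprime_iff_gcd_eq_one, Nat.Prime.coprime_iff_not_dvd hr]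
      intro hd
      have hq2 := two_le_q hK
      have h5 : r ∣ (q + 1) - (q - 1) := Nat.dvd_sub hrq hd
      have h6 : (q + 1) - (q - 1) = 2 := by omega
      rw [h6] at h5
      exact hr2 ((Nat.prime_dvd_prime_iff_eq hr Nat.prime_two).mp h5)
    rw [h4, one_mul] at h3
    exact orderOf_dvd_iff_pow_eq_one.mp h3
  rC := by
    obtain ⟨ζ, hζ⟩ := Cfsg.Agent.Lib.Helper6.exists_prim_root hK
    have h1 : Nat.card (rootsOfUnity (q + 1) K) = q + 1 := by
      have hζ' : IsPrimitiveRoot ((ζ : Kˣ) : K) (q + 1) := IsPrimitiveRoot.coe_units_iff.mpr hζ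
      exact hζ'.card_rootsOfUnity
    rw [h1]
    exact hrq

end

/-- Number of conjugacy classes of elements of odd prime order r in PGU_n(q) = GU_n(q)/scalars (n ≥ 3) when r divides q + 1: as in the linear case with q − 1 replaced by q + 1, the classes correspond to the rotation orbits on r-tuples of eigenvalue multiplicities summing to n with every entry < n, plus r − 1 further classes when r divides n; in all (C(n+r−1, r−1) − r − [r ∣ n])/r + r·[r ∣ n]. -/
theorem result {K : Type*} [Field K] [Fintype K] {q n r : ℕ} (hK : Fintype.card K = q ^ 2) (hn : 3 ≤ n) (hr : r.Prime) (hr2 : r ≠ 2) (hrq : r ∣ q + 1) : Nat.card {C : ConjClasses (↥(Cfsg.GU n K q) ⧸ Subgroup.center ↥(Cfsg.GU n K q)) // ∃ g : ↥(Cfsg.GU n K q) ⧸ Subgroup.center ↥(Cfsg.GU n K q), ConjClasses.mk g = C ∧ orderOf g = r} = (Nat.choose (n + r - 1) (r - 1) - r - (if r ∣ n then 1 else 0)) / r + r * (if r ∣ n then 1 else 0) := by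
  obtain ⟨p, hp⟩ := CharP.exists K
  haveI : Fact p.Prime := ⟨CharP.char_is_prime K p⟩
  exact card_classes_proj (hyp_GU hK p (by omega) hr hr2 hrq)

end Cfsg.Agent.S2672
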