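import Cfsg.Statements.S2673
import Cfsg.Agent.Lib.Helper14.OrthOrd2
import Cfsg.Agent.Lib.Helper14.JType5
import Cfsg.Agent.Lib.Helper14.SemiConjFin
import Cfsg.Agent.S2645

set_option autoImplicit false
open Cfsg

namespace Cfsg.Agent.S2673

open Polynomial Matrix
open Cfsg.Agent.Lib.Helper14 Cfsg.Agent.Lib.Helper14.OrdCount
open Cfsg.Agent.Lib.Helper14.HCount (dual dual_mul dual_dual)
open Cfsg.Agent.Lib.Helper14.SpCount (exists_pprime_part)
open Cfsg.Agent.S2568 (cycFactors mem_cycFactors mem_T_iff T_monic_irreducible X_sub_one_notMem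
  card_cycFactors natDegree_of_mem_cycFactors)
open Cfsg.Agent.Lib.Helper6 (QOdd QOdd_apply nondegenerate_QOdd)

/-- The characteristic polynomial as a function on conjugacy classes of `O_{2m+1}`. -/
noncomputable def cpO {F : Type*} [Field F] {m : ℕ} :
    ConjClasses ↥(Cfsg.isometryGroup F (Cfsg.quadFormOdd m F)) → F[X] :=
  Quotient.lift (fun g : ↥(Cfsg.isometryGroup F (Cfsg.quadFormOdd m F)) =>
    ((g : Matrix.GeneralLinearGroup (Unit ⊕ (Fin m ⊕ Fin m)) F) :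
      Matrix (Unit ⊕ (Fin m ⊕ Fin m)) (Unit ⊕ (Fin m ⊕ Fin m)) F).charpoly) (by
    intro a b hab
    obtain ⟨c, hc⟩ := isConj_iff.mp hab
    show ((a : Matrix.GeneralLinearGroup (Unit ⊕ (Fin m ⊕ Fin m)) F) :
        Matrix (Unit ⊕ (Fin m ⊕ Fin m)) (Unit ⊕ (Fin m ⊕ Fin m)) F).charpoly =
      ((b : Matrix.GeneralLinearGroup (Unit ⊕ (Fin m ⊕ Fin m)) F) :
        Matrix (Unit ⊕ (Fin m ⊕ Fin m)) (Unit ⊕ (Fin m ⊕ Fin m)) F).charpoly
    rw [← hc, Subgroup.coe_mul, Subgroup.coe_mul, Units.val_mul, Units.val_mul,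
      Matrix.charpoly_mul_comm, ← mul_assoc, ← Units.val_mul, ← Subgroup.coe_mul, inv_mul_cancel,
      Subgroup.coe_one, Units.val_one, one_mul])

theorem cpO_mk {F : Type*} [Field F] {m : ℕ}
    (g : ↥(Cfsg.isometryGroup F (Cfsg.quadFormOdd m F))) :
    cpO (ConjClasses.mk g) =
      ((g : Matrix.GeneralLinearGroup (Unit ⊕ (Fin m ⊕ Fin m)) F) :
        Matrix (Unit ⊕ (Fin m ⊕ Fin m)) (Unit ⊕ (Fin m ⊕ Fin m)) F).charpoly := rfl

section
open scoped Classical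

variable {F : Type*} [Field F] [Fintype F]

/-- membership in the isometry group of the Mathlib version of the form -/
theorem mem_QOdd {m : ℕ} (g : Matrix.GeneralLinearGroup (Unit ⊕ (Fin m ⊕ Fin m)) F)
    (hg : g ∈ Cfsg.isometryGroup F (Cfsg.quadFormOdd m F)) :
    g ∈ Cfsg.isometryGroup F ⇑(QOdd F m) := by
  intro u _
  show QOdd F m _ = QOdd F m u
  rw [QOdd_apply, QOdd_apply]
  exact hg u u

/-- elements of odd order prime to the characteristic with the same characteristic polynomial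
are conjugate in the orthogonal group -/
theorem isConj_of_charpoly (p : ℕ) [Fact p.Prime] [CharP F p] (h2 : (2 : F) ≠ 0) (m r : ℕ)
    (hodd : Odd r) (hcop : r.Coprime p)
    (A B : ↥(Cfsg.isometryGroup F (Cfsg.quadFormOdd m F))) (hA : orderOf A = r)
    (hB : orderOf B = r)
    (hc : ((A : Matrix.GeneralLinearGroup (Unit ⊕ (Fin m ⊕ Fin m)) F) :
        Matrix (Unit ⊕ (Fin m ⊕ Fin m)) (Unit ⊕ (Fin m ⊕ Fin m)) F).charpoly =
      ((B : Matrix.GeneralLinearGroup (Unit ⊕ (Fin m ⊕ Fin m)) F) :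
        Matrix (Unit ⊕ (Fin m ⊕ Fin m)) (Unit ⊕ (Fin m ⊕ Fin m)) F).charpoly) :
    IsConj A B := by
  have hp : p.Prime := Fact.out
  have hQ := nondegenerate_QOdd F h2 m
  set a : Matrix.GeneralLinearGroup (Unit ⊕ (Fin m ⊕ Fin m)) F :=
    (A : Matrix.GeneralLinearGroup (Unit ⊕ (Fin m ⊕ Fin m)) F) with ha
  set b : Matrix.GeneralLinearGroup (Unit ⊕ (Fin m ⊕ Fin m)) F :=
    (B : Matrix.GeneralLinearGroup (Unit ⊕ (Fin m ⊕ Fin m)) F) with hb
  have hoa : orderOf a = r := by rw [ha, Subgroup.orderOf_coe, hA]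
  have hob : orderOf b = r := by rw [hb, Subgroup.orderOf_coe, hB]
  obtain ⟨c, hcc⟩ := isConj_iff.mp (Cfsg.Agent.Lib.Helper14.isConj_GL_of_charpoly_eq p a b
    (by rw [hoa]; exact hcop) (by rw [hob]; exact hcop) hc)
  have hc' : (c : Matrix (Unit ⊕ (Fin m ⊕ Fin m)) (Unit ⊕ (Fin m ⊕ Fin m)) F) *
      (a : Matrix (Unit ⊕ (Fin m ⊕ Fin m)) (Unit ⊕ (Fin m ⊕ Fin m)) F) =
      (b : Matrix (Unit ⊕ (Fin m ⊕ Fin m)) (Unit ⊕ (Fin m ⊕ Fin m)) F) *
      (c : Matrix (Unit ⊕ (Fin m ⊕ Fin m)) (Unit ⊕ (Fin m ⊕ Fin m)) F) := by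
    have := mul_inv_eq_iff_eq_mul.mp hcc
    rw [← Units.val_mul, ← Units.val_mul, this]
  have ham : (a : Matrix (Unit ⊕ (Fin m ⊕ Fin m)) (Unit ⊕ (Fin m ⊕ Fin m)) F) ^ r = 1 := by
    rw [← Units.val_pow_eq_pow_val, ← hoa, pow_orderOf_eq_one, Units.val_one]
  have hbm : (b : Matrix (Unit ⊕ (Fin m ⊕ Fin m)) (Unit ⊕ (Fin m ⊕ Fin m)) F) ^ r = 1 := by
    rw [← Units.val_pow_eq_pow_val, ← hob, pow_orderOf_eq_one, Units.val_one]
  have hmF : (r : F) ≠ 0 := by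
    intro h0
    have := (CharP.cast_eq_zero_iff F p r).1 h0
    exact (Nat.Prime.coprime_iff_not_dvd hp).1 hcop.symm this
  have hinvmul : ∀ g : Matrix.GeneralLinearGroup (Unit ⊕ (Fin m ⊕ Fin m)) F,
      Matrix.toLin' (g : Matrix (Unit ⊕ (Fin m ⊕ Fin m)) (Unit ⊕ (Fin m ⊕ Fin m)) F) *
        Matrix.toLin' ((g⁻¹ : Matrix.GeneralLinearGroup (Unit ⊕ (Fin m ⊕ Fin m)) F) :
          Matrix (Unit ⊕ (Fin m ⊕ Fin m)) (Unit ⊕ (Fin m ⊕ Fin m)) F) = 1 := by
    intro g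
    rw [Module.End.mul_eq_comp, ← Matrix.toLin'_mul, ← Units.val_mul, mul_inv_cancel, Units.val_one,
      Matrix.toLin'_one]
    rfl
  have hmulinv : ∀ g : Matrix.GeneralLinearGroup (Unit ⊕ (Fin m ⊕ Fin m)) F,
      Matrix.toLin' ((g⁻¹ : Matrix.GeneralLinearGroup (Unit ⊕ (Fin m ⊕ Fin m)) F) :
          Matrix (Unit ⊕ (Fin m ⊕ Fin m)) (Unit ⊕ (Fin m ⊕ Fin m)) F) *
        Matrix.toLin' (g : Matrix (Unit ⊕ (Fin m ⊕ Fin m)) (Unit ⊕ (Fin m ⊕ Fin m)) F) = 1 := by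
    intro g
    rw [Module.End.mul_eq_comp, ← Matrix.toLin'_mul, ← Units.val_mul, inv_mul_cancel, Units.val_one,
      Matrix.toLin'_one]
    rfl
  have I : Cfsg.Agent.Lib.Helper14.OrthSemi.Iso (QOdd F m)
      (Matrix.toLin' (a : Matrix (Unit ⊕ (Fin m ⊕ Fin m)) (Unit ⊕ (Fin m ⊕ Fin m)) F))
      (Matrix.toLin' ((a⁻¹ : Matrix.GeneralLinearGroup (Unit ⊕ (Fin m ⊕ Fin m)) F) :
        Matrix (Unit ⊕ (Fin m ⊕ Fin m)) (Unit ⊕ (Fin m ⊕ Fin m)) F)) r :=
    { gh := hinvmul a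
      hg := hmulinv a
      pres := fun v => by
        rw [Matrix.toLin'_apply, QOdd_apply, QOdd_apply]
        exact A.2 v v
      odd := hodd
      hm := hmF
      gm := by
        rw [← Matrix.toLin'_pow, ham, Matrix.toLin'_one]
        rfl }
  have I' : Cfsg.Agent.Lib.Helper14.OrthSemi.Iso (QOdd F m)
      (Matrix.toLin' (b : Matrix (Unit ⊕ (Fin m ⊕ Fin m)) (Unit ⊕ (Fin m ⊕ Fin m)) F))
      (Matrix.toLin' ((b⁻¹ : Matrix.GeneralLinearGroup (Unit ⊕ (Fin m ⊕ Fin m)) F) :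
        Matrix (Unit ⊕ (Fin m ⊕ Fin m)) (Unit ⊕ (Fin m ⊕ Fin m)) F)) r :=
    { gh := hinvmul b
      hg := hmulinv b
      pres := fun v => by
        rw [Matrix.toLin'_apply, QOdd_apply, QOdd_apply]
        exact B.2 v v
      odd := hodd
      hm := hmF
      gm := by
        rw [← Matrix.toLin'_pow, hbm, Matrix.toLin'_one]
        rfl }
  let C : (Unit ⊕ (Fin m ⊕ Fin m) → F) ≃ₗ[F] (Unit ⊕ (Fin m ⊕ Fin m) → F) :=
    LinearEquiv.ofLinearMap
      (Matrix.toLin' (c : Matrix (Unit ⊕ (Fin m ⊕ Fin m)) (Unit ⊕ (Fin m ⊕ Fin m)) F))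
      (Matrix.toLin' ((c⁻¹ : (Matrix (Unit ⊕ (Fin m ⊕ Fin m)) (Unit ⊕ (Fin m ⊕ Fin m)) F)ˣ) :
        Matrix (Unit ⊕ (Fin m ⊕ Fin m)) (Unit ⊕ (Fin m ⊕ Fin m)) F))
      (by rw [← Matrix.toLin'_mul, Units.mul_inv, Matrix.toLin'_one])
      (by rw [← Matrix.toLin'_mul, Units.inv_mul, Matrix.toLin'_one])
  have hC : ∀ v,
      C (Matrix.toLin' (a : Matrix (Unit ⊕ (Fin m ⊕ Fin m)) (Unit ⊕ (Fin m ⊕ Fin m)) F) v) =
      Matrix.toLin' (b : Matrix (Unit ⊕ (Fin m ⊕ Fin m)) (Unit ⊕ (Fin m ⊕ Fin m)) F) (C v) := by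
    intro v
    show Matrix.toLin' (c : Matrix (Unit ⊕ (Fin m ⊕ Fin m)) (Unit ⊕ (Fin m ⊕ Fin m)) F)
        (Matrix.toLin' (a : Matrix (Unit ⊕ (Fin m ⊕ Fin m)) (Unit ⊕ (Fin m ⊕ Fin m)) F) v) =
      Matrix.toLin' (b : Matrix (Unit ⊕ (Fin m ⊕ Fin m)) (Unit ⊕ (Fin m ⊕ Fin m)) F)
        (Matrix.toLin' (c : Matrix (Unit ⊕ (Fin m ⊕ Fin m)) (Unit ⊕ (Fin m ⊕ Fin m)) F) v)
    rw [← LinearMap.comp_apply, ← Matrix.toLin'_mul, hc', Matrix.toLin'_mul, LinearMap.comp_apply]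
  obtain ⟨g, hgQ, hgx⟩ := Cfsg.Agent.Lib.Helper14.OrthSemi.conj_of_linear_conj hQ I I' C hC
  have hG1 : LinearMap.toMatrix' g.toLinearMap * LinearMap.toMatrix' g.symm.toLinearMap = 1 := by
    rw [← LinearMap.toMatrix'_comp]
    have : g.toLinearMap ∘ₗ g.symm.toLinearMap = LinearMap.id := by
      apply LinearMap.ext
      intro x
      simp
    rw [this, LinearMap.toMatrix'_id]
  have hG2 : LinearMap.toMatrix' g.symm.toLinearMap * LinearMap.toMatrix' g.toLinearMap = 1 := by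
    rw [← LinearMap.toMatrix'_comp]
    have : g.symm.toLinearMap ∘ₗ g.toLinearMap = LinearMap.id := by
      apply LinearMap.ext
      intro x
      simp
    rw [this, LinearMap.toMatrix'_id]
  let Gu : Matrix.GeneralLinearGroup (Unit ⊕ (Fin m ⊕ Fin m)) F :=
    ⟨LinearMap.toMatrix' g.toLinearMap, LinearMap.toMatrix' g.symm.toLinearMap, hG1, hG2⟩
  have hGmem : Gu ∈ Cfsg.isometryGroup F (Cfsg.quadFormOdd m F) := by
    intro u _
    show Cfsg.quadFormOdd m F ((LinearMap.toMatrix' g.toLinearMap).mulVec u) =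
      Cfsg.quadFormOdd m F u
    rw [LinearMap.toMatrix'_mulVec, ← QOdd_apply, ← QOdd_apply]
    exact hgQ u
  rw [isConj_iff]
  refine ⟨⟨Gu, hGmem⟩, ?_⟩
  rw [mul_inv_eq_iff_eq_mul]
  apply Subtype.ext
  apply Units.ext
  show LinearMap.toMatrix' g.toLinearMap *
      (a : Matrix (Unit ⊕ (Fin m ⊕ Fin m)) (Unit ⊕ (Fin m ⊕ Fin m)) F) =
    (b : Matrix (Unit ⊕ (Fin m ⊕ Fin m)) (Unit ⊕ (Fin m ⊕ Fin m)) F) *
      LinearMap.toMatrix' g.toLinearMap
  apply Matrix.toLin'.injective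
  apply LinearMap.ext
  intro v
  rw [Matrix.toLin'_mul, Matrix.toLin'_mul, Matrix.toLin'_toMatrix', LinearMap.comp_apply,
    LinearMap.comp_apply]
  exact hgx v

/-- the classes of elements of order `r` of the orthogonal group correspond to the good
polynomials -/
theorem card_classes (p : ℕ) [Fact p.Prime] [CharP F p] (h2 : (2 : F) ≠ 0) (m r : ℕ)
    (hr : r.Prime) (hr2 : r ≠ 2) (hrp : r ≠ p) :
    Nat.card {C : ConjClasses ↥(Cfsg.isometryGroup F (Cfsg.quadFormOdd m F)) //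
      ∃ g : ↥(Cfsg.isometryGroup F (Cfsg.quadFormOdd m F)),
        ConjClasses.mk g = C ∧ orderOf g = r} =
    Nat.card {f : F[X] //
      GoodP (cycFactors F r) (X - 1) (dual (RingEquiv.refl F)) (2 * m + 1) f ∧
      f ≠ (X - 1) ^ (2 * m + 1)} := by
  have hp : p.Prime := Fact.out
  have hcop : r.Coprime p := (Nat.coprime_primes hr hp).mpr hrp
  have hodd : Odd r := hr.odd_of_ne_two hr2
  have hT := T_monic_irreducible (F := F) r
  have hdim : Fintype.card (Unit ⊕ (Fin m ⊕ Fin m)) = 2 * m + 1 := by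
    rw [Fintype.card_sum, Fintype.card_sum, Fintype.card_unit, Fintype.card_fin]
    ring
  have hrF : (r : F) ≠ 0 := by
    intro h0
    have := (CharP.cast_eq_zero_iff F p r).1 h0
    exact (Nat.Prime.coprime_iff_not_dvd hp).1 hcop.symm this
  have hdual : ∀ g : ↥(Cfsg.isometryGroup F (Cfsg.quadFormOdd m F)),
      dual (RingEquiv.refl F)
        ((g : Matrix.GeneralLinearGroup (Unit ⊕ (Fin m ⊕ Fin m)) F) :
          Matrix (Unit ⊕ (Fin m ⊕ Fin m)) (Unit ⊕ (Fin m ⊕ Fin m)) F).charpoly =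
        ((g : Matrix.GeneralLinearGroup (Unit ⊕ (Fin m ⊕ Fin m)) F) :
          Matrix (Unit ⊕ (Fin m ⊕ Fin m)) (Unit ⊕ (Fin m ⊕ Fin m)) F).charpoly := by
    intro g
    have hg' := mem_QOdd g.1 g.2
    exact OrthOrd.dual_charpoly_of_pres _ (JType.gram (QOdd F m))
      (JType.gram_isUnit_det _ (nondegenerate_QOdd F h2 m)) (JType.gram_pres _ g.1 hg')
      (Units.isUnit g.1)
  have hpow : ∀ (g : ↥(Cfsg.isometryGroup F (Cfsg.quadFormOdd m F))) (k : ℕ),
      (((g ^ k : ↥(Cfsg.isometryGroup F (Cfsg.quadFormOdd m F))) :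
        Matrix.GeneralLinearGroup (Unit ⊕ (Fin m ⊕ Fin m)) F) :
          Matrix (Unit ⊕ (Fin m ⊕ Fin m)) (Unit ⊕ (Fin m ⊕ Fin m)) F) =
        ((g : Matrix.GeneralLinearGroup (Unit ⊕ (Fin m ⊕ Fin m)) F) :
          Matrix (Unit ⊕ (Fin m ⊕ Fin m)) (Unit ⊕ (Fin m ⊕ Fin m)) F) ^ k := by
    intro g k
    rw [Subgroup.coe_pow, Units.val_pow_eq_pow_val]
  have hone : ∀ g : ↥(Cfsg.isometryGroup F (Cfsg.quadFormOdd m F)),
      ((g : Matrix.GeneralLinearGroup (Unit ⊕ (Fin m ⊕ Fin m)) F) :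
          Matrix (Unit ⊕ (Fin m ⊕ Fin m)) (Unit ⊕ (Fin m ⊕ Fin m)) F) = 1 → g = 1 := by
    intro g h
    apply Subtype.ext
    apply Units.ext
    exact h
  have hgoodOf : ∀ g : ↥(Cfsg.isometryGroup F (Cfsg.quadFormOdd m F)), orderOf g = r →
      GoodP (cycFactors F r) (X - 1) (dual (RingEquiv.refl F)) (2 * m + 1)
        ((g : Matrix.GeneralLinearGroup (Unit ⊕ (Fin m ⊕ Fin m)) F) :
          Matrix (Unit ⊕ (Fin m ⊕ Fin m)) (Unit ⊕ (Fin m ⊕ Fin m)) F).charpoly ∧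
      ((g : Matrix.GeneralLinearGroup (Unit ⊕ (Fin m ⊕ Fin m)) F) :
          Matrix (Unit ⊕ (Fin m ⊕ Fin m)) (Unit ⊕ (Fin m ⊕ Fin m)) F).charpoly ≠
        (X - 1) ^ (2 * m + 1) := by
    intro g ho
    have hgr : ((g : Matrix.GeneralLinearGroup (Unit ⊕ (Fin m ⊕ Fin m)) F) :
          Matrix (Unit ⊕ (Fin m ⊕ Fin m)) (Unit ⊕ (Fin m ⊕ Fin m)) F) ^ r = 1 := by
      rw [← hpow, ← ho, pow_orderOf_eq_one]
      rfl
    refine ⟨⟨Matrix.charpoly_monic _, ?_, ?_, hdual g⟩, ?_⟩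
    · rw [Matrix.charpoly_natDegree_eq_dim, hdim]
    · intro P hPm hPi hd
      exact good_charpoly' r hr _ hgr P hPm hPi hd
    · intro hc
      have h1 := eq_one_of_charpoly' p _ r hcop hgr (2 * m + 1) hc
      have h2' := hone g h1
      rw [h2', orderOf_one] at ho
      exact hr.ne_one ho.symm
  let Φ : {C : ConjClasses ↥(Cfsg.isometryGroup F (Cfsg.quadFormOdd m F)) //
      ∃ g : ↥(Cfsg.isometryGroup F (Cfsg.quadFormOdd m F)),
        ConjClasses.mk g = C ∧ orderOf g = r} →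
      {f : F[X] // GoodP (cycFactors F r) (X - 1) (dual (RingEquiv.refl F)) (2 * m + 1) f ∧
        f ≠ (X - 1) ^ (2 * m + 1)} :=
    fun C => ⟨cpO C.1, by
      obtain ⟨g, hg, ho⟩ := C.2
      rw [← hg, cpO_mk]
      exact hgoodOf g ho⟩
  apply Nat.card_congr
  apply Equiv.ofBijective Φ
  constructor
  · rintro ⟨C₁, g₁, rfl, h₁⟩ ⟨C₂, g₂, rfl, h₂⟩ h
    apply Subtype.ext
    have hc : ((g₁ : Matrix.GeneralLinearGroup (Unit ⊕ (Fin m ⊕ Fin m)) F) :
          Matrix (Unit ⊕ (Fin m ⊕ Fin m)) (Unit ⊕ (Fin m ⊕ Fin m)) F).charpoly =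
        ((g₂ : Matrix.GeneralLinearGroup (Unit ⊕ (Fin m ⊕ Fin m)) F) :
          Matrix (Unit ⊕ (Fin m ⊕ Fin m)) (Unit ⊕ (Fin m ⊕ Fin m)) F).charpoly :=
      congrArg Subtype.val h
    show ConjClasses.mk g₁ = ConjClasses.mk g₂
    rw [ConjClasses.mk_eq_mk_iff_isConj]
    exact isConj_of_charpoly p h2 m r hodd hcop g₁ g₂ h₁ h₂ hc
  · rintro ⟨f, ⟨hm, hn, hgood, hd⟩, hne⟩
    have h0 : f.coeff 0 ≠ 0 := by
      intro h0
      have hX : (X : F[X]) ∣ f := X_dvd_iff.mpr h0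
      have hXT := hgood X monic_X irreducible_X hX
      rw [mem_T_iff r hr X monic_X irreducible_X, X_dvd_iff] at hXT
      simp at hXT
      rw [if_neg hr.ne_zero.symm] at hXT
      simp at hXT
    obtain ⟨h, rfl⟩ := OrthOrd.X_sub_one_dvd h2 r hr hr2 f hm m hn hgood h0 hd
    have hX1 : (X - 1 : F[X]) = X - C 1 := by rw [map_one]
    have hXm : (X - 1 : F[X]).Monic := by
      rw [hX1]
      exact monic_X_sub_C 1
    have hXne : (X - 1 : F[X]) ≠ 0 := hXm.ne_zero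
    have hhm : h.Monic := hXm.of_mul_monic_left hm
    have hhn : h.natDegree = 2 * m := by
      rw [hXm.natDegree_mul hhm, hX1, natDegree_X_sub_C] at hn
      omega
    have hhgood : ∀ P : F[X], P.Monic → Irreducible P → P ∣ h →
        P ∈ insert (X - 1 : F[X]) (cycFactors F r) :=
      fun P hPm hPi hPd => hgood P hPm hPi (hPd.mul_left _)
    have hh0 : h.coeff 0 ≠ 0 := by
      intro h0'
      apply h0
      rw [mul_coeff_zero, h0', mul_zero]
    have hhd : dual (RingEquiv.refl F) h = h := by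
      rw [dual_mul, dual_X_sub_one] at hd
      exact mul_left_cancel₀ hXne hd
    have hrev := Cfsg.Agent.S2645.reverse_eq_of_dual r hr hr2 h hhm m hhn hhgood hh0 hhd
    obtain ⟨g₀, hg₀⟩ := Cfsg.Agent.S2645.exists_sp_of_palindromic m h hhm hhn hrev
    obtain ⟨s, hs, hsc'⟩ := exists_pprime_part p g₀
    have hsc : (s : Matrix (Fin m ⊕ Fin m) (Fin m ⊕ Fin m) F).charpoly = h := hsc'.trans hg₀
    have hsk : (s : Matrix (Fin m ⊕ Fin m) (Fin m ⊕ Fin m) F) ^ orderOf s = 1 := by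
      have : ((s ^ orderOf s : symplecticGroup (Fin m) F) :
          Matrix (Fin m ⊕ Fin m) (Fin m ⊕ Fin m) F) =
          (s : Matrix (Fin m ⊕ Fin m) (Fin m ⊕ Fin m) F) ^ orderOf s := rfl
      rw [← this, pow_orderOf_eq_one]
      rfl
    obtain ⟨ε, hε⟩ := exists_expProd _ (2 * m) h hhn hhm hhgood
    have hdvd : h ∣ (X ^ r - 1) ^ (∑ P ∈ insert (X - 1 : F[X]) (cycFactors F r), ε P) := by
      rw [hε]
      exact expProd_dvd_pow _ ε _ fun P hP => (mem_T_iff r hr P (hT P hP).1 (hT P hP).2).mp hP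
    have hsr : (s : Matrix (Fin m ⊕ Fin m) (Fin m ⊕ Fin m) F) ^ r = 1 :=
      pow_eq_one_of_charpoly p _ (orderOf s) hs hsk r _ (by rw [hsc]; exact hdvd)
    obtain ⟨A, hA1, hA2, hA3⟩ := OrthOrd.exists_orth_of_sp h2 m r hodd hrF
      (s : Matrix (Fin m ⊕ Fin m) (Fin m ⊕ Fin m) F) s.2 hsr
    have hrpos : 0 < r := hr.pos
    let Au : Matrix.GeneralLinearGroup (Unit ⊕ (Fin m ⊕ Fin m)) F :=
      ⟨A, A ^ (r - 1), by rw [← pow_succ', Nat.sub_add_cancel hrpos, hA3],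
        by rw [← pow_succ, Nat.sub_add_cancel hrpos, hA3]⟩
    have hAmem : Au ∈ Cfsg.isometryGroup F (Cfsg.quadFormOdd m F) := by
      intro u _
      exact hA1 u
    let g : ↥(Cfsg.isometryGroup F (Cfsg.quadFormOdd m F)) := ⟨Au, hAmem⟩
    have hgA : ((g : Matrix.GeneralLinearGroup (Unit ⊕ (Fin m ⊕ Fin m)) F) :
          Matrix (Unit ⊕ (Fin m ⊕ Fin m)) (Unit ⊕ (Fin m ⊕ Fin m)) F) = A := rfl
    have hgr : g ^ r = 1 := by
      apply hone
      rw [hpow, hgA, hA3]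
    have hg1 : g ≠ 1 := by
      intro h1
      apply hne
      rw [← hsc, ← hA2, ← hgA, h1]
      show (1 : Matrix (Unit ⊕ (Fin m ⊕ Fin m)) (Unit ⊕ (Fin m ⊕ Fin m)) F).charpoly = _
      rw [Matrix.charpoly_one, hdim]
    have : Fact r.Prime := ⟨hr⟩
    have ho : orderOf g = r := orderOf_eq_prime hgr hg1
    refine ⟨⟨ConjClasses.mk g, g, rfl, ho⟩, ?_⟩
    apply Subtype.ext
    show cpO (ConjClasses.mk g) = (X - 1) * h
    rw [cpO_mk, hgA, hA2, hsc]

end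

/-- Number of conjugacy classes of elements of odd prime order r ≠ p in the orthogonal group O_(2m+1)(q) of x_0² + Σ x_j y_j, q odd: with i the multiplicative order of q mod r and t = (r − 1)/i, there are C(⌊m/i⌋ + t/2, t/2) − 1 classes if i is odd (dual pairs of totally singular i-blocks) and C(⌊(2m+1)/i⌋ + t, t) − 1 if i is even (elliptic i-blocks). -/
theorem result {F : Type*} [Field F] [Fintype F] {p q : ℕ} [Fact p.Prime] [CharP F p] (hF : Fintype.card F = q) (hq : Odd q) (m r i t : ℕ) (hr : r.Prime) (hr2 : r ≠ 2) (hrp : r ≠ p) (hi : i = orderOf (q : ZMod r)) (ht : t * i = r - 1) : Nat.card {C : ConjClasses ↥(Cfsg.isometryGroup F (Cfsg.quadFormOdd m F)) // ∃ g : ↥(Cfsg.isometryGroup F (Cfsg.quadFormOdd m F)), ConjClasses.mk g = C ∧ orderOf g = r} = if Odd i then Nat.choose (m / i + t / 2) (t / 2) - 1 else Nat.choose ((2 * m + 1) / i + t) t - 1 := by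
  classical
  have : Fact r.Prime := ⟨hr⟩
  have hp : p.Prime := Fact.out
  have h2 : (2 : F) ≠ 0 := by
    apply Ring.two_ne_zero
    intro h
    have := FiniteField.even_card_of_char_two h
    rw [hF] at this
    rw [← Nat.not_even_iff_odd] at hq
    exact hq (Nat.even_iff.mpr this)
  rw [card_classes p h2 m r hr hr2 hrp]
  obtain ⟨f', -, hf'⟩ := FiniteField.card F p
  have hσ : ∀ a : F, (RingEquiv.refl F) a = a ^ (p ^ 0) := by
    intro a
    rw [pow_zero, pow_one]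
    rfl
  have hpr : ((p : ℕ) : ZMod r) ≠ 0 := by
    intro h
    rw [ZMod.natCast_eq_zero_iff] at h
    exact hrp ((Nat.prime_dvd_prime_iff_eq hr hp).mp h)
  have hq0 : ((q : ℕ) : ZMod r) ≠ 0 := by
    rw [← hF, hf', Nat.cast_pow]
    exact pow_ne_zero _ hpr
  have hipos : 0 < i := by
    rw [hi]
    exact orderOf_pos_of_ne_zero r _ hq0
  have hdegi : orderOf ((Fintype.card F : ℕ) : ZMod r) = i := by
    rw [hF, hi]
  have hP₀ : (X - 1 : F[X]) ∉ cycFactors F r := X_sub_one_notMem p r hr hrp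
  have hT := T_monic_irreducible (F := F) r
  have hd0 : (X - 1 : F[X]).natDegree = 1 := by
    have : (X - 1 : F[X]) = X - C 1 := by rw [map_one]
    rw [this, natDegree_X_sub_C]
  have hdS : ∀ P ∈ cycFactors F r, P.natDegree = i := fun P hP => by
    rw [← hdegi]
    exact natDegree_of_mem_cycFactors p r hr hrp P hP
  have hcard : (cycFactors F r).card = t := by
    have h1 := card_cycFactors (F := F) p r hr hrp
    rw [hdegi] at h1
    exact Nat.eq_of_mul_eq_mul_right hipos (h1.trans ht.symm)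
  have hstar_mem : ∀ P ∈ cycFactors F r, dual (RingEquiv.refl F) P ∈ cycFactors F r :=
    fun P hP => dual_mem p r hr hrp 0 (RingEquiv.refl F) hσ P hP
  have hstar_star : ∀ P ∈ cycFactors F r,
      dual (RingEquiv.refl F) (dual (RingEquiv.refl F) P) = P := by
    intro P hP
    exact dual_dual (RingEquiv.refl F) (fun a => rfl) ((mem_cycFactors r P).mp hP).2.1
      (coeff_zero_ne_of_mem r hr P hP)
  have hcrit : ∀ P ∈ cycFactors F r, (dual (RingEquiv.refl F) P = P ↔ Even i) := by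
    intro P hP
    rw [dual_eq_iff p r hr hrp 0 (RingEquiv.refl F) hσ P hP, hF, pow_zero, Nat.cast_one, hi]
    exact exists_pow_eq_neg_one_iff r hr2 _ hq0
  by_cases hodd : Odd i
  · rw [if_pos hodd]
    have hfpf : ∀ P ∈ cycFactors F r, dual (RingEquiv.refl F) P ≠ P := fun P hP h =>
      (Nat.not_even_iff_odd.mpr hodd) ((hcrit P hP).mp h)
    have hdiv : (2 * m + 1) / (2 * i) = m / i := by
      rw [← Nat.div_div_eq_div_mul]
      congr 1
      omega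
    rw [card_free (cycFactors F r) (X - 1) (dual (RingEquiv.refl F)) i hP₀ hT hd0 hdS hipos
      (dual_mul (RingEquiv.refl F)) (dual_one (RingEquiv.refl F))
      (dual_X_sub_one (RingEquiv.refl F)) hstar_mem hstar_star hfpf (2 * m + 1), hcard, hdiv]
  · rw [if_neg hodd]
    have heven : Even i := Nat.not_odd_iff_even.mp hodd
    have hfix : ∀ P ∈ cycFactors F r, dual (RingEquiv.refl F) P = P :=
      fun P hP => (hcrit P hP).mpr heven
    rw [card_fixed (cycFactors F r) (X - 1) (dual (RingEquiv.refl F)) i hP₀ hT hd0 hdS hipos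
      (dual_mul (RingEquiv.refl F)) (dual_one (RingEquiv.refl F))
      (dual_X_sub_one (RingEquiv.refl F)) hfix (2 * m + 1), hcard]

end Cfsg.Agent.S2673
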