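import Cfsg.Statements.S2675
import Cfsg.Agent.Lib.Helper14.OrthEven3

set_option autoImplicit false
open Cfsg

namespace Cfsg.Agent.S2675

open Polynomial Matrix
open Cfsg.Agent.Lib.Helper14 Cfsg.Agent.Lib.Helper14.OrdCount Cfsg.Agent.Lib.Helper14.OrthEven
open Cfsg.Agent.Lib.Helper14.HCount (dual dual_mul dual_dual)
open Cfsg.Agent.S2568 (cycFactors mem_cycFactors mem_T_iff T_monic_irreducible X_sub_one_notMem
  card_cycFactors natDegree_of_mem_cycFactors)

/-- Number of conjugacy classes of elements of odd prime order r ≠ p in the orthogonal group O⁻_2m(q) of an elliptic form Σ_(j<m−1) x_j y_j + z₁² + a z₁z₂ + c z₂² (binary part anisotropic, m ≥ 1): with i the multiplicative order of q mod r and t = (r − 1)/i — if i is odd, C(⌊m/i⌋ + t/2, t/2) − 1 minus, when i divides m, the C(m/i + t/2 − 1, t/2 − 1) tuples filling the whole space (dual pairs of totally singular blocks fill a hyperbolic space); if i is even, C(⌊2m/i⌋ + t, t) − 1 minus, when i divides 2m with even quotient, the C(2m/i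 + t − 1, t − 1) tuples filling the whole space with an even number of elliptic blocks. -/
theorem result {F : Type*} [Field F] [Fintype F] {p q : ℕ} [Fact p.Prime] [CharP F p] (hF : Fintype.card F = q) (m r i t : ℕ) (hm : 1 ≤ m) (a c : F) (hac : ∀ z₁ z₂ : F, z₁ ^ 2 + a * z₁ * z₂ + c * z₂ ^ 2 = 0 → z₁ = 0 ∧ z₂ = 0) (hr : r.Prime) (hr2 : r ≠ 2) (hrp : r ≠ p) (hi : i = orderOf (q : ZMod r)) (ht : t * i = r - 1) : Nat.card {C : ConjClasses ↥(Cfsg.isometryGroup F (Cfsg.quadFormMinus (m - 1) F a c)) // ∃ g : ↥(Cfsg.isometryGroup F (Cfsg.quadFormMinus (m - 1) F a c)), ConjClasses.mk g = C ∧ orderOf g = r} = if Odd i then Nat.choose (m / i + t / 2) (t / 2) - 1 - (if i ∣ m then Nat.choose (m / i + t / 2 - 1) (t / 2 - 1) else 0) else Nat.choose (2 * m / i + t) t - 1 - (if i ∣ 2 * m ∧ Even (2 * m / i) then Nat.choose (2 * m / i + t - 1) (t - 1) else 0) := by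
  classical
  have : Fact r.Prime := ⟨hr⟩
  have hp : p.Prime := Fact.out
  have hoddr : Odd r := hr.odd_of_ne_two hr2
  obtain ⟨f', -, hf'⟩ := FiniteField.card F p
  have hrq : ¬ r ∣ Fintype.card F := by
    intro hd
    rw [hf'] at hd
    have h1 := hr.dvd_of_dvd_pow hd
    exact hrp ((Nat.prime_dvd_prime_iff_eq hr hp).1 h1)
  have hrF : (r : F) ≠ 0 := by
    intro h0
    have := (CharP.cast_eq_zero_iff F p r).1 h0
    exact hrp ((Nat.prime_dvd_prime_iff_eq hp hr).1 this).symm
  have hcardι : Fintype.card ((Fin (m - 1) ⊕ Fin (m - 1)) ⊕ Fin 2) = 2 * m := by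
    rw [Fintype.card_sum, Fintype.card_sum, Fintype.card_fin, Fintype.card_fin]
    omega
  have hsgn : HasSign (Cfsg.quadFormMinus (m - 1) F a c) m (-1) := by
    have h1 := hasSign_minus (m - 1) a c hac
    rw [Nat.sub_add_cancel hm] at h1
    exact h1
  rw [card_classes_even p (Cfsg.quadFormMinus (m - 1) F a c)
    (Cfsg.Agent.Lib.Helper15.Qgen (m - 1) (Cfsg.Agent.Lib.Helper15.binForm a c))
    (Qgen_binForm_apply (m - 1) a c) (nondegenerate_Qgen_binForm (m - 1) a c hac) m
    hcardι (-1) hsgn r hr hr2 hrp (by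
      intro s hs hsr hs1 hyp
      rw [Int.cast_neg, Int.cast_one] at hyp
      exact (exists_even_of_sp hoddr hrq hrF m s hs hsr hs1).2 a c hac hyp)]
  have hσ : ∀ a : F, (RingEquiv.refl F) a = a ^ (p ^ 0) := by
    intro a
    rw [pow_zero, pow_one]
    rfl
  have hpr : ((p : ℕ) : ZMod r) ≠ 0 := by
    intro h
    rw [ZMod.natCast_eq_zero_iff] at h
    exact hrp ((Nat.prime_dvd_prime_iff_eq hr hp).mp h)
  have hq0 : ((q : ℕ) : ZMod r) ≠ 0 := by
    rw [← hF, hf', Nat.cast_pow]
    exact pow_ne_zero _ hpr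
  have hipos : 0 < i := by
    rw [hi]
    exact orderOf_pos_of_ne_zero r _ hq0
  have hdegi : orderOf ((Fintype.card F : ℕ) : ZMod r) = i := by
    rw [hF, hi]
  have hP₀ : (X - 1 : F[X]) ∉ cycFactors F r := X_sub_one_notMem p r hr hrp
  have hT := T_monic_irreducible (F := F) r
  have hd0 : (X - 1 : F[X]).natDegree = 1 := by
    have : (X - 1 : F[X]) = X - C 1 := by rw [map_one]
    rw [this, natDegree_X_sub_C]
  have hdS : ∀ P ∈ cycFactors F r, P.natDegree = i := fun P hP => by
    rw [← hdegi]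
    exact natDegree_of_mem_cycFactors p r hr hrp P hP
  have hcard : (cycFactors F r).card = t := by
    have h1 := card_cycFactors (F := F) p r hr hrp
    rw [hdegi] at h1
    exact Nat.eq_of_mul_eq_mul_right hipos (h1.trans ht.symm)
  have hstar_mem : ∀ P ∈ cycFactors F r, dual (RingEquiv.refl F) P ∈ cycFactors F r :=
    fun P hP => dual_mem p r hr hrp 0 (RingEquiv.refl F) hσ P hP
  have hstar_star : ∀ P ∈ cycFactors F r,
      dual (RingEquiv.refl F) (dual (RingEquiv.refl F) P) = P := by
    intro P hP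
    exact dual_dual (RingEquiv.refl F) (fun a => rfl) ((mem_cycFactors r P).mp hP).2.1
      (coeff_zero_ne_of_mem r hr P hP)
  have hcrit : ∀ P ∈ cycFactors F r, (dual (RingEquiv.refl F) P = P ↔ Even i) := by
    intro P hP
    rw [dual_eq_iff p r hr hrp 0 (RingEquiv.refl F) hσ P hP, hF, pow_zero, Nat.cast_one, hi]
    exact exists_pow_eq_neg_one_iff r hr2 _ hq0
  have hXm : (X - 1 : F[X]).Monic := (hT _ (Finset.mem_insert_self _ _)).1
  have hXi : Irreducible (X - 1 : F[X]) := (hT _ (Finset.mem_insert_self _ _)).2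
  have h2m : 1 ≤ 2 * m := by omega
  rw [card_good_cond (cycFactors F r) (X - 1) (dual (RingEquiv.refl F)) hXm hXi hd0
    (dual_mul (RingEquiv.refl F)) (dual_X_sub_one (RingEquiv.refl F)) (2 * m) h2m]
  have hcond : ((Fintype.card F : ℕ) : ZMod r) ^ m = ((-1 : ℤ) : ZMod r) ↔
      (i ∣ 2 * m ∧ ¬ i ∣ m) := by
    rw [Int.cast_neg, Int.cast_one, ← hdegi, orderOf_dvd_iff_pow_eq_one,
      orderOf_dvd_iff_pow_eq_one]
    constructor
    · intro h
      constructor
      · rw [mul_comm, pow_mul, h, neg_one_sq]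
      · rw [h]
        exact fun h1 => one_ne_neg_one_zmod hoddr h1.symm
    · rintro ⟨h1, h2⟩
      rw [mul_comm, pow_mul] at h1
      rw [sq] at h1
      rcases mul_self_eq_one_iff.1 h1 with h3 | h3
      · exact absurd h3 h2
      · exact h3
  have ht1 : 1 ≤ t := by
    rcases Nat.eq_zero_or_pos t with h0 | h0
    · rw [h0, zero_mul] at ht
      have := hr.two_le
      omega
    · exact h0
  by_cases hodd : Odd i
  · rw [if_pos hodd]
    have hfpf : ∀ P ∈ cycFactors F r, dual (RingEquiv.refl F) P ≠ P := fun P hP h =>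
      (Nat.not_even_iff_odd.mpr hodd) ((hcrit P hP).mp h)
    have hdvd2 : i ∣ 2 * m ↔ i ∣ m := by
      constructor
      · intro h
        exact Nat.Coprime.dvd_of_dvd_mul_left (Nat.coprime_two_right.2 hodd) h
      · intro h
        exact h.mul_left 2
    have ht2 : 1 ≤ t / 2 := by
      have hev : Even (t * i) := by
        rw [ht]
        obtain ⟨k, hk⟩ := hoddr
        exact ⟨k, by omega⟩
      have htev : Even t := by
        rcases Nat.even_mul.1 hev with h | h
        · exact h
        · exact absurd h (Nat.not_even_iff_odd.2 hodd)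
      obtain ⟨k, hk⟩ := htev
      omega
    by_cases hc : i ∣ m
    · have hN1 : 1 ≤ m / i := Nat.div_pos (Nat.le_of_dvd (by omega) hc) hipos
      rw [if_neg (fun h => (hcond.1 h).2 hc), if_pos hc,
        card_free (cycFactors F r) (X - 1) (dual (RingEquiv.refl F)) i hP₀ hT hd0 hdS hipos
        (dual_mul (RingEquiv.refl F)) (dual_one (RingEquiv.refl F))
        (dual_X_sub_one (RingEquiv.refl F)) hstar_mem hstar_star hfpf (2 * m - 1), hcard,
        pred_div (2 * m) (2 * i) h2m (by omega),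
        if_pos ((Nat.mul_dvd_mul_iff_left two_pos).2 hc),
        Nat.mul_div_mul_left m i two_pos, choose_pascal_sub _ _ hN1 ht2]
    · rw [if_neg (fun h => hc (hdvd2.1 (hcond.1 h).1)), if_neg hc, Nat.sub_zero,
        card_free (cycFactors F r) (X - 1) (dual (RingEquiv.refl F)) i hP₀ hT hd0 hdS hipos
        (dual_mul (RingEquiv.refl F)) (dual_one (RingEquiv.refl F))
        (dual_X_sub_one (RingEquiv.refl F)) hstar_mem hstar_star hfpf (2 * m - 1), hcard,
        pred_div (2 * m) (2 * i) h2m (by omega),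
        if_neg (fun h => hc ((Nat.mul_dvd_mul_iff_left two_pos).1 h)),
        Nat.mul_div_mul_left m i two_pos]
  · rw [if_neg hodd]
    have heven : Even i := Nat.not_odd_iff_even.mp hodd
    have hfix : ∀ P ∈ cycFactors F r, dual (RingEquiv.refl F) P = P :=
      fun P hP => (hcrit P hP).mpr heven
    by_cases hc : i ∣ 2 * m ∧ ¬ i ∣ m
    · have hoddq := odd_div_of_dvd_two_mul hipos hc.1 hc.2
      rw [if_pos (hcond.2 hc),
        card_fixed (cycFactors F r) (X - 1) (dual (RingEquiv.refl F)) i hP₀ hT hd0 hdS hipos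
        (dual_mul (RingEquiv.refl F)) (dual_one (RingEquiv.refl F))
        (dual_X_sub_one (RingEquiv.refl F)) hfix (2 * m), hcard,
        if_neg (fun h => (Nat.not_even_iff_odd.2 hoddq) h.2), Nat.sub_zero]
    · rw [if_neg (fun h => hc (hcond.1 h)),
        card_fixed (cycFactors F r) (X - 1) (dual (RingEquiv.refl F)) i hP₀ hT hd0 hdS hipos
        (dual_mul (RingEquiv.refl F)) (dual_one (RingEquiv.refl F))
        (dual_X_sub_one (RingEquiv.refl F)) hfix (2 * m - 1), hcard,
        pred_div (2 * m) i h2m hipos]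
      by_cases hd2 : i ∣ 2 * m
      · have hdm : i ∣ m := by
          by_contra h
          exact hc ⟨hd2, h⟩
        have hev := even_div_of_dvd hipos hdm
        have hN1 : 1 ≤ 2 * m / i := Nat.div_pos (Nat.le_of_dvd (by omega) hd2) hipos
        rw [if_pos hd2, if_pos ⟨hd2, hev⟩, choose_pascal_sub _ _ hN1 ht1]
      · rw [if_neg hd2, if_neg (fun h => hd2 h.1), Nat.sub_zero]

end Cfsg.Agent.S2675
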