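-- Statement S2689
import Cfsg.Statements.S2689
import Mathlib
import Cfsg.Agent.Lib.Helper6.AutPSL7

set_option autoImplicit false
open Cfsg

namespace Cfsg.Agent.S2689

/-- The automorphism group of a simple projective special linear group PSL_n(F) over a finite field (n ≥ 2; |F| ≥ 4 when n = 2) is generated by the automorphisms induced by invertible semilinear maps of F^n (the image of the projective semilinear group) together with the inverse-transpose automorphism. -/
theorem result {F : Type*} [Field F] [Fintype F] {p f : ℕ} [Fact p.Prime] (hF : Fintype.card F = p ^ f) (hf : 1 ≤ f) {n : ℕ} (hn : 2 ≤ n) (hs : n = 2 → 4 ≤ Fintype.card F) :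
    Cfsg.gammaPSL n F ⊔ Cfsg.autSubgroupOf (fun β : Matrix.ProjectiveSpecialLinearGroup (Fin n) F ≃* Matrix.ProjectiveSpecialLinearGroup (Fin n) F => Cfsg.IsInverseTransposeAutPSL β) = ⊤ := by
  open Cfsg.Agent.Lib.Helper6.AutPSL in
  rw [eq_top_iff]
  intro β _
  have key : ∃ (g : GL (Fin n) F) (τ : F ≃+* F)
      (γ : MulAut (Matrix.ProjectiveSpecialLinearGroup (Fin n) F)),
      (γ = 1 ∨ γ = tP) ∧ β = cP g * fP τ * γ := by
    rcases Nat.lt_or_ge n 3 with h | h
    · obtain rfl : n = 2 := by omega
      obtain ⟨g, τ, e⟩ := aut_psl_two hF hf β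
      exact ⟨g, τ, 1, Or.inl rfl, by rw [mul_one, e]⟩
    · obtain ⟨m, rfl⟩ : ∃ m, n = m + 3 := ⟨n - 3, by omega⟩
      exact aut_psl_ge3 hF hf m β
  obtain ⟨g, τ, γ, hγ, e⟩ := key
  rw [e]
  apply Subgroup.mul_mem_sup
  · apply Subgroup.subset_closure
    exact ⟨g, τ, isInducedBySemilinear g τ⟩
  · rcases hγ with rfl | rfl
    · exact one_mem _
    · apply Subgroup.subset_closure
      exact isInvTranspose_tP

end Cfsg.Agent.S2689
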