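import Cfsg.Statements.S2697
import Cfsg.Agent.Lib.Helper16.GraphFieldCoset

set_option autoImplicit false
open Cfsg

namespace Cfsg.Agent.S2697

/-- Let T = PSL_n(F) be simple over a finite field (n ≥ 2; |F| ≥ 4 when n = 2) and let x be a field automorphism or a graph-field automorphism of T of prime order r. Then an element y of the coset Inndiag(T)·x (that is, y = δ x with δ in the inner-diagonal group, the image of PGL_n(F)) has order r if and only if y is conjugate to x by an element of Inndiag(T). -/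
theorem result {F : Type*} [Field F] [Fintype F] {p f : ℕ} [Fact p.Prime] (hF : Fintype.card F = p ^ f) (hf : 1 ≤ f) {n : ℕ} (hn : 2 ≤ n) (hs : n = 2 → 4 ≤ Fintype.card F) (x δ : MulAut (Matrix.ProjectiveSpecialLinearGroup (Fin n) F)) (hx : Cfsg.IsFieldAutClassPSL x ∨ Cfsg.IsGraphFieldAutClassPSL x) {r : ℕ} (hr : r.Prime) (hxr : orderOf x = r) (hδ : δ ∈ Cfsg.inndiagPSL n F) :
    orderOf (δ * x) = r ↔ Cfsg.IsConjUnder (Cfsg.inndiagPSL n F) x (δ * x) := by
  open Cfsg.Agent.Lib.Helper6.AutPSL Cfsg.Agent.Lib.Helper16.FieldCoset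
    Cfsg.Agent.Lib.Helper16.GraphFieldCoset in
  rw [inndiag_eq_range] at hδ ⊢
  obtain ⟨g, rfl⟩ := hδ
  constructor
  · intro hord
    have key : ∃ α : MulAut (Matrix.ProjectiveSpecialLinearGroup (Fin n) F),
        ∀ g' : GL (Fin n) F, orderOf (cP g' * (α * x * α⁻¹)) = r →
          ∃ h : GL (Fin n) F, cP g' * (α * x * α⁻¹) = cP h * (α * x * α⁻¹) * (cP h)⁻¹ := by
      rcases hx with ⟨α, σ, hσ, hstd⟩ | ⟨hn3, α, φ, γ, σ, hσ, hφ, hγ, e⟩
      · refine ⟨α, fun g' hg' => ?_⟩
        have e := eq_fP_of_isStd σ _ hstd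
        have hord0 : orderOf (fP σ : MulAut (Matrix.ProjectiveSpecialLinearGroup (Fin n) F)) = r := by
          rw [← e, orderOf_conj', hxr]
        rw [e] at hg' ⊢
        exact core_field hn σ r hr.pos hord0 g' hg'
      · refine ⟨α, fun g' hg' => ?_⟩
        have e1 := eq_fP_of_isStd σ φ hφ
        have e2 := eq_tP_of_isInvT γ hγ
        have hord0 : orderOf (fP σ * tP : MulAut (Matrix.ProjectiveSpecialLinearGroup (Fin n) F)) = r := by
          rw [← e1, ← e2, ← e, orderOf_conj', hxr]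
        rw [e, e1, e2] at hg' ⊢
        exact core_gf hn3 σ hσ r hr hord0 g' hg'
    obtain ⟨α, hα⟩ := key
    obtain ⟨g', hg'⟩ := conj_cP hF hf hn α g
    have hord' : orderOf (cP g' * (α * x * α⁻¹)) = r := by
      have e : cP g' * (α * x * α⁻¹) = α * (cP g * x) * α⁻¹ := by rw [← hg']; group
      rw [e, orderOf_conj', hord]
    obtain ⟨h, hh⟩ := hα g' hord'
    obtain ⟨h', hh'⟩ := conj_cP hF hf hn α⁻¹ h
    refine ⟨cP h', ⟨h', rfl⟩, ?_⟩
    have e : cP g * x = α⁻¹ * (cP g' * (α * x * α⁻¹)) * α := by rw [← hg']; group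
    rw [e, hh, ← hh']
    group
  · rintro ⟨h, -, e⟩
    rw [e, orderOf_conj', hxr]

end Cfsg.Agent.S2697
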