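import Cfsg.Statements.S2704
import Cfsg.Agent.Lib.Helper16.GraphFieldCentPSL

set_option autoImplicit false
open Cfsg

namespace Cfsg.Agent.S2704

/-- Let T = PSL_n(F) over the field F with p^f elements, n ≥ 3, and G = Inndiag(T) the image of PGL_n(F). If x is an involutory graph-field automorphism of T then f is even; x is G-conjugate to every other involutory graph-field automorphism; C_G(x) is isomorphic to the projective general unitary group PGU_n(q₀) with q₀² = p^f, realised over F itself through the Hermitian form Σ uᵢ vᵢ^{q₀}; and the G-class of x is the union of exactly gcd(n, q₀ − 1) T-classes. -/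
theorem result {F : Type*} [Field F] [Fintype F] {p f : ℕ} [Fact p.Prime] (hF : Fintype.card F = p ^ f) (hf : 1 ≤ f) {n : ℕ} (hn : 3 ≤ n) (x : MulAut (Matrix.ProjectiveSpecialLinearGroup (Fin n) F)) (hx : Cfsg.IsGraphFieldAutClassPSL x) (hx2 : orderOf x = 2) :
    Even f ∧ (∀ y : MulAut (Matrix.ProjectiveSpecialLinearGroup (Fin n) F), Cfsg.IsGraphFieldAutClassPSL y → orderOf y = 2 → Cfsg.IsConjUnder (Cfsg.inndiagPSL n F) x y) ∧ Nonempty (↥(Cfsg.inndiagPSL n F ⊓ Subgroup.centralizer {x}) ≃* Cfsg.PGU n F (p ^ (f / 2))) ∧ Cfsg.splitClassCount (Cfsg.inndiagPSL n F) (Cfsg.Inn (Matrix.ProjectiveSpecialLinearGroup (Fin n) F)) x = Nat.gcd n (p ^ (f / 2) - 1) := by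
  open Cfsg.Agent.Lib.Helper6.AutPSL Cfsg.Agent.Lib.Helper16.FieldCoset
    Cfsg.Agent.Lib.Helper16.GraphFieldCoset Cfsg.Agent.Lib.Helper16.GraphFieldCentPSL
    Cfsg.Agent.Lib.Helper16.SplitCount Cfsg.Agent.Lib.Helper16.FieldCosetPSU in
  have h3 : 3 ≤ Fintype.card (Fin n) := card_fin_ge hn
  have hn2 : 2 ≤ n := by omega
  -- key: any involutory graph-field automorphism is α⁻¹ * (fP σ * tP) * α with σ of order 2
  have key : ∀ y : MulAut (Matrix.ProjectiveSpecialLinearGroup (Fin n) F),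
      Cfsg.IsGraphFieldAutClassPSL y → orderOf y = 2 →
      ∃ (α : MulAut (Matrix.ProjectiveSpecialLinearGroup (Fin n) F)) (σ : RingAut F),
        orderOf σ = 2 ∧ y = α⁻¹ * (fP σ * tP) * α := by
    rintro y ⟨hn3, α, φ, γ, σ, hσ, hφ, hγ, e⟩ hy2
    have e1 := eq_fP_of_isStd σ φ hφ
    have e2 := eq_tP_of_isInvT γ hγ
    rw [e1, e2] at e
    have hord0 : orderOf (fP σ * tP : MulAut (Matrix.ProjectiveSpecialLinearGroup (Fin n) F)) = 2 := by
      rw [← e, orderOf_conj', hy2]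
    have hx0 : (fP σ * tP : MulAut (Matrix.ProjectiveSpecialLinearGroup (Fin n) F)) ^ 2 = 1 := by
      rw [← hord0]; exact pow_orderOf_eq_one _
    rw [pow_fP_tP] at hx0
    have hd1 : HasDec (1 : MulAut (Matrix.ProjectiveSpecialLinearGroup (Fin n) F)) (σ ^ 2)
        ((2 : ℕ) : ZMod 2) := ⟨1, by rw [map_one, one_mul, hx0]⟩
    have hd2 : HasDec (1 : MulAut (Matrix.ProjectiveSpecialLinearGroup (Fin n) F)) 1 0 :=
      ⟨1, by rw [map_one, fP_one, tpow_zero, mul_one, mul_one]⟩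
    obtain ⟨hσr, -⟩ := HasDec.unique h3 hd1 hd2
    refine ⟨α, σ, orderOf_eq_prime hσr hσ, ?_⟩
    rw [← e]; group
  obtain ⟨α, σ, hσ2, hxe⟩ := key x hx hx2
  obtain ⟨h2f, hcard⟩ := fixed_field_card hF σ 2 hσ2 (by norm_num)
  have hF' : Fintype.card F = (p ^ (f / 2)) ^ 2 := by
    rw [hF, ← pow_mul, Nat.div_mul_cancel h2f]
  have hσe : σ = tauA hF' := eq_tauA hF' σ hσ2 hcard
  have hτc : ∀ ρ : RingAut F, ρ * tauA hF' = tauA hF' * ρ := fun ρ => by
    apply RingEquiv.ext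
    intro a
    exact (tauA_comm hF' ρ a).symm
  refine ⟨(even_iff_two_dvd).mpr h2f, ?_, ?_, ?_⟩
  · intro y hy hy2
    obtain ⟨β, σ', hσ2', hye⟩ := key y hy hy2
    obtain ⟨-, hcard'⟩ := fixed_field_card hF σ' 2 hσ2' (by norm_num)
    have hσe' : σ' = tauA hF' := eq_tauA hF' σ' hσ2' hcard'
    rw [hσe] at hxe
    rw [hσe'] at hye
    obtain ⟨g₁, hg₁⟩ := conj_w hF hf hn2 (tauA hF') hτc α
    obtain ⟨g₂, hg₂⟩ := conj_w hF hf hn2 (tauA hF') hτc β
    rw [Cfsg.Agent.Lib.Helper16.FieldCoset.inndiag_eq_range]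
    refine ⟨cP g₂ * (cP g₁)⁻¹, ⟨g₂ * g₁⁻¹, by rw [map_mul, map_inv]⟩, ?_⟩
    rw [hye, hg₂, hxe, hg₁]
    group
  · rw [hxe, hσe]
    exact cent_iso_gf hF' hF hf hn2 α
  · rw [hxe, hσe]
    exact split_count_gf hF' hF hf hn2 α

end Cfsg.Agent.S2704
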