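import Cfsg.Statements.S2705
import Cfsg.Agent.Lib.Helper16.FieldCentPSU

set_option autoImplicit false
open Cfsg

namespace Cfsg.Agent.S2705

/-- Let T = PSU_n(q) be simple (n ≥ 3, (n, q) ≠ (3, 2), q = p^f), realised over the field F with q² elements, G = Inndiag(T) the image of PGU_n(q) in Aut(T), and x a field automorphism of T (conjugate to a standard field automorphism of odd order) of odd prime order r. Then r divides f; C_G(x) is isomorphic to PGU_n(q₀) with q₀ = p^(f/r), realised over a field F₀ with q₀² elements; and the G-class of x is the union of exactly gcd(n, (q + 1)/(q₀ + 1)) T-classes. -/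
theorem result {F : Type*} [Field F] [Fintype F] {p f q : ℕ} [Fact p.Prime] (hq : q = p ^ f) (hf : 1 ≤ f) (hF : Fintype.card F = q ^ 2) {n : ℕ} (hn : 3 ≤ n) (hs : ¬ (n = 3 ∧ q = 2)) (x : MulAut (Cfsg.PSU n F q)) (hx : Cfsg.IsFieldAutClassPSU x) {r : ℕ} (hr : r.Prime) (hro : Odd r) (hxr : orderOf x = r) (F₀ : Type*) [Field F₀] [Fintype F₀] (hF₀ : Fintype.card F₀ = p ^ (2 * (f / r))) :
    r ∣ f ∧ Nonempty (↥(Cfsg.inndiagPSU n F q ⊓ Subgroup.centralizer {x}) ≃* Cfsg.PGU n F₀ (p ^ (f / r))) ∧ Cfsg.splitClassCount (Cfsg.inndiagPSU n F q) (Cfsg.Inn (Cfsg.PSU n F q)) x = Nat.gcd n ((q + 1) / (p ^ (f / r) + 1)) := by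
  open Cfsg.Agent.Lib.Helper6.AutPSU Cfsg.Agent.Lib.Helper16 Cfsg.Agent.Lib.Helper16.FieldCoset
    Cfsg.Agent.Lib.Helper16.FieldCosetPSU Cfsg.Agent.Lib.Helper16.SplitCount in
  haveI : CharP F p := charP_of_card_pow (k := f * 2) (by rw [hF, hq, ← pow_mul])
  obtain ⟨α, φ, σ, hσ1, hσodd, hφ, e⟩ := hx
  have e1 := eq_fU_of_isFieldAut σ φ hφ
  have hx' : x = α⁻¹ * fU σ * α := by rw [← e1, ← e]; group
  have hord0 : orderOf (fU σ : MulAut (Cfsg.PSU n F q)) = r := by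
    rw [← e1, ← e, orderOf_conj', hxr]
  have hσord : orderOf σ = r := by
    rw [← hord0, ← fUhom_apply, orderOf_injective fUhom (fUhom_injective p hF hn) σ]
  have hF2 : Fintype.card F = p ^ (2 * f) := by rw [hF, hq, ← pow_mul, mul_comm]
  obtain ⟨hdvd2, -⟩ := fixed_field_card hF2 σ r hσord hr.pos
  have hcop : Nat.Coprime r 2 := Nat.coprime_two_right.mpr hro
  have hdvd : r ∣ f := hcop.dvd_of_dvd_mul_left hdvd2
  have hexp : 2 * f / r = 2 * (f / r) := Nat.mul_div_assoc 2 hdvd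
  obtain ⟨j, hj⟩ := exists_embedding hF2 σ r hσord hr.pos F₀ (by rw [hexp]; exact hF₀)
  have hF₀' : Fintype.card F₀ = (p ^ (f / r)) ^ 2 := by rw [hF₀, ← pow_mul, mul_comm]
  have hqq : q = (p ^ (f / r)) ^ r := by rw [hq, ← pow_mul, Nat.div_mul_cancel hdvd]
  have hjq : ∀ a : F₀, j a ^ q = j (a ^ (p ^ (f / r))) := by
    intro a
    rw [← map_pow, hqq, FieldCentPSU.pow_q_eq hF₀' r hro a]
  have hσodd' : Odd (orderOf σ) := hσodd
  refine ⟨hdvd, ?_, ?_⟩
  · rw [hx']; exact FieldCentPSU.cent_iso p hF hn hs α σ hσodd' hF₀' j hj hjq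
  · rw [hx']; exact FieldCentPSU.split_count p hF hn hs α σ hσodd' hF₀' j hj hjq

end Cfsg.Agent.S2705
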