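import Cfsg.Statements.S2711
import Cfsg.Agent.Lib.Helper16.FieldCosetPSU

set_option autoImplicit false
open Cfsg

namespace Cfsg.Agent.S2711

/-- Let T = PSU_n(q) be simple (n ≥ 3, (n,q) ≠ (3,2)), realised over the field F with q² elements, and let x be a field automorphism of T (conjugate to a standard field automorphism of odd order) of prime order r. Then an element y of the coset Inndiag(T)·x (y = δ x with δ in the image of PGU_n(q)) has order r if and only if y is conjugate to x by an element of Inndiag(T). (T has no graph-field automorphisms.) -/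
theorem result {F : Type*} [Field F] [Fintype F] {p f q : ℕ} [Fact p.Prime] (hq : q = p ^ f) (hf : 1 ≤ f) (hF : Fintype.card F = q ^ 2) {n : ℕ} (hn : 3 ≤ n) (hs : ¬ (n = 3 ∧ q = 2)) (x δ : MulAut (Cfsg.PSU n F q)) (hx : Cfsg.IsFieldAutClassPSU x) {r : ℕ} (hr : r.Prime) (hxr : orderOf x = r) (hδ : δ ∈ Cfsg.inndiagPSU n F q) :
    orderOf (δ * x) = r ↔ Cfsg.IsConjUnder (Cfsg.inndiagPSU n F q) x (δ * x) := by
  open Cfsg.Agent.Lib.Helper6.AutPSU Cfsg.Agent.Lib.Helper16 Cfsg.Agent.Lib.Helper16.FieldCoset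
    Cfsg.Agent.Lib.Helper16.FieldCosetPSU in
  haveI : CharP F p := charP_of_card_pow (k := f * 2) (by rw [hF, hq, ← pow_mul])
  rw [FieldCosetPSU.inndiag_eq_range] at hδ ⊢
  obtain ⟨g, rfl⟩ := hδ
  constructor
  · intro hord
    obtain ⟨α, φ, σ, hσ1, hσodd, hφ, e⟩ := hx
    have e1 := eq_fU_of_isFieldAut σ φ hφ
    have hord0 : orderOf (fU σ : MulAut (Cfsg.PSU n F q)) = r := by
      rw [← e1, ← e, orderOf_conj', hxr]
    obtain ⟨g', hg'⟩ := conj_cU p hF hn hs α g
    have hord' : orderOf (cU g' * (α * x * α⁻¹)) = r := by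
      have e2 : cU g' * (α * x * α⁻¹) = α * (cU g * x) * α⁻¹ := by rw [← hg']; group
      rw [e2, orderOf_conj', hord]
    rw [e, e1] at hord'
    obtain ⟨h, hh⟩ := core_fieldU p hF hn σ r hr.pos hσodd hord0 g' hord'
    obtain ⟨h', hh'⟩ := conj_cU p hF hn hs α⁻¹ h
    refine ⟨cU h', ⟨h', rfl⟩, ?_⟩
    have e3 : cU g * x = α⁻¹ * (cU g' * (α * x * α⁻¹)) * α := by rw [← hg']; group
    rw [e3, e, e1, hh, ← hh', ← e1, ← e]
    group
  · rintro ⟨h, -, e⟩
    rw [e, orderOf_conj', hxr]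

end Cfsg.Agent.S2711
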