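import Cfsg.Statements.S2712
import Cfsg.Agent.Lib.Helper16.FieldCentPSp

set_option autoImplicit false
open Cfsg

namespace Cfsg.Agent.S2712

/-- Let T = PSp_{2m}(F) be simple over the field F with p^f elements (m ≥ 2, (2m, |F|) ≠ (4, 2)), G = Inndiag(T) the image of the projective conformal symplectic group PGSp_{2m}(F), and x a field automorphism of T of prime order r. Then r divides f; C_G(x) is isomorphic to PGSp_{2m}(F₀) for a field F₀ with p^(f/r) elements; and the G-class of x is the union of exactly gcd(gcd(2, p^f − 1), r) T-classes. -/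
theorem result {F : Type*} [Field F] [Fintype F] {p f : ℕ} [Fact p.Prime] (hF : Fintype.card F = p ^ f) (hf : 1 ≤ f) {m : ℕ} (hm : 2 ≤ m) (hs : m = 2 → 3 ≤ Fintype.card F) (x : MulAut (Cfsg.PSp m F)) (hx : Cfsg.IsFieldAutClassPSp x) {r : ℕ} (hr : r.Prime) (hxr : orderOf x = r) (F₀ : Type*) [Field F₀] [Fintype F₀] (hF₀ : Fintype.card F₀ = p ^ (f / r)) :
    r ∣ f ∧ Nonempty (↥(Cfsg.inndiagPSp m F ⊓ Subgroup.centralizer {x}) ≃* Cfsg.PGSp m F₀) ∧ Cfsg.splitClassCount (Cfsg.inndiagPSp m F) (Cfsg.Inn (Cfsg.PSp m F)) x = Nat.gcd (Nat.gcd 2 (p ^ f - 1)) r := by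
  open Cfsg.Agent.Lib.Helper6.AutPSp Cfsg.Agent.Lib.Helper16 Cfsg.Agent.Lib.Helper16.FieldCoset
    Cfsg.Agent.Lib.Helper16.FieldCosetPSp
    Cfsg.Agent.Lib.Helper16.FieldCentPSp Cfsg.Agent.Lib.Helper16.SplitCount in
  haveI : CharP F p := charP_of_card_eq_prime_pow hF
  obtain ⟨α, σ, hσ1, hstd⟩ := hx
  have e := FieldCosetPSp.eq_fP_of_isStd σ _ hstd
  have hx' : x = α⁻¹ * fP σ * α := by rw [← e]; group
  have hord0 : orderOf (fP σ : MulAut (Cfsg.PSp m F)) = r := by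
    rw [← e, orderOf_conj', hxr]
  have hinj : Function.Injective (fPhom : RingAut F →* MulAut (Cfsg.PSp m F)) := by
    rw [injective_iff_map_eq_one]
    intro τ hτ
    have e' : (cPh (1 : ↥(Cfsg.GSp m F)) * fP τ : MulAut (Cfsg.PSp m F)) = 1 := by
      rw [map_one, one_mul]; exact hτ
    exact (cPh_fP_eq_one p (by omega) 1 τ e').1
  have hσord : orderOf σ = r := by
    rw [← hord0, ← fPhom_apply, orderOf_injective fPhom hinj σ]
  obtain ⟨hdvd, -⟩ := fixed_field_card hF σ r hσord hr.pos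
  obtain ⟨j, hj⟩ := exists_embedding hF σ r hσord hr.pos F₀ hF₀
  refine ⟨hdvd, ?_, ?_⟩
  · rw [hx']; exact FieldCentPSp.cent_iso p hm α σ F₀ j hj
  · rw [hx']; exact FieldCentPSp.split_count p hF hf hm α σ r hr.pos hσord

end Cfsg.Agent.S2712
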