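import Cfsg.Statements.S2713
import Cfsg.Agent.Lib.Helper16.FieldCosetPSp

set_option autoImplicit false
open Cfsg

namespace Cfsg.Agent.S2713

/-- Let T = PSp_{2m}(F) be simple over a finite field (m ≥ 2, (2m, |F|) ≠ (4, 2)) and let x be a field automorphism of T of prime order r. Then an element y of the coset Inndiag(T)·x (y = δ x with δ in the image of the projective conformal symplectic group) has order r if and only if y is conjugate to x by an element of Inndiag(T). -/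
theorem result {F : Type*} [Field F] [Fintype F] {m : ℕ} (hm : 2 ≤ m) (hs : m = 2 → 3 ≤ Fintype.card F) (x δ : MulAut (Cfsg.PSp m F)) (hx : Cfsg.IsFieldAutClassPSp x) {r : ℕ} (hr : r.Prime) (hxr : orderOf x = r) (hδ : δ ∈ Cfsg.inndiagPSp m F) :
    orderOf (δ * x) = r ↔ Cfsg.IsConjUnder (Cfsg.inndiagPSp m F) x (δ * x) := by
  open Cfsg.Agent.Lib.Helper6.AutPSp Cfsg.Agent.Lib.Helper16 Cfsg.Agent.Lib.Helper16.FieldCoset
    Cfsg.Agent.Lib.Helper16.FieldCosetPSp in
  obtain ⟨p, hp⟩ := CharP.exists F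
  haveI := hp
  haveI : Fact p.Prime := ⟨CharP.char_is_prime F p⟩
  rw [FieldCosetPSp.inndiag_eq_range] at hδ ⊢
  obtain ⟨g, rfl⟩ := hδ
  constructor
  · intro hord
    obtain ⟨α, σ, hσ1, hstd⟩ := hx
    have e := FieldCosetPSp.eq_fP_of_isStd σ _ hstd
    have hord0 : orderOf (fP σ : MulAut (Cfsg.PSp m F)) = r := by
      rw [← e, orderOf_conj', hxr]
    obtain ⟨g', hg'⟩ := conj_cPh p hm α g
    have hord' : orderOf (cPh g' * (α * x * α⁻¹)) = r := by
      have e2 : cPh g' * (α * x * α⁻¹) = α * (cPh g * x) * α⁻¹ := by rw [← hg']; group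
      rw [e2, orderOf_conj', hord]
    rw [e] at hord'
    obtain ⟨h, hh⟩ := core_fieldSp p hm σ r hr.pos hord0 g' hord'
    obtain ⟨h', hh'⟩ := conj_cPh p hm α⁻¹ h
    refine ⟨cPh h', ⟨h', rfl⟩, ?_⟩
    have e3 : cPh g * x = α⁻¹ * (cPh g' * (α * x * α⁻¹)) * α := by rw [← hg']; group
    rw [e3, e, hh, ← hh', ← e]
    group
  · rintro ⟨h, -, e⟩
    rw [e, orderOf_conj', hxr]

end Cfsg.Agent.S2713
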