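-- Statement S2727
import Cfsg.Statements.S2727
import Mathlib
import Cfsg.Agent.Lib.Helper6.OmegaAut
import Cfsg.Agent.Lib.Helper15.QuadCount6
import Cfsg.Agent.S0791
import Cfsg.Agent.S0294

set_option autoImplicit false
open Cfsg

namespace Cfsg.Agent.S2727

open Cfsg.Agent.Lib.Helper6 Cfsg.Agent.Lib.Helper6.OmegaAut Cfsg.Agent.Lib.Helper15 Cfsg.Agent.S0294

theorem result {F : Type*} [Field F] [Fintype F] (hodd : Odd (Fintype.card F)) {m : ℕ} (hm : 3 ≤ m) (a b : F) (hab : (∀ z₁ z₂ : F, z₁ ^ 2 + a * z₁ * z₂ + b * z₂ ^ 2 = 0 → z₁ = 0 ∧ z₂ = 0)) :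
    ((Even m ∧ Fintype.card F % 4 = 3) → (Cfsg.Inn (Cfsg.POmega F (Cfsg.quadFormMinus m F a b))).relIndex (Cfsg.psoAut F (Cfsg.quadFormMinus m F a b)) = 2) ∧ (¬ (Even m ∧ Fintype.card F % 4 = 3) → (Cfsg.Inn (Cfsg.POmega F (Cfsg.quadFormMinus m F a b))).relIndex (Cfsg.psoAut F (Cfsg.quadFormMinus m F a b)) = 1) := by
  classical
  have hfun : Cfsg.quadFormMinus m F a b = ⇑(Qgen m (binForm a b)) := by
    funext v
    rw [Qgen_apply, binForm_apply]
    rfl
  have hneg := Cfsg.Agent.S0791.result (F := F) rfl hodd (m + 1) (by omega) a b hab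
  rw [Nat.add_sub_cancel, hfun] at hneg
  rw [hfun]
  have hQ := nondegenerate_Qgen m (binForm a b) (nondegenerate_binForm a b hab)
  have h2 : (2 : F) ≠ 0 := two_ne_zero_of_odd_card hodd
  have hcardι : Fintype.card ((Fin m ⊕ Fin m) ⊕ Fin 2) = 2 * m + 2 := by
    rw [Fintype.card_sum, Fintype.card_sum, Fintype.card_fin, Fintype.card_fin]; ring
  have hiff := (exists_neg_iff (Qgen m (binForm a b))).symm.trans hneg
  have hq : Fintype.card F % 4 = 1 ∨ Fintype.card F % 4 = 3 := by
    obtain ⟨k, hk⟩ := hodd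
    omega
  have hpow : Fintype.card F ^ (m + 1) % 4 = 3 ↔ (Even m ∧ Fintype.card F % 4 = 3) := by
    rw [Nat.pow_mod]
    rcases hq with h | h
    · rw [h, one_pow]
      simp
    · rw [h]
      rcases Nat.even_or_odd m with he | ho
      · obtain ⟨k, rfl⟩ := he
        have : 3 ^ (k + k + 1) % 4 = 3 := by
          rw [← two_mul, pow_succ, pow_mul, Nat.mul_mod, Nat.pow_mod]
          norm_num
        rw [this]
        simp only [true_iff]
        exact ⟨⟨k, rfl⟩, trivial⟩
      · obtain ⟨k, rfl⟩ := ho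
        have : 3 ^ (2 * k + 1 + 1) % 4 = 1 := by
          have : 2 * k + 1 + 1 = 2 * (k + 1) := by ring
          rw [this, pow_mul, Nat.pow_mod]
          norm_num
        rw [this]
        simp only [Nat.reduceEqDiff, false_iff, not_and]
        intro he
        exact absurd he (by rw [Nat.not_even_iff_odd]; exact ⟨k, rfl⟩)
  constructor
  · intro hc
    apply relIndex_Inn_psoAut_of_mem (Qgen m (binForm a b)) h2 hQ (by rw [hcardι]; omega)
      (minusTriple m (binForm a b) hm)
    exact hiff.mpr (hpow.mpr hc)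
  · intro hc
    apply relIndex_Inn_psoAut_of_notMem (Qgen m (binForm a b)) h2 hQ (by rw [hcardι]; omega)
      (by rw [hcardι]; exact ⟨m + 1, by ring⟩) (minusTriple m (binForm a b) hm)
    intro hmem
    exact hc (hpow.mp (hiff.mp hmem))

end Cfsg.Agent.S2727
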