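import Cfsg.Statements.S2734
import Cfsg.Agent.Lib.Helper8.ChevFold8

set_option autoImplicit false
open Cfsg

namespace Cfsg.Agent.S2734

open Cfsg.Lie Matrix Cfsg.Agent.Lib.Helper8.Chev

theorem hlong_D4 : ∀ j < chevD4.rank, chevD4.isLong (chevD4.simple j) = false := by
  decide +kernel

/-- an automorphism of square one does not have order three -/
theorem not_order_three {G : Type*} [Group G] (τ : MulAut G) (h : ∀ g, τ (τ g) = g)
    (h3 : orderOf τ = 3) : False := by
  have h2 : τ ^ 2 = 1 := by
    ext g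
    rw [pow_two]
    exact h g
  have := orderOf_dvd_of_pow_eq_one h2
  rw [h3] at this
  omega

/-- In the Chevalley group of type D₄ over a finite field F (the matrix group generated by the root elements), a graph automorphism attached to a symmetry π of the Dynkin diagram (sending each fundamental root element x_p(t) to x_{π(p)}(t) and each x_{−p}(t) to x_{−π(p)}(t)) that has order 3 — a standard triality graph automorphism, π being a 3-cycle of the three outer nodes — has fixed-point subgroup isomorphic to the Chevalley group of type G₂ over F. -/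
theorem result {F : Type*} [Field F] [Fintype F] (τ : MulAut ↥(Cfsg.Lie.chevD4.group F)) (hτ : Cfsg.Lie.chevD4.IsGraphAut τ) (hτ3 : orderOf τ = 3) :
    Nonempty (↥(MonoidHom.eqLocus τ.toMonoidHom (MonoidHom.id ↥(Cfsg.Lie.chevD4.group F))) ≃* ↥(Cfsg.Lie.chevG2.group F)) := by
  have V := (validJ_of_mem hDD4).V
  have V1 := valid1_of_mem hDD4
  obtain ⟨π, hπ, hφ⟩ := hτ
  obtain ⟨e⟩ := fixD4_iso F
  rcases classify_D4 π hπ with hc | hc | hc | hc | hc | hc
  · exfalso
    have h1 := graphAut_eq_gaEquiv hDD4 hlong_D4 gaOk_D4i π hc τ hφ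
    apply not_order_three τ _ hτ3
    intro g
    rw [h1]
    exact gaEquiv_comp hDD4 gaOk_D4i gaOk_D4i (by decide) g
  · have h1 := graphAut_eq_gaEquiv hDD4 hlong_D4 gaOk_D4a π hc τ hφ
    refine ⟨(fixEquiv V V1 gaOk_D4a _ ?_).trans e⟩
    intro g
    rw [← h1]
    rfl
  · have h1 := graphAut_eq_gaEquiv hDD4 hlong_D4 gaOk_D4b π hc τ hφ
    refine ⟨(fixEquiv V V1 gaOk_D4a _ ?_).trans e⟩
    intro g
    have hab := gaEquiv_comp (F := F) hDD4 gaOk_D4a gaOk_D4b (by decide)
    have hba := gaEquiv_comp (F := F) hDD4 gaOk_D4b gaOk_D4a (by decide)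
    have hmem : g ∈ MonoidHom.eqLocus τ.toMonoidHom (MonoidHom.id ↥(chevD4.group F)) ↔
        τ g = g := Iff.rfl
    rw [hmem, h1]
    constructor
    · intro hg
      have := hab g
      rw [hg] at this
      exact this
    · intro hg
      have := hba g
      rw [hg] at this
      exact this
  · exfalso
    have h1 := graphAut_eq_gaEquiv hDD4 hlong_D4 gaOk_D4c π hc τ hφ
    apply not_order_three τ _ hτ3
    intro g
    rw [h1]
    exact gaEquiv_comp hDD4 gaOk_D4c gaOk_D4c (by decide) g
  · exfalso
    have h1 := graphAut_eq_gaEquiv hDD4 hlong_D4 gaOk_D4d π hc τ hφ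
    apply not_order_three τ _ hτ3
    intro g
    rw [h1]
    exact gaEquiv_comp hDD4 gaOk_D4d gaOk_D4d (by decide) g
  · exfalso
    have h1 := graphAut_eq_gaEquiv hDD4 hlong_D4 gaOk_D4e π hc τ hφ
    apply not_order_three τ _ hτ3
    intro g
    rw [h1]
    exact gaEquiv_comp hDD4 gaOk_D4e gaOk_D4e (by decide) g

end Cfsg.Agent.S2734
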