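import Cfsg.Statements.S2738

set_option autoImplicit false
open Cfsg

namespace Cfsg.Agent.S2738

open Matrix
open scoped commutatorElement

/-- The special linear group SL(3, 4) has centre of order 3 and does not split over it: no subgroup is a complement to the centre (so SL(3, 4) is a non-split central extension of PSL(3, 4) by a group of order 3). -/
theorem result (F : Type*) [Field F] [Fintype F] (hF : Fintype.card F = 4) : Nat.card ↥(Subgroup.center (Matrix.SpecialLinearGroup (Fin 3) F)) = 3 ∧ ¬ ∃ K : Subgroup (Matrix.SpecialLinearGroup (Fin 3) F), Subgroup.IsComplement' (Subgroup.center (Matrix.SpecialLinearGroup (Fin 3) F)) K := by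
  classical
  have hcardU : Fintype.card Fˣ = 3 := by rw [Fintype.card_units, hF]
  have hpow : ∀ u : Fˣ, u ^ 3 = 1 := by
    intro u
    rw [← hcardU]; exact pow_card_eq_one
  constructor
  · have e := Matrix.SpecialLinearGroup.center_equiv_rootsOfUnity' (n := Fin 3) (R := F) (0 : Fin 3)
    rw [Nat.card_congr e.toEquiv]
    have htop : rootsOfUnity (Fintype.card (Fin 3)) F = ⊤ := by
      rw [eq_top_iff]
      intro u _
      rw [mem_rootsOfUnity, Fintype.card_fin]
      exact hpow u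
    rw [htop, Nat.card_congr Subgroup.topEquiv.toEquiv, Nat.card_eq_fintype_card, hcardU]
  · rintro ⟨K, hK⟩
    -- a unit `ω ≠ 1`
    obtain ⟨u, hu⟩ : ∃ u : Fˣ, u ≠ 1 := by
      by_contra h
      push_neg at h
      have : Fintype.card Fˣ ≤ 1 := Fintype.card_le_one_iff.2 (fun a b => by rw [h a, h b])
      omega
    set ω : F := (u : F) with hω
    have hω3 : ω ^ 3 = 1 := by
      have := congrArg (fun x : Fˣ => (x : F)) (hpow u)
      simpa using this
    have hω1 : ω ≠ 1 := by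
      intro h
      apply hu
      exact Units.ext h
    -- the matrices
    have hdetA : (!![1, 0, 0; 0, ω, 0; 0, 0, ω ^ 2] : Matrix (Fin 3) (Fin 3) F).det = 1 := by
      rw [Matrix.det_fin_three]
      simp
      rw [← hω3]; ring
    have hdetB : (!![0, 0, 1; 1, 0, 0; 0, 1, 0] : Matrix (Fin 3) (Fin 3) F).det = 1 := by
      rw [Matrix.det_fin_three]
      simp
    have hdetC : (!![ω, 0, 0; 0, ω, 0; 0, 0, ω] : Matrix (Fin 3) (Fin 3) F).det = 1 := by
      rw [Matrix.det_fin_three]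
      simp
      rw [← hω3]; ring
    let a : Matrix.SpecialLinearGroup (Fin 3) F := ⟨!![1, 0, 0; 0, ω, 0; 0, 0, ω ^ 2], hdetA⟩
    let b : Matrix.SpecialLinearGroup (Fin 3) F := ⟨!![0, 0, 1; 1, 0, 0; 0, 1, 0], hdetB⟩
    let c : Matrix.SpecialLinearGroup (Fin 3) F := ⟨!![ω, 0, 0; 0, ω, 0; 0, 0, ω], hdetC⟩
    have hab : a * b = c * (b * a) := by
      apply Subtype.ext
      show (!![1, 0, 0; 0, ω, 0; 0, 0, ω ^ 2] : Matrix (Fin 3) (Fin 3) F) * !![0, 0, 1; 1, 0, 0; 0, 1, 0] =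
        !![ω, 0, 0; 0, ω, 0; 0, 0, ω] * (!![0, 0, 1; 1, 0, 0; 0, 1, 0] * !![1, 0, 0; 0, ω, 0; 0, 0, ω ^ 2])
      ext i j
      fin_cases i <;> fin_cases j <;> simp [Matrix.mul_apply, Fin.sum_univ_three] <;>
        first | ring1 | (rw [← hω3]; ring1)
    have hcomm : ⁅a, b⁆ = c := by
      rw [commutatorElement_def, hab]; group
    have hcZ : c ∈ Subgroup.center (Matrix.SpecialLinearGroup (Fin 3) F) := by
      rw [Subgroup.mem_center_iff]
      intro g
      apply Subtype.ext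
      show (g : Matrix (Fin 3) (Fin 3) F) * !![ω, 0, 0; 0, ω, 0; 0, 0, ω] =
        !![ω, 0, 0; 0, ω, 0; 0, 0, ω] * (g : Matrix (Fin 3) (Fin 3) F)
      have hs : (!![ω, 0, 0; 0, ω, 0; 0, 0, ω] : Matrix (Fin 3) (Fin 3) F) = ω • (1 : Matrix (Fin 3) (Fin 3) F) := by
        ext i j
        fin_cases i <;> fin_cases j <;> simp
      rw [hs]; simp
    -- decompose `a` and `b`
    have hsurj := hK.2
    obtain ⟨⟨za, ka⟩, hza⟩ := hsurj a
    obtain ⟨⟨zb, kb⟩, hzb⟩ := hsurj b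
    have hza' : (za : Matrix.SpecialLinearGroup (Fin 3) F) * ka = a := hza
    have hzb' : (zb : Matrix.SpecialLinearGroup (Fin 3) F) * kb = b := hzb
    have hzac : ∀ g : Matrix.SpecialLinearGroup (Fin 3) F, g * za = za * g :=
      fun g => (Subgroup.mem_center_iff.1 za.2) g
    have hzbc : ∀ g : Matrix.SpecialLinearGroup (Fin 3) F, g * zb = zb * g :=
      fun g => (Subgroup.mem_center_iff.1 zb.2) g
    have hcK : c ∈ K := by
      rw [← hcomm, ← hza', ← hzb']
      have e : ⁅(za : Matrix.SpecialLinearGroup (Fin 3) F) * ka, (zb : Matrix.SpecialLinearGroup (Fin 3) F) * kb⁆ =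
          ⁅(ka : Matrix.SpecialLinearGroup (Fin 3) F), (kb : Matrix.SpecialLinearGroup (Fin 3) F)⁆ := by
        rw [commutatorElement_def, commutatorElement_def]
        have h1 : ((za : Matrix.SpecialLinearGroup (Fin 3) F) * ka)⁻¹ = (ka : Matrix.SpecialLinearGroup (Fin 3) F)⁻¹ * (za : Matrix.SpecialLinearGroup (Fin 3) F)⁻¹ := mul_inv_rev _ _
        have h2 : ((zb : Matrix.SpecialLinearGroup (Fin 3) F) * kb)⁻¹ = (kb : Matrix.SpecialLinearGroup (Fin 3) F)⁻¹ * (zb : Matrix.SpecialLinearGroup (Fin 3) F)⁻¹ := mul_inv_rev _ _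
        rw [h1, h2]
        have hzai : ∀ g : Matrix.SpecialLinearGroup (Fin 3) F, g * (za : Matrix.SpecialLinearGroup (Fin 3) F)⁻¹ = (za : Matrix.SpecialLinearGroup (Fin 3) F)⁻¹ * g :=
          fun g => (Subgroup.mem_center_iff.1 (Subgroup.inv_mem _ za.2)) g
        have hzbi : ∀ g : Matrix.SpecialLinearGroup (Fin 3) F, g * (zb : Matrix.SpecialLinearGroup (Fin 3) F)⁻¹ = (zb : Matrix.SpecialLinearGroup (Fin 3) F)⁻¹ * g :=
          fun g => (Subgroup.mem_center_iff.1 (Subgroup.inv_mem _ zb.2)) g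
        calc (za : Matrix.SpecialLinearGroup (Fin 3) F) * ka * (zb * kb) * ((ka : Matrix.SpecialLinearGroup (Fin 3) F)⁻¹ * (za : Matrix.SpecialLinearGroup (Fin 3) F)⁻¹) * ((kb : Matrix.SpecialLinearGroup (Fin 3) F)⁻¹ * (zb : Matrix.SpecialLinearGroup (Fin 3) F)⁻¹)
            = (za : Matrix.SpecialLinearGroup (Fin 3) F) * (ka * zb) * kb * ((ka : Matrix.SpecialLinearGroup (Fin 3) F)⁻¹ * (za : Matrix.SpecialLinearGroup (Fin 3) F)⁻¹) * ((kb : Matrix.SpecialLinearGroup (Fin 3) F)⁻¹ * (zb : Matrix.SpecialLinearGroup (Fin 3) F)⁻¹) := by group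
          _ = (za : Matrix.SpecialLinearGroup (Fin 3) F) * (zb * ka) * kb * ((za : Matrix.SpecialLinearGroup (Fin 3) F)⁻¹ * (ka : Matrix.SpecialLinearGroup (Fin 3) F)⁻¹) * ((zb : Matrix.SpecialLinearGroup (Fin 3) F)⁻¹ * (kb : Matrix.SpecialLinearGroup (Fin 3) F)⁻¹) := by
              rw [hzbc, hzai, hzbi]
          _ = ((za : Matrix.SpecialLinearGroup (Fin 3) F) * zb) * ((ka * kb) * (za : Matrix.SpecialLinearGroup (Fin 3) F)⁻¹) * (ka : Matrix.SpecialLinearGroup (Fin 3) F)⁻¹ * ((zb : Matrix.SpecialLinearGroup (Fin 3) F)⁻¹ * (kb : Matrix.SpecialLinearGroup (Fin 3) F)⁻¹) := by group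
          _ = ((za : Matrix.SpecialLinearGroup (Fin 3) F) * zb) * ((za : Matrix.SpecialLinearGroup (Fin 3) F)⁻¹ * (ka * kb)) * (ka : Matrix.SpecialLinearGroup (Fin 3) F)⁻¹ * ((zb : Matrix.SpecialLinearGroup (Fin 3) F)⁻¹ * (kb : Matrix.SpecialLinearGroup (Fin 3) F)⁻¹) := by rw [hzai]
          _ = ((za : Matrix.SpecialLinearGroup (Fin 3) F) * (zb * (za : Matrix.SpecialLinearGroup (Fin 3) F)⁻¹)) * ((ka * kb) * (ka : Matrix.SpecialLinearGroup (Fin 3) F)⁻¹ * (zb : Matrix.SpecialLinearGroup (Fin 3) F)⁻¹) * (kb : Matrix.SpecialLinearGroup (Fin 3) F)⁻¹ := by group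
          _ = ((za : Matrix.SpecialLinearGroup (Fin 3) F) * ((za : Matrix.SpecialLinearGroup (Fin 3) F)⁻¹ * zb)) * ((zb : Matrix.SpecialLinearGroup (Fin 3) F)⁻¹ * ((ka * kb) * (ka : Matrix.SpecialLinearGroup (Fin 3) F)⁻¹)) * (kb : Matrix.SpecialLinearGroup (Fin 3) F)⁻¹ := by rw [hzai, hzbi]
          _ = (ka : Matrix.SpecialLinearGroup (Fin 3) F) * kb * (ka : Matrix.SpecialLinearGroup (Fin 3) F)⁻¹ * (kb : Matrix.SpecialLinearGroup (Fin 3) F)⁻¹ := by group
      rw [e]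
      rw [commutatorElement_def]
      exact K.mul_mem (K.mul_mem (K.mul_mem ka.2 kb.2) (K.inv_mem ka.2)) (K.inv_mem kb.2)
    have hdisj := hK.disjoint
    have hc1 : c = 1 := by
      have : c ∈ Subgroup.center (Matrix.SpecialLinearGroup (Fin 3) F) ⊓ K := ⟨hcZ, hcK⟩
      rw [hdisj.eq_bot, Subgroup.mem_bot] at this
      exact this
    have h00 : (c : Matrix (Fin 3) (Fin 3) F) 0 0 = (1 : Matrix.SpecialLinearGroup (Fin 3) F).1 0 0 := by
      rw [hc1]
    have : ω = 1 := by simpa [c] using h00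
    exact hω1 this

end Cfsg.Agent.S2738
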