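import Cfsg.Statements.S2739
import Cfsg.Agent.Lib.Helper16.PSL34

set_option autoImplicit false
set_option linter.style.haveILetI false
open scoped Pointwise
open Cfsg

namespace Cfsg.Agent.S2739

open Matrix Cfsg.Agent.Lib.Helper16

/-- every subgroup of order three of `PSL(3, 4)` is conjugate to the one generated by the image of
`diag(1, ω, ω²)` -/
theorem conj_std (F : Type*) [Field F] [Fintype F] (hF : Fintype.card F = 4) (ω : F) (hω1 : ω ≠ 1)
    (hω3 : ω ^ 3 = 1) (d : Matrix.SpecialLinearGroup (Fin 3) F)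
    (hd : (d : Matrix (Fin 3) (Fin 3) F) = Matrix.diagonal ![1, ω, ω ^ 2])
    (X : Subgroup (Matrix.ProjectiveSpecialLinearGroup (Fin 3) F)) (hX : Nat.card ↥X = 3) :
    ∃ g : Matrix.ProjectiveSpecialLinearGroup (Fin 3) F,
      X = MulAut.conj g • Subgroup.zpowers (QuotientGroup.mk d :
        Matrix.ProjectiveSpecialLinearGroup (Fin 3) F) := by
  classical
  haveI : Fact (Nat.Prime 3) := ⟨by norm_num⟩
  -- a generator
  have hXfin : Finite X := Nat.finite_of_card_ne_zero (by rw [hX]; norm_num)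
  obtain ⟨xb, hxb1⟩ : ∃ xb : X, xb ≠ 1 := by
    by_contra hcon
    push Not at hcon
    have : Nat.card X ≤ 1 := by
      rw [Nat.card_eq_fintype_card]
      exact Fintype.card_le_one_iff.2 (fun a b => by rw [hcon a, hcon b])
    omega
  have hord : orderOf xb = 3 := by
    have hdvd : orderOf xb ∣ 3 := by
      have := orderOf_dvd_natCard xb
      rwa [hX] at this
    rcases (Nat.dvd_prime (by norm_num : Nat.Prime 3)).1 hdvd with h | h
    · exact absurd (orderOf_eq_one_iff.1 h) hxb1
    · exact h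
  have hordv : orderOf (xb : Matrix.ProjectiveSpecialLinearGroup (Fin 3) F) = 3 := by
    rw [Subgroup.orderOf_coe]; exact hord
  have hXz : X = Subgroup.zpowers (xb : Matrix.ProjectiveSpecialLinearGroup (Fin 3) F) := by
    symm
    apply Subgroup.eq_of_le_of_card_ge
    · rw [Subgroup.zpowers_le]; exact xb.2
    · rw [Nat.card_zpowers, hordv, hX]
  -- lift
  obtain ⟨x, hx⟩ := QuotientGroup.mk_surjective (xb : Matrix.ProjectiveSpecialLinearGroup (Fin 3) F)
  have hx3c : x ^ 3 ∈ Subgroup.center (Matrix.SpecialLinearGroup (Fin 3) F) := by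
    rw [← QuotientGroup.eq_one_iff, QuotientGroup.mk_pow, hx]
    have := pow_orderOf_eq_one (xb : Matrix.ProjectiveSpecialLinearGroup (Fin 3) F)
    rwa [hordv] at this
  obtain ⟨c, hc3, hc⟩ := Matrix.SpecialLinearGroup.mem_center_iff.1 hx3c
  rw [Fintype.card_fin] at hc3
  have hxM : (x : Matrix (Fin 3) (Fin 3) F) ^ 3 = c • (1 : Matrix (Fin 3) (Fin 3) F) := by
    rw [← Matrix.SpecialLinearGroup.coe_pow, ← hc]
    ext i j
    simp [Matrix.scalar, Matrix.diagonal_apply, Matrix.one_apply]
  have hc0 : c ≠ 0 := by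
    rintro rfl
    simp at hc3
  have hc1 : c = 1 := by
    by_contra hne
    have := det_eq_of_cube hF (x : Matrix (Fin 3) (Fin 3) F) c hc0 hne hxM
    rw [x.2] at this
    exact hne this.symm
  rw [hc1, one_smul] at hxM
  have hns : ¬ ∃ s : F, (x : Matrix (Fin 3) (Fin 3) F) = s • (1 : Matrix (Fin 3) (Fin 3) F) := by
    rintro ⟨s, hs⟩
    have hxc : x ∈ Subgroup.center (Matrix.SpecialLinearGroup (Fin 3) F) := by
      rw [Matrix.SpecialLinearGroup.mem_center_iff]
      refine ⟨s, ?_, ?_⟩
      · have h1 := x.2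
        rw [hs, Matrix.det_smul, Matrix.det_one, mul_one] at h1
        exact h1
      · rw [hs]
        ext i j
        simp [Matrix.scalar, Matrix.diagonal_apply, Matrix.one_apply]
    have : (QuotientGroup.mk x : Matrix.ProjectiveSpecialLinearGroup (Fin 3) F) = 1 :=
      (QuotientGroup.eq_one_iff x).2 hxc
    rw [hx] at this
    apply hxb1
    exact Subtype.ext this
  obtain ⟨P, hPdet, hxP⟩ := conj_diag_of_cube_eq_one hF ω hω1 hω3 _ x.2 hxM hns
  let g : Matrix.SpecialLinearGroup (Fin 3) F := ⟨P, hPdet⟩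
  have hxg : x * g = g * d := by
    apply Subtype.ext
    simp only [Matrix.SpecialLinearGroup.coe_mul, hd]
    exact hxP
  have hxconj : x = g * d * g⁻¹ := by
    rw [← hxg]; group
  refine ⟨QuotientGroup.mk g, ?_⟩
  rw [hXz, ← hx, hxconj, Subgroup.pointwise_smul_def]
  exact (MonoidHom.map_zpowers
    ((MulDistribMulAction.toMonoidEnd (MulAut (Matrix.ProjectiveSpecialLinearGroup (Fin 3) F))
      (Matrix.ProjectiveSpecialLinearGroup (Fin 3) F))
        (MulAut.conj (QuotientGroup.mk g : Matrix.ProjectiveSpecialLinearGroup (Fin 3) F)))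
    (QuotientGroup.mk d : Matrix.ProjectiveSpecialLinearGroup (Fin 3) F)).symm

/-- In the projective special linear group PSL(3, 4) all subgroups of order 3 are conjugate. -/
theorem result (F : Type*) [Field F] [Fintype F] (hF : Fintype.card F = 4) (X Y : Subgroup (Matrix.ProjectiveSpecialLinearGroup (Fin 3) F)) (hX : Nat.card ↥X = 3) (hY : Nat.card ↥Y = 3) : ∃ g : Matrix.ProjectiveSpecialLinearGroup (Fin 3) F, MulAut.conj g • X = Y := by
  classical
  have hcardU : Fintype.card Fˣ = 3 := by rw [Fintype.card_units, hF]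
  obtain ⟨u, hu⟩ : ∃ u : Fˣ, u ≠ 1 := by
    by_contra h
    push Not at h
    have : Fintype.card Fˣ ≤ 1 := Fintype.card_le_one_iff.2 (fun a b => by rw [h a, h b])
    omega
  have hω3 : (u : F) ^ 3 = 1 := by
    have h1 : u ^ 3 = 1 := by rw [← hcardU]; exact pow_card_eq_one
    have := congrArg (fun x : Fˣ => (x : F)) h1
    simpa using this
  have hω1 : (u : F) ≠ 1 := fun h => hu (Units.ext h)
  have hdet : (Matrix.diagonal ![1, (u : F), (u : F) ^ 2]).det = 1 := by
    rw [Matrix.det_diagonal, Fin.prod_univ_three]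
    simp only [Matrix.cons_val_zero, Matrix.cons_val_one, Matrix.cons_val_two, Matrix.head_cons,
      Matrix.tail_cons]
    linear_combination hω3
  obtain ⟨g, hg⟩ := conj_std F hF (u : F) hω1 hω3 ⟨_, hdet⟩ rfl X hX
  obtain ⟨h, hh⟩ := conj_std F hF (u : F) hω1 hω3 ⟨_, hdet⟩ rfl Y hY
  refine ⟨h * g⁻¹, ?_⟩
  rw [hg, hh, smul_smul, ← map_mul, inv_mul_cancel_right]

end Cfsg.Agent.S2739
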