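import Cfsg.Statements.S2761
import Cfsg.Agent.Lib.Helper16.Qd
import Cfsg.Agent.Lib.Helper3.CardSL

set_option autoImplicit false
set_option linter.style.haveILetI false
open Cfsg

namespace Cfsg.Agent.S2761

open Cfsg.Agent.Lib.Helper16 in
/-- The group Qd(2), the natural semidirect product of an elementary abelian group of order 4 by SL₂(2) (realised as the affine subgroup of SL₃(2)), is isomorphic to the symmetric group of degree 4. -/
theorem result : Nonempty (↥(Cfsg.qd 2) ≃* Equiv.Perm (Fin 4)) := by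
  classical
  haveI : Fact (Nat.Prime 2) := ⟨Nat.prime_two⟩
  have hplane : Fintype.card (Fin 2 → ZMod 2) = 4 := by
    rw [Fintype.card_fun, ZMod.card, Fintype.card_fin]
    norm_num
  have hcardG : Nat.card (affSL3 (ZMod 2)) = 24 := by
    rw [Nat.card_congr (affEquiv (R := ZMod 2)), Nat.card_prod,
      Cfsg.Agent.Lib.Helper3.CardSL.card_SL2 (F := ZMod 2), ZMod.card, Nat.card_eq_fintype_card, hplane]
    norm_num
  have hcardP : Nat.card (Equiv.Perm (Fin 2 → ZMod 2)) = 24 := by
    rw [Nat.card_eq_fintype_card, Fintype.card_perm, hplane]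
    rfl
  haveI : Finite (affSL3 (ZMod 2)) := Nat.finite_of_card_ne_zero (by rw [hcardG]; norm_num)
  have hbij : Function.Bijective (affPerm (ZMod 2)) :=
    (Nat.bijective_iff_injective_and_card _).2 ⟨affPerm_injective, by rw [hcardG, hcardP]⟩
  let e1 : ↥(Cfsg.qd 2) ≃* ↥(affSL3 (ZMod 2)) := MulEquiv.subgroupCongr (qd_eq_affSL3 2)
  let e2 : ↥(affSL3 (ZMod 2)) ≃* Equiv.Perm (Fin 2 → ZMod 2) := MulEquiv.ofBijective _ hbij
  let e3 : Equiv.Perm (Fin 2 → ZMod 2) ≃* Equiv.Perm (Fin 4) :=
    (Fintype.equivFinOfCardEq hplane).permCongrHom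
  exact ⟨(e1.trans e2).trans e3⟩

end Cfsg.Agent.S2761
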