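import Cfsg.Statements.S2770
import Cfsg.Agent.Lib.Helper27.TFFusB
import Cfsg.Agent.Lib.Helper16.SylowInf
import Cfsg.Agent.Lib.Helper1.Cores

set_option autoImplicit false
open Cfsg

namespace Cfsg.Agent.S2770

/-- Let G be a finite group and p a prime with C_G(O_p(G)) ≤ O_p(G), S a Sylow p-subgroup lying in exactly one maximal subgroup of G, and G/K ≅ PSL₂(p^n) for some normal K and n ≥ 1. If Z(S) is not elementary abelian, then either ℧¹(Z(S)) (the subgroup generated by the p-th powers of the elements of Z(S)) is normal in G or C_S(Z(J(S))) is normal in G, J(S) being generated by the abelian subgroups of S of largest order. -/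
theorem result {G : Type*} [Group G] [Finite G] {p : ℕ} [Fact p.Prime] (S : Sylow p G) (hE₁ : Subgroup.centralizer (Cfsg.pCore p G : Set G) ≤ Cfsg.pCore p G) (hE₂ : ∃! M : Subgroup G, IsCoatom M ∧ (S : Subgroup G) ≤ M) (K : Subgroup G) [K.Normal] (F : Type) [Field F] [Fintype F] (n : ℕ) (hn : 1 ≤ n) (hF : Fintype.card F = p ^ n) (hE₃ : Nonempty (G ⧸ K ≃* Matrix.ProjectiveSpecialLinearGroup (Fin 2) F)) (h : ¬ Cfsg.IsElementaryAbelian p ((S : Subgroup G) ⊓ Subgroup.centralizer ((S : Subgroup G) : Set G))) : (Cfsg.powerClosure p 1 ((S : Subgroup G) ⊓ Subgroup.centralizer ((S : Subgroup G) : Set G))).Normal ∨ (((S : Subgroup G) ⊓ Subgroup.centralizer (Cfsg.centerThompsonAOf (S : Subgroup G) : Set G))).Normal := by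
  open Cfsg.Agent.Lib.Helper27.TF Cfsg.Agent.Lib.Helper18 in
  obtain ⟨M, ⟨hMco, hSM⟩, hMuniq⟩ := hE₂
  obtain ⟨T, hT⟩ : ∃ T : Subgroup G, T = (S : Subgroup G) := ⟨_, rfl⟩
  have hTp : IsPGroup p T := hT ▸ S.isPGroup'
  -- every proper subgroup containing `S` lies in `M`
  have hU : ∀ H : Subgroup G, T ≤ H → H ≠ ⊤ → H ≤ M := by
    intro H hSH hH
    obtain ⟨M', hM'co, hHM'⟩ := (eq_top_or_exists_le_coatom H).resolve_left hH
    have := hMuniq M' ⟨hM'co, (hT ▸ hSH).trans hHM'⟩
    rw [this] at hHM'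
    exact hHM'
  -- Frattini
  have hFr : ∀ N : Subgroup G, N.Normal → ((T ⊓ N).Normal ∨ T ⊔ N = ⊤) := by
    intro N hN
    by_cases h : Subgroup.normalizer ((T ⊓ N : Subgroup G) : Set G) = ⊤
    · exact Or.inl (Subgroup.normalizer_eq_top_iff.mp h)
    · right
      have hTn : T ≤ Subgroup.normalizer ((T ⊓ N : Subgroup G) : Set G) := by
        intro t ht
        apply mem_normalizer_of_conj_mem'
        · intro w hw
          exact ⟨T.mul_mem (T.mul_mem ht hw.1) (T.inv_mem ht), hN.conj_mem w hw.2 t⟩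
        · intro w hw
          have h1 := hN.conj_mem w hw.2 t⁻¹
          rw [inv_inv] at h1
          exact ⟨T.mul_mem (T.mul_mem (T.inv_mem ht) hw.1) ht, h1⟩
      have h1 := hU _ hTn h
      by_contra h2
      have h3 := hU _ le_sup_left h2
      apply hMco.1
      rw [eq_top_iff]
      intro g _
      obtain ⟨a, ha, c, hc, rfl⟩ := Cfsg.Agent.Lib.Helper16.frattini_inf_normal S N g
      rw [← hT] at ha
      exact M.mul_mem (h1 ha) (h3 (Subgroup.mem_sup_right hc))
  -- the p-th powers of the centre are centralized by `S`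
  have hZS : T ⊓ Subgroup.centralizer (T : Set G) ≤ Subgroup.centralizer (T : Set G) := inf_le_right
  have hV₀Z : Cfsg.powerClosure p 1 (T ⊓ Subgroup.centralizer (T : Set G)) ≤
      T ⊓ Subgroup.centralizer (T : Set G) := powerClosure_le p 1 _
  have hTC : T ≤ Subgroup.centralizer
      ((Cfsg.powerClosure p 1 (T ⊓ Subgroup.centralizer (T : Set G)) : Subgroup G) : Set G) := by
    intro t ht
    rw [Subgroup.mem_centralizer_iff]
    intro v hv
    exact (Subgroup.mem_centralizer_iff.mp (hZS (hV₀Z hv)) t ht).symm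
  have hcentral : ∀ N : Subgroup G, N ≤ Subgroup.centralizer
      ((Cfsg.powerClosure p 1 (T ⊓ Subgroup.centralizer (T : Set G)) : Subgroup G) : Set G) →
      T ⊔ N = ⊤ → (Cfsg.powerClosure p 1 (T ⊓ Subgroup.centralizer (T : Set G))).Normal := by
    intro N hN htop
    have h1 : (⊤ : Subgroup G) ≤ Subgroup.centralizer
        ((Cfsg.powerClosure p 1 (T ⊓ Subgroup.centralizer (T : Set G)) : Subgroup G) : Set G) := by
      rw [← htop]
      exact sup_le hTC hN
    constructor
    intro v hv g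
    have h2 := Subgroup.mem_centralizer_iff.mp (h1 (Subgroup.mem_top g)) v hv
    have h3 : g * v * g⁻¹ = v := by rw [← h2]; group
    rw [h3]
    exact hv
  rw [← hT]
  obtain ⟨L, hLn, hLC, hL⟩ := group_core S hE₁
  rw [← hT] at hLC hL
  rcases hFr L hLn with h1 | h1
  swap
  · exact Or.inl (hcentral L hLC h1)
  -- `J(S)` is normal
  have h2 : T ⊓ L ≤ Cfsg.pCore p G :=
    Cfsg.Agent.Lib.Helper1.le_pCore h1 (hTp.to_le inf_le_left)
  have hJn : (Cfsg.thompsonSubgroupAOf T).Normal := by
    rcases hL with hL | hL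
    · rw [← Subgroup.normalizer_eq_top_iff]
      rw [Subgroup.normalizer_eq_top_iff.mpr h1] at hL
      exact top_le_iff.mp hL
    · exact absurd h2 hL
  haveI := hJn
  haveI hCJ : (Subgroup.centralizer ((Cfsg.thompsonSubgroupAOf T : Subgroup G) : Set G)).Normal :=
    centralizer_normal_of_normal _
  have hZJn : (Cfsg.centerThompsonAOf T).Normal := by
    unfold Cfsg.centerThompsonAOf
    infer_instance
  haveI := hZJn
  have hNn : (Subgroup.centralizer ((Cfsg.centerThompsonAOf T : Subgroup G) : Set G)).Normal :=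
    centralizer_normal_of_normal _
  rcases hFr _ hNn with h3 | h3
  · exact Or.inr h3
  · left
    apply hcentral _ _ h3
    -- `Z(S) ≤ Z(J(S))`
    have hZle : T ⊓ Subgroup.centralizer (T : Set G) ≤ Cfsg.centerThompsonAOf T := by
      intro z hz
      have hz' := Subgroup.mem_inf.mp hz
      obtain ⟨A, hA⟩ := exists_isMaxAbIn T
      haveI : Finite ↥T := inferInstance
      have hzA : z ∈ A := mem_of_centralizes_maxAb hA hz'.1 (fun a ha =>
        (Subgroup.mem_centralizer_iff.mp hz'.2 a (hA.1 ha)).symm)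
      have hAJ : A ≤ Cfsg.thompsonSubgroupAOf T := by
        rw [thompsonSubgroupAOf_eq_sSup]
        exact le_sSup hA
      have hJT : Cfsg.thompsonSubgroupAOf T ≤ T := by
        rintro _ ⟨j, -, rfl⟩
        exact j.2
      exact Subgroup.mem_inf.mpr ⟨hAJ hzA,
        Subgroup.centralizer_le (SetLike.coe_subset_coe.mpr hJT) hz'.2⟩
    apply Subgroup.centralizer_le
    exact SetLike.coe_subset_coe.mpr (hV₀Z.trans hZle)

end Cfsg.Agent.S2770
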