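import Cfsg.Statements.S2781
import Cfsg.Agent.Lib.Helper16.TransferAb
import Cfsg.Agent.Lib.Helper16.PReduced4

set_option autoImplicit false
open Cfsg

namespace Cfsg.Agent.S2781

open Cfsg.Agent.Lib.Helper16
open scoped commutatorElement

/-- Let H act faithfully by conjugation on the elementary abelian p-subgroup V of a finite group, let O^p(H) be the subgroup of H generated by its elements of order prime to p, and T a Sylow p-subgroup of O^p(H). If V is generated by the H-conjugates of C_V(T) (V is the smallest H-invariant subgroup containing C_V(T)), then V = [V, O^p(H)]·C_V(O^p(H)). -/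
theorem result {G : Type*} [Group G] [Finite G] {p : ℕ} [Fact p.Prime] (V H : Subgroup G) (hV : Cfsg.IsElementaryAbelian p V) (hHV : H ≤ Subgroup.normalizer (V : Set G)) (hf : H ⊓ Subgroup.centralizer (V : Set G) = ⊥) (R : Subgroup G) (hR : R = (Cfsg.pResidual p ↥H).map H.subtype) (S : Sylow p ↥R) (T : Subgroup G) (hT : T = ((S : Subgroup ↥R).map R.subtype)) (hgen : ∀ W : Subgroup G, H ≤ Subgroup.normalizer (W : Set G) → (V ⊓ Subgroup.centralizer ((T : Subgroup G) : Set G)) ≤ W → V ≤ W) : ⁅V, R⁆ ⊔ (V ⊓ Subgroup.centralizer ((R : Subgroup G) : Set G)) = V := by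
  have hRgen : R = pResGen p H := by rw [hR, pResidual_map_subtype]
  have hRH : R ≤ H := by rw [hRgen]; exact pResGen_le H
  have hRV : R ≤ Subgroup.normalizer (V : Set G) := hRH.trans hHV
  have hcomm : ∀ a ∈ V, ∀ b ∈ V, a * b = b * a := by
    intro a ha b hb
    exact congrArg Subtype.val (hV.1.is_comm.comm (⟨a, ha⟩ : V) ⟨b, hb⟩)
  have hcV : ⁅V, R⁆ ≤ V := by
    rw [Subgroup.commutator_le]
    intro v hv r hr
    have h1 : r * v⁻¹ * r⁻¹ ∈ V := conj_mem_of_mem_normalizer V r (hRV hr) _ (V.inv_mem hv)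
    have e : ⁅v, r⁆ = v * (r * v⁻¹ * r⁻¹) := by rw [commutatorElement_def]; group
    rw [e]; exact V.mul_mem hv h1
  apply le_antisymm (sup_le hcV inf_le_left)
  apply hgen
  · -- `H` normalizes `W`
    intro h hh
    apply mem_normalizer_of_map_conj_eq
    have hVh : V.map (MulAut.conj h).toMonoidHom = V := map_conj_eq_of_mem_normalizer V h (hHV hh)
    have hRh : R.map (MulAut.conj h).toMonoidHom = R := by
      rw [hRgen]; exact pResGen_map_conj H h (Subgroup.le_normalizer hh)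
    rw [Subgroup.map_sup, Subgroup.map_commutator, hVh, hRh]
    apply sup_le_sup le_rfl
    rintro _ ⟨x, hx, rfl⟩
    obtain ⟨hxV, hxC⟩ := Subgroup.mem_inf.1 hx
    refine Subgroup.mem_inf.2 ⟨conj_mem_of_mem_normalizer V h (hHV hh) x hxV, ?_⟩
    rw [Subgroup.mem_centralizer_iff]
    intro r hr
    have hr' : h⁻¹ * r * h ∈ R := by
      have : (MulAut.conj h⁻¹).toMonoidHom r ∈ R.map (MulAut.conj h⁻¹).toMonoidHom := ⟨r, hr, rfl⟩
      have hRh' : R.map (MulAut.conj h⁻¹).toMonoidHom = R := by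
        rw [hRgen]; exact pResGen_map_conj H h⁻¹ (Subgroup.le_normalizer (H.inv_mem hh))
      rw [hRh'] at this
      simpa using this
    have hc := (Subgroup.mem_centralizer_iff.1 hxC) _ hr'
    show r * (h * x * h⁻¹) = h * x * h⁻¹ * r
    calc r * (h * x * h⁻¹) = h * ((h⁻¹ * r * h) * x) * h⁻¹ := by group
      _ = h * (x * (h⁻¹ * r * h)) * h⁻¹ := by rw [hc]
      _ = h * x * h⁻¹ * r := by group
  · -- `C_V(T) ≤ W`
    intro v hv
    obtain ⟨hvV, hvT⟩ := Subgroup.mem_inf.1 hv
    have hvS : ∀ s ∈ (S : Subgroup ↥R), (s : G) * v = v * (s : G) := by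
      intro s hs
      have : (s : G) ∈ T := by rw [hT]; exact ⟨s, hs, rfl⟩
      exact (Subgroup.mem_centralizer_iff.1 hvT) _ this
    obtain ⟨τ, hτV, hτR, c, hc, hτ⟩ := transfer_decomp V R hRV hcomm (S : Subgroup ↥R) v hvV hvS
    have hτW : τ ∈ ⁅V, R⁆ ⊔ (V ⊓ Subgroup.centralizer ((R : Subgroup G) : Set G)) := by
      apply (le_sup_right : (V ⊓ Subgroup.centralizer ((R : Subgroup G) : Set G)) ≤ _)
      refine Subgroup.mem_inf.2 ⟨hτV, ?_⟩
      rw [Subgroup.mem_centralizer_iff]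
      exact hτR
    have hcW : c ∈ ⁅V, R⁆ ⊔ (V ⊓ Subgroup.centralizer ((R : Subgroup G) : Set G)) :=
      (le_sup_left : ⁅V, R⁆ ≤ _) hc
    have hvm : v ^ (S : Subgroup ↥R).index ∈ ⁅V, R⁆ ⊔ (V ⊓ Subgroup.centralizer ((R : Subgroup G) : Set G)) := by
      have e : v ^ (S : Subgroup ↥R).index = c⁻¹ * τ := by rw [hτ]; group
      rw [e]
      exact Subgroup.mul_mem _ (Subgroup.inv_mem _ hcW) hτW
    have hp : p.Prime := Fact.out
    have hcop : ((S : Subgroup ↥R).index).Coprime p :=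
      ((Nat.Prime.coprime_iff_not_dvd hp).2 S.not_dvd_index).symm
    have hord : orderOf v ∣ p := orderOf_dvd_of_pow_eq_one (hV.2 v hvV)
    have hcop' : ((S : Subgroup ↥R).index).Coprime (orderOf v) := Nat.Coprime.coprime_dvd_right hord hcop
    obtain ⟨m, hm⟩ := exists_pow_eq_self_of_coprime hcop'
    rw [← hm]
    exact Subgroup.pow_mem _ hvm m

end Cfsg.Agent.S2781
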