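import Cfsg.Statements.S2788
import Cfsg.Agent.S2904
import Cfsg.Agent.Lib.Helper3.CardSL
import Cfsg.Agent.Lib.Helper20.SLqG
import Cfsg.Agent.Lib.Helper20.SLqH

set_option autoImplicit false
open Cfsg

namespace Cfsg.Agent.S2788

open Cfsg.Agent.Lib.Helper20.SLq

/-- Let H act faithfully by conjugation on the elementary abelian p-subgroup V of a finite group with H ≅ SL₂(F), F a field with p^n elements, S a Sylow p-subgroup of H, and A ≤ S a subgroup of order at least 3 acting quadratically on V ([V, A, A] = 1). Then |V/C_V(a)| ≥ p^n for every nonidentity a ∈ A. -/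
theorem result {G : Type*} [Group G] [Finite G] {p : ℕ} [Fact p.Prime] (V H : Subgroup G) (hV : Cfsg.IsElementaryAbelian p V) (hHV : H ≤ Subgroup.normalizer (V : Set G)) (hf : H ⊓ Subgroup.centralizer (V : Set G) = ⊥) {F : Type*} [Field F] [Fintype F] (n : ℕ) (hF : Fintype.card F = p ^ n) (hiso : Nonempty (↥H ≃* Matrix.SpecialLinearGroup (Fin 2) F)) (S : Sylow p ↥H) (T : Subgroup G) (hT : T = ((S : Subgroup ↥H).map H.subtype)) (A : Subgroup G) (hA : A ≤ T) (hA3 : 3 ≤ Nat.card A) (hquad : ⁅⁅V, A⁆, A⁆ = ⊥) : ∀ a ∈ A, a ≠ 1 → p ^ n ≤ ((V ⊓ Subgroup.centralizer ({a} : Set G))).relIndex V := by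
  intro a haA ha1
  have hp : p.Prime := Fact.out
  have hVp : IsPGroup p V := by
    intro v
    refine ⟨1, ?_⟩
    ext
    simpa using hV.2 v v.2
  have haT := hA haA
  rw [hT] at haT
  obtain ⟨a₀, ha₀S, ha₀⟩ := Subgroup.mem_map.1 haT
  have haH : a ∈ H := ha₀ ▸ a₀.2
  have ha₀coe : (a₀ : G) = a := ha₀
  have hnotC : a ∉ Subgroup.centralizer (V : Set G) := by
    intro hc
    have : a ∈ H ⊓ Subgroup.centralizer (V : Set G) := ⟨haH, hc⟩
    rw [hf, Subgroup.mem_bot] at this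
    exact ha1 this
  obtain ⟨d, hd⟩ := idx_eq_pow V hVp a
  have hd1 : idx V a ≠ 1 := idx_ne_one V a hnotC
  have hdpos : 0 < d := by
    rcases Nat.eq_zero_or_pos d with h0 | h0
    · rw [h0, pow_zero] at hd
      exact absurd hd hd1
    · exact h0
  show p ^ n ≤ idx V a
  rcases Nat.lt_or_ge n 2 with hn | hn
  · have hn01 : n = 0 ∨ n = 1 := by omega
    rcases hn01 with rfl | rfl
    · have := Fintype.one_lt_card (α := F)
      rw [hF] at this
      simp at this
    · rw [hd, pow_one]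
      exact Nat.le_self_pow hdpos.ne' p
  -- now `n ≥ 2`
  obtain ⟨φ⟩ := hiso
  have hchar : CharP F p := by
    have : CharP F (ringChar F) := ringChar.charP F
    obtain ⟨k, hp', hk⟩ := FiniteField.card F (ringChar F)
    rw [hF] at hk
    have hpp : p = ringChar F := by
      have h1 : p ∣ ringChar F ^ (k : ℕ) := hk ▸ dvd_pow_self p (by omega)
      exact (Nat.prime_dvd_prime_iff_eq hp hp').1 (hp.dvd_of_dvd_pow h1)
    rw [hpp]
    infer_instance
  -- `a₀` is a `p`-element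
  obtain ⟨j, hj⟩ := S.isPGroup' ⟨a₀, ha₀S⟩
  have hj' : a₀ ^ (p ^ j) = 1 := by
    have := congrArg Subtype.val hj
    simpa using this
  have hg : φ a₀ ≠ 1 := by
    intro h
    apply ha1
    have : a₀ = 1 := by
      have h2 := φ.injective (h.trans (map_one φ).symm)
      exact h2
    rw [← ha₀coe, this, Subgroup.coe_one]
  have hgj : (φ a₀) ^ (p ^ j) = 1 := by
    rw [← map_pow, hj', map_one]
  -- common conclusion
  have hfinish : p ^ (2 * n) ≤ (idx V a) ^ 2 → p ^ n ≤ idx V a := by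
    intro h
    rw [mul_comm, pow_mul] at h
    exact (Nat.pow_le_pow_iff_left two_ne_zero).1 h
  apply hfinish
  rw [← ha₀coe]
  by_cases h6 : p = 2 ∧ n = 3
  · -- the case `q = 8`
    obtain ⟨rfl, rfl⟩ := h6
    have h8 : Fintype.card F = 8 := by rw [hF]; norm_num
    obtain ⟨ρ₀, hρ₀⟩ := exists_orderOf_nine (F := F) h8
    obtain ⟨y, g₁, hg₁, hord⟩ := exists_conj_orderOf 2 (φ a₀) hg j hgj ρ₀ (3 ^ (1 + 1)) hρ₀
      (by norm_num) (by norm_num) (by rw [h8]; norm_num)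
    refine final_step V H hVp hHV hf φ a₀ y g₁ hg₁ 3 1 Nat.prime_three (by norm_num) hord (2 * 3) ?_
    intro d hd0 hdvd
    by_contra hlt
    push Not at hlt
    interval_cases d <;> norm_num at hdvd
  · -- generic case: Zsigmondy prime
    obtain ⟨ℓ, hℓ, hℓdvd, hℓprim⟩ := Cfsg.Agent.S2904.result p (2 * n) hp.one_lt (by omega)
      (by
        rintro ⟨h1, h2⟩
        exact h6 ⟨h1, by omega⟩)
      (by
        rintro ⟨h1, _⟩
        omega)
    have hpow_pos : 1 ≤ p ^ (2 * n) := Nat.one_le_pow _ _ hp.pos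
    have hℓp : ℓ ≠ p := by
      rintro rfl
      have h1 : ℓ ∣ ℓ ^ (2 * n) := dvd_pow_self ℓ (by omega)
      have h2 : ℓ ∣ ℓ ^ (2 * n) - (ℓ ^ (2 * n) - 1) := Nat.dvd_sub h1 hℓdvd
      have h3 : ℓ ^ (2 * n) - (ℓ ^ (2 * n) - 1) = 1 := by omega
      rw [h3] at h2
      exact hℓ.one_lt.ne' (Nat.dvd_one.1 h2)
    have hℓ2 : ℓ ≠ 2 := by
      rintro rfl
      have h1 := hℓprim 1 one_pos (by omega)
      rw [pow_one] at h1
      rcases hp.eq_two_or_odd with h2 | h2
      · exact hℓp h2.symm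
      · apply h1
        omega
    have hcard : ℓ ∣ Nat.card (Matrix.SpecialLinearGroup (Fin 2) F) := by
      rw [Cfsg.Agent.Lib.Helper3.CardSL.card_SL2, hF, ← pow_mul, mul_comm n 2]
      exact Dvd.dvd.mul_left hℓdvd _
    have : Fact ℓ.Prime := ⟨hℓ⟩
    obtain ⟨ρ₀, hρ₀⟩ := exists_prime_orderOf_dvd_card' ℓ hcard
    have hodd : Nat.Coprime ℓ 2 := (Nat.coprime_primes hℓ Nat.prime_two).2 hℓ2
    have h1 : ¬ ℓ ∣ 2 * p := by
      intro h
      rcases (Nat.Prime.dvd_mul hℓ).1 h with h | h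
      · exact hℓ2 ((Nat.prime_dvd_prime_iff_eq hℓ Nat.prime_two).1 h)
      · exact hℓp ((Nat.prime_dvd_prime_iff_eq hℓ hp).1 h)
    have h2 : ¬ ℓ ∣ Fintype.card F - 1 := by
      rw [hF]
      exact hℓprim n (by omega) (by omega)
    obtain ⟨y, g₁, hg₁, hord⟩ := exists_conj_orderOf p (φ a₀) hg j hgj ρ₀ ℓ hρ₀ hodd h1 h2
    have hord' : orderOf ((φ a₀ * (y * g₁ * y⁻¹)) ^ 2) = ℓ ^ (0 + 1) := by
      rw [hord, zero_add, pow_one]
    refine final_step V H hVp hHV hf φ a₀ y g₁ hg₁ ℓ 0 hℓ hℓp hord' (2 * n) ?_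
    intro d hd0 hdvd
    rw [zero_add, pow_one] at hdvd
    by_contra hlt
    push Not at hlt
    exact hℓprim d hd0 hlt hdvd

end Cfsg.Agent.S2788
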