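import Cfsg.Statements.S2791
import Cfsg.Agent.Lib.Helper27.FusionNormalCrit
import Cfsg.Agent.H26.GroupFusionSat
import Cfsg.Agent.Lib.Helper16.SPE2

set_option autoImplicit false
open Cfsg

namespace Cfsg.Agent.S2791

open Cfsg.FusionSystem

/-- Let S be a Sylow p-subgroup of the finite group G and A an abelian subgroup of S that is strongly closed in S with respect to G. Then A controls strong fusion in G: for some Sylow p-subgroup T containing A, whenever a subset of T is conjugated into T by an element of G, the same elementwise conjugation is induced by an element of N_G(A). -/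
theorem result {G : Type*} [Group G] [Finite G] {p : ℕ} [Fact p.Prime] (S : Sylow p G) (A : Subgroup G) (hA : IsMulCommutative ↥A) (hsc : Cfsg.IsStronglyClosed A (S : Subgroup G)) : Cfsg.ControlsStrongFusion p A := by
  have hsat : (groupFusionSystem (S : Subgroup G)).IsSaturated p := Cfsg.Agent.H26.groupFusion_saturated S
  have hSC : (groupFusionSystem (S : Subgroup G)).StronglyClosed A := by
    refine ⟨hsc.1, ?_⟩
    rintro R hRA φ ⟨-, hφS, g, hg⟩ x
    rw [hg x]
    apply hsc.2 _ (hRA x.2) g
    rw [← hg x]; exact hφS x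
  have hcomm : ∀ a ∈ A, ∀ b ∈ A, a * b = b * a := by
    intro a ha b hb
    exact congrArg Subtype.val (hA.is_comm.comm (⟨a, ha⟩ : A) ⟨b, hb⟩)
  have hwcbot : (groupFusionSystem (S : Subgroup G)).WeaklyClosed (⊥ : Subgroup G) := by
    refine ⟨bot_le, ?_⟩
    intro φ _
    rw [eq_bot_iff]
    rintro _ ⟨x, rfl⟩
    have hx : x = 1 := Subtype.ext (Subgroup.mem_bot.1 x.2)
    rw [hx, map_one]; exact Subgroup.one_mem _
  have hnorm : (groupFusionSystem (S : Subgroup G)).IsNormal A := by
    apply Cfsg.Agent.Lib.Helper27.isNormal_of_central_series S.2 hsat hSC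
      (fun i => if i = 0 then ⊥ else A) 1 (by simp) (by simp)
    · intro j _
      by_cases h0 : j = 0
      · simp [h0]
      · simp [h0]
    · intro j _
      by_cases h0 : j = 0
      · simp only [h0, if_true]; exact hwcbot
      · simp only [h0, if_false]
        exact Cfsg.Agent.Lib.Helper27.weaklyClosed_of_stronglyClosed hSC
    · intro j hj x hx q hq
      have hj0 : j = 0 := by omega
      subst hj0
      simp only [zero_add, one_ne_zero, if_false] at hx
      simp only [if_true]
      rw [Subgroup.mem_bot, hcomm x hx q hq]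
      group
  refine ⟨S, hsc.1, fun B hB => ⟨hB, fun g hg => ?_⟩⟩
  -- the subgroup generated by `B`
  have hPS : Subgroup.closure B ≤ (S : Subgroup G) := (Subgroup.closure_le _).2 hB
  have hφS : ∀ x : Subgroup.closure B, conjHom (Subgroup.closure B) g x ∈ (S : Subgroup G) := by
    intro x
    have h1 : (Subgroup.closure B).map (MulAut.conj g).toMonoidHom ≤ (S : Subgroup G) := by
      rw [MonoidHom.map_closure, Subgroup.closure_le]
      rintro _ ⟨b, hb, rfl⟩
      exact hg ⟨b, hb, rfl⟩
    exact h1 ⟨x, x.2, rfl⟩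
  have hφ : conjHom (Subgroup.closure B) g ∈ (groupFusionSystem (S : Subgroup G)).Hom (Subgroup.closure B) :=
    ⟨hPS, hφS, g, fun x => rfl⟩
  obtain ⟨ψ, ⟨-, -, k, hk⟩, hψφ, hψA⟩ := hnorm.2 _ _ hφ
  refine ⟨k, ?_, ?_⟩
  · apply Cfsg.Agent.Lib.Helper16.mem_normalizer_of_map_conj_eq
    rintro _ ⟨a, ha, rfl⟩
    rw [← hψA]
    have haPA : a ∈ Subgroup.closure B ⊔ A := (le_sup_right : A ≤ _) ha
    refine ⟨⟨a, haPA⟩, Subgroup.mem_subgroupOf.2 ha, ?_⟩
    rw [hk]; rfl
  · intro a ha
    have haP : a ∈ Subgroup.closure B := Subgroup.subset_closure ha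
    have h1 := hψφ ⟨a, haP⟩
    rw [hk] at h1
    exact h1.symm

end Cfsg.Agent.S2791
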