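import Mathlib
import Cfsg.Statements.S2794
import Cfsg.Agent.H5.QdNoControl2
import Cfsg.Agent.H5.QdFusion3
import Cfsg.Agent.Lib.Helper27.Involves

set_option autoImplicit false
open Cfsg

namespace Cfsg.Agent.S2794

/-- For an odd prime p and a finite group G, the group Qd(p) is not involved in G if and only if in every section K/R of G, for every Sylow p-subgroup S* of K/R, the centre of J(S*) (J generated by the abelian subgroups of largest order) controls strong fusion in K/R. -/
theorem result {G : Type*} [Group G] [Finite G] {p : ℕ} [Fact p.Prime] (hp : p ≠ 2) : ¬ Cfsg.Involves ↥(Cfsg.qd p) G ↔ ∀ (K R : Subgroup G) [hR : (R.subgroupOf K).Normal], ∀ T : Sylow p (K ⧸ R.subgroupOf K), Cfsg.ControlsStrongFusion p (Cfsg.centerThompsonAOf (T : Subgroup (K ⧸ R.subgroupOf K))) := by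
  constructor
  · intro hfree K R hR T
    have hfree' : ¬ Cfsg.Involves ↥(Cfsg.qd p) (↥K ⧸ R.subgroupOf K) := by
      intro h
      exact hfree (Cfsg.Agent.Lib.Helper27.involves_trans h ⟨K, R, hR, ⟨MulEquiv.refl _⟩⟩)
    rw [Cfsg.H5.ZJ.centerThompsonAOf_eq]
    refine ⟨T, Cfsg.H5.ZJ.Z_le, fun A hA => ⟨hA, fun g hg => ?_⟩⟩
    exact Cfsg.H5.QdF.controls_strong_fusion_qdFree_Z hp 0 (dvd_zero p) hfree' T A hA g hg
  · intro h hinv
    obtain ⟨K, R, hR, ⟨e⟩⟩ := hinv
    exact Cfsg.H5.QdNC.not_controls_of_equiv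
      (e.trans (MulEquiv.subgroupCongr (Cfsg.Agent.Lib.Helper16.qd_eq_affSL3 p))) default
      (h K R default)

end Cfsg.Agent.S2794
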