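import Cfsg.Statements.S2799
import Cfsg.Agent.Lib.Helper18.GlaubermanTwoD
import Cfsg.Agent.S1974

set_option autoImplicit false
open Cfsg

namespace Cfsg.Agent.S2799

/-- Let S be a Sylow p-subgroup of the finite group G, J(S) the subgroup generated by the abelian subgroups of S of largest order, and x an element of S lying in the centre of N_G(J(S)). Assume that p is odd, or that x is a p-th power of an element of Z(S), or that the symmetric group of degree 4 is not involved in G. Then x is weakly closed in S with respect to G: every G-conjugate of x that lies in S equals x. -/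
theorem result {G : Type*} [Group G] [Finite G] {p : ℕ} [Fact p.Prime] (S : Sylow p G) (x : G) (hxS : x ∈ (S : Subgroup G)) (hxZ : x ∈ (Subgroup.center ↥(Subgroup.normalizer ((Cfsg.thompsonSubgroupAOf (S : Subgroup G)) : Set G))).map (Subgroup.normalizer ((Cfsg.thompsonSubgroupAOf (S : Subgroup G)) : Set G)).subtype) (h : p ≠ 2 ∨ (∃ z ∈ (S : Subgroup G) ⊓ Subgroup.centralizer ((S : Subgroup G) : Set G), z ^ p = x) ∨ ¬ Cfsg.Involves (Equiv.Perm (Fin 4)) G) : ∀ g : G, g * x * g⁻¹ ∈ (S : Subgroup G) → g * x * g⁻¹ = x := by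
  open Cfsg.Agent.Lib.Helper18.GlaubermanTwo in
  have hxc : x ∈ Subgroup.centralizer ((Subgroup.normalizer
      ((Cfsg.thompsonSubgroupAOf (S : Subgroup G) : Subgroup G) : Set G) : Subgroup G) : Set G) := by
    obtain ⟨c, hc, rfl⟩ := hxZ
    rw [Subgroup.mem_centralizer_iff]
    intro n hn
    have h1 := Subgroup.mem_center_iff.mp hc ⟨n, hn⟩
    exact congrArg Subtype.val h1
  have hSi : ¬ p ∣ (S : Subgroup G).relIndex ⊤ := by
    rw [Subgroup.relIndex_top_right]; exact S.not_dvd_index
  have hmain : (p ≠ 2 ∨ ¬ Cfsg.Involves (Equiv.Perm (Fin 4)) G) →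
      ∀ g : G, g * x * g⁻¹ ∈ (S : Subgroup G) → g * x * g⁻¹ = x := by
    intro h' g hg
    exact weak_closure_J h' ⊤ (S : Subgroup G) le_top S.isPGroup' hSi x
      (Subgroup.mem_inf.mpr ⟨hxS, by rw [top_inf_eq]; exact hxc⟩) g (Subgroup.mem_top g) hg
  rcases h with hp | ⟨z, hz, hzx⟩ | hfree
  · exact hmain (Or.inl hp)
  · intro g hg
    have key := (Cfsg.Agent.S1974.result S (fun P : Subgroup G => Cfsg.thompsonSubgroupAOf P)
      (isConjugacyFunctor_J p) (center_le_J p)
      (fun H T a b c d => hloc_quadratic H T a b c d) _ rfl).1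
    apply key x _ g hg
    refine Subgroup.mem_inf.mpr ⟨?_, hxc⟩
    apply Subgroup.subset_closure
    exact ⟨z, hz, hzx⟩
  · exact hmain (Or.inr hfree)

end Cfsg.Agent.S2799
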