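import Cfsg.Statements.S2805
import Cfsg.Agent.Lib.Helper16.Kieler
import Cfsg.Agent.Lib.Helper16.SylowInf
import Cfsg.Agent.Lib.Helper16.PCore

set_option autoImplicit false
open Cfsg

namespace Cfsg.Agent.S2805

open Cfsg.Agent.Lib.Helper16

theorem kieler_eq {G : Type*} [Group G] [Finite G] {p : ℕ} [Fact p.Prime] {K Q T L : Subgroup G}
    (h : KielerHyp p K Q T) (hLK : L ≤ K)
    (hKL : K ≤ Subgroup.normalizer (L : Set G)) (hSyl : ((T ⊓ L).relIndex L).Coprime p) :
    L ⊓ Subgroup.centralizer (oz p T : Set G) = L ⊓ Subgroup.centralizer (oz p (T ⊓ L) : Set G) :=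
  le_antisymm (le_inf inf_le_left (kieler_le h hLK hKL hSyl))
    (le_inf inf_le_left (kieler_ge h hLK hKL hSyl))

theorem subnormal_main {H : Type*} [Group H] [Finite H] {p : ℕ} [Fact p.Prime]
    (hH : Subgroup.centralizer (Cfsg.pCore p H : Set H) ≤ Cfsg.pCore p H) (T : Sylow p H)
    (L : Subgroup H) (hL : L.IsSubnormal) :
    (∃ Q, KielerHyp p L Q ((T : Subgroup H) ⊓ L)) ∧
      (((T : Subgroup H) ⊓ L).relIndex L).Coprime p ∧
      L ⊓ Subgroup.centralizer (oz p (T : Subgroup H) : Set H)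
        = L ⊓ Subgroup.centralizer (oz p ((T : Subgroup H) ⊓ L) : Set H) := by
  have hp : p.Prime := Fact.out
  induction hL with
  | top =>
    refine ⟨⟨pCore p H, pCore_isPGroup, T.2.to_le inf_le_left, ?_, le_top, ?_, ?_⟩, ?_, ?_⟩
    · exact le_inf (pCore_le_sylow T) le_top
    · haveI : (pCore p H).Normal := Cfsg.pCore_normal p H
      rw [Subgroup.normalizer_eq_top]
    · exact inf_le_right.trans hH
    · rw [inf_top_eq, Subgroup.relIndex_top_right]
      exact ((Nat.Prime.coprime_iff_not_dvd hp).2 T.not_dvd_index).symm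
    · rw [inf_top_eq]
  | step L K hLK hK hN ih =>
    obtain ⟨⟨Q, hQ⟩, hSylK, hEqK⟩ := ih
    have hKL : K ≤ Subgroup.normalizer (L : Set H) :=
      (Subgroup.normal_subgroupOf_iff_le_normalizer hLK).1 hN
    have hinf : ((T : Subgroup H) ⊓ K) ⊓ L = (T : Subgroup H) ⊓ L := by
      rw [inf_assoc, inf_eq_right.2 hLK]
    have hSylL : ((((T : Subgroup H) ⊓ K) ⊓ L).relIndex L).Coprime p := by
      rw [Subgroup.inf_relIndex_right]
      have h1 := relIndex_dvd_index_of_normal_right' (((T : Subgroup H) ⊓ K).subgroupOf K)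
        (L.subgroupOf K)
      rw [Subgroup.relIndex_subgroupOf hLK] at h1
      have h2 : (((T : Subgroup H) ⊓ K).subgroupOf K).index = ((T : Subgroup H) ⊓ K).relIndex K := rfl
      rw [h2] at h1
      exact Nat.Coprime.coprime_dvd_left h1 hSylK
    obtain ⟨QL, hQL, -⟩ := kieler_charp hQ hLK hKL hSylL
    have hEqL := kieler_eq hQ hLK hKL hSylL
    rw [hinf] at hQL hSylL hEqL
    refine ⟨⟨QL, hQL⟩, hSylL, ?_⟩
    rw [← hEqL]
    -- L ⊓ C(oz T) = L ⊓ (K ⊓ C(oz T)) = L ⊓ (K ⊓ C(oz (T ⊓ K)))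
    have h1 : L ⊓ Subgroup.centralizer (oz p (T : Subgroup H) : Set H)
        = L ⊓ (K ⊓ Subgroup.centralizer (oz p (T : Subgroup H) : Set H)) := by
      rw [← inf_assoc, inf_eq_left.2 hLK]
    have h2 : L ⊓ Subgroup.centralizer (oz p ((T : Subgroup H) ⊓ K) : Set H)
        = L ⊓ (K ⊓ Subgroup.centralizer (oz p ((T : Subgroup H) ⊓ K) : Set H)) := by
      rw [← inf_assoc, inf_eq_left.2 hLK]
    rw [h1, h2, hEqK]

/-- Kieler's Lemma: let H be a finite group of characteristic p (C_H(O_p(H)) ≤ O_p(H)), T a Sylow p-subgroup of H and L a subnormal subgroup of H. Then C_L(Ω₁(Z(T))) = C_L(Ω₁(Z(T ∩ L))), Ω₁(Z(·)) denoting the elements of order dividing p in the centre. -/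
theorem result {H : Type*} [Group H] [Finite H] {p : ℕ} [Fact p.Prime] (hH : Subgroup.centralizer (Cfsg.pCore p H : Set H) ≤ Cfsg.pCore p H) (T : Sylow p H) (L : Subgroup H) (hL : L.IsSubnormal) : L ⊓ Subgroup.centralizer ((Cfsg.omegaOne p ((T : Subgroup H) ⊓ Subgroup.centralizer ((T : Subgroup H) : Set H))) : Set H) = L ⊓ Subgroup.centralizer ((Cfsg.omegaOne p (((T : Subgroup H) ⊓ L) ⊓ Subgroup.centralizer ((((T : Subgroup H) ⊓ L) : Subgroup H) : Set H))) : Set H) := by
  exact (subnormal_main hH T L hL).2.2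

end Cfsg.Agent.S2805
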