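import Cfsg.Statements.S2807
import Mathlib
import Cfsg.Agent.S2792

set_option autoImplicit false
open Cfsg

namespace Cfsg.Agent.S2807

open Subgroup Cfsg.Agent.Lib.Helper17 Cfsg.Agent.Lib.Helper1

universe u

theorem map_commIter {X Y : Type*} [Group X] [Group Y] (φ : X →* Y) (z x : X) (k : ℕ) :
    φ ((fun y : X => y⁻¹ * z⁻¹ * y * z)^[k] x) =
      (fun y : Y => y⁻¹ * (φ z)⁻¹ * y * φ z)^[k] (φ x) := by
  induction k with
  | zero => rfl
  | succ k ih =>
    rw [Function.iterate_succ_apply', Function.iterate_succ_apply', ← ih]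
    simp

/-- A finite `p`-group containing a nontrivial iterated commutator `[v, g; k+1]` has order at
least `p ^ (k + 3)`. -/
theorem card_ge_of_commIter_ne_one {p : ℕ} [hp : Fact p.Prime] :
    ∀ (k : ℕ) {X : Type u} [Group X] [Finite X], IsPGroup p X → ∀ (v g : X),
      (fun y : X => y⁻¹ * g⁻¹ * y * g)^[k + 1] v ≠ 1 → p ^ (k + 3) ≤ Nat.card X := by
  intro k
  induction k with
  | zero =>
    intro X _ _ hX v g hne
    obtain ⟨n, hn⟩ := hX.exists_card_eq
    have hn3 : 3 ≤ n := by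
      by_contra hlt
      push Not at hlt
      apply hne
      have hcomm : ∀ a b : X, a * b = b * a := by
        interval_cases n
        · have hc : Nat.card X = 1 := by simpa using hn
          have : Subsingleton X := (Nat.card_eq_one_iff_unique.mp hc).1
          intro a b; exact Subsingleton.elim _ _
        · have hc : Nat.card X = p := by simpa using hn
          have := isCyclic_of_prime_card hc
          intro a b; exact (IsCyclic.isMulCommutative (α := X)).is_comm.comm a b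
        · exact (IsPGroup.isMulCommutative_of_card_eq_prime_sq hn).is_comm.comm
      simp only [zero_add, Function.iterate_one]
      rw [mul_assoc v⁻¹, hcomm g⁻¹ v, ← mul_assoc, inv_mul_cancel, one_mul, inv_mul_cancel]
    rw [hn]
    exact Nat.pow_le_pow_right hp.out.pos hn3
  | succ k ih =>
    intro X _ _ hX v g hne
    have hnt : Nontrivial X := ⟨⟨_, 1, hne⟩⟩
    have hZnt : Nontrivial (Subgroup.center X) := hX.center_nontrivial
    have hX' : IsPGroup p (X ⧸ Subgroup.center X) := hX.to_quotient _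
    have hne' : (fun y : X ⧸ Subgroup.center X =>
        y⁻¹ * (QuotientGroup.mk' (Subgroup.center X) g)⁻¹ * y *
          QuotientGroup.mk' (Subgroup.center X) g)^[k + 1]
        (QuotientGroup.mk' (Subgroup.center X) v) ≠ 1 := by
      intro h1
      rw [← map_commIter (QuotientGroup.mk' (Subgroup.center X)) g v (k + 1)] at h1
      have hz : (fun y : X => y⁻¹ * g⁻¹ * y * g)^[k + 1] v ∈ Subgroup.center X :=
        (QuotientGroup.eq_one_iff _).mp h1
      apply hne
      rw [Function.iterate_succ_apply']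
      have hc := Subgroup.mem_center_iff.mp hz g⁻¹
      show ((fun y : X => y⁻¹ * g⁻¹ * y * g)^[k + 1] v)⁻¹ * g⁻¹ *
        ((fun y : X => y⁻¹ * g⁻¹ * y * g)^[k + 1] v) * g = 1
      rw [mul_assoc _ g⁻¹, hc, ← mul_assoc, inv_mul_cancel, one_mul, inv_mul_cancel]
    have h1 := ih hX' _ _ hne'
    have h2 : p ≤ Nat.card (Subgroup.center X) := by
      obtain ⟨m, hm⟩ := (hX.to_subgroup (Subgroup.center X)).exists_card_eq
      have hm0 : m ≠ 0 := by
        rintro rfl
        have := Finite.one_lt_card (α := Subgroup.center X)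
        rw [hm, pow_zero] at this
        exact lt_irrefl _ this
      rw [hm]
      exact Nat.le_self_pow hm0 p
    have h3 : Nat.card X = Nat.card (X ⧸ Subgroup.center X) * Nat.card (Subgroup.center X) :=
      Subgroup.card_eq_card_quotient_mul_card_subgroup _
    rw [h3, show k + 1 + 3 = (k + 3) + 1 by ring, pow_succ]
    exact Nat.mul_le_mul h1 h2

theorem factorization_factorial_sq {p : ℕ} [hp : Fact p.Prime] :
    ((p ^ 2).factorial).factorization p = p + 1 := by
  rw [Nat.factorization_def _ hp.out, sq, padicValNat_factorial_mul]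
  have h1 := padicValNat_factorial_mul (p := p) 1
  rw [mul_one] at h1
  rw [h1]
  simp [add_comm]

/-- Let S be a Sylow p-subgroup of the finite group G. If S ∩ G' ≠ S ∩ (N_G(S))' (derived subgroups), then the wreath product Z_p ≀ Z_p — realised as a Sylow p-subgroup of the symmetric group of degree p² — is a homomorphic image of S. -/
theorem result {G : Type*} [Group G] [Finite G] {p : ℕ} [Fact p.Prime] (S : Sylow p G) (h : (S : Subgroup G) ⊓ commutator G ≠ (S : Subgroup G) ⊓ ⁅Subgroup.normalizer ((S : Subgroup G) : Set G), Subgroup.normalizer ((S : Subgroup G) : Set G)⁆) : ∃ (P : Sylow p (Equiv.Perm (Fin (p ^ 2)))) (f : ↥(S : Subgroup G) →* ↥(P : Subgroup (Equiv.Perm (Fin (p ^ 2))))), Function.Surjective f := by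
  classical
  have hp : p.Prime := Fact.out
  have hweak : IsWeaklyClosed (S : Subgroup G) (S : Subgroup G) :=
    ⟨le_rfl, fun g hg => Cfsg.Agent.Lib.Helper9.conjMap_eq_of_le hg⟩
  obtain ⟨x, hx, z, hz, S₀, hS₀co, hcS₀, hcΦ⟩ :=
    Cfsg.Agent.S2792.result S (S : Subgroup G) hweak h
  obtain ⟨c₁, hc₁, hc₁c⟩ := hcS₀
  have hc₀Φ : (⟨c₁, hc₁⟩ : S₀) ∉ frattini ↥S₀ :=
    fun hmem => hcΦ ⟨c₁, ⟨⟨c₁, hc₁⟩, hmem, rfl⟩, hc₁c⟩
  obtain ⟨K, hKco, hcK⟩ : ∃ K : Subgroup ↥S₀, IsCoatom K ∧ (⟨c₁, hc₁⟩ : S₀) ∉ K := by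
    by_contra hall
    push Not at hall
    apply hc₀Φ
    have : zpowers (⟨c₁, hc₁⟩ : S₀) ≤ frattini ↥S₀ := by
      rw [le_frattini_iff]
      intro M hM
      rw [zpowers_le]
      exact hall M hM
    exact this (mem_zpowers _)
  have hSp : IsPGroup p ↥(S : Subgroup G) := S.2
  have hS₀p : IsPGroup p ↥S₀ := hSp.to_subgroup S₀
  have hS₀i : S₀.index = p := IsPGroup.index_of_isCoatom hSp hS₀co
  have hKi : K.index = p := IsPGroup.index_of_isCoatom hS₀p hKco
  let K' : Subgroup ↥(S : Subgroup G) := K.map S₀.subtype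
  have hK'i : K'.index = p ^ 2 := by
    rw [Subgroup.index_map_subtype, hKi, hS₀i, sq]
  have hcK' : c₁ ∉ K' := by
    rintro ⟨k, hk, hkc⟩
    apply hcK
    have : k = ⟨c₁, hc₁⟩ := Subtype.ext hkc
    rw [← this]; exact hk
  have hcardΩ : Nat.card (↥(S : Subgroup G) ⧸ K') = p ^ 2 := by
    rw [← Subgroup.index_eq_card]; exact hK'i
  let e : (↥(S : Subgroup G) ⧸ K') ≃ Fin (p ^ 2) := Finite.equivFinOfCardEq hcardΩ
  let ρ : ↥(S : Subgroup G) →* Equiv.Perm (Fin (p ^ 2)) :=
    (Equiv.permCongrHom e).toMonoidHom.comp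
      (MulAction.toPermHom ↥(S : Subgroup G) (↥(S : Subgroup G) ⧸ K'))
  have hρc : ρ c₁ ≠ 1 := by
    intro h1
    apply hcK'
    have h2 : MulAction.toPermHom ↥(S : Subgroup G) (↥(S : Subgroup G) ⧸ K') c₁ = 1 :=
      (Equiv.permCongrHom e).injective (h1.trans (map_one _).symm)
    have h3 : c₁ • ((1 : ↥(S : Subgroup G)) : ↥(S : Subgroup G) ⧸ K') =
        ((1 : ↥(S : Subgroup G)) : ↥(S : Subgroup G) ⧸ K') := by
      have := congrArg (fun σ => σ ((1 : ↥(S : Subgroup G)) : ↥(S : Subgroup G) ⧸ K')) h2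
      simpa using this
    rw [MulAction.Quotient.smul_mk, smul_eq_mul, mul_one] at h3
    have := QuotientGroup.eq.mp h3.symm
    simpa using this
  have hXp : IsPGroup p ρ.range :=
    hSp.of_surjective ρ.rangeRestrict ρ.rangeRestrict_surjective
  have hφc : ρ.rangeRestrict c₁ ≠ 1 := by
    intro h1
    apply hρc
    have := congrArg Subtype.val h1
    simpa using this
  have hcS : (fun y : ↥(S : Subgroup G) => y⁻¹ * (⟨z, hz⟩ : ↥(S : Subgroup G))⁻¹ * y * ⟨z, hz⟩)^[p - 1]
      ⟨x, hx⟩ = c₁ := by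
    apply Subtype.ext
    rw [commIter_subtype]
    exact hc₁c.symm
  obtain ⟨k, hk⟩ : ∃ k, p - 1 = k + 1 := ⟨p - 2, by have := hp.two_le; omega⟩
  have hne : (fun y : ρ.range => y⁻¹ * (ρ.rangeRestrict ⟨z, hz⟩)⁻¹ * y *
      ρ.rangeRestrict ⟨z, hz⟩)^[k + 1] (ρ.rangeRestrict ⟨x, hx⟩) ≠ 1 := by
    rw [← map_commIter ρ.rangeRestrict ⟨z, hz⟩ ⟨x, hx⟩ (k + 1), ← hk, hcS]
    exact hφc
  have hcard := card_ge_of_commIter_ne_one k hXp _ _ hne
  obtain ⟨P, hP⟩ := hXp.exists_le_sylow
  have hPcard : Nat.card P = p ^ (p + 1) := by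
    rw [Sylow.card_eq_multiplicity, Nat.card_perm, Nat.card_fin, factorization_factorial_sq]
  have heq : ρ.range = (P : Subgroup (Equiv.Perm (Fin (p ^ 2)))) := by
    apply Subgroup.eq_of_le_of_card_ge hP
    rw [hPcard]
    have : k + 3 = p + 1 := by omega
    rw [← this]
    exact hcard
  refine ⟨P, ρ.codRestrict (P : Subgroup (Equiv.Perm (Fin (p ^ 2)))) (fun s => hP ⟨s, rfl⟩), ?_⟩
  rintro ⟨y, hy⟩
  have hy' : y ∈ ρ.range := heq ▸ hy
  obtain ⟨s, rfl⟩ := hy'
  exact ⟨s, rfl⟩

end Cfsg.Agent.S2807
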