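import Cfsg.Statements.S2809
import Cfsg.Agent.Lib.Helper16.NilAction

set_option autoImplicit false
open Cfsg

namespace Cfsg.Agent.S2809

open Cfsg.Agent.Lib.Helper16
open scoped commutatorElement

/-- Let H be a finite group, p a prime, R a p-subgroup of H with C_H(R) ≤ R, and L a subgroup of N_H(R) acting nilpotently on R (some iterated commutator [R, L, …, L] is trivial). Then L is a p-group. -/
theorem result {H : Type*} [Group H] [Finite H] {p : ℕ} [Fact p.Prime] (R : Subgroup H) (hR : IsPGroup p ↥R) (hC : Subgroup.centralizer (R : Set H) ≤ R) (L : Subgroup H) (hL : L ≤ Subgroup.normalizer (R : Set H)) (hnil : ∃ n : ℕ, Cfsg.iterCommutator R L n = ⊥) : IsPGroup p ↥L := by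
  obtain ⟨n, hn⟩ := hnil
  have hle : ∀ i, iterCommutator R L i ≤ R := by
    intro i
    induction i with
    | zero => exact le_rfl
    | succ i ih =>
      show ⁅iterCommutator R L i, L⁆ ≤ R
      rw [Subgroup.commutator_le]
      intro a ha b hb
      have h1 : b * a⁻¹ * b⁻¹ ∈ R := (Subgroup.mem_normalizer_iff.1 (hL hb) a⁻¹).1 (R.inv_mem (ih ha))
      have : ⁅a, b⁆ = a * (b * a⁻¹ * b⁻¹) := by simp [commutatorElement_def, mul_assoc]
      rw [this]; exact R.mul_mem (ih ha) h1
  apply isPGroup_of_pprime_centralize R hR hC L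
  intro x hx hcop
  apply centralizes_of_chain R hR (iterCommutator R L) n rfl hn hle x hcop
  intro i r hr
  show r⁻¹ * x * r * x⁻¹ ∈ ⁅iterCommutator R L i, L⁆
  have := Subgroup.commutator_mem_commutator (Subgroup.inv_mem _ hr) hx
  simpa [commutatorElement_def] using this

end Cfsg.Agent.S2809
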