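import Cfsg.Statements.S2810
import Cfsg.Agent.Lib.Helper16.NilAction
import Cfsg.Agent.Lib.Helper16.PCore

set_option autoImplicit false
open Cfsg

namespace Cfsg.Agent.S2810

open Cfsg.Agent.Lib.Helper16
open scoped commutatorElement

/-- the stabilizer of a normal chain -/
def chainStab {H : Type*} [Group H] (n : ℕ) (A : Fin (n + 1) → Subgroup H) (hnorm : ∀ i, (A i).Normal) :
    Subgroup H where
  carrier := {g | ∀ i : Fin n, ∀ a ∈ A i.succ, a * g * a⁻¹ * g⁻¹ ∈ A i.castSucc}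
  one_mem' := by
    intro i a _
    simp
  mul_mem' := by
    intro g h hg hh i a ha
    have h1 := hg i a ha
    have h2 := (hnorm i.castSucc).conj_mem _ (hh i a ha) g
    have : a * (g * h) * a⁻¹ * (g * h)⁻¹ = (a * g * a⁻¹ * g⁻¹) * (g * (a * h * a⁻¹ * h⁻¹) * g⁻¹) := by group
    rw [this]; exact (A i.castSucc).mul_mem h1 h2
  inv_mem' := by
    intro g hg i a ha
    have h1 := (A i.castSucc).inv_mem (hg i a ha)
    have h2 := (hnorm i.castSucc).conj_mem _ h1 g⁻¹
    have : a * g⁻¹ * a⁻¹ * g⁻¹⁻¹ = g⁻¹ * (a * g * a⁻¹ * g⁻¹)⁻¹ * g⁻¹⁻¹ := by group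
    rw [this]; exact h2

theorem chainStab_normal {H : Type*} [Group H] (n : ℕ) (A : Fin (n + 1) → Subgroup H)
    (hnorm : ∀ i, (A i).Normal) : (chainStab n A hnorm).Normal := by
  constructor
  intro g hg h i a ha
  have ha' : h⁻¹ * a * h⁻¹⁻¹ ∈ A i.succ := (hnorm i.succ).conj_mem a ha h⁻¹
  have h1 := hg i _ ha'
  have h2 := (hnorm i.castSucc).conj_mem _ h1 h
  have : a * (h * g * h⁻¹) * a⁻¹ * (h * g * h⁻¹)⁻¹ =
      h * (h⁻¹ * a * h⁻¹⁻¹ * g * (h⁻¹ * a * h⁻¹⁻¹)⁻¹ * g⁻¹) * h⁻¹ := by group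
  rw [this]; exact h2

/-- Let H be a finite group of characteristic p and L a subgroup of H centralizing every factor of some H-invariant chain 1 = A₀ ≤ A₁ ≤ … ≤ Aₙ = O_p(H) of normal subgroups (that is, [A_{i+1}, L] ≤ Aᵢ for each i). Then L ≤ O_p(H). -/
theorem result {H : Type*} [Group H] [Finite H] {p : ℕ} [Fact p.Prime] (hchar : Subgroup.centralizer (Cfsg.pCore p H : Set H) ≤ Cfsg.pCore p H) (L : Subgroup H) (n : ℕ) (A : Fin (n + 1) → Subgroup H) (h0 : A 0 = ⊥) (hn : A (Fin.last n) = Cfsg.pCore p H) (hmono : Monotone A) (hnorm : ∀ i, (A i).Normal) (hcent : ∀ i : Fin n, ⁅A i.succ, L⁆ ≤ A i.castSucc) : L ≤ Cfsg.pCore p H := by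
  have hLC : L ≤ chainStab n A hnorm := by
    intro g hg i a ha
    have := hcent i (Subgroup.commutator_mem_commutator ha hg)
    simpa [commutatorElement_def] using this
  refine hLC.trans (le_pCore _ (chainStab_normal n A hnorm) ?_)
  -- the chain stabilizer is a p-group
  let A' : ℕ → Subgroup H := fun k => A ⟨min k n, by omega⟩
  have hA'0 : A' 0 = ⊥ := by
    show A ⟨min 0 n, _⟩ = ⊥
    have : (⟨min 0 n, by omega⟩ : Fin (n + 1)) = 0 := by ext; simp
    rw [this, h0]
  have hA'n : A' n = pCore p H := by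
    show A ⟨min n n, _⟩ = _
    have : (⟨min n n, by omega⟩ : Fin (n + 1)) = Fin.last n := by ext; simp
    rw [this, hn]
  have hA'le : ∀ k, A' k ≤ pCore p H := by
    intro k
    rw [← hn]
    apply hmono
    exact Fin.le_last _
  apply isPGroup_of_pprime_centralize (pCore p H) pCore_isPGroup hchar
  intro x hx hcop
  apply centralizes_of_chain (pCore p H) pCore_isPGroup (fun j => A' (n - j)) n
    (by simp only [Nat.sub_zero]; exact hA'n) (by simp only [Nat.sub_self]; exact hA'0)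
    (fun j => hA'le _) x hcop
  intro j r hr
  rcases Nat.eq_zero_or_pos (n - j) with hz | hpos
  · rw [hz, hA'0, Subgroup.mem_bot] at hr
    rw [hr]; simp
  · obtain ⟨k, hk⟩ : ∃ k, n - j = k + 1 := ⟨_, (Nat.succ_pred_eq_of_pos hpos).symm⟩
    have hkn : k < n := by omega
    have hidx : n - (j + 1) = k := by omega
    rw [hidx]
    rw [hk] at hr
    have e1 : A' (k + 1) = A (⟨k, hkn⟩ : Fin n).succ := by
      show A ⟨min (k + 1) n, _⟩ = _
      congr 1; ext; simp; omega
    have e2 : A' k = A (⟨k, hkn⟩ : Fin n).castSucc := by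
      show A ⟨min k n, _⟩ = _
      congr 1; ext; simp; omega
    rw [e1] at hr
    rw [e2]
    have := hx ⟨k, hkn⟩ r⁻¹ (Subgroup.inv_mem _ hr)
    simpa using this

end Cfsg.Agent.S2810
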