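import Cfsg.Statements.S2813
import Cfsg.Agent.Lib.Helper17.Basic

set_option autoImplicit false
open Cfsg

namespace Cfsg.Agent.S2813

open Cfsg.Agent.Lib.Helper17
open scoped commutatorElement

/-- Let K be a subgroup of the finite group H with O_p(K) = 1 and Y a p-subgroup of N_H(K) with [K, Y, Y] = 1. Then [K, Y] = 1. -/
theorem result {H : Type*} [Group H] [Finite H] {p : ℕ} [Fact p.Prime] (K : Subgroup H) (hO : Cfsg.pCore p ↥K = ⊥) (Y : Subgroup H) (hY : IsPGroup p ↥Y) (hYK : Y ≤ Subgroup.normalizer (K : Set H)) (hq : ⁅⁅K, Y⁆, Y⁆ = ⊥) : ⁅K, Y⁆ = ⊥ := by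
  set M : Subgroup H := ⁅K, Y⁆ with hM
  -- Y centralizes M
  have hYC : Y ≤ Subgroup.centralizer (M : Set H) := by
    rw [← Subgroup.commutator_eq_bot_iff_le_centralizer, Subgroup.commutator_comm]
    exact hq
  -- K normalizes the centralizer of M
  have hKN : K ≤ Subgroup.normalizer (M : Set H) := Subgroup.normalizer_commutator_ge_left K Y
  have hKNC : K ≤ Subgroup.normalizer (Subgroup.centralizer (M : Set H) : Set H) :=
    hKN.trans (normalizer_le_normalizer_centralizer M)
  -- M ≤ C(M)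
  have hMC : M ≤ Subgroup.centralizer (M : Set H) := by
    rw [hM, Subgroup.commutator_le]
    intro k hk y hy
    have h1 : k * y * k⁻¹ ∈ Subgroup.centralizer (M : Set H) := by
      have := hKNC hk
      rw [Subgroup.mem_normalizer_iff] at this
      exact (this y).mp (hYC hy)
    have : ⁅k, y⁆ = (k * y * k⁻¹) * y⁻¹ := by simp [commutatorElement_def]
    rw [this]
    exact Subgroup.mul_mem _ h1 (Subgroup.inv_mem _ (hYC hy))
  have hcomm : ∀ a ∈ M, ∀ b ∈ M, a * b = b * a := by
    intro a ha b hb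
    have := hMC hb
    rw [Subgroup.mem_centralizer_iff] at this
    exact this a ha
  -- commutators [k, y^n] = [k, y]^n
  have hpow : ∀ k ∈ K, ∀ y ∈ Y, ∀ n : ℕ, ⁅k, y ^ n⁆ = ⁅k, y⁆ ^ n := by
    intro k hk y hy n
    induction n with
    | zero => simp
    | succ n ih =>
      rw [pow_succ', commutatorElement_mul_right_eq_mul_conj, ih, pow_succ']
      have hmem : ⁅k, y⁆ ^ n ∈ M := Subgroup.pow_mem _ (Subgroup.commutator_mem_commutator hk hy) n
      have := hYC hy
      rw [Subgroup.mem_centralizer_iff] at this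
      have h2 := this _ hmem
      calc ⁅k, y⁆ * y * ⁅k, y⁆ ^ n * y⁻¹ = ⁅k, y⁆ * (y * ⁅k, y⁆ ^ n) * y⁻¹ := by group
        _ = ⁅k, y⁆ * (⁅k, y⁆ ^ n * y) * y⁻¹ := by rw [h2]
        _ = ⁅k, y⁆ * ⁅k, y⁆ ^ n := by group
  have hMp : IsPGroup p M := by
    rw [hM, Subgroup.commutator_def]
    apply isPGroup_closure_of_comm
    · rw [← Subgroup.commutator_def]
      exact hcomm
    · rintro _ ⟨k, hk, y, hy, rfl⟩
      obtain ⟨n, hn⟩ := hY ⟨y, hy⟩
      refine ⟨n, ?_⟩
      rw [← hpow k hk y hy]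
      have : y ^ p ^ n = 1 := by
        have := congrArg Subtype.val hn
        simpa using this
      rw [this]
      simp
  have hMK : M ≤ K := Subgroup.le_normalizer_iff_commutator_le_left.mp hYK
  exact eq_bot_of_pCore_eq_bot hO hMK hKN hMp

end Cfsg.Agent.S2813
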