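import Cfsg.Statements.S2814
import Cfsg.Agent.Lib.Helper17.SubnormalClosure
import Cfsg.Agent.Lib.Helper17.PResidual
import Cfsg.Agent.Lib.Helper17.CoprimeGen

set_option autoImplicit false
open Cfsg

namespace Cfsg.Agent.S2814

open Cfsg.Agent.Lib.Helper17
open scoped Pointwise commutatorElement

/-- Let A be a subgroup of the finite group H and K the subnormal closure of A (intersection of the subnormal subgroups containing A). Then K is the normal closure of A inside K and N_H(A) ≤ N_H(K); K = A·O^p(K), O^p(K) being generated by the elements of K of order prime to p; and if A is a p-group, O^p(K) = [O^p(K), A]. -/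
theorem result {H : Type*} [Group H] [Finite H] {p : ℕ} [Fact p.Prime] (A : Subgroup H) (K : Subgroup H) (hK : K = Cfsg.subnormalClosure A) : (Subgroup.normalClosure ((A.subgroupOf K : Subgroup ↥K) : Set ↥K)).map K.subtype = K ∧ Subgroup.normalizer (A : Set H) ≤ Subgroup.normalizer (K : Set H) ∧ A ⊔ (Cfsg.pResidual p ↥K).map K.subtype = K ∧ (IsPGroup p ↥A → ⁅(Cfsg.pResidual p ↥K).map K.subtype, A⁆ = (Cfsg.pResidual p ↥K).map K.subtype) := by
  subst hK
  have hAK : A ≤ subnormalClosure A := le_subnormalClosure A
  set A' : Subgroup ↥(subnormalClosure A) := A.subgroupOf (subnormalClosure A) with hA'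
  set R' : Subgroup ↥(subnormalClosure A) := pResidual p ↥(subnormalClosure A) with hR'
  haveI hR'n : R'.Normal := pResidual_normal
  have hA'map : A'.map (subnormalClosure A).subtype = A := by
    rw [hA', Subgroup.subgroupOf_map_subtype, inf_of_le_left hAK]
  have htopmap : (⊤ : Subgroup ↥(subnormalClosure A)).map (subnormalClosure A).subtype =
      subnormalClosure A := by
    rw [← MonoidHom.range_eq_map, Subgroup.range_subtype]
  have ha : Subgroup.normalClosure (A' : Set ↥(subnormalClosure A)) = ⊤ :=
    eq_top_of_isSubnormal_of_le A _ (Subgroup.normalClosure_normal.isSubnormal)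
      Subgroup.le_normalClosure
  have hc : A' ⊔ R' = ⊤ := by
    apply eq_top_of_isSubnormal_of_le A _ ?_ le_sup_left
    have : A' ⊔ R' = (A'.map (QuotientGroup.mk' R')).comap (QuotientGroup.mk' R') := by
      rw [Subgroup.comap_map_eq, QuotientGroup.ker_mk']
    rw [this]
    apply Subgroup.IsSubnormal.comap
    exact isSubnormal_of_isPGroup (quotient_pResidual_isPGroup (p := p)) _
  refine ⟨?_, normalizer_le_normalizer_subnormalClosure A, ?_, ?_⟩
  · rw [ha, htopmap]
  · have := congrArg (Subgroup.map (subnormalClosure A).subtype) hc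
    rw [Subgroup.map_sup, hA'map, htopmap] at this
    exact this
  · intro hAp
    have hA'p : IsPGroup p A' := hAp.comap_subtype
    set R₀ : Subgroup ↥(subnormalClosure A) := ⁅R', A'⁆ with hR₀
    have hR₀le : R₀ ≤ R' := Subgroup.commutator_le_left R' A'
    haveI hR₀n : R₀.Normal :=
      normal_of_le_normalizer_of_sup_eq_top (le_normalizer_commutator_right R' A')
        (le_normalizer_commutator_left R' A') hc
    -- B' := A' ⊔ R₀ is normal
    have hB'n : (A' ⊔ R₀).Normal := by
      apply normal_of_le_normalizer_of_sup_eq_top (A := A') (B := R') _ _ hc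
      · exact le_sup_left.trans Subgroup.le_normalizer
      · intro r hr
        apply mem_normalizer_of_map_conj_le
        rw [Subgroup.map_sup]
        apply sup_le
        · rintro _ ⟨a, ha, rfl⟩
          have h1 : ⁅r, a⁆ ∈ R₀ := Subgroup.commutator_mem_commutator hr ha
          have e : (MulAut.conj r).toMonoidHom a = ⁅r, a⁆ * a := by
            simp only [MulEquiv.coe_toMonoidHom, MulAut.conj_apply, commutatorElement_def]
            group
          rw [e]
          exact Subgroup.mul_mem _ ((le_sup_right : R₀ ≤ A' ⊔ R₀) h1)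
            ((le_sup_left : A' ≤ A' ⊔ R₀) ha)
        · rintro _ ⟨x, hx, rfl⟩
          apply (le_sup_right : R₀ ≤ A' ⊔ R₀)
          simp only [MulEquiv.coe_toMonoidHom, MulAut.conj_apply]
          exact hR₀n.conj_mem x hx r
    have hB'top : A' ⊔ R₀ = ⊤ :=
      eq_top_of_isSubnormal_of_le A _ hB'n.isSubnormal le_sup_left
    have hquot : IsPGroup p (↥(subnormalClosure A) ⧸ R₀) := by
      intro y
      obtain ⟨k, rfl⟩ := QuotientGroup.mk_surjective y
      have hk : k ∈ ((A' ⊔ R₀ : Subgroup ↥(subnormalClosure A)) : Set ↥(subnormalClosure A)) := by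
        rw [hB'top]; exact Set.mem_univ k
      rw [Subgroup.mul_normal] at hk
      obtain ⟨a, ha, r₀, hr₀, rfl⟩ := Set.mem_mul.mp hk
      obtain ⟨j, hj⟩ := hA'p ⟨a, ha⟩
      refine ⟨j, ?_⟩
      have h1 : ((a * r₀ : ↥(subnormalClosure A)) : ↥(subnormalClosure A) ⧸ R₀) =
          ((a : ↥(subnormalClosure A)) : ↥(subnormalClosure A) ⧸ R₀) := by
        rw [QuotientGroup.eq]
        have : (a * r₀)⁻¹ * a = r₀⁻¹ := by group
        rw [this]
        exact R₀.inv_mem hr₀
      rw [h1, ← QuotientGroup.mk_pow]
      have h2 : a ^ p ^ j = 1 := by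
        have := congrArg Subtype.val hj
        simpa using this
      rw [h2]; rfl
    have hle : R' ≤ R₀ := pResidual_le_of_quotient_isPGroup hquot
    have heq : R₀ = R' := le_antisymm hR₀le hle
    have := congrArg (Subgroup.map (subnormalClosure A).subtype) heq
    rw [hR₀, Subgroup.map_commutator, hA'map] at this
    exact this

end Cfsg.Agent.S2814
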