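import Cfsg.Statements.S2906
import Cfsg.Agent.S2905
import Cfsg.Agent.S0542
import Cfsg.Agent.Lib.Helper1.CoprimeSylow
import Cfsg.Agent.Lib.Helper9.Layer3
import Cfsg.Agent.Lib.Helper9.Misc
import Cfsg.Agent.Lib.Helper10.PComponent2
import Cfsg.Agent.Lib.Helper16.PMinimal
import Cfsg.Agent.Lib.Helper17.Subnormal
import Cfsg.Agent.Lib.Helper17.StrongPEmb

set_option autoImplicit false
open Cfsg

namespace Cfsg.Agent.S2906

open Cfsg.Agent.Lib.Helper17 Cfsg.Agent.Lib.Helper16 Cfsg.Agent.Lib.Helper9 Cfsg.Agent.S2905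

section

universe u

variable {P : Type u} [Group P] [Finite P] {p : ℕ} [Fact p.Prime]

/-- A subnormal `p`-subgroup of a group with `O_p = 1` is trivial. -/
theorem eq_bot_of_subnormal_pgroup (hOp : Cfsg.pCore p P = ⊥) {A : Subgroup P} (hA : A.IsSubnormal)
    (hAp : IsPGroup p A) : A = ⊥ := by
  obtain ⟨Q, hQn, hQp, hAQ⟩ := exists_normal_pgroup_ge_of_isSubnormal hA hAp
  have := hAQ.trans (Cfsg.Agent.Lib.Helper16.le_pCore Q hQn hQp)
  rwa [hOp, le_bot_iff] at this

/-- A normal `p'`-subgroup of a `p`-minimal group inside the maximal subgroup `M ≥ S` is nilpotent. -/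
theorem nilpotent_of_normal_le (hP : Cfsg.IsPMinimal p P) (S : Sylow p P) (M : Subgroup P)
    (hM : IsCoatom M) (hSM : (S : Subgroup P) ≤ M) (N : Subgroup P) [hNn : N.Normal] (hNM : N ≤ M)
    (hNp : (Nat.card N).Coprime p) : Group.IsNilpotent ↥N := by
  have hp : p.Prime := Fact.out
  have hact : Cfsg.Agent.Lib.Helper1.CoprimeAct (S : Subgroup P) N := by
    refine ⟨?_, ?_, Or.inl ?_⟩
    · intro s _
      rw [Subgroup.normalizer_eq_top]
      exact Subgroup.mem_top s
    · obtain ⟨k, hk⟩ := IsPGroup.iff_card.mp S.2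
      rw [hk]
      exact Nat.Coprime.pow_left k hNp.symm
    · haveI := S.2.isNilpotent
      infer_instance
  have key : ∀ (q : ℕ) [Fact q.Prime] (T : Sylow q ↥N), (T : Subgroup ↥N).Normal := by
    intro q _ T
    obtain ⟨T₀, hT₀⟩ := hact.exists_invariant_sylow q
    have hfr := Sylow.normalizer_sup_eq_top T₀
    have htop : Subgroup.normalizer (((T₀ : Subgroup ↥N).map N.subtype : Subgroup P) : Set P) = ⊤ := by
      by_contra hne
      have h1 := le_of_sylow_le hP S M hM hSM _ hT₀ hne
      apply hM.1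
      rw [eq_top_iff, ← hfr]
      exact sup_le h1 hNM
    have hT₀n : ((T₀ : Subgroup ↥N).map N.subtype).Normal := Subgroup.normalizer_eq_top_iff.mp htop
    have hT₀n' : (T₀ : Subgroup ↥N).Normal := by
      have h2 : (T₀ : Subgroup ↥N) = ((T₀ : Subgroup ↥N).map N.subtype).comap N.subtype :=
        (Subgroup.comap_map_eq_self_of_injective N.subtype_injective _).symm
      rw [h2]
      exact Subgroup.Normal.comap hT₀n _
    haveI := Sylow.unique_of_normal T₀ hT₀n'
    rw [Subsingleton.elim T T₀]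
    exact hT₀n'
  exact ((isNilpotent_of_finite_tfae (G := ↥N)).out 0 3).mpr (fun q hq T => @key q hq T)

/-- A component of a `p`-minimal group with `O_p = 1` does not lie in the maximal subgroup `M ≥ S`. -/
theorem comp_not_le_max (hP : Cfsg.IsPMinimal p P) (hOp : Cfsg.pCore p P = ⊥) (S : Sylow p P)
    (M : Subgroup P) (hM : IsCoatom M) (hSM : (S : Subgroup P) ≤ M) (K : Subgroup P)
    (hK : Cfsg.IsComponent K) : ¬ K ≤ M := by
  intro hKM
  have hp : p.Prime := Fact.out
  haveI hFn : M.normalCore.Normal := Subgroup.normalCore_normal M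
  have hKF : K ≤ M.normalCore := subnormal_le_core hP S M hM hSM K hK.1 hKM
  have hFM : M.normalCore ≤ M := Subgroup.normalCore_le M
  have h1 : (S : Subgroup P) ⊓ M.normalCore = ⊥ := by
    have h2 := (Cfsg.Agent.S2905.result hP S M hM hSM).1 M.normalCore hFn.isSubnormal hFM
    rw [hOp, le_bot_iff, inf_comm] at h2
    exact h2
  have hFp : (Nat.card M.normalCore).Coprime p := by
    rw [Nat.coprime_comm, Nat.Prime.coprime_iff_not_dvd hp]
    intro hdvd
    have h3 := sylow_ne_bot_of_dvd hdvd (sylowInf S M.normalCore)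
    apply h3
    have h4 := map_sylowInf S M.normalCore
    rw [h1] at h4
    exact (Subgroup.map_eq_bot_iff_of_injective _ (Subgroup.subtype_injective _)).mp h4
  have hnil := nilpotent_of_normal_le hP S M hM hSM M.normalCore hFM hFp
  exact comp_not_le_of_isSolvable hK inferInstance hKF

/-- In a `p`-minimal group with `O_p = 1` and a component, `O^p(P)` is the layer. -/
theorem pResidual_eq_layer (hP : Cfsg.IsPMinimal p P) (hOp : Cfsg.pCore p P = ⊥) (S : Sylow p P)
    (M : Subgroup P) (hM : IsCoatom M) (hSM : (S : Subgroup P) ≤ M) (K : Subgroup P)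
    (hK : Cfsg.IsComponent K) :
    Cfsg.pResidual p P = Cfsg.layer P ∧ Cfsg.pResidual p P ≤ Subgroup.normalClosure (K : Set P) := by
  have hRL : Cfsg.pResidual p P ≤ Subgroup.normalClosure (K : Set P) := by
    rcases normal_dichotomy hP S M hM hSM (Subgroup.normalClosure (K : Set P))
      Subgroup.normalClosure_normal with h | h
    · exact h
    · exfalso
      apply comp_not_le_max hP hOp S M hM hSM K hK
      exact (Subgroup.le_normalClosure).trans (h.trans (Subgroup.normalCore_le M))
  refine ⟨le_antisymm ?_ ?_, hRL⟩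
  · haveI : (Cfsg.layer P).Normal := by
      haveI := layer_characteristic (G := P)
      infer_instance
    exact hRL.trans (Subgroup.normalClosure_le_normal (comp_le_layer hK))
  · -- the layer is perfect, `P / O^p(P)` is a `p`-group
    have hq : IsPGroup p (P ⧸ Cfsg.pResidual p P) := quotient_pResidual_isPGroup
    have h1 : (Cfsg.layer P).map (QuotientGroup.mk' (Cfsg.pResidual p P)) = ⊥ := by
      by_contra hne
      have hs : Group.IsSolvable ↥((Cfsg.layer P).map (QuotientGroup.mk' (Cfsg.pResidual p P))) := by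
        haveI := (hq.to_subgroup ((Cfsg.layer P).map (QuotientGroup.mk' (Cfsg.pResidual p P)))).isNilpotent
        infer_instance
      have h2 := commutator_lt_of_ne_bot_of_solvable hs hne
      rw [← Subgroup.map_commutator, layer_perfect] at h2
      exact lt_irrefl _ h2
    rw [Subgroup.map_eq_bot_iff, QuotientGroup.ker_mk'] at h1
    exact h1

/-- With `O_p(P) = 1` the Fitting subgroup lies in `O^p(P)`. -/
theorem fitting_le_pResidual (hOp : Cfsg.pCore p P = ⊥) :
    Cfsg.fittingSubgroup P ≤ Cfsg.pResidual p P := by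
  have hp : p.Prime := Fact.out
  rw [Cfsg.Agent.Lib.Helper1.fittingSubgroup_eq_iSup_primeFactors, iSup_le_iff]
  intro q
  have hq : (q : ℕ).Prime := Nat.prime_of_mem_primeFactors q.2
  haveI : Fact (q : ℕ).Prime := ⟨hq⟩
  by_cases hqp : (q : ℕ) = p
  · rw [hqp, hOp]
    exact bot_le
  · intro x hx
    apply mem_pResidual_of_coprime
    obtain ⟨k, hk⟩ := (IsPGroup.iff_orderOf.mp (Cfsg.Agent.Lib.Helper1.pCore_isPGroup (G := P) (q : ℕ))) ⟨x, hx⟩
    rw [Subgroup.orderOf_mk] at hk
    rw [hk]
    exact Nat.Coprime.pow_left k ((Nat.coprime_primes hq hp).mpr hqp)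

/-- The layer is generated by the `S`-conjugates of the component `K`. -/
theorem layer_eq_iSup (hP : Cfsg.IsPMinimal p P) (hOp : Cfsg.pCore p P = ⊥) (S : Sylow p P)
    (M : Subgroup P) (hM : IsCoatom M) (hSM : (S : Subgroup P) ≤ M) (K : Subgroup P)
    (hK : Cfsg.IsComponent K) :
    Cfsg.layer P = ⨆ s : ↥(S : Subgroup P), K.map (MulAut.conj (s : P)).toMonoidHom := by
  obtain ⟨hRE, hRL⟩ := pResidual_eq_layer hP hOp S M hM hSM K hK
  apply le_antisymm
  · rw [← hRE]
    refine hRL.trans ?_
    have hS : (S : Subgroup P) ≤ Subgroup.normalizer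
        ((⨆ s : ↥(S : Subgroup P), K.map (MulAut.conj (s : P)).toMonoidHom : Subgroup P) : Set P) := by
      intro t ht
      apply mem_normalizer_of_map_conj_le
      rw [Subgroup.map_iSup, iSup_le_iff]
      intro s
      rw [Subgroup.map_map]
      have : (MulAut.conj t).toMonoidHom.comp (MulAut.conj (s : P)).toMonoidHom =
          (MulAut.conj ((⟨t, ht⟩ * s : ↥(S : Subgroup P)) : P)).toMonoidHom := by
        ext y
        simp [mul_assoc]
      rw [this]
      exact le_iSup (fun s : ↥(S : Subgroup P) => K.map (MulAut.conj (s : P)).toMonoidHom) _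
    have hE : Cfsg.pResidual p P ≤ Subgroup.normalizer
        ((⨆ s : ↥(S : Subgroup P), K.map (MulAut.conj (s : P)).toMonoidHom : Subgroup P) : Set P) := by
      rw [hRE]
      intro e he
      apply mem_normalizer_of_map_conj_le
      rw [Subgroup.map_iSup, iSup_le_iff]
      intro s
      have h1 := layer_le_normalizer_comp (isComponent_conj hK (s : P)) he
      rw [map_conj_eq_of_mem_normalizer h1]
      exact le_iSup (fun s : ↥(S : Subgroup P) => K.map (MulAut.conj (s : P)).toMonoidHom) s
    haveI : (⨆ s : ↥(S : Subgroup P), K.map (MulAut.conj (s : P)).toMonoidHom : Subgroup P).Normal :=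
      normal_of_le_normalizer_of_sup_eq_top hS hE (sylow_sup_pResidual S)
    apply Subgroup.normalClosure_le_normal
    have h2 := le_iSup (fun s : ↥(S : Subgroup P) => K.map (MulAut.conj (s : P)).toMonoidHom) 1
    simp only [OneMemClass.coe_one, map_one] at h2
    intro k hk
    apply h2
    exact ⟨k, hk, by simp⟩
  · rw [iSup_le_iff]
    intro s
    exact comp_le_layer (isComponent_conj hK (s : P))

/-- A component of a `p`-minimal group with `O_p = 1` has order divisible by `p`. -/
theorem sylow_inf_comp_ne_bot (hP : Cfsg.IsPMinimal p P) (hOp : Cfsg.pCore p P = ⊥) (S : Sylow p P)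
    (M : Subgroup P) (hM : IsCoatom M) (hSM : (S : Subgroup P) ≤ M) (K : Subgroup P)
    (hK : Cfsg.IsComponent K) : (S : Subgroup P) ⊓ K ≠ ⊥ := by
  intro hbot
  have hp : p.Prime := Fact.out
  obtain ⟨hRE, hRL⟩ := pResidual_eq_layer hP hOp S M hM hSM K hK
  -- `K` is a `p'`-group
  obtain ⟨Q, hQ⟩ := Cfsg.Agent.S0542.result p K hK.1 S
  have hKp : (Nat.card K).Coprime p := by
    rw [Nat.coprime_comm, Nat.Prime.coprime_iff_not_dvd hp]
    intro hdvd
    apply sylow_ne_bot_of_dvd hdvd Q
    rw [hQ, Subgroup.subgroupOf_eq_bot, disjoint_iff]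
    exact hbot
  have hKN : K ≤ pPrimeCore p P :=
    Cfsg.Agent.Lib.Helper10.subnormal_coprime_le_pPrimeCore p hK.1 hKp
  have hRN : Cfsg.pResidual p P ≤ pPrimeCore p P := by
    rcases normal_dichotomy hP S M hM hSM (pPrimeCore p P) inferInstance with h | h
    · exact h
    · exfalso
      apply comp_not_le_max hP hOp S M hM hSM K hK
      exact hKN.trans (h.trans (Subgroup.normalCore_le M))
  have hRp : (Nat.card (Cfsg.pResidual p P)).Coprime p :=
    Nat.Coprime.coprime_dvd_left (Subgroup.card_dvd_of_le hRN)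
      (Cfsg.Agent.Lib.Helper1.pPrimeCore_coprime p)
  have h2 : (Nat.card P).primeFactors.card ≤ 2 := by
    apply two_primes hP S M hM hSM
    intro T
    have hT : (T : Subgroup ↥(Cfsg.pResidual p P)) = ⊥ := by
      by_contra hne
      have h3 : p ∣ Nat.card (T : Subgroup ↥(Cfsg.pResidual p P)) := by
        obtain ⟨k, hk⟩ := IsPGroup.iff_card.mp T.2
        rcases k with _ | k
        · rw [pow_zero] at hk
          exact absurd (Subgroup.card_eq_one.mp hk) hne
        · rw [hk]
          exact dvd_pow_self p (Nat.succ_ne_zero k)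
      have h4 := h3.trans (Subgroup.card_subgroup_dvd_card _)
      exact (Nat.Prime.coprime_iff_not_dvd hp).mp hRp.symm h4
    rw [hT]
    infer_instance
  -- `p` divides `|P|`
  have hpP : p ∈ (Nat.card P).primeFactors := by
    rw [Nat.mem_primeFactors]
    refine ⟨hp, ?_, Nat.card_pos.ne'⟩
    by_contra hnd
    apply (hP S).1
    have : (S : Subgroup P) = ⊥ := by
      by_contra hne
      obtain ⟨k, hk⟩ := IsPGroup.iff_card.mp S.2
      rcases k with _ | k
      · rw [pow_zero] at hk
        exact hne (Subgroup.card_eq_one.mp hk)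
      · apply hnd
        have : p ∣ Nat.card (S : Subgroup P) := by rw [hk]; exact dvd_pow_self p (Nat.succ_ne_zero k)
        exact this.trans (Subgroup.card_subgroup_dvd_card _)
    rw [this]
    infer_instance
  -- so `O^p(P)` is a `q`-group for some prime `q`
  have h5 : ((Nat.card P).primeFactors.erase p).card ≤ 1 := by
    rw [Finset.card_erase_of_mem hpP]
    omega
  have hsolv : Group.IsSolvable ↥(Cfsg.pResidual p P) := by
    by_cases hR1 : Nat.card (Cfsg.pResidual p P) = 1
    · haveI : Subsingleton ↥(Cfsg.pResidual p P) := (Nat.card_eq_one_iff_unique.mp hR1).1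
      infer_instance
    · obtain ⟨q, hq, hqd⟩ := Nat.exists_prime_and_dvd hR1
      haveI : Fact q.Prime := ⟨hq⟩
      have hmem : ∀ d : ℕ, d.Prime → d ∣ Nat.card (Cfsg.pResidual p P) →
          d ∈ (Nat.card P).primeFactors.erase p := by
        intro d hd hdd
        rw [Finset.mem_erase, Nat.mem_primeFactors]
        refine ⟨?_, hd, hdd.trans (Subgroup.card_subgroup_dvd_card _), Nat.card_pos.ne'⟩
        rintro rfl
        exact (Nat.Prime.coprime_iff_not_dvd hp).mp hRp.symm hdd
      have hcard : Nat.card (Cfsg.pResidual p P) =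
          q ^ (Nat.card (Cfsg.pResidual p P)).primeFactorsList.length := by
        apply Nat.eq_prime_pow_of_unique_prime_dvd Nat.card_pos.ne'
        intro d hd hdd
        exact (Finset.card_le_one.mp h5) d (hmem d hd hdd) q (hmem q hq hqd)
      haveI := (IsPGroup.of_card hcard).isNilpotent
      infer_instance
  apply comp_not_le_of_isSolvable hK hsolv
  rw [hRE]
  exact comp_le_layer hK

/-- Key lemma: a proper `N_S(K)`-invariant subgroup of `K` containing `S ∩ K` lies in `M`. -/
theorem le_max_of_invariant (hP : Cfsg.IsPMinimal p P) (hOp : Cfsg.pCore p P = ⊥) (S : Sylow p P)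
    (M : Subgroup P) (hM : IsCoatom M) (hSM : (S : Subgroup P) ≤ M) (K : Subgroup P)
    (hK : Cfsg.IsComponent K) (Y : Subgroup P) (hYK : Y ≤ K)
    (hYn : (S : Subgroup P) ⊓ Subgroup.normalizer (K : Set P) ≤ Subgroup.normalizer (Y : Set P))
    (hDY : (S : Subgroup P) ⊓ K ≤ Y) (hne : Y ≠ K) : Y ≤ M := by
  have hS : (S : Subgroup P) ≤ Subgroup.normalizer
      ((⨆ s : ↥(S : Subgroup P), Y.map (MulAut.conj (s : P)).toMonoidHom : Subgroup P) : Set P) := by
    intro t ht
    apply mem_normalizer_of_map_conj_le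
    rw [Subgroup.map_iSup, iSup_le_iff]
    intro s
    rw [Subgroup.map_map]
    have : (MulAut.conj t).toMonoidHom.comp (MulAut.conj (s : P)).toMonoidHom =
        (MulAut.conj ((⟨t, ht⟩ * s : ↥(S : Subgroup P)) : P)).toMonoidHom := by
      ext y
      simp [mul_assoc]
    rw [this]
    exact le_iSup (fun s : ↥(S : Subgroup P) => Y.map (MulAut.conj (s : P)).toMonoidHom) _
  have hYY : Y ≤ ⨆ s : ↥(S : Subgroup P), Y.map (MulAut.conj (s : P)).toMonoidHom := by
    have h2 := le_iSup (fun s : ↥(S : Subgroup P) => Y.map (MulAut.conj (s : P)).toMonoidHom) 1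
    simp only [OneMemClass.coe_one, map_one] at h2
    intro y hy
    apply h2
    exact ⟨y, hy, by simp⟩
  by_cases htop : (⨆ s : ↥(S : Subgroup P), Y.map (MulAut.conj (s : P)).toMonoidHom) ⊔
      (S : Subgroup P) = ⊤
  · exfalso
    have hYn' : (⨆ s : ↥(S : Subgroup P), Y.map (MulAut.conj (s : P)).toMonoidHom :
        Subgroup P).Normal :=
      normal_of_le_normalizer_of_sup_eq_top Subgroup.le_normalizer hS htop
    have hKI : K ≤ Subgroup.normalizer
        (((⨆ s : ↥(S : Subgroup P), Y.map (MulAut.conj (s : P)).toMonoidHom) ⊓ K : Subgroup P) :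
          Set P) := by
      intro k hk
      apply mem_normalizer_inf _ (Subgroup.le_normalizer hk)
      rw [Subgroup.normalizer_eq_top]
      exact Subgroup.mem_top k
    haveI hIn : (((⨆ s : ↥(S : Subgroup P), Y.map (MulAut.conj (s : P)).toMonoidHom) ⊓ K :
        Subgroup P).subgroupOf K).Normal :=
      (Subgroup.normal_subgroupOf_iff_le_normalizer inf_le_right).mpr hKI
    rcases qs_normal_le_center_or_eq_top hK.2
      (((⨆ s : ↥(S : Subgroup P), Y.map (MulAut.conj (s : P)).toMonoidHom) ⊓ K :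
        Subgroup P).subgroupOf K) with h1 | h1
    · -- `S ∩ K` is central in `K`, hence a subnormal `p`-subgroup
      apply sylow_inf_comp_ne_bot hP hOp S M hM hSM K hK
      have hDc : ((S : Subgroup P) ⊓ K).subgroupOf K ≤ Subgroup.center ↥K := by
        refine le_trans ?_ h1
        intro x hx
        rw [Subgroup.mem_subgroupOf] at hx ⊢
        exact ⟨hYY (hDY hx), x.2⟩
      have hDn : (((S : Subgroup P) ⊓ K).subgroupOf K).Normal := by
        constructor
        intro d hd g
        have := Subgroup.mem_center_iff.mp (hDc hd) g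
        rw [this, mul_inv_cancel_right]
        exact hd
      have hDsn : ((S : Subgroup P) ⊓ K).IsSubnormal :=
        Subgroup.IsSubnormal.trans inf_le_right hDn.isSubnormal hK.1
      exact eq_bot_of_subnormal_pgroup hOp hDsn (S.2.to_le inf_le_left)
    · -- `K ≤ ⟨Y^S⟩ ≤ Y C(K)`
      have hKY : K ≤ ⨆ s : ↥(S : Subgroup P), Y.map (MulAut.conj (s : P)).toMonoidHom := by
        intro k hk
        have : (⟨k, hk⟩ : ↥K) ∈ ((⨆ s : ↥(S : Subgroup P),
            Y.map (MulAut.conj (s : P)).toMonoidHom) ⊓ K : Subgroup P).subgroupOf K := by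
          rw [h1]
          trivial
        exact (Subgroup.mem_subgroupOf.mp this).1
      have hYC : (⨆ s : ↥(S : Subgroup P), Y.map (MulAut.conj (s : P)).toMonoidHom) ≤
          Y ⊔ Subgroup.centralizer (K : Set P) := by
        rw [iSup_le_iff]
        intro s
        by_cases hs : (s : P) ∈ Subgroup.normalizer (K : Set P)
        · have h2 := hYn (Subgroup.mem_inf.mpr ⟨s.2, hs⟩)
          rw [map_conj_eq_of_mem_normalizer h2]
          exact le_sup_left
        · have hne' : K ≠ K.map (MulAut.conj (s : P)).toMonoidHom := by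
            intro h
            exact hs (mem_normalizer_of_map_conj_eq h.symm)
          have h3 : ⁅K, K.map (MulAut.conj (s : P)).toMonoidHom⁆ = ⊥ :=
            comp_commutator_eq_bot_of_ne hK (isComponent_conj hK (s : P)) hne'
          have h4 : K.map (MulAut.conj (s : P)).toMonoidHom ≤ Subgroup.centralizer (K : Set P) := by
            rw [Subgroup.commutator_comm] at h3
            exact Subgroup.commutator_eq_bot_iff_le_centralizer.mp h3
          exact (Subgroup.map_mono hYK).trans (h4.trans le_sup_right)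
      have hcomm : ∀ y ∈ Y, ∀ c ∈ Subgroup.centralizer (K : Set P), y * c = c * y := by
        intro y hy c hc
        exact (Subgroup.mem_centralizer_iff.mp hc y (hYK hy))
      have hdecomp : ∀ k ∈ K, ∃ y ∈ Y, ∃ c ∈ Subgroup.centralizer (K : Set P), y * c = k := by
        intro k hk
        exact (mem_sup_of_commute hcomm).mp (hYC (hKY hk))
      have hKNY : K ≤ Subgroup.normalizer (Y : Set P) := by
        intro k hk
        obtain ⟨y, hy, c, hc, rfl⟩ := hdecomp k hk
        apply Subgroup.mul_mem _ (Subgroup.le_normalizer hy)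
        apply Subgroup.centralizer_le_normalizer
        exact Subgroup.centralizer_le (by exact_mod_cast hYK) hc
      haveI hYn'' : (Y.subgroupOf K).Normal :=
        (Subgroup.normal_subgroupOf_iff_le_normalizer hYK).mpr hKNY
      rcases qs_normal_le_center_or_eq_top hK.2 (Y.subgroupOf K) with h5 | h5
      · apply qs_center_ne_top hK.2
        rw [eq_top_iff]
        intro k _
        obtain ⟨y, hy, c, hc, hyc⟩ := hdecomp k k.2
        rw [Subgroup.mem_center_iff]
        intro g
        have hyc' : (⟨y, hYK hy⟩ : ↥K) ∈ Subgroup.center ↥K :=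
          h5 (Subgroup.mem_subgroupOf.mpr hy)
        have e1 : (g : P) * y = y * (g : P) :=
          congrArg Subtype.val (Subgroup.mem_center_iff.mp hyc' g)
        have e2 : (g : P) * c = c * (g : P) := Subgroup.mem_centralizer_iff.mp hc g g.2
        apply Subtype.ext
        show (g : P) * (k : P) = (k : P) * (g : P)
        rw [← hyc, ← mul_assoc, e1, mul_assoc, e2, mul_assoc]
      · apply hne
        apply le_antisymm hYK
        intro k hk
        have : (⟨k, hk⟩ : ↥K) ∈ Y.subgroupOf K := by rw [h5]; trivial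
        exact Subgroup.mem_subgroupOf.mp this
  · exact hYY.trans (le_sup_left.trans (le_of_sylow_le hP S M hM hSM _ le_sup_right htop))

/-- Internal criterion for `p`-minimality of a subgroup `P₀`. -/
theorem isPMinimal_of_internal {P₀ S₀ X₀ : Subgroup P} (hS₀P₀ : S₀ ≤ P₀) (hS₀ : IsPGroup p S₀)
    (hsyl : ∀ T : Subgroup P, IsPGroup p T → S₀ ≤ T → T ≤ P₀ → T = S₀)
    (hnn : ¬ P₀ ≤ Subgroup.normalizer (S₀ : Set P))
    (hX₀ : S₀ ≤ X₀) (hX₀P₀ : X₀ ≤ P₀) (hX₀ne : X₀ ≠ P₀)
    (hmax : ∀ X : Subgroup P, S₀ ≤ X → X ≤ P₀ → X ≠ P₀ → X ≤ X₀) : Cfsg.IsPMinimal p ↥P₀ := by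
  have hmapsub : ∀ Z : Subgroup ↥P₀, (Z.map P₀.subtype).subgroupOf P₀ = Z := by
    intro Z
    exact Subgroup.comap_map_eq_self_of_injective P₀.subtype_injective Z
  let T₀ : Sylow p ↥P₀ :=
    { toSubgroup := S₀.subgroupOf P₀
      isPGroup' := hS₀.comap_subtype
      is_maximal' := by
        intro Q hQ hle
        have h1 : Q.map P₀.subtype = S₀ := by
          apply hsyl _ (hQ.map _) _ (Subgroup.map_subtype_le Q)
          intro x hx
          exact ⟨⟨x, hS₀P₀ hx⟩, hle (Subgroup.mem_subgroupOf.mpr hx), rfl⟩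
        rw [← hmapsub Q, h1] }
  have hT₀ : (T₀ : Subgroup ↥P₀) = S₀.subgroupOf P₀ := rfl
  apply isPMinimal_of_sylow T₀
  · rw [hT₀, Subgroup.normal_subgroupOf_iff_le_normalizer hS₀P₀]
    exact hnn
  · have hne : X₀.subgroupOf P₀ ≠ ⊤ := by
      intro h
      rw [Subgroup.subgroupOf_eq_top] at h
      exact hX₀ne (le_antisymm hX₀P₀ h)
    have hkey : ∀ Z : Subgroup ↥P₀, (T₀ : Subgroup ↥P₀) ≤ Z → Z ≠ ⊤ → Z ≤ X₀.subgroupOf P₀ := by
      intro Z hTZ hZ
      have h1 : S₀ ≤ Z.map P₀.subtype := by
        intro x hx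
        exact ⟨⟨x, hS₀P₀ hx⟩, hTZ (Subgroup.mem_subgroupOf.mpr hx), rfl⟩
      have h2 : Z.map P₀.subtype ≠ P₀ := by
        intro h
        apply hZ
        rw [← hmapsub Z, h, Subgroup.subgroupOf_self]
      have h3 := hmax _ h1 (Subgroup.map_subtype_le Z) h2
      rw [← hmapsub Z]
      intro x hx
      exact Subgroup.mem_subgroupOf.mpr (h3 (Subgroup.mem_subgroupOf.mp hx))
    refine ⟨X₀.subgroupOf P₀, ⟨⟨hne, ?_⟩, ?_⟩, ?_⟩
    · intro Z hlt
      by_contra hZ
      exact absurd (hkey Z ((show (T₀ : Subgroup ↥P₀) ≤ X₀.subgroupOf P₀ from by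
        rw [hT₀]
        intro x hx
        exact Subgroup.mem_subgroupOf.mpr (hX₀ (Subgroup.mem_subgroupOf.mp hx))).trans hlt.le) hZ)
        (not_le_of_gt hlt)
    · rw [hT₀]
      intro x hx
      exact Subgroup.mem_subgroupOf.mpr (hX₀ (Subgroup.mem_subgroupOf.mp hx))
    · rintro Z ⟨hZc, hTZ⟩
      have h1 := hkey Z hTZ hZc.1
      by_contra hne'
      exact hne (hZc.2 _ (lt_of_le_of_ne h1 hne'))

end

/-- Let P be a finite p-minimal group with O_p(P) = 1, S a Sylow p-subgroup of P and K a component of P. Then O^p(P) = F*(P) = E(P) is generated by the S-conjugates of K, and the subgroup K·N_S(K) is again p-minimal. -/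
theorem result {P : Type*} [Group P] [Finite P] {p : ℕ} [Fact p.Prime] (hP : Cfsg.IsPMinimal p P) (hOp : Cfsg.pCore p P = ⊥) (S : Sylow p P) (K : Subgroup P) (hK : Cfsg.IsComponent K) : Cfsg.pResidual p P = Cfsg.generalizedFittingSubgroup P ∧ Cfsg.generalizedFittingSubgroup P = Cfsg.layer P ∧ Cfsg.layer P = ⨆ s : ↥(S : Subgroup P), K.map (MulAut.conj (s : P)).toMonoidHom ∧ Cfsg.IsPMinimal p ↥(K ⊔ ((S : Subgroup P) ⊓ Subgroup.normalizer (K : Set P))) := by
  obtain ⟨-, M, ⟨hM, hSM⟩, -⟩ := hP S
  obtain ⟨hRE, hRL⟩ := pResidual_eq_layer hP hOp S M hM hSM K hK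
  have hgfs : Cfsg.generalizedFittingSubgroup P = Cfsg.layer P := by
    unfold Cfsg.generalizedFittingSubgroup
    apply le_antisymm
    · apply sup_le le_rfl
      rw [← hRE]
      exact fitting_le_pResidual hOp
    · exact le_sup_left
  refine ⟨hRE.trans hgfs.symm, hgfs, layer_eq_iSup hP hOp S M hM hSM K hK, ?_⟩
  have hDne := sylow_inf_comp_ne_bot hP hOp S M hM hSM K hK
  have hKM := comp_not_le_max hP hOp S M hM hSM K hK
  have hS₀N : (S : Subgroup P) ⊓ Subgroup.normalizer (K : Set P) ≤ Subgroup.normalizer (K : Set P) :=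
    inf_le_right
  have hDS₀ : (S : Subgroup P) ⊓ K ≤ (S : Subgroup P) ⊓ Subgroup.normalizer (K : Set P) :=
    inf_le_inf_left _ Subgroup.le_normalizer
  have hdecomp : ∀ x ∈ K ⊔ ((S : Subgroup P) ⊓ Subgroup.normalizer (K : Set P)),
      ∃ k ∈ K, ∃ s ∈ (S : Subgroup P) ⊓ Subgroup.normalizer (K : Set P), k * s = x := fun x hx =>
    (mem_sup_of_le_normalizer hS₀N).mp hx
  apply isPMinimal_of_internal (S₀ := (S : Subgroup P) ⊓ Subgroup.normalizer (K : Set P))
    (X₀ := M ⊓ (K ⊔ ((S : Subgroup P) ⊓ Subgroup.normalizer (K : Set P)))) le_sup_right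
    (S.2.to_le inf_le_left)
  · -- Sylow property
    intro T hT hS₀T hTP₀
    apply le_antisymm _ hS₀T
    obtain ⟨Q, hQ⟩ := Cfsg.Agent.S0542.result p K hK.1 S
    have hTK : T ⊓ K ≤ (S : Subgroup P) := by
      have h1 : (Q : Subgroup ↥K) ≤ (T ⊓ K).subgroupOf K := by
        rw [hQ]
        intro x hx
        rw [Subgroup.mem_subgroupOf] at hx ⊢
        exact ⟨hS₀T (hDS₀ ⟨hx, x.2⟩), x.2⟩
      have h2 : (T ⊓ K).subgroupOf K = (Q : Subgroup ↥K) :=
        Q.is_maximal' ((hT.to_le inf_le_left).comap_subtype (K := K)) h1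
      intro x hx
      have hxK : x ∈ K := (Subgroup.mem_inf.mp hx).2
      have h3 : (⟨x, hxK⟩ : ↥K) ∈ (T ⊓ K).subgroupOf K := Subgroup.mem_subgroupOf.mpr hx
      rw [h2] at h3
      have h4 : (⟨x, hxK⟩ : ↥K) ∈ (S : Subgroup P).subgroupOf K := by rw [← hQ]; exact h3
      exact Subgroup.mem_subgroupOf.mp h4
    intro t ht
    obtain ⟨k, hk, s, hs, rfl⟩ := hdecomp t (hTP₀ ht)
    have hkT : k ∈ T := by
      have := T.mul_mem ht (T.inv_mem (hS₀T hs))
      rwa [mul_inv_cancel_right] at this
    have hkS : k ∈ (S : Subgroup P) := hTK ⟨hkT, hk⟩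
    exact Subgroup.mul_mem _ (hDS₀ ⟨hkS, hk⟩) hs
  · -- not normal
    intro hnorm
    apply hDne
    have hKn : K ≤ Subgroup.normalizer
        ((((S : Subgroup P) ⊓ Subgroup.normalizer (K : Set P)) ⊓ K : Subgroup P) : Set P) := by
      intro k hk
      exact mem_normalizer_inf (hnorm (Subgroup.mem_sup_left hk)) (Subgroup.le_normalizer hk)
    have heq : ((S : Subgroup P) ⊓ Subgroup.normalizer (K : Set P)) ⊓ K = (S : Subgroup P) ⊓ K := by
      rw [inf_assoc, inf_eq_right.mpr (Subgroup.le_normalizer : K ≤ Subgroup.normalizer (K : Set P))]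
    rw [heq] at hKn
    have hDn : (((S : Subgroup P) ⊓ K).subgroupOf K).Normal :=
      (Subgroup.normal_subgroupOf_iff_le_normalizer inf_le_right).mpr hKn
    have hDsn : ((S : Subgroup P) ⊓ K).IsSubnormal :=
      Subgroup.IsSubnormal.trans inf_le_right hDn.isSubnormal hK.1
    exact eq_bot_of_subnormal_pgroup hOp hDsn (S.2.to_le inf_le_left)
  · exact le_inf (inf_le_left.trans hSM) le_sup_right
  · exact inf_le_right
  · intro h
    apply hKM
    have : K ≤ M ⊓ (K ⊔ ((S : Subgroup P) ⊓ Subgroup.normalizer (K : Set P))) := by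
      rw [h]
      exact le_sup_left
    exact this.trans inf_le_left
  · intro X hS₀X hXP₀ hXne
    refine le_inf ?_ hXP₀
    have hY : X ⊓ K ≤ M := by
      apply le_max_of_invariant hP hOp S M hM hSM K hK (X ⊓ K) inf_le_right
      · intro s hs
        exact mem_normalizer_inf (Subgroup.le_normalizer (hS₀X hs)) (hS₀N hs)
      · exact le_inf (hDS₀.trans hS₀X) inf_le_right
      · intro h
        apply hXne
        apply le_antisymm hXP₀
        exact sup_le (inf_eq_right.mp h) hS₀X
    intro x hx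
    obtain ⟨k, hk, s, hs, rfl⟩ := hdecomp x (hXP₀ hx)
    have hkX : k ∈ X := by
      have := X.mul_mem hx (X.inv_mem (hS₀X hs))
      rwa [mul_inv_cancel_right] at this
    exact M.mul_mem (hY ⟨hkX, hk⟩) (hSM hs.1)

end Cfsg.Agent.S2906
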