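import Cfsg.Statements.S2815
import Cfsg.Agent.S2906
import Cfsg.Agent.Lib.Helper17.PIrred

set_option autoImplicit false
open Cfsg

namespace Cfsg.Agent.S2815

open Cfsg.Agent.Lib.Helper17 Cfsg.Agent.Lib.Helper16 Cfsg.Agent.Lib.Helper9

section

universe u

variable {H : Type u} [Group H] [Finite H] {p : ℕ} [Fact p.Prime]

/-- A perfect subgroup lies in `O^p(H)`. -/
theorem le_pResidual_of_perfect {E : Subgroup H} (hE : ⁅E, E⁆ = E) : E ≤ Cfsg.pResidual p H := by
  have hq : IsPGroup p (H ⧸ Cfsg.pResidual p H) := quotient_pResidual_isPGroup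
  have h1 : E.map (QuotientGroup.mk' (Cfsg.pResidual p H)) = ⊥ := by
    by_contra hne
    have hs : Group.IsSolvable ↥(E.map (QuotientGroup.mk' (Cfsg.pResidual p H))) := by
      haveI := (hq.to_subgroup (E.map (QuotientGroup.mk' (Cfsg.pResidual p H)))).isNilpotent
      infer_instance
    have h2 := commutator_lt_of_ne_bot_of_solvable hs hne
    rw [← Subgroup.map_commutator, hE] at h2
    exact lt_irrefl _ h2
  rw [Subgroup.map_eq_bot_iff, QuotientGroup.ker_mk'] at h1
  exact h1

/-- With `O_p(H) = 1`, the centralizer of `O^p(H)` is a `p'`-group. -/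
theorem centralizer_pResidual_coprime (hO : Cfsg.pCore p H = ⊥) :
    (Nat.card (Subgroup.centralizer (Cfsg.pResidual p H : Set H))).Coprime p := by
  have hp : p.Prime := Fact.out
  have hDn : (Subgroup.centralizer (Cfsg.pResidual p H : Set H)).Normal := inferInstance
  -- `D / Z(D)` is a `p`-group
  have hq : IsPGroup p (↥(Subgroup.centralizer (Cfsg.pResidual p H : Set H)) ⧸
      Subgroup.center ↥(Subgroup.centralizer (Cfsg.pResidual p H : Set H))) := by
    intro x
    induction x using QuotientGroup.induction_on with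
    | H d =>
      obtain ⟨k, hk⟩ := exists_pow_mem_pResidual (p := p) (d : H)
      refine ⟨k, ?_⟩
      rw [← QuotientGroup.mk_pow, QuotientGroup.eq_one_iff, Subgroup.mem_center_iff]
      intro g
      apply Subtype.ext
      have hg := Subgroup.mem_centralizer_iff.mp g.2 _ hk
      simpa using hg.symm
  haveI : Group.IsNilpotent (↥(Subgroup.centralizer (Cfsg.pResidual p H : Set H)) ⧸
      Subgroup.center ↥(Subgroup.centralizer (Cfsg.pResidual p H : Set H))) := hq.isNilpotent
  have hnil : Group.IsNilpotent ↥(Subgroup.centralizer (Cfsg.pResidual p H : Set H)) :=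
    Group.of_quotient_center_nilpotent inferInstance
  rw [Nat.coprime_comm, Nat.Prime.coprime_iff_not_dvd hp]
  intro hdvd
  obtain ⟨T⟩ : Nonempty (Sylow p ↥(Subgroup.centralizer (Cfsg.pResidual p H : Set H))) := inferInstance
  have hall : ∀ (q : ℕ) (_hq : Fact q.Prime)
      (T : Sylow q ↥(Subgroup.centralizer (Cfsg.pResidual p H : Set H))),
      (T : Subgroup ↥(Subgroup.centralizer (Cfsg.pResidual p H : Set H))).Normal :=
    ((isNilpotent_of_finite_tfae
      (G := ↥(Subgroup.centralizer (Cfsg.pResidual p H : Set H)))).out 0 3).mp hnil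
  have hTn : (T : Subgroup ↥(Subgroup.centralizer (Cfsg.pResidual p H : Set H))).Normal :=
    hall p inferInstance T
  haveI := T.characteristic_of_normal hTn
  have hTn' : ((T : Subgroup ↥(Subgroup.centralizer (Cfsg.pResidual p H : Set H))).map
      (Subgroup.centralizer (Cfsg.pResidual p H : Set H)).subtype).Normal := inferInstance
  have h1 := Cfsg.Agent.Lib.Helper16.le_pCore _ hTn' (T.2.map _)
  rw [hO, le_bot_iff] at h1
  apply sylow_ne_bot_of_dvd hdvd T
  exact (Subgroup.map_eq_bot_iff_of_injective _ (Subgroup.subtype_injective _)).mp h1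

end

/-- Let H be a finite group and p a prime dividing its order with O_p(H) = 1, and suppose K = O^p(H) (generated by the elements of order prime to p) is quasisimple. Then K = F*(H); for every nontrivial p-subgroup Y of H, K = [K, Y] and K lies in the subgroup generated by the K-conjugates of Y; every normal subgroup of H not containing K has order prime to p; and H is p-irreducible. -/
theorem result {H : Type*} [Group H] [Finite H] {p : ℕ} [Fact p.Prime] (hp : p ∣ Nat.card H) (hO : Cfsg.pCore p H = ⊥) (hq : Cfsg.IsQuasisimple ↥(Cfsg.pResidual p H)) : Cfsg.pResidual p H = Cfsg.generalizedFittingSubgroup H ∧ (∀ Y : Subgroup H, IsPGroup p ↥Y → Y ≠ ⊥ → ⁅Cfsg.pResidual p H, Y⁆ = Cfsg.pResidual p H ∧ Cfsg.pResidual p H ≤ ⨆ k : ↥(Cfsg.pResidual p H), Y.map (MulAut.conj (k : H)).toMonoidHom) ∧ (∀ C : Subgroup H, C.Normal → ¬ Cfsg.pResidual p H ≤ C → (Nat.card ↥C).Coprime p) ∧ Cfsg.IsPIrreducible p H := by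
  have hpp : p.Prime := Fact.out
  have hKn : (Cfsg.pResidual p H).Normal := inferInstance
  have hKc : Cfsg.IsComponent (Cfsg.pResidual p H) := ⟨hKn.isSubnormal, hq⟩
  have hperf : ⁅Cfsg.pResidual p H, Cfsg.pResidual p H⁆ = Cfsg.pResidual p H := comp_perfect hKc
  have hEK : Cfsg.layer H = Cfsg.pResidual p H :=
    le_antisymm (le_pResidual_of_perfect layer_perfect) (comp_le_layer hKc)
  have hpgroup_bot : ∀ Y : Subgroup H, IsPGroup p ↥Y →
      Y ≤ Subgroup.centralizer (Cfsg.pResidual p H : Set H) → Y = ⊥ := by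
    intro Y hY hYc
    have h1 := centralizer_pResidual_coprime (p := p) hO
    have h2 : (Nat.card Y).Coprime p :=
      Nat.Coprime.coprime_dvd_left (Subgroup.card_dvd_of_le hYc) h1
    obtain ⟨k, hk⟩ := IsPGroup.iff_card.mp hY
    rcases k with _ | k
    · rw [pow_zero] at hk
      exact Subgroup.card_eq_one.mp hk
    · exfalso
      rw [hk] at h2
      exact (Nat.Prime.coprime_iff_not_dvd hpp).mp h2.symm (dvd_pow_self p (Nat.succ_ne_zero k))
  have h2a : ∀ Y : Subgroup H, IsPGroup p ↥Y → Y ≠ ⊥ →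
      ⁅Cfsg.pResidual p H, Y⁆ = Cfsg.pResidual p H := by
    intro Y hY hY1
    have hn : Cfsg.pResidual p H ≤
        Subgroup.normalizer ((⁅Cfsg.pResidual p H, Y⁆ : Subgroup H) : Set H) :=
      Cfsg.Agent.Lib.Helper1.le_normalizer_commutator_left
    have hle : ⁅Cfsg.pResidual p H, Y⁆ ≤ Cfsg.pResidual p H := Subgroup.commutator_le_left _ _
    haveI : ((⁅Cfsg.pResidual p H, Y⁆ : Subgroup H).subgroupOf (Cfsg.pResidual p H)).Normal :=
      (Subgroup.normal_subgroupOf_iff_le_normalizer hle).mpr hn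
    rcases qs_normal_le_center_or_eq_top hq
      ((⁅Cfsg.pResidual p H, Y⁆ : Subgroup H).subgroupOf (Cfsg.pResidual p H)) with h | h
    · exfalso
      have hc : ⁅Cfsg.pResidual p H, Y⁆ ≤ Subgroup.centralizer (Cfsg.pResidual p H : Set H) := by
        intro x hx
        have hxK := hle hx
        have h3 : (⟨x, hxK⟩ : ↥(Cfsg.pResidual p H)) ∈ Subgroup.center ↥(Cfsg.pResidual p H) :=
          h (Subgroup.mem_subgroupOf.mpr hx)
        rw [Subgroup.mem_centralizer_iff]
        intro k hk
        exact congrArg Subtype.val (Subgroup.mem_center_iff.mp h3 ⟨k, hk⟩)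
      have e1 : ⁅⁅Cfsg.pResidual p H, Y⁆, Cfsg.pResidual p H⁆ = ⊥ :=
        Subgroup.commutator_eq_bot_iff_le_centralizer.mpr hc
      have e2 : ⁅⁅Y, Cfsg.pResidual p H⁆, Cfsg.pResidual p H⁆ = ⊥ := by
        rw [Subgroup.commutator_comm Y]
        exact e1
      have e3 : ⁅⁅Cfsg.pResidual p H, Cfsg.pResidual p H⁆, Y⁆ = ⊥ :=
        Subgroup.commutator_commutator_eq_bot_of_rotate e1 e2
      rw [hperf, Subgroup.commutator_comm] at e3
      exact hY1 (hpgroup_bot Y hY (Subgroup.commutator_eq_bot_iff_le_centralizer.mp e3))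
    · apply le_antisymm hle
      intro k hk
      have h3 : (⟨k, hk⟩ : ↥(Cfsg.pResidual p H)) ∈
          (⁅Cfsg.pResidual p H, Y⁆ : Subgroup H).subgroupOf (Cfsg.pResidual p H) := by
        rw [h]
        trivial
      exact Subgroup.mem_subgroupOf.mp h3
  have h3 : ∀ C : Subgroup H, C.Normal → ¬ Cfsg.pResidual p H ≤ C → (Nat.card ↥C).Coprime p := by
    intro C hC hKC
    rw [Nat.coprime_comm, Nat.Prime.coprime_iff_not_dvd hpp]
    intro hdvd
    obtain ⟨T⟩ : Nonempty (Sylow p ↥C) := inferInstance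
    have hT1 : (T : Subgroup ↥C) ≠ ⊥ := sylow_ne_bot_of_dvd hdvd T
    have hY1 : (T : Subgroup ↥C).map C.subtype ≠ ⊥ := fun hb =>
      hT1 ((Subgroup.map_eq_bot_iff_of_injective _ C.subtype_injective).mp hb)
    have h4 := h2a _ (T.2.map C.subtype) hY1
    apply hKC
    rw [← h4]
    haveI := hC
    exact (Subgroup.commutator_mono le_rfl (Subgroup.map_subtype_le _)).trans
      (Subgroup.commutator_le_right _ _)
  refine ⟨?_, ?_, h3, ?_, ?_⟩
  · unfold Cfsg.generalizedFittingSubgroup
    rw [hEK]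
    exact (sup_eq_left.mpr (Cfsg.Agent.S2906.fitting_le_pResidual hO)).symm
  · intro Y hY hY1
    refine ⟨h2a Y hY hY1, ?_⟩
    conv_lhs => rw [← h2a Y hY hY1]
    rw [Subgroup.commutator_le]
    intro k hk y hy
    rw [commutatorElement_def]
    apply Subgroup.mul_mem
    · apply le_iSup (fun k : ↥(Cfsg.pResidual p H) => Y.map (MulAut.conj (k : H)).toMonoidHom) ⟨k, hk⟩
      exact conj_mem_map_conj hy
    · apply le_iSup (fun k : ↥(Cfsg.pResidual p H) => Y.map (MulAut.conj (k : H)).toMonoidHom) 1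
      exact ⟨y⁻¹, Y.inv_mem hy, by simp⟩
  · intro hcl
    obtain ⟨S⟩ : Nonempty (Sylow p H) := inferInstance
    have hS1 : (S : Subgroup H) ≠ ⊥ := sylow_ne_bot_of_dvd hp S
    apply hS1
    have h5 := Cfsg.Agent.Lib.Helper16.le_pCore _ (hcl S) S.2
    rwa [hO, le_bot_iff] at h5
  · intro N hN hNcl
    by_contra hKN
    apply hNcl
    have h5 := h3 N hN hKN
    intro T
    have hT : (T : Subgroup ↥N) = ⊥ := by
      by_contra hne
      obtain ⟨k, hk⟩ := IsPGroup.iff_card.mp T.2
      rcases k with _ | k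
      · rw [pow_zero] at hk
        exact hne (Subgroup.card_eq_one.mp hk)
      · have h6 : p ∣ Nat.card (T : Subgroup ↥N) := by
          rw [hk]
          exact dvd_pow_self p (Nat.succ_ne_zero k)
        exact (Nat.Prime.coprime_iff_not_dvd hpp).mp h5.symm
          (h6.trans (Subgroup.card_subgroup_dvd_card _))
    rw [hT]
    infer_instance

end Cfsg.Agent.S2815
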