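import Cfsg.Statements.S2816
import Cfsg.Agent.Lib.Helper17.GfsAction2

set_option autoImplicit false
open Cfsg

namespace Cfsg.Agent.S2816

open Cfsg.Agent.Lib.Helper17 Cfsg.Agent.Lib.Helper9 in
/-- Let H be a finite group and p a prime with O_p(H) = 1, and Y a p-subgroup of H. Then for every subnormal subgroup K of H containing Y, [F*(H), Y] = [F*(K), Y] = [F*(K), Y, Y]; and if Y₀ ≤ Y with [F*(H), Y, Y₀] = 1 then Y₀ = 1 (in particular [F*(H), Y] = 1 forces Y = 1). -/
theorem result {H : Type*} [Group H] [Finite H] {p : ℕ} [Fact p.Prime] (hO : Cfsg.pCore p H = ⊥) (Y : Subgroup H) (hY : IsPGroup p ↥Y) : (∀ K : Subgroup H, K.IsSubnormal → Y ≤ K → ⁅Cfsg.generalizedFittingSubgroup H, Y⁆ = ⁅(Cfsg.generalizedFittingSubgroup ↥K).map K.subtype, Y⁆ ∧ ⁅(Cfsg.generalizedFittingSubgroup ↥K).map K.subtype, Y⁆ = ⁅⁅(Cfsg.generalizedFittingSubgroup ↥K).map K.subtype, Y⁆, Y⁆) ∧ (∀ Y₀ : Subgroup H, Y₀ ≤ Y → ⁅⁅Cfsg.generalizedFittingSubgroup H, Y⁆, Y₀⁆ = ⊥ → Y₀ = ⊥) := by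
  have hp : p.Prime := Fact.out
  haveI hgn : (generalizedFittingSubgroup H).Normal := by
    haveI := gfs_characteristic (G := H)
    infer_instance
  refine ⟨?_, ?_⟩
  · intro K hK hYK
    have hOK : pCore p ↥K = ⊥ := pCore_eq_bot_of_isSubnormal hO hK
    haveI hgnK : (generalizedFittingSubgroup ↥K).Normal := by
      haveI := gfs_characteristic (G := ↥K)
      infer_instance
    have hYL : Y ≤ Subgroup.normalizer
        (((generalizedFittingSubgroup ↥K).map K.subtype : Subgroup H) : Set H) := by
      intro y hy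
      rw [Subgroup.mem_normalizer_iff]
      intro x
      constructor
      · rintro ⟨z, hz, rfl⟩
        exact ⟨⟨y, hYK hy⟩ * z * ⟨y, hYK hy⟩⁻¹, hgnK.conj_mem z hz _, rfl⟩
      · rintro ⟨z, hz, hzx⟩
        refine ⟨⟨y, hYK hy⟩⁻¹ * z * ⟨y, hYK hy⟩, ?_, ?_⟩
        · have := hgnK.conj_mem z hz ⟨y, hYK hy⟩⁻¹
          simpa using this
        · simp only [Subgroup.subtype_apply, Subgroup.coe_mul, Subgroup.coe_inv]
          have hzx' : (z : H) = y * x * y⁻¹ := hzx
          rw [hzx']
          group
    have hsub : ((generalizedFittingSubgroup ↥K).map K.subtype).subgroupOf K =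
        generalizedFittingSubgroup ↥K := by
      rw [Subgroup.subgroupOf, Subgroup.comap_map_eq_self_of_injective K.subtype_injective]
    have h2 := commutator_sup_centralizer_of_le_gfs K hOK Y hY
      (hYK.trans Subgroup.le_normalizer) ((generalizedFittingSubgroup ↥K).map K.subtype) le_rfl
      (by rw [hsub]; exact Subgroup.Normal.isSubnormal inferInstance) hYL
    have h3 := commutator_eq_commutator_commutator hYL h2
    refine ⟨?_, h3⟩
    apply le_antisymm
    · have h4 := commutator_gfs_eq hO Y hY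
      have h5 : ⁅generalizedFittingSubgroup H, Y⁆ ≤ K := commutator_le_of_isSubnormal hK hYK h4
      have h6 : ⁅generalizedFittingSubgroup H, Y⁆ ≤ generalizedFittingSubgroup H :=
        Cfsg.Agent.Lib.Helper1.commutator_le_of_le_normalizer
          (by rw [Subgroup.normalizer_eq_top]; exact le_top)
      rw [h4]
      exact Subgroup.commutator_mono ((le_inf h6 h5).trans (gfs_inf_le_of_isSubnormal hK)) le_rfl
    · exact Subgroup.commutator_mono (gfs_map_le_of_isSubnormal hK) le_rfl
  · intro Y₀ hY₀ h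
    have hY₀p : IsPGroup p ↥Y₀ := hY.to_le hY₀
    have h1 := commutator_gfs_eq hO Y₀ hY₀p
    have h2 : ⁅⁅generalizedFittingSubgroup H, Y₀⁆, Y₀⁆ = ⊥ := by
      rw [eq_bot_iff, ← h]
      exact Subgroup.commutator_mono (Subgroup.commutator_mono le_rfl hY₀) le_rfl
    rw [h2] at h1
    have h3 : Y₀ ≤ Subgroup.centralizer (generalizedFittingSubgroup H : Set H) := by
      rw [Subgroup.commutator_comm] at h1
      exact Subgroup.commutator_eq_bot_iff_le_centralizer.mp h1
    have h4 : Y₀ ≤ generalizedFittingSubgroup H := h3.trans centralizer_gfs_le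
    -- `Y₀ ≤ Z(F*(H))`, an abelian normal subgroup, so `Y₀ ≤ F(H)`
    have h5 : Y₀ ≤ fittingSubgroup H := by
      have hZ : generalizedFittingSubgroup H ⊓
          Subgroup.centralizer (generalizedFittingSubgroup H : Set H) ≤ fittingSubgroup H := by
        haveI : (generalizedFittingSubgroup H ⊓
          Subgroup.centralizer (generalizedFittingSubgroup H : Set H)).Normal := inferInstance
        apply subnormal_nilpotent_le_fitting (Subgroup.Normal.isSubnormal inferInstance)
        haveI : IsMulCommutative ↥(generalizedFittingSubgroup H ⊓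
            Subgroup.centralizer (generalizedFittingSubgroup H : Set H)) := by
          refine ⟨⟨?_⟩⟩
          rintro ⟨a, ha⟩ ⟨b, hb⟩
          apply Subtype.ext
          exact (Subgroup.mem_centralizer_iff.mp hb.2 a ha.1)
        exact isNilpotent_of_isMulCommutative
      exact (le_inf h4 h3).trans hZ
    have hcop := fittingSubgroup_coprime (p := p) hO
    have h6 : Nat.card ↥Y₀ ∣ Nat.card ↥(fittingSubgroup H) := Subgroup.card_dvd_of_le h5
    obtain ⟨k, hk⟩ := IsPGroup.iff_card.mp hY₀p
    rw [hk] at h6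
    rcases Nat.eq_zero_or_pos k with hk0 | hk0
    · rw [hk0, pow_zero] at hk
      exact Subgroup.card_eq_one.mp hk
    · exfalso
      have h7 : p ∣ Nat.card ↥(fittingSubgroup H) := (dvd_pow_self p hk0.ne').trans h6
      have := Nat.Coprime.eq_one_of_dvd hcop.symm h7
      exact hp.one_lt.ne' this

end Cfsg.Agent.S2816
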