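import Cfsg.Statements.S2817
import Cfsg.Agent.Lib.Helper17.GfsAction2
import Cfsg.Agent.Lib.Helper17.GfsAction3
import Cfsg.Agent.S2816

set_option autoImplicit false
open Cfsg

namespace Cfsg.Agent.S2817

open Cfsg.Agent.Lib.Helper17 Cfsg.Agent.Lib.Helper9 in
open scoped commutatorElement in
/-- Let H be a finite group and p a prime with O_p(H) = 1, Q a p-subgroup of H, L = [F*(H), Q], and F the largest normal subgroup of F*(H) centralized by Q (a normal subgroup of F*(H) centralized by Q and containing every such). Then F = C_{F*(H)}(LQ); L = [L, Q]; L ∩ F ≤ Φ(L); every p-subgroup B of N_H(Q) with [L, B] ≤ F satisfies [L, B] = 1; and C_H(FL) has order prime to p. -/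
theorem result {H : Type*} [Group H] [Finite H] {p : ℕ} [Fact p.Prime] (hO : Cfsg.pCore p H = ⊥) (Q : Subgroup H) (hQ : IsPGroup p ↥Q) (L : Subgroup H) (hL : L = ⁅Cfsg.generalizedFittingSubgroup H, Q⁆) (F : Subgroup H) (hF : F ≤ Cfsg.generalizedFittingSubgroup H ∧ Cfsg.generalizedFittingSubgroup H ≤ Subgroup.normalizer (F : Set H) ∧ Q ≤ Subgroup.centralizer (F : Set H) ∧ ∀ N : Subgroup H, N ≤ Cfsg.generalizedFittingSubgroup H → Cfsg.generalizedFittingSubgroup H ≤ Subgroup.normalizer (N : Set H) → Q ≤ Subgroup.centralizer (N : Set H) → N ≤ F) : F = Cfsg.generalizedFittingSubgroup H ⊓ Subgroup.centralizer ((L ⊔ Q : Subgroup H) : Set H) ∧ ⁅L, Q⁆ = L ∧ L ⊓ F ≤ (frattini ↥L).map L.subtype ∧ (∀ B : Subgroup H, IsPGroup p ↥B → B ≤ Subgroup.normalizer (Q : Set H) → ⁅L, B⁆ ≤ F → ⁅L, B⁆ = ⊥) ∧ (Nat.card ↥(Subgroup.centralizer ((F ⊔ L : Subgroup H) : Set H))).Coprime p := by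
  have hp : p.Prime := Fact.out
  haveI hXn : (generalizedFittingSubgroup H).Normal := by
    haveI := gfs_characteristic (G := H)
    infer_instance
  obtain ⟨hFX, hXF, hQF, hmax⟩ := hF
  have hgfs := commutator_gfs_eq hO Q hQ
  have hXsub : ∀ M : Subgroup H, M ≤ generalizedFittingSubgroup H → M.IsSubnormal →
      Q ≤ Subgroup.normalizer (M : Set H) →
      ⁅M, Q⁆ ⊔ (M ⊓ Subgroup.centralizer (Q : Set H)) = M :=
    fun M h1 h2 h3 => commutator_sup_centralizer_of_le_gfs_top hO Q hQ M h1 h2 h3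
  have hXB : ∀ B : Subgroup H, IsPGroup p ↥B →
      ⁅⁅generalizedFittingSubgroup H, B⁆, B⁆ = ⊥ → B = ⊥ :=
    fun B hB h => (Cfsg.Agent.S2816.result hO B hB).2 B le_rfl h
  have hdecomp : ∀ M : Subgroup H, M.IsSubnormal → M ≤ generalizedFittingSubgroup H →
      M ≤ sSup {K | IsComponent K ∧ K ≤ M} ⊔ (M ⊓ fittingSubgroup H) :=
    fun M h1 h2 => le_components_sup_fitting h1 h2
  generalize generalizedFittingSubgroup H = X at *
  have hXtop : ∀ A : Subgroup H, A ≤ Subgroup.normalizer (X : Set H) := fun A => by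
    rw [Subgroup.normalizer_eq_top]; exact le_top
  have hLX : L ≤ X := by
    rw [hL]; exact Cfsg.Agent.Lib.Helper1.commutator_le_of_le_normalizer (hXtop Q)
  have hXL : X ≤ Subgroup.normalizer (L : Set H) := by
    rw [hL]; exact Cfsg.Agent.Lib.Helper1.le_normalizer_commutator_left
  have hQL : Q ≤ Subgroup.normalizer (L : Set H) := by
    rw [hL]; exact Cfsg.Agent.Lib.Helper1.le_normalizer_commutator_right
  have hLQ : ⁅L, Q⁆ = L := by rw [hL]; exact hgfs.symm
  -- `F` centralizes `L`
  have hQF' : ⁅Q, F⁆ = ⊥ := Subgroup.commutator_eq_bot_iff_le_centralizer.mpr hQF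
  have hLF : ⁅L, F⁆ = ⊥ := by
    rw [hL]
    apply Subgroup.commutator_commutator_eq_bot_of_rotate
    · rw [hQF']; exact Subgroup.commutator_bot_left _
    · have h1 : ⁅F, X⁆ ≤ F := Cfsg.Agent.Lib.Helper1.commutator_le_of_le_normalizer hXF
      have h2 : ⁅F, Q⁆ = ⊥ := by rw [Subgroup.commutator_comm]; exact hQF'
      rw [eq_bot_iff, ← h2]; exact Subgroup.commutator_mono h1 le_rfl
  have hLcF : L ≤ Subgroup.centralizer (F : Set H) :=
    Subgroup.commutator_eq_bot_iff_le_centralizer.mp hLF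
  have hFcL : F ≤ Subgroup.centralizer (L : Set H) := Subgroup.le_centralizer_iff.mp hLcF
  have hFcQ : F ≤ Subgroup.centralizer (Q : Set H) := Subgroup.le_centralizer_iff.mp hQF
  -- part (1)
  have h1 : F = X ⊓ Subgroup.centralizer ((L ⊔ Q : Subgroup H) : Set H) := by
    rw [centralizer_sup_eq]
    apply le_antisymm
    · exact le_inf hFX (le_inf hFcL hFcQ)
    · apply hmax _ inf_le_left
      · apply Cfsg.Agent.Lib.Helper1.le_normalizer_of_forall_conj_mem
        rintro x hx n ⟨hnX, hnL, hnQ⟩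
        have hmL : x * n * x⁻¹ ∈ Subgroup.centralizer (L : Set H) := by
          have := mem_normalizer_centralizer (hXL hx)
          exact (Subgroup.mem_normalizer_iff.mp this n).mp hnL
        refine Subgroup.mem_inf.mpr ⟨hXn.conj_mem n hnX x, Subgroup.mem_inf.mpr ⟨hmL, ?_⟩⟩
        rw [Subgroup.mem_centralizer_iff]
        intro q hq
        have hc : ⁅q, x⁆ ∈ L := by
          rw [hL, Subgroup.commutator_comm]
          exact Subgroup.commutator_mem_commutator hq hx
        have hcm := Subgroup.mem_centralizer_iff.mp hmL _ hc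
        have hqn := Subgroup.mem_centralizer_iff.mp hnQ q hq
        rw [commutatorElement_def] at hcm
        have e1 : q * (x * n * x⁻¹) = (q * x * q⁻¹ * x⁻¹ * (x * n * x⁻¹)) * (x * q * x⁻¹ * q⁻¹) * q := by
          calc q * (x * n * x⁻¹) = q * x * q⁻¹ * (q * n) * x⁻¹ := by group
            _ = q * x * q⁻¹ * (n * q) * x⁻¹ := by rw [hqn]
            _ = _ := by group
        rw [e1, hcm]
        group
      · apply Subgroup.le_centralizer_iff.mp
        exact inf_le_right.trans inf_le_right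
  refine ⟨h1, hLQ, ?_⟩
  -- structure of `L`
  have hLsn : L.IsSubnormal :=
    Subgroup.IsSubnormal.trans hLX
      (Subgroup.Normal.isSubnormal ((Subgroup.normal_subgroupOf_iff_le_normalizer hLX).mpr hXL))
      (Subgroup.Normal.isSubnormal hXn)
  have hdec : L ≤ ⁅L, L⁆ ⊔ (L ⊓ fittingSubgroup H) := by
    refine (hdecomp L hLsn hLX).trans (sup_le_sup ?_ le_rfl)
    apply sSup_le
    rintro C ⟨hC, hCL⟩
    rw [← commutator_self_of_isQuasisimple hC.2]
    exact Subgroup.commutator_mono hCL hCL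
  have hcopF : (Nat.card ↥(L ⊓ fittingSubgroup H)).Coprime p :=
    Nat.Coprime.coprime_dvd_left (Subgroup.card_dvd_of_le inf_le_right) (fittingSubgroup_coprime hO)
  have hidx : (commutator ↥L).index ∣ Nat.card ↥(L ⊓ fittingSubgroup H) :=
    index_commutator_dvd inf_le_left hdec
  have hcopidx : ∀ B : Subgroup H, IsPGroup p ↥B → (Nat.card ↥B).Coprime (commutator ↥L).index := by
    intro B hB
    obtain ⟨k, hk⟩ := IsPGroup.iff_card.mp hB
    rw [hk]
    apply Nat.Coprime.pow_left
    exact (Nat.Coprime.coprime_dvd_left hidx hcopF).symm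
  have hCLQ : L ⊓ Subgroup.centralizer (Q : Set H) ≤ ⁅L, L⁆ :=
    inf_centralizer_le_commutator hQL hLQ (hcopidx Q hQ)
  have hDc : L ⊓ F ≤ Subgroup.centralizer (L : Set H) := inf_le_right.trans hFcL
  have hDQ : L ⊓ F ≤ Subgroup.centralizer (Q : Set H) := inf_le_right.trans hFcQ
  have hD' : L ⊓ F ≤ ⁅L, L⁆ := (le_inf inf_le_left hDQ).trans hCLQ
  refine ⟨le_map_frattini_of_central_of_le_commutator hDc hD', ?_, ?_⟩
  · -- part (4)
    intro B hB hBQ hLBF
    have hBL : B ≤ Subgroup.normalizer (L : Set H) := by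
      intro b hb
      rw [hL]
      exact mem_normalizer_commutator (hXtop B hb) (hBQ hb)
    have hLB : ⁅L, B⁆ ≤ L ⊓ F :=
      le_inf (Cfsg.Agent.Lib.Helper1.commutator_le_of_le_normalizer hBL) hLBF
    have hLBL : ⁅⁅L, B⁆, L⁆ = ⊥ := by
      rw [Subgroup.commutator_eq_bot_iff_le_centralizer]
      exact hLB.trans hDc
    have hLLB : ⁅⁅L, L⁆, B⁆ = ⊥ := by
      apply Subgroup.commutator_commutator_eq_bot_of_rotate
      · exact hLBL
      · rw [Subgroup.commutator_comm B L]; exact hLBL
    have hBF : B ≤ Subgroup.normalizer (((L ⊓ fittingSubgroup H : Subgroup H)) : Set H) := by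
      intro b hb
      apply mem_normalizer_inf (hBL hb)
      haveI : (fittingSubgroup H).Normal := Cfsg.Agent.Lib.Helper1.fittingSubgroup_normal
      rw [Subgroup.normalizer_eq_top]; trivial
    have hact : Cfsg.Agent.Lib.Helper1.CoprimeAct B (L ⊓ fittingSubgroup H) := by
      refine ⟨hBF, ?_, Or.inl ?_⟩
      · obtain ⟨k, hk⟩ := IsPGroup.iff_card.mp hB
        rw [hk]
        exact Nat.Coprime.pow_left _ hcopF.symm
      · haveI := hB.isNilpotent
        infer_instance
    have h2 := hact.commutator_commutator_eq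
    have h3 : ⁅L ⊓ fittingSubgroup H, B⁆ ≤ ⁅L, L⁆ :=
      (Subgroup.commutator_mono inf_le_left le_rfl).trans (hLB.trans hD')
    have h4 : ⁅⁅L ⊓ fittingSubgroup H, B⁆, B⁆ = ⊥ := by
      rw [eq_bot_iff, ← hLLB]
      exact Subgroup.commutator_mono h3 le_rfl
    rw [h4] at h2
    have h5 : L ⊓ fittingSubgroup H ≤ Subgroup.centralizer (B : Set H) :=
      Subgroup.commutator_eq_bot_iff_le_centralizer.mp h2.symm
    have h6 : ⁅L, L⁆ ≤ Subgroup.centralizer (B : Set H) :=
      Subgroup.commutator_eq_bot_iff_le_centralizer.mp hLLB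
    rw [Subgroup.commutator_eq_bot_iff_le_centralizer]
    exact hdec.trans (sup_le h6 h5)
  · -- part (5)
    have hMX : X ⊓ Subgroup.centralizer (L : Set H) ≤ X := inf_le_left
    have hXM : X ≤ Subgroup.normalizer ((X ⊓ Subgroup.centralizer (L : Set H) : Subgroup H) : Set H) := by
      intro x hx
      exact mem_normalizer_inf (hXtop X hx) (mem_normalizer_centralizer (hXL hx))
    have hQM : Q ≤ Subgroup.normalizer ((X ⊓ Subgroup.centralizer (L : Set H) : Subgroup H) : Set H) := by
      intro x hx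
      exact mem_normalizer_inf (hXtop Q hx) (mem_normalizer_centralizer (hQL hx))
    have hMsn : (X ⊓ Subgroup.centralizer (L : Set H)).IsSubnormal :=
      Subgroup.IsSubnormal.trans hMX
        (Subgroup.Normal.isSubnormal ((Subgroup.normal_subgroupOf_iff_le_normalizer hMX).mpr hXM))
        (Subgroup.Normal.isSubnormal hXn)
    have hM := hXsub _ hMX hMsn hQM
    have hMLF : X ⊓ Subgroup.centralizer (L : Set H) ≤ F ⊔ L := by
      rw [← hM]
      apply sup_le
      · refine le_trans ?_ le_sup_right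
        rw [hL]
        exact Subgroup.commutator_mono inf_le_left le_rfl
      · refine le_trans ?_ le_sup_left
        rw [h1, centralizer_sup_eq, inf_assoc]
    have hBbot : ∀ B : Subgroup H, IsPGroup p ↥B →
        B ≤ Subgroup.centralizer ((F ⊔ L : Subgroup H) : Set H) → B = ⊥ := by
      intro B hB hBC
      apply hXB B hB
      have hBcM : X ⊓ Subgroup.centralizer (L : Set H) ≤ Subgroup.centralizer (B : Set H) :=
        hMLF.trans (Subgroup.le_centralizer_iff.mp hBC)
      have hBcL : B ≤ Subgroup.centralizer (L : Set H) := by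
        refine hBC.trans ?_
        rw [centralizer_sup_eq]
        exact inf_le_right
      have hBL0 : ⁅B, L⁆ = ⊥ := Subgroup.commutator_eq_bot_iff_le_centralizer.mpr hBcL
      have hXBL : ⁅⁅X, B⁆, L⁆ = ⊥ := by
        apply Subgroup.commutator_commutator_eq_bot_of_rotate
        · rw [hBL0]; exact Subgroup.commutator_bot_left _
        · have h2 : ⁅L, X⁆ ≤ L := Cfsg.Agent.Lib.Helper1.commutator_le_of_le_normalizer hXL
          have h3 : ⁅L, B⁆ = ⊥ := by rw [Subgroup.commutator_comm]; exact hBL0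
          rw [eq_bot_iff, ← h3]
          exact Subgroup.commutator_mono h2 le_rfl
      have hXBM : ⁅X, B⁆ ≤ X ⊓ Subgroup.centralizer (L : Set H) :=
        le_inf (Cfsg.Agent.Lib.Helper1.commutator_le_of_le_normalizer (hXtop B))
          (Subgroup.commutator_eq_bot_iff_le_centralizer.mp hXBL)
      rw [Subgroup.commutator_eq_bot_iff_le_centralizer]
      exact hXBM.trans hBcM
    rw [Nat.coprime_comm, Nat.Prime.coprime_iff_not_dvd hp]
    intro hdvd
    obtain ⟨x, hx⟩ := exists_prime_orderOf_dvd_card' (G := ↥(Subgroup.centralizer ((F ⊔ L : Subgroup H) : Set H))) p hdvd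
    have hx' : orderOf (x : H) = p := by rw [Subgroup.orderOf_coe]; exact hx
    have hBp : IsPGroup p ↥(Subgroup.zpowers (x : H)) := by
      apply IsPGroup.of_card (n := 1)
      rw [Nat.card_zpowers, hx', pow_one]
    have hBC : Subgroup.zpowers (x : H) ≤ Subgroup.centralizer ((F ⊔ L : Subgroup H) : Set H) := by
      rw [Subgroup.zpowers_le]
      exact x.2
    have := hBbot _ hBp hBC
    rw [Subgroup.zpowers_eq_bot] at this
    rw [this, orderOf_one] at hx'
    exact hp.one_lt.ne hx'

end Cfsg.Agent.S2817
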