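import Cfsg.Statements.S2818
import Cfsg.Agent.Lib.Helper17.Frattini

set_option autoImplicit false
open Cfsg

namespace Cfsg.Agent.S2818

open Cfsg.Agent.Lib.Helper17
open scoped commutatorElement

/-- Elements of `Ω₁` of a commutative subgroup have order dividing `p` and lie in it. -/
theorem mem_omegaOne_of_comm {G : Type*} [Group G] (p : ℕ) (Z : Subgroup G)
    (hZ : ∀ a ∈ Z, ∀ b ∈ Z, a * b = b * a) {x : G} (hx : x ∈ Cfsg.omegaOne p Z) :
    x ∈ Z ∧ x ^ p = 1 := by
  unfold Cfsg.omegaOne at hx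
  induction hx using Subgroup.closure_induction with
  | mem x hx => exact hx
  | one => exact ⟨Z.one_mem, one_pow _⟩
  | mul x y _ _ ihx ihy =>
    refine ⟨Z.mul_mem ihx.1 ihy.1, ?_⟩
    have hc : Commute x y := hZ x ihx.1 y ihy.1
    rw [hc.mul_pow, ihx.2, ihy.2, one_mul]
  | inv x _ ih => exact ⟨Z.inv_mem ih.1, by rw [inv_pow, ih.2, inv_one]⟩

theorem comm_mul_left_of_commute {G : Type*} [Group G] {w x y : G} (hwx : Commute w x)
    (hwy : Commute w y) : ⁅w * x, y⁆ = ⁅x, y⁆ := by
  rw [commutatorElement_def, commutatorElement_def]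
  calc w * x * y * (w * x)⁻¹ * y⁻¹ = w * x * y * x⁻¹ * (w⁻¹ * y⁻¹) := by group
    _ = w * x * y * x⁻¹ * (y⁻¹ * w⁻¹) := by rw [hwy.inv_inv.eq]
    _ = w * (x * y * x⁻¹ * y⁻¹) * w⁻¹ := by group
    _ = x * y * x⁻¹ * y⁻¹ := by
      have : Commute w (x * y * x⁻¹ * y⁻¹) :=
        ((hwx.mul_right hwy).mul_right hwx.inv_right).mul_right hwy.inv_right
      rw [this.eq]; group

theorem comm_mul_right_of_commute {G : Type*} [Group G] {v x y : G} (hvx : Commute v x)
    (hvy : Commute v y) : ⁅x, v * y⁆ = ⁅x, y⁆ := by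
  rw [← commutatorElement_inv, comm_mul_left_of_commute hvy hvx, commutatorElement_inv]

/-- Let P be a finite p-subgroup of a group G and H a subgroup of N_G(P) with [P, H] ≤ Ω₁(Z(P)) (the elements of order dividing p in the centre of P). Then H centralizes the Frattini subgroup of P. -/
theorem result {G : Type*} [Group G] [Finite G] {p : ℕ} [Fact p.Prime] (P : Subgroup G) (hP : IsPGroup p ↥P) (H : Subgroup G) (hH : H ≤ Subgroup.normalizer (P : Set G)) (h : ⁅P, H⁆ ≤ Cfsg.omegaOne p (P ⊓ Subgroup.centralizer (P : Set G))) : ⁅(frattini ↥P).map P.subtype, H⁆ = ⊥ := by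
  have hZc : ∀ w ∈ P ⊓ Subgroup.centralizer (P : Set G), ∀ x ∈ P, Commute w x := by
    intro w hw x hx
    have := (Subgroup.mem_inf.mp hw).2
    rw [Subgroup.mem_centralizer_iff] at this
    exact (this x hx).symm
  have hZcomm : ∀ a ∈ P ⊓ Subgroup.centralizer (P : Set G),
      ∀ b ∈ P ⊓ Subgroup.centralizer (P : Set G), a * b = b * a := by
    intro a ha b hb
    exact hZc a ha b (Subgroup.mem_inf.mp hb).1
  -- conjugation by h acts on P as multiplication by a central element of order p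
  have key : ∀ a ∈ P, ∀ g ∈ H, ∃ w ∈ P ⊓ Subgroup.centralizer (P : Set G), w ^ p = 1 ∧
      g * a * g⁻¹ = w * a := by
    intro a ha g hg
    have hw : ⁅a⁻¹, g⁆ ∈ Cfsg.omegaOne p (P ⊓ Subgroup.centralizer (P : Set G)) :=
      h (Subgroup.commutator_mem_commutator (P.inv_mem ha) hg)
    obtain ⟨hw1, hw2⟩ := mem_omegaOne_of_comm p _ hZcomm hw
    refine ⟨⁅a⁻¹, g⁆, hw1, hw2, ?_⟩
    rw [(hZc _ hw1 a ha).eq]
    simp [commutatorElement_def, mul_assoc]
  rw [Subgroup.commutator_eq_bot_iff_le_centralizer]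
  rintro _ ⟨f, hf, rfl⟩
  rw [Subgroup.mem_centralizer_iff]
  intro g hg
  -- D = the centralizer of g in P
  let D : Subgroup P := (Subgroup.centralizer ({g} : Set G)).subgroupOf P
  have hmemD : ∀ x : P, g * (x : G) * g⁻¹ = x → x ∈ D := by
    intro x hx
    rw [Subgroup.mem_subgroupOf, Subgroup.mem_centralizer_iff]
    intro y hy
    rw [Set.mem_singleton_iff] at hy
    subst hy
    calc y * (x : G) = (y * (x : G) * y⁻¹) * y := by group
      _ = (x : G) * y := by rw [hx]
  have hD : frattini P ≤ D := by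
    apply frattini_le_of_pow_comm (p := p)
    · intro x
      obtain ⟨w, hwZ, hwp, hw⟩ := key x x.2 g hg
      apply hmemD
      have : g * ((x ^ p : P) : G) * g⁻¹ = (g * x * g⁻¹) ^ p := by
        rw [conj_pow]; rfl
      rw [this, hw]
      have hc : Commute w (x : G) := hZc w hwZ x x.2
      rw [hc.mul_pow, hwp, one_mul]; rfl
    · intro x y
      obtain ⟨w, hwZ, hwp, hw⟩ := key x x.2 g hg
      obtain ⟨v, hvZ, hvp, hv⟩ := key y y.2 g hg
      apply hmemD
      have : ((⁅x, y⁆ : P) : G) = ⁅(x : G), (y : G)⁆ := rfl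
      rw [this, conjugate_commutatorElement, hw, hv]
      have hwx := hZc w hwZ x x.2
      have hwy := hZc w hwZ y y.2
      have hwv := hZc w hwZ v (Subgroup.mem_inf.mp hvZ).1
      have hvx := hZc v hvZ x x.2
      have hvy := hZc v hvZ y y.2
      rw [comm_mul_left_of_commute hwx (hwv.mul_right hwy), comm_mul_right_of_commute hvx hvy]
  have hfD := hD hf
  rw [Subgroup.mem_subgroupOf, Subgroup.mem_centralizer_iff] at hfD
  exact (hfD g rfl)

end Cfsg.Agent.S2818
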