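import Cfsg.Statements.S2819
import Cfsg.Agent.Lib.Helper17.Frattini
import Cfsg.Agent.Lib.Helper17.Coprime
import Cfsg.Agent.Lib.Helper17.Commutator
import Cfsg.Agent.Lib.Helper17.PResidual
import Cfsg.Agent.Lib.Helper17.NormalClosure
import Mathlib.GroupTheory.Abelianization.Defs

set_option autoImplicit false
open Cfsg
open Cfsg.Agent.Lib.Helper17
open scoped commutatorElement

namespace Cfsg.Agent.S2819

/-- `⁅closure S, C⁆ ≤ D` when the generators normalize `D` and commutate `C` into `D`. -/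
theorem commutator_closure_le {G : Type*} [Group G] (S : Set G) (C D : Subgroup G)
    (hN : ∀ s ∈ S, s ∈ Subgroup.normalizer (D : Set G)) (h : ∀ s ∈ S, ∀ c ∈ C, ⁅s, c⁆ ∈ D) :
    ⁅Subgroup.closure S, C⁆ ≤ D := by
  have key : ∀ a ∈ Subgroup.closure S,
      a ∈ Subgroup.normalizer (D : Set G) ∧ ∀ c ∈ C, ⁅a, c⁆ ∈ D := by
    intro a ha
    induction ha using Subgroup.closure_induction with
    | mem x hx => exact ⟨hN x hx, h x hx⟩
    | one =>
      refine ⟨Subgroup.one_mem _, fun c _ => ?_⟩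
      rw [commutatorElement_one_left]; exact D.one_mem
    | mul a₁ a₂ _ _ ih₁ ih₂ =>
      refine ⟨Subgroup.mul_mem _ ih₁.1 ih₂.1, fun c hc => ?_⟩
      have e : ⁅a₁ * a₂, c⁆ = (a₁ * ⁅a₂, c⁆ * a₁⁻¹) * ⁅a₁, c⁆ := by
        simp only [commutatorElement_def]; group
      rw [e]
      exact D.mul_mem ((Subgroup.mem_normalizer_iff.mp ih₁.1 _).mp (ih₂.2 c hc)) (ih₁.2 c hc)
    | inv a _ ih =>
      refine ⟨Subgroup.inv_mem _ ih.1, fun c hc => ?_⟩
      have e : ⁅a⁻¹, c⁆ = a⁻¹ * (⁅a, c⁆)⁻¹ * a⁻¹⁻¹ := by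
        simp only [commutatorElement_def]; group
      rw [e]
      exact (Subgroup.mem_normalizer_iff.mp (Subgroup.inv_mem _ ih.1) _).mp (D.inv_mem (ih.2 c hc))
  rw [Subgroup.commutator_le]
  intro a ha c hc
  exact (key a ha).2 c hc

/-- Let P be a finite p-subgroup of a group G, H a subgroup of N_G(P), and Y a subgroup of H centralizing the derived subgroup P' such that [P, Y] is elementary abelian. Then O^p(⟨Y^H⟩), the subgroup of the normal closure of Y in H generated by its elements of order prime to p, centralizes the Frattini subgroup of P. -/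
theorem result {G : Type*} [Group G] [Finite G] {p : ℕ} [Fact p.Prime] (P : Subgroup G) (hP : IsPGroup p ↥P) (H : Subgroup G) (hH : H ≤ Subgroup.normalizer (P : Set G)) (Y : Subgroup G) (hYH : Y ≤ H) (hYc : Y ≤ Subgroup.centralizer ((⁅P, P⁆ : Subgroup G) : Set G)) (hel : Cfsg.IsElementaryAbelian p ⁅P, Y⁆) (NY : Subgroup G) (hNY : NY = (Subgroup.normalClosure ((Y.subgroupOf H : Subgroup ↥H) : Set ↥H)).map H.subtype) : (Cfsg.pResidual p ↥NY).map NY.subtype ≤ Subgroup.centralizer (((frattini ↥P).map P.subtype : Subgroup G) : Set G) := by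
  rw [map_normalClosure_subgroupOf hYH] at hNY
  set P' := ⁅P, P⁆ with hP'def
  have hP'P : P' ≤ P := commutator_le_left_of_le_normalizer Subgroup.le_normalizer
  have hHP' : H ≤ Subgroup.normalizer (P' : Set G) := fun h hh =>
    mem_normalizer_commutator (hH hh) (hH hh)
  -- the subgroup generated by p-th powers
  set Ag := Subgroup.closure {z : G | ∃ x ∈ P, z = x ^ p} with hAgdef
  have hAgP : Ag ≤ P := by
    rw [hAgdef, Subgroup.closure_le]
    rintro _ ⟨x, hx, rfl⟩
    exact P.pow_mem hx p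
  have hHAg : H ≤ Subgroup.normalizer (Ag : Set G) := by
    intro h hh
    apply mem_normalizer_of_map_conj_le
    rw [hAgdef, MonoidHom.map_closure, Subgroup.closure_le]
    rintro _ ⟨_, ⟨x, hx, rfl⟩, rfl⟩
    apply Subgroup.subset_closure
    refine ⟨h * x * h⁻¹, (Subgroup.mem_normalizer_iff.mp (hH hh) x).mp hx, ?_⟩
    simp only [MulEquiv.coe_toMonoidHom, MulAut.conj_apply, conj_pow]
  set D := Ag ⊔ P' with hDdef
  have hDP : D ≤ P := sup_le hAgP hP'P
  have hDp : IsPGroup p D := hP.to_le hDP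
  have hHD : H ≤ Subgroup.normalizer (D : Set G) := fun h hh =>
    mem_normalizer_sup (hHAg hh) (hHP' hh)
  have hP'D : P' ≤ D := le_sup_right
  -- frattini ≤ D
  have hFD : (frattini ↥P).map P.subtype ≤ D := by
    have h1 : frattini ↥P ≤ D.subgroupOf P := by
      apply frattini_le_of_pow_comm (p := p)
      · intro x
        rw [Subgroup.mem_subgroupOf]
        apply le_sup_left (a := Ag) (b := P')
        apply Subgroup.subset_closure
        exact ⟨x, x.2, by simp⟩
      · intro x y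
        rw [Subgroup.mem_subgroupOf]
        apply hP'D
        have : ((⁅x, y⁆ : ↥P) : G) = ⁅(x : G), (y : G)⁆ := by
          simp [commutatorElement_def]
        rw [this]
        exact Subgroup.commutator_mem_commutator x.2 y.2
    rintro _ ⟨x, hx, rfl⟩
    exact Subgroup.mem_subgroupOf.mp (h1 hx)
  -- core computation: ⁅x^p, y⁆ ∈ P'
  have hcore : ∀ x ∈ P, ∀ y ∈ Y, ⁅x ^ p, y⁆ ∈ P' := by
    intro x hx y hy
    have hyN : y ∈ Subgroup.normalizer (P : Set G) := hH (hYH hy)
    have hx' : y * x * y⁻¹ ∈ P := (Subgroup.mem_normalizer_iff.mp hyN x).mp hx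
    let xP : ↥P := ⟨x, hx⟩
    let x'P : ↥P := ⟨y * x * y⁻¹, hx'⟩
    have hc : (⁅x, y⁆) ^ p = 1 := hel.2 _ (Subgroup.commutator_mem_commutator hx hy)
    have hker : xP ^ p * (x'P ^ p)⁻¹ ∈ (Abelianization.of (G := ↥P)).ker := by
      rw [MonoidHom.mem_ker, map_mul, map_inv, map_pow, map_pow, ← inv_pow, ← mul_pow,
        ← map_inv, ← map_mul, ← map_pow]
      have : (xP * x'P⁻¹) ^ p = 1 := by
        apply Subtype.ext
        have e : ((xP * x'P⁻¹ : ↥P) : G) = ⁅x, y⁆ := by
          simp only [xP, x'P, Subgroup.coe_mul, Subgroup.coe_inv, commutatorElement_def]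
          group
        rw [Subgroup.coe_pow, e, hc]; rfl
      rw [this, map_one]
    rw [Abelianization.ker_of] at hker
    have h2 : ((xP ^ p * (x'P ^ p)⁻¹ : ↥P) : G) ∈ (commutator ↥P).map P.subtype :=
      ⟨_, hker, rfl⟩
    rw [Subgroup.map_subtype_commutator] at h2
    have e : ((xP ^ p * (x'P ^ p)⁻¹ : ↥P) : G) = ⁅x ^ p, y⁆ := by
      simp only [xP, x'P, Subgroup.coe_mul, Subgroup.coe_inv, Subgroup.coe_pow,
        commutatorElement_def, conj_pow]
      group
    rw [e] at h2
    exact h2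
  -- ⁅D, Y⁆ ≤ P'
  have hDY : ⁅D, Y⁆ ≤ P' := by
    rw [hDdef, sup_eq_iSup]
    apply commutator_iSup_le
    · intro b; cases b
      · intro z hz
        have hzP : z ∈ P := hP'P hz
        exact mem_normalizer_commutator (Subgroup.le_normalizer hzP) (Subgroup.le_normalizer hzP)
      · intro z hz
        exact mem_normalizer_commutator (Subgroup.le_normalizer (hAgP hz)) (Subgroup.le_normalizer (hAgP hz))
    · intro b; cases b
      · show ⁅P', Y⁆ ≤ P'
        have : ⁅P', Y⁆ = ⊥ := by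
          rw [Subgroup.commutator_eq_bot_iff_le_centralizer]
          exact Subgroup.le_centralizer_iff.mp hYc
        rw [this]; exact bot_le
      · show ⁅Ag, Y⁆ ≤ P'
        apply commutator_closure_le
        · rintro _ ⟨x, hx, rfl⟩
          have hxp : x ^ p ∈ P := P.pow_mem hx p
          exact mem_normalizer_commutator (Subgroup.le_normalizer hxp) (Subgroup.le_normalizer hxp)
        · rintro _ ⟨x, hx, rfl⟩ y hy
          exact hcore x hx y hy
  -- NY centralizes P' and ⁅D, NY⁆ ≤ P'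
  have hNYc : NY ≤ Subgroup.centralizer (P' : Set G) := by
    rw [hNY, Subgroup.closure_le]
    rintro _ ⟨h, hh, y, hy, rfl⟩
    have h1 : h * y * h⁻¹ ∈ (Subgroup.centralizer (P' : Set G)).map (MulAut.conj h).toMonoidHom :=
      conj_mem_map_conj (hYc hy)
    rw [← centralizer_map_conj, map_conj_eq_of_mem_normalizer (hHP' hh)] at h1
    exact h1
  have hNYH : NY ≤ H := by
    rw [hNY, Subgroup.closure_le]
    rintro _ ⟨h, hh, y, hy, rfl⟩
    exact H.mul_mem (H.mul_mem hh (hYH hy)) (H.inv_mem hh)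
  have hDNY : ⁅D, NY⁆ ≤ P' := by
    rw [Subgroup.commutator_comm, hNY]
    apply commutator_closure_le
    · rintro _ ⟨h, hh, y, hy, rfl⟩
      exact hHP' (H.mul_mem (H.mul_mem hh (hYH hy)) (H.inv_mem hh))
    · rintro _ ⟨h, hh, y, hy, rfl⟩ d hd
      have hd' : h⁻¹ * d * h⁻¹⁻¹ ∈ D :=
        (Subgroup.mem_normalizer_iff.mp (Subgroup.inv_mem _ (hHD hh)) d).mp hd
      have h1 : ⁅y, h⁻¹ * d * h⁻¹⁻¹⁆ ∈ P' := by
        have := hDY (Subgroup.commutator_mem_commutator hd' hy)
        have e : ⁅y, h⁻¹ * d * h⁻¹⁻¹⁆ = (⁅h⁻¹ * d * h⁻¹⁻¹, y⁆)⁻¹ := by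
          simp only [commutatorElement_def]; group
        rw [e]; exact P'.inv_mem this
      have e : ⁅h * y * h⁻¹, d⁆ = h * ⁅y, h⁻¹ * d * h⁻¹⁻¹⁆ * h⁻¹ := by
        simp only [commutatorElement_def]; group
      rw [e]
      exact (Subgroup.mem_normalizer_iff.mp (hHP' hh) _).mp h1
  -- conclusion
  rw [map_subtype_pResidual, Subgroup.closure_le]
  rintro a ⟨haN, hcop⟩
  have hcent := stability_centralizes hDp hcop hP'D
    (fun x hx => hDNY (Subgroup.commutator_mem_commutator hx haN))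
    (fun y hy => ((Subgroup.mem_centralizer_iff.mp (hNYc haN)) y hy).symm)
  show a ∈ Subgroup.centralizer _
  rw [Subgroup.mem_centralizer_iff]
  intro f hf
  exact (hcent f (hFD hf)).symm

end Cfsg.Agent.S2819
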