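import Cfsg.Statements.S2820
import Cfsg.Agent.Lib.Helper17.Subnormal

set_option autoImplicit false
open Cfsg
open Cfsg.Agent.Lib.Helper17

namespace Cfsg.Agent.S2820

/-- Let A and B be subnormal subgroups of the finite group H with A a p-group and B = O^p(B) (B generated by its elements of order prime to p). Then A normalizes B and B = O^p(AB), the subgroup of ⟨A, B⟩ generated by its elements of order prime to p. -/
theorem result {H : Type*} [Group H] [Finite H] {p : ℕ} [Fact p.Prime] (A B : Subgroup H) (hA : A.IsSubnormal) (hB : B.IsSubnormal) (hAp : IsPGroup p ↥A) (hBres : (Cfsg.pResidual p ↥B).map B.subtype = B) : A ≤ Subgroup.normalizer (B : Set H) ∧ (Cfsg.pResidual p ↥(A ⊔ B)).map (A ⊔ B).subtype = B := by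
  rw [map_subtype_pResidual] at hBres ⊢
  obtain ⟨P, hPn, hPp, hAP⟩ := exists_normal_pgroup_ge_of_isSubnormal hA hAp
  have hle := closure_coprime_le_of_isSubnormal (p := p) hB hPp
  have hmono : ∀ L : Subgroup H, B ≤ L →
      B ≤ Subgroup.closure {x : H | x ∈ L ∧ (orderOf x).Coprime p} := by
    intro L hBL
    conv_lhs => rw [← hBres]
    apply Subgroup.closure_mono
    rintro x ⟨hx, hxo⟩
    exact ⟨hBL hx, hxo⟩
  have hPB : Subgroup.closure {x : H | x ∈ P ⊔ B ∧ (orderOf x).Coprime p} = B :=
    le_antisymm hle (hmono _ le_sup_right)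
  constructor
  · have h1 := le_normalizer_closure_coprime (p := p) (P ⊔ B)
    rw [hPB] at h1
    exact le_trans hAP (le_trans le_sup_left h1)
  · apply le_antisymm
    · refine le_trans (Subgroup.closure_mono ?_) hle
      rintro x ⟨hx, hxo⟩
      exact ⟨sup_le_sup_right hAP B hx, hxo⟩
    · exact hmono _ le_sup_right

end Cfsg.Agent.S2820
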