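import Cfsg.Statements.S2821
import Cfsg.Agent.Lib.Helper17.YL
import Cfsg.Agent.Lib.Helper17.Commutator
import Cfsg.Agent.Lib.Helper17.SylowNormal2
import Cfsg.Agent.Lib.Helper16.PReduced2

set_option autoImplicit false
open Cfsg
open Cfsg.Agent.Lib.Helper17
open Cfsg.Agent.Lib.Helper16

namespace Cfsg.Agent.S2821

theorem normalizer_le_normalizer_centralizer {G : Type*} [Group G] (V : Subgroup G) :
    Subgroup.normalizer (V : Set G) ≤
      Subgroup.normalizer ((Subgroup.centralizer (V : Set G) : Subgroup G) : Set G) := by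
  intro g hg
  apply Cfsg.Agent.Lib.Helper17.mem_normalizer_of_map_conj_eq
  rw [← centralizer_map_conj, Cfsg.Agent.Lib.Helper17.map_conj_eq_of_mem_normalizer hg]

/-- `Ω₁Z(R)` is a `p`-reduced normal subgroup of any group `R` (trivially). -/
theorem omegaOne_center_pReduced {R : Type*} [Group R] [Finite R] {p : ℕ} [Fact p.Prime] :
    Cfsg.IsPReducedNormal p (Cfsg.omegaOne p (Subgroup.center R)) := by
  have hle : Cfsg.omegaOne p (Subgroup.center R) ≤ Subgroup.center R := by
    unfold Cfsg.omegaOne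
    rw [Subgroup.closure_le]
    rintro x ⟨hx, -⟩
    exact hx
  have hn : (Cfsg.omegaOne p (Subgroup.center R)).Normal := by
    constructor
    intro n hn g
    have := Subgroup.mem_center_iff.mp (hle hn) g
    have e : g * n * g⁻¹ = n := by rw [this]; group
    rw [e]; exact hn
  have hcomm : ∀ a ∈ Subgroup.center R, ∀ b ∈ Subgroup.center R, a * b = b * a := by
    intro a _ b hb
    exact Subgroup.mem_center_iff.mp hb a
  have hpow := omegaOne_pow_eq_one (p := p) (Subgroup.center R) hcomm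
  haveI := hn
  refine ⟨hn, ⟨⟨⟨?_⟩⟩, hpow⟩, Subgroup.normal_centralizer, ?_⟩
  · rintro ⟨a, ha⟩ ⟨b, hb⟩
    apply Subtype.ext
    exact (Subgroup.mem_center_iff.mp (hle ha) b).symm
  · apply pCore_quotient_eq_bot_of
    intro D _ _ d _
    rw [Subgroup.mem_centralizer_iff]
    intro x hx
    exact (Subgroup.mem_center_iff.mp (hle hx) d).symm

/-- Let H be a finite group, p a prime, T a Sylow p-subgroup and L a subgroup of characteristic p containing T; let Y_L be the largest p-reduced normal subgroup of L (the join of the normal elementary abelian p-subgroups V of L with O_p(L/C_L(V)) = 1). Then T₀ := C_T(Y_L) is a Sylow p-subgroup of C_H(Y_L); moreover O_p(L) ≤ T₀ ≤ C_L(Y_L) and Ω₁(Z(T)) ≤ Z_L ≤ Y_L ≤ Ω₁(Z(O_p(L))), where Z_L is generated by the Ω₁(Z(S)) over the Sylow p-subgroups S of L. -/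
theorem result {H : Type*} [Group H] [Finite H] {p : ℕ} [Fact p.Prime] (T : Sylow p H) (L : Subgroup H) (hTL : (T : Subgroup H) ≤ L) (hL : Subgroup.centralizer (Cfsg.pCore p ↥L : Set ↥L) ≤ Cfsg.pCore p ↥L) (T₀ : Subgroup H) (hT₀ : T₀ = (T : Subgroup H) ⊓ Subgroup.centralizer (((Cfsg.largestPReducedOf p L) : Subgroup H) : Set H)) : (∃ P : Sylow p ↥(Subgroup.centralizer (((Cfsg.largestPReducedOf p L) : Subgroup H) : Set H)), (P : Subgroup ↥(Subgroup.centralizer (((Cfsg.largestPReducedOf p L) : Subgroup H) : Set H))) = T₀.subgroupOf (Subgroup.centralizer (((Cfsg.largestPReducedOf p L) : Subgroup H) : Set H))) ∧ (Cfsg.pCoreOf p L) ≤ T₀ ∧ T₀ ≤ L ⊓ Subgroup.centralizer (((Cfsg.largestPReducedOf p L) : Subgroup H) : Set H) ∧ (Cfsg.omegaOne p ((T : Subgroup H) ⊓ Subgroup.centralizer (((T : Subgroup H) : Subgroup H) : Set H))) ≤ Cfsg.sylowCenterClosure p L ∧ Cfsg.sylowCenterClosure p L ≤ (Cfsg.largestPReducedOf p L) ∧ (Cfsg.largestPReducedOf p L) ≤ (Cfsg.omegaOne p ((Cfsg.pCoreOf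 p L) ⊓ Subgroup.centralizer (((Cfsg.pCoreOf p L) : Subgroup H) : Set H))) := by
  subst hT₀
  set Y := Cfsg.largestPReducedOf p L with hYdef
  set C := Subgroup.centralizer (Y : Set H) with hCdef
  obtain ⟨hY1, hY2, hY3⟩ := largestPReducedOf_props (p := p) L
  have hLY : L ≤ Subgroup.normalizer (Y : Set H) := le_normalizer_largestPReducedOf L
  have hTC : (T : Subgroup H) ≤ Subgroup.normalizer (C : Set H) :=
    (hTL.trans hLY).trans (normalizer_le_normalizer_centralizer Y)
  refine ⟨⟨sylowInfOfLeNormalizer T C hTC, ?_⟩, ?_, inf_le_inf_right _ hTL, ?_, ?_, ?_⟩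
  · rw [coe_sylowInfOfLeNormalizer, Subgroup.inf_subgroupOf_right]
  · exact le_inf (pCoreOf_le_sylow T hTL) (Subgroup.le_centralizer_iff.mp hY2)
  · unfold Cfsg.sylowCenterClosure
    have h1 : ((T.subtype hTL : Sylow p ↥L) : Subgroup ↥L).map L.subtype = (T : Subgroup H) := by
      rw [Sylow.coe_subtype, Subgroup.subgroupOf_map_subtype, inf_of_le_left hTL]
    have h2 := le_iSup (fun S : Sylow p ↥L => Cfsg.omegaOne p (((S : Subgroup ↥L).map L.subtype) ⊓
      Subgroup.centralizer (((S : Subgroup ↥L).map L.subtype : Subgroup H) : Set H)))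
      (T.subtype hTL)
    simp only [h1] at h2
    exact h2
  · unfold Cfsg.sylowCenterClosure
    apply iSup_le
    intro S
    have hX := omegaOne_center_pReduced (R := ↥(S : Subgroup ↥L)) (p := p)
    have hN := pReducedNormal_normalClosure hL S (S : Subgroup ↥L) le_rfl _ hX
    have hle := le_largestPReduced hN
    unfold Cfsg.omegaOne
    rw [Subgroup.closure_le]
    rintro x ⟨hx, hxp⟩
    obtain ⟨⟨s, hs, rfl⟩, hxc⟩ := Subgroup.mem_inf.mp hx
    refine ⟨s, hle (Subgroup.subset_normalClosure ?_), rfl⟩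
    refine ⟨⟨s, hs⟩, Subgroup.subset_closure ⟨?_, ?_⟩, rfl⟩
    · rw [Subgroup.mem_center_iff]
      rintro ⟨r, hr⟩
      apply Subtype.ext
      apply Subtype.ext
      exact (Subgroup.mem_centralizer_iff.mp hxc) (r : H) ⟨r, hr, rfl⟩
    · apply Subtype.ext
      apply Subtype.ext
      simpa using hxp
  · intro y hy
    apply Subgroup.subset_closure
    exact ⟨Subgroup.mem_inf.mpr ⟨hY1 hy, hY2 hy⟩, hY3 y hy⟩

end Cfsg.Agent.S2821
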