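import Cfsg.Statements.S2822
import Cfsg.Agent.Lib.Helper17.YL
import Cfsg.Agent.Lib.Helper17.Commutator

set_option autoImplicit false
open Cfsg
open Cfsg.Agent.Lib.Helper17
open Cfsg.Agent.Lib.Helper16
open scoped Pointwise

namespace Cfsg.Agent.S2822

theorem normalizer_le_normalizer_centralizer {G : Type*} [Group G] (V : Subgroup G) :
    Subgroup.normalizer (V : Set G) ≤
      Subgroup.normalizer ((Subgroup.centralizer (V : Set G) : Subgroup G) : Set G) := by
  intro g hg
  apply Cfsg.Agent.Lib.Helper17.mem_normalizer_of_map_conj_eq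
  rw [← centralizer_map_conj, Cfsg.Agent.Lib.Helper17.map_conj_eq_of_mem_normalizer hg]

theorem pow_mul_mem {G : Type*} [Group G] (C : Subgroup G) {d c : G}
    (hd : d ∈ Subgroup.normalizer (C : Set G)) (hc : c ∈ C) (n : ℕ) :
    ∃ c' ∈ C, (d * c) ^ n = d ^ n * c' := by
  induction n with
  | zero => exact ⟨1, C.one_mem, by simp⟩
  | succ n ih =>
    obtain ⟨c', hc', h⟩ := ih
    have hdi : d⁻¹ ∈ Subgroup.normalizer (C : Set G) := Subgroup.inv_mem _ hd
    have h1 : d⁻¹ * c' * d⁻¹⁻¹ ∈ C := (Subgroup.mem_normalizer_iff.mp hdi c').mp hc'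
    refine ⟨d⁻¹ * c' * d⁻¹⁻¹ * c, C.mul_mem h1 hc, ?_⟩
    rw [pow_succ, h, pow_succ]
    group

/-- Let H be a finite group, p a prime, T a Sylow p-subgroup, and L, M subgroups of characteristic p containing T, with largest p-reduced normal subgroups Y_L, Y_M. If L·C_H(Y_M) = M·C_H(Y_M), then Y_M ≤ Y_L. -/
theorem result {H : Type*} [Group H] [Finite H] {p : ℕ} [Fact p.Prime] (T : Sylow p H) (L M : Subgroup H) (hTL : (T : Subgroup H) ≤ L) (hTM : (T : Subgroup H) ≤ M) (hL : Subgroup.centralizer (Cfsg.pCore p ↥L : Set ↥L) ≤ Cfsg.pCore p ↥L) (hM : Subgroup.centralizer (Cfsg.pCore p ↥M : Set ↥M) ≤ Cfsg.pCore p ↥M) : L ⊔ Subgroup.centralizer (((Cfsg.largestPReducedOf p M) : Subgroup H) : Set H) = M ⊔ Subgroup.centralizer (((Cfsg.largestPReducedOf p M) : Subgroup H) : Set H) → (Cfsg.largestPReducedOf p M) ≤ (Cfsg.largestPReducedOf p L) := by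
  intro hfac
  set V := Cfsg.largestPReducedOf p M with hVdef
  set C := Subgroup.centralizer (V : Set H) with hCdef
  obtain ⟨hVM, hMV, hcomm, hexp, hD⟩ := relPReduced_largestPReducedOf (p := p) M
  have hVL : V ≤ L :=
    ((largestPReducedOf_props (p := p) M).1.trans (pCoreOf_le_sylow T hTM)).trans hTL
  have hCN : C ≤ Subgroup.normalizer (V : Set H) := Subgroup.centralizer_le_normalizer _
  have hNC : Subgroup.normalizer (V : Set H) ≤ Subgroup.normalizer (C : Set H) :=
    normalizer_le_normalizer_centralizer V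
  have hLV : L ≤ Subgroup.normalizer (V : Set H) := by
    have : L ≤ M ⊔ C := by rw [← hfac]; exact le_sup_left
    exact this.trans (sup_le hMV hCN)
  apply RelPReduced.le_largestPReducedOf
  refine ⟨hVL, hLV, hcomm, hexp, ?_⟩
  intro D hDL hLD hDp
  have hDC : D ≤ Subgroup.normalizer (C : Set H) := (hDL.trans hLV).trans hNC
  -- D' = (D ⊔ C) ⊓ M
  have hMnorm : M ≤ Subgroup.normalizer (((D ⊔ C) ⊓ M : Subgroup H) : Set H) := by
    intro m hm
    apply mem_normalizer_inf
    · have hLC : L ⊔ C ≤ Subgroup.normalizer ((D ⊔ C : Subgroup H) : Set H) := by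
        apply sup_le
        · intro l hl
          exact mem_normalizer_sup (hLD hl) (hNC (hLV hl))
        · exact le_sup_right.trans Subgroup.le_normalizer
      have : m ∈ L ⊔ C := by rw [hfac]; exact Subgroup.mem_sup_left hm
      exact hLC this
    · exact Subgroup.le_normalizer hm
  have hDCmul : ((D ⊔ C : Subgroup H) : Set H) = (D : Set H) * (C : Set H) :=
    Subgroup.coe_mul_of_left_le_normalizer_right D C hDC
  have hD'p : ∀ d ∈ (D ⊔ C) ⊓ M, ∃ k : ℕ, d ^ (p ^ k) ∈ Subgroup.centralizer (V : Set H) := by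
    intro d' hd'
    have h1 : d' ∈ ((D ⊔ C : Subgroup H) : Set H) := (Subgroup.mem_inf.mp hd').1
    rw [hDCmul] at h1
    obtain ⟨d, hd, c, hc, rfl⟩ := Set.mem_mul.mp h1
    obtain ⟨k, hk⟩ := hDp d hd
    obtain ⟨c', hc', h⟩ := pow_mul_mem C (hDC hd) hc (p ^ k)
    refine ⟨k, ?_⟩
    rw [h]
    exact C.mul_mem hk hc'
  have hD'C := hD ((D ⊔ C) ⊓ M) inf_le_right hMnorm hD'p
  intro d hd
  have hMCmul : ((M ⊔ C : Subgroup H) : Set H) = (M : Set H) * (C : Set H) :=
    Subgroup.coe_mul_of_left_le_normalizer_right M C (hMV.trans hNC)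
  have h1 : d ∈ ((M ⊔ C : Subgroup H) : Set H) := by
    rw [← hfac]; exact Subgroup.mem_sup_left (hDL hd)
  rw [hMCmul] at h1
  obtain ⟨m, hm, c, hc, hmc⟩ := Set.mem_mul.mp h1
  have hm' : m ∈ (D ⊔ C) ⊓ M := by
    refine Subgroup.mem_inf.mpr ⟨?_, hm⟩
    have : m = d * c⁻¹ := by rw [← hmc]; group
    rw [this]
    exact Subgroup.mul_mem _ (Subgroup.mem_sup_left hd) (Subgroup.mem_sup_right (C.inv_mem hc))
  rw [← hmc]
  exact C.mul_mem (hD'C hm') hc

end Cfsg.Agent.S2822
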