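import Cfsg.Statements.S2823
import Cfsg.Agent.S2821
import Cfsg.Agent.Lib.Helper17.YL
import Cfsg.Agent.Lib.Helper17.Commutator
import Cfsg.Agent.Lib.Helper17.PResidual
import Cfsg.Agent.Lib.Helper17.Subnormal
import Cfsg.Agent.Lib.Helper17.SylowControl
import Cfsg.Agent.Lib.Helper16.Critical
import Cfsg.Agent.Lib.Helper16.TransferAb

set_option autoImplicit false
open Cfsg
open Cfsg.Agent.Lib.Helper17
open Cfsg.Agent.Lib.Helper16
open scoped commutatorElement

namespace Cfsg.Agent.S2823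

theorem commutator_sup_le' {G : Type*} [Group G] {A B C D : Subgroup G}
    (hA : A ≤ Subgroup.normalizer (D : Set G)) (hB : B ≤ Subgroup.normalizer (D : Set G))
    (h1 : ⁅A, C⁆ ≤ D) (h2 : ⁅B, C⁆ ≤ D) : ⁅A ⊔ B, C⁆ ≤ D := by
  rw [sup_eq_iSup]
  apply commutator_iSup_le
  · intro b; cases b <;> simpa
  · intro b; cases b <;> simpa

/-- `Ω₁Z(A^g) ≤ Ω₁Z(A)^g`. -/
theorem omegaZ_conj_le {G : Type*} [Group G] (p : ℕ) (A : Subgroup G) (g : G) :
    omegaZ p (A.map (MulAut.conj g).toMonoidHom) ≤ (omegaZ p A).map (MulAut.conj g).toMonoidHom := by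
  have h := omegaZ_map_le p (A.map (MulAut.conj g).toMonoidHom) (MulAut.conj g⁻¹)
  rw [map_conj_map_conj_inv] at h
  have h2 := Subgroup.map_mono (f := (MulAut.conj g).toMonoidHom) h
  rwa [map_conj_inv_map_conj] at h2

/-- Let H be a finite group, p a prime, T a Sylow p-subgroup and L a subgroup of characteristic p containing T; let Z_L be the subgroup generated by the Ω₁(Z(S)) over the Sylow p-subgroups S of L and O^p(L) the subgroup generated by the elements of L of order prime to p. Then Z_L = Ω₁(Z(L))·[Z_L, O^p(L)] and [Z_L, L] = [Z_L, O^p(L)]. -/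
theorem result {H : Type*} [Group H] [Finite H] {p : ℕ} [Fact p.Prime] (T : Sylow p H) (L : Subgroup H) (hTL : (T : Subgroup H) ≤ L) (hL : Subgroup.centralizer (Cfsg.pCore p ↥L : Set ↥L) ≤ Cfsg.pCore p ↥L) : Cfsg.sylowCenterClosure p L = (Cfsg.omegaOne p (L ⊓ Subgroup.centralizer ((L : Subgroup H) : Set H))) ⊔ ⁅Cfsg.sylowCenterClosure p L, (Cfsg.pResidual p ↥L).map L.subtype⁆ ∧ ⁅Cfsg.sylowCenterClosure p L, L⁆ = ⁅Cfsg.sylowCenterClosure p L, (Cfsg.pResidual p ↥L).map L.subtype⁆ := by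
  obtain ⟨-, -, -, hZ₀Z, hZY, -⟩ := Cfsg.Agent.S2821.result T L hTL hL _ rfl
  set Z := Cfsg.sylowCenterClosure p L with hZdef
  set R := (Cfsg.pResidual p ↥L).map L.subtype with hRdef
  set Z₀ := Cfsg.omegaOne p ((T : Subgroup H) ⊓ Subgroup.centralizer (((T : Subgroup H) : Subgroup H) : Set H)) with hZ₀def
  set Z₁ := Cfsg.omegaOne p (L ⊓ Subgroup.centralizer ((L : Subgroup H) : Set H)) with hZ₁def
  set W := ⁅Z, R⁆ with hWdef
  obtain ⟨_, _, hYcomm, hYexp, _⟩ := relPReduced_largestPReducedOf (p := p) L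
  have hZcomm : ∀ a ∈ Z, ∀ b ∈ Z, a * b = b * a := fun a ha b hb => hYcomm a (hZY ha) b (hZY hb)
  have hZexp : ∀ a ∈ Z, a ^ p = 1 := fun a ha => hYexp a (hZY ha)
  have hZL : Z ≤ L := sylowCenterClosure_le p L
  have hLZ : L ≤ Subgroup.normalizer (Z : Set H) := by
    intro l hl
    apply mem_normalizer_of_map_conj_le
    exact sylowCenterClosure_conj_le p L l hl
  have hRL : R ≤ L := Subgroup.map_subtype_le _
  have hLR : L ≤ Subgroup.normalizer (R : Set H) := by
    rw [hRdef, map_subtype_pResidual]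
    exact le_normalizer_closure_coprime L
  have hLW : L ≤ Subgroup.normalizer (W : Set H) := fun l hl =>
    mem_normalizer_commutator (hLZ hl) (hLR hl)
  have hWZ : W ≤ Z := commutator_le_left_of_le_normalizer (hRL.trans hLZ)
  have hTR : (T : Subgroup H) ⊔ R = L := by
    have h1 := sylow_sup_pResidual (T.subtype hTL)
    have h2 := congrArg (Subgroup.map L.subtype) h1
    rw [Subgroup.map_sup, Sylow.coe_subtype, Subgroup.subgroupOf_map_subtype,
      inf_of_le_left hTL, ← MonoidHom.range_eq_map, Subgroup.range_subtype] at h2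
    exact h2
  -- T centralizes Z₀
  have hZ₀T : Z₀ ≤ Subgroup.centralizer ((T : Subgroup H) : Set H) := by
    rw [hZ₀def]
    unfold Cfsg.omegaOne
    rw [Subgroup.closure_le]
    rintro x ⟨hx, -⟩
    exact (Subgroup.mem_inf.mp hx).2
  have hTZ₀ : ⁅(T : Subgroup H), Z₀⁆ = ⊥ := by
    rw [Subgroup.commutator_eq_bot_iff_le_centralizer]
    exact Subgroup.le_centralizer_iff.mp hZ₀T
  -- ⁅Z₀, L⁆ ≤ W
  have hZ₀LW : ⁅Z₀, L⁆ ≤ W := by
    rw [Subgroup.commutator_comm, ← hTR]
    apply commutator_sup_le' (hTL.trans hLW) (hRL.trans hLW)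
    · rw [hTZ₀]; exact bot_le
    · rw [Subgroup.commutator_comm]
      exact Subgroup.commutator_mono hZ₀Z le_rfl
  -- L normalizes Z₀ ⊔ W
  have hLU : L ≤ Subgroup.normalizer ((Z₀ ⊔ W : Subgroup H) : Set H) := by
    intro l hl
    apply mem_normalizer_of_map_conj_le
    rw [Subgroup.map_sup]
    apply sup_le
    · rintro _ ⟨z, hz, rfl⟩
      simp only [MulEquiv.coe_toMonoidHom, MulAut.conj_apply]
      have e : l * z * l⁻¹ = z * ⁅z⁻¹, l⁆ := by rw [commutatorElement_def]; group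
      rw [e]
      exact Subgroup.mul_mem _ (Subgroup.mem_sup_left hz) (Subgroup.mem_sup_right
        (hZ₀LW (Subgroup.commutator_mem_commutator (Z₀.inv_mem hz) hl)))
    · rw [map_conj_eq_of_mem_normalizer (hLW hl)]
      exact le_sup_right
  -- Claim A
  have hA : Z ≤ Z₀ ⊔ W := by
    rw [hZdef, sylowCenterClosure_eq]
    apply iSup_le
    intro S
    obtain ⟨l, hl⟩ := MulAction.exists_smul_eq ↥L (T.subtype hTL) S
    have h1 := sylow_smul_map p L (T.subtype hTL) l
    rw [hl, Sylow.coe_subtype, Subgroup.subgroupOf_map_subtype, inf_of_le_left hTL] at h1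
    rw [h1]
    refine (omegaZ_conj_le p _ _).trans ?_
    have h2 : (omegaZ p (T : Subgroup H)).map (MulAut.conj (l : H)).toMonoidHom ≤
        (Z₀ ⊔ W).map (MulAut.conj (l : H)).toMonoidHom :=
      Subgroup.map_mono (le_sup_left (a := Z₀) (b := W))
    rw [map_conj_eq_of_mem_normalizer (hLU l.2)] at h2
    exact h2
  -- Claim B
  have hB : ⁅Z, L⁆ ≤ W := by
    refine (Subgroup.commutator_mono hA le_rfl).trans ?_
    apply commutator_sup_le' ((hZ₀Z.trans hZL).trans hLW) ((hWZ.trans hZL).trans hLW) hZ₀LW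
    exact commutator_le_left_of_le_normalizer hLW
  have hgoal2 : ⁅Z, L⁆ = W := le_antisymm hB (Subgroup.commutator_mono le_rfl hRL)
  refine ⟨?_, hgoal2⟩
  apply le_antisymm
  · -- Z ≤ Z₁ ⊔ W
    refine hA.trans (sup_le ?_ le_sup_right)
    rw [hZ₀def]
    unfold Cfsg.omegaOne
    rw [Subgroup.closure_le]
    rintro v ⟨hv, hvp⟩
    have hvZ : v ∈ Z := hZ₀Z (Subgroup.subset_closure ⟨hv, hvp⟩)
    have hvT : ∀ s ∈ (T : Subgroup H).subgroupOf L, ((s : ↥L) : H) * v = v * (s : H) := by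
      intro s hs
      exact (Subgroup.mem_centralizer_iff.mp (Subgroup.mem_inf.mp hv).2) (s : H)
        (Subgroup.mem_subgroupOf.mp hs)
    obtain ⟨τ, hτZ, hτc, c, hc, hτ⟩ := transfer_decomp Z L hLZ hZcomm
      ((T : Subgroup H).subgroupOf L) v hvZ hvT
    set m := ((T : Subgroup H).subgroupOf L).index with hm
    have hmcop : Nat.Coprime m p := by
      have hdvd : m ∣ (T : Subgroup H).index := Subgroup.relIndex_dvd_index_of_le hTL
      have hnd : ¬ p ∣ m := fun h => T.not_dvd_index (h.trans hdvd)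
      exact ((Nat.Prime.coprime_iff_not_dvd Fact.out).mpr hnd).symm
    have hτZ₁ : τ ∈ Z₁ := by
      apply Subgroup.subset_closure
      refine ⟨Subgroup.mem_inf.mpr ⟨hZL hτZ, ?_⟩, hZexp τ hτZ⟩
      rw [Subgroup.mem_centralizer_iff]
      exact hτc
    have hvm : v ^ m ∈ Z₁ ⊔ W := by
      have e : v ^ m = c⁻¹ * τ := by rw [hτ]; group
      rw [e]
      exact Subgroup.mul_mem _ (Subgroup.mem_sup_right (W.inv_mem (hB hc)))
        (Subgroup.mem_sup_left hτZ₁)
    obtain ⟨k, -, hk⟩ := Nat.exists_mul_mod_eq_one_of_coprime hmcop (Fact.out : p.Prime).one_lt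
    have e2 : v = (v ^ m) ^ k := by
      rw [← pow_mul]
      conv_rhs => rw [← Nat.div_add_mod (m * k) p, hk, pow_add, pow_mul, hvp, one_pow, one_mul,
        pow_one]
    show v ∈ Z₁ ⊔ W
    rw [e2]
    exact Subgroup.pow_mem _ hvm k
  · apply sup_le _ hWZ
    rw [hZ₁def]
    unfold Cfsg.omegaOne
    rw [Subgroup.closure_le]
    rintro x ⟨hx, hxp⟩
    obtain ⟨hxL, hxC⟩ := Subgroup.mem_inf.mp hx
    apply hZ₀Z
    apply Subgroup.subset_closure
    refine ⟨Subgroup.mem_inf.mpr ⟨?_, Subgroup.centralizer_le hTL hxC⟩, hxp⟩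
    -- x ∈ T
    have hzp : IsPGroup p (Subgroup.zpowers x) := by
      rintro ⟨g, hg⟩
      obtain ⟨k, rfl⟩ := Subgroup.mem_zpowers_iff.mp hg
      refine ⟨1, Subtype.ext ?_⟩
      simp only [pow_one, Subgroup.coe_pow, Subgroup.coe_one]
      rw [← zpow_natCast, ← zpow_mul, mul_comm, zpow_mul, zpow_natCast, hxp, one_zpow]
    have hzL : Subgroup.zpowers x ≤ L := by
      rw [Subgroup.zpowers_le]; exact hxL
    have hLz : L ≤ Subgroup.normalizer ((Subgroup.zpowers x : Subgroup H) : Set H) := by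
      refine le_trans ?_ (centralizer_le_normalizer_zpowers' x)
      intro l hl
      rw [Subgroup.mem_centralizer_singleton_iff]
      exact ((Subgroup.mem_centralizer_iff.mp hxC) l hl)
    exact pCoreOf_le_sylow T hTL (le_pCoreOf hzL hLz hzp (Subgroup.mem_zpowers x))

end Cfsg.Agent.S2823
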