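import Cfsg.Statements.S2824
import Cfsg.Agent.S2821
import Cfsg.Agent.Lib.Helper17.YL2
import Cfsg.Agent.Lib.Helper17.SylowNormal2
import Cfsg.Agent.Lib.Helper17.SylowLemmas

set_option autoImplicit false
open Cfsg
open Cfsg.Agent.Lib.Helper17
open Cfsg.Agent.Lib.Helper16

namespace Cfsg.Agent.S2824

/-- Let H be a finite group, p a prime, T a Sylow p-subgroup, L and M subgroups of characteristic p containing T, Y_L the largest p-reduced normal subgroup of L and T₀ = C_T(Y_L). If M·C_H(Y_L) = L·C_H(Y_L), then L* := N_M(T₀) has Y_{L*} = Y_L and L·C_H(Y_L) = L*·C_H(Y_L). -/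
theorem result {H : Type*} [Group H] [Finite H] {p : ℕ} [Fact p.Prime] (T : Sylow p H) (L M : Subgroup H) (hTL : (T : Subgroup H) ≤ L) (hTM : (T : Subgroup H) ≤ M) (hL : Subgroup.centralizer (Cfsg.pCore p ↥L : Set ↥L) ≤ Cfsg.pCore p ↥L) (hM : Subgroup.centralizer (Cfsg.pCore p ↥M : Set ↥M) ≤ Cfsg.pCore p ↥M) (T₀ : Subgroup H) (hT₀ : T₀ = (T : Subgroup H) ⊓ Subgroup.centralizer (((Cfsg.largestPReducedOf p L) : Subgroup H) : Set H)) (hfac : M ⊔ Subgroup.centralizer (((Cfsg.largestPReducedOf p L) : Subgroup H) : Set H) = L ⊔ Subgroup.centralizer (((Cfsg.largestPReducedOf p L) : Subgroup H) : Set H)) (Ls : Subgroup H) (hLs : Ls = M ⊓ Subgroup.normalizer ((T₀ : Subgroup H) : Set H)) : (Cfsg.largestPReducedOf p Ls) = (Cfsg.largestPReducedOf p L) ∧ L ⊔ Subgroup.centralizer (((Cfsg.largestPReducedOf p L) : Subgroup H) : Set H) = Ls ⊔ Subgroup.centralizer (((Cfsg.largestPReducedOf p L) : Subgroup H) : Set H) := by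
  set Y := Cfsg.largestPReducedOf p L with hYdef
  set C := Subgroup.centralizer (Y : Set H) with hCdef
  have hLY : L ≤ Subgroup.normalizer (Y : Set H) := le_normalizer_largestPReducedOf L
  have hCY : C ≤ Subgroup.normalizer (Y : Set H) := Subgroup.centralizer_le_normalizer _
  have hNC : Subgroup.normalizer (Y : Set H) ≤ Subgroup.normalizer (C : Set H) :=
    normalizer_le_normalizer_centralizer' Y
  have hMY : M ≤ Subgroup.normalizer (Y : Set H) := by
    have : M ≤ L ⊔ C := by rw [← hfac]; exact le_sup_left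
    exact this.trans (sup_le hLY hCY)
  have hMC : M ≤ Subgroup.normalizer (C : Set H) := hMY.trans hNC
  have hT₀p : IsPGroup p T₀ := by rw [hT₀]; exact T.2.to_le inf_le_left
  have hT₀T : T₀ ≤ (T : Subgroup H) := by rw [hT₀]; exact inf_le_left
  have hTT₀ : (T : Subgroup H) ≤ Subgroup.normalizer (T₀ : Set H) := by
    intro t ht
    rw [hT₀]
    exact mem_normalizer_inf (Subgroup.le_normalizer ht) (hMC (hTM ht))
  have hTLs : (T : Subgroup H) ≤ Ls := by rw [hLs]; exact le_inf hTM hTT₀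
  obtain ⟨-, hOpL, -, -, -, -⟩ := Cfsg.Agent.S2821.result T L hTL hL T₀ hT₀
  have hYT₀ : Y ≤ T₀ := (largestPReducedOf_props (p := p) L).1.trans hOpL
  have hYLs : Y ≤ Ls := (hYT₀.trans hT₀T).trans hTLs
  -- (ii) M ⊔ C = Ls ⊔ C
  have hMLs : M ⊔ C = Ls ⊔ C := by
    apply le_antisymm
    · apply sup_le _ le_sup_right
      intro m hm
      -- Frattini
      have hMN : M ≤ Subgroup.normalizer ((M ⊓ C : Subgroup H) : Set H) := fun m hm =>
        mem_normalizer_inf (Subgroup.le_normalizer hm) (hMC hm)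
      have hTN : (T : Subgroup H) ≤ Subgroup.normalizer ((M ⊓ C : Subgroup H) : Set H) :=
        hTM.trans hMN
      obtain ⟨n, hn, hnm⟩ := frattini_internal (sylowInfOfLeNormalizer T (M ⊓ C) hTN) m (hMN hm)
      rw [coe_sylowInfOfLeNormalizer, Subgroup.subgroupOf_map_subtype] at hnm
      have e : (T : Subgroup H) ⊓ (M ⊓ C) = T₀ := by
        rw [hT₀, ← inf_assoc, inf_of_le_left hTM]
      rw [e] at hnm
      have hn' : n⁻¹ * m ∈ Ls := by
        rw [hLs]
        exact Subgroup.mem_inf.mpr ⟨M.mul_mem (M.inv_mem (Subgroup.mem_inf.mp hn).1) hm, hnm⟩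
      have : m = n * (n⁻¹ * m) := by group
      rw [this]
      exact Subgroup.mul_mem _ (Subgroup.mem_sup_right (Subgroup.mem_inf.mp hn).2)
        (Subgroup.mem_sup_left hn')
    · apply sup_le _ le_sup_right
      rw [hLs]
      exact inf_le_left.trans le_sup_left
  have hii : L ⊔ C = Ls ⊔ C := by rw [← hfac, hMLs]
  refine ⟨?_, hii⟩
  -- (i)
  have hLsY : RelPReduced p Ls Y :=
    relPReduced_of_sup_centralizer_eq (relPReduced_largestPReducedOf L) hYLs hii.symm
  have hle : Y ≤ Cfsg.largestPReducedOf p Ls := RelPReduced.le_largestPReducedOf hLsY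
  -- Ls has characteristic p
  have hMchar : IsCharPSub p M := (isCharPSub_iff M).mp hM
  have hLschar : IsCharPSub p Ls := by
    rw [hLs]
    exact isCharPSub_normalizer_inf hMchar (hT₀T.trans hTM) hT₀p
  have hLschar' := (isCharPSub_iff Ls).mpr hLschar
  set Y' := Cfsg.largestPReducedOf p Ls with hY'def
  have h1 := largestPReducedOf_eq_omegaOne T Ls hTLs hLschar'
  have h2 := largestPReducedOf_eq_omegaOne T L hTL hL
  -- C_T(Y') = T₀
  have hT₀' : (T : Subgroup H) ⊓ Subgroup.centralizer (Y' : Set H) = T₀ := by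
    apply le_antisymm
    · rw [hT₀]
      exact inf_le_inf_left _ (Subgroup.centralizer_le hle)
    · obtain ⟨-, hOpLs, -⟩ := Cfsg.Agent.S2821.result T Ls hTLs hLschar' _ rfl
      refine le_trans ?_ hOpLs
      apply le_pCoreOf ((hT₀T.trans hTLs)) _ hT₀p
      rw [hLs]; exact inf_le_right
  rw [hT₀'] at h1
  rw [← hT₀] at h2
  exact h1.trans h2.symm

end Cfsg.Agent.S2824
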