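import Cfsg.Statements.S2825
import Cfsg.Agent.Lib.Helper17.PReducedRel
import Cfsg.Agent.Lib.Helper17.PResidual

set_option autoImplicit false
open Cfsg

namespace Cfsg.Agent.S2825

open Cfsg.Agent.Lib.Helper17 Cfsg.Agent.Lib.Helper16

section aux

variable {H : Type*} [Group H] [Finite H] {p : ℕ} [Fact p.Prime]

/-- The statements carried along a subnormal chain. -/
def Good (p : ℕ) (L : Subgroup H) : Prop :=
  largestPReduced p H ⊓ L = largestPReduced p H ⊓ largestPReducedOf p L ∧
  RelPReduced p L (largestPReduced p H ⊓ L) ∧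
  L ⊓ Subgroup.centralizer ((largestPReducedOf p L : Subgroup H) : Set H) =
    L ⊓ Subgroup.centralizer (largestPReduced p H : Set H) ∧
  L ⊓ Subgroup.centralizer (largestPReduced p H : Set H) =
    L ⊓ Subgroup.centralizer ((largestPReduced p H ⊓ L : Subgroup H) : Set H)

theorem good_top : Good p (⊤ : Subgroup H) := by
  unfold Good
  rw [largestPReducedOf_top, inf_top_eq]
  refine ⟨(inf_idem _).symm, relPReduced_largestPReduced, rfl, rfl⟩

theorem good_step {L K : Subgroup H} (hLK : L ≤ K) (hKL : K ≤ Subgroup.normalizer (L : Set H))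
    (ih : Good p K) : Good p L := by
  obtain ⟨-, ihb, ihc, ihd⟩ := ih
  have hinf : largestPReduced p H ⊓ L = (largestPReduced p H ⊓ K) ⊓ L := by
    rw [inf_assoc, inf_eq_right.mpr hLK]
  have hb : RelPReduced p L (largestPReduced p H ⊓ L) := by
    rw [hinf]
    exact RelPReduced.inf_of_normal ihb hLK hKL
  have hYL : largestPReduced p H ⊓ L ≤ largestPReducedOf p L := le_largestPReducedOf_of_rel hb
  have hYLL : largestPReducedOf p L ≤ L := (relPReduced_largestPReducedOf (p := p) L).1
  have hLinf : ∀ X : Subgroup H, L ⊓ X = L ⊓ (K ⊓ X) := by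
    intro X
    rw [← inf_assoc, inf_eq_left.mpr hLK]
  have hd : L ⊓ Subgroup.centralizer (largestPReduced p H : Set H) =
      L ⊓ Subgroup.centralizer ((largestPReduced p H ⊓ L : Subgroup H) : Set H) := by
    rw [hLinf (Subgroup.centralizer (largestPReduced p H : Set H)), ihd, ← hLinf,
      RelPReduced.inf_centralizer_eq ihb hLK hKL, ← hinf]
  refine ⟨?_, hb, ?_, hd⟩
  · apply le_antisymm
    · exact le_inf inf_le_left hYL
    · exact inf_le_inf le_rfl hYLL
  · apply le_antisymm
    · rw [hd]
      exact inf_le_inf le_rfl (Subgroup.centralizer_le (by exact_mod_cast hYL))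
    · refine le_inf inf_le_left ?_
      rw [hLinf (Subgroup.centralizer (largestPReduced p H : Set H)), ← ihc, ← hLinf]
      refine le_trans ?_ (inf_centralizer_le_of_normal (p := p) hLK hKL)
      exact inf_le_inf le_rfl (Subgroup.centralizer_le (by exact_mod_cast inf_le_left))

theorem good_of_isSubnormal {L : Subgroup H} (hL : L.IsSubnormal) : Good p L := by
  induction hL with
  | top => exact good_top
  | step L K hLK _ hN ih =>
    exact good_step hLK ((Subgroup.normal_subgroupOf_iff_le_normalizer hLK).mp hN) ih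

end aux

/-- Let L be a subnormal subgroup of the finite group H, p a prime, Y_H and Y_L the largest p-reduced normal subgroups. Then Y_H ∩ L = Y_H ∩ Y_L and this subgroup is a p-reduced normal subgroup of L; C_L(Y_L) = C_L(Y_H) = C_L(Y_H ∩ L); and if O^p(H) ≤ L, then [Y_L, L] = 1 if and only if [Y_H, H] = 1. -/
theorem result {H : Type*} [Group H] [Finite H] {p : ℕ} [Fact p.Prime] (L : Subgroup H) (hL : L.IsSubnormal) : Cfsg.largestPReduced p H ⊓ L = Cfsg.largestPReduced p H ⊓ (Cfsg.largestPReducedOf p L) ∧ Cfsg.IsPReducedNormal p ((Cfsg.largestPReduced p H ⊓ L).subgroupOf L) ∧ L ⊓ Subgroup.centralizer ((Cfsg.largestPReducedOf p L : Subgroup H) : Set H) = L ⊓ Subgroup.centralizer (Cfsg.largestPReduced p H : Set H) ∧ L ⊓ Subgroup.centralizer (Cfsg.largestPReduced p H : Set H) = L ⊓ Subgroup.centralizer ((Cfsg.largestPReduced p H ⊓ L : Subgroup H) : Set H) ∧ (Cfsg.pResidual p H ≤ L → (⁅(Cfsg.largestPReducedOf p L), L⁆ = ⊥ ↔ ⁅Cfsg.largestPReduced p H, (⊤ : Subgroup H)⁆ = ⊥)) := by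
  obtain ⟨ha, hb, hc, hd⟩ := good_of_isSubnormal (p := p) hL
  refine ⟨ha, isPReducedNormal_of_rel L _ hb, hc, hd, ?_⟩
  intro hres
  have e1 : ⁅(largestPReducedOf p L), L⁆ = ⊥ ↔
      L ≤ Subgroup.centralizer ((largestPReducedOf p L : Subgroup H) : Set H) := by
    rw [Subgroup.commutator_comm]
    exact Subgroup.commutator_eq_bot_iff_le_centralizer
  have e2 : ⁅largestPReduced p H, (⊤ : Subgroup H)⁆ = ⊥ ↔
      (⊤ : Subgroup H) ≤ Subgroup.centralizer ((largestPReduced p H : Subgroup H) : Set H) := by
    rw [Subgroup.commutator_comm]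
    exact Subgroup.commutator_eq_bot_iff_le_centralizer
  rw [e1, e2]
  constructor
  · intro h
    have h1 : L ≤ Subgroup.centralizer (largestPReduced p H : Set H) := by
      have : L ⊓ Subgroup.centralizer ((largestPReducedOf p L : Subgroup H) : Set H) = L :=
        inf_eq_left.mpr h
      rw [hc] at this
      exact inf_eq_left.mp this
    have hrel := relPReduced_largestPReduced (G := H) (p := p)
    apply hrel.2.2.2.2 ⊤ le_rfl (by rw [Subgroup.normalizer_eq_top])
    intro d _
    obtain ⟨k, hk⟩ := exists_pow_mem_pResidual (p := p) d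
    exact ⟨k, h1 (hres hk)⟩
  · intro h
    have : L ⊓ Subgroup.centralizer (largestPReduced p H : Set H) = L :=
      inf_eq_left.mpr (le_top.trans h)
    rw [← hc] at this
    exact inf_eq_left.mp this

end Cfsg.Agent.S2825
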