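import Cfsg.Statements.S2826
import Cfsg.Agent.Lib.Helper17.Commutator
import Cfsg.Agent.Lib.Helper17.PResidual
import Cfsg.Agent.Lib.Helper16.TransferAb
import Cfsg.Agent.Lib.Helper16.PCore

set_option autoImplicit false
open Cfsg
open Cfsg.Agent.Lib.Helper17
open Cfsg.Agent.Lib.Helper16
open scoped commutatorElement

namespace Cfsg.Agent.S2826

theorem commutator_sup_le' {G : Type*} [Group G] {A B C D : Subgroup G}
    (hA : A ≤ Subgroup.normalizer (D : Set G)) (hB : B ≤ Subgroup.normalizer (D : Set G))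
    (h1 : ⁅A, C⁆ ≤ D) (h2 : ⁅B, C⁆ ≤ D) : ⁅A ⊔ B, C⁆ ≤ D := by
  rw [sup_eq_iSup]
  apply commutator_iSup_le
  · intro b; cases b <;> simpa
  · intro b; cases b <;> simpa

/-- Let H be a finite group of characteristic p, T a Sylow p-subgroup, and V a normal elementary abelian p-subgroup of H containing Ω₁(Z(T)). Then C_H(Ω₁(Z(T))) = C_H([V, O^p(H)] ∩ Ω₁(Z(T))), O^p(H) being generated by the elements of order prime to p. -/
theorem result {H : Type*} [Group H] [Finite H] {p : ℕ} [Fact p.Prime] (hH : Subgroup.centralizer (Cfsg.pCore p H : Set H) ≤ Cfsg.pCore p H) (T : Sylow p H) (V : Subgroup H) [V.Normal] (hV : Cfsg.IsElementaryAbelian p V) (hZV : (Cfsg.omegaOne p ((T : Subgroup H) ⊓ Subgroup.centralizer (((T : Subgroup H) : Subgroup H) : Set H))) ≤ V) : Subgroup.centralizer ((Cfsg.omegaOne p ((T : Subgroup H) ⊓ Subgroup.centralizer (((T : Subgroup H) : Subgroup H) : Set H))) : Set H) = Subgroup.centralizer (((⁅V, Cfsg.pResidual p H⁆ ⊓ (Cfsg.omegaOne p ((T : Subgroup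 H) ⊓ Subgroup.centralizer (((T : Subgroup H) : Subgroup H) : Set H)))) : Subgroup H) : Set H) := by
  set Z := Cfsg.omegaOne p ((T : Subgroup H) ⊓ Subgroup.centralizer ((T : Subgroup H) : Set H)) with hZdef
  set R := Cfsg.pResidual p H with hRdef
  set W := ⁅V, R⁆ with hWdef
  have hWn : W.Normal := Subgroup.commutator_normal V R
  have hNW : ∀ g : H, g ∈ Subgroup.normalizer (W : Set H) := by
    intro g; rw [Subgroup.normalizer_eq_top_iff.mpr hWn]; exact Subgroup.mem_top g
  have hWV : W ≤ V := Subgroup.commutator_le_left V R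
  have hVcomm : ∀ a ∈ V, ∀ b ∈ V, a * b = b * a := fun a ha b hb =>
    congrArg Subtype.val (hV.1.is_comm.comm (⟨a, ha⟩ : V) ⟨b, hb⟩)
  have hVexp : ∀ a ∈ V, a ^ p = 1 := hV.2
  have hVp : IsPGroup p V := by
    rintro ⟨a, ha⟩
    exact ⟨1, Subtype.ext (by simpa using hVexp a ha)⟩
  have hVT : V ≤ (T : Subgroup H) := normal_pgroup_le_sylow V inferInstance hVp T
  have hZTC : Z ≤ (T : Subgroup H) ⊓ Subgroup.centralizer ((T : Subgroup H) : Set H) := by
    rw [hZdef]; unfold Cfsg.omegaOne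
    rw [Subgroup.closure_le]
    rintro x ⟨hx, -⟩
    exact hx
  have hTR : (T : Subgroup H) ⊔ R = ⊤ := sylow_sup_pResidual T
  apply le_antisymm
  · exact Subgroup.centralizer_le (by exact_mod_cast (inf_le_right : W ⊓ Z ≤ Z))
  · intro x hx
    rw [Subgroup.mem_centralizer_iff] at hx ⊢
    intro z hz
    have hzV : z ∈ V := hZV hz
    have hzT := Subgroup.mem_inf.mp (hZTC hz)
    -- ⁅⊤, zpowers z⁆ ≤ W
    have h1 : ⁅(⊤ : Subgroup H), Subgroup.zpowers z⁆ ≤ W := by
      rw [← hTR]
      apply commutator_sup_le' (fun g _ => hNW g) (fun g _ => hNW g)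
      · have : ⁅(T : Subgroup H), Subgroup.zpowers z⁆ = ⊥ := by
          rw [Subgroup.commutator_eq_bot_iff_le_centralizer, Subgroup.le_centralizer_iff,
            Subgroup.zpowers_le]
          exact hzT.2
        rw [this]; exact bot_le
      · rw [Subgroup.commutator_comm]
        exact Subgroup.commutator_mono (Subgroup.zpowers_le.mpr hzV) le_rfl
    set V' := Subgroup.zpowers z ⊔ W with hV'def
    have hV'V : V' ≤ V := sup_le (Subgroup.zpowers_le.mpr hzV) hWV
    have h2 : ⁅V', (⊤ : Subgroup H)⁆ ≤ W := by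
      apply commutator_sup_le' (fun g _ => hNW g) (fun g _ => hNW g)
      · rw [Subgroup.commutator_comm]; exact h1
      · exact commutator_le_left_of_le_normalizer (fun g _ => hNW g)
    have hV'N : (⊤ : Subgroup H) ≤ Subgroup.normalizer (V' : Set H) := by
      intro g _
      apply mem_normalizer_of_map_conj_le
      rintro _ ⟨v, hv, rfl⟩
      simp only [MulEquiv.coe_toMonoidHom, MulAut.conj_apply]
      have e : g * v * g⁻¹ = (⁅v, g⁆)⁻¹ * v := by rw [commutatorElement_def]; group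
      rw [e]
      exact V'.mul_mem (V'.inv_mem (le_sup_right (a := Subgroup.zpowers z)
        (h2 (Subgroup.commutator_mem_commutator hv (Subgroup.mem_top g))))) hv
    have hzV' : z ∈ V' := Subgroup.mem_sup_left (Subgroup.mem_zpowers z)
    obtain ⟨τ, hτV', hτc, c, hc, hτ⟩ := transfer_decomp V' ⊤ hV'N
      (fun a ha b hb => hVcomm a (hV'V ha) b (hV'V hb))
      ((T : Subgroup H).subgroupOf ⊤) z hzV'
      (fun s hs => (Subgroup.mem_centralizer_iff.mp hzT.2 (s : H)
        (Subgroup.mem_subgroupOf.mp hs)))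
    set m := ((T : Subgroup H).subgroupOf ⊤).index with hm
    have hmT : m = (T : Subgroup H).index := Subgroup.relIndex_top_right _
    have hmcop : Nat.Coprime m p := by
      have hnd : ¬ p ∣ m := by rw [hmT]; exact T.not_dvd_index
      exact ((Nat.Prime.coprime_iff_not_dvd Fact.out).mpr hnd).symm
    obtain ⟨k, -, hk⟩ := Nat.exists_mul_mod_eq_one_of_coprime hmcop (Fact.out : p.Prime).one_lt
    have hzp : z ^ p = 1 := hVexp z hzV
    have e2 : z = (z ^ m) ^ k := by
      rw [← pow_mul]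
      conv_rhs => rw [← Nat.div_add_mod (m * k) p, hk, pow_add, pow_mul, hzp, one_pow, one_mul,
        pow_one]
    have hcW : c ∈ W := h2 hc
    have e3 : z ^ m = c⁻¹ * τ := by rw [hτ]; group
    have hcτ : Commute c⁻¹ τ := by
      have := hτc c⁻¹ (Subgroup.mem_top _)
      exact this
    have e4 : z = (c⁻¹) ^ k * τ ^ k := by rw [e2, e3, hcτ.mul_pow]
    -- τ^k central, (c⁻¹)^k ∈ W ⊓ Z
    have hτk : ∀ g : H, g * τ ^ k = τ ^ k * g := by
      intro g
      have : Commute g τ := hτc g (Subgroup.mem_top _)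
      exact this.pow_right k
    have hτkV : τ ^ k ∈ V := V.pow_mem (hV'V hτV') k
    have hwW : (c⁻¹) ^ k ∈ W := W.pow_mem (W.inv_mem hcW) k
    have hwZ : (c⁻¹) ^ k ∈ Z := by
      apply Subgroup.subset_closure
      refine ⟨Subgroup.mem_inf.mpr ⟨hVT (hWV hwW), ?_⟩, hVexp _ (hWV hwW)⟩
      have e5 : (c⁻¹) ^ k = z * (τ ^ k)⁻¹ := by rw [e4]; group
      rw [e5]
      apply Subgroup.mul_mem _ hzT.2
      apply Subgroup.inv_mem
      rw [Subgroup.mem_centralizer_iff]
      intro t _
      exact hτk t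
    have hxw : (c⁻¹) ^ k * x = x * (c⁻¹) ^ k := hx _ (Subgroup.mem_inf.mpr ⟨hwW, hwZ⟩)
    rw [e4, mul_assoc, ← hτk x, ← mul_assoc, hxw, mul_assoc]

end Cfsg.Agent.S2826
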