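import Cfsg.Statements.S2827
import Cfsg.Agent.Lib.Helper17.PIrred
import Cfsg.Agent.Lib.Helper17.Quotient
import Cfsg.Agent.Lib.Helper17.Conj

set_option autoImplicit false
open Cfsg

namespace Cfsg.Agent.S2827

open Cfsg.Agent.Lib.Helper17
open scoped commutatorElement

/-- Let H be a finite p-irreducible group (not p-closed, and O^p(H) lies in every normal subgroup that is not p-closed) and T a Sylow p-subgroup. Then H is generated by the conjugates of T and H = H'·T; O^p(H) ≤ H'; and for every normal subgroup Y of T not contained in O_p(H), O^p(H) = [O^p(H), Y] and O^p(H) is contained in the normal closure of Y in H. -/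
theorem result {H : Type*} [Group H] [Finite H] {p : ℕ} [Fact p.Prime] (hH : Cfsg.IsPIrreducible p H) (T : Sylow p H) : Subgroup.normalClosure ((T : Subgroup H) : Set H) = ⊤ ∧ commutator H ⊔ (T : Subgroup H) = ⊤ ∧ Cfsg.pResidual p H ≤ commutator H ∧ ∀ Y : Subgroup H, Y ≤ (T : Subgroup H) → (T : Subgroup H) ≤ Subgroup.normalizer (Y : Set H) → ¬ Y ≤ Cfsg.pCore p H → ⁅Cfsg.pResidual p H, Y⁆ = Cfsg.pResidual p H ∧ Cfsg.pResidual p H ≤ Subgroup.normalClosure (Y : Set H) := by
  have h1 := normalClosure_sylow_eq_top hH T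
  have h2 : commutator H ⊔ (T : Subgroup H) = ⊤ := by
    have hn : (commutator H ⊔ (T : Subgroup H)).Normal :=
      Subgroup.Normal.of_commutator_le (G := H) le_sup_left
    rw [eq_top_iff, ← h1]
    exact Subgroup.normalClosure_le_normal (N := commutator H ⊔ (T : Subgroup H))
      (show ((T : Subgroup H) : Set H) ⊆ ((commutator H ⊔ (T : Subgroup H) : Subgroup H) : Set H) from
        SetLike.coe_subset_coe.mpr le_sup_right)
  have h3 : Cfsg.pResidual p H ≤ commutator H := by
    apply pResidual_le_of_quotient_isPGroup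
    apply isPGroup_quotient_of_sup_eq_top T.2
    rw [sup_comm]; exact h2
  refine ⟨h1, h2, h3, ?_⟩
  intro Y hYT hTY hYO
  have hYp : IsPGroup p Y := T.2.to_le hYT
  have hK := pResidual_le_normalClosure hH hYp hYO
  refine ⟨?_, hK⟩
  have hLR : ⁅pResidual p H, Y⁆ ≤ pResidual p H := Subgroup.commutator_le_left _ Y
  apply le_antisymm hLR
  have hTR : (T : Subgroup H) ⊔ pResidual p H = ⊤ := sylow_sup_pResidual T
  have hRn : ∀ (X : Subgroup H) [X.Normal] (g : H), g ∈ Subgroup.normalizer (X : Set H) := by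
    intro X _ g
    rw [Subgroup.normalizer_eq_top]; exact Subgroup.mem_top g
  -- L normal in H
  have hLn : (⁅pResidual p H, Y⁆ : Subgroup H).Normal := by
    apply normal_of_le_normalizer_of_sup_eq_top (A := (T : Subgroup H)) (B := pResidual p H) _ _ hTR
    · intro t ht
      exact mem_normalizer_commutator (hRn _ t) (hTY ht)
    · exact Subgroup.normalizer_commutator_ge_left _ _
  -- L ⊔ Y normal in H
  have hLYn : (⁅pResidual p H, Y⁆ ⊔ Y : Subgroup H).Normal := by
    apply normal_of_le_normalizer_of_sup_eq_top (A := (T : Subgroup H)) (B := pResidual p H) _ _ hTR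
    · intro t ht
      exact mem_normalizer_sup (hRn _ t) (hTY ht)
    · intro r hr
      apply mem_normalizer_of_map_conj_le
      rw [Subgroup.map_sup]
      apply sup_le
      · rw [map_conj_eq_of_mem_normalizer (hRn _ r)]
        exact le_sup_left
      · rintro _ ⟨y, hy, rfl⟩
        simp only [MulEquiv.coe_toMonoidHom, MulAut.conj_apply]
        have e : r * y * r⁻¹ = ⁅r, y⁆ * y := by
          rw [commutatorElement_def]; group
        rw [e]
        exact Subgroup.mul_mem _
          (Subgroup.mem_sup_left (Subgroup.commutator_mem_commutator hr hy))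
          (Subgroup.mem_sup_right hy)
  have hKLY : Subgroup.normalClosure (Y : Set H) ≤ ⁅pResidual p H, Y⁆ ⊔ Y :=
    Subgroup.normalClosure_le_normal (N := ⁅pResidual p H, Y⁆ ⊔ Y)
      (show (Y : Set H) ⊆ ((⁅pResidual p H, Y⁆ ⊔ Y : Subgroup H) : Set H) from
        SetLike.coe_subset_coe.mpr le_sup_right)
  -- now show each p'-element lies in L
  have hRLY : pResidual p H ≤ ⁅pResidual p H, Y⁆ ⊔ Y := hK.trans hKLY
  show pResidual p H ≤ ⁅pResidual p H, Y⁆
  conv_lhs => unfold pResidual
  rw [Subgroup.closure_le]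
  intro g hg
  have hgo : (orderOf g).Coprime p := hg
  have hgR : g ∈ pResidual p H := mem_pResidual_of_coprime hgo
  have hg2 := hRLY hgR
  rw [Subgroup.mem_sup_of_normal_left] at hg2
  obtain ⟨l, hl, y, hy, rfl⟩ := hg2
  -- in the quotient by L, the image equals that of y
  obtain ⟨k, hk⟩ := hYp ⟨y, hy⟩
  have hy1 : y ^ p ^ k = 1 := by
    have := congrArg Subtype.val hk
    simpa using this
  have hcop : (orderOf (l * y)).Coprime (p ^ k) := Nat.Coprime.pow_right k hgo
  obtain ⟨m, hm⟩ := exists_pow_eq_self_of_coprime hcop.symm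
  have hq : ((QuotientGroup.mk (l * y) : H ⧸ (⁅pResidual p H, Y⁆ : Subgroup H))) ^ p ^ k = 1 := by
    have h1 : (QuotientGroup.mk (l * y) : H ⧸ (⁅pResidual p H, Y⁆ : Subgroup H))
        = QuotientGroup.mk y := by
      rw [QuotientGroup.mk_mul]
      have : (QuotientGroup.mk l : H ⧸ (⁅pResidual p H, Y⁆ : Subgroup H)) = 1 :=
        (QuotientGroup.eq_one_iff l).mpr hl
      rw [this, one_mul]
    rw [h1, ← QuotientGroup.mk_pow, hy1]; rfl
  rw [← QuotientGroup.mk_pow] at hq
  have hmem : (l * y) ^ p ^ k ∈ (⁅pResidual p H, Y⁆ : Subgroup H) :=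
    (QuotientGroup.eq_one_iff _).mp hq
  have : l * y = ((l * y) ^ p ^ k) ^ m := hm.symm
  rw [SetLike.mem_coe, this]
  exact Subgroup.pow_mem _ hmem m

end Cfsg.Agent.S2827
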