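import Cfsg.Statements.S2828
import Cfsg.Agent.Lib.Helper17.QuotientP

set_option autoImplicit false
open Cfsg

namespace Cfsg.Agent.S2828

open Cfsg.Agent.Lib.Helper17

/-- Let H be a finite group, p a prime and D a normal p-subgroup of H. Then H is p-irreducible if and only if H/D is p-irreducible, and H is strongly p-irreducible if and only if H/D is strongly p-irreducible. -/
theorem result {H : Type*} [Group H] [Finite H] {p : ℕ} [Fact p.Prime] (D : Subgroup H) [D.Normal] (hD : IsPGroup p ↥D) : (Cfsg.IsPIrreducible p H ↔ Cfsg.IsPIrreducible p (H ⧸ D)) ∧ (Cfsg.IsStronglyPIrreducible p H ↔ Cfsg.IsStronglyPIrreducible p (H ⧸ D)) := by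
  set π : H →* H ⧸ D := QuotientGroup.mk' D with hπ
  have hsurj : Function.Surjective π := QuotientGroup.mk'_surjective D
  have hker : IsPGroup p π.ker := by
    rw [hπ, QuotientGroup.ker_mk']; exact hD
  have hkerD : π.ker = D := QuotientGroup.ker_mk' D
  -- p-closedness of H vs H/D
  have hcl : IsPClosed p (H ⧸ D) ↔ IsPClosed p H := by
    rw [← isPClosed_top_iff (G := H ⧸ D), ← isPClosed_top_iff (G := H)]
    have : (⊤ : Subgroup (H ⧸ D)) = (⊤ : Subgroup H).map π := by
      rw [← MonoidHom.range_eq_map]; exact (MonoidHom.range_eq_top.mpr hsurj).symm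
    rw [this]
    exact isPClosed_map_iff π hker ⊤
  have hres1 : (pResidual p H).map π ≤ pResidual p (H ⧸ D) := map_pResidual_le π
  have hres2 : pResidual p (H ⧸ D) ≤ (pResidual p H).map π := pResidual_le_map π hsurj hker
  -- key: O^p(H) ≤ N ⊔ D → O^p(H) ≤ N for N normal
  have hkey : ∀ N : Subgroup H, N.Normal → pResidual p H ≤ N ⊔ D → pResidual p H ≤ N := by
    intro N hN hle
    unfold pResidual at hle ⊢
    rw [Subgroup.closure_le] at hle ⊢
    intro y hy
    have hDN : D ≤ Subgroup.normalizer (N : Set H) := by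
      rw [Subgroup.normalizer_eq_top]; exact le_top
    exact mem_of_coprime_of_mem_sup_pgroup hD hDN (hle hy) hy
  -- comap map
  have hcm : ∀ N : Subgroup H, (N.map π).comap π = N ⊔ D := by
    intro N
    rw [Subgroup.comap_map_eq, hkerD]
  refine ⟨⟨?_, ?_⟩, ⟨?_, ?_⟩⟩
  · rintro ⟨h1, h2⟩
    refine ⟨fun h => h1 (hcl.mp h), ?_⟩
    intro M hM hMcl
    have hN : (M.comap π).Normal := Subgroup.Normal.comap hM π
    have hmap : (M.comap π).map π = M := Subgroup.map_comap_eq_self_of_surjective hsurj M
    have hncl : ¬ IsPClosed p ↥(M.comap π) := by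
      intro h
      apply hMcl
      have := (isPClosed_map_iff π hker (M.comap π)).mpr h
      rwa [hmap] at this
    have := h2 _ hN hncl
    calc pResidual p (H ⧸ D) ≤ (pResidual p H).map π := hres2
      _ ≤ (M.comap π).map π := Subgroup.map_mono this
      _ = M := hmap
  · rintro ⟨h1, h2⟩
    refine ⟨fun h => h1 (hcl.mpr h), ?_⟩
    intro N hN hNcl
    have hM : (N.map π).Normal := Subgroup.Normal.map hN π hsurj
    have hncl : ¬ IsPClosed p ↥(N.map π) := fun h => hNcl ((isPClosed_map_iff π hker N).mp h)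
    have := h2 _ hM hncl
    apply hkey N hN
    rw [← hcm N]
    rw [← Subgroup.map_le_iff_le_comap]
    exact hres1.trans this
  · rintro ⟨h1, h2⟩
    refine ⟨fun h => h1 (hcl.mp h), ?_⟩
    intro M hM hMc
    have hN : (M.comap π).Normal := Subgroup.Normal.comap hM π
    have hmap : (M.comap π).map π = M := Subgroup.map_comap_eq_self_of_surjective hsurj M
    have hnc : ¬ ⁅M.comap π, (⊤ : Subgroup H)⁆ ≤ pCore p H := by
      intro h
      apply hMc
      have h3 : (⁅M.comap π, (⊤ : Subgroup H)⁆).map π ≤ (pCore p H).map π := Subgroup.map_mono h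
      rw [Subgroup.map_commutator, hmap] at h3
      have htop : (⊤ : Subgroup H).map π = ⊤ := by
        rw [← MonoidHom.range_eq_map, MonoidHom.range_eq_top]; exact hsurj
      rw [htop] at h3
      exact h3.trans (map_pCore_le π hsurj)
    have := h2 _ hN hnc
    calc pResidual p (H ⧸ D) ≤ (pResidual p H).map π := hres2
      _ ≤ (M.comap π).map π := Subgroup.map_mono this
      _ = M := hmap
  · rintro ⟨h1, h2⟩
    refine ⟨fun h => h1 (hcl.mpr h), ?_⟩
    intro N hN hNc
    have hM : (N.map π).Normal := Subgroup.Normal.map hN π hsurj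
    have hnc : ¬ ⁅N.map π, (⊤ : Subgroup (H ⧸ D))⁆ ≤ pCore p (H ⧸ D) := by
      intro h
      apply hNc
      have htop : (⊤ : Subgroup H).map π = ⊤ := by
        rw [← MonoidHom.range_eq_map, MonoidHom.range_eq_top]; exact hsurj
      rw [← htop, ← Subgroup.map_commutator, Subgroup.map_le_iff_le_comap] at h
      exact h.trans (comap_pCore_le π hker)
    have := h2 _ hM hnc
    apply hkey N hN
    rw [← hcm N]
    rw [← Subgroup.map_le_iff_le_comap]
    exact hres1.trans this

end Cfsg.Agent.S2828
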