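import Cfsg.Statements.S2829
import Cfsg.Agent.Lib.Helper17.Basic

set_option autoImplicit false
open Cfsg

namespace Cfsg.Agent.S2829

open Cfsg.Agent.Lib.Helper17
open scoped commutatorElement

/-- Every strongly p-irreducible finite group is p-irreducible. -/
theorem result {H : Type*} [Group H] [Finite H] {p : ℕ} [Fact p.Prime] (hH : Cfsg.IsStronglyPIrreducible p H) : Cfsg.IsPIrreducible p H := by
  refine ⟨hH.1, ?_⟩
  intro N hN hNc
  apply hH.2 N hN
  intro hle
  apply hNc
  intro P
  -- D = O_p(H) ∩ N as a subgroup of N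
  have hDn : ((pCore p H).subgroupOf N).Normal := by
    have : (pCore p H).Normal := Cfsg.Agent.Lib.Helper17.pCore_normal
    infer_instance
  have hDp : IsPGroup p ((pCore p H).subgroupOf N) := pCore_isPGroup.comap_subtype
  have hDP : (pCore p H).subgroupOf N ≤ (P : Subgroup N) := normal_pgroup_le_sylow hDn hDp P
  constructor
  intro x hx n
  have h1 : ⁅n, x⁆ ∈ (pCore p H).subgroupOf N := by
    rw [Subgroup.mem_subgroupOf]
    apply hle
    have : ((⁅n, x⁆ : N) : H) = ⁅(n : H), (x : H)⁆ := rfl
    rw [this]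
    exact Subgroup.commutator_mem_commutator n.2 (Subgroup.mem_top _)
  have : n * x * n⁻¹ = ⁅n, x⁆ * x := by rw [commutatorElement_def]; group
  rw [this]
  exact (P : Subgroup N).mul_mem (hDP h1) hx

end Cfsg.Agent.S2829
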