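import Cfsg.Statements.S2830
import Cfsg.Agent.Lib.Helper17.PClosed
import Cfsg.Agent.Lib.Helper17.PIrred
import Cfsg.Agent.Lib.Helper17.CharP2
import Cfsg.Agent.Lib.Helper16.PReduced
import Cfsg.Agent.Lib.Helper16.SylowInf

set_option autoImplicit false
open Cfsg
open Cfsg.Agent.Lib.Helper17
open Cfsg.Agent.Lib.Helper16

namespace Cfsg.Agent.S2830

/-- Let H act by conjugation on the elementary abelian p-subgroup V of a finite group G (H ≤ N(V)), with H p-irreducible and O^p(H) not centralizing V. Then C_H(V) is p-closed and C_T(V) ≤ O_p(H) for every p-subgroup T of H. If in addition O_p(H) centralizes V, then C_T(V) = T ∩ O_p(H) for every p-subgroup T of H, and V is p-reduced for H: O_p(H/C_H(V)) = 1. -/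
theorem result {G : Type*} [Group G] [Finite G] {p : ℕ} [Fact p.Prime] (V H : Subgroup G) (hV : Cfsg.IsElementaryAbelian p V) (hHV : H ≤ Subgroup.normalizer (V : Set G)) (hH : Cfsg.IsPIrreducible p ↥H) (hnc : ¬ (Cfsg.pResidual p ↥H).map H.subtype ≤ Subgroup.centralizer (V : Set G)) [hn : ((Subgroup.centralizer (V : Set G)).subgroupOf H).Normal] : Cfsg.IsPClosed p ↥(H ⊓ Subgroup.centralizer (V : Set G)) ∧ (∀ T : Subgroup G, T ≤ H → IsPGroup p ↥T → T ⊓ Subgroup.centralizer (V : Set G) ≤ Cfsg.pCoreOf p H) ∧ (Cfsg.pCoreOf p H ≤ Subgroup.centralizer (V : Set G) → (∀ T : Subgroup G, T ≤ H → IsPGroup p ↥T → T ⊓ Subgroup.centralizer (V : Set G) = T ⊓ Cfsg.pCoreOf p H) ∧ Cfsg.pCore p (↥H ⧸ (Subgroup.centralizer (V : Set G)).subgroupOf H) = ⊥) := by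
  set C := Subgroup.centralizer (V : Set G) with hCdef
  set K := C.subgroupOf H with hKdef
  -- a normal subgroup of H containing O^p(H) inside K is impossible
  have hnotle : ¬ Cfsg.pResidual p ↥H ≤ K := by
    intro h
    apply hnc
    rintro _ ⟨x, hx, rfl⟩
    exact Subgroup.mem_subgroupOf.mp (h hx)
  have hKcl : Cfsg.IsPClosed p ↥K := by
    by_contra hcon
    exact hnotle (hH.2 K hn hcon)
  have hKeq : (H ⊓ C).subgroupOf H = K := Subgroup.inf_subgroupOf_left C H
  have h1 : Cfsg.IsPClosed p ↥(H ⊓ C) := by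
    have h2 : Cfsg.IsPClosed p ↥((H ⊓ C).subgroupOf H) := by rw [hKeq]; exact hKcl
    exact isPClosed_of_mulEquiv (Subgroup.subgroupOfEquivOfLe (inf_le_left : H ⊓ C ≤ H)) h2
  have hHC : H ≤ Subgroup.normalizer (C : Set G) :=
    hHV.trans (normalizer_le_normalizer_centralizer' V)
  have hHN : H ≤ Subgroup.normalizer ((H ⊓ C : Subgroup G) : Set G) := fun h hh =>
    mem_normalizer_inf (Subgroup.le_normalizer hh) (hHC hh)
  have h2 : ∀ T : Subgroup G, T ≤ H → IsPGroup p ↥T → T ⊓ C ≤ Cfsg.pCoreOf p H := by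
    intro T hTH hT
    obtain ⟨P, hPN, hPp, hmax, hnorm⟩ := exists_max_psub_normalizer_of_isPClosed h1
    have h3 : T ⊓ C ≤ P := hmax _ (inf_le_inf_right C hTH) (hT.to_le inf_le_left)
    exact h3.trans (le_pCoreOf (hPN.trans inf_le_left) (hHN.trans hnorm) hPp)
  refine ⟨h1, h2, ?_⟩
  intro hOC
  refine ⟨?_, ?_⟩
  · intro T hTH hT
    apply le_antisymm
    · exact le_inf inf_le_left (h2 T hTH hT)
    · exact inf_le_inf_left T hOC
  · have hcoreK : Cfsg.pCore p ↥H ≤ K := by
      intro x hx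
      rw [hKdef, Subgroup.mem_subgroupOf]
      exact hOC ⟨x, hx, rfl⟩
    apply pCore_quotient_eq_bot_of
    intro D hDn hDp
    have hDcl : Cfsg.IsPClosed p ↥D := by
      by_contra hcon
      have hle := hH.2 D hDn hcon
      apply hnotle
      unfold Cfsg.pResidual
      rw [Subgroup.closure_le]
      intro g hg
      have hgD : g ∈ D := hle (Subgroup.subset_closure hg)
      obtain ⟨k, hk⟩ := hDp g hgD
      exact mem_of_pow_mem_of_coprime K g hg k hk
    intro d hd
    obtain ⟨t, u, ht, hu, hdtu, ⟨k, hk⟩, hcop⟩ := exists_p_decomp' p d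
    have hzD : Subgroup.zpowers d ≤ D := Subgroup.zpowers_le.mpr hd
    have huK : u ∈ K := by
      obtain ⟨k', hk'⟩ := hDp u (hzD hu)
      exact mem_of_pow_mem_of_coprime K u hcop k' hk'
    have htK : t ∈ K := by
      have hzt : IsPGroup p (Subgroup.zpowers t) :=
        IsPGroup.of_card (n := k) (by rw [Nat.card_zpowers, hk])
      have := le_pCore_of_le_isPClosed_normal hDn hDcl
        (Subgroup.zpowers_le.mpr (hzD ht)) hzt
      exact hcoreK (this (Subgroup.mem_zpowers t))
    rw [hdtu]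
    exact K.mul_mem htK huK

end Cfsg.Agent.S2830
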