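import Cfsg.Statements.S2831
import Cfsg.Agent.Lib.Helper17.PResidual
import Cfsg.Agent.Lib.Helper17.SylowNormal

set_option autoImplicit false
open Cfsg

namespace Cfsg.Agent.S2831

open Cfsg.Agent.Lib.Helper17

/-- Let H be a finite group with Sylow p-subgroup T such that H is T-minimal (H is generated by the conjugates of T and T lies in exactly one maximal subgroup of H). Then H is p-irreducible: H is not p-closed and O^p(H) lies in every normal subgroup of H that is not p-closed. -/
theorem result {H : Type*} [Group H] [Finite H] {p : ℕ} [Fact p.Prime] (T : Sylow p H) (hmin : Cfsg.IsMinimalOver (T : Subgroup H)) : Cfsg.IsPIrreducible p H := by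
  obtain ⟨hnc, M, ⟨hMco, hTM⟩, hMuniq⟩ := hmin
  have hTne : (T : Subgroup H) ≠ ⊤ := by
    intro h
    apply hMco.1
    exact top_le_iff.mp (h ▸ hTM)
  -- every proper subgroup containing T lies in M
  have hprop : ∀ K : Subgroup H, (T : Subgroup H) ≤ K → K ≠ ⊤ → K ≤ M := by
    intro K hTK hK
    obtain ⟨M', hM', hKM'⟩ := (eq_top_or_exists_le_coatom K).resolve_left hK
    have := hMuniq M' ⟨hM', hTK.trans hKM'⟩
    rw [← this]; exact hKM'
  refine ⟨?_, ?_⟩
  · intro hcl
    have hn : (T : Subgroup H).Normal := hcl T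
    apply hTne
    rw [← hnc]; exact (Subgroup.normalClosure_eq_self _).symm
  · intro N hN hNcl
    have hQnn : ¬ ((sylowInfNormal T N : Sylow p N) : Subgroup N).Normal := by
      intro hQ
      apply hNcl
      intro P
      have := Sylow.unique_of_normal (sylowInfNormal T N) hQ
      have hP : P = sylowInfNormal T N := Subsingleton.elim _ _
      rw [hP]; exact hQ
    have hfr := Sylow.normalizer_sup_eq_top (sylowInfNormal T N)
    rw [map_sylowInfNormal] at hfr
    -- T normalizes T ⊓ N
    have hTnorm : (T : Subgroup H) ≤ Subgroup.normalizer (((T : Subgroup H) ⊓ N : Subgroup H) : Set H) := by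
      intro t ht
      rw [Subgroup.mem_normalizer_iff]
      intro x
      constructor
      · rintro ⟨hxT, hxN⟩
        exact ⟨Subgroup.mul_mem _ (Subgroup.mul_mem _ ht hxT) (Subgroup.inv_mem _ ht),
          hN.conj_mem x hxN t⟩
      · rintro ⟨hxT, hxN⟩
        refine ⟨?_, ?_⟩
        · have h := Subgroup.mul_mem _ (Subgroup.mul_mem _ (Subgroup.inv_mem _ ht) hxT) ht
          have e : t⁻¹ * (t * x * t⁻¹) * t = x := by group
          rw [e] at h; exact h
        · have h := hN.conj_mem _ hxN t⁻¹
          have e : t⁻¹ * (t * x * t⁻¹) * t⁻¹⁻¹ = x := by group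
          rw [e] at h; exact h
    have hnorm_ne : Subgroup.normalizer (((T : Subgroup H) ⊓ N : Subgroup H) : Set H) ≠ ⊤ := by
      intro htop
      apply hQnn
      rw [coe_sylowInfNormal]
      have hnorm : ((T : Subgroup H) ⊓ N).Normal := Subgroup.normalizer_eq_top_iff.mp htop
      have : (T : Subgroup H).subgroupOf N = ((T : Subgroup H) ⊓ N).subgroupOf N := by
        rw [Subgroup.inf_subgroupOf_right]
      rw [this]
      infer_instance
    have hnormM := hprop _ hTnorm hnorm_ne
    have hTN : (T : Subgroup H) ⊔ N = ⊤ := by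
      by_contra hne
      have hle := hprop _ le_sup_left hne
      apply hMco.1
      rw [eq_top_iff, ← hfr]
      exact sup_le hnormM (le_sup_right.trans hle)
    apply pResidual_le_of_forall_pow_mem
    intro g
    have hg : g ∈ (T : Subgroup H) ⊔ N := hTN ▸ Subgroup.mem_top g
    rw [Subgroup.mem_sup_of_normal_right] at hg
    obtain ⟨t, ht, n, hn, rfl⟩ := hg
    obtain ⟨k, hk⟩ := T.2 ⟨t, ht⟩
    refine ⟨k, ?_⟩
    have ht1 : t ^ p ^ k = 1 := by
      have := congrArg Subtype.val hk
      simpa using this
    -- (t n)^m ∈ t^m N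
    have hq : ((QuotientGroup.mk (t * n) : H ⧸ N)) ^ p ^ k = 1 := by
      have h1 : (QuotientGroup.mk (t * n) : H ⧸ N) = QuotientGroup.mk t := by
        rw [QuotientGroup.mk_mul]
        have : (QuotientGroup.mk n : H ⧸ N) = 1 := (QuotientGroup.eq_one_iff n).mpr hn
        rw [this, mul_one]
      rw [h1, ← QuotientGroup.mk_pow, ht1]; rfl
    rw [← QuotientGroup.mk_pow] at hq
    exact (QuotientGroup.eq_one_iff _).mp hq

end Cfsg.Agent.S2831
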