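import Cfsg.Statements.S2832
import Cfsg.Agent.Lib.Helper17.Quotient

set_option autoImplicit false
open Cfsg

namespace Cfsg.Agent.S2832

open Cfsg.Agent.Lib.Helper17

/-- Let H be a finite group with Sylow p-subgroup T such that H is T-minimal (generated by the conjugates of T, with T in exactly one maximal subgroup), and let N be a normal subgroup of H. Then either H/N is a p-group or H/N is minimal over the image of T in the same sense. -/
theorem result {H : Type*} [Group H] [Finite H] {p : ℕ} [Fact p.Prime] (T : Sylow p H) (hmin : Cfsg.IsMinimalOver (T : Subgroup H)) (N : Subgroup H) [N.Normal] : IsPGroup p (H ⧸ N) ∨ Cfsg.IsMinimalOver ((T : Subgroup H).map (QuotientGroup.mk' N)) := by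
  obtain ⟨hnc, M, ⟨hMco, hTM⟩, hMuniq⟩ := hmin
  have hprop : ∀ K : Subgroup H, (T : Subgroup H) ≤ K → K ≠ ⊤ → K ≤ M := by
    intro K hTK hK
    obtain ⟨M', hM', hKM'⟩ := (eq_top_or_exists_le_coatom K).resolve_left hK
    have := hMuniq M' ⟨hM', hTK.trans hKM'⟩
    rw [← this]; exact hKM'
  by_cases hTN : (T : Subgroup H) ⊔ N = ⊤
  · left
    exact isPGroup_quotient_of_sup_eq_top T.2 hTN
  · right
    have hNM : N ≤ M := le_sup_right.trans (hprop _ le_sup_left hTN)
    have hsurj : Function.Surjective (QuotientGroup.mk' N) := QuotientGroup.mk'_surjective N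
    have hker : (QuotientGroup.mk' N).ker ≤ M := by rw [QuotientGroup.ker_mk']; exact hNM
    refine ⟨?_, M.map (QuotientGroup.mk' N), ⟨?_, Subgroup.map_mono hTM⟩, ?_⟩
    · have := Subgroup.map_normalClosure ((T : Subgroup H) : Set H) (QuotientGroup.mk' N) hsurj
      rw [hnc, Subgroup.map_top_of_surjective _ hsurj] at this
      rw [Subgroup.coe_map]
      exact this.symm
    · exact isCoatom_map_of_surjective hsurj hMco hker
    · rintro M' ⟨hM'co, hTM'⟩
      have h1 : IsCoatom (M'.comap (QuotientGroup.mk' N)) :=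
        Subgroup.isCoatom_comap_of_surjective hsurj hM'co
      have h2 : (T : Subgroup H) ≤ M'.comap (QuotientGroup.mk' N) :=
        Subgroup.map_le_iff_le_comap.mp hTM'
      have h3 := hMuniq _ ⟨h1, h2⟩
      rw [← h3, Subgroup.map_comap_eq_self_of_surjective hsurj]

end Cfsg.Agent.S2832
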