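import Cfsg.Statements.S2833
import Cfsg.Agent.Lib.Helper17.Conj

set_option autoImplicit false
open Cfsg

namespace Cfsg.Agent.S2833

open Cfsg.Agent.Lib.Helper17
open scoped commutatorElement Pointwise

/-- `⁅V, L⁆ ≤ V` when `L` normalizes `V`. -/
theorem commutator_le_of_le_normalizer {G : Type*} [Group G] {V L : Subgroup G}
    (h : L ≤ Subgroup.normalizer (V : Set G)) : ⁅V, L⁆ ≤ V := by
  rw [Subgroup.commutator_le]
  intro v hv l hl
  have h1 : l * v⁻¹ * l⁻¹ ∈ V := (Subgroup.mem_normalizer_iff.mp (h hl) v⁻¹).mp (V.inv_mem hv)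
  have : ⁅v, l⁆ = v * (l * v⁻¹ * l⁻¹) := by rw [commutatorElement_def]; group
  rw [this]
  exact V.mul_mem hv h1

/-- If `A`, `B` normalize `V`, then `⁅V, A ⊔ B⁆ = ⁅V, A⁆ ⊔ ⁅V, B⁆` (finite group). -/
theorem commutator_sup_eq {G : Type*} [Group G] [Finite G] {V A B : Subgroup G}
    (hA : A ≤ Subgroup.normalizer (V : Set G)) (hB : B ≤ Subgroup.normalizer (V : Set G)) :
    ⁅V, A ⊔ B⁆ = ⁅V, A⁆ ⊔ ⁅V, B⁆ := by
  apply le_antisymm
  · -- J = ⁅V,A⁆ ⊔ ⁅V,B⁆
    have hAJ : A ≤ Subgroup.normalizer ((⁅V, A⁆ ⊔ ⁅V, B⁆ : Subgroup G) : Set G) := by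
      intro a ha
      apply mem_normalizer_of_map_conj_le
      rw [Subgroup.map_sup]
      apply sup_le
      · rw [map_conj_eq_of_mem_normalizer (Subgroup.normalizer_commutator_ge_right V A ha)]
        exact le_sup_left
      · rintro _ ⟨b, hb, rfl⟩
        simp only [MulEquiv.coe_toMonoidHom, MulAut.conj_apply]
        have hbV : b ∈ V := commutator_le_of_le_normalizer hB hb
        have e : a * b * a⁻¹ = ⁅b, a⁆⁻¹ * b := by rw [commutatorElement_def]; group
        rw [e]
        exact Subgroup.mul_mem _ (Subgroup.mem_sup_left (Subgroup.inv_mem _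
          (Subgroup.commutator_mem_commutator hbV ha))) (Subgroup.mem_sup_right hb)
    have hBJ : B ≤ Subgroup.normalizer ((⁅V, A⁆ ⊔ ⁅V, B⁆ : Subgroup G) : Set G) := by
      intro a ha
      apply mem_normalizer_of_map_conj_le
      rw [Subgroup.map_sup]
      apply sup_le
      · rintro _ ⟨b, hb, rfl⟩
        simp only [MulEquiv.coe_toMonoidHom, MulAut.conj_apply]
        have hbV : b ∈ V := commutator_le_of_le_normalizer hA hb
        have e : a * b * a⁻¹ = ⁅b, a⁆⁻¹ * b := by rw [commutatorElement_def]; group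
        rw [e]
        exact Subgroup.mul_mem _ (Subgroup.mem_sup_right (Subgroup.inv_mem _
          (Subgroup.commutator_mem_commutator hbV ha))) (Subgroup.mem_sup_left hb)
      · rw [map_conj_eq_of_mem_normalizer (Subgroup.normalizer_commutator_ge_right V B ha)]
        exact le_sup_right
    -- the set of l with l ∈ N(J) and ⁅v,l⁆ ∈ J for all v
    have key : ∀ l ∈ A ⊔ B, l ∈ Subgroup.normalizer ((⁅V, A⁆ ⊔ ⁅V, B⁆ : Subgroup G) : Set G) ∧
        ∀ v ∈ V, ⁅v, l⁆ ∈ ⁅V, A⁆ ⊔ ⁅V, B⁆ := by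
      intro l hl
      rw [Subgroup.sup_eq_closure] at hl
      induction hl using Subgroup.closure_induction with
      | mem l hl =>
        rcases hl with hl | hl
        · exact ⟨hAJ hl, fun v hv => Subgroup.mem_sup_left (Subgroup.commutator_mem_commutator hv hl)⟩
        · exact ⟨hBJ hl, fun v hv => Subgroup.mem_sup_right (Subgroup.commutator_mem_commutator hv hl)⟩
      | one =>
        refine ⟨Subgroup.one_mem _, fun v _ => ?_⟩
        rw [commutatorElement_one_right]; exact Subgroup.one_mem _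
      | mul l₁ l₂ _ _ ih₁ ih₂ =>
        refine ⟨Subgroup.mul_mem _ ih₁.1 ih₂.1, fun v hv => ?_⟩
        have e : ⁅v, l₁ * l₂⁆ = ⁅v, l₁⁆ * (l₁ * ⁅v, l₂⁆ * l₁⁻¹) := by
          simp only [commutatorElement_def]; group
        rw [e]
        exact Subgroup.mul_mem _ (ih₁.2 v hv)
          ((Subgroup.mem_normalizer_iff.mp ih₁.1 _).mp (ih₂.2 v hv))
      | inv l _ ih =>
        refine ⟨Subgroup.inv_mem _ ih.1, fun v hv => ?_⟩
        have e : ⁅v, l⁻¹⁆ = l⁻¹ * ⁅v, l⁆⁻¹ * l⁻¹⁻¹ := by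
          simp only [commutatorElement_def]; group
        rw [e]
        exact (Subgroup.mem_normalizer_iff.mp (Subgroup.inv_mem _ ih.1) _).mp
          (Subgroup.inv_mem _ (ih.2 v hv))
    rw [Subgroup.commutator_le]
    intro v hv l hl
    exact (key l hl).2 v hv
  · exact sup_le (Subgroup.commutator_mono le_rfl le_sup_left)
      (Subgroup.commutator_mono le_rfl le_sup_right)

/-- Let V be a subgroup of a finite group G normalized by the subgroup L, let X ≤ L and g ∈ L with [V, X, X] = 1 and L generated by X and gXg⁻¹. Put W = [V, L]. Then W = [V, X]·[V, gXg⁻¹], C_W(X) = [V, X], and C_W(L) = [V, X] ∩ [V, gXg⁻¹]. -/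
theorem result {G : Type*} [Group G] [Finite G] (V L : Subgroup G) (hLV : L ≤ Subgroup.normalizer (V : Set G)) (X : Subgroup G) (hX : X ≤ L) (g : G) (hg : g ∈ L) (hq : ⁅⁅V, X⁆, X⁆ = ⊥) (hgen : X ⊔ X.map (MulAut.conj g).toMonoidHom = L) (W : Subgroup G) (hW : W = ⁅V, L⁆) : ⁅V, X⁆ ⊔ ⁅V, X.map (MulAut.conj g).toMonoidHom⁆ = W ∧ W ⊓ Subgroup.centralizer (X : Set G) = ⁅V, X⁆ ∧ W ⊓ Subgroup.centralizer (L : Set G) = ⁅V, X⁆ ⊓ ⁅V, X.map (MulAut.conj g).toMonoidHom⁆ := by
  have hXg : X.map (MulAut.conj g).toMonoidHom ≤ L := hgen ▸ le_sup_right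
  have hVg : V.map (MulAut.conj g).toMonoidHom = V := map_conj_eq_of_mem_normalizer (hLV hg)
  -- B = A^g
  have hB : ⁅V, X.map (MulAut.conj g).toMonoidHom⁆ = (⁅V, X⁆).map (MulAut.conj g).toMonoidHom := by
    rw [Subgroup.map_commutator, hVg]
  have h1 : ⁅V, X⁆ ⊔ ⁅V, X.map (MulAut.conj g).toMonoidHom⁆ = W := by
    rw [hW, ← hgen, commutator_sup_eq (hX.trans hLV) (hXg.trans hLV)]
  have hAV : ⁅V, X⁆ ≤ V := commutator_le_of_le_normalizer (hX.trans hLV)
  have hBV : ⁅V, X.map (MulAut.conj g).toMonoidHom⁆ ≤ V := commutator_le_of_le_normalizer (hXg.trans hLV)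
  have hAC : ⁅V, X⁆ ≤ Subgroup.centralizer (X : Set G) :=
    Subgroup.commutator_eq_bot_iff_le_centralizer.mp hq
  have hBC : ⁅V, X.map (MulAut.conj g).toMonoidHom⁆ ≤
      Subgroup.centralizer ((X.map (MulAut.conj g).toMonoidHom : Subgroup G) : Set G) := by
    apply Subgroup.commutator_eq_bot_iff_le_centralizer.mp
    rw [hB, ← Subgroup.map_commutator, hq, Subgroup.map_bot]
  -- B normalizes A
  have hBNA : ⁅V, X.map (MulAut.conj g).toMonoidHom⁆ ≤ Subgroup.normalizer ((⁅V, X⁆ : Subgroup G) : Set G) :=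
    hBV.trans (Subgroup.normalizer_commutator_ge_left V X)
  -- elements of C(L)
  have hCL : ∀ w : G, w ∈ Subgroup.centralizer (X : Set G) →
      w ∈ Subgroup.centralizer ((X.map (MulAut.conj g).toMonoidHom : Subgroup G) : Set G) →
      w ∈ Subgroup.centralizer (L : Set G) := by
    intro w h1 h2
    have : L ≤ Subgroup.centralizer ({w} : Set G) := by
      rw [← hgen]
      apply sup_le
      · intro x hx
        rw [Subgroup.mem_centralizer_singleton_iff]
        exact (Subgroup.mem_centralizer_iff.mp h1 x hx)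
      · intro x hx
        rw [Subgroup.mem_centralizer_singleton_iff]
        exact (Subgroup.mem_centralizer_iff.mp h2 x hx)
    rw [Subgroup.mem_centralizer_iff]
    intro l hl
    have := this hl
    rw [Subgroup.mem_centralizer_singleton_iff] at this
    exact this
  have h2 : W ⊓ Subgroup.centralizer (X : Set G) = ⁅V, X⁆ := by
    apply le_antisymm
    · intro w hw
      rw [Subgroup.mem_inf] at hw
      obtain ⟨hwW, hwC⟩ := hw
      rw [← h1] at hwW
      have hmem : w ∈ ((⁅V, X⁆ ⊔ ⁅V, X.map (MulAut.conj g).toMonoidHom⁆ : Subgroup G) : Set G) := hwW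
      rw [Subgroup.coe_mul_of_right_le_normalizer_left _ _ hBNA] at hmem
      obtain ⟨a, ha, b, hb, hab⟩ := Set.mem_mul.mp hmem
      have ha : a ∈ ⁅V, X⁆ := ha
      have hb : b ∈ ⁅V, X.map (MulAut.conj g).toMonoidHom⁆ := hb
      subst hab
      -- b centralizes X and X^g
      have hbC : b ∈ Subgroup.centralizer (X : Set G) := by
        have : b = a⁻¹ * (a * b) := by group
        rw [this]
        exact Subgroup.mul_mem _ (Subgroup.inv_mem _ (hAC ha)) hwC
      have hbL := hCL b hbC (hBC hb)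
      -- b ∈ A^g, and g centralizes b, so b ∈ A
      have hb' := hb
      rw [hB, mem_map_conj] at hb'
      have hgb : g * b = b * g := (Subgroup.mem_centralizer_iff.mp hbL g hg)
      have e : g⁻¹ * b * g = b := by
        rw [mul_assoc, ← hgb]; group
      rw [e] at hb'
      exact Subgroup.mul_mem _ ha hb'
    · exact le_inf (h1 ▸ le_sup_left) hAC
  refine ⟨h1, h2, ?_⟩
  apply le_antisymm
  · intro w hw
    rw [Subgroup.mem_inf] at hw
    obtain ⟨hwW, hwC⟩ := hw
    have hwX : w ∈ Subgroup.centralizer (X : Set G) :=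
      Subgroup.centralizer_le (SetLike.coe_subset_coe.mpr hX) hwC
    have hwA : w ∈ ⁅V, X⁆ := h2 ▸ (Subgroup.mem_inf.mpr ⟨hwW, hwX⟩)
    refine Subgroup.mem_inf.mpr ⟨hwA, ?_⟩
    rw [hB, mem_map_conj]
    have hgw : g * w = w * g := (Subgroup.mem_centralizer_iff.mp hwC g hg)
    have e : g⁻¹ * w * g = w := by
      rw [mul_assoc, ← hgw]; group
    rw [e]; exact hwA
  · intro w hw
    rw [Subgroup.mem_inf] at hw
    obtain ⟨hwA, hwB⟩ := hw
    exact Subgroup.mem_inf.mpr ⟨h1 ▸ Subgroup.mem_sup_left hwA, hCL w (hAC hwA) (hBC hwB)⟩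

end Cfsg.Agent.S2833
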