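import Mathlib
import Cfsg.Statements.S2834
import Cfsg.Agent.Lib.Helper17.Conj
import Cfsg.Agent.Lib.Helper17.Basic
import Cfsg.Agent.Lib.Helper17.SylowLemmas
import Cfsg.Agent.Lib.Helper17.AmalgV

set_option autoImplicit false
open Cfsg

namespace Cfsg.Agent.S2834

open Cfsg.Agent.Lib.Helper17 Cfsg.Agent.Lib.Helper17.AmalgV

section ConjApi

variable {G : Type*} [Group G]

/-- The conjugate `g W g⁻¹`. -/
def cj (g : G) (W : Subgroup G) : Subgroup G := W.map (MulAut.conj g).toMonoidHom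

theorem mem_cj_iff {g x : G} {W : Subgroup G} : x ∈ cj g W ↔ g⁻¹ * x * g ∈ W := mem_map_conj

theorem cj_mul (a b : G) (W : Subgroup G) : cj (a * b) W = cj a (cj b W) := by
  ext x
  simp only [mem_cj_iff]
  have : (a * b)⁻¹ * x * (a * b) = b⁻¹ * (a⁻¹ * x * a) * b := by group
  rw [this]

theorem cj_one (W : Subgroup G) : cj 1 W = W := by
  ext x
  simp [mem_cj_iff]

theorem cj_inv_cj (g : G) (W : Subgroup G) : cj g⁻¹ (cj g W) = W := by
  rw [← cj_mul, inv_mul_cancel, cj_one]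

theorem cj_cj_inv (g : G) (W : Subgroup G) : cj g (cj g⁻¹ W) = W := by
  rw [← cj_mul, mul_inv_cancel, cj_one]

theorem cj_mono (g : G) {W W' : Subgroup G} (h : W ≤ W') : cj g W ≤ cj g W' :=
  Subgroup.map_mono h

theorem cj_le_cj_iff (g : G) {W W' : Subgroup G} : cj g W ≤ cj g W' ↔ W ≤ W' := by
  constructor
  · intro h
    have := cj_mono g⁻¹ h
    rwa [cj_inv_cj, cj_inv_cj] at this
  · exact cj_mono g

theorem cj_le_iff (g : G) {W W' : Subgroup G} : cj g W ≤ W' ↔ W ≤ cj g⁻¹ W' := by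
  constructor
  · intro h
    have := cj_mono g⁻¹ h
    rwa [cj_inv_cj] at this
  · intro h
    have := cj_mono g h
    rwa [cj_cj_inv] at this

theorem le_cj_iff (g : G) {W W' : Subgroup G} : W ≤ cj g W' ↔ cj g⁻¹ W ≤ W' := by
  rw [cj_le_iff, inv_inv]

theorem cj_eq_self_of_mem_normalizer {g : G} {W : Subgroup G}
    (hg : g ∈ Subgroup.normalizer (W : Set G)) : cj g W = W :=
  map_conj_eq_of_mem_normalizer hg

theorem mem_normalizer_of_cj_eq {g : G} {W : Subgroup G} (h : cj g W = W) :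
    g ∈ Subgroup.normalizer (W : Set G) :=
  mem_normalizer_of_map_conj_eq h

theorem cj_eq_self_of_mem {K : Subgroup G} {g : G} (hg : g ∈ K) : cj g K = K :=
  cj_eq_self_of_mem_normalizer (Subgroup.le_normalizer hg)

theorem cj_le_of_mem {K W : Subgroup G} {g : G} (hg : g ∈ K) (hW : W ≤ K) : cj g W ≤ K := by
  have := cj_mono g hW
  rwa [cj_eq_self_of_mem hg] at this

theorem cj_inf (g : G) (W W' : Subgroup G) : cj g (W ⊓ W') = cj g W ⊓ cj g W' := by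
  ext x
  simp only [Subgroup.mem_inf, mem_cj_iff]

theorem cj_inf_of_mem {K : Subgroup G} {g : G} (hg : g ∈ K) (W : Subgroup G) :
    cj g (K ⊓ W) = K ⊓ cj g W := by
  rw [cj_inf, cj_eq_self_of_mem hg]

theorem card_cj (g : G) (W : Subgroup G) : Nat.card (cj g W) = Nat.card W := card_map_conj W g

theorem card_lt_of_lt [Finite G] {W W' : Subgroup G} (h : W < W') :
    Nat.card W < Nat.card W' := by
  by_contra hc
  push Not at hc
  exact h.ne (Subgroup.eq_of_le_of_card_ge h.le hc)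

theorem eq_of_le_of_card_le [Finite G] {W W' : Subgroup G} (h : W ≤ W')
    (hc : Nat.card W' ≤ Nat.card W) : W = W' :=
  Subgroup.eq_of_le_of_card_ge h hc

end ConjApi

section Syl

variable {G : Type*} [Group G] [Finite G] {p : ℕ} [Fact p.Prime]

theorem exists_isMaxP_ge {A K : Subgroup G} (hAK : A ≤ K) (hA : IsPGroup p A) :
    ∃ S, IsMaxP p S K ∧ A ≤ S := by
  obtain ⟨P, hP⟩ := (hA.comap_subtype (K := K)).exists_le_sylow
  refine ⟨(P : Subgroup K).map K.subtype, IsMaxP.of_sylow K P, ?_⟩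
  intro a ha
  have h1 : (⟨a, hAK ha⟩ : K) ∈ A.subgroupOf K := by
    rw [Subgroup.mem_subgroupOf]; exact ha
  exact ⟨⟨a, hAK ha⟩, hP h1, rfl⟩

theorem isMaxP_cj_of_mem {S K : Subgroup G} (h : IsMaxP p S K) {g : G} (hg : g ∈ K) :
    IsMaxP p (cj g S) K := by
  have h1 : IsMaxP p (cj g S) (cj g K) := h.map_conj g
  rwa [cj_eq_self_of_mem hg] at h1

theorem isMaxP_conj {S T K : Subgroup G} (hS : IsMaxP p S K) (hT : IsMaxP p T K) :
    ∃ a ∈ K, T = cj a S := hS.exists_conj' hT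

end Syl

/-- `(H, M)` is a "minimal configuration": `M < H` and some Sylow `p`-subgroup `T ≤ M` of `H` such
that every proper subgroup of `H` containing `T` lies in `M`. -/
structure MinCfg {G : Type*} [Group G] (p : ℕ) (H M : Subgroup G) : Prop where
  le : M ≤ H
  ne : M ≠ H
  syl : ∃ T, IsMaxP p T H ∧ T ≤ M ∧ ∀ X, X ≤ H → T ≤ X → X = H ∨ X ≤ M

/-- `L` witnesses that `A` fixes the point `ω` and no other point of the `L`-orbit of `ω`. -/
def OrbitPair {G : Type*} [Group G] (H ω A : Subgroup G) : Prop :=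
  ∃ L : Subgroup G, L ≤ H ∧ A ≤ L ∧ A ≤ ω ∧ ¬ L ≤ ω ∧ ∀ l ∈ L, A ≤ cj l ω → l ∈ ω

section Main

variable {G : Type*} [Group G] [Finite G] {p : ℕ} [Fact p.Prime]

theorem MinCfg.conj {H M : Subgroup G} (hc : MinCfg p H M) {h : G} (hh : h ∈ H) :
    MinCfg p H (cj h M) := by
  obtain ⟨T, hT, hTM, hTX⟩ := hc.syl
  refine ⟨cj_le_of_mem hh hc.le, ?_, cj h T, isMaxP_cj_of_mem hT hh, cj_mono h hTM, ?_⟩
  · intro he
    apply hc.ne
    have := congrArg (cj h⁻¹) he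
    rwa [cj_inv_cj, cj_eq_self_of_mem (H.inv_mem hh)] at this
  · intro X hX hTX'
    rw [cj_le_iff] at hTX'
    rcases hTX (cj h⁻¹ X) (cj_le_of_mem (H.inv_mem hh) hX) hTX' with h1 | h1
    · left
      have := congrArg (cj h) h1
      rwa [cj_cj_inv, cj_eq_self_of_mem hh] at this
    · right
      have := (cj_le_iff h⁻¹).mp h1
      rwa [inv_inv] at this

theorem MinCfg.eq_or_eq {H M X : Subgroup G} (hc : MinCfg p H M) (hMX : M ≤ X) (hXH : X ≤ H) :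
    X = H ∨ X = M := by
  obtain ⟨T, hT, hTM, hTX⟩ := hc.syl
  rcases hTX X hXH (hTM.trans hMX) with h | h
  · exact Or.inl h
  · exact Or.inr (le_antisymm h hMX)

theorem MinCfg.of_isMaxP {H M : Subgroup G} (hc : MinCfg p H M) {S : Subgroup G}
    (hS : IsMaxP p S H) (hSM : S ≤ M) : ∀ X, X ≤ H → S ≤ X → X = H ∨ X ≤ M := by
  obtain ⟨T, hT, hTM, hTX⟩ := hc.syl
  obtain ⟨a, ha, rfl⟩ := isMaxP_conj hT hS
  have key : ∀ X, X ≤ H → cj a T ≤ X → X = H ∨ X ≤ cj a M := by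
    intro X hX hTX'
    rw [cj_le_iff] at hTX'
    rcases hTX (cj a⁻¹ X) (cj_le_of_mem (H.inv_mem ha) hX) hTX' with h1 | h1
    · left
      have := congrArg (cj a) h1
      rwa [cj_cj_inv, cj_eq_self_of_mem ha] at this
    · right
      have := (cj_le_iff a⁻¹).mp h1
      rwa [inv_inv] at this
  have hM : M = cj a M := by
    rcases key M hc.le hSM with h1 | h1
    · exact absurd h1 hc.ne
    · exact eq_of_le_of_card_le h1 (by rw [card_cj])
  intro X hX hSX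
  rw [hM]
  exact key X hX hSX

theorem MinCfg.conj_eq_of_isMaxP {H M : Subgroup G} (hc : MinCfg p H M) {S : Subgroup G}
    (hS : IsMaxP p S H) {h k : G} (hh : h ∈ H) (hk : k ∈ H) (h1 : S ≤ cj h M)
    (h2 : S ≤ cj k M) : cj k M = cj h M := by
  have hch := hc.conj hh
  have hck := hc.conj hk
  rcases hch.of_isMaxP hS h1 (cj k M) hck.le h2 with h3 | h3
  · exact absurd h3 hck.ne
  · exact eq_of_le_of_card_le h3 (by rw [card_cj, card_cj])

theorem OrbitPair.conj {H ω A : Subgroup G} (hs : OrbitPair H ω A) {v : G} (hv : v ∈ H) :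
    OrbitPair H (cj v ω) (cj v A) := by
  obtain ⟨L, hLH, hAL, hAω, hLω, hfix⟩ := hs
  refine ⟨cj v L, cj_le_of_mem hv hLH, cj_mono v hAL, cj_mono v hAω, ?_, ?_⟩
  · rw [cj_le_cj_iff]; exact hLω
  · intro l' hl' hA'
    rw [mem_cj_iff] at hl' ⊢
    apply hfix _ hl'
    have e : l' * v = v * (v⁻¹ * l' * v) := by group
    rw [← cj_mul l' v ω, e, cj_mul v _ ω, cj_le_cj_iff] at hA'
    exact hA'

theorem star_conj {H M A : Subgroup G} (hs : ∃ h ∈ H, OrbitPair H (cj h M) A) {v : G}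
    (hv : v ∈ H) : ∃ h ∈ H, OrbitPair H (cj h M) (cj v A) := by
  obtain ⟨h, hh, hp⟩ := hs
  refine ⟨v * h, H.mul_mem hv hh, ?_⟩
  rw [cj_mul]
  exact hp.conj hv

theorem step0 {H M A : Subgroup G} (hc : MinCfg p H M)
    (hnt : ∃ h ∈ H, ¬ A ≤ cj h M) {h : G} (hh : h ∈ H) (hAω : A ≤ cj h M)
    (huniq : ∀ k ∈ H, A ≤ cj k M → cj k M = cj h M) : OrbitPair H (cj h M) A := by
  have hcω := hc.conj hh
  refine ⟨H, le_rfl, hAω.trans hcω.le, hAω, fun hle => hcω.ne (le_antisymm hcω.le hle), ?_⟩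
  intro l hl hA
  have h1 : cj l (cj h M) = cj h M := by
    rw [← cj_mul]
    exact huniq _ (H.mul_mem hl hh) (by rw [cj_mul]; exact hA)
  have hlN : l ∈ Subgroup.normalizer ((cj h M : Subgroup G) : Set G) := mem_normalizer_of_cj_eq h1
  rcases hcω.eq_or_eq (X := Subgroup.normalizer ((cj h M : Subgroup G) : Set G) ⊓ H)
    (le_inf Subgroup.le_normalizer hcω.le) inf_le_right with h2 | h2
  · exfalso
    obtain ⟨h₀, hh₀, hn⟩ := hnt
    apply hn
    have h3 : h₀ * h⁻¹ ∈ Subgroup.normalizer ((cj h M : Subgroup G) : Set G) := by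
      have : h₀ * h⁻¹ ∈ Subgroup.normalizer ((cj h M : Subgroup G) : Set G) ⊓ H := by
        rw [h2]; exact H.mul_mem hh₀ (H.inv_mem hh)
      exact this.1
    have h4 : cj (h₀ * h⁻¹) (cj h M) = cj h M := cj_eq_self_of_mem_normalizer h3
    have h5 : cj (h₀ * h⁻¹) (cj h M) = cj h₀ M := by
      rw [← cj_mul]; congr 1; group
    calc A ≤ cj h M := hAω
      _ = cj (h₀ * h⁻¹) (cj h M) := h4.symm
      _ = cj h₀ M := h5
  · have : l ∈ Subgroup.normalizer ((cj h M : Subgroup G) : Set G) ⊓ H := ⟨hlN, hl⟩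
    rw [h2] at this
    exact this

theorem step2 {H M A : Subgroup G} (hc : MinCfg p H M)
    (IHo : ∀ H' M' A' : Subgroup G, Nat.card H' < Nat.card H → MinCfg p H' M' → A' ≤ H' →
      IsPGroup p A' → (∃ h ∈ H', ¬ A' ≤ cj h M') → ∃ h ∈ H', OrbitPair H' (cj h M') A')
    (hns : ¬ ∃ h ∈ H, OrbitPair H (cj h M) A)
    {h : G} (hh : h ∈ H) {A₁ L₁ : Subgroup G} (hA₁ : IsPGroup p A₁) (hL₁H : L₁ ≤ H)
    (hA₁L : A₁ ≤ L₁) (hA₁ω : A₁ ≤ cj h M) (hLω : ¬ L₁ ≤ cj h M)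
    (hfix : ∀ l ∈ L₁, A₁ ≤ cj l (cj h M) → l ∈ cj h M)
    (hmin : ∀ X, X < L₁ → A₁ ≤ X → X ≤ cj h M) (hne : L₁ ≠ H)
    {v : G} (hv : v ∈ H) (hvA : cj v A ≤ A₁) :
    ∀ l ∈ L₁, cj v A ≤ cj l (cj h M) := by
  intro l₀ hl₀
  by_contra hcon
  have hns' : ¬ ∃ h' ∈ H, OrbitPair H (cj h' M) (cj v A) := by
    intro hs
    apply hns
    have := star_conj hs (H.inv_mem hv)
    rwa [cj_inv_cj] at this
  have hnp : ¬ IsPGroup p L₁ := by
    intro hpL
    have hlt : L₁ ⊓ cj h M < L₁ :=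
      lt_of_le_of_ne inf_le_left (fun he => hLω (inf_eq_left.mp he))
    obtain ⟨n, hn, hnN, hnn⟩ := pgroup_normalizer_gt hpL hlt
    apply hnn
    refine ⟨hn, hfix n hn ?_⟩
    have h2 : cj n (L₁ ⊓ cj h M) = L₁ ⊓ cj h M := cj_eq_self_of_mem_normalizer hnN
    calc A₁ ≤ L₁ ⊓ cj h M := le_inf hA₁L hA₁ω
      _ = cj n (L₁ ⊓ cj h M) := h2.symm
      _ ≤ cj n (cj h M) := cj_mono n inf_le_right
  obtain ⟨S₁, hS₁, hA₁S⟩ := exists_isMaxP_ge hA₁L hA₁
  have hS₁lt : S₁ < L₁ := lt_of_le_of_ne hS₁.1 (fun he => hnp (he ▸ hS₁.2.1))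
  have hS₁ω : S₁ ≤ cj h M := hmin S₁ hS₁lt hA₁S
  have hcfg : MinCfg p L₁ (L₁ ⊓ cj h M) := by
    refine ⟨inf_le_left, fun he => hLω (inf_eq_left.mp he), S₁, hS₁, le_inf hS₁.1 hS₁ω, ?_⟩
    intro X hX hSX
    rcases eq_or_lt_of_le hX with h1 | h1
    · exact Or.inl h1
    · exact Or.inr (le_inf hX (hmin X h1 (hA₁S.trans hSX)))
  have hcard : Nat.card L₁ < Nat.card H := card_lt_of_lt (lt_of_le_of_ne hL₁H hne)
  have hA'L : cj v A ≤ L₁ := hvA.trans hA₁L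
  have hA'p : IsPGroup p (cj v A) := hA₁.to_le hvA
  obtain ⟨k, hk, L, hLL₁, hA'L', hA'ω, hLnω, hfix'⟩ :=
    IHo L₁ (L₁ ⊓ cj h M) (cj v A) hcard hcfg hA'L hA'p
      ⟨l₀, hl₀, fun hle => hcon (hle.trans (cj_mono l₀ inf_le_right))⟩
  apply hns'
  refine ⟨k * h, H.mul_mem (hL₁H hk) hh, ?_⟩
  rw [cj_mul]
  refine ⟨L, hLL₁.trans hL₁H, hA'L', hA'ω.trans (cj_mono k inf_le_right), ?_, ?_⟩
  · intro hle
    apply hLnω
    rw [cj_inf_of_mem hk]
    exact le_inf hLL₁ hle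
  · intro l hl hAl
    have hlL₁ : l ∈ L₁ := hLL₁ hl
    have h1 : cj v A ≤ cj l (cj k (L₁ ⊓ cj h M)) := by
      rw [cj_inf_of_mem hk, cj_inf_of_mem hlL₁]
      exact le_inf hA'L hAl
    have h2 := hfix' l hl h1
    rw [cj_inf_of_mem hk] at h2
    exact h2.2

theorem step3 {H M A : Subgroup G} (hc : MinCfg p H M)
    (IHo : ∀ H' M' A' : Subgroup G, Nat.card H' < Nat.card H → MinCfg p H' M' → A' ≤ H' →
      IsPGroup p A' → (∃ h ∈ H', ¬ A' ≤ cj h M') → ∃ h ∈ H', OrbitPair H' (cj h M') A')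
    (hns : ¬ ∃ h ∈ H, OrbitPair H (cj h M) A)
    (IHi : ∀ A₁ : Subgroup G, A₁ ≤ H → IsPGroup p A₁ → Nat.card A < Nat.card A₁ →
      (∃ h ∈ H, ¬ A₁ ≤ cj h M) → ∃ h ∈ H, OrbitPair H (cj h M) A₁)
    (hAH : A ≤ H) (hnt : ∃ h ∈ H, ¬ A ≤ cj h M)
    {w : G} (hw : w ∈ H) (hwA : cj w A ≠ A) (hp : IsPGroup p (A ⊔ cj w A : Subgroup G)) :
    ∃ h ∈ H, A ⊔ cj w A ≤ cj h M ∧ (∀ k ∈ H, A ⊔ cj w A ≤ cj k M → cj k M = cj h M) ∧
      ∀ X, X ≤ H → X ≠ H → A ⊔ cj w A ≤ X → X ≤ cj h M := by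
  have hA₁H : A ⊔ cj w A ≤ H := sup_le hAH (cj_le_of_mem hw hAH)
  have hcard : Nat.card A < Nat.card (A ⊔ cj w A : Subgroup G) := by
    by_contra hcon
    push Not at hcon
    have h1 : A = A ⊔ cj w A := eq_of_le_of_card_le le_sup_left hcon
    have h2 : cj w A = A ⊔ cj w A :=
      eq_of_le_of_card_le le_sup_right (by rw [card_cj]; exact hcon)
    exact hwA (h2.trans h1.symm)
  have hnt₁ : ∃ h ∈ H, ¬ A ⊔ cj w A ≤ cj h M := by
    obtain ⟨h₀, hh₀, hn⟩ := hnt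
    exact ⟨h₀, hh₀, fun hle => hn (le_sup_left.trans hle)⟩
  obtain ⟨h, hh, L₀, hL₀H, hAL₀, hAω, hL₀ω, hfix₀⟩ := IHi _ hA₁H hp hcard hnt₁
  obtain ⟨L₁, hL₁, hL₁min⟩ := WellFounded.has_min
    (measure (fun X : Subgroup G => Nat.card X)).wf
    {X : Subgroup G | X ≤ H ∧ A ⊔ cj w A ≤ X ∧ ¬ X ≤ cj h M ∧
      ∀ l ∈ X, A ⊔ cj w A ≤ cj l (cj h M) → l ∈ cj h M}
    ⟨L₀, hL₀H, hAL₀, hL₀ω, hfix₀⟩
  obtain ⟨hL₁H, hAL₁, hL₁ω, hfix₁⟩ := hL₁
  have hmin : ∀ X, X < L₁ → A ⊔ cj w A ≤ X → X ≤ cj h M := by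
    intro X hX hAX
    by_contra hXω
    exact hL₁min X ⟨hX.le.trans hL₁H, hAX, hXω, fun l hl => hfix₁ l (hX.le hl)⟩
      (card_lt_of_lt hX)
  have hL₁eq : L₁ = H := by
    by_contra hne
    apply hL₁ω
    intro l hl
    apply hfix₁ l hl
    have h1 := step2 hc IHo hns hh hp hL₁H hAL₁ hAω hL₁ω hfix₁ hmin hne (v := 1) H.one_mem
      (by rw [cj_one]; exact le_sup_left) l hl
    have h2 := step2 hc IHo hns hh hp hL₁H hAL₁ hAω hL₁ω hfix₁ hmin hne (v := w) hw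
      le_sup_right l hl
    rw [cj_one] at h1
    exact sup_le h1 h2
  rw [hL₁eq] at hfix₁ hmin
  refine ⟨h, hh, hAω, ?_, ?_⟩
  · intro k hk hAk
    have e : cj k M = cj (k * h⁻¹) (cj h M) := by
      rw [← cj_mul]; congr 1; group
    have h1 : k * h⁻¹ ∈ cj h M :=
      hfix₁ _ (H.mul_mem hk (H.inv_mem hh)) (by rw [← e]; exact hAk)
    rw [e, cj_eq_self_of_mem h1]
  · intro X hX hXne hAX
    exact hmin X (lt_of_le_of_ne hX hXne) hAX

theorem exists_isMaxP_in_conj {H M A : Subgroup G} (hc : MinCfg p H M) (hA : IsPGroup p A)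
    {h : G} (hh : h ∈ H) (hAω : A ≤ cj h M) :
    ∃ S, IsMaxP p S H ∧ A ≤ S ∧ S ≤ cj h M := by
  obtain ⟨T, hT, hTM, -⟩ := hc.syl
  have hcω := hc.conj hh
  have hT' : IsMaxP p (cj h T) H := isMaxP_cj_of_mem hT hh
  have hT'ω : IsMaxP p (cj h T) (cj h M) := hT'.mono (cj_mono h hTM) hcω.le
  obtain ⟨S, hS, hAS⟩ := exists_isMaxP_ge hAω hA
  obtain ⟨b, hb, rfl⟩ := isMaxP_conj hT'ω hS
  exact ⟨_, isMaxP_cj_of_mem hT' (hcω.le hb), hAS, hS.1⟩

theorem normalizer_inf_ne {H M A : Subgroup G} (hnt : ∃ h ∈ H, ¬ A ≤ cj h M)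
    {h : G} (hh : h ∈ H) (hAω : A ≤ cj h M) :
    Subgroup.normalizer (A : Set G) ⊓ H ≠ H := by
  intro he
  obtain ⟨h₀, hh₀, hn⟩ := hnt
  apply hn
  have h1 : h₀ * h⁻¹ ∈ Subgroup.normalizer (A : Set G) := by
    have : h₀ * h⁻¹ ∈ Subgroup.normalizer (A : Set G) ⊓ H := by
      rw [he]; exact H.mul_mem hh₀ (H.inv_mem hh)
    exact this.1
  have h2 : cj (h₀ * h⁻¹) A = A := cj_eq_self_of_mem_normalizer h1
  have h3 : cj (h₀ * h⁻¹) (cj h M) = cj h₀ M := by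
    rw [← cj_mul]; congr 1; group
  calc A = cj (h₀ * h⁻¹) A := h2.symm
    _ ≤ cj (h₀ * h⁻¹) (cj h M) := cj_mono _ hAω
    _ = cj h₀ M := h3

theorem step4 {H M A : Subgroup G} (hc : MinCfg p H M) (hA : IsPGroup p A)
    (hnt : ∃ h ∈ H, ¬ A ≤ cj h M)
    {h h₂ : G} (hh : h ∈ H) (hh₂ : h₂ ∈ H) (hAω : A ≤ cj h M) (hAω₂ : A ≤ cj h₂ M)
    (hne : cj h₂ M ≠ cj h M) :
    ∃ x ∈ H, cj x A ≠ A ∧ cj x A ≤ Subgroup.normalizer (A : Set G) ∧
      IsPGroup p (A ⊔ cj x A : Subgroup G) ∧ A ⊔ cj x A ≤ cj h M := by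
  obtain ⟨S, hS, hAS, hSω⟩ := exists_isMaxP_in_conj hc hA hh hAω
  obtain ⟨S₂, hS₂, hAS₂, hSω₂⟩ := exists_isMaxP_in_conj hc hA hh₂ hAω₂
  have hcω := hc.conj hh
  have hwc : ∃ w ∈ H, cj w A ≤ S ∧ cj w A ≠ A := by
    by_contra hcon
    push Not at hcon
    have hSN : S ≤ Subgroup.normalizer (A : Set G) := by
      intro t ht
      apply mem_normalizer_of_cj_eq
      exact hcon t (hS.1 ht) (by have := cj_mono t hAS; rwa [cj_eq_self_of_mem ht] at this)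
    have hN : Subgroup.normalizer (A : Set G) ⊓ H ≤ cj h M := by
      rcases hcω.of_isMaxP hS hSω _ inf_le_right (le_inf hSN hS.1) with h1 | h1
      · exact absurd h1 (normalizer_inf_ne hnt hh hAω)
      · exact h1
    obtain ⟨g, hg, hgS⟩ := isMaxP_conj hS hS₂
    have h0 : A ≤ cj g S := by rw [← hgS]; exact hAS₂
    have h1 : cj g⁻¹ A ≤ S := (le_cj_iff g).mp h0
    have h2 : cj g⁻¹ A = A := hcon g⁻¹ (H.inv_mem hg) h1
    have h3 : g⁻¹ ∈ cj h M := hN ⟨mem_normalizer_of_cj_eq h2, H.inv_mem hg⟩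
    have h4 : g ∈ cj h M := by
      have := (cj h M).inv_mem h3
      rwa [inv_inv] at this
    have h5 : S₂ ≤ cj h M := by
      rw [hgS]
      have := cj_mono g hSω
      rwa [cj_eq_self_of_mem h4] at this
    exact hne (hc.conj_eq_of_isMaxP hS₂ hh hh₂ h5 hSω₂)
  obtain ⟨w, hw, hwS, hwne⟩ := hwc
  by_cases hwN : cj w A ≤ Subgroup.normalizer (A : Set G)
  · exact ⟨w, hw, hwne, hwN, hS.2.1.to_le (sup_le hAS hwS), (sup_le hAS hwS).trans hSω⟩
  · have hlt : Subgroup.normalizer (A : Set G) ⊓ S < S := by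
      refine lt_of_le_of_ne inf_le_right (fun he => hwN ?_)
      exact hwS.trans (inf_eq_right.mp he)
    obtain ⟨x, hxS, hxN, hxn⟩ := pgroup_normalizer_gt hS.2.1 hlt
    have hxA : cj x A ≠ A := by
      intro he
      exact hxn ⟨mem_normalizer_of_cj_eq he, hxS⟩
    have hAN₁ : A ≤ Subgroup.normalizer (A : Set G) ⊓ S := le_inf Subgroup.le_normalizer hAS
    have hxAN : cj x A ≤ Subgroup.normalizer (A : Set G) ⊓ S := by
      have := cj_mono x hAN₁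
      rwa [cj_eq_self_of_mem_normalizer hxN] at this
    have hxAS : cj x A ≤ S := hxAN.trans inf_le_right
    exact ⟨x, hS.1 hxS, hxA, hxAN.trans inf_le_left, hS.2.1.to_le (sup_le hAS hxAS),
      (sup_le hAS hxAS).trans hSω⟩

theorem orbit_main : ∀ (n : ℕ) (H M : Subgroup G), Nat.card H = n → MinCfg p H M →
    ∀ (m : ℕ) (A : Subgroup G), Nat.card H - Nat.card A = m → A ≤ H → IsPGroup p A →
      (∃ h ∈ H, ¬ A ≤ cj h M) → ∃ h ∈ H, OrbitPair H (cj h M) A := by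
  intro n
  induction n using Nat.strong_induction_on with
  | h n ihn =>
  intro H M hn hc m
  induction m using Nat.strong_induction_on with
  | h m ihm =>
  intro A hm hAH hA hnt
  have IHo : ∀ H' M' A' : Subgroup G, Nat.card H' < Nat.card H → MinCfg p H' M' → A' ≤ H' →
      IsPGroup p A' → (∃ h ∈ H', ¬ A' ≤ cj h M') → ∃ h ∈ H', OrbitPair H' (cj h M') A' := by
    intro H' M' A' hlt hc' hA'H hA' hnt'
    exact ihn (Nat.card H') (hn ▸ hlt) H' M' rfl hc' _ A' rfl hA'H hA' hnt'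
  have IHi : ∀ A₁ : Subgroup G, A₁ ≤ H → IsPGroup p A₁ → Nat.card A < Nat.card A₁ →
      (∃ h ∈ H, ¬ A₁ ≤ cj h M) → ∃ h ∈ H, OrbitPair H (cj h M) A₁ := by
    intro A₁ hA₁H hA₁ hlt hnt₁
    have hle : Nat.card A₁ ≤ Nat.card H := Subgroup.card_le_of_le hA₁H
    exact ihm (Nat.card H - Nat.card A₁) (by omega) A₁ rfl hA₁H hA₁ hnt₁
  by_contra hns
  obtain ⟨S, hS, hAS⟩ := exists_isMaxP_ge hAH hA
  obtain ⟨T, hT, hTM, -⟩ := hc.syl
  obtain ⟨a, ha, rfl⟩ := isMaxP_conj hT hS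
  have hAω : A ≤ cj a M := hAS.trans (cj_mono a hTM)
  apply hns
  refine ⟨a, ha, step0 hc hnt ha hAω ?_⟩
  intro k hk hAk
  by_contra hne
  obtain ⟨x, hx, hxA, hxN, hxp, hxω⟩ := step4 hc hA hnt ha hk hAω hAk hne
  obtain ⟨x₂, hx₂, hx₂A, hx₂N, hx₂p, hx₂ω⟩ := step4 hc hA hnt hk ha hAk hAω (Ne.symm hne)
  obtain ⟨h₁, hh₁, h₁ω, h₁u, h₁X⟩ := step3 hc IHo hns IHi hAH hnt hx hxA hxp
  obtain ⟨h₂, hh₂, h₂ω, h₂u, h₂X⟩ := step3 hc IHo hns IHi hAH hnt hx₂ hx₂A hx₂p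
  have e₁ : cj a M = cj h₁ M := h₁u a ha hxω
  have e₂ : cj k M = cj h₂ M := h₂u k hk hx₂ω
  have hNne := normalizer_inf_ne hnt ha hAω
  have hle₁ : A ⊔ cj x A ≤ Subgroup.normalizer (A : Set G) ⊓ H :=
    le_inf (sup_le Subgroup.le_normalizer hxN) (sup_le hAH (cj_le_of_mem hx hAH))
  have hle₂ : A ⊔ cj x₂ A ≤ Subgroup.normalizer (A : Set G) ⊓ H :=
    le_inf (sup_le Subgroup.le_normalizer hx₂N) (sup_le hAH (cj_le_of_mem hx₂ hAH))
  have hN₂ : Subgroup.normalizer (A : Set G) ⊓ H ≤ cj h₂ M := h₂X _ inf_le_right hNne hle₂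
  have h3 : A ⊔ cj x A ≤ cj k M := by
    rw [e₂]
    exact hle₁.trans hN₂
  have h4 : cj k M = cj h₁ M := h₁u k hk h3
  exact hne (h4.trans e₁.symm)

end Main

section Final

variable {G : Type*} [Group G] [Finite G] {p : ℕ} [Fact p.Prime]

theorem isMaxP_sylow (T : Sylow p G) : IsMaxP p (T : Subgroup G) ⊤ :=
  ⟨le_top, T.isPGroup', fun _ _ hp hle => T.is_maximal' hp hle⟩

theorem exists_not_le_conj {M : Subgroup G} (hc : MinCfg p (⊤ : Subgroup G) M)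
    {A : Subgroup G} (hA : IsPGroup p A) (hAp : ¬ A ≤ pCore p G) :
    ∃ h ∈ (⊤ : Subgroup G), ¬ A ≤ cj h M := by
  by_contra hcon
  push Not at hcon
  apply hAp
  have hAD : A ≤ M.normalCore := by
    intro a ha
    show ∀ b : G, b * a * b⁻¹ ∈ M
    intro b
    have := hcon b⁻¹ (Subgroup.mem_top _) ha
    rw [mem_cj_iff, inv_inv] at this
    exact this
  obtain ⟨S, hS, hAS⟩ := exists_isMaxP_ge hAD hA
  obtain ⟨P, hP⟩ := hS.exists_sylow
  have hfr := Sylow.normalizer_sup_eq_top P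
  rw [hP] at hfr
  obtain ⟨Q, hSQ⟩ := hS.2.1.exists_le_sylow
  have hQD : (Q : Subgroup G) ⊓ M.normalCore = S :=
    hS.2.2 _ inf_le_right (Q.isPGroup'.to_le inf_le_left) (le_inf hSQ hS.1)
  have hQN : (Q : Subgroup G) ≤ Subgroup.normalizer (S : Set G) := by
    intro q hq
    rw [← hQD]
    apply mem_normalizer_inf (Subgroup.le_normalizer hq)
    rw [(Subgroup.normalizer_eq_top_iff (H := M.normalCore)).mpr inferInstance]
    exact Subgroup.mem_top q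
  obtain ⟨T, hT, hTM, -⟩ := hc.syl
  obtain ⟨a, -, hQa⟩ := isMaxP_conj hT (isMaxP_sylow Q)
  have hcω := hc.conj (Subgroup.mem_top a)
  have hQω : (Q : Subgroup G) ≤ cj a M := by rw [hQa]; exact cj_mono a hTM
  rcases hcω.of_isMaxP (isMaxP_sylow Q) hQω _ le_top hQN with h1 | h1
  · have hSn : S.Normal := Subgroup.normalizer_eq_top_iff.mp h1
    exact hAS.trans (le_pCore hSn hS.2.1)
  · exfalso
    apply hcω.ne
    rw [eq_top_iff, ← hfr]
    apply sup_le h1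
    intro d hd
    rw [mem_cj_iff]
    have hd' : ∀ b : G, b * d * b⁻¹ ∈ M := hd
    have := hd' a⁻¹
    rwa [inv_inv] at this

end Final

/-- The L-Lemma: let H be a finite group with Sylow p-subgroup T such that H is T-minimal (generated by the conjugates of T, T in exactly one maximal subgroup M), and let A ≤ T with A not contained in O_p(H). Then there is a subgroup L of H containing A·O_p(H) such that (a) A·O_p(L) lies in exactly one maximal subgroup L₀ of L, and L₀ = L ∩ gMg⁻¹ for some g ∈ H; (b) L = ⟨A, xAx⁻¹⟩·O_p(L) for every x ∈ L outside L₀. -/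
theorem result {H : Type*} [Group H] [Finite H] {p : ℕ} [Fact p.Prime] (T : Sylow p H) (hmin : Cfsg.IsMinimalOver (T : Subgroup H)) (M : Subgroup H) (hM : IsCoatom M ∧ (T : Subgroup H) ≤ M) (A : Subgroup H) (hAT : A ≤ (T : Subgroup H)) (hA : ¬ A ≤ Cfsg.pCore p H) : ∃ L : Subgroup H, A ⊔ Cfsg.pCore p H ≤ L ∧ ∃ L₀ : Subgroup H, A ⊔ (Cfsg.pCoreOf p L) ≤ L₀ ∧ L₀ < L ∧ (∀ X : Subgroup H, A ⊔ (Cfsg.pCoreOf p L) ≤ X → X < L → X ≤ L₀) ∧ (∃ g : H, L₀ = L ⊓ ((M : Subgroup H).map (MulAut.conj (g : H)).toMonoidHom)) ∧ ∀ x ∈ L, x ∉ L₀ → (A ⊔ ((A : Subgroup H).map (MulAut.conj (x : H)).toMonoidHom)) ⊔ (Cfsg.pCoreOf p L) = L := by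
  obtain ⟨-, M', hM', huniq⟩ := hmin
  have hmax : ∀ X : Subgroup H, X ≤ ⊤ → (T : Subgroup H) ≤ X → X = ⊤ ∨ X ≤ M := by
    intro X _ hTX
    by_cases hX : X = ⊤
    · exact Or.inl hX
    · right
      obtain ⟨C, hC, hXC⟩ := (eq_top_or_exists_le_coatom X).resolve_left hX
      have h1 : C = M' := huniq C ⟨hC, hTX.trans hXC⟩
      have h2 : M = M' := huniq M hM
      rw [h2, ← h1]; exact hXC
  have hc : MinCfg p (⊤ : Subgroup H) M :=
    ⟨le_top, hM.1.1, (T : Subgroup H), isMaxP_sylow T, hM.2, hmax⟩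
  have hQT : Cfsg.pCore p H ≤ (T : Subgroup H) := pCore_le_sylow T
  have hQp : IsPGroup p (Cfsg.pCore p H) := pCore_isPGroup
  have hQnorm : Subgroup.normalizer ((Cfsg.pCore p H : Subgroup H) : Set H) = ⊤ :=
    (Subgroup.normalizer_eq_top_iff (H := Cfsg.pCore p H)).mpr inferInstance
  have hpA : IsPGroup p A := T.isPGroup'.to_le hAT
  have hpAQ : IsPGroup p (A ⊔ Cfsg.pCore p H : Subgroup H) := T.isPGroup'.to_le (sup_le hAT hQT)
  have hAQ : ¬ A ⊔ Cfsg.pCore p H ≤ Cfsg.pCore p H := fun h => hA (le_sup_left.trans h)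
  have hQω : ∀ g : H, Cfsg.pCore p H ≤ cj g M := by
    intro g
    have h1 : cj g (Cfsg.pCore p H) = Cfsg.pCore p H :=
      cj_eq_self_of_mem_normalizer (by rw [hQnorm]; exact Subgroup.mem_top g)
    calc Cfsg.pCore p H = cj g (Cfsg.pCore p H) := h1.symm
      _ ≤ cj g M := cj_mono g (hQT.trans hM.2)
  obtain ⟨h, -, L', -, hAL', hAω', hL'ω, hfix'⟩ :=
    orbit_main _ ⊤ M rfl hc _ (A ⊔ Cfsg.pCore p H) rfl le_top hpAQ
      (exists_not_le_conj hc hpAQ hAQ)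
  obtain ⟨L, hL, hLmin⟩ := WellFounded.has_min
    (measure (fun X : Subgroup H => Nat.card X)).wf
    {X : Subgroup H | A ⊔ Cfsg.pCore p H ≤ X ∧ ¬ X ≤ cj h M ∧
      ∀ l ∈ X, A ≤ cj l (cj h M) → l ∈ cj h M}
    ⟨L', hAL', hL'ω, fun l hl hAl =>
      hfix' l hl (sup_le hAl (by rw [← cj_mul]; exact hQω _))⟩
  obtain ⟨hAQL, hLω, hfix⟩ := hL
  have hi : ∀ X, X < L → A ⊔ Cfsg.pCore p H ≤ X → X ≤ cj h M := by
    intro X hX hAX
    by_contra hXω
    exact hLmin X ⟨hAX, hXω, fun l hl => hfix l (hX.le hl)⟩ (card_lt_of_lt hX)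
  have hAL : A ≤ L := le_sup_left.trans hAQL
  have hQL : Cfsg.pCore p H ≤ L := le_sup_right.trans hAQL
  have hAω : A ≤ cj h M := le_sup_left.trans hAω'
  have hltL : L ⊓ cj h M < L :=
    lt_of_le_of_ne inf_le_left (fun he => hLω (inf_eq_left.mp he))
  have hnp : ¬ IsPGroup p L := by
    intro hpL
    obtain ⟨n, hn, hnN, hnn⟩ := pgroup_normalizer_gt hpL hltL
    apply hnn
    refine ⟨hn, hfix n hn ?_⟩
    have h2 : cj n (L ⊓ cj h M) = L ⊓ cj h M := cj_eq_self_of_mem_normalizer hnN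
    calc A ≤ L ⊓ cj h M := le_inf hAL hAω
      _ = cj n (L ⊓ cj h M) := h2.symm
      _ ≤ cj n (cj h M) := cj_mono n inf_le_right
  have hRL : Cfsg.pCoreOf p L ≤ L := pCoreOf_le L
  have hRp : IsPGroup p (Cfsg.pCoreOf p L) := pCoreOf_isPGroup L
  have hARp : IsPGroup p (A ⊔ Cfsg.pCoreOf p L : Subgroup H) :=
    IsPGroup.to_sup_of_normal_right' hpA hRp (hAL.trans (le_normalizer_pCoreOf L))
  have hARL : A ⊔ Cfsg.pCoreOf p L ≤ L := sup_le hAL hRL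
  have hARlt : A ⊔ Cfsg.pCoreOf p L < L :=
    lt_of_le_of_ne hARL (fun he => hnp (he ▸ hARp))
  have hQR : Cfsg.pCore p H ≤ Cfsg.pCoreOf p L := by
    have h1 : (Cfsg.pCore p H).subgroupOf L ≤ pCore p L :=
      subgroupOf_le_pCore (by rw [hQnorm]; exact le_top) hQp
    have h2 := Subgroup.map_mono (f := L.subtype) h1
    rwa [Subgroup.map_subgroupOf_eq_of_le hQL] at h2
  have hARω : A ⊔ Cfsg.pCoreOf p L ≤ cj h M := hi _ hARlt (sup_le_sup_left hQR A)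
  refine ⟨L, hAQL, L ⊓ cj h M, le_inf hARL hARω, hltL, ?_, ⟨h, rfl⟩, ?_⟩
  · intro X hARX hXL
    exact le_inf hXL.le (hi X hXL ((sup_le_sup_left hQR A).trans hARX))
  · intro x hxL hxn
    change (A ⊔ cj x A) ⊔ Cfsg.pCoreOf p L = L
    by_contra hne
    have hYL : (A ⊔ cj x A) ⊔ Cfsg.pCoreOf p L ≤ L :=
      sup_le (sup_le hAL (cj_le_of_mem hxL hAL)) hRL
    have hYω := hi _ (lt_of_le_of_ne hYL hne)
      (sup_le (le_sup_left.trans le_sup_left) (hQR.trans le_sup_right))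
    have h1 : cj x A ≤ cj h M := (le_sup_right.trans le_sup_left).trans hYω
    have h2 : A ≤ cj x⁻¹ (cj h M) := (cj_le_iff x).mp h1
    have h3 : x⁻¹ ∈ cj h M := hfix x⁻¹ (L.inv_mem hxL) h2
    have h4 : x ∈ cj h M := by
      have := (cj h M).inv_mem h3
      rwa [inv_inv] at this
    exact hxn ⟨hxL, h4⟩

end Cfsg.Agent.S2834
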