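import Cfsg.Statements.S2835
import Cfsg.Agent.Lib.Helper17.Basic
import Cfsg.Agent.Lib.Helper17.SylowLemmas
import Cfsg.Agent.Lib.Helper17.Conj

set_option autoImplicit false
open Cfsg

namespace Cfsg.Agent.S2835

open Cfsg.Agent.Lib.Helper17

/-- Let L be a finite group, L₀ a maximal subgroup, T a Sylow p-subgroup of L₀ and Y ≤ T, and suppose L is Y-minimal (generated by the conjugates of Y, with Y in exactly one maximal subgroup, necessarily L₀). Then N_L(T) ≤ L₀, O_p(L) ≤ L₀ and T is a Sylow p-subgroup of L; N_L(L₀) = L₀; L = ⟨Y, gYg⁻¹⟩ for each g ∈ L outside L₀; and if Y is abelian then Y ∩ gYg⁻¹ = C_Y(L) for each such g. -/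
theorem result {L : Type*} [Group L] [Finite L] {p : ℕ} [Fact p.Prime] (L₀ : Subgroup L) (hL₀ : IsCoatom L₀) (T : Sylow p ↥L₀) (Y : Subgroup L) (hYT : Y ≤ (T : Subgroup ↥L₀).map L₀.subtype) (hmin : Cfsg.IsMinimalOver Y) : Subgroup.normalizer (((T : Subgroup ↥L₀).map L₀.subtype : Subgroup L) : Set L) ≤ L₀ ∧ Cfsg.pCore p L ≤ L₀ ∧ (∃ P : Sylow p L, (P : Subgroup L) = (T : Subgroup ↥L₀).map L₀.subtype) ∧ Subgroup.normalizer (L₀ : Set L) = L₀ ∧ (∀ g : L, g ∉ L₀ → Y ⊔ Y.map (MulAut.conj g).toMonoidHom = ⊤) ∧ (IsMulCommutative ↥Y → ∀ g : L, g ∉ L₀ → Y ⊓ Y.map (MulAut.conj g).toMonoidHom = Y ⊓ Subgroup.center L) := by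
  obtain ⟨hnc, M, ⟨hMco, hYM⟩, hMuniq⟩ := hmin
  have hTL₀ : (T : Subgroup ↥L₀).map L₀.subtype ≤ L₀ := Subgroup.map_subtype_le _
  have hYL₀ : Y ≤ L₀ := hYT.trans hTL₀
  have hM : M = L₀ := (hMuniq L₀ ⟨hL₀, hYL₀⟩).symm
  -- every proper subgroup containing Y lies in L₀
  have hprop : ∀ K : Subgroup L, Y ≤ K → K ≠ ⊤ → K ≤ L₀ := by
    intro K hYK hK
    obtain ⟨M', hM', hKM'⟩ := (eq_top_or_exists_le_coatom K).resolve_left hK
    have := hMuniq M' ⟨hM', hYK.trans hKM'⟩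
    rw [← hM, ← this]; exact hKM'
  -- no proper normal subgroup contains Y
  have hnn : ∀ K : Subgroup L, K.Normal → Y ≤ K → K = ⊤ := by
    intro K hK hYK
    rw [eq_top_iff, ← hnc]
    exact Subgroup.normalClosure_le_normal (N := K) (SetLike.coe_subset_coe.mpr hYK)
  have h1 : Subgroup.normalizer (((T : Subgroup ↥L₀).map L₀.subtype : Subgroup L) : Set L) ≤ L₀ := by
    apply hprop _ (hYT.trans Subgroup.le_normalizer)
    intro htop
    have hn : ((T : Subgroup ↥L₀).map L₀.subtype).Normal := Subgroup.normalizer_eq_top_iff.mp htop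
    have := hnn _ hn hYT
    apply hL₀.1
    rw [eq_top_iff, ← this]; exact hTL₀
  have hTp : IsPGroup p ((T : Subgroup ↥L₀).map L₀.subtype) := T.2.map _
  -- T̃ is Sylow in L
  have h3 : ∃ P : Sylow p L, (P : Subgroup L) = (T : Subgroup ↥L₀).map L₀.subtype := by
    obtain ⟨P, hP⟩ := hTp.exists_le_sylow
    refine ⟨P, ?_⟩
    by_contra hne
    have hlt : (T : Subgroup ↥L₀).map L₀.subtype < (P : Subgroup L) :=
      lt_of_le_of_ne hP (Ne.symm hne)
    obtain ⟨n, hnP, hnN, hnT⟩ := pgroup_normalizer_gt P.2 hlt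
    have hnL₀ : n ∈ L₀ := h1 hnN
    -- T ⊔ ⟨n⟩ is a p-subgroup of L₀
    have hK : IsPGroup p ((((T : Subgroup ↥L₀).map L₀.subtype ⊔ Subgroup.zpowers n : Subgroup L)).subgroupOf L₀) := by
      apply IsPGroup.comap_subtype
      apply P.2.to_le
      exact sup_le hP (Subgroup.zpowers_le.mpr hnP)
    have hle : (T : Subgroup ↥L₀) ≤ (((T : Subgroup ↥L₀).map L₀.subtype ⊔ Subgroup.zpowers n : Subgroup L)).subgroupOf L₀ := by
      intro t ht
      rw [Subgroup.mem_subgroupOf]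
      exact Subgroup.mem_sup_left ⟨t, ht, rfl⟩
    have heq := T.is_maximal' hK hle
    apply hnT
    have hn' : (⟨n, hnL₀⟩ : L₀) ∈ (((T : Subgroup ↥L₀).map L₀.subtype ⊔ Subgroup.zpowers n : Subgroup L)).subgroupOf L₀ := by
      rw [Subgroup.mem_subgroupOf]
      exact Subgroup.mem_sup_right (Subgroup.mem_zpowers n)
    rw [heq] at hn'
    exact ⟨⟨n, hnL₀⟩, hn', rfl⟩
  have h2 : Cfsg.pCore p L ≤ L₀ := by
    obtain ⟨P, hP⟩ := h3
    exact (pCore_le_sylow P).trans (hP ▸ hTL₀)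
  have h4 : Subgroup.normalizer (L₀ : Set L) = L₀ := by
    rcases eq_or_lt_of_le (Subgroup.le_normalizer (H := L₀)) with h | h
    · exact h.symm
    · exfalso
      have htop := hL₀.2 _ h
      have hn : L₀.Normal := Subgroup.normalizer_eq_top_iff.mp htop
      exact hL₀.1 (hnn _ hn hYL₀)
  have h5 : ∀ g : L, g ∉ L₀ → Y ⊔ Y.map (MulAut.conj g).toMonoidHom = ⊤ := by
    intro g hg
    by_contra hne
    have hle := hprop _ le_sup_left hne
    have hYg : Y.map (MulAut.conj g).toMonoidHom ≤ L₀ := le_sup_right.trans hle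
    -- Y ≤ comap (conj g) L₀
    have hco : IsCoatom (L₀.comap ((MulAut.conj g : L ≃* L) : L →* L)) :=
      (Subgroup.isCoatom_comap (MulAut.conj g : L ≃* L)).mpr hL₀
    have hYle : Y ≤ L₀.comap ((MulAut.conj g : L ≃* L) : L →* L) := by
      intro y hy
      rw [Subgroup.mem_comap]
      exact hYg ⟨y, hy, rfl⟩
    have heq := hMuniq _ ⟨hco, hYle⟩
    rw [hM] at heq
    have hgn : g ∈ Subgroup.normalizer (L₀ : Set L) := by
      rw [Subgroup.mem_normalizer_iff]
      intro y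
      conv_lhs => rw [← heq]
      rw [Subgroup.mem_comap]
      simp only [MonoidHom.coe_coe, MulAut.conj_apply]
    rw [h4] at hgn
    exact hg hgn
  refine ⟨h1, h2, h3, h4, h5, ?_⟩
  intro hYc g hg
  apply le_antisymm
  · intro z hz
    rw [Subgroup.mem_inf] at hz ⊢
    obtain ⟨hzY, hzYg⟩ := hz
    refine ⟨hzY, ?_⟩
    -- z centralizes Y ⊔ Y^g = ⊤
    have hcent : Y ⊔ Y.map (MulAut.conj g).toMonoidHom ≤ Subgroup.centralizer ({z} : Set L) := by
      apply sup_le
      · intro y hy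
        rw [Subgroup.mem_centralizer_singleton_iff]
        have := hYc.is_comm.comm (⟨y, hy⟩ : Y) ⟨z, hzY⟩
        exact congrArg Subtype.val this
      · rintro _ ⟨y, hy, rfl⟩
        obtain ⟨w, hw, rfl⟩ := hzYg
        rw [Subgroup.mem_centralizer_singleton_iff]
        simp only [MulEquiv.coe_toMonoidHom, MulAut.conj_apply]
        have h := hYc.is_comm.comm (⟨y, hy⟩ : Y) ⟨w, hw⟩
        have h' : y * w = w * y := congrArg Subtype.val h
        have e1 : g * y * g⁻¹ * (g * w * g⁻¹) = g * (y * w) * g⁻¹ := by group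
        have e2 : g * w * g⁻¹ * (g * y * g⁻¹) = g * (w * y) * g⁻¹ := by group
        rw [e1, e2, h']
    rw [h5 g hg] at hcent
    rw [Subgroup.mem_center_iff]
    intro a
    have := hcent (Subgroup.mem_top a)
    rw [Subgroup.mem_centralizer_singleton_iff] at this
    exact this
  · intro z hz
    rw [Subgroup.mem_inf] at hz ⊢
    obtain ⟨hzY, hzZ⟩ := hz
    refine ⟨hzY, z, hzY, ?_⟩
    simp only [MulEquiv.coe_toMonoidHom, MulAut.conj_apply]
    rw [Subgroup.mem_center_iff] at hzZ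
    rw [hzZ g]; group

end Cfsg.Agent.S2835
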