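import Cfsg.Statements.S2836
import Cfsg.Agent.Lib.Helper17.CoatomQuot
import Cfsg.Agent.Lib.Helper17.SylowNormal
import Cfsg.Agent.Lib.Helper17.Conj
import Cfsg.Agent.Lib.Helper1.Cores
import Cfsg.Agent.Lib.Helper1.Frattini
import Cfsg.Agent.Lib.Helper1.ThreeSolvable
import Cfsg.Agent.Lib.Helper16.PCore

set_option autoImplicit false
open Cfsg

namespace Cfsg.Agent.S2836

open Cfsg.Agent.Lib.Helper17

section aux

variable {L : Type*} [Group L] [Finite L] {p : ℕ} [Fact p.Prime]

/-- A proper subgroup containing `Y` lies in `L₀`. -/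
theorem le_of_ne_top {L₀ Y : Subgroup L} (hL₀ : IsCoatom L₀) (hYL₀ : Y ≤ L₀)
    (hmin : IsMinimalOver Y) {X : Subgroup L} (hYX : Y ≤ X) (hX : X ≠ ⊤) : X ≤ L₀ := by
  obtain ⟨M, hM, hXM⟩ := (eq_top_or_exists_le_coatom X).resolve_left hX
  obtain ⟨M', _, huniq⟩ := hmin.2
  have h1 := huniq M ⟨hM, hYX.trans hXM⟩
  have h2 := huniq L₀ ⟨hL₀, hYL₀⟩
  rw [h1, ← h2] at hXM
  exact hXM

/-- A normal `p`-subgroup of `p'`-index is the unique Sylow `p`-subgroup and equals `O_p`. -/
theorem pclosed_of_normal_pgroup {X : Type*} [Group X] [Finite X] (R : Subgroup X) [hRn : R.Normal]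
    (hR : IsPGroup p ↥R) (hidx : ¬ p ∣ R.index) : IsPClosed p X ∧ pCore p X = R := by
  have hQ₀ : ((hR.toSylow hidx : Sylow p X) : Subgroup X) = R := rfl
  have huniq : ∀ P : Sylow p X, P = hR.toSylow hidx := by
    intro P
    haveI := Sylow.unique_of_normal (hR.toSylow hidx) (by rw [hQ₀]; exact hRn)
    exact Subsingleton.elim _ _
  refine ⟨?_, ?_⟩
  · intro P
    rw [huniq P, hQ₀]
    exact hRn
  · apply le_antisymm
    · obtain ⟨P, hP⟩ := (Cfsg.Agent.Lib.Helper1.pCore_isPGroup p (G := X)).exists_le_sylow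
      rw [huniq P] at hP
      exact hP
    · exact Cfsg.Agent.Lib.Helper16.le_pCore R hRn hR

end aux

/-- Let L be a finite group, L₀ a maximal subgroup, T a Sylow p-subgroup of L₀, Y ≤ T, and suppose L is Y-minimal. Let D be the intersection of the conjugates of L₀ (the core of L₀). Then D contains O_p(L) and D/O_p(L) is the Frattini subgroup of L/O_p(L), so D is p-closed; and every normal subgroup N of L contained in L₀ is p-closed with N/O_p(N) a nilpotent group of order prime to p. -/
theorem result {L : Type*} [Group L] [Finite L] {p : ℕ} [Fact p.Prime] (L₀ : Subgroup L) (hL₀ : IsCoatom L₀) (T : Sylow p ↥L₀) (Y : Subgroup L) (hYT : Y ≤ (T : Subgroup ↥L₀).map L₀.subtype) (hmin : Cfsg.IsMinimalOver Y) : (Cfsg.pCore p L ≤ L₀.normalCore ∧ (L₀.normalCore).map (QuotientGroup.mk' (Cfsg.pCore p L)) = frattini (L ⧸ Cfsg.pCore p L) ∧ Cfsg.IsPClosed p ↥(L₀.normalCore)) ∧ ∀ (N : Subgroup L) [N.Normal], N ≤ L₀ → Cfsg.IsPClosed p ↥N ∧ Group.IsNilpotent (↥N ⧸ Cfsg.pCore p ↥N) ∧ (Nat.card (↥N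 ⧸ Cfsg.pCore p ↥N)).Coprime p := by
  have hp : p.Prime := Fact.out
  have hYL₀ : Y ≤ L₀ := hYT.trans (Subgroup.map_subtype_le _)
  have hYp : IsPGroup p ↥Y := (T.2.map L₀.subtype).to_le hYT
  have hF2 : ∀ X : Subgroup L, Y ≤ X → X ≠ ⊤ → X ≤ L₀ :=
    fun X h1 h2 => le_of_ne_top hL₀ hYL₀ hmin h1 h2
  haveI hOn : (pCore p L).Normal := Cfsg.Agent.Lib.Helper1.pCore_normal p
  have hOp : IsPGroup p ↥(pCore p L) := Cfsg.Agent.Lib.Helper1.pCore_isPGroup p
  -- (1)
  have hOL₀ : pCore p L ≤ L₀ := by
    have hsup : IsPGroup p ↥(Y ⊔ pCore p L) := hYp.to_sup_of_normal_right' hOp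
      (by rw [Subgroup.normalizer_eq_top]; exact le_top)
    by_cases h : Y ⊔ pCore p L = ⊤
    · exfalso
      have hLp : IsPGroup p L := by
        rw [h] at hsup
        exact hsup.of_equiv Subgroup.topEquiv
      haveI : Group.IsNilpotent L := hLp.isNilpotent
      have hn : L₀.Normal := Subgroup.NormalizerCondition.normal_of_coatom L₀
        normalizerCondition_of_isNilpotent hL₀
      have h1 := Subgroup.normalClosure_le_normal (N := L₀) hYL₀
      rw [hmin.1] at h1
      exact hL₀.1 (top_le_iff.mp h1)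
    · exact le_sup_right.trans (hF2 _ le_sup_left h)
  have hOD : pCore p L ≤ L₀.normalCore := (Subgroup.normal_le_normalCore).mpr hOL₀
  have hDL₀ : L₀.normalCore ≤ L₀ := Subgroup.normalCore_le L₀
  -- the Sylow subgroup of `D`
  obtain ⟨S, hYS⟩ := hYp.exists_le_sylow
  have hQ := map_sylowInfNormal S L₀.normalCore
  have hFr := Sylow.normalizer_sup_eq_top (sylowInfNormal S L₀.normalCore)
  rw [hQ] at hFr
  have hSN : (S : Subgroup L) ≤ Subgroup.normalizer (((S : Subgroup L) ⊓ L₀.normalCore : Subgroup L) : Set L) := by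
    intro s hs
    apply mem_normalizer_inf (Subgroup.le_normalizer hs)
    rw [Subgroup.normalizer_eq_top]; trivial
  have hPn : ((S : Subgroup L) ⊓ L₀.normalCore).Normal := by
    rw [← Subgroup.normalizer_eq_top_iff]
    by_contra hne
    have h1 := hF2 _ (hYS.trans hSN) hne
    have h2 : (⊤ : Subgroup L) ≤ L₀ := by rw [← hFr]; exact sup_le h1 hDL₀
    exact hL₀.1 (top_le_iff.mp h2)
  have hPp : IsPGroup p ↥((S : Subgroup L) ⊓ L₀.normalCore) := S.2.to_le inf_le_left
  have hPO : (S : Subgroup L) ⊓ L₀.normalCore = pCore p L := by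
    apply le_antisymm
    · exact Cfsg.Agent.Lib.Helper16.le_pCore _ hPn hPp
    · exact le_inf (Cfsg.Agent.Lib.Helper1.pCore_le_sylow S) hOD
  -- index of `O_p(L)` in `D`
  have hidxD : ¬ p ∣ (pCore p L).relIndex L₀.normalCore := by
    have h1 := (sylowInfNormal S L₀.normalCore).not_dvd_index
    rw [coe_sylowInfNormal] at h1
    have h2 : ((S : Subgroup L).subgroupOf L₀.normalCore).index =
        ((S : Subgroup L) ⊓ L₀.normalCore).relIndex L₀.normalCore := by
      rw [Subgroup.relIndex, Subgroup.inf_subgroupOf_right]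
    rw [h2, hPO] at h1
    exact h1
  -- (3)
  have hDclosed : IsPClosed p ↥(L₀.normalCore) := by
    haveI : ((pCore p L).subgroupOf L₀.normalCore).Normal := Subgroup.Normal.subgroupOf hOn _
    exact (pclosed_of_normal_pgroup ((pCore p L).subgroupOf L₀.normalCore)
      (hOp.comap_subtype) hidxD).1
  -- the quotient
  have hπ : Function.Surjective (QuotientGroup.mk' (pCore p L)) := QuotientGroup.mk'_surjective _
  have hker : (QuotientGroup.mk' (pCore p L)).ker = pCore p L := QuotientGroup.ker_mk' _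
  have hΦeq : (L₀.normalCore).map (QuotientGroup.mk' (pCore p L)) = frattini (L ⧸ pCore p L) := by
    apply le_antisymm
    · rw [Cfsg.Agent.Lib.Helper1.le_frattini_iff]
      intro Mbar hMbar
      rw [Subgroup.map_le_iff_le_comap]
      have hM := isCoatom_comap_of_surjective hπ hMbar
      have hOM : pCore p L ≤ Mbar.comap (QuotientGroup.mk' (pCore p L)) := by
        have := Subgroup.ker_le_comap (QuotientGroup.mk' (pCore p L)) Mbar
        rwa [hker] at this
      by_contra hnot
      have hsup : Mbar.comap (QuotientGroup.mk' (pCore p L)) ⊔ L₀.normalCore = ⊤ := by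
        apply hM.2
        refine lt_of_le_of_ne le_sup_left ?_
        intro h
        apply hnot
        rw [h]
        exact le_sup_right
      have hidx : ¬ p ∣ (Mbar.comap (QuotientGroup.mk' (pCore p L))).index := by
        rw [index_eq_relIndex_of_sup_eq_top hsup]
        intro hdvd
        apply hidxD
        exact hdvd.trans (Subgroup.relIndex_dvd_of_le_left _ (le_inf hOM hOD))
      obtain ⟨g, hg⟩ := Cfsg.Agent.Lib.Helper1.exists_conj_mem_of_isPGroup_of_not_dvd_index
        Y _ hYp hidx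
      have hYM : Y ≤ (Mbar.comap (QuotientGroup.mk' (pCore p L))).map (MulAut.conj g).toMonoidHom := by
        intro y hy
        rw [mem_map_conj]
        exact hg y hy
      have hne : (Mbar.comap (QuotientGroup.mk' (pCore p L))).map (MulAut.conj g).toMonoidHom ≠ ⊤ := by
        intro h
        apply hM.1
        have h2 := congrArg (Subgroup.map (MulAut.conj g⁻¹).toMonoidHom) h
        rw [Subgroup.map_map] at h2
        have e : (MulAut.conj g⁻¹).toMonoidHom.comp (MulAut.conj g).toMonoidHom = MonoidHom.id L := by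
          ext x; simp [MulAut.conj_apply, mul_assoc]
        rw [e, Subgroup.map_id] at h2
        rw [h2, ← MonoidHom.range_eq_map, MonoidHom.range_eq_top]
        exact (MulAut.conj g⁻¹).surjective
      have h3 := hF2 _ hYM hne
      have h4 : (L₀.normalCore).map (MulAut.conj g).toMonoidHom ≤ L₀ := by
        rintro _ ⟨d, hd, rfl⟩
        exact hDL₀ ((Subgroup.normalCore_normal L₀).conj_mem d hd g)
      have h5 := congrArg (Subgroup.map (MulAut.conj g).toMonoidHom) hsup
      rw [Subgroup.map_sup, ← MonoidHom.range_eq_map,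
        MonoidHom.range_eq_top.mpr (MulAut.conj g).surjective] at h5
      have h6 : (⊤ : Subgroup L) ≤ L₀ := by rw [← h5]; exact sup_le h3 h4
      exact hL₀.1 (top_le_iff.mp h6)
    · intro xbar hx
      obtain ⟨x, rfl⟩ := hπ xbar
      refine ⟨x, ?_, rfl⟩
      intro b
      have hco : IsCoatom (L₀.map (QuotientGroup.mk' (pCore p L))) :=
        isCoatom_map_of_ker_le hπ hL₀ (by rw [hker]; exact hOL₀)
      haveI : (frattini (L ⧸ pCore p L)).Normal := by
        haveI := frattini_characteristic (G := L ⧸ pCore p L)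
        infer_instance
      have h1 : (QuotientGroup.mk' (pCore p L)) (b * x * b⁻¹) ∈ frattini (L ⧸ pCore p L) := by
        rw [map_mul, map_mul, map_inv]
        exact Subgroup.Normal.conj_mem inferInstance _ hx _
      have h2 := frattini_le_coatom hco h1
      obtain ⟨l, hl, hlx⟩ := h2
      have h3 : l⁻¹ * (b * x * b⁻¹) ∈ pCore p L := by
        rw [← hker, MonoidHom.mem_ker, map_mul, map_inv, hlx, inv_mul_cancel]
      have h4 : b * x * b⁻¹ = l * (l⁻¹ * (b * x * b⁻¹)) := by group
      rw [h4]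
      exact L₀.mul_mem hl (hOL₀ h3)
  refine ⟨⟨hOD, hΦeq, hDclosed⟩, ?_⟩
  -- (4)
  intro N hNn hNL₀
  have hND : N ≤ L₀.normalCore := (Subgroup.normal_le_normalCore).mpr hNL₀
  haveI hRn : ((pCore p L).subgroupOf N).Normal := Subgroup.Normal.subgroupOf hOn _
  have hidxN : ¬ p ∣ ((pCore p L).subgroupOf N).index := by
    intro hdvd
    apply hidxD
    have h1 : ((pCore p L).subgroupOf N).index = (pCore p L).relIndex (N ⊔ pCore p L) := by
      rw [Subgroup.relIndex_sup_right]; rfl
    rw [h1] at hdvd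
    have h2 := Subgroup.relIndex_mul_relIndex (pCore p L) (N ⊔ pCore p L) L₀.normalCore
      le_sup_right (sup_le hND hOD)
    rw [← h2]
    exact Dvd.dvd.mul_right hdvd _
  obtain ⟨hNclosed, hNcore⟩ := pclosed_of_normal_pgroup ((pCore p L).subgroupOf N)
    (hOp.comap_subtype) hidxN
  refine ⟨hNclosed, ?_, ?_⟩
  · -- nilpotent quotient
    let f : ↥N →* L ⧸ pCore p L := (QuotientGroup.mk' (pCore p L)).comp N.subtype
    have hfker : f.ker = pCore p ↥N := by
      rw [hNcore]
      ext x
      rw [MonoidHom.mem_ker, Subgroup.mem_subgroupOf]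
      show (QuotientGroup.mk' (pCore p L)) (x : L) = 1 ↔ _
      rw [← MonoidHom.mem_ker, hker]
    have hrange : f.range ≤ frattini (L ⧸ pCore p L) := by
      rintro _ ⟨x, rfl⟩
      rw [← hΦeq]
      exact ⟨x, hND x.2, rfl⟩
    haveI hnilΦ : Group.IsNilpotent ↥(frattini (L ⧸ pCore p L)) := frattini_nilpotent
    have hnil1 : Group.IsNilpotent ↥(f.range.subgroupOf (frattini (L ⧸ pCore p L))) := inferInstance
    have hnil2 : Group.IsNilpotent ↥f.range :=
      (Group.isNilpotent_congr (Subgroup.subgroupOfEquivOfLe hrange)).mp hnil1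
    have e1 : ↥N ⧸ f.ker ≃* ↥f.range := QuotientGroup.quotientKerEquivRange f
    have e2 : ↥N ⧸ f.ker ≃* ↥N ⧸ pCore p ↥N := QuotientGroup.quotientMulEquivOfEq hfker
    exact (Group.isNilpotent_congr (e2.symm.trans e1)).mpr hnil2
  · rw [← Subgroup.index_eq_card, hNcore, Nat.coprime_comm, Nat.Prime.coprime_iff_not_dvd hp]
    exact hidxN

end Cfsg.Agent.S2836
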