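import Cfsg.Statements.S2837
import Cfsg.Agent.S2835
import Cfsg.Agent.Lib.Helper17.ClassTwo
import Cfsg.Agent.Lib.Helper17.GfsAction3
import Cfsg.Agent.Lib.Helper17.Conj
import Cfsg.Agent.Lib.Helper1.Cores
import Cfsg.Agent.Lib.Helper1.Coprime
import Cfsg.Agent.Lib.Helper1.Frattini
import Cfsg.Agent.Lib.Helper9.Misc

set_option autoImplicit false
open Cfsg

namespace Cfsg.Agent.S2837

open Cfsg.Agent.Lib.Helper17
open scoped commutatorElement

section aux

variable {L : Type*} [Group L]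

/-- The core computation, with `Yg` an abstract second subgroup. -/
theorem core {p : ℕ} [Fact p.Prime] [Finite L] (Q Y Yg : Subgroup L) [hQn : Q.Normal]
    (hQp : IsPGroup p ↥Q)
    (hZQ : Subgroup.center L ≤ Q)
    (hYc : ∀ a ∈ Y, ∀ b ∈ Y, a * b = b * a) (hYgc : ∀ a ∈ Yg, ∀ b ∈ Yg, a * b = b * a)
    (hYe : ∀ a ∈ Y, a ^ p = 1) (hYge : ∀ a ∈ Yg, a ^ p = 1)
    (hQY : Q ≤ Subgroup.normalizer (Y : Set L)) (hQYg : Q ≤ Subgroup.normalizer (Yg : Set L))
    (hgen : Y ⊔ Yg = ⊤) (hint : Y ⊓ Yg = Y ⊓ Subgroup.center L)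
    (hintg : Y ⊓ Yg = Yg ⊓ Subgroup.center L)
    (A : Subgroup L) (hA1 : Q ⊓ Y ≤ A) (hA2 : Q ⊓ Yg ≤ A)
    (hA3 : ∀ N : Subgroup L, N.Normal → Q ⊓ Y ≤ N → A ≤ N) :
    (frattini ↥A).map A.subtype = ⁅A, A⁆ ∧ ⁅A, A⁆ = ⁅A ⊓ Y, A⁆ ∧
      ⁅A ⊓ Y, A⁆ = ⁅A ⊓ Y, A ⊓ Yg⁆ ∧ ⁅A ⊓ Y, A⁆ ≤ Y ⊓ Subgroup.center L ∧
      (A ⊓ Y) ⊓ (A ⊓ Yg) = Y ⊓ Subgroup.center L ∧
      A ⊓ Subgroup.center L = Y ⊓ Subgroup.center L := by
  have hp : p.Prime := Fact.out
  have hQtop : ∀ X : Subgroup L, X ≤ Subgroup.normalizer (Q : Set L) := fun X => by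
    rw [Subgroup.normalizer_eq_top]; exact le_top
  -- basic commutator facts
  have f2 : ⁅Q, Y⁆ ≤ Q ⊓ Y := by
    refine le_inf (Cfsg.Agent.Lib.Helper1.commutator_le_of_le_normalizer (hQtop Y)) ?_
    rw [Subgroup.commutator_comm]
    exact Cfsg.Agent.Lib.Helper1.commutator_le_of_le_normalizer hQY
  have f3 : ⁅Q, Yg⁆ ≤ Q ⊓ Yg := by
    refine le_inf (Cfsg.Agent.Lib.Helper1.commutator_le_of_le_normalizer (hQtop Yg)) ?_
    rw [Subgroup.commutator_comm]
    exact Cfsg.Agent.Lib.Helper1.commutator_le_of_le_normalizer hQYg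
  have f5 : Y ⊓ Subgroup.center L ≤ (Q ⊓ Y) ⊓ (Q ⊓ Yg) := by
    refine le_inf (le_inf (inf_le_right.trans hZQ) inf_le_left) (le_inf (inf_le_right.trans hZQ) ?_)
    rw [← hint]; exact inf_le_right
  have f6 : (Q ⊓ Y) ⊓ (Q ⊓ Yg) = Y ⊓ Subgroup.center L := by
    apply le_antisymm _ f5
    rw [← hint]
    exact inf_le_inf inf_le_right inf_le_right
  have f11 : ⁅Q ⊓ Y, Q ⊓ Yg⁆ ≤ Y ⊓ Subgroup.center L := by
    rw [← f6]
    refine le_inf ?_ ?_
    · rw [Subgroup.commutator_comm]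
      exact (Subgroup.commutator_mono inf_le_left inf_le_right).trans f2
    · exact (Subgroup.commutator_mono inf_le_left inf_le_right).trans f3
  have hZ₀c : Y ⊓ Subgroup.center L ≤ Subgroup.center L := inf_le_right
  -- `V ⊔ Vg` is normal
  have hYW : Y ≤ Subgroup.normalizer (((Q ⊓ Y) ⊔ (Q ⊓ Yg) : Subgroup L) : Set L) := by
    intro y hy
    apply mem_normalizer_of_map_conj_le
    rw [Subgroup.map_sup]
    apply sup_le
    · refine le_trans ?_ le_sup_left
      rintro _ ⟨v, hv, rfl⟩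
      have e : (MulAut.conj y).toMonoidHom v = v := by
        simp only [MulEquiv.coe_toMonoidHom, MulAut.conj_apply]
        rw [hYc y hy v hv.2]; group
      rw [e]; exact hv
    · rintro _ ⟨w, hw, rfl⟩
      have e : (MulAut.conj y).toMonoidHom w = ⁅y, w⁆ * w := by
        simp only [MulEquiv.coe_toMonoidHom, MulAut.conj_apply]
        rw [commutatorElement_def]; group
      rw [e]
      refine Subgroup.mul_mem _ (Subgroup.mem_sup_left (f2 ?_)) (Subgroup.mem_sup_right hw)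
      rw [Subgroup.commutator_comm]
      exact Subgroup.commutator_mem_commutator hy hw.1
  have hYgW : Yg ≤ Subgroup.normalizer (((Q ⊓ Y) ⊔ (Q ⊓ Yg) : Subgroup L) : Set L) := by
    intro y hy
    apply mem_normalizer_of_map_conj_le
    rw [Subgroup.map_sup]
    apply sup_le
    · rintro _ ⟨w, hw, rfl⟩
      have e : (MulAut.conj y).toMonoidHom w = ⁅y, w⁆ * w := by
        simp only [MulEquiv.coe_toMonoidHom, MulAut.conj_apply]
        rw [commutatorElement_def]; group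
      rw [e]
      refine Subgroup.mul_mem _ (Subgroup.mem_sup_right (f3 ?_)) (Subgroup.mem_sup_left hw)
      rw [Subgroup.commutator_comm]
      exact Subgroup.commutator_mem_commutator hy hw.1
    · refine le_trans ?_ le_sup_right
      rintro _ ⟨v, hv, rfl⟩
      have e : (MulAut.conj y).toMonoidHom v = v := by
        simp only [MulEquiv.coe_toMonoidHom, MulAut.conj_apply]
        rw [hYgc y hy v hv.2]; group
      rw [e]; exact hv
  have hWn : ((Q ⊓ Y) ⊔ (Q ⊓ Yg)).Normal :=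
    normal_of_le_normalizer_of_sup_eq_top hYW hYgW hgen
  have hAW : A = (Q ⊓ Y) ⊔ (Q ⊓ Yg) :=
    le_antisymm (hA3 _ hWn le_sup_left) (sup_le hA1 hA2)
  have hAQ : A ≤ Q := by rw [hAW]; exact sup_le inf_le_left inf_le_left
  -- decomposition of elements
  have hVgV : Q ⊓ Yg ≤ Subgroup.normalizer ((Q ⊓ Y : Subgroup L) : Set L) := by
    apply Cfsg.Agent.Lib.Helper1.le_normalizer_of_forall_conj_mem
    intro w hw v hv
    have e : w * v * w⁻¹ = ⁅w, v⁆ * v := by rw [commutatorElement_def]; group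
    rw [e]
    refine Subgroup.mul_mem _ ?_ hv
    have h1 : ⁅w, v⁆ ∈ ⁅Q ⊓ Y, Q ⊓ Yg⁆ := by
      rw [Subgroup.commutator_comm]
      exact Subgroup.commutator_mem_commutator hw hv
    exact (f5 (f11 h1)).1
  have hdecomp : ∀ a ∈ A, ∃ v ∈ Q ⊓ Y, ∃ w ∈ Q ⊓ Yg, v * w = a := by
    intro a ha
    rw [hAW] at ha
    exact (Cfsg.Agent.Lib.Helper9.mem_sup_of_le_normalizer hVgV).mp ha
  have f14 : A ⊓ Y = Q ⊓ Y := by
    apply le_antisymm
    · rintro a ⟨haA, haY⟩
      obtain ⟨v, hv, w, hw, rfl⟩ := hdecomp a haA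
      have hwY : w ∈ Y := by
        have : w = v⁻¹ * (v * w) := by group
        rw [this]
        exact Y.mul_mem (Y.inv_mem hv.2) haY
      have hw2 : w ∈ Y ⊓ Yg := ⟨hwY, hw.2⟩
      rw [hint] at hw2
      exact Subgroup.mul_mem _ hv (f5 hw2).1
    · exact le_inf hA1 inf_le_right
  have f15 : A ⊓ Yg = Q ⊓ Yg := by
    apply le_antisymm
    · rintro a ⟨haA, haY⟩
      obtain ⟨v, hv, w, hw, rfl⟩ := hdecomp a haA
      have hvY : v ∈ Yg := by
        have : v = (v * w) * w⁻¹ := by group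
        rw [this]
        exact Yg.mul_mem haY (Yg.inv_mem hw.2)
      have hv2 : v ∈ Y ⊓ Yg := ⟨hv.2, hvY⟩
      rw [hint] at hv2
      exact Subgroup.mul_mem _ (f5 hv2).2 hw
    · exact le_inf hA2 inf_le_right
  -- commutator of `A`
  have hVV : ⁅Q ⊓ Y, Q ⊓ Y⁆ = ⊥ := by
    rw [Subgroup.commutator_eq_bot_iff_le_centralizer]
    intro a ha
    rw [Subgroup.mem_centralizer_iff]
    intro b hb
    exact hYc b hb.2 a ha.2
  have hVgVg : ⁅Q ⊓ Yg, Q ⊓ Yg⁆ = ⊥ := by
    rw [Subgroup.commutator_eq_bot_iff_le_centralizer]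
    intro a ha
    rw [Subgroup.mem_centralizer_iff]
    intro b hb
    exact hYgc b hb.2 a ha.2
  have hCc : ⁅Q ⊓ Y, Q ⊓ Yg⁆ ≤ Subgroup.center L := f11.trans hZ₀c
  haveI hCn : (⁅Q ⊓ Y, Q ⊓ Yg⁆ : Subgroup L).Normal := by
    constructor
    intro n hn g
    have := Subgroup.mem_center_iff.mp (hCc hn) g
    have e : g * n * g⁻¹ = n := by rw [this]; group
    rw [e]; exact hn
  have f16 : ⁅A, A⁆ = ⁅Q ⊓ Y, Q ⊓ Yg⁆ := by
    apply le_antisymm
    · rw [hAW]
      apply commutator_sup_sup_le_of_normal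
      · rw [hVV]; exact bot_le
      · exact le_rfl
      · rw [Subgroup.commutator_comm]
      · rw [hVgVg]; exact bot_le
    · exact Subgroup.commutator_mono hA1 hA2
  have f17 : ⁅A ⊓ Y, A⁆ = ⁅Q ⊓ Y, Q ⊓ Yg⁆ := by
    rw [f14]
    apply le_antisymm
    · rw [← f16]; exact Subgroup.commutator_mono hA1 le_rfl
    · exact Subgroup.commutator_mono le_rfl hA2
  refine ⟨?_, ?_, ?_, ?_, ?_, ?_⟩
  · -- Frattini
    have hAp : IsPGroup p ↥A := hQp.to_le hAQ
    apply le_antisymm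
    · have hpow : ∀ x : ↥A, x ^ p ∈ commutator ↥A := by
        rintro ⟨a, ha⟩
        obtain ⟨v, hv, w, hw, rfl⟩ := hdecomp a ha
        have hc : w⁻¹ * v⁻¹ * w * v ∈ ⁅Q ⊓ Y, Q ⊓ Yg⁆ := by
          have e : w⁻¹ * v⁻¹ * w * v = ⁅w⁻¹, v⁻¹⁆ := by rw [commutatorElement_def]; group
          rw [e, Subgroup.commutator_comm]
          exact Subgroup.commutator_mem_commutator (Subgroup.inv_mem _ hw) (Subgroup.inv_mem _ hv)
        have hcz := Subgroup.mem_center_iff.mp (hCc hc)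
        obtain ⟨m, hm⟩ := exists_pow_mul_eq v w (hcz v).symm (hcz w).symm p
        have h1 : (v * w) ^ p ∈ ⁅A, A⁆ := by
          rw [hm, hYe v hv.2, hYge w hw.2, one_mul, one_mul, f16]
          exact Subgroup.pow_mem _ hc m
        rw [← Subgroup.map_subtype_commutator] at h1
        obtain ⟨z, hz, hzx⟩ := h1
        have : z = (⟨v * w, ha⟩ : ↥A) ^ p := Subtype.ext (by
          have : (z : L) = (v * w) ^ p := hzx
          rw [this]; rfl)
        rw [← this]
        exact hz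
      have h2 := Cfsg.Agent.Lib.Helper1.frattini_le_of_commutator_le_of_pow_mem (p := p)
        (commutator ↥A) le_rfl hpow
      have h3 := Subgroup.map_mono (f := A.subtype) h2
      rwa [Subgroup.map_subtype_commutator] at h3
    · have h2 := Cfsg.Agent.Lib.Helper1.IsPGroup.commutator_le_frattini hAp
      have h3 := Subgroup.map_mono (f := A.subtype) h2
      rwa [Subgroup.map_subtype_commutator] at h3
  · rw [f17, f16]
  · rw [f17, f14, f15]
  · rw [f17]; exact f11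
  · rw [f14, f15]; exact f6
  · apply le_antisymm
    · rintro a ⟨haA, haZ⟩
      obtain ⟨v, hv, w, hw, rfl⟩ := hdecomp a haA
      have haz := Subgroup.mem_center_iff.mp haZ
      -- `w` is central
      have hwc : w ∈ Subgroup.center L := by
        have hwY : w ∈ Subgroup.centralizer (Y : Set L) := by
          rw [Subgroup.mem_centralizer_iff]
          intro y hy
          have e1 : w = v⁻¹ * (v * w) := by group
          have h1 := hYc y hy v⁻¹ (Y.inv_mem hv.2)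
          have h2 := haz y
          calc y * w = y * (v⁻¹ * (v * w)) := by rw [← e1]
            _ = (y * v⁻¹) * (v * w) := by group
            _ = (v⁻¹ * y) * (v * w) := by rw [h1]
            _ = v⁻¹ * (y * (v * w)) := by group
            _ = v⁻¹ * ((v * w) * y) := by rw [h2]
            _ = w * y := by group
        have hwYg : w ∈ Subgroup.centralizer (Yg : Set L) := by
          rw [Subgroup.mem_centralizer_iff]
          intro y hy
          exact hYgc y hy w hw.2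
        have h3 : w ∈ Subgroup.centralizer ((Y ⊔ Yg : Subgroup L) : Set L) := by
          rw [centralizer_sup_eq]; exact ⟨hwY, hwYg⟩
        rw [hgen] at h3
        rw [Subgroup.mem_center_iff]
        intro g
        exact Subgroup.mem_centralizer_iff.mp h3 g (Subgroup.mem_top g)
      have hvc : v ∈ Subgroup.center L := by
        have : v = (v * w) * w⁻¹ := by group
        rw [this]
        exact Subgroup.mul_mem _ haZ (Subgroup.inv_mem _ hwc)
      have hw2 : w ∈ Y ⊓ Subgroup.center L := by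
        rw [← hint, hintg]; exact ⟨hw.2, hwc⟩
      have hv2 : v ∈ Y ⊓ Subgroup.center L := ⟨hv.2, hvc⟩
      exact Subgroup.mul_mem _ hv2 hw2
    · exact le_inf ((f5.trans inf_le_left).trans hA1) inf_le_right

end aux

/-- Let L be a finite group of characteristic p, L₀ a maximal subgroup, Y an elementary abelian p-subgroup of L₀ with L Y-minimal and O_p(L) ≤ N_L(Y). Put A = the normal closure of O_p(L) ∩ Y in L. Then for every g ∈ L outside L₀: Φ(A) = A' = [A ∩ Y, A] = [A ∩ Y, A ∩ gYg⁻¹] ≤ C_Y(L), and Y ∩ gYg⁻¹ = (A ∩ Y) ∩ (A ∩ gYg⁻¹) = C_Y(L) = C_A(L). -/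
theorem result {L : Type*} [Group L] [Finite L] {p : ℕ} [Fact p.Prime] (hchar : Subgroup.centralizer (Cfsg.pCore p L : Set L) ≤ Cfsg.pCore p L) (L₀ : Subgroup L) (hL₀ : IsCoatom L₀) (Y : Subgroup L) (hYL₀ : Y ≤ L₀) (hYel : Cfsg.IsElementaryAbelian p Y) (hmin : Cfsg.IsMinimalOver Y) (hOY : Cfsg.pCore p L ≤ Subgroup.normalizer (Y : Set L)) (A : Subgroup L) (hA : A = Subgroup.normalClosure (((Cfsg.pCore p L ⊓ Y : Subgroup L)) : Set L)) (g : L) (hg : g ∉ L₀) : (frattini ↥A).map A.subtype = ⁅A, A⁆ ∧ ⁅A, A⁆ = ⁅A ⊓ Y, A⁆ ∧ ⁅A ⊓ Y, A⁆ = ⁅A ⊓ Y, A ⊓ Y.map (MulAut.conj g).toMonoidHom⁆ ∧ ⁅A ⊓ Y, A⁆ ≤ Y ⊓ Subgroup.center L ∧ Y ⊓ Y.map (MulAut.conj g).toMonoidHom = Y ⊓ Subgroup.center L ∧ (A ⊓ Y) ⊓ (A ⊓ Y.map (MulAut.conj g).toMonoidHom) = Y ⊓ Subgroup.center L ∧ A ⊓ Subgroup.center L = Y ⊓ Subgroup.center L := by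
  have hp : p.Prime := Fact.out
  haveI hQn : (pCore p L).Normal := Cfsg.Agent.Lib.Helper1.pCore_normal p
  have hQp : IsPGroup p ↥(pCore p L) := Cfsg.Agent.Lib.Helper1.pCore_isPGroup p
  obtain ⟨hYc, hYexp⟩ := hYel
  have hYc' : ∀ a ∈ Y, ∀ b ∈ Y, a * b = b * a := by
    intro a ha b hb
    exact congrArg Subtype.val (mul_comm' (⟨a, ha⟩ : ↥Y) ⟨b, hb⟩)
  have hYp : IsPGroup p ↥Y := by
    intro y
    refine ⟨1, ?_⟩
    rw [pow_one]
    apply Subtype.ext
    have := hYexp y y.2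
    simpa using this
  obtain ⟨T, hT⟩ := (hYp.comap_subtype (K := L₀)).exists_le_sylow
  have hYT : Y ≤ (T : Subgroup ↥L₀).map L₀.subtype := by
    intro y hy
    exact ⟨⟨y, hYL₀ hy⟩, hT (Subgroup.mem_subgroupOf.mpr hy), rfl⟩
  obtain ⟨-, -, -, -, hgen, hint⟩ := Cfsg.Agent.S2835.result L₀ hL₀ T Y hYT hmin
  have hgen' := hgen g hg
  have hint' := hint hYc g hg
  -- properties of the conjugate
  have hYgc : ∀ a ∈ Y.map (MulAut.conj g).toMonoidHom, ∀ b ∈ Y.map (MulAut.conj g).toMonoidHom,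
      a * b = b * a := by
    rintro _ ⟨a, ha, rfl⟩ _ ⟨b, hb, rfl⟩
    rw [← map_mul, ← map_mul, hYc' a ha b hb]
  have hYge : ∀ a ∈ Y.map (MulAut.conj g).toMonoidHom, a ^ p = 1 := by
    rintro _ ⟨a, ha, rfl⟩
    rw [← map_pow, hYexp a ha, map_one]
  have hQYg : pCore p L ≤ Subgroup.normalizer ((Y.map (MulAut.conj g).toMonoidHom : Subgroup L) : Set L) := by
    intro q hq
    have hq' : g⁻¹ * q * g ∈ pCore p L := by
      have := hQn.conj_mem q hq g⁻¹
      simpa using this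
    have h1 := hOY hq'
    apply mem_normalizer_of_map_conj_eq
    have h2 := map_conj_eq_of_mem_normalizer h1
    have e : (MulAut.conj q).toMonoidHom.comp (MulAut.conj g).toMonoidHom =
        (MulAut.conj g).toMonoidHom.comp (MulAut.conj (g⁻¹ * q * g)).toMonoidHom := by
      ext x
      simp only [MonoidHom.comp_apply, MulEquiv.coe_toMonoidHom, MulAut.conj_apply]
      group
    rw [Subgroup.map_map, e, ← Subgroup.map_map, h2]
  have hZQ : Subgroup.center L ≤ pCore p L :=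
    (Subgroup.center_le_centralizer _).trans hchar
  have hintg : Y ⊓ Y.map (MulAut.conj g).toMonoidHom =
      Y.map (MulAut.conj g).toMonoidHom ⊓ Subgroup.center L := by
    apply le_antisymm
    · rw [hint']
      refine le_inf ?_ inf_le_right
      rw [← hint']; exact inf_le_right
    · rintro x ⟨⟨y, hy, rfl⟩, hxc⟩
      have hz := Subgroup.mem_center_iff.mp hxc
      have e : (MulAut.conj g).toMonoidHom y = y := by
        simp only [MulEquiv.coe_toMonoidHom, MulAut.conj_apply] at hz ⊢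
        have h1 := hz g
        calc g * y * g⁻¹ = g⁻¹ * (g * (g * y * g⁻¹)) := by group
          _ = g⁻¹ * ((g * y * g⁻¹) * g) := by rw [h1]
          _ = y := by group
      rw [e]
      refine ⟨hy, ?_⟩
      rw [← e]
      exact ⟨y, hy, rfl⟩
  have hA1 : pCore p L ⊓ Y ≤ A := by
    rw [hA]; exact Subgroup.le_normalClosure
  haveI hAn : A.Normal := by rw [hA]; exact Subgroup.normalClosure_normal
  have hA2 : pCore p L ⊓ Y.map (MulAut.conj g).toMonoidHom ≤ A := by
    rintro x ⟨hxQ, y, hy, rfl⟩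
    have hyQ : y ∈ pCore p L := by
      have := hQn.conj_mem _ hxQ g⁻¹
      simpa [MulAut.conj_apply, mul_assoc] using this
    exact hAn.conj_mem y (hA1 ⟨hyQ, hy⟩) g
  have hA3 : ∀ N : Subgroup L, N.Normal → pCore p L ⊓ Y ≤ N → A ≤ N := by
    intro N hN hle
    rw [hA]
    exact Subgroup.normalClosure_le_normal hle
  obtain ⟨h1, h2, h3, h4, h5, h6⟩ := core (pCore p L) Y (Y.map (MulAut.conj g).toMonoidHom) hQp hZQ
    hYc' hYgc hYexp hYge hOY hQYg hgen' hint' hintg A hA1 hA2 hA3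
  exact ⟨h1, h2, h3, h4, hint', h5, h6⟩

end Cfsg.Agent.S2837
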