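import Cfsg.Statements.S2839
import Cfsg.Agent.Lib.Helper17.WeaklyClosed
import Cfsg.Agent.Lib.Helper17.SylowNormal
import Cfsg.Agent.Lib.Helper17.PResidual

set_option autoImplicit false
open Cfsg

namespace Cfsg.Agent.S2839

open Cfsg.Agent.Lib.Helper17
open Cfsg.Agent.Lib.Helper9

theorem subgroupOf_map_conj {G : Type*} [Group G] (Q K : Subgroup G) (k : K) :
    (Q.subgroupOf K).map (MulAut.conj k).toMonoidHom =
      (Q.map (MulAut.conj (k : G)).toMonoidHom).subgroupOf K := by
  ext x
  rw [mem_conjMap, Subgroup.mem_subgroupOf, Subgroup.mem_subgroupOf, mem_conjMap]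
  simp

theorem map_conj_map {G G' : Type*} [Group G] [Group G'] (f : G →* G') (g : G) (Q : Subgroup G) :
    (Q.map (MulAut.conj g).toMonoidHom).map f = (Q.map f).map (MulAut.conj (f g)).toMonoidHom := by
  rw [Subgroup.map_map, Subgroup.map_map]
  congr 1
  ext x
  simp [map_mul, map_inv]

/-- Let Q be a nontrivial p-subgroup of the finite group H that is a weakly closed subgroup, K a subgroup containing Q and N a normal subgroup of H. Then Q is a weakly closed subgroup of K; every H-conjugate of Q contained in K is a K-conjugate of Q; N_K(Q) contains a Sylow p-subgroup of K; N = N_N(Q)·O^p(N); and QN/N is a weakly closed subgroup of H/N. -/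
theorem result {H : Type*} [Group H] [Finite H] {p : ℕ} [Fact p.Prime] (Q : Subgroup H) (hQp : IsPGroup p ↥Q) (hQ1 : Q ≠ ⊥) (hwc : Cfsg.IsWeaklyClosedSubgroup p Q) (K : Subgroup H) (hQK : Q ≤ K) (N' : Subgroup H) [N'.Normal] : Cfsg.IsWeaklyClosedSubgroup p (Q.subgroupOf K) ∧ (∀ g : H, ((Q : Subgroup H).map (MulAut.conj (g : H)).toMonoidHom) ≤ K → ∃ k ∈ K, ((Q : Subgroup H).map (MulAut.conj (g : H)).toMonoidHom) = ((Q : Subgroup H).map (MulAut.conj (k : H)).toMonoidHom)) ∧ Cfsg.IsParabolic p ((Subgroup.normalizer ((Q : Subgroup H) : Set H)).subgroupOf K) ∧ (N' ⊓ Subgroup.normalizer ((Q : Subgroup H) : Set H)) ⊔ (Cfsg.pResidual p ↥N').map N'.subtype = N' ∧ Cfsg.IsWeaklyClosedSubgroup p (Q.map (QuotientGroup.mk' N')) := by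
  obtain ⟨T, hW⟩ := hwc
  -- a Sylow of K containing Q ∩ K and a Sylow of H above it
  obtain ⟨TK, hTK⟩ := (hQp.comap_subtype (K := K)).exists_le_sylow
  have hTK : Q.subgroupOf K ≤ (TK : Subgroup K) := hTK
  obtain ⟨T', hT'⟩ := (TK.2.map K.subtype).exists_le_sylow
  have hQT' : Q ≤ (T' : Subgroup H) := by
    intro q hq
    apply hT'
    exact ⟨⟨q, hQK hq⟩, hTK (by rw [Subgroup.mem_subgroupOf]; exact hq), rfl⟩
  have hW' := IsWeaklyClosed.of_sylow_ge hW T' hQT'
  refine ⟨?_, ?_, ?_, ?_, ?_⟩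
  · refine ⟨TK, hTK, ?_⟩
    intro k hk
    rw [subgroupOf_map_conj] at hk ⊢
    have h1 : Q.map (MulAut.conj (k : H)).toMonoidHom ≤ (T' : Subgroup H) := by
      rintro _ ⟨q, hq, rfl⟩
      apply hT'
      have hmem : (k : H) * q * (k : H)⁻¹ ∈ K := K.mul_mem (K.mul_mem k.2 (hQK hq)) (K.inv_mem k.2)
      refine ⟨⟨(k : H) * q * (k : H)⁻¹, hmem⟩, hk ?_, rfl⟩
      rw [Subgroup.mem_subgroupOf]
      exact ⟨q, hq, rfl⟩
    rw [hW'.2 _ h1]
  · intro g hg
    obtain ⟨k, hk, hkeq⟩ := weaklyClosed_conj_in_subgroup T Q hW K hQK g hg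
    exact ⟨k, hk, hkeq.symm⟩
  · refine ⟨TK, ?_⟩
    intro t ht
    rw [Subgroup.mem_subgroupOf]
    exact IsWeaklyClosed.sylow_le_normalizer hW' (hT' ⟨t, ht, rfl⟩)
  · apply le_antisymm
    · apply sup_le inf_le_left
      exact Subgroup.map_subtype_le _
    · have h1 := sylow_sup_pResidual (sylowInfNormal T N')
      have h2 := congrArg (Subgroup.map N'.subtype) h1
      rw [Subgroup.map_sup, map_sylowInfNormal, ← MonoidHom.range_eq_map, Subgroup.range_subtype] at h2
      conv_lhs => rw [← h2]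
      apply sup_le_sup_right
      rw [inf_comm]
      exact inf_le_inf_left _ (IsWeaklyClosed.sylow_le_normalizer hW)
  · have hsurj : Function.Surjective (QuotientGroup.mk' N') := QuotientGroup.mk'_surjective N'
    refine ⟨T.mapSurjective hsurj, ?_, ?_⟩
    · rw [Sylow.coe_mapSurjective]
      exact Subgroup.map_mono hW.1
    · intro gbar hg
      obtain ⟨g, rfl⟩ := hsurj gbar
      rw [Sylow.coe_mapSurjective, ← map_conj_map, Subgroup.map_le_iff_le_comap,
        Subgroup.comap_map_eq, QuotientGroup.ker_mk'] at hg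
      -- Q^g ≤ T ⊔ N'
      obtain ⟨d, hd, hdT⟩ := exists_conj_le_sylow_of_le (hQp.map (MulAut.conj g).toMonoidHom) hg T le_sup_left
      rw [← conjMap_mul] at hdT
      have h1 := hW.2 _ hdT
      -- apply π
      have h2 := congrArg (Subgroup.map (QuotientGroup.mk' N')) h1
      rw [conjMap_mul, map_conj_map] at h2
      -- π d normalizes Q̄
      have hdn : (QuotientGroup.mk' N') d ∈ Subgroup.normalizer
          ((Q.map (QuotientGroup.mk' N') : Subgroup (H ⧸ N')) : Set (H ⧸ N')) := by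
        have hdT' : (QuotientGroup.mk' N') d ∈ (T : Subgroup H).map (QuotientGroup.mk' N') := by
          have : d ∈ ((T : Subgroup H) ⊔ N') := hd
          rw [Subgroup.mem_sup_of_normal_right] at this
          obtain ⟨t, ht, n, hn, rfl⟩ := this
          refine ⟨t, ht, ?_⟩
          rw [map_mul]
          have : (QuotientGroup.mk' N') n = 1 := (QuotientGroup.eq_one_iff n).mpr hn
          rw [this, mul_one]
        obtain ⟨t, ht, hteq⟩ := hdT'
        rw [← hteq]
        apply mem_normalizer_of_map_conj_eq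
        rw [← map_conj_map, map_conj_eq_of_mem_normalizer (IsWeaklyClosed.sylow_le_normalizer hW ht)]
      have h3 := map_conj_eq_of_mem_normalizer (Subgroup.inv_mem _ hdn)
      have h4 := congrArg (Subgroup.map (MulAut.conj ((QuotientGroup.mk' N') d)⁻¹).toMonoidHom) h2
      rw [conjMap_inv_conjMap, h3] at h4
      rw [← map_conj_map]
      exact h4

end Cfsg.Agent.S2839
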