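import Cfsg.Statements.S2840
import Cfsg.Agent.Lib.Helper17.WeaklyClosed

set_option autoImplicit false
open Cfsg

namespace Cfsg.Agent.S2840

open Cfsg.Agent.Lib.Helper17
open Cfsg.Agent.Lib.Helper9

/-- Let Q be a nontrivial p-subgroup of the finite group H that is a weakly closed subgroup and K a subgroup containing Q; let K° be the weak closure of Q in K (generated by the H-conjugates of Q inside K). Then K° is generated by the K-conjugates of Q, and K° is the subnormal closure of Q in K. -/
theorem result {H : Type*} [Group H] [Finite H] {p : ℕ} [Fact p.Prime] (Q : Subgroup H) (hQp : IsPGroup p ↥Q) (hQ1 : Q ≠ ⊥) (hwc : Cfsg.IsWeaklyClosedSubgroup p Q) (K : Subgroup H) (hQK : Q ≤ K) (Kc : Subgroup H) (hKc : Kc = Cfsg.weakClosure Q K) : Kc = ⨆ k : ↥K, ((Q : Subgroup H).map (MulAut.conj ((k : H) : H)).toMonoidHom) ∧ Kc = (Cfsg.subnormalClosure (Q.subgroupOf K)).map K.subtype := by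
  obtain ⟨T, hW⟩ := hwc
  have hconjK : ∀ k : K, Q.map (MulAut.conj (k : H)).toMonoidHom ≤ K := by
    rintro k _ ⟨q, hq, rfl⟩
    exact K.mul_mem (K.mul_mem k.2 (hQK hq)) (K.inv_mem k.2)
  have h1 : Kc = ⨆ k : ↥K, ((Q : Subgroup H).map (MulAut.conj ((k : H) : H)).toMonoidHom) := by
    rw [hKc]
    unfold weakClosure
    apply le_antisymm
    · apply iSup_le
      rintro ⟨g, hg⟩
      obtain ⟨k, hk, hkeq⟩ := weaklyClosed_conj_in_subgroup T Q hW K hQK g hg
      show Q.map (MulAut.conj g).toMonoidHom ≤ _
      rw [← hkeq]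
      exact le_iSup (fun k : K => Q.map (MulAut.conj (k : H)).toMonoidHom) ⟨k, hk⟩
    · apply iSup_le
      intro k
      exact le_iSup (fun g : {g : H // Q.map (MulAut.conj g).toMonoidHom ≤ K} =>
        Q.map (MulAut.conj (g : H)).toMonoidHom) ⟨(k : H), hconjK k⟩
  refine ⟨h1, ?_⟩
  rw [h1]
  have hJK : (⨆ k : ↥K, Q.map (MulAut.conj (k : H)).toMonoidHom) ≤ K := iSup_le hconjK
  have hQJ : Q ≤ ⨆ k : ↥K, Q.map (MulAut.conj (k : H)).toMonoidHom := by
    have := le_iSup (fun k : K => Q.map (MulAut.conj (k : H)).toMonoidHom) (1 : K)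
    have e : Q.map (MulAut.conj (((1 : K) : H))).toMonoidHom = Q := by
      rw [Subgroup.coe_one]; exact conjMap_one Q
    exact le_trans (le_of_eq e.symm) this
  -- K normalizes J
  have hKJ : K ≤ Subgroup.normalizer ((⨆ k : ↥K, Q.map (MulAut.conj (k : H)).toMonoidHom : Subgroup H) : Set H) := by
    intro k hk
    apply mem_normalizer_of_map_conj_le
    rw [Subgroup.map_iSup]
    apply iSup_le
    intro k'
    rw [← conjMap_mul]
    exact le_iSup (fun k : K => Q.map (MulAut.conj (k : H)).toMonoidHom) (⟨k, hk⟩ * k')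
  apply le_antisymm
  · -- J ≤ map of sInf
    have hle : (⨆ k : ↥K, Q.map (MulAut.conj (k : H)).toMonoidHom).subgroupOf K ≤
        Cfsg.subnormalClosure (Q.subgroupOf K) := by
      unfold subnormalClosure
      apply le_sInf
      rintro X ⟨hQX, hX⟩
      -- all K-conjugates of Q lie in X
      have key : ∀ k : K, Q.map (MulAut.conj (k : H)).toMonoidHom ≤ X.map K.subtype := by
        induction hX with
        | top =>
          intro k
          rw [← MonoidHom.range_eq_map, Subgroup.range_subtype]
          exact hconjK k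
        | step X Y hle hsub hnorm ih =>
          intro k
          have ihY := ih (hQX.trans hle)
          have hQY : Q ≤ Y.map K.subtype := by
            have := ihY 1
            have e : Q.map (MulAut.conj (((1 : K) : H))).toMonoidHom = Q := by
              rw [Subgroup.coe_one]; exact conjMap_one Q
            exact le_trans (le_of_eq e.symm) this
          obtain ⟨y, hy, hyeq⟩ := weaklyClosed_conj_in_subgroup T Q hW (Y.map K.subtype) hQY k (ihY k)
          rw [← hyeq]
          obtain ⟨y', hy', rfl⟩ := hy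
          rintro _ ⟨q, hq, rfl⟩
          have hqX : (⟨q, hQK hq⟩ : K) ∈ X := hQX (by rw [Subgroup.mem_subgroupOf]; exact hq)
          have h2 := hnorm.conj_mem ⟨⟨q, hQK hq⟩, hle hqX⟩
            (by rw [Subgroup.mem_subgroupOf]; exact hqX) ⟨y', hy'⟩
          rw [Subgroup.mem_subgroupOf] at h2
          exact ⟨_, h2, rfl⟩
      intro x hx
      rw [Subgroup.mem_subgroupOf] at hx
      have h3 : (⨆ k : ↥K, Q.map (MulAut.conj (k : H)).toMonoidHom) ≤ X.map K.subtype := iSup_le key
      obtain ⟨x', hx', hxeq⟩ := h3 hx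
      have : x' = x := Subtype.ext hxeq
      rw [← this]; exact hx'
    have := Subgroup.map_mono (f := K.subtype) hle
    rw [Subgroup.subgroupOf_map_subtype, inf_of_le_left hJK] at this
    exact this
  · -- map of sInf ≤ J
    have hle : Cfsg.subnormalClosure (Q.subgroupOf K) ≤
        (⨆ k : ↥K, Q.map (MulAut.conj (k : H)).toMonoidHom).subgroupOf K := by
      unfold subnormalClosure
      apply sInf_le
      refine ⟨?_, ?_⟩
      · intro q hq
        rw [Subgroup.mem_subgroupOf] at hq ⊢
        exact hQJ hq
      · apply Subgroup.Normal.isSubnormal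
        constructor
        intro x hx k
        rw [Subgroup.mem_subgroupOf] at hx ⊢
        have := (Subgroup.mem_normalizer_iff.mp (hKJ k.2) x).mp hx
        simpa using this
    have := Subgroup.map_mono (f := K.subtype) hle
    rw [Subgroup.subgroupOf_map_subtype, inf_of_le_left hJK] at this
    exact this

end Cfsg.Agent.S2840
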