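import Cfsg.Statements.S2841
import Cfsg.Agent.Lib.Helper17.WeaklyClosed

set_option autoImplicit false
open Cfsg

namespace Cfsg.Agent.S2841

open Cfsg.Agent.Lib.Helper17
open Cfsg.Agent.Lib.Helper9
open scoped commutatorElement

/-- Let Q be a nontrivial p-subgroup of the finite group H that is a weakly closed subgroup and N a normal subgroup of H. Then N = N_N(Q)·[N, Q] and [N, Q] = (Q ∩ [N, Q])·[N, Q, Q]. -/
theorem result {H : Type*} [Group H] [Finite H] {p : ℕ} [Fact p.Prime] (Q : Subgroup H) (hQp : IsPGroup p ↥Q) (hQ1 : Q ≠ ⊥) (hwc : Cfsg.IsWeaklyClosedSubgroup p Q) (N' : Subgroup H) [N'.Normal] : (∀ n : H, n ∈ N' → ∃ a ∈ N' ⊓ Subgroup.normalizer ((Q : Subgroup H) : Set H), ∃ b ∈ ⁅N', Q⁆, n = a * b) ∧ (∀ c : H, c ∈ ⁅N', Q⁆ → ∃ a ∈ Q ⊓ ⁅N', Q⁆, ∃ b ∈ ⁅⁅N', Q⁆, Q⁆, c = a * b) := by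
  obtain ⟨T, hW⟩ := hwc
  have hMN : ⁅N', Q⁆ ≤ N' := Subgroup.commutator_le_left N' Q
  have hQM : Q ≤ Subgroup.normalizer ((⁅N', Q⁆ : Subgroup H) : Set H) :=
    Subgroup.normalizer_commutator_ge_right N' Q
  -- N-conjugates of Q lie in L = M ⊔ Q
  have hQn : ∀ n ∈ N', Q.map (MulAut.conj n).toMonoidHom ≤ ⁅N', Q⁆ ⊔ Q := by
    rintro n hn _ ⟨q, hq, rfl⟩
    simp only [MulEquiv.coe_toMonoidHom, MulAut.conj_apply]
    have : n * q * n⁻¹ = ⁅n, q⁆ * q := by rw [commutatorElement_def]; group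
    rw [this]
    exact Subgroup.mul_mem _ (Subgroup.mem_sup_left (Subgroup.commutator_mem_commutator hn hq))
      (Subgroup.mem_sup_right hq)
  -- each n ∈ N is m * a with m ∈ M, a ∈ N ∩ N(Q), and Q^n = Q^m
  have key : ∀ n ∈ N', ∃ m ∈ ⁅N', Q⁆, Q.map (MulAut.conj m).toMonoidHom = Q.map (MulAut.conj n).toMonoidHom := by
    intro n hn
    obtain ⟨l, hl, hleq⟩ := weaklyClosed_conj_in_subgroup T Q hW (⁅N', Q⁆ ⊔ Q) le_sup_right n (hQn n hn)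
    have hl' : l ∈ ((⁅N', Q⁆ ⊔ Q : Subgroup H) : Set H) := hl
    rw [Subgroup.coe_mul_of_right_le_normalizer_left _ _ hQM] at hl'
    obtain ⟨m, hm, q', hq', rfl⟩ := Set.mem_mul.mp hl'
    refine ⟨m, hm, ?_⟩
    rw [← hleq, conjMap_mul, map_conj_eq_of_mem_normalizer (Subgroup.le_normalizer hq')]
  have partA : ∀ n ∈ N', ∃ m ∈ ⁅N', Q⁆, ∃ a ∈ N' ⊓ Subgroup.normalizer ((Q : Subgroup H) : Set H), n = m * a := by
    intro n hn
    obtain ⟨m, hm, hmeq⟩ := key n hn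
    refine ⟨m, hm, m⁻¹ * n, ⟨N'.mul_mem (N'.inv_mem (hMN hm)) hn, ?_⟩, by group⟩
    apply mem_normalizer_of_map_conj_eq
    rw [conjMap_mul, ← hmeq, conjMap_inv_conjMap]
  refine ⟨?_, ?_⟩
  · intro n hn
    obtain ⟨m, hm, a, ha, hnma⟩ := partA n⁻¹ (N'.inv_mem hn)
    refine ⟨a⁻¹, Subgroup.inv_mem _ ha, m⁻¹, Subgroup.inv_mem _ hm, ?_⟩
    have : n = (n⁻¹)⁻¹ := by group
    rw [this, hnma]; group
  · -- R = M₁ ⊔ Q is normalized by L = M ⊔ Q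
    have hQM₁ : Q ≤ Subgroup.normalizer ((⁅⁅N', Q⁆, Q⁆ : Subgroup H) : Set H) :=
      Subgroup.normalizer_commutator_ge_right _ Q
    have hMM₁ : ⁅N', Q⁆ ≤ Subgroup.normalizer ((⁅⁅N', Q⁆, Q⁆ : Subgroup H) : Set H) :=
      Subgroup.normalizer_commutator_ge_left _ Q
    have hQR : Q ≤ Subgroup.normalizer ((⁅⁅N', Q⁆, Q⁆ ⊔ Q : Subgroup H) : Set H) := by
      intro q hq
      exact mem_normalizer_sup (hQM₁ hq) (Subgroup.le_normalizer hq)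
    have hMR : ⁅N', Q⁆ ≤ Subgroup.normalizer ((⁅⁅N', Q⁆, Q⁆ ⊔ Q : Subgroup H) : Set H) := by
      intro m hm
      apply mem_normalizer_of_map_conj_le
      rw [Subgroup.map_sup]
      apply sup_le
      · rw [map_conj_eq_of_mem_normalizer (hMM₁ hm)]
        exact le_sup_left
      · rintro _ ⟨q, hq, rfl⟩
        simp only [MulEquiv.coe_toMonoidHom, MulAut.conj_apply]
        have : m * q * m⁻¹ = ⁅m, q⁆ * q := by rw [commutatorElement_def]; group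
        rw [this]
        exact Subgroup.mul_mem _ (Subgroup.mem_sup_left (Subgroup.commutator_mem_commutator hm hq))
          (Subgroup.mem_sup_right hq)
    have hLR : ⁅N', Q⁆ ⊔ Q ≤ Subgroup.normalizer ((⁅⁅N', Q⁆, Q⁆ ⊔ Q : Subgroup H) : Set H) :=
      sup_le hMR hQR
    -- M ≤ R
    have hMleR : ⁅N', Q⁆ ≤ ⁅⁅N', Q⁆, Q⁆ ⊔ Q := by
      rw [Subgroup.commutator_le]
      intro n hn q hq
      obtain ⟨m, hm, hmeq⟩ := key n hn
      have h1 : n * q * n⁻¹ ∈ Q.map (MulAut.conj m).toMonoidHom := by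
        rw [hmeq]; exact ⟨q, hq, rfl⟩
      have h2 : Q.map (MulAut.conj m).toMonoidHom ≤ ⁅⁅N', Q⁆, Q⁆ ⊔ Q := by
        have := conjMap_mono (le_sup_right : Q ≤ ⁅⁅N', Q⁆, Q⁆ ⊔ Q) m
        rwa [map_conj_eq_of_mem_normalizer (hMR hm)] at this
      have : ⁅n, q⁆ = (n * q * n⁻¹) * q⁻¹ := by rw [commutatorElement_def]
      rw [this]
      exact Subgroup.mul_mem _ (h2 h1) (Subgroup.mem_sup_right (Q.inv_mem hq))
    intro c hc
    have hc' : c ∈ ((⁅⁅N', Q⁆, Q⁆ ⊔ Q : Subgroup H) : Set H) := hMleR hc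
    rw [Subgroup.coe_mul_of_right_le_normalizer_left _ _ hQM₁] at hc'
    obtain ⟨b, hb, a, ha, rfl⟩ := Set.mem_mul.mp hc'
    -- c = b * a; rewrite as a * (a⁻¹ b a)
    have hb' : b ∈ ⁅⁅N', Q⁆, Q⁆ := hb
    have ha' : a ∈ Q := ha
    have hM₁M : ⁅⁅N', Q⁆, Q⁆ ≤ ⁅N', Q⁆ := by
      rw [Subgroup.commutator_le]
      intro m hm q hq
      have h1 : q * m⁻¹ * q⁻¹ ∈ ⁅N', Q⁆ :=
        (Subgroup.mem_normalizer_iff.mp (hQM hq) m⁻¹).mp (Subgroup.inv_mem _ hm)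
      have : ⁅m, q⁆ = m * (q * m⁻¹ * q⁻¹) := by rw [commutatorElement_def]; group
      rw [this]
      exact Subgroup.mul_mem _ hm h1
    have hbM : b ∈ ⁅N', Q⁆ := hM₁M hb'
    have hc2 : b * a ∈ ⁅N', Q⁆ := hc
    have haM : a ∈ ⁅N', Q⁆ := by
      have : a = b⁻¹ * (b * a) := by group
      rw [this]
      exact Subgroup.mul_mem _ (Subgroup.inv_mem _ hbM) hc2
    refine ⟨a, Subgroup.mem_inf.mpr ⟨ha', haM⟩, a⁻¹ * b * a⁻¹⁻¹, ?_, by group⟩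
    exact (Subgroup.mem_normalizer_iff.mp (hQM₁ (Q.inv_mem ha')) b).mp hb'

end Cfsg.Agent.S2841
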