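import Cfsg.Statements.S2842
import Cfsg.Agent.Lib.Helper17.CharP3
import Cfsg.Agent.Lib.Helper17.WeaklyClosed

set_option autoImplicit false
open Cfsg
open Cfsg.Agent.Lib.Helper17
open scoped commutatorElement

namespace Cfsg.Agent.S2842

theorem comm_mem_left {G : Type*} [Group G] {A : Subgroup G} {u x : G} (hu : u ∈ A)
    (hx : x ∈ Subgroup.normalizer (A : Set G)) : ⁅u, x⁆ ∈ A := by
  have e : ⁅u, x⁆ = u * (x * u⁻¹ * x⁻¹) := by rw [commutatorElement_def]; group
  rw [e]
  exact A.mul_mem hu ((Subgroup.mem_normalizer_iff.mp hx _).mp (A.inv_mem hu))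

theorem comm_mem_right {G : Type*} [Group G] {A : Subgroup G} {u x : G} (hx : x ∈ A)
    (hu : u ∈ Subgroup.normalizer (A : Set G)) : ⁅u, x⁆ ∈ A := by
  have e : ⁅u, x⁆ = (u * x * u⁻¹) * x⁻¹ := by rw [commutatorElement_def]
  rw [e]
  exact A.mul_mem ((Subgroup.mem_normalizer_iff.mp hu _).mp hx) (A.inv_mem hx)

/-- Let Q be a nontrivial p-subgroup of the finite group H that is a weakly closed subgroup with C_H(Q) ≤ Q, and Q ≤ L ≤ H. Suppose H has characteristic p, or more generally that C_H(y) has characteristic p for some nonidentity y ∈ C_{O_p(L)}(Q). Then [Q, C_H(O_p(L))] ≤ Q ∩ O_p(L), C_H(O_p(L)) is a p-group, and L has characteristic p. -/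
theorem result {H : Type*} [Group H] [Finite H] {p : ℕ} [Fact p.Prime] (Q : Subgroup H) (hQp : IsPGroup p ↥Q) (hQ1 : Q ≠ ⊥) (hwc : Cfsg.IsWeaklyClosedSubgroup p Q) (hCQ : Subgroup.centralizer ((Q : Subgroup H) : Set H) ≤ Q) (L : Subgroup H) (hQL : Q ≤ L) (hyp : Subgroup.centralizer (Cfsg.pCore p H : Set H) ≤ Cfsg.pCore p H ∨ ∃ y : H, y ≠ 1 ∧ y ∈ (Cfsg.pCoreOf p L) ⊓ Subgroup.centralizer ((Q : Subgroup H) : Set H) ∧ Subgroup.centralizer (Cfsg.pCore p ↥(Subgroup.centralizer ({y} : Set H)) : Set ↥(Subgroup.centralizer ({y} : Set H))) ≤ Cfsg.pCore p ↥(Subgroup.centralizer ({y} : Set H))) : ⁅Q, Subgroup.centralizer (((Cfsg.pCoreOf p L) : Subgroup H) : Set H)⁆ ≤ Q ⊓ (Cfsg.pCoreOf p L) ∧ IsPGroup p ↥(Subgroup.centralizer (((Cfsg.pCoreOf p L) : Subgroup H) : Set H)) ∧ Subgroup.centralizer (Cfsg.pCore p ↥L : Set ↥L) ≤ Cfsg.pCore p ↥L := by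
  obtain ⟨T, hW⟩ := hwc
  have hNle : ∀ R' : Subgroup H, IsPGroup p R' → Q ≤ R' →
      Subgroup.normalizer (R' : Set H) ≤ Subgroup.normalizer (Q : Set H) :=
    fun R' hR' hQR' => IsWeaklyClosed.normalizer_le hW hR' hQR'
  -- p-subgroups normalized by Q normalize Q
  have hwcN : ∀ V : Subgroup H, IsPGroup p V → Q ≤ Subgroup.normalizer (V : Set H) →
      V ≤ Subgroup.normalizer (Q : Set H) := by
    intro V hV hQV
    have hp : IsPGroup p (Q ⊔ V : Subgroup H) := hQp.to_sup_of_normal_right' hV hQV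
    exact (le_sup_right.trans Subgroup.le_normalizer).trans (hNle _ hp le_sup_left)
  set R := Cfsg.pCoreOf p L with hRdef
  set C := Subgroup.centralizer (R : Set H) with hCdef
  have hRp : IsPGroup p R := pCoreOf_isPGroup L
  have hLR : L ≤ Subgroup.normalizer (R : Set H) := le_normalizer_pCoreOf L
  have hLC : L ≤ Subgroup.normalizer (C : Set H) :=
    hLR.trans (normalizer_le_normalizer_centralizer' R)
  have hQC : Q ≤ Subgroup.normalizer (C : Set H) := hQL.trans hLC
  -- ambient subgroup of characteristic p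
  obtain ⟨M, hM, hQM, hCM⟩ : ∃ M : Subgroup H, IsCharPSub p M ∧ Q ≤ M ∧ C ≤ M := by
    rcases hyp with hA | ⟨y, -, hy, hK⟩
    · exact ⟨⊤, isCharPSub_top_iff.mpr hA, le_top, le_top⟩
    · refine ⟨Subgroup.centralizer ({y} : Set H), (isCharPSub_iff _).mp hK, ?_, ?_⟩
      · intro q hq
        rw [Subgroup.mem_centralizer_singleton_iff]
        exact (Subgroup.mem_centralizer_iff.mp (Subgroup.mem_inf.mp hy).2) q hq
      · intro c hc
        rw [Subgroup.mem_centralizer_singleton_iff]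
        exact ((Subgroup.mem_centralizer_iff.mp hc) y (Subgroup.mem_inf.mp hy).1).symm
  have hMPQ : Cfsg.pCoreOf p M ≤ Subgroup.normalizer (Q : Set H) :=
    hwcN _ (pCoreOf_isPGroup M) (hQM.trans (le_normalizer_pCoreOf M))
  have hall : ∀ L' : Subgroup H, Q ≤ L' → L' ≤ M → IsCharPSub p L' := fun L' h1 h2 =>
    isCharPSub_of_ge_of_centralizer_le hM hQp hMPQ (inf_le_right.trans hCQ) h1 h2
  -- Step 2: D = C_L(R) ≤ R
  set D := L ⊓ C with hDdef
  have hLD : L ≤ Subgroup.normalizer (D : Set H) := fun l hl =>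
    mem_normalizer_inf (Subgroup.le_normalizer hl) (hLC hl)
  have hOpD : Cfsg.pCoreOf p D ≤ R := by
    apply le_pCoreOf ((pCoreOf_le D).trans inf_le_left) _ (pCoreOf_isPGroup D)
    exact hLD.trans (normalizer_le_normalizer_pCoreOf D)
  have hDp : IsPGroup p D := by
    have hL' : IsCharPSub p (L ⊓ M) := hall _ (le_inf hQL hQM) inf_le_right
    set R'' := Cfsg.pCoreOf p (L ⊓ M) with hR''def
    have hR''p : IsPGroup p R'' := pCoreOf_isPGroup _
    have hL'R'' : L ⊓ M ≤ Subgroup.normalizer (R'' : Set H) := le_normalizer_pCoreOf _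
    have hR''L' : R'' ≤ L ⊓ M := pCoreOf_le _
    have hDL' : D ≤ L ⊓ M := le_inf inf_le_left (inf_le_right.trans hCM)
    have hRD : R'' ⊓ D ≤ R := by
      refine le_trans ?_ hOpD
      apply le_pCoreOf inf_le_right _ (hR''p.to_le inf_le_left)
      intro d hd
      exact mem_normalizer_inf (hL'R'' (hDL' hd)) (Subgroup.le_normalizer hd)
    apply isPGroup_of_coprime_elements_trivial
    intro x hx hcop
    have hcent := stability_centralizes hR''p hcop (inf_le_left : R'' ⊓ D ≤ R'')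
      (fun u hu => Subgroup.mem_inf.mpr ⟨comm_mem_left hu (hL'R'' (hDL' hx)),
        comm_mem_right hx (hLD (inf_le_left (a := L) (b := M) (hR''L' hu)))⟩)
      (fun z hz => ((Subgroup.mem_centralizer_iff.mp (Subgroup.mem_inf.mp hx).2) z (hRD hz)).symm)
    have hxR'' : x ∈ R'' := by
      apply hL'
      refine Subgroup.mem_inf.mpr ⟨hDL' hx, ?_⟩
      rw [Subgroup.mem_centralizer_iff]
      intro u hu
      exact (hcent u hu).symm
    exact eq_one_of_mem_pgroup_of_coprime hR''p hxR'' hcop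
  have hDR : D ≤ R := le_pCoreOf inf_le_left hLD hDp
  have hQCR : Q ⊓ C ≤ R := (inf_le_inf_right C hQL).trans hDR
  -- Step 3
  set X := Q ⊔ C with hXdef
  have hX : IsCharPSub p X := hall X le_sup_left (sup_le hQM hCM)
  have hXC : X ≤ Subgroup.normalizer (C : Set H) := sup_le hQC Subgroup.le_normalizer
  set U := Cfsg.pCoreOf p X with hUdef
  have hUp : IsPGroup p U := pCoreOf_isPGroup X
  have hXU : X ≤ Subgroup.normalizer (U : Set H) := le_normalizer_pCoreOf X
  have hUX : U ≤ X := pCoreOf_le X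
  set V := Cfsg.pCoreOf p C with hVdef
  have hVp : IsPGroup p V := pCoreOf_isPGroup C
  have hVC : V ≤ C := pCoreOf_le C
  have hCV : C ≤ Subgroup.normalizer (V : Set H) := le_normalizer_pCoreOf C
  have hQV : Q ≤ Subgroup.normalizer (V : Set H) := hQC.trans (normalizer_le_normalizer_pCoreOf C)
  have hVQ : V ≤ Subgroup.normalizer (Q : Set H) := hwcN V hVp hQV
  set P₂ := ⁅V, Q⁆ with hP₂def
  have hP₂ : P₂ ≤ V ⊓ Q := commutator_le_inf_of_le_normalizer hVQ hQV
  have hP₂V : P₂ ≤ V := hP₂.trans inf_le_left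
  have hP₂R : P₂ ≤ R := fun z hz => hQCR (Subgroup.mem_inf.mpr
    ⟨(Subgroup.mem_inf.mp (hP₂ hz)).2, hVC (Subgroup.mem_inf.mp (hP₂ hz)).1⟩)
  have hCP₂ : ∀ c ∈ C, ∀ y ∈ P₂, c * y = y * c := fun c hc y hy =>
    ((Subgroup.mem_centralizer_iff.mp hc) y (hP₂R hy)).symm
  have hCN₂ : C ≤ Subgroup.normalizer (P₂ : Set H) := by
    intro c hc
    apply (Subgroup.centralizer_le_normalizer (P₂ : Set H))
    rw [Subgroup.mem_centralizer_iff]
    intro y hy
    exact (hCP₂ c hc y hy).symm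
  have hQN₂ : Q ≤ Subgroup.normalizer (P₂ : Set H) := fun q hq =>
    mem_normalizer_commutator (hQV hq) (Subgroup.le_normalizer hq)
  have hUCV : U ⊓ C ≤ V := by
    apply le_pCoreOf inf_le_right _ (hUp.to_le inf_le_left)
    intro c hc
    exact mem_normalizer_inf (hXU (le_sup_right (a := Q) hc)) (Subgroup.le_normalizer hc)
  set Y₀ := C ⊓ chainStab V P₂ with hY₀def
  have hY₀p : IsPGroup p Y₀ := by
    apply isPGroup_of_coprime_elements_trivial
    intro y hy hcop
    obtain ⟨hyC, hyS⟩ := Subgroup.mem_inf.mp hy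
    have hcentV := chainStab_centralizes hVp hP₂V hyS hcop (hCP₂ y hyC)
    have hyX : y ∈ X := le_sup_right (a := Q) hyC
    have hcentU := stability_centralizes hUp hcop (inf_le_left : U ⊓ C ≤ U)
      (fun u hu => Subgroup.mem_inf.mpr ⟨comm_mem_left hu (hXU hyX),
        comm_mem_right hyC (hXC (hUX hu))⟩)
      (fun z hz => hcentV z (hUCV hz))
    have hyU : y ∈ U := by
      apply hX
      refine Subgroup.mem_inf.mpr ⟨hyX, ?_⟩
      rw [Subgroup.mem_centralizer_iff]
      intro u hu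
      exact (hcentU u hu).symm
    exact eq_one_of_mem_pgroup_of_coprime hUp hyU hcop
  have hCY₀ : C ≤ Subgroup.normalizer (Y₀ : Set H) := by
    intro c hc
    apply mem_normalizer_inf (Subgroup.le_normalizer hc)
    apply mem_normalizer_of_map_conj_le
    rintro _ ⟨g, hg, rfl⟩
    simp only [MulEquiv.coe_toMonoidHom, MulAut.conj_apply]
    exact conj_mem_chainStab (hCV hc) (hCN₂ hc) hg
  have hY₀V : Y₀ ≤ V := le_pCoreOf inf_le_left hCY₀ hY₀p
  -- Step 4: C is a p-group
  have hCp : IsPGroup p C := by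
    apply isPGroup_of_coprime_elements_trivial
    intro x hx hcop
    have hxq : ∀ q ∈ Q, ⁅x, q⁆ ∈ V := by
      intro q hq
      apply hY₀V
      refine Subgroup.mem_inf.mpr ⟨?_, ?_⟩
      · have e : ⁅x, q⁆ = x * (q * x⁻¹ * q⁻¹) := by rw [commutatorElement_def]; group
        rw [e]
        exact C.mul_mem hx ((Subgroup.mem_normalizer_iff.mp (hQC hq) _).mp (C.inv_mem hx))
      · have hqS : q ∈ chainStab V P₂ :=
          ⟨hQV hq, hQN₂ hq, fun u hu => Subgroup.commutator_mem_commutator hu hq⟩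
        have e : ⁅x, q⁆ = (x * q * x⁻¹) * q⁻¹ := by rw [commutatorElement_def]
        rw [e]
        exact Subgroup.mul_mem _ (conj_mem_chainStab (hCV hx) (hCN₂ hx) hqS)
          (Subgroup.inv_mem _ hqS)
    have hQVp : IsPGroup p (Q ⊔ V : Subgroup H) := hQp.to_sup_of_normal_right' hVp hQV
    have hxN : x ∈ Subgroup.normalizer ((Q ⊔ V : Subgroup H) : Set H) := by
      apply mem_normalizer_of_map_conj_le
      rw [Subgroup.map_sup]
      apply sup_le
      · rintro _ ⟨q, hq, rfl⟩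
        simp only [MulEquiv.coe_toMonoidHom, MulAut.conj_apply]
        have e : x * q * x⁻¹ = ⁅x, q⁆ * q := by rw [commutatorElement_def]; group
        rw [e]
        exact Subgroup.mul_mem _ (Subgroup.mem_sup_right (hxq q hq)) (Subgroup.mem_sup_left hq)
      · rw [map_conj_eq_of_mem_normalizer (hCV hx)]
        exact le_sup_right
    have hxNQ : x ∈ Subgroup.normalizer (Q : Set H) := hNle _ hQVp le_sup_left hxN
    have hcentQ := stability_centralizes hQp hcop (inf_le_left : Q ⊓ C ≤ Q)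
      (fun u hu => Subgroup.mem_inf.mpr ⟨comm_mem_left hu hxNQ, comm_mem_right hx (hQC hu)⟩)
      (fun z hz => ((Subgroup.mem_centralizer_iff.mp hx) z (hQCR hz)).symm)
    have hxQ : x ∈ Q := by
      apply hCQ
      rw [Subgroup.mem_centralizer_iff]
      intro u hu
      exact (hcentQ u hu).symm
    exact eq_one_of_mem_pgroup_of_coprime hQp hxQ hcop
  refine ⟨?_, hCp, ?_⟩
  · have hCNQ : C ≤ Subgroup.normalizer (Q : Set H) := hwcN C hCp hQC
    refine (commutator_le_inf_of_le_normalizer hQC hCNQ).trans ?_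
    exact le_inf inf_le_left hQCR
  · rw [isCharPSub_iff]
    exact hDR

end Cfsg.Agent.S2842
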