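import Cfsg.Statements.S2846
import Cfsg.Agent.S2847
import Cfsg.Agent.S2843
import Cfsg.Agent.S2845

set_option autoImplicit false
open Cfsg

namespace Cfsg.Agent.S2846

open Cfsg.Agent.Lib.Helper17 Cfsg.Agent.Lib.Helper9 Cfsg.Agent.Lib.Helper16

section aux

variable {H : Type*} [Group H]

theorem weakClosure_mono (Q : Subgroup H) {A B : Subgroup H} (h : A ≤ B) :
    weakClosure Q A ≤ weakClosure Q B := by
  unfold weakClosure
  apply iSup_le
  rintro ⟨g, hg⟩
  exact le_iSup (fun g : {g : H // Q.map (MulAut.conj g).toMonoidHom ≤ B} =>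
    Q.map (MulAut.conj (g : H)).toMonoidHom) ⟨g, hg.trans h⟩

theorem le_normalizer_weakClosure [Finite H] (Q K : Subgroup H) :
    K ≤ Subgroup.normalizer (weakClosure Q K : Set H) := by
  intro k hk
  apply mem_normalizer_of_map_conj_le
  unfold weakClosure
  rw [Subgroup.map_iSup]
  apply iSup_le
  rintro ⟨g, hg⟩
  have e : (Q.map (MulAut.conj g).toMonoidHom).map (MulAut.conj k).toMonoidHom =
      Q.map (MulAut.conj (k * g)).toMonoidHom := (conjMap_mul Q k g).symm
  have hkg : Q.map (MulAut.conj (k * g)).toMonoidHom ≤ K := by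
    rw [← e]
    rintro _ ⟨x, hx, rfl⟩
    simp only [MulEquiv.coe_toMonoidHom, MulAut.conj_apply]
    exact K.mul_mem (K.mul_mem hk (hg hx)) (K.inv_mem hk)
  change (Q.map (MulAut.conj g).toMonoidHom).map (MulAut.conj k).toMonoidHom ≤ _
  rw [e]
  exact le_iSup (fun g : {g : H // Q.map (MulAut.conj g).toMonoidHom ≤ K} =>
    Q.map (MulAut.conj (g : H)).toMonoidHom) ⟨k * g, hkg⟩

theorem weakClosure_eq_of_le_normalizer [Finite H] {p : ℕ} [Fact p.Prime] (T : Sylow p H)
    (Q : Subgroup H) (hW : IsWeaklyClosed Q (T : Subgroup H)) {K : Subgroup H} (hQK : Q ≤ K)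
    (hKQ : K ≤ Subgroup.normalizer (Q : Set H)) : weakClosure Q K = Q := by
  apply le_antisymm
  · unfold weakClosure
    apply iSup_le
    rintro ⟨g, hg⟩
    obtain ⟨x, hx, hxeq⟩ := weaklyClosed_conj_in_subgroup T Q hW K hQK g hg
    change Q.map (MulAut.conj g).toMonoidHom ≤ Q
    rw [← hxeq, map_conj_eq_of_mem_normalizer (hKQ hx)]
  · have h1 : Q.map (MulAut.conj (1 : H)).toMonoidHom ≤ K := by rw [conjMap_one]; exact hQK
    have := le_iSup (fun g : {g : H // Q.map (MulAut.conj g).toMonoidHom ≤ K} =>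
      Q.map (MulAut.conj (g : H)).toMonoidHom) ⟨1, h1⟩
    simp only [conjMap_one] at this
    exact this

end aux

/-- Let Q be a nontrivial large p-subgroup of the finite group H, S a Sylow p-subgroup containing Q, and L a subgroup containing S with O_p(L) ≠ 1 and C_H(O_p(L)) ≤ O_p(L). Then there are a subgroup M containing S having the basic property (M ∈ 𝔐_H, writing Y_X for the largest p-reduced normal subgroup of X and 𝓛_H for the set of subgroups X with O_p(X) ≠ 1 and C_H(O_p(X)) ≤ O_p(X): M ∈ 𝓛_H, M·C_H(Y_M) is the only maximal member of 𝓛_H containing M and its largest p-reduced normal subgroup is again Y_M, C_M(Y_M) is p-closed, and the image of C_M(Y_M) in M/O_p(M) lies in the Frattini subgroup of M/O_p(M)) and a subgroup L* with S ≤ L* ≤ M, O_p(L*) ≠ 1, C_H(O_p(L*)) ≤ O_p(L*), such that L·C_H(Y_L) = L*·C_H(Y_L), the weak closures of Q in L and in L* agree and lie in that of M, and Y_L = Y_{L*} ≤ Y_M. If moreover Q is not normal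 in L, then Q is normal in neither L* nor M. -/
theorem result {H : Type*} [Group H] [Finite H] {p : ℕ} [Fact p.Prime] (Q : Subgroup H) (hQp : IsPGroup p ↥Q) (hQ1 : Q ≠ ⊥) (hLg : Cfsg.IsLarge Q) (S : Sylow p H) (hQS : Q ≤ (S : Subgroup H)) (L : Subgroup H) (hSL : (S : Subgroup H) ≤ L) (hL : L ∈ Cfsg.charPSubgroups p H) : ∃ M Ls : Subgroup H, (S : Subgroup H) ≤ M ∧ Cfsg.IsInFrakM p M ∧ (S : Subgroup H) ≤ Ls ∧ Ls ≤ M ∧ Ls ∈ Cfsg.charPSubgroups p H ∧ L ⊔ Subgroup.centralizer (((Cfsg.largestPReducedOf p L) : Subgroup H) : Set H) = Ls ⊔ Subgroup.centralizer (((Cfsg.largestPReducedOf p L) : Subgroup H) : Set H) ∧ Cfsg.weakClosure Q L = Cfsg.weakClosure Q Ls ∧ Cfsg.weakClosure Q Ls ≤ Cfsg.weakClosure Q M ∧ (Cfsg.largestPReducedOf p L) = (Cfsg.largestPReducedOf p Ls) ∧ (Cfsg.largestPReducedOf p Ls) ≤ (Cfsg.largestPReducedOf p M) ∧ (¬ L ≤ Subgroup.normalizer ((Q : Subgroup H) : Set H) → ¬ Ls ≤ Subgroup.normalizer ((Q : Subgroup H) : Set H) ∧ ¬ M ≤ Subgroup.normalizer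 ((Q : Subgroup H) : Set H)) := by
  obtain ⟨-, -, hpar⟩ := Cfsg.Agent.S2845.result Q hQp hQ1 hLg
  obtain ⟨M, Ls, hSM, hFM, hSLs, hLsM, hLsc, hY, hYM, hsup⟩ := exists_frakM S
    (fun X hX hne => Cfsg.Agent.S2847.mem_charPSubgroups_of_parabolic hpar S X hX hne) L hSL hL
  have hYLrel := relPReduced_largestPReducedOf (p := p) L
  have hYLsrel := relPReduced_largestPReducedOf (p := p) Ls
  rw [← hY] at hYLsrel
  have hYLp := isPGroup_of_exponent hYLrel.2.2.2.1
  have hYLne : largestPReducedOf p L ≠ ⊥ :=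
    largestPReducedOf_ne_bot S hSL (isCharPSub_of_mem hL) (mem_charPSubgroups_iff.mp hL).1
  have hw1 := (Cfsg.Agent.S2843.result Q hQp hQ1 hLg L (hQS.trans hSL) _ hYLp hYLne hYLrel.2.1).1
  have hw2 := (Cfsg.Agent.S2843.result Q hQp hQ1 hLg Ls (hQS.trans hSLs) _ hYLp hYLne
    hYLsrel.2.1).1
  have hw : weakClosure Q L = weakClosure Q Ls := by rw [hw1, hw2, hsup]
  refine ⟨M, Ls, hSM, hFM, hSLs, hLsM, hLsc, hsup, hw, weakClosure_mono Q hLsM, hY, hY ▸ hYM, ?_⟩
  intro hLQ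
  have hW := IsLarge.isWeaklyClosed hLg S hQS
  have h1 : ¬ Ls ≤ Subgroup.normalizer ((Q : Subgroup H) : Set H) := by
    intro h
    apply hLQ
    have e := weakClosure_eq_of_le_normalizer S Q hW (hQS.trans hSLs) h
    have := le_normalizer_weakClosure Q L
    rwa [hw, e] at this
  exact ⟨h1, fun h => h1 (hLsM.trans h)⟩

end Cfsg.Agent.S2846
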