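import Cfsg.Statements.S2848
import Cfsg.Agent.S2821
import Cfsg.Agent.Lib.Helper17.YL
import Cfsg.Agent.Lib.Helper17.CharP2
import Cfsg.Agent.Lib.Helper17.PClosed

set_option autoImplicit false
open Cfsg
open Cfsg.Agent.Lib.Helper17

namespace Cfsg.Agent.S2848

/-- For `M ∈ 𝔐` containing the Sylow subgroup `S`: `O_p(M) = C_S(Y_M)`. -/
theorem pCoreOf_eq_of_isInFrakM {G : Type*} [Group G] [Finite G] {p : ℕ} [Fact p.Prime]
    (S : Sylow p G) (M : Subgroup G) (hSM : (S : Subgroup G) ≤ M) (hM : Cfsg.IsInFrakM p M) :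
    Cfsg.pCoreOf p M = (S : Subgroup G) ⊓
      Subgroup.centralizer ((Cfsg.largestPReducedOf p M : Subgroup G) : Set G) := by
  set Y := Cfsg.largestPReducedOf p M with hYdef
  set C := Subgroup.centralizer (Y : Set G) with hCdef
  have hMchar : IsCharPSub p M := inf_le_right.trans hM.1.2
  have hMchar' := (isCharPSub_iff M).mpr hMchar
  obtain ⟨-, h2, -⟩ := Cfsg.Agent.S2821.result S M hSM hMchar' _ rfl
  apply le_antisymm h2
  have hMY : M ≤ Subgroup.normalizer (Y : Set G) := le_normalizer_largestPReducedOf M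
  have hMC : M ≤ Subgroup.normalizer (C : Set G) :=
    hMY.trans (normalizer_le_normalizer_centralizer' Y)
  have hMN : M ≤ Subgroup.normalizer ((M ⊓ C : Subgroup G) : Set G) := fun m hm =>
    mem_normalizer_inf (Subgroup.le_normalizer hm) (hMC hm)
  obtain ⟨P, hPN, hPp, hmax, hnorm⟩ := exists_max_psub_normalizer_of_isPClosed hM.2.2.2.2.1
  have h3 : (S : Subgroup G) ⊓ C ≤ P :=
    hmax _ (le_inf (inf_le_left.trans hSM) inf_le_right) (S.2.to_le inf_le_left)
  exact h3.trans (le_pCoreOf (hPN.trans inf_le_left) (hMN.trans hnorm) hPp)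

/-- Standing hypotheses: G a finite group, S a Sylow p-subgroup, Q a nontrivial large p-subgroup of G contained in S (C_G(Q) ≤ Q and N_G(U) ≤ N_G(Q) for all nontrivial U ≤ C_G(Q)), and M a subgroup containing S with the basic property (M ∈ 𝔐_G(S)); Y_M denotes the largest p-reduced normal subgroup of M and M† = M·C_G(Y_M). Then O_p(M) is a weakly closed subgroup of M† (for p): it is the only M†-conjugate of itself inside some Sylow p-subgroup of M† containing it. -/
theorem result {G : Type*} [Group G] [Finite G] {p : ℕ} [Fact p.Prime] (S : Sylow p G) (Q : Subgroup G) (hQp : IsPGroup p ↥Q) (hQ1 : Q ≠ ⊥) (hQS : Q ≤ (S : Subgroup G)) (hQ : Cfsg.IsLarge Q) (M : Subgroup G) (hSM : (S : Subgroup G) ≤ M) (hM : Cfsg.IsInFrakM p M) : Cfsg.IsWeaklyClosedSubgroup p (((Cfsg.pCoreOf p M)).subgroupOf (M ⊔ Subgroup.centralizer (((Cfsg.largestPReducedOf p M) : Subgroup G) : Set G))) := by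
  have hWeq := pCoreOf_eq_of_isInFrakM S M hSM hM
  set Y := Cfsg.largestPReducedOf p M with hYdef
  set C := Subgroup.centralizer (Y : Set G) with hCdef
  set W := Cfsg.pCoreOf p M with hWdef
  have hMY : M ≤ Subgroup.normalizer (Y : Set G) := le_normalizer_largestPReducedOf M
  have hMdC : M ⊔ C ≤ Subgroup.normalizer (C : Set G) :=
    sup_le (hMY.trans (normalizer_le_normalizer_centralizer' Y)) Subgroup.le_normalizer
  have hSMd : (S : Subgroup G) ≤ M ⊔ C := hSM.trans le_sup_left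
  have hWS : W ≤ (S : Subgroup G) := by rw [hWeq]; exact inf_le_left
  have hWC : W ≤ C := by rw [hWeq]; exact inf_le_right
  refine ⟨S.subtype hSMd, ?_, ?_⟩
  · rw [Sylow.coe_subtype]
    exact Subgroup.comap_mono hWS
  · intro g hg
    apply map_conj_eq_of_le
    rintro _ ⟨w, hw, rfl⟩
    have hwW : (w : G) ∈ W := Subgroup.mem_subgroupOf.mp hw
    have h1 : (MulAut.conj g).toMonoidHom w ∈ ((S.subtype hSMd : Sylow p ↥(M ⊔ C)) :
        Subgroup ↥(M ⊔ C)) := hg ⟨w, hw, rfl⟩
    rw [Sylow.coe_subtype, Subgroup.mem_subgroupOf] at h1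
    rw [Subgroup.mem_subgroupOf, hWeq]
    refine Subgroup.mem_inf.mpr ⟨h1, ?_⟩
    have h2 : (g : G) * (w : G) * (g : G)⁻¹ ∈ C :=
      (Subgroup.mem_normalizer_iff.mp (hMdC g.2) _).mp (hWC hwW)
    simpa [MulAut.conj_apply] using h2

end Cfsg.Agent.S2848
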