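import Cfsg.Statements.S2849
import Cfsg.Agent.Lib.Helper17.YL
import Cfsg.Agent.Lib.Helper17.WeaklyClosed
import Cfsg.Agent.Lib.Helper17.NormalClosure

set_option autoImplicit false
open Cfsg
open Cfsg.Agent.Lib.Helper17
open scoped commutatorElement

namespace Cfsg.Agent.S2849

/-- Standing hypotheses: G a finite group, S a Sylow p-subgroup, Q a nontrivial large p-subgroup of G contained in S (C_G(Q) ≤ Q and N_G(U) ≤ N_G(Q) for all nontrivial U ≤ C_G(Q)), and M a subgroup containing S with the basic property (M ∈ 𝔐_G(S)); Y_M denotes the largest p-reduced normal subgroup of M and M† = M·C_G(Y_M). Suppose Y_M is asymmetric in G. Then for every subgroup R with Y_M ≤ R ≤ M†, the normal closure of Y_M in N_G(R) is elementary abelian. -/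
theorem result {G : Type*} [Group G] [Finite G] {p : ℕ} [Fact p.Prime] (S : Sylow p G) (Q : Subgroup G) (hQp : IsPGroup p ↥Q) (hQ1 : Q ≠ ⊥) (hQS : Q ≤ (S : Subgroup G)) (hQ : Cfsg.IsLarge Q) (M : Subgroup G) (hSM : (S : Subgroup G) ≤ M) (hM : Cfsg.IsInFrakM p M) (hasym : ¬ Cfsg.IsSymmetricIn (Cfsg.largestPReducedOf p M)) (R : Subgroup G) (hYR : (Cfsg.largestPReducedOf p M) ≤ R) (hRM : R ≤ (M ⊔ Subgroup.centralizer (((Cfsg.largestPReducedOf p M) : Subgroup G) : Set G))) : Cfsg.IsElementaryAbelian p ((Subgroup.normalClosure ((((Cfsg.largestPReducedOf p M)).subgroupOf (Subgroup.normalizer ((R : Subgroup G) : Set G)) : Subgroup ↥(Subgroup.normalizer ((R : Subgroup G) : Set G))) : Set ↥(Subgroup.normalizer ((R : Subgroup G) : Set G)))).map (Subgroup.normalizer ((R : Subgroup G) : Set G)).subtype) := by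
  set Y := Cfsg.largestPReducedOf p M with hYdef
  obtain ⟨_, hMY, hYcomm, hYexp, _⟩ := relPReduced_largestPReducedOf (p := p) M
  have hRY : R ≤ Subgroup.normalizer (Y : Set G) :=
    hRM.trans (sup_le hMY (Subgroup.centralizer_le_normalizer _))
  have hYN : Y ≤ Subgroup.normalizer (R : Set G) := hYR.trans Subgroup.le_normalizer
  rw [map_normalClosure_subgroupOf hYN]
  -- key: Y commutes with its N(R)-conjugates
  have key : ∀ g ∈ Subgroup.normalizer (R : Set G), ∀ y ∈ Y, ∀ z ∈ Y,
      y * (g * z * g⁻¹) = (g * z * g⁻¹) * y := by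
    intro g hg y hy z hz
    have hRg : R.map (MulAut.conj g).toMonoidHom = R := map_conj_eq_of_mem_normalizer hg
    have h1 : Y ≤ Subgroup.normalizer ((Y.map (MulAut.conj g).toMonoidHom : Subgroup G) : Set G) := by
      rw [normalizer_map_conj']
      have : R.map (MulAut.conj g).toMonoidHom ≤
          (Subgroup.normalizer (Y : Set G)).map (MulAut.conj g).toMonoidHom :=
        Subgroup.map_mono hRY
      rw [hRg] at this
      exact hYR.trans this
    have h2 : Y.map (MulAut.conj g).toMonoidHom ≤ Subgroup.normalizer (Y : Set G) := by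
      have : Y.map (MulAut.conj g).toMonoidHom ≤ R.map (MulAut.conj g).toMonoidHom :=
        Subgroup.map_mono hYR
      rw [hRg] at this
      exact this.trans hRY
    have h3 := commutator_le_inf_of_le_normalizer h1 h2
    have h4 : ⁅Y, Y.map (MulAut.conj g).toMonoidHom⁆ = ⊥ := by
      by_contra hne
      exact hasym ⟨g, hne, h3⟩
    have h5 : ⁅y, g * z * g⁻¹⁆ ∈ ⁅Y, Y.map (MulAut.conj g).toMonoidHom⁆ :=
      Subgroup.commutator_mem_commutator hy (conj_mem_map_conj hz)
    rw [h4, Subgroup.mem_bot, commutatorElement_eq_one_iff_mul_comm] at h5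
    exact h5
  apply isElementaryAbelian_closure
  · rintro _ ⟨n, hn, y, hy, rfl⟩ _ ⟨m, hm, z, hz, rfl⟩
    have hg : n⁻¹ * m ∈ Subgroup.normalizer (R : Set G) :=
      Subgroup.mul_mem _ (Subgroup.inv_mem _ hn) hm
    have h := key _ hg y hy z hz
    have e1 : n * y * n⁻¹ * (m * z * m⁻¹) = n * (y * (n⁻¹ * m * z * (n⁻¹ * m)⁻¹)) * n⁻¹ := by group
    have e2 : m * z * m⁻¹ * (n * y * n⁻¹) = n * ((n⁻¹ * m * z * (n⁻¹ * m)⁻¹) * y) * n⁻¹ := by group
    rw [e1, e2, h]
  · rintro _ ⟨n, hn, y, hy, rfl⟩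
    have : n * y * n⁻¹ = MulAut.conj n y := by simp [MulAut.conj_apply]
    rw [this, ← map_pow, hYexp y hy, map_one]

end Cfsg.Agent.S2849
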