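import Mathlib
import Cfsg.Statements.S2850
import Cfsg.Agent.S2839
import Cfsg.Agent.Lib.Helper17.Asym

set_option autoImplicit false
open Cfsg
open Cfsg.Agent.Lib.Helper17
open Cfsg.Agent.Lib.Helper9

namespace Cfsg.Agent.S2850

/-- Standing hypotheses: G a finite group, S a Sylow p-subgroup, Q a nontrivial large p-subgroup of G contained in S (C_G(Q) ≤ Q and N_G(U) ≤ N_G(Q) for all nontrivial U ≤ C_G(Q)), and M a subgroup containing S with the basic property (M ∈ 𝔐_G(S)); Y_M denotes the largest p-reduced normal subgroup of M and M† = M·C_G(Y_M). Suppose Y_M is asymmetric in G. Then N_G(L) ≤ N_G(O_p(M)) ≤ M† for every p-subgroup L containing O_p(M); O_p(M) is a weakly closed subgroup of G; for every subgroup L containing O_p(M), L ∩ M† contains a Sylow p-subgroup of L; and two elements of Y_M conjugate in G are conjugate in M. -/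
theorem result {G : Type*} [Group G] [Finite G] {p : ℕ} [Fact p.Prime] (S : Sylow p G) (Q : Subgroup G) (hQp : IsPGroup p ↥Q) (hQ1 : Q ≠ ⊥) (hQS : Q ≤ (S : Subgroup G)) (hQ : Cfsg.IsLarge Q) (M : Subgroup G) (hSM : (S : Subgroup G) ≤ M) (hM : Cfsg.IsInFrakM p M) (hasym : ¬ Cfsg.IsSymmetricIn (Cfsg.largestPReducedOf p M)) : (∀ L : Subgroup G, IsPGroup p ↥L → (Cfsg.pCoreOf p M) ≤ L → Subgroup.normalizer ((L : Subgroup G) : Set G) ≤ Subgroup.normalizer (((Cfsg.pCoreOf p M) : Subgroup G) : Set G) ∧ Subgroup.normalizer (((Cfsg.pCoreOf p M) : Subgroup G) : Set G) ≤ (M ⊔ Subgroup.centralizer (((Cfsg.largestPReducedOf p M) : Subgroup G) : Set G))) ∧ Cfsg.IsWeaklyClosedSubgroup p (Cfsg.pCoreOf p M) ∧ (∀ L : Subgroup G, (Cfsg.pCoreOf p M) ≤ L → Cfsg.IsParabolic p ((L ⊓ (M ⊔ Subgroup.centralizer (((Cfsg.largestPReducedOf p M) : Subgroup G) : Set G))).subgroupOf L)) ∧ (∀ x ∈ (Cfsg.largestPReducedOf p M), ∀ g : G, g * x * g⁻¹ ∈ (Cfsg.largestPReducedOf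 p M) → ∃ m ∈ M, m * x * m⁻¹ = g * x * g⁻¹) := by
  have h := asymSetup_of S Q hQp hQ1 hQ M hSM hM hasym
  have hNMd := h.normalizer_pCoreOf_le_dagger
  have hPp : IsPGroup p (pCoreOf p M) := pCoreOf_isPGroup M
  have hP1 := h.pCoreOf_ne_bot
  have hwc := h.isWeaklyClosedSubgroup_pCoreOf
  refine ⟨fun L hL hPL => ⟨h.normalizer_le_normalizer_pCoreOf hL hPL, hNMd⟩, hwc, ?_, ?_⟩
  · intro L hPL
    obtain ⟨-, -, ⟨T, hT⟩, -, -⟩ := Cfsg.Agent.S2839.result (pCoreOf p M) hPp hP1 hwc L hPL ⊥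
    refine ⟨T, hT.trans ?_⟩
    intro x hx
    rw [Subgroup.mem_subgroupOf] at hx ⊢
    exact ⟨x.2, hNMd hx⟩
  · intro x hx g hgx
    have hPC := h.pCoreOf_le_centralizer
    have hPK' : pCoreOf p M ≤ Subgroup.centralizer ({g * x * g⁻¹} : Set G) := by
      intro a ha
      rw [Subgroup.mem_centralizer_iff]
      intro y hy
      rw [Set.mem_singleton_iff] at hy
      subst hy
      exact Subgroup.mem_centralizer_iff.mp (hPC ha) (g * x * g⁻¹) hgx
    have hgPK' : (pCoreOf p M).map (MulAut.conj g).toMonoidHom ≤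
        Subgroup.centralizer ({g * x * g⁻¹} : Set G) := by
      rintro _ ⟨a, ha, rfl⟩
      rw [Subgroup.mem_centralizer_iff]
      intro y hy
      rw [Set.mem_singleton_iff] at hy
      subst hy
      simp only [MulEquiv.coe_toMonoidHom, MulAut.conj_apply]
      have hax : x * a = a * x := Subgroup.mem_centralizer_iff.mp (hPC ha) x hx
      calc g * x * g⁻¹ * (g * a * g⁻¹) = g * (x * a) * g⁻¹ := by group
        _ = g * (a * x) * g⁻¹ := by rw [hax]
        _ = g * a * g⁻¹ * (g * x * g⁻¹) := by group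
    obtain ⟨k, hk, hgk⟩ := (Cfsg.Agent.S2839.result (pCoreOf p M) hPp hP1 hwc
      (Subgroup.centralizer ({g * x * g⁻¹} : Set G)) hPK' ⊥).2.1 g hgPK'
    have hn : k⁻¹ * g ∈ Subgroup.normalizer ((pCoreOf p M : Subgroup G) : Set G) := by
      apply mem_normalizer_of_map_conj_eq
      rw [conjMap_mul, hgk, conjMap_inv_conjMap]
    have hnMd := hNMd hn
    obtain ⟨m, hm, c, hc, hmc⟩ := mem_sup_of_le_normalizer' h.le_normalizer_centralizer hnMd
    refine ⟨m, hm, ?_⟩
    have hcx : c * x * c⁻¹ = x := by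
      have := Subgroup.mem_centralizer_iff.mp hc x hx
      rw [← this]
      group
    have hkx : k⁻¹ * (g * x * g⁻¹) * k = g * x * g⁻¹ := by
      have := Subgroup.mem_centralizer_iff.mp hk (g * x * g⁻¹) (Set.mem_singleton _)
      calc k⁻¹ * (g * x * g⁻¹) * k = k⁻¹ * ((g * x * g⁻¹) * k) := by group
        _ = k⁻¹ * (k * (g * x * g⁻¹)) := by rw [this]
        _ = g * x * g⁻¹ := by group
    calc m * x * m⁻¹ = m * (c * x * c⁻¹) * m⁻¹ := by rw [hcx]
      _ = (m * c) * x * (m * c)⁻¹ := by group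
      _ = (k⁻¹ * g) * x * (k⁻¹ * g)⁻¹ := by rw [← hmc]
      _ = k⁻¹ * (g * x * g⁻¹) * k := by group
      _ = g * x * g⁻¹ := hkx

end Cfsg.Agent.S2850
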