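import Mathlib
import Cfsg.Statements.S2854
import Cfsg.Agent.Lib.Helper17.Asym3
import Cfsg.Agent.Lib.Helper17.FrakM2

set_option autoImplicit false
open Cfsg

namespace Cfsg.Agent.S2854

open Cfsg.Agent.Lib.Helper17
open Cfsg.Agent.Lib.Helper9
open scoped commutatorElement

section aux

variable {G : Type*} [Group G] [Finite G] {p : ℕ} [Fact p.Prime]

/-- A subgroup normalized by `H ∈ ℌ` and normalizing `O_p(M)` normalizes `H`. -/
theorem le_normalizer_frakH {M H Q₁ : Subgroup G} (hH : IsInFrakH p M H)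
    (hHQ : H ≤ Subgroup.normalizer (Q₁ : Set G))
    (hQP : Q₁ ≤ Subgroup.normalizer ((pCoreOf p M : Subgroup G) : Set G)) :
    Q₁ ≤ Subgroup.normalizer (H : Set G) := by
  have hPH : pCoreOf p M ≤ H := hH.2.1
  obtain ⟨K, hK⟩ : ∃ K : Subgroup G, K = ⨆ h : H,
      (pCoreOf p M).map (MulAut.conj (h : G)).toMonoidHom := ⟨_, rfl⟩
  have hle : ∀ h : H, (pCoreOf p M).map (MulAut.conj (h : G)).toMonoidHom ≤ K := by
    intro h
    rw [hK]
    exact le_iSup (fun h : H => (pCoreOf p M).map (MulAut.conj (h : G)).toMonoidHom) h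
  have hPK : pCoreOf p M ≤ K := by
    have := hle ⟨1, H.one_mem⟩
    rwa [conjMap_one] at this
  have hKH : K ≤ H := by
    rw [hK]
    apply iSup_le
    intro h
    rintro _ ⟨x, hx, rfl⟩
    simp only [MulEquiv.coe_toMonoidHom, MulAut.conj_apply]
    exact H.mul_mem (H.mul_mem h.2 (hPH hx)) (H.inv_mem h.2)
  have hHK : H ≤ Subgroup.normalizer (K : Set G) := by
    intro r hr
    apply mem_normalizer_of_map_conj_le
    rw [hK, Subgroup.map_iSup]
    apply iSup_le
    intro w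
    rw [← conjMap_mul, ← hK]
    exact hle ⟨r * w, H.mul_mem hr w.2⟩
  have hKeq : K = H := frakH_eq_of_invariant hH hPK hKH hHK
  intro q hq
  rw [← hKeq]
  apply mem_normalizer_of_map_conj_le
  rw [hK, Subgroup.map_iSup]
  apply iSup_le
  intro h
  rw [← conjMap_mul, ← hK]
  have hq' : (h : G)⁻¹ * q * (h : G) ∈ Q₁ := by
    have := (Subgroup.mem_normalizer_iff.mp (hHQ (H.inv_mem h.2)) q).mp hq
    rwa [inv_inv] at this
  have e : q * (h : G) = (h : G) * ((h : G)⁻¹ * q * (h : G)) := by group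
  rw [e, conjMap_mul, map_conj_eq_of_mem_normalizer (hQP hq')]
  exact hle h

/-- `O^p(H) = O^p(H·Q₁)` for a `p`-group `Q₁` normalizing `H`. -/
theorem pResidual_sup_eq {H Q₁ : Subgroup G} (hQp₁ : IsPGroup p Q₁)
    (hQH : Q₁ ≤ Subgroup.normalizer (H : Set G)) :
    (pResidual p ↥H).map H.subtype =
      (pResidual p ↥(H ⊔ Q₁)).map (H ⊔ Q₁).subtype := by
  rw [map_subtype_pResidual, map_subtype_pResidual]
  congr 1
  ext a
  constructor
  · rintro ⟨haH, hc⟩
    exact ⟨Subgroup.mem_sup_left haH, hc⟩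
  · rintro ⟨ha, hc⟩
    exact ⟨mem_of_coprime_of_mem_sup_pgroup hQp₁ hQH ha hc, hc⟩

/-- `H·Q₁` is `p`-irreducible for `H ∈ ℌ` and a `p`-group `Q₁` with `H` and `Q₁` normalizing
each other. -/
theorem isPIrreducible_sup {M H Q₁ : Subgroup G} (hH : IsInFrakH p M H) (hQp₁ : IsPGroup p Q₁)
    (hHQ : H ≤ Subgroup.normalizer (Q₁ : Set G)) (hQH : Q₁ ≤ Subgroup.normalizer (H : Set G)) :
    IsPIrreducible p ↥(H ⊔ Q₁) := by
  have hPH : pCoreOf p M ≤ H := hH.2.1
  have hYH : ¬ largestPReducedOf p M ≤ pCoreOf p H := hH.2.2.1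
  have hYP := (largestPReducedOf_props (p := p) M).1
  have hH₁Q : H ⊔ Q₁ ≤ Subgroup.normalizer (Q₁ : Set G) := sup_le hHQ Subgroup.le_normalizer
  refine ⟨?_, ?_⟩
  · intro hcl
    have h1 : pCoreOf p M ≤ pCoreOf p (H ⊔ Q₁) :=
      le_pCoreOf_of_isPClosed hcl (hPH.trans le_sup_left) (pCoreOf_isPGroup M)
    have h2 : pCoreOf p (H ⊔ Q₁) ⊓ H ≤ pCoreOf p H := by
      apply le_pCoreOf inf_le_right _ ((pCoreOf_isPGroup _).to_le inf_le_left)
      intro x hx
      exact mem_normalizer_inf (le_normalizer_pCoreOf (H ⊔ Q₁) (Subgroup.mem_sup_left hx))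
        (Subgroup.le_normalizer hx)
    exact hYH ((le_inf (hYP.trans h1) (hYP.trans hPH)).trans h2)
  · intro N hN hNcl
    obtain ⟨N', hN'⟩ : ∃ N' : Subgroup G, N' = N.map (H ⊔ Q₁).subtype := ⟨_, rfl⟩
    have hN'le : N' ≤ H ⊔ Q₁ := by rw [hN']; exact Subgroup.map_subtype_le _
    have hH₁N' : H ⊔ Q₁ ≤ Subgroup.normalizer (N' : Set G) := by
      intro x hx
      apply mem_normalizer_of_map_conj_le
      rw [hN']
      rintro _ ⟨_, ⟨n, hn, rfl⟩, rfl⟩
      refine ⟨⟨x, hx⟩ * n * ⟨x, hx⟩⁻¹, hN.conj_mem n hn _, by simp [MulAut.conj_apply]⟩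
    have hN'cl : ¬ IsPClosed p ↥N' := by
      intro hcl
      apply hNcl
      have e : ↥N ≃* ↥N' := by
        rw [hN']
        exact Subgroup.equivMapOfInjective N (H ⊔ Q₁).subtype (H ⊔ Q₁).subtype_injective
      exact isPClosed_of_mulEquiv e.symm hcl
    have hgoal : (pResidual p ↥(H ⊔ Q₁)).map (H ⊔ Q₁).subtype ≤ N' := by
      -- N'' := (N' ⊔ Q₁) ⊓ H
      have hHN'' : H ≤ Subgroup.normalizer (((N' ⊔ Q₁) ⊓ H : Subgroup G) : Set G) := fun x hx =>
        mem_normalizer_inf (mem_normalizer_sup (hH₁N' (Subgroup.mem_sup_left hx)) (hHQ hx))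
          (Subgroup.le_normalizer hx)
      have hQN'' : Q₁ ≤ Subgroup.normalizer (((N' ⊔ Q₁) ⊓ H : Subgroup G) : Set G) := fun x hx =>
        mem_normalizer_inf (mem_normalizer_sup (hH₁N' (Subgroup.mem_sup_right hx))
          (Subgroup.le_normalizer hx)) (hQH hx)
      have hH₁N'' : H ⊔ Q₁ ≤ Subgroup.normalizer (((N' ⊔ Q₁) ⊓ H : Subgroup G) : Set G) :=
        sup_le hHN'' hQN''
      have hN''cl : ¬ IsPClosed p ↥((N' ⊔ Q₁) ⊓ H : Subgroup G) := by
        intro hcl''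
        apply hN'cl
        apply isPClosed_of_forall_le_pCoreOf
        intro R hRN' hR
        -- E := O_p(N'') ⊔ Q₁
        have hEp : IsPGroup p (pCoreOf p ((N' ⊔ Q₁) ⊓ H) ⊔ Q₁ : Subgroup G) :=
          (pCoreOf_isPGroup _).to_sup_of_normal_right' hQp₁
            (((pCoreOf_le _).trans inf_le_right).trans hHQ)
        have hH₁E : H ⊔ Q₁ ≤ Subgroup.normalizer
            ((pCoreOf p ((N' ⊔ Q₁) ⊓ H) ⊔ Q₁ : Subgroup G) : Set G) := fun x hx =>
          mem_normalizer_sup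
            (Cfsg.Agent.Lib.Helper17.normalizer_le_normalizer_pCoreOf _ (hH₁N'' hx)) (hH₁Q hx)
        have hEN' : (pCoreOf p ((N' ⊔ Q₁) ⊓ H) ⊔ Q₁) ⊓ N' ≤ pCoreOf p N' := by
          apply le_pCoreOf inf_le_right _ (hEp.to_le inf_le_left)
          intro x hx
          exact mem_normalizer_inf (hH₁E (hN'le hx)) (Subgroup.le_normalizer hx)
        have hRQp : IsPGroup p (R ⊔ Q₁ : Subgroup G) :=
          hR.to_sup_of_normal_right' hQp₁ ((hRN'.trans hN'le).trans hH₁Q)
        refine le_trans ?_ hEN'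
        refine le_inf ?_ hRN'
        intro t ht
        have htH₁ : t ∈ Q₁ ⊔ H := by
          rw [sup_comm]; exact hN'le (hRN' ht)
        obtain ⟨q, hq, h, hh, rfl⟩ := (mem_sup_of_le_normalizer hHQ).mp htH₁
        have hhe : h = q⁻¹ * (q * h) := by group
        have hhN'' : h ∈ (N' ⊔ Q₁) ⊓ H := by
          refine Subgroup.mem_inf.mpr ⟨?_, hh⟩
          rw [hhe]
          exact Subgroup.mul_mem _ (Subgroup.mem_sup_right (Q₁.inv_mem hq))
            (Subgroup.mem_sup_left (hRN' ht))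
        have hhRQ : h ∈ R ⊔ Q₁ := by
          rw [hhe]
          exact Subgroup.mul_mem _ (Subgroup.mem_sup_right (Q₁.inv_mem hq))
            (Subgroup.mem_sup_left ht)
        have hzp : IsPGroup p (Subgroup.zpowers h) :=
          hRQp.to_le (by rw [Subgroup.zpowers_le]; exact hhRQ)
        have hzle : Subgroup.zpowers h ≤ (N' ⊔ Q₁) ⊓ H := by
          rw [Subgroup.zpowers_le]; exact hhN''
        have hhD : h ∈ pCoreOf p ((N' ⊔ Q₁) ⊓ H) :=
          le_pCoreOf_of_isPClosed hcl'' hzle hzp (Subgroup.mem_zpowers h)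
        exact Subgroup.mul_mem _ (Subgroup.mem_sup_right hq) (Subgroup.mem_sup_left hhD)
      have h1 : (pResidual p ↥H).map H.subtype ≤ (N' ⊔ Q₁) ⊓ H :=
        frakH_pResidual_le hH inf_le_right hHN'' hN''cl
      rw [← pResidual_sup_eq hQp₁ hQH]
      intro a ha
      have ha' := ha
      rw [map_subtype_pResidual] at ha'
      -- closure induction: show the closure is ≤ N'
      have h2 : Subgroup.closure {x : G | x ∈ H ∧ (orderOf x).Coprime p} ≤ N' := by
        rw [Subgroup.closure_le]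
        rintro x ⟨hxH, hxc⟩
        have hx1 : x ∈ (pResidual p ↥H).map H.subtype := by
          rw [map_subtype_pResidual]
          exact Subgroup.subset_closure ⟨hxH, hxc⟩
        have hx2 : x ∈ N' ⊔ Q₁ := (h1 hx1).1
        exact mem_of_coprime_of_mem_sup_pgroup hQp₁
          ((le_sup_right : Q₁ ≤ H ⊔ Q₁).trans hH₁N') hx2 hxc
      exact h2 ha'
    intro a ha
    have h3 : (a : G) ∈ N' := hgoal ⟨a, ha, rfl⟩
    rw [hN'] at h3
    obtain ⟨b, hb, hba⟩ := h3
    have : b = a := Subtype.ext hba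
    rwa [← this]

end aux


/-- Standing hypotheses: G a finite group, S a Sylow p-subgroup, Q a nontrivial large p-subgroup of G contained in S, M a subgroup containing S with the basic property (M ∈ 𝔐_G(S)); Y_M the largest p-reduced normal subgroup of M and M† = M·C_G(Y_M). Suppose Y_M is asymmetric in G, H ∈ ℌ_G(O_p(M)), and H ≤ N_G(gQg⁻¹) for some g ∈ G. Then gQg⁻¹ ≤ O_p(H·gQg⁻¹) ≤ N_G(O_p(M)) ≤ N_G(Y_M) = M†; H is normal in H·gQg⁻¹ with O^p(H) = O^p(H·gQg⁻¹); and H·gQg⁻¹ is p-irreducible. -/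
theorem result {G : Type*} [Group G] [Finite G] {p : ℕ} [Fact p.Prime] (S : Sylow p G) (Q : Subgroup G) (hQp : IsPGroup p ↥Q) (hQ1 : Q ≠ ⊥) (hQS : Q ≤ (S : Subgroup G)) (hQ : Cfsg.IsLarge Q) (M : Subgroup G) (hSM : (S : Subgroup G) ≤ M) (hM : Cfsg.IsInFrakM p M) (hasym : ¬ Cfsg.IsSymmetricIn (Cfsg.largestPReducedOf p M)) (H : Subgroup G) (hH : Cfsg.IsInFrakH p M H) (g : G) (hHQ : H ≤ Subgroup.normalizer ((((Q : Subgroup G).map (MulAut.conj (g : G)).toMonoidHom) : Subgroup G) : Set G)) : ((Q : Subgroup G).map (MulAut.conj (g : G)).toMonoidHom) ≤ Cfsg.pCoreOf p (H ⊔ ((Q : Subgroup G).map (MulAut.conj (g : G)).toMonoidHom)) ∧ Cfsg.pCoreOf p (H ⊔ ((Q : Subgroup G).map (MulAut.conj (g : G)).toMonoidHom)) ≤ Subgroup.normalizer (((Cfsg.pCoreOf p M) : Subgroup G) : Set G) ∧ Subgroup.normalizer (((Cfsg.pCoreOf p M) : Subgroup G) : Set G) ≤ Subgroup.normalizer (((Cfsg.largestPReducedOf p M) : Subgroup G) : Set G) ∧ Subgroup.normalizer (((Cfsg.largestPReducedOf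 p M) : Subgroup G) : Set G) = (M ⊔ Subgroup.centralizer (((Cfsg.largestPReducedOf p M) : Subgroup G) : Set G)) ∧ (H.subgroupOf (H ⊔ ((Q : Subgroup G).map (MulAut.conj (g : G)).toMonoidHom))).Normal ∧ (Cfsg.pResidual p ↥H).map H.subtype = (Cfsg.pResidual p ↥(H ⊔ ((Q : Subgroup G).map (MulAut.conj (g : G)).toMonoidHom))).map (H ⊔ ((Q : Subgroup G).map (MulAut.conj (g : G)).toMonoidHom)).subtype ∧ Cfsg.IsPIrreducible p ↥(H ⊔ ((Q : Subgroup G).map (MulAut.conj (g : G)).toMonoidHom)) := by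
  have h := asymSetup_of S Q hQp hQ1 hQ M hSM hM hasym
  have hPH : pCoreOf p M ≤ H := hH.2.1
  have hPp : IsPGroup p (pCoreOf p M) := pCoreOf_isPGroup M
  have hQp₁ : IsPGroup p (Q.map (MulAut.conj g).toMonoidHom) := hQp.map _
  have h1 : Q.map (MulAut.conj g).toMonoidHom ≤
      pCoreOf p (H ⊔ Q.map (MulAut.conj g).toMonoidHom) :=
    le_pCoreOf le_sup_right (sup_le hHQ Subgroup.le_normalizer) hQp₁
  have h2 : pCoreOf p (H ⊔ Q.map (MulAut.conj g).toMonoidHom) ≤
      Subgroup.normalizer ((pCoreOf p M : Subgroup G) : Set G) := by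
    have hUp : IsPGroup p (pCoreOf p M ⊔ pCoreOf p (H ⊔ Q.map (MulAut.conj g).toMonoidHom) :
        Subgroup G) :=
      hPp.to_sup_of_normal_right' (pCoreOf_isPGroup _)
        ((hPH.trans le_sup_left).trans (le_normalizer_pCoreOf _))
    exact le_sup_right.trans (h.le_normalizer_pCoreOf_of_isPGroup hUp le_sup_left)
  have h3 : Subgroup.normalizer ((pCoreOf p M : Subgroup G) : Set G) ≤
      Subgroup.normalizer ((largestPReducedOf p M : Subgroup G) : Set G) :=
    h.normalizer_pCoreOf_le_dagger.trans h.dagger_le_normalizer_largest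
  have h4 : Subgroup.normalizer ((largestPReducedOf p M : Subgroup G) : Set G) =
      M ⊔ Subgroup.centralizer ((largestPReducedOf p M : Subgroup G) : Set G) := by
    apply le_antisymm _ h.dagger_le_normalizer_largest
    apply h.hdag _ h.le_normalizer_largest
    have hMchar : IsCharPSub p M := inf_le_right.trans (mem_charPSubgroups_iff.mp hM.1).2
    have hY1 : largestPReducedOf p M ≠ ⊥ := largestPReducedOf_ne_bot S hSM hMchar h.pCoreOf_ne_bot
    exact pCoreOf_ne_bot_of_le Subgroup.le_normalizer le_rfl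
      (hPp.to_le h.largest_le_pCoreOf) hY1
  have hQP : Q.map (MulAut.conj g).toMonoidHom ≤
      Subgroup.normalizer ((pCoreOf p M : Subgroup G) : Set G) := h1.trans h2
  have hQH := le_normalizer_frakH hH hHQ hQP
  refine ⟨h1, h2, h3, h4, ?_, pResidual_sup_eq hQp₁ hQH, isPIrreducible_sup hH hQp₁ hHQ hQH⟩
  exact (Subgroup.normal_subgroupOf_iff_le_normalizer le_sup_left).2
    (sup_le Subgroup.le_normalizer hQH)

end Cfsg.Agent.S2854
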