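import Mathlib
import Cfsg.Statements.S2859
import Cfsg.Agent.S2840
import Cfsg.Agent.Lib.Helper17.CharP
import Cfsg.Agent.Lib.Helper17.CoprimeGen
import Cfsg.Agent.Lib.Helper17.PResidual
import Cfsg.Agent.Lib.Helper17.WeaklyClosed

set_option autoImplicit false
open Cfsg

namespace Cfsg.Agent.S2859

open Cfsg.Agent.Lib.Helper17 Cfsg.Agent.Lib.Helper9
open scoped commutatorElement Pointwise

section aux

variable {G : Type*} [Group G]

/-- The "centralizer of `C` modulo `N`", inside `N_G(N)`. -/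
def cmod (N C : Subgroup G) : Subgroup G where
  carrier := {g | g ∈ Subgroup.normalizer (N : Set G) ∧ ∀ c ∈ C, ⁅g, c⁆ ∈ N}
  one_mem' := ⟨one_mem _, fun c _ => by rw [commutatorElement_one_left]; exact N.one_mem⟩
  mul_mem' := @fun a b h1 h2 => by
    obtain ⟨ha, ha'⟩ := h1
    obtain ⟨hb, hb'⟩ := h2
    refine ⟨mul_mem ha hb, fun c hc => ?_⟩
    have e : ⁅a * b, c⁆ = (a * ⁅b, c⁆ * a⁻¹) * ⁅a, c⁆ := by
      simp only [commutatorElement_def]; group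
    rw [e]
    exact N.mul_mem ((Subgroup.mem_normalizer_iff.mp ha _).mp (hb' c hc)) (ha' c hc)
  inv_mem' := @fun a h1 => by
    obtain ⟨ha, ha'⟩ := h1
    refine ⟨inv_mem ha, fun c hc => ?_⟩
    have e : ⁅a⁻¹, c⁆ = a⁻¹ * (⁅a, c⁆)⁻¹ * a⁻¹⁻¹ := by
      simp only [commutatorElement_def]; group
    rw [e]
    exact (Subgroup.mem_normalizer_iff.mp (inv_mem ha) _).mp (N.inv_mem (ha' c hc))

theorem mem_cmod {N C : Subgroup G} {g : G} :
    g ∈ cmod N C ↔ g ∈ Subgroup.normalizer (N : Set G) ∧ ∀ c ∈ C, ⁅g, c⁆ ∈ N := Iff.rfl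

theorem commutator_le_of_le_cmod {N C A : Subgroup G} (h : A ≤ cmod N C) : ⁅A, C⁆ ≤ N := by
  rw [Subgroup.commutator_le]
  intro a ha c hc
  exact (mem_cmod.mp (h ha)).2 c hc

theorem le_cmod_of_commutator_le {N C A : Subgroup G}
    (hA : A ≤ Subgroup.normalizer (N : Set G)) (h : ⁅A, C⁆ ≤ N) : A ≤ cmod N C := fun a ha =>
  mem_cmod.mpr ⟨hA ha, fun c hc => h (Subgroup.commutator_mem_commutator ha hc)⟩

theorem mem_normalizer_cmod [Finite G] {N C : Subgroup G} {x : G}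
    (hN : x ∈ Subgroup.normalizer (N : Set G)) (hC : x ∈ Subgroup.normalizer (C : Set G)) :
    x ∈ Subgroup.normalizer (cmod N C : Set G) := by
  apply mem_normalizer_of_map_conj_le
  rintro _ ⟨g, hg0, rfl⟩
  obtain ⟨hg, hg'⟩ := mem_cmod.mp hg0
  simp only [MulEquiv.coe_toMonoidHom, MulAut.conj_apply]
  refine mem_cmod.mpr ⟨mul_mem (mul_mem hN hg) (inv_mem hN), fun c hc => ?_⟩
  have hc' : x⁻¹ * c * x⁻¹⁻¹ ∈ C := (Subgroup.mem_normalizer_iff.mp (inv_mem hC) c).mp hc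
  have e : ⁅x * g * x⁻¹, c⁆ = x * ⁅g, x⁻¹ * c * x⁻¹⁻¹⁆ * x⁻¹ := by
    simp only [commutatorElement_def]; group
  rw [e]
  exact (Subgroup.mem_normalizer_iff.mp hN _).mp (hg' _ hc')

/-- Three subgroups lemma modulo a subgroup `N` normalized by everything in sight. -/
theorem three_mod {N A B C : Subgroup G} (hA : A ≤ Subgroup.normalizer (N : Set G))
    (hB : B ≤ Subgroup.normalizer (N : Set G)) (hC : C ≤ Subgroup.normalizer (N : Set G))
    (h1 : ⁅⁅B, C⁆, A⁆ ≤ N) (h2 : ⁅⁅C, A⁆, B⁆ ≤ N) : ⁅A, B⁆ ≤ cmod N C := by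
  rw [Subgroup.commutator_le]
  intro x hx y hy
  have hxN := hA hx
  have hyN := hB hy
  refine mem_cmod.mpr ⟨?_, ?_⟩
  · rw [commutatorElement_def]
    exact mul_mem (mul_mem (mul_mem hxN hyN) (inv_mem hxN)) (inv_mem hyN)
  · intro z hz
    have hzN := hC hz
    have ha : ⁅y, ⁅z⁻¹, x⁻¹⁆⁆ ∈ N := by
      have := h2 (Subgroup.commutator_mem_commutator
        (Subgroup.commutator_mem_commutator (C.inv_mem hz) (A.inv_mem hx)) hy)
      have e : ⁅y, ⁅z⁻¹, x⁻¹⁆⁆ = (⁅⁅z⁻¹, x⁻¹⁆, y⁆)⁻¹ := (commutatorElement_inv _ _).symm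
      rw [e]; exact N.inv_mem this
    have hb : ⁅x⁻¹, ⁅y⁻¹, z⁆⁆ ∈ N := by
      have := h1 (Subgroup.commutator_mem_commutator
        (Subgroup.commutator_mem_commutator (B.inv_mem hy) hz) (A.inv_mem hx))
      have e : ⁅x⁻¹, ⁅y⁻¹, z⁆⁆ = (⁅⁅y⁻¹, z⁆, x⁻¹⁆)⁻¹ := (commutatorElement_inv _ _).symm
      rw [e]; exact N.inv_mem this
    have e : ⁅⁅x, y⁆, z⁆ = ((x * y) * ⁅x⁻¹, ⁅y⁻¹, z⁆⁆ * (x * y)⁻¹) *
        ((x * z) * ⁅y, ⁅z⁻¹, x⁻¹⁆⁆ * (x * z)⁻¹) := by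
      simp only [commutatorElement_def]; group
    rw [e]
    exact N.mul_mem ((Subgroup.mem_normalizer_iff.mp (mul_mem hxN hyN) _).mp hb)
      ((Subgroup.mem_normalizer_iff.mp (mul_mem hxN hzN) _).mp ha)

/-! ### `O^p` inside the ambient group -/

/-- `O^p(L)` inside the ambient group. -/
def Op (p : ℕ) (L : Subgroup G) : Subgroup G :=
  Subgroup.closure {x : G | x ∈ L ∧ (orderOf x).Coprime p}

theorem Op_le (p : ℕ) (L : Subgroup G) : Op p L ≤ L := by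
  unfold Op; rw [Subgroup.closure_le]; rintro x ⟨hx, -⟩; exact hx

theorem Op_mono (p : ℕ) {L M : Subgroup G} (h : L ≤ M) : Op p L ≤ Op p M := by
  unfold Op; apply Subgroup.closure_mono; rintro x ⟨hx, hc⟩; exact ⟨h hx, hc⟩

theorem mem_Op {p : ℕ} {L : Subgroup G} {x : G} (hx : x ∈ L) (hc : (orderOf x).Coprime p) :
    x ∈ Op p L :=
  Subgroup.subset_closure ⟨hx, hc⟩

theorem normalizer_le_normalizer_Op (p : ℕ) (L : Subgroup G) :
    Subgroup.normalizer (L : Set G) ≤ Subgroup.normalizer (Op p L : Set G) :=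
  normalizer_le_normalizer_closure_coprime (p := p) L

theorem Op_sup_le [Finite G] {p : ℕ} [Fact p.Prime] {M P : Subgroup G} (hP : IsPGroup p P)
    (hPM : P ≤ Subgroup.normalizer (M : Set G)) : Op p (M ⊔ P) ≤ M := by
  unfold Op; rw [Subgroup.closure_le]; rintro x ⟨hx, hc⟩
  exact mem_of_coprime_of_mem_sup_pgroup hP hPM hx hc

theorem Op_idem (p : ℕ) (L : Subgroup G) : Op p (Op p L) = Op p L := by
  apply le_antisymm (Op_le p _)
  have : Subgroup.closure {x : G | x ∈ L ∧ (orderOf x).Coprime p} ≤ Op p (Op p L) := by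
    rw [Subgroup.closure_le]
    rintro x ⟨hx, hc⟩
    exact mem_Op (mem_Op hx hc) hc
  exact this

theorem pResidual_map_eq (p : ℕ) (L : Subgroup G) :
    (pResidual p ↥L).map L.subtype = Op p L :=
  map_subtype_pResidual L

theorem le_of_Op_eq [Finite G] {p : ℕ} [Fact p.Prime] {K M P : Subgroup G} (hK : Op p K = K)
    (hKM : K ≤ M ⊔ P) (hP : IsPGroup p P) (hPM : P ≤ Subgroup.normalizer (M : Set G)) :
    K ≤ M :=
  calc K = Op p K := hK.symm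
    _ ≤ Op p (M ⊔ P) := Op_mono p hKM
    _ ≤ M := Op_sup_le hP hPM

theorem conj_le_of_Op_eq [Finite G] {p : ℕ} [Fact p.Prime] {K R : Subgroup G} {y : G}
    (hK : Op p K = K) (hRp : IsPGroup p R) (hRK : R ≤ Subgroup.normalizer (K : Set G))
    (h : ∀ x ∈ K, y * x * y⁻¹ ∈ K ⊔ R) : K.map (MulAut.conj y).toMonoidHom ≤ K := by
  have : (Op p K).map (MulAut.conj y).toMonoidHom ≤ K := by
    unfold Op
    rw [MonoidHom.map_closure, Subgroup.closure_le]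
    rintro _ ⟨x, ⟨hx, hc⟩, rfl⟩
    simp only [MulEquiv.coe_toMonoidHom, MulAut.conj_apply]
    have hc' : (orderOf (y * x * y⁻¹)).Coprime p := by
      rw [show y * x * y⁻¹ = MulAut.conj y x from rfl, MulEquiv.orderOf_eq]; exact hc
    exact mem_of_coprime_of_mem_sup_pgroup hRp hRK (h x hx) hc'
  rwa [hK] at this

/-- A `p`-subgroup `Q ≤ L` lies in a `p`-subgroup `P ≤ L` with `L = O^p(L) P`. -/
theorem exists_pgroup_sup_Op [Finite G] {p : ℕ} [Fact p.Prime] {Q L : Subgroup G}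
    (hQp : IsPGroup p Q) (hQL : Q ≤ L) :
    ∃ P : Subgroup G, IsPGroup p P ∧ Q ≤ P ∧ P ≤ L ∧ Op p L ⊔ P = L := by
  have hQ' : IsPGroup p (Q.subgroupOf L) := hQp.comap_subtype
  obtain ⟨S, hS⟩ := hQ'.exists_le_sylow
  refine ⟨(S : Subgroup L).map L.subtype, S.2.map _, ?_, Subgroup.map_subtype_le _, ?_⟩
  · have := Subgroup.map_mono (f := L.subtype) hS
    rwa [Subgroup.map_subgroupOf_eq_of_le hQL] at this
  · rw [← pResidual_map_eq, ← Subgroup.map_sup, sup_comm, sylow_sup_pResidual S,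
      ← MonoidHom.range_eq_map, Subgroup.range_subtype]

/-! ### Weak closures -/

theorem wc_le_self (Q L : Subgroup G) : weakClosure Q L ≤ L := by
  unfold weakClosure; apply iSup_le; rintro ⟨g, hg⟩; exact hg

theorem conj_le_wc {Q L : Subgroup G} {g : G} (h : Q.map (MulAut.conj g).toMonoidHom ≤ L) :
    Q.map (MulAut.conj g).toMonoidHom ≤ weakClosure Q L :=
  le_iSup (fun g : {g : G // Q.map (MulAut.conj g).toMonoidHom ≤ L} =>
      Q.map (MulAut.conj (g : G)).toMonoidHom) ⟨g, h⟩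

theorem le_wc {Q L : Subgroup G} (h : Q ≤ L) : Q ≤ weakClosure Q L := by
  have h1 : Q.map (MulAut.conj (1 : G)).toMonoidHom ≤ L := by rw [conjMap_one]; exact h
  have := conj_le_wc h1
  rwa [conjMap_one] at this

theorem wc_idem (Q L : Subgroup G) : weakClosure Q (weakClosure Q L) = weakClosure Q L := by
  apply le_antisymm (wc_le_self Q _)
  have : (⨆ g : {g : G // Q.map (MulAut.conj g).toMonoidHom ≤ L},
      Q.map (MulAut.conj (g : G)).toMonoidHom) ≤ weakClosure Q (weakClosure Q L) := by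
    apply iSup_le
    rintro ⟨g, hg⟩
    exact conj_le_wc (conj_le_wc hg)
  exact this

theorem le_normalizer_wc [Finite G] (Q K : Subgroup G) :
    K ≤ Subgroup.normalizer (weakClosure Q K : Set G) := by
  intro k hk
  apply mem_normalizer_of_map_conj_le
  unfold weakClosure
  rw [Subgroup.map_iSup]
  apply iSup_le
  rintro ⟨g, hg⟩
  have e : (Q.map (MulAut.conj g).toMonoidHom).map (MulAut.conj k).toMonoidHom =
      Q.map (MulAut.conj (k * g)).toMonoidHom := (conjMap_mul Q k g).symm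
  have hkg : Q.map (MulAut.conj (k * g)).toMonoidHom ≤ K := by
    rw [← e]
    rintro _ ⟨x, hx, rfl⟩
    simp only [MulEquiv.coe_toMonoidHom, MulAut.conj_apply]
    exact K.mul_mem (K.mul_mem hk (hg hx)) (K.inv_mem hk)
  change (Q.map (MulAut.conj g).toMonoidHom).map (MulAut.conj k).toMonoidHom ≤ _
  rw [e]
  exact le_iSup (fun g : {g : G // Q.map (MulAut.conj g).toMonoidHom ≤ K} =>
    Q.map (MulAut.conj (g : G)).toMonoidHom) ⟨k * g, hkg⟩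

/-- The weak closure `X` of a weakly closed `Q` in `L ≥ Q` is the normal closure of `Q` in `X`. -/
theorem wc_le_of_normal [Finite G] {p : ℕ} [Fact p.Prime] {Q : Subgroup G} (hQp : IsPGroup p Q)
    (hQ1 : Q ≠ ⊥) (hwc : IsWeaklyClosedSubgroup p Q) {L : Subgroup G} (hQL : Q ≤ L)
    {Y : Subgroup G} (hQY : Q ≤ Y)
    (hXY : weakClosure Q L ≤ Subgroup.normalizer (Y : Set G)) : weakClosure Q L ≤ Y := by
  have h := (Cfsg.Agent.S2840.result Q hQp hQ1 hwc (weakClosure Q L) (le_wc hQL)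
    (weakClosure Q L) (wc_idem Q L).symm).1
  refine le_trans (le_of_eq h) ?_
  apply iSup_le
  rintro ⟨k, hk⟩
  change Q.map (MulAut.conj k).toMonoidHom ≤ Y
  have := conjMap_mono hQY k
  rwa [map_conj_eq_of_mem_normalizer (hXY hk)] at this

/-- Structure of a subgroup `X` that is the normal closure in itself of a weakly closed `Q`. -/
theorem gen_structure [Finite G] {p : ℕ} [Fact p.Prime] {Q X : Subgroup G} {T : Sylow p G}
    (hQp : IsPGroup p Q) (hT : IsWeaklyClosed Q (T : Subgroup G)) (hQX : Q ≤ X)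
    (hgen : ∀ Y : Subgroup G, Q ≤ Y → X ≤ Subgroup.normalizer (Y : Set G) → X ≤ Y) :
    X = Op p X ⊔ Q ∧ ⁅Op p X, Q⁆ = Op p X := by
  have hNX : Op p X ≤ X := Op_le p X
  have hXN : X ≤ Subgroup.normalizer (Op p X : Set G) :=
    Subgroup.le_normalizer.trans (normalizer_le_normalizer_Op p X)
  have hF3 : X ≤ Op p X ⊔ Q := by
    obtain ⟨P, hPp, hQP, hPX, hNP⟩ := exists_pgroup_sup_Op hQp hQX
    have hPQ : P ≤ Subgroup.normalizer (Q : Set G) :=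
      Subgroup.le_normalizer.trans (IsWeaklyClosed.normalizer_le hT hPp hQP)
    apply hgen _ le_sup_right
    have h1 : Op p X ⊔ P ≤ Subgroup.normalizer ((Op p X ⊔ Q : Subgroup G) : Set G) := by
      apply sup_le
      · exact le_sup_left.trans Subgroup.le_normalizer
      · intro x hx
        exact mem_normalizer_sup (hXN (hPX hx)) (hPQ hx)
    rwa [hNP] at h1
  have hQN : Q ≤ Subgroup.normalizer (Op p X : Set G) := hQX.trans hXN
  have hMN : ⁅Op p X, Q⁆ ≤ Op p X := by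
    rw [Subgroup.commutator_le]
    intro n hn q hq
    have := (Subgroup.mem_normalizer_iff.mp (hQN hq) n⁻¹).mp (inv_mem hn)
    have e : ⁅n, q⁆ = n * (q * n⁻¹ * q⁻¹) := by rw [commutatorElement_def]; group
    rw [e]; exact mul_mem hn this
  have hNM : Op p X ≤ Subgroup.normalizer ((⁅Op p X, Q⁆ : Subgroup G) : Set G) :=
    le_normalizer_commutator_left _ _
  have hQM : Q ≤ Subgroup.normalizer ((⁅Op p X, Q⁆ : Subgroup G) : Set G) :=
    le_normalizer_commutator_right _ _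
  have hXMQ : X ≤ ⁅Op p X, Q⁆ ⊔ Q := by
    apply hgen _ le_sup_right
    refine hF3.trans (sup_le ?_ ?_)
    · intro n hn
      apply mem_normalizer_of_map_conj_le
      rw [Subgroup.map_sup, map_conj_eq_of_mem_normalizer (hNM hn)]
      apply sup_le le_sup_left
      rintro _ ⟨q, hq, rfl⟩
      simp only [MulEquiv.coe_toMonoidHom, MulAut.conj_apply]
      have e : n * q * n⁻¹ = ⁅n, q⁆ * q := by rw [commutatorElement_def]; group
      rw [e]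
      exact mul_mem (Subgroup.mem_sup_left (Subgroup.commutator_mem_commutator hn hq))
        (Subgroup.mem_sup_right hq)
    · intro q hq
      exact mem_normalizer_sup (hQM hq) (Subgroup.le_normalizer hq)
  have hle : Op p X ≤ ⁅Op p X, Q⁆ :=
    (Op_mono p hXMQ).trans (Op_sup_le hQp hQM)
  exact ⟨le_antisymm hF3 (sup_le hNX hQX), le_antisymm hMN hle⟩

/-- One half of the statement. -/
theorem half [Finite G] {p : ℕ} [Fact p.Prime] (Q : Subgroup G) (hQp : IsPGroup p ↥Q)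
    (hQ1 : Q ≠ ⊥) (hwc : IsWeaklyClosedSubgroup p Q) (Hc : Subgroup G)
    (hHc : Hc = weakClosure Q ⊤) (H₁ H₂ : Subgroup G)
    (hn₁ : H₁ ≤ Hc ∧ Hc ≤ Subgroup.normalizer ((H₁ : Subgroup G) : Set G))
    (hn₂ : H₂ ≤ Hc ∧ Hc ≤ Subgroup.normalizer ((H₂ : Subgroup G) : Set G))
    (hprod : H₁ ⊔ H₂ = Hc)
    (hcomm : ⁅H₁, H₂⁆ ≤ Subgroup.normalizer ((Q : Subgroup G) : Set G))
    (X₁ K₁ : Subgroup G) (hX₁ : X₁ = weakClosure Q (H₁ ⊔ Q)) (hK₁ : K₁ = Op p X₁) :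
    ⁅K₁, Q⁆ = K₁ ∧ ⁅K₁, H₁⁆ = K₁ ∧ K₁ ≤ ⁅H₁, H₁⁆ ∧
      Hc ≤ Subgroup.normalizer (K₁ : Set G) ∧ K₁ ≤ H₁ ∧ ⁅K₁, H₂⁆ ≤ pCoreOf p Hc ∧
      X₁ = K₁ ⊔ Q ∧ K₁ ≤ Op p Hc := by
  obtain ⟨T, hT⟩ := hwc
  have hwc' : IsWeaklyClosedSubgroup p Q := ⟨T, hT⟩
  have hQHc : Q ≤ Hc := by rw [hHc]; exact le_wc le_top
  have hgenHc : ∀ Y : Subgroup G, Q ≤ Y → Hc ≤ Subgroup.normalizer (Y : Set G) → Hc ≤ Y := by
    intro Y hQY hY
    rw [hHc] at hY ⊢
    exact wc_le_of_normal hQp hQ1 hwc' le_top hQY hY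
  have hQL₁ : Q ≤ H₁ ⊔ Q := le_sup_right
  have hL₁Hc : H₁ ⊔ Q ≤ Hc := sup_le hn₁.1 hQHc
  have hX₁L₁ : X₁ ≤ H₁ ⊔ Q := by rw [hX₁]; exact wc_le_self Q _
  have hQX₁ : Q ≤ X₁ := by rw [hX₁]; exact le_wc hQL₁
  have hL₁X₁ : H₁ ⊔ Q ≤ Subgroup.normalizer (X₁ : Set G) := by
    rw [hX₁]; exact le_normalizer_wc Q _
  have hK₁X₁ : K₁ ≤ X₁ := by rw [hK₁]; exact Op_le p X₁
  have hX₁K₁ : Subgroup.normalizer (X₁ : Set G) ≤ Subgroup.normalizer (K₁ : Set G) := by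
    rw [hK₁]; exact normalizer_le_normalizer_Op p X₁
  have hK₁Op : Op p K₁ = K₁ := by rw [hK₁]; exact Op_idem p X₁
  have hL₁K₁ : H₁ ⊔ Q ≤ Subgroup.normalizer (K₁ : Set G) := hL₁X₁.trans hX₁K₁
  have hgenX₁ : ∀ Y : Subgroup G, Q ≤ Y → X₁ ≤ Subgroup.normalizer (Y : Set G) → X₁ ≤ Y := by
    intro Y hQY hY
    rw [hX₁] at hY ⊢
    exact wc_le_of_normal hQp hQ1 hwc' hQL₁ hQY hY
  obtain ⟨hF3, hF4⟩ : X₁ = K₁ ⊔ Q ∧ ⁅K₁, Q⁆ = K₁ := by
    rw [hK₁]; exact gen_structure hQp hT hQX₁ hgenX₁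
  have hQH₁ : Q ≤ Subgroup.normalizer (H₁ : Set G) := hQHc.trans hn₁.2
  have hK₁H₁ : K₁ ≤ H₁ := by
    rw [hK₁]; exact (Op_mono p hX₁L₁).trans (Op_sup_le hQp hQH₁)
  have hH₁K₁ : H₁ ≤ Subgroup.normalizer (K₁ : Set G) := le_sup_left.trans hL₁K₁
  -- `D` and `R`
  obtain ⟨D, hD⟩ : ∃ D : Subgroup G, D = ⁅H₁, H₂⁆ := ⟨_, rfl⟩
  rw [← hD] at hcomm
  have hDH₁ : D ≤ H₁ := by
    rw [hD, Subgroup.commutator_le]
    intro a ha b hb
    have := (Subgroup.mem_normalizer_iff.mp (hn₁.2 (hn₂.1 hb)) a⁻¹).mp (inv_mem ha)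
    have e : ⁅a, b⁆ = a * (b * a⁻¹ * b⁻¹) := by rw [commutatorElement_def]; group
    rw [e]; exact mul_mem ha this
  have hDHc : D ≤ Hc := hDH₁.trans hn₁.1
  have hHcD : Hc ≤ Subgroup.normalizer (D : Set G) := by
    intro x hx
    rw [hD]
    exact mem_normalizer_commutator (hn₁.2 hx) (hn₂.2 hx)
  obtain ⟨R, hR⟩ : ∃ R : Subgroup G, R = pCoreOf p D := ⟨_, rfl⟩
  have hRD : R ≤ D := by rw [hR]; exact pCoreOf_le D
  have hRp : IsPGroup p R := by rw [hR]; exact pCoreOf_isPGroup D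
  have hHcR : Hc ≤ Subgroup.normalizer (R : Set G) := by
    rw [hR]; exact hHcD.trans (normalizer_le_normalizer_pCoreOf D)
  have hRcore : R ≤ pCoreOf p Hc := le_pCoreOf (hRD.trans hDHc) hHcR hRp
  have hQD : Q ⊓ D ≤ R := by
    rw [hR]
    apply le_pCoreOf inf_le_right _ (hQp.to_le inf_le_left)
    intro d hd
    exact mem_normalizer_inf (hcomm hd) (Subgroup.le_normalizer hd)
  have hQ_cmod : Q ≤ cmod R D := by
    intro g hg
    refine mem_cmod.mpr ⟨hHcR (hQHc hg), fun d hd => ?_⟩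
    apply hQD
    refine Subgroup.mem_inf.mpr ⟨?_, ?_⟩
    · have := (Subgroup.mem_normalizer_iff.mp (hcomm hd) g⁻¹).mp (inv_mem hg)
      have e : ⁅g, d⁆ = g * (d * g⁻¹ * d⁻¹) := by rw [commutatorElement_def]; group
      rw [e]; exact mul_mem hg this
    · have := (Subgroup.mem_normalizer_iff.mp (hHcD (hQHc hg)) d).mp hd
      rw [commutatorElement_def]; exact mul_mem this (inv_mem hd)
  have hHc_cmod : Hc ≤ cmod R D := by
    apply hgenHc _ hQ_cmod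
    intro x hx
    exact mem_normalizer_cmod (hHcR hx) (hHcD hx)
  have hHcD_R : ⁅Hc, D⁆ ≤ R := commutator_le_of_le_cmod hHc_cmod
  have hH₁R : H₁ ≤ Subgroup.normalizer (R : Set G) := hn₁.1.trans hHcR
  have hH₂R : H₂ ≤ Subgroup.normalizer (R : Set G) := hn₂.1.trans hHcR
  have hD_H₁ : ⁅D, H₁⁆ ≤ R := by
    rw [Subgroup.commutator_comm]; exact (Subgroup.commutator_mono hn₁.1 le_rfl).trans hHcD_R
  have hD_H₂ : ⁅D, H₂⁆ ≤ R := by
    rw [Subgroup.commutator_comm]; exact (Subgroup.commutator_mono hn₂.1 le_rfl).trans hHcD_R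
  have hStepI : ⁅H₁, H₁⁆ ≤ cmod R H₂ := by
    apply three_mod hH₁R hH₁R hH₂R
    · rw [← hD]; exact hD_H₁
    · rw [Subgroup.commutator_comm H₂ H₁, ← hD]; exact hD_H₁
  have hD_cmod : D ≤ cmod R H₂ := le_cmod_of_commutator_le (hDHc.trans hHcR) hD_H₂
  have hQdecomp : ∀ q ∈ Q, ∃ a ∈ H₁, ∃ b ∈ H₂, q = a * b := by
    intro q hq
    have hq' : q ∈ H₁ ⊔ H₂ := by rw [hprod]; exact hQHc hq
    have hmul : ((H₁ ⊔ H₂ : Subgroup G) : Set G) = (H₁ : Set G) * (H₂ : Set G) :=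
      Subgroup.coe_mul_of_right_le_normalizer_left H₁ H₂ (hn₂.1.trans hn₁.2)
    have hq'' : q ∈ ((H₁ ⊔ H₂ : Subgroup G) : Set G) := hq'
    rw [hmul] at hq''
    obtain ⟨a, ha, b, hb, rfl⟩ := Set.mem_mul.mp hq''
    exact ⟨a, ha, b, hb, rfl⟩
  have hkey : ∀ k ∈ K₁, ∀ q ∈ Q, ∃ a ∈ H₁, ∃ b ∈ H₂,
      ⁅k, q⁆ = ⁅k, a⁆ * (a * ⁅k, b⁆ * a⁻¹) := by
    intro k _ q hq
    obtain ⟨a, ha, b, hb, rfl⟩ := hQdecomp q hq
    refine ⟨a, ha, b, hb, ?_⟩
    simp only [commutatorElement_def]; group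
  have hStepII : K₁ ≤ cmod R H₂ := by
    refine le_trans (le_of_eq hF4.symm) ?_
    rw [Subgroup.commutator_le]
    intro k hk q hq
    obtain ⟨a, ha, b, hb, e⟩ := hkey k hk q hq
    rw [e]
    apply mul_mem
    · exact hStepI (Subgroup.commutator_mem_commutator (hK₁H₁ hk) ha)
    · apply hD_cmod
      have hkb : ⁅k, b⁆ ∈ D := by
        rw [hD]; exact Subgroup.commutator_mem_commutator (hK₁H₁ hk) hb
      exact (Subgroup.mem_normalizer_iff.mp (hHcD (hn₁.1 ha)) _).mp hkb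
  -- (b)
  have hMK₁ : ⁅K₁, H₁⁆ ≤ K₁ := by
    rw [Subgroup.commutator_le]
    intro k hk h hh
    have := (Subgroup.mem_normalizer_iff.mp (hH₁K₁ hh) k⁻¹).mp (inv_mem hk)
    have e : ⁅k, h⁆ = k * (h * k⁻¹ * h⁻¹) := by rw [commutatorElement_def]; group
    rw [e]; exact mul_mem hk this
  have hH₁M : H₁ ≤ Subgroup.normalizer ((⁅K₁, H₁⁆ : Subgroup G) : Set G) :=
    le_normalizer_commutator_right K₁ H₁
  have hRM : R ≤ Subgroup.normalizer ((⁅K₁, H₁⁆ : Subgroup G) : Set G) :=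
    (hRD.trans hDH₁).trans hH₁M
  have hK₁MR : K₁ ≤ ⁅K₁, H₁⁆ ⊔ R := by
    refine le_trans (le_of_eq hF4.symm) ?_
    rw [Subgroup.commutator_le]
    intro k hk q hq
    obtain ⟨a, ha, b, hb, e⟩ := hkey k hk q hq
    rw [e]
    apply mul_mem
    · exact Subgroup.mem_sup_left (Subgroup.commutator_mem_commutator hk ha)
    · apply Subgroup.mem_sup_right
      exact (Subgroup.mem_normalizer_iff.mp (hH₁R ha) _).mp ((mem_cmod.mp (hStepII hk)).2 b hb)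
  have hK₁M : K₁ ≤ ⁅K₁, H₁⁆ := le_of_Op_eq hK₁Op hK₁MR hRp hRM
  have hb : ⁅K₁, H₁⁆ = K₁ := le_antisymm hMK₁ hK₁M
  -- (d)
  have hRK₁ : R ≤ Subgroup.normalizer (K₁ : Set G) := (hRD.trans hDH₁).trans hH₁K₁
  have hH₂K₁ : H₂ ≤ Subgroup.normalizer (K₁ : Set G) := by
    intro y hy
    apply mem_normalizer_of_map_conj_le
    apply conj_le_of_Op_eq hK₁Op hRp hRK₁
    intro x hx
    have h1 : ⁅x, y⁆ ∈ R := (mem_cmod.mp (hStepII hx)).2 y hy
    have e : y * x * y⁻¹ = (⁅x, y⁆)⁻¹ * x := by rw [commutatorElement_def]; group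
    rw [e]
    exact mul_mem (Subgroup.mem_sup_right (inv_mem h1)) (Subgroup.mem_sup_left hx)
  have hHcK₁ : Hc ≤ Subgroup.normalizer (K₁ : Set G) := by
    rw [← hprod]; exact sup_le hH₁K₁ hH₂K₁
  have hc : K₁ ≤ ⁅H₁, H₁⁆ :=
    calc K₁ = ⁅K₁, H₁⁆ := hb.symm
      _ ≤ ⁅H₁, H₁⁆ := Subgroup.commutator_mono hK₁H₁ le_rfl
  have hf : ⁅K₁, H₂⁆ ≤ pCoreOf p Hc := (commutator_le_of_le_cmod hStepII).trans hRcore
  have hOp : K₁ ≤ Op p Hc := by
    rw [hK₁]; exact Op_mono p (hX₁L₁.trans hL₁Hc)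
  exact ⟨hF4, hb, hc, hHcK₁, hK₁H₁, hf, hF3, hOp⟩

end aux

/-- Let Q be a nontrivial p-subgroup of the finite group H that is a weakly closed subgroup, H° the weak closure of Q in H (generated by the conjugates of Q) and H_∘ = O^p(H°). Suppose H₁, H₂ are normal subgroups of H° with H° = H₁H₂ and [H₁, H₂] ≤ N_H(Q), and put Kᵢ = O^p of the weak closure of Q in HᵢQ. Then for i = 1, 2: Kᵢ = [Kᵢ, Q] = [Kᵢ, Hᵢ] ≤ Hᵢ′ and Kᵢ is normal in H°; H_∘ = K₁K₂; and [K₁, K₂] ≤ O_p(H°). -/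
theorem result {G : Type*} [Group G] [Finite G] {p : ℕ} [Fact p.Prime] (Q : Subgroup G) (hQp : IsPGroup p ↥Q) (hQ1 : Q ≠ ⊥) (hwc : Cfsg.IsWeaklyClosedSubgroup p Q) (Hc : Subgroup G) (hHc : Hc = Cfsg.weakClosure Q ⊤) (H₁ H₂ : Subgroup G) (hn₁ : H₁ ≤ Hc ∧ Hc ≤ Subgroup.normalizer ((H₁ : Subgroup G) : Set G)) (hn₂ : H₂ ≤ Hc ∧ Hc ≤ Subgroup.normalizer ((H₂ : Subgroup G) : Set G)) (hprod : H₁ ⊔ H₂ = Hc) (hcomm : ⁅H₁, H₂⁆ ≤ Subgroup.normalizer ((Q : Subgroup G) : Set G)) (K₁ K₂ : Subgroup G) (hK₁ : K₁ = ((Cfsg.pResidual p ↥(Cfsg.weakClosure Q (H₁ ⊔ Q))).map ((Cfsg.weakClosure Q (H₁ ⊔ Q))).subtype)) (hK₂ : K₂ = ((Cfsg.pResidual p ↥(Cfsg.weakClosure Q (H₂ ⊔ Q))).map ((Cfsg.weakClosure Q (H₂ ⊔ Q))).subtype)) : (⁅K₁, Q⁆ = K₁ ∧ ⁅K₁, H₁⁆ = K₁ ∧ K₁ ≤ ⁅H₁, H₁⁆ ∧ Hc ≤ Subgroup.normalizer ((K₁ : Subgroup G) : Set G)) ∧ (⁅K₂, Q⁆ = K₂ ∧ ⁅K₂, H₂⁆ = K₂ ∧ K₂ ≤ ⁅H₂, H₂⁆ ∧ Hc ≤ Subgroup.normalizer ((K₂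 : Subgroup G) : Set G)) ∧ K₁ ⊔ K₂ = ((Cfsg.pResidual p ↥Hc).map (Hc).subtype) ∧ ⁅K₁, K₂⁆ ≤ (Cfsg.pCoreOf p Hc) := by
  rw [pResidual_map_eq] at hK₁ hK₂
  obtain ⟨a1, b1, c1, d1, e1, f1, g1, i1⟩ :=
    half Q hQp hQ1 hwc Hc hHc H₁ H₂ hn₁ hn₂ hprod hcomm _ K₁ rfl hK₁
  obtain ⟨a2, b2, c2, d2, e2, f2, g2, i2⟩ :=
    half Q hQp hQ1 hwc Hc hHc H₂ H₁ hn₂ hn₁ (by rw [sup_comm]; exact hprod)
      (by rw [Subgroup.commutator_comm]; exact hcomm) _ K₂ rfl hK₂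
  refine ⟨⟨a1, b1, c1, d1⟩, ⟨a2, b2, c2, d2⟩, ?_, ?_⟩
  · rw [pResidual_map_eq]
    apply le_antisymm (sup_le i1 i2)
    have hQHc : Q ≤ Hc := by rw [hHc]; exact le_wc le_top
    have hHcN : Hc ≤ Subgroup.normalizer ((K₁ ⊔ K₂ : Subgroup G) : Set G) :=
      fun x hx => mem_normalizer_sup (d1 hx) (d2 hx)
    have hH₁Y : H₁ ≤ Subgroup.normalizer ((K₁ ⊔ K₂ ⊔ Q : Subgroup G) : Set G) := by
      intro h hh
      apply mem_normalizer_of_map_conj_le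
      rw [Subgroup.map_sup, map_conj_eq_of_mem_normalizer (hHcN (hn₁.1 hh))]
      apply sup_le le_sup_left
      have hX : h ∈ Subgroup.normalizer ((weakClosure Q (H₁ ⊔ Q) : Subgroup G) : Set G) :=
        le_normalizer_wc Q _ (Subgroup.mem_sup_left hh)
      have h3 : Q.map (MulAut.conj h).toMonoidHom ≤ weakClosure Q (H₁ ⊔ Q) := by
        have := conjMap_mono (le_wc (le_sup_right : Q ≤ H₁ ⊔ Q)) h
        rwa [map_conj_eq_of_mem_normalizer hX] at this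
      exact (h3.trans (le_of_eq g1)).trans
        (sup_le (le_sup_left.trans le_sup_left) le_sup_right)
    have hH₂Y : H₂ ≤ Subgroup.normalizer ((K₁ ⊔ K₂ ⊔ Q : Subgroup G) : Set G) := by
      intro h hh
      apply mem_normalizer_of_map_conj_le
      rw [Subgroup.map_sup, map_conj_eq_of_mem_normalizer (hHcN (hn₂.1 hh))]
      apply sup_le le_sup_left
      have hX : h ∈ Subgroup.normalizer ((weakClosure Q (H₂ ⊔ Q) : Subgroup G) : Set G) :=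
        le_normalizer_wc Q _ (Subgroup.mem_sup_left hh)
      have h3 : Q.map (MulAut.conj h).toMonoidHom ≤ weakClosure Q (H₂ ⊔ Q) := by
        have := conjMap_mono (le_wc (le_sup_right : Q ≤ H₂ ⊔ Q)) h
        rwa [map_conj_eq_of_mem_normalizer hX] at this
      exact (h3.trans (le_of_eq g2)).trans
        (sup_le (le_sup_right.trans le_sup_left) le_sup_right)
    have hHcY : Hc ≤ K₁ ⊔ K₂ ⊔ Q := by
      have hgen := wc_le_of_normal hQp hQ1 hwc (le_top : Q ≤ ⊤)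
        (le_sup_right : Q ≤ K₁ ⊔ K₂ ⊔ Q)
      rw [← hHc] at hgen
      apply hgen
      intro x hx
      rw [← hprod] at hx
      exact (sup_le hH₁Y hH₂Y) hx
    calc Op p Hc ≤ Op p (K₁ ⊔ K₂ ⊔ Q) := Op_mono p hHcY
      _ ≤ K₁ ⊔ K₂ := Op_sup_le hQp (hQHc.trans hHcN)
  · exact (Subgroup.commutator_mono le_rfl e2).trans f1

end Cfsg.Agent.S2859
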