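import Mathlib
import Cfsg.Statements.S2855
import Cfsg.Agent.S2859
import Cfsg.Agent.Lib.Helper17.PIrred
import Cfsg.Agent.Lib.Helper17.SylowNormal2

set_option autoImplicit false
open Cfsg

namespace Cfsg.Agent.S2855

open Cfsg.Agent.Lib.Helper17 Cfsg.Agent.Lib.Helper9 Cfsg.Agent.S2859
open scoped commutatorElement Pointwise

section general

variable {H : Type*} [Group H]

theorem comm_mem_left_of_normal {N : Subgroup H} [hN : N.Normal] {a b : H} (ha : a ∈ N) :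
    ⁅a, b⁆ ∈ N := by
  have e : ⁅a, b⁆ = a * (b * a⁻¹ * b⁻¹) := by rw [commutatorElement_def]; group
  rw [e]; exact N.mul_mem ha (hN.conj_mem _ (N.inv_mem ha) b)

theorem comm_mem_right_of_normal {N : Subgroup H} [hN : N.Normal] {a b : H} (hb : b ∈ N) :
    ⁅a, b⁆ ∈ N := by
  rw [commutatorElement_def]; exact N.mul_mem (hN.conj_mem _ hb a) (N.inv_mem hb)

theorem comm_mem_of_mem_normalizer_left {F : Subgroup H} {a b : H}
    (ha : a ∈ Subgroup.normalizer (F : Set H)) (hb : b ∈ F) : ⁅a, b⁆ ∈ F := by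
  rw [commutatorElement_def]
  exact F.mul_mem ((Subgroup.mem_normalizer_iff.mp ha b).mp hb) (F.inv_mem hb)

theorem comm_mem_of_mem_normalizer_right {F : Subgroup H} {a b : H}
    (ha : a ∈ F) (hb : b ∈ Subgroup.normalizer (F : Set H)) : ⁅a, b⁆ ∈ F := by
  have e : ⁅a, b⁆ = a * (b * a⁻¹ * b⁻¹) := by rw [commutatorElement_def]; group
  rw [e]
  exact F.mul_mem ha ((Subgroup.mem_normalizer_iff.mp hb a⁻¹).mp (F.inv_mem ha))

theorem mem_normalizer_of_normal {N : Subgroup H} [hN : N.Normal] (g : H) :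
    g ∈ Subgroup.normalizer (N : Set H) := by
  rw [Subgroup.normalizer_eq_top]; exact Subgroup.mem_top g

/-- Dedekind's modular law with a normal subgroup `C ≤ A`. -/
theorem inf_sup_of_le {A B C : Subgroup H} [C.Normal] (hCA : C ≤ A) :
    A ⊓ (B ⊔ C) = (A ⊓ B) ⊔ C := by
  apply le_antisymm
  · intro x hx
    obtain ⟨hxA, hxBC⟩ := Subgroup.mem_inf.mp hx
    obtain ⟨b, hb, c, hc, rfl⟩ := Subgroup.mem_sup_of_normal_right.mp hxBC
    have hbA : b ∈ A := by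
      have e : b = b * c * c⁻¹ := by group
      rw [e]; exact A.mul_mem hxA (A.inv_mem (hCA hc))
    exact Subgroup.mul_mem_sup (Subgroup.mem_inf.mpr ⟨hbA, hb⟩) hc
  · exact sup_le (inf_le_inf_left _ le_sup_left) (le_inf hCA le_sup_right)

/-- Dedekind's modular law with `B ≤ A` and `C` normal. -/
theorem inf_sup_of_le' {A B C : Subgroup H} [C.Normal] (hBA : B ≤ A) :
    A ⊓ (B ⊔ C) = B ⊔ (A ⊓ C) := by
  apply le_antisymm
  · intro x hx
    obtain ⟨hxA, hxBC⟩ := Subgroup.mem_inf.mp hx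
    obtain ⟨b, hb, c, hc, rfl⟩ := Subgroup.mem_sup_of_normal_right.mp hxBC
    have hcA : c ∈ A := by
      have e : c = b⁻¹ * (b * c) := by group
      rw [e]; exact A.mul_mem (A.inv_mem (hBA hb)) hxA
    exact Subgroup.mul_mem_sup hb (Subgroup.mem_inf.mpr ⟨hcA, hc⟩)
  · exact sup_le (le_inf hBA le_sup_left) (inf_le_inf_left _ le_sup_right)

theorem conj_Op_le (p : ℕ) (g : H) (L : Subgroup H) :
    (Op p L).map (MulAut.conj g).toMonoidHom ≤ Op p (L.map (MulAut.conj g).toMonoidHom) := by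
  unfold Op
  rw [MonoidHom.map_closure, Subgroup.closure_le]
  rintro _ ⟨x, ⟨hx, hc⟩, rfl⟩
  apply Subgroup.subset_closure
  refine ⟨⟨x, hx, rfl⟩, ?_⟩
  simp only [MulEquiv.coe_toMonoidHom]
  rw [MulEquiv.orderOf_eq]; exact hc

variable [Finite H] {p : ℕ} [Fact p.Prime]

theorem eq_of_le_of_not_dvd_relIndex {A B F : Subgroup H} (hB : IsPGroup p B) (hAB : A ≤ B)
    (hBF : B ≤ F) (h : ¬ p ∣ A.relIndex F) : A = B := by
  have h1 := Subgroup.relIndex_mul_relIndex A B F hAB hBF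
  obtain ⟨n, hn⟩ : ∃ n, A.relIndex B = p ^ n := IsPGroup.index hB (A.subgroupOf B)
  cases n with
  | zero =>
    rw [pow_zero] at hn
    exact le_antisymm hAB (Subgroup.relIndex_eq_one.mp hn)
  | succ n =>
    exfalso; apply h; rw [← h1, hn]
    exact Dvd.dvd.mul_right (dvd_pow_self p (Nat.succ_ne_zero n)) _

theorem not_dvd_relIndex_of_normal (S : Sylow p H) (N : Subgroup H) [N.Normal] :
    ¬ p ∣ (S : Subgroup H).relIndex N := fun hd =>
  S.not_dvd_index (dvd_trans hd (relIndex_dvd_index_of_normal_right (S : Subgroup H) N))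

theorem not_dvd_relIndex_of_le_normalizer (S : Sylow p H) {N F : Subgroup H} [N.Normal]
    (hFN : F ≤ N) (hNF : N ≤ Subgroup.normalizer (F : Set H)) :
    ¬ p ∣ (S : Subgroup H).relIndex F := by
  intro hd
  apply not_dvd_relIndex_of_normal S N
  have h1 := relIndex_eq_relIndex_sup_of_le_normalizer ((S : Subgroup H) ⊓ N) F
    (inf_le_right.trans hNF)
  have h2 := Subgroup.relIndex_mul_relIndex ((S : Subgroup H) ⊓ N) ((S : Subgroup H) ⊓ N ⊔ F) N
    le_sup_left (sup_le inf_le_right hFN)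
  have h3 : ((S : Subgroup H) ⊓ N).relIndex N = (S : Subgroup H).relIndex N :=
    Subgroup.inf_relIndex_right _ _
  have h4 : ((S : Subgroup H) ⊓ N).relIndex F = (S : Subgroup H).relIndex F := by
    rw [← Subgroup.inf_relIndex_right ((S : Subgroup H) ⊓ N) F,
      ← Subgroup.inf_relIndex_right (S : Subgroup H) F]
    congr 1
    rw [inf_assoc, inf_eq_right.mpr hFN]
  rw [← h3, ← h2, ← h1, h4]
  exact Dvd.dvd.mul_right hd _

/-- A `p`-subgroup `T` with `[T, O^p(H)] ≤ O_p(H)` lies in `O_p(H)`. -/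
theorem le_pCore_of_commutator_residual (T : Subgroup H) (hT : IsPGroup p T)
    (h : ⁅T, pResidual p H⁆ ≤ pCore p H) : T ≤ pCore p H := by
  obtain ⟨S, hTS⟩ := hT.exists_le_sylow
  have hncl : Subgroup.normalClosure (T : Set H) ≤ (S : Subgroup H) := by
    show Subgroup.closure (Group.conjugatesOfSet (T : Set H)) ≤ (S : Subgroup H)
    rw [Subgroup.closure_le]
    intro x hx
    obtain ⟨t, ht, hconj⟩ := Group.mem_conjugatesOfSet_iff.mp hx
    obtain ⟨g, rfl⟩ := isConj_iff.mp hconj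
    have hg : g ∈ (S : Subgroup H) ⊔ pResidual p H := by
      rw [sylow_sup_pResidual]; exact Subgroup.mem_top g
    obtain ⟨s, hs, o, ho, rfl⟩ := Subgroup.mem_sup_of_normal_right.mp hg
    have h1 : ⁅t, o⁆ ∈ pCore p H := h (Subgroup.commutator_mem_commutator ht ho)
    have h2 : o * t * o⁻¹ = (⁅t, o⁆)⁻¹ * t := by rw [commutatorElement_def]; group
    have h3 : o * t * o⁻¹ ∈ (S : Subgroup H) := by
      rw [h2]; exact mul_mem (inv_mem (pCore_le_sylow S h1)) (hTS ht)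
    have h4 : s * o * t * (s * o)⁻¹ = s * (o * t * o⁻¹) * s⁻¹ := by group
    show s * o * t * (s * o)⁻¹ ∈ (S : Subgroup H)
    rw [h4]; exact mul_mem (mul_mem hs h3) (inv_mem hs)
  have hp : IsPGroup p (Subgroup.normalClosure (T : Set H)) := S.2.to_le hncl
  exact Subgroup.le_normalClosure.trans (le_pCore Subgroup.normalClosure_normal hp)

end general

section family

variable {H : Type*} [Group H] [Finite H]

/-- The hypotheses on the family `𝒦`. -/
structure Hyp (p : ℕ) (𝒦 : Set (Subgroup H)) : Prop where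
  ne : 𝒦.Nonempty
  inv : ∀ h : H, ∀ E ∈ 𝒦, E.map (MulAut.conj h).toMonoidHom ∈ 𝒦
  tr : ∀ E ∈ 𝒦, ∀ K ∈ 𝒦, ∃ h : H, K = E.map (MulAut.conj h).toMonoidHom
  res : pResidual p H ≤ sSup 𝒦
  norm : ∀ E ∈ 𝒦, sSup 𝒦 ⊔ pCore p H ≤
    Subgroup.normalizer ((E ⊔ pCore p H : Subgroup H) : Set H)

variable {p : ℕ} [Fact p.Prime] {𝒦 : Set (Subgroup H)}

theorem sSup_normal (h : Hyp p 𝒦) : (sSup 𝒦).Normal := by
  rw [← Subgroup.normalizer_eq_top_iff, eq_top_iff]
  intro g _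
  apply mem_normalizer_of_map_conj_le
  rw [Subgroup.map_le_iff_le_comap]
  apply sSup_le
  intro E hE
  rw [← Subgroup.map_le_iff_le_comap]
  exact le_sSup (h.inv g E hE)

theorem sylow_sup_sSup (h : Hyp p 𝒦) (S : Sylow p H) : (S : Subgroup H) ⊔ sSup 𝒦 = ⊤ := by
  rw [eq_top_iff, ← sylow_sup_pResidual S]
  exact sup_le_sup_left h.res _

theorem N₁_normal (h : Hyp p 𝒦) : (sSup 𝒦 ⊔ pCore p H).Normal := by
  haveI := sSup_normal h
  infer_instance

theorem sylow_sup_N₁ (h : Hyp p 𝒦) (S : Sylow p H) :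
    (S : Subgroup H) ⊔ (sSup 𝒦 ⊔ pCore p H) = ⊤ := by
  rw [eq_top_iff, ← sylow_sup_sSup h S]
  exact sup_le_sup_left le_sup_left _

theorem F_le_N₁ {E : Subgroup H} (hE : E ∈ 𝒦) : E ⊔ pCore p H ≤ sSup 𝒦 ⊔ pCore p H :=
  sup_le_sup_right (le_sSup hE) _

theorem sylow_F (h : Hyp p 𝒦) (S : Sylow p H) {E : Subgroup H} (hE : E ∈ 𝒦) :
    ¬ p ∣ (S : Subgroup H).relIndex (E ⊔ pCore p H) := by
  haveI := N₁_normal h
  exact not_dvd_relIndex_of_le_normalizer S (F_le_N₁ hE) (h.norm E hE)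

theorem exists_sylow_map_eq (h : Hyp p 𝒦) (S : Sylow p H) {E : Subgroup H} (hE : E ∈ 𝒦) :
    ∃ T : Sylow p ↥E, (T : Subgroup ↥E).map E.subtype = (S : Subgroup H) ⊓ E := by
  have hU : IsPGroup p (((S : Subgroup H) ⊓ E).subgroupOf E) :=
    (S.2.to_le inf_le_left).comap_subtype
  obtain ⟨T, hT⟩ := hU.exists_le_sylow
  refine ⟨T, ?_⟩
  have hT'E : (T : Subgroup ↥E).map E.subtype ≤ E := Subgroup.map_subtype_le _
  have hT'p : IsPGroup p ((T : Subgroup ↥E).map E.subtype) := T.2.map _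
  have hUT' : (S : Subgroup H) ⊓ E ≤ (T : Subgroup ↥E).map E.subtype := by
    have := Subgroup.map_mono (f := E.subtype) hT
    rwa [Subgroup.map_subgroupOf_eq_of_le inf_le_right] at this
  have hB : IsPGroup p ((T : Subgroup ↥E).map E.subtype ⊔ pCore p H : Subgroup H) :=
    hT'p.to_sup_of_normal_right pCore_isPGroup
  have hle : (S : Subgroup H) ⊓ (E ⊔ pCore p H) ≤
      (T : Subgroup ↥E).map E.subtype ⊔ pCore p H := by
    rw [inf_sup_of_le (pCore_le_sylow S)]; exact sup_le_sup_right hUT' _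
  have heq := eq_of_le_of_not_dvd_relIndex hB hle
    (sup_le (hT'E.trans le_sup_left) le_sup_right)
    (by rw [Subgroup.inf_relIndex_right]; exact sylow_F h S hE)
  have hT'S : (T : Subgroup ↥E).map E.subtype ≤ (S : Subgroup H) := by
    have h1 : (T : Subgroup ↥E).map E.subtype ≤
        (T : Subgroup ↥E).map E.subtype ⊔ pCore p H := le_sup_left
    rw [← heq] at h1
    exact h1.trans inf_le_left
  exact le_antisymm (le_inf hT'S hT'E) hUT'

/-! ### Part 1 -/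

theorem ncl_transfer {E : Subgroup H} (T : Sylow p ↥E)
    (hmin : IsMinimalOver (T : Subgroup ↥E)) {N : Subgroup H}
    (hUN : (T : Subgroup ↥E).map E.subtype ≤ N)
    (hEN : E ≤ Subgroup.normalizer (N : Set H)) : E ≤ N := by
  haveI : (N.subgroupOf E).Normal := Subgroup.normal_subgroupOf_of_le_normalizer hEN
  have hT : (T : Subgroup ↥E) ≤ N.subgroupOf E := by
    intro x hx; rw [Subgroup.mem_subgroupOf]; exact hUN ⟨x, hx, rfl⟩
  have h1 : Subgroup.normalClosure ((T : Subgroup ↥E) : Set ↥E) ≤ N.subgroupOf E :=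
    Subgroup.normalClosure_le_normal hT
  rw [hmin.1] at h1
  intro e he
  have := h1 (Subgroup.mem_top (⟨e, he⟩ : ↥E))
  rwa [Subgroup.mem_subgroupOf] at this

theorem max_transfer {E : Subgroup H} (T : Sylow p ↥E)
    (hmin : IsMinimalOver (T : Subgroup ↥E)) :
    ∃ E₀ : Subgroup H, E₀ ≤ E ∧ E₀ ≠ E ∧ (T : Subgroup ↥E).map E.subtype ≤ E₀ ∧
      ∀ X : Subgroup H, X ≤ E → (T : Subgroup ↥E).map E.subtype ≤ X → X ≠ E → X ≤ E₀ := by
  obtain ⟨M₀, ⟨hco, hTM⟩, huniq⟩ := hmin.2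
  refine ⟨M₀.map E.subtype, Subgroup.map_subtype_le _, ?_, Subgroup.map_mono hTM, ?_⟩
  · intro heq
    apply hco.1
    rw [eq_top_iff]; intro x _
    have hx : (x : H) ∈ M₀.map E.subtype := by rw [heq]; exact x.2
    obtain ⟨y, hy, hyx⟩ := hx
    have : y = x := Subtype.ext hyx
    rwa [← this]
  · intro X hXE hTX hXne
    have hX' : X.subgroupOf E ≠ ⊤ := by
      intro htop; apply hXne; apply le_antisymm hXE
      rw [Subgroup.subgroupOf_eq_top] at htop; exact htop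
    obtain ⟨M, hM, hXM⟩ := (eq_top_or_exists_le_coatom (X.subgroupOf E)).resolve_left hX'
    have hTX' : (T : Subgroup ↥E) ≤ X.subgroupOf E := by
      intro x hx; rw [Subgroup.mem_subgroupOf]; exact hTX ⟨x, hx, rfl⟩
    have hMM₀ : M = M₀ := huniq M ⟨hM, hTX'.trans hXM⟩
    rw [hMM₀] at hXM
    have := Subgroup.map_mono (f := E.subtype) hXM
    rwa [Subgroup.map_subgroupOf_eq_of_le hXE] at this

theorem part1_unique (h : Hyp p 𝒦) (S : Sylow p H) {E : Subgroup H} (hE : E ∈ 𝒦)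
    {E₀ : Subgroup H} (hE₀E : E₀ ≤ E) (hE₀ne : E₀ ≠ E) (hUE₀ : (S : Subgroup H) ⊓ E ≤ E₀)
    (hmax : ∀ X : Subgroup H, X ≤ E → (S : Subgroup H) ⊓ E ≤ X → X ≠ E → X ≤ E₀)
    (hncl : ∀ N : Subgroup H, (S : Subgroup H) ⊓ E ≤ N →
      E ≤ Subgroup.normalizer (N : Set H) → E ≤ N)
    {M₁ M₂ : Subgroup H} (hM₁ : IsCoatom M₁) (hSM₁ : (S : Subgroup H) ≤ M₁)
    (hM₂ : IsCoatom M₂) (hSM₂ : (S : Subgroup H) ≤ M₂) : M₁ = M₂ := by
  haveI hPn : (pCore p H).Normal := inferInstance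
  haveI hRn : (sSup 𝒦).Normal := sSup_normal h
  haveI hN₁n : (sSup 𝒦 ⊔ pCore p H).Normal := N₁_normal h
  obtain ⟨P, hP⟩ : ∃ P : Subgroup H, P = pCore p H := ⟨_, rfl⟩
  obtain ⟨N₁, hN₁⟩ : ∃ N₁ : Subgroup H, N₁ = sSup 𝒦 ⊔ pCore p H := ⟨_, rfl⟩
  haveI hPn' : P.Normal := hP ▸ hPn
  haveI hN₁n' : N₁.Normal := hN₁ ▸ hN₁n
  have hPS : P ≤ (S : Subgroup H) := hP ▸ pCore_le_sylow S
  have hN₁F : N₁ ≤ Subgroup.normalizer ((E ⊔ P : Subgroup H) : Set H) := by
    rw [hN₁, hP]; exact h.norm E hE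
  have hFN₁ : E ⊔ P ≤ N₁ := by rw [hN₁, hP]; exact F_le_N₁ hE
  have hSN₁ : (S : Subgroup H) ⊔ N₁ = ⊤ := by rw [hN₁]; exact sylow_sup_N₁ h S
  have hT₁ : (S : Subgroup H) ⊓ (E ⊔ P) = ((S : Subgroup H) ⊓ E) ⊔ P := inf_sup_of_le hPS
  have hT₁F₀ : (S : Subgroup H) ⊓ (E ⊔ P) ≤ E₀ ⊔ P := by
    rw [hT₁]; exact sup_le_sup_right hUE₀ P
  have hSyl : ¬ p ∣ ((S : Subgroup H) ⊓ (E ⊔ P)).relIndex (E ⊔ P) := by
    rw [Subgroup.inf_relIndex_right, hP]; exact sylow_F h S hE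
  have hF₀F : E₀ ⊔ P ≤ E ⊔ P := sup_le_sup_right hE₀E P
  -- Claim A
  have claimA : ∀ U : Subgroup H, U ≤ E ⊔ P → (S : Subgroup H) ⊓ (E ⊔ P) ≤ U → U ≠ E ⊔ P →
      U ≤ E₀ ⊔ P := by
    intro U hUF hTU hUne
    have hPU : P ≤ U := (le_inf hPS le_sup_right).trans hTU
    have hU : U = (U ⊓ E) ⊔ P := by
      have := inf_sup_of_le (A := U) (B := E) (C := P) hPU
      rwa [inf_eq_left.mpr hUF] at this
    have h1 : U ⊓ E ≤ E₀ := by
      apply hmax _ inf_le_right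
      · exact le_inf ((inf_le_inf_left _ le_sup_left).trans hTU) inf_le_right
      · intro heq
        apply hUne
        apply le_antisymm hUF
        exact sup_le (inf_eq_right.mp heq) hPU
    rw [hU]; exact sup_le_sup_right h1 P
  -- Claim B
  have claimB : (E₀ ⊔ P) ⊓ E ≤ E₀ := by
    rw [inf_comm, inf_sup_of_le' hE₀E]
    exact sup_le le_rfl ((le_inf (inf_le_right.trans hPS) inf_le_left).trans hUE₀)
  have hEF₀ : ¬ E ≤ E₀ ⊔ P := fun hle =>
    hE₀ne (le_antisymm hE₀E ((le_inf hle le_rfl).trans claimB))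
  -- Claim C
  have claimC : ∀ X : Subgroup H, (S : Subgroup H) ≤ X → X ≠ ⊤ →
      X ⊓ N₁ ≤ Subgroup.normalizer ((E₀ ⊔ P : Subgroup H) : Set H) := by
    intro X hSX hXne
    have hEX : ¬ E ≤ X := by
      intro hEX
      apply hXne
      rw [eq_top_iff, ← sylow_sup_sSup h S]
      refine sup_le hSX (sSup_le ?_)
      intro K hK
      obtain ⟨g, rfl⟩ := h.tr E hE K hK
      have hg : g ∈ (S : Subgroup H) ⊔ N₁ := by rw [hSN₁]; exact Subgroup.mem_top g
      obtain ⟨s, hs, n, hn, rfl⟩ := Subgroup.mem_sup_of_normal_right.mp hg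
      rw [conjMap_mul]
      have h1 : E.map (MulAut.conj n).toMonoidHom ≤ X := by
        have h0 : E.map (MulAut.conj n).toMonoidHom ≤
            (E ⊔ P).map (MulAut.conj n).toMonoidHom := conjMap_mono le_sup_left n
        rw [map_conj_eq_of_mem_normalizer (hN₁F hn)] at h0
        exact h0.trans (sup_le hEX (hPS.trans hSX))
      have h2 := conjMap_mono h1 s
      rwa [map_conj_eq_of_mem_normalizer (Subgroup.le_normalizer (hSX hs))] at h2
    have hXF : X ⊓ (E ⊔ P) ≤ E₀ ⊔ P := by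
      apply claimA _ inf_le_right (le_inf (inf_le_left.trans hSX) inf_le_right)
      intro heq
      exact hEX ((le_sup_left : E ≤ E ⊔ P).trans (inf_eq_right.mp heq))
    intro x hx
    obtain ⟨hxX, hxN⟩ := Subgroup.mem_inf.mp hx
    have hxF : x ∈ Subgroup.normalizer ((E ⊔ P : Subgroup H) : Set H) := hN₁F hxN
    have hT₁x : ((S : Subgroup H) ⊓ (E ⊔ P)).map (MulAut.conj x).toMonoidHom ≤ X ⊓ (E ⊔ P) := by
      apply le_inf
      · have h0 := conjMap_mono (inf_le_left.trans hSX : (S : Subgroup H) ⊓ (E ⊔ P) ≤ X) x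
        rwa [map_conj_eq_of_mem_normalizer (Subgroup.le_normalizer hxX)] at h0
      · have h0 := conjMap_mono (inf_le_right : (S : Subgroup H) ⊓ (E ⊔ P) ≤ E ⊔ P) x
        rwa [map_conj_eq_of_mem_normalizer hxF] at h0
    have hT₁p : IsPGroup p ((S : Subgroup H) ⊓ (E ⊔ P) : Subgroup H) := S.2.to_le inf_le_left
    obtain ⟨P', hP'p, hP'le, hTP', hh, hhX, hconj⟩ :=
      exists_pgroup_conj_le (X ⊓ (E ⊔ P)) ((S : Subgroup H) ⊓ (E ⊔ P))
        (((S : Subgroup H) ⊓ (E ⊔ P)).map (MulAut.conj x).toMonoidHom) hT₁p (hT₁p.map _)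
        (le_inf (inf_le_left.trans hSX) inf_le_right) hT₁x
    have hP'eq : (S : Subgroup H) ⊓ (E ⊔ P) = P' :=
      eq_of_le_of_not_dvd_relIndex hP'p hTP' (hP'le.trans inf_le_right) hSyl
    rw [← hP'eq, ← conjMap_mul] at hconj
    have hhx_T : hh * x ∈ Subgroup.normalizer (((S : Subgroup H) ⊓ (E ⊔ P) : Subgroup H) : Set H) :=
      mem_normalizer_of_map_conj_le hconj
    have hhF : hh ∈ E ⊔ P := (Subgroup.mem_inf.mp hhX).2
    have hhx_F : hh * x ∈ Subgroup.normalizer ((E ⊔ P : Subgroup H) : Set H) :=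
      mul_mem (Subgroup.le_normalizer hhF) hxF
    have hhx_F₀ : hh * x ∈ Subgroup.normalizer ((E₀ ⊔ P : Subgroup H) : Set H) := by
      apply mem_normalizer_of_map_conj_le
      apply claimA
      · have h0 := conjMap_mono hF₀F (hh * x)
        rwa [map_conj_eq_of_mem_normalizer hhx_F] at h0
      · have h0 := conjMap_mono hT₁F₀ (hh * x)
        rwa [map_conj_eq_of_mem_normalizer hhx_T] at h0
      · intro heq
        apply hEF₀
        have hcard : Nat.card ↥(E₀ ⊔ P : Subgroup H) = Nat.card ↥(E ⊔ P : Subgroup H) := by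
          rw [← heq, card_map_conj]
        have h0 : E₀ ⊔ P = E ⊔ P := Subgroup.eq_of_le_of_card_ge hF₀F (le_of_eq hcard.symm)
        rw [h0]; exact le_sup_left
    have hhF₀ : hh ∈ Subgroup.normalizer ((E₀ ⊔ P : Subgroup H) : Set H) :=
      Subgroup.le_normalizer (hXF hhX)
    have e : x = hh⁻¹ * (hh * x) := by group
    rw [e]
    exact mul_mem (inv_mem hhF₀) hhx_F₀
  -- Claim D
  by_contra hne
  have htop : M₁ ⊔ M₂ = ⊤ := by
    have hlt : M₁ < M₁ ⊔ M₂ := by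
      apply lt_of_le_of_ne le_sup_left
      intro heq
      have hle : M₂ ≤ M₁ := by rw [heq]; exact le_sup_right
      rcases eq_or_lt_of_le hle with h1 | h1
      · exact hne h1.symm
      · exact hM₁.1 (hM₂.2 _ h1)
    exact hM₁.2 _ hlt
  have hWF₀ : (M₁ ⊓ N₁) ⊔ (M₂ ⊓ N₁) ≤
      Subgroup.normalizer ((E₀ ⊔ P : Subgroup H) : Set H) :=
    sup_le (claimC M₁ hSM₁ hM₁.1) (claimC M₂ hSM₂ hM₂.1)
  have hWN₁ : (M₁ ⊓ N₁) ⊔ (M₂ ⊓ N₁) ≤ N₁ := sup_le inf_le_right inf_le_right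
  have hSW : (S : Subgroup H) ≤
      Subgroup.normalizer (((M₁ ⊓ N₁) ⊔ (M₂ ⊓ N₁) : Subgroup H) : Set H) := by
    intro s hs
    apply mem_normalizer_sup
    · exact mem_normalizer_inf (Subgroup.le_normalizer (hSM₁ hs)) (mem_normalizer_of_normal s)
    · exact mem_normalizer_inf (Subgroup.le_normalizer (hSM₂ hs)) (mem_normalizer_of_normal s)
  have hdecomp : ∀ M : Subgroup H, (S : Subgroup H) ≤ M → M ≤ (M ⊓ N₁) ⊔ (S : Subgroup H) := by
    intro M hSM x hx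
    have hg : x ∈ (S : Subgroup H) ⊔ N₁ := by rw [hSN₁]; exact Subgroup.mem_top x
    obtain ⟨s, hs, n, hn, rfl⟩ := Subgroup.mem_sup_of_normal_right.mp hg
    have hn' : n ∈ M := by
      have e : n = s⁻¹ * (s * n) := by group
      rw [e]; exact mul_mem (inv_mem (hSM hs)) hx
    exact mul_mem (Subgroup.mem_sup_right hs)
      (Subgroup.mem_sup_left (Subgroup.mem_inf.mpr ⟨hn', hn⟩))
  have hWS : ((M₁ ⊓ N₁) ⊔ (M₂ ⊓ N₁)) ⊔ (S : Subgroup H) = ⊤ := by
    rw [eq_top_iff, ← htop]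
    apply sup_le
    · exact (hdecomp M₁ hSM₁).trans (sup_le_sup_right le_sup_left _)
    · exact (hdecomp M₂ hSM₂).trans (sup_le_sup_right le_sup_right _)
  have hN₁W : N₁ ≤ (M₁ ⊓ N₁) ⊔ (M₂ ⊓ N₁) := by
    intro n hn
    have hmul := Subgroup.coe_mul_of_right_le_normalizer_left
      ((M₁ ⊓ N₁) ⊔ (M₂ ⊓ N₁)) (S : Subgroup H) hSW
    have hn' : n ∈ ((M₁ ⊓ N₁) ⊔ (M₂ ⊓ N₁)) ⊔ (S : Subgroup H) := by
      rw [hWS]; exact Subgroup.mem_top n
    have hn'' : n ∈ ((((M₁ ⊓ N₁) ⊔ (M₂ ⊓ N₁)) ⊔ (S : Subgroup H) : Subgroup H) : Set H) := hn'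
    rw [hmul] at hn''
    obtain ⟨w, hw, s, hs, rfl⟩ := Set.mem_mul.mp hn''
    have hsN : s ∈ N₁ := by
      have e : s = w⁻¹ * (w * s) := by group
      rw [e]; exact mul_mem (inv_mem (hWN₁ hw)) hn
    have hsW : s ∈ (M₁ ⊓ N₁) ⊔ (M₂ ⊓ N₁) :=
      Subgroup.mem_sup_left (Subgroup.mem_inf.mpr ⟨hSM₁ hs, hsN⟩)
    exact mul_mem hw hsW
  have hEN : E ≤ Subgroup.normalizer (E₀ : Set H) := by
    intro e he
    have h1 : e ∈ Subgroup.normalizer ((E₀ ⊔ P : Subgroup H) : Set H) :=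
      hWF₀ (hN₁W (hFN₁ (Subgroup.mem_sup_left he)))
    have h2 := mem_normalizer_inf h1 (Subgroup.le_normalizer he : e ∈ Subgroup.normalizer (E : Set H))
    have heq : (E₀ ⊔ P) ⊓ E = E₀ := le_antisymm claimB (le_inf le_sup_left hE₀E)
    rwa [heq] at h2
  exact hE₀ne (le_antisymm hE₀E (hncl E₀ hUE₀ hEN))

theorem part1 (h : Hyp p 𝒦)
    (h1 : ∀ E ∈ 𝒦, ∀ T : Sylow p ↥E, IsMinimalOver (T : Subgroup ↥E)) (S : Sylow p H) :
    IsMinimalOver (S : Subgroup H) := by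
  have hdata : ∀ E ∈ 𝒦,
      (∀ N : Subgroup H, (S : Subgroup H) ⊓ E ≤ N →
        E ≤ Subgroup.normalizer (N : Set H) → E ≤ N) ∧
      ∃ E₀ : Subgroup H, E₀ ≤ E ∧ E₀ ≠ E ∧ (S : Subgroup H) ⊓ E ≤ E₀ ∧
        ∀ X : Subgroup H, X ≤ E → (S : Subgroup H) ⊓ E ≤ X → X ≠ E → X ≤ E₀ := by
    intro E hE
    obtain ⟨T, hT⟩ := exists_sylow_map_eq h S hE
    have hmin := h1 E hE T
    refine ⟨?_, ?_⟩
    · intro N hUN hEN
      exact ncl_transfer T hmin (by rw [hT]; exact hUN) hEN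
    · obtain ⟨E₀, a, b, c, d⟩ := max_transfer T hmin
      rw [hT] at c d
      exact ⟨E₀, a, b, c, d⟩
  constructor
  · rw [eq_top_iff, ← sylow_sup_sSup h S]
    apply sup_le Subgroup.le_normalClosure
    apply sSup_le
    intro E hE
    exact (hdata E hE).1 _ (inf_le_left.trans Subgroup.le_normalClosure)
      (fun e _ => mem_normalizer_of_normal e)
  · obtain ⟨E, hE⟩ := h.ne
    obtain ⟨hncl, E₀, hE₀E, hE₀ne, hUE₀, hmax⟩ := hdata E hE
    have hSne : (S : Subgroup H) ≠ ⊤ := by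
      intro htop
      apply hE₀ne
      apply le_antisymm hE₀E
      refine le_trans ?_ hUE₀
      rw [htop]; exact le_inf le_top le_rfl
    obtain ⟨M, hM, hSM⟩ := (eq_top_or_exists_le_coatom (S : Subgroup H)).resolve_left hSne
    exact ⟨M, ⟨hM, hSM⟩, fun M' hM' =>
      part1_unique h S hE hE₀E hE₀ne hUE₀ hmax hncl hM'.1 hM'.2 hM hSM⟩

/-! ### Part 2 -/

theorem not_normalizes_sylow {E : Subgroup H} (hE2 : IsStronglyPIrreducible p ↥E)
    (T : Sylow p ↥E) {U : Subgroup H} (hT : (T : Subgroup ↥E).map E.subtype = U) :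
    ¬ E ≤ Subgroup.normalizer (U : Set H) := by
  intro hEU
  apply hE2.1
  apply isPClosed_of_sylow_normal T
  have e : (T : Subgroup ↥E) = U.subgroupOf E := by
    rw [← hT]
    exact (Subgroup.comap_map_eq_self_of_injective E.subtype_injective _).symm
  rw [e]
  exact Subgroup.normal_subgroupOf_of_le_normalizer hEU

theorem residual_le_of {E : Subgroup H} (hE2 : IsStronglyPIrreducible p ↥E) {N : Subgroup H}
    (hNE : N ≤ E) (hEN : E ≤ Subgroup.normalizer (N : Set H))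
    (hc : ¬ ⁅N, E⁆ ≤ pCoreOf p E) : Op p E ≤ N := by
  haveI : (N.subgroupOf E).Normal := Subgroup.normal_subgroupOf_of_le_normalizer hEN
  have h1 : pResidual p ↥E ≤ N.subgroupOf E := by
    apply hE2.2 _ inferInstance
    intro hle
    apply hc
    have h0 := Subgroup.map_mono (f := E.subtype) hle
    rw [Subgroup.map_commutator, Subgroup.map_subgroupOf_eq_of_le hNE,
      ← MonoidHom.range_eq_map, Subgroup.range_subtype] at h0
    exact h0
  have h0 := Subgroup.map_mono (f := E.subtype) h1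
  rwa [pResidual_map_eq, Subgroup.map_subgroupOf_eq_of_le hNE] at h0

theorem le_pCore_of_F (h : Hyp p 𝒦) {E : Subgroup H} (hE : E ∈ 𝒦) {A : Subgroup H}
    (hAp : IsPGroup p A) (hAF : A ≤ E ⊔ pCore p H)
    (hEA : E ≤ Subgroup.normalizer ((A ⊔ pCore p H : Subgroup H) : Set H)) :
    A ≤ pCore p H := by
  haveI hN₁n : (sSup 𝒦 ⊔ pCore p H).Normal := N₁_normal h
  have hBp : IsPGroup p (A ⊔ pCore p H : Subgroup H) :=
    hAp.to_sup_of_normal_right pCore_isPGroup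
  have hBF : A ⊔ pCore p H ≤ E ⊔ pCore p H := sup_le hAF le_sup_right
  have hFB : E ⊔ pCore p H ≤ Subgroup.normalizer ((A ⊔ pCore p H : Subgroup H) : Set H) :=
    sup_le hEA (le_sup_right.trans Subgroup.le_normalizer)
  have h1 : A ⊔ pCore p H ≤ pCoreOf p (E ⊔ pCore p H) := le_pCoreOf hBF hFB hBp
  have h2 : sSup 𝒦 ⊔ pCore p H ≤
      Subgroup.normalizer ((pCoreOf p (E ⊔ pCore p H) : Subgroup H) : Set H) :=
    (h.norm E hE).trans (normalizer_le_normalizer_pCoreOf _)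
  have h3 : pCoreOf p (E ⊔ pCore p H) ≤ pCoreOf p (sSup 𝒦 ⊔ pCore p H) :=
    le_pCoreOf ((pCoreOf_le _).trans (F_le_N₁ hE)) h2 (pCoreOf_isPGroup _)
  have h4 : (pCoreOf p (sSup 𝒦 ⊔ pCore p H)).Normal := by
    rw [← Subgroup.normalizer_eq_top_iff, eq_top_iff]
    refine le_trans ?_ (normalizer_le_normalizer_pCoreOf (sSup 𝒦 ⊔ pCore p H))
    intro g _; exact mem_normalizer_of_normal g
  have h5 : pCoreOf p (sSup 𝒦 ⊔ pCore p H) ≤ pCore p H := le_pCore h4 (pCoreOf_isPGroup _)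
  exact le_sup_left.trans (h1.trans (h3.trans h5))

theorem pCoreOf_E_le (h : Hyp p 𝒦) {E : Subgroup H} (hE : E ∈ 𝒦) : pCoreOf p E ≤ pCore p H :=
  le_pCore_of_F h hE (pCoreOf_isPGroup E) ((pCoreOf_le E).trans le_sup_left)
    (fun e he => mem_normalizer_sup (le_normalizer_pCoreOf E he) (mem_normalizer_of_normal e))

theorem residual_le (h : Hyp p 𝒦) {N : Subgroup H} [N.Normal]
    (hN : ∀ E ∈ 𝒦, Op p E ≤ N) : pResidual p H ≤ N := by
  haveI hN₁n : (sSup 𝒦 ⊔ pCore p H).Normal := N₁_normal h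
  have hker : ∀ x, x ∈ N → QuotientGroup.mk' N x = 1 := fun x hx =>
    (QuotientGroup.eq_one_iff x).mpr hx
  have hEp : ∀ E ∈ 𝒦, IsPGroup p (E.map (QuotientGroup.mk' N)) := by
    intro E hE
    obtain ⟨T, hTp, -, -, hsup⟩ :=
      exists_pgroup_sup_Op (p := p) (Q := (⊥ : Subgroup H)) (L := E) IsPGroup.of_bot bot_le
    have e : E.map (QuotientGroup.mk' N) = T.map (QuotientGroup.mk' N) := by
      have hbot : (Op p E).map (QuotientGroup.mk' N) = ⊥ := by
        rw [eq_bot_iff]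
        rintro _ ⟨x, hx, rfl⟩
        exact Subgroup.mem_bot.mpr (hker x (hN E hE hx))
      calc E.map (QuotientGroup.mk' N) = (Op p E ⊔ T).map (QuotientGroup.mk' N) := by rw [hsup]
        _ = T.map (QuotientGroup.mk' N) := by rw [Subgroup.map_sup, hbot, bot_sup_eq]
    rw [e]; exact hTp.map _
  haveI hPπ : ((pCore p H).map (QuotientGroup.mk' N)).Normal :=
    Subgroup.Normal.map inferInstance _ (QuotientGroup.mk'_surjective N)
  have hFp : ∀ E ∈ 𝒦, IsPGroup p ((E ⊔ pCore p H).map (QuotientGroup.mk' N)) := by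
    intro E hE
    rw [Subgroup.map_sup]
    exact (hEp E hE).to_sup_of_normal_right (pCore_isPGroup.map _)
  have hFB : ∀ E ∈ 𝒦, (E ⊔ pCore p H).map (QuotientGroup.mk' N) ≤
      pCoreOf p ((sSup 𝒦 ⊔ pCore p H).map (QuotientGroup.mk' N)) := by
    intro E hE
    apply le_pCoreOf (Subgroup.map_mono (F_le_N₁ hE)) _ (hFp E hE)
    exact (Subgroup.map_mono (h.norm E hE)).trans (Subgroup.le_normalizer_map _)
  have hN₁B : (sSup 𝒦 ⊔ pCore p H).map (QuotientGroup.mk' N) ≤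
      pCoreOf p ((sSup 𝒦 ⊔ pCore p H).map (QuotientGroup.mk' N)) := by
    conv_lhs => rw [Subgroup.map_sup]
    apply sup_le
    · rw [Subgroup.map_le_iff_le_comap]
      apply sSup_le
      intro E hE
      rw [← Subgroup.map_le_iff_le_comap]
      exact (Subgroup.map_mono le_sup_left).trans (hFB E hE)
    · obtain ⟨E, hE⟩ := h.ne
      exact (Subgroup.map_mono le_sup_right).trans (hFB E hE)
  have hN₁p : IsPGroup p ((sSup 𝒦 ⊔ pCore p H).map (QuotientGroup.mk' N)) :=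
    (pCoreOf_isPGroup _).to_le hN₁B
  unfold pResidual
  rw [Subgroup.closure_le]
  intro g hg
  have hg' : Nat.Coprime (orderOf g) p := hg
  have hgN₁ : g ∈ sSup 𝒦 ⊔ pCore p H :=
    (le_sup_left : sSup 𝒦 ≤ sSup 𝒦 ⊔ pCore p H) (h.res (Subgroup.subset_closure hg))
  obtain ⟨k, hk⟩ := hN₁p ⟨QuotientGroup.mk' N g, Subgroup.mem_map_of_mem _ hgN₁⟩
  have hk' : (QuotientGroup.mk' N g) ^ p ^ k = 1 := by
    have := congrArg Subtype.val hk
    simpa using this
  have hdvd : orderOf (QuotientGroup.mk' N g) ∣ orderOf g := orderOf_map_dvd _ g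
  have hcop : Nat.Coprime (orderOf (QuotientGroup.mk' N g)) (p ^ k) :=
    (Nat.Coprime.coprime_dvd_left hdvd hg').pow_right k
  have h1 : orderOf (QuotientGroup.mk' N g) ∣ p ^ k := orderOf_dvd_of_pow_eq_one hk'
  have h2 : orderOf (QuotientGroup.mk' N g) = 1 := Nat.Coprime.eq_one_of_dvd hcop h1
  have h3 : QuotientGroup.mk' N g = 1 := orderOf_eq_one_iff.mp h2
  exact (QuotientGroup.eq_one_iff g).mp h3

theorem le_pCore_of_commutator_Op (h : Hyp p 𝒦) {T : Subgroup H} (hT : IsPGroup p T)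
    (hc : ∀ E ∈ 𝒦, ⁅T, Op p E⁆ ≤ pCore p H) : T ≤ pCore p H := by
  haveI hR₁n : (⨆ E : 𝒦, Op p (E : Subgroup H)).Normal := by
    rw [← Subgroup.normalizer_eq_top_iff, eq_top_iff]
    intro g _
    apply mem_normalizer_of_map_conj_le
    rw [Subgroup.map_iSup]
    apply iSup_le
    rintro ⟨E, hE⟩
    exact (conj_Op_le p g E).trans
      (le_iSup (fun E : 𝒦 => Op p (E : Subgroup H)) ⟨_, h.inv g E hE⟩)
  have hres : pResidual p H ≤ ⨆ E : 𝒦, Op p (E : Subgroup H) :=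
    residual_le h (fun E hE => le_iSup (fun E : 𝒦 => Op p (E : Subgroup H)) ⟨E, hE⟩)
  have hR₁ : (⨆ E : 𝒦, Op p (E : Subgroup H)) ≤ cmod (pCore p H) T := by
    apply iSup_le
    rintro ⟨E, hE⟩
    apply le_cmod_of_commutator_le (fun g _ => mem_normalizer_of_normal g)
    rw [Subgroup.commutator_comm]; exact hc E hE
  apply le_pCore_of_commutator_residual T hT
  calc ⁅T, pResidual p H⁆ ≤ ⁅T, ⨆ E : 𝒦, Op p (E : Subgroup H)⁆ :=
        Subgroup.commutator_mono le_rfl hres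
    _ = ⁅⨆ E : 𝒦, Op p (E : Subgroup H), T⁆ := Subgroup.commutator_comm _ _
    _ ≤ pCore p H := commutator_le_of_le_cmod hR₁

/-- The subgroup generated by the `E`-conjugates of `U`. -/
def ncl (E U : Subgroup H) : Subgroup H :=
  Subgroup.closure {x : H | ∃ e ∈ E, ∃ u ∈ U, x = e * u * e⁻¹}

theorem le_ncl (E U : Subgroup H) : U ≤ ncl E U := fun u hu =>
  Subgroup.subset_closure ⟨1, E.one_mem, u, hu, by simp⟩

theorem ncl_le {E U : Subgroup H} (hUE : U ≤ E) : ncl E U ≤ E := by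
  unfold ncl; rw [Subgroup.closure_le]
  rintro _ ⟨e, he, u, hu, rfl⟩
  exact E.mul_mem (E.mul_mem he (hUE hu)) (E.inv_mem he)

theorem le_normalizer_ncl (E U : Subgroup H) :
    E ≤ Subgroup.normalizer (ncl E U : Set H) := by
  intro g hg
  apply mem_normalizer_of_map_conj_le
  unfold ncl
  rw [MonoidHom.map_closure, Subgroup.closure_le]
  rintro _ ⟨_, ⟨e, he, u, hu, rfl⟩, rfl⟩
  apply Subgroup.subset_closure
  refine ⟨g * e, E.mul_mem hg he, u, hu, ?_⟩
  simp only [MulEquiv.coe_toMonoidHom, MulAut.conj_apply]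
  group

theorem ncl_le_of_normalizer {E U C : Subgroup H} (hUC : U ≤ C)
    (hEC : E ≤ Subgroup.normalizer (C : Set H)) : ncl E U ≤ C := by
  unfold ncl; rw [Subgroup.closure_le]
  rintro _ ⟨e, he, u, hu, rfl⟩
  exact (Subgroup.mem_normalizer_iff.mp (hEC he) u).mp (hUC hu)

theorem Op_le_ncl (h : Hyp p 𝒦) {E : Subgroup H} (hE : E ∈ 𝒦)
    (hE2 : IsStronglyPIrreducible p ↥E) (S : Sylow p H) :
    Op p E ≤ ncl E ((S : Subgroup H) ⊓ E) := by
  obtain ⟨T, hT⟩ := exists_sylow_map_eq h S hE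
  apply residual_le_of hE2 (ncl_le inf_le_right) (le_normalizer_ncl E _)
  intro hle
  apply not_normalizes_sylow hE2 T hT
  have hA : pCoreOf p E ≤ (S : Subgroup H) ⊓ E :=
    le_inf ((pCoreOf_E_le h hE).trans (pCore_le_sylow S)) (pCoreOf_le E)
  intro e he
  apply mem_normalizer_of_map_conj_le
  rintro _ ⟨u, hu, rfl⟩
  simp only [MulEquiv.coe_toMonoidHom, MulAut.conj_apply]
  have h1 : ⁅u, e⁆ ∈ pCoreOf p E :=
    hle (Subgroup.commutator_mem_commutator (le_ncl _ _ hu) he)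
  have e1 : e * u * e⁻¹ = (⁅u, e⁆)⁻¹ * u := by rw [commutatorElement_def]; group
  rw [e1]; exact mul_mem (inv_mem (hA h1)) hu

theorem Op_sup_sylow (h : Hyp p 𝒦) {E : Subgroup H} (hE : E ∈ 𝒦) (S : Sylow p H) :
    Op p E ⊔ ((S : Subgroup H) ⊓ E) = E := by
  obtain ⟨T, hT⟩ := exists_sylow_map_eq h S hE
  rw [← hT, ← pResidual_map_eq, ← Subgroup.map_sup, sup_comm, sylow_sup_pResidual T,
    ← MonoidHom.range_eq_map, Subgroup.range_subtype]

theorem commutator_sup_le {A E : Subgroup H} (hA : ⁅A, E⁆ ≤ pCore p H) :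
    ⁅A ⊔ pCore p H, E⁆ ≤ pCore p H := by
  apply commutator_le_of_le_cmod
  apply sup_le
  · exact le_cmod_of_commutator_le (fun g _ => mem_normalizer_of_normal g) hA
  · exact le_cmod_of_commutator_le (fun g _ => mem_normalizer_of_normal g)
      (Subgroup.commutator_le_left _ _)

theorem pgroup_le_pCore (h : Hyp p 𝒦) {E : Subgroup H} (hE : E ∈ 𝒦) {A : Subgroup H}
    (hAE : A ≤ E) (hA : ⁅A, E⁆ ≤ pCore p H) {B : Subgroup H} (hBp : IsPGroup p B)
    (hB : B ≤ A ⊔ pCore p H) : B ≤ pCore p H := by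
  apply le_pCore_of_F h hE hBp (hB.trans (sup_le_sup_right hAE _))
  intro e he
  apply mem_normalizer_of_map_conj_le
  rw [Subgroup.map_sup, map_conj_eq_of_mem_normalizer (W := pCore p H)
    (mem_normalizer_of_normal e)]
  apply sup_le _ le_sup_right
  rintro _ ⟨b, hb, rfl⟩
  simp only [MulEquiv.coe_toMonoidHom, MulAut.conj_apply]
  have h1 : ⁅b, e⁆ ∈ pCore p H :=
    commutator_sup_le hA (Subgroup.commutator_mem_commutator (hB hb) he)
  have e1 : e * b * e⁻¹ = (⁅b, e⁆)⁻¹ * b := by rw [commutatorElement_def]; group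
  rw [e1]
  exact mul_mem (Subgroup.mem_sup_right (inv_mem h1)) (Subgroup.mem_sup_left hb)

/-- Elements commuting with `t` modulo `O_p(H)`. -/
def commSub (q : ℕ) (t : H) : Subgroup H where
  carrier := {g | Commute (QuotientGroup.mk' (pCore q H) t) (QuotientGroup.mk' (pCore q H) g)}
  one_mem' := by
    show Commute _ _
    rw [map_one]; exact Commute.one_right _
  mul_mem' := @fun a b ha hb => by
    show Commute _ _
    rw [map_mul]; exact Commute.mul_right ha hb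
  inv_mem' := @fun a ha => by
    show Commute _ _
    rw [map_inv]; exact Commute.inv_right ha

theorem mem_commSub {t g : H} : g ∈ commSub p t ↔
    Commute (QuotientGroup.mk' (pCore p H) t) (QuotientGroup.mk' (pCore p H) g) := Iff.rfl

theorem mem_commSub_iff {t g : H} : g ∈ commSub p t ↔ ⁅t, g⁆ ∈ pCore p H := by
  have e : QuotientGroup.mk' (pCore p H) ⁅t, g⁆ =
      ⁅QuotientGroup.mk' (pCore p H) t, QuotientGroup.mk' (pCore p H) g⁆ :=
    map_commutatorElement _ _ _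
  have e2 : ⁅t, g⁆ ∈ pCore p H ↔ QuotientGroup.mk' (pCore p H) ⁅t, g⁆ = 1 :=
    (QuotientGroup.eq_one_iff _).symm
  rw [mem_commSub, e2, e, commutatorElement_eq_one_iff_commute]

theorem central (h : Hyp p 𝒦) {E : Subgroup H} (hE : E ∈ 𝒦)
    (hE2 : IsStronglyPIrreducible p ↥E) (S : Sylow p H) {A : Subgroup H} (hAE : A ≤ E)
    (hA : ⁅A, E⁆ ≤ pCore p H) (t : H)
    (h1 : ∀ u ∈ (S : Subgroup H) ⊓ E, ⁅t, u⁆ ∈ pCore p H)
    (h2 : ∀ e ∈ E, ∀ y ∈ E, ⁅⁅t, e⁆, y⁆ ∈ A ⊔ pCore p H) :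
    Op p E ≤ commSub p t := by
  refine (Op_le_ncl h hE hE2 S).trans ?_
  unfold ncl
  rw [Subgroup.closure_le]
  rintro _ ⟨e, he, u, hu, rfl⟩
  have huE : u ∈ E := (Subgroup.mem_inf.mp hu).2
  have huS : u ∈ (S : Subgroup H) := (Subgroup.mem_inf.mp hu).1
  have hy : e * u * e⁻¹ ∈ E := E.mul_mem (E.mul_mem he huE) (E.inv_mem he)
  have hzA : ⁅⁅t, e⁆, e * u * e⁻¹⁆ ∈ A ⊔ pCore p H := h2 e he _ hy
  have hmem : ∀ x : H, QuotientGroup.mk' (pCore p H) x = 1 ↔ x ∈ pCore p H :=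
    fun x => QuotientGroup.eq_one_iff x
  have hac : Commute (QuotientGroup.mk' (pCore p H) t) (QuotientGroup.mk' (pCore p H) u) :=
    mem_commSub.mp (mem_commSub_iff.mpr (h1 u hu))
  have hzy : Commute (QuotientGroup.mk' (pCore p H) ⁅⁅t, e⁆, e * u * e⁻¹⁆)
      (QuotientGroup.mk' (pCore p H) (e * u * e⁻¹)) := by
    apply mem_commSub.mp
    apply mem_commSub_iff.mpr
    exact commutator_sup_le hA (Subgroup.commutator_mem_commutator hzA hy)
  have hconj : QuotientGroup.mk' (pCore p H) t * QuotientGroup.mk' (pCore p H) (e * u * e⁻¹) *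
      (QuotientGroup.mk' (pCore p H) t)⁻¹ =
      QuotientGroup.mk' (pCore p H) ⁅⁅t, e⁆, e * u * e⁻¹⁆ *
        QuotientGroup.mk' (pCore p H) (e * u * e⁻¹) := by
    have hac' : QuotientGroup.mk' (pCore p H) t * QuotientGroup.mk' (pCore p H) u *
        (QuotientGroup.mk' (pCore p H) t)⁻¹ = QuotientGroup.mk' (pCore p H) u := by
      rw [hac.eq]; group
    generalize QuotientGroup.mk' (pCore p H) = π at hac' ⊢
    simp only [map_commutatorElement, map_mul, map_inv]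
    calc π t * (π e * π u * (π e)⁻¹) * (π t)⁻¹
        = (π t * π e * (π t)⁻¹) * (π t * π u * (π t)⁻¹) * (π t * π e * (π t)⁻¹)⁻¹ := by group
      _ = (π t * π e * (π t)⁻¹) * π u * (π t * π e * (π t)⁻¹)⁻¹ := by rw [hac']
      _ = ⁅⁅π t, π e⁆, π e * π u * (π e)⁻¹⁆ * (π e * π u * (π e)⁻¹) := by
        simp only [commutatorElement_def]; group
  obtain ⟨k, hk⟩ := S.2 ⟨u, huS⟩
  have huk : u ^ p ^ k = 1 := by
    have := congrArg Subtype.val hk
    simpa using this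
  have hyk : (QuotientGroup.mk' (pCore p H) (e * u * e⁻¹)) ^ p ^ k = 1 := by
    rw [← map_pow, conj_pow, huk]; simp
  have hzk : (QuotientGroup.mk' (pCore p H) ⁅⁅t, e⁆, e * u * e⁻¹⁆) ^ p ^ k = 1 := by
    have h3 : (QuotientGroup.mk' (pCore p H) t * QuotientGroup.mk' (pCore p H) (e * u * e⁻¹) *
        (QuotientGroup.mk' (pCore p H) t)⁻¹) ^ p ^ k = 1 := by
      rw [conj_pow, hyk]; simp
    rw [hconj, hzy.mul_pow, hyk, mul_one] at h3
    exact h3
  have hzP : ⁅⁅t, e⁆, e * u * e⁻¹⁆ ^ p ^ k ∈ pCore p H := by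
    rw [← hmem, map_pow]; exact hzk
  obtain ⟨j, hj⟩ := (pCore_isPGroup (p := p) (G := H)) ⟨_, hzP⟩
  have hzj : (⁅⁅t, e⁆, e * u * e⁻¹⁆ ^ p ^ k) ^ p ^ j = 1 := by
    have := congrArg Subtype.val hj
    simpa using this
  have hzpow : ⁅⁅t, e⁆, e * u * e⁻¹⁆ ^ p ^ (k + j) = 1 := by
    rw [pow_add, pow_mul]; exact hzj
  have hzp : IsPGroup p (Subgroup.zpowers ⁅⁅t, e⁆, e * u * e⁻¹⁆) := by
    rintro ⟨g, hg⟩
    obtain ⟨n, rfl⟩ := Subgroup.mem_zpowers_iff.mp hg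
    refine ⟨k + j, Subtype.ext ?_⟩
    simp only [Subgroup.coe_pow, Subgroup.coe_one]
    rw [← zpow_natCast, ← zpow_mul, mul_comm, zpow_mul, zpow_natCast, hzpow, one_zpow]
  have hz : ⁅⁅t, e⁆, e * u * e⁻¹⁆ ∈ pCore p H :=
    pgroup_le_pCore h hE hAE hA hzp (Subgroup.zpowers_le.mpr hzA) (Subgroup.mem_zpowers _)
  have hz1 : QuotientGroup.mk' (pCore p H) ⁅⁅t, e⁆, e * u * e⁻¹⁆ = 1 := (hmem _).mpr hz
  rw [hz1, one_mul] at hconj
  apply mem_commSub.mpr
  show QuotientGroup.mk' (pCore p H) t * QuotientGroup.mk' (pCore p H) (e * u * e⁻¹) =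
    QuotientGroup.mk' (pCore p H) (e * u * e⁻¹) * QuotientGroup.mk' (pCore p H) t
  calc QuotientGroup.mk' (pCore p H) t * QuotientGroup.mk' (pCore p H) (e * u * e⁻¹)
      = (QuotientGroup.mk' (pCore p H) t * QuotientGroup.mk' (pCore p H) (e * u * e⁻¹) *
          (QuotientGroup.mk' (pCore p H) t)⁻¹) * QuotientGroup.mk' (pCore p H) t := by group
    _ = QuotientGroup.mk' (pCore p H) (e * u * e⁻¹) * QuotientGroup.mk' (pCore p H) t := by
      rw [hconj]

theorem h2_of (h : Hyp p 𝒦) {E : Subgroup H} (hE : E ∈ 𝒦) {N' : Subgroup H} [N'.Normal]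
    (hPN' : pCore p H ≤ N') {t : H} (ht : t ∈ N') :
    ∀ e ∈ E, ∀ y ∈ E, ⁅⁅t, e⁆, y⁆ ∈ (N' ⊓ E) ⊔ pCore p H := by
  haveI hN₁n : (sSup 𝒦 ⊔ pCore p H).Normal := N₁_normal h
  intro e he y hy
  rw [← inf_sup_of_le hPN']
  have hd1 : ⁅t, e⁆ ∈ N' := comm_mem_left_of_normal ht
  have hd2 : ⁅t, e⁆ ∈ sSup 𝒦 ⊔ pCore p H :=
    comm_mem_right_of_normal (F_le_N₁ hE (Subgroup.mem_sup_left he))
  refine Subgroup.mem_inf.mpr ⟨comm_mem_left_of_normal hd1, ?_⟩
  exact comm_mem_of_mem_normalizer_left (h.norm E hE hd2) (Subgroup.mem_sup_left hy)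

theorem part2_irr (h : Hyp p 𝒦) (h2 : ∀ E ∈ 𝒦, IsStronglyPIrreducible p ↥E) :
    IsPIrreducible p H := by
  haveI hN₁n : (sSup 𝒦 ⊔ pCore p H).Normal := N₁_normal h
  obtain ⟨S⟩ : Nonempty (Sylow p H) := inferInstance
  have hPS : pCore p H ≤ (S : Subgroup H) := pCore_le_sylow S
  constructor
  · intro hcl
    have hSn : (S : Subgroup H).Normal := hcl S
    obtain ⟨E, hE⟩ := h.ne
    obtain ⟨T, hT⟩ := exists_sylow_map_eq h S hE
    apply not_normalizes_sylow (h2 E hE) T hT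
    intro e he
    haveI := hSn
    exact mem_normalizer_inf (mem_normalizer_of_normal e) (Subgroup.le_normalizer he)
  · intro N hNn hNcl
    haveI := hNn
    haveI hN'n : (N ⊔ pCore p H).Normal := inferInstance
    have hPN' : pCore p H ≤ N ⊔ pCore p H := le_sup_right
    suffices hsuff : pResidual p H ≤ N ⊔ pCore p H by
      unfold pResidual; rw [Subgroup.closure_le]; intro g hg
      have hg1 : g ∈ N ⊔ pCore p H := hsuff (Subgroup.subset_closure hg)
      exact mem_of_coprime_of_mem_sup_pgroup pCore_isPGroup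
        (fun x _ => mem_normalizer_of_normal x) hg1 hg
    apply residual_le h
    by_contra hcon
    push_neg at hcon
    obtain ⟨E₁, hE₁, hE₁N⟩ := hcon
    have hall : ∀ E ∈ 𝒦, ¬ Op p E ≤ N ⊔ pCore p H := by
      intro E hE hle
      obtain ⟨g, rfl⟩ := h.tr E₁ hE₁ E hE
      apply hE₁N
      have h1 : (Op p E₁).map (MulAut.conj g).toMonoidHom ≤ N ⊔ pCore p H :=
        (conj_Op_le p g E₁).trans hle
      have h2' := conjMap_mono h1 g⁻¹
      rwa [conjMap_inv_conjMap, map_conj_eq_of_mem_normalizer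
        (W := N ⊔ pCore p H) (mem_normalizer_of_normal g⁻¹)] at h2'
    have hA : ∀ E ∈ 𝒦, ⁅(N ⊔ pCore p H) ⊓ E, E⁆ ≤ pCore p H := by
      intro E hE
      by_contra hc
      apply hall E hE
      have h0 : Op p E ≤ (N ⊔ pCore p H) ⊓ E :=
        residual_le_of (h2 E hE) inf_le_right
          (fun e he => mem_normalizer_inf (mem_normalizer_of_normal e)
            (Subgroup.le_normalizer he))
          (fun hle => hc (hle.trans (pCoreOf_E_le h hE)))
      exact h0.trans inf_le_left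
    have hround : ∀ T : Subgroup H, T ≤ (S : Subgroup H) ⊓ (N ⊔ pCore p H) →
        (∀ E ∈ 𝒦, ∀ t ∈ T, ∀ u ∈ (S : Subgroup H) ⊓ E, ⁅t, u⁆ ∈ pCore p H) →
        T ≤ pCore p H := by
      intro T hT hcomm
      apply le_pCore_of_commutator_Op h (S.2.to_le (hT.trans inf_le_left))
      intro E hE
      rw [Subgroup.commutator_le]
      intro t ht x hx
      have htN : t ∈ N ⊔ pCore p H := (Subgroup.mem_inf.mp (hT ht)).2
      have h3 := central h hE (h2 E hE) S (inf_le_right : (N ⊔ pCore p H) ⊓ E ≤ E) (hA E hE) t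
        (hcomm E hE t ht) (h2_of h hE hPN' htN)
      exact mem_commSub_iff.mp (h3 hx)
    have hα : (S : Subgroup H) ⊓ (N ⊔ pCore p H) ⊓ (sSup 𝒦 ⊔ pCore p H) ≤ pCore p H := by
      apply hround _ inf_le_left
      intro E hE t ht u hu
      obtain ⟨ht1, htN₁⟩ := Subgroup.mem_inf.mp ht
      obtain ⟨htS, htN⟩ := Subgroup.mem_inf.mp ht1
      obtain ⟨huS, huE⟩ := Subgroup.mem_inf.mp hu
      have hB : (S : Subgroup H) ⊓ (((N ⊔ pCore p H) ⊓ E) ⊔ pCore p H) ≤ pCore p H :=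
        pgroup_le_pCore h hE inf_le_right (hA E hE) (S.2.to_le inf_le_left) inf_le_right
      apply hB
      refine Subgroup.mem_inf.mpr ⟨?_, ?_⟩
      · rw [commutatorElement_def]
        exact mul_mem (mul_mem (mul_mem htS huS) (inv_mem htS)) (inv_mem huS)
      · rw [← inf_sup_of_le hPN']
        refine Subgroup.mem_inf.mpr ⟨comm_mem_left_of_normal htN, ?_⟩
        exact comm_mem_of_mem_normalizer_left (h.norm E hE htN₁) (Subgroup.mem_sup_left huE)
    have hβ : (S : Subgroup H) ⊓ (N ⊔ pCore p H) ≤ pCore p H := by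
      apply hround _ le_rfl
      intro E hE t ht u hu
      obtain ⟨htS, htN⟩ := Subgroup.mem_inf.mp ht
      obtain ⟨huS, huE⟩ := Subgroup.mem_inf.mp hu
      apply hα
      refine Subgroup.mem_inf.mpr ⟨Subgroup.mem_inf.mpr ⟨?_, comm_mem_left_of_normal htN⟩, ?_⟩
      · rw [commutatorElement_def]
        exact mul_mem (mul_mem (mul_mem htS huS) (inv_mem htS)) (inv_mem huS)
      · exact comm_mem_right_of_normal (F_le_N₁ hE (Subgroup.mem_sup_left huE))
    apply hNcl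
    have hSN : (S : Subgroup H) ⊓ N ≤ pCore p H := (inf_le_inf_left _ le_sup_left).trans hβ
    apply isPClosed_of_sylow_normal (sylowInfNormal S N)
    rw [coe_sylowInfNormal]
    have e : (S : Subgroup H).subgroupOf N = (pCore p H).subgroupOf N := by
      rw [← Subgroup.inf_subgroupOf_right (S : Subgroup H) N,
        ← Subgroup.inf_subgroupOf_right (pCore p H) N]
      congr 1
      exact le_antisymm (le_inf hSN inf_le_right) (inf_le_inf_right _ hPS)
    rw [e]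
    exact Subgroup.Normal.subgroupOf inferInstance N

theorem card_Op_F_le (h : Hyp p 𝒦) {E K : Subgroup H} (hE : E ∈ 𝒦) (hK : K ∈ 𝒦) :
    Nat.card ↥(Op p (E ⊔ pCore p H)) ≤ Nat.card ↥(Op p (K ⊔ pCore p H)) := by
  obtain ⟨g, rfl⟩ := h.tr E hE K hK
  have h1 : (Op p (E ⊔ pCore p H)).map (MulAut.conj g).toMonoidHom ≤
      Op p (E.map (MulAut.conj g).toMonoidHom ⊔ pCore p H) := by
    have h0 := conj_Op_le p g (E ⊔ pCore p H)
    rwa [Subgroup.map_sup, map_conj_eq_of_mem_normalizer (W := pCore p H)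
      (mem_normalizer_of_normal g)] at h0
  rw [← card_map_conj (Op p (E ⊔ pCore p H)) g]
  exact Subgroup.card_le_of_le h1

theorem case1 (h : Hyp p 𝒦) {E K : Subgroup H} (hE : E ∈ 𝒦) (hK : K ∈ 𝒦)
    (hle : Op p E ≤ K ⊔ pCore p H) :
    Op p (E ⊔ pCore p H) = Op p (K ⊔ pCore p H) := by
  obtain ⟨T, hTp, -, hTE, hsup⟩ :=
    exists_pgroup_sup_Op (p := p) (Q := (⊥ : Subgroup H)) (L := E) IsPGroup.of_bot bot_le
  have hT₂p : IsPGroup p (T ⊔ pCore p H : Subgroup H) :=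
    hTp.to_sup_of_normal_right pCore_isPGroup
  have hT₂F : T ⊔ pCore p H ≤ E ⊔ pCore p H := sup_le_sup_right hTE _
  have hFEN : E ⊔ pCore p H ≤ Subgroup.normalizer ((K ⊔ pCore p H : Subgroup H) : Set H) :=
    (F_le_N₁ hE).trans (h.norm K hK)
  have hT₂Y : T ⊔ pCore p H ≤ Subgroup.normalizer
      (((K ⊔ pCore p H) ⊓ (E ⊔ pCore p H) : Subgroup H) : Set H) := by
    intro x hx
    exact mem_normalizer_inf (hFEN (hT₂F hx)) (Subgroup.le_normalizer (hT₂F hx))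
  have hF : E ⊔ pCore p H ≤ ((K ⊔ pCore p H) ⊓ (E ⊔ pCore p H)) ⊔ (T ⊔ pCore p H) := by
    apply sup_le _ (le_sup_right.trans le_sup_right)
    have hE' : E ≤ Op p E ⊔ T := le_of_eq hsup.symm
    refine hE'.trans (sup_le ?_ ?_)
    · exact le_sup_of_le_left (le_inf hle ((Op_le p E).trans le_sup_left))
    · exact le_sup_of_le_right le_sup_left
  have h1 : Op p (E ⊔ pCore p H) ≤ K ⊔ pCore p H :=
    ((Op_mono p hF).trans (Op_sup_le hT₂p hT₂Y)).trans inf_le_left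
  have h2 : Op p (E ⊔ pCore p H) ≤ Op p (K ⊔ pCore p H) :=
    calc Op p (E ⊔ pCore p H) = Op p (Op p (E ⊔ pCore p H)) := (Op_idem p _).symm
      _ ≤ Op p (K ⊔ pCore p H) := Op_mono p h1
  exact Subgroup.eq_of_le_of_card_ge h2 (card_Op_F_le h hK hE)

theorem part2_comm (h : Hyp p 𝒦) (h2 : ∀ E ∈ 𝒦, IsStronglyPIrreducible p ↥E)
    {E K : Subgroup H} (hE : E ∈ 𝒦) (hK : K ∈ 𝒦) :
    Op p (E ⊔ pCore p H) = Op p (K ⊔ pCore p H) ∨ ⁅E, K⁆ ≤ pCore p H := by
  haveI hN₁n : (sSup 𝒦 ⊔ pCore p H).Normal := N₁_normal h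
  have hEFK : E ≤ Subgroup.normalizer ((K ⊔ pCore p H : Subgroup H) : Set H) :=
    (le_sup_left.trans (F_le_N₁ hE)).trans (h.norm K hK)
  have hKFE : K ≤ Subgroup.normalizer ((E ⊔ pCore p H : Subgroup H) : Set H) :=
    (le_sup_left.trans (F_le_N₁ hK)).trans (h.norm E hE)
  by_cases c1 : ⁅(K ⊔ pCore p H) ⊓ E, E⁆ ≤ pCoreOf p E
  swap
  · left
    have h0 : Op p E ≤ (K ⊔ pCore p H) ⊓ E :=
      residual_le_of (h2 E hE) inf_le_right
        (fun e he => mem_normalizer_inf (hEFK he) (Subgroup.le_normalizer he)) c1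
    exact case1 h hE hK (h0.trans inf_le_left)
  by_cases c2 : ⁅(E ⊔ pCore p H) ⊓ K, K⁆ ≤ pCoreOf p K
  swap
  · left
    have h0 : Op p K ≤ (E ⊔ pCore p H) ⊓ K :=
      residual_le_of (h2 K hK) inf_le_right
        (fun e he => mem_normalizer_inf (hKFE he) (Subgroup.le_normalizer he)) c2
    exact (case1 h hK hE (h0.trans inf_le_left)).symm
  right
  have hAE : ⁅(K ⊔ pCore p H) ⊓ E, E⁆ ≤ pCore p H := c1.trans (pCoreOf_E_le h hE)
  obtain ⟨S⟩ : Nonempty (Sylow p H) := inferInstance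
  have hmeet : (K ⊔ pCore p H) ⊓ (E ⊔ pCore p H) = ((K ⊔ pCore p H) ⊓ E) ⊔ pCore p H :=
    inf_sup_of_le le_sup_right
  have hcommFF : ∀ k ∈ K, ∀ e ∈ E, ⁅k, e⁆ ∈ ((K ⊔ pCore p H) ⊓ E) ⊔ pCore p H := by
    intro k hk e he
    rw [← hmeet]
    refine Subgroup.mem_inf.mpr ⟨?_, ?_⟩
    · exact comm_mem_of_mem_normalizer_right (Subgroup.mem_sup_left hk) (hEFK he)
    · exact comm_mem_of_mem_normalizer_left (hKFE hk) (Subgroup.mem_sup_left he)
  have hstepa : (S : Subgroup H) ⊓ K ≤ cmod (pCore p H) (E ⊔ pCore p H) := by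
    intro k hk
    obtain ⟨hkS, hkK⟩ := Subgroup.mem_inf.mp hk
    have h1 : ∀ u ∈ (S : Subgroup H) ⊓ E, ⁅k, u⁆ ∈ pCore p H := by
      intro u hu
      obtain ⟨huS, huE⟩ := Subgroup.mem_inf.mp hu
      have hB : (S : Subgroup H) ⊓ (((K ⊔ pCore p H) ⊓ E) ⊔ pCore p H) ≤ pCore p H :=
        pgroup_le_pCore h hE inf_le_right hAE (S.2.to_le inf_le_left) inf_le_right
      apply hB
      refine Subgroup.mem_inf.mpr ⟨?_, hcommFF k hkK u huE⟩
      rw [commutatorElement_def]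
      exact mul_mem (mul_mem (mul_mem hkS huS) (inv_mem hkS)) (inv_mem huS)
    have h2' : ∀ e ∈ E, ∀ y ∈ E, ⁅⁅k, e⁆, y⁆ ∈ ((K ⊔ pCore p H) ⊓ E) ⊔ pCore p H := by
      intro e he y hy
      exact (le_sup_right : pCore p H ≤ ((K ⊔ pCore p H) ⊓ E) ⊔ pCore p H)
        (commutator_sup_le hAE (Subgroup.commutator_mem_commutator (hcommFF k hkK e he) hy))
    have h3 := central h hE (h2 E hE) S (inf_le_right : (K ⊔ pCore p H) ⊓ E ≤ E) hAE k h1 h2'
    have hEc : E ≤ commSub p k := by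
      have hE' : E ≤ Op p E ⊔ ((S : Subgroup H) ⊓ E) := le_of_eq (Op_sup_sylow h hE S).symm
      refine hE'.trans (sup_le h3 ?_)
      intro u hu
      exact mem_commSub_iff.mpr (h1 u hu)
    have hPc : pCore p H ≤ commSub p k := by
      intro y hy
      exact mem_commSub_iff.mpr (comm_mem_right_of_normal hy)
    refine mem_cmod.mpr ⟨mem_normalizer_of_normal k, ?_⟩
    intro f hf
    exact mem_commSub_iff.mp ((sup_le hEc hPc) hf)
  have hKnorm : K ≤ Subgroup.normalizer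
      ((cmod (pCore p H) (E ⊔ pCore p H) : Subgroup H) : Set H) := by
    intro k hk
    exact mem_normalizer_cmod (mem_normalizer_of_normal k) (hKFE hk)
  have hOpK : Op p K ≤ cmod (pCore p H) (E ⊔ pCore p H) :=
    (Op_le_ncl h hK (h2 K hK) S).trans (ncl_le_of_normalizer hstepa hKnorm)
  have hKc : K ≤ cmod (pCore p H) (E ⊔ pCore p H) := by
    have hK' : K ≤ Op p K ⊔ ((S : Subgroup H) ⊓ K) := le_of_eq (Op_sup_sylow h hK S).symm
    exact hK'.trans (sup_le hOpK hstepa)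
  rw [Subgroup.commutator_comm]
  exact (Subgroup.commutator_mono le_rfl le_sup_left).trans (commutator_le_of_le_cmod hKc)

end family

/-- Let H be a finite group, p a prime, and 𝒦 a nonempty set of subgroups of H permuted transitively by conjugation, with R the subgroup generated by the members of 𝒦. Suppose O^p(H) ≤ R, each E ∈ 𝒦 has E·O_p(H) normal in R·O_p(H), and each E ∈ 𝒦 is p-minimal (generated by the conjugates of a Sylow p-subgroup T_E of E, with T_E in exactly one maximal subgroup of E). Then H is p-minimal in the same sense. If instead each E ∈ 𝒦 is strongly p-irreducible, then H is p-irreducible and, for E, K ∈ 𝒦, either O^p(E·O_p(H)) = O^p(K·O_p(H)) or [E, K] ≤ O_p(H). -/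
theorem result {H : Type*} [Group H] [Finite H] {p : ℕ} [Fact p.Prime] (𝒦 : Set (Subgroup H)) (hne : 𝒦.Nonempty) (hinv : ∀ h : H, ∀ E ∈ 𝒦, E.map (MulAut.conj h).toMonoidHom ∈ 𝒦) (htr : ∀ E ∈ 𝒦, ∀ K ∈ 𝒦, ∃ h : H, K = E.map (MulAut.conj h).toMonoidHom) (hres : Cfsg.pResidual p H ≤ sSup 𝒦) (hnorm : ∀ E ∈ 𝒦, sSup 𝒦 ⊔ Cfsg.pCore p H ≤ Subgroup.normalizer ((E ⊔ Cfsg.pCore p H : Subgroup H) : Set H)) : ((∀ E ∈ 𝒦, ∀ T : Sylow p ↥E, Cfsg.IsMinimalOver (T : Subgroup ↥E)) → ∀ T : Sylow p H, Cfsg.IsMinimalOver (T : Subgroup H)) ∧ ((∀ E ∈ 𝒦, Cfsg.IsStronglyPIrreducible p ↥E) → Cfsg.IsPIrreducible p H ∧ ∀ E ∈ 𝒦, ∀ K ∈ 𝒦, (Cfsg.pResidual p ↥(E ⊔ Cfsg.pCore p H)).map (E ⊔ Cfsg.pCore p H).subtype = (Cfsg.pResidual p ↥(K ⊔ Cfsg.pCore p H)).map (K ⊔ Cfsg.pCore p H).subtype ∨ ⁅E, K⁆ ≤ Cfsg.pCore p H) := by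
  have h : Hyp p 𝒦 := ⟨hne, hinv, htr, hres, hnorm⟩
  refine ⟨fun h1 S => part1 h h1 S, fun h2 => ⟨part2_irr h h2, ?_⟩⟩
  intro E hE K hK
  rw [pResidual_map_eq, pResidual_map_eq]
  exact part2_comm h h2 hE hK

end Cfsg.Agent.S2855
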