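import Cfsg.Statements.S2872
import Cfsg.Agent.Lib.Helper17.TransferZ
import Cfsg.Agent.Lib.Helper17.PResidual
import Cfsg.Agent.Lib.Helper1.Frattini

set_option autoImplicit false
open Cfsg

namespace Cfsg.Agent.S2872

open Cfsg.Agent.Lib.Helper17

/-- Let S be a Sylow 2-subgroup of the finite group G. Then G has a proper normal subgroup of 2-power index (O²(G) ≠ G), or Ω₁(Z(S)) is contained in the Frattini subgroup of S, or N_G(S) acts nontrivially on Ω₁(Z(S)) by conjugation. -/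
theorem result {G : Type*} [Group G] [Finite G] (S : Sylow 2 G) : Cfsg.pResidual 2 G ≠ ⊤ ∨ Cfsg.omegaOne 2 ((S : Subgroup G) ⊓ Subgroup.centralizer ((S : Subgroup G) : Set G)) ≤ (frattini ↥(S : Subgroup G)).map (S : Subgroup G).subtype ∨ ∃ g ∈ Subgroup.normalizer ((S : Subgroup G) : Set G), ∃ z ∈ Cfsg.omegaOne 2 ((S : Subgroup G) ⊓ Subgroup.centralizer ((S : Subgroup G) : Set G)), g * z * g⁻¹ ≠ z := by
  have : Fact (Nat.Prime 2) := ⟨Nat.prime_two⟩
  by_cases h2 : Cfsg.omegaOne 2 ((S : Subgroup G) ⊓ Subgroup.centralizer ((S : Subgroup G) : Set G)) ≤ (frattini ↥(S : Subgroup G)).map (S : Subgroup G).subtype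
  · exact Or.inr (Or.inl h2)
  by_cases h3 : ∃ g ∈ Subgroup.normalizer ((S : Subgroup G) : Set G), ∃ z ∈ Cfsg.omegaOne 2 ((S : Subgroup G) ⊓ Subgroup.centralizer ((S : Subgroup G) : Set G)), g * z * g⁻¹ ≠ z
  · exact Or.inr (Or.inr h3)
  left
  -- a generator outside the Frattini subgroup
  have hz : ∃ z : G, z ∈ (S : Subgroup G) ⊓ Subgroup.centralizer ((S : Subgroup G) : Set G) ∧
      z ^ 2 = 1 ∧ z ∉ (frattini ↥(S : Subgroup G)).map (S : Subgroup G).subtype := by
    by_contra hcon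
    apply h2
    unfold Cfsg.omegaOne
    rw [Subgroup.closure_le]
    rintro x ⟨hx1, hx2⟩
    by_contra hx3
    exact hcon ⟨x, hx1, hx2, hx3⟩
  obtain ⟨z, hz1, hz2, hz3⟩ := hz
  have hzS : z ∈ (S : Subgroup G) := hz1.1
  have hzΩ : z ∈ Cfsg.omegaOne 2 ((S : Subgroup G) ⊓ Subgroup.centralizer ((S : Subgroup G) : Set G)) :=
    Subgroup.subset_closure ⟨hz1, hz2⟩
  -- a maximal subgroup of S not containing z
  have hM : ∃ M : Subgroup ↥(S : Subgroup G), IsCoatom M ∧ (⟨z, hzS⟩ : ↥(S : Subgroup G)) ∉ M := by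
    by_contra hcon
    apply hz3
    refine ⟨⟨z, hzS⟩, ?_, rfl⟩
    have : Subgroup.zpowers (⟨z, hzS⟩ : ↥(S : Subgroup G)) ≤ frattini ↥(S : Subgroup G) := by
      rw [Cfsg.Agent.Lib.Helper1.le_frattini_iff]
      intro M hM
      rw [Subgroup.zpowers_le]
      by_contra hzM
      exact hcon ⟨M, hM, hzM⟩
    exact this (Subgroup.mem_zpowers _)
  obtain ⟨M, hMc, hzM⟩ := hM
  have hMi : M.index = 2 := Cfsg.Agent.Lib.Helper1.IsPGroup.index_of_isCoatom S.2 hMc
  set Q : Subgroup G := M.map (S : Subgroup G).subtype with hQ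
  have hQS : Q ≤ (S : Subgroup G) := Subgroup.map_subtype_le M
  have hQi : Q.relIndex (S : Subgroup G) = 2 := by
    rw [Subgroup.relIndex, Subgroup.subgroupOf, hQ,
      Subgroup.comap_map_eq_self_of_injective (Subgroup.subtype_injective _), hMi]
  have hzQ : z ∉ Q := by
    rintro ⟨y, hy, hyz⟩
    apply hzM
    have : y = ⟨z, hzS⟩ := Subtype.ext hyz
    rwa [← this]
  have hzc : ∀ s ∈ (S : Subgroup G), s * z = z * s := by
    intro s hs
    exact (Subgroup.mem_centralizer_iff.mp hz1.2) s hs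
  have hN : ∀ x ∈ Subgroup.normalizer ((S : Subgroup G) : Set G), x⁻¹ * z * x ∉ Q := by
    intro x hx
    have : x⁻¹ * z * x⁻¹⁻¹ = z := by
      by_contra hne
      exact h3 ⟨x⁻¹, Subgroup.inv_mem _ hx, z, hzΩ, hne⟩
    rw [inv_inv] at this
    rw [this]
    exact hzQ
  obtain ⟨M', hM'n, hM'i, _⟩ :=
    exists_index_two_of_central_involution S Q hQS hQi z hzS hz2 hzc hN
  have hle : Cfsg.pResidual 2 G ≤ M' := by
    apply pResidual_le_of_quotient_isPGroup
    apply IsPGroup.of_card (n := 1)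
    rw [← Subgroup.index_eq_card, hM'i, pow_one]
  intro htop
  rw [htop, top_le_iff] at hle
  rw [hle, Subgroup.index_top] at hM'i
  omega

end Cfsg.Agent.S2872
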