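import Cfsg.Statements.S2940
import Cfsg.Agent.Lib.Helper17.SylowLemmas

set_option autoImplicit false
open Cfsg

namespace Cfsg.Agent.S2940

open Cfsg.Agent.Lib.Helper17

/-- Let S be a Sylow p-subgroup of the finite group G and G₁, G₂ subgroups containing S with G = G₁G₂. Then for every g ∈ G there is a Sylow p-subgroup U of G with S ∩ S^g ≤ U ≤ G₁ ∩ G₂^g (conjugates taken as X^g = g⁻¹Xg). -/
theorem result {G : Type*} [Group G] [Finite G] {p : ℕ} [Fact p.Prime] (S : Sylow p G) (G₁ G₂ : Subgroup G) (h1 : (S : Subgroup G) ≤ G₁) (h2 : (S : Subgroup G) ≤ G₂) (hfact : ∀ g : G, ∃ g₁ ∈ G₁, ∃ g₂ ∈ G₂, g = g₁ * g₂) (g : G) : ∃ U : Sylow p G, (S : Subgroup G) ⊓ Cfsg.subgroupConjRight g (S : Subgroup G) ≤ (U : Subgroup G) ∧ (U : Subgroup G) ≤ G₁ ⊓ Cfsg.subgroupConjRight g G₂ := by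
  obtain ⟨a₁, ha₁, a₂, ha₂, hg⟩ := hfact g⁻¹
  have hR : IsPGroup p ((S : Subgroup G) ⊓ Cfsg.subgroupConjRight g (S : Subgroup G) : Subgroup G) :=
    S.2.to_inf_left
  have hRD : (S : Subgroup G) ⊓ Cfsg.subgroupConjRight g (S : Subgroup G) ≤
      G₁ ⊓ Cfsg.subgroupConjRight g G₂ := by
    apply inf_le_inf h1
    unfold Cfsg.subgroupConjRight
    exact Subgroup.map_mono h2
  have hP : ((a₁ • S : Sylow p G) : Subgroup G) ≤ G₁ ⊓ Cfsg.subgroupConjRight g G₂ := by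
    intro x hx
    rw [Sylow.coe_subgroup_smul, Subgroup.mem_pointwise_smul_iff_inv_smul_mem] at hx
    simp only [MulAut.smul_def, MulAut.inv_apply, MulAut.conj_symm_apply] at hx
    refine ⟨?_, ?_⟩
    · have : x = a₁ * (a₁⁻¹ * x * a₁) * a₁⁻¹ := by group
      rw [this]
      exact G₁.mul_mem (G₁.mul_mem ha₁ (h1 hx)) (G₁.inv_mem ha₁)
    · unfold Cfsg.subgroupConjRight
      refine ⟨g * x * g⁻¹, ?_, ?_⟩
      · have hg' : g = a₂⁻¹ * a₁⁻¹ := by
          rw [← inv_inv g, hg]; group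
        have : g * x * g⁻¹ = a₂⁻¹ * (a₁⁻¹ * x * a₁) * a₂ := by
          rw [hg']; group
        rw [this]
        exact G₂.mul_mem (G₂.mul_mem (G₂.inv_mem ha₂) (h2 hx)) ha₂
      · simp [mul_assoc]
  exact exists_sylow_between hR hRD (a₁ • S) hP

end Cfsg.Agent.S2940
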