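import Cfsg.Statements.S2957
import Cfsg.Agent.S2940
import Cfsg.Agent.Lib.Helper17.Conj

set_option autoImplicit false
open Cfsg

namespace Cfsg.Agent.S2957

open Cfsg.Agent.Lib.Helper17

variable {G : Type*} [Group G]

/-- One link of a chain of Sylow subgroups (in the ambient group). -/
def Step (p : ℕ) (f : Subgroup G → Set (Subgroup G)) (D : Subgroup G) (A B : Sylow p G) : Prop :=
  ∃ P : Sylow p G, ∃ F ∈ f (P : Subgroup G), ∃ x ∈ Subgroup.normalizer (F : Set G),
    (A : Subgroup G) ≤ Subgroup.normalizer (F : Set G) ∧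
    (B : Subgroup G) ≤ Subgroup.normalizer (F : Set G) ∧
    (B : Subgroup G).map (MulAut.conj x⁻¹).toMonoidHom = (A : Subgroup G) ∧ D ≤ (B : Subgroup G)

theorem reflTransGen_of_fin {α : Type*} (R : α → α → Prop) :
    ∀ (n : ℕ) (c : Fin (n + 1) → α), (∀ i : Fin n, R (c i.castSucc) (c i.succ)) →
      Relation.ReflTransGen R (c 0) (c (Fin.last n)) := by
  intro n
  induction n with
  | zero =>
    intro c _
    exact Relation.ReflTransGen.refl
  | succ n ih =>
    intro c h
    have h1 : Relation.ReflTransGen R (c 0) (c (Fin.last n).castSucc) := by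
      have := ih (fun i => c i.castSucc) (fun i => by
        have h' := h i.castSucc
        rw [Fin.succ_castSucc] at h'
        exact h')
      exact this
    have h2 := h (Fin.last n)
    rw [Fin.succ_last] at h2
    exact Relation.ReflTransGen.tail h1 h2

theorem fin_of_reflTransGen {α : Type*} {R : α → α → Prop} {a b : α}
    (h : Relation.ReflTransGen R a b) :
    ∃ (n : ℕ) (c : Fin (n + 1) → α), c 0 = a ∧ c (Fin.last n) = b ∧
      ∀ i : Fin n, R (c i.castSucc) (c i.succ) := by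
  induction h using Relation.ReflTransGen.head_induction_on with
  | refl => exact ⟨0, fun _ => b, rfl, rfl, fun i => i.elim0⟩
  | @head a' c' hac _ ih =>
    obtain ⟨n, c, h0, hl, hc⟩ := ih
    refine ⟨n + 1, (Fin.cons a' c : Fin (n + 2) → α), ?_, ?_, ?_⟩
    · exact Fin.cons_zero _ _
    · rw [← Fin.succ_last, Fin.cons_succ]
      exact hl
    · intro i
      refine Fin.cases ?_ ?_ i
      · rw [Fin.castSucc_zero, Fin.cons_zero, Fin.cons_succ, h0]
        exact hac
      · intro j
        rw [← Fin.succ_castSucc, Fin.cons_succ, Fin.cons_succ]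
        exact hc j

theorem sylow_card_eq [Finite G] {p : ℕ} [Fact p.Prime] (A B : Sylow p G) :
    Nat.card (A : Subgroup G) = Nat.card (B : Subgroup G) := by
  have h1 := A.card_eq_multiplicity
  have h2 := B.card_eq_multiplicity
  exact h1.trans h2.symm

theorem card_subtype [Finite G] {p : ℕ} [Fact p.Prime] {K : Subgroup G} (P : Sylow p G)
    (hP : (P : Subgroup G) ≤ K) :
    Nat.card ((P.subtype hP : Sylow p ↥K) : Subgroup ↥K) = Nat.card (P : Subgroup G) := by
  rw [Sylow.coe_subtype]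
  exact Nat.card_congr (Subgroup.subgroupOfEquivOfLe hP).toEquiv

theorem exists_lift [Finite G] {p : ℕ} [Fact p.Prime] {K : Subgroup G} (S : Sylow p G)
    (hS : (S : Subgroup G) ≤ K) (Q : Sylow p ↥K) :
    ∃ P : Sylow p G, (P : Subgroup G) = (Q : Subgroup ↥K).map K.subtype := by
  have hcard : Nat.card ((Q : Subgroup ↥K).map K.subtype) = p ^ (Nat.card G).factorization p := by
    rw [Subgroup.card_map_of_injective K.subtype_injective, sylow_card_eq Q (S.subtype hS),
      card_subtype S hS]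
    exact S.card_eq_multiplicity
  exact ⟨Sylow.ofCard _ hcard, rfl⟩

/-- A Sylow subgroup of `K` (which contains a Sylow subgroup of `G`) as a Sylow subgroup of `G`. -/
noncomputable def lift [Finite G] {p : ℕ} [Fact p.Prime] {K : Subgroup G} (S : Sylow p G)
    (hS : (S : Subgroup G) ≤ K) (Q : Sylow p ↥K) : Sylow p G :=
  (exists_lift S hS Q).choose

theorem coe_lift [Finite G] {p : ℕ} [Fact p.Prime] {K : Subgroup G} (S : Sylow p G)
    (hS : (S : Subgroup G) ≤ K) (Q : Sylow p ↥K) :
    (lift S hS Q : Subgroup G) = (Q : Subgroup ↥K).map K.subtype :=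
  (exists_lift S hS Q).choose_spec

theorem lift_le [Finite G] {p : ℕ} [Fact p.Prime] {K : Subgroup G} (S : Sylow p G)
    (hS : (S : Subgroup G) ≤ K) (Q : Sylow p ↥K) : (lift S hS Q : Subgroup G) ≤ K := by
  rw [coe_lift]
  rintro _ ⟨y, _, rfl⟩
  exact y.2

theorem mem_lift_iff [Finite G] {p : ℕ} [Fact p.Prime] {K : Subgroup G} (S : Sylow p G)
    (hS : (S : Subgroup G) ≤ K) (Q : Sylow p ↥K) (y : ↥K) :
    (y : G) ∈ (lift S hS Q : Subgroup G) ↔ y ∈ (Q : Subgroup ↥K) := by
  rw [coe_lift]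
  constructor
  · rintro ⟨z, hz, hzy⟩
    have : z = y := Subtype.ext hzy
    rwa [← this]
  · intro hy
    exact ⟨y, hy, rfl⟩

theorem lift_subtype [Finite G] {p : ℕ} [Fact p.Prime] {K : Subgroup G} (S : Sylow p G)
    (hS : (S : Subgroup G) ≤ K) (P : Sylow p G) (hP : (P : Subgroup G) ≤ K) :
    lift S hS (P.subtype hP) = P := by
  apply Sylow.ext
  rw [coe_lift, Sylow.coe_subtype, Subgroup.subgroupOf_map_subtype, inf_eq_left.2 hP]

theorem subtype_lift [Finite G] {p : ℕ} [Fact p.Prime] {K : Subgroup G} (S : Sylow p G)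
    (hS : (S : Subgroup G) ≤ K) (Q : Sylow p ↥K) :
    (lift S hS Q).subtype (lift_le S hS Q) = Q := by
  apply Sylow.ext
  ext y
  rw [Sylow.coe_subtype, Subgroup.mem_subgroupOf, mem_lift_iff]

theorem mem_functorFamily_top [Finite G] {p : ℕ} [Fact p.Prime]
    (f : Subgroup G → Set (Subgroup G)) (X : Subgroup G) :
    X ∈ functorFamily p f ⊤ ↔
      ∃ P : Sylow p G, ∃ F ∈ f (P : Subgroup G), X = Subgroup.normalizer (F : Set G) := by
  unfold functorFamily
  constructor
  · rintro ⟨P, F, hF, rfl⟩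
    obtain ⟨S⟩ : Nonempty (Sylow p G) := inferInstance
    refine ⟨lift S le_top P, F, ?_, ?_⟩
    · rw [coe_lift]; exact hF
    · rw [top_inf_eq]
  · rintro ⟨P, F, hF, rfl⟩
    refine ⟨P.subtype le_top, F, ?_, ?_⟩
    · rw [Sylow.coe_subtype, Subgroup.subgroupOf_map_subtype, inf_top_eq]; exact hF
    · rw [top_inf_eq]

theorem le_of_sylow_inf [Finite G] {p : ℕ} [Fact p.Prime] (A P : Sylow p G) (X : Subgroup G)
    (hPX : (P : Subgroup G) ≤ X) (Q : Sylow p ↥X)
    (hQ : (Q : Subgroup ↥X).map X.subtype = (A : Subgroup G) ⊓ X) :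
    (A : Subgroup G) ≤ X := by
  have h1 : Nat.card (A : Subgroup G) ≤ Nat.card ((A : Subgroup G) ⊓ X : Subgroup G) := by
    rw [← hQ, Subgroup.card_map_of_injective X.subtype_injective, sylow_card_eq A P,
      sylow_card_eq Q (P.subtype hPX), card_subtype P hPX]
  have := Subgroup.eq_of_le_of_card_ge (inf_le_left : (A : Subgroup G) ⊓ X ≤ A) h1
  rw [← this]
  exact inf_le_right

theorem coe_smul_eq_map {p : ℕ} (g : G) (P : Sylow p G) :
    ((g • P : Sylow p G) : Subgroup G) = (P : Subgroup G).map (MulAut.conj g).toMonoidHom := by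
  ext y
  constructor
  · intro h
    rw [Sylow.coe_subgroup_smul, Subgroup.mem_pointwise_smul_iff_inv_smul_mem] at h
    simp only [MulAut.smul_def, MulAut.inv_apply, MulAut.conj_symm_apply] at h
    exact mem_map_conj.2 h
  · intro h
    rw [Sylow.coe_subgroup_smul, Subgroup.mem_pointwise_smul_iff_inv_smul_mem]
    simp only [MulAut.smul_def, MulAut.inv_apply, MulAut.conj_symm_apply]
    exact mem_map_conj.1 h

theorem mem_smul_iff {p : ℕ} (g y : G) (P : Sylow p G) :
    y ∈ ((g • P : Sylow p G) : Subgroup G) ↔ g⁻¹ * y * g ∈ (P : Subgroup G) := by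
  rw [coe_smul_eq_map, mem_map_conj]

theorem Step.mono {p : ℕ} {f : Subgroup G → Set (Subgroup G)} {D D' : Subgroup G}
    {A B : Sylow p G} (h : Step p f D A B) (hD : D' ≤ D) : Step p f D' A B := by
  obtain ⟨P, F, hF, x, hx, hA, hB, hAB, hDB⟩ := h
  exact ⟨P, F, hF, x, hx, hA, hB, hAB, hD.trans hDB⟩

theorem Step.conj {p : ℕ} {f : Subgroup G → Set (Subgroup G)}
    (hf : IsNormalizerFunctor p f) {D : Subgroup G} {A B : Sylow p G}
    (h : Step p f D A B) (g : G) :
    Step p f (D.map (MulAut.conj g).toMonoidHom) (g • A) (g • B) := by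
  obtain ⟨P, F, hF, x, hx, hA, hB, hAB, hD⟩ := h
  have hN : Subgroup.normalizer ((F.map (MulAut.conj g).toMonoidHom : Subgroup G) : Set G) =
      (Subgroup.normalizer (F : Set G)).map (MulAut.conj g).toMonoidHom :=
    (Subgroup.map_equiv_normalizer_eq F (MulAut.conj g)).symm
  refine ⟨g • P, F.map (MulAut.conj g).toMonoidHom, ?_, g * x * g⁻¹, ?_, ?_, ?_, ?_, ?_⟩
  · rw [coe_smul_eq_map, (hf P P.2).2 g]
    exact ⟨F, hF, rfl⟩
  · rw [hN]
    exact conj_mem_map_conj hx
  · rw [coe_smul_eq_map, hN]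
    exact Subgroup.map_mono hA
  · rw [coe_smul_eq_map, hN]
    exact Subgroup.map_mono hB
  · rw [coe_smul_eq_map, coe_smul_eq_map, ← hAB, Subgroup.map_map, Subgroup.map_map]
    congr 1
    ext y
    simp only [MonoidHom.comp_apply, MulEquiv.coe_toMonoidHom, MulAut.conj_apply]
    group
  · rw [coe_smul_eq_map]
    exact Subgroup.map_mono hD

theorem rtg_mono {p : ℕ} {f : Subgroup G → Set (Subgroup G)} {D D' : Subgroup G}
    (hD : D' ≤ D) {A B : Sylow p G} (h : Relation.ReflTransGen (Step p f D) A B) :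
    Relation.ReflTransGen (Step p f D') A B := by
  induction h with
  | refl => exact Relation.ReflTransGen.refl
  | tail _ hbc ih => exact ih.tail (Step.mono hbc hD)

theorem rtg_conj {p : ℕ} {f : Subgroup G → Set (Subgroup G)}
    (hf : IsNormalizerFunctor p f) {D : Subgroup G} {A B : Sylow p G}
    (h : Relation.ReflTransGen (Step p f D) A B) (g : G) :
    Relation.ReflTransGen (Step p f (D.map (MulAut.conj g).toMonoidHom)) (g • A) (g • B) := by
  induction h with
  | refl => exact Relation.ReflTransGen.refl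
  | tail _ hbc ih => exact ih.tail (Step.conj hf hbc g)

theorem chain_of_regular [Finite G] {p : ℕ} [Fact p.Prime] {f : Subgroup G → Set (Subgroup G)}
    (hf : IsNormalizerFunctor p f) {K : Subgroup G} (hr : IsFunctorRegular p f K)
    (S' T' : Sylow p G) (hS : (S' : Subgroup G) ≤ K) (hT : (T' : Subgroup G) ≤ K) (hne : S' ≠ T')
    (hnt : (S' : Subgroup G) ⊓ (T' : Subgroup G) ≠ ⊥) :
    Relation.ReflTransGen (Step p f ((S' : Subgroup G) ⊓ (T' : Subgroup G))) S' T' := by
  have hne' : S'.subtype hS ≠ T'.subtype hT := fun h => hne (Sylow.subtype_injective h)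
  have hmem : ∀ y : G, ∀ hy : y ∈ (S' : Subgroup G) ⊓ (T' : Subgroup G),
      (⟨y, hS hy.1⟩ : ↥K) ∈ ((S'.subtype hS : Sylow p ↥K) : Subgroup ↥K) ⊓
        ((T'.subtype hT : Sylow p ↥K) : Subgroup ↥K) := by
    intro y hy
    have hy' := Subgroup.mem_inf.1 hy
    refine Subgroup.mem_inf.2 ⟨?_, ?_⟩
    · rw [Sylow.coe_subtype]; exact Subgroup.mem_subgroupOf.2 hy'.1
    · rw [Sylow.coe_subtype]; exact Subgroup.mem_subgroupOf.2 hy'.2
  have hnt' : ((S'.subtype hS : Sylow p ↥K) : Subgroup ↥K) ⊓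
      ((T'.subtype hT : Sylow p ↥K) : Subgroup ↥K) ≠ ⊥ := by
    intro h
    apply hnt
    rw [eq_bot_iff]
    intro y hy
    have := hmem y hy
    rw [h, Subgroup.mem_bot] at this
    rw [Subgroup.mem_bot]
    exact congrArg Subtype.val this
  unfold IsFunctorRegular ControlsSylowIntersections at hr
  obtain ⟨n, c, X, x, h0, hl, hc⟩ := hr (S'.subtype hS) (T'.subtype hT) hne' hnt'
  have key : ∀ i : Fin n, Step p f ((S' : Subgroup G) ⊓ (T' : Subgroup G))
      (lift S' hS (c i.castSucc)) (lift S' hS (c i.succ)) := by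
    intro i
    obtain ⟨⟨hXmem, P₁, hP₁⟩, ⟨-, P₂, hP₂⟩, hx, hconj, hD⟩ := hc i
    obtain ⟨X₀, hX₀mem, hX₀⟩ := hXmem
    obtain ⟨P, F, hF, rfl⟩ := hX₀mem
    have hXi : X i = (K ⊓ Subgroup.normalizer (F : Set G)).subgroupOf K := hX₀.symm
    have hfP := hf ((P : Subgroup ↥K).map K.subtype) (P.2.map _)
    have hPN : (P : Subgroup ↥K).map K.subtype ≤ Subgroup.normalizer (F : Set G) :=
      Subgroup.le_normalizer.trans (hfP.1 F hF).2
    have hPXi : (P : Subgroup ↥K) ≤ X i := by
      intro y hy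
      rw [hXi, Subgroup.mem_subgroupOf]
      exact ⟨y.2, hPN (Subgroup.mem_map_of_mem _ hy)⟩
    have hA : (c i.castSucc : Subgroup ↥K) ≤ X i :=
      le_of_sylow_inf (c i.castSucc) P (X i) hPXi P₁ hP₁
    have hB : (c i.succ : Subgroup ↥K) ≤ X i :=
      le_of_sylow_inf (c i.succ) P (X i) hPXi P₂ hP₂
    have hXN : ∀ y : ↥K, y ∈ X i → (y : G) ∈ Subgroup.normalizer (F : Set G) := by
      intro y hy
      rw [hXi, Subgroup.mem_subgroupOf] at hy
      exact hy.2
    refine ⟨lift S' hS P, F, ?_, (x i : G), hXN _ hx, ?_, ?_, ?_, ?_⟩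
    · rw [coe_lift]; exact hF
    · rw [coe_lift]
      rintro _ ⟨y, hy, rfl⟩
      exact hXN y (hA hy)
    · rw [coe_lift]
      rintro _ ⟨y, hy, rfl⟩
      exact hXN y (hB hy)
    · rw [coe_lift, coe_lift, ← hconj]
      unfold subgroupConjRight
      rw [Subgroup.map_map, Subgroup.map_map]
      congr 1
    · intro y hy
      have h1 := hD (hmem y hy)
      rw [coe_lift]
      exact ⟨⟨y, hS hy.1⟩, h1.1, rfl⟩
  have hfin := reflTransGen_of_fin _ n (fun i => lift S' hS (c i)) key
  have e0 : lift S' hS (c 0) = S' := by rw [h0, lift_subtype]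
  have el : lift S' hS (c (Fin.last n)) = T' := by rw [hl, lift_subtype]
  simp only [e0, el] at hfin
  exact hfin

theorem main [Finite G] {p : ℕ} [Fact p.Prime] {f : Subgroup G → Set (Subgroup G)}
    (hf : IsNormalizerFunctor p f) (S : Sylow p G)
    (G₁ G₂ : Subgroup G) (h₁ : (S : Subgroup G) ≤ G₁) (h₂ : (S : Subgroup G) ≤ G₂)
    (hprod : ∀ g : G, ∃ g₁ ∈ G₁, ∃ g₂ ∈ G₂, g = g₁ * g₂)
    (hr₁ : IsFunctorRegular p f G₁) (hr₂ : IsFunctorRegular p f G₂)
    (S' T' : Sylow p G) (hne : S' ≠ T') (hnt : (S' : Subgroup G) ⊓ (T' : Subgroup G) ≠ ⊥) :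
    Relation.ReflTransGen (Step p f ((S' : Subgroup G) ⊓ (T' : Subgroup G))) S' T' := by
  obtain ⟨a, ha⟩ := MulAction.exists_smul_eq G S S'
  obtain ⟨b, hb⟩ := MulAction.exists_smul_eq G S T'
  have haT : a • ((b⁻¹ * a)⁻¹ • S) = T' := by
    rw [← mul_smul, ← hb]
    congr 1
    group
  generalize hg : b⁻¹ * a = g at haT
  generalize hT₀ : g⁻¹ • S = T₀ at haT
  have hT₀mem : ∀ y : G, y ∈ (T₀ : Subgroup G) ↔ g * y * g⁻¹ ∈ (S : Subgroup G) := by
    intro y
    rw [← hT₀, mem_smul_iff, inv_inv]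
  have hT₀coe : (T₀ : Subgroup G) = subgroupConjRight g (S : Subgroup G) := by
    rw [← hT₀, coe_smul_eq_map]
    rfl
  obtain ⟨U, hU1, hU2⟩ := Cfsg.Agent.S2940.result S G₁ G₂ h₁ h₂ hprod g
  rw [← hT₀coe] at hU1
  -- transport of the hypotheses to `S`, `T₀`
  have hconjmem : ∀ y : G, y ∈ (S' : Subgroup G) ⊓ (T' : Subgroup G) →
      a⁻¹ * y * a ∈ (S : Subgroup G) ⊓ (T₀ : Subgroup G) := by
    intro y hy
    rw [Subgroup.mem_inf] at hy ⊢
    refine ⟨?_, ?_⟩
    · have := hy.1
      rw [← ha, mem_smul_iff] at this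
      exact this
    · have := hy.2
      rw [← haT, mem_smul_iff] at this
      exact this
  have hne₀ : S ≠ T₀ := by
    intro h
    apply hne
    rw [← ha, ← haT, ← h]
  have hD₀ : (S : Subgroup G) ⊓ (T₀ : Subgroup G) ≠ ⊥ := by
    intro h
    apply hnt
    rw [eq_bot_iff]
    intro y hy
    have h1 := hconjmem y hy
    rw [h, Subgroup.mem_bot] at h1
    rw [Subgroup.mem_bot]
    have : y = a * (a⁻¹ * y * a) * a⁻¹ := by group
    rw [this, h1]
    group
  -- first chain, inside `G₁`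
  have chain1 : Relation.ReflTransGen (Step p f ((S : Subgroup G) ⊓ (T₀ : Subgroup G))) S U := by
    by_cases hSU : S = U
    · rw [← hSU]
    · have hle : (S : Subgroup G) ⊓ (T₀ : Subgroup G) ≤ (S : Subgroup G) ⊓ (U : Subgroup G) :=
        le_inf inf_le_left hU1
      have hnt1 : (S : Subgroup G) ⊓ (U : Subgroup G) ≠ ⊥ := by
        intro h
        apply hD₀
        rw [eq_bot_iff, ← h]
        exact hle
      have := chain_of_regular hf hr₁ S U h₁ (hU2.trans inf_le_left) hSU hnt1
      exact rtg_mono hle this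
  -- second chain, inside the conjugate of `G₂`
  have chain2 : Relation.ReflTransGen (Step p f ((S : Subgroup G) ⊓ (T₀ : Subgroup G))) U T₀ := by
    by_cases hUT : U = T₀
    · rw [← hUT]
    · have hgU : ((g • U : Sylow p G) : Subgroup G) ≤ G₂ := by
        intro y hy
        rw [mem_smul_iff] at hy
        have h2 := (Subgroup.mem_inf.1 (hU2 hy)).2
        unfold subgroupConjRight at h2
        rw [mem_map_conj] at h2
        have : y = g⁻¹⁻¹ * (g⁻¹ * y * g) * g⁻¹ := by group
        rw [this]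
        exact h2
      have hne2 : g • U ≠ S := by
        intro h
        apply hUT
        rw [← hT₀, ← h, inv_smul_smul]
      have hmem2 : ∀ y : G, y ∈ (S : Subgroup G) ⊓ (T₀ : Subgroup G) →
          g * y * g⁻¹ ∈ ((g • U : Sylow p G) : Subgroup G) ⊓ (S : Subgroup G) := by
        intro y hy
        have hy' := Subgroup.mem_inf.1 hy
        refine Subgroup.mem_inf.2 ⟨?_, (hT₀mem y).1 hy'.2⟩
        rw [mem_smul_iff]
        have : g⁻¹ * (g * y * g⁻¹) * g = y := by group
        rw [this]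
        exact hU1 hy
      have hnt2 : ((g • U : Sylow p G) : Subgroup G) ⊓ (S : Subgroup G) ≠ ⊥ := by
        intro h
        apply hD₀
        rw [eq_bot_iff]
        intro y hy
        have h1 := hmem2 y hy
        rw [h, Subgroup.mem_bot] at h1
        rw [Subgroup.mem_bot]
        exact conj_eq_one_iff.1 h1
      have h3 := chain_of_regular hf hr₂ (g • U) S hgU h₂ hne2 hnt2
      have h4 : Relation.ReflTransGen (Step p f ((((g • U : Sylow p G) : Subgroup G) ⊓
          (S : Subgroup G)).map (MulAut.conj g⁻¹).toMonoidHom)) (g⁻¹ • (g • U)) (g⁻¹ • S) :=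
        rtg_conj hf h3 g⁻¹
      rw [inv_smul_smul, hT₀] at h4
      refine rtg_mono ?_ h4
      intro y hy
      rw [mem_map_conj, inv_inv]
      exact hmem2 y hy
  have chain := chain1.trans chain2
  have h5 : Relation.ReflTransGen (Step p f (((S : Subgroup G) ⊓
      (T₀ : Subgroup G)).map (MulAut.conj a).toMonoidHom)) (a • S) (a • T₀) :=
    rtg_conj hf chain a
  rw [ha, haT] at h5
  refine rtg_mono ?_ h5
  intro y hy
  rw [mem_map_conj]
  exact hconjmem y hy

/-- Let p be a prime dividing the order of the finite group G, f an equivariant assignment of a set of subgroups f(P) of P to every p-subgroup P, each normalized by N_G(P), and S a Sylow p-subgroup. If G = G₁G₂ for subgroups G₁, G₂ both containing S and both regular for f (in each Gᵢ, the family of normalizers in Gᵢ of the members of f(P), P a Sylow p-subgroup of Gᵢ, controls Sylow p-intersections), then G itself is regular for f. -/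
theorem result {G : Type*} [Group G] [Finite G] (p : ℕ) [Fact p.Prime] (hdiv : p ∣ Nat.card G)
    (f : Subgroup G → Set (Subgroup G)) (hf : Cfsg.IsNormalizerFunctor p f) (S : Sylow p G)
    (G₁ G₂ : Subgroup G) (h₁ : (S : Subgroup G) ≤ G₁) (h₂ : (S : Subgroup G) ≤ G₂)
    (hprod : ∀ g : G, ∃ g₁ ∈ G₁, ∃ g₂ ∈ G₂, g = g₁ * g₂)
    (hr₁ : Cfsg.IsFunctorRegular p f G₁) (hr₂ : Cfsg.IsFunctorRegular p f G₂) :
    Cfsg.IsFunctorRegular p f ⊤ := by
  unfold IsFunctorRegular ControlsSylowIntersections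
  intro S'' T'' hne hnt
  have hmemS : ∀ y : ↥(⊤ : Subgroup G), (y : G) ∈ (lift S le_top S'' : Subgroup G) ↔
      y ∈ (S'' : Subgroup ↥(⊤ : Subgroup G)) := mem_lift_iff S le_top S''
  have hmemT : ∀ y : ↥(⊤ : Subgroup G), (y : G) ∈ (lift S le_top T'' : Subgroup G) ↔
      y ∈ (T'' : Subgroup ↥(⊤ : Subgroup G)) := mem_lift_iff S le_top T''
  have hne' : lift S le_top S'' ≠ lift S le_top T'' := by
    intro h
    apply hne
    rw [← subtype_lift S le_top S'', ← subtype_lift S le_top T'']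
    congr 1
  have hnt' : (lift S le_top S'' : Subgroup G) ⊓ (lift S le_top T'' : Subgroup G) ≠ ⊥ := by
    intro h
    apply hnt
    rw [eq_bot_iff]
    intro y hy
    have : (y : G) ∈ (lift S le_top S'' : Subgroup G) ⊓ (lift S le_top T'' : Subgroup G) :=
      ⟨(hmemS y).2 hy.1, (hmemT y).2 hy.2⟩
    rw [h, Subgroup.mem_bot] at this
    rw [Subgroup.mem_bot]
    exact Subtype.ext this
  obtain ⟨n, c, h0, hl, hc⟩ := fin_of_reflTransGen
    (main hf S G₁ G₂ h₁ h₂ hprod hr₁ hr₂ (lift S le_top S'') (lift S le_top T'') hne' hnt')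
  choose P F hF x hx hA hB hAB hD using hc
  refine ⟨n, fun i => (c i).subtype le_top,
    fun i => (Subgroup.normalizer (F i : Set G)).subgroupOf ⊤,
    fun i => ⟨x i, Subgroup.mem_top _⟩, ?_, ?_, ?_⟩
  · show (c 0).subtype le_top = S''
    rw [← subtype_lift S le_top S'']
    congr 1
  · show (c (Fin.last n)).subtype le_top = T''
    rw [← subtype_lift S le_top T'']
    congr 1
  · intro i
    have hfam : (Subgroup.normalizer (F i : Set G)).subgroupOf ⊤ ∈
        (fun X : Subgroup G => X.subgroupOf (⊤ : Subgroup G)) '' functorFamily p f ⊤ :=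
      ⟨Subgroup.normalizer (F i : Set G),
        (mem_functorFamily_top f _).2 ⟨P i, F i, hF i, rfl⟩, rfl⟩
    have hleA : (((c i.castSucc).subtype le_top : Sylow p ↥(⊤ : Subgroup G)) :
        Subgroup ↥(⊤ : Subgroup G)) ≤ (Subgroup.normalizer (F i : Set G)).subgroupOf ⊤ := by
      intro y hy
      rw [Sylow.coe_subtype, Subgroup.mem_subgroupOf] at hy
      exact Subgroup.mem_subgroupOf.2 (hA i hy)
    have hleB : (((c i.succ).subtype le_top : Sylow p ↥(⊤ : Subgroup G)) :
        Subgroup ↥(⊤ : Subgroup G)) ≤ (Subgroup.normalizer (F i : Set G)).subgroupOf ⊤ := by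
      intro y hy
      rw [Sylow.coe_subtype, Subgroup.mem_subgroupOf] at hy
      exact Subgroup.mem_subgroupOf.2 (hB i hy)
    refine ⟨⟨hfam, ((c i.castSucc).subtype le_top).subtype hleA, ?_⟩,
      ⟨hfam, ((c i.succ).subtype le_top).subtype hleB, ?_⟩, ?_, ?_, ?_⟩
    · exact Subgroup.subgroupOf_map_subtype _ _
    · exact Subgroup.subgroupOf_map_subtype _ _
    · exact Subgroup.mem_subgroupOf.2 (hx i)
    · unfold subgroupConjRight
      ext y
      rw [mem_map_conj, Sylow.coe_subtype, Sylow.coe_subtype, Subgroup.mem_subgroupOf,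
        Subgroup.mem_subgroupOf, ← hAB i, mem_map_conj]
      simp only [Subgroup.coe_mul, Subgroup.coe_inv, inv_inv]
    · intro y hy
      have hyD : (y : G) ∈ (lift S le_top S'' : Subgroup G) ⊓ (lift S le_top T'' : Subgroup G) :=
        ⟨(hmemS y).2 hy.1, (hmemT y).2 hy.2⟩
      have h1 := hD i hyD
      refine ⟨?_, ?_⟩
      · rw [Sylow.coe_subtype]; exact Subgroup.mem_subgroupOf.2 h1
      · exact Subgroup.mem_subgroupOf.2 (hB i h1)

end Cfsg.Agent.S2957
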