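import Cfsg.Statements.S2873
import Cfsg.Agent.S2957
import Cfsg.Agent.Lib.Helper17.Basic
import Cfsg.Agent.Lib.Helper17.Conj
import Mathlib.GroupTheory.SpecificGroups.Dihedral
import Mathlib.Data.ZMod.QuotientGroup
import Mathlib.Algebra.Field.ZMod
import Mathlib.Tactic

set_option autoImplicit false
open Cfsg

namespace Cfsg.Agent.S2873

open Cfsg.Agent.Lib.Helper17

theorem mem_cent_single {G : Type*} [Group G] {a z : G} :
    z ∈ Subgroup.centralizer ({a} : Set G) ↔ a * z = z * a := by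
  rw [Subgroup.mem_centralizer_iff]
  constructor
  · intro h
    exact h a rfl
  · intro h b hb
    rw [Set.mem_singleton_iff] at hb
    rw [hb]
    exact h

theorem card_cent_le {G : Type*} [Group G] [Finite G] (Q : Subgroup G) [hQ : Q.Normal] {a b g : G}
    (h : g * a * g⁻¹ = b) :
    Nat.card ↥(Q ⊓ Subgroup.centralizer ({a} : Set G)) ≤
      Nat.card ↥(Q ⊓ Subgroup.centralizer ({b} : Set G)) := by
  have hmem : ∀ z : ↥(Q ⊓ Subgroup.centralizer ({a} : Set G)),
      g * (z : G) * g⁻¹ ∈ Q ⊓ Subgroup.centralizer ({b} : Set G) := by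
    intro z
    obtain ⟨hz1, hz2⟩ := Subgroup.mem_inf.1 z.2
    refine Subgroup.mem_inf.2 ⟨hQ.conj_mem _ hz1 g, ?_⟩
    rw [mem_cent_single] at hz2 ⊢
    rw [← h]
    calc g * a * g⁻¹ * (g * ↑z * g⁻¹) = g * (a * ↑z) * g⁻¹ := by group
      _ = g * (↑z * a) * g⁻¹ := by rw [hz2]
      _ = g * ↑z * g⁻¹ * (g * a * g⁻¹) := by group
  refine Nat.card_le_card_of_injective
    (fun z => (⟨g * (z : G) * g⁻¹, hmem z⟩ : ↥(Q ⊓ Subgroup.centralizer ({b} : Set G)))) ?_
  intro z₁ z₂ h12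
  have h3 : g * (z₁ : G) * g⁻¹ = g * (z₂ : G) * g⁻¹ := congrArg Subtype.val h12
  exact Subtype.ext (mul_left_cancel (mul_right_cancel h3))

/-- Let G be a finite group and r an odd prime such that G ⧸ O₂(G) is dihedral of order 2r, and let R be a Sylow r-subgroup of G with C_{O₂(G)}(R) = 1. Then N_G(R) is dihedral of order 2r; for any involution a of N_G(R), every involution of G outside O₂(G) is conjugate to a; and |C_{O₂(G)}(a)|² = |O₂(G)|. -/
theorem result {G : Type*} [Group G] [Finite G] {r : ℕ} [Fact r.Prime] (hr : r ≠ 2) [hN : (Cfsg.pCore 2 G).Normal] (hquot : Nonempty (G ⧸ Cfsg.pCore 2 G ≃* DihedralGroup r)) (R : Sylow r G) (hC : Cfsg.pCore 2 G ⊓ Subgroup.centralizer ((R : Subgroup G) : Set G) = ⊥) : Nonempty (↥(Subgroup.normalizer ((R : Subgroup G) : Set G)) ≃* DihedralGroup r) ∧ ∀ a : G, a ∈ Subgroup.normalizer ((R : Subgroup G) : Set G) → orderOf a = 2 → (∀ b : G, orderOf b = 2 → b ∉ Cfsg.pCore 2 G → ∃ g : G, g * a * g⁻¹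 = b) ∧ Nat.card ↥(Cfsg.pCore 2 G ⊓ Subgroup.centralizer ({a} : Set G)) ^ 2 = Nat.card ↥(Cfsg.pCore 2 G) := by
  classical
  have hrp : r.Prime := Fact.out
  haveI : Fact (Nat.Prime 2) := ⟨Nat.prime_two⟩
  haveI : NeZero r := ⟨hrp.ne_zero⟩
  obtain ⟨e⟩ := hquot
  have hQ2 : IsPGroup 2 ↥(Cfsg.pCore 2 G) := pCore_isPGroup
  generalize hQdef : Cfsg.pCore 2 G = Q at *
  -- the homomorphism onto the dihedral group
  obtain ⟨φ, hφ⟩ : ∃ φ : G →* DihedralGroup r, ∀ g, φ g = e (QuotientGroup.mk' Q g) :=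
    ⟨e.toMonoidHom.comp (QuotientGroup.mk' Q), fun g => rfl⟩
  have hφsurj : Function.Surjective φ := by
    intro d
    obtain ⟨g, hg⟩ := QuotientGroup.mk'_surjective Q (e.symm d)
    exact ⟨g, by rw [hφ, hg, MulEquiv.apply_symm_apply]⟩
  have hφker : ∀ g : G, φ g = 1 ↔ g ∈ Q := by
    intro g
    rw [hφ, MulEquiv.map_eq_one_iff, QuotientGroup.mk'_apply, QuotientGroup.eq_one_iff]
  have h2ne : (2 : ZMod r) ≠ 0 := by
    intro h
    have h' : ((2 : ℕ) : ZMod r) = 0 := by exact_mod_cast h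
    rw [ZMod.natCast_eq_zero_iff] at h'
    exact hr ((Nat.prime_dvd_prime_iff_eq hrp Nat.prime_two).1 h')
  have hrot : ∀ g : G, g ^ r = 1 → ∃ j, φ g = DihedralGroup.r j := by
    intro g hg
    cases h : φ g with
    | r j => exact ⟨j, rfl⟩
    | sr j =>
      exfalso
      have h1 : (φ g) ^ r = 1 := by rw [← map_pow, hg, map_one]
      rw [h] at h1
      have h2 : orderOf (DihedralGroup.sr j) ∣ r := orderOf_dvd_of_pow_eq_one h1
      rw [DihedralGroup.orderOf_sr] at h2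
      exact hr ((Nat.prime_dvd_prime_iff_eq Nat.prime_two hrp).1 h2).symm
  have hrefl : ∀ g : G, g * g = 1 → g ∉ Q → ∃ i, φ g = DihedralGroup.sr i := by
    intro g hg hgQ
    cases h : φ g with
    | sr i => exact ⟨i, rfl⟩
    | r j =>
      exfalso
      apply hgQ
      rw [← hφker, h]
      have h1 : φ g * φ g = 1 := by rw [← map_mul, hg, map_one]
      rw [h, DihedralGroup.r_mul_r, DihedralGroup.one_def] at h1
      have h2 : j + j = 0 := by injection h1
      have h3 : (2 : ZMod r) * j = 0 := by rw [two_mul]; exact h2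
      have h4 : j = 0 := (mul_eq_zero.1 h3).resolve_left h2ne
      rw [h4, DihedralGroup.r_zero]
  -- cardinalities
  obtain ⟨k, hk⟩ := IsPGroup.iff_card.1 hQ2
  have hGcard : Nat.card G = r * 2 ^ (k + 1) := by
    rw [Subgroup.card_eq_card_quotient_mul_card_subgroup Q, hk, Nat.card_congr e.toEquiv,
      DihedralGroup.nat_card]
    ring
  have hRcard : Nat.card ↥(R : Subgroup G) = r := by
    obtain ⟨m, hm⟩ := IsPGroup.iff_card.1 R.2
    have hm' : Nat.card ↥(R : Subgroup G) = r ^ m := hm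
    have h1 : r ∣ Nat.card ↥(R : Subgroup G) :=
      R.dvd_card_of_dvd_card (by rw [hGcard]; exact dvd_mul_right _ _)
    have h2 : Nat.card ↥(R : Subgroup G) ∣ Nat.card G := Subgroup.card_subgroup_dvd_card _
    rw [hm'] at h1 h2 ⊢
    rw [hGcard] at h2
    have hcop : (r ^ m).Coprime (2 ^ (k + 1)) :=
      Nat.Coprime.pow _ _ ((Nat.coprime_primes hrp Nat.prime_two).2 hr)
    have h3 : r ^ m ∣ r := hcop.dvd_of_dvd_mul_right h2
    rcases m with _ | _ | m
    · rw [pow_zero] at h1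
      exact absurd (Nat.dvd_one.1 h1) hrp.one_lt.ne'
    · simp
    · exfalso
      have h4 : r * r ∣ r := dvd_trans ⟨r ^ m, by ring⟩ h3
      have h5 := Nat.le_of_dvd hrp.pos h4
      have := hrp.two_le
      nlinarith
  have hQR : ∀ x : G, x ∈ Q → x ∈ (R : Subgroup G) → x = 1 := by
    intro x hxQ hxR
    have hd : Disjoint Q (R : Subgroup G) :=
      IsPGroup.disjoint_of_ne 2 r (Ne.symm hr) Q (R : Subgroup G) hQ2 R.2
    exact Subgroup.disjoint_def.1 hd hxQ hxR
  generalize hNdef : Subgroup.normalizer ((R : Subgroup G) : Set G) = N at *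
  have hRN : (R : Subgroup G) ≤ N := by rw [← hNdef]; exact Subgroup.le_normalizer
  have hNnorm : ∀ n ∈ N, ∀ x ∈ (R : Subgroup G), n * x * n⁻¹ ∈ (R : Subgroup G) := by
    intro n hn x hx
    rw [← hNdef] at hn
    exact (Subgroup.mem_normalizer_iff.1 hn x).1 hx
  have hNQ : ∀ n : G, n ∈ N → n ∈ Q → n = 1 := by
    intro n hnN hnQ
    have hcent : n ∈ Subgroup.centralizer ((R : Subgroup G) : Set G) := by
      rw [Subgroup.mem_centralizer_iff]
      intro x hx
      have hxR : x ∈ (R : Subgroup G) := hx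
      have h1 : n * x * n⁻¹ * x⁻¹ ∈ Q := by
        have : n * x * n⁻¹ * x⁻¹ = n * (x * n⁻¹ * x⁻¹) := by group
        rw [this]
        exact Q.mul_mem hnQ (hN.conj_mem _ (Q.inv_mem hnQ) x)
      have h2 : n * x * n⁻¹ * x⁻¹ ∈ (R : Subgroup G) :=
        (R : Subgroup G).mul_mem (hNnorm n hnN x hxR) ((R : Subgroup G).inv_mem hxR)
      have h3 := hQR _ h1 h2
      have h4 : n * x = (n * x * n⁻¹ * x⁻¹) * (x * n) := by group
      rw [h3, one_mul] at h4
      exact h4.symm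
    have : n ∈ Q ⊓ Subgroup.centralizer ((R : Subgroup G) : Set G) := Subgroup.mem_inf.2 ⟨hnQ, hcent⟩
    rw [hC] at this
    exact Subgroup.mem_bot.1 this
  have hinj : ∀ n₁ n₂ : G, n₁ ∈ N → n₂ ∈ N → φ n₁ = φ n₂ → n₁ = n₂ := by
    intro n₁ n₂ h1 h2 h
    have h3 : n₁⁻¹ * n₂ ∈ Q := by
      rw [← hφker, map_mul, map_inv, h, inv_mul_cancel]
    have := hNQ _ (N.mul_mem (N.inv_mem h1) h2) h3
    exact inv_mul_eq_one.1 this
  -- a generator of R
  have hRne : ∃ x₀ ∈ (R : Subgroup G), x₀ ≠ 1 := by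
    by_contra hcon
    have hbot : (R : Subgroup G) = ⊥ := by
      rw [Subgroup.eq_bot_iff_forall]
      intro x hx
      by_contra hx1
      exact hcon ⟨x, hx, hx1⟩
    rw [hbot, Subgroup.card_bot] at hRcard
    exact hrp.one_lt.ne hRcard
  obtain ⟨x₀, hx₀R, hx₀1⟩ := hRne
  have hpowR : ∀ x ∈ (R : Subgroup G), x ^ r = 1 := by
    intro x hx
    have h1 := pow_card_eq_one' (G := ↥(R : Subgroup G)) (x := ⟨x, hx⟩)
    rw [hRcard] at h1
    have h2 := congrArg Subtype.val h1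
    simpa using h2
  obtain ⟨j₀, hj₀⟩ := hrot x₀ (hpowR x₀ hx₀R)
  have hj₀ne : j₀ ≠ 0 := by
    intro h
    rw [h, DihedralGroup.r_zero] at hj₀
    exact hx₀1 (hQR x₀ ((hφker x₀).1 hj₀) hx₀R)
  have hrotsurj : ∀ j : ZMod r, ∃ m : ℕ, φ (x₀ ^ m) = DihedralGroup.r j := by
    intro j
    refine ⟨(j * j₀⁻¹).val, ?_⟩
    rw [map_pow, hj₀, DihedralGroup.r_pow, ZMod.natCast_zmod_val]
    congr 1
    rw [mul_comm j, ← mul_assoc, mul_inv_cancel₀ hj₀ne, one_mul]
  have hRgen : ∀ x ∈ (R : Subgroup G), ∃ m : ℕ, x = x₀ ^ m := by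
    intro x hx
    obtain ⟨j, hj⟩ := hrot x (hpowR x hx)
    obtain ⟨m, hm⟩ := hrotsurj j
    exact ⟨m, hinj x (x₀ ^ m) (hRN hx) (hRN ((R : Subgroup G).pow_mem hx₀R m)) (by rw [hj, hm])⟩
  -- the rotation preimage and the Frattini argument
  obtain ⟨K, hK⟩ : ∃ K : Subgroup G, ∀ g, g ∈ K ↔ ∃ j, φ g = DihedralGroup.r j :=
    ⟨{ carrier := {g | ∃ j, φ g = DihedralGroup.r j}
       one_mem' := ⟨0, by rw [map_one, DihedralGroup.r_zero]⟩
       mul_mem' := by
        rintro a b ⟨i, hi⟩ ⟨j, hj⟩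
        exact ⟨i + j, by rw [map_mul, hi, hj, DihedralGroup.r_mul_r]⟩
       inv_mem' := by
        rintro a ⟨i, hi⟩
        exact ⟨-i, by rw [map_inv, hi, DihedralGroup.inv_r]⟩ }, fun g => Iff.rfl⟩
  have hKnormal : K.Normal := by
    constructor
    intro k hk g
    obtain ⟨j, hj⟩ := (hK k).1 hk
    rw [hK, map_mul, map_mul, map_inv, hj]
    cases φ g with
    | r i =>
      exact ⟨j, by
        rw [DihedralGroup.inv_r, DihedralGroup.r_mul_r, DihedralGroup.r_mul_r]
        congr 1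
        ring⟩
    | sr i =>
      exact ⟨-j, by
        rw [DihedralGroup.inv_sr, DihedralGroup.sr_mul_r, DihedralGroup.sr_mul_sr]
        congr 1
        ring⟩
  have hRK : (R : Subgroup G) ≤ K := fun x hx => (hK x).2 (hrot x (hpowR x hx))
  have hfr : N ⊔ K = ⊤ := by
    rw [← hNdef]
    exact Sylow.normalizer_sup_eq_top' R hRK
  have hNsurj : ∀ d : DihedralGroup r, ∃ n ∈ N, φ n = d := by
    intro d
    obtain ⟨g, rfl⟩ := hφsurj d
    have hg : g ∈ ((N ⊔ K : Subgroup G) : Set G) := by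
      rw [hfr]
      exact Set.mem_univ g
    rw [Subgroup.mul_normal] at hg
    obtain ⟨n, hn, k, hk, rfl⟩ := Set.mem_mul.1 hg
    obtain ⟨j, hj⟩ := (hK k).1 hk
    obtain ⟨m, hm⟩ := hrotsurj j
    refine ⟨n * x₀ ^ m, N.mul_mem hn (hRN ((R : Subgroup G).pow_mem hx₀R m)), ?_⟩
    rw [map_mul, map_mul, hm, hj]
  have part1 : Nonempty (↥N ≃* DihedralGroup r) := by
    refine ⟨MulEquiv.ofBijective (φ.comp N.subtype) ⟨?_, ?_⟩⟩
    · intro n₁ n₂ h
      exact Subtype.ext (hinj n₁ n₂ n₁.2 n₂.2 h)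
    · intro d
      obtain ⟨n, hn, hd⟩ := hNsurj d
      exact ⟨⟨n, hn⟩, hd⟩
  have hfact : ∀ g : G, ∃ q ∈ Q, ∃ n ∈ N, g = q * n := by
    intro g
    obtain ⟨n, hn, hd⟩ := hNsurj (φ g)
    refine ⟨g * n⁻¹, ?_, n, hn, by group⟩
    rw [← hφker, map_mul, map_inv, hd, mul_inv_cancel]
  refine ⟨part1, ?_⟩
  intro a haN ha2
  have haa : a * a = 1 := by rw [← pow_two, ← ha2, pow_orderOf_eq_one]
  have ha1 : a ≠ 1 := by
    intro h
    rw [h, orderOf_one] at ha2
    norm_num at ha2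
  have haQ : a ∉ Q := fun h => ha1 (hNQ a haN h)
  obtain ⟨i, hi⟩ := hrefl a haa haQ
  have hainv : a⁻¹ = a := inv_eq_of_mul_eq_one_right haa
  have hinvert : ∀ x ∈ (R : Subgroup G), a * x * a⁻¹ = x⁻¹ := by
    intro x hx
    obtain ⟨j, hj⟩ := hrot x (hpowR x hx)
    apply hinj _ _ (hRN (hNnorm a haN x hx)) (hRN ((R : Subgroup G).inv_mem hx))
    rw [map_mul, map_mul, map_inv, map_inv, hi, hj, DihedralGroup.inv_sr, DihedralGroup.inv_r,
      DihedralGroup.sr_mul_r, DihedralGroup.sr_mul_sr]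
    congr 1
    ring
  obtain ⟨a', ha'def⟩ : ∃ a' : G, a' = a * x₀ := ⟨_, rfl⟩
  have ha'N : a' ∈ N := by rw [ha'def]; exact N.mul_mem haN (hRN hx₀R)
  have ha'a' : a' * a' = 1 := by
    have h1 := hinvert x₀ hx₀R
    rw [hainv] at h1
    calc a' * a' = (a * x₀ * a) * x₀ := by rw [ha'def]; group
      _ = 1 := by rw [h1, inv_mul_cancel]
  have hφa' : φ a' = DihedralGroup.sr (i + j₀) := by
    rw [ha'def, map_mul, hi, hj₀, DihedralGroup.sr_mul_r]
  have ha'Q : a' ∉ Q := by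
    intro h
    rw [← hφker, hφa', DihedralGroup.one_def] at h
    cases h
  have hx₀a : x₀ = a * a' := by rw [ha'def, ← mul_assoc, haa, one_mul]
  -- the key lemma
  have key : ∀ t : G, t * t = 1 → φ t = φ a →
      ∃ u ∈ Q, t = u * a * u⁻¹ ∧ u * a' = a' * u := by
    intro t htt hφt
    have htinv : t⁻¹ = t := inv_eq_of_mul_eq_one_right htt
    have ha'inv : a'⁻¹ = a' := inv_eq_of_mul_eq_one_right ha'a'
    obtain ⟨y, hydef⟩ : ∃ y : G, y = t * a' := ⟨_, rfl⟩
    have hφy : φ y = DihedralGroup.r j₀ := by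
      rw [hydef, map_mul, hφt, hi, hφa', DihedralGroup.sr_mul_sr]
      congr 1
      ring
    have hyinv : y⁻¹ = a' * t := by rw [hydef, mul_inv_rev, ha'inv, htinv]
    have hty : t * y * t⁻¹ = y⁻¹ := by
      rw [hyinv, htinv, hydef]
      calc t * (t * a') * t = (t * t) * a' * t := by group
        _ = a' * t := by rw [htt, one_mul]
    have ha'y : a' * y * a'⁻¹ = y⁻¹ := by
      rw [hyinv, ha'inv, hydef]
      calc a' * (t * a') * a' = a' * t * (a' * a') := by group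
        _ = a' * t := by rw [ha'a', mul_one]
    obtain ⟨w, hwdef⟩ : ∃ w : G, w = y ^ Nat.card ↥Q := ⟨_, rfl⟩
    have hyrQ : y ^ r ∈ Q := by
      rw [← hφker, map_pow, hφy, DihedralGroup.r_pow, ZMod.natCast_self, mul_zero,
        DihedralGroup.r_zero]
    have hwr : w ^ r = 1 := by
      rw [hwdef, ← pow_mul, mul_comm, pow_mul]
      have h1 := pow_card_eq_one' (G := ↥Q) (x := ⟨y ^ r, hyrQ⟩)
      have h2 : (((⟨y ^ r, hyrQ⟩ : ↥Q) ^ Nat.card ↥Q : ↥Q) : G) = ((1 : ↥Q) : G) :=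
        congrArg Subtype.val h1
      rw [Subgroup.coe_pow, Subgroup.coe_one] at h2
      exact h2
    have hw1 : w ≠ 1 := by
      intro h
      have h1 : φ w = 1 := by rw [h, map_one]
      rw [hwdef, map_pow, hφy, DihedralGroup.r_pow, DihedralGroup.one_def] at h1
      have h2 : j₀ * (Nat.card ↥Q : ZMod r) = 0 := by injection h1
      rcases mul_eq_zero.1 h2 with h3 | h3
      · exact hj₀ne h3
      · rw [hk, ZMod.natCast_eq_zero_iff] at h3
        have h4 := hrp.dvd_of_dvd_pow h3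
        exact hr ((Nat.prime_dvd_prime_iff_eq hrp Nat.prime_two).1 h4)
    have hword : orderOf w = r := orderOf_eq_prime hwr hw1
    have hcardW : Nat.card ↥(Subgroup.zpowers w) = r ^ (Nat.card G).factorization r := by
      have h1 : Nat.card ↥(R : Subgroup G) = r ^ (Nat.card G).factorization r :=
        R.card_eq_multiplicity
      rw [Nat.card_zpowers, hword, ← h1, hRcard]
    obtain ⟨g, hg⟩ := MulAction.exists_smul_eq G R (Sylow.ofCard (Subgroup.zpowers w) hcardW)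
    obtain ⟨u, huQ, n, hnN, rfl⟩ := hfact g
    have hWeq : Subgroup.zpowers w = (R : Subgroup G).map (MulAut.conj u).toMonoidHom := by
      have h1 : ((((u * n) • R : Sylow r G)) : Subgroup G) = Subgroup.zpowers w := by
        rw [hg]
        rfl
      rw [← h1, Cfsg.Agent.S2957.coe_smul_eq_map]
      ext z
      rw [mem_map_conj, mem_map_conj]
      have h2 : (u * n)⁻¹ * z * (u * n) = n⁻¹ * (u⁻¹ * z * u) * n := by group
      rw [h2]
      constructor
      · intro h3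
        have h4 := hNnorm n hnN _ h3
        have h5 : n * (n⁻¹ * (u⁻¹ * z * u) * n) * n⁻¹ = u⁻¹ * z * u := by group
        rw [h5] at h4
        exact h4
      · intro h3
        have h4 := hNnorm n⁻¹ (N.inv_mem hnN) _ h3
        rw [inv_inv] at h4
        exact h4
    have hnormW : ∀ s : G, s * y * s⁻¹ = y⁻¹ → u⁻¹ * s * u ∈ N := by
      intro s hs
      have hsw : s * w * s⁻¹ = w⁻¹ := by
        rw [hwdef, ← inv_pow, ← hs]
        exact conj_pow.symm
      have hsn : s ∈ Subgroup.normalizer ((Subgroup.zpowers w : Subgroup G) : Set G) := by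
        apply mem_normalizer_of_map_conj_le
        rintro _ ⟨z, hz, rfl⟩
        obtain ⟨m, rfl⟩ := Subgroup.mem_zpowers_iff.1 hz
        simp only [MulEquiv.coe_toMonoidHom, MulAut.conj_apply]
        rw [← conj_zpow, hsw]
        exact Subgroup.zpow_mem _ (Subgroup.inv_mem _ (Subgroup.mem_zpowers w)) m
      rw [hWeq, ← Subgroup.map_equiv_normalizer_eq, mem_map_conj, hNdef] at hsn
      exact hsn
    have h1 := hnormW t hty
    have h2 := hnormW a' ha'y
    have hφu : φ u = 1 := (hφker u).2 huQ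
    have e1 : u⁻¹ * t * u = a :=
      hinj _ _ h1 haN (by rw [map_mul, map_mul, map_inv, hφu, hφt]; simp)
    have e2 : u⁻¹ * a' * u = a' :=
      hinj _ _ h2 ha'N (by rw [map_mul, map_mul, map_inv, hφu]; simp)
    refine ⟨u, huQ, ?_, ?_⟩
    · rw [← e1]
      group
    · calc u * a' = u * (u⁻¹ * a' * u) := by rw [e2]
        _ = a' * u := by group
  have conj_claim : ∀ b : G, b * b = 1 → b ∉ Q → ∃ g : G, g * a * g⁻¹ = b := by
    intro b hbb hbQ
    obtain ⟨j, hj⟩ := hrefl b hbb hbQ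
    obtain ⟨g₀, hg₀⟩ := hφsurj (DihedralGroup.r ((i - j) * 2⁻¹))
    have hφt : φ (g₀⁻¹ * b * g₀) = φ a := by
      rw [map_mul, map_mul, map_inv, hg₀, hj, hi, DihedralGroup.inv_r, DihedralGroup.r_mul_sr,
        DihedralGroup.sr_mul_r]
      congr 1
      have h2 : (i - j) * 2⁻¹ + (i - j) * 2⁻¹ = i - j := by
        rw [← mul_add, ← two_mul, mul_inv_cancel₀ h2ne, mul_one]
      linear_combination h2
    have htt : (g₀⁻¹ * b * g₀) * (g₀⁻¹ * b * g₀) = 1 := by
      calc (g₀⁻¹ * b * g₀) * (g₀⁻¹ * b * g₀) = g₀⁻¹ * (b * b) * g₀ := by group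
        _ = 1 := by rw [hbb]; group
    obtain ⟨u, _, hu, _⟩ := key _ htt hφt
    refine ⟨g₀ * u, ?_⟩
    calc g₀ * u * a * (g₀ * u)⁻¹ = g₀ * (u * a * u⁻¹) * g₀⁻¹ := by group
      _ = g₀ * (g₀⁻¹ * b * g₀) * g₀⁻¹ := by rw [← hu]
      _ = b := by group
  constructor
  · intro b hb2 hbQ
    have hbb : b * b = 1 := by rw [← pow_two, ← hb2, pow_orderOf_eq_one]
    exact conj_claim b hbb hbQ
  · -- the cardinality statement
    have hprod : ∀ q ∈ Q, ∃ u ∈ Q ⊓ Subgroup.centralizer ({a'} : Set G),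
        ∃ c ∈ Q ⊓ Subgroup.centralizer ({a} : Set G), q = u * c := by
      intro q hq
      have htt : (q * a * q⁻¹) * (q * a * q⁻¹) = 1 := by
        calc (q * a * q⁻¹) * (q * a * q⁻¹) = q * (a * a) * q⁻¹ := by group
          _ = 1 := by rw [haa]; group
      have hφt : φ (q * a * q⁻¹) = φ a := by
        rw [map_mul, map_mul, map_inv, (hφker q).2 hq]
        simp
      obtain ⟨u, huQ, hu, hua'⟩ := key _ htt hφt
      refine ⟨u, Subgroup.mem_inf.2 ⟨huQ, mem_cent_single.2 hua'.symm⟩, u⁻¹ * q,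
        Subgroup.mem_inf.2 ⟨Q.mul_mem (Q.inv_mem huQ) hq, mem_cent_single.2 ?_⟩, by group⟩
      calc a * (u⁻¹ * q) = u⁻¹ * (u * a * u⁻¹) * q := by group
        _ = u⁻¹ * (q * a * q⁻¹) * q := by rw [← hu]
        _ = u⁻¹ * q * a := by group
    have hinter : ∀ z : G, z ∈ Q ⊓ Subgroup.centralizer ({a} : Set G) →
        z ∈ Q ⊓ Subgroup.centralizer ({a'} : Set G) → z = 1 := by
      intro z hz hz'
      obtain ⟨hzQ, hza⟩ := Subgroup.mem_inf.1 hz
      obtain ⟨_, hza'⟩ := Subgroup.mem_inf.1 hz'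
      rw [mem_cent_single] at hza hza'
      have hcomm : Commute x₀ z := by
        show x₀ * z = z * x₀
        rw [hx₀a]
        calc a * a' * z = a * (a' * z) := by group
          _ = a * (z * a') := by rw [hza']
          _ = (a * z) * a' := by group
          _ = (z * a) * a' := by rw [hza]
          _ = z * (a * a') := by group
      have hcent : z ∈ Subgroup.centralizer ((R : Subgroup G) : Set G) := by
        rw [Subgroup.mem_centralizer_iff]
        intro x hx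
        obtain ⟨m, rfl⟩ := hRgen x hx
        exact (hcomm.pow_left m).eq
      have : z ∈ Q ⊓ Subgroup.centralizer ((R : Subgroup G) : Set G) :=
        Subgroup.mem_inf.2 ⟨hzQ, hcent⟩
      rw [hC] at this
      exact Subgroup.mem_bot.1 this
    obtain ⟨g, hg⟩ := conj_claim a' ha'a' ha'Q
    have hg' : g⁻¹ * a' * g⁻¹⁻¹ = a := by rw [← hg]; group
    have hcardeq : Nat.card ↥(Q ⊓ Subgroup.centralizer ({a'} : Set G)) =
        Nat.card ↥(Q ⊓ Subgroup.centralizer ({a} : Set G)) :=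
      le_antisymm (card_cent_le Q hg') (card_cent_le Q hg)
    have hbij : Function.Bijective
        (fun p : ↥(Q ⊓ Subgroup.centralizer ({a'} : Set G)) ×
            ↥(Q ⊓ Subgroup.centralizer ({a} : Set G)) =>
          (⟨(p.1 : G) * (p.2 : G),
            Q.mul_mem (Subgroup.mem_inf.1 p.1.2).1 (Subgroup.mem_inf.1 p.2.2).1⟩ : ↥Q)) := by
      constructor
      · rintro ⟨u₁, c₁⟩ ⟨u₂, c₂⟩ h
        have h' : (u₁ : G) * c₁ = u₂ * c₂ := congrArg Subtype.val h
        have hz : (u₂ : G)⁻¹ * u₁ = c₂ * (c₁ : G)⁻¹ := by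
          calc (u₂ : G)⁻¹ * u₁ = (u₂ : G)⁻¹ * (u₁ * c₁) * (c₁ : G)⁻¹ := by group
            _ = (u₂ : G)⁻¹ * (u₂ * c₂) * (c₁ : G)⁻¹ := by rw [h']
            _ = c₂ * (c₁ : G)⁻¹ := by group
        have hzC' : (u₂ : G)⁻¹ * u₁ ∈ Q ⊓ Subgroup.centralizer ({a'} : Set G) :=
          Subgroup.mul_mem _ (Subgroup.inv_mem _ u₂.2) u₁.2
        have hzC : (u₂ : G)⁻¹ * u₁ ∈ Q ⊓ Subgroup.centralizer ({a} : Set G) := by
          rw [hz]
          exact Subgroup.mul_mem _ c₂.2 (Subgroup.inv_mem _ c₁.2)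
        have h1 := hinter _ hzC hzC'
        have hu : (u₁ : G) = u₂ := (inv_mul_eq_one.1 h1).symm
        have hc : (c₁ : G) = c₂ := by
          rw [hu] at h'
          exact mul_left_cancel h'
        exact Prod.ext (Subtype.ext hu) (Subtype.ext hc)
      · rintro ⟨q, hq⟩
        obtain ⟨u, hu, c, hc, rfl⟩ := hprod q hq
        exact ⟨(⟨u, hu⟩, ⟨c, hc⟩), rfl⟩
    have hcardQ : Nat.card ↥Q = Nat.card ↥(Q ⊓ Subgroup.centralizer ({a'} : Set G)) *
        Nat.card ↥(Q ⊓ Subgroup.centralizer ({a} : Set G)) := by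
      rw [← Nat.card_prod]
      exact (Nat.card_congr (Equiv.ofBijective _ hbij)).symm
    rw [hcardQ, hcardeq, pow_two]

end Cfsg.Agent.S2873
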