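import Mathlib
import Cfsg.Statements.S2874

set_option autoImplicit false

open Cfsg

namespace Cfsg.Agent.S2874

open Matrix

theorem two_pow_self_eq_zero (k : ℕ) : (2 : ZMod (2 ^ k)) ^ k = 0 := by
  have h : ((2 ^ k : ℕ) : ZMod (2 ^ k)) = 0 := ZMod.natCast_self _
  push_cast at h
  exact h

theorem isUnit_three (k : ℕ) : IsUnit (3 : ZMod (2 ^ k)) := by
  have hcop : Nat.Coprime 3 (2 ^ k) := Nat.Coprime.pow_right k (by norm_num)
  have h := (ZMod.isUnit_iff_coprime 3 (2 ^ k)).mpr hcop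
  simpa using h

theorem three_cancel {k : ℕ} (m : ZMod (2 ^ k)) (h : 3 * m = 0) : m = 0 :=
  (isUnit_three k).mul_right_eq_zero.mp h

theorem exists_three_mul {k : ℕ} (c : ZMod (2 ^ k)) : ∃ d : ZMod (2 ^ k), 3 * d = c := by
  obtain ⟨u, hu⟩ := isUnit_three k
  exact ⟨↑u⁻¹ * c, by rw [← mul_assoc, ← hu, Units.mul_inv, one_mul]⟩

theorem two_torsion {k : ℕ} (hk : 1 ≤ k) (u : ZMod (2 ^ k)) (h : 2 * u = 0) :
    u = 0 ∨ u = 2 ^ (k - 1) := by
  obtain ⟨j, rfl⟩ : ∃ j, k = j + 1 := ⟨k - 1, by omega⟩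
  haveI : NeZero (2 ^ (j + 1)) := ⟨by positivity⟩
  have hv : ((2 * u.val : ℕ) : ZMod (2 ^ (j + 1))) = 0 := by
    push_cast
    rw [ZMod.natCast_zmod_val]
    exact h
  rw [ZMod.natCast_eq_zero_iff] at hv
  have hlt : u.val < 2 ^ (j + 1) := ZMod.val_lt u
  have hdvd : 2 ^ j ∣ u.val := by
    have h' : 2 * 2 ^ j ∣ 2 * u.val := by rw [← pow_succ']; exact hv
    exact (Nat.mul_dvd_mul_iff_left (by norm_num)).mp h'
  obtain ⟨c, hc⟩ := hdvd
  have hc2 : c < 2 := by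
    by_contra hcon
    push Not at hcon
    have h1 : 2 ^ j * 2 ≤ 2 ^ j * c := Nat.mul_le_mul_left _ hcon
    have hlt' : u.val < 2 ^ j * 2 := by rw [← pow_succ]; exact hlt
    omega
  have hu : u = ((u.val : ℕ) : ZMod (2 ^ (j + 1))) := (ZMod.natCast_zmod_val u).symm
  rw [Nat.add_sub_cancel]
  interval_cases c
  · left; rw [hu, hc]; simp
  · right; rw [hu, hc]; push_cast; ring

theorem even_of_map_zero {k : ℕ} (φ : ZMod (2 ^ k) →+* ZMod 2) (x : ZMod (2 ^ k))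
    (h : φ x = 0) : ∃ y : ZMod (2 ^ k), x = 2 * y := by
  have : NeZero (2 ^ k) := ⟨by positivity⟩
  have hu : x = ((x.val : ℕ) : ZMod (2 ^ k)) := (ZMod.natCast_zmod_val x).symm
  rw [hu, map_natCast, ZMod.natCast_eq_zero_iff] at h
  obtain ⟨m, hm⟩ := h
  refine ⟨(m : ZMod (2 ^ k)), ?_⟩
  rw [hu, hm]
  push_cast
  ring

theorem isUnit_of_map_one {k : ℕ} (φ : ZMod (2 ^ k) →+* ZMod 2) (x : ZMod (2 ^ k))
    (h : φ x = 1) : IsUnit x := by
  have h0 : φ (x - 1) = 0 := by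
    rw [map_sub, h, map_one, sub_self]
  obtain ⟨y, hy⟩ := even_of_map_zero φ (x - 1) h0
  have hx : x = 1 + 2 * y := by linear_combination hy
  rw [hx]
  apply IsNilpotent.isUnit_one_add
  refine ⟨k, ?_⟩
  rw [mul_pow, two_pow_self_eq_zero, zero_mul]

/-! ### matrices -/

variable {k : ℕ}

/-- the companion matrix of `X² + X + 1` -/
def W (k : ℕ) : Matrix (Fin 2) (Fin 2) (ZMod (2 ^ k)) := !![0, -1; 1, -1]

/-- its inverse (= its square) -/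
def W' (k : ℕ) : Matrix (Fin 2) (Fin 2) (ZMod (2 ^ k)) := !![-1, 1; -1, 0]

theorem W_mul_W' : W k * W' k = 1 := by
  simp [W, W', Matrix.mul_fin_two, Matrix.one_fin_two]

theorem W'_mul_W : W' k * W k = 1 := by
  simp [W, W', Matrix.mul_fin_two, Matrix.one_fin_two]

theorem W_mul_W : W k * W k = W' k := by
  simp [W, W', Matrix.mul_fin_two]

/-- the candidate involutions -/
def MM (γ δ : ZMod (2 ^ k)) : Matrix (Fin 2) (Fin 2) (ZMod (2 ^ k)) :=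
  !![1 - δ, γ; γ - δ, 1 + δ]

theorem MM_zero : MM (0 : ZMod (2 ^ k)) 0 = 1 := by
  simp [MM, Matrix.one_fin_two]

theorem W_MM_W' (γ δ : ZMod (2 ^ k)) : W k * MM γ δ * W' k = MM (δ - γ) (-γ) := by
  simp only [W, W', MM, Matrix.mul_fin_two]
  congr 1
  ext i j
  fin_cases i <;> fin_cases j <;> simp <;> ring

theorem entries_eq {R : Type*} {a b c d a' b' c' d' : R}
    (h : (!![a, b; c, d] : Matrix (Fin 2) (Fin 2) R) = !![a', b'; c', d']) :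
    a = a' ∧ b = b' ∧ c = c' ∧ d = d' := by
  refine ⟨?_, ?_, ?_, ?_⟩
  · simpa using congrFun (congrFun h 0) 0
  · simpa using congrFun (congrFun h 0) 1
  · simpa using congrFun (congrFun h 1) 0
  · simpa using congrFun (congrFun h 1) 1

/-- key computation in the coordinates adapted to `ℤ[ω] ⊕ ℤ[ω]τ` -/
theorem key_coords (α β γ δ : ZMod (2 ^ k))
    (h1 : (!![α - δ, γ - β; β + γ - δ, α - β + δ] : Matrix (Fin 2) (Fin 2) (ZMod (2 ^ k))) *
      !![α - δ, γ - β; β + γ - δ, α - β + δ] = 1)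
    (h2 : (!![α - δ, γ - β; β + γ - δ, α - β + δ] : Matrix (Fin 2) (Fin 2) (ZMod (2 ^ k))) *
      (W k * !![α - δ, γ - β; β + γ - δ, α - β + δ] * W' k) =
      W' k * !![α - δ, γ - β; β + γ - δ, α - β + δ] * W k) :
    α = 1 ∧ β = 0 ∧ 2 * γ = 0 ∧ 2 * δ = 0 := by
  simp only [W, W', Matrix.mul_fin_two, Matrix.one_fin_two] at h1 h2
  obtain ⟨E11, E12, E21, E22⟩ := entries_eq h1
  obtain ⟨F11, F12, F21, F22⟩ := entries_eq h2
  set n := γ ^ 2 - γ * δ + δ ^ 2 with hn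
  have ha : α = 1 - n := by
    have : 3 * (1 - α - n) = 0 := by
      rw [hn]
      linear_combination (F11 + F21 - F12 + 2 * F22) - (E11 + E21 - E12 + 2 * E22)
    have := three_cancel _ this
    linear_combination (-1 : ZMod (2 ^ k)) * this
  have hb : β = n := by
    have : 3 * (n - β) = 0 := by
      rw [hn]
      linear_combination (2 * F21 - 2 * F12 + F22 - F11) - (2 * E21 - 2 * E12 + E22 - E11)
    have := three_cancel _ this
    linear_combination (-1 : ZMod (2 ^ k)) * this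
  have hn0 : n = 0 := by
    have h3 : 3 * (α ^ 2 - β ^ 2 + n - 1) = 0 := by
      rw [hn]
      linear_combination (E11 + E21 - E12 + 2 * E22)
    rw [ha, hb] at h3
    apply three_cancel
    linear_combination (-1 : ZMod (2 ^ k)) * h3
  have ha1 : α = 1 := by rw [ha, hn0, sub_zero]
  have hb0 : β = 0 := by rw [hb, hn0]
  have hc : 3 * ((2 * α - β) * γ) = 0 := by
    linear_combination (E12 + 2 * E21 + E22 - E11)
  have hd : 3 * ((2 * α - β) * δ) = 0 := by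
    linear_combination (E21 - E12 + 2 * E22 - 2 * E11)
  refine ⟨ha1, hb0, ?_, ?_⟩
  · have := three_cancel _ hc
    rw [ha1, hb0] at this
    linear_combination this
  · have := three_cancel _ hd
    rw [ha1, hb0] at this
    linear_combination this


theorem W'_MM_W (γ δ : ZMod (2 ^ k)) : W' k * MM γ δ * W k = MM (-δ) (γ - δ) := by
  simp only [W, W', MM, Matrix.mul_fin_two]
  congr 1
  ext i j
  fin_cases i <;> fin_cases j <;> simp <;> ring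

theorem exists_coords (A : Matrix (Fin 2) (Fin 2) (ZMod (2 ^ k))) :
    ∃ α β γ δ : ZMod (2 ^ k), A = !![α - δ, γ - β; β + γ - δ, α - β + δ] := by
  obtain ⟨δ, hδ⟩ := exists_three_mul (A 1 0 - 2 * A 0 0 - A 0 1 + 2 * A 1 1)
  refine ⟨A 0 0 + δ, A 0 0 - A 1 1 + 2 * δ, A 0 0 + A 0 1 - A 1 1 + 2 * δ, δ, ?_⟩
  ext i j
  fin_cases i <;> fin_cases j
  · simp
  · simp
  · simp
    linear_combination (-1 : ZMod (2 ^ k)) * hδ
  · simp
    ring

theorem key (A : Matrix (Fin 2) (Fin 2) (ZMod (2 ^ k))) (h1 : A * A = 1)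
    (h2 : A * (W k * A * W' k) = W' k * A * W k) :
    ∃ γ δ : ZMod (2 ^ k), 2 * γ = 0 ∧ 2 * δ = 0 ∧ A = MM γ δ := by
  obtain ⟨α, β, γ, δ, rfl⟩ := exists_coords A
  obtain ⟨ha, hb, hc, hd⟩ := key_coords α β γ δ h1 h2
  refine ⟨γ, δ, hc, hd, ?_⟩
  rw [ha, hb, MM]
  simp

theorem zmod2_cube (N : Matrix (Fin 2) (Fin 2) (ZMod 2)) (h : N ^ 3 = 1) :
    N = 1 ∨ ((N - 1).det = 1 ∧ N 1 0 = 1) := by
  revert N
  decide

open Equiv in
theorem alt4_struct : ∃ r x : alternatingGroup (Fin 4), r ^ 3 = 1 ∧ r ≠ 1 ∧ x * x = 1 ∧ x ≠ 1 ∧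
    x * (r * x * r⁻¹) = r⁻¹ * x * r ∧
    ∀ h : alternatingGroup (Fin 4), ∃ i : Fin 3, h = r ^ (i : ℕ) ∨ h = x * r ^ (i : ℕ) ∨
      h = (r * x * r⁻¹) * r ^ (i : ℕ) ∨ h = (r⁻¹ * x * r) * r ^ (i : ℕ) := by
  refine ⟨⟨swap 0 1 * swap 1 2, by rw [Equiv.Perm.mem_alternatingGroup]; decide⟩,
    ⟨swap 0 1 * swap 2 3, by rw [Equiv.Perm.mem_alternatingGroup]; decide⟩, ?_⟩
  decide


/-- `ω` as an element of `GL₂` -/
def ωu (k : ℕ) : GL (Fin 2) (ZMod (2 ^ k)) := ⟨W k, W' k, W_mul_W', W'_mul_W⟩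

theorem ωu_val : ((ωu k : GL (Fin 2) (ZMod (2 ^ k))) : Matrix (Fin 2) (Fin 2) (ZMod (2 ^ k))) = W k :=
  rfl

theorem ωu_inv_val :
    (((ωu k)⁻¹ : GL (Fin 2) (ZMod (2 ^ k))) : Matrix (Fin 2) (Fin 2) (ZMod (2 ^ k))) = W' k :=
  rfl

theorem sq_step (c : ZMod (2 ^ k)) (B : Matrix (Fin 2) (Fin 2) (ZMod (2 ^ k))) :
    (1 + c • B) * (1 + c • B) = 1 + (2 * c) • B + (c * c) • (B * B) := by
  simp only [mul_add, add_mul, one_mul, mul_one, smul_mul_smul_comm]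
  module

theorem pow_two_pow (M B : Matrix (Fin 2) (Fin 2) (ZMod (2 ^ k)))
    (hM : M = 1 + (2 : ZMod (2 ^ k)) • B) (j : ℕ) :
    ∃ B' : Matrix (Fin 2) (Fin 2) (ZMod (2 ^ k)),
      M ^ (2 ^ j) = 1 + ((2 : ZMod (2 ^ k)) ^ (j + 1)) • B' := by
  induction j with
  | zero => exact ⟨B, by rw [pow_zero, pow_one, zero_add, pow_one]; exact hM⟩
  | succ j ih =>
    obtain ⟨B', hB'⟩ := ih
    refine ⟨B' + ((2 : ZMod (2 ^ k)) ^ j) • (B' * B'), ?_⟩
    have e : 2 ^ (j + 1) = 2 ^ j * 2 := pow_succ 2 j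
    rw [e, pow_mul, hB', pow_two, sq_step]
    module

theorem pow_eq_one_of_cong (hk : 1 ≤ k) (M B : Matrix (Fin 2) (Fin 2) (ZMod (2 ^ k)))
    (hM : M = 1 + (2 : ZMod (2 ^ k)) • B) : M ^ (2 ^ (k - 1)) = 1 := by
  obtain ⟨B', hB'⟩ := pow_two_pow M B hM (k - 1)
  rw [hB', Nat.sub_add_cancel hk, two_pow_self_eq_zero, zero_smul, add_zero]

theorem rho_normal_form (hk : 1 ≤ k) (ρ : GL (Fin 2) (ZMod (2 ^ k))) (h3 : ρ ^ 3 = 1)
    (h1 : ρ ≠ 1) : ∃ g : GL (Fin 2) (ZMod (2 ^ k)), g * ρ * g⁻¹ = ωu k := by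
  obtain ⟨φ⟩ : Nonempty (ZMod (2 ^ k) →+* ZMod 2) :=
    ⟨ZMod.castHom (dvd_pow_self 2 (by omega : k ≠ 0)) (ZMod 2)⟩
  obtain ⟨M, hM⟩ : ∃ M : Matrix (Fin 2) (Fin 2) (ZMod (2 ^ k)),
      M = (ρ : Matrix (Fin 2) (Fin 2) (ZMod (2 ^ k))) := ⟨_, rfl⟩
  have hM3 : M ^ 3 = 1 := by
    rw [hM, ← Units.val_pow_eq_pow_val, h3, Units.val_one]
  have hbar : (φ.mapMatrix M) ^ 3 = 1 := by rw [← map_pow, hM3, map_one]
  rcases zmod2_cube _ hbar with hb1 | ⟨hdet, hz⟩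
  · exfalso
    have hN : φ.mapMatrix (M - 1) = 0 := by rw [map_sub, map_one, hb1, sub_self]
    have hent : ∀ i j, ∃ y, (M - 1) i j = 2 * y := by
      intro i j
      apply even_of_map_zero φ
      have := congrFun (congrFun hN i) j
      simpa [RingHom.mapMatrix_apply] using this
    choose B hB using hent
    have hMB : M = 1 + (2 : ZMod (2 ^ k)) • (Matrix.of B) := by
      ext i j
      have := hB i j
      rw [Matrix.sub_apply] at this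
      rw [Matrix.add_apply, Matrix.smul_apply, Matrix.of_apply, smul_eq_mul, ← this]
      ring
    have hpow := pow_eq_one_of_cong hk M _ hMB
    have hρpow : ρ ^ (2 ^ (k - 1)) = 1 := by
      apply Units.ext
      rw [Units.val_pow_eq_pow_val, ← hM, hpow, Units.val_one]
    have hord : orderOf ρ ∣ Nat.gcd 3 (2 ^ (k - 1)) :=
      Nat.dvd_gcd (orderOf_dvd_of_pow_eq_one h3) (orderOf_dvd_of_pow_eq_one hρpow)
    have hcop : Nat.gcd 3 (2 ^ (k - 1)) = 1 := Nat.Coprime.pow_right _ (by norm_num)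
    rw [hcop, Nat.dvd_one, orderOf_eq_one_iff] at hord
    exact h1 hord
  · have hzu : IsUnit (M 1 0) := by
      apply isUnit_of_map_one φ
      have : (φ.mapMatrix M) 1 0 = φ (M 1 0) := by simp [RingHom.mapMatrix_apply]
      rw [← this]; exact hz
    have hdu : IsUnit (M - 1).det := by
      apply isUnit_of_map_one φ
      rw [RingHom.map_det, map_sub, map_one]; exact hdet
    have hunit : IsUnit (M - 1) := (Matrix.isUnit_iff_isUnit_det _).mpr hdu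
    have hprod : (M - 1) * (M * M + M + 1) = 0 := by
      have : (M - 1) * (M * M + M + 1) = M ^ 3 - 1 := by noncomm_ring
      rw [this, hM3, sub_self]
    have hquad : M * M + M + 1 = 0 := hunit.mul_right_eq_zero.mp hprod
    have e00 : M 0 0 * M 0 0 + M 0 1 * M 1 0 + M 0 0 + 1 = 0 := by
      have := congrFun (congrFun hquad 0) 0
      simpa [Matrix.mul_apply, Fin.sum_univ_two] using this
    have e10 : M 1 0 * M 0 0 + M 1 1 * M 1 0 + M 1 0 = 0 := by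
      have := congrFun (congrFun hquad 1) 0
      simpa [Matrix.mul_apply, Fin.sum_univ_two] using this
    obtain ⟨P, hP⟩ : ∃ P : Matrix (Fin 2) (Fin 2) (ZMod (2 ^ k)), P = !![1, M 0 0; 0, M 1 0] :=
      ⟨_, rfl⟩
    have hPdet : IsUnit P.det := by
      rw [hP, Matrix.det_fin_two_of]
      simpa using hzu
    obtain ⟨Pu, hPu⟩ := (Matrix.isUnit_iff_isUnit_det P).mpr hPdet
    have hMP : M * P = P * W k := by
      rw [hP]
      ext i j
      fin_cases i <;> fin_cases j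
      · simp [W, Matrix.mul_apply, Fin.sum_univ_two]
      · simp [W, Matrix.mul_apply, Fin.sum_univ_two]
        linear_combination e00
      · simp [W, Matrix.mul_apply, Fin.sum_univ_two]
      · simp [W, Matrix.mul_apply, Fin.sum_univ_two]
        linear_combination e10
    have hcomm : ρ * Pu = Pu * ωu k := by
      apply Units.ext
      rw [Units.val_mul, Units.val_mul, hPu, ← hM, ωu_val]
      exact hMP
    refine ⟨Pu⁻¹, ?_⟩
    rw [inv_inv, mul_assoc, hcomm, ← mul_assoc, inv_mul_cancel, one_mul]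

/-- the standard copy of `A₄` -/
def S₀ (k : ℕ) : Set (GL (Fin 2) (ZMod (2 ^ k))) :=
  {g | ∃ (i : ℕ) (γ δ : ZMod (2 ^ k)), 2 * γ = 0 ∧ 2 * δ = 0 ∧
    (g : Matrix (Fin 2) (Fin 2) (ZMod (2 ^ k))) = MM γ δ * (W k) ^ i}

theorem mem_S₀ (g : GL (Fin 2) (ZMod (2 ^ k))) :
    g ∈ S₀ k ↔ ∃ (i : ℕ) (γ δ : ZMod (2 ^ k)), 2 * γ = 0 ∧ 2 * δ = 0 ∧
      (g : Matrix (Fin 2) (Fin 2) (ZMod (2 ^ k))) = MM γ δ * (W k) ^ i := Iff.rfl

theorem range_eq_std (hk : 1 ≤ k) {A : Type*} [Group A] (r x : A) (hx2 : x * x = 1) (hx1 : x ≠ 1)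
    (hrel : x * (r * x * r⁻¹) = r⁻¹ * x * r)
    (hcov : ∀ h : A, ∃ i : ℕ, h = r ^ i ∨ h = x * r ^ i ∨ h = (r * x * r⁻¹) * r ^ i ∨
      h = (r⁻¹ * x * r) * r ^ i)
    (f : A →* GL (Fin 2) (ZMod (2 ^ k))) (hf : Function.Injective f) (hfr : f r = ωu k) :
    (f.range : Set (GL (Fin 2) (ZMod (2 ^ k)))) = S₀ k := by
  obtain ⟨Ax, hAx⟩ : ∃ Ax : Matrix (Fin 2) (Fin 2) (ZMod (2 ^ k)),
      Ax = ((f x : GL (Fin 2) (ZMod (2 ^ k))) : Matrix (Fin 2) (Fin 2) (ZMod (2 ^ k))) := ⟨_, rfl⟩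
  have hfri : f r⁻¹ = (ωu k)⁻¹ := by rw [map_inv, hfr]
  have h1 : Ax * Ax = 1 := by
    rw [hAx, ← Units.val_mul, ← map_mul, hx2, map_one, Units.val_one]
  have hb : ((f (r * x * r⁻¹) : GL (Fin 2) (ZMod (2 ^ k))) :
      Matrix (Fin 2) (Fin 2) (ZMod (2 ^ k))) = W k * Ax * W' k := by
    rw [map_mul, map_mul, hfr, hfri, Units.val_mul, Units.val_mul, hAx, ωu_val, ωu_inv_val]
  have hc : ((f (r⁻¹ * x * r) : GL (Fin 2) (ZMod (2 ^ k))) :
      Matrix (Fin 2) (Fin 2) (ZMod (2 ^ k))) = W' k * Ax * W k := by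
    rw [map_mul, map_mul, hfr, hfri, Units.val_mul, Units.val_mul, hAx, ωu_val, ωu_inv_val]
  have h2 : Ax * (W k * Ax * W' k) = W' k * Ax * W k := by
    rw [← hb, ← hc, hAx, ← Units.val_mul, ← map_mul, hrel]
  obtain ⟨γ₀, δ₀, hγ₀, hδ₀, hA⟩ := key Ax h1 h2
  have hne : ¬ (γ₀ = 0 ∧ δ₀ = 0) := by
    rintro ⟨rfl, rfl⟩
    rw [MM_zero] at hA
    apply hx1
    apply hf
    rw [map_one]
    apply Units.ext
    rw [← hAx, hA, Units.val_one]
  have hfpow : ∀ i : ℕ, ((f (r ^ i) : GL (Fin 2) (ZMod (2 ^ k))) :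
      Matrix (Fin 2) (Fin 2) (ZMod (2 ^ k))) = (W k) ^ i := by
    intro i
    rw [map_pow, hfr, Units.val_pow_eq_pow_val, ωu_val]
  apply Set.eq_of_subset_of_subset
  · rintro g ⟨h, rfl⟩
    rw [mem_S₀]
    obtain ⟨i, hi | hi | hi | hi⟩ := hcov h
    · refine ⟨i, 0, 0, by simp, by simp, ?_⟩
      rw [hi, hfpow, MM_zero, one_mul]
    · refine ⟨i, γ₀, δ₀, hγ₀, hδ₀, ?_⟩
      rw [hi, map_mul, Units.val_mul, hfpow, ← hAx, hA]
    · refine ⟨i, δ₀ - γ₀, -γ₀, by linear_combination hδ₀ - hγ₀,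
        by linear_combination (-1 : ZMod (2 ^ k)) * hγ₀, ?_⟩
      rw [hi, map_mul, Units.val_mul, hfpow, hb, hA, W_MM_W']
    · refine ⟨i, -δ₀, γ₀ - δ₀, by linear_combination (-1 : ZMod (2 ^ k)) * hδ₀,
        by linear_combination hγ₀ - hδ₀, ?_⟩
      rw [hi, map_mul, Units.val_mul, hfpow, hc, hA, W'_MM_W]
  · rintro g hg
    rw [mem_S₀] at hg
    obtain ⟨i, γ, δ, hγ, hδ, hg⟩ := hg
    have hv : ∃ v : A, ((f v : GL (Fin 2) (ZMod (2 ^ k))) :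
        Matrix (Fin 2) (Fin 2) (ZMod (2 ^ k))) = MM γ δ := by
      have hε2 : 2 * (2 : ZMod (2 ^ k)) ^ (k - 1) = 0 := by
        rw [← pow_succ', Nat.sub_add_cancel hk, two_pow_self_eq_zero]
      have hneg : -(2 : ZMod (2 ^ k)) ^ (k - 1) = 2 ^ (k - 1) := by
        linear_combination (-1 : ZMod (2 ^ k)) * hε2
      rcases two_torsion hk γ₀ hγ₀ with rfl | rfl <;>
      rcases two_torsion hk δ₀ hδ₀ with rfl | rfl <;>
      rcases two_torsion hk γ hγ with rfl | rfl <;>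
      rcases two_torsion hk δ hδ with rfl | rfl <;>
      first
        | exact absurd ⟨rfl, rfl⟩ hne
        | (refine ⟨1, ?_⟩; rw [map_one, Units.val_one, MM_zero]; done)
        | (refine ⟨x, ?_⟩; rw [← hAx, hA]; done)
        | (refine ⟨r * x * r⁻¹, ?_⟩; rw [hb, hA, W_MM_W']; simp [hneg]; done)
        | (refine ⟨r⁻¹ * x * r, ?_⟩; rw [hc, hA, W'_MM_W]; simp [hneg]; done)
    obtain ⟨v, hv⟩ := hv
    refine ⟨v * r ^ i, ?_⟩
    apply Units.ext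
    rw [map_mul, Units.val_mul, hfpow, hv, hg]

theorem conj_to_std (hk : 1 ≤ k) (H : Subgroup (GL (Fin 2) (ZMod (2 ^ k))))
    (hH : Nonempty (↥H ≃* ↥(alternatingGroup (Fin 4)))) :
    ∃ g : GL (Fin 2) (ZMod (2 ^ k)),
      ((H.map (MulAut.conj g).toMonoidHom : Subgroup (GL (Fin 2) (ZMod (2 ^ k)))) :
        Set (GL (Fin 2) (ZMod (2 ^ k)))) = S₀ k := by
  obtain ⟨e⟩ := hH
  obtain ⟨r, x, hr3, hr1, hx2, hx1, hrel, hcov⟩ := alt4_struct
  obtain ⟨f₀, hf₀def⟩ : ∃ f₀ : alternatingGroup (Fin 4) →* GL (Fin 2) (ZMod (2 ^ k)),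
      ∀ a, f₀ a = ((e.symm a : H) : GL (Fin 2) (ZMod (2 ^ k))) :=
    ⟨H.subtype.comp e.symm.toMonoidHom, fun a => rfl⟩
  have hf₀ : Function.Injective f₀ := by
    intro a b hab
    rw [hf₀def, hf₀def] at hab
    exact e.symm.injective (Subtype.ext hab)
  have hρ3 : (f₀ r) ^ 3 = 1 := by rw [← map_pow, hr3, map_one]
  have hρ1 : f₀ r ≠ 1 := fun h => hr1 (hf₀ (by rw [h, map_one]))
  obtain ⟨g, hg⟩ := rho_normal_form hk (f₀ r) hρ3 hρ1
  refine ⟨g, ?_⟩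
  obtain ⟨f, hfdef⟩ : ∃ f : alternatingGroup (Fin 4) →* GL (Fin 2) (ZMod (2 ^ k)),
      ∀ a, f a = g * f₀ a * g⁻¹ :=
    ⟨(MulAut.conj g).toMonoidHom.comp f₀, fun a => rfl⟩
  have hf : Function.Injective f := by
    intro a b hab
    rw [hfdef, hfdef] at hab
    apply hf₀
    have := congrArg (fun y => g⁻¹ * y * g) hab
    simpa [mul_assoc] using this
  have hfr : f r = ωu k := by rw [hfdef]; exact hg
  have hrange : H.map (MulAut.conj g).toMonoidHom = f.range := by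
    ext y
    constructor
    · rintro ⟨h, hh, rfl⟩
      refine ⟨e ⟨h, hh⟩, ?_⟩
      rw [hfdef, hf₀def, MulEquiv.symm_apply_apply]
      rfl
    · rintro ⟨a, rfl⟩
      refine ⟨((e.symm a : H) : GL (Fin 2) (ZMod (2 ^ k))), (e.symm a).2, ?_⟩
      rw [hfdef, hf₀def]
      rfl
  rw [hrange]
  exact range_eq_std hk r x hx2 hx1 hrel
    (fun h => by obtain ⟨i, hi⟩ := hcov h; exact ⟨i, hi⟩) f hf hfr


/-- For k ≥ 2, any two subgroups of GL₂(ℤ/2ᵏℤ) (the automorphism group of the homocyclic group ℤ/2ᵏ × ℤ/2ᵏ) that are isomorphic to the alternating group of degree 4 are conjugate. -/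
theorem result (k : ℕ) (hk : 2 ≤ k) (H₁ H₂ : Subgroup (GL (Fin 2) (ZMod (2 ^ k)))) (h₁ : Nonempty (↥H₁ ≃* ↥(alternatingGroup (Fin 4)))) (h₂ : Nonempty (↥H₂ ≃* ↥(alternatingGroup (Fin 4)))) : ∃ g : GL (Fin 2) (ZMod (2 ^ k)), H₂ = H₁.map (MulAut.conj g).toMonoidHom := by
  obtain ⟨g₁, hg₁⟩ := conj_to_std (by omega : 1 ≤ k) H₁ h₁
  obtain ⟨g₂, hg₂⟩ := conj_to_std (by omega : 1 ≤ k) H₂ h₂
  have heq : H₁.map (MulAut.conj g₁).toMonoidHom = H₂.map (MulAut.conj g₂).toMonoidHom :=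
    SetLike.coe_injective (hg₁.trans hg₂.symm)
  refine ⟨g₂⁻¹ * g₁, ?_⟩
  ext y
  constructor
  · intro hy
    have h1 : g₂ * y * g₂⁻¹ ∈ H₂.map (MulAut.conj g₂).toMonoidHom := ⟨y, hy, rfl⟩
    rw [← heq] at h1
    obtain ⟨h, hh, hconj⟩ := h1
    have hc : g₁ * h * g₁⁻¹ = g₂ * y * g₂⁻¹ := hconj
    refine ⟨h, hh, ?_⟩
    show g₂⁻¹ * g₁ * h * (g₂⁻¹ * g₁)⁻¹ = y
    rw [_root_.mul_inv_rev, inv_inv]
    calc g₂⁻¹ * g₁ * h * (g₁⁻¹ * g₂) = g₂⁻¹ * (g₁ * h * g₁⁻¹) * g₂ := by group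
      _ = y := by rw [hc]; group
  · rintro ⟨h, hh, rfl⟩
    have h1 : g₁ * h * g₁⁻¹ ∈ H₁.map (MulAut.conj g₁).toMonoidHom := ⟨h, hh, rfl⟩
    rw [heq] at h1
    obtain ⟨y, hy, hconj⟩ := h1
    have hc : g₂ * y * g₂⁻¹ = g₁ * h * g₁⁻¹ := hconj
    have hyeq : (MulAut.conj (g₂⁻¹ * g₁)).toMonoidHom h = y := by
      show g₂⁻¹ * g₁ * h * (g₂⁻¹ * g₁)⁻¹ = y
      rw [_root_.mul_inv_rev, inv_inv]
      calc g₂⁻¹ * g₁ * h * (g₁⁻¹ * g₂) = g₂⁻¹ * (g₁ * h * g₁⁻¹) * g₂ := by group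
        _ = y := by rw [← hc]; group
    rw [hyeq]
    exact hy

end Cfsg.Agent.S2874
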