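import Cfsg.Statements.S2879
import Mathlib
import Cfsg.Agent.Lib.Helper1.Fitting
import Cfsg.Agent.Lib.Helper1.Cores
import Cfsg.Agent.Lib.Helper1.Frattini
import Cfsg.Agent.Lib.Helper12.OddAut
import Cfsg.Agent.Lib.Helper10.UniqueOrderP
import Cfsg.Agent.H26.AutTwoGroup
import Cfsg.Agent.Lib.Helper9.AutIndex
import Cfsg.Agent.Lib.Helper23.SL23Recog

set_option autoImplicit false
open Cfsg

namespace Cfsg.Agent.S2879

open Cfsg.Agent.Lib.Helper1 Cfsg.Agent.Lib.Helper10 Cfsg.Agent.Lib.Helper12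

/-- A `2`-group with a cyclic subgroup of index at most two and an automorphism of odd prime order
is a four-group on which the automorphism is fixed-point-free, or a quaternion group of order 8. -/
theorem key {Q : Type*} [Group Q] [Finite Q] (hQ : IsPGroup 2 Q) (d : Q)
    (hd : Nat.card Q ∣ orderOf d * 2) {q : ℕ} [hq : Fact q.Prime] (hq2 : q ≠ 2)
    (α : MulAut Q) (hα : orderOf α = q) :
    (Nat.card Q = 4 ∧ ∀ x : Q, x ≠ 1 → α x ≠ x) ∨ Nonempty (Q ≃* QuaternionGroup 2) := by
  classical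
  haveI : Fact (Nat.Prime 2) := ⟨Nat.prime_two⟩
  obtain ⟨k, hk⟩ := hQ.exists_card_eq
  have hqdvd2 : ∀ m : ℕ, ¬ q ∣ 2 ^ m := by
    intro m h
    exact hq2 ((Nat.prime_dvd_prime_iff_eq hq.out Nat.prime_two).mp (hq.out.dvd_of_dvd_pow h))
  -- `Q` is not cyclic
  have hncyc : ¬ IsCyclic Q := by
    intro hc
    have h1 : Nat.card (MulAut Q) = (Nat.card Q).totient := IsCyclic.card_mulAut Q
    have h2 : orderOf α ∣ Nat.card (MulAut Q) := orderOf_dvd_natCard α
    rw [h1, hk, hα] at h2
    rcases Nat.eq_zero_or_pos k with hk0 | hkpos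
    · rw [hk0, pow_zero, Nat.totient_one] at h2
      exact hqdvd2 0 (by simpa using h2)
    · obtain ⟨j, rfl⟩ : ∃ j, k = j + 1 := ⟨k - 1, by omega⟩
      rw [Nat.totient_prime_pow_succ Nat.prime_two] at h2
      exact hqdvd2 j (by simpa using h2)
  have hordd : orderOf d ∣ Nat.card Q := orderOf_dvd_natCard d
  have hne : orderOf d ≠ Nat.card Q := fun h => hncyc (isCyclic_of_orderOf_eq_card d h)
  have hcard : Nat.card Q = orderOf d * 2 := by
    obtain ⟨m, hm⟩ := hordd
    have ho : 0 < orderOf d := orderOf_pos d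
    rw [hm] at hd
    have hm2 : m ∣ 2 := (Nat.mul_dvd_mul_iff_left ho).mp hd
    rcases (Nat.dvd_prime Nat.prime_two).mp hm2 with rfl | rfl
    · exact absurd (by rw [hm, mul_one]) hne
    · exact hm
  -- the order of `d` is a power of two, at least 2
  obtain ⟨j, hj⟩ : ∃ j : ℕ, orderOf d = 2 ^ j := by
    have : orderOf d ∣ 2 ^ k := by rw [← hk]; exact orderOf_dvd_natCard d
    obtain ⟨j, -, hj⟩ := (Nat.dvd_prime_pow Nat.prime_two).mp this
    exact ⟨j, hj⟩
  have hj1 : 1 ≤ j := by
    by_contra hcon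
    have hj0 : j = 0 := by omega
    rw [hj0, pow_zero] at hj
    rw [hj] at hcard
    apply hncyc
    haveI : Fact (Nat.Prime 2) := ⟨Nat.prime_two⟩
    exact isCyclic_of_prime_card (p := 2) (by omega)
  obtain ⟨D, hD⟩ : ∃ D : Subgroup Q, D = Subgroup.zpowers d := ⟨_, rfl⟩
  have hdD : d ∈ D := by rw [hD]; exact Subgroup.mem_zpowers d
  have hDcard : Nat.card D = orderOf d := by rw [hD]; exact Nat.card_zpowers d
  have hDidx : D.index = 2 := by
    have h1 := D.card_mul_index
    rw [hDcard, hcard] at h1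
    exact Nat.eq_of_mul_eq_mul_left (orderOf_pos d) h1
  have hDco : IsCoatom D := by
    refine ⟨fun h => by rw [h, Subgroup.index_top] at hDidx; omega, fun K hK => ?_⟩
    have h1 : K.index ∣ D.index := Subgroup.index_dvd_of_le hK.le
    rw [hDidx] at h1
    rcases (Nat.dvd_prime Nat.prime_two).mp h1 with h2 | h2
    · exact Subgroup.index_eq_one.mp h2
    · exfalso
      have h3 := K.card_mul_index
      have h4 := D.card_mul_index
      rw [h2] at h3
      rw [hDidx] at h4
      have h5 : Nat.card K = Nat.card D := by omega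
      exact hK.ne (Subgroup.eq_of_le_of_card_ge hK.le h5.le)
  obtain ⟨Φ, hΦ⟩ : ∃ Φ : Subgroup Q, Φ = frattini Q := ⟨_, rfl⟩
  have hΦD : Φ ≤ D := by rw [hΦ]; exact frattini_le_coatom hDco
  have hsq : ∀ y : Q, y ^ 2 ∈ Φ := by
    intro y; rw [hΦ]; exact Cfsg.Agent.Lib.Helper1.IsPGroup.pow_mem_frattini hQ y
  have hchar : ∀ (β : MulAut Q) (x : Q), β x ∈ Φ ↔ x ∈ Φ := by
    intro β x
    have h := (Subgroup.characteristic_iff_comap_eq.mp (frattini_characteristic (G := Q))) β
    rw [hΦ]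
    constructor
    · intro hx; rw [← h]; exact hx
    · intro hx; rw [← h] at hx; exact hx
  -- the index of the Frattini subgroup
  have hEle : Subgroup.zpowers (d ^ 2) ≤ Φ := Subgroup.zpowers_le.mpr (hsq d)
  have hEcard : Nat.card (Subgroup.zpowers (d ^ 2)) = 2 ^ (j - 1) := by
    rw [Nat.card_zpowers, orderOf_pow_of_dvd (by norm_num) (by rw [hj]; exact dvd_pow_self 2 (by omega)), hj]
    obtain ⟨i, rfl⟩ : ∃ i, j = i + 1 := ⟨j - 1, by omega⟩
    rw [pow_succ, Nat.add_sub_cancel]
    exact Nat.mul_div_cancel _ (by norm_num)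
  have hEidx : (Subgroup.zpowers (d ^ 2)).index = 4 := by
    have h1 := (Subgroup.zpowers (d ^ 2)).card_mul_index
    rw [hEcard, hcard, hj] at h1
    obtain ⟨i, rfl⟩ : ∃ i, j = i + 1 := ⟨j - 1, by omega⟩
    rw [Nat.add_sub_cancel] at h1
    have h2 : 2 ^ i * (Subgroup.zpowers (d ^ 2)).index = 2 ^ i * 4 := by rw [h1, pow_succ]; ring
    exact Nat.eq_of_mul_eq_mul_left (by positivity) h2
  have hidx : Φ.index = 4 := by
    have h1 : Φ.index ∣ 4 := hEidx ▸ Subgroup.index_dvd_of_le hEle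
    have h2 : 2 ∣ Φ.index := hDidx ▸ Subgroup.index_dvd_of_le hΦD
    have h3 : Φ.index ≤ 4 := Nat.le_of_dvd (by norm_num) h1
    have h4 : Φ.index = 2 ∨ Φ.index = 4 := by
      have h5 : Φ.index ≠ 0 := fun h => by rw [h] at h1; omega
      interval_cases h6 : Φ.index <;> omega
    rcases h4 with h4 | h4
    · exfalso
      apply not_forall_mem_frattini hQ hq2 hα
      intro x
      rw [← hΦ, Subgroup.mul_mem_iff_of_index_two h4, inv_mem_iff, hchar]
    · exact h4
  have hfix : ∀ {β : MulAut Q}, orderOf β = q → ∀ {x : Q}, x ∉ Φ → x⁻¹ * β x ∉ Φ := by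
    intro β hβ x hx
    rw [hΦ] at hx ⊢
    exact inv_mul_apply_not_mem_frattini hQ hq2 (hΦ ▸ hidx) hβ hx
  rcases Nat.lt_or_ge j 2 with hj2 | hj2
  · -- order four
    left
    have hj' : j = 1 := by omega
    have hc4 : Nat.card Q = 4 := by rw [hcard, hj, hj']; norm_num
    refine ⟨hc4, ?_⟩
    have hΦbot : Φ = ⊥ := by
      have h1 := Φ.card_mul_index
      rw [hidx, hc4] at h1
      have h2 : Nat.card Φ = 1 := by omega
      exact Subgroup.card_eq_one.mp h2
    intro x hx hαx
    have hxΦ : x ∉ Φ := by rw [hΦbot, Subgroup.mem_bot]; exact hx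
    apply hfix hα hxΦ
    rw [hαx, inv_mul_cancel]
    exact Φ.one_mem
  · -- order at least eight
    right
    have h4le : 4 ≤ orderOf d := by
      rw [hj]
      calc 4 = 2 ^ 2 := by norm_num
        _ ≤ 2 ^ j := Nat.pow_le_pow_right (by norm_num) hj2
    -- involutions outside `Φ` are outside `D`
    have hnotD : ∀ t : Q, t ^ 2 = 1 → t ∉ Φ → t ∉ D := by
      intro t ht htΦ htD
      rw [hD, ← mem_powers_iff_mem_zpowers] at htD
      obtain ⟨n, rfl⟩ := (Submonoid.mem_powers_iff _ _).mp htD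
      rcases Nat.even_or_odd n with ⟨l, hl⟩ | hodd
      · apply htΦ
        rw [hl, ← two_mul, mul_comm, pow_mul]
        exact hsq _
      · have hcop : (orderOf d).Coprime n := by
          rw [hj]
          exact Nat.Coprime.pow_left j (Nat.coprime_two_left.mpr hodd)
        have h1 : orderOf (d ^ n) = orderOf d := hcop.orderOf_pow
        have h2 : orderOf (d ^ n) ∣ 2 := orderOf_dvd_of_pow_eq_one ht
        have h3 := Nat.le_of_dvd (by norm_num) h2
        omega
    -- elements of `D` outside `Φ` differ by an element of `Φ`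
    have hDΦ : ∀ u v : Q, u ∈ D → v ∈ D → u ∉ Φ → v ∉ Φ → u⁻¹ * v ∈ Φ := by
      intro u v hu hv huΦ hvΦ
      rw [hD] at hu hv
      obtain ⟨a, rfl⟩ := Subgroup.mem_zpowers_iff.mp hu
      obtain ⟨b, rfl⟩ := Subgroup.mem_zpowers_iff.mp hv
      have hodd : ∀ c : ℤ, d ^ c ∉ Φ → Odd c := by
        intro c hc
        rcases Int.even_or_odd c with ⟨l, hl⟩ | ho
        · exfalso
          apply hc
          rw [hl, zpow_add, ← sq]
          exact hsq _
        · exact ho
      obtain ⟨l, hl⟩ := (hodd b hvΦ).sub_odd (hodd a huΦ)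
      have : (d ^ a)⁻¹ * d ^ b = (d ^ l) ^ 2 := by
        rw [← zpow_neg, ← zpow_add, sq, ← zpow_add, ← hl]
        congr 1
        ring
      rw [this]
      exact hsq _
    -- all involutions lie in `Φ`
    have hinv : ∀ t : Q, t ^ 2 = 1 → t ∈ Φ := by
      intro t ht
      by_contra htΦ
      have ht' : (α t) ^ 2 = 1 := by rw [← map_pow, ht, map_one]
      have ht'Φ : α t ∉ Φ := fun h => htΦ ((hchar α t).mp h)
      have ht'' : (α (α t)) ^ 2 = 1 := by rw [← map_pow, ht', map_one]
      have ht''Φ : α (α t) ∉ Φ := fun h => ht'Φ ((hchar α _).mp h)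
      have h1 : t ∉ D := hnotD t ht htΦ
      have h2 : α t ∉ D := hnotD _ ht' ht'Φ
      have h3 : α (α t) ∉ D := hnotD _ ht'' ht''Φ
      have hu : t⁻¹ * α t ∈ D := by
        rw [Subgroup.mul_mem_iff_of_index_two hDidx, inv_mem_iff]
        exact ⟨fun h => absurd h h1, fun h => absurd h h2⟩
      have hv : (α t)⁻¹ * α (α t) ∈ D := by
        rw [Subgroup.mul_mem_iff_of_index_two hDidx, inv_mem_iff]
        exact ⟨fun h => absurd h h2, fun h => absurd h h3⟩
      have huΦ : t⁻¹ * α t ∉ Φ := hfix hα htΦ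
      have hvΦ : (α t)⁻¹ * α (α t) ∉ Φ := hfix hα ht'Φ
      have hkey := hDΦ _ _ hu hv huΦ hvΦ
      have hkey' : (t⁻¹ * α t)⁻¹ * α (t⁻¹ * α t) ∉ Φ := hfix hα huΦ
      apply hkey'
      rw [map_mul, map_inv]
      exact hkey
    -- unique involution
    have hu : UniqueOrderP 2 Q := by
      intro x y hx hx1 hy
      have hxD : x ∈ D := hΦD (hinv x hx)
      have hyD : y ∈ D := hΦD (hinv y hy)
      have hDcyc : IsCyclic ↥D := by rw [hD]; infer_instance
      apply mem_zpowers_of_orderOf_dvd' D hDcyc hyD hxD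
      rw [orderOf_eq_prime hx hx1]
      exact orderOf_dvd_of_pow_eq_one hy
    rcases isCyclic_or_quaternion_of_uniqueOrderP hQ hu with hc | ⟨-, n, ⟨e⟩⟩
    · exact absurd hc hncyc
    · have hne0 : NeZero (2 ^ n) := ⟨by positivity⟩
      have hcq : Nat.card Q = 4 * 2 ^ n := by
        rw [Nat.card_congr e.toEquiv, Nat.card_eq_fintype_card, QuaternionGroup.card]
      have h8 : 8 ≤ Nat.card Q := by rw [hcard]; omega
      have hn1 : 1 ≤ n := by
        by_contra hcon
        have : n = 0 := by omega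
        rw [this] at hcq
        omega
      rcases Nat.lt_or_ge n 2 with hn2 | hn2
      · have hn : n = 1 := by omega
        subst hn
        rw [pow_one] at e
        exact ⟨e⟩
      · exfalso
        obtain ⟨m, hm⟩ : ∃ m, m = n + 2 := ⟨_, rfl⟩
        have hnm : n = m - 2 := by omega
        subst hnm
        have hP := Cfsg.Agent.H26.isPGroup_two_mulAut_quaternion m (by omega)
        obtain ⟨i, hi⟩ := hP (MulAut.congr e α)
        have h1 : orderOf (MulAut.congr e α) ∣ 2 ^ i := orderOf_dvd_of_pow_eq_one hi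
        rw [MulEquiv.orderOf_eq, hα] at h1
        exact hqdvd2 i h1

/-- Let G be a finite solvable group with O(G) = 1 whose Sylow 2-subgroup T is dihedral of order at least 8 or semidihedral, with G ≠ T and Z(T) normal in G. Then G has a normal subgroup isomorphic to SL₂(3). -/
theorem result {G : Type*} [Group G] [Finite G] (hsol : IsSolvable G) (hO : Cfsg.oddCore G = ⊥) (T : Sylow 2 G) (hT : (∃ n : ℕ, 4 ≤ n ∧ Nonempty (↥(T : Subgroup G) ≃* DihedralGroup n)) ∨ Cfsg.IsQuasiDihedral ↥(T : Subgroup G)) (hne : (T : Subgroup G) ≠ ⊤) (hZ : ((T : Subgroup G) ⊓ Subgroup.centralizer ((T : Subgroup G) : Set G)).Normal) : ∃ U : Subgroup G, U.Normal ∧ Nonempty (↥U ≃* Matrix.SpecialLinearGroup (Fin 2) (ZMod 3)) := by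
  classical
  haveI : Fact (Nat.Prime 2) := ⟨Nat.prime_two⟩
  haveI : Group.IsSolvable G := hsol
  -- a cyclic subgroup of index two in `T`
  obtain ⟨c, hcT, hc, h8⟩ : ∃ c : G, c ∈ (T : Subgroup G) ∧
      orderOf c * 2 = Nat.card (T : Subgroup G) ∧ 8 ≤ Nat.card (T : Subgroup G) := by
    rcases hT with ⟨n, hn, ⟨e⟩⟩ | ⟨n, hn, hcardT, x, y, hx, hy, hxy⟩
    · haveI : NeZero n := ⟨by omega⟩
      refine ⟨(e.symm (DihedralGroup.r 1) : ↥(T : Subgroup G)), (e.symm (DihedralGroup.r 1)).2, ?_, ?_⟩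
      · rw [Subgroup.orderOf_coe, MulEquiv.orderOf_eq, DihedralGroup.orderOf_r_one,
          Nat.card_congr e.toEquiv, DihedralGroup.nat_card]
        ring
      · rw [Nat.card_congr e.toEquiv, DihedralGroup.nat_card]; omega
    · refine ⟨(x : G), x.2, ?_, ?_⟩
      · rw [Subgroup.orderOf_coe, hx, hcardT, pow_succ]
      · rw [hcardT]
        calc 8 = 2 ^ 3 := by norm_num
          _ ≤ 2 ^ (n + 1) := Nat.pow_le_pow_right (by norm_num) (by omega)
  -- the 2-core
  obtain ⟨Q, hQdef⟩ : ∃ Q : Subgroup G, Q = Cfsg.pCore 2 G := ⟨_, rfl⟩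
  haveI hQn : Q.Normal := by rw [hQdef]; exact Cfsg.Agent.Lib.Helper1.pCore_normal 2
  have hQp : IsPGroup 2 Q := by rw [hQdef]; exact Cfsg.Agent.Lib.Helper1.pCore_isPGroup 2
  have hCQ : Subgroup.centralizer (Q : Set G) ≤ Q := by rw [hQdef]; exact Cfsg.Agent.Lib.Helper1.centralizer_pCore_le 2 hO
  have hQT : Q ≤ (T : Subgroup G) := by rw [hQdef]; exact Cfsg.Agent.Lib.Helper1.pCore_le_sylow T
  -- an element of odd prime order
  have hidxT : (T : Subgroup G).index ≠ 1 := fun h => hne (Subgroup.index_eq_one.mp h)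
  obtain ⟨p, hp, hpdvd⟩ := Nat.exists_prime_and_dvd hidxT
  have hp2 : p ≠ 2 := by
    rintro rfl
    exact T.not_dvd_index hpdvd
  haveI : Fact p.Prime := ⟨hp⟩
  have hpG : p ∣ Nat.card G := hpdvd.trans (Subgroup.index_dvd_card _)
  obtain ⟨x, hx⟩ := exists_prime_orderOf_dvd_card' p hpG
  have hpow2 : ∀ m : ℕ, ¬ p ∣ 2 ^ m := by
    intro m h
    exact hp2 ((Nat.prime_dvd_prime_iff_eq hp Nat.prime_two).mp (hp.dvd_of_dvd_pow h))
  have hxQ : x ∉ Q := by
    intro hxQ
    obtain ⟨m, hm⟩ := hQp ⟨x, hxQ⟩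
    have h1 : x ^ 2 ^ m = 1 := by
      have := congrArg Subtype.val hm
      simpa using this
    have h2 : orderOf x ∣ 2 ^ m := orderOf_dvd_of_pow_eq_one h1
    rw [hx] at h2
    exact hpow2 m h2
  obtain ⟨α, hαdef⟩ : ∃ α : MulAut Q, α = MulAut.conjNormal x := ⟨_, rfl⟩
  have hαapp : ∀ y : Q, ((α y : Q) : G) = x * y * x⁻¹ := by
    intro y; rw [hαdef]; exact MulAut.conjNormal_apply x y
  have hα1 : α ≠ 1 := by
    intro h
    apply hxQ
    apply hCQ
    rw [Subgroup.mem_centralizer_iff]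
    intro y hy
    have h1 := hαapp ⟨y, hy⟩
    rw [h] at h1
    simp only [MulAut.one_apply] at h1
    calc y * x = (x * y * x⁻¹) * x := by rw [← h1]
      _ = x * y := by group
  have hαp : α ^ p = 1 := by
    rw [hαdef, ← map_pow, ← hx, pow_orderOf_eq_one, map_one]
  have hαord : orderOf α = p := orderOf_eq_prime hαp hα1
  -- a generator of `Q ∩ ⟨c⟩`
  obtain ⟨K, hK⟩ : ∃ K : Subgroup G, K = Q ⊓ Subgroup.zpowers c := ⟨_, rfl⟩
  have hKQ : K ≤ Q := by rw [hK]; exact inf_le_left
  have hKc : K ≤ Subgroup.zpowers c := by rw [hK]; exact inf_le_right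
  have hKcyc : IsCyclic ↥K :=
    isCyclic_of_injective (Subgroup.inclusion hKc) (Subgroup.inclusion_injective hKc)
  obtain ⟨⟨g, hg⟩⟩ := hKcyc
  have hgord : orderOf (g : G) = Nat.card K := by
    rw [Subgroup.orderOf_coe]; exact orderOf_eq_card_of_forall_mem_zpowers hg
  have hcT' : Subgroup.zpowers c ≤ (T : Subgroup G) := Subgroup.zpowers_le.mpr hcT
  have hrT : (Subgroup.zpowers c).relIndex (T : Subgroup G) = 2 := by
    have h1 := card_mul_relIndex_of_le hcT'
    rw [Nat.card_zpowers, ← hc] at h1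
    exact Nat.eq_of_mul_eq_mul_left (orderOf_pos c) h1
  have hrQ : K.relIndex Q ∣ 2 := by
    have h1 : K.relIndex Q = (Subgroup.zpowers c).relIndex Q := by
      rw [hK]; exact Subgroup.inf_relIndex_left Q _
    have h2 : (Subgroup.zpowers c).relIndex Q ≤ (Subgroup.zpowers c).relIndex (T : Subgroup G) :=
      Subgroup.relIndex_le_of_le_right hQT (by rw [hrT]; norm_num)
    rw [hrT] at h2
    have h3 : K.relIndex Q ≠ 0 := by
      intro h0
      have h5 := card_mul_relIndex_of_le hKQ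
      rw [h0, mul_zero] at h5
      exact (Nat.card_pos (α := Q)).ne h5
    rw [h1] at h3 ⊢
    interval_cases h4 : (Subgroup.zpowers c).relIndex Q
    · exact absurd rfl h3
    · norm_num
    · norm_num
  have hdvdQ : Nat.card Q ∣ orderOf (g : G) * 2 := by
    rw [hgord, ← card_mul_relIndex_of_le hKQ]
    exact Nat.mul_dvd_mul_left _ hrQ
  have hkey := key hQp (⟨(g : G), hKQ g.2⟩ : Q)
    (by rw [Subgroup.orderOf_mk]; exact hdvdQ) hp2 α hαord
  -- the centre of `T`
  obtain ⟨Z, hZdef⟩ : ∃ Z : Subgroup G,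
      Z = (T : Subgroup G) ⊓ Subgroup.centralizer ((T : Subgroup G) : Set G) := ⟨_, rfl⟩
  haveI hZn : Z.Normal := by rw [hZdef]; exact hZ
  have hZT : Z ≤ (T : Subgroup G) := by rw [hZdef]; exact inf_le_left
  have hZQ : Z ≤ Q := by
    rw [hQdef]
    exact Cfsg.Agent.Lib.Helper1.le_pCore hZn (IsPGroup.to_le T.isPGroup' hZT)
  rcases hkey with ⟨hc4, hfpf⟩ | he
  · -- the four-group case is impossible
    exfalso
    haveI : Nontrivial ↥(T : Subgroup G) := by
      apply (Finite.one_lt_card_iff_nontrivial).mp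
      omega
    haveI := IsPGroup.center_nontrivial (G := ↥(T : Subgroup G)) T.isPGroup'
    obtain ⟨z, hz⟩ := exists_ne (1 : ↥(Subgroup.center ↥(T : Subgroup G)))
    have hzZ : ((z : ↥(T : Subgroup G)) : G) ∈ Z := by
      rw [hZdef, Subgroup.mem_inf]
      refine ⟨(z : ↥(T : Subgroup G)).2, ?_⟩
      rw [Subgroup.mem_centralizer_iff]
      intro t ht
      have h1 := (Subgroup.mem_center_iff.mp z.2) ⟨t, ht⟩
      have := congrArg Subtype.val h1
      simpa using this
    have hz1 : ((z : ↥(T : Subgroup G)) : G) ≠ 1 := by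
      intro h
      apply hz
      apply Subtype.ext
      apply Subtype.ext
      simpa using h
    obtain ⟨z', hz'⟩ : ∃ z' : G, z' = ((z : ↥(T : Subgroup G)) : G) := ⟨_, rfl⟩
    rw [← hz'] at hzZ hz1
    have hZcard : Nat.card Z = 2 := by
      have h1 : Nat.card Z ∣ 4 := by rw [← hc4]; exact Subgroup.card_dvd_of_le hZQ
      have h2 : Nat.card Z ≠ 1 := by
        intro h
        have := Subgroup.card_eq_one.mp h
        rw [this, Subgroup.mem_bot] at hzZ
        exact hz1 hzZ
      have h3 : Nat.card Z ≠ 4 := by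
        intro h
        have hZeq : Z = Q := Subgroup.eq_of_le_of_card_ge hZQ (by rw [h, hc4])
        have hTQ : (T : Subgroup G) ≤ Q := by
          intro t ht
          apply hCQ
          rw [Subgroup.mem_centralizer_iff]
          intro y hy
          have hyZ : y ∈ Z := by rw [hZeq]; exact hy
          rw [hZdef, Subgroup.mem_inf, Subgroup.mem_centralizer_iff] at hyZ
          exact (hyZ.2 t ht).symm
        have := Subgroup.card_le_of_le hTQ
        omega
      have h4 : Nat.card Z ≤ 4 := Nat.le_of_dvd (by norm_num) h1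
      have h5 : Nat.card Z ≠ 0 := Nat.card_pos.ne'
      interval_cases h6 : Nat.card Z <;> omega
    have hconj : x * z' * x⁻¹ ∈ Z := hZn.conj_mem z' hzZ x
    have hconj1 : x * z' * x⁻¹ ≠ 1 := by
      intro h
      apply hz1
      have : z' = x⁻¹ * (x * z' * x⁻¹) * x := by group
      rw [this, h]; group
    obtain ⟨w, -, hw⟩ := (Nat.card_eq_two_iff' (1 : ↥Z)).mp hZcard
    have h1 : (⟨z', hzZ⟩ : ↥Z) = w := hw _ (fun h => hz1 (by simpa using congrArg Subtype.val h))
    have h2 : (⟨x * z' * x⁻¹, hconj⟩ : ↥Z) = w :=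
      hw _ (fun h => hconj1 (by simpa using congrArg Subtype.val h))
    have h3 : x * z' * x⁻¹ = z' := by
      have := congrArg Subtype.val (h2.trans h1.symm)
      simpa using this
    apply hfpf ⟨z', hZQ hzZ⟩
    · intro h
      exact hz1 (by simpa using congrArg Subtype.val h)
    · apply Subtype.ext
      rw [hαapp]
      exact h3
  · -- the quaternion case
    obtain ⟨e⟩ := he
    have hQcard : Nat.card Q = 8 := by
      rw [Nat.card_congr e.toEquiv, Nat.card_eq_fintype_card, QuaternionGroup.card]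
    -- p = 3
    have hp3 : p = 3 := by
      have h1 := Cfsg.Agent.Lib.Helper9.AutIndex.card_subgroup_mulAut_q8_dvd
        (Subgroup.zpowers (MulAut.congr e α))
      rw [Nat.card_zpowers, MulEquiv.orderOf_eq, hαord] at h1
      have h2 : p ∣ 2 ^ 3 * 3 := by norm_num; exact h1
      rcases (Nat.Prime.dvd_mul hp).mp h2 with h3 | h3
      · exact absurd h3 (hpow2 3)
      · exact (Nat.prime_dvd_prime_iff_eq hp Nat.prime_three).mp h3
    subst hp3
    -- the order of G divides 48
    have hCcard : Nat.card (Subgroup.centralizer (Q : Set G)) = 2 := by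
      have h1 := Cfsg.Agent.Lib.Helper9.AutIndex.relIndex_centralizer_self_of_quaternion Q e
      have h2 := card_mul_relIndex_of_le hCQ
      rw [h1, hQcard] at h2
      omega
    have hG48 : Nat.card G ∣ 2 * 24 := by
      have h1 := Cfsg.Agent.Lib.Helper9.AutIndex.relIndex_dvd_of_quaternion Q e
      rw [Subgroup.normalizer_eq_top, Subgroup.relIndex_top_right] at h1
      have h2 := (Subgroup.centralizer (Q : Set G)).card_mul_index
      rw [hCcard] at h2
      rw [← h2]
      exact Nat.mul_dvd_mul_left 2 h1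
    obtain ⟨P, hPdef⟩ : ∃ P : Subgroup G, P = Subgroup.zpowers x := ⟨_, rfl⟩
    have hPcard : Nat.card P = 3 := by rw [hPdef, Nat.card_zpowers, hx]
    obtain ⟨U, hUdef⟩ : ∃ U : Subgroup G, U = Q ⊔ P := ⟨_, rfl⟩
    have hQU : Q ≤ U := by rw [hUdef]; exact le_sup_left
    have hPU : P ≤ U := by rw [hUdef]; exact le_sup_right
    have hUcard : Nat.card U = 24 := by
      have h1 : Nat.card U ∣ Nat.card P * Nat.card Q := by
        rw [hUdef, sup_comm]; exact card_sup_dvd_of_normal P Q
      rw [hPcard, hQcard] at h1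
      have h2 : 8 ∣ Nat.card U := hQcard ▸ Subgroup.card_dvd_of_le hQU
      have h3 : 3 ∣ Nat.card U := hPcard ▸ Subgroup.card_dvd_of_le hPU
      have h4 : 8 * 3 ∣ Nat.card U :=
        Nat.Coprime.mul_dvd_of_dvd_of_dvd (by norm_num) h2 h3
      exact Nat.dvd_antisymm (by norm_num at h1; exact h1) (by norm_num at h4; exact h4)
    have hUn : U.Normal := by
      have h1 := U.card_mul_index
      rw [hUcard] at h1
      have h2 : 24 * U.index ∣ 24 * 2 := by rw [h1, mul_comm 24 2]; exact hG48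
      have h3 : U.index ∣ 2 := (Nat.mul_dvd_mul_iff_left (by norm_num)).mp h2
      rcases (Nat.dvd_prime Nat.prime_two).mp h3 with h4 | h4
      · rw [Subgroup.index_eq_one.mp h4]; infer_instance
      · exact Subgroup.normal_of_index_eq_two h4
    refine ⟨U, hUn, ?_⟩
    haveI hNn : (Q.subgroupOf U).Normal := hQn.subgroupOf U
    have e' : ↥(Q.subgroupOf U) ≃* QuaternionGroup 2 := (Subgroup.subgroupOfEquivOfLe hQU).trans e
    have hCc : Nat.card (P.subgroupOf U) = 3 := by
      rw [Nat.card_congr (Subgroup.subgroupOfEquivOfLe hPU).toEquiv, hPcard]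
    have hsup : Q.subgroupOf U ⊔ P.subgroupOf U = ⊤ := by
      rw [← Subgroup.subgroupOf_sup hQU hPU, ← hUdef, Subgroup.subgroupOf_self]
    apply Cfsg.Agent.Lib.Helper23.SL23Recog.nonempty_mulEquiv_SL23 (Q.subgroupOf U)
      (P.subgroupOf U) e' hCc hsup
    intro hcen
    apply hα1
    have hxP : x ∈ P := by rw [hPdef]; exact Subgroup.mem_zpowers x
    have hxc := hcen (show (⟨x, hPU hxP⟩ : U) ∈ P.subgroupOf U from
      Subgroup.mem_subgroupOf.mpr hxP)
    rw [Subgroup.mem_centralizer_iff] at hxc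
    apply MulEquiv.ext
    intro y
    apply Subtype.ext
    rw [hαapp, MulAut.one_apply]
    have h1 := hxc ⟨(y : G), hQU y.2⟩ (Subgroup.mem_subgroupOf.mpr y.2)
    have h2 : (y : G) * x = x * y := by
      have := congrArg Subtype.val h1
      simpa using this
    calc x * ↑y * x⁻¹ = (↑y * x) * x⁻¹ := by rw [h2]
      _ = ↑y := by group

end Cfsg.Agent.S2879
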