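import Cfsg.Statements.S2881
import Cfsg.Agent.Lib.Helper17.Extraspecial2

set_option autoImplicit false
open Cfsg

namespace Cfsg.Agent.S2881

theorem four_dvd_of_five_dvd (m : ℕ) (h : 5 ∣ 2 ^ (2 * m) - 2 ^ m) : 4 ∣ m := by
  have e1 : 2 ^ (2 * m) - 2 ^ m = 2 ^ m * (2 ^ m - 1) := by
    rw [Nat.mul_sub, mul_one, ← pow_add, two_mul]
  rw [e1] at h
  have hcop : Nat.Coprime 5 (2 ^ m) := Nat.Coprime.pow_right m (by norm_num)
  have h2 : 5 ∣ 2 ^ m - 1 := hcop.dvd_of_dvd_mul_left h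
  have hpos : 1 ≤ 2 ^ m := Nat.one_le_two_pow
  have h3 : 2 ^ m % 5 = 1 := by omega
  have h4 : 2 ^ m % 5 = 2 ^ (m % 4) % 5 := by
    conv_lhs => rw [← Nat.div_add_mod m 4, pow_add, pow_mul, Nat.mul_mod, Nat.pow_mod]
    norm_num
  rw [h4] at h3
  have h5 : m % 4 < 4 := Nat.mod_lt _ (by norm_num)
  have h6 : m % 4 = 0 := by
    interval_cases (m % 4) <;> simp_all
  exact Nat.dvd_of_mod_eq_zero h6

/-- Let E be an extraspecial 2-group of order 2^(2m+1) of plus type (containing an elementary abelian subgroup of order 2^(m+1)), and let ω be an automorphism of E of order 5 whose fixed points are exactly the centre of E. Then m is divisible by 4. -/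
theorem result {E : Type*} [Group E] [Finite E] (m : ℕ) (hm : 1 ≤ m) (hE : Cfsg.IsExtraspecial 2 E) (hcard : Nat.card E = 2 ^ (2 * m + 1)) (hplus : ∃ A : Subgroup E, Cfsg.IsElementaryAbelian 2 A ∧ Nat.card A = 2 ^ (m + 1)) (ω : E ≃* E) (hω : orderOf ω = 5) (hfix : ∀ x : E, ω x = x ↔ x ∈ Subgroup.center E) : 4 ∣ m := by
  classical
  haveI : Fact (Nat.Prime 5) := ⟨by norm_num⟩
  haveI := Fintype.ofFinite E
  have hcount := Cfsg.Agent.Lib.Helper17.card_orderOf_four_of_extraspecial m hE hcard hplus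
  let f : Function.End {x : E // orderOf x = 4} :=
    fun x => ⟨ω x.1, by rw [MulEquiv.orderOf_eq]; exact x.2⟩
  have hfk : ∀ (k : ℕ) (x : {x : E // orderOf x = 4}), ((f ^ k) x).1 = (ω ^ k) x.1 := by
    intro k
    induction k with
    | zero => intro x; rfl
    | succ k ih =>
      intro x
      rw [pow_succ', pow_succ']
      show ω ((f ^ k) x).1 = ω ((ω ^ k) x.1)
      rw [ih x]
  have hf5 : f ^ 5 ^ 1 = 1 := by
    funext x
    apply Subtype.ext
    rw [pow_one, hfk 5 x, ← hω, pow_orderOf_eq_one]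
    rfl
  have hmod := Equiv.Perm.card_fixedPoints_modEq hf5
  have hfix0 : Fintype.card (Function.fixedPoints f) = 0 := by
    rw [Fintype.card_eq_zero_iff]
    refine ⟨fun ⟨x, hx⟩ => ?_⟩
    have h1 : ω x.1 = x.1 := congrArg Subtype.val hx
    have h2 : x.1 ∈ Subgroup.center E := (hfix x.1).mp h1
    have h3 : (⟨x.1, h2⟩ : Subgroup.center E) ^ Nat.card (Subgroup.center E) = 1 := pow_card_eq_one'
    rw [hE.2] at h3
    have h4 : x.1 ^ 2 = 1 := congrArg Subtype.val h3
    have h5 : orderOf x.1 ∣ 2 := orderOf_dvd_of_pow_eq_one h4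
    rw [x.2] at h5
    omega
  rw [hfix0, ← Nat.card_eq_fintype_card, hcount] at hmod
  exact four_dvd_of_five_dvd m ((Nat.modEq_zero_iff_dvd).mp hmod)

end Cfsg.Agent.S2881
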