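import Cfsg.Statements.S2896
import Cfsg.Agent.Lib.Helper17.CharPGfs
import Cfsg.Agent.Lib.Helper17.QuotientP
import Cfsg.Agent.Lib.Helper17.StrongPEmb
import Cfsg.Agent.Lib.Helper17.Commutator
import Cfsg.Agent.Lib.Helper16.PReduced3

set_option autoImplicit false
open Cfsg

namespace Cfsg.Agent.S2896

open Cfsg.Agent.Lib.Helper17 Cfsg.Agent.Lib.Helper9

/-- `C_G(z)` is normal in `N_G(⟨z⟩)`. -/
theorem normal_centralizer_subgroupOf {G : Type*} [Group G] (z : G) :
    ((Subgroup.centralizer ({z} : Set G)).subgroupOf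
      (Subgroup.normalizer ((Subgroup.zpowers z : Subgroup G) : Set G))).Normal := by
  rw [Subgroup.normal_subgroupOf_iff (centralizer_le_normalizer_zpowers' z)]
  intro h k hh hk
  rw [Subgroup.mem_centralizer_singleton_iff] at hh ⊢
  have hkinv := Subgroup.inv_mem _ hk
  have hw : k⁻¹ * z * k⁻¹⁻¹ ∈ Subgroup.zpowers z :=
    (Subgroup.mem_normalizer_iff.mp hkinv z).mp (Subgroup.mem_zpowers z)
  obtain ⟨j, hj⟩ := Subgroup.mem_zpowers_iff.mp hw
  have hc : Commute h (k⁻¹ * z * k⁻¹⁻¹) := by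
    rw [← hj]
    exact (show Commute h z from hh).zpow_right j
  have hc' := hc.eq
  calc k * h * k⁻¹ * z = k * (h * (k⁻¹ * z * k⁻¹⁻¹)) * k⁻¹ := by group
    _ = k * ((k⁻¹ * z * k⁻¹⁻¹) * h) * k⁻¹ := by rw [hc']
    _ = z * (k * h * k⁻¹) := by group

/-- Let p be a prime dividing the order of the finite group G, S a Sylow p-subgroup of G and X a subgroup of S. (i) If some nontrivial element z of the centre of X has F*(C_G(z)) = O_p(C_G(z)), then F*(N_G(X)) = O_p(N_G(X)). (ii) G has parabolic characteristic p if and only if F*(C_G(z)) = O_p(C_G(z)) for every nontrivial z ∈ Ω₁(Z(S)). (iii) If F*(C_G(z)) = O_p(C_G(z)) for every element z of S of order p, then G has local characteristic p. -/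
theorem result {G : Type*} [Group G] [Finite G] {p : ℕ} [Fact p.Prime] (hdiv : p ∣ Nat.card G) (S : Sylow p G) (X : Subgroup G) (hX : X ≤ (S : Subgroup G)) : (∀ z : G, z ≠ 1 → z ∈ X → (∀ x ∈ X, x * z = z * x) → Cfsg.generalizedFittingSubgroup ↥(Subgroup.centralizer ({z} : Set G)) = Cfsg.pCore p ↥(Subgroup.centralizer ({z} : Set G)) → Cfsg.generalizedFittingSubgroup ↥(Subgroup.normalizer (X : Set G)) = Cfsg.pCore p ↥(Subgroup.normalizer (X : Set G))) ∧ (Cfsg.IsOfParabolicCharacteristic p G ↔ ∀ z : G, z ≠ 1 → z ∈ Cfsg.omegaOne p ((S : Subgroup G) ⊓ Subgroup.centralizer ((S : Subgroup G) : Set G)) → Cfsg.generalizedFittingSubgroup ↥(Subgroup.centralizer ({z} : Set G)) = Cfsg.pCore p ↥(Subgroup.centralizer ({z} : Set G))) ∧ ((∀ z : G, z ∈ (S : Subgroup G) → orderOf z = p → Cfsg.generalizedFittingSubgroup ↥(Subgroup.centralizer ({z} : Set G)) = Cfsg.pCore p ↥(Subgroup.centralizer ({z} : Set G))) → Cfsg.IsOfLocalCharacteristic p G) := by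
  have hp : p.Prime := Fact.out
  refine ⟨?_, ⟨?_, ?_⟩, ?_⟩
  · -- (i)
    intro z _ hzX hzc hgfs
    apply gfs_eq_pCore_of_isPGroup
    exact isPGroup_gfs_normalizer_of_centralizer (S.2.to_le hX) hzX hzc
      (isPGroup_gfs_of_eq_pCore hgfs)
  · -- (ii) ⇒
    intro hG z hz1 hzΩ
    have hcomm : ∀ a ∈ (S : Subgroup G) ⊓ Subgroup.centralizer ((S : Subgroup G) : Set G),
        ∀ b ∈ (S : Subgroup G) ⊓ Subgroup.centralizer ((S : Subgroup G) : Set G), a * b = b * a := by
      intro a ha b hb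
      exact (Subgroup.mem_centralizer_iff.mp hb.2) a ha.1
    have hzp : z ^ p = 1 := Cfsg.Agent.Lib.Helper16.omegaOne_pow_eq_one _ hcomm z hzΩ
    have hzZ : z ∈ (S : Subgroup G) ⊓ Subgroup.centralizer ((S : Subgroup G) : Set G) := by
      have : Cfsg.omegaOne p ((S : Subgroup G) ⊓ Subgroup.centralizer ((S : Subgroup G) : Set G)) ≤
          (S : Subgroup G) ⊓ Subgroup.centralizer ((S : Subgroup G) : Set G) := by
        unfold Cfsg.omegaOne
        rw [Subgroup.closure_le]
        intro x hx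
        exact hx.1
      exact this hzΩ
    set R : Subgroup G := Subgroup.zpowers z with hR
    have hRp : IsPGroup p R := isPGroup_zpowers_of_isPElt ⟨1, by rw [pow_one]; exact hzp⟩
    have hR1 : R ≠ ⊥ := by
      rw [hR, Ne, Subgroup.zpowers_eq_bot]; exact hz1
    have hSN : (S : Subgroup G) ≤ Subgroup.normalizer (R : Set G) := by
      intro s hs
      apply centralizer_le_normalizer_zpowers' z
      rw [Subgroup.mem_centralizer_singleton_iff]
      exact (Subgroup.mem_centralizer_iff.mp hzZ.2) s hs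
    have h1 := hG R hRp hR1 ⟨S, hSN⟩
    rw [← isPGroup_gfs_iff_centralizer_pCore_le] at h1
    apply gfs_eq_pCore_of_isPGroup
    exact isPGroup_gfs_of_normal_le (centralizer_le_normalizer_zpowers' z)
      (normal_centralizer_subgroupOf z) h1
  · -- (ii) ⇐
    intro h R hR hR1 hpar
    obtain ⟨T, hT⟩ := hpar
    rw [← isPGroup_gfs_iff_centralizer_pCore_le]
    have hRT : R ≤ (T : Subgroup G) := by
      have h1 : IsPGroup p (R ⊔ (T : Subgroup G) : Subgroup G) :=
        IsPGroup.to_sup_of_normal_left' hR T.2 hT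
      have h2 := T.is_maximal' h1 le_sup_right
      rw [← h2]
      exact le_sup_left
    obtain ⟨z, hzR, hzo, hzc⟩ := exists_central_order_p T.2 hRT hT hR1
    obtain ⟨g, hg⟩ := MulAction.exists_smul_eq G S T
    have hz1 : z ≠ 1 := by
      rintro rfl
      rw [orderOf_one] at hzo
      exact hp.one_lt.ne hzo
    have hzT : z ∈ ((g • S : Sylow p G) : Subgroup G) := by rw [hg]; exact hRT hzR
    have hz'S : g⁻¹ * z * g ∈ (S : Subgroup G) := mem_smul_sylow.mp hzT
    have hz'c : g⁻¹ * z * g ∈ Subgroup.centralizer ((S : Subgroup G) : Set G) := by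
      rw [Subgroup.mem_centralizer_iff]
      intro s hs
      have hsT : g * s * g⁻¹ ∈ (T : Subgroup G) := by
        rw [← hg, mem_smul_sylow]
        have : g⁻¹ * (g * s * g⁻¹) * g = s := by group
        rw [this]; exact hs
      have h1 := hzc _ hsT
      calc s * (g⁻¹ * z * g) = g⁻¹ * ((g * s * g⁻¹) * z) * g := by group
        _ = g⁻¹ * (z * (g * s * g⁻¹)) * g := by rw [h1]
        _ = g⁻¹ * z * g * s := by group
    have hz'p : (g⁻¹ * z * g) ^ p = 1 := by
      have h1 : z ^ p = 1 := by rw [← hzo]; exact pow_orderOf_eq_one z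
      have h2 : g⁻¹ * z * g = g⁻¹ * z * g⁻¹⁻¹ := by rw [inv_inv]
      rw [h2, conj_pow, h1]; group
    have hz'1 : g⁻¹ * z * g ≠ 1 := by
      intro h1
      apply hz1
      calc z = g * (g⁻¹ * z * g) * g⁻¹ := by group
        _ = 1 := by rw [h1]; group
    have hz'Ω : g⁻¹ * z * g ∈ Cfsg.omegaOne p ((S : Subgroup G) ⊓
        Subgroup.centralizer ((S : Subgroup G) : Set G)) :=
      Subgroup.subset_closure ⟨⟨hz'S, hz'c⟩, hz'p⟩
    have h1 := isPGroup_gfs_of_eq_pCore (h _ hz'1 hz'Ω)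
    have h2 := isPGroup_gfs_centralizer_conj g _ h1
    have e : g * (g⁻¹ * z * g) * g⁻¹ = z := by group
    rw [e] at h2
    exact isPGroup_gfs_normalizer_of_centralizer hR hzR (fun x hx => hzc x (hRT hx)) h2
  · -- (iii)
    intro h
    refine ⟨hdiv, ?_⟩
    intro T hT hT1
    rw [← isPGroup_gfs_iff_centralizer_pCore_le]
    obtain ⟨z, hzT, hzo, hzc⟩ := exists_central_order_p hT le_rfl Subgroup.le_normalizer hT1
    obtain ⟨d, _, hd⟩ := exists_conj_le_sylow_of_le hT (le_top : T ≤ ⊤) S le_top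
    have hz'S : d * z * d⁻¹ ∈ (S : Subgroup G) := hd (conj_mem_map_conj hzT)
    have hz'o : orderOf (d * z * d⁻¹) = p := by
      rw [← hzo]
      exact (MulAut.conj d).orderOf_eq z
    have h1 := isPGroup_gfs_of_eq_pCore (h _ hz'S hz'o)
    have h2 := isPGroup_gfs_centralizer_conj d⁻¹ _ h1
    have e : d⁻¹ * (d * z * d⁻¹) * d⁻¹⁻¹ = z := by group
    rw [e] at h2
    exact isPGroup_gfs_normalizer_of_centralizer hT hzT hzc h2

end Cfsg.Agent.S2896
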