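import Cfsg.Statements.S2897
import Cfsg.Agent.S2896
import Cfsg.Agent.Lib.Helper16.SylowInf
import Cfsg.Agent.Lib.Helper17.YL2

set_option autoImplicit false
open Cfsg

namespace Cfsg.Agent.S2897

open Cfsg.Agent.Lib.Helper17 Cfsg.Agent.Lib.Helper9 Cfsg.Agent.Lib.Helper16

theorem map_centralizer_singleton {G : Type*} [Group G] (G₁ : Subgroup G) (z₁ : ↥G₁) :
    (Subgroup.centralizer ({z₁} : Set ↥G₁)).map G₁.subtype =
      Subgroup.centralizer ({(z₁ : G)} : Set G) ⊓ G₁ := by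
  ext x
  constructor
  · rintro ⟨c, hc, rfl⟩
    refine ⟨?_, c.2⟩
    have hc' : c ∈ Subgroup.centralizer ({z₁} : Set ↥G₁) := hc
    rw [Subgroup.mem_centralizer_singleton_iff] at hc'
    have h0 : ((c : G)) ∈ Subgroup.centralizer ({(z₁ : G)} : Set G) := by
      rw [Subgroup.mem_centralizer_singleton_iff]
      exact congrArg Subtype.val hc'
    exact h0
  · rintro ⟨hx1, hx2⟩
    have hx1' : x ∈ Subgroup.centralizer ({(z₁ : G)} : Set G) := hx1
    rw [Subgroup.mem_centralizer_singleton_iff] at hx1'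
    refine ⟨⟨x, hx2⟩, ?_, rfl⟩
    have h0 : (⟨x, hx2⟩ : ↥G₁) ∈ Subgroup.centralizer ({z₁} : Set ↥G₁) := by
      rw [Subgroup.mem_centralizer_singleton_iff]
      exact Subtype.ext hx1'
    exact h0

/-- Let p be a prime dividing the order of the finite group G, suppose G has parabolic characteristic p, let S be a Sylow p-subgroup of G and G₁ a normal subgroup of G. If Ω₁(Z(S ∩ G₁)) is nontrivial and contained in Ω₁(Z(S)), then G₁ has parabolic characteristic p. -/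
theorem result {G : Type*} [Group G] [Finite G] {p : ℕ} [Fact p.Prime] (hdiv : p ∣ Nat.card G) (hG : Cfsg.IsOfParabolicCharacteristic p G) (S : Sylow p G) (G₁ : Subgroup G) [G₁.Normal] (hne : Cfsg.omegaOne p (((S : Subgroup G) ⊓ G₁) ⊓ Subgroup.centralizer (((S : Subgroup G) ⊓ G₁ : Subgroup G) : Set G)) ≠ ⊥) (hle : Cfsg.omegaOne p (((S : Subgroup G) ⊓ G₁) ⊓ Subgroup.centralizer (((S : Subgroup G) ⊓ G₁ : Subgroup G) : Set G)) ≤ Cfsg.omegaOne p ((S : Subgroup G) ⊓ Subgroup.centralizer ((S : Subgroup G) : Set G))) : Cfsg.IsOfParabolicCharacteristic p ↥G₁ := by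
  set S₁ : Sylow p ↥G₁ := sylowInf S G₁ with hS₁def
  have hS₁ : (S₁ : Subgroup ↥G₁).map G₁.subtype = (S : Subgroup G) ⊓ G₁ := map_sylowInf S G₁
  -- p divides |G₁|
  have hdiv₁ : p ∣ Nat.card ↥G₁ := by
    have hA : ((S : Subgroup G) ⊓ G₁) ≠ ⊥ := by
      intro h
      apply hne
      rw [eq_bot_iff]
      unfold Cfsg.omegaOne
      rw [Subgroup.closure_le]
      intro x hx
      have : x ∈ (S : Subgroup G) ⊓ G₁ := hx.1.1
      rw [h] at this
      exact this
    have hAp : IsPGroup p ↥((S : Subgroup G) ⊓ G₁ : Subgroup G) := S.2.to_le inf_le_left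
    have h1 : p ∣ Nat.card ↥((S : Subgroup G) ⊓ G₁ : Subgroup G) := by
      rcases hAp.card_eq_or_dvd with h | h
      · exact absurd (Subgroup.card_eq_one.mp h) hA
      · exact h
    exact h1.trans (Subgroup.card_dvd_of_le inf_le_right)
  have key := (Cfsg.Agent.S2896.result hdiv₁ S₁ ⊥ bot_le).2.1
  rw [key]
  intro z₁ hz₁1 hz₁Ω
  have hmapΩ : (Cfsg.omegaOne p ((S₁ : Subgroup ↥G₁) ⊓
      Subgroup.centralizer ((S₁ : Subgroup ↥G₁) : Set ↥G₁))).map G₁.subtype =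
      Cfsg.omegaOne p (((S : Subgroup G) ⊓ G₁) ⊓
        Subgroup.centralizer (((S : Subgroup G) ⊓ G₁ : Subgroup G) : Set G)) := by
    rw [map_omegaOne, map_inf_centralizer, hS₁]
  have hzΩ' : (z₁ : G) ∈ Cfsg.omegaOne p (((S : Subgroup G) ⊓ G₁) ⊓
        Subgroup.centralizer (((S : Subgroup G) ⊓ G₁ : Subgroup G) : Set G)) := by
    rw [← hmapΩ]
    exact ⟨z₁, hz₁Ω, rfl⟩
  have hzΩ := hle hzΩ'
  have hz1 : (z₁ : G) ≠ 1 := fun h => hz₁1 (Subtype.ext h)
  have h1 := ((Cfsg.Agent.S2896.result hdiv S ⊥ bot_le).2.1.mp hG) (z₁ : G) hz1 hzΩ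
  have h2 := isPGroup_gfs_of_eq_pCore h1
  have hn : ((Subgroup.centralizer ({(z₁ : G)} : Set G) ⊓ G₁).subgroupOf
      (Subgroup.centralizer ({(z₁ : G)} : Set G))).Normal := by
    rw [Subgroup.inf_subgroupOf_left]
    infer_instance
  have h3 : IsPGroup p ↥(Cfsg.generalizedFittingSubgroup
      ↥(Subgroup.centralizer ({(z₁ : G)} : Set G) ⊓ G₁ : Subgroup G)) :=
    isPGroup_gfs_of_normal_le inf_le_left hn h2
  apply gfs_eq_pCore_of_isPGroup
  have e1 : ↥(Subgroup.centralizer ({z₁} : Set ↥G₁)) ≃*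
      ↥((Subgroup.centralizer ({z₁} : Set ↥G₁)).map G₁.subtype) :=
    (Subgroup.centralizer ({z₁} : Set ↥G₁)).equivMapOfInjective G₁.subtype
      (Subgroup.subtype_injective _)
  have e2 : ↥((Subgroup.centralizer ({z₁} : Set ↥G₁)).map G₁.subtype) ≃*
      ↥(Subgroup.centralizer ({(z₁ : G)} : Set G) ⊓ G₁ : Subgroup G) :=
    MulEquiv.subgroupCongr (map_centralizer_singleton G₁ z₁)
  exact isPGroup_gfs_of_mulEquiv (e1.trans e2).symm h3

end Cfsg.Agent.S2897
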