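import Cfsg.Statements.S2898
import Cfsg.Agent.S2896
import Cfsg.Agent.Lib.Helper1.FpfComplement
import Cfsg.Agent.Lib.Helper16.SylowInf

set_option autoImplicit false
open Cfsg

namespace Cfsg.Agent.S2898

open Cfsg.Agent.Lib.Helper17 Cfsg.Agent.Lib.Helper16

/-- In a group of characteristic `p`, normal `p'`-subgroups are trivial. -/
theorem normal_pprime_eq_bot {H : Type*} [Group H] [Finite H] {p : ℕ} [Fact p.Prime]
    (hchar : Subgroup.centralizer (pCore p H : Set H) ≤ pCore p H) (W : Subgroup H) [W.Normal]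
    (hW : (Nat.card W).Coprime p) : W = ⊥ := by
  haveI : (pCore p H).Normal := Cfsg.Agent.Lib.Helper1.pCore_normal p
  have hinf : W ⊓ pCore p H = ⊥ := by
    rw [← disjoint_iff]
    apply Subgroup.disjoint_of_coprime_natCard
    obtain ⟨n, hn⟩ := IsPGroup.iff_card.mp (Cfsg.Agent.Lib.Helper1.pCore_isPGroup (G := H) p)
    rw [hn]
    exact Nat.Coprime.pow_right n hW
  have hcomm : ⁅W, pCore p H⁆ = ⊥ := by
    rw [eq_bot_iff, ← hinf]
    exact Subgroup.commutator_le_inf W (pCore p H)
  have h1 : W ≤ Subgroup.centralizer (pCore p H : Set H) :=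
    Subgroup.commutator_eq_bot_iff_le_centralizer.mp hcomm
  rw [eq_bot_iff, ← hinf]
  exact le_inf le_rfl (h1.trans hchar)

theorem eq_bot_of_normalized_pprime {G : Type*} [Group G] [Finite G] {p : ℕ} [Fact p.Prime]
    (N W : Subgroup G)
    (hchar : Subgroup.centralizer (pCore p ↥N : Set ↥N) ≤ pCore p ↥N) (hWN : W ≤ N)
    (hnorm : N ≤ Subgroup.normalizer (W : Set G)) (hW : (Nat.card W).Coprime p) : W = ⊥ := by
  haveI : (W.subgroupOf N).Normal := (Subgroup.normal_subgroupOf_iff_le_normalizer hWN).mpr hnorm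
  have hcard : Nat.card (W.subgroupOf N) = Nat.card W :=
    Nat.card_congr (Subgroup.subgroupOfEquivOfLe hWN).toEquiv
  have h1 := normal_pprime_eq_bot hchar (W.subgroupOf N) (by rw [hcard]; exact hW)
  rw [Subgroup.subgroupOf_eq_bot, disjoint_iff, inf_of_le_left hWN] at h1
  exact h1

/-- Let G be a finite group of even order with parabolic characteristic 2. If the centre of G ⧸ O(G) is trivial, then O(G) = 1. -/
theorem result {G : Type*} [Group G] [Finite G] (h2 : 2 ∣ Nat.card G) (hG : Cfsg.IsOfParabolicCharacteristic 2 G) [hN : (Cfsg.oddCore G).Normal] (hZ : Subgroup.center (G ⧸ Cfsg.oddCore G) = ⊥) : Cfsg.oddCore G = ⊥ := by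
  haveI : Fact (Nat.Prime 2) := ⟨Nat.prime_two⟩
  set K : Subgroup G := Cfsg.oddCore G with hK
  have hKodd : (Nat.card K).Coprime 2 := Cfsg.Agent.Lib.Helper1.pPrimeCore_coprime 2
  have S : Sylow 2 G := default
  have hS1 : (S : Subgroup G) ≠ ⊥ := sylow_ne_bot_of_dvd h2 S
  obtain ⟨z, hzS, hzo, hzc⟩ := exists_central_order_p S.2 le_rfl Subgroup.le_normalizer hS1
  have hz2 : z * z = 1 := by rw [← pow_two, ← hzo]; exact pow_orderOf_eq_one z
  have hz1 : z ≠ 1 := by
    rintro rfl
    rw [orderOf_one] at hzo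
    omega
  set R : Subgroup G := Subgroup.zpowers z with hR
  have hRp : IsPGroup 2 R :=
    isPGroup_zpowers_of_isPElt ⟨1, by rw [pow_one, pow_two]; exact hz2⟩
  have hR1 : R ≠ ⊥ := by
    rw [hR, Ne, Subgroup.zpowers_eq_bot]; exact hz1
  have hSR : (S : Subgroup G) ≤ Subgroup.normalizer (R : Set G) := by
    intro s hs
    apply centralizer_le_normalizer_zpowers' z
    rw [Subgroup.mem_centralizer_singleton_iff]
    exact hzc s hs
  have hcharR := hG R hRp hR1 ⟨S, hSR⟩
  -- C_K(z) = 1
  have hCK : K ⊓ Subgroup.centralizer ({z} : Set G) = ⊥ := by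
    apply eq_bot_of_normalized_pprime (Subgroup.normalizer (R : Set G)) _ hcharR
    · exact inf_le_right.trans (centralizer_le_normalizer_zpowers' z)
    · intro n hn
      apply mem_normalizer_inf
      · rw [Subgroup.normalizer_eq_top]; exact Subgroup.mem_top n
      · exact (Subgroup.normal_subgroupOf_iff_le_normalizer
          (centralizer_le_normalizer_zpowers' z)).mp
          (Cfsg.Agent.S2896.normal_centralizer_subgroupOf z) hn
    · exact Nat.Coprime.coprime_dvd_left (Subgroup.card_dvd_of_le inf_le_left) hKodd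
  have hinv : ∀ k ∈ K, z * k * z⁻¹ = k⁻¹ :=
    Cfsg.Agent.Lib.Helper1.involution_inverts_of_fpf K z hz2 hCK
  set D : Subgroup G := Subgroup.centralizer (K : Set G) with hD
  haveI hDn : D.Normal := Subgroup.normal_centralizer
  by_cases hT : (S : Subgroup G) ⊓ D = ⊥
  · -- D has odd order
    have hDodd : (Nat.card D).Coprime 2 := by
      have h1 : ((sylowInf S D : Sylow 2 D) : Subgroup D).map D.subtype = ⊥ := by
        rw [map_sylowInf, hT]
      have h2' : ((sylowInf S D : Sylow 2 D) : Subgroup D) = ⊥ := by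
        rw [← Subgroup.map_eq_bot_iff_of_injective _ (Subgroup.subtype_injective D)]
        exact h1
      have h3 := (sylowInf S D : Sylow 2 D).not_dvd_index
      rw [h2', Subgroup.index_bot] at h3
      exact (Nat.Prime.coprime_iff_not_dvd Nat.prime_two).mpr h3 |>.symm
    have hDK : D ≤ K := Cfsg.Agent.Lib.Helper1.le_pPrimeCore hDn hDodd
    have hzinv : z⁻¹ = z := inv_eq_of_mul_eq_one_left hz2
    have hzZ : ((z : G) : G ⧸ K) ∈ Subgroup.center (G ⧸ K) := by
      rw [Subgroup.mem_center_iff]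
      intro y
      obtain ⟨g, rfl⟩ := QuotientGroup.mk_surjective y
      rw [← QuotientGroup.mk_mul, ← QuotientGroup.mk_mul, QuotientGroup.eq]
      apply hDK
      rw [hD, Subgroup.mem_centralizer_iff]
      intro k hk
      have hk' : g * k * g⁻¹ ∈ K := hN.conj_mem k hk g
      have ha : (g⁻¹ * z * g) * k * (g⁻¹ * z * g)⁻¹ = k⁻¹ := by
        calc (g⁻¹ * z * g) * k * (g⁻¹ * z * g)⁻¹ = g⁻¹ * (z * (g * k * g⁻¹) * z⁻¹) * g := by group
          _ = g⁻¹ * (g * k * g⁻¹)⁻¹ * g := by rw [hinv _ hk']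
          _ = k⁻¹ := by group
      have hb : z⁻¹ * k⁻¹ * z = k := by
        have := hinv k⁻¹ (K.inv_mem hk)
        rw [inv_inv, hzinv] at this
        rw [hzinv]
        exact this
      have hwk : ((g * z)⁻¹ * (z * g)) * k * ((g * z)⁻¹ * (z * g))⁻¹ = k := by
        calc ((g * z)⁻¹ * (z * g)) * k * ((g * z)⁻¹ * (z * g))⁻¹
            = z⁻¹ * ((g⁻¹ * z * g) * k * (g⁻¹ * z * g)⁻¹) * z := by group
          _ = z⁻¹ * k⁻¹ * z := by rw [ha]
          _ = k := hb
      calc k * ((g * z)⁻¹ * (z * g))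
          = (((g * z)⁻¹ * (z * g)) * k * ((g * z)⁻¹ * (z * g))⁻¹) * ((g * z)⁻¹ * (z * g)) := by
            rw [hwk]
        _ = (g * z)⁻¹ * (z * g) * k := by group
    rw [hZ, Subgroup.mem_bot, QuotientGroup.eq_one_iff] at hzZ
    exfalso
    have h3 : orderOf (⟨z, hzZ⟩ : K) ∣ Nat.card K := orderOf_dvd_natCard _
    rw [Subgroup.orderOf_mk, hzo] at h3
    exact (Nat.Prime.coprime_iff_not_dvd Nat.prime_two).mp hKodd.symm h3
  · have hTp : IsPGroup 2 ↥((S : Subgroup G) ⊓ D : Subgroup G) := S.2.to_le inf_le_left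
    have hST : (S : Subgroup G) ≤ Subgroup.normalizer (((S : Subgroup G) ⊓ D : Subgroup G) : Set G) := by
      intro s hs
      apply mem_normalizer_inf (Subgroup.le_normalizer hs)
      rw [Subgroup.normalizer_eq_top]; exact Subgroup.mem_top s
    have hcharT := hG _ hTp hT ⟨S, hST⟩
    have hKT : K ≤ Subgroup.normalizer (((S : Subgroup G) ⊓ D : Subgroup G) : Set G) := by
      have h1 : ((S : Subgroup G) ⊓ D : Subgroup G) ≤ Subgroup.centralizer (K : Set G) := inf_le_right
      exact (Subgroup.le_centralizer_iff.mp h1).trans (Subgroup.centralizer_le_normalizer _)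
    apply eq_bot_of_normalized_pprime _ K hcharT hKT _ hKodd
    intro n _
    rw [Subgroup.normalizer_eq_top]; exact Subgroup.mem_top n

end Cfsg.Agent.S2898
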