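import Cfsg.Statements.S2907

set_option autoImplicit false
open Cfsg

namespace Cfsg.Agent.S2907

open scoped commutatorElement

/-- Let X be a finite semi-extraspecial p-group and x an element of X outside the centre. Then the index of C_X(x) in X equals the order of Z(X), and the commutators [x, y], y ∈ X, form exactly the centre Z(X). -/
theorem result {X : Type*} [Group X] [Finite X] {p : ℕ} [Fact p.Prime] (hX : Cfsg.IsSemiExtraspecial p X) (x : X) (hx : x ∉ Subgroup.center X) : (Subgroup.centralizer ({x} : Set X)).index = Nat.card ↥(Subgroup.center X) ∧ {z : X | ∃ y : X, z = x * y * x⁻¹ * y⁻¹} = (Subgroup.center X : Set X) := by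
  obtain ⟨⟨hXp, hfr, hcomm⟩, hse⟩ := hX
  -- commutators are central
  have hcz : ∀ y : X, x * y * x⁻¹ * y⁻¹ ∈ Subgroup.center X := by
    intro y
    rw [← hcomm]
    have : x * y * x⁻¹ * y⁻¹ = ⁅x, y⁆ := by rw [commutatorElement_def]
    rw [this]
    exact Subgroup.commutator_mem_commutator (Subgroup.mem_top x) (Subgroup.mem_top y)
  -- the homomorphism y ↦ [x, y]
  let φ : X →* X :=
    { toFun := fun y => x * y * x⁻¹ * y⁻¹
      map_one' := by group
      map_mul' := by
        intro a b
        have hb := hcz b
        rw [Subgroup.mem_center_iff] at hb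
        have e : x * (a * b) * x⁻¹ * (a * b)⁻¹ = x * a * x⁻¹ * ((x * b * x⁻¹ * b⁻¹) * a⁻¹) := by group
        rw [e, ← hb a⁻¹]
        group }
  have hφ : ∀ y, φ y = x * y * x⁻¹ * y⁻¹ := fun y => rfl
  have hker : φ.ker = Subgroup.centralizer ({x} : Set X) := by
    ext y
    rw [MonoidHom.mem_ker, hφ, Subgroup.mem_centralizer_singleton_iff]
    constructor
    · intro h
      have : x * y = (x * y * x⁻¹ * y⁻¹) * (y * x) := by group
      rw [this, h, one_mul]
    · intro h
      have : x * y * x⁻¹ * y⁻¹ = (x * y) * (y * x)⁻¹ := by group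
      rw [this, h]; group
  have hrange_le : φ.range ≤ Subgroup.center X := by
    rintro _ ⟨y, rfl⟩
    exact hcz y
  have hrange : φ.range = Subgroup.center X := by
    by_contra hne
    -- range as a proper subgroup of the center
    have hne' : φ.range.subgroupOf (Subgroup.center X) ≠ ⊤ := by
      intro h
      rw [Subgroup.subgroupOf_eq_top] at h
      exact hne (le_antisymm hrange_le h)
    obtain ⟨Y', hY'co, hY'⟩ := (eq_top_or_exists_le_coatom _).resolve_left hne'
    have hYle : Y'.map (Subgroup.center X).subtype ≤ Subgroup.center X := Subgroup.map_subtype_le _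
    have hYeq : (Y'.map (Subgroup.center X).subtype).subgroupOf (Subgroup.center X) = Y' := by
      ext z
      rw [Subgroup.mem_subgroupOf]
      constructor
      · rintro ⟨w, hw, hwz⟩
        have : w = z := Subtype.ext hwz
        rw [← this]; exact hw
      · intro hz
        exact ⟨z, hz, rfl⟩
    obtain ⟨hYn, ⟨-, -, -⟩, hcard⟩ := hse (Y'.map (Subgroup.center X).subtype) hYle (by rw [hYeq]; exact hY'co)
    -- range ≤ Y
    have hrY : φ.range ≤ Y'.map (Subgroup.center X).subtype := by
      intro z hz
      have hzc := hrange_le hz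
      have : (⟨z, hzc⟩ : Subgroup.center X) ∈ Y' := hY' (by rw [Subgroup.mem_subgroupOf]; exact hz)
      exact ⟨⟨z, hzc⟩, this, rfl⟩
    -- image of center in the quotient
    have hle : (Subgroup.center X).map (QuotientGroup.mk' (Y'.map (Subgroup.center X).subtype))
        ≤ Subgroup.center (X ⧸ Y'.map (Subgroup.center X).subtype) := by
      rintro _ ⟨z, hz, rfl⟩
      rw [Subgroup.mem_center_iff]
      intro g
      induction g using QuotientGroup.induction_on with
      | H g =>
        have hz' : z ∈ Subgroup.center X := hz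
        rw [Subgroup.mem_center_iff] at hz'
        have hz := hz'
        show (QuotientGroup.mk (g * z) : X ⧸ Y'.map (Subgroup.center X).subtype) = QuotientGroup.mk (z * g)
        rw [hz g]
    have hnb : ((Subgroup.center X).map (QuotientGroup.mk' (Y'.map (Subgroup.center X).subtype))).subgroupOf
        (Subgroup.center (X ⧸ Y'.map (Subgroup.center X).subtype)) ≠ ⊥ := by
      intro hbot
      apply hY'co.1
      rw [eq_top_iff]
      intro z _
      have h1 : (QuotientGroup.mk' (Y'.map (Subgroup.center X).subtype)) (z : X) ∈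
          (Subgroup.center X).map (QuotientGroup.mk' (Y'.map (Subgroup.center X).subtype)) :=
        ⟨z, z.2, rfl⟩
      have h2 : (⟨_, hle h1⟩ : Subgroup.center (X ⧸ Y'.map (Subgroup.center X).subtype)) ∈
          ((Subgroup.center X).map (QuotientGroup.mk' (Y'.map (Subgroup.center X).subtype))).subgroupOf
            (Subgroup.center (X ⧸ Y'.map (Subgroup.center X).subtype)) := by
        rw [Subgroup.mem_subgroupOf]; exact h1
      rw [hbot, Subgroup.mem_bot] at h2
      have h3 := congrArg Subtype.val h2
      have h4 : (QuotientGroup.mk (z : X) : X ⧸ Y'.map (Subgroup.center X).subtype) = 1 := h3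
      rw [QuotientGroup.eq_one_iff] at h4
      obtain ⟨w, hw, hwz⟩ := h4
      have : w = z := Subtype.ext hwz
      rw [← this]; exact hw
    have hprime : Fact (Nat.card (Subgroup.center (X ⧸ Y'.map (Subgroup.center X).subtype))).Prime := by
      rw [hcard]; infer_instance
    have htop := (Subgroup.eq_bot_or_eq_top_of_prime_card _).resolve_left hnb
    rw [Subgroup.subgroupOf_eq_top] at htop
    -- x̄ is central
    have hxc : (QuotientGroup.mk x : X ⧸ Y'.map (Subgroup.center X).subtype) ∈
        Subgroup.center (X ⧸ Y'.map (Subgroup.center X).subtype) := by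
      rw [Subgroup.mem_center_iff]
      intro g
      induction g using QuotientGroup.induction_on with
      | H g =>
        have h1 : x * g * x⁻¹ * g⁻¹ ∈ Y'.map (Subgroup.center X).subtype := hrY ⟨g, rfl⟩
        have h2 : (QuotientGroup.mk (x * g * x⁻¹ * g⁻¹) : X ⧸ Y'.map (Subgroup.center X).subtype) = 1 :=
          (QuotientGroup.eq_one_iff _).mpr h1
        have h3 : (QuotientGroup.mk (x * g) : X ⧸ Y'.map (Subgroup.center X).subtype)
            = QuotientGroup.mk (x * g * x⁻¹ * g⁻¹) * QuotientGroup.mk (g * x) := by
          rw [← QuotientGroup.mk_mul]; congr 1; group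
        show (QuotientGroup.mk (g * x) : X ⧸ Y'.map (Subgroup.center X).subtype) = QuotientGroup.mk (x * g)
        rw [h3, h2, one_mul]
    obtain ⟨z, hz, hzx⟩ := htop hxc
    have h5 : (QuotientGroup.mk (z⁻¹ * x) : X ⧸ Y'.map (Subgroup.center X).subtype) = 1 := by
      rw [QuotientGroup.mk_mul, QuotientGroup.mk_inv]
      have : (QuotientGroup.mk z : X ⧸ Y'.map (Subgroup.center X).subtype) = QuotientGroup.mk x := hzx
      rw [this]; group
    rw [QuotientGroup.eq_one_iff] at h5
    have h6 := hYle h5
    apply hx
    have : x = z * (z⁻¹ * x) := by group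
    rw [this]
    exact Subgroup.mul_mem _ hz h6
  refine ⟨?_, ?_⟩
  · rw [← hker, Subgroup.index_ker, hrange]
  · ext z
    rw [← hrange]
    constructor
    · rintro ⟨y, rfl⟩
      exact ⟨y, rfl⟩
    · rintro ⟨y, rfl⟩
      exact ⟨y, rfl⟩

end Cfsg.Agent.S2907
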