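import Cfsg.Statements.S2908
import Cfsg.Agent.Lib.Helper1.Frattini

set_option autoImplicit false
open Cfsg

namespace Cfsg.Agent.S2908

open scoped Pointwise commutatorElement

/-- Let P be a p-subgroup of a finite group, normalized by a p-subgroup A and by a subgroup B of order prime to p that commutes elementwise with A. If [P, B] ≤ [P, A], then B centralizes P. -/
theorem result {G : Type*} [Group G] [Finite G] {p : ℕ} [Fact p.Prime] (P A B : Subgroup G) (hP : IsPGroup p ↥P) (hA : IsPGroup p ↥A) (hB : ¬ p ∣ Nat.card ↥B) (hnA : A ≤ Subgroup.normalizer (P : Set G)) (hnB : B ≤ Subgroup.normalizer (P : Set G)) (hAB : ⁅A, B⁆ = ⊥) (hcomm : ⁅P, B⁆ ≤ ⁅P, A⁆) : ⁅P, B⁆ = ⊥ := by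
  have hp : p.Prime := Fact.out
  set K : Subgroup G := P ⊔ A with hK
  have hKp : IsPGroup p K := IsPGroup.to_sup_of_normal_left' hP hA hnA
  -- A and B commute elementwise
  have hab : ∀ a ∈ A, ∀ b ∈ B, b * a = a * b := by
    intro a ha b hb
    have h1 : ⁅a, b⁆ ∈ ⁅A, B⁆ := Subgroup.commutator_mem_commutator ha hb
    rw [hAB, Subgroup.mem_bot] at h1
    have := commutatorElement_eq_one_iff_mul_comm.mp h1
    exact this.symm
  have hBK : B ≤ Subgroup.normalizer (K : Set G) := by
    intro b hb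
    apply Subgroup.mem_normalizer_iff.mpr
    have hconj : ∀ c ∈ B, ∀ k ∈ K, c * k * c⁻¹ ∈ K := by
      intro c hc k hk
      have hmul : ((P ⊔ A : Subgroup G) : Set G) = (P : Set G) * (A : Set G) :=
        Subgroup.coe_mul_of_right_le_normalizer_left P A hnA
      have hk' : k ∈ ((P ⊔ A : Subgroup G) : Set G) := hk
      rw [hmul] at hk'
      obtain ⟨x, hx, a, ha, rfl⟩ := Set.mem_mul.mp hk'
      have h1 : c * x * c⁻¹ ∈ P := (Subgroup.mem_normalizer_iff.mp (hnB hc) x).mp hx
      have h2 : c * a * c⁻¹ = a := by rw [hab a ha c hc]; group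
      have : c * (x * a) * c⁻¹ = (c * x * c⁻¹) * (c * a * c⁻¹) := by group
      rw [this, h2]
      exact Subgroup.mul_mem _ ((le_sup_left : P ≤ K) h1) ((le_sup_right : A ≤ K) ha)
    intro k
    constructor
    · exact hconj b hb k
    · intro h
      have := hconj b⁻¹ (Subgroup.inv_mem _ hb) _ h
      simpa [mul_assoc] using this
  have hcop : (Nat.card B).Coprime (Nat.card (frattini K)) := by
    obtain ⟨n, hn⟩ := (IsPGroup.iff_card.mp (hKp.to_subgroup (frattini K)))
    rw [hn]
    exact Nat.Coprime.pow_right n ((Nat.Prime.coprime_iff_not_dvd hp).mpr hB).symm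
  have htriv : ∀ b ∈ B, ∀ k ∈ K, b * k * b⁻¹ * k⁻¹ ∈ (frattini K).map K.subtype := by
    intro b hb k hk
    have hmul : ((P ⊔ A : Subgroup G) : Set G) = (P : Set G) * (A : Set G) :=
      Subgroup.coe_mul_of_right_le_normalizer_left P A hnA
    have hk' : k ∈ ((P ⊔ A : Subgroup G) : Set G) := hk
    rw [hmul] at hk'
    obtain ⟨x, hx, a, ha, rfl⟩ := Set.mem_mul.mp hk'
    have h2 : b * a = a * b := hab a ha b hb
    have h3 : b * (x * a) * b⁻¹ * (x * a)⁻¹ = ⁅b, x⁆ := by
      rw [commutatorElement_def]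
      have h2' : a * b⁻¹ = b⁻¹ * a := by
        have : a = b⁻¹ * (b * a) := by group
        rw [h2] at this
        calc a * b⁻¹ = (b⁻¹ * (a * b)) * b⁻¹ := by rw [← this]
          _ = b⁻¹ * a := by group
      calc b * (x * a) * b⁻¹ * (x * a)⁻¹ = b * x * (a * b⁻¹) * a⁻¹ * x⁻¹ := by group
        _ = b * x * (b⁻¹ * a) * a⁻¹ * x⁻¹ := by rw [h2']
        _ = b * x * b⁻¹ * x⁻¹ := by group
    rw [h3]
    have h4 : ⁅b, x⁆ ∈ ⁅P, B⁆ := by
      rw [Subgroup.commutator_comm]
      exact Subgroup.commutator_mem_commutator hb hx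
    have h5 : ⁅P, A⁆ ≤ ⁅K, K⁆ := Subgroup.commutator_mono le_sup_left le_sup_right
    have h6 : ⁅K, K⁆ ≤ (frattini K).map K.subtype := by
      rw [← Subgroup.map_subtype_commutator]
      exact Subgroup.map_mono (Cfsg.Agent.Lib.Helper1.IsPGroup.commutator_le_frattini hKp)
    exact h6 (h5 (hcomm h4))
  have hcent := Cfsg.Agent.Lib.Helper1.le_centralizer_of_commutator_le_frattini B K hBK hcop htriv
  rw [Subgroup.commutator_comm, eq_bot_iff, Subgroup.commutator_le]
  intro b hb x hx
  have := hcent hb x ((le_sup_left : P ≤ K) hx)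
  rw [Subgroup.mem_bot, commutatorElement_eq_one_iff_mul_comm]
  exact this.symm
end Cfsg.Agent.S2908
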