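import Cfsg.Statements.S2909
import Cfsg.Agent.S2908
import Cfsg.Agent.Lib.Helper12.Generation
import Cfsg.Agent.Lib.Helper17.Coprime
import Cfsg.Agent.Lib.Helper17.CoprimeGen
import Cfsg.Agent.Lib.Helper17.CharP2
import Cfsg.Agent.Lib.Helper17.Commutator

set_option autoImplicit false
open Cfsg

namespace Cfsg.Agent.S2909

open scoped commutatorElement
open Cfsg.Agent.Lib.Helper17

/-- `r g r⁻¹` for `r ∈ N(N)`. -/
theorem conj_mem_of_mem_normalizer {G : Type*} [Group G] {N : Subgroup G} {r n : G}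
    (hr : r ∈ Subgroup.normalizer (N : Set G)) (hn : n ∈ N) : r * n * r⁻¹ ∈ N :=
  (Subgroup.mem_normalizer_iff.mp hr n).mp hn

/-- The subgroup of elements normalizing `N` and acting trivially on `E` modulo `N`. -/
def trivMod {G : Type*} [Group G] (E N : Subgroup G) : Subgroup G where
  carrier := {g | g ∈ Subgroup.normalizer (N : Set G) ∧ ∀ e ∈ E, g * e * g⁻¹ * e⁻¹ ∈ N}
  one_mem' := ⟨Subgroup.one_mem _, fun e _ => by simp⟩
  mul_mem' := by
    rintro g h ⟨hg, hg'⟩ ⟨hh, hh'⟩
    refine ⟨Subgroup.mul_mem _ hg hh, fun e he => ?_⟩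
    have h1 : g * (h * e * h⁻¹ * e⁻¹) * g⁻¹ ∈ N := conj_mem_of_mem_normalizer hg (hh' e he)
    have h2 := hg' e he
    have : g * h * e * (g * h)⁻¹ * e⁻¹ = g * (h * e * h⁻¹ * e⁻¹) * g⁻¹ * (g * e * g⁻¹ * e⁻¹) := by
      group
    rw [this]
    exact N.mul_mem h1 h2
  inv_mem' := by
    rintro g ⟨hg, hg'⟩
    refine ⟨Subgroup.inv_mem _ hg, fun e he => ?_⟩
    have h1 : (g * e * g⁻¹ * e⁻¹)⁻¹ ∈ N := N.inv_mem (hg' e he)
    have h2 := conj_mem_of_mem_normalizer (Subgroup.inv_mem _ hg) h1
    have : g⁻¹ * e * g⁻¹⁻¹ * e⁻¹ = g⁻¹ * (g * e * g⁻¹ * e⁻¹)⁻¹ * g⁻¹⁻¹ := by group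
    rw [this]
    exact h2

theorem mem_trivMod {G : Type*} [Group G] {E N : Subgroup G} {g : G} :
    g ∈ trivMod E N ↔ g ∈ Subgroup.normalizer (N : Set G) ∧ ∀ e ∈ E, g * e * g⁻¹ * e⁻¹ ∈ N :=
  Iff.rfl

theorem key {G : Type*} [Group G] [Finite G] {p : ℕ} [Fact p.Prime] (E : Subgroup G) [E.Normal]
    (hE : IsPGroup p ↥E) (U : Subgroup G) (hU : Cfsg.IsElementaryAbelian p U)
    (hcond : (∀ u ∈ U, u ≠ 1 → E ⊓ Subgroup.centralizer (U : Set G) = E ⊓ Subgroup.centralizer ({u} : Set G)) ∨ (∀ u ∈ U, u ≠ 1 → ⁅E, U⁆ = ⁅E, Subgroup.zpowers u⁆))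
    (R : Subgroup G) (hR : ¬ p ∣ Nat.card ↥R) (hRU : U ≤ Subgroup.normalizer (R : Set G))
    (u : G) (huU : u ∈ U) (hu1 : u ≠ 1) :
    ⁅R ⊓ Subgroup.centralizer ({u} : Set G), U⁆ ≤ Subgroup.centralizer (E : Set G) := by
  have hp : p.Prime := Fact.out
  set Ru : Subgroup G := R ⊓ Subgroup.centralizer ({u} : Set G) with hRu
  set B : Subgroup G := ⁅Ru, U⁆ with hB
  have hUcomm := Cfsg.Agent.Lib.Helper12.isElementaryAbelian_comm hU
  have hEtop : ∀ g : G, g ∈ Subgroup.normalizer (E : Set G) := by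
    intro g; rw [Subgroup.normalizer_eq_top]; exact Subgroup.mem_top g
  have hUN : U ≤ Subgroup.normalizer (Ru : Set G) := by
    intro u' hu'
    apply mem_normalizer_inf (hRU hu')
    exact Cfsg.Agent.Lib.Helper12.mem_normalizer_centralizer_singleton (hUcomm u' hu' u huU)
  have hBRu : B ≤ Ru := commutator_le_left_of_le_normalizer hUN
  have hBR : B ≤ R := hBRu.trans inf_le_left
  have hBu : ∀ b ∈ B, Commute b u := by
    intro b hb
    have h0 : b ∈ Subgroup.centralizer ({u} : Set G) := (hBRu hb).2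
    rw [Subgroup.mem_centralizer_singleton_iff] at h0
    exact h0
  have hRuu : ∀ r ∈ Ru, Commute r u := by
    intro b hb
    have h0 : b ∈ Subgroup.centralizer ({u} : Set G) := hb.2
    rw [Subgroup.mem_centralizer_singleton_iff] at h0
    exact h0
  have hBcard : ¬ p ∣ Nat.card B := fun h => hR (h.trans (Subgroup.card_dvd_of_le hBR))
  have hzp : IsPGroup p (Subgroup.zpowers u) := by
    apply Cfsg.Agent.Lib.Helper12.isPGroup_of_exponent
    intro x hx
    exact hU.2 x ((Subgroup.zpowers_le.mpr huU) hx)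
  have hBzp : ∀ b ∈ B, ∀ c ∈ Subgroup.zpowers u, b * c = c * b := by
    intro b hb c hc
    obtain ⟨k, rfl⟩ := Subgroup.mem_zpowers_iff.mp hc
    exact ((hBu b hb).zpow_right k).eq
  rcases hcond with hc | hc
  · -- case (a)
    set E₀ : Subgroup G := E ⊓ Subgroup.centralizer (U : Set G) with hE₀
    have hE₀' : E₀ = E ⊓ Subgroup.centralizer ({u} : Set G) := hc u huU hu1
    have hBE₀ : B ≤ Subgroup.centralizer (E₀ : Set G) := by
      rw [hB, Subgroup.commutator_le]
      intro r hr u' hu'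
      have hrN : r ∈ Subgroup.normalizer (E₀ : Set G) := by
        rw [hE₀']
        apply mem_normalizer_inf (hEtop r)
        exact Cfsg.Agent.Lib.Helper12.mem_normalizer_centralizer_singleton (hRuu r hr).eq
      have hrNC := normalizer_le_normalizer_centralizer' E₀ hrN
      have hu'C : u' ∈ Subgroup.centralizer (E₀ : Set G) := by
        have : E₀ ≤ Subgroup.centralizer (U : Set G) := inf_le_right
        exact (Subgroup.le_centralizer_iff.mp this) hu'
      have : ⁅r, u'⁆ = (r * u' * r⁻¹) * u'⁻¹ := by rw [commutatorElement_def]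
      rw [this]
      exact Subgroup.mul_mem _ (conj_mem_of_mem_normalizer hrNC hu'C) (Subgroup.inv_mem _ hu'C)
    intro b hb
    rw [Subgroup.mem_centralizer_iff]
    have hbord : (orderOf b).Coprime p := by
      rw [Nat.coprime_comm, Nat.Prime.coprime_iff_not_dvd hp]
      intro h
      apply hBcard
      have h2 : orderOf (⟨b, hb⟩ : B) ∣ Nat.card B := orderOf_dvd_natCard _
      rw [Subgroup.orderOf_mk] at h2
      exact h.trans h2
    have := thompson_AxB (p := p) (B := Subgroup.zpowers u) (a := b) hzp hbord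
      (fun c hc => hBzp b hb c hc) (Nat.card E) E rfl hE (hEtop b) (fun c _ => hEtop c)
      (by
        intro x hx hxc
        have hx0 : x ∈ E₀ := by
          rw [hE₀']
          have h0 : x ∈ Subgroup.centralizer ({u} : Set G) := by
            rw [Subgroup.mem_centralizer_singleton_iff]
            exact (hxc u (Subgroup.mem_zpowers u)).symm
          exact ⟨hx, h0⟩
        have := hBE₀ hb
        rw [Subgroup.mem_centralizer_iff] at this
        exact (this x hx0).symm)
    intro x hx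
    exact (this x hx).symm
  · -- case (b)
    set N : Subgroup G := ⁅E, U⁆ with hN
    have hN' : N = ⁅E, Subgroup.zpowers u⁆ := hc u huU hu1
    have hUT : U ≤ trivMod E N := by
      intro u' hu'
      refine ⟨le_normalizer_commutator_right E U hu', fun e he => ?_⟩
      have : u' * e * u'⁻¹ * e⁻¹ = ⁅u', e⁆ := by rw [commutatorElement_def]
      rw [this, hN, Subgroup.commutator_comm]
      exact Subgroup.commutator_mem_commutator hu' he
    have hconj : ∀ r ∈ Ru, ∀ g ∈ trivMod E N, r * g * r⁻¹ ∈ trivMod E N := by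
      intro r hr g hg
      have hrN : r ∈ Subgroup.normalizer (N : Set G) := by
        rw [hN']
        apply mem_normalizer_commutator (hEtop r)
        apply centralizer_le_normalizer_zpowers' u
        exact hr.2
      refine ⟨Subgroup.mul_mem _ (Subgroup.mul_mem _ hrN hg.1) (Subgroup.inv_mem _ hrN),
        fun e he => ?_⟩
      have he' : r⁻¹ * e * r⁻¹⁻¹ ∈ E := conj_mem_of_mem_normalizer (hEtop r⁻¹) he
      have h1 := hg.2 _ he'
      have h2 := conj_mem_of_mem_normalizer hrN h1
      have : r * g * r⁻¹ * e * (r * g * r⁻¹)⁻¹ * e⁻¹ =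
          r * (g * (r⁻¹ * e * r⁻¹⁻¹) * g⁻¹ * (r⁻¹ * e * r⁻¹⁻¹)⁻¹) * r⁻¹ := by group
      rw [this]
      exact h2
    have hBT : B ≤ trivMod E N := by
      rw [hB, Subgroup.commutator_le]
      intro r hr u' hu'
      have : ⁅r, u'⁆ = (r * u' * r⁻¹) * u'⁻¹ := by rw [commutatorElement_def]
      rw [this]
      exact Subgroup.mul_mem _ (hconj r hr u' (hUT hu')) (Subgroup.inv_mem _ (hUT hu'))
    have hcomm : ⁅E, B⁆ ≤ ⁅E, Subgroup.zpowers u⁆ := by
      rw [← hN', Subgroup.commutator_le]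
      intro e he b hb
      have h1 := (hBT hb).2 e he
      have : ⁅e, b⁆ = (b * e * b⁻¹ * e⁻¹)⁻¹ := by rw [commutatorElement_def]; group
      rw [this]
      exact N.inv_mem h1
    have hAB : ⁅Subgroup.zpowers u, B⁆ = ⊥ := by
      rw [eq_bot_iff, Subgroup.commutator_le]
      intro c hc b hb
      rw [Subgroup.mem_bot, commutatorElement_eq_one_iff_mul_comm]
      exact (hBzp b hb c hc).symm
    have hres := Cfsg.Agent.S2908.result E (Subgroup.zpowers u) B hE hzp hBcard
      (fun c _ => hEtop c) (fun c _ => hEtop c) hAB hcomm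
    rw [Subgroup.commutator_comm] at hres
    exact Subgroup.commutator_eq_bot_iff_le_centralizer.mp hres

/-- Let p be a prime, E a normal p-subgroup of the finite group G, and U a non-cyclic elementary abelian p-subgroup of G such that either C_E(U) = C_E(u) for every nontrivial u ∈ U, or [E, U] = [E, ⟨u⟩] for every nontrivial u ∈ U. If R is a subgroup of order prime to p normalized by U, then [R, U] centralizes E. -/
theorem result {G : Type*} [Group G] [Finite G] {p : ℕ} [Fact p.Prime] (E : Subgroup G) [E.Normal] (hE : IsPGroup p ↥E) (U : Subgroup G) (hU : Cfsg.IsElementaryAbelian p U) (hnc : ¬ IsCyclic ↥U) (hcond : (∀ u ∈ U, u ≠ 1 → E ⊓ Subgroup.centralizer (U : Set G) = E ⊓ Subgroup.centralizer ({u} : Set G)) ∨ (∀ u ∈ U, u ≠ 1 → ⁅E, U⁆ = ⁅E, Subgroup.zpowers u⁆)) (R : Subgroup G) (hR : ¬ p ∣ Nat.card ↥R) (hRU : U ≤ Subgroup.normalizer (R : Set G)) : ⁅R, U⁆ ≤ Subgroup.centralizer (E : Set G) := by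
  have hp : p.Prime := Fact.out
  have hUp : IsPGroup p U := Cfsg.Agent.Lib.Helper12.isPGroup_of_exponent hU.2
  have hcard : p < Nat.card U := by
    by_contra hle
    rw [not_lt] at hle
    obtain ⟨k, hk⟩ := IsPGroup.iff_card.mp hUp
    apply hnc
    rcases k with _ | k
    · have h1 : Nat.card U = 1 := by simpa using hk
      haveI : Subsingleton U := (Nat.card_eq_one_iff_unique.mp h1).1
      exact isCyclic_of_subsingleton
    · have hk0 : k = 0 := by
        by_contra h
        have h2 : p ^ 2 ≤ p ^ (k + 1) := Nat.pow_le_pow_right hp.pos (by omega)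
        have h3 : p < p ^ 2 := by
          have := hp.one_lt
          nlinarith
        omega
      subst hk0
      exact isCyclic_of_prime_card (p := p) (by simpa using hk)
  have hgen : R ≤ Cfsg.Agent.Lib.Helper12.genC U R :=
    Cfsg.Agent.Lib.Helper12.le_genC_of_isElementaryAbelian hU hRU hR hcard
  set C : Subgroup G := Subgroup.centralizer (E : Set G) with hC
  let D : Subgroup G :=
    (Subgroup.centralizer ((U.map (QuotientGroup.mk' C) : Subgroup (G ⧸ C)) : Set (G ⧸ C))).comap
      (QuotientGroup.mk' C)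
  have hD : ∀ g : G, g ∈ D ↔ ∀ u' ∈ U, ⁅g⁻¹, u'⁻¹⁆ ∈ C := by
    intro g
    show (QuotientGroup.mk' C g) ∈ Subgroup.centralizer _ ↔ _
    rw [Subgroup.mem_centralizer_iff]
    constructor
    · intro h u' hu'
      have := h _ (Subgroup.mem_map_of_mem _ hu')
      simp only [QuotientGroup.mk'_apply] at this
      rw [← QuotientGroup.mk_mul, ← QuotientGroup.mk_mul, QuotientGroup.eq] at this
      have e : ⁅g⁻¹, u'⁻¹⁆ = (u' * g)⁻¹ * (g * u') := by rw [commutatorElement_def]; group
      rw [e]; exact this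
    · rintro h _ ⟨u', hu', rfl⟩
      simp only [QuotientGroup.mk'_apply]
      rw [← QuotientGroup.mk_mul, ← QuotientGroup.mk_mul, QuotientGroup.eq]
      have e : ⁅g⁻¹, u'⁻¹⁆ = (u' * g)⁻¹ * (g * u') := by rw [commutatorElement_def]; group
      rw [← e]; exact h u' hu'
  have hRD : R ≤ D := by
    refine hgen.trans (iSup_le ?_)
    rintro ⟨u, huU, hu1⟩
    intro r hr
    rw [hD]
    intro u' hu'
    apply key E hE U hU hcond R hR hRU u huU hu1
    exact Subgroup.commutator_mem_commutator (Subgroup.inv_mem _ hr) (Subgroup.inv_mem _ hu')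
  rw [Subgroup.commutator_le]
  intro r hr u' hu'
  have := (hD r⁻¹).mp (hRD (Subgroup.inv_mem _ hr)) u'⁻¹ (Subgroup.inv_mem _ hu')
  simpa using this

end Cfsg.Agent.S2909
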