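import Cfsg.Statements.S2911
import Cfsg.Agent.Lib.Helper17.TransferZ

set_option autoImplicit false
open Cfsg

namespace Cfsg.Agent.S2911

open Cfsg.Agent.Lib.Helper17 DihedralGroup

theorem dih_central : ∀ d : DihedralGroup 4, (∀ d' : DihedralGroup 4, d' * d = d * d') →
    d = 1 ∨ d = r 2 := by decide

theorem zmod2_sq : ∀ a : Multiplicative (ZMod 2), a ^ 2 = 1 := by decide

theorem ofAdd_one_ne : (Multiplicative.ofAdd (1 : ZMod 2)) ≠ 1 := by decide

theorem r_one_sq : (r 1 : DihedralGroup 4) ^ 2 = r 2 := by decide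

/-- A finite group whose Sylow 2-subgroups are isomorphic to the direct product of a group of order 2 and a dihedral group of order 8 has a subgroup of index two. -/
theorem result {G : Type*} [Group G] [Finite G] (S : Sylow 2 G) (hS : Nonempty (↥(S : Subgroup G) ≃* Multiplicative (ZMod 2) × DihedralGroup 4)) : ∃ H : Subgroup G, H.index = 2 := by
  obtain ⟨e⟩ := hS
  set z₀ : Multiplicative (ZMod 2) × DihedralGroup 4 := (Multiplicative.ofAdd 1, 1) with hz₀
  have hz₀c : ∀ t : Multiplicative (ZMod 2) × DihedralGroup 4, t * z₀ = z₀ * t := by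
    intro t
    exact Prod.ext (mul_comm _ _) (by simp [hz₀])
  have hz₀2 : z₀ ^ 2 = 1 := by
    apply Prod.ext
    · exact zmod2_sq _
    · simp [hz₀]
  let ψ : ↥(S : Subgroup G) →* Multiplicative (ZMod 2) :=
    (MonoidHom.fst _ _).comp e.toMonoidHom
  have hψ : ∀ s, ψ s = (e s).1 := fun s => rfl
  have hψsurj : Function.Surjective ψ := by
    intro a
    refine ⟨e.symm (a, 1), ?_⟩
    rw [hψ, MulEquiv.apply_symm_apply]
  set Q : Subgroup G := ψ.ker.map (S : Subgroup G).subtype with hQ
  have hQS : Q ≤ (S : Subgroup G) := Subgroup.map_subtype_le _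
  have hQi : Q.relIndex (S : Subgroup G) = 2 := by
    rw [Subgroup.relIndex, Subgroup.subgroupOf, hQ,
      Subgroup.comap_map_eq_self_of_injective (Subgroup.subtype_injective _),
      Subgroup.index_ker, MonoidHom.range_eq_top.mpr hψsurj, Subgroup.card_top]
    simp
  have hmemQ : ∀ (y : G) (hy : y ∈ (S : Subgroup G)), y ∈ Q → (e ⟨y, hy⟩).1 = 1 := by
    rintro y hy ⟨y', hy', hyy⟩
    have : y' = ⟨y, hy⟩ := Subtype.ext hyy
    rw [← this, ← hψ]
    exact hy'
  set zs : ↥(S : Subgroup G) := e.symm z₀ with hzs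
  set z : G := (zs : G) with hz
  have hzS : z ∈ (S : Subgroup G) := zs.2
  have hzs2 : zs ^ 2 = 1 := by
    rw [hzs, ← map_pow, hz₀2, map_one]
  have hz2 : z ^ 2 = 1 := by
    have := congrArg Subtype.val hzs2
    simpa using this
  have hzsc : ∀ s : ↥(S : Subgroup G), s * zs = zs * s := by
    intro s
    apply e.injective
    rw [map_mul, map_mul, hzs, MulEquiv.apply_symm_apply]
    exact hz₀c _
  have hzc : ∀ s ∈ (S : Subgroup G), s * z = z * s := by
    intro s hs
    have := congrArg Subtype.val (hzsc ⟨s, hs⟩)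
    simpa using this
  have hN : ∀ x ∈ Subgroup.normalizer ((S : Subgroup G) : Set G), x⁻¹ * z * x ∉ Q := by
    intro x hx hwQ
    have hxinv : x⁻¹ ∈ Subgroup.normalizer ((S : Subgroup G) : Set G) := Subgroup.inv_mem _ hx
    have hw : x⁻¹ * z * x ∈ (S : Subgroup G) := by
      have := (Subgroup.mem_normalizer_iff.mp hxinv z).mp hzS
      simpa using this
    have ht1 : (e ⟨x⁻¹ * z * x, hw⟩).1 = 1 := hmemQ _ hw hwQ
    -- centrality of w in S
    have hwc : ∀ s : ↥(S : Subgroup G), s * ⟨x⁻¹ * z * x, hw⟩ = ⟨x⁻¹ * z * x, hw⟩ * s := by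
      intro s
      apply Subtype.ext
      have hs' : x * (s : G) * x⁻¹ ∈ (S : Subgroup G) :=
        (Subgroup.mem_normalizer_iff.mp hx s).mp s.2
      have h1 := hzc _ hs'
      show (s : G) * (x⁻¹ * z * x) = x⁻¹ * z * x * (s : G)
      calc (s : G) * (x⁻¹ * z * x) = x⁻¹ * ((x * (s : G) * x⁻¹) * z) * x := by group
        _ = x⁻¹ * (z * (x * (s : G) * x⁻¹)) * x := by rw [h1]
        _ = x⁻¹ * z * x * (s : G) := by group
    have htc : ∀ t' : Multiplicative (ZMod 2) × DihedralGroup 4,
        t' * e ⟨x⁻¹ * z * x, hw⟩ = e ⟨x⁻¹ * z * x, hw⟩ * t' := by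
      intro t'
      have := congrArg e (hwc (e.symm t'))
      rwa [map_mul, map_mul, MulEquiv.apply_symm_apply] at this
    have hd : ∀ d' : DihedralGroup 4, d' * (e ⟨x⁻¹ * z * x, hw⟩).2 = (e ⟨x⁻¹ * z * x, hw⟩).2 * d' := by
      intro d'
      have := congrArg Prod.snd (htc (1, d'))
      simpa using this
    rcases dih_central _ hd with h1 | h1
    · -- w = 1
      have ht : e ⟨x⁻¹ * z * x, hw⟩ = 1 := Prod.ext ht1 h1
      have hw1 : (⟨x⁻¹ * z * x, hw⟩ : ↥(S : Subgroup G)) = 1 := by
        apply e.injective; rw [ht, map_one]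
      have hw1' : x⁻¹ * z * x = 1 := congrArg Subtype.val hw1
      have hz1 : z = 1 := by
        calc z = x * (x⁻¹ * z * x) * x⁻¹ := by group
          _ = 1 := by rw [hw1']; group
      have hzs1 : zs = 1 := Subtype.ext hz1
      have : z₀ = 1 := by
        have := congrArg e hzs1
        rwa [hzs, MulEquiv.apply_symm_apply, map_one] at this
      exact ofAdd_one_ne (congrArg Prod.fst this)
    · -- w is a square
      have ht : e ⟨x⁻¹ * z * x, hw⟩ = ((1, r 1) : Multiplicative (ZMod 2) × DihedralGroup 4) ^ 2 := by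
        apply Prod.ext
        · rw [ht1]; simp
        · rw [h1]; simp [r_one_sq]
      set v : ↥(S : Subgroup G) := e.symm (1, r 1) with hv
      have hwv : (⟨x⁻¹ * z * x, hw⟩ : ↥(S : Subgroup G)) = v ^ 2 := by
        apply e.injective
        rw [ht, map_pow, hv, MulEquiv.apply_symm_apply]
      have hwv' : x⁻¹ * z * x = (v : G) ^ 2 := by
        have := congrArg Subtype.val hwv
        simpa using this
      have hv' : x * (v : G) * x⁻¹ ∈ (S : Subgroup G) :=
        (Subgroup.mem_normalizer_iff.mp hx v).mp v.2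
      have hzsq : z = (x * (v : G) * x⁻¹) ^ 2 := by
        calc z = x * (x⁻¹ * z * x) * x⁻¹ := by group
          _ = x * ((v : G) ^ 2) * x⁻¹ := by rw [hwv']
          _ = (x * (v : G) * x⁻¹) ^ 2 := by rw [conj_pow]
      have hzssq : zs = (⟨x * (v : G) * x⁻¹, hv'⟩ : ↥(S : Subgroup G)) ^ 2 := by
        apply Subtype.ext
        rw [Subgroup.coe_pow]
        exact hzsq
      have : z₀ = (e ⟨x * (v : G) * x⁻¹, hv'⟩) ^ 2 := by
        have := congrArg e hzssq
        rwa [hzs, MulEquiv.apply_symm_apply, map_pow] at this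
      have h2 := congrArg Prod.fst this
      rw [Prod.pow_fst, zmod2_sq] at h2
      exact ofAdd_one_ne h2
  obtain ⟨M, _, hMi, _⟩ := exists_index_two_of_central_involution S Q hQS hQi z hzS hz2 hzc hN
  exact ⟨M, hMi⟩

end Cfsg.Agent.S2911
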