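import Mathlib
import Cfsg.Statements.S2912
import Cfsg.Agent.Lib.Helper17.NormFix
import Cfsg.Agent.Lib.Helper1.Frattini

set_option autoImplicit false
open Cfsg

namespace Cfsg.Agent.S2912

open Subgroup Cfsg.Agent.Lib.Helper17
open scoped commutatorElement

variable {G : Type*} [Group G]

/-- Elementwise axioms of an extraspecial `p`-group with centre `⟨z⟩`. -/
structure ESP (p : ℕ) (E : Subgroup G) (z : G) : Prop where
  mem : z ∈ E
  ne : z ≠ 1
  pow : z ^ p = 1
  central : ∀ a ∈ E, a * z = z * a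
  comm : ∀ a ∈ E, ∀ b ∈ E, ⁅a, b⁆ ∈ zpowers z
  ppow : ∀ a ∈ E, a ^ p ∈ zpowers z
  nondeg : ∀ a ∈ E, a ∉ zpowers z → ∃ b ∈ E, a * b ≠ b * a

/-- `E` acts on the elementary abelian `r`-group `V` with `z` fixed-point-free. -/
structure Act (r : ℕ) (E V : Subgroup G) (z : G) : Prop where
  comm : ∀ u ∈ V, ∀ v ∈ V, u * v = v * u
  exp : ∀ v ∈ V, v ^ r = 1
  norm : E ≤ normalizer (V : Set G)
  fpf : ∀ v ∈ V, z * v = v * z → v = 1
  ne : V ≠ ⊥

theorem sq_mem_zpowers {w x : G} (hw : w ^ 2 = 1) (hx : x ∈ zpowers w) : x = 1 ∨ x = w := by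
  obtain ⟨k, rfl⟩ := mem_zpowers_iff.mp hx
  rcases Int.even_or_odd k with ⟨j, hj⟩ | ⟨j, hj⟩
  · left
    rw [hj, ← two_mul, zpow_mul, zpow_ofNat, hw, one_zpow]
  · right
    rw [hj, zpow_add, zpow_one, zpow_mul, zpow_ofNat, hw, one_zpow, one_mul]

theorem nat_pow_of_mem [Finite G] {z c : G} (h : c ∈ zpowers z) : ∃ n : ℕ, z ^ n = c := by
  rw [← mem_powers_iff_mem_zpowers] at h
  exact (Submonoid.mem_powers_iff c z).mp h

theorem eq_one_of_pow_pow {p r : ℕ} (hp : p.Prime) (hr : r.Prime) (hpr : p ≠ r) {v : G}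
    (h1 : v ^ p = 1) (h2 : v ^ r = 1) : v = 1 := by
  have d1 := orderOf_dvd_of_pow_eq_one h1
  have d2 := orderOf_dvd_of_pow_eq_one h2
  have d3 : orderOf v ∣ Nat.gcd p r := Nat.dvd_gcd d1 d2
  rw [Nat.Coprime.gcd_eq_one ((Nat.coprime_primes hp hr).mpr hpr)] at d3
  exact orderOf_eq_one_iff.mp (Nat.dvd_one.mp d3)

theorem zpowers_eq_of_mem [Finite G] {p : ℕ} [hp : Fact p.Prime] {z c : G} (hz : z ^ p = 1)
    (hz1 : z ≠ 1) (hc : c ∈ zpowers z) (hc1 : c ≠ 1) : zpowers c = zpowers z := by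
  have hcp : c ^ p = 1 := by
    obtain ⟨k, rfl⟩ := mem_zpowers_iff.mp hc
    rw [← zpow_natCast, ← zpow_mul, mul_comm, zpow_mul, zpow_natCast, hz, one_zpow]
  apply Subgroup.eq_of_le_of_card_ge (zpowers_le.mpr hc)
  rw [Nat.card_zpowers, Nat.card_zpowers, orderOf_eq_prime hz hz1, orderOf_eq_prime hcp hc1]

namespace ESP

variable {p : ℕ} {E : Subgroup G} {z : G}

theorem zle (hE : ESP p E z) : zpowers z ≤ E := zpowers_le.mpr hE.mem

theorem zcomm (hE : ESP p E z) (c : G) (hc : c ∈ zpowers z) (a : G) (ha : a ∈ E) :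
    a * c = c * a := by
  obtain ⟨k, rfl⟩ := mem_zpowers_iff.mp hc
  exact ((show Commute a z from hE.central a ha).zpow_right k).eq

theorem zpow_p (hE : ESP p E z) (c : G) (hc : c ∈ zpowers z) : c ^ p = 1 := by
  obtain ⟨k, rfl⟩ := mem_zpowers_iff.mp hc
  rw [← zpow_natCast, ← zpow_mul, mul_comm, zpow_mul, zpow_natCast, hE.pow, one_zpow]

theorem card_zpowers [Fact p.Prime] (hE : ESP p E z) : Nat.card (zpowers z) = p := by
  rw [Nat.card_zpowers, orderOf_eq_prime hE.pow hE.ne]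

theorem change [Finite G] [Fact p.Prime] {c : G} (hE : ESP p E z) (hc : c ∈ zpowers z)
    (hc1 : c ≠ 1) : ESP p E c := by
  have heq := zpowers_eq_of_mem hE.pow hE.ne hc hc1
  refine ⟨hE.zle hc, hc1, hE.zpow_p c hc, fun a ha => hE.zcomm c hc a ha, ?_, ?_, ?_⟩
  · rw [heq]; exact hE.comm
  · rw [heq]; exact hE.ppow
  · rw [heq]; exact hE.nondeg

theorem exists_not_mem [Finite G] [Fact p.Prime] (hE : ESP p E z) (hcard : p < Nat.card E) :
    ∃ a ∈ E, a ∉ zpowers z := by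
  by_contra hcon
  push Not at hcon
  have hle : E ≤ zpowers z := fun a ha => hcon a ha
  have := Subgroup.card_le_of_le hle
  rw [hE.card_zpowers] at this
  omega

theorem comm_mul_left (hE : ESP p E z) {g h t : G} (hg : g ∈ E) (hh : h ∈ E) (ht : t ∈ E) :
    ⁅g * h, t⁆ = ⁅g, t⁆ * ⁅h, t⁆ := by
  have hc : g * ⁅h, t⁆ = ⁅h, t⁆ * g := hE.zcomm _ (hE.comm h hh t ht) g hg
  have hc2 : ⁅h, t⁆ * ⁅g, t⁆ = ⁅g, t⁆ * ⁅h, t⁆ :=
    hE.zcomm _ (hE.comm g hg t ht) _ (hE.zle (hE.comm h hh t ht))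
  rw [← hc2]
  calc ⁅g * h, t⁆ = g * ⁅h, t⁆ * t * g⁻¹ * t⁻¹ := by
        simp only [commutatorElement_def]; group
    _ = ⁅h, t⁆ * g * t * g⁻¹ * t⁻¹ := by rw [hc]
    _ = ⁅h, t⁆ * ⁅g, t⁆ := by simp only [commutatorElement_def, mul_assoc]

theorem comm_pow_left (hE : ESP p E z) {g t : G} (hg : g ∈ E) (ht : t ∈ E) (i : ℕ) :
    ⁅g ^ i, t⁆ = ⁅g, t⁆ ^ i := by
  induction i with
  | zero => simp
  | succ k ih => rw [pow_succ, comm_mul_left hE (E.pow_mem hg k) hg ht, ih, pow_succ]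

theorem exists_mul_mem [Finite G] {a b : G} (hE : ESP p E z) (ha : a ∈ E) (hb : b ∈ E)
    (hab : ⁅a, b⁆ = z) {e : G} (he : e ∈ E) :
    ∃ i j : ℕ, a * (e * a ^ i * b ^ j) = e * a ^ i * b ^ j * a ∧
      b * (e * a ^ i * b ^ j) = e * a ^ i * b ^ j * b := by
  have hba : ⁅b, a⁆ = z⁻¹ := by rw [← hab, commutatorElement_inv]
  obtain ⟨j, hj⟩ : ∃ j : ℕ, z ^ j = ⁅e, a⁆ := nat_pow_of_mem (hE.comm e he a ha)
  obtain ⟨i, hi⟩ : ∃ i : ℕ, z ^ i = ⁅e, b⁆⁻¹ :=
    nat_pow_of_mem ((zpowers z).inv_mem (hE.comm e he b hb))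
  refine ⟨i, j, ?_, ?_⟩
  · have h1 : ⁅e * a ^ i * b ^ j, a⁆ = 1 := by
      rw [comm_mul_left hE (E.mul_mem he (E.pow_mem ha i)) (E.pow_mem hb j) ha,
        comm_mul_left hE he (E.pow_mem ha i) ha, comm_pow_left hE ha ha, comm_pow_left hE hb ha,
        commutatorElement_self, one_pow, mul_one, hba, ← hj, inv_pow, mul_inv_cancel]
    exact (commutatorElement_eq_one_iff_mul_comm.mp h1).symm
  · have h2 : ⁅e * a ^ i * b ^ j, b⁆ = 1 := by
      rw [comm_mul_left hE (E.mul_mem he (E.pow_mem ha i)) (E.pow_mem hb j) hb,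
        comm_mul_left hE he (E.pow_mem ha i) hb, comm_pow_left hE ha hb, comm_pow_left hE hb hb,
        commutatorElement_self, one_pow, mul_one, hab, hi, mul_inv_cancel]
    exact (commutatorElement_eq_one_iff_mul_comm.mp h2).symm

theorem sub [Finite G] {a b : G} (hE : ESP p E z) (ha : a ∈ E) (hb : b ∈ E)
    (hab : ⁅a, b⁆ = z) : ESP p (E ⊓ centralizer {a} ⊓ centralizer {b}) z := by
  have hmemE : ∀ {e : G}, e ∈ E ⊓ centralizer {a} ⊓ centralizer {b} → e ∈ E :=
    fun h => (mem_inf.mp (mem_inf.mp h).1).1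
  refine ⟨?_, hE.ne, hE.pow, fun e he => hE.central e (hmemE he),
    fun u hu v hv => hE.comm u (hmemE hu) v (hmemE hv), fun u hu => hE.ppow u (hmemE hu), ?_⟩
  · exact mem_inf.mpr ⟨mem_inf.mpr ⟨hE.mem, mem_centralizer_single.mpr (hE.central a ha)⟩,
      mem_centralizer_single.mpr (hE.central b hb)⟩
  · intro u hu huz
    obtain ⟨e, he, hue⟩ := hE.nondeg u (hmemE hu) huz
    obtain ⟨i, j, h1, h2⟩ := exists_mul_mem hE ha hb hab he
    have hua : Commute u a :=
      (mem_centralizer_single.mp (mem_inf.mp (mem_inf.mp hu).1).2).symm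
    have hub : Commute u b := (mem_centralizer_single.mp (mem_inf.mp hu).2).symm
    refine ⟨e * a ^ i * b ^ j, mem_inf.mpr ⟨mem_inf.mpr
      ⟨E.mul_mem (E.mul_mem he (E.pow_mem ha i)) (E.pow_mem hb j),
        mem_centralizer_single.mpr h1⟩, mem_centralizer_single.mpr h2⟩, ?_⟩
    intro hcomm
    apply hue
    have hu2 : Commute u (a ^ i * b ^ j) := (hua.pow_right i).mul_right (hub.pow_right j)
    have h3 : u * e * (a ^ i * b ^ j) = e * u * (a ^ i * b ^ j) := by
      calc u * e * (a ^ i * b ^ j) = u * (e * a ^ i * b ^ j) := by simp only [mul_assoc]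
        _ = e * a ^ i * b ^ j * u := hcomm
        _ = e * (a ^ i * b ^ j * u) := by simp only [mul_assoc]
        _ = e * (u * (a ^ i * b ^ j)) := by rw [hu2.eq]
        _ = e * u * (a ^ i * b ^ j) := by simp only [mul_assoc]
    exact mul_right_cancel h3

end ESP

namespace Act

variable {r : ℕ} {E V : Subgroup G} {z : G}

theorem change {c : G} (hA : Act r E V z) (hz : z ∈ zpowers c) : Act r E V c := by
  refine ⟨hA.comm, hA.exp, hA.norm, ?_, hA.ne⟩
  intro v hv hcv
  apply hA.fpf v hv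
  obtain ⟨k, rfl⟩ := mem_zpowers_iff.mp hz
  exact ((show Commute c v from hcv).zpow_left k).eq

theorem torsion_free {p : ℕ} [hp : Fact p.Prime] [hr : Fact r.Prime] (hA : Act r E V z)
    (hpr : p ≠ r) : ∀ v ∈ V, v ^ p = 1 → v = 1 :=
  fun v hv h => eq_one_of_pow_pow hp.out hr.out hpr h (hA.exp v hv)

theorem card_eq [Finite G] [hr : Fact r.Prime] (hA : Act r E V z) :
    ∃ d : ℕ, 1 ≤ d ∧ Nat.card V = r ^ d := by
  have hVp : IsPGroup r V := fun v =>
    ⟨1, by rw [pow_one]; exact Subtype.ext (by rw [Subgroup.coe_pow]; exact hA.exp v v.2)⟩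
  obtain ⟨d, hd⟩ := IsPGroup.iff_card.mp hVp
  refine ⟨d, ?_, hd⟩
  rcases Nat.eq_zero_or_pos d with h0 | h0
  · exfalso
    rw [h0, pow_zero] at hd
    exact hA.ne (Subgroup.eq_bot_of_card_eq V hd)
  · exact h0

end Act

/-- Index of a centralizer when all commutators with `a` lie in a group of order `p`. -/
theorem card_le_mul_cent [Finite G] {p : ℕ} (H : Subgroup G) (a z : G)
    (hz : Nat.card (zpowers z) = p) (h : ∀ e ∈ H, ⁅e, a⁆ ∈ zpowers z) :
    Nat.card H ≤ p * Nat.card ↥(H ⊓ centralizer {a}) := by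
  classical
  have : Fintype ↥(zpowers z) := Fintype.ofFinite _
  let f : ↥H → ↥(zpowers z) := fun e => ⟨⁅(e : G), a⁆, h e e.2⟩
  have hfib : ∀ y : ↥(zpowers z),
      Nat.card {e : ↥H // f e = y} ≤ Nat.card ↥(H ⊓ centralizer {a}) := by
    intro y
    rcases isEmpty_or_nonempty {e : ↥H // f e = y} with hemp | ⟨⟨e0, he0⟩⟩
    · rw [Nat.card_of_isEmpty]
      exact Nat.zero_le _
    · have hmem : ∀ e : {e : ↥H // f e = y},
          ((e0 : G)⁻¹ * (e.1 : G)) ∈ H ⊓ centralizer {a} := by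
        intro e
        refine mem_inf.mpr ⟨H.mul_mem (H.inv_mem e0.2) e.1.2, ?_⟩
        rw [mem_centralizer_single]
        have h1 : ⁅(e.1 : G), a⁆ = ⁅(e0 : G), a⁆ :=
          congrArg Subtype.val (e.2.trans he0.symm)
        rw [commutatorElement_def, commutatorElement_def] at h1
        have h2 : (e.1 : G) * a * (e.1 : G)⁻¹ = (e0 : G) * a * (e0 : G)⁻¹ :=
          mul_right_cancel h1
        calc a * ((e0 : G)⁻¹ * (e.1 : G))
            = (e0 : G)⁻¹ * ((e0 : G) * a * (e0 : G)⁻¹) * (e.1 : G) := by group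
          _ = (e0 : G)⁻¹ * ((e.1 : G) * a * (e.1 : G)⁻¹) * (e.1 : G) := by rw [h2]
          _ = (e0 : G)⁻¹ * (e.1 : G) * a := by group
      exact Nat.card_le_card_of_injective
        (fun e => (⟨_, hmem e⟩ : ↥(H ⊓ centralizer {a})))
        (fun e1 e2 h12 => by
          have h3 : (e0 : G)⁻¹ * (e1.1 : G) = (e0 : G)⁻¹ * (e2.1 : G) :=
            congrArg Subtype.val h12
          exact Subtype.ext (Subtype.ext (mul_left_cancel h3)))
  calc Nat.card H = Nat.card (Σ y : ↥(zpowers z), {e : ↥H // f e = y}) :=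
        (Nat.card_congr (Equiv.sigmaFiberEquiv f)).symm
    _ = ∑ y : ↥(zpowers z), Nat.card {e : ↥H // f e = y} := Nat.card_sigma
    _ ≤ ∑ _y : ↥(zpowers z), Nat.card ↥(H ⊓ centralizer {a}) :=
        Finset.sum_le_sum fun y _ => hfib y
    _ = p * Nat.card ↥(H ⊓ centralizer {a}) := by
        rw [Finset.sum_const, Finset.card_univ, ← Nat.card_eq_fintype_card, hz, smul_eq_mul]

/-- Powers of a product in class two. -/
theorem pow_mul_classTwo (v w c : G) (hwv : w * v = v * w * c) (hcv : Commute c v)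
    (hcw : Commute c w) (n : ℕ) :
    (v * w) ^ n = v ^ n * w ^ n * c ^ (∑ i ∈ Finset.range n, i) := by
  have h1 : ∀ n : ℕ, w ^ n * v = v * w ^ n * c ^ n := by
    intro n
    induction n with
    | zero => simp
    | succ k ih =>
      calc w ^ (k + 1) * v = w ^ k * (w * v) := by rw [pow_succ]; group
        _ = w ^ k * (v * w * c) := by rw [hwv]
        _ = (w ^ k * v) * w * c := by group
        _ = (v * w ^ k * c ^ k) * w * c := by rw [ih]
        _ = v * w ^ k * (c ^ k * w) * c := by group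
        _ = v * w ^ k * (w * c ^ k) * c := by rw [(hcw.pow_left k).eq]
        _ = v * (w ^ k * w) * (c ^ k * c) := by group
        _ = v * w ^ (k + 1) * c ^ (k + 1) := by rw [← pow_succ, ← pow_succ]
  induction n with
  | zero => simp
  | succ k ih =>
    rw [Finset.sum_range_succ]
    generalize (∑ i ∈ Finset.range k, i) = m at ih ⊢
    calc (v * w) ^ (k + 1) = (v * w) ^ k * (v * w) := pow_succ _ _
      _ = v ^ k * w ^ k * c ^ m * (v * w) := by rw [ih]
      _ = v ^ k * w ^ k * (c ^ m * v) * w := by group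
      _ = v ^ k * w ^ k * (v * c ^ m) * w := by rw [(hcv.pow_left m).eq]
      _ = v ^ k * (w ^ k * v) * (c ^ m * w) := by group
      _ = v ^ k * (v * w ^ k * c ^ k) * (w * c ^ m) := by rw [h1 k, (hcw.pow_left m).eq]
      _ = (v ^ k * v) * w ^ k * (c ^ k * w) * c ^ m := by group
      _ = (v ^ k * v) * w ^ k * (w * c ^ k) * c ^ m := by rw [(hcw.pow_left k).eq]
      _ = (v ^ k * v) * (w ^ k * w) * (c ^ k * c ^ m) := by simp only [mul_assoc]
      _ = v ^ (k + 1) * w ^ (k + 1) * c ^ (m + k) := by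
        rw [← pow_succ, ← pow_succ, ← pow_add, add_comm k m]

theorem exists_order_p_odd [Finite G] {p : ℕ} [hp : Fact p.Prime] (hp2 : p ≠ 2)
    {E : Subgroup G} {z : G} (hE : ESP p E z) (hcard : p < Nat.card E) :
    ∃ x ∈ E, x ∉ zpowers z ∧ x ^ p = 1 := by
  obtain ⟨a, ha, haz⟩ := hE.exists_not_mem hcard
  obtain ⟨b, hb, hab⟩ := hE.nondeg a ha haz
  by_cases hap : a ^ p = 1
  · exact ⟨a, ha, haz, hap⟩
  have hgen : zpowers (a ^ p) = zpowers z := zpowers_eq_of_mem hE.pow hE.ne (hE.ppow a ha) hap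
  have hbp : b ^ p ∈ zpowers (a ^ p) := by rw [hgen]; exact hE.ppow b hb
  obtain ⟨k, hk⟩ := mem_zpowers_iff.mp hbp
  obtain ⟨v, hv⟩ : ∃ v : G, v = a ^ (-k) := ⟨_, rfl⟩
  have hvE : v ∈ E := by rw [hv]; exact E.zpow_mem ha _
  obtain ⟨c, hcdef⟩ : ∃ c : G, c = ⁅b⁻¹, v⁻¹⁆ := ⟨_, rfl⟩
  have hcZ : c ∈ zpowers z := by
    rw [hcdef]; exact hE.comm _ (E.inv_mem hb) _ (E.inv_mem hvE)
  have hc1 : b * v = v * b * c := by rw [hcdef, commutatorElement_def]; group
  have hcv : Commute c v := (hE.zcomm c hcZ v hvE).symm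
  have hcb : Commute c b := (hE.zcomm c hcZ b hb).symm
  have hpow := pow_mul_classTwo v b c hc1 hcv hcb p
  have hsum : c ^ (∑ i ∈ Finset.range p, i) = 1 := by
    have h2 : p ∣ ∑ i ∈ Finset.range p, i := by
      have h3 : p ∣ (∑ i ∈ Finset.range p, i) * 2 := by
        rw [Finset.sum_range_id_mul_two]; exact dvd_mul_right p _
      rcases (Nat.Prime.dvd_mul hp.out).mp h3 with h | h
      · exact h
      · exact absurd ((Nat.prime_dvd_prime_iff_eq hp.out Nat.prime_two).mp h) hp2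
    obtain ⟨q, hq⟩ := h2
    rw [hq, pow_mul, hE.zpow_p c hcZ, one_pow]
  have hvp : v ^ p = (b ^ p)⁻¹ := by
    rw [← hk, hv, ← zpow_natCast (a ^ (-k)) p, ← zpow_mul, ← zpow_natCast a p, ← zpow_mul,
      ← zpow_neg]
    congr 1
    ring
  refine ⟨v * b, E.mul_mem hvE hb, ?_, ?_⟩
  · intro hmem
    have h1 := hE.zcomm _ hmem a ha
    have h2 : a * v = v * a := by
      rw [hv]; exact ((Commute.refl a).zpow_right (-k)).eq
    apply hab
    have h3 : v * (a * b) = v * (b * a) := by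
      calc v * (a * b) = a * (v * b) := by rw [← mul_assoc, ← h2, mul_assoc]
        _ = v * b * a := h1
        _ = v * (b * a) := mul_assoc _ _ _
    exact mul_left_cancel h3
  · rw [hpow, hsum, mul_one, hvp, inv_mul_cancel]

theorem exists_invol [Finite G] {E : Subgroup G} {z : G} (hE : ESP 2 E z)
    (hcard : 2 ^ 5 ≤ Nat.card E) : ∃ x ∈ E, x ∉ zpowers z ∧ x ^ 2 = 1 := by
  have : Fact (Nat.Prime 2) := ⟨Nat.prime_two⟩
  have hcard' : 32 ≤ Nat.card E := by norm_num at hcard; exact hcard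
  obtain ⟨a, ha, haz⟩ := hE.exists_not_mem (by omega : 2 < Nat.card E)
  obtain ⟨b, hb, hab⟩ := hE.nondeg a ha haz
  by_cases ha2 : a ^ 2 = 1
  · exact ⟨a, ha, haz, ha2⟩
  have hz2 : ∀ c ∈ zpowers z, c = 1 ∨ c = z := fun c hc => sq_mem_zpowers hE.pow hc
  have ha2z : a ^ 2 = z := (hz2 _ (hE.ppow a ha)).resolve_left ha2
  have habz : ⁅a, b⁆ = z := (hz2 _ (hE.comm a ha b hb)).resolve_left
    (fun h => hab (commutatorElement_eq_one_iff_mul_comm.mp h))
  have hsub := hE.sub ha hb habz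
  have hc1 := card_le_mul_cent E a z hE.card_zpowers (fun e he => hE.comm e he a ha)
  have hc2 := card_le_mul_cent (E ⊓ centralizer {a}) b z hE.card_zpowers
    (fun e he => hE.comm e (mem_inf.mp he).1 b hb)
  have h8 : 2 < Nat.card ↥(E ⊓ centralizer {a} ⊓ centralizer {b}) := by omega
  obtain ⟨c, hc, hcz⟩ := hsub.exists_not_mem h8
  have hcE : c ∈ E := (mem_inf.mp (mem_inf.mp hc).1).1
  by_cases hc2' : c ^ 2 = 1
  · exact ⟨c, hcE, hcz, hc2'⟩
  have hc2z : c ^ 2 = z := (hz2 _ (hE.ppow c hcE)).resolve_left hc2'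
  have hca : a * c = c * a := mem_centralizer_single.mp (mem_inf.mp (mem_inf.mp hc).1).2
  have hcb : b * c = c * b := mem_centralizer_single.mp (mem_inf.mp hc).2
  refine ⟨a * c, E.mul_mem ha hcE, ?_, ?_⟩
  · intro hmem
    have h1 := hE.zcomm _ hmem b hb
    apply hab
    have h3 : (a * b) * c = (b * a) * c := by
      calc (a * b) * c = a * (c * b) := by rw [mul_assoc, hcb]
        _ = (a * c) * b := (mul_assoc _ _ _).symm
        _ = b * (a * c) := h1.symm
        _ = (b * a) * c := (mul_assoc _ _ _).symm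
    exact mul_right_cancel h3
  · rw [(show Commute a c from hca).mul_pow, ha2z, hc2z, ← pow_two, hE.pow]

/-- The base of the induction: `z` fixed-point-free of order `p` on `V ≠ 1`. -/
theorem base [Finite G] {p r n : ℕ} [hp : Fact p.Prime] [hr : Fact r.Prime]
    (hmin : ∀ k : ℕ, 1 ≤ k → p ∣ r ^ k - 1 → n ≤ k) {E V : Subgroup G} {z : G}
    (hE : ESP p E z) (hA : Act r E V z) : r ^ n ≤ Nat.card V := by
  obtain ⟨d, hd1, hd⟩ := hA.card_eq
  have hzN := hA.norm hE.mem
  have hmod : Nat.card V ≡ 1 [MOD p] := by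
    apply card_modEq_one_of_fpf (V.normalizerMonoidHom ⟨z, hzN⟩)
    · have h1 : (⟨z, hzN⟩ : normalizer (V : Set G)) ^ p = 1 :=
        Subtype.ext (by rw [Subgroup.coe_pow]; exact hE.pow)
      rw [← map_pow, h1, map_one]
    · intro v hv
      have h1 : z * v * z⁻¹ = v := congrArg Subtype.val hv
      exact Subtype.ext (hA.fpf v v.2 (mul_inv_eq_iff_eq_mul.mp h1))
  have hdvd : p ∣ r ^ d - 1 := by
    rw [← hd]
    exact (Nat.modEq_iff_dvd' Nat.card_pos).mp hmod.symm
  rw [hd]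
  exact Nat.pow_le_pow_right hr.out.pos (hmin d hd1 hdvd)

/-- The quaternion-like case: a nonabelian `E` with `[E,E] = ⟨z⟩` cannot act on a cyclic `V`. -/
theorem direct2 [Finite G] {r : ℕ} [hr : Fact r.Prime] {E V : Subgroup G} {z : G}
    (hE : ESP 2 E z) (hA : Act r E V z) (hcard : 2 < Nat.card E) : r ^ 2 ≤ Nat.card V := by
  have : Fact (Nat.Prime 2) := ⟨Nat.prime_two⟩
  obtain ⟨d, hd1, hd⟩ := hA.card_eq
  rw [hd]
  apply Nat.pow_le_pow_right hr.out.pos
  by_contra hlt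
  have hd' : d = 1 := by omega
  rw [hd', pow_one] at hd
  have : IsCyclic V := isCyclic_of_prime_card hd
  obtain ⟨a, ha, haz⟩ := hE.exists_not_mem hcard
  obtain ⟨b, hb, hab⟩ := hE.nondeg a ha haz
  have hz2 : ∀ c ∈ zpowers z, c = 1 ∨ c = z := fun c hc => sq_mem_zpowers hE.pow hc
  have habz : ⁅a, b⁆ = z := (hz2 _ (hE.comm a ha b hb)).resolve_left
    (fun h => hab (commutatorElement_eq_one_iff_mul_comm.mp h))
  obtain ⟨φ, hφ⟩ : ∃ φ : normalizer (V : Set G) →* MulAut V, φ = V.normalizerMonoidHom :=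
    ⟨_, rfl⟩
  obtain ⟨a', ha'⟩ : ∃ a' : normalizer (V : Set G), (a' : G) = a := ⟨⟨a, hA.norm ha⟩, rfl⟩
  obtain ⟨b', hb'⟩ : ∃ b' : normalizer (V : Set G), (b' : G) = b := ⟨⟨b, hA.norm hb⟩, rfl⟩
  have hcomm : φ a' * φ b' = φ b' * φ a' := by
    apply (IsCyclic.mulAutMulEquiv V).injective
    rw [map_mul, map_mul, mul_comm]
  have hz' : φ ⁅a', b'⁆ = 1 := by
    rw [map_commutatorElement]
    exact commutatorElement_eq_one_iff_mul_comm.mpr hcomm
  have hzc : ((⁅a', b'⁆ : normalizer (V : Set G)) : G) = z := by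
    rw [← habz, ← ha', ← hb']
    rfl
  obtain ⟨⟨v, hvV⟩, hv1⟩ := (Subgroup.ne_bot_iff_exists_ne_one).mp hA.ne
  apply hv1
  apply Subtype.ext
  apply hA.fpf v hvV
  have h3 : (φ ⁅a', b'⁆) ⟨v, hvV⟩ = ⟨v, hvV⟩ := by rw [hz']; rfl
  have h4 : z * v * z⁻¹ = v := by
    have := congrArg Subtype.val h3
    rw [hφ] at this
    rw [← hzc]
    exact this
  exact mul_inv_eq_iff_eq_mul.mp h4

/-- The inductive step, given a noncentral `x` of order `p` and `y` with `[x,y] = z`. -/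
theorem stepA [Finite G] {p r n w : ℕ} [hp : Fact p.Prime] [hr : Fact r.Prime] (hpr : p ≠ r)
    {E V : Subgroup G} {z x y : G} (hE : ESP p E z) (hA : Act r E V z) (hx : x ∈ E)
    (hy : y ∈ E) (hxp : x ^ p = 1) (hxy : ⁅x, y⁆ = z)
    (ih : ∀ (E V : Subgroup G) (z : G), ESP p E z → Act r E V z →
      p ^ (2 * w + 1) ≤ Nat.card E → r ^ (n * p ^ w) ≤ Nat.card V)
    (hcard : p ^ (2 * (w + 1) + 1) ≤ Nat.card E) : r ^ (n * p ^ (w + 1)) ≤ Nat.card V := by
  have hsub := hE.sub hx hy hxy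
  have hc1 := card_le_mul_cent E x z hE.card_zpowers (fun e he => hE.comm e he x hx)
  have hc2 := card_le_mul_cent (E ⊓ centralizer {x}) y z hE.card_zpowers
    (fun e he => hE.comm e (mem_inf.mp he).1 y hy)
  have hcardE1 : p ^ (2 * w + 1) ≤ Nat.card ↥(E ⊓ centralizer {x} ⊓ centralizer {y}) := by
    have h1 : p ^ (2 * (w + 1) + 1) = p * (p * p ^ (2 * w + 1)) := by ring
    have h2 : p * (p * p ^ (2 * w + 1)) ≤
        p * (p * Nat.card ↥(E ⊓ centralizer {x} ⊓ centralizer {y})) := by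
      rw [← h1]
      calc p ^ (2 * (w + 1) + 1) ≤ Nat.card E := hcard
        _ ≤ p * Nat.card ↥(E ⊓ centralizer {x}) := hc1
        _ ≤ p * (p * Nat.card ↥(E ⊓ centralizer {x} ⊓ centralizer {y})) :=
            Nat.mul_le_mul_left p hc2
    exact Nat.le_of_mul_le_mul_left (Nat.le_of_mul_le_mul_left h2 hp.out.pos) hp.out.pos
  have hxz : x * z = z * x := hE.central x hx
  have hyz : y * z = z * y := hE.central y hy
  obtain ⟨hpow, hne⟩ := card_fix_pow_le hp.out V hA.comm (hA.torsion_free hpr) x y z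
    (hA.norm hx) (hA.norm hy) (hA.norm hE.mem) hxz hyz
    (by rw [← hxy, commutatorElement_def]) hxp hE.pow hA.fpf hA.ne
  have hA1 : Act r (E ⊓ centralizer {x} ⊓ centralizer {y}) (V ⊓ centralizer {x}) z := by
    refine ⟨fun u hu v hv => hA.comm u (mem_inf.mp hu).1 v (mem_inf.mp hv).1,
      fun v hv => hA.exp v (mem_inf.mp hv).1, ?_, fun v hv => hA.fpf v (mem_inf.mp hv).1, hne⟩
    apply le_normalizer_of_conj_mem
    intro e he v hv
    have heE : e ∈ E := (mem_inf.mp (mem_inf.mp he).1).1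
    have hex : Commute x e := mem_centralizer_single.mp (mem_inf.mp (mem_inf.mp he).1).2
    have hvV := (mem_inf.mp hv).1
    have hvx : Commute x v := mem_centralizer_single.mp (mem_inf.mp hv).2
    refine mem_inf.mpr ⟨(mem_normalizer_iff.mp (hA.norm heE) v).mp hvV, ?_⟩
    rw [mem_centralizer_single]
    exact ((hex.mul_right hvx).mul_right hex.inv_right).eq
  have h3 := ih _ _ z hsub hA1 hcardE1
  calc r ^ (n * p ^ (w + 1)) = (r ^ (n * p ^ w)) ^ p := by
        rw [← pow_mul, pow_succ, mul_assoc]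
    _ ≤ Nat.card ↥(V ⊓ centralizer {x}) ^ p := Nat.pow_le_pow_left h3 p
    _ ≤ Nat.card V := hpow

theorem claim [Finite G] {p r n : ℕ} [hp : Fact p.Prime] [hr : Fact r.Prime] (hpr : p ≠ r)
    (hn : 1 ≤ n) (hmin : ∀ k : ℕ, 1 ≤ k → p ∣ r ^ k - 1 → n ≤ k) :
    ∀ (w : ℕ) (E V : Subgroup G) (z : G), ESP p E z → Act r E V z →
      p ^ (2 * w + 1) ≤ Nat.card E → r ^ (n * p ^ w) ≤ Nat.card V := by
  intro w
  induction w with
  | zero =>
    intro E V z hE hA _
    rw [pow_zero, mul_one]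
    exact base hmin hE hA
  | succ w ih =>
    intro E V z hE hA hcard
    by_cases hcase : p = 2 ∧ w = 0
    · obtain ⟨hp2, hw0⟩ := hcase
      subst hp2
      subst hw0
      have hr2 : r % 2 = 1 := (hr.out.eq_two_or_odd).resolve_left (fun h => hpr h.symm)
      have hn1 : n = 1 := by
        have h1 : 2 ∣ r ^ 1 - 1 := by
          rw [pow_one]
          exact Nat.dvd_of_mod_eq_zero (by omega)
        have := hmin 1 le_rfl h1
        omega
      have hcard' : 2 < Nat.card E := by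
        norm_num at hcard
        omega
      have h2 := direct2 hE hA hcard'
      rw [hn1]
      norm_num
      exact h2
    · have hx : ∃ x ∈ E, x ∉ zpowers z ∧ x ^ p = 1 := by
        by_cases hp2 : p = 2
        · subst hp2
          have hw : 1 ≤ w := by
            rcases Nat.eq_zero_or_pos w with h | h
            · exact absurd ⟨rfl, h⟩ hcase
            · exact h
          exact exists_invol hE
            (le_trans (Nat.pow_le_pow_right (by norm_num) (by omega)) hcard)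
        · apply exists_order_p_odd hp2 hE
          have h1 : p ^ 1 < p ^ (2 * (w + 1) + 1) :=
            Nat.pow_lt_pow_right hp.out.one_lt (by omega)
          rw [pow_one] at h1
          exact lt_of_lt_of_le h1 hcard
      obtain ⟨x, hxE, hxz, hxp⟩ := hx
      obtain ⟨y, hyE, hxy⟩ := hE.nondeg x hxE hxz
      have hcZ : ⁅x, y⁆ ∈ zpowers z := hE.comm x hxE y hyE
      have hc1 : ⁅x, y⁆ ≠ 1 := fun h => hxy (commutatorElement_eq_one_iff_mul_comm.mp h)
      have hE' := hE.change hcZ hc1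
      have hzc : z ∈ zpowers ⁅x, y⁆ := by
        rw [zpowers_eq_of_mem hE.pow hE.ne hcZ hc1]
        exact mem_zpowers z
      have hA' := hA.change hzc
      exact stepA hpr hE' hA' hxE hyE hxp rfl ih hcard

/-- An extraspecial subgroup satisfies the elementwise axioms. -/
theorem esp_of_extraspecial [Finite G] {p : ℕ} [hp : Fact p.Prime] (E : Subgroup G)
    (hE : IsExtraspecial p E) : ∃ z : G, ESP p E z := by
  have hc := hE.2
  have hnt : Nontrivial (center E) := by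
    rw [← Finite.one_lt_card_iff_nontrivial, hc]
    exact hp.out.one_lt
  obtain ⟨⟨z', hz'⟩, hz1⟩ := exists_ne (1 : center E)
  have hz1' : z' ≠ 1 := fun h => hz1 (Subtype.ext h)
  have hzp : z' ^ p = 1 := by
    have h1 : (⟨z', hz'⟩ : center E) ^ Nat.card (center E) = 1 := pow_card_eq_one'
    rw [hc] at h1
    exact congrArg Subtype.val h1
  have hcen : center E = zpowers z' := by
    symm
    apply Subgroup.eq_of_le_of_card_ge (zpowers_le.mpr hz')
    rw [hc, Nat.card_zpowers, orderOf_eq_prime hzp hz1']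
  have htr : ∀ g : E, g ∈ zpowers z' → (g : G) ∈ zpowers (z' : G) := by
    intro g hg
    obtain ⟨k, rfl⟩ := mem_zpowers_iff.mp hg
    exact mem_zpowers_iff.mpr ⟨k, (Subgroup.coe_zpow E z' k).symm⟩
  refine ⟨(z' : G), z'.2, fun h => hz1' (Subtype.ext h), ?_, ?_, ?_, ?_, ?_⟩
  · have := congrArg Subtype.val hzp
    rwa [Subgroup.coe_pow] at this
  · intro a ha
    have := Subgroup.mem_center_iff.mp hz' ⟨a, ha⟩
    exact congrArg Subtype.val this
  · intro a ha b hb
    have h1 : ⁅(⟨a, ha⟩ : E), ⟨b, hb⟩⁆ ∈ zpowers z' := by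
      rw [← hcen, ← hE.1.2.2, _root_.commutator_def]
      exact Subgroup.commutator_mem_commutator (mem_top _) (mem_top _)
    exact htr _ h1
  · intro a ha
    have h1 : (⟨a, ha⟩ : E) ^ p ∈ zpowers z' := by
      rw [← hcen, ← hE.1.2.1]
      exact Cfsg.Agent.Lib.Helper1.IsPGroup.pow_mem_frattini hE.1.1 _
    have := htr _ h1
    rwa [Subgroup.coe_pow] at this
  · intro a ha haz
    have h1 : (⟨a, ha⟩ : E) ∉ center E := by
      rw [hcen]
      intro h
      exact haz (htr _ h)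
    rw [Subgroup.mem_center_iff] at h1
    push Not at h1
    obtain ⟨g, hg⟩ := h1
    exact ⟨g, g.2, fun h => hg (Subtype.ext h.symm)⟩

/-- Let p and r be distinct primes, let E be an extraspecial subgroup of order p^(2w+1) of a finite group, and let A be an elementary abelian r-subgroup normalized by E on which E acts faithfully (C_E(A) = 1). If n ≥ 1 is least with p dividing rⁿ − 1 (the smallest dimension of a faithful representation of a group of order p over the field with r elements), then the order of A is at least r^(n·p^w). -/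
theorem result {G : Type*} [Group G] [Finite G] {p r : ℕ} [Fact p.Prime] [hr : Fact r.Prime] (hpr : p ≠ r) (E A : Subgroup G) (w : ℕ) (hE : Cfsg.IsExtraspecial p ↥E) (hEcard : Nat.card ↥E = p ^ (2 * w + 1)) (hA : Cfsg.IsElementaryAbelian r A) (hnorm : E ≤ Subgroup.normalizer (A : Set G)) (hfaith : E ⊓ Subgroup.centralizer (A : Set G) = ⊥) (n : ℕ) (hn : 1 ≤ n) (hdiv : p ∣ r ^ n - 1) (hmin : ∀ k : ℕ, 1 ≤ k → p ∣ r ^ k - 1 → n ≤ k) : r ^ (n * p ^ w) ≤ Nat.card ↥A := by
  have hp : Fact p.Prime := inferInstance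
  obtain ⟨z, hES⟩ := esp_of_extraspecial E hE
  have hAc : ∀ u ∈ A, ∀ v ∈ A, u * v = v * u := fun u hu v hv =>
    congrArg Subtype.val (hA.1.is_comm.comm ⟨u, hu⟩ ⟨v, hv⟩)
  have hpA : ∀ a ∈ A, a ^ p = 1 → a = 1 := fun a ha h =>
    eq_one_of_pow_pow hp.out hr.out hpr h (hA.2 a ha)
  have hzN : z ∈ normalizer (A : Set G) := hnorm hES.mem
  have hnc : ∃ a ∈ A, z * a ≠ a * z := by
    by_contra hcon
    push Not at hcon
    have h1 : z ∈ E ⊓ centralizer (A : Set G) :=
      mem_inf.mpr ⟨hES.mem, mem_centralizer_iff.mpr fun a ha => (hcon a ha).symm⟩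
    rw [hfaith, mem_bot] at h1
    exact hES.ne h1
  obtain ⟨V, hVA, hVne, hVfpf, hVinv⟩ := exists_fpf_sub A hAc hpA z hzN hES.pow hnc
  have hAct : Act r E V z :=
    ⟨fun u hu v hv => hAc u (hVA hu) v (hVA hv), fun v hv => hA.2 v (hVA hv),
      le_normalizer_of_conj_mem
        (fun e he v hv => hVinv e (hnorm he) (hES.central e he) v hv), hVfpf, hVne⟩
  calc r ^ (n * p ^ w) ≤ Nat.card V := claim hpr hn hmin w E V z hES hAct hEcard.ge
    _ ≤ Nat.card A := Subgroup.card_le_of_le hVA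

end Cfsg.Agent.S2912
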