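import Cfsg.Statements.S2922
import Cfsg.Agent.Lib.Helper9.GfsP

set_option autoImplicit false
open Cfsg

namespace Cfsg.Agent.S2922

open Cfsg.Agent.Lib.Helper9

/-- Let p be a prime, X a finite group, B a p-subgroup of X and C a normal subgroup of B. If N_X(C) has characteristic p (its generalized Fitting subgroup is O_p(N_X(C))), then N_X(B) and C_X(B) have characteristic p. -/
theorem result {X : Type*} [Group X] [Finite X] {p : ℕ} [Fact p.Prime] (B C : Subgroup X) (hB : IsPGroup p ↥B) (hCB : C ≤ B) (hCn : (C.subgroupOf B).Normal) (hC : Cfsg.generalizedFittingSubgroup ↥(Subgroup.normalizer (C : Set X)) = Cfsg.pCore p ↥(Subgroup.normalizer (C : Set X))) : Cfsg.generalizedFittingSubgroup ↥(Subgroup.normalizer (B : Set X)) = Cfsg.pCore p ↥(Subgroup.normalizer (B : Set X)) ∧ Cfsg.generalizedFittingSubgroup ↥(Subgroup.centralizer (B : Set X)) = Cfsg.pCore p ↥(Subgroup.centralizer (B : Set X)) := by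
  set Y : Subgroup X := Subgroup.normalizer (C : Set X) with hYdef
  set K : Subgroup X := Subgroup.normalizer (B : Set X) with hKdef
  have hY : IsPGroup p ↥(Cfsg.generalizedFittingSubgroup ↥Y) := isPGroup_gfs_of_eq_pCore hC
  have hBY : B ≤ Y := (Subgroup.normal_subgroupOf_iff_le_normalizer hCB).mp hCn
  have h2 : IsPGroup p ↥(Cfsg.generalizedFittingSubgroup ↥(K ⊓ Y)) :=
    isPGroup_gfs_normalizer_inf hBY hB hY
  -- step 3
  set M : Subgroup ↥K := (K ⊓ Y).subgroupOf K with hMdef
  have hM : IsPGroup p ↥(Cfsg.generalizedFittingSubgroup ↥M) :=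
    isPGroup_gfs_of_mulEquiv (Subgroup.subgroupOfEquivOfLe (inf_le_left : K ⊓ Y ≤ K)).symm h2
  have hBK : B ≤ K := Subgroup.le_normalizer
  have hBn : (B.subgroupOf K).Normal := (Subgroup.normal_subgroupOf_iff_le_normalizer hBK).mpr le_rfl
  have hBO : B.subgroupOf K ≤ pCore p ↥K :=
    Cfsg.Agent.Lib.Helper1.le_pCore hBn hB.comap_subtype
  have hcent : Subgroup.centralizer (pCore p ↥K : Set ↥K) ≤ M := by
    intro h hh
    rw [hMdef, Subgroup.mem_subgroupOf]
    refine ⟨h.2, ?_⟩
    -- h centralizes C, so normalizes it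
    apply Subgroup.centralizer_le_normalizer (C : Set X)
    rw [Subgroup.mem_centralizer_iff]
    intro c hc
    have hcK : c ∈ K := hBK (hCB hc)
    have hcO : (⟨c, hcK⟩ : ↥K) ∈ pCore p ↥K := hBO (Subgroup.mem_subgroupOf.mpr (hCB hc))
    have := (Subgroup.mem_centralizer_iff.mp hh) _ hcO
    exact congrArg Subtype.val this
  have hK : IsPGroup p ↥(Cfsg.generalizedFittingSubgroup ↥K) :=
    isPGroup_gfs_of_centralizer_pCore_le M hcent hM
  refine ⟨gfs_eq_pCore_of_isPGroup hK, ?_⟩
  apply gfs_eq_pCore_of_isPGroup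
  exact isPGroup_gfs_of_normal_le (Subgroup.centralizer_le_normalizer (B : Set X))
    (Subgroup.normal_subgroupOf_centralizer_normalizer (B : Set X)) hK

end Cfsg.Agent.S2922
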