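import Mathlib
import Cfsg.Statements.S2924
import Cfsg.Agent.Lib.Helper17.S2924Commute
import Cfsg.Agent.Lib.Helper17.S2924Transport
import Cfsg.Agent.Lib.Helper10.S2924FO7

set_option autoImplicit false
open Cfsg

namespace Cfsg.Agent.S2924

open Cfsg.Agent.Lib.Helper17.S2924

/-- Let X be a finite group and Y an elementary abelian 2-subgroup of X of order at least 8 such that C_X(x) has no components (E(C_X(x)) = 1) for every nontrivial x ∈ Y, and F*(C_X(z)) = O₂(C_X(z)) for some nontrivial z ∈ Y. Then the subgroup generated by the cores O(C_X(y)), y ∈ Y nontrivial, has odd order and is normalized by N_X(Y). -/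
theorem result {X : Type*} [Group X] [Finite X] (Y : Subgroup X) (hY : Cfsg.IsElementaryAbelian 2 Y) (h8 : 8 ≤ Nat.card ↥Y) (hE : ∀ x ∈ Y, x ≠ 1 → Cfsg.layer ↥(Subgroup.centralizer ({x} : Set X)) = ⊥) (hz : ∃ z ∈ Y, z ≠ 1 ∧ Cfsg.generalizedFittingSubgroup ↥(Subgroup.centralizer ({z} : Set X)) = Cfsg.pCore 2 ↥(Subgroup.centralizer ({z} : Set X))) : Odd (Nat.card ↥(⨆ y : {y : X // y ∈ Y ∧ y ≠ 1}, (Cfsg.oddCore ↥(Subgroup.centralizer ({(y : X)} : Set X))).map (Subgroup.centralizer ({(y : X)} : Set X)).subtype)) ∧ Subgroup.normalizer (Y : Set X) ≤ Subgroup.normalizer ((⨆ y : {y : X // y ∈ Y ∧ y ≠ 1}, (Cfsg.oddCore ↥(Subgroup.centralizer ({(y : X)} : Set X))).map (Subgroup.centralizer ({(y : X)} : Set X)).subtype : Subgroup X) : Set X) := by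
  obtain ⟨z, hzY, hz1, hzC⟩ := hz
  have ord2 : ∀ u ∈ Y, u ≠ 1 → orderOf u = 2 := fun u hu hu1 =>
    orderOf_eq_prime (hY.2 u hu) hu1
  have hYc : ∀ s ∈ Y, ∀ t ∈ Y, s * t = t * s := by
    intro s hs t ht
    have := hY.1.is_comm.comm (⟨s, hs⟩ : ↥Y) ⟨t, ht⟩
    exact congrArg Subtype.val this
  have hinv : ∀ u ∈ Y, u ≠ 1 → ∀ a ∈ th u, z * a * z⁻¹ = a⁻¹ := fun u hu hu1 =>
    th_inverted z u (ord2 z hzY hz1) (ord2 u hu hu1) (hYc z hzY u hu) hzC
  have hab : ∀ u ∈ Y, u ≠ 1 → ∀ a ∈ th u, ∀ b ∈ th u, a * b = b * a := by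
    intro u hu hu1 a ha b hb
    have h1 := hinv u hu hu1 (a * b) (mul_mem ha hb)
    have h2 := hinv u hu hu1 a ha
    have h3 := hinv u hu hu1 b hb
    have h4 : z * (a * b) * z⁻¹ = (z * a * z⁻¹) * (z * b * z⁻¹) := by group
    rw [h4, h2, h3, mul_inv_rev] at h1
    have h5 := congrArg (fun w => w⁻¹) h1
    simpa using h5.symm
  have hbal : ∀ x ∈ Y, x ≠ 1 → ∀ u ∈ Y, u ≠ 1 →
      th x ⊓ Subgroup.centralizer ({u} : Set X) ≤ th u := fun x hx hx1 u hu hu1 =>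
    th_balance z x u (ord2 z hzY hz1) (ord2 x hx hx1) (ord2 u hu hu1) (hYc z hzY u hu)
      (hYc z hzY x hx) (hYc x hx u hu) hzC (hE u hu hu1)
  have hcomm := th_commute Y hY h8 hab hbal
  refine ⟨?_, Cfsg.Agent.Lib.Helper10.S2924FO7.normalizer_le_normalizer_iSup_th Y⟩
  apply odd_card_iSup_of_commute (fun y : {y : X // y ∈ Y ∧ y ≠ 1} => th (y : X))
  · intro i; exact odd_card_th _
  · intro i j a ha b hb
    exact hcomm i.1 j.1 i.2.1 i.2.2 j.2.1 j.2.2 a ha b hb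

end Cfsg.Agent.S2924
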