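import Cfsg.Statements.S2925
import Cfsg.Agent.S0542
import Cfsg.Agent.Lib.Helper9.Layer2
import Cfsg.Agent.Lib.Helper17.Conj

set_option autoImplicit false
open Cfsg

namespace Cfsg.Agent.S2925

open Cfsg.Agent.Lib.Helper9 Cfsg.Agent.Lib.Helper17
open scoped Pointwise commutatorElement

/-- If an abelian normal subgroup of a Sylow 2-subgroup fails to normalize a component K, then K/Z(K) has abelian Sylow 2-subgroups. -/
theorem result {X : Type*} [Group X] [Finite X] (K : Subgroup X) (hK : Cfsg.IsComponent K) (T : Sylow 2 X) (Y : Subgroup X) (hYT : Y ≤ (T : Subgroup X)) (hYn : (Y.subgroupOf (T : Subgroup X)).Normal) (hYab : IsMulCommutative ↥Y) (hnot : ¬ Y ≤ Subgroup.normalizer (K : Set X)) (P : Sylow 2 (↥K ⧸ Subgroup.center ↥K)) : IsMulCommutative ↥(P : Subgroup (↥K ⧸ Subgroup.center ↥K)) := by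
  obtain ⟨a, haY, haK⟩ := SetLike.not_le_iff_exists.mp hnot
  have hK' : Cfsg.IsComponent (K.map (MulAut.conj a).toMonoidHom) := isComponent_conj hK a
  have hne : K ≠ K.map (MulAut.conj a).toMonoidHom := by
    intro h
    exact haK (mem_normalizer_of_map_conj_eq h.symm)
  have hcomm : ⁅K, K.map (MulAut.conj a).toMonoidHom⁆ = ⊥ :=
    comp_commutator_eq_bot_of_ne hK hK' hne
  have hc : ∀ k ∈ K, ∀ k' ∈ K, k * (a * k' * a⁻¹) = (a * k' * a⁻¹) * k := by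
    intro k hk k' hk'
    have h1 : ⁅k, a * k' * a⁻¹⁆ ∈ ⁅K, K.map (MulAut.conj a).toMonoidHom⁆ :=
      Subgroup.commutator_mem_commutator hk (conj_mem_map_conj hk')
    rw [hcomm, Subgroup.mem_bot, commutatorElement_def] at h1
    have := congrArg (· * (a * k' * a⁻¹ * k)) h1
    simpa [mul_assoc] using this
  -- the key computation
  have key : ∀ s ∈ K, ∀ t ∈ K, s ∈ (T : Subgroup X) → t ∈ (T : Subgroup X) →
      ∀ k ∈ K, (s⁻¹ * t⁻¹ * s * t) * k = k * (s⁻¹ * t⁻¹ * s * t) := by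
    intro s hsK t htK hsT htT k hk
    have hu : s * a * s⁻¹ * a⁻¹ ∈ Y := by
      have h1 : (⟨s, hsT⟩ : ↥(T : Subgroup X)) * ⟨a, hYT haY⟩ * (⟨s, hsT⟩)⁻¹ ∈
          Y.subgroupOf (T : Subgroup X) :=
        hYn.conj_mem _ (Subgroup.mem_subgroupOf.mpr haY) _
      have h2 : s * a * s⁻¹ ∈ Y := Subgroup.mem_subgroupOf.mp h1
      exact Y.mul_mem h2 (Y.inv_mem haY)
    have hv : t * a * t⁻¹ * a⁻¹ ∈ Y := by
      have h1 : (⟨t, htT⟩ : ↥(T : Subgroup X)) * ⟨a, hYT haY⟩ * (⟨t, htT⟩)⁻¹ ∈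
          Y.subgroupOf (T : Subgroup X) :=
        hYn.conj_mem _ (Subgroup.mem_subgroupOf.mpr haY) _
      have h2 : t * a * t⁻¹ ∈ Y := Subgroup.mem_subgroupOf.mp h1
      exact Y.mul_mem h2 (Y.inv_mem haY)
    have huv : (s * a * s⁻¹ * a⁻¹) * (t * a * t⁻¹ * a⁻¹) =
        (t * a * t⁻¹ * a⁻¹) * (s * a * s⁻¹ * a⁻¹) := by
      have := _root_.mul_comm' (⟨_, hu⟩ : ↥Y) ⟨_, hv⟩
      exact congrArg Subtype.val this
    -- `s⁻¹ t⁻¹ s t = a (t⁻¹ s⁻¹ t s)⁻¹... a⁻¹`-type identity: it lies in `K^a`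
    have h3 : s⁻¹ * t⁻¹ * s * t = a * (t⁻¹ * s⁻¹ * t * s) * a⁻¹ := by
      have e1 := hc s hsK (s⁻¹) (K.inv_mem hsK)
      have e2 := hc t htK (t⁻¹) (K.inv_mem htK)
      have e3 := hc t htK (s⁻¹) (K.inv_mem hsK)
      have e4 := hc s hsK (t⁻¹) (K.inv_mem htK)
      -- s (a s⁻¹ a⁻¹) t (a t⁻¹ a⁻¹) = t (a t⁻¹ a⁻¹) s (a s⁻¹ a⁻¹)
      have h4 : s * t * (a * s⁻¹ * a⁻¹) * (a * t⁻¹ * a⁻¹) =
          t * s * (a * t⁻¹ * a⁻¹) * (a * s⁻¹ * a⁻¹) := by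
        calc s * t * (a * s⁻¹ * a⁻¹) * (a * t⁻¹ * a⁻¹)
            = s * (t * (a * s⁻¹ * a⁻¹)) * (a * t⁻¹ * a⁻¹) := by group
          _ = s * ((a * s⁻¹ * a⁻¹) * t) * (a * t⁻¹ * a⁻¹) := by rw [e3]
          _ = (s * a * s⁻¹ * a⁻¹) * (t * a * t⁻¹ * a⁻¹) := by group
          _ = (t * a * t⁻¹ * a⁻¹) * (s * a * s⁻¹ * a⁻¹) := huv
          _ = t * ((a * t⁻¹ * a⁻¹) * s) * (a * s⁻¹ * a⁻¹) := by group
          _ = t * (s * (a * t⁻¹ * a⁻¹)) * (a * s⁻¹ * a⁻¹) := by rw [e4]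
          _ = t * s * (a * t⁻¹ * a⁻¹) * (a * s⁻¹ * a⁻¹) := by group
      have h5 := congrArg (fun w => s⁻¹ * t⁻¹ * w * (a * t * a⁻¹) * (a * s * a⁻¹)) h4
      have l1 : s⁻¹ * t⁻¹ * (s * t * (a * s⁻¹ * a⁻¹) * (a * t⁻¹ * a⁻¹)) * (a * t * a⁻¹) * (a * s * a⁻¹)
          = s⁻¹ * t⁻¹ * s * t := by group
      have l2 : s⁻¹ * t⁻¹ * (t * s * (a * t⁻¹ * a⁻¹) * (a * s⁻¹ * a⁻¹)) * (a * t * a⁻¹) * (a * s * a⁻¹)
          = a * (t⁻¹ * s⁻¹ * t * s) * a⁻¹ := by group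
      rw [l1, l2] at h5
      exact h5
    rw [h3]
    have h6 : t⁻¹ * s⁻¹ * t * s ∈ K :=
      K.mul_mem (K.mul_mem (K.mul_mem (K.inv_mem htK) (K.inv_mem hsK)) htK) hsK
    exact (hc k hk _ h6).symm
  -- the Sylow 2-subgroup `T ∩ K` of `K`
  obtain ⟨Q, hQ⟩ := Cfsg.Agent.S0542.result 2 K hK.1 T
  have hsurj : Function.Surjective (QuotientGroup.mk' (Subgroup.center ↥K)) :=
    QuotientGroup.mk'_surjective _
  obtain ⟨g, hg⟩ := MulAction.exists_smul_eq (↥K ⧸ Subgroup.center ↥K) (Q.mapSurjective hsurj) P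
  have hP : (P : Subgroup (↥K ⧸ Subgroup.center ↥K)) =
      MulAut.conj g • ((Q : Subgroup ↥K).map (QuotientGroup.mk' (Subgroup.center ↥K))) := by
    rw [← hg, Sylow.coe_subgroup_smul, Sylow.coe_mapSurjective]
  have hQcomm : ∀ x ∈ (Q : Subgroup ↥K).map (QuotientGroup.mk' (Subgroup.center ↥K)),
      ∀ y ∈ (Q : Subgroup ↥K).map (QuotientGroup.mk' (Subgroup.center ↥K)), x * y = y * x := by
    rintro _ ⟨s, hs, rfl⟩ _ ⟨t, ht, rfl⟩
    rw [SetLike.mem_coe, hQ, Subgroup.mem_subgroupOf] at hs ht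
    have h1 : s⁻¹ * t⁻¹ * s * t ∈ Subgroup.center ↥K := by
      rw [Subgroup.mem_center_iff]
      intro k
      apply Subtype.ext
      have := key s s.2 t t.2 hs ht k k.2
      simpa using this.symm
    have h2 : (QuotientGroup.mk' (Subgroup.center ↥K)) (s⁻¹ * t⁻¹ * s * t) = 1 :=
      (QuotientGroup.eq_one_iff _).mpr h1
    rw [map_mul, map_mul, map_mul, map_inv, map_inv] at h2
    have := congrArg (fun w => (QuotientGroup.mk' (Subgroup.center ↥K)) t *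
      (QuotientGroup.mk' (Subgroup.center ↥K)) s * w) h2
    simp only [mul_one] at this
    rw [← this]
    group
  refine ⟨⟨?_⟩⟩
  rintro ⟨x, hx⟩ ⟨y, hy⟩
  apply Subtype.ext
  rw [hP, Subgroup.mem_pointwise_smul_iff_inv_smul_mem] at hx hy
  have := hQcomm _ hx _ hy
  simp only [MulAut.smul_def, MulAut.conj_inv_apply] at this
  change x * y = y * x
  have h7 := congrArg (fun w => g * w * g⁻¹) this
  have l1 : g * (g⁻¹ * x * g * (g⁻¹ * y * g)) * g⁻¹ = x * y := by group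
  have l2 : g * (g⁻¹ * y * g * (g⁻¹ * x * g)) * g⁻¹ = y * x := by group
  rw [l1, l2] at h7
  exact h7
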