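import Mathlib
import Cfsg.Statements.S2934
import Cfsg.Agent.Lib.Helper17.OddAct
import Cfsg.Agent.Lib.Helper17.Frattini
import Cfsg.Agent.Lib.Helper1.Frattini
import Cfsg.Agent.Lib.Helper1.ExtraspecialOrder
import Cfsg.Agent.Lib.Helper25.QuatAut

set_option autoImplicit false
open Cfsg
open Cfsg.Agent.Lib.Helper17.OddAct
open scoped commutatorElement

namespace Cfsg.Agent.S2934

variable {W : Type*} [Group W]

/-- the quaternion-type structure of a fixed-point subgroup -/
def T8 (E : Subgroup (MulAut W)) (X : Subgroup W) (z : W) : Prop :=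
  Nat.card ↥X = 8 ∧
  (∀ x ∈ X, x ≠ 1 → x ≠ z → x ^ 2 = z) ∧
  (∀ x ∈ X, ∀ y ∈ X, x ≠ 1 → x ≠ z → y ≠ 1 → y ≠ z → y ≠ x → y ≠ x * z →
    x * y * x⁻¹ * y⁻¹ = z) ∧
  (∀ e ∈ E, ∀ x ∈ X, x ≠ 1 → x ≠ z → e x = x → ∀ y ∈ X, e y = y)

/-- common fixed points -/
def FixAll (E : Subgroup (MulAut W)) : Subgroup W where
  carrier := {x | ∀ e ∈ E, e x = x}
  mul_mem' := by
    intro a b ha hb e he
    rw [map_mul, ha e he, hb e he]
  one_mem' := by
    intro e _
    exact map_one e
  inv_mem' := by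
    intro a ha e he
    rw [map_inv, ha e he]

theorem char_apply_mem (H : Subgroup W) [hH : H.Characteristic] (e : MulAut W) {x : W}
    (hx : x ∈ H) : e x ∈ H := by
  have h := hH.fixed e
  exact h.ge hx

theorem card_sup_mul_card_inf (H K : Subgroup W) [K.Normal] :
    Nat.card ↥(H ⊔ K) * Nat.card ↥(H ⊓ K) = Nat.card H * Nat.card K := by
  have h1 : Nat.card ↥(H ⊔ K) = Nat.card K * K.relIndex H := by
    calc Nat.card ↥(H ⊔ K) = (⊥ : Subgroup W).relIndex (H ⊔ K) := (Subgroup.relIndex_bot_left _).symm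
      _ = (⊥ : Subgroup W).relIndex K * K.relIndex (H ⊔ K) :=
          (Subgroup.relIndex_mul_relIndex ⊥ K (H ⊔ K) bot_le le_sup_right).symm
      _ = Nat.card K * K.relIndex H := by
          rw [Subgroup.relIndex_bot_left, Subgroup.relIndex_sup_right]
  have h2 : Nat.card H = Nat.card ↥(H ⊓ K) * K.relIndex H := by
    calc Nat.card H = (⊥ : Subgroup W).relIndex H := (Subgroup.relIndex_bot_left _).symm
      _ = (⊥ : Subgroup W).relIndex (H ⊓ K) * (H ⊓ K).relIndex H :=
          (Subgroup.relIndex_mul_relIndex ⊥ (H ⊓ K) H bot_le inf_le_left).symm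
      _ = Nat.card ↥(H ⊓ K) * K.relIndex H := by
          rw [Subgroup.relIndex_bot_left, Subgroup.inf_relIndex_left]
  rw [h1, h2]
  ring

theorem card_sup_le [Finite W] (Z : Subgroup W) (hZ2 : Nat.card Z = 2)
    (hnorm : ∀ H : Subgroup W, Z ≤ H → H.Normal)
    (t : Finset (Subgroup W)) (ht : ∀ Q ∈ t, Z ≤ Q ∧ Nat.card Q ≤ 8) :
    Nat.card ↥(Z ⊔ t.sup id) ≤ 2 * 4 ^ t.card := by
  classical
  induction t using Finset.induction_on with
  | empty =>
    simp [hZ2]
  | insert Q t hQt ih =>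
    have ih' := ih (fun Q' hQ' => ht Q' (Finset.mem_insert_of_mem hQ'))
    obtain ⟨hZQ, hQ8⟩ := ht Q (Finset.mem_insert_self Q t)
    rw [Finset.sup_insert, Finset.card_insert_of_notMem hQt, id, sup_left_comm]
    have hn : (Z ⊔ t.sup id).Normal := hnorm _ le_sup_left
    have hprod := card_sup_mul_card_inf Q (Z ⊔ t.sup id)
    have hZle : Z ≤ Q ⊓ (Z ⊔ t.sup id) := le_inf hZQ le_sup_left
    have h2 : 2 ≤ Nat.card ↥(Q ⊓ (Z ⊔ t.sup id)) := by
      rw [← hZ2]
      exact Subgroup.card_le_of_le hZle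
    have h3 : Nat.card ↥(Q ⊔ (Z ⊔ t.sup id)) * 2 ≤ 8 * Nat.card ↥(Z ⊔ t.sup id) := by
      calc Nat.card ↥(Q ⊔ (Z ⊔ t.sup id)) * 2
          ≤ Nat.card ↥(Q ⊔ (Z ⊔ t.sup id)) * Nat.card ↥(Q ⊓ (Z ⊔ t.sup id)) :=
            Nat.mul_le_mul_left _ h2
        _ = Nat.card Q * Nat.card ↥(Z ⊔ t.sup id) := hprod
        _ ≤ 8 * Nat.card ↥(Z ⊔ t.sup id) := Nat.mul_le_mul_right _ hQ8
    rw [pow_succ]
    omega

theorem exists_mem_ucs_two [Finite W] (hnil : Group.IsNilpotent W) (N : Subgroup W) [hNn : N.Normal]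
    (hN : ¬ N ≤ Subgroup.center W) :
    ∃ x ∈ N, x ∈ Subgroup.upperCentralSeries W 2 ∧ x ∉ Subgroup.center W := by
  classical
  obtain ⟨n, hn⟩ := hnil.nilpotent'
  obtain ⟨x₀, hx₀N, hx₀c⟩ := SetLike.not_le_iff_exists.mp hN
  have hP : ∃ i, ∃ x ∈ N, x ∉ Subgroup.center W ∧ x ∈ Subgroup.upperCentralSeries W (i + 1) := by
    refine ⟨n, x₀, hx₀N, hx₀c, ?_⟩
    have := Subgroup.upperCentralSeries_mono W (Nat.le_succ n)
    apply this
    rw [hn]
    exact Subgroup.mem_top _
  obtain ⟨x, hxN, hxc, hxi⟩ := Nat.find_spec hP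
  rcases hi : Nat.find hP with _ | _ | k
  · exfalso
    rw [hi, zero_add, Subgroup.upperCentralSeries_one] at hxi
    exact hxc hxi
  · rw [hi] at hxi
    exact ⟨x, hxN, by simpa using hxi, hxc⟩
  · exfalso
    rw [hi] at hxi
    have hmin : ¬ (∃ x ∈ N, x ∉ Subgroup.center W ∧ x ∈ Subgroup.upperCentralSeries W (k + 1 + 1)) :=
      Nat.find_min hP (by rw [hi]; omega)
    have hx2 : x ∉ Subgroup.upperCentralSeries W (k + 1 + 1) := fun h => hmin ⟨x, hxN, hxc, h⟩
    rw [Subgroup.mem_upperCentralSeries_succ_iff] at hx2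
    push_neg at hx2
    obtain ⟨y, hy⟩ := hx2
    apply hmin
    refine ⟨⁅x, y⁆, ?_, ?_, ?_⟩
    · rw [commutatorElement_def]
      have : x * y * x⁻¹ * y⁻¹ = x * (y * x⁻¹ * y⁻¹) := by group
      rw [this]
      exact N.mul_mem hxN (hNn.conj_mem _ (N.inv_mem hxN) y)
    · intro hc
      apply hy
      have : Subgroup.center W ≤ Subgroup.upperCentralSeries W (k + 1) := by
        rw [← Subgroup.upperCentralSeries_one]
        exact Subgroup.upperCentralSeries_mono W (by omega)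
      exact this hc
    · exact (Subgroup.mem_upperCentralSeries_succ_iff.mp hxi) y

variable [Finite W]

/-- the working context -/
structure Ctx (W : Type*) [Group W] [Finite W] (p : ℕ) (E : Subgroup (MulAut W)) (z : W) :
    Prop where
  hW : IsPGroup 2 W
  pp : p.Prime
  hp : p ≠ 2
  hE : IsPGroup p ↥E
  hnc : ¬ IsCyclic ↥E
  hcop : (Nat.card ↥E).Coprime (Nat.card W)
  gen : ∀ (K : Subgroup W), (∀ e ∈ E, ∀ x ∈ K, e x ∈ K) → ∀ S : Subgroup W,
    (∀ e ∈ E, e ≠ 1 → K ⊓ Fx e ≤ S) → K ≤ S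
  hz2 : orderOf z = 2
  hzc : z ∈ Subgroup.center W
  hzfix : ∀ e ∈ E, e z = z
  hFA : ∀ x, (∀ e ∈ E, e x = x) → x = 1 ∨ x = z
  hdich : ∀ e ∈ E, e ≠ 1 → (∀ x ∈ Fx e, x = 1 ∨ x = z) ∨ T8 E (Fx e) z
  hFxinv : ∀ e ∈ E, ∀ f ∈ E, ∀ x ∈ Fx e, f x ∈ Fx e
  hex : ∃ e ∈ E, e ≠ 1 ∧ T8 E (Fx e) z

theorem exists_ctx (hW : IsPGroup 2 W) {p : ℕ} [Fact p.Prime] (hp : p ≠ 2)
    (E : Subgroup (MulAut W)) (hE : IsPGroup p ↥E) (hab : IsMulCommutative ↥E)
    (hnc : ¬ IsCyclic ↥E)
    (hfix : ∀ e ∈ E, e ≠ 1 → ∀ x y : W, orderOf x = 2 → orderOf y = 2 → e x = x → e y = y →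
      x = y) :
    ∃ z : W, Ctx W p E z := by
  classical
  have pp : p.Prime := Fact.out
  have hcop : (Nat.card ↥E).Coprime (Nat.card W) := by
    obtain ⟨a, ha⟩ := IsPGroup.iff_card.mp hE
    obtain ⟨b, hb⟩ := IsPGroup.iff_card.mp hW
    rw [ha, hb]
    exact Nat.Coprime.pow _ _ ((Nat.coprime_primes pp Nat.prime_two).mpr hp)
  have hcommE : ∀ e ∈ E, ∀ f ∈ E, e * f = f * e := by
    intro e he f hf
    exact congrArg Subtype.val (mul_comm' (⟨e, he⟩ : ↥E) ⟨f, hf⟩)
  have gen : ∀ (K : Subgroup W), (∀ e ∈ E, ∀ x ∈ K, e x ∈ K) → ∀ S : Subgroup W,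
      (∀ e ∈ E, e ≠ 1 → K ⊓ Fx e ≤ S) → K ≤ S :=
    fun K hK S hS => le_of_inf_Fx_le E hnc hcop K hK S hS
  have hne : ∃ e ∈ E, e ≠ 1 := by
    by_contra h
    push_neg at h
    apply hnc
    have : Subsingleton ↥E := ⟨fun a b => Subtype.ext ((h a a.2).trans (h b b.2).symm)⟩
    exact isCyclic_of_subsingleton
  obtain ⟨e₀, he₀, he₀1⟩ := hne
  have hFxinv : ∀ e ∈ E, ∀ f ∈ E, ∀ x ∈ Fx e, f x ∈ Fx e := by
    intro e he f hf x hx
    rw [mem_Fx] at hx ⊢
    have h1 : e (f x) = (e * f) x := rfl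
    rw [h1, hcommE e he f hf]
    show f (e x) = f x
    rw [hx]
  have hWnt : Nontrivial W := by
    by_contra h
    rw [not_nontrivial_iff_subsingleton] at h
    apply he₀1
    ext x
    exact Subsingleton.elim _ _
  have hcnt : Nontrivial (Subgroup.center W) := hW.center_nontrivial
  have h2dvd : 2 ∣ Nat.card (Subgroup.center W) := by
    rcases (hW.to_subgroup (Subgroup.center W)).card_eq_or_dvd with h | h
    · exfalso
      have := Finite.one_lt_card (α := Subgroup.center W)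
      omega
    · exact h
  obtain ⟨z', hz'⟩ := exists_prime_orderOf_dvd_card' 2 h2dvd
  have hz2 : orderOf (z' : W) = 2 := by
    rw [Subgroup.orderOf_coe]
    exact hz'
  have hzc : (z' : W) ∈ Subgroup.center W := z'.2
  have hzsq : (z' : W) ^ 2 = 1 := by
    have := pow_orderOf_eq_one (z' : W)
    rwa [hz2] at this
  let V : Subgroup W :=
    { carrier := {x | x ∈ Subgroup.center W ∧ x ^ 2 = 1}
      mul_mem' := by
        rintro a b ⟨ha, ha2⟩ ⟨hb, hb2⟩
        refine ⟨Subgroup.mul_mem _ ha hb, ?_⟩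
        have hc : Commute a b := Subgroup.mem_center_iff.mp hb a
        rw [hc.mul_pow, ha2, hb2, one_mul]
      one_mem' := ⟨Subgroup.one_mem _, one_pow 2⟩
      inv_mem' := by
        rintro a ⟨ha, ha2⟩
        exact ⟨Subgroup.inv_mem _ ha, by rw [inv_pow, ha2, inv_one]⟩ }
  have hVinv : ∀ e ∈ E, ∀ x ∈ V, e x ∈ V := by
    rintro e he x ⟨hx, hx2⟩
    exact ⟨char_apply_mem _ e hx, by rw [← map_pow, hx2, map_one]⟩
  have hVFA : V ≤ FixAll E := by
    apply gen V hVinv (FixAll E)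
    intro e he he1 x hx
    obtain ⟨⟨hxc, hx2⟩, hxe⟩ := Subgroup.mem_inf.mp hx
    intro f hf
    by_cases hx1 : x = 1
    · rw [hx1, map_one]
    · have ho : orderOf x = 2 := orderOf_eq_prime hx2 hx1
      have ho' : orderOf (f x) = 2 := by rw [MulEquiv.orderOf_eq, ho]
      have hfe : e (f x) = f x := hFxinv e he f hf x hxe
      exact (hfix e he he1 x (f x) ho ho' hxe hfe).symm
  have hzfix : ∀ e ∈ E, e (z' : W) = z' := hVFA ⟨hzc, hzsq⟩
  have hzuniq : ∀ e ∈ E, e ≠ 1 → ∀ y, e y = y → orderOf y = 2 → y = (z' : W) := by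
    intro e he he1 y hy hoy
    exact hfix e he he1 y z' hoy hz2 hy (hzfix e he)
  have hQ : ∀ e ∈ E, e ≠ 1 → (∀ f ∈ E, ∀ x ∈ Fx e, f x = x) ∨ T8 E (Fx e) (z' : W) := by
    intro e he he1
    exact Cfsg.Agent.Lib.Helper25.QuatAut.quaternion_of_unique_involution hW hp E hE hcommE
      (Fx e) (fun f hf x hx => hFxinv e he f hf x hx) z'
      (hzfix e he) hz2 (fun y hy hoy => hzuniq e he he1 y hy hoy)
  have hex : ∃ e₁ ∈ E, e₁ ≠ 1 ∧ ¬ (∀ f ∈ E, ∀ x ∈ Fx e₁, f x = x) := by
    by_contra h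
    push_neg at h
    have h1 : (⊤ : Subgroup W) ≤ FixAll E := by
      apply gen ⊤ (fun _ _ _ _ => Subgroup.mem_top _) (FixAll E)
      intro e he he1 x hx f hf
      exact h e he he1 f hf x (Subgroup.mem_inf.mp hx).2
    apply he₀1
    ext x
    exact h1 (Subgroup.mem_top x) e₀ he₀
  obtain ⟨e₁, he₁, he₁1, hnt⟩ := hex
  have hT1 : T8 E (Fx e₁) (z' : W) := (hQ e₁ he₁ he₁1).resolve_left hnt
  have hFA : ∀ x, (∀ e ∈ E, e x = x) → x = 1 ∨ x = (z' : W) := by
    intro x hx
    by_contra hcon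
    push_neg at hcon
    apply hnt
    intro f hf y hy
    exact hT1.2.2.2 f hf x (hx e₁ he₁) hcon.1 hcon.2 (hx f hf) y hy
  have hdich : ∀ e ∈ E, e ≠ 1 → (∀ x ∈ Fx e, x = 1 ∨ x = (z' : W)) ∨ T8 E (Fx e) (z' : W) := by
    intro e he he1
    rcases hQ e he he1 with h | h
    · left
      intro x hx
      exact hFA x (fun f hf => h f hf x hx)
    · right
      exact h
  refine ⟨z', ?_⟩
  exact
    { hW := hW
      pp := pp
      hp := hp
      hE := hE
      hnc := hnc
      hcop := hcop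
      gen := gen
      hz2 := hz2
      hzc := hzc
      hzfix := hzfix
      hFA := hFA
      hdich := hdich
      hFxinv := hFxinv
      hex := ⟨e₁, he₁, he₁1, hT1⟩ }

variable {p : ℕ} {E : Subgroup (MulAut W)} {z : W}

theorem Ctx.zsq (c : Ctx W p E z) : z * z = 1 := by
  have := pow_orderOf_eq_one z
  rw [c.hz2, pow_two] at this
  exact this

theorem Ctx.z1 (c : Ctx W p E z) : z ≠ 1 := by
  intro h
  have := c.hz2
  rw [h, orderOf_one] at this
  omega

theorem Ctx.st (c : Ctx W p E z) {f : MulAut W} (hf : f ∈ E) (x : W)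
    (h : f (x⁻¹ * f x) = x⁻¹ * f x) : f x = x :=
  apply_eq_of_apply_comm_eq f (orderOf_coprime_of_mem c.hcop hf) x h

theorem Ctx.exists_moved (c : Ctx W p E z) {u : W} (hu1 : u ≠ 1) (huz : u ≠ z) :
    ∃ f ∈ E, f u ≠ u := by
  by_contra h
  push_neg at h
  rcases c.hFA u h with h1 | h1
  · exact hu1 h1
  · exact huz h1

theorem Ctx.moved (c : Ctx W p E z) {f : MulAut W} (hf : f ∈ E) {u : W} (hu1 : u ≠ 1)
    (huz : u ≠ z) (hfu : f u ≠ u) : f u ≠ 1 ∧ f u ≠ z ∧ f u ≠ u * z := by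
  refine ⟨?_, ?_, ?_⟩
  · intro h
    exact hu1 (f.injective (h.trans (map_one f).symm))
  · intro h
    exact huz (f.injective (h.trans (c.hzfix f hf).symm))
  · intro h
    apply hfu
    apply c.st hf
    rw [h]
    have : u⁻¹ * (u * z) = z := by group
    rw [this]
    exact c.hzfix f hf

theorem Ctx.t8_exists (c : Ctx W p E z) {X : Subgroup W} (hX : T8 E X z) :
    ∃ u ∈ X, u ≠ 1 ∧ u ≠ z := by
  by_contra h
  push_neg at h
  have hle : X ≤ Subgroup.zpowers z := by
    intro x hx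
    by_cases hx1 : x = 1
    · rw [hx1]
      exact Subgroup.one_mem _
    · rw [h x hx hx1]
      exact Subgroup.mem_zpowers z
  have := Subgroup.card_le_of_le hle
  rw [hX.1, Nat.card_zpowers, c.hz2] at this
  omega

theorem Ctx.center_iff (c : Ctx W p E z) (x : W) :
    x ∈ Subgroup.center W ↔ x = 1 ∨ x = z := by
  constructor
  · intro hx
    apply c.hFA
    have hle : Subgroup.center W ≤ FixAll E := by
      apply c.gen _ (fun e _ y hy => char_apply_mem _ e hy)
      intro e he he1 y hy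
      obtain ⟨hyc, hye⟩ := Subgroup.mem_inf.mp hy
      by_contra hyF
      have hex : ∃ f ∈ E, f y ≠ y := by
        by_contra h
        push_neg at h
        exact hyF h
      obtain ⟨f, hf, hfy⟩ := hex
      have hy1 : y ≠ 1 := by
        rintro rfl
        exact hfy (map_one f)
      have hyz : y ≠ z := by
        rintro rfl
        exact hfy (c.hzfix f hf)
      rcases c.hdich e he he1 with hd | hT
      · rcases hd y hye with h | h
        · exact hy1 h
        · exact hyz h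
      · have hm := c.moved hf hy1 hyz hfy
        have hvF : f y ∈ Fx e := c.hFxinv e he f hf y hye
        have hz' : y * f y * y⁻¹ * (f y)⁻¹ = z :=
          hT.2.2.1 y hye (f y) hvF hy1 hyz hm.1 hm.2.1 hfy hm.2.2
        have hcm : f y * y = y * f y := Subgroup.mem_center_iff.mp hyc (f y)
        apply c.z1
        rw [← hz', ← hcm]
        group
    exact hle hx
  · rintro (rfl | rfl)
    · exact Subgroup.one_mem _
    · exact c.hzc

theorem Ctx.center_eq (c : Ctx W p E z) : Subgroup.center W = Subgroup.zpowers z := by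
  apply le_antisymm
  · intro x hx
    rcases (c.center_iff x).mp hx with rfl | rfl
    · exact Subgroup.one_mem _
    · exact Subgroup.mem_zpowers _
  · rw [Subgroup.zpowers_le]
    exact c.hzc

theorem Ctx.card_center (c : Ctx W p E z) : Nat.card (Subgroup.center W) = 2 := by
  rw [c.center_eq, Nat.card_zpowers, c.hz2]

/-- an `E`-invariant subgroup meeting a quaternion-type fixed-point group outside `{1, z}`
contains it -/
theorem Ctx.t8_le (c : Ctx W p E z) {X : Subgroup W} (hX : T8 E X z)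
    (hXinv : ∀ f ∈ E, ∀ x ∈ X, f x ∈ X) (S : Subgroup W) (hSinv : ∀ f ∈ E, ∀ x ∈ S, f x ∈ S)
    {u : W} (huX : u ∈ X) (huS : u ∈ S) (hu1 : u ≠ 1) (huz : u ≠ z) : X ≤ S := by
  classical
  obtain ⟨f, hf, hfu⟩ := c.exists_moved hu1 huz
  obtain ⟨hv1, hvz, hvuz⟩ := c.moved hf hu1 huz hfu
  have hvX : f u ∈ X := hXinv f hf u huX
  have hvS : f u ∈ S := hSinv f hf u huS
  have hu2 : u ^ 2 = z := hX.2.1 u huX hu1 huz
  have hu4 : u ^ 4 = 1 := by
    have h4 : u ^ 4 = (u ^ 2) ^ 2 := by rw [← pow_mul]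
    rw [h4, hu2, pow_two, c.zsq]
  have hou : orderOf u = 4 := by
    have := orderOf_eq_prime_pow (p := 2) (n := 1) (x := u)
      (by rw [pow_one, hu2]; exact c.z1) (by norm_num; exact hu4)
    simpa using this
  have hcardZ : Nat.card (Subgroup.zpowers u) = 4 := by rw [Nat.card_zpowers, hou]
  have hzpY : Subgroup.zpowers u ≤ S ⊓ X := by
    rw [Subgroup.zpowers_le]
    exact ⟨huS, huX⟩
  have hvnot : f u ∉ Subgroup.zpowers u := by
    intro hvm
    rw [mem_zpowers_iff_mem_range_orderOf, hou] at hvm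
    simp only [Finset.mem_image, Finset.mem_range] at hvm
    obtain ⟨k, hk, hkv⟩ := hvm
    interval_cases k
    · exact hv1 (by rw [← hkv, pow_zero])
    · exact hfu (by rw [← hkv, pow_one])
    · exact hvz (by rw [← hkv, hu2])
    · apply hvuz
      rw [← hkv, pow_succ', hu2]
  have hlt : 4 < Nat.card ↥(S ⊓ X) := by
    by_contra hle
    push_neg at hle
    have := Subgroup.eq_of_le_of_card_ge hzpY (by rw [hcardZ]; exact hle)
    apply hvnot
    rw [this]
    exact ⟨hvS, hvX⟩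
  have hdvd : Nat.card ↥(S ⊓ X) ∣ 8 := by
    rw [← hX.1]
    exact Subgroup.card_dvd_of_le inf_le_right
  have h8 : Nat.card ↥(S ⊓ X) = 8 := by
    have hle : Nat.card ↥(S ⊓ X) ≤ 8 := Nat.le_of_dvd (by norm_num) hdvd
    generalize Nat.card ↥(S ⊓ X) = n at hlt hdvd hle
    interval_cases n <;> omega
  have heq : S ⊓ X = X := Subgroup.eq_of_le_of_card_ge inf_le_right (by rw [h8, hX.1])
  intro x hx
  have : x ∈ S ⊓ X := by
    rw [heq]
    exact hx
  exact this.1

/-- orbit counting on a quaternion-type fixed-point group -/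
theorem Ctx.orbit_count (c : Ctx W p E z) {X : Subgroup W} (hX : T8 E X z)
    (hXinv : ∀ f ∈ E, ∀ x ∈ X, f x ∈ X) (hzX : z ∈ X) {u : W} (huX : u ∈ X) (hu1 : u ≠ 1)
    (huz : u ≠ z) :
    p = 3 ∧ Nat.card ↥E = 3 * Nat.card ↥(MulAction.stabilizer ↥E u) := by
  classical
  obtain ⟨f₀, hf₀, hf₀u⟩ := c.exists_moved hu1 huz
  have hOmem : ∀ w ∈ MulAction.orbit ↥E u, ∃ f ∈ E, f u = w := by
    rintro w ⟨g, rfl⟩
    exact ⟨g.1, g.2, rfl⟩
  have hOX : ∀ w ∈ MulAction.orbit ↥E u, w ∈ X ∧ w ≠ 1 ∧ w ≠ z := by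
    intro w hw
    obtain ⟨f, hf, rfl⟩ := hOmem w hw
    refine ⟨hXinv f hf u huX, ?_, ?_⟩
    · intro h
      exact hu1 (f.injective (h.trans (map_one f).symm))
    · intro h
      exact huz (f.injective (h.trans (c.hzfix f hf).symm))
  have hdisj : Disjoint (MulAction.orbit ↥E u) ((· * z) '' (MulAction.orbit ↥E u)) := by
    rw [Set.disjoint_left]
    rintro w hw ⟨w', hw', hww'⟩
    obtain ⟨f, hf, rfl⟩ := hOmem w hw
    obtain ⟨f', hf', rfl⟩ := hOmem w' hw'
    have hww : f' u * z = f u := hww'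
    have hg : (f'⁻¹ * f) ∈ E := E.mul_mem (E.inv_mem hf') hf
    have h1 : (f'⁻¹ * f) u = u * z := by
      show f'⁻¹ (f u) = u * z
      rw [← hww, map_mul, c.hzfix _ (E.inv_mem hf'), MulAut.inv_apply_self]
    have h2 : (f'⁻¹ * f) u = u := by
      apply c.st hg
      rw [h1]
      have : u⁻¹ * (u * z) = z := by group
      rw [this]
      exact c.hzfix _ hg
    rw [h2] at h1
    apply c.z1
    have h3 : u * 1 = u * z := by rw [mul_one]; exact h1
    exact (mul_left_cancel h3).symm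
  have hsub : MulAction.orbit ↥E u ∪ ((· * z) '' (MulAction.orbit ↥E u)) ⊆
      (X : Set W) \ {1, z} := by
    intro w hw
    rcases hw with hw | ⟨w', hw', rfl⟩
    · obtain ⟨h1, h2, h3⟩ := hOX w hw
      exact ⟨h1, by simp [h2, h3]⟩
    · obtain ⟨h1, h2, h3⟩ := hOX w' hw'
      refine ⟨X.mul_mem h1 hzX, ?_⟩
      simp only [Set.mem_insert_iff, Set.mem_singleton_iff, not_or]
      constructor
      · intro h
        apply h3
        have h4 : w' = z⁻¹ := eq_inv_of_mul_eq_one_left h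
        rw [h4]
        exact inv_eq_of_mul_eq_one_left c.zsq
      · intro h
        apply h2
        have h4 : w' * z = 1 * z := by rw [one_mul]; exact h
        exact mul_right_cancel h4
  have hcardX : (X : Set W).ncard = 8 := by
    rw [← Nat.card_coe_set_eq]
    exact hX.1
  have h6 : ((X : Set W) \ {1, z}).ncard = 6 := by
    rw [Set.ncard_sdiff, hcardX, Set.ncard_pair (Ne.symm c.z1)]
    intro w hw
    rcases hw with rfl | rfl
    · exact X.one_mem
    · exact hzX
  have himg : ((· * z) '' (MulAction.orbit ↥E u)).ncard = (MulAction.orbit ↥E u).ncard :=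
    Set.ncard_image_of_injective _ (mul_left_injective z)
  have hle : 2 * (MulAction.orbit ↥E u).ncard ≤ 6 := by
    have := Set.ncard_le_ncard hsub
    rw [Set.ncard_union_eq hdisj, himg, h6] at this
    omega
  have hidx : (MulAction.stabilizer ↥E u).index = (MulAction.orbit ↥E u).ncard :=
    MulAction.index_stabilizer ↥E u
  have hcard : (MulAction.orbit ↥E u).ncard * Nat.card ↥(MulAction.stabilizer ↥E u) =
      Nat.card ↥E := by
    rw [← hidx]
    exact Subgroup.index_mul_card _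
  have hdvd : (MulAction.orbit ↥E u).ncard ∣ Nat.card ↥E := Dvd.intro _ hcard
  have : Fact p.Prime := ⟨c.pp⟩
  obtain ⟨a, ha⟩ := IsPGroup.iff_card.mp c.hE
  rw [ha] at hdvd
  obtain ⟨j, hj, hOj⟩ := (Nat.dvd_prime_pow c.pp).1 hdvd
  have hj0 : j ≠ 0 := by
    rintro rfl
    rw [pow_zero] at hOj
    rw [hOj] at hidx
    have htop := Subgroup.index_eq_one.mp hidx
    have hmem : (⟨f₀, hf₀⟩ : ↥E) ∈ MulAction.stabilizer ↥E u := by
      rw [htop]
      exact Subgroup.mem_top _
    have h5 : (⟨f₀, hf₀⟩ : ↥E) • u = u := MulAction.mem_stabilizer_iff.mp hmem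
    exact hf₀u h5
  have hple : p ≤ (MulAction.orbit ↥E u).ncard := by
    rw [hOj]
    exact Nat.le_self_pow hj0 p
  have hp2 := c.pp.two_le
  have hpne := c.hp
  have hp3 : p = 3 := by omega
  refine ⟨hp3, ?_⟩
  have hO3 : (MulAction.orbit ↥E u).ncard = 3 := by omega
  rw [hO3] at hcard
  exact hcard.symm

theorem Ctx.card_E (c : Ctx W p E z) : Nat.card ↥E = 9 := by
  classical
  obtain ⟨e₁, he₁, he₁1, hT1⟩ := c.hex
  obtain ⟨u₁, hu₁X, hu₁1, hu₁z⟩ := c.t8_exists hT1
  have hex2 : ∃ e₂ ∈ E, e₂ ≠ 1 ∧ T8 E (Fx e₂) z ∧ Fx e₂ ≠ Fx e₁ := by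
    by_contra h
    push_neg at h
    have h1 : (⊤ : Subgroup W) ≤ Fx e₁ := by
      apply c.gen ⊤ (fun _ _ _ _ => Subgroup.mem_top _)
      intro e he he1 x hx
      have hxe := (Subgroup.mem_inf.mp hx).2
      rcases c.hdich e he he1 with hd | hd
      · rcases hd x hxe with rfl | rfl
        · exact Subgroup.one_mem _
        · exact c.hzfix e₁ he₁
      · rw [← h e he he1 hd]
        exact hxe
    apply he₁1
    ext x
    exact h1 (Subgroup.mem_top x)
  obtain ⟨e₂, he₂, he₂1, hT2, hne12⟩ := hex2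
  obtain ⟨u₂, hu₂X, hu₂1, hu₂z⟩ := c.t8_exists hT2
  obtain ⟨hp3, hc1⟩ := c.orbit_count hT1 (c.hFxinv e₁ he₁) (c.hzfix e₁ he₁) hu₁X hu₁1 hu₁z
  obtain ⟨-, hc2⟩ := c.orbit_count hT2 (c.hFxinv e₂ he₂) (c.hzfix e₂ he₂) hu₂X hu₂1 hu₂z
  have hdisj : Disjoint (MulAction.stabilizer ↥E u₁) (MulAction.stabilizer ↥E u₂) := by
    rw [Subgroup.disjoint_def]
    intro g hg1 hg2
    by_contra hg
    have hgE : (g : MulAut W) ∈ E := g.2
    have hg1' : (g : MulAut W) ≠ 1 := fun h => hg (Subtype.ext h)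
    have hgu1 : (g : MulAut W) u₁ = u₁ := MulAction.mem_stabilizer_iff.mp hg1
    have hgu2 : (g : MulAut W) u₂ = u₂ := MulAction.mem_stabilizer_iff.mp hg2
    have hle1 : Fx e₁ ≤ Fx (g : MulAut W) :=
      fun y hy => hT1.2.2.2 _ hgE u₁ hu₁X hu₁1 hu₁z hgu1 y hy
    have hle2 : Fx e₂ ≤ Fx (g : MulAut W) :=
      fun y hy => hT2.2.2.2 _ hgE u₂ hu₂X hu₂1 hu₂z hgu2 y hy
    rcases c.hdich _ hgE hg1' with hd | hd
    · rcases hd u₁ (hle1 hu₁X) with h | h
      · exact hu₁1 h
      · exact hu₁z h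
    · have h1 := Subgroup.eq_of_le_of_card_ge hle1 (by rw [hd.1, hT1.1])
      have h2 := Subgroup.eq_of_le_of_card_ge hle2 (by rw [hd.1, hT2.1])
      exact hne12 (h2.trans h1.symm)
  have hinj := Subgroup.mul_injective_of_disjoint hdisj
  have hprod : Nat.card ↥(MulAction.stabilizer ↥E u₁) * Nat.card ↥(MulAction.stabilizer ↥E u₂) ≤
      Nat.card ↥E := by
    rw [← Nat.card_prod]
    exact Nat.card_le_card_of_injective _ hinj
  have hpos : 0 < Nat.card ↥(MulAction.stabilizer ↥E u₁) := Nat.card_pos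
  have h9 : Nat.card ↥E ≤ 9 := by
    have hs : Nat.card ↥(MulAction.stabilizer ↥E u₁) = Nat.card ↥(MulAction.stabilizer ↥E u₂) := by
      omega
    rw [← hs] at hprod
    have h3 : Nat.card ↥(MulAction.stabilizer ↥E u₁) ≤ 3 := by
      apply Nat.le_of_mul_le_mul_right _ hpos
      omega
    omega
  have : Fact p.Prime := ⟨c.pp⟩
  obtain ⟨a, ha⟩ := IsPGroup.iff_card.mp c.hE
  rw [hp3] at ha
  have ha2 : 2 ≤ a := by
    by_contra hlt
    push_neg at hlt
    apply c.hnc
    interval_cases a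
    · have h1 : Nat.card ↥E = 1 := by simpa using ha
      have : Subsingleton ↥E := (Nat.card_eq_one_iff_unique.mp h1).1
      exact isCyclic_of_subsingleton
    · have : Fact (Nat.Prime 3) := ⟨Nat.prime_three⟩
      exact isCyclic_of_prime_card (p := 3) (by simpa using ha)
  have h9' : 9 ≤ Nat.card ↥E := by
    rw [ha]
    calc 9 = 3 ^ 2 := by norm_num
      _ ≤ 3 ^ a := Nat.pow_le_pow_right (by norm_num) ha2
  omega

theorem Ctx.frattini_le (c : Ctx W p E z) : frattini W ≤ Subgroup.center W := by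
  by_contra hΦ
  have hnil : Group.IsNilpotent W := c.hW.isNilpotent
  obtain ⟨x, hxN, hx2, hxc⟩ := exists_mem_ucs_two hnil (frattini W) hΦ
  have hKinv : ∀ e ∈ E, ∀ y ∈ frattini W ⊓ Subgroup.upperCentralSeries W 2,
      e y ∈ frattini W ⊓ Subgroup.upperCentralSeries W 2 := by
    intro e _ y hy
    exact ⟨char_apply_mem _ e hy.1, char_apply_mem _ e hy.2⟩
  have hex : ∃ e ∈ E, e ≠ 1 ∧
      ¬ ((frattini W ⊓ Subgroup.upperCentralSeries W 2) ⊓ Fx e ≤ Subgroup.center W) := by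
    by_contra h
    push_neg at h
    exact hxc (c.gen _ hKinv (Subgroup.center W) h ⟨hxN, hx2⟩)
  obtain ⟨e, he, he1, hnle⟩ := hex
  obtain ⟨u, huKF, huc⟩ := SetLike.not_le_iff_exists.mp hnle
  have hu1 : u ≠ 1 := fun h => huc ((c.center_iff u).mpr (Or.inl h))
  have huz : u ≠ z := fun h => huc ((c.center_iff u).mpr (Or.inr h))
  have huK : u ∈ frattini W ⊓ Subgroup.upperCentralSeries W 2 := huKF.1
  have huF : u ∈ Fx e := huKF.2
  rcases c.hdich e he he1 with hd | hT
  · rcases hd u huF with h | h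
    · exact hu1 h
    · exact huz h
  have hQK : Fx e ≤ frattini W ⊓ Subgroup.upperCentralSeries W 2 :=
    c.t8_le hT (c.hFxinv e he) _ hKinv huF huK hu1 huz
  have hpow : ∀ x : W, x ^ 2 ∈ Subgroup.centralizer (Fx e : Set W) := by
    intro x
    rw [Subgroup.mem_centralizer_iff]
    intro q hq
    have hq2 : q ∈ Subgroup.upperCentralSeries W 2 := (hQK hq).2
    have hd : ⁅q, x⁆ ∈ Subgroup.center W := by
      have := (Subgroup.mem_upperCentralSeries_succ_iff (n := 1)).mp hq2 x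
      rwa [Subgroup.upperCentralSeries_one] at this
    obtain ⟨d, hddef⟩ : ∃ d, d = ⁅q, x⁆ := ⟨_, rfl⟩
    rw [← hddef] at hd
    have hdc : ∀ g, g * d = d * g := Subgroup.mem_center_iff.mp hd
    have hdd : d * d = 1 := by
      rcases (c.center_iff d).mp hd with h | h
      · rw [h, one_mul]
      · rw [h]
        exact c.zsq
    have hqx : q * x = d * x * q := by
      rw [hddef, commutatorElement_def]
      group
    have e1 : q * x ^ 2 = d * x * (d * x * q) := by
      rw [pow_two, ← mul_assoc, hqx, mul_assoc (d * x) q x, hqx]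
    have e2 : d * x * (d * x * q) = (d * d) * (x * x * q) := by
      have h3 := hdc x
      calc d * x * (d * x * q) = d * (x * d) * (x * q) := by simp only [mul_assoc]
        _ = d * (d * x) * (x * q) := by rw [h3]
        _ = (d * d) * (x * x * q) := by simp only [mul_assoc]
    rw [e1, e2, hdd, one_mul, pow_two]
  have hcomm : ∀ x y : W, ⁅x, y⁆ ∈ Subgroup.centralizer (Fx e : Set W) := by
    intro x y
    have h3 : ⁅x, y⁆ = x ^ 2 * (x⁻¹ * y) ^ 2 * (y⁻¹) ^ 2 := by
      rw [commutatorElement_def, pow_two, pow_two, pow_two]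
      group
    rw [h3]
    exact Subgroup.mul_mem _ (Subgroup.mul_mem _ (hpow x) (hpow _)) (hpow _)
  have hfr : frattini W ≤ Subgroup.centralizer (Fx e : Set W) :=
    Cfsg.Agent.Lib.Helper17.frattini_le_of_pow_comm (p := 2) _ hpow hcomm
  obtain ⟨f, hf, hfu⟩ := c.exists_moved hu1 huz
  have hm := c.moved hf hu1 huz hfu
  have hvF : f u ∈ Fx e := c.hFxinv e he f hf u huF
  have hz' : u * f u * u⁻¹ * (f u)⁻¹ = z :=
    hT.2.2.1 u huF (f u) hvF hu1 huz hm.1 hm.2.1 hfu hm.2.2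
  have hcm : u * f u = f u * u := by
    have h1 : f u ∈ Subgroup.centralizer (Fx e : Set W) := hfr (hQK hvF).1
    exact Subgroup.mem_centralizer_iff.mp h1 u huF
  apply c.z1
  rw [← hz', hcm]
  group

theorem Ctx.z_mem_commutator (c : Ctx W p E z) : z ∈ commutator W := by
  obtain ⟨e₁, he₁, he₁1, hT1⟩ := c.hex
  obtain ⟨u, huF, hu1, huz⟩ := c.t8_exists hT1
  obtain ⟨f, hf, hfu⟩ := c.exists_moved hu1 huz
  have hm := c.moved hf hu1 huz hfu
  have hvF : f u ∈ Fx e₁ := c.hFxinv e₁ he₁ f hf u huF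
  have hz' : u * f u * u⁻¹ * (f u)⁻¹ = z :=
    hT1.2.2.1 u huF (f u) hvF hu1 huz hm.1 hm.2.1 hfu hm.2.2
  rw [← hz', ← commutatorElement_def, commutator_def]
  exact Subgroup.commutator_mem_commutator (Subgroup.mem_top _) (Subgroup.mem_top _)

theorem Ctx.card_W_le (c : Ctx W p E z) (hE9 : Nat.card ↥E = 9)
    (hcomm : commutator W ≤ Subgroup.center W) : Nat.card W ≤ 2 ^ 9 := by
  classical
  have hfin : ((E : Set (MulAut W)) \ {1}).Finite := Set.toFinite _
  have hcardE : (E : Set (MulAut W)).ncard = 9 := by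
    rw [← Nat.card_coe_set_eq]
    exact hE9
  have hcards : hfin.toFinset.card = 8 := by
    rw [← Set.ncard_eq_toFinset_card]
    have := Set.ncard_sdiff_singleton_add_one (s := (E : Set (MulAut W))) (a := 1) E.one_mem
    omega
  have hmem : ∀ e, e ∈ hfin.toFinset ↔ e ∈ E ∧ e ≠ 1 := by
    intro e
    rw [Set.Finite.mem_toFinset]
    simp
  have hFxinv' : ∀ e : MulAut W, Fx e⁻¹ = Fx e := by
    intro e
    ext x
    rw [mem_Fx, mem_Fx]
    constructor
    · intro h
      rw [← h, MulAut.apply_inv_self, h]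
    · intro h
      rw [← h, MulAut.inv_apply_self, h]
  have hfiber : ∀ Q ∈ hfin.toFinset.image Fx, 2 ≤ (hfin.toFinset.filter (fun a => Fx a = Q)).card := by
    intro Q hQ
    obtain ⟨e, hes, rfl⟩ := Finset.mem_image.mp hQ
    obtain ⟨heE, he1⟩ := (hmem e).mp hes
    have hinv : e⁻¹ ∈ hfin.toFinset := by
      rw [hmem]
      exact ⟨E.inv_mem heE, fun h => he1 (inv_eq_one.mp h)⟩
    have hne : e ≠ e⁻¹ := by
      intro h
      have h2 : e ^ 2 = 1 := by
        rw [pow_two]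
        nth_rewrite 2 [h]
        exact mul_inv_cancel e
      have hd2 : orderOf e ∣ 2 := orderOf_dvd_of_pow_eq_one h2
      have hd9 : orderOf e ∣ 9 := by
        rw [← hE9]
        have := orderOf_dvd_natCard (⟨e, heE⟩ : ↥E)
        rwa [Subgroup.orderOf_mk] at this
      have h1 : orderOf e ∣ Nat.gcd 2 9 := Nat.dvd_gcd hd2 hd9
      have h1' : orderOf e = 1 := Nat.dvd_one.mp (by simpa using h1)
      exact he1 (orderOf_eq_one_iff.mp h1')
    apply Finset.one_lt_card.mpr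
    refine ⟨e, ?_, e⁻¹, ?_, hne⟩
    · exact Finset.mem_filter.mpr ⟨hes, rfl⟩
    · exact Finset.mem_filter.mpr ⟨hinv, hFxinv' e⟩
  have hcardQ : 2 * (hfin.toFinset.image Fx).card ≤ 8 := by
    have := Finset.mul_card_image_le_card hfin.toFinset 2 hfiber
    rwa [hcards] at this
  have hnorm : ∀ H : Subgroup W, Subgroup.center W ≤ H → H.Normal :=
    fun H hH => Subgroup.Normal.of_commutator_le (G := W) (hcomm.trans hH)
  have hQs : ∀ Q ∈ hfin.toFinset.image Fx, Subgroup.center W ≤ Q ∧ Nat.card Q ≤ 8 := by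
    intro Q hQ
    obtain ⟨e, hes, rfl⟩ := Finset.mem_image.mp hQ
    obtain ⟨heE, he1⟩ := (hmem e).mp hes
    constructor
    · intro x hx
      rcases (c.center_iff x).mp hx with rfl | rfl
      · exact Subgroup.one_mem _
      · exact c.hzfix e heE
    · rcases c.hdich e heE he1 with hd | hd
      · have hle : Fx e ≤ Subgroup.center W := fun x hx => (c.center_iff x).mpr (hd x hx)
        have := Subgroup.card_le_of_le hle
        rw [c.card_center] at this
        omega
      · rw [hd.1]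
  have hbound := card_sup_le (Subgroup.center W) c.card_center hnorm _ hQs
  have htop : (⊤ : Subgroup W) ≤ Subgroup.center W ⊔ (hfin.toFinset.image Fx).sup id := by
    apply c.gen ⊤ (fun _ _ _ _ => Subgroup.mem_top _)
    intro e he he1
    have hes : e ∈ hfin.toFinset := (hmem e).mpr ⟨he, he1⟩
    have h1 : Fx e ≤ (hfin.toFinset.image Fx).sup id :=
      Finset.le_sup (f := id) (Finset.mem_image_of_mem Fx hes)
    exact inf_le_right.trans (h1.trans le_sup_right)
  have h1 : Nat.card W ≤ Nat.card ↥(Subgroup.center W ⊔ (hfin.toFinset.image Fx).sup id) := by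
    rw [← Subgroup.card_top (G := W)]
    exact Subgroup.card_le_of_le htop
  have h2 : 4 ^ (hfin.toFinset.image Fx).card ≤ 4 ^ 4 :=
    Nat.pow_le_pow_right (by norm_num) (by omega)
  calc Nat.card W ≤ 2 * 4 ^ (hfin.toFinset.image Fx).card := h1.trans hbound
    _ ≤ 2 * 4 ^ 4 := Nat.mul_le_mul_left _ h2
    _ = 2 ^ 9 := by norm_num

theorem Ctx.main (c : Ctx W p E z) :
    Nat.card ↥E = 9 ∧ Cfsg.IsExtraspecial 2 W ∧
      (Nat.card W = 2 ^ 5 ∨ Nat.card W = 2 ^ 7 ∨ Nat.card W = 2 ^ 9) ∧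
      {x : W | ∀ e ∈ E, e x = x} = (Subgroup.center W : Set W) := by
  have hE9 := c.card_E
  have hfr := c.frattini_le
  have hzc := c.z_mem_commutator
  have hcf : commutator W ≤ frattini W :=
    Cfsg.Agent.Lib.Helper1.IsPGroup.commutator_le_frattini (p := 2) c.hW
  have hcc : Subgroup.center W ≤ commutator W := by
    rw [c.center_eq, Subgroup.zpowers_le]
    exact hzc
  have hfr_eq : frattini W = Subgroup.center W := le_antisymm hfr (hcc.trans hcf)
  have hcomm_eq : commutator W = Subgroup.center W := le_antisymm (hcf.trans hfr) hcc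
  have hES : Cfsg.IsExtraspecial 2 W := ⟨⟨c.hW, hfr_eq, hcomm_eq⟩, c.card_center⟩
  refine ⟨hE9, hES, ?_, ?_⟩
  · obtain ⟨n, hn1, hn⟩ := Cfsg.Agent.Lib.Helper1.IsExtraspecial.card_eq hES
    have hle := c.card_W_le hE9 hcomm_eq.le
    rw [hn] at hle
    have hle' : 2 * n + 1 ≤ 9 := (Nat.pow_le_pow_iff_right (by norm_num)).mp hle
    have hn1' : n ≠ 1 := by
      rintro rfl
      obtain ⟨e₁, he₁, he₁1, hT1⟩ := c.hex
      have h8 : Nat.card W = 8 := by
        rw [hn]
        norm_num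
      have htop : Fx e₁ = ⊤ := by
        apply Subgroup.eq_of_le_of_card_ge le_top
        rw [Subgroup.card_top, h8, hT1.1]
      apply he₁1
      ext x
      have : x ∈ Fx e₁ := by
        rw [htop]
        exact Subgroup.mem_top x
      exact this
    have hn4 : n ≤ 4 := by omega
    interval_cases n
    · exact absurd rfl hn1'
    · left
      exact hn
    · right
      left
      exact hn
    · right
      right
      exact hn
  · ext x
    constructor
    · intro hx
      exact (c.center_iff x).mpr (c.hFA x hx)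
    · intro hx e he
      rcases (c.center_iff x).mp hx with rfl | rfl
      · exact map_one e
      · exact c.hzfix e he

/-- Let p be an odd prime, W a finite 2-group and E a non-cyclic abelian p-subgroup of Aut(W) such that, for every nontrivial e ∈ E, the fixed points of e in W contain at most one involution. Then E has order 9, W is extraspecial of order 2⁵, 2⁷ or 2⁹, and the common fixed points of E in W form exactly the centre Z(W). -/
theorem result {W : Type*} [Group W] [Finite W] (hW : IsPGroup 2 W) {p : ℕ} [Fact p.Prime] (hp : p ≠ 2) (E : Subgroup (MulAut W)) (hE : IsPGroup p ↥E) (hab : IsMulCommutative ↥E) (hnc : ¬ IsCyclic ↥E) (hfix : ∀ e ∈ E, e ≠ 1 → ∀ x y : W, orderOf x = 2 → orderOf y = 2 → e x = x → e y = y → x = y) : Nat.card ↥E = 9 ∧ Cfsg.IsExtraspecial 2 W ∧ (Nat.card W = 2 ^ 5 ∨ Nat.card W = 2 ^ 7 ∨ Nat.card W = 2 ^ 9) ∧ {x : W | ∀ e ∈ E, e x = x} = (Subgroup.center W : Set W) := by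
  obtain ⟨z, c⟩ := exists_ctx hW hp E hE hab hnc hfix
  exact c.main

end Cfsg.Agent.S2934
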