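import Cfsg.Statements.S2939
import Cfsg.Agent.Lib.Helper17.SylowControl

set_option autoImplicit false
open Cfsg
open Cfsg.Agent.Lib.Helper17

namespace Cfsg.Agent.S2939

theorem take_succ_prod {G : Type*} [Group G] {n : ℕ} (y : Fin n → G) (i : Fin n) :
    ((List.ofFn y).take (i.val + 1)).prod = ((List.ofFn y).take i.val).prod * y i := by
  rw [List.take_add_one, List.prod_append, List.getElem?_ofFn, dif_pos i.isLt]
  simp

theorem take_all_prod {G : Type*} [Group G] {n : ℕ} (y : Fin n → G) :
    ((List.ofFn y).take n).prod = (List.ofFn y).prod := by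
  have h : (List.ofFn y).take n = List.ofFn y := by
    apply List.take_of_length_le
    rw [List.length_ofFn]
  rw [h]

theorem mem_conjRight {G : Type*} [Group G] {g z : G} {A : Set G} :
    z ∈ Cfsg.conjRight g A ↔ g * z * g⁻¹ ∈ A := by
  unfold Cfsg.conjRight
  constructor
  · rintro ⟨a, ha, rfl⟩
    have : g * (g⁻¹ * a * g) * g⁻¹ = a := by group
    rw [this]; exact ha
  · intro h
    exact ⟨g * z * g⁻¹, h, by group⟩

theorem conj_mem_conjRight {G : Type*} [Group G] {g a : G} {A : Set G} (ha : a ∈ A) :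
    g⁻¹ * a * g ∈ Cfsg.conjRight g A := ⟨a, ha, rfl⟩

/-- forward direction -/
theorem forward {G : Type*} [Group G] [Finite G] {p : ℕ} [Fact p.Prime]
    (𝓕 : Set (Subgroup G)) (h𝓕 : Cfsg.IsNormalSet 𝓕)
    (hc : Cfsg.ControlsSylowIntersections p 𝓕) : Cfsg.FamilyStronglyControlsFusion p 𝓕 := by
  intro S A g hAS hA1 hAg
  by_cases hST : g • S = S
  · refine ⟨0, Fin.elim0, Fin.elim0, g, Sylow.smul_eq_iff_mem_normalizer.mp hST,
      fun i => i.elim0, by simp, fun i => i.elim0⟩
  · have hAT : A ⊆ ((g • S : Sylow p G) : Subgroup G) := by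
      intro a ha
      rw [SetLike.mem_coe, mem_smul_sylow]
      exact hAg (conj_mem_conjRight ha)
    have hinf : (S : Subgroup G) ⊓ ((g • S : Sylow p G) : Subgroup G) ≠ ⊥ := by
      obtain ⟨a, ha, ha1⟩ := hA1
      intro hbot
      have : a ∈ (S : Subgroup G) ⊓ ((g • S : Sylow p G) : Subgroup G) :=
        Subgroup.mem_inf.mpr ⟨hAS ha, hAT ha⟩
      rw [hbot, Subgroup.mem_bot] at this
      exact ha1 this
    obtain ⟨n, c, X, x, hc0, hcn, hstep⟩ := hc S (g • S) (Ne.symm hST) hinf
    -- the partial products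
    let x' : ℕ → G := fun j => if h : j < n then x ⟨j, h⟩ else 1
    let u : ℕ → G := fun j => Nat.rec (motive := fun _ => G) 1 (fun j uj => x' j * uj) j
    have hu0 : u 0 = 1 := rfl
    have hus : ∀ i : Fin n, u (i.val + 1) = x i * u i.val := by
      intro i
      show x' i.val * u i.val = x i * u i.val
      simp only [x', dif_pos i.isLt]
    -- c i = u i • S
    have hcu : ∀ i : Fin (n + 1), c i = u i.val • S := by
      intro i
      induction i using Fin.induction with
      | zero => rw [hc0]; show S = (1 : G) • S; rw [one_smul]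
      | succ i ih =>
        obtain ⟨_, _, _, h4, _⟩ := hstep i
        apply Sylow.ext
        have e1 : (c i.succ : Subgroup G) =
            (c i.castSucc : Subgroup G).map (MulAut.conj (x i)).toMonoidHom := by
          rw [← h4, subgroupConjRight_eq_map_conj, map_conj_inv_map_conj]
        rw [e1, ih]
        show _ = ((u (i.val + 1) • S : Sylow p G) : Subgroup G)
        rw [hus i, sylow_smul_eq_map_conj, sylow_smul_eq_map_conj, map_conj_mul]
        rfl
    let y : Fin n → G := fun i => (u i.val)⁻¹ * x i * u i.val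
    let Y : Fin n → Subgroup G := fun i => (X i).map (MulAut.conj (u i.val)⁻¹).toMonoidHom
    have hprod : ∀ k : ℕ, k ≤ n → ((List.ofFn y).take k).prod = u k := by
      intro k
      induction k with
      | zero => intro _; simp [hu0]
      | succ k ih =>
        intro hk
        have := take_succ_prod y ⟨k, hk⟩
        simp only at this
        rw [this, ih (Nat.le_of_succ_le hk), hus ⟨k, hk⟩]
        show u k * ((u k)⁻¹ * x ⟨k, hk⟩ * u k) = _
        group
    have hcn' : (g • S : Sylow p G) = u n • S := by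
      rw [← hcn, hcu (Fin.last n)]; rfl
    refine ⟨n, Y, y, (u n)⁻¹ * g, ?_, ?_, ?_, ?_⟩
    · apply Sylow.smul_eq_iff_mem_normalizer.mp
      rw [mul_smul, hcn', ← mul_smul, inv_mul_cancel, one_smul]
    · intro i
      obtain ⟨h1, _, h3, _, _⟩ := hstep i
      constructor
      · have h1' := sylowMembers_map_conj (p := p) h𝓕 (u i.val)⁻¹ h1
        have e : (c i.castSucc : Subgroup G) = ((u i.val • S : Sylow p G) : Subgroup G) := by
          rw [hcu i.castSucc]; rfl
        rw [e, sylow_smul_eq_map_conj, map_conj_map_conj_inv] at h1'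
        exact h1'
      · show (u i.val)⁻¹ * x i * u i.val ∈ (X i).map (MulAut.conj (u i.val)⁻¹).toMonoidHom
        have := conj_mem_map_conj (g := (u i.val)⁻¹) h3
        rwa [inv_inv] at this
    · rw [← take_all_prod, hprod n le_rfl]; group
    · intro i
      obtain ⟨_, _, h3, _, h5⟩ := hstep i
      rw [hprod (i.val + 1) i.isLt]
      intro z hz
      rw [mem_conjRight] at hz
      have hzA := hz
      have hz1 : u (i.val + 1) * z * (u (i.val + 1))⁻¹ ∈
          (S : Subgroup G) ⊓ ((g • S : Sylow p G) : Subgroup G) :=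
        Subgroup.mem_inf.mpr ⟨hAS hz, hAT hz⟩
      have hz2 := h5 hz1
      rw [Subgroup.mem_inf] at hz2
      obtain ⟨hz3, hz4⟩ := hz2
      constructor
      · have e : (c i.succ : Subgroup G) = ((u (i.val + 1) • S : Sylow p G) : Subgroup G) := by
          rw [hcu i.succ]; rfl
        rw [e, mem_smul_sylow] at hz3
        have e2 : (u (i.val + 1))⁻¹ * (u (i.val + 1) * z * (u (i.val + 1))⁻¹) * u (i.val + 1) = z := by
          group
        rw [e2] at hz3
        exact hz3
      · show z ∈ (X i).map (MulAut.conj (u i.val)⁻¹).toMonoidHom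
        rw [mem_map_conj, inv_inv]
        rw [hus i] at hz4
        have h6 := (X i).mul_mem ((X i).mul_mem ((X i).inv_mem h3) hz4) h3
        have e3 : (x i)⁻¹ * (x i * u i.val * z * (x i * u i.val)⁻¹) * x i =
            u i.val * z * (u i.val)⁻¹ := by group
        rwa [e3] at h6

/-- backward direction -/
theorem backward {G : Type*} [Group G] [Finite G] {p : ℕ} [Fact p.Prime]
    (𝓕 : Set (Subgroup G)) (h𝓕 : Cfsg.IsNormalSet 𝓕)
    (hf : Cfsg.FamilyStronglyControlsFusion p 𝓕) : Cfsg.ControlsSylowIntersections p 𝓕 := by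
  intro S T hST hinf
  obtain ⟨g, hg⟩ := MulAction.exists_smul_eq G S T
  have hA1 : ∃ a ∈ (((S : Subgroup G) ⊓ (T : Subgroup G) : Subgroup G) : Set G), a ≠ 1 := by
    obtain ⟨⟨a, ha⟩, ha1⟩ := Subgroup.ne_bot_iff_exists_ne_one.mp hinf
    exact ⟨a, ha, fun h => ha1 (Subtype.ext h)⟩
  have hAS : (((S : Subgroup G) ⊓ (T : Subgroup G) : Subgroup G) : Set G) ⊆ (S : Set G) :=
    fun a ha => (Subgroup.mem_inf.mp ha).1
  have hAg : Cfsg.conjRight g (((S : Subgroup G) ⊓ (T : Subgroup G) : Subgroup G) : Set G) ⊆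
      (S : Set G) := by
    intro z hz
    rw [mem_conjRight] at hz
    have hzT := (Subgroup.mem_inf.mp hz).2
    rw [← hg, mem_smul_sylow] at hzT
    have e : g⁻¹ * (g * z * g⁻¹) * g = z := by group
    rw [e] at hzT
    exact hzT
  obtain ⟨n, Y, y, y₀, hy₀, hY, hgprod, hcond⟩ := hf S _ g hAS hA1 hAg
  let u : ℕ → G := fun k => ((List.ofFn y).take k).prod
  have hu0 : u 0 = 1 := by simp [u]
  have hus : ∀ i : Fin n, u (i.val + 1) = u i.val * y i := fun i => take_succ_prod y i
  have hun : u n = (List.ofFn y).prod := take_all_prod y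
  refine ⟨n, fun i => u i.val • S, fun i => (Y i).map (MulAut.conj (u i.val)).toMonoidHom,
    fun i => u i.val * y i * (u i.val)⁻¹, ?_, ?_, ?_⟩
  · show u 0 • S = S
    rw [hu0, one_smul]
  · show u n • S = T
    rw [hun, ← hg, hgprod, mul_smul, Sylow.smul_eq_iff_mem_normalizer.mpr hy₀]
  · intro i
    obtain ⟨hYi, hyi⟩ := hY i
    have hX1 : (Y i).map (MulAut.conj (u i.val)).toMonoidHom ∈
        Cfsg.sylowMembers p 𝓕 ((u i.val • S : Sylow p G) : Subgroup G) := by
      rw [sylow_smul_eq_map_conj]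
      exact sylowMembers_map_conj h𝓕 (u i.val) hYi
    have hXeq : (Y i).map (MulAut.conj (u i.val)).toMonoidHom =
        (Y i).map (MulAut.conj (u (i.val + 1))).toMonoidHom := by
      rw [hus i, map_conj_mul, map_conj_eq_self_of_mem hyi]
    refine ⟨hX1, ?_, conj_mem_map_conj hyi, ?_, ?_⟩
    · show (Y i).map (MulAut.conj (u i.val)).toMonoidHom ∈
        Cfsg.sylowMembers p 𝓕 ((u (i.val + 1) • S : Sylow p G) : Subgroup G)
      rw [hXeq, sylow_smul_eq_map_conj]
      exact sylowMembers_map_conj h𝓕 (u (i.val + 1)) hYi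
    · show Cfsg.subgroupConjRight (u i.val * y i * (u i.val)⁻¹)
        ((u (i.val + 1) • S : Sylow p G) : Subgroup G) = ((u i.val • S : Sylow p G) : Subgroup G)
      rw [subgroupConjRight_eq_map_conj, sylow_smul_eq_map_conj, sylow_smul_eq_map_conj,
        ← map_conj_mul, hus i]
      have e : (u i.val * y i * (u i.val)⁻¹)⁻¹ * (u i.val * y i) = u i.val := by group
      rw [e]
    · intro a ha
      have h1 := hcond i (conj_mem_conjRight (g := ((List.ofFn y).take (i.val + 1)).prod) ha)
      change (u (i.val + 1))⁻¹ * a * u (i.val + 1) ∈ _ at h1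
      obtain ⟨h2, h3⟩ := h1
      rw [Subgroup.mem_inf]
      constructor
      · show a ∈ ((u (i.val + 1) • S : Sylow p G) : Subgroup G)
        rw [mem_smul_sylow]
        exact h2
      · show a ∈ (Y i).map (MulAut.conj (u i.val)).toMonoidHom
        rw [hXeq, mem_map_conj]
        exact h3

/-- Let p be a prime dividing the order of the finite group G and 𝓕 a family of subgroups of G closed under conjugation, with conjugates taken as X^g = g⁻¹Xg. Then 𝓕 controls Sylow p-intersections in G (any two distinct Sylow p-subgroups S and T with S ∩ T ≠ 1 are joined by a chain S = S₀, S₁, …, Sₙ = T of Sylow p-subgroups where, for each i, some member Xᵢ of 𝓕 meets both S_{i-1} and Sᵢ in Sylow p-subgroups of Xᵢ, satisfies S ∩ T ≤ Sᵢ ∩ Xᵢ, and contains an element xᵢ with Sᵢ^{xᵢ} = S_{i-1}) if and only if 𝓕 strongly controls p-fusion in G (whenever A is a subset of a Sylow p-subgroup S, A contains an element other than 1, and A^g ⊆ S, the element g factorises as g = y₁⋯yₙy with y ∈ N_G(S) and each yᵢ in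 a member Yᵢ of 𝓕 that meets S in a Sylow p-subgroup of Yᵢ, with A^{y₁⋯yᵢ} ⊆ S ∩ Yᵢ for each i). -/
theorem result {G : Type*} [Group G] [Finite G] {p : ℕ} [Fact p.Prime] (hdiv : p ∣ Nat.card G) (𝓕 : Set (Subgroup G)) (h𝓕 : Cfsg.IsNormalSet 𝓕) : Cfsg.ControlsSylowIntersections p 𝓕 ↔ Cfsg.FamilyStronglyControlsFusion p 𝓕 :=
  ⟨forward 𝓕 h𝓕, backward 𝓕 h𝓕⟩

end Cfsg.Agent.S2939
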