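import Mathlib
import Cfsg.Statements.S2942
import Cfsg.Agent.Lib.Helper17.JStruct
import Cfsg.Agent.S2941

set_option autoImplicit false
open Cfsg

namespace Cfsg.Agent.S2942

open Cfsg.Agent.Lib.Helper17 Cfsg.Agent.Lib.Helper27 Cfsg.Agent.Lib.Helper17.JComp
  Cfsg.Agent.Lib.Helper17.JStruct
open scoped commutatorElement

/-- One step of a subnormal chain inside `L`. -/
theorem sn_step {G : Type*} [Group G] {A B L : Subgroup G} (hAB : A ≤ B)
    (hN : B ≤ Subgroup.normalizer (A : Set G)) (hB : (B.subgroupOf L).IsSubnormal) :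
    (A.subgroupOf L).IsSubnormal := by
  have hle : A.subgroupOf L ≤ B.subgroupOf L := fun x hx => hAB hx
  refine Subgroup.IsSubnormal.trans hle ?_ hB
  apply Subgroup.Normal.isSubnormal
  apply Subgroup.normal_subgroupOf_of_le_normalizer
  intro x hx
  rw [Subgroup.mem_normalizer_iff]
  intro y
  rw [Subgroup.mem_subgroupOf, Subgroup.mem_subgroupOf]
  have := Subgroup.mem_normalizer_iff.mp (hN (Subgroup.mem_subgroupOf.mp hx)) y.1
  simpa using this

/-- Let G be a finite group of characteristic 2 type in which every 2-local subgroup is solvable and the centralizer of Ω₁(Z(S)) lies in N_G(S) for every Sylow 2-subgroup S, and let T be a nontrivial 2-subgroup (below, J is the Thompson subgroup generated by the elementary abelian 2-subgroups of largest order). If L is a subgroup in which T is a Sylow 2-subgroup, with J(T) not contained in O₂(L) and C_G(O₂(L)) ≤ O₂(L), then every J(T)-component contained in L is subnormal in L. -/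
theorem result {G : Type*} [Group G] [Finite G] (hL : Cfsg.IsCharacteristicTwoType G) (hN : ∀ N : Subgroup G, Cfsg.IsTwoLocal N → Group.IsSolvable ↥N)
    (hZ : ∀ S : Sylow 2 G, Subgroup.centralizer (Cfsg.omegaCenterOf (S : Subgroup G) : Set G) ≤ Subgroup.normalizer ((S : Subgroup G) : Set G)) (T : Subgroup G) (hT : IsPGroup 2 ↥T) (hT1 : T ≠ ⊥) (L : Subgroup G) (hLT : L ∈ Cfsg.jOvergroups T)
    (K : Subgroup G) (hK : Cfsg.IsJComponent T K) (hKL : K ≤ L) : (K.subgroupOf L).IsSubnormal := by
  classical
  have hS := hLT.1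
  have hQK : pCoreOf 2 L ≤ Subgroup.normalizer (K : Set G) := by
    apply Cfsg.Agent.S2941.result hL hN hZ T hT hT1 K hK (pCoreOf 2 L)
    · exact (sup_le hKL ((thompsonSubgroupOf_le 2 T).trans hS.1)).trans (JStruct.le_normalizer_pCoreOf L)
    · exact (pCoreOf_le_of_isSylowTwoIn hS).trans (le_normalizer_thompson T)
  have h1 : K ⊔ pCoreOf 2 L ≤ Subgroup.normalizer (K : Set G) := sup_le Subgroup.le_normalizer hQK
  have hCN := CG_le_normalizer_sup hZ hLT hK hKL
  have h2 : K ⊔ CG L ≤ Subgroup.normalizer ((K ⊔ pCoreOf 2 L : Subgroup G) : Set G) :=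
    sup_le ((le_sup_left : K ≤ K ⊔ pCoreOf 2 L).trans Subgroup.le_normalizer) hCN
  have hQC : pCoreOf 2 L ≤ CG L := pCoreOf_le_CG L
  have h3 : ((K ⊔ CG L).subgroupOf L).IsSubnormal := by
    apply isSubnormal_of_le_RΛ hN hLT
    · intro c hc
      rw [Subgroup.mem_subgroupOf]
      exact Subgroup.mem_sup_right ((mem_CG_iff c.2).mpr hc)
    · intro y hy
      rw [Subgroup.mem_subgroupOf] at hy
      have hle : K ⊔ CG L ≤ (RΛ L).map L.subtype := by
        apply sup_le (component_le_RΛ hS hK hKL)
        apply Subgroup.map_mono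
        exact le_sup_right
      obtain ⟨r, hr, hry⟩ := hle hy
      have : r = y := Subtype.ext hry
      rw [← this]; exact hr
  exact sn_step le_sup_left h1 (sn_step (sup_le_sup_left hQC K) h2 h3)

end Cfsg.Agent.S2942
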