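import Mathlib
import Cfsg.Statements.S2943
import Cfsg.Agent.Lib.Helper17.JUniq

set_option autoImplicit false
open Cfsg

namespace Cfsg.Agent.S2943

open Cfsg.Agent.Lib.Helper17 Cfsg.Agent.Lib.Helper27 Cfsg.Agent.Lib.Helper17.JComp
  Cfsg.Agent.Lib.Helper17.JStruct Cfsg.Agent.Lib.Helper17.JUniq Cfsg.Agent.Lib.Helper17.JMap
open scoped commutatorElement

/-- Let G be a finite group of characteristic 2 type in which every 2-local subgroup is solvable and the centralizer of Ω₁(Z(S)) lies in N_G(S) for every Sylow 2-subgroup S, and let T be a nontrivial 2-subgroup (below, J is the Thompson subgroup generated by the elementary abelian 2-subgroups of largest order), L a subgroup in which T is a Sylow 2-subgroup with J(T) not contained in O₂(L) and C_G(O₂(L)) ≤ O₂(L), and K a J(T)-component contained in L. If Z(T) meets W_K = [Ω₁(Z(O₂(K))), K] nontrivially, then T normalizes K. -/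
theorem result {G : Type*} [Group G] [Finite G] (hL : Cfsg.IsCharacteristicTwoType G) (hN : ∀ N : Subgroup G, Cfsg.IsTwoLocal N → Group.IsSolvable ↥N)
    (hZ : ∀ S : Sylow 2 G, Subgroup.centralizer (Cfsg.omegaCenterOf (S : Subgroup G) : Set G) ≤ Subgroup.normalizer ((S : Subgroup G) : Set G)) (T : Subgroup G) (hT : IsPGroup 2 ↥T) (hT1 : T ≠ ⊥) (L : Subgroup G) (hLT : L ∈ Cfsg.jOvergroups T)
    (K : Subgroup G) (hK : Cfsg.IsJComponent T K) (hKL : K ≤ L)
    (hZW : T ⊓ Subgroup.centralizer (T : Set G) ⊓ Cfsg.wOf K ≠ ⊥) : T ≤ Subgroup.normalizer (K : Set G) := by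
  classical
  have hS := hLT.1
  obtain ⟨z, hz, hz1⟩ : ∃ z ∈ T ⊓ Subgroup.centralizer (T : Set G) ⊓ wOf K, z ≠ 1 := by
    by_contra hcon
    push_neg at hcon
    exact hZW ((Subgroup.eq_bot_iff_forall _).mpr hcon)
  have hzT : z ∈ T := hz.1.1
  have hzC : z ∈ Subgroup.centralizer (T : Set G) := hz.1.2
  have hzW : z ∈ wOf K := hz.2
  have hz2 : z ^ 2 = 1 := by rw [pow_two]; exact hK.2.2.2.2.2 z hzW
  have hzV : z ∈ VG L := omega_le_VG hS (mem_omegaCenterOf hzT hzC hz2)
  intro t ht
  apply mem_normalizer_of_map_conj_le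
  have hTt : T.map (MulAut.conj t).toMonoidHom = T :=
    map_conj_eq_of_mem_normalizer (Subgroup.le_normalizer ht)
  have hK₂ : IsJComponent T (K.map (MulAut.conj t).toMonoidHom) := by
    have := isJComponent_map (MulAut.conj t) hK
    rwa [hTt] at this
  have hKL₂ : K.map (MulAut.conj t).toMonoidHom ≤ L := by
    rintro _ ⟨k, hk, rfl⟩
    simp only [MulEquiv.coe_toMonoidHom, MulAut.conj_apply]
    exact L.mul_mem (L.mul_mem (hS.1 ht) (hKL hk)) (L.inv_mem (hS.1 ht))
  have hzW₂ : z ∈ wOf (K.map (MulAut.conj t).toMonoidHom) := by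
    rw [wOf_map_equiv]
    refine ⟨z, hzW, ?_⟩
    simp only [MulEquiv.coe_toMonoidHom, MulAut.conj_apply]
    have := (Subgroup.mem_centralizer_iff.mp hzC) t ht
    rw [this, mul_inv_cancel_right]
  exact component_le_of_common hL hN hZ hT hT1 hLT hK hK₂ hKL hKL₂ hz1 hzV hzW hzW₂

end Cfsg.Agent.S2943
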