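import Mathlib
import Cfsg.Statements.S2945
import Cfsg.Agent.Lib.Helper17.JSub
import Cfsg.Agent.Lib.Helper17.JZero
import Cfsg.Agent.Lib.Helper17.JExB
import Cfsg.Agent.Lib.Helper17.SylowControl

set_option autoImplicit false
open Cfsg

namespace Cfsg.Agent.S2945

open Cfsg.Agent.Lib.Helper17 Cfsg.Agent.Lib.Helper27 Cfsg.Agent.Lib.Helper17.JComp
open scoped commutatorElement

/-- If `K ≤ L ∈ 𝓛(T)` has the shape of a `J`-component and is subnormal in `⟨K, J(T)⟩`, then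
`J(T)` normalizes `W_K`. -/
theorem thompson_le_normalizer_wOf {G : Type*} [Group G] [Finite G]
    (hN : ∀ N : Subgroup G, IsTwoLocal N → Group.IsSolvable ↥N)
    {T T' L K : Subgroup G} (hLT : L ∈ jOvergroups T) (hKL : K ≤ L)
    (hKsn : (K.subgroupOf (K ⊔ thompsonSubgroupOf 2 T)).IsSubnormal)
    (hK : IsJComponent T' K) :
    thompsonSubgroupOf 2 T ≤ Subgroup.normalizer ((wOf K : Subgroup G) : Set G) := by
  haveI : Fact (Nat.Prime 2) := ⟨Nat.prime_two⟩
  obtain ⟨X, hX⟩ : ∃ X, X = K ⊔ thompsonSubgroupOf 2 T := ⟨_, rfl⟩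
  rw [← hX] at hKsn
  have hS := hLT.1
  have hJT : thompsonSubgroupOf 2 T ≤ T := thompsonSubgroupOf_le 2 T
  have hKX : K ≤ X := hX ▸ le_sup_left
  have hJX : thompsonSubgroupOf 2 T ≤ X := hX ▸ le_sup_right
  have hXL : X ≤ L := hX ▸ sup_le hKL (hJT.trans hS.1)
  have h3 := hK.2.2.1
  obtain ⟨d, hdK, hdQ, hd3⟩ := exists_d hK
  have hdX : d ∈ X := hKX hdK
  have hXR : X ≤ Subgroup.normalizer ((pCoreOf 2 X : Subgroup G) : Set G) :=
    JStruct.le_normalizer_pCoreOf X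
  have hKQ : K ≤ Subgroup.normalizer ((pCoreOf 2 K : Subgroup G) : Set G) :=
    JStruct.le_normalizer_pCoreOf K
  have hQK : pCoreOf 2 K ≤ K := JComp.pCoreOf_le K
  -- (A1) `O₂(K) ≤ O₂(X)`
  have hQR : pCoreOf 2 K ≤ pCoreOf 2 X := by
    have hsn : ((pCoreOf 2 K).subgroupOf X).IsSubnormal := by
      refine Subgroup.IsSubnormal.step _ (K.subgroupOf X) (Subgroup.comap_mono hQK) hKsn ?_
      apply Subgroup.normal_subgroupOf_of_le_normalizer
      exact (Subgroup.comap_mono hKQ).trans (Subgroup.le_normalizer_comap _)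
    have hp : IsPGroup 2 ((pCoreOf 2 K).subgroupOf X) :=
      (JComp.pCoreOf_isPGroup K).comap_subtype
    obtain ⟨P, hPn, hPp, hle⟩ := exists_normal_pgroup_ge_of_isSubnormal hsn hp
    have hP : P ≤ pCore 2 ↥X := le_pCore hPn hPp
    intro x hx
    have hxX : x ∈ X := hKX (hQK hx)
    exact ⟨⟨x, hxX⟩, hP (hle (Subgroup.mem_subgroupOf.mpr hx)), rfl⟩
  -- (A2) `O₂(X)` normalizes `K`
  have hRK : pCoreOf 2 X ≤ Subgroup.normalizer (K : Set G) := by
    intro r hr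
    apply mem_normalizer_of_map_conj_le
    rw [Subgroup.map_le_iff_le_comap]
    conv_lhs => rw [← hK.1]
    rw [Subgroup.closure_le]
    rintro k ⟨hk, hodd⟩
    rw [SetLike.mem_coe, Subgroup.mem_comap]
    simp only [MulEquiv.coe_toMonoidHom, MulAut.conj_apply]
    obtain ⟨r', hr', rfl⟩ := hr
    obtain ⟨g, hg⟩ : ∃ g : ↥X, g = r' * ⟨k, hKX hk⟩ * r'⁻¹ := ⟨_, rfl⟩
    have hgm : g ∈ pCore 2 ↥X ⊔ K.subgroupOf X := by
      rw [hg]
      exact Subgroup.mul_mem _ (Subgroup.mul_mem _ (Subgroup.mem_sup_left hr')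
        (Subgroup.mem_sup_right (Subgroup.mem_subgroupOf.mpr hk)))
        (Subgroup.inv_mem _ (Subgroup.mem_sup_left hr'))
    have hgp : g ^ orderOf k = 1 := by
      rw [hg, conj_pow]
      have : (⟨k, hKX hk⟩ : ↥X) ^ orderOf k = 1 := by
        apply Subtype.ext
        rw [Subgroup.coe_pow, Subgroup.coe_one]
        exact pow_orderOf_eq_one k
      rw [this]; group
    have hgo : (orderOf g).Coprime 2 :=
      Nat.Coprime.coprime_dvd_left (orderOf_dvd_of_pow_eq_one hgp)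
        (Nat.coprime_two_right.mpr hodd)
    have hgK := mem_of_isSubnormal_of_mem_sup hKsn (pCore_isPGroup (G := ↥X) (p := 2)) hgm hgo
    rw [hg, Subgroup.mem_subgroupOf] at hgK
    simpa using hgK
  have hRW : pCoreOf 2 X ≤ Subgroup.normalizer ((wOf K : Subgroup G) : Set G) :=
    hRK.trans (normalizer_le_normalizer_wOf h3)
  have hdW : d ∈ Subgroup.normalizer ((wOf K : Subgroup G) : Set G) :=
    normalizer_le_normalizer_wOf h3 (Subgroup.le_normalizer hdK)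
  have hfpf : ∀ w ∈ wOf K, d * w * d⁻¹ = w → w = 1 := by
    intro w hw hfix
    by_contra hw1
    exact conj_ne_self hK hdK hdQ hd3 hw hw1 hfix
  -- (A3) `O₂(X)` centralizes `W_K`
  have hRC : pCoreOf 2 X ≤ Subgroup.centralizer ((wOf K : Subgroup G) : Set G) := by
    intro r hr
    have hrK := hRK hr
    obtain ⟨k, hk⟩ := two_pow_of_mem_pCoreOf hr
    have hq : r * d * r⁻¹ * d⁻¹ ∈ pCoreOf 2 K := by
      have hqK : r * d * r⁻¹ * d⁻¹ ∈ K :=
        K.mul_mem ((Subgroup.mem_normalizer_iff.mp hrK d).mp hdK) (K.inv_mem hdK)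
      have hqR : r * d * r⁻¹ * d⁻¹ ∈ pCoreOf 2 X := by
        have h1 : d * r⁻¹ * d⁻¹ ∈ pCoreOf 2 X :=
          (Subgroup.mem_normalizer_iff.mp (hXR hdX) r⁻¹).mp (Subgroup.inv_mem _ hr)
        have : r * d * r⁻¹ * d⁻¹ = r * (d * r⁻¹ * d⁻¹) := by group
        rw [this]; exact Subgroup.mul_mem _ hr h1
      obtain ⟨k', hk'⟩ := two_pow_of_mem_pCoreOf hqR
      exact mem_pCoreOf_of_two_pow h3 hqK hk'
    have hqC := pCoreOf_le_centralizer_wOf h3 hq
    apply JSub.mem_centralizer_of_two_pow hK.2.2.2.2.1 hK.2.2.2.2.2 hd3 hdW hfpf (hRW hr)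
      ⟨k, by rw [hk]; exact Subgroup.one_mem _⟩
    intro w hw
    have hrw : r * w * r⁻¹ ∈ wOf K := (Subgroup.mem_normalizer_iff.mp (hRW hr) w).mp hw
    have hz : d * (r * w * r⁻¹) * d⁻¹ ∈ wOf K :=
      (Subgroup.mem_normalizer_iff.mp hdW _).mp hrw
    have hqz := Subgroup.mem_centralizer_iff.mp hqC _ hz
    calc r * (d * w * d⁻¹) * r⁻¹
        = (r * d * r⁻¹ * d⁻¹) * (d * (r * w * r⁻¹) * d⁻¹) * (r * d * r⁻¹ * d⁻¹)⁻¹ := by group
      _ = (d * (r * w * r⁻¹) * d⁻¹) * (r * d * r⁻¹ * d⁻¹) * (r * d * r⁻¹ * d⁻¹)⁻¹ := by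
          rw [← hqz]
      _ = d * (r * w * r⁻¹) * d⁻¹ := by group
  -- (A4) `W_K ≤ Ω₁Z(O₂(X))`
  have hWZ : wOf K ≤ omegaCenterOf (pCoreOf 2 X) := by
    intro w hw
    refine mem_omegaCenterOf (hQR (wOf_le_pCoreOf h3 hw)) ?_
      (by rw [pow_two]; exact hK.2.2.2.2.2 w hw)
    rw [Subgroup.mem_centralizer_iff]
    intro r hr
    exact (Subgroup.mem_centralizer_iff.mp (hRC hr) w hw).symm
  have hXZ : X ≤ Subgroup.normalizer ((omegaCenterOf (pCoreOf 2 X) : Subgroup G) : Set G) :=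
    hXR.trans (normalizer_le_normalizer_omegaCenterOf _)
  -- (A5) `[Ω₁Z(O₂(X)), d] ⊆ W_K`
  have hcommZ : ∀ v ∈ omegaCenterOf (pCoreOf 2 X), v * d * v⁻¹ * d⁻¹ ∈ wOf K := by
    intro v hv
    have hvR : v ∈ pCoreOf 2 X := ((omegaCenterOf_le _) hv).1
    obtain ⟨u, hu⟩ : ∃ u, u = v * d * v⁻¹ * d⁻¹ := ⟨_, rfl⟩
    rw [← hu]
    have huK : u ∈ K := by
      rw [hu]
      exact K.mul_mem ((Subgroup.mem_normalizer_iff.mp (hRK hvR) d).mp hdK) (K.inv_mem hdK)
    have huZ : u ∈ omegaCenterOf (pCoreOf 2 X) := by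
      have e : u = v * (d * v⁻¹ * d⁻¹) := by rw [hu]; group
      rw [e]
      exact Subgroup.mul_mem _ hv
        ((Subgroup.mem_normalizer_iff.mp (hXZ hdX) v⁻¹).mp (Subgroup.inv_mem _ hv))
    have hu2 : u * u = 1 := JExB.omegaCenterOf_sq u huZ
    have hu_inv : u⁻¹ = u := inv_eq_of_mul_eq_one_right hu2
    have huQ : u ∈ pCoreOf 2 K :=
      mem_pCoreOf_of_two_pow h3 huK (k := 1) (by rw [pow_one, pow_two]; exact hu2)
    have huC : u ∈ Subgroup.centralizer ((pCoreOf 2 K : Subgroup G) : Set G) := by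
      rw [Subgroup.mem_centralizer_iff]
      intro q hq
      exact Subgroup.mem_centralizer_iff.mp ((omegaCenterOf_le _) huZ).2 q (hQR hq)
    have huU : u ∈ omegaCenterOf (pCoreOf 2 K) :=
      mem_omegaCenterOf huQ huC (by rw [pow_two]; exact hu2)
    have h1 : ⁅u, d⁆ ∈ wOf K := Subgroup.commutator_mem_commutator huU hdK
    have h2 : ⁅u, d⁻¹⁆ ∈ wOf K := Subgroup.commutator_mem_commutator huU (K.inv_mem hdK)
    have hd3' : d * d * d = 1 := by rw [← hd3, pow_succ, pow_succ, pow_one]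
    have ha : d * u * d⁻¹ ∈ omegaCenterOf (pCoreOf 2 X) :=
      (Subgroup.mem_normalizer_iff.mp (hXZ hdX) u).mp huZ
    have hdd : d * d = d⁻¹ := by rw [eq_inv_iff_mul_eq_one]; exact hd3'
    have hp2 : d⁻¹ * v * d = d * (d * v * d⁻¹) * d⁻¹ := by
      have : d * (d * v * d⁻¹) * d⁻¹ = (d * d) * v * (d * d)⁻¹ := by group
      rw [this, hdd, inv_inv]
    have e : u * (d * u * d⁻¹) * (d⁻¹ * u * d) = 1 := by
      have eb : d⁻¹ * u * d = (d⁻¹ * v * d) * v⁻¹ := by rw [hu]; group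
      rw [eb, hp2, hu]; group
    have e1 : ⁅u, d⁆ = u * (d * u * d⁻¹) := by
      rw [commutatorElement_def, hu_inv]; group
    have e2 : ⁅u, d⁻¹⁆ = u * (d⁻¹ * u * d) := by
      rw [commutatorElement_def, hu_inv, inv_inv]; group
    have hau : (d * u * d⁻¹) * u = u * (d * u * d⁻¹) := JExB.omegaCenterOf_comm _ ha _ huZ
    have hfin : ⁅u, d⁆ * ⁅u, d⁻¹⁆ = u := by
      rw [e1, e2]
      calc u * (d * u * d⁻¹) * (u * (d⁻¹ * u * d))
          = u * ((d * u * d⁻¹) * u) * (d⁻¹ * u * d) := by group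
        _ = u * (u * (d * u * d⁻¹)) * (d⁻¹ * u * d) := by rw [hau]
        _ = u * (u * (d * u * d⁻¹) * (d⁻¹ * u * d)) := by group
        _ = u := by rw [e, mul_one]
    have := (wOf K).mul_mem h1 h2
    rwa [hfin] at this
  -- passing to `↥X`
  have hWX : wOf K ≤ X := (wOf_le_pCoreOf h3).trans (hQK.trans hKX)
  obtain ⟨W', hW'⟩ : ∃ W' : Subgroup ↥X, W' = (wOf K).subgroupOf X := ⟨_, rfl⟩
  obtain ⟨Z', hZ'⟩ : ∃ Z' : Subgroup ↥X, Z' = (omegaCenterOf (pCoreOf 2 X)).subgroupOf X :=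
    ⟨_, rfl⟩
  haveI hZ'n : Z'.Normal := by
    rw [hZ']; exact Subgroup.normal_subgroupOf_of_le_normalizer hXZ
  obtain ⟨V, hV⟩ : ∃ V : Subgroup ↥X,
      V = Subgroup.normalClosure ((W' : Subgroup ↥X) : Set ↥X) := ⟨_, rfl⟩
  haveI hVn : V.Normal := by rw [hV]; exact Subgroup.normalClosure_normal
  have hW'V : W' ≤ V := by rw [hV]; exact Subgroup.subset_normalClosure
  have hVZ : V ≤ Z' := by
    rw [hV]
    apply Subgroup.normalClosure_le_normal
    intro w hw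
    rw [hW', SetLike.mem_coe, Subgroup.mem_subgroupOf] at hw
    rw [hZ', SetLike.mem_coe, Subgroup.mem_subgroupOf]
    exact hWZ hw
  have hVZmem : ∀ v ∈ V, (v : G) ∈ omegaCenterOf (pCoreOf 2 X) := by
    intro v hv
    have := hVZ hv
    rw [hZ', Subgroup.mem_subgroupOf] at this
    exact this
  have hVe : IsElementaryAbelian 2 V := by
    rw [isElementaryAbelian_iff]
    refine ⟨fun a ha b hb => Subtype.ext ?_, fun a ha => Subtype.ext ?_⟩
    · show (a : G) * b = b * a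
      exact JExB.omegaCenterOf_comm _ (hVZmem a ha) _ (hVZmem b hb)
    · have := JExB.omegaCenterOf_sq _ (hVZmem a ha)
      rw [Subgroup.coe_pow, Subgroup.coe_one, pow_two]; exact this
  have hsol : Group.IsSolvable ↥X := by
    have hsolL := JStruct.solvable_of_mem_jOvergroups hN hLT
    exact solvable_of_solvable_injective (Subgroup.inclusion_injective hXL)
  have hsep : IsPSolvable 2 ↥X := Cfsg.Agent.Lib.Helper25.isPSolvable_of_isSolvable 2 hsol
  have hQV : ∀ y : ↥X, (y : G) ∈ pCoreOf 2 K → y ∈ Subgroup.centralizer (V : Set ↥X) := by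
    intro y hy
    rw [Subgroup.mem_centralizer_iff]
    intro v hv
    apply Subtype.ext
    show (v : G) * y = y * v
    have := ((omegaCenterOf_le _) (hVZmem v hv)).2
    exact (Subgroup.mem_centralizer_iff.mp this y (hQR hy)).symm
  have hcases : ∀ x ∈ K.subgroupOf X, x ∈ Subgroup.centralizer (V : Set ↥X) ∨
      (⟨d, hdX⟩ : ↥X)⁻¹ * x ∈ Subgroup.centralizer (V : Set ↥X) ∨
      (⟨d, hdX⟩ : ↥X) * x ∈ Subgroup.centralizer (V : Set ↥X) := by
    intro x hx
    rcases cases_of_mem h3 hdK hdQ hd3 (Subgroup.mem_subgroupOf.mp hx) with h | h | h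
    · exact Or.inl (hQV x h)
    · exact Or.inr (Or.inl (hQV _ h))
    · exact Or.inr (Or.inr (hQV _ h))
  have hW'4 : Nat.card W' = 4 := by
    rw [hW', Nat.card_congr (Subgroup.subgroupOfEquivOfLe hWX).toEquiv]
    exact hK.2.2.2.2.1
  have hdW' : (⟨d, hdX⟩ : ↥X) ∈ Subgroup.normalizer (W' : Set ↥X) := by
    rw [hW', Subgroup.mem_normalizer_iff]
    intro x
    rw [Subgroup.mem_subgroupOf, Subgroup.mem_subgroupOf]
    exact Subgroup.mem_normalizer_iff.mp hdW x.1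
  have hfpf' : ∀ w ∈ W', (⟨d, hdX⟩ : ↥X) * w * (⟨d, hdX⟩ : ↥X)⁻¹ = w → w = 1 := by
    intro w hw h
    rw [hW', Subgroup.mem_subgroupOf] at hw
    have := hfpf w.1 hw (congrArg Subtype.val h)
    exact Subtype.ext this
  have hcomm' : ∀ v ∈ V, v * (⟨d, hdX⟩ : ↥X) * v⁻¹ * (⟨d, hdX⟩ : ↥X)⁻¹ ∈ W' := by
    intro v hv
    rw [hW', Subgroup.mem_subgroupOf]
    exact hcommZ v.1 (hVZmem v hv)
  have hgen' : ∀ D : Subgroup ↥X, (∀ x : ↥X, ∀ w ∈ W', x * w * x⁻¹ ∈ D) → V ≤ D := by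
    intro D hD
    rw [hV]
    unfold Subgroup.normalClosure
    rw [Subgroup.closure_le]
    intro g hg
    rw [Group.mem_conjugatesOfSet_iff] at hg
    obtain ⟨w, hw, hconj⟩ := hg
    rw [isConj_iff] at hconj
    obtain ⟨c, rfl⟩ := hconj
    exact hD c w hw
  have hmain := JSub.thompson_le_normalizer_of_subnormal hsep V hVe (K.subgroupOf X) hKsn
    (d := ⟨d, hdX⟩) (Subgroup.mem_subgroupOf.mpr hdK)
    (Subtype.ext (by rw [Subgroup.coe_pow, Subgroup.coe_one]; exact hd3)) hcases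
    W' hW'V hW'4 hdW' hfpf' hcomm' hgen'
  -- `J(T) ≤ J(X)`
  rw [thompsonSubgroupOf_eq]
  apply sSup_le
  intro A hA
  have hAJ : A ≤ thompsonSubgroupOf 2 T := le_thompson_of_isMaxEAIn hA
  have hAX : A ≤ X := hAJ.trans hJX
  have hAmax : IsMaxEAIn 2 X A := by
    refine ⟨hAX, hA.2.1, fun C hC hCe => ?_⟩
    have hC2 : IsPGroup 2 C := Cfsg.H5.isPGroup_of_isElementaryAbelian hCe
    obtain ⟨l, -, hl⟩ := JStruct.exists_conj_le hS (hC.trans hXL) hC2
    have := hA.2.2 _ hl ((ea_map_equiv_iff 2 (MulAut.conj l) C).mpr hCe)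
    rwa [card_map_equiv] at this
  have hAJX : A ≤ thompsonSubgroupOf 2 X := le_thompson_of_isMaxEAIn hAmax
  intro a ha
  obtain ⟨j, hj, rfl⟩ := hAJX ha
  have hjN := hmain hj
  apply mem_normalizer_of_map_conj_le
  rintro _ ⟨w, hw, rfl⟩
  simp only [MulEquiv.coe_toMonoidHom, MulAut.conj_apply, Subgroup.coe_subtype]
  have hwX : w ∈ X := hWX hw
  have h1 : (⟨w, hwX⟩ : ↥X) ∈ W' := by rw [hW', Subgroup.mem_subgroupOf]; exact hw
  have h2 := (Subgroup.mem_normalizer_iff.mp hjN ⟨w, hwX⟩).mp h1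
  rw [hW', Subgroup.mem_subgroupOf] at h2
  exact h2

/-- Let G be a finite group of characteristic 2 type in which every 2-local subgroup is solvable and the centralizer of Ω₁(Z(S)) lies in N_G(S) for every Sylow 2-subgroup S, and let T be a nontrivial 2-subgroup (below, J is the Thompson subgroup generated by the elementary abelian 2-subgroups of largest order), L a subgroup in which T is a Sylow 2-subgroup with J(T) not contained in O₂(L) and C_G(O₂(L)) ≤ O₂(L), and K ≤ L a subgroup that is subnormal in ⟨K, J(T)⟩. If for some conjugate Tᵍ of T, K is a J(Tᵍ)-component with J(Tᵍ) the Thompson subgroup of every Sylow 2-subgroup of N_G(W_K) containing J(Tᵍ) (W_K = [Ω₁(Z(O₂(K))), K]), then K is a J(T)-component. -/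
theorem result {G : Type*} [Group G] [Finite G] (hL : Cfsg.IsCharacteristicTwoType G) (hN : ∀ N : Subgroup G, Cfsg.IsTwoLocal N → Group.IsSolvable ↥N)
    (hZ : ∀ S : Sylow 2 G, Subgroup.centralizer (Cfsg.omegaCenterOf (S : Subgroup G) : Set G) ≤ Subgroup.normalizer ((S : Subgroup G) : Set G)) (T : Subgroup G) (hT : IsPGroup 2 ↥T) (hT1 : T ≠ ⊥) (L : Subgroup G) (hLT : L ∈ Cfsg.jOvergroups T)
    (K : Subgroup G) (hKL : K ≤ L) (hKsn : (K.subgroupOf (K ⊔ Cfsg.thompsonSubgroupOf 2 T)).IsSubnormal)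
    (g : G) (hKg : K ∈ Cfsg.jComponentsZero (T.map (MulAut.conj g).toMonoidHom)) : Cfsg.IsJComponent T K := by
  have hnorm := thompson_le_normalizer_wOf hN hLT hKL hKsn hKg.1
  have e : (T.map (MulAut.conj g).toMonoidHom).map (MulAut.conj g⁻¹).toMonoidHom = T :=
    map_conj_map_conj_inv T g
  have h := JZero.isJComponent_conj hL hN hZ (hT.map (MulAut.conj g).toMonoidHom) hKg g⁻¹
    (by rw [e]; exact hnorm)
  rwa [e] at h

end Cfsg.Agent.S2945
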