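import Mathlib
import Cfsg.Statements.S2946
import Cfsg.Agent.Lib.Helper17.JComp

set_option autoImplicit false
open Cfsg

namespace Cfsg.Agent.S2946

open Cfsg.Agent.Lib.Helper17 Cfsg.Agent.Lib.Helper27 Cfsg.Agent.Lib.Helper17.JComp
open scoped commutatorElement

theorem main {G : Type*} [Group G] [Finite G] (T : Subgroup G) (hT : IsPGroup 2 ↥T)
    (K : Subgroup G) (hK : Cfsg.IsJComponent T K) :
    Nat.card ↥(omegaCenterOf (thompsonSubgroupOf 2 T) ⊓ Cfsg.wOf K) = 2 ∧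
      (omegaCenterOf (thompsonSubgroupOf 2 T) ⊓ ((K ⊔ Cfsg.thompsonSubgroupOf 2 T) ⊓
        Subgroup.centralizer ((K ⊔ Cfsg.thompsonSubgroupOf 2 T) : Set G))) ⊔
        (omegaCenterOf (thompsonSubgroupOf 2 T) ⊓ Cfsg.wOf K) =
        omegaCenterOf (thompsonSubgroupOf 2 T) := by
  classical
  have h3 := hK.2.2.1
  have hsq := hK.2.2.2.2.2
  obtain ⟨d, hd, hdQ, hd3⟩ := exists_d hK
  obtain ⟨w₀, hw0, hw01, hfix⟩ := exists_fixed hT hK
  obtain ⟨hd2, hw11, hw21, hw1W, hw2W, hw10, hw20, hw21', hprod, henum⟩ :=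
    wOf_enum hK hd hdQ hd3 hw0 hw01 (w' := d * w₀ * d⁻¹) (w'' := d * (d * w₀ * d⁻¹) * d⁻¹)
      rfl rfl
  set w₁ := d * w₀ * d⁻¹ with hw1def
  set w₂ := d * w₁ * d⁻¹ with hw2def
  have hJNK : thompsonSubgroupOf 2 T ≤ Subgroup.normalizer (K : Set G) :=
    thompson_le_normalizer hK
  have hKNW : Subgroup.normalizer (K : Set G) ≤
      Subgroup.normalizer ((wOf K : Subgroup G) : Set G) := normalizer_le_normalizer_wOf h3
  have hJNW : thompsonSubgroupOf 2 T ≤ Subgroup.normalizer ((wOf K : Subgroup G) : Set G) :=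
    hJNK.trans hKNW
  have hQC : pCoreOf 2 K ≤ Subgroup.centralizer ((wOf K : Subgroup G) : Set G) :=
    pCoreOf_le_centralizer_wOf h3
  have hdinv0 : d⁻¹ * w₀ * d = w₂ := by
    calc d⁻¹ * w₀ * d = d⁻¹ * (d * w₂ * d⁻¹) * d := by rw [hd2]
      _ = w₂ := by group
  have hdinv1 : d⁻¹ * w₁ * d = w₀ := by rw [hw1def]; group
  have hcentW : ∀ x : G, x * w₀ * x⁻¹ = w₀ → x * w₁ * x⁻¹ = w₁ →
      x ∈ Subgroup.centralizer ((wOf K : Subgroup G) : Set G) := by
    intro x h0 h1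
    have c0 : w₀ * x = x * w₀ := by
      calc w₀ * x = (x * w₀ * x⁻¹) * x := by rw [h0]
        _ = x * w₀ := by group
    have c1 : w₁ * x = x * w₁ := by
      calc w₁ * x = (x * w₁ * x⁻¹) * x := by rw [h1]
        _ = x * w₁ := by group
    rw [Subgroup.mem_centralizer_iff]
    intro y hy
    rcases henum y hy with h | h | h | h
    · rw [h]; simp
    · rw [h]; exact c0
    · rw [h]; exact c1
    · rw [h, ← hprod, mul_assoc, c1, ← mul_assoc, c0, mul_assoc]
  have hc1 : ∀ x : G, x * w₁ * x⁻¹ ≠ 1 := by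
    intro x h; apply hw11
    have : w₁ = x⁻¹ * (x * w₁ * x⁻¹) * x := by group
    rw [this, h]; group
  have hc0 : ∀ x : G, x * w₀ * x⁻¹ = w₀ → x * w₁ * x⁻¹ ≠ w₀ := by
    intro x h0 h; apply hw10
    calc w₁ = x⁻¹ * (x * w₁ * x⁻¹) * x := by group
      _ = x⁻¹ * (x * w₀ * x⁻¹) * x := by rw [h, h0]
      _ = w₀ := by group
  -- the subgroup `A` and the element `a`
  have hJnot := thompson_not_le_centralizer_wOf hK
  have hexA : ∃ A, IsMaxEAIn 2 T A ∧
      ¬ A ≤ Subgroup.centralizer ((wOf K : Subgroup G) : Set G) := by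
    by_contra hcon
    push Not at hcon
    apply hJnot
    rw [thompsonSubgroupOf_eq]
    exact sSup_le fun B hB => hcon B hB
  obtain ⟨A, hA, hAnot⟩ := hexA
  obtain ⟨a, haA, haC⟩ := SetLike.not_le_iff_exists.mp hAnot
  have hAJ : A ≤ thompsonSubgroupOf 2 T := le_thompson_of_isMaxEAIn hA
  have haJ : a ∈ thompsonSubgroupOf 2 T := hAJ haA
  have haN : a ∈ Subgroup.normalizer ((wOf K : Subgroup G) : Set G) := hJNW haJ
  have ha0 : a * w₀ * a⁻¹ = w₀ := hfix a haJ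
  have hainv0 : a⁻¹ * w₀ * a = w₀ := by
    calc a⁻¹ * w₀ * a = a⁻¹ * (a * w₀ * a⁻¹) * a := by rw [ha0]
      _ = w₀ := by group
  have hAcomm : ∀ x ∈ A, ∀ y ∈ A, x * y = y * x := ((isElementaryAbelian_iff 2 A).mp hA.2.1).1
  have ha1 : a * w₁ * a⁻¹ = w₂ := by
    have hmem : a * w₁ * a⁻¹ ∈ wOf K := (Subgroup.mem_normalizer_iff.mp haN w₁).mp hw1W
    rcases henum _ hmem with h | h | h | h
    · exact absurd h (hc1 a)
    · exact absurd h (hc0 a ha0)
    · exact absurd (hcentW a ha0 h) haC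
    · exact h
  have ha2' : a * w₂ * a⁻¹ = w₁ := by
    rw [← hprod]
    calc a * (w₀ * w₁) * a⁻¹ = (a * w₀ * a⁻¹) * (a * w₁ * a⁻¹) := by group
      _ = w₀ * w₂ := by rw [ha0, ha1]
      _ = w₀ * (w₀ * w₁) := by rw [hprod]
      _ = w₁ := by rw [← mul_assoc, hsq w₀ hw0, one_mul]
  have hsplit : ∀ b ∈ A, b ∈ Subgroup.centralizer ((wOf K : Subgroup G) : Set G) ∨
      b * a ∈ Subgroup.centralizer ((wOf K : Subgroup G) : Set G) := by
    intro b hb
    have hb0 : b * w₀ * b⁻¹ = w₀ := hfix b (hAJ hb)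
    have hbN : b ∈ Subgroup.normalizer ((wOf K : Subgroup G) : Set G) := hJNW (hAJ hb)
    have hmem : b * w₁ * b⁻¹ ∈ wOf K := (Subgroup.mem_normalizer_iff.mp hbN w₁).mp hw1W
    rcases henum _ hmem with h | h | h | h
    · exact absurd h (hc1 b)
    · exact absurd h (hc0 b hb0)
    · left; exact hcentW b hb0 h
    · right
      apply hcentW
      · calc b * a * w₀ * (b * a)⁻¹ = b * (a * w₀ * a⁻¹) * b⁻¹ := by group
          _ = w₀ := by rw [ha0, hb0]
      · calc b * a * w₁ * (b * a)⁻¹ = b * (a * w₁ * a⁻¹) * b⁻¹ := by group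
          _ = b * w₂ * b⁻¹ := by rw [ha1]
          _ = b * (w₀ * w₁) * b⁻¹ := by rw [hprod]
          _ = (b * w₀ * b⁻¹) * (b * w₁ * b⁻¹) := by group
          _ = w₀ * w₂ := by rw [hb0, h]
          _ = w₀ * (w₀ * w₁) := by rw [hprod]
          _ = w₁ := by rw [← mul_assoc, hsq w₀ hw0, one_mul]
  set B := A ⊓ Subgroup.centralizer ((wOf K : Subgroup G) : Set G) with hBdef
  have hBA : B ≤ A := inf_le_left
  have hBC : B ≤ Subgroup.centralizer ((wOf K : Subgroup G) : Set G) := inf_le_right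
  have haB : a ∉ B := fun h => haC h.2
  have hrel : B.relIndex A = 2 := by
    rw [Subgroup.relIndex_eq_two_iff]
    refine ⟨a, haA, fun b hb => ?_⟩
    rcases hsplit b hb with h | h
    · right
      refine ⟨⟨hb, h⟩, fun h' => haB ?_⟩
      have : a = b⁻¹ * (b * a) := by group
      rw [this]; exact B.mul_mem (B.inv_mem ⟨hb, h⟩) h'
    · left
      refine ⟨⟨A.mul_mem hb haA, h⟩, fun h' => haB ?_⟩
      have : a = b⁻¹ * (b * a) := by group
      rw [this]; exact B.mul_mem (B.inv_mem h') ⟨A.mul_mem hb haA, h⟩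
  have hcardA : Nat.card A = Nat.card B * 2 := by
    have := Subgroup.relIndex_mul_relIndex ⊥ B A bot_le hBA
    rw [Subgroup.relIndex_bot_left, Subgroup.relIndex_bot_left, hrel] at this
    exact this.symm
  -- `A₁ = B W`
  have hA1ea : IsElementaryAbelian 2 (B ⊔ wOf K) :=
    Cfsg.H5.isElementaryAbelian_sup (Cfsg.H5.isElementaryAbelian_mono hA.2.1 hBA)
      (wOf_isElementaryAbelian hK) hBC
  have hS := isMaxEAIn_sylow_iff hT hK
  have hAS : IsMaxEAIn 2 (pCoreOf 2 K ⊔ thompsonSubgroupOf 2 T) A := (hS A).mpr hA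
  have hWS : wOf K ≤ pCoreOf 2 K ⊔ thompsonSubgroupOf 2 T :=
    (wOf_le_pCoreOf h3).trans le_sup_left
  have hA1S : B ⊔ wOf K ≤ pCoreOf 2 K ⊔ thompsonSubgroupOf 2 T :=
    sup_le ((hBA.trans hAJ).trans le_sup_right) hWS
  have hw1A : w₁ ∉ A := by
    intro h
    have := hAcomm a haA w₁ h
    apply hw21'
    rw [← ha1]
    calc a * w₁ * a⁻¹ = w₁ * a * a⁻¹ := by rw [this]
      _ = w₁ := by group
  have hcardA1 : Nat.card A ≤ Nat.card ↥(B ⊔ wOf K) := by
    have hlt : B < B ⊔ wOf K := by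
      refine lt_of_le_of_ne le_sup_left (fun h => hw1A (hBA ?_))
      rw [h]; exact (le_sup_right : wOf K ≤ B ⊔ wOf K) hw1W
    have hdvd : Nat.card B ∣ Nat.card ↥(B ⊔ wOf K) := Subgroup.card_dvd_of_le le_sup_left
    have hne : Nat.card B ≠ Nat.card ↥(B ⊔ wOf K) := by
      intro h
      exact hlt.ne (Subgroup.eq_of_le_of_card_ge le_sup_left h.ge)
    have hpos : 0 < Nat.card ↥(B ⊔ wOf K) := Nat.card_pos
    obtain ⟨c, hc⟩ := hdvd
    rw [hcardA, hc]
    have hc2 : 2 ≤ c := by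
      rcases c with _ | _ | c
      · rw [hc] at hpos; simp at hpos
      · exfalso; apply hne; rw [hc]; simp
      · omega
    exact Nat.mul_le_mul_left _ hc2
  have hA1 : IsMaxEAIn 2 T (B ⊔ wOf K) := by
    rw [← hS]
    exact ⟨hA1S, hA1ea, fun C hC hCe => (hAS.2.2 C hC hCe).trans hcardA1⟩
  have hA1C : B ⊔ wOf K ≤ Subgroup.centralizer ((wOf K : Subgroup G) : Set G) :=
    sup_le hBC (wOf_le_centralizer_wOf hK)
  -- `Z₁`
  set Z₁ : Subgroup G := sInf {A' | IsMaxEAIn 2 T A' ∧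
    A' ≤ Subgroup.centralizer ((wOf K : Subgroup G) : Set G)} with hZ1def
  have hZ1A1 : Z₁ ≤ B ⊔ wOf K := sInf_le ⟨hA1, hA1C⟩
  have hZ0Z1 : omegaCenterOf (thompsonSubgroupOf 2 T) ≤ Z₁ :=
    le_sInf fun A' hA' => omegaCenterOf_thompson_le hA'.1
  have hXN : K ⊔ thompsonSubgroupOf 2 T ≤ Subgroup.normalizer ((wOf K : Subgroup G) : Set G) :=
    sup_le (Subgroup.le_normalizer.trans hKNW) hJNW
  have hfam : ∀ x ∈ K ⊔ thompsonSubgroupOf 2 T, ∀ A', IsMaxEAIn 2 T A' →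
      A' ≤ Subgroup.centralizer ((wOf K : Subgroup G) : Set G) →
      IsMaxEAIn 2 T (A'.map (MulAut.conj x).toMonoidHom) ∧
        A'.map (MulAut.conj x).toMonoidHom ≤
          Subgroup.centralizer ((wOf K : Subgroup G) : Set G) := by
    intro x hx A' hA' hA'C
    have hxNC : x ∈ Subgroup.normalizer
        ((Subgroup.centralizer ((wOf K : Subgroup G) : Set G) : Subgroup G) : Set G) :=
      normalizer_le_normalizer_centralizer _ (hXN hx)
    have h1 : A'.map (MulAut.conj x).toMonoidHom ≤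
        Subgroup.centralizer ((wOf K : Subgroup G) : Set G) := by
      rw [← map_conj_eq_of_mem_normalizer hxNC]
      exact Subgroup.map_mono hA'C
    have h2 : A'.map (MulAut.conj x).toMonoidHom ≤ K ⊔ thompsonSubgroupOf 2 T := by
      rw [← map_conj_eq_of_mem_normalizer (Subgroup.le_normalizer hx)]
      exact Subgroup.map_mono ((le_thompson_of_isMaxEAIn hA').trans le_sup_right)
    have h3' : A'.map (MulAut.conj x).toMonoidHom ≤ pCoreOf 2 K ⊔ thompsonSubgroupOf 2 T :=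
      (le_inf h2 h1).trans (inf_centralizer_le_sylow hT hK)
    refine ⟨?_, h1⟩
    rw [← hS]
    have hA'S := (hS A').mpr hA'
    refine ⟨h3', (ea_map_equiv_iff 2 (MulAut.conj x) A').mpr hA'.2.1, fun C hC hCe => ?_⟩
    rw [card_map_equiv]
    exact hA'S.2.2 C hC hCe
  have hZ1norm : K ⊔ thompsonSubgroupOf 2 T ≤ Subgroup.normalizer ((Z₁ : Subgroup G) : Set G) := by
    intro x hx
    apply mem_normalizer_of_map_conj_le
    intro z hz
    rw [mem_map_conj] at hz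
    rw [hZ1def, Subgroup.mem_sInf]
    intro A' hA'
    have hx' : x⁻¹ ∈ K ⊔ thompsonSubgroupOf 2 T := Subgroup.inv_mem _ hx
    obtain ⟨h1, h2⟩ := hfam x⁻¹ hx' A' hA'.1 hA'.2
    have hmem : x⁻¹ * z * x ∈ A'.map (MulAut.conj x⁻¹).toMonoidHom := by
      have hz' : x⁻¹ * z * x ∈ Z₁ := hz
      rw [hZ1def, Subgroup.mem_sInf] at hz'
      exact hz' _ ⟨h1, h2⟩
    rw [mem_map_conj] at hmem
    have e : x⁻¹⁻¹ * (x⁻¹ * z * x) * x⁻¹ = z := by group
    rwa [e] at hmem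
  -- commutators with `a`
  have hcommA1 : ∀ z ∈ B ⊔ wOf K, ⁅z, a⁆ ∈ wOf K := by
    intro z hz
    have hBN : B ≤ Subgroup.normalizer ((wOf K : Subgroup G) : Set G) :=
      (hBA.trans hAJ).trans hJNW
    rw [← SetLike.mem_coe, Subgroup.coe_mul_of_left_le_normalizer_right B (wOf K) hBN,
      Set.mem_mul] at hz
    obtain ⟨b, hb, w, hw, rfl⟩ := hz
    have hba : b * a = a * b := hAcomm b (hBA hb) a haA
    have hwa : ⁅w, a⁆ ∈ wOf K := by
      rw [commutatorElement_def]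
      have : w * a * w⁻¹ * a⁻¹ = w * (a * w⁻¹ * a⁻¹) := by group
      rw [this]
      exact (wOf K).mul_mem hw
        ((Subgroup.mem_normalizer_iff.mp haN _).mp ((wOf K).inv_mem hw))
    have e : ⁅b * w, a⁆ = b * ⁅w, a⁆ * b⁻¹ := by
      rw [commutatorElement_def, commutatorElement_def]
      calc b * w * a * (b * w)⁻¹ * a⁻¹ = b * w * a * w⁻¹ * (a * b)⁻¹ := by group
        _ = b * w * a * w⁻¹ * (b * a)⁻¹ := by rw [hba]
        _ = b * (w * a * w⁻¹ * a⁻¹) * b⁻¹ := by group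
    rw [e]
    have := (Subgroup.mem_centralizer_iff.mp (hBC hb)) _ hwa
    rw [← this]
    have e2 : ⁅w, a⁆ * b * b⁻¹ = ⁅w, a⁆ := by group
    rw [e2]; exact hwa
  have haX : a ∈ K ⊔ thompsonSubgroupOf 2 T := le_sup_right (a := K) haJ
  have hdX : d ∈ K ⊔ thompsonSubgroupOf 2 T := le_sup_left (b := thompsonSubgroupOf 2 T) hd
  have haCS : a ∈ chainStab Z₁ (wOf K) :=
    ⟨hZ1norm haX, haN, fun z hz => hcommA1 z (hZ1A1 hz)⟩
  have hdaCS : d * a * d⁻¹ ∈ chainStab Z₁ (wOf K) :=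
    conj_mem_chainStab (hZ1norm hdX) (hXN hdX) haCS
  have hnCS : ⁅d, a⁆ ∈ chainStab Z₁ (wOf K) := by
    rw [commutatorElement_def]
    exact Subgroup.mul_mem _ hdaCS (Subgroup.inv_mem _ haCS)
  have hnK : ⁅d, a⁆ ∈ K := by
    rw [commutatorElement_def]
    have : d * a * d⁻¹ * a⁻¹ = d * (a * d⁻¹ * a⁻¹) := by group
    rw [this]
    exact K.mul_mem hd ((Subgroup.mem_normalizer_iff.mp (hJNK haJ) _).mp (K.inv_mem hd))
  have hnQ : ⁅d, a⁆ ∉ pCoreOf 2 K := by
    intro h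
    have hc := (Subgroup.mem_centralizer_iff.mp (hQC h)) w₀ hw0
    have e : ⁅d, a⁆ * w₀ * ⁅d, a⁆⁻¹ = w₂ := by
      rw [commutatorElement_def]
      calc d * a * d⁻¹ * a⁻¹ * w₀ * (d * a * d⁻¹ * a⁻¹)⁻¹
          = d * (a * (d⁻¹ * (a⁻¹ * w₀ * a) * d) * a⁻¹) * d⁻¹ := by group
        _ = d * (a * (d⁻¹ * w₀ * d) * a⁻¹) * d⁻¹ := by rw [hainv0]
        _ = d * (a * w₂ * a⁻¹) * d⁻¹ := by rw [hdinv0]
        _ = d * w₁ * d⁻¹ := by rw [ha2']
        _ = w₂ := hw2def.symm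
    apply hw20
    rw [← e, ← hc]; group
  have hKCS : K ≤ chainStab Z₁ (wOf K) := by
    have hle := le_of_normal_not_le hK (N := chainStab Z₁ (wOf K) ⊓ K) inf_le_right ?_ ?_
    · exact hle.trans inf_le_left
    · intro k hk
      apply mem_normalizer_of_map_conj_le
      rintro _ ⟨x, hx, rfl⟩
      simp only [MulEquiv.coe_toMonoidHom, MulAut.conj_apply]
      have hkX : k ∈ K ⊔ thompsonSubgroupOf 2 T := le_sup_left (b := thompsonSubgroupOf 2 T) hk
      exact ⟨conj_mem_chainStab (hZ1norm hkX) (hXN hkX) hx.1,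
        K.mul_mem (K.mul_mem hk hx.2) (K.inv_mem hk)⟩
    · intro hle
      exact hnQ (hle ⟨hnCS, hnK⟩)
  have hZK : ∀ z ∈ omegaCenterOf (thompsonSubgroupOf 2 T), ∀ k ∈ K, ⁅z, k⁆ ∈ wOf K :=
    fun z hz k hk => (hKCS hk).2.2 z (hZ0Z1 hz)
  have hSNJ := sylow_le_normalizer_thompson hT hK
  have hQNZ : pCoreOf 2 K ≤ Subgroup.normalizer
      ((omegaCenterOf (thompsonSubgroupOf 2 T) : Subgroup G) : Set G) :=
    (le_sup_left.trans hSNJ).trans (normalizer_le_normalizer_omegaCenterOf _)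
  have hZ0A : omegaCenterOf (thompsonSubgroupOf 2 T) ≤ A := omegaCenterOf_thompson_le hA
  have hZW : ∀ y, y ∈ omegaCenterOf (thompsonSubgroupOf 2 T) → y ∈ wOf K → y = 1 ∨ y = w₀ := by
    intro y hy hyW
    rcases henum y hyW with h | h | h | h
    · left; exact h
    · right; exact h
    · exfalso; apply hw1A; rw [← h]; exact hZ0A hy
    · exfalso
      have hw2A : w₂ ∈ A := by rw [← h]; exact hZ0A hy
      have := hAcomm a haA w₂ hw2A
      apply hw21'
      rw [← ha2']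
      calc w₂ = w₂ * a * a⁻¹ := by group
        _ = a * w₂ * a⁻¹ := by rw [← this]
  have hZQ : ∀ z ∈ omegaCenterOf (thompsonSubgroupOf 2 T), ∀ q ∈ pCoreOf 2 K, ⁅z, q⁆ = 1 := by
    intro z hz q hq
    have hdNQ : d ∈ Subgroup.normalizer ((pCoreOf 2 K : Subgroup G) : Set G) :=
      normalizer_le_normalizer_pCoreOf h3 (Subgroup.le_normalizer hd)
    have hq' : d * q * d⁻¹ ∈ pCoreOf 2 K := (Subgroup.mem_normalizer_iff.mp hdNQ q).mp hq
    have key : ∀ q ∈ pCoreOf 2 K, ⁅z, q⁆ = 1 ∨ ⁅z, q⁆ = w₀ := by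
      intro q hq
      apply hZW
      · rw [commutatorElement_def]
        have : z * q * z⁻¹ * q⁻¹ = z * (q * z⁻¹ * q⁻¹) := by group
        rw [this]
        exact Subgroup.mul_mem _ hz
          ((Subgroup.mem_normalizer_iff.mp (hQNZ hq) _).mp (Subgroup.inv_mem _ hz))
      · exact hZK z hz q (pCoreOf_le K hq)
    have hv : ⁅z, d⁆ ∈ wOf K := hZK z hz d hd
    have claim : ⁅z, d * q * d⁻¹⁆ = d * ⁅z, q⁆ * d⁻¹ := by
      have e1 : d * ⁅z, q⁆ * d⁻¹ = ⁅⁅z, d⁆⁻¹ * z, d * q * d⁻¹⁆ := by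
        simp only [commutatorElement_def]; group
      have hc' : ⁅z, d * q * d⁻¹⁆ ∈ wOf K := hZK z hz _ (pCoreOf_le K hq')
      have hqv : (d * q * d⁻¹) * ⁅z, d⁆ * (d * q * d⁻¹)⁻¹ = ⁅z, d⁆ := by
        have := (Subgroup.mem_centralizer_iff.mp (hQC hq')) _ hv
        rw [← this]; group
      have e2 : ⁅⁅z, d⁆⁻¹ * z, d * q * d⁻¹⁆ =
          ⁅z, d⁆⁻¹ * ⁅z, d * q * d⁻¹⁆ * ((d * q * d⁻¹) * ⁅z, d⁆ * (d * q * d⁻¹)⁻¹) := by
        simp only [commutatorElement_def]; group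
      rw [e1, e2, hqv]
      have := wOf_comm hK hc' hv
      calc ⁅z, d * q * d⁻¹⁆ = ⁅z, d⁆⁻¹ * (⁅z, d⁆ * ⁅z, d * q * d⁻¹⁆) := by group
        _ = ⁅z, d⁆⁻¹ * (⁅z, d * q * d⁻¹⁆ * ⁅z, d⁆) := by rw [this]
        _ = ⁅z, d⁆⁻¹ * ⁅z, d * q * d⁻¹⁆ * ⁅z, d⁆ := by group
    rcases key q hq with h | h
    · exact h
    · exfalso
      rcases key _ hq' with h' | h'
      · rw [claim, h] at h'
        exact hw11 h'
      · rw [claim, h] at h'
        exact hw10 h'
  have hphi : ∀ z ∈ omegaCenterOf (thompsonSubgroupOf 2 T), ⁅z, d⁆ = 1 ∨ ⁅z, d⁆ = w₂ := by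
    intro z hz
    have hv : ⁅z, d⁆ ∈ wOf K := hZK z hz d hd
    have hza : a * z * a⁻¹ = z := by
      have hzc := ((omegaCenterOf_le _) hz).2
      have := (Subgroup.mem_centralizer_iff.mp hzc) a haJ
      rw [this]; group
    have heK : a * d * a⁻¹ ∈ K := (Subgroup.mem_normalizer_iff.mp (hJNK haJ) d).mp hd
    have hde : d * (a * d * a⁻¹) ∈ pCoreOf 2 K := by
      rcases cases_of_mem h3 hd hdQ hd3 heK with h | h | h
      · exfalso; apply hdQ
        have haNQ : a ∈ Subgroup.normalizer ((pCoreOf 2 K : Subgroup G) : Set G) :=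
          normalizer_le_normalizer_pCoreOf h3 (hJNK haJ)
        have := (Subgroup.mem_normalizer_iff.mp (Subgroup.inv_mem _ haNQ) _).mp h
        have e : a⁻¹ * (a * d * a⁻¹) * a⁻¹⁻¹ = d := by group
        rwa [e] at this
      · exfalso
        have hq := (Subgroup.mem_centralizer_iff.mp (hQC h)) w₀ hw0
        have e1 : (a * d * a⁻¹) * w₀ * (a * d * a⁻¹)⁻¹ = w₂ := by
          calc (a * d * a⁻¹) * w₀ * (a * d * a⁻¹)⁻¹
              = a * (d * (a⁻¹ * w₀ * a) * d⁻¹) * a⁻¹ := by group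
            _ = a * (d * w₀ * d⁻¹) * a⁻¹ := by rw [hainv0]
            _ = w₂ := ha1
        have e2 : (a * d * a⁻¹) * w₀ * (a * d * a⁻¹)⁻¹ = w₁ := by
          have e3 : (d⁻¹ * (a * d * a⁻¹)) * w₀ * (d⁻¹ * (a * d * a⁻¹))⁻¹ = w₀ := by
            rw [← hq]; group
          calc (a * d * a⁻¹) * w₀ * (a * d * a⁻¹)⁻¹
              = d * ((d⁻¹ * (a * d * a⁻¹)) * w₀ * (d⁻¹ * (a * d * a⁻¹))⁻¹) * d⁻¹ := by group
            _ = d * w₀ * d⁻¹ := by rw [e3]
        exact hw21' (e1.symm.trans e2)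
      · exact h
    have hav : a * ⁅z, d⁆ * a⁻¹ = d⁻¹ * ⁅z, d⁆⁻¹ * d := by
      have e1 : a * ⁅z, d⁆ * a⁻¹ = ⁅a * z * a⁻¹, a * d * a⁻¹⁆ := by
        simp only [commutatorElement_def]; group
      rw [e1, hza]
      have hq1 : ⁅z, d * (a * d * a⁻¹)⁆ = 1 := hZQ z hz _ hde
      have e2 : ⁅z, a * d * a⁻¹⁆ = ⁅z, d⁻¹⁆ * (d⁻¹ * ⁅z, d * (a * d * a⁻¹)⁆ * d) := by
        simp only [commutatorElement_def]; group
      rw [e2, hq1]
      simp only [commutatorElement_def]; group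
    rw [wOf_inv hK hv] at hav
    rcases henum _ hv with h | h | h | h
    · left; exact h
    · exfalso; rw [h, ha0, hdinv0] at hav; exact hw20 hav.symm
    · exfalso; rw [h, ha1, hdinv1] at hav; exact hw20 hav
    · right; exact h
  have hcase1 : ∀ z ∈ omegaCenterOf (thompsonSubgroupOf 2 T), ⁅z, d⁆ = 1 →
      z ∈ omegaCenterOf (thompsonSubgroupOf 2 T) ⊓ ((K ⊔ Cfsg.thompsonSubgroupOf 2 T) ⊓
        Subgroup.centralizer ((K ⊔ Cfsg.thompsonSubgroupOf 2 T) : Set G)) := by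
    intro z hz hzd
    refine Subgroup.mem_inf.mpr ⟨hz, Subgroup.mem_inf.mpr ⟨?_, ?_⟩⟩
    · exact le_sup_right (a := K) (((omegaCenterOf_le _) hz).1)
    · have hzd' : d * z = z * d := by
        have : z * d * z⁻¹ * d⁻¹ = 1 := by rw [← commutatorElement_def]; exact hzd
        calc d * z = (z * d * z⁻¹ * d⁻¹)⁻¹ * z * d := by group
          _ = z * d := by rw [this]; group
      have hzq : ∀ q ∈ pCoreOf 2 K, q * z = z * q := by
        intro q hq
        have : z * q * z⁻¹ * q⁻¹ = 1 := by rw [← commutatorElement_def]; exact hZQ z hz q hq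
        calc q * z = (z * q * z⁻¹ * q⁻¹)⁻¹ * z * q := by group
          _ = z * q := by rw [this]; group
      have hzj : ∀ j ∈ thompsonSubgroupOf 2 T, j * z = z * j := fun j hj =>
        (Subgroup.mem_centralizer_iff.mp ((omegaCenterOf_le _) hz).2) j hj
      have hdi : d⁻¹ * z = z * d⁻¹ := by
        calc d⁻¹ * z = d⁻¹ * (z * d) * d⁻¹ := by group
          _ = d⁻¹ * (d * z) * d⁻¹ := by rw [hzd']
          _ = z * d⁻¹ := by group
      have hzk : ∀ k ∈ K, k * z = z * k := by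
        intro k hk
        rcases cases_of_mem h3 hd hdQ hd3 hk with h | h | h
        · exact hzq k h
        · calc k * z = d * ((d⁻¹ * k) * z) := by group
            _ = d * (z * (d⁻¹ * k)) := by rw [hzq _ h]
            _ = (d * z) * (d⁻¹ * k) := by group
            _ = (z * d) * (d⁻¹ * k) := by rw [hzd']
            _ = z * k := by group
        · calc k * z = d⁻¹ * ((d * k) * z) := by group
            _ = d⁻¹ * (z * (d * k)) := by rw [hzq _ h]
            _ = (d⁻¹ * z) * (d * k) := by group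
            _ = (z * d⁻¹) * (d * k) := by rw [hdi]
            _ = z * k := by group
      rw [Subgroup.mem_centralizer_iff]
      rintro x (hx | hx)
      · exact hzk x hx
      · exact hzj x hx
  have hw0Z : w₀ ∈ omegaCenterOf (thompsonSubgroupOf 2 T) := by
    have hw0S : w₀ ∈ pCoreOf 2 K ⊔ thompsonSubgroupOf 2 T := hWS hw0
    have hcomm0 : ∀ j ∈ thompsonSubgroupOf 2 T, j * w₀ = w₀ * j := by
      intro j hj
      have := hfix j hj
      calc j * w₀ = (j * w₀ * j⁻¹) * j := by group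
        _ = w₀ * j := by rw [this]
    have hw0A : w₀ ∈ A :=
      mem_of_isMaxEAIn_of_commute hAS hw0S (by rw [pow_two]; exact hsq w₀ hw0)
        (fun x hx => hcomm0 x (hAJ hx))
    apply mem_omegaCenterOf (hAJ hw0A) _ (by rw [pow_two]; exact hsq w₀ hw0)
    rw [Subgroup.mem_centralizer_iff]
    intro j hj
    exact hcomm0 j hj
  constructor
  · have hset : ((omegaCenterOf (thompsonSubgroupOf 2 T) ⊓ wOf K : Subgroup G) : Set G) =
        {1, w₀} := by
      ext y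
      simp only [Subgroup.coe_inf, Set.mem_inter_iff, SetLike.mem_coe, Set.mem_insert_iff,
        Set.mem_singleton_iff]
      constructor
      · rintro ⟨h1, h2⟩; exact hZW y h1 h2
      · rintro (h | h)
        · rw [h]; exact ⟨Subgroup.one_mem _, Subgroup.one_mem _⟩
        · rw [h]; exact ⟨hw0Z, hw0⟩
    have hc : Nat.card ↥(omegaCenterOf (thompsonSubgroupOf 2 T) ⊓ wOf K) =
        ((omegaCenterOf (thompsonSubgroupOf 2 T) ⊓ wOf K : Subgroup G) : Set G).ncard :=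
      Nat.card_coe_set_eq _
    rw [hc, hset, Set.ncard_pair (Ne.symm hw01)]
  · apply le_antisymm
    · exact sup_le inf_le_left inf_le_left
    · intro z hz
      rcases hphi z hz with h | h
      · exact Subgroup.mem_sup_left (hcase1 z hz h)
      · have hz' : z * w₀ ∈ omegaCenterOf (thompsonSubgroupOf 2 T) := mul_mem hz hw0Z
        have hzw2 : w₂ * z = z * w₂ :=
          (Subgroup.mem_centralizer_iff.mp (hA1C (hZ1A1 (hZ0Z1 hz)))) w₂ hw2W
        have hw0d : ⁅w₀, d⁆ = w₂ := by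
          rw [commutatorElement_def]
          calc w₀ * d * w₀⁻¹ * d⁻¹ = w₀ * (d * w₀ * d⁻¹)⁻¹ := by group
            _ = w₀ * w₁ := by rw [wOf_inv hK hw1W]
            _ = w₂ := hprod
        have h' : ⁅z * w₀, d⁆ = 1 := by
          have e : ⁅z * w₀, d⁆ = z * ⁅w₀, d⁆ * z⁻¹ * ⁅z, d⁆ := by
            simp only [commutatorElement_def]; group
          rw [e, hw0d, h, ← hzw2]
          have : w₂ * z * z⁻¹ * w₂ = w₂ * w₂ := by group
          rw [this]; exact hsq w₂ hw2W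
        have hmem := hcase1 _ hz' h'
        have e : z = (z * w₀) * w₀ := by rw [mul_assoc, hsq w₀ hw0, mul_one]
        rw [e]
        exact Subgroup.mul_mem_sup hmem ⟨hw0Z, hw0⟩

/-- Let G be a finite group of characteristic 2 type in which every 2-local subgroup is solvable and the centralizer of Ω₁(Z(S)) lies in N_G(S) for every Sylow 2-subgroup S, and let T be a nontrivial 2-subgroup (below, J is the Thompson subgroup generated by the elementary abelian 2-subgroups of largest order), K a J(T)-component and Z₀ = Ω₁(Z(J(T))). Then Z₀ meets W_K = [Ω₁(Z(O₂(K))), K] in a subgroup of order 2, and Z₀ is the product of Z₀ ∩ Z(⟨K, J(T)⟩) and Z₀ ∩ W_K. -/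
theorem result {G : Type*} [Group G] [Finite G] (hL : Cfsg.IsCharacteristicTwoType G) (hN : ∀ N : Subgroup G, Cfsg.IsTwoLocal N → Group.IsSolvable ↥N)
    (hZ : ∀ S : Sylow 2 G, Subgroup.centralizer (Cfsg.omegaCenterOf (S : Subgroup G) : Set G) ≤ Subgroup.normalizer ((S : Subgroup G) : Set G)) (T : Subgroup G) (hT : IsPGroup 2 ↥T) (hT1 : T ≠ ⊥) (K : Subgroup G) (hK : Cfsg.IsJComponent T K)
    (Z₀ : Subgroup G) (hZ₀ : Z₀ = Cfsg.omegaCenterOf (Cfsg.thompsonSubgroupOf 2 T)) :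
    Nat.card ↥(Z₀ ⊓ Cfsg.wOf K) = 2 ∧
      (Z₀ ⊓ ((K ⊔ Cfsg.thompsonSubgroupOf 2 T) ⊓ Subgroup.centralizer ((K ⊔ Cfsg.thompsonSubgroupOf 2 T) : Set G))) ⊔ (Z₀ ⊓ Cfsg.wOf K) = Z₀ := by
  subst hZ₀
  exact main T hT K hK

end Cfsg.Agent.S2946
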