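import Cfsg.Statements.S2947
import Cfsg.Agent.Lib.Helper17.StrongPEmb
import Cfsg.Agent.Lib.Helper17.SylowLemmas
import Cfsg.Agent.Lib.Helper17.WeaklyClosed
import Cfsg.Agent.Lib.Helper17.Large
import Cfsg.Agent.Lib.Helper17.SylowControl
import Cfsg.Agent.Lib.Helper16.PCore

set_option autoImplicit false
open Cfsg
open Cfsg.Agent.Lib.Helper17

namespace Cfsg.Agent.S2947

theorem even_card_of_two_group {G : Type*} [Group G] [Finite G] {X : Subgroup G}
    (hX : IsPGroup 2 X) (hX1 : X ≠ ⊥) : 2 ∣ Nat.card X := by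
  obtain ⟨n, hn⟩ := hX.exists_card_eq
  have hn0 : n ≠ 0 := by
    rintro rfl
    rw [pow_zero, Subgroup.card_eq_one] at hn
    exact hX1 hn
  rw [hn]
  exact dvd_pow_self 2 hn0

/-- forward direction: strongly embedded implies no straddling subgroups -/
theorem forward {G : Type*} [Group G] [Finite G] (M : Subgroup G)
    (hSE : Cfsg.IsStronglyEmbedded M) : Cfsg.straddlingTwoSubgroups M = ∅ := by
  obtain ⟨_, _, hodd⟩ := hSE
  -- Fact A
  have factA : ∀ (X : Subgroup G) (g : G), IsPGroup 2 X → X ≠ ⊥ → X ≤ M →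
      X ≤ M.map (MulAut.conj g).toMonoidHom → g ∈ M := by
    intro X g hX hX1 hXM hXMg
    by_contra hg
    have h1 := hodd g hg
    have h2 : 2 ∣ Nat.card ↥(M ⊓ M.map (MulAut.conj g).toMonoidHom) :=
      (even_card_of_two_group hX hX1).trans (Subgroup.card_dvd_of_le (le_inf hXM hXMg))
    rw [← Nat.not_even_iff_odd, even_iff_two_dvd] at h1
    exact h1 h2
  have factB : ∀ X : Subgroup G, IsPGroup 2 X → X ≠ ⊥ → X ≤ M →
      Subgroup.normalizer (X : Set G) ≤ M := by
    intro X hX hX1 hXM g hg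
    apply factA X g hX hX1 hXM
    have : X.map (MulAut.conj g).toMonoidHom ≤ M.map (MulAut.conj g).toMonoidHom :=
      Subgroup.map_mono hXM
    rwa [map_conj_eq_of_mem_normalizer hg] at this
  rw [Set.eq_empty_iff_forall_notMem]
  rintro T ⟨hT, hT1, hTM, L, ⟨U, hU, hU1, rfl⟩, hTL, hLM⟩
  apply hLM
  have hP : IsPGroup 2 (T ⊔ U : Subgroup G) := hT.to_sup_of_normal_right' hU hTL
  have hP1 : T ⊔ U ≠ ⊥ := fun h => hT1 (eq_bot_iff.mpr (h ▸ le_sup_left))
  have hZ1 := center_ne_bot_of_pgroup hP hP1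
  set Z₀ := (T ⊔ U) ⊓ Subgroup.centralizer ((T ⊔ U : Subgroup G) : Set G) with hZ₀
  have hZ₀p : IsPGroup 2 Z₀ := hP.to_le inf_le_left
  have hZ₀M : Z₀ ≤ M := by
    refine le_trans ?_ (factB T hT hT1 hTM)
    refine le_trans inf_le_right ?_
    have hsub : (T : Set G) ⊆ ((T ⊔ U : Subgroup G) : Set G) := fun x hx =>
      (le_sup_left : T ≤ T ⊔ U) hx
    exact (Subgroup.centralizer_le hsub).trans (Subgroup.centralizer_le_normalizer _)
  have hPM : T ⊔ U ≤ M := by
    refine le_trans ?_ (factB Z₀ hZ₀p hZ1 hZ₀M)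
    refine le_trans ?_ (Subgroup.centralizer_le_normalizer _)
    rw [Subgroup.le_centralizer_iff]
    exact inf_le_right
  exact factB U hU hU1 (le_sup_right.trans hPM)

/-- backward direction -/
theorem backward {G : Type*} [Group G] [Finite G] (hO : Cfsg.pCore 2 G = ⊥) (M : Subgroup G)
    (hM : Cfsg.IsTwoLocal M) (hS : Cfsg.straddlingTwoSubgroups M = ∅) :
    Cfsg.IsStronglyEmbedded M := by
  have hnorm : ∀ T : Subgroup G, IsPGroup 2 T → T ≠ ⊥ → T ≤ M →
      Subgroup.normalizer (T : Set G) ≤ M := by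
    intro T hT hT1 hTM
    by_contra hcon
    have : T ∈ Cfsg.straddlingTwoSubgroups M :=
      ⟨hT, hT1, hTM, Subgroup.normalizer (T : Set G), ⟨T, hT, hT1, rfl⟩, Subgroup.le_normalizer, hcon⟩
    rw [hS] at this
    exact this
  obtain ⟨T₁, hT₁, hT₁1, rfl⟩ := hM
  refine ⟨?_, ?_, ?_⟩
  · intro htop
    apply hT₁1
    have hn : T₁.Normal := Subgroup.normalizer_eq_top_iff.mp htop
    have := Cfsg.Agent.Lib.Helper16.le_pCore T₁ hn hT₁
    rw [hO] at this
    exact eq_bot_iff.mpr this
  · rw [even_iff_two_dvd]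
    exact (even_card_of_two_group hT₁ hT₁1).trans (Subgroup.card_dvd_of_le Subgroup.le_normalizer)
  · intro g hg
    set M := Subgroup.normalizer (T₁ : Set G) with hMdef
    rw [← Nat.not_even_iff_odd, even_iff_two_dvd]
    intro hdvd
    set D := M ⊓ M.map (MulAut.conj g).toMonoidHom with hDdef
    have P : Sylow 2 ↥D := default
    have hP1 : (P : Subgroup ↥D) ≠ ⊥ := sylow_ne_bot_of_dvd hdvd P
    set T := (P : Subgroup ↥D).map D.subtype with hTdef
    have hTp : IsPGroup 2 T := P.2.map _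
    have hT1 : T ≠ ⊥ := by
      intro h
      apply hP1
      exact (Subgroup.map_eq_bot_iff_of_injective _ D.subtype_injective).mp h
    have hTD : T ≤ D := Subgroup.map_subtype_le _
    have hTM : T ≤ M := hTD.trans inf_le_left
    have hTMg : T ≤ M.map (MulAut.conj g).toMonoidHom := hTD.trans inf_le_right
    have hN1 : Subgroup.normalizer (T : Set G) ≤ M := hnorm T hTp hT1 hTM
    -- T' = g⁻¹ T g ≤ M
    have hT'M : T.map (MulAut.conj g⁻¹).toMonoidHom ≤ M := le_map_conj_iff.mp hTMg
    have hT'p : IsPGroup 2 (T.map (MulAut.conj g⁻¹).toMonoidHom) := hTp.map _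
    have hT'1 : T.map (MulAut.conj g⁻¹).toMonoidHom ≠ ⊥ := by
      intro h
      apply hT1
      exact (Subgroup.map_eq_bot_iff_of_injective _ (MulAut.conj g⁻¹).injective).mp h
    have hN2 : Subgroup.normalizer (T : Set G) ≤ M.map (MulAut.conj g).toMonoidHom := by
      have h1 := hnorm _ hT'p hT'1 hT'M
      rw [normalizer_map_conj'] at h1
      exact le_map_conj_iff.mpr h1
    have hND : Subgroup.normalizer (T : Set G) ≤ D := le_inf hN1 hN2
    -- T is a Sylow 2-subgroup of G
    obtain ⟨S', hS'⟩ := hTp.exists_le_sylow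
    have hTS' : T = (S' : Subgroup G) := by
      by_contra hne
      have hlt : T < (S' : Subgroup G) := lt_of_le_of_ne hS' hne
      obtain ⟨n, hnS', hnN, hnT⟩ := pgroup_normalizer_gt S'.2 hlt
      have hTn : IsPGroup 2 (T ⊔ Subgroup.zpowers n : Subgroup G) :=
        S'.2.to_le (sup_le hS' (Subgroup.zpowers_le.mpr hnS'))
      have hTnD : T ⊔ Subgroup.zpowers n ≤ D :=
        (sup_le Subgroup.le_normalizer (Subgroup.zpowers_le.mpr hnN)).trans hND
      have hmax := P.3 (hTn.comap_subtype (K := D)) (by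
        intro x hx
        rw [Subgroup.mem_comap]
        exact Subgroup.mem_sup_left ⟨x, hx, rfl⟩)
      have hnP : (⟨n, hTnD (Subgroup.mem_sup_right (Subgroup.mem_zpowers n))⟩ : ↥D) ∈
          (P : Subgroup ↥D) := by
        rw [← hmax, Subgroup.mem_comap]
        exact Subgroup.mem_sup_right (Subgroup.mem_zpowers n)
      exact hnT ⟨_, hnP, rfl⟩
    -- conjugate g⁻¹ T g back into T inside M
    obtain ⟨m, hm, hmle⟩ := exists_conj_le_sylow_of_le hT'p hT'M S' (hTS' ▸ hTM)
    rw [← hTS', ← map_conj_mul] at hmle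
    have hmg : m * g⁻¹ ∈ Subgroup.normalizer (T : Set G) := mem_normalizer_of_map_conj_le hmle
    have h3 : m * g⁻¹ ∈ M := hN1 hmg
    have h4 : g⁻¹ ∈ M := by
      have := M.mul_mem (M.inv_mem hm) h3
      rwa [inv_mul_cancel_left] at this
    exact hg (by simpa using M.inv_mem h4)

/-- Let G be a finite group of characteristic 2 type in which every 2-local subgroup is solvable and the centralizer of Ω₁(Z(S)) lies in N_G(S) for every Sylow 2-subgroup S; suppose O₂(G) = 1, fix a Sylow 2-subgroup S and a 2-local subgroup M containing N_G(J(S)) (J the Thompson subgroup generated by the elementary abelian 2-subgroups of largest order). Then M is strongly embedded in G (a proper subgroup of even order whose intersection with each conjugate by an element outside M has odd order) if and only if no nontrivial 2-subgroup of M lies in a 2-local subgroup of G not contained in M. -/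
theorem result {G : Type*} [Group G] [Finite G] (hL : Cfsg.IsCharacteristicTwoType G) (hN : ∀ N : Subgroup G, Cfsg.IsTwoLocal N → Group.IsSolvable ↥N)
    (hZ : ∀ S : Sylow 2 G, Subgroup.centralizer (Cfsg.omegaCenterOf (S : Subgroup G) : Set G) ≤ Subgroup.normalizer ((S : Subgroup G) : Set G)) (hO : Cfsg.pCore 2 G = ⊥) (S : Sylow 2 G) (M : Subgroup G) (hM : Cfsg.IsTwoLocal M)
    (hMJ : Subgroup.normalizer (Cfsg.thompsonSubgroupOf 2 (S : Subgroup G) : Set G) ≤ M) :
    Cfsg.IsStronglyEmbedded M ↔ Cfsg.straddlingTwoSubgroups M = ∅ :=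
  ⟨forward M, backward hO M hM⟩

end Cfsg.Agent.S2947
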