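import Mathlib
import Cfsg.Statements.S2948
import Cfsg.Agent.Lib.Helper17.JStrad

set_option autoImplicit false
open Cfsg

namespace Cfsg.Agent.S2948

open Cfsg.Agent.Lib.Helper17 Cfsg.Agent.Lib.Helper27 Cfsg.Agent.Lib.Helper17.JComp
  Cfsg.Agent.Lib.Helper17.JStruct Cfsg.Agent.Lib.Helper17.JMap Cfsg.Agent.Lib.Helper17.JStrad
  Cfsg.Agent.Lib.Helper17.JExB

/-- Let G be a finite group of characteristic 2 type in which every 2-local subgroup is solvable and the centralizer of Ω₁(Z(S)) lies in N_G(S) for every Sylow 2-subgroup S; suppose O₂(G) = 1, fix a Sylow 2-subgroup S and a 2-local subgroup M containing N_G(J(S)) (J the Thompson subgroup generated by the elementary abelian 2-subgroups of largest order). Let T be maximal (as in the family 𝒯*(M): lexicographically for the order of a largest elementary abelian subgroup, the order of J(T), the order of T) among the nontrivial 2-subgroups of M lying in a 2-local subgroup not inside M, and let L be a 2-local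 subgroup not contained in M with a Sylow 2-subgroup T₀ containing J(T). Then J(T) = J(T₀), T₀ again lies in a 2-local subgroup not inside M (and is a nontrivial 2-subgroup of M), and L belongs to the family ℒ(T₀): T₀ is Sylow in L, J(T₀) is not inside O₂(L) and C_G(O₂(L)) ≤ O₂(L). In particular if T ≤ L then T itself is a Sylow 2-subgroup of L, L ∈ ℒ(T), and L contains a J(T)-component. -/
theorem result {G : Type*} [Group G] [Finite G] (hL : Cfsg.IsCharacteristicTwoType G) (hN : ∀ N : Subgroup G, Cfsg.IsTwoLocal N → Group.IsSolvable ↥N)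
    (hZ : ∀ S : Sylow 2 G, Subgroup.centralizer (Cfsg.omegaCenterOf (S : Subgroup G) : Set G) ≤ Subgroup.normalizer ((S : Subgroup G) : Set G)) (hO : Cfsg.pCore 2 G = ⊥) (S : Sylow 2 G) (M : Subgroup G) (hM : Cfsg.IsTwoLocal M)
    (hMJ : Subgroup.normalizer (Cfsg.thompsonSubgroupOf 2 (S : Subgroup G) : Set G) ≤ M) (T : Subgroup G) (hT : T ∈ Cfsg.maxStraddlingTwoSubgroups M)
    (L : Subgroup G) (hL2 : Cfsg.IsTwoLocal L) (hLM : ¬ L ≤ M) (T₀ : Subgroup G) (hT₀ : Cfsg.IsSylowTwoIn T₀ L)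
    (hJT₀ : Cfsg.thompsonSubgroupOf 2 T ≤ T₀) :
    Cfsg.thompsonSubgroupOf 2 T = Cfsg.thompsonSubgroupOf 2 T₀ ∧ T₀ ∈ Cfsg.straddlingTwoSubgroups M ∧ L ∈ Cfsg.jOvergroups T₀ ∧
      (T ≤ L → L ∈ Cfsg.jOvergroups T ∧ ∃ K : Subgroup G, Cfsg.IsJComponent T K ∧ K ≤ L) := by
  have hNJ := normalizer_thompson_le S hMJ hT
  obtain ⟨hJeq, hT₀s, haeq⟩ := sylow_data hNJ hT hL2 hLM hT₀ hJT₀
  have hLnot : ¬ L ≤ Subgroup.normalizer (thompsonSubgroupOf 2 T₀ : Set G) := by
    intro h
    apply hLM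
    rw [hJeq] at h
    exact h.trans hNJ
  have hLT₀ := mem_jOvergroups hL hL2 hT₀ hLnot
  refine ⟨hJeq.symm, hT₀s, hLT₀, fun hTL => ?_⟩
  have hT2 : IsPGroup 2 ↥T := hT.1.1
  obtain ⟨l, hl, hle⟩ := exists_conj_le hT₀ hTL hT2
  have hcard : Nat.card ↥T₀ ≤ Nat.card ↥T :=
    ((hT.2 T₀ hT₀s).2 haeq).2 (by rw [hJeq])
  have hTl : T.map (MulAut.conj l).toMonoidHom = T₀ := by
    apply Subgroup.eq_of_le_of_card_ge hle
    rw [card_map_conj]
    exact hcard
  have hST : IsSylowTwoIn T L := by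
    have h1 := isSylowTwoIn_map (MulAut.conj l⁻¹) hT₀
    rw [← hTl, map_conj_map_conj_inv, map_conj_eq_self_of_mem (L.inv_mem hl)] at h1
    exact h1
  have hLT : L ∈ jOvergroups T := by
    refine ⟨hST, ?_, hLT₀.2.2⟩
    rw [← hJeq]
    exact hLT₀.2.1
  exact ⟨hLT, exists_component hN hZ hLT⟩

end Cfsg.Agent.S2948
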