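import Mathlib
import Cfsg.Statements.S2949
import Cfsg.Agent.S2948
import Cfsg.Agent.Lib.Helper17.JOut

set_option autoImplicit false
open Cfsg

namespace Cfsg.Agent.S2949

open Cfsg.Agent.Lib.Helper17 Cfsg.Agent.Lib.Helper27 Cfsg.Agent.Lib.Helper17.JComp
  Cfsg.Agent.Lib.Helper17.JStruct Cfsg.Agent.Lib.Helper17.JStrad Cfsg.Agent.Lib.Helper17.JZero
  Cfsg.Agent.Lib.Helper17.JOut

/-- Let G be a finite group of characteristic 2 type in which every 2-local subgroup is solvable and the centralizer of Ω₁(Z(S)) lies in N_G(S) for every Sylow 2-subgroup S; suppose O₂(G) = 1, fix a Sylow 2-subgroup S and a 2-local subgroup M containing N_G(J(S)) (J the Thompson subgroup generated by the elementary abelian 2-subgroups of largest order). For every T maximal (for the order of a largest elementary abelian subgroup, then the order of J(T), then the order of T) among the nontrivial 2-subgroups of M lying in a 2-local subgroup not inside M, there is a J(T)-component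 K not contained in M with J(T) the Thompson subgroup of every Sylow 2-subgroup of N_G(W_K) containing J(T), and O₂(⟨K, T⟩) ≠ 1. -/
theorem result {G : Type*} [Group G] [Finite G] (hL : Cfsg.IsCharacteristicTwoType G) (hN : ∀ N : Subgroup G, Cfsg.IsTwoLocal N → Group.IsSolvable ↥N)
    (hZ : ∀ S : Sylow 2 G, Subgroup.centralizer (Cfsg.omegaCenterOf (S : Subgroup G) : Set G) ≤ Subgroup.normalizer ((S : Subgroup G) : Set G)) (hO : Cfsg.pCore 2 G = ⊥) (S : Sylow 2 G) (M : Subgroup G) (hM : Cfsg.IsTwoLocal M)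
    (hMJ : Subgroup.normalizer (Cfsg.thompsonSubgroupOf 2 (S : Subgroup G) : Set G) ≤ M) (T : Subgroup G) (hT : T ∈ Cfsg.maxStraddlingTwoSubgroups M) :
    (Cfsg.jComponentsOutside M T).Nonempty := by
  have hNJ := normalizer_thompson_le S hMJ hT
  have hT' := hT
  obtain ⟨⟨hT2, hT1, hTM, L₁, hL₁, hTL₁, hL₁M⟩, -⟩ := hT'
  obtain ⟨T₀, hT₀, hTT₀⟩ := exists_isSylowTwoIn hTL₁ hT2
  have hJT₀ : thompsonSubgroupOf 2 T ≤ T₀ := (thompsonSubgroupOf_le 2 T).trans hTT₀
  obtain ⟨-, -, -, h4⟩ :=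
    Cfsg.Agent.S2948.result hL hN hZ hO S M hM hMJ T hT L₁ hL₁ hL₁M T₀ hT₀ hJT₀
  obtain ⟨hLT, -⟩ := h4 hTL₁
  obtain ⟨K, hK, hKL, hKM⟩ := exists_component_not_le hN hZ hLT hNJ hL₁M
  refine ⟨K, ⟨hK, ?_⟩, hKM, ?_⟩
  · intro S' hJS' hS'
    have h3 := hK.2.2.1
    have hcard := hK.2.2.2.2.1
    have hW2 : IsPGroup 2 ↥(wOf K) := IsPGroup.of_card (n := 2) (by rw [hcard]; norm_num)
    have hW1 : wOf K ≠ ⊥ := by
      intro h
      rw [h, Subgroup.card_bot] at hcard
      omega
    have hloc : IsTwoLocal (Subgroup.normalizer (wOf K : Set G)) := ⟨wOf K, hW2, hW1, rfl⟩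
    have hKN : K ≤ Subgroup.normalizer (wOf K : Set G) :=
      Subgroup.le_normalizer.trans (normalizer_le_normalizer_wOf h3)
    have hnot : ¬ Subgroup.normalizer (wOf K : Set G) ≤ M := fun h => hKM (hKN.trans h)
    obtain ⟨h1, -, -, -⟩ :=
      Cfsg.Agent.S2948.result hL hN hZ hO S M hM hMJ T hT _ hloc hnot S' hS' hJS'
    exact h1.symm
  · intro hbot
    apply pCoreOf_ne_bot hLT
    rw [eq_bot_iff, ← hbot]
    intro x hxQ
    have hxX : x ∈ K ⊔ T := Subgroup.mem_sup_right (pCoreOf_le_of_isSylowTwoIn hLT.1 hxQ)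
    rw [JComp.mem_pCoreOf_iff hxX]
    exact subgroupOf_le_pCore ((sup_le hKL hTL₁).trans (JStruct.le_normalizer_pCoreOf L₁))
      (JComp.pCoreOf_isPGroup L₁) (Subgroup.mem_subgroupOf.mpr hxQ)

end Cfsg.Agent.S2949
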