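import Mathlib
import Cfsg.Statements.S2950
import Cfsg.Agent.Lib.Helper17.JMaxLoc
import Cfsg.Agent.S2942
import Cfsg.Agent.S2948

set_option autoImplicit false
open Cfsg

namespace Cfsg.Agent.S2950

open Cfsg.Agent.Lib.Helper17 Cfsg.Agent.Lib.Helper27 Cfsg.Agent.Lib.Helper17.JComp
  Cfsg.Agent.Lib.Helper17.JStruct Cfsg.Agent.Lib.Helper17.JUniq Cfsg.Agent.Lib.Helper17.JMap
  Cfsg.Agent.Lib.Helper17.JMaxEA Cfsg.Agent.Lib.Helper17.JZero Cfsg.Agent.Lib.Helper17.JMaxLoc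
open scoped commutatorElement

/-- Uniqueness of the maximal 2-local overgroup. Let G be a finite group of characteristic 2 type in which every 2-local subgroup is solvable and the centralizer of Ω₁(Z(S)) lies in N_G(S) for every Sylow 2-subgroup S; suppose O₂(G) = 1, fix a Sylow 2-subgroup S and a 2-local subgroup M containing N_G(J(S)) (J the Thompson subgroup generated by the elementary abelian 2-subgroups of largest order). Let T be maximal (for the order of a largest elementary abelian subgroup, then the order of J(T), then the order of T) among the nontrivial 2-subgroups of M lying in a 2-local subgroup not inside M, and let K be a J(T)-component not contained in M with J(T) the Thompson subgroup of every Sylow 2-subgroup of N_G(W_K) containing J(T), and O₂(⟨K, T⟩) ≠ 1. Then there is exactly one maximal 2-local subgroup L of G containing ⟨K, J(T)⟩; moreover K is subnormal in L and T is a Sylow 2-subgroup of L. -/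
theorem result {G : Type*} [Group G] [Finite G] (hL : Cfsg.IsCharacteristicTwoType G) (hN : ∀ N : Subgroup G, Cfsg.IsTwoLocal N → Group.IsSolvable ↥N)
    (hZ : ∀ S : Sylow 2 G, Subgroup.centralizer (Cfsg.omegaCenterOf (S : Subgroup G) : Set G) ≤ Subgroup.normalizer ((S : Subgroup G) : Set G)) (hO : Cfsg.pCore 2 G = ⊥) (S : Sylow 2 G) (M : Subgroup G) (hM : Cfsg.IsTwoLocal M)
    (hMJ : Subgroup.normalizer (Cfsg.thompsonSubgroupOf 2 (S : Subgroup G) : Set G) ≤ M) (T : Subgroup G) (hT : T ∈ Cfsg.maxStraddlingTwoSubgroups M)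
    (K : Subgroup G) (hK : K ∈ Cfsg.jComponentsOutside M T) :
    ∃ L : Subgroup G, Cfsg.IsMaximalTwoLocal L ∧ K ⊔ Cfsg.thompsonSubgroupOf 2 T ≤ L ∧
      (∀ L' : Subgroup G, Cfsg.IsMaximalTwoLocal L' → K ⊔ Cfsg.thompsonSubgroupOf 2 T ≤ L' → L' = L) ∧
      (K.subgroupOf L).IsSubnormal ∧ Cfsg.IsSylowTwoIn T L := by
  classical
  have hT' := hT
  obtain ⟨⟨hT2, hT1, hTM, -⟩, -⟩ := hT'
  obtain ⟨hK0, hKM, hOP⟩ := hK
  have hKc : IsJComponent T K := hK0.1
  have h3 := hKc.2.2.1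
  have hNJM : Subgroup.normalizer ((thompsonSubgroupOf 2 T : Subgroup G) : Set G) ≤ M :=
    JStrad.normalizer_thompson_le S hMJ hT
  have hJT : thompsonSubgroupOf 2 T ≤ T := thompsonSubgroupOf_le 2 T
  have hJ2 : IsPGroup 2 ↥(thompsonSubgroupOf 2 T) := hT2.to_le hJT
  have hKNW : K ≤ Subgroup.normalizer ((wOf K : Subgroup G) : Set G) :=
    Subgroup.le_normalizer.trans (normalizer_le_normalizer_wOf h3)
  have hJNW : thompsonSubgroupOf 2 T ≤ Subgroup.normalizer ((wOf K : Subgroup G) : Set G) :=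
    (thompson_le_normalizer hKc).trans (normalizer_le_normalizer_wOf h3)
  -- facts for an arbitrary maximal 2-local containing `K J(T)`
  have hfacts : ∀ L, IsMaximalTwoLocal L → K ⊔ thompsonSubgroupOf 2 T ≤ L →
      ∃ T_L, L ∈ jOvergroups T_L ∧ thompsonSubgroupOf 2 T_L = thompsonSubgroupOf 2 T := by
    intro L hLmax hXL
    have hLM : ¬ L ≤ M := fun h => hKM ((le_sup_left.trans hXL).trans h)
    obtain ⟨T_L, hT_L, hJT_L⟩ := exists_isSylowTwoIn (le_sup_right.trans hXL) hJ2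
    obtain ⟨hJeq, -, hLT, -⟩ := Cfsg.Agent.S2948.result hL hN hZ hO S M hM hMJ T hT L hLmax.1 hLM
      T_L hT_L hJT_L
    exact ⟨T_L, hLT, hJeq.symm⟩
  -- the canonical 2-subgroup
  obtain ⟨𝒞, h𝒞⟩ : ∃ 𝒞 : Set (Subgroup G), 𝒞 = {K' | K' ∈ jComponentsZero T ∧
      K' ≤ Subgroup.normalizer ((wOf K : Subgroup G) : Set G)} := ⟨_, rfl⟩
  obtain ⟨R₀, hR₀⟩ : ∃ R₀ : Subgroup G, R₀ = ⨆ K' ∈ 𝒞, wOf K' := ⟨_, rfl⟩
  have hK𝒞 : K ∈ 𝒞 := by rw [h𝒞]; exact ⟨hK0, hKNW⟩
  have hWR : ∀ K' ∈ 𝒞, wOf K' ≤ R₀ := fun K' hK' => by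
    rw [hR₀]; exact le_iSup₂ (f := fun K' (_ : K' ∈ 𝒞) => wOf K') K' hK'
  -- data for `N_G(W_K)`
  obtain ⟨T_N, hT_N, hJT_N⟩ := exists_isSylowTwoIn hJNW hJ2
  obtain ⟨hJN, hKN, hNT, -, -⟩ := zero_data hL hK0 hT_N hJT_N
  have hT_N2 : IsPGroup 2 ↥T_N := hT_N.2.1
  have hT_N1 : T_N ≠ ⊥ := ne_bot_of_mem_jOvergroups hNT
  have hR₀le : R₀ ≤ pCoreOf 2 (Subgroup.normalizer ((wOf K : Subgroup G) : Set G)) := by
    rw [hR₀]
    apply iSup₂_le
    intro K' hK'
    rw [h𝒞] at hK'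
    have hK'c : IsJComponent T_N K' := isJComponent_of_thompson_eq hJN hK'.1.1
    exact (wOf_le_pCoreOf hK'c.2.2.1).trans
      (component_pCoreOf_le_pCoreOf hN hZ hNT hK'c hK'.2)
  have hR₀2 : IsPGroup 2 ↥R₀ := (JComp.pCoreOf_isPGroup _).to_le hR₀le
  have hR₀1 : R₀ ≠ ⊥ := by
    intro h
    have h1 := hWR K hK𝒞
    rw [h] at h1
    have h4 := hKc.2.2.2.2.1
    rw [le_bot_iff.mp h1] at h4
    simp at h4
  have hloc : IsTwoLocal (Subgroup.normalizer ((R₀ : Subgroup G) : Set G)) :=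
    ⟨R₀, hR₀2, hR₀1, rfl⟩
  have hcrit : ∀ g : G, (∀ K' ∈ 𝒞, (wOf K').map (MulAut.conj g).toMonoidHom ≤ R₀) →
      g ∈ Subgroup.normalizer ((R₀ : Subgroup G) : Set G) := by
    intro g hg
    apply mem_normalizer_of_map_conj_le
    rw [hR₀, Subgroup.map_iSup]
    apply iSup_le
    intro K'
    rw [Subgroup.map_iSup]
    apply iSup_le
    intro hK'
    rw [← hR₀]
    exact hg K' hK'
  -- every maximal 2-local containing `K J(T)` is `N_G(R₀)`
  have hkey : ∀ L, IsMaximalTwoLocal L → K ⊔ thompsonSubgroupOf 2 T ≤ L →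
      Subgroup.normalizer ((R₀ : Subgroup G) : Set G) = L := by
    intro L hLmax hXL
    obtain ⟨T_L, hLT, hJL⟩ := hfacts L hLmax hXL
    have hT_L2 : IsPGroup 2 ↥T_L := hLT.1.2.1
    have hT_L1 : T_L ≠ ⊥ := ne_bot_of_mem_jOvergroups hLT
    have hKL : K ≤ L := le_sup_left.trans hXL
    have hKcL : IsJComponent T_L K := isJComponent_of_thompson_eq hJL hKc
    apply hLmax.2 _ hloc
    apply le_of_components_le hN hZ hLT
    · rintro x ⟨hxL, hxJ⟩
      rw [SetLike.mem_coe, hJL] at hxJ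
      apply hcrit
      intro K' hK'
      have hK'' := hK'
      rw [h𝒞] at hK''
      obtain ⟨hK'0, hK'N⟩ := hK''
      -- the conjugate of `K` under `x`
      have hK₂0 : K.map (MulAut.conj x).toMonoidHom ∈ jComponentsZero T :=
        jComponentsZero_conj hK0 hxJ
      have hK₂L : K.map (MulAut.conj x).toMonoidHom ≤ L := by
        rintro _ ⟨k, hk, rfl⟩
        simp only [MulEquiv.coe_toMonoidHom, MulAut.conj_apply]
        exact L.mul_mem (L.mul_mem hxL (hKL hk)) (L.inv_mem hxL)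
      have hK₂cL : IsJComponent T_L (K.map (MulAut.conj x).toMonoidHom) :=
        isJComponent_of_thompson_eq hJL hK₂0.1
      have hKN₂ : K ≤ Subgroup.normalizer
          ((wOf (K.map (MulAut.conj x).toMonoidHom) : Subgroup G) : Set G) :=
        component_le_normalizer_wOf hL hN hZ hT_L2 hT_L1 hLT hK₂cL hKcL hK₂L hKL
      have hK'N₂ : K'.map (MulAut.conj x).toMonoidHom ≤ Subgroup.normalizer
          ((wOf (K.map (MulAut.conj x).toMonoidHom) : Subgroup G) : Set G) := by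
        rw [wOf_map_equiv, ← Subgroup.map_equiv_normalizer_eq]
        exact Subgroup.map_mono hK'N
      have hJN₂ : thompsonSubgroupOf 2 T ≤ Subgroup.normalizer
          ((wOf (K.map (MulAut.conj x).toMonoidHom) : Subgroup G) : Set G) :=
        (thompson_le_normalizer hK₂0.1).trans (normalizer_le_normalizer_wOf hK₂0.1.2.2.1)
      obtain ⟨T₂, hT₂, hJT₂⟩ := exists_isSylowTwoIn hJN₂ hJ2
      obtain ⟨hJ2', -, hN₂T, -, -⟩ := zero_data hL hK₂0 hT₂ hJT₂
      have hK'x0 : K'.map (MulAut.conj x).toMonoidHom ∈ jComponentsZero T :=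
        jComponentsZero_conj hK'0 hxJ
      have hmem : K'.map (MulAut.conj x).toMonoidHom ∈ 𝒞 := by
        rw [h𝒞]
        refine ⟨hK'x0, ?_⟩
        exact component_le_normalizer_wOf hL hN hZ hT₂.2.1 (ne_bot_of_mem_jOvergroups hN₂T) hN₂T
          (isJComponent_of_thompson_eq hJ2' hKc) (isJComponent_of_thompson_eq hJ2' hK'x0.1)
          hKN₂ hK'N₂
      rw [← wOf_map_equiv]
      exact hWR _ hmem
    · intro K_i hK_i hK_iL g hg
      apply hcrit
      intro K' hK'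
      have hK'' := hK'
      rw [h𝒞] at hK''
      obtain ⟨hK'0, hK'N⟩ := hK''
      have hK_iN : K_i ≤ Subgroup.normalizer ((wOf K : Subgroup G) : Set G) :=
        component_le_normalizer_wOf hL hN hZ hT_L2 hT_L1 hLT hKcL hK_i hKL hK_iL
      have hJNL : thompsonSubgroupOf 2 T_N = thompsonSubgroupOf 2 T_L := hJN.trans hJL.symm
      have hK_iN' : K_i ≤ Subgroup.normalizer ((wOf K' : Subgroup G) : Set G) :=
        component_le_normalizer_wOf hL hN hZ hT_N2 hT_N1 hNT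
          (isJComponent_of_thompson_eq hJN hK'0.1) (isJComponent_of_thompson_eq hJNL hK_i)
          hK'N hK_iN
      rw [map_conj_eq_of_mem_normalizer (hK_iN' hg)]
      exact hWR K' hK'
  -- existence
  have hP : K ⊔ T ≤ Subgroup.normalizer ((pCoreOf 2 (K ⊔ T) : Subgroup G) : Set G) :=
    JStruct.le_normalizer_pCoreOf _
  have hlocP : IsTwoLocal (Subgroup.normalizer ((pCoreOf 2 (K ⊔ T) : Subgroup G) : Set G)) :=
    ⟨_, JComp.pCoreOf_isPGroup _, hOP, rfl⟩
  obtain ⟨L₀, hL₀max, hPL₀⟩ := exists_isMaximalTwoLocal_ge hlocP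
  have hKL₀ : K ≤ L₀ := (le_sup_left.trans hP).trans hPL₀
  have hTL₀ : T ≤ L₀ := (le_sup_right.trans hP).trans hPL₀
  have hXL₀ : K ⊔ thompsonSubgroupOf 2 T ≤ L₀ := sup_le hKL₀ (hJT.trans hTL₀)
  have hL₀M : ¬ L₀ ≤ M := fun h => hKM (hKL₀.trans h)
  obtain ⟨T₀, hT₀, hJT₀⟩ := exists_isSylowTwoIn (hJT.trans hTL₀) hJ2
  obtain ⟨-, -, -, hlast⟩ := Cfsg.Agent.S2948.result hL hN hZ hO S M hM hMJ T hT L₀ hL₀max.1 hL₀M
    T₀ hT₀ hJT₀
  obtain ⟨hL₀T, -⟩ := hlast hTL₀
  refine ⟨L₀, hL₀max, hXL₀, ?_, ?_, hL₀T.1⟩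
  · intro L' hL'max hXL'
    exact (hkey L' hL'max hXL').symm.trans (hkey L₀ hL₀max hXL₀)
  · exact Cfsg.Agent.S2942.result hL hN hZ T hT2 hT1 L₀ hL₀T K hKc hKL₀

end Cfsg.Agent.S2950
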