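import Cfsg.Statements.S2955
import Cfsg.Agent.Lib.Helper17.SylowControl

set_option autoImplicit false
open Cfsg
open Cfsg.Agent.Lib.Helper17

namespace Cfsg.Agent.S2955

/-- one step: from `S' = k • S` with `k ∈ K` to `S'' = k' • S`. -/
theorem step {G : Type*} [Group G] [Finite G] (p : ℕ) [Fact p.Prime]
    (𝓕 : Set (Subgroup G)) (h𝓕 : Cfsg.IsNormalSet 𝓕) (S : Sylow p G) (K : Subgroup G)
    (hK : ∀ X ∈ Cfsg.sylowMembers p 𝓕 (S : Subgroup G), X ≤ K)
    (S' S'' : Sylow p G) (X : Subgroup G) (x : G)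
    (hX : X ∈ Cfsg.sylowMembers p 𝓕 (S' : Subgroup G)) (hx : x ∈ X)
    (hconj : Cfsg.subgroupConjRight x (S'' : Subgroup G) = (S' : Subgroup G))
    (hS' : ∃ k ∈ K, S' = k • S) : ∃ k ∈ K, S'' = k • S := by
  obtain ⟨k, hk, rfl⟩ := hS'
  -- X^{k} ∈ 𝓕(S)
  have h1 := sylowMembers_map_conj (p := p) h𝓕 k⁻¹ hX
  rw [sylow_smul_eq_map_conj, map_conj_map_conj_inv] at h1
  have h2 := hK _ h1
  have hxK : x ∈ K := by
    have : k⁻¹ * x * k⁻¹⁻¹ ∈ X.map (MulAut.conj k⁻¹).toMonoidHom := conj_mem_map_conj hx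
    have h3 := h2 this
    have h4 := K.mul_mem (K.mul_mem hk h3) (K.inv_mem hk)
    have e : k * (k⁻¹ * x * k⁻¹⁻¹) * k⁻¹ = x := by group
    rwa [e] at h4
  refine ⟨x * k, K.mul_mem hxK hk, ?_⟩
  apply Sylow.ext
  rw [sylow_smul_eq_map_conj, map_conj_mul, ← sylow_smul_eq_map_conj, ← hconj,
    subgroupConjRight_eq_map_conj, map_conj_inv_map_conj]

/-- Let p be a prime dividing the order of the finite group G and 𝓕 a conjugation-closed family of subgroups that controls Sylow p-intersections in G. Suppose the Sylow p-subgroups of G are chain-connected: any two of them are joined by a chain of Sylow p-subgroups, consecutive ones distinct with nontrivial intersection, all containing the intersection of the two ends (equivalently, the graph on the Sylow p-subgroups whose edges are the distinct pairs meeting nontrivially is connected). Then for every Sylow p-subgroup S, G is generated by N_G(S) together with the members of 𝓕 that meet S in a Sylow p-subgroup of themselves.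 -/
theorem result {G : Type*} [Group G] [Finite G] (p : ℕ) [Fact p.Prime] (hdiv : p ∣ Nat.card G)
    (𝓕 : Set (Subgroup G)) (h𝓕 : Cfsg.IsNormalSet 𝓕) (hc : Cfsg.ControlsSylowIntersections p 𝓕)
    (hconn : Cfsg.IsSylowChainConnected p G) (S : Sylow p G) :
    (⨆ X ∈ Cfsg.sylowMembers p 𝓕 (S : Subgroup G), X) ⊔ Subgroup.normalizer ((S : Subgroup G) : Set G) = ⊤ := by
  set K : Subgroup G := (⨆ X ∈ Cfsg.sylowMembers p 𝓕 (S : Subgroup G), X) ⊔
    Subgroup.normalizer ((S : Subgroup G) : Set G) with hKdef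
  have hK : ∀ X ∈ Cfsg.sylowMembers p 𝓕 (S : Subgroup G), X ≤ K := by
    intro X hX
    exact le_trans (le_iSup₂ (f := fun (X : Subgroup G)
      (_ : X ∈ Cfsg.sylowMembers p 𝓕 (S : Subgroup G)) => X) X hX) le_sup_left
  have hNK : Subgroup.normalizer ((S : Subgroup G) : Set G) ≤ K := le_sup_right
  -- Claim B
  have hB : ∀ S' T' : Sylow p G, S' ≠ T' → (S' : Subgroup G) ⊓ (T' : Subgroup G) ≠ ⊥ →
      (∃ k ∈ K, S' = k • S) → ∃ k ∈ K, T' = k • S := by
    intro S' T' hne hinf hS'
    obtain ⟨n, c, X, x, hc0, hcn, hstep⟩ := hc S' T' hne hinf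
    have : ∀ i : Fin (n + 1), ∃ k ∈ K, c i = k • S := by
      intro i
      induction i using Fin.induction with
      | zero => rw [hc0]; exact hS'
      | succ i ih =>
        obtain ⟨h1, _, h3, h4, _⟩ := hstep i
        exact step p 𝓕 h𝓕 S K hK (c i.castSucc) (c i.succ) (X i) (x i) h1 h3 h4 ih
    rw [← hcn]
    exact this (Fin.last n)
  -- Claim C
  have hC : ∀ T' : Sylow p G, ∃ k ∈ K, T' = k • S := by
    intro T'
    obtain ⟨n, c, hc0, hcn, _, hstep⟩ := hconn S T'
    have : ∀ i : Fin (n + 1), ∃ k ∈ K, c i = k • S := by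
      intro i
      induction i using Fin.induction with
      | zero => rw [hc0]; exact ⟨1, K.one_mem, (one_smul G S).symm⟩
      | succ i ih =>
        obtain ⟨h1, h2⟩ := hstep i
        exact hB _ _ h1 h2 ih
    rw [← hcn]
    exact this (Fin.last n)
  rw [eq_top_iff]
  intro g _
  obtain ⟨k, hk, hgk⟩ := hC (g • S)
  have h1 : (k⁻¹ * g) • S = S := by
    rw [mul_smul, hgk, ← mul_smul, inv_mul_cancel, one_smul]
  have h2 : k⁻¹ * g ∈ Subgroup.normalizer ((S : Subgroup G) : Set G) :=
    Sylow.smul_eq_iff_mem_normalizer.mp h1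
  have h3 := K.mul_mem hk (hNK h2)
  rwa [mul_inv_cancel_left] at h3

end Cfsg.Agent.S2955
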