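import Cfsg.Statements.S2956
import Cfsg.Agent.S2957
import Cfsg.Agent.Lib.Helper17.SylowLemmas
import Cfsg.Agent.Lib.Helper17.Conj
import Mathlib.Data.Set.Finite.Lemmas

set_option autoImplicit false
open Cfsg

namespace Cfsg.Agent.S2956

open Cfsg.Agent.Lib.Helper17
open Cfsg.Agent.S2957 (fin_of_reflTransGen reflTransGen_of_fin mem_functorFamily_top sylow_card_eq
  coe_smul_eq_map mem_smul_iff le_of_sylow_inf)

variable {G : Type*} [Group G]

/-- `Q` is a Sylow `p`-subgroup of the subgroup `N` (everything inside the ambient group). -/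
def IsSylIn (p : ℕ) (Q N : Subgroup G) : Prop :=
  Q ≤ N ∧ Nat.card Q = p ^ (Nat.card N).factorization p

theorem IsSylIn.isPGroup {p : ℕ} [Fact p.Prime] {Q N : Subgroup G} (h : IsSylIn p Q N) :
    IsPGroup p Q := IsPGroup.of_card h.2

theorem IsSylIn.card_eq {p : ℕ} {Q Q' N : Subgroup G} (h : IsSylIn p Q N) (h' : IsSylIn p Q' N) :
    Nat.card Q = Nat.card Q' := h.2.trans h'.2.symm

theorem mem_map_subtype_iff {N : Subgroup G} {P : Subgroup ↥N} (y : ↥N) :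
    (y : G) ∈ P.map N.subtype ↔ y ∈ P := by
  constructor
  · rintro ⟨z, hz, hzy⟩
    have : z = y := Subtype.ext hzy
    rwa [← this]
  · intro hy
    exact ⟨y, hy, rfl⟩

theorem isSylIn_of_sylow [Finite G] {p : ℕ} [Fact p.Prime] {N : Subgroup G} (P : Sylow p ↥N) :
    IsSylIn p ((P : Subgroup ↥N).map N.subtype) N := by
  refine ⟨?_, ?_⟩
  · rintro _ ⟨y, _, rfl⟩
    exact y.2
  · rw [Subgroup.card_map_of_injective N.subtype_injective]
    exact P.card_eq_multiplicity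

theorem IsSylIn.exists_sylow [Finite G] {p : ℕ} [Fact p.Prime] {Q N : Subgroup G}
    (h : IsSylIn p Q N) : ∃ P : Sylow p ↥N, (P : Subgroup ↥N).map N.subtype = Q := by
  have hcard : Nat.card (Q.subgroupOf N) = p ^ (Nat.card ↥N).factorization p := by
    rw [← h.2]
    exact Nat.card_congr (Subgroup.subgroupOfEquivOfLe h.1).toEquiv
  refine ⟨Sylow.ofCard _ hcard, ?_⟩
  rw [Sylow.coe_ofCard, Subgroup.subgroupOf_map_subtype, inf_eq_left.2 h.1]

theorem exists_isSylIn_ge [Finite G] {p : ℕ} [Fact p.Prime] {R N : Subgroup G}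
    (hR : IsPGroup p R) (hRN : R ≤ N) : ∃ Q, IsSylIn p Q N ∧ R ≤ Q := by
  have hR' : IsPGroup p (R.subgroupOf N) := hR.comap_subtype
  obtain ⟨P, hP⟩ := hR'.exists_le_sylow
  refine ⟨(P : Subgroup ↥N).map N.subtype, isSylIn_of_sylow P, ?_⟩
  intro y hy
  have : (⟨y, hRN hy⟩ : ↥N) ∈ R.subgroupOf N := Subgroup.mem_subgroupOf.2 hy
  exact ⟨⟨y, hRN hy⟩, hP this, rfl⟩

theorem IsSylIn.exists_conj [Finite G] {p : ℕ} [Fact p.Prime] {Q Q' N : Subgroup G}
    (h : IsSylIn p Q N) (h' : IsSylIn p Q' N) :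
    ∃ x ∈ N, Q' = Q.map (MulAut.conj x).toMonoidHom := by
  obtain ⟨P, hP⟩ := h.exists_sylow
  obtain ⟨P', hP'⟩ := h'.exists_sylow
  obtain ⟨n, hn⟩ := MulAction.exists_smul_eq ↥N P P'
  refine ⟨(n : G), n.2, ?_⟩
  rw [← hP, ← hP', ← hn, coe_smul_eq_map, Subgroup.map_map, Subgroup.map_map]
  congr 1

theorem IsSylIn.eq_of_le [Finite G] {p : ℕ} [hp : Fact p.Prime] {Q N R : Subgroup G}
    (h : IsSylIn p Q N) (hR : IsPGroup p R) (hQR : Q ≤ R) (hRN : R ≤ N) : R = Q := by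
  obtain ⟨k, hk⟩ := IsPGroup.iff_card.1 hR
  have hdvd : p ^ k ∣ Nat.card N := by
    rw [← hk]
    exact Subgroup.card_dvd_of_le hRN
  have hkle : k ≤ (Nat.card N).factorization p :=
    (Nat.Prime.pow_dvd_iff_le_factorization hp.out Nat.card_pos.ne').1 hdvd
  have hle : Nat.card R ≤ Nat.card Q := by
    rw [hk, h.2]
    exact Nat.pow_le_pow_right hp.out.pos hkle
  exact (Subgroup.eq_of_le_of_card_ge hQR hle).symm

theorem IsSylIn.conj [Finite G] {p : ℕ} {Q N : Subgroup G}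
    (h : IsSylIn p Q N) (x : G) (hx : x ∈ N) :
    IsSylIn p (Q.map (MulAut.conj x).toMonoidHom) N := by
  refine ⟨?_, ?_⟩
  · intro y hy
    rw [mem_map_conj] at hy
    have : y = x * (x⁻¹ * y * x) * x⁻¹ := by group
    rw [this]
    exact N.mul_mem (N.mul_mem hx (h.1 hy)) (N.inv_mem hx)
  · rw [card_map_conj]
    exact h.2

theorem inf_eq_of_isSylIn [Finite G] {p : ℕ} [Fact p.Prime] {Q N : Subgroup G}
    (h : IsSylIn p Q N) (A : Sylow p G) (hQA : Q ≤ (A : Subgroup G)) :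
    (A : Subgroup G) ⊓ N = Q :=
  h.eq_of_le A.2.to_inf_left (le_inf hQA h.1) inf_le_right

theorem smul_inf_eq {p : ℕ} {N : Subgroup G} {x : G} (hx : x ∈ N) (A : Sylow p G) :
    ((x • A : Sylow p G) : Subgroup G) ⊓ N =
      ((A : Subgroup G) ⊓ N).map (MulAut.conj x).toMonoidHom := by
  ext y
  rw [Subgroup.mem_inf, mem_smul_iff, mem_map_conj, Subgroup.mem_inf]
  constructor
  · rintro ⟨h1, h2⟩
    exact ⟨h1, N.mul_mem (N.mul_mem (N.inv_mem hx) h2) hx⟩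
  · rintro ⟨h1, h2⟩
    refine ⟨h1, ?_⟩
    have : y = x * (x⁻¹ * y * x) * x⁻¹ := by group
    rw [this]
    exact N.mul_mem (N.mul_mem hx h2) (N.inv_mem hx)

theorem conjRight_smul {p : ℕ} (x : G) (A : Sylow p G) :
    subgroupConjRight x ((x • A : Sylow p G) : Subgroup G) = (A : Subgroup G) := by
  unfold subgroupConjRight
  ext y
  rw [mem_map_conj, mem_smul_iff]
  have : x⁻¹ * (x⁻¹⁻¹ * y * x⁻¹) * x = y := by group
  rw [this]

/-- One link of a chain. -/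
def Link (p : ℕ) (𝓧 : Set (Subgroup G)) (D : Subgroup G) (A B : Sylow p G) : Prop :=
  D ≤ (A : Subgroup G) ∧ D ≤ (B : Subgroup G) ∧
  ∃ X : Subgroup G, X ∈ sylowMembers p 𝓧 (A : Subgroup G) ∧
    X ∈ sylowMembers p 𝓧 (B : Subgroup G) ∧ D ≤ X ∧
    ∃ x ∈ X, subgroupConjRight x (B : Subgroup G) = (A : Subgroup G)

theorem Link.symm {p : ℕ} {𝓧 : Set (Subgroup G)} {D : Subgroup G} {A B : Sylow p G}
    (h : Link p 𝓧 D A B) : Link p 𝓧 D B A := by
  obtain ⟨hA, hB, X, hXA, hXB, hDX, x, hx, hconj⟩ := h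
  refine ⟨hB, hA, X, hXB, hXA, hDX, x⁻¹, X.inv_mem hx, ?_⟩
  rw [← hconj]
  unfold subgroupConjRight
  ext y
  rw [mem_map_conj, mem_map_conj]
  have : x⁻¹⁻¹ * (x⁻¹⁻¹⁻¹ * y * x⁻¹⁻¹) * x⁻¹ = y := by group
  rw [this]

theorem Link.mono {p : ℕ} {𝓧 : Set (Subgroup G)} {D D' : Subgroup G} {A B : Sylow p G}
    (h : Link p 𝓧 D A B) (hD : D' ≤ D) : Link p 𝓧 D' A B := by
  obtain ⟨hA, hB, X, hXA, hXB, hDX, x, hx, hconj⟩ := h
  exact ⟨hD.trans hA, hD.trans hB, X, hXA, hXB, hD.trans hDX, x, hx, hconj⟩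

theorem conn_symm {p : ℕ} {𝓧 : Set (Subgroup G)} {D : Subgroup G} {A B : Sylow p G}
    (h : Relation.ReflTransGen (Link p 𝓧 D) A B) : Relation.ReflTransGen (Link p 𝓧 D) B A := by
  induction h with
  | refl => exact Relation.ReflTransGen.refl
  | tail _ hbc ih => exact Relation.ReflTransGen.head (Link.symm hbc) ih

theorem conn_mono {p : ℕ} {𝓧 : Set (Subgroup G)} {D D' : Subgroup G} (hD : D' ≤ D)
    {A B : Sylow p G} (h : Relation.ReflTransGen (Link p 𝓧 D) A B) :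
    Relation.ReflTransGen (Link p 𝓧 D') A B := by
  induction h with
  | refl => exact Relation.ReflTransGen.refl
  | tail _ hbc ih => exact ih.tail (Link.mono hbc hD)

theorem link_of_mem [Finite G] {p : ℕ} [Fact p.Prime] {𝓧 : Set (Subgroup G)} {D N : Subgroup G}
    (hN : N ∈ 𝓧) (A : Sylow p G) (x : G) (hx : x ∈ N)
    (hS : IsSylIn p ((A : Subgroup G) ⊓ N) N) (hD : D ≤ (A : Subgroup G) ⊓ N)
    (hDx : D ≤ ((x • A : Sylow p G) : Subgroup G)) : Link p 𝓧 D A (x • A) := by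
  refine ⟨hD.trans inf_le_left, hDx, N, ⟨hN, hS.exists_sylow⟩, ⟨hN, ?_⟩, hD.trans inf_le_right,
    x, hx, conjRight_smul x A⟩
  have : IsSylIn p (((x • A : Sylow p G) : Subgroup G) ⊓ N) N := by
    rw [smul_inf_eq hx A]
    exact hS.conj x hx
  exact this.exists_sylow

theorem exists_maximal_plocal_ge [Finite G] {p : ℕ} {L : Subgroup G} (hL : IsPLocal p L) :
    ∃ M, IsMaximalPLocal p M ∧ L ≤ M := by
  obtain ⟨M, hM, hmax⟩ := Set.exists_max_image {K : Subgroup G | IsPLocal p K ∧ L ≤ K}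
    (fun K => Nat.card K) (Set.toFinite _) ⟨L, hL, le_rfl⟩
  refine ⟨M, ⟨hM.1, ?_⟩, hM.2⟩
  intro N' hN' hMN'
  have h1 := hmax N' ⟨hN', hM.2.trans hMN'⟩
  exact (Subgroup.eq_of_le_of_card_ge hMN' h1).symm

/-- One step of a chain of Sylow subgroups of `M`, all seen inside `G`. -/
def MStep (p : ℕ) (f : Subgroup G → Set (Subgroup G)) (M D : Subgroup G) (Q₁ Q₂ : Subgroup G) :
    Prop :=
  IsSylIn p Q₁ M ∧ IsSylIn p Q₂ M ∧ D ≤ Q₁ ∧ D ≤ Q₂ ∧
  ∃ P F : Subgroup G, IsSylIn p P M ∧ F ∈ f P ∧ Q₁ ≤ Subgroup.normalizer (F : Set G) ∧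
    Q₂ ≤ Subgroup.normalizer (F : Set G) ∧
    ∃ y ∈ Subgroup.normalizer (F : Set G), ∀ z ∈ Q₂, y⁻¹ * z * y ∈ Q₁

theorem MStep.mono {p : ℕ} {f : Subgroup G → Set (Subgroup G)} {M D D' Q₁ Q₂ : Subgroup G}
    (h : MStep p f M D Q₁ Q₂) (hD : D' ≤ D) : MStep p f M D' Q₁ Q₂ := by
  obtain ⟨h1, h2, h3, h4, h5⟩ := h
  exact ⟨h1, h2, hD.trans h3, hD.trans h4, h5⟩

theorem mchain_of_regular [Finite G] {p : ℕ} [Fact p.Prime] {f : Subgroup G → Set (Subgroup G)}
    (hf : IsNormalizerFunctor p f) {M : Subgroup G} (hr : IsFunctorRegular p f M)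
    {Q Q' : Subgroup G} (hQ : IsSylIn p Q M) (hQ' : IsSylIn p Q' M) (hne : Q ≠ Q')
    (hnt : Q ⊓ Q' ≠ ⊥) : Relation.ReflTransGen (MStep p f M (Q ⊓ Q')) Q Q' := by
  obtain ⟨P₀, hP₀⟩ := hQ.exists_sylow
  obtain ⟨P₀', hP₀'⟩ := hQ'.exists_sylow
  have hne' : P₀ ≠ P₀' := by
    intro h
    apply hne
    rw [← hP₀, ← hP₀', h]
  have hmem : ∀ y : G, ∀ hy : y ∈ Q ⊓ Q', (⟨y, hQ.1 (Subgroup.mem_inf.1 hy).1⟩ : ↥M) ∈
      (P₀ : Subgroup ↥M) ⊓ (P₀' : Subgroup ↥M) := by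
    intro y hy
    have hy' := Subgroup.mem_inf.1 hy
    refine Subgroup.mem_inf.2 ⟨?_, ?_⟩
    · have := hy'.1
      rw [← hP₀] at this
      exact (mem_map_subtype_iff (⟨y, hQ.1 hy'.1⟩ : ↥M)).1 this
    · have := hy'.2
      rw [← hP₀'] at this
      exact (mem_map_subtype_iff (⟨y, hQ.1 hy'.1⟩ : ↥M)).1 this
  have hnt' : (P₀ : Subgroup ↥M) ⊓ (P₀' : Subgroup ↥M) ≠ ⊥ := by
    intro h
    apply hnt
    rw [eq_bot_iff]
    intro y hy
    have := hmem y hy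
    rw [h, Subgroup.mem_bot] at this
    rw [Subgroup.mem_bot]
    exact congrArg Subtype.val this
  unfold IsFunctorRegular ControlsSylowIntersections at hr
  obtain ⟨n, c, X, x, h0, hl, hc⟩ := hr P₀ P₀' hne' hnt'
  have hall : ∀ k : Fin (n + 1), (P₀ : Subgroup ↥M) ⊓ (P₀' : Subgroup ↥M) ≤ (c k : Subgroup ↥M) := by
    intro k
    refine Fin.cases ?_ ?_ k
    · rw [h0]; exact inf_le_left
    · intro j
      exact (hc j).2.2.2.2.trans inf_le_left
  have hDle : ∀ k : Fin (n + 1), Q ⊓ Q' ≤ (c k : Subgroup ↥M).map M.subtype := by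
    intro k y hy
    exact ⟨_, hall k (hmem y hy), rfl⟩
  have key : ∀ i : Fin n, MStep p f M (Q ⊓ Q') ((c i.castSucc : Subgroup ↥M).map M.subtype)
      ((c i.succ : Subgroup ↥M).map M.subtype) := by
    intro i
    obtain ⟨⟨hXmem, P₁, hP₁⟩, ⟨-, P₂, hP₂⟩, hx, hconj, -⟩ := hc i
    obtain ⟨X₀, hX₀mem, hX₀⟩ := hXmem
    obtain ⟨P, F, hF, rfl⟩ := hX₀mem
    have hXi : X i = (M ⊓ Subgroup.normalizer (F : Set G)).subgroupOf M := hX₀.symm
    have hfP := hf ((P : Subgroup ↥M).map M.subtype) (P.2.map _)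
    have hPN : (P : Subgroup ↥M).map M.subtype ≤ Subgroup.normalizer (F : Set G) :=
      Subgroup.le_normalizer.trans (hfP.1 F hF).2
    have hPXi : (P : Subgroup ↥M) ≤ X i := by
      intro y hy
      rw [hXi, Subgroup.mem_subgroupOf]
      exact ⟨y.2, hPN (Subgroup.mem_map_of_mem _ hy)⟩
    have hA : (c i.castSucc : Subgroup ↥M) ≤ X i :=
      le_of_sylow_inf (c i.castSucc) P (X i) hPXi P₁ hP₁
    have hB : (c i.succ : Subgroup ↥M) ≤ X i :=
      le_of_sylow_inf (c i.succ) P (X i) hPXi P₂ hP₂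
    have hXN : ∀ y : ↥M, y ∈ X i → (y : G) ∈ Subgroup.normalizer (F : Set G) := by
      intro y hy
      rw [hXi, Subgroup.mem_subgroupOf] at hy
      exact hy.2
    refine ⟨isSylIn_of_sylow _, isSylIn_of_sylow _, hDle _, hDle _,
      (P : Subgroup ↥M).map M.subtype, F, isSylIn_of_sylow P, hF, ?_, ?_, (x i : G), hXN _ hx, ?_⟩
    · rintro _ ⟨y, hy, rfl⟩
      exact hXN y (hA hy)
    · rintro _ ⟨y, hy, rfl⟩
      exact hXN y (hB hy)
    · rintro _ ⟨z, hz, rfl⟩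
      have h1 : (x i)⁻¹ * z * (x i) ∈ (c i.castSucc : Subgroup ↥M) := by
        rw [← hconj]
        unfold subgroupConjRight
        rw [mem_map_conj]
        have : (x i)⁻¹⁻¹ * ((x i)⁻¹ * z * x i) * (x i)⁻¹ = z := by group
        rw [this]
        exact hz
      exact ⟨_, h1, by simp⟩
  have hfin := reflTransGen_of_fin _ n (fun i => (c i : Subgroup ↥M).map M.subtype) key
  simp only [h0, hl, hP₀, hP₀'] at hfin
  exact hfin

theorem mrtg_mono {p : ℕ} {f : Subgroup G → Set (Subgroup G)} {M D D' : Subgroup G}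
    (hD : D' ≤ D) {A B : Subgroup G} (h : Relation.ReflTransGen (MStep p f M D) A B) :
    Relation.ReflTransGen (MStep p f M D') A B := by
  induction h with
  | refl => exact Relation.ReflTransGen.refl
  | tail _ hbc ih => exact ih.tail (MStep.mono hbc hD)

theorem card_lt_of_not_mem [Finite G] {C R : Subgroup G} (hCR : C ≤ R) {n : G} (hn : n ∈ R)
    (hnC : n ∉ C) : Nat.card C < Nat.card R := by
  by_contra h
  push_neg at h
  have := Subgroup.eq_of_le_of_card_ge hCR h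
  exact hnC (this ▸ hn)

/-- The inner induction. -/
theorem inner [Finite G] {p : ℕ} [Fact p.Prime] {f : Subgroup G → Set (Subgroup G)}
    (hf : IsNormalizerFunctor p f)
    (hf1 : ∀ P : Subgroup G, IsPGroup p ↥P → P ≠ ⊥ → ∀ F ∈ f P, F ≠ ⊥)
    {𝓧 : Set (Subgroup G)}
    (h𝓧 : 𝓧 = functorFamily p f ⊤ ∪ {M | IsMaximalPLocal p M ∧ ¬ IsFunctorRegular p f M})
    {D₀ : Subgroup G} (hD₀ : D₀ ≠ ⊥)
    (OIH : ∀ (A B : Sylow p G) (R : Subgroup G), R ≤ (A : Subgroup G) → R ≤ (B : Subgroup G) →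
      D₀ ≤ R → Nat.card D₀ < Nat.card R → Relation.ReflTransGen (Link p 𝓧 D₀) A B) :
    ∀ (m : ℕ) (N : Subgroup G) (A : Sylow p G) (x : G),
      Nat.card G - Nat.card ↥((A : Subgroup G) ⊓ N) = m →
      (∃ L, IsPLocal p L ∧ N ≤ L) → x ∈ N → IsSylIn p ((A : Subgroup G) ⊓ N) N →
      D₀ ≤ (A : Subgroup G) ⊓ N → Nat.card D₀ < Nat.card ↥((A : Subgroup G) ⊓ N) →
      D₀ ≤ ((x • A : Sylow p G) : Subgroup G) →
      Relation.ReflTransGen (Link p 𝓧 D₀) A (x • A) := by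
  intro m
  induction m using Nat.strong_induction_on with
  | _ m ih =>
  intro N A x hm hL hx hS hD hcard hDx
  by_cases hN𝓧 : N ∈ 𝓧
  · exact Relation.ReflTransGen.single (link_of_mem hN𝓧 A x hx hS hD hDx)
  obtain ⟨L, hLloc, hNL⟩ := hL
  obtain ⟨M, hMmax, hLM⟩ := exists_maximal_plocal_ge hLloc
  have hNM : N ≤ M := hNL.trans hLM
  have hxM : x ∈ M := hNM hx
  obtain ⟨Q₀, hQ₀, hANQ₀⟩ := exists_isSylIn_ge hS.isPGroup
    ((inf_le_right : (A : Subgroup G) ⊓ N ≤ N).trans hNM)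
  obtain ⟨R₀, hR₀⟩ := hQ₀.isPGroup.exists_le_sylow
  have hDN : D₀ ≤ N := hD.trans inf_le_right
  have hDQ₀ : D₀ ≤ Q₀ := hD.trans hANQ₀
  have hQxS : IsSylIn p (Q₀.map (MulAut.conj x).toMonoidHom) M := hQ₀.conj x hxM
  have hQxR : Q₀.map (MulAut.conj x).toMonoidHom ≤ ((x • R₀ : Sylow p G) : Subgroup G) := by
    rw [coe_smul_eq_map]
    exact Subgroup.map_mono hR₀
  have hANx := smul_inf_eq hx A
  have hDx' : D₀ ≤ ((A : Subgroup G) ⊓ N).map (MulAut.conj x).toMonoidHom := by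
    rw [← hANx]
    exact le_inf hDx hDN
  have hDQx : D₀ ≤ Q₀.map (MulAut.conj x).toMonoidHom := hDx'.trans (Subgroup.map_mono hANQ₀)
  have hcardQ₀ : Nat.card D₀ < Nat.card Q₀ := lt_of_lt_of_le hcard (Subgroup.card_le_of_le hANQ₀)
  have c1 : Relation.ReflTransGen (Link p 𝓧 D₀) A R₀ :=
    OIH A R₀ ((A : Subgroup G) ⊓ N) inf_le_left (hANQ₀.trans hR₀) hD hcard
  have c3 : Relation.ReflTransGen (Link p 𝓧 D₀) (x • R₀) (x • A) := by
    refine OIH (x • R₀) (x • A) (((A : Subgroup G) ⊓ N).map (MulAut.conj x).toMonoidHom)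
      ((Subgroup.map_mono hANQ₀).trans hQxR) ?_ hDx' ?_
    · rw [← hANx]; exact inf_le_left
    · rw [card_map_conj]; exact hcard
  -- the link claim
  have link_claim : ∀ Q₁ Q₂ : Subgroup G, MStep p f M D₀ Q₁ Q₂ → ∀ R₁ R₂ : Sylow p G,
      Q₁ ≤ (R₁ : Subgroup G) → Q₂ ≤ (R₂ : Subgroup G) →
      Relation.ReflTransGen (Link p 𝓧 D₀) R₁ R₂ := by
    intro Q₁ Q₂ hstep R₁ R₂ hR₁ hR₂
    obtain ⟨hQ₁, hQ₂, hDQ₁, hDQ₂, P, F, hP, hF, hQ₁N, hQ₂N, y, hy, hyQ⟩ := hstep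
    have hcardQ₁ : Nat.card D₀ < Nat.card Q₁ := by rw [hQ₁.card_eq hQ₀]; exact hcardQ₀
    have hcardQ₂ : Nat.card D₀ < Nat.card Q₂ := by rw [hQ₂.card_eq hQ₀]; exact hcardQ₀
    have hcardP : Nat.card D₀ < Nat.card P := by rw [hP.card_eq hQ₀]; exact hcardQ₀
    have hPne : P ≠ ⊥ := by
      intro h
      rw [h, Subgroup.card_bot] at hcardP
      have : 0 < Nat.card D₀ := Nat.card_pos
      omega
    have hFne : F ≠ ⊥ := hf1 P hP.isPGroup hPne F hF
    have hfP := hf P hP.isPGroup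
    have hFP : F ≤ P := (hfP.1 F hF).1
    have hNPF : Subgroup.normalizer (P : Set G) ≤ Subgroup.normalizer (F : Set G) :=
      (hfP.1 F hF).2
    have hN₁loc : IsPLocal p (Subgroup.normalizer (F : Set G)) :=
      ⟨F, hP.isPGroup.to_le hFP, hFne, rfl⟩
    obtain ⟨Q₁s, hQ₁s, hQ₁le⟩ := exists_isSylIn_ge hQ₁.isPGroup hQ₁N
    obtain ⟨A₁, hA₁⟩ := hQ₁s.isPGroup.exists_le_sylow
    have hA₁N : (A₁ : Subgroup G) ⊓ Subgroup.normalizer (F : Set G) = Q₁s :=
      inf_eq_of_isSylIn hQ₁s A₁ hA₁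
    have hS₁ : IsSylIn p ((A₁ : Subgroup G) ⊓ Subgroup.normalizer (F : Set G))
        (Subgroup.normalizer (F : Set G)) := by rw [hA₁N]; exact hQ₁s
    have hD₁ : D₀ ≤ (A₁ : Subgroup G) ⊓ Subgroup.normalizer (F : Set G) :=
      le_inf (hDQ₁.trans (hQ₁le.trans hA₁)) (hDQ₁.trans hQ₁N)
    have hQ₂y : Q₂ ≤ ((y • A₁ : Sylow p G) : Subgroup G) := by
      intro z hz
      rw [mem_smul_iff]
      exact hA₁ (hQ₁le (hyQ z hz))
    have hDy : D₀ ≤ ((y • A₁ : Sylow p G) : Subgroup G) := hDQ₂.trans hQ₂y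
    have hcard₁ : Nat.card D₀ <
        Nat.card ↥((A₁ : Subgroup G) ⊓ Subgroup.normalizer (F : Set G)) := by
      rw [hA₁N]
      exact lt_of_lt_of_le hcardQ₁ (Subgroup.card_le_of_le hQ₁le)
    have cmid : Relation.ReflTransGen (Link p 𝓧 D₀) A₁ (y • A₁) := by
      by_cases hN₁𝓧 : Subgroup.normalizer (F : Set G) ∈ 𝓧
      · exact Relation.ReflTransGen.single (link_of_mem hN₁𝓧 A₁ y hy hS₁ hD₁ hDy)
      · have hlt : Nat.card ↥((A : Subgroup G) ⊓ N) <
            Nat.card ↥((A₁ : Subgroup G) ⊓ Subgroup.normalizer (F : Set G)) := by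
          by_contra hnot
          push_neg at hnot
          apply hN₁𝓧
          -- `P` is a Sylow subgroup of `N_G(F)`
          have hPN₁ : P ≤ Subgroup.normalizer (F : Set G) := Subgroup.le_normalizer.trans hNPF
          obtain ⟨P₁, hP₁, hPP₁⟩ := exists_isSylIn_ge hP.isPGroup hPN₁
          have hcP₁ : Nat.card P₁ ≤ Nat.card P := by
            rw [hP₁.card_eq hQ₁s, ← hA₁N, hP.card_eq hQ₀]
            exact hnot.trans (Subgroup.card_le_of_le hANQ₀)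
          have hPP₁eq : P = P₁ := Subgroup.eq_of_le_of_card_ge hPP₁ hcP₁
          rw [← hPP₁eq] at hP₁
          -- hence a Sylow subgroup of `G`
          obtain ⟨R, hR⟩ := hP.isPGroup.exists_le_sylow
          have hPR : P = (R : Subgroup G) := by
            by_contra hne
            have hlt : P < (R : Subgroup G) := lt_of_le_of_ne hR hne
            obtain ⟨n, hnR, hnN, hnP⟩ := pgroup_normalizer_gt R.2 hlt
            have hle1 : P ≤ (R : Subgroup G) ⊓ Subgroup.normalizer (P : Set G) :=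
              le_inf hR Subgroup.le_normalizer
            have := hP₁.eq_of_le (R.2.to_inf_left) hle1 (inf_le_right.trans hNPF)
            apply hnP
            rw [← this]
            exact ⟨hnR, hnN⟩
          rw [h𝓧]
          left
          exact (mem_functorFamily_top f _).2 ⟨R, F, hPR ▸ hF, rfl⟩
        have hle : Nat.card ↥((A₁ : Subgroup G) ⊓ Subgroup.normalizer (F : Set G)) ≤ Nat.card G :=
          Subgroup.card_le_card_group _
        exact ih (Nat.card G - Nat.card ↥((A₁ : Subgroup G) ⊓ Subgroup.normalizer (F : Set G)))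
          (by omega) (Subgroup.normalizer (F : Set G)) A₁ y rfl ⟨_, hN₁loc, le_rfl⟩ hy hS₁ hD₁
          hcard₁ hDy
    exact (OIH R₁ A₁ Q₁ hR₁ (hQ₁le.trans hA₁) hDQ₁ hcardQ₁).trans
      (cmid.trans (OIH (y • A₁) R₂ Q₂ hQ₂y hR₂ hDQ₂ hcardQ₂))
  -- the chain claim
  have chain_claim : ∀ Q' : Subgroup G, Relation.ReflTransGen (MStep p f M D₀) Q₀ Q' →
      ∀ R R' : Sylow p G, Q₀ ≤ (R : Subgroup G) → Q' ≤ (R' : Subgroup G) →
      Relation.ReflTransGen (Link p 𝓧 D₀) R R' := by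
    intro Q' hQ'
    induction hQ' with
    | refl =>
      intro R R' hR hR'
      exact OIH R R' Q₀ hR hR' hDQ₀ hcardQ₀
    | tail _ hstep ih' =>
      intro R R' hR hR'
      obtain ⟨R'', hR''⟩ := hstep.1.isPGroup.exists_le_sylow
      exact (ih' R R'' hR hR'').trans (link_claim _ _ hstep R'' R' hR'' hR')
  have c2 : Relation.ReflTransGen (Link p 𝓧 D₀) R₀ (x • R₀) := by
    by_cases hreg : IsFunctorRegular p f M
    · by_cases hQQ : Q₀ = Q₀.map (MulAut.conj x).toMonoidHom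
      · exact OIH R₀ (x • R₀) Q₀ hR₀ (hQQ.le.trans hQxR) hDQ₀ hcardQ₀
      · have hnt : Q₀ ⊓ Q₀.map (MulAut.conj x).toMonoidHom ≠ ⊥ := by
          intro h
          apply hD₀
          rw [eq_bot_iff, ← h]
          exact le_inf hDQ₀ hDQx
        have chain := mchain_of_regular hf hreg hQ₀ hQxS hQQ hnt
        exact chain_claim _ (mrtg_mono (le_inf hDQ₀ hDQx) chain) R₀ (x • R₀) hR₀ hQxR
    · have hM𝓧 : M ∈ 𝓧 := by
        rw [h𝓧]
        right
        exact ⟨hMmax, hreg⟩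
      have hRM : (R₀ : Subgroup G) ⊓ M = Q₀ := inf_eq_of_isSylIn hQ₀ R₀ hR₀
      refine Relation.ReflTransGen.single (link_of_mem hM𝓧 R₀ x hxM ?_ ?_ (hDQx.trans hQxR))
      · rw [hRM]; exact hQ₀
      · rw [hRM]; exact hDQ₀
  exact c1.trans (c2.trans c3)

theorem main [Finite G] {p : ℕ} [Fact p.Prime] {f : Subgroup G → Set (Subgroup G)}
    (hf : IsNormalizerFunctor p f)
    (hf1 : ∀ P : Subgroup G, IsPGroup p ↥P → P ≠ ⊥ → ∀ F ∈ f P, F ≠ ⊥)
    {𝓧 : Set (Subgroup G)}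
    (h𝓧 : 𝓧 = functorFamily p f ⊤ ∪ {M | IsMaximalPLocal p M ∧ ¬ IsFunctorRegular p f M}) :
    ∀ (m : ℕ) (S T : Sylow p G),
      Nat.card G - Nat.card ↥((S : Subgroup G) ⊓ (T : Subgroup G)) = m →
      (S : Subgroup G) ⊓ (T : Subgroup G) ≠ ⊥ →
      Relation.ReflTransGen (Link p 𝓧 ((S : Subgroup G) ⊓ (T : Subgroup G))) S T := by
  intro m
  induction m using Nat.strong_induction_on with
  | _ m IH =>
  intro S T hm hnt
  by_cases hST : S = T
  · rw [hST]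
  have OIH : ∀ (A B : Sylow p G) (R : Subgroup G), R ≤ (A : Subgroup G) → R ≤ (B : Subgroup G) →
      (S : Subgroup G) ⊓ (T : Subgroup G) ≤ R →
      Nat.card ↥((S : Subgroup G) ⊓ (T : Subgroup G)) < Nat.card R →
      Relation.ReflTransGen (Link p 𝓧 ((S : Subgroup G) ⊓ (T : Subgroup G))) A B := by
    intro A B R hRA hRB hDR hc
    have hle : R ≤ (A : Subgroup G) ⊓ (B : Subgroup G) := le_inf hRA hRB
    have hc' : Nat.card ↥((S : Subgroup G) ⊓ (T : Subgroup G)) <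
        Nat.card ↥((A : Subgroup G) ⊓ (B : Subgroup G)) :=
      lt_of_lt_of_le hc (Subgroup.card_le_of_le hle)
    have hne : (A : Subgroup G) ⊓ (B : Subgroup G) ≠ ⊥ := by
      intro h
      apply hnt
      rw [eq_bot_iff, ← h]
      exact hDR.trans hle
    have hle' : Nat.card ↥((A : Subgroup G) ⊓ (B : Subgroup G)) ≤ Nat.card G :=
      Subgroup.card_le_card_group _
    have := IH (Nat.card G - Nat.card ↥((A : Subgroup G) ⊓ (B : Subgroup G))) (by omega) A B rfl hne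
    exact conn_mono (hDR.trans hle) this
  -- the normalizer of `D₀`
  have hDp : IsPGroup p ↥((S : Subgroup G) ⊓ (T : Subgroup G)) := S.2.to_inf_left
  have hNloc : IsPLocal p (Subgroup.normalizer (((S : Subgroup G) ⊓ (T : Subgroup G) : Subgroup G) : Set G)) :=
    ⟨_, hDp, hnt, rfl⟩
  have hDS : (S : Subgroup G) ⊓ (T : Subgroup G) < (S : Subgroup G) := by
    refine lt_of_le_of_ne inf_le_left ?_
    intro h
    apply hST
    have hle : (S : Subgroup G) ≤ (T : Subgroup G) := inf_eq_left.1 h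
    exact Sylow.ext (Subgroup.eq_of_le_of_card_ge hle (sylow_card_eq T S).le)
  have hDT : (S : Subgroup G) ⊓ (T : Subgroup G) < (T : Subgroup G) := by
    refine lt_of_le_of_ne inf_le_right ?_
    intro h
    apply hST
    have hle : (T : Subgroup G) ≤ (S : Subgroup G) := inf_eq_right.1 h
    exact (Sylow.ext (Subgroup.eq_of_le_of_card_ge hle (sylow_card_eq S T).le)).symm
  obtain ⟨nS, hnS, hnSN, hnSD⟩ := pgroup_normalizer_gt S.2 hDS
  obtain ⟨nT, hnT, hnTN, hnTD⟩ := pgroup_normalizer_gt T.2 hDT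
  generalize hNdef : Subgroup.normalizer (((S : Subgroup G) ⊓ (T : Subgroup G) : Subgroup G) : Set G) = N
    at hNloc hnSN hnTN
  have hDN : (S : Subgroup G) ⊓ (T : Subgroup G) ≤ N := by
    rw [← hNdef]; exact Subgroup.le_normalizer
  have hDSN : (S : Subgroup G) ⊓ (T : Subgroup G) ≤ (S : Subgroup G) ⊓ N := le_inf inf_le_left hDN
  have hDTN : (S : Subgroup G) ⊓ (T : Subgroup G) ≤ (T : Subgroup G) ⊓ N := le_inf inf_le_right hDN
  have hcS : Nat.card ↥((S : Subgroup G) ⊓ (T : Subgroup G)) < Nat.card ↥((S : Subgroup G) ⊓ N) :=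
    card_lt_of_not_mem hDSN (Subgroup.mem_inf.2 ⟨hnS, hnSN⟩) hnSD
  have hcT : Nat.card ↥((S : Subgroup G) ⊓ (T : Subgroup G)) < Nat.card ↥((T : Subgroup G) ⊓ N) :=
    card_lt_of_not_mem hDTN (Subgroup.mem_inf.2 ⟨hnT, hnTN⟩) hnTD
  obtain ⟨QS, hQS, hSQ⟩ := exists_isSylIn_ge (S.2.to_inf_left : IsPGroup p ↥((S : Subgroup G) ⊓ N))
    inf_le_right
  obtain ⟨QT, hQT, hTQ⟩ := exists_isSylIn_ge (T.2.to_inf_left : IsPGroup p ↥((T : Subgroup G) ⊓ N))
    inf_le_right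
  obtain ⟨A, hA⟩ := hQS.isPGroup.exists_le_sylow
  obtain ⟨x, hx, hQTx⟩ := hQS.exists_conj hQT
  have hAN : (A : Subgroup G) ⊓ N = QS := inf_eq_of_isSylIn hQS A hA
  have hQTA : QT ≤ ((x • A : Sylow p G) : Subgroup G) := by
    rw [hQTx, coe_smul_eq_map]
    exact Subgroup.map_mono hA
  have c1 := OIH S A ((S : Subgroup G) ⊓ N) inf_le_left (hSQ.trans hA) hDSN hcS
  have c3 := OIH (x • A) T ((T : Subgroup G) ⊓ N) (hTQ.trans hQTA) inf_le_left hDTN hcT
  have c2 : Relation.ReflTransGen (Link p 𝓧 ((S : Subgroup G) ⊓ (T : Subgroup G))) A (x • A) := by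
    refine inner hf hf1 h𝓧 hnt OIH _ N A x rfl ⟨N, hNloc, le_rfl⟩ hx ?_ ?_ ?_ ?_
    · rw [hAN]; exact hQS
    · rw [hAN]; exact hDSN.trans hSQ
    · rw [hAN]; exact lt_of_lt_of_le hcS (Subgroup.card_le_of_le hSQ)
    · exact (hDTN.trans hTQ).trans hQTA
  exact c1.trans (c2.trans c3)

/-- Let p be a prime dividing the order of the finite group G, and f an assignment to every p-subgroup P of a set f(P) of subgroups of P, each normalized by N_G(P), compatible with conjugation, such that for P ≠ 1 the members of f(P) are nontrivial. Let 𝓕 be the family of the normalizers N_G(F) of the members F of f(S) over the Sylow p-subgroups S of G, and 𝓕' the family of the maximal p-local subgroups M of G that are singular for f (the corresponding family of normalizers inside M does not control Sylow p-intersections in M). Then 𝓕 ∪ 𝓕' controls Sylow p-intersections in G. -/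
theorem result {G : Type*} [Group G] [Finite G] (p : ℕ) [Fact p.Prime] (hdiv : p ∣ Nat.card G)
    (f : Subgroup G → Set (Subgroup G)) (hf : Cfsg.IsNormalizerFunctor p f)
    (hf1 : ∀ P : Subgroup G, IsPGroup p ↥P → P ≠ ⊥ → ∀ F ∈ f P, F ≠ ⊥)
    (𝓕 𝓕' : Set (Subgroup G)) (h𝓕 : 𝓕 = Cfsg.functorFamily p f ⊤)
    (h𝓕' : 𝓕' = {M | Cfsg.IsMaximalPLocal p M ∧ ¬ Cfsg.IsFunctorRegular p f M}) :
    Cfsg.ControlsSylowIntersections p (𝓕 ∪ 𝓕') := by
  have h𝓧 : 𝓕 ∪ 𝓕' =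
      functorFamily p f ⊤ ∪ {M | IsMaximalPLocal p M ∧ ¬ IsFunctorRegular p f M} := by
    rw [h𝓕, h𝓕']
  intro S T _ hnt
  obtain ⟨n, c, h0, hl, hc⟩ := fin_of_reflTransGen (main hf hf1 h𝓧 _ S T rfl hnt)
  choose hcA hcB X hXA hXB hDX x hx hconj using hc
  exact ⟨n, c, X, x, h0, hl, fun i => ⟨hXA i, hXB i, hx i, hconj i, le_inf (hcB i) (hDX i)⟩⟩

end Cfsg.Agent.S2956
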