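import Cfsg.Statements.S2960
import Cfsg.Agent.Lib.Helper17.CharP

set_option autoImplicit false
open Cfsg

namespace Cfsg.Agent.S2960

open Cfsg.Agent.Lib.Helper17

/-- In a group of characteristic `p`, if `Q` is a `p`-subgroup with `C_{O_p(G)}(Q) ≤ Q`-type
control (every element of `O_p(G)` centralizing `Q` is centralized by `C_G(Q)`), then `C_G(Q)` is a
`p`-group. -/
theorem centralizer_isPGroup {G : Type*} [Group G] [Finite G] {p : ℕ} [Fact p.Prime]
    (hG : Subgroup.centralizer (Cfsg.pCore p G : Set G) ≤ Cfsg.pCore p G) (Q : Subgroup G)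
    (hQ : IsPGroup p Q)
    (hC : ∀ x ∈ Cfsg.pCore p G, x ∈ Subgroup.centralizer (Q : Set G) → x ∈ Q) :
    IsPGroup p (Subgroup.centralizer (Q : Set G)) := by
  apply isPGroup_of_coprime_elements_trivial
  intro c hc hcop
  have hcQ : ∀ b ∈ Q, c * b = b * c := by
    intro b hb
    rw [Subgroup.mem_centralizer_iff] at hc
    exact (hc b hb).symm
  have hnorm : Subgroup.normalizer ((Cfsg.pCore p G : Subgroup G) : Set G) = ⊤ :=
    Subgroup.normalizer_eq_top _
  have hcent : ∀ x ∈ Cfsg.pCore p G, c * x = x * c := by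
    apply thompson_AxB hQ hcop hcQ _ (Cfsg.pCore p G) rfl pCore_isPGroup
    · rw [hnorm]; exact Subgroup.mem_top c
    · rw [hnorm]; exact le_top
    · intro x hx hxQ
      have hxC : x ∈ Subgroup.centralizer (Q : Set G) := by
        rw [Subgroup.mem_centralizer_iff]
        intro b hb
        exact hxQ b hb
      exact hcQ x (hC x hx hxC)
  have hcP : c ∈ Cfsg.pCore p G := by
    apply hG
    rw [Subgroup.mem_centralizer_iff]
    intro x hx
    exact (hcent x hx).symm
  obtain ⟨m, hm⟩ := (pCore_isPGroup (G := G) (p := p)) ⟨c, hcP⟩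
  have h5 : c ^ p ^ m = 1 := by
    have := congrArg Subtype.val hm
    simpa using this
  have h7 : orderOf c ∣ p ^ m := orderOf_dvd_of_pow_eq_one h5
  have h8 : orderOf c = 1 := Nat.eq_one_of_dvd_coprimes (hcop.pow_right m) dvd_rfl h7
  exact orderOf_eq_one_iff.mp h8

/-- Let G be a finite group of characteristic p (C_G(O_p(G)) ≤ O_p(G)), p prime, T a Sylow p-subgroup of G and Q a normal subgroup of T with C_T(Q) ≤ Q. Then C_G(Q) ≤ Q. -/
theorem result {G : Type*} [Group G] [Finite G] {p : ℕ} [Fact p.Prime] (hG : Subgroup.centralizer (Cfsg.pCore p G : Set G) ≤ Cfsg.pCore p G) (T : Sylow p G) (Q : Subgroup G) (hQT : Q ≤ (T : Subgroup G)) (hQn : (T : Subgroup G) ≤ Subgroup.normalizer (Q : Set G)) (hC : (T : Subgroup G) ⊓ Subgroup.centralizer (Q : Set G) ≤ Q) : Subgroup.centralizer (Q : Set G) ≤ Q := by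
  have hQp : IsPGroup p Q := T.2.to_le hQT
  have hCp : IsPGroup p (Subgroup.centralizer (Q : Set G)) := by
    apply centralizer_isPGroup hG Q hQp
    intro x hx hxC
    exact hC (Subgroup.mem_inf.mpr ⟨pCore_le_sylow T hx, hxC⟩)
  have hTN : (T : Subgroup G) ≤ Subgroup.normalizer ((Subgroup.centralizer (Q : Set G) : Subgroup G) : Set G) :=
    hQn.trans (normalizer_le_normalizer_centralizer Q)
  have hsup : IsPGroup p ((Subgroup.centralizer (Q : Set G)) ⊔ (T : Subgroup G) : Subgroup G) :=
    hCp.to_sup_of_normal_left' T.2 hTN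
  have heq := T.3 hsup le_sup_right
  have hCT : Subgroup.centralizer (Q : Set G) ≤ (T : Subgroup G) := by
    rw [← heq]; exact le_sup_left
  intro x hx
  exact hC (Subgroup.mem_inf.mpr ⟨hCT hx, hx⟩)

end Cfsg.Agent.S2960
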