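import Cfsg.Statements.S2961
import Cfsg.Agent.S2960
import Cfsg.Agent.Lib.Helper17.CharP2
import Cfsg.Agent.Lib.Helper17.ChainStab
import Cfsg.Agent.Lib.Helper16.PCore

set_option autoImplicit false
open Cfsg
open Cfsg.Agent.Lib.Helper17
open scoped commutatorElement

namespace Cfsg.Agent.S2961

/-- Let G be a finite group of characteristic p (C_G(O_p(G)) ≤ O_p(G)), p prime, T a Sylow p-subgroup of G and Q a normal subgroup of T with C_T(Q) ≤ Q. Then every subgroup L of G containing Q has characteristic p: C_L(O_p(L)) ≤ O_p(L). -/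
theorem result {G : Type*} [Group G] [Finite G] {p : ℕ} [Fact p.Prime] (hG : Subgroup.centralizer (Cfsg.pCore p G : Set G) ≤ Cfsg.pCore p G) (T : Sylow p G) (Q : Subgroup G) (hQT : Q ≤ (T : Subgroup G)) (hQn : (T : Subgroup G) ≤ Subgroup.normalizer (Q : Set G)) (hC : (T : Subgroup G) ⊓ Subgroup.centralizer (Q : Set G) ≤ Q) (L : Subgroup G) (hQL : Q ≤ L) : Subgroup.centralizer (Cfsg.pCore p ↥L : Set ↥L) ≤ Cfsg.pCore p ↥L := by
  rw [isCharPSub_iff]
  have hCQ : Subgroup.centralizer (Q : Set G) ≤ Q := Cfsg.Agent.S2960.result hG T Q hQT hQn hC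
  have hQp : IsPGroup p Q := T.2.to_le hQT
  set P := Cfsg.pCore p G with hPdef
  have hPn : P.Normal := Cfsg.Agent.Lib.Helper16.pCore_normal
  have hPp : IsPGroup p P := Cfsg.Agent.Lib.Helper16.pCore_isPGroup
  have hPT : P ≤ (T : Subgroup G) := Cfsg.Agent.Lib.Helper16.pCore_le_sylow T
  have hNP : ∀ g : G, g ∈ Subgroup.normalizer (P : Set G) := by
    intro g; rw [Subgroup.normalizer_eq_top_iff.mpr hPn]; exact Subgroup.mem_top g
  set P₂ := ⁅P, Q⁆ with hP₂def
  have hP₂P : P₂ ≤ P := commutator_le_left_of_le_normalizer (fun q _ => hNP q)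
  have hP₂Q : P₂ ≤ Q := commutator_le_right_of_le_normalizer (hPT.trans hQn)
  set R := Cfsg.pCoreOf p L with hRdef
  have hRp : IsPGroup p R := pCoreOf_isPGroup L
  have hLR : L ≤ Subgroup.normalizer (R : Set G) := le_normalizer_pCoreOf L
  set D := L ⊓ Subgroup.centralizer (R : Set G) with hDdef
  have hLD : L ≤ Subgroup.normalizer (D : Set G) := fun l hl =>
    mem_normalizer_inf (Subgroup.le_normalizer hl) (normalizer_le_normalizer_centralizer' R (hLR hl))
  have hPLR : P ⊓ L ≤ R := by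
    apply le_pCoreOf inf_le_right _ (hPp.to_le inf_le_left)
    intro l hl
    exact mem_normalizer_inf (hNP l) (Subgroup.le_normalizer hl)
  have hP₂R : P₂ ≤ R := fun y hy => hPLR (Subgroup.mem_inf.mpr ⟨hP₂P hy, hQL (hP₂Q hy)⟩)
  have hDP₂ : ∀ d ∈ D, ∀ y ∈ P₂, d * y = y * d := fun d hd y hy =>
    ((Subgroup.mem_centralizer_iff.mp (Subgroup.mem_inf.mp hd).2) y (hP₂R hy)).symm
  have hDN₂ : D ≤ Subgroup.normalizer (P₂ : Set G) := by
    intro d hd
    apply (Subgroup.centralizer_le_normalizer (P₂ : Set G))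
    rw [Subgroup.mem_centralizer_iff]
    intro y hy
    exact (hDP₂ d hd y hy).symm
  have hQN₂ : Q ≤ Subgroup.normalizer (P₂ : Set G) := fun q hq =>
    mem_normalizer_commutator (hNP q) (Subgroup.le_normalizer hq)
  -- Y₀
  set Y₀ := D ⊓ chainStab P P₂ with hY₀def
  have hY₀p : IsPGroup p Y₀ := by
    apply isPGroup_of_coprime_elements_trivial
    intro y hy hcop
    obtain ⟨hyD, hyS⟩ := Subgroup.mem_inf.mp hy
    have hcent := chainStab_centralizes hPp hP₂P hyS hcop (hDP₂ y hyD)
    have hyP : y ∈ P := by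
      apply hG
      rw [Subgroup.mem_centralizer_iff]
      intro x hx
      exact (hcent x hx).symm
    exact eq_one_of_mem_pgroup_of_coprime hPp hyP hcop
  have hDY₀ : D ≤ Subgroup.normalizer (Y₀ : Set G) := by
    intro d hd
    apply mem_normalizer_inf (Subgroup.le_normalizer hd)
    apply mem_normalizer_of_map_conj_le
    rintro _ ⟨g, hg, rfl⟩
    simp only [MulEquiv.coe_toMonoidHom, MulAut.conj_apply]
    exact conj_mem_chainStab (hNP d) (hDN₂ hd) hg
  have hY₀R : Y₀ ≤ R := by
    have h1 : Y₀ ≤ Cfsg.pCoreOf p D := le_pCoreOf inf_le_left hDY₀ hY₀p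
    have h2 : Cfsg.pCoreOf p D ≤ R := by
      apply le_pCoreOf ((pCoreOf_le D).trans inf_le_left) _ (pCoreOf_isPGroup D)
      exact hLD.trans (normalizer_le_normalizer_pCoreOf D)
    exact h1.trans h2
  -- p'-elements of D are trivial
  have hDp : IsPGroup p D := by
    apply isPGroup_of_coprime_elements_trivial
    intro x hx hcop
    have hxQ : ∀ q ∈ Q, ⁅x, q⁆ = 1 := by
      intro q hq
      set z := ⁅x, q⁆ with hz
      have hqxq : q * x⁻¹ * q⁻¹ ∈ D :=
        (Subgroup.mem_normalizer_iff.mp (hLD (hQL hq)) _).mp (D.inv_mem hx)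
      have hzD : z ∈ D := by
        have e : z = x * (q * x⁻¹ * q⁻¹) := by rw [hz, commutatorElement_def]; group
        rw [e]; exact D.mul_mem hx hqxq
      have hqS : q ∈ chainStab P P₂ :=
        ⟨hNP q, hQN₂ hq, fun u hu => Subgroup.commutator_mem_commutator hu hq⟩
      have hzS : z ∈ chainStab P P₂ := by
        have e : z = (x * q * x⁻¹) * q⁻¹ := by rw [hz, commutatorElement_def]
        rw [e]
        exact Subgroup.mul_mem _ (conj_mem_chainStab (hNP x) (hDN₂ hx) hqS)
          (Subgroup.inv_mem _ hqS)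
      have hzR : z ∈ R := hY₀R (Subgroup.mem_inf.mpr ⟨hzD, hzS⟩)
      have hxz : x * z = z * x :=
        ((Subgroup.mem_centralizer_iff.mp (Subgroup.mem_inf.mp hx).2) z hzR).symm
      -- q x⁻¹ q⁻¹ = x⁻¹ z
      have e1 : q * x⁻¹ * q⁻¹ = x⁻¹ * z := by rw [hz, commutatorElement_def]; group
      have hcomm : Commute x⁻¹ z := by
        have : Commute x z := hxz
        exact this.inv_left
      have e2 : (q * x⁻¹ * q⁻¹) ^ orderOf x = 1 := by
        have : q * x⁻¹ * q⁻¹ = MulAut.conj q x⁻¹ := by simp [MulAut.conj_apply]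
        rw [this, ← map_pow, inv_pow, pow_orderOf_eq_one, inv_one, map_one]
      rw [e1, hcomm.mul_pow, inv_pow, pow_orderOf_eq_one, inv_one, one_mul] at e2
      -- z is a p-element with z^m = 1
      obtain ⟨k, hk⟩ := hRp ⟨z, hzR⟩
      have hk' : z ^ p ^ k = 1 := by
        have := congrArg Subtype.val hk
        simpa using this
      have h1 : orderOf z ∣ p ^ k := orderOf_dvd_of_pow_eq_one hk'
      have h2 : orderOf z ∣ orderOf x := orderOf_dvd_of_pow_eq_one e2
      have h3 : orderOf z = 1 :=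
        Nat.eq_one_of_dvd_coprimes (Nat.Coprime.pow_right k hcop) h2 h1
      exact orderOf_eq_one_iff.mp h3
    have hxCQ : x ∈ Subgroup.centralizer (Q : Set G) := by
      rw [Subgroup.mem_centralizer_iff]
      intro q hq
      have := hxQ q hq
      rw [commutatorElement_eq_one_iff_mul_comm] at this
      exact this.symm
    exact eq_one_of_mem_pgroup_of_coprime hQp (hCQ hxCQ) hcop
  unfold IsCharPSub
  exact le_pCoreOf inf_le_left hLD hDp

end Cfsg.Agent.S2961
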