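import Cfsg.Statements.S2963

set_option autoImplicit false
open Cfsg

namespace Cfsg.Agent.S2963

open Equiv

/-- Let n be odd. If the symmetric group of degree n is a minimal parabolic group for the prime 2, that is, a Sylow 2-subgroup is not normal and lies in exactly one maximal subgroup, then n = 2^m + 1 for some natural number m. -/
theorem result (n : ℕ) (hn : Odd n) (h : Cfsg.IsPMinimal 2 (Equiv.Perm (Fin n))) : ∃ m : ℕ, n = 2 ^ m + 1 := by
  have : Fact (Nat.Prime 2) := ⟨Nat.prime_two⟩
  obtain ⟨S⟩ : Nonempty (Sylow 2 (Perm (Fin n))) := inferInstance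
  obtain ⟨hSn, M, ⟨hMco, hSM⟩, hMuniq⟩ := h S
  -- every proper subgroup containing S lies in M
  have hprop : ∀ K : Subgroup (Perm (Fin n)), (S : Subgroup (Perm (Fin n))) ≤ K → K ≠ ⊤ → K ≤ M := by
    intro K hSK hK
    obtain ⟨M', hM', hKM'⟩ := (eq_top_or_exists_le_coatom K).resolve_left hK
    have := hMuniq M' ⟨hM', hSK.trans hKM'⟩
    rw [← this]; exact hKM'
  -- a fixed point of S
  have hnd : ¬ 2 ∣ Nat.card (Fin n) := by
    rw [Nat.card_fin]
    exact hn.not_two_dvd_nat
  obtain ⟨a, ha⟩ := S.2.nonempty_fixed_point_of_prime_not_dvd_card (Fin n) hnd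
  have haS : ∀ s ∈ (S : Subgroup (Perm (Fin n))), s a = a := by
    intro s hs
    exact ha ⟨s, hs⟩
  by_cases hb : ∃ b : Fin n, b ≠ a
  · obtain ⟨b, hba⟩ := hb
    -- the orbit of b under S
    have hbA : b ∈ MulAction.orbit (S : Subgroup (Perm (Fin n))) b := MulAction.mem_orbit_self b
    have hinv : ∀ s ∈ (S : Subgroup (Perm (Fin n))), ∀ y : Fin n,
        y ∈ MulAction.orbit (S : Subgroup (Perm (Fin n))) b ↔
          s y ∈ MulAction.orbit (S : Subgroup (Perm (Fin n))) b := by
      intro s hs y
      have e : s y = (⟨s, hs⟩ : (S : Subgroup (Perm (Fin n)))) • y := rfl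
      rw [e, ← MulAction.orbit_eq_iff, ← MulAction.orbit_eq_iff, MulAction.orbit_smul]
    have haA : a ∉ MulAction.orbit (S : Subgroup (Perm (Fin n))) b := by
      rintro ⟨s, hs⟩
      have h1 : (s : Perm (Fin n)) b = a := hs
      have h2 : (s : Perm (Fin n)) a = a := haS s s.2
      exact hba ((s : Perm (Fin n)).injective (h1.trans h2.symm))
    by_cases hc : ∃ c : Fin n, c ≠ a ∧ c ∉ MulAction.orbit (S : Subgroup (Perm (Fin n))) b
    · exfalso
      obtain ⟨c, hca, hcA⟩ := hc
      -- X = setwise stabilizer of A, as an explicit subgroup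
      let X : Subgroup (Perm (Fin n)) :=
        { carrier := {σ | ∀ y, y ∈ MulAction.orbit (S : Subgroup (Perm (Fin n))) b ↔
            σ y ∈ MulAction.orbit (S : Subgroup (Perm (Fin n))) b}
          mul_mem' := by
            intro σ τ hσ hτ y
            have h1 := hτ y
            have h2 := hσ (τ y)
            rw [h1, h2]; rfl
          one_mem' := by intro y; rfl
          inv_mem' := by
            intro σ hσ y
            have h1 := hσ (σ⁻¹ y)
            rw [h1]
            simp }
      have hXmem : ∀ σ : Perm (Fin n), σ ∈ X ↔ ∀ y, y ∈ MulAction.orbit (S : Subgroup (Perm (Fin n))) b ↔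
            σ y ∈ MulAction.orbit (S : Subgroup (Perm (Fin n))) b := fun σ => Iff.rfl
      have hSX : (S : Subgroup (Perm (Fin n))) ≤ X := by
        intro s hs
        rw [hXmem]
        exact hinv s hs
      have hacX : swap a c ∈ X := by
        rw [hXmem]
        intro y
        by_cases hya : y = a
        · rw [hya, swap_apply_left]
          exact ⟨fun h => absurd h haA, fun h => absurd h hcA⟩
        · by_cases hyc : y = c
          · rw [hyc, swap_apply_right]
            exact ⟨fun h => absurd h hcA, fun h => absurd h haA⟩
          · rw [swap_apply_of_ne_of_ne hya hyc]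
      have habX : swap a b ∉ X := by
        rw [hXmem]
        intro hX
        have := (hX b).mp hbA
        rw [swap_apply_right] at this
        exact haA this
      have hXne : X ≠ ⊤ := by
        intro htop
        apply habX
        rw [htop]; exact Subgroup.mem_top _
      have hXM : X ≤ M := hprop X hSX hXne
      have hSY : (S : Subgroup (Perm (Fin n))) ≤ MulAction.stabilizer (Perm (Fin n)) a := by
        intro s hs
        rw [MulAction.mem_stabilizer_iff]
        exact haS s hs
      have hYne : MulAction.stabilizer (Perm (Fin n)) a ≠ ⊤ := by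
        intro htop
        have : swap a b ∈ MulAction.stabilizer (Perm (Fin n)) a := by
          rw [htop]; exact Subgroup.mem_top _
        rw [MulAction.mem_stabilizer_iff, Perm.smul_def, swap_apply_left] at this
        exact hba this
      have hYM : MulAction.stabilizer (Perm (Fin n)) a ≤ M := hprop _ hSY hYne
      apply hMco.1
      rw [eq_top_iff]
      intro σ _
      -- find τ ∈ M with τ a = σ a
      have key : ∃ τ ∈ M, τ a = σ a := by
        by_cases hd : σ a = a
        · exact ⟨1, M.one_mem, by rw [hd]; rfl⟩
        · by_cases hdc : σ a = c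
          · exact ⟨swap a c, hXM hacX, by rw [swap_apply_left, hdc]⟩
          · refine ⟨swap c (σ a) * swap a c, M.mul_mem (hYM ?_) (hXM hacX), ?_⟩
            · rw [MulAction.mem_stabilizer_iff, Perm.smul_def]
              exact swap_apply_of_ne_of_ne (Ne.symm hca) (Ne.symm hd)
            · rw [Perm.mul_apply, swap_apply_left, swap_apply_left]
      obtain ⟨τ, hτM, hτ⟩ := key
      have h1 : τ⁻¹ * σ ∈ MulAction.stabilizer (Perm (Fin n)) a := by
        rw [MulAction.mem_stabilizer_iff, Perm.smul_def, Perm.mul_apply, ← hτ]
        simp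
      have : σ = τ * (τ⁻¹ * σ) := by group
      rw [this]
      exact M.mul_mem hτM (hYM h1)
    · -- the orbit is the complement of a
      have hall : ∀ c : Fin n, c ≠ a → c ∈ MulAction.orbit (S : Subgroup (Perm (Fin n))) b := by
        intro c hca
        by_contra hcA
        exact hc ⟨c, hca, hcA⟩
      have hA : MulAction.orbit (S : Subgroup (Perm (Fin n))) b = ({a} : Set (Fin n))ᶜ := by
        ext y
        constructor
        · intro hy hya
          rw [Set.mem_singleton_iff] at hya
          exact haA (hya ▸ hy)
        · intro hy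
          exact hall y (by simpa using hy)
      obtain ⟨m, hm⟩ := S.2.card_orbit b
      refine ⟨m, ?_⟩
      have h1 : Nat.card (MulAction.orbit (S : Subgroup (Perm (Fin n))) b) = n - 1 := by
        rw [hA, Nat.card_coe_set_eq, Set.ncard_compl, Set.ncard_singleton, Nat.card_fin]
      have hn1 : 1 ≤ n := by
        rcases hn with ⟨k, hk⟩; omega
      omega
  · -- Fin n is a subsingleton, so S is normal
    exfalso
    apply hSn
    have hsub : ∀ σ : Perm (Fin n), σ = 1 := by
      intro σ
      ext y
      have h1 : y = a := by
        by_contra hy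
        exact hb ⟨y, hy⟩
      have h2 : σ y = a := by
        by_contra hy
        exact hb ⟨σ y, hy⟩
      rw [h2, h1]; rfl
    constructor
    intro x hx g
    rw [hsub (g * x * g⁻¹), ← hsub x]
    exact hx

end Cfsg.Agent.S2963
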