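import Cfsg.Statements.S2968
import Cfsg.Agent.Lib.Helper17.Isolated

set_option autoImplicit false
open Cfsg

namespace Cfsg.Agent.S2968

open Cfsg.Agent.Lib.Helper17

/-- Let G be a finite group, p a prime, P a Sylow p-subgroup of G and x ∈ P an element of p-power order which is isolated in G (the only conjugate of x commuting with x is x itself). Then x lies in the centre of P, and the subgroup generated by x is both strongly closed and weakly closed in P with respect to G. -/
theorem result {G : Type*} [Group G] [Finite G] {p : ℕ} [Fact p.Prime] (P : Sylow p G) (x : G) (hxP : x ∈ (P : Subgroup G)) (hx : ∃ k : ℕ, orderOf x = p ^ k) (hiso : Cfsg.IsIsolated x) : x ∈ (P : Subgroup G) ⊓ Subgroup.centralizer ((P : Subgroup G) : Set G) ∧ Cfsg.IsStronglyClosed (Subgroup.zpowers x) (P : Subgroup G) ∧ Cfsg.IsWeaklyClosed (Subgroup.zpowers x) (P : Subgroup G) := by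
  have hcent : ∀ r ∈ (P : Subgroup G), r * x = x * r :=
    isolated_central_of_mem_pgroup hiso P.2 hxP
  have hzP : Subgroup.zpowers x ≤ (P : Subgroup G) := by
    rw [Subgroup.zpowers_le]; exact hxP
  -- any conjugate of x inside P equals x
  have hconj : ∀ g : G, g * x * g⁻¹ ∈ (P : Subgroup G) → g * x * g⁻¹ = x := by
    intro g hg
    exact hiso g (hcent _ hg).symm
  refine ⟨Subgroup.mem_inf.mpr ⟨hxP, ?_⟩, ⟨hzP, ?_⟩, ⟨hzP, ?_⟩⟩
  · rw [Subgroup.mem_centralizer_iff]
    exact hcent
  · intro y hy g hg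
    obtain ⟨k, rfl⟩ := Subgroup.mem_zpowers_iff.mp hy
    -- y' = g x^k g⁻¹ = (g x g⁻¹)^k
    have hpow : g * x ^ k * g⁻¹ = (g * x * g⁻¹) ^ k := by
      rw [conj_zpow]
    -- x and g x g⁻¹ both centralize y'
    have hxC : x ∈ Subgroup.centralizer ({g * x ^ k * g⁻¹} : Set G) := by
      rw [Subgroup.mem_centralizer_iff]
      intro z hz
      rw [Set.mem_singleton_iff] at hz
      subst hz
      exact hcent _ hg
    have hgC : g * x * g⁻¹ ∈ Subgroup.centralizer ({g * x ^ k * g⁻¹} : Set G) := by
      rw [Subgroup.mem_centralizer_iff]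
      intro z hz
      rw [Set.mem_singleton_iff] at hz
      subst hz
      rw [hpow]
      exact ((Commute.refl (g * x * g⁻¹)).zpow_left k).eq
    obtain ⟨c, hc, hcx⟩ := isolated_conj_in_subgroup hx hiso g hxC hgC
    -- y' = c y c⁻¹ and c centralizes y'
    have h1 : g * x ^ k * g⁻¹ = c * x ^ k * c⁻¹ := by
      rw [hpow, ← hcx, conj_zpow]
    rw [Subgroup.mem_centralizer_iff] at hc
    have h2 := hc _ rfl
    -- so y' = y
    have h3 : g * x ^ k * g⁻¹ = x ^ k := by
      have : c * x ^ k * c⁻¹ * c = c * (c * x ^ k * c⁻¹) := by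
        rw [← h1]; exact h2
      have h4 : c * x ^ k = c * (c * x ^ k * c⁻¹) := by
        rw [← this]; group
      have h5 := mul_left_cancel h4
      rw [h1, ← h5]
    rw [h3]
    exact Subgroup.zpow_mem_zpowers x k
  · intro g hg
    have h1 : g * x * g⁻¹ ∈ (P : Subgroup G) := by
      apply hg
      exact ⟨x, Subgroup.mem_zpowers x, by simp⟩
    have h2 := hconj g h1
    rw [MonoidHom.map_zpowers]
    congr 1

end Cfsg.Agent.S2968
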