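import Cfsg.Statements.S2969
import Cfsg.Agent.Lib.Helper17.Isolated

set_option autoImplicit false
open Cfsg

namespace Cfsg.Agent.S2969

open Cfsg.Agent.Lib.Helper17

/-- Let G be a finite group, p a prime and x ∈ G an element of p-power order which is isolated in G. If R is a p-subgroup of G containing x, then N_G(R) ≤ C_G(x); in particular x lies in the centre of R. Moreover, if x lies in a normal subgroup N of a subgroup H of G, then H = N·C_H(x). -/
theorem result {G : Type*} [Group G] [Finite G] {p : ℕ} [Fact p.Prime] (x : G) (hx : ∃ k : ℕ, orderOf x = p ^ k) (hiso : Cfsg.IsIsolated x) : (∀ R : Subgroup G, IsPGroup p ↥R → x ∈ R → Subgroup.normalizer (R : Set G) ≤ Subgroup.centralizer ({x} : Set G)) ∧ (∀ H N : Subgroup G, N ≤ H → H ≤ Subgroup.normalizer (N : Set G) → x ∈ N → N ⊔ (H ⊓ Subgroup.centralizer ({x} : Set G)) = H) := by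
  refine ⟨fun R hR hxR => isolated_normalizer_le_centralizer hiso hR hxR, ?_⟩
  intro H N hNH hHN hxN
  apply le_antisymm (sup_le hNH inf_le_left)
  intro h hh
  obtain ⟨k, hk⟩ := hx
  have hzp : IsPGroup p (Subgroup.zpowers (⟨x, hxN⟩ : N)) := by
    apply IsPGroup.of_card (n := k)
    rw [Nat.card_zpowers, ← hk]
    exact Subgroup.orderOf_mk x hxN
  obtain ⟨P, hP⟩ := hzp.exists_le_sylow
  have hxP : x ∈ (P : Subgroup N).map N.subtype :=
    ⟨⟨x, hxN⟩, hP (Subgroup.mem_zpowers _), rfl⟩
  have hRp : IsPGroup p ((P : Subgroup N).map N.subtype) := P.2.map _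
  obtain ⟨n, hn, hm⟩ := frattini_internal P h (hHN hh)
  have hmC := isolated_normalizer_le_centralizer hiso hRp hxP hm
  have : h = n * (n⁻¹ * h) := by group
  rw [this]
  exact Subgroup.mul_mem_sup hn ⟨H.mul_mem (H.inv_mem (hNH hn)) hh, hmC⟩

end Cfsg.Agent.S2969
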