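import Cfsg.Statements.S2970
import Cfsg.Agent.Lib.Helper17.Isolated
import Cfsg.Agent.Lib.Helper10.Basic

set_option autoImplicit false
open Cfsg

namespace Cfsg.Agent.S2970

open Cfsg.Agent.Lib.Helper17

/-- In a cyclic `p`-subgroup `P`, every element `c` with `c ^ p = 1` is a power of any nontrivial
element `x` of `P`. -/
theorem mem_zpowers_of_pow_eq_one {G : Type*} [Group G] [Finite G] {p : ℕ} [hp : Fact p.Prime]
    (P : Subgroup G) [IsCyclic P] (hP : IsPGroup p P) {x c : G} (hx : x ∈ P) (hx1 : x ≠ 1)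
    (hc : c ∈ P) (hcp : c ^ p = 1) : c ∈ Subgroup.zpowers x := by
  by_cases hc1 : c = 1
  · rw [hc1]; exact Subgroup.one_mem _
  have hco : orderOf c = p := orderOf_eq_prime hcp hc1
  obtain ⟨k, hk⟩ := (IsPGroup.iff_orderOf.mp hP) ⟨x, hx⟩
  rw [Subgroup.orderOf_mk] at hk
  have hk1 : k ≠ 0 := by
    rintro rfl
    rw [pow_zero, orderOf_eq_one_iff] at hk
    exact hx1 hk
  obtain ⟨j, rfl⟩ := Nat.exists_eq_succ_of_ne_zero hk1
  have hx'o : orderOf (x ^ p ^ j) = p := by
    rw [orderOf_pow_of_dvd (pow_ne_zero _ hp.out.ne_zero) (hk ▸ pow_dvd_pow p (Nat.le_succ j)), hk,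
      pow_succ, Nat.mul_div_cancel_left _ (pow_pos hp.out.pos j)]
  have heq : Subgroup.zpowers c = Subgroup.zpowers (x ^ p ^ j) := by
    apply Cfsg.Agent.Lib.Helper10.eq_of_card_eq_of_le_isCyclic P
    · exact Subgroup.zpowers_le.mpr hc
    · exact Subgroup.zpowers_le.mpr (P.pow_mem hx _)
    · rw [Nat.card_zpowers, Nat.card_zpowers, hco, hx'o]
  have h1 : c ∈ Subgroup.zpowers (x ^ p ^ j) := heq ▸ Subgroup.mem_zpowers c
  exact (Subgroup.zpowers_le.mpr (Subgroup.pow_mem _ (Subgroup.mem_zpowers x) _)) h1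

/-- Key step: an element normalizing a cyclic Sylow `p`-subgroup `P` and centralizing a nontrivial
element of `P` centralizes `P`. -/
theorem centralizes_cyclic_sylow {G : Type*} [Group G] [Finite G] {p : ℕ} [hp : Fact p.Prime]
    (P : Sylow p G) [IsCyclic (P : Subgroup G)] {x : G} (hx : x ∈ (P : Subgroup G)) (hx1 : x ≠ 1)
    {g : G} (hg : g ∈ Subgroup.normalizer ((P : Subgroup G) : Set G)) (hgx : g * x = x * g) :
    ∀ n : ℕ, ∀ z ∈ (P : Subgroup G), orderOf z = n → g * z = z * g := by
  -- P is abelian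
  have hPcomm : ∀ a ∈ (P : Subgroup G), ∀ b ∈ (P : Subgroup G), a * b = b * a := by
    intro a ha b hb
    have hc : IsMulCommutative (P : Subgroup G) := IsCyclic.isMulCommutative
    have := hc.is_comm.comm (⟨a, ha⟩ : (P : Subgroup G)) ⟨b, hb⟩
    exact congrArg Subtype.val this
  -- g ^ t ∈ P with t coprime to p
  have hnorm : ((P : Subgroup G).subgroupOf (Subgroup.normalizer ((P : Subgroup G) : Set G))).Normal :=
    Subgroup.normal_in_normalizer
  have hgt : g ^ ((P : Subgroup G).relIndex (Subgroup.normalizer ((P : Subgroup G) : Set G))) ∈ (P : Subgroup G) := by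
    have := Subgroup.pow_index_mem ((P : Subgroup G).subgroupOf (Subgroup.normalizer ((P : Subgroup G) : Set G))) ⟨g, hg⟩
    rw [Subgroup.mem_subgroupOf] at this
    simpa [Subgroup.relIndex] using this
  have htcop : ((P : Subgroup G).relIndex (Subgroup.normalizer ((P : Subgroup G) : Set G))).Coprime p := by
    rw [Nat.coprime_comm]
    apply (Nat.Prime.coprime_iff_not_dvd hp.out).mpr
    intro h
    exact P.not_dvd_index (dvd_trans h (Subgroup.relIndex_dvd_index_of_le Subgroup.le_normalizer))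
  intro n
  induction n using Nat.strong_induction_on with
  | _ n ih =>
    intro z hz hzn
    by_cases hz1 : z = 1
    · rw [hz1, mul_one, one_mul]
    -- order of z ^ p is smaller
    obtain ⟨k, hk⟩ := (IsPGroup.iff_orderOf.mp P.2) ⟨z, hz⟩
    rw [Subgroup.orderOf_mk] at hk
    have hk1 : k ≠ 0 := by
      rintro rfl
      rw [pow_zero, orderOf_eq_one_iff] at hk
      exact hz1 hk
    obtain ⟨j, rfl⟩ := Nat.exists_eq_succ_of_ne_zero hk1
    have hzpo : orderOf (z ^ p) = p ^ j := by
      rw [orderOf_pow_of_dvd hp.out.ne_zero (hk ▸ dvd_pow_self p (Nat.succ_ne_zero j)), hk,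
        pow_succ, Nat.mul_div_cancel _ hp.out.pos]
    have hlt : p ^ j < n := by
      rw [← hzn, hk]
      exact Nat.pow_lt_pow_right hp.out.one_lt (Nat.lt_succ_self j)
    have hgzp : g * z ^ p = z ^ p * g := ih _ hlt _ (P.pow_mem hz p) hzpo
    -- c = g z g⁻¹ z⁻¹
    have hgz : g * z * g⁻¹ ∈ (P : Subgroup G) := (Subgroup.mem_normalizer_iff.mp hg z).mp hz
    have hcP : g * z * g⁻¹ * z⁻¹ ∈ (P : Subgroup G) := P.mul_mem hgz (P.inv_mem hz)
    have hcp : (g * z * g⁻¹ * z⁻¹) ^ p = 1 := by
      have hcomm : Commute (g * z * g⁻¹) z⁻¹ := hPcomm _ hgz _ (P.inv_mem hz)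
      rw [hcomm.mul_pow, conj_pow, inv_pow]
      have : g * z ^ p * g⁻¹ = z ^ p := by rw [hgzp]; group
      rw [this, mul_inv_cancel]
    have hcx : g * z * g⁻¹ * z⁻¹ ∈ Subgroup.zpowers x :=
      mem_zpowers_of_pow_eq_one (P : Subgroup G) P.2 hx hx1 hcP hcp
    -- g commutes with c
    have hgc : Commute g (g * z * g⁻¹ * z⁻¹) := by
      obtain ⟨i, hi⟩ := Subgroup.mem_zpowers_iff.mp hcx
      rw [← hi]
      exact (Commute.zpow_right (show Commute g x from hgx) i)
    -- g^i z g^-i = c^i z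
    have hpow : ∀ i : ℕ, g ^ i * z * (g ^ i)⁻¹ = (g * z * g⁻¹ * z⁻¹) ^ i * z := by
      intro i
      induction i with
      | zero => simp
      | succ i ihi =>
        have e1 : g ^ (i + 1) * z * (g ^ (i + 1))⁻¹ = g * (g ^ i * z * (g ^ i)⁻¹) * g⁻¹ := by
          rw [pow_succ']; group
        rw [e1, ihi]
        have e2 : g * ((g * z * g⁻¹ * z⁻¹) ^ i * z) * g⁻¹
            = (g * (g * z * g⁻¹ * z⁻¹) ^ i * g⁻¹) * (g * z * g⁻¹) := by group
        rw [e2]
        have e3 : g * (g * z * g⁻¹ * z⁻¹) ^ i * g⁻¹ = (g * z * g⁻¹ * z⁻¹) ^ i := by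
          have := (hgc.pow_right i).eq
          rw [this]; group
        rw [e3, pow_succ]
        group
    -- with i = t: g^t ∈ P centralizes z
    have h1 := hpow ((P : Subgroup G).relIndex (Subgroup.normalizer ((P : Subgroup G) : Set G)))
    have h2 : g ^ ((P : Subgroup G).relIndex (Subgroup.normalizer ((P : Subgroup G) : Set G))) * z *
        (g ^ ((P : Subgroup G).relIndex (Subgroup.normalizer ((P : Subgroup G) : Set G))))⁻¹ = z := by
      rw [hPcomm _ hgt _ hz]; group
    rw [h2] at h1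
    have hct : (g * z * g⁻¹ * z⁻¹) ^ ((P : Subgroup G).relIndex (Subgroup.normalizer ((P : Subgroup G) : Set G))) = 1 := by
      have : (g * z * g⁻¹ * z⁻¹) ^ ((P : Subgroup G).relIndex (Subgroup.normalizer ((P : Subgroup G) : Set G))) * z = 1 * z := by
        rw [one_mul]; exact h1.symm
      exact mul_right_cancel this
    have hc1 : g * z * g⁻¹ * z⁻¹ = 1 := by
      have hd1 : orderOf (g * z * g⁻¹ * z⁻¹) ∣ p := orderOf_dvd_of_pow_eq_one hcp
      have hd2 : orderOf (g * z * g⁻¹ * z⁻¹) ∣ _ := orderOf_dvd_of_pow_eq_one hct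
      have := Nat.dvd_gcd hd2 hd1
      rw [htcop.gcd_eq_one, Nat.dvd_one] at this
      exact orderOf_eq_one_iff.mp this
    have : g * z = (g * z * g⁻¹ * z⁻¹) * (z * g) := by group
    rw [this, hc1, one_mul]

/-- Let G be a finite group, p a prime and x ∈ G an element of p-power order which is isolated in G. Then the image of x in any quotient G ⧸ N is isolated in G ⧸ N; and if x ≠ 1 and the Sylow p-subgroups of G are cyclic, then G has a normal p-complement. -/
theorem result {G : Type*} [Group G] [Finite G] {p : ℕ} [Fact p.Prime] (x : G) (hx : ∃ k : ℕ, orderOf x = p ^ k) (hiso : Cfsg.IsIsolated x) : (∀ (N : Subgroup G) [N.Normal], Cfsg.IsIsolated (QuotientGroup.mk x : G ⧸ N)) ∧ (x ≠ 1 → (∀ P : Sylow p G, IsCyclic ↥(P : Subgroup G)) → Cfsg.HasNormalPComplement p G) := by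
  refine ⟨?_, ?_⟩
  · intro N _ gbar hcomm
    induction gbar using QuotientGroup.induction_on with
    | H g =>
      -- D = comap of centralizer of x̄
      have hxD : x ∈ (Subgroup.centralizer ({(QuotientGroup.mk x : G ⧸ N)} : Set (G ⧸ N))).comap (QuotientGroup.mk' N) := by
        rw [Subgroup.mem_comap, Subgroup.mem_centralizer_singleton_iff]
        rfl
      have hyD : g * x * g⁻¹ ∈ (Subgroup.centralizer ({(QuotientGroup.mk x : G ⧸ N)} : Set (G ⧸ N))).comap (QuotientGroup.mk' N) := by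
        rw [Subgroup.mem_comap, Subgroup.mem_centralizer_singleton_iff]
        exact hcomm.eq.symm
      obtain ⟨c, hc, hceq⟩ := isolated_conj_in_subgroup hx hiso g hxD hyD
      rw [Subgroup.mem_comap, Subgroup.mem_centralizer_singleton_iff] at hc
      have h1 : ((QuotientGroup.mk g : G ⧸ N)) * QuotientGroup.mk x * (QuotientGroup.mk g)⁻¹
          = QuotientGroup.mk (c * x * c⁻¹) := by
        rw [hceq]; rfl
      rw [h1]
      show (QuotientGroup.mk' N c) * (QuotientGroup.mk' N x) * (QuotientGroup.mk' N c)⁻¹ = _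
      have hc' : (QuotientGroup.mk' N c) * (QuotientGroup.mk x : G ⧸ N) = QuotientGroup.mk x * (QuotientGroup.mk' N c) := hc
      show (QuotientGroup.mk' N c) * (QuotientGroup.mk x : G ⧸ N) * (QuotientGroup.mk' N c)⁻¹ = _
      rw [hc']; group
  · intro hx1 hcyc
    obtain ⟨k, hk⟩ := hx
    have hzp : IsPGroup p (Subgroup.zpowers x) := by
      apply IsPGroup.of_card (n := k)
      rw [Nat.card_zpowers, hk]
    obtain ⟨P, hP⟩ := hzp.exists_le_sylow
    have hxP : x ∈ (P : Subgroup G) := hP (Subgroup.mem_zpowers x)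
    have := hcyc P
    have hNC : Subgroup.normalizer ((P : Subgroup G) : Set G) ≤ Subgroup.centralizer ((P : Subgroup G) : Set G) := by
      intro g hg
      have hgx : g * x = x * g := by
        have := isolated_normalizer_le_centralizer hiso P.2 hxP hg
        rw [Subgroup.mem_centralizer_singleton_iff] at this
        exact this
      rw [Subgroup.mem_centralizer_iff]
      intro z hz
      exact (centralizes_cyclic_sylow P hxP hx1 hg hgx _ z hz rfl).symm
    exact ⟨P, (MonoidHom.transferSylow P hNC).ker, inferInstance,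
      MonoidHom.ker_transferSylow_isComplement' P hNC⟩

end Cfsg.Agent.S2970
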