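import Cfsg.Statements.S2971
import Cfsg.Agent.Lib.Helper13.Frobenius
import Cfsg.Agent.Lib.Helper10.OmegaCentralize
import Cfsg.Agent.Lib.Helper17.Isolated
import Cfsg.Agent.Lib.Helper17.NormalClosure
import Cfsg.Agent.Lib.Helper1.Cores

set_option autoImplicit false
open Cfsg

namespace Cfsg.Agent.S2971

open Cfsg.Agent.Lib.Helper17

/-- Let G be a finite group and p an odd prime such that G has p-rank at most 1 (no elementary abelian subgroup of order p²). If x ∈ G is an isolated element of order p, then x is central modulo the largest normal subgroup of G of order prime to p. -/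
theorem result {G : Type*} [Group G] [Finite G] {p : ℕ} [Fact p.Prime] (hp : p ≠ 2) (hrk : Cfsg.PRankLE p 1 G) (x : G) (hx : orderOf x = p) (hiso : Cfsg.IsIsolated x) : Cfsg.InZStar p x := by
  have hpp : p.Prime := Fact.out
  have hxp : IsPGroup p (Subgroup.zpowers x) :=
    IsPGroup.of_card (n := 1) (by rw [Nat.card_zpowers, hx, pow_one])
  obtain ⟨P, hP⟩ := hxp.exists_le_sylow
  have hxP : x ∈ (P : Subgroup G) := hP (Subgroup.mem_zpowers x)
  have hxc : ∀ r ∈ (P : Subgroup G), r * x = x * r :=
    isolated_central_of_mem_pgroup hiso P.2 hxP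
  have hxpow : x ^ p = 1 := by rw [← hx]; exact pow_orderOf_eq_one x
  -- elements of order p in P are powers of x
  have hord : ∀ y ∈ (P : Subgroup G), orderOf y = p → y ∈ Subgroup.zpowers x := by
    intro y hy hyo
    have hypow : y ^ p = 1 := by rw [← hyo]; exact pow_orderOf_eq_one y
    have hA : IsElementaryAbelian p (Subgroup.closure ({x, y} : Set G)) := by
      apply isElementaryAbelian_closure
      · intro a ha b hb
        rcases ha with rfl | rfl <;> rcases hb with rfl | rfl
        · rfl
        · exact (hxc _ hy).symm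
        · exact hxc _ hy
        · rfl
      · intro a ha
        rcases ha with rfl | rfl
        · exact hxpow
        · exact hypow
    have hcardA : Nat.card (Subgroup.closure ({x, y} : Set G)) ≤ p ^ 1 := hrk _ hA.1 hA.2
    have hle : Subgroup.zpowers x ≤ Subgroup.closure ({x, y} : Set G) :=
      Subgroup.zpowers_le.mpr (Subgroup.subset_closure (by simp))
    have heq : Subgroup.zpowers x = Subgroup.closure ({x, y} : Set G) :=
      Subgroup.eq_of_le_of_card_ge hle (by rw [Nat.card_zpowers, hx]; simpa using hcardA)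
    rw [heq]
    exact Subgroup.subset_closure (by simp)
  -- local centrality
  have hLC : Cfsg.Agent.Lib.Helper13.LocalCentral p G := by
    apply Cfsg.Agent.Lib.Helper13.localCentral_of_sylow P
    intro Q hQP g hg hcop
    have hQp : IsPGroup p Q := P.2.to_le hQP
    by_cases hQ1 : Q = ⊥
    · rw [hQ1, Subgroup.mem_centralizer_iff]
      intro h hh
      rw [SetLike.mem_coe, Subgroup.mem_bot] at hh
      rw [hh, one_mul, mul_one]
    · have hdvd : p ∣ Nat.card Q := by
        rcases hQp.card_eq_or_dvd with h | h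
        · exact absurd (Subgroup.card_eq_one.mp h) hQ1
        · exact h
      obtain ⟨y, hyo⟩ := exists_prime_orderOf_dvd_card' p hdvd
      have hyo' : orderOf (y : G) = p := by rw [Subgroup.orderOf_coe]; exact hyo
      have hyx : (y : G) ∈ Subgroup.zpowers x := hord _ (hQP y.2) hyo'
      have hzeq : Subgroup.zpowers (y : G) = Subgroup.zpowers x :=
        Subgroup.eq_of_le_of_card_ge (Subgroup.zpowers_le.mpr hyx)
          (by rw [Nat.card_zpowers, Nat.card_zpowers, hx, hyo'])
      have hxQ : x ∈ Q := by
        have : x ∈ Subgroup.zpowers (y : G) := by rw [hzeq]; exact Subgroup.mem_zpowers x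
        exact (Subgroup.zpowers_le.mpr y.2) this
      have hgx : g ∈ Subgroup.centralizer ({x} : Set G) :=
        isolated_normalizer_le_centralizer hiso hQp hxQ hg
      rw [Subgroup.mem_centralizer_singleton_iff] at hgx
      have hA : (Nat.card (Subgroup.zpowers g)).Coprime p := by
        rw [Nat.card_zpowers]; exact hcop
      have hAN : Subgroup.zpowers g ≤ Subgroup.normalizer (Q : Set G) :=
        Subgroup.zpowers_le.mpr hg
      have := Cfsg.Agent.Lib.Helper10.le_centralizer_of_centralizes_order_p p hp
        (Subgroup.zpowers g) Q hA hQp hAN (by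
          intro w hw hwo a ha
          obtain ⟨j, rfl⟩ := Subgroup.mem_zpowers_iff.mp (hord w (hQP hw) hwo)
          obtain ⟨i, rfl⟩ := Subgroup.mem_zpowers_iff.mp ha
          have hc : Commute g x := hgx
          exact ((hc.zpow_left i).zpow_right j).eq)
      exact this (Subgroup.mem_zpowers g)
  obtain ⟨K, hKn, hK⟩ := Cfsg.Agent.Lib.Helper13.exists_normal_complement_of_localCentral hLC P
  have hKcop := (Cfsg.Agent.Lib.Helper13.coprime_and_index_of_isComplement' K P hK).1
  have hKle : K ≤ Cfsg.pPrimeCore p G := Cfsg.Agent.Lib.Helper1.le_pPrimeCore hKn hKcop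
  intro g
  apply hKle
  obtain ⟨⟨k, s⟩, hks⟩ := hK.2 g
  have hks' : (k : G) * (s : G) = g := hks
  have hs := hxc s s.2
  have e : g * x * g⁻¹ * x⁻¹ = (k : G) * (x * (k : G)⁻¹ * x⁻¹) := by
    rw [← hks']
    calc (k : G) * (s : G) * x * ((k : G) * (s : G))⁻¹ * x⁻¹
        = (k : G) * ((s : G) * x) * (s : G)⁻¹ * (k : G)⁻¹ * x⁻¹ := by group
      _ = (k : G) * (x * (s : G)) * (s : G)⁻¹ * (k : G)⁻¹ * x⁻¹ := by rw [hs]
      _ = (k : G) * (x * (k : G)⁻¹ * x⁻¹) := by group
  rw [e]
  exact K.mul_mem k.2 (hKn.conj_mem _ (K.inv_mem k.2) x)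

end Cfsg.Agent.S2971
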