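import Cfsg.Statements.S2975
import Cfsg.Agent.Lib.Helper17.ZStarMin
import Cfsg.Agent.Lib.Helper1.CoprimeSylow
import Cfsg.Agent.Lib.Helper9.Signalizer
import Cfsg.Agent.Lib.Helper17.SylowLemmas
import Cfsg.Agent.Lib.Helper17.Isolated
import Cfsg.Agent.Lib.Helper20.Subnormal

set_option autoImplicit false
open Cfsg

namespace Cfsg.Agent.S2975

open Cfsg.Agent.Lib.Helper17 Cfsg.Agent.Lib.Helper1
open scoped Pointwise

section aux

variable {G : Type*} [Group G] [Finite G]

/-- The order of a `q`-subgroup of `H` divides the `q`-part of `|H|`. -/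
theorem card_dvd_qpart {q : ℕ} [hq : Fact q.Prime] {R H : Subgroup G} (hR : IsPGroup q R)
    (hRH : R ≤ H) : Nat.card R ∣ q ^ (Nat.card H).factorization q := by
  obtain ⟨a, ha⟩ := (IsPGroup.iff_card).mp hR
  rw [ha]
  apply pow_dvd_pow
  have h1 : q ^ a ∣ Nat.card H := by rw [← ha]; exact Subgroup.card_dvd_of_le hRH
  exact (hq.out.pow_dvd_iff_le_factorization Nat.card_pos.ne').mp h1

/-- If `x` of order `p` is central in `H` modulo a `p'`-subgroup `K` normal in `H`, then `H` has an
`x`-invariant subgroup whose order is the `q`-part of `|H|`, for each prime `q ≠ p`. -/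
theorem exists_invariant_qpart {p q : ℕ} [Fact p.Prime] [Fact q.Prime]
    (hqp : q ≠ p) {x : G} (hx : orderOf x = p) {H K : Subgroup G} (hxH : x ∈ H) (hKH : K ≤ H)
    (hKn : H ≤ Subgroup.normalizer (K : Set G)) (hKp : (Nat.card K).Coprime p)
    (hc : ∀ h ∈ H, h * x * h⁻¹ * x⁻¹ ∈ K) :
    ∃ T : Subgroup G, T ≤ H ∧ Nat.card T = q ^ (Nat.card H).factorization q ∧
      x ∈ Subgroup.normalizer (T : Set G) := by
  have hp : p.Prime := Fact.out
  have hq : q.Prime := Fact.out
  obtain ⟨T₀⟩ : Nonempty (Sylow q ↥H) := inferInstance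
  have hT₀H : (T₀ : Subgroup ↥H).map H.subtype ≤ H := Subgroup.map_subtype_le _
  have hT₀card : Nat.card ((T₀ : Subgroup ↥H).map H.subtype) = q ^ (Nat.card H).factorization q := by
    rw [Subgroup.card_map_of_injective H.subtype_injective]
    exact T₀.card_eq_multiplicity
  have hMH : K ⊔ (T₀ : Subgroup ↥H).map H.subtype ≤ H := sup_le hKH hT₀H
  have hxM : x ∈ Subgroup.normalizer ((K ⊔ (T₀ : Subgroup ↥H).map H.subtype : Subgroup G) : Set G) := by
    apply mem_normalizer_of_map_conj_le
    rw [Subgroup.map_sup]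
    apply sup_le
    · have : K.map (MulAut.conj x).toMonoidHom = K := map_conj_eq_of_mem_normalizer (hKn hxH)
      rw [this]
      exact le_sup_left
    · rintro _ ⟨t, ht, rfl⟩
      have h1 : t * x * t⁻¹ * x⁻¹ ∈ K := hc t (hT₀H ht)
      have h2 : (MulAut.conj x).toMonoidHom t = (t * x * t⁻¹ * x⁻¹)⁻¹ * t := by
        simp only [MulEquiv.coe_toMonoidHom, MulAut.conj_apply]
        group
      rw [h2]
      exact Subgroup.mul_mem _ (Subgroup.mem_sup_left (K.inv_mem h1)) (Subgroup.mem_sup_right ht)
  have hMp : (Nat.card (K ⊔ (T₀ : Subgroup ↥H).map H.subtype : Subgroup G)).Coprime p := by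
    have h1 : Nat.card (K ⊔ (T₀ : Subgroup ↥H).map H.subtype : Subgroup G) ∣
        Nat.card K * Nat.card ((T₀ : Subgroup ↥H).map H.subtype) :=
      Cfsg.Agent.Lib.Helper9.card_sup_dvd_of_le_normalizer (hT₀H.trans hKn)
    apply Nat.Coprime.coprime_dvd_left h1
    apply Nat.Coprime.mul_left hKp
    rw [hT₀card]
    exact Nat.Coprime.pow_left _ ((Nat.coprime_primes hq hp).mpr hqp)
  have hco : CoprimeAct (Subgroup.zpowers x) (K ⊔ (T₀ : Subgroup ↥H).map H.subtype) :=
    { norm := by rw [Subgroup.zpowers_le]; exact hxM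
      cop := by rw [Nat.card_zpowers, hx]; exact hMp.symm
      solv := Or.inl inferInstance }
  obtain ⟨T, hT⟩ := hco.exists_invariant_sylow q
  refine ⟨(T : Subgroup ↥(K ⊔ (T₀ : Subgroup ↥H).map H.subtype)).map
    (K ⊔ (T₀ : Subgroup ↥H).map H.subtype).subtype, (Subgroup.map_subtype_le _).trans hMH, ?_,
    hT (Subgroup.mem_zpowers x)⟩
  rw [Subgroup.card_map_of_injective (Subgroup.subtype_injective _), T.card_eq_multiplicity]
  congr 1
  apply le_antisymm
  · exact (Nat.factorization_le_iff_dvd Nat.card_pos.ne' Nat.card_pos.ne').mpr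
      (Subgroup.card_dvd_of_le hMH) q
  · have : q ^ (Nat.card H).factorization q ∣
        Nat.card (K ⊔ (T₀ : Subgroup ↥H).map H.subtype : Subgroup G) := by
      rw [← hT₀card]
      exact Subgroup.card_dvd_of_le le_sup_right
    exact (hq.pow_dvd_iff_le_factorization Nat.card_pos.ne').mp this

end aux

/-- Let G be a finite group, p a prime and x ∈ G an isolated element of order p (the only conjugate of x commuting with x is x) which is not central modulo the largest normal subgroup of order prime to p, while x is central modulo the largest normal subgroup of order prime to p in every proper subgroup containing x, and the image of x is so in every quotient of G by a nontrivial normal subgroup (a minimal counterexample to the Z*_p statement). Then for every prime q, every q-subgroup of G that is normalized by x and maximal among the q-subgroups normalized by x is either trivial or a Sylow q-subgroup of G; and C_G(x) permutes the x-invariant Sylow q-subgroups of G transitively by conjugation. -/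
theorem result {G : Type*} [Group G] [Finite G] {p : ℕ} [Fact p.Prime] (x : G) (hx : orderOf x = p) (hiso : Cfsg.IsIsolated x) (hnz : ¬ Cfsg.InZStar p x) (hmin : ∀ (H : Subgroup G) (hxH : x ∈ H), H ≠ ⊤ → Cfsg.InZStar p (⟨x, hxH⟩ : ↥H)) (hquot : ∀ (N : Subgroup G) [N.Normal], N ≠ ⊥ → Cfsg.InZStar p (QuotientGroup.mk x : G ⧸ N)) (q : ℕ) [Fact q.Prime] : (∀ Q : Subgroup G, IsPGroup q ↥Q → x ∈ Subgroup.normalizer (Q : Set G) → (∀ R : Subgroup G, IsPGroup q ↥R → x ∈ Subgroup.normalizer (R : Set G) → Q ≤ R → R = Q) → Q = ⊥ ∨ ∃ S : Sylow q G, (S : Subgroup G) = Q) ∧ (∀ S₁ S₂ : Sylow q G, x ∈ Subgroup.normalizer ((S₁ : Subgroup G) : Set G) → x ∈ Subgroup.normalizer ((S₂ : Subgroup G) : Set G) → ∃ c ∈ Subgroup.centralizer ({x} : Set G), (S₁ : Subgroup G).map (MulAut.conj c).toMonoidHom = (S₂ : Subgroup G)) := by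
  have h : IsMinZStarCE p x := ⟨hx, hiso, hnz, hmin, hquot⟩
  have hp : p.Prime := Fact.out
  have hq : q.Prime := Fact.out
  have hxp : IsPGroup p (Subgroup.zpowers x) := by
    apply IsPGroup.of_card (n := 1)
    rw [Nat.card_zpowers, hx, pow_one]
  refine ⟨?_, ?_⟩
  · intro Q hQ hxQ hmax
    by_cases hQb : Q = ⊥
    · exact Or.inl hQb
    right
    by_cases hqp : q = p
    · subst hqp
      have hR : IsPGroup q (Q ⊔ Subgroup.zpowers x : Subgroup G) :=
        hQ.to_sup_of_normal_left' hxp (by rw [Subgroup.zpowers_le]; exact hxQ)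
      obtain ⟨P, hP⟩ := hR.exists_le_sylow
      refine ⟨P, ?_⟩
      apply hmax _ P.2 _ (le_sup_left.trans hP)
      exact Subgroup.le_normalizer (hP (Subgroup.mem_sup_right (Subgroup.mem_zpowers x)))
    · have hHne : Subgroup.normalizer (Q : Set G) ≠ ⊤ := by
        intro htop
        apply hQb
        have hQn : Q.Normal := Subgroup.normalizer_eq_top_iff.mp htop
        have := Cfsg.Agent.Lib.Helper1.le_pCore hQn hQ
        rwa [h.pCore_eq_bot' q, le_bot_iff] at this
      have h1 := hmin (Subgroup.normalizer (Q : Set G)) hxQ hHne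
      have hKH : (pPrimeCore p ↥(Subgroup.normalizer (Q : Set G))).map
          (Subgroup.normalizer (Q : Set G)).subtype ≤ Subgroup.normalizer (Q : Set G) :=
        Subgroup.map_subtype_le _
      have hKn : Subgroup.normalizer (Q : Set G) ≤ Subgroup.normalizer
          (((pPrimeCore p ↥(Subgroup.normalizer (Q : Set G))).map
          (Subgroup.normalizer (Q : Set G)).subtype : Subgroup G) : Set G) :=
        IsMinZStarCE.le_normalizer_map_subtype _
      have hKp : (Nat.card ((pPrimeCore p ↥(Subgroup.normalizer (Q : Set G))).map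
          (Subgroup.normalizer (Q : Set G)).subtype)).Coprime p := by
        rw [Subgroup.card_map_of_injective (Subgroup.subtype_injective _)]
        exact pPrimeCore_coprime p
      have hc : ∀ g ∈ Subgroup.normalizer (Q : Set G), g * x * g⁻¹ * x⁻¹ ∈
          (pPrimeCore p ↥(Subgroup.normalizer (Q : Set G))).map
          (Subgroup.normalizer (Q : Set G)).subtype := fun g hg => ⟨_, h1 ⟨g, hg⟩, rfl⟩
      obtain ⟨T, hTH, hTcard, hxT⟩ := exists_invariant_qpart hqp hx hxQ hKH hKn hKp hc
      have hTq : IsPGroup q T := IsPGroup.of_card hTcard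
      have hQT : Q ≤ T := by
        have h2 : IsPGroup q (Q ⊔ T : Subgroup G) := hQ.to_sup_of_normal_left' hTq hTH
        have h3 : Q ⊔ T ≤ Subgroup.normalizer (Q : Set G) := sup_le Subgroup.le_normalizer hTH
        have h4 := card_dvd_qpart h2 h3
        rw [← hTcard] at h4
        have h5 : T = Q ⊔ T :=
          Subgroup.eq_of_le_of_card_ge le_sup_right (Nat.le_of_dvd Nat.card_pos h4)
        rw [h5]
        exact le_sup_left
      have hTQ : T = Q := hmax T hTq hxT hQT
      obtain ⟨S, hS⟩ := hQ.exists_le_sylow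
      refine ⟨S, ?_⟩
      by_contra hne
      have hlt : Q < (S : Subgroup G) := lt_of_le_of_ne hS (Ne.symm hne)
      obtain ⟨n, hnS, hnN, hnQ⟩ := pgroup_normalizer_gt S.2 hlt
      have h6 : IsPGroup q (Q ⊔ Subgroup.zpowers n : Subgroup G) :=
        S.2.to_le (sup_le hS (by rw [Subgroup.zpowers_le]; exact hnS))
      have h7 : Q ⊔ Subgroup.zpowers n ≤ Subgroup.normalizer (Q : Set G) :=
        sup_le Subgroup.le_normalizer (by rw [Subgroup.zpowers_le]; exact hnN)
      have h8 := card_dvd_qpart h6 h7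
      rw [← hTcard, hTQ] at h8
      have h9 : Q = Q ⊔ Subgroup.zpowers n :=
        Subgroup.eq_of_le_of_card_ge le_sup_left (Nat.le_of_dvd Nat.card_pos h8)
      apply hnQ
      rw [h9]
      exact Subgroup.mem_sup_right (Subgroup.mem_zpowers n)
  · intro S₁ S₂ h1 h2
    obtain ⟨g, hg⟩ := MulAction.exists_smul_eq G S₁ S₂
    have hg' : MulAut.conj g • (S₁ : Subgroup G) = (S₂ : Subgroup G) := by
      rw [← hg, Sylow.coe_subgroup_smul]
    have h3 : g⁻¹ * x * g⁻¹⁻¹ ∈ Subgroup.normalizer ((S₁ : Subgroup G) : Set G) := by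
      rw [← hg', Cfsg.Agent.Lib.Helper20.smul_normalizer_eq,
        Subgroup.mem_pointwise_smul_iff_inv_smul_mem] at h2
      simpa [MulAut.smul_def, MulAut.conj_inv_apply] using h2
    obtain ⟨n, hn, hnx⟩ := isolated_conj_in_subgroup (p := p) ⟨1, by rw [hx, pow_one]⟩ hiso g⁻¹ h1 h3
    refine ⟨g * n, ?_, ?_⟩
    · rw [Subgroup.mem_centralizer_singleton_iff]
      have := congrArg (fun w => g * w * n) hnx
      simp only [mul_assoc, inv_inv, inv_mul_cancel, mul_one, mul_inv_cancel_left] at this
      rw [mul_assoc]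
      exact this
    · rw [← hg']
      have hcomp : (MulAut.conj (g * n)).toMonoidHom =
          (MulAut.conj g).toMonoidHom.comp (MulAut.conj n).toMonoidHom := by
        ext y
        simp [mul_assoc]
      rw [hcomp, ← Subgroup.map_map, map_conj_eq_of_mem_normalizer hn]
      rfl

end Cfsg.Agent.S2975
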