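import Cfsg.Statements.S2998
import Cfsg.Agent.Lib.Helper18.Basic

set_option autoImplicit false
open Cfsg

namespace Cfsg.Agent.S2998

open Subgroup in
theorem part1 {G : Type*} [Group G] [Finite G] {p : ℕ} [Fact p.Prime] (P : Sylow p G) (x : G)
    (hxP : x ∈ (P : Subgroup G))
    (hlc : ∀ R : Subgroup G, R ≤ (P : Subgroup G) → R ≠ ⊥ →
      Subgroup.normalizer (R : Set G) ≤ Subgroup.centralizer ({x} : Set G)) :
    (P : Subgroup G) ≤ Subgroup.centralizer ({x} : Set G) := by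
  by_cases hP : (P : Subgroup G) = ⊥
  · have hx1 : x = 1 := by
      rw [hP] at hxP; exact Subgroup.mem_bot.mp hxP
    subst hx1
    intro y _
    rw [Subgroup.mem_centralizer_singleton_iff]; simp
  · exact Subgroup.le_normalizer.trans (hlc P le_rfl hP)

open Subgroup MulAction in
theorem part2 {G : Type*} [Group G] [Finite G] {p : ℕ} [Fact p.Prime] (P : Sylow p G) (x : G)
    (hxP : x ∈ (P : Subgroup G))
    (hlc : ∀ R : Subgroup G, R ≤ (P : Subgroup G) → R ≠ ⊥ →
      Subgroup.normalizer (R : Set G) ≤ Subgroup.centralizer ({x} : Set G)) :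
    ∀ g : G, g * x * g⁻¹ ∈ (P : Subgroup G) → g * x * g⁻¹ = x := by
  intro g hy
  have h1 := part1 P x hxP hlc
  by_cases hx1 : x = 1
  · subst hx1; simp
  set y := g * x * g⁻¹ with hy_def
  have hy1 : y ≠ 1 := by
    intro h
    apply hx1
    have : x = g⁻¹ * y * g := by rw [hy_def]; group
    rw [this, h]; group
  -- C(y) ≤ C(x)
  have hzy : Subgroup.zpowers y ≤ (P : Subgroup G) := by
    rw [Subgroup.zpowers_le]; exact hy
  have hzy1 : Subgroup.zpowers y ≠ ⊥ := by
    rw [Ne, Subgroup.zpowers_eq_bot]; exact hy1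
  have hCyx : Subgroup.centralizer ({y} : Set G) ≤ Subgroup.centralizer ({x} : Set G) := by
    refine le_trans ?_ (hlc _ hzy hzy1)
    intro c hc
    rw [Subgroup.mem_centralizer_singleton_iff] at hc
    rw [Subgroup.mem_normalizer_iff]
    intro h
    have hcomm : ∀ k : ℤ, c * y ^ k * c⁻¹ = y ^ k := by
      intro k
      have : Commute c (y ^ k) := (Commute.zpow_right hc k)
      rw [this.eq]; group
    constructor
    · rintro ⟨k, rfl⟩
      exact ⟨k, (hcomm k).symm⟩
    · rintro ⟨k, hk⟩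
      refine ⟨k, ?_⟩
      have hk' : y ^ k = c * h * c⁻¹ := hk
      show y ^ k = h
      calc y ^ k = c⁻¹ * (c * y ^ k * c⁻¹) * c := by group
        _ = c⁻¹ * y ^ k * c := by rw [hcomm k]
        _ = c⁻¹ * (c * h * c⁻¹) * c := by rw [hk']
        _ = h := by group
  -- C(y) = conj g C(x)
  have hCy : Subgroup.centralizer ({y} : Set G) =
      (Subgroup.centralizer ({x} : Set G)).map (MulAut.conj g).toMonoidHom := by
    ext c
    rw [Subgroup.mem_centralizer_singleton_iff, Subgroup.mem_map]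
    constructor
    · intro hc
      refine ⟨g⁻¹ * c * g, ?_, by simp [MulAut.conj_apply, mul_assoc]⟩
      rw [Subgroup.mem_centralizer_singleton_iff]
      have : x = g⁻¹ * y * g := by rw [hy_def]; group
      rw [this]
      calc g⁻¹ * c * g * (g⁻¹ * y * g) = g⁻¹ * (c * y) * g := by group
        _ = g⁻¹ * (y * c) * g := by rw [hc]
        _ = g⁻¹ * y * g * (g⁻¹ * c * g) := by group
    · rintro ⟨d, hd, rfl⟩
      rw [Subgroup.mem_centralizer_singleton_iff] at hd
      simp only [MulEquiv.coe_toMonoidHom, MulAut.conj_apply]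
      rw [hy_def]
      calc g * d * g⁻¹ * (g * x * g⁻¹) = g * (d * x) * g⁻¹ := by group
        _ = g * (x * d) * g⁻¹ := by rw [hd]
        _ = g * x * g⁻¹ * (g * d * g⁻¹) := by group
  have hcard : Nat.card (Subgroup.centralizer ({x} : Set G)) =
      Nat.card (Subgroup.centralizer ({y} : Set G)) := by
    rw [hCy]
    exact (Subgroup.card_map_of_injective (MulAut.conj g).injective).symm
  have hCeq : Subgroup.centralizer ({y} : Set G) = Subgroup.centralizer ({x} : Set G) :=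
    Subgroup.eq_of_le_of_card_ge hCyx hcard.le
  -- now both P and g • P are in C(x)
  have h2 : ↑(g • P) ≤ Subgroup.centralizer ({x} : Set G) := by
    rw [← hCeq, hCy]
    intro z hz
    rw [Sylow.coe_subgroup_smul] at hz
    obtain ⟨w, hw, rfl⟩ := hz
    exact ⟨w, h1 hw, rfl⟩
  obtain ⟨h, hh⟩ :=
    exists_smul_eq (Subgroup.centralizer ({x} : Set G)) ((g • P).subtype h2) (P.subtype h1)
  simp_rw [Sylow.smul_subtype, Subgroup.smul_def, smul_smul] at hh
  have hn : (↑h * g) ∈ Subgroup.normalizer ((P : Subgroup G) : Set G) :=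
    Sylow.smul_eq_iff_mem_normalizer.mp (Sylow.subtype_injective hh)
  have hP : (P : Subgroup G) ≠ ⊥ := by
    intro hb; rw [hb] at hxP; exact hx1 (Subgroup.mem_bot.mp hxP)
  have hn' := hlc P le_rfl hP hn
  have hg : g ∈ Subgroup.centralizer ({x} : Set G) := by
    have : g = (↑h)⁻¹ * (↑h * g) := by group
    rw [this]
    exact Subgroup.mul_mem _ (Subgroup.inv_mem _ h.2) hn'
  rw [Subgroup.mem_centralizer_singleton_iff] at hg
  rw [hy_def, hg]; group


open Subgroup in
theorem part3 {G : Type*} [Group G] [Finite G] {p : ℕ} [Fact p.Prime] (P : Sylow p G) (x : G)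
    (hlc : ∀ R : Subgroup G, R ≤ (P : Subgroup G) → R ≠ ⊥ →
      Subgroup.normalizer (R : Set G) ≤ Subgroup.centralizer ({x} : Set G))
    (N : Subgroup G) [N.Normal] (R : Subgroup (G ⧸ N))
    (hR : R ≤ (P : Subgroup G).map (QuotientGroup.mk' N)) (hR1 : R ≠ ⊥) :
    Subgroup.normalizer (R : Set (G ⧸ N)) ≤
      Subgroup.centralizer ({(QuotientGroup.mk x : G ⧸ N)} : Set (G ⧸ N)) := by
  intro gbar hg
  obtain ⟨g, rfl⟩ := QuotientGroup.mk_surjective gbar
  set π := QuotientGroup.mk' N with hπ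
  set M := R.comap π with hM
  set R₀ := (P : Subgroup G) ⊓ M with hR₀
  have hNM : N ≤ M := by
    intro n hn
    rw [hM, Subgroup.mem_comap]
    have : π n = 1 := by rw [hπ]; simpa using hn
    rw [this]; exact R.one_mem
  have hR₀map : R₀.map π = R := by
    apply le_antisymm
    · rintro _ ⟨r, hr, rfl⟩
      exact hr.2
    · intro r hr
      obtain ⟨u, hu, rfl⟩ := hR hr
      exact ⟨u, ⟨hu, hr⟩, rfl⟩
  have hR₀ne : R₀ ≠ ⊥ := by
    intro h
    apply hR1
    rw [← hR₀map, h, Subgroup.map_bot]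
  have hgM : ∀ m, m ∈ M → g * m * g⁻¹ ∈ M := by
    intro m hm
    rw [hM, Subgroup.mem_comap] at hm ⊢
    have := (Subgroup.mem_normalizer_iff.mp hg (π m)).mp hm
    simpa [hπ] using this
  have hMPN : M ≤ (P : Subgroup G) ⊔ N := by
    intro m hm
    obtain ⟨u, hu, hum⟩ := hR hm
    have : u⁻¹ * m ∈ N := by
      rw [← QuotientGroup.eq]
      exact hum
    have e : m = u * (u⁻¹ * m) := by group
    rw [e]
    exact Subgroup.mul_mem_sup hu this
  set R₁ := R₀.map (MulAut.conj g).toMonoidHom with hR₁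
  have hR₁M : R₁ ≤ M := by
    rintro _ ⟨r, hr, rfl⟩
    exact hgM r hr.2
  have hR₀p : IsPGroup p R₀ := P.2.to_le inf_le_left
  have hR₁p : IsPGroup p R₁ := hR₀p.map _
  obtain ⟨k, hk, hkP⟩ := Cfsg.Agent.Lib.Helper18.exists_conj_le_sylow_of_le P ((P : Subgroup G) ⊔ N) le_sup_left
    R₁ hR₁p (hR₁M.trans hMPN)
  obtain ⟨u, hu, n, hn, rfl⟩ := Subgroup.mem_sup_of_normal_right.mp hk
  -- n * g normalizes R₀
  have hngR₀ : ∀ r ∈ R₀, (n * g) * r * (n * g)⁻¹ ∈ R₀ := by
    intro r hr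
    constructor
    · have h1 : (u * n) * (g * r * g⁻¹) * (u * n)⁻¹ ∈ (P : Subgroup G) :=
        hkP ⟨g * r * g⁻¹, ⟨r, hr, rfl⟩, rfl⟩
      have h2 : (n * g) * r * (n * g)⁻¹ = u⁻¹ * ((u * n) * (g * r * g⁻¹) * (u * n)⁻¹) * u := by
        group
      rw [h2]
      exact Subgroup.mul_mem _ (Subgroup.mul_mem _ (Subgroup.inv_mem _ hu) h1) hu
    · have h1 : g * r * g⁻¹ ∈ M := hgM r hr.2
      have h2 : (n * g) * r * (n * g)⁻¹ = n * (g * r * g⁻¹) * n⁻¹ := by group
      rw [h2]
      exact Subgroup.mul_mem _ (Subgroup.mul_mem _ (hNM hn) h1) (Subgroup.inv_mem _ (hNM hn))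
  have hngN : n * g ∈ Subgroup.normalizer (R₀ : Set G) := by
    have hle : R₀.map (MulAut.conj (n * g)).toMonoidHom ≤ R₀ := by
      rintro _ ⟨r, hr, rfl⟩
      exact hngR₀ r hr
    have hcard : Nat.card R₀ ≤ Nat.card (R₀.map (MulAut.conj (n * g)).toMonoidHom) :=
      (Subgroup.card_map_of_injective (MulAut.conj (n * g)).injective).ge
    have heq := Subgroup.eq_of_le_of_card_ge hle hcard
    rw [Subgroup.mem_normalizer_iff_map_conj_eq]
    exact heq
  have hc := hlc R₀ inf_le_left hR₀ne hngN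
  rw [Subgroup.mem_centralizer_singleton_iff] at hc ⊢
  have hπn : (QuotientGroup.mk n : G ⧸ N) = 1 := by simpa using hn
  have : (QuotientGroup.mk (n * g * x) : G ⧸ N) = QuotientGroup.mk (x * (n * g)) := by rw [hc]
  simpa [QuotientGroup.mk_mul, hπn] using this

theorem result {G : Type*} [Group G] [Finite G] {p : ℕ} [Fact p.Prime] (P : Sylow p G) (x : G) (hxP : x ∈ (P : Subgroup G)) (hlc : ∀ R : Subgroup G, R ≤ (P : Subgroup G) → R ≠ ⊥ → Subgroup.normalizer (R : Set G) ≤ Subgroup.centralizer ({x} : Set G)) : (P : Subgroup G) ≤ Subgroup.centralizer ({x} : Set G) ∧ (∀ g : G, g * x * g⁻¹ ∈ (P : Subgroup G) → g * x * g⁻¹ = x) ∧ ∀ (N : Subgroup G) [N.Normal], ∀ R : Subgroup (G ⧸ N), R ≤ (P : Subgroup G).map (QuotientGroup.mk' N) → R ≠ ⊥ → Subgroup.normalizer (R : Set (G ⧸ N)) ≤ Subgroup.centralizer ({(QuotientGroup.mk x : G ⧸ N)} : Set (G ⧸ N)) := by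
  refine ⟨part1 P x hxP hlc, part2 P x hxP hlc, ?_⟩
  intro N _ R hR hR1
  exact part3 P x hlc N R hR hR1

end Cfsg.Agent.S2998
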