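import Cfsg.Statements.S3003
import Cfsg.Agent.Lib.Helper12.Generation
import Cfsg.Agent.Lib.Helper1.Frattini

set_option autoImplicit false
open Cfsg

namespace Cfsg.Agent.S3003

open Subgroup

universe u

variable {G : Type u} [Group G]

/-- A `p`-group meets a `p'`-group trivially. -/
theorem eq_one_of_mem_pgroup_of_mem_coprime [Finite G] {p : ℕ} [hp : Fact p.Prime]
    (Q R : Subgroup G) (hQp : IsPGroup p ↥Q) (hR : (Nat.card ↥R).Coprime p) {x : G}
    (hxQ : x ∈ Q) (hxR : x ∈ R) : x = 1 := by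
  obtain ⟨k, hk⟩ := hQp ⟨x, hxQ⟩
  have h1 : x ^ (p ^ k) = 1 := by simpa using congrArg Subtype.val hk
  have h2 : x ^ Nat.card R = 1 := by
    have h0 : (⟨x, hxR⟩ : R) ^ Nat.card R = 1 := pow_card_eq_one'
    have h0' := congrArg Subtype.val h0
    rwa [Subgroup.coe_pow, Subgroup.coe_one] at h0'
  have h3 : orderOf x ∣ Nat.gcd (p ^ k) (Nat.card R) :=
    Nat.dvd_gcd (orderOf_dvd_of_pow_eq_one h1) (orderOf_dvd_of_pow_eq_one h2)
  have hcop : (p ^ k).Coprime (Nat.card R) := Nat.Coprime.pow_left k hR.symm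
  rw [hcop.gcd_eq_one, Nat.dvd_one, orderOf_eq_one_iff] at h3
  exact h3

/-- Core: for `1 ≠ y ∈ Z(Q)`, `Q` large, `R` a `p'`-group normalized by `Q`: `C_R(y) = 1`. -/
theorem inf_centralizer_singleton_eq_bot [Finite G] {p : ℕ} [hp : Fact p.Prime]
    (Q : Subgroup G) (hQp : IsPGroup p ↥Q) (hlarge : Cfsg.IsLarge Q)
    (R : Subgroup G) (hR : (Nat.card ↥R).Coprime p) (hQR : Q ≤ Subgroup.normalizer (R : Set G))
    (y : G) (hy1 : y ≠ 1) (hy : y ∈ Q ⊓ Subgroup.centralizer (Q : Set G)) :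
    R ⊓ Subgroup.centralizer ({y} : Set G) = ⊥ := by
  obtain ⟨hyQ, hyC⟩ := Subgroup.mem_inf.mp hy
  have hyq : ∀ q ∈ Q, q * y = y * q := fun q hq => Subgroup.mem_centralizer_iff.mp hyC q hq
  set D : Subgroup G := R ⊓ Subgroup.centralizer ({y} : Set G) with hDdef
  -- (1) `D` normalizes `Q`
  have hD1 : D ≤ Subgroup.normalizer (Q : Set G) := by
    have hz : Subgroup.zpowers y ≤ Subgroup.centralizer (Q : Set G) := Subgroup.zpowers_le.mpr hyC
    have hz1 : Subgroup.zpowers y ≠ ⊥ := by simpa using hy1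
    refine le_trans ?_ (hlarge.2 (Subgroup.zpowers y) hz hz1)
    intro d hd
    have hdy : d * y = y * d := by
      have := (Subgroup.mem_inf.mp hd).2
      rwa [Subgroup.mem_centralizer_singleton_iff] at this
    apply Subgroup.mem_normalizer_fintype
    intro x hx
    obtain ⟨k, rfl⟩ := Subgroup.mem_zpowers_iff.mp hx
    have : d * y ^ k * d⁻¹ = y ^ k := by
      have hc : Commute d (y ^ k) := (show Commute d y from hdy).zpow_right k
      rw [hc.eq, mul_inv_cancel_right]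
    show d * y ^ k * d⁻¹ ∈ Subgroup.zpowers y
    rw [this]
    exact Subgroup.zpow_mem_zpowers y k
  -- (2) `Q` normalizes `D`
  have hD2 : ∀ q ∈ Q, ∀ d ∈ D, q * d * q⁻¹ ∈ D := by
    intro q hq d hd
    obtain ⟨hdR, hdy⟩ := Subgroup.mem_inf.mp hd
    rw [Subgroup.mem_centralizer_singleton_iff] at hdy
    refine Subgroup.mem_inf.mpr ⟨?_, ?_⟩
    · exact (Subgroup.mem_normalizer_iff.mp (hQR hq) d).mp hdR
    · rw [Subgroup.mem_centralizer_singleton_iff]
      have h1 : q⁻¹ * y = y * q⁻¹ := by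
        have := hyq q hq
        calc q⁻¹ * y = q⁻¹ * (y * q) * q⁻¹ := by group
          _ = q⁻¹ * (q * y) * q⁻¹ := by rw [this]
          _ = y * q⁻¹ := by group
      calc q * d * q⁻¹ * y = q * d * (q⁻¹ * y) := by group
        _ = q * d * (y * q⁻¹) := by rw [h1]
        _ = q * (d * y) * q⁻¹ := by group
        _ = q * (y * d) * q⁻¹ := by rw [hdy]
        _ = (q * y) * d * q⁻¹ := by group
        _ = (y * q) * d * q⁻¹ := by rw [hyq q hq]
        _ = y * (q * d * q⁻¹) := by group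
  -- (3) `D` centralizes `Q`
  have hD3 : D ≤ Subgroup.centralizer (Q : Set G) := by
    intro d hd
    rw [Subgroup.mem_centralizer_iff]
    intro q hq
    have hc1 : q * d * q⁻¹ * d⁻¹ ∈ R :=
      Subgroup.mul_mem _ (Subgroup.mem_inf.mp (hD2 q hq d hd)).1
        (Subgroup.inv_mem _ (Subgroup.mem_inf.mp hd).1)
    have hc2 : q * d * q⁻¹ * d⁻¹ ∈ Q := by
      have h1 : d * q⁻¹ * d⁻¹ ∈ Q :=
        (Subgroup.mem_normalizer_iff.mp (hD1 hd) q⁻¹).mp (Subgroup.inv_mem _ hq)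
      have : q * d * q⁻¹ * d⁻¹ = q * (d * q⁻¹ * d⁻¹) := by group
      rw [this]
      exact Subgroup.mul_mem _ hq h1
    have h1 := eq_one_of_mem_pgroup_of_mem_coprime Q R hQp hR hc2 hc1
    calc q * d = (q * d * q⁻¹ * d⁻¹) * (d * q) := by group
      _ = d * q := by rw [h1, one_mul]
  rw [eq_bot_iff]
  intro d hd
  rw [Subgroup.mem_bot]
  exact eq_one_of_mem_pgroup_of_mem_coprime Q R hQp hR (hlarge.1 (hD3 hd)) (Subgroup.mem_inf.mp hd).1

/-- Part 1. -/
theorem part_one [Finite G] {p : ℕ} [hp : Fact p.Prime]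
    (Q : Subgroup G) (hQp : IsPGroup p ↥Q) (hlarge : Cfsg.IsLarge Q) (G₁ : Subgroup G)
    (hQG : Q ≤ G₁) (R : Subgroup G) (hR : (Nat.card ↥R).Coprime p)
    (hGR : G₁ ≤ Subgroup.normalizer (R : Set G)) (U : Subgroup G)
    (h : ∃ x ∈ U, x ≠ 1 ∧ ∃ g ∈ G₁, g * x * g⁻¹ ∈ Q ⊓ Subgroup.centralizer (Q : Set G)) :
    R ⊓ Subgroup.centralizer (U : Set G) = ⊥ := by
  obtain ⟨x, hxU, hx1, g, hg, hy⟩ := h
  have hy1 : g * x * g⁻¹ ≠ 1 := by
    intro h0
    apply hx1
    have : x = g⁻¹ * (g * x * g⁻¹) * g := by group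
    rw [this, h0]; group
  have hcore := inf_centralizer_singleton_eq_bot Q hQp hlarge R hR (hQG.trans hGR) _ hy1 hy
  rw [eq_bot_iff]
  intro d hd
  obtain ⟨hdR, hdU⟩ := Subgroup.mem_inf.mp hd
  have hdx : x * d = d * x := Subgroup.mem_centralizer_iff.mp hdU x hxU
  have h1 : g * d * g⁻¹ ∈ R ⊓ Subgroup.centralizer ({g * x * g⁻¹} : Set G) := by
    refine Subgroup.mem_inf.mpr ⟨?_, ?_⟩
    · exact (Subgroup.mem_normalizer_iff.mp (hGR hg) d).mp hdR
    · rw [Subgroup.mem_centralizer_singleton_iff]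
      calc g * d * g⁻¹ * (g * x * g⁻¹) = g * (d * x) * g⁻¹ := by group
        _ = g * (x * d) * g⁻¹ := by rw [hdx]
        _ = g * x * g⁻¹ * (g * d * g⁻¹) := by group
  rw [hcore, Subgroup.mem_bot] at h1
  rw [Subgroup.mem_bot]
  have : d = g⁻¹ * (g * d * g⁻¹) * g := by group
  rw [this, h1]; group

/-- If Q is a large p-subgroup, Q ≤ G₁ normalizes a p'-subgroup R, and a p-subgroup U ≤ G₁ has a nontrivial element G₁-conjugate into Z(Q), then C_R(U) = 1; if every maximal subgroup of an elementary abelian U of rank ≥ 2 has such an element, R = 1. -/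
theorem result {G : Type*} [Group G] [Finite G] {p : ℕ} [Fact p.Prime] (Q : Subgroup G) (hQp : IsPGroup p ↥Q) (hlarge : Cfsg.IsLarge Q) (G₁ : Subgroup G) (hQG : Q ≤ G₁) (R : Subgroup G) (hR : (Nat.card ↥R).Coprime p) (hGR : G₁ ≤ Subgroup.normalizer (R : Set G)) (U : Subgroup G) (hUG : U ≤ G₁) (hUp : IsPGroup p ↥U) : ((∃ x ∈ U, x ≠ 1 ∧ ∃ g ∈ G₁, g * x * g⁻¹ ∈ Q ⊓ Subgroup.centralizer (Q : Set G)) → R ⊓ Subgroup.centralizer (U : Set G) = ⊥) ∧ (Cfsg.IsElementaryAbelian p U → p ^ 2 ≤ Nat.card ↥U → (∀ U₀ : Subgroup G, U₀ ≤ U → IsCoatom (U₀.subgroupOf U) → ∃ x ∈ U₀, x ≠ 1 ∧ ∃ g ∈ G₁, g * x * g⁻¹ ∈ Q ⊓ Subgroup.centralizer (Q : Set G)) → R = ⊥) := by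
  have hpp : p.Prime := Fact.out
  refine ⟨part_one Q hQp hlarge G₁ hQG R hR hGR U, ?_⟩
  intro hUe hUcard hmax
  have hpR : ¬ p ∣ Nat.card ↥R := fun h => (Nat.Prime.coprime_iff_not_dvd hpp).mp hR.symm h
  have hgen := Cfsg.Agent.Lib.Helper12.le_iSup_relIndex_le_of_isElementaryAbelian hUe
    (hUG.trans hGR) hpR
  rw [eq_bot_iff]
  refine hgen.trans (iSup_le ?_)
  rintro ⟨D, hDU, hDidx⟩
  show R ⊓ Subgroup.centralizer (D : Set G) ≤ ⊥
  -- a coatom of `U` contained in ... : either `D` itself, or any coatom when `D = U`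
  have key : ∃ U₀ : Subgroup G, U₀ ≤ D ∧ U₀ ≤ U ∧ IsCoatom (U₀.subgroupOf U) := by
    obtain ⟨k, hk⟩ := IsPGroup.iff_card.mp hUp
    have hdvd : D.relIndex U ∣ p ^ k := by
      rw [← hk]; exact Subgroup.relIndex_dvd_card D U
    obtain ⟨j, -, hj⟩ := (Nat.dvd_prime_pow hpp).mp hdvd
    have hj1 : j ≤ 1 := by
      by_contra hlt
      have h2 : 2 ≤ j := by omega
      have : p ^ 2 ≤ p ^ j := Nat.pow_le_pow_right hpp.pos h2
      rw [← hj] at this
      have h3 : p < p ^ 2 := by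
        have := hpp.one_lt
        nlinarith
      omega
    interval_cases j
    · -- `D = U`
      rw [pow_zero] at hj
      have hUD : U ≤ D := Subgroup.relIndex_eq_one.mp hj
      haveI : Nontrivial ↥U := by
        rw [← Finite.one_lt_card_iff_nontrivial]
        have := hpp.one_lt
        nlinarith
      obtain ⟨M, hM, -⟩ := (eq_top_or_exists_le_coatom (⊥ : Subgroup ↥U)).resolve_left bot_ne_top
      refine ⟨M.map U.subtype, ?_, ?_, ?_⟩
      · exact (Subgroup.map_subtype_le M).trans hUD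
      · exact Subgroup.map_subtype_le M
      · have : (M.map U.subtype).subgroupOf U = M := by
          rw [Subgroup.subgroupOf, Subgroup.comap_map_eq_self_of_injective U.subtype_injective]
        rw [this]; exact hM
    · -- index `p`
      rw [pow_one] at hj
      refine ⟨D, le_rfl, hDU, ?_⟩
      apply Cfsg.Agent.Lib.Helper1.isCoatom_of_index_prime
      show (D.relIndex U).Prime
      rw [hj]; exact hpp
  obtain ⟨U₀, hU₀D, hU₀U, hU₀c⟩ := key
  have h1 := part_one Q hQp hlarge G₁ hQG R hR hGR U₀ (hmax U₀ hU₀U hU₀c)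
  rw [← h1]
  exact inf_le_inf_left R (Subgroup.centralizer_le hU₀D)

end Cfsg.Agent.S3003
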