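import Cfsg.Statements.S3005
import Cfsg.Agent.Lib.Helper18.CentrallyLarge

set_option autoImplicit false
open scoped Pointwise
open Cfsg

namespace Cfsg.Agent.S3005

/-- Let P be a finite p-group; call R ≤ P centrally large if |R|·|Z(R)| is as large as possible among subgroups of P, and measure-largest if |R|·|C_P(R)| is as large as possible. Then: a centrally large Q is measure-largest with C_P(Q) = Z(Q); a measure-largest Q is centrally large if and only if C_P(Q) ≤ Q; if Q and R are centrally large then QR = RQ is a centrally large subgroup; and the subgroups generated by all centrally large subgroups, respectively by all minimal centrally large subgroups, are themselves centrally large. -/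
theorem result {p : ℕ} [Fact p.Prime] (P : Type*) [Group P] [Finite P] (hP : IsPGroup p P) : (∀ Q : Subgroup P, Cfsg.IsCentrallyLarge Q → Cfsg.IsCentralizerLarge Q ∧ Subgroup.centralizer (Q : Set P) = Q ⊓ Subgroup.centralizer (Q : Set P)) ∧ (∀ Q : Subgroup P, Cfsg.IsCentralizerLarge Q → (Cfsg.IsCentrallyLarge Q ↔ Subgroup.centralizer (Q : Set P) ≤ Q)) ∧ (∀ Q R : Subgroup P, Cfsg.IsCentrallyLarge Q → Cfsg.IsCentrallyLarge R → ((Q ⊔ R : Subgroup P) : Set P) = (Q : Set P) * (R : Set P) ∧ Cfsg.IsCentrallyLarge (Q ⊔ R)) ∧ Cfsg.IsCentrallyLarge (Cfsg.centrallyLargeJoin P) ∧ Cfsg.IsCentrallyLarge (Cfsg.minimalCentrallyLargeJoin P) := by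
  have key : ∀ Q : Subgroup P, Cfsg.IsCentrallyLarge Q ↔
      Cfsg.Agent.Lib.Helper18.clm Q = Cfsg.Agent.Lib.Helper18.clmax P := fun Q => Iff.rfl
  have key2 : ∀ Q : Subgroup P, Cfsg.IsCentralizerLarge Q ↔
      Cfsg.Agent.Lib.Helper18.cdm Q = Cfsg.Agent.Lib.Helper18.cdmax P := fun Q => Iff.rfl
  have hsup : ∀ X Y : Subgroup P, Cfsg.IsCentrallyLarge X → Cfsg.IsCentrallyLarge Y →
      Cfsg.IsCentrallyLarge (X ⊔ Y) := fun X Y hX hY =>
    (Cfsg.Agent.Lib.Helper18.clm_sup_of_max X Y hX hY).2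
  refine ⟨?_, ?_, ?_, ?_, ?_⟩
  · intro Q hQ
    obtain ⟨h1, h2⟩ := Cfsg.Agent.Lib.Helper18.cdm_eq_of_clm_eq Q hQ
    exact ⟨h1, (inf_eq_right.mpr h2).symm⟩
  · intro Q hQ
    constructor
    · intro h
      exact (Cfsg.Agent.Lib.Helper18.cdm_eq_of_clm_eq Q h).2
    · intro h
      exact Cfsg.Agent.Lib.Helper18.clm_eq_of_cdm_eq Q hQ h
  · intro Q R hQ hR
    exact Cfsg.Agent.Lib.Helper18.clm_sup_of_max Q R hQ hR
  · apply Cfsg.Agent.Lib.Helper18.sSup_mem_of_sup_closed Cfsg.IsCentrallyLarge hsup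
    · obtain ⟨R, hR⟩ := Cfsg.Agent.Lib.Helper18.exists_clm_eq_clmax (G := P)
      exact ⟨R, hR⟩
    · intro X hX
      exact hX
  · apply Cfsg.Agent.Lib.Helper18.sSup_mem_of_sup_closed Cfsg.IsCentrallyLarge hsup
    · -- a centrally large subgroup of least order is minimal
      have : Nonempty {X : Subgroup P // Cfsg.IsCentrallyLarge X} := by
        obtain ⟨R, hR⟩ := Cfsg.Agent.Lib.Helper18.exists_clm_eq_clmax (G := P)
        exact ⟨⟨R, hR⟩⟩
      obtain ⟨X₀, hX₀⟩ := Finite.exists_min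
        (fun X : {X : Subgroup P // Cfsg.IsCentrallyLarge X} => Nat.card X.1)
      refine ⟨X₀.1, X₀.2, ?_⟩
      intro R' hle hR'
      exact Subgroup.eq_of_le_of_card_ge hle (hX₀ ⟨R', hR'⟩)
    · intro X hX
      exact hX.1

end Cfsg.Agent.S3005
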