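import Cfsg.Statements.S3006
import Mathlib.Tactic.Group
import Cfsg.Agent.Lib.Helper18.CentrallyLarge

set_option autoImplicit false
open scoped Pointwise
open Cfsg

namespace Cfsg.Agent.S3006

/-- Let P be a finite p-group, Q a centrally large subgroup of P (|Q|·|Z(Q)| maximal among subgroups of P) and A an abelian subgroup of P of largest order. Then QA = AQ is a centrally large subgroup of P, C_{QA}(Q ∩ A) = Z(Q)·A, and the subgroup generated by all centrally large subgroups of P contains C_P(Z(J(P))), where J(P) is generated by the abelian subgroups of largest order. -/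
theorem result {p : ℕ} [Fact p.Prime] (P : Type*) [Group P] [Finite P] (hP : IsPGroup p P) (Q A : Subgroup P) (hQ : Cfsg.IsCentrallyLarge Q) (hA : A ∈ Cfsg.maxAbelianSubgroups P) : ((Q ⊔ A : Subgroup P) : Set P) = (Q : Set P) * (A : Set P) ∧ Cfsg.IsCentrallyLarge (Q ⊔ A) ∧ (Q ⊔ A) ⊓ Subgroup.centralizer ((Q ⊓ A : Subgroup P) : Set P) = (Q ⊓ Subgroup.centralizer (Q : Set P)) ⊔ A ∧ (((Q ⊓ Subgroup.centralizer (Q : Set P)) ⊔ A : Subgroup P) : Set P) = ((Q ⊓ Subgroup.centralizer (Q : Set P)) : Set P) * (A : Set P) ∧ Subgroup.centralizer ((Cfsg.thompsonSubgroupA P ⊓ Subgroup.centralizer (Cfsg.thompsonSubgroupA P : Set P) : Subgroup P) : Set P) ≤ Cfsg.centrallyLargeJoin P := by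
  have hQ' : Cfsg.Agent.Lib.Helper18.clm Q = Cfsg.Agent.Lib.Helper18.clmax P := hQ
  obtain ⟨ha, hb, hf⟩ := Cfsg.Agent.Lib.Helper18.clm_sup_maxAbelian Q A hQ' hA
  have hAA := Cfsg.Agent.Lib.Helper18.le_centralizer_of_isMulCommutative A hA.1
  have hfC := Cfsg.Agent.Lib.Helper18.centralizer_le_of_mem_maxAbelian _ hf
  set Z := Q ⊓ Subgroup.centralizer (Q : Set P) with hZ
  set D := Q ⊓ A with hD
  have hZCD : Z ≤ Subgroup.centralizer (D : Set P) :=
    inf_le_right.trans (Subgroup.centralizer_le (by exact_mod_cast (inf_le_left : D ≤ Q)))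
  have hACD : A ≤ Subgroup.centralizer (D : Set P) :=
    hAA.trans (Subgroup.centralizer_le (by exact_mod_cast (inf_le_right : D ≤ A)))
  -- decomposition of elements of (Q ⊔ A) ⊓ C(D)
  have hdecomp : ∀ x ∈ (Q ⊔ A) ⊓ Subgroup.centralizer ((D : Subgroup P) : Set P),
      ∃ q ∈ D ⊔ Z, ∃ a ∈ A, q * a = x := by
    rintro x ⟨hx1, hx2⟩
    have hx1' : x ∈ ((Q ⊔ A : Subgroup P) : Set P) := hx1
    rw [ha] at hx1'
    obtain ⟨q, hq, a, ha', rfl⟩ := hx1'
    refine ⟨q, ?_, a, ha', rfl⟩
    apply hfC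
    rw [Cfsg.Agent.Lib.Helper18.centralizer_sup_eq]
    constructor
    · have : q = (q * a) * a⁻¹ := by group
      rw [this]
      exact Subgroup.mul_mem _ hx2 (Subgroup.inv_mem _ (hACD ha'))
    · have h1 : Q ≤ Subgroup.centralizer (Z : Set P) := by
        rw [Subgroup.le_centralizer_iff]; exact inf_le_right
      exact h1 hq
  have hc : (Q ⊔ A) ⊓ Subgroup.centralizer ((D : Subgroup P) : Set P) = Z ⊔ A := by
    apply le_antisymm
    · intro x hx
      obtain ⟨q, hq, a, ha', rfl⟩ := hdecomp x hx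
      have h1 : D ⊔ Z ≤ Z ⊔ A := sup_le (inf_le_right.trans le_sup_right) le_sup_left
      exact Subgroup.mul_mem _ (h1 hq) (Subgroup.mem_sup_right ha')
    · exact le_inf (sup_le (inf_le_left.trans le_sup_left) le_sup_right) (sup_le hZCD hACD)
  refine ⟨ha, hb, hc, ?_, ?_⟩
  · apply Set.Subset.antisymm
    · intro x hx
      have hx' : x ∈ (Q ⊔ A) ⊓ Subgroup.centralizer ((D : Subgroup P) : Set P) := by
        rw [hc]; exact hx
      obtain ⟨q, hq, a, ha', rfl⟩ := hdecomp x hx'
      have hZD : ((Z ⊔ D : Subgroup P) : Set P) = (Z : Set P) * (D : Set P) :=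
        Subgroup.coe_mul_of_left_le_normalizer_right Z D
          (hZCD.trans (Subgroup.centralizer_le_normalizer _))
      have hq' : q ∈ ((Z ⊔ D : Subgroup P) : Set P) := by
        rw [sup_comm]; exact hq
      rw [hZD] at hq'
      obtain ⟨z, hz, d, hd, rfl⟩ := hq'
      refine ⟨z, hz, d * a, A.mul_mem hd.2 ha', by group⟩
    · rintro _ ⟨z, hz, a, ha', rfl⟩
      exact Subgroup.mul_mem _ (Subgroup.mem_sup_left hz) (Subgroup.mem_sup_right ha')
  · -- part (e)
    have hsup : ∀ X Y : Subgroup P, Cfsg.IsCentrallyLarge X → Cfsg.IsCentrallyLarge Y →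
        Cfsg.IsCentrallyLarge (X ⊔ Y) := fun X Y hX hY =>
      (Cfsg.Agent.Lib.Helper18.clm_sup_of_max X Y hX hY).2
    have hT : Cfsg.IsCentrallyLarge (Cfsg.centrallyLargeJoin P) := by
      apply Cfsg.Agent.Lib.Helper18.sSup_mem_of_sup_closed Cfsg.IsCentrallyLarge hsup
      · obtain ⟨R, hR⟩ := Cfsg.Agent.Lib.Helper18.exists_clm_eq_clmax (G := P)
        exact ⟨R, hR⟩
      · intro X hX
        exact hX
    set T := Cfsg.centrallyLargeJoin P with hTdef
    have hAT : ∀ A' ∈ Cfsg.maxAbelianSubgroups P, A' ≤ T := by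
      intro A' hA'
      have h1 := (Cfsg.Agent.Lib.Helper18.clm_sup_maxAbelian T A' hT hA').2.1
      have h2 : T ⊔ A' ≤ T := le_sSup h1
      exact le_sup_right.trans h2
    have hJT : Cfsg.thompsonSubgroupA P ≤ T := sSup_le hAT
    obtain ⟨hT1, hT2⟩ := Cfsg.Agent.Lib.Helper18.cdm_eq_of_clm_eq T hT
    obtain ⟨-, hT3⟩ := Cfsg.Agent.Lib.Helper18.cdm_centralizer_of_max T hT1
    have hCT : Subgroup.centralizer (T : Set P) ≤
        Cfsg.thompsonSubgroupA P ⊓ Subgroup.centralizer (Cfsg.thompsonSubgroupA P : Set P) := by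
      refine le_inf ?_ (Subgroup.centralizer_le (by exact_mod_cast hJT))
      have h3 : Subgroup.centralizer (T : Set P) ≤ Subgroup.centralizer (A : Set P) :=
        Subgroup.centralizer_le (by exact_mod_cast (hAT A hA))
      exact (h3.trans (Cfsg.Agent.Lib.Helper18.centralizer_le_of_mem_maxAbelian A hA)).trans
        (le_sSup hA)
    calc Subgroup.centralizer ((Cfsg.thompsonSubgroupA P ⊓
            Subgroup.centralizer (Cfsg.thompsonSubgroupA P : Set P) : Subgroup P) : Set P)
        ≤ Subgroup.centralizer ((Subgroup.centralizer (T : Set P) : Subgroup P) : Set P) :=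
          Subgroup.centralizer_le (by exact_mod_cast hCT)
      _ = T := hT3.symm

end Cfsg.Agent.S3006
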