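import Cfsg.Statements.S3007
import Cfsg.Agent.Lib.Helper18.MinimalCL

set_option autoImplicit false
open Cfsg
open Cfsg.Agent.Lib.Helper18

namespace Cfsg.Agent.S3007

/-- Let P be a finite p-group and Q, R minimal centrally large subgroups of P (centrally large: |Q|·|Z(Q)| maximal among subgroups of P; minimal among such under inclusion). Then Q = (Q ∩ R)·Z(Q), the derived subgroups [Q, Q] and [R, R] coincide, |Q| = |R| and |Z(Q)| = |Z(R)|; and if Q is abelian then the minimal centrally large subgroups of P are exactly the abelian subgroups of P of largest order. -/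
theorem result {p : ℕ} [Fact p.Prime] (P : Type*) [Group P] [Finite P] (hP : IsPGroup p P) (Q R : Subgroup P) (hQ : Cfsg.IsMinimalCentrallyLarge Q) (hR : Cfsg.IsMinimalCentrallyLarge R) : (Q ⊓ R) ⊔ (Q ⊓ Subgroup.centralizer (Q : Set P)) = Q ∧ ⁅Q, Q⁆ = ⁅R, R⁆ ∧ Nat.card ↥Q = Nat.card ↥R ∧ Nat.card ↥(Q ⊓ Subgroup.centralizer (Q : Set P)) = Nat.card ↥(R ⊓ Subgroup.centralizer (R : Set P)) ∧ (IsMulCommutative ↥Q → ∀ X : Subgroup P, Cfsg.IsMinimalCentrallyLarge X ↔ X ∈ Cfsg.maxAbelianSubgroups P) := by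
  obtain ⟨hQ1, hQmin⟩ := hQ
  obtain ⟨hR1, hRmin⟩ := hR
  have hQ1' : clm Q = clmax P := hQ1
  have hR1' : clm R = clmax P := hR1
  have hQmin' : ∀ R' : Subgroup P, R' ≤ Q → clm R' = clmax P → R' = Q := hQmin
  have hRmin' : ∀ R' : Subgroup P, R' ≤ R → clm R' = clmax P → R' = R := hRmin
  obtain ⟨a1, a2, a3, a4⟩ := minimalCL_uniform Q R hQ1' hQmin' hR1' hRmin'
  refine ⟨a1, a2, a3, a4, ?_⟩
  intro hQc X
  have hQC : Q ⊓ Subgroup.centralizer (Q : Set P) = Q :=
    inf_eq_left.mpr (le_centralizer_of_isMulCommutative Q hQc)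
  have hf : clmax P = Nat.card Q * Nat.card Q := by
    rw [← hQ1', clm_of_isMulCommutative Q hQc]
  have hBle : ∀ B : Subgroup P, IsMulCommutative B → Nat.card B ≤ Nat.card Q := by
    intro B hB
    have h1 := clm_le_clmax B
    rw [clm_of_isMulCommutative B hB, hf] at h1
    exact Nat.mul_self_le_mul_self_iff.mp h1
  constructor
  · rintro ⟨hX1, hXmin⟩
    have hX1' : clm X = clmax P := hX1
    have hXmin' : ∀ R' : Subgroup P, R' ≤ X → clm R' = clmax P → R' = X := hXmin
    obtain ⟨-, -, b3, b4⟩ := minimalCL_uniform Q X hQ1' hQmin' hX1' hXmin'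
    rw [hQC] at b4
    have hXc : X ⊓ Subgroup.centralizer (X : Set P) = X :=
      Subgroup.eq_of_le_of_card_ge inf_le_left (by rw [← b4, b3])
    have hXcomm : IsMulCommutative X := by
      rw [← Subgroup.le_centralizer_iff_isMulCommutative]
      exact inf_eq_left.mp hXc
    refine ⟨hXcomm, ?_⟩
    intro B hB
    rw [← b3]
    exact hBle B hB
  · rintro ⟨hXc, hXmax⟩
    have h1 : Nat.card X = Nat.card Q := le_antisymm (hBle X hXc) (hXmax Q hQc)
    have hXcl : clm X = clmax P := by
      rw [clm_of_isMulCommutative X hXc, hf, h1]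
    refine ⟨hXcl, ?_⟩
    intro R' hR'X hR'
    have hR'c : IsMulCommutative R' := by
      rw [← Subgroup.le_centralizer_iff_isMulCommutative]
      have hXX := le_centralizer_of_isMulCommutative X hXc
      exact (hR'X.trans hXX).trans (Subgroup.centralizer_le (by exact_mod_cast hR'X))
    have hR'' : clm R' = clmax P := hR'
    rw [clm_of_isMulCommutative R' hR'c, hf, ← h1] at hR''
    have h2 : Nat.card R' = Nat.card X := Nat.mul_self_inj.mp hR''
    exact Subgroup.eq_of_le_of_card_ge hR'X h2.ge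

end Cfsg.Agent.S3007
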