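import Cfsg.Statements.S3008
import Cfsg.Agent.S3006
import Cfsg.Agent.Lib.Lead.CLParts

set_option autoImplicit false
open Cfsg
open scoped Pointwise

namespace Cfsg.Agent.S3008

open Cfsg.Agent.Lib.Helper18 Cfsg.Agent.Lib.Lead.CLParts

/-- Let P be a finite p-group, with J(P) generated by its abelian subgroups of largest order and J̃(P) = C_P(Z(J(P))); call R ≤ P centrally large if |R|·|Z(R)| is as large as possible, and let P_MCL be generated by the minimal centrally large subgroups. Then: for every centrally large Q, Q·J(P) ⊇ J̃(P); some minimal centrally large subgroup of P is normalized by both J(P) and P_MCL; if P = J(P) and d(P)² = |P|·|Z(P)|, where d(P) is the largest order of an abelian subgroup, then every minimal centrally large subgroup of P is abelian; and if every minimal centrally large subgroup is abelian then J̃(P) = J(P). -/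
theorem result {p : ℕ} [Fact p.Prime] (P : Type*) [Group P] [Finite P] (hP : IsPGroup p P) : (∀ Q : Subgroup P, Cfsg.IsCentrallyLarge Q → Subgroup.centralizer ((Cfsg.thompsonSubgroupA P ⊓ Subgroup.centralizer (Cfsg.thompsonSubgroupA P : Set P) : Subgroup P) : Set P) ≤ Q ⊔ Cfsg.thompsonSubgroupA P) ∧ (∃ Q : Subgroup P, Cfsg.IsMinimalCentrallyLarge Q ∧ Cfsg.thompsonSubgroupA P ≤ Subgroup.normalizer (Q : Set P) ∧ Cfsg.minimalCentrallyLargeJoin P ≤ Subgroup.normalizer (Q : Set P)) ∧ (Cfsg.thompsonSubgroupA P = ⊤ → (∀ A ∈ Cfsg.maxAbelianSubgroups P, Nat.card ↥A ^ 2 = Nat.card P * Nat.card ↥(Subgroup.center P)) → ∀ Q : Subgroup P, Cfsg.IsMinimalCentrallyLarge Q → IsMulCommutative ↥Q) ∧ ((∀ Q : Subgroup P, Cfsg.IsMinimalCentrallyLarge Q → IsMulCommutative ↥Q) → Subgroup.centralizer ((Cfsg.thompsonSubgroupA P ⊓ Subgroup.centralizer (Cfsg.thompsonSubgroupA P : Set P) : Subgroup P) : Set P) = Cfsg.thompsonSubgroupA P) := by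
  have hnil : Group.IsNilpotent P := hP.isNilpotent
  have hS6 : ∀ Q A : Subgroup P, clm Q = clmax P → A ∈ Cfsg.maxAbelianSubgroups P →
      (((Q ⊓ Subgroup.centralizer (Q : Set P)) ⊔ A : Subgroup P) : Set P) =
        ((Q ⊓ Subgroup.centralizer (Q : Set P) : Subgroup P) : Set P) * (A : Set P) :=
    fun Q A hQ hA => (Cfsg.Agent.S3006.result P hP Q A hQ hA).2.2.2.1
  refine ⟨?_, ?_, ?_, ?_⟩
  · intro Q hQ
    exact part1 Q hQ
  · obtain ⟨Q, ⟨hQ1, hQ2⟩, hJ, hM⟩ := part2 hnil hS6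
    refine ⟨Q, ⟨hQ1, hQ2⟩, hJ, ?_⟩
    unfold Cfsg.minimalCentrallyLargeJoin
    apply sSup_le
    rintro R ⟨hR1, hR2⟩
    exact hM R hR1 hR2
  · intro hJtop hsq Q hQ
    exact part3 hJtop hsq Q hQ.1 hQ.2
  · intro hall
    exact part4 (fun Q hQ hQmin => hall Q ⟨hQ, hQmin⟩)

end Cfsg.Agent.S3008
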