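-- Statement S3011.
import Cfsg.Statements.S3011
import Cfsg.Agent.S0200

set_option autoImplicit false
open Cfsg

namespace Cfsg.Agent.S3011

private theorem eq_one_of_sq_odd {G : Type*} [Group G] {k : G} (hk : Odd (orderOf k))
    (h2 : k * k = 1) : k = 1 := by
  have h2' : k ^ 2 = 1 := by rw [pow_two]; exact h2
  have hd : orderOf k ∣ 2 := orderOf_dvd_of_pow_eq_one h2'
  have : orderOf k = 1 := by
    have hle : orderOf k ≤ 2 := Nat.le_of_dvd (by norm_num) hd
    obtain ⟨m, hm⟩ := hk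
    omega
  exact orderOf_eq_one_iff.mp this

private theorem triv_of_inv_comm {G : Type*} [Group G] {v k : G} (hk : Odd (orderOf k))
    (hinv : v * k * v⁻¹ = k⁻¹) (hc : v * k = k * v) : k = 1 := by
  have e : k = k⁻¹ := by
    have : v * k * v⁻¹ = k := by rw [hc, mul_inv_cancel_right]
    rw [← hinv]; exact this.symm
  exact eq_one_of_sq_odd hk (mul_eq_one_iff_eq_inv.mpr e)

private theorem comm_of_sq_comm {G : Type*} [Group G] {g k : G} {m : ℕ} (hm : Odd m)
    (hg : g ^ m = 1) (hc : Commute (g ^ 2) k) : Commute g k := by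
  obtain ⟨n, hn⟩ := hm
  have e : (g ^ 2) ^ (n + 1) = g := by
    rw [← pow_mul]
    have : 2 * (n + 1) = m + 1 := by omega
    rw [this, pow_succ, hg, one_mul]
  rw [← e]
  exact hc.pow_left _

private theorem inv_mul_cen {G : Type*} [Group G] {x y g : G} (hx : x * g * x⁻¹ = g⁻¹)
    (hy : y * g = g * y) : (x * y) * g * (x * y)⁻¹ = g⁻¹ := by
  have hy' : y * g * y⁻¹ = g := by rw [hy, mul_inv_cancel_right]
  calc (x * y) * g * (x * y)⁻¹ = x * (y * g * y⁻¹) * x⁻¹ := by group
    _ = g⁻¹ := by rw [hy', hx]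

private theorem cen_mul_inv {G : Type*} [Group G] {x y g : G} (hx : x * g = g * x)
    (hy : y * g * y⁻¹ = g⁻¹) : (x * y) * g * (x * y)⁻¹ = g⁻¹ := by
  have hx' : x * g⁻¹ * x⁻¹ = g⁻¹ := by
    have h1 : Commute x g := hx
    have : x * g⁻¹ = g⁻¹ * x := h1.inv_right.eq
    rw [this, mul_inv_cancel_right]
  calc (x * y) * g * (x * y)⁻¹ = x * (y * g * y⁻¹) * x⁻¹ := by group
    _ = g⁻¹ := by rw [hy, hx']

private theorem conj_prod {G : Type*} [Group G] {w g g' : G} (hw : w * w = 1)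
    (hg : w * g * w⁻¹ = g⁻¹) (hg' : w * g' * w⁻¹ = g'⁻¹) :
    (g⁻¹ * w * g) * (g'⁻¹ * w * g') = g⁻¹ * g⁻¹ * g' * g' := by
  have e1 : w * g = g⁻¹ * w := by rw [← hg]; group
  have e1' : w * g' = g'⁻¹ * w := by rw [← hg']; group
  have e2 : w * g'⁻¹ = g' * w := by
    calc w * g'⁻¹ = g' * (g'⁻¹ * w) * g'⁻¹ := by group
      _ = g' * (w * g') * g'⁻¹ := by rw [e1']
      _ = g' * w := by group
  calc (g⁻¹ * w * g) * (g'⁻¹ * w * g') = g⁻¹ * (w * g) * g'⁻¹ * w * g' := by group
    _ = g⁻¹ * (g⁻¹ * w) * g'⁻¹ * w * g' := by rw [e1]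
    _ = g⁻¹ * g⁻¹ * (w * g'⁻¹) * w * g' := by group
    _ = g⁻¹ * g⁻¹ * (g' * w) * w * g' := by rw [e2]
    _ = g⁻¹ * g⁻¹ * g' * (w * w) * g' := by group
    _ = g⁻¹ * g⁻¹ * g' * g' := by rw [hw, mul_one]

/-- Let G be a finite group and V a nontrivial elementary abelian 2-subgroup of G of order at most 4 such that, whenever an element of V inverts an element h of G of odd order, some nontrivial element of V commutes with h. Then V meets O₂(G) nontrivially. (The case of order at most 4 has a short argument from the Baer–Suzuki theorem.) -/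
theorem result {G : Type*} [Group G] [Finite G] (V : Subgroup G) (hV : Cfsg.IsElementaryAbelian 2 V) (hV1 : V ≠ ⊥) (hS : Cfsg.IsSidkiPair V) (h4 : Nat.card V ≤ 4) : V ⊓ Cfsg.pCore 2 G ≠ ⊥ := by
  classical
  intro hbot
  obtain ⟨hcomm, hexp⟩ := hV
  have : Fact (Nat.Prime 2) := ⟨Nat.prime_two⟩
  have hsq : ∀ x ∈ V, x * x = 1 := fun x hx => by
    have := hexp x hx
    rwa [pow_two] at this
  -- Baer–Suzuki for nonidentity elements of V
  have hBS : ∀ v ∈ V, v ≠ 1 → ∃ h : G, h ≠ 1 ∧ Odd (orderOf h) ∧ v * h * v⁻¹ = h⁻¹ := by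
    intro v hv hv1
    apply Cfsg.Agent.S0200.result v
    · exact orderOf_eq_prime (hexp v hv) hv1
    · intro N hN hN2 hvN
      apply hv1
      have hle : N ≤ Cfsg.pCore 2 G := le_sSup ⟨hN, hN2⟩
      have : v ∈ V ⊓ Cfsg.pCore 2 G := ⟨hv, hle hvN⟩
      rw [hbot] at this
      exact Subgroup.mem_bot.mp this
  obtain ⟨a, haV, ha1⟩ : ∃ a ∈ V, a ≠ 1 := by
    by_contra hcon
    push Not at hcon
    exact hV1 ((Subgroup.eq_bot_iff_forall V).mpr hcon)
  obtain ⟨h, hh1, hhodd, hah⟩ := hBS a haV ha1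
  obtain ⟨b, hbV, hb1, hbh⟩ := hS h a haV hhodd hah
  have hba : b ≠ a := by
    intro e
    rw [e] at hbh
    exact hh1 (triv_of_inv_comm hhodd hah hbh)
  obtain ⟨k, hk1, hkodd, hbk⟩ := hBS b hbV hb1
  -- enumeration of V
  have hainv : a⁻¹ = a := inv_eq_of_mul_eq_one_left (hsq a haV)
  have hab1 : a * b ≠ 1 := by
    intro e
    have : b = a⁻¹ := eq_inv_of_mul_eq_one_right e
    exact hba (this.trans hainv)
  have h1a : (1:G) ≠ a := fun e => ha1 e.symm
  have h1b : (1:G) ≠ b := fun e => hb1 e.symm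
  have h1ab : (1:G) ≠ a * b := fun e => hab1 e.symm
  have hab : a ≠ b := fun e => hba e.symm
  have haab : a ≠ a * b := fun e => hb1 (by simpa using e.symm)
  have hbab : b ≠ a * b := fun e => ha1 (by simpa using e.symm)
  have henum : ∀ x ∈ V, x = 1 ∨ x = a ∨ x = b ∨ x = a * b := by
    have hS4 : ({1, a, b, a * b} : Set G) ⊆ (V : Set G) := by
      intro x hx
      simp only [Set.mem_insert_iff, Set.mem_singleton_iff] at hx
      rcases hx with rfl | rfl | rfl | rfl
      · exact V.one_mem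
      · exact haV
      · exact hbV
      · exact V.mul_mem haV hbV
    have e1 : ({b, a * b} : Set G).ncard = 2 := Set.ncard_pair hbab
    have n2 : a ∉ ({b, a * b} : Set G) := by
      intro hx
      rcases Set.mem_insert_iff.mp hx with e | e
      · exact hab e
      · exact haab (Set.mem_singleton_iff.mp e)
    have e2 : ({a, b, a * b} : Set G).ncard = 3 := by
      rw [Set.ncard_insert_of_notMem n2 (Set.toFinite _), e1]
    have n3 : (1:G) ∉ ({a, b, a * b} : Set G) := by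
      intro hx
      rcases Set.mem_insert_iff.mp hx with e | hx
      · exact h1a e
      · rcases Set.mem_insert_iff.mp hx with e | e
        · exact h1b e
        · exact h1ab (Set.mem_singleton_iff.mp e)
    have hcard : ({1, a, b, a * b} : Set G).ncard = 4 := by
      rw [Set.ncard_insert_of_notMem n3 (Set.toFinite _), e2]
    have hVc : (V : Set G).ncard = Nat.card V := (Nat.card_coe_set_eq (V : Set G)).symm
    have heq : ({1, a, b, a * b} : Set G) = (V : Set G) :=
      Set.eq_of_subset_of_ncard_le hS4 (by rw [hcard, hVc]; exact h4) (Set.toFinite _)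
    intro x hx
    have : x ∈ ({1, a, b, a * b} : Set G) := by rw [heq]; exact hx
    simpa only [Set.mem_insert_iff, Set.mem_singleton_iff] using this
  have cls : ∀ u ∈ V, u ≠ 1 → u ≠ b → u = a ∨ u = a * b := by
    intro u hu hu1 hub
    rcases henum u hu with e | e | e | e
    · exact absurd e hu1
    · exact Or.inl e
    · exact absurd e hub
    · exact Or.inr e
  have hinv_of : ∀ u ∈ V, u ≠ 1 → u ≠ b → u * h * u⁻¹ = h⁻¹ := by
    intro u hu hu1 hub
    rcases cls u hu hu1 hub with rfl | rfl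
    · exact hah
    · exact inv_mul_cen hah hbh
  have hbh' : Commute b h := hbh
  -- the conjugation step
  have step : ∀ i : ℕ, ∃ u ∈ V, u ≠ 1 ∧ u ≠ b ∧ Commute ((h ^ i)⁻¹ * u * h ^ i) k := by
    intro i
    have hx : b * h ^ i = h ^ i * b := (hbh'.pow_right i).eq
    have hx'' : (h ^ i)⁻¹ * b⁻¹ = b⁻¹ * (h ^ i)⁻¹ := by
      have := congrArg Inv.inv hx
      simpa only [mul_inv_rev] using this
    have hko : orderOf (h ^ i * k * (h ^ i)⁻¹) = orderOf k := by
      have := orderOf_injective (MulAut.conj (h ^ i)).toMonoidHom (MulAut.conj (h ^ i)).injective k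
      rw [← this]
      rfl
    have e : b * (h ^ i * k * (h ^ i)⁻¹) * b⁻¹ = (h ^ i * k * (h ^ i)⁻¹)⁻¹ := by
      have : b * (h ^ i * k * (h ^ i)⁻¹) * b⁻¹ = h ^ i * (b * k * b⁻¹) * (h ^ i)⁻¹ := by
        calc b * (h ^ i * k * (h ^ i)⁻¹) * b⁻¹ = (b * h ^ i) * k * ((h ^ i)⁻¹ * b⁻¹) := by group
          _ = (h ^ i * b) * k * (b⁻¹ * (h ^ i)⁻¹) := by rw [hx, hx'']
          _ = h ^ i * (b * k * b⁻¹) * (h ^ i)⁻¹ := by group
      rw [this, hbk]; group
    obtain ⟨u, huV, hu1, huc⟩ := hS (h ^ i * k * (h ^ i)⁻¹) b hbV (by rw [hko]; exact hkodd) e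
    refine ⟨u, huV, hu1, ?_, ?_⟩
    · intro hub
      rw [hub] at huc
      have h1 : h ^ i * k * (h ^ i)⁻¹ = 1 := triv_of_inv_comm (by rw [hko]; exact hkodd) e huc
      exact hk1 (conj_eq_one_iff.mp h1)
    · show (h ^ i)⁻¹ * u * h ^ i * k = k * ((h ^ i)⁻¹ * u * h ^ i)
      calc (h ^ i)⁻¹ * u * h ^ i * k = (h ^ i)⁻¹ * (u * (h ^ i * k * (h ^ i)⁻¹)) * h ^ i := by group
        _ = (h ^ i)⁻¹ * ((h ^ i * k * (h ^ i)⁻¹) * u) * h ^ i := by rw [huc]
        _ = k * ((h ^ i)⁻¹ * u * h ^ i) := by group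
  have comb : ∀ w ∈ V, w ≠ 1 → w ≠ b → ∀ i j : ℕ, Commute ((h ^ i)⁻¹ * w * h ^ i) k →
      Commute ((h ^ j)⁻¹ * w * h ^ j) k → Commute ((h ^ i)⁻¹ * (h ^ i)⁻¹ * h ^ j * h ^ j) k := by
    intro w hwV hw1 hwb i j hi hj
    have hwinv := hinv_of w hwV hw1 hwb
    have hpow : ∀ n : ℕ, w * h ^ n * w⁻¹ = (h ^ n)⁻¹ := by
      intro n; rw [← conj_pow, hwinv, inv_pow]
    have := conj_prod (hsq w hwV) (hpow i) (hpow j)
    rw [← this]
    exact hi.mul_left hj
  obtain ⟨u0, hu0V, hu01, hu0b, hu0c⟩ := step 0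
  obtain ⟨u1, hu1V, hu11, hu1b, hu1c⟩ := step 1
  obtain ⟨u2, hu2V, hu21, hu2b, hu2c⟩ := step 2
  have hfin : Commute (h ^ 2) k ∨ Commute (h ^ 4) k := by
    by_cases e01 : u0 = u1
    · left
      have := comb u0 hu0V hu01 hu0b 0 1 hu0c (by rw [e01]; exact hu1c)
      have e : (h ^ 0)⁻¹ * (h ^ 0)⁻¹ * h ^ 1 * h ^ 1 = h ^ 2 := by group
      rwa [e] at this
    · by_cases e02 : u0 = u2
      · right
        have := comb u0 hu0V hu01 hu0b 0 2 hu0c (by rw [e02]; exact hu2c)
        have e : (h ^ 0)⁻¹ * (h ^ 0)⁻¹ * h ^ 2 * h ^ 2 = h ^ 4 := by group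
        rwa [e] at this
      · left
        have e12 : u1 = u2 := by
          rcases cls u0 hu0V hu01 hu0b with r0 | r0
          · rcases cls u1 hu1V hu11 hu1b with r1 | r1
            · exact absurd (r0.trans r1.symm) e01
            · rcases cls u2 hu2V hu21 hu2b with r2 | r2
              · exact absurd (r0.trans r2.symm) e02
              · exact r1.trans r2.symm
          · rcases cls u1 hu1V hu11 hu1b with r1 | r1
            · rcases cls u2 hu2V hu21 hu2b with r2 | r2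
              · exact r1.trans r2.symm
              · exact absurd (r0.trans r2.symm) e02
            · exact absurd (r0.trans r1.symm) e01
        have := comb u1 hu1V hu11 hu1b 1 2 hu1c (by rw [e12]; exact hu2c)
        have e : (h ^ 1)⁻¹ * (h ^ 1)⁻¹ * h ^ 2 * h ^ 2 = h ^ 2 := by group
        rwa [e] at this
  have hhk : Commute h k := by
    rcases hfin with c2 | c4
    · exact comm_of_sq_comm hhodd (pow_orderOf_eq_one h) c2
    · have c2 : Commute (h ^ 2) k := by
        apply comm_of_sq_comm (g := h ^ 2) hhodd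
        · rw [← pow_mul, mul_comm, pow_mul, pow_orderOf_eq_one, one_pow]
        · have : (h ^ 2) ^ 2 = h ^ 4 := by rw [← pow_mul]
          rw [this]; exact c4
      exact comm_of_sq_comm hhodd (pow_orderOf_eq_one h) c2
  -- final contradiction
  obtain ⟨w', hw'V, hw'1, hw'k⟩ := hS k b hbV hkodd hbk
  have hw'b : w' ≠ b := by
    intro e
    rw [e] at hw'k
    exact hk1 (triv_of_inv_comm hkodd hbk hw'k)
  have hw'h : w' * h * w'⁻¹ = h⁻¹ := hinv_of w' hw'V hw'1 hw'b
  have hzh : (w' * b) * h * (w' * b)⁻¹ = h⁻¹ := inv_mul_cen hw'h hbh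
  have hzk : (w' * b) * k * (w' * b)⁻¹ = k⁻¹ := cen_mul_inv hw'k hbk
  have hzhk : (w' * b) * (h * k) * (w' * b)⁻¹ = (h * k)⁻¹ := by
    calc (w' * b) * (h * k) * (w' * b)⁻¹
        = ((w' * b) * h * (w' * b)⁻¹) * ((w' * b) * k * (w' * b)⁻¹) := by group
      _ = h⁻¹ * k⁻¹ := by rw [hzh, hzk]
      _ = (k * h)⁻¹ := by rw [mul_inv_rev]
      _ = (h * k)⁻¹ := by rw [hhk.eq]
  have hoddhk : Odd (orderOf (h * k)) :=
    (hhodd.mul hkodd).of_dvd_nat hhk.orderOf_mul_dvd_mul_orderOf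
  obtain ⟨w, hwV, hw1, hwc⟩ := hS (h * k) (w' * b) (V.mul_mem hw'V hbV) hoddhk hzhk
  have henum' : ∀ x ∈ V, x = 1 ∨ x = w' ∨ x = b ∨ x = w' * b := by
    intro x hx
    rcases cls w' hw'V hw'1 hw'b with e' | e'
    · rw [e']; exact henum x hx
    · rcases henum x hx with e | e | e | e
      · exact Or.inl e
      · right; right; right
        rw [e, e', mul_assoc, hsq b hbV, mul_one]
      · exact Or.inr (Or.inr (Or.inl e))
      · exact Or.inr (Or.inl (e.trans e'.symm))
  rcases henum' w hwV with e | e | e | e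
  · exact hw1 e
  · rw [e] at hwc
    have c1 : Commute w' (h * k) := hwc
    have c2 : Commute w' k := hw'k
    have c3 : Commute w' h := by
      have := c1.mul_right c2.inv_right
      rwa [mul_inv_cancel_right] at this
    exact hh1 (triv_of_inv_comm hhodd hw'h c3.eq)
  · rw [e] at hwc
    have c1 : Commute b (h * k) := hwc
    have c3 : Commute b k := by
      have := hbh'.inv_right.mul_right c1
      rwa [inv_mul_cancel_left] at this
    exact hk1 (triv_of_inv_comm hkodd hbk c3.eq)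
  · rw [e] at hwc
    have h1 : h * k = 1 := triv_of_inv_comm hoddhk hzhk hwc
    have hk' : k = h⁻¹ := eq_inv_of_mul_eq_one_right h1
    have c3 : Commute b k := by rw [hk']; exact hbh'.inv_right
    exact hk1 (triv_of_inv_comm hkodd hbk c3.eq)

end Cfsg.Agent.S3011
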