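import Cfsg.Statements.S3012
import Mathlib.Tactic.Group
import Cfsg.Agent.Lib.Helper18.Basic

set_option autoImplicit false
open Cfsg

namespace Cfsg.Agent.S3012

/-- Let G be a finite group, V a nontrivial elementary abelian 2-subgroup of G satisfying the Sidki pair condition (every odd-order element inverted by an element of V commutes with a nontrivial element of V), and K a normal subgroup of G with V ∩ K = 1. Then the image of V in G/K satisfies the Sidki pair condition in G/K. -/
theorem result {G : Type*} [Group G] [Finite G] (V K : Subgroup G) [K.Normal] (hV : Cfsg.IsElementaryAbelian 2 V) (hV1 : V ≠ ⊥) (hS : Cfsg.IsSidkiPair V) (hVK : V ⊓ K = ⊥) : Cfsg.IsSidkiPair (V.map (QuotientGroup.mk' K)) := by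
  obtain ⟨hVc, hV2⟩ := hV
  intro hbar vbar hvbar hodd hinv
  obtain ⟨v, hvV, rfl⟩ := hvbar
  obtain ⟨x, rfl⟩ := QuotientGroup.mk'_surjective K hbar
  set π := QuotientGroup.mk' K with hπ
  have hv2 : v * v = 1 := by
    have := hV2 v hvV
    rwa [pow_two] at this
  have hvinv : v⁻¹ = v := inv_eq_of_mul_eq_one_left hv2
  -- c = v x v x⁻¹ is inverted by v
  set c : G := v * x * v * x⁻¹ with hc
  have hcinv : v * c * v⁻¹ = c⁻¹ := by
    rw [hvinv, hc]
    have e : (v * x * v * x⁻¹)⁻¹ = x * v⁻¹ * x⁻¹ * v⁻¹ := by group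
    rw [e, hvinv]
    calc v * (v * x * v * x⁻¹) * v = (v * v) * x * v * x⁻¹ * v := by group
      _ = x * v * x⁻¹ * v := by rw [hv2, one_mul]
  have hπc : π c = (π x)⁻¹ ^ 2 := by
    have h1 : π c = (π v * π x * (π v)⁻¹) * (π x)⁻¹ := by
      have hc' : c = v * x * v⁻¹ * x⁻¹ := by rw [hc, hvinv]
      rw [hc']; simp only [map_mul, map_inv]
    rw [h1, hinv, pow_two]
  -- split the order of c
  have hcpos : orderOf c ≠ 0 := (orderOf_pos c).ne'
  obtain ⟨a, m, hm2, hN⟩ := Nat.exists_eq_two_pow_mul_odd hcpos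
  set h : G := c ^ (2 ^ a) with hh
  have hhodd : Odd (orderOf h) := by
    rw [hh, orderOf_pow, hN, Nat.gcd_eq_right (Dvd.intro _ rfl)]
    rw [Nat.mul_div_cancel_left _ (by positivity)]
    exact hm2
  have hhinv : v * h * v⁻¹ = h⁻¹ := by
    rw [hh, ← inv_pow, ← hcinv]
    exact (conj_pow).symm
  obtain ⟨w, hwV, hw1, hwh⟩ := hS h v hvV hhodd hhinv
  refine ⟨π w, ⟨w, hwV, rfl⟩, ?_, ?_⟩
  · intro h1
    apply hw1
    have hwK : w ∈ K := by
      rw [← QuotientGroup.eq_one_iff]
      exact h1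
    have : w ∈ V ⊓ K := ⟨hwV, hwK⟩
    rw [hVK] at this
    exact Subgroup.mem_bot.mp this
  · -- π w commutes with π h = (π x)⁻¹ ^ (2^(a+1))
    have hπh : π h = ((π x) ^ (2 ^ (a + 1)))⁻¹ := by
      rw [hh, map_pow, hπc, ← pow_mul, inv_pow, pow_succ']
    have hcomm : Commute (π w) (π h) := by
      show π w * π h = π h * π w
      rw [← map_mul, ← map_mul, hwh]
    rw [hπh] at hcomm
    have hcomm' : Commute (π w) ((π x) ^ (2 ^ (a + 1))) := by
      have := hcomm.inv_right
      rwa [inv_inv] at this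
    have hcop : (orderOf (π x)).Coprime (2 ^ (a + 1)) := by
      apply Nat.Coprime.pow_right
      exact (Nat.coprime_two_right.mpr hodd)
    exact (Cfsg.Agent.Lib.Helper18.commute_of_commute_pow_coprime (π w) (π x) _ hcop hcomm').eq

end Cfsg.Agent.S3012
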