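import Cfsg.Statements.S3013
import Mathlib.Tactic.Group

set_option autoImplicit false
open Cfsg

namespace Cfsg.Agent.S3013

theorem commute_of_commute_sq {G : Type*} [Group G] (w a : G) (ha : Odd (orderOf a))
    (h : Commute w (a ^ 2)) : Commute w a := by
  obtain ⟨k, hk⟩ := ha
  have e : a = (a ^ 2) ^ (k + 1) := by
    rw [← pow_mul]
    have : 2 * (k + 1) = orderOf a + 1 := by omega
    rw [this, pow_succ, pow_orderOf_eq_one, one_mul]
  rw [e]
  exact h.pow_right _

/-- Let G be a finite group and V a nontrivial elementary abelian 2-subgroup of G satisfying the Sidki pair condition. Let v ∈ V and let x be an element of odd order inverted by v, and put C = C_G(v) ∩ C_G(x), the centralizer of the dihedral subgroup generated by v and x. Then C ∩ V is nontrivial and satisfies the Sidki pair condition inside C: every odd-order element of C inverted by an element of C ∩ V commutes with a nontrivial element of C ∩ V. -/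
theorem result {G : Type*} [Group G] [Finite G] (V : Subgroup G) (hV : Cfsg.IsElementaryAbelian 2 V) (hV1 : V ≠ ⊥) (hS : Cfsg.IsSidkiPair V) (v x : G) (hv : v ∈ V) (hx : Odd (orderOf x)) (hinv : v * x * v⁻¹ = x⁻¹) (C : Subgroup G) (hC : C = Subgroup.centralizer ({v} : Set G) ⊓ Subgroup.centralizer ({x} : Set G)) : C ⊓ V ≠ ⊥ ∧ Cfsg.IsSidkiPair ((C ⊓ V).subgroupOf C) := by
  obtain ⟨hVc, hV2⟩ := hV
  have hVcomm : ∀ a ∈ V, ∀ b ∈ V, a * b = b * a := by
    intro a ha b hb
    have := hVc.is_comm.comm ⟨a, ha⟩ ⟨b, hb⟩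
    exact congrArg Subtype.val this
  have hmemC : ∀ w : G, w ∈ C ↔ w * v = v * w ∧ w * x = x * w := by
    intro w
    rw [hC, Subgroup.mem_inf, Subgroup.mem_centralizer_singleton_iff,
      Subgroup.mem_centralizer_singleton_iff]
  constructor
  · obtain ⟨w, hwV, hw1, hwx⟩ := hS x v hv hx hinv
    intro hbot
    apply hw1
    have : w ∈ C ⊓ V := ⟨(hmemC w).2 ⟨hVcomm w hwV v hv, hwx⟩, hwV⟩
    rw [hbot] at this
    exact Subgroup.mem_bot.mp this
  · intro h v' hv' hodd hinv'
    rw [Subgroup.mem_subgroupOf] at hv'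
    obtain ⟨hv'C, hv'V⟩ := hv'
    have hhC := (hmemC (h : G)).1 h.2
    have hv'C' := (hmemC (v' : G)).1 v'.2
    have hoddG : Odd (orderOf (h : G)) := by rwa [Subgroup.orderOf_coe]
    have hinvG : (v' : G) * (h : G) * (v' : G)⁻¹ = (h : G)⁻¹ := by
      have := congrArg Subtype.val hinv'
      simpa using this
    set hh : G := (h : G) with hhdef
    set u : G := (v' : G) with hudef
    set y : G := hh * x with hy
    have hcomm : Commute hh x := hhC.2
    have hyodd : Odd (orderOf y) := by
      have hdvd := hcomm.orderOf_mul_dvd_lcm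
      exact Odd.of_dvd_nat (hoddG.mul hx) (hdvd.trans (Nat.lcm_dvd_mul _ _))
    -- v * u inverts y
    have hvu : v * u ∈ V := V.mul_mem hv hv'V
    have e1 : v * hh * v⁻¹ = hh := by rw [← hhC.1]; group
    have e2 : u * x * u⁻¹ = x := by rw [hv'C'.2]; group
    have hinvy : (v * u) * y * (v * u)⁻¹ = y⁻¹ := by
      calc (v * u) * y * (v * u)⁻¹ = v * ((u * hh * u⁻¹) * (u * x * u⁻¹)) * v⁻¹ := by
            rw [hy]; group
        _ = v * (hh⁻¹ * x) * v⁻¹ := by rw [hinvG, e2]
        _ = (v * hh * v⁻¹)⁻¹ * (v * x * v⁻¹) := by group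
        _ = hh⁻¹ * x⁻¹ := by rw [e1, hinv]
        _ = y⁻¹ := by rw [hy, hcomm.eq]; group
    obtain ⟨w, hwV, hw1, hwy⟩ := hS y (v * u) hvu hyodd hinvy
    have hwv : w * v = v * w := hVcomm w hwV v hv
    have hwu : w * u = u * w := hVcomm w hwV u hv'V
    -- w commutes with v y v⁻¹ = hh * x⁻¹ and u y u⁻¹ = hh⁻¹ * x
    have hc1 : Commute w (v * y * v⁻¹) :=
      ((Commute.mul_right hwv hwy).mul_right (Commute.inv_right hwv))
    have hc2 : Commute w (u * y * u⁻¹) :=
      ((Commute.mul_right hwu hwy).mul_right (Commute.inv_right hwu))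
    have f1 : y * (v * y * v⁻¹) = hh ^ 2 := by
      calc y * (v * y * v⁻¹) = hh * x * ((v * hh * v⁻¹) * (v * x * v⁻¹)) := by rw [hy]; group
        _ = hh * x * (hh * x⁻¹) := by rw [e1, hinv]
        _ = hh * (x * hh) * x⁻¹ := by group
        _ = hh * (hh * x) * x⁻¹ := by rw [hcomm.eq]
        _ = hh ^ 2 := by rw [pow_two]; group
    have f2 : y * (u * y * u⁻¹) = x ^ 2 := by
      calc y * (u * y * u⁻¹) = hh * x * ((u * hh * u⁻¹) * (u * x * u⁻¹)) := by rw [hy]; group
        _ = hh * x * (hh⁻¹ * x) := by rw [hinvG, e2]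
        _ = (hh * x) * hh⁻¹ * x := by group
        _ = (x * hh) * hh⁻¹ * x := by rw [hcomm.eq]
        _ = x ^ 2 := by rw [pow_two]; group
    have hwh : Commute w hh := by
      apply commute_of_commute_sq w hh hoddG
      rw [← f1]
      exact Commute.mul_right hwy hc1
    have hwx : Commute w x := by
      apply commute_of_commute_sq w x hx
      rw [← f2]
      exact Commute.mul_right hwy hc2
    have hwC : w ∈ C := (hmemC w).2 ⟨hwv, hwx.eq⟩
    refine ⟨⟨w, hwC⟩, ?_, ?_, ?_⟩
    · rw [Subgroup.mem_subgroupOf]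
      exact ⟨hwC, hwV⟩
    · intro h1
      apply hw1
      exact congrArg Subtype.val h1
    · apply Subtype.ext
      simpa using hwh.eq

end Cfsg.Agent.S3013
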