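import Cfsg.Statements.S3014
import Mathlib.GroupTheory.Transfer
import Mathlib.Tactic.Group
import Cfsg.Agent.Lib.Helper18.Conj

set_option autoImplicit false
open Cfsg

namespace Cfsg.Agent.S3014

section Aux
open MulAction Subgroup
open Cfsg.Agent.Lib.Helper18

variable {G : Type*} [Group G]

/-- If conjugates landing back in `M` from outside are killed by `ϕ`, the transfer restricts to `ϕ`. -/
theorem transfer_restrict_eq {A : Type*} [CommGroup A] (M : Subgroup G) [M.FiniteIndex]
    (ϕ : ↥M →* A)
    (hB : ∀ a : G, a ∉ M → ∀ c : ↥M, a * (c : G) * a⁻¹ ∈ M → ϕ c = 1) (m : ↥M) :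
    MonoidHom.transfer ϕ (m : G) = ϕ m := by
  classical
  letI : Fintype (Quotient (orbitRel (zpowers (m : G)) (G ⧸ M))) := Fintype.ofFinite _
  rw [MonoidHom.transfer_eq_prod_quotient_orbitRel_zpowers_quot]
  set q₀ : Quotient (orbitRel (zpowers (m : G)) (G ⧸ M)) :=
    Quotient.mk'' ((1 : G) : G ⧸ M) with hq₀
  have hfix : (m : G) • (((1 : G) : G ⧸ M)) = ((1 : G) : G ⧸ M) := by
    rw [MulAction.Quotient.smul_mk, QuotientGroup.eq]
    simp
  have hmemM : ∀ z ∈ zpowers (m : G), z ∈ M := by
    intro z hz
    exact (zpowers_le.mpr m.2) hz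
  -- the representative of `q₀` is the base coset
  have hout : q₀.out = ((1 : G) : G ⧸ M) := by
    have h1 : Quotient.mk'' q₀.out = q₀ := Quotient.out_eq' q₀
    rw [hq₀] at h1
    have h2 := Quotient.exact' h1
    change q₀.out ∈ MulAction.orbit (zpowers (m : G)) (((1 : G) : G ⧸ M)) at h2
    obtain ⟨⟨z, hz⟩, hz2⟩ := h2
    rw [← hz2]
    change z • (((1 : G) : G ⧸ M)) = _
    rw [MulAction.Quotient.smul_mk, QuotientGroup.eq]
    simpa using hmemM z hz
  rw [Finset.prod_eq_single q₀]
  · -- the factor at q₀
    have hper : Function.minimalPeriod ((m : G) • ·) q₀.out = 1 := by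
      rw [hout, Function.minimalPeriod_eq_one_iff_isFixedPt]
      exact hfix
    have haM : q₀.out.out ∈ M := by
      have : ((q₀.out.out : G) : G ⧸ M) = ((1 : G) : G ⧸ M) := by
        rw [QuotientGroup.out_eq', hout]
      rw [QuotientGroup.eq] at this
      simpa using this
    have : (⟨q₀.out.out⁻¹ * (m : G) ^ Function.minimalPeriod ((m : G) • ·) q₀.out * q₀.out.out,
        QuotientGroup.out_conj_pow_minimalPeriod_mem M (m : G) q₀.out⟩ : ↥M) =
        (⟨q₀.out.out, haM⟩ : ↥M)⁻¹ * m * ⟨q₀.out.out, haM⟩ := by
      apply Subtype.ext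
      simp [hper]
    rw [this, map_mul, map_mul, map_inv, mul_comm, mul_inv_cancel_left]
  · intro q _ hq
    apply hB q.out.out
    · intro haM
      apply hq
      have h1 : Quotient.mk'' q.out = q := Quotient.out_eq' q
      rw [← h1, hq₀]
      congr 1
      rw [← QuotientGroup.out_eq' q.out, QuotientGroup.eq]
      simpa using haM
    · have : q.out.out * (q.out.out⁻¹ * (m : G) ^ Function.minimalPeriod ((m : G) • ·) q.out * q.out.out) * q.out.out⁻¹ = (m : G) ^ Function.minimalPeriod ((m : G) • ·) q.out := by group
      simp only []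
      rw [this]
      exact M.pow_mem m.2 _
  · intro h
    exact absurd (Finset.mem_univ _) h

theorem cj_sup (g : G) (X Y : Subgroup G) : cj g (X ⊔ Y) = cj g X ⊔ cj g Y :=
  Subgroup.map_sup X Y _

theorem cj_zpowers (g y : G) : cj g (Subgroup.zpowers y) = Subgroup.zpowers (g * y * g⁻¹) := by
  rw [cj, MonoidHom.map_zpowers]
  rfl

theorem main [Finite G] (H M : Subgroup G) (hHM : H ≤ M)
    (hcl : ∀ g : G, (H ⊔ cj g H) ⊓ M = H) (hmaxH : IsCoatom (H.subgroupOf M))
    (hmaxM : IsCoatom M) :
    Subgroup.normalClosure (H : Set G) ⊓ M = H := by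
  classical
  -- (1) `H` is normal in `M`
  have hnorm : ∀ m ∈ M, cj m H = H := by
    intro m hm
    apply cj_eq_of_le
    have h1 : H ⊔ cj m H ≤ M := by
      refine sup_le hHM ?_
      intro y hy
      rw [mem_cj_iff] at hy
      have : y = m * (m⁻¹ * y * m) * m⁻¹ := by group
      rw [this]
      exact M.mul_mem (M.mul_mem hm (hHM hy)) (M.inv_mem hm)
    have := hcl m
    rw [inf_eq_left.mpr h1] at this
    exact le_sup_right.trans this.le
  refine le_antisymm ?_ (le_inf Subgroup.le_normalClosure hHM)
  -- (3) maximality
  have hgen : ∀ y ∈ M, y ∉ H → H ⊔ Subgroup.zpowers y = M := by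
    intro y hyM hyH
    apply le_antisymm (sup_le hHM (Subgroup.zpowers_le.mpr hyM))
    have h1 : H.subgroupOf M < (H ⊔ Subgroup.zpowers y).subgroupOf M := by
      refine lt_of_le_of_ne ?_ ?_
      · intro x hx
        rw [Subgroup.mem_subgroupOf] at hx ⊢
        exact (le_sup_left : H ≤ H ⊔ Subgroup.zpowers y) hx
      · intro heq
        have : (⟨y, hyM⟩ : ↥M) ∈ (H ⊔ Subgroup.zpowers y).subgroupOf M := by
          rw [Subgroup.mem_subgroupOf]
          exact (le_sup_right : Subgroup.zpowers y ≤ H ⊔ Subgroup.zpowers y)
            (Subgroup.mem_zpowers y)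
        rw [← heq, Subgroup.mem_subgroupOf] at this
        exact hyH this
    have h2 := hmaxH.2 _ h1
    exact Subgroup.subgroupOf_eq_top.mp h2
  by_cases hMn : M.Normal
  · -- (4) `M` normal: then `H` is normal in `G`
    have hHn : H.Normal := by
      constructor
      intro n hn g
      have h1 : H ⊔ cj g H ≤ M := by
        refine sup_le hHM ?_
        intro y hy
        rw [mem_cj_iff] at hy
        have : y = g * (g⁻¹ * y * g) * g⁻¹ := by group
        rw [this]
        exact hMn.conj_mem _ (hHM hy) g
      have := hcl g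
      rw [inf_eq_left.mpr h1] at this
      exact (le_sup_right.trans this.le) (conj_mem_cj g H hn)
    exact inf_le_left.trans (Subgroup.normalClosure_le_normal (le_refl _))
  · -- `M` is self-normalizing
    have hNM : Subgroup.normalizer (M : Set G) = M := by
      have h1 : M ≤ Subgroup.normalizer (M : Set G) := Subgroup.le_normalizer
      by_contra hne
      have h2 : M < Subgroup.normalizer (M : Set G) := lt_of_le_of_ne h1 (Ne.symm hne)
      have h3 := hmaxM.2 _ h2
      exact hMn (Subgroup.normalizer_eq_top_iff.mp h3)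
    have hcjM : ∀ a : G, a ∉ M → M ⊔ cj a M = ⊤ := by
      intro a ha
      apply hmaxM.2
      refine lt_of_le_of_ne le_sup_left ?_
      intro heq
      have h1 : cj a M ≤ M := by
        have : cj a M ≤ M ⊔ cj a M := le_sup_right
        rwa [← heq] at this
      have h2 := cj_eq_of_le a M h1
      apply ha
      rw [← hNM, mem_normalizer_iff_cj]
      exact h2
    by_cases hA : ∃ a : G, a ∉ M ∧ ∃ y ∈ M ⊓ cj a M, y ∉ H
    · -- Case A
      obtain ⟨a, haM, y, hy, hyH⟩ := hA
      have hyM : y ∈ M := hy.1
      have hyaM : a⁻¹ * y * a ∈ M := (mem_cj_iff a M y).mp hy.2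
      have hyaH : a⁻¹ * y * a ∉ H := by
        intro h
        have h1 : y ∈ cj a H := (mem_cj_iff a H y).mpr h
        have h2 : y ∈ (H ⊔ cj a H) ⊓ M := ⟨(le_sup_right : cj a H ≤ H ⊔ cj a H) h1, hyM⟩
        rw [hcl a] at h2
        exact hyH h2
      set K := H ⊔ cj a H with hK
      have h1 : cj y H = H := hnorm y hyM
      have h2 : cj y (cj a H) = cj a H := by
        rw [cj_cj]
        have : y * a = a * (a⁻¹ * y * a) := by group
        rw [this, ← cj_cj, hnorm _ hyaM]
      have h3 : cj y K = K := by rw [hK, cj_sup, h1, h2]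
      have h4 : H ⊔ Subgroup.zpowers y = M := hgen y hyM hyH
      have h5 : cj a H ⊔ Subgroup.zpowers y = cj a M := by
        have := hgen _ hyaM hyaH
        have h6 := congrArg (cj a) this
        rw [cj_sup, cj_zpowers] at h6
        have h7 : a * (a⁻¹ * y * a) * a⁻¹ = y := by group
        rwa [h7] at h6
      have h6 : Subgroup.normalizer (K : Set G) = ⊤ := by
        rw [eq_top_iff, ← hcjM a haM]
        have hKle : K ≤ Subgroup.normalizer (K : Set G) := Subgroup.le_normalizer
        have hyN : Subgroup.zpowers y ≤ Subgroup.normalizer (K : Set G) := by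
          rw [Subgroup.zpowers_le, mem_normalizer_iff_cj]
          exact h3
        refine sup_le ?_ ?_
        · rw [← h4]
          exact sup_le (le_sup_left.trans hKle) hyN
        · rw [← h5]
          exact sup_le (le_sup_right.trans hKle) hyN
      have hKn : K.Normal := Subgroup.normalizer_eq_top_iff.mp h6
      have h7 : Subgroup.normalClosure (H : Set G) ≤ K :=
        Subgroup.normalClosure_le_normal (le_sup_left : H ≤ K)
      calc Subgroup.normalClosure (H : Set G) ⊓ M ≤ K ⊓ M := inf_le_inf_right M h7
        _ = H := hcl a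
    · -- Case B
      push Not at hA
      have hHn : (H.subgroupOf M).Normal := by
        constructor
        intro n hn g
        rw [Subgroup.mem_subgroupOf] at hn ⊢
        have := conj_mem_cj (g : G) H hn
        rw [hnorm _ g.2] at this
        simpa using this
      have hcomm : ∀ u v : ↥M ⧸ H.subgroupOf M, u * v = v * u := by
        intro u v
        by_cases hu : u = 1
        · simp [hu]
        · have htop : Subgroup.zpowers u = ⊤ := by
            have h1 : H.subgroupOf M <
                (Subgroup.zpowers u).comap (QuotientGroup.mk' (H.subgroupOf M)) := by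
              refine lt_of_le_of_ne ?_ ?_
              · intro x hx
                rw [Subgroup.mem_comap]
                have : QuotientGroup.mk' (H.subgroupOf M) x = 1 :=
                  (QuotientGroup.eq_one_iff x).mpr hx
                rw [this]
                exact one_mem _
              · intro heq
                obtain ⟨x, rfl⟩ := QuotientGroup.mk'_surjective (H.subgroupOf M) u
                have : x ∈ (Subgroup.zpowers (QuotientGroup.mk' (H.subgroupOf M) x)).comap
                    (QuotientGroup.mk' (H.subgroupOf M)) := Subgroup.mem_zpowers _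
                rw [← heq] at this
                exact hu ((QuotientGroup.eq_one_iff x).mpr this)
            have h2 := hmaxH.2 _ h1
            rw [eq_top_iff]
            intro w _
            obtain ⟨x, rfl⟩ := QuotientGroup.mk'_surjective (H.subgroupOf M) w
            have : x ∈ (Subgroup.zpowers u).comap (QuotientGroup.mk' (H.subgroupOf M)) := by
              rw [h2]; trivial
            exact this
          have hv : v ∈ Subgroup.zpowers u := by rw [htop]; trivial
          obtain ⟨k, rfl⟩ := hv
          exact (Commute.self_zpow u k).eq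
      letI : CommGroup (↥M ⧸ H.subgroupOf M) :=
        { (inferInstance : Group (↥M ⧸ H.subgroupOf M)) with mul_comm := hcomm }
      set ϕ : ↥M →* ↥M ⧸ H.subgroupOf M := QuotientGroup.mk' (H.subgroupOf M) with hϕ
      have hB : ∀ a : G, a ∉ M → ∀ c : ↥M, a * (c : G) * a⁻¹ ∈ M → ϕ c = 1 := by
        intro a ha c hc
        rw [hϕ]
        apply (QuotientGroup.eq_one_iff c).mpr
        rw [Subgroup.mem_subgroupOf]
        by_contra hcH
        have ha' : a⁻¹ ∉ M := fun h => ha (by simpa using M.inv_mem h)
        apply hcH
        apply hA a⁻¹ ha' (c : G) ⟨c.2, ?_⟩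
        apply (mem_cj_iff a⁻¹ M (c : G)).mpr
        simpa using hc
      have hT : ∀ m : ↥M, MonoidHom.transfer ϕ (m : G) = ϕ m := transfer_restrict_eq M ϕ hB
      have hle : Subgroup.normalClosure (H : Set G) ≤ (MonoidHom.transfer ϕ).ker := by
        apply Subgroup.normalClosure_le_normal
        intro h hh
        rw [SetLike.mem_coe, MonoidHom.mem_ker]
        have := hT ⟨h, hHM hh⟩
        rw [this, hϕ]
        apply (QuotientGroup.eq_one_iff _).mpr
        rw [Subgroup.mem_subgroupOf]
        exact hh
      intro x hx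
      have h1 : MonoidHom.transfer ϕ x = 1 := hle hx.1
      have h2 := hT ⟨x, hx.2⟩
      rw [h1] at h2
      have h3 : (⟨x, hx.2⟩ : ↥M) ∈ H.subgroupOf M := (QuotientGroup.eq_one_iff _).mp h2.symm
      rw [Subgroup.mem_subgroupOf] at h3
      exact h3

end Aux

/-- Let G be a finite group and H ≤ M ≤ G subgroups such that for every g ∈ G the subgroup generated by H and g H g⁻¹ meets M exactly in H. If H is a maximal subgroup of M and M is a maximal subgroup of G, then the normal closure of H in G meets M exactly in H. -/
theorem result {G : Type*} [Group G] [Finite G] (H M : Subgroup G) (hHM : H ≤ M) (hcl : ∀ g : G, (H ⊔ H.map (MulAut.conj g).toMonoidHom) ⊓ M = H) (hmaxH : IsCoatom (H.subgroupOf M)) (hmaxM : IsCoatom M) : Subgroup.normalClosure (H : Set G) ⊓ M = H := by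
  exact main H M hHM hcl hmaxH hmaxM

end Cfsg.Agent.S3014
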