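import Cfsg.Statements.S3015
import Cfsg.Agent.S3014

set_option autoImplicit false
open Cfsg

namespace Cfsg.Agent.S3015

section Aux
open Subgroup
open Cfsg.Agent.Lib.Helper18
open Cfsg.Agent.S3014

variable {G : Type*} [Group G]

theorem coatom_of_prime_relIndex (H M : Subgroup G) (hidx : (H.relIndex M).Prime) :
    IsCoatom (H.subgroupOf M) := by
  constructor
  · intro h
    rw [Subgroup.relIndex, h, Subgroup.index_top] at hidx
    exact Nat.not_prime_one hidx
  · intro K hK
    have h1 : (H.subgroupOf M).relIndex K * K.index = (H.subgroupOf M).index :=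
      Subgroup.relIndex_mul_index hK.le
    have h2 : K.index ∣ (H.subgroupOf M).index := Dvd.intro_left _ h1
    rcases (Nat.dvd_prime hidx).mp h2 with h3 | h3
    · exact Subgroup.index_eq_one.mp h3
    · exfalso
      have h4 : (H.subgroupOf M).relIndex K = 1 := by
        have hp : 0 < (H.subgroupOf M).index := hidx.pos
        have h3' : K.index = (H.subgroupOf M).index := h3
        rw [h3'] at h1
        exact Nat.eq_of_mul_eq_mul_right hp (by rw [h1, one_mul])
      have h5 : K ≤ H.subgroupOf M := Subgroup.relIndex_eq_one.mp h4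
      exact absurd hK (not_lt_of_ge h5)

/-- A finite nonabelian simple group has no maximal subgroup of prime order. -/
theorem no_prime_order_coatom [Finite G] [IsSimpleGroup G] (hG : ¬ IsMulCommutative G)
    (M : Subgroup G) (hmaxM : IsCoatom M) (hcard : (Nat.card M).Prime) : False := by
  classical
  haveI : Fact (Nat.card M).Prime := ⟨hcard⟩
  have hMp : IsPGroup (Nat.card M) M := IsPGroup.of_card (n := 1) (by simp)
  obtain ⟨Q, hQ⟩ := hMp.exists_le_sylow
  rcases hmaxM.le_iff.mp hQ with hQtop | hQM
  · -- `G` is a `p`-group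
    have hGp : IsPGroup (Nat.card M) G := by
      have := Q.2
      rw [hQtop] at this
      exact IsPGroup.of_equiv this (Subgroup.topEquiv)
    have hnt : Nontrivial (Subgroup.center G) := hGp.center_nontrivial
    have hc : Subgroup.center G = ⊤ := by
      rcases (inferInstance : (Subgroup.center G).Normal).eq_bot_or_eq_top with h | h
      · exfalso
        rw [Subgroup.nontrivial_iff_ne_bot] at hnt
        exact hnt h
      · exact h
    apply hG
    refine ⟨⟨fun a b => ?_⟩⟩
    have : b ∈ Subgroup.center G := by rw [hc]; trivial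
    exact (Subgroup.mem_center_iff.mp this a)
  · -- `M` is a Sylow subgroup; Burnside
    have hMn : ¬ M.Normal := by
      intro h
      rcases h.eq_bot_or_eq_top with h1 | h1
      · rw [h1] at hcard
        exact Nat.not_prime_one (by simpa using hcard)
      · exact hmaxM.1 h1
    have hNM : Subgroup.normalizer (M : Set G) = M := by
      have h1 : M ≤ Subgroup.normalizer (M : Set G) := Subgroup.le_normalizer
      by_contra hne
      have h2 : M < Subgroup.normalizer (M : Set G) := lt_of_le_of_ne h1 (Ne.symm hne)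
      exact hMn (Subgroup.normalizer_eq_top_iff.mp (hmaxM.2 _ h2))
    haveI : IsCyclic M := isCyclic_of_prime_card rfl
    have hMc : M ≤ Subgroup.centralizer (M : Set G) := by
      intro x hx
      rw [Subgroup.mem_centralizer_iff]
      intro y hy
      letI := IsCyclic.commGroup (α := M)
      have := mul_comm (⟨y, hy⟩ : M) ⟨x, hx⟩
      exact congrArg Subtype.val this
    have hP : Subgroup.normalizer ((Q : Subgroup G) : Set G) ≤ Subgroup.centralizer ((Q : Subgroup G) : Set G) := by
      rw [hQM, hNM]
      exact hMc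
    have hcomp := MonoidHom.ker_transferSylow_isComplement' Q hP
    rcases (inferInstance : (MonoidHom.transferSylow Q hP).ker.Normal).eq_bot_or_eq_top with h | h
    · rw [h, Subgroup.isComplement'_bot_left, hQM] at hcomp
      exact hmaxM.1 hcomp
    · rw [h, Subgroup.isComplement'_top_left, hQM] at hcomp
      rw [hcomp] at hcard
      exact Nat.not_prime_one (by simpa using hcard)

theorem flavell [Finite G] [IsSimpleGroup G] (hG : ¬ IsMulCommutative G) (M H : Subgroup G)
    (hmaxM : IsCoatom M) (hHM : H ≤ M) (hHn : (H.subgroupOf M).Normal)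
    (hidx : (H.relIndex M).Prime) : ∃ g : G, H ⊔ cj g H = ⊤ := by
  classical
  by_contra hcon
  push Not at hcon
  have hmaxH := coatom_of_prime_relIndex H M hidx
  by_cases hH : H = ⊥
  · apply no_prime_order_coatom hG M hmaxM
    rw [hH, Subgroup.relIndex_bot_left] at hidx
    exact hidx
  have hHneM : H ≠ M := by
    intro h
    rw [h, Subgroup.relIndex_self] at hidx
    exact Nat.not_prime_one hidx
  -- `H` is normal in `M`
  have hnorm : ∀ m ∈ M, cj m H = H := by
    intro m hm
    apply cj_eq_of_le
    intro y hy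
    rw [mem_cj_iff] at hy
    have h1 : (⟨m⁻¹ * y * m, hHM hy⟩ : ↥M) ∈ H.subgroupOf M := by
      rw [Subgroup.mem_subgroupOf]; exact hy
    have h2 := hHn.conj_mem _ h1 ⟨m, hm⟩
    rw [Subgroup.mem_subgroupOf] at h2
    have h3 : m * (m⁻¹ * y * m) * m⁻¹ = y := by group
    simpa [h3] using h2
  have hMn : ¬ M.Normal := by
    intro h
    rcases h.eq_bot_or_eq_top with h1 | h1
    · apply hH
      rw [eq_bot_iff, ← h1]
      exact hHM
    · exact hmaxM.1 h1
  have hNM : Subgroup.normalizer (M : Set G) = M := by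
    have h1 : M ≤ Subgroup.normalizer (M : Set G) := Subgroup.le_normalizer
    by_contra hne
    have h2 : M < Subgroup.normalizer (M : Set G) := lt_of_le_of_ne h1 (Ne.symm hne)
    exact hMn (Subgroup.normalizer_eq_top_iff.mp (hmaxM.2 _ h2))
  have hHnG : ¬ H.Normal := by
    intro h
    rcases h.eq_bot_or_eq_top with h1 | h1
    · exact hH h1
    · apply hmaxM.1
      rw [eq_top_iff, ← h1]
      exact hHM
  have hNH : ∀ a : G, cj a H = H → a ∈ M := by
    have h1 : M ≤ Subgroup.normalizer (H : Set G) := by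
      intro m hm
      rw [mem_normalizer_iff_cj]
      exact hnorm m hm
    have h2 : Subgroup.normalizer (H : Set G) = M := by
      by_contra hne
      have h3 : M < Subgroup.normalizer (H : Set G) := lt_of_le_of_ne h1 (Ne.symm hne)
      exact hHnG (Subgroup.normalizer_eq_top_iff.mp (hmaxM.2 _ h3))
    intro a ha
    rw [← h2, mem_normalizer_iff_cj]
    exact ha
  have hcjM : ∀ a : G, a ∉ M → M ⊔ cj a M = ⊤ := by
    intro a ha
    apply hmaxM.2
    refine lt_of_le_of_ne le_sup_left ?_
    intro heq
    have h1 : cj a M ≤ M := by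
      have : cj a M ≤ M ⊔ cj a M := le_sup_right
      rwa [← heq] at this
    have h2 := cj_eq_of_le a M h1
    apply ha
    rw [← hNM, mem_normalizer_iff_cj]
    exact h2
  have hgen : ∀ y ∈ M, y ∉ H → H ⊔ Subgroup.zpowers y = M := by
    intro y hyM hyH
    apply le_antisymm (sup_le hHM (Subgroup.zpowers_le.mpr hyM))
    have h1 : H.subgroupOf M < (H ⊔ Subgroup.zpowers y).subgroupOf M := by
      refine lt_of_le_of_ne ?_ ?_
      · intro x hx
        rw [Subgroup.mem_subgroupOf] at hx ⊢
        exact (le_sup_left : H ≤ H ⊔ Subgroup.zpowers y) hx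
      · intro heq
        have : (⟨y, hyM⟩ : ↥M) ∈ (H ⊔ Subgroup.zpowers y).subgroupOf M := by
          rw [Subgroup.mem_subgroupOf]
          exact (le_sup_right : Subgroup.zpowers y ≤ H ⊔ Subgroup.zpowers y)
            (Subgroup.mem_zpowers y)
        rw [← heq, Subgroup.mem_subgroupOf] at this
        exact hyH this
    have h2 := hmaxH.2 _ h1
    exact Subgroup.subgroupOf_eq_top.mp h2
  -- the dichotomy
  have hdich : ∀ b : G, b ∉ M → ∀ y ∈ M ⊓ cj b M, y ∈ H ∨ y ∈ cj b H := by
    intro b hbM y hy
    by_contra hnot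
    push Not at hnot
    obtain ⟨hyH, hybH⟩ := hnot
    have hyM : y ∈ M := hy.1
    have hyaM : b⁻¹ * y * b ∈ M := (mem_cj_iff b M y).mp hy.2
    have hyaH : b⁻¹ * y * b ∉ H := fun h => hybH ((mem_cj_iff b H y).mpr h)
    set K := H ⊔ cj b H with hK
    have h1 : cj y H = H := hnorm y hyM
    have h2 : cj y (cj b H) = cj b H := by
      rw [cj_cj]
      have : y * b = b * (b⁻¹ * y * b) := by group
      rw [this, ← cj_cj, hnorm _ hyaM]
    have h3 : cj y K = K := by rw [hK, cj_sup, h1, h2]
    have h4 : H ⊔ Subgroup.zpowers y = M := hgen y hyM hyH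
    have h5 : cj b H ⊔ Subgroup.zpowers y = cj b M := by
      have := hgen _ hyaM hyaH
      have h6 := congrArg (cj b) this
      rw [cj_sup, cj_zpowers] at h6
      have h7 : b * (b⁻¹ * y * b) * b⁻¹ = y := by group
      rwa [h7] at h6
    have h6 : Subgroup.normalizer (K : Set G) = ⊤ := by
      rw [eq_top_iff, ← hcjM b hbM]
      have hKle : K ≤ Subgroup.normalizer (K : Set G) := Subgroup.le_normalizer
      have hyN : Subgroup.zpowers y ≤ Subgroup.normalizer (K : Set G) := by
        rw [Subgroup.zpowers_le, mem_normalizer_iff_cj]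
        exact h3
      refine sup_le ?_ ?_
      · rw [← h4]
        exact sup_le (le_sup_left.trans hKle) hyN
      · rw [← h5]
        exact sup_le (le_sup_right.trans hKle) hyN
    have hKn : K.Normal := Subgroup.normalizer_eq_top_iff.mp h6
    rcases hKn.eq_bot_or_eq_top with h7 | h7
    · apply hH
      rw [eq_bot_iff, ← h7]
      exact le_sup_left
    · exact hcon b h7
  by_cases hall : ∀ g : G, (H ⊔ cj g H) ⊓ M = H
  · have h1 := main H M hHM hall hmaxH hmaxM
    rcases (Subgroup.normalClosure_normal (s := (H : Set G))).eq_bot_or_eq_top with h2 | h2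
    · apply hH
      rw [eq_bot_iff, ← h2]
      exact Subgroup.le_normalClosure
    · rw [h2, top_inf_eq] at h1
      exact hHneM h1.symm
  · push Not at hall
    obtain ⟨g₀, hg₀⟩ := hall
    -- `M ≤ H ⊔ cj g₀ H`
    have h1 : M ≤ H ⊔ cj g₀ H := by
      by_contra hnot
      apply hg₀
      apply le_antisymm _ (le_inf le_sup_left hHM)
      have h2 : H.subgroupOf M ≤ ((H ⊔ cj g₀ H) ⊓ M).subgroupOf M := by
        intro x hx
        rw [Subgroup.mem_subgroupOf] at hx ⊢
        exact ⟨(le_sup_left : H ≤ H ⊔ cj g₀ H) hx, x.2⟩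
      have h3 : ((H ⊔ cj g₀ H) ⊓ M).subgroupOf M ≠ ⊤ := by
        intro h
        rw [Subgroup.subgroupOf_eq_top] at h
        exact hnot (h.trans inf_le_left)
      have h4 : H.subgroupOf M = ((H ⊔ cj g₀ H) ⊓ M).subgroupOf M := by
        by_contra hne
        exact h3 (hmaxH.2 _ (lt_of_le_of_ne h2 hne))
      intro x hx
      have : (⟨x, hx.2⟩ : ↥M) ∈ ((H ⊔ cj g₀ H) ⊓ M).subgroupOf M := by
        rw [Subgroup.mem_subgroupOf]; exact hx
      rw [← h4, Subgroup.mem_subgroupOf] at this
      exact this
    have h2 : H ⊔ cj g₀ H = M := by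
      rcases hmaxM.le_iff.mp h1 with h | h
      · exact absurd h (hcon g₀)
      · exact h
    have hH'M : cj g₀ H ≤ M := by rw [← h2]; exact le_sup_right
    have hH'ne : cj g₀ H ≠ H := by
      intro h
      rw [h, sup_idem] at h2
      exact hHneM h2
    have hg₀M : g₀ ∉ M := fun h => hH'ne (hnorm g₀ h)
    -- an element of `cj g₀ H` outside `H`
    obtain ⟨h₁, hh₁, hh₁H⟩ : ∃ h₁ ∈ cj g₀ H, h₁ ∉ H := by
      by_contra hnot
      push Not at hnot
      have hle : cj g₀ H ≤ H := hnot
      exact hH'ne (cj_eq_of_le g₀ H hle)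
    -- the key claim
    have hclaim : ∀ x ∈ M, x ∉ H → g₀ * x * g₀⁻¹ ∈ M := by
      intro x hxM hxH
      by_contra hbM
      set b := g₀ * x * g₀⁻¹ with hb
      have hH'b : cj g₀ H ≤ M ⊓ cj b M := by
        refine le_inf hH'M ?_
        intro y hy
        rw [mem_cj_iff]
        apply hH'M
        rw [mem_cj_iff] at hy ⊢
        have h3 : g₀⁻¹ * (b⁻¹ * y * b) * g₀ = x⁻¹ * (g₀⁻¹ * y * g₀) * x := by
          rw [hb]; group
        rw [h3]
        have h4 := conj_mem_cj x⁻¹ H hy
        rw [hnorm _ (M.inv_mem hxM), inv_inv] at h4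
        exact h4
      obtain ⟨h₂, hh₂, hh₂b⟩ : ∃ h₂ ∈ cj g₀ H, h₂ ∉ cj b H := by
        by_contra hnot
        push Not at hnot
        have hle : cj g₀ H ≤ cj b H := hnot
        have heq : cj g₀ H = cj b H :=
          Subgroup.eq_of_le_of_card_ge hle (by rw [card_cj, card_cj])
        have h3 : cj (g₀⁻¹ * b) H = H := by
          rw [← cj_cj, ← heq, cj_inv_cj]
        have h4 := hNH _ h3
        have h5 : g₀⁻¹ * b = x * g₀⁻¹ := by rw [hb]; group
        rw [h5] at h4
        apply hg₀M
        have h6 : g₀ = (x * g₀⁻¹)⁻¹ * x := by group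
        rw [h6]
        exact M.mul_mem (M.inv_mem h4) hxM
      have e1 : h₁ ∈ cj b H := (hdich b hbM h₁ (hH'b hh₁)).resolve_left hh₁H
      have e2 : h₂ ∈ H := (hdich b hbM h₂ (hH'b hh₂)).resolve_right hh₂b
      rcases hdich b hbM (h₁ * h₂) (hH'b ((cj g₀ H).mul_mem hh₁ hh₂)) with e3 | e3
      · apply hh₁H
        have : h₁ = h₁ * h₂ * h₂⁻¹ := by group
        rw [this]
        exact H.mul_mem e3 (H.inv_mem e2)
      · apply hh₂b
        have : h₂ = h₁⁻¹ * (h₁ * h₂) := by group
        rw [this]
        exact (cj b H).mul_mem ((cj b H).inv_mem e1) e3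
    have hMle : M ≤ cj g₀⁻¹ M := by
      intro m hm
      rw [mem_cj_iff, inv_inv]
      by_cases hmH : m ∈ H
      · exact hH'M (conj_mem_cj g₀ H hmH)
      · exact hclaim m hm hmH
    have h3 : cj g₀ M ≤ M := (cj_le_iff_le_cj_inv g₀ M M).mpr hMle
    have h4 := cj_eq_of_le g₀ M h3
    apply hg₀M
    rw [← hNM, mem_normalizer_iff_cj]
    exact h4

end Aux

/-- Let G be a finite non-abelian simple group, M a maximal subgroup of G and H a normal subgroup of M of prime index in M. Then G is generated by H together with one of its conjugates. -/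
theorem result {G : Type*} [Group G] [Finite G] [IsSimpleGroup G] (hG : ¬ IsMulCommutative G) (M H : Subgroup G) (hmaxM : IsCoatom M) (hHM : H ≤ M) (hHn : (H.subgroupOf M).Normal) (hidx : (H.relIndex M).Prime) : ∃ g : G, H ⊔ H.map (MulAut.conj g).toMonoidHom = ⊤ := by
  exact flavell hG M H hmaxM hHM hHn hidx

end Cfsg.Agent.S3015
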