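import Cfsg.Statements.S3020
import Mathlib.Tactic.Group
import Cfsg.Agent.Lib.Helper18.Cores

set_option autoImplicit false
open Cfsg

namespace Cfsg.Agent.S3020

/-- Let G be a finite group, p a prime and H an abelian p-subgroup of G that is extremely closed (for every g, the subgroup generated by H and g H g⁻¹ meets N_G(H) exactly in H). Then for every g ∈ G, the subgroup T generated by H and g H g⁻¹ is the product of H with O_{p'}(T), and H meets O_{p'}(T) trivially; that is, O_{p'}(T) is a normal p-complement of H in T. -/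
theorem result {G : Type*} [Group G] [Finite G] {p : ℕ} [Fact p.Prime] (H : Subgroup G) (hHp : IsPGroup p H) (hHab : IsMulCommutative H) (hcl : Cfsg.IsExtremelyClosed H) (g : G) (T : Subgroup G) (hT : T = H ⊔ H.map (MulAut.conj g).toMonoidHom) : H ⊔ (Cfsg.pPrimeCore p ↥T).map T.subtype = T ∧ H ⊓ (Cfsg.pPrimeCore p ↥T).map T.subtype = ⊥ := by
  subst hT
  set T := H ⊔ H.map (MulAut.conj g).toMonoidHom with hTdef
  have hHT : H ≤ T := le_sup_left
  have hclg : T ⊓ Subgroup.normalizer (H : Set G) = H := hcl g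
  -- H.subgroupOf T is a Sylow p-subgroup of T
  have hHTp : IsPGroup p (H.subgroupOf T) := hHp.comap_subtype
  obtain ⟨S, hS⟩ := hHTp.exists_le_sylow
  have hSeq : (S : Subgroup T).map T.subtype = H := by
    have hle : H ≤ (S : Subgroup T).map T.subtype := by
      intro h hh
      exact ⟨⟨h, hHT hh⟩, hS (Subgroup.mem_subgroupOf.mpr hh), rfl⟩
    by_contra hne
    have hlt : H < (S : Subgroup T).map T.subtype := lt_of_le_of_ne hle (Ne.symm hne)
    have hSp : IsPGroup p ((S : Subgroup T).map T.subtype) := S.2.map _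
    obtain ⟨t, htS, htH, htN⟩ :=
      Cfsg.Agent.Lib.Helper18.exists_mem_normalizer_not_mem_of_lt H _ hSp hlt
    apply htH
    have htT : t ∈ T := by
      obtain ⟨s, _, rfl⟩ := htS
      exact s.2
    have : t ∈ T ⊓ Subgroup.normalizer (H : Set G) := ⟨htT, htN⟩
    rwa [hclg] at this
  have hScoe : (S : Subgroup T) = H.subgroupOf T := by
    ext t
    rw [Subgroup.mem_subgroupOf, ← hSeq]
    constructor
    · intro ht
      exact ⟨t, ht, rfl⟩
    · rintro ⟨s, hs, hst⟩
      have : s = t := Subtype.ext hst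
      rwa [← this]
  -- normalizer ≤ centralizer
  have hNC : Subgroup.normalizer ((S : Subgroup T) : Set T) ≤
      Subgroup.centralizer ((S : Subgroup T) : Set T) := by
    intro t ht
    rw [hScoe, ← Subgroup.subgroupOf_normalizer_eq hHT, Subgroup.mem_subgroupOf] at ht
    have htH : (t : G) ∈ H := by
      have : (t : G) ∈ T ⊓ Subgroup.normalizer (H : Set G) := ⟨t.2, ht⟩
      rwa [hclg] at this
    rw [hScoe]
    intro s hs
    rw [SetLike.mem_coe, Subgroup.mem_subgroupOf] at hs
    apply Subtype.ext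
    have h3 := hHab.is_comm.comm ⟨(s : G), hs⟩ ⟨(t : G), htH⟩
    have h4 : (s : G) * (t : G) = (t : G) * (s : G) := congrArg Subtype.val h3
    simpa using h4
  have hcompl := MonoidHom.ker_transferSylow_isComplement' S hNC
  set K := (MonoidHom.transferSylow S hNC).ker with hK
  have hcore : Cfsg.pPrimeCore p ↥T = K :=
    Cfsg.Agent.Lib.Helper18.pPrimeCore_eq_of_isComplement' S K hcompl
  rw [hcore]
  constructor
  · have h1 : K ⊔ (S : Subgroup T) = ⊤ := hcompl.sup_eq_top
    have h2 := congrArg (Subgroup.map T.subtype) h1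
    rw [Subgroup.map_sup, hSeq, ← MonoidHom.range_eq_map, Subgroup.range_subtype] at h2
    rw [sup_comm]
    exact h2
  · have h1 : Disjoint K (S : Subgroup T) := hcompl.disjoint
    rw [Subgroup.eq_bot_iff_forall]
    rintro x ⟨hxH, ⟨k, hkK, rfl⟩⟩
    have hkS : k ∈ (S : Subgroup T) := by
      rw [hScoe, Subgroup.mem_subgroupOf]; exact hxH
    have : k ∈ K ⊓ (S : Subgroup T) := ⟨hkK, hkS⟩
    rw [h1.eq_bot] at this
    have hk1 : k = 1 := Subgroup.mem_bot.mp this
    rw [hk1]; rfl

end Cfsg.Agent.S3020
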