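import Cfsg.Statements.S3021
import Mathlib.Tactic.Group
import Cfsg.Agent.Lib.Helper18.Basic

set_option autoImplicit false
open Cfsg

namespace Cfsg.Agent.S3021

theorem conj_eq_of_isPGroup_sup {G : Type*} [Group G] [Finite G] (p : ℕ) [Fact p.Prime]
    (H : Subgroup G) (hcl : Cfsg.IsExtremelyClosed H) (g : G)
    (hT : IsPGroup p ↥(H ⊔ H.map (MulAut.conj g).toMonoidHom)) :
    H.map (MulAut.conj g).toMonoidHom = H := by
  have hHT : H ≤ H ⊔ H.map (MulAut.conj g).toMonoidHom := le_sup_left
  have hEq : H = H ⊔ H.map (MulAut.conj g).toMonoidHom := by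
    by_contra hne
    have hlt : H < H ⊔ H.map (MulAut.conj g).toMonoidHom := lt_of_le_of_ne hHT hne
    obtain ⟨t, htT, htH, htN⟩ :=
      Cfsg.Agent.Lib.Helper18.exists_mem_normalizer_not_mem_of_lt H _ hT hlt
    apply htH
    have h1 : t ∈ (H ⊔ H.map (MulAut.conj g).toMonoidHom) ⊓ Subgroup.normalizer (H : Set G) :=
      ⟨htT, htN⟩
    have h2 := hcl g
    rw [h2] at h1
    exact h1
  have hle : H.map (MulAut.conj g).toMonoidHom ≤ H := by
    have : H.map (MulAut.conj g).toMonoidHom ≤ H ⊔ H.map (MulAut.conj g).toMonoidHom :=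
      le_sup_right
    rwa [← hEq] at this
  have hcard : Nat.card H ≤ Nat.card (H.map (MulAut.conj g).toMonoidHom) :=
    (Subgroup.card_map_of_injective (MulAut.conj g).injective).ge
  exact Subgroup.eq_of_le_of_card_ge hle hcard

/-- Let G be a finite group, p a prime and H a p-subgroup of G that is extremely closed (for every g, the subgroup generated by H and g H g⁻¹ meets N_G(H) exactly in H). Then every p-subgroup Q of G containing H has N_G(Q) ≤ N_G(H); in particular every Sylow p-subgroup P of G containing H normalizes H, and H is strongly closed in P with respect to G. -/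
theorem result {G : Type*} [Group G] [Finite G] {p : ℕ} [Fact p.Prime] (H : Subgroup G) (hHp : IsPGroup p H) (hcl : Cfsg.IsExtremelyClosed H) : (∀ Q : Subgroup G, IsPGroup p Q → H ≤ Q → Subgroup.normalizer (Q : Set G) ≤ Subgroup.normalizer (H : Set G)) ∧ ∀ P : Sylow p G, H ≤ (P : Subgroup G) → (P : Subgroup G) ≤ Subgroup.normalizer (H : Set G) ∧ Cfsg.IsStronglyClosed H (P : Subgroup G) := by
  have hA : ∀ Q : Subgroup G, IsPGroup p Q → H ≤ Q →
      Subgroup.normalizer (Q : Set G) ≤ Subgroup.normalizer (H : Set G) := by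
    intro Q hQ hHQ g hg
    rw [Subgroup.mem_normalizer_iff_map_conj_eq]
    apply conj_eq_of_isPGroup_sup p H hcl g
    have hgQ : Q.map (MulAut.conj g).toMonoidHom = Q :=
      Subgroup.mem_normalizer_iff_map_conj_eq.mp hg
    have hle : H ⊔ H.map (MulAut.conj g).toMonoidHom ≤ Q := by
      apply sup_le hHQ
      rw [← hgQ]
      exact Subgroup.map_mono hHQ
    exact hQ.to_le hle
  refine ⟨hA, ?_⟩
  intro P hHP
  have hPN : (P : Subgroup G) ≤ Subgroup.normalizer (H : Set G) :=
    Subgroup.le_normalizer.trans (hA P P.2 hHP)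
  refine ⟨hPN, hHP, ?_⟩
  intro x hx g hgP
  have h1 : g * x * g⁻¹ ∈ (H ⊔ H.map (MulAut.conj g).toMonoidHom) ⊓
      Subgroup.normalizer (H : Set G) := by
    refine ⟨?_, hPN hgP⟩
    apply Subgroup.mem_sup_right
    exact ⟨x, hx, rfl⟩
  rw [hcl g] at h1
  exact h1

end Cfsg.Agent.S3021
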