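import Cfsg.Statements.S3023
import Cfsg.Agent.S2897

set_option autoImplicit false
open Cfsg

namespace Cfsg.Agent.S3023

open Cfsg.Agent.Lib.Helper17 Cfsg.Agent.Lib.Helper9 Cfsg.Agent.Lib.Helper16

/-- A Sylow subgroup meets a subnormal subgroup in a Sylow subgroup (index form). -/
theorem not_dvd_relIndex_of_isSubnormal {G : Type*} [Group G] [Finite G] {p : ℕ} [Fact p.Prime]
    (S : Sylow p G) {H : Subgroup G} (hH : H.IsSubnormal) :
    ¬ p ∣ (S : Subgroup G).relIndex H := by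
  induction hH with
  | top =>
    rw [Subgroup.relIndex_top_right]
    exact S.not_dvd_index
  | step H K hHK _ hN ih =>
    intro hdvd
    apply ih
    haveI := hN
    have h1 := relIndex_dvd_index_of_normal_right' ((S : Subgroup G).subgroupOf K) (H.subgroupOf K)
    rw [Subgroup.relIndex_subgroupOf hHK] at h1
    exact hdvd.trans h1

/-- `F*` being a `p`-group passes to the intersection with a subnormal subgroup. -/
theorem isPGroup_gfs_inf_of_isSubnormal {G : Type*} [Group G] [Finite G] {p : ℕ} [Fact p.Prime]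
    (C : Subgroup G) (hC : IsPGroup p ↥(Cfsg.generalizedFittingSubgroup ↥C))
    {H : Subgroup G} (hH : H.IsSubnormal) :
    IsPGroup p ↥(Cfsg.generalizedFittingSubgroup ↥(C ⊓ H : Subgroup G)) := by
  induction hH with
  | top =>
    have e : (C ⊓ ⊤ : Subgroup G) = C := inf_top_eq C
    exact isPGroup_gfs_of_mulEquiv (MulEquiv.subgroupCongr e).symm hC
  | step H K hHK _ hN ih =>
    have hle : C ⊓ H ≤ C ⊓ K := inf_le_inf_left C hHK
    have hn : ((C ⊓ H).subgroupOf (C ⊓ K)).Normal := by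
      constructor
      intro x hx g
      rw [Subgroup.mem_subgroupOf] at hx ⊢
      obtain ⟨hxC, hxH⟩ := hx
      have hgC : (g : G) ∈ C := g.2.1
      have hgK : (g : G) ∈ K := g.2.2
      refine ⟨?_, ?_⟩
      · exact C.mul_mem (C.mul_mem hgC hxC) (C.inv_mem hgC)
      · have hxK : (x : G) ∈ K := hHK hxH
        have := hN.conj_mem ⟨(x : G), hxK⟩ (Subgroup.mem_subgroupOf.mpr hxH) ⟨(g : G), hgK⟩
        rw [Subgroup.mem_subgroupOf] at this
        exact this
    exact isPGroup_gfs_of_normal_le hle hn ih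

/-- Let p be a prime, G a finite group of parabolic characteristic p (every p-local subgroup containing a Sylow p-subgroup of G has characteristic p), S a Sylow p-subgroup of G and G₁ a subnormal subgroup of G. If the centre of S ∩ G₁ is nontrivial and contained in the centre of S, then G₁ has parabolic characteristic p. -/
theorem result {G : Type*} [Group G] [Finite G] {p : ℕ} [Fact p.Prime] (hG : Cfsg.IsOfParabolicCharacteristic p G) (S : Sylow p G) (G₁ : Subgroup G) (hsn : G₁.IsSubnormal) (hne : ((S : Subgroup G) ⊓ G₁) ⊓ Subgroup.centralizer (((S : Subgroup G) ⊓ G₁ : Subgroup G) : Set G) ≠ ⊥) (hle : ((S : Subgroup G) ⊓ G₁) ⊓ Subgroup.centralizer (((S : Subgroup G) ⊓ G₁ : Subgroup G) : Set G) ≤ (S : Subgroup G) ⊓ Subgroup.centralizer ((S : Subgroup G) : Set G)) : Cfsg.IsOfParabolicCharacteristic p ↥G₁ := by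
  have hidx : ¬ p ∣ ((S : Subgroup G).subgroupOf G₁).index :=
    not_dvd_relIndex_of_isSubnormal S hsn
  set S₁ : Sylow p ↥G₁ := (S.2.comap_subtype (K := G₁)).toSylow hidx with hS₁def
  have hS₁coe : (S₁ : Subgroup ↥G₁) = (S : Subgroup G).subgroupOf G₁ := rfl
  have hS₁ : (S₁ : Subgroup ↥G₁).map G₁.subtype = (S : Subgroup G) ⊓ G₁ := by
    rw [hS₁coe, Subgroup.subgroupOf_map_subtype]
  have hA : ((S : Subgroup G) ⊓ G₁) ≠ ⊥ := by
    intro h
    apply hne
    rw [h]
    exact bot_inf_eq _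
  have hAp : IsPGroup p ↥((S : Subgroup G) ⊓ G₁ : Subgroup G) := S.2.to_le inf_le_left
  have h1 : p ∣ Nat.card ↥((S : Subgroup G) ⊓ G₁ : Subgroup G) := by
    rcases hAp.card_eq_or_dvd with h | h
    · exact absurd (Subgroup.card_eq_one.mp h) hA
    · exact h
  have hdiv₁ : p ∣ Nat.card ↥G₁ := h1.trans (Subgroup.card_dvd_of_le inf_le_right)
  have hdiv : p ∣ Nat.card G := hdiv₁.trans (Subgroup.card_subgroup_dvd_card G₁)
  have key := (Cfsg.Agent.S2896.result hdiv₁ S₁ ⊥ bot_le).2.1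
  rw [key]
  intro z₁ hz₁1 hz₁Ω
  have hmapΩ : (Cfsg.omegaOne p ((S₁ : Subgroup ↥G₁) ⊓
      Subgroup.centralizer ((S₁ : Subgroup ↥G₁) : Set ↥G₁))).map G₁.subtype =
      Cfsg.omegaOne p (((S : Subgroup G) ⊓ G₁) ⊓
        Subgroup.centralizer (((S : Subgroup G) ⊓ G₁ : Subgroup G) : Set G)) := by
    rw [map_omegaOne, map_inf_centralizer, hS₁]
  have hzΩ' : (z₁ : G) ∈ Cfsg.omegaOne p (((S : Subgroup G) ⊓ G₁) ⊓
        Subgroup.centralizer (((S : Subgroup G) ⊓ G₁ : Subgroup G) : Set G)) := by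
    rw [← hmapΩ]
    exact ⟨z₁, hz₁Ω, rfl⟩
  have hzΩ : (z₁ : G) ∈ Cfsg.omegaOne p ((S : Subgroup G) ⊓
      Subgroup.centralizer ((S : Subgroup G) : Set G)) := by
    unfold Cfsg.omegaOne at hzΩ' ⊢
    refine Subgroup.closure_mono ?_ hzΩ'
    intro x hx
    exact ⟨hle hx.1, hx.2⟩
  have hz1 : (z₁ : G) ≠ 1 := fun h => hz₁1 (Subtype.ext h)
  have h1' := ((Cfsg.Agent.S2896.result hdiv S ⊥ bot_le).2.1.mp hG) (z₁ : G) hz1 hzΩ
  have h2 := isPGroup_gfs_of_eq_pCore h1'
  have h3 : IsPGroup p ↥(Cfsg.generalizedFittingSubgroup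
      ↥(Subgroup.centralizer ({(z₁ : G)} : Set G) ⊓ G₁ : Subgroup G)) :=
    isPGroup_gfs_inf_of_isSubnormal _ h2 hsn
  apply gfs_eq_pCore_of_isPGroup
  have e1 : ↥(Subgroup.centralizer ({z₁} : Set ↥G₁)) ≃*
      ↥((Subgroup.centralizer ({z₁} : Set ↥G₁)).map G₁.subtype) :=
    (Subgroup.centralizer ({z₁} : Set ↥G₁)).equivMapOfInjective G₁.subtype
      (Subgroup.subtype_injective _)
  have e2 : ↥((Subgroup.centralizer ({z₁} : Set ↥G₁)).map G₁.subtype) ≃*
      ↥(Subgroup.centralizer ({(z₁ : G)} : Set G) ⊓ G₁ : Subgroup G) :=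
    MulEquiv.subgroupCongr (Cfsg.Agent.S2897.map_centralizer_singleton G₁ z₁)
  exact isPGroup_gfs_of_mulEquiv (e1.trans e2).symm h3

end Cfsg.Agent.S3023
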