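import Cfsg.Statements.S3025
import Cfsg.Agent.Lib.Helper10.UniqueOrderP

set_option autoImplicit false
open Cfsg

namespace Cfsg.Agent.S3025

open Subgroup
open scoped Pointwise

universe u

variable {F : Type u} [Group F]

/-- The hypothesis: `H` lies in every nontrivial subgroup that it normalizes. -/
def Hyp (H : Subgroup F) : Prop :=
  ∀ R : Subgroup F, R ≠ ⊥ → H ≤ Subgroup.normalizer (R : Set F) → H ≤ R

theorem le_of_normal {H : Subgroup F} (hmin : Hyp H) (M : Subgroup F) (hM : M.Normal)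
    (hM1 : M ≠ ⊥) : H ≤ M := by
  apply hmin M hM1
  rw [Subgroup.normalizer_eq_top]
  exact le_top

theorem normalClosure_le_of_normal {H : Subgroup F} (hmin : Hyp H) (M : Subgroup F)
    (hM : M.Normal) (hM1 : M ≠ ⊥) : Subgroup.normalClosure (H : Set F) ≤ M :=
  Subgroup.normalClosure_le_normal (le_of_normal hmin M hM hM1)

/-- A nontrivial subgroup `T` normalized by `N = ⟨H^F⟩` contains `N`. -/
theorem normalClosure_le_of_normalized [Finite F] {H : Subgroup F} (hH : H ≠ ⊥) (hmin : Hyp H)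
    (T : Subgroup F) (hT1 : T ≠ ⊥)
    (hTN : Subgroup.normalClosure (H : Set F) ≤ Subgroup.normalizer (T : Set F)) :
    Subgroup.normalClosure (H : Set F) ≤ T := by
  set N := Subgroup.normalClosure (H : Set F) with hNdef
  have hNn : N.Normal := Subgroup.normalClosure_normal
  have hHN : H ≤ N := Subgroup.le_normalClosure
  -- `H` lies in every conjugate of `T`
  have hcore : H ≤ T.normalCore := by
    intro h hh
    show ∀ b : F, b * h * b⁻¹ ∈ T
    intro b
    -- consider `R = b⁻¹ T b`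
    set R : Subgroup F := T.map (MulAut.conj b⁻¹).toMonoidHom with hRdef
    have hR1 : R ≠ ⊥ := by
      intro h0
      apply hT1
      rw [hRdef, Subgroup.map_eq_bot_iff_of_injective _ (MulAut.conj b⁻¹).injective] at h0
      exact h0
    have hmemR : ∀ x : F, x ∈ R ↔ b * x * b⁻¹ ∈ T := by
      intro x
      rw [hRdef, Subgroup.mem_map]
      constructor
      · rintro ⟨t, ht, rfl⟩
        have : b * (MulAut.conj b⁻¹).toMonoidHom t * b⁻¹ = t := by
          simp
          group
        rw [this]; exact ht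
      · intro hx
        refine ⟨b * x * b⁻¹, hx, ?_⟩
        simp
        group
    have hHR : H ≤ Subgroup.normalizer (R : Set F) := by
      intro k hk
      apply Subgroup.mem_normalizer_fintype
      intro x hx
      have hx' : x ∈ R := hx
      rw [hmemR] at hx'
      show k * x * k⁻¹ ∈ R
      rw [hmemR]
      have hkN : b * k * b⁻¹ ∈ N := hNn.conj_mem k (hHN hk) b
      have h1 := (Subgroup.mem_normalizer_iff.mp (hTN hkN) (b * x * b⁻¹)).mp hx'
      have : b * (k * x * k⁻¹) * b⁻¹ = b * k * b⁻¹ * (b * x * b⁻¹) * (b * k * b⁻¹)⁻¹ := by group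
      rw [this]; exact h1
    have := hmin R hR1 hHR hh
    rwa [hmemR] at this
  have hcore1 : T.normalCore ≠ ⊥ := by
    intro h0
    apply hH
    rw [eq_bot_iff, ← h0]
    exact hcore
  exact (normalClosure_le_of_normal hmin _ (Subgroup.normalCore_normal T) hcore1).trans
    (Subgroup.normalCore_le T)

/-- `N = ⟨H^F⟩` is simple. -/
theorem isSimpleGroup_normalClosure [Finite F] {H : Subgroup F} (hH : H ≠ ⊥) (hmin : Hyp H) :
    IsSimpleGroup ↥(Subgroup.normalClosure (H : Set F)) := by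
  set N := Subgroup.normalClosure (H : Set F) with hNdef
  have hHN : H ≤ N := Subgroup.le_normalClosure
  have hN1 : N ≠ ⊥ := by
    intro h0
    apply hH
    rw [eq_bot_iff, ← h0]; exact hHN
  haveI : Nontrivial ↥N := (Subgroup.nontrivial_iff_ne_bot N).mpr hN1
  refine ⟨fun T hT => ?_⟩
  by_cases hT1 : T = ⊥
  · exact Or.inl hT1
  right
  set T' : Subgroup F := T.map N.subtype with hT'def
  have hT'1 : T' ≠ ⊥ := by
    intro h0
    apply hT1
    rw [hT'def, Subgroup.map_eq_bot_iff_of_injective _ N.subtype_injective] at h0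
    exact h0
  have hT'N : N ≤ Subgroup.normalizer (T' : Set F) := by
    intro n hn
    apply Subgroup.mem_normalizer_fintype
    rintro _ ⟨t, ht, rfl⟩
    refine ⟨⟨n, hn⟩ * t * ⟨n, hn⟩⁻¹, hT.conj_mem t ht ⟨n, hn⟩, ?_⟩
    simp
  have hle := normalClosure_le_of_normalized hH hmin T' hT'1 hT'N
  rw [eq_top_iff]
  intro x _
  obtain ⟨t, ht, htx⟩ := hle x.2
  have : t = x := Subtype.ext htx
  rw [← this]; exact ht

theorem coe_mem_zpowers_iff {K : Subgroup F} (x z : K) :
    (x : F) ∈ Subgroup.zpowers (z : F) ↔ x ∈ Subgroup.zpowers z := by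
  rw [Subgroup.mem_zpowers_iff, Subgroup.mem_zpowers_iff]
  constructor
  · rintro ⟨k, hk⟩
    exact ⟨k, Subtype.ext (by rw [Subgroup.coe_zpow]; exact hk)⟩
  · rintro ⟨k, hk⟩
    refine ⟨k, ?_⟩
    rw [← hk, Subgroup.coe_zpow]

theorem main [Finite F] (H : Subgroup F) (hH : H ≠ ⊥) (hmin : Hyp H) :
    ∃ N : Subgroup F, N.Normal ∧ N ≠ ⊥ ∧ (∀ M : Subgroup F, M.Normal → M ≠ ⊥ → N ≤ M) ∧
      IsSimpleGroup ↥N ∧
      (Subgroup.centralizer (N : Set F) = ⊥ ∨
       (H = N ∧ (Nat.card N).Prime ∧ IsCyclic ↥(Subgroup.centralizer (N : Set F)) ∧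
          (∃ k : ℕ, 1 ≤ k ∧ Nat.card ↥(Subgroup.centralizer (N : Set F)) = Nat.card N ^ k) ∧
          (∃ g : F, Subgroup.centralizer (N : Set F) ⊔ Subgroup.zpowers g = ⊤) ∧
          (Subgroup.centralizer (N : Set F)).index ∣ Nat.card N - 1) ∨
       (H = N ∧ Nat.card N = 2 ∧ Subgroup.centralizer (N : Set F) = ⊤ ∧
          ∃ k : ℕ, 1 ≤ k ∧ Nonempty (F ≃* QuaternionGroup (2 ^ k)))) := by
  classical
  set N := Subgroup.normalClosure (H : Set F) with hNdef
  haveI hNn : N.Normal := Subgroup.normalClosure_normal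
  have hHN : H ≤ N := Subgroup.le_normalClosure
  have hN1 : N ≠ ⊥ := by
    intro h0
    apply hH
    rw [eq_bot_iff, ← h0]; exact hHN
  have hNmin : ∀ M : Subgroup F, M.Normal → M ≠ ⊥ → N ≤ M := normalClosure_le_of_normal hmin
  haveI hNs : IsSimpleGroup ↥N := isSimpleGroup_normalClosure hH hmin
  refine ⟨N, hNn, hN1, hNmin, hNs, ?_⟩
  set C := Subgroup.centralizer (N : Set F) with hCdef
  have hCn : C.Normal := inferInstance
  by_cases hC1 : C = ⊥
  · exact Or.inl hC1
  right
  have hNC : N ≤ C := hNmin C hCn hC1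
  have hcomm : ∀ a b : ↥N, a * b = b * a := by
    intro a b
    have := (Subgroup.mem_centralizer_iff.mp (hNC a.2)) b b.2
    exact Subtype.ext this.symm
  have hprime : (Nat.card ↥N).Prime := by
    let _ : CommGroup ↥N := { (inferInstance : Group ↥N) with mul_comm := hcomm }
    exact IsSimpleGroup.prime_card
  haveI hfp : Fact (Nat.card ↥N).Prime := ⟨hprime⟩
  have hHeqN : H = N := by
    rcases Subgroup.eq_bot_or_eq_top_of_prime_card (H.subgroupOf N) with h1 | h1
    · exfalso
      apply hH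
      rw [Subgroup.subgroupOf_eq_bot] at h1
      rw [eq_bot_iff]
      intro x hx
      exact Subgroup.mem_bot.mpr (Subgroup.disjoint_def.mp h1 hx (hHN hx))
    · rw [Subgroup.subgroupOf_eq_top] at h1
      exact le_antisymm hHN h1
  -- every nontrivial subgroup of `C` contains `N`
  have hsub : ∀ R : Subgroup F, R ≠ ⊥ → R ≤ C → N ≤ R := by
    intro R hR1 hRC
    have h2 : H ≤ R := by
      apply hmin R hR1
      intro h hh
      apply Subgroup.mem_normalizer_fintype
      intro x hx
      have h1 := Subgroup.mem_centralizer_iff.mp (hRC hx) h (hHN hh)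
      have : h * x * h⁻¹ = x := by rw [h1, mul_inv_cancel_right]
      rw [this]; exact hx
    rwa [hHeqN] at h2
  have hordp : ∀ x ∈ C, x ≠ 1 → N ≤ Subgroup.zpowers x := fun x hx hx1 =>
    hsub (Subgroup.zpowers x) (by simpa using hx1) (Subgroup.zpowers_le.mpr hx)
  have hCcard : ∃ k : ℕ, 1 ≤ k ∧ Nat.card ↥C = Nat.card ↥N ^ k := by
    have hdvd : ∀ q : ℕ, q.Prime → q ∣ Nat.card ↥C → q = Nat.card ↥N := by
      intro q hq hqd
      haveI : Fact q.Prime := ⟨hq⟩
      obtain ⟨⟨y, hyC⟩, hy⟩ := exists_prime_orderOf_dvd_card' q hqd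
      have hy' : orderOf y = q := (Subgroup.orderOf_mk y hyC).symm.trans hy
      have hy1 : y ≠ 1 := by
        rintro rfl
        rw [orderOf_one] at hy'
        exact hq.one_lt.ne hy'
      have hle := hordp y hyC hy1
      have hd : Nat.card ↥N ∣ q := by
        have := Subgroup.card_dvd_of_le hle
        rwa [Nat.card_zpowers, hy'] at this
      exact ((Nat.prime_dvd_prime_iff_eq hprime hq).mp hd).symm
    have hk := Nat.eq_prime_pow_of_unique_prime_dvd Nat.card_pos.ne'
      (fun {q} hq hqd => hdvd q hq hqd)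
    refine ⟨_, ?_, hk⟩
    by_contra hlt
    have h0 : (Nat.card ↥C).primeFactorsList.length = 0 := by omega
    rw [h0, pow_zero] at hk
    exact hC1 (Subgroup.card_eq_one.mp hk)
  obtain ⟨k, hk1, hCk⟩ := hCcard
  have hCp : IsPGroup (Nat.card ↥N) ↥C := IsPGroup.of_card hCk
  have hu : Cfsg.Agent.Lib.Helper10.UniqueOrderP (Nat.card ↥N) ↥C := by
    intro x y hx hx1 hy
    by_cases hy1 : y = 1
    · rw [hy1]; exact Subgroup.one_mem _
    have hkey : ∀ w : ↥C, w ^ Nat.card ↥N = 1 → w ≠ 1 → Subgroup.zpowers (w : F) = N := by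
      intro w hw hw1
      have hw1' : (w : F) ≠ 1 := fun h0 => hw1 (Subtype.ext h0)
      have how : orderOf (w : F) = Nat.card ↥N := by
        rw [Subgroup.orderOf_coe]; exact orderOf_eq_prime hw hw1
      symm
      apply Subgroup.eq_of_le_of_card_ge (hordp w w.2 hw1')
      rw [Nat.card_zpowers, how]
    have h1 : (y : F) ∈ Subgroup.zpowers (x : F) := by
      rw [hkey x hx hx1, ← hkey y hy hy1]; exact Subgroup.mem_zpowers _
    exact (coe_mem_zpowers_iff y x).mp h1
  -- the quotient `F / C` embeds in `Aut N`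
  let φ : F →* MulAut ↥N := MulAut.conjNormal
  have hker : φ.ker = C := by
    ext g
    rw [MonoidHom.mem_ker, hCdef, Subgroup.mem_centralizer_iff]
    constructor
    · intro hg n hn
      have h1 : ((φ g ⟨n, hn⟩ : ↥N) : F) = n := by rw [hg]; rfl
      rw [MulAut.conjNormal_apply] at h1
      calc n * g = (g * n * g⁻¹) * g := by rw [h1]
        _ = g * n := by group
    · intro hg
      ext n
      rw [MulAut.conjNormal_apply]
      have h1 := hg n n.2
      show g * ↑n * g⁻¹ = ↑n
      rw [← h1, mul_inv_cancel_right]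
  haveI hNcyc : IsCyclic ↥N := isCyclic_of_prime_card rfl
  haveI hAcyc : IsCyclic (MulAut ↥N) :=
    isCyclic_of_surjective (IsCyclic.mulAutMulEquiv ↥N).symm (IsCyclic.mulAutMulEquiv ↥N).symm.surjective
  have hAcard : Nat.card (MulAut ↥N) = Nat.card ↥N - 1 := by
    rw [IsCyclic.card_mulAut, Nat.totient_prime hprime]
  have hidx : C.index ∣ Nat.card ↥N - 1 := by
    rw [← hker, Subgroup.index_ker, ← hAcard]
    exact Subgroup.card_subgroup_dvd_card _
  have hgen : ∃ g : F, C ⊔ Subgroup.zpowers g = ⊤ := by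
    haveI : IsCyclic ↥φ.range := Subgroup.isCyclic _
    obtain ⟨⟨_, g, rfl⟩, hg⟩ := IsCyclic.exists_generator (α := ↥φ.range)
    refine ⟨g, ?_⟩
    rw [eq_top_iff]
    intro f _
    obtain ⟨j, hj⟩ := Subgroup.mem_zpowers_iff.mp (hg ⟨φ f, f, rfl⟩)
    have h1 : φ (g ^ j) = φ f := by
      have := congrArg Subtype.val hj
      rw [map_zpow]
      simpa using this
    have h2 : f * (g ^ j)⁻¹ ∈ C := by
      rw [← hker, MonoidHom.mem_ker, map_mul, map_inv, h1, mul_inv_cancel]
    have : f = (f * (g ^ j)⁻¹) * g ^ j := by group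
    rw [this]
    exact Subgroup.mul_mem _ (Subgroup.mem_sup_left h2)
      (Subgroup.mem_sup_right (Subgroup.zpow_mem_zpowers g j))
  rcases Cfsg.Agent.Lib.Helper10.isCyclic_or_quaternion_of_uniqueOrderP hCp hu with hcyc | ⟨h2, n, ⟨e⟩⟩
  · exact Or.inl ⟨hHeqN, hprime, hcyc, ⟨k, hk1, hCk⟩, hgen, hidx⟩
  · by_cases hcyc : IsCyclic ↥C
    · exact Or.inl ⟨hHeqN, hprime, hcyc, ⟨k, hk1, hCk⟩, hgen, hidx⟩
    right
    have hCtop : C = ⊤ := by
      rw [h2] at hidx
      have : C.index = 1 := Nat.dvd_one.mp hidx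
      exact Subgroup.index_eq_one.mp this
    have hn1 : 1 ≤ n := by
      by_contra hlt
      have hn0 : n = 0 := by omega
      subst hn0
      apply hcyc
      haveI := QuaternionGroup.quaternionGroup_one_isCyclic
      exact isCyclic_of_surjective e.symm e.symm.surjective
    refine ⟨hHeqN, h2, hCtop, n, hn1, ⟨?_⟩⟩
    exact ((MulEquiv.subgroupCongr hCtop).trans Subgroup.topEquiv).symm.trans e

/-- If H ≠ 1 lies in every nontrivial subgroup it normalizes, then the group has a unique minimal normal subgroup N, N is simple, and C(N) = 1, or H = N ≅ Z_p with C(N) a cyclic p-group and cyclic quotient of order dividing p − 1, or H = N ≅ Z₂ and the group is generalized quaternion. -/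
theorem result {F : Type*} [Group F] [Finite F] (H : Subgroup F) (hH : H ≠ ⊥)
    (hmin : ∀ R : Subgroup F, R ≠ ⊥ → H ≤ Subgroup.normalizer (R : Set F) → H ≤ R) :
    ∃ N : Subgroup F, N.Normal ∧ N ≠ ⊥ ∧ (∀ M : Subgroup F, M.Normal → M ≠ ⊥ → N ≤ M) ∧ IsSimpleGroup ↥N ∧
      (Subgroup.centralizer (N : Set F) = ⊥ ∨
       (H = N ∧ (Nat.card N).Prime ∧ IsCyclic ↥(Subgroup.centralizer (N : Set F)) ∧
          (∃ k : ℕ, 1 ≤ k ∧ Nat.card ↥(Subgroup.centralizer (N : Set F)) = Nat.card N ^ k) ∧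
          (∃ g : F, Subgroup.centralizer (N : Set F) ⊔ Subgroup.zpowers g = ⊤) ∧
          (Subgroup.centralizer (N : Set F)).index ∣ Nat.card N - 1) ∨
       (H = N ∧ Nat.card N = 2 ∧ Subgroup.centralizer (N : Set F) = ⊤ ∧
          ∃ k : ℕ, 1 ≤ k ∧ Nonempty (F ≃* QuaternionGroup (2 ^ k)))) :=
  main H hH hmin

end Cfsg.Agent.S3025
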