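import Cfsg.Statements.S3027
import Mathlib.GroupTheory.IsSubnormal
import Mathlib.Data.Set.Finite.Lemmas
import Mathlib.GroupTheory.Commutator.Basic
import Mathlib.Tactic.Group
import Cfsg.Agent.Lib.Helper18.Conj

set_option autoImplicit false
open Cfsg

namespace Cfsg.Agent.S3027

section Aux
open Subgroup
open scoped commutatorElement
open Cfsg.Agent.Lib.Helper18

variable {G : Type*} [Group G]

theorem cj_sup' (g : G) (X Y : Subgroup G) : cj g (X ⊔ Y) = cj g X ⊔ cj g Y :=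
  Subgroup.map_sup X Y _

theorem cj_normal (g : G) (D : Subgroup G) [hD : D.Normal] : cj g D = D := by
  ext y
  rw [mem_cj_iff]
  constructor
  · intro h
    have := hD.conj_mem _ h g
    have e : g * (g⁻¹ * y * g) * g⁻¹ = y := by group
    rwa [e] at this
  · intro h
    have := hD.conj_mem _ h g⁻¹
    rwa [inv_inv] at this

theorem cj_top (g : G) : cj g (⊤ : Subgroup G) = ⊤ := cj_normal g ⊤

/-- Lemma A. -/
theorem inf_sup_eq_top (D K B₁ B₂ : Subgroup G) [hD : D.Normal]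
    (hperf : ⁅(⊤ : Subgroup G), (⊤ : Subgroup G)⁆ ⊔ D = ⊤)
    (h₁K : B₁ ≤ K) (h₂K : B₂ ≤ K) (hn₁ : K ≤ Subgroup.normalizer (B₁ : Set G))
    (hn₂ : K ≤ Subgroup.normalizer (B₂ : Set G))
    (h₁ : B₁ ⊔ D = ⊤) (h₂ : B₂ ⊔ D = ⊤) : (B₁ ⊓ B₂) ⊔ D = ⊤ := by
  rw [eq_top_iff, ← hperf]
  refine sup_le ?_ le_sup_right
  rw [Subgroup.commutator_le]
  intro x _ y _
  have hx : x ∈ ((B₁ ⊔ D : Subgroup G) : Set G) := by rw [h₁]; trivial
  have hy : y ∈ ((B₂ ⊔ D : Subgroup G) : Set G) := by rw [h₂]; trivial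
  rw [Subgroup.mul_normal] at hx hy
  obtain ⟨b₁, hb₁, d₁, hd₁, rfl⟩ := hx
  obtain ⟨b₂, hb₂, d₂, hd₂, rfl⟩ := hy
  have hb₁' : b₁ ∈ B₁ := hb₁
  have hb₂' : b₂ ∈ B₂ := hb₂
  have hd₁' : d₁ ∈ D := hd₁
  have hd₂' : d₂ ∈ D := hd₂
  have hc : ⁅b₁, b₂⁆ ∈ B₁ ⊓ B₂ := by
    constructor
    · have : b₂ * b₁⁻¹ * b₂⁻¹ ∈ B₁ :=
        (Subgroup.mem_normalizer_iff.mp (hn₁ (h₂K hb₂')) b₁⁻¹).mp (B₁.inv_mem hb₁')
      have e : ⁅b₁, b₂⁆ = b₁ * (b₂ * b₁⁻¹ * b₂⁻¹) := by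
        rw [commutatorElement_def]; group
      rw [e]
      exact B₁.mul_mem hb₁' this
    · have : b₁ * b₂ * b₁⁻¹ ∈ B₂ :=
        (Subgroup.mem_normalizer_iff.mp (hn₂ (h₁K hb₁')) b₂).mp hb₂'
      have e : ⁅b₁, b₂⁆ = (b₁ * b₂ * b₁⁻¹) * b₂⁻¹ := by
        rw [commutatorElement_def]
      rw [e]
      exact B₂.mul_mem this (B₂.inv_mem hb₂')
  have hq : (⁅b₁, b₂⁆)⁻¹ * ⁅b₁ * d₁, b₂ * d₂⁆ ∈ D := by
    rw [← QuotientGroup.eq]
    have e1 : ((b₁ * d₁ : G) : G ⧸ D) = (b₁ : G ⧸ D) := by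
      rw [eq_comm, QuotientGroup.eq]; simpa using hd₁'
    have e2 : ((b₂ * d₂ : G) : G ⧸ D) = (b₂ : G ⧸ D) := by
      rw [eq_comm, QuotientGroup.eq]; simpa using hd₂'
    have := map_commutatorElement (QuotientGroup.mk' D) (b₁ * d₁) (b₂ * d₂)
    have h3 := map_commutatorElement (QuotientGroup.mk' D) b₁ b₂
    simp only [QuotientGroup.mk'_apply] at this h3
    rw [this, h3, e1, e2]
  have e : ⁅b₁ * d₁, b₂ * d₂⁆ = ⁅b₁, b₂⁆ * ((⁅b₁, b₂⁆)⁻¹ * ⁅b₁ * d₁, b₂ * d₂⁆) := by group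
  rw [e]
  exact Subgroup.mul_mem _ ((le_sup_left : B₁ ⊓ B₂ ≤ (B₁ ⊓ B₂) ⊔ D) hc)
    ((le_sup_right : D ≤ (B₁ ⊓ B₂) ⊔ D) hq)

theorem cj_inf (g : G) (X Y : Subgroup G) : cj g (X ⊓ Y) = cj g X ⊓ cj g Y := by
  ext y
  simp only [mem_cj_iff, Subgroup.mem_inf]

/-- Lemma B. -/
theorem exists_normal_le_of_depth_two [Finite G] (D N C : Subgroup G) [hD : D.Normal]
    [hN : N.Normal] (hperf : ⁅(⊤ : Subgroup G), (⊤ : Subgroup G)⁆ ⊔ D = ⊤)
    (hCN : C ≤ N) (hn : N ≤ Subgroup.normalizer (C : Set G)) (hC : C ⊔ D = ⊤) :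
    ∃ X : Subgroup G, X.Normal ∧ X ≤ C ∧ X ⊔ D = ⊤ := by
  classical
  let 𝒳 : Set (Subgroup G) :=
    {X | X ≤ C ∧ N ≤ Subgroup.normalizer (X : Set G) ∧ X ⊔ D = ⊤}
  have hne : 𝒳.Nonempty := ⟨C, le_rfl, hn, hC⟩
  obtain ⟨X, hX, hmin⟩ := Set.exists_min_image 𝒳 (fun X => Nat.card X) (Set.toFinite _) hne
  obtain ⟨hXC, hXn, hXD⟩ := hX
  have hkey : ∀ g : G, X ≤ cj g C := by
    intro g
    have h1 : cj g C ≤ N := by
      intro y hy
      rw [mem_cj_iff] at hy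
      have := hN.conj_mem _ (hCN hy) g
      have e : g * (g⁻¹ * y * g) * g⁻¹ = y := by group
      rwa [e] at this
    have h2 : N ≤ Subgroup.normalizer ((cj g C : Subgroup G) : Set G) := by
      intro n hnN
      rw [mem_normalizer_iff_cj, cj_cj]
      have e : n * g = g * (g⁻¹ * n * g) := by group
      have hn' : g⁻¹ * n * g ∈ N := by
        have := hN.conj_mem _ hnN g⁻¹
        rwa [inv_inv] at this
      rw [e, ← cj_cj, (mem_normalizer_iff_cj _ C).mp (hn hn')]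
    have h3 : cj g C ⊔ D = ⊤ := by
      have := congrArg (cj g) hC
      rwa [cj_sup', cj_normal g D, cj_top] at this
    have h4 : (X ⊓ cj g C) ⊔ D = ⊤ :=
      inf_sup_eq_top D N X (cj g C) hperf (hXC.trans hCN) h1 hXn h2 hXD h3
    have h5 : X ⊓ cj g C ∈ 𝒳 := by
      refine ⟨inf_le_left.trans hXC, ?_, h4⟩
      intro n hnN
      rw [mem_normalizer_iff_cj, cj_inf, (mem_normalizer_iff_cj _ X).mp (hXn hnN),
        (mem_normalizer_iff_cj _ _).mp (h2 hnN)]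
    have h6 := hmin _ h5
    have h7 : X ⊓ cj g C = X := Subgroup.eq_of_le_of_card_ge inf_le_left h6
    rw [← h7]
    exact inf_le_right
  refine ⟨C.normalCore, inferInstance, C.normalCore_le, ?_⟩
  rw [eq_top_iff, ← hXD]
  refine sup_le_sup_right ?_ D
  intro a ha b
  have := hkey b⁻¹ ha
  rw [mem_cj_iff, inv_inv] at this
  exact this

/-- Lemma C. -/
theorem exists_normal_le_of_subnormal [Finite G] (D : Subgroup G) [hD : D.Normal]
    (hperf : ⁅(⊤ : Subgroup G), (⊤ : Subgroup G)⁆ ⊔ D = ⊤) (B : Subgroup G)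
    (hB : B.IsSubnormal) : B ⊔ D = ⊤ → ∃ X : Subgroup G, X.Normal ∧ X ≤ B ∧ X ⊔ D = ⊤ := by
  induction hB with
  | top => intro _; exact ⟨⊤, inferInstance, le_rfl, top_sup_eq _⟩
  | step H K h_le hSubn hN ih =>
    intro hH
    have hK : K ⊔ D = ⊤ := by
      rw [eq_top_iff, ← hH]
      exact sup_le_sup_right h_le D
    obtain ⟨N, hNn, hNK, hND⟩ := ih hK
    have hKH : K ≤ Subgroup.normalizer (H : Set G) :=
      (Subgroup.normal_subgroupOf_iff_le_normalizer h_le).mp hN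
    have hKN : K ≤ Subgroup.normalizer (N : Set G) := by
      rw [Subgroup.normalizer_eq_top_iff.mpr hNn]; exact le_top
    have h1 : (H ⊓ N) ⊔ D = ⊤ := inf_sup_eq_top D K H N hperf h_le hNK hKH hKN hH hND
    have h2 : N ≤ Subgroup.normalizer ((H ⊓ N : Subgroup G) : Set G) := by
      intro n hn
      rw [mem_normalizer_iff_cj, cj_inf, (mem_normalizer_iff_cj _ H).mp (hKH (hNK hn)),
        cj_normal n N]
    obtain ⟨X, hXn, hXle, hXD⟩ :=
      exists_normal_le_of_depth_two D N (H ⊓ N) hperf inf_le_right h2 h1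
    exact ⟨X, hXn, hXle.trans inf_le_left, hXD⟩

theorem main [Finite G] (D : Subgroup G) [D.Normal]
    (hperf : ⁅(⊤ : Subgroup G), (⊤ : Subgroup G)⁆ ⊔ D = ⊤) :
    ∃ B : Subgroup G, B.Normal ∧ B ⊔ D = ⊤ ∧
      ∀ B' : Subgroup G, B'.IsSubnormal → B' ⊔ D = ⊤ → B ≤ B' := by
  classical
  let 𝒩 : Set (Subgroup G) := {X | X.Normal ∧ X ⊔ D = ⊤}
  have hne : 𝒩.Nonempty := ⟨⊤, inferInstance, top_sup_eq _⟩
  obtain ⟨B, hB, hmin⟩ := Set.exists_min_image 𝒩 (fun X => Nat.card X) (Set.toFinite _) hne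
  obtain ⟨hBn, hBD⟩ := hB
  refine ⟨B, hBn, hBD, ?_⟩
  intro B' hB' hB'D
  obtain ⟨X, hXn, hXle, hXD⟩ := exists_normal_le_of_subnormal D hperf B' hB' hB'D
  have hBtop : (⊤ : Subgroup G) ≤ Subgroup.normalizer (B : Set G) := by
    rw [Subgroup.normalizer_eq_top_iff.mpr hBn]
  have hXtop : (⊤ : Subgroup G) ≤ Subgroup.normalizer (X : Set G) := by
    rw [Subgroup.normalizer_eq_top_iff.mpr hXn]
  have h1 : (B ⊓ X) ⊔ D = ⊤ := inf_sup_eq_top D ⊤ B X hperf le_top le_top hBtop hXtop hBD hXD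
  have h2 : B ⊓ X ∈ 𝒩 := ⟨Subgroup.normal_inf_normal B X, h1⟩
  have h3 := hmin _ h2
  have h4 : B ⊓ X = B := Subgroup.eq_of_le_of_card_ge inf_le_left h3
  rw [← h4]
  exact inf_le_right.trans hXle

end Aux

/-- Let G be a finite group and D a normal subgroup of G such that G/D is perfect (that is, G = G′D). Then among the subnormal subgroups B of G with BD = G there is a least one, and it is normal in G. -/
theorem result {G : Type*} [Group G] [Finite G] (D : Subgroup G) [D.Normal] (hperf : ⁅(⊤ : Subgroup G), (⊤ : Subgroup G)⁆ ⊔ D = ⊤) :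
    ∃ B : Subgroup G, B.Normal ∧ B ⊔ D = ⊤ ∧ ∀ B' : Subgroup G, B'.IsSubnormal → B' ⊔ D = ⊤ → B ≤ B' := by
  exact main D hperf

end Cfsg.Agent.S3027
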