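import Cfsg.Statements.S3028
import Cfsg.Agent.Lib.Helper20.Subnormal
import Cfsg.Agent.Lib.Helper17.PResidual
import Cfsg.Agent.Lib.Helper1.Frattini

set_option autoImplicit false
open Cfsg

namespace Cfsg.Agent.S3028

open Subgroup Cfsg.Agent.Lib.Helper20 Cfsg.Agent.Lib.Helper17

universe u

/-- for `N` normal and any subgroup `S` of a finite group, `[N : S ∩ N]` divides `[G : S]` -/
theorem relIndex_dvd_index_of_normal_right {K : Type*} [Group K] [Finite K] (S N : Subgroup K) [N.Normal] :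
    S.relIndex N ∣ S.index := by
  have h1 : (S ⊓ N).relIndex N * N.relIndex (S ⊔ N) = (S ⊓ N).relIndex (S ⊔ N) :=
    Subgroup.relIndex_mul_relIndex _ _ _ inf_le_right le_sup_right
  have h2 : (S ⊓ N).relIndex S * S.relIndex (S ⊔ N) = (S ⊓ N).relIndex (S ⊔ N) :=
    Subgroup.relIndex_mul_relIndex _ _ _ inf_le_left le_sup_left
  have h3 : N.relIndex (S ⊔ N) = N.relIndex S := Subgroup.relIndex_sup_right S N
  have h4 : (S ⊓ N).relIndex S = N.relIndex S := Subgroup.inf_relIndex_left S N
  have h5 : (S ⊓ N).relIndex N = S.relIndex N := Subgroup.inf_relIndex_right S N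
  have h6 : N.relIndex S ≠ 0 := by
    unfold Subgroup.relIndex
    exact Subgroup.index_ne_zero_of_finite
  rw [h3, h5] at h1
  rw [h4] at h2
  have h7 : S.relIndex N = S.relIndex (S ⊔ N) := by
    have : S.relIndex N * N.relIndex S = N.relIndex S * S.relIndex (S ⊔ N) := by rw [h1, h2]
    rw [mul_comm] at this
    exact Nat.eq_of_mul_eq_mul_left (Nat.pos_of_ne_zero h6) this
  rw [h7]
  exact Subgroup.relIndex_dvd_index_of_le le_sup_left

theorem not_dvd_relIndex_of_isSubnormal {G : Type*} [Group G] [Finite G] (p : ℕ) [Fact p.Prime]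
    (S : Sylow p G) (H : Subgroup G) (hH : H.IsSubnormal) : ¬ p ∣ (S : Subgroup G).relIndex H := by
  induction hH with
  | top =>
    rw [Subgroup.relIndex_top_right]
    exact S.not_dvd_index
  | step H K h_le hSubn hN ih =>
    have h1 := relIndex_dvd_index_of_normal_right ((S : Subgroup G).subgroupOf K) (H.subgroupOf K)
    rw [Subgroup.relIndex_subgroupOf h_le] at h1
    intro h2
    exact ih (h2.trans h1)

/-- A Sylow p-subgroup of a finite group meets every subnormal subgroup H in a Sylow p-subgroup of H. -/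
theorem exists_sylow_subgroupOf {G : Type*} [Group G] [Finite G] (p : ℕ) [Fact p.Prime] (H : Subgroup G)
    (hH : H.IsSubnormal) (S : Sylow p G) :
    ∃ Q : Sylow p H, (Q : Subgroup H) = (S : Subgroup G).subgroupOf H := by
  have hp : IsPGroup p ((S : Subgroup G).subgroupOf H) := S.isPGroup'.comap_subtype
  exact ⟨hp.toSylow (not_dvd_relIndex_of_isSubnormal p S H hH), rfl⟩

/-- A `p`-subgroup `X` of a subnormal subgroup `A` containing `A ⊓ S` (`S` Sylow in `G`) lies in `S`. -/
theorem le_sylow_of_isPGroup {G : Type u} [Group G] [Finite G] {p : ℕ} [Fact p.Prime] (S : Sylow p G)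
    {A X : Subgroup G} (hA : A.IsSubnormal) (hXA : X ≤ A) (hX : IsPGroup p X)
    (h : A ⊓ (S : Subgroup G) ≤ X) : X ≤ (S : Subgroup G) := by
  obtain ⟨Q, hQ⟩ := exists_sylow_subgroupOf p A hA S
  have hXp : IsPGroup p (X.subgroupOf A) := hX.comap_subtype
  have hle : (Q : Subgroup A) ≤ X.subgroupOf A := by
    intro y hy
    rw [hQ, mem_subgroupOf] at hy
    rw [mem_subgroupOf]
    exact h ⟨y.2, hy⟩
  have heq : X.subgroupOf A = Q := Q.is_maximal' hXp hle
  intro x hx
  have h1 : (⟨x, hXA hx⟩ : A) ∈ X.subgroupOf A := by rw [mem_subgroupOf]; exact hx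
  rw [heq, hQ, mem_subgroupOf] at h1
  exact h1

/-- Images: `π(A) ⊓ π(S) ≤ π(A ⊓ S)` for `A` subnormal, `S` Sylow, `π` surjective. -/
theorem map_inf_sylow_le {G G' : Type u} [Group G] [Finite G] [Group G'] {p : ℕ} [Fact p.Prime]
    (S : Sylow p G) {A : Subgroup G} (hA : A.IsSubnormal) (π : G →* G') :
    A.map π ⊓ (S : Subgroup G).map π ≤ (A ⊓ (S : Subgroup G)).map π := by
  obtain ⟨Q, hQ⟩ := exists_sylow_subgroupOf p A hA S
  have hsurj : Function.Surjective (π.subgroupMap A) := π.subgroupMap_surjective A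
  haveI : Finite (A.map π) := Finite.of_surjective _ hsurj
  let Qb : Sylow p (A.map π) := Q.mapSurjective hsurj
  have hYp : IsPGroup p (((S : Subgroup G).map π).subgroupOf (A.map π)) :=
    (S.isPGroup'.map π).comap_subtype
  have hle : (Qb : Subgroup (A.map π)) ≤ ((S : Subgroup G).map π).subgroupOf (A.map π) := by
    intro y hy
    rw [Sylow.coe_mapSurjective] at hy
    obtain ⟨q, hq, rfl⟩ := hy
    rw [SetLike.mem_coe, hQ, mem_subgroupOf] at hq
    rw [mem_subgroupOf]
    exact ⟨(q : G), hq, rfl⟩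
  have heq : ((S : Subgroup G).map π).subgroupOf (A.map π) = Qb := Qb.is_maximal' hYp hle
  rintro y ⟨hyA, hyS⟩
  have h1 : (⟨y, hyA⟩ : A.map π) ∈ ((S : Subgroup G).map π).subgroupOf (A.map π) := by
    rw [mem_subgroupOf]; exact hyS
  rw [heq, Sylow.coe_mapSurjective] at h1
  obtain ⟨q, hq, hqy⟩ := h1
  rw [SetLike.mem_coe, hQ, mem_subgroupOf] at hq
  refine ⟨(q : G), ⟨q.2, hq⟩, ?_⟩
  have := congrArg Subtype.val hqy
  simpa using this

/-- `O^p(G)` lies in the kernel of every homomorphism to a `p`-group. -/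
theorem pResidual_le_ker {G A : Type*} [Group G] [Group A] {p : ℕ} [Fact p.Prime] (f : G →* A)
    (hA : IsPGroup p A) : pResidual p G ≤ f.ker := by
  unfold pResidual
  rw [closure_le]
  intro g hg
  rw [SetLike.mem_coe, MonoidHom.mem_ker]
  have h1 : (orderOf (f g)).Coprime p :=
    Nat.Coprime.coprime_dvd_left (orderOf_map_dvd f g) hg
  obtain ⟨k, hk⟩ := hA (f g)
  have h2 : orderOf (f g) ∣ p ^ k := orderOf_dvd_of_pow_eq_one hk
  have h3 : orderOf (f g) = 1 := Nat.Coprime.eq_one_of_dvd (Nat.Coprime.pow_right k h1) h2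
  exact orderOf_eq_one_iff.1 h3

/-- A central `p`-element of `O^p(G)` inside the Sylow subgroup `S` lies in `S'`. -/
theorem central_mem_commutator {G : Type u} [Group G] [Finite G] {p : ℕ} [Fact p.Prime] (S : Sylow p G)
    {m : G} (hmZ : m ∈ center G) (hmS : m ∈ (S : Subgroup G)) (hmL : m ∈ pResidual p G) :
    (⟨m, hmS⟩ : (S : Subgroup G)) ∈ _root_.commutator (S : Subgroup G) := by
  let ϕ : (S : Subgroup G) →* Abelianization (S : Subgroup G) := Abelianization.of
  have hAp : IsPGroup p (Abelianization (S : Subgroup G)) := by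
    have : IsPGroup p (S : Subgroup G) := S.isPGroup'
    exact this.to_quotient _
  have hker := pResidual_le_ker (MonoidHom.transfer ϕ) hAp hmL
  rw [MonoidHom.mem_ker] at hker
  have key : ∀ (k : ℕ) (g₀ : G), g₀⁻¹ * m ^ k * g₀ ∈ (S : Subgroup G) → g₀⁻¹ * m ^ k * g₀ = m ^ k := by
    intro k g₀ _
    have hc : m ^ k ∈ center G := pow_mem hmZ k
    have := mem_center_iff.mp hc g₀
    rw [mul_assoc, ← this, inv_mul_cancel_left]
  rw [MonoidHom.transfer_eq_pow ϕ m key] at hker
  have h1 : (⟨m ^ (S : Subgroup G).index, MonoidHom.transfer_eq_pow_aux m key⟩ : (S : Subgroup G)) ∈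
      _root_.commutator (S : Subgroup G) := by
    rw [← Abelianization.ker_of (S : Subgroup G)]
    exact hker
  -- m is a power of m ^ index
  obtain ⟨k, hk⟩ := S.isPGroup' ⟨m, hmS⟩
  have hord : orderOf (⟨m, hmS⟩ : (S : Subgroup G)) ∣ p ^ k := orderOf_dvd_of_pow_eq_one hk
  have hcop : ((S : Subgroup G).index).Coprime (orderOf (⟨m, hmS⟩ : (S : Subgroup G))) := by
    have h2 : (p ^ k).Coprime (S : Subgroup G).index :=
      Nat.Coprime.pow_left k ((Nat.Prime.coprime_iff_not_dvd Fact.out).mpr S.not_dvd_index)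
    exact (Nat.Coprime.coprime_dvd_left hord h2).symm
  obtain ⟨j, hj⟩ := exists_pow_eq_self_of_coprime hcop
  have h3 : (⟨m ^ (S : Subgroup G).index, MonoidHom.transfer_eq_pow_aux m key⟩ : (S : Subgroup G)) =
      (⟨m, hmS⟩ : (S : Subgroup G)) ^ (S : Subgroup G).index := by
    apply Subtype.ext; simp
  rw [← hj, ← h3]
  exact pow_mem h1 j


/-- If `M ≤ N(A₁), N(A₂)` is normal then `(M ⊓ A₁) ⊔ (M ⊓ A₂)` is normalized by `A₁` and `A₂`. -/
theorem normal_inf_sup_inf {G : Type u} [Group G] {M A₁ A₂ : Subgroup G} (hM : M.Normal)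
    (h1 : M ≤ normalizer (A₁ : Set G)) (h2 : M ≤ normalizer (A₂ : Set G)) (htop : A₁ ⊔ A₂ = ⊤) :
    ((M ⊓ A₁) ⊔ (M ⊓ A₂)).Normal := by
  set M₀ := (M ⊓ A₁) ⊔ (M ⊓ A₂) with hM₀
  -- conjugation by elements of A₁ or A₂ preserves M₀
  have hstep : ∀ (B₁ B₂ : Subgroup G), M ≤ normalizer (B₁ : Set G) →
      ∀ a ∈ B₁, ∀ x ∈ (M ⊓ B₁) ⊔ (M ⊓ B₂), a * x * a⁻¹ ∈ (M ⊓ B₁) ⊔ (M ⊓ B₂) := by
    intro B₁ B₂ hB₁ a ha x hx
    have hmap : ((M ⊓ B₁) ⊔ (M ⊓ B₂)).map (MulAut.conj a).toMonoidHom ≤ (M ⊓ B₁) ⊔ (M ⊓ B₂) := by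
      rw [Subgroup.map_sup, sup_le_iff]
      constructor
      · rintro _ ⟨y, ⟨hyM, hyB⟩, rfl⟩
        apply mem_sup_left
        exact ⟨hM.conj_mem y hyM a, B₁.mul_mem (B₁.mul_mem ha hyB) (B₁.inv_mem ha)⟩
      · rintro _ ⟨y, ⟨hyM, hyB⟩, rfl⟩
        change a * y * a⁻¹ ∈ _
        have hy1 : y * a⁻¹ * y⁻¹ ∈ B₁ :=
          (mem_normalizer_iff.mp (hB₁ hyM) a⁻¹).mp (B₁.inv_mem ha)
        have hc : a * y * a⁻¹ * y⁻¹ ∈ M ⊓ B₁ := by
          refine ⟨M.mul_mem (hM.conj_mem y hyM a) (M.inv_mem hyM), ?_⟩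
          have : a * y * a⁻¹ * y⁻¹ = a * (y * a⁻¹ * y⁻¹) := by group
          rw [this]
          exact B₁.mul_mem ha hy1
        have : a * y * a⁻¹ = (a * y * a⁻¹ * y⁻¹) * y := by group
        rw [this]
        exact mul_mem (mem_sup_left hc) (mem_sup_right ⟨hyM, hyB⟩)
    exact hmap ⟨x, hx, rfl⟩
  have hA₁ : A₁ ≤ normalizer (M₀ : Set G) := by
    intro a ha
    rw [mem_normalizer_iff]
    intro x
    constructor
    · exact hstep A₁ A₂ h1 a ha x
    · intro hx
      have := hstep A₁ A₂ h1 a⁻¹ (A₁.inv_mem ha) _ hx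
      simpa [mul_assoc] using this
  have hA₂ : A₂ ≤ normalizer (M₀ : Set G) := by
    intro a ha
    have hcomm : M₀ = (M ⊓ A₂) ⊔ (M ⊓ A₁) := by rw [hM₀, sup_comm]
    rw [mem_normalizer_iff]
    intro x
    constructor
    · intro hx
      rw [hcomm] at hx ⊢
      exact hstep A₂ A₁ h2 a ha x hx
    · intro hx
      rw [hcomm] at hx ⊢
      have := hstep A₂ A₁ h2 a⁻¹ (A₂.inv_mem ha) _ hx
      simpa [mul_assoc] using this
  have : (⊤ : Subgroup G) ≤ normalizer (M₀ : Set G) := by
    rw [← htop]; exact sup_le hA₁ hA₂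
  exact normalizer_eq_top_iff.mp (top_le_iff.mp this)

/-- If `M` is normal, normalizes `A` and `M ⊓ A = ⊥`, then `M` centralizes `A`. -/
theorem commute_of_inf_eq_bot {G : Type u} [Group G] {M A : Subgroup G} (hM : M.Normal)
    (h1 : M ≤ normalizer (A : Set G)) (h0 : M ⊓ A = ⊥) {m a : G} (hm : m ∈ M) (ha : a ∈ A) :
    m * a = a * m := by
  have h2 : m * a * m⁻¹ * a⁻¹ ∈ M ⊓ A := by
    refine ⟨?_, ?_⟩
    · have : m * a * m⁻¹ * a⁻¹ = m * (a * m⁻¹ * a⁻¹) := by group
      rw [this]
      exact M.mul_mem hm (hM.conj_mem _ (M.inv_mem hm) a)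
    · exact A.mul_mem ((mem_normalizer_iff.mp (h1 hm) a).mp ha) (A.inv_mem ha)
  rw [h0, mem_bot] at h2
  have : m * a = (m * a * m⁻¹ * a⁻¹) * (a * m) := by group
  rw [this, h2, one_mul]


/-- Reduction step: from `S ≤ D ⊔ M` and `S ⊓ M ≤ D` with `D ≤ S`, `M` normal, get `S ≤ D`. -/
theorem le_of_le_sup_normal {G : Type u} [Group G] {S D M : Subgroup G} [M.Normal] (hDS : D ≤ S)
    (h1 : S ≤ D ⊔ M) (h2 : S ⊓ M ≤ D) : S ≤ D := by
  intro s hs
  obtain ⟨d, hd, m, hm, rfl⟩ := mem_sup_of_normal_right.mp (h1 hs)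
  have hmS : m ∈ S := by
    have : m = d⁻¹ * (d * m) := by group
    rw [this]
    exact S.mul_mem (S.inv_mem (hDS hd)) hs
  exact D.mul_mem hd (h2 ⟨hmS, hm⟩)

theorem top_case (p : ℕ) [Fact p.Prime] (G : Type u) [Group G] [Finite G]
    (IH : ∀ (H : Type u) [Group H] [Finite H], Nat.card H < Nat.card G →
      ∀ (T : Sylow p H) (B₁ B₂ : Subgroup H), B₁.IsSubnormal → B₂.IsSubnormal →
        (B₁ ⊔ B₂) ⊓ (T : Subgroup H) ≤ (B₁ ⊓ (T : Subgroup H)) ⊔ (B₂ ⊓ (T : Subgroup H)))
    (S : Sylow p G) (A₁ A₂ : Subgroup G) (h₁ : A₁.IsSubnormal) (h₂ : A₂.IsSubnormal)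
    (htop : A₁ ⊔ A₂ = ⊤) :
    (S : Subgroup G) ≤ (A₁ ⊓ (S : Subgroup G)) ⊔ (A₂ ⊓ (S : Subgroup G)) := by
  set D : Subgroup G := (A₁ ⊓ (S : Subgroup G)) ⊔ (A₂ ⊓ (S : Subgroup G)) with hD
  have hDS : D ≤ (S : Subgroup G) := sup_le inf_le_right inf_le_right
  by_cases hL : pResidual p G = ⊥
  · -- G is a p-group
    have hq : IsPGroup p (G ⧸ pResidual p G) := quotient_pResidual_isPGroup
    have hinj : Function.Injective (QuotientGroup.mk' (pResidual p G)) := by
      rw [← MonoidHom.ker_eq_bot_iff, QuotientGroup.ker_mk', hL]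
    have hG : IsPGroup p G := hq.of_injective _ hinj
    have hST : (⊤ : Subgroup G) = S := S.is_maximal' (hG.to_subgroup ⊤) le_top
    rw [hD, ← hST, inf_top_eq, inf_top_eq, htop]
  · obtain ⟨M, hMmin, hML⟩ := exists_isMinNormal_le (pResidual_normal (p := p) (G := G)) hL
    obtain ⟨hMn, hMne, hMmin'⟩ := hMmin
    haveI := hMn
    -- the quotient step
    have hcard : Nat.card (G ⧸ M) < Nat.card G := by
      have h1 := Subgroup.card_eq_card_quotient_mul_card_subgroup M
      have h2 : 1 < Nat.card M := (Subgroup.one_lt_card_iff_ne_bot M).mpr hMne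
      have h3 : 0 < Nat.card (G ⧸ M) := Nat.card_pos
      rw [h1]
      nlinarith
    have hsurj : Function.Surjective (QuotientGroup.mk' M) := QuotientGroup.mk'_surjective M
    have hIH := IH (G ⧸ M) hcard (S.mapSurjective hsurj) (A₁.map (QuotientGroup.mk' M))
      (A₂.map (QuotientGroup.mk' M)) (h₁.map hsurj) (h₂.map hsurj)
    rw [← Subgroup.map_sup, htop, Subgroup.map_top_of_surjective _ hsurj, top_inf_eq,
      Sylow.coe_mapSurjective] at hIH
    have hSDM : (S : Subgroup G) ≤ D ⊔ M := by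
      have h1 : (S : Subgroup G).map (QuotientGroup.mk' M) ≤ D.map (QuotientGroup.mk' M) := by
        refine hIH.trans ?_
        rw [hD, Subgroup.map_sup]
        exact sup_le_sup (map_inf_sylow_le S h₁ _) (map_inf_sylow_le S h₂ _)
      have h2 := Subgroup.comap_mono (f := QuotientGroup.mk' M) h1
      rw [Subgroup.comap_map_eq, Subgroup.comap_map_eq, QuotientGroup.ker_mk'] at h2
      exact le_sup_left.trans h2
    by_cases hpM : p ∣ Nat.card M
    swap
    · -- M is a p'-group
      apply le_of_le_sup_normal hDS hSDM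
      have hcop : (Nat.card (S : Subgroup G)).Coprime (Nat.card M) := by
        obtain ⟨k, hk⟩ := S.isPGroup'.exists_card_eq
        rw [hk]
        exact Nat.Coprime.pow_left k ((Nat.Prime.coprime_iff_not_dvd Fact.out).mpr hpM)
      rw [Subgroup.inf_eq_bot_of_coprime hcop]
      exact bot_le
    · have hMA₁ : M ≤ normalizer (A₁ : Set G) :=
        IsMinNormal.le_normalizer_of_isSubnormal ⟨hMn, hMne, hMmin'⟩ h₁
      have hMA₂ : M ≤ normalizer (A₂ : Set G) :=
        IsMinNormal.le_normalizer_of_isSubnormal ⟨hMn, hMne, hMmin'⟩ h₂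
      have hM₀n := normal_inf_sup_inf hMn hMA₁ hMA₂ htop
      rcases hMmin' _ hM₀n (sup_le inf_le_left inf_le_left) with hM₀ | hM₀
      · -- M is central
        have hMA₁0 : M ⊓ A₁ = ⊥ := le_bot_iff.mp (hM₀ ▸ le_sup_left)
        have hMA₂0 : M ⊓ A₂ = ⊥ := le_bot_iff.mp (hM₀ ▸ le_sup_right)
        have hMZ : M ≤ center G := by
          intro m hm
          rw [mem_center_iff]
          intro g
          have hg : g ∈ A₁ ⊔ A₂ := htop ▸ mem_top g
          have hc : A₁ ⊔ A₂ ≤ centralizer ({m} : Set G) := by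
            apply sup_le
            · intro a ha
              rw [mem_centralizer_singleton_iff]
              exact (commute_of_inf_eq_bot hMn hMA₁ hMA₁0 hm ha).symm
            · intro a ha
              rw [mem_centralizer_singleton_iff]
              exact (commute_of_inf_eq_bot hMn hMA₂ hMA₂0 hm ha).symm
          have := hc hg
          rw [mem_centralizer_singleton_iff] at this
          exact this
        obtain ⟨m, hm⟩ := exists_prime_orderOf_dvd_card' (G := M) p hpM
        have hZle : zpowers (m : G) ≤ M := by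
          rw [zpowers_le]; exact m.2
        have hZn : (zpowers (m : G)).Normal := by
          constructor
          intro z hz g
          have hzc : z ∈ center G := hMZ (hZle hz)
          have : g * z * g⁻¹ = z := by
            rw [mem_center_iff.mp hzc g, mul_inv_cancel_right]
          rw [this]; exact hz
        have hZne : zpowers (m : G) ≠ ⊥ := by
          intro h
          rw [zpowers_eq_bot] at h
          have h1 : orderOf (m : G) = 1 := by rw [h, orderOf_one]
          rw [Subgroup.orderOf_coe, hm] at h1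
          exact (Fact.out : p.Prime).one_lt.ne' h1
        have hZM : zpowers (m : G) = M := by
          rcases hMmin' _ hZn hZle with h | h
          · exact absurd h hZne
          · exact h
        have hMp : IsPGroup p M := by
          apply IsPGroup.of_card (n := 1)
          rw [← hZM, Nat.card_zpowers, Subgroup.orderOf_coe, hm, pow_one]
        have hMS : M ≤ (S : Subgroup G) := hMp.le_sylow_of_normal S
        have hfr : (D.subgroupOf (S : Subgroup G)) ⊔ frattini (S : Subgroup G) = ⊤ := by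
          rw [eq_top_iff]
          intro s _
          obtain ⟨d, hd, m', hm', hdm⟩ := mem_sup_of_normal_right.mp (hSDM s.2)
          have h1 : (⟨d, hDS hd⟩ : (S : Subgroup G)) ∈ D.subgroupOf (S : Subgroup G) := by
            rw [mem_subgroupOf]; exact hd
          have h2 : (⟨m', hMS hm'⟩ : (S : Subgroup G)) ∈ frattini (S : Subgroup G) :=
            Cfsg.Agent.Lib.Helper1.IsPGroup.commutator_le_frattini S.isPGroup'
              (central_mem_commutator S (hMZ hm') (hMS hm') (hML hm'))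
          have h3 : s = (⟨d, hDS hd⟩ : (S : Subgroup G)) * ⟨m', hMS hm'⟩ := by
            apply Subtype.ext; exact hdm.symm
          rw [h3]
          exact mul_mem (mem_sup_left h1) (mem_sup_right h2)
        have hK := frattini_nongenerating hfr
        intro s hs
        have : (⟨s, hs⟩ : (S : Subgroup G)) ∈ D.subgroupOf (S : Subgroup G) := by
          rw [hK]; exact mem_top _
        rwa [mem_subgroupOf] at this
      · -- M = (M ⊓ A₁)(M ⊓ A₂)
        apply le_of_le_sup_normal hDS hSDM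
        by_cases hMtop : M = ⊤
        · have key : ∀ A : Subgroup G, A.IsSubnormal → A = ⊤ ∨ A = ⊥ := by
            intro A hA
            rcases hA.lt_normal with h | ⟨K, hK, hAK, hKt⟩
            · exact Or.inl h
            · right
              rcases hMmin' K hK (hMtop ▸ le_top) with h | h
              · exact le_bot_iff.mp (h ▸ hAK)
              · exact absurd (h.trans hMtop) hKt.ne
          rcases key A₁ h₁ with h | h
          · rw [hD, h, top_inf_eq]
            exact inf_le_left.trans le_sup_left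
          · rcases key A₂ h₂ with h' | h'
            · rw [hD, h', top_inf_eq]
              exact inf_le_left.trans le_sup_right
            · rw [h, h', sup_bot_eq] at htop
              intro x _
              have : x ∈ (⊤ : Subgroup G) := mem_top x
              rw [← htop, mem_bot] at this
              rw [this]; exact one_mem _
        · have hcardM : Nat.card M < Nat.card G :=
            Cfsg.Agent.Lib.Helper1.card_subgroup_lt_of_ne_top hMtop
          obtain ⟨Q, hQ⟩ := exists_sylow_subgroupOf p M hMn.isSubnormal S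
          have hIHM := IH M hcardM Q (A₁.subgroupOf M) (A₂.subgroupOf M) h₁.subgroupOf h₂.subgroupOf
          have htopM : A₁.subgroupOf M ⊔ A₂.subgroupOf M = ⊤ := by
            rw [← inf_subgroupOf_left A₁ M, ← inf_subgroupOf_left A₂ M,
              ← subgroupOf_sup inf_le_left inf_le_left, hM₀, subgroupOf_self]
          rw [htopM, top_inf_eq] at hIHM
          rintro x ⟨hxS, hxM⟩
          have h1 : (⟨x, hxM⟩ : M) ∈ (Q : Subgroup M) := by
            rw [hQ, mem_subgroupOf]; exact hxS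
          have h2 := hIHM h1
          have h3 : ((A₁.subgroupOf M ⊓ (Q : Subgroup M)) ⊔ (A₂.subgroupOf M ⊓ (Q : Subgroup M))).map
              M.subtype ≤ D := by
            rw [Subgroup.map_sup, hD]
            apply sup_le_sup
            · rintro _ ⟨y, hy, rfl⟩
              obtain ⟨hy1, hy2⟩ := Subgroup.mem_inf.mp hy
              rw [hQ, mem_subgroupOf] at hy2
              rw [mem_subgroupOf] at hy1
              exact ⟨hy1, hy2⟩
            · rintro _ ⟨y, hy, rfl⟩
              obtain ⟨hy1, hy2⟩ := Subgroup.mem_inf.mp hy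
              rw [hQ, mem_subgroupOf] at hy2
              rw [mem_subgroupOf] at hy1
              exact ⟨hy1, hy2⟩
          exact h3 ⟨⟨x, hxM⟩, h2, rfl⟩


theorem aux (p : ℕ) [Fact p.Prime] : ∀ (n : ℕ) (G : Type u) [Group G] [Finite G], Nat.card G = n →
    ∀ (S : Sylow p G) (A₁ A₂ : Subgroup G), A₁.IsSubnormal → A₂.IsSubnormal →
      (A₁ ⊔ A₂) ⊓ (S : Subgroup G) ≤ (A₁ ⊓ (S : Subgroup G)) ⊔ (A₂ ⊓ (S : Subgroup G)) := by
  intro n
  induction n using Nat.strong_induction_on with
  | _ n ih =>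
    intro G _ _ hn S A₁ A₂ h₁ h₂
    have IH : ∀ (H : Type u) [Group H] [Finite H], Nat.card H < Nat.card G →
        ∀ (T : Sylow p H) (B₁ B₂ : Subgroup H), B₁.IsSubnormal → B₂.IsSubnormal →
          (B₁ ⊔ B₂) ⊓ (T : Subgroup H) ≤ (B₁ ⊓ (T : Subgroup H)) ⊔ (B₂ ⊓ (T : Subgroup H)) := by
      intro H _ _ hlt T B₁ B₂ hB₁ hB₂
      exact ih (Nat.card H) (hn ▸ hlt) H rfl T B₁ B₂ hB₁ hB₂
    set J := A₁ ⊔ A₂ with hJ
    set D : Subgroup G := (A₁ ⊓ (S : Subgroup G)) ⊔ (A₂ ⊓ (S : Subgroup G)) with hD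
    by_cases hJtop : J = ⊤
    · rw [hJtop, top_inf_eq]
      exact top_case p G IH S A₁ A₂ h₁ h₂ hJtop
    · have hcardJ : Nat.card J < Nat.card G :=
        Cfsg.Agent.Lib.Helper1.card_subgroup_lt_of_ne_top hJtop
      have hA₁J : A₁ ≤ J := le_sup_left
      have hA₂J : A₂ ≤ J := le_sup_right
      have hDJ : D ≤ J := sup_le (inf_le_left.trans hA₁J) (inf_le_left.trans hA₂J)
      have hDS : D ≤ (S : Subgroup G) := sup_le inf_le_right inf_le_right
      have hDp : IsPGroup p (D.subgroupOf J) := (S.isPGroup'.to_le hDS).comap_subtype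
      obtain ⟨S', hS'⟩ := hDp.exists_le_sylow
      have h := IH J hcardJ S' (A₁.subgroupOf J) (A₂.subgroupOf J) h₁.subgroupOf h₂.subgroupOf
      rw [← subgroupOf_sup hA₁J hA₂J, subgroupOf_self, top_inf_eq] at h
      -- A_i' ⊓ S' ≤ (A_i ⊓ S).subgroupOf J
      have key : ∀ A : Subgroup G, A.IsSubnormal → A ≤ J → A ⊓ (S : Subgroup G) ≤ D →
          (A.subgroupOf J ⊓ (S' : Subgroup J)).map J.subtype ≤ A ⊓ (S : Subgroup G) := by
        intro A hA hAJ hAD
        have hX1 : (A.subgroupOf J ⊓ (S' : Subgroup J)).map J.subtype ≤ A := by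
          rintro _ ⟨y, hy, rfl⟩
          exact (Subgroup.mem_inf.mp hy).1
        have hXp : IsPGroup p ((A.subgroupOf J ⊓ (S' : Subgroup J)).map J.subtype) :=
          (S'.isPGroup'.to_le inf_le_right).map _
        have hX2 : A ⊓ (S : Subgroup G) ≤ (A.subgroupOf J ⊓ (S' : Subgroup J)).map J.subtype := by
          rintro x ⟨hxA, hxS⟩
          refine ⟨⟨x, hAJ hxA⟩, ?_, rfl⟩
          refine Subgroup.mem_inf.mpr ⟨?_, ?_⟩
          · rw [mem_subgroupOf]; exact hxA
          · apply hS'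
            rw [mem_subgroupOf]
            exact hAD ⟨hxA, hxS⟩
        exact le_inf hX1 (le_sylow_of_isPGroup S hA hX1 hXp hX2)
      have hS'D : (S' : Subgroup J).map J.subtype ≤ D := by
        refine (Subgroup.map_mono h).trans ?_
        rw [Subgroup.map_sup]
        exact sup_le_sup (key A₁ h₁ hA₁J le_sup_left) (key A₂ h₂ hA₂J le_sup_right)
      -- S' = D.subgroupOf J is a Sylow subgroup of J, so J ⊓ S ≤ D
      have hJSp : IsPGroup p (((S : Subgroup G)).subgroupOf J) := S.isPGroup'.comap_subtype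
      have hle : (S' : Subgroup J) ≤ ((S : Subgroup G)).subgroupOf J := by
        intro y hy
        rw [mem_subgroupOf]
        exact hDS (hS'D ⟨y, hy, rfl⟩)
      have heq := S'.is_maximal' hJSp hle
      rintro x ⟨hxJ, hxS⟩
      have h1 : (⟨x, hxJ⟩ : J) ∈ ((S : Subgroup G)).subgroupOf J := by
        rw [mem_subgroupOf]; exact hxS
      rw [heq] at h1
      exact hS'D ⟨⟨x, hxJ⟩, h1, rfl⟩

/-- Let G be a finite group, p a prime, S a Sylow p-subgroup of G and A₁, A₂ subnormal subgroups of G. Then the join of S ∩ A₁ and S ∩ A₂ is a Sylow p-subgroup of the join of A₁ and A₂; equivalently ⟨A₁, A₂⟩ ∩ S = ⟨A₁ ∩ S, A₂ ∩ S⟩. -/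
theorem result {G : Type*} [Group G] [Finite G] {p : ℕ} [Fact p.Prime] (S : Sylow p G) (A₁ A₂ : Subgroup G)
    (h₁ : A₁.IsSubnormal) (h₂ : A₂.IsSubnormal) :
    (A₁ ⊔ A₂) ⊓ (S : Subgroup G) = (A₁ ⊓ (S : Subgroup G)) ⊔ (A₂ ⊓ (S : Subgroup G)) := by
  apply le_antisymm
  · exact aux p (Nat.card G) G rfl S A₁ A₂ h₁ h₂
  · exact sup_le (inf_le_inf_right _ le_sup_left) (inf_le_inf_right _ le_sup_right)

end Cfsg.Agent.S3028
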