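import Cfsg.Statements.S3031
import Cfsg.Agent.Lib.Helper9.FusionInv
import Cfsg.Agent.Lib.Helper9.Conj
import Cfsg.Agent.Lib.Helper13.OmegaSmall
import Cfsg.Agent.Lib.Helper13.PNilpotent
import Cfsg.Agent.Lib.Helper1.Frattini
import Cfsg.Agent.Lib.Helper7.NormalComplement
import Cfsg.Agent.Lib.Lead.Tate
import Cfsg.Agent.Lib.Lead.PResidual
import Cfsg.Agent.Lib.Helper18.Basic

set_option autoImplicit false
open Cfsg

namespace Cfsg.Agent.S3031

section general

variable {G : Type*} [Group G]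

/-- in a finite group, `g E g⁻¹ ⊆ E` gives `g ∈ N(E)` -/
theorem mem_normalizer_of_forall_conj_mem [Finite G] {E : Subgroup G} {g : G}
    (h : ∀ e ∈ E, g * e * g⁻¹ ∈ E) : g ∈ Subgroup.normalizer (E : Set G) := by
  apply Cfsg.Agent.Lib.Helper9.mem_normalizer_of_conjMap_eq_self
  apply Cfsg.Agent.Lib.Helper9.conjMap_eq_of_le
  rintro _ ⟨e, he, rfl⟩
  simpa [MulAut.conj_apply] using h e he

/-- an element normalizing a finite cyclic subgroup, of order prime to the order of its automorphism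
group, centralizes it -/
theorem mem_centralizer_of_isCyclic (C : Subgroup G) [Finite C] [IsCyclic C] (a : G)
    (ha : a ∈ Subgroup.normalizer (C : Set G))
    (hcop : (orderOf a).Coprime (Nat.totient (Nat.card C))) :
    a ∈ Subgroup.centralizer (C : Set G) := by
  have h1 : orderOf (C.normalizerMonoidHom ⟨a, ha⟩) ∣ orderOf a := by
    have := orderOf_map_dvd C.normalizerMonoidHom (⟨a, ha⟩ : Subgroup.normalizer (C : Set G))
    rwa [Subgroup.orderOf_mk] at this
  have h2 : orderOf (C.normalizerMonoidHom ⟨a, ha⟩) ∣ Nat.totient (Nat.card C) := by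
    rw [← IsCyclic.card_mulAut]
    exact orderOf_dvd_natCard _
  have h3 : orderOf (C.normalizerMonoidHom ⟨a, ha⟩) = 1 := Nat.eq_one_of_dvd_coprimes hcop h1 h2
  rw [orderOf_eq_one_iff] at h3
  have h4 : (⟨a, ha⟩ : Subgroup.normalizer (C : Set G)) ∈ C.normalizerMonoidHom.ker := h3
  rw [Subgroup.normalizerMonoidHom_ker] at h4
  exact Subgroup.mem_subgroupOf.mp h4

/-- a subgroup of order `p ^ j` between `A` and `B` -/
theorem exists_between [Finite G] {p : ℕ} [Fact p.Prime] (A B : Subgroup G) (hAB : A ≤ B)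
    {i j : ℕ} (hA : Nat.card A = p ^ i) (hij : i ≤ j) (hj : p ^ j ∣ Nat.card B) :
    ∃ C : Subgroup G, A ≤ C ∧ C ≤ B ∧ Nat.card C = p ^ j := by
  have hA' : Nat.card (A.subgroupOf B) = p ^ i := by
    rw [← hA]
    exact Nat.card_congr (Subgroup.subgroupOfEquivOfLe hAB).toEquiv
  obtain ⟨K', hK', hAK'⟩ := Sylow.exists_subgroup_card_pow_prime_le p hj (A.subgroupOf B) hA' hij
  refine ⟨K'.map B.subtype, ?_, Subgroup.map_subtype_le _, ?_⟩
  · intro a ha
    exact ⟨⟨a, hAB ha⟩, hAK' (Subgroup.mem_subgroupOf.mpr ha), rfl⟩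
  · rw [Subgroup.card_map_of_injective B.subtype_injective, hK']

/-- membership in the Frattini subgroup of a `p`-subgroup via maximal subgroups -/
theorem mem_frattini_map_of_forall [Finite G] {p : ℕ} [Fact p.Prime] (R : Subgroup G)
    (hR : IsPGroup p R) (c : G) (hc : c ∈ R)
    (h : ∀ M : Subgroup G, M ≤ R → Nat.card M * p = Nat.card R → c ∈ M) :
    c ∈ (frattini R).map R.subtype := by
  refine ⟨⟨c, hc⟩, ?_, rfl⟩
  have h0 : Subgroup.zpowers (⟨c, hc⟩ : R) ≤ frattini R := by
    rw [Cfsg.Agent.Lib.Helper1.le_frattini_iff]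
    intro M' hM'
    rw [Subgroup.zpowers_le]
    have hidx := Cfsg.Agent.Lib.Helper1.IsPGroup.index_of_isCoatom hR hM'
    have h1 := h (M'.map R.subtype) (Subgroup.map_subtype_le _) (by
      rw [Subgroup.card_map_of_injective R.subtype_injective, ← hidx, Subgroup.card_mul_index])
    obtain ⟨m, hm, hmc⟩ := h1
    have : m = ⟨c, hc⟩ := Subtype.ext hmc
    rwa [← this]
  exact h0 (Subgroup.mem_zpowers _)

/-- an element acts trivially on a normal section of order dividing `p`, when its order is prime to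
`p - 1` -/
theorem section_triv [Finite G] {p : ℕ} [hp : Fact p.Prime] (U K : Subgroup G)
    (hUK : U ≤ Subgroup.normalizer (K : Set G)) (hidx : K.relIndex U ∣ p) (y : G)
    (hyU : y ∈ Subgroup.normalizer (U : Set G)) (hyK : y ∈ Subgroup.normalizer (K : Set G))
    (hcop : (orderOf y).Coprime (p - 1)) :
    ∀ u ∈ U, u⁻¹ * (y * u * y⁻¹) ∈ K := by
  set X : Subgroup G := Subgroup.normalizer (K : Set G) with hX
  set N : Subgroup X := K.subgroupOf X with hN
  haveI hNn : N.Normal := Subgroup.normal_in_normalizer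
  set Ub : Subgroup (X ⧸ N) := (U.subgroupOf X).map (QuotientGroup.mk' N) with hUb
  have hcard : Nat.card Ub = K.relIndex U := by
    rw [hUb, ← Subgroup.relIndex_ker, QuotientGroup.ker_mk', hN, Subgroup.relIndex_subgroupOf hUK]
  have hcases : Nat.card Ub = 1 ∨ Nat.card Ub = p := by
    rw [hcard]; exact (Nat.dvd_prime hp.out).mp hidx
  haveI hcyc : IsCyclic Ub := by
    rcases hcases with h | h
    · haveI : Subsingleton Ub := (Nat.card_eq_one_iff_unique.mp h).1
      exact isCyclic_of_subsingleton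
    · exact isCyclic_of_prime_card h
  set a : X ⧸ N := QuotientGroup.mk' N ⟨y, hyK⟩ with ha
  have haN : a ∈ Subgroup.normalizer (Ub : Set (X ⧸ N)) := by
    apply Subgroup.le_normalizer_map (QuotientGroup.mk' N)
    refine ⟨⟨y, hyK⟩, ?_, rfl⟩
    apply Subgroup.le_normalizer_comap X.subtype
    exact hyU
  have hoa : orderOf a ∣ orderOf y := by
    have := orderOf_map_dvd (QuotientGroup.mk' N) (⟨y, hyK⟩ : X)
    rwa [Subgroup.orderOf_mk] at this
  have hcop' : (orderOf a).Coprime (Nat.totient (Nat.card Ub)) := by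
    rcases hcases with h | h
    · rw [h, Nat.totient_one]; exact Nat.coprime_one_right _
    · rw [h, Nat.totient_prime hp.out]; exact Nat.Coprime.coprime_dvd_left hoa hcop
  have hcent := mem_centralizer_of_isCyclic Ub a haN hcop'
  intro u hu
  have huX : u ∈ X := hUK hu
  have humem : QuotientGroup.mk' N ⟨u, huX⟩ ∈ Ub :=
    ⟨⟨u, huX⟩, Subgroup.mem_subgroupOf.mpr hu, rfl⟩
  have hcomm := Subgroup.mem_centralizer_iff.mp hcent _ humem
  have h1 : (QuotientGroup.mk' N) ((⟨u, huX⟩ : X)⁻¹ * (⟨y, hyK⟩ * ⟨u, huX⟩ * (⟨y, hyK⟩ : X)⁻¹))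
      = 1 := by
    rw [map_mul, map_mul, map_mul, map_inv, map_inv, ← ha, ← hcomm]
    group
  have h2 : ((⟨u, huX⟩ : X)⁻¹ * (⟨y, hyK⟩ * ⟨u, huX⟩ * (⟨y, hyK⟩ : X)⁻¹) : X) ∈ N :=
    (QuotientGroup.eq_one_iff _).mp h1
  exact Subgroup.mem_subgroupOf.mp h2

end general

section setup

open Cfsg.Agent.Lib.Helper9 (mem_conjMap conj_mem_conjMap conjMap_eq_of_le
  mem_normalizer_of_conjMap_eq_self conjMap_eq_self_of_mem_normalizer)

variable {G : Type*} [Group G] [Finite G] {p : ℕ} [Fact p.Prime] {P : Subgroup G} {d : ℕ}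

/-- the family of subgroups assumed to be strongly closed in their normalizers -/
def Fam (p : ℕ) (P : Subgroup G) (d : ℕ) (E : Subgroup G) : Prop :=
  E ≤ P ∧ (Nat.card E = p ^ d ∨ (p ^ d = 2 ∧ Nat.card E = 4))

/-- the hypotheses of the theorem -/
structure Setup (p : ℕ) (P : Subgroup G) (d : ℕ) : Prop where
  hmin : ∀ q : ℕ, q.Prime → q ∣ Nat.card G → p ≤ q
  hP : IsPGroup p P
  hd : 1 ≤ d
  hdn : p ^ (d + 1) ∣ Nat.card P
  hH : ∀ E : Subgroup G, Fam p P d E →
    ∀ g : G, E.map (MulAut.conj g).toMonoidHom ⊓ Subgroup.normalizer (E : Set G) ≤ E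

theorem eq_one_or_eq_of_le_of_dvd_pow {p r n : ℕ} (hp : p.Prime) (h1 : r ≤ p) (h2 : r ∣ p ^ n) :
    r = 1 ∨ r = p := by
  obtain ⟨j, -, hj⟩ := (Nat.dvd_prime_pow hp).mp h2
  rcases j with _ | _ | j
  · left; simpa using hj
  · right; simpa using hj
  · exfalso
    rw [hj] at h1
    have h3 : p ^ 2 ≤ p ^ (j + 1 + 1) := Nat.pow_le_pow_right hp.pos (by omega)
    nlinarith [hp.two_le]

theorem Setup.coprime_pred (S : Setup p P d) (a : G) : (orderOf a).Coprime (p - 1) := by
  have hp : p.Prime := Fact.out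
  apply Nat.coprime_of_dvd
  intro q hq hqa hqp
  have h1 : p ≤ q := S.hmin q hq (hqa.trans (orderOf_dvd_natCard a))
  have h2 : q ≤ p - 1 := Nat.le_of_dvd (Nat.sub_pos_of_lt hp.one_lt) hqp
  have := hp.one_lt
  omega

/-- members of the family are normal in `P` -/
theorem Setup.le_normalizer (S : Setup p P d) {E : Subgroup G} (hE : Fam p P d E) :
    P ≤ Subgroup.normalizer (E : Set G) := by
  by_contra hne
  have hlt : Subgroup.normalizer (E : Set G) ⊓ P < P := by
    refine lt_of_le_of_ne inf_le_right ?_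
    intro h
    exact hne (h ▸ inf_le_left)
  obtain ⟨t, htP, htN, htn⟩ :=
    Cfsg.Agent.Lib.Helper18.exists_mem_normalizer_not_mem_of_lt _ P S.hP hlt
  have hEN : E ≤ Subgroup.normalizer (E : Set G) ⊓ P := le_inf Subgroup.le_normalizer hE.1
  have h1 : E.map (MulAut.conj t).toMonoidHom ≤ Subgroup.normalizer (E : Set G) ⊓ P := by
    calc E.map (MulAut.conj t).toMonoidHom
        ≤ (Subgroup.normalizer (E : Set G) ⊓ P).map (MulAut.conj t).toMonoidHom :=
          Subgroup.map_mono hEN
      _ = Subgroup.normalizer (E : Set G) ⊓ P := conjMap_eq_self_of_mem_normalizer htn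
  have h2 : E.map (MulAut.conj t).toMonoidHom ≤ E :=
    (le_inf le_rfl (h1.trans inf_le_left)).trans (S.hH E hE t)
  have h3 : t ∈ Subgroup.normalizer (E : Set G) :=
    mem_normalizer_of_conjMap_eq_self (conjMap_eq_of_le h2)
  exact htN ⟨h3, htP⟩

/-- members of the family are strongly closed in `P` -/
theorem Setup.conj_mem (S : Setup p P d) {E : Subgroup G} (hE : Fam p P d E) (g : G) {x : G}
    (hx : x ∈ E) (hgx : g * x * g⁻¹ ∈ P) : g * x * g⁻¹ ∈ E :=
  S.hH E hE g ⟨conj_mem_conjMap hx, S.le_normalizer hE hgx⟩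

theorem Setup.mem_normalizer (S : Setup p P d) {E : Subgroup G} (hE : Fam p P d E)
    {U : Subgroup G} (hEU : E ≤ U) (hUP : U ≤ P) {a : G}
    (ha : a ∈ Subgroup.normalizer (U : Set G)) : a ∈ Subgroup.normalizer (E : Set G) := by
  apply mem_normalizer_of_forall_conj_mem
  intro e he
  apply S.conj_mem hE a he
  apply hUP
  exact (Subgroup.mem_normalizer_iff.mp ha e).mp (hEU he)

/-- base case: a `p'`-element normalizing a subgroup of order `p ^ (d + 1)` centralizes it -/
theorem Setup.base (S : Setup p P d) {R : Subgroup G} (hRP : R ≤ P)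
    (hR : Nat.card R = p ^ (d + 1)) {a : G} (ha : a ∈ Subgroup.normalizer (R : Set G))
    (hcop : (orderOf a).Coprime p) : a ∈ Subgroup.centralizer (R : Set G) := by
  have hp : p.Prime := Fact.out
  have hRp : IsPGroup p R := S.hP.to_le hRP
  have h := Cfsg.Agent.Lib.Helper1.le_centralizer_of_commutator_le_frattini (Subgroup.zpowers a) R
    (Subgroup.zpowers_le.mpr ha) ?_ ?_
  · exact h (Subgroup.mem_zpowers a)
  · rw [Nat.card_zpowers]
    obtain ⟨k, hk⟩ := (hRp.to_subgroup (frattini R)).exists_card_eq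
    rw [hk]
    exact Nat.Coprime.pow_right k hcop
  · intro b hb k hk
    have hbN : b ∈ Subgroup.normalizer (R : Set G) := (Subgroup.zpowers_le.mpr ha) hb
    have hkinv : k⁻¹ ∈ R := R.inv_mem hk
    have hc : (k⁻¹)⁻¹ * (b * k⁻¹ * b⁻¹) ∈ (frattini R).map R.subtype := by
      apply mem_frattini_map_of_forall R hRp
      · exact R.mul_mem (R.inv_mem hkinv) ((Subgroup.mem_normalizer_iff.mp hbN _).mp hkinv)
      · intro M hMR hMcard
        have hMd : Nat.card M = p ^ d := by
          rw [hR, pow_succ] at hMcard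
          exact Nat.eq_of_mul_eq_mul_right hp.pos hMcard
        have hMF : Fam p P d M := ⟨hMR.trans hRP, Or.inl hMd⟩
        have hidx : M.relIndex R = p := by
          have h1 := Subgroup.relIndex_mul_relIndex ⊥ M R bot_le hMR
          rw [Subgroup.relIndex_bot_left, Subgroup.relIndex_bot_left, hMd, hR, pow_succ] at h1
          exact Nat.eq_of_mul_eq_mul_left (pow_pos hp.pos d) h1
        exact section_triv R M (hRP.trans (S.le_normalizer hMF)) (by rw [hidx]) b hbN
          (S.mem_normalizer hMF hMR hRP hbN) (S.coprime_pred b) _ hkinv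
    have e : b * k * b⁻¹ * k⁻¹ = ((k⁻¹)⁻¹ * (b * k⁻¹ * b⁻¹))⁻¹ := by group
    rw [e]
    exact Subgroup.inv_mem _ hc

/-- a `p'`-element normalizing a subgroup `U` of `P` of order at least `p ^ (d + 1)`
centralizes it -/
theorem Setup.big (S : Setup p P d) {U : Subgroup G} (hUP : U ≤ P)
    (hU : p ^ (d + 1) ∣ Nat.card U) {a : G} (ha : a ∈ Subgroup.normalizer (U : Set G))
    (hcop : (orderOf a).Coprime p) : a ∈ Subgroup.centralizer (U : Set G) := by
  have hp : p.Prime := Fact.out
  have hUp : IsPGroup p U := S.hP.to_le hUP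
  have hc : ∀ E : Subgroup G, E ≤ U → Nat.card E = p ^ d →
      a ∈ Subgroup.centralizer (E : Set G) := by
    intro E hEU hEd
    have hEF : Fam p P d E := ⟨hEU.trans hUP, Or.inl hEd⟩
    have haE := S.mem_normalizer hEF hEU hUP ha
    by_cases hcyc : IsCyclic E
    · apply mem_centralizer_of_isCyclic E a haE
      rw [hEd, Nat.totient_prime_pow hp S.hd]
      exact Nat.Coprime.mul_right (Nat.Coprime.pow_right _ hcop) (S.coprime_pred a)
    · obtain ⟨R, hER, hRU, hRd⟩ := exists_between E U hEU hEd (Nat.le_succ d) hU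
      have hRnc : ¬ IsCyclic R := by
        intro h
        exact hcyc (isCyclic_of_injective (Subgroup.inclusion hER)
          (Subgroup.inclusion_injective hER))
      have haR : a ∈ Subgroup.normalizer (R : Set G) := by
        apply mem_normalizer_of_forall_conj_mem
        intro x hx
        have hzR : Subgroup.zpowers x ≤ R := Subgroup.zpowers_le.mpr hx
        have hdv : Nat.card (Subgroup.zpowers x) ∣ p ^ (d + 1) := by
          rw [← hRd]; exact Subgroup.card_dvd_of_le hzR
        obtain ⟨j, hjd1, hj⟩ := (Nat.dvd_prime_pow hp).mp hdv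
        have hjd : j ≤ d := by
          by_contra hjd
          have hjeq : j = d + 1 := by omega
          have hzeq : Subgroup.zpowers x = R :=
            Subgroup.eq_of_le_of_card_ge hzR (by rw [hRd, hj, hjeq])
          apply hRnc
          refine ⟨⟨⟨x, hx⟩, fun r => ?_⟩⟩
          have hr : (r : G) ∈ Subgroup.zpowers x := by rw [hzeq]; exact r.2
          obtain ⟨k, hk⟩ := Subgroup.mem_zpowers_iff.mp hr
          exact Subgroup.mem_zpowers_iff.mpr ⟨k, Subtype.ext (by simpa using hk)⟩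
        obtain ⟨E', hxE', hE'R, hE'd⟩ := exists_between (Subgroup.zpowers x) R hzR hj hjd
          (by rw [hRd]; exact pow_dvd_pow p (Nat.le_succ d))
        have hE'F : Fam p P d E' := ⟨hE'R.trans (hRU.trans hUP), Or.inl hE'd⟩
        have haE' := S.mem_normalizer hE'F (hE'R.trans hRU) hUP ha
        exact hE'R ((Subgroup.mem_normalizer_iff.mp haE' x).mp (hxE' (Subgroup.mem_zpowers x)))
      have h1 := S.base (hRU.trans hUP) hRd haR hcop
      exact Subgroup.centralizer_le (show (E : Set G) ⊆ R from hER) h1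
  have hX : ∀ x ∈ U, orderOf x ∣ p ^ d → a * x = x * a := by
    intro x hx hox
    obtain ⟨j, hjd, hj⟩ := (Nat.dvd_prime_pow hp).mp hox
    have hzU : Subgroup.zpowers x ≤ U := Subgroup.zpowers_le.mpr hx
    obtain ⟨E, hxE, hEU, hEd⟩ := exists_between (Subgroup.zpowers x) U hzU
      (by rw [Nat.card_zpowers, hj]) hjd ((pow_dvd_pow p (Nat.le_succ d)).trans hU)
    have h1 := hc E hEU hEd
    exact ((Subgroup.mem_centralizer_iff.mp h1) x (hxE (Subgroup.mem_zpowers x))).symm
  apply Cfsg.Agent.Lib.Helper13.mem_centralizer_of_centralizes_small p U hUp a ha hcop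
  intro x hx hsmall
  rcases hsmall with h1 | ⟨h2, h4⟩
  · apply hX x hx
    exact (orderOf_dvd_of_pow_eq_one h1).trans (dvd_pow_self p (by have := S.hd; omega))
  · have ho : orderOf x ∣ 2 ^ 2 := orderOf_dvd_of_pow_eq_one h4
    by_cases hd2 : 2 ≤ d
    · apply hX x hx
      rw [h2]
      exact ho.trans (pow_dvd_pow 2 hd2)
    · have hd1 : d = 1 := by have := S.hd; omega
      obtain ⟨j, hj2, hj⟩ := (Nat.dvd_prime_pow Nat.prime_two).mp ho
      by_cases hj1 : j ≤ 1
      · apply hX x hx
        rw [hj, h2, hd1]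
        exact pow_dvd_pow 2 hj1
      · have hj' : j = 2 := by omega
        have hz4 : Nat.card (Subgroup.zpowers x) = 4 := by rw [Nat.card_zpowers, hj, hj']; norm_num
        have hzU : Subgroup.zpowers x ≤ U := Subgroup.zpowers_le.mpr hx
        have hzF : Fam p P d (Subgroup.zpowers x) :=
          ⟨hzU.trans hUP, Or.inr ⟨by rw [h2, hd1]; norm_num, hz4⟩⟩
        have haz := S.mem_normalizer hzF hzU hUP ha
        have hcz := mem_centralizer_of_isCyclic (Subgroup.zpowers x) a haz (by
          have ht : Nat.totient 4 = 2 := by decide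
          rw [hz4, ht]
          rw [h2] at hcop
          exact hcop)
        exact ((Subgroup.mem_centralizer_iff.mp hcz) x (Subgroup.mem_zpowers x)).symm

/-- a `p'`-element normalizing a subgroup `U` of `P` of order at most `p ^ d` acts trivially on it
modulo the Frattini subgroup of `P` -/
theorem Setup.small (S : Setup p P d) {U : Subgroup G} (hUP : U ≤ P) {k : ℕ}
    (hUk : Nat.card U = p ^ k) (hkd : k ≤ d) {a : G}
    (ha : a ∈ Subgroup.normalizer (U : Set G)) :
    ∀ u ∈ U, u⁻¹ * (a * u * a⁻¹) ∈ (frattini P).map P.subtype := by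
  have hp : p.Prime := Fact.out
  intro u hu
  have hcU : u⁻¹ * (a * u * a⁻¹) ∈ U :=
    U.mul_mem (U.inv_mem hu) ((Subgroup.mem_normalizer_iff.mp ha u).mp hu)
  obtain ⟨T, hUT, hTP, hTd⟩ := exists_between U P hUP hUk (hkd.trans (Nat.le_succ d)) S.hdn
  apply mem_frattini_map_of_forall P S.hP _ (hUP hcU)
  intro M hMP hMcard
  by_cases hTM : T ≤ M
  · exact hTM (hUT hcU)
  · have hMidx : M.relIndex P = p := by
      have h1 := Subgroup.relIndex_mul_relIndex ⊥ M P bot_le hMP
      rw [Subgroup.relIndex_bot_left, Subgroup.relIndex_bot_left, ← hMcard] at h1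
      exact Nat.eq_of_mul_eq_mul_left Nat.card_pos h1
    have hr1 : M.relIndex T ≤ p := by
      rw [← hMidx]
      exact Subgroup.relIndex_le_of_le_right hTP (by rw [hMidx]; exact hp.ne_zero)
    have hr2 : M.relIndex T ∣ p ^ (d + 1) := by
      rw [← hTd]; exact Subgroup.relIndex_dvd_card M T
    have hr3 : M.relIndex T = p := by
      rcases eq_one_or_eq_of_le_of_dvd_pow hp hr1 hr2 with h | h
      · exact absurd (Subgroup.relIndex_eq_one.mp h) hTM
      · exact h
    obtain ⟨E, hE⟩ : ∃ E : Subgroup G, E = M ⊓ T := ⟨_, rfl⟩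
    have hET : E ≤ T := hE ▸ inf_le_right
    have hEM : E ≤ M := hE ▸ inf_le_left
    have hErel : E.relIndex T = p := by rw [hE, Subgroup.inf_relIndex_right, hr3]
    have hEd : Nat.card E = p ^ d := by
      have h1 := Subgroup.relIndex_mul_relIndex ⊥ E T bot_le hET
      rw [Subgroup.relIndex_bot_left, Subgroup.relIndex_bot_left, hErel, hTd, pow_succ] at h1
      exact Nat.eq_of_mul_eq_mul_right hp.pos h1
    have hEF : Fam p P d E := ⟨hET.trans hTP, Or.inl hEd⟩
    have hEN := S.le_normalizer hEF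
    have hKn : U ≤ Subgroup.normalizer ((E ⊓ U : Subgroup G) : Set G) := by
      intro v hv
      exact Subgroup.inf_normalizer_le_normalizer_inf ⟨hEN (hUP hv), Subgroup.le_normalizer hv⟩
    have haK : a ∈ Subgroup.normalizer ((E ⊓ U : Subgroup G) : Set G) := by
      apply mem_normalizer_of_forall_conj_mem
      rintro e ⟨heE, heU⟩
      have h2 : a * e * a⁻¹ ∈ U := (Subgroup.mem_normalizer_iff.mp ha e).mp heU
      exact ⟨S.conj_mem hEF a heE (hUP h2), h2⟩
    have hidx : (E ⊓ U).relIndex U ∣ p := by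
      rw [Subgroup.inf_relIndex_right]
      have h1 : E.relIndex U ≤ p := by
        rw [← hErel]
        exact Subgroup.relIndex_le_of_le_right hUT (by rw [hErel]; exact hp.ne_zero)
      have h2 : E.relIndex U ∣ p ^ k := by rw [← hUk]; exact Subgroup.relIndex_dvd_card E U
      rcases eq_one_or_eq_of_le_of_dvd_pow hp h1 h2 with h | h
      · rw [h]; exact one_dvd _
      · rw [h]
    have h3 := section_triv U (E ⊓ U) hKn hidx a ha haK (S.coprime_pred a) u hu
    exact hEM h3.1

end setup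

section main

variable {G : Type*} [Group G] [Finite G] {p : ℕ} [Fact p.Prime] {d : ℕ}

open scoped commutatorElement in
/-- all fusion in `P` is trivial modulo the Frattini subgroup -/
theorem fusion (PS : Sylow p G) (S : Setup p (PS : Subgroup G) d) (x : G)
    (hx : x ∈ (PS : Subgroup G)) (g : G) (hg : g * x * g⁻¹ ∈ (PS : Subgroup G)) :
    x⁻¹ * (g * x * g⁻¹) ∈
      (frattini (PS : Subgroup G)).map (PS : Subgroup G).subtype := by
  obtain ⟨Fr, hFr⟩ : ∃ Fr : Subgroup G,
      Fr = (frattini (PS : Subgroup G)).map (PS : Subgroup G).subtype := ⟨_, rfl⟩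
  rw [← hFr]
  have hcomm : ∀ s ∈ (PS : Subgroup G), ∀ a ∈ (PS : Subgroup G),
      a⁻¹ * (s * a * s⁻¹) ∈ Fr := by
    intro s hs a ha
    have h1 : ⁅(⟨a, ha⟩ : (PS : Subgroup G))⁻¹, ⟨s, hs⟩⁆ ∈ frattini (PS : Subgroup G) :=
      Cfsg.Agent.Lib.Helper1.IsPGroup.commutator_le_frattini PS.2
        (Subgroup.commutator_mem_commutator (Subgroup.mem_top _) (Subgroup.mem_top _))
    rw [hFr]
    refine ⟨_, h1, ?_⟩
    simp [commutatorElement_def, mul_assoc]
  have key := Cfsg.Agent.Lib.Helper9.fusion_invariant' PS (fun z => x⁻¹ * z ∈ Fr) ?_ ?_ x hx g hg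
    (by simp [Fr.one_mem])
  · exact key
  · intro s hs a ha hΦ
    have e : x⁻¹ * (s * a * s⁻¹) = (x⁻¹ * a) * (a⁻¹ * (s * a * s⁻¹)) := by group
    show x⁻¹ * (s * a * s⁻¹) ∈ Fr
    rw [e]
    exact Fr.mul_mem hΦ (hcomm s hs a ha)
  · intro U hUP _ _ y hy hcop a ha hΦ
    show x⁻¹ * (y * a * y⁻¹) ∈ Fr
    have e : x⁻¹ * (y * a * y⁻¹) = (x⁻¹ * a) * (a⁻¹ * (y * a * y⁻¹)) := by group
    rw [e]
    refine Fr.mul_mem hΦ ?_
    obtain ⟨k, hk⟩ := (S.hP.to_le hUP).exists_card_eq
    by_cases hkd : k ≤ d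
    · rw [hFr]
      exact S.small hUP hk hkd hy a ha
    · have hU : p ^ (d + 1) ∣ Nat.card U := by rw [hk]; exact pow_dvd_pow p (by omega)
      have hc := S.big hUP hU hy hcop
      have h1 : y * a * y⁻¹ = a := by
        have h2 := (Subgroup.mem_centralizer_iff.mp hc) a ha
        rw [← h2]; group
      rw [h1, inv_mul_cancel]
      exact Fr.one_mem

end main

open scoped commutatorElement in
/-- Let G be a finite group, p the smallest prime dividing |G| and P a Sylow p-subgroup. Suppose that P is cyclic, or that P has a subgroup D with 1 < |D| < |P| such that every subgroup E of P of order |D|, and also every subgroup E of P of order 4 when |D| = 2, satisfies g E g⁻¹ ∩ N_G(E) ≤ E for all g ∈ G (E is strongly closed in its normalizer with respect to G). Then G has a normal p-complement. -/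
theorem result {G : Type*} [Group G] [Finite G] {p : ℕ} [Fact p.Prime] (hdiv : p ∣ Nat.card G)
    (hmin : ∀ q : ℕ, q.Prime → q ∣ Nat.card G → p ≤ q) (P : Sylow p G)
    (h : IsCyclic ↥(P : Subgroup G) ∨ ∃ D : Subgroup G, D ≤ (P : Subgroup G) ∧ 1 < Nat.card D ∧ Nat.card D < Nat.card (P : Subgroup G) ∧
      ∀ E : Subgroup G, E ≤ (P : Subgroup G) → (Nat.card E = Nat.card D ∨ (Nat.card D = 2 ∧ Nat.card E = 4)) →
        ∀ g : G, E.map (MulAut.conj g).toMonoidHom ⊓ Subgroup.normalizer (E : Set G) ≤ E) :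
    Cfsg.HasNormalPComplement p G := by
  classical
  have hp : p.Prime := Fact.out
  rcases h with hcyc | ⟨D, hDP, hD1, hDn, hH⟩
  · obtain ⟨K, hKn, hKp, hKall⟩ :=
      Cfsg.Agent.Lib.Helper7.exists_normal_pPrime_of_cyclic_sylow hmin P hcyc
    exact ⟨P, K, hKn,
      haveI := hKn; Cfsg.Agent.Lib.Helper13.isComplement'_of_contains_pPrime_elements P K hKp hKall⟩
  · obtain ⟨d, hd⟩ := (P.2.to_le hDP).exists_card_eq
    have hd1 : 1 ≤ d := by
      rcases Nat.eq_zero_or_pos d with h0 | h0
      · rw [hd, h0, pow_zero] at hD1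
        exact absurd hD1 (lt_irrefl 1)
      · exact h0
    obtain ⟨n, hn⟩ := (P.2.to_le (le_refl (P : Subgroup G))).exists_card_eq
    have hdn : p ^ (d + 1) ∣ Nat.card (P : Subgroup G) := by
      rw [hd, hn] at hDn
      have hlt : d < n := (Nat.pow_lt_pow_iff_right hp.one_lt).mp hDn
      rw [hn]
      exact pow_dvd_pow p hlt
    have S : Setup p (P : Subgroup G) d :=
      ⟨hmin, P.2.to_le (le_refl (P : Subgroup G)), hd1, hdn,
        fun E hE g => hH E hE.1 (by rw [hd]; exact hE.2) g⟩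
    have hfoc : pResidual p G ⊓ (P : Subgroup G) ≤
        (Cfsg.Agent.Lib.Lead.frattiniP p (P : Subgroup G)).map (P : Subgroup G).subtype := by
      have h1 : pResidual p G ⊓ (P : Subgroup G) ≤ _root_.commutator G ⊓ (P : Subgroup G) := by
        refine le_inf ?_ inf_le_right
        rw [inf_comm]
        exact Cfsg.Agent.Lib.Lead.isPGroup_inf_pResidual_le_commutator (P : Subgroup G) P.2
      refine h1.trans ?_
      rw [Subgroup.commutator_inf_eq_focalSubgroup P, Subgroup.focalSubgroup_def,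
        Subgroup.closure_le]
      rintro g ⟨hgP, x, hx, u, rfl⟩
      have hxi : x⁻¹ ∈ (P : Subgroup G) := inv_mem hx
      have hc : u * x⁻¹ * u⁻¹ ∈ (P : Subgroup G) := by
        have e1 : u * x⁻¹ * u⁻¹ = x⁻¹ * ⁅x, u⁆ := by rw [commutatorElement_def]; group
        rw [e1]
        exact mul_mem hxi hgP
      have h2 := fusion P S x⁻¹ hxi u hc
      have e : ⁅x, u⁆ = (x⁻¹)⁻¹ * (u * x⁻¹ * u⁻¹) := by rw [commutatorElement_def]; group
      rw [SetLike.mem_coe, e]
      exact Subgroup.map_mono Cfsg.Agent.Lib.Lead.frattini_le_frattiniP h2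
    have hsup : pResidual p G ⊔ (P : Subgroup G) = ⊤ := by
      rw [sup_comm]
      exact Cfsg.Agent.Lib.Helper17.sylow_sup_pResidual P
    obtain ⟨-, hcop⟩ := Cfsg.Agent.Lib.Lead.tate_sup_eq_top P (pResidual p G) hsup hfoc
    obtain ⟨k, hk⟩ :=
      (Cfsg.Agent.Lib.Helper17.quotient_pResidual_isPGroup (G := G) (p := p)).exists_card_eq
    rw [Cfsg.Agent.Lib.Helper13.hasNormalPComplement_iff_exists]
    exact ⟨pResidual p G, inferInstance, hcop, k, by rw [Subgroup.index_eq_card]; exact hk⟩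

end Cfsg.Agent.S3031
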