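import Cfsg.Statements.S3032
import Cfsg.Agent.S3031
import Cfsg.Agent.Lib.Helper1.Huppert3
import Cfsg.Agent.Lib.Helper4.Supersolvable

set_option autoImplicit false
open Cfsg

namespace Cfsg.Agent.S3032

open Cfsg.Agent.Lib.Helper1.Huppert
open Cfsg.Agent.S3031 (exists_between mem_frattini_map_of_forall mem_centralizer_of_isCyclic
  mem_normalizer_of_forall_conj_mem)
open scoped commutatorElement

universe u

section verbal

variable {G : Type u} [Group G]

/-- an element of the verbal subgroup acts trivially on a normal section of order `p` -/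
theorem verbal_section_triv {p : ℕ} [Fact p.Prime] (U K : Subgroup G) [hU : U.Normal]
    [hK : K.Normal] (hidx : K.relIndex U = p) {y : G} (hy : InVerbal p y) :
    ∀ u ∈ U, u⁻¹ * (y * u * y⁻¹) ∈ K := by
  intro u hu
  have hNn : (U.map (QuotientGroup.mk' K)).Normal :=
    hU.map _ (QuotientGroup.mk'_surjective K)
  have hNc : Nat.card (U.map (QuotientGroup.mk' K)) = p := by
    rw [← Subgroup.relIndex_ker, QuotientGroup.ker_mk', hidx]
  have h1 := (hy.map (QuotientGroup.mk' K)).commute_of_card_eq (U.map (QuotientGroup.mk' K)) hNc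
    (QuotientGroup.mk' K u) (Subgroup.mem_map_of_mem _ hu)
  rw [← QuotientGroup.eq_one_iff, QuotientGroup.mk_mul, QuotientGroup.mk_mul,
    QuotientGroup.mk_mul, QuotientGroup.mk_inv, QuotientGroup.mk_inv]
  have key' : (y : G ⧸ K) * (u : G ⧸ K) = (u : G ⧸ K) * (y : G ⧸ K) := h1
  rw [key']
  group

/-- a `p'`-element of the verbal subgroup centralizes a cyclic normal `p`-subgroup -/
theorem verbal_centralizes_cyclic [Finite G] {p : ℕ} [hp : Fact p.Prime] (C : Subgroup G)
    [hCn : C.Normal] [hCc : IsCyclic C] {k : ℕ} (hC : Nat.card C = p ^ k) {y : G}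
    (hy : InVerbal p y) (hcop : (orderOf y).Coprime p) : ∀ x ∈ C, y * x = x * y := by
  classical
  have hcomm : ∀ a b : MulAut C, a * b = b * a := by
    intro a b
    apply (IsCyclic.mulAutMulEquiv C).injective
    rw [map_mul, map_mul, mul_comm]
  have hcardA : Nat.card (MulAut C) ∣ p ^ k * (p - 1) := by
    rw [IsCyclic.card_mulAut, hC]
    rcases Nat.eq_zero_or_pos k with h0 | h0
    · rw [h0, pow_zero, Nat.totient_one]; exact one_dvd _
    · rw [Nat.totient_prime_pow hp.out h0]
      exact Nat.mul_dvd_mul_right (pow_dvd_pow p (Nat.sub_le k 1)) _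
  let f : G →* MulAut C :=
    { toFun := fun g => (MulAut.conjNormal g : MulAut C) ^ (p ^ k)
      map_one' := by rw [map_one, one_pow]
      map_mul' := fun a b => by
        rw [map_mul]
        exact Commute.mul_pow (hcomm _ _) _ }
  have hYc : ∀ a b : f.range, a * b = b * a := fun a b => Subtype.ext (hcomm _ _)
  have hYe : ∀ a : f.range, a ^ (p - 1) = 1 := by
    rintro ⟨a, g, rfl⟩
    apply Subtype.ext
    show ((MulAut.conjNormal g : MulAut C) ^ (p ^ k)) ^ (p - 1) = 1
    rw [← pow_mul]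
    exact orderOf_dvd_iff_pow_eq_one.mp ((orderOf_dvd_natCard _).trans hcardA)
  have h1 : f.rangeRestrict y = 1 := hy f.range hYc hYe f.rangeRestrict
  have h2 : (MulAut.conjNormal y : MulAut C) ^ (p ^ k) = 1 := by
    have := congrArg Subtype.val h1
    exact this
  have h3 : (MulAut.conjNormal y : MulAut C) ^ (orderOf y) = 1 := by
    rw [← map_pow, pow_orderOf_eq_one, map_one]
  have h4 : orderOf (MulAut.conjNormal y : MulAut C) = 1 := by
    have e1 := orderOf_dvd_of_pow_eq_one h2
    have e2 := orderOf_dvd_of_pow_eq_one h3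
    exact Nat.eq_one_of_dvd_coprimes (Nat.Coprime.pow_right k hcop) e2 e1
  rw [orderOf_eq_one_iff] at h4
  intro x hx
  have h5 : (MulAut.conjNormal y : MulAut C) ⟨x, hx⟩ = ⟨x, hx⟩ := by rw [h4]; rfl
  have h6 : y * x * y⁻¹ = x := by
    have := congrArg Subtype.val h5
    simpa [MulAut.conjNormal_apply] using this
  calc y * x = y * x * y⁻¹ * y := by group
    _ = x * y := by rw [h6]

/-- base case: a `p'`-element of the verbal subgroup centralizes a normal subgroup of order
`p ^ (d + 1)` all of whose maximal subgroups are normal in `G` -/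
theorem verbal_base [Finite G] {p : ℕ} [hp : Fact p.Prime] {d : ℕ} (R : Subgroup G)
    [hRn : R.Normal] (hRp : IsPGroup p R) (hR : Nat.card R = p ^ (d + 1))
    (hN : ∀ M : Subgroup G, M ≤ R → Nat.card M = p ^ d → M.Normal)
    {y : G} (hy : InVerbal p y) (hcop : (orderOf y).Coprime p) :
    y ∈ Subgroup.centralizer (R : Set G) := by
  have hpp : p.Prime := hp.out
  have h := Cfsg.Agent.Lib.Helper1.le_centralizer_of_commutator_le_frattini (Subgroup.zpowers y) R
    (by rw [Subgroup.normalizer_eq_top_iff.mpr hRn]; exact le_top) ?_ ?_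
  · exact h (Subgroup.mem_zpowers y)
  · rw [Nat.card_zpowers]
    obtain ⟨k, hk⟩ := (hRp.to_subgroup (frattini R)).exists_card_eq
    rw [hk]
    exact Nat.Coprime.pow_right k hcop
  · intro b hb k hk
    obtain ⟨j, rfl⟩ := Subgroup.mem_zpowers_iff.mp hb
    have hbV : InVerbal p (y ^ j) := hy.pow j
    have hkinv : k⁻¹ ∈ R := R.inv_mem hk
    have hc : (k⁻¹)⁻¹ * (y ^ j * k⁻¹ * (y ^ j)⁻¹) ∈ (frattini R).map R.subtype := by
      apply mem_frattini_map_of_forall R hRp
      · exact R.mul_mem (R.inv_mem hkinv) (hRn.conj_mem _ hkinv _)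
      · intro M hMR hMcard
        have hMd : Nat.card M = p ^ d := by
          rw [hR, pow_succ] at hMcard
          exact Nat.eq_of_mul_eq_mul_right hpp.pos hMcard
        haveI hMn : M.Normal := hN M hMR hMd
        have hidx : M.relIndex R = p := by
          have h1 := Subgroup.relIndex_mul_relIndex ⊥ M R bot_le hMR
          rw [Subgroup.relIndex_bot_left, Subgroup.relIndex_bot_left, hMd, hR, pow_succ] at h1
          exact Nat.eq_of_mul_eq_mul_left (pow_pos hpp.pos d) h1
        exact verbal_section_triv R M hidx hbV _ hkinv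
    have e : y ^ j * k * (y ^ j)⁻¹ * k⁻¹ = ((k⁻¹)⁻¹ * (y ^ j * k⁻¹ * (y ^ j)⁻¹))⁻¹ := by group
    rw [e]
    exact Subgroup.inv_mem _ hc

/-- a `p'`-element of the verbal subgroup centralizes a normal `p`-subgroup `E` all of whose
subgroups of order `p ^ d` (and `4` if `p ^ d = 2`) are normal in `G` -/
theorem verbal_centralizes [Finite G] {p : ℕ} [hp : Fact p.Prime] {d : ℕ} (E : Subgroup G)
    [hEn : E.Normal] (hEp : IsPGroup p E) (hd : 1 ≤ d) (hdn : p ^ (d + 1) ∣ Nat.card E)
    (hN : ∀ F : Subgroup G, F ≤ E → (Nat.card F = p ^ d ∨ (p ^ d = 2 ∧ Nat.card F = 4)) →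
      F.Normal)
    {y : G} (hy : InVerbal p y) (hcop : (orderOf y).Coprime p) :
    y ∈ Subgroup.centralizer (E : Set G) := by
  have hpp : p.Prime := hp.out
  have hc : ∀ F : Subgroup G, F ≤ E → Nat.card F = p ^ d → ∀ x ∈ F, y * x = x * y := by
    intro F hFE hFd
    haveI hFn : F.Normal := hN F hFE (Or.inl hFd)
    by_cases hcyc : IsCyclic F
    · exact verbal_centralizes_cyclic F hFd hy hcop
    · obtain ⟨R, hFR, hRE, hRd⟩ := exists_between F E hFE hFd (Nat.le_succ d) hdn
      have hRnc : ¬ IsCyclic R := by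
        intro h
        exact hcyc (isCyclic_of_injective (Subgroup.inclusion hFR)
          (Subgroup.inclusion_injective hFR))
      have hsub : ∀ x ∈ R, ∃ F' : Subgroup G, x ∈ F' ∧ F' ≤ R ∧ Nat.card F' = p ^ d := by
        intro x hx
        have hzR : Subgroup.zpowers x ≤ R := Subgroup.zpowers_le.mpr hx
        have hdv : Nat.card (Subgroup.zpowers x) ∣ p ^ (d + 1) := by
          rw [← hRd]; exact Subgroup.card_dvd_of_le hzR
        obtain ⟨j, hjd1, hj⟩ := (Nat.dvd_prime_pow hpp).mp hdv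
        have hjd : j ≤ d := by
          by_contra hjd
          have hjeq : j = d + 1 := by omega
          have hzeq : Subgroup.zpowers x = R :=
            Subgroup.eq_of_le_of_card_ge hzR (by rw [hRd, hj, hjeq])
          apply hRnc
          refine ⟨⟨⟨x, hx⟩, fun r => ?_⟩⟩
          have hr : (r : G) ∈ Subgroup.zpowers x := by rw [hzeq]; exact r.2
          obtain ⟨k, hk⟩ := Subgroup.mem_zpowers_iff.mp hr
          exact Subgroup.mem_zpowers_iff.mpr ⟨k, Subtype.ext (by simpa using hk)⟩
        obtain ⟨F', hxF', hF'R, hF'd⟩ := exists_between (Subgroup.zpowers x) R hzR hj hjd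
          (by rw [hRd]; exact pow_dvd_pow p (Nat.le_succ d))
        exact ⟨F', hxF' (Subgroup.mem_zpowers x), hF'R, hF'd⟩
      haveI hRn : R.Normal := by
        constructor
        intro x hx g
        obtain ⟨F', hxF', hF'R, hF'd⟩ := hsub x hx
        have hF'n : F'.Normal := hN F' (hF'R.trans hRE) (Or.inl hF'd)
        exact hF'R (hF'n.conj_mem x hxF' g)
      have h1 := verbal_base R (hEp.to_le hRE) hRd
        (fun M hMR hMd => hN M (hMR.trans hRE) (Or.inl hMd)) hy hcop
      intro x hx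
      exact ((Subgroup.mem_centralizer_iff.mp h1) x (hFR hx)).symm
  have hX : ∀ x ∈ E, orderOf x ∣ p ^ d → y * x = x * y := by
    intro x hx hox
    obtain ⟨j, hjd, hj⟩ := (Nat.dvd_prime_pow hpp).mp hox
    have hzE : Subgroup.zpowers x ≤ E := Subgroup.zpowers_le.mpr hx
    obtain ⟨F, hxF, hFE, hFd⟩ := exists_between (Subgroup.zpowers x) E hzE
      (by rw [Nat.card_zpowers, hj]) hjd ((pow_dvd_pow p (Nat.le_succ d)).trans hdn)
    exact hc F hFE hFd x (hxF (Subgroup.mem_zpowers x))
  apply Cfsg.Agent.Lib.Helper13.mem_centralizer_of_centralizes_small p E hEp y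
    (by rw [Subgroup.normalizer_eq_top_iff.mpr hEn]; exact Subgroup.mem_top y) hcop
  intro x hx hsmall
  rcases hsmall with h1 | ⟨h2, h4⟩
  · apply hX x hx
    exact (orderOf_dvd_of_pow_eq_one h1).trans (dvd_pow_self p (by omega))
  · have ho : orderOf x ∣ 2 ^ 2 := orderOf_dvd_of_pow_eq_one h4
    by_cases hd2 : 2 ≤ d
    · apply hX x hx
      rw [h2]
      exact ho.trans (pow_dvd_pow 2 hd2)
    · have hd1 : d = 1 := by omega
      obtain ⟨j, hj2, hj⟩ := (Nat.dvd_prime_pow Nat.prime_two).mp ho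
      by_cases hj1 : j ≤ 1
      · apply hX x hx
        rw [hj, h2, hd1]
        exact pow_dvd_pow 2 hj1
      · have hj' : j = 2 := by omega
        have hz4 : Nat.card (Subgroup.zpowers x) = 4 := by
          rw [Nat.card_zpowers, hj, hj']; norm_num
        have hzE : Subgroup.zpowers x ≤ E := Subgroup.zpowers_le.mpr hx
        haveI hzn : (Subgroup.zpowers x).Normal :=
          hN _ hzE (Or.inr ⟨by rw [h2, hd1]; norm_num, hz4⟩)
        have hz4' : Nat.card (Subgroup.zpowers x) = p ^ 2 := by rw [hz4, h2]; norm_num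
        exact verbal_centralizes_cyclic (Subgroup.zpowers x) hz4' hy hcop x
          (Subgroup.mem_zpowers x)

/-- the verbal subgroup for abelian groups of exponent dividing `p - 1` -/
def Vb (p : ℕ) (G : Type u) [Group G] : Subgroup G where
  carrier := {v | InVerbal p v}
  one_mem' := fun Y _ _ _ f => map_one f
  mul_mem' := fun {a b} ha hb Y _ hc he f => by
    rw [map_mul, ha Y hc he f, hb Y hc he f, one_mul]
  inv_mem' := fun {a} ha Y _ hc he f => by
    rw [map_inv, ha Y hc he f, inv_one]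

theorem mem_Vb {p : ℕ} {v : G} : v ∈ Vb p G ↔ InVerbal p v := Iff.rfl

instance Vb_normal (p : ℕ) : (Vb p G).Normal := by
  constructor
  intro v hv g Y _ hc he f
  rw [map_mul, map_mul, map_inv, hv Y hc he f, mul_one, mul_inv_cancel]

/-- hypercyclic embedding data: `T` contains all commutators and `(p-1)`-th powers, and every
element of `T` acts on `E` as a `p`-element -/
structure HC (p : ℕ) (E T : Subgroup G) : Prop where
  normal : T.Normal
  comm : ∀ a b : G, ⁅a, b⁆ ∈ T
  pow : ∀ a : G, a ^ (p - 1) ∈ T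
  cent : ∀ t ∈ T, ∃ k : ℕ, ∀ x ∈ E, t ^ (p ^ k) * x = x * t ^ (p ^ k)

theorem hC_of_normal [Finite G] {p : ℕ} [hp : Fact p.Prime] {d : ℕ} (E : Subgroup G)
    [hEn : E.Normal] (hEp : IsPGroup p E) (hd : 1 ≤ d) (hdn : p ^ (d + 1) ∣ Nat.card E)
    (hN : ∀ F : Subgroup G, F ≤ E → (Nat.card F = p ^ d ∨ (p ^ d = 2 ∧ Nat.card F = 4)) →
      F.Normal) : HC p E (Vb p G) := by
  have hpp : p.Prime := hp.out
  refine ⟨inferInstance, fun a b => inVerbal_commutator p a b, fun a => inVerbal_pow p a, ?_⟩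
  intro t ht
  refine ⟨(orderOf t).factorization p, ?_⟩
  have hV : InVerbal p (t ^ (p ^ (orderOf t).factorization p)) := by
    have := (mem_Vb.mp ht).pow ((p ^ (orderOf t).factorization p : ℕ) : ℤ)
    rwa [zpow_natCast] at this
  have hcop : (orderOf (t ^ (p ^ (orderOf t).factorization p))).Coprime p := by
    rw [orderOf_pow_of_dvd (pow_ne_zero _ hpp.ne_zero) (Nat.ordProj_dvd _ _), Nat.coprime_comm]
    exact Nat.coprime_ordCompl hpp (orderOf_pos t).ne'
  have h1 := verbal_centralizes E hEp hd hdn hN hV hcop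
  intro x hx
  exact ((Subgroup.mem_centralizer_iff.mp h1) x hx).symm

theorem HC.map_mk {p : ℕ} {E T : Subgroup G} (h : HC p E T) (N : Subgroup G) [N.Normal] :
    HC p (E.map (QuotientGroup.mk' N)) (T.map (QuotientGroup.mk' N)) := by
  haveI := h.normal
  refine ⟨Subgroup.Normal.map inferInstance _ (QuotientGroup.mk'_surjective N), ?_, ?_, ?_⟩
  · intro a b
    obtain ⟨a, rfl⟩ := QuotientGroup.mk'_surjective N a
    obtain ⟨b, rfl⟩ := QuotientGroup.mk'_surjective N b
    rw [← map_commutatorElement]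
    exact Subgroup.mem_map_of_mem _ (h.comm a b)
  · intro a
    obtain ⟨a, rfl⟩ := QuotientGroup.mk'_surjective N a
    rw [← map_pow]
    exact Subgroup.mem_map_of_mem _ (h.pow a)
  · rintro _ ⟨t, ht, rfl⟩
    obtain ⟨k, hk⟩ := h.cent t ht
    refine ⟨k, ?_⟩
    rintro _ ⟨x, hx, rfl⟩
    rw [← map_pow, ← map_mul, ← map_mul, hk x hx]

/-- a minimal normal subgroup of `G` inside `E` has order `p` -/
theorem HC.card_minimal [Finite G] {p : ℕ} [hp : Fact p.Prime] {E T N : Subgroup G}
    (h : HC p E T) [hNn : N.Normal] (hNE : N ≤ E) (hNp : IsPGroup p N) (hN : N ≠ ⊥)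
    (hcomm : ∀ x ∈ N, ∀ y ∈ N, x * y = y * x) (hexp : ∀ x ∈ N, x ^ p = 1)
    (hmin : ∀ B : Subgroup G, B.Normal → B ≤ N → B = ⊥ ∨ B = N) : Nat.card N = p := by
  haveI := h.normal
  have hpp : p.Prime := hp.out
  -- `T` acts on `N` as a `p`-group
  have hA : IsPGroup p (T.map (MulAut.conjNormal (H := N))) := by
    rintro ⟨_, t, ht, rfl⟩
    obtain ⟨k, hk⟩ := h.cent t ht
    refine ⟨k, Subtype.ext ?_⟩
    show (MulAut.conjNormal t : MulAut N) ^ (p ^ k) = 1
    rw [← map_pow]
    ext ⟨x, hx⟩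
    rw [MulAut.conjNormal_apply, MulAut.one_apply, hk x (hNE hx)]
    group
  have hpN : p ∣ Nat.card N := by
    obtain ⟨j, hj⟩ := hNp.exists_card_eq
    rcases Nat.eq_zero_or_pos j with h0 | h0
    · exfalso
      rw [h0, pow_zero, Subgroup.card_eq_one] at hj
      exact hN hj
    · rw [hj]; exact dvd_pow_self p h0.ne'
  have h1 : (1 : N) ∈ MulAction.fixedPoints (T.map (MulAut.conjNormal (H := N))) N := by
    intro a
    exact map_one (a : MulAut N)
  obtain ⟨b, hb, hb1⟩ := hA.exists_fixed_point_of_prime_dvd_card_of_fixed_point N hpN h1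
  have hbT : ∀ t ∈ T, t * (b : G) = (b : G) * t := by
    intro t ht
    have h2 := hb ⟨MulAut.conjNormal t, Subgroup.mem_map_of_mem _ ht⟩
    have h3 : (MulAut.conjNormal t : MulAut N) b = b := h2
    have h4 : t * (b : G) * t⁻¹ = (b : G) := by
      have := congrArg Subtype.val h3
      simpa [MulAut.conjNormal_apply] using this
    calc t * (b : G) = t * (b : G) * t⁻¹ * t := by group
      _ = (b : G) * t := by rw [h4]
  -- the centralizer of `T` in `N` is a nontrivial normal subgroup
  have hBn : (N ⊓ Subgroup.centralizer (T : Set G)).Normal := Subgroup.normal_inf_normal _ _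
  have hbB : (b : G) ∈ N ⊓ Subgroup.centralizer (T : Set G) :=
    ⟨b.2, Subgroup.mem_centralizer_iff.mpr fun t ht => hbT t ht⟩
  have hBN : N ⊓ Subgroup.centralizer (T : Set G) = N := by
    rcases hmin _ hBn inf_le_left with h0 | h0
    · exfalso
      rw [h0, Subgroup.mem_bot] at hbB
      exact hb1 (Subtype.ext hbB.symm)
    · exact h0
  have hTN : ∀ t ∈ T, ∀ x ∈ N, t * x = x * t := by
    intro t ht x hx
    have hx' : x ∈ N ⊓ Subgroup.centralizer (T : Set G) := by rw [hBN]; exact hx
    exact (Subgroup.mem_centralizer_iff.mp hx'.2) t ht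
  exact card_eq_of_abelian_action hN hcomm hexp hmin
    (fun g g' x hx => hTN _ (h.comm g g') x hx) (fun g x hx => hTN _ (h.pow g) x hx)

end verbal

section pgroup

open Cfsg.Agent.Lib.Helper4

/-- a normal `p`-subgroup with hypercyclic embedding data and supersolvable quotient -/
theorem supersolvable_of_HC {p : ℕ} [hp : Fact p.Prime] : ∀ (n : ℕ) (G : Type u) [Group G]
    [Finite G] (E T : Subgroup G) [E.Normal], Nat.card E = n → IsPGroup p E → HC p E T →
    Cfsg.IsSupersolvable (G ⧸ E) → Cfsg.IsSupersolvable G := by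
  intro n
  induction n using Nat.strong_induction_on with
  | _ n ih =>
    intro G _ _ E T hEn hcard hEp hHC hq
    by_cases hEbot : E = ⊥
    · have hinj : Function.Injective (QuotientGroup.mk' E) := by
        rw [← MonoidHom.ker_eq_bot_iff, QuotientGroup.ker_mk', hEbot]
      exact isSupersolvable_of_mulEquiv
        (MulEquiv.ofBijective (QuotientGroup.mk' E) ⟨hinj, QuotientGroup.mk'_surjective E⟩).symm hq
    obtain ⟨N, hNn, hNbot, hNE, hmin⟩ := exists_minimal_normal_le E hEbot
    have hNC := le_centralizer_of_minimal hEp hNE hNbot hmin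
    have hcomm : ∀ x ∈ N, ∀ y ∈ N, x * y = y * x := by
      intro x hx y hy
      exact (Subgroup.mem_centralizer_iff.mp (hNC hx) y (hNE hy)).symm
    have hexp := pow_eq_one_of_minimal hEp hNE hNbot hcomm hmin
    have hNp : Nat.card N = p :=
      hHC.card_minimal hNE (hEp.to_le hNE) hNbot hcomm hexp hmin
    have hNprime : (Nat.card N).Prime := hNp.symm ▸ hp.out
    apply isSupersolvable_of_prime_normal N hNprime
    haveI hEbn : (E.map (QuotientGroup.mk' N)).Normal :=
      Subgroup.Normal.map hEn _ (QuotientGroup.mk'_surjective N)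
    have hlt : Nat.card (E.map (QuotientGroup.mk' N)) < n := by
      rw [← hcard, ← Subgroup.relIndex_ker, QuotientGroup.ker_mk']
      have h1 := Subgroup.relIndex_mul_relIndex ⊥ N E bot_le hNE
      rw [Subgroup.relIndex_bot_left, Subgroup.relIndex_bot_left, hNp] at h1
      have h2 : 0 < N.relIndex E := by
        rcases Nat.eq_zero_or_pos (N.relIndex E) with h0 | h0
        · rw [h0, mul_zero] at h1
          exact absurd h1.symm Nat.card_pos.ne'
        · exact h0
      have := hp.out.two_le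
      nlinarith
    refine ih _ hlt (G ⧸ N) (E.map (QuotientGroup.mk' N)) (T.map (QuotientGroup.mk' N)) rfl
      (hEp.map _) (hHC.map_mk N) ?_
    exact isSupersolvable_of_mulEquiv
      (QuotientGroup.quotientQuotientEquivQuotient N E hNE).symm hq

/-- a normal `p`-subgroup `E` with supersolvable quotient, all of whose subgroups of order
`p ^ d` (and `4` if `p ^ d = 2`) are normal in `G` -/
theorem supersolvable_of_normal_subgroups {G : Type u} [Group G] [Finite G] {p : ℕ}
    [hp : Fact p.Prime] {d : ℕ} (E : Subgroup G) [hEn : E.Normal] (hEp : IsPGroup p E)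
    (hd : 1 ≤ d) (hdn : p ^ (d + 1) ∣ Nat.card E)
    (hN : ∀ F : Subgroup G, F ≤ E → (Nat.card F = p ^ d ∨ (p ^ d = 2 ∧ Nat.card F = 4)) →
      F.Normal)
    (hq : Cfsg.IsSupersolvable (G ⧸ E)) : Cfsg.IsSupersolvable G :=
  supersolvable_of_HC _ G E (Vb p G) rfl hEp (hC_of_normal E hEp hd hdn hN) hq

end pgroup

section complement

variable {G : Type u} [Group G] [Finite G]

open Cfsg.Agent.Lib.Helper9 (mem_conjMap conj_mem_conjMap conjMap_eq_of_le
  mem_normalizer_of_conjMap_eq_self conjMap_eq_self_of_mem_normalizer)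

/-- a `p`-subgroup strongly closed in its normalizer is normal in every `p`-subgroup
containing it -/
theorem le_normalizer_of_isH {p : ℕ} [Fact p.Prime] {P F : Subgroup G} (hP : IsPGroup p P)
    (hFP : F ≤ P)
    (hH : ∀ g : G, F.map (MulAut.conj g).toMonoidHom ⊓ Subgroup.normalizer (F : Set G) ≤ F) :
    P ≤ Subgroup.normalizer (F : Set G) := by
  by_contra hne
  have hlt : Subgroup.normalizer (F : Set G) ⊓ P < P := by
    refine lt_of_le_of_ne inf_le_right ?_
    intro h
    exact hne (h ▸ inf_le_left)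
  obtain ⟨t, htP, htN, htn⟩ :=
    Cfsg.Agent.Lib.Helper18.exists_mem_normalizer_not_mem_of_lt _ P hP hlt
  have hEN : F ≤ Subgroup.normalizer (F : Set G) ⊓ P := le_inf Subgroup.le_normalizer hFP
  have h1 : F.map (MulAut.conj t).toMonoidHom ≤ Subgroup.normalizer (F : Set G) ⊓ P := by
    calc F.map (MulAut.conj t).toMonoidHom
        ≤ (Subgroup.normalizer (F : Set G) ⊓ P).map (MulAut.conj t).toMonoidHom :=
          Subgroup.map_mono hEN
      _ = Subgroup.normalizer (F : Set G) ⊓ P := conjMap_eq_self_of_mem_normalizer htn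
  have h2 : F.map (MulAut.conj t).toMonoidHom ≤ F :=
    (le_inf le_rfl (h1.trans inf_le_left)).trans (hH t)
  have h3 : t ∈ Subgroup.normalizer (F : Set G) :=
    mem_normalizer_of_conjMap_eq_self (conjMap_eq_of_le h2)
  exact htN ⟨h3, htP⟩

/-- the normal `p`-complement of `E`, for the smallest prime `p` dividing `|E|` -/
theorem exists_normal_complement {p : ℕ} [hp : Fact p.Prime] (E : Subgroup G) [hEn : E.Normal]
    (hdiv : p ∣ Nat.card E) (hmin : ∀ q : ℕ, q.Prime → q ∣ Nat.card E → p ≤ q)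
    (P : Subgroup G) (hPE : P ≤ E) (hPp : IsPGroup p P) (hPs : ¬ p ∣ P.relIndex E)
    (h : IsCyclic P ∨ ∃ D : Subgroup G, D ≤ P ∧ 1 < Nat.card D ∧ Nat.card D < Nat.card P ∧
      ∀ F : Subgroup G, F ≤ P → (Nat.card F = Nat.card D ∨ (Nat.card D = 2 ∧ Nat.card F = 4)) →
        ∀ g : G, F.map (MulAut.conj g).toMonoidHom ⊓ Subgroup.normalizer (F : Set G) ≤ F) :
    ∃ K : Subgroup G, K.Normal ∧ K ≤ E ∧ (Nat.card K).Coprime p ∧ K ⊔ P = E ∧ K ⊓ P = ⊥ := by
  classical
  have hpp : p.Prime := hp.out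
  have hP' : IsPGroup p (P.subgroupOf E) := hPp.comap_subtype
  let PS : Sylow p E := hP'.toSylow hPs
  have hcardP : Nat.card (P.subgroupOf E) = Nat.card P :=
    Nat.card_congr (Subgroup.subgroupOfEquivOfLe hPE).toEquiv
  have hres : Cfsg.HasNormalPComplement p E := by
    apply Cfsg.Agent.S3031.result hdiv hmin PS
    rcases h with hcyc | ⟨D, hDP, hD1, hDn, hH⟩
    · left
      haveI := hcyc
      exact isCyclic_of_surjective (Subgroup.subgroupOfEquivOfLe hPE).symm.toMonoidHom
        (Subgroup.subgroupOfEquivOfLe hPE).symm.surjective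
    · right
      have hcardD : Nat.card (D.subgroupOf E) = Nat.card D :=
        Nat.card_congr (Subgroup.subgroupOfEquivOfLe (hDP.trans hPE)).toEquiv
      refine ⟨D.subgroupOf E, fun x hx => hDP hx, by rw [hcardD]; exact hD1, ?_, ?_⟩
      · rw [hcardD]
        show Nat.card D < Nat.card (P.subgroupOf E)
        rw [hcardP]
        exact hDn
      · intro E' hE'P hcE' g
        have hFP : E'.map E.subtype ≤ P := by
          rintro _ ⟨x', hx', rfl⟩
          exact hE'P hx'
        have hcardF : Nat.card (E'.map E.subtype) = Nat.card E' :=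
          Subgroup.card_map_of_injective E.subtype_injective
        have hH' := hH (E'.map E.subtype) hFP (by rw [hcardF, ← hcardD]; exact hcE') (g : G)
        rintro x' ⟨hx1, hx2⟩
        have h1 : (x' : G) ∈ (E'.map E.subtype).map (MulAut.conj (g : G)).toMonoidHom := by
          obtain ⟨e, he, rfl⟩ := hx1
          refine ⟨(e : G), Subgroup.mem_map_of_mem _ he, ?_⟩
          simp [MulAut.conj_apply]
        have h2 : (x' : G) ∈ Subgroup.normalizer ((E'.map E.subtype : Subgroup G) : Set G) := by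
          apply mem_normalizer_of_forall_conj_mem
          rintro _ ⟨f', hf', rfl⟩
          have := (Subgroup.mem_normalizer_iff.mp hx2 f').mp hf'
          exact ⟨_, this, by simp⟩
        obtain ⟨f', hf', hfx⟩ := hH' ⟨h1, h2⟩
        have : f' = x' := Subtype.ext hfx
        rwa [← this]
  obtain ⟨K', hK'n, hK'cop, k, hK'idx⟩ :=
    Cfsg.Agent.Lib.Helper13.hasNormalPComplement_iff_exists.mp hres
  have hKcard : Nat.card (K'.map E.subtype) = Nat.card K' :=
    Subgroup.card_map_of_injective E.subtype_injective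
  have hKE : K'.map E.subtype ≤ E := Subgroup.map_subtype_le _
  have hchar : ∀ x : G, x ∈ K'.map E.subtype ↔ x ∈ E ∧ (orderOf x).Coprime p := by
    intro x
    constructor
    · rintro ⟨x', hx', rfl⟩
      refine ⟨x'.2, ?_⟩
      have h1 : orderOf (⟨x', hx'⟩ : K') ∣ Nat.card K' := orderOf_dvd_natCard _
      rw [Subgroup.orderOf_mk] at h1
      have h2 : orderOf (E.subtype x') = orderOf x' := Subgroup.orderOf_coe x'
      rw [h2]
      exact Nat.Coprime.coprime_dvd_left h1 hK'cop
    · rintro ⟨hxE, hxcop⟩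
      refine ⟨⟨x, hxE⟩, ?_, rfl⟩
      have hq : IsPGroup p (E ⧸ K') :=
        IsPGroup.of_card (n := k) (by rw [← Subgroup.index_eq_card]; exact hK'idx)
      obtain ⟨j, hj⟩ := hq (QuotientGroup.mk' K' ⟨x, hxE⟩)
      have h1 : orderOf (QuotientGroup.mk' K' ⟨x, hxE⟩) ∣ p ^ j := orderOf_dvd_of_pow_eq_one hj
      have h2 : orderOf (QuotientGroup.mk' K' ⟨x, hxE⟩) ∣ orderOf x := by
        have := orderOf_map_dvd (QuotientGroup.mk' K') (⟨x, hxE⟩ : E)
        rwa [Subgroup.orderOf_mk] at this
      have h3 : orderOf (QuotientGroup.mk' K' ⟨x, hxE⟩) = 1 :=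
        Nat.eq_one_of_dvd_coprimes (Nat.Coprime.pow_right j hxcop) h2 h1
      rw [orderOf_eq_one_iff] at h3
      exact (QuotientGroup.eq_one_iff _).mp h3
  have hKn : (K'.map E.subtype).Normal := by
    constructor
    intro x hx g
    rw [hchar] at hx ⊢
    refine ⟨hEn.conj_mem x hx.1 g, ?_⟩
    have e : orderOf (g * x * g⁻¹) = orderOf x := by
      have h : SemiconjBy g x (g * x * g⁻¹) := by unfold SemiconjBy; group
      exact (h.orderOf_eq g).symm
    rw [e]
    exact hx.2
  refine ⟨K'.map E.subtype, hKn, hKE, by rw [hKcard]; exact hK'cop, ?_, ?_⟩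
  · apply le_antisymm (sup_le hKE hPE)
    rw [← Subgroup.relIndex_eq_one]
    have h1 : (K'.map E.subtype ⊔ P).relIndex E ∣ (K'.map E.subtype).relIndex E :=
      Subgroup.relIndex_dvd_of_le_left E le_sup_left
    have h2 : (K'.map E.subtype ⊔ P).relIndex E ∣ P.relIndex E :=
      Subgroup.relIndex_dvd_of_le_left E le_sup_right
    have h3 : (K'.map E.subtype).relIndex E = p ^ k := by
      rw [← hK'idx, Subgroup.relIndex]
      congr 1
      ext x
      rw [Subgroup.mem_subgroupOf]
      constructor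
      · rintro ⟨y, hy, hyx⟩
        have : y = x := Subtype.ext hyx
        rw [← this]; exact hy
      · intro hx
        exact ⟨x, hx, rfl⟩
    rw [h3] at h1
    obtain ⟨j, -, hj⟩ := (Nat.dvd_prime_pow hpp).mp h1
    rcases Nat.eq_zero_or_pos j with h0 | h0
    · rw [hj, h0, pow_zero]
    · exfalso
      apply hPs
      exact (hj ▸ dvd_pow_self p h0.ne').trans h2
  · apply Subgroup.inf_eq_bot_of_coprime
    rw [hKcard]
    obtain ⟨j, hj⟩ := hPp.exists_card_eq
    rw [hj]
    exact Nat.Coprime.pow_right j hK'cop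

/-- the product of a strongly closed `p`-subgroup of the Sylow subgroup `P` of `E` with the normal
`p`-complement `K` of `E` is normal in `G` -/
theorem sup_normal_of_isH {p : ℕ} [Fact p.Prime] (E K P F : Subgroup G) [hEn : E.Normal]
    [hKn : K.Normal] (hKP : K ⊔ P = E) (hPp : IsPGroup p P) (hPs : ¬ p ∣ P.relIndex E)
    (hFP : F ≤ P)
    (hH : ∀ g : G, F.map (MulAut.conj g).toMonoidHom ⊓ Subgroup.normalizer (F : Set G) ≤ F) :
    (F ⊔ K).Normal := by
  have hPE : P ≤ E := hKP ▸ le_sup_right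
  have hPF : P ≤ Subgroup.normalizer (F : Set G) := le_normalizer_of_isH hPp hFP hH
  have key : ∀ g : G, ∀ f ∈ F, g * f * g⁻¹ ∈ F ⊔ K := by
    intro g f hf
    have hFgE : F.map (MulAut.conj g).toMonoidHom ≤ E := by
      rintro _ ⟨x, hx, rfl⟩
      simpa [MulAut.conj_apply] using hEn.conj_mem x (hPE (hFP hx)) g
    obtain ⟨P₁, hP₁p, hP₁E, hPP₁, h, hhE, hhP₁⟩ :=
      Cfsg.Agent.Lib.Helper9.exists_pgroup_conj_le E P (F.map (MulAut.conj g).toMonoidHom) hPp
        ((hPp.to_le hFP).map _) hPE hFgE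
    have hP₁ : P₁ = P :=
      Cfsg.Agent.Lib.Helper13.eq_of_le_of_not_dvd_relIndex E P P₁ hPP₁ hP₁E hP₁p hPs
    rw [hP₁] at hhP₁
    have hhKP : h ∈ P ⊔ K := by rw [sup_comm, hKP]; exact hhE
    obtain ⟨u, hu, k, hk, rfl⟩ := Subgroup.mem_sup_of_normal_right.mp hhKP
    have h1 : (u * k) * (g * f * g⁻¹) * (u * k)⁻¹ ∈ P := by
      apply hhP₁
      exact conj_mem_conjMap (conj_mem_conjMap hf)
    have h2 : (k * g) * f * (k * g)⁻¹ ∈ P := by
      have e : (k * g) * f * (k * g)⁻¹ = u⁻¹ * ((u * k) * (g * f * g⁻¹) * (u * k)⁻¹) * u := by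
        group
      rw [e]
      exact P.mul_mem (P.mul_mem (P.inv_mem hu) h1) hu
    have h3 : (k * g) * f * (k * g)⁻¹ ∈ F := hH (k * g) ⟨conj_mem_conjMap hf, hPF h2⟩
    have e : g * f * g⁻¹ = k⁻¹ * ((k * g) * f * (k * g)⁻¹) * k := by group
    rw [e]
    exact (F ⊔ K).mul_mem ((F ⊔ K).mul_mem (Subgroup.mem_sup_right (K.inv_mem hk))
      (Subgroup.mem_sup_left h3)) (Subgroup.mem_sup_right hk)
  constructor
  intro x hx g
  obtain ⟨f, hf, k, hk, rfl⟩ := Subgroup.mem_sup_of_normal_right.mp hx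
  have e : g * (f * k) * g⁻¹ = (g * f * g⁻¹) * (g * k * g⁻¹) := by group
  rw [e]
  exact (F ⊔ K).mul_mem (key g f hf) (Subgroup.mem_sup_right (hKn.conj_mem k hk g))

end complement

section main

variable {G : Type u} [Group G] [Finite G]

open Cfsg.Agent.Lib.Helper4

/-- the hypothesis on the Sylow subgroups of `E` -/
def Hyp' (E : Subgroup G) : Prop :=
  ∀ (p : ℕ), p.Prime → ∀ P : Subgroup G, P ≤ E → IsPGroup p P → ¬ p ∣ P.relIndex E →
    ¬ IsCyclic ↥P →
      ∃ D : Subgroup G, D ≤ P ∧ 1 < Nat.card D ∧ Nat.card D < Nat.card P ∧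
        ∀ F : Subgroup G, F ≤ P →
          (Nat.card F = Nat.card D ∨ (Nat.card D = 2 ∧ Nat.card F = 4)) →
          ∀ g : G, F.map (MulAut.conj g).toMonoidHom ⊓ Subgroup.normalizer (F : Set G) ≤ F

/-- passing from `G ⧸ E` to `G ⧸ K`, for the normal `p`-complement `K` of `E` -/
theorem quotient_complement_supersolvable {p : ℕ} [hp : Fact p.Prime] (E K P : Subgroup G)
    [hEn : E.Normal] [hKn : K.Normal] (hKE : K ≤ E) (hKP : K ⊔ P = E) (hKPinf : K ⊓ P = ⊥)
    (hPp : IsPGroup p P) (hPs : ¬ p ∣ P.relIndex E)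
    (h : IsCyclic P ∨ ∃ D : Subgroup G, D ≤ P ∧ 1 < Nat.card D ∧ Nat.card D < Nat.card P ∧
      ∀ F : Subgroup G, F ≤ P → (Nat.card F = Nat.card D ∨ (Nat.card D = 2 ∧ Nat.card F = 4)) →
        ∀ g : G, F.map (MulAut.conj g).toMonoidHom ⊓ Subgroup.normalizer (F : Set G) ≤ F)
    (hq : IsSupersolvable (G ⧸ E)) : IsSupersolvable (G ⧸ K) := by
  classical
  have hpp : p.Prime := hp.out
  have hEb : E.map (QuotientGroup.mk' K) = P.map (QuotientGroup.mk' K) := by
    rw [← hKP, Subgroup.map_sup, QuotientGroup.map_mk'_self, bot_sup_eq]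
  haveI hEbn : (E.map (QuotientGroup.mk' K)).Normal :=
    hEn.map _ (QuotientGroup.mk'_surjective K)
  have hq' : IsSupersolvable ((G ⧸ K) ⧸ E.map (QuotientGroup.mk' K)) :=
    isSupersolvable_of_mulEquiv (QuotientGroup.quotientQuotientEquivQuotient K E hKE).symm hq
  have hcardmap : ∀ F : Subgroup G, F ≤ P →
      Nat.card (F.map (QuotientGroup.mk' K)) = Nat.card F := by
    intro F hF
    rw [← Subgroup.relIndex_ker, QuotientGroup.ker_mk', ← Subgroup.inf_relIndex_right]
    have h0 : K ⊓ F = ⊥ := by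
      rw [eq_bot_iff, ← hKPinf]
      exact inf_le_inf_left K hF
    rw [h0, Subgroup.relIndex_bot_left]
  rcases h with hcyc | ⟨D, hDP, hD1, hDn, hH⟩
  · obtain ⟨c, hc⟩ := (Subgroup.isCyclic_iff_exists_zpowers_eq_top P).mp hcyc
    apply isSupersolvable_of_cyclic_normal (E.map (QuotientGroup.mk' K))
      (QuotientGroup.mk' K c) _ hq'
    rw [hEb, ← hc, MonoidHom.map_zpowers]
  · obtain ⟨d, hd⟩ := (hPp.to_le hDP).exists_card_eq
    have hd1 : 1 ≤ d := by
      rcases Nat.eq_zero_or_pos d with h0 | h0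
      · rw [hd, h0, pow_zero] at hD1
        exact absurd hD1 (lt_irrefl 1)
      · exact h0
    obtain ⟨n, hn⟩ := hPp.exists_card_eq
    have hdn : p ^ (d + 1) ∣ Nat.card (E.map (QuotientGroup.mk' K)) := by
      rw [hEb, hcardmap P le_rfl, hn]
      rw [hd, hn] at hDn
      have hlt : d < n := (Nat.pow_lt_pow_iff_right hpp.one_lt).mp hDn
      exact pow_dvd_pow p hlt
    have hEbp : IsPGroup p (E.map (QuotientGroup.mk' K)) := by
      rw [hEb]; exact hPp.map _
    apply supersolvable_of_normal_subgroups (E.map (QuotientGroup.mk' K)) hEbp hd1 hdn _ hq'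
    intro Fb hFb hcFb
    obtain ⟨F, hF⟩ : ∃ F : Subgroup G, F = Fb.comap (QuotientGroup.mk' K) ⊓ P := ⟨_, rfl⟩
    have hFP : F ≤ P := hF ▸ inf_le_right
    have hFmap : F.map (QuotientGroup.mk' K) = Fb := by
      apply le_antisymm
      · rintro _ ⟨x, hx, rfl⟩
        rw [hF] at hx
        exact hx.1
      · intro xb hxb
        have hxP : xb ∈ P.map (QuotientGroup.mk' K) := hEb ▸ hFb hxb
        obtain ⟨u, hu, rfl⟩ := hxP
        exact ⟨u, by rw [hF]; exact ⟨hxb, hu⟩, rfl⟩
    have hcF : Nat.card F = Nat.card Fb := by rw [← hFmap, hcardmap F hFP]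
    have hHF := hH F hFP (by rw [hcF, hd]; exact hcFb)
    haveI := sup_normal_of_isH E K P F hKP hPp hPs hFP hHF
    have e : Fb = (F ⊔ K).map (QuotientGroup.mk' K) := by
      rw [Subgroup.map_sup, QuotientGroup.map_mk'_self, sup_bot_eq, hFmap]
    rw [e]
    exact Subgroup.Normal.map inferInstance _ (QuotientGroup.mk'_surjective K)

theorem main_aux : ∀ (n : ℕ) (E : Subgroup G) [E.Normal], Nat.card E = n →
    IsSupersolvable (G ⧸ E) → Hyp' E → IsSupersolvable G := by
  intro n
  induction n using Nat.strong_induction_on with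
  | _ n ih =>
    intro E hEn hcard hq hyp
    by_cases hEbot : E = ⊥
    · have hinj : Function.Injective (QuotientGroup.mk' E) := by
        rw [← MonoidHom.ker_eq_bot_iff, QuotientGroup.ker_mk', hEbot]
      exact isSupersolvable_of_mulEquiv
        (MulEquiv.ofBijective (QuotientGroup.mk' E) ⟨hinj, QuotientGroup.mk'_surjective E⟩).symm hq
    have hcard1 : Nat.card E ≠ 1 := by rwa [Ne, Subgroup.card_eq_one]
    obtain ⟨p, hp_def⟩ : ∃ p : ℕ, p = (Nat.card E).minFac := ⟨_, rfl⟩
    have hpp : p.Prime := hp_def ▸ Nat.minFac_prime hcard1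
    haveI : Fact p.Prime := ⟨hpp⟩
    have hdiv : p ∣ Nat.card E := hp_def ▸ Nat.minFac_dvd _
    have hmin : ∀ q : ℕ, q.Prime → q ∣ Nat.card E → p ≤ q := fun q hq hqd =>
      hp_def ▸ Nat.minFac_le_of_dvd hq.two_le hqd
    obtain ⟨P, -, hPE, hPp, hPs⟩ :=
      Cfsg.Agent.Lib.Helper13.exists_relSylow_ge (p := p) E ⊥ IsPGroup.of_bot bot_le
    have hcases : IsCyclic P ∨ ∃ D : Subgroup G, D ≤ P ∧ 1 < Nat.card D ∧
        Nat.card D < Nat.card P ∧ ∀ F : Subgroup G, F ≤ P →
          (Nat.card F = Nat.card D ∨ (Nat.card D = 2 ∧ Nat.card F = 4)) →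
          ∀ g : G, F.map (MulAut.conj g).toMonoidHom ⊓ Subgroup.normalizer (F : Set G) ≤ F := by
      by_cases hc : IsCyclic P
      · exact Or.inl hc
      · exact Or.inr (hyp p hpp P hPE hPp hPs hc)
    obtain ⟨K, hKn, hKE, hKcop, hKP, hKPinf⟩ :=
      exists_normal_complement E hdiv hmin P hPE hPp hPs hcases
    haveI := hKn
    have hGK : IsSupersolvable (G ⧸ K) :=
      quotient_complement_supersolvable E K P hKE hKP hKPinf hPp hPs hcases hq
    have hlt : Nat.card K < n := by
      rw [← hcard]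
      have h1 : Nat.card K ∣ Nat.card E := Subgroup.card_dvd_of_le hKE
      have h2 : Nat.card K ≠ Nat.card E := by
        intro h
        rw [h] at hKcop
        exact (Nat.Prime.coprime_iff_not_dvd hpp).mp hKcop.symm hdiv
      exact lt_of_le_of_ne (Nat.le_of_dvd Nat.card_pos h1) h2
    refine ih _ hlt K rfl hGK ?_
    intro r hr R hRK hRr hRs hRnc
    haveI : Fact r.Prime := ⟨hr⟩
    apply hyp r hr R (hRK.trans hKE) hRr _ hRnc
    intro hdvd
    rw [← Subgroup.relIndex_mul_relIndex R K E hRK hKE] at hdvd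
    rcases (Nat.Prime.dvd_mul hr).mp hdvd with h1 | h1
    · exact hRs h1
    · have h2 : K.relIndex E ∣ Nat.card P := by
        rw [← hKP, Subgroup.relIndex_sup_left]
        exact Subgroup.relIndex_dvd_card K P
      obtain ⟨j, hj⟩ := hPp.exists_card_eq
      have h3 : r ∣ p ^ j := hj ▸ h1.trans h2
      have hrp : r = p := (Nat.prime_dvd_prime_iff_eq hr hpp).mp (hr.dvd_of_dvd_pow h3)
      apply hRnc
      have hR1 : Nat.card R = 1 := by
        obtain ⟨i, hi⟩ := hRr.exists_card_eq
        have h4 : Nat.card R ∣ Nat.card K := Subgroup.card_dvd_of_le hRK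
        rw [hi, hrp] at h4
        have h5 := Nat.Coprime.eq_one_of_dvd (Nat.Coprime.pow_left i hKcop.symm) h4
        rw [hi, hrp]
        exact h5
      haveI : Subsingleton R := (Nat.card_eq_one_iff_unique.mp hR1).1
      exact isCyclic_of_subsingleton

end main

/-- Let G be a finite group and E a normal subgroup with G/E supersolvable. Suppose that for every prime p and every non-cyclic Sylow p-subgroup P of E there is a subgroup D of P with 1 < |D| < |P| such that every subgroup F of P of order |D|, and also every subgroup F of P of order 4 when |D| = 2, satisfies g F g⁻¹ ∩ N_G(F) ≤ F for all g ∈ G. Then G is supersolvable. -/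
theorem result {G : Type*} [Group G] [Finite G] (E : Subgroup G) [E.Normal] (hGE : Cfsg.IsSupersolvable (G ⧸ E))
    (h : ∀ (p : ℕ), p.Prime → ∀ P : Subgroup G, P ≤ E → IsPGroup p P → ¬ p ∣ P.relIndex E → ¬ IsCyclic ↥P →
      ∃ D : Subgroup G, D ≤ P ∧ 1 < Nat.card D ∧ Nat.card D < Nat.card P ∧
        ∀ F : Subgroup G, F ≤ P → (Nat.card F = Nat.card D ∨ (Nat.card D = 2 ∧ Nat.card F = 4)) →
          ∀ g : G, F.map (MulAut.conj g).toMonoidHom ⊓ Subgroup.normalizer (F : Set G) ≤ F) :
    Cfsg.IsSupersolvable G := by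
  exact main_aux (Nat.card E) E rfl hGE h

end Cfsg.Agent.S3032
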