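import Cfsg.Statements.S3033
import Mathlib
import Cfsg.Agent.Lib.Helper4.Supersolvable
import Cfsg.Agent.Lib.Helper4.MinNormal
import Cfsg.Agent.Lib.Helper1.Schmidt
import Cfsg.Agent.S0132
import Cfsg.Agent.S0582

set_option autoImplicit false
open Cfsg

namespace Cfsg.Agent.S3033

universe u

open Cfsg.Agent.Lib.Helper4

/-- the hypothesis of the statement -/
def Hyp (G : Type u) [Group G] : Prop :=
  ∀ (p q : ℕ), p.Prime → q.Prime → p ≠ q → ∀ (x g : G), (∃ a : ℕ, orderOf x = p ^ a) →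
    (∃ b : ℕ, orderOf g = q ^ b) →
      ¬ q ^ 2 ∣ Nat.card ↥(Subgroup.zpowers x ⊔ Subgroup.zpowers (g * x * g⁻¹))

theorem Hyp.subgroup {G : Type u} [Group G] (h : Hyp G) (H : Subgroup G) : Hyp H := by
  intro p q hp hq hpq x g hx hg hdvd
  apply h p q hp hq hpq (x : G) (g : G)
  · obtain ⟨a, ha⟩ := hx; exact ⟨a, by rw [Subgroup.orderOf_coe, ha]⟩
  · obtain ⟨b, hb⟩ := hg; exact ⟨b, by rw [Subgroup.orderOf_coe, hb]⟩
  · have hmap : (Subgroup.zpowers x ⊔ Subgroup.zpowers (g * x * g⁻¹)).map H.subtype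
        = Subgroup.zpowers (x : G) ⊔ Subgroup.zpowers ((g : G) * x * (g : G)⁻¹) := by
      rw [Subgroup.map_sup, MonoidHom.map_zpowers, MonoidHom.map_zpowers]
      rfl
    rw [← hmap, Subgroup.card_map_of_injective H.subtype_injective]
    exact hdvd

theorem exists_lift {G : Type u} [Group G] [Finite G] (N : Subgroup G) [N.Normal] (p : ℕ)
    (hp : p.Prime) (y : G ⧸ N) (a : ℕ) (hy : orderOf y = p ^ a) :
    ∃ x : G, (∃ c : ℕ, orderOf x = p ^ c) ∧ (x : G ⧸ N) = y := by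
  obtain ⟨g, rfl⟩ := QuotientGroup.mk_surjective y
  rcases Nat.eq_zero_or_pos a with ha | ha
  · subst ha
    rw [pow_zero, orderOf_eq_one_iff] at hy
    exact ⟨1, ⟨0, by simp⟩, by rw [hy]; rfl⟩
  have hn0 : orderOf g ≠ 0 := (orderOf_pos g).ne'
  obtain ⟨m, hm⟩ : ∃ m, m = ordCompl[p] (orderOf g) := ⟨_, rfl⟩
  obtain ⟨f, hf⟩ : ∃ f, f = (orderOf g).factorization p := ⟨_, rfl⟩
  have hprod : p ^ f * m = orderOf g := by
    rw [hm, hf]; exact Nat.ordProj_mul_ordCompl_eq_self _ _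
  have hcop : Nat.Coprime m (p ^ a) := by
    rw [hm]; exact (Nat.coprime_ordCompl hp hn0).symm.pow_right a
  have h1 : 1 < p ^ a := Nat.one_lt_pow ha.ne' hp.one_lt
  obtain ⟨k, -, hk⟩ := Nat.exists_mul_mod_eq_one_of_coprime hcop h1
  refine ⟨g ^ (m * k), ?_, ?_⟩
  · have : (g ^ (m * k)) ^ (p ^ f) = 1 := by
      rw [← pow_mul, show m * k * p ^ f = (p ^ f * m) * k by ring, hprod, pow_mul,
        pow_orderOf_eq_one, one_pow]
    obtain ⟨c, -, hc⟩ := (Nat.dvd_prime_pow hp).mp (orderOf_dvd_of_pow_eq_one this)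
    exact ⟨c, hc⟩
  · rw [QuotientGroup.mk_pow]
    have := pow_mod_orderOf (g : G ⧸ N) (m * k)
    rw [hy, hk, pow_one] at this
    exact this.symm

theorem Hyp.quotient {G : Type u} [Group G] [Finite G] (h : Hyp G) (N : Subgroup G) [N.Normal] :
    Hyp (G ⧸ N) := by
  intro p q hp hq hpq y w hy hw hdvd
  obtain ⟨a, ha⟩ := hy
  obtain ⟨b, hb⟩ := hw
  obtain ⟨x, hx, rfl⟩ := exists_lift N p hp y a ha
  obtain ⟨g, hg, rfl⟩ := exists_lift N q hq w b hb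
  apply h p q hp hq hpq x g hx hg
  have hmap : (Subgroup.zpowers x ⊔ Subgroup.zpowers (g * x * g⁻¹)).map (QuotientGroup.mk' N)
      = Subgroup.zpowers (x : G ⧸ N) ⊔
        Subgroup.zpowers ((g : G ⧸ N) * (x : G ⧸ N) * (g : G ⧸ N)⁻¹) := by
    rw [Subgroup.map_sup, MonoidHom.map_zpowers, MonoidHom.map_zpowers]
    rfl
  rw [← hmap] at hdvd
  exact dvd_trans hdvd (Subgroup.card_map_dvd _ _)

/-! ### supersolvable groups: solvability and normal `p`-complements -/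

theorem isSolvable_of_isSupersolvable (G : Type u) [Group G] [Finite G] (h : IsSupersolvable G) :
    Group.IsSolvable G := by
  refine isSupersolvable_induction (P := fun G _ => Group.IsSolvable G) ?_ ?_ G h
  · intro G _ _ hs
    infer_instance
  · intro G _ _ N _ hN _ _ hQ
    haveI : Fact (Nat.card N).Prime := ⟨hN⟩
    have hNp : IsPGroup (Nat.card N) N := IsPGroup.of_card (n := 1) (by rw [pow_one])
    haveI : Group.IsNilpotent N := hNp.isNilpotent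
    haveI : Group.IsSolvable N := inferInstance
    haveI := hQ
    exact Group.isSolvable_of_ker_le_range N.subtype (QuotientGroup.mk' N)
      (by rw [QuotientGroup.ker_mk', Subgroup.range_subtype])

theorem exists_npc (n : ℕ) : ∀ (G : Type u) [Group G] [Finite G], Nat.card G = n →
    IsSupersolvable G → ∀ p : ℕ, p.Prime → (∀ q : ℕ, q.Prime → q ∣ Nat.card G → p ≤ q) →
    ∃ K : Subgroup G, K.Normal ∧ ¬ p ∣ Nat.card K ∧ ∃ k : ℕ, K.index = p ^ k := by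
  induction n using Nat.strong_induction_on with
  | _ n ih =>
  intro G _ _ hn hG p hp hmin
  by_cases hpd : p ∣ Nat.card G
  swap
  · exact ⟨⊤, inferInstance, by rwa [Subgroup.card_top], 0, by simp⟩
  have hne : (Nat.card G).primeFactors.Nonempty :=
    ⟨p, Nat.mem_primeFactors.mpr ⟨hp, hpd, Nat.card_pos.ne'⟩⟩
  obtain ⟨r, hr_mem, hr_max⟩ : ∃ r ∈ (Nat.card G).primeFactors,
      ∀ q ∈ (Nat.card G).primeFactors, q ≤ r :=
    ⟨_, Finset.max'_mem _ hne, fun q hq => Finset.le_max' _ q hq⟩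
  have hr : r.Prime := (Nat.mem_primeFactors.mp hr_mem).1
  have hrd : r ∣ Nat.card G := (Nat.mem_primeFactors.mp hr_mem).2.1
  have hmax : ∀ q : ℕ, q.Prime → q ∣ Nat.card G → q ≤ r := fun q hq hqd =>
    hr_max q (Nat.mem_primeFactors.mpr ⟨hq, hqd, Nat.card_pos.ne'⟩)
  obtain ⟨R, hRn, hRp, hRi⟩ :=
    Cfsg.Agent.S0582.exists_normal_sylow_max _ G rfl hG r hr hrd hmax
  by_cases hrp : r = p
  · subst hrp
    refine ⟨⊥, inferInstance, ?_, ?_⟩
    · rw [Subgroup.card_bot]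
      intro h1
      exact hr.one_lt.ne' (Nat.dvd_one.mp h1)
    · rw [Subgroup.index_bot]
      have huniq : ∀ q : ℕ, q.Prime → q ∣ Nat.card G → q = r := fun q hq hqd =>
        le_antisymm (hmax q hq hqd) (hmin q hq hqd)
      exact ⟨_, Nat.eq_prime_pow_of_unique_prime_dvd Nat.card_pos.ne'
        (fun {q} hq hqd => huniq q hq hqd)⟩
  · haveI := hRn
    have hR1 : R ≠ ⊥ := by
      rintro rfl
      rw [Subgroup.index_bot] at hRi
      exact hRi hrd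
    have hlt : Nat.card (G ⧸ R) < n := by
      rw [← hn]; exact Cfsg.Agent.Lib.Helper1.card_quotient_lt_of_ne_bot hR1
    have hGR : Nat.card G = Nat.card (G ⧸ R) * Nat.card R :=
      Subgroup.card_eq_card_quotient_mul_card_subgroup R
    have hdvd : Nat.card (G ⧸ R) ∣ Nat.card G := Dvd.intro _ hGR.symm
    obtain ⟨Kb, hKn, hKp, k, hKi⟩ := ih _ hlt (G ⧸ R) rfl (isSupersolvable_quotient R hG) p hp
      (fun q hq hqd => hmin q hq (dvd_trans hqd hdvd))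
    have hidx : (Kb.comap (QuotientGroup.mk' R)).index = p ^ k := by
      rw [Subgroup.index_comap_of_surjective Kb (QuotientGroup.mk'_surjective R)]; exact hKi
    refine ⟨Kb.comap (QuotientGroup.mk' R), hKn.comap _, ?_, k, hidx⟩
    -- card of the comap
    have h1 := Subgroup.card_mul_index (Kb.comap (QuotientGroup.mk' R))
    have h2 := Subgroup.card_mul_index Kb
    rw [hidx] at h1
    rw [hKi] at h2
    have h3 : Nat.card (Kb.comap (QuotientGroup.mk' R)) * p ^ k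
        = (Nat.card Kb * Nat.card R) * p ^ k := by
      rw [h1, hGR, ← h2]; ring
    have h4 : Nat.card (Kb.comap (QuotientGroup.mk' R)) = Nat.card Kb * Nat.card R :=
      Nat.eq_of_mul_eq_mul_right (pow_pos hp.pos k) h3
    rw [h4]
    intro hd
    rcases (Nat.Prime.dvd_mul hp).mp hd with hd | hd
    · exact hKp hd
    · -- p ∣ card R, R an r-group, r ≠ p
      haveI : Fact r.Prime := ⟨hr⟩
      obtain ⟨j, hj⟩ := IsPGroup.iff_card.mp hRp
      rw [hj] at hd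
      exact hrp ((Nat.prime_dvd_prime_iff_eq hp hr).mp (hp.dvd_of_dvd_pow hd)).symm

theorem hasNPC_of_isSupersolvable {G : Type u} [Group G] [Finite G] (hG : IsSupersolvable G)
    (p : ℕ) [hp : Fact p.Prime] (hmin : ∀ q : ℕ, q.Prime → q ∣ Nat.card G → p ≤ q) :
    HasNormalPComplement p G := by
  obtain ⟨K, hKn, hKp, k, hKi⟩ := exists_npc _ G rfl hG p hp.out hmin
  obtain ⟨P⟩ : Nonempty (Sylow p G) := inferInstance
  refine ⟨P, K, hKn, ?_⟩
  have h1 := Subgroup.card_mul_index K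
  rw [hKi] at h1
  have h2 : Nat.card (P : Subgroup G) = p ^ (Nat.card G).factorization p :=
    Sylow.card_eq_multiplicity P
  have h3 : (Nat.card G).factorization p = k := by
    rw [← h1, Nat.factorization_mul Nat.card_pos.ne' (pow_ne_zero _ hp.out.ne_zero)]
    simp [Nat.factorization_eq_zero_of_not_dvd hKp, hp.out.factorization_pow]
  apply Subgroup.isComplement'_of_coprime
  · rw [h2, h3, h1]
  · rw [h2]
    exact Nat.Coprime.pow_right _ ((Nat.Prime.coprime_iff_not_dvd hp.out).mpr hKp).symm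

theorem isSolvable_of_proper {G : Type u} [Group G] [Finite G]
    (h : ∀ H : Subgroup G, H ≠ ⊤ → IsSupersolvable H) : Group.IsSolvable G := by
  rcases subsingleton_or_nontrivial G with hs | hnt
  · infer_instance
  have hcard : 1 < Nat.card G := Finite.one_lt_card
  obtain ⟨p, hp_def⟩ : ∃ p, p = (Nat.card G).minFac := ⟨_, rfl⟩
  have hp : p.Prime := by rw [hp_def]; exact Nat.minFac_prime hcard.ne'
  haveI : Fact p.Prime := ⟨hp⟩
  have hpd : p ∣ Nat.card G := by rw [hp_def]; exact Nat.minFac_dvd _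
  have hproper : ∀ H : Subgroup G, H ≠ ⊤ → HasNormalPComplement p H := by
    intro H hH
    apply hasNPC_of_isSupersolvable (h H hH) p
    intro q hq hqd
    rw [hp_def]
    exact Nat.minFac_le_of_dvd hq.two_le (dvd_trans hqd (Subgroup.card_subgroup_dvd_card H))
  by_cases hG : HasNormalPComplement p G
  · obtain ⟨P, K, hKn, hc⟩ := hG
    haveI := hKn
    have hcm := hc.card_mul_card
    have hKtop : K ≠ ⊤ := by
      rintro rfl
      rw [Subgroup.card_top] at hcm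
      have h1 : Nat.card (P : Subgroup G) = 1 :=
        Nat.eq_of_mul_eq_mul_left Nat.card_pos (hcm.trans (mul_one _).symm)
      have h2 := P.dvd_card_of_dvd_card hpd
      rw [h1] at h2
      exact hp.one_lt.ne' (Nat.dvd_one.mp h2)
    haveI : Group.IsSolvable K := isSolvable_of_isSupersolvable K (h K hKtop)
    haveI : Group.IsSolvable (G ⧸ K) := by
      have hq := Subgroup.card_eq_card_quotient_mul_card_subgroup K
      have hcardq : Nat.card (G ⧸ K) = Nat.card (P : Subgroup G) := by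
        have : Nat.card (G ⧸ K) * Nat.card K = Nat.card (P : Subgroup G) * Nat.card K := by
          rw [← hq, ← hcm]; ring
        exact Nat.eq_of_mul_eq_mul_right Nat.card_pos this
      have hpg : IsPGroup p (G ⧸ K) :=
        IsPGroup.of_card (n := (Nat.card G).factorization p)
          (by rw [hcardq, Sylow.card_eq_multiplicity])
      haveI := hpg.isNilpotent
      infer_instance
    exact Group.isSolvable_of_ker_le_range K.subtype (QuotientGroup.mk' K)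
      (by rw [QuotientGroup.ker_mk', Subgroup.range_subtype])
  · obtain ⟨hnil, -, -⟩ := Cfsg.Agent.S0132.result hG hproper
    exact Cfsg.Agent.Lib.Helper1.schmidt_aux _ G rfl (fun M hM => hnil M hM.1)

/-! ### conjugation -/

section Conj

variable {G : Type u} [Group G]

def cj (x n : G) : G := x * n * x⁻¹

theorem cj_mul (x n n' : G) : cj x (n * n') = cj x n * cj x n' := by unfold cj; group
theorem cj_one (x : G) : cj x 1 = 1 := by unfold cj; group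
theorem cj_inv (x n : G) : cj x n⁻¹ = (cj x n)⁻¹ := by unfold cj; group
theorem cj_pow (x n : G) (k : ℕ) : cj x (n ^ k) = (cj x n) ^ k := by unfold cj; rw [conj_pow]
theorem cj_zpow (x n : G) (k : ℤ) : cj x (n ^ k) = (cj x n) ^ k := by unfold cj; rw [conj_zpow]
theorem cj_cj (x y n : G) : cj x (cj y n) = cj (x * y) n := by unfold cj; group
theorem cj_one_left (n : G) : cj 1 n = n := by unfold cj; group
theorem cj_inv_cj (x n : G) : cj x⁻¹ (cj x n) = n := by unfold cj; group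
theorem cj_cj_inv (x n : G) : cj x (cj x⁻¹ n) = n := by unfold cj; group

theorem cj_injective (x : G) {n n' : G} (h : cj x n = cj x n') : n = n' := by
  have := congrArg (cj x⁻¹) h
  rwa [cj_inv_cj, cj_inv_cj] at this

theorem cj_mem {N : Subgroup G} (hN : N.Normal) (x : G) {n : G} (hn : n ∈ N) : cj x n ∈ N :=
  hN.conj_mem n hn x

theorem cj_eq_one {x n : G} (h : cj x n = 1) : n = 1 :=
  cj_injective x (h.trans (cj_one x).symm)

def kap (x n : G) : G := n * (cj x n)⁻¹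

theorem kap_one (x : G) : kap x 1 = 1 := by unfold kap; rw [cj_one]; group

theorem kap_eq_one_iff (x n : G) : kap x n = 1 ↔ cj x n = n := by
  unfold kap; rw [mul_inv_eq_one]; exact eq_comm

theorem kap_mem {N : Subgroup G} (hN : N.Normal) (x : G) {n : G} (hn : n ∈ N) : kap x n ∈ N :=
  N.mul_mem hn (N.inv_mem (cj_mem hN x hn))

theorem kap_mul {N : Subgroup G} (hN : N.Normal) (hcomm : ∀ a ∈ N, ∀ b ∈ N, a * b = b * a)
    (x : G) {n n' : G} (hn : n ∈ N) (hn' : n' ∈ N) : kap x (n * n') = kap x n * kap x n' := by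
  unfold kap
  rw [cj_mul, mul_inv_rev]
  have h1 := cj_mem hN x hn
  have h2 := cj_mem hN x hn'
  have hc : (n' * (cj x n')⁻¹) * (cj x n)⁻¹ = (cj x n)⁻¹ * (n' * (cj x n')⁻¹) :=
    hcomm _ (N.mul_mem hn' (N.inv_mem h2)) _ (N.inv_mem h1)
  calc n * n' * ((cj x n')⁻¹ * (cj x n)⁻¹)
      = n * ((n' * (cj x n')⁻¹) * (cj x n)⁻¹) := by group
    _ = n * ((cj x n)⁻¹ * (n' * (cj x n')⁻¹)) := by rw [hc]
    _ = n * (cj x n)⁻¹ * (n' * (cj x n')⁻¹) := by group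

theorem kap_inv {N : Subgroup G} (hN : N.Normal) (hcomm : ∀ a ∈ N, ∀ b ∈ N, a * b = b * a)
    (x : G) {n : G} (hn : n ∈ N) : kap x n⁻¹ = (kap x n)⁻¹ := by
  have := kap_mul hN hcomm x hn (N.inv_mem hn)
  rw [mul_inv_cancel, kap_one] at this
  exact (inv_eq_of_mul_eq_one_right this.symm).symm

theorem cj_pow_fix {x n : G} (h : cj x n = n) (j : ℕ) : cj (x ^ j) n = n := by
  induction j with
  | zero => rw [pow_zero, cj_one_left]
  | succ j ih => rw [pow_succ, ← cj_cj, h, ih]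

theorem cj_pow_of_pow (V : Subgroup G) {x : G} {m : ℕ} (hV : ∀ v ∈ V, cj x v = v ^ m) (j : ℕ) :
    ∀ v ∈ V, cj (x ^ j) v = v ^ (m ^ j) := by
  induction j with
  | zero => intro v _; rw [pow_zero, cj_one_left, pow_zero, pow_one]
  | succ j ih =>
    intro v hv
    rw [pow_succ, ← cj_cj, hV v hv, ih _ (V.pow_mem hv m), ← pow_mul, pow_succ']

theorem pow_eq_self_of_modEq {v : G} {r ζ : ℕ} (hv : v ^ r = 1) (h : ζ ≡ 1 [MOD r]) :
    v ^ ζ = v := by
  have h' : ζ % r = 1 % r := h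
  rw [pow_eq_pow_mod ζ hv, h', ← pow_eq_pow_mod 1 hv, pow_one]

theorem modEq_of_pow_eq {v : G} {r a b : ℕ} (hr : r.Prime) (hv : v ^ r = 1) (hv1 : v ≠ 1)
    (h : v ^ a = v ^ b) : a ≡ b [MOD r] := by
  haveI : Fact r.Prime := ⟨hr⟩
  have ho : orderOf v = r := orderOf_eq_prime hv hv1
  rw [pow_eq_pow_iff_modEq, ho] at h
  exact h

theorem eq_one_of_pow_eq_self {v : G} {r ζ : ℕ} (hr : r.Prime) (hv : v ^ r = 1)
    (h : ¬ ζ ≡ 1 [MOD r]) (hζ : v ^ ζ = v) : v = 1 := by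
  by_contra hv1
  apply h
  exact modEq_of_pow_eq hr hv hv1 (by rw [hζ, pow_one])

theorem uniform (V : Subgroup G) (r : ℕ) (hr : r.Prime)
    (hcomm : ∀ a ∈ V, ∀ b ∈ V, a * b = b * a) (hexp : ∀ a ∈ V, a ^ r = 1)
    (z : G) (hz : ∀ n ∈ V, cj z n ∈ Subgroup.zpowers n) :
    ∃ m : ℕ, ∀ n ∈ V, cj z n = n ^ m := by
  haveI : Fact r.Prime := ⟨hr⟩
  have key : ∀ n ∈ V, ∃ m : ℕ, cj z n = n ^ m := by
    intro n hn
    have hfin : IsOfFinOrder n := isOfFinOrder_iff_pow_eq_one.mpr ⟨r, hr.pos, hexp n hn⟩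
    have h1 : cj z n ∈ Submonoid.powers n := hfin.mem_powers_iff_mem_zpowers.mpr (hz n hn)
    obtain ⟨m, hm⟩ := (Submonoid.mem_powers_iff _ _).mp h1
    exact ⟨m, hm.symm⟩
  by_cases hV : ∀ n ∈ V, n = 1
  · exact ⟨1, fun n hn => by rw [hV n hn, cj_one, one_pow]⟩
  push Not at hV
  obtain ⟨e, heV, he1⟩ := hV
  obtain ⟨m, hm⟩ := key e heV
  refine ⟨m, fun n hn => ?_⟩
  by_cases hne : n ∈ Subgroup.zpowers e
  · obtain ⟨k, rfl⟩ := Subgroup.mem_zpowers_iff.mp hne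
    rw [cj_zpow, hm, ← zpow_natCast, ← zpow_natCast, ← zpow_mul, ← zpow_mul, mul_comm]
  · have hn1 : n ≠ 1 := fun h => hne (h ▸ Subgroup.one_mem _)
    have hon : orderOf n = r := orderOf_eq_prime (hexp n hn) hn1
    obtain ⟨m2, hm2⟩ := key n hn
    obtain ⟨m3, hm3⟩ := key (e * n) (V.mul_mem heV hn)
    have hcen : Commute e n := hcomm e heV n hn
    rw [cj_mul, hm, hm2, hcen.mul_pow] at hm3
    have h1 : n ^ m2 * (n ^ m3)⁻¹ = (e ^ m)⁻¹ * e ^ m3 := by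
      have : n ^ m2 = (e ^ m)⁻¹ * (e ^ m3 * n ^ m3) := by rw [← hm3]; group
      rw [this]; group
    have hu1 : n ^ m2 * (n ^ m3)⁻¹ = 1 := by
      by_contra hu
      apply hne
      have hun : n ^ m2 * (n ^ m3)⁻¹ ∈ Subgroup.zpowers n :=
        Subgroup.mul_mem _ (Subgroup.pow_mem _ (Subgroup.mem_zpowers n) _)
          (Subgroup.inv_mem _ (Subgroup.pow_mem _ (Subgroup.mem_zpowers n) _))
      have hue : n ^ m2 * (n ^ m3)⁻¹ ∈ Subgroup.zpowers e := by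
        rw [h1]
        exact Subgroup.mul_mem _ (Subgroup.inv_mem _ (Subgroup.pow_mem _ (Subgroup.mem_zpowers e) _))
          (Subgroup.pow_mem _ (Subgroup.mem_zpowers e) _)
      have hcard : Nat.card (Subgroup.zpowers n) = r := by rw [Nat.card_zpowers, hon]
      have hmem := mem_zpowers_of_prime_card (G := Subgroup.zpowers n) hcard
        (g := ⟨_, hun⟩) (g' := ⟨n, Subgroup.mem_zpowers n⟩)
        (by intro h; apply hu; exact congrArg Subtype.val h)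
      obtain ⟨k, hk⟩ := Subgroup.mem_zpowers_iff.mp hmem
      have hk' : (n ^ m2 * (n ^ m3)⁻¹) ^ k = n := by
        have := congrArg Subtype.val hk
        simpa using this
      rw [← hk']
      exact Subgroup.zpow_mem _ hue k
    have h2 : n ^ m2 = n ^ m3 := by rwa [mul_inv_eq_one] at hu1
    have h3 : e ^ m3 = e ^ m := by
      have : (e ^ m)⁻¹ * e ^ m3 = 1 := by rw [← h1, hu1]
      exact (inv_mul_eq_one.mp this).symm
    have h4 := modEq_of_pow_eq hr (hexp e heV) he1 h3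
    rw [hm2, h2, pow_eq_pow_iff_modEq, hon]
    exact h4

/-- the elements acting on `N` as a uniform power map -/
def Z [Finite G] (N : Subgroup G) : Subgroup G where
  carrier := {g | ∃ m : ℕ, ∀ n ∈ N, cj g n = n ^ m}
  one_mem' := ⟨1, fun n _ => by rw [cj_one_left, pow_one]⟩
  mul_mem' := by
    rintro g h ⟨m, hm⟩ ⟨k, hk⟩
    exact ⟨m * k, fun n hn => by rw [← cj_cj, hk n hn, cj_pow, hm n hn, ← pow_mul]⟩
  inv_mem' := by
    rintro g ⟨m, hm⟩
    have hpow : ∀ j : ℕ, ∃ m' : ℕ, ∀ n ∈ N, cj (g ^ j) n = n ^ m' := by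
      intro j
      induction j with
      | zero => exact ⟨1, fun n _ => by rw [pow_zero, cj_one_left, pow_one]⟩
      | succ j ih =>
        obtain ⟨m', hm'⟩ := ih
        exact ⟨m' * m, fun n hn => by
          rw [pow_succ, ← cj_cj, hm n hn, cj_pow, hm' n hn, ← pow_mul]⟩
    have hginv : g⁻¹ = g ^ (orderOf g - 1) := by
      apply inv_eq_of_mul_eq_one_right
      rw [← pow_succ', Nat.sub_add_cancel (orderOf_pos g), pow_orderOf_eq_one]
    show ∃ m : ℕ, ∀ n ∈ N, cj g⁻¹ n = n ^ m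
    rw [hginv]
    exact hpow _

theorem mem_Z [Finite G] {N : Subgroup G} {g : G} :
    g ∈ Z N ↔ ∃ m : ℕ, ∀ n ∈ N, cj g n = n ^ m := Iff.rfl

theorem Z_normal [Finite G] {N : Subgroup G} (hN : N.Normal) : (Z N).Normal := by
  constructor
  rintro g ⟨m, hm⟩ h
  refine ⟨m, fun n hn => ?_⟩
  have h1 : cj (h * g * h⁻¹) n = cj h (cj g (cj h⁻¹ n)) := by rw [cj_cj, cj_cj]
  rw [h1, hm _ (cj_mem hN h⁻¹ hn), cj_pow, cj_cj_inv]

theorem surj_kap [Finite G] {N : Subgroup G} (hN : N.Normal)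
    (hcomm : ∀ a ∈ N, ∀ b ∈ N, a * b = b * a)
    (W : Subgroup G) (hWN : W ≤ N) (x : G) (hxW : ∀ w ∈ W, cj x w ∈ W)
    (hfix : ∀ w ∈ W, cj x w = w → w = 1) : ∀ e ∈ W, ∃ w ∈ W, kap x w = e := by
  have hkW : ∀ w ∈ W, kap x w ∈ W := fun w hw => W.mul_mem hw (W.inv_mem (hxW w hw))
  let f : W → W := fun w => ⟨kap x w, hkW w w.2⟩
  have hinj : Function.Injective f := by
    intro w w' hww
    have h1 : kap x (w : G) = kap x (w' : G) := congrArg Subtype.val hww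
    have h2 : kap x ((w : G) * (w' : G)⁻¹) = 1 := by
      rw [kap_mul hN hcomm x (hWN w.2) (N.inv_mem (hWN w'.2)), kap_inv hN hcomm x (hWN w'.2), h1,
        mul_inv_cancel]
    have h3 := hfix _ (W.mul_mem w.2 (W.inv_mem w'.2)) ((kap_eq_one_iff _ _).mp h2)
    exact Subtype.ext (mul_inv_eq_one.mp h3)
  have hsurj : Function.Surjective f := Finite.surjective_of_injective hinj
  intro e he
  obtain ⟨w, hw⟩ := hsurj ⟨e, he⟩
  exact ⟨w, w.2, congrArg Subtype.val hw⟩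

theorem F1 [Finite G] (hH : Hyp G) {N : Subgroup G} (hN : N.Normal) {r : ℕ} (hr : r.Prime)
    (hexp : ∀ a ∈ N, a ^ r = 1)
    (x : G) (p a : ℕ) (hp : p.Prime) (hpr : p ≠ r) (hx : orderOf x = p ^ a) (g : G)
    (hg : g ∈ N) : cj x (kap x g) ∈ Subgroup.zpowers (kap x g) := by
  haveI : Fact r.Prime := ⟨hr⟩
  by_cases he : kap x g = 1
  · rw [he, cj_one]; exact Subgroup.one_mem _
  obtain ⟨S, hS⟩ : ∃ S : Subgroup G,
      S = Subgroup.zpowers x ⊔ Subgroup.zpowers (g * x * g⁻¹) := ⟨_, rfl⟩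
  have hxS : x ∈ S := by
    rw [hS]; exact (le_sup_left : Subgroup.zpowers x ≤ _) (Subgroup.mem_zpowers x)
  have hgxS : g * x * g⁻¹ ∈ S := by
    rw [hS]
    exact (le_sup_right : Subgroup.zpowers (g * x * g⁻¹) ≤ _) (Subgroup.mem_zpowers _)
  have heq : kap x g = g * x * g⁻¹ * x⁻¹ := by unfold kap cj; group
  have heS : kap x g ∈ S := by rw [heq]; exact S.mul_mem hgxS (S.inv_mem hxS)
  have heN : kap x g ∈ N := kap_mem hN x hg
  have hceS : cj x (kap x g) ∈ S := S.mul_mem (S.mul_mem hxS heS) (S.inv_mem hxS)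
  have hceN : cj x (kap x g) ∈ N := cj_mem hN x heN
  have hog : ∃ b : ℕ, orderOf g = r ^ b := by
    have := orderOf_dvd_of_pow_eq_one (hexp g hg)
    rcases (Nat.dvd_prime hr).mp this with h | h
    · exact ⟨0, by rw [h, pow_zero]⟩
    · exact ⟨1, by rw [h, pow_one]⟩
  have hnd := hH p r hp hr hpr x g ⟨a, hx⟩ hog
  rw [← hS] at hnd
  have hD : IsPGroup r (S ⊓ N : Subgroup G) := by
    intro y
    refine ⟨1, ?_⟩
    rw [pow_one]
    apply Subtype.ext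
    rw [Subgroup.coe_pow, Subgroup.coe_one]
    exact hexp y.1 y.2.2
  obtain ⟨j, hj⟩ := IsPGroup.iff_card.mp hD
  have hdvd : Nat.card (S ⊓ N : Subgroup G) ∣ Nat.card S := Subgroup.card_dvd_of_le inf_le_left
  have hj1 : j ≤ 1 := by
    by_contra hj2
    push Not at hj2
    apply hnd
    refine dvd_trans ?_ hdvd
    rw [hj]
    exact pow_dvd_pow r hj2
  have hj0 : j ≠ 0 := by
    rintro rfl
    rw [pow_zero, Subgroup.card_eq_one] at hj
    have : kap x g ∈ (S ⊓ N : Subgroup G) := ⟨heS, heN⟩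
    rw [hj, Subgroup.mem_bot] at this
    exact he this
  have hj' : Nat.card (S ⊓ N : Subgroup G) = r := by
    have : j = 1 := by omega
    rw [hj, this, pow_one]
  have hmem := mem_zpowers_of_prime_card (G := (S ⊓ N : Subgroup G)) hj'
    (g := ⟨kap x g, heS, heN⟩) (g' := ⟨cj x (kap x g), hceS, hceN⟩)
    (by intro h; exact he (congrArg Subtype.val h))
  obtain ⟨k, hk⟩ := Subgroup.mem_zpowers_iff.mp hmem
  rw [Subgroup.mem_zpowers_iff]
  refine ⟨k, ?_⟩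
  have := congrArg Subtype.val hk
  simpa using this

theorem F1' [Finite G] (hH : Hyp G) {N : Subgroup G} (hN : N.Normal) {r : ℕ} (hr : r.Prime)
    (hexp : ∀ a ∈ N, a ^ r = 1)
    (x : G) (p a : ℕ) (hp : p.Prime) (hpr : p ≠ r) (hx : ∀ n ∈ N, cj (x ^ p ^ a) n = n)
    (g : G) (hg : g ∈ N) : cj x (kap x g) ∈ Subgroup.zpowers (kap x g) := by
  rcases Nat.eq_zero_or_pos a with ha | ha
  · subst ha
    rw [pow_zero, pow_one] at hx
    have : kap x g = 1 := (kap_eq_one_iff x g).mpr (hx g hg)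
    rw [this, cj_one]; exact Subgroup.one_mem _
  have ho0 : orderOf x ≠ 0 := (orderOf_pos x).ne'
  obtain ⟨m, hm⟩ : ∃ m, m = ordCompl[p] (orderOf x) := ⟨_, rfl⟩
  obtain ⟨f, hf⟩ : ∃ f, f = (orderOf x).factorization p := ⟨_, rfl⟩
  have hprod : p ^ f * m = orderOf x := by
    rw [hm, hf]; exact Nat.ordProj_mul_ordCompl_eq_self _ _
  have hcop : Nat.Coprime m (p ^ a) := by
    rw [hm]; exact (Nat.coprime_ordCompl hp ho0).symm.pow_right a
  have h1 : 1 < p ^ a := Nat.one_lt_pow ha.ne' hp.one_lt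
  obtain ⟨k, -, hk⟩ := Nat.exists_mul_mod_eq_one_of_coprime hcop h1
  have hx'ord : ∃ c : ℕ, orderOf (x ^ (m * k)) = p ^ c := by
    have : (x ^ (m * k)) ^ (p ^ f) = 1 := by
      rw [← pow_mul, show m * k * p ^ f = (p ^ f * m) * k by ring, hprod, pow_mul,
        pow_orderOf_eq_one, one_pow]
    obtain ⟨c, -, hc⟩ := (Nat.dvd_prime_pow hp).mp (orderOf_dvd_of_pow_eq_one this)
    exact ⟨c, hc⟩
  obtain ⟨c, hc⟩ := hx'ord
  have hact : ∀ n ∈ N, cj (x ^ (m * k)) n = cj x n := by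
    intro n hn
    have hdecomp : m * k = p ^ a * (m * k / p ^ a) + 1 := by
      have := Nat.div_add_mod (m * k) (p ^ a)
      rw [hk] at this
      exact this.symm
    rw [hdecomp, pow_add, pow_one, pow_mul, ← cj_cj]
    exact cj_pow_fix (hx _ (cj_mem hN x hn)) _
  have := F1 hH hN hr hexp (x ^ (m * k)) p c hp hpr hc g hg
  have hk1 : kap (x ^ (m * k)) g = kap x g := by unfold kap; rw [hact g hg]
  rw [hk1, hact _ (kap_mem hN x hg)] at this
  exact this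

/-- the working context -/
structure Ctx (G : Type u) [Group G] (N : Subgroup G) (r : ℕ) : Prop where
  hr : r.Prime
  nor : N.Normal
  comm : ∀ a ∈ N, ∀ b ∈ N, a * b = b * a
  exp : ∀ a ∈ N, a ^ r = 1
  F : ∀ (x : G) (p a : ℕ), p.Prime → p ≠ r → (∀ n ∈ N, cj (x ^ p ^ a) n = n) → ∀ g ∈ N,
      cj x (kap x g) ∈ Subgroup.zpowers (kap x g)

/-- a decomposition of `N` into two nontrivial pieces -/
structure Dec (G : Type u) [Group G] (N : Subgroup G) (r : ℕ) (V1 V2 : Subgroup G) : Prop where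
  ctx : Ctx G N r
  le1 : V1 ≤ N
  le2 : V2 ≤ N
  dec : ∀ n ∈ N, ∃ v1 ∈ V1, ∃ v2 ∈ V2, n = v1 * v2
  disj : ∀ v ∈ V1, v ∈ V2 → v = 1
  ne1 : ∃ v ∈ V1, v ≠ 1
  ne2 : ∃ v ∈ V2, v ≠ 1

theorem Dec.uniq {N : Subgroup G} {r : ℕ} {V1 V2 : Subgroup G} (D : Dec G N r V1 V2)
    {a1 a2 b1 b2 : G} (ha1 : a1 ∈ V1) (ha2 : a2 ∈ V2) (hb1 : b1 ∈ V1) (hb2 : b2 ∈ V2)
    (h : a1 * a2 = b1 * b2) : a1 = b1 ∧ a2 = b2 := by
  have hu : b1⁻¹ * a1 = b2 * a2⁻¹ := by
    have : a1 = b1 * b2 * a2⁻¹ := by rw [← h]; group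
    rw [this]; group
  have h1 : b1⁻¹ * a1 = 1 :=
    D.disj _ (V1.mul_mem (V1.inv_mem hb1) ha1) (by rw [hu]; exact V2.mul_mem hb2 (V2.inv_mem ha2))
  have e1 : a1 = b1 := (inv_mul_eq_one.mp h1).symm
  refine ⟨e1, ?_⟩
  rw [e1] at h
  exact mul_left_cancel h

theorem Dec.S1 [Finite G] {N : Subgroup G} {r : ℕ} {V1 V2 : Subgroup G} (D : Dec G N r V1 V2)
    (y : G) (ζ1 ζ2 p a : ℕ) (hp : p.Prime) (hpr : p ≠ r)
    (h1 : ∀ v ∈ V1, cj y v = v ^ ζ1) (h2 : ∀ v ∈ V2, cj y v = v ^ ζ2)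
    (hz1 : ¬ ζ1 ≡ 1 [MOD r]) (hz2 : ¬ ζ2 ≡ 1 [MOD r]) (hz12 : ¬ ζ1 ≡ ζ2 [MOD r])
    (hp1 : ζ1 ^ p ^ a ≡ 1 [MOD r]) (hp2 : ζ2 ^ p ^ a ≡ 1 [MOD r]) : False := by
  have C := D.ctx
  have hcent : ∀ n ∈ N, cj (y ^ p ^ a) n = n := by
    intro n hn
    obtain ⟨v1, hv1, v2, hv2, rfl⟩ := D.dec n hn
    rw [cj_mul, cj_pow_of_pow V1 h1 _ v1 hv1, cj_pow_of_pow V2 h2 _ v2 hv2,
      pow_eq_self_of_modEq (C.exp v1 (D.le1 hv1)) hp1,
      pow_eq_self_of_modEq (C.exp v2 (D.le2 hv2)) hp2]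
  have hFy := C.F y p a hp hpr hcent
  have hfix : ∀ n ∈ N, cj y n = n → n = 1 := by
    intro n hn hfixn
    obtain ⟨v1, hv1, v2, hv2, rfl⟩ := D.dec n hn
    rw [cj_mul, h1 v1 hv1, h2 v2 hv2] at hfixn
    obtain ⟨e1, e2⟩ := D.uniq (V1.pow_mem hv1 _) (V2.pow_mem hv2 _) hv1 hv2 hfixn
    rw [eq_one_of_pow_eq_self C.hr (C.exp v1 (D.le1 hv1)) hz1 e1,
      eq_one_of_pow_eq_self C.hr (C.exp v2 (D.le2 hv2)) hz2 e2, one_mul]
  have hsurj := surj_kap C.nor C.comm N le_rfl y (fun w hw => cj_mem C.nor y hw) hfix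
  obtain ⟨v1, hv1, hv1ne⟩ := D.ne1
  obtain ⟨v2, hv2, hv2ne⟩ := D.ne2
  have heN : v1 * v2 ∈ N := N.mul_mem (D.le1 hv1) (D.le2 hv2)
  obtain ⟨w, hw, hwe⟩ := hsurj _ heN
  have hmem := hFy w hw
  rw [hwe] at hmem
  have hfin : IsOfFinOrder (v1 * v2) :=
    isOfFinOrder_iff_pow_eq_one.mpr ⟨r, C.hr.pos, C.exp _ heN⟩
  obtain ⟨M, hM⟩ := (Submonoid.mem_powers_iff _ _).mp (hfin.mem_powers_iff_mem_zpowers.mpr hmem)
  have hc12 : Commute v1 v2 := C.comm v1 (D.le1 hv1) v2 (D.le2 hv2)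
  rw [hc12.mul_pow, cj_mul, h1 v1 hv1, h2 v2 hv2] at hM
  obtain ⟨e1, e2⟩ := D.uniq (V1.pow_mem hv1 _) (V2.pow_mem hv2 _) (V1.pow_mem hv1 _)
    (V2.pow_mem hv2 _) hM
  have m1 := modEq_of_pow_eq C.hr (C.exp v1 (D.le1 hv1)) hv1ne e1
  have m2 := modEq_of_pow_eq C.hr (C.exp v2 (D.le2 hv2)) hv2ne e2
  exact hz12 (m1.symm.trans m2)

theorem sq_fix {N : Subgroup G} {r : ℕ} (hr : r.Prime)
    (hcomm : ∀ a ∈ N, ∀ b ∈ N, a * b = b * a) (hexp : ∀ a ∈ N, a ^ r = 1)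
    (A B : Subgroup G) (hA : A ≤ N) (hB : B ≤ N) (hdisj : ∀ v ∈ A, v ∈ B → v = 1)
    (t : G) (htA : ∀ v ∈ A, cj t v ∈ B) (htB : ∀ v ∈ B, cj t v ∈ A)
    (hFt : ∀ g ∈ N, cj t (kap t g) ∈ Subgroup.zpowers (kap t g)) :
    ∀ v ∈ A, cj t (cj t v) = v := by
  haveI : Fact r.Prime := ⟨hr⟩
  intro v hv
  by_cases hv1 : v = 1
  · rw [hv1, cj_one, cj_one]
  obtain ⟨w, hw⟩ : ∃ w, w = cj t v := ⟨_, rfl⟩
  obtain ⟨w', hw'⟩ : ∃ w', w' = cj t w := ⟨_, rfl⟩
  have hwB : w ∈ B := hw ▸ htA v hv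
  have hw'A : w' ∈ A := hw' ▸ htB w hwB
  have hw1 : w ≠ 1 := by
    intro h; apply hv1; rw [hw] at h; exact cj_eq_one h
  have hmem := hFt v (hA hv)
  have hk : kap t v = v * w⁻¹ := by unfold kap; rw [← hw]
  have hck : cj t (kap t v) = w * w'⁻¹ := by rw [hk, cj_mul, cj_inv, ← hw, ← hw']
  rw [hck, hk] at hmem
  obtain ⟨j, hj⟩ := Subgroup.mem_zpowers_iff.mp hmem
  have hcvw : Commute v w⁻¹ := hcomm v (hA hv) _ (N.inv_mem (hB hwB))
  rw [hcvw.mul_zpow] at hj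
  have hcww : w * w'⁻¹ = w'⁻¹ * w := hcomm _ (hB hwB) _ (N.inv_mem (hA hw'A))
  rw [hcww] at hj
  have hu : w' * v ^ j = w * ((w⁻¹) ^ j)⁻¹ := by
    have : v ^ j = w'⁻¹ * w * ((w⁻¹) ^ j)⁻¹ := by rw [← hj]; group
    rw [this]; group
  have huA : w' * v ^ j ∈ A := A.mul_mem hw'A (A.zpow_mem hv j)
  have huB : w' * v ^ j ∈ B := by
    rw [hu]; exact B.mul_mem hwB (B.inv_mem (B.zpow_mem (B.inv_mem hwB) j))
  have hu1 := hdisj _ huA huB
  have e1 : v ^ j = w'⁻¹ := eq_inv_of_mul_eq_one_right hu1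
  have e2 : (w⁻¹) ^ j = w := by
    rw [hu] at hu1
    exact (mul_inv_eq_one.mp hu1).symm
  have e3 : w ^ (j + 1) = 1 := by
    rw [zpow_add_one]
    rw [inv_zpow] at e2
    exact mul_eq_one_iff_inv_eq.mpr e2
  have how : orderOf w = r := orderOf_eq_prime (hexp w (hB hwB)) hw1
  have hdiv : (r : ℤ) ∣ j + 1 := by rw [← how]; exact orderOf_dvd_iff_zpow_eq_one.mpr e3
  have e4 : v ^ (j + 1) = 1 := by
    apply orderOf_dvd_iff_zpow_eq_one.mp
    exact dvd_trans (Int.natCast_dvd_natCast.mpr (orderOf_dvd_of_pow_eq_one (hexp v (hA hv)))) hdiv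
  have e5 : v ^ j = v⁻¹ := by
    rw [zpow_add_one] at e4; exact eq_inv_of_mul_eq_one_left e4
  rw [e5] at e1
  rw [← hw, ← hw']
  exact (inv_injective e1).symm

theorem swap_pow {V1 V2 : Subgroup G} {h : G} (hs1 : ∀ v ∈ V1, cj h v ∈ V2)
    (hs2 : ∀ v ∈ V2, cj h v ∈ V1) (j : ℕ) :
    ((∀ v ∈ V1, cj (h ^ (2 * j)) v ∈ V1) ∧ (∀ v ∈ V2, cj (h ^ (2 * j)) v ∈ V2)) ∧
    ((∀ v ∈ V1, cj (h ^ (2 * j + 1)) v ∈ V2) ∧ (∀ v ∈ V2, cj (h ^ (2 * j + 1)) v ∈ V1)) := by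
  induction j with
  | zero =>
    refine ⟨⟨fun v hv => ?_, fun v hv => ?_⟩, ⟨fun v hv => ?_, fun v hv => ?_⟩⟩
    · rw [Nat.mul_zero, pow_zero, cj_one_left]; exact hv
    · rw [Nat.mul_zero, pow_zero, cj_one_left]; exact hv
    · rw [Nat.mul_zero, Nat.zero_add, pow_one]; exact hs1 v hv
    · rw [Nat.mul_zero, Nat.zero_add, pow_one]; exact hs2 v hv
  | succ j ih =>
    obtain ⟨⟨k1, k2⟩, ⟨s1, s2⟩⟩ := ih
    have e1 : h ^ (2 * (j + 1)) = h * h ^ (2 * j + 1) := by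
      rw [show 2 * (j + 1) = (2 * j + 1) + 1 by ring, pow_succ']
    have e2 : h ^ (2 * (j + 1) + 1) = h * h ^ (2 * (j + 1)) := by rw [pow_succ']
    have K1 : ∀ v ∈ V1, cj (h ^ (2 * (j + 1))) v ∈ V1 := fun v hv => by
      rw [e1, ← cj_cj]; exact hs2 _ (s1 v hv)
    have K2 : ∀ v ∈ V2, cj (h ^ (2 * (j + 1))) v ∈ V2 := fun v hv => by
      rw [e1, ← cj_cj]; exact hs1 _ (s2 v hv)
    refine ⟨⟨K1, K2⟩, ⟨fun v hv => ?_, fun v hv => ?_⟩⟩
    · rw [e2, ← cj_cj]; exact hs1 _ (K1 v hv)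
    · rw [e2, ← cj_cj]; exact hs2 _ (K2 v hv)

theorem swap_inv [Finite G] {V1 V2 : Subgroup G} (hdisj : ∀ v ∈ V1, v ∈ V2 → v = 1)
    (hne : ∃ v ∈ V1, v ≠ 1) {h : G} (hs1 : ∀ v ∈ V1, cj h v ∈ V2)
    (hs2 : ∀ v ∈ V2, cj h v ∈ V1) :
    (∀ v ∈ V1, cj h⁻¹ v ∈ V2) ∧ (∀ v ∈ V2, cj h⁻¹ v ∈ V1) := by
  have ho := orderOf_pos h
  obtain ⟨j, hj | hj⟩ := Nat.even_or_odd' (orderOf h)
  · have hinv : h⁻¹ = h ^ (2 * (j - 1) + 1) := by
      apply inv_eq_of_mul_eq_one_right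
      rw [← pow_succ', show 2 * (j - 1) + 1 + 1 = orderOf h by omega, pow_orderOf_eq_one]
    rw [hinv]
    exact (swap_pow hs1 hs2 (j - 1)).2
  · exfalso
    obtain ⟨v, hv, hv1⟩ := hne
    have := (swap_pow hs1 hs2 j).2.1 v hv
    rw [← hj, pow_orderOf_eq_one, cj_one_left] at this
    exact hv1 (hdisj v hv this)

/-- fixed points of `b` in `N` -/
def fixN (N : Subgroup G) (b : G) : Subgroup G where
  carrier := {n | n ∈ N ∧ cj b n = n}
  one_mem' := ⟨N.one_mem, cj_one b⟩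
  mul_mem' := fun {x y} hx hy => ⟨N.mul_mem hx.1 hy.1, by rw [cj_mul, hx.2, hy.2]⟩
  inv_mem' := fun {x} hx => ⟨N.inv_mem hx.1, by rw [cj_inv, hx.2]⟩

/-- the commutator subgroup `[N, b]` -/
def rngN (N : Subgroup G) (b : G) (hN : N.Normal)
    (hcomm : ∀ a ∈ N, ∀ b' ∈ N, a * b' = b' * a) : Subgroup G where
  carrier := {e | ∃ u ∈ N, kap b u = e}
  one_mem' := ⟨1, N.one_mem, kap_one b⟩
  mul_mem' := by
    rintro _ _ ⟨u, hu, rfl⟩ ⟨v, hv, rfl⟩
    exact ⟨u * v, N.mul_mem hu hv, kap_mul hN hcomm b hu hv⟩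
  inv_mem' := by
    rintro _ ⟨u, hu, rfl⟩
    exact ⟨u⁻¹, N.inv_mem hu, kap_inv hN hcomm b hu⟩

theorem bdata [Finite G] {N : Subgroup G} {r : ℕ} (C : Ctx G N r) (b : G) (p a : ℕ)
    (hp : p.Prime) (hpr : p ≠ r) (hb : orderOf b = p ^ a) (hbZ : b ∉ Z N) :
    ∃ m : ℕ, Dec G N r (fixN N b) (rngN N b C.nor C.comm) ∧
      (∀ v ∈ rngN N b C.nor C.comm, cj b v = v ^ m) ∧ ¬ m ≡ 1 [MOD r] ∧ ¬ r ∣ m ∧
      m ^ p ^ a ≡ 1 [MOD r] := by
  obtain ⟨V2, hV2def⟩ : ∃ V2, V2 = rngN N b C.nor C.comm := ⟨_, rfl⟩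
  rw [← hV2def]
  have hmemV2 : ∀ e, e ∈ V2 ↔ ∃ u ∈ N, kap b u = e := by intro e; rw [hV2def]; exact Iff.rfl
  have hbpow : b ^ p ^ a = 1 := by rw [← hb]; exact pow_orderOf_eq_one b
  have hcentb : ∀ n ∈ N, cj (b ^ p ^ a) n = n := by intro n _; rw [hbpow, cj_one_left]
  have hFb := C.F b p a hp hpr hcentb
  have hV2N : V2 ≤ N := by
    intro e he
    obtain ⟨u, hu, rfl⟩ := (hmemV2 e).mp he
    exact kap_mem C.nor b hu
  have hkapV2 : ∀ n ∈ N, kap b n ∈ V2 := fun n hn => (hmemV2 _).mpr ⟨n, hn, rfl⟩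
  have hzp : ∀ e ∈ V2, cj b e ∈ Subgroup.zpowers e := by
    intro e he
    obtain ⟨u, hu, rfl⟩ := (hmemV2 e).mp he
    exact hFb u hu
  obtain ⟨m, hm⟩ := uniform V2 r C.hr (fun a ha b hb => C.comm a (hV2N ha) b (hV2N hb))
    (fun a ha => C.exp a (hV2N ha)) b hzp
  have hnc : ¬ ∀ n ∈ N, cj b n = n := fun h =>
    hbZ ⟨1, fun n hn => by rw [h n hn, pow_one]⟩
  -- m ≢ 1
  have hm1 : ¬ m ≡ 1 [MOD r] := by
    intro hmod
    apply hnc
    intro n hn
    have heV : kap b n ∈ V2 := hkapV2 n hn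
    have hefix : cj b (kap b n) = kap b n := by
      rw [hm _ heV]; exact pow_eq_self_of_modEq (C.exp _ (hV2N heV)) hmod
    have hbn : cj b n = (kap b n)⁻¹ * n := by unfold kap; group
    have hiter : ∀ j : ℕ, cj (b ^ j) n = ((kap b n) ^ j)⁻¹ * n := by
      intro j
      induction j with
      | zero => rw [pow_zero, cj_one_left, pow_zero, inv_one, one_mul]
      | succ j ih =>
        rw [pow_succ', ← cj_cj, ih, cj_mul, cj_inv, cj_pow, hefix, hbn, pow_succ']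
        group
    have h1 := hiter (p ^ a)
    rw [hbpow, cj_one_left] at h1
    have h2 : (kap b n) ^ p ^ a = 1 := by
      have : ((kap b n) ^ p ^ a)⁻¹ * n = 1 * n := by rw [one_mul]; exact h1.symm
      exact inv_eq_one.mp (mul_right_cancel this)
    have h3 : kap b n = 1 := by
      have hg := pow_gcd_eq_one.mpr ⟨h2, C.exp _ (hV2N heV)⟩
      have hgcd : Nat.gcd (p ^ a) r = 1 :=
        Nat.Coprime.pow_left a ((Nat.coprime_primes hp C.hr).mpr hpr)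
      rwa [hgcd, pow_one] at hg
    exact (kap_eq_one_iff b n).mp h3
  -- V2 nontrivial
  have hne2 : ∃ v ∈ V2, v ≠ 1 := by
    by_contra hno
    push Not at hno
    apply hnc
    intro n hn
    exact (kap_eq_one_iff b n).mp (hno _ (hkapV2 n hn))
  have hrm : ¬ r ∣ m := by
    rintro ⟨k, rfl⟩
    obtain ⟨v, hv, hv1⟩ := hne2
    have := hm v hv
    rw [pow_mul, C.exp v (hV2N hv), one_pow] at this
    exact hv1 (cj_eq_one this)
  have hmp : m ^ p ^ a ≡ 1 [MOD r] := by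
    obtain ⟨v, hv, hv1⟩ := hne2
    have := cj_pow_of_pow V2 hm (p ^ a) v hv
    rw [hbpow, cj_one_left] at this
    exact (modEq_of_pow_eq C.hr (C.exp v (hV2N hv)) hv1 (by rw [← this, pow_one])).symm
  have hdisj : ∀ v ∈ fixN N b, v ∈ V2 → v = 1 := by
    intro v hv1 hv2
    have := hm v hv2
    rw [hv1.2] at this
    exact eq_one_of_pow_eq_self C.hr (C.exp v hv1.1) hm1 this.symm
  have hne1 : ∃ v ∈ fixN N b, v ≠ 1 := by
    by_contra hno
    push Not at hno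
    apply hbZ
    have hfix : ∀ n ∈ N, cj b n = n → n = 1 := fun n hn hf => hno n ⟨hn, hf⟩
    have hsurj := surj_kap C.nor C.comm N le_rfl b (fun w hw => cj_mem C.nor b hw) hfix
    refine ⟨m, fun n hn => ?_⟩
    obtain ⟨w, hw, rfl⟩ := hsurj n hn
    exact hm _ (hkapV2 w hw)
  have hdec : ∀ n ∈ N, ∃ v1 ∈ fixN N b, ∃ v2 ∈ V2, n = v1 * v2 := by
    intro n hn
    have hsurj := surj_kap C.nor C.comm V2 hV2N b
      (fun w hw => by rw [hm w hw]; exact V2.pow_mem hw m)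
      (fun w hw hf => hdisj w ⟨hV2N hw, hf⟩ hw)
    obtain ⟨w, hw, hwe⟩ := hsurj _ (hkapV2 n hn)
    refine ⟨n * w⁻¹, ⟨N.mul_mem hn (N.inv_mem (hV2N hw)), ?_⟩, w, hw, by group⟩
    apply (kap_eq_one_iff b _).mp
    rw [kap_mul C.nor C.comm b hn (N.inv_mem (hV2N hw)), kap_inv C.nor C.comm b (hV2N hw), hwe,
      mul_inv_cancel]
  exact ⟨m, ⟨C, fun v hv => hv.1, hV2N, hdec, hdisj, hne1, hne2⟩, hm, hm1, hrm, hmp⟩

theorem cyclic_of_Z_top [Finite G] {N : Subgroup G} (hN1 : N ≠ ⊥)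
    (hmin : ∀ K : Subgroup G, K.Normal → K ≤ N → K = ⊥ ∨ K = N) (hZ : Z N = ⊤) :
    ∃ c : G, N = Subgroup.zpowers c := by
  obtain ⟨⟨n, hnN⟩, hn1⟩ := Subgroup.ne_bot_iff_exists_ne_one.mp hN1
  have hn1' : n ≠ 1 := fun h => hn1 (Subtype.ext h)
  have hK : (Subgroup.zpowers n).Normal := by
    constructor
    intro y hy g
    obtain ⟨k, rfl⟩ := Subgroup.mem_zpowers_iff.mp hy
    have hg : g ∈ Z N := by rw [hZ]; exact Subgroup.mem_top g
    obtain ⟨m, hm⟩ := hg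
    have h1 : g * n ^ k * g⁻¹ = (n ^ m) ^ k := by
      have h2 := cj_zpow g n k
      rw [hm n hnN] at h2
      exact h2
    rw [h1]
    exact Subgroup.zpow_mem _ (Subgroup.pow_mem _ (Subgroup.mem_zpowers n) m) k
  rcases hmin _ hK (Subgroup.zpowers_le.mpr hnN) with h | h
  · exfalso; rw [Subgroup.zpowers_eq_bot] at h; exact hn1' h
  · exact ⟨n, h.symm⟩

theorem exists_B [Finite G] {N : Subgroup G} [N.Normal] {r : ℕ} (C : Ctx G N r)
    (hss : IsSupersolvable (G ⧸ N)) (hZ : Z N ≠ ⊤) :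
    ∃ (B : Subgroup G) (b : G) (s : ℕ), B.Normal ∧ b ∈ B ∧ b ∉ Z N ∧ s.Prime ∧
      (∃ c : ℕ, orderOf b = s ^ c) ∧
      ∀ y ∈ B, ∃ (k : ℕ) (z : G), z ∈ Z N ∧ y = b ^ k * z := by
  haveI hZn : (Z N).Normal := Z_normal C.nor
  have hNZ : N ≤ Z N := fun g hg => ⟨1, fun n hn => by
    rw [pow_one]; unfold cj; rw [C.comm g hg n hn, mul_inv_cancel_right]⟩
  let φ : G ⧸ N →* G ⧸ Z N := QuotientGroup.map N (Z N) (MonoidHom.id G)
    (by intro g hg; exact hNZ hg)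
  have hφ : Function.Surjective φ := by
    intro y
    obtain ⟨g, rfl⟩ := QuotientGroup.mk_surjective y
    exact ⟨(g : G ⧸ N), rfl⟩
  have hQ : IsSupersolvable (G ⧸ Z N) := isSupersolvable_of_surjective φ hφ hss
  haveI : Nontrivial (G ⧸ Z N) := by
    obtain ⟨g, hg⟩ : ∃ g, g ∉ Z N := by
      by_contra h
      push Not at h
      exact hZ (eq_top_iff.mpr fun g _ => h g)
    exact ⟨⟨(g : G ⧸ Z N), 1, fun h => hg ((QuotientGroup.eq_one_iff g).mp h)⟩⟩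
  obtain ⟨Bb, hBn, hBc⟩ := exists_normal_prime_of_isSupersolvable hQ
  obtain ⟨s, hs_def⟩ : ∃ s, s = Nat.card Bb := ⟨_, rfl⟩
  have hs : s.Prime := by rw [hs_def]; exact hBc
  haveI : Fact s.Prime := ⟨hs⟩
  have hBne : Bb ≠ ⊥ := by
    rintro rfl
    rw [Subgroup.card_bot] at hBc
    exact Nat.not_prime_one hBc
  obtain ⟨⟨y0, hy0B⟩, hy01⟩ := Subgroup.ne_bot_iff_exists_ne_one.mp hBne
  obtain ⟨b0, rfl⟩ := QuotientGroup.mk_surjective y0
  have hpow : ((b0 : G ⧸ Z N)) ^ s = 1 := by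
    have := pow_card_eq_one' (G := Bb) (x := ⟨(b0 : G ⧸ Z N), hy0B⟩)
    rw [← hs_def] at this
    have h2 := congrArg Subtype.val this
    simpa using h2
  have hy1 : (b0 : G ⧸ Z N) ≠ 1 := fun h => hy01 (Subtype.ext h)
  have hoy : orderOf (b0 : G ⧸ Z N) = s := orderOf_eq_prime hpow hy1
  have ho0 : orderOf b0 ≠ 0 := (orderOf_pos b0).ne'
  obtain ⟨m', hm'⟩ : ∃ m', m' = ordCompl[s] (orderOf b0) := ⟨_, rfl⟩
  obtain ⟨f, hf⟩ : ∃ f, f = (orderOf b0).factorization s := ⟨_, rfl⟩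
  have hprod : s ^ f * m' = orderOf b0 := by
    rw [hm', hf]; exact Nat.ordProj_mul_ordCompl_eq_self _ _
  have hcop : Nat.Coprime m' s := by rw [hm']; exact (Nat.coprime_ordCompl hs ho0).symm
  have hbord : ∃ c, orderOf (b0 ^ m') = s ^ c := by
    have : (b0 ^ m') ^ (s ^ f) = 1 := by
      rw [← pow_mul, mul_comm, hprod, pow_orderOf_eq_one]
    obtain ⟨c, -, hc⟩ := (Nat.dvd_prime_pow hs).mp (orderOf_dvd_of_pow_eq_one this)
    exact ⟨c, hc⟩
  have hby : ((b0 ^ m' : G) : G ⧸ Z N) ≠ 1 := by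
    intro h
    rw [QuotientGroup.mk_pow] at h
    have h1 := orderOf_dvd_of_pow_eq_one h
    rw [hoy] at h1
    have h2 : s ∣ Nat.gcd m' s := Nat.dvd_gcd h1 dvd_rfl
    rw [hcop] at h2
    exact hs.one_lt.ne' (Nat.dvd_one.mp h2)
  have hbB : ((b0 ^ m' : G) : G ⧸ Z N) ∈ Bb := by
    rw [QuotientGroup.mk_pow]; exact Bb.pow_mem hy0B _
  refine ⟨Bb.comap (QuotientGroup.mk' (Z N)), b0 ^ m', s, hBn.comap _, hbB, ?_, hs, hbord, ?_⟩
  · intro h; exact hby ((QuotientGroup.eq_one_iff _).mpr h)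
  · intro y hy
    have hyB : (y : G ⧸ Z N) ∈ Bb := hy
    have hmem := mem_zpowers_of_prime_card (G := Bb) hs_def.symm
      (g := ⟨_, hbB⟩) (g' := ⟨_, hyB⟩) (by intro h; exact hby (congrArg Subtype.val h))
    have hmem' := mem_powers_iff_mem_zpowers.mpr hmem
    obtain ⟨k, hk⟩ := (Submonoid.mem_powers_iff _ _).mp hmem'
    have hk' : (((b0 ^ m') ^ k : G) : G ⧸ Z N) = (y : G ⧸ Z N) := by
      have := congrArg Subtype.val hk
      simpa using this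
    refine ⟨k, ((b0 ^ m') ^ k)⁻¹ * y, ?_, by group⟩
    exact QuotientGroup.eq.mp hk'

theorem s_ne_r [Finite G] {N : Subgroup G} {r : ℕ} (C : Ctx G N r) (hN1 : N ≠ ⊥)
    (hmin : ∀ K : Subgroup G, K.Normal → K ≤ N → K = ⊥ ∨ K = N)
    (B : Subgroup G) (hBn : B.Normal) (b : G) (hbB : b ∈ B) (hbZ : b ∉ Z N) (c : ℕ)
    (hb : orderOf b = r ^ c)
    (hgen : ∀ y ∈ B, ∃ (k : ℕ) (z : G), z ∈ Z N ∧ y = b ^ k * z) : False := by
  have hr := C.hr
  haveI : Fact r.Prime := ⟨hr⟩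
  have hKN : fixN N b ≤ N := fun v hv => hv.1
  have hKnormal : (fixN N b).Normal := by
    constructor
    intro n hn h
    obtain ⟨hnN, hnfix⟩ := hn
    refine ⟨C.nor.conj_mem n hnN h, ?_⟩
    obtain ⟨y, hy_def⟩ : ∃ y, y = h⁻¹ * b * h := ⟨_, rfl⟩
    have hyB : y ∈ B := by
      rw [hy_def]
      have := hBn.conj_mem b hbB h⁻¹
      rwa [inv_inv] at this
    obtain ⟨k, z, ⟨ζ, hζ⟩, hy⟩ := hgen _ hyB
    have hyact : ∀ v ∈ fixN N b, cj y v = v ^ ζ := by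
      intro v hv
      rw [hy, ← cj_cj, hζ v hv.1, cj_pow, cj_pow_fix hv.2]
    have hiter := cj_pow_of_pow (fixN N b) hyact (r ^ c) n ⟨hnN, hnfix⟩
    have hycj : y = cj h⁻¹ b := by rw [hy_def]; unfold cj; rw [inv_inv]
    have hy1 : y ^ r ^ c = 1 := by
      rw [hycj, ← cj_pow, ← hb, pow_orderOf_eq_one, cj_one]
    rw [hy1, cj_one_left] at hiter
    have hmod : ζ ^ r ^ c ≡ ζ [MOD r] := by
      rw [← ZMod.natCast_eq_natCast_iff, Nat.cast_pow, ZMod.pow_card_pow]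
    have e1 : n ^ (ζ ^ r ^ c) = n ^ ζ := by
      rw [pow_eq_pow_mod (ζ ^ r ^ c) (C.exp n hnN), pow_eq_pow_mod ζ (C.exp n hnN)]
      congr 1
    have hnζ : n ^ ζ = n := by rw [← e1]; exact hiter.symm
    have hyn : cj y n = n := by rw [hyact n ⟨hnN, hnfix⟩, hnζ]
    have h2 : cj b (h * n * h⁻¹) = cj h (cj y n) := by rw [hy_def]; unfold cj; group
    rw [h2, hyn]; rfl
  have hK1 : fixN N b ≠ ⊥ := by
    have hH : IsPGroup r (Subgroup.zpowers b) :=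
      IsPGroup.of_card (n := c) (by rw [Nat.card_zpowers, hb])
    letI : MulAction (Subgroup.zpowers b) N :=
      { smul := fun h n => ⟨cj (h : G) (n : G), cj_mem C.nor _ n.2⟩
        one_smul := fun n => Subtype.ext (cj_one_left _)
        mul_smul := fun h h' n => Subtype.ext (cj_cj _ _ _).symm }
    have hNr : IsPGroup r N := fun y => ⟨1, by
      rw [pow_one]
      apply Subtype.ext
      rw [Subgroup.coe_pow, Subgroup.coe_one]
      exact C.exp y.1 y.2⟩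
    haveI : Nontrivial N := (Subgroup.nontrivial_iff_ne_bot N).mpr hN1
    obtain ⟨j, hj0, hj⟩ := (hNr.nontrivial_iff_card).mp inferInstance
    have hdvd : r ∣ Nat.card N := by rw [hj]; exact dvd_pow_self r hj0.ne'
    have h1fix : (1 : N) ∈ MulAction.fixedPoints (Subgroup.zpowers b) N :=
      MulAction.mem_fixedPoints.mpr (fun h => Subtype.ext (cj_one _))
    obtain ⟨n', hn'fix, hne⟩ :=
      hH.exists_fixed_point_of_prime_dvd_card_of_fixed_point N hdvd h1fix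
    intro hbot
    have hmem : (n' : G) ∈ fixN N b := ⟨n'.2, by
      have := MulAction.mem_fixedPoints.mp hn'fix ⟨b, Subgroup.mem_zpowers b⟩
      exact congrArg Subtype.val this⟩
    rw [hbot, Subgroup.mem_bot] at hmem
    exact hne (Subtype.ext hmem.symm)
  have hKN' : fixN N b ≠ N := by
    intro h
    apply hbZ
    refine ⟨1, fun n hn => ?_⟩
    have hn' : n ∈ fixN N b := by rw [h]; exact hn
    rw [pow_one]; exact hn'.2
  rcases hmin _ hKnormal hKN with h | h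
  · exact hK1 h
  · exact hKN' h

theorem dichotomy [Finite G] {N : Subgroup G} {r : ℕ} {V2 : Subgroup G} {b : G} {m : ℕ}
    (D : Dec G N r (fixN N b) V2) (hbZ : b ∉ Z N)
    (hm : ∀ v ∈ V2, cj b v = v ^ m)
    (hV2 : ∀ e ∈ V2, ∃ u ∈ N, kap b u = e)
    (B : Subgroup G) (hBn : B.Normal) (hbB : b ∈ B)
    (hgen : ∀ y ∈ B, ∃ (k : ℕ) (z : G), z ∈ Z N ∧ y = b ^ k * z) (h : G) :
    (∀ v ∈ fixN N b, cj h v ∈ fixN N b) ∨
      ((∀ v ∈ fixN N b, cj h v ∈ V2) ∧ (∀ v ∈ V2, cj h v ∈ fixN N b)) := by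
  have C := D.ctx
  obtain ⟨y, hy_def⟩ : ∃ y, y = h * b * h⁻¹ := ⟨_, rfl⟩
  have hyB : y ∈ B := by rw [hy_def]; exact hBn.conj_mem b hbB h
  obtain ⟨k, z, ⟨ζ, hζ⟩, hy⟩ := hgen y hyB
  have hy1 : ∀ v ∈ fixN N b, cj y v = v ^ ζ := by
    intro v hv; rw [hy, ← cj_cj, hζ v hv.1, cj_pow, cj_pow_fix hv.2]
  have hy2 : ∀ v ∈ V2, cj y v = v ^ (m ^ k * ζ) := by
    intro v hv
    rw [hy, ← cj_cj, hζ v (D.le2 hv), cj_pow, cj_pow_of_pow V2 hm k v hv, ← pow_mul]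
  have hyh : ∀ n : G, cj y (cj h n) = cj h (cj b n) := by
    intro n; rw [hy_def]; unfold cj; group
  have hcomp : ∀ v1 ∈ fixN N b, ∀ v2 ∈ V2, cj y (v1 * v2) = v1 * v2 →
      v1 ^ ζ = v1 ∧ v2 ^ (m ^ k * ζ) = v2 := by
    intro v1 hv1 v2 hv2 hfix
    rw [cj_mul, hy1 v1 hv1, hy2 v2 hv2] at hfix
    exact D.uniq ((fixN N b).pow_mem hv1 _) (V2.pow_mem hv2 _) hv1 hv2 hfix
  by_cases hT1 : ζ ≡ 1 [MOD r] <;> by_cases hT2 : m ^ k * ζ ≡ 1 [MOD r]
  · exfalso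
    apply hbZ
    refine ⟨1, fun n hn => ?_⟩
    rw [pow_one]
    have hyn : ∀ n' ∈ N, cj y n' = n' := by
      intro n' hn'
      obtain ⟨v1, hv1, v2, hv2, rfl⟩ := D.dec n' hn'
      rw [cj_mul, hy1 v1 hv1, hy2 v2 hv2, pow_eq_self_of_modEq (C.exp v1 hv1.1) hT1,
        pow_eq_self_of_modEq (C.exp v2 (D.le2 hv2)) hT2]
    have h3 := hyh n
    rw [hyn _ (cj_mem C.nor h hn)] at h3
    exact (cj_injective h h3).symm
  · left
    intro v hv
    have hw : cj h v ∈ N := cj_mem C.nor h hv.1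
    obtain ⟨w1, hw1, w2, hw2, hw12⟩ := D.dec _ hw
    have hfix : cj y (w1 * w2) = w1 * w2 := by rw [← hw12, hyh, hv.2]
    obtain ⟨-, e2⟩ := hcomp w1 hw1 w2 hw2 hfix
    have h3 : w2 = 1 := eq_one_of_pow_eq_self C.hr (C.exp w2 (D.le2 hw2)) hT2 e2
    rw [hw12, h3, mul_one]; exact hw1
  · right
    constructor
    · intro v hv
      have hw : cj h v ∈ N := cj_mem C.nor h hv.1
      obtain ⟨w1, hw1, w2, hw2, hw12⟩ := D.dec _ hw
      have hfix : cj y (w1 * w2) = w1 * w2 := by rw [← hw12, hyh, hv.2]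
      obtain ⟨e1, -⟩ := hcomp w1 hw1 w2 hw2 hfix
      have h3 : w1 = 1 := eq_one_of_pow_eq_self C.hr (C.exp w1 hw1.1) hT1 e1
      rw [hw12, h3, one_mul]; exact hw2
    · intro v hv
      obtain ⟨u, hu, rfl⟩ := hV2 v hv
      have h1 : cj h (kap b u) = kap y (cj h u) := by
        unfold kap; rw [cj_mul, cj_inv, hyh]
      have hu' : cj h u ∈ N := cj_mem C.nor h hu
      obtain ⟨u1, hu1, u2, hu2, hu12⟩ := D.dec _ hu'
      rw [h1, hu12]
      unfold kap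
      rw [cj_mul, hy1 u1 hu1, hy2 u2 hu2, pow_eq_self_of_modEq (C.exp u2 (D.le2 hu2)) hT2]
      have h3 : u1 * u2 * (u1 ^ ζ * u2)⁻¹ = u1 * (u1 ^ ζ)⁻¹ := by group
      rw [h3]
      exact (fixN N b).mul_mem hu1 ((fixN N b).inv_mem ((fixN N b).pow_mem hu1 _))
  · exfalso
    obtain ⟨v, hv, hv1⟩ := D.ne1
    have hw : cj h v ∈ N := cj_mem C.nor h hv.1
    obtain ⟨w1, hw1, w2, hw2, hw12⟩ := D.dec _ hw
    have hfix : cj y (w1 * w2) = w1 * w2 := by rw [← hw12, hyh, hv.2]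
    obtain ⟨e1, e2⟩ := hcomp w1 hw1 w2 hw2 hfix
    have h3 : w1 = 1 := eq_one_of_pow_eq_self C.hr (C.exp w1 hw1.1) hT1 e1
    have h4 : w2 = 1 := eq_one_of_pow_eq_self C.hr (C.exp w2 (D.le2 hw2)) hT2 e2
    rw [h3, h4, mul_one] at hw12
    exact hv1 (cj_eq_one hw12)

theorem exists_swap [Finite G] {N : Subgroup G} {r : ℕ} {V2 : Subgroup G} {b : G} {m : ℕ}
    (D : Dec G N r (fixN N b) V2) (hbZ : b ∉ Z N)
    (hm : ∀ v ∈ V2, cj b v = v ^ m)
    (hV2 : ∀ e ∈ V2, ∃ u ∈ N, kap b u = e)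
    (B : Subgroup G) (hBn : B.Normal) (hbB : b ∈ B)
    (hgen : ∀ y ∈ B, ∃ (k : ℕ) (z : G), z ∈ Z N ∧ y = b ^ k * z)
    (hmin : ∀ K : Subgroup G, K.Normal → K ≤ N → K = ⊥ ∨ K = N) :
    ∃ h : G, (∀ v ∈ fixN N b, cj h v ∈ V2) ∧ (∀ v ∈ V2, cj h v ∈ fixN N b) := by
  by_contra hno
  have hall : ∀ h : G, ∀ v ∈ fixN N b, cj h v ∈ fixN N b := fun h =>
    (dichotomy D hbZ hm hV2 B hBn hbB hgen h).resolve_right (fun hs => hno ⟨h, hs⟩)
  have hnormal : (fixN N b).Normal := ⟨fun n hn g => hall g n hn⟩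
  rcases hmin _ hnormal D.le1 with h | h
  · obtain ⟨v, hv, hv1⟩ := D.ne1
    rw [h, Subgroup.mem_bot] at hv
    exact hv1 hv
  · obtain ⟨v, hv, hv1⟩ := D.ne2
    have hv' : v ∈ fixN N b := by rw [h]; exact D.le2 hv
    exact hv1 (D.disj v hv' hv)

theorem final_odd [Finite G] {N : Subgroup G} {r : ℕ} {V2 : Subgroup G} {b : G} {m p a : ℕ}
    (D : Dec G N r (fixN N b) V2)
    (hm : ∀ v ∈ V2, cj b v = v ^ m) (hm1 : ¬ m ≡ 1 [MOD r]) (hrm : ¬ r ∣ m)
    (hmp : m ^ p ^ a ≡ 1 [MOD r]) (hp : p.Prime) (hpr : p ≠ r) (hp2 : p ≠ 2)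
    (h : G) (hs1 : ∀ v ∈ fixN N b, cj h v ∈ V2) (hs2 : ∀ v ∈ V2, cj h v ∈ fixN N b) :
    False := by
  have C := D.ctx
  obtain ⟨hi1, hi2⟩ := swap_inv D.disj D.ne1 hs1 hs2
  have hyexp : ∀ v : G, cj (h * b * h⁻¹) v = cj h (cj b (cj h⁻¹ v)) := by
    intro v; rw [cj_cj, cj_cj]
  have hy1 : ∀ v ∈ fixN N b, cj (h * b * h⁻¹) v = v ^ m := by
    intro v hv
    rw [hyexp, hm _ (hi1 v hv), cj_pow, cj_cj_inv]
  have hy2 : ∀ v ∈ V2, cj (h * b * h⁻¹) v = v := by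
    intro v hv
    rw [hyexp, (hi2 v hv).2, cj_cj_inv]
  have hc1 : ∀ v ∈ fixN N b, cj (b * b * (h * b * h⁻¹)) v = v ^ m := by
    intro v hv
    have h3 := ((fixN N b).pow_mem hv m).2
    rw [← cj_cj, ← cj_cj, hy1 v hv, h3, h3]
  have hc2 : ∀ v ∈ V2, cj (b * b * (h * b * h⁻¹)) v = v ^ (m * m) := by
    intro v hv
    rw [← cj_cj, ← cj_cj, hy2 v hv, hm v hv, hm _ (V2.pow_mem hv m), ← pow_mul]
  have hmm1 : ¬ m * m ≡ 1 [MOD r] := by
    intro h2
    obtain ⟨j, hj⟩ := (hp.odd_of_ne_two hp2).pow (n := a)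
    have h3 : m ^ (2 * j + 1) ≡ m [MOD r] := by
      have h4 : (m * m) ^ j * m ≡ 1 ^ j * m [MOD r] := (h2.pow j).mul_right m
      rw [one_pow, one_mul] at h4
      have h5 : m ^ (2 * j + 1) = (m * m) ^ j * m := by rw [pow_succ, pow_mul, pow_two]
      rw [h5]; exact h4
    rw [hj] at hmp
    exact hm1 (h3.symm.trans hmp)
  have hmmm : ¬ m ≡ m * m [MOD r] := by
    intro h3
    have hgcd : Nat.gcd r m = 1 := (Nat.Prime.coprime_iff_not_dvd C.hr).mpr hrm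
    have h4 : m * 1 ≡ m * m [MOD r] := by rw [mul_one]; exact h3
    exact hm1 (Nat.ModEq.cancel_left_of_coprime hgcd h4).symm
  have hmp2 : (m * m) ^ p ^ a ≡ 1 [MOD r] := by
    rw [mul_pow]
    have := hmp.mul hmp
    rwa [one_mul] at this
  exact D.S1 (b * b * (h * b * h⁻¹)) m (m * m) p a hp hpr hc1 hc2 hm1 hmm1 hmmm hmp hmp2

theorem final_two [Finite G] {N : Subgroup G} {r : ℕ} {V2 : Subgroup G} {b : G} {m a : ℕ}
    (D : Dec G N r (fixN N b) V2)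
    (hm : ∀ v ∈ V2, cj b v = v ^ m) (hm1 : ¬ m ≡ 1 [MOD r])
    (hmp : m ^ 2 ^ a ≡ 1 [MOD r]) (hr2 : (2 : ℕ) ≠ r)
    (h : G) (hs1 : ∀ v ∈ fixN N b, cj h v ∈ V2) (hs2 : ∀ v ∈ V2, cj h v ∈ fixN N b) :
    False := by
  have C := D.ctx
  have ho0 : orderOf h ≠ 0 := (orderOf_pos h).ne'
  obtain ⟨m', hm'⟩ : ∃ m', m' = ordCompl[2] (orderOf h) := ⟨_, rfl⟩
  obtain ⟨f, hf⟩ : ∃ f, f = (orderOf h).factorization 2 := ⟨_, rfl⟩
  have hprod : 2 ^ f * m' = orderOf h := by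
    rw [hm', hf]; exact Nat.ordProj_mul_ordCompl_eq_self _ _
  have hodd : Odd m' := by
    rw [hm', Nat.odd_iff, ← Nat.two_dvd_ne_zero]
    exact Nat.not_dvd_ordCompl Nat.prime_two ho0
  obtain ⟨j, hj⟩ := hodd
  obtain ⟨t, ht⟩ : ∃ t, t = h ^ m' := ⟨_, rfl⟩
  have hst : (∀ v ∈ fixN N b, cj t v ∈ V2) ∧ (∀ v ∈ V2, cj t v ∈ fixN N b) := by
    rw [ht, hj]; exact (swap_pow hs1 hs2 j).2
  have hto : ∃ d : ℕ, orderOf t = 2 ^ d := by
    have : t ^ (2 ^ f) = 1 := by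
      rw [ht, ← pow_mul, mul_comm, hprod, pow_orderOf_eq_one]
    obtain ⟨d, -, hd⟩ := (Nat.dvd_prime_pow Nat.prime_two).mp (orderOf_dvd_of_pow_eq_one this)
    exact ⟨d, hd⟩
  obtain ⟨d, hd⟩ := hto
  have htc : ∀ n ∈ N, cj (t ^ 2 ^ d) n = n := by
    intro n _; rw [← hd, pow_orderOf_eq_one, cj_one_left]
  have hFt := C.F t 2 d Nat.prime_two hr2 htc
  have hsq1 := sq_fix C.hr C.comm C.exp (fixN N b) V2 D.le1 D.le2 D.disj t hst.1 hst.2 hFt
  have hsq2 := sq_fix C.hr C.comm C.exp V2 (fixN N b) D.le2 D.le1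
    (fun v hv2 hv1 => D.disj v hv1 hv2) t hst.2 hst.1 hFt
  have hy_act : ∀ n, cj (t * b) n = cj t (cj b n) := fun n => (cj_cj t b n).symm
  have hyy1 : ∀ v ∈ fixN N b, cj (t * b * (t * b)) v = v ^ m := by
    intro v hv
    rw [← cj_cj, hy_act, hy_act, hv.2, hm _ (hst.1 v hv), cj_pow, hsq1 v hv]
  have hyy2 : ∀ v ∈ V2, cj (t * b * (t * b)) v = v ^ m := by
    intro v hv
    rw [← cj_cj, hy_act, hy_act, hm v hv, cj_pow,
      ((fixN N b).pow_mem (hst.2 v hv) m).2, cj_pow, hsq2 v hv]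
  have hycent : ∀ n ∈ N, cj ((t * b) ^ 2 ^ (a + 1)) n = n := by
    intro n hn
    have e : (t * b) ^ 2 ^ (a + 1) = ((t * b) * (t * b)) ^ 2 ^ a := by
      rw [pow_succ', pow_mul, pow_two]
    rw [e]
    obtain ⟨v1, hv1, v2, hv2, rfl⟩ := D.dec n hn
    rw [cj_mul, cj_pow_of_pow (fixN N b) hyy1 _ v1 hv1, cj_pow_of_pow V2 hyy2 _ v2 hv2,
      pow_eq_self_of_modEq (C.exp v1 hv1.1) hmp,
      pow_eq_self_of_modEq (C.exp v2 (D.le2 hv2)) hmp]
  have hFy := C.F (t * b) 2 (a + 1) Nat.prime_two hr2 hycent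
  have hfix : ∀ n ∈ N, cj (t * b) n = n → n = 1 := by
    intro n hn hf
    have hff : cj (t * b * (t * b)) n = n := by rw [← cj_cj, hf, hf]
    obtain ⟨v1, hv1, v2, hv2, rfl⟩ := D.dec n hn
    rw [cj_mul, hyy1 v1 hv1, hyy2 v2 hv2] at hff
    obtain ⟨e1, e2⟩ := D.uniq ((fixN N b).pow_mem hv1 _) (V2.pow_mem hv2 _) hv1 hv2 hff
    rw [eq_one_of_pow_eq_self C.hr (C.exp v1 hv1.1) hm1 e1,
      eq_one_of_pow_eq_self C.hr (C.exp v2 (D.le2 hv2)) hm1 e2, one_mul]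
  have hsurj := surj_kap C.nor C.comm N le_rfl (t * b) (fun w hw => cj_mem C.nor _ hw) hfix
  obtain ⟨v, hv, hv1⟩ := D.ne1
  obtain ⟨w, hw, hwe⟩ := hsurj v hv.1
  have hmem := hFy w hw
  rw [hwe] at hmem
  have h1 : cj (t * b) v = cj t v := by rw [hy_act, hv.2]
  rw [h1] at hmem
  have h2 : cj t v ∈ fixN N b := (Subgroup.zpowers_le.mpr hv) hmem
  have h3 := D.disj _ h2 (hst.1 v hv)
  exact hv1 (cj_eq_one h3)

theorem core [Finite G] {N : Subgroup G} [hNn : N.Normal] {r : ℕ} (C : Ctx G N r) (hN1 : N ≠ ⊥)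
    (hmin : ∀ K : Subgroup G, K.Normal → K ≤ N → K = ⊥ ∨ K = N)
    (hss : IsSupersolvable (G ⧸ N)) : ∃ c : G, N = Subgroup.zpowers c := by
  by_cases hZ : Z N = ⊤
  · exact cyclic_of_Z_top hN1 hmin hZ
  exfalso
  obtain ⟨B, b, s, hBn, hbB, hbZ, hs, ⟨c, hb⟩, hgen⟩ := exists_B C hss hZ
  have hsr : s ≠ r := by
    rintro rfl
    exact s_ne_r C hN1 hmin B hBn b hbB hbZ c hb hgen
  obtain ⟨m, D, hm, hm1, hrm, hmp⟩ := bdata C b s c hs hsr hb hbZ
  obtain ⟨h, hs1, hs2⟩ := exists_swap D hbZ hm (fun e he => he) B hBn hbB hgen hmin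
  by_cases hs2' : s = 2
  · subst hs2'
    exact final_two D hm hm1 hmp hsr h hs1 hs2
  · exact final_odd D hm hm1 hrm hmp hs hsr hs2' h hs1 hs2

end Conj

theorem main (n : ℕ) : ∀ (G : Type u) [Group G] [Finite G], Nat.card G = n → Hyp G →
    IsSupersolvable G := by
  induction n using Nat.strong_induction_on with
  | _ n ih =>
  intro G _ _ hn hH
  rcases subsingleton_or_nontrivial G with hs | hnt
  · exact isSupersolvable_of_subsingleton
  have hproper : ∀ H : Subgroup G, H ≠ ⊤ → IsSupersolvable H := by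
    intro H hH'
    have hlt : Nat.card H < n := by
      rw [← hn]
      exact lt_of_le_of_ne (Subgroup.card_le_card_group H)
        (fun h => hH' ((Subgroup.card_eq_iff_eq_top H).mp h))
    exact ih _ hlt H rfl (hH.subgroup H)
  haveI : Group.IsSolvable G := isSolvable_of_proper hproper
  obtain ⟨N, hNmin⟩ := exists_minNormal (G := G)
  have hcomm' := hNmin.le_centralizer
  obtain ⟨r, hr, hexp⟩ := hNmin.exists_prime_pow_eq_one hcomm'
  obtain ⟨hNn, hN1, hmin⟩ := hNmin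
  haveI := hNn
  have hcomm : ∀ a ∈ N, ∀ b ∈ N, a * b = b * a := fun a ha b hb =>
    (Subgroup.mem_centralizer_iff.mp (hcomm' hb) a ha)
  have hQ : IsSupersolvable (G ⧸ N) := by
    apply ih _ _ (G ⧸ N) rfl (hH.quotient N)
    rw [← hn]; exact Cfsg.Agent.Lib.Helper1.card_quotient_lt_of_ne_bot hN1
  have C : Ctx G N r := ⟨hr, hNn, hcomm, hexp,
    fun x p a hp hpr hx g hg => F1' hH hNn hr hexp x p a hp hpr hx g hg⟩
  obtain ⟨c, hc⟩ := core C hN1 hmin hQ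
  exact isSupersolvable_of_cyclic_normal N c hc hQ

/-- Let G be a finite group such that for every pair of distinct primes p and q, every p-element x and every q-element g of G, the order of the subgroup generated by x and g x g⁻¹ is not divisible by q². Then G is supersolvable. -/
theorem result {G : Type*} [Group G] [Finite G]
    (h : ∀ (p q : ℕ), p.Prime → q.Prime → p ≠ q → ∀ (x g : G), (∃ a : ℕ, orderOf x = p ^ a) → (∃ b : ℕ, orderOf g = q ^ b) →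
      ¬ q ^ 2 ∣ Nat.card ↥(Subgroup.zpowers x ⊔ Subgroup.zpowers (g * x * g⁻¹))) :
    Cfsg.IsSupersolvable G := by
  exact main _ G rfl h

end Cfsg.Agent.S3033
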