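import Cfsg.Statements.S3035
import Cfsg.Agent.S0497
import Cfsg.Agent.Lib.Helper4.G168a
import Cfsg.Agent.Lib.Helper19.D8Char
import Cfsg.Agent.Lib.Helper19.D8InvB
import Cfsg.Agent.Lib.Helper19.D8InvG

set_option autoImplicit false
open Cfsg

namespace Cfsg.Agent.S3035

/-- Let G be a finite group with an involution z whose centralizer is dihedral of order 8. Then G = C_G(z) O(G) with O(G) the largest normal subgroup of odd order, or G is isomorphic to the symmetric group of degree 4, the symmetric group of degree 5, the group SL₃(2), or the alternating group of degree 6. -/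
theorem result {G : Type*} [Group G] [Finite G] (z : G) (hz : orderOf z = 2)
    (hC : Nonempty (↥(Subgroup.centralizer ({z} : Set G)) ≃* DihedralGroup 4)) :
    Subgroup.centralizer ({z} : Set G) ⊔ Cfsg.oddCore G = ⊤ ∨ Nonempty (G ≃* Equiv.Perm (Fin 4)) ∨ Nonempty (G ≃* Equiv.Perm (Fin 5)) ∨
      Nonempty (G ≃* Matrix.SpecialLinearGroup (Fin 3) (ZMod 2)) ∨ Nonempty (G ≃* ↥(alternatingGroup (Fin 6))) := by
  obtain ⟨e⟩ := hC
  obtain ⟨f, hf, hfz⟩ := Cfsg.Agent.Lib.Helper19.D8Inv.exists_setup z hz e
  subst hfz
  by_cases hA : ∃ g : G, g * f (DihedralGroup.r 2) * g⁻¹ = f (DihedralGroup.sr 0)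
  · by_cases hB : ∃ g : G, g * f (DihedralGroup.r 2) * g⁻¹ = f (DihedralGroup.sr 1)
    · right; right; right
      have hG := hf.case_full hA hB
      obtain ⟨S, hS⟩ := hf.exists_sylow
      have hzS : f (DihedralGroup.r 2) ∈ (S : Subgroup G) := by
        rw [hS, Subgroup.mem_centralizer_iff]
        intro y hy
        rw [Set.mem_singleton_iff] at hy
        rw [hy]
      have hzc : ∀ s ∈ (S : Subgroup G), s * f (DihedralGroup.r 2) = f (DihedralGroup.r 2) * s := by
        intro s hs
        rw [hS, Subgroup.mem_centralizer_iff] at hs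
        exact (hs _ (Set.mem_singleton _)).symm
      obtain ⟨hsimple, hcard⟩ := Cfsg.Agent.Lib.Helper19.D8Char.main hG
        (f (DihedralGroup.r 2)) hf.orderOf_z S hzS hzc e
      haveI := hsimple
      rcases hcard with h168 | h360
      · left; exact Cfsg.Agent.Helper4.G168.nonempty_equiv h168
      · right; exact Cfsg.Agent.S0497.result h360
    · right
      have hB' : ¬ ∃ g : G, g * f (DihedralGroup.r 2) * g⁻¹ = f (DihedralGroup.sr (0 + 1)) := by
        simpa using hB
      rcases hf.case_one_class 0 hA hB' with h4 | h5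
      · left; exact h4
      · right; left; exact h5
  · by_cases hB : ∃ g : G, g * f (DihedralGroup.r 2) * g⁻¹ = f (DihedralGroup.sr 1)
    · right
      have hA' : ¬ ∃ g : G, g * f (DihedralGroup.r 2) * g⁻¹ = f (DihedralGroup.sr (1 + 1)) := by
        rintro ⟨g, hg⟩
        apply hA
        refine ⟨(f (DihedralGroup.r 1))⁻¹ * g, ?_⟩
        have h2 : f (DihedralGroup.sr 0)
            = (f (DihedralGroup.r 1))⁻¹ * f (DihedralGroup.sr (1 + 1)) * f (DihedralGroup.r 1) := by
          have h3 : (DihedralGroup.sr (1 + 1) : DihedralGroup 4) = DihedralGroup.sr 2 := by decide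
          rw [h3, Cfsg.Agent.Lib.Helper19.D8Inv.d4_sr2, map_mul, map_mul, map_inv]; group
        rw [h2, ← hg]; group
      rcases hf.case_one_class 1 hB hA' with h4 | h5
      · left; exact h4
      · right; left; exact h5
    · left
      exact hf.case_isolated hA hB

end Cfsg.Agent.S3035
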