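import Cfsg.Statements.S3036
import Mathlib.Tactic.Group
import Cfsg.Agent.Lib.Helper18.ChermakDelgado

set_option autoImplicit false
open Cfsg

namespace Cfsg.Agent.S3036

/-- Let G be a finite non-abelian simple group and A a proper nontrivial subgroup of G. Then |G| > |A| · |C_G(A)|. In particular |G| > |A|² for every nontrivial abelian subgroup A of G. -/
theorem result {G : Type*} [Group G] [Finite G] [IsSimpleGroup G] (hG : ¬ IsMulCommutative G) (A : Subgroup G) (hA1 : A ≠ ⊥) (hA2 : A ≠ ⊤) : Nat.card A * Nat.card ↥(Subgroup.centralizer (A : Set G)) < Nat.card G := by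
  classical
  -- the least subgroup of largest measure is trivial
  obtain ⟨M, hM, hMle⟩ := Cfsg.Agent.Lib.Helper18.exists_least_cdmax (G := G)
  have hMn : M.Normal := by
    constructor
    intro m hm g
    have h1 : Cfsg.Agent.Lib.Helper18.cdm (M.map (MulAut.conj g⁻¹).toMonoidHom) =
        Cfsg.Agent.Lib.Helper18.cdmax G := by
      rw [Cfsg.Agent.Lib.Helper18.cdm_map_conj, hM]
    obtain ⟨x, hx, hxm⟩ := hMle _ h1 hm
    have : g * m * g⁻¹ = x := by
      rw [← hxm]; simp [MulAut.conj_apply, mul_assoc]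
    rw [this]; exact hx
  have hMC : M ≤ Subgroup.centralizer (M : Set G) :=
    hMle _ (Cfsg.Agent.Lib.Helper18.cdm_centralizer_of_max M hM).1
  have hMbot : M = ⊥ := by
    rcases hMn.eq_bot_or_eq_top with h | h
    · exact h
    · exfalso
      apply hG
      refine ⟨⟨fun a b => ?_⟩⟩
      have ha : a ∈ M := by rw [h]; exact Subgroup.mem_top a
      have hb : b ∈ M := by rw [h]; exact Subgroup.mem_top b
      exact hMC hb a ha
  have hmax : Cfsg.Agent.Lib.Helper18.cdmax G = Nat.card G := by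
    rw [← hM, hMbot]
    unfold Cfsg.Agent.Lib.Helper18.cdm
    rw [Subgroup.card_bot, one_mul]
    have : Subgroup.centralizer (((⊥ : Subgroup G)) : Set G) = ⊤ := by
      rw [Subgroup.coe_bot, Subgroup.centralizer_eq_top_iff_subset]
      intro x hx
      rw [Set.mem_singleton_iff] at hx
      rw [hx]; exact Subgroup.one_mem _
    rw [this, Subgroup.card_top]
  have hle : Cfsg.Agent.Lib.Helper18.cdm A ≤ Nat.card G := hmax ▸ Cfsg.Agent.Lib.Helper18.cdm_le_cdmax A
  refine lt_of_le_of_ne hle ?_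
  intro heq
  have hAmax : Cfsg.Agent.Lib.Helper18.cdm A = Cfsg.Agent.Lib.Helper18.cdmax G := by rw [hmax]; exact heq
  -- a maximal proper subgroup of largest measure containing A
  have : Nonempty {K : Subgroup G // Cfsg.Agent.Lib.Helper18.cdm K = Cfsg.Agent.Lib.Helper18.cdmax G ∧
      A ≤ K ∧ K ≠ ⊤} := ⟨⟨A, hAmax, le_rfl, hA2⟩⟩
  obtain ⟨K, hK⟩ := Finite.exists_max
    (fun K : {K : Subgroup G // Cfsg.Agent.Lib.Helper18.cdm K = Cfsg.Agent.Lib.Helper18.cdmax G ∧
      A ≤ K ∧ K ≠ ⊤} => Nat.card K.1)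
  obtain ⟨K, hKmax, hAK, hKtop⟩ := K
  -- every conjugate of A lies in K
  have hconj : ∀ g : G, A.map (MulAut.conj g).toMonoidHom ≤ K := by
    intro g
    set B := A.map (MulAut.conj g).toMonoidHom with hB
    have hBmax : Cfsg.Agent.Lib.Helper18.cdm B = Cfsg.Agent.Lib.Helper18.cdmax G := by
      rw [hB, Cfsg.Agent.Lib.Helper18.cdm_map_conj, hAmax]
    obtain ⟨h1, -, h3⟩ := Cfsg.Agent.Lib.Helper18.cdm_sup_inf_of_max B K hBmax hKmax
    obtain ⟨e1, -, -⟩ := Cfsg.Agent.Lib.Helper18.cdm_mul_eq_imp B K h3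
    by_cases htop : B ⊔ K = ⊤
    · -- then g = b * k and B = k A k⁻¹ ≤ K
      have hg : g ∈ ((B ⊔ K : Subgroup G) : Set G) := by rw [htop]; trivial
      rw [e1] at hg
      obtain ⟨b, hb, k, hk, hbk⟩ := hg
      rintro _ ⟨a, ha, rfl⟩
      -- g a g⁻¹ ∈ B, and b⁻¹ (g a g⁻¹) b = k a k⁻¹ ... we show directly membership in K
      have hb' : b ∈ B := hb
      -- b⁻¹ * (g a g⁻¹) * b ∈ B, equals k a k⁻¹
      -- so every element of B is of the form b (k a' k⁻¹) b⁻¹; use cardinalities instead:
      -- B = b (k A k⁻¹) b⁻¹ and b ∈ B imply k A k⁻¹ = B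
      have hsub : A.map (MulAut.conj k).toMonoidHom ≤ B := by
        rintro _ ⟨a', ha', rfl⟩
        have h5 : g * a' * g⁻¹ ∈ B := ⟨a', ha', rfl⟩
        have h6 : k * a' * k⁻¹ = b⁻¹ * (g * a' * g⁻¹) * b := by
          rw [← hbk]; group
        simp only [MulEquiv.coe_toMonoidHom, MulAut.conj_apply]
        rw [h6]
        exact B.mul_mem (B.mul_mem (B.inv_mem hb') h5) hb'
      have hcard : Nat.card B ≤ Nat.card (A.map (MulAut.conj k).toMonoidHom) := by
        rw [hB, Subgroup.card_map_of_injective (MulAut.conj g).injective,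
          Subgroup.card_map_of_injective (MulAut.conj k).injective]
      have heqB : A.map (MulAut.conj k).toMonoidHom = B := Subgroup.eq_of_le_of_card_ge hsub hcard
      have hmem : (MulAut.conj g).toMonoidHom a ∈ B := ⟨a, ha, rfl⟩
      rw [← heqB] at hmem
      obtain ⟨a'', ha'', hEq⟩ := hmem
      rw [← hEq]
      simp only [MulEquiv.coe_toMonoidHom, MulAut.conj_apply]
      exact K.mul_mem (K.mul_mem hk (hAK ha'')) (K.inv_mem hk)
    · have h7 := hK ⟨B ⊔ K, h1, hAK.trans le_sup_right, htop⟩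
      have h8 : K = B ⊔ K := Subgroup.eq_of_le_of_card_ge le_sup_right h7
      rw [h8]
      exact le_sup_left
  -- normal closure of A is proper
  have hnc : Subgroup.normalClosure (A : Set G) ≤ K := by
    unfold Subgroup.normalClosure
    rw [Subgroup.closure_le]
    intro x hx
    rw [Group.mem_conjugatesOfSet_iff] at hx
    obtain ⟨a, ha, hax⟩ := hx
    rw [isConj_iff] at hax
    obtain ⟨c, hc⟩ := hax
    rw [← hc]
    exact hconj c ⟨a, ha, rfl⟩
  have hN : (Subgroup.normalClosure (A : Set G)).Normal := Subgroup.normalClosure_normal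
  rcases hN.eq_bot_or_eq_top with h | h
  · apply hA1
    have := Subgroup.le_normalClosure (H := A)
    rw [h] at this
    exact le_bot_iff.mp this
  · apply hKtop
    rw [h] at hnc
    exact top_le_iff.mp hnc

end Cfsg.Agent.S3036
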