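import Cfsg.Statements.S3037
import Cfsg.Agent.Lib.Helper18.ChermakDelgado

set_option autoImplicit false
open Cfsg

namespace Cfsg.Agent.S3037

open Cfsg.Agent.Lib.Helper18

variable {X : Type*} [Group X]

/-- The measure `|B|^α · |C_V(B)|`. -/
noncomputable def mm (V : Subgroup X) (α : ℝ) (B : Subgroup X) : ℝ :=
  (Nat.card B : ℝ) ^ α * (Nat.card ↥(V ⊓ Subgroup.centralizer (B : Set X)) : ℝ)

theorem mm_pos [Finite X] (V : Subgroup X) (α : ℝ) (B : Subgroup X) : 0 < mm V α B := by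
  unfold mm
  have h1 : (0 : ℝ) < (Nat.card B : ℝ) := by exact_mod_cast Nat.card_pos
  have h2 : (0 : ℝ) < (Nat.card ↥(V ⊓ Subgroup.centralizer (B : Set X)) : ℝ) := by
    exact_mod_cast Nat.card_pos
  exact mul_pos (Real.rpow_pos_of_pos h1 α) h2

theorem mm_mul_le [Finite X] (V : Subgroup X) (α : ℝ) (hα : 0 < α) (B₁ B₂ : Subgroup X) :
    mm V α B₁ * mm V α B₂ ≤ mm V α (B₁ ⊔ B₂) * mm V α (B₁ ⊓ B₂) := by
  unfold mm
  have h1 := card_mul_card_le_card_sup_mul_card_inf B₁ B₂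
  have h2 := card_mul_card_le_card_sup_mul_card_inf (V ⊓ Subgroup.centralizer (B₁ : Set X))
    (V ⊓ Subgroup.centralizer (B₂ : Set X))
  have e1 : (V ⊓ Subgroup.centralizer (B₁ : Set X)) ⊓ (V ⊓ Subgroup.centralizer (B₂ : Set X)) =
      V ⊓ Subgroup.centralizer ((B₁ ⊔ B₂ : Subgroup X) : Set X) := by
    rw [centralizer_sup_eq]
    ext x
    simp only [Subgroup.mem_inf]
    tauto
  have e2 : (V ⊓ Subgroup.centralizer (B₁ : Set X)) ⊔ (V ⊓ Subgroup.centralizer (B₂ : Set X)) ≤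
      V ⊓ Subgroup.centralizer ((B₁ ⊓ B₂ : Subgroup X) : Set X) := by
    apply sup_le
    · exact inf_le_inf_left _ ((le_sup_left).trans (centralizer_sup_le_centralizer_inf B₁ B₂))
    · exact inf_le_inf_left _ ((le_sup_right).trans (centralizer_sup_le_centralizer_inf B₁ B₂))
  rw [e1] at h2
  have h3 : Nat.card ↥(V ⊓ Subgroup.centralizer (B₁ : Set X)) *
      Nat.card ↥(V ⊓ Subgroup.centralizer (B₂ : Set X)) ≤
      Nat.card ↥(V ⊓ Subgroup.centralizer ((B₁ ⊓ B₂ : Subgroup X) : Set X)) *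
      Nat.card ↥(V ⊓ Subgroup.centralizer ((B₁ ⊔ B₂ : Subgroup X) : Set X)) :=
    h2.trans (Nat.mul_le_mul_right _ (Subgroup.card_le_of_le e2))
  have h1' : (Nat.card B₁ : ℝ) * (Nat.card B₂ : ℝ) ≤
      (Nat.card ↥(B₁ ⊔ B₂) : ℝ) * (Nat.card ↥(B₁ ⊓ B₂) : ℝ) := by exact_mod_cast h1
  have h3' : (Nat.card ↥(V ⊓ Subgroup.centralizer (B₁ : Set X)) : ℝ) *
      (Nat.card ↥(V ⊓ Subgroup.centralizer (B₂ : Set X)) : ℝ) ≤
      (Nat.card ↥(V ⊓ Subgroup.centralizer ((B₁ ⊓ B₂ : Subgroup X) : Set X)) : ℝ) *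
      (Nat.card ↥(V ⊓ Subgroup.centralizer ((B₁ ⊔ B₂ : Subgroup X) : Set X)) : ℝ) := by
    exact_mod_cast h3
  have n1 : (0 : ℝ) ≤ (Nat.card B₁ : ℝ) := Nat.cast_nonneg _
  have n2 : (0 : ℝ) ≤ (Nat.card B₂ : ℝ) := Nat.cast_nonneg _
  have n3 : (0 : ℝ) ≤ (Nat.card ↥(B₁ ⊔ B₂) : ℝ) := Nat.cast_nonneg _
  have n4 : (0 : ℝ) ≤ (Nat.card ↥(B₁ ⊓ B₂) : ℝ) := Nat.cast_nonneg _
  have h4 : ((Nat.card B₁ : ℝ) * (Nat.card B₂ : ℝ)) ^ α ≤
      ((Nat.card ↥(B₁ ⊔ B₂) : ℝ) * (Nat.card ↥(B₁ ⊓ B₂) : ℝ)) ^ α :=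
    Real.rpow_le_rpow (mul_nonneg n1 n2) h1' hα.le
  rw [Real.mul_rpow n1 n2, Real.mul_rpow n3 n4] at h4
  have n5 : (0 : ℝ) ≤ (Nat.card ↥(V ⊓ Subgroup.centralizer (B₁ : Set X)) : ℝ) *
      (Nat.card ↥(V ⊓ Subgroup.centralizer (B₂ : Set X)) : ℝ) :=
    mul_nonneg (Nat.cast_nonneg _) (Nat.cast_nonneg _)
  have n6 : (0 : ℝ) ≤ (Nat.card ↥(B₁ ⊔ B₂) : ℝ) ^ α * (Nat.card ↥(B₁ ⊓ B₂) : ℝ) ^ α :=
    mul_nonneg (Real.rpow_nonneg n3 α) (Real.rpow_nonneg n4 α)
  have h5 := mul_le_mul h4 h3' n5 n6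
  calc (Nat.card B₁ : ℝ) ^ α * (Nat.card ↥(V ⊓ Subgroup.centralizer (B₁ : Set X)) : ℝ) *
        ((Nat.card B₂ : ℝ) ^ α * (Nat.card ↥(V ⊓ Subgroup.centralizer (B₂ : Set X)) : ℝ))
      = (Nat.card B₁ : ℝ) ^ α * (Nat.card B₂ : ℝ) ^ α *
        ((Nat.card ↥(V ⊓ Subgroup.centralizer (B₁ : Set X)) : ℝ) *
          (Nat.card ↥(V ⊓ Subgroup.centralizer (B₂ : Set X)) : ℝ)) := by ring
    _ ≤ _ := h5
    _ = _ := by ring

/-- Conjugating by an element normalizing `V` does not decrease the measure. -/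
theorem mm_le_mm_map [Finite X] (V : Subgroup X) (α : ℝ) (B : Subgroup X) (g : X)
    (hg : g ∈ Subgroup.normalizer (V : Set X)) :
    mm V α B ≤ mm V α (B.map (MulAut.conj g).toMonoidHom) := by
  unfold mm
  have h1 : Nat.card ↥(B.map (MulAut.conj g).toMonoidHom) = Nat.card B :=
    Subgroup.card_map_of_injective (MulAut.conj g).injective
  have h2 : (V ⊓ Subgroup.centralizer (B : Set X)).map (MulAut.conj g).toMonoidHom ≤
      V ⊓ Subgroup.centralizer ((B.map (MulAut.conj g).toMonoidHom : Subgroup X) : Set X) := by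
    rintro _ ⟨x, ⟨hxV, hxC⟩, rfl⟩
    refine ⟨?_, ?_⟩
    · have := (Subgroup.mem_normalizer_iff.mp hg x).mp hxV
      simpa [MulAut.conj_apply] using this
    · rintro _ ⟨b, hb, rfl⟩
      have hcomm : b * x = x * b := hxC b hb
      simp only [MulEquiv.coe_toMonoidHom, MulAut.conj_apply]
      calc g * b * g⁻¹ * (g * x * g⁻¹) = g * (b * x) * g⁻¹ := by group
        _ = g * (x * b) * g⁻¹ := by rw [hcomm]
        _ = g * x * g⁻¹ * (g * b * g⁻¹) := by group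
  have h3 : Nat.card ↥(V ⊓ Subgroup.centralizer (B : Set X)) ≤
      Nat.card ↥(V ⊓ Subgroup.centralizer ((B.map (MulAut.conj g).toMonoidHom : Subgroup X) : Set X)) := by
    calc Nat.card ↥(V ⊓ Subgroup.centralizer (B : Set X))
        = Nat.card ↥((V ⊓ Subgroup.centralizer (B : Set X)).map (MulAut.conj g).toMonoidHom) :=
          (Subgroup.card_map_of_injective (MulAut.conj g).injective).symm
      _ ≤ _ := Subgroup.card_le_of_le h2
  rw [h1]
  have h3' : (Nat.card ↥(V ⊓ Subgroup.centralizer (B : Set X)) : ℝ) ≤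
      (Nat.card ↥(V ⊓ Subgroup.centralizer ((B.map (MulAut.conj g).toMonoidHom : Subgroup X) :
        Set X)) : ℝ) := by exact_mod_cast h3
  exact mul_le_mul_of_nonneg_left h3' (Real.rpow_nonneg (Nat.cast_nonneg _) α)

/-- Let V and G be subgroups of a finite group with V an elementary abelian p-group (p prime) on which G acts faithfully and irreducibly by conjugation: G normalizes V, G ∩ C(V) = 1, and the only subgroups of V normalized by G are 1 and V. If for some nontrivial subgroup A of G and some real α > 0 one has |V| ≤ |A|^α · |C_V(A)|, then |V| ≤ |G|^α. -/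
theorem result {X : Type*} [Group X] [Finite X] {p : ℕ} [Fact p.Prime] (V G : Subgroup X) (hV : Cfsg.IsElementaryAbelian p V)
    (hGV : G ≤ Subgroup.normalizer (V : Set X)) (hfaith : G ⊓ Subgroup.centralizer (V : Set X) = ⊥)
    (hirr : ∀ W : Subgroup X, W ≤ V → G ≤ Subgroup.normalizer (W : Set X) → W = ⊥ ∨ W = V)
    (A : Subgroup X) (hA : A ≤ G) (hA1 : A ≠ ⊥) (α : ℝ) (hα : 0 < α)
    (hbig : (Nat.card V : ℝ) ≤ (Nat.card A : ℝ) ^ α * (Nat.card ↥(V ⊓ Subgroup.centralizer (A : Set X)) : ℝ)) :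
    (Nat.card V : ℝ) ≤ (Nat.card G : ℝ) ^ α := by
  classical
  -- a subgroup of G maximizing the measure
  have : Nonempty {B : Subgroup X // B ≤ G} := ⟨⟨⊥, bot_le⟩⟩
  obtain ⟨B₀, hB₀⟩ := Finite.exists_max (fun B : {B : Subgroup X // B ≤ G} => mm V α B.1)
  set μ := mm V α B₀.1 with hμ
  have hle : ∀ B : Subgroup X, B ≤ G → mm V α B ≤ μ := fun B hB => hB₀ ⟨B, hB⟩
  have hμpos : 0 < μ := mm_pos V α _
  -- maximizers are closed under joins
  have hjoin : ∀ B₁ B₂ : Subgroup X, B₁ ≤ G → B₂ ≤ G → mm V α B₁ = μ → mm V α B₂ = μ →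
      mm V α (B₁ ⊔ B₂) = μ := by
    intro B₁ B₂ h1 h2 e1 e2
    have h3 := mm_mul_le V α hα B₁ B₂
    rw [e1, e2] at h3
    have h4 := hle (B₁ ⊔ B₂) (sup_le h1 h2)
    have h5 := hle (B₁ ⊓ B₂) (inf_le_left.trans h1)
    apply le_antisymm h4
    by_contra hlt
    push Not at hlt
    have : mm V α (B₁ ⊔ B₂) * mm V α (B₁ ⊓ B₂) < μ * μ :=
      mul_lt_mul hlt h5 (mm_pos V α _) hμpos.le
    linarith
  -- the largest maximizer
  have : Nonempty {B : Subgroup X // B ≤ G ∧ mm V α B = μ} := ⟨⟨B₀.1, B₀.2, rfl⟩⟩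
  obtain ⟨Bs, hBs⟩ := Finite.exists_max
    (fun B : {B : Subgroup X // B ≤ G ∧ mm V α B = μ} => Nat.card B.1)
  obtain ⟨Bs, hBsG, hBsμ⟩ := Bs
  have hlargest : ∀ B : Subgroup X, B ≤ G → mm V α B = μ → B ≤ Bs := by
    intro B hB hBμ
    have h1 := hBs ⟨Bs ⊔ B, sup_le hBsG hB, hjoin Bs B hBsG hB hBsμ hBμ⟩
    have h2 : Bs = Bs ⊔ B := Subgroup.eq_of_le_of_card_ge le_sup_left h1
    rw [h2]
    exact le_sup_right
  -- Bs is normalized by G
  have hconj : ∀ g ∈ G, Bs.map (MulAut.conj g).toMonoidHom ≤ Bs := by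
    intro g hg
    apply hlargest
    · rintro _ ⟨b, hb, rfl⟩
      simp only [MulEquiv.coe_toMonoidHom, MulAut.conj_apply]
      exact G.mul_mem (G.mul_mem hg (hBsG hb)) (G.inv_mem hg)
    · apply le_antisymm
      · apply hle
        rintro _ ⟨b, hb, rfl⟩
        simp only [MulEquiv.coe_toMonoidHom, MulAut.conj_apply]
        exact G.mul_mem (G.mul_mem hg (hBsG hb)) (G.inv_mem hg)
      · rw [← hBsμ]
        exact mm_le_mm_map V α Bs g (hGV hg)
  have hconj' : ∀ g ∈ G, ∀ b ∈ Bs, g * b * g⁻¹ ∈ Bs := by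
    intro g hg b hb
    apply hconj g hg
    exact ⟨b, hb, by simp [MulAut.conj_apply]⟩
  -- C_V(Bs) is G-invariant
  set W := V ⊓ Subgroup.centralizer (Bs : Set X) with hW
  have hWnorm : G ≤ Subgroup.normalizer (W : Set X) := by
    have key : ∀ g ∈ G, ∀ w ∈ W, g * w * g⁻¹ ∈ W := by
      intro g hg w hw
      refine ⟨(Subgroup.mem_normalizer_iff.mp (hGV hg) w).mp hw.1, ?_⟩
      intro b hb
      have hb' : g⁻¹ * b * g ∈ Bs := by
        have := hconj' g⁻¹ (G.inv_mem hg) b hb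
        simpa using this
      have hcomm : (g⁻¹ * b * g) * w = w * (g⁻¹ * b * g) := hw.2 _ hb'
      calc b * (g * w * g⁻¹) = g * ((g⁻¹ * b * g) * w) * g⁻¹ := by group
        _ = g * (w * (g⁻¹ * b * g)) * g⁻¹ := by rw [hcomm]
        _ = g * w * g⁻¹ * b := by group
    intro g hg
    rw [Subgroup.mem_normalizer_iff]
    intro w
    constructor
    · exact key g hg w
    · intro h
      have := key g⁻¹ (G.inv_mem hg) _ h
      have e : g⁻¹ * (g * w * g⁻¹) * g⁻¹⁻¹ = w := by group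
      rwa [e] at this
  have hAμ : (Nat.card V : ℝ) ≤ mm V α A := hbig
  rcases hirr W inf_le_left hWnorm with hW0 | hWV
  · -- C_V(Bs) trivial
    have h1 : mm V α Bs = (Nat.card Bs : ℝ) ^ α := by
      unfold mm
      rw [← hW, hW0]
      simp
    have h2 : (Nat.card Bs : ℝ) ^ α ≤ (Nat.card G : ℝ) ^ α := by
      apply Real.rpow_le_rpow (Nat.cast_nonneg _) _ hα.le
      exact_mod_cast Subgroup.card_le_of_le hBsG
    calc (Nat.card V : ℝ) ≤ mm V α A := hAμ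
      _ ≤ μ := hle A hA
      _ = mm V α Bs := hBsμ.symm
      _ = (Nat.card Bs : ℝ) ^ α := h1
      _ ≤ _ := h2
  · -- C_V(Bs) = V : then Bs = 1
    exfalso
    have h1 : V ≤ Subgroup.centralizer (Bs : Set X) := by
      rw [← hWV]; exact inf_le_right
    have h2 : Bs ≤ G ⊓ Subgroup.centralizer (V : Set X) :=
      le_inf hBsG (Subgroup.le_centralizer_iff.mp h1)
    rw [hfaith] at h2
    have hBs0 : Bs = ⊥ := le_bot_iff.mp h2
    have h3 : μ = (Nat.card V : ℝ) := by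
      rw [← hBsμ]
      unfold mm
      rw [← hW, hWV, hBs0]
      simp
    have h4 : mm V α A = μ := le_antisymm (hle A hA) (h3 ▸ hAμ)
    have h5 : A ≤ Bs := hlargest A hA h4
    rw [hBs0] at h5
    exact hA1 (le_bot_iff.mp h5)

end Cfsg.Agent.S3037
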