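import Cfsg.Statements.S3044
import Cfsg.Agent.Lib.Helper18.IsolatedD
import Cfsg.Agent.Lib.Helper18.SidkiA

set_option autoImplicit false
open Cfsg

namespace Cfsg.Agent.S3044

open Cfsg.Agent.Lib.Helper18.Isolated

/-- Let G be a finite group, p a prime, S a Sylow p-subgroup of G and P a p-minimal subgroup of G containing S (S is not normal in P and lies in exactly one maximal subgroup of P). Let L be the subgroup generated by N_G(S) and all p-minimal subgroups of G containing S other than P, and suppose P is isolated: O_p(L) is not contained in O_p(P). Put Y for the normal closure of O^p(P) in G. Then G = YL; P is again isolated in the subgroup YS (the subgroup L₀ generated by N_{YS}(S) and the p-minimal subgroups of YS containing S other than P has O_p(L₀) not contained in O_p(P)); and either Y = O^p(P), or p divides |Y/O_p(Y)|, Y/O_p(Y) is generated by its components (a central product of quasisimple groups), and S permutes these components transitively by conjugation. -/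
theorem result {G : Type*} [Group G] [Finite G] {p : ℕ} [Fact p.Prime] (S : Sylow p G) (P : Subgroup G) (hSP : (S : Subgroup G) ≤ P) (hPmin : Cfsg.IsPMinimal p ↥P)
    (L Y : Subgroup G)
    (hL : L = Subgroup.normalizer ((S : Subgroup G) : Set G) ⊔ ⨆ P' : {P' : Subgroup G // (S : Subgroup G) ≤ P' ∧ Cfsg.IsPMinimal p ↥P' ∧ P' ≠ P}, (P' : Subgroup G))
    (hiso : ¬ (Cfsg.pCore p ↥L).map L.subtype ≤ (Cfsg.pCore p ↥P).map P.subtype)
    (hY : Y = Subgroup.normalClosure (((Cfsg.pResidual p ↥P).map P.subtype : Subgroup G) : Set G)) :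
    Y ⊔ L = ⊤ ∧
    ¬ (Cfsg.pCore p ↥((Subgroup.normalizer ((S : Subgroup G) : Set G) ⊓ (Y ⊔ (S : Subgroup G))) ⊔
          ⨆ P' : {P' : Subgroup G // (S : Subgroup G) ≤ P' ∧ P' ≤ Y ⊔ (S : Subgroup G) ∧ Cfsg.IsPMinimal p ↥P' ∧ P' ≠ P}, (P' : Subgroup G))).map
        (Subgroup.subtype _) ≤ (Cfsg.pCore p ↥P).map P.subtype ∧
    ((Cfsg.pResidual p ↥P).map P.subtype = Y ∨
     ∃ _ : (Cfsg.pCore p ↥Y).Normal,
       p ∣ Nat.card (↥Y ⧸ Cfsg.pCore p ↥Y) ∧ Cfsg.layer (↥Y ⧸ Cfsg.pCore p ↥Y) = ⊤ ∧
       ∀ K₁ K₂ : Subgroup (↥Y ⧸ Cfsg.pCore p ↥Y), Cfsg.IsComponent K₁ → Cfsg.IsComponent K₂ →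
         ∃ s ∈ (S : Subgroup G), ((K₂.comap (QuotientGroup.mk' (Cfsg.pCore p ↥Y))).map Y.subtype) = (((K₁.comap (QuotientGroup.mk' (Cfsg.pCore p ↥Y))).map Y.subtype)).map (MulAut.conj s).toMonoidHom) := by
  have hLdef : L = bigL S P := hL
  subst hLdef
  subst hY
  have hyp := hyp_of_isolated S P hSP hPmin hiso
  refine ⟨hyp.hYL, ?_, ?_⟩
  · intro hle
    apply hiso
    refine le_trans (le_map_pCore ?_ hyp.hQ ?_) hle
    · refine hyp.hQS.trans (le_trans ?_ le_sup_left)
      exact le_inf Subgroup.le_normalizer le_sup_right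
    · refine le_trans ?_ hyp.hLQ
      apply sup_le
      · exact inf_le_left.trans le_sup_left
      · apply iSup_le
        rintro ⟨P', h1, -, h3, h4⟩
        exact le_bigL_of_ne S P h1 h3 h4
  · haveI hOn : (pCore p G).Normal := Cfsg.Agent.Lib.Helper1.pCore_normal p
    have hOp : pCore p (G ⧸ pCore p G) = ⊥ :=
      Cfsg.Agent.Lib.Helper18.Sidki.pCore_quot_pCore_eq_bot p
    have hker : (QuotientGroup.mk' (pCore p G)).ker ≤ bigL S P := by
      rw [QuotientGroup.ker_mk']
      exact (Cfsg.Agent.Lib.Helper1.pCore_le_sylow S).trans (sylow_le_bigL S P)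
    have hyp' := hyp.map (QuotientGroup.mk' (pCore p G)) (QuotientGroup.mk'_surjective _) hker
    rcases hyp'.main hOp with ⟨t, ht, htp, hYt, hYR, hcl⟩ | ⟨hdvd, hns, hsup, htrans⟩
    · left
      exact normalClosure_eq_of_map_eq S P hSP hYR
    · right
      haveI hYn := hyp.normal
      haveI hnY : (pCore p ↥(Subgroup.normalClosure
          (((pResidual p ↥P).map P.subtype : Subgroup G) : Set G))).Normal :=
        Cfsg.Agent.Lib.Helper1.pCore_normal p
      refine ⟨hnY, ?_, layer_eq_top _ hsup, conj_transfer _ _ htrans⟩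
      rw [card_quot_eq]
      exact hdvd

end Cfsg.Agent.S3044
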