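import Cfsg.Statements.S3045
import Cfsg.Agent.Lib.Helper18.IsolatedD
import Cfsg.Agent.Lib.Helper18.SidkiA

set_option autoImplicit false
open Cfsg

namespace Cfsg.Agent.S3045

open Cfsg.Agent.Lib.Helper18.Isolated

/-- Let G be a finite group, p a prime, S a Sylow p-subgroup of G and P a p-minimal subgroup of G containing S. Let L be the subgroup generated by N_G(S) and all p-minimal subgroups of G containing S other than P, and suppose O_p(L) is not contained in O_p(P). Put Y for the normal closure of O^p(P) in G. Then O^p(P) is contained in the preimage in G of F*(G/O_p(G)); and if Y is solvable, then Y = O^p(P) and Y/O_p(Y) is a t-group of nilpotency class at most 2 for some prime t ≠ p. -/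
theorem result {G : Type*} [Group G] [Finite G] {p : ℕ} [Fact p.Prime] (S : Sylow p G) (P : Subgroup G) (hSP : (S : Subgroup G) ≤ P) (hPmin : Cfsg.IsPMinimal p ↥P)
    (L Y : Subgroup G)
    (hL : L = Subgroup.normalizer ((S : Subgroup G) : Set G) ⊔ ⨆ P' : {P' : Subgroup G // (S : Subgroup G) ≤ P' ∧ Cfsg.IsPMinimal p ↥P' ∧ P' ≠ P}, (P' : Subgroup G))
    (hiso : ¬ (Cfsg.pCore p ↥L).map L.subtype ≤ (Cfsg.pCore p ↥P).map P.subtype)
    (hY : Y = Subgroup.normalClosure (((Cfsg.pResidual p ↥P).map P.subtype : Subgroup G) : Set G)) [hn : (Cfsg.pCore p G).Normal] :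
    (Cfsg.pResidual p ↥P).map P.subtype ≤ (Cfsg.generalizedFittingSubgroup (G ⧸ Cfsg.pCore p G)).comap (QuotientGroup.mk' (Cfsg.pCore p G)) ∧
    (Group.IsSolvable ↥Y → (Cfsg.pResidual p ↥P).map P.subtype = Y ∧
       ∃ _ : (Cfsg.pCore p ↥Y).Normal, ∃ t : ℕ, t.Prime ∧ t ≠ p ∧ IsPGroup t (↥Y ⧸ Cfsg.pCore p ↥Y) ∧
         ∃ _ : Group.IsNilpotent (↥Y ⧸ Cfsg.pCore p ↥Y), Group.nilpotencyClass (↥Y ⧸ Cfsg.pCore p ↥Y) ≤ 2) := by
  have hLdef : L = bigL S P := hL
  subst hLdef
  subst hY
  have hyp := hyp_of_isolated S P hSP hPmin hiso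
  have hOp : pCore p (G ⧸ pCore p G) = ⊥ :=
    Cfsg.Agent.Lib.Helper18.Sidki.pCore_quot_pCore_eq_bot p
  have hker : (QuotientGroup.mk' (pCore p G)).ker ≤ bigL S P := by
    rw [QuotientGroup.ker_mk']
    exact (Cfsg.Agent.Lib.Helper1.pCore_le_sylow S).trans (sylow_le_bigL S P)
  have hyp' := hyp.map (QuotientGroup.mk' (pCore p G)) (QuotientGroup.mk'_surjective _) hker
  constructor
  · rw [← Subgroup.map_le_iff_le_comap]
    exact (Subgroup.map_mono hyp.R_le).trans (hyp'.le_gfs hOp)
  · intro hs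
    have hs' : Group.IsSolvable ↥((Subgroup.normalClosure
        (((pResidual p ↥P).map P.subtype : Subgroup G) : Set G)).map
          (QuotientGroup.mk' (pCore p G))) :=
      Group.isSolvable_of_surjective ((QuotientGroup.mk' (pCore p G)).subgroupMap_surjective _)
    haveI hYn := hyp.normal
    haveI hnY : (pCore p ↥(Subgroup.normalClosure
        (((pResidual p ↥P).map P.subtype : Subgroup G) : Set G))).Normal :=
      Cfsg.Agent.Lib.Helper1.pCore_normal p
    rcases hyp'.main hOp with ⟨t, ht, htp, hYt, hYR, hcl⟩ | ⟨-, hns, -, -⟩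
    · exact ⟨normalClosure_eq_of_map_eq S P hSP hYR, hnY, t, ht, htp, isPGroup_quot _ hYt,
        class_two_quot _ hcl⟩
    · exact absurd hs' hns

end Cfsg.Agent.S3045
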