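import Cfsg.Statements.S3048
import Cfsg.Agent.Lib.Helper18.SidkiC

set_option autoImplicit false
universe u
open Cfsg

namespace Cfsg.Agent.S3048

/-- Minimal counterexample reduction for the Sidki pair problem. Let G be a finite group and V a nontrivial elementary abelian 2-subgroup satisfying the Sidki pair condition with V ∩ O₂(G) = 1. Suppose that for every finite group H of smaller order, every nontrivial elementary abelian 2-subgroup W of H satisfying the Sidki pair condition meets O₂(H) nontrivially, and that the same holds in G for every such subgroup W of order smaller than that of V. Then the generalized Fitting subgroup F*(G) is a non-abelian simple group and G = V F*(G). -/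
theorem result {G : Type u} [Group G] [Finite G] (V : Subgroup G) (hV : Cfsg.IsElementaryAbelian 2 V) (hV1 : V ≠ ⊥) (hS : Cfsg.IsSidkiPair V) (hVO : V ⊓ Cfsg.pCore 2 G = ⊥) (hminG : ∀ (H : Type u) [Group H] [Finite H] (W : Subgroup H), Nat.card H < Nat.card G → Cfsg.IsElementaryAbelian 2 W → W ≠ ⊥ → Cfsg.IsSidkiPair W → W ⊓ Cfsg.pCore 2 H ≠ ⊥) (hminV : ∀ W : Subgroup G, Nat.card W < Nat.card V → Cfsg.IsElementaryAbelian 2 W → W ≠ ⊥ → Cfsg.IsSidkiPair W → W ⊓ Cfsg.pCore 2 G ≠ ⊥) : IsSimpleGroup ↥(Cfsg.generalizedFittingSubgroup G) ∧ ¬ IsMulCommutative ↥(Cfsg.generalizedFittingSubgroup G) ∧ V ⊔ Cfsg.generalizedFittingSubgroup G = ⊤ := by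
  have hcore : Cfsg.pCore 2 G = ⊥ := by
    by_contra hne
    haveI : (Cfsg.pCore 2 G).Normal := Cfsg.Agent.Lib.Helper1.pCore_normal 2
    obtain ⟨v, hvV, hv1, hv⟩ :=
      Cfsg.Agent.Lib.Helper18.Sidki.exists_mem_pCore_quotient hV hV1 hS hminG (Cfsg.pCore 2 G)
        hne hVO
    rw [Cfsg.Agent.Lib.Helper18.Sidki.pCore_quot_pCore_eq_bot, Subgroup.mem_bot] at hv
    have hvN : v ∈ Cfsg.pCore 2 G := by
      rw [← QuotientGroup.ker_mk' (Cfsg.pCore 2 G)]; exact hv
    have : v ∈ V ⊓ Cfsg.pCore 2 G := ⟨hvV, hvN⟩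
    rw [hVO, Subgroup.mem_bot] at this
    exact hv1 this
  have hVc := Cfsg.Agent.Lib.Helper18.Sidki.comm_of_isElementaryAbelian hV
  have hMC : Cfsg.Agent.Lib.Helper18.Sidki.MC V := by
    refine ⟨hVc, hV.2, hV1, hS, hcore, ?_, ?_, ?_⟩
    · intro H W hH hWH hWV hW1 hrel
      exact Cfsg.Agent.Lib.Helper18.Sidki.exists_mem_pCore_subgroup hV hminG H W hH hWH hWV hW1
        hrel
    · intro N hN hN1 hVN
      exact Cfsg.Agent.Lib.Helper18.Sidki.exists_mem_pCore_quotient hV hV1 hS hminG N hN1 hVN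
    · intro W hWV hW1 hWne hrel
      have hcard : Nat.card W < Nat.card V := by
        apply lt_of_le_of_ne (Subgroup.card_le_of_le hWV)
        intro h
        exact hWne (Subgroup.eq_of_le_of_card_ge hWV h.ge)
      have hWe : Cfsg.IsElementaryAbelian 2 W :=
        Cfsg.Agent.Lib.Helper18.Sidki.isElementaryAbelian_of_comm
          (fun a ha b hb => hVc a (hWV ha) b (hWV hb)) (fun a ha => hV.2 a (hWV ha))
      have hWS : Cfsg.IsSidkiPair W := fun h v hv hodd hinv =>
        hrel h (Subgroup.mem_top h) v hv hodd hinv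
      have := hminV W hcard hWe hW1 hWS
      rw [hcore, inf_bot_eq] at this
      exact this rfl
  exact hMC.result

end Cfsg.Agent.S3048
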