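import Cfsg.Statements.S3049
import Cfsg.Agent.Lib.Helper18.IsoRank
import Cfsg.Agent.Lib.Helper1.Fitting
import Cfsg.Agent.Lib.Helper9.Layer2

set_option autoImplicit false
open Cfsg
open Cfsg.Agent.Lib.Helper18.IsoRank

namespace Cfsg.Agent.S3049

/-- a component of a group with `O_{p'}(G) = 1` contains an element of order `p` of any given
Sylow `p`-subgroup -/
theorem exists_order_p_in_comp {G : Type*} [Group G] [Finite G] {p : ℕ} [Fact p.Prime]
    (hcore : Cfsg.pPrimeCore p G = ⊥) (S : Sylow p G) {L : Subgroup G} (hL : Cfsg.IsComponent L) :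
    ∃ y ∈ L, y ∈ (S : Subgroup G) ∧ orderOf y = p := by
  have hpP : p.Prime := Fact.out
  have hdvd : p ∣ Nat.card L := by
    by_contra h
    have hcop : (Nat.card L).Coprime p := ((Nat.Prime.coprime_iff_not_dvd hpP).mpr h).symm
    have hle := Cfsg.Agent.Lib.Helper10.subnormal_coprime_le_pPrimeCore p hL.1 hcop
    rw [hcore, le_bot_iff] at hle
    exact Cfsg.Agent.Lib.Helper9.comp_ne_bot hL hle
  let P : Sylow p L := Cfsg.Agent.Lib.Helper9.CompAct.sylowInf p S L hL.1
  have hPcard : p ∣ Nat.card (P : Subgroup L) := by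
    rw [P.card_eq_multiplicity]
    have hpos : 0 < (Nat.card L).factorization p :=
      hpP.factorization_pos_of_dvd Nat.card_pos.ne' hdvd
    exact dvd_pow_self p hpos.ne'
  obtain ⟨y, hy⟩ := exists_prime_orderOf_dvd_card' p hPcard
  refine ⟨((y : L) : G), (y : L).2, ?_, ?_⟩
  · have h1 : (y : L) ∈ (S : Subgroup G).subgroupOf L := y.2
    rwa [Subgroup.mem_subgroupOf] at h1
  · rw [Subgroup.orderOf_coe, Subgroup.orderOf_coe]
    exact hy


/-- Let G be a finite group and p an odd prime with O_{p'}(G) = 1. Suppose that G has p-rank at most 2 (no elementary abelian subgroup of order p³) and that some element x of order p is isolated in G (no G-conjugate of x other than x commutes with x) and not central. Then the generalized Fitting subgroup F*(G) is a non-abelian simple group. Since O_{p'}(G) = 1, such an x is not central modulo O_{p'}(G): the hypotheses describe a counterexample to the Z*_p statement in p-rank at most 2. -/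
theorem result {G : Type*} [Group G] [Finite G] {p : ℕ} [Fact p.Prime] (hp : p ≠ 2) (hcore : Cfsg.pPrimeCore p G = ⊥)
    (hrank : Cfsg.PRankLE p 2 G) (x : G) (hx : orderOf x = p) (hiso : Cfsg.IsIsolated x) (hnc : x ∉ Subgroup.center G) :
    IsSimpleGroup ↥(Cfsg.generalizedFittingSubgroup G) ∧ ¬ IsMulCommutative ↥(Cfsg.generalizedFittingSubgroup G) := by
  have hpP : p.Prime := Fact.out
  have hx1 : x ≠ 1 := by
    intro h
    rw [h, orderOf_one] at hx
    exact hpP.one_lt.ne hx
  -- a Sylow subgroup containing `x`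
  have hxp : IsPGroup p (Subgroup.zpowers x) :=
    IsPGroup.of_card (n := 1) (by rw [Nat.card_zpowers, hx, pow_one])
  obtain ⟨S, hS⟩ := hxp.exists_le_sylow
  have hxS : x ∈ (S : Subgroup G) := hS (Subgroup.mem_zpowers x)
  have hxZ := isolated_comm_of_isPGroup hiso (S : Subgroup G) S.isPGroup' hxS
  -- Step 2: `O_p(G) = 1`
  have hF : Cfsg.pCore p G = ⊥ := by
    by_contra hne
    have hFn : (Cfsg.pCore p G).Normal := Cfsg.Agent.Lib.Helper1.pCore_normal p
    have hFS : Cfsg.pCore p G ≤ (S : Subgroup G) := Cfsg.Agent.Lib.Helper1.pCore_le_sylow S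
    have hxF : x ∉ Cfsg.pCore p G := by
      intro hxF
      apply hnc
      rw [Subgroup.mem_center_iff]
      intro g
      have h1 : g * x * g⁻¹ ∈ Cfsg.pCore p G := hFn.conj_mem x hxF g
      have h2 : Commute x (g * x * g⁻¹) := (hxZ _ (hFS h1)).symm
      have h3 := hiso g h2
      exact mul_inv_eq_iff_eq_mul.mp h3
    have hFp : IsPGroup p (Cfsg.pCore p G) := Cfsg.Agent.Lib.Helper1.pCore_isPGroup p
    have hFcard : p ∣ Nat.card (Cfsg.pCore p G) := by
      obtain ⟨k, hk⟩ := IsPGroup.iff_card.mp hFp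
      rw [hk]
      have hk0 : k ≠ 0 := by
        intro h0
        rw [h0, pow_zero] at hk
        exact hne (Subgroup.card_eq_one.mp hk)
      exact dvd_pow_self p hk0
    obtain ⟨c, hc⟩ := exists_prime_orderOf_dvd_card' p hFcard
    have hMn : (Subgroup.centralizer ((Cfsg.pCore p G : Subgroup G) : Set G)).Normal :=
      Subgroup.normal_centralizer
    have hMp := isPGroup_of_isolated hp hcore hrank hx hiso S hxS
      (Subgroup.centralizer ((Cfsg.pCore p G : Subgroup G) : Set G)) hMn.isSubnormal
      (c := (c : G)) (hFS c.2) (by rw [Subgroup.orderOf_coe]; exact hc)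
      (fun m hm => ((Subgroup.mem_centralizer_iff.mp hm) (c : G) c.2).symm)
      (fun h => hxF ((Subgroup.zpowers_le.mpr c.2) h))
    have hMF := Cfsg.Agent.Lib.Helper1.le_pCore hMn hMp
    have hxM : x ∈ Subgroup.centralizer ((Cfsg.pCore p G : Subgroup G) : Set G) := by
      rw [Subgroup.mem_centralizer_iff]
      intro f hf
      exact hxZ f (hFS hf)
    exact hxF (hMF hxM)
  have hFit : Cfsg.fittingSubgroup G = ⊥ := by
    rw [Cfsg.Agent.Lib.Helper1.fittingSubgroup_eq_pCore_of_pPrimeCore_eq_bot p hcore, hF]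
  have hgfs : Cfsg.generalizedFittingSubgroup G = Cfsg.layer G := by
    unfold Cfsg.generalizedFittingSubgroup
    rw [hFit, sup_bot_eq]
  -- central elements of components are trivial
  have hcen : ∀ L : Subgroup G, Cfsg.IsComponent L → ∀ z ∈ L, (∀ y ∈ L, y * z = z * y) → z = 1 := by
    intro L hL z hzL hzc
    have hsub : ((Subgroup.center L).map L.subtype).IsSubnormal :=
      (Subgroup.Normal.isSubnormal inferInstance).trans' hL.1
    have hcm : IsMulCommutative ((Subgroup.center L).map L.subtype) := by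
      refine ⟨⟨?_⟩⟩
      rintro ⟨_, a, ha, rfl⟩ ⟨_, b, hb, rfl⟩
      apply Subtype.ext
      have := (Subgroup.mem_center_iff.mp ha) b
      exact (congrArg Subtype.val this).symm
    have hnil : Group.IsNilpotent ((Subgroup.center L).map L.subtype) :=
      Cfsg.Agent.Lib.Helper9.isNilpotent_of_isMulCommutative
    have hle := Cfsg.Agent.Lib.Helper9.subnormal_nilpotent_le_fitting hsub hnil
    rw [hFit, le_bot_iff] at hle
    have hz : z ∈ (Subgroup.center L).map L.subtype := by
      refine ⟨⟨z, hzL⟩, ?_, rfl⟩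
      rw [SetLike.mem_coe, Subgroup.mem_center_iff]
      rintro ⟨y, hy⟩
      apply Subtype.ext
      exact hzc y hy
    rw [hle] at hz
    exact Subgroup.mem_bot.mp hz
  -- the layer is nontrivial
  have hlayer_ne : Cfsg.layer G ≠ ⊥ := by
    intro h
    have h1 := Cfsg.Agent.Lib.Helper9.centralizer_gfs_le (G := G)
    rw [hgfs, h] at h1
    have h2 : x ∈ (⊥ : Subgroup G) := h1 (by
      rw [Subgroup.mem_centralizer_iff]
      intro y hy
      rw [Subgroup.coe_bot, Set.mem_singleton_iff] at hy
      rw [hy, one_mul, mul_one])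
    exact hx1 (Subgroup.mem_bot.mp h2)
  obtain ⟨L, hL⟩ : ∃ L : Subgroup G, Cfsg.IsComponent L := by
    by_contra hno
    push Not at hno
    apply hlayer_ne
    unfold Cfsg.layer
    have : {K : Subgroup G | Cfsg.IsComponent K} = ∅ := Set.eq_empty_of_forall_notMem hno
    rw [this, sSup_empty]
  -- uniqueness of the component
  have key : ∀ L₁ L₂ : Subgroup G, Cfsg.IsComponent L₁ → Cfsg.IsComponent L₂ → L₁ ≠ L₂ →
      ∀ y ∈ L₂, y ∈ (S : Subgroup G) → orderOf y = p → x ∈ Subgroup.zpowers y := by
    intro L₁ L₂ h₁ h₂ hne y hyL hyS hyo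
    by_contra hxy
    have hcomm := Cfsg.Agent.Lib.Helper9.comp_commutator_eq_bot_of_ne h₁ h₂ hne
    rw [Subgroup.commutator_eq_bot_iff_le_centralizer] at hcomm
    have hMp := isPGroup_of_isolated hp hcore hrank hx hiso S hxS L₁ h₁.1 hyS hyo
      (fun m hm => ((Subgroup.mem_centralizer_iff.mp (hcomm hm)) y hyL).symm) hxy
    have : Group.IsNilpotent L₁ := hMp.isNilpotent
    exact Cfsg.Agent.Lib.Helper9.qs_not_isSolvable h₁.2 inferInstance
  have huniq : ∀ L' : Subgroup G, Cfsg.IsComponent L' → L' = L := by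
    intro L' hL'
    by_contra hne
    obtain ⟨y, hyL, hyS, hyo⟩ := exists_order_p_in_comp hcore S hL
    obtain ⟨y', hyL', hyS', hyo'⟩ := exists_order_p_in_comp hcore S hL'
    have h1 : x ∈ L := (Subgroup.zpowers_le.mpr hyL) (key L' L hL' hL hne y hyL hyS hyo)
    have h2 : x ∈ L' :=
      (Subgroup.zpowers_le.mpr hyL') (key L L' hL hL' (Ne.symm hne) y' hyL' hyS' hyo')
    have hcomm := Cfsg.Agent.Lib.Helper9.comp_commutator_eq_bot_of_ne hL hL' (Ne.symm hne)
    rw [Subgroup.commutator_eq_bot_iff_le_centralizer] at hcomm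
    apply hx1
    apply hcen L hL x h1
    intro m hm
    exact ((Subgroup.mem_centralizer_iff.mp (hcomm hm)) x h2).symm
  have hlayer : Cfsg.layer G = L := by
    unfold Cfsg.layer
    have : {K : Subgroup G | Cfsg.IsComponent K} = {L} := by
      ext K
      simp only [Set.mem_ofPred_eq, Set.mem_singleton_iff]
      constructor
      · exact huniq K
      · rintro rfl; exact hL
    rw [this, sSup_singleton]
  have hZL : Subgroup.center L = ⊥ := by
    rw [eq_bot_iff]
    rintro ⟨z, hz⟩ hzc
    rw [Subgroup.mem_bot]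
    apply Subtype.ext
    apply hcen L hL z hz
    intro y hy
    have := (Subgroup.mem_center_iff.mp hzc) ⟨y, hy⟩
    exact congrArg Subtype.val this
  have hLs : IsSimpleGroup L := by
    have : IsSimpleGroup (L ⧸ Subgroup.center L) := hL.2.2
    exact ((QuotientGroup.quotientMulEquivOfEq hZL).trans QuotientGroup.quotientBot).symm.isSimpleGroup
  have e : Cfsg.generalizedFittingSubgroup G = L := by rw [hgfs, hlayer]
  rw [e]
  refine ⟨hLs, ?_⟩
  intro hc
  apply Cfsg.Agent.Lib.Helper9.qs_not_isSolvable hL.2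
  exact Group.isSolvable_of_comm (fun a b => hc.is_comm.comm a b)

end Cfsg.Agent.S3049
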