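-- Statement S3053: extraspecial Sylow of order p^3 and exponent p^2: the centre is strongly closed.
import Cfsg.Statements.S3053
import Cfsg.Agent.Lib.Helper18.Basic
import Cfsg.Agent.Lib.Helper18.Conj
import Cfsg.Agent.Lib.Helper18.ClassTwo
import Cfsg.Agent.Lib.Helper1.Frattini

set_option autoImplicit false
open Cfsg
open scoped commutatorElement

namespace Cfsg.Agent.S3053

open Cfsg.Agent.Lib.Helper18

variable {G : Type*} [Group G]

/-- A subgroup of prime order is generated by each of its nontrivial elements. -/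
theorem exists_pow_eq_of_card_prime [Finite G] {p : ℕ} [Fact p.Prime] (K : Subgroup G)
    (hK : Nat.card K = p) {u z : G} (hu : u ∈ K) (hu1 : u ≠ 1) (hz : z ∈ K) :
    ∃ k : ℕ, u ^ k = z := by
  have hpp : p.Prime := Fact.out
  have hle : Subgroup.zpowers u ≤ K := Subgroup.zpowers_le.mpr hu
  have hord : orderOf u = p := by
    have hd := Subgroup.orderOf_dvd_natCard K hu
    rw [hK] at hd
    rcases hpp.eq_one_or_self_of_dvd _ hd with h | h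
    · exact absurd (orderOf_eq_one_iff.mp h) hu1
    · exact h
  have heq : Subgroup.zpowers u = K :=
    Subgroup.eq_of_le_of_card_ge hle (by rw [Nat.card_zpowers, hord, hK])
  rw [← heq] at hz
  exact (Submonoid.mem_powers_iff _ _).mp (mem_powers_iff_mem_zpowers.mpr hz)

/-- The elementwise hypotheses on `PP` (extraspecial of order `p ^ 3`) and its centre `Z`. -/
structure Setup (p : ℕ) (PP Z : Subgroup G) : Prop where
  hZP : Z ≤ PP
  central : ∀ z ∈ Z, ∀ x ∈ PP, x * z = z * x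
  full : ∀ x ∈ PP, (∀ x' ∈ PP, x' * x = x * x') → x ∈ Z
  comm : ∀ x ∈ PP, ∀ x' ∈ PP, ⁅x, x'⁆ ∈ Z
  pow : ∀ x ∈ PP, x ^ p ∈ Z
  cardZ : Nat.card Z = p
  cardP : Nat.card PP = p ^ 3

namespace Setup

variable {p : ℕ} {PP Z : Subgroup G}

theorem pow_eq_one_of_mem_Z (S : Setup p PP Z) {z : G} (hz : z ∈ Z) : z ^ p = 1 := by
  have h := Subgroup.orderOf_dvd_natCard Z hz
  rw [S.cardZ] at h
  exact orderOf_dvd_iff_pow_eq_one.mp h

theorem mul_pow (S : Setup p PP Z) (hodd : Odd p) {x x' : G} (hx : x ∈ PP) (hx' : x' ∈ PP) :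
    (x * x') ^ p = x ^ p * x' ^ p := by
  have hc : ⁅x', x⁆ ∈ Z := S.comm x' hx' x hx
  exact mul_pow_of_odd_of_comm_pow_eq_one x x' (S.central _ hc x hx) (S.central _ hc x' hx') hodd
    (S.pow_eq_one_of_mem_Z hc)

/-- The elements of `PP` of order dividing `p`. -/
def Om (S : Setup p PP Z) (hodd : Odd p) : Subgroup G where
  carrier := {x | x ∈ PP ∧ x ^ p = 1}
  one_mem' := ⟨PP.one_mem, one_pow _⟩
  mul_mem' := by
    rintro x x' ⟨hx, hxp⟩ ⟨hx', hxp'⟩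
    exact ⟨PP.mul_mem hx hx', by rw [S.mul_pow hodd hx hx', hxp, hxp', one_mul]⟩
  inv_mem' := by
    rintro x ⟨hx, hxp⟩
    exact ⟨PP.inv_mem hx, by rw [inv_pow, hxp, inv_one]⟩

theorem mem_Om (S : Setup p PP Z) (hodd : Odd p) {x : G} :
    x ∈ S.Om hodd ↔ x ∈ PP ∧ x ^ p = 1 := Iff.rfl

theorem Om_le (S : Setup p PP Z) (hodd : Odd p) : S.Om hodd ≤ PP := fun _ hx =>
  ((S.mem_Om hodd).mp hx).1

theorem card_Om [Fact p.Prime] (S : Setup p PP Z) (hodd : Odd p) (ha : ∃ a ∈ PP, a ^ p ≠ 1) :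
    Nat.card (S.Om hodd) = p ^ 2 := by
  have hpp : p.Prime := Fact.out
  let θ : ↥PP →* ↥Z :=
    { toFun := fun x => ⟨(x : G) ^ p, S.pow x x.2⟩
      map_one' := Subtype.ext (one_pow _)
      map_mul' := fun x x' => Subtype.ext (S.mul_pow hodd x.2 x'.2) }
  have hker : θ.ker = (S.Om hodd).subgroupOf PP := by
    ext x
    rw [MonoidHom.mem_ker, Subgroup.mem_subgroupOf, S.mem_Om hodd]
    constructor
    · intro h; exact ⟨x.2, congrArg Subtype.val h⟩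
    · intro h; exact Subtype.ext h.2
  have hcardker : Nat.card θ.ker = Nat.card (S.Om hodd) := by
    rw [hker]; exact Nat.card_congr (Subgroup.subgroupOfEquivOfLe (S.Om_le hodd)).toEquiv
  have hrange : Nat.card θ.range = p := by
    have hdvd : Nat.card θ.range ∣ p := by
      have := Subgroup.card_subgroup_dvd_card θ.range
      rwa [S.cardZ] at this
    rcases hpp.eq_one_or_self_of_dvd _ hdvd with h1 | h1
    · exfalso
      obtain ⟨a, haP, hap⟩ := ha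
      rw [Subgroup.card_eq_one] at h1
      have hmem : θ ⟨a, haP⟩ ∈ θ.range := ⟨_, rfl⟩
      rw [h1, Subgroup.mem_bot] at hmem
      exact hap (congrArg Subtype.val hmem)
    · exact h1
  have h1 := Subgroup.card_mul_index θ.ker
  rw [Subgroup.index_ker, hrange, hcardker, S.cardP] at h1
  have h2 : Nat.card (S.Om hodd) * p = p ^ 2 * p := by rw [h1]; ring
  exact Nat.eq_of_mul_eq_mul_right hpp.pos h2

theorem Om_comm [Fact p.Prime] (S : Setup p PP Z) (hodd : Odd p) (ha : ∃ a ∈ PP, a ^ p ≠ 1)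
    {x x' : G} (hx : x ∈ S.Om hodd) (hx' : x' ∈ S.Om hodd) : x * x' = x' * x := by
  have h := IsPGroup.commutative_of_card_eq_prime_sq (S.card_Om hodd ha)
    (⟨x, hx⟩ : ↥(S.Om hodd)) ⟨x', hx'⟩
  exact congrArg Subtype.val h

/-- An element of `PP` commuting with a noncentral element of order `p` has order dividing `p`. -/
theorem pow_eq_one_of_commute [Finite G] [Fact p.Prime] (S : Setup p PP Z) (hodd : Odd p)
    (ha : ∃ a ∈ PP, a ^ p ≠ 1) {y x : G} (hy : y ∈ S.Om hodd) (hyZ : y ∉ Z) (hx : x ∈ PP)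
    (hxy : x * y = y * x) : x ^ p = 1 := by
  by_contra hxp
  apply hyZ
  apply S.full y (S.Om_le hodd hy)
  intro x' hx'
  obtain ⟨k, hk⟩ := exists_pow_eq_of_card_prime Z S.cardZ (S.pow x hx) hxp (S.pow x' hx')
  obtain ⟨t, ht⟩ : ∃ t, t = x ^ k := ⟨_, rfl⟩
  have htP : t ∈ PP := by rw [ht]; exact PP.pow_mem hx k
  have htp : t ^ p = x' ^ p := by rw [ht, ← pow_mul, mul_comm k p, pow_mul, hk]
  have hω : x' * t⁻¹ ∈ S.Om hodd := by
    rw [S.mem_Om hodd]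
    refine ⟨PP.mul_mem hx' (PP.inv_mem htP), ?_⟩
    rw [S.mul_pow hodd hx' (PP.inv_mem htP), inv_pow, htp, mul_inv_cancel]
  have h1 : (x' * t⁻¹) * y = y * (x' * t⁻¹) := S.Om_comm hodd ha hω hy
  have hxy' : Commute x y := hxy
  have h2 : t * y = y * t := by rw [ht]; exact (hxy'.pow_left k).eq
  calc x' * y = (x' * t⁻¹) * (t * y) := by group
    _ = (x' * t⁻¹) * (y * t) := by rw [h2]
    _ = ((x' * t⁻¹) * y) * t := by group
    _ = (y * (x' * t⁻¹)) * t := by rw [h1]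
    _ = y * x' := by group

end Setup

/-- Elements centralizing `Z` and centralizing `y` modulo `Z`. -/
def Hs (Z : Subgroup G) (y : G) : Subgroup G where
  carrier := {k | (∀ z ∈ Z, k * z * k⁻¹ = z) ∧ k * y * k⁻¹ * y⁻¹ ∈ Z}
  one_mem' := ⟨fun z _ => by simp, by simp [Z.one_mem]⟩
  mul_mem' := by
    rintro k₁ k₂ ⟨h₁, h₁'⟩ ⟨h₂, h₂'⟩
    refine ⟨fun z hz => ?_, ?_⟩
    · calc k₁ * k₂ * z * (k₁ * k₂)⁻¹ = k₁ * (k₂ * z * k₂⁻¹) * k₁⁻¹ := by group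
        _ = z := by rw [h₂ z hz, h₁ z hz]
    · have e : k₁ * k₂ * y * (k₁ * k₂)⁻¹ * y⁻¹
          = (k₁ * (k₂ * y * k₂⁻¹ * y⁻¹) * k₁⁻¹) * (k₁ * y * k₁⁻¹ * y⁻¹) := by group
      rw [e, h₁ _ h₂']
      exact Z.mul_mem h₂' h₁'
  inv_mem' := by
    rintro k ⟨h, h'⟩
    have hinv : ∀ z ∈ Z, k⁻¹ * z * k⁻¹⁻¹ = z := by
      intro z hz
      have := h z hz
      calc k⁻¹ * z * k⁻¹⁻¹ = k⁻¹ * (k * z * k⁻¹) * k⁻¹⁻¹ := by rw [this]
        _ = z := by group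
    refine ⟨hinv, ?_⟩
    have e : k⁻¹ * y * k⁻¹⁻¹ * y⁻¹ = k⁻¹ * (k * y * k⁻¹ * y⁻¹)⁻¹ * k⁻¹⁻¹ := by group
    rw [e, hinv _ (Z.inv_mem h')]
    exact Z.inv_mem h'

theorem mem_Hs (Z : Subgroup G) (y k : G) :
    k ∈ Hs Z y ↔ (∀ z ∈ Z, k * z * k⁻¹ = z) ∧ k * y * k⁻¹ * y⁻¹ ∈ Z := Iff.rfl

theorem Setup.strongly_closed [Finite G] {p : ℕ} [Fact p.Prime] {Z : Subgroup G} (hp2 : p ≠ 2)
    (P : Sylow p G) (S : Setup p (P : Subgroup G) Z) (ha : ∃ a ∈ (P : Subgroup G), a ^ p ≠ 1)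
    {z₀ : G} (hz₀ : z₀ ∈ Z) (g : G) (hy : g * z₀ * g⁻¹ ∈ (P : Subgroup G)) :
    g * z₀ * g⁻¹ ∈ Z := by
  have hpp : p.Prime := Fact.out
  have hodd : Odd p := (hpp.eq_two_or_odd').resolve_left hp2
  by_contra hyZ
  obtain ⟨y, hydef⟩ : ∃ y, y = g * z₀ * g⁻¹ := ⟨_, rfl⟩
  rw [← hydef] at hy hyZ
  have hz₀p : z₀ ^ p = 1 := S.pow_eq_one_of_mem_Z hz₀
  have hyp : y ^ p = 1 := by rw [hydef, conj_pow, hz₀p, mul_one, mul_inv_cancel]
  have hyΩ : y ∈ S.Om hodd := (S.mem_Om hodd).mpr ⟨hy, hyp⟩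
  have hy1 : y ≠ 1 := by
    intro h; apply hyZ; rw [h]; exact Z.one_mem
  have hz₀1 : z₀ ≠ 1 := by
    intro h
    apply hy1
    rw [hydef, h, mul_one, mul_inv_cancel]
  have hyord : Nat.card (Subgroup.zpowers y) = p := by
    rw [Nat.card_zpowers]
    have hd : orderOf y ∣ p := orderOf_dvd_of_pow_eq_one hyp
    rcases hpp.eq_one_or_self_of_dvd _ hd with h1 | h1
    · exact absurd (orderOf_eq_one_iff.mp h1) hy1
    · exact h1
  -- Step 1: an element normalizing `Ω` and moving `z₀` to `y`.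
  obtain ⟨g₁, hg₁Ω, hg₁z⟩ : ∃ g₁ : G, cj g₁ (S.Om hodd) = S.Om hodd ∧ g₁ * z₀ * g₁⁻¹ = y := by
    have hPH : (P : Subgroup G) ≤ Subgroup.centralizer {z₀} := by
      intro x hx
      rw [Subgroup.mem_centralizer_singleton_iff]
      exact S.central z₀ hz₀ x hx
    have hΩp : IsPGroup p (S.Om hodd) := P.2.to_le (S.Om_le hodd)
    have hQH : cj g⁻¹ (S.Om hodd) ≤ Subgroup.centralizer {z₀} := by
      intro q hq
      rw [mem_cj_iff, inv_inv] at hq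
      rw [Subgroup.mem_centralizer_singleton_iff]
      have h1 : (g * q * g⁻¹) * y = y * (g * q * g⁻¹) := S.Om_comm hodd ha hq hyΩ
      rw [hydef] at h1
      calc q * z₀ = g⁻¹ * ((g * q * g⁻¹) * (g * z₀ * g⁻¹)) * g := by group
        _ = g⁻¹ * ((g * z₀ * g⁻¹) * (g * q * g⁻¹)) * g := by rw [h1]
        _ = z₀ * q := by group
    obtain ⟨k, hkH, hk⟩ := exists_conj_le_sylow_of_le P _ hPH _ (isPGroup_cj g⁻¹ _ hΩp) hQH
    have hk' : cj (k * g⁻¹) (S.Om hodd) ≤ (P : Subgroup G) := by rw [← cj_cj]; exact hk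
    have hle : cj (k * g⁻¹) (S.Om hodd) ≤ S.Om hodd := by
      intro t ht
      rw [S.mem_Om hodd]
      refine ⟨hk' ht, ?_⟩
      obtain ⟨ω, hω, rfl⟩ := ht
      simp only [MulEquiv.coe_toMonoidHom, MulAut.conj_apply]
      rw [conj_pow, ((S.mem_Om hodd).mp hω).2, mul_one, mul_inv_cancel]
    have heq := cj_eq_of_le _ _ hle
    refine ⟨(k * g⁻¹)⁻¹, ?_, ?_⟩
    · have h3 := cj_inv_cj (k * g⁻¹) (S.Om hodd)
      rw [heq] at h3; exact h3
    · rw [Subgroup.mem_centralizer_singleton_iff] at hkH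
      have h3 : k⁻¹ * z₀ * k = z₀ := by rw [mul_assoc, ← hkH, inv_mul_cancel_left]
      rw [hydef]
      calc (k * g⁻¹)⁻¹ * z₀ * (k * g⁻¹)⁻¹⁻¹ = g * (k⁻¹ * z₀ * k) * g⁻¹ := by group
        _ = g * z₀ * g⁻¹ := by rw [h3]
  -- Step 2: the two transvections.
  have ha' := ha
  obtain ⟨a, haP, hap⟩ := ha'
  obtain ⟨u, hudef⟩ : ∃ u, u = ⁅a, y⁆ := ⟨_, rfl⟩
  have huZ : u ∈ Z := by rw [hudef]; exact S.comm a haP y hy
  have hu1 : u ≠ 1 := by
    intro h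
    rw [hudef, commutatorElement_eq_one_iff_commute] at h
    exact hap (S.pow_eq_one_of_commute hodd ha hyΩ hyZ haP h.eq)
  have huΩ : u ∈ S.Om hodd := (S.mem_Om hodd).mpr ⟨S.hZP huZ, S.pow_eq_one_of_mem_Z huZ⟩
  have huy : u * y = y * u := S.Om_comm hodd ha huΩ hyΩ
  have hau : a * u * a⁻¹ = u := by rw [S.central u huZ a haP, mul_inv_cancel_right]
  have hay : a * y * a⁻¹ = u * y := by rw [hudef, commutatorElement_def]; group
  obtain ⟨b, hbdef⟩ : ∃ b, b = g₁ * a * g₁⁻¹ := ⟨_, rfl⟩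
  have haz₀ : a * z₀ = z₀ * a := S.central z₀ hz₀ a haP
  have hby : b * y = y * b := by
    rw [hbdef, ← hg₁z]
    calc g₁ * a * g₁⁻¹ * (g₁ * z₀ * g₁⁻¹) = g₁ * (a * z₀) * g₁⁻¹ := by group
      _ = g₁ * (z₀ * a) * g₁⁻¹ := by rw [haz₀]
      _ = g₁ * z₀ * g₁⁻¹ * (g₁ * a * g₁⁻¹) := by group
  have hby' : Commute b y := hby
  obtain ⟨ω', hω'def⟩ : ∃ ω', ω' = g₁⁻¹ * u * g₁ := ⟨_, rfl⟩
  have hω'Ω : ω' ∈ S.Om hodd := by
    rw [hω'def]
    exact (mem_cj_iff g₁ (S.Om hodd) u).mp (by rw [hg₁Ω]; exact huΩ)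
  have hω'Z : ω' ∉ Z := by
    intro h
    obtain ⟨j, hj⟩ := exists_pow_eq_of_card_prime Z S.cardZ hz₀ hz₀1 h
    have huj : u = y ^ j := by
      rw [← hg₁z, conj_pow, hj, hω'def]; group
    have humem : u ∈ Subgroup.zpowers y := by
      rw [huj]; exact Subgroup.pow_mem _ (Subgroup.mem_zpowers y) j
    obtain ⟨i, hi⟩ := exists_pow_eq_of_card_prime (Subgroup.zpowers y) hyord humem hu1
      (Subgroup.mem_zpowers y)
    apply hyZ
    rw [← hi]; exact Z.pow_mem huZ i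
  obtain ⟨ζ, hζdef⟩ : ∃ ζ, ζ = ⁅a, ω'⁆ := ⟨_, rfl⟩
  have hζZ : ζ ∈ Z := by rw [hζdef]; exact S.comm a haP ω' (S.Om_le hodd hω'Ω)
  have hζ1 : ζ ≠ 1 := by
    intro h
    rw [hζdef, commutatorElement_eq_one_iff_commute] at h
    exact hap (S.pow_eq_one_of_commute hodd ha hω'Ω hω'Z haP h.eq)
  obtain ⟨c, hcdef⟩ : ∃ c, c = g₁ * ζ * g₁⁻¹ := ⟨_, rfl⟩
  have hc1 : c ≠ 1 := by
    intro h; apply hζ1
    rw [hcdef] at h
    have e : ζ = g₁⁻¹ * (g₁ * ζ * g₁⁻¹) * g₁ := by group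
    rw [e, h]; group
  have hcy : c ∈ Subgroup.zpowers y := by
    obtain ⟨β, hβ⟩ := exists_pow_eq_of_card_prime Z S.cardZ hz₀ hz₀1 hζZ
    rw [hcdef, ← hβ, ← conj_pow, hg₁z]
    exact Subgroup.pow_mem _ (Subgroup.mem_zpowers y) β
  have hbu : b * u * b⁻¹ = c * u := by
    rw [hbdef, hcdef, hζdef, hω'def, commutatorElement_def]; group
  have hbc : Commute b c := by
    obtain ⟨k, hk⟩ := Subgroup.mem_zpowers_iff.mp hcy
    rw [← hk]
    exact hby'.zpow_right k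
  obtain ⟨m, hm⟩ := exists_pow_eq_of_card_prime (Subgroup.zpowers y) hyord hcy hc1
    (Subgroup.inv_mem _ (Subgroup.mem_zpowers y))
  have hbm_u : ∀ k : ℕ, b ^ k * u * (b ^ k)⁻¹ = c ^ k * u := by
    intro k
    induction k with
    | zero => simp
    | succ k ih =>
      have hbck : b * c ^ k * b⁻¹ = c ^ k := by
        rw [(hbc.pow_right k).eq, mul_inv_cancel_right]
      calc b ^ (k + 1) * u * (b ^ (k + 1))⁻¹ = b * (b ^ k * u * (b ^ k)⁻¹) * b⁻¹ := by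
            rw [pow_succ']; group
        _ = b * (c ^ k * u) * b⁻¹ := by rw [ih]
        _ = (b * c ^ k * b⁻¹) * (b * u * b⁻¹) := by group
        _ = c ^ k * (c * u) := by rw [hbck, hbu]
        _ = c ^ (k + 1) * u := by rw [pow_succ, mul_assoc]
  obtain ⟨b', hb'def⟩ : ∃ b', b' = b ^ m := ⟨_, rfl⟩
  have hb'u : b' * u * b'⁻¹ = y⁻¹ * u := by rw [hb'def, hbm_u m, hm]
  have hb'y : b' * y * b'⁻¹ = y := by
    rw [hb'def, (hby'.pow_left m).eq, mul_inv_cancel_right]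
  -- Step 3: the element inverting `Ω`.
  obtain ⟨w, hwdef⟩ : ∃ w, w = a * b' * a := ⟨_, rfl⟩
  have hwu : w * u * w⁻¹ = y⁻¹ := by
    have e1 : w * u * w⁻¹ = a * (b' * (a * u * a⁻¹) * b'⁻¹) * a⁻¹ := by rw [hwdef]; group
    have e2 : a * (y⁻¹ * u) * a⁻¹ = (a * y * a⁻¹)⁻¹ * (a * u * a⁻¹) := by group
    rw [e1, hau, hb'u, e2, hay, hau]; group
  have hwy : w * y * w⁻¹ = u := by
    have e1 : w * y * w⁻¹ = a * (b' * (a * y * a⁻¹) * b'⁻¹) * a⁻¹ := by rw [hwdef]; group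
    have e2 : b' * (u * y) * b'⁻¹ = (b' * u * b'⁻¹) * (b' * y * b'⁻¹) := by group
    have e3 : y⁻¹ * u * y = u := by rw [mul_assoc, huy, inv_mul_cancel_left]
    rw [e1, hay, e2, hb'u, hb'y, e3, hau]
  obtain ⟨n, hndef⟩ : ∃ n, n = w * w := ⟨_, rfl⟩
  have hnu : n * u * n⁻¹ = u⁻¹ := by
    have e1 : n * u * n⁻¹ = w * (w * u * w⁻¹) * w⁻¹ := by rw [hndef]; group
    have e2 : w * y⁻¹ * w⁻¹ = (w * y * w⁻¹)⁻¹ := by group
    rw [e1, hwu, e2, hwy]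
  have hny : n * y * n⁻¹ = y⁻¹ := by
    have e1 : n * y * n⁻¹ = w * (w * y * w⁻¹) * w⁻¹ := by rw [hndef]; group
    rw [e1, hwy, hwu]
  have hnZ : ∀ z ∈ Z, n * z * n⁻¹ = z⁻¹ := by
    intro z hz
    obtain ⟨k, hk⟩ := exists_pow_eq_of_card_prime Z S.cardZ huZ hu1 hz
    rw [← hk, ← conj_pow, hnu, inv_pow]
  have hnZ' : ∀ z ∈ Z, n⁻¹ * z * n = z⁻¹ := by
    intro z hz
    have h3 := hnZ z⁻¹ (Z.inv_mem hz)
    rw [inv_inv] at h3
    calc n⁻¹ * z * n = n⁻¹ * (n * z⁻¹ * n⁻¹) * n := by rw [h3]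
      _ = z⁻¹ := by group
  have hny' : n⁻¹ * y * n = y⁻¹ := by
    have e : n * y⁻¹ * n⁻¹ = y := by
      have e' : n * y⁻¹ * n⁻¹ = (n * y * n⁻¹)⁻¹ := by group
      rw [e', hny, inv_inv]
    calc n⁻¹ * y * n = n⁻¹ * (n * y⁻¹ * n⁻¹) * n := by rw [e]
      _ = y⁻¹ := by group
  -- Step 4: both `P` and its conjugate under `n` lie in `Hs Z y`.
  have hPHs : (P : Subgroup G) ≤ Hs Z y := by
    intro x hx
    rw [mem_Hs]
    refine ⟨fun z hz => ?_, ?_⟩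
    · rw [S.central z hz x hx, mul_inv_cancel_right]
    · exact S.comm x hx y hy
  have hnPHs : cj n (P : Subgroup G) ≤ Hs Z y := by
    rintro _ ⟨x, hx, rfl⟩
    simp only [MulEquiv.coe_toMonoidHom, MulAut.conj_apply]
    rw [mem_Hs]
    refine ⟨fun z hz => ?_, ?_⟩
    · have e : n * x * n⁻¹ * z * (n * x * n⁻¹)⁻¹ = n * (x * (n⁻¹ * z * n) * x⁻¹) * n⁻¹ := by
        group
      rw [e, hnZ' z hz, S.central z⁻¹ (Z.inv_mem hz) x hx, mul_inv_cancel_right,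
        hnZ _ (Z.inv_mem hz), inv_inv]
    · have hζ' : ⁅x, y⁻¹⁆ ∈ Z := S.comm x hx y⁻¹ (Subgroup.inv_mem _ hy)
      have e1 : n * x * n⁻¹ * y * (n * x * n⁻¹)⁻¹ * y⁻¹
          = n * (x * (n⁻¹ * y * n) * x⁻¹) * n⁻¹ * y⁻¹ := by group
      have e2 : n * (x * y⁻¹ * x⁻¹) * n⁻¹ * y⁻¹
          = (n * ⁅x, y⁻¹⁆ * n⁻¹) * (n * y * n⁻¹)⁻¹ * y⁻¹ := by
        rw [commutatorElement_def]; group
      rw [e1, hny', e2, hnZ _ hζ', hny, inv_inv, mul_inv_cancel_right]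
      exact Z.inv_mem hζ'
  -- Step 5: Sylow in `Hs Z y`.
  obtain ⟨k, hkHs, hk⟩ := exists_conj_le_sylow_of_le P (Hs Z y) hPHs (cj n (P : Subgroup G))
    (isPGroup_cj n _ P.2) hnPHs
  have hk' : cj (k * n) (P : Subgroup G) ≤ (P : Subgroup G) := by rw [← cj_cj]; exact hk
  obtain ⟨s, hsdef⟩ : ∃ s, s = k * n := ⟨_, rfl⟩
  rw [← hsdef] at hk'
  have hsP : ∀ x ∈ (P : Subgroup G), s * x * s⁻¹ ∈ (P : Subgroup G) := fun x hx =>
    hk' (conj_mem_cj s _ hx)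
  rw [mem_Hs] at hkHs
  obtain ⟨hkZ, hky⟩ := hkHs
  have hsZ : ∀ z ∈ Z, s * z * s⁻¹ = z⁻¹ := by
    intro z hz
    have e : s * z * s⁻¹ = k * (n * z * n⁻¹) * k⁻¹ := by rw [hsdef]; group
    rw [e, hnZ z hz, hkZ _ (Z.inv_mem hz)]
  obtain ⟨y', hy'def⟩ : ∃ y', y' = s * y * s⁻¹ := ⟨_, rfl⟩
  obtain ⟨ζk, hζkdef⟩ : ∃ ζk, ζk = k * y * k⁻¹ * y⁻¹ := ⟨_, rfl⟩
  rw [← hζkdef] at hky
  have hy'eq : y' = y⁻¹ * ζk⁻¹ := by
    have e : y' = k * (n * y * n⁻¹) * k⁻¹ := by rw [hy'def, hsdef]; group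
    rw [e, hny, hζkdef]; group
  -- Step 6: the contradiction.
  have hy'P : y' ∈ (P : Subgroup G) := by rw [hy'def]; exact hsP y hy
  have hy'Ω : y' ∈ S.Om hodd :=
    (S.mem_Om hodd).mpr ⟨hy'P, by rw [hy'def, conj_pow, hyp, mul_one, mul_inv_cancel]⟩
  obtain ⟨a', ha'def⟩ : ∃ a', a' = s * a * s⁻¹ := ⟨_, rfl⟩
  have ha'P : a' ∈ (P : Subgroup G) := by rw [ha'def]; exact hsP a haP
  have ha'p : a' ^ p = (a ^ p)⁻¹ := by rw [ha'def, conj_pow, hsZ _ (S.pow a haP)]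
  have hωΩ : a' * a ∈ S.Om hodd :=
    (S.mem_Om hodd).mpr ⟨Subgroup.mul_mem _ ha'P haP,
      by rw [S.mul_pow hodd ha'P haP, ha'p, inv_mul_cancel]⟩
  obtain ⟨ω, hωdef⟩ : ∃ ω, ω = a' * a := ⟨_, rfl⟩
  rw [← hωdef] at hωΩ
  have ha'eq : a' = ω * a⁻¹ := by rw [hωdef, mul_inv_cancel_right]
  have hsu : s * u * s⁻¹ = ⁅a', y'⁆ := by
    rw [hudef, ha'def, hy'def, commutatorElement_def, commutatorElement_def]; group
  have hainvP : a⁻¹ ∈ (P : Subgroup G) := Subgroup.inv_mem _ haP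
  have h1 : ⁅a', y'⁆ = ⁅a⁻¹, y'⁆ := by
    rw [ha'eq, comm_mul_left_of_commute ω a⁻¹ y'
      (S.central _ (S.comm a⁻¹ hainvP y' hy'P) ω (S.Om_le hodd hωΩ))]
    have h0 : ⁅ω, y'⁆ = 1 :=
      commutatorElement_eq_one_iff_commute.mpr (S.Om_comm hodd ha hωΩ hy'Ω)
    rw [h0, mul_one]
  have h2 : ⁅a⁻¹, y'⁆ = ⁅a, y'⁆⁻¹ :=
    comm_inv_left_of_commute a y' (S.central _ (S.comm a haP y' hy'P) a haP)
  have h3 : ⁅a, y'⁆ = u⁻¹ := by
    have hc0 : ⁅a, ζk⁻¹⁆ = 1 :=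
      commutatorElement_eq_one_iff_commute.mpr (S.central ζk⁻¹ (Z.inv_mem hky) a haP)
    rw [hy'eq, comm_mul_right_of_commute a y⁻¹ ζk⁻¹ (by rw [hc0]; exact Commute.one_right _),
      hc0, mul_one,
      comm_inv_right_of_commute a y (S.central _ (S.comm a haP y hy) y hy), ← hudef]
  have hfin : u⁻¹ = u := by
    rw [← hsZ u huZ, hsu, h1, h2, h3, inv_inv]
  have hu2 : u * u = 1 := by
    nth_rewrite 1 [← hfin]; exact inv_mul_cancel u
  have hup : u ^ p = 1 := S.pow_eq_one_of_mem_Z huZ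
  have hodd' := hodd
  obtain ⟨t, ht⟩ := hodd'
  have hup' : u ^ (2 * t + 1) = u := by
    rw [pow_succ, pow_mul, pow_two, hu2, one_pow, one_mul]
  apply hu1
  rw [← hup', ← ht]; exact hup

/-- Let p be an odd prime and G a finite group with a Sylow p-subgroup P that is extraspecial of order p³ and exponent p². Then the centre of P is strongly closed in P with respect to G: a G-conjugate of an element of Z(P) that lies in P already lies in Z(P). In particular a nontrivial central element of P is conjugate in G to no noncentral element of P. -/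
theorem result {G : Type*} [Group G] [Finite G]
    {p : ℕ} [Fact p.Prime] (hp : p ≠ 2) (P : Sylow p G) (hE : Cfsg.IsExtraspecial p ↥P)
    (hcard : Nat.card P = p ^ 3) (hexp : Monoid.exponent ↥P = p ^ 2) :
    Cfsg.IsStronglyClosed ((Subgroup.center ↥P).map (P : Subgroup G).subtype) (P : Subgroup G) := by
  obtain ⟨⟨hPg, hΦ, hD⟩, hcz⟩ := hE
  have hpp : p.Prime := Fact.out
  have hS : Setup p (P : Subgroup G) ((Subgroup.center ↥P).map (P : Subgroup G).subtype) := by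
    refine ⟨Subgroup.map_subtype_le _, ?_, ?_, ?_, ?_, ?_, hcard⟩
    · rintro _ ⟨z, hz, rfl⟩ x hx
      have h := (Subgroup.mem_center_iff.mp hz) ⟨x, hx⟩
      exact congrArg Subtype.val h
    · intro x hx hall
      have h : (⟨x, hx⟩ : ↥P) ∈ Subgroup.center ↥P :=
        Subgroup.mem_center_iff.mpr (fun g => Subtype.ext (hall g g.2))
      exact ⟨⟨x, hx⟩, h, rfl⟩
    · intro x hx x' hx'
      have h : ⁅(⟨x, hx⟩ : ↥P), ⟨x', hx'⟩⁆ ∈ commutator ↥P :=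
        Subgroup.commutator_mem_commutator (Subgroup.mem_top _) (Subgroup.mem_top _)
      rw [hD] at h
      exact ⟨_, h, rfl⟩
    · intro x hx
      have h := Cfsg.Agent.Lib.Helper1.IsPGroup.pow_mem_frattini hPg (⟨x, hx⟩ : ↥P)
      rw [hΦ] at h
      exact ⟨_, h, rfl⟩
    · rw [Subgroup.card_map_of_injective (Subgroup.subtype_injective _)]; exact hcz
  have ha : ∃ a ∈ (P : Subgroup G), a ^ p ≠ 1 := by
    by_contra hne
    push Not at hne
    have hdvd : Monoid.exponent ↥P ∣ p :=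
      Monoid.exponent_dvd_of_forall_pow_eq_one (fun g => Subtype.ext (hne g g.2))
    rw [hexp] at hdvd
    have hle : p ^ 2 ≤ p := Nat.le_of_dvd hpp.pos hdvd
    nlinarith [hpp.two_le]
  exact ⟨hS.hZP, fun x hx g hg => Setup.strongly_closed hp P hS ha hx g hg⟩

end Cfsg.Agent.S3053
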