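import Cfsg.Statements.S3054
import Cfsg.Agent.Lib.Helper18.RVGroup

set_option autoImplicit false
open Cfsg

namespace Cfsg.Agent.S3054

open Matrix
open Cfsg.Agent.Lib.Helper18
open Cfsg.Agent.Lib.Helper18.RVGroup
open Cfsg.Agent.Lib.Helper11.Cube
open Cfsg.Agent.Lib.Helper27 (coordHom coordHom_apply coordHom_bijective rhoOf rhoOf_apply
  rhoOf_injective T10_mulVec transvection_nsmul)

/-- the centralizer in `P` of a noncentral element of an abelian subgroup `A` of order `p ^ 2`
is `A`. -/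
theorem centralizer_eq {G : Type*} [Group G] [Finite G] {p : ℕ} [Fact p.Prime]
    {Pg : Subgroup G} (hC : CubeData p Pg) (A : Subgroup G) (hAP : A ≤ Pg)
    (hAcard : Nat.card A = p ^ 2) (x : G) (hxA : x ∈ A) (hxZ : x ∉ cen Pg) :
    Pg ⊓ Subgroup.centralizer {x} = A := by
  have hpp : p.Prime := Fact.out
  have hcomm : ∀ u v : ↥A, u * v = v * u :=
    (IsPGroup.isMulCommutative_of_card_eq_prime_sq hAcard).is_comm.comm
  have hle : A ≤ Pg ⊓ Subgroup.centralizer {x} := by
    intro y hy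
    refine Subgroup.mem_inf.mpr ⟨hAP hy, ?_⟩
    rw [Subgroup.mem_centralizer_singleton_iff]
    exact congrArg Subtype.val (hcomm ⟨y, hy⟩ ⟨x, hxA⟩)
  symm
  apply Subgroup.eq_of_le_of_card_ge hle
  have hne : Pg ⊓ Subgroup.centralizer {x} ≠ Pg := by
    intro h
    apply hxZ
    rw [mem_cen]
    refine ⟨hAP hxA, fun y hy => ?_⟩
    have h1 : y ∈ Pg ⊓ Subgroup.centralizer {x} := by rw [h]; exact hy
    exact Subgroup.mem_centralizer_singleton_iff.mp (Subgroup.mem_inf.mp h1).2
  have hlt : Pg ⊓ Subgroup.centralizer {x} < Pg := lt_of_le_of_ne inf_le_left hne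
  have hcardlt := card_lt_of_lt hlt
  rw [hC.card] at hcardlt
  have hdvd : Nat.card ↥(Pg ⊓ Subgroup.centralizer {x}) ∣ p ^ 3 := by
    rw [← hC.card]; exact Subgroup.card_dvd_of_le inf_le_left
  obtain ⟨k, hk, hkc⟩ := (Nat.dvd_prime_pow hpp).mp hdvd
  rw [hkc] at hcardlt ⊢
  have hk3 : k < 3 := (Nat.pow_lt_pow_iff_right hpp.one_lt).mp hcardlt
  rw [hAcard]
  exact Nat.pow_le_pow_right hpp.pos (by omega)

/-- the transvection `e1 ↦ e1 * e2`, `e2 ↦ e2` of an elementary abelian group of rank `2`. -/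
theorem exists_induced {A : Type*} [Group A] [Finite A] {p : ℕ} [Fact p.Prime]
    (hcard : Nat.card A = p ^ 2) (hexp : ∀ x : A, x ^ p = 1) (e1 e2 : A) (he1 : e1 ≠ 1)
    (he2 : e2 ∉ Subgroup.zpowers e1) :
    ∃ φ : MulAut A, orderOf φ = p ∧ φ e1 = e1 * e2 ∧ φ e2 = e2 := by
  have hpp : p.Prime := Fact.out
  haveI : Fact (1 < p) := ⟨hpp.one_lt⟩
  have hcomm : ∀ u v : A, u * v = v * u :=
    (IsPGroup.isMulCommutative_of_card_eq_prime_sq hcard).is_comm.comm
  have hbij := coordHom_bijective hcomm hexp hcard e1 e2 (Subgroup.zpowers e1)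
    (Subgroup.mem_zpowers e1) he1 he2
  obtain ⟨ψ, hψ⟩ : ∃ ψ : Multiplicative (Fin 2 → ZMod p) ≃* A,
      ∀ v, ψ (Multiplicative.ofAdd v) = e1 ^ (v 0).val * e2 ^ (v 1).val :=
    ⟨MulEquiv.ofBijective (coordHom hcomm hexp e1 e2) hbij, fun v => coordHom_apply hcomm hexp e1 e2 v⟩
  obtain ⟨T, hT⟩ : ∃ T : SpecialLinearGroup (Fin 2) (ZMod p),
      T = SpecialLinearGroup.transvection (show (1 : Fin 2) ≠ 0 by decide) 1 := ⟨_, rfl⟩
  have hTv : ∀ v : Fin 2 → ZMod p, T.1 *ᵥ v = ![v 0, 1 * v 0 + v 1] := by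
    intro v; rw [hT]; exact T10_mulVec 1 v
  have hTp : T ^ p = 1 := by
    rw [hT, ← transvection_nsmul, nsmul_one, ZMod.natCast_self,
      SpecialLinearGroup.transvection_coeff_zero]
  have hT1 : T ≠ 1 := by
    intro h
    have h2 := hTv ![1, 0]
    rw [h] at h2
    have h3 := congrFun h2 1
    simp at h3
  have hord : orderOf (rhoOf ψ T) = p := by
    rw [orderOf_injective (rhoOf ψ) (rhoOf_injective ψ) T]
    exact orderOf_eq_prime hTp hT1
  have h1 : ψ (Multiplicative.ofAdd ![1, 0]) = e1 := by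
    rw [hψ]; simp [ZMod.val_one]
  have h2 : ψ (Multiplicative.ofAdd ![0, 1]) = e2 := by
    rw [hψ]; simp [ZMod.val_one]
  have h3 : ψ (Multiplicative.ofAdd ![1, 1]) = e1 * e2 := by
    rw [hψ]; simp [ZMod.val_one]
  refine ⟨rhoOf ψ T, hord, ?_, ?_⟩
  · conv_lhs => rw [← h1]
    rw [rhoOf_apply, hTv, ← h3]
    congr 2
    simp
  · conv_lhs => rw [← h2]
    rw [rhoOf_apply, hTv]
    conv_rhs => rw [← h2]
    congr 2
    simp

/-- Let p be an odd prime and G a finite group with a Sylow p-subgroup P that is extraspecial of order p³ and exponent p. Suppose P contains three distinct subgroups A of order p² (each is elementary abelian of rank 2) such that every automorphism of A of order p is induced by conjugation by an element of G; equivalently the automorphism group induced on A by its normalizer contains the special linear group of A. Then p ≤ 13. -/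
theorem result {G : Type*} [Group G] [Finite G]
    {p : ℕ} [Fact p.Prime] (hp : p ≠ 2) (P : Sylow p G) (hE : Cfsg.IsExtraspecial p ↥P)
    (hcard : Nat.card P = p ^ 3) (hexp : Monoid.exponent ↥P = p)
    (A : Fin 3 → Subgroup G) (hA : Function.Injective A) (hAP : ∀ i, A i ≤ (P : Subgroup G))
    (hAcard : ∀ i, Nat.card ↥(A i) = p ^ 2)
    (hSL : ∀ i, ∀ φ : MulAut ↥(A i), orderOf φ = p → ∃ g : G, ∀ a : ↥(A i), (φ a : G) = g * (a : G) * g⁻¹) :
    p ≤ 13 := by
  classical
  by_contra hcon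
  have h13 : 13 < p := by omega
  have hpp : p.Prime := Fact.out
  have hna : ¬ IsMulCommutative ↥(P : Subgroup G) := by
    intro hab
    have h1 : Subgroup.center ↥(P : Subgroup G) = ⊤ := by
      rw [eq_top_iff]
      intro x _
      rw [Subgroup.mem_center_iff]
      intro g
      exact hab.is_comm.comm g x
    have h2 : Nat.card (Subgroup.center ↥(P : Subgroup G)) = p := hE.2
    rw [h1, Subgroup.card_top] at h2
    have h3 : Nat.card ↥(P : Subgroup G) = p ^ 3 := hcard
    rw [h3] at h2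
    have h4 : p ^ 3 = p ^ 1 := by rw [h2, pow_one]
    exact absurd (Nat.pow_right_injective hpp.two_le h4) (by norm_num)
  have hC : CubeData p (P : Subgroup G) := cubeData_of hcard hna hexp
  have hZne : cen (P : Subgroup G) ≠ ⊥ := by
    intro h
    have h1 := hC.cardZ
    rw [h, Subgroup.card_bot] at h1
    exact hpp.one_lt.ne h1
  obtain ⟨⟨z, hz⟩, hz1'⟩ := Subgroup.ne_bot_iff_exists_ne_one.mp hZne
  have hz1 : z ≠ 1 := fun h => hz1' (Subtype.ext h)
  have hex : ∀ i, ∃ x ∈ A i, x ∉ cen (P : Subgroup G) := by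
    intro i
    by_contra hno
    push Not at hno
    have hle : A i ≤ cen (P : Subgroup G) := hno
    have h1 := Subgroup.card_le_of_le hle
    rw [hAcard, hC.cardZ] at h1
    nlinarith [hpp.two_le]
  choose a haA haZ using hex
  have hcent : ∀ i, (P : Subgroup G) ⊓ Subgroup.centralizer {a i} = A i := fun i =>
    centralizer_eq hC (A i) (hAP i) (hAcard i) (a i) (haA i) (haZ i)
  have hZA : ∀ i, cen (P : Subgroup G) ≤ A i := by
    intro i w hw
    rw [← hcent i]
    refine Subgroup.mem_inf.mpr ⟨cen_le _ hw, ?_⟩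
    rw [Subgroup.mem_centralizer_singleton_iff]
    exact ((mem_cen.mp hw).2 (a i) (hAP i (haA i))).symm
  have hanc : ∀ i j, i ≠ j → a i * a j ≠ a j * a i := by
    intro i j hij h
    have h1 : a j ∈ A i := by
      rw [← hcent i]
      exact Subgroup.mem_inf.mpr ⟨hAP j (haA j), Subgroup.mem_centralizer_singleton_iff.mpr h.symm⟩
    have hcomm : ∀ u v : ↥(A i), u * v = v * u :=
      (IsPGroup.isMulCommutative_of_card_eq_prime_sq (hAcard i)).is_comm.comm
    have h2 : A i ≤ A j := by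
      intro y hy
      rw [← hcent j]
      refine Subgroup.mem_inf.mpr ⟨hAP i hy, Subgroup.mem_centralizer_singleton_iff.mpr ?_⟩
      exact congrArg Subtype.val (hcomm ⟨y, hy⟩ ⟨a j, h1⟩)
    have h3 : A i = A j := Subgroup.eq_of_le_of_card_ge h2 (by rw [hAcard, hAcard])
    exact hij (hA h3)
  have hH : ∀ i, ∃ g : G, g * a i * g⁻¹ = a i ∧ g * z * g⁻¹ = z * a i := by
    intro i
    have hexp' : ∀ u : ↥(A i), u ^ p = 1 := fun u => by
      apply Subtype.ext
      rw [Subgroup.coe_pow]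
      exact hC.exp u (hAP i u.2)
    have he1 : (⟨z, hZA i hz⟩ : ↥(A i)) ≠ 1 := fun h => hz1 (congrArg Subtype.val h)
    have he2 : (⟨a i, haA i⟩ : ↥(A i)) ∉ Subgroup.zpowers (⟨z, hZA i hz⟩ : ↥(A i)) := by
      intro h
      obtain ⟨k, hk⟩ := Subgroup.mem_zpowers_iff.mp h
      apply haZ i
      have h1 : z ^ k = a i := by
        have := congrArg Subtype.val hk
        simpa using this
      rw [← h1]
      exact Subgroup.zpow_mem _ hz k
    obtain ⟨φ, hord, h1, h2⟩ := exists_induced (hAcard i) hexp' _ _ he1 he2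
    obtain ⟨g, hg⟩ := hSL i φ hord
    refine ⟨g, ?_, ?_⟩
    · have h3 := hg ⟨a i, haA i⟩
      rw [h2] at h3
      exact h3.symm
    · have h3 := hg ⟨z, hZA i hz⟩
      rw [h1] at h3
      exact h3.symm
  exact group_bound hp P hC z hz hz1 3 a (fun i => hAP i (haA i)) hanc hH (Or.inl ⟨rfl, h13⟩)

end Cfsg.Agent.S3054
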