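import Cfsg.Statements.S3055
import Cfsg.Agent.Lib.Helper18.RVGroup

set_option autoImplicit false
open Cfsg

namespace Cfsg.Agent.S3055

open Cfsg.Agent.Lib.Helper18
open Cfsg.Agent.Lib.Helper18.RVGroup
open Cfsg.Agent.Lib.Helper11.Cube

section aux
variable {G : Type*} [Group G] [Finite G] {p : ℕ} [Fact p.Prime]

/-- a conjugating element `z ↦ a` can be chosen so that `z` is pulled back into `P`. -/
theorem exists_g1 (P : Sylow p G) (hC : CubeData p (P : Subgroup G)) {z a : G}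
    (hz : z ∈ cen (P : Subgroup G)) (ha : a ∈ (P : Subgroup G))
    (g₀ : G) (hg₀ : g₀ * z * g₀⁻¹ = a) :
    ∃ g₁ : G, g₁ * z * g₁⁻¹ = a ∧ g₁⁻¹ * z * g₁ ∈ (P : Subgroup G) := by
  have hzc : ∀ b ∈ (P : Subgroup G), b * z = z * b := (mem_cen.mp hz).2
  have hzP : z ∈ (P : Subgroup G) := cen_le _ hz
  have hzp : z ^ p = 1 := hC.exp z hzP
  have hza : z * a = a * z := (hzc a ha).symm
  have hPle : (P : Subgroup G) ≤ Subgroup.centralizer {z} := fun b hb =>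
    Subgroup.mem_centralizer_singleton_iff.mpr (hzc b hb)
  obtain ⟨w, hw⟩ : ∃ w, w = g₀⁻¹ * z * g₀ := ⟨_, rfl⟩
  have hwz : w * z = z * w := by
    have h1 : g₀ * (w * z) * g₀⁻¹ = g₀ * (z * w) * g₀⁻¹ := by
      have e1 : g₀ * (w * z) * g₀⁻¹ = z * (g₀ * z * g₀⁻¹) := by rw [hw]; group
      have e2 : g₀ * (z * w) * g₀⁻¹ = (g₀ * z * g₀⁻¹) * z := by rw [hw]; group
      rw [e1, e2, hg₀, hza]
    exact mul_left_cancel (mul_right_cancel h1)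
  have hQle : Subgroup.zpowers w ≤ Subgroup.centralizer {z} :=
    Subgroup.zpowers_le.mpr (Subgroup.mem_centralizer_singleton_iff.mpr hwz)
  have hwp : w ^ p = 1 := by
    have h1 : w = g₀⁻¹ * z * g₀⁻¹⁻¹ := by rw [hw, inv_inv]
    rw [h1, conj_pow, hzp, mul_one, mul_inv_cancel]
  have hpg : IsPGroup p (Subgroup.zpowers w) := by
    rintro ⟨x, hx⟩
    obtain ⟨j, rfl⟩ := Subgroup.mem_zpowers_iff.mp hx
    refine ⟨1, Subtype.ext ?_⟩
    rw [pow_one, Subgroup.coe_pow, Subgroup.coe_one, ← zpow_natCast, ← zpow_mul, mul_comm, zpow_mul,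
      zpow_natCast, hwp, one_zpow]
  obtain ⟨k, hkC, hk⟩ := exists_conj_le_sylow_of_le P _ hPle (Subgroup.zpowers w) hpg hQle
  have hkz : k * z = z * k := Subgroup.mem_centralizer_singleton_iff.mp hkC
  have hz₁P : k * w * k⁻¹ ∈ (P : Subgroup G) := hk (conj_mem_cj k _ (Subgroup.mem_zpowers w))
  refine ⟨g₀ * k⁻¹, ?_, ?_⟩
  · have e : g₀ * k⁻¹ * z * (g₀ * k⁻¹)⁻¹ = g₀ * (k⁻¹ * z * k) * g₀⁻¹ := by group
    have e2 : k⁻¹ * z * k = z := by rw [mul_assoc, ← hkz, inv_mul_cancel_left]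
    rw [e, e2, hg₀]
  · have e : (g₀ * k⁻¹)⁻¹ * z * (g₀ * k⁻¹) = k * (g₀⁻¹ * z * g₀) * k⁻¹ := by group
    rw [e, ← hw]
    exact hz₁P

/-- the lower transvection on `⟨z, a⟩` is induced when `z` and `a` are conjugate. -/
theorem exists_lower (P : Sylow p G) (hC : CubeData p (P : Subgroup G)) {z a : G}
    (hz : z ∈ cen (P : Subgroup G)) (hz1 : z ≠ 1) (ha : a ∈ (P : Subgroup G))
    (haZ : a ∉ cen (P : Subgroup G)) (g₀ : G) (hg₀ : g₀ * z * g₀⁻¹ = a) :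
    ∃ h : G, h * a * h⁻¹ = a ∧ h * z * h⁻¹ = z * a := by
  have hzc : ∀ b ∈ (P : Subgroup G), b * z = z * b := (mem_cen.mp hz).2
  have hzP : z ∈ (P : Subgroup G) := cen_le _ hz
  have hzp : z ^ p = 1 := hC.exp z hzP
  obtain ⟨g₁, hg₁, hz₁P'⟩ := exists_g1 P hC hz ha g₀ hg₀
  obtain ⟨z₁, hz₁⟩ : ∃ z₁, z₁ = g₁⁻¹ * z * g₁ := ⟨_, rfl⟩
  rw [← hz₁] at hz₁P'
  have F1 : g₁ * z₁ * g₁⁻¹ = z := by rw [hz₁]; group
  have hz₁Z : z₁ ∉ cen (P : Subgroup G) := by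
    intro h
    rw [hC.cen_eq_zpowers hz hz1] at h
    obtain ⟨j, hj⟩ := Subgroup.mem_zpowers_iff.mp h
    have e3 : z = a ^ j := by rw [← F1, ← hj, ← conj_zpow, hg₁]
    apply haZ
    have hordz : orderOf z = p := orderOf_eq_prime hzp hz1
    have ha1 : a ≠ 1 := by
      rintro rfl
      exact haZ (Subgroup.one_mem _)
    have horda : orderOf a = p := orderOf_eq_prime (hC.exp a ha) ha1
    have hle : Subgroup.zpowers z ≤ Subgroup.zpowers a := by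
      rw [Subgroup.zpowers_le, e3]
      exact Subgroup.zpow_mem _ (Subgroup.mem_zpowers a) j
    have heq : Subgroup.zpowers z = Subgroup.zpowers a :=
      Subgroup.eq_of_le_of_card_ge hle
        (by rw [Nat.card_zpowers, Nat.card_zpowers, hordz, horda])
    rw [hC.cen_eq_zpowers hz hz1, heq]
    exact Subgroup.mem_zpowers a
  obtain ⟨g, hgP, hg⟩ := hC.exists_conj_mul hz₁P' hz₁Z hz
  have F4 : g⁻¹ * z * g = z := by
    rw [mul_assoc, ← hzc g hgP, inv_mul_cancel_left]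
  refine ⟨g₁ * g⁻¹ * g₁⁻¹, ?_, ?_⟩
  · have e : g₁ * g⁻¹ * g₁⁻¹ * a * (g₁ * g⁻¹ * g₁⁻¹)⁻¹ =
        g₁ * (g⁻¹ * (g₁⁻¹ * a * g₁) * g) * g₁⁻¹ := by group
    have e2 : g₁⁻¹ * a * g₁ = z := by rw [← hg₁]; group
    rw [e, e2, F4, hg₁]
  · have e : g₁ * g⁻¹ * g₁⁻¹ * z * (g₁ * g⁻¹ * g₁⁻¹)⁻¹ =
        g₁ * (g⁻¹ * (g₁⁻¹ * z * g₁) * g) * g₁⁻¹ := by group
    rw [e, ← hz₁, hg]
    have e3 : g₁ * (z₁ * z) * g₁⁻¹ = (g₁ * z₁ * g₁⁻¹) * (g₁ * z * g₁⁻¹) := by group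
    rw [e3, F1, hg₁]

omit [Finite G] in
theorem noncomm_aux (hpp : p.Prime) (a₀ b₀ : G) (hab : a₀ * b₀ ≠ b₀ * a₀) (hb : b₀ ^ p = 1)
    [Finite G] (s t : ℕ) (hst : s < t) (ht : t < p) :
    a₀ * b₀ ^ s * (a₀ * b₀ ^ t) ≠ a₀ * b₀ ^ t * (a₀ * b₀ ^ s) := by
  intro h
  obtain ⟨d, hd⟩ : ∃ d, t = s + d := ⟨t - s, by omega⟩
  have hd0 : 0 < d := by omega
  have hdp : d < p := by omega
  have hy : a₀ * b₀ ^ t = (a₀ * b₀ ^ s) * b₀ ^ d := by rw [hd, pow_add, mul_assoc]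
  rw [hy] at h
  have h1 : (a₀ * b₀ ^ s) * b₀ ^ d = b₀ ^ d * (a₀ * b₀ ^ s) := by
    apply mul_left_cancel (a := a₀ * b₀ ^ s)
    rw [h, mul_assoc]
  have hc1 : Commute (b₀ ^ d) (a₀ * b₀ ^ s) := h1.symm
  have hc2 : Commute (b₀ ^ d) (b₀ ^ s) := Commute.pow_pow_self b₀ d s
  have hc3 : Commute (b₀ ^ d) a₀ := by
    have h2 : a₀ = (a₀ * b₀ ^ s) * (b₀ ^ s)⁻¹ := by group
    rw [h2]
    exact hc1.mul_right hc2.inv_right
  have hb1 : b₀ ≠ 1 := by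
    rintro rfl
    exact hab (by rw [mul_one, one_mul])
  have hord : orderOf b₀ = p := orderOf_eq_prime hb hb1
  have hcop : (orderOf b₀).Coprime d := by
    rw [hord, Nat.Prime.coprime_iff_not_dvd hpp]
    exact Nat.not_dvd_of_pos_of_lt hd0 hdp
  have hc4 : Commute a₀ b₀ := commute_of_commute_pow_coprime a₀ b₀ d hcop hc3.symm
  exact hab hc4.eq

end aux

/-- Let p be an odd prime and G a finite group with a Sylow p-subgroup P that is extraspecial of order p³ and exponent p. If all nonidentity elements of P are conjugate in G, then p ≤ 7. -/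
theorem result {G : Type*} [Group G] [Finite G]
    {p : ℕ} [Fact p.Prime] (hp : p ≠ 2) (P : Sylow p G) (hE : Cfsg.IsExtraspecial p ↥P)
    (hcard : Nat.card P = p ^ 3) (hexp : Monoid.exponent ↥P = p)
    (hconj : ∀ x y : ↥P, x ≠ 1 → y ≠ 1 → ∃ g : G, g * (x : G) * g⁻¹ = (y : G)) :
    p ≤ 7 := by
  classical
  by_contra hcon
  have h7 : 7 < p := by omega
  have hpp : p.Prime := Fact.out
  have hna : ¬ IsMulCommutative ↥(P : Subgroup G) := by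
    intro hab
    have h1 : Subgroup.center ↥(P : Subgroup G) = ⊤ := by
      rw [eq_top_iff]
      intro x _
      rw [Subgroup.mem_center_iff]
      intro g
      exact hab.is_comm.comm g x
    have h2 : Nat.card (Subgroup.center ↥(P : Subgroup G)) = p := hE.2
    rw [h1, Subgroup.card_top] at h2
    have h3 : Nat.card ↥(P : Subgroup G) = p ^ 3 := hcard
    rw [h3] at h2
    have h4 : p ^ 3 = p ^ 1 := by rw [h2, pow_one]
    exact absurd (Nat.pow_right_injective hpp.two_le h4) (by norm_num)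
  have hC : CubeData p (P : Subgroup G) := cubeData_of hcard hna hexp
  have hZne : cen (P : Subgroup G) ≠ ⊥ := by
    intro h
    have h1 := hC.cardZ
    rw [h, Subgroup.card_bot] at h1
    exact hpp.one_lt.ne h1
  obtain ⟨⟨z, hz⟩, hz1'⟩ := Subgroup.ne_bot_iff_exists_ne_one.mp hZne
  have hz1 : z ≠ 1 := fun h => hz1' (Subtype.ext h)
  have hzP : z ∈ (P : Subgroup G) := cen_le _ hz
  obtain ⟨a₀, b₀, hab'⟩ : ∃ a₀ b₀ : ↥(P : Subgroup G), a₀ * b₀ ≠ b₀ * a₀ := by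
    by_contra hno
    push Not at hno
    exact hna ⟨⟨hno⟩⟩
  have hab : (a₀ : G) * (b₀ : G) ≠ (b₀ : G) * (a₀ : G) := fun h => hab' (Subtype.ext h)
  have hb : (b₀ : G) ^ p = 1 := hC.exp _ b₀.2
  have haP : ∀ t : Fin 7, (a₀ : G) * (b₀ : G) ^ (t : ℕ) ∈ (P : Subgroup G) := fun t =>
    Subgroup.mul_mem _ a₀.2 (Subgroup.pow_mem _ b₀.2 _)
  have hanc : ∀ s t : Fin 7, s ≠ t →
      (a₀ : G) * (b₀ : G) ^ (s : ℕ) * ((a₀ : G) * (b₀ : G) ^ (t : ℕ)) ≠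
        (a₀ : G) * (b₀ : G) ^ (t : ℕ) * ((a₀ : G) * (b₀ : G) ^ (s : ℕ)) := by
    intro s t hst
    have hs := s.2
    have ht := t.2
    rcases Nat.lt_or_gt_of_ne (fun h => hst (Fin.ext h)) with h | h
    · exact noncomm_aux hpp _ _ hab hb _ _ h (by omega)
    · exact fun h' => noncomm_aux hpp _ _ hab hb _ _ h (by omega) h'.symm
  have haZ : ∀ t : Fin 7, (a₀ : G) * (b₀ : G) ^ (t : ℕ) ∉ cen (P : Subgroup G) := by
    intro t ht
    obtain ⟨s, hs⟩ : ∃ s : Fin 7, t ≠ s := by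
      by_cases h0 : t = 0
      · exact ⟨1, by rw [h0]; decide⟩
      · exact ⟨0, h0⟩
    exact hanc t s hs ((mem_cen.mp ht).2 _ (haP s)).symm
  have hH : ∀ t : Fin 7, ∃ g : G,
      g * ((a₀ : G) * (b₀ : G) ^ (t : ℕ)) * g⁻¹ = (a₀ : G) * (b₀ : G) ^ (t : ℕ) ∧
      g * z * g⁻¹ = z * ((a₀ : G) * (b₀ : G) ^ (t : ℕ)) := by
    intro t
    have hat1 : (⟨(a₀ : G) * (b₀ : G) ^ (t : ℕ), haP t⟩ : ↥P) ≠ 1 := by
      intro h
      apply haZ t
      have h1 : (a₀ : G) * (b₀ : G) ^ (t : ℕ) = 1 := congrArg Subtype.val h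
      rw [h1]
      exact Subgroup.one_mem _
    have hz1P : (⟨z, hzP⟩ : ↥P) ≠ 1 := fun h => hz1 (congrArg Subtype.val h)
    obtain ⟨g₀, hg₀⟩ := hconj ⟨z, hzP⟩ ⟨_, haP t⟩ hz1P hat1
    exact exists_lower P hC hz hz1 (haP t) (haZ t) g₀ hg₀
  exact group_bound hp P hC z hz hz1 7 (fun t => (a₀ : G) * (b₀ : G) ^ (t : ℕ)) haP hanc hH
    (Or.inr ⟨rfl, h7⟩)

end Cfsg.Agent.S3055
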