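import Cfsg.Statements.S3056
import Mathlib.Logic.Relation
import Cfsg.Agent.Lib.Helper18.Conj
import Cfsg.Agent.Lib.Helper18.Basic
import Cfsg.Agent.Lib.Helper17.StrongPEmb2

set_option autoImplicit false
open Cfsg
open Cfsg.Agent.Lib.Helper18

namespace Cfsg.Agent.S3056

section aux
variable {G : Type*} [Group G] {p : ℕ}

/-- Adjacency of Sylow subgroups. -/
def Adj (R R' : Sylow p G) : Prop := R ≠ R' ∧ (R : Subgroup G) ⊓ (R' : Subgroup G) ≠ ⊥

/-- Connectedness. -/
abbrev Conn (R R' : Sylow p G) : Prop := Relation.ReflTransGen Adj R R'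

theorem Adj.symm' {R R' : Sylow p G} (h : Adj R R') : Adj R' R :=
  ⟨h.1.symm, by rw [inf_comm]; exact h.2⟩

theorem Conn.symm' {R R' : Sylow p G} (h : Conn R R') : Conn R' R := by
  induction h with
  | refl => exact Relation.ReflTransGen.refl
  | tail _ hbc ih => exact Relation.ReflTransGen.head (Adj.symm' hbc) ih

theorem Adj.smul {R R' : Sylow p G} (g : G) (h : Adj R R') : Adj (g • R) (g • R') := by
  refine ⟨fun e => h.1 (MulAction.injective g e), ?_⟩
  intro hbot
  apply h.2
  rw [Subgroup.eq_bot_iff_forall]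
  rintro x ⟨hx1, hx2⟩
  have e : g⁻¹ * (g * x * g⁻¹) * g = x := by group
  have hx : g * x * g⁻¹ ∈ ((g • R : Sylow p G) : Subgroup G) ⊓ ((g • R' : Sylow p G) : Subgroup G) :=
    ⟨Cfsg.Agent.Lib.Helper17.mem_smul_sylow.mpr (by rw [e]; exact hx1),
      Cfsg.Agent.Lib.Helper17.mem_smul_sylow.mpr (by rw [e]; exact hx2)⟩
  rw [hbot, Subgroup.mem_bot] at hx
  have e : x = g⁻¹ * (g * x * g⁻¹) * g := by group
  rw [e, hx]; group

theorem Conn.smul {R R' : Sylow p G} (g : G) (h : Conn R R') : Conn (g • R) (g • R') := by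
  induction h with
  | refl => exact Relation.ReflTransGen.refl
  | tail _ hbc ih => exact Relation.ReflTransGen.tail ih (Adj.smul g hbc)

/-- A chain yields connectedness. -/
theorem conn_of_chain (n : ℕ) (c : Fin (n + 1) → Sylow p G)
    (h : ∀ i : Fin n, c i.castSucc ≠ c i.succ ∧
      (c i.castSucc : Subgroup G) ⊓ (c i.succ : Subgroup G) ≠ ⊥) :
    ∀ i : Fin (n + 1), Conn (c 0) (c i) := by
  intro i
  induction i using Fin.induction with
  | zero => exact Relation.ReflTransGen.refl
  | succ i ih => exact Relation.ReflTransGen.tail ih (h i)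

/-- Connectedness yields a chain. -/
theorem chain_of_conn {S T : Sylow p G} (h : Conn S T) :
    ∃ (n : ℕ) (c : Fin (n + 1) → Sylow p G), c 0 = S ∧ c (Fin.last n) = T ∧
      ∀ i : Fin n, c i.castSucc ≠ c i.succ ∧
        (c i.castSucc : Subgroup G) ⊓ (c i.succ : Subgroup G) ≠ ⊥ := by
  induction h with
  | refl => exact ⟨0, fun _ => S, rfl, rfl, fun i => i.elim0⟩
  | @tail U T' _ hUT ih =>
    obtain ⟨n, c, h0, hl, hc⟩ := ih
    refine ⟨n + 1, Fin.snoc (α := fun _ => Sylow p G) c T', ?_, ?_, ?_⟩
    · have : (0 : Fin (n + 2)) = Fin.castSucc (0 : Fin (n + 1)) := rfl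
      rw [this, Fin.snoc_castSucc]; exact h0
    · exact Fin.snoc_last (α := fun _ => Sylow p G) _ _
    · intro i
      induction i using Fin.lastCases with
      | last =>
        have e1 : Fin.snoc (α := fun _ => Sylow p G) c T' (Fin.last n).castSucc = U := by
          rw [Fin.snoc_castSucc]; exact hl
        have e2 : Fin.snoc (α := fun _ => Sylow p G) c T' (Fin.last n).succ = T' := by
          rw [Fin.succ_last]; exact Fin.snoc_last (α := fun _ => Sylow p G) _ _
        rw [e1, e2]
        exact hUT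
      | cast j =>
        have e1 : Fin.snoc (α := fun _ => Sylow p G) c T' j.castSucc.castSucc = c j.castSucc := by
          rw [Fin.snoc_castSucc]
        have e2 : Fin.snoc (α := fun _ => Sylow p G) c T' j.castSucc.succ = c j.succ := by
          rw [Fin.succ_castSucc, Fin.snoc_castSucc]
        rw [e1, e2]
        exact hc j

theorem chainConnected_iff : Cfsg.IsSylowChainConnected p G ↔ ∀ S T : Sylow p G, Conn S T := by
  constructor
  · intro h S T
    obtain ⟨n, c, h0, hl, -, hc⟩ := h S T
    have := conn_of_chain n c hc (Fin.last n)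
    rwa [h0, hl] at this
  · intro h S T
    by_cases hST : (S : Subgroup G) ⊓ (T : Subgroup G) = ⊥
    · obtain ⟨n, c, h0, hl, hc⟩ := chain_of_conn (h S T)
      refine ⟨n, c, h0, hl, ?_, hc⟩
      intro i
      rw [hST]
      exact bot_le
    · by_cases hne : S = T
      · subst hne
        exact ⟨0, fun _ => S, rfl, rfl, fun _ => inf_le_left, fun i => i.elim0⟩
      · refine ⟨1, ![S, T], rfl, rfl, ?_, ?_⟩
        · intro i
          fin_cases i
          · exact inf_le_left
          · exact inf_le_right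
        · intro i
          fin_cases i
          exact ⟨hne, hST⟩

/-- The classical condition makes `H` contain the normalizers of its nontrivial `p`-subgroups. -/
theorem pNormControl_of_classical [Finite G] [Fact p.Prime] (H : Subgroup G)
    (hse : ∀ g : G, g ∉ H → ¬ p ∣ Nat.card ↥(H ⊓ H.map (MulAut.conj g).toMonoidHom)) :
    Cfsg.Agent.Lib.Helper17.PNormControl p H := by
  intro Q hQH hQ hQ1 g hg
  by_contra hgH
  apply hse g hgH
  have hQle : Q ≤ H ⊓ H.map (MulAut.conj g).toMonoidHom := by
    refine le_inf hQH ?_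
    have h1 : cj g Q = Q := (mem_normalizer_iff_cj g Q).mp hg
    rw [← h1]
    exact cj_mono g hQH
  have hpQ : p ∣ Nat.card Q := by
    rcases hQ.card_eq_or_dvd with h | h
    · exact absurd (Subgroup.card_eq_one.mp h) hQ1
    · exact h
  exact hpQ.trans (Subgroup.card_dvd_of_le hQle)

/-- Direction: a strongly `p`-embedded subgroup disconnects the graph. -/
theorem not_conn_of_classical [Finite G] [Fact p.Prime] (H : Subgroup G) (hH : H ≠ ⊤)
    (hpH : p ∣ Nat.card H)
    (hse : ∀ g : G, g ∉ H → ¬ p ∣ Nat.card ↥(H ⊓ H.map (MulAut.conj g).toMonoidHom)) :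
    ¬ ∀ S T : Sylow p G, Conn S T := by
  intro hconn
  have hnc := pNormControl_of_classical H hse
  obtain ⟨S⟩ : Nonempty (Sylow p ↥H) := inferInstance
  have hS1 : (S : Subgroup ↥H) ≠ ⊥ := Cfsg.Agent.Lib.Helper17.sylow_ne_bot_of_dvd hpH S
  obtain ⟨P, hP⟩ := hnc.exists_sylow_eq_map S hS1
  have hPH : (P : Subgroup G) ≤ H := hP ▸ Subgroup.map_subtype_le _
  have hP1 : (P : Subgroup G) ≠ ⊥ := by
    rw [hP]
    intro h
    exact hS1 ((Subgroup.map_eq_bot_iff_of_injective _ H.subtype_injective).mp h)
  obtain ⟨g, hg⟩ : ∃ g : G, g ∉ H := by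
    by_contra hall
    push Not at hall
    exact hH (eq_top_iff.mpr fun x _ => hall x)
  have hall : ∀ R : Sylow p G, Conn P R → (R : Subgroup G) ≤ H := by
    intro R hR
    induction hR with
    | refl => exact hPH
    | @tail U R' _ hUR ih =>
      apply hnc.le_of_inf_ne_bot R'.2
      intro hbot
      apply hUR.2
      rw [eq_bot_iff, ← hbot, inf_comm]
      exact inf_le_inf_left _ ih
  have hgP : ((g • P : Sylow p G) : Subgroup G) ≤ H := hall _ (hconn P (g • P))
  apply hse g hg
  have hle : ((g • P : Sylow p G) : Subgroup G) ≤ H ⊓ H.map (MulAut.conj g).toMonoidHom := by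
    refine le_inf hgP ?_
    rw [Cfsg.Agent.Lib.Helper17.sylow_smul_eq_map_conj]
    exact Subgroup.map_mono hPH
  have hp : p ∣ Nat.card ↥((g • P : Sylow p G) : Subgroup G) := by
    rcases (g • P).2.card_eq_or_dvd with h | h
    · exfalso
      have h2 : ((g • P : Sylow p G) : Subgroup G) = ⊥ := Subgroup.card_eq_one.mp h
      rw [Cfsg.Agent.Lib.Helper17.sylow_smul_eq_map_conj] at h2
      exact hP1 ((Subgroup.map_eq_bot_iff_of_injective _ (MulAut.conj g).injective).mp h2)
    · exact h
  exact hp.trans (Subgroup.card_dvd_of_le hle)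

/-- The stabilizer of the connected component of `S`. -/
def compStab (S : Sylow p G) : Subgroup G where
  carrier := {g | Conn S (g • S)}
  one_mem' := by
    show Conn S ((1 : G) • S)
    rw [one_smul]
  mul_mem' := by
    intro a b ha hb
    show Conn S ((a * b) • S)
    rw [mul_smul]
    exact Relation.ReflTransGen.trans ha (Conn.smul a hb)
  inv_mem' := by
    intro a ha
    show Conn S (a⁻¹ • S)
    have := Conn.smul a⁻¹ ha
    rw [inv_smul_smul] at this
    exact Conn.symm' this

theorem mem_compStab (S : Sylow p G) (g : G) : g ∈ compStab S ↔ Conn S (g • S) := Iff.rfl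

theorem le_compStab_of_conn (S R : Sylow p G) (h : Conn S R) : (R : Subgroup G) ≤ compStab S := by
  intro r hr
  rw [mem_compStab]
  have h1 := Conn.smul r h
  have h2 : r • R = R := Sylow.smul_eq_iff_mem_normalizer.mpr (Subgroup.le_normalizer hr)
  rw [h2] at h1
  exact Relation.ReflTransGen.trans h (Conn.symm' h1)

/-- A nontrivial `p`-element of the stabilizer lies in a Sylow subgroup of the component. -/
theorem exists_conn_mem [Finite G] [Fact p.Prime] (S : Sylow p G) (x : G) (hx : x ∈ compStab S)
    (hxp : IsPGroup p ↥(Subgroup.zpowers x)) : ∃ R : Sylow p G, Conn S R ∧ x ∈ (R : Subgroup G) := by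
  have hSH : (S : Subgroup G) ≤ compStab S := le_compStab_of_conn S S Relation.ReflTransGen.refl
  obtain ⟨k, hk, hkx⟩ := exists_conj_le_sylow_of_le S (compStab S) hSH (Subgroup.zpowers x) hxp
    (by rw [Subgroup.zpowers_le]; exact hx)
  refine ⟨k⁻¹ • S, (compStab S).inv_mem hk, ?_⟩
  rw [Cfsg.Agent.Lib.Helper17.mem_smul_sylow, inv_inv]
  apply hkx
  exact ⟨x, Subgroup.mem_zpowers x, by simp [MulAut.conj_apply]⟩

/-- Direction: a disconnected graph gives a strongly `p`-embedded subgroup. -/
theorem classical_of_not_conn [Finite G] [hp : Fact p.Prime] (S T : Sylow p G) (hST : ¬ Conn S T) :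
    ∃ H : Subgroup G, H ≠ ⊤ ∧ p ∣ Nat.card H ∧
      ∀ g : G, g ∉ H → ¬ p ∣ Nat.card ↥(H ⊓ H.map (MulAut.conj g).toMonoidHom) := by
  refine ⟨compStab S, ?_, ?_, ?_⟩
  · intro htop
    obtain ⟨g, hg⟩ := MulAction.exists_smul_eq G S T
    have : g ∈ compStab S := by rw [htop]; trivial
    rw [mem_compStab, hg] at this
    exact hST this
  · have hSH : (S : Subgroup G) ≤ compStab S := le_compStab_of_conn S S Relation.ReflTransGen.refl
    have hS1 : (S : Subgroup G) ≠ ⊥ := by
      intro hbot
      apply hST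
      have hT : (T : Subgroup G) = ⊥ := by
        obtain ⟨g, hg⟩ := MulAction.exists_smul_eq G S T
        rw [← hg, Cfsg.Agent.Lib.Helper17.sylow_smul_eq_map_conj, hbot, Subgroup.map_bot]
      have : S = T := Sylow.ext (by rw [hbot, hT])
      rw [this]
    have hpS : p ∣ Nat.card (S : Subgroup G) := by
      rcases S.2.card_eq_or_dvd with h | h
      · exact absurd (Subgroup.card_eq_one.mp h) hS1
      · exact h
    exact hpS.trans (Subgroup.card_dvd_of_le hSH)
  · intro g hg hdvd
    apply hg
    obtain ⟨x, hx⟩ := exists_prime_orderOf_dvd_card' (G := ↥(compStab S ⊓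
      (compStab S).map (MulAut.conj g).toMonoidHom)) p hdvd
    have hx' : orderOf (x : G) = p := by rw [Subgroup.orderOf_coe]; exact hx
    have hx1 : (x : G) ≠ 1 := by
      intro h
      rw [h, orderOf_one] at hx'
      exact hp.out.one_lt.ne hx'
    have hxp : IsPGroup p ↥(Subgroup.zpowers (x : G)) := by
      apply IsPGroup.of_card (n := 1)
      rw [Nat.card_zpowers, hx', pow_one]
    obtain ⟨R₁, hR₁, hxR₁⟩ := exists_conn_mem S (x : G) x.2.1 hxp
    have hy : g⁻¹ * (x : G) * g ∈ compStab S := (mem_cj_iff g _ _).mp x.2.2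
    have hyp : IsPGroup p ↥(Subgroup.zpowers (g⁻¹ * (x : G) * g)) := by
      apply IsPGroup.of_card (n := 1)
      have : orderOf (g⁻¹ * (x : G) * g) = p := by
        have := (MulAut.conj g⁻¹).orderOf_eq (x : G)
        rw [MulAut.conj_apply, inv_inv] at this
        rw [this, hx']
      rw [Nat.card_zpowers, this, pow_one]
    obtain ⟨R₂, hR₂, hyR₂⟩ := exists_conn_mem S _ hy hyp
    have hxgR₂ : (x : G) ∈ ((g • R₂ : Sylow p G) : Subgroup G) :=
      Cfsg.Agent.Lib.Helper17.mem_smul_sylow.mpr hyR₂
    have hconn : Conn S (g • R₂) := by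
      by_cases he : R₁ = g • R₂
      · rw [← he]; exact hR₁
      · refine Relation.ReflTransGen.tail hR₁ ⟨he, ?_⟩
        intro hbot
        have : (x : G) ∈ (R₁ : Subgroup G) ⊓ ((g • R₂ : Sylow p G) : Subgroup G) := ⟨hxR₁, hxgR₂⟩
        rw [hbot, Subgroup.mem_bot] at this
        exact hx1 this
    rw [mem_compStab]
    exact Relation.ReflTransGen.trans hconn (Conn.symm' (Conn.smul g hR₂))


end aux

/-- Let G be a finite group and p a prime. Join two Sylow p-subgroups when they are distinct and meet nontrivially. This graph on the Sylow p-subgroups is disconnected (the Sylow p-subgroups are not chain-connected through nontrivial intersections) if and only if G has a strongly p-embedded subgroup in the classical sense: a proper subgroup H of order divisible by p such that H ∩ gHg⁻¹ has order prime to p for every g outside H. -/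
theorem result {G : Type*} [Group G] [Finite G]
    (p : ℕ) [Fact p.Prime] :
    ¬ Cfsg.IsSylowChainConnected p G ↔
      ∃ H : Subgroup G, H ≠ ⊤ ∧ p ∣ Nat.card H ∧
        ∀ g : G, g ∉ H → ¬ p ∣ Nat.card ↥(H ⊓ H.map (MulAut.conj g).toMonoidHom) := by
  rw [chainConnected_iff]
  constructor
  · intro h
    push Not at h
    obtain ⟨S, T, hST⟩ := h
    exact classical_of_not_conn S T hST
  · rintro ⟨H, hH, hpH, hse⟩
    exact not_conn_of_classical H hH hpH hse

end Cfsg.Agent.S3056
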