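import Cfsg.Statements.S3058
import Cfsg.Agent.Lib.Helper12.Generation
import Cfsg.Agent.Lib.Helper16.SylowInf
import Cfsg.Agent.Lib.Helper17.SylowLemmas

set_option autoImplicit false
open Cfsg

namespace Cfsg.Agent.S3058

open Subgroup
open scoped Pointwise

universe u

variable {G : Type u} [Group G] {p : ℕ} [hp : Fact p.Prime]

omit hp in
theorem mem_smul_iff (S : Sylow p G) (g x : G) :
    x ∈ ((g • S : Sylow p G) : Subgroup G) ↔ g⁻¹ * x * g ∈ (S : Subgroup G) := by
  rw [Sylow.coe_subgroup_smul, Subgroup.mem_pointwise_smul_iff_inv_smul_mem]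
  simp [MulAut.smul_def]

/-- Adjacency of Sylow subgroups: distinct and meeting nontrivially. -/
def Adj (S T : Sylow p G) : Prop :=
  S ≠ T ∧ ∃ x : G, x ≠ 1 ∧ x ∈ (S : Subgroup G) ∧ x ∈ (T : Subgroup G)

/-- Connectedness. -/
def Conn (S T : Sylow p G) : Prop := Relation.ReflTransGen Adj S T

omit hp in
theorem adj_symm {S T : Sylow p G} (h : Adj S T) : Adj T S := by
  obtain ⟨h1, x, hx1, hxS, hxT⟩ := h
  exact ⟨h1.symm, x, hx1, hxT, hxS⟩

omit hp in
theorem adj_smul (g : G) {S T : Sylow p G} (h : Adj S T) : Adj (g • S) (g • T) := by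
  obtain ⟨h1, x, hx1, hxS, hxT⟩ := h
  refine ⟨fun he => h1 (MulAction.injective g he), g * x * g⁻¹, ?_, ?_, ?_⟩
  · intro h2
    apply hx1
    have : x = g⁻¹ * (g * x * g⁻¹) * g := by group
    rw [this, h2]; group
  · rw [mem_smul_iff]
    have : g⁻¹ * (g * x * g⁻¹) * g = x := by group
    rw [this]; exact hxS
  · rw [mem_smul_iff]
    have : g⁻¹ * (g * x * g⁻¹) * g = x := by group
    rw [this]; exact hxT

omit hp in
theorem conn_symm {S T : Sylow p G} (h : Conn S T) : Conn T S := by
  induction h with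
  | refl => exact Relation.ReflTransGen.refl
  | tail _ hbc ih => exact Relation.ReflTransGen.head (adj_symm hbc) ih

omit hp in
theorem conn_smul (g : G) {S T : Sylow p G} (h : Conn S T) : Conn (g • S) (g • T) := by
  induction h with
  | refl => exact Relation.ReflTransGen.refl
  | tail _ hbc ih => exact Relation.ReflTransGen.tail ih (adj_smul g hbc)

omit hp in
theorem conn_trans {S T U : Sylow p G} (h1 : Conn S T) (h2 : Conn T U) : Conn S U :=
  Relation.ReflTransGen.trans h1 h2

/-- The stabilizer of the connected component of `S`. -/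
def compStab (S : Sylow p G) : Subgroup G where
  carrier := {g | Conn S (g • S)}
  one_mem' := by
    show Conn S ((1 : G) • S)
    rw [one_smul]; exact Relation.ReflTransGen.refl
  mul_mem' := by
    intro a b ha hb
    show Conn S ((a * b) • S)
    rw [mul_smul]
    exact conn_trans ha (conn_smul a hb)
  inv_mem' := by
    intro a ha
    show Conn S (a⁻¹ • S)
    have := conn_smul a⁻¹ ha
    rw [inv_smul_smul] at this
    exact conn_symm this

omit hp in
theorem mem_compStab_iff (S : Sylow p G) (g : G) : g ∈ compStab S ↔ Conn S (g • S) := Iff.rfl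

omit hp in
/-- An element whose conjugate of `S` shares a nontrivial element with `S` stabilizes the
component. -/
theorem mem_compStab_of_common (S : Sylow p G) (g x : G) (hx1 : x ≠ 1)
    (hxS : x ∈ (S : Subgroup G)) (hxg : g⁻¹ * x * g ∈ (S : Subgroup G)) : g ∈ compStab S := by
  rw [mem_compStab_iff]
  by_cases h : S = g • S
  · rw [← h]; exact Relation.ReflTransGen.refl
  · exact Relation.ReflTransGen.single ⟨h, x, hx1, hxS, (mem_smul_iff S g x).mpr hxg⟩

omit hp in
theorem le_compStab (S : Sylow p G) : (S : Subgroup G) ≤ compStab S := by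
  intro s hs
  rw [mem_compStab_iff]
  have : s • S = S := Sylow.smul_eq_iff_mem_normalizer.mpr (Subgroup.le_normalizer hs)
  rw [this]; exact Relation.ReflTransGen.refl

omit hp in
/-- Extraction of a chain from connectedness. -/
theorem exists_chain {S T : Sylow p G} (h : Conn S T) :
    ∃ (n : ℕ) (c : Fin (n + 1) → Sylow p G), c 0 = S ∧ c (Fin.last n) = T ∧
      ∀ i : Fin n, Adj (c i.castSucc) (c i.succ) := by
  induction h with
  | refl => exact ⟨0, fun _ => S, rfl, rfl, fun i => i.elim0⟩
  | @tail T U _ hbc ih =>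
    obtain ⟨n, c, h0, hl, hc⟩ := ih
    refine ⟨n + 1, Fin.snoc (α := fun _ => Sylow p G) c U, ?_, ?_, ?_⟩
    · have : (0 : Fin (n + 1 + 1)) = Fin.castSucc (0 : Fin (n + 1)) := rfl
      rw [this, Fin.snoc_castSucc]; exact h0
    · exact Fin.snoc_last (α := fun _ => Sylow p G) _ _
    · intro i
      induction i using Fin.lastCases with
      | last =>
        rw [Fin.snoc_castSucc, Fin.succ_last, Fin.snoc_last, hl]
        exact hbc
      | cast j =>
        rw [Fin.snoc_castSucc, Fin.succ_castSucc, Fin.snoc_castSucc]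
        exact hc j

omit hp in
theorem eq_one_of_mem_of_coprime [Finite G] (S : Sylow p G) (K : Subgroup G) (hK : ¬ p ∣ Nat.card K)
    (hp' : p.Prime)
    {x : G} (hxS : x ∈ (S : Subgroup G)) (hxK : x ∈ K) : x = 1 := by
  obtain ⟨k, hk⟩ := S.2 ⟨x, hxS⟩
  have h1 : x ^ (p ^ k) = 1 := by simpa using congrArg Subtype.val hk
  have h2 : x ^ Nat.card K = 1 := by
    have h0 : (⟨x, hxK⟩ : K) ^ Nat.card K = 1 := pow_card_eq_one'
    have h0' := congrArg Subtype.val h0
    rwa [Subgroup.coe_pow, Subgroup.coe_one] at h0'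
  have h3 : orderOf x ∣ Nat.gcd (p ^ k) (Nat.card K) :=
    Nat.dvd_gcd (orderOf_dvd_of_pow_eq_one h1) (orderOf_dvd_of_pow_eq_one h2)
  have hcop : (p ^ k).Coprime (Nat.card K) :=
    Nat.Coprime.pow_left k ((Nat.Prime.coprime_iff_not_dvd hp').mpr hK)
  rw [hcop.gcd_eq_one, Nat.dvd_one, orderOf_eq_one_iff] at h3
  exact h3

/-- A normal subgroup of order divisible by `p` meets every Sylow `p`-subgroup in an element of
order `p`. -/
theorem exists_orderOf_eq_in_inf [Finite G] (S : Sylow p G) (N : Subgroup G) [hN : N.Normal]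
    (h : p ∣ Nat.card N) : ∃ a : G, a ∈ (S : Subgroup G) ∧ a ∈ N ∧ orderOf a = p := by
  obtain ⟨⟨y, hyN⟩, hy⟩ := exists_prime_orderOf_dvd_card' p h
  have hy' : orderOf y = p := by rw [← hy]; exact (Subgroup.orderOf_mk y hyN).symm
  have hz : IsPGroup p (Subgroup.zpowers y) := by
    apply IsPGroup.of_card (n := 1)
    rw [Nat.card_zpowers, hy', pow_one]
  obtain ⟨T, hT⟩ := hz.exists_le_sylow
  obtain ⟨g, hg⟩ := MulAction.exists_smul_eq G S T
  have hyT : y ∈ ((g • S : Sylow p G) : Subgroup G) := by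
    rw [hg]; exact hT (Subgroup.mem_zpowers y)
  rw [mem_smul_iff] at hyT
  refine ⟨g⁻¹ * y * g, hyT, ?_, ?_⟩
  · have := hN.conj_mem y hyN g⁻¹
    rwa [inv_inv] at this
  · have : g⁻¹ * y * g = (MulAut.conj g⁻¹).toMonoidHom y := by simp
    rw [this, orderOf_injective _ (MulAut.conj g⁻¹).injective, hy']

theorem compStab_eq_top [Finite G] (S : Sylow p G) (N M : Subgroup G) [hN : N.Normal]
    [hM : M.Normal] (hNp : p ∣ Nat.card N) (hMp : p ∣ Nat.card M)
    (hK : ¬ p ∣ Nat.card (N ⊓ M : Subgroup G)) : compStab S = ⊤ := by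
  classical
  have hpp : p.Prime := hp.out
  set K : Subgroup G := N ⊓ M with hKdef
  have hKn : K.Normal := inferInstance
  obtain ⟨a, haS, haN, hao⟩ := exists_orderOf_eq_in_inf S N hNp
  obtain ⟨b, hbS, hbM, hbo⟩ := exists_orderOf_eq_in_inf S M hMp
  have ha1 : a ≠ 1 := by
    rintro rfl
    rw [orderOf_one] at hao
    exact hpp.one_lt.ne hao
  have hb1 : b ≠ 1 := by
    rintro rfl
    rw [orderOf_one] at hbo
    exact hpp.one_lt.ne hbo
  have hone : ∀ x : G, x ∈ (S : Subgroup G) → x ∈ K → x = 1 :=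
    fun x hxS hxK => eq_one_of_mem_of_coprime S K hK hpp hxS hxK
  have hab : a * b = b * a := by
    have hc : a * b * a⁻¹ * b⁻¹ = 1 := by
      apply hone
      · exact Subgroup.mul_mem _ (Subgroup.mul_mem _ (Subgroup.mul_mem _ haS hbS)
          (Subgroup.inv_mem _ haS)) (Subgroup.inv_mem _ hbS)
      · refine Subgroup.mem_inf.mpr ⟨?_, ?_⟩
        · have h1 : b * a⁻¹ * b⁻¹ ∈ N := hN.conj_mem _ (Subgroup.inv_mem _ haN) b
          have : a * b * a⁻¹ * b⁻¹ = a * (b * a⁻¹ * b⁻¹) := by group
          rw [this]; exact Subgroup.mul_mem _ haN h1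
        · have h1 : a * b * a⁻¹ ∈ M := hM.conj_mem _ hbM a
          exact Subgroup.mul_mem _ h1 (Subgroup.inv_mem _ hbM)
    calc a * b = (a * b * a⁻¹ * b⁻¹) * (b * a) := by group
      _ = b * a := by rw [hc, one_mul]
  set E : Subgroup G := Subgroup.closure ({a, b} : Set G) with hEdef
  have haE : a ∈ E := Subgroup.subset_closure (Set.mem_insert _ _)
  have hbE : b ∈ E := Subgroup.subset_closure (Set.mem_insert_of_mem _ rfl)
  have hES : E ≤ (S : Subgroup G) := by
    rw [hEdef, Subgroup.closure_le]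
    rintro x (rfl | rfl)
    · exact haS
    · exact hbS
  have hEc1 : ∀ x ∈ E, x * a = a * x ∧ x * b = b * x := by
    intro x hx
    have hle : E ≤ Subgroup.centralizer ({a} : Set G) ⊓ Subgroup.centralizer ({b} : Set G) := by
      rw [hEdef, Subgroup.closure_le]
      rintro y (rfl | rfl)
      · refine Subgroup.mem_inf.mpr ⟨?_, ?_⟩
        · rw [Subgroup.mem_centralizer_singleton_iff]
        · rw [Subgroup.mem_centralizer_singleton_iff]; exact hab
      · refine Subgroup.mem_inf.mpr ⟨?_, ?_⟩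
        · rw [Subgroup.mem_centralizer_singleton_iff]; exact hab.symm
        · rw [Subgroup.mem_centralizer_singleton_iff]
    obtain ⟨h1, h2⟩ := Subgroup.mem_inf.mp (hle hx)
    rw [Subgroup.mem_centralizer_singleton_iff] at h1 h2
    exact ⟨h1, h2⟩
  have hEcomm : ∀ x ∈ E, ∀ y ∈ E, x * y = y * x := by
    intro x hx y hy
    have hle : E ≤ Subgroup.centralizer ({x} : Set G) := by
      rw [hEdef, Subgroup.closure_le]
      rintro z (rfl | rfl)
      · rw [SetLike.mem_coe, Subgroup.mem_centralizer_singleton_iff]; exact (hEc1 x hx).1.symm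
      · rw [SetLike.mem_coe, Subgroup.mem_centralizer_singleton_iff]; exact (hEc1 x hx).2.symm
    have := hle hy
    rw [Subgroup.mem_centralizer_singleton_iff] at this
    exact this.symm
  have hEexp : ∀ x ∈ E, x ^ p = 1 := by
    intro x hx
    rw [hEdef] at hx
    induction hx using Subgroup.closure_induction with
    | mem y hy =>
      rcases hy with rfl | rfl
      · rw [← hao]; exact pow_orderOf_eq_one _
      · rw [← hbo]; exact pow_orderOf_eq_one _
    | one => exact one_pow _
    | mul y z hy hz ihy ihz =>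
      have hc : Commute y z := hEcomm y hy z hz
      rw [hc.mul_pow, ihy, ihz, one_mul]
    | inv y hy ihy => rw [inv_pow, ihy, inv_one]
  have hanb : a ∉ Subgroup.zpowers b := by
    intro h
    have haM : a ∈ M := (Subgroup.zpowers_le.mpr hbM) h
    exact ha1 (hone a haS (Subgroup.mem_inf.mpr ⟨haN, haM⟩))
  have hKle : K ≤ compStab S := by
    have h1 := Cfsg.Agent.Lib.Helper12.le_genC_of_noncyclic (p := p) hEcomm hEexp
      (by rw [Subgroup.normalizer_eq_top]; exact le_top) hK haE hbE hanb hb1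
    refine h1.trans ?_
    apply iSup_le
    rintro ⟨e, heE, he1⟩
    intro g hg
    obtain ⟨-, hgc⟩ := Subgroup.mem_inf.mp hg
    rw [Subgroup.mem_centralizer_singleton_iff] at hgc
    apply mem_compStab_of_common S g e he1 (hES heE)
    have : g⁻¹ * e * g = e := by
      calc g⁻¹ * e * g = g⁻¹ * (e * g) := by group
        _ = g⁻¹ * (g * e) := by rw [hgc]
        _ = e := by group
    rw [this]; exact hES heE
  set B : Subgroup G := (S : Subgroup G) ⊓ M with hBdef
  set X : Subgroup G := B ⊔ K with hXdef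
  have hB : IsPGroup p B := S.2.to_le inf_le_left
  have hBX : B ≤ X := le_sup_left
  have hidx : ¬ p ∣ (B.subgroupOf X).index := by
    intro hd
    have h1 : (B.subgroupOf X).index = B.relIndex X := rfl
    rw [h1, hXdef, ← Cfsg.Agent.Lib.Helper16.relIndex_eq_relIndex_sup_of_normal' B K] at hd
    exact hK (hd.trans (Subgroup.relIndex_dvd_card B K))
  let P : Sylow p X := (hB.comap_subtype (K := X)).toSylow hidx
  have hPmap : (P : Subgroup X).map X.subtype = B := by
    show (B.subgroupOf X).map X.subtype = B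
    rw [Subgroup.subgroupOf_map_subtype, inf_of_le_left hBX]
  have hNle : N ≤ compStab S := by
    intro n hn
    have hnX : n ∈ Subgroup.normalizer (X : Set G) := by
      apply Subgroup.mem_normalizer_fintype
      intro x hx
      have hx' : x ∈ B ⊔ K := hx
      rw [Subgroup.mem_sup_of_normal_right] at hx'
      obtain ⟨y, hy, z, hz, rfl⟩ := hx'
      have e : n * (y * z) * n⁻¹ = y * ((y⁻¹ * n * y * n⁻¹) * (n * z * n⁻¹)) := by group
      rw [e]
      apply Subgroup.mul_mem _ (hBX hy)
      apply Subgroup.mem_sup_right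
      apply Subgroup.mul_mem
      · refine Subgroup.mem_inf.mpr ⟨?_, ?_⟩
        · have h1 : y⁻¹ * n * y⁻¹⁻¹ ∈ N := hN.conj_mem n hn y⁻¹
          rw [inv_inv] at h1
          exact Subgroup.mul_mem _ h1 (Subgroup.inv_mem _ hn)
        · have hyM : y ∈ M := (Subgroup.mem_inf.mp hy).2
          have h1 : n * y * n⁻¹ ∈ M := hM.conj_mem y hyM n
          have : y⁻¹ * n * y * n⁻¹ = y⁻¹ * (n * y * n⁻¹) := by group
          rw [this]; exact Subgroup.mul_mem _ (Subgroup.inv_mem _ hyM) h1
      · exact hKn.conj_mem z hz n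
    obtain ⟨x, hxX, hm⟩ := Cfsg.Agent.Lib.Helper17.frattini_internal P n hnX
    rw [hPmap] at hm
    have hx : x ∈ compStab S :=
      (sup_le ((inf_le_left).trans (le_compStab S)) hKle : X ≤ compStab S) hxX
    have hm' : x⁻¹ * n ∈ compStab S := by
      apply mem_compStab_of_common S _ b hb1 hbS
      have hbB : b ∈ B := Subgroup.mem_inf.mpr ⟨hbS, hbM⟩
      have h2 := (Subgroup.mem_normalizer_iff.mp (Subgroup.inv_mem _ hm) b).mp hbB
      rw [inv_inv] at h2
      exact (Subgroup.mem_inf.mp h2).1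
    have : n = x * (x⁻¹ * n) := by group
    rw [this]; exact Subgroup.mul_mem _ hx hm'
  rw [eq_top_iff]
  intro g _
  obtain ⟨h, hh, c, hc, rfl⟩ := Cfsg.Agent.Lib.Helper16.frattini_inf_normal S N g
  apply Subgroup.mul_mem _ _ (hNle hc)
  apply mem_compStab_of_common S h a ha1 haS
  have haA : a ∈ (S : Subgroup G) ⊓ N := Subgroup.mem_inf.mpr ⟨haS, haN⟩
  have h2 := (Subgroup.mem_normalizer_iff.mp (Subgroup.inv_mem _ hh) a).mp haA
  rw [inv_inv] at h2
  exact (Subgroup.mem_inf.mp h2).1

/-- If the Sylow p-subgroups of G are not chain-connected and N, M ⊴ G both have order divisible by p, then so does N ∩ M. -/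
theorem result {G : Type*} [Group G] [Finite G]
    (p : ℕ) [Fact p.Prime] (hG : ¬ Cfsg.IsSylowChainConnected p G)
    (N M : Subgroup G) [N.Normal] [M.Normal] (hN : p ∣ Nat.card N) (hM : p ∣ Nat.card M) :
    p ∣ Nat.card ↥(N ⊓ M) := by
  by_contra hcon
  apply hG
  intro S T
  have htop := compStab_eq_top S N M hN hM hcon
  obtain ⟨g, hg⟩ := MulAction.exists_smul_eq G S T
  have hconn : Conn S T := by
    have : g ∈ compStab S := htop ▸ Subgroup.mem_top g
    rw [mem_compStab_iff, hg] at this
    exact this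
  by_cases hST : S = T
  · subst hST
    exact ⟨0, fun _ => S, rfl, rfl, fun i => inf_le_left, fun i => i.elim0⟩
  by_cases hbot : (S : Subgroup G) ⊓ (T : Subgroup G) = ⊥
  · obtain ⟨n, c, h0, hl, hc⟩ := exists_chain hconn
    refine ⟨n, c, h0, hl, fun i => by rw [hbot]; exact bot_le, fun i => ?_⟩
    obtain ⟨h1, x, hx1, hxa, hxb⟩ := hc i
    refine ⟨h1, ?_⟩
    intro hb
    have : x ∈ (⊥ : Subgroup G) := hb ▸ (Subgroup.mem_inf.mpr ⟨hxa, hxb⟩)
    exact hx1 (Subgroup.mem_bot.mp this)
  · refine ⟨1, ![S, T], rfl, rfl, ?_, ?_⟩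
    · intro i
      fin_cases i
      · exact inf_le_left
      · exact inf_le_right
    · intro i
      fin_cases i
      exact ⟨hST, hbot⟩

end Cfsg.Agent.S3058
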