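import Cfsg.Statements.S3057
import Cfsg.Agent.S3058
import Cfsg.Agent.Lib.Helper10.UniqueOrderP
import Cfsg.Agent.Lib.Helper16.UniqueOrderP
import Cfsg.Agent.Lib.Helper1.Cores
import Cfsg.Agent.Lib.Helper1.Hall
import Cfsg.Agent.H5.PSolvable

set_option autoImplicit false
open Cfsg

namespace Cfsg.Agent.S3057

open Subgroup
open scoped Pointwise
open Cfsg.Agent.S3058

universe u

variable {G : Type u} [Group G] {p : ℕ} [hp : Fact p.Prime]

omit hp in
/-- Connectedness of all pairs gives chain-connectedness. -/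
theorem chainConnected_of_conn (h : ∀ S T : Sylow p G, Conn S T) :
    Cfsg.IsSylowChainConnected p G := by
  intro S T
  have hconn := h S T
  by_cases hST : S = T
  · subst hST
    exact ⟨0, fun _ => S, rfl, rfl, fun i => inf_le_left, fun i => i.elim0⟩
  by_cases hbot : (S : Subgroup G) ⊓ (T : Subgroup G) = ⊥
  · obtain ⟨n, c, h0, hl, hc⟩ := exists_chain hconn
    refine ⟨n, c, h0, hl, fun i => by rw [hbot]; exact bot_le, fun i => ?_⟩
    obtain ⟨h1, x, hx1, hxa, hxb⟩ := hc i
    refine ⟨h1, ?_⟩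
    intro hb
    have : x ∈ (⊥ : Subgroup G) := hb ▸ (Subgroup.mem_inf.mpr ⟨hxa, hxb⟩)
    exact hx1 (Subgroup.mem_bot.mp this)
  · refine ⟨1, ![S, T], rfl, rfl, ?_, ?_⟩
    · intro i
      fin_cases i
      · exact inf_le_left
      · exact inf_le_right
    · intro i
      fin_cases i
      exact ⟨hST, hbot⟩

/-- If the component stabilizer of one Sylow subgroup is everything, all pairs are connected. -/
theorem conn_of_compStab_eq_top [Finite G] (P : Sylow p G) (h : compStab P = ⊤) (S T : Sylow p G) :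
    Conn S T := by
  have key : ∀ U : Sylow p G, Conn P U := by
    intro U
    obtain ⟨g, hg⟩ := MulAction.exists_smul_eq G P U
    have : g ∈ compStab P := h ▸ Subgroup.mem_top g
    rw [mem_compStab_iff, hg] at this
    exact this
  exact conn_trans (conn_symm (key S)) (key T)

/-- Coprime generation: a normal `p'`-subgroup stabilizes the component of a Sylow subgroup
containing a noncyclic elementary abelian subgroup. -/
theorem le_compStab_of_noncyclic [Finite G] (S : Sylow p G) (K : Subgroup G) [hKn : K.Normal]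
    (hK : ¬ p ∣ Nat.card K) (a b : G) (haS : a ∈ (S : Subgroup G)) (hbS : b ∈ (S : Subgroup G))
    (hab : a * b = b * a) (hap : a ^ p = 1) (hbp : b ^ p = 1) (hb1 : b ≠ 1)
    (hanb : a ∉ Subgroup.zpowers b) : K ≤ compStab S := by
  classical
  set E : Subgroup G := Subgroup.closure ({a, b} : Set G) with hEdef
  have haE : a ∈ E := Subgroup.subset_closure (Set.mem_insert _ _)
  have hbE : b ∈ E := Subgroup.subset_closure (Set.mem_insert_of_mem _ rfl)
  have hES : E ≤ (S : Subgroup G) := by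
    rw [hEdef, Subgroup.closure_le]
    rintro x (rfl | rfl)
    · exact haS
    · exact hbS
  have hEc1 : ∀ x ∈ E, x * a = a * x ∧ x * b = b * x := by
    intro x hx
    have hle : E ≤ Subgroup.centralizer ({a} : Set G) ⊓ Subgroup.centralizer ({b} : Set G) := by
      rw [hEdef, Subgroup.closure_le]
      rintro y (rfl | rfl)
      · refine Subgroup.mem_inf.mpr ⟨?_, ?_⟩
        · rw [Subgroup.mem_centralizer_singleton_iff]
        · rw [Subgroup.mem_centralizer_singleton_iff]; exact hab
      · refine Subgroup.mem_inf.mpr ⟨?_, ?_⟩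
        · rw [Subgroup.mem_centralizer_singleton_iff]; exact hab.symm
        · rw [Subgroup.mem_centralizer_singleton_iff]
    obtain ⟨h1, h2⟩ := Subgroup.mem_inf.mp (hle hx)
    rw [Subgroup.mem_centralizer_singleton_iff] at h1 h2
    exact ⟨h1, h2⟩
  have hEcomm : ∀ x ∈ E, ∀ y ∈ E, x * y = y * x := by
    intro x hx y hy
    have hle : E ≤ Subgroup.centralizer ({x} : Set G) := by
      rw [hEdef, Subgroup.closure_le]
      rintro z (rfl | rfl)
      · rw [SetLike.mem_coe, Subgroup.mem_centralizer_singleton_iff]; exact (hEc1 x hx).1.symm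
      · rw [SetLike.mem_coe, Subgroup.mem_centralizer_singleton_iff]; exact (hEc1 x hx).2.symm
    have := hle hy
    rw [Subgroup.mem_centralizer_singleton_iff] at this
    exact this.symm
  have hEexp : ∀ x ∈ E, x ^ p = 1 := by
    intro x hx
    rw [hEdef] at hx
    induction hx using Subgroup.closure_induction with
    | mem y hy =>
      rcases hy with rfl | rfl
      · exact hap
      · exact hbp
    | one => exact one_pow _
    | mul y z hy hz ihy ihz =>
      have hc : Commute y z := hEcomm y hy z hz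
      rw [hc.mul_pow, ihy, ihz, one_mul]
    | inv y hy ihy => rw [inv_pow, ihy, inv_one]
  have h1 := Cfsg.Agent.Lib.Helper12.le_genC_of_noncyclic (p := p) hEcomm hEexp
    (by rw [Subgroup.normalizer_eq_top]; exact le_top) hK haE hbE hanb hb1
  refine h1.trans ?_
  apply iSup_le
  rintro ⟨e, heE, he1⟩
  intro g hg
  obtain ⟨-, hgc⟩ := Subgroup.mem_inf.mp hg
  rw [Subgroup.mem_centralizer_singleton_iff] at hgc
  apply mem_compStab_of_common S g e he1 (hES heE)
  have : g⁻¹ * e * g = e := by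
    calc g⁻¹ * e * g = g⁻¹ * (e * g) := by group
      _ = g⁻¹ * (g * e) := by rw [hgc]
      _ = e := by group
  rw [this]; exact hES heE

/-- In a `p`-solvable group, a Sylow subgroup containing a noncyclic elementary abelian subgroup
has the whole group as component stabilizer. -/
theorem compStab_eq_top_of_isPSolvable [Finite G] (hsol : Cfsg.IsPSolvable p G) (S : Sylow p G)
    (a b : G) (haS : a ∈ (S : Subgroup G)) (hbS : b ∈ (S : Subgroup G))
    (hab : a * b = b * a) (hap : a ^ p = 1) (hbp : b ^ p = 1) (hb1 : b ≠ 1)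
    (hanb : a ∉ Subgroup.zpowers b) : compStab S = ⊤ := by
  classical
  set K : Subgroup G := Cfsg.pPrimeCore p G with hKdef
  haveI hKn : K.Normal := Cfsg.Agent.Lib.Helper1.pPrimeCore_normal p
  have hKc : (Nat.card K).Coprime p := Cfsg.Agent.Lib.Helper1.pPrimeCore_coprime p
  have hKp : ¬ p ∣ Nat.card K := fun h =>
    (Nat.Prime.coprime_iff_not_dvd hp.out).mp hKc.symm h
  have hKle : K ≤ compStab S :=
    le_compStab_of_noncyclic S K hKp a b haS hbS hab hap hbp hb1 hanb
  have hsolQ : Cfsg.IsPSolvable p (G ⧸ K) := Cfsg.H5.isPSolvable_quotient K hsol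
  have hQnt : (⊤ : Subgroup (G ⧸ K)) ≠ ⊥ := by
    intro h
    have hb : ((b : G) : G ⧸ K) ∈ (⊥ : Subgroup (G ⧸ K)) := h ▸ Subgroup.mem_top _
    rw [Subgroup.mem_bot, QuotientGroup.eq_one_iff] at hb
    exact hb1 (eq_one_of_mem_of_coprime S K hKp hp.out hbS hb)
  obtain ⟨Lb, -, hLbn, hLb1, hLb⟩ :=
    Cfsg.H5.exists_normal_p_or_pPrime_le hsolQ ⊤ inferInstance hQnt
  set L : Subgroup G := Lb.comap (QuotientGroup.mk' K) with hLdef
  haveI hLn : L.Normal := hLbn.comap _
  have hLbp : IsPGroup p Lb := by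
    rcases hLb with h | h
    · exact h
    · exfalso
      have hLc : (Nat.card L).Coprime p := by
        rw [hLdef, Cfsg.Agent.Lib.Helper1.card_comap_mk]
        exact Nat.Coprime.mul_left h hKc
      have hLK : L ≤ K := Cfsg.Agent.Lib.Helper1.le_pPrimeCore hLn hLc
      apply hLb1
      rw [eq_bot_iff]
      intro y hy
      obtain ⟨g, rfl⟩ := QuotientGroup.mk_surjective y
      have hgL : g ∈ L := hy
      rw [Subgroup.mem_bot, QuotientGroup.eq_one_iff]
      exact hLK hgL
  have hLle : L ≤ (S : Subgroup G) ⊔ K := by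
    have h1 : Lb ≤ ((S.mapSurjective (QuotientGroup.mk'_surjective K) : Sylow p (G ⧸ K)) :
        Subgroup (G ⧸ K)) := hLbp.le_sylow_of_normal _
    rw [Sylow.coe_mapSurjective] at h1
    have h2 := Subgroup.comap_mono (f := QuotientGroup.mk' K) h1
    rw [Subgroup.comap_map_eq, QuotientGroup.ker_mk'] at h2
    exact h2
  obtain ⟨s, hs1, hsS, hsL⟩ : ∃ s : G, s ≠ 1 ∧ s ∈ (S : Subgroup G) ∧ s ∈ L := by
    obtain ⟨⟨y, hy⟩, hy1⟩ := (Subgroup.ne_bot_iff_exists_ne_one).mp hLb1
    obtain ⟨c, rfl⟩ := QuotientGroup.mk_surjective y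
    have hcL : c ∈ L := hy
    have h3 := hLle hcL
    rw [Subgroup.mem_sup_of_normal_right] at h3
    obtain ⟨s, hs, k, hk, rfl⟩ := h3
    have hkL : k ∈ L := by
      rw [hLdef, Subgroup.mem_comap]
      have : QuotientGroup.mk' K k = 1 := (QuotientGroup.eq_one_iff k).mpr hk
      rw [this]; exact Subgroup.one_mem _
    refine ⟨s, ?_, hs, ?_⟩
    · rintro rfl
      apply hy1
      apply Subtype.ext
      show ((1 * k : G) : G ⧸ K) = 1
      rw [one_mul]
      exact (QuotientGroup.eq_one_iff k).mpr hk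
    · have : s = (s * k) * k⁻¹ := by group
      rw [this]
      exact Subgroup.mul_mem _ hcL (Subgroup.inv_mem _ hkL)
  rw [eq_top_iff]
  intro g _
  obtain ⟨h, hh, c, hc, rfl⟩ := Cfsg.Agent.Lib.Helper16.frattini_inf_normal S L g
  apply Subgroup.mul_mem
  · apply mem_compStab_of_common S h s hs1 hsS
    have hsA : s ∈ (S : Subgroup G) ⊓ L := Subgroup.mem_inf.mpr ⟨hsS, hsL⟩
    have h2 := (Subgroup.mem_normalizer_iff.mp (Subgroup.inv_mem _ hh) s).mp hsA
    rw [inv_inv] at h2
    exact (Subgroup.mem_inf.mp h2).1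
  · exact (sup_le (le_compStab S) hKle : (S : Subgroup G) ⊔ K ≤ compStab S) (hLle hc)

omit hp in
theorem coe_mem_zpowers_iff {H : Subgroup G} (x z : H) :
    (x : G) ∈ Subgroup.zpowers (z : G) ↔ x ∈ Subgroup.zpowers z := by
  rw [Subgroup.mem_zpowers_iff, Subgroup.mem_zpowers_iff]
  constructor
  · rintro ⟨k, hk⟩
    exact ⟨k, Subtype.ext (by rw [Subgroup.coe_zpow]; exact hk)⟩
  · rintro ⟨k, hk⟩
    refine ⟨k, ?_⟩
    rw [← hk, Subgroup.coe_zpow]

/-- A Sylow subgroup without the unique-order-`p` property contains a noncyclic elementary abelian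
pair. -/
theorem exists_noncyclic_pair_of_not_unique [Finite G] (S : Sylow p G)
    (h : ¬ Cfsg.Agent.Lib.Helper10.UniqueOrderP p ↥(S : Subgroup G)) :
    ∃ a b : G, a ∈ (S : Subgroup G) ∧ b ∈ (S : Subgroup G) ∧ a * b = b * a ∧ a ^ p = 1 ∧
      b ^ p = 1 ∧ b ≠ 1 ∧ a ∉ Subgroup.zpowers b := by
  classical
  have hpp : p.Prime := hp.out
  unfold Cfsg.Agent.Lib.Helper10.UniqueOrderP at h
  push Not at h
  obtain ⟨x, y, hx, hx1, hy, hyx⟩ := h
  haveI : Nontrivial ↥(S : Subgroup G) := ⟨⟨x, 1, hx1⟩⟩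
  haveI hcn : Nontrivial (Subgroup.center ↥(S : Subgroup G)) := S.2.center_nontrivial
  have hcp : p ∣ Nat.card (Subgroup.center ↥(S : Subgroup G)) := by
    obtain ⟨k, hk⟩ := IsPGroup.iff_card.mp (S.2.to_subgroup (Subgroup.center ↥(S : Subgroup G)))
    rw [hk]
    have hk0 : k ≠ 0 := by
      rintro rfl
      rw [pow_zero] at hk
      have := Finite.one_lt_card (α := Subgroup.center ↥(S : Subgroup G))
      omega
    exact dvd_pow_self p hk0
  obtain ⟨⟨z, hz⟩, hzo⟩ := exists_prime_orderOf_dvd_card' p hcp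
  have hzo' : orderOf z = p := (Subgroup.orderOf_mk z hz).symm.trans hzo
  have hz1 : z ≠ 1 := by
    rintro rfl
    rw [orderOf_one] at hzo'
    exact hpp.one_lt.ne hzo'
  have hzp : z ^ p = 1 := by
    have h0 := pow_orderOf_eq_one z
    rwa [hzo'] at h0
  have hzc : ∀ w : ↥(S : Subgroup G), w * z = z * w := fun w => Subgroup.mem_center_iff.mp hz w
  have conv : ∀ (u : ↥(S : Subgroup G)), u ^ p = 1 → u ∉ Subgroup.zpowers z →
      ∃ a b : G, a ∈ (S : Subgroup G) ∧ b ∈ (S : Subgroup G) ∧ a * b = b * a ∧ a ^ p = 1 ∧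
        b ^ p = 1 ∧ b ≠ 1 ∧ a ∉ Subgroup.zpowers b := by
    intro u hu hunz
    refine ⟨(u : G), (z : G), u.2, z.2, ?_, ?_, ?_, ?_, ?_⟩
    · have := congrArg Subtype.val (hzc u)
      simpa using this
    · have := congrArg Subtype.val hu
      simpa using this
    · have := congrArg Subtype.val hzp
      simpa using this
    · intro h0
      exact hz1 (Subtype.ext h0)
    · rw [coe_mem_zpowers_iff]; exact hunz
  by_cases hyz : y ∈ Subgroup.zpowers z
  · apply conv x hx
    intro hxz
    have hox : orderOf x = p := orderOf_eq_prime hx hx1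
    have heq : Subgroup.zpowers x = Subgroup.zpowers z := by
      apply Subgroup.eq_of_le_of_card_ge (Subgroup.zpowers_le.mpr hxz)
      rw [Nat.card_zpowers, Nat.card_zpowers, hox, hzo']
    exact hyx (heq ▸ hyz)
  · exact conv y hy hyz

/-- With the unique-order-`p` property and trivial `p`-core the Sylow subgroups are not
chain-connected. -/
theorem not_chainConnected_of_unique [Finite G] (P : Sylow p G) (hdiv : p ∣ Nat.card G)
    (hO : Cfsg.pCore p G = ⊥)
    (hu : Cfsg.Agent.Lib.Helper10.UniqueOrderP p ↥(P : Subgroup G)) :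
    ¬ Cfsg.IsSylowChainConnected p G := by
  classical
  intro hcc
  have hpp : p.Prime := hp.out
  obtain ⟨z, hzP, -, hzo⟩ := exists_orderOf_eq_in_inf P ⊤ (by rwa [Subgroup.card_top])
  have hz1 : z ≠ 1 := by
    rintro rfl
    rw [orderOf_one] at hzo
    exact hpp.one_lt.ne hzo
  have hzp : z ^ p = 1 := by
    have h0 := pow_orderOf_eq_one z
    rwa [hzo] at h0
  -- uniqueness in `P`, for elements of `G`
  have huP : ∀ u v : G, u ∈ (P : Subgroup G) → v ∈ (P : Subgroup G) → u ^ p = 1 → u ≠ 1 →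
      v ^ p = 1 → v ∈ Subgroup.zpowers u := by
    intro u v hu' hv' hup hu1 hvp
    have := hu ⟨u, hu'⟩ ⟨v, hv'⟩ (Subtype.ext (by simpa using hup))
      (fun h0 => hu1 (by simpa using congrArg Subtype.val h0)) (Subtype.ext (by simpa using hvp))
    rw [← coe_mem_zpowers_iff] at this
    exact this
  -- uniqueness in every Sylow subgroup
  have huT : ∀ T : Sylow p G, ∀ u v : G, u ∈ (T : Subgroup G) → v ∈ (T : Subgroup G) →
      u ^ p = 1 → u ≠ 1 → v ^ p = 1 → v ∈ Subgroup.zpowers u := by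
    intro T u v hu' hv' hup hu1 hvp
    obtain ⟨g, rfl⟩ := MulAction.exists_smul_eq G P T
    rw [mem_smul_iff] at hu' hv'
    have e1 : (g⁻¹ * u * g) ^ p = 1 := by
      have : (g⁻¹ * u * g) ^ p = g⁻¹ * u ^ p * g⁻¹⁻¹ := by rw [← conj_pow, inv_inv]
      rw [this, hup]; group
    have e2 : (g⁻¹ * v * g) ^ p = 1 := by
      have : (g⁻¹ * v * g) ^ p = g⁻¹ * v ^ p * g⁻¹⁻¹ := by rw [← conj_pow, inv_inv]
      rw [this, hvp]; group
    have e3 : g⁻¹ * u * g ≠ 1 := by
      intro h0
      apply hu1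
      have : u = g * (g⁻¹ * u * g) * g⁻¹ := by group
      rw [this, h0]; group
    obtain ⟨k, hk⟩ := Subgroup.mem_zpowers_iff.mp (huP _ _ hu' hv' e1 e3 e2)
    refine Subgroup.mem_zpowers_iff.mpr ⟨k, ?_⟩
    have e4 : (g⁻¹ * u * g) ^ k = g⁻¹ * u ^ k * g⁻¹⁻¹ := by rw [← conj_zpow, inv_inv]
    rw [e4, inv_inv] at hk
    calc u ^ k = g * (g⁻¹ * u ^ k * g) * g⁻¹ := by group
      _ = g * (g⁻¹ * v * g) * g⁻¹ := by rw [hk]
      _ = v := by group
  have key : ∀ T : Sylow p G, z ∈ (T : Subgroup G) := by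
    intro T
    obtain ⟨n, c, h0, hl, -, hadj⟩ := hcc P T
    have hall : ∀ i : Fin (n + 1), z ∈ (c i : Subgroup G) := by
      intro i
      induction i using Fin.induction with
      | zero => rw [h0]; exact hzP
      | succ i ih =>
        obtain ⟨-, hne⟩ := hadj i
        obtain ⟨⟨x, hx⟩, hx1⟩ := (Subgroup.ne_bot_iff_exists_ne_one).mp hne
        obtain ⟨hxa, hxb⟩ := Subgroup.mem_inf.mp hx
        have hx1' : x ≠ 1 := fun h0 => hx1 (Subtype.ext h0)
        obtain ⟨w, hw, hwp, hw1⟩ := Cfsg.Agent.Lib.Helper10.exists_orderOf_eq_prime_zpowers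
          (c i.castSucc).2 (⟨x, hxa⟩ : ↥(c i.castSucc : Subgroup G))
          (fun h0 => hx1' (by simpa using congrArg Subtype.val h0))
        rw [← coe_mem_zpowers_iff] at hw
        have hwx : (w : G) ∈ Subgroup.zpowers x := hw
        have hwb : (w : G) ∈ (c i.succ : Subgroup G) := (Subgroup.zpowers_le.mpr hxb) hwx
        have hwp' : (w : G) ^ p = 1 := by simpa using congrArg Subtype.val hwp
        have hw1' : (w : G) ≠ 1 := fun h0 => hw1 (Subtype.ext h0)
        have hzw := huT (c i.castSucc) (w : G) z w.2 ih hwp' hw1' hzp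
        exact (Subgroup.zpowers_le.mpr hwb) hzw
    have := hall (Fin.last n)
    rwa [hl] at this
  have hzO : z ∈ Cfsg.pCore p G := by
    rw [Cfsg.Agent.Lib.Helper1.pCore_eq_iInf_sylow]
    exact Subgroup.mem_iInf.mpr key
  rw [hO, Subgroup.mem_bot] at hzO
  exact hz1 hzO

/-- For p-solvable G with p dividing #G: the Sylow p-subgroups are not chain-connected (G has a strongly p-embedded subgroup) iff O_p(G) = 1 and the Sylow p-subgroups are cyclic or generalized quaternion. -/
theorem result {G : Type*} [Group G] [Finite G]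
    (p : ℕ) [Fact p.Prime] (hdiv : p ∣ Nat.card G) (hsol : Cfsg.IsPSolvable p G) (P : Sylow p G) :
    ¬ Cfsg.IsSylowChainConnected p G ↔
      Cfsg.pCore p G = ⊥ ∧ (IsCyclic ↥P ∨ (p = 2 ∧ ∃ n : ℕ, Nonempty (↥P ≃* QuaternionGroup (2 ^ n)))) := by
  constructor
  · intro hncc
    constructor
    · by_contra hO
      apply hncc
      obtain ⟨⟨x, hx⟩, hx1⟩ := (Subgroup.ne_bot_iff_exists_ne_one).mp hO
      have hx1' : x ≠ 1 := fun h0 => hx1 (Subtype.ext h0)
      apply chainConnected_of_conn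
      intro S T
      by_cases hST : S = T
      · rw [hST]; exact Relation.ReflTransGen.refl
      · exact Relation.ReflTransGen.single ⟨hST, x, hx1',
          Cfsg.Agent.Lib.Helper1.pCore_le_sylow S hx, Cfsg.Agent.Lib.Helper1.pCore_le_sylow T hx⟩
    · by_contra hnot
      apply hncc
      have hnu : ¬ Cfsg.Agent.Lib.Helper10.UniqueOrderP p ↥(P : Subgroup G) := fun hu =>
        hnot (Cfsg.Agent.Lib.Helper10.isCyclic_or_quaternion_of_uniqueOrderP P.2 hu)
      obtain ⟨a, b, haP, hbP, hab, hap, hbp, hb1, hanb⟩ := exists_noncyclic_pair_of_not_unique P hnu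
      have htop := compStab_eq_top_of_isPSolvable hsol P a b haP hbP hab hap hbp hb1 hanb
      exact chainConnected_of_conn (conn_of_compStab_eq_top P htop)
  · rintro ⟨hO, hcq⟩
    apply not_chainConnected_of_unique P hdiv hO
    have hT : IsCyclic ↥(P : Subgroup G) ∨ ∃ n : ℕ, Nonempty (↥(P : Subgroup G) ≃* QuaternionGroup n) := by
      rcases hcq with h | ⟨-, n, hn⟩
      · exact Or.inl h
      · exact Or.inr ⟨2 ^ n, hn⟩
    intro x y hx hx1 hy
    exact Cfsg.Agent.Lib.Helper16.mem_zpowers_of_cyclic_or_quaternion P.2 hT x y hx hx1 hy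

end Cfsg.Agent.S3057
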