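import Cfsg.Statements.S3059
import Cfsg.Agent.Lib.Helper18.Conj
import Cfsg.Agent.Lib.Helper18.Basic
import Cfsg.Agent.Lib.Helper17.PResidual
import Cfsg.Agent.Lib.Helper17.SylowLemmas
import Cfsg.Agent.Lib.Helper17.StrongPEmb2

set_option autoImplicit false
open Cfsg
open Cfsg.Agent.Lib.Helper18

namespace Cfsg.Agent.S3059

section aux
variable {G : Type*} [Group G] {p : ℕ}

theorem mem_conjNormal_smul_iff (N : Subgroup G) [N.Normal] (Q : Sylow p ↥N) (k : G) (z : ↥N) :
    z ∈ (((MulAut.conjNormal k : MulAut ↥N) • Q : Sylow p ↥N) : Subgroup ↥N) ↔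
      (MulAut.conjNormal k : MulAut ↥N)⁻¹ • z ∈ (Q : Subgroup ↥N) := by
  rw [Sylow.pointwise_smul_def, Subgroup.mem_pointwise_smul_iff_inv_smul_mem]

/-- Conjugating a Sylow subgroup of a normal subgroup by an element of the big group. -/
theorem map_conjNormal_smul (N : Subgroup G) [N.Normal] (Q : Sylow p ↥N) (k : G) :
    (((MulAut.conjNormal k : MulAut ↥N) • Q : Sylow p ↥N) : Subgroup ↥N).map N.subtype =
      cj k ((Q : Subgroup ↥N).map N.subtype) := by
  ext x
  rw [mem_cj_iff]
  constructor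
  · rintro ⟨z, hz, rfl⟩
    have hz' := (mem_conjNormal_smul_iff N Q k z).mp hz
    refine ⟨_, hz', ?_⟩
    simp [MulAut.smul_def, MulAut.conjNormal_symm_apply]
  · rintro ⟨z, hz, hzx⟩
    have hxN : x ∈ N := by
      have h1 : k * (k⁻¹ * x * k) * k⁻¹ ∈ N := by
        apply ‹N.Normal›.conj_mem
        rw [← hzx]
        exact z.2
      have e : k * (k⁻¹ * x * k) * k⁻¹ = x := by group
      rwa [e] at h1
    refine ⟨⟨x, hxN⟩, ?_, rfl⟩
    apply (mem_conjNormal_smul_iff N Q k _).mpr
    have : (MulAut.conjNormal k : MulAut ↥N)⁻¹ • (⟨x, hxN⟩ : ↥N) = z := by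
      apply Subtype.ext
      simp [MulAut.smul_def, MulAut.conjNormal_symm_apply]
      exact hzx.symm
    rw [this]
    exact hz


end aux

/-- Let p be a prime and H a strongly p-embedded subgroup of the finite group G in the classical sense: H is proper, p divides the order of H, and H ∩ gHg⁻¹ has order prime to p for every g outside H. Then for every normal subgroup N of G of order divisible by p, G = H · O^p(N), where O^p(N) is the subgroup generated by the elements of N of order prime to p. -/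
theorem result {G : Type*} [Group G] [Finite G]
    (p : ℕ) [Fact p.Prime] (H : Subgroup G) (hH : H ≠ ⊤) (hpH : p ∣ Nat.card H)
    (hse : ∀ g : G, g ∉ H → ¬ p ∣ Nat.card ↥(H ⊓ H.map (MulAut.conj g).toMonoidHom))
    (N : Subgroup G) [N.Normal] (hN : p ∣ Nat.card N) :
    H ⊔ Subgroup.closure {g : G | g ∈ N ∧ (orderOf g).Coprime p} = ⊤ := by
  -- H contains the normalizers of its nontrivial p-subgroups
  have hnc : Cfsg.Agent.Lib.Helper17.PNormControl p H := by
    intro Q hQH hQ hQ1 g hg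
    by_contra hgH
    apply hse g hgH
    have hQle : Q ≤ H ⊓ H.map (MulAut.conj g).toMonoidHom := by
      refine le_inf hQH ?_
      have h1 : cj g Q = Q := (mem_normalizer_iff_cj g Q).mp hg
      rw [← h1]
      exact cj_mono g hQH
    have hpQ : p ∣ Nat.card Q := by
      rcases hQ.card_eq_or_dvd with h | h
      · exact absurd (Subgroup.card_eq_one.mp h) hQ1
      · exact h
    exact hpQ.trans (Subgroup.card_dvd_of_le hQle)
  -- a Sylow p-subgroup of G inside H
  obtain ⟨S⟩ : Nonempty (Sylow p ↥H) := inferInstance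
  have hS1 : (S : Subgroup ↥H) ≠ ⊥ := Cfsg.Agent.Lib.Helper17.sylow_ne_bot_of_dvd hpH S
  obtain ⟨P, hP⟩ := hnc.exists_sylow_eq_map S hS1
  have hPH : (P : Subgroup G) ≤ H := hP ▸ Subgroup.map_subtype_le _
  -- a Sylow p-subgroup of N inside H
  obtain ⟨Q₀⟩ : Nonempty (Sylow p ↥N) := inferInstance
  have hQ₀ : IsPGroup p ↥((Q₀ : Subgroup ↥N).map N.subtype) := Q₀.2.map _
  obtain ⟨k, -, hk⟩ := exists_conj_le_sylow_of_le P ⊤ le_top _ hQ₀ le_top
  set Q : Sylow p ↥N := (MulAut.conjNormal k : MulAut ↥N) • Q₀ with hQdef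
  have hQmap : (Q : Subgroup ↥N).map N.subtype = cj k ((Q₀ : Subgroup ↥N).map N.subtype) :=
    map_conjNormal_smul N Q₀ k
  have hQH : (Q : Subgroup ↥N).map N.subtype ≤ H := by
    rw [hQmap]; exact hk.trans hPH
  have hQ1 : (Q : Subgroup ↥N).map N.subtype ≠ ⊥ := by
    intro h
    have := (Subgroup.map_eq_bot_iff_of_injective _ N.subtype_injective).mp h
    exact Cfsg.Agent.Lib.Helper17.sylow_ne_bot_of_dvd hN Q this
  have hNQ : Subgroup.normalizer (((Q : Subgroup ↥N).map N.subtype : Subgroup G) : Set G) ≤ H :=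
    hnc _ hQH (Q.2.map _) hQ1
  -- N = Q K
  set K := Subgroup.closure {g : G | g ∈ N ∧ (orderOf g).Coprime p} with hK
  have hNK : N ≤ H ⊔ K := by
    have h1 := Cfsg.Agent.Lib.Helper17.sylow_sup_pResidual Q
    have h2 : ((Q : Subgroup ↥N) ⊔ Cfsg.pResidual p ↥N).map N.subtype = N := by
      rw [h1, ← MonoidHom.range_eq_map, Subgroup.range_subtype]
    rw [Subgroup.map_sup, Cfsg.Agent.Lib.Helper17.map_subtype_pResidual] at h2
    rw [← h2]
    exact sup_le_sup_right hQH _
  rw [eq_top_iff]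
  intro g _
  obtain ⟨n, hn, hng⟩ := Cfsg.Agent.Lib.Helper17.frattini_internal Q g
    (by rw [Subgroup.normalizer_eq_top]; trivial)
  have e : g = n * (n⁻¹ * g) := by group
  rw [e]
  exact Subgroup.mul_mem _ (hNK hn) (Subgroup.mem_sup_left (hNQ hng))

end Cfsg.Agent.S3059
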