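import Cfsg.Statements.S3062
import Cfsg.Agent.H5.Replacement
import Cfsg.Agent.Lib.Helper10.PGroup

set_option autoImplicit false
open Cfsg

namespace Cfsg.Agent.S3062

open Subgroup
open scoped commutatorElement

variable {S : Type*} [Group S]

/-- If the commutators of the generators are central in `H = ⟨gen⟩`, then `[H, H] ≤ C(H)`. -/
theorem commutator_le_centralizer_closure (gen : Set S)
    (hgen : ∀ g ∈ gen, ∀ g' ∈ gen,
      ⁅g, g'⁆ ∈ Subgroup.centralizer ((Subgroup.closure gen : Subgroup S) : Set S)) :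
    ⁅Subgroup.closure gen, Subgroup.closure gen⁆ ≤
      Subgroup.centralizer ((Subgroup.closure gen : Subgroup S) : Set S) := by
  set H := Subgroup.closure gen with hH
  set Z := Subgroup.centralizer ((H : Subgroup S) : Set S) with hZ
  have hcomm : ∀ c ∈ Z, ∀ y ∈ H, y * c * y⁻¹ = c := by
    intro c hc y hy
    have := Subgroup.mem_centralizer_iff.mp hc y hy
    rw [this]; group
  have hB : ∀ g ∈ gen, ∀ y ∈ H, ⁅g, y⁆ ∈ Z := by
    intro g hg y hy
    induction hy using Subgroup.closure_induction with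
    | mem y hy => exact hgen g hg y hy
    | one => rw [commutatorElement_one_right]; exact Z.one_mem
    | mul y₁ y₂ hy₁ hy₂ ih₁ ih₂ =>
      have e : ⁅g, y₁ * y₂⁆ = ⁅g, y₁⁆ * (y₁ * ⁅g, y₂⁆ * y₁⁻¹) := by
        simp only [commutatorElement_def]; group
      rw [e, hcomm _ ih₂ y₁ hy₁]
      exact Z.mul_mem ih₁ ih₂
    | inv y hy ih =>
      have e : ⁅g, y⁻¹⁆ = y⁻¹ * ⁅g, y⁆⁻¹ * (y⁻¹)⁻¹ := by
        simp only [commutatorElement_def]; group
      rw [e, hcomm _ (Z.inv_mem ih) y⁻¹ (H.inv_mem hy)]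
      exact Z.inv_mem ih
  rw [Subgroup.commutator_le]
  intro h hh y hy
  induction hh using Subgroup.closure_induction with
  | mem h hh => exact hB h hh y hy
  | one => rw [commutatorElement_one_left]; exact Z.one_mem
  | mul h₁ h₂ hh₁ hh₂ ih₁ ih₂ =>
    have e : ⁅h₁ * h₂, y⁆ = (h₁ * ⁅h₂, y⁆ * h₁⁻¹) * ⁅h₁, y⁆ := by
      simp only [commutatorElement_def]; group
    rw [e, hcomm _ ih₂ h₁ hh₁]
    exact Z.mul_mem ih₂ ih₁
  | inv h hh ih =>
    have e : ⁅h⁻¹, y⁆ = h⁻¹ * ⁅h, y⁆⁻¹ * (h⁻¹)⁻¹ := by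
      simp only [commutatorElement_def]; group
    rw [e, hcomm _ (Z.inv_mem ih) h⁻¹ (H.inv_mem hh)]
    exact Z.inv_mem ih

/-- `⟨D, x⟩` has class at most two when `D` is abelian and each `[d, x]` commutes with `x`
and with `D`. -/
theorem class_two_of_central_commutators (D : Subgroup S)
    (hD : ∀ a ∈ D, ∀ b ∈ D, a * b = b * a) (x : S)
    (hcx : ∀ d ∈ D, ⁅d, x⁆ * x = x * ⁅d, x⁆)
    (hcD : ∀ d ∈ D, ∀ e ∈ D, ⁅d, x⁆ * e = e * ⁅d, x⁆) :
    ⁅⁅D ⊔ Subgroup.zpowers x, D ⊔ Subgroup.zpowers x⁆, D ⊔ Subgroup.zpowers x⁆ = ⊥ := by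
  have hcl : D ⊔ Subgroup.zpowers x = Subgroup.closure ((D : Set S) ∪ {x}) := by
    rw [Subgroup.closure_union, Subgroup.closure_eq, Subgroup.zpowers_eq_closure]
  rw [Subgroup.commutator_eq_bot_iff_le_centralizer, hcl]
  apply commutator_le_centralizer_closure
  -- central elements: those commuting with `D` and `x`
  have hcent : ∀ c : S, (∀ e ∈ D, c * e = e * c) → c * x = x * c →
      c ∈ Subgroup.centralizer ((Subgroup.closure ((D : Set S) ∪ {x}) : Subgroup S) : Set S) := by
    intro c hcD' hcx'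
    rw [Subgroup.mem_centralizer_iff]
    intro y hy
    induction hy using Subgroup.closure_induction with
    | mem y hy =>
      rcases hy with hy | hy
      · exact (hcD' y hy).symm
      · rw [Set.mem_singleton_iff] at hy
        rw [hy]; exact hcx'.symm
    | one => simp
    | mul y₁ y₂ _ _ ih₁ ih₂ =>
      rw [mul_assoc, ih₂, ← mul_assoc, ih₁, mul_assoc]
    | inv y _ ih =>
      calc y⁻¹ * c = y⁻¹ * (c * y) * y⁻¹ := by group
        _ = y⁻¹ * (y * c) * y⁻¹ := by rw [ih]
        _ = c * y⁻¹ := by group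
  have hone : (1 : S) ∈ Subgroup.centralizer
      ((Subgroup.closure ((D : Set S) ∪ {x}) : Subgroup S) : Set S) := Subgroup.one_mem _
  rintro g (hg | hg) g' (hg' | hg')
  · have : ⁅g, g'⁆ = 1 := by
      rw [commutatorElement_eq_one_iff_commute]; exact hD g hg g' hg'
    rw [this]; exact hone
  · rw [Set.mem_singleton_iff] at hg'
    rw [hg']
    exact hcent _ (hcD g hg) (hcx g hg)
  · rw [Set.mem_singleton_iff] at hg
    rw [hg, ← commutatorElement_inv]
    exact Subgroup.inv_mem _ (hcent _ (hcD g' hg') (hcx g' hg'))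
  · rw [Set.mem_singleton_iff] at hg hg'
    rw [hg, hg', commutatorElement_self]
    exact hone

/-- Descending commutator chains in a nilpotent group: the last step before a property
starts to hold. -/
theorem exists_last_step [hnil : Group.IsNilpotent S] (M D : Subgroup S) (hMD : ⁅M, D⁆ ≤ M)
    (Q : Subgroup S → Prop) (hbot : Q ⊥) (hM : ¬ Q M) :
    ∃ X : Subgroup S, X ≤ M ∧ ¬ Q X ∧ Q ⁅X, D⁆ := by
  classical
  let c : ℕ → Subgroup S := fun i => Nat.rec M (fun _ X => ⁅X, D⁆) i
  have c0 : c 0 = M := rfl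
  have cs : ∀ i, c (i + 1) = ⁅c i, D⁆ := fun i => rfl
  have hcM : ∀ i, c i ≤ M := by
    intro i
    induction i with
    | zero => exact le_of_eq c0
    | succ i ih => rw [cs]; exact (Subgroup.commutator_mono ih le_rfl).trans hMD
  have hcl : ∀ i, c i ≤ Subgroup.lowerCentralSeries (⊤ : Subgroup S) i := by
    intro i
    induction i with
    | zero => exact le_top
    | succ i ih =>
      rw [cs, Subgroup.lowerCentralSeries_succ]
      exact Subgroup.commutator_mono ih le_top
  obtain ⟨n, hn⟩ := Subgroup.nilpotent_iff_lowerCentralSeries.mp hnil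
  have hex : ∃ i, Q (c i) := by
    refine ⟨n, ?_⟩
    have : c n = ⊥ := by
      rw [eq_bot_iff, ← hn]; exact hcl n
    rw [this]; exact hbot
  have hfind := Nat.find_spec hex
  have h0 : Nat.find hex ≠ 0 := by
    intro h0
    rw [h0, c0] at hfind
    exact hM hfind
  obtain ⟨j, hj⟩ : ∃ j, Nat.find hex = j + 1 := ⟨Nat.find hex - 1, by omega⟩
  refine ⟨c j, hcM j, Nat.find_min hex (by omega), ?_⟩
  rw [← cs, ← hj]
  exact hfind

theorem isMulCommutative_sup {A B : Subgroup S} (hA : IsMulCommutative A)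
    (hB : IsMulCommutative B) (hAB : A ≤ Subgroup.centralizer (B : Set S)) :
    IsMulCommutative ↥(A ⊔ B) := by
  have h : IsMulCommutative (Subgroup.closure ((A : Set S) ∪ B)) := by
    apply Subgroup.isMulCommutative_closure
    rintro x (hx | hx) y (hy | hy)
    · exact setLike_mul_comm hx hy
    · exact ((Subgroup.mem_centralizer_iff.mp (hAB hx)) y hy).symm
    · exact (Subgroup.mem_centralizer_iff.mp (hAB hy)) x hx
    · exact setLike_mul_comm hx hy
  rwa [Subgroup.closure_union, Subgroup.closure_eq, Subgroup.closure_eq] at h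

theorem isMulCommutative_of_le {A B : Subgroup S} (hB : IsMulCommutative B) (hAB : A ≤ B) :
    IsMulCommutative A :=
  IsMulCommutative.of_setLike_mul_comm fun _ ha _ hb => setLike_mul_comm (hAB ha) (hAB hb)

theorem le_centralizer_self {B : Subgroup S} (hB : IsMulCommutative B) :
    B ≤ Subgroup.centralizer (B : Set S) := fun x hx =>
  Subgroup.mem_centralizer_iff.mpr fun y hy => setLike_mul_comm hy hx

section DStar

variable [Finite S] {p : ℕ} [Fact p.Prime]

/-- A member of the `D*`-family centralizes every abelian normal subgroup. -/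
theorem le_centralizer_of_mem_dStarFamily (hS : IsPGroup p S) {D : Subgroup S}
    (hD : D ∈ Cfsg.dStarFamily S) (M : Subgroup S) [M.Normal] (hMc : IsMulCommutative M) :
    M ≤ Subgroup.centralizer (D : Set S) := by
  obtain ⟨hDc, hDprop⟩ := hD
  by_contra hnot
  haveI : Group.IsNilpotent S := hS.isNilpotent
  obtain ⟨X, hXM, hXn, hXQ⟩ := exists_last_step M D (Subgroup.commutator_le_left M D)
    (fun X => X ≤ Subgroup.centralizer (D : Set S)) bot_le hnot
  obtain ⟨b, hbX, hbC⟩ := SetLike.not_le_iff_exists.mp hXn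
  apply hbC
  rw [Subgroup.mem_centralizer_iff]
  have hcomm : ∀ d ∈ D, ⁅d, b⁆ ∈ M ∧ ⁅d, b⁆ ∈ Subgroup.centralizer (D : Set S) := by
    intro d hd
    have h1 : ⁅b, d⁆ ∈ ⁅X, D⁆ := Subgroup.commutator_mem_commutator hbX hd
    have h2 : ⁅b, d⁆ ∈ M :=
      ((Subgroup.commutator_mono hXM le_rfl).trans (Subgroup.commutator_le_left M D)) h1
    rw [← commutatorElement_inv]
    exact ⟨M.inv_mem h2, Subgroup.inv_mem _ (hXQ h1)⟩
  have hcl := class_two_of_central_commutators D (fun a ha c hc => setLike_mul_comm ha hc) b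
    (fun d hd => setLike_mul_comm (hcomm d hd).1 (hXM hbX))
    (fun d hd e he => ((Subgroup.mem_centralizer_iff.mp (hcomm d hd).2) e he).symm)
  intro d hd
  exact hDprop b hcl d hd

/-- An abelian subgroup centralizing a largest abelian subgroup lies in it. -/
theorem le_of_mem_maxAbelian {D B : Subgroup S} (hDc : IsMulCommutative D)
    (hB : B ∈ Cfsg.maxAbelianSubgroups S) (hDB : D ≤ Subgroup.centralizer (B : Set S)) :
    D ≤ B := by
  have hc := isMulCommutative_sup hDc hB.1 hDB
  have h1 : Nat.card ↥(D ⊔ B) ≤ Nat.card B := hB.2 _ hc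
  have h2 : B = D ⊔ B := Subgroup.eq_of_le_of_card_ge le_sup_right h1
  rw [h2]; exact le_sup_left

/-- If a member `D ≤ M` of the `D*`-family normalizes the abelian subgroup `B`, it centralizes
`B`. -/
theorem le_centralizer_of_le_normalizer {D : Subgroup S} (hD : D ∈ Cfsg.dStarFamily S)
    (M : Subgroup S) [hMn : M.Normal] (hMc : IsMulCommutative M) (hDM : D ≤ M) (B : Subgroup S)
    (hBc : IsMulCommutative B) (hDB : D ≤ Subgroup.normalizer (B : Set S)) :
    B ≤ Subgroup.centralizer (D : Set S) := by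
  obtain ⟨hDc, hDprop⟩ := hD
  intro x hx
  rw [Subgroup.mem_centralizer_iff]
  have hcB : ∀ d ∈ D, ⁅d, x⁆ ∈ B := by
    intro d hd
    have h1 : d * x * d⁻¹ ∈ B := (Subgroup.mem_normalizer_iff.mp (hDB hd) x).mp hx
    rw [commutatorElement_def]
    exact B.mul_mem h1 (B.inv_mem hx)
  have hcM : ∀ d ∈ D, ⁅d, x⁆ ∈ M := by
    intro d hd
    have h1 : x * d⁻¹ * x⁻¹ ∈ M := hMn.conj_mem d⁻¹ (M.inv_mem (hDM hd)) x
    have : ⁅d, x⁆ = d * (x * d⁻¹ * x⁻¹) := by rw [commutatorElement_def]; group
    rw [this]; exact M.mul_mem (hDM hd) h1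
  have hcl := class_two_of_central_commutators D (fun a ha c hc => setLike_mul_comm ha hc) x
    (fun d hd => setLike_mul_comm (hcB d hd) hx)
    (fun d hd e he => setLike_mul_comm (hcM d hd) (hDM he))
  intro d hd
  exact hDprop x hcl d hd

open Cfsg.H5 in
/-- Every largest abelian subgroup centralizes every member `D ≤ M` of the `D*`-family
(`M` an abelian normal subgroup): induction on `|M : B ∩ M|` using the replacement theorem. -/
theorem maxAbelian_le_centralizer (hS : IsPGroup p S) {D : Subgroup S}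
    (hD : D ∈ Cfsg.dStarFamily S) (M : Subgroup S) [hMn : M.Normal] (hMc : IsMulCommutative M)
    (hDM : D ≤ M) :
    ∀ n : ℕ, ∀ B ∈ Cfsg.maxAbelianSubgroups S, Nat.card M - Nat.card ↥(B ⊓ M) = n →
      B ≤ Subgroup.centralizer (D : Set S) := by
  intro n
  induction n using Nat.strong_induction_on with
  | _ n ih =>
  intro B hB hn
  by_cases hMB : M ≤ Subgroup.normalizer (B : Set S)
  · exact le_centralizer_of_le_normalizer hD M hMc hDM B hB.1 (hDM.trans hMB)
  · haveI : Group.IsNilpotent S := hS.isNilpotent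
    have hBc : IsMulCommutative B := hB.1
    have hDc : IsMulCommutative D := hD.1
    have hMB' : ¬ ⁅M, B⁆ ≤ B := fun h =>
      hMB (Subgroup.le_normalizer_iff_commutator_le_right.mpr h)
    obtain ⟨X, hXM, hXn, hXQ⟩ := exists_last_step M B (Subgroup.commutator_le_left M B)
      (fun X => ⁅X, B⁆ ≤ B) (by rw [Subgroup.commutator_bot_left]; exact bot_le) hMB'
    rw [Subgroup.commutator_le] at hXn
    push Not at hXn
    obtain ⟨b, hbX, x, hxB, hbx⟩ := hXn
    obtain ⟨U, hU⟩ : ∃ U : Subgroup S, U = Subgroup.zpowers b := ⟨_, rfl⟩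
    have hUX : U ≤ X := hU ▸ Subgroup.zpowers_le.mpr hbX
    have hUM : U ≤ M := hUX.trans hXM
    have hUB1 : ¬ ⁅U, B⁆ ≤ B := fun h =>
      hbx (h (Subgroup.commutator_mem_commutator (hU ▸ Subgroup.mem_zpowers b) hxB))
    have hUB2 : ⁅⁅U, B⁆, B⁆ ≤ B :=
      (Subgroup.commutator_mono (Subgroup.commutator_mono hUX le_rfl) le_rfl).trans hXQ
    -- fixed points of `B` on `M`
    have hfixB : fix M B = B ⊓ M := by
      apply le_antisymm
      · refine le_inf ?_ inf_le_left
        exact le_of_mem_maxAbelian (isMulCommutative_of_le hMc inf_le_left) hB inf_le_right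
      · exact le_inf inf_le_right (inf_le_left.trans (le_centralizer_self hBc))
    have hBM : B ≤ Subgroup.normalizer (M : Set S) := by
      rw [Subgroup.normalizer_eq_top]; exact le_top
    have hab : ⁅B, B⁆ ≤ Subgroup.centralizer (M : Set S) := by
      have : ⁅B, B⁆ = ⊥ :=
        Subgroup.commutator_eq_bot_iff_le_centralizer.mpr (le_centralizer_self hBc)
      rw [this]; exact bot_le
    have hgen : ∀ X' : Subgroup S, X' ≤ B →
        IsMulCommutative ↥(X' ⊔ fix M X') ∧
        Nat.card ↥(X' ⊔ fix M X') * Nat.card ↥(X' ⊓ fix M X') = mm M X' ∧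
        X' ⊓ fix M X' ≤ B ⊓ M := by
      intro X' hX'
      have hXF : X' ≤ Subgroup.centralizer ((fix M X' : Subgroup S) : Set S) :=
        Subgroup.le_centralizer_iff.mp inf_le_right
      refine ⟨isMulCommutative_sup (isMulCommutative_of_le hBc hX')
        (isMulCommutative_of_le hMc inf_le_left) hXF, ?_, inf_le_inf hX' inf_le_left⟩
      exact card_sup_mul_card_inf (le_normalizer_of_le_centralizer hXF)
    have hmax : ∀ X' : Subgroup S, X' ≤ B → mm M X' ≤ mm M B := by
      intro X' hX'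
      obtain ⟨h1, h2, h3⟩ := hgen X' hX'
      rw [← h2]
      have h4 : Nat.card ↥(X' ⊔ fix M X') ≤ Nat.card B := hB.2 _ h1
      have h5 : Nat.card ↥(X' ⊓ fix M X') ≤ Nat.card (fix M B) :=
        Subgroup.card_le_of_le (h3.trans (le_of_eq hfixB.symm))
      exact Nat.mul_le_mul h4 h5
    obtain ⟨r1, r2⟩ := replacement M B hBM hab hmax U hUM
    obtain ⟨B', hB'def⟩ : ∃ B' : Subgroup S,
        B' = B ⊓ Subgroup.centralizer ((⁅U, B⁆ : Subgroup S) : Set S) := ⟨_, rfl⟩
    rw [← hB'def] at r1 r2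
    have hB'B : B' ≤ B := hB'def ▸ inf_le_left
    obtain ⟨g1, g2, g3⟩ := hgen B' hB'B
    obtain ⟨Bs, hBsdef⟩ : ∃ Bs : Subgroup S, Bs = B' ⊔ fix M B' := ⟨_, rfl⟩
    rw [← hBsdef] at g1 g2
    -- `Bs` is again a largest abelian subgroup
    have hcard : Nat.card B ≤ Nat.card Bs := by
      have e1 : Nat.card Bs * Nat.card ↥(B' ⊓ fix M B') = Nat.card B * Nat.card (fix M B) := by
        rw [g2, r1]; rfl
      have e2 : Nat.card ↥(B' ⊓ fix M B') ≤ Nat.card (fix M B) :=
        Subgroup.card_le_of_le (g3.trans (le_of_eq hfixB.symm))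
      have e3 : 0 < Nat.card (fix M B) := Nat.card_pos
      have e4 : Nat.card B * Nat.card (fix M B) ≤ Nat.card Bs * Nat.card (fix M B) := by
        rw [← e1]; exact Nat.mul_le_mul_left _ e2
      exact Nat.le_of_mul_le_mul_right e4 e3
    have hBs : Bs ∈ Cfsg.maxAbelianSubgroups S :=
      ⟨g1, fun C hC => (hB.2 C hC).trans hcard⟩
    -- the intersection with `M` grows
    have hFle : fix M B' ≤ Bs ⊓ M := le_inf (hBsdef ▸ le_sup_right) inf_le_left
    have hle : B ⊓ M ≤ Bs ⊓ M := by
      rw [← hfixB]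
      refine le_trans ?_ hFle
      rw [r2]; exact le_sup_right
    have hlt : Nat.card ↥(B ⊓ M) < Nat.card ↥(Bs ⊓ M) := by
      by_contra hge
      push Not at hge
      have heq : B ⊓ M = Bs ⊓ M := Subgroup.eq_of_le_of_card_ge hle hge
      apply hUB1
      have h1 : ⁅U, B⁆ ≤ fix M B' := by rw [r2]; exact le_sup_left
      exact (h1.trans hFle).trans (heq ▸ inf_le_left)
    have hBsM : Nat.card ↥(Bs ⊓ M) ≤ Nat.card M := Subgroup.card_le_of_le inf_le_right
    have hcent : Bs ≤ Subgroup.centralizer (D : Set S) :=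
      ih (Nat.card M - Nat.card ↥(Bs ⊓ M)) (by omega) Bs hBs rfl
    have hDBs : D ≤ Bs := le_of_mem_maxAbelian hDc hBs (Subgroup.le_centralizer_iff.mp hcent)
    have hBsN : Bs ≤ Subgroup.normalizer (B : Set S) := by
      rw [hBsdef, r2]
      refine sup_le (hB'B.trans Subgroup.le_normalizer) (sup_le ?_ ?_)
      · exact Subgroup.le_normalizer_iff_commutator_le_right.mpr hUB2
      · rw [hfixB]; exact inf_le_left.trans Subgroup.le_normalizer
    exact le_centralizer_of_le_normalizer hD M hMc hDM B hBc (hDBs.trans hBsN)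

theorem maxAbelianSubgroups_nonempty : ∃ B : Subgroup S, B ∈ Cfsg.maxAbelianSubgroups S := by
  haveI : Nonempty {A : Subgroup S // IsMulCommutative A} := ⟨⟨⊥, inferInstance⟩⟩
  obtain ⟨A₀, hA₀⟩ := Finite.exists_max
    (fun A : {A : Subgroup S // IsMulCommutative A} => Nat.card (A : Subgroup S))
  exact ⟨A₀.1, A₀.2, fun B hB => hA₀ ⟨B, hB⟩⟩

end DStar

/-- Let S be a finite p-group, J(S) the subgroup generated by the abelian subgroups of S of largest order and Z(J(S)) its centre. Then Z(S) ≤ D*(S) ≤ Z(J(S)), and every maximal normal abelian subgroup of S contains D*(S). -/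
theorem result {S : Type*} [Group S] [Finite S] {p : ℕ} [Fact p.Prime]
    (hS : IsPGroup p S) :
    Subgroup.center S ≤ Cfsg.dStar S ∧
    Cfsg.dStar S ≤ Cfsg.thompsonSubgroupA S ⊓ Subgroup.centralizer (Cfsg.thompsonSubgroupA S : Set S) ∧
    ∀ A : Subgroup S, A.Normal → IsMulCommutative A →
      (∀ B : Subgroup S, B.Normal → IsMulCommutative B → A ≤ B → B = A) → Cfsg.dStar S ≤ A := by
  -- every member of the family lies in every maximal normal abelian subgroup
  have key : ∀ D ∈ Cfsg.dStarFamily S, ∀ A : Subgroup S, A.Normal → IsMulCommutative A →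
      (∀ B : Subgroup S, B.Normal → IsMulCommutative B → A ≤ B → B = A) → D ≤ A := by
    intro D hD A hAn hAc hAmax
    haveI := hAn
    have h1 : A ≤ Subgroup.centralizer (D : Set S) := le_centralizer_of_mem_dStarFamily hS hD A hAc
    have h2 : D ≤ Subgroup.centralizer (A : Set S) := Subgroup.le_centralizer_iff.mp h1
    exact h2.trans (Cfsg.Agent.Lib.Helper10.centralizer_le_of_maximal_normal_abelian hS A hAc hAmax)
  refine ⟨?_, ?_, ?_⟩
  · apply le_sSup
    refine ⟨inferInstance, ?_⟩
    intro x _ a ha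
    exact (Subgroup.mem_center_iff.mp ha x).symm
  · apply sSup_le
    intro D hD
    obtain ⟨M, hMn, hMc, hMmax⟩ := Cfsg.Agent.Lib.Helper10.exists_maximal_normal_abelian S
    haveI := hMn
    have hDM : D ≤ M := key D hD M hMn hMc hMmax
    have hall : ∀ B ∈ Cfsg.maxAbelianSubgroups S, B ≤ Subgroup.centralizer (D : Set S) :=
      fun B hB => maxAbelian_le_centralizer hS hD M hMc hDM _ B hB rfl
    obtain ⟨B₀, hB₀⟩ := maxAbelianSubgroups_nonempty (S := S)
    refine le_inf ?_ ?_
    · have h1 : D ≤ B₀ :=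
        le_of_mem_maxAbelian hD.1 hB₀ (Subgroup.le_centralizer_iff.mp (hall B₀ hB₀))
      exact h1.trans (le_sSup hB₀)
    · apply Subgroup.le_centralizer_iff.mp
      exact sSup_le hall
  · intro A hAn hAc hAmax
    apply sSup_le
    intro D hD
    exact key D hD A hAn hAc hAmax

end Cfsg.Agent.S3062
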