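import Cfsg.Statements.S3063
import Cfsg.Agent.S3062
import Cfsg.Agent.Lib.Helper18.Conj

set_option autoImplicit false
open Cfsg

namespace Cfsg.Agent.S3063

open Subgroup
open scoped commutatorElement
open Cfsg.Agent.Lib.Helper18 (cj mem_cj_iff conj_mem_cj cj_cj card_cj isMulCommutative_cj
  mem_normalizer_iff_cj)
open Cfsg.Agent.S3062 (isMulCommutative_sup isMulCommutative_of_le le_centralizer_self
  le_of_mem_maxAbelian)

variable {S : Type*} [Group S] [Finite S]

open Cfsg.H5 in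
/-- Thompson replacement relative to an abelian normal subgroup `M`: if `M` does not normalize
the largest abelian subgroup `B`, there is a largest abelian subgroup inside the normal closure
of `B` meeting `M` in a larger subgroup. -/
theorem replace_step (M : Subgroup S) [hMn : M.Normal] (hMc : IsMulCommutative M)
    (B : Subgroup S) (hB : B ∈ Cfsg.maxAbelianSubgroups S)
    (hMB : ¬ M ≤ normalizer (B : Set S)) :
    ∃ Bs ∈ Cfsg.maxAbelianSubgroups S, Bs ≤ normalClosure (B : Set S) ∧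
      Nat.card ↥(B ⊓ M) < Nat.card ↥(Bs ⊓ M) := by
  have hBc : IsMulCommutative B := hB.1
  have hMB' : ¬ ⁅M, B⁆ ≤ B := fun h =>
    hMB (Subgroup.le_normalizer_iff_commutator_le_right.mpr h)
  have hfixB : fix M B = B ⊓ M := by
    apply le_antisymm
    · refine le_inf ?_ inf_le_left
      exact le_of_mem_maxAbelian (isMulCommutative_of_le hMc inf_le_left) hB inf_le_right
    · exact le_inf inf_le_right (inf_le_left.trans (le_centralizer_self hBc))
  have hBM : B ≤ Subgroup.normalizer (M : Set S) := by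
    rw [Subgroup.normalizer_eq_top]; exact le_top
  have hab : ⁅B, B⁆ ≤ Subgroup.centralizer (M : Set S) := by
    have : ⁅B, B⁆ = ⊥ :=
      Subgroup.commutator_eq_bot_iff_le_centralizer.mpr (le_centralizer_self hBc)
    rw [this]; exact bot_le
  have hgen : ∀ X' : Subgroup S, X' ≤ B →
      IsMulCommutative ↥(X' ⊔ fix M X') ∧
      Nat.card ↥(X' ⊔ fix M X') * Nat.card ↥(X' ⊓ fix M X') = mm M X' ∧
      X' ⊓ fix M X' ≤ B ⊓ M := by
    intro X' hX'
    have hXF : X' ≤ Subgroup.centralizer ((fix M X' : Subgroup S) : Set S) :=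
      Subgroup.le_centralizer_iff.mp inf_le_right
    refine ⟨isMulCommutative_sup (isMulCommutative_of_le hBc hX')
      (isMulCommutative_of_le hMc inf_le_left) hXF, ?_, inf_le_inf hX' inf_le_left⟩
    exact Cfsg.H5.card_sup_mul_card_inf (Cfsg.H5.le_normalizer_of_le_centralizer hXF)
  have hmax : ∀ X' : Subgroup S, X' ≤ B → mm M X' ≤ mm M B := by
    intro X' hX'
    obtain ⟨h1, h2, h3⟩ := hgen X' hX'
    rw [← h2]
    have h4 : Nat.card ↥(X' ⊔ fix M X') ≤ Nat.card B := hB.2 _ h1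
    have h5 : Nat.card ↥(X' ⊓ fix M X') ≤ Nat.card (fix M B) :=
      Subgroup.card_le_of_le (h3.trans (le_of_eq hfixB.symm))
    exact Nat.mul_le_mul h4 h5
  obtain ⟨r1, r2⟩ := replacement M B hBM hab hmax M le_rfl
  obtain ⟨B', hB'def⟩ : ∃ B' : Subgroup S,
      B' = B ⊓ Subgroup.centralizer ((⁅M, B⁆ : Subgroup S) : Set S) := ⟨_, rfl⟩
  rw [← hB'def] at r1 r2
  have hB'B : B' ≤ B := hB'def ▸ inf_le_left
  obtain ⟨g1, g2, g3⟩ := hgen B' hB'B
  obtain ⟨Bs, hBsdef⟩ : ∃ Bs : Subgroup S, Bs = B' ⊔ fix M B' := ⟨_, rfl⟩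
  rw [← hBsdef] at g1 g2
  have hcard : Nat.card B ≤ Nat.card Bs := by
    have e1 : Nat.card Bs * Nat.card ↥(B' ⊓ fix M B') = Nat.card B * Nat.card (fix M B) := by
      rw [g2, r1]; rfl
    have e2 : Nat.card ↥(B' ⊓ fix M B') ≤ Nat.card (fix M B) :=
      Subgroup.card_le_of_le (g3.trans (le_of_eq hfixB.symm))
    have e3 : 0 < Nat.card (fix M B) := Nat.card_pos
    have e4 : Nat.card B * Nat.card (fix M B) ≤ Nat.card Bs * Nat.card (fix M B) := by
      rw [← e1]; exact Nat.mul_le_mul_left _ e2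
    exact Nat.le_of_mul_le_mul_right e4 e3
  have hBs : Bs ∈ Cfsg.maxAbelianSubgroups S :=
    ⟨g1, fun C hC => (hB.2 C hC).trans hcard⟩
  have hFle : fix M B' ≤ Bs ⊓ M := le_inf (hBsdef ▸ le_sup_right) inf_le_left
  have hle : B ⊓ M ≤ Bs ⊓ M := by
    rw [← hfixB]
    refine le_trans ?_ hFle
    rw [r2]; exact le_sup_right
  have hlt : Nat.card ↥(B ⊓ M) < Nat.card ↥(Bs ⊓ M) := by
    by_contra hge
    push Not at hge
    have heq : B ⊓ M = Bs ⊓ M := Subgroup.eq_of_le_of_card_ge hle hge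
    apply hMB'
    have h1 : ⁅M, B⁆ ≤ fix M B' := by rw [r2]; exact le_sup_left
    exact (h1.trans hFle).trans (heq ▸ inf_le_left)
  refine ⟨Bs, hBs, ?_, hlt⟩
  have hBnc : B ≤ normalClosure (B : Set S) := le_normalClosure
  rw [hBsdef, r2]
  refine sup_le (hB'B.trans hBnc) (sup_le ?_ ?_)
  · exact (Subgroup.commutator_mono le_rfl hBnc).trans (Subgroup.commutator_le_right _ _)
  · rw [hfixB]; exact inf_le_left.trans hBnc

/-- If `M ⊇ [S, S]` is abelian normal and normalizes the largest abelian subgroup `B`, and `B`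
is not normal, there is a largest abelian subgroup in the normal closure of `B` meeting `M` in
a larger subgroup. -/
theorem normal_step (M : Subgroup S) [hMn : M.Normal] (hMc : IsMulCommutative M)
    (hSM : commutator S ≤ M)
    (B : Subgroup S) (hB : B ∈ Cfsg.maxAbelianSubgroups S)
    (hMB : M ≤ normalizer (B : Set S)) (x : S) (hx : cj x B ≠ B) :
    ∃ A₁ ∈ Cfsg.maxAbelianSubgroups S, A₁ ≤ normalClosure (B : Set S) ∧
      Nat.card ↥(B ⊓ M) < Nat.card ↥(A₁ ⊓ M) := by
  have hBc : IsMulCommutative B := hB.1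
  obtain ⟨B₂, hB₂def⟩ : ∃ B₂ : Subgroup S, B₂ = cj x B := ⟨_, rfl⟩
  have hB₂c : IsMulCommutative B₂ := hB₂def ▸ isMulCommutative_cj x B hBc
  have hcardB₂ : Nat.card B₂ = Nat.card B := hB₂def ▸ card_cj x B
  have hB₂ : B₂ ∈ Cfsg.maxAbelianSubgroups S :=
    ⟨hB₂c, fun C hC => (hB.2 C hC).trans (le_of_eq hcardB₂.symm)⟩
  have hcomm : ∀ a b : S, ⁅a, b⁆ ∈ M := fun a b =>
    hSM (by rw [commutator_def]; exact Subgroup.commutator_mem_commutator (mem_top a) (mem_top b))
  -- `B₂ ≤ B M` and `B ≤ B₂ M`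
  have h1 : B₂ ≤ B ⊔ M := by
    rw [hB₂def]
    intro y hy
    rw [mem_cj_iff] at hy
    have : y = (x⁻¹ * y * x) * ⁅(x⁻¹ * y * x)⁻¹, x⁆ := by
      rw [commutatorElement_def]; group
    rw [this]
    exact Subgroup.mul_mem_sup hy (hcomm _ _)
  have h2 : B ≤ B₂ ⊔ M := by
    intro b hb
    have h : x * b * x⁻¹ ∈ B₂ := hB₂def ▸ conj_mem_cj x B hb
    have : b = (x * b * x⁻¹) * ⁅(x * b * x⁻¹)⁻¹, x⁻¹⁆ := by
      rw [commutatorElement_def]; group
    rw [this]
    exact Subgroup.mul_mem_sup h (hcomm _ _)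
  have hH : B ⊔ M = B₂ ⊔ M :=
    le_antisymm (sup_le h2 le_sup_right) (sup_le h1 le_sup_right)
  -- normalizers
  have hMB₂ : M ≤ normalizer (B₂ : Set S) := by
    intro m hm
    rw [mem_normalizer_iff_cj, hB₂def, cj_cj]
    have hm' : x⁻¹ * m * x ∈ normalizer (B : Set S) := by
      apply hMB
      have := hMn.conj_mem m hm x⁻¹
      rwa [inv_inv] at this
    rw [mem_normalizer_iff_cj] at hm'
    have e : m * x = x * (x⁻¹ * m * x) := by group
    rw [e, ← cj_cj, hm']
  have hBB₂ : B ≤ normalizer (B₂ : Set S) :=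
    h2.trans (sup_le le_normalizer hMB₂)
  have hB₂B : B₂ ≤ normalizer (B : Set S) :=
    h1.trans (sup_le le_normalizer hMB)
  -- the central subgroup `D`
  have hDcent : B ⊓ M ≤ centralizer ((B ⊔ M : Subgroup S) : Set S) := by
    rw [Cfsg.H5.centralizer_sup]
    exact le_inf (inf_le_left.trans (le_centralizer_self hBc))
      (inf_le_right.trans (le_centralizer_self hMc))
  have hD₂cent : B₂ ⊓ M ≤ centralizer ((B₂ ⊔ M : Subgroup S) : Set S) := by
    rw [Cfsg.H5.centralizer_sup]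
    exact le_inf (inf_le_left.trans (le_centralizer_self hB₂c))
      (inf_le_right.trans (le_centralizer_self hMc))
  have hDB₂ : B ⊓ M ≤ B₂ :=
    le_of_mem_maxAbelian (isMulCommutative_of_le hMc inf_le_right) hB₂
      (hDcent.trans (Subgroup.centralizer_le (SetLike.coe_subset_coe.mpr h1)))
  have hD₂B : B₂ ⊓ M ≤ B :=
    le_of_mem_maxAbelian (isMulCommutative_of_le hMc inf_le_right) hB
      (hD₂cent.trans (Subgroup.centralizer_le (SetLike.coe_subset_coe.mpr h2)))
  -- `X = B B₂`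
  obtain ⟨X, hXdef⟩ : ∃ X : Subgroup S, X = B ⊔ B₂ := ⟨_, rfl⟩
  have hBX : B ≤ X := hXdef ▸ le_sup_left
  have hB₂X : B₂ ≤ X := hXdef ▸ le_sup_right
  have hXsplit : X = B₂ ⊔ (M ⊓ X) := by
    apply le_antisymm
    · rw [hXdef]
      refine sup_le ?_ le_sup_left
      intro b hb
      have hb' : b ∈ B₂ ⊔ M := h2 hb
      rw [← SetLike.mem_coe, Subgroup.mul_normal] at hb'
      obtain ⟨b₂, hb₂, m, hm, rfl⟩ := hb'
      refine Subgroup.mul_mem_sup hb₂ ⟨hm, ?_⟩
      have : m = b₂⁻¹ * (b₂ * m) := by group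
      rw [this, ← hXdef]
      exact X.mul_mem (X.inv_mem (hB₂X hb₂)) (hBX hb)
    · exact sup_le hB₂X inf_le_right
  have hinf1 : B₂ ⊓ (M ⊓ X) = B ⊓ M := by
    apply le_antisymm
    · refine le_inf ?_ (inf_le_right.trans inf_le_left)
      exact (inf_le_inf le_rfl inf_le_left).trans hD₂B
    · exact le_inf hDB₂ (le_inf inf_le_right (inf_le_left.trans hBX))
  have hinf2 : (B ⊓ B₂) ⊓ (M ⊓ X) = B ⊓ M := by
    apply le_antisymm
    · exact le_inf (inf_le_left.trans inf_le_left) (inf_le_right.trans inf_le_left)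
    · exact le_inf (le_inf inf_le_left hDB₂) (le_inf inf_le_right (inf_le_left.trans hBX))
  -- the new subgroup
  obtain ⟨A₁, hA₁def⟩ : ∃ A₁ : Subgroup S, A₁ = (B ⊓ B₂) ⊔ (M ⊓ X) := ⟨_, rfl⟩
  have hZX : B ⊓ B₂ ≤ centralizer ((X : Subgroup S) : Set S) := by
    rw [hXdef, Cfsg.H5.centralizer_sup]
    exact le_inf (inf_le_left.trans (le_centralizer_self hBc))
      (inf_le_right.trans (le_centralizer_self hB₂c))
  have hZMX : B ⊓ B₂ ≤ centralizer ((M ⊓ X : Subgroup S) : Set S) :=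
    hZX.trans (Subgroup.centralizer_le inf_le_right)
  have hA₁c : IsMulCommutative A₁ := by
    rw [hA₁def]
    exact isMulCommutative_sup (isMulCommutative_of_le hBc inf_le_left)
      (isMulCommutative_of_le hMc inf_le_left) hZMX
  -- the three product formulas
  have E1 : Nat.card X * Nat.card ↥(B ⊓ B₂) = Nat.card B * Nat.card B₂ := by
    rw [hXdef]; exact Cfsg.H5.card_sup_mul_card_inf hBB₂
  have E2 : Nat.card X * Nat.card ↥(B ⊓ M) = Nat.card ↥(M ⊓ X) * Nat.card B₂ := by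
    have := Cfsg.H5.card_sup_mul_card_inf
      (H := M ⊓ X) (N := B₂) (inf_le_left.trans hMB₂)
    rw [sup_comm, ← hXsplit, inf_comm, hinf1] at this
    exact this
  have E3 : Nat.card A₁ * Nat.card ↥(B ⊓ M) = Nat.card ↥(B ⊓ B₂) * Nat.card ↥(M ⊓ X) := by
    have := Cfsg.H5.card_sup_mul_card_inf
      (H := B ⊓ B₂) (N := M ⊓ X) (Cfsg.H5.le_normalizer_of_le_centralizer hZMX)
    rw [← hA₁def, hinf2] at this
    exact this
  have hDpos : 0 < Nat.card ↥(B ⊓ M) := Nat.card_pos
  have hBpos : 0 < Nat.card B := Nat.card_pos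
  have hcardA₁ : Nat.card A₁ = Nat.card B := by
    have e : Nat.card A₁ * (Nat.card ↥(B ⊓ M) * Nat.card B) =
        Nat.card B * (Nat.card ↥(B ⊓ M) * Nat.card B) := by
      calc Nat.card A₁ * (Nat.card ↥(B ⊓ M) * Nat.card B)
          = (Nat.card A₁ * Nat.card ↥(B ⊓ M)) * Nat.card B₂ := by rw [hcardB₂]; ring
        _ = Nat.card ↥(B ⊓ B₂) * (Nat.card ↥(M ⊓ X) * Nat.card B₂) := by rw [E3]; ring
        _ = (Nat.card X * Nat.card ↥(B ⊓ B₂)) * Nat.card ↥(B ⊓ M) := by rw [← E2]; ring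
        _ = Nat.card B * (Nat.card ↥(B ⊓ M) * Nat.card B) := by rw [E1, hcardB₂]; ring
    exact Nat.eq_of_mul_eq_mul_right (Nat.mul_pos hDpos hBpos) e
  have hA₁ : A₁ ∈ Cfsg.maxAbelianSubgroups S :=
    ⟨hA₁c, fun C hC => (hB.2 C hC).trans (le_of_eq hcardA₁.symm)⟩
  refine ⟨A₁, hA₁, ?_, ?_⟩
  · have hBnc : B ≤ normalClosure (B : Set S) := le_normalClosure
    have hB₂nc : B₂ ≤ normalClosure (B : Set S) := by
      rw [hB₂def]
      intro y hy
      rw [mem_cj_iff] at hy
      have : y = x * (x⁻¹ * y * x) * x⁻¹ := by group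
      rw [this]
      exact (normalClosure_normal).conj_mem _ (hBnc hy) x
    rw [hA₁def]
    exact sup_le (inf_le_left.trans hBnc)
      (inf_le_right.trans (hXdef ▸ sup_le hBnc hB₂nc))
  · -- strict growth
    have hlt : Nat.card B₂ < Nat.card X := by
      by_contra hge
      push Not at hge
      have : B₂ = X := Subgroup.eq_of_le_of_card_ge hB₂X hge
      have hBB : B ≤ B₂ := this ▸ hBX
      have : B = B₂ := Subgroup.eq_of_le_of_card_ge hBB (le_of_eq hcardB₂)
      exact hx (hB₂def ▸ this.symm)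
    have h3 : Nat.card ↥(B ⊓ M) < Nat.card ↥(M ⊓ X) := by
      by_contra hge
      push Not at hge
      have : Nat.card ↥(M ⊓ X) * Nat.card B₂ < Nat.card X * Nat.card ↥(B ⊓ M) := by
        calc Nat.card ↥(M ⊓ X) * Nat.card B₂ ≤ Nat.card ↥(B ⊓ M) * Nat.card B₂ :=
              Nat.mul_le_mul_right _ hge
          _ < Nat.card ↥(B ⊓ M) * Nat.card X := Nat.mul_lt_mul_of_pos_left hlt hDpos
          _ = Nat.card X * Nat.card ↥(B ⊓ M) := mul_comm _ _
      rw [E2] at this
      exact lt_irrefl _ this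
    refine h3.trans_le (Subgroup.card_le_of_le ?_)
    rw [hA₁def]
    exact le_inf le_sup_right inf_le_left

theorem result {S : Type*} [Group S] [Finite S] {p : ℕ} [Fact p.Prime]
    (hS : IsPGroup p S) (hmeta : IsMulCommutative ↥(commutator S))
    (A : Subgroup S) (hA : A ∈ Cfsg.maxAbelianSubgroups S) :
    ∃ B ∈ Cfsg.maxAbelianSubgroups S, B.Normal ∧ B ≤ Subgroup.normalClosure (A : Set S) := by
  classical
  have _ := hS
  haveI hMn : (commutator S).Normal := by rw [commutator_def]; infer_instance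
  -- choose `B` in the normal closure with `|B ∩ S'|` maximal
  haveI : Nonempty {B : Subgroup S // B ∈ Cfsg.maxAbelianSubgroups S ∧
      B ≤ normalClosure (A : Set S)} := ⟨⟨A, hA, le_normalClosure⟩⟩
  obtain ⟨⟨B, hB, hBA⟩, hBmax⟩ := Finite.exists_max
    (fun B : {B : Subgroup S // B ∈ Cfsg.maxAbelianSubgroups S ∧
      B ≤ normalClosure (A : Set S)} => Nat.card ↥((B : Subgroup S) ⊓ commutator S))
  have hncle : normalClosure (B : Set S) ≤ normalClosure (A : Set S) :=
    normalClosure_le_normal hBA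
  have hMB : commutator S ≤ normalizer (B : Set S) := by
    by_contra hMB
    obtain ⟨Bs, hBs, hBsle, hlt⟩ := replace_step (commutator S) hmeta B hB hMB
    have := hBmax ⟨Bs, hBs, hBsle.trans hncle⟩
    simp only at this
    omega
  refine ⟨B, hB, ?_, hBA⟩
  by_contra hBn
  have : ∃ x : S, cj x B ≠ B := by
    by_contra hall
    push Not at hall
    apply hBn
    rw [← normalizer_eq_top_iff, eq_top_iff]
    intro x _
    rw [mem_normalizer_iff_cj]
    exact hall x
  obtain ⟨x, hx⟩ := this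
  obtain ⟨A₁, hA₁, hA₁le, hlt⟩ := normal_step (commutator S) hmeta le_rfl B hB hMB x hx
  have := hBmax ⟨A₁, hA₁, hA₁le.trans hncle⟩
  simp only at this
  omega

end Cfsg.Agent.S3063
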