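import Cfsg.Statements.S3064
import Cfsg.Agent.Lib.Helper18.FrobeniusThm

set_option autoImplicit false
open Cfsg

namespace Cfsg.Agent.S3064

open Subgroup
open scoped Pointwise

universe u

/-- The bundled hypotheses on `x`. -/
structure Hyp (p : ℕ) {G : Type u} [Group G] (x : G) : Prop where
  pel : ∃ k : ℕ, x ^ (p ^ k) = 1
  iso : ∀ Q : Subgroup G, IsPGroup p Q → x ∈ Q → ∀ g : G, g⁻¹ * x * g ∈ Q → g⁻¹ * x * g = x
  cop : ∀ H : Subgroup G, (Nat.card H).Coprime p → (∀ h ∈ H, x * h * x⁻¹ ∈ H) →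
    ∀ h ∈ H, x * h = h * x

variable {p : ℕ} [hp : Fact p.Prime] {G : Type u} [Group G]

theorem hyp_of [Finite G] (S : Sylow p G) (x : G) (hx : x ∈ S)
    (hU : ∀ g : G, g⁻¹ * x * g ∈ S → g⁻¹ * x * g = x)
    (hb : ∀ H : Subgroup G, (Nat.card H).Coprime p → (∀ h ∈ H, x * h * x⁻¹ ∈ H) →
      ∀ h ∈ H, x * h = h * x) : Hyp p x := by
  refine ⟨?_, ?_, hb⟩
  · obtain ⟨k, hk⟩ := S.2 ⟨x, hx⟩
    exact ⟨k, by simpa using congrArg Subtype.val hk⟩
  · intro Q hQ hxQ g hgQ
    obtain ⟨T, hT⟩ := hQ.exists_le_sylow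
    obtain ⟨c, hc⟩ := MulAction.exists_smul_eq G S T
    have hmem : ∀ y : G, y ∈ T → c⁻¹ * y * c ∈ S := by
      intro y hy
      rw [← hc] at hy
      have hy' : y ∈ MulAut.conj c • (S : Subgroup G) := hy
      rw [Subgroup.mem_pointwise_smul_iff_inv_smul_mem] at hy'
      have hy'' : c⁻¹ * y * c ∈ (S : Subgroup G) := by simpa [MulAut.smul_def] using hy'
      exact hy''
    have h1 : c⁻¹ * x * c = x := hU c (hmem x (hT hxQ))
    have h2 := hmem _ (hT hgQ)
    have e : c⁻¹ * (g⁻¹ * x * g) * c = (g * c)⁻¹ * x * (g * c) := by group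
    rw [e] at h2
    have h3 := hU _ h2
    have e2 : g⁻¹ * x * g = c * ((g * c)⁻¹ * x * (g * c)) * c⁻¹ := by group
    rw [e2, h3]
    have e3 : x = c * (c⁻¹ * x * c) * c⁻¹ := by group
    nth_rewrite 2 [e3]
    rw [h1]

/-- The hypotheses pass to subgroups containing `x`. -/
theorem Hyp.subgroup {x : G} (h : Hyp p x) (L : Subgroup G) (hxL : x ∈ L) :
    Hyp p (⟨x, hxL⟩ : L) := by
  refine ⟨?_, ?_, ?_⟩
  · obtain ⟨k, hk⟩ := h.pel
    exact ⟨k, Subtype.ext (by simpa using hk)⟩
  · intro Q hQ hxQ l hlQ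
    have h1 := h.iso (Q.map L.subtype) (hQ.map _) ⟨⟨x, hxL⟩, hxQ, rfl⟩ (l : G)
      ⟨_, hlQ, by simp⟩
    exact Subtype.ext (by simpa using h1)
  · intro H hH hinv k hk
    have h1 := h.cop (H.map L.subtype)
      (by rwa [Subgroup.card_map_of_injective L.subtype_injective])
      (by
        rintro _ ⟨y, hy, rfl⟩
        exact ⟨_, hinv y hy, by simp⟩)
      (k : G) ⟨k, hk, rfl⟩
    exact Subtype.ext (by simpa using h1)

/-- Commuting `p`-elements lie in a common `p`-subgroup. -/
theorem isPGroup_closure_pair {x y : G} (hx : ∃ k : ℕ, x ^ (p ^ k) = 1)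
    (hy : ∃ k : ℕ, y ^ (p ^ k) = 1) (hxy : x * y = y * x) :
    IsPGroup p (Subgroup.zpowers x ⊔ Subgroup.zpowers y : Subgroup G) := by
  have hzx : IsPGroup p (Subgroup.zpowers x) := by
    obtain ⟨k, hk⟩ := hx
    intro ⟨g, hg⟩
    obtain ⟨n, rfl⟩ := Subgroup.mem_zpowers_iff.mp hg
    refine ⟨k, Subtype.ext ?_⟩
    simp only [Subgroup.coe_pow, Subgroup.coe_one]
    rw [← zpow_natCast, ← zpow_mul, mul_comm, zpow_mul, zpow_natCast, hk, one_zpow]
  have hzy : IsPGroup p (Subgroup.zpowers y) := by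
    obtain ⟨k, hk⟩ := hy
    intro ⟨g, hg⟩
    obtain ⟨n, rfl⟩ := Subgroup.mem_zpowers_iff.mp hg
    refine ⟨k, Subtype.ext ?_⟩
    simp only [Subgroup.coe_pow, Subgroup.coe_one]
    rw [← zpow_natCast, ← zpow_mul, mul_comm, zpow_mul, zpow_natCast, hk, one_zpow]
  apply IsPGroup.to_sup_of_normal_right' hzx hzy
  rw [Subgroup.zpowers_le, Subgroup.mem_normalizer_iff]
  intro h
  have e : ∀ h : G, h ∈ Subgroup.zpowers y → x * h * x⁻¹ = h := by
    intro h hh
    obtain ⟨n, rfl⟩ := Subgroup.mem_zpowers_iff.mp hh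
    have : Commute x (y ^ n) := (show Commute x y from hxy).zpow_right n
    rw [this.eq, mul_inv_cancel_right]
  constructor
  · intro hh
    rw [e h hh]; exact hh
  · intro hh
    have := e _ hh
    have h3 : x * h * x⁻¹ = h := mul_left_cancel (mul_right_cancel this)
    rw [← h3]; exact hh

/-- Splitting off a central subgroup of prime order with coprime index (Schur–Zassenhaus). -/
theorem exists_pow_subgroup [Finite G] (N Q : Subgroup G) (hNc : N ≤ Subgroup.center G)
    (q m : ℕ) (hN : Nat.card N = q) (hNQ : N ≤ Q) (hQ : Nat.card Q = q * m)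
    (hqm : q.Coprime m) :
    ∃ P : Subgroup G, P ≤ Q ∧ Nat.card P = m ∧ (∀ l ∈ Q, (l ∈ P ↔ l ^ m = 1)) ∧
      ∀ l ∈ Q, ∃ n ∈ N, ∃ s ∈ P, l = n * s := by
  classical
  have hq0 : 0 < q := by rw [← hN]; exact Nat.card_pos
  have hNn : (N.subgroupOf Q).Normal := by
    constructor
    intro n hn g
    rw [Subgroup.mem_subgroupOf] at hn ⊢
    have := Subgroup.mem_center_iff.mp (hNc hn) (g : G)
    simp only [Subgroup.coe_mul, Subgroup.coe_inv]
    rw [this, mul_inv_cancel_right]
    exact hn
  have hcN : Nat.card (N.subgroupOf Q) = q := by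
    rw [Nat.card_congr (Subgroup.subgroupOfEquivOfLe hNQ).toEquiv, hN]
  have hidx : (N.subgroupOf Q).index = m := by
    have := Subgroup.index_mul_card (N.subgroupOf Q)
    rw [hcN, hQ, mul_comm] at this
    exact Nat.eq_of_mul_eq_mul_left hq0 this
  obtain ⟨H₁, hH₁⟩ := Subgroup.exists_right_complement'_of_coprime
    (N := N.subgroupOf Q) (by rw [hcN, hidx]; exact hqm)
  have hcH : Nat.card H₁ = m := by
    have := hH₁.card_mul_card
    rw [hcN, hQ] at this
    exact Nat.eq_of_mul_eq_mul_left hq0 this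
  have hdec : ∀ l ∈ Q, ∃ n ∈ N, ∃ s ∈ H₁.map Q.subtype, l = n * s := by
    intro l hl
    obtain ⟨⟨n', s'⟩, hns⟩ := hH₁.2 ⟨l, hl⟩
    refine ⟨(n' : Q), ?_, (s' : Q), ⟨s', s'.2, rfl⟩, ?_⟩
    · have h0 : (n' : Q) ∈ N.subgroupOf Q := n'.2
      rwa [Subgroup.mem_subgroupOf] at h0
    · have := congrArg Subtype.val hns
      simpa using this.symm
  have hpowP : ∀ s ∈ H₁.map Q.subtype, s ^ m = 1 := by
    rintro _ ⟨s, hs, rfl⟩
    have : (⟨s, hs⟩ : H₁) ^ Nat.card H₁ = 1 := pow_card_eq_one'
    rw [hcH] at this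
    have h2 := congrArg (fun t : H₁ => ((t : Q) : G)) this
    simpa using h2
  refine ⟨H₁.map Q.subtype, ?_, ?_, ?_, hdec⟩
  · rintro _ ⟨s, _, rfl⟩
    exact s.2
  · rw [Subgroup.card_map_of_injective Q.subtype_injective, hcH]
  · intro l hl
    constructor
    · exact hpowP l
    · intro hlm
      obtain ⟨n, hn, s, hs, rfl⟩ := hdec l hl
      have hcomm : Commute n s := (Subgroup.mem_center_iff.mp (hNc hn) s).symm
      rw [hcomm.mul_pow, hpowP s hs, mul_one] at hlm
      have hnq : n ^ q = 1 := by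
        have : (⟨n, hn⟩ : N) ^ Nat.card N = 1 := pow_card_eq_one'
        rw [hN] at this
        simpa using congrArg Subtype.val this
      have h1 : orderOf n ∣ Nat.gcd q m :=
        Nat.dvd_gcd (orderOf_dvd_of_pow_eq_one hnq) (orderOf_dvd_of_pow_eq_one hlm)
      rw [hqm.gcd_eq_one, Nat.dvd_one, orderOf_eq_one_iff] at h1
      rw [h1, one_mul]
      exact hs

theorem card_comap_mk' [Finite G] (N : Subgroup G) [N.Normal] (X : Subgroup (G ⧸ N)) :
    Nat.card (X.comap (QuotientGroup.mk' N)) = Nat.card N * Nat.card X := by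
  have h1 := Subgroup.index_comap_of_surjective X (QuotientGroup.mk'_surjective N)
  have h2 := Subgroup.card_mul_index (X.comap (QuotientGroup.mk' N))
  have h3 := Subgroup.card_mul_index X
  have h4 := Subgroup.card_eq_card_quotient_mul_card_subgroup N
  have hpos : 0 < X.index := Nat.pos_of_ne_zero Subgroup.index_ne_zero_of_finite
  rw [h1, h4, ← h3] at h2
  apply Nat.eq_of_mul_eq_mul_right hpos
  rw [h2]; ring

theorem pow_eq_one_of_coprime {x : G} {a b : ℕ} (ha : x ^ a = 1) (hb : x ^ b = 1)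
    (hab : a.Coprime b) : x = 1 := by
  have h1 : orderOf x ∣ Nat.gcd a b :=
    Nat.dvd_gcd (orderOf_dvd_of_pow_eq_one ha) (orderOf_dvd_of_pow_eq_one hb)
  rw [hab.gcd_eq_one, Nat.dvd_one, orderOf_eq_one_iff] at h1
  exact h1

theorem Hyp.quotient [Finite G] {x : G} (h : Hyp p x) (z : G) (hz : z ∈ Subgroup.center G)
    (q : ℕ) (hq : q.Prime) (hzq : orderOf z = q) [hNn : (Subgroup.zpowers z).Normal] :
    Hyp p ((x : G) : G ⧸ Subgroup.zpowers z) := by
  classical
  set N := Subgroup.zpowers z with hNdef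
  have hNc : N ≤ Subgroup.center G := Subgroup.zpowers_le.mpr hz
  have hNcard : Nat.card N = q := by rw [Nat.card_zpowers, hzq]
  have hNpow : ∀ n ∈ N, n ^ q = 1 := by
    intro n hn
    have : (⟨n, hn⟩ : N) ^ Nat.card N = 1 := pow_card_eq_one'
    rw [hNcard] at this
    simpa using congrArg Subtype.val this
  obtain ⟨k, hk⟩ := h.pel
  have hpp : p.Prime := hp.out
  refine ⟨⟨k, ?_⟩, ?_, ?_⟩
  · rw [← QuotientGroup.mk_pow, hk]; rfl
  · -- isolation
    intro Qb hQb hxQ gb hgQ
    obtain ⟨g, rfl⟩ := QuotientGroup.mk_surjective gb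
    set Q := Qb.comap (QuotientGroup.mk' N) with hQdef
    have hxQ' : x ∈ Q := hxQ
    have hyQ' : g⁻¹ * x * g ∈ Q := by
      rw [hQdef, Subgroup.mem_comap]
      simpa using hgQ
    have hNQ : N ≤ Q := by
      intro n hn
      rw [hQdef, Subgroup.mem_comap]
      have : QuotientGroup.mk' N n = 1 := (QuotientGroup.eq_one_iff n).mpr hn
      rw [this]; exact one_mem _
    obtain ⟨a, ha⟩ := IsPGroup.iff_card.mp hQb
    have hcQ : Nat.card Q = q * p ^ a := by rw [hQdef, card_comap_mk', hNcard, ha]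
    have hgoal : g⁻¹ * x * g = x := by
      by_cases hqp : q = p
      · apply h.iso Q _ hxQ' g hyQ'
        apply IsPGroup.of_card (n := a + 1)
        rw [hcQ, hqp, pow_succ, mul_comm]
      · have hcop : q.Coprime (p ^ a) :=
          Nat.Coprime.pow_right a ((Nat.coprime_primes hq hpp).mpr hqp)
        obtain ⟨P, hPQ, hPc, hPiff, -⟩ := exists_pow_subgroup N Q hNc q (p ^ a) hNcard hNQ hcQ hcop
        have hPp : IsPGroup p P := IsPGroup.of_card hPc
        have hmemP : ∀ y ∈ Q, y ^ (p ^ k) = 1 → y ∈ P := by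
          intro y hy hyk
          rw [hPiff y hy]
          have h1 : y ^ (p ^ a) ∈ N := by
            rw [← QuotientGroup.eq_one_iff, QuotientGroup.mk_pow]
            have hyQb : (y : G ⧸ N) ∈ Qb := hy
            have : (⟨(y : G ⧸ N), hyQb⟩ : Qb) ^ Nat.card Qb = 1 := pow_card_eq_one'
            rw [ha] at this
            simpa using congrArg Subtype.val this
          apply pow_eq_one_of_coprime (hNpow _ h1) _
            (Nat.Coprime.pow_right k ((Nat.coprime_primes hq hpp).mpr hqp))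
          rw [← pow_mul, mul_comm, pow_mul, hyk, one_pow]
        have hxP : x ∈ P := hmemP x hxQ' hk
        have hyP : g⁻¹ * x * g ∈ P := by
          apply hmemP _ hyQ'
          have : (g⁻¹ * x * g) ^ (p ^ k) = g⁻¹ * x ^ (p ^ k) * g⁻¹⁻¹ := by
            rw [← conj_pow, inv_inv]
          rw [this, hk]; group
        exact h.iso P hPp hxP g hyP
    have := congrArg (QuotientGroup.mk' N) hgoal
    simpa using this
  · -- coprime subgroups
    intro Hb hHb hinv kb hkb
    obtain ⟨k₀, rfl⟩ := QuotientGroup.mk_surjective kb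
    set L := Hb.comap (QuotientGroup.mk' N) with hLdef
    have hNL : N ≤ L := by
      intro n hn
      rw [hLdef, Subgroup.mem_comap]
      have : QuotientGroup.mk' N n = 1 := (QuotientGroup.eq_one_iff n).mpr hn
      rw [this]; exact one_mem _
    have hcL : Nat.card L = q * Nat.card Hb := by rw [hLdef, card_comap_mk', hNcard]
    have hLinv : ∀ l ∈ L, x * l * x⁻¹ ∈ L := by
      intro l hl
      rw [hLdef, Subgroup.mem_comap]
      have := hinv _ hl
      simpa using this
    have hkL : k₀ ∈ L := hkb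
    have hcomm : x * k₀ = k₀ * x := by
      by_cases hqp : q = p
      · have hcop : q.Coprime (Nat.card Hb) := by rw [hqp]; exact hHb.symm
        obtain ⟨P, hPL, hPc, hPiff, hdec⟩ :=
          exists_pow_subgroup N L hNc q (Nat.card Hb) hNcard hNL hcL hcop
        have hPinv : ∀ s ∈ P, x * s * x⁻¹ ∈ P := by
          intro s hs
          rw [hPiff _ (hLinv s (hPL hs)), conj_pow, (hPiff s (hPL hs)).mp hs]
          group
        have hPcomm := h.cop P (by rw [hPc]; exact hHb) hPinv
        obtain ⟨n, hn, s, hs, rfl⟩ := hdec k₀ hkL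
        have hnc := Subgroup.mem_center_iff.mp (hNc hn) x
        rw [← mul_assoc, hnc, mul_assoc, hPcomm s hs, mul_assoc]
      · apply h.cop L _ hLinv k₀ hkL
        rw [hcL]
        exact Nat.Coprime.mul_left ((Nat.coprime_primes hq hpp).mpr hqp) hHb
    have := congrArg (QuotientGroup.mk' N) hcomm
    simpa using this

/-- If the image of `x` is central modulo a central subgroup of prime order, `x` is central. -/
theorem central_of_quotient_central [Finite G] {x : G} (h : Hyp p x) (z : G)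
    (hz : z ∈ Subgroup.center G) (q : ℕ) (hq : q.Prime) (hzq : orderOf z = q)
    [hNn : (Subgroup.zpowers z).Normal]
    (hc : ((x : G) : G ⧸ Subgroup.zpowers z) ∈ Subgroup.center (G ⧸ Subgroup.zpowers z)) :
    x ∈ Subgroup.center G := by
  classical
  set N := Subgroup.zpowers z with hNdef
  have hNc : N ≤ Subgroup.center G := Subgroup.zpowers_le.mpr hz
  have hNcard : Nat.card N = q := by rw [Nat.card_zpowers, hzq]
  have hNpow : ∀ n ∈ N, n ^ q = 1 := by
    intro n hn
    have : (⟨n, hn⟩ : N) ^ Nat.card N = 1 := pow_card_eq_one'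
    rw [hNcard] at this
    simpa using congrArg Subtype.val this
  obtain ⟨k, hk⟩ := h.pel
  have hpp : p.Prime := hp.out
  have key : ∀ g : G, g⁻¹ * x * g = x := by
    intro g
    have hn : x⁻¹ * (g⁻¹ * x * g) ∈ N := by
      rw [← QuotientGroup.eq_one_iff]
      have h1 := Subgroup.mem_center_iff.mp hc ((g : G) : G ⧸ N)
      rw [QuotientGroup.mk_mul, QuotientGroup.mk_inv, QuotientGroup.mk_mul, QuotientGroup.mk_mul,
        QuotientGroup.mk_inv, mul_assoc, ← h1, inv_mul_cancel_left, inv_mul_cancel]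
    set n := x⁻¹ * (g⁻¹ * x * g) with hndef
    have hxn : g⁻¹ * x * g = x * n := by rw [hndef]; group
    have hncomm : Commute x n := Subgroup.mem_center_iff.mp (hNc hn) x
    by_cases hqp : q = p
    · have hzp : ∃ k : ℕ, z ^ (p ^ k) = 1 := ⟨1, by rw [pow_one, ← hqp, ← hzq, pow_orderOf_eq_one]⟩
      have hxz : x * z = z * x := Subgroup.mem_center_iff.mp hz x
      have hQ := isPGroup_closure_pair (p := p) ⟨k, hk⟩ hzp hxz
      apply h.iso _ hQ (Subgroup.mem_sup_left (Subgroup.mem_zpowers x)) g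
      rw [hxn]
      exact Subgroup.mul_mem _ (Subgroup.mem_sup_left (Subgroup.mem_zpowers x))
        (Subgroup.mem_sup_right hn)
    · have h1 : (g⁻¹ * x * g) ^ (p ^ k) = 1 := by
        have : (g⁻¹ * x * g) ^ (p ^ k) = g⁻¹ * x ^ (p ^ k) * g⁻¹⁻¹ := by
          rw [← conj_pow, inv_inv]
        rw [this, hk]; group
      rw [hxn, hncomm.mul_pow, hk, one_mul] at h1
      have hn1 : n = 1 := pow_eq_one_of_coprime (hNpow n hn) h1
        (Nat.Coprime.pow_right k ((Nat.coprime_primes hq hpp).mpr hqp))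
      rw [hxn, hn1, mul_one]
  rw [Subgroup.mem_center_iff]
  intro g
  have := key g
  calc g * x = g * (g⁻¹ * x * g) := by rw [this]
    _ = x * g := by group

/-- A Sylow `p`-subgroup containing `x` centralizes `x`. -/
theorem exists_sylow_le_centralizer [Finite G] {x : G} (h : Hyp p x) :
    ∃ T : Sylow p G, (T : Subgroup G) ≤ Subgroup.centralizer {x} := by
  have hzx : IsPGroup p (Subgroup.zpowers x) := by
    obtain ⟨k, hk⟩ := h.pel
    intro ⟨g, hg⟩
    obtain ⟨n, rfl⟩ := Subgroup.mem_zpowers_iff.mp hg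
    refine ⟨k, Subtype.ext ?_⟩
    simp only [Subgroup.coe_pow, Subgroup.coe_one]
    rw [← zpow_natCast, ← zpow_mul, mul_comm, zpow_mul, zpow_natCast, hk, one_zpow]
  obtain ⟨T, hT⟩ := hzx.exists_le_sylow
  refine ⟨T, ?_⟩
  intro t ht
  have hxT : x ∈ (T : Subgroup G) := hT (Subgroup.mem_zpowers x)
  have h1 := h.iso T T.2 hxT t (Subgroup.mul_mem _ (Subgroup.mul_mem _ (Subgroup.inv_mem _ ht) hxT) ht)
  rw [Subgroup.mem_centralizer_iff]
  intro y hy
  rw [Set.mem_singleton_iff] at hy
  subst hy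
  calc y * t = t * (t⁻¹ * y * t) := by group
    _ = t * y := by rw [h1]

theorem main : ∀ (n : ℕ) (G : Type u) [Group G] [Finite G] (x : G),
    Nat.card G = n → Hyp p x → x ∈ Subgroup.center G := by
  intro n
  induction n using Nat.strong_induction_on with
  | _ n ih =>
  intro G _ _ x hcard h
  classical
  by_contra hxc
  set C : Subgroup G := Subgroup.centralizer {x} with hCdef
  have hmemC : ∀ g : G, g ∈ C ↔ g * x = x * g := by
    intro g
    rw [hCdef, Subgroup.mem_centralizer_iff]
    constructor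
    · intro hg; exact (hg x rfl).symm
    · intro hg y hy
      rw [Set.mem_singleton_iff] at hy
      subst hy; exact hg.symm
  have hxC : x ∈ C := (hmemC x).mpr rfl
  have hCtop : C ≠ ⊤ := by
    intro hC
    apply hxc
    rw [Subgroup.mem_center_iff]
    intro g
    exact (hmemC g).mp (hC ▸ Subgroup.mem_top g)
  -- Step A: proper subgroups containing x centralize x
  have stepA : ∀ L : Subgroup G, L ≠ ⊤ → x ∈ L → L ≤ C := by
    intro L hL hxL
    have hlt : Nat.card L < n := by
      rw [← hcard]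
      refine lt_of_le_of_ne (Subgroup.card_le_card_group L) ?_
      intro he
      exact hL ((Subgroup.card_eq_iff_eq_top L).mp he)
    have h1 := ih (Nat.card L) hlt L ⟨x, hxL⟩ rfl (h.subgroup L hxL)
    intro l hl
    rw [hmemC]
    have h2 := Subgroup.mem_center_iff.mp h1 ⟨l, hl⟩
    simpa using congrArg Subtype.val h2
  -- Step C: for g ∉ C, x and its conjugate generate G
  have stepC : ∀ g : G, g ∉ C → Subgroup.closure {x, g⁻¹ * x * g} = ⊤ := by
    intro g hg
    by_contra hne
    apply hg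
    have hxL : x ∈ Subgroup.closure {x, g⁻¹ * x * g} :=
      Subgroup.subset_closure (Set.mem_insert _ _)
    have hyL : g⁻¹ * x * g ∈ Subgroup.closure {x, g⁻¹ * x * g} :=
      Subgroup.subset_closure (Set.mem_insert_of_mem _ rfl)
    have hyC : g⁻¹ * x * g ∈ C := stepA _ hne hxL hyL
    have hcomm : x * (g⁻¹ * x * g) = (g⁻¹ * x * g) * x := ((hmemC _).mp hyC).symm
    obtain ⟨k, hk⟩ := h.pel
    have hyk : (g⁻¹ * x * g) ^ (p ^ k) = 1 := by
      have : (g⁻¹ * x * g) ^ (p ^ k) = g⁻¹ * x ^ (p ^ k) * g⁻¹⁻¹ := by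
        rw [← conj_pow, inv_inv]
      rw [this, hk]; group
    have hQ := isPGroup_closure_pair (p := p) ⟨k, hk⟩ ⟨k, hyk⟩ hcomm
    have h1 := h.iso _ hQ (Subgroup.mem_sup_left (Subgroup.mem_zpowers x)) g
      (Subgroup.mem_sup_right (Subgroup.mem_zpowers _))
    rw [hmemC]
    calc g * x = g * (g⁻¹ * x * g) := by rw [h1]
      _ = x * g := by group
  -- Step D: C ∩ C^g is central for g ∉ C
  have stepD : ∀ g : G, g ∉ C → C ⊓ (MulAut.conj g • C) ≤ Subgroup.center G := by
    intro g hg c hc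
    obtain ⟨hc1, hc2⟩ := Subgroup.mem_inf.mp hc
    rw [Subgroup.mem_pointwise_smul_iff_inv_smul_mem] at hc2
    have hc2' : g⁻¹ * c * g ∈ C := by simpa [MulAut.smul_def] using hc2
    have hginv : g⁻¹ ∉ C := fun hgi => hg (by simpa using Subgroup.inv_mem _ hgi)
    have htop := stepC g⁻¹ hginv
    rw [inv_inv] at htop
    have hcx : c * x = x * c := (hmemC c).mp hc1
    have hcy : c * (g * x * g⁻¹) = (g * x * g⁻¹) * c := by
      have := (hmemC _).mp hc2'
      calc c * (g * x * g⁻¹) = g * ((g⁻¹ * c * g) * x) * g⁻¹ := by group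
        _ = g * (x * (g⁻¹ * c * g)) * g⁻¹ := by rw [this]
        _ = (g * x * g⁻¹) * c := by group
    have hle : Subgroup.closure {x, g * x * g⁻¹} ≤ Subgroup.centralizer {c} := by
      rw [Subgroup.closure_le]
      intro y hy
      rw [Set.mem_insert_iff, Set.mem_singleton_iff] at hy
      rw [SetLike.mem_coe, Subgroup.mem_centralizer_iff]
      intro c' hc'
      rw [Set.mem_singleton_iff] at hc'
      subst hc'
      rcases hy with rfl | rfl
      · exact hcx
      · exact hcy
    rw [htop] at hle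
    rw [Subgroup.mem_center_iff]
    intro y
    have := Subgroup.mem_centralizer_iff.mp (hle (Subgroup.mem_top y)) c rfl
    exact this.symm
  by_cases hZ : Subgroup.center G = ⊥
  · -- Step E: C is a Frobenius complement
    have hx1 : x ≠ 1 := by
      rintro rfl
      exact hxc (Subgroup.one_mem _)
    have hCbot : C ≠ ⊥ := by
      intro hC
      apply hx1
      have : x ∈ (⊥ : Subgroup G) := hC ▸ hxC
      exact Subgroup.mem_bot.mp this
    have hFrob : Cfsg.IsFrobeniusComplement C := by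
      refine ⟨hCbot, hCtop, ?_⟩
      intro g hg
      have := stepD g hg
      rw [hZ] at this
      exact le_bot_iff.mp this
    obtain ⟨N, -, hNn, hNC⟩ := Cfsg.Agent.Lib.Helper18.frobenius_kernel_subgroup C hFrob
    obtain ⟨T, hT⟩ := exists_sylow_le_centralizer h
    have hcardNC := hNC.card_mul_card
    have hNcop : (Nat.card N).Coprime p := by
      rw [Nat.coprime_comm, Nat.Prime.coprime_iff_not_dvd hp.out]
      intro hdvd
      have h1 : Nat.card N = C.index := by
        have h2 : Nat.card C * C.index = Nat.card C * Nat.card N := by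
          rw [Subgroup.card_mul_index, ← hcardNC, mul_comm]
        exact (Nat.eq_of_mul_eq_mul_left Nat.card_pos h2).symm
      have h3 : C.index ∣ (T : Subgroup G).index := Subgroup.index_dvd_of_le hT
      exact T.not_dvd_index (dvd_trans (h1 ▸ hdvd) h3)
    have hNinv : ∀ y ∈ N, x * y * x⁻¹ ∈ N := fun y hy => hNn.conj_mem y hy x
    have hNleC : N ≤ C := by
      intro y hy
      rw [hmemC]
      exact (h.cop N hNcop hNinv y hy).symm
    have hdisj : N ⊓ C = ⊥ := hNC.disjoint.eq_bot
    have hNbot : N = ⊥ := by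
      rw [← hdisj]; exact (inf_eq_left.mpr hNleC).symm
    apply hCtop
    rw [hNbot, Subgroup.card_bot, one_mul] at hcardNC
    exact (Subgroup.card_eq_iff_eq_top C).mp hcardNC
  · -- Step F: pass to the quotient by a central subgroup of prime order
    have hne : Nontrivial (Subgroup.center G) := (Subgroup.nontrivial_iff_ne_bot _).mpr hZ
    have hcard1 : Nat.card (Subgroup.center G) ≠ 1 := by
      intro h1
      exact hZ (Subgroup.card_eq_one.mp h1)
    obtain ⟨q, hq, hqd⟩ := Nat.exists_prime_and_dvd hcard1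
    haveI : Fact q.Prime := ⟨hq⟩
    obtain ⟨⟨z, hz⟩, hzo⟩ := exists_prime_orderOf_dvd_card' q hqd
    have hzq : orderOf z = q := by
      rw [← hzo]; exact (Subgroup.orderOf_mk z hz).symm
    have hNle : Subgroup.zpowers z ≤ Subgroup.center G := Subgroup.zpowers_le.mpr hz
    haveI hNn : (Subgroup.zpowers z).Normal := by
      constructor
      intro y hy g
      have := Subgroup.mem_center_iff.mp (hNle hy) g
      rw [this, mul_inv_cancel_right]
      exact hy
    have hlt : Nat.card (G ⧸ Subgroup.zpowers z) < n := by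
      rw [← hcard, Subgroup.card_eq_card_quotient_mul_card_subgroup (Subgroup.zpowers z),
        Nat.card_zpowers, hzq]
      have : 0 < Nat.card (G ⧸ Subgroup.zpowers z) := Nat.card_pos
      nlinarith [hq.two_le]
    have hquot := h.quotient z hz q hq hzq
    have h1 := ih _ hlt (G ⧸ Subgroup.zpowers z) _ rfl hquot
    exact hxc (central_of_quotient_central h z hz q hq hzq h1)

/-- Let S be a Sylow p-subgroup of the finite group G and x an element of S such that (i) x is the only G-conjugate of x lying in S, and (ii) x centralizes every subgroup of order prime to p that it normalizes. Then x lies in the centre of G. -/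
theorem result {G : Type*} [Group G] [Finite G] {p : ℕ} [Fact p.Prime]
    (S : Sylow p G) (x : G) (hx : x ∈ S)
    (hU : ∀ g : G, g⁻¹ * x * g ∈ S → g⁻¹ * x * g = x)
    (hb : ∀ H : Subgroup G, (Nat.card H).Coprime p → (∀ h ∈ H, x * h * x⁻¹ ∈ H) → ∀ h ∈ H, x * h = h * x) :
    x ∈ Subgroup.center G :=
  main (p := p) _ G x rfl (hyp_of S x hx hU hb)

end Cfsg.Agent.S3064
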