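import Mathlib
import Cfsg.Statements.S3071
import Cfsg.Agent.H5.ZJFusionLocal
import Cfsg.Agent.H5.ZJBridge

set_option autoImplicit false
open Cfsg

namespace Cfsg.Agent.S3071

/-- Let p be an odd prime and S a Sylow p-subgroup of the finite group G such that, for every subgroup P with Z(S) ≤ P ≤ S, the normalizer N_G(P) has no section isomorphic to SL₂(p). Let J(S) be the subgroup generated by the abelian subgroups of S of largest order. Then two elements of S are conjugate in G if and only if they are conjugate in N_G(Z(J(S))). -/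
theorem result {G : Type*} [Group G] [Finite G] {p : ℕ} [Fact p.Prime]
    (hp : p ≠ 2) (S : Sylow p G)
    (hfree : ∀ P : Subgroup G, (S : Subgroup G) ⊓ Subgroup.centralizer ((S : Subgroup G) : Set G) ≤ P → P ≤ S →
      ¬ ∃ (H K : Subgroup G) (hK : (K.subgroupOf H).Normal), H ≤ Subgroup.normalizer (P : Set G) ∧
        Nonempty ((H ⧸ K.subgroupOf H) ≃* Matrix.SpecialLinearGroup (Fin 2) (ZMod p))) :
    ∀ x ∈ S, ∀ y ∈ S, (∃ g : G, g * x * g⁻¹ = y) ↔
      ∃ n ∈ Subgroup.normalizer (Cfsg.centerThompsonAOf (S : Subgroup G) : Set G), n * x * n⁻¹ = y := by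
  intro x hx y hy
  constructor
  · rintro ⟨g, hg⟩
    have hfree' : ∀ P : Subgroup G,
        (S : Subgroup G) ⊓ Subgroup.centralizer ((S : Subgroup G) : Set G) ≤ P → P ≤ S →
        ¬ Cfsg.Involves ↥(Cfsg.qd p) ↥(Subgroup.normalizer (P : Set G)) := by
      intro P hZP hPS hinv
      exact hfree P hZP hPS (Cfsg.H5.ZJL.exists_SL2_section_of_involves_qd _ hinv)
    have hTS : Subgroup.zpowers x ≤ (S : Subgroup G) := Subgroup.zpowers_le.2 hx
    have hTg : ∀ t ∈ Subgroup.zpowers x, (g⁻¹)⁻¹ * t * g⁻¹ ∈ (S : Subgroup G) := by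
      intro t ht
      obtain ⟨k, rfl⟩ := Subgroup.mem_zpowers_iff.1 ht
      have e1 : (g⁻¹)⁻¹ * x ^ k * g⁻¹ = (g * x * g⁻¹) ^ k := by
        rw [inv_inv, conj_zpow]
      rw [e1, hg]
      exact Subgroup.zpow_mem _ hy k
    obtain ⟨n, hn, hnT⟩ := Cfsg.H5.ZJL.controls_fusion_local hp S hfree' (Subgroup.zpowers x) hTS
      g⁻¹ hTg
    rw [Cfsg.H5.ZJ.centerThompsonAOf_eq]
    refine ⟨n⁻¹, Subgroup.inv_mem _ hn, ?_⟩
    have h1 := hnT x (Subgroup.mem_zpowers x)
    rw [inv_inv] at h1 ⊢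
    rw [h1, hg]
  · rintro ⟨n, -, hn⟩
    exact ⟨n, hn⟩

end Cfsg.Agent.S3071
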