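import Cfsg.Statements.S3073
import Mathlib
import Cfsg.Agent.H5.KInf10
import Cfsg.Agent.S1988

set_option autoImplicit false
universe u
open Cfsg

namespace Cfsg.Agent.S3073

/-- For an odd prime p, every finite p-group S has a characteristic subgroup K with C_S(K) ≤ K such that, whenever S is (isomorphic to) a Sylow p-subgroup of a finite group G, G has a normal p-complement if and only if N_G(K)/C_G(K) is a p-group, i.e. every element of N_G(K) of order prime to p centralizes K (K transported into G along the isomorphism). -/
theorem result (p : ℕ) [Fact p.Prime] (hp : p ≠ 2)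
    (S : Type u) [Group S] [Finite S] (hS : IsPGroup p S) :
    ∃ K : Subgroup S, K.Characteristic ∧ Subgroup.centralizer (K : Set S) ≤ K ∧
      ∀ (G : Type u) [Group G] [Finite G] (P : Sylow p G) (e : ↥(P : Subgroup G) ≃* S),
        Cfsg.HasNormalPComplement p G ↔
          ∀ g ∈ Subgroup.normalizer (((K.comap (e : ↥(P : Subgroup G) →* S)).map (P : Subgroup G).subtype : Subgroup G) : Set G),
            (orderOf g).Coprime p →
              g ∈ Subgroup.centralizer (((K.comap (e : ↥(P : Subgroup G) →* S)).map (P : Subgroup G).subtype : Subgroup G) : Set G) := by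
  refine ⟨Cfsg.kInfLower S, Cfsg.H5.KI.kInfLower_characteristic S,
    Cfsg.H5.KI.centralizer_kInfLower_le hS, ?_⟩
  intro G _ _ P e
  have hK : ((Cfsg.kInfLower S).comap (e : ↥(P : Subgroup G) →* S)).map (P : Subgroup G).subtype =
      Cfsg.inducedFunctor Cfsg.kInfLower (P : Subgroup G) := by
    unfold Cfsg.inducedFunctor
    congr 1
    have h1 := Cfsg.H5.KI.map_kInfLower_equiv e
    rw [← h1]
    exact Subgroup.comap_map_eq_self_of_injective e.injective _
  rw [hK]
  constructor
  · intro h g hg hcop
    obtain ⟨P₁, M, hMn, hM⟩ := h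
    haveI := hMn
    have hKp : IsPGroup p ↥(Cfsg.inducedFunctor Cfsg.kInfLower (P : Subgroup G)) :=
      P.isPGroup'.to_le (Subgroup.map_subtype_le _)
    exact Cfsg.Agent.Lib.Helper13.localCentral_of_normal_complement P₁ M hM _ hKp g hg hcop
  · intro h
    exact Cfsg.Agent.S1988.result hp P (Or.inr h)

end Cfsg.Agent.S3073
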