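import Cfsg.Statements.S3075
import Cfsg.Agent.Lib.Helper14.SL2

set_option autoImplicit false
open Cfsg

namespace Cfsg.Agent.S3075

open Matrix

section Abstract

variable {N : Type*} [Group N]

/-- An element `n` normalizing `⟨l⟩` of prime order `p`, with `n ^ p` centralizing `l`,
centralizes `l`. -/
theorem commute_of_conj_mem_zpowers [Finite N] {p : ℕ} [hpf : Fact p.Prime] (n l : N)
    (hl : orderOf l = p) (hn : n * l * n⁻¹ ∈ Subgroup.zpowers l)
    (hnp : n ^ p * l = l * n ^ p) : n * l = l * n := by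
  have hp : p.Prime := hpf.out
  rw [← mem_powers_iff_mem_zpowers, Submonoid.mem_powers_iff] at hn
  obtain ⟨k, hk⟩ := hn
  have hpow : ∀ j : ℕ, n ^ j * l * (n ^ j)⁻¹ = l ^ (k ^ j) := by
    intro j
    induction j with
    | zero => simp
    | succ j ih =>
      calc n ^ (j + 1) * l * (n ^ (j + 1))⁻¹ = n * (n ^ j * l * (n ^ j)⁻¹) * n⁻¹ := by
            rw [pow_succ']; group
        _ = n * l ^ (k ^ j) * n⁻¹ := by rw [ih]
        _ = (n * l * n⁻¹) ^ (k ^ j) := by rw [conj_pow]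
        _ = l ^ (k ^ (j + 1)) := by rw [← hk, ← pow_mul, pow_succ']
  have hl1 : l ≠ 1 := by
    intro h
    rw [h, orderOf_one] at hl
    exact hp.one_lt.ne hl
  have hpk : ¬ p ∣ k := by
    intro hd
    have h1 : l ^ k = 1 := by rw [← hl] at hd; exact orderOf_dvd_iff_pow_eq_one.mp hd
    rw [h1] at hk
    apply hl1
    calc l = n⁻¹ * (n * l * n⁻¹) * n := by group
      _ = 1 := by rw [← hk]; group
  have hcop : Nat.Coprime k p := ((Nat.Prime.coprime_iff_not_dvd hp).mpr hpk).symm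
  have hfermat : k ^ (p - 1) ≡ 1 [MOD p] := by
    have := Nat.ModEq.pow_totient hcop
    rwa [Nat.totient_prime hp] at this
  have h1 : l ^ (k ^ (p - 1)) = l := by
    have : l ^ (k ^ (p - 1)) = l ^ 1 := by
      rw [pow_eq_pow_iff_modEq, hl]; exact hfermat
    rw [this, pow_one]
  have h2 : Commute (n ^ (p - 1)) l := by
    have h3 := hpow (p - 1)
    rw [h1] at h3
    show n ^ (p - 1) * l = l * n ^ (p - 1)
    calc n ^ (p - 1) * l = (n ^ (p - 1) * l * (n ^ (p - 1))⁻¹) * n ^ (p - 1) := by group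
      _ = l * n ^ (p - 1) := by rw [h3]
  have h4 : Commute (n ^ p) l := hnp
  have h5 : n = (n ^ (p - 1))⁻¹ * n ^ p := by
    have : n ^ p = n ^ (p - 1) * n := by
      rw [← pow_succ]
      congr 1
      have := hp.one_lt
      omega
    rw [this]; group
  have h6 : Commute n l := by
    rw [h5]
    exact (h2.inv_left).mul_left h4
  exact h6

theorem main [Finite N] {p : ℕ} [hpf : Fact p.Prime] (hp2 : p ≠ 2) (A : Subgroup N) [hAn : A.Normal]
    (hAcomm : ∀ a ∈ A, ∀ b ∈ A, a * b = b * a) (hAcard : Nat.card A = p ^ 2)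
    (hAexp : ∀ a ∈ A, a ^ p = 1)
    (hAself : Subgroup.centralizer (A : Set N) = A)
    (z : N ⧸ A) (hz2 : z * z = 1) (hz1 : z ≠ 1) (hzc : ∀ g : N ⧸ A, z * g = g * z)
    (hpdvd : p ∣ Nat.card (N ⧸ A)) :
    ∃ U : Subgroup N, A ⊓ U = ⊥ ∧ A ⊔ U = ⊤ := by
  classical
  have hp : p.Prime := hpf.out
  obtain ⟨m, hm⟩ := hp.odd_of_ne_two hp2
  -- an involution `t` lifting `z`
  obtain ⟨s, hs⟩ := QuotientGroup.mk_surjective z
  have hs2 : s * s ∈ A := by
    rw [← QuotientGroup.eq_one_iff, QuotientGroup.mk_mul, hs]; exact hz2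
  obtain ⟨t, htdef⟩ : ∃ t : N, t = s ^ p := ⟨_, rfl⟩
  have hzp : z ^ p = z := by
    rw [hm, pow_succ, pow_mul, sq, hz2, one_pow, one_mul]
  have htz : (QuotientGroup.mk t : N ⧸ A) = z := by
    rw [htdef, QuotientGroup.mk_pow, hs, hzp]
  have htt : t * t = 1 := by
    have : t * t = (s * s) ^ p := by
      rw [htdef, ← pow_add, ← two_mul, pow_mul, sq]
    rw [this]; exact hAexp _ hs2
  have htinv : t⁻¹ = t := inv_eq_of_mul_eq_one_right htt
  have htA : t ∉ A := by
    intro h; apply hz1; rw [← htz]; exact (QuotientGroup.eq_one_iff t).mpr h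
  have hconj : ∀ n : N, t⁻¹ * (n * t * n⁻¹) ∈ A := by
    intro n
    rw [← QuotientGroup.eq_one_iff]
    simp only [QuotientGroup.mk_mul, QuotientGroup.mk_inv, htz]
    rw [← hzc (n : N ⧸ A)]
    group
  have hτA : ∀ a ∈ A, t * a * t⁻¹ ∈ A := fun a ha => hAn.conj_mem a ha t
  -- conjugates of `t` act on `A` like `t`
  have hconj_act : ∀ n : N, ∀ a ∈ A, (n⁻¹ * t * n) * a * (n⁻¹ * t * n)⁻¹ = t * a * t⁻¹ := by
    intro n a ha
    have hc := hconj n⁻¹
    rw [inv_inv] at hc
    obtain ⟨c, hcdef⟩ : ∃ c : N, c = t⁻¹ * (n⁻¹ * t * n) := ⟨_, rfl⟩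
    rw [← hcdef] at hc
    have h1 : n⁻¹ * t * n = t * c := by rw [hcdef]; group
    rw [h1]
    calc t * c * a * (t * c)⁻¹ = t * (c * a * c⁻¹) * t⁻¹ := by group
      _ = t * (a * c * c⁻¹) * t⁻¹ := by rw [hAcomm c hc a ha]
      _ = t * a * t⁻¹ := by group
  have hconj_t : ∀ n a : N, t * (n * a * n⁻¹) * t⁻¹
      = n * ((n⁻¹ * t * n) * a * (n⁻¹ * t * n)⁻¹) * n⁻¹ := by
    intro n a; group
  -- the two eigenspaces
  let Ap : Subgroup N := A ⊓ Subgroup.centralizer ({t} : Set N)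
  let Am : Subgroup N :=
    { carrier := {a | a ∈ A ∧ t * a * t⁻¹ = a⁻¹}
      one_mem' := ⟨A.one_mem, by group⟩
      mul_mem' := by
        rintro a b ⟨ha, ha'⟩ ⟨hb, hb'⟩
        refine ⟨A.mul_mem ha hb, ?_⟩
        calc t * (a * b) * t⁻¹ = (t * a * t⁻¹) * (t * b * t⁻¹) := by group
          _ = a⁻¹ * b⁻¹ := by rw [ha', hb']
          _ = b⁻¹ * a⁻¹ := hAcomm _ (A.inv_mem ha) _ (A.inv_mem hb)
          _ = (a * b)⁻¹ := by group
      inv_mem' := by
        rintro a ⟨ha, ha'⟩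
        refine ⟨A.inv_mem ha, ?_⟩
        calc t * a⁻¹ * t⁻¹ = (t * a * t⁻¹)⁻¹ := by group
          _ = (a⁻¹)⁻¹ := by rw [ha'] }
  have hApA : Ap ≤ A := inf_le_left
  have hAmA : Am ≤ A := fun a ha => ha.1
  have hAp_mem : ∀ a : N, a ∈ Ap ↔ a ∈ A ∧ t * a * t⁻¹ = a := by
    intro a
    show a ∈ A ⊓ Subgroup.centralizer ({t} : Set N) ↔ _
    rw [Subgroup.mem_inf, Subgroup.mem_centralizer_singleton_iff]
    constructor
    · rintro ⟨h1, h2⟩
      refine ⟨h1, ?_⟩
      calc t * a * t⁻¹ = (a * t) * t⁻¹ := by rw [h2]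
        _ = a := by group
    · rintro ⟨h1, h2⟩
      refine ⟨h1, ?_⟩
      calc a * t = (t * a * t⁻¹) * t := by rw [h2]
        _ = t * a := by group
  have hAm_mem : ∀ a : N, a ∈ Am ↔ a ∈ A ∧ t * a * t⁻¹ = a⁻¹ := fun a => Iff.rfl
  have hAp_inv : ∀ n : N, ∀ a ∈ Ap, n * a * n⁻¹ ∈ Ap := by
    intro n a ha
    rw [hAp_mem] at ha ⊢
    refine ⟨hAn.conj_mem a ha.1 n, ?_⟩
    rw [hconj_t, hconj_act n a ha.1, ha.2]
  have hAm_inv : ∀ n : N, ∀ a ∈ Am, n * a * n⁻¹ ∈ Am := by
    intro n a ha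
    rw [hAm_mem] at ha ⊢
    refine ⟨hAn.conj_mem a ha.1 n, ?_⟩
    rw [hconj_t, hconj_act n a ha.1, ha.2]
    group
  have hττ : ∀ a : N, t * (t * a * t⁻¹) * t⁻¹ = a := by
    intro a
    rw [htinv]
    calc t * (t * a * t) * t = (t * t) * a * (t * t) := by group
      _ = a := by rw [htt]; group
  have hAsup : A ≤ Ap ⊔ Am := by
    intro a ha
    have hτa := hτA a ha
    have h1 : a * (t * a * t⁻¹) ∈ Ap := by
      rw [hAp_mem]
      refine ⟨A.mul_mem ha hτa, ?_⟩
      calc t * (a * (t * a * t⁻¹)) * t⁻¹ = (t * a * t⁻¹) * (t * (t * a * t⁻¹) * t⁻¹) := by group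
        _ = (t * a * t⁻¹) * a := by rw [hττ]
        _ = a * (t * a * t⁻¹) := hAcomm _ hτa _ ha
    have h2 : a * (t * a * t⁻¹)⁻¹ ∈ Am := by
      rw [hAm_mem]
      refine ⟨A.mul_mem ha (A.inv_mem hτa), ?_⟩
      calc t * (a * (t * a * t⁻¹)⁻¹) * t⁻¹
          = (t * a * t⁻¹) * (t * (t * a * t⁻¹) * t⁻¹)⁻¹ := by group
        _ = (t * a * t⁻¹) * a⁻¹ := by rw [hττ]
        _ = (a * (t * a * t⁻¹)⁻¹)⁻¹ := by group
    have h3 : a * a ∈ Ap ⊔ Am := by
      have : a * a = (a * (t * a * t⁻¹)) * (a * (t * a * t⁻¹)⁻¹) := by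
        calc a * a = a * (a * (t * a * t⁻¹)) * (t * a * t⁻¹)⁻¹ := by group
          _ = a * ((t * a * t⁻¹) * a) * (t * a * t⁻¹)⁻¹ := by rw [hAcomm a ha _ hτa]
          _ = (a * (t * a * t⁻¹)) * (a * (t * a * t⁻¹)⁻¹) := by group
      rw [this]
      exact Subgroup.mul_mem_sup h1 h2
    have h4 : a = (a * a) ^ (m + 1) := by
      have : (a * a) ^ (m + 1) = a ^ p * a := by
        rw [← sq, ← pow_mul, ← pow_succ, hm]
        congr 1
      rw [this, hAexp a ha, one_mul]
    rw [h4]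
    exact Subgroup.pow_mem _ h3 _
  -- `t` has no fixed points on `A`
  have hAp_bot : Ap = ⊥ := by
    by_contra hne
    obtain ⟨l, hlAp, hl1⟩ : ∃ l ∈ Ap, l ≠ 1 := by
      by_contra hall
      push Not at hall
      exact hne (eq_bot_iff.mpr fun x hx => Subgroup.mem_bot.mpr (hall x hx))
    have hApne : Ap ≠ A := by
      intro h
      apply htA
      rw [← hAself, Subgroup.mem_centralizer_iff]
      intro a ha
      have : a ∈ Ap := h ▸ ha
      exact Subgroup.mem_centralizer_singleton_iff.mp this.2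
    have hAmne : Am ≠ A := by
      intro h
      have h1 : l ∈ Am := h ▸ hApA hlAp
      have h2 := ((hAp_mem l).mp hlAp).2
      have h3 := ((hAm_mem l).mp h1).2
      have h4 : l * l = 1 := by
        have : l = l⁻¹ := h2.symm.trans h3
        calc l * l = l * l⁻¹ := by rw [← this]
          _ = 1 := mul_inv_cancel l
      have h5 : orderOf l ∣ 2 := orderOf_dvd_of_pow_eq_one (by rw [sq]; exact h4)
      have h6 : orderOf l ∣ p := orderOf_dvd_of_pow_eq_one (hAexp l (hApA hlAp))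
      have h7 : orderOf l ∣ 1 := by
        have hc : Nat.Coprime 2 p := (Nat.coprime_primes Nat.prime_two hp).mpr (Ne.symm hp2)
        rw [← Nat.Coprime.gcd_eq_one hc]
        exact Nat.dvd_gcd h5 h6
      exact hl1 (orderOf_eq_one_iff.mp (Nat.dvd_one.mp h7))
    -- an element of order `p` modulo `A`
    obtain ⟨x, hx⟩ := exists_prime_orderOf_dvd_card' p hpdvd
    obtain ⟨n₀, hn₀⟩ := QuotientGroup.mk_surjective x
    have hn₀p : n₀ ^ p ∈ A := by
      rw [← QuotientGroup.eq_one_iff, QuotientGroup.mk_pow, hn₀, ← hx]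
      exact pow_orderOf_eq_one x
    have key : ∀ L : Subgroup N, L ≤ A → L ≠ A → (∀ a ∈ L, n₀ * a * n₀⁻¹ ∈ L) →
        ∀ a ∈ L, n₀ * a = a * n₀ := by
      intro L hLA hLne hLinv a haL
      have hcardL : Nat.card L ∣ p ^ 2 := hAcard ▸ Subgroup.card_dvd_of_le hLA
      obtain ⟨i, hi2, hi⟩ := (Nat.dvd_prime_pow hp).mp hcardL
      have hi2' : i ≠ 2 := by
        intro h
        apply hLne
        exact Subgroup.eq_of_le_of_card_ge hLA (by rw [hAcard, hi, h])
      by_cases ha1 : a = 1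
      · rw [ha1]; simp
      · have hoa : orderOf a = p := by
          have h1 : orderOf a ∣ p := orderOf_dvd_of_pow_eq_one (hAexp a (hLA haL))
          rcases (Nat.dvd_prime hp).mp h1 with h | h
          · exact absurd (orderOf_eq_one_iff.mp h) ha1
          · exact h
        have hi1 : i = 1 := by
          have h1 : orderOf a ∣ Nat.card L := by
            have := Subgroup.orderOf_dvd_natCard L haL
            exact this
          rw [hoa, hi] at h1
          have hi0 : i ≠ 0 := by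
            intro h0
            rw [h0, pow_zero] at h1
            exact hp.one_lt.ne' (Nat.dvd_one.mp h1)
          omega
        have hLz : Subgroup.zpowers a = L := by
          apply Subgroup.eq_of_le_of_card_ge (Subgroup.zpowers_le.mpr haL)
          rw [Nat.card_zpowers, hoa, hi, hi1, pow_one]
        have h2 : n₀ * a * n₀⁻¹ ∈ Subgroup.zpowers a := hLz ▸ hLinv a haL
        exact commute_of_conj_mem_zpowers n₀ a hoa h2 (hAcomm _ hn₀p _ (hLA haL))
    have hcAp := key Ap hApA hApne (hAp_inv n₀)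
    have hcAm := key Am hAmA hAmne (hAm_inv n₀)
    have hsup : Ap ⊔ Am ≤ Subgroup.centralizer ({n₀} : Set N) := by
      apply sup_le
      · intro a ha
        rw [Subgroup.mem_centralizer_singleton_iff]
        exact (hcAp a ha).symm
      · intro a ha
        rw [Subgroup.mem_centralizer_singleton_iff]
        exact (hcAm a ha).symm
    have hn₀A : n₀ ∈ A := by
      rw [← hAself, Subgroup.mem_centralizer_iff]
      intro a ha
      exact Subgroup.mem_centralizer_singleton_iff.mp (hsup (hAsup ha))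
    have : x = 1 := by rw [← hn₀]; exact (QuotientGroup.eq_one_iff n₀).mpr hn₀A
    rw [this, orderOf_one] at hx
    exact hp.one_lt.ne hx
  have hinvert : ∀ a ∈ A, t * a * t⁻¹ = a⁻¹ := by
    intro a ha
    have h1 : a ∈ Ap ⊔ Am := hAsup ha
    rw [hAp_bot, bot_sup_eq] at h1
    exact ((hAm_mem a).mp h1).2
  refine ⟨Subgroup.centralizer ({t} : Set N), hAp_bot, ?_⟩
  rw [eq_top_iff]
  intro n _
  obtain ⟨c, hcdef⟩ : ∃ c : N, c = t⁻¹ * (n * t * n⁻¹) := ⟨_, rfl⟩
  have hcA : c ∈ A := hcdef ▸ hconj n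
  have hntn : n * t * n⁻¹ = t * c := by rw [hcdef]; group
  obtain ⟨a, hadef⟩ : ∃ a : N, a = c ^ m := ⟨_, rfl⟩
  have haA : a ∈ A := hadef ▸ A.pow_mem hcA m
  have haac : a * a * c = 1 := by
    rw [hadef, ← pow_add, ← pow_succ, ← two_mul, ← hm]
    exact hAexp c hcA
  have hta : t⁻¹ * a⁻¹ * t = a := by
    have h1 := hinvert a⁻¹ (A.inv_mem haA)
    rw [inv_inv] at h1
    calc t⁻¹ * a⁻¹ * t = t * a⁻¹ * t⁻¹ := by rw [htinv]
      _ = a := h1
  have hu : a⁻¹ * n ∈ Subgroup.centralizer ({t} : Set N) := by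
    rw [Subgroup.mem_centralizer_singleton_iff]
    calc a⁻¹ * n * t = a⁻¹ * (n * t * n⁻¹) * n := by group
      _ = a⁻¹ * (t * c) * n := by rw [hntn]
      _ = t * ((t⁻¹ * a⁻¹ * t) * c) * n := by group
      _ = t * (a * c) * n := by rw [hta]
      _ = t * (a⁻¹ * (a * a * c)) * n := by group
      _ = t * (a⁻¹ * n) := by rw [haac]; group
  have : n = a * (a⁻¹ * n) := by group
  rw [this]
  exact Subgroup.mul_mem_sup haA hu

end Abstract

/-- Let p be an odd prime and N a finite group with a normal elementary abelian subgroup A of order p² that is its own centralizer in N, such that N/A is isomorphic to SL₂(p) (over any field F with p elements). Then N splits over A: some subgroup U of N satisfies A ∩ U = 1 and AU = N. -/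
theorem result {N : Type*} [Group N] [Finite N] {p : ℕ} [Fact p.Prime] (hp : p ≠ 2)
    (A : Subgroup N) [A.Normal] (hAcomm : IsMulCommutative A) (hAcard : Nat.card A = p ^ 2) (hAexp : Monoid.exponent ↥A = p)
    (hAself : Subgroup.centralizer (A : Set N) = A)
    {F : Type*} [Field F] [Fintype F] (hF : Fintype.card F = p) (e : N ⧸ A ≃* Matrix.SpecialLinearGroup (Fin 2) F) :
    ∃ U : Subgroup N, A ⊓ U = ⊥ ∧ A ⊔ U = ⊤ := by
  have hpp : p.Prime := Fact.out
  have h2F : (2 : F) ≠ 0 := by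
    intro h
    have h1 : (1 : F) + 1 = 0 := by rw [one_add_one_eq_two]; exact h
    have h3 : addOrderOf (1 : F) ∣ 2 :=
      addOrderOf_dvd_of_nsmul_eq_zero (by rw [two_nsmul]; exact h1)
    have h4 : addOrderOf (1 : F) ∣ Fintype.card F := addOrderOf_dvd_card
    have h5 : addOrderOf (1 : F) = 2 := by
      rcases (Nat.dvd_prime Nat.prime_two).mp h3 with h | h
      · exact absurd (AddMonoid.addOrderOf_eq_one_iff.mp h) one_ne_zero
      · exact h
    rw [h5, hF] at h4
    exact hp ((Nat.prime_dvd_prime_iff_eq Nat.prime_two hpp).mp h4).symm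
  obtain ⟨z, hz⟩ : ∃ z : N ⧸ A, z = e.symm (-1) := ⟨_, rfl⟩
  have hez : e z = -1 := by rw [hz, MulEquiv.apply_symm_apply]
  refine main hp A (fun a ha b hb => setLike_mul_comm ha hb) hAcard ?_ hAself z ?_ ?_ ?_ ?_
  · intro a ha
    have h1 := Monoid.pow_exponent_eq_one (⟨a, ha⟩ : ↥A)
    rw [hAexp] at h1
    have h2 := congrArg Subtype.val h1
    simpa using h2
  · apply e.injective
    rw [map_mul, hez, neg_mul_neg, one_mul, map_one]
  · intro h
    have h1 : (-1 : Matrix.SpecialLinearGroup (Fin 2) F) = 1 := by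
      rw [← hez, h, map_one]
    have h2 := congrArg
      (fun g : Matrix.SpecialLinearGroup (Fin 2) F => (g : Matrix (Fin 2) (Fin 2) F) 0 0) h1
    simp at h2
    apply h2F
    have h3 : (2 : F) = 1 + 1 := by norm_num
    rw [h3]
    nth_rewrite 1 [← h2]
    simp
  · intro g
    apply e.injective
    rw [map_mul, map_mul, hez, neg_mul, one_mul, mul_neg, mul_one]
  · rw [Nat.card_congr e.toEquiv, Cfsg.Agent.Lib.Helper14.card_SL2, hF]
    exact dvd_mul_right p _

end Cfsg.Agent.S3075
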