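-- Statement S3076: Alperin-Goldschmidt lemma on H Sylow in the preimage of O_p(N(H)/C(H)).
import Cfsg.Statements.S3076
import Cfsg.Agent.S1854
import Cfsg.Agent.Lib.Helper18.Basic

set_option autoImplicit false
open Cfsg

namespace Cfsg.Agent.S3076

open Cfsg.Agent.Lib.Helper18

section Core

variable {L : Type*} [Group L] [Finite L] {p : ℕ} [Fact p.Prime]

/-- The preimage of `O_p(L / Cm)`. -/
abbrev preim (p : ℕ) (Cm : Subgroup L) [Cm.Normal] : Subgroup L :=
  (Cfsg.pCore p (L ⧸ Cm)).comap (QuotientGroup.mk' Cm)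

theorem core (S : Sylow p L) (Hm Cm : Subgroup L) [hHn : Hm.Normal] [hCn : Cm.Normal]
    (hHS : Hm ≤ (S : Subgroup L))
    (hcomm : ∀ c ∈ Cm, ∀ h ∈ Hm, h * c = c * h)
    (hfull : ∀ x : L, (∀ h ∈ Hm, h * x = x * h) → x ∈ Cm) :
    Hm ≤ preim p Cm ∧
      (¬ p ∣ Hm.relIndex (preim p Cm) ↔
        ((S : Subgroup L) ⊓ Cm ≤ Hm ∧ Cfsg.pPrimePCore p L = Hm ⊔ Cm)) := by
  have hpp : p.Prime := Fact.out
  have hHp : IsPGroup p Hm := S.2.to_le hHS
  set π := QuotientGroup.mk' Cm with hπ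
  have hπs : Function.Surjective π := QuotientGroup.mk'_surjective Cm
  have F1 : Hm ≤ preim p Cm := by
    intro h hh
    show π h ∈ Cfsg.pCore p (L ⧸ Cm)
    exact Cfsg.Agent.Lib.Helper1.le_pCore (Subgroup.Normal.map hHn π hπs) (hHp.map π)
      (Subgroup.mem_map_of_mem π hh)
  have F2 : Cm ≤ preim p Cm := by
    intro c hc
    show π c ∈ Cfsg.pCore p (L ⧸ Cm)
    have h1 : π c = 1 := (QuotientGroup.eq_one_iff c).mpr hc
    rw [h1]; exact Subgroup.one_mem _
  have hKW : Cfsg.pPrimeCore p L ≤ Cfsg.pPrimePCore p L :=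
    Cfsg.Agent.Lib.Helper10.pPrimeCore_le_pPrimePCore p
  have F4 : Cfsg.pPrimeCore p L ≤ Cm := by
    intro k hk
    apply hfull
    intro h hh
    exact (Cfsg.Agent.S1854.commute_pPrimeCore_of_normal_pGroup hHp hk hh).symm
  have F3 : Hm ≤ Cfsg.pPrimePCore p L := Cfsg.Agent.S1854.pgroup_normal_le_pPrimePCore hHp
  have Lmax : ∀ Y : Subgroup L, Hm ≤ Y → Y ≤ preim p Cm → IsPGroup p Y →
      ¬ p ∣ Hm.relIndex (preim p Cm) → Y ≤ Hm := by
    intro Y h1 h2 h3 h4
    by_contra hne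
    have hlt : Hm < Y := lt_of_le_of_ne h1 (fun e => hne (by rw [e]))
    exact h4 (dvd_relIndex_of_lt_isPGroup Hm Y _ hlt h2 h3)
  have hdecomp : (S : Subgroup L) ⊓ Cm ≤ Hm → ∀ c ∈ Cm,
      ∃ z ∈ (S : Subgroup L) ⊓ Cm, ∃ d ∈ Cfsg.pPrimeCore p L, c = z * d := by
    intro hSC
    apply Cfsg.Agent.S1854.le_of_central_sylow S Cm
    intro z hz c hc
    exact hcomm c hc z (hSC hz)
  have F5 : ∀ x ∈ preim p Cm, ∃ j : ℕ, x ^ (p ^ j) ∈ Cm := by
    intro x hx
    have hx' : π x ∈ Cfsg.pCore p (L ⧸ Cm) := hx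
    obtain ⟨j, hj⟩ := (Cfsg.Agent.Lib.Helper1.pCore_isPGroup (G := L ⧸ Cm) p) ⟨π x, hx'⟩
    refine ⟨j, ?_⟩
    have h1 : (π x) ^ (p ^ j) = 1 := by
      have h2 := congrArg Subtype.val hj
      simpa using h2
    rw [← map_pow] at h1
    exact (QuotientGroup.eq_one_iff _).mp h1
  have F6 : Cfsg.pPrimePCore p L ≤ preim p Cm := by
    intro w hw
    show π w ∈ Cfsg.pCore p (L ⧸ Cm)
    have hnorm : ((Cfsg.pPrimePCore p L).map π).Normal :=
      Subgroup.Normal.map inferInstance π hπs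
    have hpg : IsPGroup p ((Cfsg.pPrimePCore p L).map π) := by
      rintro ⟨y, w', hw', rfl⟩
      obtain ⟨r, hr, k, hk, hwrk⟩ := Cfsg.Agent.S1854.exists_sylow_mul_of_mem_pPrimePCore S hw'
      obtain ⟨j, hj⟩ := (S.2) ⟨r, hr.1⟩
      refine ⟨j, ?_⟩
      apply Subtype.ext
      have hk1 : π k = 1 := (QuotientGroup.eq_one_iff k).mpr (F4 hk)
      have hrj : r ^ (p ^ j) = 1 := by simpa using congrArg Subtype.val hj
      show (π w') ^ (p ^ j) = 1
      rw [hwrk, map_mul, hk1, mul_one, ← map_pow, hrj, map_one]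
    exact Cfsg.Agent.Lib.Helper1.le_pCore hnorm hpg (Subgroup.mem_map_of_mem π hw)
  refine ⟨F1, ⟨fun hnd => ?_, fun ⟨hSC, hW⟩ => ?_⟩⟩
  · have hSC : (S : Subgroup L) ⊓ Cm ≤ Hm := by
      have hY : Hm ⊔ ((S : Subgroup L) ⊓ Cm) ≤ Hm :=
        Lmax _ le_sup_left (sup_le F1 (inf_le_right.trans F2))
          (S.2.to_le (sup_le hHS inf_le_left)) hnd
      exact le_sup_right.trans hY
    have hSW : (S : Subgroup L) ⊓ Cfsg.pPrimePCore p L ≤ Hm := by
      have hY : Hm ⊔ ((S : Subgroup L) ⊓ Cfsg.pPrimePCore p L) ≤ Hm :=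
        Lmax _ le_sup_left (sup_le F1 (inf_le_right.trans F6))
          (S.2.to_le (sup_le hHS inf_le_left)) hnd
      exact le_sup_right.trans hY
    refine ⟨hSC, le_antisymm ?_ (sup_le F3 ?_)⟩
    · intro w hw
      obtain ⟨r, hr, k, hk, hwrk⟩ := Cfsg.Agent.S1854.exists_sylow_mul_of_mem_pPrimePCore S hw
      rw [hwrk]
      exact Subgroup.mul_mem_sup (hSW hr) (F4 hk)
    · intro c hc
      obtain ⟨z, hz, d, hd, hcd⟩ := hdecomp hSC c hc
      rw [hcd]
      exact Subgroup.mul_mem _ (F3 (hSC hz)) (hKW hd)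
  · have hNW : preim p Cm ≤ Cfsg.pPrimePCore p L := by
      intro x hx
      rw [Cfsg.Agent.Lib.Helper10.mem_pPrimePCore_iff]
      set ρ := QuotientGroup.mk' (Cfsg.pPrimeCore p L) with hρ
      have hρs : Function.Surjective ρ := QuotientGroup.mk'_surjective _
      have hnorm : ((preim p Cm).map ρ).Normal := Subgroup.Normal.map inferInstance ρ hρs
      have hpg : IsPGroup p ((preim p Cm).map ρ) := by
        rintro ⟨y, x', hx', rfl⟩
        obtain ⟨j, hj⟩ := F5 x' hx'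
        obtain ⟨z, hz, d, hd, hzd⟩ := hdecomp hSC _ hj
        obtain ⟨i, hi⟩ := (S.2) ⟨z, hz.1⟩
        have hzi : z ^ (p ^ i) = 1 := by simpa using congrArg Subtype.val hi
        have hd1 : ρ d = 1 := (QuotientGroup.eq_one_iff d).mpr hd
        refine ⟨j + i, ?_⟩
        apply Subtype.ext
        show (ρ x') ^ (p ^ (j + i)) = 1
        rw [pow_add, pow_mul, ← map_pow, hzd, map_mul, hd1, mul_one, ← map_pow, hzi, map_one]
      exact Cfsg.Agent.Lib.Helper1.le_pCore hnorm hpg (Subgroup.mem_map_of_mem ρ hx)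
    have hN : preim p Cm = Hm ⊔ Cm := le_antisymm (hNW.trans hW.le) (sup_le F1 F2)
    rw [hN, Subgroup.relIndex_sup_left, ← Subgroup.inf_relIndex_right]
    have hinf : Hm ⊓ Cm = (S : Subgroup L) ⊓ Cm :=
      le_antisymm (inf_le_inf_right _ hHS) (le_inf hSC inf_le_right)
    rw [hinf, Subgroup.inf_relIndex_right]
    exact (Cfsg.Agent.Lib.Helper16.sylowInf S Cm).not_dvd_index

end Core

/-- Let P be a Sylow p-subgroup of the finite group G and H ≤ P a subgroup with N_P(H) a Sylow p-subgroup of N_G(H). Let N be the preimage in N_G(H) of O_p(N_G(H)/C_G(H)). Then H is a Sylow p-subgroup of N if and only if C_P(H) ≤ H and O_{p',p}(N_G(H)) = H·C_G(H). -/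
theorem result {G : Type*} [Group G] [Finite G] {p : ℕ} [Fact p.Prime]
    (P : Sylow p G) (H : Subgroup G) (hHP : H ≤ (P : Subgroup G))
    (hSyl : ¬ p ∣ ((P : Subgroup G) ⊓ Subgroup.normalizer (H : Set G)).relIndex (Subgroup.normalizer (H : Set G)))
    [hC : ((Subgroup.centralizer (H : Set G)).subgroupOf (Subgroup.normalizer (H : Set G))).Normal] :
    (H ≤ ((Cfsg.pCore p (↥(Subgroup.normalizer (H : Set G)) ⧸
              (Subgroup.centralizer (H : Set G)).subgroupOf (Subgroup.normalizer (H : Set G)))).comap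
            (QuotientGroup.mk' _)).map (Subgroup.normalizer (H : Set G)).subtype ∧
      ¬ p ∣ H.relIndex (((Cfsg.pCore p (↥(Subgroup.normalizer (H : Set G)) ⧸
              (Subgroup.centralizer (H : Set G)).subgroupOf (Subgroup.normalizer (H : Set G)))).comap
            (QuotientGroup.mk' _)).map (Subgroup.normalizer (H : Set G)).subtype)) ↔
    ((P : Subgroup G) ⊓ Subgroup.centralizer (H : Set G) ≤ H ∧
      (Cfsg.pPrimePCore p ↥(Subgroup.normalizer (H : Set G))).map (Subgroup.normalizer (H : Set G)).subtype =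
        H ⊔ Subgroup.centralizer (H : Set G)) := by
  set M := Subgroup.normalizer (H : Set G) with hM
  set C := Subgroup.centralizer (H : Set G) with hCd
  have hHM : H ≤ M := Subgroup.le_normalizer
  have hCM : C ≤ M := Subgroup.centralizer_le_normalizer (H : Set G)
  set S := Cfsg.Agent.S1854.sylN P (Q := H) hSyl with hS
  haveI hHn : (H.subgroupOf M).Normal := Subgroup.normal_in_normalizer
  have hHS : H.subgroupOf M ≤ (S : Subgroup ↥M) := by
    intro x hx
    exact (Cfsg.Agent.S1854.mem_sylN P hSyl x).mpr (hHP (Subgroup.mem_subgroupOf.mp hx))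
  have hcomm : ∀ c ∈ C.subgroupOf M, ∀ h ∈ H.subgroupOf M, h * c = c * h := by
    intro c hc h hh
    apply Subtype.ext
    exact (Subgroup.mem_centralizer_iff.mp (Subgroup.mem_subgroupOf.mp hc)) h.1
      (Subgroup.mem_subgroupOf.mp hh)
  have hfull : ∀ x : ↥M, (∀ h ∈ H.subgroupOf M, h * x = x * h) → x ∈ C.subgroupOf M := by
    intro x hx
    rw [Subgroup.mem_subgroupOf, Subgroup.mem_centralizer_iff]
    intro h hh
    exact congrArg Subtype.val (hx ⟨h, hHM hh⟩ (Subgroup.mem_subgroupOf.mpr hh))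
  obtain ⟨F1, hiff⟩ := core S (H.subgroupOf M) (C.subgroupOf M) hHS hcomm hfull
  have eH : (H.subgroupOf M).map M.subtype = H := Subgroup.map_subgroupOf_eq_of_le hHM
  have eC : (C.subgroupOf M).map M.subtype = C := Subgroup.map_subgroupOf_eq_of_le hCM
  have hHN : H ≤ (preim p (C.subgroupOf M)).map M.subtype := by
    intro h hh
    exact ⟨⟨h, hHM hh⟩, F1 (Subgroup.mem_subgroupOf.mpr hh), rfl⟩
  have hrel : H.relIndex ((preim p (C.subgroupOf M)).map M.subtype) =
      (H.subgroupOf M).relIndex (preim p (C.subgroupOf M)) := by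
    calc H.relIndex ((preim p (C.subgroupOf M)).map M.subtype)
        = ((H.subgroupOf M).map M.subtype).relIndex ((preim p (C.subgroupOf M)).map M.subtype) := by
          rw [eH]
      _ = (H.subgroupOf M).relIndex (preim p (C.subgroupOf M)) :=
          Subgroup.relIndex_map_map_of_injective _ _ M.subtype_injective
  show (H ≤ (preim p (C.subgroupOf M)).map M.subtype ∧
      ¬ p ∣ H.relIndex ((preim p (C.subgroupOf M)).map M.subtype)) ↔ _
  constructor
  · rintro ⟨_, hnd⟩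
    rw [hrel] at hnd
    obtain ⟨hSC, hW⟩ := hiff.mp hnd
    refine ⟨?_, ?_⟩
    · intro x hx
      have hxM : x ∈ M := hCM hx.2
      have h1 : (⟨x, hxM⟩ : ↥M) ∈ H.subgroupOf M :=
        hSC ⟨(Cfsg.Agent.S1854.mem_sylN P hSyl _).mpr hx.1, Subgroup.mem_subgroupOf.mpr hx.2⟩
      exact Subgroup.mem_subgroupOf.mp h1
    · rw [hW, Subgroup.map_sup, eH, eC]
  · rintro ⟨hPC, hWG⟩
    refine ⟨hHN, ?_⟩
    rw [hrel]
    apply hiff.mpr
    refine ⟨?_, ?_⟩
    · intro z hz
      rw [Subgroup.mem_subgroupOf]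
      exact hPC ⟨(Cfsg.Agent.S1854.mem_sylN P hSyl z).mp hz.1, Subgroup.mem_subgroupOf.mp hz.2⟩
    · apply Subgroup.map_injective M.subtype_injective
      rw [hWG, Subgroup.map_sup, eH, eC]

end Cfsg.Agent.S3076
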