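import Cfsg.Statements.S3078
import Cfsg.Agent.H5.Card
import Cfsg.Agent.Lib.Helper18.Conj
import Cfsg.Agent.Lib.Helper18.Basic

set_option autoImplicit false
open Cfsg

namespace Cfsg.Agent.S3078

open Subgroup
open scoped commutatorElement
open Cfsg.Agent.Lib.Helper18 (cj mem_cj_iff conj_mem_cj cj_cj card_cj isMulCommutative_cj
  mem_normalizer_iff_cj cj_eq_of_le)

variable {G : Type*} [Group G]

/-! ### Pure identities -/

/-- `w x a = a⁻¹ x a x⁻¹`, so that `x a x⁻¹ = a * w x a`. -/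
def w (x a : G) : G := a⁻¹ * x * a * x⁻¹

/-- `dl a b = a⁻¹ b a b⁻¹`. -/
def dl (a b : G) : G := a⁻¹ * b * a * b⁻¹

theorem conj_eq_mul_w (x a : G) : x * a * x⁻¹ = a * w x a := by
  unfold w; group

theorem w_eq (x a : G) : w x a = a⁻¹ * (x * a * x⁻¹) := by
  unfold w; group

theorem w_one (x : G) : w x 1 = 1 := by unfold w; group

theorem w_mul (x a a' : G) : w x (a * a') = dl a' (w x a) * w x a * w x a' := by
  unfold w dl; group

theorem dl_one (b : G) : dl 1 b = 1 := by unfold dl; group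

theorem dl_mul (a a' b : G) : dl (a * a') b = a'⁻¹ * dl a b * a' * dl a' b := by
  unfold dl; group

theorem dl_mul_of_commute (a a' b : G) (h : Commute (dl a b) a') :
    dl (a * a') b = dl a b * dl a' b := by
  rw [dl_mul]
  have : a'⁻¹ * dl a b * a' = dl a b := by
    rw [mul_assoc, h.eq, ← mul_assoc, inv_mul_cancel, one_mul]
  rw [this]

theorem conj_y_mul (x a a' : G) :
    (a * a')⁻¹ * x * (a * a') = dl a' (w x a) * w x a * (a'⁻¹ * x * a') := by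
  unfold w dl; group

/-! ### Commutator calculus -/

theorem comm_mul_right (u v v' : G) (h : Commute v ⁅u, v'⁆) :
    ⁅u, v * v'⁆ = ⁅u, v⁆ * ⁅u, v'⁆ := by
  have e : ⁅u, v * v'⁆ = ⁅u, v⁆ * (v * ⁅u, v'⁆ * v⁻¹) := by
    simp only [commutatorElement_def]; group
  rw [e, h.eq, mul_assoc, mul_inv_cancel, mul_one]

theorem comm_mul_left (u u' v : G) (h : Commute u ⁅u', v⁆) :
    ⁅u * u', v⁆ = ⁅u', v⁆ * ⁅u, v⁆ := by
  have e : ⁅u * u', v⁆ = (u * ⁅u', v⁆ * u⁻¹) * ⁅u, v⁆ := by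
    simp only [commutatorElement_def]; group
  rw [e, h.eq, mul_assoc ⁅u', v⁆, mul_inv_cancel, mul_one]

theorem comm_inv_right (u v : G) (h : Commute v ⁅u, v⁆) : ⁅u, v⁻¹⁆ = ⁅u, v⁆⁻¹ := by
  have e : ⁅u, v⁻¹⁆ = v⁻¹ * ⁅u, v⁆⁻¹ * v := by
    simp only [commutatorElement_def]; group
  rw [e, mul_assoc, (h.inv_right).symm.eq, ← mul_assoc, inv_mul_cancel, one_mul]

theorem comm_inv_left (u v : G) (h : Commute u ⁅u, v⁆) : ⁅u⁻¹, v⁆ = ⁅u, v⁆⁻¹ := by
  have e : ⁅u⁻¹, v⁆ = u⁻¹ * ⁅u, v⁆⁻¹ * u := by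
    simp only [commutatorElement_def]; group
  rw [e, mul_assoc, (h.inv_right).symm.eq, ← mul_assoc, inv_mul_cancel, one_mul]

theorem dl_pow (a b : G) (h : Commute (dl a b) a) (k : ℕ) : dl (a ^ k) b = (dl a b) ^ k := by
  induction k with
  | zero => rw [pow_zero, pow_zero, dl_one]
  | succ k ih =>
    rw [pow_succ, dl_mul_of_commute _ _ _ (by rw [ih]; exact h.pow_left k), ih, pow_succ]

/-- An element `z ∈ A ∩ x A x⁻¹` commutes with `w(a)`. -/
theorem commute_w (x : G) (A : Subgroup G) (hAc : ∀ a ∈ A, ∀ a' ∈ A, a * a' = a' * a)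
    {z a : G} (hz : z ∈ A) (hz1 : x⁻¹ * z * x ∈ A) (ha : a ∈ A) :
    z * w x a = w x a * z := by
  have h1 : z * (x * a * x⁻¹) = (x * a * x⁻¹) * z := by
    have e1 : z * (x * a * x⁻¹) = x * ((x⁻¹ * z * x) * a) * x⁻¹ := by group
    have e2 : (x * a * x⁻¹) * z = x * (a * (x⁻¹ * z * x)) * x⁻¹ := by group
    rw [e1, e2, hAc _ hz1 a ha]
  calc z * w x a = z * (a⁻¹ * (x * a * x⁻¹)) := by rw [w_eq]
    _ = (z * a⁻¹) * (x * a * x⁻¹) := (mul_assoc _ _ _).symm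
    _ = (a⁻¹ * z) * (x * a * x⁻¹) := by rw [hAc z hz a⁻¹ (A.inv_mem ha)]
    _ = a⁻¹ * (z * (x * a * x⁻¹)) := mul_assoc _ _ _
    _ = a⁻¹ * ((x * a * x⁻¹) * z) := by rw [h1]
    _ = w x a * z := by rw [w_eq]; exact (mul_assoc _ _ _).symm

/-! ### The commutator `[A, x]` is abelian -/

/-- The hypotheses on `A`, `B`, `x` in elementwise form. -/
structure Setup (A B : Subgroup G) (x : G) : Prop where
  hA : ∀ a ∈ A, ∀ a' ∈ A, a * a' = a' * a
  hB2 : ∀ u ∈ B, ∀ v ∈ B, ∀ t ∈ B, Commute t ⁅u, v⁆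
  hBA : ∀ u ∈ B, ∀ v ∈ B, ⁅u, v⁆ ∈ A
  hAB : A ≤ normalizer (B : Set G)
  hx : x ∈ B
  hw : ∀ a ∈ A, w x a ∈ normalizer (A : Set G)
  hodd : ∀ g : G, g * g = 1 → g = 1

/-- `g(a) = [x, a⁻¹ x a]`. -/
def gg (x a : G) : G := ⁅x, a⁻¹ * x * a⁆

/-- `h(a, a') = [x, δ_{a'}(w(a))]`. -/
def hh (x a a' : G) : G := ⁅x, dl a' (w x a)⁆

namespace Setup

variable {A B : Subgroup G} {x : G} (S : Setup A B x)
include S

theorem comm_A {u v a : G} (hu : u ∈ B) (hv : v ∈ B) (ha : a ∈ A) : Commute a ⁅u, v⁆ :=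
  S.hA a ha _ (S.hBA u hu v hv)

theorem conj_mem_B {a b : G} (ha : a ∈ A) (hb : b ∈ B) : a⁻¹ * b * a ∈ B := by
  have h := (Subgroup.mem_normalizer_iff.mp (S.hAB (A.inv_mem ha)) b).mp hb
  rwa [inv_inv] at h

theorem conj_mem_B' {a b : G} (ha : a ∈ A) (hb : b ∈ B) : a * b * a⁻¹ ∈ B :=
  (Subgroup.mem_normalizer_iff.mp (S.hAB ha) b).mp hb

theorem y_mem {a : G} (ha : a ∈ A) : a⁻¹ * x * a ∈ B := S.conj_mem_B ha S.hx

theorem w_mem_B {a : G} (ha : a ∈ A) : w x a ∈ B :=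
  B.mul_mem (S.y_mem ha) (B.inv_mem S.hx)

theorem dl_mem_A {a a' : G} (ha : a ∈ A) (ha' : a' ∈ A) : dl a' (w x a) ∈ A := by
  have h := (Subgroup.mem_normalizer_iff.mp (S.hw a ha) a').mp ha'
  have : dl a' (w x a) = a'⁻¹ * (w x a * a' * (w x a)⁻¹) := by unfold dl; group
  rw [this]
  exact A.mul_mem (A.inv_mem ha') h

theorem dl_mem_B {a a' : G} (ha : a ∈ A) (ha' : a' ∈ A) : dl a' (w x a) ∈ B := by
  unfold dl
  exact B.mul_mem (S.conj_mem_B ha' (S.w_mem_B ha)) (B.inv_mem (S.w_mem_B ha))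

theorem commB_mul_right {u v v' : G} (hu : u ∈ B) (hv : v ∈ B) (hv' : v' ∈ B) :
    ⁅u, v * v'⁆ = ⁅u, v⁆ * ⁅u, v'⁆ :=
  comm_mul_right u v v' (S.hB2 u hu v' hv' v hv)

theorem commB_comm {u v u' v' : G} (hu : u ∈ B) (hv : v ∈ B) (hu' : u' ∈ B) (hv' : v' ∈ B) :
    ⁅u, v⁆ * ⁅u', v'⁆ = ⁅u', v'⁆ * ⁅u, v⁆ :=
  S.hA _ (S.hBA u hu v hv) _ (S.hBA u' hu' v' hv')

theorem commB_mul_left {u u' v : G} (hu : u ∈ B) (hu' : u' ∈ B) (hv : v ∈ B) :
    ⁅u * u', v⁆ = ⁅u, v⁆ * ⁅u', v⁆ := by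
  rw [comm_mul_left u u' v (S.hB2 u' hu' v hv u hu)]
  exact S.commB_comm hu' hv hu hv

theorem commB_inv_right {u v : G} (hu : u ∈ B) (hv : v ∈ B) : ⁅u, v⁻¹⁆ = ⁅u, v⁆⁻¹ :=
  comm_inv_right u v (S.hB2 u hu v hv v hv)

theorem commB_inv_left {u v : G} (hu : u ∈ B) (hv : v ∈ B) : ⁅u⁻¹, v⁆ = ⁅u, v⁆⁻¹ :=
  comm_inv_left u v (S.hB2 u hu v hv u hu)

/-- `g(a a') = h(a, a') g(a) g(a')`. -/
theorem gg_mul {a a' : G} (ha : a ∈ A) (ha' : a' ∈ A) :
    gg x (a * a') = hh x a a' * gg x a * gg x a' := by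
  unfold gg hh
  rw [conj_y_mul, S.commB_mul_right S.hx (B.mul_mem (S.dl_mem_B ha ha') (S.w_mem_B ha))
    (S.y_mem ha'), S.commB_mul_right S.hx (S.dl_mem_B ha ha') (S.w_mem_B ha)]
  congr 2
  -- `[x, w(a)] = g(a)`
  have : w x a = (a⁻¹ * x * a) * x⁻¹ := by unfold w; group
  rw [this, S.commB_mul_right S.hx (S.y_mem ha) (B.inv_mem S.hx)]
  have : ⁅x, x⁻¹⁆ = 1 := by rw [commutatorElement_def]; group
  rw [this, mul_one]

theorem gg_comm {a a' : G} (ha : a ∈ A) (ha' : a' ∈ A) :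
    gg x a * gg x a' = gg x a' * gg x a :=
  S.commB_comm S.hx (S.y_mem ha) S.hx (S.y_mem ha')

theorem hh_symm {a a' : G} (ha : a ∈ A) (ha' : a' ∈ A) : hh x a a' = hh x a' a := by
  have h1 := S.gg_mul ha ha'
  have h2 := S.gg_mul ha' ha
  rw [S.hA a ha a' ha', h2] at h1
  have h3 : hh x a' a * (gg x a' * gg x a) = hh x a a' * (gg x a' * gg x a) := by
    rw [← mul_assoc, h1, mul_assoc, S.gg_comm ha ha']
  exact (mul_right_cancel h3).symm

theorem hh_mul_right {a a' a'' : G} (ha : a ∈ A) (ha' : a' ∈ A) (ha'' : a'' ∈ A) :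
    hh x a (a' * a'') = hh x a a' * hh x a a'' := by
  unfold hh
  rw [dl_mul_of_commute _ _ _ (S.hA _ (S.dl_mem_A ha ha') _ ha''),
    S.commB_mul_right S.hx (S.dl_mem_B ha ha') (S.dl_mem_B ha ha'')]

omit S in
theorem hh_one_right (a : G) : hh x a 1 = 1 := by
  unfold hh
  rw [dl_one, commutatorElement_def]; group

omit S in
theorem gg_one : gg x 1 = 1 := by
  unfold gg
  rw [commutatorElement_def]; group

theorem gg_inv {a : G} (ha : a ∈ A) : gg x a⁻¹ = (gg x a)⁻¹ := by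
  have hmem : a * x * a⁻¹ ∈ B := S.conj_mem_B' ha S.hx
  have e1 : a⁻¹ * gg x a⁻¹ * a = (gg x a)⁻¹ := by
    unfold gg
    simp only [commutatorElement_def]; group
  have hc : Commute a (gg x a⁻¹) := by
    unfold gg
    rw [inv_inv]
    exact S.comm_A S.hx hmem ha
  rw [← e1, mul_assoc, ← hc.eq, ← mul_assoc, inv_mul_cancel, one_mul]

theorem hh_inv_right {a : G} (ha : a ∈ A) : hh x a a⁻¹ = 1 := by
  have h1 := S.gg_mul ha (A.inv_mem ha)
  rw [mul_inv_cancel, gg_one, S.gg_inv ha, mul_assoc, mul_inv_cancel, mul_one] at h1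
  exact h1.symm

theorem hh_self {a : G} (ha : a ∈ A) : hh x a a = 1 := by
  have h1 := S.hh_mul_right ha ha (A.inv_mem ha)
  rw [mul_inv_cancel, hh_one_right, S.hh_inv_right ha, mul_one] at h1
  exact h1.symm

theorem hh_eq_one {a a' : G} (ha : a ∈ A) (ha' : a' ∈ A) : hh x a a' = 1 := by
  apply S.hodd
  have haa : a * a' ∈ A := A.mul_mem ha ha'
  have h1 : hh x (a * a') (a * a') = 1 := S.hh_self haa
  rw [S.hh_mul_right haa ha ha', S.hh_symm haa ha, S.hh_symm haa ha',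
    S.hh_mul_right ha ha ha', S.hh_mul_right ha' ha ha', S.hh_self ha, S.hh_self ha',
    one_mul, mul_one, S.hh_symm ha' ha] at h1
  exact h1

theorem gg_hom {a a' : G} (ha : a ∈ A) (ha' : a' ∈ A) :
    gg x (a * a') = gg x a * gg x a' := by
  rw [S.gg_mul ha ha', S.hh_eq_one ha ha', one_mul]

/-- `[a⁻¹ x a, a'⁻¹ x a'] = g(a' a⁻¹)`. -/
theorem comm_y_y {a a' : G} (ha : a ∈ A) (ha' : a' ∈ A) :
    ⁅a⁻¹ * x * a, a'⁻¹ * x * a'⁆ = gg x (a' * a⁻¹) := by
  have e1 : ⁅a⁻¹ * x * a, a'⁻¹ * x * a'⁆ = a⁻¹ * gg x (a' * a⁻¹) * a := by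
    unfold gg
    simp only [commutatorElement_def]; group
  have hmem : (a' * a⁻¹)⁻¹ * x * (a' * a⁻¹) ∈ B := S.y_mem (A.mul_mem ha' (A.inv_mem ha))
  have hc : Commute a (gg x (a' * a⁻¹)) := S.comm_A S.hx hmem ha
  rw [e1, mul_assoc, ← hc.eq, ← mul_assoc, inv_mul_cancel, one_mul]

/-- The elements `w(a)` commute. -/
theorem w_comm {a a' : G} (ha : a ∈ A) (ha' : a' ∈ A) :
    w x a * w x a' = w x a' * w x a := by
  have hxi : x⁻¹ ∈ B := B.inv_mem S.hx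
  have key : ⁅w x a, w x a'⁆ = 1 := by
    have e1 : w x a = (a⁻¹ * x * a) * x⁻¹ := by unfold w; group
    have e2 : w x a' = (a'⁻¹ * x * a') * x⁻¹ := by unfold w; group
    rw [e1, e2]
    have hy := S.y_mem ha
    have hy' := S.y_mem ha'
    rw [S.commB_mul_left hy hxi (B.mul_mem hy' hxi),
      S.commB_mul_right hy hy' hxi, S.commB_mul_right hxi hy' hxi,
      S.comm_y_y ha ha', S.commB_inv_right hy S.hx, S.commB_inv_left S.hx hy',
      S.gg_hom ha' (A.inv_mem ha), S.gg_inv ha]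
    have e3 : ⁅x⁻¹, x⁻¹⁆ = 1 := by rw [commutatorElement_def]; group
    have e4 : ⁅a⁻¹ * x * a, x⁆⁻¹ = gg x a := by
      unfold gg; rw [commutatorElement_inv]
    have e5 : ⁅x, a'⁻¹ * x * a'⁆ = gg x a' := rfl
    rw [e3, e4, e5, mul_one]
    group
  exact (commutatorElement_eq_one_iff_commute.mp key).eq

theorem conj_inv_mem {d : G} (hdA : d ∈ A) (hdB : d ∈ B) : x⁻¹ * d * x ∈ A := by
  have : x⁻¹ * d * x = d * ⁅d⁻¹, x⁻¹⁆ := by rw [commutatorElement_def]; group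
  rw [this]
  exact A.mul_mem hdA (S.hBA _ (B.inv_mem hdB) _ (B.inv_mem S.hx))

theorem conj_mem' {d : G} (hdA : d ∈ A) (hdB : d ∈ B) : x * d * x⁻¹ ∈ A := by
  have : x * d * x⁻¹ = ⁅x, d⁆ * d := by rw [commutatorElement_def]; group
  rw [this]
  exact A.mul_mem (S.hBA _ S.hx _ hdB) hdA

theorem dl_commute_w {a a' a'' : G} (ha : a ∈ A) (ha' : a' ∈ A) (ha'' : a'' ∈ A) :
    dl a' (w x a) * w x a'' = w x a'' * dl a' (w x a) :=
  commute_w x A S.hA (S.dl_mem_A ha ha')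
    (S.conj_inv_mem (S.dl_mem_A ha ha') (S.dl_mem_B ha ha')) ha''

theorem w_pow {a : G} (ha : a ∈ A) (k : ℕ) :
    w x (a ^ k) = (dl a (w x a)) ^ (∑ i ∈ Finset.range k, i) * (w x a) ^ k := by
  induction k with
  | zero => simp [w_one]
  | succ k ih =>
    have hc : Commute (dl a (w x a)) a := S.hA _ (S.dl_mem_A ha ha) _ ha
    have hcw : Commute (dl a (w x a)) (w x a) := S.dl_commute_w ha ha ha
    rw [pow_succ' a k, w_mul, dl_pow _ _ hc, ih, Finset.sum_range_succ, pow_add,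
      pow_succ' (w x a) k]
    obtain ⟨e, he⟩ : ∃ e, e = dl a (w x a) := ⟨_, rfl⟩
    obtain ⟨c, hcdef⟩ : ∃ c, c = ∑ i ∈ Finset.range k, i := ⟨_, rfl⟩
    rw [← he] at hcw ⊢
    rw [← hcdef]
    have h1 : w x a * e ^ c = e ^ c * w x a := ((hcw.pow_left c).eq).symm
    have h2 : e ^ k * e ^ c = e ^ c * e ^ k := ((Commute.refl e).pow_pow k c).eq
    calc e ^ k * w x a * (e ^ c * w x a ^ k)
        = e ^ k * (w x a * e ^ c) * w x a ^ k := by group
      _ = e ^ k * (e ^ c * w x a) * w x a ^ k := by rw [h1]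
      _ = (e ^ k * e ^ c) * (w x a * w x a ^ k) := by group
      _ = e ^ c * e ^ k * (w x a * w x a ^ k) := by rw [h2]

theorem w_pow_eq_one {a : G} (ha : a ∈ A) {n : ℕ} (hn : Odd n) (han : a ^ n = 1) :
    (w x a) ^ n = 1 := by
  have h1 := S.w_pow ha n
  rw [han, w_one] at h1
  have hc : Commute (dl a (w x a)) a := S.hA _ (S.dl_mem_A ha ha) _ ha
  have he : (dl a (w x a)) ^ n = 1 := by rw [← dl_pow _ _ hc, han, dl_one]
  obtain ⟨m, hm⟩ := hn
  have hsum : (∑ i ∈ Finset.range n, i) = n * m := by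
    have h2 := Finset.sum_range_id_mul_two n
    have e : n - 1 = 2 * m := by omega
    rw [e] at h2
    have h3 : (∑ i ∈ Finset.range n, i) * 2 = (n * m) * 2 := by rw [h2]; ring
    exact Nat.eq_of_mul_eq_mul_right (by norm_num) h3
  rw [hsum, pow_mul, he, one_pow, one_mul] at h1
  exact h1.symm

end Setup

/-! ### Counting -/

section Count

variable [Finite G]

/-- The set of generators `w(a)`, `a ∈ A`. -/
def wSet (x : G) (A : Subgroup G) : Set G := {m | ∃ a ∈ A, m = w x a}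

theorem card_count (x : G) (A D' : Subgroup G)
    (hAc : ∀ a ∈ A, ∀ a' ∈ A, a * a' = a' * a)
    (hwN : ∀ a ∈ A, w x a ∈ normalizer (A : Set G))
    (hD'A : D' ≤ A) (hD'σ : D' ≤ cj x A)
    (hcoc : ∀ a ∈ A, ∀ a' ∈ A, ∃ d ∈ D', w x (a * a') = d * w x a * w x a')
    (hZ : ∀ z ∈ A ⊓ cj x A, x * z * x⁻¹ ∈ A) :
    Nat.card ↥((A ⊓ cj x A) ⊔ closure (wSet x A)) = Nat.card A := by
  obtain ⟨Z, hZdef⟩ : ∃ Z : Subgroup G, Z = A ⊓ cj x A := ⟨_, rfl⟩
  obtain ⟨M, hMdef⟩ : ∃ M : Subgroup G, M = closure (wSet x A) := ⟨_, rfl⟩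
  rw [← hZdef, ← hMdef]
  have hZA : Z ≤ A := hZdef ▸ inf_le_left
  have hZσ : Z ≤ cj x A := hZdef ▸ inf_le_right
  have hD'Z : D' ≤ Z := hZdef ▸ le_inf hD'A hD'σ
  have hwM : ∀ a ∈ A, w x a ∈ M := fun a ha => hMdef ▸ subset_closure ⟨a, ha, rfl⟩
  -- (i) `Z` commutes with the `w(a)`
  have hZw : ∀ z ∈ Z, ∀ a ∈ A, z * w x a = w x a * z := by
    intro z hz a ha
    have hz1 : x⁻¹ * z * x ∈ A := (mem_cj_iff x A z).mp (hZσ hz)
    have h1 : z * (x * a * x⁻¹) = (x * a * x⁻¹) * z := by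
      have e1 : z * (x * a * x⁻¹) = x * ((x⁻¹ * z * x) * a) * x⁻¹ := by group
      have e2 : (x * a * x⁻¹) * z = x * (a * (x⁻¹ * z * x)) * x⁻¹ := by group
      rw [e1, e2, hAc _ hz1 a ha]
    calc z * w x a = z * (a⁻¹ * (x * a * x⁻¹)) := by rw [w_eq]
      _ = (z * a⁻¹) * (x * a * x⁻¹) := (mul_assoc _ _ _).symm
      _ = (a⁻¹ * z) * (x * a * x⁻¹) := by rw [hAc z (hZA hz) a⁻¹ (A.inv_mem ha)]
      _ = a⁻¹ * (z * (x * a * x⁻¹)) := mul_assoc _ _ _
      _ = a⁻¹ * ((x * a * x⁻¹) * z) := by rw [h1]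
      _ = w x a * z := by rw [w_eq]; exact (mul_assoc _ _ _).symm
  -- (ii) `Z` centralizes `M`
  have hZM : Z ≤ centralizer (M : Set G) := by
    rw [Subgroup.le_centralizer_iff, hMdef, closure_le]
    rintro m ⟨a, ha, rfl⟩
    rw [SetLike.mem_coe, Subgroup.mem_centralizer_iff]
    intro z hz
    exact hZw z hz a ha
  -- (iii) the form of the elements of `M`
  have hform : ∀ m ∈ M, ∃ z ∈ Z, ∃ a ∈ A, m = z * w x a := by
    intro m hm
    rw [hMdef] at hm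
    induction hm using Subgroup.closure_induction with
    | mem m hm =>
      obtain ⟨a, ha, rfl⟩ := hm
      exact ⟨1, Z.one_mem, a, ha, (one_mul _).symm⟩
    | one => exact ⟨1, Z.one_mem, 1, A.one_mem, by rw [w_one, one_mul]⟩
    | mul m m' _ _ ih ih' =>
      obtain ⟨z, hz, a, ha, rfl⟩ := ih
      obtain ⟨z', hz', a', ha', rfl⟩ := ih'
      obtain ⟨d, hd, hdw⟩ := hcoc a ha a' ha'
      refine ⟨z * z' * d⁻¹, Z.mul_mem (Z.mul_mem hz hz') (Z.inv_mem (hD'Z hd)), a * a',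
        A.mul_mem ha ha', ?_⟩
      rw [hdw]
      have e1 : z * w x a * (z' * w x a') = z * (w x a * z') * w x a' := by group
      rw [e1, ← hZw z' hz' a ha]
      group
    | inv m _ ih =>
      obtain ⟨z, hz, a, ha, rfl⟩ := ih
      obtain ⟨d, hd, hdw⟩ := hcoc a ha a⁻¹ (A.inv_mem ha)
      rw [mul_inv_cancel, w_one] at hdw
      refine ⟨z⁻¹ * d, Z.mul_mem (Z.inv_mem hz) (hD'Z hd), a⁻¹, A.inv_mem ha, ?_⟩
      have e1 : (w x a)⁻¹ = d * w x a⁻¹ := by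
        have : w x a * (d * w x a⁻¹) = 1 := by
          rw [← mul_assoc, ← hZw d (hD'Z hd) a ha]; exact hdw.symm
        exact inv_eq_of_mul_eq_one_right this
      calc (z * w x a)⁻¹ = (w x a)⁻¹ * z⁻¹ := mul_inv_rev _ _
        _ = d * (w x a⁻¹ * z⁻¹) := by rw [e1]; exact mul_assoc _ _ _
        _ = d * (z⁻¹ * w x a⁻¹) := by rw [hZw z⁻¹ (Z.inv_mem hz) a⁻¹ (A.inv_mem ha)]
        _ = (d * z⁻¹) * w x a⁻¹ := (mul_assoc _ _ _).symm
        _ = (z⁻¹ * d) * w x a⁻¹ := by rw [hAc d (hD'A hd) z⁻¹ (A.inv_mem (hZA hz))]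
  -- (iv) `Z` is invariant under conjugation by `x`
  have hcjZ : cj x Z = Z := by
    apply cj_eq_of_le
    intro y hy
    have hy1 : x⁻¹ * y * x ∈ Z := (mem_cj_iff x Z y).mp hy
    have e : y = x * (x⁻¹ * y * x) * x⁻¹ := by group
    rw [hZdef]
    refine ⟨?_, ?_⟩
    · rw [e]; exact hZ _ (hZdef ▸ hy1)
    · exact (mem_cj_iff x A y).mpr (hZA hy1)
  -- (v) `A ∩ M ≤ Z`
  have hAM : A ⊓ M ≤ Z := by
    rintro m ⟨hmA, hmM⟩
    obtain ⟨z, hz, a, ha, rfl⟩ := hform m hmM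
    have hwA : w x a ∈ A := by
      have : w x a = z⁻¹ * (z * w x a) := by group
      rw [this]; exact A.mul_mem (A.inv_mem (hZA hz)) hmA
    have hsA : x * a * x⁻¹ ∈ A := by rw [conj_eq_mul_w]; exact A.mul_mem ha hwA
    have hsZ : x * a * x⁻¹ ∈ Z := by
      rw [hZdef]; exact ⟨hsA, conj_mem_cj x A ha⟩
    have haZ : a ∈ Z := by
      rw [← hcjZ] at hsZ
      have := (mem_cj_iff x Z _).mp hsZ
      have e : x⁻¹ * (x * a * x⁻¹) * x = a := by group
      rwa [e] at this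
    have hwZ : w x a ∈ Z := by
      rw [w_eq]; exact Z.mul_mem (Z.inv_mem haZ) hsZ
    exact Z.mul_mem hz hwZ
  have hinf : Z ⊓ M = A ⊓ M :=
    le_antisymm (inf_le_inf hZA le_rfl) (le_inf hAM inf_le_right)
  -- (vi) `A A^x = A M`
  have hsup : A ⊔ cj x A = A ⊔ M := by
    apply le_antisymm
    · refine sup_le le_sup_left ?_
      intro y hy
      have hy1 : x⁻¹ * y * x ∈ A := (mem_cj_iff x A y).mp hy
      have e : y = x * (x⁻¹ * y * x) * x⁻¹ := by group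
      rw [e, conj_eq_mul_w]
      exact Subgroup.mul_mem_sup hy1 (hwM _ hy1)
    · refine sup_le le_sup_left ?_
      rw [hMdef, closure_le]
      rintro m ⟨a, ha, rfl⟩
      rw [SetLike.mem_coe, w_eq]
      exact Subgroup.mul_mem_sup (A.inv_mem ha) (conj_mem_cj x A ha)
  -- (vii) normalizers
  have hMN : M ≤ normalizer (A : Set G) := by
    rw [hMdef, closure_le]
    rintro m ⟨a, ha, rfl⟩
    exact hwN a ha
  have hσN : cj x A ≤ normalizer (A : Set G) := by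
    intro y hy
    have hy1 : x⁻¹ * y * x ∈ A := (mem_cj_iff x A y).mp hy
    have e : y = x * (x⁻¹ * y * x) * x⁻¹ := by group
    rw [e, conj_eq_mul_w]
    exact (normalizer (A : Set G)).mul_mem (le_normalizer hy1) (hwN _ hy1)
  -- (viii) product formulas
  have F1 := Cfsg.H5.card_sup_mul_card_inf hσN
  have F2 := Cfsg.H5.card_sup_mul_card_inf hMN
  have F3 := Cfsg.H5.card_sup_mul_card_inf (Cfsg.H5.le_normalizer_of_le_centralizer hZM)
  rw [sup_comm, hsup, inf_comm, ← hZdef, card_cj] at F1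
  rw [sup_comm, inf_comm] at F2
  rw [hinf] at F3
  have hIpos : 0 < Nat.card ↥(A ⊓ M) := Nat.card_pos
  have hApos : 0 < Nat.card A := Nat.card_pos
  have key : Nat.card ↥(Z ⊔ M) * (Nat.card ↥(A ⊓ M) * Nat.card A) =
      Nat.card A * (Nat.card ↥(A ⊓ M) * Nat.card A) := by
    calc Nat.card ↥(Z ⊔ M) * (Nat.card ↥(A ⊓ M) * Nat.card A)
        = (Nat.card ↥(Z ⊔ M) * Nat.card ↥(A ⊓ M)) * Nat.card A := by ring
      _ = Nat.card Z * (Nat.card M * Nat.card A) := by rw [F3]; ring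
      _ = (Nat.card ↥(A ⊔ M) * Nat.card Z) * Nat.card ↥(A ⊓ M) := by rw [← F2]; ring
      _ = Nat.card A * (Nat.card ↥(A ⊓ M) * Nat.card A) := by rw [F1]; ring
  exact Nat.eq_of_mul_eq_mul_right (Nat.mul_pos hIpos hApos) key

end Count

/-! ### Auxiliary lemmas for the main theorem -/

theorem mem_omegaOne_iff {p : ℕ} (A : Subgroup G)
    (hAc : ∀ a ∈ A, ∀ a' ∈ A, a * a' = a' * a) (g : G) :
    g ∈ Cfsg.omegaOne p A ↔ g ∈ A ∧ g ^ p = 1 := by
  constructor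
  · intro hg
    unfold Cfsg.omegaOne at hg
    induction hg using Subgroup.closure_induction with
    | mem g hg => exact hg
    | one => exact ⟨A.one_mem, one_pow _⟩
    | mul g h _ _ ihg ihh =>
      refine ⟨A.mul_mem ihg.1 ihh.1, ?_⟩
      rw [(show Commute g h from hAc g ihg.1 h ihh.1).mul_pow, ihg.2, ihh.2, one_mul]
    | inv g _ ih => exact ⟨A.inv_mem ih.1, by rw [inv_pow, ih.2, inv_one]⟩
  · intro hg
    exact subset_closure hg

theorem isMulCommutative_sup' {A B : Subgroup G} (hA : IsMulCommutative A)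
    (hB : IsMulCommutative B) (hAB : A ≤ Subgroup.centralizer (B : Set G)) :
    IsMulCommutative ↥(A ⊔ B) := by
  have h : IsMulCommutative (Subgroup.closure ((A : Set G) ∪ B)) := by
    apply Subgroup.isMulCommutative_closure
    rintro x (hx | hx) y (hy | hy)
    · exact setLike_mul_comm hx hy
    · exact ((Subgroup.mem_centralizer_iff.mp (hAB hx)) y hy).symm
    · exact (Subgroup.mem_centralizer_iff.mp (hAB hy)) x hx
    · exact setLike_mul_comm hx hy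
  rwa [Subgroup.closure_union, Subgroup.closure_eq, Subgroup.closure_eq] at h

/-- In an abelian subgroup generated by elements of `n`-th power `1`, all `n`-th powers are `1`. -/
theorem pow_eq_one_of_mem_closure {T : Set G} {n : ℕ}
    (hcomm : ∀ s ∈ T, ∀ t ∈ T, s * t = t * s) (hT : ∀ t ∈ T, t ^ n = 1) :
    ∀ g ∈ closure T, g ^ n = 1 := by
  haveI : IsMulCommutative (closure T) := Subgroup.isMulCommutative_closure hcomm
  intro g hg
  induction hg using Subgroup.closure_induction with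
  | mem g hg => exact hT g hg
  | one => exact one_pow _
  | mul g h hg hh ihg ihh =>
    rw [(show Commute g h from setLike_mul_comm hg hh).mul_pow, ihg, ihh, one_mul]
  | inv g _ ih => rw [inv_pow, ih, inv_one]

/-- Elements of `A ⊔ B` are products when `A` normalizes `B`. -/
theorem exists_mul_of_mem_sup {A B : Subgroup G} (hAB : A ≤ normalizer (B : Set G)) :
    ∀ t ∈ A ⊔ B, ∃ a ∈ A, ∃ b ∈ B, t = a * b := by
  intro t ht
  have hsup : A ⊔ B = closure ((A : Set G) ∪ B) := by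
    rw [Subgroup.closure_union, Subgroup.closure_eq, Subgroup.closure_eq]
  rw [hsup] at ht
  induction ht using Subgroup.closure_induction with
  | mem g hg =>
    rcases hg with hg | hg
    · exact ⟨g, hg, 1, B.one_mem, (mul_one g).symm⟩
    · exact ⟨1, A.one_mem, g, hg, (one_mul g).symm⟩
  | one => exact ⟨1, A.one_mem, 1, B.one_mem, (one_mul 1).symm⟩
  | mul g h _ _ ihg ihh =>
    obtain ⟨a, ha, b, hb, rfl⟩ := ihg
    obtain ⟨a', ha', b', hb', rfl⟩ := ihh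
    have h1 : a'⁻¹ * b * a' ∈ B := by
      have := (Subgroup.mem_normalizer_iff.mp (hAB (A.inv_mem ha')) b).mp hb
      rwa [inv_inv] at this
    exact ⟨a * a', A.mul_mem ha ha', a'⁻¹ * b * a' * b', B.mul_mem h1 hb', by group⟩
  | inv g _ ih =>
    obtain ⟨a, ha, b, hb, rfl⟩ := ih
    have h1 : a * b⁻¹ * a⁻¹ ∈ B :=
      (Subgroup.mem_normalizer_iff.mp (hAB ha) b⁻¹).mp (B.inv_mem hb)
    exact ⟨a⁻¹, A.inv_mem ha, a * b⁻¹ * a⁻¹, h1, by group⟩

/-- `N(A)` normalizes `Ω₁(A)` for `A` abelian. -/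
theorem normalizer_le_normalizer_omegaOne {p : ℕ} (A : Subgroup G)
    (hAc : ∀ a ∈ A, ∀ a' ∈ A, a * a' = a' * a) :
    normalizer (A : Set G) ≤ normalizer ((Cfsg.omegaOne p A : Subgroup G) : Set G) := by
  intro g hg
  rw [Subgroup.mem_normalizer_iff] at hg ⊢
  intro h
  rw [mem_omegaOne_iff A hAc, mem_omegaOne_iff A hAc, conj_pow]
  constructor
  · rintro ⟨h1, h2⟩
    exact ⟨(hg h).mp h1, by rw [h2]; group⟩
  · rintro ⟨h1, h2⟩
    refine ⟨(hg h).mpr h1, ?_⟩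
    have : h ^ p = g⁻¹ * (g * h ^ p * g⁻¹) * g := by group
    rw [this, h2]; group

theorem result {G : Type*} [Group G] [Finite G] {p : ℕ} [Fact p.Prime] (hp : p ≠ 2) (hG : IsPGroup p G) (A B : Subgroup G) (hA : IsMulCommutative A) (hB2 : ⁅⁅B, B⁆, B⁆ = ⊥) (hBA : ⁅B, B⁆ ≤ A) (hAB : A ≤ Subgroup.normalizer (B : Set G)) (hBnA : ¬ B ≤ Subgroup.normalizer (A : Set G)) : ∃ Astar : Subgroup G, IsMulCommutative Astar ∧ Nat.card Astar = Nat.card A ∧ A ⊓ B < Astar ⊓ B ∧ Astar ≤ Subgroup.normalizer (A : Set G) ∧ Astar ≤ Subgroup.normalClosure (A : Set G) ∧ Monoid.exponent Astar ∣ Monoid.exponent A ∧ Nat.card (Cfsg.omegaOne p A) ≤ Nat.card (Cfsg.omegaOne p Astar) := by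
  classical
  have hpodd : Odd p := (Fact.out : p.Prime).odd_of_ne_two hp
  have hAc : ∀ a ∈ A, ∀ a' ∈ A, a * a' = a' * a := fun a ha a' ha' => setLike_mul_comm ha ha'
  have hodd : ∀ g : G, g * g = 1 → g = 1 := by
    intro g hg
    obtain ⟨k, hk⟩ := hG g
    have h1 : orderOf g ∣ 2 := orderOf_dvd_of_pow_eq_one (by rw [sq]; exact hg)
    have h2 : orderOf g ∣ p ^ k := orderOf_dvd_of_pow_eq_one hk
    have hc : Nat.Coprime 2 (p ^ k) := Nat.coprime_two_left.mpr hpodd.pow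
    exact orderOf_eq_one_iff.mp (Nat.eq_one_of_dvd_coprimes hc h1 h2)
  have hB2' : ∀ u ∈ B, ∀ v ∈ B, ∀ t ∈ B, Commute t ⁅u, v⁆ := by
    intro u hu v hv t ht
    have h1 : ⁅⁅u, v⁆, t⁆ ∈ ⁅⁅B, B⁆, B⁆ :=
      Subgroup.commutator_mem_commutator (Subgroup.commutator_mem_commutator hu hv) ht
    rw [hB2, Subgroup.mem_bot] at h1
    exact (commutatorElement_eq_one_iff_commute.mp h1).symm
  have hBA' : ∀ u ∈ B, ∀ v ∈ B, ⁅u, v⁆ ∈ A := fun u hu v hv =>
    hBA (Subgroup.commutator_mem_commutator hu hv)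
  -- choose `x`
  obtain ⟨x, hxB, hxN, hw⟩ : ∃ x ∈ B, x ∉ normalizer (A : Set G) ∧
      ∀ a ∈ A, w x a ∈ normalizer (A : Set G) := by
    obtain ⟨K, hKdef⟩ : ∃ K : Subgroup G, K = A ⊔ (normalizer (A : Set G) ⊓ B) := ⟨_, rfl⟩
    have hKN : K ≤ normalizer (A : Set G) := hKdef ▸ sup_le le_normalizer inf_le_left
    have hAK : A ≤ K := hKdef ▸ le_sup_left
    have hKH : K ≤ A ⊔ B := hKdef ▸ sup_le le_sup_left (inf_le_right.trans le_sup_right)
    have hlt : K < A ⊔ B := by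
      refine lt_of_le_of_ne hKH ?_
      intro h
      exact hBnA ((le_sup_right.trans (le_of_eq h.symm)).trans hKN)
    obtain ⟨t, htH, htK, htN⟩ :=
      Cfsg.Agent.Lib.Helper18.exists_mem_normalizer_not_mem_of_lt K (A ⊔ B)
        (hG.to_subgroup (A ⊔ B)) hlt
    obtain ⟨a, ha, b, hb, rfl⟩ := exists_mul_of_mem_sup hAB t htH
    have hbN : b ∈ normalizer (K : Set G) := by
      have : b = a⁻¹ * (a * b) := by group
      rw [this]
      exact (normalizer (K : Set G)).mul_mem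
        ((normalizer (K : Set G)).inv_mem (le_normalizer (hAK ha))) htN
    have hbK : b ∉ K := fun h => htK (K.mul_mem (hAK ha) h)
    refine ⟨b, hb, fun h => hbK (hKdef ▸ Subgroup.mem_sup_right ⟨h, hb⟩), ?_⟩
    intro a' ha'
    apply hKN
    rw [w_eq]
    exact K.mul_mem (K.inv_mem (hAK ha'))
      ((Subgroup.mem_normalizer_iff.mp hbN a').mp (hAK ha'))
  have S : Setup A B x := ⟨hAc, hB2', hBA', hAB, hxB, hw, hodd⟩
  -- the subgroups
  obtain ⟨Z, hZdef⟩ : ∃ Z : Subgroup G, Z = A ⊓ cj x A := ⟨_, rfl⟩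
  obtain ⟨M, hMdef⟩ : ∃ M : Subgroup G, M = closure (wSet x A) := ⟨_, rfl⟩
  have hZA : Z ≤ A := hZdef ▸ inf_le_left
  have hwM : ∀ a ∈ A, w x a ∈ M := fun a ha => hMdef ▸ subset_closure ⟨a, ha, rfl⟩
  have hDσ : A ⊓ B ≤ cj x A := by
    rintro d ⟨hdA, hdB⟩
    exact (mem_cj_iff x A d).mpr (S.conj_inv_mem hdA hdB)
  have hDZ : A ⊓ B ≤ Z := hZdef ▸ le_inf inf_le_left hDσ
  have hcoc : ∀ a ∈ A, ∀ a' ∈ A, ∃ d ∈ A ⊓ B, w x (a * a') = d * w x a * w x a' :=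
    fun a ha a' ha' => ⟨dl a' (w x a), ⟨S.dl_mem_A ha ha', S.dl_mem_B ha ha'⟩, w_mul x a a'⟩
  have hZinv : ∀ z ∈ A ⊓ cj x A, x * z * x⁻¹ ∈ A := by
    rintro z ⟨hzA, hzσ⟩
    have h0 : x⁻¹ * z * x ∈ A := (mem_cj_iff x A z).mp hzσ
    have e : z = (x⁻¹ * z * x) * w x (x⁻¹ * z * x) := by
      rw [← conj_eq_mul_w]; group
    have hwA : w x (x⁻¹ * z * x) ∈ A := by
      have : w x (x⁻¹ * z * x) = (x⁻¹ * z * x)⁻¹ * z := by
        rw [w_eq]; group
      rw [this]; exact A.mul_mem (A.inv_mem h0) hzA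
    have h1 : x * w x (x⁻¹ * z * x) * x⁻¹ ∈ A := S.conj_mem' hwA (S.w_mem_B h0)
    have e2 : x * z * x⁻¹ = z * (x * w x (x⁻¹ * z * x) * x⁻¹) := by
      rw [w_eq]; group
    rw [e2]; exact A.mul_mem hzA h1
  have hZM : Z ≤ centralizer (M : Set G) := by
    rw [Subgroup.le_centralizer_iff, hMdef, closure_le]
    rintro m ⟨a, ha, rfl⟩
    rw [SetLike.mem_coe, Subgroup.mem_centralizer_iff]
    intro z hz
    have hz' : z ∈ A ⊓ cj x A := hZdef ▸ hz
    exact commute_w x A hAc hz'.1 ((mem_cj_iff x A z).mp hz'.2) ha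
  have hZc : IsMulCommutative Z :=
    IsMulCommutative.of_setLike_mul_comm fun _ ha _ hb => hAc _ (hZA ha) _ (hZA hb)
  have hMc : IsMulCommutative M := by
    rw [hMdef]
    apply Subgroup.isMulCommutative_closure
    rintro _ ⟨a, ha, rfl⟩ _ ⟨a', ha', rfl⟩
    exact S.w_comm ha ha'
  have hMN : M ≤ normalizer (A : Set G) := by
    rw [hMdef, closure_le]
    rintro m ⟨a, ha, rfl⟩
    exact hw a ha
  have hMB : M ≤ B := by
    rw [hMdef, closure_le]
    rintro m ⟨a, ha, rfl⟩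
    exact S.w_mem_B ha
  have hexpA : ∀ a ∈ A, a ^ Monoid.exponent A = 1 := by
    intro a ha
    have := Monoid.pow_exponent_eq_one (⟨a, ha⟩ : A)
    exact congrArg Subtype.val this
  have hexpodd : Odd (Monoid.exponent A) := by
    obtain ⟨k, hk⟩ := (hG.to_subgroup A).exists_card_eq
    have h1 : Monoid.exponent A ∣ p ^ k := hk ▸ Group.exponent_dvd_nat_card
    exact Odd.of_dvd_nat hpodd.pow h1
  refine ⟨Z ⊔ M, isMulCommutative_sup' hZc hMc hZM, ?_, ?_, ?_, ?_, ?_, ?_⟩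
  · -- cardinality
    rw [hZdef, hMdef]
    exact card_count x A (A ⊓ B) hAc hw inf_le_left hDσ hcoc hZinv
  · -- strict growth of the intersection with `B`
    have hle : A ⊓ B ≤ (Z ⊔ M) ⊓ B := le_inf (hDZ.trans le_sup_left) inf_le_right
    refine lt_of_le_of_ne hle ?_
    intro heq
    apply hxN
    rw [mem_normalizer_iff_cj]
    apply cj_eq_of_le
    intro y hy
    have hy1 : x⁻¹ * y * x ∈ A := (mem_cj_iff x A y).mp hy
    have e : y = x * (x⁻¹ * y * x) * x⁻¹ := by group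
    rw [e, conj_eq_mul_w]
    have hwmem : w x (x⁻¹ * y * x) ∈ (Z ⊔ M) ⊓ B :=
      ⟨Subgroup.mem_sup_right (hwM _ hy1), S.w_mem_B hy1⟩
    rw [← heq] at hwmem
    exact A.mul_mem hy1 hwmem.1
  · exact sup_le (hZA.trans le_normalizer) hMN
  · refine sup_le (hZA.trans le_normalClosure) ?_
    rw [hMdef, closure_le]
    rintro m ⟨a, ha, rfl⟩
    rw [SetLike.mem_coe, w_eq]
    exact (normalClosure (A : Set G)).mul_mem
      ((normalClosure (A : Set G)).inv_mem (le_normalClosure ha))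
      (normalClosure_normal.conj_mem a (le_normalClosure ha) x)
  · -- exponent
    apply Monoid.exponent_dvd_of_forall_pow_eq_one
    rintro ⟨g, hg⟩
    apply Subtype.ext
    rw [Subgroup.coe_pow, Subgroup.coe_one]
    show g ^ Monoid.exponent A = 1
    have hsup : Z ⊔ M = closure ((Z : Set G) ∪ wSet x A) := by
      rw [Subgroup.closure_union, Subgroup.closure_eq, hMdef]
    rw [hsup] at hg
    refine pow_eq_one_of_mem_closure ?_ ?_ g hg
    · have hcomm := isMulCommutative_sup' hZc hMc hZM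
      intro s hs t ht
      have hs' : s ∈ Z ⊔ M := by
        rcases hs with hs | hs
        · exact Subgroup.mem_sup_left hs
        · exact Subgroup.mem_sup_right (hMdef ▸ subset_closure hs)
      have ht' : t ∈ Z ⊔ M := by
        rcases ht with ht | ht
        · exact Subgroup.mem_sup_left ht
        · exact Subgroup.mem_sup_right (hMdef ▸ subset_closure ht)
      exact setLike_mul_comm hs' ht'
    · rintro t (ht | ⟨a, ha, rfl⟩)
      · exact hexpA t (hZA ht)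
      · exact S.w_pow_eq_one ha hexpodd (hexpA a ha)
  · -- rank
    obtain ⟨A₀, hA₀def⟩ : ∃ A₀ : Subgroup G, A₀ = Cfsg.omegaOne p A := ⟨_, rfl⟩
    have hA₀ : ∀ g, g ∈ A₀ ↔ g ∈ A ∧ g ^ p = 1 := fun g => by
      rw [hA₀def]; exact mem_omegaOne_iff A hAc g
    have hA₀A : A₀ ≤ A := fun g hg => ((hA₀ g).mp hg).1
    have hcount : Nat.card ↥((A₀ ⊓ cj x A₀) ⊔ closure (wSet x A₀)) = Nat.card A₀ := by
      refine card_count x A₀ (A₀ ⊓ B) (fun a ha a' ha' => hAc a (hA₀A ha) a' (hA₀A ha'))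
        ?_ inf_le_left ?_ ?_ ?_
      · intro a ha
        rw [hA₀def]
        exact normalizer_le_normalizer_omegaOne A hAc (hw a (hA₀A ha))
      · rintro d ⟨hdA, hdB⟩
        rw [mem_cj_iff, hA₀]
        refine ⟨S.conj_inv_mem (hA₀A hdA) hdB, ?_⟩
        have : x⁻¹ * d * x = x⁻¹ * d * x⁻¹⁻¹ := by rw [inv_inv]
        rw [this, conj_pow, ((hA₀ d).mp hdA).2]; group
      · intro a ha a' ha'
        refine ⟨dl a' (w x a), ⟨(hA₀ _).mpr ⟨S.dl_mem_A (hA₀A ha) (hA₀A ha'), ?_⟩,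
          S.dl_mem_B (hA₀A ha) (hA₀A ha')⟩, w_mul x a a'⟩
        have hc : Commute (dl a' (w x a)) a' :=
          hAc _ (S.dl_mem_A (hA₀A ha) (hA₀A ha')) _ (hA₀A ha')
        rw [← dl_pow _ _ hc, ((hA₀ a').mp ha').2, dl_one]
      · rintro z ⟨hzA, hzσ⟩
        rw [hA₀]
        refine ⟨hZinv z ⟨hA₀A hzA, Subgroup.map_mono hA₀A hzσ⟩, ?_⟩
        rw [conj_pow, ((hA₀ z).mp hzA).2]; group
    rw [← hA₀def, ← hcount]
    apply Subgroup.card_le_of_le
    refine sup_le ?_ ?_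
    · rintro z ⟨hzA, hzσ⟩
      apply Subgroup.subset_closure
      refine ⟨Subgroup.mem_sup_left ?_, ((hA₀ z).mp hzA).2⟩
      rw [hZdef]
      exact ⟨hA₀A hzA, Subgroup.map_mono hA₀A hzσ⟩
    · rw [closure_le]
      rintro m ⟨a, ha, rfl⟩
      apply Subgroup.subset_closure
      exact ⟨Subgroup.mem_sup_right (hwM a (hA₀A ha)),
        S.w_pow_eq_one (hA₀A ha) hpodd ((hA₀ a).mp ha).2⟩

end Cfsg.Agent.S3078
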