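-- Statement S3085: Inn(Q) has no complement in Aut(Q) for Q extraspecial 2^(1+2n), n ≥ 3.
import Cfsg.Statements.S3085
import Cfsg.Agent.Lib.Helper18.ExtraTau

set_option autoImplicit false
open Cfsg

namespace Cfsg.Agent.S3085

open Cfsg.Agent.Lib.Helper18.ExtraTau
open scoped commutatorElement

/-- Let Q be an extraspecial 2-group of order 2^(2n+1) with n ≥ 3 that is of plus type (it contains an elementary abelian subgroup of order 2^(n+1)). Then the group of inner automorphisms of Q has no complement in the full automorphism group of Q: the extension of the inner automorphism group (elementary abelian of order 2^(2n)) by the outer automorphism group (the orthogonal group of plus type) does not split. -/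
theorem result {Q : Type*} [Group Q] [Finite Q] (n : ℕ) (hn : 3 ≤ n) (hQ : Cfsg.IsExtraspecial 2 Q) (hcard : Nat.card Q = 2 ^ (2 * n + 1)) (hplus : ∃ E : Subgroup Q, Cfsg.IsElementaryAbelian 2 E ∧ Nat.card ↥E = 2 ^ (n + 1)) (L : Subgroup (MulAut Q)) : ¬ (Cfsg.Inn Q).IsComplement' L := by
  classical
  obtain ⟨⟨_, _, hcomm⟩, hcen⟩ := hQ
  -- the central involution
  obtain ⟨⟨z, hzc⟩, hz1, hzuniq⟩ := (Nat.card_eq_two_iff' (1 : Subgroup.center Q)).1 hcen
  have hz1' : z ≠ 1 := fun h => hz1 (Subtype.ext h)
  have hcenter : ∀ w : Q, (∀ x : Q, w * x = x * w) → w = 1 ∨ w = z := by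
    intro w hw
    by_cases h1 : w = 1
    · exact Or.inl h1
    · right
      have hwc : w ∈ Subgroup.center Q := by
        rw [Subgroup.mem_center_iff]; intro g; exact (hw g).symm
      have := hzuniq ⟨w, hwc⟩ (fun h => h1 (congrArg Subtype.val h))
      exact congrArg Subtype.val this
  have hzcentral : ∀ x : Q, x * z = z * x := by
    intro x
    exact (Subgroup.mem_center_iff.1 hzc x)
  have hzsq : z * z = 1 := by
    have hc : ∀ x : Q, (z * z) * x = x * (z * z) := by
      intro x
      rw [mul_assoc, ← hzcentral x, ← mul_assoc, ← hzcentral x, mul_assoc]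
    rcases hcenter (z * z) hc with h | h
    · exact h
    · exfalso
      apply hz1'
      have : z * z = z * 1 := by rw [mul_one]; exact h
      exact mul_left_cancel this
  have hcommz : ∀ x y : Q, x * y = y * x ∨ x * y = y * x * z := by
    intro x y
    have hmem : ⁅x, y⁆ ∈ Subgroup.center Q := by
      rw [← hcomm, commutator_def]
      exact Subgroup.commutator_mem_commutator (Subgroup.mem_top x) (Subgroup.mem_top y)
    have hc : ∀ g : Q, ⁅x, y⁆ * g = g * ⁅x, y⁆ := fun g => (Subgroup.mem_center_iff.1 hmem g).symm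
    rcases hcenter _ hc with h | h
    · left
      exact commutatorElement_eq_one_iff_mul_comm.1 h
    · right
      rw [commutatorElement_def] at h
      have : x * y = z * (y * x) := by
        rw [← h]; group
      rw [this, ← hzcentral (y * x)]
  have hS : Setting z := ⟨hzcentral, hzsq, hz1', hcommz, hcenter⟩
  -- an element of order 4
  have hu : ∃ u : Q, u * u = z := by
    by_contra hno
    push Not at hno
    have hsq1 : ∀ u : Q, u * u = 1 := by
      intro u
      have hc : ∀ x : Q, (u * u) * x = x * (u * u) := hS.sq_central u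
      rcases hcenter _ hc with h | h
      · exact h
      · exact absurd h (hno u)
    have hab : ∀ x y : Q, x * y = y * x := by
      intro x y
      have h1 := hsq1 (x * y)
      have hx := hsq1 x
      have hy := hsq1 y
      have hxi : x⁻¹ = x := inv_eq_of_mul_eq_one_left hx
      have hyi : y⁻¹ = y := inv_eq_of_mul_eq_one_left hy
      have : (x * y)⁻¹ = x * y := inv_eq_of_mul_eq_one_left h1
      rw [mul_inv_rev, hxi, hyi] at this
      exact this.symm
    have : z ∈ commutator Q := by rw [hcomm]; exact hzc
    rw [commutator_eq_closure] at this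
    have hbot : Subgroup.closure (commutatorSet Q) ≤ ⊥ := by
      rw [Subgroup.closure_le]
      rintro _ ⟨x, y, rfl⟩
      simp only [Subgroup.coe_bot, Set.mem_singleton_iff]
      exact commutatorElement_eq_one_iff_mul_comm.2 (hab x y)
    exact hz1' (Subgroup.mem_bot.1 (hbot this))
  obtain ⟨u, hu⟩ := hu
  obtain ⟨E, ⟨hEc, hE2⟩, hEcard⟩ := hplus
  -- elements of `E` commute and are involutions
  have hEcomm : ∀ x ∈ E, ∀ y ∈ E, x * y = y * x := by
    intro x hx y hy
    have := hEc.is_comm.comm ⟨x, hx⟩ ⟨y, hy⟩
    exact congrArg Subtype.val this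
  have hEsq : ∀ x ∈ E, x * x = 1 := by
    intro x hx
    have := hE2 x hx
    rwa [pow_two] at this
  -- the centraliser of `u` in `E`
  set S : Set Q := {x | x ∈ E ∧ x * u = u * x} with hSdef
  have hE16 : 16 ≤ (E : Set Q).ncard := by
    have h1 : (E : Set Q).ncard = Nat.card E := (Nat.card_coe_set_eq (E : Set Q)).symm
    rw [h1, hEcard]
    calc 16 = 2 ^ 4 := by norm_num
      _ ≤ 2 ^ (n + 1) := Nat.pow_le_pow_right (by norm_num) (by omega)
  have hS8 : 8 ≤ S.ncard := by
    by_cases hall : ∀ x ∈ E, x * u = u * x
    · have : (E : Set Q) ⊆ S := fun x hx => ⟨hx, hall x hx⟩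
      have := Set.ncard_le_ncard this (Set.toFinite S)
      omega
    · push Not at hall
      obtain ⟨x₀, hx₀E, hx₀⟩ := hall
      have hsub : (E : Set Q) ⊆ S ∪ (fun s => x₀⁻¹ * s) '' S := by
        intro x hx
        by_cases hxu : x * u = u * x
        · exact Or.inl ⟨hx, hxu⟩
        · right
          refine ⟨x₀ * x, ⟨E.mul_mem hx₀E hx, hS.mul_comm_of_not hx₀ hxu⟩, ?_⟩
          simp
      have h1 := Set.ncard_le_ncard hsub (Set.toFinite _)
      have h2 := Set.ncard_union_le S ((fun s => x₀⁻¹ * s) '' S)
      have h3 : ((fun s => x₀⁻¹ * s) '' S).ncard ≤ S.ncard := Set.ncard_image_le (Set.toFinite S)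
      omega
  -- choose e, e'
  have hT2 : ({1, z} : Set Q).ncard ≤ 2 := by
    have := Set.ncard_insert_le (1 : Q) ({z} : Set Q)
    rw [Set.ncard_singleton] at this
    exact this
  obtain ⟨e, heS, heT⟩ := Set.exists_mem_notMem_of_ncard_lt_ncard
    (lt_of_le_of_lt hT2 (by omega : 2 < S.ncard)) (Set.toFinite _)
  have hT4 : ({1, z, e, e * z} : Set Q).ncard ≤ 4 := by
    have h1 := Set.ncard_insert_le (1 : Q) ({z, e, e * z} : Set Q)
    have h2 := Set.ncard_insert_le z ({e, e * z} : Set Q)
    have h3 := Set.ncard_insert_le e ({e * z} : Set Q)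
    rw [Set.ncard_singleton] at h3
    omega
  obtain ⟨e', he'S, he'T⟩ := Set.exists_mem_notMem_of_ncard_lt_ncard
    (lt_of_le_of_lt hT4 (by omega : 4 < S.ncard)) (Set.toFinite _)
  simp only [Set.mem_insert_iff, Set.mem_singleton_iff, not_or] at heT he'T
  obtain ⟨he1, hez⟩ := heT
  obtain ⟨he'1, he'z, he'e, he'ez⟩ := he'T
  obtain ⟨heE, heu⟩ := heS
  obtain ⟨he'E, he'u⟩ := he'S
  have hee' : e * e' = e' * e := hEcomm e heE e' he'E
  -- non-centrality
  have ncen : ∀ w : Q, w ≠ 1 → w ≠ z → MulAut.conj w ≠ 1 := by
    intro w hw1 hwz h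
    rcases hcenter w ((conj_eq_one_iff w).1 h) with h' | h'
    · exact hw1 h'
    · exact hwz h'
  have cz : ∀ w : Q, MulAut.conj (z * w) = MulAut.conj w := by
    intro w
    rw [map_mul, conj_z hS, one_mul]
  -- the three elements u, u*e, u*e'
  have h2 : (u * e) * (u * e) = z := by
    calc (u * e) * (u * e) = u * (e * u) * e := by simp only [mul_assoc]
      _ = u * (u * e) * e := by rw [heu]
      _ = (u * u) * (e * e) := by simp only [mul_assoc]
      _ = z := by rw [hu, hEsq e heE, mul_one]
  have h3 : (u * e') * (u * e') = z := by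
    calc (u * e') * (u * e') = u * (e' * u) * e' := by simp only [mul_assoc]
      _ = u * (u * e') * e' := by rw [he'u]
      _ = (u * u) * (e' * e') := by simp only [mul_assoc]
      _ = z := by rw [hu, hEsq e' he'E, mul_one]
  have h12 : u * (u * e) = (u * e) * u := by
    rw [mul_assoc, heu]
  have h13 : u * (u * e') = (u * e') * u := by
    rw [mul_assoc, he'u]
  have h23 : (u * e) * (u * e') = (u * e') * (u * e) := by
    calc (u * e) * (u * e') = u * (e * u) * e' := by simp only [mul_assoc]
      _ = u * (u * e) * e' := by rw [heu]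
      _ = u * u * (e * e') := by simp only [mul_assoc]
      _ = u * u * (e' * e) := by rw [hee']
      _ = u * (u * e') * e := by simp only [mul_assoc]
      _ = u * (e' * u) * e := by rw [he'u]
      _ = (u * e') * (u * e) := by simp only [mul_assoc]
  have n12 : MulAut.conj (u * (u * e)) ≠ 1 := by
    rw [← mul_assoc, hu, cz]
    exact ncen e he1 hez
  have n13 : MulAut.conj (u * (u * e')) ≠ 1 := by
    rw [← mul_assoc, hu, cz]
    exact ncen e' he'1 he'z
  have n23 : MulAut.conj ((u * e) * (u * e')) ≠ 1 := by
    have : (u * e) * (u * e') = z * (e * e') := by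
      calc (u * e) * (u * e') = u * (e * u) * e' := by simp only [mul_assoc]
        _ = u * (u * e) * e' := by rw [heu]
        _ = (u * u) * (e * e') := by simp only [mul_assoc]
        _ = z * (e * e') := by rw [hu]
    rw [this, cz]
    apply ncen
    · intro h
      apply he'e
      have h1 : e * e' = e * e := by rw [h, hEsq e heE]
      exact mul_left_cancel h1
    · intro h
      apply he'ez
      have h1 : e * e' = e * (e * z) := by
        rw [h, ← mul_assoc, hEsq e heE, one_mul]
      exact mul_left_cancel h1
  exact no_complement hS hu h2 h3 h12 h13 h23 n12 n13 n23 L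

end Cfsg.Agent.S3085
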