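import Cfsg.Statements.S3087
import Mathlib.GroupTheory.Index

set_option autoImplicit false
open Cfsg

namespace Cfsg.Agent.S3087

theorem add_card_eq_card_inf_mul_relIndex {V : Type*} [AddGroup V] (H K : AddSubgroup V) :
    Nat.card H = Nat.card ↥(H ⊓ K) * K.relIndex H := by
  have h := AddSubgroup.relIndex_mul_relIndex (⊥ : AddSubgroup V) (H ⊓ K) H bot_le inf_le_left
  rw [AddSubgroup.relIndex_bot_left, AddSubgroup.relIndex_bot_left, AddSubgroup.inf_relIndex_left] at h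
  exact h.symm

theorem key_ineq {V : Type*} [AddGroup V] [Finite V] (X Y W : AddSubgroup V) (hXY : X ≤ Y) :
    Nat.card X * Nat.card ↥(Y ⊓ W) ≤ Nat.card Y * Nat.card ↥(X ⊓ W) := by
  have h1 := add_card_eq_card_inf_mul_relIndex X W
  have h2 := add_card_eq_card_inf_mul_relIndex Y W
  have h3 : W.relIndex X ≤ W.relIndex Y := by
    apply AddSubgroup.relIndex_le_of_le_right hXY
    have : (W.addSubgroupOf Y).FiniteIndex := inferInstance
    exact this.index_ne_zero
  calc Nat.card X * Nat.card ↥(Y ⊓ W) = Nat.card ↥(X ⊓ W) * W.relIndex X * Nat.card ↥(Y ⊓ W) := by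
        rw [← h1]
    _ ≤ Nat.card ↥(X ⊓ W) * W.relIndex Y * Nat.card ↥(Y ⊓ W) := by gcongr
    _ = Nat.card ↥(Y ⊓ W) * W.relIndex Y * Nat.card ↥(X ⊓ W) := by ring
    _ = Nat.card Y * Nat.card ↥(X ⊓ W) := by rw [← h2]


/-- The fixed points of a subgroup, as an additive subgroup. -/
def fixedAdd {G V : Type*} [Group G] [AddCommGroup V] (p : ℕ) [Module (ZMod p) V]
    (ρ : Representation (ZMod p) G V) (B : Subgroup G) : AddSubgroup V where
  carrier := {v | ∀ b ∈ B, ρ b v = v}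
  zero_mem' := fun b _ => map_zero _
  add_mem' := by
    intro x y hx hy b hb
    rw [map_add, hx b hb, hy b hb]
  neg_mem' := by
    intro x hx b hb
    rw [map_neg, hx b hb]


/-- Let p be a prime, G a finite group acting linearly on a finite vector space V over the field with p elements, W a G-invariant subspace, and A a subgroup of G with |A|·|C_V(A)| ≥ |B|·|C_V(B)| for every subgroup B of A. Then |A|·|C_W(A)| ≥ |B|·|C_W(B)| for every subgroup B of A that contains C_A(W); that is, the image of A in the group induced on W satisfies the same maximality condition. -/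
theorem result {G V : Type*} [Group G] [Finite G] [AddCommGroup V] [Finite V] (p : ℕ) [Fact p.Prime] [Module (ZMod p) V]
    (ρ : Representation (ZMod p) G V) (W : Submodule (ZMod p) V) (hW : ∀ g : G, ∀ w ∈ W, ρ g w ∈ W)
    (A : Subgroup G)
    (hP : ∀ B : Subgroup G, B ≤ A →
      Nat.card ↥B * Nat.card {v : V // ∀ b ∈ B, ρ b v = v} ≤ Nat.card ↥A * Nat.card {v : V // ∀ a ∈ A, ρ a v = v})
    (B : Subgroup G) (hBA : B ≤ A) (hCB : ∀ a ∈ A, (∀ w ∈ W, ρ a w = w) → a ∈ B) :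
    Nat.card ↥B * Nat.card {w : W // ∀ b ∈ B, ρ b w = w} ≤ Nat.card ↥A * Nat.card {w : W // ∀ a ∈ A, ρ a w = w} := by
  set XA := fixedAdd p ρ A with hXA
  set XB := fixedAdd p ρ B with hXB
  set Wa := W.toAddSubgroup with hWa
  have e1 : ∀ C : Subgroup G, Nat.card {v : V // ∀ b ∈ C, ρ b v = v} = Nat.card ↥(fixedAdd p ρ C) :=
    fun C => Nat.card_congr (Equiv.subtypeEquivRight (fun v => Iff.rfl))
  have e2 : ∀ C : Subgroup G, Nat.card {w : W // ∀ b ∈ C, ρ b w = w} =
      Nat.card ↥(fixedAdd p ρ C ⊓ Wa) := by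
    intro C
    apply Nat.card_congr
    exact
      { toFun := fun w => ⟨(w.1 : V), ⟨w.2, w.1.2⟩⟩
        invFun := fun v => ⟨⟨v.1, v.2.2⟩, v.2.1⟩
        left_inv := fun w => rfl
        right_inv := fun v => rfl }
  have hXAB : XA ≤ XB := fun v hv b hb => hv b (hBA hb)
  have hkey := key_ineq XA XB Wa hXAB
  have h1 := hP B hBA
  rw [e1 B, e1 A] at h1
  rw [e2 B, e2 A]
  have hpos : 0 < Nat.card ↥XA := Nat.card_pos
  have : Nat.card ↥B * Nat.card ↥(XB ⊓ Wa) * Nat.card ↥XA ≤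
      Nat.card ↥A * Nat.card ↥(XA ⊓ Wa) * Nat.card ↥XA := by
    calc Nat.card ↥B * Nat.card ↥(XB ⊓ Wa) * Nat.card ↥XA
        = Nat.card ↥B * (Nat.card ↥XA * Nat.card ↥(XB ⊓ Wa)) := by ring
      _ ≤ Nat.card ↥B * (Nat.card ↥XB * Nat.card ↥(XA ⊓ Wa)) := Nat.mul_le_mul_left _ hkey
      _ = (Nat.card ↥B * Nat.card ↥XB) * Nat.card ↥(XA ⊓ Wa) := by ring
      _ ≤ (Nat.card ↥A * Nat.card ↥XA) * Nat.card ↥(XA ⊓ Wa) := Nat.mul_le_mul_right _ h1
      _ = Nat.card ↥A * Nat.card ↥(XA ⊓ Wa) * Nat.card ↥XA := by ring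
  exact Nat.le_of_mul_le_mul_right this hpos

end Cfsg.Agent.S3087
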