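-- Statement S3103: 2-constrained, O(X)=1, sectional 2-rank of O_2(X) at most 4 => X/O_2(X) embeds in A_8.
import Mathlib
import Cfsg.Statements.S3103
import Cfsg.Agent.S0256
import Cfsg.Agent.Lib.Helper16.PCore
import Cfsg.Agent.Lib.Helper1.Frattini
import Cfsg.Agent.Lib.Helper12.OddAut

set_option autoImplicit false
open Cfsg
open scoped commutatorElement

namespace Cfsg.Agent.S3103

universe u

theorem key2 : ∀ a b : ZMod 2, a * b = 1 → a = 1 := by decide

theorem key4 : ∀ r : ZMod 2, r ^ 4 = 1 → r = 1 := by decide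

/-- The Frattini quotient of a finite 2-group as an `F_2`-module with its action of `Aut P`. -/
theorem exists_frattini_module {P : Type u} [Group P] [Finite P] (hP : IsPGroup 2 P) :
    ∃ (W : Type u) (_ : AddCommGroup W) (_ : Module (ZMod 2) W) (_ : Finite W)
      (φ : MulAut P →* Module.End (ZMod 2) W),
      Nat.card W = (frattini P).index ∧ ∀ α, φ α = 1 ↔ ∀ p : P, p⁻¹ * α p ∈ frattini P := by
  have : Fact (Nat.Prime 2) := ⟨Nat.prime_two⟩
  have hcomm : ∀ a b : P ⧸ frattini P, a * b = b * a := by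
    intro a b
    obtain ⟨a, rfl⟩ := QuotientGroup.mk_surjective a
    obtain ⟨b, rfl⟩ := QuotientGroup.mk_surjective b
    rw [← QuotientGroup.mk_mul, ← QuotientGroup.mk_mul, QuotientGroup.eq]
    have hc : ⁅b⁻¹, a⁻¹⁆ ∈ commutator P := by
      rw [commutator_def]
      exact Subgroup.commutator_mem_commutator (Subgroup.mem_top _) (Subgroup.mem_top _)
    have h2 := Cfsg.Agent.Lib.Helper1.IsPGroup.commutator_le_frattini hP hc
    convert h2 using 1
    simp [commutatorElement_def, mul_assoc]
  letI instC : CommGroup (P ⧸ frattini P) :=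
    { (inferInstance : Group (P ⧸ frattini P)) with mul_comm := hcomm }
  have h2 : ∀ x : Additive (P ⧸ frattini P), 2 • x = 0 := by
    intro x
    obtain ⟨x, rfl⟩ := Additive.ofMul.surjective x
    obtain ⟨x, rfl⟩ := QuotientGroup.mk_surjective x
    change Additive.ofMul ((QuotientGroup.mk x : P ⧸ frattini P) ^ 2) = Additive.ofMul 1
    congr 1
    rw [← QuotientGroup.mk_pow, QuotientGroup.eq_one_iff]
    exact Cfsg.Agent.Lib.Helper1.IsPGroup.pow_mem_frattini hP x
  letI instM : Module (ZMod 2) (Additive (P ⧸ frattini P)) := AddCommGroup.zmodModule h2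
  let q : MulAut P → (P ⧸ frattini P →* P ⧸ frattini P) := fun α =>
    QuotientGroup.map (frattini P) (frattini P) α.toMonoidHom
      (le_of_eq (frattini_characteristic.fixed α).symm)
  let φf : MulAut P → Module.End (ZMod 2) (Additive (P ⧸ frattini P)) := fun α =>
    AddMonoidHom.toZModLinearMap 2 (MonoidHom.toAdditive (q α))
  have hφ : ∀ (α : MulAut P) (x : P),
      φf α (Additive.ofMul (QuotientGroup.mk x)) = Additive.ofMul (QuotientGroup.mk (α x)) :=
    fun α x => rfl
  have hrep : ∀ w : Additive (P ⧸ frattini P), ∃ x : P, Additive.ofMul (QuotientGroup.mk x) = w := by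
    intro w
    obtain ⟨w, rfl⟩ := Additive.ofMul.surjective w
    obtain ⟨x, rfl⟩ := QuotientGroup.mk_surjective w
    exact ⟨x, rfl⟩
  let φ : MulAut P →* Module.End (ZMod 2) (Additive (P ⧸ frattini P)) :=
    { toFun := φf
      map_one' := by
        apply LinearMap.ext
        intro w
        obtain ⟨x, rfl⟩ := hrep w
        rw [hφ, Module.End.one_apply, MulAut.one_apply]
      map_mul' := by
        intro α β
        apply LinearMap.ext
        intro w
        obtain ⟨x, rfl⟩ := hrep w
        rw [Module.End.mul_apply, hφ, hφ, hφ, MulAut.mul_apply] }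
  have hφ' : ∀ α, φ α = φf α := fun α => rfl
  refine ⟨Additive (P ⧸ frattini P), inferInstance, instM, inferInstance, φ, ?_, ?_⟩
  · exact (Nat.card_congr Additive.toMul).trans (Subgroup.index_eq_card _).symm
  · intro α
    rw [hφ']
    constructor
    · intro h p
      have h1 := LinearMap.congr_fun h (Additive.ofMul (QuotientGroup.mk p))
      rw [hφ, Module.End.one_apply] at h1
      have h3 : (QuotientGroup.mk (α p) : P ⧸ frattini P) = QuotientGroup.mk p :=
        Additive.ofMul.injective h1
      exact QuotientGroup.eq.1 h3.symm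
    · intro h
      apply LinearMap.ext
      intro w
      obtain ⟨x, rfl⟩ := hrep w
      rw [hφ, Module.End.one_apply]
      congr 1
      exact (QuotientGroup.eq.2 (h x)).symm

/-- An action on an `F_2`-module of order at most 16 gives a homomorphism to `A_8`
with the same kernel. -/
theorem exists_hom_alt8 {X : Type*} [Group X] {W : Type*} [AddCommGroup W] [Module (ZMod 2) W]
    [Finite W] (hW : Nat.card W ≤ 16) (φ : X →* Module.End (ZMod 2) W) :
    ∃ f : X →* alternatingGroup (Fin 8), ∀ x, f x = 1 ↔ φ x = 1 := by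
  have : Fact (Nat.Prime 2) := ⟨Nat.prime_two⟩
  haveI : Module.Finite (ZMod 2) W := inferInstance
  have hd : Module.finrank (ZMod 2) W ≤ 4 := by
    have h1 := Module.natCard_eq_pow_finrank (K := ZMod 2) (V := W)
    rw [Nat.card_zmod] at h1
    rw [h1] at hW
    by_contra hlt
    push Not at hlt
    have : 2 ^ 5 ≤ 2 ^ Module.finrank (ZMod 2) W := Nat.pow_le_pow_right (by norm_num) hlt
    omega
  obtain ⟨d, hdd⟩ : ∃ d, d = Module.finrank (ZMod 2) W := ⟨_, rfl⟩
  have hfr : Module.finrank (ZMod 2) (W × (Fin (4 - d) → ZMod 2))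
      = Module.finrank (ZMod 2) (Fin 4 → ZMod 2) := by
    rw [Module.finrank_prod, Module.finrank_fin_fun, Module.finrank_fin_fun, ← hdd]
    omega
  let E : (W × (Fin (4 - d) → ZMod 2)) ≃ₗ[ZMod 2] (Fin 4 → ZMod 2) :=
    LinearEquiv.ofFinrankEq _ _ hfr
  let ψ : X → Module.End (ZMod 2) (Fin 4 → ZMod 2) := fun x =>
    E.toLinearMap ∘ₗ ((φ x).prodMap LinearMap.id) ∘ₗ E.symm.toLinearMap
  have hψ : ∀ x v, ψ x v = E ((φ x (E.symm v).1, (E.symm v).2)) := fun x v => rfl
  have hψmul : ∀ x y, ψ (x * y) = ψ x * ψ y := by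
    intro x y
    apply LinearMap.ext
    intro v
    simp only [hψ, Module.End.mul_apply, LinearEquiv.symm_apply_apply, map_mul]
  have hψone : ψ 1 = 1 := by
    apply LinearMap.ext
    intro v
    simp only [hψ, map_one, Module.End.one_apply, Prod.mk.eta, LinearEquiv.apply_symm_apply]
  have hψinj : ∀ x, ψ x = 1 ↔ φ x = 1 := by
    intro x
    constructor
    · intro h
      apply LinearMap.ext
      intro w
      have h1 := LinearMap.congr_fun h (E (w, 0))
      simp only [hψ, LinearEquiv.symm_apply_apply, Module.End.one_apply] at h1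
      have h2 := E.injective h1
      rw [Module.End.one_apply]
      exact congrArg Prod.fst h2
    · intro h
      apply LinearMap.ext
      intro v
      simp only [hψ, h, Module.End.one_apply, Prod.mk.eta, LinearEquiv.apply_symm_apply]
  let M : X → Matrix (Fin 4) (Fin 4) (ZMod 2) := fun x => LinearMap.toMatrix' (ψ x)
  have hMmul : ∀ x y, M (x * y) = M x * M y := by
    intro x y
    show LinearMap.toMatrix' (ψ (x * y)) = _
    rw [hψmul, LinearMap.toMatrix'_mul]
  have hMone : M 1 = 1 := by
    show LinearMap.toMatrix' (ψ 1) = _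
    rw [hψone, LinearMap.toMatrix'_one]
  have hdet : ∀ x, (M x).det = 1 := by
    intro x
    apply key2 _ (M x⁻¹).det
    rw [← Matrix.det_mul, ← hMmul, mul_inv_cancel, hMone, Matrix.det_one]
  let s : X →* Matrix.SpecialLinearGroup (Fin 4) (ZMod 2) :=
    { toFun := fun x => ⟨M x, hdet x⟩
      map_one' := Subtype.ext hMone
      map_mul' := fun x y => Subtype.ext (hMmul x y) }
  have hs : ∀ x, s x = 1 ↔ φ x = 1 := by
    intro x
    rw [← hψinj]
    constructor
    · intro h
      have h1 : M x = 1 := congrArg Subtype.val h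
      apply (LinearMap.toMatrix' (R := ZMod 2) (m := Fin 4) (n := Fin 4)).injective
      rw [LinearMap.toMatrix'_one]
      exact h1
    · intro h
      apply Subtype.ext
      show LinearMap.toMatrix' (ψ x) = 1
      rw [h, LinearMap.toMatrix'_one]
  have hcen : Subgroup.center (Matrix.SpecialLinearGroup (Fin 4) (ZMod 2)) = ⊥ := by
    rw [Subgroup.eq_bot_iff_forall]
    intro A hA
    rw [Matrix.SpecialLinearGroup.mem_center_iff] at hA
    obtain ⟨r, hr, hA⟩ := hA
    have hr1 : r = 1 := key4 r (by simpa using hr)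
    rw [hr1, map_one] at hA
    apply Subtype.ext
    rw [← hA]
    rfl
  obtain ⟨e⟩ := Cfsg.Agent.S0256.result (F := ZMod 2) (ZMod.card 2)
  refine ⟨e.toMonoidHom.comp ((QuotientGroup.mk'
    (Subgroup.center (Matrix.SpecialLinearGroup (Fin 4) (ZMod 2)))).comp s), ?_⟩
  intro x
  rw [← hs]
  show e (QuotientGroup.mk (s x)) = 1 ↔ _
  rw [MulEquiv.map_eq_one_iff, QuotientGroup.eq_one_iff, hcen, Subgroup.mem_bot]

/-- The main argument, for a normal self-centralizing maximal normal 2-subgroup. -/
theorem main_aux {X : Type u} [Group X] [Finite X] (Q : Subgroup X) [hQn : Q.Normal]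
    (hQ2 : IsPGroup 2 Q) (hCQ : Subgroup.centralizer (Q : Set X) ≤ Q)
    (hmax : ∀ K : Subgroup X, K.Normal → IsPGroup 2 K → K ≤ Q)
    (h16 : (frattini ↥Q).index ≤ 16) :
    ∃ f : X ⧸ Q →* alternatingGroup (Fin 8), Function.Injective f := by
  have : Fact (Nat.Prime 2) := ⟨Nat.prime_two⟩
  obtain ⟨W, iA, iM, iF, φ', hcard, hφ'⟩ := exists_frattini_module (P := ↥Q) hQ2
  obtain ⟨f, hf⟩ := exists_hom_alt8 (hcard ▸ h16 : Nat.card W ≤ 16)
    (φ'.comp (MulAut.conjNormal (H := Q)))
  have ha : Q ≤ f.ker := by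
    intro x hx
    rw [MonoidHom.mem_ker, hf, MonoidHom.comp_apply, hφ']
    intro p
    have hconj : MulAut.conjNormal x p = (⟨x, hx⟩ : Q) * p * (⟨x, hx⟩ : Q)⁻¹ := by
      apply Subtype.ext
      rw [MulAut.conjNormal_apply]
      rfl
    rw [hconj]
    have hc : ⁅p⁻¹, (⟨x, hx⟩ : Q)⁆ ∈ commutator Q := by
      rw [commutator_def]
      exact Subgroup.commutator_mem_commutator (Subgroup.mem_top _) (Subgroup.mem_top _)
    have h2 := Cfsg.Agent.Lib.Helper1.IsPGroup.commutator_le_frattini hQ2 hc
    convert h2 using 1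
    simp [commutatorElement_def, mul_assoc]
  have hk2 : IsPGroup 2 f.ker := by
    have hunique : ∀ {r : ℕ}, r.Prime → r ∣ Nat.card f.ker → r = 2 := by
      intro r hr hdvd
      have : Fact r.Prime := ⟨hr⟩
      obtain ⟨y, hy⟩ := exists_prime_orderOf_dvd_card' r hdvd
      by_contra hr2
      have hyr : (y : X) ^ r = 1 := by
        have h1 : y ^ r = 1 := by
          rw [← hy]
          exact pow_orderOf_eq_one y
        have h2 := congrArg Subtype.val h1
        simpa using h2
      have hyk : φ' (MulAut.conjNormal (H := Q) (y : X)) = 1 := by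
        have := (hf (y : X)).1 (MonoidHom.mem_ker.1 y.2)
        simpa using this
      have hfix := (hφ' _).1 hyk
      have hdvd' : orderOf (MulAut.conjNormal (H := Q) (y : X)) ∣ r := by
        apply orderOf_dvd_of_pow_eq_one
        rw [← map_pow, hyr, map_one]
      rcases (Nat.dvd_prime hr).1 hdvd' with h1 | h1
      · -- conjugation by y is trivial on Q, so y ∈ C(Q) ≤ Q
        rw [orderOf_eq_one_iff] at h1
        have hyC : (y : X) ∈ Subgroup.centralizer (Q : Set X) := by
          rw [Subgroup.mem_centralizer_iff]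
          intro h hh
          have h3 := congrArg (fun a : MulAut Q => ((a ⟨h, hh⟩ : Q) : X)) h1
          simp only [MulAut.conjNormal_apply, MulAut.one_apply] at h3
          -- h3 : y * h * y⁻¹ = h
          calc h * (y : X) = ((y : X) * h * (y : X)⁻¹) * (y : X) := by rw [h3]
            _ = (y : X) * h := by group
        have hyQ : (y : X) ∈ Q := hCQ hyC
        obtain ⟨k, hk⟩ := hQ2 ⟨(y : X), hyQ⟩
        have hk' : (y : X) ^ 2 ^ k = 1 := by
          have h2 := congrArg Subtype.val hk
          simpa using h2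
        have ho : orderOf (y : X) = r := by
          rw [Subgroup.orderOf_coe, hy]
        have h4 : r ∣ 2 ^ k := by
          rw [← ho]
          exact orderOf_dvd_of_pow_eq_one hk'
        exact hr2 ((Nat.prime_dvd_prime_iff_eq hr Nat.prime_two).1 (hr.dvd_of_dvd_pow h4))
      · exact Cfsg.Agent.Lib.Helper12.not_forall_mem_frattini (p := 2) (q := r) hQ2 hr2 h1 hfix
    exact IsPGroup.of_card
      (Nat.eq_prime_pow_of_unique_prime_dvd (Nat.card_pos.ne') hunique)
  have hb : f.ker ≤ Q := hmax f.ker (MonoidHom.normal_ker f) hk2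
  have hker : f.ker = Q := le_antisymm hb ha
  refine ⟨(QuotientGroup.kerLift f).comp
    (QuotientGroup.quotientMulEquivOfEq hker.symm).toMonoidHom, ?_⟩
  exact (QuotientGroup.kerLift_injective f).comp
    (QuotientGroup.quotientMulEquivOfEq hker.symm).injective

/-- sectional 2-rank at most 4 bounds the Frattini quotient. -/
theorem index_frattini_le {P : Type u} [Group P] [Finite P] (hP : IsPGroup 2 P)
    (h4 : Cfsg.SectionalPRankLE 2 4 P) : (frattini P).index ≤ 16 := by
  have : Fact (Nat.Prime 2) := ⟨Nat.prime_two⟩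
  have hcomm : ∀ a b : (↥(⊤ : Subgroup P)) ⧸ (frattini P).subgroupOf ⊤, a * b = b * a := by
    intro a b
    obtain ⟨a, rfl⟩ := QuotientGroup.mk_surjective a
    obtain ⟨b, rfl⟩ := QuotientGroup.mk_surjective b
    rw [← QuotientGroup.mk_mul, ← QuotientGroup.mk_mul, QuotientGroup.eq, Subgroup.mem_subgroupOf]
    have hc : ⁅(b : P)⁻¹, (a : P)⁻¹⁆ ∈ commutator P := by
      rw [commutator_def]
      exact Subgroup.commutator_mem_commutator (Subgroup.mem_top _) (Subgroup.mem_top _)
    have h2 := Cfsg.Agent.Lib.Helper1.IsPGroup.commutator_le_frattini hP hc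
    convert h2 using 1
    simp [commutatorElement_def, mul_assoc]
  have hsq : ∀ a : (↥(⊤ : Subgroup P)) ⧸ (frattini P).subgroupOf ⊤, a ^ 2 = 1 := by
    intro a
    obtain ⟨a, rfl⟩ := QuotientGroup.mk_surjective a
    rw [← QuotientGroup.mk_pow, QuotientGroup.eq_one_iff, Subgroup.mem_subgroupOf]
    have := Cfsg.Agent.Lib.Helper1.IsPGroup.pow_mem_frattini hP (a : P)
    simpa using this
  have h := h4 ⊤ ((frattini P).subgroupOf ⊤) ⊤ ⟨⟨fun a b => Subtype.ext (hcomm a.1 b.1)⟩⟩
    (fun a _ => hsq a)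
  rw [Subgroup.card_top, ← Subgroup.index_eq_card] at h
  have h' : ((frattini P).subgroupOf ⊤).index = (frattini P).index :=
    Subgroup.relIndex_top_right _
  rw [h'] at h
  exact le_trans h (by norm_num)

/-- Let X be a finite 2-constrained group with no nontrivial normal subgroup of odd order such that O₂(X) has sectional 2-rank at most 4. Then X/O₂(X) is isomorphic to a subgroup of the alternating group of degree 8. -/
theorem result {X : Type*} [Group X] [Finite X] (hc : Cfsg.IsPConstrained 2 X) (hO : Cfsg.oddCore X = ⊥)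
    (h4 : Cfsg.SectionalPRankLE 2 4 ↥(Cfsg.pCore 2 X)) :
    ∃ f : X ⧸ Cfsg.pCore 2 X →* ↥(alternatingGroup (Fin 8)), Function.Injective f := by
  have : Fact (Nat.Prime 2) := ⟨Nat.prime_two⟩
  have hQ2 : IsPGroup 2 ↥(Cfsg.pCore 2 X) := Cfsg.Agent.Lib.Helper16.pCore_isPGroup
  have hR2 : IsPGroup 2 ↥(Cfsg.pPrimePCore 2 X) := by
    unfold Cfsg.pPrimePCore
    apply IsPGroup.comap_of_ker_isPGroup Cfsg.Agent.Lib.Helper16.pCore_isPGroup
    rw [QuotientGroup.ker_mk']
    have hO' : Cfsg.pPrimeCore 2 X = ⊥ := hO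
    rw [hO']
    exact IsPGroup.of_bot
  have hRn : (Cfsg.pPrimePCore 2 X).Normal := by
    unfold Cfsg.pPrimePCore
    exact Subgroup.Normal.comap (Cfsg.pCore_normal 2 _) _
  have hRle : Cfsg.pPrimePCore 2 X ≤ Cfsg.pCore 2 X :=
    Cfsg.Agent.Lib.Helper16.le_pCore _ hRn hR2
  have hCQ : Subgroup.centralizer ((Cfsg.pCore 2 X : Subgroup X) : Set X) ≤ Cfsg.pCore 2 X := by
    obtain ⟨P⟩ : Nonempty (Sylow 2 ↥(Cfsg.pPrimePCore 2 X)) := inferInstance
    refine le_trans (le_trans (Subgroup.centralizer_le ?_) (hc P)) hRle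
    intro x hx
    obtain ⟨y, -, rfl⟩ := Subgroup.mem_map.1 (SetLike.mem_coe.1 hx)
    exact hRle y.2
  exact main_aux (Cfsg.pCore 2 X) hQ2 hCQ
    (fun K hK h2 => Cfsg.Agent.Lib.Helper16.le_pCore K hK h2) (index_frattini_le hQ2 h4)

end Cfsg.Agent.S3103
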