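import Cfsg.Statements.S3116
import Mathlib.GroupTheory.Index
import Mathlib.Data.Nat.Totient
import Mathlib.FieldTheory.Finite.Basic
import Mathlib.Tactic.Group

set_option autoImplicit false
open Cfsg

namespace Cfsg.Agent.S3116

variable {X : Type*} [Group X]

theorem aut_pow_apply_pow (σ : MulAut X) (x : X) (i : ℕ) (h : σ x = x ^ i) (k : ℕ) :
    (σ ^ k) x = x ^ (i ^ k) := by
  induction k with
  | zero => simp
  | succ k ih =>
    rw [pow_succ', MulAut.mul_apply, ih, map_pow, h, ← pow_mul, pow_succ, mul_comm]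

theorem aut_pow_apply_mul (τ : MulAut X) (y c : X) (hy : τ y = y * c) (hc : τ c = c) (k : ℕ) :
    (τ ^ k) y = y * c ^ k := by
  induction k with
  | zero => simp
  | succ k ih =>
    rw [pow_succ', MulAut.mul_apply, ih, map_mul, map_pow, hy, hc, pow_succ']
    group

/-- A finite group with a cyclic subgroup `⟨x⟩` of order `2^n` and index two containing every
element of order `2^n` has a `2`-group of automorphisms. -/
theorem aut_isPGroup_of_cyclic_index_two [Finite X] (n : ℕ) (hn : 1 ≤ n) (x y : X)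
    (hx : orderOf x = 2 ^ n) (hidx : (Subgroup.zpowers x).index = 2) (hy : y ∉ Subgroup.zpowers x)
    (hchar : ∀ g : X, orderOf g = 2 ^ n → g ∈ Subgroup.zpowers x) : IsPGroup 2 (MulAut X) := by
  intro σ
  -- σ x is a power of x
  have hσx : σ x ∈ Subgroup.zpowers x := hchar _ (by rw [MulEquiv.orderOf_eq, hx])
  rw [← mem_powers_iff_mem_zpowers] at hσx
  obtain ⟨i, hi⟩ := hσx
  have hi' : σ x = x ^ i := hi.symm
  -- i is coprime to 2^n
  have hpos : 0 < 2 ^ n := by positivity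
  have hcop : Nat.Coprime i (2 ^ n) := by
    have h1 : orderOf (x ^ i) = 2 ^ n := by rw [← hi', MulEquiv.orderOf_eq, hx]
    rw [orderOf_pow, hx] at h1
    have hg : Nat.gcd (2 ^ n) i ∣ 2 ^ n := Nat.gcd_dvd_left _ _
    have h2 := Nat.div_mul_cancel hg
    rw [h1] at h2
    have h3 : Nat.gcd (2 ^ n) i = 1 := by
      have : 2 ^ n * Nat.gcd (2 ^ n) i = 2 ^ n * 1 := by rw [h2, mul_one]
      exact Nat.eq_of_mul_eq_mul_left hpos this
    rw [Nat.Coprime, Nat.gcd_comm]
    exact h3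
  -- τ = σ^(2^(n-1)) fixes x
  have htot : Nat.totient (2 ^ n) = 2 ^ (n - 1) := by
    rw [Nat.totient_prime_pow Nat.prime_two (by omega)]
    simp
  set τ := σ ^ (2 ^ (n - 1)) with hτ
  have hτx : τ x = x := by
    rw [hτ, aut_pow_apply_pow σ x i hi']
    have hmod : i ^ 2 ^ (n - 1) ≡ 1 [MOD 2 ^ n] := by
      rw [← htot]
      exact Nat.ModEq.pow_totient hcop
    have : x ^ (i ^ 2 ^ (n - 1)) = x ^ 1 := by
      rw [pow_eq_pow_iff_modEq, hx]
      exact hmod
    rw [this, pow_one]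
  have hτC : ∀ c ∈ Subgroup.zpowers x, τ c = c := by
    intro c hc
    obtain ⟨j, rfl⟩ := Subgroup.mem_zpowers_iff.mp hc
    rw [map_zpow, hτx]
  -- τ y = y c
  have hτy : τ y ∉ Subgroup.zpowers x := by
    intro h
    have h2 := hτC _ h
    have : τ y = y := τ.injective h2
    rw [this] at h
    exact hy h
  have hc : y⁻¹ * τ y ∈ Subgroup.zpowers x := by
    rw [Subgroup.mul_mem_iff_of_index_two hidx, Subgroup.inv_mem_iff]
    exact ⟨fun h => absurd h hy, fun h => absurd h hτy⟩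
  set c := y⁻¹ * τ y with hcdef
  have hτy' : τ y = y * c := by rw [hcdef]; group
  have hc2 : c ^ (2 ^ n) = 1 := by
    obtain ⟨j, hj⟩ := Subgroup.mem_zpowers_iff.mp hc
    rw [← hj, ← zpow_natCast, ← zpow_mul, mul_comm, zpow_mul, zpow_natCast, ← hx,
      pow_orderOf_eq_one, one_zpow]
  refine ⟨(n - 1) + n, ?_⟩
  rw [pow_add, pow_mul, ← hτ]
  have h1 : (τ ^ 2 ^ n) x = x := by
    have : ∀ k : ℕ, (τ ^ k) x = x := by
      intro k
      induction k with
      | zero => simp
      | succ k ih => rw [pow_succ', MulAut.mul_apply, ih, hτx]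
    exact this _
  have h2 : (τ ^ 2 ^ n) y = y := by
    rw [aut_pow_apply_mul τ y c hτy' (hτC c hc), hc2, mul_one]
  ext g
  rw [MulAut.one_apply]
  by_cases hg : g ∈ Subgroup.zpowers x
  · obtain ⟨j, rfl⟩ := Subgroup.mem_zpowers_iff.mp hg
    rw [map_zpow, h1]
  · have hg' : y⁻¹ * g ∈ Subgroup.zpowers x := by
      rw [Subgroup.mul_mem_iff_of_index_two hidx, Subgroup.inv_mem_iff]
      exact ⟨fun h => absurd h hy, fun h => absurd h hg⟩
    obtain ⟨j, hj⟩ := Subgroup.mem_zpowers_iff.mp hg'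
    have e : g = y * x ^ j := by rw [hj]; group
    rw [e, map_mul, map_zpow, h1, h2]

theorem index_two_of_card [Finite X] (x : X) (m : ℕ) (hm : 0 < m) (hx : orderOf x = m)
    (hcard : Nat.card X = 2 * m) : (Subgroup.zpowers x).index = 2 := by
  have h := Subgroup.card_mul_index (Subgroup.zpowers x)
  rw [Nat.card_zpowers, hx, hcard] at h
  have : m * (Subgroup.zpowers x).index = m * 2 := by rw [h, mul_comm]
  exact Nat.eq_of_mul_eq_mul_left hm this

theorem dihedral_case [Finite X] (h2 : IsPGroup 2 X) (m : ℕ) (hm : 4 ≤ m)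
    (e : X ≃* DihedralGroup m) :
    ∃ (n : ℕ) (x y : X), 1 ≤ n ∧ orderOf x = 2 ^ n ∧ (Subgroup.zpowers x).index = 2 ∧
      y ∉ Subgroup.zpowers x ∧ ∀ g : X, orderOf g = 2 ^ n → g ∈ Subgroup.zpowers x := by
  have hcard : Nat.card X = 2 * m := by
    rw [Nat.card_congr e.toEquiv, DihedralGroup.nat_card]
  obtain ⟨k, hk⟩ := h2.exists_card_eq
  have hk1 : 1 ≤ k := by
    rcases Nat.eq_zero_or_pos k with rfl | h
    · rw [pow_zero] at hk; omega
    · exact h
  obtain ⟨n, rfl⟩ : ∃ n, k = n + 1 := ⟨k - 1, by omega⟩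
  have hmn : m = 2 ^ n := by
    rw [hcard, pow_succ, mul_comm] at hk
    exact Nat.eq_of_mul_eq_mul_right (by norm_num) hk
  have hn1 : 1 ≤ n := by
    rcases Nat.eq_zero_or_pos n with rfl | h
    · rw [pow_zero] at hmn; omega
    · exact h
  have hox : orderOf (e.symm (DihedralGroup.r 1)) = 2 ^ n := by
    rw [MulEquiv.orderOf_eq, DihedralGroup.orderOf_r_one, hmn]
  refine ⟨n, e.symm (DihedralGroup.r 1), e.symm (DihedralGroup.sr 0), hn1, hox,
    index_two_of_card _ (2 ^ n) (by positivity) hox (by rw [hcard, hmn]), ?_, ?_⟩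
  · intro h
    obtain ⟨j, hj⟩ := Subgroup.mem_zpowers_iff.mp h
    have := congrArg e hj
    rw [map_zpow, MulEquiv.apply_symm_apply, MulEquiv.apply_symm_apply,
      DihedralGroup.r_one_zpow] at this
    exact absurd this (by simp)
  · intro g hg
    have hg' : orderOf (e g) = 2 ^ n := by rw [MulEquiv.orderOf_eq, hg]
    rcases hgd : e g with i | i
    · rw [Subgroup.mem_zpowers_iff]
      refine ⟨(i.cast : ℤ), ?_⟩
      apply e.injective
      rw [map_zpow, MulEquiv.apply_symm_apply, DihedralGroup.r_one_zpow, hgd]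
      have : NeZero m := ⟨by omega⟩
      simp
    · exfalso
      rw [hgd, DihedralGroup.orderOf_sr] at hg'
      have : 4 ≤ 2 ^ n := hmn ▸ hm
      omega

theorem quasi_case [Finite X] (n : ℕ) (hn : 3 ≤ n) (hcard : Nat.card X = 2 ^ (n + 1)) (x y : X)
    (hx : orderOf x = 2 ^ n) (hy : orderOf y = 2) (hxy : y * x * y⁻¹ = x ^ (2 ^ (n - 1) - 1)) :
    (Subgroup.zpowers x).index = 2 ∧
      y ∉ Subgroup.zpowers x ∧ ∀ g : X, orderOf g = 2 ^ n → g ∈ Subgroup.zpowers x := by
  have hidx : (Subgroup.zpowers x).index = 2 :=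
    index_two_of_card x (2 ^ n) (by positivity) hx (by rw [hcard, pow_succ, mul_comm])
  have h8 : 8 ≤ 2 ^ n := by
    calc 8 = 2 ^ 3 := by norm_num
      _ ≤ 2 ^ n := Nat.pow_le_pow_right (by norm_num) hn
  have h4 : 4 ≤ 2 ^ (n - 1) := by
    calc 4 = 2 ^ 2 := by norm_num
      _ ≤ 2 ^ (n - 1) := Nat.pow_le_pow_right (by norm_num) (by omega)
  have hpow : 2 ^ n = 2 * 2 ^ (n - 1) := by
    rw [← pow_succ']; congr 1; omega
  have hyC : y ∉ Subgroup.zpowers x := by
    intro h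
    obtain ⟨j, hj⟩ := Subgroup.mem_zpowers_iff.mp h
    have hcomm : y * x * y⁻¹ = x := by
      rw [← hj]
      have : Commute (x ^ j) x := (Commute.refl x).zpow_left j
      rw [this.eq]; group
    rw [hcomm] at hxy
    have h1 : x ^ 1 = x ^ (2 ^ (n - 1) - 1) := by rw [pow_one]; exact hxy
    rw [pow_eq_pow_iff_modEq, hx] at h1
    have h2 : 1 % 2 ^ n = (2 ^ (n - 1) - 1) % 2 ^ n := h1
    rw [Nat.mod_eq_of_lt (by omega), Nat.mod_eq_of_lt (by omega)] at h2
    omega
  refine ⟨hidx, hyC, ?_⟩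
  intro g hg
  by_contra hgC
  have hg' : y⁻¹ * g ∈ Subgroup.zpowers x := by
    rw [Subgroup.mul_mem_iff_of_index_two hidx, Subgroup.inv_mem_iff]
    exact ⟨fun h => absurd h hyC, fun h => absurd h hgC⟩
  rw [← mem_powers_iff_mem_zpowers] at hg'
  obtain ⟨j, hj⟩ := hg'
  have hj' : x ^ j = y⁻¹ * g := hj
  have e : g = y * x ^ j := by rw [hj']; group
  have hy2 : y * y = 1 := by
    have := pow_orderOf_eq_one y
    rwa [hy, pow_two] at this
  have hyinv : y⁻¹ = y := inv_eq_of_mul_eq_one_left hy2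
  have hconj : y * x ^ j * y⁻¹ = x ^ ((2 ^ (n - 1) - 1) * j) := by
    have : y * x ^ j * y⁻¹ = (y * x * y⁻¹) ^ j := by
      rw [← MulAut.conj_apply, ← MulAut.conj_apply, map_pow]
    rw [this, hxy, ← pow_mul]
  have hg2 : g * g = x ^ (2 ^ (n - 1) * j) := by
    have e1 : g * g = (y * x ^ j * y⁻¹) * (y * y) * x ^ j := by rw [e]; group
    rw [e1, hy2, hconj, mul_one, ← pow_add]
    congr 1
    have : 2 ^ (n - 1) - 1 + 1 = 2 ^ (n - 1) := by omega
    calc (2 ^ (n - 1) - 1) * j + j = (2 ^ (n - 1) - 1 + 1) * j := by ring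
      _ = 2 ^ (n - 1) * j := by rw [this]
  have hg4 : g ^ 4 = 1 := by
    have : g ^ 4 = (g * g) * (g * g) := by
      rw [show (4 : ℕ) = 2 + 2 from rfl, pow_add, pow_two]
    rw [this, hg2, ← pow_add, ← two_mul, ← mul_assoc, ← hpow, pow_mul, ← hx, pow_orderOf_eq_one,
      one_pow]
  have := orderOf_dvd_of_pow_eq_one hg4
  rw [hg] at this
  have := Nat.le_of_dvd (by norm_num) this
  omega


/-- The automorphism group of a dihedral 2-group of order at least 8, or of a quasi-dihedral (semidihedral) 2-group of order at least 16, is a 2-group. -/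
theorem result {X : Type*} [Group X] [Finite X] (h2 : IsPGroup 2 X)
    (h : (∃ n : ℕ, 4 ≤ n ∧ Nonempty (X ≃* DihedralGroup n)) ∨ Cfsg.IsQuasiDihedral X) : IsPGroup 2 (MulAut X) := by
  rcases h with ⟨m, hm, ⟨e⟩⟩ | ⟨n, hn, hcard, x, y, hx, hy, hxy⟩
  · obtain ⟨n, x, y, hn1, hx, hidx, hy, hchar⟩ := dihedral_case h2 m hm e
    exact aut_isPGroup_of_cyclic_index_two n hn1 x y hx hidx hy hchar
  · obtain ⟨hidx, hyC, hchar⟩ := quasi_case n hn hcard x y hx hy hxy
    exact aut_isPGroup_of_cyclic_index_two n (by omega) x y hx hidx hyC hchar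

end Cfsg.Agent.S3116
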