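import Cfsg.Statements.S3117
import Cfsg.Agent.Lib.Helper13.ThreeInvC
import Cfsg.Agent.Lib.Helper10.ThreeInvS
import Cfsg.Agent.Lib.Helper27.ThreeInvP2

set_option autoImplicit false
open Cfsg

namespace Cfsg.Agent.S3117

/-- If X is a finite 2-group containing exactly three involutions, then the automorphism group of X is solvable. -/
theorem result {X : Type*} [Group X] [Finite X] (h2 : IsPGroup 2 X) (h3 : Nat.card {x : X // orderOf x = 2} = 3) : Group.IsSolvable (MulAut X) := by
  apply Cfsg.Agent.Lib.Helper13.ThreeInv.main_of_reduced _ h2 h3.le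
  intro G _ _ h3' h4 hc hk
  exact Cfsg.Agent.Lib.Helper10.ThreeInvS.aut_solvable_of_reduced_of h3'
    (fun φ hφ r hr hr2 hord =>
      Cfsg.Agent.Lib.Helper27.ThreeInvP.prime_analysis h3' h4 hc hk φ hφ r hr hr2 hord)

end Cfsg.Agent.S3117
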