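import Cfsg.Statements.S3125
import Cfsg.Agent.S1992

set_option autoImplicit false
open Cfsg

namespace Cfsg.Agent.S3125

/-- Let G be a finite group such that, for every prime p dividing the order of G, every Sylow p-subgroup of G is its own normalizer. Then G is not a non-abelian simple group. -/
theorem result {G : Type*} [Group G] [Finite G]
    (h : ∀ p : ℕ, p.Prime → p ∣ Nat.card G → ∀ P : Sylow p G, Subgroup.normalizer ((P : Subgroup G) : Set G) = P) :
    ¬ (IsSimpleGroup G ∧ ¬ IsMulCommutative G) := by
  rintro ⟨hs, hna⟩
  obtain ⟨q, hq, hqG⟩ := Cfsg.Agent.S1992.result h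
  haveI : Fact q.Prime := ⟨hq⟩
  haveI := hs
  -- a nontrivial p-group has nontrivial centre; simple => centre = ⊤ => commutative
  haveI : Nontrivial G := IsSimpleGroup.toNontrivial
  have hc : Subgroup.center G ≠ ⊥ := by
    have := IsPGroup.center_nontrivial hqG
    intro hbot
    rw [hbot] at this
    exact not_nontrivial _ this
  have htop : Subgroup.center G = ⊤ :=
    (IsSimpleGroup.eq_bot_or_eq_top_of_normal (Subgroup.center G) inferInstance).resolve_left hc
  apply hna
  constructor
  constructor
  intro a b
  have ha : a ∈ Subgroup.center G := by rw [htop]; trivial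
  exact (Subgroup.mem_center_iff.mp ha b).symm
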