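import Cfsg.Statements.S3155
import Mathlib.LinearAlgebra.Determinant
import Mathlib.LinearAlgebra.Dimension.Free
import Mathlib.LinearAlgebra.Dimension.Constructions
import Mathlib.Algebra.Module.ZMod
import Mathlib.LinearAlgebra.FreeModule.Finite.Basic

set_option autoImplicit false
open Cfsg

namespace Cfsg.Agent.S3155

theorem no_sq (g : (ZMod 4 × ZMod 4 × ZMod 4) →ₗ[ZMod 4] (ZMod 4 × ZMod 4 × ZMod 4))
    (h : g ∘ₗ g = -LinearMap.id) : False := by
  have : Fact (1 < 4) := ⟨by norm_num⟩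
  have h1 : LinearMap.det (g ∘ₗ g) = LinearMap.det g * LinearMap.det g := LinearMap.det_comp g g
  have h2 : LinearMap.det
      (-LinearMap.id : (ZMod 4 × ZMod 4 × ZMod 4) →ₗ[ZMod 4] (ZMod 4 × ZMod 4 × ZMod 4)) =
      (-1)^3 := by
    have e : (-LinearMap.id : (ZMod 4 × ZMod 4 × ZMod 4) →ₗ[ZMod 4] (ZMod 4 × ZMod 4 × ZMod 4)) =
        (-1 : ZMod 4) • LinearMap.id := (neg_one_smul _ _).symm
    have hr : Module.finrank (ZMod 4) (ZMod 4 × ZMod 4 × ZMod 4) = 3 := by
      simp [Module.finrank_prod, Module.finrank_self]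
    rw [e, LinearMap.det_smul, LinearMap.det_id, hr, mul_one]
  rw [h, h2] at h1
  have : ∀ d : ZMod 4, (-1 : ZMod 4)^3 ≠ d * d := by decide
  exact this _ h1

/-- Let B be the direct product of three cyclic groups of order 4. Then the automorphism of B inverting every element is not the square of any automorphism of B. -/
theorem result {B : Type*} [CommGroup B] [Finite B] (hB : Nonempty (B ≃* Multiplicative (ZMod 4 × ZMod 4 × ZMod 4)))
    (τ : B ≃* B) : τ.trans τ ≠ MulEquiv.inv B := by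
  intro h
  obtain ⟨e⟩ := hB
  have hτ : ∀ b : B, τ (τ b) = b⁻¹ := by
    intro b
    have := congrArg (fun φ : B ≃* B => φ b) h
    simpa using this
  let σ : Multiplicative (ZMod 4 × ZMod 4 × ZMod 4) →* Multiplicative (ZMod 4 × ZMod 4 × ZMod 4) :=
    ((e.symm.trans τ).trans e).toMonoidHom
  let f : (ZMod 4 × ZMod 4 × ZMod 4) →+ (ZMod 4 × ZMod 4 × ZMod 4) :=
    AddMonoidHom.toMultiplicative.symm σ
  have hf : ∀ x, f (f x) = -x := by
    intro x
    show Multiplicative.toAdd (σ (Multiplicative.ofAdd (Multiplicative.toAdd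
      (σ (Multiplicative.ofAdd x))))) = -x
    simp only [ofAdd_toAdd]
    show Multiplicative.toAdd (e (τ (e.symm (e (τ (e.symm (Multiplicative.ofAdd x))))))) = -x
    rw [MulEquiv.symm_apply_apply, hτ, map_inv, MulEquiv.apply_symm_apply]
    rfl
  apply no_sq (f.toZModLinearMap 4)
  ext x <;> simp [hf]

end Cfsg.Agent.S3155
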