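import Mathlib
import Cfsg.Statements.S3156
import Cfsg.Agent.Lib.Helper3.SU3Syl4
import Cfsg.Agent.Lib.Helper3.SU3Aut6

set_option autoImplicit false
open Cfsg

namespace Cfsg.Agent.S3156

open Cfsg.Agent.Lib.Helper3.SU3

/-- If a finite group T is isomorphic to a Sylow 2-subgroup of the projective special unitary group of dimension 3 with parameter 4 (realised over the field with 16 elements), then no subgroup of the automorphism group of T is isomorphic to the symmetric group of degree 3. -/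
theorem result {T : Type*} [Group T] [Finite T] (hT : (∃ (F : Type) (_ : Field F) (_ : Fintype F), Fintype.card F = 16 ∧ ∃ S : Sylow 2 (Cfsg.PSU 3 F 4), Nonempty (T ≃* ↥(S : Subgroup (Cfsg.PSU 3 F 4))))) (H : Subgroup (MulAut T)) : ¬ Nonempty (↥H ≃* Equiv.Perm (Fin 3)) := by
  obtain ⟨F, _, _, hF, S, ⟨e1⟩⟩ := hT
  haveI : Fact (QData F 4 2) := ⟨⟨by norm_num, by rw [hF]; norm_num⟩⟩
  obtain ⟨e2⟩ := sylow_PSU_equiv (n := 2) S
  rintro ⟨f⟩
  let g : Equiv.Perm (Fin 3) →* MulAut (UP F 4 2) :=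
    (MulAut.congr (e1.trans e2)).toMonoidHom.comp (H.subtype.comp f.symm.toMonoidHom)
  have hg : Function.Injective g := by
    intro a b hab
    have h1 : (f.symm a : MulAut T) = f.symm b := (MulAut.congr (e1.trans e2)).injective hab
    exact f.symm.injective (Subtype.ext h1)
  have hr3 : (c[0, 1, 2] : Equiv.Perm (Fin 3)) ^ 3 = 1 := by decide
  have hr1 : (c[0, 1, 2] : Equiv.Perm (Fin 3)) ≠ 1 := by decide
  have hs2 : (Equiv.swap 0 1 : Equiv.Perm (Fin 3)) ^ 2 = 1 := by decide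
  have hsr : (Equiv.swap 0 1 : Equiv.Perm (Fin 3)) * c[0, 1, 2] * (Equiv.swap 0 1)⁻¹
      = (c[0, 1, 2] : Equiv.Perm (Fin 3))⁻¹ := by decide
  apply UP.no_S3_UP (F := F) (g c[0, 1, 2]) (g (Equiv.swap 0 1))
  · rw [← map_pow, hr3, map_one]
  · intro h
    apply hr1
    apply hg
    rw [h, map_one]
  · rw [← map_pow, hs2, map_one]
  · rw [← map_inv, ← map_inv, ← map_mul, ← map_mul, hsr]

end Cfsg.Agent.S3156
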