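import Mathlib
import Cfsg.Statements.S3157
import Cfsg.Agent.Lib.Helper20.Ord64C
import Cfsg.Agent.Lib.Helper15.DihOrthPlus
import Cfsg.Agent.Lib.Helper10.UniqueOrderP

set_option autoImplicit false
set_option linter.style.haveILetI false
set_option linter.unusedSimpArgs false
set_option linter.unusedVariables false
open Cfsg

namespace Cfsg.Agent.S3157

open Subgroup Cfsg.Agent.Lib.Helper20.Ord64 Cfsg.Agent.Lib.Helper6.FFour

/-! ### Groups of order eight -/

theorem not_mem_zpowers {G : Type*} [Group G] (r t : G) (hr2 : r ^ 2 ≠ 1)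
    (hinv : t * r * t⁻¹ = r⁻¹) : t ∉ zpowers r := by
  intro h
  obtain ⟨k, rfl⟩ := mem_zpowers_iff.mp h
  have hc : r ^ k * r = r * r ^ k := (Commute.zpow_self r k).eq
  apply hr2
  have h1 : r ^ k * r * (r ^ k)⁻¹ = r := by rw [hc]; group
  rw [h1] at hinv
  calc r ^ 2 = r * r := pow_two r
    _ = r * r⁻¹ := by rw [← hinv]
    _ = 1 := mul_inv_cancel r

theorem orderOf_four {G : Type*} [Group G] (r : G) (hr4 : r ^ 4 = 1) (hr2 : r ^ 2 ≠ 1) :
    orderOf r = 4 := by
  haveI : Fact (Nat.Prime 2) := ⟨Nat.prime_two⟩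
  have := orderOf_eq_prime_pow (x := r) (n := 1) (p := 2) (by simpa using hr2) (by simpa using hr4)
  simpa using this

theorem d8_of {G : Type*} [Group G] (hcard : Nat.card G = 8) (r t : G) (hr4 : r ^ 4 = 1)
    (hr2 : r ^ 2 ≠ 1) (ht : t * t = 1) (hinv : t * r * t⁻¹ = r⁻¹) :
    Nonempty (G ≃* DihedralGroup 4) :=
  Cfsg.Agent.Lib.Helper15.dihedral_of_card 4 t r (orderOf_four r hr4 hr2) ht hinv
    (not_mem_zpowers r t hr2 hinv) (by rw [hcard])

theorem q8_of {G : Type*} [Group G] (hcard : Nat.card G = 8) (r t : G) (hr4 : r ^ 4 = 1)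
    (hr2 : r ^ 2 ≠ 1) (ht : t ^ 2 = r ^ 2) (hinv : t * r * t⁻¹ = r⁻¹) :
    Nonempty (G ≃* QuaternionGroup 2) := by
  have hord := orderOf_four r hr4 hr2
  have hnot := not_mem_zpowers r t hr2 hinv
  have hidx : (zpowers r).index = 2 := by
    have h := Subgroup.index_mul_card (zpowers r)
    rw [Nat.card_zpowers, hord, hcard] at h
    omega
  apply Cfsg.Agent.Lib.Helper10.nonempty_mulEquiv_quaternionGroup 2 r t (by rw [hord]) hinv ht hnot
  intro g
  by_cases hg : g ∈ zpowers r
  · left; exact hg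
  · right
    rw [Subgroup.mul_mem_iff_of_index_two hidx]
    constructor
    · intro h
      exact absurd (inv_mem_iff.mp h) hnot
    · intro h
      exact absurd h hg

theorem comm_of_small {G : Type*} [Group G] [Finite G]
    (h : Nat.card G = 1 ∨ Nat.card G = 2 ∨ Nat.card G = 4) (a b : G) : a * b = b * a := by
  haveI : Fact (Nat.Prime 2) := ⟨Nat.prime_two⟩
  rcases h with h | h | h
  · have := (Nat.card_eq_one_iff_unique.mp h).1
    rw [Subsingleton.elim a b]
  · haveI := isCyclic_of_prime_card (p := 2) h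
    haveI : IsMulCommutative G := IsCyclic.isMulCommutative
    exact mul_comm' a b
  · haveI : IsMulCommutative G := IsPGroup.isMulCommutative_of_card_eq_prime_sq (p := 2) (by rw [h]; norm_num)
    exact mul_comm' a b

/-! ### The main argument -/

variable {T : Type*} [Group T]

/-- the hypotheses on the involutory automorphism `x` -/
structure XHyp (ρ x : MulAut T) : Prop where
  sq : ∀ t : T, x (x t) = t
  tw : ∀ t : T, x (ρ t) = ρ (ρ (x t))

namespace XHyp

variable {ρ x : MulAut T}

theorem rho_eq (S : Setup ρ) (c : T) (hc : c ∈ center T) : ρ c = c * ρ (ρ c) := by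
  haveI := S.finite
  have hrc : ρ c ∈ center T := Fpf3.center_inv ρ _ hc
  have hrrc : ρ (ρ c) ∈ center T := Fpf3.center_inv ρ _ hrc
  have h := S.fp.tri c
  have h' : ρ c * (c * ρ (ρ c)) = 1 := by
    calc ρ c * (c * ρ (ρ c)) = (ρ c * c) * ρ (ρ c) := by group
      _ = (c * ρ c) * ρ (ρ c) := by rw [Setup.center_comm (ρ c) hrc c]
      _ = 1 := h
  have h3 : ρ c = (c * ρ (ρ c))⁻¹ := eq_inv_of_mul_eq_one_left h'
  calc ρ c = (c * ρ (ρ c))⁻¹ := h3
    _ = c * ρ (ρ c) := by
      rw [mul_inv_rev, S.center_inv_eq c hc, S.center_inv_eq _ hrrc, Setup.center_comm _ hrrc c]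

/-- an element fixed by `x` modulo the centre can be corrected to a fixed element -/
theorem adj (S : Setup ρ) (X : XHyp ρ x) (n c : T) (hc : c ∈ center T) (hn : x n = n * c) :
    x (n * ρ c) = n * ρ c := by
  have hxc : x c = c := by
    have h1 := X.sq n
    rw [hn, map_mul, hn] at h1
    have h2 : c * x c = 1 := by
      have : n * (c * x c) = n * 1 := by rw [mul_one, ← mul_assoc]; exact h1
      exact mul_left_cancel this
    have h3 : x c = c⁻¹ := eq_inv_of_mul_eq_one_right h2
    rw [h3, S.center_inv_eq c hc]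
  rw [map_mul, hn, X.tw, hxc, mul_assoc, ← rho_eq S c hc]

theorem map_cm (x : MulAut T) (u v : T) : x (cm u v) = cm (x u) (x v) := cm_map x u v

/-- a fixed element outside a `ρ`- and `x`-invariant subgroup `L` containing the centre -/
theorem exists_fixed_not_mem (S : Setup ρ) (X : XHyp ρ x) (L : Subgroup T)
    (hZL : center T ≤ L) (hLρ : ∀ n ∈ L, ρ n ∈ L) (hLtop : L ≠ ⊤) :
    ∃ v : T, v ∉ L ∧ x v = v := by
  haveI := S.finite
  by_contra hcon
  push Not at hcon
  have hfix : ∀ v, x v = v → v ∈ L := fun v hv => by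
    by_contra h
    exact hcon v h hv
  -- Claim A
  have hA : ∀ t : T, t * x t ∈ L := by
    intro t
    have hcZ : cm (x t)⁻¹ t⁻¹ ∈ center T := S.cm_mem _ _
    have hw : x (t * x t) = (t * x t) * cm (x t)⁻¹ t⁻¹ := by
      rw [map_mul, X.sq]
      unfold cm
      group
    have h1 := adj S X _ _ hcZ hw
    have h2 := hfix _ h1
    have h3 : ρ (cm (x t)⁻¹ t⁻¹) ∈ L := hZL (Fpf3.center_inv ρ _ hcZ)
    have h4 := L.mul_mem h2 (L.inv_mem h3)
    have e1 : t * x t * ρ (cm (x t)⁻¹ t⁻¹) * (ρ (cm (x t)⁻¹ t⁻¹))⁻¹ = t * x t := by group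
    rwa [e1] at h4
  -- Claim B
  have hB' : ∀ t : T, ρ (ρ t) * (ρ t)⁻¹ ∈ L := by
    intro t
    have h1 := hA t
    have h2 := hA (ρ t)
    rw [X.tw] at h2
    -- `x t = t⁻¹ * n₁`
    have e1 : x t = t⁻¹ * (t * x t) := by group
    have h3 : ρ (ρ (t * x t)) ∈ L := hLρ _ (hLρ _ h1)
    have e2 : ρ (ρ t) * (ρ t)⁻¹ = ρ (ρ (t * x t)) * (ρ t * ρ (ρ (x t)))⁻¹ := by
      rw [map_mul, map_mul]
      group
    rw [e2]
    exact L.mul_mem h3 (L.inv_mem h2)
  have hB : ∀ t : T, ρ t * t⁻¹ ∈ L := by
    intro t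
    have h := hB' (ρ (ρ t))
    rw [S.fp.cube (ρ t), S.fp.cube t] at h
    exact h
  apply hLtop
  rw [eq_top_iff]
  intro t _
  exact S.fp.mem_of_twist_mem L hLρ t (hB t)

/-- `x` preserves the line of a fixed element -/
theorem line_inv (S : Setup ρ) (X : XHyp ρ x) (u : T) (hu : x u = u) :
    ∀ m ∈ Fpf3.lineOf ρ u, x m ∈ Fpf3.lineOf ρ u := by
  intro m hm
  unfold Fpf3.lineOf at hm
  induction hm using closure_induction with
  | mem y hy =>
    rcases hy with hy | hy
    · exact Fpf3.center_le_lineOf ρ u (Fpf3.center_inv x y hy)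
    · simp only [Set.mem_insert_iff, Set.mem_singleton_iff] at hy
      rcases hy with rfl | rfl | rfl
      · rw [hu]; exact Fpf3.mem_lineOf_self ρ _
      · rw [X.tw, hu]; exact Fpf3.map_map_mem_lineOf_self ρ _
      · rw [X.tw, X.tw, hu, S.fp.cube]; exact Fpf3.map_mem_lineOf_self ρ _
  | one => rw [map_one]; exact one_mem _
  | mul a b _ _ ha hb => rw [map_mul]; exact mul_mem ha hb
  | inv a _ ha => rw [map_inv]; exact inv_mem ha

/-- the square of a product in terms of the commutator -/
theorem sq_mul (S : Setup ρ) (u v : T) :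
    (u * v) * (u * v) = cm u v * ((u * u) * (v * v)) := by
  have h1 : v * u = cm v u * (u * v) := mul_eq_cm_mul v u
  have h2 := S.cm_swap u v
  calc (u * v) * (u * v) = u * (v * u) * v := by group
    _ = u * (cm v u * (u * v)) * v := by rw [h1]
    _ = (u * cm v u) * (u * v * v) := by group
    _ = (cm v u * u) * (u * v * v) := by rw [S.cm_comm v u u]
    _ = cm v u * ((u * u) * (v * v)) := by group
    _ = cm u v * ((u * u) * (v * v)) := by rw [h2]

end XHyp

theorem main {T : Type*} [Group T] [Finite T] {ρ x : MulAut T} (S : Setup ρ) (X : XHyp ρ x)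
    (C : Subgroup T) (hC : ∀ y : T, y ∈ C ↔ x y = y) :
    (∃ P : Sylow 2 (Matrix.ProjectiveSpecialLinearGroup (Fin 3) K4),
      Nonempty (T ≃* ↥(P : Subgroup (Matrix.ProjectiveSpecialLinearGroup (Fin 3) K4)))) ∧
    (Nonempty (↥C ≃* DihedralGroup 4) ∨ Nonempty (↥C ≃* QuaternionGroup 2)) := by
  haveI : Fact (Nat.Prime 2) := ⟨Nat.prime_two⟩
  -- a fixed element outside the centre
  have hZtop : center T ≠ ⊤ := S.ne_top_of_comm _ (fun a ha b _ => Setup.center_comm a ha b)
  obtain ⟨u, huZ, hu⟩ := XHyp.exists_fixed_not_mem S X (center T) le_rfl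
    (fun z hz => Fpf3.center_inv ρ z hz) hZtop
  -- a second one outside its line
  have hLtop : Fpf3.lineOf ρ u ≠ ⊤ := S.ne_top_of_comm _ (S.fp.lineOf_comm u)
  obtain ⟨v, hvL, hv⟩ := XHyp.exists_fixed_not_mem S X (Fpf3.lineOf ρ u)
    (Fpf3.center_le_lineOf ρ u) (S.fp.lineOf_inv u) hLtop
  set e := cm u v with he
  have he1 : e ≠ 1 := by
    intro h
    exact hvL (S.mem_line_of_commute u v huZ ((cm_eq_one_iff u v).mp h))
  have heZ : e ∈ center T := S.cm_mem u v
  have hxe : x e = e := by rw [he, cm_map, hu, hv]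
  have he2 : e * e = 1 := S.center_sq e heZ
  have hreZ : ρ e ∈ center T := Fpf3.center_inv ρ _ heZ
  have hrreZ : ρ (ρ e) ∈ center T := Fpf3.center_inv ρ _ hreZ
  -- fixed central elements
  have hfixZ : ∀ z ∈ center T, x z = z → z = 1 ∨ z = e := by
    intro z hz hxz
    by_cases hz1 : z = 1
    · left; exact hz1
    right
    have hzr : z ≠ ρ z := fun h => hz1 (S.fp.fpf z h.symm)
    rcases S.center_cases z hz hz1 e heZ with h | h | h | h
    · exact absurd h he1
    · exact h.symm
    · exfalso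
      have h1 : x e = ρ (ρ z) := by rw [h, X.tw, hxz]
      rw [hxe, h] at h1
      exact hzr (ρ.injective h1)
    · exfalso
      have h1 : x e = ρ z := by rw [h, X.tw, X.tw, hxz, S.fp.cube]
      rw [hxe, h] at h1
      exact hzr (ρ.injective h1.symm)
  have huu : u * u = 1 ∨ u * u = e :=
    hfixZ _ (S.sq_mem_center u) (by rw [map_mul, hu])
  have hvv : v * v = 1 ∨ v * v = e :=
    hfixZ _ (S.sq_mem_center v) (by rw [map_mul, hv])
  have htri : e * ρ e * ρ (ρ e) = 1 := S.fp.tri e
  refine ⟨?_, ?_⟩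
  · -- the isomorphism type of `T`
    rcases huu with huu | huu <;> rcases hvv with hvv | hvv
    · exact S.nonempty_sylow_mulEquiv u v huu hvv he1
    · refine S.nonempty_sylow_mulEquiv u (u * v) huu ?_ ?_
      · rw [XHyp.sq_mul S, ← he, huu, hvv, one_mul, he2]
      · rw [S.cm_mul_right, cm_self, one_mul]; exact he1
    · refine S.nonempty_sylow_mulEquiv v (u * v) hvv ?_ ?_
      · rw [XHyp.sq_mul S, ← he, huu, hvv, mul_one, he2]
      · rw [S.cm_mul_right, cm_self, mul_one, S.cm_swap]; exact he1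
    · -- both squares equal `e`
      have hc1 : cm u (ρ v) = ρ (ρ e) := S.cm_rho_right u v
      have hc2 : cm u (ρ (ρ v)) = ρ e := by
        rw [S.cm_rho_right, hc1, S.fp.cube]
      have hrv2 : ρ v * ρ v = ρ e := by rw [← map_mul, hvv]
      have hrrv2 : ρ (ρ v) * ρ (ρ v) = ρ (ρ e) := by rw [← map_mul, hrv2]
      have hprod : ρ (ρ e) * (e * ρ e) = 1 := by
        calc ρ (ρ e) * (e * ρ e) = (e * ρ e) * ρ (ρ e) := Setup.center_comm _ hrreZ _
          _ = 1 := htri
      have hprod2 : ρ e * (e * ρ (ρ e)) = 1 := by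
        calc ρ e * (e * ρ (ρ e)) = (ρ e * e) * ρ (ρ e) := by group
          _ = (e * ρ e) * ρ (ρ e) := by rw [Setup.center_comm (ρ e) hreZ e]
          _ = 1 := htri
      refine S.nonempty_sylow_mulEquiv (u * ρ v) (u * ρ (ρ v)) ?_ ?_ ?_
      · rw [XHyp.sq_mul S, hc1, huu, hrv2]; exact hprod
      · rw [XHyp.sq_mul S, hc2, huu, hrrv2]; exact hprod2
      · rw [S.cm_mul_left, S.cm_mul_right, S.cm_mul_right, cm_self, one_mul, hc2,
          S.cm_swap u (ρ v), hc1]
        have h0 : cm (ρ v) (ρ (ρ v)) = 1 := (cm_eq_one_iff _ _).mpr (S.fp.comm1 (ρ v))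
        rw [h0, mul_one]
        -- `ρ e * ρ² e = e`
        intro h
        apply he1
        have : e * (ρ e * ρ (ρ e)) = 1 := by rw [← mul_assoc]; exact htri
        rw [h, mul_one] at this
        exact this
  · -- the fixed points of `x`
    have huC : u ∈ C := (hC u).mpr hu
    have hvC : v ∈ C := (hC v).mpr hv
    -- upper bound
    have hle : Nat.card C ≤ 8 := by
      let f : C × C → T := fun p => p.1.1 * ρ p.2.1
      have hf : Function.Injective f := by
        rintro ⟨a, b⟩ ⟨a', b'⟩ hab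
        have hab' : a.1 * ρ b.1 = a'.1 * ρ b'.1 := hab
        have h1 : a'.1⁻¹ * a.1 = ρ (b'.1 * b.1⁻¹) := by
          rw [map_mul, map_inv]
          calc a'.1⁻¹ * a.1 = a'.1⁻¹ * (a.1 * ρ b.1) * (ρ b.1)⁻¹ := by group
            _ = a'.1⁻¹ * (a'.1 * ρ b'.1) * (ρ b.1)⁻¹ := by rw [hab']
            _ = ρ b'.1 * (ρ b.1)⁻¹ := by group
        have hg : a'.1⁻¹ * a.1 ∈ C := C.mul_mem (C.inv_mem a'.2) a.2
        have hc' : b'.1 * b.1⁻¹ ∈ C := C.mul_mem b'.2 (C.inv_mem b.2)
        have h2 : x (ρ (b'.1 * b.1⁻¹)) = ρ (b'.1 * b.1⁻¹) := by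
          rw [← h1]; exact (hC _).mp hg
        rw [X.tw, (hC _).mp hc'] at h2
        have h3 : b'.1 * b.1⁻¹ = 1 := by
          apply S.fp.fpf
          exact ρ.injective h2
        have hb : b'.1 = b.1 := by
          calc b'.1 = (b'.1 * b.1⁻¹) * b.1 := by group
            _ = b.1 := by rw [h3, one_mul]
        have ha : a.1 = a'.1 := by
          rw [hb] at hab'
          exact mul_right_cancel hab'
        exact Prod.ext (Subtype.ext ha) (Subtype.ext hb.symm)
      have h1 := Nat.card_le_card_of_injective f hf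
      rw [Nat.card_prod, S.card] at h1
      nlinarith
    -- lower bound
    have hpC : IsPGroup 2 C := (IsPGroup.of_card (n := 6) (by rw [S.card]; norm_num)).to_subgroup C
    obtain ⟨k, hk⟩ := (IsPGroup.iff_card).1 hpC
    have hk3 : k ≤ 3 := by
      by_contra hcon
      push Not at hcon
      have : 2 ^ 4 ≤ 2 ^ k := Nat.pow_le_pow_right (by norm_num) hcon
      omega
    have hC8 : Nat.card C = 8 := by
      by_contra hne
      have hsmall : Nat.card C = 1 ∨ Nat.card C = 2 ∨ Nat.card C = 4 := by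
        rw [hk] at hne ⊢
        interval_cases k <;> simp_all
      have h1 := comm_of_small hsmall (⟨u, huC⟩ : C) ⟨v, hvC⟩
      have h2 : u * v = v * u := congrArg Subtype.val h1
      exact he1 ((cm_eq_one_iff u v).mpr h2)
    -- the relation `v u v⁻¹ = e u`
    have hconj : v * u * v⁻¹ = e * u := by
      have h1 : cm v u = e := S.cm_swap u v
      rw [← h1]; unfold cm; group
    have hconj' : u * v * u⁻¹ = e * v := by
      rw [he]; unfold cm; group
    have heu : e * u = u * e := Setup.center_comm e heZ u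
    have hev : e * v = v * e := Setup.center_comm e heZ v
    rcases huu with huu | huu <;> rcases hvv with hvv | hvv
    · -- `u² = v² = 1`: dihedral with rotation `u v`
      left
      have hsq : (u * v) * (u * v) = e := by
        rw [XHyp.sq_mul S, ← he, huu, hvv, one_mul, mul_one]
      have huinv : u⁻¹ = u := inv_eq_of_mul_eq_one_left huu
      have hvinv : v⁻¹ = v := inv_eq_of_mul_eq_one_left hvv
      apply d8_of hC8 (⟨u * v, C.mul_mem huC hvC⟩ : C) ⟨u, huC⟩
      · apply Subtype.ext
        show (u * v) ^ 4 = 1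
        rw [show (4 : ℕ) = 2 + 2 from rfl, pow_add, pow_two, hsq, he2]
      · intro h
        have h' : (u * v) ^ 2 = 1 := congrArg Subtype.val h
        rw [pow_two, hsq] at h'
        exact he1 h'
      · apply Subtype.ext
        exact huu
      · apply Subtype.ext
        show u * (u * v) * u⁻¹ = (u * v)⁻¹
        rw [mul_inv_rev, huinv, hvinv]
        calc u * (u * v) * u = (u * u) * v * u := by group
          _ = v * u := by rw [huu, one_mul]
    · -- `u² = 1`, `v² = e`: dihedral with rotation `v`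
      left
      have huinv : u⁻¹ = u := inv_eq_of_mul_eq_one_left huu
      apply d8_of hC8 (⟨v, hvC⟩ : C) ⟨u, huC⟩
      · apply Subtype.ext
        show v ^ 4 = 1
        rw [show (4 : ℕ) = 2 + 2 from rfl, pow_add, pow_two, hvv, he2]
      · intro h
        have h' : v ^ 2 = 1 := congrArg Subtype.val h
        rw [pow_two, hvv] at h'
        exact he1 h'
      · apply Subtype.ext
        exact huu
      · apply Subtype.ext
        show u * v * u⁻¹ = v⁻¹
        rw [hconj']
        apply eq_inv_of_mul_eq_one_left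
        rw [mul_assoc, hvv, he2]
    · -- `u² = e`, `v² = 1`: dihedral with rotation `u`
      left
      apply d8_of hC8 (⟨u, huC⟩ : C) ⟨v, hvC⟩
      · apply Subtype.ext
        show u ^ 4 = 1
        rw [show (4 : ℕ) = 2 + 2 from rfl, pow_add, pow_two, huu, he2]
      · intro h
        have h' : u ^ 2 = 1 := congrArg Subtype.val h
        rw [pow_two, huu] at h'
        exact he1 h'
      · apply Subtype.ext
        exact hvv
      · apply Subtype.ext
        show v * u * v⁻¹ = u⁻¹
        rw [hconj]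
        apply eq_inv_of_mul_eq_one_left
        rw [mul_assoc, huu, he2]
    · -- `u² = v² = e`: quaternion
      right
      apply q8_of hC8 (⟨u, huC⟩ : C) ⟨v, hvC⟩
      · apply Subtype.ext
        show u ^ 4 = 1
        rw [show (4 : ℕ) = 2 + 2 from rfl, pow_add, pow_two, huu, he2]
      · intro h
        have h' : u ^ 2 = 1 := congrArg Subtype.val h
        rw [pow_two, huu] at h'
        exact he1 h'
      · apply Subtype.ext
        show v ^ 2 = u ^ 2
        rw [pow_two, pow_two, huu, hvv]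
      · apply Subtype.ext
        show v * u * v⁻¹ = u⁻¹
        rw [hconj]
        apply eq_inv_of_mul_eq_one_left
        rw [mul_assoc, huu, he2]

/-- Let T be a non-abelian group of order 64 admitting automorphisms ρ of order 3 and x of order 2 with x ρ x⁻¹ = ρ⁻¹ (so they generate a symmetric group of degree 3), where ρ fixes only the identity. Then T is isomorphic to a Sylow 2-subgroup of the projective special linear group of dimension 3 over the field with 4 elements, and the subgroup of fixed points of x is dihedral of order 8 or quaternion of order 8. -/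
theorem result {T : Type*} [Group T] [Finite T] (hT : Nat.card T = 64) (hna : ¬ IsMulCommutative T) (ρ x : MulAut T) (hρ : orderOf ρ = 3) (hx : orderOf x = 2)
    (hxr : x * ρ * x⁻¹ = ρ⁻¹) (hfp : ∀ y : T, ρ y = y → y = 1) (C : Subgroup T) (hC : ∀ y : T, y ∈ C ↔ x y = y) :
    (∃ (F : Type) (_ : Field F) (_ : Fintype F), Fintype.card F = 4 ∧
        ∃ S : Sylow 2 (Matrix.ProjectiveSpecialLinearGroup (Fin 3) F), Nonempty (T ≃* ↥(S : Subgroup (Matrix.ProjectiveSpecialLinearGroup (Fin 3) F)))) ∧
      (Nonempty (↥C ≃* DihedralGroup 4) ∨ Nonempty (↥C ≃* QuaternionGroup 2)) := by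
  have h3 : ρ ^ 3 = 1 := by rw [← hρ]; exact pow_orderOf_eq_one ρ
  have hcube : ∀ y : T, ρ (ρ (ρ y)) = y := by
    intro y
    have := DFunLike.congr_fun h3 y
    simpa [pow_succ, MulAut.mul_apply] using this
  have hS : Setup ρ := ⟨⟨hcube, hfp⟩, hT, hna⟩
  have h2 : x ^ 2 = 1 := by rw [← hx]; exact pow_orderOf_eq_one x
  have hsq : ∀ t : T, x (x t) = t := by
    intro t
    have := DFunLike.congr_fun h2 t
    simpa [pow_succ, MulAut.mul_apply] using this
  have hinv : ∀ y : T, ρ⁻¹ y = ρ (ρ y) := by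
    intro y
    have h := hcube y
    calc ρ⁻¹ y = ρ⁻¹ (ρ (ρ (ρ y))) := by rw [h]
      _ = ρ (ρ y) := MulAut.inv_apply_self T ρ _
  have htw : ∀ t : T, x (ρ t) = ρ (ρ (x t)) := by
    intro t
    have := DFunLike.congr_fun hxr (x t)
    simp only [MulAut.mul_apply, MulAut.inv_apply_self] at this
    rw [this, hinv]
  obtain ⟨⟨P, hP⟩, hCiso⟩ := main hS ⟨hsq, htw⟩ C hC
  exact ⟨⟨K4, inferInstance, inferInstance, by decide, P, hP⟩, hCiso⟩

end Cfsg.Agent.S3157
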