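import Cfsg.Statements.S3158
import Cfsg.Agent.Lib.Helper1.Nilpotent

set_option autoImplicit false
open Cfsg

namespace Cfsg.Agent.S3158

open Subgroup

variable {U : Type*} [Group U]

/-- the commutator `u w u⁻¹ w⁻¹` -/
def cm (u w : U) : U := u * w * u⁻¹ * w⁻¹

theorem cm_self (u : U) : cm u u = 1 := by unfold cm; group

theorem cm_mul_left (u u' w : U) (h : ∀ g : U, cm u' w * g = g * cm u' w) :
    cm (u * u') w = cm u w * cm u' w := by
  have e : cm (u * u') w = u * cm u' w * u⁻¹ * cm u w := by unfold cm; group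
  rw [e, ← h u, mul_assoc (cm u' w), mul_inv_cancel, mul_one, h]

theorem cm_mul_right (u w w' : U) (h : ∀ g : U, cm u w' * g = g * cm u w') :
    cm u (w * w') = cm u w * cm u w' := by
  have e : cm u (w * w') = cm u w * (w * cm u w' * w⁻¹) := by unfold cm; group
  rw [e, ← h w, mul_assoc (cm u w'), mul_inv_cancel, mul_one]

theorem map_cm (f : MulAut U) (u w : U) : f (cm u w) = cm (f u) (f w) := by
  unfold cm; rw [map_mul, map_mul, map_mul, map_inv, map_inv]

theorem pow_succ_apply (y : MulAut U) (i : ℕ) (u : U) : (y ^ (i + 1)) u = y ((y ^ i) u) := by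
  rw [pow_succ', MulAut.mul_apply]

theorem pow_add_apply (y : MulAut U) (i j : ℕ) (u : U) : (y ^ (i + j)) u = (y ^ i) ((y ^ j) u) := by
  rw [pow_add, MulAut.mul_apply]

theorem result {U : Type*} [Group U] [Finite U] (n : ℕ) (hn : 1 ≤ n) (hU : Nat.card U = (2 ^ n) ^ 2)
    (y : MulAut U) (hy : orderOf y = 2 ^ n - 1) (hfp : ∀ k : ℕ, y ^ k ≠ 1 → ∀ u : U, (y ^ k) u = u → u = 1)
    (V : Subgroup U) [V.Normal] (hV : V ≠ ⊤) (hyV : ∀ v ∈ V, y v ∈ V)
    (hVe : ∀ v ∈ V, v ^ 2 = 1) (hQe : ∀ u : U, u ^ 2 ∈ V) (hQc : ∀ u w : U, u * w * u⁻¹ * w⁻¹ ∈ V)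
    (φ : ↥V ≃* U ⧸ V) (hφ : ∀ (v : ↥V) (u : U), (QuotientGroup.mk u : U ⧸ V) = φ v → φ ⟨y v, hyV v v.2⟩ = QuotientGroup.mk (y u)) :
    IsMulCommutative U := by
  classical
  have _ := hV
  have _ := hQe
  have hq2 : 2 ≤ 2 ^ n := by
    calc 2 = 2 ^ 1 := (pow_one 2).symm
      _ ≤ 2 ^ n := Nat.pow_le_pow_right (by norm_num) hn
  -- F1: `|V| = q`
  have hcardV : Nat.card V = 2 ^ n := by
    have h1 : Nat.card U = Nat.card (U ⧸ V) * Nat.card V :=
      Subgroup.card_eq_card_quotient_mul_card_subgroup V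
    have h2 : Nat.card (U ⧸ V) = Nat.card V := (Nat.card_congr φ.toEquiv).symm
    rw [h2, hU, sq] at h1
    exact (Nat.mul_self_inj.mp h1).symm
  -- iterates of `y` preserve `V`
  have hyVi : ∀ (i : ℕ) (v : U), v ∈ V → (y ^ i) v ∈ V := by
    intro i
    induction i with
    | zero => intro v hv; simpa using hv
    | succ i ih => intro v hv; rw [pow_succ_apply]; exact hyV _ (ih v hv)
  have hyord : y ^ (2 ^ n - 1) = 1 := by rw [← hy]; exact pow_orderOf_eq_one y
  -- inverses in `V`
  have hVinv : ∀ v ∈ V, v⁻¹ = v := by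
    intro v hv
    have := hVe v hv
    rw [sq] at this
    exact inv_eq_of_mul_eq_one_left this
  -- F2: transitivity
  have htrans : ∀ a ∈ V, a ≠ 1 → ∀ b ∈ V, b ≠ 1 → ∃ i : ℕ, (y ^ i) a = b := by
    intro a ha ha1 b hb hb1
    let f : Option (Fin (2 ^ n - 1)) → V := fun o =>
      match o with
      | none => 1
      | some i => ⟨(y ^ (i : ℕ)) a, hyVi i a ha⟩
    have hne : ∀ i : ℕ, (y ^ i) a ≠ 1 := by
      intro i h
      apply ha1
      have : (y ^ i) a = (y ^ i) 1 := by rw [h, map_one]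
      exact (y ^ i).injective this
    have hinj : Function.Injective f := by
      have key : ∀ i j : ℕ, i ≤ j → j < 2 ^ n - 1 → (y ^ i) a = (y ^ j) a → i = j := by
        intro i j hij hj h
        obtain ⟨d, rfl⟩ := Nat.exists_eq_add_of_le hij
        rw [pow_add_apply] at h
        have h1 : (y ^ d) a = a := ((y ^ i).injective h).symm
        by_contra hne'
        have hd : y ^ d ≠ 1 := by
          intro h2
          have : orderOf y ∣ d := orderOf_dvd_of_pow_eq_one h2
          rw [hy] at this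
          have := Nat.le_of_dvd (by omega) this
          omega
        exact ha1 (hfp d hd a h1)
      intro o o' h
      match o, o' with
      | none, none => rfl
      | none, some j =>
        exfalso
        have : (1 : U) = (y ^ (j : ℕ)) a := congrArg Subtype.val h
        exact hne j this.symm
      | some i, none =>
        exfalso
        have : (y ^ (i : ℕ)) a = (1 : U) := congrArg Subtype.val h
        exact hne i this
      | some i, some j =>
        have h' : (y ^ (i : ℕ)) a = (y ^ (j : ℕ)) a := congrArg Subtype.val h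
        rcases le_total (i : ℕ) (j : ℕ) with hij | hij
        · have := key i j hij j.2 h'
          rw [Fin.ext this]
        · have := key j i hij i.2 h'.symm
          rw [Fin.ext this]
    have hcard : Nat.card V ≤ Nat.card (Option (Fin (2 ^ n - 1))) := by
      rw [hcardV, Nat.card_eq_fintype_card, Fintype.card_option, Fintype.card_fin]
      omega
    have hbij := hinj.bijective_of_nat_card_le hcard
    obtain ⟨o, ho⟩ := hbij.2 ⟨b, hb⟩
    match o, ho with
    | none, ho =>
      exfalso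
      have : (1 : U) = b := congrArg Subtype.val ho
      exact hb1 this.symm
    | some i, ho =>
      exact ⟨i, congrArg Subtype.val ho⟩
  -- F3: `V` is central
  have hVcent : ∀ v ∈ V, ∀ g : U, v * g = g * v := by
    haveI : Group.IsNilpotent U := (IsPGroup.of_card (p := 2) (n := 2 * n)
      (by rw [hU, ← pow_mul, mul_comm])).isNilpotent
    have hVbot : V ≠ ⊥ := by
      intro h
      rw [h, Subgroup.card_bot] at hcardV
      omega
    have h1 := Cfsg.Agent.Lib.Helper1.inf_center_ne_bot_of_normal V hVbot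
    obtain ⟨⟨z, hzV, hzC⟩, hz1⟩ := (Subgroup.ne_bot_iff_exists_ne_one).mp h1
    have hz1' : z ≠ 1 := fun h => hz1 (Subtype.ext h)
    have hzV : z ∈ V := hzV
    have hzC : ∀ g : U, g * z = z * g := Subgroup.mem_center_iff.mp hzC
    intro v hv g
    by_cases hv1 : v = 1
    · rw [hv1, one_mul, mul_one]
    · obtain ⟨i, rfl⟩ := htrans z hzV hz1' v hv hv1
      have hg : g = (y ^ i) ((y ^ i).symm g) := ((y ^ i).apply_symm_apply g).symm
      rw [hg, ← map_mul, ← map_mul, hzC]
  -- commutators are central of order two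
  have hcV : ∀ u w : U, cm u w ∈ V := fun u w => hQc u w
  have hcc : ∀ u w g : U, cm u w * g = g * cm u w := fun u w g => hVcent _ (hcV u w) g
  have hcmV_left : ∀ v ∈ V, ∀ w : U, cm v w = 1 := by
    intro v hv w
    unfold cm
    rw [hVcent v hv w]
    group
  have hcmV_right : ∀ v ∈ V, ∀ u : U, cm u v = 1 := by
    intro v hv u
    unfold cm
    rw [← hVcent v hv u]
    group
  have hcoset_left : ∀ u u' w : U, (QuotientGroup.mk u : U ⧸ V) = QuotientGroup.mk u' →
      cm u w = cm u' w := by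
    intro u u' w h
    have hv : u⁻¹ * u' ∈ V := QuotientGroup.eq.mp h
    have e : u' = u * (u⁻¹ * u') := by group
    rw [e, cm_mul_left _ _ _ (hcc _ _), hcmV_left _ hv, mul_one]
  have hcoset_right : ∀ u w w' : U, (QuotientGroup.mk w : U ⧸ V) = QuotientGroup.mk w' →
      cm u w = cm u w' := by
    intro u w w' h
    have hv : w⁻¹ * w' ∈ V := QuotientGroup.eq.mp h
    have e : w' = w * (w⁻¹ * w') := by group
    rw [e, cm_mul_right _ _ _ (hcc _ _), hcmV_right _ hv, mul_one]
  -- F6: transfer along `φ`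
  have hφi : ∀ (i : ℕ) (v : V) (u : U), (QuotientGroup.mk u : U ⧸ V) = φ v →
      φ ⟨(y ^ i) v, hyVi i v v.2⟩ = QuotientGroup.mk ((y ^ i) u) := by
    intro i
    induction i with
    | zero =>
      intro v u h
      simp only [pow_zero, MulAut.one_apply]
      exact h.symm
    | succ i ih =>
      intro v u h
      have h1 := hφ ⟨(y ^ i) v, hyVi i v v.2⟩ ((y ^ i) u) (ih v u h).symm
      have e1 : (⟨(y ^ (i + 1)) (v : U), hyVi (i + 1) v v.2⟩ : V) =
          ⟨y ((y ^ i) (v : U)), hyV _ (hyVi i v v.2)⟩ := Subtype.ext (pow_succ_apply y i v)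
      rw [e1, h1, pow_succ_apply]
  -- F5/F6: the operator `y^j + y^k`
  have hrho : ∀ j k : ℕ, (∀ u : U, (QuotientGroup.mk ((y ^ j) u) : U ⧸ V) =
        QuotientGroup.mk ((y ^ k) u)) ∨
      ∃ m : ℕ, (∀ v ∈ V, (y ^ j) v * (y ^ k) v = (y ^ m) v) ∧
        ∀ u : U, (QuotientGroup.mk ((y ^ j) u * (y ^ k) u) : U ⧸ V) =
          QuotientGroup.mk ((y ^ m) u) := by
    intro j k
    -- a nonidentity element of `V`
    obtain ⟨a₀, ha₀, ha₀1⟩ : ∃ a₀ ∈ V, a₀ ≠ 1 := by
      have hVbot : V ≠ ⊥ := by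
        intro h
        rw [h, Subgroup.card_bot] at hcardV
        omega
      obtain ⟨z, hz1⟩ := (Subgroup.ne_bot_iff_exists_ne_one).mp hVbot
      exact ⟨z, z.2, fun h => hz1 (Subtype.ext h)⟩
    have hall : ∀ v ∈ V, v = 1 ∨ ∃ i : ℕ, v = (y ^ i) a₀ := by
      intro v hv
      by_cases hv1 : v = 1
      · exact Or.inl hv1
      · obtain ⟨i, hi⟩ := htrans a₀ ha₀ ha₀1 v hv hv1
        exact Or.inr ⟨i, hi.symm⟩
    have hcommpow : ∀ (i l : ℕ) (u : U), (y ^ l) ((y ^ i) u) = (y ^ i) ((y ^ l) u) := by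
      intro i l u
      rw [← pow_add_apply, ← pow_add_apply, add_comm]
    by_cases hr : (y ^ j) a₀ * (y ^ k) a₀ = 1
    · left
      have h0 : (y ^ j) a₀ = (y ^ k) a₀ := by
        have := eq_inv_of_mul_eq_one_left hr
        rw [hVinv _ (hyVi k a₀ ha₀)] at this
        exact this
      have hVeq : ∀ v ∈ V, (y ^ j) v = (y ^ k) v := by
        intro v hv
        rcases hall v hv with rfl | ⟨i, rfl⟩
        · rw [map_one, map_one]
        · rw [hcommpow, hcommpow i k, h0]
      intro u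
      obtain ⟨a, ha⟩ : ∃ a : V, (QuotientGroup.mk u : U ⧸ V) = φ a :=
        ⟨φ.symm (QuotientGroup.mk u), (φ.apply_symm_apply _).symm⟩
      rw [← hφi j a u ha, ← hφi k a u ha]
      congr 1
      exact Subtype.ext (hVeq a a.2)
    · right
      obtain ⟨m, hm⟩ := htrans a₀ ha₀ ha₀1 _ (V.mul_mem (hyVi j a₀ ha₀) (hyVi k a₀ ha₀)) hr
      have hVeq : ∀ v ∈ V, (y ^ j) v * (y ^ k) v = (y ^ m) v := by
        intro v hv
        rcases hall v hv with rfl | ⟨i, rfl⟩
        · rw [map_one, map_one, map_one, mul_one]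
        · rw [hcommpow i j, hcommpow i k, hcommpow i m, ← map_mul, hm]
      refine ⟨m, hVeq, ?_⟩
      intro u
      obtain ⟨a, ha⟩ : ∃ a : V, (QuotientGroup.mk u : U ⧸ V) = φ a :=
        ⟨φ.symm (QuotientGroup.mk u), (φ.apply_symm_apply _).symm⟩
      rw [QuotientGroup.mk_mul, ← hφi j a u ha, ← hφi k a u ha, ← hφi m a u ha, ← map_mul]
      congr 1
      exact Subtype.ext (hVeq a a.2)
  -- F7
  have hswap : ∀ (j k : ℕ) (u w : U),
      cm ((y ^ j) u) ((y ^ k) w) = cm ((y ^ k) u) ((y ^ j) w) := by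
    intro j k u w
    rcases hrho j k with h | ⟨m, hmV, hmU⟩
    · rw [hcoset_left _ _ _ (h u), hcoset_right _ _ _ (h w).symm]
    · have e1 : cm ((y ^ m) u) ((y ^ m) w) =
          cm ((y ^ j) u) ((y ^ j) w) * cm ((y ^ k) u) ((y ^ k) w) := by
        rw [← map_cm, ← hmV _ (hcV u w), map_cm, map_cm]
      have e2 : cm ((y ^ m) u) ((y ^ m) w) =
          cm ((y ^ j) u) ((y ^ j) w) * cm ((y ^ j) u) ((y ^ k) w) *
            (cm ((y ^ k) u) ((y ^ j) w) * cm ((y ^ k) u) ((y ^ k) w)) := by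
        rw [← hcoset_left _ _ _ (hmU u), ← hcoset_right _ _ _ (hmU w),
          cm_mul_left _ _ _ (hcc _ _), cm_mul_right _ _ _ (hcc _ _),
          cm_mul_right _ _ _ (hcc _ _)]
      rw [e1] at e2
      -- cancel
      have e3 : cm ((y ^ j) u) ((y ^ k) w) * cm ((y ^ k) u) ((y ^ j) w) = 1 := by
        have e4 : cm ((y ^ j) u) ((y ^ j) w) * cm ((y ^ k) u) ((y ^ k) w) =
            cm ((y ^ j) u) ((y ^ j) w) *
              ((cm ((y ^ j) u) ((y ^ k) w) * cm ((y ^ k) u) ((y ^ j) w)) *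
                cm ((y ^ k) u) ((y ^ k) w)) := by
          rw [e2]; simp only [mul_assoc]
        have e5 := mul_left_cancel e4
        have e6 : (1 : U) * cm ((y ^ k) u) ((y ^ k) w) =
            (cm ((y ^ j) u) ((y ^ k) w) * cm ((y ^ k) u) ((y ^ j) w)) *
              cm ((y ^ k) u) ((y ^ k) w) := by rw [one_mul]; exact e5
        exact (mul_right_cancel e6).symm
      have e7 := eq_inv_of_mul_eq_one_left e3
      rw [hVinv _ (hcV _ _)] at e7
      exact e7
  -- F8
  have hkey : ∀ (k : ℕ) (u : U), cm u ((y ^ (2 * k)) u) = 1 := by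
    intro k u
    have h1 := hswap 0 k u ((y ^ k) u)
    simp only [pow_zero, MulAut.one_apply] at h1
    rw [two_mul, pow_add_apply, h1, ← map_cm, cm_self, map_one]
  -- conclusion
  refine ⟨⟨fun u w => ?_⟩⟩
  have hcomm : cm u w = 1 := by
    by_cases huV : u ∈ V
    · exact hcmV_left u huV w
    by_cases hwV : w ∈ V
    · exact hcmV_right w hwV u
    obtain ⟨a, ha⟩ : ∃ a : V, (QuotientGroup.mk u : U ⧸ V) = φ a :=
      ⟨φ.symm (QuotientGroup.mk u), (φ.apply_symm_apply _).symm⟩
    obtain ⟨b, hb⟩ : ∃ b : V, (QuotientGroup.mk w : U ⧸ V) = φ b :=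
      ⟨φ.symm (QuotientGroup.mk w), (φ.apply_symm_apply _).symm⟩
    have ha1 : (a : U) ≠ 1 := by
      intro h
      apply huV
      have : a = 1 := Subtype.ext h
      rw [this, map_one] at ha
      exact (QuotientGroup.eq_one_iff u).mp ha
    have hb1 : (b : U) ≠ 1 := by
      intro h
      apply hwV
      have : b = 1 := Subtype.ext h
      rw [this, map_one] at hb
      exact (QuotientGroup.eq_one_iff w).mp hb
    obtain ⟨i, hi⟩ := htrans a a.2 ha1 b b.2 hb1
    have hwi : (QuotientGroup.mk w : U ⧸ V) = QuotientGroup.mk ((y ^ i) u) := by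
      rw [hb, ← hφi i a u ha]
      congr 1
      exact Subtype.ext hi.symm
    rw [hcoset_right _ _ _ hwi]
    -- `y^i = y^(2 k)`
    have hpow : y ^ i = y ^ (2 * (i * 2 ^ (n - 1))) := by
      have h2n : 2 * 2 ^ (n - 1) = 2 ^ n := by
        rw [← pow_succ']; congr 1; omega
      have e : 2 * (i * 2 ^ (n - 1)) = i + i * (2 ^ n - 1) := by
        have : 2 * (i * 2 ^ (n - 1)) = i * (2 * 2 ^ (n - 1)) := by ring
        rw [this, h2n]
        have h3 : 2 ^ n = (2 ^ n - 1) + 1 := by omega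
        conv_lhs => rw [h3]
        ring
      rw [e, pow_add, mul_comm i, pow_mul, hyord, one_pow, mul_one]
    rw [hpow]
    exact hkey _ u
  unfold cm at hcomm
  calc u * w = (u * w * u⁻¹ * w⁻¹) * (w * u) := by group
    _ = w * u := by rw [hcomm, one_mul]

end Cfsg.Agent.S3158
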