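import Cfsg.Statements.S3163
import Mathlib.Tactic.Group
import Cfsg.Agent.Lib.Helper18.ProductFormula

set_option autoImplicit false
open Cfsg
open Cfsg.Agent.Lib.Helper18

namespace Cfsg.Agent.S3163

variable {S : Type*} [Group S]

theorem card_mul_card_inf_le (A B : Subgroup S) [Finite S]
    (hAB : ∀ s : S, ∃ a ∈ A, ∃ b ∈ B, s = a * b) :
    Nat.card S * Nat.card ↥(A ⊓ B) ≤ Nat.card A * Nat.card B := by
  choose fa hfa fb hfb hfab using hAB
  rw [← Nat.card_prod, ← Nat.card_prod]
  let f : S × ↥(A ⊓ B) → ↥A × ↥B := fun x =>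
    (⟨fa x.1 * (x.2 : S), A.mul_mem (hfa x.1) x.2.2.1⟩,
      ⟨(x.2 : S)⁻¹ * fb x.1, B.mul_mem (B.inv_mem x.2.2.2) (hfb x.1)⟩)
  apply Nat.card_le_card_of_injective f
  rintro ⟨s, d⟩ ⟨s', d'⟩ h
  have h1 : fa s * (d : S) = fa s' * (d' : S) := congrArg (fun y => (y.1 : S)) h
  have h2 : (d : S)⁻¹ * fb s = (d' : S)⁻¹ * fb s' := congrArg (fun y => (y.2 : S)) h
  have hs : s = s' := by
    calc s = fa s * fb s := hfab s
      _ = (fa s * (d : S)) * ((d : S)⁻¹ * fb s) := by group
      _ = (fa s' * (d' : S)) * ((d' : S)⁻¹ * fb s') := by rw [h1, h2]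
      _ = fa s' * fb s' := by group
      _ = s' := (hfab s').symm
  subst hs
  have hd : (d : S) = (d' : S) := mul_left_cancel h1
  have : d = d' := Subtype.ext hd
  rw [this]

theorem comm_of_ea {A : Subgroup S} (hA : Cfsg.IsElementaryAbelian 2 A) {x y : S} (hx : x ∈ A)
    (hy : y ∈ A) : x * y = y * x := by
  have h := Subgroup.le_centralizer_iff_isMulCommutative.mpr hA.1
  exact (h hy x hx)

theorem inv_eq_of_ea {A : Subgroup S} (hA : Cfsg.IsElementaryAbelian 2 A) {x : S} (hx : x ∈ A) :
    x⁻¹ = x := by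
  have := hA.2 x hx
  rw [pow_two] at this
  exact inv_eq_of_mul_eq_one_left this

theorem le_of_mem_of_centralizer_eq {A E : Subgroup S} (hE : Cfsg.IsElementaryAbelian 2 E) {a : S}
    (ha : a ∈ E) (hC : Subgroup.centralizer ({a} : Set S) = A) : E ≤ A := by
  intro x hx
  rw [← hC, Subgroup.mem_centralizer_singleton_iff]
  exact comm_of_ea hE hx ha

/-- Let S be a non-abelian finite 2-group which is the product S = AB of two elementary abelian subgroups A and B, and suppose that the centralizer in S of every element of A outside B is exactly A. Then the centralizer of every element of B outside A is exactly B; A and B are maximal elementary abelian subgroups of S and the only ones; the centre of S is A ∩ B; and every element of S outside A ∪ B has centralizer of order at most min(|A|, |B|). -/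
theorem result {S : Type*} [Group S] [Finite S] (hS : IsPGroup 2 S) (hna : ¬ IsMulCommutative S) (A B : Subgroup S)
    (hA : Cfsg.IsElementaryAbelian 2 A) (hB : Cfsg.IsElementaryAbelian 2 B) (hAB : ∀ s : S, ∃ a ∈ A, ∃ b ∈ B, s = a * b)
    (hC : ∀ a ∈ A, a ∉ B → Subgroup.centralizer ({a} : Set S) = A) :
    (∀ b ∈ B, b ∉ A → Subgroup.centralizer ({b} : Set S) = B) ∧
      (∀ E : Subgroup S, Cfsg.IsElementaryAbelian 2 E → (∀ E' : Subgroup S, Cfsg.IsElementaryAbelian 2 E' → E ≤ E' → E' = E) → E = A ∨ E = B) ∧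
      (∀ E' : Subgroup S, Cfsg.IsElementaryAbelian 2 E' → A ≤ E' → E' = A) ∧ (∀ E' : Subgroup S, Cfsg.IsElementaryAbelian 2 E' → B ≤ E' → E' = B) ∧
      Subgroup.center S = A ⊓ B ∧
      (∀ x : S, x ∉ A → x ∉ B → Nat.card ↥(Subgroup.centralizer ({x} : Set S)) ≤ min (Nat.card ↥A) (Nat.card ↥B)) := by
  classical
  -- A is not contained in B and conversely
  have hcommS : (∀ x y : S, x * y = y * x) → False := fun h => hna ⟨⟨h⟩⟩
  have hAtop : A ≠ ⊤ := by
    intro h
    apply hcommS
    intro x y
    exact comm_of_ea hA (h ▸ Subgroup.mem_top x) (h ▸ Subgroup.mem_top y)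
  have hBtop : B ≠ ⊤ := by
    intro h
    apply hcommS
    intro x y
    exact comm_of_ea hB (h ▸ Subgroup.mem_top x) (h ▸ Subgroup.mem_top y)
  obtain ⟨a₀, ha₀, ha₀B⟩ : ∃ a ∈ A, a ∉ B := by
    by_contra hcon
    push Not at hcon
    apply hBtop
    rw [eq_top_iff]
    intro s _
    obtain ⟨a, ha, b, hb, rfl⟩ := hAB s
    exact B.mul_mem (hcon a ha) hb
  obtain ⟨b₀, hb₀, hb₀A⟩ : ∃ b ∈ B, b ∉ A := by
    by_contra hcon
    push Not at hcon
    apply hAtop
    rw [eq_top_iff]
    intro s _
    obtain ⟨a, ha, b, hb, rfl⟩ := hAB s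
    exact A.mul_mem ha (hcon b hb)
  -- (1)
  have h1 : ∀ b ∈ B, b ∉ A → Subgroup.centralizer ({b} : Set S) = B := by
    intro b hb hbA
    ext x
    rw [Subgroup.mem_centralizer_singleton_iff]
    constructor
    · intro hx
      obtain ⟨a', ha', b', hb', rfl⟩ := hAB x
      have hbb' : b * b' = b' * b := comm_of_ea hB hb hb'
      have hab : b * a' = a' * b := by
        have e : b * a' = (b * (a' * b')) * b'⁻¹ := by group
        rw [e, ← hx]
        have e2 : a' * b' * b * b'⁻¹ = a' * (b' * b) * b'⁻¹ := by group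
        rw [e2, ← hbb']
        group
      by_cases ha'B : a' ∈ B
      · exact B.mul_mem ha'B hb'
      · exfalso
        have := hC a' ha' ha'B
        apply hbA
        rw [← this, Subgroup.mem_centralizer_singleton_iff]
        exact hab
    · intro hx
      exact comm_of_ea hB hx hb
  -- maximality
  have h3a : ∀ E' : Subgroup S, Cfsg.IsElementaryAbelian 2 E' → A ≤ E' → E' = A := by
    intro E' hE' hle
    exact le_antisymm (le_of_mem_of_centralizer_eq hE' (hle ha₀) (hC a₀ ha₀ ha₀B)) hle
  have h3b : ∀ E' : Subgroup S, Cfsg.IsElementaryAbelian 2 E' → B ≤ E' → E' = B := by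
    intro E' hE' hle
    exact le_antisymm (le_of_mem_of_centralizer_eq hE' (hle hb₀) (h1 b₀ hb₀ hb₀A)) hle
  -- no involutions outside A ∪ B
  have hinv : ∀ x : S, x ^ 2 = 1 → x ∈ A ∨ x ∈ B := by
    intro x hx2
    obtain ⟨a, ha, b, hb, rfl⟩ := hAB x
    by_cases haB : a ∈ B
    · right; exact B.mul_mem haB hb
    by_cases hbA : b ∈ A
    · left; exact A.mul_mem ha hbA
    exfalso
    have e1 : a * b = (a * b)⁻¹ := by
      rw [pow_two] at hx2
      exact (inv_eq_of_mul_eq_one_left hx2).symm
    rw [mul_inv_rev, inv_eq_of_ea hA ha, inv_eq_of_ea hB hb] at e1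
    apply hbA
    rw [← hC a ha haB, Subgroup.mem_centralizer_singleton_iff]
    exact e1.symm
  -- (2)
  have h2 : ∀ E : Subgroup S, Cfsg.IsElementaryAbelian 2 E →
      (∀ E' : Subgroup S, Cfsg.IsElementaryAbelian 2 E' → E ≤ E' → E' = E) → E = A ∨ E = B := by
    intro E hE hmax
    by_cases hc1 : ∃ a ∈ E, a ∈ A ∧ a ∉ B
    · obtain ⟨a, haE, haA, haB⟩ := hc1
      left
      exact (hmax A hA (le_of_mem_of_centralizer_eq hE haE (hC a haA haB))).symm
    by_cases hc2 : ∃ b ∈ E, b ∈ B ∧ b ∉ A
    · obtain ⟨b, hbE, hbB, hbA⟩ := hc2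
      right
      exact (hmax B hB (le_of_mem_of_centralizer_eq hE hbE (h1 b hbB hbA))).symm
    push Not at hc1 hc2
    left
    have hle : E ≤ A := by
      intro x hx
      rcases hinv x (hE.2 x hx) with h | h
      · exact h
      · exact hc2 x hx h
    exact (hmax A hA hle).symm
  -- centre
  have hD : A ⊓ B ≤ Subgroup.center S := by
    intro z hz
    rw [Subgroup.mem_center_iff]
    intro s
    obtain ⟨a, ha, b, hb, rfl⟩ := hAB s
    have e1 : a * z = z * a := comm_of_ea hA ha hz.1
    have e2 : b * z = z * b := comm_of_ea hB hb hz.2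
    calc a * b * z = a * (b * z) := by group
      _ = a * (z * b) := by rw [e2]
      _ = (a * z) * b := by group
      _ = z * a * b := by rw [e1]
      _ = z * (a * b) := by group
  have h4 : Subgroup.center S = A ⊓ B := by
    apply le_antisymm _ hD
    intro z hz
    have hzA : z ∈ A := by
      rw [← hC a₀ ha₀ ha₀B, Subgroup.mem_centralizer_singleton_iff]
      exact (Subgroup.mem_center_iff.mp hz a₀).symm
    refine ⟨hzA, ?_⟩
    by_contra hzB
    apply hAtop
    rw [← hC z hzA hzB, eq_top_iff]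
    intro s _
    rw [Subgroup.mem_centralizer_singleton_iff]
    exact Subgroup.mem_center_iff.mp hz s
  refine ⟨h1, h2, h3a, h3b, h4, ?_⟩
  -- (5)
  intro x hxA hxB
  obtain ⟨a, ha, b, hb, rfl⟩ := hAB x
  have haB : a ∉ B := fun h => hxB (B.mul_mem h hb)
  have hbA : b ∉ A := fun h => hxA (A.mul_mem ha h)
  set C := Subgroup.centralizer ({a * b} : Set S) with hCdef
  have hCA : C ⊓ A ≤ A ⊓ B := by
    rintro y ⟨hyC, hyA⟩
    refine ⟨hyA, ?_⟩
    have hyC' : y * (a * b) = a * b * y := Subgroup.mem_centralizer_singleton_iff.mp hyC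
    have e1 : a * y = y * a := comm_of_ea hA ha hyA
    have : a * (b * y) = a * (y * b) := by
      calc a * (b * y) = a * b * y := by group
        _ = y * (a * b) := hyC'.symm
        _ = (y * a) * b := by group
        _ = a * y * b := by rw [e1]
        _ = a * (y * b) := by group
    have hmem : y ∈ Subgroup.centralizer ({b} : Set S) :=
      Subgroup.mem_centralizer_singleton_iff.mpr (mul_left_cancel this).symm
    rw [h1 b hb hbA] at hmem
    exact hmem
  have hCB : C ⊓ B ≤ A ⊓ B := by
    rintro y ⟨hyC, hyB⟩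
    refine ⟨?_, hyB⟩
    have hyC' : y * (a * b) = a * b * y := Subgroup.mem_centralizer_singleton_iff.mp hyC
    have e1 : b * y = y * b := comm_of_ea hB hb hyB
    have : (a * y) * b = (y * a) * b := by
      calc (a * y) * b = a * (y * b) := by group
        _ = a * (b * y) := by rw [e1]
        _ = a * b * y := by group
        _ = y * (a * b) := hyC'.symm
        _ = (y * a) * b := by group
    have hmem : y ∈ Subgroup.centralizer ({a} : Set S) :=
      Subgroup.mem_centralizer_singleton_iff.mpr (mul_right_cancel this).symm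
    rw [hC a ha haB] at hmem
    exact hmem
  have hSD := card_mul_card_inf_le A B hAB
  have hApos : 0 < Nat.card A := Nat.card_pos
  have hBpos : 0 < Nat.card B := Nat.card_pos
  have k1 : Nat.card C * Nat.card A ≤ Nat.card S * Nat.card ↥(A ⊓ B) := by
    calc Nat.card C * Nat.card A ≤ Nat.card ↥(C ⊔ A) * Nat.card ↥(C ⊓ A) :=
          card_mul_card_le_card_sup_mul_card_inf C A
      _ ≤ Nat.card S * Nat.card ↥(A ⊓ B) :=
          Nat.mul_le_mul (Subgroup.card_le_card_group _) (Subgroup.card_le_of_le hCA)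
  have k2 : Nat.card C * Nat.card B ≤ Nat.card S * Nat.card ↥(A ⊓ B) := by
    calc Nat.card C * Nat.card B ≤ Nat.card ↥(C ⊔ B) * Nat.card ↥(C ⊓ B) :=
          card_mul_card_le_card_sup_mul_card_inf C B
      _ ≤ Nat.card S * Nat.card ↥(A ⊓ B) :=
          Nat.mul_le_mul (Subgroup.card_le_card_group _) (Subgroup.card_le_of_le hCB)
  apply le_min
  · have : Nat.card C * Nat.card B ≤ Nat.card A * Nat.card B := k2.trans hSD
    exact Nat.le_of_mul_le_mul_right this hBpos
  · have : Nat.card C * Nat.card A ≤ Nat.card B * Nat.card A := by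
      rw [mul_comm (Nat.card B)]; exact k1.trans hSD
    exact Nat.le_of_mul_le_mul_right this hApos

end Cfsg.Agent.S3163
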