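import Cfsg.Statements.S3166
import Mathlib.Tactic
import Mathlib.FieldTheory.Finite.Basic
import Mathlib.Data.Nat.Totient

set_option autoImplicit false
open Cfsg

namespace Cfsg.Agent.S3166

-- Step 4: no solutions with m = 3
theorem step4 (q t : ℕ) (hq : 2 ≤ q) (ht : 1 ≤ t)
    (h : (1 + q * t) ^ 3 + q ^ 3 + q = q ^ 4 + q ^ 2 + 1) : False := by
  have hq0 : 0 < q := by omega
  have e : (1 + q * t) ^ 3 = 1 + 3 * (q * t) + 3 * (q ^ 2 * t ^ 2) + q ^ 3 * t ^ 3 := by ring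
  -- t^3 < q
  have h1 : t ^ 3 < q := by
    by_contra hc
    push Not at hc
    have a1 : q ^ 3 * q ≤ q ^ 3 * t ^ 3 := Nat.mul_le_mul_left _ hc
    have a2 : q ^ 4 = q ^ 3 * q := by ring
    have a3 : q ^ 2 * 1 ≤ q ^ 2 * t ^ 2 := Nat.mul_le_mul_left _ (Nat.one_le_pow _ _ ht)
    have a4 : 1 ≤ q ^ 2 := Nat.one_le_pow _ _ hq0
    omega
  -- q ∣ 3 t + 1
  have h2 : q ∣ 3 * t + 1 := by
    have hz : ((3 * t + 1 : ℕ) : ℤ) = (q : ℤ) * ((q : ℤ) ^ 2 + 1 - 3 * (t : ℤ) ^ 2 - q * (t : ℤ) ^ 3 - q) := by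
      have hq' : (q : ℤ) ≠ 0 := by exact_mod_cast hq0.ne'
      have hh : (((1 + q * t) ^ 3 + q ^ 3 + q : ℕ) : ℤ) = ((q ^ 4 + q ^ 2 + 1 : ℕ) : ℤ) := by
        exact_mod_cast congrArg (Nat.cast (R := ℤ)) h
      push_cast at hh ⊢
      apply mul_left_cancel₀ hq'
      linear_combination hh
    have : (q : ℤ) ∣ ((3 * t + 1 : ℕ) : ℤ) := ⟨_, hz⟩
    exact_mod_cast this
  have h3 : q ≤ 3 * t + 1 := Nat.le_of_dvd (by omega) h2
  have h4 : t = 1 := by
    by_contra hne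
    have ht2 : 2 ≤ t := by omega
    have b1 : 2 * 2 ≤ t * t := Nat.mul_le_mul ht2 ht2
    have b2 : t ^ 3 = t * (t * t) := by ring
    have b3 : t * (2 * 2) ≤ t * (t * t) := Nat.mul_le_mul_left _ b1
    omega
  subst h4
  have h5 : q ≤ 4 := h3
  interval_cases q <;> omega

-- Step 1: N is not a square
theorem step1 (q s : ℕ) (hq : 2 ≤ q) (h : s ^ 2 + q ^ 3 + q = q ^ 4 + q ^ 2 + 1) : False := by
  -- a = 2q^2 - q ; a < 2s < a+1
  have hz : ((s : ℤ)) ^ 2 + (q : ℤ) ^ 3 + q = (q : ℤ) ^ 4 + (q : ℤ) ^ 2 + 1 := by exact_mod_cast h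
  have hq' : (2 : ℤ) ≤ q := by exact_mod_cast hq
  have hs : (0 : ℤ) ≤ s := by positivity
  have h1 : (2 * (q : ℤ) ^ 2 - q) < 2 * s := by
    by_contra hc
    push Not at hc
    have : (2 * (s : ℤ)) ^ 2 ≤ (2 * (q : ℤ) ^ 2 - q) ^ 2 := by
      apply pow_le_pow_left₀ (by positivity) hc
    nlinarith
  have h2 : 2 * (s : ℤ) < (2 * (q : ℤ) ^ 2 - q) + 1 := by
    by_contra hc
    push Not at hc
    have h0 : (0 : ℤ) ≤ (2 * (q : ℤ) ^ 2 - q) + 1 := by nlinarith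
    have : ((2 * (q : ℤ) ^ 2 - q) + 1) ^ 2 ≤ (2 * (s : ℤ)) ^ 2 := by
      apply pow_le_pow_left₀ h0 hc
    nlinarith
  omega

-- Step 3
theorem step3 (q p m : ℕ) (hq : 2 ≤ q) (hp : q + 1 ≤ p) (hm : 4 ≤ m)
    (h : p ^ m + q ^ 3 + q = q ^ 4 + q ^ 2 + 1) : False := by
  have h1 : (q + 1) ^ 4 ≤ p ^ m :=
    calc (q + 1) ^ 4 ≤ p ^ 4 := Nat.pow_le_pow_left hp 4
      _ ≤ p ^ m := Nat.pow_le_pow_right (by omega) hm
  have e : (q + 1) ^ 4 = q ^ 4 + 4 * q ^ 3 + 6 * q ^ 2 + 4 * q + 1 := by ring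
  omega

-- Step 2: q ∣ p - 1 when m odd
theorem step2 (n p m : ℕ) (hn : 1 ≤ n) (hp : p.Prime) (hm : Odd m)
    (h : p ^ m + (2 ^ n) ^ 3 + 2 ^ n = (2 ^ n) ^ 4 + (2 ^ n) ^ 2 + 1) : 2 ^ n ∣ p - 1 := by
  have hp2 : p ≠ 2 := by
    rintro rfl
    obtain ⟨k, rfl⟩ := hm
    have e1 : Even (2 ^ (2 * k + 1) + (2 ^ n) ^ 3 + 2 ^ n) := by
      have : Even (2 ^ n) := (Nat.even_pow' (by omega)).mpr even_two
      have h3 : Even ((2 ^ n) ^ 3) := (Nat.even_pow' (by omega)).mpr this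
      have h4 : Even (2 ^ (2 * k + 1)) := (Nat.even_pow' (by omega)).mpr even_two
      exact (h4.add h3).add this
    rw [h] at e1
    have : Even (2 ^ n) := (Nat.even_pow' (by omega)).mpr even_two
    have h3 : Even ((2 ^ n) ^ 4) := (Nat.even_pow' (by omega)).mpr this
    have h4 : Even ((2 ^ n) ^ 2) := (Nat.even_pow' (by omega)).mpr this
    have := (Nat.even_add_one.mp e1)
    exact this (h3.add h4)
  have hcop : Nat.Coprime p (2 ^ n) :=
    Nat.Coprime.pow_right n ((Nat.coprime_primes hp Nat.prime_two).mpr hp2)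
  set q := 2 ^ n with hq
  have hcast : ((p : ZMod q)) ^ m = 1 := by
    have := congrArg (Nat.cast (R := ZMod q)) h
    push_cast at this
    simpa using this
  let u : (ZMod q)ˣ := ZMod.unitOfCoprime p hcop
  have hu1 : u ^ m = 1 := by
    apply Units.ext
    simp [u, hcast]
  have hu2 : u ^ (Nat.totient q) = 1 := ZMod.pow_totient u
  have hgcd : Nat.gcd m (Nat.totient q) = 1 := by
    rw [hq, Nat.totient_prime_pow Nat.prime_two (by omega)]
    simp only [Nat.add_one_sub_one, mul_one]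
    exact Nat.Coprime.pow_right _ (Nat.coprime_two_right.mpr hm)
  have hu3 : u ^ Nat.gcd m (Nat.totient q) = 1 := pow_gcd_eq_one.mpr ⟨hu1, hu2⟩
  rw [hgcd, pow_one] at hu3
  have hp1 : (p : ZMod q) = 1 := by
    have := congrArg Units.val hu3
    simpa [u] using this
  have : ((p - 1 : ℕ) : ZMod q) = 0 := by
    rw [Nat.cast_sub hp.one_le, hp1]; simp
  exact (ZMod.natCast_eq_zero_iff _ _).mp this


/-- Let q = 2^n with n ≥ 1. If q⁴ − q³ + q² − q + 1 is a power p^m of a prime p, then m = 1: the value is never a prime power with exponent greater than 1. -/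
theorem result (n p m : ℕ) (hn : 1 ≤ n) (hp : p.Prime) (h : (2 ^ n) ^ 4 - (2 ^ n) ^ 3 + (2 ^ n) ^ 2 - 2 ^ n + 1 = p ^ m) : m = 1 := by
  set q := 2 ^ n with hq
  have hq2 : 2 ≤ q := by
    calc 2 = 2 ^ 1 := by norm_num
      _ ≤ 2 ^ n := Nat.pow_le_pow_right (by norm_num) hn
  have hq0 : 0 < q := by omega
  -- rewrite without truncated subtraction
  have h' : p ^ m + q ^ 3 + q = q ^ 4 + q ^ 2 + 1 := by
    have a1 : q ^ 3 ≤ q ^ 4 := Nat.pow_le_pow_right hq0 (by norm_num)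
    have a2 : q ≤ q ^ 2 := by
      calc q = q ^ 1 := (pow_one q).symm
        _ ≤ q ^ 2 := Nat.pow_le_pow_right hq0 (by norm_num)
    omega
  -- m is odd
  have hodd : Odd m := by
    rcases Nat.even_or_odd m with he | ho
    · exfalso
      obtain ⟨k, rfl⟩ := he
      apply step1 q (p ^ k) hq2
      rw [← h']
      ring
    · exact ho
  have hdvd : q ∣ p - 1 := step2 n p m hn hp hodd h'
  have hp1 : 1 ≤ p - 1 := by have := hp.two_le; omega
  have hqp : q + 1 ≤ p := by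
    have := Nat.le_of_dvd (by omega) hdvd
    omega
  have hm4 : m < 4 := by
    by_contra hc
    push Not at hc
    exact step3 q p m hq2 hqp hc h'
  obtain ⟨k, hk⟩ := hodd
  have hk' : k = 0 ∨ k = 1 := by omega
  rcases hk' with rfl | rfl
  · simpa using hk
  · exfalso
    have hm3 : m = 3 := by omega
    subst hm3
    obtain ⟨t, ht⟩ := hdvd
    have ht1 : 1 ≤ t := by
      rcases Nat.eq_zero_or_pos t with rfl | h0
      · omega
      · exact h0
    have hpe : p = 1 + q * t := by omega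
    rw [hpe] at h'
    exact step4 q t hq2 ht1 h'

end Cfsg.Agent.S3166
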