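import Cfsg.Statements.S3174
import Cfsg.Agent.Lib.Helper19.RU.PartI
import Cfsg.Agent.Lib.Helper19.RU.G2
import Cfsg.Agent.Lib.Helper19.RU.G3
import Cfsg.Agent.Lib.Helper19.RU.G4

set_option autoImplicit false
open Cfsg

namespace Cfsg.Agent.S3174

/-- Let T be a finite 2-group of order at least 2^14 in which the fourth term of the upper central series has order 16. Let W be the centralizer in T of the third term Z₃(T), and suppose the Frattini subgroup of W has order at most 8 and lies in every subgroup of W of index at most 16. Then T has order exactly 2^14; the derived subgroup of W and the Frattini subgroup of W both equal Z₃(T), which is elementary abelian of order 8; the centre of W has order 8; W is normal in T with quotient dihedral of order 8; and W modulo its derived subgroup is elementary abelian of order 2^8. -/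
theorem result {T : Type*} [Group T] [Finite T]
    (hT : IsPGroup 2 T) (ha : 2 ^ 14 ≤ Nat.card T) (hb : Nat.card ↥(Subgroup.upperCentralSeries T 4) = 16)
    (W : Subgroup T) (hW : W = Subgroup.centralizer ((Subgroup.upperCentralSeries T 3 : Subgroup T) : Set T))
    (hc : Nat.card ↥(frattini ↥W) ≤ 8) (hd : ∀ U : Subgroup ↥W, U.index ≤ 16 → frattini ↥W ≤ U) :
    Nat.card T = 2 ^ 14 ∧
      (commutator ↥W).map W.subtype = Subgroup.upperCentralSeries T 3 ∧
      (frattini ↥W).map W.subtype = Subgroup.upperCentralSeries T 3 ∧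
      Nat.card ↥(Subgroup.center ↥W) = 8 ∧
      Nat.card ↥(Subgroup.upperCentralSeries T 3) = 8 ∧ (∀ z ∈ Subgroup.upperCentralSeries T 3, z ^ 2 = 1) ∧
      (∃ (_ : W.Normal), Nonempty (T ⧸ W ≃* DihedralGroup 4)) ∧
      Nat.card (↥W ⧸ commutator ↥W) = 2 ^ 8 ∧ (∀ x : ↥W ⧸ commutator ↥W, x ^ 2 = 1) := by
  obtain ⟨hWn, hcard, hPhi, hcen, hTc, hidx, hrel, hZ4⟩ :=
    Cfsg.Agent.Lib.Helper19.RU.partI hT ha hb W hW hc
  have hWp : IsPGroup 2 ↥W := hT.to_subgroup W
  have hFC : frattini ↥W = commutator ↥W :=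
    Cfsg.Agent.Lib.Helper19.RU.frattini_eq_commutator hWp hcen hc hd
  have hsq := Cfsg.Agent.Lib.Helper19.RU.commutator_sq hWp hcen
  have hIV := Cfsg.Agent.Lib.Helper19.RU.center_le hT ha hb W hW hc hd
  have h3 : Nat.card ↥(Subgroup.upperCentralSeries T 3) = 8 := by
    simpa using hcard 3 (by norm_num)
  have hcenter : Subgroup.center ↥W = frattini ↥W := by
    refine le_antisymm ?_ hcen
    intro c hc'
    have hcT : (c : T) ∈ Subgroup.upperCentralSeries T 3 := by
      refine hIV c c.2 ?_
      intro w hw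
      have := (Subgroup.mem_center_iff.mp hc') ⟨w, hw⟩
      have h2 := congrArg Subtype.val this
      simpa using h2.symm
    rw [← hPhi] at hcT
    obtain ⟨_, hk⟩ := (Cfsg.Agent.Lib.Helper19.RU.mem_map_subtype_iff W _ _).mp hcT
    exact hk
  have hFcard : Nat.card ↥(frattini ↥W) = 8 := by
    rw [← Cfsg.Agent.Lib.Helper19.RU.card_map_subtype W, hPhi, h3]
  have hFidx : (frattini ↥W).index = 2 ^ 8 := by
    rw [← hrel, ← hPhi, Subgroup.relIndex]
    congr 1
    ext x
    rw [Subgroup.mem_subgroupOf, Cfsg.Agent.Lib.Helper19.RU.mem_map_subtype_iff]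
    constructor
    · intro h; exact ⟨x.2, h⟩
    · rintro ⟨_, h⟩; exact h
  have hexp : ∀ z ∈ Subgroup.upperCentralSeries T 3, z ^ 2 = 1 := by
    intro z hz
    rw [← hPhi, hFC] at hz
    obtain ⟨hzW, hk⟩ := (Cfsg.Agent.Lib.Helper19.RU.mem_map_subtype_iff W _ _).mp hz
    have := hsq ⟨z, hzW⟩ hk
    have h2 := congrArg Subtype.val this
    simpa using h2
  refine ⟨hTc, ?_, hPhi, ?_, h3, hexp, ?_, ?_, ?_⟩
  · rw [← hFC, hPhi]
  · rw [hcenter, hFcard]
  · exact Cfsg.Agent.Lib.Helper19.RU.quot_dihedral hcard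
      (fun c hc' => by rw [← pow_two]; exact hexp c hc') W hW hidx
  · rw [← Subgroup.index_eq_card, ← hFC, hFidx]
  · intro x
    induction x using QuotientGroup.induction_on with
    | H w =>
      haveI : Fact (Nat.Prime 2) := ⟨Nat.prime_two⟩
      have hw2 : w ^ 2 ∈ commutator ↥W := by
        rw [← hFC]
        exact Cfsg.Agent.Lib.Helper1.IsPGroup.pow_mem_frattini hWp w
      rw [← QuotientGroup.mk_pow]
      exact (QuotientGroup.eq_one_iff _).mpr hw2

end Cfsg.Agent.S3174
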