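import Cfsg.Statements.S3178
import Cfsg.Agent.Lib.Helper13.Frobenius
import Cfsg.Agent.Lib.Helper13.OmegaSmall
import Cfsg.Agent.Lib.Helper13.RelSylow
import Cfsg.Agent.Lib.Helper13.Sylow

set_option autoImplicit false
open Cfsg

namespace Cfsg.Agent.S3178

open Subgroup

variable {G : Type*} [Group G]

/-- If `g` (of odd order) conjugates `x` to `x * r` where `r` is a `2`-element commuting
with `g`, then `r = 1`. -/
theorem eq_one_of_conj_eq_mul (g x r : G) (k : ℕ) (hg : Nat.Coprime (orderOf g) 2)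
    (hr : r ^ (2 ^ k) = 1) (hx : g * x * g⁻¹ = x * r) (hgr : g * r = r * g) : r = 1 := by
  have hpow : ∀ j : ℕ, g ^ j * x * (g ^ j)⁻¹ = x * r ^ j := by
    intro j
    induction j with
    | zero => simp
    | succ j ih =>
      have hrj : g * r ^ j = r ^ j * g := by
        have : Commute g r := hgr
        exact (this.pow_right j).eq
      calc g ^ (j + 1) * x * (g ^ (j + 1))⁻¹
          = g * (g ^ j * x * (g ^ j)⁻¹) * g⁻¹ := by rw [pow_succ']; group
        _ = g * (x * r ^ j) * g⁻¹ := by rw [ih]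
        _ = (g * x * g⁻¹) * (g * r ^ j) * g⁻¹ := by group
        _ = (x * r) * (r ^ j * g) * g⁻¹ := by rw [hx, hrj]
        _ = x * r ^ (j + 1) := by rw [pow_succ']; group
  have h1 := hpow (orderOf g)
  rw [pow_orderOf_eq_one, one_mul, inv_one, mul_one] at h1
  have h2 : r ^ orderOf g = 1 := by
    exact mul_left_cancel (h1.symm.trans (mul_one x).symm)
  have h3 : orderOf r ∣ orderOf g := orderOf_dvd_of_pow_eq_one h2
  have h4 : orderOf r ∣ 2 ^ k := orderOf_dvd_of_pow_eq_one hr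
  have h5 : orderOf r ∣ 1 := by
    have hc : Nat.Coprime (orderOf g) (2 ^ k) := Nat.Coprime.pow_right k hg
    rw [← Nat.Coprime.gcd_eq_one hc]
    exact Nat.dvd_gcd h3 h4
  exact orderOf_eq_one_iff.mp (Nat.dvd_one.mp h5)

/-- The hypotheses on the modular `2`-group `S`, with `n = k + 3`. -/
structure Mod (S : Subgroup G) (k : ℕ) (a b : G) : Prop where
  card : Nat.card S = 2 ^ (k + 4)
  ha : a ∈ S
  hb : b ∈ S
  hao : orderOf a = 2 ^ (k + 3)
  hbo : orderOf b = 2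
  hrel : b * a * b⁻¹ = a ^ (2 ^ (k + 2) + 1)

namespace Mod

variable {S : Subgroup G} {k : ℕ} {a b : G}

theorem pow_eq_one_iff (h : Mod S k a b) (i : ℕ) : a ^ i = 1 ↔ 2 ^ (k + 3) ∣ i := by
  rw [← h.hao]; exact (orderOf_dvd_iff_pow_eq_one).symm

theorem b_mul_b (h : Mod S k a b) : b * b = 1 := by
  rw [← sq, ← h.hbo]; exact pow_orderOf_eq_one b

theorem b_inv (h : Mod S k a b) : b⁻¹ = b := inv_eq_of_mul_eq_one_right h.b_mul_b

theorem b_ne_one (h : Mod S k a b) : b ≠ 1 := by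
  intro hb
  have := h.hbo
  rw [hb, orderOf_one] at this
  omega

/-- the central involution -/
def z (_h : Mod S k a b) : G := a ^ (2 ^ (k + 2))

theorem z_def (h : Mod S k a b) : h.z = a ^ (2 ^ (k + 2)) := rfl

theorem z_mul_z (h : Mod S k a b) : h.z * h.z = 1 := by
  rw [z_def, ← pow_add, h.pow_eq_one_iff]
  exact ⟨1, by ring⟩

theorem z_ne_one (h : Mod S k a b) : h.z ≠ 1 := by
  rw [z_def, Ne, h.pow_eq_one_iff]
  intro hd
  have := Nat.le_of_dvd (by positivity) hd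
  have h2 : 2 ^ (k + 2) < 2 ^ (k + 3) := Nat.pow_lt_pow_right (by norm_num) (by omega)
  omega

theorem z_pow (h : Mod S k a b) (i : ℕ) : h.z ^ i = 1 ∨ h.z ^ i = h.z := by
  rcases Nat.even_or_odd' i with ⟨j, rfl | rfl⟩
  · left
    rw [pow_mul, sq, h.z_mul_z, one_pow]
  · right
    rw [pow_succ, pow_mul, sq, h.z_mul_z, one_pow, one_mul]

theorem z_pow_eq_one_iff (h : Mod S k a b) (i : ℕ) : h.z ^ i = 1 ↔ 2 ∣ i := by
  rcases Nat.even_or_odd' i with ⟨j, rfl | rfl⟩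
  · simp only [dvd_mul_right, iff_true]
    rw [pow_mul, sq, h.z_mul_z, one_pow]
  · have : h.z ^ (2 * j + 1) = h.z := by
      rw [pow_succ, pow_mul, sq, h.z_mul_z, one_pow, one_mul]
    rw [this]
    constructor
    · intro h1; exact absurd h1 h.z_ne_one
    · intro h1; omega

theorem z_mem (h : Mod S k a b) : h.z ∈ S := S.pow_mem h.ha _

theorem a_pow_mul_z (h : Mod S k a b) (i : ℕ) : a ^ (i * 2 ^ (k + 2)) = h.z ^ i := by
  rw [z_def, ← pow_mul, mul_comm]

/-- conjugation by `b` on powers of `a` -/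
theorem conj_pow (h : Mod S k a b) (i : ℕ) : b * a ^ i * b⁻¹ = a ^ i * h.z ^ i := by
  have h1 : b * a ^ i * b⁻¹ = (b * a * b⁻¹) ^ i := by rw [_root_.conj_pow]
  rw [h1, h.hrel, ← pow_mul, ← h.a_pow_mul_z, ← pow_add]
  congr 1; ring

theorem b_mul_pow (h : Mod S k a b) (i : ℕ) : b * a ^ i = a ^ i * h.z ^ i * b := by
  rw [← h.conj_pow]; group

theorem z_comm_a (h : Mod S k a b) : Commute h.z a := by
  rw [z_def]; exact (Commute.refl a).pow_left _

theorem z_comm_b (h : Mod S k a b) : Commute h.z b := by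
  have h1 : b * h.z * b⁻¹ = h.z := by
    rw [z_def, h.conj_pow]
    have : h.z ^ (2 ^ (k + 2)) = 1 := by
      rw [h.z_pow_eq_one_iff]
      exact ⟨2 ^ (k + 1), by ring⟩
    rw [this, mul_one]
  have h2 : b * h.z = h.z * b := by
    calc b * h.z = (b * h.z * b⁻¹) * b := by group
      _ = h.z * b := by rw [h1]
  exact h2.symm

theorem b_notMem (h : Mod S k a b) : b ∉ Subgroup.zpowers a := by
  intro hb
  obtain ⟨i, hi⟩ := Subgroup.mem_zpowers_iff.mp hb
  have hc : b * a = a * b := by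
    rw [← hi]
    exact ((Commute.refl a).zpow_left i).eq
  have h1 : b * a * b⁻¹ = a := by rw [hc]; group
  rw [h.hrel, pow_succ] at h1
  have h2 : a ^ (2 ^ (k + 2)) = 1 := by
    have := mul_right_cancel (h1.trans (one_mul a).symm)
    exact this
  exact h.z_ne_one h2

/-- normal form of the elements of `S` -/
theorem cases [Finite G] (h : Mod S k a b) {s : G} (hs : s ∈ S) :
    ∃ i : ℕ, s = a ^ i ∨ s = a ^ i * b := by
  have hAS : Subgroup.zpowers a ≤ S := Subgroup.zpowers_le.mpr h.ha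
  have hidx : ((Subgroup.zpowers a).subgroupOf S).index = 2 := by
    have h1 := Subgroup.index_mul_card ((Subgroup.zpowers a).subgroupOf S)
    rw [Nat.card_congr (Subgroup.subgroupOfEquivOfLe hAS).toEquiv, Nat.card_zpowers, h.hao,
      h.card] at h1
    have h2 : (2 : ℕ) ^ (k + 4) = 2 * 2 ^ (k + 3) := by ring
    rw [h2] at h1
    exact Nat.eq_of_mul_eq_mul_right (by positivity) h1
  have key := Subgroup.mul_mem_iff_of_index_two hidx (a := (⟨s, hs⟩ : ↥S)) (b := ⟨b, h.hb⟩)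
  rw [Subgroup.mem_subgroupOf, Subgroup.mem_subgroupOf, Subgroup.mem_subgroupOf] at key
  have hpow : ∀ t ∈ Subgroup.zpowers a, ∃ i : ℕ, t = a ^ i := by
    intro t ht
    rw [← mem_powers_iff_mem_zpowers, Submonoid.mem_powers_iff] at ht
    obtain ⟨i, hi⟩ := ht
    exact ⟨i, hi.symm⟩
  by_cases hsA : s ∈ Subgroup.zpowers a
  · obtain ⟨i, hi⟩ := hpow s hsA
    exact ⟨i, Or.inl hi⟩
  · have h1 : s * b ∈ Subgroup.zpowers a := by
      have : ((⟨s, hs⟩ : ↥S) * ⟨b, h.hb⟩ : ↥S).1 ∈ Subgroup.zpowers a := by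
        rw [key]
        constructor
        · intro h'; exact absurd h' hsA
        · intro h'; exact absurd h' h.b_notMem
      exact this
    obtain ⟨i, hi⟩ := hpow _ h1
    refine ⟨i, Or.inr ?_⟩
    rw [← hi, mul_assoc, h.b_mul_b, mul_one]

theorem pow_dvd_of_dvd_mul_odd (e i c : ℕ) (h : 2 ^ e ∣ i * (2 * c + 1)) : 2 ^ e ∣ i :=
  Nat.Coprime.dvd_of_dvd_mul_right
    (Nat.Coprime.pow_left e (Nat.coprime_two_left.mpr ⟨c, rfl⟩)) h

/-- the square of an element outside `⟨a⟩` -/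
theorem sq_ab (h : Mod S k a b) (i : ℕ) :
    (a ^ i * b) * (a ^ i * b) = a ^ (2 * (i * (2 * 2 ^ k + 1))) := by
  have h1 : (a ^ i * b) * (a ^ i * b) = a ^ i * (b * a ^ i) * b := by group
  rw [h1, h.b_mul_pow, ← h.a_pow_mul_z]
  have h2 : a ^ i * (a ^ i * a ^ (i * 2 ^ (k + 2)) * b) * b
      = a ^ i * a ^ i * a ^ (i * 2 ^ (k + 2)) * (b * b) := by group
  rw [h2, h.b_mul_b, mul_one, ← pow_add, ← pow_add]
  congr 1; ring

theorem z_comm [Finite G] (h : Mod S k a b) {s : G} (hs : s ∈ S) : Commute h.z s := by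
  obtain ⟨i, rfl | rfl⟩ := h.cases hs
  · exact h.z_comm_a.pow_right i
  · exact (h.z_comm_a.pow_right i).mul_right h.z_comm_b

theorem a_pow_of_dvd (h : Mod S k a b) {i : ℕ} (hi : 2 ^ (k + 2) ∣ i) :
    a ^ i = 1 ∨ a ^ i = h.z := by
  obtain ⟨j, rfl⟩ := hi
  rw [mul_comm, h.a_pow_mul_z]
  exact h.z_pow j

/-- the involutions of `S` -/
theorem involution [Finite G] (h : Mod S k a b) {s : G} (hs : s ∈ S) (hs2 : s * s = 1) :
    s = 1 ∨ s = h.z ∨ s = b ∨ s = h.z * b := by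
  obtain ⟨i, rfl | rfl⟩ := h.cases hs
  · rw [← pow_add, h.pow_eq_one_iff] at hs2
    have h1 : 2 ^ (k + 2) ∣ i := by
      have h2 : (2 : ℕ) ^ (k + 3) = 2 * 2 ^ (k + 2) := by ring
      rw [h2, ← two_mul] at hs2
      exact (Nat.mul_dvd_mul_iff_left (by norm_num)).mp hs2
    rcases h.a_pow_of_dvd h1 with h3 | h3
    · exact Or.inl h3
    · exact Or.inr (Or.inl h3)
  · rw [h.sq_ab, h.pow_eq_one_iff] at hs2
    have h1 : 2 ^ (k + 2) ∣ i := by
      have h2 : (2 : ℕ) ^ (k + 3) = 2 * 2 ^ (k + 2) := by ring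
      rw [h2] at hs2
      exact pow_dvd_of_dvd_mul_odd _ _ _ ((Nat.mul_dvd_mul_iff_left (by norm_num)).mp hs2)
    rcases h.a_pow_of_dvd h1 with h3 | h3
    · right; right; left; rw [h3, one_mul]
    · right; right; right; rw [h3]

/-- squares in `S` are even powers of `a` -/
theorem sq_eq [Finite G] (h : Mod S k a b) {s : G} (hs : s ∈ S) :
    ∃ j : ℕ, s * s = a ^ (2 * j) := by
  obtain ⟨i, rfl | rfl⟩ := h.cases hs
  · exact ⟨i, by rw [← pow_add, two_mul]⟩
  · exact ⟨_, h.sq_ab i⟩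

theorem pow_half [Finite G] (h : Mod S k a b) {s : G} (hs : s ∈ S)
    (hs2 : s ^ (2 ^ (k + 2)) = 1) : s ^ (2 ^ (k + 1)) = 1 ∨ s ^ (2 ^ (k + 1)) = h.z := by
  obtain ⟨j, hj⟩ := h.sq_eq hs
  have h1 : s ^ (2 ^ (k + 2)) = h.z ^ j := by
    have : (2 : ℕ) ^ (k + 2) = 2 * 2 ^ (k + 1) := by ring
    rw [this, pow_mul, sq, hj, ← pow_mul, ← h.a_pow_mul_z]
    congr 1; ring
  rw [h1, h.z_pow_eq_one_iff] at hs2
  obtain ⟨l, rfl⟩ := hs2
  have h2 : s ^ (2 ^ (k + 1)) = h.z ^ l := by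
    have : (2 : ℕ) ^ (k + 1) = 2 * 2 ^ k := by ring
    rw [this, pow_mul, sq, hj, ← pow_mul, ← h.a_pow_mul_z]
    congr 1; ring
  rw [h2]
  exact h.z_pow l

/-- elements of order dividing `4` lie in `⟨a², b⟩` -/
theorem cases_of_pow_four [Finite G] (h : Mod S k a b) {s : G} (hs : s ∈ S) (hs4 : s ^ 4 = 1) :
    ∃ j : ℕ, s = a ^ (2 * j) ∨ s = a ^ (2 * j) * b := by
  have h8 : (2 : ℕ) ^ (k + 3) = 4 * 2 ^ (k + 1) := by ring
  obtain ⟨i, rfl | rfl⟩ := h.cases hs
  · rw [← pow_mul, h.pow_eq_one_iff, h8, mul_comm i 4] at hs4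
    have h1 : 2 ^ (k + 1) ∣ i := (Nat.mul_dvd_mul_iff_left (by norm_num)).mp hs4
    obtain ⟨j, rfl⟩ := (dvd_trans (dvd_pow_self 2 (by omega)) h1 : 2 ∣ i)
    exact ⟨j, Or.inl rfl⟩
  · have h4 : (a ^ i * b) ^ 4 = ((a ^ i * b) * (a ^ i * b)) ^ 2 := by
      rw [← sq, ← pow_mul]
    rw [h4, h.sq_ab, ← pow_mul, h.pow_eq_one_iff, h8] at hs4
    have h5 : 2 * (i * (2 * 2 ^ k + 1)) * 2 = 4 * (i * (2 * 2 ^ k + 1)) := by ring
    rw [h5] at hs4
    have h1 : 2 ^ (k + 1) ∣ i :=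
      pow_dvd_of_dvd_mul_odd _ _ _ ((Nat.mul_dvd_mul_iff_left (by norm_num)).mp hs4)
    obtain ⟨j, rfl⟩ := (dvd_trans (dvd_pow_self 2 (by omega)) h1 : 2 ∣ i)
    exact ⟨j, Or.inr rfl⟩

theorem even_pow_comm_b (h : Mod S k a b) (j : ℕ) : Commute (a ^ (2 * j)) b := by
  have h1 := h.b_mul_pow (2 * j)
  have h2 : h.z ^ (2 * j) = 1 := by rw [h.z_pow_eq_one_iff]; exact dvd_mul_right 2 j
  rw [h2, mul_one] at h1
  exact h1.symm

theorem comm_of_pow_four [Finite G] (h : Mod S k a b) {s t : G} (hs : s ∈ S) (ht : t ∈ S)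
    (hs4 : s ^ 4 = 1) (ht4 : t ^ 4 = 1) : s * t = t * s := by
  obtain ⟨j, hj⟩ := h.cases_of_pow_four hs hs4
  obtain ⟨l, hl⟩ := h.cases_of_pow_four ht ht4
  have c1 : Commute (a ^ (2 * j)) (a ^ (2 * l)) := (Commute.refl a).pow_pow _ _
  have c2 := h.even_pow_comm_b j
  have c3 := h.even_pow_comm_b l
  have c4 : Commute b b := Commute.refl b
  rcases hj with rfl | rfl <;> rcases hl with rfl | rfl
  · exact c1.eq
  · exact (c1.mul_right c2).eq
  · exact (c1.mul_left c3.symm).eq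
  · exact ((c1.mul_right c2).mul_left (c3.symm.mul_right c4)).eq

theorem zb_ne_one (h : Mod S k a b) : h.z * b ≠ 1 := by
  intro h1
  have h2 : b = h.z := by
    have : b = h.z⁻¹ := eq_inv_of_mul_eq_one_right h1
    exact this.trans (inv_eq_of_mul_eq_one_right h.z_mul_z)
  apply h.b_notMem
  rw [h2, z_def]
  exact Subgroup.npow_mem_zpowers a _

/-- `z * b` is another involution inducing the same automorphism of `⟨a⟩` -/
theorem swap (h : Mod S k a b) : Mod S k a (h.z * b) where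
  card := h.card
  ha := h.ha
  hb := S.mul_mem h.z_mem h.hb
  hao := h.hao
  hbo := by
    apply orderOf_eq_prime
    · rw [sq]
      calc h.z * b * (h.z * b) = h.z * (b * h.z) * b := by group
        _ = h.z * (h.z * b) * b := by rw [h.z_comm_b.eq]
        _ = (h.z * h.z) * (b * b) := by group
        _ = 1 := by rw [h.z_mul_z, h.b_mul_b, one_mul]
    · exact h.zb_ne_one
  hrel := by
    have hc : Commute h.z (a ^ (2 ^ (k + 2) + 1)) := h.z_comm_a.pow_right _
    calc h.z * b * a * (h.z * b)⁻¹ = h.z * (b * a * b⁻¹) * h.z⁻¹ := by group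
      _ = h.z * a ^ (2 ^ (k + 2) + 1) * h.z⁻¹ := by rw [h.hrel]
      _ = a ^ (2 ^ (k + 2) + 1) * h.z * h.z⁻¹ := by rw [hc.eq]
      _ = a ^ (2 ^ (k + 2) + 1) := by group

theorem swap_z (h : Mod S k a b) : h.swap.z = h.z := rfl

end Mod

open Cfsg.Agent.Lib.Helper13 in
/-- The central involution `z` is not fused to `b`. -/
theorem not_conj_z_b [Finite G] (P : Sylow 2 G) {k : ℕ} {a b : G}
    (h : Mod (P : Subgroup G) k a b) (g : G) : g * h.z * g⁻¹ ≠ b := by
  intro hg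
  haveI : Fact (Nat.Prime 2) := ⟨Nat.prime_two⟩
  set H := Subgroup.centralizer ({b} : Set G) with hH
  have hPH : ((g • P : Sylow 2 G) : Subgroup G) ≤ H := by
    intro y hy
    rw [mem_smul_sylow_iff] at hy
    rw [hH, Subgroup.mem_centralizer_singleton_iff]
    have hc := (h.z_comm hy).eq
    rw [← hg]
    calc y * (g * h.z * g⁻¹) = g * ((g⁻¹ * y * g) * h.z) * g⁻¹ := by group
      _ = g * (h.z * (g⁻¹ * y * g)) * g⁻¹ := by rw [hc]
      _ = g * h.z * g⁻¹ * y := by group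
  have hidx := sylow_not_dvd_relIndex (g • P) H hPH
  have hQH : Subgroup.zpowers (a ^ 2) ≤ H := by
    rw [Subgroup.zpowers_le, hH, Subgroup.mem_centralizer_singleton_iff]
    have := (h.even_pow_comm_b 1).eq
    rw [mul_one] at this
    exact this
  have hQ : IsPGroup 2 (Subgroup.zpowers (a ^ 2)) :=
    P.isPGroup'.to_le (Subgroup.zpowers_le.mpr (Subgroup.pow_mem _ h.ha 2))
  obtain ⟨c, hcH, hc⟩ := exists_conj_le_of_relIndex H ((g • P : Sylow 2 G) : Subgroup G)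
    (Subgroup.zpowers (a ^ 2)) (g • P).isPGroup' hidx hQH hQ
  have h1 : c * a ^ 2 * c⁻¹ ∈ ((g • P : Sylow 2 G) : Subgroup G) :=
    hc _ (Subgroup.mem_zpowers _)
  rw [mem_smul_sylow_iff] at h1
  rw [hH, Subgroup.mem_centralizer_singleton_iff] at hcH
  obtain ⟨s, hs⟩ : ∃ s : G, s = g⁻¹ * (c * a ^ 2 * c⁻¹) * g := ⟨_, rfl⟩
  rw [← hs] at h1
  have hsu : s = (g⁻¹ * c) * a ^ 2 * (g⁻¹ * c)⁻¹ := by rw [hs]; group
  have hspow : ∀ e : ℕ, s ^ e = (g⁻¹ * c) * a ^ (2 * e) * (g⁻¹ * c)⁻¹ := by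
    intro e; rw [hsu, conj_pow, ← pow_mul]
  have h2 : s ^ (2 ^ (k + 2)) = 1 := by
    rw [hspow]
    have : a ^ (2 * 2 ^ (k + 2)) = 1 := by
      rw [h.pow_eq_one_iff]; exact ⟨1, by ring⟩
    rw [this]; group
  have hz' : a ^ (2 * 2 ^ (k + 1)) = h.z := by
    rw [Mod.z_def]; congr 1; ring
  rcases h.pow_half h1 h2 with h3 | h3
  · rw [hspow, hz'] at h3
    apply h.z_ne_one
    calc h.z = (g⁻¹ * c)⁻¹ * ((g⁻¹ * c) * h.z * (g⁻¹ * c)⁻¹) * (g⁻¹ * c) := by group
      _ = 1 := by rw [h3]; group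
  · rw [hspow, hz'] at h3
    have h4 : c * h.z * c⁻¹ = b := by
      calc c * h.z * c⁻¹ = g * ((g⁻¹ * c) * h.z * (g⁻¹ * c)⁻¹) * g⁻¹ := by group
        _ = g * h.z * g⁻¹ := by rw [h3]
        _ = b := hg
    have h5 : h.z = b := by
      calc h.z = c⁻¹ * (c * h.z * c⁻¹) * c := by group
        _ = c⁻¹ * b * c := by rw [h4]
        _ = c⁻¹ * (b * c) := by group
        _ = c⁻¹ * (c * b) := by rw [hcH]
        _ = b := by group
    apply h.b_notMem
    rw [← h5, Mod.z_def]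
    exact Subgroup.npow_mem_zpowers a _

/-- An odd-order element normalizing the four-group `{1, z, b, zb}` centralizes it. -/
theorem klein_central [Finite G] (P : Sylow 2 G) {k : ℕ} {a b : G}
    (h : Mod (P : Subgroup G) k a b) (g : G) (hg : Nat.Coprime (orderOf g) 2)
    (hV : ∀ v : G, (v = 1 ∨ v = h.z ∨ v = b ∨ v = h.z * b) →
      (g * v * g⁻¹ = 1 ∨ g * v * g⁻¹ = h.z ∨ g * v * g⁻¹ = b ∨ g * v * g⁻¹ = h.z * b)) :
    g * h.z * g⁻¹ = h.z ∧ g * b * g⁻¹ = b := by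
  have hone : ∀ v : G, g * v * g⁻¹ = 1 → v = 1 := by
    intro v hv
    calc v = g⁻¹ * (g * v * g⁻¹) * g := by group
      _ = 1 := by rw [hv]; group
  have hz : g * h.z * g⁻¹ = h.z := by
    rcases hV h.z (Or.inr (Or.inl rfl)) with h1 | h1 | h1 | h1
    · exact absurd (hone _ h1) h.z_ne_one
    · exact h1
    · exact absurd h1 (not_conj_z_b P h g)
    · exact absurd h1 (not_conj_z_b P h.swap g)
  refine ⟨hz, ?_⟩
  have hgz : g * h.z = h.z * g := by
    calc g * h.z = (g * h.z * g⁻¹) * g := by group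
      _ = h.z * g := by rw [hz]
  rcases hV b (Or.inr (Or.inr (Or.inl rfl))) with h1 | h1 | h1 | h1
  · exact absurd (hone _ h1) h.b_ne_one
  · exfalso
    have h2 : g * b * g⁻¹ = g * h.z * g⁻¹ := h1.trans hz.symm
    have h3 : b = h.z := mul_left_cancel (mul_right_cancel h2)
    apply h.b_notMem
    have h4 : h.z ∈ Subgroup.zpowers a := Subgroup.npow_mem_zpowers a _
    exact h3 ▸ h4
  · exact h1
  · exfalso
    have h2 : g * b * g⁻¹ = b * h.z := h1.trans h.z_comm_b.eq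
    exact h.z_ne_one (eq_one_of_conj_eq_mul g b h.z 1 hg
      (by rw [pow_one, sq]; exact h.z_mul_z) h2 hgz)

open Cfsg.Agent.Lib.Helper13 in
/-- Odd-order elements normalizing a subgroup of the modular Sylow `2`-subgroup
centralize it. -/
theorem local_central [Finite G] (P : Sylow 2 G) {k : ℕ} {a b : G}
    (h : Mod (P : Subgroup G) k a b) (Q : Subgroup G) (hQ : Q ≤ (P : Subgroup G)) (g : G)
    (hgN : g ∈ Subgroup.normalizer (Q : Set G)) (hg : Nat.Coprime (orderOf g) 2) :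
    g ∈ Subgroup.centralizer (Q : Set G) := by
  haveI : Fact (Nat.Prime 2) := ⟨Nat.prime_two⟩
  have hconj : ∀ x ∈ Q, g * x * g⁻¹ ∈ Q := fun x hx =>
    (Subgroup.mem_normalizer_iff.mp hgN x).mp hx
  have hsq : ∀ x : G, (g * x * g⁻¹) * (g * x * g⁻¹) = g * (x * x) * g⁻¹ := by
    intro x; group
  have hone : ∀ v : G, g * v * g⁻¹ = 1 → v = 1 := by
    intro v hv
    calc v = g⁻¹ * (g * v * g⁻¹) * g := by group
      _ = 1 := by rw [hv]; group
  -- Step 1: involutions of `Q` are centralized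
  have step1 : ∀ x ∈ Q, x * x = 1 → g * x * g⁻¹ = x := by
    intro x hx hx2
    by_contra hne
    have hy : g * x * g⁻¹ ∈ Q := hconj x hx
    have hy2 : (g * x * g⁻¹) * (g * x * g⁻¹) = 1 := by
      rw [hsq, hx2]; group
    have hx1 : x ≠ 1 := by
      rintro rfl; apply hne; group
    have hy1 : g * x * g⁻¹ ≠ 1 := fun h1 => hx1 (hone x h1)
    have hzb : h.z ∈ Q ∧ b ∈ Q := by
      rcases h.involution (hQ hx) hx2 with e1 | e1 | e1 | e1 <;>
        rcases h.involution (hQ hy) hy2 with e2 | e2 | e2 | e2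
      · exact absurd e1 hx1
      · exact absurd e1 hx1
      · exact absurd e1 hx1
      · exact absurd e1 hx1
      · exact absurd e2 hy1
      · exact absurd (e2.trans e1.symm) hne
      · exact ⟨e1 ▸ hx, e2 ▸ hy⟩
      · have hz : h.z ∈ Q := e1 ▸ hx
        have hzb : h.z * b ∈ Q := e2 ▸ hy
        refine ⟨hz, ?_⟩
        have : b = h.z⁻¹ * (h.z * b) := by group
        rw [this]; exact Q.mul_mem (Q.inv_mem hz) hzb
      · exact absurd e2 hy1
      · exact ⟨e2 ▸ hy, e1 ▸ hx⟩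
      · exact absurd (e2.trans e1.symm) hne
      · have hb : b ∈ Q := e1 ▸ hx
        have hzb : h.z * b ∈ Q := e2 ▸ hy
        refine ⟨?_, hb⟩
        have : h.z = (h.z * b) * b⁻¹ := by group
        rw [this]; exact Q.mul_mem hzb (Q.inv_mem hb)
      · exact absurd e2 hy1
      · have hz : h.z ∈ Q := e2 ▸ hy
        have hzb : h.z * b ∈ Q := e1 ▸ hx
        refine ⟨hz, ?_⟩
        have : b = h.z⁻¹ * (h.z * b) := by group
        rw [this]; exact Q.mul_mem (Q.inv_mem hz) hzb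
      · have hb : b ∈ Q := e2 ▸ hy
        have hzb : h.z * b ∈ Q := e1 ▸ hx
        refine ⟨?_, hb⟩
        have : h.z = (h.z * b) * b⁻¹ := by group
        rw [this]; exact Q.mul_mem hzb (Q.inv_mem hb)
      · exact absurd (e2.trans e1.symm) hne
    obtain ⟨hzQ, hbQ⟩ := hzb
    have hVQ : ∀ v : G, (v = 1 ∨ v = h.z ∨ v = b ∨ v = h.z * b) → v ∈ Q ∧ v * v = 1 := by
      rintro v (rfl | rfl | rfl | rfl)
      · exact ⟨Q.one_mem, one_mul 1⟩
      · exact ⟨hzQ, h.z_mul_z⟩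
      · exact ⟨hbQ, h.b_mul_b⟩
      · refine ⟨Q.mul_mem hzQ hbQ, ?_⟩
        have := h.swap.b_mul_b
        exact this
    have hV : ∀ v : G, (v = 1 ∨ v = h.z ∨ v = b ∨ v = h.z * b) →
        (g * v * g⁻¹ = 1 ∨ g * v * g⁻¹ = h.z ∨ g * v * g⁻¹ = b ∨ g * v * g⁻¹ = h.z * b) := by
      intro v hv
      obtain ⟨hvQ, hv2⟩ := hVQ v hv
      exact h.involution (hQ (hconj v hvQ)) (by rw [hsq, hv2]; group)
    obtain ⟨hz, hb⟩ := klein_central P h g hg hV
    apply hne
    rcases h.involution (hQ hx) hx2 with e1 | e1 | e1 | e1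
    · exact absurd e1 hx1
    · rw [e1]; exact hz
    · rw [e1]; exact hb
    · rw [e1]
      calc g * (h.z * b) * g⁻¹ = (g * h.z * g⁻¹) * (g * b * g⁻¹) := by group
        _ = h.z * b := by rw [hz, hb]
  -- Step 2: elements of order dividing 4 are centralized
  apply mem_centralizer_of_centralizes_small 2 Q (P.isPGroup'.to_le hQ) g hgN hg
  intro x hx hsmall
  have hx4 : x ^ 4 = 1 := by
    rcases hsmall with h2 | ⟨_, h4⟩
    · have : x ^ 4 = (x ^ 2) ^ 2 := by rw [← pow_mul]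
      rw [this, h2, one_pow]
    · exact h4
  obtain ⟨y, hydef⟩ : ∃ y : G, y = g * x * g⁻¹ := ⟨_, rfl⟩
  have hyQ : y ∈ Q := hydef ▸ hconj x hx
  have hy4 : y ^ 4 = 1 := by
    rw [hydef, conj_pow, hx4]; group
  have hxy : x * y = y * x := h.comm_of_pow_four (hQ hx) (hQ hyQ) hx4 hy4
  have hxx4 : (x * x) * (x * x) = 1 := by
    have : (x * x) * (x * x) = x ^ 4 := by
      rw [show (4 : ℕ) = 2 * 2 from rfl, pow_mul, sq, sq]
    rw [this, hx4]
  have hx2 : g * (x * x) * g⁻¹ = x * x := step1 (x * x) (Q.mul_mem hx hx) hxx4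
  have hyy : y * y = x * x := by rw [hydef, hsq, hx2]
  obtain ⟨r, hrdef⟩ : ∃ r : G, r = x⁻¹ * y := ⟨_, rfl⟩
  have hyx' : y * x⁻¹ = x⁻¹ * y := by
    calc y * x⁻¹ = x⁻¹ * (x * y) * x⁻¹ := by group
      _ = x⁻¹ * (y * x) * x⁻¹ := by rw [hxy]
      _ = x⁻¹ * y := by group
  have hr2 : r * r = 1 := by
    calc r * r = x⁻¹ * (y * x⁻¹) * y := by rw [hrdef]; group
      _ = x⁻¹ * (x⁻¹ * y) * y := by rw [hyx']
      _ = (x * x)⁻¹ * (y * y) := by group
      _ = 1 := by rw [hyy]; group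
  have hrQ : r ∈ Q := hrdef ▸ Q.mul_mem (Q.inv_mem hx) hyQ
  have hrg : g * r * g⁻¹ = r := step1 r hrQ hr2
  have hgr : g * r = r * g := by
    calc g * r = (g * r * g⁻¹) * g := by group
      _ = r * g := by rw [hrg]
  have hxr : g * x * g⁻¹ = x * r := by
    rw [hrdef, ← hydef]; group
  have hr1 : r = 1 :=
    eq_one_of_conj_eq_mul g x r 1 hg (by rw [pow_one, sq]; exact hr2) hxr hgr
  rw [hr1, mul_one] at hxr
  calc g * x = (g * x * g⁻¹) * g := by group
    _ = x * g := by rw [hxr]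

/-- Groups with a modular Sylow 2-subgroup have a normal 2-complement. Let S, of order 2^(n+1) with n ≥ 3, be a Sylow 2-subgroup of a finite group G, and suppose S contains an element a of order 2^n and an involution b with b a b⁻¹ = a^(2^(n-1) + 1); so S is the non-abelian 2-group with a cyclic subgroup of index 2 that is neither dihedral, semidihedral nor generalized quaternion. Then G has a normal 2-complement. -/
theorem result {G : Type*} [Group G] [Finite G]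
    (S : Sylow 2 G) (n : ℕ) (hn : 3 ≤ n) (hS : Nat.card ↥(S : Subgroup G) = 2 ^ (n + 1))
    (a b : G) (ha : a ∈ (S : Subgroup G)) (hb : b ∈ (S : Subgroup G))
    (hao : orderOf a = 2 ^ n) (hbo : orderOf b = 2) (hrel : b * a * b⁻¹ = a ^ (2 ^ (n - 1) + 1)) :
    Cfsg.HasNormalPComplement 2 G := by
  classical
  obtain ⟨k, rfl⟩ : ∃ k, n = k + 3 := ⟨n - 3, by omega⟩
  have h : Mod (S : Subgroup G) k a b := ⟨hS, ha, hb, hao, hbo, hrel⟩
  haveI : Fact (Nat.Prime 2) := ⟨Nat.prime_two⟩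
  have hLC : Cfsg.Agent.Lib.Helper13.LocalCentral 2 G :=
    Cfsg.Agent.Lib.Helper13.localCentral_of_sylow S
      (fun Q hQ g hg hcop => local_central S h Q hQ g hg hcop)
  obtain ⟨K, hKn, hK⟩ := Cfsg.Agent.Lib.Helper13.exists_normal_complement_of_localCentral hLC S
  exact ⟨S, K, hKn, hK⟩

end Cfsg.Agent.S3178
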