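import Cfsg.Statements.S3179
import Cfsg.Agent.Lib.Helper16.GL52
import Cfsg.Agent.S1163
import Cfsg.Agent.S0280

set_option autoImplicit false
open Cfsg

namespace Cfsg.Agent.S3179

/-- Let X be a section of the general linear group GL(5, 2), that is, a quotient of a subgroup of it. If X is isomorphic to PSL(2, 2^n) for some n ≥ 2, to a Suzuki group over the field with 2^(2m+1) elements for some m ≥ 1, or to PSU(3, 2^n) for some n ≥ 2, then X is isomorphic to PSL(2, 4). -/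
theorem result {H : Subgroup (GL (Fin 5) (ZMod 2))}
    {K : Subgroup ↥H} [K.Normal]
    (hX : (∃ (n : ℕ) (F : Type) (_ : Field F) (_ : Fintype F), 2 ≤ n ∧ Fintype.card F = 2 ^ n ∧
        Nonempty (↥H ⧸ K ≃* Matrix.ProjectiveSpecialLinearGroup (Fin 2) F)) ∨
      (∃ (m : ℕ) (F : Type) (_ : Field F) (_ : Fintype F), 1 ≤ m ∧ Fintype.card F = 2 ^ (2 * m + 1) ∧
        Nonempty (↥H ⧸ K ≃* ↥(Cfsg.Lie.Sz F (2 ^ (m + 1))))) ∨
      (∃ (n : ℕ) (F : Type) (_ : Field F) (_ : Fintype F), 2 ≤ n ∧ Fintype.card F = 4 ^ n ∧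
        Nonempty (↥H ⧸ K ≃* Cfsg.PSU 3 F (2 ^ n)))) :
    ∃ (F : Type) (_ : Field F) (_ : Fintype F), Fintype.card F = 4 ∧
      Nonempty (↥H ⧸ K ≃* Matrix.ProjectiveSpecialLinearGroup (Fin 2) F) := by
  have hcard : Nat.card (↥H ⧸ K) ∣ 9999360 := by
    rw [← Cfsg.Agent.Lib.Helper16.GL52.card_GL52]
    exact (Subgroup.card_quotient_dvd_card K).trans (Subgroup.card_subgroup_dvd_card H)
  rcases hX with ⟨n, F, _, _, hn, hF, ⟨e⟩⟩ | ⟨m, F, _, _, hm, hF, ⟨e⟩⟩ | ⟨n, F, _, _, hn, hF, ⟨e⟩⟩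
  · -- PSL2
    haveI : Fact (Nat.Prime 2) := ⟨Nat.prime_two⟩
    haveI : CharP F 2 := charP_of_card_eq_prime_pow hF
    have h1 : Nat.card (↥H ⧸ K) = 2 ^ n * ((2 ^ n) ^ 2 - 1) := by
      rw [Nat.card_congr e.toEquiv]
      have := Cfsg.Agent.Lib.Helper3.CardSL.card_PSL_mul (F := F) 2
      rw [Cfsg.Agent.Lib.Helper3.CardSL.center_SL2_eq_bot, Subgroup.card_bot, mul_one,
        Cfsg.Agent.Lib.Helper3.CardSL.card_SL2, hF] at this
      exact this
    rw [h1] at hcard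
    have hn10 : n ≤ 10 :=
      Cfsg.Agent.Lib.Helper16.GL52.two_pow_dvd ((Dvd.intro _ rfl).trans hcard)
    interval_cases n
    · exact ⟨F, _, _, by rw [hF]; norm_num, ⟨e⟩⟩
    · exfalso
      obtain ⟨y, hy⟩ := Cfsg.Agent.Lib.Helper16.GL52.exists_order_nine (F := F)
        (by rw [hF]; norm_num)
      apply Cfsg.Agent.Lib.Helper16.GL52.section_no_order_nine (e.symm y)
      rw [MulEquiv.orderOf_eq, hy]
    all_goals (exfalso; norm_num at hcard)
  · -- Sz
    exfalso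
    have h1 := (Cfsg.Agent.S1163.result hm hF).1
    rw [Nat.card_congr e.toEquiv, h1] at hcard
    have h2 : 2 ^ ((2 * m + 1) * 2) ∣ 9999360 := by
      rw [pow_mul]
      exact (Dvd.intro _ rfl).trans ((Dvd.intro _ rfl).trans hcard)
    have h3 := Cfsg.Agent.Lib.Helper16.GL52.two_pow_dvd h2
    have hm2 : m ≤ 2 := by omega
    interval_cases m <;> norm_num at hcard
  · -- PSU
    exfalso
    have hF' : Fintype.card F = (2 ^ n) ^ 2 := by
      rw [hF, show (4 : ℕ) = 2 ^ 2 from rfl, ← pow_mul, ← pow_mul, mul_comm]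
    have h1 := Cfsg.Agent.S0280.result hF' 3 (by norm_num)
    rw [← Nat.card_congr e.toEquiv] at h1
    have h33 : 3 * (3 - 1) / 2 = 3 := by norm_num
    rw [h33] at h1
    have hn0 : n ≠ 0 := by omega
    have hodd : Odd (Nat.gcd 3 (2 ^ n + 1) * (2 ^ n + 1)) := by
      apply Odd.mul
      · exact Odd.of_dvd_nat (by decide) (Nat.gcd_dvd_left 3 _)
      · exact Even.add_one ((Nat.even_pow.2 ⟨even_two, hn0⟩))
    have hdvd : 2 ^ (n * 3) ∣ Nat.card (↥H ⧸ K) := by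
      have h2 : 2 ^ (n * 3) ∣ Nat.card (↥H ⧸ K) * (Nat.gcd 3 (2 ^ n + 1) * (2 ^ n + 1)) := by
        have h4 : Nat.card (↥H ⧸ K) * (Nat.gcd 3 (2 ^ n + 1) * (2 ^ n + 1))
            = Nat.gcd 3 (2 ^ n + 1) * ((2 ^ n + 1) * Nat.card (↥H ⧸ K)) := by ring
        rw [h4, h1, pow_mul]
        exact Dvd.intro _ rfl
      exact Nat.Coprime.dvd_of_dvd_mul_right
        (Nat.Coprime.pow_left _ (Nat.coprime_two_left.2 hodd)) h2
    have h3 := Cfsg.Agent.Lib.Helper16.GL52.two_pow_dvd (hdvd.trans hcard)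
    have hn3 : n ≤ 3 := by omega
    interval_cases n
    · norm_num [Finset.prod_range_succ] at h1
      have h5 : Nat.card (↥H ⧸ K) = 62400 := by omega
      rw [h5] at hcard
      norm_num at hcard
    · norm_num [Finset.prod_range_succ] at h1
      have h5 : Nat.card (↥H ⧸ K) = 5515776 := by omega
      rw [h5] at hcard
      norm_num at hcard

end Cfsg.Agent.S3179
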