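import Cfsg.Statements.S3180
import Mathlib.Tactic.Group

set_option autoImplicit false
open Cfsg

namespace Cfsg.Agent.S3180

/-- Let P be a Sylow p-subgroup of a finite group J and P₁ a subgroup of P that is weakly closed in P with respect to J. If J acts on a set and two points, each fixed by every element of P₁, lie in one J-orbit, then they lie in one orbit of the normalizer of P₁ in J. -/
theorem result {J : Type*} [Group J] [Finite J]
    {p : ℕ} [Fact p.Prime] (P : Sylow p J) (P₁ : Subgroup J) (hW : Cfsg.IsWeaklyClosed P₁ (P : Subgroup J))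
    {Ω : Type*} [MulAction J Ω] (x y : Ω) (hx : ∀ g ∈ P₁, g • x = x) (hy : ∀ g ∈ P₁, g • y = y)
    (hc : ∃ g : J, g • x = y) :
    ∃ g ∈ Subgroup.normalizer (P₁ : Set J), g • x = y := by
  obtain ⟨g, rfl⟩ := hc
  obtain ⟨hP₁P, hwc⟩ := hW
  have hP₁p : IsPGroup p P₁ := P.2.to_le hP₁P
  set St := MulAction.stabilizer J x with hSt
  have hP₁St : P₁ ≤ St := fun u hu => MulAction.mem_stabilizer_iff.mpr (hx u hu)
  -- the conjugate g⁻¹ P₁ g lies in St
  have hconjSt : ∀ u ∈ P₁, g⁻¹ * u * g ∈ St := by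
    intro u hu
    rw [hSt, MulAction.mem_stabilizer_iff, mul_smul, mul_smul, hy u hu, ← mul_smul, inv_mul_cancel,
      one_smul]
  -- Sylow subgroups of St
  obtain ⟨Q, hQ⟩ := (hP₁p.comap_subtype (K := St)).exists_le_sylow
  have hP₁'p : IsPGroup p (P₁.map (MulAut.conj g⁻¹).toMonoidHom) := hP₁p.map _
  obtain ⟨Q', hQ'⟩ := (hP₁'p.comap_subtype (K := St)).exists_le_sylow
  obtain ⟨c, hcQ⟩ := MulAction.exists_smul_eq St Q' Q
  -- Q as a p-subgroup of J sits in a conjugate of P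
  have hQp : IsPGroup p ((Q : Subgroup St).map St.subtype) := Q.2.map _
  obtain ⟨R, hR⟩ := hQp.exists_le_sylow
  obtain ⟨a, haR⟩ := MulAction.exists_smul_eq J P R
  -- membership in R means conjugate by a⁻¹ lies in P
  have hmemR : ∀ r ∈ (R : Subgroup J), a⁻¹ * r * a ∈ (P : Subgroup J) := by
    intro r hr
    rw [← haR, Sylow.coe_subgroup_smul, Subgroup.mem_pointwise_smul_iff_inv_smul_mem] at hr
    simpa [MulAut.smul_def, MulAut.conj_inv_apply] using hr
  -- P₁ ≤ Q-image ≤ R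
  have h1 : ∀ u ∈ P₁, a⁻¹ * u * a ∈ (P : Subgroup J) := by
    intro u hu
    apply hmemR
    apply hR
    exact ⟨⟨u, hP₁St hu⟩, hQ (Subgroup.mem_subgroupOf.mpr hu), rfl⟩
  have h2 : ∀ u ∈ P₁, a⁻¹ * ((c : J) * (g⁻¹ * u * g) * (c : J)⁻¹) * a ∈ (P : Subgroup J) := by
    intro u hu
    apply hmemR
    apply hR
    have hmem : (⟨g⁻¹ * u * g, hconjSt u hu⟩ : St) ∈ (Q' : Subgroup St) := by
      apply hQ'
      rw [Subgroup.mem_comap]
      exact ⟨u, hu, by simp [MulAut.conj_apply]⟩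
    have hmem2 : MulAut.conj c • (⟨g⁻¹ * u * g, hconjSt u hu⟩ : St) ∈
        ((c • Q' : Sylow p St) : Subgroup St) := by
      rw [Sylow.coe_subgroup_smul]
      exact Subgroup.smul_mem_pointwise_smul _ _ _ hmem
    rw [hcQ] at hmem2
    exact ⟨_, hmem2, by simp [MulAut.smul_def, MulAut.conj_apply]⟩
  -- weak closure
  have hn1 : a⁻¹ ∈ Subgroup.normalizer (P₁ : Set J) := by
    rw [Subgroup.mem_normalizer_iff_map_conj_eq]
    apply hwc
    rintro _ ⟨u, hu, rfl⟩
    simpa [MulAut.conj_apply] using h1 u hu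
  have hn2 : a⁻¹ * (c : J) * g⁻¹ ∈ Subgroup.normalizer (P₁ : Set J) := by
    rw [Subgroup.mem_normalizer_iff_map_conj_eq]
    apply hwc
    rintro _ ⟨u, hu, rfl⟩
    have := h2 u hu
    simp only [MulEquiv.coe_toMonoidHom, MulAut.conj_apply]
    convert this using 1
    group
  have hn3 : g * (c : J)⁻¹ ∈ Subgroup.normalizer (P₁ : Set J) := by
    have h3 : g * (c : J)⁻¹ = (a * (a⁻¹ * (c : J) * g⁻¹))⁻¹ := by group
    rw [h3]
    apply Subgroup.inv_mem
    apply Subgroup.mul_mem _ _ hn2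
    have := Subgroup.inv_mem _ hn1
    rwa [inv_inv] at this
  refine ⟨g * (c : J)⁻¹, hn3, ?_⟩
  rw [mul_smul]
  congr 1
  have hc := MulAction.mem_stabilizer_iff.mp c.2
  rw [inv_smul_eq_iff, hc]

end Cfsg.Agent.S3180
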