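import Cfsg.Statements.S3183
import Mathlib.Tactic.Group
import Cfsg.Agent.Lib.Helper18.Basic

set_option autoImplicit false
open Cfsg

namespace Cfsg.Agent.S3183

theorem mem_center_map_iff {G : Type*} [Group G] (U : Subgroup G) (d : G) :
    d ∈ (Subgroup.center ↥U).map U.subtype ↔ d ∈ U ∧ ∀ u ∈ U, u * d = d * u := by
  constructor
  · rintro ⟨z, hz, rfl⟩
    refine ⟨z.2, ?_⟩
    intro u hu
    have := Subgroup.mem_center_iff.mp hz ⟨u, hu⟩
    exact congrArg Subtype.val this
  · rintro ⟨hdU, hd⟩
    refine ⟨⟨d, hdU⟩, ?_, rfl⟩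
    show (⟨d, hdU⟩ : U) ∈ Subgroup.center ↥U
    rw [Subgroup.mem_center_iff]
    intro u
    apply Subtype.ext
    exact hd u u.2

theorem key {G : Type*} [Group G] [Finite G]
    (hCI : ∀ S T : Sylow 2 G, S ≠ T → ∃ U : Sylow 2 G,
      (S : Subgroup G) ⊓ (T : Subgroup G) ≤ (Subgroup.center ↥(U : Subgroup G)).map (U : Subgroup G).subtype) :
    ∀ k : ℕ, ∀ S T : Sylow 2 G, S ≠ T →
      Nat.card (S : Subgroup G) - Nat.card ↥((S : Subgroup G) ⊓ (T : Subgroup G)) = k →
      ∀ d ∈ (S : Subgroup G) ⊓ (T : Subgroup G), ∀ s ∈ (S : Subgroup G), s * d = d * s := by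
  have : Fact (Nat.Prime 2) := ⟨Nat.prime_two⟩
  intro k
  induction k using Nat.strong_induction_on with
  | _ k ih =>
    intro S T hST hk d hd s hs
    set D := (S : Subgroup G) ⊓ (T : Subgroup G) with hD
    obtain ⟨U, hU⟩ := hCI S T hST
    have hDU : ∀ d ∈ D, d ∈ (U : Subgroup G) ∧ ∀ u ∈ (U : Subgroup G), u * d = d * u :=
      fun d hd => (mem_center_map_iff _ d).mp (hU hd)
    -- D < S
    have hDS : D < (S : Subgroup G) := by
      refine lt_of_le_of_ne inf_le_left ?_
      intro heq
      apply hST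
      have hle : (S : Subgroup G) ≤ (T : Subgroup G) := by
        rw [← heq]; exact inf_le_right
      have hcard : Nat.card (T : Subgroup G) ≤ Nat.card (S : Subgroup G) := by
        rw [Sylow.card_eq_multiplicity, Sylow.card_eq_multiplicity]
      exact Sylow.ext (Subgroup.eq_of_le_of_card_ge hle hcard)
    obtain ⟨t, htS, htD, htN⟩ :=
      Cfsg.Agent.Lib.Helper18.exists_mem_normalizer_not_mem_of_lt D (S : Subgroup G) S.2 hDS
    -- U ≤ N(D)
    set N := Subgroup.normalizer (D : Set G) with hN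
    have hUN : (U : Subgroup G) ≤ N := by
      intro u hu
      rw [hN, Subgroup.mem_normalizer_iff]
      intro e
      constructor
      · intro he
        have := (hDU e he).2 u hu
        rw [this]
        simpa using he
      · intro he
        have h1 := (hDU _ he).2 u hu
        have h2 : e = u * e * u⁻¹ := by
          calc e = u⁻¹ * ((u * e * u⁻¹) * u) := by group
            _ = u⁻¹ * (u * (u * e * u⁻¹)) := by rw [← h1]
            _ = u * e * u⁻¹ := by group
        rw [h2]
        exact he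
    have hNSp : IsPGroup 2 ↥((S : Subgroup G) ⊓ N) := S.2.to_le inf_le_left
    obtain ⟨c, hcN, hcU⟩ := Cfsg.Agent.Lib.Helper18.exists_conj_le_sylow_of_le U N hUN
      ((S : Subgroup G) ⊓ N) hNSp inf_le_right
    -- U' = c⁻¹ • U
    set U' : Sylow 2 G := c⁻¹ • U with hU'
    have hmemU' : ∀ y : G, y ∈ (U' : Subgroup G) ↔ c * y * c⁻¹ ∈ (U : Subgroup G) := by
      intro y
      rw [hU', Sylow.coe_subgroup_smul, Subgroup.mem_pointwise_smul_iff_inv_smul_mem]
      simp [MulAut.smul_def, MulAut.conj_apply]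
    have hNSU' : (S : Subgroup G) ⊓ N ≤ (U' : Subgroup G) := by
      intro y hy
      rw [hmemU']
      exact hcU ⟨y, hy, rfl⟩
    -- D centralized by U'
    have hDU' : ∀ d ∈ D, ∀ u ∈ (U' : Subgroup G), u * d = d * u := by
      intro d hd u hu
      have hcd : c * d * c⁻¹ ∈ D := (Subgroup.mem_normalizer_iff.mp hcN d).mp hd
      have h1 := (hDU _ hcd).2 _ ((hmemU' u).mp hu)
      calc u * d = c⁻¹ * ((c * u * c⁻¹) * (c * d * c⁻¹)) * c := by group
        _ = c⁻¹ * ((c * d * c⁻¹) * (c * u * c⁻¹)) * c := by rw [h1]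
        _ = d * u := by group
    by_cases hUS : U' = S
    · rw [← hUS] at hs
      exact hDU' d hd s hs
    · -- S ⊓ U' is strictly bigger than D
      have hDle : D ≤ (S : Subgroup G) ⊓ (U' : Subgroup G) := by
        intro e he
        exact ⟨he.1, hNSU' ⟨he.1, Subgroup.le_normalizer he⟩⟩
      have htSU : t ∈ (S : Subgroup G) ⊓ (U' : Subgroup G) := ⟨htS, hNSU' ⟨htS, htN⟩⟩
      have hcardlt : Nat.card ↥D < Nat.card ↥((S : Subgroup G) ⊓ (U' : Subgroup G)) := by
        by_contra hge
        push Not at hge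
        have := Subgroup.eq_of_le_of_card_ge hDle hge
        apply htD
        rw [this]
        exact htSU
      have hcardle : Nat.card ↥((S : Subgroup G) ⊓ (U' : Subgroup G)) ≤ Nat.card (S : Subgroup G) :=
        Subgroup.card_le_of_le inf_le_left
      have hlt : Nat.card (S : Subgroup G) - Nat.card ↥((S : Subgroup G) ⊓ (U' : Subgroup G)) < k := by
        omega
      exact ih _ hlt S U' (Ne.symm hUS) rfl d (hDle hd) s hs

/-- Let G be a finite group in which the intersection of any two distinct Sylow 2-subgroups is contained in the centre of some Sylow 2-subgroup, and let S be a Sylow 2-subgroup. Then for every x in S the centralizer of x in S is a Sylow 2-subgroup of the centralizer of x in G (no 2-subgroup centralizing x is larger), and for every other Sylow 2-subgroup T the intersection S ∩ T lies in both the centre of S and the centre of T. -/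
theorem result {G : Type*} [Group G] [Finite G]
    (hCI : ∀ S T : Sylow 2 G, S ≠ T → ∃ U : Sylow 2 G,
      (S : Subgroup G) ⊓ (T : Subgroup G) ≤ (Subgroup.center ↥(U : Subgroup G)).map (U : Subgroup G).subtype)
    (S : Sylow 2 G) :
    (∀ x ∈ (S : Subgroup G), ∀ P : Subgroup G, IsPGroup 2 ↥P → P ≤ Subgroup.centralizer ({x} : Set G) →
        Nat.card ↥P ≤ Nat.card ↥((S : Subgroup G) ⊓ Subgroup.centralizer ({x} : Set G))) ∧
    (∀ T : Sylow 2 G, T ≠ S →
        (S : Subgroup G) ⊓ (T : Subgroup G) ≤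
          (Subgroup.center ↥(S : Subgroup G)).map (S : Subgroup G).subtype ⊓
            (Subgroup.center ↥(T : Subgroup G)).map (T : Subgroup G).subtype) := by
  have : Fact (Nat.Prime 2) := ⟨Nat.prime_two⟩
  have hpart2 : ∀ T : Sylow 2 G, T ≠ S →
        (S : Subgroup G) ⊓ (T : Subgroup G) ≤
          (Subgroup.center ↥(S : Subgroup G)).map (S : Subgroup G).subtype ⊓
            (Subgroup.center ↥(T : Subgroup G)).map (T : Subgroup G).subtype := by
    intro T hTS d hd
    refine ⟨?_, ?_⟩
    · apply (mem_center_map_iff _ d).mpr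
      exact ⟨hd.1, fun s hs => key hCI _ S T (Ne.symm hTS) rfl d hd s hs⟩
    · apply (mem_center_map_iff _ d).mpr
      refine ⟨hd.2, fun s hs => key hCI _ T S hTS rfl d ⟨hd.2, hd.1⟩ s hs⟩
  refine ⟨?_, hpart2⟩
  intro x hxS P hP hPC
  -- P ⊔ zpowers x is a 2-group
  have hzx : IsPGroup 2 (Subgroup.zpowers x) := S.2.to_le (Subgroup.zpowers_le.mpr hxS)
  have hPN : P ≤ Subgroup.normalizer ((Subgroup.zpowers x : Subgroup G) : Set G) := by
    intro y hy
    have hyx := Subgroup.mem_centralizer_singleton_iff.mp (hPC hy)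
    rw [Subgroup.mem_normalizer_iff]
    intro e
    have hcomm : ∀ k : ℤ, y * x ^ k * y⁻¹ = x ^ k := by
      intro k
      have : Commute y (x ^ k) := (Commute.zpow_right hyx k)
      rw [this.eq]; group
    constructor
    · rintro ⟨k, rfl⟩
      exact ⟨k, (hcomm k).symm⟩
    · rintro ⟨k, hk⟩
      refine ⟨k, ?_⟩
      have hk' : x ^ k = y * e * y⁻¹ := hk
      show x ^ k = e
      calc x ^ k = y⁻¹ * (y * x ^ k * y⁻¹) * y := by group
        _ = y⁻¹ * x ^ k * y := by rw [hcomm k]
        _ = y⁻¹ * (y * e * y⁻¹) * y := by rw [hk']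
        _ = e := by group
  have hPx : IsPGroup 2 ↥(P ⊔ Subgroup.zpowers x) := hP.to_sup_of_normal_right' hzx hPN
  obtain ⟨T, hT⟩ := hPx.exists_le_sylow
  have hxT : x ∈ (T : Subgroup G) := hT (Subgroup.mem_sup_right (Subgroup.mem_zpowers x))
  have hPT : P ≤ (T : Subgroup G) := le_sup_left.trans hT
  by_cases hTS : T = S
  · apply Subgroup.card_le_of_le
    intro y hy
    exact ⟨hTS ▸ hPT hy, hPC hy⟩
  · have hx := hpart2 T hTS ⟨hxS, hxT⟩
    have hxZS := (mem_center_map_iff _ x).mp hx.1
    have hSC : (S : Subgroup G) ⊓ Subgroup.centralizer ({x} : Set G) = (S : Subgroup G) := by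
      apply inf_eq_left.mpr
      intro s hs
      rw [Subgroup.mem_centralizer_singleton_iff]
      exact hxZS.2 s hs
    rw [hSC]
    calc Nat.card ↥P ≤ Nat.card (T : Subgroup G) := Subgroup.card_le_of_le hPT
      _ = Nat.card (S : Subgroup G) := by
        rw [Sylow.card_eq_multiplicity, Sylow.card_eq_multiplicity]

end Cfsg.Agent.S3183
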