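import Cfsg.Statements.S3190
import Cfsg.Agent.Lib.Helper18.PAction
import Cfsg.Agent.Lib.Helper18.CentrallyLarge

set_option autoImplicit false
open Cfsg
open Cfsg.Agent.Lib.Helper18

namespace Cfsg.Agent.S3190

/-- Let p be an odd prime and, inside a finite group, let P be a p-subgroup normalized by a Klein four-group T. Let R be a subgroup of P, normal in P and normalized by T, such that P is the product of R with the centralizer of T in P. If T centralizes the centre of P, then T centralizes the centre of R. -/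
theorem result {X : Type*} [Group X] [Finite X]
    {p : ℕ} (hp : p.Prime) (hodd : Odd p) (P T R : Subgroup X) (hP : IsPGroup p ↥P) (hT : IsKleinFour ↥T)
    (hTP : T ≤ Subgroup.normalizer (P : Set X)) (hRP : R ≤ P) (hRn : (R.subgroupOf P).Normal)
    (hTR : T ≤ Subgroup.normalizer (R : Set X)) (hfac : R ⊔ (P ⊓ Subgroup.centralizer (T : Set X)) = P)
    (hZ : T ≤ Subgroup.centralizer (((Subgroup.center ↥P).map P.subtype : Subgroup X) : Set X)) :
    T ≤ Subgroup.centralizer (((Subgroup.center ↥R).map R.subtype : Subgroup X) : Set X) := by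
  have : Fact p.Prime := ⟨hp⟩
  rw [center_map_subtype_eq] at hZ ⊢
  set ZR := R ⊓ Subgroup.centralizer (R : Set X) with hZR
  set Cp := P ⊓ Subgroup.centralizer (T : Set X) with hCp
  have hZRcomm : ∀ z₁ ∈ ZR, ∀ z₂ ∈ ZR, z₁ * z₂ = z₂ * z₁ := fun z₁ h₁ z₂ h₂ => (h₂.2 z₁ h₁.1)
  intro t ht
  -- t has order dividing two
  have ht2 : t * t = 1 := by
    have h1 : (⟨t, ht⟩ : ↥T) ^ Monoid.exponent ↥T = 1 := Monoid.pow_exponent_eq_one _
    rw [hT.exponent_two, pow_two] at h1
    exact congrArg Subtype.val h1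
  have htinv : t⁻¹ = t := inv_eq_of_mul_eq_one_left ht2
  have htN : t ∈ Subgroup.normalizer (R : Set X) := hTR ht
  -- the subgroup of ZR inverted by t
  let I : Subgroup X :=
    { carrier := {z | z ∈ ZR ∧ t * z * t⁻¹ = z⁻¹}
      one_mem' := ⟨ZR.one_mem, by simp⟩
      mul_mem' := by
        rintro a b ⟨ha, ha'⟩ ⟨hb, hb'⟩
        refine ⟨ZR.mul_mem ha hb, ?_⟩
        have e : t * (a * b) * t⁻¹ = (t * a * t⁻¹) * (t * b * t⁻¹) := by group
        rw [e, ha', hb', mul_inv_rev]
        exact hZRcomm _ (ZR.inv_mem ha) _ (ZR.inv_mem hb)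
      inv_mem' := by
        rintro a ⟨ha, ha'⟩
        refine ⟨ZR.inv_mem ha, ?_⟩
        have e : t * a⁻¹ * t⁻¹ = (t * a * t⁻¹)⁻¹ := by group
        rw [e, ha'] }
  have hI_mem : ∀ z, z ∈ I ↔ z ∈ ZR ∧ t * z * t⁻¹ = z⁻¹ := fun z => Iff.rfl
  have hIZR : I ≤ ZR := fun z hz => hz.1
  have hIP : I ≤ P := hIZR.trans (inf_le_left.trans hRP)
  -- Cp normalizes I
  have hPN : P ≤ Subgroup.normalizer (R : Set X) := by
    intro x hx
    rw [Subgroup.mem_normalizer_iff]
    intro r
    constructor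
    · intro hr
      have := hRn.conj_mem ⟨r, hRP hr⟩ (Subgroup.mem_subgroupOf.mpr hr) ⟨x, hx⟩
      simpa [Subgroup.mem_subgroupOf] using this
    · intro hr
      have hrP : r ∈ P := by
        have h1 : x⁻¹ * (x * r * x⁻¹) * x ∈ P :=
          P.mul_mem (P.mul_mem (P.inv_mem hx) (hRP hr)) hx
        have e : x⁻¹ * (x * r * x⁻¹) * x = r := by group
        rwa [e] at h1
      have := hRn.conj_mem ⟨x * r * x⁻¹, hRP hr⟩ (Subgroup.mem_subgroupOf.mpr hr) ⟨x, hx⟩⁻¹
      have h2 : x⁻¹ * (x * r * x⁻¹) * x⁻¹⁻¹ ∈ R := by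
        simpa [Subgroup.mem_subgroupOf] using this
      have e : x⁻¹ * (x * r * x⁻¹) * x⁻¹⁻¹ = r := by group
      rwa [e] at h2
  have hCI : Cp ≤ Subgroup.normalizer (I : Set X) := by
    have key : ∀ c ∈ Cp, ∀ z ∈ I, c * z * c⁻¹ ∈ I := by
      intro c hc z hz
      refine ⟨conj_mem_inf_centralizer R c (hPN hc.1) z hz.1, ?_⟩
      have hct : t * c = c * t := hc.2 t ht
      calc t * (c * z * c⁻¹) * t⁻¹ = (t * c) * z * (t * c)⁻¹ := by group
        _ = (c * t) * z * (c * t)⁻¹ := by rw [hct]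
        _ = c * (t * z * t⁻¹) * c⁻¹ := by group
        _ = c * z⁻¹ * c⁻¹ := by rw [hz.2]
        _ = (c * z * c⁻¹)⁻¹ := by group
    intro c hc
    rw [Subgroup.mem_normalizer_iff]
    intro z
    constructor
    · exact key c hc z
    · intro h
      have := key c⁻¹ (Cp.inv_mem hc) _ h
      have e : c⁻¹ * (c * z * c⁻¹) * c⁻¹⁻¹ = z := by group
      rwa [e] at this
  -- I is trivial
  have hIbot : I = ⊥ := by
    by_contra hne
    obtain ⟨w, hwI, hw1, hwC⟩ := exists_ne_one_centralized Cp I hCI (hP.to_le inf_le_left)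
      (hP.to_le hIP) hne
    apply hw1
    have hwZP : w ∈ P ⊓ Subgroup.centralizer (P : Set X) := by
      refine ⟨hIP hwI, ?_⟩
      rw [← hfac, centralizer_sup_eq]
      refine ⟨hwI.1.2, ?_⟩
      intro c hc
      have := hwC c hc
      calc c * w = (c * w * c⁻¹) * c := by group
        _ = w * c := by rw [this]
    have hwt : w * t = t * w := hZ ht w hwZP
    have hww : w = w⁻¹ := by
      rw [← hwI.2]
      calc w = (t * w) * t⁻¹ := by rw [← hwt]; group
        _ = t * w * t⁻¹ := rfl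
    have hw2 : w ^ 2 = 1 := by
      rw [pow_two]
      nth_rw 2 [hww]
      exact mul_inv_cancel w
    obtain ⟨k, hk⟩ := (hP.to_le hIP) ⟨w, hwI⟩
    have hk' : w ^ p ^ k = 1 := by
      have := congrArg Subtype.val hk
      simpa using this
    have hg : w ^ Nat.gcd (p ^ k) 2 = 1 := pow_gcd_eq_one.mpr ⟨hk', hw2⟩
    have hcop : Nat.gcd (p ^ k) 2 = 1 := by
      apply Nat.Coprime.pow_left
      exact Nat.coprime_two_right.mpr hodd
    rw [hcop, pow_one] at hg
    exact hg
  -- conclusion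
  intro z hz
  have hz' : t * z * t⁻¹ ∈ ZR := conj_mem_inf_centralizer R t htN z hz
  have hu : z * (t * z * t⁻¹)⁻¹ ∈ I := by
    refine ⟨ZR.mul_mem hz (ZR.inv_mem hz'), ?_⟩
    have e1 : t * (z * (t * z * t⁻¹)⁻¹) * t⁻¹ = (t * z * t⁻¹) * ((t * t) * z⁻¹ * (t * t)⁻¹) := by
      group
    rw [e1, ht2]
    group
  rw [hIbot, Subgroup.mem_bot] at hu
  have hzt : z = t * z * t⁻¹ := by
    have := mul_inv_eq_one.mp hu
    exact this
  calc z * t = (t * z * t⁻¹) * t := by rw [← hzt]
    _ = t * z := by group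

end Cfsg.Agent.S3190
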