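-- Statement S3195: four-group A with every conjugate of its involutions centralizing an involution
-- of A meets O_2(G).  Reduction to the Sidki-pair statement S3011.
import Mathlib
import Cfsg.Statements.S3195
import Cfsg.Agent.S3011

set_option autoImplicit false
open Cfsg

namespace Cfsg.Agent.S3195

/-- Let A be a Klein four-subgroup of a finite group G. If every G-conjugate of every involution of A commutes with some involution of A (its centralizer meets A nontrivially), then A meets the largest normal 2-subgroup O₂(G) nontrivially. -/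
theorem result {G : Type*} [Group G] [Finite G]
    (A : Subgroup G) (hA : IsKleinFour ↥A)
    (h : ∀ a ∈ A, a ≠ 1 → ∀ g : G, A ⊓ Subgroup.centralizer ({g * a * g⁻¹} : Set G) ≠ ⊥) :
    A ⊓ Cfsg.pCore 2 G ≠ ⊥ := by
  have hsq : ∀ a ∈ A, a ^ 2 = 1 := by
    intro a ha
    have h1 : (⟨a, ha⟩ : A) ^ 2 = 1 := by
      have h2 := Monoid.pow_exponent_eq_one (⟨a, ha⟩ : A)
      rwa [hA.exponent_two] at h2
    have h3 := congrArg Subtype.val h1
    simpa using h3
  have hcomm : ∀ a ∈ A, ∀ b ∈ A, a * b = b * a := by
    intro a ha b hb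
    have h1 : (⟨a, ha⟩ : A) * ⟨b, hb⟩ = ⟨b, hb⟩ * ⟨a, ha⟩ :=
      mul_comm_of_exponent_two hA.exponent_two _ _
    have h3 := congrArg Subtype.val h1
    simpa using h3
  have hcard : Nat.card A = 4 := hA.card_four
  have hne : A ≠ ⊥ := by
    intro hbot
    rw [hbot, Subgroup.card_bot] at hcard
    omega
  obtain ⟨w₀, hw₀A, hw₀1⟩ : ∃ w ∈ A, w ≠ 1 := by
    by_contra hcon
    push Not at hcon
    apply hne
    rw [Subgroup.eq_bot_iff_forall]
    exact hcon
  have hEA : Cfsg.IsElementaryAbelian 2 A :=
    ⟨⟨⟨fun a b => Subtype.ext (hcomm a.1 a.2 b.1 b.2)⟩⟩, hsq⟩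
  have hS : Cfsg.IsSidkiPair A := by
    intro x v hv hodd hinv
    by_cases hv1 : v = 1
    · -- then x = x⁻¹ has odd order, so x = 1
      rw [hv1, one_mul, inv_one, mul_one] at hinv
      have hx2 : x ^ 2 = 1 := by
        rw [sq]
        calc x * x = x * x⁻¹ := by rw [← hinv]
          _ = 1 := mul_inv_cancel x
      have hd : orderOf x ∣ 2 := orderOf_dvd_of_pow_eq_one hx2
      have ho : orderOf x = 1 := by
        rcases (Nat.dvd_prime Nat.prime_two).1 hd with h1 | h1
        · exact h1
        · rw [h1] at hodd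
          exact absurd hodd (by decide)
      rw [orderOf_eq_one_iff] at ho
      exact ⟨w₀, hw₀A, hw₀1, by rw [ho, mul_one, one_mul]⟩
    · obtain ⟨j, hj⟩ := hodd
      -- conjugating by x^j carries v to v * x
      have hvinv : v⁻¹ = v := inv_eq_of_mul_eq_one_right (by rw [← sq]; exact hsq v hv)
      have hpow : v * x ^ j * v⁻¹ = (x ^ j)⁻¹ := by
        rw [← conj_pow, hinv, inv_pow]
      have hpow' : x ^ j * v = v * (x ^ j)⁻¹ := by
        have h1 : v * (x ^ j)⁻¹ * v⁻¹ = x ^ j := by
          have h2 := congrArg (fun y => y⁻¹) hpow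
          simp only [mul_inv_rev, inv_inv] at h2
          rw [← mul_assoc] at h2
          exact h2
        calc x ^ j * v = (v * (x ^ j)⁻¹ * v⁻¹) * v := by rw [h1]
          _ = v * (x ^ j)⁻¹ := by group
      have hxm : x ^ (2 * j) * x = 1 := by
        rw [← pow_succ, ← hj]
        exact pow_orderOf_eq_one x
      have hx2j : (x ^ (2 * j))⁻¹ = x := inv_eq_of_mul_eq_one_right hxm
      have hconj : x ^ j * v * (x ^ j)⁻¹ = v * x := by
        rw [hpow', mul_assoc, ← mul_inv_rev, ← pow_add, ← two_mul, hx2j]
      have h1 := h v hv hv1 (x ^ j)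
      rw [hconj] at h1
      obtain ⟨w, hwA, hw1⟩ : ∃ w ∈ A ⊓ Subgroup.centralizer ({v * x} : Set G), w ≠ 1 := by
        by_contra hcon
        push Not at hcon
        apply h1
        rw [Subgroup.eq_bot_iff_forall]
        exact hcon
      rw [Subgroup.mem_inf, Subgroup.mem_centralizer_iff] at hwA
      have h2 : v * x * w = w * (v * x) := hwA.2 (v * x) (Set.mem_singleton _)
      refine ⟨w, hwA.1, hw1, ?_⟩
      have h3 : w * v = v * w := hcomm w hwA.1 v hv
      have h4 : v * (x * w) = v * (w * x) := by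
        calc v * (x * w) = v * x * w := by rw [mul_assoc]
          _ = w * (v * x) := h2
          _ = (w * v) * x := by rw [mul_assoc]
          _ = (v * w) * x := by rw [h3]
          _ = v * (w * x) := by rw [mul_assoc]
      exact (mul_left_cancel h4).symm
  exact Cfsg.Agent.S3011.result A hEA hne hS (le_of_eq hcard)

end Cfsg.Agent.S3195
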