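import Cfsg.Statements.S3196
import Cfsg.Agent.Lib.Helper21.BaerSuzuki
import Cfsg.Agent.Lib.Helper17.StrongPEmb2
import Cfsg.Agent.Lib.Helper13.PGroup
import Mathlib

set_option autoImplicit false
open Cfsg

namespace Cfsg.Agent.S3196

variable {G : Type*} [Group G]

/-- Elementwise commuting of two subgroups. -/
def Comm (X Y : Subgroup G) : Prop := ∀ x ∈ X, ∀ y ∈ Y, x * y = y * x

theorem Comm.symm {X Y : Subgroup G} (h : Comm X Y) : Comm Y X :=
  fun y hy x hx => (h x hx y hy).symm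

theorem comm_zpowers_left {a : G} {Y : Subgroup G} (h : ∀ y ∈ Y, a * y = y * a) :
    Comm (Subgroup.zpowers a) Y := by
  intro x hx y hy
  obtain ⟨k, rfl⟩ := Subgroup.mem_zpowers_iff.mp hx
  exact ((show Commute a y from h y hy).zpow_left k).eq

theorem comm_zpowers_zpowers {a b : G} (h : a * b = b * a) :
    Comm (Subgroup.zpowers a) (Subgroup.zpowers b) := by
  apply comm_zpowers_left
  intro y hy
  obtain ⟨k, rfl⟩ := Subgroup.mem_zpowers_iff.mp hy
  exact ((show Commute a b from h).zpow_right k).eq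

theorem Comm.le_centralizer {X Y : Subgroup G} (h : Comm X Y) :
    X ≤ Subgroup.centralizer (Y : Set G) := by
  intro x hx
  exact Subgroup.mem_centralizer_iff.mpr (fun y hy => (h x hx y hy).symm)

theorem exists_mul_of_mem_sup {X Y : Subgroup G} (h : Comm X Y) {e : G} (he : e ∈ X ⊔ Y) :
    ∃ x ∈ X, ∃ y ∈ Y, e = x * y := by
  let S : Subgroup G :=
    { carrier := {g | ∃ x ∈ X, ∃ y ∈ Y, g = x * y}
      one_mem' := ⟨1, X.one_mem, 1, Y.one_mem, by simp⟩
      mul_mem' := by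
        rintro _ _ ⟨x, hx, y, hy, rfl⟩ ⟨x', hx', y', hy', rfl⟩
        refine ⟨x * x', X.mul_mem hx hx', y * y', Y.mul_mem hy hy', ?_⟩
        have h1 := h x' hx' y hy
        calc x * y * (x' * y') = x * (y * x') * y' := by group
          _ = x * (x' * y) * y' := by rw [h1]
          _ = x * x' * (y * y') := by group
      inv_mem' := by
        rintro _ ⟨x, hx, y, hy, rfl⟩
        refine ⟨x⁻¹, X.inv_mem hx, y⁻¹, Y.inv_mem hy, ?_⟩
        have h1 := h x⁻¹ (X.inv_mem hx) y⁻¹ (Y.inv_mem hy)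
        rw [mul_inv_rev]
        exact h1.symm }
  have hle : X ⊔ Y ≤ S :=
    sup_le (fun x hx => ⟨x, hx, 1, Y.one_mem, by simp⟩) (fun y hy => ⟨1, X.one_mem, y, hy, by simp⟩)
  exact hle he

theorem comm_sup_left {X Y Z : Subgroup G} (hXY : Comm X Y) (hX : Comm X Z) (hY : Comm Y Z) :
    Comm (X ⊔ Y) Z := by
  intro e he z hz
  obtain ⟨x, hx, y, hy, rfl⟩ := exists_mul_of_mem_sup hXY he
  have h1 := hX x hx z hz
  have h2 := hY y hy z hz
  calc x * y * z = x * (y * z) := by group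
    _ = x * (z * y) := by rw [h2]
    _ = (x * z) * y := by group
    _ = z * x * y := by rw [h1]
    _ = z * (x * y) := by group

/-- The commutator identity behind the extraspecial configuration. -/
theorem core {a b y u : G} (hya : y * a = a * y) (hyb : y * b = b * y) (hua : u * a = a * u)
    (hub : u * b = b * u) (h : (a * y) * (b * u) = (b * u) * (a * y)) :
    a⁻¹ * b⁻¹ * a * b = u * y * u⁻¹ * y⁻¹ := by
  have h1 : a * b * (y * u) = b * a * (u * y) := by
    calc a * b * (y * u) = a * (b * y) * u := by group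
      _ = a * (y * b) * u := by rw [hyb]
      _ = (a * y) * (b * u) := by group
      _ = (b * u) * (a * y) := h
      _ = b * (u * a) * y := by group
      _ = b * (a * u) * y := by rw [hua]
      _ = b * a * (u * y) := by group
  calc a⁻¹ * b⁻¹ * a * b = (b * a)⁻¹ * (a * b * (y * u)) * (y * u)⁻¹ := by group
    _ = (b * a)⁻¹ * (b * a * (u * y)) * (y * u)⁻¹ := by rw [h1]
    _ = u * y * u⁻¹ * y⁻¹ := by group

section fin

variable [Finite G] {p : ℕ} [Fact p.Prime]

theorem isPGroup_zpowers {g : G} (h : g ^ p = 1) : IsPGroup p ↥(Subgroup.zpowers g) := by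
  rintro ⟨x, hx⟩
  obtain ⟨k, rfl⟩ := Subgroup.mem_zpowers_iff.mp hx
  refine ⟨1, Subtype.ext ?_⟩
  simp only [pow_one, Subgroup.coe_pow, Subgroup.coe_one]
  rw [← zpow_natCast, ← zpow_mul, mul_comm, zpow_mul, zpow_natCast, h, one_zpow]

theorem isPGroup_sup_of_le_centralizer {H L : Subgroup G} (hH : IsPGroup p H) (hL : IsPGroup p L)
    (h : H ≤ Subgroup.centralizer (L : Set G)) : IsPGroup p ↥(H ⊔ L) :=
  IsPGroup.to_sup_of_normal_right' hH hL (h.trans (Subgroup.centralizer_le_normalizer _))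

/-- Two elements of order dividing `p` whose commutator is central in the group they generate
generate a `p`-group. -/
theorem isPGroup_sup_zpowers {a b c : G} (ha : a ^ p = 1) (hb : b ^ p = 1)
    (hc : c = a⁻¹ * b⁻¹ * a * b) (hca : c * a = a * c) (hcb : c * b = b * c) :
    IsPGroup p ↥(Subgroup.zpowers a ⊔ Subgroup.zpowers b) := by
  have hconj : b⁻¹ * a * b = a * c := by rw [hc]; group
  have hcp : c ^ p = 1 := by
    have h1 : (a * c) ^ p = 1 := by
      rw [← hconj]
      have := conj_pow (i := p) (a := b⁻¹) (b := a)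
      rw [inv_inv] at this
      rw [this, ha]; group
    rw [(show Commute a c from hca.symm).mul_pow, ha, one_mul] at h1
    exact h1
  have h3 : c = b * a⁻¹ * b⁻¹ * a := by
    calc c = b * c * b⁻¹ := by rw [← hcb]; group
      _ = b * (a⁻¹ * b⁻¹ * a * b) * b⁻¹ := by rw [← hc]
      _ = b * a⁻¹ * b⁻¹ * a := by group
  have hconj' : b * a * b⁻¹ = a * c⁻¹ := by rw [h3]; group
  set E : Subgroup G := Subgroup.closure ({c, a} : Set G) with hE
  have hcE : c ∈ E := Subgroup.subset_closure (by simp)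
  have haE : a ∈ E := Subgroup.subset_closure (by simp)
  have hEp : IsPGroup p E := by
    have h1 : IsPGroup p ↥(Subgroup.zpowers c ⊔ Subgroup.zpowers a) :=
      isPGroup_sup_of_le_centralizer (isPGroup_zpowers hcp) (isPGroup_zpowers ha)
        (comm_zpowers_zpowers hca).le_centralizer
    refine h1.to_le ?_
    rw [hE, Subgroup.closure_le]
    rintro z hz
    rcases hz with rfl | rfl
    · exact Subgroup.mem_sup_left (Subgroup.mem_zpowers _)
    · exact Subgroup.mem_sup_right (Subgroup.mem_zpowers _)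
  have hbN : b ∈ Subgroup.normalizer (E : Set G) := by
    apply Cfsg.Agent.Lib.Helper21.mem_normalizer_of_conj_mem
    · apply Cfsg.Agent.Lib.Helper21.conj_closure_mem
      rintro d hd
      rcases hd with rfl | rfl
      · have : b * d * b⁻¹ = d := by rw [← hcb]; group
        rw [this]; exact hcE
      · rw [hconj']; exact E.mul_mem haE (E.inv_mem hcE)
    · intro e he
      have h4 : ∀ d ∈ ({c, a} : Set G), b⁻¹ * d * (b⁻¹)⁻¹ ∈ E := by
        rintro d hd
        rw [inv_inv]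
        rcases hd with rfl | rfl
        · have : b⁻¹ * d * b = d := by rw [mul_assoc, hcb]; group
          rw [this]; exact hcE
        · rw [hconj]; exact E.mul_mem haE hcE
      have := Cfsg.Agent.Lib.Helper21.conj_closure_mem (E := E) h4 e he
      rwa [inv_inv] at this
  have h5 : IsPGroup p ↥(Subgroup.zpowers b ⊔ E) :=
    IsPGroup.to_sup_of_normal_right' (isPGroup_zpowers hb) hEp (Subgroup.zpowers_le.mpr hbN)
  refine h5.to_le (sup_le ?_ le_sup_left)
  exact (Subgroup.zpowers_le.mpr haE).trans le_sup_right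

/-- The hypotheses on the family that do not involve centralizers. -/
structure Fam (p : ℕ) (K : Set (Subgroup G)) : Prop where
  card : ∀ X ∈ K, Nat.card ↥X = p
  conj : ∀ X ∈ K, ∀ g : G, X.map (MulAut.conj g).toMonoidHom ∈ K
  line : ∀ X ∈ K, ∀ Y ∈ K, X ≠ Y → Comm X Y →
      ∀ Z : Subgroup G, Z ≤ X ⊔ Y → Nat.card ↥Z = p → Z ∈ K

variable {K : Set (Subgroup G)}

theorem Fam.pow_eq_one (F : Fam p K) {X : Subgroup G} (hX : X ∈ K) {x : G} (hx : x ∈ X) :
    x ^ p = 1 := by
  have h2 : ((⟨x, hx⟩ : X) ^ p : X) = 1 := by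
    rw [← F.card X hX]; exact pow_card_eq_one'
  simpa using congrArg Subtype.val h2

theorem orderOf_eq_of_pow {x : G} (hx : x ^ p = 1) (hx1 : x ≠ 1) : orderOf x = p := by
  have hdvd : orderOf x ∣ p := orderOf_dvd_of_pow_eq_one hx
  rcases (Nat.Prime.eq_one_or_self_of_dvd (Fact.out : p.Prime) _ hdvd) with h | h
  · exact absurd (orderOf_eq_one_iff.mp h) hx1
  · exact h

theorem Fam.isPGroup (F : Fam p K) {X : Subgroup G} (hX : X ∈ K) : IsPGroup p X :=
  IsPGroup.of_card (n := 1) (by rw [F.card X hX, pow_one])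

theorem Fam.ne_bot (F : Fam p K) {X : Subgroup G} (hX : X ∈ K) : X ≠ ⊥ := by
  intro h
  have := F.card X hX
  rw [h, Subgroup.card_bot] at this
  exact (Fact.out : p.Prime).one_lt.ne this

theorem Fam.zpowers_eq (F : Fam p K) {X : Subgroup G} (hX : X ∈ K) {x : G} (hx : x ∈ X)
    (hx1 : x ≠ 1) : Subgroup.zpowers x = X := by
  have hle : Subgroup.zpowers x ≤ X := Subgroup.zpowers_le.mpr hx
  refine Subgroup.eq_of_le_of_card_ge hle ?_
  rw [Nat.card_zpowers, orderOf_eq_of_pow (F.pow_eq_one hX hx) hx1, F.card X hX]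

theorem Fam.comm_self (F : Fam p K) {X : Subgroup G} (hX : X ∈ K) : Comm X X := by
  intro x hx x' hx'
  by_cases h1 : x = 1
  · rw [h1]; simp
  · have hz := F.zpowers_eq hX hx h1
    rw [← hz] at hx'
    obtain ⟨k, rfl⟩ := Subgroup.mem_zpowers_iff.mp hx'
    exact ((Commute.refl x).zpow_right k).eq

theorem Fam.comm_of_gen (F : Fam p K) {X Y : Subgroup G} (hX : X ∈ K) {x : G} (hx : x ∈ X)
    (hx1 : x ≠ 1) (h : ∀ y ∈ Y, x * y = y * x) : Comm X Y := by
  rw [← F.zpowers_eq hX hx hx1]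
  exact comm_zpowers_left h

theorem Fam.line_mem (F : Fam p K) {X Y : Subgroup G} (hX : X ∈ K) (hY : Y ∈ K) (hne : X ≠ Y)
    (hc : Comm X Y) {e : G} (he : e ∈ X ⊔ Y) (he1 : e ≠ 1) : Subgroup.zpowers e ∈ K := by
  obtain ⟨x, hx, y, hy, rfl⟩ := exists_mul_of_mem_sup hc he
  have hp' : (x * y) ^ p = 1 := by
    rw [(show Commute x y from hc x hx y hy).mul_pow, F.pow_eq_one hX hx, F.pow_eq_one hY hy,
      one_mul]
  refine F.line X hX Y hY hne hc _ (Subgroup.zpowers_le.mpr he) ?_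
  rw [Nat.card_zpowers, orderOf_eq_of_pow hp' he1]

theorem Fam.comm_line (F : Fam p K) {X Y : Subgroup G} (hX : X ∈ K) (hY : Y ∈ K)
    (hc : Comm X Y) : Comm (X ⊔ Y) (X ⊔ Y) := by
  have h1 : Comm (X ⊔ Y) X := comm_sup_left hc (F.comm_self hX) hc.symm
  have h2 : Comm (X ⊔ Y) Y := comm_sup_left hc hc (F.comm_self hY)
  exact (comm_sup_left hc h1.symm h2.symm).symm

theorem exists_of_hb {X Y W : Subgroup G}
    (h : (X ⊔ Y) ⊓ Subgroup.centralizer (W : Set G) ≠ ⊥) :
    ∃ e ∈ X ⊔ Y, e ≠ 1 ∧ ∀ w ∈ W, e * w = w * e := by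
  obtain ⟨⟨e, he⟩, he1⟩ := (Subgroup.ne_bot_iff_exists_ne_one).mp h
  obtain ⟨h1, h2⟩ := Subgroup.mem_inf.mp he
  refine ⟨e, h1, fun h' => he1 (Subtype.ext h'), ?_⟩
  intro w hw
  exact (Subgroup.mem_centralizer_iff.mp h2 w hw).symm

/-- Pairwise commuting members of the family generate a group all of whose subgroups of order
`p` belong to the family. -/
theorem kpure (F : Fam p K) (R : Set (Subgroup G)) (hRK : ∀ V ∈ R, V ∈ K)
    (hcomm : ∀ V1 ∈ R, ∀ V2 ∈ R, Comm V1 V2) :
    ∀ a ∈ Subgroup.closure {k : G | ∃ V ∈ R, k ∈ V}, a ≠ 1 → Subgroup.zpowers a ∈ K := by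
  set T : Set G := {k : G | ∃ V ∈ R, k ∈ V} with hT
  have key : ∀ a ∈ Subgroup.closure T, a ∈ Subgroup.centralizer T ∧ a ^ p = 1 ∧
      (a = 1 ∨ Subgroup.zpowers a ∈ K) := by
    intro a ha
    induction ha using Subgroup.closure_induction with
    | mem a ha =>
      obtain ⟨V, hV, haV⟩ := ha
      refine ⟨?_, F.pow_eq_one (hRK V hV) haV, ?_⟩
      · rw [Subgroup.mem_centralizer_iff]
        rintro t ⟨V2, hV2, ht⟩
        exact hcomm V2 hV2 V hV t ht a haV
      · by_cases h1 : a = 1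
        · exact Or.inl h1
        · right
          rw [F.zpowers_eq (hRK V hV) haV h1]
          exact hRK V hV
    | one => exact ⟨Subgroup.one_mem _, one_pow _, Or.inl rfl⟩
    | mul a b ha' hb' iha ihb =>
      obtain ⟨hac, hap, haK⟩ := iha
      obtain ⟨hbc, hbp, hbK⟩ := ihb
      have hab : a * b = b * a := by
        have h1 := Subgroup.closure_le_centralizer_centralizer T hb'
        exact Subgroup.mem_centralizer_iff.mp h1 a hac
      have hp' : (a * b) ^ p = 1 := by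
        rw [(show Commute a b from hab).mul_pow, hap, hbp, one_mul]
      refine ⟨Subgroup.mul_mem _ hac hbc, hp', ?_⟩
      by_cases h1 : a * b = 1
      · exact Or.inl h1
      right
      rcases haK with ha1 | haK
      · rcases hbK with hb1 | hbK
        · exact absurd (by rw [ha1, hb1, one_mul]) h1
        · rw [ha1, one_mul]; exact hbK
      rcases hbK with hb1 | hbK
      · rw [hb1, mul_one]; exact haK
      by_cases hAB : Subgroup.zpowers a = Subgroup.zpowers b
      · have hbm : b ∈ Subgroup.zpowers a := by rw [hAB]; exact Subgroup.mem_zpowers b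
        have hmem : a * b ∈ Subgroup.zpowers a :=
          Subgroup.mul_mem _ (Subgroup.mem_zpowers a) hbm
        rw [F.zpowers_eq haK hmem h1]; exact haK
      · exact F.line_mem haK hbK hAB (comm_zpowers_zpowers hab)
          (Subgroup.mul_mem _ (Subgroup.mem_sup_left (Subgroup.mem_zpowers a))
            (Subgroup.mem_sup_right (Subgroup.mem_zpowers b))) h1
    | inv a ha' iha =>
      obtain ⟨hac, hap, haK⟩ := iha
      refine ⟨Subgroup.inv_mem _ hac, by rw [inv_pow, hap, inv_one], ?_⟩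
      rcases haK with ha1 | haK
      · left; rw [ha1, inv_one]
      · right; rw [Subgroup.zpowers_inv]; exact haK
  intro a ha ha1
  rcases (key a ha).2.2 with h | h
  · exact absurd h ha1
  · exact h

/-- The case of a `p`-subgroup: some member of the family is central in it. -/
theorem exists_central_member (F : Fam p K) (P : Subgroup G) (hP : IsPGroup p P)
    (X Y : Subgroup G) (hX : X ∈ K) (hY : Y ∈ K) (hc : Comm X Y)
    (hXP : X ≤ P) (hYP : Y ≤ P) :
    ∃ V ∈ K, V ≤ P ∧ V ≤ Subgroup.centralizer (P : Set G) := by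
  classical
  let 𝒮 : Set (Subgroup G) := {H | X ⊔ Y ≤ H ∧ H ≤ P ∧
    ∃ V ∈ K, V ≤ H ∧ V ≤ Subgroup.centralizer (H : Set G)}
  have h0 : X ⊔ Y ∈ 𝒮 := by
    refine ⟨le_rfl, sup_le hXP hYP, X, hX, le_sup_left, ?_⟩
    have hline := F.comm_line hX hY hc
    intro x hx
    exact Subgroup.mem_centralizer_iff.mpr (fun e he => hline e he x (Subgroup.mem_sup_left hx))
  obtain ⟨H, hH, hmax⟩ := wellFounded_gt.has_min 𝒮 ⟨_, h0⟩
  obtain ⟨hEH, hHP, V, hV, hVH, hVc⟩ := hH
  by_cases hHeq : H = P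
  · subst hHeq
    exact ⟨V, hV, hVH, hVc⟩
  · exfalso
    have hlt : H < P := lt_of_le_of_ne hHP hHeq
    have hlt2 := Cfsg.Agent.Lib.Helper13.lt_inf_normalizer_of_lt P H hP hlt
    have hNp : IsPGroup p ↥(P ⊓ Subgroup.normalizer (H : Set G)) := hP.to_le inf_le_left
    apply hmax (P ⊓ Subgroup.normalizer (H : Set G)) ?_ hlt2
    -- the central members of `H`
    set R : Set (Subgroup G) :=
      {V | V ∈ K ∧ V ≤ H ∧ V ≤ Subgroup.centralizer (H : Set G)} with hR
    set T : Set G := {k : G | ∃ V ∈ R, k ∈ V} with hT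
    have hCH : Subgroup.closure T ≤ H := by
      rw [Subgroup.closure_le]
      rintro k ⟨V1, hV1, hk⟩
      exact hV1.2.1 hk
    have hCne : Subgroup.closure T ≠ ⊥ := by
      intro h
      apply F.ne_bot hV
      rw [eq_bot_iff, ← h]
      intro k hk
      exact Subgroup.subset_closure ⟨V, ⟨hV, hVH, hVc⟩, hk⟩
    have hRcomm : ∀ V1 ∈ R, ∀ V2 ∈ R, Comm V1 V2 := by
      intro V1 hV1 V2 hV2 v1 hv1 v2 hv2
      exact (Subgroup.mem_centralizer_iff.mp (hV1.2.2 hv1) v2 (hV2.2.1 hv2)).symm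
    have hTconj : ∀ n ∈ P ⊓ Subgroup.normalizer (H : Set G), ∀ d ∈ T, n * d * n⁻¹ ∈ T := by
      rintro n hn d ⟨V1, ⟨hV1K, hV1H, hV1c⟩, hd⟩
      have hnH : n ∈ Subgroup.normalizer (H : Set G) := (Subgroup.mem_inf.mp hn).2
      refine ⟨V1.map (MulAut.conj n).toMonoidHom, ⟨F.conj V1 hV1K n, ?_, ?_⟩, ⟨d, hd, by simp⟩⟩
      · rintro _ ⟨v, hv, rfl⟩
        simp only [MulEquiv.coe_toMonoidHom, MulAut.conj_apply]
        exact (Subgroup.mem_normalizer_iff.mp hnH v).mp (hV1H hv)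
      · rintro _ ⟨v, hv, rfl⟩
        simp only [MulEquiv.coe_toMonoidHom, MulAut.conj_apply]
        rw [Subgroup.mem_centralizer_iff]
        intro h hh
        have h1 : n⁻¹ * h * n ∈ H := (Subgroup.mem_normalizer_iff''.mp hnH h).mp hh
        have h2 := Subgroup.mem_centralizer_iff.mp (hV1c hv) _ h1
        calc h * (n * v * n⁻¹) = n * ((n⁻¹ * h * n) * v) * n⁻¹ := by group
          _ = n * (v * (n⁻¹ * h * n)) * n⁻¹ := by rw [h2]
          _ = n * v * n⁻¹ * h := by group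
    have hNC : P ⊓ Subgroup.normalizer (H : Set G) ≤
        Subgroup.normalizer (Subgroup.closure T : Set G) := by
      intro n hn
      apply Cfsg.Agent.Lib.Helper21.mem_normalizer_of_conj_mem
      · apply Cfsg.Agent.Lib.Helper21.conj_closure_mem
        intro d hd
        exact Subgroup.subset_closure (hTconj n hn d hd)
      · intro e he
        have h4 : ∀ d ∈ T, n⁻¹ * d * (n⁻¹)⁻¹ ∈ Subgroup.closure T := by
          intro d hd
          exact Subgroup.subset_closure (hTconj n⁻¹ (Subgroup.inv_mem _ hn) d hd)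
        have := Cfsg.Agent.Lib.Helper21.conj_closure_mem (E := Subgroup.closure T) h4 e he
        rwa [inv_inv] at this
    obtain ⟨x, hxC, hxo, hxN⟩ := Cfsg.Agent.Lib.Helper17.exists_central_order_p
      (R₀ := Subgroup.closure T) (R₁ := P ⊓ Subgroup.normalizer (H : Set G))
      hNp (hCH.trans hlt2.le) hNC hCne
    have hx1 : x ≠ 1 := by
      intro h
      rw [h, orderOf_one] at hxo
      exact (Fact.out : p.Prime).one_lt.ne hxo
    have hxK : Subgroup.zpowers x ∈ K :=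
      kpure F R (fun V1 hV1 => hV1.1) hRcomm x hxC hx1
    refine ⟨hEH.trans hlt2.le, inf_le_left, Subgroup.zpowers x, hxK, ?_, ?_⟩
    · exact Subgroup.zpowers_le.mpr (hlt2.le (hCH hxC))
    · exact Subgroup.zpowers_le.mpr (Subgroup.mem_centralizer_iff.mpr (fun n hn => hxN n hn))

/-- Baer–Suzuki for a conjugation-closed family of subgroups. -/
theorem normal_pgroup_of_pairs (T : Set (Subgroup G))
    (hconj : ∀ X ∈ T, ∀ g : G, X.map (MulAut.conj g).toMonoidHom ∈ T)
    (hpair : ∀ X ∈ T, ∀ W ∈ T, IsPGroup p ↥(X ⊔ W)) :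
    ∃ N : Subgroup G, N.Normal ∧ IsPGroup p N ∧ ∀ X ∈ T, X ≤ N := by
  let E : Set G := {k | ∃ X ∈ T, k ∈ X}
  have hE : ∀ g : G, ∀ k ∈ E, g * k * g⁻¹ ∈ E := by
    rintro g k ⟨X, hX, hk⟩
    exact ⟨_, hconj X hX g, ⟨k, hk, by simp⟩⟩
  have h2 : ∀ a ∈ E, ∀ b ∈ E, IsPGroup p (Subgroup.closure ({a, b} : Set G)) := by
    rintro a ⟨X, hX, ha⟩ b ⟨W, hW, hb⟩
    refine (hpair X hX W hW).to_le ?_
    rw [Subgroup.closure_le]
    rintro z hz
    rcases hz with rfl | rfl
    · exact Subgroup.mem_sup_left ha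
    · exact Subgroup.mem_sup_right hb
  refine ⟨Subgroup.closure E, Cfsg.Agent.Lib.Helper21.closure_normal_of_conj_invariant E hE,
    Cfsg.Agent.Lib.Helper21.baer_suzuki_set E hE h2, ?_⟩
  intro X hX x hx
  exact Subgroup.subset_closure ⟨X, hX, hx⟩

theorem exists_partner (F : Fam p K)
    (hex : ∃ X ∈ K, ∃ Y ∈ K, X ≠ Y ∧ Comm X Y)
    (hb : ∀ X ∈ K, ∀ Y ∈ K, X ≠ Y → Comm X Y →
      ∀ W ∈ K, (X ⊔ Y) ⊓ Subgroup.centralizer (W : Set G) ≠ ⊥)
    (X : Subgroup G) (hX : X ∈ K) : ∃ Y ∈ K, Y ≠ X ∧ Comm X Y := by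
  obtain ⟨X0, hX0, Y0, hY0, hne0, hc0⟩ := hex
  by_cases hle : X ≤ X0 ⊔ Y0
  · have hline := F.comm_line hX0 hY0 hc0
    by_cases h : X0 = X
    · refine ⟨Y0, hY0, ?_, ?_⟩
      · intro h'; exact hne0 (h.trans h'.symm)
      · rw [← h]; exact hc0
    · refine ⟨X0, hX0, h, ?_⟩
      intro x hx x0 hx0
      exact hline x (hle hx) x0 (Subgroup.mem_sup_left hx0)
  · obtain ⟨e, he, he1, heX⟩ := exists_of_hb (hb X0 hX0 Y0 hY0 hne0 hc0 X hX)
    refine ⟨Subgroup.zpowers e, F.line_mem hX0 hY0 hne0 hc0 he he1, ?_, ?_⟩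
    · intro h
      apply hle
      rw [← h]
      exact Subgroup.zpowers_le.mpr he
    · exact (comm_zpowers_left heX).symm

/-- If no member of the family commutes with all members, any two members generate a
`p`-group. -/
theorem pair_isPGroup (F : Fam p K)
    (hex : ∃ X ∈ K, ∃ Y ∈ K, X ≠ Y ∧ Comm X Y)
    (hb : ∀ X ∈ K, ∀ Y ∈ K, X ≠ Y → Comm X Y →
      ∀ W ∈ K, (X ⊔ Y) ⊓ Subgroup.centralizer (W : Set G) ≠ ⊥)
    (hR : ∀ V ∈ K, ∃ W ∈ K, ¬ Comm V W)
    (X W : Subgroup G) (hX : X ∈ K) (hW : W ∈ K) : IsPGroup p ↥(X ⊔ W) := by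
  classical
  by_cases hXW : Comm X W
  · exact isPGroup_sup_of_le_centralizer (F.isPGroup hX) (F.isPGroup hW) hXW.le_centralizer
  -- a partner of `X`
  obtain ⟨Y', hY', hY'X, hXY'⟩ := exists_partner F hex hb X hX
  obtain ⟨e', he', he'1, he'W⟩ := exists_of_hb (hb X hX Y' hY' (Ne.symm hY'X) hXY' W hW)
  obtain ⟨Y, hYdef⟩ : ∃ Y : Subgroup G, Y = Subgroup.zpowers e' := ⟨_, rfl⟩
  have hY : Y ∈ K := by rw [hYdef]; exact F.line_mem hX hY' (Ne.symm hY'X) hXY' he' he'1
  have hYW : Comm Y W := by rw [hYdef]; exact comm_zpowers_left he'W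
  have hline0 := F.comm_line hX hY' hXY'
  have hYX : Comm Y X := by
    rw [hYdef]
    exact comm_zpowers_left (fun x hx => hline0 e' he' x (Subgroup.mem_sup_left hx))
  have hXY : Comm X Y := hYX.symm
  have hWY : Comm W Y := hYW.symm
  have hXneY : X ≠ Y := by
    intro h; apply hXW; rw [h]; exact hYW
  have hWneY : W ≠ Y := by
    intro h; apply hXW; rw [h]; exact hXY
  -- a member not commuting with `Y`
  obtain ⟨U, hU, hYU⟩ := hR Y hY
  unfold Comm at hYU
  push Not at hYU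
  obtain ⟨y0, hy0, u, hu, hne⟩ := hYU
  have hkey : ∀ y ∈ Y, y ≠ 1 → y * u ≠ u * y := by
    intro y hy hy1 hc
    have hYz := F.zpowers_eq hY hy hy1
    rw [← hYz] at hy0
    obtain ⟨k, rfl⟩ := Subgroup.mem_zpowers_iff.mp hy0
    exact hne ((show Commute y u from hc).zpow_left k).eq
  -- anything commuting with `Y` elementwise differs from `u`-like elements
  have hkey2 : ∀ g : G, (∀ y ∈ Y, g * y = y * g) → ∀ k : ℤ, u ≠ g ^ k := by
    intro g hg k h
    apply hne
    rw [h]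
    exact ((show Commute g y0 from hg y0 hy0).zpow_left k).eq.symm
  -- the points `X'`, `W'` on the lines `XY`, `WY` commuting with `U`
  obtain ⟨e1, he1, he1ne, he1U⟩ := exists_of_hb (hb X hX Y hY hXneY hXY U hU)
  obtain ⟨x1, hx1, y1, hy1, he1eq⟩ := exists_mul_of_mem_sup hXY he1
  have hx1ne : x1 ≠ 1 := by
    intro h
    have h1 : e1 ∈ Y := by rw [he1eq, h, one_mul]; exact hy1
    exact hkey e1 h1 he1ne (he1U u hu)
  obtain ⟨e2, he2, he2ne, he2U⟩ := exists_of_hb (hb W hW Y hY hWneY hWY U hU)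
  obtain ⟨w2, hw2, y2, hy2, he2eq⟩ := exists_mul_of_mem_sup hWY he2
  have hw2ne : w2 ≠ 1 := by
    intro h
    have h1 : e2 ∈ Y := by rw [he2eq, h, one_mul]; exact hy2
    exact hkey e2 h1 he2ne (he2U u hu)
  have hX' : Subgroup.zpowers e1 ∈ K := F.line_mem hX hY hXneY hXY he1 he1ne
  have hW' : Subgroup.zpowers e2 ∈ K := F.line_mem hW hY hWneY hWY he2 he2ne
  have hline1 := F.comm_line hX hY hXY
  have hline2 := F.comm_line hW hY hWY
  have he1Y : ∀ y ∈ Y, e1 * y = y * e1 := fun y hy => hline1 e1 he1 y (Subgroup.mem_sup_right hy)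
  have he2Y : ∀ y ∈ Y, e2 * y = y * e2 := fun y hy => hline2 e2 he2 y (Subgroup.mem_sup_right hy)
  have hX'Y : Comm (Subgroup.zpowers e1) Y := comm_zpowers_left he1Y
  have hW'Y : Comm (Subgroup.zpowers e2) Y := comm_zpowers_left he2Y
  have hX'U : Comm (Subgroup.zpowers e1) U := comm_zpowers_left he1U
  have hW'U : Comm (Subgroup.zpowers e2) U := comm_zpowers_left he2U
  have hX'neY : Subgroup.zpowers e1 ≠ Y := by
    intro h
    have he1Y' : e1 ∈ Y := by rw [← h]; exact Subgroup.mem_zpowers e1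
    have hx1Y : x1 ∈ Y := by
      have : x1 = e1 * y1⁻¹ := by rw [he1eq]; group
      rw [this]; exact Y.mul_mem he1Y' (Y.inv_mem hy1)
    apply hXW
    exact F.comm_of_gen hX hx1 hx1ne (fun w hw => hYW x1 hx1Y w hw)
  have hW'neU : Subgroup.zpowers e2 ≠ U := by
    intro h
    have hu' : u ∈ Subgroup.zpowers e2 := by rw [h]; exact hu
    obtain ⟨k, hk⟩ := Subgroup.mem_zpowers_iff.mp hu'
    exact hkey2 e2 he2Y k hk.symm
  have hbu : e2 * u ≠ 1 := by
    intro h
    have h1 : u = e2⁻¹ := eq_inv_of_mul_eq_one_right h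
    exact hkey2 e2 he2Y (-1) (by rw [h1, zpow_neg, zpow_one])
  have hT : Subgroup.zpowers (e2 * u) ∈ K :=
    F.line_mem hW' hU hW'neU hW'U
      (Subgroup.mul_mem _ (Subgroup.mem_sup_left (Subgroup.mem_zpowers e2))
        (Subgroup.mem_sup_right hu)) hbu
  obtain ⟨e, he, hene, heT⟩ := exists_of_hb (hb _ hX' Y hY hX'neY hX'Y _ hT)
  obtain ⟨a', ha', y', hy', heeq⟩ := exists_mul_of_mem_sup hX'Y he
  have hcomm : (a' * y') * (e2 * u) = (e2 * u) * (a' * y') := by
    rw [← heeq]; exact heT _ (Subgroup.mem_zpowers _)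
  have hya : y' * a' = a' * y' := (hX'Y a' ha' y' hy').symm
  have hyb : y' * e2 = e2 * y' := (he2Y y' hy').symm
  have hua : u * a' = a' * u := (hX'U a' ha' u hu).symm
  have hub : u * e2 = e2 * u := (he2U u hu).symm
  have hcore := core hya hyb hua hub hcomm
  have ha'ne : a' ≠ 1 := by
    intro h
    have h' : u * y' * u⁻¹ * y'⁻¹ = 1 := by rw [← hcore, h]; group
    have h2 : u * y' = y' * u := by
      calc u * y' = (u * y' * u⁻¹ * y'⁻¹) * (y' * u) := by group
        _ = y' * u := by rw [h', one_mul]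
    have hy'1 : y' ≠ 1 := by
      intro h3
      apply hene
      rw [heeq, h, h3, one_mul]
    exact hkey y' hy' hy'1 h2.symm
  have hca : (a'⁻¹ * e2⁻¹ * a' * e2) * a' = a' * (a'⁻¹ * e2⁻¹ * a' * e2) := by
    rw [hcore]
    have hu' : Commute u a' := hua
    have hy'' : Commute y' a' := hya
    exact (((hu'.mul_left hy'').mul_left hu'.inv_left).mul_left hy''.inv_left).eq
  have hcb : (a'⁻¹ * e2⁻¹ * a' * e2) * e2 = e2 * (a'⁻¹ * e2⁻¹ * a' * e2) := by
    rw [hcore]
    have hu' : Commute u e2 := hub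
    have hy'' : Commute y' e2 := hyb
    exact (((hu'.mul_left hy'').mul_left hu'.inv_left).mul_left hy''.inv_left).eq
  have hP : IsPGroup p ↥(Subgroup.zpowers a' ⊔ Subgroup.zpowers e2) :=
    isPGroup_sup_zpowers (F.pow_eq_one hX' ha') (F.pow_eq_one hW' (Subgroup.mem_zpowers e2))
      rfl hca hcb
  have hza' : Subgroup.zpowers a' = Subgroup.zpowers e1 := F.zpowers_eq hX' ha' ha'ne
  -- assemble
  have hcent : Subgroup.zpowers a' ⊔ Subgroup.zpowers e2 ≤ Subgroup.centralizer (Y : Set G) := by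
    rw [hza']
    exact sup_le hX'Y.le_centralizer hW'Y.le_centralizer
  have hbig := isPGroup_sup_of_le_centralizer hP (F.isPGroup hY) hcent
  refine hbig.to_le (sup_le ?_ ?_)
  · rw [← F.zpowers_eq hX hx1 hx1ne, Subgroup.zpowers_le]
    have : x1 = e1 * y1⁻¹ := by rw [he1eq]; group
    rw [this]
    refine Subgroup.mul_mem _ (Subgroup.mem_sup_left (Subgroup.mem_sup_left ?_))
      (Subgroup.mem_sup_right (Y.inv_mem hy1))
    rw [hza']; exact Subgroup.mem_zpowers e1
  · rw [← F.zpowers_eq hW hw2 hw2ne, Subgroup.zpowers_le]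
    have : w2 = e2 * y2⁻¹ := by rw [he2eq]; group
    rw [this]
    exact Subgroup.mul_mem _ (Subgroup.mem_sup_left (Subgroup.mem_sup_right (Subgroup.mem_zpowers e2)))
      (Subgroup.mem_sup_right (Y.inv_mem hy2))

end fin


/-- Let p be a prime and K a set of subgroups of order p of a finite group G, closed under conjugation, such that at least two distinct members of K commute elementwise, and whenever two distinct members X, Y of K commute: every subgroup of order p of the group XY they generate belongs to K, and every member W of K has centralizer meeting XY nontrivially. Then some member V of K commutes elementwise with every member of K and lies in O_p(G); in particular G is not simple. -/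
theorem result {G : Type*} [Group G] [Finite G]
    {p : ℕ} (hp : p.Prime) (K : Set (Subgroup G)) (hK : ∀ X ∈ K, Nat.card ↥X = p)
    (hKc : ∀ X ∈ K, ∀ g : G, X.map (MulAut.conj g).toMonoidHom ∈ K)
    (hex : ∃ X ∈ K, ∃ Y ∈ K, X ≠ Y ∧ ∀ x ∈ X, ∀ y ∈ Y, x * y = y * x)
    (ha : ∀ X ∈ K, ∀ Y ∈ K, X ≠ Y → (∀ x ∈ X, ∀ y ∈ Y, x * y = y * x) →
      ∀ Z : Subgroup G, Z ≤ X ⊔ Y → Nat.card ↥Z = p → Z ∈ K)
    (hb : ∀ X ∈ K, ∀ Y ∈ K, X ≠ Y → (∀ x ∈ X, ∀ y ∈ Y, x * y = y * x) →
      ∀ W ∈ K, (X ⊔ Y) ⊓ Subgroup.centralizer (W : Set G) ≠ ⊥) :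
    (∃ V ∈ K, (∀ W ∈ K, ∀ v ∈ V, ∀ w ∈ W, v * w = w * v) ∧ V ≤ Cfsg.pCore p G) ∧ ¬ IsSimpleGroup G := by
  haveI : Fact p.Prime := ⟨hp⟩
  classical
  have F : Fam p K := ⟨hK, hKc, ha⟩
  have hex' : ∃ X ∈ K, ∃ Y ∈ K, X ≠ Y ∧ Comm X Y := hex
  -- existence of a member commuting with all members
  have hV : ∃ V ∈ K, ∀ W ∈ K, Comm V W := by
    by_contra hcon
    push Not at hcon
    obtain ⟨N, hNn, hNp, hNle⟩ := normal_pgroup_of_pairs K hKc
      (fun X hX W hW => pair_isPGroup F hex' hb hcon X W hX hW)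
    obtain ⟨X0, hX0, Y0, hY0, hne0, hc0⟩ := hex'
    obtain ⟨V, hVK, hVN, hVc⟩ := exists_central_member F N hNp X0 Y0 hX0 hY0 hc0
      (hNle X0 hX0) (hNle Y0 hY0)
    obtain ⟨W, hW, hnc⟩ := hcon V hVK
    apply hnc
    intro v hv w hw
    exact (Subgroup.mem_centralizer_iff.mp (hVc hv) w (hNle W hW hw)).symm
  obtain ⟨V, hVK, hVall⟩ := hV
  -- the radical
  set R0 : Set (Subgroup G) := {V' | V' ∈ K ∧ ∀ W ∈ K, Comm V' W} with hR0
  have hR0conj : ∀ X ∈ R0, ∀ g : G, X.map (MulAut.conj g).toMonoidHom ∈ R0 := by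
    rintro X ⟨hXK, hXall⟩ g
    refine ⟨hKc X hXK g, ?_⟩
    intro W hW
    rintro _ ⟨v, hv, rfl⟩ w hw
    simp only [MulEquiv.coe_toMonoidHom, MulAut.conj_apply]
    have hW' := hKc W hW g⁻¹
    have hw' : g⁻¹ * w * g ∈ W.map (MulAut.conj g⁻¹).toMonoidHom := ⟨w, hw, by simp⟩
    have h1 := hXall _ hW' v hv _ hw'
    calc g * v * g⁻¹ * w = g * (v * (g⁻¹ * w * g)) * g⁻¹ := by group
      _ = g * ((g⁻¹ * w * g) * v) * g⁻¹ := by rw [h1]
      _ = w * (g * v * g⁻¹) := by group
  have hR0pair : ∀ X ∈ R0, ∀ W ∈ R0, IsPGroup p ↥(X ⊔ W) := by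
    rintro X ⟨hXK, hXall⟩ W ⟨hWK, _⟩
    exact isPGroup_sup_of_le_centralizer (F.isPGroup hXK) (F.isPGroup hWK)
      (hXall W hWK).le_centralizer
  obtain ⟨N, hNn, hNp, hNle⟩ := normal_pgroup_of_pairs R0 hR0conj hR0pair
  have hVN : V ≤ N := hNle V ⟨hVK, hVall⟩
  have hNcore : N ≤ Cfsg.pCore p G := le_sSup ⟨hNn, hNp⟩
  refine ⟨⟨V, hVK, ?_, hVN.trans hNcore⟩, ?_⟩
  · intro W hW v hv w hw
    exact hVall W hW v hv w hw
  · intro hs
    haveI := hs
    have hNbot : N ≠ ⊥ := by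
      intro h
      apply F.ne_bot hVK
      rw [eq_bot_iff, ← h]
      exact hVN
    have hNtop : N = ⊤ := (hNn.eq_bot_or_eq_top).resolve_left hNbot
    have hG : IsPGroup p G := by
      have h1 := hNp
      rw [hNtop] at h1
      exact h1.of_equiv Subgroup.topEquiv
    haveI : Nontrivial G := IsSimpleGroup.toNontrivial
    have hZ : Subgroup.center G ≠ ⊥ := (hG.bot_lt_center).ne'
    have hZtop : Subgroup.center G = ⊤ :=
      ((inferInstance : (Subgroup.center G).Normal).eq_bot_or_eq_top).resolve_left hZ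
    have hnormal : ∀ X : Subgroup G, X.Normal := by
      intro X
      constructor
      intro n hn g
      have hnz : n ∈ Subgroup.center G := by rw [hZtop]; exact Subgroup.mem_top n
      have h1 : g * n = n * g := Subgroup.mem_center_iff.mp hnz g
      have : g * n * g⁻¹ = n := by rw [h1]; group
      rw [this]; exact hn
    obtain ⟨X0, hX0, Y0, hY0, hne0, hc0⟩ := hex'
    have hX0top : X0 = ⊤ := ((hnormal X0).eq_bot_or_eq_top).resolve_left (F.ne_bot hX0)
    have hY0top : Y0 = ⊤ := ((hnormal Y0).eq_bot_or_eq_top).resolve_left (F.ne_bot hY0)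
    exact hne0 (hX0top.trans hY0top.symm)

end Cfsg.Agent.S3196
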