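import Cfsg.Statements.S3200
import Cfsg.Agent.Lib.Helper22.PRegular
import Cfsg.Agent.Lib.Helper1.Hall
import Cfsg.Agent.Lib.Helper2.BurnsidePQ

set_option autoImplicit false
open Cfsg

namespace Cfsg.Agent.S3200

open Subgroup
open scoped Pointwise
open Cfsg.Agent.Lib.Helper22 Cfsg.Agent.Lib.Helper1 Cfsg.Agent.Lib.Helper2

universe u

/-- Numerical facts about a Sylow `2`-subgroup with a complement. -/
theorem card_facts {H : Type u} [Group H] [Finite H] (S : Sylow 2 H) (C : Subgroup H)
    (hSC : IsComplement' (S : Subgroup H) C) :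
    (∃ k : ℕ, Nat.card (S : Subgroup H) = 2 ^ k ∧ C.index = 2 ^ k) ∧ ¬ 2 ∣ Nat.card C := by
  have h1 := hSC.card_mul_card
  obtain ⟨k, hk⟩ := IsPGroup.iff_card.mp S.2
  have h2 : C.index = Nat.card (S : Subgroup H) := by
    have h3 := Subgroup.card_mul_index C
    rw [← h1, mul_comm] at h3
    exact Nat.eq_of_mul_eq_mul_right Nat.card_pos h3
  have h4 : (S : Subgroup H).index = Nat.card C := by
    have h3 := Subgroup.card_mul_index (S : Subgroup H)
    rw [← h1] at h3
    exact Nat.eq_of_mul_eq_mul_left Nat.card_pos h3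
  refine ⟨⟨k, hk, by rw [h2, hk]⟩, ?_⟩
  rw [← h4]
  exact S.not_dvd_index

theorem pstar_of_complement {H : Type u} [Group H] [Finite H] (S : Sylow 2 H) (C : Subgroup H)
    (hab : ∀ a ∈ C, ∀ b ∈ C, a * b = b * a) (hSC : IsComplement' (S : Subgroup H) C) :
    PStar 2 H := by
  obtain ⟨⟨k, hk, hidx⟩, hodd⟩ := card_facts S C hSC
  intro x hx
  obtain ⟨g, hg⟩ := exists_conj_mem_of_abelian_complement 2 _ H rfl C hab hodd ⟨k, hidx⟩ x hx
  have hle : MulAut.conj g • C ≤ centralizer ({x} : Set H) := by
    intro c hc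
    rw [mem_conj_smul] at hc
    rw [mem_centralizer_singleton_iff]
    have h1 := hab _ hc _ hg
    calc c * x = g * ((g⁻¹ * c * g) * (g⁻¹ * x * g)) * g⁻¹ := by group
      _ = g * ((g⁻¹ * x * g) * (g⁻¹ * c * g)) * g⁻¹ := by rw [h1]
      _ = x * c := by group
  have hidx' : (MulAut.conj g • C).index = 2 ^ k := by
    rw [conj_smul_eq_map, ← hidx]
    exact Subgroup.index_map_equiv C (MulAut.conj g)
  have hdvd : (centralizer ({x} : Set H)).index ∣ 2 ^ k := by
    rw [← hidx']; exact Subgroup.index_dvd_of_le hle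
  exact dvd_prime_pow_exists Nat.prime_two hdvd

theorem solvable_of_pstar : ∀ (n : ℕ) (G : Type u) [Group G] [Finite G], Nat.card G = n →
    PStar 2 G → Group.IsSolvable G := by
  intro n
  induction n using Nat.strong_induction_on with
  | _ n ih =>
  intro G _ _ hn hP
  classical
  by_cases hnorm : ∃ N : Subgroup G, N.Normal ∧ N ≠ ⊥ ∧ N ≠ ⊤
  · obtain ⟨N, hN, hNbot, hNtop⟩ := hnorm
    have hcardN : Nat.card N < n := by
      rw [← hn]
      apply lt_of_le_of_ne (Subgroup.card_le_card_group N)
      intro h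
      exact hNtop ((Subgroup.card_eq_iff_eq_top N).mp h)
    have hcardQ : Nat.card (G ⧸ N) < n := by
      rw [← hn, Subgroup.card_eq_card_quotient_mul_card_subgroup N]
      have h1 : 1 < Nat.card N := by
        rw [Subgroup.one_lt_card_iff_ne_bot]; exact hNbot
      have h2 : 0 < Nat.card (G ⧸ N) := Nat.card_pos
      nlinarith
    haveI : Group.IsSolvable N := ih _ hcardN N rfl (hP.subgroup Nat.prime_two N)
    haveI : Group.IsSolvable (G ⧸ N) := ih _ hcardQ (G ⧸ N) rfl (hP.quotient Nat.prime_two N)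
    apply Group.isSolvable_of_ker_le_range N.subtype (QuotientGroup.mk' N)
    rw [QuotientGroup.ker_mk', Subgroup.range_subtype]
  · rcases subsingleton_or_nontrivial G with hG | hG
    · infer_instance
    · haveI : IsSimpleGroup G := ⟨fun K hK => by
        by_contra hcon
        rw [not_or] at hcon
        exact hnorm ⟨K, hK, hcon.1, hcon.2⟩⟩
      by_cases h2 : IsPGroup 2 G
      · haveI := h2.isNilpotent
        infer_instance
      · -- there is a nontrivial element of odd order
        have hex : ∃ x : G, x ≠ 1 ∧ (orderOf x).Coprime 2 := by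
          by_contra hne
          push Not at hne
          apply h2
          rw [IsPGroup.iff_card]
          have hdvd : ∀ q : ℕ, q.Prime → q ∣ Nat.card G → q = 2 := by
            intro q hq hqd
            haveI : Fact q.Prime := ⟨hq⟩
            obtain ⟨y, hy⟩ := exists_prime_orderOf_dvd_card' q hqd
            by_contra hq2
            have hy1 : y ≠ 1 := by
              intro h
              rw [h, orderOf_one] at hy
              exact hq.one_lt.ne hy
            apply hne y hy1
            rw [hy]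
            exact (Nat.coprime_primes hq Nat.prime_two).mpr hq2
          exact ⟨_, Nat.eq_prime_pow_of_unique_prime_dvd Nat.card_pos.ne'
            (fun {q} hq hqd => hdvd q hq hqd)⟩
        obtain ⟨x, hx1, hxo⟩ := hex
        obtain ⟨k, hk⟩ := hP x hxo
        haveI : Fintype G := Fintype.ofFinite G
        have hprime := prime_card_of_prime_pow_class 2 k Nat.prime_two x hx1 hk
        haveI : Fact (Nat.card G).Prime := ⟨hprime⟩
        haveI := isCyclic_of_prime_card (α := G) rfl
        have hcm : IsMulCommutative G := IsCyclic.isMulCommutative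
        have hcomm : ∀ a b : G, a * b = b * a := fun a b => hcm.is_comm.comm a b
        let _ : CommGroup G := { ‹Group G› with mul_comm := hcomm }
        infer_instance

theorem abelian_of_le_conj {H : Type u} [Group H] (C K : Subgroup H)
    (hab : ∀ a ∈ C, ∀ b ∈ C, a * b = b * a) (g : H) (hK : K ≤ MulAut.conj g • C) :
    ∀ a ∈ K, ∀ b ∈ K, a * b = b * a := by
  intro a ha b hb
  have h1 := hK ha
  have h2 := hK hb
  rw [mem_conj_smul] at h1 h2
  have h3 := hab _ h1 _ h2
  calc a * b = g * ((g⁻¹ * a * g) * (g⁻¹ * b * g)) * g⁻¹ := by group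
    _ = g * ((g⁻¹ * b * g) * (g⁻¹ * a * g)) * g⁻¹ := by rw [h3]
    _ = b * a := by group

theorem subgroup_part {H : Type u} [Group H] [Finite H] [Group.IsSolvable H]
    (S : Sylow 2 H) (C : Subgroup H)
    (hab : ∀ a ∈ C, ∀ b ∈ C, a * b = b * a) (hSC : IsComplement' (S : Subgroup H) C)
    (L : Subgroup H) :
    ∃ (P : Sylow 2 ↥L) (D : Subgroup ↥L), IsMulCommutative ↥D ∧
      Subgroup.IsComplement' (P : Subgroup ↥L) D := by
  obtain ⟨⟨k, hk, hidx⟩, hodd⟩ := card_facts S C hSC
  have P : Sylow 2 L := default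
  have hLcard : Nat.card L = (P : Subgroup L).index * Nat.card (P : Subgroup L) :=
    ((P : Subgroup L).index_mul_card).symm
  have hcop : ((P : Subgroup L).index).Coprime (Nat.card (P : Subgroup L)) :=
    (Sylow.card_coprime_index P).symm
  obtain ⟨D, hD⟩ := hall_exists (G := L) _ _ hLcard hcop
  have hDodd : ¬ 2 ∣ Nat.card D := by rw [hD]; exact P.not_dvd_index
  refine ⟨P, D, ?_, ?_⟩
  · -- D is abelian
    have hcardK : Nat.card (D.map L.subtype) = Nat.card D :=
      Subgroup.card_map_of_injective L.subtype_injective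
    have hHcard : Nat.card H = Nat.card C * Nat.card (S : Subgroup H) := by
      rw [mul_comm]; exact hSC.card_mul_card.symm
    have hcop2 : (Nat.card C).Coprime (Nat.card (S : Subgroup H)) := by
      rw [hk]
      exact Nat.Coprime.pow_right k
        ((Nat.Prime.coprime_iff_not_dvd Nat.prime_two).mpr hodd).symm
    have hK : (Nat.card (D.map L.subtype)).Coprime (Nat.card (S : Subgroup H)) := by
      rw [hk, hcardK]
      exact Nat.Coprime.pow_right k
        ((Nat.Prime.coprime_iff_not_dvd Nat.prime_two).mpr hDodd).symm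
    obtain ⟨g, hg⟩ := hall_le_conj (G := H) _ _ hHcard hcop2 C (D.map L.subtype) rfl hK
    have habK := abelian_of_le_conj C _ hab g hg
    refine ⟨⟨fun a b => ?_⟩⟩
    apply Subtype.ext
    apply Subtype.ext
    have := habK (a : L) ⟨a, a.2, rfl⟩ (b : L) ⟨b, b.2, rfl⟩
    simpa using this
  · apply Subgroup.isComplement'_of_coprime
    · rw [hD, mul_comm]; exact hLcard.symm
    · rw [hD]; exact hcop.symm

theorem quotient_part {H : Type u} [Group H] [Finite H]
    (S : Sylow 2 H) (C : Subgroup H)
    [hC : IsMulCommutative ↥C] (hSC : IsComplement' (S : Subgroup H) C)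
    (N : Subgroup H) [N.Normal] :
    ∃ (P : Sylow 2 (H ⧸ N)) (D : Subgroup (H ⧸ N)),
      IsMulCommutative ↥D ∧ Subgroup.IsComplement' (P : Subgroup (H ⧸ N)) D := by
  obtain ⟨⟨k, hk, hidx⟩, hodd⟩ := card_facts S C hSC
  refine ⟨S.mapSurjective (QuotientGroup.mk'_surjective N), C.map (QuotientGroup.mk' N),
    inferInstance, ?_⟩
  rw [Sylow.coe_mapSurjective]
  apply Subgroup.isComplement'_of_disjoint_and_mul_eq_univ
  · apply Subgroup.disjoint_of_coprime_natCard
    have h1 : Nat.card ((S : Subgroup H).map (QuotientGroup.mk' N)) ∣ 2 ^ k := by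
      rw [← hk]; exact Subgroup.card_map_dvd _ _
    have h2 : Nat.card (C.map (QuotientGroup.mk' N)) ∣ Nat.card C := Subgroup.card_map_dvd _ _
    have h3 : (2 ^ k).Coprime (Nat.card C) :=
      Nat.Coprime.pow_left k ((Nat.Prime.coprime_iff_not_dvd Nat.prime_two).mpr hodd)
    exact Nat.Coprime.of_dvd h1 h2 h3
  · rw [Set.eq_univ_iff_forall]
    intro y
    obtain ⟨g, rfl⟩ := QuotientGroup.mk_surjective y
    obtain ⟨⟨s, c⟩, hsc⟩ := hSC.2 g
    refine ⟨_, ⟨s, s.2, rfl⟩, _, ⟨c, c.2, rfl⟩, ?_⟩
    have : (s : H) * (c : H) = g := hsc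
    rw [← this]
    rfl

/-- A finite group with an abelian 2-complement is solvable, and its subgroups and quotients again have abelian 2-complements. -/
theorem result {H : Type*} [Group H] [Finite H]
    (S : Sylow 2 H) (C : Subgroup H) (hC : IsMulCommutative ↥C) (hSC : Subgroup.IsComplement' (S : Subgroup H) C) :
    Group.IsSolvable H ∧
    (∀ L : Subgroup H, ∃ (P : Sylow 2 ↥L) (D : Subgroup ↥L), IsMulCommutative ↥D ∧ Subgroup.IsComplement' (P : Subgroup ↥L) D) ∧
    (∀ (N : Subgroup H) [N.Normal], ∃ (P : Sylow 2 (H ⧸ N)) (D : Subgroup (H ⧸ N)),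
      IsMulCommutative ↥D ∧ Subgroup.IsComplement' (P : Subgroup (H ⧸ N)) D) := by
  have hab : ∀ a ∈ C, ∀ b ∈ C, a * b = b * a := by
    intro a ha b hb
    have := hC.is_comm.comm (⟨a, ha⟩ : C) ⟨b, hb⟩
    simpa using congrArg Subtype.val this
  have hsol : Group.IsSolvable H :=
    solvable_of_pstar _ H rfl (pstar_of_complement S C hab hSC)
  refine ⟨hsol, ?_, ?_⟩
  · intro L
    exact subgroup_part S C hab hSC L
  · intro N _
    exact quotient_part S C hSC N

end Cfsg.Agent.S3200
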