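import Cfsg.Statements.S3201
import Cfsg.Agent.Lib.Helper10.UniqueOrderP

set_option autoImplicit false
open Cfsg

namespace Cfsg.Agent.S3201

open Subgroup

universe u

/-- A maximal subgroup of a commutative `2`-group contains all squares. -/
theorem sq_mem_of_isCoatom {Z : Type u} [Group Z] (hcomm : ∀ x y : Z, x * y = y * x)
    (hZ : IsPGroup 2 Z) (D : Subgroup Z)
    (hD : IsCoatom D) (ζ : Z) : ζ * ζ ∈ D := by
  classical
  -- the subgroup of elements whose square lies in `D`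
  let T : Subgroup Z :=
    { carrier := {w | w * w ∈ D}
      one_mem' := by
        show (1 : Z) * 1 ∈ D
        rw [one_mul]; exact D.one_mem
      mul_mem' := by
        intro u v hu hv
        show (u * v) * (u * v) ∈ D
        have : (u * v) * (u * v) = (u * u) * (v * v) := by
          calc (u * v) * (u * v) = u * (v * u) * v := by group
            _ = u * (u * v) * v := by rw [hcomm v u]
            _ = (u * u) * (v * v) := by group
        rw [this]; exact D.mul_mem hu hv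
      inv_mem' := by
        intro u hu
        show u⁻¹ * u⁻¹ ∈ D
        have : u⁻¹ * u⁻¹ = (u * u)⁻¹ := by rw [mul_inv_rev]
        rw [this]; exact D.inv_mem hu }
  have hDT : D ≤ T := fun c hc => D.mul_mem hc hc
  rcases eq_or_lt_of_le hDT with h | h
  · -- `T = D`: impossible
    exfalso
    obtain ⟨ζ₀, hζ₀⟩ : ∃ ζ₀ : Z, ζ₀ ∉ D := by
      by_contra hall
      push Not at hall
      exact hD.1 (eq_top_iff.mpr fun g _ => hall g)
    obtain ⟨e, he⟩ := hZ ζ₀
    have hex : ∃ k : ℕ, ζ₀ ^ (2 ^ k) ∈ D := ⟨e, by rw [he]; exact D.one_mem⟩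
    set k := Nat.find hex with hkdef
    have hk : ζ₀ ^ (2 ^ k) ∈ D := Nat.find_spec hex
    have hk0 : k ≠ 0 := by
      intro h0
      rw [h0, pow_zero, pow_one] at hk
      exact hζ₀ hk
    obtain ⟨k', hk'⟩ : ∃ k' : ℕ, k = k' + 1 := ⟨k - 1, by omega⟩
    have hmin : ζ₀ ^ (2 ^ k') ∉ D := Nat.find_min hex (by omega)
    apply hmin
    rw [h]
    show ζ₀ ^ (2 ^ k') * ζ₀ ^ (2 ^ k') ∈ D
    rw [← pow_add, ← two_mul, ← pow_succ', ← hk']
    exact hk
  · have hT : T = ⊤ := hD.2 T h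
    have : ζ ∈ T := hT ▸ Subgroup.mem_top ζ
    exact this

section Quaternion

open QuaternionGroup

variable {m : ℕ}

theorem q_xa_mul_self (i : ZMod (2 * m)) :
    (xa i : QuaternionGroup m) * xa i = a m := by
  rw [xa_mul_xa]; congr 1; ring

theorem q_am_mul_self : (a (m : ZMod (2 * m)) : QuaternionGroup m) * a m = 1 := by
  rw [a_mul_a, ← a_zero]
  congr 1
  have : ((m : ZMod (2 * m)) + m) = ((2 * m : ℕ) : ZMod (2 * m)) := by push_cast; ring
  rw [this]
  exact ZMod.natCast_self (2 * m)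

theorem q_am_ne_one (hm : 0 < m) : (a (m : ZMod (2 * m)) : QuaternionGroup m) ≠ 1 := by
  rw [← a_zero]
  intro h
  have h1 : (m : ZMod (2 * m)) = 0 := a.inj h
  rw [ZMod.natCast_eq_zero_iff] at h1
  have := Nat.le_of_dvd hm h1
  omega

theorem q_not_comm (hm : 2 ≤ m) :
    (a 1 : QuaternionGroup m) * xa 0 ≠ xa 0 * a 1 := by
  rw [a_mul_xa, xa_mul_a]
  intro h
  have h1 : (0 - 1 : ZMod (2 * m)) = 0 + 1 := xa.inj h
  have h2 : ((2 : ℕ) : ZMod (2 * m)) = 0 := by
    have : (2 : ZMod (2 * m)) = (0 + 1) - (0 - 1) := by ring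
    push_cast
    rw [this, ← h1]; ring
  rw [ZMod.natCast_eq_zero_iff] at h2
  have := Nat.le_of_dvd (by norm_num) h2
  omega

theorem q_a_one_pow_half (m' : ℕ) (hm : m = 2 * m') :
    ((a 1 : QuaternionGroup m) ^ m') * ((a 1 : QuaternionGroup m) ^ m') = a m := by
  rw [a_one_pow, a_mul_a]
  congr 1
  rw [hm]; push_cast; ring

theorem q_a_one_zpow (i : ℤ) : ∃ j : ZMod (2 * m), (a 1 : QuaternionGroup m) ^ i = a j := by
  have hinv : ∀ j : ZMod (2 * m), (a j : QuaternionGroup m)⁻¹ = a (-j) := by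
    intro j
    apply inv_eq_of_mul_eq_one_right
    rw [a_mul_a, add_neg_cancel, a_zero]
  cases i with
  | ofNat n => exact ⟨n, by rw [Int.ofNat_eq_natCast, zpow_natCast, a_one_pow]⟩
  | negSucc n => exact ⟨-((n + 1 : ℕ) : ZMod (2 * m)), by rw [zpow_negSucc, a_one_pow, hinv]⟩

theorem q_xa_mul_zpow_ne_one (i : ℤ) : (xa 0 : QuaternionGroup m) * (a 1) ^ i ≠ 1 := by
  obtain ⟨j, hj⟩ := q_a_one_zpow (m := m) i
  rw [hj, xa_mul_a, ← a_zero]
  intro h
  cases h

end Quaternion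

section Abstract

variable {S : Type u} [Group S]

/-- Elements outside the centre have squares outside `D`. -/
theorem sq_notMem (Z D : Subgroup S) [D.Normal] (hDZ : D ≤ Z)
    (hZsq : ∀ ζ ∈ Z, ζ * ζ = 1) (hDne : ∃ ζ ∈ Z, ζ ∉ D)
    (hu : ∃! x : S ⧸ D, orderOf x = 2) (s : S) (hs : s ∉ Z) : s * s ∉ D := by
  obtain ⟨t, ht, htu⟩ := hu
  intro hss
  have h1 : ((s : S) : S ⧸ D) * (s : S ⧸ D) = 1 := by
    rw [← QuotientGroup.mk_mul, QuotientGroup.eq_one_iff]; exact hss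
  by_cases hs1 : ((s : S) : S ⧸ D) = 1
  · exact hs (hDZ ((QuotientGroup.eq_one_iff s).mp hs1))
  · have hos : orderOf ((s : S) : S ⧸ D) = 2 := orderOf_eq_prime (by rw [sq]; exact h1) hs1
    obtain ⟨ζ, hζZ, hζD⟩ := hDne
    have hζ1 : ((ζ : S) : S ⧸ D) ≠ 1 := fun h => hζD ((QuotientGroup.eq_one_iff ζ).mp h)
    have hζ2 : ((ζ : S) : S ⧸ D) * (ζ : S ⧸ D) = 1 := by
      rw [← QuotientGroup.mk_mul, hZsq ζ hζZ]; rfl
    have hoζ : orderOf ((ζ : S) : S ⧸ D) = 2 := orderOf_eq_prime (by rw [sq]; exact hζ2) hζ1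
    have heq : ((s : S) : S ⧸ D) = (ζ : S ⧸ D) := by rw [htu _ hos, htu _ hoζ]
    have h2 : ζ⁻¹ * s ∈ D := QuotientGroup.eq.mp heq.symm
    apply hs
    have : s = ζ * (ζ⁻¹ * s) := by group
    rw [this]
    exact Z.mul_mem hζZ (hDZ h2)

/-- Two central elements outside `D` have product in `D`. -/
theorem mul_mem_of_notMem (Z D : Subgroup S) [D.Normal]
    (hZsq : ∀ ζ ∈ Z, ζ * ζ = 1)
    (hu : ∃! x : S ⧸ D, orderOf x = 2) (u v : S) (huZ : u ∈ Z) (hvZ : v ∈ Z)
    (huD : u ∉ D) (hvD : v ∉ D) : u * v ∈ D := by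
  obtain ⟨t, ht, htu⟩ := hu
  have key : ∀ ζ ∈ Z, ζ ∉ D → ((ζ : S) : S ⧸ D) = t := by
    intro ζ hζZ hζD
    have hζ1 : ((ζ : S) : S ⧸ D) ≠ 1 := fun h => hζD ((QuotientGroup.eq_one_iff ζ).mp h)
    have hζ2 : ((ζ : S) : S ⧸ D) * (ζ : S ⧸ D) = 1 := by
      rw [← QuotientGroup.mk_mul, hZsq ζ hζZ]; rfl
    exact htu _ (orderOf_eq_prime (by rw [sq]; exact hζ2) hζ1)
  rw [← QuotientGroup.eq_one_iff, QuotientGroup.mk_mul, key u huZ huD, key v hvZ hvD, ← sq, ← ht]
  exact pow_orderOf_eq_one t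

/-- If `b` inverts `a` and `b² ∈ ⟨a⟩`, then `⟨a, b⟩ = ⟨a⟩ ∪ b⟨a⟩`. -/
theorem closure_pair_cases (a b : S) (hab : b * a * b⁻¹ = a⁻¹)
    (hb2 : b * b ∈ Subgroup.zpowers a) :
    ∀ g ∈ Subgroup.closure ({a, b} : Set S),
      g ∈ Subgroup.zpowers a ∨ b⁻¹ * g ∈ Subgroup.zpowers a := by
  set K := Subgroup.zpowers a with hKdef
  have hconj1 : ∀ k ∈ K, b * k * b⁻¹ ∈ K := by
    intro k hk
    obtain ⟨i, rfl⟩ := Subgroup.mem_zpowers_iff.mp hk
    have : b * a ^ i * b⁻¹ = (b * a * b⁻¹) ^ i := by rw [conj_zpow]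
    rw [this, hab]
    exact Subgroup.zpow_mem _ (Subgroup.inv_mem _ (Subgroup.mem_zpowers a)) i
  have hab' : b⁻¹ * a * b = a⁻¹ := by
    have h1 : a = b⁻¹ * a⁻¹ * b := by
      calc a = b⁻¹ * (b * a * b⁻¹)⁻¹⁻¹ * b := by group
        _ = b⁻¹ * a⁻¹ * b := by rw [hab, inv_inv]
    calc b⁻¹ * a * b = (b⁻¹ * a⁻¹ * b)⁻¹ := by group
      _ = a⁻¹ := by rw [← h1]
  have hconj2 : ∀ k ∈ K, b⁻¹ * k * b ∈ K := by
    intro k hk
    obtain ⟨i, rfl⟩ := Subgroup.mem_zpowers_iff.mp hk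
    have : b⁻¹ * a ^ i * b = (b⁻¹ * a * b) ^ i := by
      have := conj_zpow (a := b⁻¹) (b := a) (i := i)
      rw [inv_inv] at this
      exact this.symm
    rw [this, hab']
    exact Subgroup.zpow_mem _ (Subgroup.inv_mem _ (Subgroup.mem_zpowers a)) i
  have hb2' : b⁻¹ * b⁻¹ ∈ K := by
    have : b⁻¹ * b⁻¹ = (b * b)⁻¹ := by group
    rw [this]; exact K.inv_mem hb2
  let T : Subgroup S :=
    { carrier := {g | g ∈ K ∨ b⁻¹ * g ∈ K}
      one_mem' := Or.inl K.one_mem
      mul_mem' := by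
        rintro g h (hg | hg) (hh | hh)
        · exact Or.inl (K.mul_mem hg hh)
        · right
          have : b⁻¹ * (g * h) = (b⁻¹ * g * b) * (b⁻¹ * h) := by group
          rw [this]; exact K.mul_mem (hconj2 g hg) hh
        · right
          have : b⁻¹ * (g * h) = (b⁻¹ * g) * h := by group
          rw [this]; exact K.mul_mem hg hh
        · left
          have : g * h = (b * b) * (b⁻¹ * (b⁻¹ * g) * b) * (b⁻¹ * h) := by group
          rw [this]
          exact K.mul_mem (K.mul_mem hb2 (hconj2 _ hg)) hh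
      inv_mem' := by
        rintro g (hg | hg)
        · exact Or.inl (K.inv_mem hg)
        · right
          have : b⁻¹ * g⁻¹ = (b⁻¹ * (b⁻¹ * g)⁻¹ * b) * (b⁻¹ * b⁻¹) := by group
          rw [this]
          exact K.mul_mem (hconj2 _ (K.inv_mem hg)) hb2' }
  have hle : Subgroup.closure ({a, b} : Set S) ≤ T := by
    rw [Subgroup.closure_le]
    rintro g (rfl | rfl)
    · exact Or.inl (Subgroup.mem_zpowers _)
    · right
      show g⁻¹ * g ∈ K
      rw [inv_mul_cancel]; exact K.one_mem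
  intro g hg
  exact hle hg

end Abstract

section Main

open QuaternionGroup

theorem uniqueOrderP_of_existsUnique {P : Type u} [Group P]
    (hu : ∃! x : P, orderOf x = 2) : Cfsg.Agent.Lib.Helper10.UniqueOrderP 2 P := by
  obtain ⟨t, ht, htu⟩ := hu
  intro x y hx hx1 hy
  have hox : orderOf x = 2 := orderOf_eq_prime hx hx1
  by_cases hy1 : y = 1
  · rw [hy1]; exact Subgroup.one_mem _
  · have hoy : orderOf y = 2 := orderOf_eq_prime hy hy1
    rw [htu y hoy, ← htu x hox]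
    exact Subgroup.mem_zpowers x

/-- A non-commutative finite `2`-group with a unique involution is generalized quaternion of
order at least `8`. -/
theorem exists_quaternion_iso {P : Type u} [Group P] [Finite P] (hP : IsPGroup 2 P)
    (hnc : ¬ IsMulCommutative P) (hu : ∃! x : P, orderOf x = 2) :
    ∃ m' : ℕ, 0 < m' ∧ Nonempty (P ≃* QuaternionGroup (2 * m')) := by
  haveI : Fact (Nat.Prime 2) := ⟨Nat.prime_two⟩
  rcases Cfsg.Agent.Lib.Helper10.isCyclic_or_quaternion_of_uniqueOrderP hP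
    (uniqueOrderP_of_existsUnique hu) with hc | ⟨-, k, ⟨e⟩⟩
  · exact absurd (IsCyclic.isMulCommutative) hnc
  · cases k with
    | zero =>
      exfalso
      apply hnc
      rw [pow_zero] at e
      haveI : IsCyclic (QuaternionGroup 1) := quaternionGroup_one_isCyclic
      haveI : IsCyclic P := isCyclic_of_surjective e.symm e.symm.surjective
      exact IsCyclic.isMulCommutative
    | succ k =>
      rw [pow_succ'] at e
      exact ⟨2 ^ k, by positivity, ⟨e⟩⟩

theorem existsUnique_orderOf_of_mulEquiv {A B : Type*} [Group A] [Group B] (φ : A ≃* B)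
    (h : ∃! x : B, orderOf x = 2) : ∃! x : A, orderOf x = 2 := by
  obtain ⟨t, ht, htu⟩ := h
  refine ⟨φ.symm t, by show orderOf (φ.symm t) = 2; rw [MulEquiv.orderOf_eq]; exact ht, ?_⟩
  intro y hy
  have : φ y = t := htu _ (by show orderOf (φ y) = 2; rw [MulEquiv.orderOf_eq]; exact hy)
  rw [← this, MulEquiv.symm_apply_apply]

theorem main {S : Type u} [Group S] [Finite S] {ι : Type} (D : ι → Subgroup S)
    [hDN : ∀ i, (D i).Normal]
    (hS : IsPGroup 2 S)
    (hDZ : ∀ i, D i ≤ Subgroup.center S)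
    (hZsq : ∀ ζ ∈ Subgroup.center S, ζ * ζ = 1)
    (hint : ∀ s : S, (∀ i, s ∈ D i) → s = 1)
    (hDne : ∀ i, ∃ ζ ∈ Subgroup.center S, ζ ∉ D i)
    (hu : ∀ i, ∃! x : S ⧸ D i, orderOf x = 2)
    (i₀ : ι) (hnc : ¬ IsMulCommutative (S ⧸ D i₀)) :
    ∃ E Q : Subgroup S, Cfsg.IsInternalDirectProduct E Q ⊤ ∧ Cfsg.IsElementaryAbelian 2 E ∧
      ¬ IsMulCommutative ↥Q ∧ ∃! x : ↥Q, orderOf x = 2 := by
  classical
  set Z := Subgroup.center S with hZdef
  obtain ⟨m', hm', ⟨e⟩⟩ := exists_quaternion_iso (hS.to_quotient (D i₀)) hnc (hu i₀)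
  obtain ⟨m, hmdef⟩ : ∃ m : ℕ, m = 2 * m' := ⟨_, rfl⟩
  rw [← hmdef] at e
  have hm2 : 2 ≤ m := by omega
  have hm0 : 0 < m := by omega
  haveI : NeZero (2 * m) := ⟨by omega⟩
  -- the surjection onto the quaternion group
  let f : S →* QuaternionGroup m := e.toMonoidHom.comp (QuotientGroup.mk' (D i₀))
  have hfker : ∀ s : S, f s = 1 ↔ s ∈ D i₀ := by
    intro s
    show e (QuotientGroup.mk' (D i₀) s) = 1 ↔ _
    rw [MulEquiv.map_eq_one_iff]
    exact QuotientGroup.eq_one_iff s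
  have hfsurj : Function.Surjective f :=
    e.surjective.comp (QuotientGroup.mk'_surjective _)
  obtain ⟨a, ha⟩ := hfsurj (QuaternionGroup.a 1)
  obtain ⟨b, hb⟩ := hfsurj (QuaternionGroup.xa 0)
  have hfab : f a * f b ≠ f b * f a := by rw [ha, hb]; exact q_not_comm hm2
  have hab_ne : a * b ≠ b * a := by
    intro h; apply hfab; rw [← map_mul, ← map_mul, h]
  have haZ : a ∉ Z := fun h => hab_ne ((Subgroup.mem_center_iff.mp h b).symm)
  have hbZ : b ∉ Z := fun h => hab_ne (Subgroup.mem_center_iff.mp h a)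
  have habZ : a * b ∉ Z := by
    intro h
    have h1 : b * (a * b) = a * b * b := Subgroup.mem_center_iff.mp h b
    rw [← mul_assoc] at h1
    exact hab_ne (mul_right_cancel h1).symm
  have hA : ∀ s : S, s ∉ Z → ∀ i, s * s ∉ D i := fun s hs i =>
    sq_notMem Z (D i) (hDZ i) hZsq (hDne i) (hu i) s hs
  have key1 : ∀ s : S, s ∉ Z → f (s * s) * f (s * s) = 1 → s * s ∈ Z := by
    intro s hs hf
    by_contra hss
    apply hA (s * s) hss i₀
    rw [← hfker, map_mul]; exact hf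
  have hB : ∀ u v : S, u ∈ Z → v ∈ Z → (∀ i, u ∉ D i) → (∀ i, v ∉ D i) → u * v = 1 :=
    fun u v hu' hv' huD hvD => hint _ fun i =>
      mul_mem_of_notMem Z (D i) hZsq (hu i) u v hu' hv' (huD i) (hvD i)
  -- values of `f`
  have hfb2 : f (b * b) = QuaternionGroup.a m := by rw [map_mul, hb, q_xa_mul_self]
  have hfab2 : f ((a * b) * (a * b)) = QuaternionGroup.a m := by
    rw [map_mul, map_mul, ha, hb, a_mul_xa, q_xa_mul_self]
  set u := a ^ m' with hudef
  have hfu2 : f (u * u) = QuaternionGroup.a m := by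
    rw [map_mul, hudef, map_pow, ha]; exact q_a_one_pow_half m' hmdef
  have huZ : u ∉ Z := by
    intro h
    have h1 : f (u * u) = 1 := by rw [hZsq u h, map_one]
    rw [hfu2] at h1
    exact q_am_ne_one hm0 h1
  have hb2Z : b * b ∈ Z := key1 b hbZ (by rw [hfb2]; exact q_am_mul_self)
  have hu2Z : u * u ∈ Z := key1 u huZ (by rw [hfu2]; exact q_am_mul_self)
  have hab2Z : (a * b) * (a * b) ∈ Z := key1 (a * b) habZ (by rw [hfab2]; exact q_am_mul_self)
  have r0 : (b * b) * (b * b) = 1 := hZsq _ hb2Z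
  have r1 : (b * b) * (u * u) = 1 := hB _ _ hb2Z hu2Z (hA b hbZ) (hA u huZ)
  have r2 : (b * b) * ((a * b) * (a * b)) = 1 := hB _ _ hb2Z hab2Z (hA b hbZ) (hA (a * b) habZ)
  have hu2 : u * u = b * b := mul_left_cancel (r1.trans r0.symm)
  have hab2 : (a * b) * (a * b) = b * b := mul_left_cancel (r2.trans r0.symm)
  have ham : a ^ m = b * b := by
    rw [← hu2, hudef, ← pow_add, hmdef, two_mul]
  have ha2m : a ^ (2 * m) = 1 := by
    rw [two_mul, pow_add, ham]; exact r0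
  have haba : a * b * a = b := by
    have h1 : a * b * a * b = b * b := by rw [← hab2]; group
    exact mul_right_cancel h1
  have hconj : b * a * b⁻¹ = a⁻¹ := by
    apply eq_inv_of_mul_eq_one_right
    calc a * (b * a * b⁻¹) = (a * b * a) * b⁻¹ := by group
      _ = 1 := by rw [haba, mul_inv_cancel]
  have hb2mem : b * b ∈ Subgroup.zpowers a := by
    rw [← ham]; exact Subgroup.npow_mem_zpowers a m
  have hcases := closure_pair_cases a b hconj hb2mem
  set Q := Subgroup.closure ({a, b} : Set S) with hQdef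
  have hQa : a ∈ Q := Subgroup.subset_closure (by simp)
  have hQb : b ∈ Q := Subgroup.subset_closure (by simp)
  have hQsurj : ∀ q : QuaternionGroup m, ∃ g ∈ Q, f g = q := by
    rintro (i | i)
    · exact ⟨a ^ i.val, Q.pow_mem hQa _, by
        rw [map_pow, ha, a_one_pow, ZMod.natCast_zmod_val]⟩
    · exact ⟨b * a ^ i.val, Q.mul_mem hQb (Q.pow_mem hQa _), by
        rw [map_mul, map_pow, ha, hb, a_one_pow, xa_mul_a, zero_add, ZMod.natCast_zmod_val]⟩
  have hinf : D i₀ ⊓ Q = ⊥ := by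
    rw [eq_bot_iff]
    rintro g ⟨hgE, hgQ⟩
    rw [Subgroup.mem_bot]
    have hfg : f g = 1 := (hfker g).mpr hgE
    rcases hcases g hgQ with hg | hg
    · obtain ⟨i, rfl⟩ := Subgroup.mem_zpowers_iff.mp hg
      rw [map_zpow, ha] at hfg
      have hdvd : ((2 * m : ℕ) : ℤ) ∣ i := by
        rw [← orderOf_a_one (n := m)]
        exact orderOf_dvd_iff_zpow_eq_one.mpr hfg
      obtain ⟨j, rfl⟩ := hdvd
      rw [zpow_mul, zpow_natCast, ha2m, one_zpow]
    · exfalso
      obtain ⟨i, hi⟩ := Subgroup.mem_zpowers_iff.mp hg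
      have hgi : g = b * a ^ i := by rw [hi]; group
      rw [hgi, map_mul, map_zpow, ha, hb] at hfg
      exact q_xa_mul_zpow_ne_one i hfg
  have hsup : D i₀ ⊔ Q = ⊤ := by
    rw [eq_top_iff]
    intro s _
    obtain ⟨g, hgQ, hfg⟩ := hQsurj (f s)
    have h1 : s * g⁻¹ ∈ D i₀ := by
      rw [← hfker, map_mul, map_inv, hfg, mul_inv_cancel]
    have h2 : s = (s * g⁻¹) * g := by group
    rw [h2]
    exact Subgroup.mul_mem_sup h1 hgQ
  -- the isomorphism `Q ≃* S ⧸ D i₀`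
  have hbij : Function.Bijective (f.comp Q.subtype) := by
    constructor
    · rw [injective_iff_map_eq_one]
      intro x hx
      have h1 : (x : S) ∈ D i₀ := (hfker x).mp hx
      have h2 : (x : S) ∈ D i₀ ⊓ Q := ⟨h1, x.2⟩
      rw [hinf, Subgroup.mem_bot] at h2
      exact Subtype.ext h2
    · intro q
      obtain ⟨g, hgQ, hfg⟩ := hQsurj q
      exact ⟨⟨g, hgQ⟩, hfg⟩
  let φ : ↥Q ≃* S ⧸ D i₀ := (MulEquiv.ofBijective _ hbij).trans e.symm
  refine ⟨D i₀, Q, ⟨le_top, le_top, ?_, hinf, hsup⟩, ⟨?_, ?_⟩, ?_, ?_⟩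
  · intro x hx y _
    exact (Subgroup.mem_center_iff.mp (hDZ i₀ hx) y).symm
  · refine ⟨⟨fun x y => Subtype.ext ?_⟩⟩
    show (x : S) * (y : S) = (y : S) * (x : S)
    exact Subgroup.mem_center_iff.mp (hDZ i₀ y.2) x
  · intro x hx
    rw [sq]; exact hZsq x (hDZ i₀ hx)
  · intro h
    apply hab_ne
    have := h.is_comm.comm ⟨a, hQa⟩ ⟨b, hQb⟩
    exact congrArg Subtype.val this
  · exact existsUnique_orderOf_of_mulEquiv φ (hu i₀)

end Main

/-- Let S be a finite 2-group whose centre Z(S) has n ≥ 2 distinct maximal subgroups C₁, …, Cₙ with trivial intersection such that each quotient S/Cᵢ is a non-abelian group with exactly one involution (a generalized quaternion group). Then S is the internal direct product of an elementary abelian subgroup and a non-abelian subgroup with exactly one involution. -/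
theorem result {S : Type*} [Group S] [Finite S]
    (hS : IsPGroup 2 S) (n : ℕ) (hn : 2 ≤ n) (C : Fin n → Subgroup ↥(Subgroup.center S))
    (hCmax : ∀ i, IsCoatom (C i)) (hCinj : Function.Injective C) (hCint : ⨅ i, C i = ⊥)
    (hCq : ∀ i, ∃ (_ : ((C i).map (Subgroup.center S).subtype).Normal),
      ¬ IsMulCommutative (S ⧸ (C i).map (Subgroup.center S).subtype) ∧
      ∃! x : S ⧸ (C i).map (Subgroup.center S).subtype, orderOf x = 2) :
    ∃ E Q : Subgroup S, Cfsg.IsInternalDirectProduct E Q ⊤ ∧ Cfsg.IsElementaryAbelian 2 E ∧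
      ¬ IsMulCommutative ↥Q ∧ ∃! x : ↥Q, orderOf x = 2 := by
  classical
  have hn0 : 0 < n := by omega
  let i₀ : Fin n := ⟨0, hn0⟩
  have hcomm : ∀ x y : ↥(Subgroup.center S), x * y = y * x := by
    intro x y
    apply Subtype.ext
    show (x : S) * (y : S) = (y : S) * (x : S)
    exact Subgroup.mem_center_iff.mp y.2 x
  have hZsq : ∀ ζ ∈ Subgroup.center S, ζ * ζ = 1 := by
    intro ζ hζ
    have h1 : ∀ i, (⟨ζ, hζ⟩ : ↥(Subgroup.center S)) * ⟨ζ, hζ⟩ ∈ C i := fun i =>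
      sq_mem_of_isCoatom hcomm (hS.to_subgroup _) (C i) (hCmax i) ⟨ζ, hζ⟩
    have h2 : (⟨ζ, hζ⟩ : ↥(Subgroup.center S)) * ⟨ζ, hζ⟩ ∈ ⨅ i, C i := Subgroup.mem_iInf.mpr h1
    rw [hCint, Subgroup.mem_bot] at h2
    exact congrArg Subtype.val h2
  haveI hDN : ∀ i, ((C i).map (Subgroup.center S).subtype).Normal := fun i => (hCq i).choose
  have hmemD : ∀ i (s : S), s ∈ (C i).map (Subgroup.center S).subtype ↔
      ∃ h : s ∈ Subgroup.center S, (⟨s, h⟩ : ↥(Subgroup.center S)) ∈ C i := by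
    intro i s
    constructor
    · rintro ⟨c, hc, rfl⟩
      exact ⟨c.2, hc⟩
    · rintro ⟨h, hc⟩
      exact ⟨⟨s, h⟩, hc, rfl⟩
  refine main (fun i => (C i).map (Subgroup.center S).subtype) hS ?_ hZsq ?_ ?_ ?_ i₀ ?_
  · intro i
    exact Subgroup.map_subtype_le _
  · intro s hs
    obtain ⟨h0, -⟩ := (hmemD i₀ s).mp (hs i₀)
    have h2 : (⟨s, h0⟩ : ↥(Subgroup.center S)) ∈ ⨅ i, C i := by
      rw [Subgroup.mem_iInf]
      intro i
      obtain ⟨_, hc⟩ := (hmemD i s).mp (hs i)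
      exact hc
    rw [hCint, Subgroup.mem_bot] at h2
    exact congrArg Subtype.val h2
  · intro i
    obtain ⟨c, hc⟩ : ∃ c : ↥(Subgroup.center S), c ∉ C i := by
      by_contra hall
      push Not at hall
      exact (hCmax i).1 (eq_top_iff.mpr fun g _ => hall g)
    refine ⟨c.1, c.2, fun h => hc ?_⟩
    obtain ⟨_, hc'⟩ := (hmemD i c.1).mp h
    exact hc'
  · intro i
    obtain ⟨h, -, hu⟩ := hCq i
    exact hu
  · obtain ⟨h, hnc, -⟩ := hCq i₀
    exact hnc

end Cfsg.Agent.S3201
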