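import Cfsg.Statements.S3202
import Cfsg.Agent.Lib.Helper10.UniqueOrderP

set_option autoImplicit false
open Cfsg

namespace Cfsg.Agent.S3202

open Subgroup

universe u

/-- `QuaternionGroup m` is generated by `a 1` and `xa 0`. -/
theorem quaternion_closure (m : ℕ) [NeZero m] :
    Subgroup.closure ({QuaternionGroup.a 1, QuaternionGroup.xa 0} : Set (QuaternionGroup m)) = ⊤ := by
  have hNZ : NeZero (2 * m) := ⟨by have := NeZero.ne m; omega⟩
  have ha1 : (QuaternionGroup.a 1 : QuaternionGroup m) ∈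
      Subgroup.closure ({QuaternionGroup.a 1, QuaternionGroup.xa 0} : Set (QuaternionGroup m)) :=
    Subgroup.subset_closure (Set.mem_insert _ _)
  have hx0 : (QuaternionGroup.xa 0 : QuaternionGroup m) ∈
      Subgroup.closure ({QuaternionGroup.a 1, QuaternionGroup.xa 0} : Set (QuaternionGroup m)) :=
    Subgroup.subset_closure (Set.mem_insert_of_mem _ rfl)
  have ha : ∀ i : ZMod (2 * m), (QuaternionGroup.a i : QuaternionGroup m) ∈
      Subgroup.closure ({QuaternionGroup.a 1, QuaternionGroup.xa 0} : Set (QuaternionGroup m)) := by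
    intro i
    have h1 : (QuaternionGroup.a 1 : QuaternionGroup m) ^ i.val = QuaternionGroup.a i := by
      rw [QuaternionGroup.a_one_pow, ZMod.natCast_zmod_val]
    rw [← h1]
    exact Subgroup.pow_mem _ ha1 _
  rw [eq_top_iff]
  intro x _
  cases x with
  | a i => exact ha i
  | xa i =>
    have h1 : (QuaternionGroup.xa 0 : QuaternionGroup m) * QuaternionGroup.a i =
        QuaternionGroup.xa i := by
      rw [QuaternionGroup.xa_mul_a, zero_add]
    rw [← h1]
    exact Subgroup.mul_mem _ hx0 (ha i)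

/-- conjugating a generator into the cyclic group it generates normalizes that cyclic group -/
theorem mem_normalizer_zpowers {S : Type u} [Group S] [Finite S] (g c : S)
    (h : g * c * g⁻¹ ∈ Subgroup.zpowers c) :
    g ∈ Subgroup.normalizer ((Subgroup.zpowers c : Subgroup S) : Set S) := by
  apply Subgroup.mem_normalizer_fintype
  intro x hx
  obtain ⟨k, rfl⟩ := Subgroup.mem_zpowers_iff.mp hx
  have : g * c ^ k * g⁻¹ = (g * c * g⁻¹) ^ k := by rw [conj_zpow]
  show g * c ^ k * g⁻¹ ∈ Subgroup.zpowers c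
  rw [this]
  exact Subgroup.zpow_mem _ h k

/-- A central extension of a generalized quaternion group has cyclic commutator subgroup. -/
theorem exists_commutator_le_zpowers {S : Type u} [Group S] [Finite S] {m : ℕ} [NeZero m]
    (f : S →* QuaternionGroup m) (hf : Function.Surjective f)
    (hker : f.ker ≤ Subgroup.center S) :
    ∃ c : S, commutator S ≤ Subgroup.zpowers c := by
  classical
  obtain ⟨a, ha⟩ := hf (QuaternionGroup.a 1)
  obtain ⟨b, hb⟩ := hf (QuaternionGroup.xa 0)
  -- the central element `z = a b a b⁻¹`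
  set z := a * b * a * b⁻¹ with hzdef
  have hzker : z ∈ f.ker := by
    rw [MonoidHom.mem_ker, hzdef, map_mul, map_mul, map_mul, map_inv, ha, hb,
      QuaternionGroup.a_mul_xa, QuaternionGroup.xa_mul_a]
    simp
  have hzc : ∀ s : S, s * z = z * s := fun s => Subgroup.mem_center_iff.mp (hker hzker) s
  -- `b a b⁻¹ = a⁻¹ z`
  have hbab : b * a * b⁻¹ = a⁻¹ * z := by rw [hzdef]; group
  set c := a⁻¹ * z * a⁻¹ with hcdef
  refine ⟨c, ?_⟩
  have hca : a * c * a⁻¹ = c := by
    rw [hcdef]
    calc a * (a⁻¹ * z * a⁻¹) * a⁻¹ = (z * a⁻¹) * a⁻¹ := by group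
      _ = (a⁻¹ * z) * a⁻¹ := by rw [hzc a⁻¹]
  have hcb : b * c * b⁻¹ = c⁻¹ := by
    rw [hcdef]
    have e1 : b * (a⁻¹ * z * a⁻¹) * b⁻¹ = (b * a * b⁻¹)⁻¹ * (b * z * b⁻¹) * (b * a * b⁻¹)⁻¹ := by
      group
    have e2 : b * z * b⁻¹ = z := by rw [hzc b, mul_inv_cancel_right]
    rw [e1, e2, hbab]
    have e3 : (a⁻¹ * z)⁻¹ * z * (a⁻¹ * z)⁻¹ = z⁻¹ * a * z * z⁻¹ * a := by group
    have e4 : (a⁻¹ * z * a⁻¹)⁻¹ = a * z⁻¹ * a := by group
    rw [e3, e4]
    have e5 : z⁻¹ * a = a * z⁻¹ := by
      have := hzc a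
      calc z⁻¹ * a = z⁻¹ * (a * z) * z⁻¹ := by group
        _ = z⁻¹ * (z * a) * z⁻¹ := by rw [this]
        _ = a * z⁻¹ := by group
    calc z⁻¹ * a * z * z⁻¹ * a = (z⁻¹ * a) * a := by group
      _ = a * z⁻¹ * a := by rw [e5]
  set K := Subgroup.zpowers c with hKdef
  have hcK : c ∈ K := Subgroup.mem_zpowers c
  -- generation
  have hgen : Subgroup.closure ({a, b} : Set S) ⊔ f.ker = ⊤ := by
    rw [eq_top_iff]
    intro s _
    have h1 : f s ∈ (Subgroup.closure ({a, b} : Set S)).map f := by
      rw [MonoidHom.map_closure, Set.image_pair, ha, hb, quaternion_closure]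
      exact Subgroup.mem_top _
    obtain ⟨w, hw, hws⟩ := h1
    have h2 : w⁻¹ * s ∈ f.ker := by
      rw [MonoidHom.mem_ker, map_mul, map_inv, hws, inv_mul_cancel]
    have : s = w * (w⁻¹ * s) := by group
    rw [this]
    exact Subgroup.mul_mem _ (Subgroup.mem_sup_left hw) (Subgroup.mem_sup_right h2)
  -- normality of `K`
  have hKn : K.Normal := by
    rw [← Subgroup.normalizer_eq_top_iff, eq_top_iff, ← hgen]
    apply sup_le
    · rw [Subgroup.closure_le]
      rintro x (rfl | rfl)
      · apply mem_normalizer_zpowers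
        rw [hca]; exact hcK
      · apply mem_normalizer_zpowers
        rw [hcb]; exact Subgroup.inv_mem _ hcK
    · intro d hd
      apply mem_normalizer_zpowers
      have := Subgroup.mem_center_iff.mp (hker hd) c
      rw [← this, mul_inv_cancel_right]
      exact hcK
  -- the quotient is commutative
  rw [← Subgroup.Normal.quotient_commutative_iff_commutator_le]
  let q := QuotientGroup.mk' K
  have hqab : q a * q b = q b * q a := by
    have h1 : a * b = (b * a) * ((b * a)⁻¹ * (a * b)) := by group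
    have h2 : (b * a)⁻¹ * (a * b) ∈ K := by
      -- `(ba)⁻¹ ab = a⁻¹ b⁻¹ a b`, and `b⁻¹ a b`: conjugating `hbab`
      have e : (b * a)⁻¹ * (a * b) = a⁻¹ * (b⁻¹ * a * b) := by group
      have hb' : b⁻¹ * a * b = z * a⁻¹ := by
        have h3 : a = b⁻¹ * (b * a * b⁻¹) * b := by group
        have h4 : b⁻¹ * a⁻¹ * b = (b⁻¹ * a * b)⁻¹ := by group
        have h5 : b⁻¹ * z * b = z := by
          rw [mul_assoc, ← hzc b, ← mul_assoc, inv_mul_cancel, one_mul]
        have h6 : a = (b⁻¹ * a * b)⁻¹ * z := by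
          calc a = b⁻¹ * (b * a * b⁻¹) * b := h3
            _ = b⁻¹ * (a⁻¹ * z) * b := by rw [hbab]
            _ = (b⁻¹ * a⁻¹ * b) * (b⁻¹ * z * b) := by group
            _ = (b⁻¹ * a * b)⁻¹ * z := by rw [h4, h5]
        calc b⁻¹ * a * b = (b⁻¹ * a * b) * a * a⁻¹ := by group
          _ = (b⁻¹ * a * b) * ((b⁻¹ * a * b)⁻¹ * z) * a⁻¹ := by rw [← h6]
          _ = z * a⁻¹ := by group
      rw [e, hb', ← mul_assoc]
      exact hcK
    have h3 : q ((b * a)⁻¹ * (a * b)) = 1 := (QuotientGroup.eq_one_iff _).mpr h2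
    rw [← map_mul, ← map_mul, h1, map_mul, h3, mul_one]
  have hqd : ∀ d ∈ f.ker, ∀ s : S, q s * q d = q d * q s := by
    intro d hd s
    rw [← map_mul, ← map_mul, Subgroup.mem_center_iff.mp (hker hd) s]
  have hqgen : Subgroup.closure (q '' (({a, b} : Set S) ∪ (f.ker : Set S))) = ⊤ := by
    rw [← MonoidHom.map_closure, Subgroup.closure_union, Subgroup.closure_eq, hgen,
      ← MonoidHom.range_eq_map, MonoidHom.range_eq_top]
    exact QuotientGroup.mk'_surjective K
  have hpair : ∀ x ∈ (({a, b} : Set S) ∪ (f.ker : Set S)), ∀ y ∈ (({a, b} : Set S) ∪ (f.ker : Set S)),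
      q x * q y = q y * q x := by
    rintro x (hx | hx) y (hy | hy)
    · rcases hx with rfl | rfl <;> rcases hy with rfl | rfl
      · rfl
      · exact hqab
      · exact hqab.symm
      · rfl
    · exact hqd y hy x
    · exact (hqd x hx y).symm
    · exact hqd y hy x
  have hcent : ∀ x ∈ (({a, b} : Set S) ∪ (f.ker : Set S)), q x ∈ Subgroup.center (S ⧸ K) := by
    intro x hx
    have hle : Subgroup.closure (q '' (({a, b} : Set S) ∪ (f.ker : Set S))) ≤
        Subgroup.centralizer {q x} := by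
      rw [Subgroup.closure_le]
      rintro _ ⟨y, hy, rfl⟩
      rw [SetLike.mem_coe, Subgroup.mem_centralizer_singleton_iff]
      exact hpair y hy x hx
    rw [hqgen] at hle
    rw [Subgroup.mem_center_iff]
    intro g
    have := hle (Subgroup.mem_top g)
    rw [Subgroup.mem_centralizer_singleton_iff] at this
    exact this
  have hctop : Subgroup.closure (q '' (({a, b} : Set S) ∪ (f.ker : Set S))) ≤
      Subgroup.center (S ⧸ K) := by
    rw [Subgroup.closure_le]
    rintro _ ⟨x, hx, rfl⟩
    exact hcent x hx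
  rw [hqgen] at hctop
  exact ⟨⟨fun u v => (Subgroup.mem_center_iff.mp (hctop (Subgroup.mem_top v)) u)⟩⟩

/-- A 2-group S of 2-rank 2 with a maximal subgroup D of Z(S) such that S/D is generalized quaternion has a nontrivial cyclic characteristic subgroup. -/
theorem result {S : Type*} [Group S]
    [Finite S] (hS : IsPGroup 2 S) (hr2 : Cfsg.PRankLE 2 2 S) (hr1 : ¬ Cfsg.PRankLE 2 1 S)
    (D : Subgroup ↥(Subgroup.center S)) (hD : IsCoatom D)
    (hq : ∃ (_ : (D.map (Subgroup.center S).subtype).Normal),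
      ¬ IsMulCommutative (S ⧸ D.map (Subgroup.center S).subtype) ∧
      ∃! x : S ⧸ D.map (Subgroup.center S).subtype, orderOf x = 2) :
    ∃ C : Subgroup S, C ≠ ⊥ ∧ IsCyclic ↥C ∧ C.Characteristic := by
  obtain ⟨hDn, hnc, hu⟩ := hq
  have hQ : IsPGroup 2 (S ⧸ D.map (Subgroup.center S).subtype) := hS.to_quotient _
  have hU : Cfsg.Agent.Lib.Helper10.UniqueOrderP 2 (S ⧸ D.map (Subgroup.center S).subtype) := by
    obtain ⟨t, ht, htu⟩ := hu
    intro x y hx hx1 hy
    have hox : orderOf x = 2 := orderOf_eq_prime hx hx1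
    by_cases hy1 : y = 1
    · rw [hy1]; exact Subgroup.one_mem _
    have hoy : orderOf y = 2 := orderOf_eq_prime hy hy1
    rw [htu y hoy, ← htu x hox]
    exact Subgroup.mem_zpowers x
  rcases Cfsg.Agent.Lib.Helper10.isCyclic_or_quaternion_of_uniqueOrderP hQ hU with hc | ⟨-, n, ⟨e⟩⟩
  · exfalso
    exact hnc IsCyclic.isMulCommutative
  · let f : S →* QuaternionGroup (2 ^ n) :=
      e.toMonoidHom.comp (QuotientGroup.mk' (D.map (Subgroup.center S).subtype))
    have hf : Function.Surjective f :=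
      e.surjective.comp (QuotientGroup.mk'_surjective _)
    have hker : f.ker ≤ Subgroup.center S := by
      intro s hs
      rw [MonoidHom.mem_ker] at hs
      have h1 : QuotientGroup.mk' (D.map (Subgroup.center S).subtype) s = 1 := by
        apply e.injective
        rw [map_one]
        exact hs
      rw [QuotientGroup.mk'_apply, QuotientGroup.eq_one_iff] at h1
      obtain ⟨d, -, rfl⟩ := h1
      exact d.2
    obtain ⟨c, hc⟩ := exists_commutator_le_zpowers f hf hker
    refine ⟨commutator S, ?_, ?_, ?_⟩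
    · intro h0
      apply hnc
      rw [Subgroup.Normal.quotient_commutative_iff_commutator_le, h0]
      exact bot_le
    · exact Subgroup.isCyclic_of_le hc
    · unfold _root_.commutator
      infer_instance

end Cfsg.Agent.S3202
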