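import Cfsg.Statements.S3203
import Cfsg.Agent.Lib.Helper18.Conj
import Cfsg.Agent.Lib.Helper18.Basic

set_option autoImplicit false
open Cfsg
open Cfsg.Agent.Lib.Helper18

namespace Cfsg.Agent.S3203

variable {G : Type*} [Group G]

theorem ea_cj (g : G) (E : Subgroup G) (hE : Cfsg.IsElementaryAbelian 2 E) :
    Cfsg.IsElementaryAbelian 2 (cj g E) := by
  refine ⟨isMulCommutative_cj g E hE.1, ?_⟩
  rintro _ ⟨x, hx, rfl⟩
  rw [← map_pow, hE.2 x hx, map_one]

/-- The hypotheses, phrased inside `G`. -/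
structure Hyp (S A B : Subgroup G) : Prop where
  hAS : A ≤ S
  hBS : B ≤ S
  hA : Cfsg.IsElementaryAbelian 2 A
  hB : Cfsg.IsElementaryAbelian 2 B
  hne : A ≠ B
  hcov : ∀ E : Subgroup G, E ≤ S → Cfsg.IsElementaryAbelian 2 E → E ≤ A ∨ E ≤ B
  hAmax : ∀ E : Subgroup G, E ≤ S → Cfsg.IsElementaryAbelian 2 E → A ≤ E → E = A
  hBmax : ∀ E : Subgroup G, E ≤ S → Cfsg.IsElementaryAbelian 2 E → B ≤ E → E = B
  hprod : ∀ s ∈ S, ∃ a ∈ A, ∃ b ∈ B, a * b = s

theorem Hyp.symm {S A B : Subgroup G} (h : Hyp S A B) : Hyp S B A where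
  hAS := h.hBS
  hBS := h.hAS
  hA := h.hB
  hB := h.hA
  hne := h.hne.symm
  hcov := fun E hE hEA => (h.hcov E hE hEA).symm
  hAmax := h.hBmax
  hBmax := h.hAmax
  hprod := by
    intro s hs
    obtain ⟨a, ha, b, hb, hab⟩ := h.hprod s⁻¹ (S.inv_mem hs)
    refine ⟨b⁻¹, B.inv_mem hb, a⁻¹, A.inv_mem ha, ?_⟩
    rw [← mul_inv_rev, hab, inv_inv]

/-- (a) an element of `N_G(S)` fixes or swaps. -/
theorem step_a [Finite G] {S A B : Subgroup G} (h : Hyp S A B) (g : G)
    (hg : g ∈ Subgroup.normalizer (S : Set G)) : cj g A = A ∨ cj g A = B := by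
  have hgS : cj g S = S := (mem_normalizer_iff_cj g S).mp hg
  have hgS' : cj g⁻¹ S = S :=
    (mem_normalizer_iff_cj g⁻¹ S).mp (Subgroup.inv_mem _ hg)
  have h1 : cj g A ≤ S := by rw [← hgS]; exact cj_mono g h.hAS
  rcases h.hcov _ h1 (ea_cj g A h.hA) with h2 | h2
  · left; exact cj_eq_of_le g A h2
  · right
    have h3 : A ≤ cj g⁻¹ B := (cj_le_iff_le_cj_inv g A B).mp h2
    have h4 : cj g⁻¹ B ≤ S := by rw [← hgS']; exact cj_mono g⁻¹ h.hBS
    have h5 := h.hAmax _ h4 (ea_cj g⁻¹ B h.hB) h3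
    rw [← h5, cj_cj_inv]

/-- (b) `S` normalizes `A`. -/
theorem step_b [Finite G] {S A B : Subgroup G} (h : Hyp S A B) (s : G) (hs : s ∈ S) :
    cj s A = A := by
  obtain ⟨a, ha, b, hb, rfl⟩ := h.hprod s hs
  have hbN : b ∈ Subgroup.normalizer (S : Set G) := Subgroup.le_normalizer (h.hBS hb)
  have h1 : cj b A = A := by
    rcases step_a h b hbN with h1 | h1
    · exact h1
    · exfalso
      have h2 : cj b⁻¹ (cj b A) = cj b⁻¹ B := by rw [h1]
      rw [cj_inv_cj, cj_eq_self_of_mem b⁻¹ B (B.inv_mem hb)] at h2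
      exact h.hne h2
  rw [← cj_cj, h1, cj_eq_self_of_mem a A ha]

/-- (c) `N_G(S)` normalizes `A`. -/
theorem step_c [Finite G] (S : Sylow 2 G) {A B : Subgroup G} (h : Hyp (S : Subgroup G) A B) (g : G)
    (hg : g ∈ Subgroup.normalizer ((S : Subgroup G) : Set G)) : cj g A = A := by
  rw [← mem_normalizer_iff_cj]
  set N := Subgroup.normalizer ((S : Subgroup G) : Set G) with hN
  -- g^2 normalizes A
  have h2 : g ^ 2 ∈ Subgroup.normalizer (A : Set G) := by
    rw [mem_normalizer_iff_cj, pow_two, ← cj_cj]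
    rcases step_a h g hg with h1 | h1
    · rw [h1, h1]
    · rw [h1]
      rcases step_a h.symm g hg with h3 | h3
      · exfalso
        have : cj g⁻¹ (cj g A) = cj g⁻¹ (cj g B) := by rw [h1, h3]
        rw [cj_inv_cj, cj_inv_cj] at this
        exact h.hne this
      · exact h3
  -- an odd power of g lies in S
  have hSN : (S : Subgroup G) ≤ N := Subgroup.le_normalizer
  have : ((S : Subgroup G).subgroupOf N).Normal := Subgroup.normal_in_normalizer
  set m := ((S : Subgroup G).subgroupOf N).index with hm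
  have hmem : (⟨g, hg⟩ : N) ^ m ∈ (S : Subgroup G).subgroupOf N := Subgroup.pow_index_mem _ _
  have hgm : g ^ m ∈ (S : Subgroup G) := by
    rw [Subgroup.mem_subgroupOf] at hmem
    simpa using hmem
  have hodd : ¬ 2 ∣ m := by
    have h1 : m ∣ (S : Subgroup G).index := by
      rw [hm]
      exact Subgroup.relIndex_dvd_index_of_le hSN
    intro h2'
    exact S.not_dvd_index (h2'.trans h1)
  have hgmA : g ^ m ∈ Subgroup.normalizer (A : Set G) := by
    rw [mem_normalizer_iff_cj]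
    exact step_b h _ hgm
  obtain ⟨j, hj⟩ : ∃ j, m = 2 * j + 1 := by
    have : m % 2 = 1 := by omega
    exact ⟨m / 2, by omega⟩
  have e : g = g ^ m * ((g ^ 2) ^ j)⁻¹ := by
    rw [hj, ← pow_mul, pow_succ]
    group
  rw [e]
  exact Subgroup.mul_mem _ hgmA (Subgroup.inv_mem _ (Subgroup.pow_mem _ h2 j))

/-- (d) weak closure. -/
theorem step_d [Finite G] (S : Sylow 2 G) {A B : Subgroup G} (h : Hyp (S : Subgroup G) A B) (g : G)
    (hg : cj g A ≤ (S : Subgroup G)) : cj g A = A := by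
  rcases h.hcov _ hg (ea_cj g A h.hA) with h1 | h1
  · exact cj_eq_of_le g A h1
  · exfalso
    set A2 := cj g A with hA2
    -- S^g and B normalize A2
    have hSg : cj g (S : Subgroup G) ≤ Subgroup.normalizer (A2 : Set G) := by
      intro x hx
      rw [mem_cj_iff] at hx
      rw [mem_normalizer_iff_cj, hA2, cj_cj]
      have e : x * g = g * (g⁻¹ * x * g) := by group
      rw [e, ← cj_cj, step_b h _ hx]
    have hBn : B ≤ Subgroup.normalizer (A2 : Set G) := by
      apply le_normalizer_of_le_centralizer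
      have hBB : B ≤ Subgroup.centralizer (B : Set G) :=
        Subgroup.le_centralizer_iff_isMulCommutative.mpr h.hB.1
      exact hBB.trans (Subgroup.centralizer_le (by exact_mod_cast h1))
    -- Sylow conjugacy inside N(A2)
    have hB2 : IsPGroup 2 B := S.isPGroup'.to_le h.hBS
    have hcoe : ((g • S : Sylow 2 G) : Subgroup G) = cj g (S : Subgroup G) := by
      rw [Sylow.coe_subgroup_smul]
      rfl
    obtain ⟨k, hk, hkB⟩ := exists_conj_le_sylow_of_le (g • S) (Subgroup.normalizer (A2 : Set G))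
      (by rw [hcoe]; exact hSg) B hB2 hBn
    rw [hcoe] at hkB
    -- B^{g⁻¹ k} ≤ S contains A
    have h2 : cj (g⁻¹ * k) B ≤ (S : Subgroup G) := by
      rw [← cj_cj, cj_le_iff_le_cj_inv, inv_inv]
      exact hkB
    have h3 : A ≤ cj (g⁻¹ * k) B := by
      have hkA2 : cj k A2 = A2 := (mem_normalizer_iff_cj k A2).mp hk
      have : cj g⁻¹ (cj k A2) ≤ cj g⁻¹ (cj k B) := cj_mono _ (cj_mono _ h1)
      rw [hkA2, hA2, cj_inv_cj, cj_cj] at this
      exact this
    have h4 := h.hAmax _ h2 (ea_cj _ B h.hB) h3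
    have hcard : Nat.card B = Nat.card A := by rw [← h4, card_cj]
    have hA2B : A2 = B := Subgroup.eq_of_le_of_card_ge h1 (by rw [hA2, card_cj, hcard])
    -- now S and S^g both normalize B
    have hSB : (S : Subgroup G) ≤ Subgroup.normalizer (B : Set G) := by
      intro s hs
      rw [mem_normalizer_iff_cj]
      exact step_b h.symm s hs
    have hSgB : cj g (S : Subgroup G) ≤ Subgroup.normalizer (B : Set G) := by
      rw [← hA2B]; exact hSg
    have hSg2 : IsPGroup 2 ↥(cj g (S : Subgroup G)) := isPGroup_cj g _ S.isPGroup'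
    obtain ⟨k', hk', hk'S⟩ := exists_conj_le_sylow_of_le S (Subgroup.normalizer (B : Set G))
      hSB (cj g (S : Subgroup G)) hSg2 hSgB
    have hk'S' : cj k' (cj g (S : Subgroup G)) ≤ (S : Subgroup G) := hk'S
    rw [cj_cj] at hk'S'
    have hN : k' * g ∈ Subgroup.normalizer ((S : Subgroup G) : Set G) := by
      rw [mem_normalizer_iff_cj]
      exact cj_eq_of_le _ _ hk'S'
    have h5 := step_c S h (k' * g) hN
    rw [← cj_cj, ← hA2, hA2B, (mem_normalizer_iff_cj k' B).mp hk'] at h5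
    exact h.hne h5.symm

theorem ea_subgroupOf (S E : Subgroup G) (hE : Cfsg.IsElementaryAbelian 2 E) :
    Cfsg.IsElementaryAbelian 2 (E.subgroupOf S) := by
  refine ⟨?_, ?_⟩
  · have := hE.1
    rw [← Subgroup.le_centralizer_iff_isMulCommutative] at this ⊢
    intro u hu v hv
    apply Subtype.ext
    exact this hu v hv
  · intro a ha
    apply Subtype.ext
    have := hE.2 (a : G) ha
    simpa using this

theorem ea_map_subtype (S : Subgroup G) (A : Subgroup ↥S) (hA : Cfsg.IsElementaryAbelian 2 A) :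
    Cfsg.IsElementaryAbelian 2 (A.map S.subtype) := by
  have := hA.1
  refine ⟨Subgroup.map_isMulCommutative A _, ?_⟩
  rintro _ ⟨x, hx, rfl⟩
  rw [← map_pow, hA.2 x hx, map_one]

theorem exists_maximal_ea [Finite G] (E : Subgroup G) (hE : Cfsg.IsElementaryAbelian 2 E) :
    ∃ C : Subgroup G, Cfsg.IsElementaryAbelian 2 C ∧ E ≤ C ∧
      ∀ D : Subgroup G, Cfsg.IsElementaryAbelian 2 D → C ≤ D → D = C := by
  have : Nonempty {C : Subgroup G // Cfsg.IsElementaryAbelian 2 C ∧ E ≤ C} := ⟨⟨E, hE, le_refl E⟩⟩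
  obtain ⟨C, hC⟩ := Finite.exists_max
    (fun C : {C : Subgroup G // Cfsg.IsElementaryAbelian 2 C ∧ E ≤ C} => Nat.card C.1)
  refine ⟨C.1, C.2.1, C.2.2, ?_⟩
  intro D hD hCD
  have := hC ⟨D, hD, C.2.2.trans hCD⟩
  exact (Subgroup.eq_of_le_of_card_ge hCD this).symm

/-- Let S be a Sylow 2-subgroup of a finite group G having exactly two subgroups A ≠ B that are maximal among its elementary abelian subgroups, with S = AB. Then A and B are each weakly closed in S with respect to G, and the normalizer of S normalizes both A and B. -/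
theorem result {G : Type*} [Group G] [Finite G] (S : Sylow 2 G)
    (A B : Subgroup ↥(S : Subgroup G)) (hAB : A ≠ B)
    (hA : Cfsg.IsElementaryAbelian 2 A ∧ ∀ C : Subgroup ↥(S : Subgroup G), Cfsg.IsElementaryAbelian 2 C → A ≤ C → C = A)
    (hB : Cfsg.IsElementaryAbelian 2 B ∧ ∀ C : Subgroup ↥(S : Subgroup G), Cfsg.IsElementaryAbelian 2 C → B ≤ C → C = B)
    (honly : ∀ C : Subgroup ↥(S : Subgroup G), Cfsg.IsElementaryAbelian 2 C →
      (∀ D : Subgroup ↥(S : Subgroup G), Cfsg.IsElementaryAbelian 2 D → C ≤ D → D = C) → C = A ∨ C = B)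
    (hprod : ∀ s : ↥(S : Subgroup G), ∃ a ∈ A, ∃ b ∈ B, a * b = s)
    (A' B' : Subgroup G) (hA' : A' = A.map (S : Subgroup G).subtype) (hB' : B' = B.map (S : Subgroup G).subtype) :
    Cfsg.IsWeaklyClosed A' (S : Subgroup G) ∧ Cfsg.IsWeaklyClosed B' (S : Subgroup G) ∧
      Subgroup.normalizer ((S : Subgroup G) : Set G) ≤ Subgroup.normalizer (A' : Set G) ⊓ Subgroup.normalizer (B' : Set G) := by
  subst hA' hB'
  have hcov : ∀ E : Subgroup G, E ≤ (S : Subgroup G) → Cfsg.IsElementaryAbelian 2 E →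
      E ≤ A.map (S : Subgroup G).subtype ∨ E ≤ B.map (S : Subgroup G).subtype := by
    intro E hES hE
    obtain ⟨C, hC, hEC, hCmax⟩ := exists_maximal_ea _ (ea_subgroupOf (S : Subgroup G) E hE)
    have hE' : E = (E.subgroupOf (S : Subgroup G)).map (S : Subgroup G).subtype :=
      (Subgroup.map_subgroupOf_eq_of_le hES).symm
    rcases honly C hC hCmax with rfl | rfl
    · left; rw [hE']; exact Subgroup.map_mono hEC
    · right; rw [hE']; exact Subgroup.map_mono hEC
  have hmax : ∀ (A₀ : Subgroup ↥(S : Subgroup G)),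
      (∀ C : Subgroup ↥(S : Subgroup G), Cfsg.IsElementaryAbelian 2 C → A₀ ≤ C → C = A₀) →
      ∀ E : Subgroup G, E ≤ (S : Subgroup G) → Cfsg.IsElementaryAbelian 2 E →
      A₀.map (S : Subgroup G).subtype ≤ E → E = A₀.map (S : Subgroup G).subtype := by
    intro A₀ hA₀ E hES hE hle
    have h1 : A₀ ≤ E.subgroupOf (S : Subgroup G) := by
      intro a ha
      rw [Subgroup.mem_subgroupOf]
      exact hle ⟨a, ha, rfl⟩
    have h2 := hA₀ _ (ea_subgroupOf (S : Subgroup G) E hE) h1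
    rw [← h2, Subgroup.map_subgroupOf_eq_of_le hES]
  have hprod' : ∀ s ∈ (S : Subgroup G), ∃ a ∈ A.map (S : Subgroup G).subtype,
      ∃ b ∈ B.map (S : Subgroup G).subtype, a * b = s := by
    intro s hs
    obtain ⟨a, ha, b, hb, hab⟩ := hprod ⟨s, hs⟩
    refine ⟨(a : G), ⟨a, ha, rfl⟩, (b : G), ⟨b, hb, rfl⟩, ?_⟩
    have := congrArg Subtype.val hab
    simpa using this
  have hyp : Hyp (S : Subgroup G) (A.map (S : Subgroup G).subtype)
      (B.map (S : Subgroup G).subtype) :=
    ⟨Subgroup.map_subtype_le A, Subgroup.map_subtype_le B, ea_map_subtype _ A hA.1,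
      ea_map_subtype _ B hB.1,
      fun h => hAB (Subgroup.map_injective (S : Subgroup G).subtype_injective h),
      hcov, hmax A hA.2, hmax B hB.2, hprod'⟩
  refine ⟨⟨hyp.hAS, fun g hg => step_d S hyp g hg⟩, ⟨hyp.hBS, fun g hg => step_d S hyp.symm g hg⟩, ?_⟩
  intro g hg
  exact ⟨(mem_normalizer_iff_cj g _).mpr (step_c S hyp g hg),
    (mem_normalizer_iff_cj g _).mpr (step_c S hyp.symm g hg)⟩

end Cfsg.Agent.S3203
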