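import Cfsg.Statements.S3208
import Mathlib.Tactic.Group
import Cfsg.Agent.Lib.Helper18.Basic

set_option autoImplicit false
open Cfsg

namespace Cfsg.Agent.S3208

/-- Let j be an involution of a finite group G, H a subgroup of G, and T a Sylow 2-subgroup of H ∩ C_G(j) containing j such that ⟨j⟩ is a characteristic subgroup of T. Then T is a Sylow 2-subgroup of H. -/
theorem result {G : Type*} [Group G] [Finite G]
    (j : G) (hj : orderOf j = 2) (H T : Subgroup G) (hT : T ≤ H ⊓ Subgroup.centralizer ({j} : Set G)) (h2 : IsPGroup 2 ↥T)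
    (hSyl : ¬ 2 ∣ T.relIndex (H ⊓ Subgroup.centralizer ({j} : Set G))) (hjT : j ∈ T)
    (hchar : ((Subgroup.zpowers j).subgroupOf T).Characteristic) :
    ¬ 2 ∣ T.relIndex H := by
  haveI : Fact (Nat.Prime 2) := ⟨Nat.prime_two⟩
  intro hdvd
  have hTH : T ≤ H := hT.trans inf_le_left
  obtain ⟨T₁, hlt, hT₁H, hT₁p⟩ :=
    Cfsg.Agent.Lib.Helper18.exists_lt_isPGroup_of_dvd_relIndex T H hTH h2 hdvd
  obtain ⟨n, hnT₁, hnT, hnN⟩ :=
    Cfsg.Agent.Lib.Helper18.exists_mem_normalizer_not_mem_of_lt T T₁ hT₁p hlt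
  -- conjugation by n is an automorphism of T, so it fixes ⟨j⟩
  have hfix := hchar.fixed (Subgroup.normalizerMonoidHom T ⟨n, hnN⟩)
  have hjmem : (⟨j, hjT⟩ : T) ∈ (Subgroup.zpowers j).subgroupOf T := by
    rw [Subgroup.mem_subgroupOf]; exact Subgroup.mem_zpowers j
  rw [← hfix, Subgroup.mem_comap, Subgroup.mem_subgroupOf] at hjmem
  have hnj : n * j * n⁻¹ ∈ Subgroup.zpowers j := by
    simpa using hjmem
  -- zpowers j = {1, j}
  have hnj2 : n * j * n⁻¹ = j := by
    rw [Subgroup.mem_zpowers_iff] at hnj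
    obtain ⟨k, hk⟩ := hnj
    have hj2 : j ^ 2 = 1 := by rw [← hj]; exact pow_orderOf_eq_one j
    rcases Int.even_or_odd k with ⟨m, hm⟩ | ⟨m, hm⟩
    · exfalso
      have h1 : j ^ k = 1 := by
        rw [hm, ← two_mul, zpow_mul, zpow_ofNat, hj2, one_zpow]
      rw [h1] at hk
      have : j = 1 := by
        have e : j = n⁻¹ * (n * j * n⁻¹) * n := by group
        rw [e, ← hk]; group
      rw [this, orderOf_one] at hj
      omega
    · have h1 : j ^ k = j := by
        rw [hm, zpow_add, zpow_mul, zpow_ofNat, hj2, one_zpow, one_mul, zpow_one]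
      rw [← hk, h1]
  have hnC : n ∈ Subgroup.centralizer ({j} : Set G) := by
    rw [Subgroup.mem_centralizer_singleton_iff]
    calc n * j = (n * j * n⁻¹) * n := by group
      _ = j * n := by rw [hnj2]
  -- T ⊔ zpowers n is a 2-group in H ⊓ C(j)
  have hzn : IsPGroup 2 (Subgroup.zpowers n) :=
    hT₁p.to_le (Subgroup.zpowers_le.mpr hnT₁)
  have hznN : Subgroup.zpowers n ≤ Subgroup.normalizer (T : Set G) :=
    Subgroup.zpowers_le.mpr hnN
  have hT₂p : IsPGroup 2 ↥(Subgroup.zpowers n ⊔ T) := hzn.to_sup_of_normal_right' h2 hznN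
  have hT₂le : Subgroup.zpowers n ⊔ T ≤ H ⊓ Subgroup.centralizer ({j} : Set G) := by
    apply sup_le _ hT
    rw [Subgroup.zpowers_le]
    exact ⟨hT₁H hnT₁, hnC⟩
  have hT₂lt : T < Subgroup.zpowers n ⊔ T := by
    refine lt_of_le_of_ne le_sup_right ?_
    intro heq
    apply hnT
    rw [heq]
    exact Subgroup.mem_sup_left (Subgroup.mem_zpowers n)
  exact hSyl (Cfsg.Agent.Lib.Helper18.dvd_relIndex_of_lt_isPGroup T _ _ hT₂lt hT₂le hT₂p)

end Cfsg.Agent.S3208
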