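import Cfsg.Statements.S3209
import Cfsg.Agent.Lib.Helper14.SL2
import Cfsg.Agent.Lib.Helper14.SL2Odd

set_option autoImplicit false
open Cfsg

namespace Cfsg.Agent.S3209

open Matrix Cfsg.Agent.Lib.Helper14

section SL

variable {F : Type*} [Field F]

/-- The entries of `g * g` for `g ∈ SL₂`. -/
theorem sq_entries (g h : SpecialLinearGroup (Fin 2) F) (hg : g * g = h) :
    g 0 0 * g 0 0 + g 0 1 * g 1 0 = h 0 0 ∧ g 0 0 * g 0 1 + g 0 1 * g 1 1 = h 0 1 ∧
    g 1 0 * g 0 0 + g 1 1 * g 1 0 = h 1 0 ∧ g 1 0 * g 0 1 + g 1 1 * g 1 1 = h 1 1 := by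
  subst hg
  refine ⟨?_, ?_, ?_, ?_⟩ <;>
    simp [Matrix.mul_apply, Fin.sum_univ_two]

theorem det_entries (g : SpecialLinearGroup (Fin 2) F) :
    g 0 0 * g 1 1 - g 0 1 * g 1 0 = 1 := by
  have hd := g.det_coe
  rw [Matrix.det_fin_two] at hd
  exact hd

theorem neg_one_ne_one (h2 : (2 : F) ≠ 0) : (-1 : SpecialLinearGroup (Fin 2) F) ≠ 1 := by
  intro h
  have h00 := congrArg (fun m : SpecialLinearGroup (Fin 2) F => m 0 0) h
  simp at h00
  apply h2
  linear_combination -h00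

theorem neg_one_mul_neg_one : (-1 : SpecialLinearGroup (Fin 2) F) * (-1) = 1 := by
  rw [neg_mul_neg, one_mul]

/-- The only elements of `SL₂(F)` (char ≠ 2) of square `1` are `± 1`. -/
theorem eq_one_or_neg_one (h2 : (2 : F) ≠ 0) (g : SpecialLinearGroup (Fin 2) F)
    (hg : g * g = 1) : g = 1 ∨ g = -1 := by
  obtain ⟨h00, h01, h10, h11⟩ := sq_entries g 1 hg
  have hd := det_entries g
  simp at h00 h01 h10 h11
  have htr : g 0 0 + g 1 1 ≠ 0 := by
    intro h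
    apply h2
    have hd' : g 1 1 = - g 0 0 := by linear_combination h
    rw [hd'] at hd
    linear_combination -h00 - hd
  have hb : g 0 1 = 0 := by
    have : g 0 1 * (g 0 0 + g 1 1) = 0 := by linear_combination h01
    rcases mul_eq_zero.mp this with h | h
    · exact h
    · exact absurd h htr
  have hc : g 1 0 = 0 := by
    have : g 1 0 * (g 0 0 + g 1 1) = 0 := by linear_combination h10
    rcases mul_eq_zero.mp this with h | h
    · exact h
    · exact absurd h htr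
  rw [hb, hc] at hd h00
  have ha : (g 0 0 - 1) * (g 0 0 + 1) = 0 := by linear_combination h00
  rcases mul_eq_zero.mp ha with h | h
  · left
    have ha1 : g 0 0 = 1 := by linear_combination h
    have hd1 : g 1 1 = 1 := by rw [ha1] at hd; linear_combination hd
    ext i j
    fin_cases i <;> fin_cases j <;> simp [ha1, hd1, hb, hc]
  · right
    have ha1 : g 0 0 = -1 := by linear_combination h
    have hd1 : g 1 1 = -1 := by rw [ha1] at hd; linear_combination -hd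
    ext i j
    fin_cases i <;> fin_cases j <;> simp [ha1, hd1, hb, hc]

/-- An element of `SL₂(F)` (char ≠ 2) of square `-1` has trace `0` and is not scalar. -/
theorem trace_zero_of_sq (h2 : (2 : F) ≠ 0) (g : SpecialLinearGroup (Fin 2) F)
    (hg : g * g = -1) :
    (g : Matrix (Fin 2) (Fin 2) F).trace = 0 ∧ ¬ IsScalar2 (g : Matrix (Fin 2) (Fin 2) F) := by
  obtain ⟨h00, h01, h10, h11⟩ := sq_entries g (-1) hg
  have hd := det_entries g
  simp at h00 h01 h10 h11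
  have htr : g 0 0 + g 1 1 = 0 := by
    have : (g 0 0 + g 1 1) * (g 0 0 + g 1 1) = 0 := by
      linear_combination h00 + h11 + 2 * hd
    exact mul_self_eq_zero.mp this
  refine ⟨by rw [Matrix.trace_fin_two]; exact htr, ?_⟩
  rintro ⟨hb, hc, had⟩
  have hb' : g 0 1 = 0 := hb
  have had' : g 0 0 = g 1 1 := had
  have ha0 : g 0 0 = 0 := by
    have : (2 : F) * g 0 0 = 0 := by linear_combination htr + had'
    rcases mul_eq_zero.mp this with h | h
    · exact absurd h h2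
    · exact h
  rw [ha0, hb'] at hd
  simp at hd

theorem comp2SL_zero_sq : (comp2SL (0 : F)) * comp2SL 0 = -1 := by
  apply Subtype.ext
  show comp2 (0 : F) 1 * comp2 0 1 = -1
  ext i j
  fin_cases i <;> fin_cases j <;> simp [comp2, Matrix.mul_apply, Fin.sum_univ_two]

/-- Every element of `SL₂(F)` (`F` finite of odd order) of square `-1` is conjugate to the
companion matrix of trace `0`. -/
theorem exists_conj [Fintype F] (h2 : (2 : F) ≠ 0) (g : SpecialLinearGroup (Fin 2) F)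
    (hg : g * g = -1) : ∃ c : SpecialLinearGroup (Fin 2) F, c * comp2SL 0 * c⁻¹ = g := by
  obtain ⟨htr, hns⟩ := trace_zero_of_sq h2 g hg
  have h4 : (g : Matrix (Fin 2) (Fin 2) F).trace ^ 2 ≠ 4 := by
    rw [htr]
    intro h
    apply h2
    have : (2 : F) * 2 = 0 := by linear_combination -h
    exact mul_self_eq_zero.mp this
  have h := isConj_comp2SL g hns h4
  rw [htr, isConj_comm, isConj_iff] at h
  exact h

end SL

theorem result {G : Type*} [Group G] [Finite G]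
    {F₁ : Type*} [Field F₁] [Fintype F₁] {F₂ : Type*} [Field F₂] [Fintype F₂]
    (hF₁ : Odd (Fintype.card F₁)) (hF₂ : Odd (Fintype.card F₂)) (L₁ L₂ : Subgroup G)
    (e₁ : ↥L₁ ≃* Matrix.SpecialLinearGroup (Fin 2) F₁) (e₂ : ↥L₂ ≃* Matrix.SpecialLinearGroup (Fin 2) F₂)
    (hc : ∀ x ∈ L₁, ∀ y ∈ L₂, x * y = y * x) (j : G) (hj : orderOf j = 2) (hm : L₁ ⊓ L₂ = Subgroup.zpowers j) :
    ∃ x ∈ L₁ ⊔ L₂, orderOf x = 2 ∧ x ≠ j ∧
      ∀ y ∈ L₁ ⊔ L₂, orderOf y = 2 → y = j ∨ ∃ g ∈ L₁ ⊔ L₂, g * x * g⁻¹ = y := by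
  classical
  have h2₁ : (2 : F₁) ≠ 0 := two_ne_zero_of_odd hF₁
  have h2₂ : (2 : F₂) ≠ 0 := two_ne_zero_of_odd hF₂
  have hj1 : j ≠ 1 := by
    intro h; rw [h, orderOf_one] at hj; omega
  have hjj : j * j = 1 := by rw [← sq, ← hj, pow_orderOf_eq_one]
  have hjmem : j ∈ L₁ ⊓ L₂ := hm ▸ Subgroup.mem_zpowers j
  have hjL₁ : j ∈ L₁ := hjmem.1
  have hjL₂ : j ∈ L₂ := hjmem.2
  have hcap : ∀ g, g ∈ L₁ → g ∈ L₂ → g = 1 ∨ g = j := by
    intro g h1 h2
    have hg : g ∈ Subgroup.zpowers j := hm ▸ (⟨h1, h2⟩ : g ∈ L₁ ⊓ L₂)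
    obtain ⟨k, rfl⟩ := hg
    show j ^ k = 1 ∨ j ^ k = j
    rw [← zpow_mod_orderOf, hj]
    have : k % ((2 : ℕ) : ℤ) = 0 ∨ k % ((2 : ℕ) : ℤ) = 1 := by
      push_cast; omega
    rcases this with h | h <;> rw [h] <;> simp
  -- the image of `j` under `e₁`, `e₂`
  have he₁ : e₁ ⟨j, hjL₁⟩ = -1 := by
    have hsq : e₁ ⟨j, hjL₁⟩ * e₁ ⟨j, hjL₁⟩ = 1 := by
      rw [← map_mul]
      have : (⟨j, hjL₁⟩ : L₁) * ⟨j, hjL₁⟩ = 1 := Subtype.ext hjj
      rw [this, map_one]
    rcases eq_one_or_neg_one h2₁ _ hsq with h | h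
    · exfalso; apply hj1
      have : (⟨j, hjL₁⟩ : L₁) = 1 := by rwa [MulEquiv.map_eq_one_iff] at h
      exact congrArg Subtype.val this
    · exact h
  have he₂ : e₂ ⟨j, hjL₂⟩ = -1 := by
    have hsq : e₂ ⟨j, hjL₂⟩ * e₂ ⟨j, hjL₂⟩ = 1 := by
      rw [← map_mul]
      have : (⟨j, hjL₂⟩ : L₂) * ⟨j, hjL₂⟩ = 1 := Subtype.ext hjj
      rw [this, map_one]
    rcases eq_one_or_neg_one h2₂ _ hsq with h | h
    · exfalso; apply hj1
      have : (⟨j, hjL₂⟩ : L₂) = 1 := by rwa [MulEquiv.map_eq_one_iff] at h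
      exact congrArg Subtype.val this
    · exact h
  -- the two maps into `G`
  let f₁ : SpecialLinearGroup (Fin 2) F₁ →* G := L₁.subtype.comp e₁.symm.toMonoidHom
  let f₂ : SpecialLinearGroup (Fin 2) F₂ →* G := L₂.subtype.comp e₂.symm.toMonoidHom
  have hf₁mem : ∀ a, f₁ a ∈ L₁ := fun a => (e₁.symm a).2
  have hf₂mem : ∀ b, f₂ b ∈ L₂ := fun b => (e₂.symm b).2
  have hcomm : ∀ a b, Commute (f₁ a) (f₂ b) := fun a b => hc _ (hf₁mem a) _ (hf₂mem b)
  have hf₁inj : Function.Injective f₁ := Subtype.val_injective.comp e₁.symm.injective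
  have hf₂inj : Function.Injective f₂ := Subtype.val_injective.comp e₂.symm.injective
  have hf₁surj : ∀ g ∈ L₁, ∃ a, f₁ a = g := fun g hg =>
    ⟨e₁ ⟨g, hg⟩, by show ((e₁.symm (e₁ ⟨g, hg⟩) : L₁) : G) = g; rw [e₁.symm_apply_apply]⟩
  have hf₂surj : ∀ g ∈ L₂, ∃ b, f₂ b = g := fun g hg =>
    ⟨e₂ ⟨g, hg⟩, by show ((e₂.symm (e₂ ⟨g, hg⟩) : L₂) : G) = g; rw [e₂.symm_apply_apply]⟩
  have hf₁neg : f₁ (-1) = j := by
    show ((e₁.symm (-1) : L₁) : G) = j
    rw [← he₁, e₁.symm_apply_apply]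
  have hf₂neg : f₂ (-1) = j := by
    show ((e₂.symm (-1) : L₂) : G) = j
    rw [← he₂, e₂.symm_apply_apply]
  have hmul : ∀ a b a' b', (f₁ a * f₂ b) * (f₁ a' * f₂ b') = f₁ (a * a') * f₂ (b * b') := by
    intro a b a' b'
    rw [map_mul, map_mul]
    exact (hcomm a' b).symm.mul_mul_mul_comm _ _
  -- every element of the join is a product
  have hsup : ∀ y ∈ L₁ ⊔ L₂, ∃ a b, y = f₁ a * f₂ b := by
    intro y hy
    have hr : (MonoidHom.noncommCoprod f₁ f₂ hcomm).range = L₁ ⊔ L₂ := by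
      rw [MonoidHom.noncommCoprod_range]
      congr 1
      · ext g
        constructor
        · rintro ⟨a, rfl⟩; exact hf₁mem a
        · intro hg; exact hf₁surj g hg
      · ext g
        constructor
        · rintro ⟨b, rfl⟩; exact hf₂mem b
        · intro hg; exact hf₂surj g hg
    rw [← hr] at hy
    obtain ⟨⟨a, b⟩, rfl⟩ := hy
    exact ⟨a, b, rfl⟩
  -- the kernel
  have hker : ∀ a b, f₁ a * f₂ b = 1 → (a = 1 ∧ b = 1) ∨ (a = -1 ∧ b = -1) := by
    intro a b hab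
    have h1 : f₁ a = (f₂ b)⁻¹ := eq_inv_of_mul_eq_one_left hab
    have hmem : f₁ a ∈ L₂ := h1 ▸ L₂.inv_mem (hf₂mem b)
    rcases hcap (f₁ a) (hf₁mem a) hmem with h | h
    · left
      have hb : f₂ b = 1 := by rw [h, one_mul] at hab; exact hab
      exact ⟨hf₁inj (h.trans (map_one f₁).symm), hf₂inj (hb.trans (map_one f₂).symm)⟩
    · right
      have hb : f₂ b = j := by
        rw [h] at hab
        calc f₂ b = (j * j) * f₂ b := by rw [hjj, one_mul]
          _ = j * (j * f₂ b) := mul_assoc _ _ _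
          _ = j := by rw [hab, mul_one]
      exact ⟨hf₁inj (h.trans hf₁neg.symm), hf₂inj (hb.trans hf₂neg.symm)⟩
  -- the representative
  have hw₁ : ∀ (w : SpecialLinearGroup (Fin 2) F₁), w * w = -1 → w ≠ 1 ∧ w ≠ -1 := by
    intro w hw
    constructor
    · rintro rfl
      rw [one_mul] at hw
      exact neg_one_ne_one h2₁ hw.symm
    · rintro rfl
      rw [neg_one_mul_neg_one] at hw
      exact neg_one_ne_one h2₁ hw.symm
  have hw₂ : ∀ (w : SpecialLinearGroup (Fin 2) F₂), w * w = -1 → w ≠ 1 ∧ w ≠ -1 := by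
    intro w hw
    constructor
    · rintro rfl
      rw [one_mul] at hw
      exact neg_one_ne_one h2₂ hw.symm
    · rintro rfl
      rw [neg_one_mul_neg_one] at hw
      exact neg_one_ne_one h2₂ hw.symm
  have hxx : (f₁ (comp2SL 0) * f₂ (comp2SL 0)) * (f₁ (comp2SL 0) * f₂ (comp2SL 0)) = 1 := by
    rw [hmul, comp2SL_zero_sq, comp2SL_zero_sq, hf₁neg, hf₂neg, hjj]
  have hx1 : f₁ (comp2SL 0) * f₂ (comp2SL 0) ≠ 1 := by
    intro h
    rcases hker _ _ h with ⟨h, -⟩ | ⟨h, -⟩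
    · exact (hw₁ _ comp2SL_zero_sq).1 h
    · exact (hw₁ _ comp2SL_zero_sq).2 h
  refine ⟨f₁ (comp2SL 0) * f₂ (comp2SL 0),
    Subgroup.mul_mem_sup (hf₁mem _) (hf₂mem _), ?_, ?_, ?_⟩
  · exact orderOf_eq_prime (by rw [sq]; exact hxx) hx1
  · intro h
    have h' : (f₁ (comp2SL 0) * f₂ (comp2SL 0)) * (f₁ (-1) * f₂ 1) = 1 := by
      rw [hf₁neg, map_one, mul_one, h, hjj]
    rw [hmul] at h'
    rcases hker _ _ h' with ⟨-, h⟩ | ⟨-, h⟩
    · rw [mul_one] at h
      exact (hw₂ _ comp2SL_zero_sq).1 h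
    · rw [mul_one] at h
      exact (hw₂ _ comp2SL_zero_sq).2 h
  · intro y hy hy2
    obtain ⟨a, b, rfl⟩ := hsup y hy
    have hy1 : f₁ a * f₂ b ≠ 1 := by
      intro h; rw [h, orderOf_one] at hy2; omega
    have hyy : (f₁ a * f₂ b) * (f₁ a * f₂ b) = 1 := by
      have := pow_orderOf_eq_one (f₁ a * f₂ b)
      rw [hy2, sq] at this
      exact this
    rw [hmul] at hyy
    rcases hker _ _ hyy with ⟨ha, hb⟩ | ⟨ha, hb⟩
    · left
      rcases eq_one_or_neg_one h2₁ a ha with rfl | rfl <;>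
        rcases eq_one_or_neg_one h2₂ b hb with rfl | rfl
      · exact absurd (by rw [map_one, map_one, one_mul]) hy1
      · rw [map_one, one_mul, hf₂neg]
      · rw [map_one, mul_one, hf₁neg]
      · exact absurd (by rw [hf₁neg, hf₂neg, hjj]) hy1
    · right
      obtain ⟨c₁, hc₁⟩ := exists_conj h2₁ a ha
      obtain ⟨c₂, hc₂⟩ := exists_conj h2₂ b hb
      refine ⟨f₁ c₁ * f₂ c₂, Subgroup.mul_mem_sup (hf₁mem _) (hf₂mem _), ?_⟩
      rw [mul_inv_eq_iff_eq_mul, hmul, hmul]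
      have e1 : c₁ * comp2SL 0 = a * c₁ := by rw [← hc₁]; group
      have e2 : c₂ * comp2SL 0 = b * c₂ := by rw [← hc₂]; group
      rw [e1, e2]

end Cfsg.Agent.S3209
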