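import Cfsg.Statements.S3210
import Cfsg.Agent.Lib.Helper18.SL2PairSwap

set_option autoImplicit false
open Cfsg
open Cfsg.Agent.Lib.Helper18.SL2Dec

namespace Cfsg.Agent.S3210

/-- Let G be a finite group with subgroups L₁ ≅ SL₂(q₁) and L₂ ≅ SL₂(q₂), q₁ and q₂ odd prime powers, which commute elementwise and meet in ⟨j⟩ for an involution j, and suppose L₁L₂ has index 2 in C_G(j). Then every element n of C_G(j) outside L₁L₂ either normalizes both L₁ and L₂, or conjugates L₁ onto L₂; in the second case q₁ = q₂ and there is an element n′ of C_G(j) outside L₁L₂ conjugating L₁ onto L₂ with n′² ∈ ⟨j⟩. -/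
theorem result {G : Type*} [Group G] [Finite G]
    {F₁ : Type*} [Field F₁] [Fintype F₁] {F₂ : Type*} [Field F₂] [Fintype F₂]
    (hF₁ : Odd (Fintype.card F₁)) (hF₂ : Odd (Fintype.card F₂)) (L₁ L₂ : Subgroup G)
    (e₁ : ↥L₁ ≃* Matrix.SpecialLinearGroup (Fin 2) F₁) (e₂ : ↥L₂ ≃* Matrix.SpecialLinearGroup (Fin 2) F₂)
    (hc : ∀ x ∈ L₁, ∀ y ∈ L₂, x * y = y * x) (j : G) (hj : orderOf j = 2) (hm : L₁ ⊓ L₂ = Subgroup.zpowers j)
    (hle : L₁ ⊔ L₂ ≤ Subgroup.centralizer ({j} : Set G)) (hi : (L₁ ⊔ L₂).relIndex (Subgroup.centralizer ({j} : Set G)) = 2) (n : G) (hn : n ∈ Subgroup.centralizer ({j} : Set G)) (hn' : n ∉ L₁ ⊔ L₂) :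
    (L₁.map (MulAut.conj n).toMonoidHom = L₁ ∧ L₂.map (MulAut.conj n).toMonoidHom = L₂) ∨
      (L₁.map (MulAut.conj n).toMonoidHom = L₂ ∧ Fintype.card F₁ = Fintype.card F₂ ∧
        ∃ n' ∈ Subgroup.centralizer ({j} : Set G), n' ∉ L₁ ⊔ L₂ ∧ L₁.map (MulAut.conj n').toMonoidHom = L₂ ∧ n' ^ 2 ∈ Subgroup.zpowers j) := by
  have S₁ : SL2Like L₁ := SL2Like.of_equiv e₁ (sl2Like_SL2 hF₁)
  have S₂ : SL2Like L₂ := SL2Like.of_equiv e₂ (sl2Like_SL2 hF₂)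
  rcases normalizes_or_swaps L₁ L₂ S₁ S₂ hc j hj hm hle hi n hn with h | ⟨h12, h21⟩
  · exact Or.inl h
  right
  have hcinj : Function.Injective (MulAut.conj n).toMonoidHom := (MulAut.conj n).injective
  refine ⟨h12, ?_, ?_⟩
  · apply card_eq_of_card_SL2_eq
    rw [← Nat.card_congr e₁.toEquiv, ← Nat.card_congr e₂.toEquiv, ← h12]
    exact (Subgroup.card_map_of_injective hcinj).symm
  -- membership descriptions of the conjugates
  have hmem12 : ∀ x ∈ L₁, n * x * n⁻¹ ∈ L₂ := by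
    intro x hx
    rw [← h12]
    exact ⟨x, hx, by simp [MulAut.conj_apply]⟩
  have hmem21 : ∀ x ∈ L₂, n * x * n⁻¹ ∈ L₁ := by
    intro x hx
    rw [← h21]
    exact ⟨x, hx, by simp [MulAut.conj_apply]⟩
  have hsurj12 : ∀ y ∈ L₂, ∃ x ∈ L₁, n * x * n⁻¹ = y := by
    intro y hy
    rw [← h12] at hy
    obtain ⟨x, hx, rfl⟩ := hy
    exact ⟨x, hx, by simp [MulAut.conj_apply]⟩
  -- `n² ∈ L₁L₂`
  have hn2 : n ^ 2 ∈ L₁ ⊔ L₂ := by
    have h1 := Subgroup.sq_mem_of_index_two hi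
      (⟨n, hn⟩ : Subgroup.centralizer ({j} : Set G))
    rw [Subgroup.mem_subgroupOf] at h1
    exact h1
  obtain ⟨a, ha, b, hb, hab⟩ := (mem_sup_of_comm L₁ L₂ hc _).mp hn2
  have haY : a ∈ L₁ ⊔ L₂ := Subgroup.mem_sup_left ha
  refine ⟨n * a⁻¹, ?_, ?_, ?_, ?_⟩
  · exact Subgroup.mul_mem _ hn (Subgroup.inv_mem _ (hle haY))
  · intro h
    apply hn'
    have : n = n * a⁻¹ * a := by group
    rw [this]
    exact Subgroup.mul_mem _ h haY
  · apply le_antisymm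
    · rintro _ ⟨x, hx, rfl⟩
      have e : (MulAut.conj (n * a⁻¹)).toMonoidHom x = n * (a⁻¹ * x * a) * n⁻¹ := by
        show (MulAut.conj (n * a⁻¹)) x = n * (a⁻¹ * x * a) * n⁻¹
        rw [MulAut.conj_apply]; group
      rw [e]
      exact hmem12 _ (L₁.mul_mem (L₁.mul_mem (L₁.inv_mem ha) hx) ha)
    · intro y hy
      obtain ⟨x, hx, rfl⟩ := hsurj12 y hy
      refine ⟨a * x * a⁻¹, L₁.mul_mem (L₁.mul_mem ha hx) (L₁.inv_mem ha), ?_⟩
      show (MulAut.conj (n * a⁻¹)) (a * x * a⁻¹) = n * x * n⁻¹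
      rw [MulAut.conj_apply]; group
  · have hsq : (n * a⁻¹) ^ 2 = (n * a⁻¹ * n⁻¹) * b := by
      have hnn : n * n = a * b := by rw [← pow_two]; exact hab
      have hcomm : a * b = b * a := hc a ha b hb
      calc (n * a⁻¹) ^ 2 = (n * a⁻¹) * (n * a⁻¹) := pow_two _
        _ = n * a⁻¹ * n⁻¹ * (n * n) * a⁻¹ := by group
        _ = n * a⁻¹ * n⁻¹ * (a * b) * a⁻¹ := by rw [hnn]
        _ = n * a⁻¹ * n⁻¹ * (b * a) * a⁻¹ := by rw [hcomm]
        _ = n * a⁻¹ * n⁻¹ * b := by group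
    have m2 : (n * a⁻¹) ^ 2 ∈ L₂ := by
      rw [hsq]
      exact L₂.mul_mem (hmem12 _ (L₁.inv_mem ha)) hb
    have m1 : (n * a⁻¹) ^ 2 ∈ L₁ := by
      have e0 : (n * a⁻¹) ^ 2 = (n * a⁻¹) * (n * a⁻¹) ^ 2 * (n * a⁻¹)⁻¹ := by
        rw [pow_two]; group
      have e1 : ∀ w : G, (n * a⁻¹) * w * (n * a⁻¹)⁻¹ = n * (a⁻¹ * w * a) * n⁻¹ := by
        intro w; group
      have e : (n * a⁻¹) ^ 2 = n * (a⁻¹ * (n * a⁻¹) ^ 2 * a) * n⁻¹ := by
        rw [← e1]; exact e0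
      have e2 : a⁻¹ * (n * a⁻¹) ^ 2 * a = (n * a⁻¹) ^ 2 := by
        have := hc a⁻¹ (L₁.inv_mem ha) _ m2
        rw [this, inv_mul_cancel_right]
      rw [e, e2]
      exact hmem21 _ m2
    rw [← hm]
    exact ⟨m1, m2⟩


end Cfsg.Agent.S3210
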