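import Mathlib
import Cfsg.Statements.S3213

set_option autoImplicit false
open Cfsg

namespace Cfsg.Agent.S3213

open Matrix

set_option maxRecDepth 100000 in
theorem zmod5_key : ∀ a b c d : ZMod 5, a * d - b * c = 1 →
    ∃ p q r : ZMod 5, -(p * p) - q * r = 1 ∧ (a - d) * p + b * r + c * q = 0 := by decide

theorem zmod3_sq : ∀ t : ZMod 3, t * t ≠ -1 := by decide

theorem zmod5_neg_one : (-1 : ZMod 5) ≠ 1 := by decide

theorem pow3_mod5 : ∀ d e : ℕ, d ≤ 4 → e ≤ 4 → 3 ^ d ≡ 3 ^ e [MOD 5] →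
    d = e ∨ (d = 4 ∧ e = 0) ∨ (d = 0 ∧ e = 4) := by
  intro d e hd he h
  interval_cases d <;> interval_cases e <;>
    first
      | exact Or.inl rfl
      | exact Or.inr (Or.inl ⟨rfl, rfl⟩)
      | exact Or.inr (Or.inr ⟨rfl, rfl⟩)
      | exact absurd h (by decide)

section linalg

variable {F : Type*} [Field F] {V : Type*} [AddCommGroup V] [Module F V]

theorem even_finrank_of_sq_eq_neg_one [FiniteDimensional F V] (hsq : ∀ a : F, a * a ≠ -1)
    (Y : Module.End F V) (hY : ∀ v, Y (Y v) = -v) (W : Submodule F V)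
    (hW : ∀ v ∈ W, Y v ∈ W) : Even (Module.finrank F W) := by
  by_contra hodd
  rw [Nat.not_even_iff_odd] at hodd
  have hgg : (Y.restrict hW) * (Y.restrict hW) = (-1 : F) • (1 : Module.End F W) := by
    apply LinearMap.ext
    intro w
    apply Subtype.ext
    rw [Module.End.mul_apply, LinearMap.restrict_coe_apply, LinearMap.restrict_coe_apply, hY]
    simp
  have hdet : LinearMap.det (Y.restrict hW) * LinearMap.det (Y.restrict hW)
      = (-1 : F) ^ Module.finrank F W := by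
    rw [← map_mul, hgg, LinearMap.det_smul, map_one, mul_one]
  rw [hodd.neg_one_pow] at hdet
  exact hsq _ hdet

theorem card_modEq_fixed [Finite V] (T : Module.End F V) (hT : T ^ 5 = 1) (W : Submodule F V)
    (hW : ∀ v ∈ W, T v ∈ W) :
    Nat.card W ≡ Nat.card ↥(W ⊓ LinearMap.ker (T - 1)) [MOD 5] := by
  classical
  haveI : Fintype W := Fintype.ofFinite W
  haveI : Fact (Nat.Prime 5) := ⟨by norm_num⟩
  let f : Function.End W := fun w => ⟨T w.1, hW w.1 w.2⟩
  have hiter : ∀ (n : ℕ) (w : W), ((f ^ n) w : V) = (T ^ n) w.1 := by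
    intro n
    induction n with
    | zero => intro w; rw [pow_zero, pow_zero]; rfl
    | succ n ih =>
      intro w
      rw [pow_succ, pow_succ]
      show (((f ^ n) (f w) : W) : V) = (T ^ n) (T w.1)
      rw [ih]
  have hf : f ^ 5 ^ 1 = 1 := by
    rw [pow_one]
    funext w
    apply Subtype.ext
    rw [hiter, hT]
    rfl
  have h := Equiv.Perm.card_fixedPoints_modEq (f := f) (p := 5) (n := 1) hf
  rw [← Nat.card_eq_fintype_card, ← Nat.card_eq_fintype_card] at h
  have hcongr : Nat.card ↥(Function.fixedPoints f) = Nat.card ↥(W ⊓ LinearMap.ker (T - 1)) := by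
    apply Nat.card_congr
    refine ⟨fun w => ⟨w.1.1, ⟨w.1.2, ?_⟩⟩, fun v => ⟨⟨v.1, v.2.1⟩, ?_⟩, ?_, ?_⟩
    · have hw : f w.1 = w.1 := w.2
      have hw' : T w.1.1 = w.1.1 := congrArg Subtype.val hw
      show w.1.1 ∈ LinearMap.ker (T - 1)
      rw [LinearMap.mem_ker, LinearMap.sub_apply, hw', Module.End.one_apply, sub_self]
    · have hv : (T - 1) v.1 = 0 := LinearMap.mem_ker.mp v.2.2
      show f ⟨v.1, v.2.1⟩ = ⟨v.1, v.2.1⟩
      apply Subtype.ext
      show T v.1 = v.1
      rw [LinearMap.sub_apply, Module.End.one_apply] at hv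
      exact sub_eq_zero.mp hv
    · intro w; rfl
    · intro v; rfl
  rw [hcongr] at h
  exact h

theorem card_sub [Fintype F] [Finite V] (hF : Fintype.card F = 3) (W : Submodule F V) :
    Nat.card W = 3 ^ Module.finrank F W := by
  rw [Module.natCard_eq_pow_finrank (K := F) (V := W), Nat.card_eq_fintype_card, hF]

theorem invariant_trivial [Fintype F] (hF : Fintype.card F = 3) [Finite V]
    (h4 : Module.finrank F V = 4) (T : Module.End F V) (hT5 : T ^ 5 = 1) (hT1 : T ≠ 1)
    (W : Submodule F V) (hW : ∀ v ∈ W, T v ∈ W) : W = ⊥ ∨ W = ⊤ := by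
  -- first: no fixed vectors
  have hC : LinearMap.ker (T - 1) = ⊥ := by
    have h := card_modEq_fixed T hT5 ⊤ (fun v _ => Submodule.mem_top)
    rw [top_inf_eq, card_sub hF, card_sub hF, finrank_top, h4] at h
    have hle : Module.finrank F (LinearMap.ker (T - 1)) ≤ 4 := by
      rw [← h4]; exact Submodule.finrank_le _
    rcases pow3_mod5 _ _ le_rfl hle h with h1 | ⟨_, h1⟩ | ⟨h1, _⟩
    · exfalso
      apply hT1
      have htop : LinearMap.ker (T - 1) = ⊤ :=
        Submodule.eq_top_of_finrank_eq (by rw [← h1, h4])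
      apply LinearMap.ext
      intro v
      have hv : v ∈ LinearMap.ker (T - 1) := by rw [htop]; exact Submodule.mem_top
      rw [LinearMap.mem_ker, LinearMap.sub_apply, Module.End.one_apply] at hv
      rw [Module.End.one_apply]
      exact sub_eq_zero.mp hv
    · exact Submodule.finrank_eq_zero.mp h1
    · omega
  have h := card_modEq_fixed T hT5 W hW
  rw [hC, inf_bot_eq, card_sub hF, card_sub hF, finrank_bot] at h
  have hle : Module.finrank F W ≤ 4 := by
    rw [← h4]; exact Submodule.finrank_le _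
  rcases pow3_mod5 _ _ hle (by norm_num) h with h1 | ⟨h1, _⟩ | ⟨h1, _⟩
  · left; exact Submodule.finrank_eq_zero.mp h1
  · right; exact Submodule.eq_top_of_finrank_eq (by rw [h1, h4])
  · left; exact Submodule.finrank_eq_zero.mp h1

theorem central_invol_neg [Fintype F] (hF : Fintype.card F = 3) [Finite V]
    (h4 : Module.finrank F V = 4) (T Z : Module.End F V) (hT5 : T ^ 5 = 1) (hT1 : T ≠ 1)
    (hZZ : ∀ v, Z (Z v) = v) (hZ1 : Z ≠ 1) (hZT : ∀ v, Z (T v) = T (Z v)) :
    ∀ v, Z v = -v := by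
  have hW : ∀ v ∈ LinearMap.ker (Z - 1), T v ∈ LinearMap.ker (Z - 1) := by
    intro v hv
    rw [LinearMap.mem_ker, LinearMap.sub_apply, Module.End.one_apply] at hv ⊢
    rw [hZT, sub_eq_zero.mp hv, sub_self]
  rcases invariant_trivial hF h4 T hT5 hT1 _ hW with h | h
  · intro v
    have hv : Z v + v ∈ LinearMap.ker (Z - 1) := by
      rw [LinearMap.mem_ker, LinearMap.sub_apply, Module.End.one_apply, map_add, hZZ]
      abel
    rw [h, Submodule.mem_bot] at hv
    exact eq_neg_of_add_eq_zero_left hv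
  · exfalso
    apply hZ1
    apply LinearMap.ext
    intro v
    have hv : v ∈ LinearMap.ker (Z - 1) := by rw [h]; exact Submodule.mem_top
    rw [LinearMap.mem_ker, LinearMap.sub_apply, Module.End.one_apply] at hv
    rw [Module.End.one_apply]
    exact sub_eq_zero.mp hv

theorem jordan22 [FiniteDimensional F V] (h4 : Module.finrank F V = 4)
    (hsq : ∀ a : F, a * a ≠ -1) (h3 : (3 : F) = 0) (X X' Y : Module.End F V)
    (hXX' : ∀ v, X (X' v) = v) (hX'X : ∀ v, X' (X v) = v) (hX3 : ∀ v, X (X (X v)) = v)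
    (hX1 : X ≠ 1) (hY : ∀ v, Y (Y v) = -v) (hYX : ∀ v, Y (X v) = X' (Y v)) :
    Module.finrank F (LinearMap.ker (X - 1)) = 2 ∧
      LinearMap.ker (X - 1) = LinearMap.range (X - 1) := by
  obtain ⟨N, hNdef⟩ : ∃ N : Module.End F V, N = X - 1 := ⟨_, rfl⟩
  rw [← hNdef]
  have hN : ∀ v, N v = X v - v := by intro v; rw [hNdef]; rfl
  have hN3 : ∀ v, N (N (N v)) = 0 := by
    intro v
    have key : N (N (N v)) = (X (X (X v)) - v) + (3 : F) • (X v - X (X v)) := by
      simp only [hN, map_sub]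
      module
    rw [key, hX3, h3, zero_smul, sub_self, add_zero]
  have hstar : ∀ w, Y (N w) = N (-(X' (Y w))) := by
    intro w
    rw [hN, hN, map_sub, hYX, map_neg, hXX']
    abel
  have hcomm : ∀ b, X' (N b) = N (X' b) := by
    intro b
    rw [hN, hN, map_sub, hX'X, hXX']
  have hK : ∀ v ∈ LinearMap.ker N, Y v ∈ LinearMap.ker N := by
    intro v hv
    rw [LinearMap.mem_ker] at hv ⊢
    have hXv : X v = v := by
      have h := hN v
      rw [hv] at h
      exact sub_eq_zero.mp h.symm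
    have h1 : Y v = X' (Y v) := by
      have h := hYX v
      rw [hXv] at h
      exact h
    rw [hN, sub_eq_zero]
    calc X (Y v) = X (X' (Y v)) := by rw [← h1]
      _ = Y v := hXX' _
  have hI : ∀ u ∈ LinearMap.range N, Y u ∈ LinearMap.range N := by
    rintro u ⟨w, rfl⟩
    exact LinearMap.mem_range.mpr ⟨-(X' (Y w)), (hstar w).symm⟩
  have hI2 : ∀ u ∈ LinearMap.range (N * N), Y u ∈ LinearMap.range (N * N) := by
    rintro u ⟨w, rfl⟩
    refine LinearMap.mem_range.mpr ⟨-(X' (-(X' (Y w)))), ?_⟩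
    have e1 : Y (N (N w)) = N (N (-(X' (-(X' (Y w)))))) := by
      calc Y (N (N w)) = N (-(X' (Y (N w)))) := hstar (N w)
        _ = N (-(X' (N (-(X' (Y w)))))) := by rw [hstar w]
        _ = N (-(N (X' (-(X' (Y w)))))) := by rw [hcomm]
        _ = N (N (-(X' (-(X' (Y w)))))) := by rw [map_neg N (X' (-(X' (Y w))))]
    exact e1.symm
  have eK := even_finrank_of_sq_eq_neg_one hsq Y hY _ hK
  have eI := even_finrank_of_sq_eq_neg_one hsq Y hY _ hI
  have eI2 := even_finrank_of_sq_eq_neg_one hsq Y hY _ hI2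
  have hsum := LinearMap.finrank_range_add_finrank_ker N
  rw [h4] at hsum
  have hNne : N ≠ 0 := by
    intro h0
    apply hX1
    rw [hNdef] at h0
    exact sub_eq_zero.mp h0
  have hI0 : Module.finrank F (LinearMap.range N) ≠ 0 := by
    intro h0
    rw [Submodule.finrank_eq_zero, LinearMap.range_eq_bot] at h0
    exact hNne h0
  have hK0 : Module.finrank F (LinearMap.ker N) ≠ 0 := by
    intro h0
    rw [Submodule.finrank_eq_zero] at h0
    apply hNne
    apply LinearMap.ext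
    intro v
    have h1 : N (N v) ∈ LinearMap.ker N := LinearMap.mem_ker.mpr (hN3 v)
    rw [h0, Submodule.mem_bot] at h1
    have h2 : N v ∈ LinearMap.ker N := LinearMap.mem_ker.mpr h1
    rw [h0, Submodule.mem_bot] at h2
    rw [h2]
    rfl
  obtain ⟨k1, hk1⟩ := eK
  obtain ⟨k2, hk2⟩ := eI
  obtain ⟨k3, hk3⟩ := eI2
  have hdK : Module.finrank F (LinearMap.ker N) = 2 := by omega
  have hdI : Module.finrank F (LinearMap.range N) = 2 := by omega
  have hle : LinearMap.range (N * N) ≤ LinearMap.range N := by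
    rintro u ⟨w, rfl⟩
    exact LinearMap.mem_range.mpr ⟨N w, rfl⟩
  have hmono := Submodule.finrank_mono hle
  have hI2ne : Module.finrank F (LinearMap.range (N * N)) ≠ 2 := by
    intro h2
    have heq : LinearMap.range (N * N) = LinearMap.range N :=
      Submodule.eq_of_le_of_finrank_eq hle (by rw [h2, hdI])
    have hNN : N * N = 0 := by
      apply LinearMap.ext
      intro w
      have hw : N w ∈ LinearMap.range (N * N) := by
        rw [heq]; exact LinearMap.mem_range_self N w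
      obtain ⟨w', hw'⟩ := LinearMap.mem_range.mp hw
      show N (N w) = 0
      rw [← hw']
      exact hN3 w'
    rw [hNN, LinearMap.range_zero, finrank_bot] at h2
    omega
  have hI20 : Module.finrank F (LinearMap.range (N * N)) = 0 := by omega
  rw [Submodule.finrank_eq_zero, LinearMap.range_eq_bot] at hI20
  have hle2 : LinearMap.range N ≤ LinearMap.ker N := by
    rintro u ⟨w, rfl⟩
    rw [LinearMap.mem_ker]
    exact LinearMap.congr_fun hI20 w
  refine ⟨hdK, ?_⟩
  exact (Submodule.eq_of_le_of_finrank_eq hle2 (by rw [hdK, hdI])).symm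

end linalg

section grp

variable {K : Type*} [Field K]

/-- upper unitriangular element. -/
def uu (t : K) : Matrix.SpecialLinearGroup (Fin 2) K :=
  ⟨!![1, t; 0, 1], by rw [Matrix.det_fin_two_of]; ring⟩

/-- explicit element of `SL₂`. -/
def mk2 (a b c d : K) (h : a * d - b * c = 1) : Matrix.SpecialLinearGroup (Fin 2) K :=
  ⟨!![a, b; c, d], by rw [Matrix.det_fin_two_of]; exact h⟩

theorem mat_ext (a₁ a₂ a₃ a₄ b₁ b₂ b₃ b₄ : K) (h1 : a₁ = b₁) (h2 : a₂ = b₂) (h3 : a₃ = b₃)
    (h4 : a₄ = b₄) : (!![a₁, a₂; a₃, a₄] : Matrix (Fin 2) (Fin 2) K) = !![b₁, b₂; b₃, b₄] := by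
  subst h1 h2 h3 h4
  rfl

theorem uu_mul (s t : K) : uu s * uu t = uu (s + t) := by
  apply Subtype.ext
  rw [Matrix.SpecialLinearGroup.coe_mul]
  show (!![1, s; 0, 1] : Matrix (Fin 2) (Fin 2) K) * !![1, t; 0, 1] = !![1, s + t; 0, 1]
  rw [Matrix.mul_fin_two]
  apply mat_ext <;> ring

theorem uu_zero : uu (0 : K) = 1 := by
  apply Subtype.ext
  show (!![1, 0; 0, 1] : Matrix (Fin 2) (Fin 2) K) = 1
  exact Matrix.one_fin_two.symm

theorem uu_pow (n : ℕ) : (uu (1 : K)) ^ n = uu (n : K) := by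
  induction n with
  | zero => rw [pow_zero, Nat.cast_zero, uu_zero]
  | succ n ih => rw [pow_succ, ih, uu_mul, Nat.cast_succ]

theorem sl2_five [Fintype K] (hK : Fintype.card K = 5)
    (x : Matrix.SpecialLinearGroup (Fin 2) K) :
    ∃ y z g : Matrix.SpecialLinearGroup (Fin 2) K, y * y = z ∧ y * x = x⁻¹ * y ∧ z ≠ 1 ∧
      z * z = 1 ∧ z * g = g * z ∧ g ^ 5 = 1 ∧ g ≠ 1 := by
  classical
  let e : ZMod 5 ≃+* K := ZMod.ringEquivOfPrime K (by norm_num) hK
  haveI : Fact (Nat.Prime 5) := ⟨by norm_num⟩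
  haveI : CharP K 5 := charP_of_card_eq_prime hK
  have h5 : ((5 : ℕ) : K) = 0 := CharP.cast_eq_zero K 5
  have hne : (-1 : K) ≠ 1 := by
    intro h
    have h2 : e.symm (-1) = e.symm 1 := by rw [h]
    rw [map_neg, map_one] at h2
    exact zmod5_neg_one h2
  have h10 : (1 : K) ≠ 0 := one_ne_zero
  obtain ⟨a, b, c, d, hxe, hdet⟩ : ∃ a b c d : K,
      (x : Matrix (Fin 2) (Fin 2) K) = !![a, b; c, d] ∧ a * d - b * c = 1 := by
    refine ⟨x.1 0 0, x.1 0 1, x.1 1 0, x.1 1 1, Matrix.eta_fin_two _, ?_⟩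
    have h := x.2
    rw [Matrix.det_fin_two] at h
    exact h
  obtain ⟨p', q', r', h1', h2'⟩ :=
    zmod5_key (e.symm a) (e.symm b) (e.symm c) (e.symm d) (by
      rw [← map_mul, ← map_mul, ← map_sub, hdet, map_one])
  obtain ⟨p, hp⟩ : ∃ p : K, p = e p' := ⟨_, rfl⟩
  obtain ⟨q, hq⟩ : ∃ q : K, q = e q' := ⟨_, rfl⟩
  obtain ⟨r, hr⟩ : ∃ r : K, r = e r' := ⟨_, rfl⟩
  have h1 : -(p * p) - q * r = 1 := by
    have h := congrArg e h1'
    rw [hp, hq, hr]
    simpa using h
  have h2 : (a - d) * p + b * r + c * q = 0 := by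
    have h := congrArg e h2'
    rw [hp, hq, hr]
    simpa using h
  refine ⟨mk2 p q r (-p) (by linear_combination h1), mk2 (-1) 0 0 (-1) (by ring), uu 1,
    ?_, ?_, ?_, ?_, ?_, ?_, ?_⟩
  · apply Subtype.ext
    rw [Matrix.SpecialLinearGroup.coe_mul]
    show (!![p, q; r, -p] : Matrix (Fin 2) (Fin 2) K) * !![p, q; r, -p] = !![-1, 0; 0, -1]
    rw [Matrix.mul_fin_two]
    apply mat_ext
    · linear_combination -h1
    · ring
    · ring
    · linear_combination -h1
  · apply Subtype.ext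
    rw [Matrix.SpecialLinearGroup.coe_mul, Matrix.SpecialLinearGroup.coe_mul,
      Matrix.SpecialLinearGroup.coe_inv, hxe, Matrix.adjugate_fin_two_of]
    show (!![p, q; r, -p] : Matrix (Fin 2) (Fin 2) K) * !![a, b; c, d] =
      !![d, -b; -c, a] * !![p, q; r, -p]
    rw [Matrix.mul_fin_two, Matrix.mul_fin_two]
    apply mat_ext
    · linear_combination h2
    · ring
    · ring
    · linear_combination h2
  · intro h
    have h00 := congrArg (fun m : Matrix.SpecialLinearGroup (Fin 2) K => m.1 0 0) h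
    simp [mk2] at h00
    exact hne h00
  · apply Subtype.ext
    rw [Matrix.SpecialLinearGroup.coe_mul]
    show (!![-1, 0; 0, -1] : Matrix (Fin 2) (Fin 2) K) * !![-1, 0; 0, -1] = 1
    rw [Matrix.mul_fin_two, Matrix.one_fin_two]
    apply mat_ext <;> ring
  · apply Subtype.ext
    rw [Matrix.SpecialLinearGroup.coe_mul, Matrix.SpecialLinearGroup.coe_mul]
    show (!![-1, 0; 0, -1] : Matrix (Fin 2) (Fin 2) K) * !![1, 1; 0, 1] =
      !![1, 1; 0, 1] * !![-1, 0; 0, -1]
    rw [Matrix.mul_fin_two, Matrix.mul_fin_two]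
    apply mat_ext <;> ring
  · rw [uu_pow, h5, uu_zero]
  · intro h
    have h01 := congrArg (fun m : Matrix.SpecialLinearGroup (Fin 2) K => m.1 0 1) h
    simp [uu] at h01

end grp

/-- the representation on `F⁴`. -/
noncomputable def rho {F K : Type*} [Field F] [Field K]
    (φ : Matrix.SpecialLinearGroup (Fin 2) K →* ↥(Matrix.symplecticGroup (Fin 2) F)) :
    Matrix.SpecialLinearGroup (Fin 2) K →* Module.End F (Fin 2 ⊕ Fin 2 → F) where
  toFun g := Matrix.toLin' ((φ g : Matrix (Fin 2 ⊕ Fin 2) (Fin 2 ⊕ Fin 2) F))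
  map_one' := by
    rw [map_one]
    exact Matrix.toLin'_one
  map_mul' g h := by
    rw [map_mul]
    exact Matrix.toLin'_mul _ _

/-- Let F be the field with 3 elements and K the field with 5 elements. For every injective homomorphism φ from SL₂(K) into the symplectic group Sp₄(F) (4 × 4 matrices g with g J gᵀ = J for the standard alternating matrix J) and every element x of order 3 of SL₂(K), the vectors of F⁴ fixed by φ(x) form a 2-dimensional subspace that is totally isotropic for the alternating form defined by J. -/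
theorem result {F : Type*} [Field F] [Fintype F] (hF : Fintype.card F = 3)
    {K : Type*} [Field K] [Fintype K] (hK : Fintype.card K = 5)
    (φ : Matrix.SpecialLinearGroup (Fin 2) K →* ↥(Matrix.symplecticGroup (Fin 2) F)) (hφ : Function.Injective φ)
    (x : Matrix.SpecialLinearGroup (Fin 2) K) (hx : orderOf x = 3) :
    Module.finrank F ↥(LinearMap.ker (Matrix.toLin' ((φ x : Matrix (Fin 2 ⊕ Fin 2) (Fin 2 ⊕ Fin 2) F)) - LinearMap.id)) = 2 ∧
      ∀ v w : Fin 2 ⊕ Fin 2 → F, (φ x : Matrix (Fin 2 ⊕ Fin 2) (Fin 2 ⊕ Fin 2) F).mulVec v = v →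
        (φ x : Matrix (Fin 2 ⊕ Fin 2) (Fin 2 ⊕ Fin 2) F).mulVec w = w →
          dotProduct v ((Matrix.J (Fin 2) F).mulVec w) = 0 := by
  classical
  haveI : Fact (Nat.Prime 3) := ⟨by norm_num⟩
  haveI : CharP F 3 := charP_of_card_eq_prime hF
  have h3 : (3 : F) = 0 := by exact_mod_cast CharP.cast_eq_zero F 3
  have hsq : ∀ a : F, a * a ≠ -1 := by
    intro a h
    let e3 : ZMod 3 ≃+* F := ZMod.ringEquivOfPrime F (by norm_num) hF
    have h2 : e3.symm a * e3.symm a = -1 := by rw [← map_mul, h, map_neg, map_one]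
    exact zmod3_sq _ h2
  have h4 : Module.finrank F (Fin 2 ⊕ Fin 2 → F) = 4 := by simp
  obtain ⟨y, z, g, hyy, hyx, hz1, hzz, hzg, hg5, hg1⟩ := sl2_five hK x
  have hinj : ∀ a b : Matrix.SpecialLinearGroup (Fin 2) K, rho φ a = rho φ b → a = b := by
    intro a b hab
    have h1 : Matrix.toLin' ((φ a : Matrix (Fin 2 ⊕ Fin 2) (Fin 2 ⊕ Fin 2) F)) =
        Matrix.toLin' ((φ b : Matrix (Fin 2 ⊕ Fin 2) (Fin 2 ⊕ Fin 2) F)) := hab
    exact hφ (Subtype.ext (Matrix.toLin'.injective h1))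
  have hx3 : x * x * x = 1 := by
    rw [← pow_orderOf_eq_one x, hx, pow_succ, pow_succ, pow_one]
  have hx1 : x ≠ 1 := by
    intro h
    rw [h, orderOf_one] at hx
    omega
  -- the central involution acts as -1
  have hZneg : ∀ v, rho φ z v = -v := by
    apply central_invol_neg hF h4 (rho φ g) (rho φ z)
    · rw [← map_pow, hg5, map_one]
    · intro h
      apply hg1
      apply hinj
      rw [h, map_one]
    · intro v
      have h : rho φ z * rho φ z = 1 := by rw [← map_mul, hzz, map_one]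
      exact LinearMap.congr_fun h v
    · intro h
      apply hz1
      apply hinj
      rw [h, map_one]
    · intro v
      have h : rho φ z * rho φ g = rho φ g * rho φ z := by rw [← map_mul, ← map_mul, hzg]
      exact LinearMap.congr_fun h v
  have hmain := jordan22 h4 hsq h3 (rho φ x) (rho φ x⁻¹) (rho φ y)
    (by
      intro v
      have h : rho φ x * rho φ x⁻¹ = 1 := by rw [← map_mul, mul_inv_cancel, map_one]
      exact LinearMap.congr_fun h v)
    (by
      intro v
      have h : rho φ x⁻¹ * rho φ x = 1 := by rw [← map_mul, inv_mul_cancel, map_one]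
      exact LinearMap.congr_fun h v)
    (by
      intro v
      have h : rho φ x * rho φ x * rho φ x = 1 := by rw [← map_mul, ← map_mul, hx3, map_one]
      have h' := LinearMap.congr_fun h v
      exact h')
    (by
      intro h
      apply hx1
      apply hinj
      rw [h, map_one])
    (by
      intro v
      have h : rho φ y * rho φ y = rho φ z := by rw [← map_mul, hyy]
      have h' := LinearMap.congr_fun h v
      rw [hZneg] at h'
      exact h')
    (by
      intro v
      have h : rho φ y * rho φ x = rho φ x⁻¹ * rho φ y := by rw [← map_mul, ← map_mul, hyx]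
      exact LinearMap.congr_fun h v)
  obtain ⟨hdim, hKI⟩ := hmain
  refine ⟨hdim, ?_⟩
  intro v w hv hw
  have hsymp : ((φ x : Matrix (Fin 2 ⊕ Fin 2) (Fin 2 ⊕ Fin 2) F))ᵀ * Matrix.J (Fin 2) F *
      (φ x : Matrix (Fin 2 ⊕ Fin 2) (Fin 2 ⊕ Fin 2) F) = Matrix.J (Fin 2) F :=
    SymplecticGroup.mem_iff'.mp (φ x).2
  have hwK : w ∈ LinearMap.ker (rho φ x - 1) := by
    rw [LinearMap.mem_ker, LinearMap.sub_apply, Module.End.one_apply]
    show Matrix.toLin' ((φ x : Matrix (Fin 2 ⊕ Fin 2) (Fin 2 ⊕ Fin 2) F)) w - w = 0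
    rw [Matrix.toLin'_apply, hw, sub_self]
  rw [hKI] at hwK
  obtain ⟨u, hu⟩ := LinearMap.mem_range.mp hwK
  have hu' : (φ x : Matrix (Fin 2 ⊕ Fin 2) (Fin 2 ⊕ Fin 2) F).mulVec u - u = w := by
    rw [← hu, LinearMap.sub_apply, Module.End.one_apply]
    show _ = Matrix.toLin' ((φ x : Matrix (Fin 2 ⊕ Fin 2) (Fin 2 ⊕ Fin 2) F)) u - u
    rw [Matrix.toLin'_apply]
  obtain ⟨M, hM⟩ : ∃ M : Matrix (Fin 2 ⊕ Fin 2) (Fin 2 ⊕ Fin 2) F,
      M = (φ x : Matrix (Fin 2 ⊕ Fin 2) (Fin 2 ⊕ Fin 2) F) := ⟨_, rfl⟩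
  rw [← hM] at hsymp hv hu'
  have hcalc : v ⬝ᵥ (Matrix.J (Fin 2) F *ᵥ (M *ᵥ u)) = v ⬝ᵥ (Matrix.J (Fin 2) F *ᵥ u) := by
    calc v ⬝ᵥ (Matrix.J (Fin 2) F *ᵥ (M *ᵥ u))
        = (M *ᵥ v) ⬝ᵥ (Matrix.J (Fin 2) F *ᵥ (M *ᵥ u)) := by rw [hv]
      _ = (v ᵥ* Mᵀ) ⬝ᵥ (Matrix.J (Fin 2) F *ᵥ (M *ᵥ u)) := by rw [Matrix.vecMul_transpose]
      _ = v ⬝ᵥ (Mᵀ *ᵥ (Matrix.J (Fin 2) F *ᵥ (M *ᵥ u))) :=
          (Matrix.dotProduct_mulVec v Mᵀ _).symm
      _ = v ⬝ᵥ ((Mᵀ * Matrix.J (Fin 2) F * M) *ᵥ u) := by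
          rw [Matrix.mulVec_mulVec, Matrix.mulVec_mulVec]
      _ = v ⬝ᵥ (Matrix.J (Fin 2) F *ᵥ u) := by rw [hsymp]
  rw [← hu', Matrix.mulVec_sub, dotProduct_sub, hcalc, sub_self]

end Cfsg.Agent.S3213
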